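import Mathlib
import Groth.Prelude.Def_FlatCA
import Groth.Agent.Lib.Helper6SmNorm
import Groth.Agent.Lib.H6xDevAt

/-!
# Base change of a complete dévissage: abstract lemmas (helper6, S12243)
-/

set_option autoImplicit false
universe u
open TensorProduct

namespace Groth.Agent.Lib.H6xDevBC

/-- a field is a normal ring -/
theorem isNormalRing_of_field (A : Type u) [Field A] : EGA4.IsNormalRing A := by
  intro p hp
  have hle : p.primeCompl ≤ IsUnit.submonoid A := by
    intro x hx
    have : x ≠ 0 := fun h => hx (h ▸ p.zero_mem)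
    exact isUnit_iff_ne_zero.mpr this
  let e : A ≃ₐ[A] Localization.AtPrime p := IsLocalization.atUnits A p.primeCompl hle
  exact ⟨e.symm.toMulEquiv.isDomain _, IsIntegrallyClosed.of_equiv e.toRingEquiv⟩

/-- a normal ring is reduced -/
theorem isReduced_of_isNormalRing (A : Type u) [CommRing A] (h : EGA4.IsNormalRing A) :
    IsReduced A := by
  refine isReduced_ofLocalizationMaximal A fun J hJ => ?_
  haveI := (h J).1
  infer_instance

section Prime

attribute [local instance] Algebra.TensorProduct.rightAlgebra

variable (R' T : Type u) [CommRing R'] [CommRing T] [Algebra R' T]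

/-- the fibre ring of a smooth algebra with geometrically irreducible fibres is a domain. -/
theorem isDomain_fibre_of_smooth_geomIrred [Algebra.Smooth R' T]
    (h : FlatCA.GeomIrredFibres R' T) (K : Type u) [Field K] [Algebra R' K] :
    IsDomain (K ⊗[R'] T) := by
  have hN : EGA4.IsNormalRing (K ⊗[R'] T) :=
    Groth.Agent.Lib.Helper6.SmNorm.isNormalRing_of_smooth K (K ⊗[R'] T) (isNormalRing_of_field K)
  haveI := isReduced_of_isNormalRing _ hN
  have hpo := CommRingCat.isPushout_of_isPushout R' K T (K ⊗[R'] T)
  have hpb := (AlgebraicGeometry.isPullback_SpecMap_of_isPushout _ _ _ _ hpo).flip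
  have hirr : IrreducibleSpace (AlgebraicGeometry.Spec (CommRingCat.of (K ⊗[R'] T))) :=
    h.geometrically_irreducibleSpace _ _ _ hpb
  have hirr' : IrreducibleSpace (PrimeSpectrum (K ⊗[R'] T)) := hirr
  rw [PrimeSpectrum.irreducibleSpace_iff_isPrime_nilradical, nilradical_eq_zero] at hirr'
  haveI : Nontrivial (K ⊗[R'] T) := by
    by_contra hn
    rw [not_nontrivial_iff_subsingleton] at hn
    exact hirr'.ne_top (Subsingleton.elim _ _)
  haveI : NoZeroDivisors (K ⊗[R'] T) := ⟨fun {a b} hab => by
    have := hirr'.mem_or_mem (show a * b ∈ (⊥ : Ideal (K ⊗[R'] T)) by simpa using hab)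
    simpa using this⟩
  exact NoZeroDivisors.to_isDomain _

/-- kernel of `T → K ⊗ T` for a flat `R'`-algebra `T` and `K` the residue field at `p'`. -/
theorem ker_includeRight_residueField [Module.Flat R' T] (p' : Ideal R') [p'.IsPrime] :
    RingHom.ker (Algebra.TensorProduct.includeRight (R := R') (A := p'.ResidueField)
      (B := T)).toRingHom = p'.map (algebraMap R' T) := by
  apply le_antisymm
  · intro t ht
    rw [RingHom.mem_ker] at ht
    have ht' : (1 : p'.ResidueField) ⊗ₜ[R'] t = 0 := ht
    let ι : (R' ⧸ p') →ₗ[R'] p'.ResidueField :=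
      (IsScalarTower.toAlgHom R' (R' ⧸ p') p'.ResidueField).toLinearMap
    have hinj : Function.Injective ι := p'.injective_algebraMap_quotient_residueField
    have hinj' := Module.Flat.rTensor_preserves_injective_linearMap (M := T) ι hinj
    have h0 : (1 : R' ⧸ p') ⊗ₜ[R'] t = 0 := by
      apply hinj'
      rw [LinearMap.rTensor_tmul, map_zero]
      have : ι 1 = 1 := map_one (algebraMap (R' ⧸ p') p'.ResidueField)
      rw [this, ht']
    have h1 := congrArg (TensorProduct.quotTensorEquivQuotSMul T p') h0
    rw [TensorProduct.quotTensorEquivQuotSMul_mk_one_tmul, map_zero,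
      Submodule.Quotient.mk_eq_zero, Ideal.smul_top_eq_map] at h1
    exact h1
  · rw [Ideal.map_le_iff_le_comap]
    intro r hr
    rw [Ideal.mem_comap, RingHom.mem_ker]
    change (1 : p'.ResidueField) ⊗ₜ[R'] (algebraMap R' T r) = 0
    rw [Algebra.algebraMap_eq_smul_one, ← TensorProduct.smul_tmul, Algebra.smul_def, mul_one,
      Ideal.algebraMap_residueField_eq_zero.mpr hr, TensorProduct.zero_tmul]

/-- `p' T` is prime for `T` smooth over `R'` with geometrically irreducible fibres. -/
theorem isPrime_map_of_smooth_geomIrred [Algebra.Smooth R' T]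
    (h : FlatCA.GeomIrredFibres R' T) (p' : Ideal R') [p'.IsPrime] :
    (p'.map (algebraMap R' T)).IsPrime := by
  haveI := isDomain_fibre_of_smooth_geomIrred R' T h p'.ResidueField
  rw [← ker_includeRight_residueField R' T p']
  exact RingHom.ker_isPrime _

end Prime

section LiesOver

variable (R R' B T : Type u) [CommRing R] [CommRing R'] [CommRing B] [CommRing T]
  [Algebra R R'] [Algebra R B] [Algebra R' T] [Algebra B T] [Algebra R T]
  [IsScalarTower R R' T] [IsScalarTower R B T] [Algebra.IsPushout R R' B T]

include R in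
/-- for `B` flat over `R` and `T = R' ⊗ B`, `p' T ∩ B = p B`. -/
theorem comap_map_eq_of_flat [Module.Flat R B] (p : Ideal R) (p' : Ideal R') [p'.LiesOver p] :
    (p'.map (algebraMap R' T)).comap (algebraMap B T) = p.map (algebraMap R B) := by
  haveI hpo : Algebra.IsPushout R B R' T := Algebra.IsPushout.symm inferInstance
  apply le_antisymm
  · intro b hb
    rw [Ideal.mem_comap] at hb
    have h1 : (algebraMap B T b) ⊗ₜ[R'] (1 : R' ⧸ p') = 0 := by
      apply (TensorProduct.tensorQuotEquivQuotSMul T p').injective
      rw [← map_one (Ideal.Quotient.mk p'), TensorProduct.tensorQuotEquivQuotSMul_tmul_mk,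
        one_smul, map_zero, Submodule.Quotient.mk_eq_zero, Ideal.smul_top_eq_map]
      exact hb
    have h2 : b ⊗ₜ[R] (1 : R' ⧸ p') = 0 := by
      apply (Algebra.IsPushout.cancelBaseChange R B R' T (R' ⧸ p')).symm.injective
      rw [Algebra.IsPushout.cancelBaseChange_symm_tmul, h1, map_zero]
    have hle : p ≤ p'.comap (Algebra.ofId R R') := by
      rw [(Ideal.LiesOver.over (p := p) (P := p'))]; exact le_rfl
    let ι : (R ⧸ p) →ₗ[R] (R' ⧸ p') := (Ideal.quotientMapₐ p' (Algebra.ofId R R') hle).toLinearMap
    have hge : p'.comap (Algebra.ofId R R' : R →+* R') ≤ p := by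
      intro x hx
      rw [(Ideal.LiesOver.over (p := p) (P := p'))]
      exact hx
    have hinj : Function.Injective ι :=
      Ideal.quotientMap_injective' (f := (Algebra.ofId R R' : R →+* R')) (H := hle) hge
    have hinj' := Module.Flat.lTensor_preserves_injective_linearMap (M := B) ι hinj
    have h3 : b ⊗ₜ[R] (1 : R ⧸ p) = 0 := by
      apply hinj'
      rw [LinearMap.lTensor_tmul, map_zero]
      have : ι 1 = 1 := map_one (Ideal.quotientMapₐ p' (Algebra.ofId R R') hle)
      rw [this, h2]
    have h4 := congrArg (TensorProduct.tensorQuotEquivQuotSMul B p) h3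
    rw [← map_one (Ideal.Quotient.mk p), TensorProduct.tensorQuotEquivQuotSMul_tmul_mk,
      one_smul, map_zero, Submodule.Quotient.mk_eq_zero, Ideal.smul_top_eq_map] at h4
    exact h4
  · rw [Ideal.map_le_iff_le_comap]
    intro r hr
    rw [Ideal.mem_comap, Ideal.mem_comap, ← IsScalarTower.algebraMap_apply,
      IsScalarTower.algebraMap_apply R R' T]
    apply Ideal.mem_map_of_mem
    rw [(Ideal.LiesOver.over (p := p) (P := p'))] at hr
    exact hr

end LiesOver



section Fibre

variable {B : Type u} [CommRing B] {M : Type u} [AddCommGroup M] [Module B M]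

/-- bijectivity of the base change of `α : B^r → M` to `K` means that the images of the standard
basis vectors form a basis of `K ⊗ M`. -/
theorem baseChange_bijective_iff_basis (K : Type u) [CommRing K] [Algebra B K] (r : ℕ)
    (α : (Fin r → B) →ₗ[B] M) :
    Function.Bijective (α.baseChange K) ↔
      ∃ b : Module.Basis (Fin r) K (K ⊗[B] M), ∀ j, b j = 1 ⊗ₜ[B] α (Pi.single j 1) := by
  constructor
  · intro h
    let e : (Fin r → K) ≃ₗ[K] K ⊗[B] M :=
      (TensorProduct.piScalarRight B K K (Fin r)).symm ≪≫ₗ LinearEquiv.ofBijective _ h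
    refine ⟨Module.Basis.ofEquivFun e.symm, fun j => ?_⟩
    rw [Module.Basis.coe_ofEquivFun, LinearEquiv.symm_symm]
    change LinearEquiv.ofBijective _ h ((TensorProduct.piScalarRight B K K (Fin r)).symm _) = _
    rw [TensorProduct.piScalarRight_symm_single, LinearEquiv.ofBijective_apply,
      LinearMap.baseChange_tmul]
  · rintro ⟨b, hb⟩
    have : α.baseChange K = (b.equivFun.symm.toLinearMap).comp
        (TensorProduct.piScalarRight B K K (Fin r)).toLinearMap := by
      apply TensorProduct.AlgebraTensorModule.curry_injective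
      ext j
      simp only [TensorProduct.AlgebraTensorModule.curry_apply, LinearMap.coe_comp,
        Function.comp_apply, LinearMap.coe_single, TensorProduct.curry_apply,
        LinearMap.coe_restrictScalars, LinearMap.baseChange_tmul, LinearEquiv.coe_coe,
        TensorProduct.piScalarRight_apply, TensorProduct.piScalarRightHom_tmul]
      rw [← hb j]
      have : (fun j_1 => (Pi.single j (1 : B) : Fin r → B) j_1 • (1 : K)) =
          Pi.single j (1 : K) := by
        funext i
        by_cases hij : i = j
        · subst hij; simp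
        · simp [Pi.single_eq_of_ne hij]
      rw [this, Module.Basis.equivFun_symm_apply]
      simp [Pi.single_apply]
    rw [this]
    exact (b.equivFun.symm.bijective).comp (TensorProduct.piScalarRight B K K (Fin r)).bijective

/-- the basis property is independent of the model of the base change. -/
theorem exists_basis_of_isBaseChange {K : Type u} [CommRing K] [Algebra B K]
    {Q₁ Q₂ : Type u} [AddCommGroup Q₁] [Module K Q₁] [Module B Q₁] [IsScalarTower B K Q₁]
    [AddCommGroup Q₂] [Module K Q₂] [Module B Q₂] [IsScalarTower B K Q₂]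
    (h₁ : M →ₗ[B] Q₁) (hb₁ : IsBaseChange K h₁) (h₂ : M →ₗ[B] Q₂) (hb₂ : IsBaseChange K h₂)
    {r : ℕ} (v : Fin r → M)
    (H : ∃ b : Module.Basis (Fin r) K Q₁, ∀ j, b j = h₁ (v j)) :
    ∃ b : Module.Basis (Fin r) K Q₂, ∀ j, b j = h₂ (v j) := by
  obtain ⟨b, hb⟩ := H
  refine ⟨b.map (hb₁.equiv.symm ≪≫ₗ hb₂.equiv), fun j => ?_⟩
  rw [Module.Basis.map_apply, hb j, LinearEquiv.trans_apply, hb₁.equiv_symm_apply,
    hb₂.equiv_tmul, one_smul]

/-- bijectivity on the fibre at a prime is preserved by base change. -/
theorem fibre_bijective_baseChange {B B' : Type u} [CommRing B] [CommRing B'] [Algebra B B']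
    {M M' : Type u} [AddCommGroup M] [Module B M] [AddCommGroup M'] [Module B' M'] [Module B M']
    [IsScalarTower B B' M']
    (g : M →ₗ[B] M') (hg : IsBaseChange B' g) (r : ℕ)
    (α : (Fin r → B) →ₗ[B] M) (α' : (Fin r → B') →ₗ[B'] M')
    (hα : ∀ j, α' (Pi.single j 1) = g (α (Pi.single j 1)))
    (q : Ideal B) [q.IsPrime] (q' : Ideal B') [q'.IsPrime] [q'.LiesOver q]
    (h : Function.Bijective (α.baseChange q.ResidueField)) :
    Function.Bijective (α'.baseChange q'.ResidueField) := by
  letI : Algebra q.ResidueField q'.ResidueField :=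
    (Ideal.ResidueField.mapₐ q q' (Algebra.ofId B B') (q'.over_def q)).toRingHom.toAlgebra
  haveI : IsScalarTower B q.ResidueField q'.ResidueField := .of_algebraMap_eq fun x =>
    ((Ideal.ResidueField.mapₐ q q' (Algebra.ofId B B') (q'.over_def q)).commutes x).symm
  obtain ⟨b, hb⟩ := (baseChange_bijective_iff_basis q.ResidueField r α).mp h
  have hb1 := IsBaseChange.comp (TensorProduct.isBaseChange B M q.ResidueField)
    (TensorProduct.isBaseChange q.ResidueField (q.ResidueField ⊗[B] M) q'.ResidueField)
  have hb2 := IsBaseChange.comp hg (TensorProduct.isBaseChange B' M' q'.ResidueField)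
  have H1 : ∃ b' : Module.Basis (Fin r) q'.ResidueField
      (q'.ResidueField ⊗[q.ResidueField] (q.ResidueField ⊗[B] M)),
      ∀ j, b' j = (((TensorProduct.mk q.ResidueField q'.ResidueField
        (q.ResidueField ⊗[B] M) 1).restrictScalars B).comp
        (TensorProduct.mk B q.ResidueField M 1)) (α (Pi.single j 1)) := by
    refine ⟨b.baseChange q'.ResidueField, fun j => ?_⟩
    rw [Module.Basis.baseChange_apply, hb j]
    rfl
  obtain ⟨b₂, hb₂⟩ := exists_basis_of_isBaseChange _ hb1 _ hb2 (fun j => α (Pi.single j 1)) H1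
  refine (baseChange_bijective_iff_basis q'.ResidueField r α').mpr ⟨b₂, fun j => ?_⟩
  rw [hb₂ j, hα j]
  rfl

end Fibre



section Coker

variable {B B' : Type u} [CommRing B] [CommRing B'] [Algebra B B']
  {M M' : Type u} [AddCommGroup M] [Module B M] [AddCommGroup M'] [Module B' M'] [Module B M']
  [IsScalarTower B B' M']

/-- the image of a `B`-span is contained in the `B'`-span of the image. -/
theorem image_span_subset_span (g : M →ₗ[B] M') (s : Set M) :
    g '' (Submodule.span B s : Set M) ⊆ (Submodule.span B' (g '' s) : Set M') := by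
  rintro _ ⟨x, hx, rfl⟩
  induction hx using Submodule.span_induction with
  | mem y hy => exact Submodule.subset_span ⟨y, hy, rfl⟩
  | zero => rw [map_zero]; exact zero_mem _
  | add y z _ _ hy hz => rw [map_add]; exact add_mem hy hz
  | smul a y _ hy =>
    rw [map_smul, ← algebraMap_smul B' a (g y)]
    exact Submodule.smul_mem _ _ hy

/-- range of the base-changed map from a free module. -/
theorem range_eq_span_image (g : M →ₗ[B] M') (r : ℕ) (α : (Fin r → B) →ₗ[B] M)
    (α' : (Fin r → B') →ₗ[B'] M') (hα : ∀ j, α' (Pi.single j 1) = g (α (Pi.single j 1))) :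
    LinearMap.range α' = Submodule.span B' (g '' (LinearMap.range α : Set M)) := by
  have h1 : LinearMap.range α' = Submodule.span B' (Set.range fun j => α' (Pi.single j 1)) := by
    have : α' = Fintype.linearCombination B' (fun j => α' (Pi.single j 1)) := by
      apply LinearMap.pi_ext'
      intro j
      ext
      simp [Fintype.linearCombination_apply_single]
    conv_lhs => rw [this]
    exact Fintype.range_linearCombination B' _
  have h2 : LinearMap.range α = Submodule.span B (Set.range fun j => α (Pi.single j 1)) := by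
    have : α = Fintype.linearCombination B (fun j => α (Pi.single j 1)) := by
      apply LinearMap.pi_ext'
      intro j
      ext
      simp [Fintype.linearCombination_apply_single]
    conv_lhs => rw [this]
    exact Fintype.range_linearCombination B _
  rw [h1]
  apply le_antisymm
  · rw [Submodule.span_le]
    rintro _ ⟨j, rfl⟩
    exact Submodule.subset_span ⟨α (Pi.single j 1), ⟨_, rfl⟩, (hα j).symm⟩
  · rw [Submodule.span_le, h2]
    refine (image_span_subset_span (B' := B') g _).trans ?_
    apply Submodule.span_mono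
    rintro _ ⟨_, ⟨j, rfl⟩, rfl⟩
    exact ⟨j, hα j⟩

/-- the base change of a cokernel identification. -/
theorem nonempty_coker_equiv (g : M →ₗ[B] M') (hg : IsBaseChange B' g)
    {P P' : Type u} [AddCommGroup P] [Module B P] [AddCommGroup P'] [Module B' P'] [Module B P']
    [IsScalarTower B B' P'] (g₂ : P →ₗ[B] P') (hg₂ : IsBaseChange B' g₂)
    (N : Submodule B M) (e : (M ⧸ N) ≃ₗ[B] P) :
    Nonempty ((M' ⧸ Submodule.span B' (g '' (N : Set M))) ≃ₗ[B'] P') := by
  set N' := Submodule.span B' (g '' (N : Set M)) with hN'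
  -- forward map
  let π : M →ₗ[B] P := e.toLinearMap.comp N.mkQ
  let π' : M' →ₗ[B'] P' := hg.lift (g₂.comp π)
  have hπ' : ∀ m, π' (g m) = g₂ (π m) := fun m => hg.lift_eq _ m
  have hle : N' ≤ LinearMap.ker π' := by
    rw [hN', Submodule.span_le]
    rintro _ ⟨m, hm, rfl⟩
    change π' (g m) = 0
    rw [hπ']
    have : π m = 0 := by
      change e (Submodule.Quotient.mk m) = 0
      rw [(Submodule.Quotient.mk_eq_zero N).mpr hm, map_zero]
    rw [this, map_zero]
  let φ : (M' ⧸ N') →ₗ[B'] P' := N'.liftQ π' hle
  -- backward map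
  have hle2 : N ≤ LinearMap.ker ((N'.mkQ.restrictScalars B).comp g) := by
    intro m hm
    change N'.mkQ (g m) = 0
    exact (Submodule.Quotient.mk_eq_zero N').mpr (Submodule.subset_span ⟨m, hm, rfl⟩)
  let ψ₀ : P →ₗ[B] (M' ⧸ N') := (N.liftQ _ hle2).comp e.symm.toLinearMap
  have hψ₀ : ∀ m, ψ₀ (π m) = N'.mkQ (g m) := by
    intro m
    change N.liftQ _ hle2 (e.symm (e (N.mkQ m))) = _
    rw [LinearEquiv.symm_apply_apply]
    rfl
  let ψ : P' →ₗ[B'] (M' ⧸ N') := hg₂.lift ψ₀
  have hψ : ∀ y, ψ (g₂ y) = ψ₀ y := fun y => hg₂.lift_eq _ y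
  have hπsurj : Function.Surjective π := e.surjective.comp N.mkQ_surjective
  refine ⟨LinearEquiv.ofLinearMap φ ψ ?_ ?_⟩
  · apply hg₂.algHom_ext
    intro y
    obtain ⟨m, rfl⟩ := hπsurj y
    change φ (ψ (g₂ (π m))) = g₂ (π m)
    rw [hψ, hψ₀]
    change π' (g m) = _
    rw [hπ']
  · apply LinearMap.ext
    intro z
    obtain ⟨x, rfl⟩ := N'.mkQ_surjective z
    change ψ (π' x) = N'.mkQ x
    have key : (ψ.comp π') = N'.mkQ := by
      apply hg.algHom_ext
      intro m
      change ψ (π' (g m)) = N'.mkQ (g m)
      rw [hπ', hψ, hψ₀]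
    exact LinearMap.congr_fun key x

/-- the image of a base change map spans. -/
theorem span_range_eq_top (g : M →ₗ[B] M') (hg : IsBaseChange B' g) :
    Submodule.span B' (Set.range g) = ⊤ := by
  rw [eq_top_iff]
  intro x _
  refine hg.inductionOn x _ (zero_mem _) (fun m => Submodule.subset_span ⟨m, rfl⟩)
    (fun s n hn => Submodule.smul_mem _ s hn) (fun a b ha hb => add_mem ha hb)

/-- surjectivity is preserved. -/
theorem surjective_of_surjective (g : M →ₗ[B] M') (hg : IsBaseChange B' g) (r : ℕ)
    (α : (Fin r → B) →ₗ[B] M) (α' : (Fin r → B') →ₗ[B'] M')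
    (hα : ∀ j, α' (Pi.single j 1) = g (α (Pi.single j 1))) (h : Function.Surjective α) :
    Function.Surjective α' := by
  rw [← LinearMap.range_eq_top, range_eq_span_image g r α α' hα, LinearMap.range_eq_top.mpr h]
  rw [Submodule.top_coe, Set.image_univ]
  exact span_range_eq_top g hg

end Coker



section Pushout

variable (R R' : Type u) [CommRing R] [CommRing R'] [Algebra R R']
  (B B' : Type u) [CommRing B] [CommRing B'] [Algebra R B] [Algebra R' B'] [Algebra R B']
  [Algebra B B'] [IsScalarTower R R' B'] [IsScalarTower R B B'] [Algebra.IsPushout R R' B B']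

/-- smoothness is stable under base change (abstract pushout form). -/
theorem smooth_of_isPushout [Algebra.Smooth R B] : Algebra.Smooth R' B' :=
  Algebra.Smooth.of_equiv (Algebra.IsPushout.equiv R R' B B')

include R B in
/-- geometric irreducibility of fibres is stable under base change. -/
theorem geomIrred_of_isPushout (h : FlatCA.GeomIrredFibres R B) : FlatCA.GeomIrredFibres R' B' := by
  have hpo := CommRingCat.isPushout_of_isPushout R R' B B'
  have hpb := (AlgebraicGeometry.isPullback_SpecMap_of_isPushout _ _ _ _ hpo).flip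
  exact CategoryTheory.MorphismProperty.of_isPullback
    (P := @AlgebraicGeometry.GeometricallyIrreducible) hpb h

variable (A A' : Type u) [CommRing A] [CommRing A'] [Algebra R A] [Algebra R' A'] [Algebra R A']
  [Algebra A A'] [IsScalarTower R R' A'] [IsScalarTower R A A'] [Algebra.IsPushout R R' A A']
  [Algebra B A] [IsScalarTower R B A] [Algebra B' A'] [IsScalarTower R' B' A']
  [Algebra B A'] [IsScalarTower B A A'] [IsScalarTower B B' A']

include R R' in
/-- the square `B → A`, `B' → A'` is a pushout. -/
theorem isPushout_step : Algebra.IsPushout B B' A A' := by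
  haveI : IsScalarTower R B' A' := .of_algebraMap_eq fun x => by
    rw [IsScalarTower.algebraMap_apply R R' A', IsScalarTower.algebraMap_apply R' B' A',
      ← IsScalarTower.algebraMap_apply R R' B']
  haveI hRB : Algebra.IsPushout R B R' B' := Algebra.IsPushout.symm inferInstance
  haveI hRA : Algebra.IsPushout R A R' A' := Algebra.IsPushout.symm inferInstance
  have hBA : Algebra.IsPushout B A B' A' := (Algebra.IsPushout.comp_iff R B R' B').mp hRA
  exact hBA.symm

include R R' in
theorem surjective_step (h : Function.Surjective (algebraMap B A)) :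
    Function.Surjective (algebraMap B' A') := by
  haveI := isPushout_step R R' B B' A A'
  intro x
  have hb : IsBaseChange B' (IsScalarTower.toAlgHom B A A').toLinearMap :=
    (inferInstance : Algebra.IsPushout B B' A A').out
  refine hb.inductionOn x _ ⟨0, by simp⟩ ?_ ?_ ?_
  · intro c
    obtain ⟨s, rfl⟩ := h c
    refine ⟨algebraMap B B' s, ?_⟩
    change _ = algebraMap A A' (algebraMap B A s)
    rw [← IsScalarTower.algebraMap_apply, ← IsScalarTower.algebraMap_apply]
  · rintro s' _ ⟨y, rfl⟩
    exact ⟨s' * y, by rw [map_mul, Algebra.smul_def]⟩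
  · rintro _ _ ⟨y, rfl⟩ ⟨z, rfl⟩
    exact ⟨y + z, map_add _ _ _⟩

include R R' in
theorem finitePresentation_step [Algebra.FinitePresentation B A] :
    Algebra.FinitePresentation B' A' := by
  haveI := isPushout_step R R' B B' A A'
  exact Algebra.FinitePresentation.equiv (Algebra.IsPushout.equiv B B' A A')

include R R' in
theorem finite_step [Module.Finite B A] : Module.Finite B' A' := by
  haveI := isPushout_step R R' B B' A A'
  exact Module.Finite.equiv (Algebra.IsPushout.equiv B B' A A').toLinearEquiv

end Pushout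

end Groth.Agent.Lib.H6xDevBC
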