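import Mathlib
import Groth.Prelude.Def_FlatCA
import Groth.Agent.Lib.H6xDevBC

set_option autoImplicit false
universe u
open TensorProduct

namespace Groth.Agent.Lib.H6xDevBC2

attribute [local instance] Algebra.TensorProduct.rightAlgebra

section Concrete

variable {R S : Type u} [CommRing R] [CommRing S] [Algebra R S] {N : Type u} [AddCommGroup N]
  [Module S N] {p : Ideal R} [p.IsPrime] (𝒟 : FlatCA.CompleteDevissage R S N p)
  (R' : Type u) [CommRing R'] [Algebra R R']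

/-- base-changed rings `A'_i` -/
abbrev gA (i : ℕ) : Type u := R' ⊗[R] 𝒟.A i
/-- honest base change of `B_i` -/
abbrev gB (i : ℕ) : Type u := R' ⊗[R] 𝒟.B i
/-- base-changed modules -/
abbrev gM (i : ℕ) : Type u := gA 𝒟 R' i ⊗[𝒟.A i] 𝒟.M i

/-- the ideal selecting the good or junk factor -/
noncomputable def K (i : ℕ) : Ideal (gB 𝒟 R' i × R') :=
  if i < 𝒟.n then Ideal.prod ⊥ ⊤ else Ideal.prod ⊤ ⊥

/-- the modified base change of `B_i`: `R' ⊗ B_i` for `i < n`, `R'` otherwise. -/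
def T (i : ℕ) : Type u := (gB 𝒟 R' i × R') ⧸ K 𝒟 R' i

noncomputable instance (i : ℕ) : CommRing (T 𝒟 R' i) :=
  inferInstanceAs (CommRing ((gB 𝒟 R' i × R') ⧸ K 𝒟 R' i))
noncomputable instance (i : ℕ) : Algebra R' (T 𝒟 R' i) :=
  inferInstanceAs (Algebra R' ((gB 𝒟 R' i × R') ⧸ K 𝒟 R' i))

/-- the quotient map -/
noncomputable def mkT (i : ℕ) : gB 𝒟 R' i × R' →ₐ[R'] T 𝒟 R' i :=
  Ideal.Quotient.mkₐ R' (K 𝒟 R' i)

lemma mkT_surjective (i : ℕ) : Function.Surjective (mkT 𝒟 R' i) :=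
  Ideal.Quotient.mkₐ_surjective R' _

/-- the map on representatives to `A'_i` -/
noncomputable def φA (i : ℕ) : gB 𝒟 R' i × R' →ₐ[R'] gA 𝒟 R' i :=
  if i < 𝒟.n then
    (Algebra.TensorProduct.map (AlgHom.id R' R')
      (IsScalarTower.toAlgHom R (𝒟.B i) (𝒟.A i))).comp (AlgHom.fst R' _ _)
  else (Algebra.ofId R' _).comp (AlgHom.snd R' _ _)

lemma φA_K (i : ℕ) : ∀ x ∈ K 𝒟 R' i, φA 𝒟 R' i x = 0 := by
  intro x hx
  unfold K at hx
  unfold φA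
  split_ifs at hx ⊢ with h
  · rw [Ideal.mem_prod] at hx
    have : x.1 = 0 := by simpa using hx.1
    simp [this]
  · rw [Ideal.mem_prod] at hx
    have : x.2 = 0 := by simpa using hx.2
    simp [this]

/-- the map `T_i → A'_i` -/
noncomputable def toA (i : ℕ) : T 𝒟 R' i →ₐ[R'] gA 𝒟 R' i :=
  Ideal.Quotient.liftₐ (K 𝒟 R' i) (φA 𝒟 R' i) (φA_K 𝒟 R' i)

/-- the map on representatives to `A'_{i+1}` -/
noncomputable def φA' (i : ℕ) : gB 𝒟 R' i × R' →ₐ[R'] gA 𝒟 R' (i + 1) :=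
  if i < 𝒟.n then
    (Algebra.TensorProduct.map (AlgHom.id R' R')
      (IsScalarTower.toAlgHom R (𝒟.B i) (𝒟.A (i + 1)))).comp (AlgHom.fst R' _ _)
  else (Algebra.ofId R' _).comp (AlgHom.snd R' _ _)

lemma φA'_K (i : ℕ) : ∀ x ∈ K 𝒟 R' i, φA' 𝒟 R' i x = 0 := by
  intro x hx
  unfold K at hx
  unfold φA'
  split_ifs at hx ⊢ with h
  · rw [Ideal.mem_prod] at hx
    have : x.1 = 0 := by simpa using hx.1
    simp [this]
  · rw [Ideal.mem_prod] at hx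
    have : x.2 = 0 := by simpa using hx.2
    simp [this]

/-- the map `T_i → A'_{i+1}` -/
noncomputable def toA' (i : ℕ) : T 𝒟 R' i →ₐ[R'] gA 𝒟 R' (i + 1) :=
  Ideal.Quotient.liftₐ (K 𝒟 R' i) (φA' 𝒟 R' i) (φA'_K 𝒟 R' i)

lemma K_good (i : ℕ) (h : i < 𝒟.n) :
    K 𝒟 R' i = RingHom.ker (AlgHom.fst R' (gB 𝒟 R' i) R') := by
  unfold K
  rw [if_pos h]
  ext x
  simp [Ideal.mem_prod, RingHom.mem_ker]

lemma K_junk (i : ℕ) (h : ¬ i < 𝒟.n) :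
    K 𝒟 R' i = RingHom.ker (AlgHom.snd R' (gB 𝒟 R' i) R') := by
  unfold K
  rw [if_neg h]
  ext x
  simp [Ideal.mem_prod, RingHom.mem_ker]

/-- for good indices `T_i` is the honest base change. -/
noncomputable def eGood (i : ℕ) (h : i < 𝒟.n) : T 𝒟 R' i ≃ₐ[R'] gB 𝒟 R' i :=
  (Ideal.quotientEquivAlgOfEq R' (K_good 𝒟 R' i h)).trans
    (Ideal.quotientKerAlgEquivOfSurjective (f := AlgHom.fst R' (gB 𝒟 R' i) R')
      (fun b => ⟨(b, 0), rfl⟩))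

lemma eGood_mk (i : ℕ) (h : i < 𝒟.n) (x : gB 𝒟 R' i × R') :
    eGood 𝒟 R' i h (mkT 𝒟 R' i x) = x.1 := rfl

/-- for junk indices `T_i` is `R'`. -/
noncomputable def eJunk (i : ℕ) (h : ¬ i < 𝒟.n) : T 𝒟 R' i ≃ₐ[R'] R' :=
  (Ideal.quotientEquivAlgOfEq R' (K_junk 𝒟 R' i h)).trans
    (Ideal.quotientKerAlgEquivOfSurjective (f := AlgHom.snd R' (gB 𝒟 R' i) R')
      (fun b => ⟨(0, b), rfl⟩))

lemma eJunk_mk (i : ℕ) (h : ¬ i < 𝒟.n) (x : gB 𝒟 R' i × R') :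
    eJunk 𝒟 R' i h (mkT 𝒟 R' i x) = x.2 := rfl

lemma toA_mk (i : ℕ) (x : gB 𝒟 R' i × R') : toA 𝒟 R' i (mkT 𝒟 R' i x) = φA 𝒟 R' i x := rfl
lemma toA'_mk (i : ℕ) (x : gB 𝒟 R' i × R') : toA' 𝒟 R' i (mkT 𝒟 R' i x) = φA' 𝒟 R' i x := rfl

end Concrete

end Groth.Agent.Lib.H6xDevBC2
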