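import Mathlib
import Groth.Prelude.Def_FlatCA
import Groth.Agent.Lib.H6xDevBC2

set_option autoImplicit false
universe u
open TensorProduct

namespace Groth.Agent.Lib.H6xDevBC2

attribute [local instance] Algebra.TensorProduct.rightAlgebra

section Concrete

variable {R S : Type u} [CommRing R] [CommRing S] [Algebra R S] {N : Type u} [AddCommGroup N]
  [Module S N] {p : Ideal R} [p.IsPrime] (𝒟 : FlatCA.CompleteDevissage R S N p)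
  (R' : Type u) [CommRing R'] [Algebra R R']

noncomputable instance algRT (i : ℕ) : Algebra R (T 𝒟 R' i) :=
  inferInstanceAs (Algebra R ((gB 𝒟 R' i × R') ⧸ K 𝒟 R' i))
instance (i : ℕ) : IsScalarTower R R' (T 𝒟 R' i) :=
  inferInstanceAs (IsScalarTower R R' ((gB 𝒟 R' i × R') ⧸ K 𝒟 R' i))

noncomputable instance algTA (i : ℕ) : Algebra (T 𝒟 R' i) (gA 𝒟 R' i) :=
  (toA 𝒟 R' i).toRingHom.toAlgebra
instance (i : ℕ) : IsScalarTower R' (T 𝒟 R' i) (gA 𝒟 R' i) :=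
  .of_algebraMap_eq fun r => ((toA 𝒟 R' i).commutes r).symm
noncomputable instance algTA' (i : ℕ) : Algebra (T 𝒟 R' i) (gA 𝒟 R' (i + 1)) :=
  (toA' 𝒟 R' i).toRingHom.toAlgebra
instance (i : ℕ) : IsScalarTower R' (T 𝒟 R' i) (gA 𝒟 R' (i + 1)) :=
  .of_algebraMap_eq fun r => ((toA' 𝒟 R' i).commutes r).symm

lemma algebraMap_T_gA (i : ℕ) (t : T 𝒟 R' i) :
    algebraMap (T 𝒟 R' i) (gA 𝒟 R' i) t = toA 𝒟 R' i t := rfl
lemma algebraMap_T_gA' (i : ℕ) (t : T 𝒟 R' i) :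
    algebraMap (T 𝒟 R' i) (gA 𝒟 R' (i + 1)) t = toA' 𝒟 R' i t := rfl

instance (i : ℕ) : SMulCommClass (𝒟.A i) (T 𝒟 R' i) (gA 𝒟 R' i) :=
  ⟨fun a t x => by simp only [Algebra.smul_def]; ring⟩
instance (i : ℕ) : SMulCommClass (𝒟.A (i + 1)) (T 𝒟 R' i) (gA 𝒟 R' (i + 1)) :=
  ⟨fun a t x => by simp only [Algebra.smul_def]; ring⟩

/-- the base-change map of modules -/
noncomputable def gMap (i : ℕ) : 𝒟.M i →ₗ[𝒟.A i] gM 𝒟 R' i :=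
  TensorProduct.mk (𝒟.A i) (gA 𝒟 R' i) (𝒟.M i) 1

lemma gMap_isBaseChange (i : ℕ) : IsBaseChange (gA 𝒟 R' i) (gMap 𝒟 R' i) :=
  TensorProduct.isBaseChange (𝒟.A i) (𝒟.M i) (gA 𝒟 R' i)

/-- the base-changed maps `α'` -/
noncomputable def α' (i : ℕ) : (Fin (𝒟.r i) → T 𝒟 R' i) →ₗ[T 𝒟 R' i] gM 𝒟 R' i :=
  Fintype.linearCombination (T 𝒟 R' i) (fun j => gMap 𝒟 R' i (𝒟.α i (Pi.single j 1)))

lemma α'_single (i : ℕ) (j : Fin (𝒟.r i)) :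
    α' 𝒟 R' i (Pi.single j 1) = gMap 𝒟 R' i (𝒟.α i (Pi.single j 1)) := by
  rw [α', Fintype.linearCombination_apply_single, one_smul]

lemma eGood_symm (i : ℕ) (h : i < 𝒟.n) (y : gB 𝒟 R' i) :
    (eGood 𝒟 R' i h).symm y = mkT 𝒟 R' i (y, 0) := by
  apply (eGood 𝒟 R' i h).injective
  rw [AlgEquiv.apply_symm_apply, eGood_mk]

/-- `B_i → T_i` for good `i`. -/
noncomputable def bToT (i : ℕ) (h : i < 𝒟.n) : 𝒟.B i →ₐ[R] T 𝒟 R' i :=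
  ((eGood 𝒟 R' i h).symm.toAlgHom.restrictScalars R).comp
    (Algebra.TensorProduct.includeRight (R := R) (A := R') (B := 𝒟.B i))

lemma bToT_apply (i : ℕ) (h : i < 𝒟.n) (b : 𝒟.B i) :
    bToT 𝒟 R' i h b = mkT 𝒟 R' i ((1 : R') ⊗ₜ[R] b, 0) := by
  change (eGood 𝒟 R' i h).symm ((1 : R') ⊗ₜ[R] b) = _
  rw [eGood_symm]

lemma toA_bToT (i : ℕ) (h : i < 𝒟.n) (b : 𝒟.B i) :
    toA 𝒟 R' i (bToT 𝒟 R' i h b) = (1 : R') ⊗ₜ[R] (algebraMap (𝒟.B i) (𝒟.A i) b) := by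
  rw [bToT_apply, toA_mk, φA, if_pos h]
  simp

lemma toA'_bToT (i : ℕ) (h : i < 𝒟.n) (b : 𝒟.B i) :
    toA' 𝒟 R' i (bToT 𝒟 R' i h b) = (1 : R') ⊗ₜ[R] (algebraMap (𝒟.B i) (𝒟.A (i + 1)) b) := by
  rw [bToT_apply, toA'_mk, φA', if_pos h]
  simp

section Good

variable (i : ℕ) [hi : Fact (i < 𝒟.n)]

noncomputable instance algBT : Algebra (𝒟.B i) (T 𝒟 R' i) :=
  (bToT 𝒟 R' i hi.out).toRingHom.toAlgebra

lemma algebraMap_B_T (b : 𝒟.B i) :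
    algebraMap (𝒟.B i) (T 𝒟 R' i) b = bToT 𝒟 R' i hi.out b := rfl

instance : IsScalarTower R (𝒟.B i) (T 𝒟 R' i) :=
  .of_algebraMap_eq fun r => ((bToT 𝒟 R' i hi.out).commutes r).symm

instance good_isPushout : Algebra.IsPushout R R' (𝒟.B i) (T 𝒟 R' i) := by
  refine ⟨IsBaseChange.of_equiv (eGood 𝒟 R' i hi.out).symm.toLinearEquiv fun b => ?_⟩
  rfl

end Good

/-- `B_i → A'_i` through `A_i`. -/
noncomputable instance algBgA (i : ℕ) : Algebra (𝒟.B i) (gA 𝒟 R' i) :=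
  ((algebraMap (𝒟.A i) (gA 𝒟 R' i)).comp (algebraMap (𝒟.B i) (𝒟.A i))).toAlgebra
instance (i : ℕ) : IsScalarTower (𝒟.B i) (𝒟.A i) (gA 𝒟 R' i) := .of_algebraMap_eq fun _ => rfl

/-- `B_i → A'_{i+1}` through `A_{i+1}`. -/
noncomputable instance algBgA' (i : ℕ) : Algebra (𝒟.B i) (gA 𝒟 R' (i + 1)) :=
  ((algebraMap (𝒟.A (i + 1)) (gA 𝒟 R' (i + 1))).comp
    (algebraMap (𝒟.B i) (𝒟.A (i + 1)))).toAlgebra
instance (i : ℕ) : IsScalarTower (𝒟.B i) (𝒟.A (i + 1)) (gA 𝒟 R' (i + 1)) :=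
  .of_algebraMap_eq fun _ => rfl

instance (i : ℕ) [hi : Fact (i < 𝒟.n)] : IsScalarTower (𝒟.B i) (T 𝒟 R' i) (gA 𝒟 R' i) :=
  .of_algebraMap_eq fun b => by
    rw [algebraMap_T_gA, algebraMap_B_T, toA_bToT]
    rfl

instance (i : ℕ) [hi : Fact (i < 𝒟.n)] : IsScalarTower (𝒟.B i) (T 𝒟 R' i) (gA 𝒟 R' (i + 1)) :=
  .of_algebraMap_eq fun b => by
    rw [algebraMap_T_gA', algebraMap_B_T, toA'_bToT]
    rfl

instance (i : ℕ) : SMulCommClass (𝒟.A i) (𝒟.B i) (gA 𝒟 R' i) :=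
  ⟨fun a t x => by simp only [Algebra.smul_def]; ring⟩
instance (i : ℕ) : SMulCommClass (𝒟.A (i + 1)) (𝒟.B i) (gA 𝒟 R' (i + 1)) :=
  ⟨fun a t x => by simp only [Algebra.smul_def]; ring⟩

instance (i : ℕ) : IsScalarTower (𝒟.B i) (𝒟.A i) (gM 𝒟 R' i) :=
  .of_algebraMap_smul fun b x => by
    rw [← algebraMap_smul (gA 𝒟 R' i) (algebraMap (𝒟.B i) (𝒟.A i) b) x,
      ← IsScalarTower.algebraMap_apply (𝒟.B i) (𝒟.A i) (gA 𝒟 R' i), algebraMap_smul]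

instance (i : ℕ) : IsScalarTower (𝒟.B i) (𝒟.A (i + 1)) (gM 𝒟 R' (i + 1)) :=
  .of_algebraMap_smul fun b x => by
    rw [← algebraMap_smul (gA 𝒟 R' (i + 1)) (algebraMap (𝒟.B i) (𝒟.A (i + 1)) b) x,
      ← IsScalarTower.algebraMap_apply (𝒟.B i) (𝒟.A (i + 1)) (gA 𝒟 R' (i + 1)), algebraMap_smul]

instance (i : ℕ) [hi : Fact (i < 𝒟.n)] : IsScalarTower (𝒟.B i) (T 𝒟 R' i) (gM 𝒟 R' i) :=
  .of_algebraMap_smul fun b x => by
    rw [← algebraMap_smul (gA 𝒟 R' i) (algebraMap (𝒟.B i) (T 𝒟 R' i) b) x,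
      ← IsScalarTower.algebraMap_apply (𝒟.B i) (T 𝒟 R' i) (gA 𝒟 R' i), algebraMap_smul]

instance (i : ℕ) [hi : Fact (i < 𝒟.n)] : IsScalarTower (𝒟.B i) (T 𝒟 R' i) (gM 𝒟 R' (i + 1)) :=
  .of_algebraMap_smul fun b x => by
    rw [← algebraMap_smul (gA 𝒟 R' (i + 1)) (algebraMap (𝒟.B i) (T 𝒟 R' i) b) x,
      ← IsScalarTower.algebraMap_apply (𝒟.B i) (T 𝒟 R' i) (gA 𝒟 R' (i + 1)), algebraMap_smul]

section Good2

variable (i : ℕ) [hi : Fact (i < 𝒟.n)]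

include hi in
lemma good_smooth : Algebra.Smooth R' (T 𝒟 R' i) := by
  haveI := 𝒟.smooth i hi.out
  exact Groth.Agent.Lib.H6xDevBC.smooth_of_isPushout R R' (𝒟.B i) (T 𝒟 R' i)

include hi in
lemma good_geomIrred : FlatCA.GeomIrredFibres R' (T 𝒟 R' i) :=
  Groth.Agent.Lib.H6xDevBC.geomIrred_of_isPushout R R' (𝒟.B i) (T 𝒟 R' i) (𝒟.geomIrred i hi.out)

include hi in
lemma good_prime (p' : Ideal R') [p'.IsPrime] :
    (p'.map (algebraMap R' (T 𝒟 R' i))).IsPrime := by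
  haveI := good_smooth 𝒟 R' i
  exact Groth.Agent.Lib.H6xDevBC.isPrime_map_of_smooth_geomIrred R' (T 𝒟 R' i)
    (good_geomIrred 𝒟 R' i) p'

include hi in
lemma good_finiteBA : Module.Finite (T 𝒟 R' i) (gA 𝒟 R' i) := by
  haveI := 𝒟.finiteBA i hi.out
  exact Groth.Agent.Lib.H6xDevBC.finite_step R R' (𝒟.B i) (T 𝒟 R' i) (𝒟.A i) (gA 𝒟 R' i)

include hi in
lemma good_surjBA' (h' : i + 1 < 𝒟.n) :
    Function.Surjective (algebraMap (T 𝒟 R' i) (gA 𝒟 R' (i + 1))) :=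
  Groth.Agent.Lib.H6xDevBC.surjective_step R R' (𝒟.B i) (T 𝒟 R' i) (𝒟.A (i + 1))
    (gA 𝒟 R' (i + 1)) (𝒟.surjBA' i h')

include hi in
lemma good_fpBA' (h' : i + 1 < 𝒟.n) :
    Algebra.FinitePresentation (T 𝒟 R' i) (gA 𝒟 R' (i + 1)) := by
  haveI := 𝒟.fpBA' i h'
  exact Groth.Agent.Lib.H6xDevBC.finitePresentation_step R R' (𝒟.B i) (T 𝒟 R' i) (𝒟.A (i + 1))
    (gA 𝒟 R' (i + 1))

include hi in
lemma good_finiteM : Module.Finite (gA 𝒟 R' i) (gM 𝒟 R' i) := by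
  haveI := 𝒟.finiteM i hi.out
  infer_instance

include hi in
lemma good_isBaseChange :
    IsBaseChange (T 𝒟 R' i) ((gMap 𝒟 R' i).restrictScalars (𝒟.B i)) := by
  haveI := Groth.Agent.Lib.H6xDevBC.isPushout_step R R' (𝒟.B i) (T 𝒟 R' i) (𝒟.A i) (gA 𝒟 R' i)
  exact Groth.Agent.Lib.H6xDevAt.isBaseChange_restrictScalars_of_isPushout (𝒟.B i) (T 𝒟 R' i)
    (𝒟.A i) (gA 𝒟 R' i) (𝒟.M i) (gM 𝒟 R' i) (gMap 𝒟 R' i) (gMap_isBaseChange 𝒟 R' i)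

include hi in
lemma good_isBaseChange' :
    IsBaseChange (T 𝒟 R' i) ((gMap 𝒟 R' (i + 1)).restrictScalars (𝒟.B i)) := by
  haveI := Groth.Agent.Lib.H6xDevBC.isPushout_step R R' (𝒟.B i) (T 𝒟 R' i) (𝒟.A (i + 1))
    (gA 𝒟 R' (i + 1))
  exact Groth.Agent.Lib.H6xDevAt.isBaseChange_restrictScalars_of_isPushout (𝒟.B i) (T 𝒟 R' i)
    (𝒟.A (i + 1)) (gA 𝒟 R' (i + 1)) (𝒟.M (i + 1)) (gM 𝒟 R' (i + 1)) (gMap 𝒟 R' (i + 1))
    (gMap_isBaseChange 𝒟 R' (i + 1))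

include hi in
lemma good_range :
    LinearMap.range (α' 𝒟 R' i) =
      Submodule.span (T 𝒟 R' i) ((gMap 𝒟 R' i) '' (LinearMap.range (𝒟.α i) : Set (𝒟.M i))) :=
  Groth.Agent.Lib.H6xDevBC.range_eq_span_image ((gMap 𝒟 R' i).restrictScalars (𝒟.B i))
    (𝒟.r i) (𝒟.α i) (α' 𝒟 R' i) (α'_single 𝒟 R' i)

include hi in
lemma good_coker (h' : i + 1 < 𝒟.n) :
    Nonempty ((gM 𝒟 R' i ⧸ LinearMap.range (α' 𝒟 R' i)) ≃ₗ[T 𝒟 R' i] gM 𝒟 R' (i + 1)) := by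
  obtain ⟨e⟩ := Groth.Agent.Lib.H6xDevBC.nonempty_coker_equiv
    ((gMap 𝒟 R' i).restrictScalars (𝒟.B i)) (good_isBaseChange 𝒟 R' i)
    ((gMap 𝒟 R' (i + 1)).restrictScalars (𝒟.B i)) (good_isBaseChange' 𝒟 R' i)
    (LinearMap.range (𝒟.α i)) (𝒟.isoCoker i h')
  exact ⟨(Submodule.quotEquivOfEq _ _ (good_range 𝒟 R' i)).trans e⟩

include hi in
lemma good_fibre (p' : Ideal R') [p'.IsPrime] [p'.LiesOver p]
    [hq' : (p'.map (algebraMap R' (T 𝒟 R' i))).IsPrime] :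
    Function.Bijective ((α' 𝒟 R' i).baseChange
      (p'.map (algebraMap R' (T 𝒟 R' i))).ResidueField) := by
  haveI := 𝒟.smooth i hi.out
  haveI : (p'.map (algebraMap R' (T 𝒟 R' i))).LiesOver (p.map (algebraMap R (𝒟.B i))) :=
    ⟨(Groth.Agent.Lib.H6xDevBC.comap_map_eq_of_flat R R' (𝒟.B i) (T 𝒟 R' i) p p').symm⟩
  exact Groth.Agent.Lib.H6xDevBC.fibre_bijective_baseChange
    ((gMap 𝒟 R' i).restrictScalars (𝒟.B i)) (good_isBaseChange 𝒟 R' i) (𝒟.r i) (𝒟.α i)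
    (α' 𝒟 R' i) (α'_single 𝒟 R' i) (p.map (algebraMap R (𝒟.B i)))
    (p'.map (algebraMap R' (T 𝒟 R' i))) (𝒟.fibreIso i hi.out)

include hi in
lemma good_surjective (hs : Function.Surjective (𝒟.α i)) : Function.Surjective (α' 𝒟 R' i) :=
  Groth.Agent.Lib.H6xDevBC.surjective_of_surjective
    ((gMap 𝒟 R' i).restrictScalars (𝒟.B i)) (good_isBaseChange 𝒟 R' i) (𝒟.r i) (𝒟.α i)
    (α' 𝒟 R' i) (α'_single 𝒟 R' i) hs

end Good2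

lemma junk_prime (i : ℕ) (h : ¬ i < 𝒟.n) (p' : Ideal R') [p'.IsPrime] :
    (p'.map (algebraMap R' (T 𝒟 R' i))).IsPrime := by
  have : p'.map (algebraMap R' (T 𝒟 R' i)) =
      p'.comap ((eJunk 𝒟 R' i h : T 𝒟 R' i ≃+* R') : T 𝒟 R' i →+* R') := by
    have h1 : algebraMap R' (T 𝒟 R' i) =
        (((eJunk 𝒟 R' i h : T 𝒟 R' i ≃+* R').symm : R' ≃+* T 𝒟 R' i) : R' →+* T 𝒟 R' i) := by
      ext r
      change _ = (eJunk 𝒟 R' i h).symm r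
      rw [← (eJunk 𝒟 R' i h).symm.commutes r]
      rfl
    rw [h1]
    exact Ideal.map_comap_of_equiv _
  rw [this]
  exact Ideal.comap_isPrime _ _

lemma prime_all (i : ℕ) (p' : Ideal R') [p'.IsPrime] :
    (p'.map (algebraMap R' (T 𝒟 R' i))).IsPrime := by
  by_cases h : i < 𝒟.n
  · haveI : Fact (i < 𝒟.n) := ⟨h⟩
    exact good_prime 𝒟 R' i p'
  · exact junk_prime 𝒟 R' i h p'

end Concrete

end Groth.Agent.Lib.H6xDevBC2
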