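import Mathlib
import Groth.Prelude.Def_FlatCA
import Groth.Agent.Lib.H6xDevBC3

set_option autoImplicit false
universe u
open TensorProduct

namespace Groth.Agent.Lib.H6xDevBC2

attribute [local instance] Algebra.TensorProduct.rightAlgebra

section SPart

variable {R S : Type u} [CommRing R] [CommRing S] [Algebra R S] {N : Type u} [AddCommGroup N]
  [Module S N] {p : Ideal R} [p.IsPrime] (𝒟 : FlatCA.CompleteDevissage R S N p)
  (R' : Type u) [CommRing R'] [Algebra R R']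

/-- `S → A'_0` through `A_0`. -/
noncomputable instance algSgA : Algebra S (gA 𝒟 R' 0) :=
  ((algebraMap (𝒟.A 0) (gA 𝒟 R' 0)).comp (algebraMap S (𝒟.A 0))).toAlgebra
instance : IsScalarTower S (𝒟.A 0) (gA 𝒟 R' 0) := .of_algebraMap_eq fun _ => rfl
instance : IsScalarTower R S (gA 𝒟 R' 0) := .of_algebraMap_eq fun r => by
  rw [IsScalarTower.algebraMap_apply S (𝒟.A 0) (gA 𝒟 R' 0),
    ← IsScalarTower.algebraMap_apply R S (𝒟.A 0),
    ← IsScalarTower.algebraMap_apply R (𝒟.A 0) (gA 𝒟 R' 0)]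

variable (S' : Type u) [CommRing S'] [Algebra R' S'] [Algebra R S'] [Algebra S S']
  [IsScalarTower R R' S'] [IsScalarTower R S S'] [Algebra.IsPushout R R' S S']

/-- `S' → A'_0`. -/
noncomputable def toS : S' →ₐ[R] gA 𝒟 R' 0 :=
  Algebra.pushoutDesc S' (IsScalarTower.toAlgHom R R' (gA 𝒟 R' 0))
    (IsScalarTower.toAlgHom R S (gA 𝒟 R' 0)) (fun _ _ => mul_comm _ _)

lemma toS_left (r : R') : toS 𝒟 R' S' (algebraMap R' S' r) = algebraMap R' (gA 𝒟 R' 0) r :=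
  Algebra.pushoutDesc_left S' _ _ _ r

lemma toS_right (s : S) : toS 𝒟 R' S' (algebraMap S S' s) = algebraMap S (gA 𝒟 R' 0) s :=
  Algebra.pushoutDesc_right S' _ _ _ s

noncomputable instance algS'gA : Algebra S' (gA 𝒟 R' 0) := (toS 𝒟 R' S').toRingHom.toAlgebra

lemma algebraMap_S'_gA (x : S') : algebraMap S' (gA 𝒟 R' 0) x = toS 𝒟 R' S' x := rfl

instance : IsScalarTower R' S' (gA 𝒟 R' 0) :=
  .of_algebraMap_eq fun r => by rw [algebraMap_S'_gA, toS_left]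
instance : IsScalarTower S S' (gA 𝒟 R' 0) :=
  .of_algebraMap_eq fun s => by rw [algebraMap_S'_gA, toS_right]

instance : SMulCommClass (𝒟.A 0) S' (gA 𝒟 R' 0) :=
  ⟨fun a t x => by simp only [Algebra.smul_def]; ring⟩

instance : IsScalarTower S (𝒟.A 0) (gM 𝒟 R' 0) :=
  .of_algebraMap_smul fun b x => by
    rw [← algebraMap_smul (gA 𝒟 R' 0) (algebraMap S (𝒟.A 0) b) x,
      ← IsScalarTower.algebraMap_apply S (𝒟.A 0) (gA 𝒟 R' 0), algebraMap_smul]

instance : IsScalarTower S S' (gM 𝒟 R' 0) :=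
  .of_algebraMap_smul fun b x => by
    rw [← algebraMap_smul (gA 𝒟 R' 0) (algebraMap S S' b) x,
      ← IsScalarTower.algebraMap_apply S S' (gA 𝒟 R' 0), algebraMap_smul]

instance s_isPushout : Algebra.IsPushout S S' (𝒟.A 0) (gA 𝒟 R' 0) :=
  Groth.Agent.Lib.H6xDevBC.isPushout_step R R' S S' (𝒟.A 0) (gA 𝒟 R' 0)

lemma s_surj : Function.Surjective (algebraMap S' (gA 𝒟 R' 0)) :=
  Groth.Agent.Lib.H6xDevBC.surjective_step R R' S S' (𝒟.A 0) (gA 𝒟 R' 0) 𝒟.surjSA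

lemma s_fp : Algebra.FinitePresentation S' (gA 𝒟 R' 0) := by
  haveI := 𝒟.fpSA
  exact Groth.Agent.Lib.H6xDevBC.finitePresentation_step R R' S S' (𝒟.A 0) (gA 𝒟 R' 0)

variable {N' : Type u} [AddCommGroup N'] [Module S' N'] [Module S N'] [IsScalarTower S S' N']
  (f : N →ₗ[S] N') (hf : IsBaseChange S' f)

/-- the base-changed identification `N' ≅ M'_0`. -/
noncomputable def isoN' : N' ≃ₗ[S'] gM 𝒟 R' 0 :=
  hf.equiv.symm ≪≫ₗ
    (TensorProduct.AlgebraTensorModule.congr (LinearEquiv.refl S' S') 𝒟.isoN) ≪≫ₗ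
    (Algebra.IsPushout.cancelBaseChange S S' (𝒟.A 0) (gA 𝒟 R' 0) (𝒟.M 0)).symm

lemma isoN'_apply (x : N) : isoN' 𝒟 R' S' f hf (f x) = gMap 𝒟 R' 0 (𝒟.isoN x) := by
  unfold isoN'
  simp only [LinearEquiv.trans_apply]
  have h1 : hf.equiv.symm (f x) = (1 : S') ⊗ₜ[S] x := by
    rw [LinearEquiv.symm_apply_eq, IsBaseChange.equiv_tmul, one_smul]
  rw [h1, TensorProduct.AlgebraTensorModule.congr_tmul, LinearEquiv.refl_apply,
    Algebra.IsPushout.cancelBaseChange_symm_tmul, map_one]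
  rfl

end SPart

end Groth.Agent.Lib.H6xDevBC2
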