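import Mathlib
import Groth.Prelude.Def_FlatCA
import Groth.Agent.Lib.H6xDevBC4

set_option autoImplicit false
universe u
open TensorProduct

namespace Groth.Agent.Lib.H6xDevBC2

attribute [local instance] Algebra.TensorProduct.rightAlgebra

section Assemble

variable {R S : Type u} [CommRing R] [CommRing S] [Algebra R S] {N : Type u} [AddCommGroup N]
  [Module S N] {p : Ideal R} [p.IsPrime] (𝒟 : FlatCA.CompleteDevissage R S N p)
  (R' : Type u) [CommRing R'] [Algebra R R']
  (S' : Type u) [CommRing S'] [Algebra R' S'] [Algebra R S'] [Algebra S S']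
  [IsScalarTower R R' S'] [IsScalarTower R S S'] [Algebra.IsPushout R R' S S']
  {N' : Type u} [AddCommGroup N'] [Module S' N'] [Module S N'] [IsScalarTower S S' N']
  (f : N →ₗ[S] N') (hf : IsBaseChange S' f)
  (p' : Ideal R') [p'.IsPrime] [p'.LiesOver p]

/-- the base-changed dévissage -/
noncomputable def dev' : FlatCA.CompleteDevissage R' S' N' p' where
  n := 𝒟.n
  pos := 𝒟.pos
  A := gA 𝒟 R'
  B := T 𝒟 R'
  M := gM 𝒟 R'
  r := 𝒟.r
  cA := fun i => inferInstance
  cB := fun i => inferInstance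
  aRA := fun i => inferInstance
  aRB := fun i => inferInstance
  aBA := fun i => algTA 𝒟 R' i
  tRBA := fun i => inferInstance
  aSA := algS'gA 𝒟 R' S'
  tRSA := inferInstance
  aBA' := fun i => algTA' 𝒟 R' i
  tRBA' := fun i => inferInstance
  gM := fun i => inferInstance
  mAM := fun i => inferInstance
  mBM := fun i => inferInstance
  tBAM := fun i => inferInstance
  mRM := fun i => inferInstance
  tRBM := fun i => inferInstance
  mSM := inferInstance
  tSAM := inferInstance
  mB'M := fun i => inferInstance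
  tB'AM := fun i => inferInstance
  hp := fun i => prime_all 𝒟 R' i p'
  α := α' 𝒟 R'
  surjSA := s_surj 𝒟 R' S'
  fpSA := s_fp 𝒟 R' S'
  surjBA' := fun i h => by
    haveI : Fact (i < 𝒟.n) := ⟨by omega⟩
    exact good_surjBA' 𝒟 R' i h
  fpBA' := fun i h => by
    haveI : Fact (i < 𝒟.n) := ⟨by omega⟩
    exact good_fpBA' 𝒟 R' i h
  finiteBA := fun i h => by
    haveI : Fact (i < 𝒟.n) := ⟨h⟩
    exact good_finiteBA 𝒟 R' i
  smooth := fun i h => by
    haveI : Fact (i < 𝒟.n) := ⟨h⟩
    exact good_smooth 𝒟 R' i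
  geomIrred := fun i h => by
    haveI : Fact (i < 𝒟.n) := ⟨h⟩
    exact good_geomIrred 𝒟 R' i
  finiteM := fun i h => by
    haveI : Fact (i < 𝒟.n) := ⟨h⟩
    exact good_finiteM 𝒟 R' i
  isoN := isoN' 𝒟 R' S' f hf
  isoCoker := fun i h => by
    haveI : Fact (i < 𝒟.n) := ⟨by omega⟩
    exact Classical.choice (good_coker 𝒟 R' i h)
  fibreIso := fun i h => by
    haveI : Fact (i < 𝒟.n) := ⟨h⟩
    exact good_fibre 𝒟 R' i p' (hq' := prime_all 𝒟 R' i p')
  cokerLast := by
    haveI : Fact (𝒟.n - 1 < 𝒟.n) := ⟨by have := 𝒟.pos; omega⟩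
    exact good_surjective 𝒟 R' (𝒟.n - 1) 𝒟.cokerLast

end Assemble

end Groth.Agent.Lib.H6xDevBC2
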