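import Mathlib
import Groth.Prelude.Def_FlatCA
import Groth.Agent.Lib.H6xDevBC5

set_option autoImplicit false
universe u
open TensorProduct

namespace Groth.Agent.Lib.H6xDevBC2

attribute [local instance] Algebra.TensorProduct.rightAlgebra

section Main

variable {R S : Type u} [CommRing R] [CommRing S] [Algebra R S] {N : Type u} [AddCommGroup N]
  [Module S N] {p : Ideal R} [p.IsPrime] (𝒟 : FlatCA.CompleteDevissage R S N p)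
  (R' : Type u) [CommRing R'] [Algebra R R']
  (p' : Ideal R') [p'.IsPrime] [p'.LiesOver p]
  (S' : Type u) [CommRing S'] [Algebra R' S'] [Algebra R S'] [Algebra S S']
  [IsScalarTower R R' S'] [IsScalarTower R S S'] [Algebra.IsPushout R R' S S']
  {N' : Type u} [AddCommGroup N'] [Module S' N'] [Module S N'] [IsScalarTower S S' N']
  (f : N →ₗ[S] N') (hf : IsBaseChange S' f)

include hf in
theorem main :
    ∃ (𝒟' : FlatCA.CompleteDevissage R' S' N' p')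
      (aA : ∀ i : Fin 𝒟.n, Algebra (𝒟.A i) (𝒟'.A i)) (rA : ∀ i : Fin 𝒟.n, Algebra R (𝒟'.A i))
      (_t1 : ∀ i : Fin 𝒟.n, IsScalarTower R (R') (𝒟'.A i)) (_t2 : ∀ i : Fin 𝒟.n, IsScalarTower R (𝒟.A i) (𝒟'.A i))
      (aB : ∀ i : Fin 𝒟.n, Algebra (𝒟.B i) (𝒟'.B i)) (rB : ∀ i : Fin 𝒟.n, Algebra R (𝒟'.B i))
      (_t3 : ∀ i : Fin 𝒟.n, IsScalarTower R (R') (𝒟'.B i)) (_t4 : ∀ i : Fin 𝒟.n, IsScalarTower R (𝒟.B i) (𝒟'.B i))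
      (bA : ∀ i : Fin 𝒟.n, Algebra (𝒟.B i) (𝒟'.A i)) (_t5 : ∀ i : Fin 𝒟.n, IsScalarTower (𝒟.B i) (𝒟.A i) (𝒟'.A i))
      (_t6 : ∀ i : Fin 𝒟.n, IsScalarTower (𝒟.B i) (𝒟'.B i) (𝒟'.A i))
      (bA' : ∀ i : Fin 𝒟.n, Algebra (𝒟.B i) (𝒟'.A (i + 1)))
      (_t7 : ∀ i : Fin 𝒟.n, IsScalarTower (𝒟.B i) (𝒟'.B i) (𝒟'.A (i + 1)))
      (sA : Algebra S (𝒟'.A 0)) (_t8 : IsScalarTower S (S') (𝒟'.A 0))
      (mA : ∀ i : Fin 𝒟.n, Module (𝒟.A i) (𝒟'.M i)) (_t9 : ∀ i : Fin 𝒟.n, IsScalarTower (𝒟.A i) (𝒟'.A i) (𝒟'.M i))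
      (gM : ∀ i : Fin 𝒟.n, 𝒟.M i →ₗ[𝒟.A i] 𝒟'.M i),
      𝒟'.n = 𝒟.n ∧ 𝒟'.r = 𝒟.r ∧
      (letI := aA ⟨0, 𝒟.pos⟩; IsScalarTower S (𝒟.A 0) (𝒟'.A 0)) ∧
      (∀ x : N, 𝒟'.isoN (f x) = gM ⟨0, 𝒟.pos⟩ (𝒟.isoN x)) ∧
      (∀ (i : Fin 𝒟.n) (h : (i : ℕ) + 1 < 𝒟.n),
        letI := aA ⟨i + 1, h⟩; IsScalarTower (𝒟.B i) (𝒟.A (i + 1)) (𝒟'.A (i + 1))) ∧
      ∀ i : Fin 𝒟.n,
        Algebra.IsPushout R R' (𝒟.A i) (𝒟'.A i) ∧ Algebra.IsPushout R R' (𝒟.B i) (𝒟'.B i) ∧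
        IsBaseChange (𝒟'.A i) (gM i) ∧
        LinearMap.range (𝒟'.α i) =
          Submodule.span (𝒟'.B i) ((gM i) '' (LinearMap.range (𝒟.α i) : Set (𝒟.M i))) := by
  refine ⟨dev' 𝒟 R' S' f hf p',
    fun i => (inferInstance : Algebra (𝒟.A i) (gA 𝒟 R' i)),
    fun i => (inferInstance : Algebra R (gA 𝒟 R' i)),
    fun i => (inferInstance : IsScalarTower R R' (gA 𝒟 R' i)),
    fun i => (inferInstance : IsScalarTower R (𝒟.A i) (gA 𝒟 R' i)),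
    fun i => @algBT _ _ _ _ _ _ _ _ _ _ 𝒟 R' _ _ i ⟨i.2⟩,
    fun i => algRT 𝒟 R' i,
    fun i => (inferInstance : IsScalarTower R R' (T 𝒟 R' i)),
    fun i => haveI : Fact ((i : ℕ) < 𝒟.n) := ⟨i.2⟩;
      (inferInstance : IsScalarTower R (𝒟.B i) (T 𝒟 R' i)),
    fun i => algBgA 𝒟 R' i,
    fun i => (inferInstance : IsScalarTower (𝒟.B i) (𝒟.A i) (gA 𝒟 R' i)),
    fun i => haveI : Fact ((i : ℕ) < 𝒟.n) := ⟨i.2⟩;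
      (inferInstance : IsScalarTower (𝒟.B i) (T 𝒟 R' i) (gA 𝒟 R' i)),
    fun i => algBgA' 𝒟 R' i,
    fun i => haveI : Fact ((i : ℕ) < 𝒟.n) := ⟨i.2⟩;
      (inferInstance : IsScalarTower (𝒟.B i) (T 𝒟 R' i) (gA 𝒟 R' (i + 1))),
    algSgA 𝒟 R',
    (inferInstance : IsScalarTower S S' (gA 𝒟 R' 0)),
    fun i => (inferInstance : Module (𝒟.A i) (gM 𝒟 R' i)),
    fun i => (inferInstance : IsScalarTower (𝒟.A i) (gA 𝒟 R' i) (gM 𝒟 R' i)),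
    fun i => gMap 𝒟 R' i,
    rfl, rfl, ?_, ?_, ?_, ?_⟩
  · exact (inferInstance : IsScalarTower S (𝒟.A 0) (gA 𝒟 R' 0))
  · intro x
    exact isoN'_apply 𝒟 R' S' f hf x
  · intro i h
    exact (inferInstance : IsScalarTower (𝒟.B i) (𝒟.A (i + 1)) (gA 𝒟 R' (i + 1)))
  · intro i
    haveI : Fact ((i : ℕ) < 𝒟.n) := ⟨i.2⟩
    refine ⟨?_, ?_, ?_, ?_⟩
    · exact (TensorProduct.isPushout : Algebra.IsPushout R R' (𝒟.A i) (R' ⊗[R] 𝒟.A i))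
    · exact good_isPushout 𝒟 R' i
    · exact gMap_isBaseChange 𝒟 R' i
    · exact good_range 𝒟 R' i

end Main

end Groth.Agent.Lib.H6xDevBC2
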