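import Mathlib
import Groth.Prelude.Def_MoreMor

/-!
# Formal smoothness on affine charts from the scheme-level lifting property (R2 helper3)

* `formallySmooth_appLE`: if `f : X ⟶ Y` has the infinitesimal lifting property
  `MoreMor.IsFormallySmoothHom`, then for affine opens `U ≤ f ⁻¹ᵁ V` the ring map
  `Γ(Y, V) → Γ(X, U)` is formally smooth.
* `mapBaseChange_injective_of_formallySmooth`: for a tower `C → A → B` with `B` formally smooth over
  `A`, the canonical map `B ⊗[A] Ω[A⁄C] → Ω[B⁄C]` is injective.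
-/

set_option autoImplicit false
universe u
open CategoryTheory CategoryTheory.Limits AlgebraicGeometry TopologicalSpace

namespace Groth.Agent.Lib.R2H3.FSmChart

theorem surj_specMap_mk (A : Type u) [CommRing A] (I : Ideal A) (hI : I ^ 2 = ⊥)
    (y : ↥(Spec (CommRingCat.of A))) :
    ∃ y₀ : ↥(Spec (CommRingCat.of (A ⧸ I))),
      (Spec.map (CommRingCat.ofHom (Ideal.Quotient.mk I))).base y₀ = y := by
  have hle : I ≤ nilradical A := by
    intro x hx
    refine ⟨2, ?_⟩
    have : x ^ 2 ∈ I ^ 2 := Ideal.pow_mem_pow hx 2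
    rw [hI] at this
    exact this
  have hy := (PrimeSpectrum.comap_quotientMk_bijective_of_le_nilradical hle).2 y
  obtain ⟨y₀, hy₀⟩ := hy
  exact ⟨y₀, hy₀⟩

open TensorProduct in
/-- For a tower `C → A → B` with `B` formally smooth over `A`, the map
`B ⊗[A] Ω[A⁄C] → Ω[B⁄C]` is injective. -/
theorem mapBaseChange_injective_of_formallySmooth (C A B : Type u) [CommRing C] [CommRing A]
    [CommRing B] [Algebra C A] [Algebra A B] [Algebra C B] [IsScalarTower C A B]
    [Algebra.FormallySmooth A B] :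
    Function.Injective (KaehlerDifferential.mapBaseChange C A B) := by
  have hex := Algebra.H1Cotangent.exact_δ_mapBaseChange C A B
  rw [injective_iff_map_eq_zero]
  intro x hx
  obtain ⟨y, rfl⟩ := (hex x).mp hx
  have : y = 0 := Subsingleton.elim _ _
  rw [this, map_zero]

/-- The scheme-level infinitesimal lifting property gives formally smooth ring maps on affine
charts. -/
theorem formallySmooth_appLE {X Y : Scheme.{u}} (f : X ⟶ Y)
    (hf : MoreMor.IsFormallySmoothHom f) {U : X.Opens} {V : Y.Opens} (hU : IsAffineOpen U)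
    (hV : IsAffineOpen V) (hUV : U ≤ f ⁻¹ᵁ V) :
    (f.appLE V U hUV).hom.FormallySmooth := by
  algebraize [(f.appLE V U hUV).hom]
  let P := MvPolynomial Γ(X, U) Γ(Y, V)
  let F : P →ₐ[Γ(Y, V)] Γ(X, U) := MvPolynomial.aeval id
  have hF : Function.Surjective F := fun s => ⟨MvPolynomial.X s, by
    change MvPolynomial.aeval id (MvPolynomial.X s) = s
    rw [MvPolynomial.aeval_X]; rfl⟩
  let φ : (P ⧸ RingHom.ker F.toRingHom ^ 2) →ₐ[Γ(Y, V)] Γ(X, U) := F.kerSquareLift
  have hφsurj : Function.Surjective φ.toRingHom := by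
    intro s
    obtain ⟨p, rfl⟩ := hF s
    exact ⟨Ideal.Quotient.mk _ p, rfl⟩
  have hker : RingHom.ker φ.toRingHom ^ 2 = ⊥ := by
    rw [AlgHom.ker_kerSquareLift, Ideal.cotangentIdeal_square]
  let A := P ⧸ RingHom.ker F.toRingHom ^ 2
  let I : Ideal A := RingHom.ker φ.toRingHom
  let e : (A ⧸ I) ≃+* Γ(X, U) := RingHom.quotientKerEquivOfSurjective hφsurj
  have he : ∀ a : A, e (Ideal.Quotient.mk I a) = φ a := fun a => rfl
  let es : Γ(X, U) ⟶ CommRingCat.of (A ⧸ I) :=
    CommRingCat.ofHom (e.symm : Γ(X, U) →+* A ⧸ I)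
  let a : Spec (CommRingCat.of (A ⧸ I)) ⟶ X := Spec.map es ≫ hU.fromSpec
  let b : Spec (CommRingCat.of A) ⟶ Y :=
    Spec.map (CommRingCat.ofHom (algebraMap Γ(Y, V) A)) ≫ hV.fromSpec
  have hcomp : CommRingCat.ofHom (algebraMap Γ(Y, V) A) ≫
      CommRingCat.ofHom (Ideal.Quotient.mk I) = f.appLE V U hUV ≫ es := by
    ext r
    apply e.injective
    change e (Ideal.Quotient.mk I (algebraMap _ A r)) = e (e.symm ((f.appLE V U hUV).hom r))
    rw [he, e.apply_symm_apply]
    exact φ.commutes r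
  have key : Spec.map (f.appLE V U hUV) ≫ hV.fromSpec = hU.fromSpec ≫ f :=
    IsAffineOpen.SpecMap_appLE_fromSpec f hV hU hUV
  have hsq : Spec.map (CommRingCat.ofHom (Ideal.Quotient.mk I)) ≫ b = a ≫ f := by
    change Spec.map (CommRingCat.ofHom (Ideal.Quotient.mk I)) ≫
      Spec.map (CommRingCat.ofHom (algebraMap Γ(Y, V) A)) ≫ hV.fromSpec =
      (Spec.map es ≫ hU.fromSpec) ≫ f
    rw [← Category.assoc, ← Spec.map_comp, hcomp, Spec.map_comp, Category.assoc, Category.assoc,
      key]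
  obtain ⟨γ, hγ1, hγ2⟩ := hf A I hker a b hsq
  have hrange : Set.range γ.base ⊆ Set.range hU.fromSpec.base := by
    rintro _ ⟨y, rfl⟩
    obtain ⟨y₀, rfl⟩ := surj_specMap_mk A I hker y
    have : γ.base ((Spec.map (CommRingCat.ofHom (Ideal.Quotient.mk I))).base y₀) =
        hU.fromSpec.base ((Spec.map es).base y₀) := by
      have := congrArg (fun g => g.base y₀) hγ1
      simpa [a] using this
    rw [this]
    exact ⟨_, rfl⟩
  set l := IsOpenImmersion.lift hU.fromSpec γ hrange with hl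
  have hlfac : l ≫ hU.fromSpec = γ := IsOpenImmersion.lift_fac _ _ _
  obtain ⟨c, hc⟩ : ∃ c : Γ(X, U) ⟶ CommRingCat.of A, Spec.map c = l := ⟨Spec.preimage l, Spec.map_preimage l⟩
  have h1 : c ≫ CommRingCat.ofHom (Ideal.Quotient.mk I) = es := by
    apply Spec.map_injective
    rw [Spec.map_comp, ← cancel_mono hU.fromSpec, Category.assoc, hc, hlfac, hγ1]
  have h2 : f.appLE V U hUV ≫ c = CommRingCat.ofHom (algebraMap Γ(Y, V) A) := by
    apply Spec.map_injective
    rw [Spec.map_comp, ← cancel_mono hV.fromSpec, Category.assoc,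
      key, ← Category.assoc, hc, hlfac, hγ2]
  let g : Γ(X, U) →ₐ[Γ(Y, V)] (P ⧸ RingHom.ker F.toRingHom ^ 2) :=
    ⟨c.hom, fun r => congrArg (fun t => t.hom r) h2⟩
  refine Algebra.FormallySmooth.of_split F g (AlgHom.ext fun s => ?_)
  have h3 : Ideal.Quotient.mk I (c.hom s) = e.symm s := congrArg (fun t => t.hom s) h1
  change φ (c.hom s) = s
  rw [← he, h3, e.apply_symm_apply]

end Groth.Agent.Lib.R2H3.FSmChart
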