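import Mathlib
import Groth.Agent.Lib.R2H3FSmChart
import Groth.Agent.Lib.Helper18OmLS15

set_option autoImplicit false
universe u

namespace Groth.Agent.Lib.H6xDiffMono

open TensorProduct KaehlerDifferential

section Core

variable (R A B L : Type u) [CommRing R] [CommRing A] [CommRing B] [Field L]
  [Algebra R A] [Algebra R B] [Algebra A B] [IsScalarTower R A B]
  [Algebra R L] [Algebra A L] [Algebra B L] [IsScalarTower R A L] [IsScalarTower A B L]
  [IsScalarTower R B L]

theorem map_map (ω : Ω[A⁄R]) :
    KaehlerDifferential.map R R B L (KaehlerDifferential.map R R A B ω) =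
      KaehlerDifferential.map R R A L ω := by
  have hm : ω ∈ Submodule.span A (Set.range (D R A)) := by
    rw [KaehlerDifferential.span_range_derivation]; trivial
  induction hm using Submodule.span_induction with
  | mem x hx =>
    obtain ⟨a, rfl⟩ := hx
    simp only [KaehlerDifferential.map_D]
    rw [← IsScalarTower.algebraMap_apply]
  | zero => simp
  | add x y _ _ hx hy => simp only [map_add, hx, hy]
  | smul a x _ hx =>
    rw [map_smul (KaehlerDifferential.map R R A B), map_smul (KaehlerDifferential.map R R A L), ← hx,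
      ← algebraMap_smul B a ((KaehlerDifferential.map R R A B) x), map_smul, algebraMap_smul]

theorem mapBaseChange_injective_of_generic [Module.Flat A Ω[A⁄R]] [Algebra.FormallySmooth A L]
    (hinj : Function.Injective (algebraMap B L)) :
    Function.Injective (KaehlerDifferential.mapBaseChange R A B) := by
  let θ : B ⊗[A] Ω[A⁄R] →ₗ[A] L ⊗[A] Ω[A⁄R] :=
    LinearMap.rTensor Ω[A⁄R] (IsScalarTower.toAlgHom A B L).toLinearMap
  have hθ : Function.Injective θ :=
    Module.Flat.rTensor_preserves_injective_linearMap _ hinj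
  have hψ := Groth.Agent.Lib.R2H3.FSmChart.mapBaseChange_injective_of_formallySmooth R A L
  have compat : ∀ x : B ⊗[A] Ω[A⁄R], KaehlerDifferential.mapBaseChange R A L (θ x) =
      KaehlerDifferential.map R R B L (KaehlerDifferential.mapBaseChange R A B x) := by
    intro x
    induction x using TensorProduct.induction_on with
    | zero => simp
    | tmul b ω =>
      simp only [θ, LinearMap.rTensor_tmul, AlgHom.toLinearMap_apply, IsScalarTower.coe_toAlgHom',
        KaehlerDifferential.mapBaseChange_tmul, map_smul, map_map]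
      rw [algebraMap_smul]
    | add x y hx hy => simp only [map_add, hx, hy]
  intro x y hxy
  apply hθ
  apply hψ
  rw [compat, compat, hxy]

end Core

section Generic

open AlgebraicGeometry CategoryTheory

theorem evaluation_genericPoint_injective {X : Scheme.{u}} [IsIntegral X] {U : X.Opens}
    (hη : genericPoint X ∈ U) :
    Function.Injective (X.evaluation U (genericPoint X) hη).hom := by
  rw [injective_iff_map_eq_zero]
  intro f hf
  have h1 : genericPoint X ∉ X.basicOpen f :=
    (Scheme.evaluation_eq_zero_iff_notMem_basicOpen X (genericPoint X) hη f).mp hf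
  have h2 : X.basicOpen f = ⊥ := by
    by_contra hne
    apply h1
    have h3 : ((X.basicOpen f : X.Opens) : Set X).Nonempty := by
      rw [Set.nonempty_iff_ne_empty]
      intro h0
      apply hne
      ext x
      simp [h0]
    have h4 := ((genericPoint_spec X).mem_open_set_iff (X.basicOpen f).isOpen).mpr
      (by simpa using h3)
    exact h4
  exact (AlgebraicGeometry.basicOpen_eq_bot_iff f).mp h2

theorem formallyEtale_evaluation_of_eq_genericPoint {Y : Scheme.{u}} [IsIntegral Y] (y : Y)
    (hy : y = genericPoint Y) {V : Y.Opens} (hV : IsAffineOpen V) (hyV : y ∈ V) :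
    letI := (Y.evaluation V y hyV).hom.toAlgebra
    Algebra.FormallyEtale Γ(Y, V) (Y.residueField y) := by
  subst hy
  haveI : Nonempty V := ⟨⟨_, hyV⟩⟩
  letI := (Y.evaluation V (genericPoint Y) hyV).hom.toAlgebra
  haveI := functionField_isFractionRing_of_isAffineOpen Y V hV
  haveI : Algebra.FormallyEtale Γ(Y, V) Y.functionField :=
    Algebra.FormallyEtale.of_isLocalization (nonZeroDivisors Γ(Y, V))
  have hbij : Function.Bijective (Y.residue (genericPoint Y)).hom :=
    ⟨(Y.residue (genericPoint Y)).hom.injective, Y.residue_surjective _⟩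
  let e : Y.functionField ≃ₐ[Γ(Y, V)] Y.residueField (genericPoint Y) :=
    { RingEquiv.ofBijective (Y.residue (genericPoint Y)).hom hbij with
      commutes' := fun r => rfl }
  exact Algebra.FormallyEtale.of_equiv e

end Generic

section Main

open AlgebraicGeometry CategoryTheory TopologicalSpace

set_option linter.style.haveILetI false in
theorem main (k : Type u) [Field k] {X Y : Scheme.{u}}
    (pY : Y ⟶ Spec (CommRingCat.of k)) (φ : X ⟶ Y)
    [IsIntegral X] [IsIntegral Y] [Smooth pY]
    (hdom : DenseRange φ.base)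
    (hsep : letI := (φ.residueFieldMap (genericPoint X)).hom.toAlgebra
      Algebra.IsSeparable (Y.residueField (φ.base (genericPoint X))) (X.residueField (genericPoint X)))
    (ΩY : Y.Modules) (dY : OmegaSh.Der pY ΩY) (hY : OmegaSh.IsUniversal dY)
    (ΩX : X.Modules) (dX : OmegaSh.Der (φ ≫ pY) ΩX) (hX : OmegaSh.IsUniversal dX)
    (c : (Scheme.Modules.pullback φ).obj ΩY ⟶ ΩX) (hc : OmegaSh.IsDiffCompat φ dY dX c) :
    Mono c := by
  set η := genericPoint X with hη
  have hηY : φ.base η = genericPoint Y := by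
    have h1 : IsGenericPoint (φ.base η) (closure (φ.base '' Set.univ)) :=
      (genericPoint_spec X).image φ.continuous
    rw [Set.image_univ, hdom.closure_range] at h1
    exact h1.eq (genericPoint_spec Y)
  let S := Spec (CommRingCat.of k)
  let ι : Type u := {T : S.Opens × Y.Opens × X.Opens // IsAffineOpen T.1 ∧ IsAffineOpen T.2.1 ∧
    IsAffineOpen T.2.2 ∧ T.2.1 ≤ pY ⁻¹ᵁ T.1 ∧ T.2.2 ≤ φ ⁻¹ᵁ T.2.1 ∧ η ∈ T.2.2}
  refine Groth.Agent.Helper18OmLS.mono_of_injective_app_basis c {U | ∃ T : ι, T.1.2.2 = U} ?_ ?_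
  · refine TopologicalSpace.Opens.isBasis_iff_nbhd.mpr ?_
    intro O x hx
    obtain ⟨W, hW, hxW, -⟩ := exists_isAffineOpen_mem_and_subset (x := pY (φ x)) (U := ⊤) trivial
    obtain ⟨V, hV, hxV, hVW⟩ := exists_isAffineOpen_mem_and_subset (x := φ x) (U := pY ⁻¹ᵁ W) hxW
    obtain ⟨U, hU, hxU, hUV⟩ := exists_isAffineOpen_mem_and_subset (x := x) (U := φ ⁻¹ᵁ V ⊓ O)
      ⟨hxV, hx⟩
    have hηU : η ∈ U := ((genericPoint_spec X).mem_open_set_iff U.isOpen).mpr
      ⟨x, trivial, hxU⟩
    exact ⟨U, ⟨⟨⟨W, V, U⟩, hW, hV, hU, hVW, hUV.trans inf_le_left, hηU⟩, rfl⟩, hxU,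
      hUV.trans inf_le_right⟩
  · rintro _ ⟨⟨⟨W, V, U⟩, hW, hV, hU, hVW, hUV, hηU⟩, rfl⟩
    change Function.Injective (c.app U)
    have hUW : U ≤ (φ ≫ pY) ⁻¹ᵁ W := fun y hy => hVW (hUV hy)
    letI algCA : Algebra Γ(S, W) Γ(Y, V) := (pY.appLE W V hVW).hom.toAlgebra
    letI algCB : Algebra Γ(S, W) Γ(X, U) := ((φ ≫ pY).appLE W U hUW).hom.toAlgebra
    letI algAB : Algebra Γ(Y, V) Γ(X, U) := (φ.appLE V U hUV).hom.toAlgebra
    haveI : IsScalarTower Γ(S, W) Γ(Y, V) Γ(X, U) := by
      refine IsScalarTower.of_algebraMap_eq fun r => ?_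
      have h1 : pY.appLE W V hVW ≫ φ.appLE V U hUV = (φ ≫ pY).appLE W U hUW :=
        Scheme.Hom.appLE_comp_appLE _ _ _ _ _ _ _
      exact congr($h1.symm r)
    -- the generic residue fields
    have hφηV : φ.base η ∈ V := hUV hηU
    letI algBL : Algebra Γ(X, U) (X.residueField η) := (X.evaluation U η hηU).hom.toAlgebra
    letI algAL : Algebra Γ(Y, V) (X.residueField η) :=
      ((algebraMap Γ(X, U) (X.residueField η)).comp (algebraMap Γ(Y, V) Γ(X, U))).toAlgebra
    letI algRL : Algebra Γ(S, W) (X.residueField η) :=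
      ((algebraMap Γ(X, U) (X.residueField η)).comp (algebraMap Γ(S, W) Γ(X, U))).toAlgebra
    haveI : IsScalarTower Γ(Y, V) Γ(X, U) (X.residueField η) :=
      IsScalarTower.of_algebraMap_eq fun _ => rfl
    haveI : IsScalarTower Γ(S, W) Γ(X, U) (X.residueField η) :=
      IsScalarTower.of_algebraMap_eq fun _ => rfl
    haveI : IsScalarTower Γ(S, W) Γ(Y, V) (X.residueField η) := by
      refine IsScalarTower.of_algebraMap_eq fun r => ?_
      change algebraMap Γ(X, U) (X.residueField η) (algebraMap Γ(S, W) Γ(X, U) r) =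
        algebraMap Γ(X, U) (X.residueField η) (algebraMap Γ(Y, V) Γ(X, U) (algebraMap Γ(S, W) Γ(Y, V) r))
      rw [← IsScalarTower.algebraMap_apply Γ(S, W) Γ(Y, V) Γ(X, U)]
    -- flatness of differentials
    haveI hsm : Algebra.Smooth Γ(S, W) Γ(Y, V) :=
      HasRingHomProperty.appLE (P := @Smooth) pY inferInstance ⟨W, hW⟩ ⟨V, hV⟩ hVW
    haveI : Module.Flat Γ(Y, V) Ω[Γ(Y, V)⁄Γ(S, W)] := inferInstance
    -- formal smoothness of the generic residue field
    letI algAK : Algebra Γ(Y, V) (Y.residueField (φ.base η)) :=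
      (Y.evaluation V (φ.base η) hφηV).hom.toAlgebra
    letI algKL : Algebra (Y.residueField (φ.base η)) (X.residueField η) :=
      (φ.residueFieldMap η).hom.toAlgebra
    haveI : IsScalarTower Γ(Y, V) (Y.residueField (φ.base η)) (X.residueField η) := by
      refine IsScalarTower.of_algebraMap_eq fun a => ?_
      change X.evaluation U η hηU (φ.appLE V U hUV a) =
        φ.residueFieldMap η (Y.evaluation V (φ.base η) hφηV a)
      rw [Scheme.evaluation_naturality_apply, Scheme.Hom.appLE]
      simp only [CommRingCat.comp_apply]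
      change X.residue η (X.presheaf.germ U η hηU (X.presheaf.map (homOfLE hUV).op (φ.app V a))) =
        X.residue η (X.presheaf.germ (φ ⁻¹ᵁ V) η hφηV (φ.app V a))
      rw [TopCat.Presheaf.germ_res_apply]
    haveI : Algebra.FormallyEtale Γ(Y, V) (Y.residueField (φ.base η)) :=
      formallyEtale_evaluation_of_eq_genericPoint (φ.base η) hηY hV hφηV
    haveI : Algebra.IsSeparable (Y.residueField (φ.base η)) (X.residueField η) := hsep
    haveI : Algebra.FormallyEtale (Y.residueField (φ.base η)) (X.residueField η) :=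
      Algebra.FormallyEtale.of_isSeparable _ _
    haveI : Algebra.FormallySmooth Γ(Y, V) (X.residueField η) :=
      Algebra.FormallySmooth.comp Γ(Y, V) (Y.residueField (φ.base η)) (X.residueField η)
    obtain ⟨e₁, e₂, κ, hκ1, hκ2⟩ := Groth.Agent.Helper18OmLS.exists_chart_model φ pY (φ ≫ pY) dY dX c hc hUV
      hY hX hU hV hW hVW hW hUW rfl rfl rfl
    have h1 : κ = KaehlerDifferential.mapBaseChange Γ(S, W) Γ(Y, V) Γ(X, U) := by
      apply Groth.Agent.Helper18OmLS.tensor_kaehler_ext
      intro a
      rw [hκ2, KaehlerDifferential.mapBaseChange_tmul, KaehlerDifferential.map_D]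
    have hinj : Function.Injective κ := by
      rw [h1]
      exact mapBaseChange_injective_of_generic _ _ _ (X.residueField η)
        (evaluation_genericPoint_injective hηU)
    intro s t hst
    have h2 : κ (e₁.symm s) = κ (e₁.symm t) := by
      rw [hκ1, hκ1, e₁.apply_symm_apply, e₁.apply_symm_apply, hst]
    exact e₁.symm.injective (hinj h2)

end Main

end Groth.Agent.Lib.H6xDiffMono
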