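import Mathlib
import Groth.Prelude.Def_RelSpec2
import Groth.Agent.S0484
import Groth.Agent.Lib.Helper9TopColimSch

/-!
# The direct image `AMod.dirImg f` (as modules over `f_* O_X`) commutes with filtered colimits (helper6)
-/

set_option backward.isDefEq.respectTransparency.types false
set_option autoImplicit false
set_option linter.style.haveILetI false
universe u
open CategoryTheory CategoryTheory.Limits AlgebraicGeometry Opposite TopologicalSpace

namespace Groth.Agent.Lib.H6xDirImgColim

variable {X S : Scheme.{u}} (f : X ⟶ S) [QuasiCompact f] [QuasiSeparated f]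

/-- direct image of abelian sheaves along a qcqs morphism preserves filtered colimits. -/
theorem preservesColimitsOfShape_pushAb (J : Type u) [SmallCategory J] [IsFiltered J] :
    PreservesColimitsOfShape J (Coh.pushAb f) := by
  have h := Groth.Agent.Lib.Helper9.TopColim.preservesColimitsOfShape_RpushAb f 0 J
  haveI : PreservesLimitsOfSize.{0, 0} (Coh.pushAb f) :=
    (TopCat.Sheaf.pullbackPushforwardAdjunction AddCommGrpCat.{u} f.base).rightAdjoint_preservesLimits
  haveI : PreservesFiniteLimits (Coh.pushAb f) := PreservesLimitsOfSize.preservesFiniteLimits _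
  exact preservesColimitsOfShape_of_natIso (Coh.pushAb f).rightDerivedZeroIsoSelf

/-- `dirImg f` followed by the forgetful functor to abelian sheaves is the forgetful functor followed
by the direct image of abelian sheaves. -/
theorem dirImg_toSheaf :
    AMod.dirImg f ⋙ SheafOfModules.toSheaf (AMod.ringSheaf (RelSpec.QCAlg.directImage f)) =
      SheafOfModules.toSheaf X.ringCatSheaf ⋙ Coh.pushAb f := rfl

theorem preservesColimitsOfShape_dirImg (J : Type u) [SmallCategory J] [IsFiltered J] :
    PreservesColimitsOfShape J (AMod.dirImg f) := by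
  have h1 : PreservesColimitsOfShape J (SheafOfModules.toSheaf.{u} X.ringCatSheaf) :=
    Groth.Agent.S0484.preservesColimitsOfShape_toSheaf _ _ J
  have h2 : PreservesColimitsOfShape J
      (SheafOfModules.toSheaf.{u} (AMod.ringSheaf (RelSpec.QCAlg.directImage f))) :=
    Groth.Agent.S0484.preservesColimitsOfShape_toSheaf _ _ J
  have h3 := preservesColimitsOfShape_pushAb f J
  have h4 : PreservesColimitsOfShape J (AMod.dirImg f ⋙
      SheafOfModules.toSheaf (AMod.ringSheaf (RelSpec.QCAlg.directImage f))) := by
    rw [dirImg_toSheaf]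
    exact @comp_preservesColimitsOfShape _ _ _ _ _ _ _ _
      (SheafOfModules.toSheaf.{u} X.ringCatSheaf) (Coh.pushAb f) h1 h3
  constructor
  intro K
  constructor
  intro c hc
  have h5 : IsColimit ((AMod.dirImg f ⋙
      SheafOfModules.toSheaf (AMod.ringSheaf (RelSpec.QCAlg.directImage f))).mapCocone c) :=
    isColimitOfPreserves _ hc
  haveI : ReflectsColimit (K ⋙ AMod.dirImg f)
      (SheafOfModules.toSheaf.{u} (AMod.ringSheaf (RelSpec.QCAlg.directImage f))) :=
    reflectsColimit_of_reflectsIsomorphisms _ _
  exact ⟨isColimitOfReflects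
    (SheafOfModules.toSheaf.{u} (AMod.ringSheaf (RelSpec.QCAlg.directImage f))) h5⟩

theorem isIso_colimit_desc {J : Type u} [SmallCategory J] [IsFiltered J] (D : J ⥤ X.Modules) :
    IsIso (colimit.desc (D ⋙ AMod.dirImg f) ((AMod.dirImg f).mapCocone (colimit.cocone D))) := by
  haveI := preservesColimitsOfShape_dirImg f J
  have hc : IsColimit ((AMod.dirImg f).mapCocone (colimit.cocone D)) :=
    isColimitOfPreserves _ (colimit.isColimit D)
  have : colimit.desc (D ⋙ AMod.dirImg f) ((AMod.dirImg f).mapCocone (colimit.cocone D)) =
      ((colimit.isColimit (D ⋙ AMod.dirImg f)).coconePointUniqueUpToIso hc).hom := rfl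
  rw [this]
  infer_instance

end Groth.Agent.Lib.H6xDirImgColim
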