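import Mathlib
import Groth.Agent.Lib.H6xFBCF
import Groth.Agent.Lib.H6xLocN
import Groth.Agent.Lib.H6xLocM
import Groth.Agent.Lib.H6xDualF
set_option backward.isDefEq.respectTransparency.types false

/-!
# helper6: Bass' criterion over a local ring; endomorphisms of an object with `End ≃ A`
-/

set_option autoImplicit false
set_option linter.style.haveILetI false
universe u
open CategoryTheory CategoryTheory.Limits Pretriangulated
attribute [local instance] HasDerivedCategory.standard

namespace Groth.Agent.Lib.H6xDs

open DerivedCategory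

section Bass

variable {A : Type u} [CommRing A] [IsLocalRing A] [IsNoetherianRing A] (R : Dual.D A)
  (hfin : ∀ i : ℤ, Module.Finite A (Dual.HD A R i)) (a : ℤ)
  (ha : ∀ i : ℤ, i < a → Subsingleton (Dual.HD A R i)) (d : ℤ)
  (hvan : ∀ i : ℤ, d < i → Subsingleton (Dual.inD A (IsLocalRing.ResidueField A) ⟶ R⟦i⟧))

include hfin ha hvan in
/-- **Bass**: over a Noetherian local ring, a bounded below complex with finite cohomology such that
`Ext^i(k, R) = 0` for `i > d` has injective dimension `≤ d` -/
theorem subsingleton_hom_of_residue (M : Type u) [AddCommGroup M] [Module A M] (i : ℤ)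
    (hi : i < a ∨ d < i) : Subsingleton (Dual.inD A M ⟶ R⟦i⟧) := by
  rcases hi with hi | hi
  · exact Groth.Agent.Lib.H6xLoc.subsingleton_hom_of_lt R a ha M i hi
  · refine Groth.Agent.Lib.H6xLoc.subsingleton_hom_of_cyclic R i (fun I => ?_) M
    refine Groth.Agent.Lib.H6xFBC.subsingleton_hom_quotient_of_maximal R d
      (fun J j => Groth.Agent.Lib.H6xDual.finite_hom_inD_shift (ModuleCat.of A (A ⧸ J)) R a ha
        hfin j)
      (fun n hn j hj => ?_) I i hi
    have hn' : n = IsLocalRing.maximalIdeal A := IsLocalRing.eq_maximalIdeal hn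
    subst hn'
    exact hvan j hj

end Bass

section End

variable {A : Type u} [CommRing A] (X : Dual.D A)

/-- if `End(X) ≃ A` as `A`-modules, then `a ↦ a • 𝟙` is bijective -/
theorem toEnd_bijective_of_linearEquiv (e : (X ⟶ X) ≃ₗ[A] A) :
    Function.Bijective (fun a : A => a • 𝟙 X) := by
  set g : X ⟶ X := e.symm 1 with hg
  have hgen : ∀ h : X ⟶ X, h = e h • g := by
    intro h
    apply e.injective
    rw [map_smul, hg, LinearEquiv.apply_symm_apply, smul_eq_mul, mul_one]
  -- `𝟙 = a • g`, `g ≫ g = c • g`
  have h1 := hgen (𝟙 X)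
  have h2 := hgen (g ≫ g)
  set a := e (𝟙 X) with ha
  set c := e (g ≫ g) with hc
  have h3 : g = (a * c) • g := by
    calc g = g ≫ 𝟙 X := (Category.comp_id g).symm
      _ = g ≫ (a • g) := by rw [← h1]
      _ = a • (g ≫ g) := Linear.comp_smul _ _ _ _ _ _
      _ = a • (c • g) := by rw [← h2]
      _ = (a * c) • g := (mul_smul a c g).symm
  have hac : a * c = 1 := by
    have := congrArg e h3
    rw [map_smul, hg, LinearEquiv.apply_symm_apply, smul_eq_mul, mul_one] at this
    exact this.symm
  have hgc : g = c • 𝟙 X := by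
    rw [h1, ← mul_smul, mul_comm, hac, one_smul]
  constructor
  · intro x y hxy
    simp only at hxy
    have := congrArg e hxy
    rw [map_smul, map_smul, ← ha, smul_eq_mul, smul_eq_mul] at this
    calc x = x * (a * c) := by rw [hac, mul_one]
      _ = (x * a) * c := (mul_assoc _ _ _).symm
      _ = (y * a) * c := by rw [this]
      _ = y * (a * c) := mul_assoc _ _ _
      _ = y := by rw [hac, mul_one]
  · intro h
    refine ⟨e h * c, ?_⟩
    simp only
    rw [mul_smul, ← hgc]
    exact (hgen h).symm

end End

end Groth.Agent.Lib.H6xDs
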