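import Mathlib
import Groth.Agent.Lib.Helper1TorD
set_option backward.isDefEq.respectTransparency.types false

/-!
# helper6: tor amplitude of a bounded above flat complex from tensor-vanishing against the cyclic
modules `R ⧸ I` in ONE degree
-/

set_option autoImplicit false
set_option linter.style.haveILetI false
universe u
open CategoryTheory CategoryTheory.Limits MonoidalCategory
attribute [local instance] HasDerivedCategory.standard

namespace Groth.Agent.Lib.H6xFtd

open DerivedCategory Groth.Agent.Lib.Helper1.Tor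

variable {R : Type u} [CommRing R]

/-- the truncation `τ_{≥ a}` of a flat complex, exact in degree `a - 1` and staying so after tensoring
with every `R ⧸ I`, is termwise flat -/
lemma termwiseFlat_truncGE_of_cyclic (G : DRing.Cx R) (hG : DRing.TermwiseFlat G) (a : ℤ)
    (hex : G.ExactAt (a - 1))
    (hI : ∀ I : Ideal R, ((TC (ModuleCat.of R (R ⧸ I))).obj G).ExactAt (a - 1)) :
    DRing.TermwiseFlat (G.truncGE a) := by
  intro i
  obtain hi | rfl | hi := lt_trichotomy i a
  · have := ModuleCat.subsingleton_of_isZero ((G.truncGE a).isZero_of_isStrictlyGE a i hi)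
    infer_instance
  · have := hG i
    have : Module.Flat R (G.opcycles i) := by
      refine flat_of_forall_exact_lTensor (G.d (i - 1 - 1) (i - 1)).hom (G.d (i - 1) i).hom
        (G.pOpcycles i).hom ((ModuleCat.epi_iff_surjective _).1 inferInstance)
        (fexact_d_pOpcycles G i) ?_ ?_
      · exact (exactAt_iff_fexact G (i - 1 - 1) (i - 1) i (by lia) (by lia)).1 hex
      · intro I
        have h1 := hI I
        rw [exactAt_TC_iff _ G (i - 1 - 1) (i - 1) i (by lia) (by lia)] at h1
        exact h1
    exact Module.Flat.of_linearEquiv (G.truncGEXIsoOpcycles i).toLinearEquiv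
  · have := hG i
    exact Module.Flat.of_linearEquiv (G.truncGEXIso a i hi).toLinearEquiv

/-- a bounded above flat complex, exact outside `[a, b]` and with `G ⊗ R ⧸ I` exact in degree
`a - 1` for all ideals `I`, has tor amplitude in `[a, b]` -/
theorem hasTorAmp_of_cyclic (G : DRing.Cx R) (bG : ℤ) (hGb : DRing.VanishesAbove G bG)
    (hG : DRing.TermwiseFlat G) (a b : ℤ)
    (hex : ∀ i : ℤ, (i < a ∨ b < i) → G.ExactAt i)
    (hI : ∀ I : Ideal R, ((TC (ModuleCat.of R (R ⧸ I))).obj G).ExactAt (a - 1)) :
    DRing.HasTorAmplitudeIn R a b (DRing.toD G) := by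
  have hGge : CochainComplex.IsGE G a := by
    rw [CochainComplex.isGE_iff]
    exact fun i hi => hex i (Or.inl hi)
  have hq : QuasiIso (G.πTruncGE a) := (G.quasiIso_πTruncGE_iff a).2 hGge
  have hiso : IsIso (Q.map (G.πTruncGE a)) :=
    (DerivedCategory.isIso_Q_map_iff_quasiIso (φ := G.πTruncGE a)).2 hq
  set G' := G.truncGE a with hG'
  have hG'f : DRing.TermwiseFlat G' :=
    termwiseFlat_truncGE_of_cyclic G hG a (hex (a - 1) (Or.inl (by lia))) hI
  have hG'b : DRing.VanishesAbove G' (max bG a) := by
    intro i hi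
    have hi1 : a < i := lt_of_le_of_lt (le_max_right _ _) hi
    have hi2 : bG < i := lt_of_le_of_lt (le_max_left _ _) hi
    exact (hGb i hi2).of_iso (G.truncGEXIso a i hi1)
  have hex' : ∀ j : ℤ, b < j → G'.ExactAt j := fun j hj =>
    exactAt_of_Q_iso (asIso (Q.map (G.πTruncGE a))) j (hex j (Or.inr hj))
  have hG'le : CochainComplex.IsLE G' b := by
    rw [CochainComplex.isLE_iff]
    exact hex'
  have hq' : QuasiIso (G'.ιTruncLE b) := (G'.quasiIso_ιTruncLE_iff b).2 hG'le
  have hiso' : IsIso (Q.map (G'.ιTruncLE b)) :=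
    (DerivedCategory.isIso_Q_map_iff_quasiIso (φ := G'.ιTruncLE b)).2 hq'
  refine ⟨G'.truncLE b, ?_, termwiseFlat_truncLE G' _ hG'b hG'f b hex',
    ⟨asIso (Q.map (G'.ιTruncLE b)) ≪≫ (asIso (Q.map (G.πTruncGE a))).symm⟩⟩
  intro i hi
  by_cases hib : b < i
  · exact (G'.truncLE b).isZero_of_isStrictlyLE b i hib
  · have hia : i < a := by
      rcases hi with hi | hi
      · exact hi
      · exact absurd hi hib
    have hz : IsZero (G'.X i) := G'.isZero_of_isStrictlyGE a i hia
    obtain hib' | rfl := lt_or_eq_of_le (not_lt.1 hib)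
    · exact hz.of_iso (G'.truncLEXIso b i hib')
    · have : IsZero (G'.cycles i) := IsZero.of_mono (G'.iCycles i) hz
      exact this.of_iso (G'.truncLEXIsoCycles i)

end Groth.Agent.Lib.H6xFtd
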