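import Mathlib
import Groth.Agent.Lib.H6xPCevE
import Groth.Agent.Lib.Helper1TorD
import Groth.Agent.Lib.Helper1KF10
import Groth.Agent.Lib.Helper1DT5
set_option backward.isDefEq.respectTransparency.types false

/-!
# helper6: the derived tensor product of a bounded above flat complex with a module, computed termwise
-/

set_option autoImplicit false
set_option linter.style.haveILetI false
universe u
open CategoryTheory CategoryTheory.Limits MonoidalCategory HomologicalComplex Pretriangulated
attribute [local instance] HasDerivedCategory.standard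

namespace Groth.Agent.Lib.H6xFtd

open DerivedCategory DTen Groth.Agent.Lib.H6xDTen Groth.Agent.Lib.Helper1.KF Groth.Agent.Lib.Helper1.DT
  Groth.Agent.Lib.Helper1.Tor

variable {A : Type u} [CommRing A] [HasLTen A]

/-- `F ⊗ᴸ N ≅ N ⊗ F` (termwise) for a K-flat complex `F` and a module `N` -/
noncomputable def tOSingleIso (F : Cx A) (hF : KFlat F) (N : ModuleCat.{u} A) :
    tO (Q.obj F) ((DerivedCategory.singleFunctor (ModuleCat.{u} A) 0).obj N) ≅
      Q.obj ((TC N).obj F) :=
  μK F (sgl N) (Or.inl hF) ≪≫ Q.mapIso (swapIso F (sgl N)) ≪≫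
    Q.mapIso (singleTensorIso N F).symm

lemma exactAt_TC_of_isZero (F : Cx A) (hF : KFlat F) (N : ModuleCat.{u} A) (i : ℤ)
    (h : IsZero ((homologyFunctor (ModuleCat.{u} A) i).obj
      (tO (Q.obj F) ((DerivedCategory.singleFunctor (ModuleCat.{u} A) 0).obj N)))) :
    ((TC N).obj F).ExactAt i := by
  rw [exactAt_iff_isZero_H]
  exact h.of_iso ((homologyFunctor (ModuleCat.{u} A) i).mapIso (tOSingleIso F hF N)).symm

end Groth.Agent.Lib.H6xFtd
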