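import Mathlib
import Groth.Agent.Lib.H6xFtdA
import Groth.Agent.Lib.H6xFtdB
import Groth.Agent.Lib.H6xBrgF
import Groth.Agent.Lib.H6xBrgE
import Groth.Agent.Lib.H6xLocL
import Groth.Agent.Lib.H6xLDD
import Groth.Agent.Lib.Helper1TorE
set_option backward.isDefEq.respectTransparency.types false

/-!
# helper6: finite tor dimension of `K` versus finite injective dimension of `RHom(K, ω)`
-/

set_option autoImplicit false
set_option linter.style.haveILetI false
universe u
open CategoryTheory CategoryTheory.Limits MonoidalCategory Pretriangulated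
attribute [local instance] HasDerivedCategory.standard

namespace Groth.Agent.Lib.H6xFtd

open DerivedCategory DTen Groth.Agent.Lib.H6xDTen Groth.Agent.Lib.H6xPCev Groth.Agent.Lib.H6xBrg
  Groth.Agent.Lib.Helper1.KF Groth.Agent.Lib.Helper1.Tor

variable {A : Type u} [CommRing A] [HasLTen A] [HasLTen₃ A] [IsSymMonoidal A] [HasRHom A]

/-- `RHom(X, M) ∈ D^{≥ n - m}` for `X ∈ D^{≤ m}`, `M ∈ D^{≥ n}` -/
theorem isGE_RHom_of_isLE_of_isGE (X M : Dual.D A) (m n : ℤ) [hX : X.IsLE m] [hM : M.IsGE n] :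
    ((RHomR A X).obj M).IsGE (n - m) := by
  apply isGE_of_V
  intro q hq g
  have hs : Subsingleton (X ⟶ M⟦q⟧) :=
    ⟨fun x y => by
      have h2 : (M⟦q⟧).IsGE (n - q) := (tt A).isGE_shift M n q (n - q) (by ring)
      rw [(tt A).zero_of_isLE_of_isGE x m (n - q) (by omega) hX h2,
        (tt A).zero_of_isLE_of_isGE y m (n - q) (by omega) hX h2]⟩
  have hs' : Subsingleton (V A q ⟶ (RHomR A X).obj M) :=
    (homRHomEquiv q X M).subsingleton_congr.2 hs
  exact hs'.elim _ _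

lemma isLE_of_hasTorAmp {K : Dual.D A} {lo hi : ℤ} (hK : DRing.HasTorAmplitudeIn A lo hi K) :
    K.IsLE hi := by
  obtain ⟨E, hE, -, ⟨e⟩⟩ := hK
  haveI : E.IsStrictlyLE hi := by
    rw [CochainComplex.isStrictlyLE_iff]
    exact fun i hi' => hE i (Or.inr hi')
  exact (tt A).isLE_of_iso e hi

lemma isGE_of_hasInjAmp {K : Dual.D A} {lo hi : ℤ} (hK : DRing.HasInjAmplitudeIn A lo hi K) :
    K.IsGE lo := by
  obtain ⟨E, hE, -, ⟨e⟩⟩ := hK
  haveI : E.IsStrictlyGE lo := by
    rw [CochainComplex.isStrictlyGE_iff]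
    exact fun i hi' => hE i (Or.inl hi')
  exact (tt A).isGE_of_iso e lo

lemma hasInjAmp_of_iso {K K' : Dual.D A} (e : K ≅ K') {a b : ℤ}
    (h : DRing.HasInjAmplitudeIn A a b K) : DRing.HasInjAmplitudeIn A a b K' := by
  obtain ⟨E, h1, h2, ⟨e'⟩⟩ := h
  exact ⟨E, h1, h2, ⟨e' ≪≫ e⟩⟩

/-- (⇒) -/
theorem hasInjAmp_RHom_of_torAmp {ω : Dual.D A} {a' b' : ℤ}
    (hω : DRing.HasInjAmplitudeIn A a' b' ω) (K : Dual.D A) {lo hi : ℤ}
    (hK : DRing.HasTorAmplitudeIn A lo hi K) :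
    DRing.HasInjAmplitudeIn A (a' - hi) (max (a' - hi) (b' - lo)) ((RHomR A K).obj ω) := by
  haveI hωge : ω.IsGE a' := isGE_of_hasInjAmp hω
  haveI hKle : K.IsLE hi := isLE_of_hasTorAmp hK
  have hW : ((RHomR A K).obj ω).IsGE (a' - hi) := isGE_RHom_of_isLE_of_isGE K ω hi a'
  have hb : ∀ (N : Type u) [AddCommGroup N] [Module A N] (i : ℤ), max (a' - hi) (b' - lo) < i →
      Subsingleton (Dual.inD A N ⟶ ((RHomR A K).obj ω)⟦i⟧) := by
    intro N _ _ i hi'
    have hi'' : b' - lo < i := lt_of_le_of_lt (le_max_right _ _) hi'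
    obtain ⟨es⟩ := nonempty_rhom_shift_iso K ω i
    haveI : (Dual.inD A N).IsGE 0 := inferInstance
    have hX : (tO K (Dual.inD A N)).IsGE (0 + lo) := isGE_tO_of_torAmp hK (Dual.inD A N) 0
    have hX' : (tO (Dual.inD A N) K).IsGE lo := by
      rw [zero_add] at hX
      exact (tt A).isGE_of_iso (DTen.braiding K (Dual.inD A N)).symm lo
    have hs : Subsingleton (tO (Dual.inD A N) K ⟶ ω⟦i⟧) :=
      ⟨fun x y => by
        rw [hom_shift_eq_zero_of_injAmp hω _ lo hX' i (by omega) x,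
          hom_shift_eq_zero_of_injAmp hω _ lo hX' i (by omega) y]⟩
    have hs' : Subsingleton (Dual.inD A N ⟶ (RHomR A K).obj (ω⟦i⟧)) :=
      (rhomHomEquiv (Dual.inD A N) K (ω⟦i⟧)).symm.subsingleton_congr.2 hs
    exact (es.symm.homToEquiv (Z := Dual.inD A N)).subsingleton_congr.2 hs'
  obtain ⟨I, hI, hIa, hIb, ⟨e⟩⟩ := Groth.Agent.Lib.H6xLD.exists_bounded_injective_model
    ((RHomR A K).obj ω) (a' - hi) (max (a' - hi) (b' - lo)) hW hb
  refine ⟨I, ?_, ?_, ⟨e.symm⟩⟩
  · intro i hi'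
    rcases hi' with hi' | hi'
    · exact I.isZero_of_isStrictlyGE _ i hi'
    · exact I.isZero_of_isStrictlyLE _ i hi'
  · intro i
    haveI := hI i
    exact Module.injective_module_of_injective_object A (I.X i)

section Converse

variable [IsNoetherianRing A]

lemma isPseudoCoherent'_inD_of_finite (T : Type u) [AddCommGroup T] [Module A T] [Module.Finite A T] :
    DRing.IsPseudoCoherent' A (Dual.inD A T) := by
  refine Groth.Agent.Lib.H6xLoc.isPseudoCoherent'_of_finite (Dual.inD A T) (fun i => ?_)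
    ⟨0, fun i hi => Groth.Agent.Lib.H6xLD.subsingleton_HD_inD T i (by omega)⟩
  by_cases hi : i = 0
  · subst hi
    exact Module.Finite.equiv (Groth.Agent.Lib.H6xLD.HDInDZeroEquiv (A := A) T).symm
  · haveI := Groth.Agent.Lib.H6xLD.subsingleton_HD_inD (A := A) T i hi
    infer_instance

/-- (⇐) -/
theorem hasTorAmp_of_injAmp_RHom (ω : Dual.D A) (hω : Dual.IsDualizing A ω) (K : Dual.D A)
    (hfin : ∀ i : ℤ, Module.Finite A (Dual.HD A K i)) (a b : ℤ)
    (hab : ∀ i : ℤ, (i < a ∨ b < i) → Subsingleton (Dual.HD A K i)) {a' b' : ℤ}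
    (hW : DRing.HasInjAmplitudeIn A a' b' ((RHomR A K).obj ω)) :
    ∃ a₁ : ℤ, DRing.HasTorAmplitudeIn A a₁ b K := by
  obtain ⟨aω, bω, -, hωge, hωinj⟩ := exists_injAmp_of_isDualizing ω hω
  haveI := hωge
  haveI hWge : ((RHomR A K).obj ω).IsGE a' := isGE_of_hasInjAmp hW
  haveI := isIso_evalHom_of_isDualizing ω hω K hfin
  haveI := isIso_cU ω hω
  let eK : (RHomR A ((RHomR A K).obj ω)).obj ω ≅ K :=
    (asIso (evalHom K ω ω)).symm ≪≫ selfTenIso ω K
  -- the lower bound for `K ⊗ᴸ T`, `T` a finite module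
  have key : ∀ (T : Type u) [AddCommGroup T] [Module A T] [Module.Finite A T],
      (tO K (Dual.inD A T)).IsGE (aω - b') := by
    intro T _ _ _
    haveI := isIso_evalHom_of_isPseudoCoherent (Dual.inD A T) ((RHomR A K).obj ω) ω
      (isPseudoCoherent'_inD_of_finite T) a' hWge ⟨aω, bω, hωinj⟩
    haveI : (Dual.inD A T).IsGE 0 := inferInstance
    haveI h1 : ((RHomR A (Dual.inD A T)).obj ((RHomR A K).obj ω)).IsLE (b' - 0) :=
      isLE_RHom_of_injAmp hW (Dual.inD A T) 0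
    rw [sub_zero] at h1
    haveI := h1
    have h2 : ((RHomR A ((RHomR A (Dual.inD A T)).obj ((RHomR A K).obj ω))).obj ω).IsGE (aω - b') :=
      isGE_RHom_of_isLE_of_isGE _ ω b' aω
    let e1 : tO K (Dual.inD A T) ≅ tO ((RHomR A ((RHomR A K).obj ω)).obj ω) (Dual.inD A T) :=
      (LTen₂ A).mapIso (Iso.prod eK.symm (Iso.refl (Dual.inD A T)))
    exact (tt A).isGE_of_iso
      (e1 ≪≫ asIso (evalHom (Dual.inD A T) ((RHomR A K).obj ω) ω)).symm (aω - b')
  -- a bounded above finite free model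
  obtain ⟨F, bF, hFb, hFff, ⟨eF⟩⟩ := Groth.Agent.Lib.H6xLoc.isPseudoCoherent'_of_finite K hfin
    ⟨b, fun i hi => hab i (Or.inr hi)⟩
  have hFf : DRing.TermwiseFlat F := fun i => by
    haveI := (hFff i).2
    infer_instance
  have hKF : KFlat F := kflat_of_boundedAbove_flat F bF hFb hFf
  refine ⟨min a (aω - b'), hasTorAmp_of_iso eF
    (hasTorAmp_of_cyclic F bF hFb hFf (min a (aω - b')) b (fun i hi => ?_) (fun I => ?_))⟩
  · rw [exactAt_iff_isZero_H]
    have hi' : i < a ∨ b < i := by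
      rcases hi with hi | hi
      · exact Or.inl (lt_of_lt_of_le hi (min_le_left _ _))
      · exact Or.inr hi
    haveI := hab i hi'
    exact (ModuleCat.isZero_of_subsingleton _).of_iso
      ((homologyFunctor (ModuleCat.{u} A) i).mapIso eF)
  · apply exactAt_TC_of_isZero F hKF
    have h3 := key (A ⧸ I)
    have h4 : (tO (Q.obj F) (Dual.inD A (A ⧸ I))).IsGE (aω - b') :=
      (tt A).isGE_of_iso ((LTen₂ A).mapIso (Iso.prod eF (Iso.refl (Dual.inD A (A ⧸ I))))).symm _
    exact isZero_of_isGE _ (aω - b') _ (by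
      have := min_le_right a (aω - b')
      omega)

end Converse


end Groth.Agent.Lib.H6xFtd
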