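import Mathlib
import Groth.Prelude.Def_DDual2
import Groth.Agent.Lib.Helper17DBrown3
set_option backward.isDefEq.respectTransparency.types false

/-!
# Morphisms from `A[-n]` in `D(A)` and restriction of scalars (helper6)

`Sg A n` is the complex `A` placed in degree `n`; it is K-projective, so morphisms
`Q(Sg A n) ⟶ Q E` in the derived category are chain maps up to homotopy, i.e. cocycles of
degree `n` of `E` modulo coboundaries.  For a ring map `φ : A → B` this gives the bijection
`Hom_{D(B)}(B[-n], Y) ≃ Hom_{D(A)}(A[-n], Y|_A)`.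
-/

set_option autoImplicit false
set_option linter.style.haveILetI false
universe u

namespace Groth.Agent.Lib.H6xShk

open CategoryTheory CategoryTheory.Limits HomologicalComplex DerivedCategory CochainComplex
  HomComplex
open Groth.Agent.Lib.Helper17.DBrown
attribute [local instance] HasDerivedCategory.standard

section Single

variable (A : Type u) [CommRing A] (n : ℤ)

/-- the complex `A` in degree `n` -/
noncomputable abbrev Sg : DRing.Cx A :=
  (HomologicalComplex.single (ModuleCat.{u} A) (ComplexShape.up ℤ) n).obj (ModuleCat.of A A)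

instance : (Sg A n).IsKProjective :=
  isKProjective_single (C := ModuleCat.{u} A) (ModuleCat.of A A) n

/-- the generator of `Sg A n` in degree `n` -/
noncomputable def one : (Sg A n).X n :=
  (HomologicalComplex.singleObjXSelf (ComplexShape.up ℤ) n (ModuleCat.of A A)).inv.hom (1 : A)

variable {A n}

lemma hom_one :
    (HomologicalComplex.singleObjXSelf (ComplexShape.up ℤ) n (ModuleCat.of A A)).hom.hom
      (one A n) = (1 : A) := by
  unfold one
  rw [← ModuleCat.comp_apply, Iso.inv_hom_id]
  rfl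

/-- two maps out of `(Sg A n).X n` agreeing on `one` are equal -/
lemma hom_ext_one {M : ModuleCat.{u} A} {f g : (Sg A n).X n ⟶ M}
    (h : f.hom (one A n) = g.hom (one A n)) : f = g := by
  rw [← cancel_epi (HomologicalComplex.singleObjXSelf (ComplexShape.up ℤ) n
    (ModuleCat.of A A)).inv]
  apply ModuleCat.hom_ext
  apply LinearMap.ext_ring
  exact h

variable (E : DRing.Cx A)

/-- the morphism `A ⟶ E.X n` attached to an element -/
noncomputable abbrev elt (e : E.X n) : ModuleCat.of A A ⟶ E.X n :=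
  ModuleCat.ofHom (LinearMap.toSpanSingleton A (E.X n) e)

lemma elt_d (e : E.X n) (he : (E.d n (n + 1)).hom e = 0) : elt E e ≫ E.d n (n + 1) = 0 := by
  apply ModuleCat.hom_ext
  apply LinearMap.ext_ring
  change (E.d n (n + 1)).hom ((1 : A) • e) = 0
  rw [one_smul, he]

/-- the chain map `Sg A n ⟶ E` attached to a cycle `e ∈ E^n` -/
noncomputable def cm (e : E.X n) (he : (E.d n (n + 1)).hom e = 0) : Sg A n ⟶ E :=
  Cocycle.homOf (F := (CochainComplex.singleFunctor (ModuleCat.{u} A) n).obj (ModuleCat.of A A))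
    (Cocycle.fromSingleMk (elt E e) (add_zero n) (n + 1) rfl (elt_d E e he))

lemma cm_f (e : E.X n) (he : (E.d n (n + 1)).hom e = 0) :
    (cm E e he).f n =
      (HomologicalComplex.singleObjXSelf (ComplexShape.up ℤ) n (ModuleCat.of A A)).hom ≫
        elt E e := by
  refine (Cocycle.homOf_f (F := (CochainComplex.singleFunctor (ModuleCat.{u} A) n).obj
    (ModuleCat.of A A)) _ n).trans ?_
  rw [Cocycle.fromSingleMk_coe, Cochain.fromSingleMk_v]

lemma cm_f_one (e : E.X n) (he : (E.d n (n + 1)).hom e = 0) :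
    ((cm E e he).f n).hom (one A n) = e := by
  rw [cm_f, ModuleCat.comp_apply, hom_one]
  change (1 : A) • e = e
  rw [one_smul]

variable {E}

lemma d_f_one (g : Sg A n ⟶ E) : (E.d n (n + 1)).hom ((g.f n).hom (one A n)) = 0 := by
  have h := g.comm n (n + 1)
  have h0 : (Sg A n).d n (n + 1) = 0 :=
    HomologicalComplex.single_obj_d (ComplexShape.up ℤ) n (ModuleCat.of A A) n (n + 1)
  rw [h0, zero_comp] at h
  have := congrArg (fun t => t.hom (one A n)) h
  exact this

/-- every chain map out of `Sg A n` comes from a cycle -/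
lemma eq_cm (g : Sg A n ⟶ E) : g = cm E ((g.f n).hom (one A n)) (d_f_one g) := by
  apply HomologicalComplex.from_single_hom_ext
  apply hom_ext_one
  rw [cm_f_one]

lemma cm_comp {E' : DRing.Cx A} (g : E ⟶ E') (e : E.X n) (he : (E.d n (n + 1)).hom e = 0) :
    cm E e he ≫ g = cm E' ((g.f n).hom e) (by
      have h := g.comm n (n + 1)
      have := congrArg (fun t => t.hom e) h
      change (E'.d n (n + 1)).hom ((g.f n).hom e) = (g.f (n + 1)).hom ((E.d n (n + 1)).hom e) at this
      rw [this, he, map_zero]) := by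
  apply HomologicalComplex.from_single_hom_ext
  apply hom_ext_one
  rw [cm_f_one, HomologicalComplex.comp_f, ModuleCat.comp_apply, cm_f_one]

variable (E)

/-- `Q(cm e) = 0` iff `e` is a coboundary -/
lemma Q_map_cm_eq_zero_iff (e : E.X n) (he : (E.d n (n + 1)).hom e = 0) :
    (Q.map (cm E e he) = 0) ↔ ∃ e' : E.X (n - 1), (E.d (n - 1) n).hom e' = e := by
  constructor
  · intro h0
    have h1 : Q.map (cm E e he) = Q.map (0 : Sg A n ⟶ E) := by rw [h0, Functor.map_zero]
    obtain ⟨H⟩ := homotopy_of_Q_map_eq_of_isKProjective h1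
    have hc := H.comm n
    rw [dNext_eq H.hom (show (ComplexShape.up ℤ).Rel n (n + 1) from rfl),
      prevD_eq H.hom (show (ComplexShape.up ℤ).Rel (n - 1) n by simp),
      HomologicalComplex.single_obj_d, zero_comp, zero_add, HomologicalComplex.zero_f,
      add_zero] at hc
    refine ⟨(H.hom n (n - 1)).hom (one A n), ?_⟩
    have := congrArg (fun t => t.hom (one A n)) hc
    simp only [cm_f_one] at this
    exact this.symm
  · rintro ⟨e', he'⟩
    have hmem : Cocycle.fromSingleMk (elt E e) (add_zero n) (n + 1) rfl (elt_d E e he) ∈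
        coboundaries _ _ _ := by
      rw [Cocycle.fromSingleMk_mem_coboundaries_iff (elt E e) (add_zero n) (n + 1) rfl
        (elt_d E e he) (n - 1) (by omega)]
      refine ⟨elt E e', ?_⟩
      apply ModuleCat.hom_ext
      apply LinearMap.ext_ring
      change (E.d (n - 1) n).hom ((1 : A) • e') = (1 : A) • e
      rw [one_smul, one_smul, he']
    rw [mem_coboundaries_iff _ (-1) (by omega)] at hmem
    obtain ⟨z, hz⟩ := hmem
    have H : Homotopy (cm E e he) 0 :=
      (Cochain.equivHomotopy (cm E e he) 0).symm ⟨(show Cochain (Sg A n) E (-1) from z), by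
        rw [Cochain.ofHom_zero, add_zero]
        exact (Cocycle.cochain_ofHom_homOf_eq_coe
          (F := (CochainComplex.singleFunctor (ModuleCat.{u} A) n).obj (ModuleCat.of A A))
          _).trans hz.symm⟩
    rw [DerivedCategory.Q_map_eq_of_homotopy _ H, Functor.map_zero]

/-- every morphism `Q(Sg A n) ⟶ Q E` comes from a cycle -/
lemma exists_Q_map_cm (y : Q.obj (Sg A n) ⟶ Q.obj E) :
    ∃ (e : E.X n) (he : (E.d n (n + 1)).hom e = 0), Q.map (cm E e he) = y := by
  obtain ⟨g, rfl⟩ := exists_Q_map_eq_of_isKProjective y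
  exact ⟨_, d_f_one g, by rw [← eq_cm g]⟩

lemma cm_congr {e e' : E.X n} (h : e = e') (he : (E.d n (n + 1)).hom e = 0)
    (he' : (E.d n (n + 1)).hom e' = 0) : cm E e he = cm E e' he' := by
  subst h
  rfl

end Single

section Restrict

variable {A B : Type u} [CommRing A] [CommRing B] (φ : A →+* B)

/-- termwise restriction of scalars on complexes -/
noncomputable abbrev Rc : DRing.Cx B ⥤ DRing.Cx A :=
  (ModuleCat.restrictScalars.{u} φ).mapHomologicalComplex (ComplexShape.up ℤ)

/-- `(Q E)|_A ≅ Q(E|_A)` -/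
noncomputable abbrev facR (E : DRing.Cx B) :
    (DRing.restrictD φ).obj (Q.obj E) ≅ Q.obj ((Rc φ).obj E) :=
  (ModuleCat.restrictScalars.{u} φ).mapDerivedCategoryFactors.app E

lemma facR_naturality {E E' : DRing.Cx B} (g : E ⟶ E') :
    (DRing.restrictD φ).map (Q.map g) ≫ (facR φ E').hom =
      (facR φ E).hom ≫ Q.map ((Rc φ).map g) :=
  (ModuleCat.restrictScalars.{u} φ).mapDerivedCategoryFactors.hom.naturality g

lemma restrictD_map_Q_map {E E' : DRing.Cx B} (g : E ⟶ E') :
    (DRing.restrictD φ).map (Q.map g) =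
      (facR φ E).hom ≫ Q.map ((Rc φ).map g) ≫ (facR φ E').inv := by
  rw [← Category.assoc, ← facR_naturality, Category.assoc, Iso.hom_inv_id, Category.comp_id]

variable (n : ℤ)

/-- an element of `E^n` as an element of `(E|_A)^n` -/
abbrev rE (E : DRing.Cx B) (e : E.X n) : ((Rc φ).obj E).X n := e

lemma rE_d (E : DRing.Cx B) (e : E.X n) (he : (E.d n (n + 1)).hom e = 0) :
    (((Rc φ).obj E).d n (n + 1)).hom (rE φ n E e) = 0 := he

/-- the chain map `A[-n] ⟶ B[-n]|_A` -/
noncomputable def cR : Sg A n ⟶ (Rc φ).obj (Sg B n) :=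
  cm ((Rc φ).obj (Sg B n)) (rE φ n (Sg B n) (one B n))
    (rE_d φ n (Sg B n) (one B n) (by
      have h0 : (Sg B n).d n (n + 1) = 0 :=
        HomologicalComplex.single_obj_d (ComplexShape.up ℤ) n (ModuleCat.of B B) n (n + 1)
      rw [h0]
      rfl))

lemma cR_f_one : ((cR φ n).f n).hom (one A n) = rE φ n (Sg B n) (one B n) :=
  cm_f_one _ _ _

/-- the canonical morphism `A[-n] ⟶ B[-n]|_A` in `D(A)` -/
noncomputable def uR : Q.obj (Sg A n) ⟶ (DRing.restrictD φ).obj (Q.obj (Sg B n)) :=
  Q.map (cR φ n) ≫ (facR φ (Sg B n)).inv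

lemma uR_comp (E : DRing.Cx B) (e : E.X n) (he : (E.d n (n + 1)).hom e = 0) :
    uR φ n ≫ (DRing.restrictD φ).map (Q.map (cm E e he)) =
      Q.map (cm ((Rc φ).obj E) (rE φ n E e) (rE_d φ n E e he)) ≫ (facR φ E).inv := by
  unfold uR cR
  rw [restrictD_map_Q_map, Category.assoc, Iso.inv_hom_id_assoc, ← Category.assoc,
    ← Functor.map_comp, cm_comp]
  congr 2
  apply cm_congr
  exact cm_f_one E e he

/-- `Hom_{D(B)}(B[-n], Y) ≃ Hom_{D(A)}(A[-n], Y|_A)` -/
theorem bijective_uR_comp (Y : Dual.D B) :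
    Function.Bijective (fun y : Q.obj (Sg B n) ⟶ Y => uR φ n ≫ (DRing.restrictD φ).map y) := by
  let E := Q.objPreimage Y
  let i : Q.obj E ≅ Y := Q.objObjPreimageIso Y
  -- the kernel on `Q E`
  have hker : ∀ z : Q.obj (Sg B n) ⟶ Q.obj E, uR φ n ≫ (DRing.restrictD φ).map z = 0 → z = 0 := by
    intro z hz
    obtain ⟨e, he, rfl⟩ := exists_Q_map_cm E z
    rw [uR_comp] at hz
    have h1 : Q.map (cm ((Rc φ).obj E) (rE φ n E e) (rE_d φ n E e he)) = 0 := by
      rw [← cancel_mono (facR φ E).inv, hz, Limits.zero_comp]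
    obtain ⟨e', he'⟩ := (Q_map_cm_eq_zero_iff _ _ _).1 h1
    exact (Q_map_cm_eq_zero_iff E e he).2 ⟨e', he'⟩
  constructor
  · intro y₁ y₂ h
    have h2 : (y₁ - y₂) ≫ i.inv = 0 := by
      apply hker
      rw [Functor.map_comp, ← Category.assoc, Functor.map_sub, Preadditive.comp_sub]
      rw [show uR φ n ≫ (DRing.restrictD φ).map y₁ = uR φ n ≫ (DRing.restrictD φ).map y₂ from h,
        sub_self, Limits.zero_comp]
    have h3 : y₁ - y₂ = 0 := by
      rw [← cancel_mono i.inv, h2, Limits.zero_comp]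
    exact sub_eq_zero.1 h3
  · intro x
    obtain ⟨e, he, hx⟩ := exists_Q_map_cm ((Rc φ).obj E)
      (x ≫ (DRing.restrictD φ).map i.inv ≫ (facR φ E).hom)
    have he0 : (E.d n (n + 1)).hom e = 0 := he
    refine ⟨Q.map (cm E e he0) ≫ i.hom, ?_⟩
    change uR φ n ≫ (DRing.restrictD φ).map (Q.map (cm E e he0) ≫ i.hom) = x
    rw [Functor.map_comp, ← Category.assoc, uR_comp]
    have hx' : Q.map (cm ((Rc φ).obj E) (rE φ n E e) (rE_d φ n E e he0)) =
        x ≫ (DRing.restrictD φ).map i.inv ≫ (facR φ E).hom := hx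
    rw [hx']
    simp only [Category.assoc, Iso.hom_inv_id, Category.comp_id]
    rw [← Functor.map_comp, Iso.inv_hom_id, CategoryTheory.Functor.map_id, Category.comp_id]

end Restrict

end Groth.Agent.Lib.H6xShk
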