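import Mathlib
import Groth.Agent.Lib.H6xShkA
set_option backward.isDefEq.respectTransparency.types false

/-!
# The right adjoint of restriction along `Q → Q/(t)` on `t`-torsion-free objects (helper6)

`isIso_homEquiv`: let `t ∈ Q` be a nonzerodivisor, `G` a right adjoint of restriction of scalars
`F : D(Q/t) ⥤ D(Q)`, `N ∈ D(Q)` such that `t` is injective on `Hom(Q[-n], N)` for all `n`, and
`F Y ⟶ N ⟶ N ⟶ (F Y)[1]` a distinguished triangle whose middle map is `t`.  Then the adjoint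
`Y ⟶ G N` of the first map is an isomorphism.
-/

set_option autoImplicit false
set_option linter.style.haveILetI false
universe u

namespace Groth.Agent.Lib.H6xShk

open CategoryTheory CategoryTheory.Limits HomologicalComplex DerivedCategory Pretriangulated
open Groth.Agent.Lib.Helper17.DBrown
attribute [local instance] HasDerivedCategory.standard

section Criterion

variable {A : Type u} [CommRing A]

lemma isSeparator_self : IsSeparator (ModuleCat.of A A) := fun X Y f g h => by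
  simp only [ObjectProperty.singleton_iff, ModuleCat.hom_ext_iff, ModuleCat.hom_comp,
    LinearMap.ext_iff, LinearMap.coe_comp, Function.comp_apply, forall_eq'] at h
  ext x
  simpa using h (ModuleCat.ofHom (LinearMap.toSpanSingleton A X x)) 1

/-- `A[-(n+1)][1] ≅ A[-n]` in `D(A)` -/
noncomputable def sgShiftIso (n m : ℤ) (h : 1 + n = m) :
    (Q.obj (Sg A m))⟦(1 : ℤ)⟧ ≅ Q.obj (Sg A n) :=
  ((Q.commShiftIso (1 : ℤ)).symm.app (Sg A m)) ≪≫
    Q.mapIso (((CochainComplex.singleFunctors (ModuleCat.{u} A)).shiftIso 1 n m h).app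
      (ModuleCat.of A A))

/-- an object of `D(A)` receiving no nonzero map from any `A[-n]` is zero -/
lemma isZero_of_forall_sg (Z : Dual.D A)
    (h : ∀ (n : ℤ) (x : Q.obj (Sg A n) ⟶ Z), x = 0) : IsZero Z := by
  refine IsZero.of_iso ?_ (Q.objObjPreimageIso Z).symm
  apply isZero_Q_obj_of_forall_single (isSeparator_self (A := A))
  intro m g
  have := h m (g ≫ (Q.objObjPreimageIso Z).hom)
  rw [← cancel_mono (Q.objObjPreimageIso Z).hom, this, Limits.zero_comp]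

/-- a morphism of `D(A)` inducing bijections on `Hom(A[-n], -)` for all `n` is an isomorphism -/
theorem isIso_of_bijective_sg {Y Y' : Dual.D A} (α : Y ⟶ Y')
    (h : ∀ n : ℤ, Function.Bijective (fun y : Q.obj (Sg A n) ⟶ Y => y ≫ α)) : IsIso α := by
  obtain ⟨Z, β, γ, hT⟩ := distinguished_cocone_triangle α
  have hγα : γ ≫ (shiftFunctor (Dual.D A) (1 : ℤ)).map α = 0 := comp_distTriang_mor_zero₃₁ _ hT
  have hαβ : α ≫ β = 0 := comp_distTriang_mor_zero₁₂ _ hT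
  have hex : ∀ {X : Dual.D A} (x : X ⟶ Z), x ≫ γ = 0 → ∃ x' : X ⟶ Y', x = x' ≫ β :=
    fun x hx => Triangle.coyoneda_exact₃ _ hT x hx
  refine (Triangle.isZero₃_iff_isIso₁ _ hT).1 ?_
  change IsZero Z
  apply isZero_of_forall_sg
  intro n x
  -- `x ≫ γ = 0`
  have h1 : x ≫ γ = 0 := by
    let j := sgShiftIso (A := A) n (n + 1) (by omega)
    let w' : Q.obj (Sg A (n + 1)) ⟶ Y := (shiftFunctor (Dual.D A) (1 : ℤ)).preimage (j.hom ≫ x ≫ γ)
    have hw' : (shiftFunctor (Dual.D A) (1 : ℤ)).map w' = j.hom ≫ x ≫ γ := Functor.map_preimage _ _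
    have h2 : w' ≫ α = 0 := by
      apply (shiftFunctor (Dual.D A) (1 : ℤ)).map_injective
      rw [Functor.map_comp, hw', Functor.map_zero, Category.assoc, Category.assoc, hγα,
        Limits.comp_zero, Limits.comp_zero]
    have h3 : w' = 0 := (h (n + 1)).1 (by
      change w' ≫ α = 0 ≫ α
      rw [h2, Limits.zero_comp])
    rw [h3, Functor.map_zero] at hw'
    rw [← cancel_epi j.hom, ← hw', Limits.comp_zero]
  obtain ⟨x', hx'⟩ := hex x h1
  obtain ⟨x'', hx''⟩ := (h n).2 x'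
  have h4 : x'' ≫ α = x' := hx''
  rw [hx', ← h4, Category.assoc, hαβ, Limits.comp_zero]

end Criterion

section Core

variable {Q₀ : Type u} [CommRing Q₀] {C₁ : Type*} [Category C₁] (F : C₁ ⥤ Dual.D Q₀) (t : Q₀)

/-- the core exactness argument -/
theorem core (N : Dual.D Q₀) (Y : C₁) (d : F.obj Y ⟶ N) (w : N ⟶ (F.obj Y)⟦(1 : ℤ)⟧)
    (hT : Triangle.mk d (t • 𝟙 N) w ∈ distTriang _)
    (V : Dual.D Q₀) (V₁ : C₁) (p : V ⟶ F.obj V₁) (κ : F.obj V₁ ⟶ V⟦(1 : ℤ)⟧)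
    (hTa : Triangle.mk (t • 𝟙 V) p κ ∈ distTriang _)
    (hb : Function.Bijective (fun y : V₁ ⟶ Y => p ≫ F.map y))
    (Ha : ∀ x : V ⟶ N, t • x = 0 → x = 0) (Hb : ∀ x : V⟦(1 : ℤ)⟧ ⟶ N, t • x = 0 → x = 0) :
    Function.Bijective (fun y : V₁ ⟶ Y => F.map y ≫ d) := by
  have hTa12 : (t • 𝟙 V) ≫ p = 0 := comp_distTriang_mor_zero₁₂ _ hTa
  have hTa31 : κ ≫ (shiftFunctor (Dual.D Q₀) (1 : ℤ)).map (t • 𝟙 V) = 0 :=
    comp_distTriang_mor_zero₃₁ _ hTa
  have hT12 : d ≫ (t • 𝟙 N) = 0 := comp_distTriang_mor_zero₁₂ _ hT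
  have hexa : ∀ {X : Dual.D Q₀} (f : F.obj V₁ ⟶ X), p ≫ f = 0 →
      ∃ g : V⟦(1 : ℤ)⟧ ⟶ X, f = κ ≫ g := fun f hf => Triangle.yoneda_exact₃ _ hTa f hf
  have hex2 : ∀ {X : Dual.D Q₀} (f : X ⟶ N), f ≫ (t • 𝟙 N) = 0 →
      ∃ g : X ⟶ F.obj Y, f = g ≫ d := fun f hf => Triangle.coyoneda_exact₂ _ hT f hf
  have hex1 : ∀ {X : Dual.D Q₀} (f : X ⟶ (F.obj Y)⟦(1 : ℤ)⟧),
      f ≫ (shiftFunctor (Dual.D Q₀) (1 : ℤ)).map d = 0 → ∃ g : X ⟶ N, f = g ≫ w :=
    fun f hf => Triangle.coyoneda_exact₁ _ hT f hf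
  have htp : t • p = 0 := by
    rw [Linear.smul_comp, Category.id_comp] at hTa12
    exact hTa12
  have hdt : ∀ {X : Dual.D Q₀} (v : X ⟶ F.obj Y), t • (v ≫ d) = 0 := by
    intro X v
    rw [Linear.comp_smul, Category.comp_id] at hT12
    rw [← Linear.comp_smul, hT12, Limits.comp_zero]
  constructor
  · intro y₁ y₂ h
    apply hb.1
    change p ≫ F.map y₁ = p ≫ F.map y₂
    have h0 : (F.map y₁ - F.map y₂) ≫ d = 0 := by
      rw [Preadditive.sub_comp]
      exact sub_eq_zero.2 h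
    obtain ⟨g, hg⟩ := hex1
      ((shiftFunctor (Dual.D Q₀) (1 : ℤ)).map (F.map y₁ - F.map y₂)) (by
        rw [← Functor.map_comp, h0, Functor.map_zero])
    have h1 : (shiftFunctor (Dual.D Q₀) (1 : ℤ)).map p ≫ g = 0 := by
      apply Hb
      rw [← Linear.smul_comp, ← Functor.map_smul, htp, Functor.map_zero, Limits.zero_comp]
    have h2 : p ≫ (F.map y₁ - F.map y₂) = 0 := by
      apply (shiftFunctor (Dual.D Q₀) (1 : ℤ)).map_injective
      rw [Functor.map_comp, hg, ← Category.assoc, h1, Limits.zero_comp, Functor.map_zero]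
    rw [Preadditive.comp_sub] at h2
    exact sub_eq_zero.1 h2
  · intro g
    have h1 : p ≫ g = 0 := by
      apply Ha
      rw [← Linear.smul_comp, htp, Limits.zero_comp]
    obtain ⟨z, hz⟩ := hexa g h1
    -- `g` factors through `d`
    have h2 : g ≫ (t • 𝟙 N) = 0 := by
      rw [Linear.comp_smul, Category.comp_id, hz, ← Linear.comp_smul]
      have h3 : t • z = (t • 𝟙 (V⟦(1 : ℤ)⟧)) ≫ z := by rw [Linear.smul_comp, Category.id_comp]
      have h4 : t • 𝟙 (V⟦(1 : ℤ)⟧) = (shiftFunctor (Dual.D Q₀) (1 : ℤ)).map (t • 𝟙 V) := by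
        rw [Functor.map_smul, CategoryTheory.Functor.map_id]
      rw [h3, h4, ← Category.assoc, hTa31, Limits.zero_comp]
    obtain ⟨u, hu⟩ := hex2 g h2
    obtain ⟨y, hy⟩ := hb.2 (p ≫ u)
    have hy' : p ≫ F.map y = p ≫ u := hy
    have h5 : p ≫ (u - F.map y) = 0 := by
      rw [Preadditive.comp_sub, hy', sub_self]
    obtain ⟨v, hv⟩ := hexa (u - F.map y) h5
    have h6 : v ≫ d = 0 := Hb _ (hdt v)
    refine ⟨y, ?_⟩
    change F.map y ≫ d = g
    have h7 : (u - F.map y) ≫ d = 0 := by rw [hv, Category.assoc, h6, Limits.comp_zero]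
    rw [Preadditive.sub_comp] at h7
    rw [hu, ← sub_eq_zero.1 h7]

end Core

section Quot

variable {Q₀ : Type u} [CommRing Q₀] (t : Q₀)

/-- the quotient map `Q → Q/(t)` -/
abbrev qm : Q₀ →+* Q₀ ⧸ Ideal.span {t} := Ideal.Quotient.mk (Ideal.span {t})

lemma eq_smul_one {A : Type u} [CommRing A] (n : ℤ) (x : (Sg A n).X n) :
    x = ((HomologicalComplex.singleObjXSelf (ComplexShape.up ℤ) n (ModuleCat.of A A)).hom.hom x :
      A) • one A n := by
  set σ := HomologicalComplex.singleObjXSelf (ComplexShape.up ℤ) n (ModuleCat.of A A)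
  have h1 : σ.inv.hom (σ.hom.hom x) = x := by
    rw [← ModuleCat.comp_apply, Iso.hom_inv_id]
    rfl
  have h2 : σ.hom.hom x = (σ.hom.hom x : A) • (1 : A) := by
    rw [smul_eq_mul, mul_one]
  conv_lhs => rw [← h1, h2]
  rw [map_smul]
  rfl

lemma smul_one_eq_zero_iff {A : Type u} [CommRing A] (n : ℤ) (a : A) :
    a • one A n = 0 ↔ a = 0 := by
  constructor
  · intro h
    have := congrArg (HomologicalComplex.singleObjXSelf (ComplexShape.up ℤ) n
      (ModuleCat.of A A)).hom.hom h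
    rw [map_smul, hom_one, map_zero, smul_eq_mul, mul_one] at this
    exact this
  · rintro rfl
    exact zero_smul _ _

variable (n : ℤ)

lemma smul_comp_cR : (t • 𝟙 (Sg Q₀ n)) ≫ cR (qm t) n = 0 := by
  apply HomologicalComplex.from_single_hom_ext
  apply hom_ext_one
  change ((cR (qm t) n).f n).hom (t • one Q₀ n) = 0
  rw [map_smul, cR_f_one]
  change (qm t t) • one (Q₀ ⧸ Ideal.span {t}) n = 0
  rw [(Ideal.Quotient.eq_zero_iff_mem).2 (Ideal.mem_span_singleton_self t), zero_smul]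

/-- the short complex `0 → Q[-n] → Q[-n] → (Q/t)[-n] → 0` -/
noncomputable def sesSg : ShortComplex (DRing.Cx Q₀) :=
  ShortComplex.mk (t • 𝟙 (Sg Q₀ n)) (cR (qm t) n) (smul_comp_cR t n)

lemma sg_exact (x : (Sg Q₀ n).X n) (hx : ((cR (qm t) n).f n).hom x = 0) :
    ∃ x' : (Sg Q₀ n).X n, t • x' = x := by
  rw [eq_smul_one n x, map_smul, cR_f_one] at hx
  have hx' : (qm t ((HomologicalComplex.singleObjXSelf (ComplexShape.up ℤ) n
      (ModuleCat.of Q₀ Q₀)).hom.hom x)) • one (Q₀ ⧸ Ideal.span {t}) n = 0 := hx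
  rw [smul_one_eq_zero_iff, Ideal.Quotient.eq_zero_iff_mem, Ideal.mem_span_singleton'] at hx'
  obtain ⟨a, ha⟩ := hx'
  refine ⟨a • one Q₀ n, ?_⟩
  rw [eq_smul_one n x, ← ha, mul_comm, mul_smul]

lemma sg_inj (ht : t ∈ nonZeroDivisors Q₀) (x y : (Sg Q₀ n).X n) (hxy : t • x = t • y) :
    x = y := by
  rw [eq_smul_one n x, eq_smul_one n y, ← mul_smul, ← mul_smul, ← sub_eq_zero, ← sub_smul,
    smul_one_eq_zero_iff, ← mul_sub] at hxy
  have h0 := (mem_nonZeroDivisors_iff.1 ht).1 _ hxy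
  rw [eq_smul_one n x, eq_smul_one n y, sub_eq_zero.1 h0]

lemma sg_surj (y : (Sg (Q₀ ⧸ Ideal.span {t}) n).X n) :
    ∃ x : (Sg Q₀ n).X n, ((cR (qm t) n).f n).hom x = rE (qm t) n _ y := by
  have hy := eq_smul_one n y
  obtain ⟨a, ha⟩ := Ideal.Quotient.mk_surjective
    ((HomologicalComplex.singleObjXSelf (ComplexShape.up ℤ) n
      (ModuleCat.of (Q₀ ⧸ Ideal.span {t}) (Q₀ ⧸ Ideal.span {t}))).hom.hom y)
  refine ⟨a • one Q₀ n, ?_⟩
  rw [map_smul, cR_f_one]
  change (qm t a) • one (Q₀ ⧸ Ideal.span {t}) n = y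
  rw [show qm t a = _ from ha]
  exact hy.symm

lemma sesSg_shortExact (ht : t ∈ nonZeroDivisors Q₀) : (sesSg t n).ShortExact := by
  apply HomologicalComplex.shortExact_of_degreewise_shortExact
  intro i
  by_cases hi : i = n
  · subst hi
    refine ShortComplex.ShortExact.mk' ?_ ?_ ?_
    · rw [ShortComplex.moduleCat_exact_iff]
      intro x hx
      exact sg_exact t i x hx
    · refine (ModuleCat.mono_iff_injective _).2 ?_
      intro x y hxy
      exact sg_inj t i ht x y hxy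
    · refine (ModuleCat.epi_iff_surjective _).2 ?_
      intro y
      exact sg_surj t i y
  · have hz₁ : IsZero ((Sg Q₀ n).X i) :=
      HomologicalComplex.isZero_single_obj_X (ComplexShape.up ℤ) n _ i hi
    have hz₃ : IsZero ((Sg (Q₀ ⧸ Ideal.span {t}) n).X i) :=
      HomologicalComplex.isZero_single_obj_X (ComplexShape.up ℤ) n _ i hi
    haveI s₁ : Subsingleton ((Sg Q₀ n).X i) := ModuleCat.subsingleton_of_isZero hz₁
    haveI s₃ : Subsingleton ((Sg (Q₀ ⧸ Ideal.span {t}) n).X i) :=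
      ModuleCat.subsingleton_of_isZero hz₃
    refine ShortComplex.ShortExact.mk' ?_ ?_ ?_
    · rw [ShortComplex.moduleCat_exact_iff]
      intro x _
      exact ⟨0, Subsingleton.elim (α := (Sg Q₀ n).X i) _ _⟩
    · refine (ModuleCat.mono_iff_injective _).2 ?_
      intro x y _
      exact Subsingleton.elim (α := (Sg Q₀ n).X i) _ _
    · refine (ModuleCat.epi_iff_surjective _).2 ?_
      intro y
      exact ⟨0, Subsingleton.elim (α := (Sg (Q₀ ⧸ Ideal.span {t}) n).X i) _ _⟩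

/-- the distinguished triangle `Q[-n] → Q[-n] → (Q/t)[-n]|_Q →` in `D(Q)` -/
theorem exists_triangle_sg (ht : t ∈ nonZeroDivisors Q₀) :
    ∃ κ : (DRing.restrictD (qm t)).obj (Q.obj (Sg (Q₀ ⧸ Ideal.span {t}) n)) ⟶
        (Q.obj (Sg Q₀ n))⟦(1 : ℤ)⟧,
      Triangle.mk (t • 𝟙 (Q.obj (Sg Q₀ n))) (uR (qm t) n) κ ∈ distTriang _ := by
  have hS := sesSg_shortExact t n ht
  refine ⟨(facR (qm t) (Sg (Q₀ ⧸ Ideal.span {t}) n)).hom ≫ DerivedCategory.triangleOfSESδ hS, ?_⟩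
  refine isomorphic_distinguished _ (DerivedCategory.triangleOfSES_distinguished hS) _ ?_
  refine Triangle.isoMk _ _ (Iso.refl _) (Iso.refl _)
    (facR (qm t) (Sg (Q₀ ⧸ Ideal.span {t}) n)) ?_ ?_ ?_
  · change (t • 𝟙 (Q.obj (Sg Q₀ n))) ≫ 𝟙 _ = 𝟙 _ ≫ Q.map (t • 𝟙 (Sg Q₀ n))
    rw [Functor.map_smul, CategoryTheory.Functor.map_id, Category.comp_id, Category.id_comp]
  · change uR (qm t) n ≫ (facR (qm t) (Sg (Q₀ ⧸ Ideal.span {t}) n)).hom =
      𝟙 _ ≫ Q.map (cR (qm t) n)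
    unfold uR
    rw [Category.assoc, Iso.inv_hom_id, Category.comp_id, Category.id_comp]
  · change ((facR (qm t) (Sg (Q₀ ⧸ Ideal.span {t}) n)).hom ≫
        DerivedCategory.triangleOfSESδ hS) ≫ (shiftFunctor (Dual.D Q₀) (1 : ℤ)).map (𝟙 _) =
      (facR (qm t) (Sg (Q₀ ⧸ Ideal.span {t}) n)).hom ≫ DerivedCategory.triangleOfSESδ hS
    rw [CategoryTheory.Functor.map_id, Category.comp_id]

end Quot

section Main

variable {Q₀ : Type u} [CommRing Q₀] (t : Q₀) (ht : t ∈ nonZeroDivisors Q₀)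
  (G : Dual.D Q₀ ⥤ Dual.D (Q₀ ⧸ Ideal.span {t})) (adj : DRing.restrictD (qm t) ⊣ G)
  (N : Dual.D Q₀) (hN : ∀ (n : ℤ) (x : Q.obj (Sg Q₀ n) ⟶ N), t • x = 0 → x = 0)
  (Y : Dual.D (Q₀ ⧸ Ideal.span {t})) (d : (DRing.restrictD (qm t)).obj Y ⟶ N)
  (w : N ⟶ ((DRing.restrictD (qm t)).obj Y)⟦(1 : ℤ)⟧)
  (hT : Triangle.mk d (t • 𝟙 N) w ∈ distTriang _)

include ht hN hT in
/-- **Koszul step**: the adjoint `Y ⟶ G N` of `d` is an isomorphism -/
theorem isIso_homEquiv : IsIso (adj.homEquiv Y N d) := by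
  apply isIso_of_bijective_sg
  intro n
  obtain ⟨κ, hκ⟩ := exists_triangle_sg t n ht
  have Hb : ∀ x : (Q.obj (Sg Q₀ n))⟦(1 : ℤ)⟧ ⟶ N, t • x = 0 → x = 0 := by
    intro x hx
    let j := sgShiftIso (A := Q₀) (n - 1) n (by omega)
    have h1 : j.inv ≫ x = 0 := by
      apply hN (n - 1)
      rw [← Linear.comp_smul, hx, Limits.comp_zero]
    rw [← cancel_epi j.inv, h1, Limits.comp_zero]
  have hcore := core (DRing.restrictD (qm t)) t N Y d w hT (Q.obj (Sg Q₀ n))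
    (Q.obj (Sg (Q₀ ⧸ Ideal.span {t}) n)) (uR (qm t) n) κ hκ (bijective_uR_comp (qm t) n Y)
    (hN n) Hb
  have heq : (fun y : Q.obj (Sg (Q₀ ⧸ Ideal.span {t}) n) ⟶ Y => y ≫ adj.homEquiv Y N d) =
      (adj.homEquiv _ N) ∘ (fun y => (DRing.restrictD (qm t)).map y ≫ d) := by
    funext y
    exact (adj.homEquiv_naturality_left y d).symm
  rw [heq]
  exact (adj.homEquiv _ _).bijective.comp hcore

include ht hN hT adj in
theorem nonempty_iso_rightAdjoint : Nonempty (Y ≅ G.obj N) := by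
  haveI := isIso_homEquiv t ht G adj N hN Y d w hT
  exact ⟨asIso (adj.homEquiv Y N d)⟩

end Main

end Groth.Agent.Lib.H6xShk
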