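import Mathlib
import Groth.Agent.Lib.H6xShkB
import Groth.Agent.Lib.Helper1Extend
set_option backward.isDefEq.respectTransparency.types false

/-!
# The short exact sequence `0 → Q ⊗ K → Q ⊗ K → Q/t ⊗ K → 0` (helper6)

For a `B`-algebra `Q`, `t ∈ Q` and a `B`-linear retraction `r` of multiplication by `t` on `Q`,
the sequence of complexes of `Q`-modules `0 → Q ⊗_B K --t--> Q ⊗_B K → (Q/t) ⊗_B K → 0` is short
exact for every complex `K` of `B`-modules, and `t` is injective on `Hom(Q[-n], Q ⊗_B K)`.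
-/

set_option autoImplicit false
set_option linter.style.haveILetI false
universe u

namespace Groth.Agent.Lib.H6xShk

open CategoryTheory CategoryTheory.Limits HomologicalComplex DerivedCategory Pretriangulated
  TensorProduct
open Groth.Agent.Lib.Helper1.Extend
attribute [local instance] HasDerivedCategory.standard

section ModuleLevel

variable {B Q₀ : Type u} [CommRing B] [CommRing Q₀] [Algebra B Q₀] (t : Q₀)

/-- the quotient ring `Q/(t)` -/
abbrev Qt : Type u := Q₀ ⧸ Ideal.span {t}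

/-- the quotient map as a `B`-linear map -/
noncomputable def πB : Q₀ →ₗ[B] Qt t := (Ideal.Quotient.mkₐ B (Ideal.span {t})).toLinearMap

/-- multiplication by `t` as a `B`-linear map -/
noncomputable def mt : Q₀ →ₗ[B] Q₀ := LinearMap.mulLeft B t

lemma πB_apply (q : Q₀) : πB (B := B) t q = Ideal.Quotient.mk (Ideal.span {t}) q := rfl

lemma mt_apply (q : Q₀) : mt (B := B) t q = t * q := rfl

lemma exact_mt_πB : Function.Exact (mt (B := B) t) (πB (B := B) t) := by
  intro x
  constructor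
  · intro hx
    have h1 : x ∈ Ideal.span {t} := Ideal.Quotient.eq_zero_iff_mem.1 hx
    obtain ⟨a, ha⟩ := Ideal.mem_span_singleton'.1 h1
    exact ⟨a, by rw [mt_apply, ← ha, mul_comm]⟩
  · rintro ⟨a, rfl⟩
    rw [mt_apply, πB_apply]
    exact Ideal.Quotient.eq_zero_iff_mem.2
      (Ideal.mul_mem_right _ _ (Ideal.mem_span_singleton_self t))

lemma πB_surjective : Function.Surjective (πB (B := B) t) := Ideal.Quotient.mk_surjective

section Tensor

variable (M : Type u) [AddCommGroup M] [Module B M]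

lemma smul_eq_rTensor (z : Q₀ ⊗[B] M) : t • z = LinearMap.rTensor M (mt (B := B) t) z := by
  induction z using TensorProduct.induction_on with
  | zero => rw [smul_zero, map_zero]
  | tmul q m => rw [TensorProduct.smul_tmul', LinearMap.rTensor_tmul, mt_apply, smul_eq_mul]
  | add x y hx hy => rw [smul_add, map_add, hx, hy]

lemma rTensor_πB_smul (q : Q₀) (z : Q₀ ⊗[B] M) :
    LinearMap.rTensor M (πB (B := B) t) (q • z) =
      (Ideal.Quotient.mk (Ideal.span {t}) q) • LinearMap.rTensor M (πB (B := B) t) z := by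
  induction z using TensorProduct.induction_on with
  | zero => rw [smul_zero, map_zero, smul_zero]
  | tmul q' m =>
    rw [TensorProduct.smul_tmul', LinearMap.rTensor_tmul, LinearMap.rTensor_tmul,
      TensorProduct.smul_tmul', smul_eq_mul, πB_apply, πB_apply, map_mul, smul_eq_mul]
  | add x y hx hy => rw [smul_add, map_add, hx, hy, map_add, smul_add]

end Tensor

variable (M : ModuleCat.{u} B)

/-- naturality of `extEquiv` -/
lemma extEquiv_map_symm {R : Type u} [CommRing R] [Algebra B R] {X Y : ModuleCat.{u} B}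
    (f : X ⟶ Y) (s : R ⊗[B] X) :
    extEquiv (A := B) (B := R) Y (((ext B R).map f).hom
      ((extEquiv (A := B) (B := R) X).symm s)) = (f.hom.baseChange R) s := by
  induction s using TensorProduct.induction_on with
  | zero => simp
  | tmul b x => rfl
  | add a b ha hb => simp only [map_add, ha, hb]

lemma extEquiv_map {R : Type u} [CommRing R] [Algebra B R] {X Y : ModuleCat.{u} B}
    (f : X ⟶ Y) (x : (ext B R).obj X) :
    extEquiv (A := B) (B := R) Y (((ext B R).map f).hom x) =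
      (f.hom.baseChange R) (extEquiv (A := B) (B := R) X x) := by
  have := extEquiv_map_symm (R := R) f (extEquiv (A := B) (B := R) X x)
  rwa [LinearEquiv.symm_apply_apply] at this

/-- the projection `Q ⊗ M → (Q/t) ⊗ M` on underlying types -/
noncomputable def νfun : (ext B Q₀).obj M → (ext B (Qt t)).obj M := fun x =>
  (extEquiv (A := B) (B := Qt t) M).symm
    (LinearMap.rTensor M (πB (B := B) t) (extEquiv (A := B) (B := Q₀) M x))

lemma νfun_add (x y : (ext B Q₀).obj M) : νfun t M (x + y) = νfun t M x + νfun t M y := by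
  unfold νfun
  rw [map_add, map_add, map_add]

lemma νfun_smul (q : Q₀) (x : (ext B Q₀).obj M) :
    νfun t M (q • x) = (Ideal.Quotient.mk (Ideal.span {t}) q) • νfun t M x := by
  unfold νfun
  rw [map_smul, rTensor_πB_smul, map_smul]

/-- the projection `Q ⊗ M → (Q/t) ⊗ M` as a morphism of `Q`-modules -/
noncomputable def νL : ((ext B Q₀).obj M) →ₗ[Q₀]
    ((ModuleCat.restrictScalars.{u} (qm t)).obj ((ext B (Qt t)).obj M)) where
  toFun := fun x => νfun t M x
  map_add' := fun x y => νfun_add t M x y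
  map_smul' := fun q x => νfun_smul t M q x

/-- the projection `Q ⊗ M → (Q/t) ⊗ M` as a morphism of `Q`-modules -/
noncomputable def ν : (ext B Q₀).obj M ⟶
    (ModuleCat.restrictScalars.{u} (qm t)).obj ((ext B (Qt t)).obj M) :=
  ModuleCat.ofHom (X := (ext B Q₀).obj M)
    (Y := (ModuleCat.restrictScalars.{u} (qm t)).obj ((ext B (Qt t)).obj M)) (νL t M)

lemma ν_apply (x : (ext B Q₀).obj M) : (ν t M).hom x = νfun t M x := rfl

lemma rTensor_baseChange {R R' : Type u} [CommRing R] [CommRing R'] [Algebra B R] [Algebra B R']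
    (l : R →ₗ[B] R') {X Y : ModuleCat.{u} B} (g : X ⟶ Y) (z : R ⊗[B] X) :
    LinearMap.rTensor Y l (g.hom.baseChange R z) = g.hom.baseChange R' (LinearMap.rTensor X l z) := by
  induction z using TensorProduct.induction_on with
  | zero => simp
  | tmul q m => rfl
  | add x y hx hy => simp only [map_add, hx, hy]

lemma ν_naturality {M M' : ModuleCat.{u} B} (g : M ⟶ M') :
    (ext B Q₀).map g ≫ ν t M' =
      ν t M ≫ (ModuleCat.restrictScalars.{u} (qm t)).map ((ext B (Qt t)).map g) := by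
  apply ModuleCat.hom_ext
  apply LinearMap.ext
  intro x
  change νfun t M' (((ext B Q₀).map g).hom x) = ((ext B (Qt t)).map g).hom (νfun t M x)
  apply (extEquiv (A := B) (B := Qt t) M').injective
  rw [extEquiv_map]
  unfold νfun
  rw [LinearEquiv.apply_symm_apply, LinearEquiv.apply_symm_apply, extEquiv_map,
    rTensor_baseChange]

lemma ν_surjective (y : (ext B (Qt t)).obj M) : ∃ x : (ext B Q₀).obj M, νfun t M x = y := by
  obtain ⟨z, hz⟩ := LinearMap.rTensor_surjective M (πB_surjective (B := B) t)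
    (extEquiv (A := B) (B := Qt t) M y)
  refine ⟨(extEquiv (A := B) (B := Q₀) M).symm z, ?_⟩
  unfold νfun
  rw [LinearEquiv.apply_symm_apply, hz, LinearEquiv.symm_apply_apply]

lemma ν_exact (x : (ext B Q₀).obj M) (hx : νfun t M x = 0) :
    ∃ x' : (ext B Q₀).obj M, t • x' = x := by
  unfold νfun at hx
  rw [LinearEquiv.map_eq_zero_iff] at hx
  obtain ⟨z, hz⟩ := (rTensor_exact M (exact_mt_πB (B := B) t) (πB_surjective (B := B) t) _).1 hx
  refine ⟨(extEquiv (A := B) (B := Q₀) M).symm z, ?_⟩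
  apply (extEquiv (A := B) (B := Q₀) M).injective
  rw [map_smul, LinearEquiv.apply_symm_apply, smul_eq_rTensor, hz]

lemma ν_smul_eq_zero (x : (ext B Q₀).obj M) : νfun t M (t • x) = 0 := by
  rw [νfun_smul, (Ideal.Quotient.eq_zero_iff_mem).2 (Ideal.mem_span_singleton_self t), zero_smul]

variable (r : Q₀ →ₗ[B] Q₀)

/-- the retraction on `Q ⊗ M` -/
noncomputable def ρfun : (ext B Q₀).obj M → (ext B Q₀).obj M := fun x =>
  (extEquiv (A := B) (B := Q₀) M).symm
    (LinearMap.rTensor M r (extEquiv (A := B) (B := Q₀) M x))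

lemma ρfun_add (x y : (ext B Q₀).obj M) : ρfun M r (x + y) = ρfun M r x + ρfun M r y := by
  unfold ρfun
  rw [map_add, map_add, map_add]

lemma ρfun_smul (b : B) (x : (ext B Q₀).obj M) :
    ρfun M r (algebraMap B Q₀ b • x) = algebraMap B Q₀ b • ρfun M r x := by
  unfold ρfun
  rw [map_smul, algebraMap_smul, map_smul, ← algebraMap_smul Q₀ b, map_smul]

lemma ρfun_t_smul (hr : ∀ q, r (t * q) = q) (x : (ext B Q₀).obj M) :
    ρfun M r (t • x) = x := by
  unfold ρfun
  rw [map_smul, smul_eq_rTensor, ← LinearMap.rTensor_comp_apply]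
  have h1 : r ∘ₗ mt (B := B) t = LinearMap.id := by
    ext q
    exact hr q
  rw [h1, LinearMap.rTensor_id_apply, LinearEquiv.symm_apply_apply]

/-- the retraction as a morphism of `B`-modules -/
noncomputable def ρL : ((ModuleCat.restrictScalars.{u} (algebraMap B Q₀)).obj ((ext B Q₀).obj M)) →ₗ[B]
    ((ModuleCat.restrictScalars.{u} (algebraMap B Q₀)).obj ((ext B Q₀).obj M)) where
  toFun := fun x => ρfun M r x
  map_add' := fun x y => ρfun_add M r x y
  map_smul' := fun b x => ρfun_smul M r b x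

/-- the retraction as a morphism of `B`-modules -/
noncomputable def ρ : (ModuleCat.restrictScalars.{u} (algebraMap B Q₀)).obj ((ext B Q₀).obj M) ⟶
    (ModuleCat.restrictScalars.{u} (algebraMap B Q₀)).obj ((ext B Q₀).obj M) :=
  ModuleCat.ofHom (X := (ModuleCat.restrictScalars.{u} (algebraMap B Q₀)).obj ((ext B Q₀).obj M))
    (Y := (ModuleCat.restrictScalars.{u} (algebraMap B Q₀)).obj ((ext B Q₀).obj M)) (ρL M r)

lemma ρ_naturality {M M' : ModuleCat.{u} B} (g : M ⟶ M') :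
    (ModuleCat.restrictScalars.{u} (algebraMap B Q₀)).map ((ext B Q₀).map g) ≫ ρ M' r =
      ρ M r ≫ (ModuleCat.restrictScalars.{u} (algebraMap B Q₀)).map ((ext B Q₀).map g) := by
  apply ModuleCat.hom_ext
  apply LinearMap.ext
  intro x
  change ρfun M' r (((ext B Q₀).map g).hom x) = ((ext B Q₀).map g).hom (ρfun M r x)
  apply (extEquiv (A := B) (B := Q₀) M').injective
  rw [extEquiv_map]
  unfold ρfun
  rw [LinearEquiv.apply_symm_apply, LinearEquiv.apply_symm_apply, extEquiv_map,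
    rTensor_baseChange]

end ModuleLevel

section CxLevel

variable {B Q₀ : Type u} [CommRing B] [CommRing Q₀] [Algebra B Q₀] (t : Q₀) (K : DRing.Cx B)

/-- the complex `Q ⊗_B K` -/
noncomputable abbrev EK (Q₀ : Type u) [CommRing Q₀] [Algebra B Q₀] (K : DRing.Cx B) :
    DRing.Cx Q₀ :=
  ((ext B Q₀).mapHomologicalComplex (ComplexShape.up ℤ)).obj K

/-- the projection `Q ⊗ K → (Q/t) ⊗ K` -/
noncomputable def νK : EK Q₀ K ⟶ (Rc (qm t)).obj (EK (Qt t) K) where
  f i := ν t (K.X i)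
  comm' i j _ := (ν_naturality t (K.d i j)).symm

variable (r : Q₀ →ₗ[B] Q₀)

/-- the retraction on `Q ⊗ K`, as a map of complexes of `B`-modules -/
noncomputable def ρK : (Rc (algebraMap B Q₀)).obj (EK Q₀ K) ⟶ (Rc (algebraMap B Q₀)).obj (EK Q₀ K) where
  f i := ρ (K.X i) r
  comm' i j _ := (ρ_naturality r (K.d i j)).symm

lemma smul_comp_νK : (t • 𝟙 (EK Q₀ K)) ≫ νK t K = 0 := by
  apply HomologicalComplex.hom_ext
  intro i
  apply ModuleCat.hom_ext
  apply LinearMap.ext
  intro x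
  exact ν_smul_eq_zero t (K.X i) x

lemma map_smul_comp_ρK (hr : ∀ q, r (t * q) = q) :
    (Rc (algebraMap B Q₀)).map (t • 𝟙 (EK Q₀ K)) ≫ ρK K r = 𝟙 _ := by
  apply HomologicalComplex.hom_ext
  intro i
  apply ModuleCat.hom_ext
  apply LinearMap.ext
  intro x
  exact ρfun_t_smul t (K.X i) r hr x

/-- the short complex `0 → Q ⊗ K → Q ⊗ K → (Q/t) ⊗ K → 0` -/
noncomputable def sesExt : ShortComplex (DRing.Cx Q₀) :=
  ShortComplex.mk (t • 𝟙 (EK Q₀ K)) (νK t K) (smul_comp_νK t K)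

lemma sesExt_shortExact (hr : ∀ q, r (t * q) = q) : (sesExt t K).ShortExact := by
  apply HomologicalComplex.shortExact_of_degreewise_shortExact
  intro i
  refine ShortComplex.ShortExact.mk' ?_ ?_ ?_
  · rw [ShortComplex.moduleCat_exact_iff]
    intro x hx
    exact ν_exact t (K.X i) x hx
  · refine (ModuleCat.mono_iff_injective _).2 ?_
    intro x y hxy
    have hxy' : t • (show (ext B Q₀).obj (K.X i) from x) = t • (show (ext B Q₀).obj (K.X i) from y) :=
      hxy
    have h1 := congrArg (ρfun (K.X i) r) hxy'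
    rw [ρfun_t_smul t (K.X i) r hr, ρfun_t_smul t (K.X i) r hr] at h1
    exact h1
  · refine (ModuleCat.epi_iff_surjective _).2 ?_
    intro y
    exact ν_surjective t (K.X i) y

include r in
/-- `t` is injective on `Hom(Q[-n], Q ⊗ K)` -/
theorem torsionFree_Q_obj_EK (hr : ∀ q, r (t * q) = q) (n : ℤ)
    (x : Q.obj (Sg Q₀ n) ⟶ Q.obj (EK Q₀ K)) (hx : t • x = 0) : x = 0 := by
  have h1 : x ≫ Q.map (t • 𝟙 (EK Q₀ K)) = 0 := by
    rw [Functor.map_smul, CategoryTheory.Functor.map_id, Linear.comp_smul, Category.comp_id]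
    exact hx
  have h2 : (DRing.restrictD (algebraMap B Q₀)).map x ≫
      (DRing.restrictD (algebraMap B Q₀)).map (Q.map (t • 𝟙 (EK Q₀ K))) = 0 := by
    rw [← Functor.map_comp, h1, Functor.map_zero]
  rw [restrictD_map_Q_map] at h2
  have h3 : (DRing.restrictD (algebraMap B Q₀)).map x ≫
      (facR (algebraMap B Q₀) (EK Q₀ K)).hom = 0 := by
    have h4 := congrArg (fun z => z ≫ (facR (algebraMap B Q₀) (EK Q₀ K)).hom ≫
      Q.map (ρK K r)) h2
    simp only [Category.assoc, Iso.inv_hom_id_assoc, Limits.zero_comp] at h4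
    rw [← Functor.map_comp, map_smul_comp_ρK t K r hr, CategoryTheory.Functor.map_id,
      Category.comp_id] at h4
    exact h4
  have h5 : (DRing.restrictD (algebraMap B Q₀)).map x = 0 := by
    rw [← cancel_mono (facR (algebraMap B Q₀) (EK Q₀ K)).hom, h3, Limits.zero_comp]
  apply (bijective_uR_comp (algebraMap B Q₀) n (Q.obj (EK Q₀ K))).1
  change uR (algebraMap B Q₀) n ≫ (DRing.restrictD (algebraMap B Q₀)).map x =
    uR (algebraMap B Q₀) n ≫ (DRing.restrictD (algebraMap B Q₀)).map 0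
  rw [h5, Functor.map_zero]

end CxLevel

section Step

variable {Q₀ : Type u} [CommRing Q₀] (t : Q₀) (ht : t ∈ nonZeroDivisors Q₀)
  (G : Dual.D Q₀ ⥤ Dual.D (Qt t)) (adj : DRing.restrictD (qm t) ⊣ G)

include ht adj in
/-- the Koszul step, rotated -/
theorem nonempty_shift_iso_rightAdjoint (N : Dual.D Q₀)
    (hN : ∀ (n : ℤ) (x : Q.obj (Sg Q₀ n) ⟶ N), t • x = 0 → x = 0) (X' : Dual.D (Qt t))
    (g : N ⟶ (DRing.restrictD (qm t)).obj X') (δ : (DRing.restrictD (qm t)).obj X' ⟶ N⟦(1 : ℤ)⟧)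
    (hT : Triangle.mk (t • 𝟙 N) g δ ∈ distTriang _) :
    Nonempty (X'⟦(-1 : ℤ)⟧ ≅ G.obj N) := by
  let c : (DRing.restrictD (qm t)).obj (X'⟦(-1 : ℤ)⟧) ≅ ((DRing.restrictD (qm t)).obj X')⟦(-1 : ℤ)⟧ :=
    ((DRing.restrictD (qm t)).commShiftIso (-1 : ℤ)).app X'
  obtain ⟨m₁, m₃, hT'⟩ : ∃ (m₁ : ((DRing.restrictD (qm t)).obj X')⟦(-1 : ℤ)⟧ ⟶ N)
      (m₃ : N ⟶ (((DRing.restrictD (qm t)).obj X')⟦(-1 : ℤ)⟧)⟦(1 : ℤ)⟧),
      Triangle.mk m₁ (t • 𝟙 N) m₃ ∈ distTriang _ := ⟨_, _, inv_rot_of_distTriang _ hT⟩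
  let d : (DRing.restrictD (qm t)).obj (X'⟦(-1 : ℤ)⟧) ⟶ N := c.hom ≫ m₁
  let w : N ⟶ ((DRing.restrictD (qm t)).obj (X'⟦(-1 : ℤ)⟧))⟦(1 : ℤ)⟧ :=
    m₃ ≫ (shiftFunctor (Dual.D Q₀) (1 : ℤ)).map c.inv
  have hT₂ : Triangle.mk d (t • 𝟙 N) w ∈ distTriang _ := by
    refine isomorphic_distinguished _ hT' _ ?_
    refine Triangle.isoMk _ _ c (Iso.refl _) (Iso.refl _) ?_ ?_ ?_
    · change d ≫ 𝟙 _ = c.hom ≫ m₁
      rw [Category.comp_id]
    · change (t • 𝟙 N) ≫ 𝟙 _ = 𝟙 _ ≫ (t • 𝟙 N)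
      rw [Category.comp_id, Category.id_comp]
    · change w ≫ (shiftFunctor (Dual.D Q₀) (1 : ℤ)).map c.hom = 𝟙 _ ≫ m₃
      rw [Category.id_comp]
      change (m₃ ≫ (shiftFunctor (Dual.D Q₀) (1 : ℤ)).map c.inv) ≫
        (shiftFunctor (Dual.D Q₀) (1 : ℤ)).map c.hom = m₃
      rw [Category.assoc, ← Functor.map_comp, Iso.inv_hom_id,
        CategoryTheory.Functor.map_id, Category.comp_id]
  exact nonempty_iso_rightAdjoint t ht G adj N hN (X'⟦(-1 : ℤ)⟧) d w hT₂

variable {B : Type u} [CommRing B] [Algebra B Q₀] [Module.Flat B Q₀] [Module.Flat B (Qt t)]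
  (r : Q₀ →ₗ[B] Q₀) (hr : ∀ q, r (t * q) = q)

include ht adj r hr in
/-- **Step lemma**: `RHom_Q(Q/t, Q ⊗_B L) ≅ (Q/t ⊗_B L)[-1]` -/
theorem nonempty_rightAdjoint_extD_iso (L : Dual.D B) :
    Nonempty (G.obj ((extD B Q₀).obj L) ≅ ((extD B (Qt t)).obj L)⟦(-1 : ℤ)⟧) := by
  let K := Q.objPreimage L
  let i : Q.obj K ≅ L := Q.objObjPreimageIso L
  let θN : (extD B Q₀).obj L ≅ Q.obj (EK Q₀ K) :=
    (extD B Q₀).mapIso i.symm ≪≫ mapQIso (ext B Q₀) K
  let θX : (extD B (Qt t)).obj L ≅ Q.obj (EK (Qt t) K) :=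
    (extD B (Qt t)).mapIso i.symm ≪≫ mapQIso (ext B (Qt t)) K
  have hS := sesExt_shortExact t K r hr
  have hT := DerivedCategory.triangleOfSES_distinguished hS
  let f := facR (qm t) (EK (Qt t) K)
  have hT₁ : Triangle.mk (t • 𝟙 (Q.obj (EK Q₀ K))) (Q.map (νK t K) ≫ f.inv)
      (f.hom ≫ DerivedCategory.triangleOfSESδ hS) ∈ distTriang _ := by
    refine isomorphic_distinguished _ hT _ ?_
    refine Triangle.isoMk _ _ (Iso.refl _) (Iso.refl _) f ?_ ?_ ?_
    · change (t • 𝟙 (Q.obj (EK Q₀ K))) ≫ 𝟙 _ = 𝟙 _ ≫ Q.map (t • 𝟙 (EK Q₀ K))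
      rw [Functor.map_smul, CategoryTheory.Functor.map_id, Category.comp_id, Category.id_comp]
    · change (Q.map (νK t K) ≫ f.inv) ≫ f.hom = 𝟙 _ ≫ Q.map (νK t K)
      rw [Category.assoc, Iso.inv_hom_id, Category.comp_id, Category.id_comp]
    · change (f.hom ≫ DerivedCategory.triangleOfSESδ hS) ≫
          (shiftFunctor (Dual.D Q₀) (1 : ℤ)).map (𝟙 _) = f.hom ≫ DerivedCategory.triangleOfSESδ hS
      rw [CategoryTheory.Functor.map_id, Category.comp_id]
  obtain ⟨e⟩ := nonempty_shift_iso_rightAdjoint t ht G adj (Q.obj (EK Q₀ K))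
    (torsionFree_Q_obj_EK t K r hr) (Q.obj (EK (Qt t) K)) _ _ hT₁
  exact ⟨G.mapIso θN ≪≫ e.symm ≪≫ (shiftFunctor (Dual.D (Qt t)) (-1 : ℤ)).mapIso θX.symm⟩

end Step

end Groth.Agent.Lib.H6xShk
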