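import Mathlib
set_option backward.isDefEq.respectTransparency.types false

/-!
# Polynomial algebras: killing one variable (helper6)

`Q` a `B`-algebra with polynomial generators `t : Fin (m+1) → Q`, `b : B`, `s = t 0 - b`.  Then
`s` is a nonzerodivisor, `Q/(s)` is a polynomial algebra on the images of `t 1, …, t m`, and
multiplication by `s` on `Q` has a `B`-linear retraction.
-/

set_option autoImplicit false
set_option linter.style.haveILetI false
universe u

namespace Groth.Agent.Lib.H6xShk

open MvPolynomial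

section Retraction

variable {B Q : Type u} [CommRing B] [CommRing Q] [Algebra B Q] (s : Q)

/-- if `s` is a nonzerodivisor and `Q/(s)` is a projective `B`-module, multiplication by `s` has a
`B`-linear retraction -/
theorem exists_retraction_of_projective (hs : s ∈ nonZeroDivisors Q)
    [Module.Projective B (Q ⧸ Ideal.span {s})] :
    ∃ r : Q →ₗ[B] Q, ∀ q, r (s * q) = q := by
  let π : Q →ₗ[B] (Q ⧸ Ideal.span {s}) := (Ideal.Quotient.mkₐ B (Ideal.span {s})).toLinearMap
  have hπ : Function.Surjective π := Ideal.Quotient.mk_surjective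
  obtain ⟨l, hl⟩ := Module.projective_lifting_property π LinearMap.id hπ
  let μ : Q →ₗ[B] Q := LinearMap.mulLeft B s
  have hμ : Function.Injective μ := by
    intro x y hxy
    have h1 : s * (x - y) = 0 := by
      rw [mul_sub]
      exact sub_eq_zero.2 hxy
    have h2 := (mem_nonZeroDivisors_iff.1 hs).1 _ h1
    exact sub_eq_zero.1 h2
  let eμ : Q ≃ₗ[B] LinearMap.range μ := LinearEquiv.ofInjective μ hμ
  have hmem : ∀ q : Q, q - l (π q) ∈ LinearMap.range μ := by
    intro q
    have h1 : π (q - l (π q)) = 0 := by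
      rw [map_sub]
      have := LinearMap.congr_fun hl (π q)
      rw [LinearMap.comp_apply, LinearMap.id_apply] at this
      rw [this, sub_self]
    have h2 : q - l (π q) ∈ Ideal.span {s} := Ideal.Quotient.eq_zero_iff_mem.1 h1
    obtain ⟨a, ha⟩ := Ideal.mem_span_singleton'.1 h2
    exact ⟨a, by rw [← ha, mul_comm]; rfl⟩
  let g : Q →ₗ[B] LinearMap.range μ :=
    LinearMap.codRestrict (LinearMap.range μ) (LinearMap.id - l ∘ₗ π) (fun q => hmem q)
  refine ⟨eμ.symm.toLinearMap ∘ₗ g, fun q => ?_⟩
  change eμ.symm (g (s * q)) = q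
  have h3 : g (s * q) = eμ q := by
    apply Subtype.ext
    change (s * q) - l (π (s * q)) = s * q
    have h4 : π (s * q) = 0 :=
      Ideal.Quotient.eq_zero_iff_mem.2 (Ideal.mul_mem_right _ _ (Ideal.mem_span_singleton_self s))
    rw [h4, map_zero, sub_zero]
  rw [h3, LinearEquiv.symm_apply_apply]

end Retraction

section Poly

variable {B Q : Type u} [CommRing B] [CommRing Q] [Algebra B Q] {m : ℕ}
  (t : Fin (m + 1) → Q) (hbij : Function.Bijective (aeval t : MvPolynomial (Fin (m + 1)) B →ₐ[B] Q))
  (b : B)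

/-- the element `t 0 - b` -/
abbrev sElt : Q := t 0 - algebraMap B Q b

/-- `X 0 - C b` is a nonzerodivisor in a polynomial ring -/
lemma X_sub_C_mem_nonZeroDivisors :
    (X 0 - C b : MvPolynomial (Fin (m + 1)) B) ∈ nonZeroDivisors (MvPolynomial (Fin (m + 1)) B) := by
  let e := finSuccEquiv B m
  have h1 : e (X 0 - C b) = Polynomial.X - Polynomial.C (C b) := by
    rw [map_sub, finSuccEquiv_X_zero, finSuccEquiv_apply, eval₂Hom_C]
    rfl
  have h2 : (Polynomial.X - Polynomial.C (C b) : Polynomial (MvPolynomial (Fin m) B)) ∈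
      nonZeroDivisors _ := (Polynomial.monic_X_sub_C _).mem_nonZeroDivisors
  rw [mem_nonZeroDivisors_iff] at h2 ⊢
  constructor
  · intro x hx
    have := h2.1 (e x) (by rw [← h1, ← map_mul, hx, map_zero])
    exact (map_eq_zero_iff e e.injective).1 this
  · intro x hx
    have := h2.2 (e x) (by rw [← h1, ← map_mul, hx, map_zero])
    exact (map_eq_zero_iff e e.injective).1 this

include hbij in
lemma sElt_mem_nonZeroDivisors : sElt t b ∈ nonZeroDivisors Q := by
  let e : MvPolynomial (Fin (m + 1)) B ≃ₐ[B] Q := AlgEquiv.ofBijective (aeval t) hbij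
  have h1 : e (X 0 - C b) = sElt t b := by
    change aeval t (X 0 - C b) = _
    rw [map_sub, aeval_X, aeval_C]
  have h2 := X_sub_C_mem_nonZeroDivisors (m := m) b
  rw [mem_nonZeroDivisors_iff] at h2 ⊢
  constructor
  · intro x hx
    have := h2.1 (e.symm x) (by
      apply e.injective
      rw [map_mul, h1, AlgEquiv.apply_symm_apply, hx, map_zero])
    rw [← e.apply_symm_apply x, this, map_zero]
  · intro x hx
    have := h2.2 (e.symm x) (by
      apply e.injective
      rw [map_mul, h1, AlgEquiv.apply_symm_apply, hx, map_zero])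
    rw [← e.apply_symm_apply x, this, map_zero]

/-- the images of `t 1, …, t m` in `Q/(t 0 - b)` -/
noncomputable def tBar : Fin m → Q ⧸ Ideal.span {sElt t b} :=
  fun j => Ideal.Quotient.mk _ (t j.succ)

include hbij in
/-- `Q/(t 0 - b)` is a polynomial algebra on the images of `t 1, …, t m` -/
theorem bijective_aeval_tBar :
    Function.Bijective (aeval (tBar t b) : MvPolynomial (Fin m) B →ₐ[B] Q ⧸ Ideal.span {sElt t b}) := by
  let e : MvPolynomial (Fin (m + 1)) B ≃ₐ[B] Q := AlgEquiv.ofBijective (aeval t) hbij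
  have he : ∀ i, e (X i) = t i := fun i => aeval_X t i
  let ρ₀ : MvPolynomial (Fin (m + 1)) B →ₐ[B] MvPolynomial (Fin m) B :=
    aeval (Fin.cases (C b) X)
  let ρ : Q →ₐ[B] MvPolynomial (Fin m) B := ρ₀.comp e.symm.toAlgHom
  have hρt : ∀ i, ρ (t i) = (Fin.cases (C b) X : Fin (m + 1) → MvPolynomial (Fin m) B) i := by
    intro i
    change ρ₀ (e.symm (t i)) = _
    rw [← he i, AlgEquiv.symm_apply_apply]
    exact aeval_X _ i
  have hρs : ρ (sElt t b) = 0 := by
    rw [map_sub, hρt 0, AlgHom.commutes]
    change C b - algebraMap B _ b = 0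
    rw [MvPolynomial.algebraMap_eq, sub_self]
  have hker : ∀ a ∈ Ideal.span {sElt t b}, ρ a = 0 := by
    intro a ha
    obtain ⟨c, rfl⟩ := Ideal.mem_span_singleton'.1 ha
    rw [map_mul, hρs, mul_zero]
  let ρbar : (Q ⧸ Ideal.span {sElt t b}) →ₐ[B] MvPolynomial (Fin m) B :=
    Ideal.Quotient.liftₐ (Ideal.span {sElt t b}) ρ hker
  have hleft : ρbar.comp (aeval (tBar t b)) = AlgHom.id B _ := by
    apply MvPolynomial.algHom_ext
    intro j
    change ρbar (aeval (tBar t b) (X j)) = X j
    rw [aeval_X]
    change ρ (t j.succ) = X j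
    rw [hρt]
    rfl
  have hcomp : (aeval (tBar t b)).comp ρ₀ =
      (Ideal.Quotient.mkₐ B (Ideal.span {sElt t b})).comp (aeval t) := by
    apply MvPolynomial.algHom_ext
    intro i
    have hρ₀ : ρ₀ (X i) = (Fin.cases (C b) X : Fin (m + 1) → MvPolynomial (Fin m) B) i :=
      aeval_X _ i
    have hti : (aeval t : MvPolynomial (Fin (m + 1)) B →ₐ[B] Q) (X i) = t i := aeval_X t i
    change aeval (tBar t b) (ρ₀ (X i)) = Ideal.Quotient.mk _ (aeval t (X i))
    rw [hρ₀, hti]
    refine Fin.cases ?_ (fun j => ?_) i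
    · change aeval (tBar t b) (C b) = _
      rw [aeval_C]
      have h0 : t 0 = sElt t b + algebraMap B Q b := by
        unfold sElt
        ring
      rw [h0, map_add, Ideal.Quotient.eq_zero_iff_mem.2 (Ideal.mem_span_singleton_self _),
        zero_add]
      rfl
    · change aeval (tBar t b) (X j) = _
      rw [aeval_X]
      rfl
  constructor
  · intro x y hxy
    have := congrArg ρbar hxy
    have h1 := AlgHom.congr_fun hleft x
    have h2 := AlgHom.congr_fun hleft y
    change ρbar (aeval (tBar t b) x) = x at h1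
    change ρbar (aeval (tBar t b) y) = y at h2
    rw [← h1, ← h2, this]
  · have hs : Function.Surjective ((Ideal.Quotient.mkₐ B (Ideal.span {sElt t b})).comp (aeval t)) :=
      (Ideal.Quotient.mkₐ_surjective B _).comp hbij.2
    rw [← hcomp] at hs
    exact Function.Surjective.of_comp hs

end Poly

end Groth.Agent.Lib.H6xShk
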