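import Mathlib
import Groth.Agent.Lib.H6xShkC
import Groth.Agent.Lib.H6xShkD
import Groth.Agent.Lib.H6xShkE
import Groth.Agent.Lib.H6xCoextA
set_option backward.isDefEq.respectTransparency.types false

/-!
# The key lemma for upper shriek: `RHom_{B[y_1..y_m]}(B, L[y]) ≅ L[-m]` (helper6)

For a `B`-algebra `Q` with polynomial generators `t : Fin m → Q` and a `B`-algebra retraction
`σ : Q → B`, any right adjoint `Rσ` of restriction of scalars along `σ` satisfies
`Rσ(Q ⊗_B L) ≅ L[-m]`.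
-/

set_option autoImplicit false
set_option linter.style.haveILetI false
universe u

namespace Groth.Agent.Lib.H6xShk

open CategoryTheory CategoryTheory.Limits DerivedCategory MvPolynomial
open Groth.Agent.Lib.Helper1.Extend
attribute [local instance] HasDerivedCategory.standard

section Base

variable {B Q₀ : Type u} [CommRing B] [CommRing Q₀] [Algebra B Q₀]

/-- for `B → Q` bijective with inverse `σ`, extension of scalars is restriction along `σ` -/
noncomputable def extIsoRestrict (σ : Q₀ →+* B) (h1 : σ.comp (algebraMap B Q₀) = RingHom.id B)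
    (h2 : (algebraMap B Q₀).comp σ = RingHom.id Q₀) :
    ext B Q₀ ≅ ModuleCat.restrictScalars.{u} σ :=
  let Em : ModuleCat.{u} B ≌ ModuleCat.{u} Q₀ :=
    CategoryTheory.Equivalence.mk (ModuleCat.restrictScalars.{u} σ)
      (ModuleCat.restrictScalars.{u} (algebraMap B Q₀))
      ((ModuleCat.restrictScalarsId'.{u} (σ.comp (algebraMap B Q₀)) h1).symm ≪≫
        ModuleCat.restrictScalarsComp'.{u} (algebraMap B Q₀) σ _ rfl)
      ((ModuleCat.restrictScalarsComp'.{u} σ (algebraMap B Q₀) _ rfl).symm ≪≫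
        ModuleCat.restrictScalarsId'.{u} ((algebraMap B Q₀).comp σ) h2)
  (ModuleCat.extendRestrictScalarsAdj.{u, u, u} (algebraMap B Q₀)).leftAdjointUniq Em.toAdjunction

/-- the key lemma when `B → Q` is bijective -/
theorem keyLemma_of_bijective [Module.Flat B Q₀] (σ : Q₀ →ₐ[B] B)
    (hι : Function.Bijective (algebraMap B Q₀)) (Rσ : Dual.D Q₀ ⥤ Dual.D B)
    (adj : DRing.restrictD σ.toRingHom ⊣ Rσ) (L : Dual.D B) :
    Nonempty (Rσ.obj ((extD B Q₀).obj L) ≅ L) := by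
  have h1 : σ.toRingHom.comp (algebraMap B Q₀) = RingHom.id B := by
    ext b
    exact σ.commutes b
  have h2 : (algebraMap B Q₀).comp σ.toRingHom = RingHom.id Q₀ := by
    ext q
    obtain ⟨b, rfl⟩ := hι.2 q
    change algebraMap B Q₀ (σ (algebraMap B Q₀ b)) = algebraMap B Q₀ b
    rw [σ.commutes]
    rfl
  let θ : (extD B Q₀).obj L ≅ (DRing.restrictD σ.toRingHom).obj L :=
    (mapDerivedCategoryNatIso (ext B Q₀) (ModuleCat.restrictScalars.{u} σ.toRingHom)
      (extIsoRestrict σ.toRingHom h1 h2)).app L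
  obtain ⟨e⟩ := nonempty_iso_rightAdjoint_restrictD_of_inverse (algebraMap B Q₀) σ.toRingHom
    h1 h2 Rσ adj L
  exact ⟨Rσ.mapIso θ ≪≫ e⟩

end Base

section Key

/-- **Key lemma**: `Rσ(Q ⊗_B L) ≅ L[-m]` for a polynomial algebra `Q` on `m` generators and a
retraction `σ : Q → B` -/
theorem keyLemma (B : Type u) [CommRing B] (m : ℕ) :
    ∀ (Q₀ : Type u) [CommRing Q₀] [Algebra B Q₀] [Module.Flat B Q₀] (σ : Q₀ →ₐ[B] B)
      (t : Fin m → Q₀)
      (_ : Function.Bijective (aeval t : MvPolynomial (Fin m) B →ₐ[B] Q₀))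
      (Rσ : Dual.D Q₀ ⥤ Dual.D B) (_ : DRing.restrictD σ.toRingHom ⊣ Rσ) (L : Dual.D B),
      Nonempty (Rσ.obj ((extD B Q₀).obj L) ≅ L⟦-(m : ℤ)⟧) := by
  induction m with
  | zero =>
    intro Q₀ _ _ _ σ t hbij Rσ adj L
    have hι : Function.Bijective (algebraMap B Q₀) := by
      have hC : Function.Bijective (C : B → MvPolynomial (Fin 0) B) :=
        ⟨MvPolynomial.C_injective _ _, MvPolynomial.C_surjective _⟩
      have h : (algebraMap B Q₀ : B → Q₀) = (aeval t : MvPolynomial (Fin 0) B →ₐ[B] Q₀) ∘ C := by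
        funext b
        exact (aeval_C t b).symm
      rw [h]
      exact hbij.comp hC
    obtain ⟨e⟩ := keyLemma_of_bijective σ hι Rσ adj L
    exact ⟨e ≪≫ ((shiftFunctorZero' (Dual.D B) (-((0 : ℕ) : ℤ)) (by simp)).app L).symm⟩
  | succ m ih =>
    intro Q₀ _ _ _ σ t hbij Rσ adj L
    let b : B := σ (t 0)
    let s : Q₀ := sElt t b
    have hs : s ∈ nonZeroDivisors Q₀ := sElt_mem_nonZeroDivisors t hbij b
    have hσs : σ s = 0 := by
      change σ (t 0 - algebraMap B Q₀ b) = 0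
      rw [map_sub, σ.commutes]
      exact sub_self _
    have hbij₁ := bijective_aeval_tBar t hbij b
    haveI : Module.Free B (Q₀ ⧸ Ideal.span {s}) :=
      Module.Free.of_equiv (AlgEquiv.ofBijective (aeval (tBar t b)) hbij₁).toLinearEquiv
    obtain ⟨r, hr⟩ := exists_retraction_of_projective (B := B) s hs
    let σ₁ : (Q₀ ⧸ Ideal.span {s}) →ₐ[B] B :=
      Ideal.Quotient.liftₐ (Ideal.span {s}) σ (by
        intro a ha
        obtain ⟨c, rfl⟩ := Ideal.mem_span_singleton'.1 ha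
        rw [map_mul, hσs, mul_zero])
    have hcomp : σ.toRingHom = σ₁.toRingHom.comp (qm s) := by
      ext q
      rfl
    obtain ⟨Rπ, ⟨adjπ⟩⟩ := Groth.Agent.Lib.H6xCoext.exists_rightAdjoint (qm s)
    obtain ⟨Rσ₁, ⟨adjσ₁⟩⟩ := Groth.Agent.Lib.H6xCoext.exists_rightAdjoint σ₁.toRingHom
    obtain ⟨e1⟩ := nonempty_rightAdjoint_comp_iso (qm s) σ₁.toRingHom σ.toRingHom hcomp Rπ adjπ
      Rσ₁ adjσ₁ Rσ adj
    obtain ⟨e2⟩ := nonempty_rightAdjoint_extD_iso s hs Rπ adjπ r hr L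
    obtain ⟨e3⟩ := ih (Q₀ ⧸ Ideal.span {s}) σ₁ (tBar t b) hbij₁ Rσ₁ adjσ₁ L
    exact ⟨e1.app _ ≪≫ Rσ₁.mapIso e2 ≪≫
      rightAdjointShiftIso σ₁.toRingHom Rσ₁ adjσ₁ _ (-1) ≪≫
      (shiftFunctor (Dual.D B) (-1 : ℤ)).mapIso e3 ≪≫
      ((shiftFunctorAdd' (Dual.D B) (-(m : ℤ)) (-1) (-((m + 1 : ℕ) : ℤ))
        (by push_cast; ring)).app L).symm⟩

end Key

end Groth.Agent.Lib.H6xShk
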