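import Mathlib
import Groth.Agent.Lib.H6xShkF
import Groth.Agent.Lib.H6xGorA
import Groth.Agent.Lib.H6xPCDescB
set_option backward.isDefEq.respectTransparency.types false

/-!
# Independence of the presentation for the algebraic upper shriek (helper6)

* `lemmaS`: adding polynomial variables to a presentation shifts `RHom_P(A, K ⊗ P)` by the number of
  variables.
* `independence`: for two polynomial presentations `ψᵢ : Pᵢ → A` (with `nᵢ` variables),
  `RHom_{P₁}(A, K ⊗ P₁)[n₁] ≅ RHom_{P₂}(A, K ⊗ P₂)[n₂]`.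
* `shriekVia_independent`: the statement for `Dual2.shriekVia`.
-/

set_option autoImplicit false
set_option linter.style.haveILetI false
universe u

namespace Groth.Agent.Lib.H6xShk

open CategoryTheory CategoryTheory.Limits DerivedCategory MvPolynomial TensorProduct
open Groth.Agent.Lib.Helper1.Extend
attribute [local instance] HasDerivedCategory.standard

section S

/-- **Lemma S**: let `ψ : P → A` be surjective, `Q` a polynomial `P`-algebra on `m` generators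
`t` (through `ι : P → Q`), `θ : Q → A` with `θ ∘ ι = ψ`. Then
`RHom_Q(A, K ⊗_R Q) ≅ RHom_P(A, K ⊗_R P)[-m]`. -/
theorem lemmaS (R P Q₀ A : Type u) [CommRing R] [CommRing P] [CommRing Q₀] [CommRing A]
    [Algebra R P] [Algebra R Q₀] [Module.Flat R P] [Module.Flat R Q₀]
    (ψ : P →+* A) (hψ : Function.Surjective ψ) (Rψ : Dual.D P ⥤ Dual.D A)
    (adjψ : DRing.restrictD ψ ⊣ Rψ)
    (ι : P →+* Q₀) (hι : ι.comp (algebraMap R P) = algebraMap R Q₀)
    (m : ℕ) (t : Fin m → Q₀) (ht : Function.Bijective (MvPolynomial.eval₂ ι t))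
    (θ : Q₀ →+* A) (hθ : θ.comp ι = ψ) (Rθ : Dual.D Q₀ ⥤ Dual.D A)
    (adjθ : DRing.restrictD θ ⊣ Rθ) (K : Dual.D R) :
    Nonempty (Rθ.obj ((extD R Q₀).obj K) ≅ (Rψ.obj ((extD R P).obj K))⟦-(m : ℤ)⟧) := by
  letI : Algebra P Q₀ := ι.toAlgebra
  haveI : IsScalarTower R P Q₀ := IsScalarTower.of_algebraMap_eq' hι.symm
  have hbij : Function.Bijective (aeval t : MvPolynomial (Fin m) P →ₐ[P] Q₀) := by
    have h : ((aeval t : MvPolynomial (Fin m) P →ₐ[P] Q₀) : MvPolynomial (Fin m) P → Q₀) =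
        MvPolynomial.eval₂ ι t := by
      funext x
      rfl
    rw [h]
    exact ht
  let e : MvPolynomial (Fin m) P ≃ₐ[P] Q₀ := AlgEquiv.ofBijective (aeval t) hbij
  haveI : Module.Free P Q₀ := Module.Free.of_equiv e.toLinearEquiv
  haveI : Module.Flat P Q₀ := inferInstance
  choose p hp using fun j : Fin m => hψ (θ (t j))
  let σ : Q₀ →ₐ[P] P := (aeval p : MvPolynomial (Fin m) P →ₐ[P] P).comp e.symm.toAlgHom
  have hcomp : θ = ψ.comp σ.toRingHom := by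
    have h1 : θ.comp (aeval t : MvPolynomial (Fin m) P →ₐ[P] Q₀).toRingHom =
        ψ.comp (aeval p : MvPolynomial (Fin m) P →ₐ[P] P).toRingHom := by
      apply MvPolynomial.ringHom_ext
      · intro a
        change θ (aeval t (C a)) = ψ (aeval p (C a))
        rw [aeval_C, aeval_C]
        change θ (ι a) = ψ a
        rw [← hθ]
        rfl
      · intro j
        change θ (aeval t (X j)) = ψ (aeval p (X j))
        rw [aeval_X, aeval_X, hp]
    ext q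
    obtain ⟨x, rfl⟩ := e.surjective q
    have h2 := congrArg (fun f : MvPolynomial (Fin m) P →+* A => f x) h1
    change θ (aeval t x) = ψ (aeval p x) at h2
    change θ (e x) = ψ (aeval p (e.symm (e x)))
    rw [e.symm_apply_apply]
    exact h2
  obtain ⟨Rσ, ⟨adjσ⟩⟩ := Groth.Agent.Lib.H6xCoext.exists_rightAdjoint σ.toRingHom
  obtain ⟨e1⟩ := nonempty_rightAdjoint_comp_iso σ.toRingHom ψ θ hcomp Rσ adjσ Rψ adjψ Rθ adjθ
  obtain ⟨e2⟩ := Groth.Agent.Lib.H6xGor.nonempty_extD_comp_iso R P Q₀ K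
  obtain ⟨e3⟩ := keyLemma P m Q₀ σ t hbij Rσ adjσ ((extD R P).obj K)
  exact ⟨e1.app _ ≪≫ Rψ.mapIso (Rσ.mapIso e2.symm ≪≫ e3) ≪≫
    rightAdjointShiftIso ψ Rψ adjψ _ _⟩

end S

section T

variable (R P P' : Type u) [CommRing R] [CommRing P] [CommRing P'] [Algebra R P] [Algebra R P']

/-- base change of a polynomial algebra is a polynomial algebra -/
theorem bijective_eval₂_includeLeft (m : ℕ) (t' : Fin m → P')
    (ht' : Function.Bijective (aeval t' : MvPolynomial (Fin m) R →ₐ[R] P')) :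
    Function.Bijective (MvPolynomial.eval₂
      (Algebra.TensorProduct.includeLeftRingHom : P →+* P ⊗[R] P')
      (fun j => (1 : P) ⊗ₜ[R] t' j)) := by
  let e' : MvPolynomial (Fin m) R ≃ₐ[R] P' := AlgEquiv.ofBijective (aeval t') ht'
  let E : MvPolynomial (Fin m) P ≃ₐ[P] P ⊗[R] P' :=
    (MvPolynomial.algebraTensorAlgEquiv R P).symm.trans
      (Algebra.TensorProduct.congr (AlgEquiv.refl : P ≃ₐ[P] P) e')
  have h : (MvPolynomial.eval₂ (Algebra.TensorProduct.includeLeftRingHom : P →+* P ⊗[R] P')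
      (fun j => (1 : P) ⊗ₜ[R] t' j)) = E := by
    have h1 : (aeval (fun j => (1 : P) ⊗ₜ[R] t' j) : MvPolynomial (Fin m) P →ₐ[P] P ⊗[R] P') =
        E.toAlgHom := by
      apply MvPolynomial.algHom_ext
      intro j
      rw [aeval_X]
      change _ = (Algebra.TensorProduct.congr (AlgEquiv.refl : P ≃ₐ[P] P) e')
        ((MvPolynomial.algebraTensorAlgEquiv R P).symm (X j))
      rw [MvPolynomial.algebraTensorAlgEquiv_symm_X]
      rw [Algebra.TensorProduct.congr_apply, Algebra.TensorProduct.map_tmul]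
      have hX : e' (X j) = t' j := aeval_X t' j
      change _ = (1 : P) ⊗ₜ[R] e' (X j)
      rw [hX]
    funext x
    exact congrArg (fun f : MvPolynomial (Fin m) P →ₐ[P] P ⊗[R] P' => f x) h1
  rw [h]
  exact E.bijective

/-- the same on the right -/
theorem bijective_eval₂_includeRight (m : ℕ) (t : Fin m → P)
    (ht : Function.Bijective (aeval t : MvPolynomial (Fin m) R →ₐ[R] P)) :
    Function.Bijective (MvPolynomial.eval₂
      ((Algebra.TensorProduct.includeRight : P' →ₐ[R] P ⊗[R] P').toRingHom)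
      (fun j => t j ⊗ₜ[R] (1 : P'))) := by
  have h0 := bijective_eval₂_includeLeft R P' P m t ht
  let c : P' ⊗[R] P ≃ₐ[R] P ⊗[R] P' := Algebra.TensorProduct.comm R P' P
  have h : (MvPolynomial.eval₂
      ((Algebra.TensorProduct.includeRight : P' →ₐ[R] P ⊗[R] P').toRingHom)
      (fun j => t j ⊗ₜ[R] (1 : P'))) = c ∘ (MvPolynomial.eval₂
      (Algebra.TensorProduct.includeLeftRingHom : P' →+* P' ⊗[R] P)
      (fun j => (1 : P') ⊗ₜ[R] t j)) := by
    funext x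
    change _ = c.toAlgHom.toRingHom (MvPolynomial.eval₂ _ _ x)
    rw [MvPolynomial.eval₂_comp_left]
    congr 1
  rw [h]
  exact c.bijective.comp h0

end T

section I

/-- shifting `X⟦-b⟧` by `a + b` gives `X⟦a⟧` -/
noncomputable def shiftNegAddIso {C : Type*} [Category C] [HasShift C ℤ] (X : C) (a b : ℤ) :
    (X⟦-b⟧)⟦a + b⟧ ≅ X⟦a⟧ :=
  ((shiftFunctorAdd' C (-b) (a + b) a (by ring)).app X).symm

/-- **Independence of the presentation** (general form): for two polynomial `R`-algebras `P₁`,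
`P₂` (on `n₁`, `n₂` generators) with surjections onto `A`,
`RHom_{P₁}(A, K ⊗_R P₁)[n₁] ≅ RHom_{P₂}(A, K ⊗_R P₂)[n₂]`. -/
theorem independence (R A P₁ P₂ : Type u) [CommRing R] [CommRing A] [CommRing P₁] [CommRing P₂]
    [Algebra R A] [Algebra R P₁] [Algebra R P₂] [Module.Flat R P₁] [Module.Flat R P₂]
    (n₁ : ℕ) (t₁ : Fin n₁ → P₁)
    (ht₁ : Function.Bijective (aeval t₁ : MvPolynomial (Fin n₁) R →ₐ[R] P₁))
    (n₂ : ℕ) (t₂ : Fin n₂ → P₂)
    (ht₂ : Function.Bijective (aeval t₂ : MvPolynomial (Fin n₂) R →ₐ[R] P₂))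
    (ψ₁ : P₁ →ₐ[R] A) (hψ₁ : Function.Surjective ψ₁)
    (Rψ₁ : Dual.D P₁ ⥤ Dual.D A) (adj₁ : DRing.restrictD ψ₁.toRingHom ⊣ Rψ₁)
    (ψ₂ : P₂ →ₐ[R] A) (hψ₂ : Function.Surjective ψ₂)
    (Rψ₂ : Dual.D P₂ ⥤ Dual.D A) (adj₂ : DRing.restrictD ψ₂.toRingHom ⊣ Rψ₂) (K : Dual.D R) :
    Nonempty ((Rψ₁.obj ((extD R P₁).obj K))⟦(n₁ : ℤ)⟧ ≅ (Rψ₂.obj ((extD R P₂).obj K))⟦(n₂ : ℤ)⟧) := by
  haveI : Module.Free R P₁ :=
    Module.Free.of_equiv (AlgEquiv.ofBijective (aeval t₁) ht₁).toLinearEquiv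
  haveI : Module.Free R P₂ :=
    Module.Free.of_equiv (AlgEquiv.ofBijective (aeval t₂) ht₂).toLinearEquiv
  haveI : Module.Flat R (P₁ ⊗[R] P₂) := inferInstance
  let θ : P₁ ⊗[R] P₂ →ₐ[R] A := Algebra.TensorProduct.productMap ψ₁ ψ₂
  obtain ⟨Rθ, ⟨adjθ⟩⟩ := Groth.Agent.Lib.H6xCoext.exists_rightAdjoint θ.toRingHom
  have hθ₁ : θ.toRingHom.comp (Algebra.TensorProduct.includeLeftRingHom : P₁ →+* P₁ ⊗[R] P₂) =
      ψ₁.toRingHom := by
    ext a
    change Algebra.TensorProduct.productMap ψ₁ ψ₂ (a ⊗ₜ[R] (1 : P₂)) = ψ₁ a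
    rw [Algebra.TensorProduct.productMap_left_apply]
  have hθ₂ : θ.toRingHom.comp
      (Algebra.TensorProduct.includeRight : P₂ →ₐ[R] P₁ ⊗[R] P₂).toRingHom = ψ₂.toRingHom := by
    ext a
    change Algebra.TensorProduct.productMap ψ₁ ψ₂ ((1 : P₁) ⊗ₜ[R] a) = ψ₂ a
    rw [Algebra.TensorProduct.productMap_right_apply]
  have hι₁ : (Algebra.TensorProduct.includeLeftRingHom : P₁ →+* P₁ ⊗[R] P₂).comp
      (algebraMap R P₁) = algebraMap R (P₁ ⊗[R] P₂) := by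
    ext r
    rfl
  have hι₂ : (Algebra.TensorProduct.includeRight : P₂ →ₐ[R] P₁ ⊗[R] P₂).toRingHom.comp
      (algebraMap R P₂) = algebraMap R (P₁ ⊗[R] P₂) := by
    ext r
    exact (Algebra.TensorProduct.includeRight : P₂ →ₐ[R] P₁ ⊗[R] P₂).commutes r
  obtain ⟨e1⟩ := lemmaS R P₁ (P₁ ⊗[R] P₂) A ψ₁.toRingHom hψ₁ Rψ₁ adj₁
    Algebra.TensorProduct.includeLeftRingHom hι₁ n₂ (fun j => (1 : P₁) ⊗ₜ[R] t₂ j)
    (bijective_eval₂_includeLeft R P₁ P₂ n₂ t₂ ht₂) θ.toRingHom hθ₁ Rθ adjθ K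
  obtain ⟨e2⟩ := lemmaS R P₂ (P₁ ⊗[R] P₂) A ψ₂.toRingHom hψ₂ Rψ₂ adj₂
    (Algebra.TensorProduct.includeRight : P₂ →ₐ[R] P₁ ⊗[R] P₂).toRingHom hι₂ n₁
    (fun j => t₁ j ⊗ₜ[R] (1 : P₂))
    (bijective_eval₂_includeRight R P₁ P₂ n₁ t₁ ht₁) θ.toRingHom hθ₂ Rθ adjθ K
  -- `X⟦-n₂⟧ ≅ Y⟦-n₁⟧`, shift by `n₁ + n₂`
  let e3 := e1.symm ≪≫ e2
  exact ⟨(shiftNegAddIso _ (n₁ : ℤ) (n₂ : ℤ)).symm ≪≫
    (shiftFunctor (Dual.D A) ((n₁ : ℤ) + (n₂ : ℤ))).mapIso e3 ≪≫
    eqToIso (by rw [add_comm]) ≪≫ shiftNegAddIso _ (n₂ : ℤ) (n₁ : ℤ)⟩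

/-- **S1781**: `shriekVia` does not depend on the presentation -/
theorem shriekVia_independent (R A : Type u) [CommRing R] [CommRing A] [Algebra R A] (n : ℕ)
    (ψ : MvPolynomial (Fin n) R →ₐ[R] A) (hψ : Function.Surjective ψ)
    [DRing.HasLBaseChange (algebraMap R (MvPolynomial (Fin n) R))]
    (Rψ : Dual.D (MvPolynomial (Fin n) R) ⥤ Dual.D A) (adj : DRing.restrictD ψ.toRingHom ⊣ Rψ)
    (m : ℕ) (ψ' : MvPolynomial (Fin m) R →ₐ[R] A) (hψ' : Function.Surjective ψ')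
    [DRing.HasLBaseChange (algebraMap R (MvPolynomial (Fin m) R))]
    (Rψ' : Dual.D (MvPolynomial (Fin m) R) ⥤ Dual.D A)
    (adj' : DRing.restrictD ψ'.toRingHom ⊣ Rψ') (K : Dual.D R) :
    Nonempty (Dual2.shriekVia n Rψ K ≅ Dual2.shriekVia m Rψ' K) := by
  obtain ⟨a⟩ := Groth.Agent.Lib.H6xPCDesc.nonempty_lbc_iso_extD
    (A := R) (B := MvPolynomial (Fin n) R) K
  obtain ⟨a'⟩ := Groth.Agent.Lib.H6xPCDesc.nonempty_lbc_iso_extD
    (A := R) (B := MvPolynomial (Fin m) R) K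
  have hX : ∀ k : ℕ, Function.Bijective
      (aeval (X : Fin k → MvPolynomial (Fin k) R) :
        MvPolynomial (Fin k) R →ₐ[R] MvPolynomial (Fin k) R) := by
    intro k
    rw [MvPolynomial.aeval_X_left]
    exact Function.bijective_id
  obtain ⟨e⟩ := independence R A (MvPolynomial (Fin n) R) (MvPolynomial (Fin m) R) n X (hX n)
    m X (hX m) ψ hψ Rψ adj ψ' hψ' Rψ' adj' K
  exact ⟨(shiftFunctor (Dual.D A) (n : ℤ)).mapIso (Rψ.mapIso a) ≪≫ e ≪≫
    (shiftFunctor (Dual.D A) (m : ℤ)).mapIso (Rψ'.mapIso a'.symm)⟩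

end I

end Groth.Agent.Lib.H6xShk
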