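import Mathlib
import Groth.Agent.Lib.H6xShkG
import Groth.Agent.Lib.H6xFBCD
set_option backward.isDefEq.respectTransparency.types false

/-!
# Tools for flat base change of right adjoints of restriction (helper6)

* `restrictD_map_smul`: restriction of scalars along `φ : A → B` is `φ`-semilinear on morphisms.
* `IsBC.of_isPushout`: for a cocartesian square `B' = B ⊗_P P'`, a `B → B'` base change map is
  also a `P → P'` base change map.
* `bcRestrictIso`: `(M|_P) ⊗_P P' ≅ (M ⊗_B B')|_{P'}` on derived categories.
-/

set_option autoImplicit false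
set_option linter.style.haveILetI false
universe u

namespace Groth.Agent.Lib.H6xShk

open CategoryTheory CategoryTheory.Limits DerivedCategory TensorProduct
open Groth.Agent.Lib.Helper1.Extend Groth.Agent.Lib.H6xFBC
attribute [local instance] HasDerivedCategory.standard

section Semilinear

variable {A B : Type u} [CommRing A] [CommRing B] (φ : A →+* B)

lemma restrictScalars_map_smul_id (a : A) (M : ModuleCat.{u} B) :
    (ModuleCat.restrictScalars.{u} φ).map (φ a • 𝟙 M) =
      a • 𝟙 ((ModuleCat.restrictScalars.{u} φ).obj M) := by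
  ext x
  rfl

lemma Rc_map_smul_id (a : A) (K : DRing.Cx B) :
    (Rc φ).map (φ a • 𝟙 K) = a • 𝟙 ((Rc φ).obj K) := by
  ext i : 1
  change (ModuleCat.restrictScalars.{u} φ).map (φ a • 𝟙 (K.X i)) =
    a • 𝟙 ((ModuleCat.restrictScalars.{u} φ).obj (K.X i))
  exact restrictScalars_map_smul_id φ a (K.X i)

lemma restrictD_map_smul_id (a : A) (X : Dual.D B) :
    (DRing.restrictD φ).map (φ a • 𝟙 X) = a • 𝟙 ((DRing.restrictD φ).obj X) := by
  let K := Q.objPreimage X
  let e : Q.obj K ≅ X := Q.objObjPreimageIso X
  have h1 : φ a • 𝟙 X = e.inv ≫ Q.map (φ a • 𝟙 K) ≫ e.hom := by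
    rw [Functor.map_smul, CategoryTheory.Functor.map_id, Linear.smul_comp, Linear.comp_smul,
      Category.id_comp, e.inv_hom_id]
  rw [h1, Functor.map_comp, Functor.map_comp, restrictD_map_Q_map, Rc_map_smul_id,
    Functor.map_smul, CategoryTheory.Functor.map_id]
  simp only [Linear.smul_comp, Linear.comp_smul, Category.id_comp, Iso.hom_inv_id]
  rw [← Functor.map_comp, e.inv_hom_id, CategoryTheory.Functor.map_id]

/-- restriction of scalars is semilinear on morphisms -/
lemma restrictD_map_smul (a : A) {X W : Dual.D B} (f : X ⟶ W) :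
    (DRing.restrictD φ).map (φ a • f) = a • (DRing.restrictD φ).map f := by
  have h1 : φ a • f = (φ a • 𝟙 X) ≫ f := by rw [Linear.smul_comp, Category.id_comp]
  rw [h1, Functor.map_comp, restrictD_map_smul_id, Linear.smul_comp, Category.id_comp]

end Semilinear

section Pushout

variable {P P' B B' : Type u} [CommRing P] [CommRing P'] [CommRing B] [CommRing B']
  [Algebra P P'] [Algebra P B] [Algebra B B'] [Algebra P' B'] [Algebra P B']
  [IsScalarTower P P' B'] [IsScalarTower P B B'] [Algebra.IsPushout P P' B B']
  {M N : Type*} [AddCommGroup M] [Module B M] [Module P M] [IsScalarTower P B M]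
  [AddCommGroup N] [Module B' N] [Module P' N] [IsScalarTower P' B' N]

/-- a `B → B'` base change map is a `P → P'` base change map when `B' = B ⊗_P P'` -/
theorem IsBC.of_isPushout (θ : M →ₛₗ[algebraMap B B'] N) (θ' : M →ₛₗ[algebraMap P P'] N)
    (h : ∀ m, θ' m = θ m) (hθ : IsBC θ) : IsBC θ' := by
  have h1 : (bcLift θ' : P' ⊗[P] M → N) =
      (bcLift θ) ∘ (Algebra.IsPushout.cancelBaseChange P P' B B' M).symm := by
    funext x
    induction x using TensorProduct.induction_on with
    | zero =>
      change bcLift θ' 0 = bcLift θ ((Algebra.IsPushout.cancelBaseChange P P' B B' M).symm 0)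
      rw [map_zero, map_zero, map_zero]
    | tmul s m =>
      change bcLift θ' (s ⊗ₜ[P] m) =
        bcLift θ ((Algebra.IsPushout.cancelBaseChange P P' B B' M).symm (s ⊗ₜ[P] m))
      rw [Algebra.IsPushout.cancelBaseChange_symm_tmul, bcLift_tmul, bcLift_tmul, h,
        algebraMap_smul]
    | add x y hx hy =>
      change bcLift θ' (x + y) =
        bcLift θ ((Algebra.IsPushout.cancelBaseChange P P' B B' M).symm (x + y))
      rw [map_add, map_add, map_add]
      exact congrArg₂ (· + ·) hx hy
  unfold IsBC
  rw [h1]
  exact hθ.comp (Algebra.IsPushout.cancelBaseChange P P' B B' M).symm.bijective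

end Pushout

section BCRestrict

variable (P P' B B' : Type u) [CommRing P] [CommRing P'] [CommRing B] [CommRing B']
  [Algebra P P'] [Algebra P B] [Algebra B B'] [Algebra P' B'] [Algebra P B']
  [IsScalarTower P P' B'] [IsScalarTower P B B'] [Algebra.IsPushout P P' B B']

/-- the `P`-module structure on a `B`-module -/
abbrev compMod (M : Type*) [AddCommGroup M] [Module B M] : Module P M :=
  Module.compHom M (algebraMap P B)

lemma compMod_tower (M : Type*) [AddCommGroup M] [Module B M] :
    letI := compMod P B M
    IsScalarTower P B M :=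
  letI := compMod P B M
  ⟨fun p b m => by
    change (p • b) • m = algebraMap P B p • (b • m)
    rw [Algebra.smul_def, mul_smul]⟩

/-- the underlying linear equivalence `P' ⊗_P M ≃ B' ⊗_B M` -/
noncomputable def bcLinEquiv (M : Type u) [AddCommGroup M] [Module B M] :
    letI := compMod P B M
    P' ⊗[P] M ≃ₗ[P'] B' ⊗[B] M :=
  letI := compMod P B M
  haveI := compMod_tower P B M
  (Algebra.IsPushout.cancelBaseChange P P' B B' M).symm

/-- the first identification -/
noncomputable def bcE1 (M : ModuleCat.{u} B) :
    letI := compMod P B M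
    ((ext P P').obj ((ModuleCat.restrictScalars.{u} (algebraMap P B)).obj M)) ≃ₗ[P'] P' ⊗[P] M :=
  letI := compMod P B M
  extEquiv (A := P) (B := P') M

/-- the linear equivalence underlying the base change isomorphism -/
noncomputable def bcModEquiv (M : ModuleCat.{u} B) :
    ((ext P P').obj ((ModuleCat.restrictScalars.{u} (algebraMap P B)).obj M)) ≃ₗ[P']
      ((ModuleCat.restrictScalars.{u} (algebraMap P' B')).obj ((ext B B').obj M)) :=
  letI := compMod P B M
  { toFun := fun x => (extEquiv (A := B) (B := B') M).symm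
      (bcLinEquiv P P' B B' M (bcE1 P P' B M x))
    invFun := fun y => (bcE1 P P' B M).symm
      ((bcLinEquiv P P' B B' M).symm (extEquiv (A := B) (B := B') M y))
    left_inv := fun x => by
      simp only [LinearEquiv.apply_symm_apply, LinearEquiv.symm_apply_apply]
    right_inv := fun y => by
      simp only [LinearEquiv.apply_symm_apply, LinearEquiv.symm_apply_apply]
    map_add' := fun x y => by
      simp only [map_add]
      rfl
    map_smul' := fun s x => by
      simp only [map_smul, RingHom.id_apply]
      have h1 : ∀ w : B' ⊗[B] M, s • w = algebraMap P' B' s • w := fun w =>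
        (algebraMap_smul B' s w).symm
      rw [h1, map_smul]
      rfl }

open ChangeOfRings in
lemma bcModEquiv_one_tmul (M : ModuleCat.{u} B) (m : M) :
    bcModEquiv P P' B B' M
      (((1 : P') ⊗ₜ[P, algebraMap P P']
        (show ((ModuleCat.restrictScalars.{u} (algebraMap P B)).obj M) from m)) :
        (ext P P').obj ((ModuleCat.restrictScalars.{u} (algebraMap P B)).obj M)) =
      (((1 : B') ⊗ₜ[B, algebraMap B B'] m) : (ext B B').obj M) := by
  letI := compMod P B M
  haveI := compMod_tower P B M
  change (extEquiv (A := B) (B := B') M).symm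
      (bcLinEquiv P P' B B' M (bcE1 P P' B M _)) = _
  rw [LinearEquiv.symm_apply_eq]
  have h1 : bcE1 P P' B M (((1 : P') ⊗ₜ[P, algebraMap P P']
        (show ((ModuleCat.restrictScalars.{u} (algebraMap P B)).obj M) from m)) :
        (ext P P').obj ((ModuleCat.restrictScalars.{u} (algebraMap P B)).obj M)) =
      (1 : P') ⊗ₜ[P] (m : M) := rfl
  have h2 : extEquiv (A := B) (B := B') M
      (((1 : B') ⊗ₜ[B, algebraMap B B'] m) : (ext B B').obj M) = (1 : B') ⊗ₜ[B] (m : M) := rfl
  rw [h1, h2]
  change (Algebra.IsPushout.cancelBaseChange P P' B B' M).symm ((1 : P') ⊗ₜ[P] (m : M)) = _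
  rw [Algebra.IsPushout.cancelBaseChange_symm_tmul, map_one]

/-- `(M|_P) ⊗_P P' ≅ (M ⊗_B B')|_{P'}`, naturally in the `B`-module `M` -/
noncomputable def bcModNatIso :
    ModuleCat.restrictScalars.{u} (algebraMap P B) ⋙ ext P P' ≅
      ext B B' ⋙ ModuleCat.restrictScalars.{u} (algebraMap P' B') :=
  NatIso.ofComponents (fun M => (bcModEquiv P P' B B' M).toModuleIso) (by
    intro M N g
    apply ModuleCat.ExtendScalars.hom_ext
    intro m
    have h1 := bcModEquiv_one_tmul P P' B B' M m
    have h2 := bcModEquiv_one_tmul P P' B B' N (g m)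
    refine Eq.trans ?_ (Eq.trans h2 ?_)
    · rfl
    · have h3 : (ext B B').map g (bcModEquiv P P' B B' M _) = _ := congrArg ((ext B B').map g) h1
      exact h3.symm)

variable [Module.Flat P P'] [Module.Flat B B']

/-- **base change for restriction of scalars**: `(X|_P) ⊗_P P' ≅ (X ⊗_B B')|_{P'}` on derived
categories, for a cocartesian square with flat horizontal maps -/
noncomputable def bcRestrictIso :
    DRing.restrictD (algebraMap P B) ⋙ extD P P' ≅
      extD B B' ⋙ DRing.restrictD (algebraMap P' B') :=
  mapDerivedCategoryIsoOfComp (ModuleCat.restrictScalars.{u} (algebraMap P B)) (ext P P')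
      (ModuleCat.restrictScalars.{u} (algebraMap P B) ⋙ ext P P') (Iso.refl _) ≪≫
    mapDerivedCategoryNatIso _ _ (bcModNatIso P P' B B') ≪≫
    (mapDerivedCategoryIsoOfComp (ext B B') (ModuleCat.restrictScalars.{u} (algebraMap P' B'))
      (ext B B' ⋙ ModuleCat.restrictScalars.{u} (algebraMap P' B')) (Iso.refl _)).symm

end BCRestrict

end Groth.Agent.Lib.H6xShk
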