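import Mathlib
import Groth.Agent.Lib.H6xRdcA
import Groth.Agent.Lib.H6xPrjD
import Groth.Agent.Lib.H6xBidL
import Groth.Agent.Lib.H6xPCevB
import Groth.Agent.Lib.H6xShkH
import Groth.Agent.Lib.H6xShkD
set_option backward.isDefEq.respectTransparency.types false

/-!
# helper6: self-maps of `Rφ(1)`: `Hom(Rφ 1, (Rφ 1)⟦i⟧) ≃ H^i(res 1)` when `res 1` has a left dual
-/

set_option autoImplicit false
set_option linter.style.haveILetI false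
set_option maxHeartbeats 400000
universe u
open CategoryTheory CategoryTheory.Limits MonoidalCategory
attribute [local instance] HasDerivedCategory.standard

namespace Groth.Agent.Lib.H6xRdc

open DTen DerivedCategory Groth.Agent.Lib.Helper1.KF Groth.Agent.Lib.Helper1.DT
  Groth.Agent.Lib.H6xDTen Groth.Agent.Lib.H6xPF Groth.Agent.Lib.H6xTB Groth.Agent.Lib.H6xPrj

section Base

variable {B : Type u} [CommRing B] [HasLTen B] [HasLTen₃ B] [IsSymMonoidal B]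

attribute [local instance] monoidalD

lemma whiskerRight_smul (p : B) {X X' : Dual.D B} (f : X ⟶ X') (N : Dual.D B) :
    (p • f) ▷ N = p • (f ▷ N) := tH_smul_left p f (𝟙 N)

/-- maps out of a left dual -/
noncomputable def dualHomEquiv (D N Z : Dual.D B) [ExactPairing D N] :
    (D ⟶ Z) ≃ (𝟙_ (Dual.D B) ⟶ Z ⊗ N) :=
  ((λ_ D).symm.homFromEquiv).trans (tensorRightHomEquiv (𝟙_ (Dual.D B)) D N Z)

lemma dualHomEquiv_smul (D N Z : Dual.D B) [ExactPairing D N] (p : B) (f : D ⟶ Z) :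
    dualHomEquiv D N Z (p • f) = p • dualHomEquiv D N Z f := by
  change (ρ_ _).inv ≫ _ ◁ η_ _ _ ≫ (α_ _ _ _).inv ≫ ((λ_ D).hom ≫ (p • f)) ▷ N =
    p • ((ρ_ _).inv ≫ _ ◁ η_ _ _ ≫ (α_ _ _ _).inv ≫ ((λ_ D).hom ≫ f) ▷ N)
  rw [Linear.comp_smul, whiskerRight_smul, Linear.comp_smul, Linear.comp_smul, Linear.comp_smul]

/-- maps out of the unit compute cohomology -/
theorem exists_unitHomEquivHD (Y : Dual.D B) (i : ℤ) :
    ∃ e : (𝟙_ (Dual.D B) ⟶ Y⟦i⟧) ≃ Dual.HD B Y i, ∀ (p : B) (f : 𝟙_ (Dual.D B) ⟶ Y⟦i⟧),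
      e (p • f) = p • e f := by
  obtain ⟨l⟩ := Groth.Agent.Lib.H6xBid.nonempty_hom_linearEquiv_HD Y i
  let α : 𝟙_ (Dual.D B) ≅ Dual.inD B B := Groth.Agent.Lib.H6xPCev.unitIsoInD
  refine ⟨(α.homFromEquiv).trans l.toEquiv, fun p f => ?_⟩
  change l (α.inv ≫ (p • f)) = p • l (α.inv ≫ f)
  rw [Linear.comp_smul, map_smul]

theorem exists_dualHomEquivHD (D N : Dual.D B) [ExactPairing D N] (i : ℤ) :
    ∃ e : (D ⟶ (𝟙_ (Dual.D B))⟦i⟧) ≃ Dual.HD B N i, ∀ (p : B) (f : D ⟶ (𝟙_ (Dual.D B))⟦i⟧),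
      e (p • f) = p • e f := by
  obtain ⟨s⟩ := nonempty_tO_shift_left (𝟙_ (Dual.D B)) N i
  let j : ((𝟙_ (Dual.D B))⟦i⟧) ⊗ N ≅ N⟦i⟧ :=
    s ≪≫ (shiftFunctor (Dual.D B) i).mapIso (λ_ N)
  obtain ⟨e2, he2⟩ := exists_unitHomEquivHD N i
  refine ⟨(dualHomEquiv D N ((𝟙_ (Dual.D B))⟦i⟧)).trans ((Iso.homToEquiv j).trans e2),
    fun p f => ?_⟩
  change e2 (dualHomEquiv D N ((𝟙_ (Dual.D B))⟦i⟧) (p • f) ≫ j.hom) =
    p • e2 (dualHomEquiv D N ((𝟙_ (Dual.D B))⟦i⟧) f ≫ j.hom)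
  rw [dualHomEquiv_smul, Linear.smul_comp, he2]

end Base

section Rel

variable {B A : Type u} [CommRing B] [CommRing A] (ψ : B →+* A)
  [HasLTen B] [HasLTen₃ B] [IsSymMonoidal B] [HasLTen A] [HasLTen₃ A] [IsSymMonoidal A]
  {Rψ : Dual.D B ⥤ Dual.D A} (adj : rD ψ ⊣ Rψ)

attribute [local instance] monoidalD

/-- the adjunction bijection is semilinear -/
lemma homEquiv_symm_smul (X : Dual.D A) (Z : Dual.D B) (p : B) (f : X ⟶ Rψ.obj Z) :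
    (adj.homEquiv X Z).symm (ψ p • f) = p • (adj.homEquiv X Z).symm f := by
  rw [Adjunction.homEquiv_counit, Adjunction.homEquiv_counit]
  have h := Groth.Agent.Lib.H6xShk.restrictD_map_smul ψ p f
  rw [h, Linear.smul_comp]

include adj in
/-- `Hom(Rψ 1, (Rψ 1)⟦i⟧) ≃ H^i(res 1)`, semilinearly, when `res 1` has a left dual -/
theorem exists_selfHomEquivHD (D : Dual.D B) [ExactPairing D (NN ψ)] (i : ℤ) :
    ∃ e : (Rψ.obj (DTen.unit B) ⟶ (Rψ.obj (DTen.unit B))⟦i⟧) ≃ Dual.HD B (NN ψ) i,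
      ∀ (p : B) (f : Rψ.obj (DTen.unit B) ⟶ (Rψ.obj (DTen.unit B))⟦i⟧),
        e (ψ p • f) = p • e f := by
  haveI : HasResTen ψ := hasResTen ψ
  haveI : ResLegIso ψ := resLegIso ψ
  haveI : HasLBase ψ := hasLBase ψ
  let u := (adjGl ψ (baseAdj ψ) adj).rightAdjointUniq (tensorLeftAdjunction D (NN ψ))
  let δ : (rD ψ).obj (Rψ.obj (DTen.unit B)) ≅ D := u.app (𝟙_ (Dual.D B)) ≪≫ ρ_ D
  let c : (Rψ.obj (DTen.unit B))⟦i⟧ ≅ Rψ.obj ((DTen.unit B)⟦i⟧) :=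
    (Groth.Agent.Lib.H6xShk.rightAdjointShiftIso ψ Rψ adj (DTen.unit B) i).symm
  obtain ⟨e5, he5⟩ := exists_dualHomEquivHD D (NN ψ) i
  refine ⟨(Iso.homToEquiv c).trans ((adj.homEquiv _ _).symm.trans
    ((Iso.homFromEquiv δ).trans e5)), fun p f => ?_⟩
  change e5 (δ.inv ≫ (adj.homEquiv _ _).symm ((ψ p • f) ≫ c.hom)) =
    p • e5 (δ.inv ≫ (adj.homEquiv _ _).symm (f ≫ c.hom))
  rw [Linear.smul_comp, homEquiv_symm_smul, Linear.comp_smul, he5]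

end Rel

end Groth.Agent.Lib.H6xRdc
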