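import Mathlib
set_option backward.isDefEq.respectTransparency.types false

/-!
# helper6: tensoring with an invertible object of a monoidal category is fully faithful
-/

set_option autoImplicit false
set_option linter.style.haveILetI false
universe u
open CategoryTheory CategoryTheory.Limits MonoidalCategory

namespace Groth.Agent.Lib.H6xTw

section Abstract

variable {C : Type*} [Category C] [MonoidalCategory C] (U U' : C) (e : U ⊗ U' ≅ 𝟙_ C)

/-- `(X ⊗ U) ⊗ U' ≅ X` -/
noncomputable def θ (X : C) : (X ⊗ U) ⊗ U' ≅ X := α_ X U U' ≪≫ whiskerLeftIso X e ≪≫ ρ_ X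

lemma θ_nat {X Y : C} (f : X ⟶ Y) :
    (f ▷ U) ▷ U' ≫ (θ U U' e Y).hom = (θ U U' e X).hom ≫ f := by
  simp only [θ, Iso.trans_hom, whiskerLeftIso_hom, Category.assoc]
  rw [associator_naturality_left_assoc, ← whisker_exchange_assoc, rightUnitor_naturality]

include e in
lemma whiskerRight_injective (X Y : C) : Function.Injective (fun f : X ⟶ Y => f ▷ U) := by
  intro f g hfg
  have h1 := θ_nat U U' e f
  have h2 := θ_nat U U' e g
  have hfg' : f ▷ U = g ▷ U := hfg
  rw [hfg'] at h1
  exact (cancel_epi (θ U U' e X).hom).1 (h1.symm.trans h2)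

variable (e' : U' ⊗ U ≅ 𝟙_ C)

include e e' in
theorem whiskerRight_bijective (X Y : C) : Function.Bijective (fun f : X ⟶ Y => f ▷ U) := by
  refine ⟨whiskerRight_injective U U' e X Y, fun h => ?_⟩
  refine ⟨(θ U U' e X).inv ≫ (h ▷ U') ≫ (θ U U' e Y).hom, ?_⟩
  apply whiskerRight_injective U' U e' (X ⊗ U) (Y ⊗ U)
  change (((θ U U' e X).inv ≫ (h ▷ U') ≫ (θ U U' e Y).hom) ▷ U) ▷ U' = h ▷ U'
  rw [← cancel_mono (θ U U' e Y).hom, θ_nat, Iso.hom_inv_id_assoc]

end Abstract

end Groth.Agent.Lib.H6xTw
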