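import Mathlib
import Groth.Agent.Lib.H6xTwA
import Groth.Agent.Lib.H6xFtdB
import Groth.Agent.Lib.H6xPrjD
import Groth.Agent.Lib.H6xDTenMonD
import Groth.Agent.Lib.H6xRdcB
import Groth.Agent.Lib.H6xRelTorLocA
import Groth.Agent.Lib.H6xLocF
import Groth.Agent.Lib.H6xBidG
import Groth.Agent.Lib.Helper1LT
set_option backward.isDefEq.respectTransparency.types false

/-!
# helper6: twisting by an invertible module: `ω ⊗ᴸ P` is dualizing when `ω` is
-/

set_option autoImplicit false
set_option linter.style.haveILetI false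
universe u
open CategoryTheory CategoryTheory.Limits MonoidalCategory HomologicalComplex Pretriangulated
attribute [local instance] HasDerivedCategory.standard

namespace Groth.Agent.Lib.H6xTw

open DerivedCategory DTen Groth.Agent.Lib.H6xDTen Groth.Agent.Lib.Helper1.KF Groth.Agent.Lib.Helper1.DT
  Groth.Agent.Lib.Helper1.Tor Groth.Agent.Lib.H6xFtd Groth.Agent.Lib.H6xPCev

variable {A : Type u} [CommRing A]

lemma kflat_sgl (M : ModuleCat.{u} A) [Module.Flat A M] : KFlat (sgl M) := by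
  refine kflat_of_boundedAbove_flat (sgl M) 0 (fun q hq => ?_) (fun q => ?_)
  · exact isZero_single_obj_X (ComplexShape.up ℤ) 0 M q (by omega)
  · by_cases hq : q = 0
    · subst hq
      exact Module.Flat.of_linearEquiv
        (HomologicalComplex.singleObjXSelf (ComplexShape.up ℤ) 0 M).toLinearEquiv
    · haveI := ModuleCat.subsingleton_of_isZero
        (isZero_single_obj_X (ComplexShape.up ℤ) 0 M q hq)
      infer_instance

variable [HasLTen A]

/-- `M[0] ⊗ᴸ N[0] ≅ (N ⊗ M)[0]` for a flat module `M` -/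
noncomputable def tOInDIso (M N : ModuleCat.{u} A) [Module.Flat A M] :
    tO ((DerivedCategory.singleFunctor (ModuleCat.{u} A) 0).obj M)
      ((DerivedCategory.singleFunctor (ModuleCat.{u} A) 0).obj N) ≅
      (DerivedCategory.singleFunctor (ModuleCat.{u} A) 0).obj (N ⊗ M) :=
  tOSingleIso (sgl M) (kflat_sgl M) N ≪≫
    Q.mapIso ((HomologicalComplex.singleMapHomologicalComplex (tensorLeft N)
      (ComplexShape.up ℤ) 0).app M)

section Inv

variable [HasLTen₃ A] [IsSymMonoidal A]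

attribute [local instance] monoidalD

variable (P : Type u) [AddCommGroup P] [Module A P] [Module.Invertible A P]

/-- `P[0] ⊗ᴸ P^∨[0] ≅ A[0]` -/
noncomputable def eP : (Dual.inD A P : Dual.D A) ⊗ Dual.inD A (Module.Dual A P) ≅ 𝟙_ (Dual.D A) :=
  tOInDIso (ModuleCat.of A P) (ModuleCat.of A (Module.Dual A P)) ≪≫
    (DerivedCategory.singleFunctor (ModuleCat.{u} A) 0).mapIso
      (Module.Invertible.linearEquiv A P).toModuleIso ≪≫ (unitIsoInD (A := A)).symm

/-- `P^∨[0] ⊗ᴸ P[0] ≅ A[0]` -/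
noncomputable def eP' : (Dual.inD A (Module.Dual A P) : Dual.D A) ⊗ Dual.inD A P ≅ 𝟙_ (Dual.D A) :=
  DTen.braiding (Dual.inD A P) (Dual.inD A (Module.Dual A P)) ≪≫ eP P

/-- twisting by `P` is fully faithful -/
theorem tH_id_bijective (X Y : Dual.D A) :
    Function.Bijective (fun f : X ⟶ Y => tH f (𝟙 (Dual.inD A P))) :=
  whiskerRight_bijective (Dual.inD A P) (Dual.inD A (Module.Dual A P)) (eP P) (eP' P) X Y

/-- twisting by `P^∨` is fully faithful -/
theorem tH_id_bijective' (X Y : Dual.D A) :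
    Function.Bijective (fun f : X ⟶ Y => tH f (𝟙 (Dual.inD A (Module.Dual A P)))) :=
  whiskerRight_bijective (Dual.inD A (Module.Dual A P)) (Dual.inD A P) (eP' P) (eP P) X Y

end Inv

section Dualizing

variable [HasLTen₃ A] [IsSymMonoidal A]

attribute [local instance] monoidalD

variable (P : Type u) [AddCommGroup P] [Module A P] [Module.Invertible A P]
  (ω : Dual.D A) (hω : Dual.IsDualizing A ω)

/-- cohomology of a twist by a flat module -/
theorem nonempty_HD_tO_flat_iso (X : Dual.D A) (M : ModuleCat.{u} A) [Module.Flat A M] (i : ℤ) :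
    Nonempty ((homologyFunctor (ModuleCat.{u} A) i).obj
        (tO X ((DerivedCategory.singleFunctor (ModuleCat.{u} A) 0).obj M)) ≅
      M ⊗ (homologyFunctor (ModuleCat.{u} A) i).obj X) := by
  obtain ⟨F, hF, ⟨e⟩⟩ := exists_kflat_iso X
  haveI : PreservesFiniteLimits (tensorLeft M) :=
    (Module.Flat.iff_preservesFiniteLimits_tensorLeft (R := A) (M := M)).1 inferInstance
  exact ⟨(homologyFunctor (ModuleCat.{u} A) i).mapIso
      ((LTen₂ A).mapIso (Iso.prod e.symm (Iso.refl _)) ≪≫ tOSingleIso F hF M) ≪≫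
    (homologyFunctorFactors (ModuleCat.{u} A) i).app _ ≪≫
    Groth.Agent.Lib.H6xRelTorAmp.homologyTCxIso M F i ≪≫
    (tensorLeft M).mapIso (((homologyFunctorFactors (ModuleCat.{u} A) i).app F).symm ≪≫
      (homologyFunctor (ModuleCat.{u} A) i).mapIso e)⟩

include hω in
/-- **twist**: `ω ⊗ᴸ P` is dualizing for an invertible module `P` -/
theorem isDualizing_tO_inD : Dual.IsDualizing A (tO ω (Dual.inD A P)) where
  isNoetherianRing := hω.isNoetherianRing
  finite_injective_dimension := by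
    obtain ⟨a, b, hab⟩ := hω.finite_injective_dimension
    refine ⟨a, b, fun M _ _ i hi => ?_⟩
    obtain ⟨s⟩ := Groth.Agent.Lib.H6xPrj.nonempty_tO_shift_left ω (Dual.inD A P) i
    have E1 : (Dual.inD A M ⟶ (tO ω (Dual.inD A P))⟦i⟧) ≃
        (Dual.inD A M ⟶ tO (ω⟦i⟧) (Dual.inD A P)) := s.symm.homToEquiv
    have E2 : (Dual.inD A M ⟶ tO (ω⟦i⟧) (Dual.inD A P)) ≃
        (tO (Dual.inD A M) (Dual.inD A (Module.Dual A P)) ⟶
          tO (tO (ω⟦i⟧) (Dual.inD A P)) (Dual.inD A (Module.Dual A P))) :=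
      Equiv.ofBijective _ (tH_id_bijective' P (Dual.inD A M) (tO (ω⟦i⟧) (Dual.inD A P)))
    have E3 : (tO (Dual.inD A M) (Dual.inD A (Module.Dual A P)) ⟶
          tO (tO (ω⟦i⟧) (Dual.inD A P)) (Dual.inD A (Module.Dual A P))) ≃
        (tO (Dual.inD A M) (Dual.inD A (Module.Dual A P)) ⟶ ω⟦i⟧) :=
      (θ (Dual.inD A P) (Dual.inD A (Module.Dual A P)) (eP P) (ω⟦i⟧)).homToEquiv
    let c : tO (Dual.inD A M) (Dual.inD A (Module.Dual A P)) ≅
        Dual.inD A (TensorProduct A M (Module.Dual A P)) :=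
      (DTen.braiding (Dual.inD A (Module.Dual A P)) (Dual.inD A M)) ≪≫
        tOInDIso (ModuleCat.of A (Module.Dual A P)) (ModuleCat.of A M)
    have E4 : (tO (Dual.inD A M) (Dual.inD A (Module.Dual A P)) ⟶ ω⟦i⟧) ≃
        (Dual.inD A (TensorProduct A M (Module.Dual A P)) ⟶ ω⟦i⟧) := c.homFromEquiv
    haveI := hab (TensorProduct A M (Module.Dual A P)) i hi
    exact (E1.trans (E2.trans (E3.trans E4))).subsingleton
  finite_cohomology := by
    intro i
    haveI := hω.finite_cohomology i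
    obtain ⟨e⟩ := nonempty_HD_tO_flat_iso ω (ModuleCat.of A P) i
    haveI : Module.Finite A (TensorProduct A P (Dual.HD A ω i)) := inferInstance
    exact Module.Finite.equiv e.symm.toLinearEquiv
  toEnd_bijective := by
    have h1 : (fun a : A => a • 𝟙 (tO ω (Dual.inD A P))) =
        (fun f : ω ⟶ ω => tH f (𝟙 (Dual.inD A P))) ∘ (fun a : A => a • 𝟙 ω) := by
      funext a
      change a • 𝟙 (tO ω (Dual.inD A P)) = tH (a • 𝟙 ω) (𝟙 (Dual.inD A P))
      rw [Groth.Agent.Lib.H6xRdc.tH_smul_id_left]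
    rw [h1]
    exact (tH_id_bijective P ω ω).comp hω.toEnd_bijective
  ext_self_subsingleton := by
    intro i hi
    obtain ⟨s⟩ := Groth.Agent.Lib.H6xPrj.nonempty_tO_shift_left ω (Dual.inD A P) i
    have E1 : (tO ω (Dual.inD A P) ⟶ (tO ω (Dual.inD A P))⟦i⟧) ≃
        (tO ω (Dual.inD A P) ⟶ tO (ω⟦i⟧) (Dual.inD A P)) := s.symm.homToEquiv
    have E2 : (ω ⟶ ω⟦i⟧) ≃ (tO ω (Dual.inD A P) ⟶ tO (ω⟦i⟧) (Dual.inD A P)) :=
      Equiv.ofBijective _ (tH_id_bijective P ω (ω⟦i⟧))
    haveI := hω.ext_self_subsingleton i hi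
    exact (E1.trans E2.symm).subsingleton

end Dualizing

end Groth.Agent.Lib.H6xTw
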