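import Mathlib
import Groth.Agent.Lib.H6xTwB
set_option backward.isDefEq.respectTransparency.types false

/-!
# helper6: the prelude's one-variable `- ⊗ᴸ M` (module `M`) versus the bifunctor `⊗ᴸ`
-/

set_option autoImplicit false
set_option linter.style.haveILetI false
universe u
open CategoryTheory CategoryTheory.Limits MonoidalCategory HomologicalComplex Pretriangulated
attribute [local instance] HasDerivedCategory.standard

namespace Groth.Agent.Lib.H6xTw

open DerivedCategory DTen Groth.Agent.Lib.H6xDTen Groth.Agent.Lib.Helper1.KF Groth.Agent.Lib.Helper1.DT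
  Groth.Agent.Lib.Helper1.Tor Groth.Agent.Lib.H6xFtd Groth.Agent.Lib.H6xPCev
  Groth.Agent.Lib.Helper1.LDer

variable {A : Type u} [CommRing A] [HasLTen A]

/-- `X ⊗ᴸ M` (prelude, one variable) is `X ⊗ᴸ M[0]` -/
theorem nonempty_LTensor_iso (M : ModuleCat.{u} A) [DRing.HasLTensor A M] (X : Dual.D A) :
    Nonempty ((DRing.LTensor A M).obj X ≅
      tO X ((DerivedCategory.singleFunctor (ModuleCat.{u} A) 0).obj M)) := by
  obtain ⟨P, hP, -, ⟨e⟩⟩ := exists_kproj_iso X
  haveI := hP
  exact ⟨(DRing.LTensor A M).mapIso e.symm ≪≫ ltIso M P ≪≫ Q.mapIso ((tCxIsoTC M).app P) ≪≫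
    (tOSingleIso P (kflat_of_isKProjective P) M).symm ≪≫
    (LTen₂ A).mapIso (Iso.prod e (Iso.refl _))⟩

end Groth.Agent.Lib.H6xTw
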