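import Mathlib
set_option backward.isDefEq.respectTransparency.types false

/-!
# helper6: finite modules over a local ring: tensor products are nonzero; tensor-invertible modules are free
-/

set_option autoImplicit false
set_option linter.style.haveILetI false
universe u
open TensorProduct

namespace Groth.Agent.Lib.H6xInv

variable (A : Type u) [CommRing A] [IsLocalRing A]

local notation "κ" => IsLocalRing.ResidueField A

theorem nontrivial_tensorProduct_of_isLocalRing (N₁ N₂ : Type u) [AddCommGroup N₁] [Module A N₁]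
    [AddCommGroup N₂] [Module A N₂] [Module.Finite A N₁] [Module.Finite A N₂] [Nontrivial N₁]
    [Nontrivial N₂] : Nontrivial (N₁ ⊗[A] N₂) := by
  by_contra h
  rw [not_nontrivial_iff_subsingleton] at h
  have h1 : Subsingleton (κ ⊗[A] (N₁ ⊗[A] N₂)) := IsLocalRing.subsingleton_tensorProduct.2 h
  have h2 : Subsingleton ((κ ⊗[A] N₁) ⊗[κ] (κ ⊗[A] N₂)) :=
    (TensorProduct.AlgebraTensorModule.distribBaseChange A κ N₁ N₂).symm.toEquiv.subsingleton
  have n1 : Nontrivial (κ ⊗[A] N₁) := by
    rw [← not_subsingleton_iff_nontrivial, IsLocalRing.subsingleton_tensorProduct,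
      not_subsingleton_iff_nontrivial]
    infer_instance
  have n2 : Nontrivial (κ ⊗[A] N₂) := by
    rw [← not_subsingleton_iff_nontrivial, IsLocalRing.subsingleton_tensorProduct,
      not_subsingleton_iff_nontrivial]
    infer_instance
  obtain ⟨w, hw⟩ := exists_ne (0 : κ ⊗[A] N₂)
  have hinj : Function.Injective (LinearMap.toSpanSingleton κ (κ ⊗[A] N₂) w) := by
    intro x y hxy
    have h3 : (x - y) • w = 0 := (sub_smul x y w).trans (sub_eq_zero.2 hxy)
    rcases smul_eq_zero.1 h3 with h4 | h4
    · exact sub_eq_zero.1 h4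
    · exact absurd h4 hw
  have := TensorProduct.nontrivial_of_linearMap_injective_of_flat_left κ (κ ⊗[A] N₁) (κ ⊗[A] N₂)
    _ hinj
  exact not_subsingleton _ h2

theorem nonempty_linearEquiv_of_tensor (N₁ N₂ : Type u) [AddCommGroup N₁] [Module A N₁]
    [AddCommGroup N₂] [Module A N₂] (e : N₁ ⊗[A] N₂ ≃ₗ[A] A) :
    Nonempty (N₁ ≃ₗ[A] A) ∧ Nonempty (N₂ ≃ₗ[A] A) := by
  haveI i1 : Module.Invertible A N₁ := Module.Invertible.left e
  haveI i2 : Module.Invertible A N₂ := Module.Invertible.right e
  exact ⟨Module.Invertible.free_iff_linearEquiv.1 inferInstance,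
    Module.Invertible.free_iff_linearEquiv.1 inferInstance⟩

end Groth.Agent.Lib.H6xInv
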