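import Mathlib
import Groth.Agent.Lib.H6xFtdB
import Groth.Agent.Lib.H6xPrjD
import Groth.Agent.Lib.Helper1ProjRes
import Groth.Agent.Lib.Helper1PC
import Groth.Agent.S14388
set_option backward.isDefEq.respectTransparency.types false

/-!
# helper6: the top cohomology of a derived tensor product: `H^{p+q}(L ⊗ᴸ M) ≅ H^q(M) ⊗ H^p(L)` for
`L ∈ D^{≤ p}`, `M ∈ D^{≤ q}`
-/

set_option autoImplicit false
set_option linter.style.haveILetI false
universe u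
open CategoryTheory CategoryTheory.Limits MonoidalCategory HomologicalComplex Pretriangulated
attribute [local instance] HasDerivedCategory.standard

namespace Groth.Agent.Lib.H6xInv

open DerivedCategory DTen Groth.Agent.Lib.H6xDTen Groth.Agent.Lib.Helper1.KF Groth.Agent.Lib.Helper1.DT
  Groth.Agent.Lib.Helper1.Tor Groth.Agent.Lib.H6xPCev Groth.Agent.Lib.H6xFtd Groth.Agent.S14388

variable {A : Type u} [CommRing A]

/-- a K-flat model, strictly bounded above by `a`, of an object of `D^{≤ a}` -/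
lemma exists_kflat_model_of_isLE (X : Dual.D A) (a : ℤ) [X.IsLE a] :
    ∃ (P : Cx A), KFlat P ∧ P.IsStrictlyLE a ∧ Nonempty (X ≅ Q.obj P) := by
  obtain ⟨X₀, hX₀, ⟨e⟩⟩ := exists_iso_Q_obj_of_isLE X a
  obtain ⟨P, f, hf, hP, hPle⟩ := Groth.Agent.Lib.Helper1.ProjRes.exists_proj_res X₀ a
  haveI := hP
  haveI := hPle
  haveI : P.IsKProjective := CochainComplex.isKProjective_of_projective P a
  haveI : IsIso (Q.map f) := (DerivedCategory.isIso_Q_map_iff_quasiIso (φ := f)).2 hf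
  exact ⟨P, kflat_of_isKProjective P, hPle, ⟨e ≪≫ (asIso (Q.map f)).symm⟩⟩

variable [HasLTen A]

theorem isLE_tO (X Y : Dual.D A) (a b : ℤ) [X.IsLE a] [Y.IsLE b] : (tO X Y).IsLE (a + b) := by
  obtain ⟨P, hPK, hPle, ⟨e⟩⟩ := exists_kflat_model_of_isLE X a
  obtain ⟨Y₀, hY₀, ⟨eY⟩⟩ := exists_iso_Q_obj_of_isLE Y b
  let i1 : tO X Y ≅ Q.obj (P ⊗ Y₀) :=
    (LTen₂ A).mapIso (Iso.prod e eY) ≪≫ μK P Y₀ (Or.inl hPK)
  haveI : (P ⊗ Y₀ : Cx A).IsStrictlyLE (a + b) := by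
    rw [CochainComplex.isStrictlyLE_iff]
    intro i hi'
    apply isZero_tensor_X
    intro p q hpq
    by_cases hp : a < p
    · exact Or.inl (P.isZero_of_isStrictlyLE a p hp)
    · exact Or.inr (Y₀.isZero_of_isStrictlyLE b q (by omega))
  exact (DerivedCategory.TStructure.t).isLE_of_iso i1.symm (a + b)

omit [HasLTen A] in
/-- the opcycles of `N ⊗ P` (termwise) are `N ⊗` the opcycles of `P` -/
theorem nonempty_opcycles_TC_iso (N : ModuleCat.{u} A) (P : Cx A) (j : ℤ) :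
    Nonempty (((TC N).obj P).opcycles j ≅ N ⊗ P.opcycles j) := by
  have h1 := ((TC N).obj P).opcyclesIsCokernel (j - 1) j (by simp)
  haveI : (tensorLeft N).IsLeftAdjoint := inferInstance
  have h2 := CokernelCofork.mapIsColimit _ (P.opcyclesIsCokernel (j - 1) j (by simp)) (tensorLeft N)
  exact ⟨IsColimit.coconePointUniqueUpToIso h1 h2⟩

/-- `H^0(L ⊗ᴸ N) ≅ N ⊗ H^0(L)` for `L ∈ D^{≤ 0}` and a module `N` -/
theorem nonempty_H0_tO_single (L : Dual.D A) [L.IsLE 0] (N : ModuleCat.{u} A) :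
    Nonempty ((homologyFunctor (ModuleCat.{u} A) 0).obj
        (tO L ((DerivedCategory.singleFunctor (ModuleCat.{u} A) 0).obj N)) ≅
      N ⊗ (homologyFunctor (ModuleCat.{u} A) 0).obj L) := by
  obtain ⟨P, hPK, hPle, ⟨e⟩⟩ := exists_kflat_model_of_isLE L 0
  have hz : IsZero (P.X 1) := P.isZero_of_isStrictlyLE 0 1 (by omega)
  have hdP : P.d 0 1 = 0 := hz.eq_of_tgt _ _
  have hd : ((TC N).obj P).d 0 1 = 0 :=
    (IsZero.eq_of_tgt ((tensorLeft N).map_isZero hz) _ _)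
  let e1 : tO L ((DerivedCategory.singleFunctor (ModuleCat.{u} A) 0).obj N) ≅ Q.obj ((TC N).obj P) :=
    (LTen₂ A).mapIso (Iso.prod e (Iso.refl _)) ≪≫ tOSingleIso P hPK N
  let e2 : (homologyFunctor (ModuleCat.{u} A) 0).obj (Q.obj ((TC N).obj P)) ≅
      ((TC N).obj P).homology 0 := (homologyFunctorFactors (ModuleCat.{u} A) 0).app _
  let e3 : ((TC N).obj P).homology 0 ≅ ((TC N).obj P).opcycles 0 :=
    ((TC N).obj P).isoHomologyι 0 1 (by simp) hd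
  obtain ⟨e4⟩ := nonempty_opcycles_TC_iso N P 0
  let e5 : P.opcycles 0 ≅ P.homology 0 := (P.isoHomologyι 0 1 (by simp) hdP).symm
  let e6 : P.homology 0 ≅ (homologyFunctor (ModuleCat.{u} A) 0).obj (Q.obj P) :=
    ((homologyFunctorFactors (ModuleCat.{u} A) 0).app P).symm
  let e7 : (homologyFunctor (ModuleCat.{u} A) 0).obj (Q.obj P) ≅
      (homologyFunctor (ModuleCat.{u} A) 0).obj L :=
    (homologyFunctor (ModuleCat.{u} A) 0).mapIso e.symm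
  exact ⟨(homologyFunctor (ModuleCat.{u} A) 0).mapIso e1 ≪≫ e2 ≪≫ e3 ≪≫ e4 ≪≫
    (tensorLeft N).mapIso (e5 ≪≫ e6 ≪≫ e7)⟩

section Kunneth

variable [HasLTen₃ A] [IsSymMonoidal A] [HasRHom A]

/-- `H^0(L ⊗ᴸ M) ≅ H^0(M) ⊗ H^0(L)` for `L, M ∈ D^{≤ 0}` -/
theorem nonempty_H0_tO (L M : Dual.D A) [hL : L.IsLE 0] [hM : M.IsLE 0] :
    Nonempty ((homologyFunctor (ModuleCat.{u} A) 0).obj (tO L M) ≅
      (homologyFunctor (ModuleCat.{u} A) 0).obj M ⊗ (homologyFunctor (ModuleCat.{u} A) 0).obj L) := by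
  have hT := rot_of_distTriang _ (tt.triangleLTGE_distinguished 0 M)
  haveI hC : ((((tt.triangleLTGE 0).obj M).obj₁)⟦(1 : ℤ)⟧).IsLE (-1 - 1) := by
    haveI : ((tt.truncLT 0).obj M).IsLE (-1) := tt.isLE_truncLT_obj M 0 (-1) (by omega)
    change (((tt.truncLT 0).obj M)⟦(1 : ℤ)⟧).IsLE (-1 - 1)
    exact tt.isLE_shift _ (-1) 1 (-1 - 1) (by omega)
  obtain ⟨Z'', v'', w'', hT''⟩ := distinguished_cocone_triangle (tH (𝟙 L) ((tt.truncGEπ 0).app M))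
  have hZ : Z''.IsLE (-1 - 1) := by
    have h := isLE_cone_tH ((tt.truncGEπ 0).app M) _ _ hT (-1) L 0 v'' w'' hT''
    rwa [show (0 : ℤ) + (-1) - 1 = -1 - 1 by norm_num] at h
  have conn := (Groth.Agent.Lib.Helper1.PC.conn_iff_of_distTriang _ hT'' (-1)).2 hZ
  haveI i1 : IsIso ((homologyFunctor (ModuleCat.{u} A) 0).map
      (tH (𝟙 L) ((tt.truncGEπ 0).app M))) := conn.1 0 (by omega)
  haveI : ((tt.truncGE 0).obj M).IsLE 0 := inferInstance
  haveI : ((tt.truncGE 0).obj M).IsGE 0 := inferInstance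
  obtain ⟨N, ⟨eN⟩⟩ := exists_iso_singleFunctor_obj_of_isGE_of_isLE ((tt.truncGE 0).obj M) 0
  haveI i2 := isIso_homology_truncGEπ 0 0 le_rfl M
  let eN' : N ≅ (homologyFunctor (ModuleCat.{u} A) 0).obj M :=
    ((singleFunctorCompHomologyFunctorIso (ModuleCat.{u} A) 0).app N).symm ≪≫
      (homologyFunctor (ModuleCat.{u} A) 0).mapIso eN.symm ≪≫
      (asIso ((homologyFunctor (ModuleCat.{u} A) 0).map ((tt.truncGEπ 0).app M))).symm
  obtain ⟨e3⟩ := nonempty_H0_tO_single L N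
  exact ⟨asIso ((homologyFunctor (ModuleCat.{u} A) 0).map (tH (𝟙 L) ((tt.truncGEπ 0).app M))) ≪≫
    (homologyFunctor (ModuleCat.{u} A) 0).mapIso ((LTen₂ A).mapIso (Iso.prod (Iso.refl L) eN)) ≪≫
    e3 ≪≫ (tensorRight _).mapIso eN'⟩

/-- **top Künneth**: `H^{p+q}(L ⊗ᴸ M) ≅ H^q(M) ⊗ H^p(L)` for `L ∈ D^{≤ p}`, `M ∈ D^{≤ q}` -/
theorem nonempty_HD_tO_linearEquiv (L M : Dual.D A) (p q : ℤ) [hL : L.IsLE p] [hM : M.IsLE q] :
    Nonempty (Dual.HD A (tO L M) (q + p) ≃ₗ[A]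
      TensorProduct A (Dual.HD A M q) (Dual.HD A L p)) := by
  haveI : (L⟦p⟧).IsLE 0 := tt.isLE_shift L p p 0 (by omega)
  haveI : (M⟦q⟧).IsLE 0 := tt.isLE_shift M q q 0 (by omega)
  obtain ⟨s1⟩ := Groth.Agent.Lib.H6xPrj.nonempty_tO_shift_left L (M⟦q⟧) p
  obtain ⟨s2⟩ := Groth.Agent.Lib.H6xPrj.nonempty_tO_shift_left M L q
  let e : tO (L⟦p⟧) (M⟦q⟧) ≅ ((tO L M)⟦q⟧)⟦p⟧ :=
    s1 ≪≫ (shiftFunctor (Dual.D A) p).mapIso (DTen.braiding (M⟦q⟧) L ≪≫ s2 ≪≫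
      (shiftFunctor (Dual.D A) q).mapIso (DTen.braiding L M))
  obtain ⟨k⟩ := nonempty_H0_tO (L⟦p⟧) (M⟦q⟧)
  let h1 : (homologyFunctor (ModuleCat.{u} A) 0).obj (((tO L M)⟦q⟧)⟦p⟧) ≅
      (homologyFunctor (ModuleCat.{u} A) (q + p)).obj (tO L M) :=
    ((homologyFunctor (ModuleCat.{u} A) 0).shiftIso p 0 p (add_zero p)).app ((tO L M)⟦q⟧) ≪≫
      ((homologyFunctor (ModuleCat.{u} A) 0).shiftIso q p (q + p) rfl).app (tO L M)
  let h2 : (homologyFunctor (ModuleCat.{u} A) 0).obj (L⟦p⟧) ≅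
      (homologyFunctor (ModuleCat.{u} A) p).obj L :=
    ((homologyFunctor (ModuleCat.{u} A) 0).shiftIso p 0 p (add_zero p)).app L
  let h3 : (homologyFunctor (ModuleCat.{u} A) 0).obj (M⟦q⟧) ≅
      (homologyFunctor (ModuleCat.{u} A) q).obj M :=
    ((homologyFunctor (ModuleCat.{u} A) 0).shiftIso q 0 q (add_zero q)).app M
  let tot : (homologyFunctor (ModuleCat.{u} A) (q + p)).obj (tO L M) ≅
      (homologyFunctor (ModuleCat.{u} A) q).obj M ⊗ (homologyFunctor (ModuleCat.{u} A) p).obj L :=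
    h1.symm ≪≫ (homologyFunctor (ModuleCat.{u} A) 0).mapIso e.symm ≪≫ k ≪≫
      (tensorRight _).mapIso h3 ≪≫ (tensorLeft _).mapIso h2
  exact ⟨tot.toLinearEquiv⟩

end Kunneth

end Groth.Agent.Lib.H6xInv
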