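import Mathlib
import Groth.Agent.Lib.H6xInvA
import Groth.Agent.Lib.H6xInvB
import Groth.Agent.Lib.H6xBrgE
set_option backward.isDefEq.respectTransparency.types false

/-!
# helper6: `L ⊗ᴸ M ≅ A[0]` over a Noetherian local ring forces `L ≅ A[n]`, `M ≅ A[-n]`
-/

set_option autoImplicit false
set_option linter.style.haveILetI false
universe u
open CategoryTheory CategoryTheory.Limits MonoidalCategory Pretriangulated
attribute [local instance] HasDerivedCategory.standard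

namespace Groth.Agent.Lib.H6xInv

open DerivedCategory DTen Groth.Agent.Lib.H6xDTen Groth.Agent.Lib.H6xPCev Groth.Agent.Lib.H6xBrg
  Groth.Agent.S14388

variable {A : Type u} [CommRing A]

/-- (S) an object with cohomology `A` in degree `p` only is `A[n]`, `n + p = 0` -/
theorem nonempty_iso_shift_inD_of_HD (X : Dual.D A) (p n : ℤ) (hn : n + p = 0)
    (h0 : ∀ j : ℤ, j ≠ p → Subsingleton (Dual.HD A X j))
    (eA : Dual.HD A X p ≃ₗ[A] A) : Nonempty (X ≅ (Dual.inD A A)⟦n⟧) := by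
  haveI : X.IsLE p := by
    rw [DerivedCategory.isLE_iff]
    intro i hi
    haveI := h0 i (by omega)
    exact ModuleCat.isZero_of_subsingleton _
  haveI : X.IsGE p := by
    rw [DerivedCategory.isGE_iff]
    intro i hi
    haveI := h0 i (by omega)
    exact ModuleCat.isZero_of_subsingleton _
  obtain ⟨N, ⟨e⟩⟩ := exists_iso_singleFunctor_obj_of_isGE_of_isLE X p
  let eN : N ≅ ModuleCat.of A A :=
    ((singleFunctorCompHomologyFunctorIso (ModuleCat.{u} A) p).app N).symm ≪≫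
      (homologyFunctor (ModuleCat.{u} A) p).mapIso e.symm ≪≫ eA.toModuleIso
  exact ⟨e ≪≫ (DerivedCategory.singleFunctor (ModuleCat.{u} A) p).mapIso eN ≪≫
    (((DerivedCategory.singleFunctors (ModuleCat.{u} A)).shiftIso n p 0 hn).app
      (ModuleCat.of A A)).symm⟩

section R

variable [HasLTen A] [HasLTen₃ A] [IsSymMonoidal A] [HasRHom A]

/-- (R) if `L ∈ D^{≤ p}` has `H^p(L) ≅ A` and `L ⊗ᴸ M` has cohomology in degree `0` only, then `M` has
cohomology in degree `-p` only -/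
theorem subsingleton_HD_of_tO (L M : Dual.D A) (p n : ℤ) (hn : n + p = 0) [hL : L.IsLE p]
    (eA : Dual.HD A L p ≃ₗ[A] A)
    (hZ : ∀ i : ℤ, i ≠ 0 → Subsingleton (Dual.HD A (tO L M) i)) (j : ℤ) (hj : j ≠ n) :
    Subsingleton (Dual.HD A M j) := by
  obtain rfl : n = -p := by omega
  haveI : ((tt.truncGE p).obj L).IsLE p := inferInstance
  haveI : ((tt.truncGE p).obj L).IsGE p := inferInstance
  haveI i2 := isIso_homology_truncGEπ p p le_rfl L
  let eY : Dual.HD A ((tt.truncGE p).obj L) p ≃ₗ[A] A :=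
    (asIso ((homologyFunctor (ModuleCat.{u} A) p).map ((tt.truncGEπ p).app L))).symm.toLinearEquiv ≪≫ₗ
      eA
  have hY0 : ∀ j : ℤ, j ≠ p → Subsingleton (Dual.HD A ((tt.truncGE p).obj L) j) := by
    intro j hj
    rcases lt_or_gt_of_ne hj with h | h
    · exact ModuleCat.subsingleton_of_isZero (isZero_of_isGE _ p j h)
    · exact ModuleCat.subsingleton_of_isZero (isZero_of_isLE _ p j h)
  obtain ⟨eYV⟩ := nonempty_iso_shift_inD_of_HD ((tt.truncGE p).obj L) p (-p) (by omega) hY0 eY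
  let eV : (tt.truncGE p).obj L ≅ V A p :=
    eYV ≪≫ (shiftFunctor (Dual.D A) (-p)).mapIso (unitIsoInD (A := A)).symm
  have hT := tt.triangleLTGE_distinguished p L
  have hδ : ((tt.triangleLTGE p).obj L).mor₃ = 0 := by
    obtain ⟨l⟩ := nonempty_V_hom_linearEquiv_HD (((tt.truncLT p).obj L)⟦(1 : ℤ)⟧) p
    haveI : ((tt.truncLT p).obj L).IsLE (p - 1) := tt.isLE_truncLT_obj L p (p - 1) (by omega)
    haveI : (((tt.truncLT p).obj L)⟦(1 : ℤ)⟧).IsLE (p - 1 - 1) :=
      tt.isLE_shift _ (p - 1) 1 (p - 1 - 1) (by omega)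
    haveI : Subsingleton (Dual.HD A (((tt.truncLT p).obj L)⟦(1 : ℤ)⟧) p) :=
      ModuleCat.subsingleton_of_isZero (isZero_of_isLE _ (p - 1 - 1) p (by omega))
    haveI : Subsingleton (V A p ⟶ ((tt.truncLT p).obj L)⟦(1 : ℤ)⟧) := l.toEquiv.subsingleton
    have h : ∀ f : (tt.truncGE p).obj L ⟶ ((tt.truncLT p).obj L)⟦(1 : ℤ)⟧, f = 0 := fun f =>
      (cancel_epi eV.inv).1 (Subsingleton.elim _ _)
    exact h _
  obtain ⟨s, hs⟩ : ∃ s : (tt.truncGE p).obj L ⟶ L,
      𝟙 ((tt.truncGE p).obj L) = s ≫ (tt.truncGEπ p).app L :=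
    Triangle.coyoneda_exact₃ _ hT (𝟙 _) (by rw [hδ, comp_zero])
  have hs' : s ≫ (tt.truncGEπ p).app L = 𝟙 ((tt.truncGE p).obj L) := hs.symm
  have hsr : tH s (𝟙 M) ≫ tH ((tt.truncGEπ p).app L) (𝟙 M) = 𝟙 (tO ((tt.truncGE p).obj L) M) := by
    rw [tH_comp, hs', Category.comp_id]
    exact tH_id _ _
  let eM : tO ((tt.truncGE p).obj L) M ≅ M⟦-p⟧ :=
    (LTen₂ A).mapIso (Iso.prod eV (Iso.refl M)) ≪≫ (β (-p)).app M
  have h1 : IsZero ((homologyFunctor (ModuleCat.{u} A) (j + p)).obj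
      (tO ((tt.truncGE p).obj L) M)) := by
    rw [IsZero.iff_id_eq_zero]
    have hid : 𝟙 ((homologyFunctor (ModuleCat.{u} A) (j + p)).obj (tO ((tt.truncGE p).obj L) M)) =
        (homologyFunctor (ModuleCat.{u} A) (j + p)).map (𝟙 (tO ((tt.truncGE p).obj L) M)) :=
      (CategoryTheory.Functor.map_id _ _).symm
    rw [hid, ← hsr, CategoryTheory.Functor.map_comp]
    haveI := hZ (j + p) (by omega)
    have h0 : (homologyFunctor (ModuleCat.{u} A) (j + p)).map (tH s (𝟙 M)) = 0 :=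
      (ModuleCat.isZero_of_subsingleton _).eq_of_tgt _ _
    rw [h0, zero_comp]
  have h2 : IsZero ((homologyFunctor (ModuleCat.{u} A) j).obj M) :=
    h1.of_iso ((homologyFunctor (ModuleCat.{u} A) (j + p)).mapIso eM ≪≫
      ((homologyFunctor (ModuleCat.{u} A) 0).shiftIso (-p) (j + p) j (by omega)).app M).symm
  exact ModuleCat.subsingleton_of_isZero h2

end R

/-- the top nonvanishing cohomological degree -/
lemma exists_top_degree (X : Dual.D A) (hb : ∃ b : ℤ, ∀ i : ℤ, b < i → Subsingleton (Dual.HD A X i))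
    (hne : ∃ i : ℤ, Nontrivial (Dual.HD A X i)) :
    ∃ p : ℤ, Nontrivial (Dual.HD A X p) ∧ ∀ i : ℤ, p < i → Subsingleton (Dual.HD A X i) := by
  obtain ⟨b, hb⟩ := hb
  obtain ⟨p, hp, hmax⟩ := Int.exists_greatest_of_bdd (P := fun i => Nontrivial (Dual.HD A X i))
    ⟨b, fun z hz => by
      by_contra h
      haveI := hb z (not_le.1 h)
      exact not_subsingleton _ ‹_›⟩ hne
  refine ⟨p, hp, fun i hi => ?_⟩
  by_contra h
  rw [not_subsingleton_iff_nontrivial] at h
  have := hmax i h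
  omega

section Main

variable [HasLTen A] [HasLTen₃ A] [IsSymMonoidal A] [HasRHom A] [IsLocalRing A]

lemma exists_nontrivial_HD_of_tO (L M : Dual.D A)
    (hMbdd : ∃ b : ℤ, ∀ i : ℤ, b < i → Subsingleton (Dual.HD A M i))
    (hZ : Nontrivial (Dual.HD A (tO L M) 0)) : ∃ i : ℤ, Nontrivial (Dual.HD A L i) := by
  by_contra h0
  have h : ∀ i : ℤ, Subsingleton (Dual.HD A L i) := fun i => by
    rw [← not_nontrivial_iff_subsingleton]
    exact fun hi => h0 ⟨i, hi⟩
  obtain ⟨bM, hbM⟩ := hMbdd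
  haveI : M.IsLE bM := by
    rw [DerivedCategory.isLE_iff]
    intro i hi
    haveI := hbM i hi
    exact ModuleCat.isZero_of_subsingleton _
  haveI : L.IsLE (-bM - 1) := by
    rw [DerivedCategory.isLE_iff]
    intro i hi
    haveI := h i
    exact ModuleCat.isZero_of_subsingleton _
  haveI h1 : (tO L M).IsLE (-bM - 1 + bM) := isLE_tO L M (-bM - 1) bM
  have h2 : IsZero ((homologyFunctor (ModuleCat.{u} A) 0).obj (tO L M)) :=
    isZero_of_isLE _ (-bM - 1 + bM) 0 (by omega)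
  haveI := ModuleCat.subsingleton_of_isZero h2
  exact not_subsingleton _ ‹_›

/-- **main theorem**: `L ⊗ᴸ M ≅ A[0]` over a local ring, `L`, `M` bounded above with finite cohomology -/
theorem exists_shift_iso_of_tO_iso (L M : Dual.D A)
    (hLfin : ∀ i : ℤ, Module.Finite A (Dual.HD A L i))
    (hLbdd : ∃ b : ℤ, ∀ i : ℤ, b < i → Subsingleton (Dual.HD A L i))
    (hMfin : ∀ i : ℤ, Module.Finite A (Dual.HD A M i))
    (hMbdd : ∃ b : ℤ, ∀ i : ℤ, b < i → Subsingleton (Dual.HD A M i))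
    (eZ : tO L M ≅ Dual.inD A A) :
    ∃ n : ℤ, Nonempty (L ≅ (Dual.inD A A)⟦n⟧) ∧ Nonempty (M ≅ (Dual.inD A A)⟦-n⟧) := by
  have hZ0 : ∀ i : ℤ, i ≠ 0 → Subsingleton (Dual.HD A (tO L M) i) := fun i hi => by
    haveI := Groth.Agent.Lib.H6xLD.subsingleton_HD_inD (A := A) A i hi
    exact ((homologyFunctor (ModuleCat.{u} A) i).mapIso eZ).toLinearEquiv.toEquiv.subsingleton
  let eZ0 : Dual.HD A (tO L M) 0 ≃ₗ[A] A :=
    ((homologyFunctor (ModuleCat.{u} A) 0).mapIso eZ).toLinearEquiv ≪≫ₗ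
      Groth.Agent.Lib.H6xLD.HDInDZeroEquiv (A := A) A
  have hZnt : Nontrivial (Dual.HD A (tO L M) 0) := eZ0.toEquiv.nontrivial
  let eZ' : tO M L ≅ Dual.inD A A := (DTen.braiding L M) ≪≫ eZ
  have hZ0' : ∀ i : ℤ, i ≠ 0 → Subsingleton (Dual.HD A (tO M L) i) := fun i hi => by
    haveI := Groth.Agent.Lib.H6xLD.subsingleton_HD_inD (A := A) A i hi
    exact ((homologyFunctor (ModuleCat.{u} A) i).mapIso eZ').toLinearEquiv.toEquiv.subsingleton
  have hZnt' : Nontrivial (Dual.HD A (tO M L) 0) :=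
    (((homologyFunctor (ModuleCat.{u} A) 0).mapIso (DTen.braiding L M)).toLinearEquiv ≪≫ₗ
      eZ0).toEquiv.nontrivial
  obtain ⟨p, hp, hpmax⟩ := exists_top_degree L hLbdd (exists_nontrivial_HD_of_tO L M hMbdd hZnt)
  obtain ⟨q, hq, hqmax⟩ := exists_top_degree M hMbdd (exists_nontrivial_HD_of_tO M L hLbdd hZnt')
  haveI : L.IsLE p := by
    rw [DerivedCategory.isLE_iff]
    intro i hi
    haveI := hpmax i hi
    exact ModuleCat.isZero_of_subsingleton _
  haveI : M.IsLE q := by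
    rw [DerivedCategory.isLE_iff]
    intro i hi
    haveI := hqmax i hi
    exact ModuleCat.isZero_of_subsingleton _
  obtain ⟨k⟩ := nonempty_HD_tO_linearEquiv L M p q
  haveI := hLfin p
  haveI := hMfin q
  haveI hnt : Nontrivial (TensorProduct A (Dual.HD A M q) (Dual.HD A L p)) :=
    nontrivial_tensorProduct_of_isLocalRing A _ _
  have hqp : q + p = 0 := by
    by_contra h
    haveI := hZ0 (q + p) h
    haveI : Subsingleton (TensorProduct A (Dual.HD A M q) (Dual.HD A L p)) :=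
      k.symm.toEquiv.subsingleton
    exact not_subsingleton _ ‹_›
  have k' : ∀ m : ℤ, m = q + p → Nonempty (Dual.HD A (tO L M) m ≃ₗ[A]
      TensorProduct A (Dual.HD A M q) (Dual.HD A L p)) := by
    rintro m rfl
    exact ⟨k⟩
  obtain ⟨k0⟩ := k' 0 hqp.symm
  obtain ⟨⟨eMq⟩, ⟨eLp⟩⟩ := nonempty_linearEquiv_of_tensor A _ _ (k0.symm ≪≫ₗ eZ0)
  have hM0 : ∀ j : ℤ, j ≠ q → Subsingleton (Dual.HD A M j) := fun j hj =>
    subsingleton_HD_of_tO L M p q hqp eLp hZ0 j hj
  have hL0 : ∀ j : ℤ, j ≠ p → Subsingleton (Dual.HD A L j) := fun j hj =>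
    subsingleton_HD_of_tO M L q p (by omega) eMq hZ0' j hj
  exact ⟨q, nonempty_iso_shift_inD_of_HD L p q hqp hL0 eLp,
    nonempty_iso_shift_inD_of_HD M q (-q) (by omega) hM0 eMq⟩

end Main

end Groth.Agent.Lib.H6xInv
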