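import Mathlib
import Groth.Agent.Lib.H6xBrgE
import Groth.Agent.Lib.H6xFtdC
import Groth.Agent.Lib.H6xLocL
set_option backward.isDefEq.respectTransparency.types false

/-!
# helper6: two dualizing complexes: `RHom(ω₁, ω₂)` is an invertible object and `ω₂ ≅ RHom(ω₁, ω₂) ⊗ᴸ ω₁`
-/

set_option autoImplicit false
set_option linter.style.haveILetI false
universe u
open CategoryTheory CategoryTheory.Limits MonoidalCategory Pretriangulated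
attribute [local instance] HasDerivedCategory.standard

namespace Groth.Agent.Lib.H6xUq

open DerivedCategory DTen Groth.Agent.Lib.H6xDTen Groth.Agent.Lib.H6xPCev Groth.Agent.Lib.H6xBrg
  Groth.Agent.Lib.H6xFtd

variable {A : Type u} [CommRing A] [HasLTen A] [HasLTen₃ A] [IsSymMonoidal A] [HasRHom A]

/-- `RHom(A[0], -) ≅ 𝟭` -/
noncomputable def rhomUnitIso : RHomR A (DTen.unit A) ≅ 𝟭 (Dual.D A) :=
  (rhomAdj A (DTen.unit A)).rightAdjointUniq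
    (Adjunction.id.ofNatIsoLeft (asIso (unitR A)).symm)

section Two

variable (ω₁ ω₂ : Dual.D A) (h₁ : Dual.IsDualizing A ω₁) (h₂ : Dual.IsDualizing A ω₂)

include h₁ h₂ in
/-- `RHom(ω₁, ω₂)` has finite cohomology -/
theorem finite_HD_RHom_dualizing (i : ℤ) :
    Module.Finite A (Dual.HD A ((RHomR A ω₁).obj ω₂) i) :=
  finite_HD_RHom ω₂ h₂ ω₁ h₁.finite_cohomology i

include h₁ h₂ in
/-- `RHom(ω₁, ω₂)` is bounded -/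
theorem exists_bounds_RHom_dualizing :
    ∃ a b : ℤ, ((RHomR A ω₁).obj ω₂).IsGE a ∧ ((RHomR A ω₁).obj ω₂).IsLE b := by
  haveI := h₁.isNoetherianRing
  obtain ⟨a₁, b₁, -, hge₁, hinj₁⟩ := exists_injAmp_of_isDualizing ω₁ h₁
  obtain ⟨a₂, b₂, -, hge₂, hinj₂⟩ := exists_injAmp_of_isDualizing ω₂ h₂
  haveI := hge₁
  haveI := hge₂
  obtain ⟨c₁, hc₁⟩ : ∃ c : ℤ, ω₁.IsLE c := by
    obtain ⟨a, b, hab⟩ := Groth.Agent.Lib.H6xLoc.hbdd_of_hinj ω₁ h₁.finite_injective_dimension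
    refine ⟨b, ?_⟩
    rw [DerivedCategory.isLE_iff]
    intro i hi
    haveI := hab i (Or.inr hi)
    exact ModuleCat.isZero_of_subsingleton _
  haveI := hc₁
  exact ⟨a₂ - c₁, b₂ - a₁, isGE_RHom_of_isLE_of_isGE ω₁ ω₂ c₁ a₂,
    isLE_RHom_of_injAmp hinj₂ ω₁ a₁⟩

include h₁ h₂ in
/-- (A2) `RHom(ω₁, ω₂) ⊗ᴸ ω₁ ≅ ω₂` -/
theorem nonempty_tO_RHom_iso : Nonempty (tO ((RHomR A ω₁).obj ω₂) ω₁ ≅ ω₂) := by
  haveI := h₁.isNoetherianRing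
  obtain ⟨a₁, b₁, -, hge₁, hinj₁⟩ := exists_injAmp_of_isDualizing ω₁ h₁
  obtain ⟨a₂, b₂, -, hge₂, hinj₂⟩ := exists_injAmp_of_isDualizing ω₂ h₂
  obtain ⟨a, b, hab⟩ := Groth.Agent.Lib.H6xLoc.hbdd_of_hinj ω₁ h₁.finite_injective_dimension
  have hpc : DRing.IsPseudoCoherent' A ω₁ :=
    Groth.Agent.Lib.H6xLoc.isPseudoCoherent'_of_finite ω₁ h₁.finite_cohomology
      ⟨b, fun i hi => hab i (Or.inr hi)⟩
  haveI := isIso_evalHom_of_isPseudoCoherent ω₁ ω₁ ω₂ hpc a₁ hge₁ ⟨a₂, b₂, hinj₂⟩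
  haveI := isIso_cU ω₁ h₁
  exact ⟨asIso (evalHom ω₁ ω₁ ω₂) ≪≫
    ((DTen.RHom A).mapIso (asIso (cU ω₁)).op).app ω₂ ≪≫ rhomUnitIso.app ω₂⟩

include h₁ h₂ in
/-- (A1) `RHom(ω₁, ω₂) ⊗ᴸ RHom(ω₂, ω₁) ≅ A[0]` -/
theorem nonempty_tO_RHom_RHom_iso :
    Nonempty (tO ((RHomR A ω₁).obj ω₂) ((RHomR A ω₂).obj ω₁) ≅ DTen.unit A) := by
  haveI := h₁.isNoetherianRing
  obtain ⟨a₁, b₁, -, hge₁, hinj₁⟩ := exists_injAmp_of_isDualizing ω₁ h₁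
  obtain ⟨a₂, b₂, -, hge₂, hinj₂⟩ := exists_injAmp_of_isDualizing ω₂ h₂
  obtain ⟨a, b, -, hb⟩ := exists_bounds_RHom_dualizing ω₂ ω₁ h₂ h₁
  have hpc : DRing.IsPseudoCoherent' A ((RHomR A ω₂).obj ω₁) :=
    Groth.Agent.Lib.H6xLoc.isPseudoCoherent'_of_finite _
      (finite_HD_RHom_dualizing ω₂ ω₁ h₂ h₁)
      ⟨b, fun i hi => ModuleCat.subsingleton_of_isZero (isZero_of_isLE _ b i hi)⟩
  haveI := isIso_evalHom_of_isPseudoCoherent ((RHomR A ω₂).obj ω₁) ω₁ ω₂ hpc a₁ hge₁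
    ⟨a₂, b₂, hinj₂⟩
  haveI := isIso_evalHom_of_isDualizing ω₁ h₁ ω₂ h₂.finite_cohomology
  haveI := isIso_cU ω₁ h₁
  haveI := isIso_cU ω₂ h₂
  let bid : (RHomR A ((RHomR A ω₂).obj ω₁)).obj ω₁ ≅ ω₂ :=
    (asIso (evalHom ω₂ ω₁ ω₁)).symm ≪≫ selfTenIso ω₁ ω₂
  exact ⟨asIso (evalHom ((RHomR A ω₂).obj ω₁) ω₁ ω₂) ≪≫
    ((DTen.RHom A).mapIso bid.symm.op).app ω₂ ≪≫ (asIso (cU ω₂)).symm⟩

end Two

end Groth.Agent.Lib.H6xUq
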