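import Mathlib
import Groth.Agent.Lib.H6xUqA
import Groth.Agent.Lib.H6xInvC
import Groth.Agent.Lib.H6xLocH
import Groth.Agent.Lib.H6xLDD
set_option backward.isDefEq.respectTransparency.types false

/-!
# helper6: cohomology of an object which is locally a shift of the structure sheaf
-/

set_option autoImplicit false
set_option linter.style.haveILetI false
universe u
open CategoryTheory CategoryTheory.Limits MonoidalCategory Pretriangulated
attribute [local instance] HasDerivedCategory.standard

namespace Groth.Agent.Lib.H6xUq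

open DerivedCategory Groth.Agent.Lib.Helper1.Extend

variable {A : Type u} [CommRing A]

/-- an object with cohomology in degree `p` only is `H^p(X)[n]`, `n + p = 0` -/
theorem nonempty_iso_shift_single_of_HD (X : Dual.D A) (p n : ℤ) (hn : n + p = 0)
    (h0 : ∀ j : ℤ, j ≠ p → Subsingleton (Dual.HD A X j)) :
    Nonempty (X ≅ ((DerivedCategory.singleFunctor (ModuleCat.{u} A) 0).obj
      ((homologyFunctor (ModuleCat.{u} A) p).obj X))⟦n⟧) := by
  haveI : X.IsLE p := by
    rw [DerivedCategory.isLE_iff]
    intro i hi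
    haveI := h0 i (by omega)
    exact ModuleCat.isZero_of_subsingleton _
  haveI : X.IsGE p := by
    rw [DerivedCategory.isGE_iff]
    intro i hi
    haveI := h0 i (by omega)
    exact ModuleCat.isZero_of_subsingleton _
  obtain ⟨N, ⟨e⟩⟩ := exists_iso_singleFunctor_obj_of_isGE_of_isLE X p
  let eN : N ≅ (homologyFunctor (ModuleCat.{u} A) p).obj X :=
    ((singleFunctorCompHomologyFunctorIso (ModuleCat.{u} A) p).app N).symm ≪≫
      (homologyFunctor (ModuleCat.{u} A) p).mapIso e.symm
  exact ⟨e ≪≫ (DerivedCategory.singleFunctor (ModuleCat.{u} A) p).mapIso eN ≪≫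
    (((DerivedCategory.singleFunctors (ModuleCat.{u} A)).shiftIso n p 0 hn).app _).symm⟩

/-- if the localization of `X` at `p` is `A_p[n]`, then the localized cohomology of `X` is `A_p` in
degree `-n` and zero elsewhere -/
theorem localized_HD_of_extD_iso (X : Dual.D A) (p : Ideal A) [p.IsPrime] (n : ℤ)
    (e : (extD A (Localization.AtPrime p)).obj X ≅
      (Dual.inD (Localization.AtPrime p) (Localization.AtPrime p))⟦n⟧) :
    (∀ i, i ≠ -n → Subsingleton (LocalizedModule p.primeCompl (Dual.HD A X i))) ∧
      Nonempty (LocalizedModule p.primeCompl (Dual.HD A X (-n)) ≃ₗ[Localization.AtPrime p]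
        Localization.AtPrime p) := by
  have key : ∀ i m : ℤ, n + i = m → Nonempty (LocalizedModule p.primeCompl (Dual.HD A X i)
      ≃ₗ[Localization.AtPrime p]
      Dual.HD (Localization.AtPrime p)
        (Dual.inD (Localization.AtPrime p) (Localization.AtPrime p)) m) := by
    intro i m hm
    exact ⟨Groth.Agent.Lib.H6xLoc.localizedHDEquiv p.primeCompl X i ≪≫ₗ
      ((homologyFunctor (ModuleCat.{u} (Localization.AtPrime p)) i).mapIso e).toLinearEquiv ≪≫ₗ
      Groth.Agent.Lib.H6xLoc.HDShiftEquiv _ n i m hm⟩
  constructor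
  · intro i hi
    obtain ⟨e1⟩ := key i (n + i) rfl
    haveI := Groth.Agent.Lib.H6xLD.subsingleton_HD_inD (A := Localization.AtPrime p)
      (Localization.AtPrime p) (n + i) (by omega)
    exact e1.toEquiv.subsingleton
  · obtain ⟨e1⟩ := key (-n) 0 (by omega)
    exact ⟨e1 ≪≫ₗ Groth.Agent.Lib.H6xLD.HDInDZeroEquiv (A := Localization.AtPrime p)
      (Localization.AtPrime p)⟩

end Groth.Agent.Lib.H6xUq
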