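import Mathlib
import Groth.Agent.Lib.H6xFtdC
import Groth.Agent.Lib.H6xTwC
import Groth.Agent.Lib.H6xUqD
import Groth.Agent.Lib.Helper1LocalCx
set_option backward.isDefEq.respectTransparency.types false

/-!
# helper6: over a Noetherian local ring, a bounded above complex `E` with finite cohomology and
`E ⊗ᴸ k ≅ k[0]` is isomorphic to `A[0]`
-/

set_option autoImplicit false
set_option linter.style.haveILetI false
universe u
open CategoryTheory CategoryTheory.Limits MonoidalCategory Pretriangulated TensorProduct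
attribute [local instance] HasDerivedCategory.standard

namespace Groth.Agent.Lib.H6xDs

open DerivedCategory DTen Groth.Agent.Lib.H6xDTen Groth.Agent.Lib.H6xPCev
  Groth.Agent.Lib.H6xFtd Groth.Agent.Lib.H6xTw Groth.Agent.Lib.Helper1.KF
  Groth.Agent.Lib.Helper1.Tor

section Alg

variable {A : Type u} [CommRing A] [IsLocalRing A]

local notation "κ" => IsLocalRing.ResidueField A

/-- a finite flat module over a local ring with one-dimensional fibre is free of rank one -/
theorem nonempty_linearEquiv_of_flat_of_residue (N : Type u) [AddCommGroup N] [Module A N]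
    [Module.Finite A N] [Module.Flat A N] (e : N ⊗[A] κ ≃ₗ[A] κ) : Nonempty (N ≃ₗ[A] A) := by
  haveI : Module.Free A N := Module.free_of_flat_of_isLocalRing
  let e1 : κ ⊗[A] N ≃ₗ[A] κ := TensorProduct.comm A κ N ≪≫ₗ e
  let e2 : κ ⊗[A] N ≃ₗ[κ] κ := e1.extendScalarsOfSurjective IsLocalRing.residue_surjective
  have h1 : Module.finrank κ (κ ⊗[A] N) = Module.finrank A N := Module.finrank_baseChange
  have h2 : Module.finrank κ (κ ⊗[A] N) = 1 := by
    rw [e2.finrank_eq]
    exact Module.finrank_self κ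
  obtain ⟨l⟩ := Module.nonempty_linearEquiv_of_finrank_eq_one (R := A) (M := N) (by omega)
  exact ⟨l.symm⟩

end Alg

section Cx

variable {A : Type u} [CommRing A]

/-- cohomology of a complex concentrated in degree `0` -/
theorem HD_of_vanishesOutside_zero (G : DRing.Cx A) (hG : DRing.VanishesOutside G 0 0) :
    (∀ i : ℤ, i ≠ 0 → Subsingleton (Dual.HD A (DRing.toD G) i)) ∧
      Nonempty (Dual.HD A (DRing.toD G) 0 ≃ₗ[A] G.X 0) := by
  constructor
  · intro i hi
    have hz : IsZero (G.X i) := hG i (by omega)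
    have h1 : G.ExactAt i := by
      rw [HomologicalComplex.exactAt_iff]
      exact ShortComplex.exact_of_isZero_X₂ _ hz
    have h2 : IsZero (G.homology i) := h1.isZero_homology
    exact ModuleCat.subsingleton_of_isZero
      (h2.of_iso ((homologyFunctorFactors (ModuleCat.{u} A) i).app G))
  · have hd1 : G.d (-1) 0 = 0 := (hG (-1) (by omega)).eq_of_src _ _
    have hd2 : G.d 0 1 = 0 := (hG 1 (by omega)).eq_of_tgt _ _
    let e1 : G.cycles 0 ≅ G.X 0 := G.iCyclesIso 0 1 (by simp) hd2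
    let e2 : G.cycles 0 ≅ G.homology 0 := G.isoHomologyπ (-1) 0 (by simp) hd1
    exact ⟨((homologyFunctorFactors (ModuleCat.{u} A) 0).app G ≪≫ e2.symm ≪≫ e1).toLinearEquiv⟩

end Cx

section Main

variable {A : Type u} [CommRing A] [IsLocalRing A] [IsNoetherianRing A] [HasLTen A] [HasLTen₃ A]
  [IsSymMonoidal A]

local notation "κ" => IsLocalRing.ResidueField A

/-- **Lemma T** -/
theorem nonempty_iso_inD_of_tO_residue (E : Dual.D A)
    (hfin : ∀ i : ℤ, Module.Finite A (Dual.HD A E i))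
    (hb : ∃ b : ℤ, ∀ i : ℤ, b < i → Subsingleton (Dual.HD A E i))
    (e : tO E (Dual.inD A κ) ≅ Dual.inD A κ) : Nonempty (E ≅ Dual.inD A A) := by
  obtain ⟨F, bF, hFb, hFff, ⟨eF⟩⟩ := Groth.Agent.Lib.H6xLoc.isPseudoCoherent'_of_finite E hfin hb
  have hFf : DRing.TermwiseFlat F := fun i => by
    haveI := (hFff i).2
    infer_instance
  have hKF : KFlat F := kflat_of_boundedAbove_flat F bF hFb hFf
  have hTA : DRing.HasTorAmplitudeIn A 0 0 (DRing.toD F) := by
    refine Groth.Agent.Lib.Helper1.LocalCx.hasTorAmp_of_exactAt_TC_residueField F bF hFb hFff 0 0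
      (fun i hi => ?_)
    apply exactAt_TC_of_isZero F hKF
    have h4 : tO (Q.obj F) (Dual.inD A κ) ≅ Dual.inD A κ :=
      (LTen₂ A).mapIso (Iso.prod eF (Iso.refl (Dual.inD A κ))) ≪≫ e
    haveI := Groth.Agent.Lib.H6xLD.subsingleton_HD_inD (A := A) κ i (by omega)
    exact (ModuleCat.isZero_of_subsingleton _).of_iso
      ((homologyFunctor (ModuleCat.{u} A) i).mapIso h4)
  obtain ⟨G, hG, hGf, ⟨eG⟩⟩ := hTA
  obtain ⟨h0, ⟨l0⟩⟩ := HD_of_vanishesOutside_zero G hG
  let eGE : DRing.toD G ≅ E := eG ≪≫ eF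
  have h0E : ∀ i : ℤ, i ≠ 0 → Subsingleton (Dual.HD A E i) := fun i hi => by
    haveI := h0 i hi
    exact ((homologyFunctor (ModuleCat.{u} A) i).mapIso eGE).symm.toLinearEquiv.toEquiv.subsingleton
  let lE : Dual.HD A E 0 ≃ₗ[A] G.X 0 :=
    ((homologyFunctor (ModuleCat.{u} A) 0).mapIso eGE).symm.toLinearEquiv ≪≫ₗ l0
  haveI : Module.Flat A (G.X 0) := hGf 0
  haveI hflat : Module.Flat A (Dual.HD A E 0) := Module.Flat.of_linearEquiv lE
  haveI := hfin 0
  obtain ⟨eE⟩ := Groth.Agent.Lib.H6xUq.nonempty_iso_shift_single_of_HD E 0 0 (by omega) h0E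
  set N : ModuleCat.{u} A := (homologyFunctor (ModuleCat.{u} A) 0).obj E with hN
  let eE' : E ≅ (DerivedCategory.singleFunctor (ModuleCat.{u} A) 0).obj N :=
    eE ≪≫ (shiftFunctorZero (Dual.D A) ℤ).app _
  -- the fibre
  obtain ⟨e4⟩ := nonempty_HD_tO_flat_iso (Dual.inD A κ) N 0
  let e5 : tO (Dual.inD A κ) ((DerivedCategory.singleFunctor (ModuleCat.{u} A) 0).obj N) ≅
      Dual.inD A κ :=
    (DTen.braiding ((DerivedCategory.singleFunctor (ModuleCat.{u} A) 0).obj N) (Dual.inD A κ))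
      ≪≫ (LTen₂ A).mapIso (Iso.prod eE'.symm (Iso.refl (Dual.inD A κ))) ≪≫ e
  let e6 : MonoidalCategory.tensorObj N
      ((homologyFunctor (ModuleCat.{u} A) 0).obj (Dual.inD A κ)) ≅
      (homologyFunctor (ModuleCat.{u} A) 0).obj (Dual.inD A κ) :=
    e4.symm ≪≫ (homologyFunctor (ModuleCat.{u} A) 0).mapIso e5
  let l1 : Dual.HD A (Dual.inD A κ) 0 ≃ₗ[A] κ := Groth.Agent.Lib.H6xLD.HDInDZeroEquiv (A := A) κ
  let l2 : N ⊗[A] κ ≃ₗ[A] κ :=
    (TensorProduct.congr (LinearEquiv.refl A N) l1.symm) ≪≫ₗ e6.toLinearEquiv ≪≫ₗ l1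
  obtain ⟨l3⟩ := nonempty_linearEquiv_of_flat_of_residue N l2
  exact ⟨eE' ≪≫ (DerivedCategory.singleFunctor (ModuleCat.{u} A) 0).mapIso l3.toModuleIso⟩

end Main

end Groth.Agent.Lib.H6xDs
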