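import Mathlib
import Groth.Agent.Lib.H6xUqA
import Groth.Agent.Lib.H6xInvC
import Groth.Agent.Lib.H6xBrgH
import Groth.Agent.Lib.H6xLocE
import Groth.Agent.Lib.H6xUncB
import Groth.Agent.Lib.H6xRHb
import Groth.Agent.Lib.H6xTBa
import Groth.Agent.Lib.H6xHasLDerRing
set_option backward.isDefEq.respectTransparency.types false

/-!
# helper6: two dualizing complexes: `RHom(ω, ω')` is locally a shift of the structure sheaf
-/

set_option autoImplicit false
set_option linter.style.haveILetI false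
universe u
open CategoryTheory CategoryTheory.Limits MonoidalCategory Pretriangulated
attribute [local instance] HasDerivedCategory.standard

namespace Groth.Agent.Lib.H6xUq

open DerivedCategory DTen Groth.Agent.Lib.H6xDTen Groth.Agent.Lib.H6xPCev Groth.Agent.Lib.H6xBrg
  Groth.Agent.Lib.H6xFtd Groth.Agent.Lib.H6xInv Groth.Agent.Lib.Helper1.Extend

section Local

variable {B : Type u} [CommRing B] [IsLocalRing B] [HasLTen B] [HasLTen₃ B] [IsSymMonoidal B]
  [HasRHom B] (ω₁ ω₂ : Dual.D B) (h₁ : Dual.IsDualizing B ω₁) (h₂ : Dual.IsDualizing B ω₂)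

include h₁ h₂ in
/-- over a local ring, `RHom(ω₁, ω₂) ≅ B[n]` -/
theorem exists_RHom_iso_shift : ∃ n : ℤ, Nonempty ((RHomR B ω₁).obj ω₂ ≅ (Dual.inD B B)⟦n⟧) := by
  obtain ⟨eZ⟩ := nonempty_tO_RHom_RHom_iso ω₁ ω₂ h₁ h₂
  obtain ⟨a, b, -, hb⟩ := exists_bounds_RHom_dualizing ω₁ ω₂ h₁ h₂
  obtain ⟨a', b', -, hb'⟩ := exists_bounds_RHom_dualizing ω₂ ω₁ h₂ h₁
  obtain ⟨n, hn, -⟩ := exists_shift_iso_of_tO_iso ((RHomR B ω₁).obj ω₂) ((RHomR B ω₂).obj ω₁)
    (finite_HD_RHom_dualizing ω₁ ω₂ h₁ h₂)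
    ⟨b, fun i hi => ModuleCat.subsingleton_of_isZero (isZero_of_isLE _ b i hi)⟩
    (finite_HD_RHom_dualizing ω₂ ω₁ h₂ h₁)
    ⟨b', fun i hi => ModuleCat.subsingleton_of_isZero (isZero_of_isLE _ b' i hi)⟩
    (eZ ≪≫ unitIsoInD)
  exact ⟨n, hn⟩

end Local

section Localize

variable {A : Type u} [CommRing A] [IsNoetherianRing A] [HasLTen A] [HasLTen₃ A] [IsSymMonoidal A]
  [HasRHom A] (ω ω' : Dual.D A) (hω : Dual.IsDualizing A ω) (hω' : Dual.IsDualizing A ω')

include hω hω' in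
/-- (C) the localization of `RHom(ω, ω')` at a prime is a shift of the local ring -/
theorem exists_extD_RHom_iso_shift (p : Ideal A) [p.IsPrime] :
    ∃ n : ℤ, Nonempty ((extD A (Localization.AtPrime p)).obj ((RHomR A ω).obj ω') ≅
      (Dual.inD (Localization.AtPrime p) (Localization.AtPrime p))⟦n⟧) := by
  haveI : HasLTen (Localization.AtPrime p) := Groth.Agent.Lib.H6xUnc.hasLTen _
  haveI : HasLTen₃ (Localization.AtPrime p) := Groth.Agent.Lib.H6xUnc.hasLTen₃ _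
  haveI : IsSymMonoidal (Localization.AtPrime p) := Groth.Agent.Lib.H6xUnc.isSymMonoidal _
  haveI : HasRHom (Localization.AtPrime p) := Groth.Agent.Lib.H6xRH.hasRHom
  haveI : HasResTen (algebraMap A (Localization.AtPrime p)) := Groth.Agent.Lib.H6xTB.hasResTen _
  haveI : ResLegIso (algebraMap A (Localization.AtPrime p)) := Groth.Agent.Lib.H6xTB.resLegIso _
  haveI : DRing.HasLBaseChange (algebraMap A (Localization.AtPrime p)) :=
    Groth.Agent.Lib.H6xHasLDerRing.hasLBaseChange _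
  have h₁ := Groth.Agent.Lib.H6xLoc.isDualizing_LBaseChange_localization p.primeCompl ω hω
  have h₂ := Groth.Agent.Lib.H6xLoc.isDualizing_LBaseChange_localization p.primeCompl ω' hω'
  obtain ⟨a'', b'', -, -, hZ⟩ := exists_injAmp_of_isDualizing _ h₂
  obtain ⟨e⟩ := nonempty_lbc_rhom_iso (P := Localization.AtPrime p) ω' hω' hZ ω hω.finite_cohomology
  obtain ⟨n, ⟨eL⟩⟩ := exists_RHom_iso_shift _ _ h₁ h₂
  obtain ⟨e2⟩ := Groth.Agent.Lib.H6xPCDesc.nonempty_lbc_iso_extD (A := A)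
    (B := Localization.AtPrime p) ((RHomR A ω).obj ω')
  exact ⟨n, ⟨e2.symm ≪≫ e ≪≫ eL⟩⟩

end Localize

end Groth.Agent.Lib.H6xUq
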