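import Mathlib
set_option backward.isDefEq.respectTransparency.types false

/-!
# helper6: a finite family of finite modules which is locally free of rank one in exactly one
degree at every prime, over a ring with connected spectrum
-/

set_option autoImplicit false
set_option linter.style.haveILetI false
universe u

namespace Groth.Agent.Lib.H6xUq

section Algebra

variable {A : Type u} [CommRing A] [ConnectedSpace (PrimeSpectrum A)]
  (H : ℤ → Type u) [∀ i, AddCommGroup (H i)] [∀ i, Module A (H i)] [∀ i, Module.Finite A (H i)]

/-- (D) if a bounded family `H i` of finite modules over a ring with connected spectrum is, at each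
prime `p`, concentrated in a single degree `n_p` where it is free of rank one, then the degree is
independent of `p` and the family is globally concentrated in that degree. -/
theorem exists_unique_degree (a b : ℤ) (hab : ∀ i, i < a ∨ b < i → Subsingleton (H i))
    (hloc : ∀ (p : PrimeSpectrum A), ∃ n : ℤ,
      (∀ i, i ≠ n → Subsingleton (LocalizedModule p.asIdeal.primeCompl (H i))) ∧
      Nontrivial (LocalizedModule p.asIdeal.primeCompl (H n))) :
    ∃ i₀ : ℤ, (∀ i, i ≠ i₀ → Subsingleton (H i)) ∧
      ∀ (p : PrimeSpectrum A), Nontrivial (LocalizedModule p.asIdeal.primeCompl (H i₀)) ∧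
        ∀ i, i ≠ i₀ → Subsingleton (LocalizedModule p.asIdeal.primeCompl (H i)) := by
  classical
  -- supports
  set Z : ℤ → Set (PrimeSpectrum A) := fun i => Module.support A (H i) with hZ
  have hclosed : ∀ i, IsClosed (Z i) := fun i => Module.isClosed_support
  have hempty : ∀ i, (i < a ∨ b < i) → Z i = ∅ := fun i hi => by
    haveI := hab i hi
    exact Module.support_eq_empty
  -- each point in exactly one support
  have hdisj : ∀ i j (p : PrimeSpectrum A), p ∈ Z i → p ∈ Z j → i = j := by
    intro i j p hi hj
    obtain ⟨n, hn, -⟩ := hloc p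
    have h1 : i = n := by
      by_contra h
      exact (Module.notMem_support_iff.2 (hn i h)) hi
    have h2 : j = n := by
      by_contra h
      exact (Module.notMem_support_iff.2 (hn j h)) hj
    rw [h1, h2]
  obtain ⟨p₀⟩ : Nonempty (PrimeSpectrum A) := inferInstance
  obtain ⟨i₀, -, hi₀⟩ := hloc p₀
  have hp₀ : p₀ ∈ Z i₀ := Module.mem_support_iff.2 hi₀
  -- complement of `Z i₀` is a finite union of closed sets
  have hcompl : (Z i₀)ᶜ = ⋃ i ∈ (Finset.Icc a b).erase i₀, Z i := by
    ext p
    simp only [Set.mem_compl_iff, Set.mem_iUnion, Finset.mem_erase, Finset.mem_Icc, exists_prop]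
    constructor
    · intro hp
      obtain ⟨n, hn, hnt⟩ := hloc p
      have hpn : p ∈ Z n := Module.mem_support_iff.2 hnt
      refine ⟨n, ⟨?_, ?_⟩, hpn⟩
      · rintro rfl
        exact hp hpn
      · by_contra hcon
        have : n < a ∨ b < n := by
          by_cases h1 : a ≤ n
          · right
            by_contra h2
            exact hcon ⟨h1, not_lt.1 h2⟩
          · left
            exact not_le.1 h1
        rw [hempty n this] at hpn
        exact hpn
    · rintro ⟨i, ⟨hne, -⟩, hpi⟩ hp
      exact hne (hdisj i i₀ p hpi hp)
  have hopen : IsOpen (Z i₀) := by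
    rw [← isClosed_compl_iff, hcompl]
    exact Set.Finite.isClosed_biUnion (Finset.finite_toSet _) (fun i _ => hclosed i)
  have huniv : Z i₀ = Set.univ :=
    IsClopen.eq_univ ⟨hclosed i₀, hopen⟩ ⟨p₀, hp₀⟩
  have hall : ∀ p : PrimeSpectrum A, p ∈ Z i₀ := fun p => by rw [huniv]; exact Set.mem_univ p
  have hother : ∀ (p : PrimeSpectrum A) i, i ≠ i₀ →
      Subsingleton (LocalizedModule p.asIdeal.primeCompl (H i)) := by
    intro p i hi
    rw [← Module.notMem_support_iff]
    intro hpi
    exact hi (hdisj i i₀ p hpi (hall p))
  refine ⟨i₀, ?_, fun p => ⟨Module.mem_support_iff.1 (hall p), hother p⟩⟩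
  intro i hi
  rw [← Module.support_eq_empty_iff (R := A)]
  ext p
  simp only [Set.mem_empty_iff_false, iff_false]
  exact Module.notMem_support_iff.2 (hother p i hi)

end Algebra

end Groth.Agent.Lib.H6xUq
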