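import Mathlib
import Groth.Agent.Lib.H6xUqB
import Groth.Agent.Lib.H6xUqC
import Groth.Agent.Lib.H6xUqD
import Groth.Agent.Lib.H6xTwC
import Groth.Agent.Lib.H6xPrjD
set_option backward.isDefEq.respectTransparency.types false

/-!
# helper6: two dualizing complexes over a ring with connected spectrum differ by an invertible
module and a shift
-/

set_option autoImplicit false
set_option linter.style.haveILetI false
universe u
open CategoryTheory CategoryTheory.Limits MonoidalCategory Pretriangulated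
attribute [local instance] HasDerivedCategory.standard

namespace Groth.Agent.Lib.H6xUq

open DerivedCategory DTen Groth.Agent.Lib.H6xDTen Groth.Agent.Lib.H6xPCev Groth.Agent.Lib.H6xBrg
  Groth.Agent.Lib.H6xFtd Groth.Agent.Lib.H6xInv Groth.Agent.Lib.Helper1.Extend
  Groth.Agent.Lib.H6xTw

variable {A : Type u} [CommRing A] [IsNoetherianRing A] [ConnectedSpace (PrimeSpectrum A)]
  [HasLTen A] [HasLTen₃ A] [IsSymMonoidal A]
  [HasRHom A] (ω ω' : Dual.D A) (hω : Dual.IsDualizing A ω) (hω' : Dual.IsDualizing A ω')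

include hω hω' in
/-- (E1) `RHom(ω, ω')` has cohomology in a single degree, where it is locally free of rank one -/
theorem exists_degree_RHom : ∃ i₀ : ℤ,
    (∀ i, i ≠ i₀ → Subsingleton (Dual.HD A ((RHomR A ω).obj ω') i)) ∧
    ∀ (p : Ideal A) [p.IsPrime], Nonempty
      (LocalizedModule p.primeCompl (Dual.HD A ((RHomR A ω).obj ω') i₀)
        ≃ₗ[Localization.AtPrime p] Localization.AtPrime p) := by
  obtain ⟨a, b, ha, hb⟩ := exists_bounds_RHom_dualizing ω ω' hω hω'
  haveI : ∀ i, Module.Finite A (Dual.HD A ((RHomR A ω).obj ω') i) :=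
    finite_HD_RHom_dualizing ω ω' hω hω'
  have hloc : ∀ (p : PrimeSpectrum A), ∃ n : ℤ,
      (∀ i, i ≠ n → Subsingleton (LocalizedModule p.asIdeal.primeCompl
        (Dual.HD A ((RHomR A ω).obj ω') i))) ∧
      Nonempty (LocalizedModule p.asIdeal.primeCompl (Dual.HD A ((RHomR A ω).obj ω') n)
        ≃ₗ[Localization.AtPrime p.asIdeal] Localization.AtPrime p.asIdeal) := by
    intro p
    obtain ⟨n, ⟨e⟩⟩ := exists_extD_RHom_iso_shift ω ω' hω hω' p.asIdeal
    exact ⟨-n, localized_HD_of_extD_iso _ p.asIdeal n e⟩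
  obtain ⟨i₀, h1, h2⟩ := exists_unique_degree (A := A)
    (fun i => Dual.HD A ((RHomR A ω).obj ω') i) a b
    (fun i hi => by
      rcases hi with hi | hi
      · exact ModuleCat.subsingleton_of_isZero (isZero_of_isGE _ a i hi)
      · exact ModuleCat.subsingleton_of_isZero (isZero_of_isLE _ b i hi))
    (fun p => by
      obtain ⟨n, hn, ⟨e⟩⟩ := hloc p
      exact ⟨n, hn, e.toEquiv.nontrivial⟩)
  refine ⟨i₀, h1, ?_⟩
  intro p hp
  obtain ⟨n, hn, ⟨e⟩⟩ := hloc ⟨p, hp⟩
  by_cases h : n = i₀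
  · subst h
    exact ⟨e⟩
  · exfalso
    haveI := (h2 ⟨p, hp⟩).2 n h
    haveI : Nontrivial (LocalizedModule p.primeCompl (Dual.HD A ((RHomR A ω).obj ω') n)) :=
      e.toEquiv.nontrivial
    exact false_of_nontrivial_of_subsingleton
      (LocalizedModule p.primeCompl (Dual.HD A ((RHomR A ω).obj ω') n))

/-- a module locally free of rank one is flat -/
theorem flat_of_locally_free_rank_one (P : Type u) [AddCommGroup P] [Module A P]
    (h : ∀ (p : Ideal A) [p.IsPrime], Nonempty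
      (LocalizedModule p.primeCompl P ≃ₗ[Localization.AtPrime p] Localization.AtPrime p)) :
    Module.Flat A P := by
  refine Module.flat_of_localized_maximal (R := A) P ?_
  intro p hp
  obtain ⟨e⟩ := h p
  exact Module.Flat.of_linearEquiv (e.restrictScalars A)


include hω hω' in
/-- two dualizing complexes over a Noetherian ring with connected spectrum differ by a twist by an
invertible module and a shift -/
theorem exists_invertible_twist :
    ∃ (P : ModuleCat.{u} A) (_ : Module.Invertible A P) (n : ℤ),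
      Nonempty (ω' ≅ (tO ω ((DerivedCategory.singleFunctor (ModuleCat.{u} A) 0).obj P))⟦n⟧) := by
  obtain ⟨i₀, h1, h2⟩ := exists_degree_RHom ω ω' hω hω'
  obtain ⟨eL⟩ := nonempty_iso_shift_single_of_HD ((RHomR A ω).obj ω') i₀ (-i₀) (by omega) h1
  obtain ⟨eU⟩ := nonempty_tO_RHom_RHom_iso ω ω' hω hω'
  obtain ⟨eW⟩ := nonempty_tO_RHom_iso ω ω' hω hω'
  generalize hLdef : (RHomR A ω).obj ω' = L at *
  generalize hL'def : (RHomR A ω').obj ω = L' at *
  set P : ModuleCat.{u} A := (homologyFunctor (ModuleCat.{u} A) i₀).obj L with hP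
  haveI : Module.Flat A P := flat_of_locally_free_rank_one P h2
  -- invertibility
  obtain ⟨e1⟩ := Groth.Agent.Lib.H6xPrj.nonempty_tO_shift_left
    ((DerivedCategory.singleFunctor (ModuleCat.{u} A) 0).obj P) L' (-i₀)
  let e2 : tO L L' ≅ tO (((DerivedCategory.singleFunctor (ModuleCat.{u} A) 0).obj P)⟦-i₀⟧) L' :=
    (LTen₂ A).mapIso (Iso.prod eL (Iso.refl _))
  let e3 : (tO ((DerivedCategory.singleFunctor (ModuleCat.{u} A) 0).obj P) L')⟦-i₀⟧ ≅
      (tO L' ((DerivedCategory.singleFunctor (ModuleCat.{u} A) 0).obj P))⟦-i₀⟧ :=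
    (shiftFunctor (Dual.D A) (-i₀)).mapIso
      (DTen.braiding ((DerivedCategory.singleFunctor (ModuleCat.{u} A) 0).obj P) L').symm
  obtain ⟨e4⟩ := nonempty_HD_tO_flat_iso L' P (-i₀)
  let e5 : (homologyFunctor (ModuleCat.{u} A) 0).obj
      ((tO L' ((DerivedCategory.singleFunctor (ModuleCat.{u} A) 0).obj P))⟦-i₀⟧) ≅
      (homologyFunctor (ModuleCat.{u} A) (-i₀)).obj
        (tO L' ((DerivedCategory.singleFunctor (ModuleCat.{u} A) 0).obj P)) :=
    ((homologyFunctor (ModuleCat.{u} A) 0).shiftIso (-i₀) 0 (-i₀) (by omega)).app _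
  let e6 : P ⊗ (homologyFunctor (ModuleCat.{u} A) (-i₀)).obj L' ≅
      (homologyFunctor (ModuleCat.{u} A) 0).obj (Dual.inD A A) :=
    e4.symm ≪≫ e5.symm ≪≫ (homologyFunctor (ModuleCat.{u} A) 0).mapIso
      (e3.symm ≪≫ e1.symm ≪≫ e2.symm ≪≫ eU ≪≫ unitIsoInD)
  have hinv : Module.Invertible A P :=
    Module.Invertible.left (M := P) (N := (homologyFunctor (ModuleCat.{u} A) (-i₀)).obj L')
      (e6.toLinearEquiv ≪≫ₗ Groth.Agent.Lib.H6xLD.HDInDZeroEquiv (A := A) A)
  refine ⟨P, hinv, -i₀, ?_⟩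
  obtain ⟨f1⟩ := Groth.Agent.Lib.H6xPrj.nonempty_tO_shift_left
    ((DerivedCategory.singleFunctor (ModuleCat.{u} A) 0).obj P) ω (-i₀)
  let f2 : tO L ω ≅ tO (((DerivedCategory.singleFunctor (ModuleCat.{u} A) 0).obj P)⟦-i₀⟧) ω :=
    (LTen₂ A).mapIso (Iso.prod eL (Iso.refl _))
  exact ⟨eW.symm ≪≫ f2 ≪≫ f1 ≪≫ (shiftFunctor (Dual.D A) (-i₀)).mapIso
    (DTen.braiding ω ((DerivedCategory.singleFunctor (ModuleCat.{u} A) 0).obj P))⟩

end Groth.Agent.Lib.H6xUq
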