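import Mathlib
import Groth.Agent.Lib.H6xUqE
import Groth.Agent.S1746
import Groth.Agent.Lib.H6xDsA
import Groth.Agent.Lib.H6xDsB
set_option backward.isDefEq.respectTransparency.types false

/-!
# helper6: (S11171) over a Noetherian local ring, `R ∈ D⁺_{fg}` with `Ext^i(k, R) = k` for `i = d`
and zero otherwise is a dualizing complex
-/

set_option autoImplicit false
set_option linter.style.haveILetI false
universe u
open CategoryTheory CategoryTheory.Limits MonoidalCategory Pretriangulated TensorProduct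
attribute [local instance] HasDerivedCategory.standard

namespace Groth.Agent.Lib.H6xDs

open DerivedCategory DTen Groth.Agent.Lib.H6xDTen Groth.Agent.Lib.H6xPCev Groth.Agent.Lib.H6xBrg
  Groth.Agent.Lib.H6xFtd

section InjAmp

variable {A : Type u} [CommRing A] (R : Dual.D A)

/-- finite injective dimension in `Hom`-form gives an injective amplitude -/
lemma exists_injAmp_of_hinj (a b : ℤ)
    (hab : ∀ (M : Type u) [AddCommGroup M] [Module A M] (i : ℤ),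
      (i < a ∨ b < i) → Subsingleton (Dual.inD A M ⟶ R⟦i⟧)) :
    R.IsGE a ∧ DRing.HasInjAmplitudeIn A a (max a b) R := by
  have hge : R.IsGE a := by
    rw [DerivedCategory.isGE_iff]
    intro i hi
    haveI := Groth.Agent.Lib.H6xDual.subsingleton_HD_of_subsingleton_hom R i (hab A i (Or.inl hi))
    exact ModuleCat.isZero_of_subsingleton _
  obtain ⟨I, hI, hIa, hIb, ⟨e⟩⟩ := Groth.Agent.Lib.H6xLD.exists_bounded_injective_model R a
    (max a b) hge
    (fun N _ _ i hi => hab N i (Or.inr (lt_of_le_of_lt (le_max_right a b) hi)))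
  refine ⟨hge, I, ?_, ?_, ⟨e.symm⟩⟩
  · intro i hi
    rcases hi with hi | hi
    · exact I.isZero_of_isStrictlyGE a i hi
    · exact I.isZero_of_isStrictlyLE (max a b) i hi
  · intro i
    haveI := hI i
    exact Module.injective_module_of_injective_object A (I.X i)

end InjAmp


section Main

variable {A : Type u} [CommRing A] [IsLocalRing A] [IsNoetherianRing A] [HasLTen A] [HasLTen₃ A]
  [IsSymMonoidal A] [HasRHom A] (R : Dual.D A)
  (hfin : ∀ i : ℤ, Module.Finite A (Dual.HD A R i)) (a : ℤ)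
  (ha : ∀ i : ℤ, i < a → Subsingleton (Dual.HD A R i)) (d : ℤ)
  (hvan : ∀ i : ℤ, i ≠ d → Subsingleton (Dual.inD A (IsLocalRing.ResidueField A) ⟶ R⟦i⟧))
  (ed : (Dual.inD A (IsLocalRing.ResidueField A) ⟶ R⟦d⟧) ≃ₗ[A] IsLocalRing.ResidueField A)

local notation "κ" => IsLocalRing.ResidueField A

include hvan ed in
/-- `RHom(k, R) ≅ k[-d]` -/
lemma nonempty_RHom_residue_iso :
    Nonempty ((RHomR A (Dual.inD A κ)).obj R ≅ (Dual.inD A κ)⟦-d⟧) := by
  have hl : ∀ i : ℤ, Nonempty (Dual.HD A ((RHomR A (Dual.inD A κ)).obj R) i ≃ₗ[A]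
      (Dual.inD A κ ⟶ R⟦i⟧)) := fun i => nonempty_HD_RHom_linearEquiv (Dual.inD A κ) R i
  obtain ⟨e1⟩ := Groth.Agent.Lib.H6xUq.nonempty_iso_shift_single_of_HD
    ((RHomR A (Dual.inD A κ)).obj R) d (-d) (by omega) (fun j hj => by
      obtain ⟨l⟩ := hl j
      haveI := hvan j hj
      exact l.toEquiv.subsingleton)
  obtain ⟨l⟩ := hl d
  exact ⟨e1 ≪≫ (shiftFunctor (Dual.D A) (-d)).mapIso
    ((DerivedCategory.singleFunctor (ModuleCat.{u} A) 0).mapIso (l ≪≫ₗ ed).toModuleIso)⟩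

include hvan ed in
/-- `RHom(RHom(k, R), R) ≅ k` -/
lemma nonempty_RHom_RHom_residue_iso :
    Nonempty ((RHomR A ((RHomR A (Dual.inD A κ)).obj R)).obj R ≅ Dual.inD A κ) := by
  obtain ⟨e0⟩ := nonempty_RHom_residue_iso R d hvan ed
  have hl : ∀ i m : ℤ, i + d = m →
      Nonempty (Dual.HD A ((RHomR A ((RHomR A (Dual.inD A κ)).obj R)).obj R) i ≃ₗ[A]
      (Dual.inD A κ ⟶ R⟦m⟧)) := fun i m hm => by
    obtain ⟨l⟩ := nonempty_HD_RHom_linearEquiv ((RHomR A (Dual.inD A κ)).obj R) R i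
    let l2 : ((RHomR A (Dual.inD A κ)).obj R ⟶ R⟦i⟧) ≃ₗ[A] ((Dual.inD A κ)⟦-d⟧ ⟶ R⟦i⟧) :=
      Linear.homCongr A e0 (Iso.refl _)
    let l3 := Groth.Agent.Lib.H6xDual.shiftHomLinearEquiv (Dual.inD A κ) (R⟦i⟧) d
    let l4 : (Dual.inD A κ ⟶ (R⟦i⟧)⟦d⟧) ≃ₗ[A] (Dual.inD A κ ⟶ R⟦m⟧) :=
      Linear.homCongr A (Iso.refl _) ((shiftFunctorAdd' (Dual.D A) i d m hm).app R).symm
    exact ⟨l ≪≫ₗ l2 ≪≫ₗ l3 ≪≫ₗ l4⟩
  obtain ⟨e1⟩ := Groth.Agent.Lib.H6xUq.nonempty_iso_shift_single_of_HD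
    ((RHomR A ((RHomR A (Dual.inD A κ)).obj R)).obj R) 0 0 (by omega) (fun j hj => by
      obtain ⟨l⟩ := hl j (j + d) rfl
      haveI := hvan (j + d) (by omega)
      exact l.toEquiv.subsingleton)
  obtain ⟨l⟩ := hl 0 d (by omega)
  exact ⟨e1 ≪≫ (shiftFunctorZero (Dual.D A) ℤ).app _ ≪≫
    (DerivedCategory.singleFunctor (ModuleCat.{u} A) 0).mapIso (l ≪≫ₗ ed).toModuleIso⟩

include hfin ha hvan ed in
/-- **S11171** -/
theorem isDualizing_of_residue : Dual.IsDualizing A R := by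
  have hinj : ∀ (M : Type u) [AddCommGroup M] [Module A M] (i : ℤ),
      (i < a ∨ d < i) → Subsingleton (Dual.inD A M ⟶ R⟦i⟧) := fun M _ _ i hi =>
    subsingleton_hom_of_residue R hfin a ha d (fun j hj => hvan j (by omega)) M i hi
  obtain ⟨hge, hamp⟩ := exists_injAmp_of_hinj R a d hinj
  -- `E = RHom(R, R)`
  have hEfin : ∀ i : ℤ, Module.Finite A (Dual.HD A ((RHomR A R).obj R) i) := fun i => by
    obtain ⟨l⟩ := nonempty_HD_RHom_linearEquiv R R i
    haveI := Groth.Agent.S1746.result A R R hfin hfin ⟨a, max a d, hamp⟩ i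
    exact Module.Finite.equiv l.symm
  haveI := hge
  have hEle : ((RHomR A R).obj R).IsLE (max a d - a) := isLE_RHom_of_injAmp hamp R a
  haveI := isIso_evalHom_of_isPseudoCoherent (Dual.inD A κ) R R
    (isPseudoCoherent'_inD_of_finite κ) a hge ⟨a, max a d, hamp⟩
  obtain ⟨e2⟩ := nonempty_RHom_RHom_residue_iso R d hvan ed
  obtain ⟨eE⟩ := nonempty_iso_inD_of_tO_residue ((RHomR A R).obj R) hEfin
    ⟨max a d - a, fun i hi => ModuleCat.subsingleton_of_isZero (isZero_of_isLE _ _ i hi)⟩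
    (asIso (evalHom (Dual.inD A κ) R R) ≪≫ e2)
  have hl : ∀ i : ℤ, Nonempty (Dual.HD A (Dual.inD A A) i ≃ₗ[A] (R ⟶ R⟦i⟧)) := fun i => by
    obtain ⟨l⟩ := nonempty_HD_RHom_linearEquiv R R i
    exact ⟨((homologyFunctor (ModuleCat.{u} A) i).mapIso eE).symm.toLinearEquiv ≪≫ₗ l⟩
  refine ⟨inferInstance, ⟨a, d, hinj⟩, hfin, ?_, ?_⟩
  · obtain ⟨l⟩ := hl 0
    let l2 : (R ⟶ R⟦(0 : ℤ)⟧) ≃ₗ[A] (R ⟶ R) :=
      Linear.homCongr A (Iso.refl _) ((shiftFunctorZero (Dual.D A) ℤ).app R)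
    exact toEnd_bijective_of_linearEquiv R
      (l2.symm ≪≫ₗ l.symm ≪≫ₗ Groth.Agent.Lib.H6xLD.HDInDZeroEquiv (A := A) A)
  · intro i hi
    obtain ⟨l⟩ := hl i
    haveI := Groth.Agent.Lib.H6xLD.subsingleton_HD_inD (A := A) A i hi
    exact l.symm.toEquiv.subsingleton

end Main

end Groth.Agent.Lib.H6xDs
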