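import Mathlib
import Groth.Agent.Lib.H6xLDG
import Groth.Agent.S0316
import Groth.Agent.S0299
set_option backward.isDefEq.respectTransparency.types false

/-!
# Corollaries of local duality (helper6)

* the complete case (S0374);
* equality of annihilators (S1713).
-/

set_option autoImplicit false
set_option linter.style.haveILetI false
universe u v

namespace Groth.Agent.Lib.H6xLD

open CategoryTheory CategoryTheory.Limits Category Pretriangulated DerivedCategory Opposite
open Groth.Agent.Lib.H6xDep
attribute [local instance] HasDerivedCategory.standard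

section Small

variable {A : Type u} [CommRing A]

/-- a finite module has a model in the universe of the ring -/
lemma exists_small_model (T : Type v) [AddCommGroup T] [Module A T] [Module.Finite A T] :
    ∃ (T' : Type u) (_ : AddCommGroup T') (_ : Module A T') (_ : Module.Finite A T'),
      Nonempty (T ≃ₗ[A] T') := by
  obtain ⟨n, g, hg⟩ := Module.Finite.exists_fin' A T
  exact ⟨(Fin n → A) ⧸ LinearMap.ker g, inferInstance, inferInstance, inferInstance,
    ⟨(g.quotKerEquivOfSurjective hg).symm⟩⟩

end Small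

section Cogen

variable {A : Type u} [CommRing A] [IsLocalRing A]
  (E : Type u) [AddCommGroup E] [Module A E] (f : IsLocalRing.ResidueField A →ₗ[A] E)
  (hf : InjHull.IsInjectiveHull f)

include hf in
/-- the injective hull of the residue field is a cogenerator -/
theorem exists_linearMap_apply_ne_zero {T : Type v} [AddCommGroup T] [Module A T] (y : T)
    (hy : y ≠ 0) : ∃ φ : T →ₗ[A] E, φ y ≠ 0 := by
  haveI : Module.Injective A E := hf.isInjective
  set s : A →ₗ[A] T := LinearMap.toSpanSingleton A T y with hs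
  set J : Ideal A := LinearMap.ker s with hJ
  have hJm : J ≤ IsLocalRing.maximalIdeal A := by
    apply IsLocalRing.le_maximalIdeal
    intro h
    have h1 : (1 : A) ∈ J := h ▸ Submodule.mem_top
    rw [hJ, LinearMap.mem_ker, hs, LinearMap.toSpanSingleton_apply, one_smul] at h1
    exact hy h1
  let π : A →ₗ[A] IsLocalRing.ResidueField A := Submodule.mkQ (IsLocalRing.maximalIdeal A)
  have hπ : ∀ a ∈ IsLocalRing.maximalIdeal A, π a = 0 := fun a ha =>
    (Submodule.Quotient.mk_eq_zero _).2 ha
  have hπ1 : π 1 = 1 := rfl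
  let g : A →ₗ[A] E := f ∘ₗ π
  have hg : J ≤ LinearMap.ker g := by
    intro a ha
    rw [LinearMap.mem_ker]
    change f (π a) = 0
    rw [hπ a (hJm ha), map_zero]
  let ι : (A ⧸ J) →ₗ[A] T := J.liftQ s le_rfl
  have hι : Function.Injective ι := by
    rw [← LinearMap.ker_eq_bot]
    exact Submodule.ker_liftQ_eq_bot _ _ _ le_rfl
  obtain ⟨φ, hφ⟩ := Module.Injective.extension_property A E _ _ ι hι (J.liftQ g hg)
  refine ⟨φ, fun h0 => ?_⟩
  have h1 := congrArg (fun k => k (Submodule.Quotient.mk (1 : A))) hφ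
  change φ (ι (Submodule.Quotient.mk (1 : A))) = g 1 at h1
  have h2 : ι (Submodule.Quotient.mk (1 : A)) = y := by
    change s 1 = y
    rw [hs, LinearMap.toSpanSingleton_apply, one_smul]
  rw [h2, h0] at h1
  have h3 : f (1 : IsLocalRing.ResidueField A) = 0 := by
    rw [← hπ1]
    exact h1.symm
  have h4 : (1 : IsLocalRing.ResidueField A) = 0 := hf.injective (h3.trans (map_zero f).symm)
  exact one_ne_zero h4

include hf in
/-- `Ann Hom_A(T, E) = Ann T` -/
theorem annihilator_linearMap_eq (T : Type v) [AddCommGroup T] [Module A T] :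
    Module.annihilator A (T →ₗ[A] E) = Module.annihilator A T := by
  apply le_antisymm
  · intro a ha
    rw [Module.mem_annihilator] at ha ⊢
    intro y
    by_contra hy
    obtain ⟨φ, hφ⟩ := exists_linearMap_apply_ne_zero E f hf (a • y) hy
    apply hφ
    rw [map_smul, ← LinearMap.smul_apply, ha φ, LinearMap.zero_apply]
  · intro a ha
    rw [Module.mem_annihilator] at ha ⊢
    intro φ
    apply LinearMap.ext
    intro y
    rw [LinearMap.smul_apply, ← map_smul, ha y, map_zero, LinearMap.zero_apply]

end Cogen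

section Cor

variable {A : Type u} [CommRing A] [IsLocalRing A] [IsNoetherianRing A]
  (ω : Dual.D A) (hω : Dual.IsDualizing A ω) (hn : Dual.IsNormalized A ω)
  (M : Type u) [AddCommGroup M] [Module A M] [Module.Finite A M]

include hω hn in
/-- **S1713**: `Ann Ext^{-i}(M, ω) = Ann H^i_𝔪(M)` -/
theorem annihilator_ext_eq (i : ℕ) :
    Module.annihilator A (Dual.inD A M ⟶ ω⟦(-(i : ℤ))⟧) =
      Module.annihilator A (LocCoh.H (IsLocalRing.maximalIdeal A) i M) := by
  obtain ⟨E, _, _, f, hf⟩ := Groth.Agent.S0299.result A (IsLocalRing.ResidueField A)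
  obtain ⟨e1⟩ := localDuality ω hω hn E f hf M i
  rw [e1.annihilator_eq, annihilator_linearMap_eq E f hf]

variable (E : Type u) [AddCommGroup E] [Module A E] (f : IsLocalRing.ResidueField A →ₗ[A] E)
  (hf : InjHull.IsInjectiveHull f)

include hω hn hf in
/-- **S0374**: local duality over a complete local ring -/
theorem localDuality_complete [IsAdicComplete (IsLocalRing.maximalIdeal A) A] (i : ℕ) :
    Nonempty ((Dual.inD A M ⟶ ω⟦(-(i : ℤ))⟧) ≃ₗ[A]
      (LocCoh.H (IsLocalRing.maximalIdeal A) i M →ₗ[A] E)) := by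
  obtain ⟨e1⟩ := localDuality ω hω hn E f hf M i
  haveI : Module.Finite A (Dual.inD A M ⟶ ω⟦(-(i : ℤ))⟧) := finite_hom ω hω M (-(i : ℤ))
  obtain ⟨T', _, _, _, ⟨eT⟩⟩ := exists_small_model (A := A) (Dual.inD A M ⟶ ω⟦(-(i : ℤ))⟧)
  have hbij := (Groth.Agent.S0316.result A E f hf T').2
  let e2 : T' ≃ₗ[A] ((T' →ₗ[A] E) →ₗ[A] E) := LinearEquiv.ofBijective _ hbij
  exact ⟨eT ≪≫ₗ e2 ≪≫ₗ (LinearEquiv.congrLeft E A (LinearEquiv.congrLeft E A eT)).symm ≪≫ₗ
    (LinearEquiv.congrLeft E A e1).symm⟩

end Cor

end Groth.Agent.Lib.H6xLD
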