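import Mathlib
import Groth.Agent.Lib.H6xLDN
set_option backward.isDefEq.respectTransparency.types false

/-!
# Dévissage for bounded objects of `D(A)` with finite cohomology (helper6)
-/

set_option autoImplicit false
set_option linter.style.haveILetI false
universe u

namespace Groth.Agent.Lib.H6xLD

open CategoryTheory CategoryTheory.Limits Category Pretriangulated DerivedCategory Opposite
open Groth.Agent.Lib.H6xDual Groth.Agent.S14388 Groth.Agent.Lib.H6xBid Groth.Agent.Lib.H6xRGam
attribute [local instance] HasDerivedCategory.standard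

section Dev

variable {A : Type u} [CommRing A]

/-- cohomology of `τ_{<m}` -/
lemma HD_truncLT_equiv (m i : ℤ) (hi : i < m) (N : Dual.D A) :
    Nonempty (Dual.HD A ((tt.truncLT m).obj N) i ≃ₗ[A] Dual.HD A N i) := by
  have j1 := isIso_homology_truncLTι m i hi N
  exact ⟨(asIso ((homologyFunctor (ModuleCat.{u} A) i).map ((tt.truncLTι m).app N))).toLinearEquiv⟩

lemma subsingleton_HD_truncLT (m i : ℤ) (hi : m ≤ i) (N : Dual.D A) :
    Subsingleton (Dual.HD A ((tt.truncLT m).obj N) i) := by
  have hle : ((tt.truncLT m).obj N).IsLE (m - 1) := tt.isLE_truncLT_obj N m (m - 1) (by omega)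
  have hz : IsZero ((homologyFunctor (ModuleCat.{u} A) i).obj ((tt.truncLT m).obj N)) :=
    isZero_of_isLE _ (m - 1) i (by omega)
  exact ModuleCat.subsingleton_of_isZero hz

/-- cohomology of `τ_{≥m}` -/
lemma HD_truncGE_equiv (m i : ℤ) (hi : m ≤ i) (N : Dual.D A) :
    Nonempty (Dual.HD A N i ≃ₗ[A] Dual.HD A ((tt.truncGE m).obj N) i) := by
  have j1 := isIso_homology_truncGEπ m i hi N
  exact ⟨(asIso ((homologyFunctor (ModuleCat.{u} A) i).map ((tt.truncGEπ m).app N))).toLinearEquiv⟩

lemma subsingleton_HD_truncGE (m i : ℤ) (hi : i < m) (N : Dual.D A) :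
    Subsingleton (Dual.HD A ((tt.truncGE m).obj N) i) := by
  have hz : IsZero ((homologyFunctor (ModuleCat.{u} A) i).obj ((tt.truncGE m).obj N)) :=
    isZero_of_isGE _ m i hi
  exact ModuleCat.subsingleton_of_isZero hz

/-- **dévissage** for bounded objects with finite cohomology -/
theorem bounded_induction (Pr : Dual.D A → Prop)
    (h_single : ∀ (M : ModuleCat.{u} A) (j : ℤ), Module.Finite A M →
      Pr ((DerivedCategory.singleFunctor (ModuleCat.{u} A) j).obj M))
    (h_iso : ∀ {X Y : Dual.D A}, (X ≅ Y) → Pr X → Pr Y)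
    (h_tri : ∀ (T : Triangle (Dual.D A)), T ∈ distTriang (Dual.D A) →
      Pr T.obj₁ → Pr T.obj₃ → Pr T.obj₂)
    (j₀ : ℤ) (n : ℕ) : ∀ (N : Dual.D A) (_ : ∀ i : ℤ, Module.Finite A (Dual.HD A N i))
      (_ : ∀ i : ℤ, j₀ + (n : ℤ) ≤ i → Subsingleton (Dual.HD A N i))
      (_ : ∀ i : ℤ, i < j₀ → Subsingleton (Dual.HD A N i)), Pr N := by
  induction n with
  | zero =>
    intro N _ hb hge
    haveI : N.IsGE j₀ := by
      rw [DerivedCategory.isGE_iff]
      intro i hi
      haveI := hge i hi
      exact ModuleCat.isZero_of_subsingleton _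
    haveI : N.IsLE (j₀ - 1) := by
      rw [DerivedCategory.isLE_iff]
      intro i hi
      haveI := hb i (by push_cast; omega)
      exact ModuleCat.isZero_of_subsingleton _
    have hz : IsZero N := tt.isZero N (j₀ - 1) j₀ (by omega)
    have hz' : IsZero ((DerivedCategory.singleFunctor (ModuleCat.{u} A) 0).obj
        (ModuleCat.of A PUnit)) :=
      Functor.map_isZero _ (ModuleCat.isZero_of_subsingleton _)
    exact h_iso (hz'.iso hz) (h_single _ 0 inferInstance)
  | succ n ih =>
    intro N hfin hb hge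
    have hT := tt.triangleLTGE_distinguished (j₀ + (n : ℤ)) N
    have h1 : Pr ((tt.truncLT (j₀ + (n : ℤ))).obj N) := by
      apply ih
      · intro i
        by_cases hi : i < j₀ + (n : ℤ)
        · obtain ⟨e⟩ := HD_truncLT_equiv (j₀ + (n : ℤ)) i hi N
          haveI := hfin i
          exact Module.Finite.equiv e.symm
        · haveI := subsingleton_HD_truncLT (j₀ + (n : ℤ)) i (by omega) N
          infer_instance
      · intro i hi
        exact subsingleton_HD_truncLT (j₀ + (n : ℤ)) i hi N
      · intro i hi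
        obtain ⟨e⟩ := HD_truncLT_equiv (j₀ + (n : ℤ)) i (by omega) N
        haveI := hge i hi
        exact e.toEquiv.subsingleton
    have h3 : Pr ((tt.truncGE (j₀ + (n : ℤ))).obj N) := by
      have hG : ∀ i : ℤ, i ≠ j₀ + (n : ℤ) →
          Subsingleton (Dual.HD A ((tt.truncGE (j₀ + (n : ℤ))).obj N) i) := by
        intro i hi
        by_cases hlt : i < j₀ + (n : ℤ)
        · exact subsingleton_HD_truncGE _ i hlt N
        · obtain ⟨e⟩ := HD_truncGE_equiv (j₀ + (n : ℤ)) i (by omega) N
          haveI := hb i (by push_cast; omega)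
          exact e.symm.toEquiv.subsingleton
      obtain ⟨M, ⟨e⟩, ⟨eM⟩⟩ := exists_iso_single_of_HD _ (j₀ + (n : ℤ)) hG
      obtain ⟨e2⟩ := HD_truncGE_equiv (j₀ + (n : ℤ)) (j₀ + (n : ℤ)) le_rfl N
      haveI := hfin (j₀ + (n : ℤ))
      haveI : Module.Finite A M := Module.Finite.equiv (e2 ≪≫ₗ eM.symm)
      exact h_iso e.symm (h_single M _ inferInstance)
    exact h_tri _ hT h1 h3

end Dev

end Groth.Agent.Lib.H6xLD
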