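import Mathlib
import Groth.Agent.Lib.H6xLDO
set_option backward.isDefEq.respectTransparency.types false

/-!
# Local duality for complexes with finite cohomology (helper6)

`η : F 𝔪 Y → G ω E Y` is bijective and `Hom(Y, ω)` is a finite module for every `Y ∈ D(A)` with
finite cohomology modules (possibly unbounded in both directions).
-/

set_option autoImplicit false
set_option linter.style.haveILetI false
universe u

namespace Groth.Agent.Lib.H6xLD

open CategoryTheory CategoryTheory.Limits Category Pretriangulated DerivedCategory Opposite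
open Groth.Agent.Lib.H6xDual Groth.Agent.S14388 Groth.Agent.Lib.H6xBid Groth.Agent.Lib.H6xRGam
open Groth.Agent.Lib.H6xDep
attribute [local instance] HasDerivedCategory.standard

section Gen

variable {A : Type u} [CommRing A]

/-- `H^j(X⟦n⟧) ≃ H^{n+j}(X)` -/
noncomputable def HDShiftEquiv' (Y : Dual.D A) (n j m : ℤ) (h : n + j = m) :
    Dual.HD A (Y⟦n⟧) j ≃ₗ[A] Dual.HD A Y m :=
  (((homologyFunctor (ModuleCat.{u} A) 0).shiftIso n j m h).app Y).toLinearEquiv

/-- `Hom(-, ω)` of the middle of a distinguished triangle is Noetherian if the outer ones are -/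
lemma isNoetherian_hom_mid (ω : Dual.D A) (T : Triangle (Dual.D A))
    (hT : T ∈ distTriang (Dual.D A)) (h1 : IsNoetherian A (T.obj₁ ⟶ ω))
    (h3 : IsNoetherian A (T.obj₃ ⟶ ω)) : IsNoetherian A (T.obj₂ ⟶ ω) := by
  haveI := h1
  haveI := h3
  refine isNoetherian_of_range_eq_ker (Linear.leftComp A ω T.mor₂) (Linear.leftComp A ω T.mor₁) ?_
  ext g
  constructor
  · rintro ⟨g', rfl⟩
    change T.mor₁ ≫ T.mor₂ ≫ g' = 0
    rw [← assoc, comp_distTriang_mor_zero₁₂ _ hT, Limits.zero_comp]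
  · intro hg
    obtain ⟨g', hg'⟩ := Triangle.yoneda_exact₂ _ hT g hg
    exact ⟨g', hg'.symm⟩

end Gen

section Asm

variable {A : Type u} [CommRing A] [IsLocalRing A] [IsNoetherianRing A]
  (ω : Dual.D A) (hω : Dual.IsDualizing A ω) (hn : Dual.IsNormalized A ω)
  (E : Type u) [AddCommGroup E] [Module A E] (f : IsLocalRing.ResidueField A →ₗ[A] E)
  (hf : InjHull.IsInjectiveHull f) (e : F (IsLocalRing.maximalIdeal A) ω ≃ₗ[A] E)

include hω hn hf in
/-- `P` for bounded objects with finite cohomology -/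
theorem P_of_bounded (N : Dual.D A) (hfin : ∀ i : ℤ, Module.Finite A (Dual.HD A N i))
    (j₀ : ℤ) (n : ℕ) (hb : ∀ i : ℤ, j₀ + (n : ℤ) ≤ i → Subsingleton (Dual.HD A N i))
    (hge : ∀ i : ℤ, i < j₀ → Subsingleton (Dual.HD A N i)) :
    P (IsLocalRing.maximalIdeal A) ω E e.toLinearMap N := by
  haveI : Module.Injective A E := hf.isInjective
  refine bounded_induction (P (IsLocalRing.maximalIdeal A) ω E e.toLinearMap) ?_
    (fun e' h => P_of_iso e' h) (fun T hT h1 h3 => P_mid T hT h1 h3) j₀ n N hfin hb hge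
  intro M j hM
  haveI := hM
  have h0 := P_of_finite ω hω hn E f hf e M
  let σ : (Dual.inD A M)⟦-j⟧ ≅ (DerivedCategory.singleFunctor (ModuleCat.{u} A) j).obj M :=
    ((DerivedCategory.singleFunctors (ModuleCat.{u} A)).shiftIso (-j) j 0 (by omega)).app M
  exact P_of_iso σ (P_shift h0 (-j))

include hω in
/-- `Hom(N, ω)` is Noetherian for bounded `N` with finite cohomology -/
theorem isNoetherian_hom_of_bounded (N : Dual.D A)
    (hfin : ∀ i : ℤ, Module.Finite A (Dual.HD A N i))
    (j₀ : ℤ) (n : ℕ) (hb : ∀ i : ℤ, j₀ + (n : ℤ) ≤ i → Subsingleton (Dual.HD A N i))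
    (hge : ∀ i : ℤ, i < j₀ → Subsingleton (Dual.HD A N i)) : IsNoetherian A (N ⟶ ω) := by
  refine bounded_induction (fun X => IsNoetherian A (X ⟶ ω)) ?_ ?_
    (fun T hT h1 h3 => isNoetherian_hom_mid ω T hT h1 h3) j₀ n N hfin hb hge
  · intro M j hM
    haveI := hM
    haveI := finite_hom ω hω M j
    let σ : (Dual.inD A M)⟦-j⟧ ≅ (DerivedCategory.singleFunctor (ModuleCat.{u} A) j).obj M :=
      ((DerivedCategory.singleFunctors (ModuleCat.{u} A)).shiftIso (-j) j 0 (by omega)).app M
    let e1 : (Dual.inD A M ⟶ ω⟦j⟧) ≃ₗ[A] ((Dual.inD A M)⟦-j⟧ ⟶ ω) :=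
      (shiftHomLinearEquiv' (Dual.inD A M) ω (-j) j (by omega)).symm
    haveI : IsNoetherian A (Dual.inD A M ⟶ ω⟦j⟧) := isNoetherian_of_isNoetherianRing_of_finite A _
    exact isNoetherian_of_linearEquiv (e1 ≪≫ₗ Linear.homCongr A σ (Iso.refl ω))
  · intro X Y e' h
    haveI := h
    exact isNoetherian_of_linearEquiv (Linear.homCongr A e' (Iso.refl ω))

end Asm

end Groth.Agent.Lib.H6xLD
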