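import Mathlib
import Groth.Agent.Lib.H6xLDP
set_option backward.isDefEq.respectTransparency.types false

/-!
# Local duality for unbounded complexes with finite cohomology (helper6)
-/

set_option autoImplicit false
set_option linter.style.haveILetI false
universe u

namespace Groth.Agent.Lib.H6xLD

open CategoryTheory CategoryTheory.Limits Category Pretriangulated DerivedCategory Opposite
open Groth.Agent.Lib.H6xDual Groth.Agent.S14388 Groth.Agent.Lib.H6xBid Groth.Agent.Lib.H6xRGam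
open Groth.Agent.Lib.H6xDep
attribute [local instance] HasDerivedCategory.standard

section Van

variable {A : Type u} [CommRing A] [IsNoetherianRing A] (ω : Dual.D A)
  (hω : Dual.IsDualizing A ω)

/-- the vanishing ranges attached to a dualizing complex and an ideal -/
structure VanData (I : Ideal A) where
  a₀ : ℤ
  b₀ : ℤ
  d : ℕ
  hF1 : ∀ Z : Dual.D A, Z.IsGE 1 → Subsingleton (F I Z)
  hF2 : ∀ Z : Dual.D A, Z.IsLE (-(d : ℤ) - 1) → Subsingleton (F I Z)
  hH1 : ∀ Z : Dual.D A, Z.IsGE (b₀ + 1) → Subsingleton (Z ⟶ ω)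
  hH2 : ∀ Z : Dual.D A, Z.IsLE (a₀ - 1) → Subsingleton (Z ⟶ ω)

include hω in
theorem nonempty_vanData (I : Ideal A) : Nonempty (VanData ω I) := by
  obtain ⟨a₀, b₀, hab⟩ := hω.finite_injective_dimension
  obtain ⟨d, hd⟩ := exists_cd_bound' I
  have hωGE : ω.IsGE a₀ := by
    rw [DerivedCategory.isGE_iff]
    intro j hj
    obtain ⟨eq⟩ := nonempty_hom_linearEquiv_HD ω j
    haveI := hab A j (Or.inl hj)
    haveI : Subsingleton (Dual.HD A ω j) := eq.symm.toEquiv.subsingleton
    exact ModuleCat.isZero_of_subsingleton _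
  refine ⟨⟨a₀, b₀, d, ?_, hd, ?_, ?_⟩⟩
  · intro Z hZ
    refine subsingleton_F I Z (fun n => ⟨fun g g' => ?_⟩)
    rw [tt.zero_of_isLE_of_isGE g 0 1 (by omega) inferInstance hZ,
      tt.zero_of_isLE_of_isGE g' 0 1 (by omega) inferInstance hZ]
  · intro Z hZ
    exact subsingleton_hom_of_isGE ω a₀ b₀ hωGE (fun N _ _ i hi => hab N i (Or.inr hi)) Z hZ
  · intro Z hZ
    refine ⟨fun g g' => ?_⟩
    rw [tt.zero_of_isLE_of_isGE g (a₀ - 1) a₀ (by omega) hZ hωGE,
      tt.zero_of_isLE_of_isGE g' (a₀ - 1) a₀ (by omega) hZ hωGE]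

end Van

section Main

variable {A : Type u} [CommRing A] [IsLocalRing A] [IsNoetherianRing A]
  (ω : Dual.D A) (hω : Dual.IsDualizing A ω) (hn : Dual.IsNormalized A ω)
  (E : Type u) [AddCommGroup E] [Module A E] (f : IsLocalRing.ResidueField A →ₗ[A] E)
  (hf : InjHull.IsInjectiveHull f) (e : F (IsLocalRing.maximalIdeal A) ω ≃ₗ[A] E)

omit [IsLocalRing A] [IsNoetherianRing A] in
/-- trivial bijectivity -/
lemma bijective_of_subsingleton (I : Ideal A) (e' : F I ω →ₗ[A] E) (Z : Dual.D A)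
    (hF : Subsingleton (F I Z)) (hH : Subsingleton (Z ⟶ ω)) :
    Function.Bijective (η I ω E e' Z) := by
  haveI := hF
  haveI := hH
  haveI : Subsingleton (G ω E Z) := inferInstance
  exact ⟨fun a b _ => Subsingleton.elim a b, fun c => ⟨0, Subsingleton.elim _ _⟩⟩

/-- the bounded truncation `τ_{≥ m} W` of a bounded above `W` -/
lemma truncGE_data (W : Dual.D A) (hfin : ∀ i : ℤ, Module.Finite A (Dual.HD A W i)) (c : ℤ)
    (hW : W.IsLE c) (m : ℤ) :
    (∀ i : ℤ, Module.Finite A (Dual.HD A ((tt.truncGE m).obj W) i)) ∧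
    (∀ i : ℤ, m + ((c - m + 1).toNat : ℤ) ≤ i →
      Subsingleton (Dual.HD A ((tt.truncGE m).obj W) i)) ∧
    (∀ i : ℤ, i < m → Subsingleton (Dual.HD A ((tt.truncGE m).obj W) i)) := by
  haveI := hW
  refine ⟨fun i => ?_, fun i hi => ?_, fun i hi => subsingleton_HD_truncGE m i hi W⟩
  · by_cases h : i < m
    · haveI := subsingleton_HD_truncGE m i h W
      infer_instance
    · obtain ⟨eq⟩ := HD_truncGE_equiv m i (by omega) W
      haveI := hfin i
      exact Module.Finite.equiv eq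
  · have h1 : m ≤ i := by omega
    have h2 : c < i := by omega
    obtain ⟨eq⟩ := HD_truncGE_equiv m i h1 W
    have hz : IsZero ((homologyFunctor (ModuleCat.{u} A) i).obj W) := isZero_of_isLE W c i h2
    haveI : Subsingleton (Dual.HD A W i) := ModuleCat.subsingleton_of_isZero hz
    exact eq.symm.toEquiv.subsingleton

include hω hn hf in
/-- bounded above objects -/
theorem bijective_η_of_isLE (V : VanData ω (IsLocalRing.maximalIdeal A)) (W : Dual.D A)
    (hfin : ∀ i : ℤ, Module.Finite A (Dual.HD A W i)) (c : ℤ) (hW : W.IsLE c) :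
    Function.Bijective (η (IsLocalRing.maximalIdeal A) ω E e.toLinearMap W) := by
  haveI : Module.Injective A E := hf.isInjective
  set m : ℤ := min V.a₀ (-(V.d : ℤ)) - 1 with hm
  have hm1 : m ≤ V.a₀ - 1 := by
    have := min_le_left V.a₀ (-(V.d : ℤ))
    omega
  have hm2 : m ≤ -(V.d : ℤ) - 1 := by
    have := min_le_right V.a₀ (-(V.d : ℤ))
    omega
  have hT := tt.triangleLTGE_distinguished m W
  obtain ⟨hfinV, hbV, hgeV⟩ := truncGE_data W hfin c hW m
  have hPV := P_of_bounded ω hω hn E f hf e ((tt.truncGE m).obj W) hfinV m (c - m + 1).toNat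
    hbV hgeV
  haveI hU : (((tt.triangleLTGE m).obj W).obj₁).IsLE (m - 1) := inferInstance
  haveI hU' : ((((tt.triangleLTGE m).obj W).obj₁)⟦(1 : ℤ)⟧).IsLE (m - 2) :=
    tt.isLE_shift (((tt.triangleLTGE m).obj W).obj₁) (m - 1) 1 (m - 2) (by omega)
  refine bijective_mid (IsLocalRing.maximalIdeal A) ω E e.toLinearMap _ hT (hPV (-1)).2 ?_
    (bijective_of_iso (IsLocalRing.maximalIdeal A) ω E e.toLinearMap
      ((shiftFunctorZero (Dual.D A) ℤ).app _) (hPV 0)) ?_
  · exact bijective_of_subsingleton ω E _ _ _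
      (V.hF2 _ (tt.isLE_of_le _ (m - 1) _ (by omega)))
      (V.hH2 _ (tt.isLE_of_le _ (m - 1) _ (by omega)))
  · exact (bijective_of_subsingleton ω E _ _ _
      (V.hF2 _ (tt.isLE_of_le _ (m - 2) _ (by omega)))
      (V.hH2 _ (tt.isLE_of_le _ (m - 2) _ (by omega)))).1

include hω in
/-- bounded above objects: finiteness of `Hom(W, ω)` -/
theorem isNoetherian_hom_of_isLE (V : VanData ω (IsLocalRing.maximalIdeal A)) (W : Dual.D A)
    (hfin : ∀ i : ℤ, Module.Finite A (Dual.HD A W i)) (c : ℤ) (hW : W.IsLE c) :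
    IsNoetherian A (W ⟶ ω) := by
  set m : ℤ := V.a₀ with hm
  have hT := tt.triangleLTGE_distinguished m W
  obtain ⟨hfinV, hbV, hgeV⟩ := truncGE_data W hfin c hW m
  have hNV := isNoetherian_hom_of_bounded ω hω ((tt.truncGE m).obj W) hfinV m (c - m + 1).toNat
    hbV hgeV
  haveI hU : (((tt.triangleLTGE m).obj W).obj₁).IsLE (m - 1) := inferInstance
  refine isNoetherian_hom_mid ω _ hT ?_ hNV
  haveI : Subsingleton (((tt.triangleLTGE m).obj W).obj₁ ⟶ ω) := V.hH2 _ hU
  exact isNoetherian_of_finite A _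

end Main

end Groth.Agent.Lib.H6xLD
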