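import Mathlib
import Groth.Agent.Lib.H6xLDQ
import Groth.Agent.Lib.H6xLDH
set_option backward.isDefEq.respectTransparency.types false

/-!
# Local duality for complexes with finite cohomology, complete case (helper6)

S1761: `Hom(K, ω⟦-i⟧) ≃ Hom_A(H^i_𝔪(K), E)` for `A` complete and `K` with finite cohomology.
-/

set_option autoImplicit false
set_option linter.style.haveILetI false
universe u

namespace Groth.Agent.Lib.H6xLD

open CategoryTheory CategoryTheory.Limits Category Pretriangulated DerivedCategory Opposite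
open Groth.Agent.Lib.H6xDual Groth.Agent.S14388 Groth.Agent.Lib.H6xBid Groth.Agent.Lib.H6xRGam
open Groth.Agent.Lib.H6xDep
attribute [local instance] HasDerivedCategory.standard

section Main

variable {A : Type u} [CommRing A] [IsLocalRing A] [IsNoetherianRing A]
  (ω : Dual.D A) (hω : Dual.IsDualizing A ω) (hn : Dual.IsNormalized A ω)
  (E : Type u) [AddCommGroup E] [Module A E] (f : IsLocalRing.ResidueField A →ₗ[A] E)
  (hf : InjHull.IsInjectiveHull f) (e : F (IsLocalRing.maximalIdeal A) ω ≃ₗ[A] E)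

/-- the truncation `τ_{<m} Y` has finite cohomology -/
lemma finite_HD_truncLT (Y : Dual.D A) (hfin : ∀ i : ℤ, Module.Finite A (Dual.HD A Y i)) (m : ℤ)
    (i : ℤ) : Module.Finite A (Dual.HD A ((tt.truncLT m).obj Y) i) := by
  by_cases h : i < m
  · obtain ⟨eq⟩ := HD_truncLT_equiv m i h Y
    haveI := hfin i
    exact Module.Finite.equiv eq.symm
  · haveI := subsingleton_HD_truncLT m i (by omega) Y
    infer_instance

include hω hn hf in
/-- **local duality for objects with finite cohomology**: `η_Y` is bijective -/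
theorem bijective_η_of_finite (V : VanData ω (IsLocalRing.maximalIdeal A)) (Y : Dual.D A)
    (hfin : ∀ i : ℤ, Module.Finite A (Dual.HD A Y i)) :
    Function.Bijective (η (IsLocalRing.maximalIdeal A) ω E e.toLinearMap Y) := by
  haveI : Module.Injective A E := hf.isInjective
  set b : ℤ := max (V.b₀ + 1) 2 with hb
  have hb1 : V.b₀ + 1 ≤ b := le_max_left _ _
  have hb2 : 2 ≤ b := le_max_right _ _
  have hT := tt.triangleLTGE_distinguished b Y
  haveI h1 : (((tt.triangleLTGE b).obj Y).obj₁).IsLE (b - 1) := inferInstance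
  haveI h1' : ((((tt.triangleLTGE b).obj Y).obj₁)⟦(1 : ℤ)⟧).IsLE (b - 2) :=
    tt.isLE_shift (((tt.triangleLTGE b).obj Y).obj₁) (b - 1) 1 (b - 2) (by omega)
  haveI h3 : (((tt.triangleLTGE b).obj Y).obj₃).IsGE b := inferInstance
  haveI h3' : ((((tt.triangleLTGE b).obj Y).obj₃)⟦(-1 : ℤ)⟧).IsGE (b + 1) :=
    tt.isGE_shift (((tt.triangleLTGE b).obj Y).obj₃) b (-1) (b + 1) (by omega)
  have hfin1 : ∀ i : ℤ, Module.Finite A (Dual.HD A (((tt.triangleLTGE b).obj Y).obj₁) i) :=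
    finite_HD_truncLT Y hfin b
  have hfin1' : ∀ i : ℤ,
      Module.Finite A (Dual.HD A ((((tt.triangleLTGE b).obj Y).obj₁)⟦(1 : ℤ)⟧) i) := by
    intro i
    haveI := hfin1 (1 + i)
    exact Module.Finite.equiv (HDShiftEquiv' (((tt.triangleLTGE b).obj Y).obj₁) 1 i (1 + i) rfl).symm
  refine bijective_mid (IsLocalRing.maximalIdeal A) ω E e.toLinearMap _ hT ?_
    (bijective_η_of_isLE ω hω hn E f hf e V _ hfin1 (b - 1) h1) ?_
    (bijective_η_of_isLE ω hω hn E f hf e V _ hfin1' (b - 2) h1').1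
  · haveI : Subsingleton ((((tt.triangleLTGE b).obj Y).obj₃)⟦(-1 : ℤ)⟧ ⟶ ω) :=
      V.hH1 _ (tt.isGE_of_ge _ (V.b₀ + 1) (b + 1) (by omega))
    intro c
    exact ⟨0, Subsingleton.elim _ _⟩
  · exact bijective_of_subsingleton ω E _ _ _
      (V.hF1 _ (tt.isGE_of_ge _ 1 b (by omega)))
      (V.hH1 _ (tt.isGE_of_ge _ (V.b₀ + 1) b (by omega)))

include hω in
/-- `Hom(Y, ω)` is a Noetherian module for `Y` with finite cohomology -/
theorem isNoetherian_hom_of_finite (V : VanData ω (IsLocalRing.maximalIdeal A)) (Y : Dual.D A)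
    (hfin : ∀ i : ℤ, Module.Finite A (Dual.HD A Y i)) : IsNoetherian A (Y ⟶ ω) := by
  set b : ℤ := V.b₀ + 1 with hb
  have hT := tt.triangleLTGE_distinguished b Y
  haveI h1 : (((tt.triangleLTGE b).obj Y).obj₁).IsLE (b - 1) := inferInstance
  haveI h3 : (((tt.triangleLTGE b).obj Y).obj₃).IsGE b := inferInstance
  have hfin1 : ∀ i : ℤ, Module.Finite A (Dual.HD A (((tt.triangleLTGE b).obj Y).obj₁) i) :=
    finite_HD_truncLT Y hfin b
  refine isNoetherian_hom_mid ω _ hT (isNoetherian_hom_of_isLE ω hω V _ hfin1 (b - 1) h1) ?_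
  haveI : Subsingleton (((tt.triangleLTGE b).obj Y).obj₃ ⟶ ω) := V.hH1 _ h3
  exact isNoetherian_of_finite A _

include hω hn hf in
/-- **S1761**: local duality for complexes with finite cohomology over a complete local ring -/
theorem localDuality_complete_complex [IsAdicComplete (IsLocalRing.maximalIdeal A) A]
    (K : Dual.D A) (hK : ∀ i : ℤ, Module.Finite A (Dual.HD A K i)) (i : ℤ) :
    Nonempty ((K ⟶ ω⟦(-i)⟧) ≃ₗ[A]
      (Dual2.HDI A (IsLocalRing.maximalIdeal A) K i →ₗ[A] E)) := by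
  obtain ⟨e⟩ := nonempty_F_dualizing_equiv ω hω hn E f hf
  obtain ⟨V⟩ := nonempty_vanData ω hω (IsLocalRing.maximalIdeal A)
  have hfinY : ∀ j : ℤ, Module.Finite A (Dual.HD A (K⟦i⟧) j) := by
    intro j
    haveI := hK (i + j)
    exact Module.Finite.equiv (HDShiftEquiv' K i j (i + j) rfl).symm
  have hbij := bijective_η_of_finite ω hω hn E f hf e V (K⟦i⟧) hfinY
  haveI hN := isNoetherian_hom_of_finite ω hω V (K⟦i⟧) hfinY
  let sh : (K⟦i⟧ ⟶ ω) ≃ₗ[A] (K ⟶ ω⟦-i⟧) := shiftHomLinearEquiv' K ω i (-i) (by omega)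
  let e1 : Dual2.HDI A (IsLocalRing.maximalIdeal A) K i ≃ₗ[A] ((K ⟶ ω⟦-i⟧) →ₗ[A] E) :=
    (HDIEquiv (IsLocalRing.maximalIdeal A) K i).symm ≪≫ₗ LinearEquiv.ofBijective _ hbij ≪≫ₗ
      LinearEquiv.congrLeft E A sh
  haveI : Module.Finite A (K⟦i⟧ ⟶ ω) := Module.IsNoetherian.finite A _
  haveI : Module.Finite A (K ⟶ ω⟦-i⟧) := Module.Finite.equiv sh
  obtain ⟨T', _, _, _, ⟨eT⟩⟩ := exists_small_model (A := A) (K ⟶ ω⟦-i⟧)
  have hb2 := (Groth.Agent.S0316.result A E f hf T').2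
  let e2 : T' ≃ₗ[A] ((T' →ₗ[A] E) →ₗ[A] E) := LinearEquiv.ofBijective _ hb2
  exact ⟨eT ≪≫ₗ e2 ≪≫ₗ (LinearEquiv.congrLeft E A (LinearEquiv.congrLeft E A eT)).symm ≪≫ₗ
    (LinearEquiv.congrLeft E A e1).symm⟩

end Main

end Groth.Agent.Lib.H6xLD
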