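import Mathlib
import Groth.Agent.Lib.H6xLDR
import Groth.Agent.Lib.H6xLocH
import Groth.Agent.S0299
set_option backward.isDefEq.respectTransparency.types false

/-!
# Uniqueness of dualizing complexes over a Noetherian local ring (helper6)

Two dualizing complexes over a Noetherian local ring differ by a shift.  The proof avoids `RHom`:
by local duality (for objects with finite cohomology, no completeness needed)
`Hom_A(Hom(Y, ω), E) ≃ F_𝔪(Y) ≃ Hom_A(Hom(Y, ω'), E)` naturally in `Y`, for normalized `ω, ω'`.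
Hence `Hom(ω, ω')` and `Hom(ω', ω)` are cyclic modules, and the composite of generators is a unit
of `A = End(ω)`.
-/

set_option autoImplicit false
set_option linter.style.haveILetI false
universe u v

namespace Groth.Agent.Lib.H6xUniq

open CategoryTheory CategoryTheory.Limits Category Pretriangulated DerivedCategory Opposite
open Groth.Agent.Lib.H6xLD
attribute [local instance] HasDerivedCategory.standard

section Mod

variable {A : Type u} [CommRing A] [IsLocalRing A]
  (E : Type u) [AddCommGroup E] [Module A E] (f : IsLocalRing.ResidueField A →ₗ[A] E)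
  (hf : InjHull.IsInjectiveHull f)

include hf in
/-- the socle of the injective hull of the residue field is the residue field -/
lemma mem_range_of_smul_eq_zero (x : E)
    (hx : ∀ a ∈ IsLocalRing.maximalIdeal A, a • x = 0) : x ∈ LinearMap.range f := by
  by_cases h0 : x = 0
  · rw [h0]; exact zero_mem _
  have h1 : (Submodule.span A {x}) ⊓ LinearMap.range f ≠ ⊥ :=
    hf.essential _ (by
      intro h
      apply h0
      have h2 : x ∈ Submodule.span A {x} := Submodule.mem_span_singleton_self x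
      rw [h] at h2
      exact (Submodule.mem_bot A).1 h2)
  obtain ⟨y, hy, hy0⟩ := Submodule.exists_mem_ne_zero_of_ne_bot h1
  obtain ⟨hy1, hy2⟩ := Submodule.mem_inf.1 hy
  obtain ⟨a, rfl⟩ := Submodule.mem_span_singleton.1 hy1
  have ha : IsUnit a := by
    by_contra hna
    exact hy0 (hx a ((IsLocalRing.mem_maximalIdeal a).2 hna))
  obtain ⟨b, hb⟩ := ha.exists_left_inv
  have h3 : x = b • (a • x) := by rw [smul_smul, hb, one_smul]
  rw [h3]
  exact Submodule.smul_mem _ b hy2

include hf in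
/-- a finite module whose `E`-dual is isomorphic to `E` is cyclic -/
theorem exists_generator_of_dual_equiv (T : Type v) [AddCommGroup T] [Module A T]
    [Module.Finite A T] (e : (T →ₗ[A] E) ≃ₗ[A] E) : ∃ t₀ : T, ∀ t : T, ∃ a : A, t = a • t₀ := by
  have hres0 : ∀ a ∈ IsLocalRing.maximalIdeal A,
      algebraMap A (IsLocalRing.ResidueField A) a = 0 := fun a ha =>
    (IsLocalRing.residue_eq_zero_iff a).2 ha
  have hres : ∀ a : A, a • (1 : IsLocalRing.ResidueField A) =
      algebraMap A (IsLocalRing.ResidueField A) a := fun a =>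
    (Algebra.algebraMap_eq_smul_one a).symm
  have hsurj : ∀ x : IsLocalRing.ResidueField A, ∃ a : A,
      algebraMap A (IsLocalRing.ResidueField A) a = x := IsLocalRing.residue_surjective
  set φ₁ : T →ₗ[A] E := e.symm (f 1) with hφ₁
  have hm : ∀ a ∈ IsLocalRing.maximalIdeal A, a • φ₁ = 0 := by
    intro a ha
    rw [hφ₁, ← map_smul, ← map_smul, hres, hres0 a ha, map_zero, map_zero]
  have hφ₁0 : φ₁ ≠ 0 := by
    intro h
    have h1 : f 1 = 0 := by
      have h2 := congrArg e h
      rw [hφ₁, LinearEquiv.apply_symm_apply, map_zero] at h2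
      exact h2
    exact one_ne_zero (hf.injective (h1.trans (map_zero f).symm))
  have hmul : ∀ φ : T →ₗ[A] E, (∀ a ∈ IsLocalRing.maximalIdeal A, a • φ = 0) →
      ∃ c : A, φ = c • φ₁ := by
    intro φ hφ
    have h1 : e φ ∈ LinearMap.range f := mem_range_of_smul_eq_zero E f hf _
      (fun a ha => by rw [← map_smul, hφ a ha, map_zero])
    obtain ⟨cbar, hc⟩ := h1
    obtain ⟨c, rfl⟩ := hsurj cbar
    refine ⟨c, ?_⟩
    apply e.injective
    rw [map_smul, hφ₁, LinearEquiv.apply_symm_apply, ← hc, ← map_smul, hres]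
  set N : Submodule A T := IsLocalRing.maximalIdeal A • ⊤ with hN
  have hdetect : ∀ t : T, φ₁ t = 0 → t ∈ N := by
    intro t ht
    by_contra hnt
    have h1 : N.mkQ t ≠ 0 := fun h => hnt ((Submodule.Quotient.mk_eq_zero N).1 h)
    obtain ⟨ψ, hψ⟩ := exists_linearMap_apply_ne_zero E f hf (N.mkQ t) h1
    have h2 : ∀ a ∈ IsLocalRing.maximalIdeal A, a • (ψ ∘ₗ N.mkQ) = 0 := by
      intro a ha
      apply LinearMap.ext
      intro s
      change a • ψ (N.mkQ s) = 0
      have h3 : N.mkQ (a • s) = 0 :=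
        (Submodule.Quotient.mk_eq_zero N).2 (Submodule.smul_mem_smul ha Submodule.mem_top)
      rw [← map_smul, ← map_smul, h3, map_zero]
    obtain ⟨c, hc⟩ := hmul _ h2
    apply hψ
    have h4 := congrArg (fun k => k t) hc
    change ψ (N.mkQ t) = c • φ₁ t at h4
    rw [h4, ht, smul_zero]
  obtain ⟨t₀, ht₀⟩ : ∃ t₀, φ₁ t₀ ≠ 0 := by
    by_contra h
    push Not at h
    exact hφ₁0 (LinearMap.ext h)
  refine ⟨t₀, ?_⟩
  have hr : ∀ t, φ₁ t ∈ LinearMap.range f := fun t =>
    mem_range_of_smul_eq_zero E f hf _ (fun a ha => by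
      rw [← LinearMap.smul_apply, hm a ha, LinearMap.zero_apply])
  obtain ⟨c₀bar, hc₀⟩ := hr t₀
  obtain ⟨c₀, rfl⟩ := hsurj c₀bar
  have hc₀u : IsUnit c₀ := by
    by_contra hnu
    apply ht₀
    rw [← hc₀, hres0 c₀ ((IsLocalRing.mem_maximalIdeal c₀).2 hnu), map_zero]
  obtain ⟨b, hb⟩ := hc₀u.exists_left_inv
  have hspan : (⊤ : Submodule A T) ≤ Submodule.span A {t₀} := by
    apply Submodule.le_of_le_smul_of_le_jacobson_bot (I := IsLocalRing.maximalIdeal A)
      Module.Finite.fg_top (IsLocalRing.maximalIdeal_le_jacobson ⊥)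
    intro t _
    obtain ⟨cbar, hc⟩ := hr t
    obtain ⟨c, rfl⟩ := hsurj cbar
    have h1 : φ₁ (t - (c * b) • t₀) = 0 := by
      rw [map_sub, map_smul, ← hc, ← hc₀, ← map_smul, sub_eq_zero]
      congr 1
      rw [Algebra.smul_def, ← map_mul, mul_assoc, hb, mul_one]
    have h2 := hdetect _ h1
    have h3 : t = (c * b) • t₀ + (t - (c * b) • t₀) := by abel
    rw [h3]
    exact Submodule.add_mem_sup
      (Submodule.smul_mem _ _ (Submodule.mem_span_singleton_self t₀)) h2
  intro t
  obtain ⟨a, ha⟩ := Submodule.mem_span_singleton.1 (hspan (Submodule.mem_top : t ∈ ⊤))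
  exact ⟨a, ha.symm⟩

end Mod

section Main

variable {A : Type u} [CommRing A] [IsLocalRing A] [IsNoetherianRing A]
  (ω ω' : Dual.D A) (hω : Dual.IsDualizing A ω) (hω' : Dual.IsDualizing A ω')
  (hn : Dual.IsNormalized A ω) (hn' : Dual.IsNormalized A ω')
  (E : Type u) [AddCommGroup E] [Module A E] (f : IsLocalRing.ResidueField A →ₗ[A] E)
  (hf : InjHull.IsInjectiveHull f)

include hω hn hf in
/-- injectivity of `Gmap` is detected on `F` -/
lemma injective_Gmap_iff {X Y : Dual.D A} (g : X ⟶ Y)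
    (hX : ∀ i : ℤ, Module.Finite A (Dual.HD A X i))
    (hY : ∀ i : ℤ, Module.Finite A (Dual.HD A Y i)) :
    Function.Injective (Gmap ω E g) ↔
      Function.Injective (Fmap (IsLocalRing.maximalIdeal A) g) := by
  obtain ⟨e⟩ := nonempty_F_dualizing_equiv ω hω hn E f hf
  obtain ⟨V⟩ := nonempty_vanData ω hω (IsLocalRing.maximalIdeal A)
  have hbX := bijective_η_of_finite ω hω hn E f hf e V X hX
  have hbY := bijective_η_of_finite ω hω hn E f hf e V Y hY
  constructor
  · intro h z z' hzz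
    apply hbX.1
    apply h
    rw [← η_natural, ← η_natural, hzz]
  · intro h c c' hcc
    obtain ⟨z, rfl⟩ := hbX.2 c
    obtain ⟨z', rfl⟩ := hbX.2 c'
    rw [← η_natural, ← η_natural] at hcc
    rw [h (hbY.1 hcc)]

include hω hω' hn hn' hf in
/-- `Hom(ω, ω')` is a cyclic module -/
theorem exists_generator_hom : ∃ u : ω ⟶ ω', ∀ φ : ω ⟶ ω', ∃ a : A, φ = a • u := by
  obtain ⟨e⟩ := nonempty_F_dualizing_equiv ω hω hn E f hf
  obtain ⟨e'⟩ := nonempty_F_dualizing_equiv ω' hω' hn' E f hf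
  obtain ⟨V'⟩ := nonempty_vanData ω' hω' (IsLocalRing.maximalIdeal A)
  have hb := bijective_η_of_finite ω' hω' hn' E f hf e' V' ω hω.finite_cohomology
  haveI : IsNoetherian A (ω ⟶ ω') :=
    isNoetherian_hom_of_finite ω' hω' V' ω hω.finite_cohomology
  let e1 : ((ω ⟶ ω') →ₗ[A] E) ≃ₗ[A] E := (LinearEquiv.ofBijective _ hb).symm ≪≫ₗ e
  exact exists_generator_of_dual_equiv E f hf (ω ⟶ ω') e1

include hω hω' hn hn' hf in
/-- the composite of generators of `Hom(ω, ω')` and `Hom(ω', ω)` is a unit multiple of the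
identity -/
theorem isUnit_of_generators (u : ω ⟶ ω') (hu : ∀ φ : ω ⟶ ω', ∃ a : A, φ = a • u)
    (v : ω' ⟶ ω) (hv : ∀ ψ : ω' ⟶ ω, ∃ a : A, ψ = a • v) (c : A) (hc : u ≫ v = c • 𝟙 ω) :
    IsUnit c := by
  by_contra hnu
  have hcm : c ∈ IsLocalRing.maximalIdeal A := (IsLocalRing.mem_maximalIdeal c).2 hnu
  have h1 : Function.Injective (Gmap ω' E u) := by
    intro c₁ c₂ h12
    apply LinearMap.ext
    intro φ
    obtain ⟨a, rfl⟩ := hu φ
    have h := congrArg (fun k => k (a • 𝟙 ω')) h12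
    simp only [Gmap_apply] at h
    rw [Linear.comp_smul, comp_id] at h
    exact h
  have h2 : Function.Injective (Fmap (IsLocalRing.maximalIdeal A) u) :=
    (injective_Gmap_iff ω' hω' hn' E f hf u hω.finite_cohomology hω'.finite_cohomology).1 h1
  have h3 : Function.Injective (Gmap ω E u) :=
    (injective_Gmap_iff ω hω hn E f hf u hω.finite_cohomology hω'.finite_cohomology).2 h2
  let toEnd : A →ₗ[A] (ω ⟶ ω) := LinearMap.toSpanSingleton A (ω ⟶ ω) (𝟙 ω)
  have hte : Function.Bijective toEnd := hω.toEnd_bijective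
  let eEnd : A ≃ₗ[A] (ω ⟶ ω) := LinearEquiv.ofBijective toEnd hte
  let c₀ : (ω ⟶ ω) →ₗ[A] E :=
    (f ∘ₗ Algebra.linearMap A (IsLocalRing.ResidueField A)) ∘ₗ eEnd.symm.toLinearMap
  have hc₀ : ∀ a : A, c₀ (a • 𝟙 ω) = f (algebraMap A (IsLocalRing.ResidueField A) a) := by
    intro a
    change f (algebraMap A (IsLocalRing.ResidueField A) (eEnd.symm (a • 𝟙 ω))) = _
    have h : eEnd.symm (a • 𝟙 ω) = a := by
      apply eEnd.injective
      rw [LinearEquiv.apply_symm_apply]
      rfl
    rw [h]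
  have h4 : Gmap ω E u c₀ = 0 := by
    apply LinearMap.ext
    intro ψ
    obtain ⟨b, rfl⟩ := hv ψ
    rw [Gmap_apply, Linear.comp_smul, hc, smul_smul, hc₀, LinearMap.zero_apply]
    have h : algebraMap A (IsLocalRing.ResidueField A) (b * c) = 0 :=
      (IsLocalRing.residue_eq_zero_iff (b * c)).2 (Ideal.mul_mem_left _ b hcm)
    rw [h, map_zero]
  have h5 : c₀ = 0 := h3 (h4.trans (map_zero _).symm)
  have h6 : f 1 = 0 := by
    have h := hc₀ 1
    rw [one_smul, h5, LinearMap.zero_apply, map_one] at h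
    exact h.symm
  exact one_ne_zero (hf.injective (h6.trans (map_zero f).symm))

include hω hω' hn hn' hf in
/-- two normalized dualizing complexes over a Noetherian local ring are isomorphic -/
theorem nonempty_iso_of_normalized : Nonempty (ω ≅ ω') := by
  obtain ⟨u, hu⟩ := exists_generator_hom ω ω' hω hω' hn hn' E f hf
  obtain ⟨v, hv⟩ := exists_generator_hom ω' ω hω' hω hn' hn E f hf
  obtain ⟨c, hc⟩ := hω.toEnd_bijective.2 (u ≫ v)
  obtain ⟨c', hc'⟩ := hω'.toEnd_bijective.2 (v ≫ u)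
  have hcu := isUnit_of_generators ω ω' hω hω' hn hn' E f hf u hu v hv c hc.symm
  have hcu' := isUnit_of_generators ω' ω hω' hω hn' hn E f hf v hv u hu c' hc'.symm
  obtain ⟨d, hd⟩ := hcu.exists_left_inv
  obtain ⟨d', hd'⟩ := hcu'.exists_left_inv
  have hr : u ≫ (d • v) = 𝟙 ω := by
    rw [Linear.comp_smul, ← hc]
    change d • c • 𝟙 ω = 𝟙 ω
    rw [smul_smul, hd, one_smul]
  have hl : (d' • v) ≫ u = 𝟙 ω' := by
    rw [Linear.smul_comp, ← hc']
    change d' • c' • 𝟙 ω' = 𝟙 ω'
    rw [smul_smul, hd', one_smul]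
  have heq : d' • v = d • v := by
    calc d' • v = (d' • v) ≫ 𝟙 ω := (comp_id _).symm
      _ = (d' • v) ≫ u ≫ (d • v) := by rw [hr]
      _ = ((d' • v) ≫ u) ≫ (d • v) := (assoc _ _ _).symm
      _ = d • v := by rw [hl, id_comp]
  exact ⟨⟨u, d • v, hr, by rw [← heq]; exact hl⟩⟩

end Main

section Final

variable {A : Type u} [CommRing A] [IsLocalRing A] [IsNoetherianRing A]

/-- **S1747**: over a Noetherian local ring, dualizing complexes are unique up to shift -/
theorem dualizing_unique_up_to_shift (ω ω' : Dual.D A) (hω : Dual.IsDualizing A ω)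
    (hω' : Dual.IsDualizing A ω') : ∃ n : ℤ, Nonempty (ω' ≅ ω⟦n⟧) := by
  obtain ⟨E, _, _, f, hf⟩ := Groth.Agent.S0299.result A (IsLocalRing.ResidueField A)
  obtain ⟨n, hn, -⟩ := Groth.Agent.Lib.H6xLoc.exists_normalizing_shift ω hω
  obtain ⟨n', hn', -⟩ := Groth.Agent.Lib.H6xLoc.exists_normalizing_shift ω' hω'
  have h1 := Groth.Agent.Lib.H6xLoc.isDualizing_shift ω hω n
  have h2 := Groth.Agent.Lib.H6xLoc.isDualizing_shift ω' hω' n'
  obtain ⟨i⟩ := nonempty_iso_of_normalized (ω'⟦n'⟧) (ω⟦n⟧) h2 h1 hn' hn E f hf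
  refine ⟨n - n', ⟨?_⟩⟩
  exact ((shiftFunctorCompIsoId (Dual.D A) n' (-n') (by omega)).app ω').symm ≪≫
    (shiftFunctor (Dual.D A) (-n')).mapIso i ≪≫
    ((shiftFunctorAdd' (Dual.D A) n (-n') (n - n') (by omega)).app ω).symm

end Final

end Groth.Agent.Lib.H6xUniq
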