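import Mathlib
import Groth.Agent.Lib.H6xUniqA
import Groth.Agent.Lib.H6xLocP
import Groth.Agent.Lib.H6xLDD
import Groth.Agent.S11179
set_option backward.isDefEq.respectTransparency.types false

/-!
# The Gorenstein locus of a Noetherian ring with a dualizing complex is open (helper6)

`A_p` is Gorenstein iff `ω_p` has a single nonzero cohomology module, free of rank one.
-/

set_option autoImplicit false
set_option linter.style.haveILetI false
universe u

namespace Groth.Agent.Lib.H6xGorLoc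

open CategoryTheory CategoryTheory.Limits DerivedCategory
open Groth.Agent.Lib.Helper1.Extend Groth.Agent.Lib.Helper1.LDer Groth.Agent.Lib.H6xRGam
open Groth.Agent.Lib.H6xDual Groth.Agent.Lib.H6xBid Groth.Agent.Lib.H6xDep Groth.Agent.Lib.H6xLoc
attribute [local instance] HasDerivedCategory.standard

section Local

variable {B : Type u} [CommRing B] [IsLocalRing B] [IsNoetherianRing B]

/-- a Noetherian local ring with a dualizing complex `ω'` is Gorenstein iff `ω'` has a single
nonzero cohomology module, free of rank one -/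
theorem isGorensteinLocalRing_iff_of_dualizing (ω' : Dual.D B) (hω' : Dual.IsDualizing B ω') :
    LocCoh.IsGorensteinLocalRing B ↔
      ∃ j₀ : ℤ, (∀ j : ℤ, j ≠ j₀ → Subsingleton (Dual.HD B ω' j)) ∧
        Nonempty (Dual.HD B ω' j₀ ≃ₗ[B] B) := by
  constructor
  · intro h
    have hB : Dual.IsDualizing B (Dual.inD B B) := (Groth.Agent.S11179.result B).1 h
    obtain ⟨n, ⟨e⟩⟩ := Groth.Agent.Lib.H6xUniq.dualizing_unique_up_to_shift
      (Dual.inD B B) ω' hB hω'
    have e1 : ∀ j : ℤ, Dual.HD B ω' j ≃ₗ[B] Dual.HD B (Dual.inD B B) (n + j) := fun j =>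
      ((DerivedCategory.homologyFunctor (ModuleCat.{u} B) j).mapIso e).toLinearEquiv ≪≫ₗ
        HDShiftEquiv (Dual.inD B B) n j (n + j) rfl
    refine ⟨-n, fun j hj => ?_, ?_⟩
    · haveI := Groth.Agent.Lib.H6xLD.subsingleton_HD_inD (A := B) B (n + j) (by omega)
      exact (e1 j).toEquiv.subsingleton
    · have h0 : n + -n = 0 := by omega
      have e2 := e1 (-n)
      rw [h0] at e2
      exact ⟨e2 ≪≫ₗ Groth.Agent.Lib.H6xLD.HDInDZeroEquiv (A := B) B⟩
  · rintro ⟨j₀, hj, ⟨e0⟩⟩
    obtain ⟨M, ⟨eY⟩, ⟨eM⟩⟩ := exists_iso_single_of_HD ω' j₀ hj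
    let eMB : M ≅ ModuleCat.of B B := (eM ≪≫ₗ e0).toModuleIso
    let σ : (Dual.inD B B)⟦-j₀⟧ ≅
        (DerivedCategory.singleFunctor (ModuleCat.{u} B) j₀).obj (ModuleCat.of B B) :=
      ((DerivedCategory.singleFunctors (ModuleCat.{u} B)).shiftIso (-j₀) j₀ 0 (by omega)).app
        (ModuleCat.of B B)
    let eY' : ω' ≅ (Dual.inD B B)⟦-j₀⟧ :=
      eY ≪≫ (DerivedCategory.singleFunctor (ModuleCat.{u} B) j₀).mapIso eMB ≪≫ σ.symm
    have h1 : Dual.IsDualizing B ((Dual.inD B B)⟦-j₀⟧) := isDualizing_of_iso eY' hω'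
    have h2 : Dual.IsDualizing B (((Dual.inD B B)⟦-j₀⟧)⟦j₀⟧) := isDualizing_shift _ h1 j₀
    have h3 : Dual.IsDualizing B (Dual.inD B B) :=
      isDualizing_of_iso ((shiftFunctorCompIsoId (Dual.D B) (-j₀) j₀ (by omega)).app
        (Dual.inD B B)) h2
    exact (Groth.Agent.S11179.result B).2 h3

end Local

section Main

variable {A : Type u} [CommRing A] [IsNoetherianRing A] (ω : Dual.D A)
  (hω : Dual.IsDualizing A ω)

include hω in
/-- `A_p` is Gorenstein iff `ω_p` has a single nonzero cohomology module, free of rank one -/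
theorem isGorensteinLocalRing_atPrime_iff (p : PrimeSpectrum A) :
    LocCoh.IsGorensteinLocalRing (Localization.AtPrime p.asIdeal) ↔
      ∃ j₀ : ℤ, (∀ j : ℤ, j ≠ j₀ → p ∉ Module.support A (Dual.HD A ω j)) ∧
        p ∈ Module.freeLocus A (Dual.HD A ω j₀) ∧
        Module.rankAtStalk (Dual.HD A ω j₀) p = 1 := by
  have hD := isDualizing_LS p.asIdeal.primeCompl ω hω
  rw [isGorensteinLocalRing_iff_of_dualizing _ hD]
  constructor
  · rintro ⟨j₀, hj, ⟨e0⟩⟩
    refine ⟨j₀, fun j hjj => ?_, ?_, ?_⟩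
    · rw [Module.notMem_support_iff]
      haveI := hj j hjj
      exact (localizedHDEquiv p.asIdeal.primeCompl ω j).toEquiv.subsingleton
    · rw [Module.mem_freeLocus]
      exact Module.Free.of_equiv (localizedHDEquiv p.asIdeal.primeCompl ω j₀ ≪≫ₗ e0).symm
    · change Module.finrank (Localization.AtPrime p.asIdeal)
        (LocalizedModule p.asIdeal.primeCompl (Dual.HD A ω j₀)) = 1
      rw [(localizedHDEquiv p.asIdeal.primeCompl ω j₀ ≪≫ₗ e0).finrank_eq]
      exact Module.finrank_self _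
  · rintro ⟨j₀, hj, hfree, hrank⟩
    refine ⟨j₀, fun j hjj => ?_, ?_⟩
    · have h1 := hj j hjj
      rw [Module.notMem_support_iff] at h1
      exact (localizedHDEquiv p.asIdeal.primeCompl ω j).symm.toEquiv.subsingleton
    · rw [Module.mem_freeLocus] at hfree
      haveI := hfree
      have h1 : Module.finrank (Localization.AtPrime p.asIdeal)
          (LocalizedModule p.asIdeal.primeCompl (Dual.HD A ω j₀)) = 1 := hrank
      obtain ⟨e1⟩ := Module.nonempty_linearEquiv_of_finrank_eq_one h1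
      exact ⟨(localizedHDEquiv p.asIdeal.primeCompl ω j₀).symm ≪≫ₗ e1.symm⟩

include hω in
/-- **S0373**: the Gorenstein locus is open -/
theorem isOpen_gorenstein_locus :
    IsOpen {p : PrimeSpectrum A |
      LocCoh.IsGorensteinLocalRing (Localization.AtPrime p.asIdeal)} := by
  classical
  obtain ⟨a, b, hab⟩ := hbdd_of_hinj ω hω.finite_injective_dimension
  have hfin := hω.finite_cohomology
  rw [isOpen_iff_forall_mem_open]
  intro p hp
  obtain ⟨j₀, hj₀, hfree, hrank⟩ := (isGorensteinLocalRing_atPrime_iff ω hω p).1 hp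
  haveI := hfin j₀
  haveI : Module.FinitePresentation A (Dual.HD A ω j₀) :=
    Module.finitePresentation_of_finite A _
  let V : Set (PrimeSpectrum A) :=
    ⋂ j ∈ (Finset.Icc a b).erase j₀, (Module.support A (Dual.HD A ω j))ᶜ
  let W₀ : Set (Module.freeLocus A (Dual.HD A ω j₀)) :=
    {x | Module.rankAtStalk (Dual.HD A ω j₀) x.1 = 1}
  have hW₀ : IsOpen W₀ :=
    (Module.isLocallyConstant_rankAtStalk_freeLocus (R := A)
      (M := Dual.HD A ω j₀)).isOpen_fiber 1
  let W : Set (PrimeSpectrum A) := Subtype.val '' W₀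
  have hW : IsOpen W :=
    (Module.isOpen_freeLocus (R := A) (M := Dual.HD A ω j₀)).isOpenMap_subtype_val W₀ hW₀
  refine ⟨V ∩ W, ?_, ?_, ?_⟩
  · rintro q ⟨hqV, ⟨⟨q', hq'f⟩, hq'W, rfl⟩⟩
    refine (isGorensteinLocalRing_atPrime_iff ω hω q').2 ⟨j₀, fun j hj => ?_, hq'f, hq'W⟩
    by_cases hjab : j ∈ Finset.Icc a b
    · have h1 : q' ∈ (Module.support A (Dual.HD A ω j))ᶜ :=
        Set.mem_iInter₂.1 hqV j (Finset.mem_erase.2 ⟨hj, hjab⟩)
      exact h1
    · rw [Finset.mem_Icc] at hjab
      haveI := hab j (by omega)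
      rw [Module.notMem_support_iff]
      infer_instance
  · refine IsOpen.inter ?_ hW
    apply Set.Finite.isOpen_biInter (Finset.finite_toSet _)
    intro j _
    haveI := hfin j
    exact (Module.isClosed_support (R := A) (M := Dual.HD A ω j)).isOpen_compl
  · exact ⟨Set.mem_iInter₂.2 (fun j hj => hj₀ j (Finset.mem_erase.1 hj).1),
      ⟨⟨p, hfree⟩, hrank, rfl⟩⟩

end Main

end Groth.Agent.Lib.H6xGorLoc
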