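import Mathlib
import Groth.Agent.Lib.H6xGorLocA
import Groth.Agent.Lib.Helper6BcBridge
import Groth.Agent.Lib.Helper5GorRing
import Groth.Agent.Lib.Helper28PolyCM
import Groth.Agent.Lib.H6xSuppPushD
import Groth.Agent.Lib.Helper20OmegaStalk
import Groth.Agent.Lib.H6xPC3B
import Groth.Prelude.Def_DualSch
set_option backward.isDefEq.respectTransparency.types false

/-!
# Dualizing complexes on schemes: the Gorenstein and Cohen–Macaulay loci are open (helper6)
-/

set_option autoImplicit false
set_option linter.style.haveILetI false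
universe u

namespace Groth.Agent.Lib.H6xDualSch

open CategoryTheory CategoryTheory.Limits AlgebraicGeometry DerivedCategory
open Groth.Agent.Lib.Helper6.BcBridge
attribute [local instance] HasDerivedCategory.standard

section Locus

variable (X : Scheme.{u})
  [∀ (U : Scheme.{u}) (j : U ⟶ X) [IsOpenImmersion j],
    PreservesFiniteLimits (Scheme.Modules.restrictFunctor j)]
  [∀ (R : CommRingCat.{u}), PreservesFiniteLimits (tilde.functor R)]
  (K : DCoh.D X) (hK : Dual2.IsDualizingSch X K)

include hK in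
/-- openness of a locus defined by a ring-theoretic property of the local rings, from the affine
case -/
theorem isOpen_locus_of_affine (P : ∀ (R : Type u) [CommRing R], Prop)
    (hP : ∀ (R S : Type u) [CommRing R] [CommRing S], (R ≃+* S) → P R → P S)
    (hopen : ∀ (A : Type u) [CommRing A] [IsNoetherianRing A] (ω : Dual.D A),
      Dual.IsDualizing A ω → IsOpen {p : PrimeSpectrum A | P (Localization.AtPrime p.asIdeal)}) :
    IsOpen {x : X | P (X.presheaf.stalk x)} := by
  rw [isOpen_iff_forall_mem_open]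
  intro x hx
  obtain ⟨U, hU, hxU, -⟩ := exists_isAffineOpen_mem_and_subset (X := X) (x := x)
    (U := ⊤) trivial
  obtain ⟨ω, hω, -⟩ := hK (Γ(X, U)) hU.fromSpec
  haveI := hω.isNoetherianRing
  have h1 := hopen (Γ(X, U)) ω hω
  refine ⟨hU.fromSpec '' {p | P (Localization.AtPrime p.asIdeal)}, ?_,
    hU.fromSpec.isOpenEmbedding.isOpenMap _ h1, ?_⟩
  · rintro _ ⟨p, hp, rfl⟩
    exact hP _ _ (stalkEquivSpec hU.fromSpec p).symm hp
  · have hx' : x ∈ Set.range hU.fromSpec := by rw [hU.range_fromSpec]; exact hxU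
    obtain ⟨p, rfl⟩ := hx'
    exact ⟨p, hP _ _ (stalkEquivSpec hU.fromSpec p) hx, rfl⟩

include hK in
/-- **S3621**: the Gorenstein locus of a scheme with a dualizing complex is open -/
theorem isOpen_gorensteinLocus :
    IsOpen {x : X | LocCoh.IsGorensteinLocalRing (X.presheaf.stalk x)} :=
  isOpen_locus_of_affine X K hK (fun R _ => LocCoh.IsGorensteinLocalRing R)
    (fun R S _ _ e h => @Groth.Agent.Lib.Helper5.GorRing.gorLocal_of_ringEquiv R S _ _ e h)
    (fun _ _ _ ω hω => Groth.Agent.Lib.H6xGorLoc.isOpen_gorenstein_locus ω hω)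

include hK in
/-- the Cohen–Macaulay locus of a scheme with a dualizing complex is open -/
theorem isOpen_cohenMacaulayLocus :
    IsOpen {x : X | LocCoh.IsCohenMacaulayLocalRing (X.presheaf.stalk x)} :=
  isOpen_locus_of_affine X K hK (fun R _ => LocCoh.IsCohenMacaulayLocalRing R)
    (fun R S _ _ e h => @Groth.Agent.Lib.Helper28.isCohenMacaulayLocalRing_of_ringEquiv R S _ _ e h)
    (fun _ _ _ ω hω => (Groth.Agent.Lib.H6xLoc.isOpen_and_dense_cohenMacaulay_locus ω hω).1)

end Locus

section RingLevel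

variable {A : Type u} [CommRing A] [IsNoetherianRing A] (ω : Dual.D A)
  (hω : Dual.IsDualizing A ω)

include hω in
/-- a dualizing complex is nonzero at every prime -/
theorem exists_mem_support_HD (p : PrimeSpectrum A) :
    ∃ i : ℤ, p ∈ Module.support A (Dual.HD A ω i) := by
  by_contra hcon
  push Not at hcon
  have hD := Groth.Agent.Lib.H6xLoc.isDualizing_LS p.asIdeal.primeCompl ω hω
  have h0 : ∀ i : ℤ, Subsingleton (Dual.HD (Localization p.asIdeal.primeCompl)
      ((Groth.Agent.Lib.H6xLoc.LS p.asIdeal.primeCompl).obj ω) i) := by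
    intro i
    have h1 := hcon i
    rw [Module.notMem_support_iff] at h1
    exact (Groth.Agent.Lib.H6xLoc.localizedHDEquiv p.asIdeal.primeCompl ω i).symm.toEquiv.subsingleton
  obtain ⟨M, ⟨eY⟩, ⟨eM⟩⟩ := Groth.Agent.Lib.H6xDual.exists_iso_single_of_HD _ 0
    (fun i _ => h0 i)
  haveI := h0 0
  haveI : Subsingleton M := eM.toEquiv.subsingleton
  have hz : IsZero ((Groth.Agent.Lib.H6xLoc.LS p.asIdeal.primeCompl).obj ω) :=
    IsZero.of_iso (Functor.map_isZero _ (ModuleCat.isZero_of_subsingleton M)) eY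
  have h2 : (1 : Localization p.asIdeal.primeCompl) = 0 := by
    apply hD.toEnd_bijective.1
    exact hz.eq_of_src _ _
  exact one_ne_zero h2

end RingLevel

section Pointwise

variable (X : Scheme.{u})
  [∀ (U : Scheme.{u}) (j : U ⟶ X) [IsOpenImmersion j],
    PreservesFiniteLimits (Scheme.Modules.restrictFunctor j)]
  [∀ (R : CommRingCat.{u}), PreservesFiniteLimits (tilde.functor R)]
  (K : DCoh.D X)

/-- the stalk of a cohomology sheaf of `K` at a point of an affine chart on which `K` is the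
tilde of `ωA` -/
lemma nontrivial_stalk_HD_iff {A : Type u} [CommRing A] (j : Spec (CommRingCat.of A) ⟶ X)
    [IsOpenImmersion j] (ωA : Dual.D A)
    (e : (DCoh.restrictD j).obj K ≅ (DCoh.tildeD (CommRingCat.of A)).obj ωA)
    (p : PrimeSpectrum A) (i : ℤ) :
    Nontrivial ((DCoh.HD K i).presheaf.stalk (j p)) ↔
      p ∈ Module.support A (Dual.HD A ωA i) := by
  rw [← not_subsingleton_iff_nontrivial]
  have h1 := Groth.Agent.Lib.H6xSuppPush.mem_support_HD_restrictD_iff j K i p
  have h2 : CohB1.support (DCoh.HD ((DCoh.restrictD j).obj K) i) =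
      CohB1.support (DCoh.HD ((DCoh.tildeD (CommRingCat.of A)).obj ωA) i) :=
    Groth.Agent.Lib.H6xSuppPush.support_eq_of_iso
      ((DerivedCategory.homologyFunctor _ i).mapIso e)
  have h3 : CohB1.support (DCoh.HD ((DCoh.tildeD (CommRingCat.of A)).obj ωA) i) =
      CohB1.support (tilde ((DerivedCategory.homologyFunctor
        (ModuleCat.{u} (CommRingCat.of A)) i).obj ωA)) :=
    Groth.Agent.Lib.H6xSuppPush.support_eq_of_iso
      ((Groth.Agent.Lib.H6xPC3.mapDerivedCategoryHomologyIso
        (tilde.functor (CommRingCat.of A)) i).app ωA)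
  rw [h2, h3] at h1
  have h4 : ¬ Subsingleton ((DCoh.HD K i).presheaf.stalk (j p)) ↔
      ¬ Subsingleton ((tilde ((DerivedCategory.homologyFunctor
        (ModuleCat.{u} (CommRingCat.of A)) i).obj ωA)).presheaf.stalk p) := h1.symm
  rw [h4, Groth.Agent.Lib.Helper20.OmegaStalk.subsingleton_stalk_tilde,
    ← Module.notMem_support_iff, not_not]

variable (hK : Dual2.IsDualizingSch X K)

include hK in
/-- `O_{X,x}` is Cohen–Macaulay iff exactly one cohomology sheaf of the dualizing complex has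
nonzero stalk at `x` -/
theorem isCohenMacaulayLocalRing_stalk_iff (x : X) :
    LocCoh.IsCohenMacaulayLocalRing (X.presheaf.stalk x) ↔
      ∃! i : ℤ, Nontrivial ((DCoh.HD K i).presheaf.stalk x) := by
  obtain ⟨U, hU, hxU, -⟩ := exists_isAffineOpen_mem_and_subset (X := X) (x := x)
    (U := ⊤) trivial
  obtain ⟨ω, hω, ⟨e⟩⟩ := hK (Γ(X, U)) hU.fromSpec
  haveI := hω.isNoetherianRing
  have hx' : x ∈ Set.range hU.fromSpec := by rw [hU.range_fromSpec]; exact hxU
  obtain ⟨p, rfl⟩ := hx'
  have hst : ∀ i : ℤ, Nontrivial ((DCoh.HD K i).presheaf.stalk (hU.fromSpec p)) ↔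
      p ∈ Module.support Γ(X, U) (Dual.HD Γ(X, U) ω i) :=
    fun i => nontrivial_stalk_HD_iff X K hU.fromSpec ω e p i
  have hcm : LocCoh.IsCohenMacaulayLocalRing (X.presheaf.stalk (hU.fromSpec p)) ↔
      LocCoh.IsCohenMacaulayLocalRing (Localization.AtPrime p.asIdeal) :=
    ⟨fun h => @Groth.Agent.Lib.Helper28.isCohenMacaulayLocalRing_of_ringEquiv _ _ _ _
      (stalkEquivSpec hU.fromSpec p) h,
     fun h => @Groth.Agent.Lib.Helper28.isCohenMacaulayLocalRing_of_ringEquiv _ _ _ _
      (stalkEquivSpec hU.fromSpec p).symm h⟩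
  rw [hcm, Groth.Agent.Lib.H6xLoc.isCohenMacaulayLocalRing_atPrime_iff ω hω p]
  obtain ⟨i₀, hi₀⟩ := exists_mem_support_HD ω hω p
  constructor
  · rintro ⟨j₀, hj₀⟩
    have hij : i₀ = j₀ := by
      by_contra hne
      exact hj₀ i₀ hne hi₀
    subst hij
    refine ⟨i₀, (hst i₀).2 hi₀, fun i hi => ?_⟩
    by_contra hne
    exact hj₀ i hne ((hst i).1 hi)
  · rintro ⟨j₀, -, hj₀⟩
    refine ⟨j₀, fun i hi hmem => hi (hj₀ i ((hst i).2 hmem))⟩

end Pointwise

end Groth.Agent.Lib.H6xDualSch
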