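import Mathlib
import Groth.Agent.Lib.H6xDualSchA
set_option backward.isDefEq.respectTransparency.types false

/-!
# A scheme with a dualizing module is Cohen–Macaulay (helper6)
-/

set_option autoImplicit false
set_option linter.style.haveILetI false
universe u

namespace Groth.Agent.Lib.H6xDualSch

open CategoryTheory CategoryTheory.Limits AlgebraicGeometry DerivedCategory
open Groth.Agent.Lib.Helper6.BcBridge
attribute [local instance] HasDerivedCategory.standard

variable (X : Scheme.{u})
  [∀ (U : Scheme.{u}) (j : U ⟶ X) [IsOpenImmersion j],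
    PreservesFiniteLimits (Scheme.Modules.restrictFunctor j)]
  [∀ (R : CommRingCat.{u}), PreservesFiniteLimits (tilde.functor R)]
  (K : DCoh.D X) (hK : Dual2.IsDualizingSch X K)

include hK in
/-- a dualizing complex has a nonzero cohomology stalk at every point -/
theorem exists_nontrivial_stalk_HD (x : X) :
    ∃ i : ℤ, Nontrivial ((DCoh.HD K i).presheaf.stalk x) := by
  obtain ⟨U, hU, hxU, -⟩ := exists_isAffineOpen_mem_and_subset (X := X) (x := x)
    (U := ⊤) trivial
  obtain ⟨ω, hω, ⟨e⟩⟩ := hK (Γ(X, U)) hU.fromSpec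
  haveI := hω.isNoetherianRing
  have hx' : x ∈ Set.range hU.fromSpec := by rw [hU.range_fromSpec]; exact hxU
  obtain ⟨p, rfl⟩ := hx'
  obtain ⟨i₀, hi₀⟩ := exists_mem_support_HD ω hω p
  exact ⟨i₀, (nontrivial_stalk_HD_iff X K hU.fromSpec ω e p i₀).2 hi₀⟩

/-- stalks of a zero module vanish -/
lemma subsingleton_stalk_of_isZero (M : X.Modules) (hM : IsZero M) (x : X) :
    Subsingleton (M.presheaf.stalk x) := by
  have h := (Scheme.Modules.toPresheaf X ⋙ TopCat.Presheaf.stalkFunctor _ x).map_isZero hM
  exact AddCommGrpCat.subsingleton_of_isZero h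

/-- **S3675**: if a module placed in degree `0` is a dualizing complex on `X`, then `X` is
Cohen–Macaulay -/
theorem isCohenMacaulayLocalRing_of_dualizing_module (ω : X.Modules)
    (hD : Dual2.IsDualizingSch X (DCoh.inD X ω)) (x : X) :
    LocCoh.IsCohenMacaulayLocalRing (X.presheaf.stalk x) := by
  rw [isCohenMacaulayLocalRing_stalk_iff X _ hD x]
  have h0 : ∀ i : ℤ, i ≠ 0 → ¬ Nontrivial ((DCoh.HD (DCoh.inD X ω) i).presheaf.stalk x) := by
    intro i hi
    have hz : IsZero (DCoh.HD (DCoh.inD X ω) i) := by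
      rcases lt_or_gt_of_ne hi with h | h
      · exact isZero_of_isGE _ 0 i h
      · exact isZero_of_isLE _ 0 i h
    haveI := subsingleton_stalk_of_isZero X _ hz x
    exact not_nontrivial _
  obtain ⟨i₀, hi₀⟩ := exists_nontrivial_stalk_HD X _ hD x
  have hi₀0 : i₀ = 0 := by
    by_contra hne
    exact h0 i₀ hne hi₀
  subst hi₀0
  refine ⟨0, hi₀, fun i hi => ?_⟩
  by_contra hne
  exact h0 i hne hi

end Groth.Agent.Lib.H6xDualSch
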