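import Mathlib
import Groth.Agent.Lib.H6xDualSchB
import Groth.Agent.Lib.H6xLocN
import Groth.Agent.Lib.H6xLocI
import Groth.Prelude.Def_Dual3
set_option backward.isDefEq.respectTransparency.types false

/-!
# On a Gorenstein scheme with a dualizing complex, the structure sheaf is dualizing (helper6)
-/

set_option autoImplicit false
set_option linter.style.haveILetI false
universe u

namespace Groth.Agent.Lib.H6xDualSch

open CategoryTheory CategoryTheory.Limits AlgebraicGeometry DerivedCategory
open Groth.Agent.Lib.Helper6.BcBridge Groth.Agent.Lib.H6xLoc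
  Groth.Agent.Lib.Helper1.Extend
attribute [local instance] HasDerivedCategory.standard

section RingLevel

variable {A : Type u} [CommRing A] [IsNoetherianRing A]

/-- the localization of `A[0]` is `A_p[0]` -/
noncomputable def LpSelfIso (p : Ideal A) [p.IsPrime] :
    (Lp p).obj (Dual.inD A A) ≅ Dual.inD (Localization.AtPrime p) (Localization.AtPrime p) :=
  extDInDIso (A := A) (B := Localization.AtPrime p) A ≪≫
    (DerivedCategory.singleFunctor (ModuleCat.{u} (Localization.AtPrime p)) 0).mapIso
      (Algebra.TensorProduct.rid A (Localization.AtPrime p)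
        (Localization.AtPrime p)).toLinearEquiv.toModuleIso

/-- a Noetherian ring of finite Krull dimension all of whose local rings are Gorenstein has
`A[0]` as a dualizing complex -/
theorem isDualizing_self_of_gorenstein (hdim : ringKrullDim A < ⊤)
    (hG : ∀ (p : Ideal A) [p.IsPrime], LocCoh.IsGorensteinLocalRing (Localization.AtPrime p)) :
    Dual.IsDualizing A (Dual.inD A A) := by
  have hloc : ∀ (p : Ideal A) [p.IsPrime],
      Dual.IsDualizing (Localization.AtPrime p) ((Lp p).obj (Dual.inD A A)) := by
    intro p _
    have h1 : Dual.IsDualizing (Localization.AtPrime p)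
        (Dual.inD (Localization.AtPrime p) (Localization.AtPrime p)) :=
      (Groth.Agent.S11179.result (Localization.AtPrime p)).1 (hG p)
    exact Groth.Agent.Lib.H6xBid.isDualizing_of_iso (LpSelfIso p).symm h1
  refine isDualizing_of_pointwise (Dual.inD A A) hloc hdim (fun i => ?_) ⟨0, fun j hj => ?_⟩
  · by_cases hi : i = 0
    · subst hi
      exact Module.Finite.equiv (Groth.Agent.Lib.H6xLD.HDInDZeroEquiv (A := A) A).symm
    · haveI := Groth.Agent.Lib.H6xLD.subsingleton_HD_inD (A := A) A i hi
      infer_instance
  · exact Groth.Agent.Lib.H6xLD.subsingleton_HD_inD (A := A) A j (by omega)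

end RingLevel

section Sch

variable (X : Scheme.{u})
  [∀ (U : Scheme.{u}) (j : U ⟶ X) [IsOpenImmersion j],
    PreservesFiniteLimits (Scheme.Modules.restrictFunctor j)]
  [∀ (R : CommRingCat.{u}), PreservesFiniteLimits (tilde.functor R)]

/-- the restriction of `O_X[0]` to an affine chart is the tilde of `A[0]` -/
noncomputable def restrictInDStructureIso {A : Type u} [CommRing A]
    (j : Spec (CommRingCat.of A) ⟶ X) [IsOpenImmersion j] :
    (DCoh.restrictD j).obj (DCoh.inD X (Coh.structureModule X)) ≅
      (DCoh.tildeD (CommRingCat.of A)).obj (Dual.inD A A) :=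
  ((Scheme.Modules.restrictFunctor j).mapDerivedCategorySingleFunctor 0).app
      (Coh.structureModule X) ≪≫
    (DerivedCategory.singleFunctor _ 0).mapIso (Scheme.Modules.restrictUnitIso j) ≪≫
    (((tilde.functor (CommRingCat.of A)).mapDerivedCategorySingleFunctor 0).app
      (ModuleCat.of A A)).symm

/-- **S3622** -/
theorem gorenstein_hasDualizing_iff (hX : Dual3.IsGorenstein X) :
    (∃ K : DCoh.D X, Dual2.IsDualizingSch X K) ↔
      Dual2.IsDualizingSch X (DCoh.inD X (Coh.structureModule X)) := by
  constructor
  · rintro ⟨K, hK⟩ A _ j _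
    obtain ⟨ω, hω, -⟩ := hK A j
    haveI := hω.isNoetherianRing
    refine ⟨Dual.inD A A, ?_, ⟨restrictInDStructureIso X j⟩⟩
    refine isDualizing_self_of_gorenstein (ringKrullDim_lt_top_of_dualizing ω hω) ?_
    intro p _
    have h1 := hX.2 (j (⟨p, inferInstance⟩ : PrimeSpectrum A))
    exact @Groth.Agent.Lib.Helper5.GorRing.gorLocal_of_ringEquiv _ _ _ _
      (stalkEquivSpec j (⟨p, inferInstance⟩ : PrimeSpectrum A)) h1
  · intro h
    exact ⟨_, h⟩

end Sch

end Groth.Agent.Lib.H6xDualSch
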