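import Mathlib
import Groth.Agent.Lib.H6xDualSchC
import Groth.Agent.Lib.Helper20OmegaAff
import Groth.Agent.Lib.H6xTildeE
set_option backward.isDefEq.respectTransparency.types false

/-!
# Objectwise composition isomorphisms for `mapDerivedCategory`; restriction of `tildeD` to a
basic open (helper6)
-/

set_option autoImplicit false
set_option linter.style.haveILetI false
universe w₁ w₂ w₂' w₃ v₁ v₂ v₂' v₃ u₁ u₂ u₂' u₃ u

namespace Groth.Agent.Lib.H6xDualSch

open CategoryTheory CategoryTheory.Limits AlgebraicGeometry DerivedCategory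

section Abstract

variable {C₁ : Type u₁} [Category.{v₁} C₁] [Abelian C₁] [HasDerivedCategory.{w₁} C₁]
  {C₂ : Type u₂} [Category.{v₂} C₂] [Abelian C₂] [HasDerivedCategory.{w₂} C₂]
  {C₂' : Type u₂'} [Category.{v₂'} C₂'] [Abelian C₂'] [HasDerivedCategory.{w₂'} C₂']
  {C₃ : Type u₃} [Category.{v₃} C₃] [Abelian C₃] [HasDerivedCategory.{w₃} C₃]
  (F : C₁ ⥤ C₂) [F.Additive] [PreservesFiniteLimits F] [PreservesFiniteColimits F]
  (G : C₂ ⥤ C₃) [G.Additive] [PreservesFiniteLimits G] [PreservesFiniteColimits G]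
  (F' : C₁ ⥤ C₂') [F'.Additive] [PreservesFiniteLimits F'] [PreservesFiniteColimits F']
  (G' : C₂' ⥤ C₃) [G'.Additive] [PreservesFiniteLimits G'] [PreservesFiniteColimits G']
  (H : C₁ ⥤ C₃) [H.Additive] [PreservesFiniteLimits H] [PreservesFiniteColimits H]

/-- the composite of two derived exact functors on a complex -/
noncomputable def compObjIso (K₀ : CochainComplex C₁ ℤ) :
    G.mapDerivedCategory.obj (F.mapDerivedCategory.obj (Q.obj K₀)) ≅
      Q.obj ((G.mapHomologicalComplex (ComplexShape.up ℤ)).obj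
        ((F.mapHomologicalComplex (ComplexShape.up ℤ)).obj K₀)) :=
  G.mapDerivedCategory.mapIso (F.mapDerivedCategoryFactors.app K₀) ≪≫
    G.mapDerivedCategoryFactors.app _

/-- `H ≅ F ⋙ G` gives `H K ≅ G (F K)` on derived categories -/
noncomputable def triObjIso (e : H ≅ F ⋙ G) (K : DerivedCategory C₁) :
    H.mapDerivedCategory.obj K ≅ G.mapDerivedCategory.obj (F.mapDerivedCategory.obj K) :=
  H.mapDerivedCategory.mapIso (Q.objObjPreimageIso K).symm ≪≫
    H.mapDerivedCategoryFactors.app (Q.objPreimage K) ≪≫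
    Q.mapIso (((Functor.mapHomologicalComplexCompIso e.symm (ComplexShape.up ℤ)).app
      (Q.objPreimage K)).symm) ≪≫
    (compObjIso F G (Q.objPreimage K)).symm ≪≫
    G.mapDerivedCategory.mapIso (F.mapDerivedCategory.mapIso (Q.objObjPreimageIso K))

/-- `F ⋙ G ≅ F' ⋙ G'` gives `G (F K) ≅ G' (F' K)` on derived categories -/
noncomputable def squareObjIso (e : F ⋙ G ≅ F' ⋙ G') (K : DerivedCategory C₁) :
    G.mapDerivedCategory.obj (F.mapDerivedCategory.obj K) ≅
      G'.mapDerivedCategory.obj (F'.mapDerivedCategory.obj K) :=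
  G.mapDerivedCategory.mapIso (F.mapDerivedCategory.mapIso (Q.objObjPreimageIso K).symm) ≪≫
    compObjIso F G (Q.objPreimage K) ≪≫
    Q.mapIso ((Functor.mapHomologicalComplexCompIso e (ComplexShape.up ℤ)).app (Q.objPreimage K) ≪≫
      ((Functor.mapHomologicalComplexCompIso (Iso.refl (F' ⋙ G')) (ComplexShape.up ℤ)).app
        (Q.objPreimage K)).symm) ≪≫
    (compObjIso F' G' (Q.objPreimage K)).symm ≪≫
    G'.mapDerivedCategory.mapIso (F'.mapDerivedCategory.mapIso (Q.objObjPreimageIso K))

variable (E : C₁ ⥤ C₁) [E.Additive] [PreservesFiniteLimits E] [PreservesFiniteColimits E]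

/-- `E ≅ 𝟭` gives `E K ≅ K` on derived categories -/
noncomputable def idObjIso (e : E ≅ 𝟭 C₁) (K : DerivedCategory C₁) :
    E.mapDerivedCategory.obj K ≅ K :=
  E.mapDerivedCategory.mapIso (Q.objObjPreimageIso K).symm ≪≫
    E.mapDerivedCategoryFactors.app (Q.objPreimage K) ≪≫
    Q.mapIso ((NatIso.mapHomologicalComplex e (ComplexShape.up ℤ)).app (Q.objPreimage K) ≪≫
      (Functor.mapHomologicalComplexIdIso C₁ (ComplexShape.up ℤ)).app (Q.objPreimage K)) ≪≫
    Q.objObjPreimageIso K

end Abstract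

section Concrete

attribute [local instance] HasDerivedCategory.standard

variable
  [∀ (U V : Scheme.{u}) (j : U ⟶ V) [IsOpenImmersion j],
    PreservesFiniteLimits (Scheme.Modules.restrictFunctor j)]
  [∀ (R : CommRingCat.{u}), PreservesFiniteLimits (tilde.functor R)]

/-- restriction to opens is pseudo-functorial (objectwise) -/
noncomputable def restrictDCompObjIso {Z Y X : Scheme.{u}} (g : Z ⟶ Y) (h : Y ⟶ X) (f : Z ⟶ X)
    [IsOpenImmersion g] [IsOpenImmersion h] [IsOpenImmersion f] (hf : f = g ≫ h)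
    (K : DCoh.D X) :
    (DCoh.restrictD f).obj K ≅ (DCoh.restrictD g).obj ((DCoh.restrictD h).obj K) :=
  triObjIso (Scheme.Modules.restrictFunctor h) (Scheme.Modules.restrictFunctor g)
    (Scheme.Modules.restrictFunctor f)
    (Scheme.Modules.restrictFunctorCongr hf ≪≫ Scheme.Modules.restrictFunctorComp g h) K

/-- restriction along an isomorphism followed by restriction along its inverse (objectwise) -/
noncomputable def restrictDInvHomObjIso {Z Y : Scheme.{u}} (θ : Z ≅ Y) (K : DCoh.D Y) :
    (DCoh.restrictD θ.inv).obj ((DCoh.restrictD θ.hom).obj K) ≅ K :=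
  (restrictDCompObjIso θ.inv θ.hom (𝟙 Y) θ.inv_hom_id.symm K).symm ≪≫
    idObjIso (Scheme.Modules.restrictFunctor (𝟙 Y)) Scheme.Modules.restrictFunctorId K

/-- the restriction of `M~` along `Spec B ⟶ Spec A` (an open immersion) is `(B ⊗ M)~`, on
derived categories -/
noncomputable def restrictDTildeDIso {A B : Type u} [CommRing A] [CommRing B] [Algebra A B]
    [Module.Flat A B] [IsOpenImmersion (Spec.map (CommRingCat.ofHom (algebraMap A B)))]
    (K : Dual.D A) :
    (DCoh.restrictD (Spec.map (CommRingCat.ofHom (algebraMap A B)))).obj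
        ((DCoh.tildeD (CommRingCat.of A)).obj K) ≅
      (DCoh.tildeD (CommRingCat.of B)).obj
        ((Groth.Agent.Lib.Helper1.Extend.extD A B).obj K) :=
  squareObjIso (tilde.functor (CommRingCat.of A))
    (Scheme.Modules.restrictFunctor (Spec.map (CommRingCat.ofHom (algebraMap A B))))
    (Groth.Agent.Lib.Helper1.Extend.ext A B) (tilde.functor (CommRingCat.of B))
    (Functor.isoWhiskerLeft _ (Scheme.Modules.restrictFunctorIsoPullback
        (Spec.map (CommRingCat.ofHom (algebraMap A B)))) ≪≫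
      Groth.Agent.Lib.Helper20.OmegaAff.pullbackTildeIso (CommRingCat.ofHom (algebraMap A B))) K

end Concrete

end Groth.Agent.Lib.H6xDualSch
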