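import Mathlib
import Groth.Agent.Lib.H6xDualSchD
set_option backward.isDefEq.respectTransparency.types false

/-!
# Ring-level lemmas for "Gorenstein iff the dualizing complex is invertible" (helper6)
-/

set_option autoImplicit false
set_option linter.style.haveILetI false
universe u

namespace Groth.Agent.Lib.H6xDualSch

open CategoryTheory CategoryTheory.Limits AlgebraicGeometry DerivedCategory
open Groth.Agent.Lib.H6xLoc Groth.Agent.Lib.Helper1.Extend Groth.Agent.Lib.H6xDual
  Groth.Agent.Lib.H6xBid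
attribute [local instance] HasDerivedCategory.standard

section R0

variable {B : Type u} [CommRing B]

/-- an object of `D(B)` whose only cohomology module is `B` in degree `j₀` is `B[-j₀]` -/
theorem nonempty_iso_shift_self_of_HD (Y : Dual.D B) (j₀ : ℤ)
    (h0 : ∀ j : ℤ, j ≠ j₀ → Subsingleton (Dual.HD B Y j))
    (e0 : Dual.HD B Y j₀ ≃ₗ[B] B) : Nonempty (Y ≅ (Dual.inD B B)⟦-j₀⟧) := by
  obtain ⟨M, ⟨eY⟩, ⟨eM⟩⟩ := exists_iso_single_of_HD Y j₀ h0
  let eMB : M ≅ ModuleCat.of B B := (eM ≪≫ₗ e0).toModuleIso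
  let σ : (Dual.inD B B)⟦-j₀⟧ ≅
      (DerivedCategory.singleFunctor (ModuleCat.{u} B) j₀).obj (ModuleCat.of B B) :=
    ((DerivedCategory.singleFunctors (ModuleCat.{u} B)).shiftIso (-j₀) j₀ 0 (by omega)).app
      (ModuleCat.of B B)
  exact ⟨eY ≪≫ (DerivedCategory.singleFunctor (ModuleCat.{u} B) j₀).mapIso eMB ≪≫ σ.symm⟩

/-- the cohomology of `B[n]` -/
noncomputable def HDShiftSelfEquiv (n j : ℤ) :
    Dual.HD B ((Dual.inD B B)⟦n⟧) j ≃ₗ[B] Dual.HD B (Dual.inD B B) (n + j) :=
  HDShiftEquiv (Dual.inD B B) n j (n + j) rfl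

end R0

section R1

variable {A : Type u} [CommRing A] [IsNoetherianRing A] (ω : Dual.D A)
  (hω : Dual.IsDualizing A ω)

include hω in
/-- if `ω` has cohomology only in degree `j₀` and `A_p` is Gorenstein, then `ω_r ≅ A_r[-j₀]` for
some `r ∉ p` -/
theorem exists_away_iso_shift (j₀ : ℤ) (h0 : ∀ j : ℤ, j ≠ j₀ → Subsingleton (Dual.HD A ω j))
    (p : PrimeSpectrum A)
    (hG : LocCoh.IsGorensteinLocalRing (Localization.AtPrime p.asIdeal)) :
    ∃ r : A, r ∉ p.asIdeal ∧
      Nonempty ((LS (Submonoid.powers r)).obj ω ≅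
        (Dual.inD (Localization.Away r) (Localization.Away r))⟦-j₀⟧) := by
  have hD := isDualizing_LS p.asIdeal.primeCompl ω hω
  obtain ⟨j₁, hj₁, ⟨e1⟩⟩ :=
    (Groth.Agent.Lib.H6xGorLoc.isGorensteinLocalRing_iff_of_dualizing _ hD).1 hG
  have hj : j₁ = j₀ := by
    by_contra hne
    haveI := h0 j₁ hne
    haveI : Subsingleton (Dual.HD (Localization p.asIdeal.primeCompl)
        ((LS p.asIdeal.primeCompl).obj ω) j₁) :=
      (localizedHDEquiv p.asIdeal.primeCompl ω j₁).symm.toEquiv.subsingleton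
    haveI : Subsingleton (Localization.AtPrime p.asIdeal) := e1.symm.toEquiv.subsingleton
    exact not_subsingleton (Localization.AtPrime p.asIdeal) inferInstance
  subst hj
  haveI := hω.finite_cohomology j₁
  haveI : Module.FinitePresentation A (Dual.HD A ω j₁) :=
    Module.finitePresentation_of_finite A _
  let l : LocalizedModule p.asIdeal.primeCompl (Dual.HD A ω j₁) ≃ₗ[A]
      Localization.AtPrime p.asIdeal :=
    (localizedHDEquiv p.asIdeal.primeCompl ω j₁ ≪≫ₗ e1).restrictScalars A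
  obtain ⟨r, hr, l', -⟩ := Module.FinitePresentation.exists_lift_equiv_of_isLocalizedModule
    p.asIdeal.primeCompl
    (LocalizedModule.mkLinearMap p.asIdeal.primeCompl (Dual.HD A ω j₁))
    (Algebra.linearMap A (Localization.AtPrime p.asIdeal)) l
  refine ⟨r, hr, ?_⟩
  let l2 : LocalizedModule.Away r A ≃ₗ[Localization.Away r] Localization.Away r :=
    (IsLocalizedModule.iso (Submonoid.powers r)
      (Algebra.linearMap A (Localization.Away r))).extendScalarsOfIsLocalization
      (Submonoid.powers r) (Localization.Away r)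
  refine nonempty_iso_shift_self_of_HD _ j₁ (fun j hj => ?_)
    ((localizedHDEquiv (Submonoid.powers r) ω j₁).symm ≪≫ₗ l' ≪≫ₗ l2)
  haveI := h0 j hj
  exact (localizedHDEquiv (Submonoid.powers r) ω j).symm.toEquiv.subsingleton

include hω in
/-- if `ω ≅ A[n]` then every local ring of `A` is Gorenstein -/
theorem isGorensteinLocalRing_atPrime_of_iso_shift (n : ℤ) (e : ω ≅ (Dual.inD A A)⟦n⟧)
    (p : PrimeSpectrum A) :
    LocCoh.IsGorensteinLocalRing (Localization.AtPrime p.asIdeal) := by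
  have e1 : ∀ j : ℤ, Dual.HD A ω j ≃ₗ[A] Dual.HD A (Dual.inD A A) (n + j) := fun j =>
    ((DerivedCategory.homologyFunctor (ModuleCat.{u} A) j).mapIso e).toLinearEquiv ≪≫ₗ
      HDShiftSelfEquiv n j
  rw [Groth.Agent.Lib.H6xGorLoc.isGorensteinLocalRing_atPrime_iff ω hω p]
  refine ⟨-n, fun j hj => ?_, ?_, ?_⟩
  · haveI := Groth.Agent.Lib.H6xLD.subsingleton_HD_inD (A := A) A (n + j) (by omega)
    haveI : Subsingleton (Dual.HD A ω j) := (e1 j).toEquiv.subsingleton
    rw [Module.notMem_support_iff]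
    infer_instance
  all_goals
    have h0 : n + -n = 0 := by omega
    have e2 := e1 (-n)
    rw [h0] at e2
    have e3 : Dual.HD A ω (-n) ≃ₗ[A] A :=
      e2 ≪≫ₗ Groth.Agent.Lib.H6xLD.HDInDZeroEquiv (A := A) A
    haveI : Nontrivial A := by
      haveI := p.isPrime
      exact (Ideal.ne_top_iff_exists_maximal.1 p.isPrime.ne_top).elim fun m _ =>
        ⟨⟨0, 1, fun h => p.isPrime.ne_top ((Ideal.eq_top_iff_one _).2 (by
          rw [← h]; exact zero_mem _))⟩⟩
  · haveI : Module.Free A (Dual.HD A ω (-n)) := Module.Free.of_equiv e3.symm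
    haveI : Module.Finite A (Dual.HD A ω (-n)) := Module.Finite.equiv e3.symm
    rw [Module.freeLocus_eq_univ]
    trivial
  · rw [Module.rankAtStalk_eq_of_equiv e3]
    exact congrFun Module.rankAtStalk_self p

end R1

end Groth.Agent.Lib.H6xDualSch
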