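import Mathlib
import Groth.Agent.Lib.H6xDualSchE
set_option backward.isDefEq.respectTransparency.types false

/-!
# A scheme with a dualizing complex `K` is Gorenstein iff `K` is invertible (helper6)
-/

set_option autoImplicit false
set_option linter.style.haveILetI false
universe u

namespace Groth.Agent.Lib.H6xDualSch

open CategoryTheory CategoryTheory.Limits AlgebraicGeometry DerivedCategory
open Groth.Agent.Lib.H6xLoc Groth.Agent.Lib.Helper1.Extend Groth.Agent.Lib.H6xDual
  Groth.Agent.Lib.H6xBid Groth.Agent.Lib.Helper6.BcBridge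
attribute [local instance] HasDerivedCategory.standard

variable (X : Scheme.{u}) [IsLocallyNoetherian X]
  [∀ (U V : Scheme.{u}) (j : U ⟶ V) [IsOpenImmersion j],
    PreservesFiniteLimits (Scheme.Modules.restrictFunctor j)]
  [∀ (R : CommRingCat.{u}), PreservesFiniteLimits (tilde.functor R)]
  (K : DCoh.D X) (hK : Dual2.IsDualizingSch X K)

/-- the restriction of `O_X[0]` to an open is `O_U[0]` -/
noncomputable def restrictInDStructureOpensIso {Z : Scheme.{u}} (g : Z ⟶ X) [IsOpenImmersion g] :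
    (DCoh.restrictD g).obj (DCoh.inD X (Coh.structureModule X)) ≅
      DCoh.inD Z (Coh.structureModule Z) :=
  ((Scheme.Modules.restrictFunctor g).mapDerivedCategorySingleFunctor 0).app
      (Coh.structureModule X) ≪≫
    (DerivedCategory.singleFunctor _ 0).mapIso (Scheme.Modules.restrictUnitIso g)

include hK in
theorem isGorenstein_of_isInvertibleD (hinv : Dual3.IsInvertibleD K) : Dual3.IsGorenstein X := by
  refine ⟨inferInstance, fun x => ?_⟩
  obtain ⟨U, n, hxU, ⟨e⟩⟩ := hinv x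
  obtain ⟨V, hV, hxV, hVU⟩ := exists_isAffineOpen_mem_and_subset (X := X) (x := x) (U := U) hxU
  obtain ⟨ω, hω, ⟨eω⟩⟩ := hK (Γ(X, V)) hV.fromSpec
  haveI := hω.isNoetherianRing
  have hrange : Set.range hV.fromSpec ⊆ Set.range U.ι := by
    rw [hV.range_fromSpec, Scheme.Opens.range_ι]
    exact hVU
  let g : Spec Γ(X, V) ⟶ (U : Scheme.{u}) := IsOpenImmersion.lift U.ι hV.fromSpec hrange
  have hg : hV.fromSpec = g ≫ U.ι := (IsOpenImmersion.lift_fac _ _ _).symm
  haveI : IsOpenImmersion (g ≫ U.ι) := by rw [← hg]; infer_instance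
  haveI : IsOpenImmersion g := IsOpenImmersion.of_comp g U.ι
  let c1 := restrictDCompObjIso g U.ι hV.fromSpec hg K
  let c2 := (DCoh.restrictD g).mapIso e
  let c3 := ((DCoh.restrictD g).commShiftIso n).app
    (DCoh.inD (U : Scheme.{u}) (Coh.structureModule (U : Scheme.{u})))
  let c4 := (shiftFunctor (DCoh.D (Spec Γ(X, V))) n).mapIso
    (restrictInDStructureIso (U : Scheme.{u}) (A := Γ(X, V)) g)
  let c5 := (((DCoh.tildeD (CommRingCat.of Γ(X, V))).commShiftIso n).app
    (Dual.inD Γ(X, V) Γ(X, V))).symm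
  let tot := eω.symm ≪≫ c1 ≪≫ c2 ≪≫ c3 ≪≫ c4 ≪≫ c5
  obtain ⟨hfull, hfaith, -⟩ := Groth.Agent.Lib.H6xTilde.main (CommRingCat.of Γ(X, V))
  haveI := hfull
  haveI := hfaith
  let eB : ω ≅ (Dual.inD Γ(X, V) Γ(X, V))⟦n⟧ :=
    (DCoh.tildeD (CommRingCat.of Γ(X, V))).preimageIso tot
  have hx' : x ∈ Set.range hV.fromSpec := by rw [hV.range_fromSpec]; exact hxV
  obtain ⟨p, rfl⟩ := hx'
  have h1 := isGorensteinLocalRing_atPrime_of_iso_shift ω hω n eB p
  exact @Groth.Agent.Lib.Helper5.GorRing.gorLocal_of_ringEquiv _ _ _ _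
    (stalkEquivSpec hV.fromSpec p).symm h1

include hK in
theorem isInvertibleD_of_isGorenstein (hX : Dual3.IsGorenstein X) : Dual3.IsInvertibleD K := by
  classical
  intro x
  -- Step A: an open neighbourhood on which the cohomology sheaves live in one degree
  obtain ⟨V, hV, hxV, -⟩ := exists_isAffineOpen_mem_and_subset (X := X) (x := x)
    (U := ⊤) trivial
  obtain ⟨ω, hω, ⟨eω⟩⟩ := hK (Γ(X, V)) hV.fromSpec
  haveI := hω.isNoetherianRing
  have hx' : x ∈ Set.range hV.fromSpec := by rw [hV.range_fromSpec]; exact hxV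
  obtain ⟨p, rfl⟩ := hx'
  have hGp : LocCoh.IsGorensteinLocalRing (Localization.AtPrime p.asIdeal) :=
    @Groth.Agent.Lib.Helper5.GorRing.gorLocal_of_ringEquiv _ _ _ _
      (stalkEquivSpec hV.fromSpec p) (hX.2 _)
  obtain ⟨j₀, hj₀, -, -⟩ :=
    (Groth.Agent.Lib.H6xGorLoc.isGorensteinLocalRing_atPrime_iff ω hω p).1 hGp
  obtain ⟨a, b, hab⟩ := hbdd_of_hinj ω hω.finite_injective_dimension
  have hfin := hω.finite_cohomology
  let T : Set (PrimeSpectrum Γ(X, V)) :=
    ⋂ j ∈ (Finset.Icc a b).erase j₀, (Module.support Γ(X, V) (Dual.HD Γ(X, V) ω j))ᶜ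
  have hT : IsOpen T := by
    apply Set.Finite.isOpen_biInter (Finset.finite_toSet _)
    intro j _
    haveI := hfin j
    exact (Module.isClosed_support (R := Γ(X, V)) (M := Dual.HD Γ(X, V) ω j)).isOpen_compl
  have hpT : p ∈ T := Set.mem_iInter₂.2 (fun j hj => hj₀ j (Finset.mem_erase.1 hj).1)
  let W : X.Opens := ⟨hV.fromSpec '' T, hV.fromSpec.isOpenEmbedding.isOpenMap _ hT⟩
  have hxW : hV.fromSpec p ∈ W := ⟨p, hpT, rfl⟩
  have hW : ∀ y ∈ W, ∀ i : ℤ, i ≠ j₀ → ¬ Nontrivial ((DCoh.HD K i).presheaf.stalk y) := by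
    rintro _ ⟨q, hq, rfl⟩ i hi hnt
    have h1 := (nontrivial_stalk_HD_iff X K hV.fromSpec ω eω q i).1 hnt
    by_cases hiab : i ∈ Finset.Icc a b
    · exact (Set.mem_iInter₂.1 hq i (Finset.mem_erase.2 ⟨hi, hiab⟩)) h1
    · rw [Finset.mem_Icc] at hiab
      haveI := hab i (by omega)
      exact (Module.notMem_support_iff.2 inferInstance) h1
  -- Step B: a smaller affine open, on which the dualizing complex has a single cohomology module
  obtain ⟨U', hU', hxU', hU'W⟩ := exists_isAffineOpen_mem_and_subset (X := X)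
    (x := hV.fromSpec p) (U := W) hxW
  obtain ⟨ω', hω', ⟨eω'⟩⟩ := hK (Γ(X, U')) hU'.fromSpec
  haveI := hω'.isNoetherianRing
  have hx'' : hV.fromSpec p ∈ Set.range hU'.fromSpec := by
    rw [hU'.range_fromSpec]; exact hxU'
  obtain ⟨p', hp'⟩ := hx''
  have h0' : ∀ j : ℤ, j ≠ j₀ → Subsingleton (Dual.HD Γ(X, U') ω' j) := by
    intro j hj
    rw [← Module.support_eq_empty_iff (R := Γ(X, U'))]
    ext q'
    simp only [Set.mem_empty_iff_false, iff_false]
    intro hq'
    have h1 := (nontrivial_stalk_HD_iff X K hU'.fromSpec ω' eω' q' j).2 hq'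
    have h2 : hU'.fromSpec q' ∈ W := by
      apply hU'W
      have h3 : hU'.fromSpec q' ∈ Set.range hU'.fromSpec := ⟨q', rfl⟩
      rw [hU'.range_fromSpec] at h3
      exact h3
    exact hW _ h2 j hj h1
  have hGp' : LocCoh.IsGorensteinLocalRing (Localization.AtPrime p'.asIdeal) :=
    @Groth.Agent.Lib.Helper5.GorRing.gorLocal_of_ringEquiv _ _ _ _
      (stalkEquivSpec hU'.fromSpec p') (hX.2 _)
  obtain ⟨r, hr, ⟨er⟩⟩ := exists_away_iso_shift ω' hω' j₀ h0' p' hGp'
  -- Step C: the basic open `D(r)`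
  let ιr : Spec (CommRingCat.of (Localization.Away r)) ⟶ Spec Γ(X, U') :=
    Spec.map (CommRingCat.ofHom (algebraMap Γ(X, U') (Localization.Away r)))
  let j'' : Spec (CommRingCat.of (Localization.Away r)) ⟶ X := ιr ≫ hU'.fromSpec
  refine ⟨j''.opensRange, -j₀, ?_, ⟨?_⟩⟩
  · have h1 : p' ∈ (ιr.opensRange : Set (Spec Γ(X, U'))) := by
      have h2 := Scheme.Hom.opensRange_localizationAway (R := Γ(X, U')) r
      change p' ∈ ((Spec.map (CommRingCat.ofHom
        (algebraMap Γ(X, U') (Localization.Away r)))).opensRange : Set _)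
      rw [h2]
      exact hr
    obtain ⟨q, hq⟩ := h1
    refine ⟨q, ?_⟩
    rw [← hp', ← hq]
    rfl
  · let θ := j''.isoOpensRange
    have hθ : j'' = θ.hom ≫ j''.opensRange.ι := (Scheme.Hom.isoOpensRange_hom_ι j'').symm
    let d1 := restrictDCompObjIso ιr hU'.fromSpec j'' rfl K
    let d2 := (DCoh.restrictD ιr).mapIso eω'
    let d3 := restrictDTildeDIso (A := Γ(X, U')) (B := Localization.Away r) ω'
    let d4 := (DCoh.tildeD (CommRingCat.of (Localization.Away r))).mapIso er
    let d5 := ((DCoh.tildeD (CommRingCat.of (Localization.Away r))).commShiftIso (-j₀)).app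
      (Dual.inD (Localization.Away r) (Localization.Away r))
    let d6 := (shiftFunctor (DCoh.D (Spec (CommRingCat.of (Localization.Away r)))) (-j₀)).mapIso
      (restrictInDStructureIso X (A := Localization.Away r) j'').symm
    let t1 := restrictDCompObjIso θ.hom j''.opensRange.ι j'' hθ K
    let t2 := restrictDCompObjIso θ.hom j''.opensRange.ι j'' hθ
      (DCoh.inD X (Coh.structureModule X))
    let s1 := restrictInDStructureOpensIso X j''.opensRange.ι
    let big : (DCoh.restrictD θ.hom).obj ((DCoh.restrictD j''.opensRange.ι).obj K) ≅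
        (DCoh.restrictD θ.hom).obj
          ((DCoh.inD (j''.opensRange : Scheme.{u})
            (Coh.structureModule (j''.opensRange : Scheme.{u})))⟦-j₀⟧) :=
      t1.symm ≪≫ d1 ≪≫ d2 ≪≫ d3 ≪≫ d4 ≪≫ d5 ≪≫ d6 ≪≫
        (shiftFunctor _ (-j₀)).mapIso (t2 ≪≫ (DCoh.restrictD θ.hom).mapIso s1) ≪≫
        (((DCoh.restrictD θ.hom).commShiftIso (-j₀)).app _).symm
    exact (restrictDInvHomObjIso θ _).symm ≪≫ (DCoh.restrictD θ.inv).mapIso big ≪≫
      restrictDInvHomObjIso θ _

include hK in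
/-- **S3620** -/
theorem isGorenstein_iff_isInvertibleD : Dual3.IsGorenstein X ↔ Dual3.IsInvertibleD K :=
  ⟨isInvertibleD_of_isGorenstein X K hK, isGorenstein_of_isInvertibleD X K hK⟩

end Groth.Agent.Lib.H6xDualSch
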