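import Mathlib
import Groth.Agent.Lib.H6xFBCG
set_option backward.isDefEq.respectTransparency.types false

/-!
# The base change of a dualizing complex to the polynomial ring is dualizing (helper6)
-/

set_option autoImplicit false
set_option linter.style.haveILetI false
universe u

namespace Groth.Agent.Lib.H6xPoly

open CategoryTheory CategoryTheory.Limits Category Pretriangulated DerivedCategory
open Groth.Agent.Lib.Helper1.Extend Groth.Agent.Lib.Helper1.LDer Groth.Agent.Lib.H6xLoc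
open Groth.Agent.Lib.H6xDual Groth.Agent.Lib.H6xBid Groth.Agent.Lib.H6xDimFn
open Groth.Agent.Lib.H6xFBC
open Polynomial
attribute [local instance] HasDerivedCategory.standard

section Alg

attribute [local instance] Polynomial.algebra in
/-- over a domain `R`, every ideal of `R[X]` is principal up to nonzero constants -/
lemma exists_gen_pointwise (R : Type u) [CommRing R] [IsDomain R] (N : Ideal R[X]) :
    ∃ f ∈ N, ∀ u ∈ N, ∃ c : R, c ≠ 0 ∧ C c * u ∈ Ideal.span {f} := by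
  let K := FractionRing R
  haveI : IsLocalization ((nonZeroDivisors R).map (C : R →+* R[X])) K[X] :=
    Polynomial.isLocalization (nonZeroDivisors R) K
  let S' : Submonoid R[X] := (nonZeroDivisors R).map (C : R →+* R[X])
  let J : Ideal K[X] := N.map (algebraMap R[X] K[X])
  obtain ⟨h, hh⟩ := (IsPrincipalIdealRing.principal J).principal
  have hhJ : h ∈ J := by
    rw [hh]
    exact Submodule.mem_span_singleton_self h
  obtain ⟨⟨⟨v, hv⟩, ⟨s, hs⟩⟩, hvs⟩ := (IsLocalization.mem_map_algebraMap_iff S' K[X]).1 hhJ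
  obtain ⟨s0, hs0, rfl⟩ := hs
  refine ⟨v, hv, fun u hu => ?_⟩
  have huJ : algebraMap R[X] K[X] u ∈ J := Ideal.mem_map_of_mem _ hu
  rw [hh] at huJ
  obtain ⟨k, hk⟩ := Submodule.mem_span_singleton.1 huJ
  obtain ⟨⟨k', ⟨s', hs'⟩⟩, hks⟩ := IsLocalization.surj S' k
  obtain ⟨s0', hs0', rfl⟩ := hs'
  have h1 : algebraMap R[X] K[X] (u * C s0' * C s0) = algebraMap R[X] K[X] (k' * v) := by
    simp only [map_mul]
    simp only [smul_eq_mul] at hk
    rw [← hk, ← hvs, ← hks]
    ring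
  obtain ⟨⟨c, hc⟩, hc'⟩ := (IsLocalization.eq_iff_exists S' K[X]).1 h1
  obtain ⟨c0, hc0, rfl⟩ := hc
  refine ⟨c0 * s0' * s0, ?_, ?_⟩
  · exact mul_ne_zero (mul_ne_zero (nonZeroDivisors.ne_zero hc0) (nonZeroDivisors.ne_zero hs0'))
      (nonZeroDivisors.ne_zero hs0)
  · rw [Ideal.mem_span_singleton']
    refine ⟨C c0 * k', ?_⟩
    simp only [map_mul] at hc' ⊢
    linear_combination -hc'


/-- uniform version for finitely generated ideals -/
lemma exists_gen (R : Type u) [CommRing R] [IsDomain R] (N : Ideal R[X]) (hN : N.FG) :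
    ∃ f ∈ N, ∃ c : R, c ≠ 0 ∧ ∀ u ∈ N, C c * u ∈ Ideal.span {f} := by
  classical
  obtain ⟨f, hf, h⟩ := exists_gen_pointwise R N
  obtain ⟨s, hs⟩ := hN
  refine ⟨f, hf, ?_⟩
  have h' : ∀ u : R[X], ∃ c : R, c ≠ 0 ∧ (u ∈ N → C c * u ∈ Ideal.span {f}) := by
    intro u
    by_cases hu : u ∈ N
    · obtain ⟨c, hc, hcu⟩ := h u hu
      exact ⟨c, hc, fun _ => hcu⟩
    · exact ⟨1, one_ne_zero, fun hu' => absurd hu' hu⟩
  choose cf hcf1 hcf2 using h'
  refine ⟨∏ u ∈ s, cf u, Finset.prod_ne_zero_iff.2 (fun u _ => hcf1 u), ?_⟩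
  let T : Ideal R[X] := Submodule.comap (LinearMap.lsmul R[X] R[X] (C (∏ u ∈ s, cf u)))
    (Ideal.span {f})
  have hT : N ≤ T := by
    rw [← hs]
    refine Ideal.span_le.2 (fun u hu => ?_)
    have huN : u ∈ N := by
      rw [← hs]
      exact Ideal.subset_span hu
    change C (∏ u ∈ s, cf u) * u ∈ Ideal.span {f}
    rw [← Finset.mul_prod_erase s cf hu, map_mul, mul_comm (C (cf u)), mul_assoc]
    exact Ideal.mul_mem_left _ _ (hcf2 u huN)
  exact fun u hu => hT hu


/-- an ideal `n` of `A[X]` is, modulo `p[X]` and up to an element of `A ∖ p`, principal -/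
lemma exists_f_g (A : Type u) [CommRing A] [IsNoetherianRing A] (p : Ideal A) [p.IsPrime]
    (n : Ideal A[X]) :
    ∃ f ∈ n, ∃ g : A, g ∉ p ∧
      (∀ u ∈ n, C g * u ∈ p.map (C : A →+* A[X]) ⊔ Ideal.span {f}) ∧
      (f ∈ p.map (C : A →+* A[X]) → n ≤ p.map (C : A →+* A[X])) := by
  let φ : A[X] →+* (A ⧸ p)[X] := mapRingHom (Ideal.Quotient.mk p)
  have hφ : Function.Surjective φ := Polynomial.map_surjective _ Ideal.Quotient.mk_surjective
  have hker : RingHom.ker φ = p.map (C : A →+* A[X]) := by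
    rw [Polynomial.ker_mapRingHom, Ideal.mk_ker]
  obtain ⟨f', hf', c, hc, hcu⟩ := exists_gen (A ⧸ p) (n.map φ) (IsNoetherian.noetherian _)
  obtain ⟨f, hfn, rfl⟩ := (Ideal.mem_map_iff_of_surjective φ hφ).1 hf'
  obtain ⟨g, rfl⟩ := Ideal.Quotient.mk_surjective c
  have hφC : φ (C g) = C (Ideal.Quotient.mk p g) := by
    rw [Polynomial.coe_mapRingHom, Polynomial.map_C]
  refine ⟨f, hfn, g, fun hg => hc (Ideal.Quotient.eq_zero_iff_mem.2 hg), fun u hu => ?_,
    fun hf u hu => ?_⟩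
  · obtain ⟨k', hk'⟩ := Ideal.mem_span_singleton'.1 (hcu (φ u) (Ideal.mem_map_of_mem φ hu))
    obtain ⟨k, rfl⟩ := hφ k'
    have h1 : C g * u - k * f ∈ p.map (C : A →+* A[X]) := by
      rw [← hker, RingHom.mem_ker, map_sub, map_mul, map_mul, hφC, hk', sub_self]
    have h2 : C g * u = (C g * u - k * f) + k * f := by ring
    rw [h2]
    exact Submodule.add_mem_sup h1 (Ideal.mem_span_singleton'.2 ⟨k, rfl⟩)
  · have hf0 : φ f = 0 := by
      rw [← RingHom.mem_ker, hker]
      exact hf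
    have h1 := hcu (φ u) (Ideal.mem_map_of_mem φ hu)
    rw [hf0, Ideal.span_singleton_eq_bot.2 rfl, Ideal.mem_bot] at h1
    have h2 : φ u = 0 := by
      rcases mul_eq_zero.1 h1 with h3 | h3
      · exact absurd (Polynomial.C_eq_zero.1 h3) hc
      · exact h3
    rw [← hker, RingHom.mem_ker]
    exact h2


end Alg

section Ext

variable {B : Type u} [CommRing B]

lemma subsingleton_shift_hom (X K : Dual.D B) (i j : ℤ) (hij : j + 1 = i)
    (h : Subsingleton (X ⟶ K⟦j⟧)) : Subsingleton (X⟦(1 : ℤ)⟧ ⟶ K⟦i⟧) := by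
  let c := (shiftFunctorAdd' (Dual.D B) j 1 i hij).app K
  refine ⟨fun φ φ' => ?_⟩
  suffices H : ∀ φ : X⟦(1 : ℤ)⟧ ⟶ K⟦i⟧, φ = 0 by rw [H φ, H φ']
  intro φ
  obtain ⟨ψ, hψ⟩ := (shiftFunctor (Dual.D B) (1 : ℤ)).map_surjective (φ ≫ c.hom)
  rw [Subsingleton.elim ψ 0, Functor.map_zero] at hψ
  rw [← cancel_mono c.hom, ← hψ, Limits.zero_comp]

/-- vanishing on the cokernel term of a short exact sequence -/
lemma subsingleton_hom_right {S : ShortComplex (ModuleCat.{u} B)} (hS : S.ShortExact)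
    (K : Dual.D B) (i j : ℤ) (hij : j + 1 = i)
    (h1 : Subsingleton (sg S.X₁ ⟶ K⟦j⟧)) (h2 : Subsingleton (sg S.X₂ ⟶ K⟦i⟧)) :
    Subsingleton (sg S.X₃ ⟶ K⟦i⟧) := by
  refine ⟨fun x x' => ?_⟩
  suffices H : ∀ x : sg S.X₃ ⟶ K⟦i⟧, x = 0 by rw [H x, H x']
  intro x
  obtain ⟨g, hg⟩ := Triangle.yoneda_exact₃ _ hS.singleTriangle_distinguished x
    (h2.elim _ _)
  have hg0 : g = 0 := (subsingleton_shift_hom (sg S.X₁) K i j hij h1).elim _ _
  rw [hg, hg0]
  exact Limits.comp_zero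

/-- if `N ⟶ B/n` is surjective with kernel killed by an element outside the maximal ideal `n`,
then vanishing of `Hom(N, Y)` implies that of `Hom(B/n, Y)` -/
lemma subsingleton_hom_of_torsion_ker (n : Ideal B) [hn : n.IsMaximal] (N : Type u)
    [AddCommGroup N] [Module B N] (π : N →ₗ[B] B ⧸ n) (hπ : Function.Surjective π) (t : B)
    (ht : t ∉ n) (hker : ∀ x : N, π x = 0 → t • x = 0) (Y : Dual.D B)
    (h : Subsingleton (Dual.inD B N ⟶ Y)) : Subsingleton (Dual.inD B (B ⧸ n) ⟶ Y) := by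
  have hS : (ModuleCat.shortComplexOfCompEqZero (LinearMap.ker π).subtype π
      (by ext x; exact LinearMap.mem_ker.1 x.2)).ShortExact :=
    ModuleCat.shortComplex_shortExact _ (LinearMap.exact_subtype_ker_map π)
      (LinearMap.ker π).injective_subtype hπ
  refine ⟨fun x x' => ?_⟩
  suffices H : ∀ x : Dual.inD B (B ⧸ n) ⟶ Y, x = 0 by rw [H x, H x']
  intro x
  obtain ⟨g, hg⟩ := Triangle.yoneda_exact₃ _ hS.singleTriangle_distinguished x
    (h.elim _ _)
  -- `t • g = 0`
  have h1 : t • (𝟙 (ModuleCat.of B (LinearMap.ker π))) = 0 := by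
    apply ModuleCat.hom_ext
    apply LinearMap.ext
    intro y
    apply Subtype.ext
    exact hker y.1 y.2
  have h2 : t • g = 0 := by
    have h3 : t • g = (shiftFunctor (Dual.D B) (1 : ℤ)).map
        ((DerivedCategory.singleFunctor (ModuleCat.{u} B) 0).map
          (t • (𝟙 (ModuleCat.of B (LinearMap.ker π))))) ≫ g := by
      rw [Functor.map_smul, Functor.map_smul, CategoryTheory.Functor.map_id,
        CategoryTheory.Functor.map_id, Linear.smul_comp, id_comp]
      rfl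
    refine h3.trans ?_
    rw [h1, Functor.map_zero, Functor.map_zero]
    exact Limits.zero_comp
  have h4 : t • x = 0 := by
    rw [hg]
    refine (Linear.comp_smul _ _ _ hS.singleTriangle.mor₃ t g).symm.trans ?_
    rw [h2]
    exact Limits.comp_zero
  -- `t` is invertible modulo `n`
  obtain ⟨s', hs⟩ := Ideal.Quotient.exists_inv
    (I := n) (a := Ideal.Quotient.mk n t) (by
      intro h0
      exact ht (Ideal.Quotient.eq_zero_iff_mem.1 h0))
  obtain ⟨s, rfl⟩ := Ideal.Quotient.mk_surjective s'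
  have h5 : (s * t) • (𝟙 (ModuleCat.of B (B ⧸ n))) = 𝟙 _ := by
    apply ModuleCat.hom_ext
    apply LinearMap.ext
    intro y
    obtain ⟨y, rfl⟩ := Ideal.Quotient.mk_surjective y
    change (s * t) • Ideal.Quotient.mk n y = Ideal.Quotient.mk n y
    rw [Algebra.smul_def, Ideal.Quotient.algebraMap_eq, map_mul,
      mul_comm (Ideal.Quotient.mk n s), hs, one_mul]
  have h6 : (s * t) • x = x := by
    have h7 : (s * t) • x = (DerivedCategory.singleFunctor (ModuleCat.{u} B) 0).map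
        ((s * t) • (𝟙 (ModuleCat.of B (B ⧸ n)))) ≫ x := by
      rw [Functor.map_smul, CategoryTheory.Functor.map_id, Linear.smul_comp, id_comp]
    refine h7.trans ?_
    rw [h5, CategoryTheory.Functor.map_id]
    exact id_comp x
  rw [← h6, mul_smul, h4, smul_zero]


/-- the short exact sequence `0 ⟶ B/p ⟶ B/p ⟶ B/(p + xB) ⟶ 0`: vanishing -/
lemma subsingleton_hom_quot_sup_span (p : Ideal B) [p.IsPrime] (x : B) (hxp : x ∉ p)
    (K : Dual.D B) (i j : ℤ) (hij : j + 1 = i)
    (h1 : Subsingleton (Dual.inD B (B ⧸ p) ⟶ K⟦j⟧))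
    (h2 : Subsingleton (Dual.inD B (B ⧸ p) ⟶ K⟦i⟧)) :
    Subsingleton (Dual.inD B (B ⧸ (p ⊔ Ideal.span {x})) ⟶ K⟦i⟧) := by
  let mx : (B ⧸ p) →ₗ[B] (B ⧸ p) := LinearMap.lsmul B (B ⧸ p) x
  let q : (B ⧸ p) →ₗ[B] (B ⧸ (p ⊔ Ideal.span {x})) :=
    Submodule.mapQ p (p ⊔ Ideal.span {x}) LinearMap.id (by
      intro y hy
      exact Ideal.mem_sup_left hy)
  have hinj : Function.Injective mx := by
    rw [injective_iff_map_eq_zero]
    intro y hy
    obtain ⟨y, rfl⟩ := Ideal.Quotient.mk_surjective y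
    have h1 : Ideal.Quotient.mk p (x * y) = 0 := by
      rw [map_mul]
      exact hy
    rw [Ideal.Quotient.eq_zero_iff_mem] at h1 ⊢
    exact (Ideal.IsPrime.mem_or_mem inferInstance h1).resolve_left hxp
  have hsurj : Function.Surjective q := by
    intro y
    obtain ⟨y, rfl⟩ := Ideal.Quotient.mk_surjective y
    exact ⟨Ideal.Quotient.mk p y, rfl⟩
  have hex : Function.Exact mx q := by
    intro y
    obtain ⟨y, rfl⟩ := Ideal.Quotient.mk_surjective y
    change Ideal.Quotient.mk (p ⊔ Ideal.span {x}) y = 0 ↔ _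
    rw [Ideal.Quotient.eq_zero_iff_mem, Submodule.mem_sup]
    constructor
    · rintro ⟨b, hb, c, hc, rfl⟩
      obtain ⟨d, rfl⟩ := Ideal.mem_span_singleton'.1 hc
      refine ⟨Ideal.Quotient.mk p d, ?_⟩
      change x • Ideal.Quotient.mk p d = _
      rw [map_add, Ideal.Quotient.eq_zero_iff_mem.2 hb, zero_add, map_mul, mul_comm]
      rfl
    · rintro ⟨z, hz⟩
      obtain ⟨z, rfl⟩ := Ideal.Quotient.mk_surjective z
      have h1 : Ideal.Quotient.mk p (x * z) = Ideal.Quotient.mk p y := by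
        rw [map_mul]
        exact hz
      rw [Ideal.Quotient.eq] at h1
      refine ⟨y - x * z, ?_, x * z, Ideal.mem_span_singleton'.2 ⟨z, mul_comm z x⟩, by ring⟩
      have h2 : y - x * z = -(x * z - y) := by ring
      rw [h2]
      exact neg_mem h1
  have hS := shortExact_of_exact mx q hinj hsurj hex
  exact subsingleton_hom_right hS K i j hij h1 h2

end Ext

section Main

variable {A : Type u} [CommRing A] [IsNoetherianRing A]

/-- vanishing of `Ext^i(A[X]/n, ω ⊗ A[X])` for maximal ideals `n` and `i > b + 1` -/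
theorem subsingleton_hom_polynomial (ω : Dual.D A) (hω : Dual.IsDualizing A ω) (b : ℤ)
    (hb : ∀ (M : Type u) [AddCommGroup M] [Module A M] (i : ℤ), b < i →
      Subsingleton (Dual.inD A M ⟶ ω⟦i⟧))
    (n : Ideal A[X]) [hn : n.IsMaximal] (i : ℤ) (hi : b + 1 < i) :
    Subsingleton (Dual.inD A[X] (A[X] ⧸ n) ⟶ ((extD A A[X]).obj ω)⟦i⟧) := by
  let p : Ideal A := n.comap (C : A →+* A[X])
  haveI hp : p.IsPrime := Ideal.comap_isPrime _ _
  let pB : Ideal A[X] := p.map (C : A →+* A[X])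
  have hpBn : pB ≤ n := Ideal.map_comap_le
  haveI hpB : pB.IsPrime := Ideal.isPrime_map_C_of_isPrime
  have h0 : ∀ j : ℤ, b < j →
      Subsingleton (Dual.inD A[X] (A[X] ⧸ pB) ⟶ ((extD A A[X]).obj ω)⟦j⟧) := fun j hj =>
    subsingleton_hom_tensor ω hω (A ⧸ p) j (hb _ j hj) (A[X] ⧸ pB) (tensorQuotEquiv p pB rfl)
  obtain ⟨f, hfn, g, hgp, hgn, hfp⟩ := exists_f_g A p n
  by_cases hf : f ∈ pB
  · have hnp : n = pB := le_antisymm (hfp hf) hpBn
    exact subsingleton_hom_of_linearEquiv (Submodule.quotEquivOfEq _ _ hnp) _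
      (h0 i (by omega))
  · have h1 : Subsingleton (Dual.inD A[X] (A[X] ⧸ (pB ⊔ Ideal.span {f})) ⟶
        ((extD A A[X]).obj ω)⟦i⟧) :=
      subsingleton_hom_quot_sup_span pB f hf _ i (i - 1) (by omega) (h0 _ (by omega))
        (h0 _ (by omega))
    have hle : pB ⊔ Ideal.span {f} ≤ n :=
      sup_le hpBn ((Ideal.span_singleton_le_iff_mem _).2 hfn)
    let π : (A[X] ⧸ (pB ⊔ Ideal.span {f})) →ₗ[A[X]] (A[X] ⧸ n) :=
      Submodule.mapQ _ _ LinearMap.id hle
    have hπ : Function.Surjective π := by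
      intro y
      obtain ⟨y, rfl⟩ := Ideal.Quotient.mk_surjective y
      exact ⟨Ideal.Quotient.mk _ y, rfl⟩
    refine subsingleton_hom_of_torsion_ker n _ π hπ (C g) (fun h => hgp h) (fun x hx => ?_) _ h1
    obtain ⟨x, rfl⟩ := Ideal.Quotient.mk_surjective x
    have hx' : Ideal.Quotient.mk n x = 0 := hx
    rw [Ideal.Quotient.eq_zero_iff_mem] at hx'
    change Ideal.Quotient.mk _ (C g * x) = 0
    rw [Ideal.Quotient.eq_zero_iff_mem]
    exact hgn x hx'

/-- **S1776** (in `extD` form) -/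
theorem isDualizing_extD_polynomial (ω : Dual.D A) (hω : Dual.IsDualizing A ω) :
    Dual.IsDualizing A[X] ((extD A A[X]).obj ω) := by
  obtain ⟨a, b, hab⟩ := hω.finite_injective_dimension
  exact isDualizing_extD_of_maximal ω hω (b + 1) (fun n _ i hi =>
    subsingleton_hom_polynomial ω hω b (fun M _ _ j hj => hab M j (Or.inr hj)) n i hi)

/-- **S1776** -/
theorem isDualizing_LBaseChange_polynomial [DRing.HasLBaseChange (algebraMap A A[X])]
    (ω : Dual.D A) (hω : Dual.IsDualizing A ω) :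
    Dual.IsDualizing A[X] ((DRing.LBaseChange (algebraMap A A[X])).obj ω) := by
  obtain ⟨e⟩ := Groth.Agent.Lib.H6xPCDesc.nonempty_lbc_iso_extD (A := A) (B := A[X]) ω
  exact isDualizing_of_iso e.symm (isDualizing_extD_polynomial ω hω)

end Main

end Groth.Agent.Lib.H6xPoly
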