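import Mathlib
import Groth.Prelude.Def_Found
import Groth.Agent.Lib.H6xPolyA
import Groth.Agent.Lib.H6xLocE
set_option backward.isDefEq.respectTransparency.types false

/-!
# Dualizing complexes for algebras essentially of finite type; universal catenarity (helper6)
-/

set_option autoImplicit false
set_option linter.style.haveILetI false
universe u

namespace Groth.Agent.Lib.H6xEft

open CategoryTheory CategoryTheory.Limits Category DerivedCategory
open Groth.Agent.Lib.Helper1.Extend Groth.Agent.Lib.Helper1.LDer Groth.Agent.Lib.H6xLoc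
open Groth.Agent.Lib.H6xDual Groth.Agent.Lib.H6xBid Groth.Agent.Lib.H6xDimFn
open Groth.Agent.Lib.H6xFBC Groth.Agent.Lib.H6xPoly Groth.Agent.Lib.H6xCoext
open Polynomial
attribute [local instance] HasDerivedCategory.standard

/-- having a dualizing complex -/
def HasDualizing (A : Type u) [CommRing A] : Prop := ∃ ω : Dual.D A, Dual.IsDualizing A ω

lemma HasDualizing.isNoetherianRing {A : Type u} [CommRing A] (h : HasDualizing A) :
    IsNoetherianRing A := by
  obtain ⟨ω, hω⟩ := h
  exact hω.isNoetherianRing

/-- finite algebras -/
theorem HasDualizing.of_finite {A : Type u} [CommRing A] (h : HasDualizing A) (B : Type u)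
    [CommRing B] [Algebra A B] [Module.Finite A B] : HasDualizing B := by
  obtain ⟨ω, hω⟩ := h
  haveI := hω.isNoetherianRing
  haveI : IsNoetherian A B := isNoetherian_of_isNoetherianRing_of_finite A B
  haveI : IsNoetherianRing B := isNoetherian_of_tower A (inferInstance : IsNoetherian A B)
  obtain ⟨RG, ⟨adj⟩⟩ := exists_rightAdjoint (φ := algebraMap A B)
  exact ⟨RG.obj ω, isDualizing_rightAdjoint A B RG adj ω hω⟩

/-- surjections -/
theorem HasDualizing.of_surjective {A : Type u} [CommRing A] (h : HasDualizing A) {B : Type u}
    [CommRing B] (f : A →+* B) (hf : Function.Surjective f) : HasDualizing B := by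
  letI : Algebra A B := f.toAlgebra
  haveI : Module.Finite A B := Module.Finite.of_surjective (Algebra.linearMap A B) hf
  exact h.of_finite B

/-- ring isomorphisms -/
theorem HasDualizing.of_ringEquiv {A : Type u} [CommRing A] (h : HasDualizing A) {B : Type u}
    [CommRing B] (e : A ≃+* B) : HasDualizing B :=
  h.of_surjective e.toRingHom e.surjective

/-- polynomial rings -/
theorem HasDualizing.polynomial {A : Type u} [CommRing A] (h : HasDualizing A) :
    HasDualizing A[X] := by
  obtain ⟨ω, hω⟩ := h
  haveI := hω.isNoetherianRing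
  exact ⟨(extD A A[X]).obj ω, isDualizing_extD_polynomial ω hω⟩

/-- polynomial rings in finitely many variables -/
theorem HasDualizing.mvPolynomial {A : Type u} [CommRing A] (h : HasDualizing A) (n : ℕ) :
    HasDualizing (MvPolynomial (Fin n) A) := by
  induction n with
  | zero => exact h.of_ringEquiv (MvPolynomial.isEmptyAlgEquiv A (Fin 0)).symm.toRingEquiv
  | succ n ih => exact ih.polynomial.of_ringEquiv (MvPolynomial.finSuccEquiv A n).symm.toRingEquiv

/-- algebras of finite type -/
theorem HasDualizing.of_finiteType {A : Type u} [CommRing A] (h : HasDualizing A) (B : Type u)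
    [CommRing B] [Algebra A B] [Algebra.FiniteType A B] : HasDualizing B := by
  obtain ⟨n, f, hf⟩ := Algebra.FiniteType.iff_quotient_mvPolynomial''.1
    (inferInstance : Algebra.FiniteType A B)
  exact (h.mvPolynomial n).of_surjective f.toRingHom hf

/-- localizations -/
theorem HasDualizing.of_isLocalization {A : Type u} [CommRing A] (h : HasDualizing A)
    (M : Submonoid A) (B : Type u) [CommRing B] [Algebra A B] [IsLocalization M B] :
    HasDualizing B := by
  obtain ⟨ω, hω⟩ := h
  haveI := hω.isNoetherianRing
  have h1 : HasDualizing (Localization M) := ⟨(LS M).obj ω, isDualizing_LS M ω hω⟩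
  exact h1.of_ringEquiv (IsLocalization.algEquiv M (Localization M) B).toRingEquiv

/-- **S0377**: algebras essentially of finite type -/
theorem HasDualizing.of_essFiniteType {A : Type u} [CommRing A] (h : HasDualizing A) (B : Type u)
    [CommRing B] [Algebra A B] [Algebra.EssFiniteType A B] : HasDualizing B :=
  (h.of_finiteType (Algebra.EssFiniteType.subalgebra A B)).of_isLocalization
    (Algebra.EssFiniteType.submonoid A B) B

section Catenary

variable {R : Type u} [CommRing R]

lemma delta_eq_of_saturated (δ : PrimeSpectrum R → ℤ)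
    (hstep : ∀ p q : PrimeSpectrum R, p ⋖ q → δ p = δ q + 1)
    (s : LTSeries (PrimeSpectrum R))
    (hsat : ∀ i : Fin s.length, s (Fin.castSucc i) ⋖ s (Fin.succ i)) :
    ∀ (i : ℕ) (hi : i < s.length + 1), δ s.head = δ (s ⟨i, hi⟩) + i := by
  intro i
  induction i with
  | zero => intro hi; simp [RelSeries.head]
  | succ i ih =>
    intro hi
    have hi' : i < s.length := by omega
    have h1 := hstep _ _ (hsat ⟨i, hi'⟩)
    have h2 := ih (by omega)
    have e1 : (Fin.succ (⟨i, hi'⟩ : Fin s.length)) = ⟨i + 1, hi⟩ := rfl
    have e2 : (Fin.castSucc (⟨i, hi'⟩ : Fin s.length)) = ⟨i, by omega⟩ := rfl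
    rw [e1, e2] at h1
    rw [h2, h1]
    push_cast
    ring

/-- a Noetherian ring with a function on primes dropping by one along covering pairs is catenary -/
theorem isCatenary_of_step [IsNoetherianRing R] (δ : PrimeSpectrum R → ℤ)
    (hstep : ∀ p q : PrimeSpectrum R, p ⋖ q → δ p = δ q + 1) : CAlg.IsCatenary R := by
  constructor
  · intro p q hpq
    have hq : q.asIdeal.IsPrime := q.2
    have hfin : q.asIdeal.height ≠ ⊤ := Ideal.height_ne_top_of_isPrime
    obtain ⟨n, hn⟩ := ENat.ne_top_iff_exists.mp hfin
    refine ⟨n, fun s _ hlast => ?_⟩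
    have h := Order.length_le_height_last (p := s)
    rw [hlast, ← PrimeSpectrum.height_eq_orderHeight, ← hn] at h
    exact_mod_cast h
  · intro s t hhead hlast hs ht
    have h1 := delta_eq_of_saturated δ hstep s hs s.length (by omega)
    have h2 := delta_eq_of_saturated δ hstep t ht t.length (by omega)
    have e1 : (s ⟨s.length, by omega⟩) = s.last := rfl
    have e2 : (t ⟨t.length, by omega⟩) = t.last := rfl
    rw [e1] at h1
    rw [e2] at h2
    rw [hhead, hlast, h2] at h1
    have : (s.length : ℤ) = t.length := by linarith
    exact_mod_cast this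

/-- a ring with a dualizing complex is catenary -/
theorem HasDualizing.isCatenary (h : HasDualizing R) : CAlg.IsCatenary R := by
  obtain ⟨ω, hω⟩ := h
  haveI := hω.isNoetherianRing
  obtain ⟨δ, -, h2⟩ := exists_dimension_function ω hω
  exact isCatenary_of_step δ h2

/-- **S1721** -/
theorem HasDualizing.isUniversallyCatenary (h : HasDualizing R) :
    CAlg.IsUniversallyCatenary R :=
  ⟨h.isNoetherianRing, fun S _ _ hS => by
    haveI := hS
    exact (h.of_finiteType S).isCatenary⟩

end Catenary

end Groth.Agent.Lib.H6xEft
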