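import Mathlib

/-!
# `Spec` of an injective ring map which is surjective modulo nilpotents is an epimorphism of schemes
(helper6, second team)
-/

set_option autoImplicit false
universe u

namespace Groth.Agent.Lib.H6xEpiSpec

open CategoryTheory AlgebraicGeometry

variable {R S : Type u} [CommRing R] [CommRing S]

/-- if every element of `S` is a nilpotent away from the image of `φ`, then `φ` is integral -/
theorem isIntegral_of_nilpotent (φ : R →+* S)
    (hnil : ∀ t : S, ∃ r : R, IsNilpotent (t - φ r)) : φ.IsIntegral := by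
  intro t
  obtain ⟨r, k, hk⟩ := hnil t
  refine ⟨(Polynomial.X - Polynomial.C r) ^ k, (Polynomial.monic_X_sub_C r).pow k, ?_⟩
  simp [Polynomial.eval₂_pow, hk]

/-- the local ring homomorphisms are injective -/
theorem localRingHom_injective (φ : R →+* S) (hinj : Function.Injective φ)
    (hnil : ∀ t : S, ∃ r : R, IsNilpotent (t - φ r)) (q : Ideal S) [q.IsPrime] :
    Function.Injective (Localization.localRingHom (q.comap φ) q φ rfl) := by
  rw [injective_iff_map_eq_zero]
  intro x hx
  obtain ⟨r, s, rfl⟩ := IsLocalization.exists_mk'_eq (q.comap φ).primeCompl x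
  rw [Localization.localRingHom_mk', IsLocalization.mk'_eq_zero_iff] at hx
  obtain ⟨t, ht⟩ := hx
  rw [IsLocalization.mk'_eq_zero_iff]
  obtain ⟨r0, k, hk⟩ := hnil (t : S)
  -- `t` divides `φ r0 ^ k`
  have hdvd : (t : S) ∣ φ r0 ^ k := by
    have h1 : (φ r0 - (φ r0 - (t : S))) ∣ (φ r0) ^ k - (φ r0 - (t : S)) ^ k :=
      sub_dvd_pow_sub_pow _ _ k
    have h2 : (φ r0 - (t : S)) ^ k = 0 := by
      rw [← neg_sub, neg_pow, hk, mul_zero]
    rwa [h2, sub_zero, sub_sub_cancel] at h1
  obtain ⟨c, hc⟩ := hdvd
  have hr0 : r0 ∈ (q.comap φ).primeCompl := by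
    intro hmem
    have h1 : φ r0 ∈ q := hmem
    have h2 : (t : S) - φ r0 ∈ q := Ideal.IsPrime.mem_of_pow_mem inferInstance k (by rw [hk]; exact q.zero_mem)
    have : (t : S) ∈ q := by
      have := q.add_mem h2 h1
      rwa [sub_add_cancel] at this
    exact t.2 this
  refine ⟨⟨r0 ^ k, Submonoid.pow_mem _ hr0 k⟩, ?_⟩
  apply hinj
  rw [map_mul, map_zero, map_pow, hc, mul_comm (t : S) c, mul_assoc, ht, mul_zero]

/-- **Epimorphism criterion.** If `φ : R → S` is injective and every element of `S` differs from
an element of the image by a nilpotent, then `Spec φ` is an epimorphism of schemes. -/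
theorem epi_specMap (φ : R →+* S) (hinj : Function.Injective φ)
    (hnil : ∀ t : S, ∃ r : R, IsNilpotent (t - φ r)) :
    Epi (Spec.map (CommRingCat.ofHom φ)) := by
  apply CategoryTheory.Functor.epi_of_epi_map (Scheme.forgetToLocallyRingedSpace)
  apply CategoryTheory.Functor.epi_of_epi_map (LocallyRingedSpace.forgetToSheafedSpace)
  apply SheafedSpace.epi_of_base_surjective_of_stalk_mono
  · exact (isIntegral_of_nilpotent φ hnil).comap_surjective hinj
  · intro x
    have h := Scheme.localRingHom_comp_stalkIso (CommRingCat.ofHom φ) x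
    have : x.asIdeal.IsPrime := x.2
    have hinj' := localRingHom_injective φ hinj hnil x.asIdeal
    change Mono (Scheme.Hom.stalkMap (Spec.map (CommRingCat.ofHom φ)) x)
    rw [← h]
    have hm : Mono (CommRingCat.ofHom
        (Localization.localRingHom (PrimeSpectrum.comap (CommRingCat.Hom.hom (CommRingCat.ofHom φ)) x).asIdeal
          x.asIdeal (CommRingCat.Hom.hom (CommRingCat.ofHom φ)) rfl)) :=
      ConcreteCategory.mono_of_injective _ hinj'
    have h1 : Mono (Spec.stalkIso (CommRingCat.of R)
        (PrimeSpectrum.comap (CommRingCat.Hom.hom (CommRingCat.ofHom φ)) x)).hom := inferInstance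
    have h2 : Mono (Spec.stalkIso (CommRingCat.of S) x).inv := inferInstance
    have h3 := mono_comp (CommRingCat.ofHom
        (Localization.localRingHom (PrimeSpectrum.comap (CommRingCat.Hom.hom (CommRingCat.ofHom φ)) x).asIdeal
          x.asIdeal (CommRingCat.Hom.hom (CommRingCat.ofHom φ)) rfl)) (Spec.stalkIso (CommRingCat.of S) x).inv
    exact @mono_comp _ _ _ _ _ _ h1 _ h3

end Groth.Agent.Lib.H6xEpiSpec
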