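import Mathlib
set_option backward.isDefEq.respectTransparency.types false

/-!
# Essential monomorphisms in abelian categories (helper6)

`IsEss i`: the monomorphism `i : A ⟶ B` is essential, i.e. every morphism `g` out of `B` such that
`i ≫ g` is a monomorphism is a monomorphism.
-/

set_option autoImplicit false
set_option linter.style.haveILetI false
universe w v u

namespace Groth.Agent.Lib.H6xEss

open CategoryTheory CategoryTheory.Limits Category

variable {C : Type u} [Category.{v} C]

/-- essential monomorphisms -/
structure IsEss {A B : C} (i : A ⟶ B) : Prop where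
  mono : Mono i
  ess : ∀ ⦃Z : C⦄ (g : B ⟶ Z), Mono (i ≫ g) → Mono g

namespace IsEss

variable {A B D : C}

lemma of_isIso (i : A ⟶ B) [IsIso i] : IsEss i where
  mono := inferInstance
  ess Z g hg := by
    have : g = inv i ≫ (i ≫ g) := by simp
    rw [this]
    exact mono_comp _ _

lemma comp {i : A ⟶ B} {j : B ⟶ D} (hi : IsEss i) (hj : IsEss j) : IsEss (i ≫ j) where
  mono := by
    haveI := hi.mono
    haveI := hj.mono
    exact mono_comp _ _
  ess Z g hg := by
    apply hj.ess
    apply hi.ess
    rwa [← assoc]

/-- if `i ≫ j` is essential with `j` a monomorphism, then `j` is essential -/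
lemma of_comp_right {i : A ⟶ B} {j : B ⟶ D} (hj : Mono j) (h : IsEss (i ≫ j)) : IsEss j where
  mono := hj
  ess Z g hg := by
    apply h.ess
    haveI := h.mono
    haveI : Mono i := mono_of_mono i j
    rw [assoc]
    exact mono_comp _ _

lemma comp_iso_right {i : A ⟶ B} (hi : IsEss i) (e : B ⟶ D) [IsIso e] : IsEss (i ≫ e) :=
  hi.comp (of_isIso e)

lemma comp_iso_left {i : A ⟶ B} (hi : IsEss i) (e : D ⟶ A) [IsIso e] : IsEss (e ≫ i) :=
  (of_isIso e).comp hi

/-- an essential monomorphism from an injective object is an isomorphism -/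
lemma isIso_of_injective [Preadditive C] {i : A ⟶ B} (hi : IsEss i) [Injective A] : IsIso i := by
  haveI := hi.mono
  obtain ⟨r, hr⟩ := Injective.factors (𝟙 A) i
  have hr' : Mono r := hi.ess r (by rw [hr]; infer_instance)
  refine ⟨r, hr, ?_⟩
  rw [← cancel_mono r, assoc, hr, comp_id, id_comp]

/-- an essential extension embeds in any injective object containing the source -/
lemma exists_mono_lift {i : A ⟶ B} (hi : IsEss i) {I : C} [Injective I] (j : A ⟶ I) [Mono j] :
    ∃ h : B ⟶ I, i ≫ h = j ∧ Mono h := by
  haveI := hi.mono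
  obtain ⟨h, hh⟩ := Injective.factors j i
  exact ⟨h, hh, hi.ess h (by rw [hh]; infer_instance)⟩

/-- two injective hulls of the same object are isomorphic -/
lemma exists_iso_of_injective [Preadditive C] {I I' : C} {i : A ⟶ I} {i' : A ⟶ I'}
    (hi : IsEss i) (hi' : IsEss i') [Injective I] [Injective I'] :
    ∃ e : I ≅ I', i ≫ e.hom = i' := by
  haveI := hi'.mono
  obtain ⟨h, hh, hm⟩ := hi.exists_mono_lift i'
  have hess : IsEss h := of_comp_right hm (by rw [hh]; exact hi')
  haveI := hess.isIso_of_injective
  exact ⟨asIso h, hh⟩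

end IsEss

end Groth.Agent.Lib.H6xEss
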