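import Mathlib
set_option backward.isDefEq.respectTransparency.types false

/-!
# Directed suprema of subobjects in Grothendieck abelian categories (helper6)

`mono_sSup_arrow_comp`: if `g : X ⟶ Z` is a monomorphism on every member of a nonempty directed
set of subobjects of `X`, then it is a monomorphism on the supremum (AB5).
-/

set_option autoImplicit false
set_option linter.style.haveILetI false
universe w v u

namespace Groth.Agent.Lib.H6xEss

open CategoryTheory CategoryTheory.Limits Category

attribute [local instance] IsFiltered.isConnected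

variable {C : Type u} [Category.{v} C] [Abelian C] [IsGrothendieckAbelian.{w} C]

section

variable {X : C} (c : Set (Subobject X))

/-- the index type of a set of subobjects, made small -/
abbrev Idx : Type w := {j : Shrink.{w} (Subobject X) // (equivShrink (Subobject X)).symm j ∈ c}

/-- the subobject attached to an index -/
noncomputable abbrev sub (j : Idx c) : Subobject X := (equivShrink (Subobject X)).symm j.1

noncomputable instance : Preorder (Idx c) := Preorder.lift (sub c)

lemma sub_mem (j : Idx c) : sub c j ∈ c := j.2

lemma exists_idx {B : Subobject X} (hB : B ∈ c) : ∃ j : Idx c, sub c j = B :=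
  ⟨⟨equivShrink _ B, by simpa using hB⟩, by simp [sub]⟩

lemma iSup_sub : ⨆ j : Idx c, sub c j = sSup c := by
  apply le_antisymm
  · exact iSup_le fun j => le_sSup (sub_mem c j)
  · refine sSup_le fun B hB => ?_
    obtain ⟨j, rfl⟩ := exists_idx c hB
    exact le_iSup (sub c) j

lemma le_of_hom {j j' : Idx c} (h : j ⟶ j') : sub c j ≤ sub c j' :=
  (leOfHom h : j ≤ j')

/-- the functor to `MonoOver X` attached to a set of subobjects -/
noncomputable def diag : Idx c ⥤ MonoOver X where
  obj j := MonoOver.mk (sub c j).arrow
  map {j j'} h := MonoOver.homMk (Subobject.ofLE _ _ (le_of_hom c h))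
    (by simp)

end

set_option backward.defeqAttrib.useBackward true in
set_option backward.isDefEq.respectTransparency false in
theorem mono_sSup_arrow_comp {X Z : C} (c : Set (Subobject X)) (hc : DirectedOn (· ≤ ·) c)
    (hne : c.Nonempty) (g : X ⟶ Z) (h : ∀ B ∈ c, Mono (B.arrow ≫ g)) :
    Mono ((sSup c).arrow ≫ g) := by
  haveI : Nonempty (Idx c) := by
    obtain ⟨B, hB⟩ := hne
    obtain ⟨j, -⟩ := exists_idx c hB
    exact ⟨j⟩
  haveI : IsDirected (Idx c) (· ≤ ·) := by
    refine ⟨fun j j' => ?_⟩
    obtain ⟨B, hB, h1, h2⟩ := hc _ (sub_mem c j) _ (sub_mem c j')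
    obtain ⟨k, rfl⟩ := exists_idx c hB
    exact ⟨k, h1, h2⟩
  haveI : IsFiltered (Idx c) := inferInstance
  let F := diag c
  let cc : Cocone (F ⋙ MonoOver.forget _ ⋙ Over.forget _) := Cocone.mk X
    { app := fun j => (F.obj j).obj.hom
      naturality := fun j j' φ => by
        dsimp
        simp only [comp_id]
        exact MonoOver.w (f := F.obj j) (g := F.obj j') (F.map φ) }
  let f : colimit (F ⋙ MonoOver.forget _ ⋙ Over.forget _) ⟶ X := colimit.desc _ cc
  have hf : ∀ j, colimit.ι (F ⋙ MonoOver.forget _ ⋙ Over.forget _) j ≫ f =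
      (F.obj j).obj.hom := fun j => colimit.ι_desc _ _
  haveI := IsGrothendieckAbelian.mono_of_isColimit_monoOver F (colimit.isColimit _) f hf
  have e1 : Subobject.mk f = ⨆ j, Subobject.mk (F.obj j).obj.hom :=
    IsGrothendieckAbelian.subobjectMk_of_isColimit_eq_iSup F (colimit.isColimit _) f hf
  have e2 : (⨆ j, Subobject.mk (F.obj j).obj.hom) = sSup c := by
    rw [← iSup_sub c]
    exact iSup_congr (fun j => Subobject.mk_arrow (sub c j))
  have e : sSup c = Subobject.mk f := (e1.trans e2).symm
  let α : (F ⋙ MonoOver.forget _ ⋙ Over.forget _) ⟶ (Functor.const _).obj Z :=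
    { app := fun j => (F.obj j).obj.hom ≫ g
      naturality := fun j j' φ => by
        dsimp
        simp only [comp_id]
        rw [← assoc]
        congr 1
        exact MonoOver.w (f := F.obj j) (g := F.obj j') (F.map φ) }
  haveI : ∀ j, Mono (α.app j) := fun j => h _ (sub_mem c j)
  haveI := NatTrans.mono_of_mono_app α
  have hfg : Mono (f ≫ g) :=
    colim.map_mono' α (colimit.isColimit _) (isColimitConstCocone _ Z) (f ≫ g) (fun j => by
      dsimp
      rw [comp_id, ← assoc, hf])
  rw [e, ← Subobject.underlyingIso_hom_comp_eq_mk, assoc]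
  exact mono_comp _ _

end Groth.Agent.Lib.H6xEss
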