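import Mathlib
import Groth.Agent.Lib.H6xEssA
import Groth.Agent.Lib.H6xEssB
set_option backward.isDefEq.respectTransparency.types false

/-!
# Injective hulls in Grothendieck abelian categories (helper6)

`exists_isEss_injective`: every object of a Grothendieck abelian category has an essential
monomorphism into an injective object.
-/

set_option autoImplicit false
set_option linter.style.haveILetI false
universe w v u

namespace Groth.Agent.Lib.H6xEss

open CategoryTheory CategoryTheory.Limits Category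

section abelian

variable {C : Type u} [Category.{v} C] [Abelian C] {X : C}

lemma eq_bot_of_arrow_eq_zero (P : Subobject X) (h : P.arrow = 0) : P = ⊥ := by
  rw [← Subobject.mk_arrow P]
  exact Subobject.mk_eq_bot_iff_zero.2 h

/-- if `p` kills `S` and is a monomorphism on `E`, then `S ⊓ E = ⊥` -/
lemma inf_eq_bot_of_mono_comp (S E : Subobject X) {Z : C} (p : X ⟶ Z) (hS : S.arrow ≫ p = 0)
    (hE : Mono (E.arrow ≫ p)) : S ⊓ E = ⊥ := by
  apply eq_bot_of_arrow_eq_zero
  have h1 : Subobject.ofLE (S ⊓ E) E inf_le_right ≫ (E.arrow ≫ p) = 0 := by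
    rw [← assoc, Subobject.ofLE_arrow, ← Subobject.ofLE_arrow (inf_le_left : S ⊓ E ≤ S), assoc, hS,
      comp_zero]
  have h2 : Subobject.ofLE (S ⊓ E) E inf_le_right = 0 := by
    rw [← cancel_mono (E.arrow ≫ p), h1, zero_comp]
  rw [← Subobject.ofLE_arrow (inf_le_right : S ⊓ E ≤ E), h2, zero_comp]

/-- if `S ⊓ E = ⊥`, then the projection to the cokernel of `S` is a monomorphism on `E` -/
lemma mono_comp_of_inf_eq_bot (S E : Subobject X) (h : S ⊓ E = ⊥) :
    Mono (E.arrow ≫ cokernel.π S.arrow) := by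
  apply Preadditive.mono_of_cancel_zero
  intro W a ha
  have h1 : S.Factors (a ≫ E.arrow) := by
    have h0 := Abelian.monoLift_comp S.arrow (a ≫ E.arrow) (by rw [assoc, ha])
    rw [← h0]
    exact Subobject.factors_comp_arrow _
  have h2 : E.Factors (a ≫ E.arrow) := Subobject.factors_comp_arrow a
  have h3 : (S ⊓ E).Factors (a ≫ E.arrow) := (Subobject.inf_factors _).2 ⟨h1, h2⟩
  rw [h, Subobject.bot_factors_iff_zero] at h3
  rw [← cancel_mono E.arrow, h3, zero_comp]

end abelian

variable {C : Type u} [Category.{v} C] [Abelian C] [IsGrothendieckAbelian.{w} C] {X : C}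

/-- `B` is an essential extension of `A₀` inside `X` -/
def EssExt (A₀ B : Subobject X) : Prop := ∃ h : A₀ ≤ B, IsEss (Subobject.ofLE A₀ B h)

lemma essExt_refl (A₀ : Subobject X) : EssExt A₀ A₀ :=
  ⟨le_rfl, by rw [Subobject.ofLE_refl]; exact IsEss.of_isIso _⟩

/-- Zorn's lemma: maximal essential extensions inside `X` -/
theorem exists_maximal_essExt (A₀ : Subobject X) :
    ∃ E : Subobject X, EssExt A₀ E ∧ ∀ E' : Subobject X, EssExt A₀ E' → E ≤ E' → E' ≤ E := by
  obtain ⟨E, -, hE⟩ := zorn_le_nonempty₀ {B : Subobject X | EssExt A₀ B} (fun c hcs hc y hy => by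
    obtain ⟨hy0, -⟩ := hcs hy
    have h0 : A₀ ≤ sSup c := hy0.trans (le_sSup hy)
    refine ⟨sSup c, ⟨h0, ⟨inferInstance, ?_⟩⟩, fun z hz => le_sSup hz⟩
    intro Z g hg
    have key : Mono ((sSup c).arrow ≫ pushout.inl (sSup c).arrow g) := by
      apply mono_sSup_arrow_comp c hc.directedOn ⟨y, hy⟩
      intro B hB
      obtain ⟨hB0, hBess⟩ := hcs hB
      have hBle : B ≤ sSup c := le_sSup hB
      have h1 : Mono (Subobject.ofLE B (sSup c) hBle ≫ g) := by
        apply hBess.ess
        rw [← assoc, Subobject.ofLE_comp_ofLE]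
        exact hg
      have h2 : B.arrow ≫ pushout.inl (sSup c).arrow g =
          (Subobject.ofLE B (sSup c) hBle ≫ g) ≫ pushout.inr (sSup c).arrow g := by
        rw [assoc, ← pushout.condition, ← assoc, Subobject.ofLE_arrow]
      rw [h2]
      exact mono_comp _ _
    rw [pushout.condition] at key
    exact mono_of_mono g (pushout.inr (sSup c).arrow g)) A₀ (essExt_refl A₀)
  exact ⟨E, hE.1, fun E' hE' hle => hE.2 hE' hle⟩

/-- Zorn's lemma: maximal subobjects meeting `E` trivially -/
theorem exists_maximal_compl (E : Subobject X) :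
    ∃ K : Subobject X, K ⊓ E = ⊥ ∧ ∀ K' : Subobject X, K' ⊓ E = ⊥ → K ≤ K' → K' ≤ K := by
  obtain ⟨K, hK⟩ := zorn_le₀ {K : Subobject X | K ⊓ E = ⊥} (fun c hcs hc => by
    rcases c.eq_empty_or_nonempty with rfl | hne
    · exact ⟨⊥, bot_inf_eq _, fun z hz => (Set.notMem_empty z hz).elim⟩
    · refine ⟨sSup c, ?_, fun z hz => le_sSup hz⟩
      have key : Mono ((sSup c).arrow ≫ cokernel.π E.arrow) := by
        apply mono_sSup_arrow_comp c hc.directedOn hne
        intro B hB
        apply mono_comp_of_inf_eq_bot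
        rw [inf_comm]
        exact hcs hB
      change sSup c ⊓ E = ⊥
      rw [inf_comm]
      exact inf_eq_bot_of_mono_comp E (sSup c) _ (cokernel.condition _) key)
  exact ⟨K, hK.1, fun K' hK' hle => hK.2 hK' hle⟩

/-- **Existence of injective hulls** in a Grothendieck abelian category -/
theorem exists_isEss_injective (A : C) :
    ∃ (I : C) (i : A ⟶ I), Injective I ∧ IsEss i := by
  haveI : EnoughInjectives C := inferInstance
  let X : C := Injective.under A
  let A₀ : Subobject X := Subobject.mk (Injective.ι A)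
  obtain ⟨E, ⟨hA₀E, hess⟩, hEmax⟩ := exists_maximal_essExt A₀
  obtain ⟨K, hKE, hKmax⟩ := exists_maximal_compl E
  let q : X ⟶ cokernel K.arrow := cokernel.π K.arrow
  haveI hm : Mono (E.arrow ≫ q) := mono_comp_of_inf_eq_bot K E hKE
  -- `E ⟶ X/K` is essential
  have hess2 : IsEss (E.arrow ≫ q) := by
    refine ⟨hm, ?_⟩
    intro Z g hg
    have h1 : kernelSubobject (q ≫ g) ⊓ E = ⊥ :=
      inf_eq_bot_of_mono_comp _ E (q ≫ g) (kernelSubobject_arrow_comp _)
        (by rw [← assoc]; exact hg)
    have h2 : K ≤ kernelSubobject (q ≫ g) :=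
      Subobject.le_of_comm (factorThruKernelSubobject (q ≫ g) K.arrow
        (by rw [← assoc, cokernel.condition, zero_comp])) (by simp)
    have h3 : kernelSubobject (q ≫ g) ≤ K := hKmax _ h1 h2
    apply Preadditive.mono_of_cancel_zero
    intro W a ha
    have h4 : pullback.fst q a ≫ q ≫ g = 0 := by
      rw [← assoc, pullback.condition, assoc, ha, comp_zero]
    have h5 : K.Factors (pullback.fst q a) :=
      Subobject.factors_of_le _ h3 (kernelSubobject_factors _ _ h4)
    have h6 : pullback.fst q a ≫ q = 0 := by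
      rw [← Subobject.factorThru_arrow K _ h5, assoc, cokernel.condition, comp_zero]
    rw [pullback.condition] at h6
    rw [← cancel_epi (pullback.snd q a), h6, comp_zero]
  obtain ⟨ψ, hψ⟩ := Injective.factors E.arrow (E.arrow ≫ q)
  haveI hψm : Mono ψ := hess2.ess ψ (by rw [hψ]; infer_instance)
  let E' : Subobject X := Subobject.mk ψ
  have hEE' : E ≤ E' := Subobject.le_mk_of_comm (E.arrow ≫ q) hψ
  have hess3 : IsEss (Subobject.ofLE E E' hEE') := by
    have h1 : Subobject.ofLE E E' hEE' = (E.arrow ≫ q) ≫ (Subobject.underlyingIso ψ).inv := by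
      rw [← cancel_mono (Subobject.underlyingIso ψ).hom, assoc, Iso.inv_hom_id, comp_id,
        ← cancel_mono ψ, assoc, Subobject.underlyingIso_hom_comp_eq_mk, Subobject.ofLE_arrow, hψ]
    rw [h1]
    exact hess2.comp_iso_right _
  have hE'ess : EssExt A₀ E' :=
    ⟨hA₀E.trans hEE', by
      rw [← Subobject.ofLE_comp_ofLE A₀ E E' hA₀E hEE']
      exact hess.comp hess3⟩
  have hE'E : E' ≤ E := hEmax E' hE'ess hEE'
  let ψ' : cokernel K.arrow ⟶ (E : C) :=
    (Subobject.underlyingIso ψ).inv ≫ Subobject.ofLE E' E hE'E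
  have hψ' : ψ' ≫ E.arrow = ψ := by
    change ((Subobject.underlyingIso ψ).inv ≫ Subobject.ofLE E' E hE'E) ≫ E.arrow = ψ
    rw [assoc, Subobject.ofLE_arrow, ← Subobject.underlyingIso_hom_comp_eq_mk, Iso.inv_hom_id_assoc]
  have hret : E.arrow ≫ (q ≫ ψ') = 𝟙 _ := by
    rw [← cancel_mono E.arrow, assoc, assoc, hψ', ← assoc, hψ, id_comp]
  have hinj : Injective (E : C) := by
    refine ⟨fun {P Q} a b _ => ?_⟩
    obtain ⟨h, hh⟩ := Injective.factors (a ≫ E.arrow) b
    exact ⟨h ≫ q ≫ ψ', by rw [← assoc, hh, assoc, hret, comp_id]⟩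
  refine ⟨(E : C), (Subobject.underlyingIso (Injective.ι A)).inv ≫ Subobject.ofLE A₀ E hA₀E,
    hinj, hess.comp_iso_left _⟩

end Groth.Agent.Lib.H6xEss
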