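import Mathlib
import Groth.Agent.Lib.Helper2Div
set_option backward.isDefEq.respectTransparency.types false

/-!
# Local generation of ideals of functions near the specialisations of a point (helper6)

`exists_basicOpen_local_mem`: for an affine open `U` with Noetherian ring of sections, a point
`η ∈ U` and an ideal `𝔞` of `Γ(X, U)`, there is a basic open `D(f) ∋ η` such that a local function
`t` defined near a specialisation `x ∈ D(f)` of `η`, whose germ at `η` lies in `𝔞 O_{X,η}`,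
lies in `𝔞 O(W)` for some neighbourhood `W` of `x`.
-/

set_option autoImplicit false
set_option linter.style.haveILetI false
universe u
open CategoryTheory CategoryTheory.Limits AlgebraicGeometry TopologicalSpace Opposite

namespace Groth.Agent.Lib.H6xIdealGen

variable {X : Scheme.{u}}

lemma prod_mul_mem_of_forall {R : Type*} [CommRing R] (𝔞 𝔟 : Ideal R) (B : Finset R)
    (hB : Ideal.span (B : Set R) = 𝔟) (m : R → R) (hm : ∀ b ∈ B, m b * b ∈ 𝔞) :
    ∀ b ∈ 𝔟, (∏ b' ∈ B, m b') * b ∈ 𝔞 := by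
  classical
  intro b hb
  rw [← hB] at hb
  induction hb using Submodule.span_induction with
  | mem b hb =>
    rw [← Finset.mul_prod_erase B m hb, mul_comm (m b), mul_assoc]
    exact 𝔞.mul_mem_left _ (hm b hb)
  | zero => rw [mul_zero]; exact 𝔞.zero_mem
  | add x y _ _ hx hy => rw [mul_add]; exact 𝔞.add_mem hx hy
  | smul a x _ hx =>
    rw [smul_eq_mul, mul_left_comm]
    exact 𝔞.mul_mem_left _ hx

theorem exists_basicOpen_local_mem {U : X.Opens} (hU : IsAffineOpen U)
    [IsNoetherianRing Γ(X, U)] (η : X) (hη : η ∈ U) (𝔞 : Ideal Γ(X, U)) :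
    ∃ f : Γ(X, U), η ∈ X.basicOpen f ∧
      ∀ (V : X.Opens) (t : Γ(X, V)) (x : X) (_ : x ∈ V) (_ : x ∈ X.basicOpen f) (hηV : η ∈ V),
        η ⤳ x →
        X.presheaf.germ V η hηV t ∈ 𝔞.map (X.presheaf.germ U η hη).hom →
        ∃ (W : X.Opens) (hWV : W ≤ V) (hWU : W ≤ U), x ∈ W ∧
          X.presheaf.map (homOfLE hWV).op t ∈ 𝔞.map (X.presheaf.map (homOfLE hWU).op).hom := by
  classical
  letI alg : Algebra Γ(X, U) (X.presheaf.stalk η) :=
    X.presheaf.algebra_section_stalk (⟨η, hη⟩ : U)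
  have hloc : IsLocalization.AtPrime (X.presheaf.stalk η) (hU.primeIdealOf ⟨η, hη⟩).asIdeal :=
    hU.isLocalization_stalk ⟨η, hη⟩
  have halg : algebraMap Γ(X, U) (X.presheaf.stalk η) = (X.presheaf.germ U η hη).hom := rfl
  set 𝔭 : Ideal Γ(X, U) := (hU.primeIdealOf ⟨η, hη⟩).asIdeal with h𝔭
  let 𝔟 : Ideal Γ(X, U) :=
    (𝔞.map (algebraMap Γ(X, U) (X.presheaf.stalk η))).comap (algebraMap Γ(X, U) (X.presheaf.stalk η))
  obtain ⟨B, hB⟩ := (isNoetherianRing_iff_ideal_fg Γ(X, U)).1 inferInstance 𝔟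
  have h1 : ∀ b ∈ B, ∃ m ∈ 𝔭.primeCompl, m * b ∈ 𝔞 := by
    intro b hb
    have hb' : b ∈ 𝔟 := hB ▸ Ideal.subset_span hb
    exact (IsLocalization.algebraMap_mem_map_algebraMap_iff 𝔭.primeCompl
      (X.presheaf.stalk η) 𝔞 b).1 hb'
  choose! m hm hmb using h1
  have hf : (∏ b ∈ B, m b) ∈ 𝔭.primeCompl := Submonoid.prod_mem _ (fun b hb => hm b hb)
  have hfb := prod_mul_mem_of_forall 𝔞 𝔟 B hB m hmb
  set f : Γ(X, U) := ∏ b ∈ B, m b with hfdef
  have hηf : η ∈ X.basicOpen f :=
    (Groth.Agent.Lib.Helper2.mem_basicOpen_iff_notMem_primeIdealOf hU η hη f).2 hf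
  refine ⟨f, hηf, ?_⟩
  intro V t x hxV hxf hηV hsp hgerm
  have hxU : x ∈ U := X.basicOpen_le f hxf
  obtain ⟨g, hgle, hxg⟩ := hU.exists_basicOpen_le
    (V := V ⊓ X.basicOpen f) ⟨x, ⟨hxV, hxf⟩⟩ hxU
  have hηg : η ∈ X.basicOpen g := hsp.mem_open (X.basicOpen g).isOpen hxg
  have hWV : X.basicOpen g ≤ V := hgle.trans inf_le_left
  have hWf : X.basicOpen g ≤ X.basicOpen f := hgle.trans inf_le_right
  have hWU : X.basicOpen g ≤ U := X.basicOpen_le g
  refine ⟨X.basicOpen g, hWV, hWU, hxg, ?_⟩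
  -- write `t|_W = b / g^k`
  have hlocg : IsLocalization.Away g Γ(X, X.basicOpen g) := hU.isLocalization_basicOpen g
  obtain ⟨⟨b, ⟨_, k, rfl⟩⟩, hb⟩ := IsLocalization.surj (Submonoid.powers g)
    (X.presheaf.map (homOfLE hWV).op t)
  have hb' : X.presheaf.map (homOfLE hWV).op t * (X.presheaf.map (homOfLE hWU).op g) ^ k =
      X.presheaf.map (homOfLE hWU).op b := by
    have := hb
    simp only [map_pow] at this
    exact this
  -- the germ of `b` at `η`
  have hbgerm : algebraMap Γ(X, U) (X.presheaf.stalk η) b ∈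
      𝔞.map (algebraMap Γ(X, U) (X.presheaf.stalk η)) := by
    have e1 : algebraMap Γ(X, U) (X.presheaf.stalk η) b =
        X.presheaf.germ (X.basicOpen g) η hηg (X.presheaf.map (homOfLE hWU).op b) :=
      (TopCat.Presheaf.germ_res_apply X.presheaf (homOfLE hWU) η hηg b).symm
    rw [e1, ← hb', map_mul, map_pow]
    have e2 : X.presheaf.germ (X.basicOpen g) η hηg (X.presheaf.map (homOfLE hWV).op t) =
        X.presheaf.germ V η hηV t :=
      TopCat.Presheaf.germ_res_apply X.presheaf (homOfLE hWV) η hηg t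
    rw [e2]
    exact Ideal.mul_mem_right _ _ hgerm
  have hfbmem : f * b ∈ 𝔞 := hfb b hbgerm
  have hres : X.presheaf.map (homOfLE hWU).op (f * b) ∈
      𝔞.map (X.presheaf.map (homOfLE hWU).op).hom := Ideal.mem_map_of_mem _ hfbmem
  -- `f` and `g` are units on `W`
  have hug : IsUnit (X.presheaf.map (homOfLE hWU).op g) :=
    RingedSpace.isUnit_res_basicOpen _ g
  have huf : IsUnit (X.presheaf.map (homOfLE hWU).op f) := by
    have h0 : IsUnit (X.presheaf.map (homOfLE (X.basicOpen_le f)).op f) :=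
      RingedSpace.isUnit_res_basicOpen _ f
    have h1 := h0.map (X.presheaf.map (homOfLE hWf).op).hom
    have e : (X.presheaf.map (homOfLE hWf).op).hom
        (X.presheaf.map (homOfLE (X.basicOpen_le f)).op f) =
        X.presheaf.map (homOfLE hWU).op f := by
      rw [← CommRingCat.comp_apply, ← Functor.map_comp]
      rfl
    rwa [e] at h1
  have hu : IsUnit (X.presheaf.map (homOfLE hWU).op f * (X.presheaf.map (homOfLE hWU).op g) ^ k) :=
    huf.mul (hug.pow k)
  obtain ⟨v, hv⟩ := hu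
  have key : X.presheaf.map (homOfLE hWV).op t =
      (↑v⁻¹ : Γ(X, X.basicOpen g)) * X.presheaf.map (homOfLE hWU).op (f * b) := by
    rw [map_mul, ← hb']
    have : (↑v⁻¹ : Γ(X, X.basicOpen g)) * (X.presheaf.map (homOfLE hWU).op f *
        (X.presheaf.map (homOfLE hWV).op t * (X.presheaf.map (homOfLE hWU).op g) ^ k)) =
        (↑v⁻¹ * (X.presheaf.map (homOfLE hWU).op f * (X.presheaf.map (homOfLE hWU).op g) ^ k)) *
          X.presheaf.map (homOfLE hWV).op t := by ring
    rw [this, ← hv, Units.inv_mul, one_mul]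
  rw [key]
  exact Ideal.mul_mem_left _ _ hres

end Groth.Agent.Lib.H6xIdealGen
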