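import Mathlib
import Groth.Agent.Lib.H6xIdealGenA
set_option backward.isDefEq.respectTransparency.types false

/-!
# Presheaves of ideals on locally Noetherian schemes: Noetherian induction (helper6)

* `noeth_induction`, `noeth_induction_open`: Noetherian induction via generic points.
* `IdealPre X`: presheaves of ideals of `O_X` (not necessarily sheaves, not necessarily
  quasi-coherent), `IdealPre.germI`: the ideal of germs at a point.
* `IdealPre.exists_local`: local statement near the specialisations of a point.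
* `IdealPre.chain_stabilizes`: ascending chains are locally stationary, uniformly over a
  Noetherian open.
* `IdealPre.exists_finite_gen`: finitely many local sections generate locally, over a Noetherian
  open.
-/

set_option autoImplicit false
set_option linter.style.haveILetI false
universe u
open CategoryTheory CategoryTheory.Limits AlgebraicGeometry TopologicalSpace Opposite

namespace Groth.Agent.Lib.H6xIdealGen

section topology

theorem noeth_induction {T : Type*} [TopologicalSpace T] [NoetherianSpace T] [QuasiSober T]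
    (Q : Set T → Prop) (h0 : Q ∅) (hmono : ∀ A B : Set T, A ⊆ B → Q B → Q A)
    (hun : ∀ A B : Set T, Q A → Q B → Q (A ∪ B))
    (hloc : ∀ η : T, ∃ U : Set T, IsOpen U ∧ η ∈ U ∧ Q (U ∩ closure {η})) : Q Set.univ := by
  suffices h : ∀ Z : Closeds T, Q (Z : Set T) by simpa using h ⊤
  intro Z
  apply wellFounded_lt.induction Z; clear Z
  intro Z H
  rcases eq_or_ne Z ⊥ with rfl | h₀
  · simpa using h0
  · by_cases h₁ : IsPreirreducible (Z : Set T)
    · have hirr : IsIrreducible (Z : Set T) := ⟨Closeds.coe_nonempty.2 h₀, h₁⟩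
      obtain ⟨η, hη⟩ := QuasiSober.sober hirr Z.isClosed
      obtain ⟨U, hUo, hηU, hQ⟩ := hloc η
      have hcl : closure {η} = (Z : Set T) := hη
      let Z' : Closeds T := ⟨(Z : Set T) \ U, Z.isClosed.sdiff hUo⟩
      have hlt : Z' < Z := by
        refine lt_of_le_of_ne (fun x hx => hx.1) ?_
        intro heq
        have hηZ : η ∈ (Z : Set T) := hcl ▸ subset_closure rfl
        have h2 : η ∈ (Z' : Set T) := by rw [heq]; exact hηZ
        exact h2.2 hηU
      have h3 := hun _ _ hQ (H Z' hlt)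
      refine hmono _ _ ?_ h3
      intro x hx
      by_cases hxU : x ∈ U
      · left; exact ⟨hxU, hcl ▸ hx⟩
      · right; exact ⟨hx, hxU⟩
    · simp only [isPreirreducible_iff_isClosed_union_isClosed, not_forall, not_or] at h₁
      obtain ⟨z₁, z₂, hz₁, hz₂, h, hz₁', hz₂'⟩ := h₁
      lift z₁ to Closeds T using hz₁
      lift z₂ to Closeds T using hz₂
      have q1 := H (Z ⊓ z₁) (inf_lt_left.2 hz₁')
      have q2 := H (Z ⊓ z₂) (inf_lt_left.2 hz₂')
      refine hmono _ _ ?_ (hun _ _ q1 q2)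
      intro x hx
      rcases h hx with h1 | h2
      · left; exact ⟨hx, h1⟩
      · right; exact ⟨hx, h2⟩

theorem noeth_induction_open {T : Type*} [TopologicalSpace T] [QuasiSober T] (V : Opens T)
    [NoetherianSpace V]
    (Q : Set T → Prop) (h0 : Q ∅) (hmono : ∀ A B : Set T, A ⊆ B → Q B → Q A)
    (hun : ∀ A B : Set T, Q A → Q B → Q (A ∪ B))
    (hloc : ∀ η ∈ V, ∃ U : Set T, IsOpen U ∧ η ∈ U ∧ Q (U ∩ closure {η})) : Q (V : Set T) := by
  haveI : QuasiSober V := V.isOpenEmbedding'.quasiSober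
  have key := noeth_induction (T := V) (fun A => Q (Subtype.val '' A)) (by simpa using h0)
    (fun A B hAB hB => hmono _ _ (Set.image_mono hAB) hB)
    (fun A B hA hB => by rw [Set.image_union]; exact hun _ _ hA hB)
    (fun η => by
      obtain ⟨U, hUo, hηU, hQ⟩ := hloc η.1 η.2
      refine ⟨Subtype.val ⁻¹' U, hUo.preimage continuous_subtype_val, hηU, hmono _ _ ?_ hQ⟩
      rintro _ ⟨y, ⟨hyU, hycl⟩, rfl⟩
      refine ⟨hyU, ?_⟩
      have h1 := image_closure_subset_closure_image (continuous_subtype_val (p := fun x => x ∈ V))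
        (s := {η}) ⟨y, hycl, rfl⟩
      simpa using h1)
  simpa using key

end topology

variable {X : Scheme.{u}}

/-- a presheaf of ideals of the structure sheaf -/
structure IdealPre (X : Scheme.{u}) where
  /-- the ideal of sections over an open -/
  I : (W : X.Opens) → Ideal Γ(X, W)
  res : ∀ {W W' : X.Opens} (h : W' ≤ W) (a : Γ(X, W)), a ∈ I W →
    X.presheaf.map (homOfLE h).op a ∈ I W'

namespace IdealPre

variable (𝓘 : IdealPre X)

lemma map_le {W W' : X.Opens} (h : W' ≤ W) :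
    (𝓘.I W).map (X.presheaf.map (homOfLE h).op).hom ≤ 𝓘.I W' :=
  Ideal.map_le_iff_le_comap.2 (fun a ha => 𝓘.res h a ha)

/-- the ideal of the local ring at `η` generated by the germs of local sections -/
noncomputable def germI (η : X) : Ideal (X.presheaf.stalk η) :=
  Ideal.span {y | ∃ (W : X.Opens) (h : η ∈ W) (a : Γ(X, W)),
    a ∈ 𝓘.I W ∧ X.presheaf.germ W η h a = y}

lemma germ_mem_germI {η : X} {W : X.Opens} (h : η ∈ W) {a : Γ(X, W)} (ha : a ∈ 𝓘.I W) :
    X.presheaf.germ W η h a ∈ 𝓘.germI η :=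
  Ideal.subset_span ⟨W, h, a, ha, rfl⟩

lemma map_germ_le {η : X} {W : X.Opens} (h : η ∈ W) :
    (𝓘.I W).map (X.presheaf.germ W η h).hom ≤ 𝓘.germI η :=
  Ideal.map_le_iff_le_comap.2 (fun _ ha => 𝓘.germ_mem_germI h ha)

lemma exists_open_of_finset (η : X) (U₀ : X.Opens) (hη₀ : η ∈ U₀)
    (T : Finset (X.presheaf.stalk η))
    (hT : ∀ y ∈ T, ∃ (W : X.Opens) (h : η ∈ W) (a : Γ(X, W)),
      a ∈ 𝓘.I W ∧ X.presheaf.germ W η h a = y) :
    ∃ (W₀ : X.Opens) (_ : W₀ ≤ U₀) (h : η ∈ W₀), ∀ y ∈ T, ∃ a : Γ(X, W₀),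
      a ∈ 𝓘.I W₀ ∧ X.presheaf.germ W₀ η h a = y := by
  classical
  induction T using Finset.induction_on with
  | empty => exact ⟨U₀, le_rfl, hη₀, fun y hy => absurd hy (Finset.notMem_empty y)⟩
  | insert z T hz ih =>
    obtain ⟨W₀, hW₀, h, hall⟩ := ih (fun y hy => hT y (Finset.mem_insert_of_mem hy))
    obtain ⟨W, hW, a, ha, hay⟩ := hT z (Finset.mem_insert_self z T)
    refine ⟨W₀ ⊓ W, inf_le_left.trans hW₀, ⟨h, hW⟩, ?_⟩
    intro y hy
    rcases Finset.mem_insert.1 hy with rfl | hy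
    · refine ⟨X.presheaf.map (homOfLE inf_le_right).op a, 𝓘.res _ a ha, ?_⟩
      rw [← hay]
      exact TopCat.Presheaf.germ_res_apply X.presheaf (homOfLE inf_le_right) η ⟨h, hW⟩ a
    · obtain ⟨b, hb, hby⟩ := hall y hy
      refine ⟨X.presheaf.map (homOfLE inf_le_left).op b, 𝓘.res _ b hb, ?_⟩
      rw [← hby]
      exact TopCat.Presheaf.germ_res_apply X.presheaf (homOfLE inf_le_left) η ⟨h, hW⟩ b

theorem exists_affine_germI_eq (η : X) [IsNoetherianRing (X.presheaf.stalk η)] (U₀ : X.Opens)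
    (hη₀ : η ∈ U₀) :
    ∃ (U : X.Opens) (_ : IsAffineOpen U) (_ : U ≤ U₀) (hη : η ∈ U),
      𝓘.germI η = (𝓘.I U).map (X.presheaf.germ U η hη).hom := by
  have hfg : (𝓘.germI η).FG := IsNoetherian.noetherian _
  obtain ⟨T, hTsub, hT⟩ := (Submodule.fg_span_iff_fg_span_finset_subset _).1 hfg
  obtain ⟨W₀, hW₀, hηW₀, hall⟩ := 𝓘.exists_open_of_finset η U₀ hη₀ T (fun y hy => hTsub hy)
  obtain ⟨_, ⟨U, hU, rfl⟩, hηU, hUW₀⟩ :=
    X.isBasis_affineOpens.exists_subset_of_mem_open hηW₀ W₀.isOpen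
  refine ⟨U, hU, (show U ≤ W₀ from hUW₀).trans hW₀, hηU, le_antisymm ?_ (𝓘.map_germ_le hηU)⟩
  change Submodule.span _ _ ≤ _
  rw [hT, Submodule.span_le]
  intro y hy
  obtain ⟨a, ha, hay⟩ := hall y hy
  have h1 : X.presheaf.germ U η hηU (X.presheaf.map (homOfLE hUW₀).op a) = y := by
    rw [← hay]
    exact TopCat.Presheaf.germ_res_apply X.presheaf (homOfLE hUW₀) η hηU a
  rw [← h1]
  exact Ideal.mem_map_of_mem _ (𝓘.res _ a ha)

/-- the local statement near the specialisations of `η` -/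
theorem exists_local [IsLocallyNoetherian X] (η : X) (U₀ : X.Opens) (hη₀ : η ∈ U₀) :
    ∃ (U : X.Opens) (_ : IsAffineOpen U) (_ : U ≤ U₀) (f : Γ(X, U)), η ∈ X.basicOpen f ∧
      ∀ (V : X.Opens) (t : Γ(X, V)) (x : X) (_ : x ∈ V) (_ : x ∈ X.basicOpen f) (hηV : η ∈ V),
        η ⤳ x → X.presheaf.germ V η hηV t ∈ 𝓘.germI η →
        ∃ (W : X.Opens) (hWV : W ≤ V) (hWU : W ≤ U), x ∈ W ∧
          X.presheaf.map (homOfLE hWV).op t ∈ (𝓘.I U).map (X.presheaf.map (homOfLE hWU).op).hom := by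
  obtain ⟨U, hU, hUU₀, hηU, heq⟩ := 𝓘.exists_affine_germI_eq η U₀ hη₀
  haveI : IsNoetherianRing Γ(X, U) := IsLocallyNoetherian.component_noetherian ⟨U, hU⟩
  obtain ⟨f, hηf, hf⟩ := exists_basicOpen_local_mem hU η hηU (𝓘.I U)
  refine ⟨U, hU, hUU₀, f, hηf, ?_⟩
  intro V t x hxV hxf hηV hsp hgerm
  rw [heq] at hgerm
  exact hf V t x hxV hxf hηV hsp hgerm

/-- ascending chains of presheaves of ideals are locally stationary, uniformly over a Noetherian
open -/
theorem chain_stabilizes [IsLocallyNoetherian X] (𝓘 : ℕ → IdealPre X)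
    (hmono : ∀ n m, n ≤ m → ∀ W, (𝓘 n).I W ≤ (𝓘 m).I W) (V : X.Opens) [NoetherianSpace V] :
    ∃ N, ∀ n, N ≤ n → ∀ x ∈ V, ∀ (W : X.Opens) (a : Γ(X, W)), x ∈ W → a ∈ (𝓘 n).I W →
      ∃ (W' : X.Opens) (h : W' ≤ W), x ∈ W' ∧ X.presheaf.map (homOfLE h).op a ∈ (𝓘 N).I W' := by
  let Q : Set X → Prop := fun A => ∃ N, ∀ n, N ≤ n → ∀ x ∈ A, ∀ (W : X.Opens) (a : Γ(X, W)),
    x ∈ W → a ∈ (𝓘 n).I W →
      ∃ (W' : X.Opens) (h : W' ≤ W), x ∈ W' ∧ X.presheaf.map (homOfLE h).op a ∈ (𝓘 N).I W'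
  have hQ : Q (V : Set X) := by
    refine @noeth_induction_open X _ _ V ‹_› Q ?_ ?_ ?_ ?_
    · exact ⟨0, fun n _ x hx => absurd hx (Set.notMem_empty x)⟩
    · rintro A B hAB ⟨N, hN⟩
      exact ⟨N, fun n hn x hx => hN n hn x (hAB hx)⟩
    · rintro A B ⟨N₁, h₁⟩ ⟨N₂, h₂⟩
      refine ⟨max N₁ N₂, fun n hn x hx W a hxW ha => ?_⟩
      rcases hx with hx | hx
      · obtain ⟨W', h, hxW', hmem⟩ := h₁ n ((le_max_left _ _).trans hn) x hx W a hxW ha
        exact ⟨W', h, hxW', hmono _ _ (le_max_left _ _) W' hmem⟩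
      · obtain ⟨W', h, hxW', hmem⟩ := h₂ n ((le_max_right _ _).trans hn) x hx W a hxW ha
        exact ⟨W', h, hxW', hmono _ _ (le_max_right _ _) W' hmem⟩
    · intro η _
      -- the chain of ideals of germs at `η` is stationary
      have hgmono : Monotone (fun n => (𝓘 n).germI η) := by
        intro n m hnm
        apply Ideal.span_mono
        rintro y ⟨W, h, a, ha, rfl⟩
        exact ⟨W, h, a, hmono n m hnm W ha, rfl⟩
      obtain ⟨N₀, hN₀⟩ := (monotone_stabilizes_iff_noetherian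
        (R := X.presheaf.stalk η) (M := X.presheaf.stalk η)).2 inferInstance ⟨_, hgmono⟩
      obtain ⟨U, hU, -, f, hηf, hf⟩ := (𝓘 N₀).exists_local η ⊤ trivial
      refine ⟨X.basicOpen f, (X.basicOpen f).isOpen, hηf, N₀, ?_⟩
      intro n hn x hx W a hxW ha
      have hsp : η ⤳ x := specializes_iff_mem_closure.2 hx.2
      have hηW : η ∈ W := hsp.mem_open W.isOpen hxW
      have hg : X.presheaf.germ W η hηW a ∈ (𝓘 N₀).germI η := by
        have h1 : (𝓘 N₀).germI η = (𝓘 n).germI η := hN₀ n hn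
        rw [h1]
        exact (𝓘 n).germ_mem_germI hηW ha
      obtain ⟨W', hW'W, hW'U, hxW', hmem⟩ := hf W a x hxW hx.1 hηW hsp hg
      exact ⟨W', hW'W, hxW', (𝓘 N₀).map_le hW'U hmem⟩
  exact hQ

/-- finitely many local sections generate a presheaf of ideals locally, over a Noetherian open -/
theorem exists_finite_gen [IsLocallyNoetherian X] (𝓘 : IdealPre X) (V : X.Opens)
    [NoetherianSpace V] :
    ∃ S : Set (Σ U : X.Opens, Γ(X, U)), S.Finite ∧
      (∀ p ∈ S, IsAffineOpen p.1 ∧ p.1 ≤ V ∧ p.2 ∈ 𝓘.I p.1) ∧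
      ∀ x ∈ V, ∀ (W : X.Opens) (a : Γ(X, W)), x ∈ W → a ∈ 𝓘.I W →
        ∃ (W' : X.Opens) (h : W' ≤ W), x ∈ W' ∧ X.presheaf.map (homOfLE h).op a ∈
          Ideal.span {b | ∃ p ∈ S, ∃ h' : W' ≤ p.1, X.presheaf.map (homOfLE h').op p.2 = b} := by
  let Q : Set X → Prop := fun A => ∃ S : Set (Σ U : X.Opens, Γ(X, U)), S.Finite ∧
      (∀ p ∈ S, IsAffineOpen p.1 ∧ p.1 ≤ V ∧ p.2 ∈ 𝓘.I p.1) ∧
      ∀ x ∈ A, ∀ (W : X.Opens) (a : Γ(X, W)), x ∈ W → a ∈ 𝓘.I W →
        ∃ (W' : X.Opens) (h : W' ≤ W), x ∈ W' ∧ X.presheaf.map (homOfLE h).op a ∈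
          Ideal.span {b | ∃ p ∈ S, ∃ h' : W' ≤ p.1, X.presheaf.map (homOfLE h').op p.2 = b}
  have hQ : Q (V : Set X) := by
    refine @noeth_induction_open X _ _ V ‹_› Q ?_ ?_ ?_ ?_
    · exact ⟨∅, Set.finite_empty, fun p hp => absurd hp (Set.notMem_empty p),
        fun x hx => absurd hx (Set.notMem_empty x)⟩
    · rintro A B hAB ⟨S, hSf, hS, h⟩
      exact ⟨S, hSf, hS, fun x hx => h x (hAB hx)⟩
    · rintro A B ⟨S₁, hSf₁, hS₁, h₁⟩ ⟨S₂, hSf₂, hS₂, h₂⟩
      refine ⟨S₁ ∪ S₂, hSf₁.union hSf₂, ?_, ?_⟩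
      · rintro p (hp | hp)
        · exact hS₁ p hp
        · exact hS₂ p hp
      · intro x hx W a hxW ha
        rcases hx with hx | hx
        · obtain ⟨W', h, hxW', hmem⟩ := h₁ x hx W a hxW ha
          refine ⟨W', h, hxW', Ideal.span_mono ?_ hmem⟩
          rintro b ⟨p, hp, h', rfl⟩
          exact ⟨p, Or.inl hp, h', rfl⟩
        · obtain ⟨W', h, hxW', hmem⟩ := h₂ x hx W a hxW ha
          refine ⟨W', h, hxW', Ideal.span_mono ?_ hmem⟩
          rintro b ⟨p, hp, h', rfl⟩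
          exact ⟨p, Or.inr hp, h', rfl⟩
    · intro η hηV
      obtain ⟨U, hU, hUV, f, hηf, hf⟩ := 𝓘.exists_local η V hηV
      haveI : IsNoetherianRing Γ(X, U) := IsLocallyNoetherian.component_noetherian ⟨U, hU⟩
      obtain ⟨B, hB⟩ := (isNoetherianRing_iff_ideal_fg Γ(X, U)).1 inferInstance (𝓘.I U)
      refine ⟨X.basicOpen f, (X.basicOpen f).isOpen, hηf,
        (fun b => (⟨U, b⟩ : Σ U : X.Opens, Γ(X, U))) '' (B : Set Γ(X, U)),
        (Finset.finite_toSet B).image _, ?_, ?_⟩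
      · rintro _ ⟨b, hb, rfl⟩
        exact ⟨hU, hUV, hB ▸ Ideal.subset_span hb⟩
      · intro x hx W a hxW ha
        have hsp : η ⤳ x := specializes_iff_mem_closure.2 hx.2
        have hηW : η ∈ W := hsp.mem_open W.isOpen hxW
        obtain ⟨W', hW'W, hW'U, hxW', hmem⟩ :=
          hf W a x hxW hx.1 hηW hsp (𝓘.germ_mem_germI hηW ha)
        refine ⟨W', hW'W, hxW', ?_⟩
        rw [← hB, Ideal.map_span] at hmem
        refine Ideal.span_mono ?_ hmem
        rintro _ ⟨b, hb, rfl⟩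
        exact ⟨⟨U, b⟩, ⟨b, hb, rfl⟩, hW'U, rfl⟩
  exact hQ

end IdealPre

end Groth.Agent.Lib.H6xIdealGen
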