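import Mathlib
import Groth.Prelude.Def_FlatMod2
import Groth.Prelude.Def_CxOX
import Groth.Agent.Lib.Helper23GenLocus
import Groth.Agent.Lib.Helper26FpqcMod
import Groth.Agent.Lib.H6xMVA
import Groth.Agent.Lib.H6xIdealGenB
set_option backward.isDefEq.respectTransparency.types false

/-!
# Submodules of the structure sheaf on locally Noetherian schemes (helper6)

* `secL ι W`, `imgPre ι`: the presheaf of ideals image of `ι : G ⟶ O_X`.
* `thetaJ j : j_! O_U ⟶ O_X` and `Mono (thetaJ j)`.
* `exists_res_eq_zero_of_isZero_stalk`.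
* `exists_finite_sections`: finitely many local sections generate a submodule of `O_X` locally
  over a Noetherian open.
-/

set_option autoImplicit false
set_option linter.style.haveILetI false
universe u
open CategoryTheory CategoryTheory.Limits AlgebraicGeometry TopologicalSpace Opposite

namespace Groth.Agent.Lib.H6xIdealGen

open Groth.Agent.Lib.Helper23.GenLocus Groth.Agent.Lib.Helper23.Extend
  Groth.Agent.Lib.Helper1.Sky Groth.Agent.Lib.Helper1.StalkTensor Groth.Agent.Lib.Helper26.FpqcMod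
  Groth.Agent.Lib.H6xMV

variable {X : Scheme.{u}}

section secL

variable {G : X.Modules} (ι : G ⟶ Coh.structureModule X)

/-- `ι` on sections, as a linear map to the ring of functions -/
noncomputable def secL (W : X.Opens) : Γ(G, W) →ₗ[Γ(X, W)] Γ(X, W) where
  toFun t := ofS W (ι.app W t)
  map_add' s t := by
    have e : ι.app W (s + t) = ι.app W s + ι.app W t := map_add (ι.app W).hom s t
    rw [e]; rfl
  map_smul' r t := by
    rw [Scheme.Modules.Hom.app_smul]; rfl

lemma secL_apply (W : X.Opens) (t : Γ(G, W)) : secL ι W t = ofS W (ι.app W t) := rfl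

lemma secL_res {W W' : X.Opens} (h : W' ≤ W) (t : Γ(G, W)) :
    secL ι W' (G.presheaf.map (homOfLE h).op t) = X.presheaf.map (homOfLE h).op (secL ι W t) := by
  rw [secL_apply, app_map ι (homOfLE h) t]
  rfl

lemma secL_comp {G' : X.Modules} (τ : G' ⟶ G) (W : X.Opens) (t : Γ(G', W)) :
    secL (τ ≫ ι) W t = secL ι W (τ.app W t) := rfl

lemma secL_injective [Mono ι] (W : X.Opens) : Function.Injective (secL ι W) := by
  intro s t h
  exact injective_app_of_mono ι W h

/-- the presheaf of ideals image of `ι` -/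
noncomputable def imgPre : IdealPre X where
  I W := LinearMap.range (secL ι W)
  res h a := by
    rintro ⟨t, rfl⟩
    exact ⟨G.presheaf.map (homOfLE h).op t, secL_res ι h t⟩

lemma mem_imgPre (W : X.Opens) (t : Γ(G, W)) : secL ι W t ∈ (imgPre ι).I W := ⟨t, rfl⟩

end secL

section zero

/-- a section of a module whose stalk at `x` vanishes is zero near `x` -/
lemma exists_res_eq_zero_of_isZero_stalk (M : X.Modules) (x : X)
    (hz : IsZero ((stalkFun x).obj M)) (W : X.Opens) (hx : x ∈ W) (t : Γ(M, W)) :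
    ∃ (W' : X.Opens) (h : W' ≤ W), x ∈ W' ∧ M.presheaf.map (homOfLE h).op t = 0 := by
  haveI : Subsingleton (St (toPM M) x) := ModuleCat.subsingleton_of_isZero hz
  have h0 : gm (toPM M) x W hx t = gm (toPM M) x W hx 0 := Subsingleton.elim _ _
  obtain ⟨W', hxW', iU, iV, e⟩ := gm_eq hx hx t 0 h0
  refine ⟨W', iU.le, hxW', ?_⟩
  rw [map_zero] at e
  exact e

/-- a subobject of a module with zero stalk at `x` has zero stalk at `x` -/
lemma isZero_stalk_of_mono {M N : X.Modules} (μ : M ⟶ N) [Mono μ] (x : X)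
    (hz : IsZero ((stalkFun x).obj N)) : IsZero ((stalkFun x).obj M) := by
  haveI : Mono ((stalkFun x).map μ) :=
    (ModuleCat.mono_iff_injective _).2 ((mono_iff_stalk μ).1 inferInstance x)
  exact IsZero.of_mono ((stalkFun x).map μ) hz

end zero

section theta

variable {U : Scheme.{u}} (j : U ⟶ X) [IsOpenImmersion j]

/-- the canonical map `j_! O_U ⟶ O_X` -/
noncomputable def thetaJ : CxOX.extZeroUnit j ⟶ Coh.structureModule X :=
  (CxOX.extZero j).map (Scheme.Modules.restrictUnitIso j).inv ≫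
    (CxOX.extZeroAdj j).counit.app (Coh.structureModule X)

instance mono_thetaJ : Mono (thetaJ j) := by
  rw [mono_iff_stalk]
  intro x
  by_cases hx : x ∈ Set.range j.base
  · haveI := isIso_stalk_counit j (Coh.structureModule X) x hx
    haveI : IsIso ((stalkFun x).map (thetaJ j)) := by
      unfold thetaJ
      rw [Functor.map_comp]
      infer_instance
    exact (ConcreteCategory.bijective_of_isIso ((stalkFun x).map (thetaJ j))).1
  · have hz := isZero_stalk_extZero j x hx (Coh.structureModule U)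
    haveI : Subsingleton ((stalkFun x).obj (CxOX.extZeroUnit j)) :=
      ModuleCat.subsingleton_of_isZero hz
    intro a b _
    exact Subsingleton.elim _ _

end theta

section fingen

variable {G : X.Modules} (ι : G ⟶ Coh.structureModule X)

/-- finitely many local sections generate a submodule of `O_X` locally, over a Noetherian
open -/
theorem exists_finite_sections [IsLocallyNoetherian X] [Mono ι] (V : X.Opens)
    [NoetherianSpace V] :
    ∃ S : Set (Σ U : X.Opens, Γ(G, U)), S.Finite ∧ (∀ p ∈ S, IsAffineOpen p.1 ∧ p.1 ≤ V) ∧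
      ∀ x ∈ V, ∀ (W : X.Opens) (t : Γ(G, W)), x ∈ W →
        ∃ (W' : X.Opens) (h : W' ≤ W), x ∈ W' ∧ G.presheaf.map (homOfLE h).op t ∈
          Submodule.span Γ(X, W')
            {u | ∃ p ∈ S, ∃ h' : W' ≤ p.1, G.presheaf.map (homOfLE h').op p.2 = u} := by
  classical
  obtain ⟨S₀, hS₀f, hS₀, hgen⟩ := (imgPre ι).exists_finite_gen V
  let c : (Σ U : X.Opens, Γ(X, U)) → (Σ U : X.Opens, Γ(G, U)) := fun p =>
    if h : p.2 ∈ LinearMap.range (secL ι p.1) then ⟨p.1, h.choose⟩ else ⟨p.1, 0⟩
  have hc : ∀ p ∈ S₀, ∃ s : Γ(G, p.1), c p = ⟨p.1, s⟩ ∧ secL ι p.1 s = p.2 := by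
    intro p hp
    have h : p.2 ∈ LinearMap.range (secL ι p.1) := (hS₀ p hp).2.2
    exact ⟨h.choose, dif_pos h, h.choose_spec⟩
  refine ⟨c '' S₀, hS₀f.image c, ?_, ?_⟩
  · rintro _ ⟨p, hp, rfl⟩
    obtain ⟨s, hs, -⟩ := hc p hp
    rw [hs]
    exact ⟨(hS₀ p hp).1, (hS₀ p hp).2.1⟩
  · intro x hx W t hxW
    obtain ⟨W', h, hxW', hmem⟩ := hgen x hx W (secL ι W t) hxW (mem_imgPre ι W t)
    refine ⟨W', h, hxW', ?_⟩
    rw [← secL_res ι h t] at hmem
    have hle : Ideal.span {b | ∃ p ∈ S₀, ∃ h' : W' ≤ p.1, X.presheaf.map (homOfLE h').op p.2 = b} ≤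
        Submodule.map (secL ι W') (Submodule.span Γ(X, W')
          {u | ∃ p ∈ c '' S₀, ∃ h' : W' ≤ p.1, G.presheaf.map (homOfLE h').op p.2 = u}) := by
      change Submodule.span _ _ ≤ _
      rw [Submodule.span_le]
      rintro b ⟨p, hp, h', rfl⟩
      obtain ⟨s, hs, hsp⟩ := hc p hp
      refine ⟨G.presheaf.map (homOfLE h').op s, Submodule.subset_span ?_, ?_⟩
      · refine ⟨c p, ⟨p, hp, rfl⟩, ?_⟩
        rw [hs]
        exact ⟨h', rfl⟩
      · rw [secL_res ι h' s, hsp]
    obtain ⟨t'', ht'', e⟩ := hle hmem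
    rw [← secL_injective ι W' e]
    exact ht''

end fingen

end Groth.Agent.Lib.H6xIdealGen
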