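import Mathlib
import Groth.Prelude.Def_CxOX
import Groth.Agent.Lib.H6xBaerSch
import Groth.Agent.Lib.H6xIdealGenC
set_option backward.isDefEq.respectTransparency.types false

/-!
# Injectivity of `O_X`-modules is local (helper6)
-/

set_option autoImplicit false
set_option linter.style.haveILetI false
universe u
open CategoryTheory CategoryTheory.Limits AlgebraicGeometry TopologicalSpace Opposite

namespace Groth.Agent.Lib.H6xInjLocal

open Groth.Agent.Lib.Helper1.Sky Groth.Agent.Lib.Helper1.StalkTensor Groth.Agent.Lib.H6xMV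
  Groth.Agent.Lib.Helper26.FpqcMod Groth.Agent.Lib.H6xIdealGen

/-- the counit `j_! j^* M ⟶ M` is an isomorphism when the stalks of `M` vanish outside the
open -/
lemma isIso_counit_of_isZero_stalk {U X : Scheme.{u}} (j : U ⟶ X) [IsOpenImmersion j]
    (M : X.Modules) (hM : ∀ x : X, x ∉ Set.range j.base → IsZero ((stalkFun x).obj M)) :
    IsIso ((CxOX.extZeroAdj j).counit.app M) := by
  rw [isIso_iff_stalk]
  intro x
  by_cases hx : x ∈ Set.range j.base
  · haveI := isIso_stalk_counit j M x hx
    exact ConcreteCategory.bijective_of_isIso _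
  · have h1 := isZero_stalk_extZero j x hx ((Scheme.Modules.restrictFunctor j).obj M)
    have h2 := hM x hx
    haveI : Subsingleton ((stalkFun x).obj
        ((Scheme.Modules.restrictFunctor j ⋙ CxOX.extZero j).obj M)) :=
      ModuleCat.subsingleton_of_isZero h1
    haveI : Subsingleton ((stalkFun x).obj ((𝟭 X.Modules).obj M)) :=
      ModuleCat.subsingleton_of_isZero h2
    exact ⟨fun a b _ => Subsingleton.elim _ _, fun b => ⟨0, Subsingleton.elim _ _⟩⟩

variable {X : Scheme.{u}}

theorem injective_of_locally_injective (F : X.Modules)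
    (hF : ∀ x : X, ∃ U : X.Opens, x ∈ U ∧
      Injective ((Scheme.Modules.restrictFunctor U.ι).obj F)) :
    Injective F := by
  apply Groth.Agent.Lib.H6xBaerSch.injective_of_extension_basis
    {V | ∃ U : X.Opens, V ≤ U ∧ Injective ((Scheme.Modules.restrictFunctor U.ι).obj F)}
  · intro W x hxW
    obtain ⟨U, hxU, hU⟩ := hF x
    exact ⟨W ⊓ U, ⟨U, inf_le_right, hU⟩, ⟨hxW, hxU⟩, inf_le_left⟩
  · rintro V ⟨U, hVU, hU⟩ K g
    have hPz : ∀ x, x ∉ Set.range U.ι.base →
        IsZero ((stalkFun x).obj (CxOX.extZeroUnit V.ι)) := by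
      intro x hx
      apply isZero_stalk_extZero V.ι x
      intro hxV
      apply hx
      rw [Scheme.Opens.range_ι] at hxV ⊢
      exact hVU hxV
    have hKz : ∀ x, x ∉ Set.range U.ι.base → IsZero ((stalkFun x).obj (K : X.Modules)) :=
      fun x hx => isZero_stalk_of_mono K.arrow x (hPz x hx)
    haveI := isIso_counit_of_isZero_stalk U.ι (CxOX.extZeroUnit V.ι) hPz
    haveI := isIso_counit_of_isZero_stalk U.ι (K : X.Modules) hKz
    let R := Scheme.Modules.restrictFunctor U.ι
    let L := CxOX.extZero U.ι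
    let ε := (CxOX.extZeroAdj U.ι).counit
    haveI : Mono (R.map K.arrow) := inferInstance
    let h' : R.obj (CxOX.extZeroUnit V.ι) ⟶ R.obj F :=
      Injective.factorThru (R.map g) (R.map K.arrow)
    have hh' : R.map K.arrow ≫ h' = R.map g := Injective.comp_factorThru _ _
    have nat1 : L.map (R.map K.arrow) ≫ ε.app (CxOX.extZeroUnit V.ι) =
        ε.app (K : X.Modules) ≫ K.arrow := ε.naturality K.arrow
    have nat2 : L.map (R.map g) ≫ ε.app F = ε.app (K : X.Modules) ≫ g := ε.naturality g
    refine ⟨inv (ε.app (CxOX.extZeroUnit V.ι)) ≫ L.map h' ≫ ε.app F, ?_⟩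
    have e1 : K.arrow ≫ inv (ε.app (CxOX.extZeroUnit V.ι)) =
        inv (ε.app (K : X.Modules)) ≫ L.map (R.map K.arrow) := by
      rw [IsIso.eq_inv_comp, ← Category.assoc, ← nat1, Category.assoc, IsIso.hom_inv_id,
        Category.comp_id]
    rw [← Category.assoc, e1, Category.assoc, ← Category.assoc (L.map (R.map K.arrow)),
      ← L.map_comp, hh', nat2, IsIso.inv_hom_id_assoc]

end Groth.Agent.Lib.H6xInjLocal
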