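import Mathlib
import Groth.Prelude.Def_CxOX
import Groth.Agent.Lib.H6xMVA
import Groth.Agent.Lib.Helper26FpqcMod
set_option backward.isDefEq.respectTransparency.types false

/-!
# Extension by zero preserves monomorphisms; restriction to an open preserves injectives (helper6)
-/

set_option autoImplicit false
set_option linter.style.haveILetI false
universe u
open CategoryTheory CategoryTheory.Limits AlgebraicGeometry TopologicalSpace Opposite

namespace Groth.Agent.Lib.H6xInjQc

open Groth.Agent.Lib.Helper1.Sky Groth.Agent.Lib.Helper1.StalkTensor Groth.Agent.Lib.H6xMV
  Groth.Agent.Lib.Helper26.FpqcMod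

variable {U X : Scheme.{u}} (j : U ⟶ X) [IsOpenImmersion j]

/-- a morphism which becomes a monomorphism on an open is injective on stalks at its points -/
lemma injective_stalk_of_mono_restrict {M N : X.Modules} (φ : M ⟶ N)
    [Mono ((Scheme.Modules.restrictFunctor j).map φ)] (y : U) :
    Function.Injective ((stalkFun (j y)).map φ).hom := by
  haveI : Mono ((Scheme.Modules.pullback j).map φ) := by
    have e := (Scheme.Modules.restrictFunctorIsoPullback j).hom.naturality φ
    have e' : (Scheme.Modules.pullback j).map φ =
        (Scheme.Modules.restrictFunctorIsoPullback j).inv.app M ≫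
          (Scheme.Modules.restrictFunctor j).map φ ≫
            (Scheme.Modules.restrictFunctorIsoPullback j).hom.app N := by
      rw [e, Iso.inv_hom_id_app_assoc]
    rw [e']
    infer_instance
  have hb := (mono_iff_stalk ((Scheme.Modules.pullback j).map φ)).1 inferInstance y
  exact (injective_iff j y φ).1 hb

instance preservesMonomorphisms_extZero : (CxOX.extZero j).PreservesMonomorphisms := by
  constructor
  intro G G' φ _
  rw [mono_iff_stalk]
  intro x
  by_cases hx : x ∈ Set.range j.base
  · obtain ⟨y, rfl⟩ := hx
    haveI : Mono ((Scheme.Modules.restrictFunctor j).map ((CxOX.extZero j).map φ)) := by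
      have e := (CxOX.extZeroAdj j).unit.naturality φ
      have e' : (Scheme.Modules.restrictFunctor j).map ((CxOX.extZero j).map φ) =
          inv ((CxOX.extZeroAdj j).unit.app G) ≫ φ ≫ (CxOX.extZeroAdj j).unit.app G' := by
        rw [IsIso.eq_inv_comp]
        exact e.symm
      rw [e']
      infer_instance
    exact injective_stalk_of_mono_restrict j _ y
  · have hz := isZero_stalk_extZero j x hx G
    haveI : Subsingleton ((stalkFun x).obj ((CxOX.extZero j).obj G)) :=
      ModuleCat.subsingleton_of_isZero hz
    intro a b _
    exact Subsingleton.elim _ _

/-- restriction to an open subscheme preserves injective objects -/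
theorem injective_restrict (I : X.Modules) [Injective I] :
    Injective ((Scheme.Modules.restrictFunctor j).obj I) :=
  Injective.injective_of_adjoint (CxOX.extZeroAdj j) I

/-- pushforward along an open immersion preserves injective objects -/
theorem injective_pushforward (J : U.Modules) [Injective J] :
    Injective ((Scheme.Modules.pushforward j).obj J) :=
  Injective.injective_of_adjoint (Scheme.Modules.restrictAdjunction j) J

end Groth.Agent.Lib.H6xInjQc
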