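import Mathlib
import Groth.Prelude.Def_CxOX
import Groth.Agent.Lib.H6xEssA
import Groth.Agent.Lib.H6xInjQcA
import Groth.Agent.Lib.H6xInjLocal
set_option backward.isDefEq.respectTransparency.types false

/-!
# Restriction to an open subscheme preserves essential monomorphisms (helper6)
-/

set_option autoImplicit false
set_option linter.style.haveILetI false
universe u
open CategoryTheory CategoryTheory.Limits AlgebraicGeometry TopologicalSpace Opposite

namespace Groth.Agent.Lib.H6xEss

open Groth.Agent.Lib.Helper1.Sky Groth.Agent.Lib.Helper1.StalkTensor Groth.Agent.Lib.H6xMV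
  Groth.Agent.Lib.Helper26.FpqcMod Groth.Agent.Lib.H6xInjQc

variable {U X : Scheme.{u}} (j : U ⟶ X) [IsOpenImmersion j]

/-- the counit `j_! j^* M ⟶ M` is a monomorphism -/
lemma mono_counit (M : X.Modules) : Mono ((CxOX.extZeroAdj j).counit.app M) := by
  rw [mono_iff_stalk]
  intro x
  by_cases hx : x ∈ Set.range j.base
  · haveI := isIso_stalk_counit j M x hx
    exact (ConcreteCategory.bijective_of_isIso _).1
  · have h1 := isZero_stalk_extZero j x hx ((Scheme.Modules.restrictFunctor j).obj M)
    haveI : Subsingleton ((stalkFun x).obj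
        ((Scheme.Modules.restrictFunctor j ⋙ CxOX.extZero j).obj M)) :=
      ModuleCat.subsingleton_of_isZero h1
    intro a b _
    exact Subsingleton.elim _ _

instance : (Scheme.Modules.restrictFunctor j).PreservesMonomorphisms :=
  Functor.preservesMonomorphisms_of_adjunction (CxOX.extZeroAdj j)

/-- a subobject of `j_! K` whose restriction to the open vanishes is zero -/
lemma isZero_of_mono_extZero {T : X.Modules} {K : U.Modules} (b : T ⟶ (CxOX.extZero j).obj K)
    [Mono b] (hT : IsZero ((Scheme.Modules.restrictFunctor j).obj T)) : IsZero T := by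
  haveI := Groth.Agent.Lib.H6xInjLocal.isIso_counit_of_isZero_stalk j T (fun x hx =>
    Groth.Agent.Lib.H6xIdealGen.isZero_stalk_of_mono b x (isZero_stalk_extZero j x hx K))
  have h1 : IsZero ((CxOX.extZero j).obj ((Scheme.Modules.restrictFunctor j).obj T)) :=
    Functor.map_isZero (CxOX.extZero j) hT
  exact IsZero.of_iso h1 (asIso ((CxOX.extZeroAdj j).counit.app T)).symm

/-- **restriction to an open subscheme preserves essential monomorphisms** -/
theorem isEss_restrict {F I : X.Modules} {i : F ⟶ I} (hi : IsEss i) :
    IsEss ((Scheme.Modules.restrictFunctor j).map i) := by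
  haveI := hi.mono
  refine ⟨inferInstance, ?_⟩
  intro Z g hg
  let R := Scheme.Modules.restrictFunctor j
  let L := CxOX.extZero j
  let adj := CxOX.extZeroAdj j
  let k : kernel g ⟶ R.obj I := kernel.ι g
  haveI := mono_counit j I
  let m : L.obj (kernel g) ⟶ I := L.map k ≫ adj.counit.app I
  haveI : Mono m := mono_comp _ _
  -- `R m` is `k` up to the unit isomorphism
  have hRm : adj.unit.app (kernel g) ≫ R.map m = k := by
    change adj.unit.app (kernel g) ≫ R.map (L.map k ≫ adj.counit.app I) = k
    rw [R.map_comp, ← Category.assoc]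
    have h1 := adj.unit.naturality k
    simp only [Functor.id_obj, Functor.id_map, Functor.comp_obj, Functor.comp_map] at h1
    rw [← h1, Category.assoc, adj.right_triangle_components, Category.comp_id]
  have hRmg : R.map m ≫ g = 0 := by
    rw [← cancel_epi (adj.unit.app (kernel g)), ← Category.assoc, hRm, comp_zero]
    exact kernel.condition g
  -- the composite `F ⟶ I ⟶ I / j_! K` is a monomorphism
  have hmono : Mono (i ≫ cokernel.π m) := by
    apply Preadditive.mono_of_kernel_zero
    let t := kernel.ι (i ≫ cokernel.π m)
    let b : kernel (i ≫ cokernel.π m) ⟶ L.obj (kernel g) :=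
      Abelian.monoLift m (t ≫ i) (by rw [Category.assoc]; exact kernel.condition _)
    have hb : b ≫ m = t ≫ i := Abelian.monoLift_comp _ _ _
    haveI : Mono b := by
      haveI : Mono (b ≫ m) := by rw [hb]; infer_instance
      exact mono_of_mono b m
    have hRt : R.map t = 0 := by
      haveI := hg
      rw [← cancel_mono (R.map i ≫ g), zero_comp, ← Category.assoc, ← R.map_comp, ← hb,
        R.map_comp, Category.assoc, hRmg, comp_zero]
    have hRT : IsZero (R.obj (kernel (i ≫ cokernel.π m))) :=
      IsZero.of_mono_eq_zero (R.map t) hRt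
    exact (isZero_of_mono_extZero j b hRT).eq_of_src _ _
  have hπ : Mono (cokernel.π m) := hi.ess _ hmono
  have hm0 : m = 0 := by
    rw [← cancel_mono (cokernel.π m), cokernel.condition, zero_comp]
  have hLK : IsZero (L.obj (kernel g)) := IsZero.of_mono_eq_zero m hm0
  have hK : IsZero (kernel g) :=
    IsZero.of_iso (Functor.map_isZero R hLK) (asIso (adj.unit.app (kernel g)))
  exact Preadditive.mono_of_kernel_zero (hK.eq_of_src _ _)

end Groth.Agent.Lib.H6xEss
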