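import Mathlib

/-!
# Complementary idempotents of coproducts in preadditive categories (helper8)

Light copy (Mathlib only) of the first part of `Helper8ShriekCoprod`.
-/

set_option autoImplicit false
universe w v u
open CategoryTheory CategoryTheory.Limits Opposite

namespace Groth.Agent.Lib.Helper8CoprodCut

section preadditive

variable {C : Type*} [Category C] [Preadditive C] {β : Type w} [DecidableEq β] (f : β → C)
  [HasCoproduct f]

/-- the complementary idempotent `1 - ∑_{i ∈ S} π_i ι_i` of a coproduct -/
noncomputable def cut (S : Finset β) : ∐ f ⟶ ∐ f :=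
  𝟙 _ - ∑ i ∈ S, Sigma.π f i ≫ Sigma.ι f i

lemma ι_cut {S : Finset β} {i : β} (hi : i ∈ S) : Sigma.ι f i ≫ cut f S = 0 := by
  unfold cut
  rw [Preadditive.comp_sub, Preadditive.comp_sum, Category.comp_id, sub_eq_zero]
  rw [Finset.sum_eq_single i]
  · rw [Sigma.ι_π_eq_id_assoc]
  · intro j _ hj
    rw [Sigma.ι_π_of_ne_assoc f (Ne.symm hj), zero_comp]
  · intro h; exact absurd hi h

lemma cut_cut {S S' : Finset β} (h : S ⊆ S') : cut f S ≫ cut f S' = cut f S' := by
  conv_lhs => rw [cut, Preadditive.sub_comp, Category.id_comp, Preadditive.sum_comp]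
  rw [sub_eq_self]
  apply Finset.sum_eq_zero
  intro i hi
  rw [Category.assoc, ι_cut f (h hi), comp_zero]

end preadditive

section ab

/-- a subgroup of the point of a colimit cofan of abelian groups containing the images of all the
injections is everything -/
lemma eq_top_of_isColimit {ι : Type*} {Z : ι → AddCommGrpCat.{v}} (c : Cofan Z) (hc : IsColimit c)
    (H : AddSubgroup c.pt) (h : ∀ i (t : Z i), c.inj i t ∈ H) : H = ⊤ := by
  let q : c.pt ⟶ AddCommGrpCat.of (c.pt ⧸ H) := AddCommGrpCat.ofHom (QuotientAddGroup.mk' H)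
  have hq : q = 0 := by
    apply Cofan.IsColimit.hom_ext hc
    intro i
    ext t
    change QuotientAddGroup.mk' H (c.inj i t) = 0
    exact (QuotientAddGroup.eq_zero_iff _).mpr (h i t)
  rw [eq_top_iff]
  intro x _
  have := congrArg (fun m => m x) hq
  exact (QuotientAddGroup.eq_zero_iff _).mp this

end ab

end Groth.Agent.Lib.Helper8CoprodCut
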