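import Mathlib
import Groth.Agent.Lib.Helper8CoprodCut
import Groth.Agent.S0484

/-!
# Sections of a direct sum of `O`-modules over a quasi-compact open of a ringed space (helper8)
-/

set_option autoImplicit false
universe u
open CategoryTheory CategoryTheory.Limits TopologicalSpace Opposite

namespace Groth.Agent.Lib.Helper8ModCoprodSectR

open Groth.Agent.Lib.Helper8CoprodCut

variable {X : TopCat.{u}} (O : Sheaf (Opens.grothendieckTopology X) RingCat.{u})

/-- evaluation of morphisms of sheaves of modules on sections, as an additive map -/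
noncomputable def ev {M N : SheafOfModules.{u} O} (U : Opens X) :
    (M ⟶ N) →+ (M.val.obj (op U) →+ N.val.obj (op U)) where
  toFun φ := (φ.val.app (op U)).hom.toAddMonoidHom
  map_zero' := rfl
  map_add' _ _ := rfl

lemma ev_apply {M N : SheafOfModules.{u} O} (U : Opens X) (φ : M ⟶ N) (s : M.val.obj (op U)) :
    ev O U φ s = (φ.val.app (op U)).hom s := rfl

lemma ev_comp {M N P : SheafOfModules.{u} O} (U : Opens X) (φ : M ⟶ N) (ψ : N ⟶ P)
    (s : M.val.obj (op U)) : ev O U (φ ≫ ψ) s = ev O U ψ (ev O U φ s) := rfl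

lemma ev_id {M : SheafOfModules.{u} O} (U : Opens X) (s : M.val.obj (op U)) : ev O U (𝟙 M) s = s := rfl

/-- the stalk functor on sheaves of modules, with values in abelian groups -/
noncomputable def st (x : X) : SheafOfModules.{u} O ⥤ AddCommGrpCat.{u} :=
  SheafOfModules.toSheaf O ⋙
    (TopCat.Sheaf.forget AddCommGrpCat.{u} X ⋙ TopCat.Presheaf.stalkFunctor AddCommGrpCat.{u} x)

noncomputable instance (x : X) (I : Type u) :
    PreservesColimitsOfShape (Discrete I) (st O x) := by
  have h0 : PreservesColimitsOfShape (Discrete I) (SheafOfModules.toSheaf O) :=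
    Groth.Agent.S0484.preservesColimitsOfShape_toSheaf _ _ (Discrete I)
  haveI : ∀ U : Opens X, Decidable (x ∈ U) := fun _ => Classical.dec _
  have h1 : PreservesColimitsOfSize.{u, u} (TopCat.Sheaf.forget AddCommGrpCat.{u} X ⋙
      TopCat.Presheaf.stalkFunctor AddCommGrpCat.{u} x) :=
    (stalkSkyscraperSheafAdjunction (C := AddCommGrpCat.{u}) x).leftAdjoint_preservesColimits
  haveI h2 : PreservesColimitsOfShape (Discrete I) (TopCat.Sheaf.forget AddCommGrpCat.{u} X ⋙
      TopCat.Presheaf.stalkFunctor AddCommGrpCat.{u} x) := h1.preservesColimitsOfShape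
  change PreservesColimitsOfShape (Discrete I) (SheafOfModules.toSheaf O ⋙
    (TopCat.Sheaf.forget AddCommGrpCat.{u} X ⋙ TopCat.Presheaf.stalkFunctor AddCommGrpCat.{u} x))
  exact @comp_preservesColimitsOfShape _ _ _ _ _ _ _ _ _ _ h0 h2

instance (x : X) : (st O x).PreservesZeroMorphisms := by
  haveI : PreservesColimitsOfShape (Discrete PEmpty.{u + 1}) (st O x) := inferInstance
  haveI : PreservesColimitsOfShape (Discrete PEmpty.{1}) (st O x) :=
    preservesColimitsOfShape_of_equiv
      (Discrete.equivalence (Equiv.equivOfIsEmpty PEmpty.{u + 1} PEmpty.{1})) _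
  exact Functor.preservesZeroMorphisms_of_preserves_initial_object

/-- the underlying presheaf of abelian groups -/
noncomputable abbrev abPre (M : SheafOfModules.{u} O) : TopCat.Presheaf AddCommGrpCat.{u} X :=
  ((SheafOfModules.toSheaf O).obj M).obj

open Classical in
/-- every section of a coproduct of `O`-modules is locally killed by a complementary
idempotent -/
theorem exists_cut_locally {I : Type u} (F : I → SheafOfModules.{u} O) [HasCoproduct F] (U : Opens X)
    (s : (∐ F).val.obj (op U)) (x : X) (hx : x ∈ U) :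
    ∃ (S : Finset I) (W : Opens X) (hW : W ≤ U), x ∈ W ∧
      (abPre O (∐ F)).map (homOfLE hW).op (ev O U (cut F S) s) = 0 := by
  let stx := st O x
  have hc : IsColimit (Cofan.mk (stx.obj (∐ F)) fun i => stx.map (Sigma.ι F i)) :=
    (isColimitMapCoconeCofanMkEquiv stx F (Sigma.ι F))
      (isColimitOfPreserves stx (coproductIsCoproduct F))
  let H : AddSubgroup (stx.obj (∐ F)) :=
    { carrier := {σ | ∃ S : Finset I, stx.map (cut F S) σ = 0}
      zero_mem' := ⟨∅, map_zero _⟩
      add_mem' := by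
        rintro σ₁ σ₂ ⟨S₁, h₁⟩ ⟨S₂, h₂⟩
        refine ⟨S₁ ∪ S₂, ?_⟩
        have e₁ : stx.map (cut F (S₁ ∪ S₂)) σ₁ = 0 := by
          rw [← cut_cut F (Finset.subset_union_left (s₁ := S₁) (s₂ := S₂)), Functor.map_comp,
            ConcreteCategory.comp_apply, h₁, map_zero]
        have e₂ : stx.map (cut F (S₁ ∪ S₂)) σ₂ = 0 := by
          rw [← cut_cut F (Finset.subset_union_right (s₁ := S₁) (s₂ := S₂)), Functor.map_comp,
            ConcreteCategory.comp_apply, h₂, map_zero]
        rw [map_add, e₁, e₂, add_zero]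
      neg_mem' := by
        rintro σ ⟨S, h⟩
        exact ⟨S, by rw [map_neg, h, neg_zero]⟩ }
  have hH : H = ⊤ := by
    apply eq_top_of_isColimit _ hc
    intro i t
    refine ⟨{i}, ?_⟩
    change stx.map (cut F {i}) (stx.map (Sigma.ι F i) t) = 0
    rw [← ConcreteCategory.comp_apply, ← Functor.map_comp, ι_cut F (Finset.mem_singleton_self i),
      Functor.map_zero]
    rfl
  have hmem : (abPre O (∐ F)).germ U x hx s ∈ H := by rw [hH]; trivial
  obtain ⟨S, hS⟩ := hmem
  have h1 : (abPre O (∐ F)).germ U x hx (ev O U (cut F S) s) =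
      (abPre O (∐ F)).germ U x hx 0 := by
    rw [map_zero]
    exact ((TopCat.Presheaf.stalkFunctor_map_germ_apply U x hx
      ((SheafOfModules.toSheaf O).map (cut F S)).hom s).symm).trans hS
  obtain ⟨W, hxW, iU, iV, e⟩ := TopCat.Presheaf.germ_eq (abPre O (∐ F)) x hx hx _ _ h1
  refine ⟨S, W, iU.le, hxW, ?_⟩
  rw [map_zero] at e
  exact e

lemma ev_map {M N : SheafOfModules.{u} O} {U W : Opens X} (hW : W ≤ U) (φ : M ⟶ N)
    (s : M.val.obj (op U)) :
    (abPre O N).map (homOfLE hW).op (ev O U φ s) =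
      ev O W φ ((abPre O M).map (homOfLE hW).op s) := by
  have h := ((SheafOfModules.toSheaf O).map φ).hom.naturality (homOfLE hW).op
  exact (congrArg (fun k => k s) h).symm

open Classical in
theorem main {I : Type u} (F : I → SheafOfModules.{u} O) [HasCoproduct F] (U : Opens X)
    (hU : IsCompact (U : Set X)) :
    (∀ s : (∐ F).val.obj (op U), ∃ (S : Finset I) (t : ∀ i, (F i).val.obj (op U)),
        s = ∑ i ∈ S, ((Sigma.ι F i).val.app (op U)).hom (t i)) ∧
      ∀ (S : Finset I) (t : ∀ i, (F i).val.obj (op U)),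
        ∑ i ∈ S, ((Sigma.ι F i).val.app (op U)).hom (t i) = 0 → ∀ i ∈ S, t i = 0 := by
  constructor
  · intro s
    have h := fun (x : U) => exists_cut_locally O F U s x.1 x.2
    choose Sx Wx hWx hxW hzero using h
    obtain ⟨T, hT⟩ := hU.elim_finite_subcover (fun x : U => (Wx x : Set X))
      (fun x => (Wx x).isOpen) (fun y hy => Set.mem_iUnion.mpr ⟨⟨y, hy⟩, hxW ⟨y, hy⟩⟩)
    let S := T.biUnion Sx
    have hcut : ev O U (cut F S) s = 0 := by
      apply TopCat.Sheaf.eq_of_locally_eq' ((SheafOfModules.toSheaf O).obj (∐ F)) (fun x : T => Wx x.1) U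
        (fun x => homOfLE (hWx x.1))
      · intro y hy
        obtain ⟨x, hx, hyx⟩ : ∃ x ∈ T, y ∈ (Wx x : Set X) := by simpa using hT hy
        exact Opens.mem_iSup.mpr ⟨⟨x, hx⟩, hyx⟩
      · rintro ⟨x, hx⟩
        have e : ev O U (cut F S) s = ev O U (cut F S) (ev O U (cut F (Sx x)) s) := by
          rw [← ev_comp, cut_cut F (Finset.subset_biUnion_of_mem Sx hx)]
        have h0 : (abPre O (∐ F)).map (homOfLE (hWx x)).op (ev O U (cut F S) s) = 0 := by
          rw [e, ev_map, hzero x]
          exact map_zero _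
        exact h0.trans (map_zero _).symm
    refine ⟨S, fun i => ev O U (Sigma.π F i) s, ?_⟩
    have e : ev O U (cut F S) s =
        s - ∑ i ∈ S, ev O U (Sigma.ι F i) (ev O U (Sigma.π F i) s) := by
      unfold cut
      rw [map_sub, AddMonoidHom.sub_apply, map_sum, AddMonoidHom.finsetSum_apply]
      rfl
    rw [hcut] at e
    exact (sub_eq_zero.mp e.symm)
  · intro S t h i hi
    have h1 := congrArg (ev O U (Sigma.π F i)) h
    rw [map_sum, map_zero] at h1
    rw [Finset.sum_eq_single i] at h1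
    · rw [← h1]
      change t i = ev O U (Sigma.ι F i ≫ Sigma.π F i) (t i)
      rw [Sigma.ι_π_eq_id]
      rfl
    · intro j _ hj
      change ev O U (Sigma.ι F j ≫ Sigma.π F i) (t j) = 0
      rw [Sigma.ι_π_of_ne F hj, map_zero]
      rfl
    · intro hi'
      exact absurd hi hi'

/-- locally zero sections are zero -/
lemma section_eq_zero_of_locally (M : SheafOfModules.{u} O) (U : Opens X) (s : M.val.obj (op U))
    (h : ∀ x ∈ U, ∃ (W : Opens X) (hW : W ≤ U), x ∈ W ∧
      (abPre O M).map (homOfLE hW).op s = 0) : s = 0 := by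
  choose W hW hxW h0 using h
  apply TopCat.Sheaf.eq_of_locally_eq' ((SheafOfModules.toSheaf O).obj M)
    (fun x : U => W x.1 x.2) U (fun x => homOfLE (hW x.1 x.2))
  · intro y hy
    exact Opens.mem_iSup.mpr ⟨⟨y, hy⟩, hxW y hy⟩
  · intro x
    exact (h0 x.1 x.2).trans (map_zero _).symm

lemma hom_eq_zero_of_ev {M N : SheafOfModules.{u} O} (k : M ⟶ N)
    (h : ∀ (U : Opens X) (y : M.val.obj (op U)), ev O U k y = 0) : k = 0 := by
  apply SheafOfModules.hom_ext
  apply PresheafOfModules.hom_ext
  intro U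
  induction U using Opposite.rec with | _ U => ?_
  ext y
  exact h U y

open Classical in
theorem exists_cut_eq_zero_of_compact {I : Type u} (F : I → SheafOfModules.{u} O) [HasCoproduct F]
    (U : Opens X) (hU : IsCompact (U : Set X)) (s : (∐ F).val.obj (op U)) :
    ∃ S : Finset I, ev O U (cut F S) s = 0 := by
  have h := fun (x : U) => exists_cut_locally O F U s x.1 x.2
  choose Sx Wx hWx hxW hzero using h
  obtain ⟨T, hT⟩ := hU.elim_finite_subcover (fun x : U => (Wx x : Set X))
    (fun x => (Wx x).isOpen) (fun y hy => Set.mem_iUnion.mpr ⟨⟨y, hy⟩, hxW ⟨y, hy⟩⟩)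
  refine ⟨T.biUnion Sx, ?_⟩
  apply section_eq_zero_of_locally
  intro y hy
  obtain ⟨x, hx, hyx⟩ : ∃ x ∈ T, y ∈ (Wx x : Set X) := by simpa using hT hy
  refine ⟨Wx x, hWx x, hyx, ?_⟩
  have e : ev O U (cut F (T.biUnion Sx)) s =
      ev O U (cut F (T.biUnion Sx)) (ev O U (cut F (Sx x)) s) := by
    rw [← ev_comp, cut_cut F (Finset.subset_biUnion_of_mem Sx hx)]
  rw [e, ev_map, hzero x]
  exact map_zero _

open Classical in
theorem eq_zero_of_comp_cut {I : Type u} (F : I → SheafOfModules.{u} O) [HasCoproduct F]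
    {K : SheafOfModules.{u} O} (k : K ⟶ ∐ F) (hk : ∀ S : Finset I, k ≫ cut F S = k) : k = 0 := by
  apply hom_eq_zero_of_ev
  intro U y
  apply section_eq_zero_of_locally
  intro x hx
  obtain ⟨S, W, hW, hxW, h0⟩ := exists_cut_locally O F U (ev O U k y) x hx
  refine ⟨W, hW, hxW, ?_⟩
  have e : ev O U (cut F S) (ev O U k y) = ev O U k y := by
    rw [← ev_comp, hk S]
  rw [← e]
  exact h0

end Groth.Agent.Lib.Helper8ModCoprodSectR
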