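import Mathlib
import Groth.Prelude.Def_CxOX
import Groth.Agent.Lib.Helper8ModCoprodSectR
import Groth.Agent.Lib.Helper2QCoh
import Groth.Agent.Lib.H6xAnnFLFA
import Groth.Agent.Lib.H6xBaerSch
import Groth.Agent.Lib.H6xIdealGenC
set_option backward.isDefEq.respectTransparency.types false

/-!
# Quasi-coherent modules on an affine scheme concentrated at a point (helper6)

Let `X` be an affine scheme, `x : X` and `F` a quasi-coherent module whose module of global sections
`M` is injective, is killed elementwise by powers of the functions vanishing at `x`, and on which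
the functions not vanishing at `x` act bijectively (e.g. `M` an injective hull of the residue
field of a prime of a Noetherian ring).  Then `F` is an injective object of `X.Modules`
(`injective_of_concentrated`).  Baer's criterion `H6xBaerSch.injective_of_extension_basis`.
-/

set_option autoImplicit false
set_option linter.style.haveILetI false
universe u
open CategoryTheory CategoryTheory.Limits AlgebraicGeometry TopologicalSpace Opposite

namespace Groth.Agent.Lib.H6xInjTilde

open Groth.Agent.Lib.Helper6 Groth.Agent.Lib.Helper1.Sky Groth.Agent.Lib.Helper1.StalkTensor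
  Groth.Agent.Lib.H6xMV Groth.Agent.Lib.H6xIdealGen Groth.Agent.Lib.Helper23.Extend
  Groth.Agent.Lib.Helper23.GenLocus

variable {X : Scheme.{u}}

/-- a section which vanishes locally is zero -/
lemma eq_zero_of_locally (N : X.Modules) (W : X.Opens) (s : Γ(N, W))
    (h : ∀ y ∈ W, ∃ (W' : X.Opens) (hW' : W' ≤ W), y ∈ W' ∧ res N hW' s = 0) : s = 0 :=
  Groth.Agent.Lib.Helper8ModCoprodSectR.section_eq_zero_of_locally X.ringCatSheaf N W s h

section concentrated

variable [IsAffine X] (F : X.Modules) [F.IsQuasicoherent] (x : X)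
  (ha : ∀ s : Γ(X, ⊤), x ∉ X.basicOpen s → ∀ m : Γ(F, ⊤), ∃ n : ℕ, s ^ n • m = 0)
  (hb : ∀ s : Γ(X, ⊤), x ∈ X.basicOpen s → Function.Bijective (fun m : Γ(F, ⊤) => s • m))

include ha in
/-- sections over basic opens not containing `x` vanish -/
lemma eq_zero_of_notMem (s : Γ(X, ⊤)) (hs : x ∉ X.basicOpen s) (t : Γ(F, X.basicOpen s)) :
    t = 0 := by
  obtain ⟨n, m, hm⟩ := Groth.Agent.Lib.Helper2.QCoh.exists_extension (isAffineOpen_top X) F s t
  obtain ⟨k, hk⟩ := ha s hs m
  have hu : IsUnit (resf (X.basicOpen_le s) s) := RingedSpace.isUnit_res_basicOpen _ s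
  have h1 : (resf (X.basicOpen_le s) s) ^ (k + n) • t = 0 := by
    rw [pow_add, mul_smul]
    change _ • ((X.presheaf.map (homOfLE (X.basicOpen_le s)).op s) ^ n • t) = 0
    rw [← hm]
    change (resf (X.basicOpen_le s) s) ^ k • res F (X.basicOpen_le s) m = 0
    rw [← resf_pow, ← res_smul, hk, res_zero]
  exact ((hu.pow (k + n)).smul_eq_zero).1 h1

include hb in
lemma pow_smul_bijective (s : Γ(X, ⊤)) (hs : x ∈ X.basicOpen s) (n : ℕ) :
    Function.Bijective (fun m : Γ(F, ⊤) => s ^ n • m) := by
  induction n with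
  | zero =>
    have : (fun m : Γ(F, ⊤) => s ^ 0 • m) = id := by
      funext m
      rw [pow_zero, one_smul]
      rfl
    rw [this]
    exact Function.bijective_id
  | succ n ih =>
    have : (fun m : Γ(F, ⊤) => s ^ (n + 1) • m) =
        (fun m : Γ(F, ⊤) => s ^ n • m) ∘ (fun m : Γ(F, ⊤) => s • m) := by
      funext m
      simp only [Function.comp_apply]
      rw [pow_succ, mul_smul]
    rw [this]
    exact ih.comp (hb s hs)

include hb in
/-- restriction to a basic open containing `x` is bijective on sections -/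
lemma res_bijective_of_mem (s : Γ(X, ⊤)) (hs : x ∈ X.basicOpen s) :
    Function.Bijective (fun m : Γ(F, ⊤) => res F (X.basicOpen_le s) m) := by
  have hu : IsUnit (resf (X.basicOpen_le s) s) := RingedSpace.isUnit_res_basicOpen _ s
  constructor
  · intro m m' h
    have h0 : res F (X.basicOpen_le s) (m - m') = 0 := by
      rw [res_sub]; exact sub_eq_zero.2 h
    obtain ⟨n, hn⟩ := Groth.Agent.Lib.Helper2.QCoh.exists_pow_smul_eq_zero
      (isAffineOpen_top X) F s (m - m') h0
    have h1 := (pow_smul_bijective F x hb s hs n).1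
    have h2 : (fun m : Γ(F, ⊤) => s ^ n • m) (m - m') = (fun m : Γ(F, ⊤) => s ^ n • m) 0 := by
      simp only [smul_zero]; exact hn
    exact sub_eq_zero.1 (h1 h2)
  · intro t
    obtain ⟨n, m, hm⟩ := Groth.Agent.Lib.Helper2.QCoh.exists_extension (isAffineOpen_top X) F s t
    obtain ⟨m', hm'⟩ := (pow_smul_bijective F x hb s hs n).2 m
    refine ⟨m', ?_⟩
    have h1 : (resf (X.basicOpen_le s) s) ^ n • res F (X.basicOpen_le s) m' =
        (resf (X.basicOpen_le s) s) ^ n • t := by
      rw [← resf_pow, ← res_smul]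
      have : s ^ n • m' = m := hm'
      rw [this, resf_pow]
      exact hm
    exact (hu.pow n).smul_left_cancel.1 h1

section main

variable {K : X.Modules} (ι : K ⟶ Coh.structureModule X) (g : K ⟶ F)

/-- the relation defining the graph of the partial map `Γ(X, ⊤) → Γ(F, ⊤)` attached to `g` -/
def Rel (a : Γ(X, ⊤)) (m : Γ(F, ⊤)) : Prop :=
  ∃ (s' : Γ(X, ⊤)) (_ : x ∈ X.basicOpen s') (u : Γ(K, X.basicOpen s')),
    secL ι (X.basicOpen s') u = resf (X.basicOpen_le s') a ∧
      g.app (X.basicOpen s') u = res F (X.basicOpen_le s') m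

variable {F x ι g}

lemma Rel.refine {a : Γ(X, ⊤)} {m : Γ(F, ⊤)} {s' : Γ(X, ⊤)} (u : Γ(K, X.basicOpen s'))
    (h1 : secL ι (X.basicOpen s') u = resf (X.basicOpen_le s') a)
    (h2 : g.app (X.basicOpen s') u = res F (X.basicOpen_le s') m)
    (W : X.Opens) (hW : W ≤ X.basicOpen s') :
    secL ι W (res K hW u) = resf (hW.trans (X.basicOpen_le s')) a ∧
      g.app W (res K hW u) = res F (hW.trans (X.basicOpen_le s')) m := by
  constructor
  · rw [show res K hW u = K.presheaf.map (homOfLE hW).op u from rfl, secL_res ι hW u, h1]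
    exact resf_resf _ _ _
  · rw [show res K hW u = K.presheaf.map (homOfLE hW).op u from rfl, app_map g (homOfLE hW) u, h2]
    exact res_res F _ _ _

lemma rel_zero (hx1 : x ∈ X.basicOpen (1 : Γ(X, ⊤))) : Rel F x ι g 0 0 := by
  refine ⟨1, hx1, 0, ?_, ?_⟩
  · rw [map_zero]; exact (map_zero _).symm
  · have : g.app (X.basicOpen (1 : Γ(X, ⊤))) 0 = 0 := map_zero (g.app _).hom
    rw [this]; exact (map_zero _).symm

lemma rel_add {a a' : Γ(X, ⊤)} {m m' : Γ(F, ⊤)} (h : Rel F x ι g a m) (h' : Rel F x ι g a' m') :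
    Rel F x ι g (a + a') (m + m') := by
  obtain ⟨s₁, hx₁, u₁, e₁, e₁'⟩ := h
  obtain ⟨s₂, hx₂, u₂, e₂, e₂'⟩ := h'
  have hmul : X.basicOpen (s₁ * s₂) = X.basicOpen s₁ ⊓ X.basicOpen s₂ := X.basicOpen_mul s₁ s₂
  have le₁ : X.basicOpen (s₁ * s₂) ≤ X.basicOpen s₁ := hmul ▸ inf_le_left
  have le₂ : X.basicOpen (s₁ * s₂) ≤ X.basicOpen s₂ := hmul ▸ inf_le_right
  obtain ⟨r₁, r₁'⟩ := Rel.refine u₁ e₁ e₁' _ le₁
  obtain ⟨r₂, r₂'⟩ := Rel.refine u₂ e₂ e₂' _ le₂
  refine ⟨s₁ * s₂, by rw [hmul]; exact ⟨hx₁, hx₂⟩, res K le₁ u₁ + res K le₂ u₂, ?_, ?_⟩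
  · rw [map_add, r₁, r₂]
    exact (map_add _ _ _).symm
  · have e : g.app (X.basicOpen (s₁ * s₂)) (res K le₁ u₁ + res K le₂ u₂) =
        g.app _ (res K le₁ u₁) + g.app _ (res K le₂ u₂) := map_add (g.app _).hom _ _
    rw [e, r₁', r₂']
    exact (map_add _ _ _).symm

lemma rel_smul {a : Γ(X, ⊤)} {m : Γ(F, ⊤)} (c : Γ(X, ⊤)) (h : Rel F x ι g a m) :
    Rel F x ι g (c * a) (c • m) := by
  obtain ⟨s₁, hx₁, u₁, e₁, e₁'⟩ := h
  refine ⟨s₁, hx₁, resf (X.basicOpen_le s₁) c • u₁, ?_, ?_⟩
  · rw [map_smul, e₁, smul_eq_mul]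
    exact (map_mul _ _ _).symm
  · rw [Scheme.Modules.Hom.app_smul, e₁']
    exact (res_smul F _ c m).symm

end main

include ha hb in
/-- a quasi-coherent module on an affine scheme concentrated at a point, with injective module of
global sections, is an injective object of the category of all modules -/
theorem injective_of_concentrated (hc : Module.Injective Γ(X, ⊤) Γ(F, ⊤)) : Injective F := by
  have hX : IsAffineOpen (⊤ : X.Opens) := isAffineOpen_top X
  apply Groth.Agent.Lib.H6xBaerSch.injective_of_extension_basis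
    {V | ∃ s : Γ(X, ⊤), V = X.basicOpen s}
  · intro W y hyW
    obtain ⟨s, hsW, hys⟩ := hX.exists_basicOpen_le ⟨y, hyW⟩ trivial
    exact ⟨X.basicOpen s, ⟨s, rfl⟩, hys, hsW⟩
  · rintro V ⟨s, rfl⟩ K g
    let ι : (K : X.Modules) ⟶ Coh.structureModule X := K.arrow ≫ thetaJ (X.basicOpen s).ι
    haveI : Mono ι := mono_comp _ _
    have hz : ∀ y : X, y ∉ X.basicOpen s → IsZero ((stalkFun y).obj (K : X.Modules)) := by
      intro y hy
      refine isZero_stalk_of_mono K.arrow y (isZero_stalk_extZero (X.basicOpen s).ι y ?_ _)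
      rw [Scheme.Opens.range_ι]
      exact hy
    by_cases hxs : x ∈ X.basicOpen s
    · -- the graph of the partial map
      have hx1 : x ∈ X.basicOpen (1 : Γ(X, ⊤)) := by
        rw [Scheme.basicOpen_of_isUnit _ isUnit_one]; trivial
      let Φ : Submodule Γ(X, ⊤) (Γ(X, ⊤) × Γ(F, ⊤)) :=
        { carrier := {p | Rel F x ι g p.1 p.2}
          zero_mem' := rel_zero hx1
          add_mem' := fun h h' => rel_add h h'
          smul_mem' := fun c p h => rel_smul c h }
      have hΦ : ∀ (p : Γ(X, ⊤) × Γ(F, ⊤)), p ∈ Φ → p.1 = 0 → p.2 = 0 := by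
        rintro ⟨a, m⟩ ⟨s', hxs', u, e1, e2⟩ (h0 : a = 0)
        subst h0
        have hu : u = 0 := by
          apply secL_injective ι (X.basicOpen s')
          rw [e1, (secL ι (X.basicOpen s')).map_zero]
          exact map_zero (X.presheaf.map (homOfLE (X.basicOpen_le s')).op).hom
        rw [hu] at e2
        have e3 : res F (X.basicOpen_le s') m = res F (X.basicOpen_le s') 0 := by
          rw [← e2, res_zero]
          exact map_zero (g.app _).hom
        exact (res_bijective_of_mem F x hb s' hxs').1 e3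
      obtain ⟨g', hg'⟩ := Module.Baer.of_injective hc Φ.toLinearPMap.domain Φ.toLinearPMap.toFun
      have key : ∀ (a : Γ(X, ⊤)) (m : Γ(F, ⊤)), Rel F x ι g a m → a • g' 1 = m := by
        intro a m h
        have hmem : a ∈ Φ.toLinearPMap.domain := ⟨(a, m), h, rfl⟩
        have h1 : g' a = Φ.toLinearPMap ⟨a, hmem⟩ := hg' a hmem
        have h2 : (a, Φ.toLinearPMap ⟨a, hmem⟩) ∈ Φ := Submodule.mem_graph_toLinearPMap hΦ ⟨a, hmem⟩
        have h3 : ((a, Φ.toLinearPMap ⟨a, hmem⟩) - (a, m) : Γ(X, ⊤) × Γ(F, ⊤)) ∈ Φ :=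
          Φ.sub_mem h2 h
        have h4 := hΦ _ h3 (by simp)
        have h5 : Φ.toLinearPMap ⟨a, hmem⟩ = m := sub_eq_zero.1 h4
        rw [← h5, ← h1]
        have : a • g' 1 = g' (a • 1) := (g'.map_smul a 1).symm
        rw [this, smul_eq_mul, mul_one]
      refine ⟨thetaJ (X.basicOpen s).ι ≫ Groth.Agent.Lib.H6xAnnFLF.secMor F (g' 1), ?_⟩
      apply Scheme.Modules.hom_ext
      intro W
      ext u
      have e0 : (K.arrow ≫ thetaJ (X.basicOpen s).ι ≫
          Groth.Agent.Lib.H6xAnnFLF.secMor F (g' 1)).app W u =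
          secL ι W u • res F le_top (g' 1) :=
        Groth.Agent.Lib.H6xAnnFLF.secMor_app F (g' 1) W (ι.app W u)
      refine e0.trans ?_
      rw [← sub_eq_zero]
      apply eq_zero_of_locally
      intro y hyW
      by_cases hy : y ∈ X.basicOpen s
      · obtain ⟨s', hs'le, hys'⟩ :=
          hX.exists_basicOpen_le (V := W ⊓ X.basicOpen s) ⟨y, ⟨hyW, hy⟩⟩ trivial
        have hs'W : X.basicOpen s' ≤ W := hs'le.trans inf_le_left
        refine ⟨X.basicOpen s', hs'W, hys', ?_⟩
        by_cases hxs' : x ∈ X.basicOpen s'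
        · -- write the function as a fraction
          have hloc : IsLocalization.Away s' Γ(X, X.basicOpen s') := hX.isLocalization_basicOpen s'
          obtain ⟨⟨a, ⟨_, n, rfl⟩⟩, hb'⟩ := IsLocalization.surj (Submonoid.powers s')
            (secL ι (X.basicOpen s') (res K hs'W u))
          have hb'' : secL ι (X.basicOpen s') (res K hs'W u) * (resf (X.basicOpen_le s') s') ^ n =
              resf (X.basicOpen_le s') a := by
            have := hb'
            simp only [map_pow] at this
            exact this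
          obtain ⟨m, hm⟩ := (res_bijective_of_mem F x hb s' hxs').2
            (g.app (X.basicOpen s') ((resf (X.basicOpen_le s') s') ^ n • res K hs'W u))
          have hrel : Rel F x ι g a m := by
            refine ⟨s', hxs', (resf (X.basicOpen_le s') s') ^ n • res K hs'W u, ?_, hm.symm⟩
            rw [map_smul, smul_eq_mul, mul_comm]
            exact hb''
          have hk := key a m hrel
          have hu : IsUnit (resf (X.basicOpen_le s') s') := RingedSpace.isUnit_res_basicOpen _ s'
          -- both sides agree after multiplying by a unit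
          have e1 : (resf (X.basicOpen_le s') s') ^ n •
              (secL ι (X.basicOpen s') (res K hs'W u) • res F (X.basicOpen_le s') (g' 1)) =
              (resf (X.basicOpen_le s') s') ^ n • g.app (X.basicOpen s') (res K hs'W u) := by
            rw [← Scheme.Modules.Hom.app_smul]
            have hm' : res F (X.basicOpen_le s') m = g.app (X.basicOpen s')
                ((resf (X.basicOpen_le s') s') ^ n • res K hs'W u) := hm
            rw [← hm', ← hk, res_smul, ← hb'', smul_smul, mul_comm]
          have e2 := (hu.pow n).smul_left_cancel.1 e1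
          rw [res_sub, res_smul, res_res]
          have e3 : res F hs'W (g.app W u) = g.app (X.basicOpen s') (res K hs'W u) :=
            (app_map g (homOfLE hs'W) u).symm
          have e4 : resf hs'W (secL ι W u) = secL ι (X.basicOpen s') (res K hs'W u) :=
            (secL_res ι hs'W u).symm
          rw [e3, e4, sub_eq_zero]
          exact e2
        · exact eq_zero_of_notMem F x ha s' hxs' _
      · obtain ⟨W', h, hyW', h0⟩ := exists_res_eq_zero_of_isZero_stalk _ y (hz y hy) W hyW u
        refine ⟨W', h, hyW', ?_⟩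
        have e3 : res F h (g.app W u) = g.app W' (res K h u) := (app_map g (homOfLE h) u).symm
        have e4 : resf h (secL ι W u) = secL ι W' (res K h u) := (secL_res ι h u).symm
        have h0' : res (K : X.Modules) h u = 0 := h0
        rw [res_sub, res_smul, e3, e4, h0', map_zero, zero_smul, zero_sub, neg_eq_zero]
        exact map_zero (g.app W').hom
    · refine ⟨0, ?_⟩
      rw [comp_zero]
      symm
      apply Groth.Agent.Lib.H6xExtZeroSec.hom_eq_zero_of_app
      intro W u
      apply eq_zero_of_locally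
      intro y hyW
      by_cases hy : y ∈ X.basicOpen s
      · obtain ⟨s', hs'le, hys'⟩ :=
          hX.exists_basicOpen_le (V := W ⊓ X.basicOpen s) ⟨y, ⟨hyW, hy⟩⟩ trivial
        refine ⟨X.basicOpen s', hs'le.trans inf_le_left, hys', ?_⟩
        exact eq_zero_of_notMem F x ha s' (fun h => hxs ((hs'le.trans inf_le_right) h)) _
      · obtain ⟨W', h, hyW', h0⟩ := exists_res_eq_zero_of_isZero_stalk _ y (hz y hy) W hyW u
        refine ⟨W', h, hyW', ?_⟩
        have e3 : res F h (g.app W u) = g.app W' (res K h u) := (app_map g (homOfLE h) u).symm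
        have h0' : res (K : X.Modules) h u = 0 := h0
        rw [e3, h0']
        exact map_zero (g.app W').hom

end concentrated

end Groth.Agent.Lib.H6xInjTilde
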