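import Mathlib
import Groth.Agent.Lib.H6xEssA
import Groth.Agent.Lib.H6xInjTildeA
import Groth.Agent.Lib.H6xExtZeroSec
import Groth.Agent.Lib.Helper6QCohQcqs
import Groth.Agent.Lib.Helper23Extend
set_option backward.isDefEq.respectTransparency.types false

/-!
# Essential monomorphisms of quasi-coherent modules on Noetherian affine schemes (helper6)

`isEss_of_essential_sections`: on an affine scheme with Noetherian ring of global sections, a
monomorphism into a quasi-coherent module which is essential on global sections is an essential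
monomorphism of `O`-modules.
-/

set_option autoImplicit false
set_option linter.style.haveILetI false
universe u
open CategoryTheory CategoryTheory.Limits AlgebraicGeometry TopologicalSpace Opposite

namespace Groth.Agent.Lib.H6xEss

open Groth.Agent.Lib.Helper6 Groth.Agent.Lib.Helper23.Extend

variable {Y : Scheme.{u}}

/-- a morphism of modules which is injective on sections is a monomorphism -/
lemma mono_of_injective_app {A B : Y.Modules} (g : A ⟶ B)
    (h : ∀ (V : Y.Opens) (s : Γ(A, V)), g.app V s = 0 → s = 0) : Mono g := by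
  apply Preadditive.mono_of_cancel_zero
  intro W a ha
  apply Groth.Agent.Lib.H6xExtZeroSec.hom_eq_zero_of_app
  intro V s
  apply h
  have h0 : (a ≫ g).app V s = 0 := by
    rw [ha]
    rfl
  exact h0

theorem isEss_of_essential_sections [IsAffine Y] [IsNoetherianRing Γ(Y, ⊤)]
    {F G : Y.Modules} [G.IsQuasicoherent] (ι : F ⟶ G) [Mono ι]
    (hess : ∀ e : Γ(G, ⊤), e ≠ 0 →
      ∃ (a : Γ(Y, ⊤)) (t : Γ(F, ⊤)), a • e ≠ 0 ∧ ι.app ⊤ t = a • e) :
    IsEss ι := by
  refine ⟨inferInstance, ?_⟩
  intro Z g hg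
  have hT := isAffineOpen_top Y
  apply mono_of_injective_app
  intro V s hs
  by_contra hs0
  -- find a basic open on which `s` is nonzero
  have h1 : ∃ (f : Γ(Y, ⊤)) (hfV : Y.basicOpen f ≤ V), res G hfV s ≠ 0 := by
    by_contra hcon
    push Not at hcon
    apply hs0
    apply Groth.Agent.Lib.H6xInjTilde.eq_zero_of_locally G V s
    intro y hy
    obtain ⟨f, hfV, hyf⟩ := hT.exists_basicOpen_le (⟨y, hy⟩ : V) (Opens.mem_top y)
    exact ⟨Y.basicOpen f, hfV, hyf, hcon f hfV⟩
  obtain ⟨f, hfV, hσ⟩ := h1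
  set σ := res G hfV s with hσdef
  have hgσ : g.app (Y.basicOpen f) σ = 0 := by
    rw [hσdef]
    change g.app (Y.basicOpen f) (G.presheaf.map (homOfLE hfV).op s) = 0
    rw [app_map, hs, map_zero]
  have hle : Y.basicOpen f ≤ ⊤ := Y.basicOpen_le f
  have hu : IsUnit (resf hle f) := RingedSpace.isUnit_res_basicOpen _ f
  obtain ⟨n, e, he⟩ := Groth.Agent.Lib.Helper2.QCoh.exists_extension hT G f σ
  change res G hle e = (resf hle f) ^ n • σ at he
  -- stabilisation of annihilators
  let annSeq : ℕ →o Ideal Γ(Y, ⊤) :=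
    { toFun := fun k => Groth.Agent.Lib.Helper2.QCoh.ann G (f ^ k • e)
      monotone' := by
        intro k k' hkk' a ha
        rw [Groth.Agent.Lib.Helper2.QCoh.mem_ann] at ha ⊢
        obtain ⟨d, rfl⟩ := Nat.exists_eq_add_of_le hkk'
        rw [pow_add, mul_comm, mul_smul, smul_comm, ha, smul_zero] }
  obtain ⟨k₀, hk₀⟩ := monotone_stabilizes_iff_noetherian.2
    (inferInstance : IsNoetherian Γ(Y, ⊤) Γ(Y, ⊤)) annSeq
  set e' := f ^ k₀ • e with he'def
  have hres_e' : res G hle e' = (resf hle f) ^ (k₀ + n) • σ := by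
    rw [he'def, res_smul, he, resf_pow, pow_add, mul_smul]
  have he'0 : e' ≠ 0 := by
    intro h0
    rw [h0, res_zero] at hres_e'
    exact hσ (((hu.pow (k₀ + n)).smul_eq_zero).1 hres_e'.symm)
  obtain ⟨a, t, hae', hιt⟩ := hess e' he'0
  -- the restriction of `a • e'` to `D(f)` is nonzero
  have hres_ne : res G hle (a • e') ≠ 0 := by
    intro h0
    obtain ⟨k, hk⟩ := Groth.Agent.Lib.Helper2.QCoh.exists_pow_smul_eq_zero hT G f (a • e') h0
    apply hae'
    have h2 : a ∈ annSeq (k₀ + k) := by
      change a ∈ Groth.Agent.Lib.Helper2.QCoh.ann G (f ^ (k₀ + k) • e)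
      rw [Groth.Agent.Lib.Helper2.QCoh.mem_ann, pow_add, mul_comm, mul_smul, smul_comm]
      exact hk
    rw [← hk₀ (k₀ + k) (Nat.le_add_right _ _)] at h2
    exact Groth.Agent.Lib.Helper2.QCoh.mem_ann.1 h2
  -- but it is the image of a section of `F` killed by `ι ≫ g`
  apply hres_ne
  have h3 : ι.app (Y.basicOpen f) (res F hle t) = res G hle (a • e') := by
    change ι.app (Y.basicOpen f) (F.presheaf.map (homOfLE hle).op t) = _
    rw [app_map, hιt]
  have h4 : (ι ≫ g).app (Y.basicOpen f) (res F hle t) = 0 := by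
    change g.app (Y.basicOpen f) (ι.app (Y.basicOpen f) (res F hle t)) = 0
    rw [h3, res_smul, hres_e', Scheme.Modules.Hom.app_smul, Scheme.Modules.Hom.app_smul, hgσ,
      smul_zero, smul_zero]
  have h5 : res F hle t = 0 :=
    injective_app_of_mono (ι ≫ g) (Y.basicOpen f) (h4.trans (map_zero _).symm)
  rw [← h3, h5, map_zero]

end Groth.Agent.Lib.H6xEss
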