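import Mathlib
import Groth.Prelude.Def_CxOX
import Groth.Agent.Lib.Helper8ModCoprodSectR
import Groth.Agent.Lib.H6xBaerSch
import Groth.Agent.Lib.H6xIdealGenC
set_option backward.isDefEq.respectTransparency.types false

/-!
# Direct sums of injective `O_X`-modules on a locally Noetherian scheme are injective (helper6)
-/

set_option autoImplicit false
set_option linter.style.haveILetI false
universe u
open CategoryTheory CategoryTheory.Limits AlgebraicGeometry TopologicalSpace Opposite

namespace Groth.Agent.Lib.H6xInjCoprod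

open Groth.Agent.Lib.Helper1.Sky Groth.Agent.Lib.Helper1.StalkTensor Groth.Agent.Lib.H6xMV
  Groth.Agent.Lib.Helper26.FpqcMod Groth.Agent.Lib.H6xIdealGen Groth.Agent.Lib.Helper23.Extend
  Groth.Agent.Lib.Helper8CoprodCut Groth.Agent.Lib.Helper8ModCoprodSectR

variable {X : Scheme.{u}}

/-- a morphism killing a locally generating family of sections of a module supported on `V` is
zero -/
lemma hom_eq_zero_of_gen {K N : X.Modules} (k : K ⟶ N) (V : X.Opens)
    (hz : ∀ x : X, x ∉ V → IsZero ((stalkFun x).obj K))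
    (S : Set (Σ U : X.Opens, Γ(K, U)))
    (hgen : ∀ x ∈ V, ∀ (W : X.Opens) (t : Γ(K, W)), x ∈ W →
        ∃ (W' : X.Opens) (h : W' ≤ W), x ∈ W' ∧ K.presheaf.map (homOfLE h).op t ∈
          Submodule.span Γ(X, W')
            {u | ∃ p ∈ S, ∃ h' : W' ≤ p.1, K.presheaf.map (homOfLE h').op p.2 = u})
    (hk : ∀ p ∈ S, k.app p.1 p.2 = 0) : k = 0 := by
  apply Groth.Agent.Lib.H6xExtZeroSec.hom_eq_zero_of_app
  intro W s
  apply section_eq_zero_of_locally X.ringCatSheaf N W
  intro x hxW
  by_cases hx : x ∈ V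
  · obtain ⟨W', h, hxW', hmem⟩ := hgen x hx W s hxW
    refine ⟨W', h, hxW', ?_⟩
    change N.presheaf.map (homOfLE h).op (k.app W s) = 0
    rw [← app_map k (homOfLE h) s]
    suffices hs : ∀ u ∈ Submodule.span Γ(X, W')
        {u | ∃ p ∈ S, ∃ h' : W' ≤ p.1, K.presheaf.map (homOfLE h').op p.2 = u},
        k.app W' u = 0 from hs _ hmem
    intro u hu
    induction hu using Submodule.span_induction with
    | mem u hu =>
      obtain ⟨p, hp, h', rfl⟩ := hu
      rw [app_map k (homOfLE h') p.2, hk p hp, map_zero]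
    | zero => exact map_zero (k.app W').hom
    | add u v _ _ hu hv =>
      have e : k.app W' (u + v) = k.app W' u + k.app W' v := map_add (k.app W').hom u v
      rw [e, hu, hv, add_zero]
    | smul a u _ hu => rw [Scheme.Modules.Hom.app_smul, hu, smul_zero]
  · obtain ⟨W', h, hxW', h0⟩ := exists_res_eq_zero_of_isZero_stalk K x (hz x hx) W hxW s
    refine ⟨W', h, hxW', ?_⟩
    change N.presheaf.map (homOfLE h).op (k.app W s) = 0
    rw [← app_map k (homOfLE h) s, h0]
    exact map_zero (k.app W').hom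

theorem injective_coprod [IsLocallyNoetherian X] {ι : Type u} (I : ι → X.Modules)
    (hI : ∀ j, Injective (I j)) : Injective (∐ I) := by
  classical
  apply Groth.Agent.Lib.H6xBaerSch.injective_of_extension_basis {V | IsAffineOpen V}
  · intro W x hxW
    obtain ⟨_, ⟨V, hV, rfl⟩, hxV, hVW⟩ :=
      X.isBasis_affineOpens.exists_subset_of_mem_open hxW W.isOpen
    exact ⟨V, hV, hxV, hVW⟩
  · rintro V (hV : IsAffineOpen V) K g
    haveI : IsNoetherianRing Γ(X, V) := IsLocallyNoetherian.component_noetherian ⟨V, hV⟩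
    haveI : NoetherianSpace V := noetherianSpace_of_isAffineOpen _ hV
    let ιK : (K : X.Modules) ⟶ Coh.structureModule X := K.arrow ≫ thetaJ V.ι
    haveI : Mono ιK := mono_comp _ _
    obtain ⟨S, hSf, hS, hgen⟩ := exists_finite_sections ιK V
    have h1 : ∀ p : (Σ U : X.Opens, Γ((K : X.Modules), U)), p ∈ S →
        ∃ T : Finset ι, ev X.ringCatSheaf p.1 (cut I T) (g.app p.1 p.2) = 0 := by
      intro p hp
      exact exists_cut_eq_zero_of_compact X.ringCatSheaf I p.1 (hS p hp).1.isCompact _
    choose! T hT using h1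
    let T₀ : Finset ι := hSf.toFinset.biUnion T
    have h2 : ∀ p ∈ S, (g ≫ cut I T₀).app p.1 p.2 = 0 := by
      intro p hp
      have hsub : T p ⊆ T₀ := Finset.subset_biUnion_of_mem T (hSf.mem_toFinset.2 hp)
      have e : cut I (T p) ≫ cut I T₀ = cut I T₀ := cut_cut I hsub
      change ev X.ringCatSheaf p.1 (cut I T₀) (g.app p.1 p.2) = 0
      have e2 : ev X.ringCatSheaf p.1 (cut I T₀) (g.app p.1 p.2) =
          ev X.ringCatSheaf p.1 (cut I T₀)
            (ev X.ringCatSheaf p.1 (cut I (T p)) (g.app p.1 p.2)) := by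
        conv_lhs => rw [← e]
        exact ev_comp X.ringCatSheaf p.1 (cut I (T p)) (cut I T₀) (g.app p.1 p.2)
      rw [e2, hT p hp, map_zero]
    have hz : ∀ x : X, x ∉ V → IsZero ((stalkFun x).obj (K : X.Modules)) := by
      intro x hx
      refine isZero_stalk_of_mono K.arrow x (isZero_stalk_extZero V.ι x ?_ _)
      rw [Scheme.Opens.range_ι]
      exact hx
    have h3 : g ≫ cut I T₀ = 0 := hom_eq_zero_of_gen _ V hz S hgen h2
    have hg : g = ∑ i ∈ T₀, (g ≫ Sigma.π I i) ≫ Sigma.ι I i := by
      have h4 : g ≫ (𝟙 _ - ∑ i ∈ T₀, Sigma.π I i ≫ Sigma.ι I i) = 0 := h3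
      rw [Preadditive.comp_sub, Category.comp_id, sub_eq_zero, Preadditive.comp_sum] at h4
      refine h4.trans ?_
      apply Finset.sum_congr rfl
      intro i _
      rw [Category.assoc]
    refine ⟨∑ i ∈ T₀, Injective.factorThru (g ≫ Sigma.π I i) K.arrow ≫ Sigma.ι I i, ?_⟩
    rw [Preadditive.comp_sum]
    conv_rhs => rw [hg]
    apply Finset.sum_congr rfl
    intro i _
    rw [← Category.assoc, Injective.comp_factorThru]

end Groth.Agent.Lib.H6xInjCoprod
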