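import Mathlib
import Groth.Agent.S0306
import Groth.Agent.S0307
import Groth.Agent.S11661
set_option backward.isDefEq.respectTransparency.types false

/-!
# Indecomposable injective modules over a Noetherian ring are concentrated at a prime (helper6)
-/

set_option autoImplicit false
set_option linter.style.haveILetI false
universe u

namespace Groth.Agent.Lib.H6xInjTilde

variable {R : Type u} [CommRing R]

/-- an injective hull of the residue field of a prime is an injective hull of the quotient -/
lemma isInjectiveHull_comp_quotient {E : Type u} [AddCommGroup E] [Module R E]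
    (p : Ideal R) [p.IsPrime] (g : p.ResidueField →ₗ[R] E) (hg : InjHull.IsInjectiveHull g) :
    InjHull.IsInjectiveHull
      (g ∘ₗ (IsScalarTower.toAlgHom R (R ⧸ p) p.ResidueField).toLinearMap) := by
  refine ⟨⟨?_, ?_⟩, hg.isInjective⟩
  · intro a b h
    exact Ideal.injective_algebraMap_quotient_residueField p (hg.injective h)
  · intro N hN
    have h1 := hg.essential N hN
    rw [Submodule.ne_bot_iff] at h1 ⊢
    obtain ⟨n, ⟨hnN, ⟨c, rfl⟩⟩, hn0⟩ := h1
    have hc : c ≠ 0 := by
      rintro rfl
      exact hn0 (map_zero g)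
    obtain ⟨⟨a, ⟨b, hb⟩⟩, hab⟩ := IsLocalization.surj (nonZeroDivisors (R ⧸ p)) c
    obtain ⟨b₀, rfl⟩ := Ideal.Quotient.mk_surjective b
    have hb0 : algebraMap (R ⧸ p) p.ResidueField (Ideal.Quotient.mk p b₀) ≠ 0 := by
      intro h0
      have h2 : Ideal.Quotient.mk p b₀ = 0 :=
        Ideal.injective_algebraMap_quotient_residueField p (h0.trans (map_zero _).symm)
      exact (nonZeroDivisors.ne_zero hb) h2
    have e1 : b₀ • c = algebraMap (R ⧸ p) p.ResidueField a := by
      rw [← hab, Algebra.smul_def, IsScalarTower.algebraMap_apply R (R ⧸ p) p.ResidueField,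
        mul_comm]
      rfl
    refine ⟨b₀ • g c, ⟨N.smul_mem b₀ hnN, ⟨a, ?_⟩⟩, ?_⟩
    · change g (algebraMap (R ⧸ p) p.ResidueField a) = b₀ • g c
      rw [← e1, map_smul]
    · rw [← map_smul]
      intro h0
      have h3 : b₀ • c = 0 := hg.injective (h0.trans (map_zero g).symm)
      rw [Algebra.smul_def, IsScalarTower.algebraMap_apply R (R ⧸ p) p.ResidueField] at h3
      rcases mul_eq_zero.1 h3 with h4 | h4
      · exact hb0 h4
      · exact hc h4

variable [IsNoetherianRing R]

/-- an indecomposable injective module over a Noetherian ring is concentrated at a prime -/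
theorem exists_prime_concentrated (E : Type u) [AddCommGroup E] [Module R E]
    (hE : InjHull.IsIndecomposable R E) (hinj : Module.Injective R E) :
    ∃ (p : Ideal R) (_ : p.IsPrime), (∀ s ∈ p, ∀ m : E, ∃ n : ℕ, s ^ n • m = 0) ∧
      (∀ s ∉ p, Function.Bijective (fun m : E => s • m)) := by
  obtain ⟨p, hp, g, hg⟩ := Groth.Agent.S0306.result R E hE hinj
  haveI := hp
  have hf := isInjectiveHull_comp_quotient p g hg
  refine ⟨p, hp, ?_, ?_⟩
  · intro s hs m
    have h1 := (Groth.Agent.S11661.result R (Submonoid.powers s) p E _ hf).1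
      ⟨s, hs, Submonoid.mem_powers s⟩
    have h2 : LocalizedModule.mkLinearMap (Submonoid.powers s) E m = 0 := Subsingleton.elim _ _
    obtain ⟨⟨_, n, rfl⟩, hc⟩ := (IsLocalizedModule.eq_zero_iff (Submonoid.powers s)
      (LocalizedModule.mkLinearMap (Submonoid.powers s) E)).1 h2
    exact ⟨n, hc⟩
  · intro s hs
    have hdis : Disjoint (p : Set R) (Submonoid.powers s : Set R) := by
      rw [Set.disjoint_left]
      rintro a hap ⟨n, rfl⟩
      exact hs (hp.mem_of_pow_mem n hap)
    have h1 := ((Groth.Agent.S11661.result R (Submonoid.powers s) p E _ hf).2 hdis).1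
    have hu : IsUnit (algebraMap R (Module.End R (LocalizedModule (Submonoid.powers s) E)) s) :=
      IsLocalizedModule.map_units (LocalizedModule.mkLinearMap (Submonoid.powers s) E)
        ⟨s, Submonoid.mem_powers s⟩
    rw [Module.End.isUnit_iff] at hu
    constructor
    · intro m m' h
      apply h1.1
      apply hu.1
      change s • LocalizedModule.mkLinearMap (Submonoid.powers s) E m =
        s • LocalizedModule.mkLinearMap (Submonoid.powers s) E m'
      rw [← map_smul, ← map_smul]
      exact congrArg _ h
    · intro m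
      obtain ⟨y, hy⟩ := hu.2 (LocalizedModule.mkLinearMap (Submonoid.powers s) E m)
      obtain ⟨m', rfl⟩ := h1.2 y
      refine ⟨m', h1.1 ?_⟩
      rw [← hy]
      exact map_smul _ s m'

end Groth.Agent.Lib.H6xInjTilde
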