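import Mathlib
import Groth.Agent.Lib.H6xInjTildeA
import Groth.Agent.Lib.H6xInjTildeB
import Groth.Agent.Lib.H6xInjCoprod
set_option backward.isDefEq.respectTransparency.types false

/-!
# `M~` is an injective `O`-module for `M` injective over a Noetherian ring (helper6)
-/

set_option autoImplicit false
set_option linter.style.haveILetI false
universe u
open CategoryTheory CategoryTheory.Limits AlgebraicGeometry TopologicalSpace Opposite

namespace Groth.Agent.Lib.H6xInjTilde

variable {R : CommRingCat.{u}}

/-- the `R`-module structure on global sections of a module on `Spec R` -/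
lemma smul_top_eq (M : (Spec R).Modules) (s' : Γ(Spec R, ⊤)) (m : Γ(M, ⊤)) :
    ((Scheme.ΓSpecIso R).hom s' : R) • m = s' • m := by
  rw [Scheme.Modules.smul_Spec_def]
  congr 1
  have h1 : ((⊤ : (Spec R).Opens).leTop).op = 𝟙 (op (⊤ : (Spec R).Opens)) := Subsingleton.elim _ _
  rw [h1, CategoryTheory.Functor.map_id]
  exact Iso.hom_inv_id_apply (Scheme.ΓSpecIso R) s'

/-- the identification of a module with the global sections of its tilde -/
noncomputable def topEquiv (E : ModuleCat.{u} R) : E ≃ₗ[R] Γ(tilde E, ⊤) :=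
  (tilde.isoTop E).toLinearEquiv

attribute [local instance] RingHomInvPair.of_ringEquiv in
theorem injective_tilde_of_concentrated (E : ModuleCat.{u} R) (p : Ideal R) [hp : p.IsPrime]
    (ha : ∀ s ∈ p, ∀ m : E, ∃ n : ℕ, s ^ n • m = 0)
    (hb : ∀ s ∉ p, Function.Bijective (fun m : E => s • m))
    (hc : Module.Injective R E) : Injective (tilde E) := by
  let x : ↥(Spec R) := (⟨p, hp⟩ : PrimeSpectrum R)
  have hmem : ∀ s' : Γ(Spec R, ⊤), x ∈ (Spec R).basicOpen s' ↔
      ((Scheme.ΓSpecIso R).hom s' : R) ∉ p := by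
    intro s'
    rw [basicOpen_eq_of_affine']
    exact PrimeSpectrum.mem_basicOpen _ _
  apply injective_of_concentrated (tilde E) x
  · intro s' hs' m
    replace hs' := not_not.1 ((hmem s').not.1 hs')
    obtain ⟨n, hn⟩ := ha _ hs' ((topEquiv E).symm m)
    refine ⟨n, ?_⟩
    have h1 : ((Scheme.ΓSpecIso R).hom s' : R) ^ n • m = 0 := by
      have := congrArg (topEquiv E) hn
      rwa [map_smul, LinearEquiv.apply_symm_apply, map_zero] at this
    have h2 : ∀ k : ℕ, ((Scheme.ΓSpecIso R).hom s' : R) ^ k • m = s' ^ k • m := by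
      intro k
      induction k with
      | zero => rw [pow_zero, pow_zero, one_smul, one_smul]
      | succ k ih => rw [pow_succ', pow_succ', mul_smul, mul_smul, ih, smul_top_eq]
    rw [← h2]
    exact h1
  · intro s' hs'
    replace hs' := (hmem s').1 hs'
    have h1 := hb _ hs'
    have h2 : (fun m : Γ(tilde E, ⊤) => s' • m) =
        (topEquiv E) ∘ (fun m : E => ((Scheme.ΓSpecIso R).hom s' : R) • m) ∘ (topEquiv E).symm := by
      funext m
      simp only [Function.comp_apply]
      rw [map_smul, LinearEquiv.apply_symm_apply, smul_top_eq]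
    rw [h2]
    exact (topEquiv E).bijective.comp (h1.comp (topEquiv E).symm.bijective)
  · haveI := hc
    let e₁ : R ≃+* Γ(Spec R, ⊤) := (Scheme.ΓSpecIso R).symm.commRingCatIsoToRingEquiv
    let e₂ : E ≃ₛₗ[RingHomClass.toRingHom e₁] Γ(tilde E, ⊤) :=
      { (topEquiv E).toAddEquiv with
        map_smul' := fun r m => by
          change topEquiv E (r • m) = (Scheme.ΓSpecIso R).inv r • topEquiv E m
          rw [map_smul, ← smul_top_eq]
          congr 1
          exact (Iso.inv_hom_id_apply (Scheme.ΓSpecIso R) r).symm }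
    exact Module.Injective.of_ringEquiv e₁ e₂

theorem injective_tilde [IsNoetherianRing R] (N : ModuleCat.{u} R) (hN : Module.Injective R N) :
    Injective (tilde N) := by
  classical
  obtain ⟨ι, E, hint, hE⟩ := Groth.Agent.S0307.result R N hN
  let Z : ι → ModuleCat.{u} R := fun i => ModuleCat.of R (E i)
  let iso1 : N ≅ ∐ Z :=
    (LinearEquiv.toModuleIso (LinearEquiv.ofBijective (DirectSum.coeLinearMap E) hint)).symm ≪≫
      (ModuleCat.coprodIsoDirectSum Z).symm
  let iso2 : tilde N ≅ ∐ (fun i => (tilde.functor R).obj (Z i)) :=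
    (tilde.functor R).mapIso iso1 ≪≫ PreservesCoproduct.iso (tilde.functor R) Z
  have h3 : Injective (∐ (fun i => (tilde.functor R).obj (Z i))) := by
    apply Groth.Agent.Lib.H6xInjCoprod.injective_coprod
    intro i
    obtain ⟨p, hp, ha, hb⟩ := exists_prime_concentrated (E i) (hE i).1 (hE i).2
    haveI := hp
    exact injective_tilde_of_concentrated (Z i) p ha hb (hE i).2
  exact Injective.of_iso iso2.symm h3

end Groth.Agent.Lib.H6xInjTilde
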