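import Mathlib
import Groth.Prelude.Def_Wider
import Groth.Agent.S0299
import Groth.Agent.S9498
import Groth.Agent.Lib.H6xEssE
import Groth.Agent.Lib.H6xInjTildeC
set_option backward.isDefEq.respectTransparency.types false

/-!
# Injective hulls of quasi-coherent modules on the spectrum of a Noetherian ring (helper6)
-/

set_option autoImplicit false
set_option linter.style.haveILetI false
universe u
open CategoryTheory CategoryTheory.Limits AlgebraicGeometry TopologicalSpace Opposite

namespace Groth.Agent.Lib.H6xEss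

open Groth.Agent.Lib.H6xInjTilde

variable {R : CommRingCat.{u}}

lemma map_topEquiv {M N : ModuleCat.{u} R} (f : M ⟶ N) (m : M) :
    (tilde.map f).app ⊤ (topEquiv M m) = topEquiv N (f m) := by
  exact congr($(tilde.toOpen_map_app f ⊤) m)

lemma inv_smul_topEquiv (E : ModuleCat.{u} R) (r : R) (x : E) :
    (Scheme.ΓSpecIso R).inv r • topEquiv E x = topEquiv E (r • x) := by
  rw [map_smul, ← smul_top_eq, Iso.inv_hom_id_apply]

/-- over a Noetherian ring, `M~` has an essential monomorphism into `E~` with `E~` injective -/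
theorem exists_tilde_hull [IsNoetherianRing R] (M : ModuleCat.{u} R) :
    ∃ (E : ModuleCat.{u} R) (f : M ⟶ E), Injective (tilde E) ∧
      IsEss ((tilde.functor R).map f) := by
  obtain ⟨E, _, _, f, hf⟩ := Groth.Agent.S0299.result R M
  let E' : ModuleCat.{u} R := ModuleCat.of R E
  let f' : M ⟶ E' := ModuleCat.ofHom f
  refine ⟨E', f', injective_tilde E' hf.isInjective, ?_⟩
  haveI : Mono f' := (ModuleCat.mono_iff_injective f').2 hf.injective
  haveI : PreservesFiniteLimits (tilde.functor R) := (Groth.Agent.S9498.aux R).1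
  haveI : (tilde.functor R).PreservesMonomorphisms := inferInstance
  haveI : Mono ((tilde.functor R).map f') := Functor.map_mono _ _
  haveI : IsNoetherianRing Γ(Spec R, ⊤) :=
    isNoetherianRing_of_ringEquiv R (Scheme.ΓSpecIso R).symm.commRingCatIsoToRingEquiv
  change IsEss (tilde.map f' : tilde M ⟶ tilde E')
  haveI : Mono (tilde.map f' : tilde M ⟶ tilde E') := ‹Mono ((tilde.functor R).map f')›
  apply isEss_of_essential_sections
  intro e he
  obtain ⟨e₀, rfl⟩ := (topEquiv E').surjective e
  have he₀ : e₀ ≠ 0 := by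
    rintro rfl
    exact he (map_zero _)
  have hN : (Submodule.span R {(e₀ : E)}) ≠ ⊥ := by
    intro h
    exact he₀ ((Submodule.span_singleton_eq_bot).1 h)
  have h2 := hf.essential _ hN
  obtain ⟨x, hx, hx0⟩ := (Submodule.ne_bot_iff _).1 h2
  obtain ⟨hx1, hx2⟩ := Submodule.mem_inf.1 hx
  obtain ⟨r, rfl⟩ := Submodule.mem_span_singleton.1 hx1
  obtain ⟨m, hm⟩ := hx2
  refine ⟨(Scheme.ΓSpecIso R).inv r, topEquiv M m, ?_, ?_⟩
  · rw [inv_smul_topEquiv]
    intro h
    exact hx0 ((topEquiv E').injective (h.trans (map_zero _).symm))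
  · rw [map_topEquiv, inv_smul_topEquiv]
    congr 1

end Groth.Agent.Lib.H6xEss
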