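import Mathlib
import Groth.Prelude.Def_Coh
import Groth.Agent.S0484
import Groth.Agent.Lib.H6xEssC
import Groth.Agent.Lib.H6xEssD
import Groth.Agent.Lib.H6xEssF
import Groth.Agent.Lib.Helper23QCohAbelian
set_option backward.isDefEq.respectTransparency.types false

/-!
# Injective hulls of quasi-coherent modules on locally Noetherian schemes are quasi-coherent
(helper6)

Consequently injective objects of `QCoh(X)` are injective `O_X`-modules.
-/

set_option autoImplicit false
set_option linter.style.haveILetI false
universe u
open CategoryTheory CategoryTheory.Limits AlgebraicGeometry TopologicalSpace Opposite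

namespace Groth.Agent.Lib.H6xEss

open Groth.Agent.Lib.H6xInjQc

variable {X : Scheme.{u}}

/-- an injective hull (in the category of all `O_X`-modules) of a quasi-coherent module on a
locally Noetherian scheme is quasi-coherent -/
theorem isQuasicoherent_of_isEss_injective [IsLocallyNoetherian X] {J I : X.Modules}
    [J.IsQuasicoherent] (i : J ⟶ I) (hi : IsEss i) [Injective I] : I.IsQuasicoherent := by
  refine Groth.Agent.Lib.Helper23.QCohLocal.isQuasicoherent_of_forall_affine I (fun V hV => ?_)
  haveI : IsNoetherianRing Γ(X, V) := IsLocallyNoetherian.component_noetherian ⟨V, hV⟩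
  let R := Γ(X, V)
  let J' : (Spec R).Modules := (Scheme.Modules.restrictFunctor hV.fromSpec).obj J
  let I' : (Spec R).Modules := (Scheme.Modules.restrictFunctor hV.fromSpec).obj I
  have hi' : IsEss ((Scheme.Modules.restrictFunctor hV.fromSpec).map i) :=
    isEss_restrict hV.fromSpec hi
  haveI : Injective I' := injective_restrict hV.fromSpec I
  haveI : J'.IsQuasicoherent := Scheme.Modules.isQuasicoherent_restrictFunctor hV.fromSpec J
  haveI : IsIso J'.fromTildeΓ := Scheme.Modules.isIso_fromTildeΓ_of_isQuasicoherent J'
  obtain ⟨E, f, hEinj, hfess⟩ := exists_tilde_hull (moduleSpecΓFunctor.obj J')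
  let e0 := asIso J'.fromTildeΓ
  have hess' : IsEss (e0.inv ≫ (tilde.functor R).map f) := hfess.comp_iso_left e0.inv
  haveI := hEinj
  obtain ⟨e, -⟩ := IsEss.exists_iso_of_injective (I := I') (I' := tilde E) hi' hess'
  exact (SheafOfModules.isQuasicoherent (Spec R).ringCatSheaf).prop_of_iso e.symm
    (inferInstance : (tilde E).IsQuasicoherent)

/-- **injective objects of `QCoh(X)` are injective `O_X`-modules** on a locally Noetherian
scheme -/
theorem injective_obj_of_injective_qcoh_locallyNoetherian [IsLocallyNoetherian X]
    (J : ObjectProperty.FullSubcategory (fun M : X.Modules => Coh.IsQCoh M)) (hJ : Injective J) :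
    Injective J.obj := by
  haveI : J.obj.IsQuasicoherent := J.property
  haveI : IsGrothendieckAbelian.{u} X.Modules :=
    Groth.Agent.S0484.result (Opens.grothendieckTopology X) X.ringCatSheaf
  obtain ⟨G, i, hGi, hi⟩ := exists_isEss_injective (C := X.Modules) J.obj
  haveI := hGi
  have hGq : G.IsQuasicoherent := isQuasicoherent_of_isEss_injective i hi
  haveI := hi.mono
  let G' : ObjectProperty.FullSubcategory (fun M : X.Modules => Coh.IsQCoh M) := ⟨G, hGq⟩
  let i' : J ⟶ G' := ObjectProperty.homMk i
  haveI : Mono i' := by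
    refine ⟨fun {Z} a b hab => ?_⟩
    apply ObjectProperty.hom_ext
    rw [← cancel_mono i]
    exact congrArg (fun t => t.hom) hab
  obtain ⟨r, hr⟩ := hJ.factors (𝟙 J) i'
  have hr' : i ≫ r.hom = 𝟙 J.obj := congrArg (fun t => t.hom) hr
  refine ⟨fun {A B} g f _ => ?_⟩
  obtain ⟨h, hh⟩ := hGi.factors (g ≫ i) f
  refine ⟨h ≫ r.hom, ?_⟩
  rw [← Category.assoc, hh, Category.assoc, hr', Category.comp_id]

end Groth.Agent.Lib.H6xEss
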