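import Mathlib

/-!
# Homomorphisms from a finite étale algebra to an algebraic closure (helper6, second team)

For a finite étale algebra `L` over a field `K` there are exactly `dim_K L` homomorphisms of
`K`-algebras from `L` to an algebraic closure of `K`; an element whose images are pairwise
distinct generates `L`.
-/

set_option autoImplicit false
universe u

namespace Groth.Agent.Lib.H6xEtaleHoms

open TensorProduct

section Etale

variable (K L : Type u) [Field K] [CommRing L] [Algebra K L] [Module.Finite K L]

/-- a finite reduced algebra with separable elements is formally étale -/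
theorem formallyEtale_of_reduced_separable [IsReduced L] [Algebra.IsSeparable K L] :
    Algebra.FormallyEtale K L := by
  classical
  haveI : IsArtinianRing L := isArtinian_of_tower K inferInstance
  rw [Algebra.FormallyEtale.iff_of_equiv ((IsArtinianRing.equivPi L).restrictScalars K),
    Algebra.FormallyEtale.pi_iff]
  intro m
  letI : Field (L ⧸ m.asIdeal) := Ideal.Quotient.field m.asIdeal
  haveI : Algebra.IsSeparable K (L ⧸ m.asIdeal) := by
    constructor
    intro y
    obtain ⟨x, rfl⟩ := Ideal.Quotient.mk_surjective y
    have hx : IsSeparable K x := Algebra.IsSeparable.isSeparable K x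
    have hdvd : minpoly K (Ideal.Quotient.mk m.asIdeal x) ∣ minpoly K x := by
      apply minpoly.dvd
      have : Polynomial.aeval (Ideal.Quotient.mk m.asIdeal x) (minpoly K x) =
          (Ideal.Quotient.mkₐ K m.asIdeal) (Polynomial.aeval x (minpoly K x)) := by
        rw [← Polynomial.aeval_algHom_apply]; rfl
      rw [this, minpoly.aeval, map_zero]
    exact hx.of_dvd hdvd
  exact Algebra.FormallyEtale.of_isSeparable K _

variable [Algebra.FormallyEtale K L]

/-- there are at least `dim_K L` homomorphisms to the algebraic closure -/
theorem finrank_le_card_algHom :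
    Module.finrank K L ≤ Nat.card (L →ₐ[K] AlgebraicClosure K) := by
  classical
  let Ω := AlgebraicClosure K
  let LΩ := Ω ⊗[K] L
  haveI : IsArtinianRing LΩ := isArtinian_of_tower Ω inferInstance
  haveI : Finite (PrimeSpectrum LΩ) := inferInstance
  letI : Fintype (PrimeSpectrum LΩ) := Fintype.ofFinite _
  let e : LΩ ≃ₐ[Ω] (PrimeSpectrum LΩ → Ω) := Algebra.FormallyEtale.equivPiOfIsSepClosed Ω LΩ
  have hcard : Module.finrank K L = Fintype.card (PrimeSpectrum LΩ) := by
    rw [← Module.finrank_baseChange (R := Ω) (S := K) (M' := L), e.toLinearEquiv.finrank_eq,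
      Module.finrank_fintype_fun_eq_card]
  -- the homomorphisms
  let ev : PrimeSpectrum LΩ → (LΩ →ₐ[Ω] Ω) := fun p => (Pi.evalAlgHom Ω (fun _ => Ω) p).comp e.toAlgHom
  let σ : PrimeSpectrum LΩ → (L →ₐ[K] Ω) := fun p =>
    ((ev p).restrictScalars K).comp Algebra.TensorProduct.includeRight
  have hσ : Function.Injective σ := by
    intro p q hpq
    have hev : ev p = ev q := by
      apply Algebra.TensorProduct.ext
      · ext
      · exact hpq
    by_contra hne
    have h1 : ev p (e.symm (Pi.single p 1)) = 1 := by
      show e (e.symm (Pi.single p 1)) p = 1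
      rw [AlgEquiv.apply_symm_apply, Pi.single_eq_same]
    have h2 : ev q (e.symm (Pi.single p 1)) = 0 := by
      show e (e.symm (Pi.single p 1)) q = 0
      rw [AlgEquiv.apply_symm_apply, Pi.single_eq_of_ne (Ne.symm hne)]
    rw [hev, h2] at h1
    exact zero_ne_one h1
  haveI : Finite (L →ₐ[K] Ω) := inferInstance
  rw [hcard, Fintype.card_eq_nat_card]
  exact Nat.card_le_card_of_injective σ hσ

theorem card_algHom_eq_finrank :
    Nat.card (L →ₐ[K] AlgebraicClosure K) = Module.finrank K L :=
  le_antisymm (card_algHom_le_finrank K L _) (finrank_le_card_algHom K L)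

variable {K L}

/-- an element separated by all homomorphisms generates -/
theorem adjoin_eq_top_of_injective (w : L)
    (hw : Function.Injective fun σ : L →ₐ[K] AlgebraicClosure K => σ w) :
    Algebra.adjoin K ({w} : Set L) = ⊤ := by
  classical
  let Ω := AlgebraicClosure K
  let B : Subalgebra K L := Algebra.adjoin K ({w} : Set L)
  have hres : Function.Injective fun σ : L →ₐ[K] Ω => σ.comp B.val := by
    intro σ τ hστ
    apply hw
    have := congrArg (fun f : B →ₐ[K] Ω => f ⟨w, Algebra.subset_adjoin (Set.mem_singleton w)⟩) hστ
    exact this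
  haveI : Finite (B →ₐ[K] Ω) := inferInstance
  have h1 : Nat.card (L →ₐ[K] Ω) ≤ Nat.card (B →ₐ[K] Ω) := Nat.card_le_card_of_injective _ hres
  have h2 : Nat.card (B →ₐ[K] Ω) ≤ Module.finrank K B := card_algHom_le_finrank K B Ω
  rw [card_algHom_eq_finrank] at h1
  have h3 : Module.finrank K B ≤ Module.finrank K L := Submodule.finrank_le (Subalgebra.toSubmodule B)
  have h4 : Module.finrank K B = Module.finrank K L := le_antisymm h3 (h1.trans h2)
  exact Algebra.toSubmodule_eq_top.1 (Submodule.eq_top_of_finrank_eq (B.finrank_toSubmodule.trans h4))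

end Etale

end Groth.Agent.Lib.H6xEtaleHoms
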