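import Mathlib
import Groth.Agent.Lib.H6xEulerPtA
import Groth.Agent.Lib.Helper1Sky9
set_option backward.isDefEq.respectTransparency.types false

/-!
# The Euler characteristic of a perfect object is locally constant (helper6)
-/

set_option autoImplicit false
set_option linter.style.haveILetI false

universe u

open CategoryTheory CategoryTheory.Limits AlgebraicGeometry TopologicalSpace Opposite

attribute [local instance] HasDerivedCategory.standard

namespace Groth.Agent.Lib.H6xEulerPt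

open Groth.Agent.Lib.Helper1.Sky

theorem exists_opens_le_finset {α ι : Type*} [TopologicalSpace α] (s : Finset ι)
    (U : ι → Opens α) (x : α) (hx : ∀ j ∈ s, x ∈ U j) :
    ∃ W : Opens α, x ∈ W ∧ ∀ j ∈ s, W ≤ U j := by
  classical
  induction s using Finset.induction_on with
  | empty => exact ⟨⊤, trivial, by simp⟩
  | insert j s hj ih =>
    obtain ⟨W, hxW, hW⟩ := ih (fun k hk => hx k (Finset.mem_insert_of_mem hk))
    refine ⟨W ⊓ U j, ⟨hxW, hx j (Finset.mem_insert_self _ _)⟩, fun k hk => ?_⟩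
    rcases Finset.mem_insert.1 hk with rfl | hk
    · exact inf_le_right
    · exact inf_le_left.trans (hW k hk)

/-- the pullback of a module which is free over an open containing the image is free -/
theorem nonempty_pullback_iso_freeMod {Z Y : Scheme.{u}} (g : Z ⟶ Y) (U : Y.Opens)
    (hg : Set.range g ⊆ U) (F : Y.Modules) (n : ℕ)
    (e : F.restrict U.ι ≅ FlatMod.freeMod (U : Scheme.{u}) n) :
    Nonempty ((Scheme.Modules.pullback g).obj F ≅ FlatMod.freeMod Z n) := by
  let g' : Z ⟶ (U : Scheme.{u}) := IsOpenImmersion.lift U.ι g (by simpa using hg)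
  have hfac : g' ≫ U.ι = g := IsOpenImmersion.lift_fac _ _ _
  exact ⟨(Scheme.Modules.pullbackCongr hfac.symm).app F ≪≫
    ((Scheme.Modules.pullbackComp g' U.ι).app F).symm ≪≫
    (Scheme.Modules.pullback g').mapIso
      (((Scheme.Modules.restrictFunctorIsoPullback U.ι).app F).symm ≪≫ e) ≪≫
    Groth.Agent.Lib.R2H2.PullLF.pullbackFreeIso g' n⟩

/-- the Euler characteristic at a point of an object which is, near the point, a strictly perfect
complex with free terms -/
theorem eulerChar_eq_of_local_free (X : Scheme.{u}) (E : DCoh.D X) (x : X)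
    [DCoh.HasLpull (X.fromSpecResidueField x)]
    (V : X.Opens) (hxV : x ∈ V) (F₀ : CochainComplex X.Modules ℤ) (e₀ : DCoh.toD X F₀ ≅ E)
    (P : CochainComplex (V : Scheme.{u}).Modules ℤ) (hP : DCoh.IsStrictlyPerfect P)
    (eP : DerivedCategory.Q.obj ((DCoh.restrictCx V).obj F₀) ≅ DerivedCategory.Q.obj P)
    (a b : ℤ) (hv : DCoh.VanishesOutside P a b) (n : ℤ → ℕ) (U : ℤ → (V : Scheme.{u}).Opens)
    (hU : ∀ j ∈ Finset.Icc a b, (⟨x, hxV⟩ : V) ∈ U j ∧
      Nonempty ((P.X j).restrict (U j).ι ≅ FlatMod.freeMod (U j : Scheme.{u}) (n j))) :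
    PerfD.eulerChar E x = ∑ j ∈ Finset.Icc a b, ((j.negOnePow : ℤˣ) : ℤ) * (n j : ℤ) := by
  have hrange : Set.range (X.fromSpecResidueField x) ⊆ Set.range V.ι := by
    rw [Scheme.range_fromSpecResidueField, Scheme.Opens.range_ι]
    simpa using hxV
  let jx : Spec (X.residueField x) ⟶ (V : Scheme.{u}) :=
    IsOpenImmersion.lift V.ι (X.fromSpecResidueField x) hrange
  have hfac : jx ≫ V.ι = X.fromSpecResidueField x := IsOpenImmersion.lift_fac _ _ _
  have hjx : ∀ s, jx s = ⟨x, hxV⟩ := fun s => by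
    apply Subtype.ext
    have h1 : (jx ≫ V.ι) s = x := by
      rw [hfac]; exact Scheme.fromSpecResidueField_apply x s
    exact h1
  haveI : DCoh.HasLpull jx := hasLpull _
  haveI : DCoh.HasLpull V.ι := hasLpull _
  haveI : DCoh.HasLpull (jx ≫ V.ι) := hasLpull _
  obtain ⟨c1⟩ := nonempty_lpull_comp_iso jx V.ι
  obtain ⟨c3⟩ := nonempty_lpull_congr hfac
  let C : CochainComplex (Spec (X.residueField x)).Modules ℤ := (pullC jx).obj P
  have hC : DCoh.IsStrictlyPerfect C := isStrictlyPerfect_pullC jx P hP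
  have hvC : DCoh.VanishesOutside C a b := fun i hi =>
    (Scheme.Modules.pullback jx).map_isZero (hv i hi)
  have iso : (DCoh.Lpull (X.fromSpecResidueField x)).obj E ≅
      DCoh.toD (Spec (X.residueField x)) C :=
    (DCoh.Lpull (X.fromSpecResidueField x)).mapIso e₀.symm ≪≫ (c3.app _).symm ≪≫
      (c1.app _).symm ≪≫ (DCoh.Lpull jx).mapIso (lpullOpenIso V F₀ ≪≫ eP) ≪≫
      lpullIso jx P (kffs_of_isStrictlyPerfect P hP)
  have hn : ∀ j ∈ Finset.Icc a b,
      Nonempty (C.X j ≅ FlatMod.freeMod (Spec (X.residueField x)) (n j)) := fun j hj => by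
    obtain ⟨hxU, ⟨e⟩⟩ := hU j hj
    refine nonempty_pullback_iso_freeMod jx (U j) ?_ (P.X j) (n j) e
    rintro _ ⟨s, rfl⟩
    rw [hjx s]
    exact hxU
  exact eulerChar_spec_field (X.residueField x) (Field.toIsField _) C hC a b hvC n hn _ iso

/-- S1059: the Euler characteristic of a perfect object is locally constant -/
theorem isLocallyConstant_eulerChar (X : Scheme.{u})
    [∀ x : X, DCoh.HasLpull (X.fromSpecResidueField x)]
    (E : DCoh.D X) (hE : DCoh.IsPerfect E) :
    IsLocallyConstant (fun x : X => PerfD.eulerChar E x) := by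
  rw [IsLocallyConstant.iff_exists_open]
  intro x₀
  obtain ⟨V, hx₀V, hV⟩ := hE x₀
  let F₀ : CochainComplex X.Modules ℤ := DerivedCategory.Q.objPreimage E
  let e₀ : DCoh.toD X F₀ ≅ E := DerivedCategory.Q.objObjPreimageIso E
  obtain ⟨P, hP, ⟨eP⟩⟩ := hV F₀ ⟨e₀⟩
  obtain ⟨⟨a, b, hv⟩, hfl⟩ := id hP
  choose U n hxU hUn using fun j => hfl j ⟨x₀, hx₀V⟩
  obtain ⟨W', hx₀W', hW'⟩ := exists_opens_le_finset (Finset.Icc a b) U (⟨x₀, hx₀V⟩ : V)
    (fun j _ => hxU j)
  have key : ∀ x : X, x ∈ V.ι ''ᵁ W' → PerfD.eulerChar E x =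
      ∑ j ∈ Finset.Icc a b, ((j.negOnePow : ℤˣ) : ℤ) * (n j : ℤ) := by
    rintro x ⟨⟨x', hx'V⟩, hx'W, rfl⟩
    exact eulerChar_eq_of_local_free X E _ V hx'V F₀ e₀ P hP eP a b hv n U
      (fun j hj => ⟨hW' j hj hx'W, hUn j⟩)
  refine ⟨V.ι ''ᵁ W', (V.ι ''ᵁ W').isOpen, ⟨⟨x₀, hx₀V⟩, hx₀W', rfl⟩, fun x hx => ?_⟩
  rw [key x hx, key x₀ ⟨⟨x₀, hx₀V⟩, hx₀W', rfl⟩]

end Groth.Agent.Lib.H6xEulerPt
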