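import Mathlib

set_option autoImplicit false

/-! Sums over finitely supported exponent vectors of monomials in a summable family: summability,
non-vanishing (Möbius inversion), and regrouping into a Dirichlet series. -/

namespace Groth.Agent.Lib.H6xEulerSum

open Finset

section real

variable {ι : Type*}

/-- the monomial weight -/
noncomputable def W (u : ι → ℝ) (α : ι →₀ ℕ) : ℝ := α.prod fun i m => u i ^ m

theorem geom_bound {u ρ : ℝ} (h0 : 0 ≤ u) (hu : u ≤ ρ) (hρ : ρ < 1) (M : ℕ) :
    ∑ m ∈ range M, u ^ m ≤ Real.exp (u / (1 - ρ)) := by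
  have hu1 : u < 1 := lt_of_le_of_lt hu hρ
  have h1 : ∑ m ∈ range M, u ^ m ≤ (1 - u)⁻¹ :=
    sum_le_hasSum _ (fun i _ => pow_nonneg h0 i) (hasSum_geometric_of_lt_one h0 hu1)
  have h3 : 0 < 1 - u := by linarith
  have h4 : 0 < 1 - ρ := by linarith
  have h2 : (1 - u)⁻¹ ≤ 1 + u / (1 - ρ) := by
    rw [inv_eq_one_div, div_le_iff₀ h3]
    have h5 : u ≤ u * (1 - u) / (1 - ρ) := by
      rw [le_div_iff₀ h4]
      nlinarith
    have : (1 + u / (1 - ρ)) * (1 - u) = 1 - u + u * (1 - u) / (1 - ρ) := by
      field_simp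
    rw [this]
    linarith
  have h6 : 1 + u / (1 - ρ) ≤ Real.exp (u / (1 - ρ)) := by
    have := Real.add_one_le_exp (u / (1 - ρ))
    linarith
  linarith

theorem summable_W (u : ι → ℝ) (ρ : ℝ) (h0 : ∀ i, 0 ≤ u i) (hu : ∀ i, u i ≤ ρ) (hρ : ρ < 1)
    (hs : Summable u) : Summable (W u) := by
  classical
  have hWnn : ∀ α, 0 ≤ W u α := fun α => Finset.prod_nonneg fun i _ => pow_nonneg (h0 i) _
  apply summable_of_sum_le hWnn (c := Real.exp ((∑' i, u i) / (1 - ρ)))
  intro T
  obtain ⟨S, hS⟩ : ∃ S : Finset ι, ∀ α ∈ T, α.support ⊆ S :=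
    ⟨T.biUnion Finsupp.support, fun α hα => Finset.subset_biUnion_of_mem Finsupp.support hα⟩
  obtain ⟨M, hM⟩ : ∃ M : ℕ, ∀ α ∈ T, ∀ i, α i < M := by
    refine ⟨(T.sup fun α => α.support.sup α) + 1, fun α hα i => ?_⟩
    by_cases hi : i ∈ α.support
    · have h1 : α i ≤ α.support.sup α := Finset.le_sup (f := α) hi
      have h2 : α.support.sup α ≤ T.sup fun α => α.support.sup α :=
        Finset.le_sup (f := fun α : ι →₀ ℕ => α.support.sup α) hα
      omega
    · rw [Finsupp.notMem_support_iff.mp hi]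
      omega
  have hWS : ∀ α ∈ T, W u α = ∏ i : S, u i ^ α i := by
    intro α hα
    rw [W, Finsupp.prod_of_support_subset α (hS α hα) _ (fun i _ => pow_zero _),
      ← Finset.prod_coe_sort]
  let φ : (ι →₀ ℕ) → (S → ℕ) := fun α i => α i
  have hφ : Set.InjOn φ T := by
    intro α hα β hβ h
    ext i
    by_cases hi : i ∈ S
    · exact congrFun h ⟨i, hi⟩
    · have h1 : i ∉ α.support := fun h' => hi (hS α hα h')
      have h2 : i ∉ β.support := fun h' => hi (hS β hβ h')
      rw [Finsupp.notMem_support_iff.mp h1, Finsupp.notMem_support_iff.mp h2]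
  have h4 : 0 < 1 - ρ := by linarith
  calc ∑ α ∈ T, W u α = ∑ α ∈ T, ∏ i : S, u i ^ (φ α i) := Finset.sum_congr rfl hWS
    _ = ∑ g ∈ T.image φ, ∏ i : S, u i ^ g i := (Finset.sum_image (f := fun g : S → ℕ => ∏ i : S, u i ^ g i) hφ).symm
    _ ≤ ∑ g ∈ Fintype.piFinset (fun _ : S => range M), ∏ i : S, u i ^ g i := by
        apply Finset.sum_le_sum_of_subset_of_nonneg
        · intro g hg
          obtain ⟨α, hα, rfl⟩ := Finset.mem_image.mp hg
          rw [Fintype.mem_piFinset]
          intro i
          exact Finset.mem_range.mpr (hM α hα i)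
        · intro g _ _
          exact Finset.prod_nonneg fun i _ => pow_nonneg (h0 i) _
    _ = ∏ i : S, ∑ m ∈ range M, u i ^ m :=
        (Finset.prod_univ_sum (fun _ : S => range M) (fun i m => u i ^ m)).symm
    _ ≤ ∏ i : S, Real.exp (u i / (1 - ρ)) :=
        Finset.prod_le_prod (fun i _ => Finset.sum_nonneg fun m _ => pow_nonneg (h0 i) m)
          (fun i _ => geom_bound (h0 i) (hu i) hρ M)
    _ = Real.exp (∑ i : S, u i / (1 - ρ)) := (Real.exp_sum _ _).symm
    _ ≤ Real.exp ((∑' i, u i) / (1 - ρ)) := by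
        rw [Real.exp_le_exp, ← Finset.sum_div, Finset.sum_coe_sort S u]
        apply div_le_div_of_nonneg_right _ h4.le
        exact hs.sum_le_tsum S (fun i _ => h0 i)

end real

section complex

variable {ι : Type*} (v : ι → ℂ)

/-- complex monomial weight -/
noncomputable def w (α : ι →₀ ℕ) : ℂ := α.prod fun i m => v i ^ m

theorem norm_w (α : ι →₀ ℕ) : ‖w v α‖ = W (fun i => ‖v i‖) α := by
  rw [w, W, Finsupp.prod, Finsupp.prod, norm_prod]
  simp only [norm_pow]

theorem w_add (α β : ι →₀ ℕ) : w v (α + β) = w v α * w v β := by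
  classical
  exact Finsupp.prod_add_index' (fun i => pow_zero _) (fun i m n => pow_add _ _ _)

theorem w_zero : w v 0 = 1 := Finsupp.prod_zero_index

open Classical

/-- the Möbius weight -/
noncomputable def mu (β : ι →₀ ℕ) : ℂ := if ∀ i, β i ≤ 1 then (-1) ^ β.support.card else 0

theorem norm_mu_le (β : ι →₀ ℕ) : ‖mu β‖ ≤ 1 := by
  rw [mu]
  split_ifs
  · simp
  · simp

/-- indicator vector of a finite set -/
noncomputable def ind (T : Finset ι) : ι →₀ ℕ := Finsupp.indicator T (fun _ _ => 1)

theorem ind_apply (T : Finset ι) (i : ι) : ind T i = if i ∈ T then 1 else 0 := by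
  rw [ind, Finsupp.indicator_apply]
  split_ifs <;> rfl

theorem sum_mu (γ : ι →₀ ℕ) :
    ∑ p ∈ Finset.HasAntidiagonal.antidiagonal γ, mu p.2 = if γ = 0 then 1 else 0 := by
  have h1 : ∑ p ∈ Finset.HasAntidiagonal.antidiagonal γ, mu p.2 =
      ∑ p ∈ (Finset.HasAntidiagonal.antidiagonal γ).filter (fun p => ∀ i, p.2 i ≤ 1), (-1 : ℂ) ^ p.2.support.card := by
    rw [Finset.sum_filter]
    rfl
  rw [h1]
  have h2 : ∑ p ∈ (Finset.HasAntidiagonal.antidiagonal γ).filter (fun p => ∀ i, p.2 i ≤ 1),
      (-1 : ℂ) ^ p.2.support.card = ∑ T ∈ γ.support.powerset, (-1 : ℂ) ^ T.card := by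
    refine Finset.sum_bij' (fun p _ => p.2.support) (fun T _ => (γ - ind T, ind T)) ?_ ?_ ?_ ?_ ?_
    · intro p hp
      rw [Finset.mem_filter, Finset.HasAntidiagonal.mem_antidiagonal] at hp
      rw [Finset.mem_powerset]
      intro i hi
      rw [Finsupp.mem_support_iff] at hi ⊢
      rw [← hp.1, Finsupp.add_apply]
      omega
    · intro T hT
      rw [Finset.mem_powerset] at hT
      rw [Finset.mem_filter, Finset.HasAntidiagonal.mem_antidiagonal]
      have hle : ind T ≤ γ := by
        intro i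
        rw [ind_apply]
        split_ifs with hi
        · have := Finsupp.mem_support_iff.mp (hT hi)
          omega
        · exact Nat.zero_le _
      refine ⟨tsub_add_cancel_of_le hle, fun i => ?_⟩
      show ind T i ≤ 1
      rw [ind_apply]
      split_ifs <;> omega
    · intro p hp
      rw [Finset.mem_filter, Finset.HasAntidiagonal.mem_antidiagonal] at hp
      have e1 : ind p.2.support = p.2 := by
        ext i
        rw [ind_apply]
        split_ifs with hi
        · have h1 := Finsupp.mem_support_iff.mp hi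
          have h2 := hp.2 i
          omega
        · exact (Finsupp.notMem_support_iff.mp hi).symm
      have e2 : γ - p.2 = p.1 := by
        rw [← hp.1]
        exact add_tsub_cancel_right _ _
      simp only [e1, e2]
    · intro T hT
      ext i
      simp only [Finsupp.mem_support_iff, ind_apply]
      split_ifs with hi
      · simp [hi]
      · simp [hi]
    · intro p hp
      rfl
  rw [h2]
  have h3 := Finset.sum_powerset_neg_one_pow_card (x := γ.support)
  have h4 : ∑ T ∈ γ.support.powerset, (-1 : ℂ) ^ T.card =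
      ((∑ T ∈ γ.support.powerset, (-1 : ℤ) ^ T.card : ℤ) : ℂ) := by
    push_cast
    rfl
  rw [h4, h3]
  simp only [Finsupp.support_eq_empty]
  split_ifs <;> simp

end complex

section cauchy
variable {ι : Type*} [DecidableEq ι]

theorem cauchy_finsupp (f g : (ι →₀ ℕ) → ℂ) (hs : Summable fun α => ‖f α‖)
    (h1 : Summable fun β => ‖g β‖) :
    (∑' α, f α) * (∑' β, g β) =
      ∑' γ : ι →₀ ℕ, ∑ p ∈ Finset.HasAntidiagonal.antidiagonal γ, f p.1 * g p.2 :=
  Summable.tsum_mul_tsum_eq_tsum_sum_antidiagonal hs.of_norm h1.of_norm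
    (summable_mul_of_summable_norm hs h1)

end cauchy

section nonvanishing
open Classical
variable {ι : Type*} (v : ι → ℂ)

/-- the Euler sum does not vanish (Möbius inversion) -/
theorem tsum_w_ne_zero (hs : Summable fun α => ‖w v α‖) : ∑' α, w v α ≠ 0 := by
  have h1 : Summable fun β => ‖mu β * w v β‖ := by
    refine Summable.of_nonneg_of_le (fun _ => norm_nonneg _) (fun β => ?_) hs
    rw [norm_mul]
    calc ‖mu β‖ * ‖w v β‖ ≤ 1 * ‖w v β‖ :=
          mul_le_mul_of_nonneg_right (norm_mu_le β) (norm_nonneg _)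
      _ = ‖w v β‖ := one_mul _
  have h2 := cauchy_finsupp (w v) (fun β => mu β * w v β) hs h1
  have h3 : ∀ γ : ι →₀ ℕ,
      ∑ p ∈ Finset.HasAntidiagonal.antidiagonal γ, w v p.1 * (mu p.2 * w v p.2) =
      if γ = 0 then 1 else 0 := by
    intro γ
    have : ∀ p ∈ Finset.HasAntidiagonal.antidiagonal γ,
        w v p.1 * (mu p.2 * w v p.2) = mu p.2 * w v γ := by
      intro p hp
      rw [← (Finset.HasAntidiagonal.mem_antidiagonal.mp hp), w_add]
      ring
    rw [Finset.sum_congr rfl this, ← Finset.sum_mul, sum_mu]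
    split_ifs with h
    · rw [h, w_zero, one_mul]
    · rw [zero_mul]
  simp only [h3] at h2
  rw [tsum_ite_eq] at h2
  intro h0
  rw [h0, zero_mul] at h2
  exact zero_ne_one h2

end nonvanishing

section fibers

/-- regrouping a sum of `N(α)^{-s}` into a Dirichlet series -/
theorem lseries_of_fibers {E : Type*} (N : E → ℕ) (s : ℂ) (hs : s ≠ 0)
    (hsum : Summable fun α => ((N α : ℂ)) ^ (-s)) :
    LSeriesSummable (fun n => (Nat.card {α // N α = n} : ℂ)) s ∧
      LSeries (fun n => (Nat.card {α // N α = n} : ℂ)) s = ∑' α, ((N α : ℂ)) ^ (-s) := by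
  have h1 := hsum.hasSum.tsum_fiberwise N
  have hterm : ∀ n, ∑' b : N ⁻¹' {n}, ((N b : ℂ)) ^ (-s) =
      LSeries.term (fun n => (Nat.card {α // N α = n} : ℂ)) s n := by
    intro n
    have h2 : ∀ b : N ⁻¹' {n}, ((N b : ℂ)) ^ (-s) = (n : ℂ) ^ (-s) := fun b => by
      rw [show N b = n from b.2]
    simp only [h2]
    rw [tsum_const, LSeries.term]
    split_ifs with hn
    · rw [hn]
      simp [Complex.zero_cpow (neg_ne_zero.mpr hs)]
    · rw [Complex.cpow_neg, nsmul_eq_mul, div_eq_mul_inv]
      rfl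
  simp only [hterm] at h1
  exact ⟨h1.summable, h1.tsum_eq⟩

end fibers

section euler
open Classical

variable {ι : Type*} (d N : ι → ℕ) (P : ι → Prop) (q c r : ℕ)

theorem summable_theta (hq : 2 ≤ q)
    (hcount : ∀ e, 0 < e → ∀ T : Finset ι, (∀ x ∈ T, P x ∧ d x = e) → T.card ≤ c * q ^ (r * e))
    (hd : ∀ x, P x → 0 < d x) (σ : ℝ) (hσ : (r : ℝ) < σ) :
    Summable (fun x => if P x then ((q : ℝ) ^ (-σ)) ^ d x else 0) := by
  set θ : ℝ := (q : ℝ) ^ (-σ) with hθ
  have hq1 : (1 : ℝ) < q := by exact_mod_cast (show 1 < q by omega)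
  have hq0 : (0 : ℝ) < q := by linarith
  have hθ0 : 0 < θ := Real.rpow_pos_of_pos hq0 _
  set η : ℝ := (q : ℝ) ^ r * θ with hη
  have hη0 : 0 ≤ η := by positivity
  have hη1 : η < 1 := by
    rw [hη, hθ, ← Real.rpow_natCast, ← Real.rpow_add hq0]
    exact Real.rpow_lt_one_of_one_lt_of_neg hq1 (by linarith)
  apply summable_of_sum_le (c := c * (1 - η)⁻¹)
  · intro x
    show (0 : ℝ) ≤ if P x then θ ^ d x else 0
    split_ifs
    · exact (pow_pos hθ0 _).le
    · exact le_rfl
  · intro S
    rw [← Finset.sum_filter]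
    set S' := S.filter P with hS'
    obtain ⟨M, hM⟩ : ∃ M, ∀ x ∈ S', d x < M :=
      ⟨S'.sup d + 1, fun x hx => Nat.lt_succ_of_le (Finset.le_sup hx)⟩
    have hmaps : ∀ x ∈ S', d x ∈ Finset.range M := fun x hx => Finset.mem_range.mpr (hM x hx)
    rw [← Finset.sum_fiberwise_of_maps_to hmaps]
    calc ∑ e ∈ Finset.range M, ∑ x ∈ S'.filter (fun x => d x = e), θ ^ d x
        ≤ ∑ e ∈ Finset.range M, (c : ℝ) * η ^ e := by
          apply Finset.sum_le_sum
          intro e _
          by_cases he : 0 < e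
          · have h1 : ∀ x ∈ S'.filter (fun x => d x = e), θ ^ d x = θ ^ e := by
              intro x hx
              rw [(Finset.mem_filter.mp hx).2]
            rw [Finset.sum_congr rfl h1, Finset.sum_const, nsmul_eq_mul]
            have h2 := hcount e he (S'.filter (fun x => d x = e)) (fun x hx => by
              rw [Finset.mem_filter, hS', Finset.mem_filter] at hx
              exact ⟨hx.1.2, hx.2⟩)
            have h3 : ((S'.filter (fun x => d x = e)).card : ℝ) ≤ (c : ℝ) * ((q : ℝ) ^ r) ^ e := by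
              have : ((c * q ^ (r * e) : ℕ) : ℝ) = (c : ℝ) * ((q : ℝ) ^ r) ^ e := by
                push_cast
                rw [pow_mul]
              rw [← this]
              exact_mod_cast h2
            calc _ ≤ (c : ℝ) * ((q : ℝ) ^ r) ^ e * θ ^ e :=
                  mul_le_mul_of_nonneg_right h3 (pow_pos hθ0 e).le
              _ = (c : ℝ) * η ^ e := by rw [hη, mul_pow, mul_assoc]
          · have : S'.filter (fun x => d x = e) = ∅ := by
              apply Finset.filter_eq_empty_iff.mpr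
              intro x hx h
              have := hd x (Finset.mem_filter.mp hx).2
              omega
            rw [this, Finset.sum_empty]
            positivity
      _ = (c : ℝ) * ∑ e ∈ Finset.range M, η ^ e := (Finset.mul_sum _ _ _).symm
      _ ≤ (c : ℝ) * (1 - η)⁻¹ := by
          apply mul_le_mul_of_nonneg_left _ (Nat.cast_nonneg c)
          exact sum_le_hasSum _ (fun i _ => pow_nonneg hη0 i) (hasSum_geometric_of_lt_one hη0 hη1)

/-- Abstract Euler product: absolute convergence and non-vanishing of the Dirichlet series of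
effective cycles, from a count of points of each degree. -/
theorem euler_main (hq : 2 ≤ q) (hN : ∀ x, P x → N x = q ^ d x) (hd : ∀ x, P x → 0 < d x)
    (hcount : ∀ e, 0 < e → ∀ T : Finset ι, (∀ x ∈ T, P x ∧ d x = e) → T.card ≤ c * q ^ (r * e))
    (s : ℂ) (hs : (r : ℝ) < s.re) :
    LSeriesSummable (fun n => (Nat.card {α : ι →₀ ℕ // (∀ x ∈ α.support, P x) ∧
        α.prod (fun x m => N x ^ m) = n} : ℂ)) s ∧
      LSeries (fun n => (Nat.card {α : ι →₀ ℕ // (∀ x ∈ α.support, P x) ∧
        α.prod (fun x m => N x ^ m) = n} : ℂ)) s ≠ 0 := by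
  have hr0 : (0 : ℝ) ≤ r := Nat.cast_nonneg r
  have hs0 : s ≠ 0 := by
    intro h
    rw [h, Complex.zero_re] at hs
    linarith
  set v : ι → ℂ := fun x => if P x then ((N x : ℂ)) ^ (-s) else 0 with hv
  have hq1 : (1 : ℝ) < q := by exact_mod_cast (show 1 < q by omega)
  have hq0 : (0 : ℝ) < q := by linarith
  set θ : ℝ := (q : ℝ) ^ (-s.re) with hθ
  have hθ0 : 0 < θ := Real.rpow_pos_of_pos hq0 _
  have hθ1 : θ < 1 := Real.rpow_lt_one_of_one_lt_of_neg hq1 (by linarith)
  have hnorm : ∀ x, ‖v x‖ = if P x then θ ^ d x else 0 := by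
    intro x
    simp only [hv]
    split_ifs with hx
    · rw [hN x hx, Complex.norm_natCast_cpow_of_pos (pow_pos (by omega) _), Complex.neg_re,
        Nat.cast_pow, ← Real.rpow_pow_comm hq0.le]
    · exact norm_zero
  have hsum_u : Summable fun x => ‖v x‖ := by
    simp only [hnorm]
    exact summable_theta d P q c r hq hcount hd s.re hs
  have hsumW : Summable fun α => ‖w v α‖ := by
    simp only [norm_w]
    apply summable_W (fun i => ‖v i‖) θ (fun i => norm_nonneg _) _ hθ1 hsum_u
    intro i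
    rw [hnorm]
    split_ifs with hi
    · exact pow_le_of_le_one hθ0.le hθ1.le (hd i hi).ne'
    · exact hθ0.le
  set Nt : (ι →₀ ℕ) → ℕ := fun α =>
    if (∀ x ∈ α.support, P x) then α.prod (fun x m => N x ^ m) else 0 with hNt
  have hw : ∀ α, w v α = ((Nt α : ℂ)) ^ (-s) := by
    intro α
    simp only [hNt]
    split_ifs with hα
    · let φ : ℕ →* ℂ :=
        { toFun := fun n => (n : ℂ) ^ (-s)
          map_one' := by simp
          map_mul' := fun m n => by
            push_cast
            exact Complex.natCast_mul_natCast_cpow m n _ }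
      show _ = φ _
      rw [map_finsuppProd, w]
      apply Finsupp.prod_congr
      intro x hx
      rw [map_pow]
      simp only [hv, if_pos (hα x hx)]
      rfl
    · push Not at hα
      obtain ⟨x, hx, hPx⟩ := hα
      rw [Nat.cast_zero, Complex.zero_cpow (neg_ne_zero.mpr hs0), w, Finsupp.prod]
      apply Finset.prod_eq_zero hx
      simp only [hv, if_neg hPx]
      exact zero_pow (Finsupp.mem_support_iff.mp hx)
  have hsumN : Summable fun α => ((Nt α : ℂ)) ^ (-s) := by
    simp only [← hw]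
    exact hsumW.of_norm
  obtain ⟨h1, h2⟩ := lseries_of_fibers Nt s hs0 hsumN
  have hcongr : ∀ {n : ℕ}, n ≠ 0 → (Nat.card {α // Nt α = n} : ℂ) =
      (Nat.card {α : ι →₀ ℕ // (∀ x ∈ α.support, P x) ∧
        α.prod (fun x m => N x ^ m) = n} : ℂ) := by
    intro n hn
    congr 1
    apply Nat.card_congr
    apply Equiv.subtypeEquivRight
    intro α
    simp only [hNt]
    split_ifs with hα
    · exact ⟨fun h => ⟨hα, h⟩, fun h => h.2⟩
    · exact ⟨fun h => absurd h.symm hn, fun h => absurd h.1 hα⟩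
  refine ⟨(LSeriesSummable_congr s hcongr).mp h1, ?_⟩
  rw [← LSeries_congr hcongr s, h2]
  simp only [← hw]
  exact tsum_w_ne_zero v hsumW

end euler

end Groth.Agent.Lib.H6xEulerSum
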