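import Mathlib
import Groth.Agent.Lib.H6xEulerSum

set_option autoImplicit false

/-! Euler products over points whose norms are prime powers of varying characteristic. -/

namespace Groth.Agent.Lib.H6xEulerSum

open Finset

section euler2
open Classical

variable {ι : Type*} (N : ι → ℕ) (P : ι → Prop)

/-- Abstract Euler product with general norms. -/
theorem euler_main' (hN : ∀ x, P x → 2 ≤ N x) (s : ℂ) (hs : 0 < s.re)
    (hsum : Summable fun x => if P x then ((N x : ℝ)) ^ (-s.re) else 0) :
    LSeriesSummable (fun n => (Nat.card {α : ι →₀ ℕ // (∀ x ∈ α.support, P x) ∧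
        α.prod (fun x m => N x ^ m) = n} : ℂ)) s ∧
      LSeries (fun n => (Nat.card {α : ι →₀ ℕ // (∀ x ∈ α.support, P x) ∧
        α.prod (fun x m => N x ^ m) = n} : ℂ)) s ≠ 0 := by
  have hs0 : s ≠ 0 := by
    intro h
    rw [h, Complex.zero_re] at hs
    exact lt_irrefl _ hs
  set v : ι → ℂ := fun x => if P x then ((N x : ℂ)) ^ (-s) else 0 with hv
  set θ : ℝ := (2 : ℝ) ^ (-s.re) with hθ
  have hθ0 : 0 < θ := Real.rpow_pos_of_pos (by norm_num) _
  have hθ1 : θ < 1 := Real.rpow_lt_one_of_one_lt_of_neg (by norm_num) (by linarith)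
  have hnorm : ∀ x, ‖v x‖ = if P x then ((N x : ℝ)) ^ (-s.re) else 0 := by
    intro x
    simp only [hv]
    split_ifs with hx
    · rw [Complex.norm_natCast_cpow_of_pos (by have := hN x hx; omega), Complex.neg_re]
    · exact norm_zero
  have hsum_u : Summable fun x => ‖v x‖ := by
    simp only [hnorm]
    exact hsum
  have hsumW : Summable fun α => ‖w v α‖ := by
    simp only [norm_w]
    apply summable_W (fun i => ‖v i‖) θ (fun i => norm_nonneg _) _ hθ1 hsum_u
    intro i
    rw [hnorm]
    split_ifs with hi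
    · exact Real.rpow_le_rpow_of_nonpos (by norm_num) (by exact_mod_cast hN i hi) (by linarith)
    · exact hθ0.le
  set Nt : (ι →₀ ℕ) → ℕ := fun α =>
    if (∀ x ∈ α.support, P x) then α.prod (fun x m => N x ^ m) else 0 with hNt
  have hw : ∀ α, w v α = ((Nt α : ℂ)) ^ (-s) := by
    intro α
    simp only [hNt]
    split_ifs with hα
    · let φ : ℕ →* ℂ :=
        { toFun := fun n => (n : ℂ) ^ (-s)
          map_one' := by simp
          map_mul' := fun m n => by
            push_cast
            exact Complex.natCast_mul_natCast_cpow m n _ }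
      show _ = φ _
      rw [map_finsuppProd, w]
      apply Finsupp.prod_congr
      intro x hx
      rw [map_pow]
      simp only [hv, if_pos (hα x hx)]
      rfl
    · push Not at hα
      obtain ⟨x, hx, hPx⟩ := hα
      rw [Nat.cast_zero, Complex.zero_cpow (neg_ne_zero.mpr hs0), w, Finsupp.prod]
      apply Finset.prod_eq_zero hx
      simp only [hv, if_neg hPx]
      exact zero_pow (Finsupp.mem_support_iff.mp hx)
  have hsumN : Summable fun α => ((Nt α : ℂ)) ^ (-s) := by
    simp only [← hw]
    exact hsumW.of_norm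
  obtain ⟨h1, h2⟩ := lseries_of_fibers Nt s hs0 hsumN
  have hcongr : ∀ {n : ℕ}, n ≠ 0 → (Nat.card {α // Nt α = n} : ℂ) =
      (Nat.card {α : ι →₀ ℕ // (∀ x ∈ α.support, P x) ∧
        α.prod (fun x m => N x ^ m) = n} : ℂ) := by
    intro n hn
    congr 1
    apply Nat.card_congr
    apply Equiv.subtypeEquivRight
    intro α
    simp only [hNt]
    split_ifs with hα
    · exact ⟨fun h => ⟨hα, h⟩, fun h => h.2⟩
    · exact ⟨fun h => absurd h.symm hn, fun h => absurd h.1 hα⟩
  refine ⟨(LSeriesSummable_congr s hcongr).mp h1, ?_⟩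
  rw [← LSeries_congr hcongr s, h2]
  simp only [← hw]
  exact tsum_w_ne_zero v hsumW

/-- Summability of `∑ N(x)^{-σ}` from point counts, uniformly in the characteristic. -/
theorem summable_arith (C p₀ r : ℕ)
    (hpp : ∀ x, P x → ∃ p m, p.Prime ∧ 1 ≤ m ∧ N x = p ^ m)
    (hcount : ∀ p m, p.Prime → 1 ≤ m → ∀ T : Finset ι, (∀ x ∈ T, P x ∧ N x = p ^ m) →
      (p₀ ≤ p → T.card * p ^ m ≤ C * p ^ (m * r)) ∧ T.card ≤ C * p ^ (m * r))
    (σ : ℝ) (hσ : (r : ℝ) < σ) :
    Summable fun x => if P x then ((N x : ℝ)) ^ (-σ) else 0 := by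
  let Pp : ℕ → ι → Prop := fun p x => P x ∧ ∃ m, 1 ≤ m ∧ N x = p ^ m
  let Pbig : ι → Prop := fun x => P x ∧ ∀ p, p < p₀ → p.Prime → ¬ Pp p x
  -- small primes
  have h_small : ∀ p, p.Prime → Summable fun x => if Pp p x then ((N x : ℝ)) ^ (-σ) else 0 := by
    intro p hp
    have hlog : ∀ x, Pp p x → 1 ≤ Nat.log p (N x) ∧ N x = p ^ Nat.log p (N x) := by
      rintro x ⟨_, m, hm, hx⟩
      rw [hx, Nat.log_pow hp.one_lt]
      exact ⟨hm, rfl⟩
    have h1 := summable_theta (fun x => Nat.log p (N x)) (Pp p) p C r hp.two_le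
      (fun e he T hT => by
        have := (hcount p e hp he T (fun x hx => ⟨(hT x hx).1.1, by
          have := (hlog x (hT x hx).1).2
          rw [(hT x hx).2] at this
          exact this⟩)).2
        rw [Nat.mul_comm e r] at this
        exact this)
      (fun x hx => (hlog x hx).1) σ hσ
    refine h1.congr fun x => ?_
    split_ifs with hx
    · have h2 := (hlog x hx).2
      have hp0 : (0 : ℝ) ≤ p := Nat.cast_nonneg p
      rw [Real.rpow_pow_comm hp0, ← Nat.cast_pow, ← h2]
    · rfl
  -- large primes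
  have hexp : (r : ℝ) - 1 - σ < -1 := by linarith
  have hzeta : Summable fun n : ℕ => (n : ℝ) ^ ((r : ℝ) - 1 - σ) := Real.summable_nat_rpow.mpr hexp
  have h_big : Summable fun x => if Pbig x then ((N x : ℝ)) ^ (-σ) else 0 := by
    apply summable_of_sum_le (c := C * ∑' n : ℕ, (n : ℝ) ^ ((r : ℝ) - 1 - σ))
    · intro x
      show (0 : ℝ) ≤ if Pbig x then ((N x : ℝ)) ^ (-σ) else 0
      split_ifs
      · exact Real.rpow_nonneg (Nat.cast_nonneg _) _
      · exact le_rfl
    · intro S
      rw [← Finset.sum_filter]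
      set S' := S.filter Pbig with hS'
      have hmaps : ∀ x ∈ S', N x ∈ S'.image N := fun x hx => Finset.mem_image_of_mem N hx
      rw [← Finset.sum_fiberwise_of_maps_to hmaps]
      calc ∑ n ∈ S'.image N, ∑ x ∈ S'.filter (fun x => N x = n), ((N x : ℝ)) ^ (-σ)
          ≤ ∑ n ∈ S'.image N, (C : ℝ) * (n : ℝ) ^ ((r : ℝ) - 1 - σ) := by
            apply Finset.sum_le_sum
            intro n hn
            obtain ⟨x₀, hx₀, hx₀n⟩ := Finset.mem_image.mp hn
            have hbig : Pbig x₀ := (Finset.mem_filter.mp hx₀).2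
            obtain ⟨p, m, hp, hm, hpm⟩ := hpp x₀ hbig.1
            have hpp₀ : p₀ ≤ p := by
              by_contra hlt
              exact hbig.2 p (by omega) hp ⟨hbig.1, m, hm, hpm⟩
            have hnpm : n = p ^ m := by rw [← hx₀n, hpm]
            obtain ⟨T, hTdef⟩ : ∃ T, T = S'.filter (fun x => N x = n) := ⟨_, rfl⟩
            rw [← hTdef]
            have hT := (hcount p m hp hm T (fun x hx => by
              rw [hTdef, Finset.mem_filter] at hx
              exact ⟨(Finset.mem_filter.mp hx.1).2.1, by rw [hx.2, hnpm]⟩)).1 hpp₀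
            have h1 : ∀ x ∈ T, ((N x : ℝ)) ^ (-σ) = (n : ℝ) ^ (-σ) := by
              intro x hx
              rw [hTdef] at hx
              rw [(Finset.mem_filter.mp hx).2]
            rw [Finset.sum_congr rfl h1, Finset.sum_const, nsmul_eq_mul]
            have hn0 : (0 : ℝ) < n := by
              rw [hnpm]
              exact_mod_cast pow_pos hp.pos m
            have h2 : (T.card : ℝ) * (n : ℝ) ≤ (C : ℝ) * (n : ℝ) ^ r := by
              have : T.card * n ≤ C * n ^ r := by
                rw [hnpm, ← pow_mul]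
                exact hT
              exact_mod_cast this
            have h3 : (n : ℝ) ^ ((r : ℝ) - 1 - σ) = (n : ℝ) ^ r / (n : ℝ) * (n : ℝ) ^ (-σ) := by
              rw [show (r : ℝ) - 1 - σ = ((r : ℝ) - 1) + (-σ) by ring, Real.rpow_add hn0,
                Real.rpow_sub hn0, Real.rpow_natCast, Real.rpow_one]
            rw [h3, ← mul_assoc]
            apply mul_le_mul_of_nonneg_right _ (Real.rpow_nonneg hn0.le _)
            rw [mul_div_assoc', le_div_iff₀ hn0]
            exact h2
        _ = (C : ℝ) * ∑ n ∈ S'.image N, (n : ℝ) ^ ((r : ℝ) - 1 - σ) := (Finset.mul_sum _ _ _).symm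
        _ ≤ (C : ℝ) * ∑' n : ℕ, (n : ℝ) ^ ((r : ℝ) - 1 - σ) := by
            apply mul_le_mul_of_nonneg_left _ (Nat.cast_nonneg C)
            exact hzeta.sum_le_tsum _ (fun n _ => Real.rpow_nonneg (Nat.cast_nonneg n) _)
  -- combine
  have h_all : Summable fun x => (if Pbig x then ((N x : ℝ)) ^ (-σ) else 0) +
      ∑ p ∈ (Finset.range p₀).filter Nat.Prime, if Pp p x then ((N x : ℝ)) ^ (-σ) else 0 :=
    h_big.add (summable_sum fun p hp => h_small p (Finset.mem_filter.mp hp).2)
  refine Summable.of_nonneg_of_le (fun x => ?_) (fun x => ?_) h_all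
  · split_ifs
    · exact Real.rpow_nonneg (Nat.cast_nonneg _) _
    · exact le_rfl
  · have hnn : ∀ p ∈ (Finset.range p₀).filter Nat.Prime,
        (0 : ℝ) ≤ if Pp p x then ((N x : ℝ)) ^ (-σ) else 0 := by
      intro p _
      split_ifs
      · exact Real.rpow_nonneg (Nat.cast_nonneg _) _
      · exact le_rfl
    by_cases hx : P x
    · rw [if_pos hx]
      by_cases hb : Pbig x
      · rw [if_pos hb]
        have := Finset.sum_nonneg hnn
        linarith
      · have : ∃ p, p < p₀ ∧ p.Prime ∧ Pp p x := by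
          by_contra hcon
          push Not at hcon
          exact hb ⟨hx, fun p hp hpr => hcon p hp hpr⟩
        obtain ⟨p, hp, hpr, hPp⟩ := this
        have hmem : p ∈ (Finset.range p₀).filter Nat.Prime :=
          Finset.mem_filter.mpr ⟨Finset.mem_range.mpr hp, hpr⟩
        have h1 := Finset.single_le_sum hnn hmem
        rw [if_pos hPp] at h1
        rw [if_neg hb]
        linarith
    · rw [if_neg hx]
      have h2 : (0 : ℝ) ≤ if Pbig x then ((N x : ℝ)) ^ (-σ) else 0 := by
        split_ifs
        · exact Real.rpow_nonneg (Nat.cast_nonneg _) _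
        · exact le_rfl
      have := Finset.sum_nonneg hnn
      linarith

end euler2

end Groth.Agent.Lib.H6xEulerSum
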