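import Mathlib
import Groth.Agent.Lib.H6xFBCG
import Groth.Agent.Lib.Helper3HzP
set_option backward.isDefEq.respectTransparency.types false

/-!
# Dualizing complexes of (strict) henselizations (helper6)
-/

set_option autoImplicit false
set_option linter.style.haveILetI false
universe u

namespace Groth.Agent.Lib.H6xFBC

open CategoryTheory CategoryTheory.Limits DerivedCategory TensorProduct
open Groth.Agent.Lib.Helper1.Extend Groth.Agent.Lib.Helper1.LDer Groth.Agent.Lib.H6xLoc
open Groth.Agent.Lib.H6xDual Groth.Agent.Lib.H6xBid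
attribute [local instance] HasDerivedCategory.standard

/-- ascent of dualizing complexes along a flat local map with `m_A B = m_B` -/
theorem isDualizing_LBaseChange_of_local {A : Type u} {B : Type u} [CommRing A] [CommRing B]
    [Algebra A B] [IsNoetherianRing A] [IsNoetherianRing B] [Module.Flat A B]
    [IsLocalRing A] [IsLocalRing B] [IsLocalHom (algebraMap A B)]
    (hm : (IsLocalRing.maximalIdeal A).map (algebraMap A B) = IsLocalRing.maximalIdeal B)
    [DRing.HasLBaseChange (algebraMap A B)]
    (ω : Dual.D A) (hω : Dual.IsDualizing A ω) :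
    Dual.IsDualizing B ((DRing.LBaseChange (algebraMap A B)).obj ω) := by
  obtain ⟨e⟩ := Groth.Agent.Lib.H6xPCDesc.nonempty_lbc_iso_extD (A := A) (B := B) ω
  refine isDualizing_of_iso e.symm (isDualizing_extD_of_forall_maximal_map ω hω (fun n hn => ?_))
  have hnm : n = IsLocalRing.maximalIdeal B := IsLocalRing.eq_maximalIdeal hn
  rw [hnm, IsLocalRing.maximalIdeal_comap (algebraMap A B), hm]

theorem isDualizing_LBaseChange_henselization (A B : Type u) [CommRing A] [IsLocalRing A]
    [IsNoetherianRing A] [CommRing B] [IsLocalRing B] [IsNoetherianRing B] [Algebra A B]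
    [IsLocalHom (algebraMap A B)] [Hensel.IsHenselization A B]
    [DRing.HasLBaseChange (algebraMap A B)] (ω : Dual.D A) (hω : Dual.IsDualizing A ω) :
    Dual.IsDualizing B ((DRing.LBaseChange (algebraMap A B)).obj ω) := by
  haveI : Module.FaithfullyFlat A B := Groth.Agent.Lib.Helper3.HzP.hz_faithfullyFlat A B
  exact isDualizing_LBaseChange_of_local
    (Groth.Agent.Lib.Helper3.HzP.hz_map_maximalIdeal A B) ω hω

theorem isDualizing_LBaseChange_strictHenselization (A B : Type u) [CommRing A] [IsLocalRing A]
    [IsNoetherianRing A] [CommRing B] [IsLocalRing B] [IsNoetherianRing B] [Algebra A B]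
    [IsLocalHom (algebraMap A B)] [Hensel.IsStrictHenselization A B]
    [DRing.HasLBaseChange (algebraMap A B)] (ω : Dual.D A) (hω : Dual.IsDualizing A ω) :
    Dual.IsDualizing B ((DRing.LBaseChange (algebraMap A B)).obj ω) := by
  haveI : Module.FaithfullyFlat A B := Groth.Agent.Lib.Helper3.HzP.sh_faithfullyFlat A B
  exact isDualizing_LBaseChange_of_local
    (Groth.Agent.Lib.Helper3.HzP.sh_map_maximalIdeal A B) ω hω

end Groth.Agent.Lib.H6xFBC
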