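import Mathlib

/-!
# Flat base change of the `I`-torsion submodule and of free modules over `A ⧸ I` (helper6)
-/

set_option autoImplicit false
universe u v w

namespace Groth.Agent.Lib.H6xFSt

open TensorProduct

section torsion

variable {A : Type u} [CommRing A] (B : Type v) [CommRing B] [Algebra A B]
variable (M : Type w) [AddCommGroup M] [Module A M]

/-- The map `m ↦ (y i • m)_i`. -/
noncomputable def mulMap {d : ℕ} (y : Fin d → A) : M →ₗ[A] (Fin d → M) :=
  LinearMap.pi (fun i => y i • LinearMap.id)

theorem mulMap_apply {d : ℕ} (y : Fin d → A) (m : M) (i : Fin d) : mulMap M y m i = y i • m := rfl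

theorem ker_mulMap {d : ℕ} (y : Fin d → A) :
    LinearMap.ker (mulMap M y) = Submodule.torsionBySet A M (Ideal.span (Set.range y) : Set A) := by
  rw [← Submodule.torsionBySet_eq_torsionBySet_span]
  ext m
  rw [LinearMap.mem_ker, Submodule.mem_torsionBySet_iff]
  constructor
  · rintro h ⟨_, ⟨i, rfl⟩⟩
    exact congrFun h i
  · intro h
    funext i
    exact h ⟨y i, ⟨i, rfl⟩⟩

theorem exact_subtype_mulMap {d : ℕ} (y : Fin d → A) :
    Function.Exact (Submodule.torsionBySet A M (Ideal.span (Set.range y) : Set A)).subtype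
      (mulMap M y) := by
  rw [LinearMap.exact_iff, ker_mulMap, Submodule.range_subtype]

theorem lTensor_pi_eq_zero {d : ℕ} (w : B ⊗[A] (Fin d → M))
    (h : ∀ i, (LinearMap.proj i : (Fin d → M) →ₗ[A] M).lTensor B w = 0) : w = 0 := by
  have key : ∀ (w : B ⊗[A] (Fin d → M)) (i : Fin d),
      TensorProduct.piRight A A B (fun _ : Fin d => M) w i =
        (LinearMap.proj i : (Fin d → M) →ₗ[A] M).lTensor B w := by
    intro w i
    induction w with
    | zero => simp
    | add a b ha hb => rw [map_add, Pi.add_apply, ha, hb, map_add]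
    | tmul b f => simp
  apply (TensorProduct.piRight A A B (fun _ : Fin d => M)).injective
  rw [map_zero]
  funext i
  rw [Pi.zero_apply, key, h i]

variable [Module.Flat A B]

theorem range_lTensor_torsion {d : ℕ} (y : Fin d → A) (z : B ⊗[A] M) :
    z ∈ LinearMap.range
        ((Submodule.torsionBySet A M (Ideal.span (Set.range y) : Set A)).subtype.lTensor B) ↔
      ∀ i, algebraMap A B (y i) • z = 0 := by
  have hex := Module.Flat.lTensor_exact B (exact_subtype_mulMap M y)
  rw [← (LinearMap.exact_iff.1 hex), LinearMap.mem_ker]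
  have key : ∀ i, (LinearMap.proj i : (Fin d → M) →ₗ[A] M).lTensor B ((mulMap M y).lTensor B z) =
      algebraMap A B (y i) • z := by
    intro i
    rw [← LinearMap.comp_apply, ← LinearMap.lTensor_comp]
    have : (LinearMap.proj i : (Fin d → M) →ₗ[A] M) ∘ₗ mulMap M y = y i • LinearMap.id := by
      ext m
      rfl
    rw [this, LinearMap.lTensor_smul, LinearMap.smul_apply, LinearMap.lTensor_id,
      LinearMap.id_apply, algebraMap_smul]
  constructor
  · intro h i
    rw [← key i, h, map_zero]
  · intro h
    apply lTensor_pi_eq_zero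
    intro i
    rw [key i, h i]

omit [Module.Flat A B] in
theorem mem_torsionBySet_map_iff {N : Type*} [AddCommGroup N] [Module B N] {d : ℕ}
    (y : Fin d → A) (z : N) :
    z ∈ Submodule.torsionBySet B N
        ((Ideal.span (Set.range y)).map (algebraMap A B) : Set B) ↔
      ∀ i, algebraMap A B (y i) • z = 0 := by
  rw [Ideal.map_span, ← Submodule.torsionBySet_eq_torsionBySet_span,
    Submodule.mem_torsionBySet_iff]
  constructor
  · intro h i
    exact h ⟨_, ⟨y i, ⟨i, rfl⟩, rfl⟩⟩
  · rintro h ⟨_, ⟨_, ⟨i, rfl⟩, rfl⟩⟩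
    exact h i

/-- **Flat base change of torsion**: `(B ⊗ M)[IB] = B ⊗ M[I]`. -/
theorem range_baseChange_torsion {d : ℕ} (y : Fin d → A) :
    LinearMap.range
        ((Submodule.torsionBySet A M (Ideal.span (Set.range y) : Set A)).subtype.baseChange B) =
      Submodule.torsionBySet B (B ⊗[A] M)
        ((Ideal.span (Set.range y)).map (algebraMap A B) : Set B) := by
  ext z
  rw [mem_torsionBySet_map_iff, ← range_lTensor_torsion]
  rfl

theorem baseChange_subtype_injective (N : Submodule A M) :
    Function.Injective (N.subtype.baseChange B) :=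
  Module.Flat.lTensor_preserves_injective_linearMap (M := B) N.subtype N.injective_subtype

end torsion

section free

variable {A : Type u} [CommRing A] (B : Type v) [CommRing B] [Algebra A B]

open Classical in
/-- `B ⊗ (A/I)^(J) = (B/IB)^(J)`. -/
noncomputable def finsuppQuotEquiv (I : Ideal A) (J : Type w) :
    (J →₀ B ⧸ I.map (algebraMap A B)) ≃ₗ[B] B ⊗[A] (J →₀ A ⧸ I) :=
  (Finsupp.mapRange.linearEquiv
      (Algebra.TensorProduct.quotIdealMapEquivTensorQuot B I).toLinearEquiv) ≪≫ₗ
    (TensorProduct.finsuppRight A B B (A ⧸ I) J).symm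

end free

section assemble

variable {A : Type u} [CommRing A] (B : Type v) [CommRing B] [Algebra A B] [Module.Flat A B]
variable {M : Type w} [AddCommGroup M] [Module A M]

/-- A linear equivalence restricts to the torsion submodules. -/
noncomputable def torsionEquiv {R : Type*} [CommRing R] {X Y : Type*} [AddCommGroup X] [Module R X]
    [AddCommGroup Y] [Module R Y] (θ : X ≃ₗ[R] Y) (s : Set R) :
    Submodule.torsionBySet R X s ≃ₗ[R] Submodule.torsionBySet R Y s :=
  LinearEquiv.ofSubmodules θ _ _ (by
    ext z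
    rw [Submodule.mem_map_equiv, Submodule.mem_torsionBySet_iff, Submodule.mem_torsionBySet_iff]
    constructor
    · intro h a
      have := h a
      rw [← map_smul, LinearEquiv.map_eq_zero_iff] at this
      exact this
    · intro h a
      rw [← map_smul, h a, map_zero])

/-- **The Frobenius step, abstractly**: if `M[I]` is free over `A/I` on `J` and `M' ≃ B ⊗ M` for a
flat `A`-algebra `B`, then `M'[IB]` is free over `B/IB` on `J`. -/
theorem nonempty_equiv_torsion_of_flat {M' : Type*} [AddCommGroup M'] [Module B M']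
    (θ : B ⊗[A] M ≃ₗ[B] M') {d : ℕ} (y : Fin d → A) (J : Type*)
    (ψ : (J →₀ A ⧸ Ideal.span (Set.range y)) ≃ₗ[A]
      Submodule.torsionBySet A M (Ideal.span (Set.range y) : Set A)) :
    Nonempty ((J →₀ B ⧸ (Ideal.span (Set.range y)).map (algebraMap A B)) ≃ₗ[B]
      Submodule.torsionBySet B M' ((Ideal.span (Set.range y)).map (algebraMap A B) : Set B)) := by
  refine ⟨finsuppQuotEquiv B (Ideal.span (Set.range y)) J ≪≫ₗ
    (LinearEquiv.baseChange A B _ _ ψ) ≪≫ₗ
    (LinearEquiv.ofInjective _ (baseChange_subtype_injective B M _)) ≪≫ₗ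
    (LinearEquiv.ofEq _ _ (range_baseChange_torsion B M y)) ≪≫ₗ
    torsionEquiv θ _⟩

end assemble

end Groth.Agent.Lib.H6xFSt
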