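import Mathlib
import Groth.Agent.Lib.H6xHKc
import Groth.Agent.Lib.Helper5RLR
import Groth.Agent.Lib.Helper5LocalFlat
import Groth.Agent.Lib.Helper5Tor1
import Groth.Agent.Lib.Helper5RegSeqPow
import Groth.Agent.Lib.Helper5JacFlat

/-!
# Towards Kunz's theorem: the Frobenius of a regular local ring is flat (helper6)
-/

set_option autoImplicit false
universe u

namespace Groth.Agent.Lib.H6xKunz

open IsLocalRing TensorProduct

section

variable {A : Type u} [CommRing A] [IsRegularLocalRing A]

theorem exists_regular_system {d : ℕ} (hd : ringKrullDim A = d) :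
    ∃ z : Fin d → A, Ideal.span (Set.range z) = maximalIdeal A := by
  have hNoeth : IsNoetherianRing A := inferInstance
  have hreg : ((maximalIdeal A).spanFinrank : WithBot ℕ∞) = ringKrullDim A :=
    IsRegularLocalRing.spanFinrank_maximalIdeal
  rw [hd] at hreg
  have hreg' : (maximalIdeal A).spanFinrank = d := by exact_mod_cast hreg
  obtain ⟨s, z, hs, hsup⟩ := Groth.Agent.Lib.Helper5.exists_extension_span_eq_maximalIdeal
    (R := A) (r := 0) (fun i => i.elim0) (linearIndependent_empty_type)
  have hsd : s = d := by omega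
  subst hsd
  refine ⟨fun i => (z i : A), ?_⟩
  have : (Set.range fun i : Fin 0 => ((Fin.elim0 i : maximalIdeal A) : A)) = ∅ :=
    Set.range_eq_empty _
  rw [this, Ideal.span_empty, sup_bot_eq] at hsup
  exact hsup

variable (p : ℕ) [Fact p.Prime] [CharP A p]

/-- **Kunz, the easy direction (local case)**: the Frobenius of a regular local ring is flat. -/
theorem flat_FR_of_isRegularLocalRing (e : ℕ) : Module.Flat A (H6xHK.FR A p e) := by
  have hNoeth : IsNoetherianRing A := inferInstance
  obtain ⟨d, hd⟩ := Groth.Agent.Lib.Helper5.exists_nat_ringKrullDim_eq A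
  obtain ⟨x, hx⟩ := exists_regular_system hd
  have hreg := Groth.Agent.Lib.Helper5.isRegular_ofFn_of_span_eq_maximalIdeal hd x hx
  have hpos : 1 ≤ p ^ e := Nat.one_le_pow _ _ (Fact.out : p.Prime).pos
  -- the powers form a regular sequence on `A`
  have hpow : RingTheory.Sequence.IsWeaklyRegular A (List.ofFn fun i => x i ^ p ^ e) :=
    Groth.Agent.Lib.Helper5.isWeaklyRegular_ofFn_pow d x (fun _ => p ^ e) (fun _ => hpos)
      hreg.toIsWeaklyRegular
  -- hence the original sequence is regular on `F_* A`
  have hB : RingTheory.Sequence.IsWeaklyRegular (H6xHK.FR A p e) (List.ofFn x) := by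
    rw [← RingTheory.Sequence.isWeaklyRegular_map_algebraMap_iff (H6xHK.FR A p e)
      (H6xHK.FR A p e) (List.ofFn x), List.map_ofFn]
    exact hpow
  have hofList : Ideal.ofList (List.ofFn x) = maximalIdeal A := by
    rw [Groth.Agent.Lib.Helper5.ofList_ofFn, hx]
  refine Groth.Agent.Lib.Helper5.flat_of_lTensor_ideal_injective (A := A)
    (B := H6xHK.FR A p e) (H6xHK.FR A p e) (maximalIdeal A) ?_ ?_ ?_
  · rw [IsLocalRing.jacobson_eq_maximalIdeal ⊥ bot_ne_top]
    have hloc : IsLocalHom (algebraMap A (H6xHK.FR A p e)) := inferInstance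
    exact ((IsLocalRing.local_hom_TFAE (algebraMap A (H6xHK.FR A p e))).out 0 2).1 hloc
  · rw [← hofList]
    exact Groth.Agent.Lib.Helper5.lTensor_ofList_subtype_injective_of_isWeaklyRegular _ hB
  · intro K
    refine Groth.Agent.Lib.Helper5.lTensor_restrictScalars_subtype_injective_of_flat_baseChange
      (maximalIdeal A) ?_ K
    change Module.Flat (ResidueField A) ((ResidueField A) ⊗[A] (H6xHK.FR A p e))
    infer_instance

theorem frobenius_flat_of_isRegularLocalRing : (frobenius A p).Flat := by
  have h := flat_FR_of_isRegularLocalRing (A := A) p 1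
  have h2 : (iterateFrobenius A p 1).Flat := h
  rwa [iterateFrobenius_one] at h2

end

end Groth.Agent.Lib.H6xKunz
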