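import Mathlib
import Groth.Agent.Lib.H6xKunzE
import Groth.Agent.Lib.H6xHKa
import Groth.Agent.Lib.Helper5GorArt
import Groth.Agent.S0342
import Groth.Agent.S0344

/-!
# The quotients `A ⧸ 𝔪^[q]` of a regular local ring are self-injective (helper6)
-/

set_option autoImplicit false
universe u

namespace Groth.Agent.Lib.H6xFSt

open IsLocalRing Groth.Agent.Lib.H6xHK

section

variable {A : Type u} [CommRing A] [IsLocalRing A] (p : ℕ) [Fact p.Prime] [CharP A p]

theorem fpow_maximalIdeal_ne_top (e : ℕ) : fpow p (maximalIdeal A) e ≠ ⊤ := fun h =>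
  (maximalIdeal.isMaximal A).ne_top (top_le_iff.1 (h ▸ fpow_le p (maximalIdeal A) e))

instance (e : ℕ) : Nontrivial (A ⧸ fpow p (maximalIdeal A) e) :=
  Ideal.Quotient.nontrivial_iff.2 (fpow_maximalIdeal_ne_top p e)

instance (e : ℕ) : IsLocalRing (A ⧸ fpow p (maximalIdeal A) e) :=
  IsLocalRing.of_surjective' (Ideal.Quotient.mk _) Ideal.Quotient.mk_surjective

theorem isArtinianRing_quot_fpow [IsNoetherianRing A] (e : ℕ) :
    IsArtinianRing (A ⧸ fpow p (maximalIdeal A) e) := by
  rw [isArtinianRing_iff_krullDimLE_zero, Ring.krullDimLE_zero_iff]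
  intro P hP
  have hle : maximalIdeal (A ⧸ fpow p (maximalIdeal A) e) ≤ P := by
    intro b hb
    obtain ⟨a, rfl⟩ := Ideal.Quotient.mk_surjective b
    have ha : a ∈ maximalIdeal A := by
      by_contra hna
      have hu : IsUnit a := by
        by_contra h
        exact hna ((mem_maximalIdeal _).2 h)
      exact (mem_maximalIdeal _).1 hb (hu.map _)
    have h0 : (Ideal.Quotient.mk (fpow p (maximalIdeal A) e) a) ^ p ^ e = 0 := by
      rw [← map_pow]
      exact Ideal.Quotient.eq_zero_iff_mem.2 (pow_mem_fpow p ha e)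
    exact hP.mem_of_pow_mem _ (h0 ▸ P.zero_mem)
  have := (maximalIdeal.isMaximal (A ⧸ fpow p (maximalIdeal A) e)).eq_of_le hP.ne_top hle
  rw [← this]
  exact maximalIdeal.isMaximal _

end

section

variable {A : Type u} [CommRing A] [IsRegularLocalRing A] (p : ℕ) [Fact p.Prime] [CharP A p]

theorem isGorensteinLocalRing_quot_fpow (e : ℕ) :
    LocCoh.IsGorensteinLocalRing (A ⧸ fpow p (maximalIdeal A) e) := by
  have hNoeth : IsNoetherianRing A := inferInstance
  haveI : Module.Flat A (FR A p e) := H6xKunz.flat_FR_of_isRegularLocalRing p e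
  have hG : LocCoh.IsGorensteinLocalRing (FR A p e) := Groth.Agent.S0342.result A
  exact ((Groth.Agent.S0344.result A (FR A p e)).1 hG).2

/-- `A ⧸ 𝔪^[q]` is self-injective. -/
theorem injective_quot_fpow (e : ℕ) :
    Module.Injective (A ⧸ fpow p (maximalIdeal A) e) (A ⧸ fpow p (maximalIdeal A) e) := by
  have hNoeth : IsNoetherianRing A := inferInstance
  haveI := isArtinianRing_quot_fpow (A := A) p e
  haveI := isGorensteinLocalRing_quot_fpow (A := A) p e
  exact Groth.Agent.Lib.Helper5.GorArt.injective_of_T1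
    (Groth.Agent.Lib.Helper5.GorArt.T1_of_gor _)

end

end Groth.Agent.Lib.H6xFSt
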