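import Mathlib
import Groth.Agent.Lib.H6xFStA
import Groth.Agent.Lib.H6xFStB
import Groth.Agent.Lib.H6xFStC
import Groth.Agent.Lib.H6xHKc
import Groth.Agent.Lib.Helper13Frob

/-!
# Frobenius-stable power-torsion modules over a regular local ring are injective (helper6)
-/

set_option autoImplicit false
universe u

namespace Groth.Agent.Lib.H6xFSt

open IsLocalRing TensorProduct Groth.Agent.Lib.H6xHK

section theta

variable {A : Type u} [CommRing A] (p : ℕ) [Fact p.Prime] [CharP A p]
variable {M : Type u} [AddCommGroup M] [Module A M]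

/-- A copy of a module over `FR A p 1`, viewed as a module over `A` through `A = FR A p 1`. -/
@[nolint unusedArguments]
def Un (_A : Type u) (_p : ℕ) (X : Type u) : Type u := X

instance (X : Type u) [AddCommGroup X] : AddCommGroup (Un A p X) := inferInstanceAs (AddCommGroup X)

instance instModuleUn (X : Type u) [AddCommGroup X] [Module (FR A p 1) X] : Module A (Un A p X) :=
  inferInstanceAs (Module (FR A p 1) X)

/-- A semilinear map which is a Frobenius pullback. -/
structure IsFrobPull (T : M →ₛₗ[frobenius A p] M) : Prop where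
  span : Submodule.span A (Set.range T) = ⊤
  lift : ∀ (Q : Type u) [AddCommGroup Q] [Module A Q] (g : M →ₛₗ[frobenius A p] Q),
    ∃ Θ : M →ₗ[A] Q, ∀ m, Θ (T m) = g m

/-- From an isomorphism `F^* M ≅ M` to a universal semilinear endomorphism. -/
theorem exists_isFrobPull
    (h : Nonempty ((ModuleCat.extendScalars (frobenius A p)).obj (ModuleCat.of A M) ≅
      ModuleCat.of A M)) : ∃ T : M →ₛₗ[frobenius A p] M, IsFrobPull p T := by
  obtain ⟨ι, hspan, huniv⟩ := Groth.Agent.Helper13Frob.extendScalars_universal (frobenius A p) M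
  obtain ⟨e0⟩ := h
  let e : Groth.Agent.Helper13Frob.ES (frobenius A p) M ≃ₗ[A] M := e0.toLinearEquiv
  refine ⟨e.toLinearMap.comp ι, ?_, ?_⟩
  · have h1 : Set.range (e.toLinearMap.comp ι) = e '' Set.range ι := by
      ext x
      constructor
      · rintro ⟨m, rfl⟩
        exact ⟨ι m, ⟨m, rfl⟩, rfl⟩
      · rintro ⟨_, ⟨m, rfl⟩, rfl⟩
        exact ⟨m, rfl⟩
    rw [h1]
    have h2 := Submodule.map_span e.toLinearMap (Set.range ι)
    rw [hspan, Submodule.map_top, LinearEquiv.range] at h2
    exact h2.symm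
  · intro Q _ _ g
    obtain ⟨Θ, hΘ⟩ := huniv Q g
    refine ⟨Θ ∘ₗ e.symm.toLinearMap, fun m => ?_⟩
    rw [LinearMap.comp_apply]
    change Θ (e.symm (e (ι m))) = g m
    rw [LinearEquiv.symm_apply_apply, hΘ]

variable {p}

/-- The `A`-linear map `M → F_* M` underlying a semilinear endomorphism. -/
noncomputable def linOfSemi (T : M →ₛₗ[frobenius A p] M) : M →ₗ[A] FM p 1 M where
  toFun := fun m => (T m : M)
  map_add' := fun x y => T.map_add x y
  map_smul' := fun a m => by
    have h1 : T (a • m) = (frobenius A p a) • T m := T.map_smulₛₗ a m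
    rw [RingHom.id_apply, FM_smul_def, algebraMap_FR, pow_one]
    exact h1

/-- The comparison map `F^* M → M`. -/
noncomputable def thetaMap (T : M →ₛₗ[frobenius A p] M) :
    (FR A p 1) ⊗[A] M →ₗ[FR A p 1] FM p 1 M :=
  LinearMap.liftBaseChange (FR A p 1) (linOfSemi T)

theorem thetaMap_tmul (T : M →ₛₗ[frobenius A p] M) (b : FR A p 1) (m : M) :
    thetaMap T (b ⊗ₜ[A] m) = b • (show FM p 1 M from T m) := by
  rw [thetaMap, LinearMap.liftBaseChange_tmul]
  rfl

/-- The semilinear map `m ↦ 1 ⊗ m`. -/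
noncomputable def oneTmul : M →ₛₗ[frobenius A p] Un A p ((FR A p 1) ⊗[A] M) where
  toFun := fun m => ((1 : FR A p 1) ⊗ₜ[A] m : (FR A p 1) ⊗[A] M)
  map_add' := fun x y => TensorProduct.tmul_add _ _ _
  map_smul' := fun a m => by
    change ((1 : FR A p 1) ⊗ₜ[A] (a • m) : (FR A p 1) ⊗[A] M) =
      (show FR A p 1 from frobenius A p a) • ((1 : FR A p 1) ⊗ₜ[A] m : (FR A p 1) ⊗[A] M)
    rw [TensorProduct.tmul_smul, TensorProduct.smul_tmul', TensorProduct.smul_tmul',
      Algebra.smul_def, algebraMap_FR, pow_one, smul_eq_mul]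
    rfl

theorem thetaMap_bijective {T : M →ₛₗ[frobenius A p] M} (hT : IsFrobPull p T) :
    Function.Bijective (thetaMap T) := by
  obtain ⟨Θ, hΘ⟩ := hT.lift (Un A p ((FR A p 1) ⊗[A] M)) oneTmul
  constructor
  · -- `Θ` is a left inverse
    have key : ∀ z : (FR A p 1) ⊗[A] M, Θ (thetaMap T z : M) = z := by
      intro z
      induction z with
      | zero => rw [map_zero]; exact map_zero Θ
      | add x y hx hy =>
        rw [map_add]
        have : Θ ((thetaMap T x + thetaMap T y : FM p 1 M) : M) =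
            Θ (thetaMap T x : M) + Θ (thetaMap T y : M) := map_add Θ _ _
        rw [this, hx, hy]
        rfl
      | tmul b m =>
        rw [thetaMap_tmul]
        have h1 : Θ ((b • (show FM p 1 M from T m) : FM p 1 M) : M) =
            (show A from b) • Θ (T m) := map_smul Θ (show A from b) (T m)
        rw [h1, hΘ]
        change b • ((1 : FR A p 1) ⊗ₜ[A] m : (FR A p 1) ⊗[A] M) = _
        rw [TensorProduct.smul_tmul', smul_eq_mul, mul_one]
    intro z1 z2 hz
    rw [← key z1, ← key z2, hz]
  · -- the range contains a spanning set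
    have key2 : ∀ x : M, x ∈ Submodule.span A (Set.range T) →
        ∃ z, thetaMap T z = (show FM p 1 M from x) := by
      intro x hx
      induction hx using Submodule.span_induction with
      | mem y hy =>
        obtain ⟨m, rfl⟩ := hy
        exact ⟨(1 : FR A p 1) ⊗ₜ[A] m, by rw [thetaMap_tmul, one_smul]⟩
      | zero => exact ⟨0, map_zero _⟩
      | add y z _ _ hy hz =>
        obtain ⟨a, ha⟩ := hy
        obtain ⟨b, hb⟩ := hz
        exact ⟨a + b, by rw [map_add, ha, hb]; rfl⟩
      | smul c y _ hy =>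
        obtain ⟨a, ha⟩ := hy
        exact ⟨(show FR A p 1 from c) • a, by rw [map_smul, ha]; rfl⟩
    intro x
    exact key2 x (by rw [hT.span]; trivial)

/-- The isomorphism `F^* M ≅ M`, in tensor form. -/
noncomputable def thetaEquiv {T : M →ₛₗ[frobenius A p] M} (hT : IsFrobPull p T) :
    (FR A p 1) ⊗[A] M ≃ₗ[FR A p 1] FM p 1 M :=
  LinearEquiv.ofBijective (thetaMap T) (thetaMap_bijective hT)

end theta

section induction

variable {A : Type u} [CommRing A] [IsRegularLocalRing A] {p : ℕ} [Fact p.Prime] [CharP A p]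
variable {M : Type u} [AddCommGroup M] [Module A M]

/-- One Frobenius step: freeness of `M[I]` over `A/I` implies freeness of `M[I^[p]]` over
`A/I^[p]`. -/
theorem step {T : M →ₛₗ[frobenius A p] M} (hT : IsFrobPull p T) (I : Ideal A) (J : Type u)
    (ψ : (J →₀ A ⧸ I) ≃ₗ[A] Submodule.torsionBySet A M (I : Set A)) :
    Nonempty ((J →₀ A ⧸ fpow p I 1) ≃ₗ[A] Submodule.torsionBySet A M (fpow p I 1 : Set A)) := by
  have hNoeth : IsNoetherianRing A := inferInstance
  obtain ⟨d, y, hy⟩ := Submodule.fg_iff_exists_fin_generating_family.1 (IsNoetherian.noetherian I)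
  subst hy
  haveI : Module.Flat A (FR A p 1) := H6xKunz.flat_FR_of_isRegularLocalRing p 1
  exact nonempty_equiv_torsion_of_flat (FR A p 1) (thetaEquiv hT) y J ψ

theorem nonempty_equiv_torsion_fpow {T : M →ₛₗ[frobenius A p] M} (hT : IsFrobPull p T)
    (J : Type u)
    (ψ : (J →₀ A ⧸ maximalIdeal A) ≃ₗ[A] Submodule.torsionBySet A M (maximalIdeal A : Set A))
    (e : ℕ) :
    Nonempty ((J →₀ A ⧸ fpow p (maximalIdeal A) e) ≃ₗ[A]
      Submodule.torsionBySet A M (fpow p (maximalIdeal A) e : Set A)) := by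
  induction e with
  | zero =>
    have h0 : fpow p (maximalIdeal A) 0 = maximalIdeal A := by
      rw [fpow_def, iterateFrobenius_zero]
      exact Ideal.map_id _
    rw [h0]
    exact ⟨ψ⟩
  | succ e ih =>
    obtain ⟨ψe⟩ := ih
    have h1 := step hT (fpow p (maximalIdeal A) e) J ψe
    rw [fpow_fpow] at h1
    exact h1

/-- **A Frobenius-stable power-torsion module over a regular local ring is injective.** -/
theorem injective_of_isFrobPull {T : M →ₛₗ[frobenius A p] M} (hT : IsFrobPull p T)
    (hM : ∀ m : M, ∃ n : ℕ, ∀ a ∈ maximalIdeal A ^ n, a • m = 0) (J : Type u)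
    (ψ : (J →₀ A ⧸ maximalIdeal A) ≃ₗ[A] Submodule.torsionBySet A M (maximalIdeal A : Set A)) :
    Module.Injective A M := by
  have hNoeth : IsNoetherianRing A := inferInstance
  apply injective_of_pieces (maximalIdeal A) hM (fun e => fpow p (maximalIdeal A) e)
  · intro n
    refine ⟨n, (fpow_le_pow p (maximalIdeal A) n).trans (Ideal.pow_le_pow_right ?_)⟩
    exact (Nat.lt_pow_self (Fact.out : p.Prime).one_lt).le
  · intro e K g h1 h2
    obtain ⟨ψe⟩ := nonempty_equiv_torsion_fpow hT J ψ e
    exact ext_of_free_torsion _ (injective_quot_fpow p e) J ψe K g h1 h2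

end induction

end Groth.Agent.Lib.H6xFSt
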