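import Mathlib
import Groth.Agent.Lib.H6xRelFlatC
import Groth.Agent.Lib.H6xRelTorSmD
set_option backward.isDefEq.respectTransparency.types false

/-!
# Local factorisation of a finite type morphism of finite tor dimension as a closed immersion of
finite tor dimension followed by a smooth morphism (helper6)
-/

set_option autoImplicit false
set_option linter.style.haveILetI false

universe u

open CategoryTheory CategoryTheory.Limits AlgebraicGeometry HomologicalComplex TopologicalSpace
  Opposite MonoidalCategory

attribute [local instance] HasDerivedCategory.standard

namespace Groth.Agent.Lib.H6xFactorSm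

open Algebra MvPolynomial

/-- the presentation of a polynomial ring by its variables and no relations -/
noncomputable def mvPrePres (R : Type u) [CommRing R] (n : ℕ) :
    Algebra.PreSubmersivePresentation R (MvPolynomial (Fin n) R) (Fin n) PEmpty.{1} where
  toGenerators := Algebra.Generators.mvPolynomial R (Fin n)
  relation := PEmpty.elim
  span_range_relation_eq_ker := by
    have : (Set.range (PEmpty.elim : PEmpty.{1} →
        (Algebra.Generators.mvPolynomial R (Fin n)).Ring)) = ∅ := by
      ext x; simp
    rw [this, Ideal.span_empty]
    symm
    rw [eq_bot_iff]
    intro x hx
    rw [Algebra.Generators.ker_eq_ker_aeval_val, RingHom.mem_ker] at hx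
    simp only [Generators.mvPolynomial_val] at hx
    simpa using hx
  map := PEmpty.elim
  map_inj := fun a => a.elim

/-- it is submersive -/
noncomputable def mvPres (R : Type u) [CommRing R] (n : ℕ) :
    Algebra.SubmersivePresentation R (MvPolynomial (Fin n) R) (Fin n) PEmpty.{1} where
  toPreSubmersivePresentation := mvPrePres R n
  jacobian_isUnit := by
    rw [Algebra.PreSubmersivePresentation.jacobian_eq_jacobiMatrix_det]
    have : (Algebra.PreSubmersivePresentation.jacobiMatrix (mvPrePres R n)) = 1 := by
      ext (i : PEmpty)
      exact i.elim
    rw [this, Matrix.det_one, map_one]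
    exact isUnit_one

/-- a polynomial ring in `n` variables is standard smooth of relative dimension `n` -/
theorem mv_std (R : Type u) [CommRing R] (n : ℕ) :
    Algebra.IsStandardSmoothOfRelativeDimension n R (MvPolynomial (Fin n) R) :=
  (mvPres R n).isStandardSmoothOfRelativeDimension (by simp [Algebra.Presentation.dimension])

end Groth.Agent.Lib.H6xFactorSm
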