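import Mathlib
import Groth.Agent.Lib.H6xFactorSmA
set_option backward.isDefEq.respectTransparency.types false
set_option autoImplicit false
set_option linter.style.haveILetI false

universe u

open CategoryTheory CategoryTheory.Limits AlgebraicGeometry HomologicalComplex TopologicalSpace
  Opposite MonoidalCategory

attribute [local instance] HasDerivedCategory.standard

namespace Groth.Agent.Lib.H6xFactorSm

open Groth.Agent.Lib.H6xRelFlat Groth.Agent.Lib.H6xRelTorAmpG DerSch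

/-- restriction of the structure complex to an open is the structure complex -/
noncomputable def restrictUnitCxIso {X : Scheme.{u}} (U : X.Opens) :
    (DCoh.restrictCx U).obj (unitCx X) ≅ unitCx (U : Scheme.{u}) :=
  ((HomologicalComplex.singleMapHomologicalComplex (Scheme.Modules.restrictFunctor U.ι)
    (ComplexShape.up ℤ) 0).app _) ≪≫
    (HomologicalComplex.single _ _ 0).mapIso (Scheme.Modules.restrictUnitIso U.ι)

theorem hasTorAmplitude_ι_comp {X Y : Scheme.{u}} (f : X ⟶ Y) (U : X.Opens) (a b : ℤ)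
    (h : HasTorAmplitude f a b (unitCx X)) :
    HasTorAmplitude (U.ι ≫ f) a b (unitCx (U : Scheme.{u})) := by
  intro x
  have h1 := (hasTorAmplitudeAt_restrictCx_iff f U (unitCx X) a b x).2 (h _)
  exact hasTorAmplitudeAt_of_iso (U.ι ≫ f)
    ((DerivedCategory.Q).mapIso (restrictUnitCxIso U)).symm a b x h1

/-- the affine space chart: `Spec R[x] ⟶ Y` over an affine open `V = Spec R` -/
theorem appLE_affineSpace {Y : Scheme.{u}} (V : Y.Opens) (hV : IsAffineOpen V) (n : ℕ)
    (e : (⊤ : (Spec (CommRingCat.of (MvPolynomial (Fin n) Γ(Y, V)))).Opens) ≤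
      (Spec.map (CommRingCat.ofHom (MvPolynomial.C (σ := Fin n) (R := Γ(Y, V)))) ≫
        hV.fromSpec) ⁻¹ᵁ V) :
    ((Spec.map (CommRingCat.ofHom (MvPolynomial.C (σ := Fin n) (R := Γ(Y, V)))) ≫
        hV.fromSpec).appLE V ⊤ e) =
      CommRingCat.ofHom (MvPolynomial.C (σ := Fin n) (R := Γ(Y, V))) ≫
        (Scheme.ΓSpecIso (CommRingCat.of (MvPolynomial (Fin n) Γ(Y, V)))).inv := by
  apply Spec.map_injective
  rw [← cancel_mono hV.fromSpec]
  rw [IsAffineOpen.SpecMap_appLE_fromSpec _ hV (isAffineOpen_top _) e]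
  rw [IsAffineOpen.fromSpec_top, Scheme.isoSpec_Spec_inv, Spec.map_comp, Category.assoc]

theorem main {X Y : Scheme.{u}} (f : X ⟶ Y) [LocallyOfFiniteType f]
    (hf : DerSch.HasFiniteTorDim f)
    (U : X.Opens) (hU : IsAffineOpen U) (V : Y.Opens) (hV : IsAffineOpen V) (hUV : U ≤ f ⁻¹ᵁ V) :
    ∃ (W : Scheme.{u}) (g : (U : Scheme.{u}) ⟶ W) (h : W ⟶ Y),
      IsClosedImmersion g ∧ DerSch.HasFiniteTorDim g ∧ Smooth h ∧ g ≫ h = U.ι ≫ f := by
  have hφ : (f.appLE V U hUV).hom.FiniteType :=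
    HasRingHomProperty.appLE (P := @LocallyOfFiniteType) f inferInstance ⟨V, hV⟩ ⟨U, hU⟩ hUV
  letI := (f.appLE V U hUV).hom.toAlgebra
  have hft : Algebra.FiniteType Γ(Y, V) Γ(X, U) := hφ
  obtain ⟨n, ψ, hψ⟩ := Algebra.FiniteType.iff_quotient_mvPolynomial''.1 hft
  let cC : CommRingCat.of Γ(Y, V) ⟶ CommRingCat.of (MvPolynomial (Fin n) Γ(Y, V)) :=
    CommRingCat.ofHom (MvPolynomial.C (σ := Fin n) (R := Γ(Y, V)))
  let h : Spec (CommRingCat.of (MvPolynomial (Fin n) Γ(Y, V))) ⟶ Y :=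
    Spec.map cC ≫ hV.fromSpec
  let g : (U : Scheme.{u}) ⟶ Spec (CommRingCat.of (MvPolynomial (Fin n) Γ(Y, V))) :=
    hU.isoSpec.hom ≫ Spec.map (CommRingCat.ofHom ψ.toRingHom)
  have hcl : IsClosedImmersion (Spec.map (CommRingCat.ofHom ψ.toRingHom)) :=
    IsClosedImmersion.spec_of_surjective _ hψ
  have hg : IsClosedImmersion g := inferInstance
  have hsm : Smooth (Spec.map cC) := by
    rw [HasRingHomProperty.Spec_iff (P := @Smooth)]
    show RingHom.Smooth (MvPolynomial.C (σ := Fin n) (R := Γ(Y, V)))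
    have : (MvPolynomial.C (σ := Fin n) (R := Γ(Y, V))) =
        algebraMap Γ(Y, V) (MvPolynomial (Fin n) Γ(Y, V)) := rfl
    rw [this, RingHom.smooth_algebraMap]
    haveI := mv_std Γ(Y, V) n
    haveI : Algebra.IsStandardSmooth Γ(Y, V) (MvPolynomial (Fin n) Γ(Y, V)) :=
      Algebra.IsStandardSmoothOfRelativeDimension.isStandardSmooth n
    infer_instance
  have hh : Smooth h := inferInstance
  have hgh : g ≫ h = U.ι ≫ f := by
    have hcomp : cC ≫ CommRingCat.ofHom ψ.toRingHom = f.appLE V U hUV := by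
      ext r
      exact ψ.commutes r
    show (hU.isoSpec.hom ≫ Spec.map (CommRingCat.ofHom ψ.toRingHom)) ≫
      (Spec.map cC ≫ hV.fromSpec) = U.ι ≫ f
    rw [Category.assoc, ← Category.assoc (Spec.map _) (Spec.map cC), ← Spec.map_comp, hcomp,
      IsAffineOpen.SpecMap_appLE_fromSpec f hV hU hUV, ← Category.assoc,
      IsAffineOpen.isoSpec_hom_fromSpec]
  refine ⟨_, g, h, hg, ?_, hh, hgh⟩
  obtain ⟨a, b, hab⟩ := hf
  refine ⟨a - n, b, fun x => ?_⟩
  have h1 := hasTorAmplitude_ι_comp f U a b hab x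
  rw [← hgh] at h1
  have e : (⊤ : (Spec (CommRingCat.of (MvPolynomial (Fin n) Γ(Y, V)))).Opens) ≤ h ⁻¹ᵁ V := by
    intro y _
    show (Spec.map cC ≫ hV.fromSpec) y ∈ V
    rw [Scheme.Hom.comp_apply]
    have : hV.fromSpec ((Spec.map cC) y) ∈ Set.range hV.fromSpec := ⟨_, rfl⟩
    rw [hV.range_fromSpec] at this
    exact this
  refine hasTorAmplitudeAt_of_comp_chart g h (unitCx _) a b x n V hV ⊤ (isAffineOpen_top _) e
    trivial ?_ h1
  rw [appLE_affineSpace V hV n e]
  have := (RingHom.isStandardSmoothOfRelativeDimension_respectsIso (n := n)).left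
    (MvPolynomial.C (σ := Fin n) (R := Γ(Y, V)))
    (Scheme.ΓSpecIso (CommRingCat.of (MvPolynomial (Fin n) Γ(Y, V)))).symm.commRingCatIsoToRingEquiv
    ((RingHom.isStandardSmoothOfRelativeDimension_algebraMap n).2 (mv_std Γ(Y, V) n))
  exact this

end Groth.Agent.Lib.H6xFactorSm
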