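import Mathlib
import Groth.Agent.Lib.H6xFinPushD
import Groth.Agent.Lib.H6xClPushE
import Groth.Agent.Lib.H6xRelQcB
import Groth.Agent.Lib.Helper23FinTypeLocal
set_option backward.isDefEq.respectTransparency.types false

/-!
# Pseudo-coherence and `Rf_*` for a finite morphism to an affine scheme (helper6)
-/

set_option autoImplicit false
set_option linter.style.haveILetI false

universe u

open CategoryTheory CategoryTheory.Limits Opposite AlgebraicGeometry TopologicalSpace
  CategoryTheory.Pretriangulated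

attribute [local instance] HasDerivedCategory.standard

namespace Groth.Agent.Lib.H6xFinPush

open Groth.Agent.Lib.H6xQcTrunc Groth.Agent.Lib.H6xAffPush DerivedCategory
  Groth.Agent.Lib.H6xRpushTri Groth.Agent.Lib.H6xPCoh Groth.Agent.Lib.H6xPC3
  Groth.Agent.Lib.H6xClPush

section single

variable {X : Scheme.{u}}

/-- a module placed in degree `n` is pseudo-coherent if it is so in degree `0` -/
lemma pc_singleN (M : X.Modules) (h : ∀ m : ℤ, DCoh.IsPseudoCoherentD m (DCoh.inD X M))
    (n m : ℤ) : DCoh.IsPseudoCoherentD m ((singleFunctor X.Modules n).obj M) := by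
  have h1 := isPseudoCoherentD_shift (h (m - n)) (-n)
  rw [show m - n - -n = m by omega] at h1
  exact isPseudoCoherentD_of_iso'
    (((DerivedCategory.singleFunctors X.Modules).shiftIso (-n) n 0 (by omega)).app M) h1

lemma pc_single_freeMod (r : ℕ) (n m : ℤ) :
    DCoh.IsPseudoCoherentD m ((singleFunctor X.Modules n).obj (FlatMod.freeMod X r)) :=
  (pcGlobal_of_strictlyPerfect _ (isStrictlyPerfect_single' n _
    (Groth.Agent.Lib.R2H2.AmpleRes.isFinLocFree_freeMod r)) m).isPseudoCoherentD

end single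

section core

variable {X Y : Scheme.{u}} (f : X ⟶ Y) [IsFinite f] [IsAffine Y] [DCoh.HasRpush f]

/-- the hypothesis on `f_* O_X` -/
def PushOPC' : Prop :=
  ∀ m : ℤ, DCoh.IsPseudoCoherentD m
    (DCoh.inD Y ((Scheme.Modules.pushforward f).obj (Coh.structureModule X)))

variable {f}

lemma pc_Rpush_single_freeMod (hO : PushOPC' f) (r : ℕ) (n m : ℤ) :
    DCoh.IsPseudoCoherentD m
      ((DCoh.Rpush f).obj ((singleFunctor X.Modules n).obj (FlatMod.freeMod X r))) := by
  obtain ⟨e⟩ := nonempty_Rpush_single_iso f (FlatMod.freeMod X r)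
    (Groth.Agent.Lib.Helper23.Serre.isQuasicoherent_freeMod r) n
  refine isPseudoCoherentD_of_iso' e.symm (pc_singleN _ (fun m' => ?_) n m)
  let e2 : (Scheme.Modules.pushforward f).obj (FlatMod.freeMod X r) ≅
      ∐ fun _ : Fin r => (Scheme.Modules.pushforward f).obj (Coh.structureModule X) :=
    PreservesCoproduct.iso (Scheme.Modules.pushforward f) _
  have h := pc_inD_sigma_fin m' r
    (fun _ : Fin r => (Scheme.Modules.pushforward f).obj (Coh.structureModule X))
    (fun _ => hO m')
  exact isPseudoCoherentD_of_iso' ((DerivedCategory.singleFunctor Y.Modules 0).mapIso e2.symm) h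

/-- forward direction, by descending induction on the amplitude -/
theorem pc_Rpush_aux (hO : PushOPC' f) (m : ℤ) : ∀ (d : ℕ) (n : ℤ) (E : DCoh.D X),
    n < m + d → E.IsLE n → DCoh.IsQCohD E → DCoh.IsPseudoCoherentD m E →
      DCoh.IsPseudoCoherentD m ((DCoh.Rpush f).obj E)
  | 0 => fun n E hn hLE hq _ => by
      haveI := hLE
      haveI : E.IsLE (m - 1) := TStructure.t.isLE_of_le E n (m - 1) (by omega)
      haveI : ((DCoh.Rpush f).obj E).IsLE (m - 1) := (isLE_Rpush_iff f E hq (m - 1)).2 inferInstance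
      exact (pcGlobal_of_isLE m _).isPseudoCoherentD
  | d + 1 => fun n E hn hLE hq hpc => by
      haveI := hLE
      by_cases hnd : n < m + d
      · exact pc_Rpush_aux hO m d n E hnd hLE hq hpc
      have hmn : m ≤ n := by omega
      haveI : IsAffine X := isAffine_of_isAffineHom f
      have hft : CohB1.IsFT (DCoh.HD E n) :=
        (top_cohomology n E (isPseudoCoherentD_mono hmn hpc)).1
          (fun i hi => isZero_of_isLE E n i hi)
      obtain ⟨r, π, hπ⟩ := exists_epi_freeMod_of_isFT (DCoh.HD E n) (hq n) hft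
      obtain ⟨C, α, g, h, hT, hC, hqC⟩ := exists_cone E hq n r π hπ
      have hCpc : DCoh.IsPseudoCoherentD m C :=
        (triangle m _ hT).1 (pc_single_freeMod r n (m + 1)) hpc
      have hRC := pc_Rpush_aux hO m d (n - 1) C (by push_cast at hn; omega) hC hqC hCpc
      obtain ⟨T', hT', ⟨e₁⟩, ⟨e₂⟩, ⟨e₃⟩⟩ := exists_distTriang_Rpush f _ hT
      exact isPseudoCoherentD_of_iso' e₂ ((triangle m T' hT').2.1
        (isPseudoCoherentD_of_iso' e₁.symm (pc_Rpush_single_freeMod hO r n m))
        (isPseudoCoherentD_of_iso' e₃.symm hRC))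

/-- backward direction, by descending induction on the amplitude -/
theorem pc_of_pc_Rpush_aux (hO : PushOPC' f) (m : ℤ) : ∀ (d : ℕ) (n : ℤ) (E : DCoh.D X),
    n < m + d → E.IsLE n → DCoh.IsQCohD E →
      DCoh.IsPseudoCoherentD m ((DCoh.Rpush f).obj E) → DCoh.IsPseudoCoherentD m E
  | 0 => fun n E hn hLE _ _ => by
      haveI := hLE
      haveI : E.IsLE (m - 1) := TStructure.t.isLE_of_le E n (m - 1) (by omega)
      exact (pcGlobal_of_isLE m _).isPseudoCoherentD
  | d + 1 => fun n E hn hLE hq hpc => by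
      haveI := hLE
      by_cases hnd : n < m + d
      · exact pc_of_pc_Rpush_aux hO m d n E hnd hLE hq hpc
      have hmn : m ≤ n := by omega
      haveI : ((DCoh.Rpush f).obj E).IsLE n := (isLE_Rpush_iff f E hq n).2 inferInstance
      have hft : CohB1.IsFT (DCoh.HD ((DCoh.Rpush f).obj E) n) :=
        (top_cohomology n _ (isPseudoCoherentD_mono hmn hpc)).1
          (fun i hi => isZero_of_isLE ((DCoh.Rpush f).obj E) n i hi)
      obtain ⟨e⟩ := nonempty_top_iso f E hq n
      have hft' : CohB1.IsFT ((Scheme.Modules.pushforward f).obj (DCoh.HD E n)) := by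
        haveI := hft
        exact Groth.Agent.Lib.Helper23.FinType.isFiniteType_of_iso e
      haveI : IsAffine X := isAffine_of_isAffineHom f
      obtain ⟨r, π, hπ⟩ := exists_epi_freeMod_of_isFT_push f (DCoh.HD E n) (hq n) hft'
      obtain ⟨C, α, g, h, hT, hC, hqC⟩ := exists_cone E hq n r π hπ
      obtain ⟨T', hT', ⟨e₁⟩, ⟨e₂⟩, ⟨e₃⟩⟩ := exists_distTriang_Rpush f _ hT
      have hRC : DCoh.IsPseudoCoherentD m ((DCoh.Rpush f).obj C) :=
        isPseudoCoherentD_of_iso' e₃ ((triangle m T' hT').1
          (isPseudoCoherentD_of_iso' e₁.symm (pc_Rpush_single_freeMod hO r n (m + 1)))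
          (isPseudoCoherentD_of_iso' e₂.symm hpc))
      have hCpc := pc_of_pc_Rpush_aux hO m d (n - 1) C (by push_cast at hn; omega) hC hqC hRC
      exact (triangle m _ hT).2.1 (pc_single_freeMod r n m) hCpc

/-- **core of S1112**: finite `f` with affine target -/
theorem pc_iff_Rpush_of_isAffine (hO : PushOPC' f) (E : DCoh.D X) (hE : DCoh.IsQCohD E)
    (m : ℤ) :
    DCoh.IsPseudoCoherentD m E ↔ DCoh.IsPseudoCoherentD m ((DCoh.Rpush f).obj E) := by
  haveI : IsAffine X := isAffine_of_isAffineHom f
  constructor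
  · intro h
    obtain ⟨b, hb⟩ := Groth.Agent.Lib.H6xRelQc.exists_isLE_of_isPseudoCoherentD E m h
    exact pc_Rpush_aux hO m (b - m + 1).toNat b E
      (by have := Int.self_le_toNat (b - m + 1); omega) hb hE h
  · intro h
    obtain ⟨b, hb⟩ := Groth.Agent.Lib.H6xRelQc.exists_isLE_of_isPseudoCoherentD _ m h
    have hb' : E.IsLE b := (isLE_Rpush_iff f E hE b).1 hb
    exact pc_of_pc_Rpush_aux hO m (b - m + 1).toNat b E
      (by have := Int.self_le_toNat (b - m + 1); omega) hb' hE h

end core

end Groth.Agent.Lib.H6xFinPush
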