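import Mathlib
import Groth.Agent.Lib.H6xFinPushE
set_option backward.isDefEq.respectTransparency.types false

/-!
# Pseudo-coherence and `Rf_*` for a finite morphism: S1112 (helper6)
-/

set_option autoImplicit false
set_option linter.style.haveILetI false

universe u

open CategoryTheory CategoryTheory.Limits Opposite AlgebraicGeometry TopologicalSpace
  CategoryTheory.Pretriangulated

attribute [local instance] HasDerivedCategory.standard

namespace Groth.Agent.Lib.H6xFinPush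

open Groth.Agent.Lib.H6xQcTrunc Groth.Agent.Lib.H6xAffPush DerivedCategory
  Groth.Agent.Lib.H6xRpushTri Groth.Agent.Lib.H6xPCoh Groth.Agent.Lib.H6xPC3
  Groth.Agent.Lib.H6xClPush Groth.Agent.Lib.H6xRpushQc

variable {X Y : Scheme.{u}} {f : X ⟶ Y}

lemma PushOPC'.restrict (hO : PushOPC' f) (V : Y.Opens) : PushOPC' (f ∣_ V) := by
  intro m
  have h := isPseudoCoherentD_restrictD (hO m) V.ι
  let e1 := restrictDInD ((Scheme.Modules.pushforward f).obj (Coh.structureModule X)) V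
  let e2 : ((Scheme.Modules.pushforward f).obj (Coh.structureModule X)).restrict V.ι ≅
      (Scheme.Modules.pushforward (f ∣_ V)).obj
        ((Coh.structureModule X).restrict (f ⁻¹ᵁ V).ι) :=
    (Groth.Agent.Lib.R2H3.RpushRestrict.restrictPushIso f V).app (Coh.structureModule X)
  let e3 : (Scheme.Modules.pushforward (f ∣_ V)).obj
        ((Coh.structureModule X).restrict (f ⁻¹ᵁ V).ι) ≅
      (Scheme.Modules.pushforward (f ∣_ V)).obj (Coh.structureModule (f ⁻¹ᵁ V : Scheme.{u})) :=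
    (Scheme.Modules.pushforward (f ∣_ V)).mapIso (Scheme.Modules.restrictUnitIso (f ⁻¹ᵁ V).ι)
  exact isPseudoCoherentD_of_iso'
    (e1 ≪≫ (DerivedCategory.singleFunctor _ 0).mapIso (e2 ≪≫ e3)) h

instance isFinite_morphismRestrict [IsFinite f] (V : Y.Opens) : IsFinite (f ∣_ V) :=
  MorphismProperty.of_isPullback (isPullback_morphismRestrict f V).flip inferInstance

/-- **S1112** -/
theorem pc_iff_Rpush [IsFinite f] [DCoh.HasRpush f] (hO : PushOPC' f) (E : DCoh.D X)
    (hE : DCoh.IsQCohD E) (m : ℤ) :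
    DCoh.IsPseudoCoherentD m E ↔ DCoh.IsPseudoCoherentD m ((DCoh.Rpush f).obj E) := by
  constructor
  · intro h
    rw [isPseudoCoherentD_iff_pcAt]
    intro y
    obtain ⟨V, hV, hyV⟩ : ∃ V : Y.Opens, IsAffineOpen V ∧ y ∈ V := by
      obtain ⟨V, hV, hyV, -⟩ := (Opens.isBasis_iff_nbhd.1 Y.isBasis_affineOpens)
        (show y ∈ (⊤ : Y.Opens) from trivial)
      exact ⟨V, hV, hyV⟩
    refine pcAt_of_isPseudoCoherentD_restrictD V y hyV ?_
    haveI : IsAffine (V : Scheme.{u}) := hV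
    obtain ⟨e⟩ := Groth.Agent.Lib.H6xRpushRes.nonempty_iso f V
    have h1 := (pc_iff_Rpush_of_isAffine (f := f ∣_ V) (hO.restrict V) _
      (isQCohD_restrictD (f ⁻¹ᵁ V).ι E hE) m).1 (isPseudoCoherentD_restrictD h (f ⁻¹ᵁ V).ι)
    exact isPseudoCoherentD_of_iso' (e.app E).symm h1
  · intro h
    rw [isPseudoCoherentD_iff_pcAt]
    intro x
    obtain ⟨V, hV, hyV⟩ : ∃ V : Y.Opens, IsAffineOpen V ∧ f.base x ∈ V := by
      obtain ⟨V, hV, hyV, -⟩ := (Opens.isBasis_iff_nbhd.1 Y.isBasis_affineOpens)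
        (show f.base x ∈ (⊤ : Y.Opens) from trivial)
      exact ⟨V, hV, hyV⟩
    refine pcAt_of_isPseudoCoherentD_restrictD (f ⁻¹ᵁ V) x hyV ?_
    haveI : IsAffine (V : Scheme.{u}) := hV
    obtain ⟨e⟩ := Groth.Agent.Lib.H6xRpushRes.nonempty_iso f V
    have h0 := isPseudoCoherentD_restrictD h V.ι
    have h1 := isPseudoCoherentD_of_iso' (e.app E) h0
    exact (pc_iff_Rpush_of_isAffine (f := f ∣_ V) (hO.restrict V) _
      (isQCohD_restrictD (f ⁻¹ᵁ V).ι E hE) m).2 h1

end Groth.Agent.Lib.H6xFinPush
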