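import Mathlib
import Groth.Agent.Lib.H6xRpushRes
set_option backward.isDefEq.respectTransparency.types false

/-!
# `Rf_*` commutes with restriction along open immersions, for a general square (helper6)

Given a module-level base change isomorphism `f_* ⋙ j^* ≅ j'^* ⋙ f'_*` for open immersions
`j`, `j'`, the derived version `Rf_* ⋙ j^* ≅ j'^* ⋙ Rf'_*`.
-/

set_option autoImplicit false
set_option linter.style.haveILetI false
universe u
open CategoryTheory CategoryTheory.Limits AlgebraicGeometry TopologicalSpace Opposite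

attribute [local instance] HasDerivedCategory.standard

namespace Groth.Agent.Lib.H6xRpushSq

open Groth.Agent.Lib.Helper17.KInj Groth.Agent.Lib.H6xMV Groth.Agent.Lib.H6xRpushRes

section main

variable {X Y U' V' : Scheme.{u}} (f : X ⟶ Y) (j : V' ⟶ Y) (j' : U' ⟶ X) (f' : U' ⟶ V')
  [IsOpenImmersion j] [IsOpenImmersion j']
  [DCoh.HasRpush f] [DCoh.HasRpush f']
  [PreservesFiniteLimits (Scheme.Modules.restrictFunctor j)]
  [PreservesFiniteLimits (Scheme.Modules.restrictFunctor j')]

lemma rdf₁ : (DCoh.Rpush f ⋙ DCoh.restrictD j).IsRightDerivedFunctor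
    (Functor.whiskerRight (βf f) (DCoh.restrictD j) ≫ (Functor.associator _ _ _).hom)
    (HomologicalComplex.quasiIso X.Modules (ComplexShape.up ℤ)) := by
  refine (fibLocalizerMorphism_derives _ (isInvertedBy_comp
    (isInvertedBy_mapHomologicalComplex_comp_Q (Scheme.Modules.pushforward f))
    (DCoh.restrictD j))).isRightDerivedFunctor_of_isIso _ (fun I => ?_)
  haveI := isIso_app_of_fibrant'.{u} (Scheme.Modules.pushforward f) (DCoh.Rpush f) (βf f)
    I.obj I.property
  dsimp
  rw [Category.comp_id]
  change IsIso ((DCoh.restrictD j).map ((βf f).app I.obj))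
  infer_instance

/-- the functor whose right derived functor is `restrictD ⋙ Rf'_*` -/
noncomputable abbrev F₂ : CochainComplex X.Modules ℤ ⥤ DCoh.D V' :=
  (Scheme.Modules.restrictFunctor j').mapHomologicalComplex (ComplexShape.up ℤ) ⋙
    ((Scheme.Modules.pushforward f').mapHomologicalComplex (ComplexShape.up ℤ) ⋙
      DerivedCategory.Q)

/-- the unit for `restrictD ⋙ Rf'_*` -/
noncomputable def α₂ : F₂ j' f' ⟶
    DerivedCategory.Q ⋙ (DCoh.restrictD j' ⋙ DCoh.Rpush f') :=
  Functor.whiskerLeft _ (βf f') ≫ (Functor.associator _ _ _).inv ≫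
    Functor.whiskerRight
      (Scheme.Modules.restrictFunctor j').mapDerivedCategoryFactors.inv
      (DCoh.Rpush f') ≫ (Functor.associator _ _ _).hom

lemma isInvertedBy_F₂ :
    (HomologicalComplex.homotopyEquivalences X.Modules (ComplexShape.up ℤ)).IsInvertedBy
      (F₂ j' f') := by
  rintro K L g ⟨e, rfl⟩
  have h1 : HomologicalComplex.homotopyEquivalences _ (ComplexShape.up ℤ)
      (((Scheme.Modules.restrictFunctor j').mapHomologicalComplex
        (ComplexShape.up ℤ)).map e.hom) :=
    ⟨(Scheme.Modules.restrictFunctor j').mapHomotopyEquiv e, rfl⟩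
  exact isInvertedBy_mapHomologicalComplex_comp_Q.{u}
    (Scheme.Modules.pushforward f') _ h1

lemma rdf₂ : (DCoh.restrictD j' ⋙ DCoh.Rpush f').IsRightDerivedFunctor
    (α₂ j' f') (HomologicalComplex.quasiIso X.Modules (ComplexShape.up ℤ)) := by
  refine (fibLocalizerMorphism_derives _
    (isInvertedBy_F₂ j' f')).isRightDerivedFunctor_of_isIso _ (fun I => ?_)
  haveI := I.property.isKInjective
  haveI := isKInjective_restrict j' I.obj
  haveI := isIso_app_of_isKInjective.{u} (Scheme.Modules.pushforward f')
    (DCoh.Rpush f') (βf f')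
    (((Scheme.Modules.restrictFunctor j').mapHomologicalComplex
      (ComplexShape.up ℤ)).obj I.obj)
  dsimp [α₂]
  simp only [Category.comp_id, Category.id_comp]
  refine @IsIso.comp_isIso _ _ _ _ _ _ _ ?_ ?_
  · exact this
  · infer_instance

variable (θ₀ : Scheme.Modules.pushforward f ⋙ Scheme.Modules.restrictFunctor j ≅
      Scheme.Modules.restrictFunctor j' ⋙ Scheme.Modules.pushforward f')

/-- base change for complexes -/
noncomputable def θ :
    (Scheme.Modules.pushforward f).mapHomologicalComplex (ComplexShape.up ℤ) ⋙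
      (Scheme.Modules.restrictFunctor j).mapHomologicalComplex (ComplexShape.up ℤ) ≅
    (Scheme.Modules.restrictFunctor j').mapHomologicalComplex (ComplexShape.up ℤ) ⋙
      (Scheme.Modules.pushforward f').mapHomologicalComplex (ComplexShape.up ℤ) :=
  NatIso.ofComponents (fun K =>
    (NatIso.mapHomologicalComplex θ₀ (ComplexShape.up ℤ)).app K)
    (fun {K L} g => (NatIso.mapHomologicalComplex θ₀ (ComplexShape.up ℤ)).hom.naturality g)

/-- the comparison of the two underived functors -/
noncomputable def τ : ((Scheme.Modules.pushforward f).mapHomologicalComplex (ComplexShape.up ℤ) ⋙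
      DerivedCategory.Q) ⋙ DCoh.restrictD j ≅ F₂ j' f' :=
  Functor.associator _ _ _ ≪≫
    Functor.isoWhiskerLeft _ (Scheme.Modules.restrictFunctor j).mapDerivedCategoryFactors ≪≫
    (Functor.associator _ _ _).symm ≪≫
    Functor.isoWhiskerRight (θ f j j' f' θ₀) DerivedCategory.Q ≪≫
    Functor.associator _ _ _

include θ₀ in
theorem nonempty_iso :
    Nonempty (DCoh.Rpush f ⋙ DCoh.restrictD j ≅ DCoh.restrictD j' ⋙ DCoh.Rpush f') := by
  haveI := rdf₁ f j
  haveI := rdf₂ j' f'
  exact ⟨Functor.rightDerivedNatIso _ _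
    (Functor.whiskerRight (βf f) (DCoh.restrictD j) ≫ (Functor.associator _ _ _).hom)
    (α₂ j' f') (HomologicalComplex.quasiIso X.Modules (ComplexShape.up ℤ)) (τ f j j' f' θ₀)⟩

end main

end Groth.Agent.Lib.H6xRpushSq
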