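import Mathlib
import Groth.Agent.Lib.H6xRpushSq
import Groth.Agent.Lib.H6xChartX
import Groth.Agent.Lib.H6xAffTildeB
import Groth.Agent.Lib.H6xSuppPush
set_option backward.isDefEq.respectTransparency.types false

/-!
# The derived direct image along an affine morphism on affine charts (helper6; towards S7210)
-/

set_option autoImplicit false
set_option linter.style.haveILetI false
set_option linter.unusedVariables false
set_option linter.unusedSectionVars false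
universe u
open CategoryTheory CategoryTheory.Limits AlgebraicGeometry TopologicalSpace Opposite

attribute [local instance] HasDerivedCategory.standard

namespace Groth.Agent.Lib.H6xFinRel

open Groth.Agent.Lib.H6xChart

section theta

variable {X Y U' V' : Scheme.{u}} (f : X ⟶ Y) (V : Y.Opens)
  (a : U' ≅ (f ⁻¹ᵁ V).toScheme) (b : V' ≅ V.toScheme) (f' : U' ⟶ V')
  (w : (f ∣_ V) ≫ b.inv = a.inv ≫ f')

/-- module-level base change for a square obtained from `f ∣_ V` by transport along isomorphisms -/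
noncomputable def θ₀ :
    Scheme.Modules.pushforward f ⋙ Scheme.Modules.restrictFunctor (b.hom ≫ V.ι) ≅
      Scheme.Modules.restrictFunctor (a.hom ≫ (f ⁻¹ᵁ V).ι) ⋙ Scheme.Modules.pushforward f' :=
  Functor.isoWhiskerLeft _ (Scheme.Modules.restrictFunctorComp b.hom V.ι) ≪≫
    (Functor.associator _ _ _).symm ≪≫
    Functor.isoWhiskerRight (Groth.Agent.Lib.R2H3.RpushRestrict.restrictPushIso f V) _ ≪≫
    Functor.associator _ _ _ ≪≫
    Functor.isoWhiskerLeft _ (Functor.isoWhiskerLeft _ (pushIsoRestrictInv b.symm).symm ≪≫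
      Scheme.Modules.pushforwardComp _ _ ≪≫ Scheme.Modules.pushforwardCongr w ≪≫
      (Scheme.Modules.pushforwardComp _ _).symm ≪≫
      Functor.isoWhiskerRight (pushIsoRestrictInv a.symm) _) ≪≫
    (Functor.associator _ _ _).symm ≪≫
    Functor.isoWhiskerRight (Scheme.Modules.restrictFunctorComp a.hom (f ⁻¹ᵁ V).ι).symm _

include w in
theorem nonempty_iso_of_eq (j : V' ⟶ Y) (j' : U' ⟶ X) [IsOpenImmersion j] [IsOpenImmersion j']
    (hj : j = b.hom ≫ V.ι) (hj' : j' = a.hom ≫ (f ⁻¹ᵁ V).ι) :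
    Nonempty (DCoh.Rpush f ⋙ DCoh.restrictD j ≅ DCoh.restrictD j' ⋙ DCoh.Rpush f') := by
  subst hj hj'
  exact Groth.Agent.Lib.H6xRpushSq.nonempty_iso f _ _ f' (θ₀ f V a b f' w)

end theta

section pieces

variable {X Y : Scheme.{u}} (π : X ⟶ Y) (V : Y.Opens) (hV : IsAffineOpen V)
  (hU : IsAffineOpen (π ⁻¹ᵁ V))

lemma sq₁ : Spec.map (π.appLE V (π ⁻¹ᵁ V) le_rfl) ≫ hV.isoSpec.inv =
    hU.isoSpec.inv ≫ (π ∣_ V) := by
  have h := IsAffineOpen.SpecMap_appLE_fromSpec π hV hU le_rfl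
  rw [← cancel_mono V.ι, Category.assoc, Category.assoc, morphismRestrict_ι]
  exact h

lemma sq₂ : (π ∣_ V) ≫ hV.isoSpec.hom =
    hU.isoSpec.hom ≫ Spec.map (π.appLE V (π ⁻¹ᵁ V) le_rfl) := by
  have h := sq₁ π V hV hU
  rw [← cancel_epi hU.isoSpec.inv, ← Category.assoc, ← h, Category.assoc, Iso.inv_hom_id,
    Category.comp_id, Iso.inv_hom_id_assoc]

/-- `(Rπ_* E)|_{Spec Γ(V)} ≅ R(Spec φ)_* (E|_{Spec Γ(π⁻¹V)})` -/
theorem nonempty_fromSpec_iso :
    Nonempty (DCoh.Rpush π ⋙ DCoh.restrictD hV.fromSpec ≅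
      DCoh.restrictD hU.fromSpec ⋙ DCoh.Rpush (Spec.map (π.appLE V (π ⁻¹ᵁ V) le_rfl))) :=
  nonempty_iso_of_eq π V hU.isoSpec.symm hV.isoSpec.symm _ (sq₂ π V hV hU) hV.fromSpec
    hU.fromSpec rfl rfl

/-- the module-level representative of `Rπ_* E` on an affine open of the target -/
theorem nonempty_restrictD_Rpush_iso
    [∀ R : CommRingCat.{u}, PreservesFiniteLimits (tilde.functor R)]
    (E : DCoh.D X) (M : Dual.D Γ(X, π ⁻¹ᵁ V))
    (eM : (DCoh.restrictD hU.fromSpec).obj E ≅ (DCoh.tildeD (X.presheaf.obj (op (π ⁻¹ᵁ V)))).obj M) :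
    Nonempty ((DCoh.restrictD hV.fromSpec).obj ((DCoh.Rpush π).obj E) ≅
      (DCoh.tildeD (Y.presheaf.obj (op V))).obj
        ((DRing.restrictD (π.appLE V (π ⁻¹ᵁ V) le_rfl).hom).obj M)) := by
  obtain ⟨e1⟩ := nonempty_fromSpec_iso π V hV hU
  obtain ⟨e2⟩ := Groth.Agent.Lib.H6xAffTilde.nonempty_iso' (π.appLE V (π ⁻¹ᵁ V) le_rfl)
  have i1 : (DCoh.restrictD hV.fromSpec).obj ((DCoh.Rpush π).obj E) ≅
      (DCoh.Rpush (Spec.map (π.appLE V (π ⁻¹ᵁ V) le_rfl))).obj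
        ((DCoh.restrictD hU.fromSpec).obj E) := e1.app E
  have i2 : (DCoh.Rpush (Spec.map (π.appLE V (π ⁻¹ᵁ V) le_rfl))).obj
        ((DCoh.restrictD hU.fromSpec).obj E) ≅
      (DCoh.Rpush (Spec.map (π.appLE V (π ⁻¹ᵁ V) le_rfl))).obj
        ((DCoh.tildeD (X.presheaf.obj (op (π ⁻¹ᵁ V)))).obj M) :=
    (DCoh.Rpush (Spec.map (π.appLE V (π ⁻¹ᵁ V) le_rfl))).mapIso eM
  have i3 : (DCoh.Rpush (Spec.map (π.appLE V (π ⁻¹ᵁ V) le_rfl))).obj
        ((DCoh.tildeD (X.presheaf.obj (op (π ⁻¹ᵁ V)))).obj M) ≅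
      (DCoh.tildeD (Y.presheaf.obj (op V))).obj
        ((DRing.restrictD (π.appLE V (π ⁻¹ᵁ V) le_rfl).hom).obj M) := e2.app M
  exact ⟨i1 ≪≫ i2 ≪≫ i3⟩

end pieces

end Groth.Agent.Lib.H6xFinRel
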