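import Mathlib
import Groth.Agent.Lib.H6xChartY
import Groth.Agent.S6935
set_option backward.isDefEq.respectTransparency.types false

/-!
# Relative pseudo-coherence of modules: the chart module and the bounded-above range
(helper6; towards S7212, S6213–S6216)

* `exists_semilinear_chart`: global sections of `i_*(M|_U)` on `Spec P` versus `Γ(M, U)`.
* `pushOPCn_chart_zero`: the structure sheaf of an affine open is of finite type over the chart.
* `rel_iff_abs_of_isLE`: for `E` bounded above by `b` and `m ≥ b`, relative `m`-pseudo-coherence is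
  absolute `m`-pseudo-coherence.
-/

set_option autoImplicit false
set_option linter.style.haveILetI false
universe u
open CategoryTheory CategoryTheory.Limits AlgebraicGeometry HomologicalComplex TopologicalSpace
  Opposite MonoidalCategory
attribute [local instance] HasDerivedCategory.standard

namespace Groth.Agent.Lib.H6xChart

open Groth.Agent.Lib.H6xClPush Groth.Agent.Lib.H6xPC3 Groth.Agent.Lib.H6xPCoh
  Groth.Agent.Lib.Helper1.PC

variable {X S : Scheme.{u}}

lemma chart_image_top (U : X.Opens) {P : Type u} [CommRing P] (φ : P →+* Γ(X, U)) :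
    U.ι ''ᵁ ((chartImm' U φ) ⁻¹ᵁ ⊤) = U := by
  have : (chartImm' U φ) ⁻¹ᵁ ⊤ = ⊤ := rfl
  rw [this]
  exact U.ι_image_top

lemma chart_appTop_apply (U : X.Opens) {P : Type u} [CommRing P] (φ : P →+* Γ(X, U)) (p : P) :
    (chartImm' U φ).appTop.hom ((Scheme.ΓSpecIso (CommRingCat.of P)).inv.hom p) =
      U.topIso.inv.hom (φ p) := by
  have h2 : (chartImm' U φ).appTop =
      (Spec.map (CommRingCat.ofHom φ)).appTop ≫ U.toSpecΓ.appTop := by
    unfold chartImm'
    rw [Scheme.Hom.comp_appTop]
  have h4 := Scheme.ΓSpecIso_inv_naturality (CommRingCat.ofHom φ)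
  have h5 : (Spec.map (CommRingCat.ofHom φ)).appTop.hom
      ((Scheme.ΓSpecIso (CommRingCat.of P)).inv.hom p) =
      (Scheme.ΓSpecIso Γ(X, U)).inv.hom (φ p) := by
    have := congrArg (fun χ => χ.hom p) h4
    exact this.symm
  rw [h2, Scheme.Opens.toSpecΓ_appTop]
  change U.topIso.inv.hom ((Scheme.ΓSpecIso Γ(X, U)).hom.hom
    ((Spec.map (CommRingCat.ofHom φ)).appTop.hom
      ((Scheme.ΓSpecIso (CommRingCat.of P)).inv.hom p))) = _
  rw [h5]
  congr 1
  exact congrArg (fun χ => χ.hom (φ p)) (Scheme.ΓSpecIso Γ(X, U)).inv_hom_id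

/-- the ring-level key: the chart morphism on global sections -/
lemma chart_app_top (U : X.Opens) {P : Type u} [CommRing P] (φ : P →+* Γ(X, U)) (p : P) :
    (U.ι.appIso ((chartImm' U φ) ⁻¹ᵁ ⊤)).inv.hom ((chartImm' U φ).app ⊤
      (((Spec (CommRingCat.of P)).presheaf.map (⊤ : (Spec (CommRingCat.of P)).Opens).leTop.op).hom
        ((Scheme.ΓSpecIso (CommRingCat.of P)).inv.hom p))) =
    (X.presheaf.map (eqToHom (chart_image_top U φ)).op).hom (φ p) := by
  have h1 : ((Spec (CommRingCat.of P)).presheaf.map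
      (⊤ : (Spec (CommRingCat.of P)).Opens).leTop.op) = 𝟙 _ := by
    have h : (⊤ : (Spec (CommRingCat.of P)).Opens).leTop.op = 𝟙 _ := rfl
    rw [h, (Spec (CommRingCat.of P)).presheaf.map_id]
  rw [h1]
  have h3 : (chartImm' U φ).app ⊤ (((𝟙 _ : Γ(Spec (CommRingCat.of P), ⊤) ⟶ _)).hom
      ((Scheme.ΓSpecIso (CommRingCat.of P)).inv.hom p)) = U.topIso.inv.hom (φ p) :=
    chart_appTop_apply U φ p
  rw [h3, Scheme.Opens.ι_appIso]
  rfl

/-- the direct image of `M|_U` along the chart morphism -/
noncomputable abbrev chartN (M : X.Modules) (U : X.Opens) {P : Type u} [CommRing P]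
    (φ : P →+* Γ(X, U)) : (Spec (CommRingCat.of P)).Modules :=
  (Scheme.Modules.pushforward (chartImm' U φ)).obj (M.restrict U.ι)

/-- the module of the chart: global sections of the direct image, as a `P`-module -/
noncomputable abbrev chartMod (M : X.Modules) (U : X.Opens) {P : Type u} [CommRing P]
    (φ : P →+* Γ(X, U)) : ModuleCat.{u} P :=
  (moduleSpecΓFunctor (R := CommRingCat.of P)).obj (chartN M U φ)

/-- sections over `U` versus the module of the chart: a `φ`-semilinear bijection -/
theorem exists_semilinear_chart (M : X.Modules) (U : X.Opens) {P : Type u} [CommRing P]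
    (φ : P →+* Γ(X, U)) :
    ∃ e : Γ(M, U) ≃+ chartMod M U φ, ∀ (p : P) (x : Γ(M, U)), e (φ p • x) = p • e x := by
  have h := chart_image_top U φ
  let e : Γ(M, U) ≃+ Γ(M, U.ι ''ᵁ ((chartImm' U φ) ⁻¹ᵁ ⊤)) :=
    { toFun := (M.presheaf.map (eqToHom h).op).hom
      invFun := (M.presheaf.map (eqToHom h.symm).op).hom
      left_inv := fun x => by
        change (M.presheaf.map (eqToHom h).op ≫ M.presheaf.map (eqToHom h.symm).op).hom x = x
        rw [← M.presheaf.map_comp, ← op_comp, eqToHom_trans, eqToHom_refl, op_id,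
          M.presheaf.map_id]
        rfl
      right_inv := fun x => by
        change (M.presheaf.map (eqToHom h.symm).op ≫ M.presheaf.map (eqToHom h).op).hom x = x
        rw [← M.presheaf.map_comp, ← op_comp, eqToHom_trans, eqToHom_refl, op_id,
          M.presheaf.map_id]
        rfl
      map_add' := fun x y => map_add _ x y }
  refine ⟨e, fun p x => ?_⟩
  change M.presheaf.map (eqToHom h).op (φ p • x) = _
  rw [Scheme.Modules.map_smul]
  have key := chart_app_top U φ p
  rw [← key]
  rfl

/-- the structure sheaf of an affine open is of finite type over the chart -/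
theorem pushOPCn_chart_zero (U : X.Opens) (hU : IsAffineOpen U) {P : Type u} [CommRing P]
    (φ : P →+* Γ(X, U)) (hφ : Function.Surjective φ) :
    haveI := isClosedImmersion_chartImm' U hU φ hφ
    PushOPCn (chartImm' U φ) 0 := by
  haveI := isClosedImmersion_chartImm' U hU φ hφ
  refine (pcCx_unitCx_iff U φ 0).1 ((pcCx_unitCx_iff_ring U hU φ 0).2 ?_)
  letI : Module P Γ(X, U) := Module.compHom _ φ
  have hfin : Module.Finite P Γ(X, U) := by
    refine Module.Finite.of_surjective
      ({ toFun := φ, map_add' := map_add φ, map_smul' := fun a b => by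
          change φ (a * b) = φ a * φ b
          exact map_mul φ a b } : P →ₗ[P] Γ(X, U)) hφ
  exact (Groth.Agent.S6935.result P Γ(X, U)).1.2 hfin

/-- for objects bounded above by `b ≤ m`, the chart test is the absolute test on `U` -/
theorem pcCx_iff_restrictD_of_le (U : X.Opens) (hU : IsAffineOpen U) {P : Type u} [CommRing P]
    (φ : P →+* Γ(X, U)) (hφ : Function.Surjective φ) (G : CochainComplex X.Modules ℤ)
    (m b : ℤ) (hbm : b ≤ m) [(DCoh.toD X G).IsLE b] :
    PCCx m G U φ ↔ DCoh.IsPseudoCoherentD m ((DCoh.restrictD U.ι).obj (DCoh.toD X G)) := by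
  haveI := isClosedImmersion_chartImm' U hU φ hφ
  have hO := pushOPCn_chart_zero U hU φ hφ
  haveI : ((DCoh.restrictD U.ι).obj (DCoh.toD X G)).IsLE b := isLE_restrictD' U.ι _ b
  have e : (Scheme.Modules.pushforward (chartImm' U φ)).mapDerivedCategory.obj
      ((DCoh.restrictD U.ι).obj (DCoh.toD X G)) ≅
      DCoh.toD (Spec (CommRingCat.of P))
        ((DerSch.pushCx (chartImm' U φ)).obj ((DCoh.restrictCx U).obj G)) :=
    (Scheme.Modules.pushforward (chartImm' U φ)).mapDerivedCategory.mapIso
      ((Scheme.Modules.restrictFunctor U.ι).mapDerivedCategoryFactors.app G) ≪≫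
      (Scheme.Modules.pushforward (chartImm' U φ)).mapDerivedCategoryFactors.app _
  unfold PCCx
  constructor
  · intro h
    exact pc_of_push_n (b := b) hO (by omega) (isPseudoCoherentD_of_iso e.symm h)
  · intro h
    exact isPseudoCoherentD_of_iso e (pc_push_n (b := b) hO (by omega) h)

/-- for objects bounded above by `b ≤ m`, relative `m`-pseudo-coherence is absolute
`m`-pseudo-coherence -/
theorem rel_iff_abs_of_isLE (f : X ⟶ S) [LocallyOfFiniteType f] (G : CochainComplex X.Modules ℤ)
    (m b : ℤ) (hbm : b ≤ m) [(DCoh.toD X G).IsLE b] :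
    DerSch.IsPseudoCoherentRel f m (DCoh.toD X G) ↔ DCoh.IsPseudoCoherentD m (DCoh.toD X G) := by
  rw [rel_toD_iff_forall_pcCx]
  constructor
  · intro h
    rw [isPseudoCoherentD_iff_pcAt]
    intro x
    obtain ⟨V, hV⟩ := exists_affine_nhd (f.base x)
    obtain ⟨U, hU, hUV⟩ := exists_affine_nhd_le f x V hV
    obtain ⟨n, φ, hφ⟩ := exists_chart_of_finiteType _
      (LocallyOfFiniteType.finiteType_appLE f V.2 U.2 hUV)
    have h1 := h U V hUV n φ hφ
    exact pcAt_of_isPseudoCoherentD_restrictD (U : X.Opens) x hU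
      ((pcCx_iff_restrictD_of_le (U : X.Opens) U.2 φ hφ.1 G m b hbm).1 h1)
  · intro h U V hUV n φ hφ
    exact (pcCx_iff_restrictD_of_le (U : X.Opens) U.2 φ hφ.1 G m b hbm).2
      (isPseudoCoherentD_restrictD h (U : X.Opens).ι)

end Groth.Agent.Lib.H6xChart
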