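import Mathlib
import Groth.Agent.Lib.H6xRelModA
import Groth.Agent.Lib.H6xRelQcA
import Groth.Agent.Lib.Helper2FPAff
import Groth.Agent.Lib.Helper2RelFPGeo
import Groth.Agent.Lib.Helper23FinTypeLocal
import Groth.Agent.S6518
set_option backward.isDefEq.respectTransparency.types false

/-!
# Relative pseudo-coherence of modules: finite presentation relative to the base
(helper6; S7212)
-/

set_option autoImplicit false
set_option linter.style.haveILetI false
universe u
open CategoryTheory CategoryTheory.Limits AlgebraicGeometry HomologicalComplex TopologicalSpace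
  Opposite MonoidalCategory
attribute [local instance] HasDerivedCategory.standard

namespace Groth.Agent.Lib.H6xChart

open Groth.Agent.Lib.H6xClPush Groth.Agent.Lib.H6xPC3 Groth.Agent.Lib.H6xPCoh
  Groth.Agent.Lib.Helper1.PC Groth.Agent.Lib.Helper2.RelFPAlg Groth.Agent.Lib.Helper2.RelFPGeo
  Groth.Agent.Lib.Helper2.FPAff

variable {X S : Scheme.{u}}

/-- the chart test at level `-1` is finite presentation of the direct image -/
theorem pcCx_single_negOne_iff (M : X.Modules) (U : X.Opens) {P : Type u} [CommRing P]
    (φ : P →+* Γ(X, U)) :
    PCCx (-1) ((HomologicalComplex.single X.Modules (ComplexShape.up ℤ) 0).obj M) U φ ↔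
      CohB1.IsFP (chartN M U φ) :=
  (pcCx_single_iff M U φ (-1)).trans (Groth.Agent.S6518.result _).2

/-- quasi-coherence of the direct image -/
lemma isQuasicoherent_chartN (M : X.Modules) (U : X.Opens) (hU : IsAffineOpen U) {P : Type u}
    [CommRing P] (φ : P →+* Γ(X, U)) (hφ : Function.Surjective φ)
    [(M.restrict U.ι).IsQuasicoherent] : (chartN M U φ).IsQuasicoherent := by
  haveI := isClosedImmersion_chartImm' U hU φ hφ
  exact Groth.Agent.Lib.Helper23.QCohLocal.isQuasicoherent_pushforward (chartImm' U φ) _

/-- quasi-coherence of the direct image is reflected -/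
lemma isQuasicoherent_restrict_of_chartN (M : X.Modules) (U : X.Opens) (hU : IsAffineOpen U)
    {P : Type u} [CommRing P] (φ : P →+* Γ(X, U)) (hφ : Function.Surjective φ)
    [(chartN M U φ).IsQuasicoherent] : (M.restrict U.ι).IsQuasicoherent := by
  haveI := isClosedImmersion_chartImm' U hU φ hφ
  exact Groth.Agent.Lib.H6xRelQc.isQuasicoherent_of_pushforward (chartImm' U φ) _

/-- the direct image is the sheaf associated with the chart module -/
noncomputable def chartNIso (M : X.Modules) (U : X.Opens) {P : Type u} [CommRing P]
    (φ : P →+* Γ(X, U)) [(chartN M U φ).IsQuasicoherent] :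
    tilde (chartMod M U φ) ≅ chartN M U φ :=
  @asIso _ _ _ _ (Scheme.Modules.fromTildeΓ (R := CommRingCat.of P) (chartN M U φ))
    (Groth.Agent.Lib.Helper23.QCohLocal.isIso_fromTildeΓ (R := CommRingCat.of P)
      (chartN M U φ))

/-- finite presentation of the direct image is finite presentation of the chart module -/
theorem isFP_chartN_iff (M : X.Modules) (U : X.Opens) {P : Type u} [CommRing P]
    (φ : P →+* Γ(X, U)) [(chartN M U φ).IsQuasicoherent] :
    CohB1.IsFP (chartN M U φ) ↔ Module.FinitePresentation P (chartMod M U φ) := by
  rw [← isFinitePresentation_tilde_iff (CommRingCat.of P) (chartMod M U φ)]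
  constructor
  · intro h
    haveI := h
    exact isFinitePresentation_of_iso (chartNIso M U φ).symm
  · intro h
    haveI := h
    exact isFinitePresentation_of_iso (chartNIso M U φ)

/-- finite presentation of the chart module is finite presentation of the sections through `φ` -/
theorem fp_chartMod_iff (M : X.Modules) (U : X.Opens) {P : Type u} [CommRing P]
    (φ : P →+* Γ(X, U)) :
    Module.FinitePresentation P (chartMod M U φ) ↔ FPVia φ (M.val.obj (op U)) := by
  obtain ⟨e, he⟩ := exists_semilinear_chart M U φ
  unfold FPVia
  letI : Module P (M.val.obj (op U)) := Module.compHom _ φ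
  exact (finitePresentation_iff_of_semilinear (N := M.val.obj (op U)) (N' := chartMod M U φ)
    (RingHom.id P) Function.bijective_id e (fun p x => he p x)).symm

end Groth.Agent.Lib.H6xChart
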