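import Mathlib
import Groth.Agent.Lib.H6xRelModB
set_option backward.isDefEq.respectTransparency.types false

/-!
# Relative pseudo-coherence of a module placed in degree `0` (helper6; S7212)
-/

set_option autoImplicit false
set_option linter.style.haveILetI false
universe u
open CategoryTheory CategoryTheory.Limits AlgebraicGeometry HomologicalComplex TopologicalSpace
  Opposite MonoidalCategory
attribute [local instance] HasDerivedCategory.standard

namespace Groth.Agent.Lib.H6xChart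

open Groth.Agent.Lib.H6xClPush Groth.Agent.Lib.H6xPC3 Groth.Agent.Lib.H6xPCoh
  Groth.Agent.Lib.Helper1.PC Groth.Agent.Lib.Helper2.RelFPAlg Groth.Agent.Lib.Helper2.RelFPGeo
  Groth.Agent.Lib.Helper2.FPAff

variable {X S : Scheme.{u}}

/-- the single complex of a module -/
noncomputable abbrev sgl (M : X.Modules) : CochainComplex X.Modules ℤ :=
  (HomologicalComplex.single X.Modules (ComplexShape.up ℤ) 0).obj M

instance (M : X.Modules) : (DCoh.toD X (sgl M)).IsLE 0 :=
  inferInstanceAs (((DerivedCategory.singleFunctor X.Modules 0).obj M).IsLE 0)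

/-- `inD` versus `toD` of the single complex -/
theorem rel_inD_iff (f : X ⟶ S) (m : ℤ) (M : X.Modules) :
    DerSch.IsPseudoCoherentRel f m (DCoh.inD X M) ↔
      DerSch.IsPseudoCoherentRel f m (DCoh.toD X (sgl M)) :=
  rel_iff_of_iso f ((DerivedCategory.singleFunctorIsoCompQ X.Modules 0).app M) m

/-- affine pairs cover -/
lemma affinePairs_cover (f : X ⟶ S) : IsOpenCover
    (fun t : {t : X.affineOpens × S.affineOpens // (t.1 : X.Opens) ≤ f ⁻¹ᵁ (t.2 : S.Opens)} =>
      (t.1.1 : X.Opens)) := by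
  rw [IsOpenCover, eq_top_iff]
  intro x _
  obtain ⟨V, hV⟩ := exists_affine_nhd (f.base x)
  obtain ⟨U, hU, hUV⟩ := exists_affine_nhd_le f x V hV
  exact Opens.mem_iSup.2 ⟨⟨⟨U, V⟩, hUV⟩, hU⟩

/-- relative `(-1)`-pseudo-coherence forces quasi-coherence -/
theorem isQuasicoherent_of_rel_negOne (f : X ⟶ S) [LocallyOfFiniteType f] (M : X.Modules)
    (h : DerSch.IsPseudoCoherentRel f (-1) (DCoh.toD X (sgl M))) : M.IsQuasicoherent := by
  rw [rel_toD_iff_forall_pcCx] at h
  refine Groth.Agent.Lib.Helper23.FinType.isQuasicoherent_of_open_cover M _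
    (affinePairs_cover f) (fun t => ?_)
  obtain ⟨n, φ, hφ⟩ := exists_chart_of_finiteType _
    (LocallyOfFiniteType.finiteType_appLE f t.1.2.2 t.1.1.2 t.2)
  have h1 := (pcCx_single_negOne_iff M (t.1.1 : X.Opens) φ).1 (h t.1.1 t.1.2 t.2 n φ hφ)
  haveI : (chartN M (t.1.1 : X.Opens) φ).IsQuasicoherent := by
    haveI := h1
    infer_instance
  exact isQuasicoherent_restrict_of_chartN M (t.1.1 : X.Opens) t.1.1.2 φ hφ.1

/-- the chart test at level `-1` for a quasi-coherent module -/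
theorem pcCx_single_negOne_iff_fpVia (M : X.Modules) [M.IsQuasicoherent] (U : X.Opens)
    (hU : IsAffineOpen U) {P : Type u} [CommRing P] (φ : P →+* Γ(X, U))
    (hφ : Function.Surjective φ) :
    PCCx (-1) (sgl M) U φ ↔ FPVia φ (M.val.obj (op U)) := by
  haveI := isQuasicoherent_chartN M U hU φ hφ
  rw [pcCx_single_negOne_iff, isFP_chartN_iff, fp_chartMod_iff]

/-- relative `(-1)`-pseudo-coherence of a module is quasi-coherence plus relative finite
presentation -/
theorem rel_negOne_iff (f : X ⟶ S) [LocallyOfFiniteType f] (M : X.Modules) :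
    DerSch.IsPseudoCoherentRel f (-1) (DCoh.toD X (sgl M)) ↔
      (Coh.IsQCoh M ∧ Flatn.IsRelFP f M) := by
  constructor
  · intro h
    haveI hq : M.IsQuasicoherent := isQuasicoherent_of_rel_negOne f M h
    refine ⟨hq, isRelFP_of_forall f M (fun U V hUV => ?_)⟩
    rw [rel_toD_iff_forall_pcCx] at h
    obtain ⟨n, φ, hφ⟩ := exists_chart_of_finiteType _
      (LocallyOfFiniteType.finiteType_appLE f V.2 U.2 hUV)
    have h1 := (pcCx_single_negOne_iff_fpVia M (U : X.Opens) U.2 φ hφ.1).1 (h U V hUV n φ hφ)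
    rw [Flatn.relFPOn_iff]
    letI := (f.appLE (V : S.Opens) (U : X.Opens) hUV).hom.toAlgebra
    refine ⟨n, { toRingHom := φ, commutes' := fun r => ?_ }, hφ.1, h1⟩
    exact congrArg (fun χ : _ →+* _ => χ r) hφ.2
  · rintro ⟨hq, hfp⟩
    haveI : M.IsQuasicoherent := hq
    rw [rel_toD_iff_forall_pcCx]
    intro U V hUV n φ hφ
    rw [pcCx_single_negOne_iff_fpVia M (U : X.Opens) U.2 φ hφ.1]
    have h1 := relFPOn_of_isRelFP f M hfp U V hUV
    rw [Flatn.relFPOn_iff] at h1
    letI := (f.appLE (V : S.Opens) (U : X.Opens) hUV).hom.toAlgebra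
    let ψ : MvPolynomial (Fin n) Γ(S, (V : S.Opens)) →ₐ[Γ(S, (V : S.Opens))] Γ(X, (U : X.Opens)) :=
      { toRingHom := φ, commutes' := fun r => congrArg (fun χ : _ →+* _ => χ r) hφ.2 }
    exact fpVia_of_relFP h1 ψ hφ.1

/-- **S7212** -/
theorem main_S7212 (f : X ⟶ S) [LocallyOfFiniteType f] (M : X.Modules) :
    (∀ m : ℤ, 0 < m → DerSch.IsPseudoCoherentRel f m (DCoh.inD X M)) ∧
      (DerSch.IsPseudoCoherentRel f 0 (DCoh.inD X M) ↔ CohB1.IsFT M) ∧
      (DerSch.IsPseudoCoherentRel f (-1) (DCoh.inD X M) ↔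
        (Coh.IsQCoh M ∧ Flatn.IsRelFP f M)) := by
  refine ⟨fun m hm => ?_, ?_, ?_⟩
  · rw [rel_inD_iff, rel_iff_abs_of_isLE f (sgl M) m 0 hm.le]
    haveI : (DCoh.toD X (sgl M)).IsLE (m - 1) :=
      DerivedCategory.TStructure.t.isLE_of_le _ 0 (m - 1) (by omega)
    exact (pcGlobal_of_isLE m _).isPseudoCoherentD
  · rw [rel_inD_iff, rel_iff_abs_of_isLE f (sgl M) 0 0 le_rfl, ← (Groth.Agent.S6518.result M).1]
    exact ⟨isPseudoCoherentD_of_iso ((DerivedCategory.singleFunctorIsoCompQ X.Modules 0).app M).symm,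
      isPseudoCoherentD_of_iso ((DerivedCategory.singleFunctorIsoCompQ X.Modules 0).app M)⟩
  · rw [rel_inD_iff]
    exact rel_negOne_iff f M

end Groth.Agent.Lib.H6xChart
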