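import Mathlib
import Groth.Agent.Lib.Helper2FPAff

/-!
# Sections of quasi-coherent modules killed on an open subset (scheme side of EGA IV 11.10)

* `section_eq_zero_of_locally`: a section which is locally zero is zero.
* `torsIdeal W U`: the ideal of `Γ(X, W)` of the `b` with `D(b) ≤ U`.
* `eq_zero_of_forall_smul_eq_zero`: if `Γ(W, F) → Γ(W ⊓ U, F)` is injective and the `D(c)`, `c ∈ T`,
  cover `W ⊓ U`, then a section over `W` killed by all `c ∈ T` is zero.
* `exists_nhds_res_eq_zero`: conversely, if on the affine open `W` "killed by powers of `h c` for all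
  `c ∈ T` implies killed by a power of `h`", then sections over any `V` vanishing on `V ⊓ U` vanish
  near each point of `V ⊓ W`.
-/

set_option autoImplicit false
set_option linter.style.haveILetI false
set_option linter.unusedVariables false
set_option linter.unusedSectionVars false
universe u
open CategoryTheory Limits AlgebraicGeometry TopologicalSpace Opposite

namespace Groth.Agent.Lib.R2H3.SchemTors

open Groth.Agent.Lib.Helper2

variable {X : Scheme.{u}}

/-- a section which is locally zero is zero -/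
theorem section_eq_zero_of_locally (M : X.Modules) {V : X.Opens} (t : Γ(M, V))
    (h : ∀ x : V, ∃ (N : X.Opens) (hle : N ≤ V), x.1 ∈ N ∧
      M.presheaf.map (homOfLE hle).op t = 0) : t = 0 := by
  choose N hle hx hN using h
  refine TopCat.Sheaf.eq_of_locally_eq' ⟨M.presheaf, M.isSheaf⟩ N V (fun x => homOfLE (hle x)) ?_ t 0
    (fun x => by rw [map_zero]; exact hN x)
  intro x hxV
  exact Opens.mem_iSup.mpr ⟨⟨x, hxV⟩, hx ⟨x, hxV⟩⟩

/-- restriction of a restriction -/
theorem res_res (M : X.Modules) {V₁ V₂ V₃ : X.Opens} (h₁₂ : V₂ ≤ V₁) (h₂₃ : V₃ ≤ V₂)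
    (t : Γ(M, V₁)) :
    M.presheaf.map (homOfLE h₂₃).op (M.presheaf.map (homOfLE h₁₂).op t) =
      M.presheaf.map (homOfLE (h₂₃.trans h₁₂)).op t := by
  rw [← ConcreteCategory.comp_apply, ← Functor.map_comp]
  rfl

/-- the ideal of functions on `W` whose nonvanishing locus lies in `U` -/
def torsIdeal (W U : X.Opens) : Ideal Γ(X, W) where
  carrier := {b | X.basicOpen b ≤ U}
  add_mem' := fun {a b} ha hb => by
    change X.basicOpen (a + b) ≤ U
    exact (X.basicOpen_add_le a b).trans (sup_le ha hb)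
  zero_mem' := by
    change X.basicOpen (0 : Γ(X, W)) ≤ U
    rw [Scheme.basicOpen_zero]
    exact bot_le
  smul_mem' := fun c b hb => by
    change X.basicOpen (c * b) ≤ U
    rw [Scheme.basicOpen_mul]
    exact inf_le_right.trans hb

theorem mem_torsIdeal {W U : X.Opens} (b : Γ(X, W)) : b ∈ torsIdeal W U ↔ X.basicOpen b ≤ U :=
  Iff.rfl

theorem eq_zero_of_forall_smul_eq_zero (F : X.Modules) {W U : X.Opens} (T : Set Γ(X, W))
    (hTU : ∀ c ∈ T, X.basicOpen c ≤ U)
    (hcov : ∀ y : X, y ∈ W → y ∈ U → ∃ c ∈ T, y ∈ X.basicOpen c)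
    (hinj : Function.Injective (F.presheaf.map (homOfLE (inf_le_left : W ⊓ U ≤ W)).op))
    (x : Γ(F, W)) (hx : ∀ c ∈ T, c • x = 0) : x = 0 := by
  apply hinj
  rw [map_zero]
  apply section_eq_zero_of_locally
  rintro ⟨y, hy⟩
  obtain ⟨c, hcT, hyc⟩ := hcov y hy.1 hy.2
  refine ⟨X.basicOpen c, le_inf (X.basicOpen_le c) (hTU c hcT), hyc, ?_⟩
  rw [res_res]
  have h1 : X.presheaf.map (homOfLE (X.basicOpen_le c)).op c •
      F.presheaf.map (homOfLE (X.basicOpen_le c)).op x = 0 := by
    rw [← Scheme.Modules.map_smul, hx c hcT, map_zero]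
  have hu : IsUnit (X.presheaf.map (homOfLE (X.basicOpen_le c)).op c) :=
    RingedSpace.isUnit_res_basicOpen _ c
  exact (hu.smul_eq_zero).1 h1

theorem exists_nhds_res_eq_zero (F : X.Modules) [F.IsQuasicoherent] {W U : X.Opens}
    (hW : IsAffineOpen W) (T : Set Γ(X, W)) (hTU : ∀ c ∈ T, X.basicOpen c ≤ U)
    (halg : ∀ (h : Γ(X, W)) (t' : Γ(F, W)), (∀ c ∈ T, ∃ n : ℕ, (h * c) ^ n • t' = 0) →
      ∃ m : ℕ, h ^ m • t' = 0)
    {V : X.Opens} (t : Γ(F, V))
    (ht : F.presheaf.map (homOfLE (inf_le_left : V ⊓ U ≤ V)).op t = 0)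
    (x : X) (hxV : x ∈ V) (hxW : x ∈ W) :
    ∃ (N : X.Opens) (hle : N ≤ V), x ∈ N ∧ F.presheaf.map (homOfLE hle).op t = 0 := by
  obtain ⟨h, hhV, hxh⟩ := hW.exists_basicOpen_le ⟨x, hxV⟩ hxW
  obtain ⟨k, tt, htt⟩ := QCoh.exists_extension hW F h (F.presheaf.map (homOfLE hhV).op t)
  have key : ∀ c ∈ T, ∃ n : ℕ, (h * c) ^ n • tt = 0 := by
    intro c hc
    apply QCoh.exists_pow_smul_eq_zero hW F (h * c) tt
    have hle1 : X.basicOpen (h * c) ≤ X.basicOpen h := by
      rw [Scheme.basicOpen_mul]; exact inf_le_left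
    have hle2 : X.basicOpen (h * c) ≤ V ⊓ U :=
      le_inf (hle1.trans hhV) (by rw [Scheme.basicOpen_mul]; exact inf_le_right.trans (hTU c hc))
    have e1 : F.presheaf.map (homOfLE (X.basicOpen_le (h * c))).op tt =
        F.presheaf.map (homOfLE hle1).op (F.presheaf.map (homOfLE (X.basicOpen_le h)).op tt) :=
      (res_res F (X.basicOpen_le h) hle1 tt).symm
    have e2 : F.presheaf.map (homOfLE hle1).op (F.presheaf.map (homOfLE hhV).op t) = 0 := by
      rw [res_res, ← res_res F inf_le_left hle2, ht, map_zero]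
    rw [e1, htt, Scheme.Modules.map_smul, e2, smul_zero]
  obtain ⟨m, hm⟩ := halg h tt key
  refine ⟨X.basicOpen h, hhV, hxh, ?_⟩
  have hu : IsUnit (X.presheaf.map (homOfLE (X.basicOpen_le h)).op h) :=
    RingedSpace.isUnit_res_basicOpen _ h
  have h3 : (X.presheaf.map (homOfLE (X.basicOpen_le h)).op h) ^ (m + k) •
      F.presheaf.map (homOfLE hhV).op t = 0 := by
    rw [pow_add, mul_smul, ← htt, ← map_pow, ← Scheme.Modules.map_smul, hm, map_zero]
  exact ((hu.pow (m + k)).smul_eq_zero).1 h3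

end Groth.Agent.Lib.R2H3.SchemTors
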