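import Mathlib
import Groth.Agent.Lib.R2H3SchemTors
import Groth.Agent.Lib.R2H3FibreTors
import Groth.Agent.Lib.Helper2PullbackSec3
import Groth.Agent.Lib.Helper2FlatOver2

/-!
# Universal injectivity of `F → j_* j^* F` is a fibrewise condition (EGA IV 11.10.x)

`f : X ⟶ S` locally of finite presentation, `F` quasi-coherent of finite presentation and `f`-flat,
`U ⊆ X` open.
* `appLE_fromSpecResidueField_eq_zero_iff`
* `exists_regular_fibre`: if the restriction maps `Γ(V, F_s) → Γ(V ⊓ U_s, F_s)` are injective on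
  all fibres, then over affine opens `W ⊆ f⁻¹ V₀` and for every prime `p` of `Γ(S, V₀)` there is
  `a ∈ Γ(X, W)` with `D(a) ≤ U` which is regular on `Γ(W, F) ⊗ κ(p)`.
* `injective_of_fibrewise`: then the restriction maps are injective after any base change.
-/

set_option autoImplicit false
set_option linter.style.haveILetI false
set_option linter.unusedVariables false
set_option linter.unusedSectionVars false
universe u
open CategoryTheory Limits AlgebraicGeometry TopologicalSpace Opposite TensorProduct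

namespace Groth.Agent.Lib.R2H3.UnivInj

open Groth.Agent.Lib.Helper2 Groth.Agent.Lib.Helper2.PullbackSec Groth.Agent.Lib.Helper2.FlatOver
open Groth.Agent.Lib.R2H3.SchemTors Groth.Agent.Lib.R2H3.FibreTors

/-- evaluation at `s` kills exactly the functions vanishing at `s` -/
theorem appLE_fromSpecResidueField_eq_zero_iff {S : Scheme.{u}} (s : S) {V₀ : S.Opens}
    (e : (⊤ : (Spec (S.residueField s)).Opens) ≤ (S.fromSpecResidueField s) ⁻¹ᵁ V₀)
    (a : Γ(S, V₀)) :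
    ((S.fromSpecResidueField s).appLE V₀ ⊤ e).hom a = 0 ↔ s ∉ S.basicOpen a := by
  have hb := Scheme.basicOpen_appLE (S.fromSpecResidueField s) ⊤ V₀ e a
  have hz : s ∈ Set.range (S.fromSpecResidueField s) := by
    rw [Scheme.range_fromSpecResidueField]; rfl
  obtain ⟨z, hz⟩ := hz
  rw [← basicOpen_eq_bot_iff]
  constructor
  · intro h0 hs
    have hmem : z ∈ (⊤ : (Spec (S.residueField s)).Opens) ⊓
        (S.fromSpecResidueField s) ⁻¹ᵁ (S.basicOpen a) := by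
      refine ⟨trivial, ?_⟩
      change (S.fromSpecResidueField s) z ∈ S.basicOpen a
      rw [hz]; exact hs
    rw [← hb] at hmem
    have h0' : (Spec (S.residueField s)).basicOpen
        (((S.fromSpecResidueField s).appLE V₀ ⊤ e).hom a) = ⊥ := h0
    rw [h0'] at hmem
    exact hmem
  · intro hs
    change (Spec (S.residueField s)).basicOpen
        (((S.fromSpecResidueField s).appLE V₀ ⊤ e) a) = ⊥
    rw [hb]
    ext y
    simp only [Opens.coe_bot, Set.mem_empty_iff_false, iff_false]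
    rintro ⟨-, hy⟩
    have hy' : (S.fromSpecResidueField s) y ∈ S.basicOpen a := hy
    rw [Scheme.fromSpecResidueField_apply] at hy'
    exact hs hy'

section

variable {X S : Scheme.{u}} (f : X ⟶ S) [LocallyOfFinitePresentation f]
  (F : X.Modules) [F.IsQuasicoherent]
  [SheafOfModules.IsFinitePresentation (R := X.ringCatSheaf) F]
  (hflat : FlatMod.IsFlatOver f F) (U : X.Opens)

include hflat in
theorem exists_regular_fibre
    (hfibre : ∀ (s : S) (V : (↑(f.fiber s) : Scheme.{u}).Opens),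
      Function.Injective (((Scheme.Modules.pullback (f.fiberι s)).obj F).presheaf.map
        (homOfLE (inf_le_left : V ⊓ (f.fiberι s) ⁻¹ᵁ U ≤ V)).op))
    {V₀ : S.Opens} {W : X.Opens} (hV₀ : IsAffineOpen V₀) (hW : IsAffineOpen W)
    (eU : W ≤ f ⁻¹ᵁ V₀) :
    letI : Algebra Γ(S, V₀) Γ(X, W) := (f.appLE V₀ W eU).hom.toAlgebra
    letI : Module Γ(S, V₀) Γ(F, W) := Module.compHom Γ(F, W) (f.appLE V₀ W eU).hom
    ∀ [IsScalarTower Γ(S, V₀) Γ(X, W) Γ(F, W)] (p : Ideal Γ(S, V₀)) [p.IsPrime],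
      ∃ a : Γ(X, W), X.basicOpen a ≤ U ∧
        IsSMulRegular (Γ(F, W) ⊗[Γ(S, V₀)] p.ResidueField) a := by
  letI aAB : Algebra Γ(S, V₀) Γ(X, W) := (f.appLE V₀ W eU).hom.toAlgebra
  letI mAM : Module Γ(S, V₀) Γ(F, W) := Module.compHom Γ(F, W) (f.appLE V₀ W eU).hom
  intro tABM p hp
  classical
  let q : PrimeSpectrum Γ(S, V₀) := ⟨p, hp⟩
  let s : S := hV₀.fromSpec q
  have hsV₀ : s ∈ V₀ := QCoh.fromSpec_mem hV₀ q
  let g : Spec (S.residueField s) ⟶ S := S.fromSpecResidueField s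
  let g' : f.fiber s ⟶ X := f.fiberι s
  let f' : f.fiber s ⟶ Spec (S.residueField s) := pullback.snd f g
  have hc : IsPullback g' f' f g := IsPullback.of_hasPullback f g
  have hV₁ : IsAffineOpen (⊤ : (Spec (S.residueField s)).Opens) := isAffineOpen_top _
  have eV' : (⊤ : (Spec (S.residueField s)).Opens) ≤ g ⁻¹ᵁ V₀ := by
    intro z _
    change g z ∈ V₀
    rw [Scheme.fromSpecResidueField_apply]
    exact hsV₀
  set W' : (f.fiber s).Opens := g' ⁻¹ᵁ W ⊓ f' ⁻¹ᵁ ⊤ with hW'def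
  have hW' : IsAffineOpen W' := isAffineOpen_inf_preimage hc eV' eU hV₀ hV₁ hW
  have e1 : W' ≤ g' ⁻¹ᵁ W := inf_le_left
  have e2 : W' ≤ f' ⁻¹ᵁ ⊤ := inf_le_right
  -- rings
  letI aAK : Algebra Γ(S, V₀) Γ(Spec (S.residueField s), ⊤) := (g.appLE V₀ ⊤ eV').hom.toAlgebra
  letI aBB' : Algebra Γ(X, W) Γ(f.fiber s, W') := (g'.appLE W W' e1).hom.toAlgebra
  letI aKB' : Algebra Γ(Spec (S.residueField s), ⊤) Γ(f.fiber s, W') :=
    (f'.appLE ⊤ W' e2).hom.toAlgebra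
  letI aAB' : Algebra Γ(S, V₀) Γ(f.fiber s, W') :=
    ((g'.appLE W W' e1).hom.comp (f.appLE V₀ W eU).hom).toAlgebra
  haveI tABB' : IsScalarTower Γ(S, V₀) Γ(X, W) Γ(f.fiber s, W') :=
    IsScalarTower.of_algebraMap_eq (fun a => rfl)
  haveI tAKB' : IsScalarTower Γ(S, V₀) Γ(Spec (S.residueField s), ⊤) Γ(f.fiber s, W') := by
    refine IsScalarTower.of_algebraMap_eq (fun a => ?_)
    change (g'.appLE W W' e1).hom ((f.appLE V₀ W eU).hom a) =
      (f'.appLE ⊤ W' e2).hom ((g.appLE V₀ ⊤ eV').hom a)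
    have h1 := Scheme.Hom.appLE_comp_appLE g' f V₀ W W' eU e1
    have h2 := Scheme.Hom.appLE_comp_appLE f' g V₀ ⊤ W' eV' e2
    have h3 : (f.appLE V₀ W eU ≫ g'.appLE W W' e1) = (g.appLE V₀ ⊤ eV' ≫ f'.appLE ⊤ W' e2) := by
      rw [h1, h2]
      congr 1
      exact hc.w
    exact congrArg (fun φ => φ.hom a) h3
  haveI hPO : Algebra.IsPushout Γ(S, V₀) Γ(Spec (S.residueField s), ⊤) Γ(X, W)
      Γ(f.fiber s, W') := algebra_isPushout hc eV' eU hV₀ hV₁ hW e1 e2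
  haveI hfpAB : Algebra.FinitePresentation Γ(S, V₀) Γ(X, W) :=
    HasRingHomProperty.appLE @LocallyOfFinitePresentation f ‹_› ⟨V₀, hV₀⟩ ⟨W, hW⟩ eU
  -- modules
  haveI hflM : Module.Flat Γ(S, V₀) Γ(F, W) :=
    (isFlatOver_iff_forall_affine f F).1 hflat W V₀ eU hW hV₀
  haveI hfpM : Module.FinitePresentation Γ(X, W) Γ(F, W) := FPAff.finitePresentation_sections F hW
  set Fs := (Scheme.Modules.pullback g').obj F with hFs
  haveI : Fs.IsQuasicoherent := isQuasicoherent_pullback g' F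
  letI mBM' : Module Γ(X, W) Γ(Fs, W') := Module.compHom _ (g'.appLE W W' e1).hom
  haveI tBB'M' : IsScalarTower Γ(X, W) Γ(f.fiber s, W') Γ(Fs, W') :=
    IsScalarTower.of_algebraMap_smul (fun _ _ => rfl)
  obtain ⟨T⟩ := nonempty_sections_linearEquiv g' F hW' hW e1
  let φ : Γ(F, W) →ₗ[Γ(X, W)] Γ(Fs, W') :=
    (T.toLinearMap.restrictScalars Γ(X, W)).comp
      (TensorProduct.mk Γ(X, W) Γ(f.fiber s, W') Γ(F, W) 1)
  have hφ : IsBaseChange Γ(f.fiber s, W') φ := IsBaseChange.of_equiv T (fun v => rfl)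
  -- `K` is a field
  have hK : IsField Γ(Spec (S.residueField s), ⊤) :=
    MulEquiv.isField (Field.toIsField (S.residueField s))
      (Scheme.ΓSpecIso (S.residueField s)).commRingCatIsoToRingEquiv.toMulEquiv
  -- the kernel of `A → K`
  have hker : RingHom.ker (algebraMap Γ(S, V₀) Γ(Spec (S.residueField s), ⊤)) = p := by
    ext a
    rw [RingHom.mem_ker]
    change (g.appLE V₀ ⊤ eV').hom a = 0 ↔ a ∈ p
    rw [appLE_fromSpecResidueField_eq_zero_iff s eV' a, QCoh.mem_basicOpen_fromSpec_iff hV₀ q a]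
    simp [q]
  -- torsion-freeness on the fibre
  have htf : ∀ x : Γ(Fs, W'), (∀ b ∈ torsIdeal W U,
      algebraMap Γ(X, W) Γ(f.fiber s, W') b • x = 0) → x = 0 := by
    intro x hx
    refine eq_zero_of_forall_smul_eq_zero Fs (U := g' ⁻¹ᵁ U)
      ((g'.appLE W W' e1).hom '' (torsIdeal W U : Set Γ(X, W))) ?_ ?_ (hfibre s W') x ?_
    · rintro _ ⟨b, hb, rfl⟩
      change (f.fiber s).basicOpen ((g'.appLE W W' e1) b) ≤ g' ⁻¹ᵁ U
      rw [Scheme.basicOpen_appLE]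
      exact inf_le_right.trans (fun y hy => hb hy)
    · intro y hyW' hyU
      obtain ⟨b, hbU, hyb⟩ := hW.exists_basicOpen_le ⟨g' y, hyU⟩ (e1 hyW')
      refine ⟨_, ⟨b, hbU, rfl⟩, ?_⟩
      change y ∈ (f.fiber s).basicOpen ((g'.appLE W W' e1) b)
      rw [Scheme.basicOpen_appLE]
      exact ⟨hyW', hyb⟩
    · rintro _ ⟨b, hb, rfl⟩
      exact hx b hb
  obtain ⟨a, haI, hreg⟩ := exists_regular_of_fibre Γ(S, V₀) Γ(X, W) Γ(F, W) (torsIdeal W U) p
    Γ(Spec (S.residueField s), ⊤) Γ(f.fiber s, W') hK hker Γ(Fs, W') φ hφ htf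
  exact ⟨a, haI, hreg⟩

include hflat in
theorem injective_of_fibrewise
    (hfibre : ∀ (s : S) (V : (↑(f.fiber s) : Scheme.{u}).Opens),
      Function.Injective (((Scheme.Modules.pullback (f.fiberι s)).obj F).presheaf.map
        (homOfLE (inf_le_left : V ⊓ (f.fiberι s) ⁻¹ᵁ U ≤ V)).op))
    (S' : Scheme.{u}) (g : S' ⟶ S) (V : (↑(pullback f g) : Scheme.{u}).Opens) :
    Function.Injective (((Scheme.Modules.pullback (pullback.fst f g)).obj F).presheaf.map
      (homOfLE (inf_le_left : V ⊓ (pullback.fst f g) ⁻¹ᵁ U ≤ V)).op) := by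
  classical
  let g' : pullback f g ⟶ X := pullback.fst f g
  let f' : pullback f g ⟶ S' := pullback.snd f g
  have hc : IsPullback g' f' f g := IsPullback.of_hasPullback f g
  set F' := (Scheme.Modules.pullback g').obj F with hF'
  haveI : F'.IsQuasicoherent := isQuasicoherent_pullback g' F
  intro t₁ t₂ h12
  rw [← sub_eq_zero]
  have ht : F'.presheaf.map (homOfLE (inf_le_left : V ⊓ g' ⁻¹ᵁ U ≤ V)).op (t₁ - t₂) = 0 := by
    rw [map_sub, sub_eq_zero]
    exact h12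
  generalize t₁ - t₂ = t at ht ⊢
  apply section_eq_zero_of_locally
  rintro ⟨x', hx'V⟩
  -- affine opens
  have hw : g.base (f'.base x') = f.base (g'.base x') := by
    have := congrArg (fun φ => φ.base x') hc.w
    simpa using this.symm
  obtain ⟨W, V₀, hW, hV₀, hxW, eU⟩ := exists_affine_nhds f (g'.base x')
  obtain ⟨V₁, hV₁, hsV₁, eV'⟩ : ∃ V₁ : S'.Opens, IsAffineOpen V₁ ∧ f'.base x' ∈ V₁ ∧
      V₁ ≤ g ⁻¹ᵁ V₀ := by
    have hmem : f'.base x' ∈ g ⁻¹ᵁ V₀ := by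
      change g.base (f'.base x') ∈ V₀
      rw [hw]; exact eU hxW
    obtain ⟨Z, hZ⟩ := (S'.isBasis_affineOpens).exists_subset_of_mem_open hmem (g ⁻¹ᵁ V₀).isOpen
    obtain ⟨⟨V₁, hV₁, rfl⟩, hxV₁, hle⟩ := hZ
    exact ⟨V₁, hV₁, hxV₁, hle⟩
  set W' : (pullback f g).Opens := g' ⁻¹ᵁ W ⊓ f' ⁻¹ᵁ V₁ with hW'def
  have hW' : IsAffineOpen W' := isAffineOpen_inf_preimage hc eV' eU hV₀ hV₁ hW
  have e1 : W' ≤ g' ⁻¹ᵁ W := inf_le_left
  have e2 : W' ≤ f' ⁻¹ᵁ V₁ := inf_le_right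
  have hx'W' : x' ∈ W' := ⟨hxW, hsV₁⟩
  -- rings
  letI aAB : Algebra Γ(S, V₀) Γ(X, W) := (f.appLE V₀ W eU).hom.toAlgebra
  letI aAA' : Algebra Γ(S, V₀) Γ(S', V₁) := (g.appLE V₀ V₁ eV').hom.toAlgebra
  letI aBB' : Algebra Γ(X, W) Γ(pullback f g, W') := (g'.appLE W W' e1).hom.toAlgebra
  letI aA'B' : Algebra Γ(S', V₁) Γ(pullback f g, W') := (f'.appLE V₁ W' e2).hom.toAlgebra
  letI aAB' : Algebra Γ(S, V₀) Γ(pullback f g, W') :=
    ((g'.appLE W W' e1).hom.comp (f.appLE V₀ W eU).hom).toAlgebra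
  haveI tABB' : IsScalarTower Γ(S, V₀) Γ(X, W) Γ(pullback f g, W') :=
    IsScalarTower.of_algebraMap_eq (fun a => rfl)
  haveI tAA'B' : IsScalarTower Γ(S, V₀) Γ(S', V₁) Γ(pullback f g, W') := by
    refine IsScalarTower.of_algebraMap_eq (fun a => ?_)
    change (g'.appLE W W' e1).hom ((f.appLE V₀ W eU).hom a) =
      (f'.appLE V₁ W' e2).hom ((g.appLE V₀ V₁ eV').hom a)
    have h1 := Scheme.Hom.appLE_comp_appLE g' f V₀ W W' eU e1
    have h2 := Scheme.Hom.appLE_comp_appLE f' g V₀ V₁ W' eV' e2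
    have h3 : (f.appLE V₀ W eU ≫ g'.appLE W W' e1) = (g.appLE V₀ V₁ eV' ≫ f'.appLE V₁ W' e2) := by
      rw [h1, h2]
      congr 1
      exact hc.w
    exact congrArg (fun φ => φ.hom a) h3
  haveI hPO : Algebra.IsPushout Γ(S, V₀) Γ(S', V₁) Γ(X, W) Γ(pullback f g, W') :=
    algebra_isPushout hc eV' eU hV₀ hV₁ hW e1 e2
  haveI hfpAB : Algebra.FinitePresentation Γ(S, V₀) Γ(X, W) :=
    HasRingHomProperty.appLE @LocallyOfFinitePresentation f ‹_› ⟨V₀, hV₀⟩ ⟨W, hW⟩ eU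
  -- modules
  letI mAM : Module Γ(S, V₀) Γ(F, W) := Module.compHom Γ(F, W) (f.appLE V₀ W eU).hom
  haveI tABM : IsScalarTower Γ(S, V₀) Γ(X, W) Γ(F, W) :=
    IsScalarTower.of_algebraMap_smul (fun _ _ => rfl)
  haveI hflM : Module.Flat Γ(S, V₀) Γ(F, W) :=
    (isFlatOver_iff_forall_affine f F).1 hflat W V₀ eU hW hV₀
  haveI hfpM : Module.FinitePresentation Γ(X, W) Γ(F, W) := FPAff.finitePresentation_sections F hW
  letI mBM' : Module Γ(X, W) Γ(F', W') := Module.compHom _ (g'.appLE W W' e1).hom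
  haveI tBB'M' : IsScalarTower Γ(X, W) Γ(pullback f g, W') Γ(F', W') :=
    IsScalarTower.of_algebraMap_smul (fun _ _ => rfl)
  obtain ⟨T⟩ := nonempty_sections_linearEquiv g' F hW' hW e1
  let φ : Γ(F, W) →ₗ[Γ(X, W)] Γ(F', W') :=
    (T.toLinearMap.restrictScalars Γ(X, W)).comp
      (TensorProduct.mk Γ(X, W) Γ(pullback f g, W') Γ(F, W) 1)
  have hφ : IsBaseChange Γ(pullback f g, W') φ := IsBaseChange.of_equiv T (fun v => rfl)
  -- the fibrewise regular elements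
  have hfib : ∀ (p : Ideal Γ(S, V₀)) [p.IsPrime], ∃ a ∈ (torsIdeal W U : Set Γ(X, W)),
      IsSMulRegular (Γ(F, W) ⊗[Γ(S, V₀)] p.ResidueField) a := by
    intro p hp
    obtain ⟨a, ha, hreg⟩ := exists_regular_fibre f F hflat U hfibre hV₀ hW eU p
    exact ⟨a, ha, hreg⟩
  have halg : ∀ (h : Γ(pullback f g, W')) (t' : Γ(F', W')),
      (∀ c ∈ (g'.appLE W W' e1).hom '' (torsIdeal W U : Set Γ(X, W)),
        ∃ n : ℕ, (h * c) ^ n • t' = 0) → ∃ m : ℕ, h ^ m • t' = 0 := by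
    intro h t' hct
    exact exists_pow_smul_eq_zero_of_fibrewise Γ(S, V₀) Γ(X, W) Γ(F, W)
      (torsIdeal W U : Set Γ(X, W)) hfib Γ(S', V₁) Γ(pullback f g, W') Γ(F', W') φ hφ h t'
      (fun b hb => hct _ ⟨b, hb, rfl⟩)
  refine exists_nhds_res_eq_zero F' (U := g' ⁻¹ᵁ U) hW'
    ((g'.appLE W W' e1).hom '' (torsIdeal W U : Set Γ(X, W))) ?_ halg t ht x' hx'V hx'W'
  rintro _ ⟨b, hb, rfl⟩
  change (pullback f g).basicOpen ((g'.appLE W W' e1) b) ≤ g' ⁻¹ᵁ U
  rw [Scheme.basicOpen_appLE]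
  exact inf_le_right.trans (fun y hy => hb hy)

end

end Groth.Agent.Lib.R2H3.UnivInj
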