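import Mathlib
import Groth.Agent.Lib.R2H3UnivInj
import Groth.Agent.Lib.Helper23PB
import Groth.Agent.Lib.Helper18FinFlat1

/-!
# Universal schematic density is a fibrewise condition (EGA IV 11.10.10), from the module version

* `injective_map_iff_of_iso`: injectivity of restriction maps is invariant under isomorphisms of
  modules.
* `isFlatOver_structureModule`: for a flat morphism the structure sheaf is flat over the base.
* `injective_pullback_structureModule_iff`: restriction maps of `p^* O_X` versus those of `O_X'`.
* `schematicallyDense_of_fibrewise`.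
-/

set_option autoImplicit false
set_option linter.style.haveILetI false
set_option linter.unusedVariables false
set_option linter.unusedSectionVars false
universe u
open CategoryTheory Limits AlgebraicGeometry TopologicalSpace Opposite

namespace Groth.Agent.Lib.R2H3.SchemDense

theorem injective_map_iff_of_iso {X' : Scheme.{u}} {G H : X'.Modules} (E : G ≅ H)
    {V₁ V₂ : X'.Opens} (i : V₂ ⟶ V₁) :
    Function.Injective (G.presheaf.map i.op) ↔ Function.Injective (H.presheaf.map i.op) := by
  have nat : ∀ {G H : X'.Modules} (m : G ⟶ H) (s : Γ(G, V₁)),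
      m.app V₂ (G.presheaf.map i.op s) = H.presheaf.map i.op (m.app V₁ s) := fun m s =>
    congrArg (fun φ => φ s) (m.mapPresheaf.naturality i.op)
  have inv1 : ∀ {G H : X'.Modules} (E : G ≅ H) (V : X'.Opens) (s : Γ(G, V)),
      E.inv.app V (E.hom.app V s) = s := by
    intro G H E V s
    rw [← ConcreteCategory.comp_apply, ← Scheme.Modules.Hom.comp_app, E.hom_inv_id]
    rfl
  suffices hs : ∀ {G H : X'.Modules} (E : G ≅ H), Function.Injective (H.presheaf.map i.op) →
      Function.Injective (G.presheaf.map i.op) from ⟨hs E.symm, hs E⟩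
  intro G H E hH s₁ s₂ h
  have h1 : E.hom.app V₁ s₁ = E.hom.app V₁ s₂ := hH (by rw [← nat, ← nat, h])
  rw [← inv1 E V₁ s₁, ← inv1 E V₁ s₂, h1]

theorem injective_structureModule_iff {X' : Scheme.{u}} {V₁ V₂ : X'.Opens} (i : V₂ ⟶ V₁) :
    Function.Injective ((Coh.structureModule X').presheaf.map i.op) ↔
      Function.Injective (X'.presheaf.map i.op) :=
  ⟨fun h a b hab => h hab, fun h a b hab => h hab⟩

theorem injective_pullback_structureModule_iff {X' X : Scheme.{u}} (p : X' ⟶ X)
    {V₁ V₂ : X'.Opens} (i : V₂ ⟶ V₁) :
    Function.Injective (((Scheme.Modules.pullback p).obj (Coh.structureModule X)).presheaf.map i.op) ↔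
      Function.Injective (X'.presheaf.map i.op) :=
  (injective_map_iff_of_iso (Groth.Agent.Lib.Helper23.PB.pullbackUnitIso p) i).trans
    (injective_structureModule_iff i)

theorem isFlatOver_structureModule {X S : Scheme.{u}} (f : X ⟶ S) [Flat f] :
    FlatMod.IsFlatOver f (Coh.structureModule X) := by
  haveI hq : (Coh.structureModule X).IsQuasicoherent :=
    Groth.Agent.Lib.Helper23.Serre.isQuasicoherent_structureModule' X
  rw [Groth.Agent.Lib.Helper2.FlatOver.isFlatOver_iff_forall_affine f (Coh.structureModule X)]
  intro W V hWV hW hV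
  have h1 : (f.appLE V W hWV).hom.Flat :=
    HasRingHomProperty.appLE @Flat f ‹_› ⟨V, hV⟩ ⟨W, hW⟩ hWV
  exact h1

end Groth.Agent.Lib.R2H3.SchemDense
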