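import Mathlib
import Groth.Agent.Lib.H6xRelModC
import Groth.Agent.Lib.R2H3PCFlat
import Groth.Agent.Lib.Helper2FlatOver2
import Groth.Agent.Lib.H6xRelFlatC
import Groth.Agent.Lib.Helper1TorDim
import Groth.Agent.Lib.R2H3SchemDense
set_option backward.isDefEq.respectTransparency.types false

/-!
# Flat modules finitely presented relative to the base are pseudo-coherent relative to the base
(helper6; S6213, S6214, S6215, S6216)
-/

set_option autoImplicit false
set_option linter.style.haveILetI false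
universe u
open CategoryTheory CategoryTheory.Limits AlgebraicGeometry HomologicalComplex TopologicalSpace
  Opposite MonoidalCategory
attribute [local instance] HasDerivedCategory.standard

namespace Groth.Agent.Lib.H6xChart

open Groth.Agent.Lib.H6xClPush Groth.Agent.Lib.H6xPC3 Groth.Agent.Lib.H6xPCoh
  Groth.Agent.Lib.Helper1.PC Groth.Agent.Lib.Helper2.RelFPAlg Groth.Agent.Lib.Helper2.RelFPGeo
  Groth.Agent.Lib.Helper2.FPAff

variable {X S : Scheme.{u}}

/-- the chart test for a quasi-coherent module is the ring-level test on the chart module -/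
theorem pcCx_single_iff_ring (M : X.Modules) [M.IsQuasicoherent] (U : X.Opens)
    (hU : IsAffineOpen U) {P : Type u} [CommRing P] (φ : P →+* Γ(X, U))
    (hφ : Function.Surjective φ) (m : ℤ) :
    PCCx m (sgl M) U φ ↔ DRing.IsPseudoCoherent P m
      ((DerivedCategory.singleFunctor (ModuleCat.{u} P) 0).obj (chartMod M U φ)) := by
  haveI := isQuasicoherent_chartN M U hU φ hφ
  rw [pcCx_single_iff]
  haveI := (Groth.Agent.S9498.aux (CommRingCat.of P)).1
  haveI : PreservesFiniteColimits (tilde.functor (CommRingCat.of P)) := by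
    haveI : PreservesColimitsOfSize.{0, 0} (tilde.functor (CommRingCat.of P)) :=
      (tilde.adjunction (R := (CommRingCat.of P))).leftAdjoint_preservesColimits
    exact PreservesColimitsOfSize.preservesFiniteColimits _
  rw [← Groth.Agent.Lib.H6xTildePC.pc_tildeD_iff (CommRingCat.of P) _ m]
  have e := ((tilde.functor (CommRingCat.of P)).mapDerivedCategorySingleFunctor 0).app
      (chartMod M U φ) ≪≫
    (DerivedCategory.singleFunctor _ 0).mapIso (chartNIso M U φ)
  exact ⟨isPseudoCoherentD_of_iso e.symm, isPseudoCoherentD_of_iso e⟩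

/-- **core**: a module flat over the base and `(-1)`-pseudo-coherent relative to the base is
pseudo-coherent relative to the base -/
theorem rel_all_of_flat_of_negOne (f : X ⟶ S) [LocallyOfFiniteType f] (M : X.Modules)
    (hfl : FlatMod.IsFlatOver f M)
    (hfp : DerSch.IsPseudoCoherentRel f (-1) (DCoh.toD X (sgl M))) (m : ℤ) :
    DerSch.IsPseudoCoherentRel f m (DCoh.toD X (sgl M)) := by
  haveI hq : M.IsQuasicoherent := isQuasicoherent_of_rel_negOne f M hfp
  rw [rel_toD_iff_forall_pcCx] at hfp ⊢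
  intro U V hUV n φ hφ
  haveI := isQuasicoherent_chartN M (U : X.Opens) U.2 φ hφ.1
  have hFP : Module.FinitePresentation (MvPolynomial (Fin n) Γ(S, (V : S.Opens)))
      (chartMod M (U : X.Opens) φ) :=
    (isFP_chartN_iff M (U : X.Opens) φ).1
      ((pcCx_single_negOne_iff M (U : X.Opens) φ).1 (hfp U V hUV n φ hφ))
  rw [pcCx_single_iff_ring M (U : X.Opens) U.2 φ hφ.1 m]
  letI : Module Γ(S, (V : S.Opens)) (chartMod M (U : X.Opens) φ) :=
    Module.compHom _ (algebraMap Γ(S, (V : S.Opens)) (MvPolynomial (Fin n) Γ(S, (V : S.Opens))))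
  haveI : IsScalarTower Γ(S, (V : S.Opens)) (MvPolynomial (Fin n) Γ(S, (V : S.Opens)))
      (chartMod M (U : X.Opens) φ) := IsScalarTower.of_algebraMap_smul fun _ _ => rfl
  haveI hflat : Module.Flat Γ(S, (V : S.Opens)) (chartMod M (U : X.Opens) φ) := by
    have h0 := Groth.Agent.Lib.Helper2.FlatOver.flat_sections_of_isFlatOverAt f M U.2 V.2 hUV
      (fun x _ => hfl x)
    obtain ⟨e, he⟩ := exists_semilinear_chart M (U : X.Opens) φ
    letI : Module Γ(S, (V : S.Opens)) Γ(M, (U : X.Opens)) :=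
      Module.compHom Γ(M, (U : X.Opens)) (f.appLE (V : S.Opens) (U : X.Opens) hUV).hom
    haveI : Module.Flat Γ(S, (V : S.Opens)) Γ(M, (U : X.Opens)) := h0
    refine Groth.Agent.Lib.Helper2.FlatOver.flat_of_semilinear_equiv
      (RingEquiv.refl Γ(S, (V : S.Opens))) e (fun a x => ?_)
    have h1 : (f.appLE (V : S.Opens) (U : X.Opens) hUV).hom a = φ (MvPolynomial.C a) :=
      (congrArg (fun χ : _ →+* _ => χ a) hφ.2).symm
    change e ((f.appLE (V : S.Opens) (U : X.Opens) hUV).hom a • x) = _
    rw [h1, he]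
    rfl
  obtain ⟨j, hj⟩ : ∃ j : ℕ, -1 - (j : ℤ) ≤ m := ⟨(-m).toNat, by omega⟩
  exact isPC_mono hj (Groth.Agent.Lib.R2H3.PCFlat.isPC_neg Γ(S, (V : S.Opens))
    (MvPolynomial (Fin n) Γ(S, (V : S.Opens))) j (chartMod M (U : X.Opens) φ))

/-- **S6215** -/
theorem main_S6215 (f : X ⟶ S) [LocallyOfFiniteType f] (E : CochainComplex X.Modules ℤ) (b : ℤ)
    (hb : ∀ i : ℤ, b < i → IsZero (E.X i))
    (hfl : ∀ i : ℤ, FlatMod.IsFlatOver f (E.X i))
    (hfp : ∀ i : ℤ, DerSch.IsPseudoCoherentRel f (-1) (DCoh.toD X (sgl (E.X i)))) :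
    DerSch.IsPseudoCoherentRelAll f (DCoh.toD X E) := by
  intro m
  refine main_S7215 f m E b hb (fun i => ?_)
  rw [rel_inD_iff]
  exact rel_all_of_flat_of_negOne f (E.X i) (hfl i) (hfp i) (m - i)


section tor

open Groth.Agent.Lib.H6xRelFlat Groth.Agent.Lib.H6xRelTorAmpG Groth.Agent.Lib.Helper1.KBC
  Groth.Agent.Lib.H6xRelTorAmp Groth.Agent.Lib.Helper1.Tor

/-- a complex with terms flat over the base, vanishing outside `[a, b]`, has tor amplitude in
`[a, b]` relative to the base -/
theorem hasTorAmplitude_of_flat_terms (f : X ⟶ S) (E : CochainComplex X.Modules ℤ) (a b : ℤ)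
    (hab : DCoh.VanishesOutside E a b) (hfl : ∀ i : ℤ, FlatMod.IsFlatOver f (E.X i)) :
    DerSch.HasTorAmplitude f a b E := by
  intro x
  refine ⟨SRC f x E, fun i hi => (SR f x).map_isZero (hab i hi), termwiseFlat_SRC f E hfl x,
    ⟨DerivedCategory.Q.mapIso (stalkCxOverIso f x E).symm⟩⟩

/-- **S6216** -/
theorem main_S6216 (f : X ⟶ S) [LocallyOfFiniteType f] (E : CochainComplex X.Modules ℤ) (a b : ℤ)
    (hab : DCoh.VanishesOutside E a b)
    (hfl : ∀ i : ℤ, FlatMod.IsFlatOver f (E.X i))
    (hfp : ∀ i : ℤ, DerSch.IsPseudoCoherentRel f (-1) (DCoh.toD X (sgl (E.X i)))) :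
    DerSch.HasPerfAmplitudeRel f a b E :=
  ⟨main_S6215 f E b (fun i hi => hab i (Or.inr hi)) hfl hfp,
    hasTorAmplitude_of_flat_terms f E a b hab hfl⟩

/-- the terms of the single complex are flat over the base when the module is -/
lemma isFlatOver_sgl_X (f : X ⟶ S) (M : X.Modules) (hfl : FlatMod.IsFlatOver f M) (i : ℤ) :
    FlatMod.IsFlatOver f ((sgl M).X i) := by
  intro x
  by_cases hi : i = 0
  · subst hi
    exact isFlatOverAt_of_iso f
      (HomologicalComplex.singleObjXSelf (ComplexShape.up ℤ) 0 M).symm x (hfl x)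
  · exact isFlatOverAt_of_isZero f _
      (HomologicalComplex.isZero_single_obj_X (ComplexShape.up ℤ) 0 M i hi) x

/-- the complex of stalks over the base of a module placed in degree `0` -/
noncomputable def srcSglIso (f : X ⟶ S) (M : X.Modules) (x : X) :
    SRC f x (sgl M) ≅ (HomologicalComplex.single _ (ComplexShape.up ℤ) 0).obj ((SR f x).obj M) :=
  (resC (f.stalkMap x).hom).mapIso
      ((HomologicalComplex.singleMapHomologicalComplex (Groth.Agent.Lib.Helper1.Sky.stalkFun x)
        (ComplexShape.up ℤ) 0).app M) ≪≫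
    (HomologicalComplex.singleMapHomologicalComplex (res (f.stalkMap x).hom)
      (ComplexShape.up ℤ) 0).app _

/-- tor amplitude in `[0, 0]` of a module in degree `0` is flatness over the base -/
theorem isFlatOver_of_hasTorAmplitude_sgl (f : X ⟶ S) (M : X.Modules)
    (h : DerSch.HasTorAmplitude f 0 0 (sgl M)) : FlatMod.IsFlatOver f M := by
  intro x
  rw [isFlatOverAt_iff]
  have e : DRing.toD ((DerSch.stalkCxOver f x).obj (sgl M)) ≅
      Dual.inD (Groth.Agent.Lib.Helper1.Sky.Ox (f.base x)) ((SR f x).obj M) :=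
    DerivedCategory.Q.mapIso (stalkCxOverIso f x (sgl M) ≪≫ srcSglIso f M x) ≪≫
      ((DerivedCategory.singleFunctorIsoCompQ _ 0).app _).symm
  have h1 := hasTorAmp_of_iso e (h x)
  rw [← Groth.Agent.Lib.Helper1.TorDim.hasTorDimLE_zero_iff_flat,
    Groth.Agent.Lib.Helper1.TorDim.hasTorDimLE_iff_hasTorAmp]
  simpa using h1

/-- **S6213** -/
theorem main_S6213 (f : X ⟶ S) [LocallyOfFiniteType f] (M : X.Modules) :
    DerSch.HasPerfAmplitudeRel f 0 0 (sgl M) ↔
      (FlatMod.IsFlatOver f M ∧ DerSch.IsPseudoCoherentRel f (-1) (DCoh.toD X (sgl M))) := by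
  constructor
  · rintro ⟨hpc, htor⟩
    exact ⟨isFlatOver_of_hasTorAmplitude_sgl f M htor, hpc (-1)⟩
  · rintro ⟨hfl, hfp⟩
    refine ⟨fun m => rel_all_of_flat_of_negOne f M hfl hfp m, ?_⟩
    refine hasTorAmplitude_of_flat_terms f (sgl M) 0 0 (fun i hi => ?_) (isFlatOver_sgl_X f M hfl)
    exact HomologicalComplex.isZero_single_obj_X (ComplexShape.up ℤ) 0 M i (by omega)

/-- flatness of the structure sheaf over the base is flatness of the morphism -/
theorem isFlatOver_structureModule_iff (f : X ⟶ S) :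
    FlatMod.IsFlatOver f (Coh.structureModule X) ↔ Flat f := by
  constructor
  · intro h
    haveI hq : (Coh.structureModule X).IsQuasicoherent :=
      Groth.Agent.Lib.Helper23.Serre.isQuasicoherent_structureModule' X
    rw [Groth.Agent.Lib.Helper2.FlatOver.isFlatOver_iff_forall_affine f
      (Coh.structureModule X)] at h
    rw [HasRingHomProperty.iff_appLE (P := @Flat)]
    intro V W e
    exact h W.1 V.1 e W.2 V.2
  · intro h
    exact Groth.Agent.Lib.R2H3.SchemDense.isFlatOver_structureModule f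

/-- **S6214** -/
theorem main_S6214 (f : X ⟶ S) [LocallyOfFiniteType f] :
    DerSch.HasPerfDimLE f 0 ↔ (Flat f ∧ LocallyOfFinitePresentation f) := by
  have h0 : DerSch.HasPerfDimLE f 0 ↔
      DerSch.HasPerfAmplitudeRel f 0 0 (sgl (Coh.structureModule X)) := by
    unfold DerSch.HasPerfDimLE
    simp
  rw [h0, main_S6213, isFlatOver_structureModule_iff, ← main_S6225 f]

end tor

end Groth.Agent.Lib.H6xChart
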