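import Mathlib
import Groth.Agent.Lib.R2H3PerfMor
import Groth.Agent.Lib.Helper1RelPC2
import Groth.Agent.Lib.R2H3ProdChart
import Groth.Agent.Lib.R2H3TorLoc

/-!
# Flat base change of pseudo-coherent and perfect ring maps and morphisms (helper3)
-/

set_option autoImplicit false
set_option linter.style.haveILetI false
set_option linter.unusedVariables false
set_option linter.unusedSectionVars false
universe u

open CategoryTheory CategoryTheory.Limits AlgebraicGeometry
attribute [local instance] HasDerivedCategory.standard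

namespace Groth.Agent.Lib.R2H3.PCBC

open Groth.Agent.Lib.R2H3.PCHom Groth.Agent.Lib.R2H3.PerfHom Groth.Agent.Lib.R2H3.PerfMor
  Groth.Agent.Lib.R2H3.PCMor
open Groth.Agent.Lib.Helper1.PC Groth.Agent.Lib.Helper1.PCTower Groth.Agent.Lib.Helper1.Restrict
  Groth.Agent.Lib.Helper1.RelPC Groth.Agent.Lib.Helper1.Extend Groth.Agent.S7017 DerivedCategory
open Groth.Agent.Lib.R2H3.TorLoc Groth.Agent.Lib.Helper1.TorDim Groth.Agent.Lib.Helper1.Tor

section Module

variable {A B : Type u} [CommRing A] [CommRing B] [Algebra A B] [Module.Flat A B]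

/-- pseudo-coherence of a module is preserved by flat base change -/
theorem isPseudoCoherentModule'_of_isBaseChange {M N : Type u} [AddCommGroup M] [Module A M]
    [AddCommGroup N] [Module A N] [Module B N] [IsScalarTower A B N] (f : M →ₗ[A] N)
    (hf : IsBaseChange B f) (h : DRing.IsPseudoCoherentModule' A M) :
    DRing.IsPseudoCoherentModule' B N := by
  have h2 := isPC'_extD (A := A) (B := B) (Dual.inD A M) h
  have h3 := pc'_of_iso (extDInDIso (A := A) (B := B) M) h2
  exact pc'_of_iso ((DerivedCategory.singleFunctor (ModuleCat.{u} B) 0).mapIso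
    hf.equiv.toModuleIso) h3

/-- tor dimension of a module is preserved by flat base change -/
theorem hasTorDimLE_of_isBaseChange {M N : Type u} [AddCommGroup M] [Module A M]
    [AddCommGroup N] [Module A N] [Module B N] [IsScalarTower A B N] (f : M →ₗ[A] N)
    (hf : IsBaseChange B f) (d : ℕ) (h : DRing.HasTorDimLE A d M) :
    DRing.HasTorDimLE B d N := by
  have h1 := (hasTorDimLE_iff_hasTorAmp M d).1 h
  have h2 := hasTorAmp_extD (A := A) (B := B) (Dual.inD A M) _ _ h1
  have h3 := hasTorAmp_of_iso (extDInDIso (A := A) (B := B) M) h2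
  exact (hasTorDimLE_iff_hasTorAmp N d).2 (hasTorAmp_of_iso
    ((DerivedCategory.singleFunctor (ModuleCat.{u} B) 0).mapIso hf.equiv.toModuleIso) h3)

end Module

section Ring

variable (A A' B B' : Type u) [CommRing A] [CommRing A'] [CommRing B] [CommRing B']
  [Algebra A A'] [Algebra A B] [Algebra A' B'] [Algebra B B'] [Algebra A B']
  [IsScalarTower A A' B'] [IsScalarTower A B B']

attribute [local instance] MvPolynomial.algebraMvPolynomial in
/-- flat base change of a pseudo-coherent ring map -/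
theorem isPseudoCoherentHom_baseChange [Algebra.IsPushout A B A' B'] [Module.Flat A A']
    (h : MoreMor.IsPseudoCoherentHom A B) : MoreMor.IsPseudoCoherentHom A' B' := by
  obtain ⟨n, φ, hφ, hpc⟩ := h
  letI algPB : Algebra (MvPolynomial (Fin n) A) B := φ.toRingHom.toAlgebra
  let φ' : MvPolynomial (Fin n) A' →ₐ[A'] B' :=
    MvPolynomial.aeval (fun i => algebraMap B B' (φ (MvPolynomial.X i)))
  letI algP'B' : Algebra (MvPolynomial (Fin n) A') B' := φ'.toRingHom.toAlgebra
  letI algPB' : Algebra (MvPolynomial (Fin n) A) B' :=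
    ((algebraMap B B').comp φ.toRingHom).toAlgebra
  haveI t1 : IsScalarTower A (MvPolynomial (Fin n) A) B :=
    IsScalarTower.of_algebraMap_eq (fun r => (φ.commutes r).symm)
  haveI t2 : IsScalarTower (MvPolynomial (Fin n) A) B B' :=
    IsScalarTower.of_algebraMap_eq (fun r => rfl)
  haveI t3 : IsScalarTower A' (MvPolynomial (Fin n) A') B' :=
    IsScalarTower.of_algebraMap_eq (fun r => (φ'.commutes r).symm)
  have hcomp : (φ'.toRingHom).comp (MvPolynomial.map (algebraMap A A')) =
      (algebraMap B B').comp φ.toRingHom := by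
    apply MvPolynomial.ringHom_ext
    · intro r
      simp only [RingHom.comp_apply, MvPolynomial.map_C, AlgHom.toRingHom_eq_coe,
        RingHom.coe_coe]
      rw [show (MvPolynomial.C (algebraMap A A' r) : MvPolynomial (Fin n) A') =
        algebraMap A' _ (algebraMap A A' r) from rfl, φ'.commutes,
        show (MvPolynomial.C r : MvPolynomial (Fin n) A) = algebraMap A _ r from rfl, φ.commutes,
        ← IsScalarTower.algebraMap_apply, ← IsScalarTower.algebraMap_apply]
    · intro i
      simp only [RingHom.comp_apply, MvPolynomial.map_X, AlgHom.toRingHom_eq_coe,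
        RingHom.coe_coe]
      exact MvPolynomial.aeval_X _ i
  haveI t4 : IsScalarTower (MvPolynomial (Fin n) A) (MvPolynomial (Fin n) A') B' :=
    IsScalarTower.of_algebraMap_eq (fun p => (RingHom.congr_fun hcomp p).symm)
  haveI t5 : IsScalarTower A (MvPolynomial (Fin n) A) B' :=
    IsScalarTower.of_algebraMap_eq (fun r => by
      rw [IsScalarTower.algebraMap_apply A B B', IsScalarTower.algebraMap_apply A
        (MvPolynomial (Fin n) A) B]
      rfl)
  haveI t6 : IsScalarTower A (MvPolynomial (Fin n) A') B' :=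
    IsScalarTower.of_algebraMap_eq (fun r => by
      rw [IsScalarTower.algebraMap_apply A A' B', IsScalarTower.algebraMap_apply A'
        (MvPolynomial (Fin n) A') B', ← IsScalarTower.algebraMap_apply A A'
        (MvPolynomial (Fin n) A')])
  have hpo : Algebra.IsPushout (MvPolynomial (Fin n) A) B (MvPolynomial (Fin n) A') B' :=
    (Algebra.IsPushout.comp_iff A (MvPolynomial (Fin n) A) A' (MvPolynomial (Fin n) A')
      (T := B) (T' := B')).1 inferInstance
  have hbc : IsBaseChange (MvPolynomial (Fin n) A')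
      (IsScalarTower.toAlgHom (MvPolynomial (Fin n) A) B B').toLinearMap := hpo.symm.out
  haveI : Module.Flat (MvPolynomial (Fin n) A) (MvPolynomial (Fin n) A') :=
    Module.Flat.isBaseChange A (MvPolynomial (Fin n) A) A' (MvPolynomial (Fin n) A')
      (Algebra.IsPushout.out (R := A) (S := MvPolynomial (Fin n) A) (R' := A')
        (S' := MvPolynomial (Fin n) A'))
  refine ⟨n, φ', ?_, isPseudoCoherentModule'_of_isBaseChange _ hbc hpc⟩
  -- surjectivity
  have hbc' : IsBaseChange A' (IsScalarTower.toAlgHom A B B').toLinearMap :=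
    (Algebra.IsPushout.symm inferInstance : Algebra.IsPushout A A' B B').out
  intro y
  refine hbc'.inductionOn y (fun y => ∃ x, φ' x = y) ⟨0, map_zero _⟩ ?_ ?_ ?_
  · intro b
    obtain ⟨p, rfl⟩ := hφ b
    exact ⟨MvPolynomial.map (algebraMap A A') p, RingHom.congr_fun hcomp p⟩
  · rintro a y ⟨x, rfl⟩
    exact ⟨a • x, map_smul _ _ _⟩
  · rintro y z ⟨x, rfl⟩ ⟨x', rfl⟩
    exact ⟨x + x', map_add _ _ _⟩

/-- flat base change of a ring map of finite tor dimension -/
theorem hasFiniteTorDim_baseChange [Algebra.IsPushout A B A' B'] [Module.Flat A A']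
    (h : DRing.HasFiniteTorDim A B) : DRing.HasFiniteTorDim A' B' := by
  obtain ⟨d, hd⟩ := h
  have hbc' : IsBaseChange A' (IsScalarTower.toAlgHom A B B').toLinearMap :=
    (Algebra.IsPushout.symm inferInstance : Algebra.IsPushout A A' B B').out
  exact ⟨d, hasTorDimLE_of_isBaseChange _ hbc' d hd⟩

/-- flat base change of a perfect ring map -/
theorem isPerfectHom_baseChange [Algebra.IsPushout A B A' B'] [Module.Flat A A']
    (h : MoreMor.IsPerfectHom A B) : MoreMor.IsPerfectHom A' B' :=
  ⟨isPseudoCoherentHom_baseChange A A' B B' h.1, hasFiniteTorDim_baseChange A A' B B' h.2⟩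

end Ring

section Cat

variable {R S R' S' : CommRingCat.{u}} (f : R ⟶ S) (g : R ⟶ R') (g' : S ⟶ S') (f' : R' ⟶ S')

include g' in
theorem exists_algebra_isPushout (H : IsPushout f g g' f') (hg : g.hom.Flat) :
    letI := f.hom.toAlgebra
    letI := g.hom.toAlgebra
    letI := f'.hom.toAlgebra
    letI := g'.hom.toAlgebra
    letI : Algebra R S' := (f'.hom.comp g.hom).toAlgebra
    ∃ (_ : IsScalarTower R R' S') (_ : IsScalarTower R S S'),
      Algebra.IsPushout R S R' S' ∧ Module.Flat R R' := by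
  letI := f.hom.toAlgebra
  letI := g.hom.toAlgebra
  letI := f'.hom.toAlgebra
  letI := g'.hom.toAlgebra
  letI : Algebra R S' := (f'.hom.comp g.hom).toAlgebra
  haveI t1 : IsScalarTower R R' S' := IsScalarTower.of_algebraMap_eq (fun r => rfl)
  haveI t2 : IsScalarTower R S S' := IsScalarTower.of_algebraMap_eq (fun r => by
    have := congrArg (fun φ => φ.hom r) H.w
    exact this.symm)
  refine ⟨t1, t2, ?_, hg⟩
  have H' : IsPushout (CommRingCat.ofHom (algebraMap R R')) (CommRingCat.ofHom (algebraMap R S))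
      (CommRingCat.ofHom (algebraMap R' S')) (CommRingCat.ofHom (algebraMap S S')) := H.flip
  exact (CommRingCat.isPushout_iff_isPushout.1 H').symm

theorem PC.baseChange (H : IsPushout f g g' f') (hg : g.hom.Flat) (hf : PC f.hom) :
    PC f'.hom := by
  letI := f.hom.toAlgebra
  letI := g.hom.toAlgebra
  letI := f'.hom.toAlgebra
  letI := g'.hom.toAlgebra
  letI : Algebra R S' := (f'.hom.comp g.hom).toAlgebra
  obtain ⟨t1, t2, hpo, hfl⟩ := exists_algebra_isPushout f g g' f' H hg
  exact isPseudoCoherentHom_baseChange R R' S S' hf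

theorem Perf.baseChange (H : IsPushout f g g' f') (hg : g.hom.Flat) (hf : Perf f.hom) :
    Perf f'.hom := by
  letI := f.hom.toAlgebra
  letI := g.hom.toAlgebra
  letI := f'.hom.toAlgebra
  letI := g'.hom.toAlgebra
  letI : Algebra R S' := (f'.hom.comp g.hom).toAlgebra
  obtain ⟨t1, t2, hpo, hfl⟩ := exists_algebra_isPushout f g g' f' H hg
  exact isPerfectHom_baseChange R R' S S' hf

end Cat

section Sch

variable {X S X' S' : Scheme.{u}} (f : X ⟶ S) (f' : X' ⟶ S') (g' : X' ⟶ X) (g : S' ⟶ S)

/-- a chart of the base change adapted to the square -/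
theorem exists_chart (hc : IsPullback g' f' f g) (x' : X') :
    ∃ (W : S.Opens) (U : X.Opens) (V' : S'.Opens) (hUW : U ≤ f ⁻¹ᵁ W) (hVW : V' ≤ g ⁻¹ᵁ W),
      IsAffineOpen W ∧ IsAffineOpen U ∧ IsAffineOpen V' ∧
      IsAffineOpen (g' ⁻¹ᵁ U ⊓ f' ⁻¹ᵁ V') ∧ x' ∈ g' ⁻¹ᵁ U ⊓ f' ⁻¹ᵁ V' ∧
      IsPushout (f.appLE W U hUW) (g.appLE W V' hVW)
        (g'.appLE U (g' ⁻¹ᵁ U ⊓ f' ⁻¹ᵁ V') inf_le_left)
        (f'.appLE V' (g' ⁻¹ᵁ U ⊓ f' ⁻¹ᵁ V') inf_le_right) := by
  obtain ⟨W, hW, hxW, -⟩ := TopologicalSpace.Opens.isBasis_iff_nbhd.mp S.isBasis_affineOpens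
    (TopologicalSpace.Opens.mem_top (g (f' x')))
  obtain ⟨V', hV', hxV', eV'⟩ := TopologicalSpace.Opens.isBasis_iff_nbhd.mp
    S'.isBasis_affineOpens (show f' x' ∈ g ⁻¹ᵁ W from hxW)
  have hw : f (g' x') = g (f' x') := by
    have := congrArg (fun φ => φ x') hc.w
    simpa using this
  obtain ⟨U, hU, hxU, eU⟩ := TopologicalSpace.Opens.isBasis_iff_nbhd.mp X.isBasis_affineOpens
    (show g' x' ∈ f ⁻¹ᵁ W from by
      show f (g' x') ∈ W
      rw [hw]
      exact hxW)
  exact ⟨W, U, V', eU, eV', hW, hU, hV',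
    Groth.Agent.Lib.R2H3.ProdChart.isAffineOpen_inf hc hW hU hV' eU eV', ⟨hxU, hxV'⟩,
    Groth.Agent.Lib.R2H3.ProdChart.isPushout_appLE hc hW hU hV' eU eV'⟩

/-- flat base change of a pseudo-coherent morphism -/
theorem isPseudoCoherentMor_baseChange [Flat g] (hc : IsPullback g' f' f g)
    (hf : MoreMor.IsPseudoCoherentMor f) : MoreMor.IsPseudoCoherentMor f' := by
  rw [isPseudoCoherentMor_iff_exists]
  intro x'
  obtain ⟨W, U, V', eU, eV', hW, hU, hV', hU', hx', H⟩ := exists_chart f f' g' g hc x'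
  refine ⟨g' ⁻¹ᵁ U ⊓ f' ⁻¹ᵁ V', V', inf_le_right, hU', hV', hx', ?_⟩
  exact PC.baseChange _ _ _ _ H (g.flat_appLE hW hV' eV') (hf U W hU hW eU)

/-- flat base change of a perfect morphism -/
theorem isPerfectMor_baseChange [Flat g] (hc : IsPullback g' f' f g)
    (hf : MoreMor.IsPerfectMor f) : MoreMor.IsPerfectMor f' := by
  rw [isPerfectMor_iff_exists]
  intro x'
  obtain ⟨W, U, V', eU, eV', hW, hU, hV', hU', hx', H⟩ := exists_chart f f' g' g hc x'
  refine ⟨g' ⁻¹ᵁ U ⊓ f' ⁻¹ᵁ V', V', inf_le_right, hU', hV', hx', ?_⟩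
  exact Perf.baseChange _ _ _ _ H (g.flat_appLE hW hV' eV') (hf U W hU hW eU)

end Sch

end Groth.Agent.Lib.R2H3.PCBC
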