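import Mathlib
import Groth.Agent.Lib.R2H3PCBC
import Groth.Agent.Lib.H6xRelModD
set_option backward.isDefEq.respectTransparency.types false

/-!
# Flat base change of `n`-pseudo-coherent morphisms (helper6; S6226)
-/

set_option autoImplicit false
set_option linter.style.haveILetI false
set_option linter.unusedVariables false
set_option linter.unusedSectionVars false
universe u
open CategoryTheory CategoryTheory.Limits AlgebraicGeometry HomologicalComplex TopologicalSpace
  Opposite MonoidalCategory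
attribute [local instance] HasDerivedCategory.standard

namespace Groth.Agent.Lib.H6xNpcBC

open Groth.Agent.Lib.Helper1.PC Groth.Agent.Lib.Helper1.Extend

section Ring

/-- ring-level `n`-pseudo-coherence of an algebra: some presentation by a polynomial ring makes
`B` an `n`-pseudo-coherent module -/
def NPCHom (n : ℤ) (A B : Type u) [CommRing A] [CommRing B] [Algebra A B] : Prop :=
  ∃ (k : ℕ) (φ : MvPolynomial (Fin k) A →ₐ[A] B), Function.Surjective φ ∧
    letI := φ.toRingHom.toAlgebra
    DRing.IsPseudoCoherentModule (MvPolynomial (Fin k) A) n B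

variable {A B : Type u} [CommRing A] [CommRing B] [Algebra A B] [Module.Flat A B]

/-- `n`-pseudo-coherence of a module is preserved by flat base change -/
theorem isPseudoCoherentModule_of_isBaseChange {M N : Type u} [AddCommGroup M] [Module A M]
    [AddCommGroup N] [Module A N] [Module B N] [IsScalarTower A B N] (f : M →ₗ[A] N)
    (hf : IsBaseChange B f) (n : ℤ) (h : DRing.IsPseudoCoherentModule A n M) :
    DRing.IsPseudoCoherentModule B n N := by
  have h2 := isPC_extD (A := A) (B := B) (Dual.inD A M) n h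
  have h3 := isPC_of_iso (extDInDIso (A := A) (B := B) M) h2
  exact isPC_of_iso ((DerivedCategory.singleFunctor (ModuleCat.{u} B) 0).mapIso
    hf.equiv.toModuleIso) h3

end Ring

section Ring2

variable (A A' B B' : Type u) [CommRing A] [CommRing A'] [CommRing B] [CommRing B']
  [Algebra A A'] [Algebra A B] [Algebra A' B'] [Algebra B B'] [Algebra A B']
  [IsScalarTower A A' B'] [IsScalarTower A B B']

attribute [local instance] MvPolynomial.algebraMvPolynomial in
/-- flat base change of an `n`-pseudo-coherent ring map -/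
theorem npcHom_baseChange [Algebra.IsPushout A B A' B'] [Module.Flat A A'] (m : ℤ)
    (h : NPCHom m A B) : NPCHom m A' B' := by
  obtain ⟨n, φ, hφ, hpc⟩ := h
  letI algPB : Algebra (MvPolynomial (Fin n) A) B := φ.toRingHom.toAlgebra
  let φ' : MvPolynomial (Fin n) A' →ₐ[A'] B' :=
    MvPolynomial.aeval (fun i => algebraMap B B' (φ (MvPolynomial.X i)))
  letI algP'B' : Algebra (MvPolynomial (Fin n) A') B' := φ'.toRingHom.toAlgebra
  letI algPB' : Algebra (MvPolynomial (Fin n) A) B' :=
    ((algebraMap B B').comp φ.toRingHom).toAlgebra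
  haveI t1 : IsScalarTower A (MvPolynomial (Fin n) A) B :=
    IsScalarTower.of_algebraMap_eq (fun r => (φ.commutes r).symm)
  haveI t2 : IsScalarTower (MvPolynomial (Fin n) A) B B' :=
    IsScalarTower.of_algebraMap_eq (fun r => rfl)
  haveI t3 : IsScalarTower A' (MvPolynomial (Fin n) A') B' :=
    IsScalarTower.of_algebraMap_eq (fun r => (φ'.commutes r).symm)
  have hcomp : (φ'.toRingHom).comp (MvPolynomial.map (algebraMap A A')) =
      (algebraMap B B').comp φ.toRingHom := by
    apply MvPolynomial.ringHom_ext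
    · intro r
      simp only [RingHom.comp_apply, MvPolynomial.map_C, AlgHom.toRingHom_eq_coe,
        RingHom.coe_coe]
      rw [show (MvPolynomial.C (algebraMap A A' r) : MvPolynomial (Fin n) A') =
        algebraMap A' _ (algebraMap A A' r) from rfl, φ'.commutes,
        show (MvPolynomial.C r : MvPolynomial (Fin n) A) = algebraMap A _ r from rfl, φ.commutes,
        ← IsScalarTower.algebraMap_apply, ← IsScalarTower.algebraMap_apply]
    · intro i
      simp only [RingHom.comp_apply, MvPolynomial.map_X, AlgHom.toRingHom_eq_coe,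
        RingHom.coe_coe]
      exact MvPolynomial.aeval_X _ i
  haveI t4 : IsScalarTower (MvPolynomial (Fin n) A) (MvPolynomial (Fin n) A') B' :=
    IsScalarTower.of_algebraMap_eq (fun p => (RingHom.congr_fun hcomp p).symm)
  haveI t5 : IsScalarTower A (MvPolynomial (Fin n) A) B' :=
    IsScalarTower.of_algebraMap_eq (fun r => by
      rw [IsScalarTower.algebraMap_apply A B B', IsScalarTower.algebraMap_apply A
        (MvPolynomial (Fin n) A) B]
      rfl)
  haveI t6 : IsScalarTower A (MvPolynomial (Fin n) A') B' :=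
    IsScalarTower.of_algebraMap_eq (fun r => by
      rw [IsScalarTower.algebraMap_apply A A' B', IsScalarTower.algebraMap_apply A'
        (MvPolynomial (Fin n) A') B', ← IsScalarTower.algebraMap_apply A A'
        (MvPolynomial (Fin n) A')])
  have hpo : Algebra.IsPushout (MvPolynomial (Fin n) A) B (MvPolynomial (Fin n) A') B' :=
    (Algebra.IsPushout.comp_iff A (MvPolynomial (Fin n) A) A' (MvPolynomial (Fin n) A')
      (T := B) (T' := B')).1 inferInstance
  have hbc : IsBaseChange (MvPolynomial (Fin n) A')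
      (IsScalarTower.toAlgHom (MvPolynomial (Fin n) A) B B').toLinearMap := hpo.symm.out
  haveI : Module.Flat (MvPolynomial (Fin n) A) (MvPolynomial (Fin n) A') :=
    Module.Flat.isBaseChange A (MvPolynomial (Fin n) A) A' (MvPolynomial (Fin n) A')
      (Algebra.IsPushout.out (R := A) (S := MvPolynomial (Fin n) A) (R' := A')
        (S' := MvPolynomial (Fin n) A'))
  refine ⟨n, φ', ?_, isPseudoCoherentModule_of_isBaseChange _ hbc m hpc⟩
  -- surjectivity
  have hbc' : IsBaseChange A' (IsScalarTower.toAlgHom A B B').toLinearMap :=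
    (Algebra.IsPushout.symm inferInstance : Algebra.IsPushout A A' B B').out
  intro y
  refine hbc'.inductionOn y (fun y => ∃ x, φ' x = y) ⟨0, map_zero _⟩ ?_ ?_ ?_
  · intro b
    obtain ⟨p, rfl⟩ := hφ b
    exact ⟨MvPolynomial.map (algebraMap A A') p, RingHom.congr_fun hcomp p⟩
  · rintro a y ⟨x, rfl⟩
    exact ⟨a • x, map_smul _ _ _⟩
  · rintro y z ⟨x, rfl⟩ ⟨x', rfl⟩
    exact ⟨x + x', map_add _ _ _⟩

end Ring2

section Cat

variable {R S R' S' : CommRingCat.{u}} (f : R ⟶ S) (g : R ⟶ R') (g' : S ⟶ S') (f' : R' ⟶ S')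

/-- `n`-pseudo-coherence of a ring map -/
def NPC (n : ℤ) {R S : Type u} [CommRing R] [CommRing S] (f : R →+* S) : Prop :=
  letI := f.toAlgebra
  NPCHom n R S

include g' in
theorem NPC.baseChange (H : IsPushout f g g' f') (hg : g.hom.Flat) (n : ℤ)
    (hf : NPC n f.hom) : NPC n f'.hom := by
  letI := f.hom.toAlgebra
  letI := g.hom.toAlgebra
  letI := f'.hom.toAlgebra
  letI := g'.hom.toAlgebra
  letI : Algebra R S' := (f'.hom.comp g.hom).toAlgebra
  obtain ⟨t1, t2, hpo, hfl⟩ := Groth.Agent.Lib.R2H3.PCBC.exists_algebra_isPushout f g g' f' H hg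
  exact npcHom_baseChange R R' S S' n hf

end Cat

section Sch

open Groth.Agent.Lib.H6xChart

variable {X S : Scheme.{u}}

/-- ring-level form of a pseudo-coherent chart -/
theorem npc_of_chart {A B : Type u} [CommRing A] [CommRing B] (ρ : A →+* B) {k : ℕ}
    (ψ : MvPolynomial (Fin k) A →+* B) (hψ : Function.Surjective ψ)
    (hψC : ψ.comp MvPolynomial.C = ρ) (n : ℤ)
    (h : DRing.IsPseudoCoherent (MvPolynomial (Fin k) A) n
      ((DerivedCategory.singleFunctor (ModuleCat.{u} (MvPolynomial (Fin k) A)) 0).obj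
        ((ModuleCat.restrictScalars ψ).obj (ModuleCat.of B B)))) : NPC n ρ := by
  letI := ρ.toAlgebra
  let φ : MvPolynomial (Fin k) A →ₐ[A] B :=
    { toRingHom := ψ
      commutes' := fun a => RingHom.congr_fun hψC a }
  refine ⟨k, φ, hψ, ?_⟩
  letI := φ.toRingHom.toAlgebra
  exact isPC_of_iso ((DerivedCategory.singleFunctor _ 0).mapIso
    (Groth.Agent.Lib.Helper1.Extend.e₀ (A := MvPolynomial (Fin k) A) (B := B)).toModuleIso) h

/-- a ring-level presentation gives a chart -/
theorem chart_of_npc {A B : Type u} [CommRing A] [CommRing B] (ρ : A →+* B) (n : ℤ)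
    (h : NPC n ρ) : ∃ (k : ℕ) (ψ : MvPolynomial (Fin k) A →+* B), Function.Surjective ψ ∧
      ψ.comp MvPolynomial.C = ρ ∧
      DRing.IsPseudoCoherent (MvPolynomial (Fin k) A) n
        ((DerivedCategory.singleFunctor (ModuleCat.{u} (MvPolynomial (Fin k) A)) 0).obj
          ((ModuleCat.restrictScalars ψ).obj (ModuleCat.of B B))) := by
  letI := ρ.toAlgebra
  obtain ⟨k, φ, hφ, hpc⟩ := h
  refine ⟨k, φ.toRingHom, hφ, RingHom.ext fun a => φ.commutes a, ?_⟩
  letI := φ.toRingHom.toAlgebra
  exact isPC_of_iso ((DerivedCategory.singleFunctor _ 0).mapIso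
    (Groth.Agent.Lib.Helper1.Extend.e₀ (A := MvPolynomial (Fin k) A) (B := B)).toModuleIso.symm)
    hpc

/-- an `n`-pseudo-coherent morphism is ring-level `n`-pseudo-coherent on every affine pair -/
theorem npc_appLE_of_isNPseudoCoherent (f : X ⟶ S) [LocallyOfFiniteType f] (n : ℤ)
    (hf : DerSch.IsNPseudoCoherent f n) (U : X.affineOpens) (W : S.affineOpens)
    (hUW : (U : X.Opens) ≤ f ⁻¹ᵁ (W : S.Opens)) :
    NPC n (f.appLE (W : S.Opens) (U : X.Opens) hUW).hom := by
  obtain ⟨k, ψ, hψs, hψC⟩ := exists_chart_of_finiteType _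
    (LocallyOfFiniteType.finiteType_appLE f W.2 U.2 hUW)
  exact npc_of_chart _ ψ hψs hψC n
    (ring_pc_of_isNPseudoCoherent f n hf U W hUW ψ ⟨hψs, hψC⟩)

/-- local ring-level criterion -/
theorem isNPseudoCoherent_of_local (f : X ⟶ S) [LocallyOfFiniteType f] (n : ℤ)
    (h : ∀ x : X, ∃ (U : X.affineOpens) (W : S.affineOpens)
      (hUW : (U : X.Opens) ≤ f ⁻¹ᵁ (W : S.Opens)), x ∈ (U : X.Opens) ∧
        NPC n (f.appLE (W : S.Opens) (U : X.Opens) hUW).hom) :
    DerSch.IsNPseudoCoherent f n := by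
  rw [DerSch.IsNPseudoCoherent, rel_iff_local]
  intro x
  obtain ⟨U, W, hUW, hx, hnpc⟩ := h x
  obtain ⟨k, ψ, hψs, hψC, hpc⟩ := chart_of_npc _ n hnpc
  refine ⟨U, W, hUW, k, ψ, hx, ⟨hψs, hψC⟩, ?_⟩
  exact (chartPC_iff_pcCx (U : X.Opens) U.2 (W : S.Opens) ψ hψs (DerSch.unitCx X) _
    (Iso.refl _) n).2 ((pcCx_unitCx_iff_ring (U : X.Opens) U.2 ψ n).2 hpc)

/-- flat base change of an `n`-pseudo-coherent morphism -/
theorem isNPseudoCoherent_baseChange {X' S' : Scheme.{u}} (f : X ⟶ S) (f' : X' ⟶ S')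
    (g' : X' ⟶ X) (g : S' ⟶ S) [LocallyOfFiniteType f] [LocallyOfFiniteType f'] [Flat g]
    (hc : IsPullback g' f' f g) (n : ℤ) (hf : DerSch.IsNPseudoCoherent f n) :
    DerSch.IsNPseudoCoherent f' n := by
  refine isNPseudoCoherent_of_local f' n fun x' => ?_
  obtain ⟨W, U, V', eU, eV', hW, hU, hV', hU', hx', H⟩ :=
    Groth.Agent.Lib.R2H3.PCBC.exists_chart f f' g' g hc x'
  refine ⟨⟨_, hU'⟩, ⟨V', hV'⟩, inf_le_right, hx', ?_⟩
  exact NPC.baseChange _ _ _ _ H (g.flat_appLE hW hV' eV') n
    (npc_appLE_of_isNPseudoCoherent f n hf ⟨U, hU⟩ ⟨W, hW⟩ eU)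

/-- **S6226** -/
theorem main_S6226 {Y' : Scheme.{u}} (f : X ⟶ S) [LocallyOfFiniteType f] (n : ℤ)
    (hf : DerSch.IsNPseudoCoherent f n) (h : Y' ⟶ S) [Flat h] :
    DerSch.IsNPseudoCoherent (pullback.snd f h) n :=
  isNPseudoCoherent_baseChange f (pullback.snd f h) (pullback.fst f h) h
    (IsPullback.of_hasPullback f h) n hf

end Sch

end Groth.Agent.Lib.H6xNpcBC
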