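import Mathlib
import Groth.Agent.Lib.H6xNpcBC
import Groth.Agent.Lib.H6xPCDescA
set_option backward.isDefEq.respectTransparency.types false

/-!
# Faithfully flat descent of `n`-pseudo-coherent morphisms (helper6; S6227)
-/

set_option autoImplicit false
set_option linter.style.haveILetI false
set_option linter.unusedVariables false
set_option linter.unusedSectionVars false
universe u
open CategoryTheory CategoryTheory.Limits AlgebraicGeometry HomologicalComplex TopologicalSpace
  Opposite MonoidalCategory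
attribute [local instance] HasDerivedCategory.standard

namespace Groth.Agent.Lib.H6xNpcBC

open Groth.Agent.Lib.Helper1.PC Groth.Agent.Lib.Helper1.Extend Groth.Agent.Lib.Helper1.Tor

section Ring

variable (A A' B B' : Type u) [CommRing A] [CommRing A'] [CommRing B] [CommRing B']
  [Algebra A A'] [Algebra A B] [Algebra A' B'] [Algebra B B'] [Algebra A B']
  [IsScalarTower A A' B'] [IsScalarTower A B B']

attribute [local instance] MvPolynomial.algebraMvPolynomial

instance flat_mvPolynomial (σ : Type) [Module.Flat A A'] :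
    Module.Flat (MvPolynomial σ A) (MvPolynomial σ A') :=
  Module.Flat.isBaseChange A (MvPolynomial σ A) A' (MvPolynomial σ A')
    (Algebra.IsPushout.out (R := A) (S := MvPolynomial σ A) (R' := A')
      (S' := MvPolynomial σ A'))

variable {A B}

/-- the base change of a chart -/
noncomputable def chartBC {n : ℕ} (φ : MvPolynomial (Fin n) A →ₐ[A] B) :
    MvPolynomial (Fin n) A' →ₐ[A'] B' :=
  MvPolynomial.aeval (fun i => algebraMap B B' (φ (MvPolynomial.X i)))

/-- the base change of a chart is a chart, and the chart module base changes -/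
theorem chartBC_spec [Algebra.IsPushout A B A' B'] [Module.Flat A A'] {n : ℕ}
    (φ : MvPolynomial (Fin n) A →ₐ[A] B) (hφ : Function.Surjective φ) :
    Function.Surjective (chartBC A' B' φ) ∧
    letI := φ.toRingHom.toAlgebra
    letI := (chartBC A' B' φ).toRingHom.toAlgebra
    Nonempty ((extD (MvPolynomial (Fin n) A) (MvPolynomial (Fin n) A')).obj
      (Dual.inD (MvPolynomial (Fin n) A) B) ≅ Dual.inD (MvPolynomial (Fin n) A') B') := by
  letI algPB : Algebra (MvPolynomial (Fin n) A) B := φ.toRingHom.toAlgebra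
  set φ' : MvPolynomial (Fin n) A' →ₐ[A'] B' := chartBC A' B' φ with hφ'
  letI algP'B' : Algebra (MvPolynomial (Fin n) A') B' := φ'.toRingHom.toAlgebra
  letI algPB' : Algebra (MvPolynomial (Fin n) A) B' :=
    ((algebraMap B B').comp φ.toRingHom).toAlgebra
  haveI t1 : IsScalarTower A (MvPolynomial (Fin n) A) B :=
    IsScalarTower.of_algebraMap_eq (fun r => (φ.commutes r).symm)
  haveI t2 : IsScalarTower (MvPolynomial (Fin n) A) B B' :=
    IsScalarTower.of_algebraMap_eq (fun r => rfl)
  haveI t3 : IsScalarTower A' (MvPolynomial (Fin n) A') B' :=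
    IsScalarTower.of_algebraMap_eq (fun r => (φ'.commutes r).symm)
  have hcomp : (φ'.toRingHom).comp (MvPolynomial.map (algebraMap A A')) =
      (algebraMap B B').comp φ.toRingHom := by
    apply MvPolynomial.ringHom_ext
    · intro r
      simp only [RingHom.comp_apply, MvPolynomial.map_C, AlgHom.toRingHom_eq_coe,
        RingHom.coe_coe]
      rw [show (MvPolynomial.C (algebraMap A A' r) : MvPolynomial (Fin n) A') =
        algebraMap A' _ (algebraMap A A' r) from rfl, φ'.commutes,
        show (MvPolynomial.C r : MvPolynomial (Fin n) A) = algebraMap A _ r from rfl, φ.commutes,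
        ← IsScalarTower.algebraMap_apply, ← IsScalarTower.algebraMap_apply]
    · intro i
      simp only [RingHom.comp_apply, MvPolynomial.map_X, AlgHom.toRingHom_eq_coe,
        RingHom.coe_coe]
      exact MvPolynomial.aeval_X _ i
  haveI t4 : IsScalarTower (MvPolynomial (Fin n) A) (MvPolynomial (Fin n) A') B' :=
    IsScalarTower.of_algebraMap_eq (fun p => (RingHom.congr_fun hcomp p).symm)
  haveI t5 : IsScalarTower A (MvPolynomial (Fin n) A) B' :=
    IsScalarTower.of_algebraMap_eq (fun r => by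
      rw [IsScalarTower.algebraMap_apply A B B', IsScalarTower.algebraMap_apply A
        (MvPolynomial (Fin n) A) B]
      rfl)
  haveI t6 : IsScalarTower A (MvPolynomial (Fin n) A') B' :=
    IsScalarTower.of_algebraMap_eq (fun r => by
      rw [IsScalarTower.algebraMap_apply A A' B', IsScalarTower.algebraMap_apply A'
        (MvPolynomial (Fin n) A') B', ← IsScalarTower.algebraMap_apply A A'
        (MvPolynomial (Fin n) A')])
  have hpo : Algebra.IsPushout (MvPolynomial (Fin n) A) B (MvPolynomial (Fin n) A') B' :=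
    (Algebra.IsPushout.comp_iff A (MvPolynomial (Fin n) A) A' (MvPolynomial (Fin n) A')
      (T := B) (T' := B')).1 inferInstance
  have hbc : IsBaseChange (MvPolynomial (Fin n) A')
      (IsScalarTower.toAlgHom (MvPolynomial (Fin n) A) B B').toLinearMap := hpo.symm.out
  refine ⟨?_, ⟨extDInDIso (A := MvPolynomial (Fin n) A) (B := MvPolynomial (Fin n) A') B ≪≫
    (DerivedCategory.singleFunctor (ModuleCat.{u} (MvPolynomial (Fin n) A')) 0).mapIso
      hbc.equiv.toModuleIso⟩⟩
  -- surjectivity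
  have hbc' : IsBaseChange A' (IsScalarTower.toAlgHom A B B').toLinearMap :=
    (Algebra.IsPushout.symm inferInstance : Algebra.IsPushout A A' B B').out
  intro y
  refine hbc'.inductionOn y (fun y => ∃ x, φ' x = y) ⟨0, map_zero _⟩ ?_ ?_ ?_
  · intro b
    obtain ⟨p, rfl⟩ := hφ b
    exact ⟨MvPolynomial.map (algebraMap A A') p, RingHom.congr_fun hcomp p⟩
  · rintro a y ⟨x, rfl⟩
    exact ⟨a • x, map_smul _ _ _⟩
  · rintro y z ⟨x, rfl⟩ ⟨x', rfl⟩
    exact ⟨x + x', map_add _ _ _⟩

end Ring

section Desc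

attribute [local instance] MvPolynomial.algebraMvPolynomial

/-- a jointly surjective finite flat family stays a descent family after adjoining variables -/
theorem descFam_mvPolynomial {A : Type u} [CommRing A] {J : Type} [Finite J] (A' : J → Type u)
    [∀ j, CommRing (A' j)] [∀ j, Algebra A (A' j)] [∀ j, Module.Flat A (A' j)]
    (hsurj : ∀ p : PrimeSpectrum A, ∃ (j : J) (q : PrimeSpectrum (A' j)),
      q.comap (algebraMap A (A' j)) = p) (σ : Type) :
    DescFam (R := MvPolynomial σ A) (fun j => MvPolynomial σ (A' j)) := by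
  refine Groth.Agent.Lib.H6xPCDesc.descFam_of_surjective _ ?_
  intro m hm
  let x : PrimeSpectrum (MvPolynomial σ A) := ⟨m, hm.isPrime⟩
  obtain ⟨j, q, hq⟩ := hsurj (x.comap (algebraMap A (MvPolynomial σ A)))
  refine ⟨j, ?_⟩
  have hpo : IsPushout (CommRingCat.ofHom (algebraMap A (MvPolynomial σ A)))
      (CommRingCat.ofHom (algebraMap A (A' j)))
      (CommRingCat.ofHom (algebraMap (MvPolynomial σ A) (MvPolynomial σ (A' j))))
      (CommRingCat.ofHom (algebraMap (A' j) (MvPolynomial σ (A' j)))) :=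
    CommRingCat.isPushout_iff_isPushout.2 inferInstance
  have hpb := isPullback_SpecMap_of_isPushout _ _ _ _ hpo
  obtain ⟨z, hz1, hz2⟩ := Scheme.exists_preimage_of_isPullback hpb x q hq.symm
  intro htop
  have hle : Ideal.map (algebraMap (MvPolynomial σ A) (MvPolynomial σ (A' j))) m ≤
      (show PrimeSpectrum (MvPolynomial σ (A' j)) from z).asIdeal := by
    rw [Ideal.map_le_iff_le_comap]
    have h0 := congrArg PrimeSpectrum.asIdeal hz1
    intro r hr
    have : r ∈ ((Spec.map (CommRingCat.ofHom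
        (algebraMap (MvPolynomial σ A) (MvPolynomial σ (A' j))))).base z).asIdeal := by
      rw [h0]; exact hr
    exact this
  exact (show PrimeSpectrum (MvPolynomial σ (A' j)) from z).isPrime.ne_top
    (top_le_iff.1 (htop ▸ hle))

variable (A B : Type u) [CommRing A] [CommRing B] [Algebra A B] {J : Type} [Finite J]
  (A' B' : J → Type u) [∀ j, CommRing (A' j)] [∀ j, CommRing (B' j)]
  [∀ j, Algebra A (A' j)] [∀ j, Algebra (A' j) (B' j)] [∀ j, Algebra B (B' j)]
  [∀ j, Algebra A (B' j)] [∀ j, IsScalarTower A (A' j) (B' j)] [∀ j, IsScalarTower A B (B' j)]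
  [∀ j, Algebra.IsPushout A B (A' j) (B' j)] [∀ j, Module.Flat A (A' j)]

variable {A B} in
/-- **descent of `n`-pseudo-coherence of a chart along a jointly surjective finite flat family** -/
theorem isPseudoCoherentModule_chart_descent
    (hsurj : ∀ p : PrimeSpectrum A, ∃ (j : J) (q : PrimeSpectrum (A' j)),
      q.comap (algebraMap A (A' j)) = p)
    {n : ℕ} (φ : MvPolynomial (Fin n) A →ₐ[A] B) (hφ : Function.Surjective φ) (m : ℤ)
    (h : ∀ j, letI := (chartBC (A' j) (B' j) φ).toRingHom.toAlgebra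
      DRing.IsPseudoCoherentModule (MvPolynomial (Fin n) (A' j)) m (B' j)) :
    letI := φ.toRingHom.toAlgebra
    DRing.IsPseudoCoherentModule (MvPolynomial (Fin n) A) m B := by
  letI := φ.toRingHom.toAlgebra
  have hB := descFam_mvPolynomial A' hsurj (Fin n)
  refine hB.isPC _ m (fun j => ?_)
  letI := (chartBC (A' j) (B' j) φ).toRingHom.toAlgebra
  obtain ⟨-, ⟨e⟩⟩ := chartBC_spec (A' j) (B' j) φ hφ
  exact isPC_of_iso e.symm (h j)

end Desc

section Cat

/-- every chart of the ring map is `n`-pseudo-coherent -/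
def NPCAll (n : ℤ) {A B : Type u} [CommRing A] [CommRing B] (ρ : A →+* B) : Prop :=
  ∀ (k : ℕ) (ψ : MvPolynomial (Fin k) A →+* B), Function.Surjective ψ →
    ψ.comp MvPolynomial.C = ρ →
    DRing.IsPseudoCoherent (MvPolynomial (Fin k) A) n
      ((DerivedCategory.singleFunctor (ModuleCat.{u} (MvPolynomial (Fin k) A)) 0).obj
        ((ModuleCat.restrictScalars ψ).obj (ModuleCat.of B B)))

variable {R S : CommRingCat.{u}} (f : R ⟶ S) {J : Type} [Finite J] (R' S' : J → CommRingCat.{u})
  (g : ∀ j, R ⟶ R' j) (g' : ∀ j, S ⟶ S' j) (f' : ∀ j, R' j ⟶ S' j)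

include g' in
/-- descent of `n`-pseudo-coherence of a ring map along a finite jointly surjective flat family -/
theorem NPC.descent (H : ∀ j, IsPushout f (g j) (g' j) (f' j)) (hg : ∀ j, (g j).hom.Flat)
    (hsurj : ∀ p : PrimeSpectrum R, ∃ (j : J) (q : PrimeSpectrum (R' j)), q.comap (g j).hom = p)
    (hft : f.hom.FiniteType) (n : ℤ) (h : ∀ j, NPCAll n (f' j).hom) : NPC n f.hom := by
  letI := f.hom.toAlgebra
  letI a1 : ∀ j, Algebra R (R' j) := fun j => (g j).hom.toAlgebra
  letI a2 : ∀ j, Algebra (R' j) (S' j) := fun j => (f' j).hom.toAlgebra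
  letI a3 : ∀ j, Algebra S (S' j) := fun j => (g' j).hom.toAlgebra
  letI a4 : ∀ j, Algebra R (S' j) := fun j => ((f' j).hom.comp (g j).hom).toAlgebra
  have key := fun j =>
    Groth.Agent.Lib.R2H3.PCBC.exists_algebra_isPushout f (g j) (g' j) (f' j) (H j) (hg j)
  haveI t1 : ∀ j, IsScalarTower R (R' j) (S' j) := fun j => (key j).choose
  haveI t2 : ∀ j, IsScalarTower R S (S' j) := fun j => (key j).choose_spec.choose
  haveI t3 : ∀ j, Algebra.IsPushout R S (R' j) (S' j) := fun j => (key j).choose_spec.choose_spec.1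
  haveI t4 : ∀ j, Module.Flat R (R' j) := fun j => (key j).choose_spec.choose_spec.2
  obtain ⟨k, ψ, hψs, hψC⟩ := Groth.Agent.Lib.H6xChart.exists_chart_of_finiteType f.hom hft
  let φ : MvPolynomial (Fin k) R →ₐ[R] S :=
    { toRingHom := ψ
      commutes' := fun a => RingHom.congr_fun hψC a }
  refine ⟨k, φ, hψs, ?_⟩
  refine isPseudoCoherentModule_chart_descent (fun j => R' j) (fun j => S' j) hsurj φ hψs n
    (fun j => ?_)
  letI := (chartBC (R' j) (S' j) φ).toRingHom.toAlgebra
  have h1 := h j k (chartBC (R' j) (S' j) φ).toRingHom (chartBC_spec (R' j) (S' j) φ hψs).1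
    (RingHom.ext fun a => (chartBC (R' j) (S' j) φ).commutes a)
  exact isPC_of_iso ((DerivedCategory.singleFunctor _ 0).mapIso
    (Groth.Agent.Lib.Helper1.Extend.e₀ (A := MvPolynomial (Fin k) (R' j))
      (B := S' j)).toModuleIso) h1

end Cat

section Sch

open Groth.Agent.Lib.H6xChart

variable {X S : Scheme.{u}}

/-- every chart of an `n`-pseudo-coherent morphism on an affine pair is `n`-pseudo-coherent -/
theorem npcAll_appLE_of_isNPseudoCoherent (f : X ⟶ S) [LocallyOfFiniteType f] (n : ℤ)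
    (hf : DerSch.IsNPseudoCoherent f n) (U : X.affineOpens) (W : S.affineOpens)
    (hUW : (U : X.Opens) ≤ f ⁻¹ᵁ (W : S.Opens)) :
    NPCAll n (f.appLE (W : S.Opens) (U : X.Opens) hUW).hom :=
  fun k ψ hψs hψC => ring_pc_of_isNPseudoCoherent f n hf U W hUW ψ ⟨hψs, hψC⟩

/-- fpqc descent of `n`-pseudo-coherence of a morphism -/
theorem isNPseudoCoherent_descent {X' S' : Scheme.{u}} (f : X ⟶ S) (f' : X' ⟶ S')
    (g' : X' ⟶ X) (g : S' ⟶ S) [LocallyOfFiniteType f] [LocallyOfFiniteType f'] [Flat g]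
    [Surjective g] [QuasiCompact g]
    (hc : IsPullback g' f' f g) (n : ℤ) (hf' : DerSch.IsNPseudoCoherent f' n) :
    DerSch.IsNPseudoCoherent f n := by
  refine isNPseudoCoherent_of_local f n fun x => ?_
  obtain ⟨W, hxW⟩ := exists_affine_nhd (f.base x)
  obtain ⟨U, hxU, hUW⟩ := exists_affine_nhd_le f x (W : S.Opens) hxW
  refine ⟨U, W, hUW, hxU, ?_⟩
  have hcomp : IsCompact (g ⁻¹ᵁ (W : S.Opens) : Set S') := g.isCompact_preimage W.2.isCompact
  obtain ⟨s, hs, hsU⟩ := isCompact_iff_finite_and_eq_biUnion_affineOpens.1 hcomp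
  obtain ⟨r, V', -, hV'⟩ := hs.fin_param
  have hle : ∀ j, (V' j : S'.Opens) ≤ g ⁻¹ᵁ (W : S.Opens) := by
    intro j
    rw [hsU]
    exact le_iSup₂ (f := fun i (_ : i ∈ s) => (i : S'.Opens)) (V' j) (hV' ▸ ⟨j, rfl⟩)
  have hU' : ∀ j, IsAffineOpen (g' ⁻¹ᵁ (U : X.Opens) ⊓ f' ⁻¹ᵁ (V' j : S'.Opens)) := fun j =>
    Groth.Agent.Lib.R2H3.ProdChart.isAffineOpen_inf hc W.2 U.2 (V' j).2 hUW (hle j)
  refine NPC.descent (f.appLE (W : S.Opens) (U : X.Opens) hUW)
    (fun j => Γ(S', (V' j : S'.Opens)))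
    (fun j => Γ(X', g' ⁻¹ᵁ (U : X.Opens) ⊓ f' ⁻¹ᵁ (V' j : S'.Opens)))
    (fun j => g.appLE (W : S.Opens) (V' j : S'.Opens) (hle j))
    (fun j => g'.appLE (U : X.Opens) _ inf_le_left)
    (fun j => f'.appLE (V' j : S'.Opens) _ inf_le_right)
    (fun j => Groth.Agent.Lib.R2H3.ProdChart.isPushout_appLE hc W.2 U.2 (V' j).2 hUW (hle j))
    (fun j => g.flat_appLE W.2 (V' j).2 (hle j)) ?_
    (LocallyOfFiniteType.finiteType_appLE f W.2 U.2 hUW) n
    (fun j => npcAll_appLE_of_isNPseudoCoherent f' n hf' ⟨_, hU' j⟩ (V' j) inf_le_right)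
  -- joint surjectivity
  intro p
  obtain ⟨x', hx'⟩ := g.surjective (W.2.fromSpec p)
  have hx'W : x' ∈ g ⁻¹ᵁ (W : S.Opens) := by
    show g x' ∈ (W : S.Opens)
    rw [hx']
    have : W.2.fromSpec p ∈ Set.range W.2.fromSpec := ⟨p, rfl⟩
    rw [W.2.range_fromSpec] at this
    exact this
  rw [hsU] at hx'W
  obtain ⟨i, hi⟩ := TopologicalSpace.Opens.mem_iSup.1 hx'W
  obtain ⟨his, hx'i⟩ := TopologicalSpace.Opens.mem_iSup.1 hi
  obtain ⟨j, rfl⟩ : ∃ j, V' j = i := by rw [← hV'] at his; exact his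
  obtain ⟨q, hq⟩ : x' ∈ Set.range (V' j).2.fromSpec := by
    rw [(V' j).2.range_fromSpec]; exact hx'i
  refine ⟨j, q, ?_⟩
  show Spec.map (g.appLE (W : S.Opens) (V' j : S'.Opens) (hle j)) q = p
  apply W.2.fromSpec.isOpenEmbedding.injective
  rw [← Scheme.Hom.comp_apply, W.2.SpecMap_appLE_fromSpec g (V' j).2 (hle j),
    Scheme.Hom.comp_apply, hq, hx']

/-- **S6227** -/
theorem main_S6227 {Y' : Scheme.{u}} (f : X ⟶ S) [LocallyOfFiniteType f] (n : ℤ)
    (h : Y' ⟶ S) [Flat h] [Surjective h] [QuasiCompact h]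
    (hf' : DerSch.IsNPseudoCoherent (pullback.snd f h) n) :
    DerSch.IsNPseudoCoherent f n :=
  isNPseudoCoherent_descent f (pullback.snd f h) (pullback.fst f h) h
    (IsPullback.of_hasPullback f h) n hf'

end Sch

end Groth.Agent.Lib.H6xNpcBC
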