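import Mathlib
import Groth.Agent.Lib.Helper1LocBC
import Groth.Agent.Lib.H6xNpcDesc
set_option backward.isDefEq.respectTransparency.types false

/-!
# Flat base change commutes with restriction of scalars along a pushout (helper6; towards S6211)

General form of helper1's `Helper1.LocBC.bcDIso` (localization) for a pushout square
`P → A`, `P → P'`, `A' = A ⊗_P P'`.
-/

set_option autoImplicit false
set_option linter.style.haveILetI false
set_option linter.unusedVariables false
set_option linter.unusedSectionVars false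
universe u
open CategoryTheory CategoryTheory.Limits TensorProduct
attribute [local instance] HasDerivedCategory.standard

namespace Groth.Agent.Lib.H6xRelDesc

open Groth.Agent.Lib.Helper1.Tor Groth.Agent.Lib.Helper1.Extend ChangeOfRings

section Cat

variable {P A P' A' : Type u} [CommRing P] [CommRing A] [CommRing P'] [CommRing A']
  [Algebra P A] [Algebra P P'] [Algebra A A'] [Algebra P' A'] [Algebra P A']
  [IsScalarTower P A A'] [IsScalarTower P P' A'] [Algebra.IsPushout P P' A A']
  (M₀ : ModuleCat.{u} A)

/-- the `P`-module structure on an `A`-module (the one of `restrictScalars`) -/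
noncomputable abbrev pMod : Module P M₀ := Module.compHom M₀ (algebraMap P A)

attribute [local instance] pMod

instance : IsScalarTower P A M₀ := ⟨fun p a x => by
  show (p • a) • x = algebraMap P A p • (a • x)
  rw [Algebra.smul_def, mul_smul]⟩

variable (P' A') in
/-- the right hand side -/
noncomputable def rhsEquiv :
    ((ModuleCat.restrictScalars.{u} (algebraMap P' A')).obj ((ext A A').obj M₀)) ≃ₗ[P']
      (A' ⊗[A] M₀) :=
  { (extEquiv (A := A) (B := A') M₀) with
    map_smul' := fun q y => by
      have := (extEquiv (A := A) (B := A') M₀).map_smul (algebraMap P' A' q) y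
      refine this.trans ?_
      exact algebraMap_smul A' q _ }

variable (P' A') in
/-- base change compatibility, in `ModuleCat` -/
noncomputable def bcIso :
    (ext P P').obj ((ModuleCat.restrictScalars.{u} (algebraMap P A)).obj M₀) ≅
      (ModuleCat.restrictScalars.{u} (algebraMap P' A')).obj ((ext A A').obj M₀) :=
  (extEquiv (A := P) (B := P') M₀).toModuleIso ≪≫
    (Algebra.IsPushout.cancelBaseChange P P' A A' M₀).symm.toModuleIso ≪≫
    (rhsEquiv P' A' M₀).symm.toModuleIso

lemma bcIso_hom_one_tmul (x : M₀) :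
    (bcIso P' A' M₀).hom ((1 : P') ⊗ₜ[P, algebraMap P P']
      (show ((ModuleCat.restrictScalars.{u} (algebraMap P A)).obj M₀) from x)) =
      ((1 : A') ⊗ₜ[A, algebraMap A _] x : (ext A A').obj M₀) := by
  have h1 : (Algebra.IsPushout.cancelBaseChange P P' A A' M₀).symm ((1 : P') ⊗ₜ[P] (x : M₀)) =
      (1 : A') ⊗ₜ[A] x := by
    rw [Algebra.IsPushout.cancelBaseChange_symm_tmul, map_one]
  show (rhsEquiv P' A' M₀).symm ((Algebra.IsPushout.cancelBaseChange P P' A A' M₀).symm
    (extEquiv (A := P) (B := P') M₀ _)) = _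
  rw [LinearEquiv.symm_apply_eq]
  exact h1

lemma bcIso_naturality {M₀ M₁ : ModuleCat.{u} A} (φ : M₀ ⟶ M₁) :
    (ext P P').map ((ModuleCat.restrictScalars.{u} (algebraMap P A)).map φ) ≫
        (bcIso (P := P) P' A' M₁).hom =
      (bcIso (P := P) P' A' M₀).hom ≫ (ModuleCat.restrictScalars.{u} (algebraMap P' A')).map
        ((ext A A').map φ) := by
  apply ModuleCat.ExtendScalars.hom_ext
  intro x
  rw [ModuleCat.comp_apply, ModuleCat.comp_apply]
  have e1 := bcIso_hom_one_tmul (P := P) (P' := P') (A' := A') M₁ (φ x)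
  have e0 := bcIso_hom_one_tmul (P := P) (P' := P') (A' := A') M₀ x
  change (bcIso (P := P) P' A' M₁).hom ((1 : P') ⊗ₜ[P, algebraMap P P']
      (show ((ModuleCat.restrictScalars.{u} (algebraMap P A)).obj M₁) from φ x)) =
    (ext A A').map φ ((bcIso (P := P) P' A' M₀).hom
      ((1 : P') ⊗ₜ[P, algebraMap P P']
      (show ((ModuleCat.restrictScalars.{u} (algebraMap P A)).obj M₀) from x)))
  rw [e1, e0]
  rfl

variable [Module.Flat P P'] [Module.Flat A A']

variable (P' A') in
/-- base change compatibility on complexes -/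
noncomputable def bcCxIso (K : DRing.Cx A) :
    (extCx P P').obj ((DRing.restrictCx (algebraMap P A)).obj K) ≅
      (DRing.restrictCx (algebraMap P' A')).obj ((extCx A A').obj K) :=
  HomologicalComplex.Hom.isoOfComponents (fun i => bcIso (P := P) P' A' (K.X i))
    (fun i j _ => (bcIso_naturality (P := P) (P' := P') (A' := A') (K.d i j)).symm)

open DerivedCategory Groth.Agent.Lib.Helper1.Restrict in
variable (P' A') in
/-- base change compatibility in the derived category -/
noncomputable def bcDIso (K : DRing.Cx A) :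
    (extD P P').obj ((DRing.restrictD (algebraMap P A)).obj (Q.obj K)) ≅
      (DRing.restrictD (algebraMap P' A')).obj (Q.obj ((extCx A A').obj K)) :=
  (extD P P').mapIso (restrictQIso (algebraMap P A) K) ≪≫
    mapQIso (ext P P') _ ≪≫ Q.mapIso (bcCxIso (P := P) P' A' K) ≪≫
    (restrictQIso (algebraMap P' A') _).symm

end Cat

section Chart

open Groth.Agent.Lib.H6xNpcBC Groth.Agent.Lib.Helper1.PC DerivedCategory

attribute [local instance] MvPolynomial.algebraMvPolynomial

/-- the pushout square of a chart and its base change -/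
theorem chartBC_isPushout (A A' B B' : Type u) [CommRing A] [CommRing A'] [CommRing B]
    [CommRing B'] [Algebra A A'] [Algebra A B] [Algebra A' B'] [Algebra B B'] [Algebra A B']
    [IsScalarTower A A' B'] [IsScalarTower A B B'] [Algebra.IsPushout A B A' B'] {n : ℕ}
    (φ : MvPolynomial (Fin n) A →ₐ[A] B) :
    letI := φ.toRingHom.toAlgebra
    letI := (chartBC A' B' φ).toRingHom.toAlgebra
    letI : Algebra (MvPolynomial (Fin n) A) B' := ((algebraMap B B').comp φ.toRingHom).toAlgebra
    ∃ (_ : IsScalarTower (MvPolynomial (Fin n) A) B B')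
      (_ : IsScalarTower (MvPolynomial (Fin n) A) (MvPolynomial (Fin n) A') B'),
      Algebra.IsPushout (MvPolynomial (Fin n) A) (MvPolynomial (Fin n) A') B B' := by
  letI algPB : Algebra (MvPolynomial (Fin n) A) B := φ.toRingHom.toAlgebra
  set φ' : MvPolynomial (Fin n) A' →ₐ[A'] B' := chartBC A' B' φ with hφ'
  letI algP'B' : Algebra (MvPolynomial (Fin n) A') B' := φ'.toRingHom.toAlgebra
  letI algPB' : Algebra (MvPolynomial (Fin n) A) B' :=
    ((algebraMap B B').comp φ.toRingHom).toAlgebra
  haveI t1 : IsScalarTower A (MvPolynomial (Fin n) A) B :=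
    IsScalarTower.of_algebraMap_eq (fun r => (φ.commutes r).symm)
  haveI t2 : IsScalarTower (MvPolynomial (Fin n) A) B B' :=
    IsScalarTower.of_algebraMap_eq (fun r => rfl)
  haveI t3 : IsScalarTower A' (MvPolynomial (Fin n) A') B' :=
    IsScalarTower.of_algebraMap_eq (fun r => (φ'.commutes r).symm)
  have hcomp : (φ'.toRingHom).comp (MvPolynomial.map (algebraMap A A')) =
      (algebraMap B B').comp φ.toRingHom := by
    apply MvPolynomial.ringHom_ext
    · intro r
      simp only [RingHom.comp_apply, MvPolynomial.map_C, AlgHom.toRingHom_eq_coe,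
        RingHom.coe_coe]
      rw [show (MvPolynomial.C (algebraMap A A' r) : MvPolynomial (Fin n) A') =
        algebraMap A' _ (algebraMap A A' r) from rfl, φ'.commutes,
        show (MvPolynomial.C r : MvPolynomial (Fin n) A) = algebraMap A _ r from rfl, φ.commutes,
        ← IsScalarTower.algebraMap_apply, ← IsScalarTower.algebraMap_apply]
    · intro i
      simp only [RingHom.comp_apply, MvPolynomial.map_X, AlgHom.toRingHom_eq_coe,
        RingHom.coe_coe]
      exact MvPolynomial.aeval_X _ i
  haveI t4 : IsScalarTower (MvPolynomial (Fin n) A) (MvPolynomial (Fin n) A') B' :=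
    IsScalarTower.of_algebraMap_eq (fun p => (RingHom.congr_fun hcomp p).symm)
  haveI t5 : IsScalarTower A (MvPolynomial (Fin n) A) B' :=
    IsScalarTower.of_algebraMap_eq (fun r => by
      rw [IsScalarTower.algebraMap_apply A B B', IsScalarTower.algebraMap_apply A
        (MvPolynomial (Fin n) A) B]
      rfl)
  haveI t6 : IsScalarTower A (MvPolynomial (Fin n) A') B' :=
    IsScalarTower.of_algebraMap_eq (fun r => by
      rw [IsScalarTower.algebraMap_apply A A' B', IsScalarTower.algebraMap_apply A'
        (MvPolynomial (Fin n) A') B', ← IsScalarTower.algebraMap_apply A A'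
        (MvPolynomial (Fin n) A')])
  have hpo : Algebra.IsPushout (MvPolynomial (Fin n) A) B (MvPolynomial (Fin n) A') B' :=
    (Algebra.IsPushout.comp_iff A (MvPolynomial (Fin n) A) A' (MvPolynomial (Fin n) A')
      (T := B) (T' := B')).1 inferInstance
  exact ⟨t2, t4, hpo.symm⟩

variable (A B : Type u) [CommRing A] [CommRing B] [Algebra A B] {J : Type} [Finite J]
  (A' B' : J → Type u) [∀ j, CommRing (A' j)] [∀ j, CommRing (B' j)]
  [∀ j, Algebra A (A' j)] [∀ j, Algebra (A' j) (B' j)] [∀ j, Algebra B (B' j)]
  [∀ j, Algebra A (B' j)] [∀ j, IsScalarTower A (A' j) (B' j)] [∀ j, IsScalarTower A B (B' j)]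
  [∀ j, Algebra.IsPushout A B (A' j) (B' j)] [∀ j, Module.Flat A (A' j)]
  [∀ j, Module.Flat B (B' j)]

variable {A B} in
/-- **descent of `m`-pseudo-coherence of a complex through a chart along a jointly surjective
finite flat family** -/
theorem isPC_restrictD_chart_descent
    (hsurj : ∀ p : PrimeSpectrum A, ∃ (j : J) (q : PrimeSpectrum (A' j)),
      q.comap (algebraMap A (A' j)) = p)
    {n : ℕ} (φ : MvPolynomial (Fin n) A →ₐ[A] B) (m : ℤ) (K : DRing.Cx B)
    (h : ∀ j, DRing.IsPseudoCoherent (MvPolynomial (Fin n) (A' j)) m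
      ((DRing.restrictD (chartBC (A' j) (B' j) φ).toRingHom).obj
        (Q.obj ((extCx B (B' j)).obj K)))) :
    DRing.IsPseudoCoherent (MvPolynomial (Fin n) A) m
      ((DRing.restrictD φ.toRingHom).obj (Q.obj K)) := by
  letI := φ.toRingHom.toAlgebra
  have hB := descFam_mvPolynomial A' hsurj (Fin n)
  refine hB.isPC _ m (fun j => ?_)
  letI := (chartBC (A' j) (B' j) φ).toRingHom.toAlgebra
  letI : Algebra (MvPolynomial (Fin n) A) (B' j) :=
    ((algebraMap B (B' j)).comp φ.toRingHom).toAlgebra
  obtain ⟨t2, t4, hpo⟩ := chartBC_isPushout A (A' j) B (B' j) φ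
  exact isPC_of_iso (bcDIso (P := MvPolynomial (Fin n) A) (A := B)
    (MvPolynomial (Fin n) (A' j)) (B' j) K).symm (h j)

end Chart

end Groth.Agent.Lib.H6xRelDesc
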