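import Mathlib
import Groth.Agent.Lib.H6xRelDescA
import Groth.Agent.Lib.H6xPCDescB
import Groth.Agent.Lib.H6xChartX
set_option backward.isDefEq.respectTransparency.types false

/-!
# Faithfully flat descent of relative pseudo-coherence for objects with quasi-coherent cohomology
(helper6; S6211)
-/

set_option autoImplicit false
set_option linter.style.haveILetI false
set_option linter.unusedVariables false
set_option linter.unusedSectionVars false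
universe u
open CategoryTheory CategoryTheory.Limits AlgebraicGeometry TensorProduct Opposite
attribute [local instance] HasDerivedCategory.standard

namespace Groth.Agent.Lib.H6xRelDesc

open Groth.Agent.Lib.Helper1.Tor Groth.Agent.Lib.Helper1.Extend Groth.Agent.Lib.Helper1.KF
  Groth.Agent.Lib.Helper1.LDer Groth.Agent.Lib.Helper1.Sky Groth.Agent.Lib.Helper1.PC
  Groth.Agent.Lib.H6xRelFlat Groth.Agent.Lib.H6xPC3 DerivedCategory Groth.Agent.Lib.H6xPCDesc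
  Groth.Agent.Lib.H6xChart Groth.Agent.Lib.H6xNpcBC

/-- the derived pullback on a chart is the extension of scalars of the module-level
representative -/
theorem nonempty_restrictD_lpull_iso {X' X : Scheme.{u}} (f : X' ⟶ X) [DCoh.HasLpull f]
    (E : DCoh.D X)
    (A B : Type u) [CommRing A] [CommRing B] [Algebra A B] [Module.Flat A B]
    [PreservesFiniteLimits (tilde.functor (CommRingCat.of A))]
    [PreservesFiniteLimits (tilde.functor (CommRingCat.of B))]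
    (gX : Spec (.of A) ⟶ X) [IsOpenImmersion gX] (k : Spec (.of B) ⟶ X') [IsOpenImmersion k]
    (w : k ≫ f = Spec.map (CommRingCat.ofHom (algebraMap A B)) ≫ gX)
    (M : Dual.D A) (eM : (DCoh.restrictD gX).obj E ≅ (DCoh.tildeD (.of A)).obj M) :
    Nonempty ((DCoh.restrictD k).obj ((DCoh.Lpull f).obj E) ≅
      (DCoh.tildeD (CommRingCat.of B)).obj ((extD A B).obj M)) := by
  haveI : DRing.HasLBaseChange (algebraMap A B) :=
    Groth.Agent.Lib.H6xHasLDerRing.hasLBaseChange (algebraMap A B)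
  let p : Spec (.of B) ⟶ Spec (.of A) := Spec.map (CommRingCat.ofHom (algebraMap A B))
  haveI : DCoh.HasLpull k := hasLpull _
  haveI : DCoh.HasLpull p := hasLpull _
  haveI : DCoh.HasLpull gX := hasLpull _
  haveI : DCoh.HasLpull (k ≫ f) := hasLpull _
  haveI : DCoh.HasLpull (p ≫ gX) := hasLpull _
  obtain ⟨a1⟩ := nonempty_lpull_restrictD_iso k ((DCoh.Lpull f).obj E)
  obtain ⟨a2⟩ := nonempty_lpull_comp_iso k f
  obtain ⟨a3⟩ := nonempty_lpull_congr w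
  obtain ⟨a4⟩ := nonempty_lpull_comp_iso p gX
  obtain ⟨a5⟩ := nonempty_lpull_restrictD_iso gX E
  obtain ⟨a6⟩ := Groth.Agent.S1055.result (algebraMap A B)
  obtain ⟨e⟩ := nonempty_lbc_iso_extD (A := A) (B := B) M
  exact ⟨a1.symm ≪≫ a2.app E ≪≫ a3.app E ≪≫ (a4.app E).symm ≪≫
    (DCoh.Lpull p).mapIso (a5 ≪≫ eM) ≪≫ (a6.app M).symm ≪≫
    (DCoh.tildeD (CommRingCat.of B)).mapIso e⟩

section Sch

variable {X S X' S' : Scheme.{u}}

/-- the module-level representative on an affine open, in push-forward form -/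
theorem nonempty_tildeD_iso_push (E : DCoh.D X) (G : CochainComplex X.Modules ℤ)
    (eG : DCoh.toD X G ≅ E) (U : X.Opens) (hU : IsAffineOpen U)
    [PreservesFiniteLimits (tilde.functor (X.presheaf.obj (op U)))]
    (M : Dual.D Γ(X, U))
    (eM : (DCoh.restrictD hU.fromSpec).obj E ≅ (DCoh.tildeD (X.presheaf.obj (op U))).obj M) :
    Nonempty ((DCoh.tildeD (X.presheaf.obj (op U))).obj M ≅
      DCoh.toD _ ((DerSch.pushCx hU.isoSpec.hom).obj ((DCoh.restrictCx U).obj G))) := by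
  obtain ⟨c⟩ := Groth.Agent.Lib.H6xPerf23.nonempty_restrictD_comp hU.isoSpec.inv U.ι hU.fromSpec
    rfl E
  exact ⟨eM.symm ≪≫ c ≪≫ (DCoh.restrictD hU.isoSpec.inv).mapIso
    ((DCoh.restrictD U.ι).mapIso eG.symm) ≪≫ (toDPushIsoSpecIso U hU G).symm⟩

/-- **core of descent**: the chart test on an affine pair follows from the chart tests upstairs on a
finite jointly surjective family of affine opens of the base change -/
theorem chartPC_of_descent (f : X ⟶ S) (f' : X' ⟶ S') (g' : X' ⟶ X) (g : S' ⟶ S)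
    [LocallyOfFiniteType f] [LocallyOfFiniteType f'] [Flat g]
    (hc : IsPullback g' f' f g) [DCoh.HasLpull g'] (m : ℤ) (E : DCoh.D X)
    (hq : DCoh.IsQCohD E)
    (hE : DerSch.IsPseudoCoherentRel f' m ((DCoh.Lpull g').obj E))
    (U : X.affineOpens) (W : S.affineOpens) (hUW : (U : X.Opens) ≤ f ⁻¹ᵁ (W : S.Opens))
    {r : ℕ} (V' : Fin r → S'.affineOpens)
    (hle : ∀ j, (V' j : S'.Opens) ≤ g ⁻¹ᵁ (W : S.Opens))
    (hsurj : ∀ p : PrimeSpectrum Γ(S, (W : S.Opens)), ∃ (j : Fin r)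
      (q : PrimeSpectrum Γ(S', (V' j : S'.Opens))),
      q.comap (g.appLE (W : S.Opens) (V' j : S'.Opens) (hle j)).hom = p) :
    ∃ (k : ℕ) (ψ : MvPolynomial (Fin k) Γ(S, (W : S.Opens)) →+* Γ(X, (U : X.Opens))),
      DerSch.IsChart f (U : X.Opens) (W : S.Opens) hUW ψ ∧
        DerSch.ChartPC m E (U : X.Opens) (W : S.Opens) ψ := by
  haveI : ∀ R : CommRingCat.{u}, PreservesFiniteLimits (tilde.functor R) := fun R =>
    (Groth.Agent.S9498.aux R).1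
  haveI : Flat g' := MorphismProperty.of_isPullback (P := @Flat) hc.flip inferInstance
  have hU' : ∀ j, IsAffineOpen (g' ⁻¹ᵁ (U : X.Opens) ⊓ f' ⁻¹ᵁ (V' j : S'.Opens)) := fun j =>
    Groth.Agent.Lib.R2H3.ProdChart.isAffineOpen_inf hc W.2 U.2 (V' j).2 hUW (hle j)
  have H : ∀ j, IsPushout (f.appLE (W : S.Opens) (U : X.Opens) hUW)
      (g.appLE (W : S.Opens) (V' j : S'.Opens) (hle j))
      (g'.appLE (U : X.Opens) (g' ⁻¹ᵁ (U : X.Opens) ⊓ f' ⁻¹ᵁ (V' j : S'.Opens)) inf_le_left)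
      (f'.appLE (V' j : S'.Opens) (g' ⁻¹ᵁ (U : X.Opens) ⊓ f' ⁻¹ᵁ (V' j : S'.Opens))
        inf_le_right) := fun j =>
    Groth.Agent.Lib.R2H3.ProdChart.isPushout_appLE hc W.2 U.2 (V' j).2 hUW (hle j)
  -- the algebra structures
  letI a0 : Algebra Γ(S, (W : S.Opens)) Γ(X, (U : X.Opens)) :=
    (f.appLE (W : S.Opens) (U : X.Opens) hUW).hom.toAlgebra
  letI a1 : ∀ j, Algebra Γ(S, (W : S.Opens)) Γ(S', (V' j : S'.Opens)) := fun j =>
    (g.appLE (W : S.Opens) (V' j : S'.Opens) (hle j)).hom.toAlgebra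
  letI a2 : ∀ j, Algebra Γ(S', (V' j : S'.Opens))
      Γ(X', g' ⁻¹ᵁ (U : X.Opens) ⊓ f' ⁻¹ᵁ (V' j : S'.Opens)) := fun j =>
    (f'.appLE (V' j : S'.Opens) _ inf_le_right).hom.toAlgebra
  letI a3 : ∀ j, Algebra Γ(X, (U : X.Opens))
      Γ(X', g' ⁻¹ᵁ (U : X.Opens) ⊓ f' ⁻¹ᵁ (V' j : S'.Opens)) := fun j =>
    (g'.appLE (U : X.Opens) _ inf_le_left).hom.toAlgebra
  letI a4 : ∀ j, Algebra Γ(S, (W : S.Opens))
      Γ(X', g' ⁻¹ᵁ (U : X.Opens) ⊓ f' ⁻¹ᵁ (V' j : S'.Opens)) := fun j =>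
    ((f'.appLE (V' j : S'.Opens) _ inf_le_right).hom.comp
      (g.appLE (W : S.Opens) (V' j : S'.Opens) (hle j)).hom).toAlgebra
  have key := fun j => Groth.Agent.Lib.R2H3.PCBC.exists_algebra_isPushout
    (f.appLE (W : S.Opens) (U : X.Opens) hUW) (g.appLE (W : S.Opens) (V' j : S'.Opens) (hle j))
    (g'.appLE (U : X.Opens) _ inf_le_left) (f'.appLE (V' j : S'.Opens) _ inf_le_right) (H j)
    (g.flat_appLE W.2 (V' j).2 (hle j))
  haveI t1 : ∀ j, IsScalarTower Γ(S, (W : S.Opens)) Γ(S', (V' j : S'.Opens))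
      Γ(X', g' ⁻¹ᵁ (U : X.Opens) ⊓ f' ⁻¹ᵁ (V' j : S'.Opens)) := fun j => (key j).choose
  haveI t2 : ∀ j, IsScalarTower Γ(S, (W : S.Opens)) Γ(X, (U : X.Opens))
      Γ(X', g' ⁻¹ᵁ (U : X.Opens) ⊓ f' ⁻¹ᵁ (V' j : S'.Opens)) := fun j =>
    (key j).choose_spec.choose
  haveI t3 : ∀ j, Algebra.IsPushout Γ(S, (W : S.Opens)) Γ(X, (U : X.Opens))
      Γ(S', (V' j : S'.Opens)) Γ(X', g' ⁻¹ᵁ (U : X.Opens) ⊓ f' ⁻¹ᵁ (V' j : S'.Opens)) :=
    fun j => (key j).choose_spec.choose_spec.1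
  haveI t4 : ∀ j, Module.Flat Γ(S, (W : S.Opens)) Γ(S', (V' j : S'.Opens)) := fun j =>
    (key j).choose_spec.choose_spec.2
  haveI t5 : ∀ j, Module.Flat Γ(X, (U : X.Opens))
      Γ(X', g' ⁻¹ᵁ (U : X.Opens) ⊓ f' ⁻¹ᵁ (V' j : S'.Opens)) := fun j =>
    g'.flat_appLE U.2 (hU' j) inf_le_left
  -- the chart
  obtain ⟨k, ψ, hψs, hψC⟩ := exists_chart_of_finiteType _
    (LocallyOfFiniteType.finiteType_appLE f W.2 U.2 hUW)
  let φ : MvPolynomial (Fin k) Γ(S, (W : S.Opens)) →ₐ[Γ(S, (W : S.Opens))] Γ(X, (U : X.Opens)) :=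
    { toRingHom := ψ
      commutes' := fun a => RingHom.congr_fun hψC a }
  refine ⟨k, ψ, ⟨hψs, hψC⟩, ?_⟩
  -- representatives
  let G := (DerivedCategory.Q : _ ⥤ DCoh.D X).objPreimage E
  let eG : DCoh.toD X G ≅ E := DerivedCategory.Q.objObjPreimageIso E
  let G' := (DerivedCategory.Q : _ ⥤ DCoh.D X').objPreimage ((DCoh.Lpull g').obj E)
  let eG' : DCoh.toD X' G' ≅ (DCoh.Lpull g').obj E := DerivedCategory.Q.objObjPreimageIso _
  rw [chartPC_iff_pcCx (U : X.Opens) U.2 (W : S.Opens) ψ hψs G E eG m]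
  obtain ⟨M, ⟨eM⟩⟩ := exists_tildeD_iso' Γ(X, (U : X.Opens)) E hq U.2.fromSpec
  obtain ⟨eM'⟩ := nonempty_tildeD_iso_push E G eG (U : X.Opens) U.2 M eM
  rw [pcCx_iff_ring_of_tildeD (U : X.Opens) U.2 ψ hψs G M eM' m]
  -- a complex representing `M`
  let M₀ := (DerivedCategory.Q : _ ⥤ Dual.D Γ(X, (U : X.Opens))).objPreimage M
  let eM₀ : DerivedCategory.Q.obj M₀ ≅ M := DerivedCategory.Q.objObjPreimageIso M
  refine isPC_of_iso ((DRing.restrictD ψ).mapIso eM₀) ?_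
  refine isPC_restrictD_chart_descent (fun j => Γ(S', (V' j : S'.Opens)))
    (fun j => Γ(X', g' ⁻¹ᵁ (U : X.Opens) ⊓ f' ⁻¹ᵁ (V' j : S'.Opens))) hsurj φ m M₀ (fun j => ?_)
  -- the chart of the base change
  have hψ's := (chartBC_spec Γ(S', (V' j : S'.Opens))
    Γ(X', g' ⁻¹ᵁ (U : X.Opens) ⊓ f' ⁻¹ᵁ (V' j : S'.Opens)) φ hψs).1
  have hψ'C : (chartBC Γ(S', (V' j : S'.Opens))
      Γ(X', g' ⁻¹ᵁ (U : X.Opens) ⊓ f' ⁻¹ᵁ (V' j : S'.Opens)) φ).toRingHom.comp MvPolynomial.C =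
      (f'.appLE (V' j : S'.Opens) _ inf_le_right).hom :=
    RingHom.ext fun a => (chartBC Γ(S', (V' j : S'.Opens))
      Γ(X', g' ⁻¹ᵁ (U : X.Opens) ⊓ f' ⁻¹ᵁ (V' j : S'.Opens)) φ).commutes a
  have hrel : DerSch.IsPseudoCoherentRel f' m (DCoh.toD X' G') := rel_of_iso f' eG'.symm m hE
  have hpc := (rel_toD_iff_forall_pcCx f' m G').1 hrel ⟨_, hU' j⟩ (V' j) inf_le_right k _
    ⟨hψ's, hψ'C⟩
  -- the module-level representative upstairs
  obtain ⟨e'⟩ := nonempty_restrictD_lpull_iso g' E Γ(X, (U : X.Opens))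
    Γ(X', g' ⁻¹ᵁ (U : X.Opens) ⊓ f' ⁻¹ᵁ (V' j : S'.Opens)) U.2.fromSpec (hU' j).fromSpec
    (U.2.SpecMap_appLE_fromSpec g' (hU' j) inf_le_left).symm M eM
  obtain ⟨eM''⟩ := nonempty_tildeD_iso_push ((DCoh.Lpull g').obj E) G' eG' _ (hU' j) _ e'
  have h1 := (pcCx_iff_ring_of_tildeD _ (hU' j) _ hψ's G' _ eM'' m).1 hpc
  refine isPC_of_iso ((DRing.restrictD _).mapIso ?_) h1
  exact (extD _ _).mapIso eM₀.symm ≪≫ mapQIso (ext _ _) M₀

/-- **fpqc descent of relative pseudo-coherence for objects with quasi-coherent cohomology** -/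
theorem rel_descent (f : X ⟶ S) (f' : X' ⟶ S') (g' : X' ⟶ X) (g : S' ⟶ S)
    [LocallyOfFiniteType f] [LocallyOfFiniteType f'] [Flat g] [Surjective g] [QuasiCompact g]
    (hc : IsPullback g' f' f g) [DCoh.HasLpull g'] (m : ℤ) (E : DCoh.D X)
    (hq : DCoh.IsQCohD E)
    (hE : DerSch.IsPseudoCoherentRel f' m ((DCoh.Lpull g').obj E)) :
    DerSch.IsPseudoCoherentRel f m E := by
  rw [rel_iff_local]
  intro x
  obtain ⟨W, hxW⟩ := exists_affine_nhd (f.base x)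
  obtain ⟨U, hxU, hUW⟩ := exists_affine_nhd_le f x (W : S.Opens) hxW
  have hcomp : IsCompact (g ⁻¹ᵁ (W : S.Opens) : Set S') := g.isCompact_preimage W.2.isCompact
  obtain ⟨s, hs, hsU⟩ := isCompact_iff_finite_and_eq_biUnion_affineOpens.1 hcomp
  obtain ⟨r, V', -, hV'⟩ := hs.fin_param
  have hle : ∀ j, (V' j : S'.Opens) ≤ g ⁻¹ᵁ (W : S.Opens) := by
    intro j
    rw [hsU]
    exact le_iSup₂ (f := fun i (_ : i ∈ s) => (i : S'.Opens)) (V' j) (hV' ▸ ⟨j, rfl⟩)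
  -- joint surjectivity
  have hsurj : ∀ p : PrimeSpectrum Γ(S, (W : S.Opens)), ∃ (j : Fin r)
      (q : PrimeSpectrum Γ(S', (V' j : S'.Opens))),
      q.comap (g.appLE (W : S.Opens) (V' j : S'.Opens) (hle j)).hom = p := by
    intro p
    obtain ⟨x', hx'⟩ := g.surjective (W.2.fromSpec p)
    have hx'W : x' ∈ g ⁻¹ᵁ (W : S.Opens) := by
      show g x' ∈ (W : S.Opens)
      rw [hx']
      have : W.2.fromSpec p ∈ Set.range W.2.fromSpec := ⟨p, rfl⟩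
      rw [W.2.range_fromSpec] at this
      exact this
    rw [hsU] at hx'W
    obtain ⟨i, hi⟩ := TopologicalSpace.Opens.mem_iSup.1 hx'W
    obtain ⟨his, hx'i⟩ := TopologicalSpace.Opens.mem_iSup.1 hi
    obtain ⟨j, rfl⟩ : ∃ j, V' j = i := by rw [← hV'] at his; exact his
    obtain ⟨q, hq⟩ : x' ∈ Set.range (V' j).2.fromSpec := by
      rw [(V' j).2.range_fromSpec]; exact hx'i
    refine ⟨j, q, ?_⟩
    show Spec.map (g.appLE (W : S.Opens) (V' j : S'.Opens) (hle j)) q = p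
    apply W.2.fromSpec.isOpenEmbedding.injective
    rw [← Scheme.Hom.comp_apply, W.2.SpecMap_appLE_fromSpec g (V' j).2 (hle j),
      Scheme.Hom.comp_apply, hq, hx']
  obtain ⟨k, ψ, hψ, hpc⟩ := chartPC_of_descent f f' g' g hc m E hq hE U W hUW V' hle hsurj
  exact ⟨U, W, hUW, k, ψ, hxU, hψ, hpc⟩

/-- **flat base change of relative pseudo-coherence for objects with quasi-coherent cohomology** -/
theorem rel_baseChange (f : X ⟶ S) (f' : X' ⟶ S') (g' : X' ⟶ X) (g : S' ⟶ S)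
    [LocallyOfFiniteType f] [LocallyOfFiniteType f'] [Flat g]
    (hc : IsPullback g' f' f g) [DCoh.HasLpull g'] (m : ℤ) (E : DCoh.D X)
    (hq : DCoh.IsQCohD E) (hE : DerSch.IsPseudoCoherentRel f m E) :
    DerSch.IsPseudoCoherentRel f' m ((DCoh.Lpull g').obj E) := by
  haveI : ∀ R : CommRingCat.{u}, PreservesFiniteLimits (tilde.functor R) := fun R =>
    (Groth.Agent.S9498.aux R).1
  haveI : Flat g' := MorphismProperty.of_isPullback (P := @Flat) hc.flip inferInstance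
  rw [rel_iff_local]
  intro x'
  obtain ⟨W, U, V', hUW, hV'W, hW, hU, hV', hU', hx', H⟩ :=
    Groth.Agent.Lib.R2H3.PCBC.exists_chart f f' g' g hc x'
  -- the algebra structures
  letI a0 : Algebra Γ(S, W) Γ(X, U) := (f.appLE W U hUW).hom.toAlgebra
  letI a1 : Algebra Γ(S, W) Γ(S', V') := (g.appLE W V' hV'W).hom.toAlgebra
  letI a2 : Algebra Γ(S', V') Γ(X', g' ⁻¹ᵁ U ⊓ f' ⁻¹ᵁ V') :=
    (f'.appLE V' _ inf_le_right).hom.toAlgebra
  letI a3 : Algebra Γ(X, U) Γ(X', g' ⁻¹ᵁ U ⊓ f' ⁻¹ᵁ V') :=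
    (g'.appLE U _ inf_le_left).hom.toAlgebra
  letI a4 : Algebra Γ(S, W) Γ(X', g' ⁻¹ᵁ U ⊓ f' ⁻¹ᵁ V') :=
    ((f'.appLE V' _ inf_le_right).hom.comp (g.appLE W V' hV'W).hom).toAlgebra
  obtain ⟨t1, t2, t3, t4⟩ := Groth.Agent.Lib.R2H3.PCBC.exists_algebra_isPushout
    (f.appLE W U hUW) (g.appLE W V' hV'W) (g'.appLE U _ inf_le_left)
    (f'.appLE V' _ inf_le_right) H (g.flat_appLE hW hV' hV'W)
  haveI t5 : Module.Flat Γ(X, U) Γ(X', g' ⁻¹ᵁ U ⊓ f' ⁻¹ᵁ V') :=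
    g'.flat_appLE hU hU' inf_le_left
  -- the chart
  obtain ⟨k, ψ, hψs, hψC⟩ := exists_chart_of_finiteType _
    (LocallyOfFiniteType.finiteType_appLE f hW hU hUW)
  let φ : MvPolynomial (Fin k) Γ(S, W) →ₐ[Γ(S, W)] Γ(X, U) :=
    { toRingHom := ψ
      commutes' := fun a => RingHom.congr_fun hψC a }
  have hψ's := (chartBC_spec Γ(S', V') Γ(X', g' ⁻¹ᵁ U ⊓ f' ⁻¹ᵁ V') φ hψs).1
  have hψ'C : (chartBC Γ(S', V') Γ(X', g' ⁻¹ᵁ U ⊓ f' ⁻¹ᵁ V') φ).toRingHom.comp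
      MvPolynomial.C = (f'.appLE V' _ inf_le_right).hom :=
    RingHom.ext fun a => (chartBC Γ(S', V') Γ(X', g' ⁻¹ᵁ U ⊓ f' ⁻¹ᵁ V') φ).commutes a
  refine ⟨⟨_, hU'⟩, ⟨V', hV'⟩, inf_le_right, k,
    (chartBC Γ(S', V') Γ(X', g' ⁻¹ᵁ U ⊓ f' ⁻¹ᵁ V') φ).toRingHom, hx', ⟨hψ's, hψ'C⟩, ?_⟩
  -- representatives
  let G := (DerivedCategory.Q : _ ⥤ DCoh.D X).objPreimage E
  let eG : DCoh.toD X G ≅ E := DerivedCategory.Q.objObjPreimageIso E
  let G' := (DerivedCategory.Q : _ ⥤ DCoh.D X').objPreimage ((DCoh.Lpull g').obj E)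
  let eG' : DCoh.toD X' G' ≅ (DCoh.Lpull g').obj E := DerivedCategory.Q.objObjPreimageIso _
  rw [chartPC_iff_pcCx _ hU' V' _ hψ's G' _ eG' m]
  obtain ⟨M, ⟨eM⟩⟩ := exists_tildeD_iso' Γ(X, U) E hq hU.fromSpec
  obtain ⟨eM'⟩ := nonempty_tildeD_iso_push E G eG U hU M eM
  have hpcU : PCCx m G U ψ := (rel_toD_iff_forall_pcCx f m G).1 (rel_of_iso f eG.symm m hE)
    ⟨U, hU⟩ ⟨W, hW⟩ hUW k ψ ⟨hψs, hψC⟩
  have h1 := (pcCx_iff_ring_of_tildeD U hU ψ hψs G M eM' m).1 hpcU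
  obtain ⟨e'⟩ := nonempty_restrictD_lpull_iso g' E Γ(X, U)
    Γ(X', g' ⁻¹ᵁ U ⊓ f' ⁻¹ᵁ V') hU.fromSpec hU'.fromSpec
    (hU.SpecMap_appLE_fromSpec g' hU' inf_le_left).symm M eM
  obtain ⟨eM''⟩ := nonempty_tildeD_iso_push ((DCoh.Lpull g').obj E) G' eG' _ hU' _ e'
  rw [pcCx_iff_ring_of_tildeD _ hU' _ hψ's G' _ eM'' m]
  -- a complex representing `M`
  let M₀ := (DerivedCategory.Q : _ ⥤ Dual.D Γ(X, U)).objPreimage M
  let eM₀ : DerivedCategory.Q.obj M₀ ≅ M := DerivedCategory.Q.objObjPreimageIso M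
  have h2 : DRing.IsPseudoCoherent (MvPolynomial (Fin k) Γ(S, W)) m
      ((DRing.restrictD φ.toRingHom).obj (DerivedCategory.Q.obj M₀)) :=
    isPC_of_iso ((DRing.restrictD ψ).mapIso eM₀.symm) h1
  letI b1 : Algebra (MvPolynomial (Fin k) Γ(S, W)) Γ(X, U) := φ.toRingHom.toAlgebra
  letI b2 : Algebra (MvPolynomial (Fin k) Γ(S', V')) Γ(X', g' ⁻¹ᵁ U ⊓ f' ⁻¹ᵁ V') :=
    (chartBC Γ(S', V') Γ(X', g' ⁻¹ᵁ U ⊓ f' ⁻¹ᵁ V') φ).toRingHom.toAlgebra
  letI b3 : Algebra (MvPolynomial (Fin k) Γ(S, W)) Γ(X', g' ⁻¹ᵁ U ⊓ f' ⁻¹ᵁ V') :=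
    ((algebraMap Γ(X, U) Γ(X', g' ⁻¹ᵁ U ⊓ f' ⁻¹ᵁ V')).comp φ.toRingHom).toAlgebra
  obtain ⟨s2, s4, hpo⟩ := chartBC_isPushout Γ(S, W) Γ(S', V') Γ(X, U)
    Γ(X', g' ⁻¹ᵁ U ⊓ f' ⁻¹ᵁ V') φ
  letI b4 : Algebra (MvPolynomial (Fin k) Γ(S, W)) (MvPolynomial (Fin k) Γ(S', V')) :=
    MvPolynomial.algebraMvPolynomial
  have h3 := isPC_extD (A := MvPolynomial (Fin k) Γ(S, W))
    (B := MvPolynomial (Fin k) Γ(S', V')) _ m h2
  have h4 := isPC_of_iso (bcDIso (P := MvPolynomial (Fin k) Γ(S, W)) (A := Γ(X, U))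
    (MvPolynomial (Fin k) Γ(S', V')) Γ(X', g' ⁻¹ᵁ U ⊓ f' ⁻¹ᵁ V') M₀) h3
  refine isPC_of_iso ((DRing.restrictD _).mapIso ?_) h4
  exact (mapQIso (ext _ _) M₀).symm ≪≫ (extD _ _).mapIso eM₀

end Sch

end Groth.Agent.Lib.H6xRelDesc
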