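import Mathlib
import Groth.Agent.Lib.H6xFinRelA
import Groth.Agent.Lib.H6xRelDescB
import Groth.Agent.S6984
set_option backward.isDefEq.respectTransparency.types false

/-!
# Relative pseudo-coherence and `Rπ_*` for a finite morphism (helper6; S7210)
-/

set_option autoImplicit false
set_option linter.style.haveILetI false
set_option linter.unusedVariables false
set_option linter.unusedSectionVars false
universe u
open CategoryTheory CategoryTheory.Limits AlgebraicGeometry TopologicalSpace Opposite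

attribute [local instance] HasDerivedCategory.standard

namespace Groth.Agent.Lib.H6xFinRel

open Groth.Agent.Lib.H6xChart Groth.Agent.Lib.H6xRelDesc

variable {X Y S : Scheme.{u}}

/-- translation of the chart test into ring-level relative pseudo-coherence -/
theorem exists_chart_iff_ring (f : X ⟶ S) (m : ℤ) (E : DCoh.D X)
    [∀ R : CommRingCat.{u}, PreservesFiniteLimits (tilde.functor R)]
    (U : X.affineOpens) (W : S.affineOpens) (hUW : (U : X.Opens) ≤ f ⁻¹ᵁ (W : S.Opens))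
    (M : Dual.D Γ(X, (U : X.Opens)))
    (eM : (DCoh.restrictD U.2.fromSpec).obj E ≅
      (DCoh.tildeD (X.presheaf.obj (op (U : X.Opens)))).obj M) :
    (∃ (n : ℕ) (φ : MvPolynomial (Fin n) Γ(S, (W : S.Opens)) →+* Γ(X, (U : X.Opens))),
        DerSch.IsChart f (U : X.Opens) (W : S.Opens) hUW φ ∧
          DerSch.ChartPC m E (U : X.Opens) (W : S.Opens) φ) ↔
      (letI := (f.appLE (W : S.Opens) (U : X.Opens) hUW).hom.toAlgebra
       DerCA.IsRelPseudoCoherent Γ(S, (W : S.Opens)) Γ(X, (U : X.Opens)) m M) := by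
  let G := (DerivedCategory.Q : _ ⥤ DCoh.D X).objPreimage E
  let eG : DCoh.toD X G ≅ E := DerivedCategory.Q.objObjPreimageIso E
  obtain ⟨eM'⟩ := nonempty_tildeD_iso_push E G eG (U : X.Opens) U.2 M eM
  letI := (f.appLE (W : S.Opens) (U : X.Opens) hUW).hom.toAlgebra
  constructor
  · rintro ⟨n, φ, hφ, hpc⟩
    have h1 := (chartPC_iff_pcCx (U : X.Opens) U.2 (W : S.Opens) φ hφ.1 G E eG m).1 hpc
    have h2 := (pcCx_iff_ring_of_tildeD (U : X.Opens) U.2 φ hφ.1 G M eM' m).1 h1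
    refine ⟨n, { toRingHom := φ, commutes' := fun r => ?_ }, hφ.1, h2⟩
    exact congrArg (fun χ : _ →+* _ => χ r) hφ.2
  · rintro ⟨n, α, hα, hvia⟩
    let φ : MvPolynomial (Fin n) Γ(S, (W : S.Opens)) →+* Γ(X, (U : X.Opens)) := α
    have hchart : DerSch.IsChart f (U : X.Opens) (W : S.Opens) hUW φ := by
      refine ⟨hα, RingHom.ext fun r => ?_⟩
      exact α.commutes r
    refine ⟨n, φ, hchart, ?_⟩
    rw [chartPC_iff_pcCx (U : X.Opens) U.2 (W : S.Opens) φ hα G E eG m]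
    exact (pcCx_iff_ring_of_tildeD (U : X.Opens) U.2 φ hα G M eM' m).2 hvia

/-- the chart tests for `E` on `π⁻¹V` and for `Rπ_* E` on `V` are equivalent -/
theorem exists_chart_iff (q : Y ⟶ S) [LocallyOfFiniteType q] (π : X ⟶ Y) [IsFinite π]
    [LocallyOfFiniteType (π ≫ q)] (m : ℤ) (E : DCoh.D X) (hE : DCoh.IsQCohD E)
    (V : Y.affineOpens) (W : S.affineOpens) (hVW : (V : Y.Opens) ≤ q ⁻¹ᵁ (W : S.Opens))
    (hU : IsAffineOpen (π ⁻¹ᵁ (V : Y.Opens)))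
    (hUW : π ⁻¹ᵁ (V : Y.Opens) ≤ (π ≫ q) ⁻¹ᵁ (W : S.Opens)) :
    (∃ (n : ℕ) (φ : MvPolynomial (Fin n) Γ(S, (W : S.Opens)) →+* Γ(X, π ⁻¹ᵁ (V : Y.Opens))),
        DerSch.IsChart (π ≫ q) (π ⁻¹ᵁ (V : Y.Opens)) (W : S.Opens) hUW φ ∧
          DerSch.ChartPC m E (π ⁻¹ᵁ (V : Y.Opens)) (W : S.Opens) φ) ↔
      (∃ (n : ℕ) (φ : MvPolynomial (Fin n) Γ(S, (W : S.Opens)) →+* Γ(Y, (V : Y.Opens))),
        DerSch.IsChart q (V : Y.Opens) (W : S.Opens) hVW φ ∧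
          DerSch.ChartPC m ((DCoh.Rpush π).obj E) (V : Y.Opens) (W : S.Opens) φ) := by
  haveI : ∀ R : CommRingCat.{u}, PreservesFiniteLimits (tilde.functor R) := fun R =>
    (Groth.Agent.S9498.aux R).1
  obtain ⟨M, ⟨eM⟩⟩ := Groth.Agent.Lib.H6xRelFlat.exists_tildeD_iso' Γ(X, π ⁻¹ᵁ (V : Y.Opens)) E hE
    hU.fromSpec
  obtain ⟨eM₂⟩ := nonempty_restrictD_Rpush_iso π (V : Y.Opens) V.2 hU E M eM
  rw [exists_chart_iff_ring (π ≫ q) m E ⟨_, hU⟩ W hUW M eM,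
    exists_chart_iff_ring q m ((DCoh.Rpush π).obj E) V W hVW _ eM₂]
  -- the algebra structures
  letI a1 : Algebra Γ(S, (W : S.Opens)) Γ(Y, (V : Y.Opens)) :=
    (q.appLE (W : S.Opens) (V : Y.Opens) hVW).hom.toAlgebra
  letI a2 : Algebra Γ(Y, (V : Y.Opens)) Γ(X, π ⁻¹ᵁ (V : Y.Opens)) :=
    (π.appLE (V : Y.Opens) (π ⁻¹ᵁ (V : Y.Opens)) le_rfl).hom.toAlgebra
  letI a3 : Algebra Γ(S, (W : S.Opens)) Γ(X, π ⁻¹ᵁ (V : Y.Opens)) :=
    ((π ≫ q).appLE (W : S.Opens) (π ⁻¹ᵁ (V : Y.Opens)) hUW).hom.toAlgebra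
  haveI t : IsScalarTower Γ(S, (W : S.Opens)) Γ(Y, (V : Y.Opens)) Γ(X, π ⁻¹ᵁ (V : Y.Opens)) := by
    refine IsScalarTower.of_algebraMap_eq' ?_
    have h := Scheme.Hom.appLE_comp_appLE π q (W : S.Opens) (V : Y.Opens) (π ⁻¹ᵁ (V : Y.Opens))
      hVW le_rfl
    exact congrArg CommRingCat.Hom.hom h.symm
  haveI f1 : Algebra.FiniteType Γ(S, (W : S.Opens)) Γ(Y, (V : Y.Opens)) :=
    LocallyOfFiniteType.finiteType_appLE q W.2 V.2 hVW
  haveI f2 : Algebra.FiniteType Γ(S, (W : S.Opens)) Γ(X, π ⁻¹ᵁ (V : Y.Opens)) :=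
    LocallyOfFiniteType.finiteType_appLE (π ≫ q) W.2 hU hUW
  haveI f3 : Module.Finite Γ(Y, (V : Y.Opens)) Γ(X, π ⁻¹ᵁ (V : Y.Opens)) := by
    have h := IsFinite.finite_app π (V : Y.Opens) V.2
    rw [Scheme.Hom.app_eq_appLE] at h
    exact h
  exact (Groth.Agent.S6984.result (R := Γ(S, (W : S.Opens))) (A := Γ(Y, (V : Y.Opens)))
    (B := Γ(X, π ⁻¹ᵁ (V : Y.Opens))) M m).1

/-- **S7210** -/
theorem main_S7210 (p : X ⟶ S) (q : Y ⟶ S) [LocallyOfFiniteType p] [LocallyOfFiniteType q]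
    (π : X ⟶ Y) [IsFinite π] (w : π ≫ q = p) [DCoh.HasRpush π] (m : ℤ) (E : DCoh.D X)
    (hE : DCoh.IsQCohD E) :
    DerSch.IsPseudoCoherentRel p m E ↔
      DerSch.IsPseudoCoherentRel q m ((DCoh.Rpush π).obj E) := by
  subst w
  constructor
  · intro h
    rw [rel_iff_local]
    intro y
    obtain ⟨W, hyW⟩ := exists_affine_nhd (q.base y)
    obtain ⟨V, hyV, hVle⟩ := exists_affine_nhd_le q y (W : S.Opens) hyW
    have hU : IsAffineOpen (π ⁻¹ᵁ (V : Y.Opens)) := V.2.preimage π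
    have hUW : π ⁻¹ᵁ (V : Y.Opens) ≤ (π ≫ q) ⁻¹ᵁ (W : S.Opens) := fun x hx => hVle hx
    obtain ⟨n, φ, hφ, hpc⟩ := (exists_chart_iff q π m E hE V W hVle hU hUW).1
      ((main_S7208 (π ≫ q) m E).1 h ⟨_, hU⟩ W hUW)
    exact ⟨V, W, hVle, n, φ, hyV, hφ, hpc⟩
  · intro h
    rw [rel_iff_local]
    intro x
    obtain ⟨W, hyW⟩ := exists_affine_nhd (q.base (π.base x))
    obtain ⟨V, hyV, hVle⟩ := exists_affine_nhd_le q (π.base x) (W : S.Opens) hyW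
    have hU : IsAffineOpen (π ⁻¹ᵁ (V : Y.Opens)) := V.2.preimage π
    have hUW : π ⁻¹ᵁ (V : Y.Opens) ≤ (π ≫ q) ⁻¹ᵁ (W : S.Opens) := fun x hx => hVle hx
    obtain ⟨n, φ, hφ, hpc⟩ := (exists_chart_iff q π m E hE V W hVle hU hUW).2
      ((main_S7208 q m _).1 h V W hVle)
    exact ⟨⟨_, hU⟩, W, hUW, n, φ, hyV, hφ, hpc⟩

end Groth.Agent.Lib.H6xFinRel
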