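import Mathlib
import Groth.Agent.Lib.Helper18Fitt4

set_option autoImplicit false
universe u v

namespace Groth.Agent.Lib.H6xFittProd

open Matrix Groth.Agent.Helper18Fitt

section Det

variable {R : Type u} [CommRing R] {ι ι' : Type} [Fintype ι] [DecidableEq ι] [Fintype ι']
  [DecidableEq ι']

/-- a matrix whose rows in `P` vanish on the right columns and whose other rows vanish on the
left columns has determinant zero unless `P` has as many elements as there are left columns -/
theorem det_eq_zero_of_card_ne (B : Matrix (ι ⊕ ι') (ι ⊕ ι') R) (P : Finset (ι ⊕ ι'))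
    (h1 : ∀ r ∈ P, ∀ j', B r (Sum.inr j') = 0) (h2 : ∀ r ∉ P, ∀ j, B r (Sum.inl j) = 0)
    (hcard : P.card ≠ Fintype.card ι) : B.det = 0 := by
  classical
  rw [Matrix.det_apply']
  refine Finset.sum_eq_zero fun σ _ => ?_
  have hex : ∃ c : ι ⊕ ι', ¬ (c.isLeft ↔ σ c ∈ P) := by
    by_contra hcon
    push Not at hcon
    apply hcard
    have hP : P = (Finset.univ.filter fun c : ι ⊕ ι' => c.isLeft).image σ := by
      ext r
      simp only [Finset.mem_image, Finset.mem_filter, Finset.mem_univ, true_and]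
      constructor
      · intro hr
        refine ⟨σ.symm r, ?_, by simp⟩
        rw [hcon]; simpa using hr
      · rintro ⟨c, hc, rfl⟩
        exact (hcon c).mp hc
    rw [hP, Finset.card_image_of_injective _ σ.injective]
    have : (Finset.univ.filter fun c : ι ⊕ ι' => c.isLeft) = Finset.univ.map ⟨Sum.inl, Sum.inl_injective⟩ := by
      ext c
      rcases c with c | c <;> simp
    rw [this, Finset.card_map, Finset.card_univ]
  obtain ⟨c, hc⟩ := hex
  have hzero : B (σ c) c = 0 := by
    rcases c with j | j'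
    · have : σ (Sum.inl j) ∉ P := by simpa using hc
      exact h2 _ this j
    · have : σ (Sum.inr j') ∈ P := by simpa using hc
      exact h1 _ this j'
  have hprod : ∏ i, B (σ i) i = 0 := Finset.prod_eq_zero (Finset.mem_univ c) hzero
  rw [hprod, mul_zero]

end Det

section Main

variable {R : Type u} [CommRing R] {M : Type v} [AddCommGroup M] [Module R M]
  {M' : Type v} [AddCommGroup M'] [Module R M']

theorem T_mono' {k k' : ℕ} (h : k ≤ k') {ι : Type} [Fintype ι] [DecidableEq ι] (x : ι → M) :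
    T (R := R) k ι x ≤ T k' ι x := by
  unfold T
  apply Ideal.span_mono
  rintro d ⟨a, S, hS, hr, rfl⟩
  exact ⟨a, S, hS.trans h, hr, rfl⟩

/-- the combined family -/
def zfam {ι ι' : Type} (x : ι → M) (x' : ι' → M') : ι ⊕ ι' → M × M' :=
  Sum.elim (fun i => (x i, 0)) (fun j => (0, x' j))

theorem sum_zfam {ι ι' : Type} [Fintype ι] [Fintype ι'] (x : ι → M) (x' : ι' → M')
    (c : ι ⊕ ι' → R) :
    ∑ s, c s • zfam x x' s = (∑ i, c (Sum.inl i) • x i, ∑ j, c (Sum.inr j) • x' j) := by
  rw [Fintype.sum_sum_type]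
  simp only [zfam, Sum.elim_inl, Sum.elim_inr]
  ext
  · simp [Prod.fst_sum]
  · simp [Prod.snd_sum]

theorem mul_le {ι ι' : Type} [Fintype ι] [DecidableEq ι] [Fintype ι'] [DecidableEq ι']
    (x : ι → M) (x' : ι' → M') (k k' l : ℕ) (h : k + k' ≤ l) :
    T (R := R) k ι x * T k' ι' x' ≤ T l (ι ⊕ ι') (zfam x x') := by
  show Ideal.span _ * Ideal.span _ ≤ _
  rw [Ideal.span_mul_span', Ideal.span_le]
  rintro _ ⟨_, ⟨a, S, hS, ha, rfl⟩, _, ⟨a', S', hS', ha', rfl⟩, rfl⟩
  show a.det * a'.det ∈ T l (ι ⊕ ι') (zfam x x')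
  rw [← Matrix.det_fromBlocks_zero₂₁ a 0 a']
  refine mem_T_of _ (S.disjSum S') (by rw [Finset.card_disjSum]; omega) ?_
  intro r hr
  rw [sum_zfam]
  rcases r with i | j
  · have hi : i ∉ S := by simpa using hr
    simp [ha i hi]
  · have hj : j ∉ S' := by simpa using hr
    simp [ha' j hj]

theorem le_sum {ι ι' : Type} [Fintype ι] [DecidableEq ι] [Fintype ι'] [DecidableEq ι']
    (x : ι → M) (x' : ι' → M') (l : ℕ) :
    T (R := R) l (ι ⊕ ι') (zfam x x') ≤
      ∑ k ∈ Finset.range (l + 1), T (R := R) k ι x * T (R := R) (l - k) ι' x' := by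
  classical
  set J : Ideal R := ∑ k ∈ Finset.range (l + 1), T (R := R) k ι x * T (R := R) (l - k) ι' x'
    with hJ
  show Ideal.span _ ≤ _
  rw [Ideal.span_le]
  rintro _ ⟨A, S, hS, hA, rfl⟩
  show A.det ∈ J
  have hA1 : ∀ r, r ∉ S → ∑ j, A r (Sum.inl j) • x j = 0 := fun r hr => by
    have := hA r hr
    rw [sum_zfam] at this
    exact (Prod.ext_iff.mp this).1
  have hA2 : ∀ r, r ∉ S → ∑ j, A r (Sum.inr j) • x' j = 0 := fun r hr => by
    have := hA r hr
    rw [sum_zfam] at this
    exact (Prod.ext_iff.mp this).2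
  let u : (ι ⊕ ι') → (ι ⊕ ι') → R :=
    fun r c => Sum.elim (fun j => A r (Sum.inl j)) (fun _ => 0) c
  let v : (ι ⊕ ι') → (ι ⊕ ι') → R :=
    fun r c => Sum.elim (fun _ => 0) (fun j => A r (Sum.inr j)) c
  have hAuv : A = Matrix.of (u + v) := by
    ext r c
    rcases c with j | j <;> simp [u, v]
  have hdet : A.det = ∑ P : Finset (ι ⊕ ι'), (Matrix.of (P.piecewise u v)).det := by
    conv_lhs => rw [hAuv]
    exact (Matrix.detRowAlternating (R := R) (n := ι ⊕ ι')).toMultilinearMap.map_add_univ u v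
  rw [hdet]
  refine Ideal.sum_mem _ fun P _ => ?_
  by_cases hcard : P.card = Fintype.card ι
  swap
  · rw [det_eq_zero_of_card_ne _ P ?_ ?_ hcard]
    · exact zero_mem _
    · intro r hr j'
      simp [Finset.piecewise_eq_of_mem _ _ _ hr, u]
    · intro r hr j
      simp [Finset.piecewise_eq_of_notMem _ _ _ hr, v]
  -- a permutation moving `P` to the left summand
  obtain ⟨τ, hτ1, hτ2⟩ : ∃ τ : Equiv.Perm (ι ⊕ ι'), (∀ i, τ (Sum.inl i) ∈ P) ∧
      (∀ j, τ (Sum.inr j) ∉ P) := by
    have hc1 : Fintype.card ι = Fintype.card {r // r ∈ P} := by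
      rw [Fintype.card_coe, hcard]
    have hc2 : Fintype.card ι' = Fintype.card {r // ¬ r ∈ P} := by
      have := Fintype.card_congr (Equiv.sumCompl (· ∈ P))
      rw [Fintype.card_sum, Fintype.card_sum] at this
      omega
    let e1 : ι ≃ {r // r ∈ P} := Fintype.equivOfCardEq hc1
    let e2 : ι' ≃ {r // ¬ r ∈ P} := Fintype.equivOfCardEq hc2
    refine ⟨(Equiv.sumCongr e1 e2).trans (Equiv.sumCompl (· ∈ P)), fun i => ?_, fun j => ?_⟩
    · simp
    · simpa using (e2 j).2
  set A₁ : Matrix ι ι R := Matrix.of fun i j => A (τ (Sum.inl i)) (Sum.inl j) with hA₁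
  set A₂ : Matrix ι' ι' R := Matrix.of fun i j => A (τ (Sum.inr i)) (Sum.inr j) with hA₂
  have hblock : (Matrix.of (P.piecewise u v)).submatrix τ id = Matrix.fromBlocks A₁ 0 0 A₂ := by
    ext r c
    rcases r with i | i <;> rcases c with j | j
    · simp [Finset.piecewise_eq_of_mem _ _ _ (hτ1 i), u, hA₁]
    · simp [Finset.piecewise_eq_of_mem _ _ _ (hτ1 i), u]
    · simp [Finset.piecewise_eq_of_notMem _ _ _ (hτ2 i), v]
    · simp [Finset.piecewise_eq_of_notMem _ _ _ (hτ2 i), v, hA₂]
  have hdet2 : ((Equiv.Perm.sign τ : ℤ) : R) * (Matrix.of (P.piecewise u v)).det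
      = A₁.det * A₂.det := by
    rw [← Matrix.det_permute, hblock, Matrix.det_fromBlocks_zero₂₁]
  -- the free rows
  set S' : Finset (ι ⊕ ι') := S.map τ.symm.toEmbedding with hS'
  have hS'card : S'.toLeft.card + S'.toRight.card ≤ l := by
    rw [Finset.card_toLeft_add_card_toRight, hS', Finset.card_map]
    exact hS
  have hmem1 : A₁.det ∈ T (R := R) S'.toLeft.card ι x := by
    refine mem_T_of A₁ S'.toLeft le_rfl fun i hi => ?_
    have : τ (Sum.inl i) ∉ S := by
      intro hc
      apply hi
      rw [Finset.mem_toLeft, hS', Finset.mem_map_equiv]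
      simpa using hc
    simpa [hA₁] using hA1 _ this
  have hmem2 : A₂.det ∈ T (R := R) (l - S'.toLeft.card) ι' x' := by
    refine T_mono' (by omega : S'.toRight.card ≤ l - S'.toLeft.card) x' ?_
    refine mem_T_of A₂ S'.toRight le_rfl fun i hi => ?_
    have : τ (Sum.inr i) ∉ S := by
      intro hc
      apply hi
      rw [Finset.mem_toRight, hS', Finset.mem_map_equiv]
      simpa using hc
    simpa [hA₂] using hA2 _ this
  have hprod : A₁.det * A₂.det ∈ J := by
    have hk : S'.toLeft.card ∈ Finset.range (l + 1) := by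
      rw [Finset.mem_range]; omega
    have hle : T (R := R) S'.toLeft.card ι x * T (R := R) (l - S'.toLeft.card) ι' x' ≤ J := by
      rw [hJ, Ideal.sum_eq_sup]
      exact Finset.le_sup (f := fun k => T (R := R) k ι x * T (R := R) (l - k) ι' x') hk
    exact hle (Ideal.mul_mem_mul hmem1 hmem2)
  rw [← hdet2] at hprod
  have hunit : IsUnit (((Equiv.Perm.sign τ : ℤ) : R)) := by
    have : IsUnit ((Equiv.Perm.sign τ : ℤ)) := (Equiv.Perm.sign τ).isUnit
    exact this.map (Int.castRingHom R)
  exact (Ideal.unit_mul_mem_iff_mem J hunit).mp hprod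

theorem T_zfam {ι ι' : Type} [Fintype ι] [DecidableEq ι] [Fintype ι'] [DecidableEq ι']
    (x : ι → M) (x' : ι' → M') (l : ℕ) :
    T (R := R) l (ι ⊕ ι') (zfam x x') =
      ∑ k ∈ Finset.range (l + 1), T (R := R) k ι x * T (R := R) (l - k) ι' x' := by
  apply le_antisymm (le_sum x x' l)
  rw [Ideal.sum_eq_sup]
  refine Finset.sup_le fun k hk => ?_
  rw [Finset.mem_range] at hk
  exact mul_le x x' k (l - k) l (by omega)

theorem span_zfam {ι ι' : Type} (x : ι → M) (x' : ι' → M')
    (hx : Submodule.span R (Set.range x) = ⊤) (hx' : Submodule.span R (Set.range x') = ⊤) :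
    Submodule.span R (Set.range (zfam x x')) = ⊤ := by
  rw [eq_top_iff]
  rintro ⟨m, m'⟩ -
  have h1 : ∀ m : M, ((m, 0) : M × M') ∈ Submodule.span R (Set.range (zfam x x')) := by
    intro m
    have hm : m ∈ Submodule.span R (Set.range x) := by rw [hx]; trivial
    induction hm using Submodule.span_induction with
    | mem y hy =>
      obtain ⟨i, rfl⟩ := hy
      exact Submodule.subset_span ⟨Sum.inl i, rfl⟩
    | zero => exact zero_mem _
    | add a b _ _ ha hb =>
      have : ((a + b, 0) : M × M') = (a, 0) + (b, 0) := by simp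
      rw [this]; exact add_mem ha hb
    | smul c a _ ha =>
      have : ((c • a, 0) : M × M') = c • (a, 0) := by simp
      rw [this]; exact Submodule.smul_mem _ _ ha
  have h2 : ∀ m' : M', ((0, m') : M × M') ∈ Submodule.span R (Set.range (zfam x x')) := by
    intro m
    have hm : m ∈ Submodule.span R (Set.range x') := by rw [hx']; trivial
    induction hm using Submodule.span_induction with
    | mem y hy =>
      obtain ⟨i, rfl⟩ := hy
      exact Submodule.subset_span ⟨Sum.inr i, rfl⟩
    | zero => exact zero_mem _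
    | add a b _ _ ha hb =>
      have : ((0, a + b) : M × M') = (0, a) + (0, b) := by simp
      rw [this]; exact add_mem ha hb
    | smul c a _ ha =>
      have : ((0, c • a) : M × M') = c • (0, a) := by simp
      rw [this]; exact Submodule.smul_mem _ _ ha
  have : ((m, m') : M × M') = (m, 0) + (0, m') := by simp
  rw [this]
  exact add_mem (h1 m) (h2 m')

end Main

section Final

variable (R : Type u) [CommRing R] (M M' : Type u) [AddCommGroup M] [Module R M]
  [AddCommGroup M'] [Module R M'] [Module.Finite R M] [Module.Finite R M']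

theorem main (l : ℕ) :
    Fitt.ideal R (M × M') l =
      ∑ k ∈ Finset.range (l + 1), Fitt.ideal R M k * Fitt.ideal R M' (l - k) := by
  classical
  obtain ⟨n, x, hx⟩ := Module.Finite.exists_fin (R := R) (M := M)
  obtain ⟨n', x', hx'⟩ := Module.Finite.exists_fin (R := R) (M := M')
  have hz := span_zfam x x' hx hx'
  have hz' : Submodule.span R (Set.range (zfam x x' ∘ finSumFinEquiv.symm)) = ⊤ := by
    rw [Set.range_comp, Equiv.range_eq_univ, Set.image_univ]; exact hz
  rw [fitt_eq_T (zfam x x' ∘ finSumFinEquiv.symm) hz' l, T_equiv, T_zfam]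
  refine Finset.sum_congr rfl fun k _ => ?_
  rw [fitt_eq_T x hx k, fitt_eq_T x' hx' (l - k)]

end Final

end Groth.Agent.Lib.H6xFittProd
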