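import Groth.Agent.Lib.H6xTPointB

set_option autoImplicit false

/-! T-points of cubic surfaces: a frame of the tangent plane at a non-T-point adapted to the
tangent cone of the tangent section, and the rational parametrisation of the tangent section;
only finitely many T-points lie in the tangent plane at a non-T-point. -/

namespace Groth.Agent.Lib.H6xTPoint

open MvPolynomial Groth.Agent.Lib.H6xCubicForm Groth.Agent.Lib.H6xNodalCubic
  Groth.Agent.Lib.H6xCubicSing Groth.Agent.Lib.H6xCubicPolar Module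

section good

variable {K : Type*} [Field K] [CharZero K] [IsAlgClosed K]
  (f : MvPolynomial (Fin 4) K) (hf : f.IsHomogeneous 3) (a : Fin 4 → K) (hFa : eval a f = 0)

include hf hFa in
theorem exists_good_frame (ha : a ≠ 0) (hsm : Dlin f a ≠ 0)
    (hnT : ¬ ∃ L₁ L₂ L₃ : MvPolynomial (Fin 4) K, L₁.IsHomogeneous 1 ∧ L₂.IsHomogeneous 1 ∧
      L₃.IsHomogeneous 1 ∧ f - L₁ * L₂ * L₃ ∈ Ideal.span {linpoly (Dlin f a)}) :
    ∃ (e1 e2 e3 : Fin 4 → K) (ξ0 ξ1 ξ2 : (Fin 4 → K) →ₗ[K] K),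
      (∀ x, D f a x = 0 → x = ξ0 x • a + (ξ1 x • e1 + ξ2 x • e2)) ∧
      D f a e1 = 0 ∧ D f a e2 = 0 ∧ D f a e3 = 1 ∧ Q f a e1 = 0 ∧ Q f a e2 ≠ 0 := by
  have hla : Dlin f a a = 0 := D_a_a f hf a hFa
  obtain ⟨bas, h0, h1, h2, h3⟩ := exists_adapted_basis (Dlin f a) hsm a ha hla
  have hne : ¬ (Q f a (bas 1) = 0 ∧ Q f a (bas 2) = 0 ∧ B f a (bas 1) (bas 2) = 0) := by
    rintro ⟨hQ1, hQ2, hB⟩
    exact hnT (exists_three_lines f hf a hFa bas h0 h1 h2 h3 hsm hQ1 hQ2 hB)
  obtain ⟨p, r, p', r', hfac⟩ := Groth.Agent.Lib.H6xPlaneConic.exists_binary_factor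
    (Q f a (bas 1)) (B f a (bas 1) (bas 2)) (Q f a (bas 2))
  have hQst : ∀ s t : K, Q f a (s • bas 1 + t • bas 2) = (p * s + r * t) * (p' * s + r' * t) := by
    intro s t
    rw [Q_add f hf, Q_smul f hf, Q_smul f hf, B_smul_left, B_smul_right, ← hfac]
    ring
  obtain ⟨s, t, hst⟩ : ∃ s t : K, Q f a (s • bas 1 + t • bas 2) ≠ 0 := by
    by_contra hcon
    push Not at hcon
    apply hne
    have e1 := hcon 1 0
    have e2 := hcon 0 1
    have e3 := hcon 1 1
    rw [Q_add f hf, Q_smul f hf, Q_smul f hf, B_smul_left, B_smul_right] at e1 e2 e3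
    refine ⟨by linear_combination e1, by linear_combination e2, ?_⟩
    linear_combination e3 - e1 - e2
  have hδ : p * s + r * t ≠ 0 := by
    intro h
    apply hst
    rw [hQst, h, zero_mul]
  have h1' : D f a (bas 1) = 0 := h1
  have h2' : D f a (bas 2) = 0 := h2
  have h3' : D f a (bas 3) = 1 := h3
  refine ⟨r • bas 1 + (-p) • bas 2, s • bas 1 + t • bas 2, bas 3, bas.coord 0,
    (p * s + r * t)⁻¹ • (t • bas.coord 1 - s • bas.coord 2),
    (p * s + r * t)⁻¹ • (p • bas.coord 1 + r • bas.coord 2), ?_, ?_, ?_, h3', ?_, hst⟩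
  · intro x hx
    have hc3 : bas.coord 3 x = 0 := by
      rw [← D_eq_coord f hf a hFa bas h0 h1' h2' h3', hx]
    have hx' := decomp bas x
    rw [hc3, zero_smul, add_zero, h0] at hx'
    simp only [LinearMap.smul_apply, LinearMap.sub_apply, LinearMap.add_apply, smul_eq_mul]
    set y0 := bas.coord 0 x
    set y1 := bas.coord 1 x
    set y2 := bas.coord 2 x
    have e1 : y1 = (p * s + r * t)⁻¹ * (t * y1 - s * y2) * r +
        (p * s + r * t)⁻¹ * (p * y1 + r * y2) * s := by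
      field_simp
      ring
    have e2 : y2 = (p * s + r * t)⁻¹ * (t * y1 - s * y2) * (-p) +
        (p * s + r * t)⁻¹ * (p * y1 + r * y2) * t := by
      field_simp
      ring
    conv_lhs => rw [hx', e1, e2]
    module
  · rw [D_add_right, D_smul_right, D_smul_right, h1', h2']; ring
  · rw [D_add_right, D_smul_right, D_smul_right, h1', h2']; ring
  · rw [hQst]; ring

end good

section cover

variable {K : Type*} [Field K] [CharZero K] [IsAlgClosed K]
  (f : MvPolynomial (Fin 4) K) (hf : f.IsHomogeneous 3) (a : Fin 4 → K) (hFa : eval a f = 0)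
  (e1 e2 e3 : Fin 4 → K) (ξ0 ξ1 ξ2 : (Fin 4 → K) →ₗ[K] K)
  (hdec : ∀ x, D f a x = 0 → x = ξ0 x • a + (ξ1 x • e1 + ξ2 x • e2))
  (hD1 : D f a e1 = 0) (hD2 : D f a e2 = 0) (hD3 : D f a e3 = 1)
  (hQ1 : Q f a e1 = 0)

include hf hFa hD1 hD2 hQ1 in
theorem F_comb (x0 x1 x2 : K) :
    eval (x0 • a + (x1 • e1 + x2 • e2)) f =
      x0 * (B f a e1 e2 * x1 * x2 + Q f a e2 * x2 ^ 2) +
      (eval e1 f * x1 ^ 3 + D f e1 e2 * x1 ^ 2 * x2 + D f e2 e1 * x1 * x2 ^ 2 +
        eval e2 f * x2 ^ 3) := by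
  rw [restrict_expansion f hf a hFa e1 e2 hD1 hD2, hQ1]
  ring

include hD1 hD3 in
theorem w1_a : w1 f e1 e3 a = e1 := by
  rw [w1, hD3, hD1]; simp

include hD2 hD3 in
theorem w2_a : w2 f e2 e3 a = e2 := by
  rw [w2, hD3, hD2]; simp

include hD1 hD2 hD3 hQ1 in
theorem PhiA_a : PhiA f e1 e2 e3 a = Q f a e2 ^ 2 * eval e1 f := by
  rw [PhiA, w1_a f a e1 e3 hD1 hD3, w2_a f a e2 e3 hD2 hD3, hQ1, minorA]
  ring

include hD1 hD2 hD3 hQ1 in
theorem PhiB_a : PhiB f e1 e2 e3 a = B f a e1 e2 ^ 2 * eval e2 f -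
    B f a e1 e2 * Q f a e2 * D f e2 e1 + Q f a e2 ^ 2 * D f e1 e2 := by
  rw [PhiB, w1_a f a e1 e3 hD1 hD3, w2_a f a e2 e3 hD2 hD3, hQ1, minorB]
  ring

include hf hFa hdec hD1 hD2 hD3 hQ1 in
/-- if the cubic part is divisible by the quadratic part, `a` is a T-point. -/
theorem tp_of_minors (hQ2 : Q f a e2 ≠ 0) (hc0 : eval e1 f = 0)
    (hB : B f a e1 e2 ^ 2 * eval e2 f - B f a e1 e2 * Q f a e2 * D f e2 e1 +
      Q f a e2 ^ 2 * D f e1 e2 = 0) :
    ∃ L₁ L₂ L₃ : MvPolynomial (Fin 4) K, L₁.IsHomogeneous 1 ∧ L₂.IsHomogeneous 1 ∧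
      L₃.IsHomogeneous 1 ∧ f - L₁ * L₂ * L₃ ∈ Ideal.span {linpoly (Dlin f a)} := by
  have hsm : Dlin f a ≠ 0 := by
    intro h
    have : Dlin f a e3 = 1 := hD3
    rw [h] at this
    simp at this
  set q1 := B f a e1 e2 with hq1
  set q2 := Q f a e2 with hq2
  set c1 := D f e1 e2 with hc1
  set c2 := D f e2 e1 with hc2
  set c3 := eval e2 f with hc3
  refine ⟨linpoly ξ2, linpoly (q1 • ξ1 + q2 • ξ2),
    linpoly (ξ0 + ((c2 * q2 - q1 * c3) / q2 ^ 2) • ξ1 + (c3 / q2) • ξ2),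
    linpoly_isHomogeneous _, linpoly_isHomogeneous _, linpoly_isHomogeneous _, ?_⟩
  apply mem_span_linpoly_of_vanish _ hsm
  intro x hx
  have hx' : D f a x = 0 := hx
  have hFx := F_comb f hf a hFa e1 e2 hD1 hD2 hQ1 (ξ0 x) (ξ1 x) (ξ2 x)
  rw [← hdec x hx'] at hFx
  rw [map_sub, map_mul, map_mul, eval_linpoly, eval_linpoly, eval_linpoly, hFx, hc0]
  simp only [LinearMap.add_apply, LinearMap.smul_apply, smul_eq_mul]
  rw [← hq1, ← hq2, ← hc1, ← hc2, ← hc3]
  have hc1' : c1 = (q1 * q2 * c2 - q1 ^ 2 * c3) / q2 ^ 2 := by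
    field_simp
    linear_combination hB
  rw [hc1']
  field_simp
  ring

omit [CharZero K] [IsAlgClosed K] in
theorem eq_span_of_mem (U : Submodule K (Fin 4 → K)) (hU : finrank K U = 1) (v : Fin 4 → K)
    (hv : v ∈ U) (hv0 : v ≠ 0) : U = Submodule.span K {v} := by
  have hle : Submodule.span K {v} ≤ U := by
    rw [Submodule.span_le]
    rintro z rfl
    exact hv
  haveI : FiniteDimensional K U := Module.finite_of_finrank_eq_succ hU
  exact (Submodule.eq_of_le_of_finrank_eq hle (by rw [finrank_span_singleton hv0, hU])).symm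

include hdec in
omit [CharZero K] [IsAlgClosed K] in
/-- normalised representatives of the points of the tangent plane other than `a`. -/
theorem normalize (U : Submodule K (Fin 4 → K)) (hU : finrank K U = 1)
    (hUH : ∀ x ∈ U, D f a x = 0) (haU : a ∉ U) :
    (∃ s τ : K, s • a + (e1 + τ • e2) ∈ U ∧ s • a + (e1 + τ • e2) ≠ 0) ∨
      (∃ s : K, s • a + e2 ∈ U ∧ s • a + e2 ≠ 0) := by
  obtain ⟨b, hbU, hb0⟩ : ∃ b ∈ U, b ≠ 0 := by
    have hbot : U ≠ ⊥ := by
      rintro rfl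
      simp at hU
    exact Submodule.exists_mem_ne_zero_of_ne_bot hbot
  obtain ⟨x0, x1, x2, hb⟩ : ∃ x0 x1 x2 : K, b = x0 • a + (x1 • e1 + x2 • e2) :=
    ⟨_, _, _, hdec b (hUH b hbU)⟩
  by_cases h1 : x1 = 0
  · by_cases h2 : x2 = 0
    · exfalso
      rw [h1, h2, zero_smul, zero_smul, add_zero, add_zero] at hb
      have h0 : x0 ≠ 0 := by
        intro h0
        rw [h0, zero_smul] at hb
        exact hb0 hb
      apply haU
      have : a = x0⁻¹ • b := by
        rw [hb, smul_smul, inv_mul_cancel₀ h0, one_smul]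
      rw [this]
      exact U.smul_mem _ hbU
    · right
      refine ⟨x0 / x2, ?_⟩
      have : (x0 / x2) • a + e2 = x2⁻¹ • b := by
        rw [hb, h1, zero_smul, zero_add, smul_add, smul_smul, smul_smul, inv_mul_cancel₀ h2,
          one_smul, div_eq_inv_mul]
      rw [this]
      exact ⟨U.smul_mem _ hbU, smul_ne_zero (inv_ne_zero h2) hb0⟩
  · left
    refine ⟨x0 / x1, x2 / x1, ?_⟩
    have : (x0 / x1) • a + (e1 + (x2 / x1) • e2) = x1⁻¹ • b := by
      rw [hb, smul_add, smul_add, smul_smul, smul_smul, smul_smul, inv_mul_cancel₀ h1, one_smul,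
        div_eq_inv_mul, div_eq_inv_mul]
    rw [this]
    exact ⟨U.smul_mem _ hbU, smul_ne_zero (inv_ne_zero h1) hb0⟩

include hf hFa hdec hD1 hD2 hD3 hQ1 in
/-- Only finitely many T-points lie in the tangent plane at a non-T-point. -/
theorem finite_main (hQ2 : Q f a e2 ≠ 0) (ha : a ≠ 0) (tp : (Fin 4 → K) → Prop)
    (htpF : ∀ b, tp b → eval b f = 0)
    (htpΦ : ∀ b, tp b → PhiA f e1 e2 e3 b = 0 ∧ PhiB f e1 e2 e3 b = 0)
    (hna : ¬ tp a)
    (hnT : ¬ ∃ L₁ L₂ L₃ : MvPolynomial (Fin 4) K, L₁.IsHomogeneous 1 ∧ L₂.IsHomogeneous 1 ∧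
      L₃.IsHomogeneous 1 ∧ f - L₁ * L₂ * L₃ ∈ Ideal.span {linpoly (Dlin f a)}) :
    Set.Finite {U : Submodule K (Fin 4 → K) | finrank K U = 1 ∧ (∀ x ∈ U, D f a x = 0) ∧
      ∀ b ∈ U, b ≠ 0 → tp b} := by
  have hΦa : ¬ (PhiA f e1 e2 e3 a = 0 ∧ PhiB f e1 e2 e3 a = 0) := by
    rintro ⟨hA, hB⟩
    rw [PhiA_a f a e1 e2 e3 hD1 hD2 hD3 hQ1] at hA
    rw [PhiB_a f a e1 e2 e3 hD1 hD2 hD3 hQ1] at hB
    have hc0 : eval e1 f = 0 := (mul_eq_zero.mp hA).resolve_left (pow_ne_zero 2 hQ2)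
    exact hnT (tp_of_minors f hf a hFa e1 e2 e3 ξ0 ξ1 ξ2 hdec hD1 hD2 hD3 hQ1 hQ2 hc0 hB)
  have fam := finite_family f e1 e2 e3 a hΦa tp htpΦ
  set q1 := B f a e1 e2 with hq1
  set q2 := Q f a e2 with hq2
  set c0 := eval e1 f with hc0
  set c1 := D f e1 e2 with hc1
  set c2 := D f e2 e1 with hc2
  set c3 := eval e2 f with hc3
  -- the equation of the tangent section in normalised coordinates
  have hEq : ∀ s x1 x2 : K, eval (s • a + (x1 • e1 + x2 • e2)) f =
      s * (q1 * x1 * x2 + q2 * x2 ^ 2) + (c0 * x1 ^ 3 + c1 * x1 ^ 2 * x2 + c2 * x1 * x2 ^ 2 +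
        c3 * x2 ^ 3) := F_comb f hf a hFa e1 e2 hD1 hD2 hQ1
  have haU : ∀ U : Submodule K (Fin 4 → K), (∀ b ∈ U, b ≠ 0 → tp b) → a ∉ U :=
    fun U hU haU => hna (hU a haU ha)
  -- the exceptional point on the line `x1 = 0`
  have hcase2 : ∀ U : Submodule K (Fin 4 → K), finrank K U = 1 → (∀ b ∈ U, b ≠ 0 → tp b) →
      ∀ s : K, s • a + e2 ∈ U → s • a + e2 ≠ 0 →
      U = Submodule.span K {(-c3) • a + q2 • e2} := by
    intro U hU1 hUtp s hsU hs0
    have hF := htpF _ (hUtp _ hsU hs0)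
    have h1 := hEq s 0 1
    rw [zero_smul, one_smul, zero_add, hF] at h1
    have hs : q2 * s = -c3 := by linear_combination -h1
    have hE : (-c3) • a + q2 • e2 = q2 • (s • a + e2) := by
      rw [← hs]
      module
    refine eq_span_of_mem U hU1 _ ?_ ?_
    · rw [hE]
      exact U.smul_mem _ hsU
    · rw [hE]
      exact smul_ne_zero hQ2 hs0
  set τ0 : K := -q1 / q2 with hτ0
  have hτ0' : q1 + q2 * τ0 = 0 := by
    rw [hτ0]
    field_simp
    ring
  by_cases hc00 : c0 = 0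
  · -- the tangent section contains the line spanned by `a` and `e1`
    set ĉ0 : K := c1 + c2 * τ0 + c3 * τ0 ^ 2 with hĉ0
    have hĉ0ne : ĉ0 ≠ 0 := by
      intro h0
      apply hΦa
      rw [PhiA_a f a e1 e2 e3 hD1 hD2 hD3 hQ1, PhiB_a f a e1 e2 e3 hD1 hD2 hD3 hQ1, ← hq1,
        ← hq2, ← hc0, ← hc1, ← hc2, ← hc3, hc00]
      refine ⟨by ring, ?_⟩
      have : q1 ^ 2 * c3 - q1 * q2 * c2 + q2 ^ 2 * c1 = q2 ^ 2 * ĉ0 := by
        rw [hĉ0, hτ0]
        field_simp
        ring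
      rw [this, h0, mul_zero]
    set g : K → Fin 4 → K := fun τ => ĉ0⁻¹ • ((c1 + c2 * τ + c3 * τ ^ 2) • a +
      (-(q1 + q2 * τ)) • (e1 + τ • e2)) with hg
    have hgP : PolyVec g := by
      refine PolyVec.smul (PolyFun.const _) (PolyVec.add (PolyVec.smul ?_ (PolyVec.const a))
        (PolyVec.smul ?_ (PolyVec.add (PolyVec.const e1)
          (PolyVec.smul PolyFun.id (PolyVec.const e2)))))
      · exact ((PolyFun.const c1).add ((PolyFun.const c2).mul PolyFun.id)).add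
          ((PolyFun.const c3).mul (PolyFun.id.pow 2))
      · exact ((PolyFun.const q1).add ((PolyFun.const q2).mul PolyFun.id)).neg
    have hg0 : g τ0 = a := by
      simp only [hg]
      rw [hτ0', neg_zero, zero_smul, add_zero, ← hĉ0, smul_smul, inv_mul_cancel₀ hĉ0ne, one_smul]
    set h2 : K → Fin 4 → K := fun σ => a + σ • e1 with hh2
    have hh2P : PolyVec h2 :=
      PolyVec.add (PolyVec.const a) (PolyVec.smul PolyFun.id (PolyVec.const e1))
    have hh20 : h2 0 = a := by simp [hh2]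
    refine (((Set.finite_singleton (Submodule.span K {(-c3) • a + q2 • e2})).union
      (Set.finite_singleton (Submodule.span K {e1}))).union
      ((fam g hgP τ0 hg0).union (fam h2 hh2P 0 hh20))).subset ?_
    rintro U ⟨hU1, hUH, hUtp⟩
    rcases normalize f a e1 e2 ξ0 ξ1 ξ2 hdec U hU1 hUH (haU U hUtp) with
      ⟨s, τ, hsU, hs0⟩ | ⟨s, hsU, hs0⟩
    · have hF := htpF _ (hUtp _ hsU hs0)
      have h1 := hEq s 1 τ
      rw [one_smul, hF, hc00] at h1
      have h1' : τ * (s * (q1 + q2 * τ) + (c1 + c2 * τ + c3 * τ ^ 2)) = 0 := by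
        linear_combination -h1
      rcases mul_eq_zero.mp h1' with hτ | h1''
      · -- on the line through `a` and `e1`
        rw [hτ, zero_smul, add_zero] at hsU hs0
        by_cases hs : s = 0
        · left; right
          rw [hs, zero_smul, zero_add] at hsU hs0
          exact eq_span_of_mem U hU1 _ hsU hs0
        · right; right
          refine ⟨hU1, hUtp, s⁻¹, ?_⟩
          have : h2 s⁻¹ = s⁻¹ • (s • a + e1) := by
            show a + s⁻¹ • e1 = _
            rw [smul_add, smul_smul, inv_mul_cancel₀ hs, one_smul]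
          rw [this]
          exact ⟨smul_ne_zero (inv_ne_zero hs) hs0, U.smul_mem _ hsU⟩
      · by_cases hq : q1 + q2 * τ = 0
        · exfalso
          have hτ : τ = τ0 := by
            rw [hτ0]
            field_simp
            linear_combination hq
          apply hĉ0ne
          rw [hĉ0, ← hτ]
          rw [hq, mul_zero, zero_add] at h1''
          exact h1''
        · right; left
          refine ⟨hU1, hUtp, τ, ?_⟩
          have : g τ = (ĉ0⁻¹ * (-(q1 + q2 * τ))) • (s • a + (e1 + τ • e2)) := by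
            simp only [hg]
            have : c1 + c2 * τ + c3 * τ ^ 2 = -(s * (q1 + q2 * τ)) := by linear_combination h1''
            rw [this]
            module
          rw [this]
          exact ⟨smul_ne_zero (mul_ne_zero (inv_ne_zero hĉ0ne) (neg_ne_zero.mpr hq)) hs0,
            U.smul_mem _ hsU⟩
    · left; left
      exact hcase2 U hU1 hUtp s hsU hs0
  · -- the generic case: `e1` is not on the surface
    set g : K → Fin 4 → K := fun τ => c0⁻¹ • ((c0 + c1 * τ + c2 * τ ^ 2 + c3 * τ ^ 3) • a +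
      (-(τ * (q1 + q2 * τ))) • (e1 + τ • e2)) with hg
    have hgP : PolyVec g := by
      refine PolyVec.smul (PolyFun.const _) (PolyVec.add (PolyVec.smul ?_ (PolyVec.const a))
        (PolyVec.smul ?_ (PolyVec.add (PolyVec.const e1)
          (PolyVec.smul PolyFun.id (PolyVec.const e2)))))
      · exact (((PolyFun.const c0).add ((PolyFun.const c1).mul PolyFun.id)).add
          ((PolyFun.const c2).mul (PolyFun.id.pow 2))).add
          ((PolyFun.const c3).mul (PolyFun.id.pow 3))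
      · exact (PolyFun.id.mul ((PolyFun.const q1).add ((PolyFun.const q2).mul PolyFun.id))).neg
    have hg0 : g 0 = a := by
      simp only [hg]
      simp only [mul_zero, add_zero, ne_eq, OfNat.ofNat_ne_zero, not_false_eq_true, zero_pow,
        zero_mul, neg_zero, zero_smul, smul_smul]
      rw [inv_mul_cancel₀ hc00, one_smul]
    set h1 : K → Fin 4 → K := fun σ => a + σ • (e1 + τ0 • e2) with hh1
    have hh1P : PolyVec h1 :=
      PolyVec.add (PolyVec.const a) (PolyVec.smul PolyFun.id (PolyVec.const _))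
    have hh10 : h1 0 = a := by simp [hh1]
    refine (((Set.finite_singleton (Submodule.span K {(-c3) • a + q2 • e2})).union
      (Set.finite_singleton (Submodule.span K {e1 + τ0 • e2}))).union
      ((fam g hgP 0 hg0).union (fam h1 hh1P 0 hh10))).subset ?_
    rintro U ⟨hU1, hUH, hUtp⟩
    rcases normalize f a e1 e2 ξ0 ξ1 ξ2 hdec U hU1 hUH (haU U hUtp) with
      ⟨s, τ, hsU, hs0⟩ | ⟨s, hsU, hs0⟩
    · have hF := htpF _ (hUtp _ hsU hs0)
      have h1e := hEq s 1 τ
      rw [one_smul, hF] at h1e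
      have h1' : s * (τ * (q1 + q2 * τ)) + (c0 + c1 * τ + c2 * τ ^ 2 + c3 * τ ^ 3) = 0 := by
        linear_combination -h1e
      by_cases hq : τ * (q1 + q2 * τ) = 0
      · rw [hq, mul_zero, zero_add] at h1'
        have hτne : τ ≠ 0 := by
          rintro rfl
          apply hc00
          linear_combination h1'
        have hq' : q1 + q2 * τ = 0 := (mul_eq_zero.mp hq).resolve_left hτne
        have hτ : τ = τ0 := by
          rw [hτ0]
          field_simp
          linear_combination hq'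
        rw [hτ] at hsU hs0
        by_cases hs : s = 0
        · left; right
          rw [hs, zero_smul, zero_add] at hsU hs0
          exact eq_span_of_mem U hU1 _ hsU hs0
        · right; right
          refine ⟨hU1, hUtp, s⁻¹, ?_⟩
          have : h1 s⁻¹ = s⁻¹ • (s • a + (e1 + τ0 • e2)) := by
            show a + s⁻¹ • (e1 + τ0 • e2) = _
            conv_rhs => rw [smul_add, smul_smul, inv_mul_cancel₀ hs, one_smul]
          rw [this]
          exact ⟨smul_ne_zero (inv_ne_zero hs) hs0, U.smul_mem _ hsU⟩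
      · right; left
        refine ⟨hU1, hUtp, τ, ?_⟩
        have : g τ = (c0⁻¹ * (-(τ * (q1 + q2 * τ)))) • (s • a + (e1 + τ • e2)) := by
          simp only [hg]
          have : c0 + c1 * τ + c2 * τ ^ 2 + c3 * τ ^ 3 = -(s * (τ * (q1 + q2 * τ))) := by
            linear_combination h1'
          rw [this]
          module
        rw [this]
        exact ⟨smul_ne_zero (mul_ne_zero (inv_ne_zero hc00) (neg_ne_zero.mpr hq)) hs0,
          U.smul_mem _ hsU⟩
    · left; left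
      exact hcase2 U hU1 hUtp s hsU hs0

end cover

section main

universe u

theorem main (K : Type u) [Field K] [IsAlgClosed K] [CharZero K]
    (F : MvPolynomial (Fin 4) K) (hF : F.IsHomogeneous 3)
    (tp : (Fin 4 → K) → Prop)
    (htp : ∀ b : Fin 4 → K, tp b ↔ (b ≠ 0 ∧ MvPolynomial.eval b F = 0 ∧
      (∃ i : Fin 4, MvPolynomial.eval b (MvPolynomial.pderiv i F) ≠ 0) ∧
      ∃ L₁ L₂ L₃ : MvPolynomial (Fin 4) K, L₁.IsHomogeneous 1 ∧ L₂.IsHomogeneous 1 ∧ L₃.IsHomogeneous 1 ∧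
        F - L₁ * L₂ * L₃ ∈ Ideal.span {∑ i : Fin 4,
          MvPolynomial.C (MvPolynomial.eval b (MvPolynomial.pderiv i F)) * MvPolynomial.X i}))
    (a : Fin 4 → K) (haF : MvPolynomial.eval a F = 0)
    (hsm : ∃ i : Fin 4, MvPolynomial.eval a (MvPolynomial.pderiv i F) ≠ 0) (ha : ¬ tp a)
    (H : Submodule K (Fin 4 → K))
    (hH : ∀ x : Fin 4 → K, x ∈ H ↔ MvPolynomial.eval x (∑ i : Fin 4,
      MvPolynomial.C (MvPolynomial.eval a (MvPolynomial.pderiv i F)) * MvPolynomial.X i) = 0) :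
    Set.Finite {U : Submodule K (Fin 4 → K) | Module.finrank K ↥U = 1 ∧ U ≤ H ∧
      ∀ b ∈ U, b ≠ 0 → tp b} := by
  have hℓ : ∀ b : Fin 4 → K, (∑ i : Fin 4,
      MvPolynomial.C (MvPolynomial.eval b (MvPolynomial.pderiv i F)) * MvPolynomial.X i) =
      linpoly (Dlin F b) := by
    intro b
    rw [linpoly]
    exact Finset.sum_congr rfl fun i _ => by rw [Dlin_single]
  have hl0 : Dlin F a ≠ 0 := by
    obtain ⟨i, hi⟩ := hsm
    intro h0
    apply hi
    rw [← Dlin_single, h0]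
    simp
  have ha0 : a ≠ 0 := by
    rintro rfl
    apply hl0
    refine LinearMap.ext fun v => ?_
    show D F 0 v = 0
    have := D_smul_left hF (0 : K) (0 : Fin 4 → K) v
    rw [zero_smul] at this
    rw [this]
    ring
  have hnT : ¬ ∃ L₁ L₂ L₃ : MvPolynomial (Fin 4) K, L₁.IsHomogeneous 1 ∧ L₂.IsHomogeneous 1 ∧
      L₃.IsHomogeneous 1 ∧ F - L₁ * L₂ * L₃ ∈ Ideal.span {linpoly (Dlin F a)} := by
    intro h
    apply ha
    rw [htp, hℓ]
    exact ⟨ha0, haF, hsm, h⟩
  obtain ⟨e1, e2, e3, ξ0, ξ1, ξ2, hdec, hD1, hD2, hD3, hQ1, hQ2⟩ :=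
    exists_good_frame F hF a haF ha0 hl0 hnT
  have key := finite_main F hF a haF e1 e2 e3 ξ0 ξ1 ξ2 hdec hD1 hD2 hD3 hQ1 hQ2 ha0 tp
    (fun b hb => ((htp b).mp hb).2.1)
    (fun b hb => by
      obtain ⟨-, hFb, -, L₁, L₂, L₃, h1, h2, h3, hmem⟩ := (htp b).mp hb
      rw [hℓ] at hmem
      exact Phi_eq_zero_of_tp F hF e1 e2 e3 b hFb L₁ L₂ L₃ h1 h2 h3 hmem)
    ha hnT
  refine key.subset ?_
  rintro U ⟨hU1, hUH, hUtp⟩
  refine ⟨hU1, fun x hx => ?_, hUtp⟩
  have := (hH x).mp (hUH hx)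
  rw [hℓ, eval_linpoly] at this
  exact this

end main

end Groth.Agent.Lib.H6xTPoint
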