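import Groth.Agent.Lib.H6xPfE
import Groth.Agent.Lib.H6xTPointC

set_option autoImplicit false

/-! Rational points of cubic surfaces: the rational parametrisation of the tangent section at a
smooth rational point, and the fact that at a non-T-point this curve is not contained in a line. -/

namespace Groth.Agent.Lib.H6xFive

open MvPolynomial Groth.Agent.Lib.H6xCubicForm Groth.Agent.Lib.H6xNodalCubic
  Groth.Agent.Lib.H6xCubicSing Groth.Agent.Lib.H6xCubicPolar Groth.Agent.Lib.H6xPf Module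

section tp

variable {k : Type*} [Field k] [CharZero k] (K : Type*) [Field K] [Algebra k K]
  (F : MvPolynomial (Fin 4) k)

/-- the tangent linear form at a rational point, over `K` -/
noncomputable def tanForm (b : Fin 4 → k) : MvPolynomial (Fin 4) K :=
  ∑ i : Fin 4, C (algebraMap k K (eval b (pderiv i F))) * X i

/-- the T-point condition over `K` at a rational point -/
def IsTK (b : Fin 4 → k) : Prop :=
  ∃ L₁ L₂ L₃ : MvPolynomial (Fin 4) K, L₁.IsHomogeneous 1 ∧ L₂.IsHomogeneous 1 ∧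
    L₃.IsHomogeneous 1 ∧
    MvPolynomial.map (algebraMap k K) F - L₁ * L₂ * L₃ ∈ Ideal.span {tanForm K F b}

theorem tanForm_eq (b : Fin 4 → k) :
    tanForm K F b = MvPolynomial.map (algebraMap k K) (linpoly (Dlin F b)) := by
  unfold tanForm linpoly
  rw [map_sum]
  refine Finset.sum_congr rfl fun i _ => ?_
  rw [map_mul, map_C, map_X, Dlin_single]

end tp

section decomp

variable {k : Type*} [Field k] [CharZero k] {F : MvPolynomial (Fin 4) k}
  (hF : F.IsHomogeneous 3)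
  (b u1 u2 e : Fin 4 → k) (ξ0 ξ1 ξ2 ξ3 : (Fin 4 → k) →ₗ[k] k)
  (hdec : IsFrame b u1 u2 e ξ0 ξ1 ξ2 ξ3)
  (hFb : eval b F = 0) (h1 : D F b u1 = 0) (h2 : D F b u2 = 0)

/-- the cofactor of the tangent form in the frame expansion of `F` -/
noncomputable def cofG : MvPolynomial (Fin 4) k :=
  C (eval e F) * linpoly ξ3 ^ 2 + C (D F b e) * linpoly ξ0 ^ 2 + C (D F u1 e) * linpoly ξ1 ^ 2
    + C (D F u2 e) * linpoly ξ2 ^ 2 + C (D F e b) * (linpoly ξ3 * linpoly ξ0)
    + C (D F e u1) * (linpoly ξ3 * linpoly ξ1) + C (D F e u2) * (linpoly ξ3 * linpoly ξ2)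
    + C (T F b u1 e) * (linpoly ξ0 * linpoly ξ1) + C (T F b u2 e) * (linpoly ξ0 * linpoly ξ2)
    + C (T F u1 u2 e) * (linpoly ξ1 * linpoly ξ2)

include hF hdec hFb h1 h2 in
theorem tangent_decomp :
    F = linpoly ξ3 * cofG (F := F) b u1 u2 e ξ0 ξ1 ξ2 ξ3
      + (linpoly ξ0 * (C (D F u1 b) * linpoly ξ1 ^ 2 + C (T F b u1 u2) * (linpoly ξ1 * linpoly ξ2)
          + C (D F u2 b) * linpoly ξ2 ^ 2)
        + (C (eval u1 F) * linpoly ξ1 ^ 3 + C (D F u1 u2) * (linpoly ξ1 ^ 2 * linpoly ξ2)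
          + C (D F u2 u1) * (linpoly ξ1 * linpoly ξ2 ^ 2) + C (eval u2 F) * linpoly ξ2 ^ 3)) := by
  apply MvPolynomial.funext
  intro x
  have hE := expand4 hF b u1 u2 e (ξ0 x) (ξ1 x) (ξ2 x) (ξ3 x)
  rw [← hdec x] at hE
  rw [hE, cofG]
  simp only [map_add, map_mul, map_pow, eval_C, eval_linpoly]
  rw [hFb, h1, h2]
  ring

omit [CharZero k] in
include hF hdec hFb h1 h2 in
theorem Dlin_eq (he : D F b e = 1) : Dlin F b = ξ3 := by
  refine LinearMap.ext fun x => ?_
  show D F b x = ξ3 x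
  conv_lhs => rw [hdec x]
  rw [D_add_right, D_add_right, D_add_right, D_smul_right, D_smul_right, D_smul_right,
    D_smul_right, h1, h2, he, D_self hF, hFb]
  ring

end decomp

section TP

variable {k : Type*} [Field k] [CharZero k] (K : Type*) [Field K] [IsAlgClosed K] [CharZero K]
  [Algebra k K]
  {F : MvPolynomial (Fin 4) k} (hF : F.IsHomogeneous 3)
  (b u1 u2 e : Fin 4 → k) (ξ0 ξ1 ξ2 ξ3 : (Fin 4 → k) →ₗ[k] k)
  (hdec : IsFrame b u1 u2 e ξ0 ξ1 ξ2 ξ3)
  (hFb : eval b F = 0) (h1 : D F b u1 = 0) (h2 : D F b u2 = 0) (he : D F b e = 1)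

omit [CharZero k] [IsAlgClosed K] [CharZero K] in
theorem map_linpoly_isHomogeneous (ξ : (Fin 4 → k) →ₗ[k] k) :
    (MvPolynomial.map (algebraMap k K) (linpoly ξ)).IsHomogeneous 1 :=
  (linpoly_isHomogeneous ξ).map _

omit [CharZero k] [IsAlgClosed K] [CharZero K] in
theorem lin2_isHomogeneous (ξ ξ' : (Fin 4 → k) →ₗ[k] k) (p r : K) :
    (C p * MvPolynomial.map (algebraMap k K) (linpoly ξ)
      + C r * MvPolynomial.map (algebraMap k K) (linpoly ξ')).IsHomogeneous 1 := by
  have h1 := (isHomogeneous_C (Fin 4) p).mul (map_linpoly_isHomogeneous K ξ)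
  have h2 := (isHomogeneous_C (Fin 4) r).mul (map_linpoly_isHomogeneous K ξ')
  simpa using h1.add h2

include hF hdec hFb h1 h2 he in
/-- if the cubic part of the tangent section is divisible by the quadratic part, the point is a
T-point -/
theorem isTK_of_dvd (m1 m2 : k)
    (e0 : eval u1 F = D F u1 b * m1)
    (e1 : D F u1 u2 = D F u1 b * m2 + T F b u1 u2 * m1)
    (e2 : D F u2 u1 = T F b u1 u2 * m2 + D F u2 b * m1)
    (e3 : eval u2 F = D F u2 b * m2) : IsTK K F b := by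
  obtain ⟨p, r, p', r', hfac⟩ := Groth.Agent.Lib.H6xPlaneConic.exists_binary_factor
    (algebraMap k K (D F u1 b)) (algebraMap k K (T F b u1 u2)) (algebraMap k K (D F u2 b))
  have f0 : algebraMap k K (D F u1 b) = p * p' := by
    have := hfac 1 0
    linear_combination this
  have f2 : algebraMap k K (D F u2 b) = r * r' := by
    have := hfac 0 1
    linear_combination this
  have f1 : algebraMap k K (T F b u1 u2) = p * r' + r * p' := by
    have := hfac 1 1
    linear_combination this - f0 - f2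
  set Y0 := MvPolynomial.map (algebraMap k K) (linpoly ξ0) with hY0
  set Y1 := MvPolynomial.map (algebraMap k K) (linpoly ξ1) with hY1
  set Y2 := MvPolynomial.map (algebraMap k K) (linpoly ξ2) with hY2
  set Y3 := MvPolynomial.map (algebraMap k K) (linpoly ξ3) with hY3
  refine ⟨C p * Y1 + C r * Y2, C p' * Y1 + C r' * Y2,
    Y0 + (C (algebraMap k K m1) * Y1 + C (algebraMap k K m2) * Y2),
    lin2_isHomogeneous K _ _ _ _, lin2_isHomogeneous K _ _ _ _, ?_, ?_⟩
  · exact (map_linpoly_isHomogeneous K ξ0).add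
      (lin2_isHomogeneous K ξ1 ξ2 (algebraMap k K m1) (algebraMap k K m2))
  · rw [tanForm_eq, Dlin_eq hF b u1 u2 e ξ0 ξ1 ξ2 ξ3 hdec hFb h1 h2 he, ← hY3,
      Ideal.mem_span_singleton]
    refine ⟨MvPolynomial.map (algebraMap k K) (cofG (F := F) b u1 u2 e ξ0 ξ1 ξ2 ξ3), ?_⟩
    have hd := congrArg (MvPolynomial.map (algebraMap k K))
      (tangent_decomp hF b u1 u2 e ξ0 ξ1 ξ2 ξ3 hdec hFb h1 h2)
    rw [hd]
    simp only [map_add, map_mul, map_pow, map_C, ← hY0, ← hY1, ← hY2, ← hY3]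
    rw [e0, e1, e2, e3]
    simp only [map_add, map_mul, f0, f1, f2]
    ring

include hF hdec hFb h1 h2 he in
/-- a smooth point whose tangent section is a cone is a T-point -/
theorem isTK_of_planar (q0 : D F u1 b = 0) (q1 : T F b u1 u2 = 0) (q2 : D F u2 b = 0) :
    IsTK K F b := by
  obtain ⟨α1, β1, α2, β2, α3, β3, hfac⟩ := exists_binary_cubic_factor
    (algebraMap k K (eval u1 F)) (algebraMap k K (D F u1 u2)) (algebraMap k K (D F u2 u1))
    (algebraMap k K (eval u2 F))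
  have f0 : algebraMap k K (eval u1 F) = α1 * α2 * α3 := by
    have := hfac 1 0
    linear_combination this
  have f3 : algebraMap k K (eval u2 F) = β1 * β2 * β3 := by
    have := hfac 0 1
    linear_combination this
  have g1 := hfac 1 1
  have g2 := hfac 1 (-1)
  have f1 : algebraMap k K (D F u1 u2) = α1 * α2 * β3 + α1 * β2 * α3 + β1 * α2 * α3 := by
    linear_combination (1 / 2 : K) * g1 - (1 / 2 : K) * g2 - f3
  have f2 : algebraMap k K (D F u2 u1) = α1 * β2 * β3 + β1 * α2 * β3 + β1 * β2 * α3 := by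
    linear_combination (1 / 2 : K) * g1 + (1 / 2 : K) * g2 - f0
  set Y0 := MvPolynomial.map (algebraMap k K) (linpoly ξ0) with hY0
  set Y1 := MvPolynomial.map (algebraMap k K) (linpoly ξ1) with hY1
  set Y2 := MvPolynomial.map (algebraMap k K) (linpoly ξ2) with hY2
  set Y3 := MvPolynomial.map (algebraMap k K) (linpoly ξ3) with hY3
  refine ⟨C α1 * Y1 + C β1 * Y2, C α2 * Y1 + C β2 * Y2, C α3 * Y1 + C β3 * Y2,
    lin2_isHomogeneous K _ _ _ _, lin2_isHomogeneous K _ _ _ _, lin2_isHomogeneous K _ _ _ _, ?_⟩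
  rw [tanForm_eq, Dlin_eq hF b u1 u2 e ξ0 ξ1 ξ2 ξ3 hdec hFb h1 h2 he, ← hY3,
    Ideal.mem_span_singleton]
  refine ⟨MvPolynomial.map (algebraMap k K) (cofG (F := F) b u1 u2 e ξ0 ξ1 ξ2 ξ3), ?_⟩
  have hd := congrArg (MvPolynomial.map (algebraMap k K))
    (tangent_decomp hF b u1 u2 e ξ0 ξ1 ξ2 ξ3 hdec hFb h1 h2)
  rw [hd]
  simp only [map_add, map_mul, map_pow, map_C, ← hY0, ← hY1, ← hY2, ← hY3]
  rw [q0, q1, q2]
  simp only [map_zero, f0, f1, f2, f3, map_add, map_mul]
  ring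

end TP

end Groth.Agent.Lib.H6xFive
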