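import Groth.Agent.Lib.H6xFiveA

set_option autoImplicit false

/-! The rational parametrisation of the tangent section of a cubic surface at a smooth rational
point, and the non-T-point principle: at a non-T-point the parametrised curve spans the tangent
plane. -/

namespace Groth.Agent.Lib.H6xFive

open MvPolynomial Groth.Agent.Lib.H6xCubicForm Groth.Agent.Lib.H6xNodalCubic
  Groth.Agent.Lib.H6xCubicSing Groth.Agent.Lib.H6xCubicPolar Groth.Agent.Lib.H6xPf
  Groth.Agent.Lib.H6xTPoint Module

theorem cubic_coeffs_zero {k : Type*} [Field k] [CharZero k] (A0 A1 A2 A3 : k)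
    (h : ∀ τ : k, A0 + A1 * τ + A2 * τ ^ 2 + A3 * τ ^ 3 = 0) :
    A0 = 0 ∧ A1 = 0 ∧ A2 = 0 ∧ A3 = 0 := by
  have h0 := h 0
  have h1 := h 1
  have hm := h (-1)
  have h2 := h 2
  refine ⟨?_, ?_, ?_, ?_⟩
  · linear_combination h0
  · linear_combination -(1 / 2 : k) * h0 + h1 - (1 / 3 : k) * hm - (1 / 6 : k) * h2
  · linear_combination (1 / 2 : k) * h1 + (1 / 2 : k) * hm - h0
  · linear_combination (1 / 2 : k) * h0 - (1 / 2 : k) * h1 - (1 / 6 : k) * hm + (1 / 6 : k) * h2

section curve

variable {k : Type*} [Field k] [CharZero k] (F : MvPolynomial (Fin 4) k)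
  (hF : F.IsHomogeneous 3) (b u1 u2 : Fin 4 → k)

/-- the rational parametrisation of the tangent section at `b` -/
noncomputable def tcurve (τ : k) : Fin 4 → k :=
  (-(eval (u1 + τ • u2) F)) • b + (D F (u1 + τ • u2) b) • (u1 + τ • u2)

include hF in
theorem eval_tcurve (hFb : eval b F = 0) (h1 : D F b u1 = 0) (h2 : D F b u2 = 0) (τ : k) :
    eval (tcurve F b u1 u2 τ) F = 0 := by
  unfold tcurve
  rw [taylor F hF b hFb]
  unfold Q
  rw [D_smul_right, D_add_right, D_smul_right, h1, h2, D_smul_left hF, eval_smul hF]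
  ring

include hF in
theorem D_tcurve (hFb : eval b F = 0) (h1 : D F b u1 = 0) (h2 : D F b u2 = 0) (τ : k) :
    D F (tcurve F b u1 u2 τ) b = (D F (u1 + τ • u2) b) ^ 3 := by
  unfold tcurve
  have hT : ∀ u, T F b u b = 2 * D F b u := by
    intro u
    rw [T_symm23 hF, T_self hF]
  rw [D_add_left hF, D_smul_left hF, D_smul_left hF, T_smul_left hF, T_smul_mid, hT, D_self hF,
    hFb, D_add_right, D_smul_right, h1, h2]
  ring

theorem polyVec_tcurve : PolyVec (tcurve F b u1 u2) := by
  have hw : PolyVec (fun τ : k => u1 + τ • u2) :=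
    PolyVec.add (PolyVec.const u1) (PolyVec.smul PolyFun.id (PolyVec.const u2))
  unfold tcurve
  exact PolyVec.add (PolyVec.smul (PolyFun.mvEval' F hw).neg (PolyVec.const b))
    (PolyVec.smul (polyFun_D hw (PolyVec.const b)) hw)

theorem polyFun_linear {h : k → Fin 4 → k} (hh : PolyVec h) (l : (Fin 4 → k) →ₗ[k] k) :
    PolyFun (fun τ => l (h τ)) := by
  have : ∀ τ, l (h τ) = ∑ i, l (Pi.single i 1) * h τ i := by
    intro τ
    have hx : h τ = ∑ i, h τ i • (Pi.single i 1 : Fin 4 → k) := by
      ext j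
      simp [Finset.sum_apply, Pi.single_apply]
    conv_lhs => rw [hx]
    simp [mul_comm]
  refine PolyFun.congr ?_ this
  exact PolyFun.sum _ fun i _ => (PolyFun.const _).mul (hh i)

include hF in
/-- the explicit form of a linear functional along the tangent curve -/
theorem linear_tcurve (l : (Fin 4 → k) →ₗ[k] k) (τ : k) :
    l (tcurve F b u1 u2 τ) =
      (-(eval u1 F) * l b + D F u1 b * l u1)
      + (-(D F u1 u2) * l b + D F u1 b * l u2 + T F b u1 u2 * l u1) * τ
      + (-(D F u2 u1) * l b + T F b u1 u2 * l u2 + D F u2 b * l u1) * τ ^ 2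
      + (-(eval u2 F) * l b + D F u2 b * l u2) * τ ^ 3 := by
  unfold tcurve
  have hT : T F u1 u2 b = T F b u1 u2 := by
    rw [T_symm23 hF, T_symm12 hF]
  rw [map_add, map_smul, map_smul, map_add, map_smul, eval_add hF, eval_smul hF, D_smul_left hF,
    D_smul_right, D_add_left hF, D_smul_left hF, T_smul_mid, hT]
  simp only [smul_eq_mul]
  ring

end curve

section ntp

variable {k : Type*} [Field k] [CharZero k] (K : Type*) [Field K] [IsAlgClosed K] [CharZero K]
  [Algebra k K]
  {F : MvPolynomial (Fin 4) k} (hF : F.IsHomogeneous 3)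
  (b u1 u2 e : Fin 4 → k) (ξ0 ξ1 ξ2 ξ3 : (Fin 4 → k) →ₗ[k] k)
  (hdec : IsFrame b u1 u2 e ξ0 ξ1 ξ2 ξ3)
  (hFb : eval b F = 0) (h1 : D F b u1 = 0) (h2 : D F b u2 = 0) (he : D F b e = 1)

include hF hdec hFb h1 h2 he in
/-- at a non-T-point the parametrised tangent curve lies in no line of the tangent plane -/
theorem ntp (hnT : ¬ IsTK K F b) (l : (Fin 4 → k) →ₗ[k] k)
    (hl : ∀ τ, l (tcurve F b u1 u2 τ) = 0) : l b = 0 ∧ l u1 = 0 ∧ l u2 = 0 := by
  obtain ⟨E0, E1, E2, E3⟩ := cubic_coeffs_zero _ _ _ _ fun τ => by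
    rw [← linear_tcurve F hF b u1 u2 l τ]
    exact hl τ
  have hplanar : ¬ (D F u1 b = 0 ∧ T F b u1 u2 = 0 ∧ D F u2 b = 0) := by
    rintro ⟨q0, q1, q2⟩
    exact hnT (isTK_of_planar K hF b u1 u2 e ξ0 ξ1 ξ2 ξ3 hdec hFb h1 h2 he q0 q1 q2)
  by_cases hb : l b = 0
  · rw [hb] at E0 E1 E2 E3
    by_cases hu1 : l u1 = 0
    · by_cases hu2 : l u2 = 0
      · exact ⟨hb, hu1, hu2⟩
      · exfalso
        rw [hu1] at E1 E2
        have q2 : D F u2 b = 0 := by
          have : D F u2 b * l u2 = 0 := by linear_combination E3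
          exact (mul_eq_zero.mp this).resolve_right hu2
        have q1 : T F b u1 u2 = 0 := by
          have : T F b u1 u2 * l u2 = 0 := by linear_combination E2
          exact (mul_eq_zero.mp this).resolve_right hu2
        have q0 : D F u1 b = 0 := by
          have : D F u1 b * l u2 = 0 := by linear_combination E1
          exact (mul_eq_zero.mp this).resolve_right hu2
        exact hplanar ⟨q0, q1, q2⟩
    · exfalso
      have q0 : D F u1 b = 0 := by
        have : D F u1 b * l u1 = 0 := by linear_combination E0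
        exact (mul_eq_zero.mp this).resolve_right hu1
      rw [q0] at E1
      have q1 : T F b u1 u2 = 0 := by
        have : T F b u1 u2 * l u1 = 0 := by linear_combination E1
        exact (mul_eq_zero.mp this).resolve_right hu1
      rw [q1] at E2
      have q2 : D F u2 b = 0 := by
        have : D F u2 b * l u1 = 0 := by linear_combination E2
        exact (mul_eq_zero.mp this).resolve_right hu1
      exact hplanar ⟨q0, q1, q2⟩
  · exfalso
    apply hnT
    refine isTK_of_dvd K hF b u1 u2 e ξ0 ξ1 ξ2 ξ3 hdec hFb h1 h2 he (l u1 / l b) (l u2 / l b)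
      ?_ ?_ ?_ ?_
    · field_simp
      linear_combination -E0
    · field_simp
      linear_combination -E1
    · field_simp
      linear_combination -E2
    · field_simp
      linear_combination -E3

end ntp

end Groth.Agent.Lib.H6xFive
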