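import Groth.Agent.Lib.H6xFiveB

set_option autoImplicit false

/-! Rational points of cubic surfaces: only finitely many points of the parametrised tangent
curve at a non-T-point are T-points; consequently the rational points of the surface escape every
finite union of planes (smooth case). -/

namespace Groth.Agent.Lib.H6xFive

open MvPolynomial Groth.Agent.Lib.H6xCubicForm Groth.Agent.Lib.H6xNodalCubic
  Groth.Agent.Lib.H6xCubicSing Groth.Agent.Lib.H6xCubicPolar Groth.Agent.Lib.H6xPf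
  Groth.Agent.Lib.H6xTPoint Module

section tpK

variable {K : Type*} [Field K] [CharZero K] (FK : MvPolynomial (Fin 4) K)

/-- the T-point condition over `K` (as in the finiteness theorem) -/
def tpK (b : Fin 4 → K) : Prop :=
  b ≠ 0 ∧ eval b FK = 0 ∧ (∃ i : Fin 4, eval b (pderiv i FK) ≠ 0) ∧
    ∃ L₁ L₂ L₃ : MvPolynomial (Fin 4) K, L₁.IsHomogeneous 1 ∧ L₂.IsHomogeneous 1 ∧
      L₃.IsHomogeneous 1 ∧
      FK - L₁ * L₂ * L₃ ∈ Ideal.span {∑ i : Fin 4, C (eval b (pderiv i FK)) * X i}

variable {FK}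

theorem eval_pderiv_smul (hFK : FK.IsHomogeneous 3) (c : K) (b : Fin 4 → K) (i : Fin 4) :
    eval (c • b) (pderiv i FK) = c ^ 2 * eval b (pderiv i FK) := by
  rw [← Dlin_single, ← Dlin_single]
  show D FK (c • b) _ = c ^ 2 * D FK b _
  rw [D_smul_left hFK]

theorem tpK_smul (hFK : FK.IsHomogeneous 3) {b : Fin 4 → K} (hb : tpK FK b) {c : K}
    (hc : c ≠ 0) : tpK FK (c • b) := by
  obtain ⟨hb0, hFb, ⟨i, hi⟩, L₁, L₂, L₃, h1, h2, h3, hmem⟩ := hb
  refine ⟨smul_ne_zero hc hb0, ?_, ⟨i, ?_⟩, L₁, L₂, L₃, h1, h2, h3, ?_⟩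
  · rw [eval_smul hFK, hFb, mul_zero]
  · rw [eval_pderiv_smul hFK]
    exact mul_ne_zero (pow_ne_zero 2 hc) hi
  · have hform : (∑ i : Fin 4, C (eval (c • b) (pderiv i FK)) * X i) =
        C (c ^ 2) * ∑ i : Fin 4, C (eval b (pderiv i FK)) * X i := by
      rw [Finset.mul_sum]
      refine Finset.sum_congr rfl fun i _ => ?_
      rw [eval_pderiv_smul hFK, C_mul]
      ring
    rw [hform, Ideal.mem_span_singleton] at *
    obtain ⟨g, hg⟩ := hmem
    refine ⟨C (c ^ 2)⁻¹ * g, ?_⟩
    rw [hg]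
    have : (C (c ^ 2) : MvPolynomial (Fin 4) K) * C (c ^ 2)⁻¹ = 1 := by
      rw [← C_mul, mul_inv_cancel₀ (pow_ne_zero 2 hc), C_1]
    calc (∑ i : Fin 4, C (eval b (pderiv i FK)) * X i) * g
        = (C (c ^ 2) * C (c ^ 2)⁻¹) * ((∑ i : Fin 4, C (eval b (pderiv i FK)) * X i) * g) := by
          rw [this, one_mul]
      _ = _ := by ring

end tpK

section bc

variable {k : Type*} [Field k] (K : Type*) [Field K] [Algebra k K]

/-- base change of a linear functional -/
noncomputable def bcl (ξ : (Fin 4 → k) →ₗ[k] k) : (Fin 4 → K) →ₗ[K] K :=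
  ∑ i : Fin 4, algebraMap k K (ξ (Pi.single i 1)) • LinearMap.proj i

theorem bcl_apply (ξ : (Fin 4 → k) →ₗ[k] k) (v : Fin 4 → k) :
    bcl K ξ (algebraMap k K ∘ v) = algebraMap k K (ξ v) := by
  have hx : v = ∑ i, v i • (Pi.single i 1 : Fin 4 → k) := by
    ext j
    simp [Finset.sum_apply, Pi.single_apply]
  have h1 : ξ v = ∑ i, ξ (Pi.single i 1) * v i := by
    conv_lhs => rw [hx]
    simp [mul_comm]
  rw [h1, map_sum]
  simp only [bcl, LinearMap.sum_apply, LinearMap.smul_apply, LinearMap.proj_apply,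
    Function.comp_apply, smul_eq_mul, map_mul]

variable (F : MvPolynomial (Fin 4) k)

theorem tpK_iff (b : Fin 4 → k) :
    tpK (MvPolynomial.map (algebraMap k K) F) (algebraMap k K ∘ b) ↔
      ((algebraMap k K ∘ b) ≠ 0 ∧ eval b F = 0 ∧ (∃ i : Fin 4, eval b (pderiv i F) ≠ 0) ∧
        IsTK K F b) := by
  have hder : ∀ i : Fin 4, eval (algebraMap k K ∘ b)
      (pderiv i (MvPolynomial.map (algebraMap k K) F)) =
      algebraMap k K (eval b (pderiv i F)) := by
    intro i
    rw [pderiv_map, eval_map_comp]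
  unfold tpK IsTK tanForm
  simp only [hder, eval_map_comp, map_eq_zero, ne_eq]

end bc

section finite

variable {k : Type*} [Field k] [CharZero k] (K : Type*) [Field K] [IsAlgClosed K] [CharZero K]
  [Algebra k K]
  {F : MvPolynomial (Fin 4) k} (hF : F.IsHomogeneous 3)
  (a : Fin 4 → k) (hFa : eval a F = 0) (bas : Basis (Fin 4) k (Fin 4 → k))
  (hb0 : bas 0 = a) (hb1 : D F a (bas 1) = 0) (hb2 : D F a (bas 2) = 0)
  (hb3 : D F a (bas 3) = 1)

include hF hFa hb0 hb1 hb2 hb3 in
/-- only finitely many points of the tangent curve at a non-T-point are T-points -/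
theorem finite_tp_params (hnT : ¬ IsTK K F a) :
    Set.Finite {τ : k | D F (bas 1 + τ • bas 2) a ≠ 0 ∧
      IsTK K F (tcurve F a (bas 1) (bas 2) τ)} := by
  classical
  set ι := algebraMap k K with hι
  have hιinj : Function.Injective ι := (algebraMap k K).injective
  set FK := MvPolynomial.map ι F with hFK
  have hFKh : FK.IsHomogeneous 3 := hF.map _
  have hsm : ∃ i : Fin 4, eval a (pderiv i F) ≠ 0 := by
    by_contra hcon
    push Not at hcon
    have : D F a (bas 3) = 0 := by simp [D, hcon]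
    rw [hb3] at this
    exact one_ne_zero this
  have ha0 : a ≠ 0 := by
    rintro rfl
    have := D_smul_left hF (0 : k) (0 : Fin 4 → k) (bas 3)
    rw [zero_smul, hb3] at this
    norm_num at this
  have hcomp_ne : ∀ v : Fin 4 → k, v ≠ 0 → (ι ∘ v) ≠ 0 := by
    intro v hv h0
    apply hv
    funext i
    have := congrFun h0 i
    simpa using this
  set aK : Fin 4 → K := ι ∘ a with haK
  have hnta : ¬ tpK FK aK := by
    rw [tpK_iff]
    exact fun h => hnT h.2.2.2
  have hsmK : ∃ i : Fin 4, eval aK (pderiv i FK) ≠ 0 := by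
    obtain ⟨i, hi⟩ := hsm
    refine ⟨i, ?_⟩
    rw [hFK, pderiv_map, eval_map_comp]
    simpa using hi
  have hFaK : eval aK FK = 0 := by
    rw [eval_map_comp, hFa, map_zero]
  set H : Submodule K (Fin 4 → K) := LinearMap.ker (Dlin FK aK) with hH
  have hHmem : ∀ x : Fin 4 → K, x ∈ H ↔ eval x (∑ i : Fin 4,
      C (eval aK (pderiv i FK)) * X i) = 0 := by
    intro x
    rw [hH, LinearMap.mem_ker]
    show D FK aK x = 0 ↔ _
    simp only [D, map_sum, map_mul, eval_C, eval_X, mul_comm]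
  have hfin := Groth.Agent.Lib.H6xTPoint.main K FK hFKh (tpK FK) (fun b => Iff.rfl) aK hFaK hsmK
    hnta H hHmem
  set S : Set k := {τ : k | D F (bas 1 + τ • bas 2) a ≠ 0 ∧
      IsTK K F (tcurve F a (bas 1) (bas 2) τ)} with hS
  set Φ : k → Submodule K (Fin 4 → K) :=
    fun τ => Submodule.span K {ι ∘ tcurve F a (bas 1) (bas 2) τ} with hΦ
  -- the points of the curve
  have hpt : ∀ τ, D F (bas 1 + τ • bas 2) a ≠ 0 → tcurve F a (bas 1) (bas 2) τ ≠ 0 := by
    intro τ hq h0
    have := D_tcurve F hF a (bas 1) (bas 2) hFa hb1 hb2 τ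
    rw [h0] at this
    have hD0 : D F 0 a = 0 := by
      have h00 := D_smul_left hF (0 : k) (0 : Fin 4 → k) a
      simpa using h00
    rw [hD0] at this
    exact hq (pow_eq_zero_iff (by norm_num) |>.mp this.symm)
  refine Set.Finite.of_finite_image (hfin.subset ?_) ?_ (f := Φ)
  · rintro U ⟨τ, ⟨hq, hT⟩, rfl⟩
    have hv0 := hpt τ hq
    have hvK0 := hcomp_ne _ hv0
    have htp : tpK FK (ι ∘ tcurve F a (bas 1) (bas 2) τ) := by
      rw [tpK_iff]
      refine ⟨hvK0, eval_tcurve F hF a _ _ hFa hb1 hb2 τ, ?_, hT⟩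
      by_contra hcon
      push Not at hcon
      have : D F (tcurve F a (bas 1) (bas 2) τ) a = 0 := by simp [D, hcon]
      rw [D_tcurve F hF a _ _ hFa hb1 hb2] at this
      exact hq (pow_eq_zero_iff (by norm_num) |>.mp this)
    refine ⟨finrank_span_singleton hvK0, ?_, ?_⟩
    · rw [Submodule.span_le]
      rintro x rfl
      show D FK aK _ = 0
      rw [D_map_comp]
      have : D F a (tcurve F a (bas 1) (bas 2) τ) = 0 := by
        unfold tcurve
        rw [D_add_right, D_smul_right, D_smul_right, D_add_right, D_smul_right, hb1, hb2,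
          D_self hF, hFa]
        ring
      rw [this, map_zero]
    · intro b' hb' hb'0
      obtain ⟨c, rfl⟩ := Submodule.mem_span_singleton.mp hb'
      have hc : c ≠ 0 := by
        rintro rfl
        exact hb'0 (zero_smul _ _)
      exact tpK_smul hFKh htp hc
  · rintro τ ⟨hq, -⟩ τ' ⟨hq', -⟩ hUU
    have hmem : ι ∘ tcurve F a (bas 1) (bas 2) τ' ∈ Φ τ := by
      show _ ∈ Submodule.span K _
      have : Φ τ = Φ τ' := hUU
      rw [show Submodule.span K {ι ∘ tcurve F a (bas 1) (bas 2) τ} = Φ τ from rfl, this]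
      exact Submodule.subset_span rfl
    obtain ⟨c, hc⟩ := Submodule.mem_span_singleton.mp hmem
    have c1 : ∀ σ : k, bas.coord 1 (tcurve F a (bas 1) (bas 2) σ) = D F (bas 1 + σ • bas 2) a := by
      intro σ
      unfold tcurve
      rw [← hb0]
      simp
    have c2 : ∀ σ : k, bas.coord 2 (tcurve F a (bas 1) (bas 2) σ) =
        D F (bas 1 + σ • bas 2) a * σ := by
      intro σ
      unfold tcurve
      rw [← hb0]
      simp
    have e1 := congrArg (bcl K (bas.coord 1)) hc
    have e2 := congrArg (bcl K (bas.coord 2)) hc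
    rw [map_smul, bcl_apply, bcl_apply, c1, c1, smul_eq_mul] at e1
    rw [map_smul, bcl_apply, bcl_apply, c2, c2, smul_eq_mul, map_mul, map_mul] at e2
    have hq'K : ι (D F (bas 1 + τ' • bas 2) a) ≠ 0 := by
      simpa using hq'
    have : ι τ = ι τ' := by
      have h3 : ι (D F (bas 1 + τ' • bas 2) a) * ι τ = ι (D F (bas 1 + τ' • bas 2) a) * ι τ' := by
        rw [← e2, ← e1]
        ring
      exact mul_left_cancel₀ hq'K h3
    exact hιinj this

end finite

end Groth.Agent.Lib.H6xFive
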