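import Groth.Agent.Lib.H6xFiveC

set_option autoImplicit false

/-! Rational points of a cubic surface with a rational non-T-point escape every finite union of
planes; five rational points in general position. -/

namespace Groth.Agent.Lib.H6xFive

open MvPolynomial Groth.Agent.Lib.H6xCubicForm Groth.Agent.Lib.H6xNodalCubic
  Groth.Agent.Lib.H6xCubicSing Groth.Agent.Lib.H6xCubicPolar Groth.Agent.Lib.H6xPf
  Groth.Agent.Lib.H6xTPoint Module

section param

theorem exists_good_param {k : Type*} [Field k] [Infinite k] {ι : Type*} (s : Finset ι)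
    (f : ι → k → k) (hf : ∀ i ∈ s, PolyFun (f i)) (hne : ∀ i ∈ s, ∃ τ, f i τ ≠ 0)
    (B : Set k) (hB : B.Finite) : ∃ τ, τ ∉ B ∧ ∀ i ∈ s, f i τ ≠ 0 := by
  classical
  have hZ : ∀ i ∈ s, Set.Finite {τ | f i τ = 0} := by
    intro i hi
    by_contra hinf
    obtain ⟨τ, hτ⟩ := hne i hi
    exact hτ ((hf i hi).eq_zero_of_infinite _ hinf (fun τ hτ => hτ) τ)
  have hU : Set.Finite (B ∪ ⋃ i ∈ s, {τ | f i τ = 0}) :=
    hB.union (Set.Finite.biUnion s.finite_toSet hZ)
  obtain ⟨τ, hτ⟩ := hU.infinite_compl.nonempty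
  refine ⟨τ, fun hB' => hτ (Or.inl hB'), fun i hi h0 => hτ (Or.inr ?_)⟩
  simp only [Set.mem_iUnion, Set.mem_ofPred_eq]
  exact ⟨i, hi, h0⟩

end param

section smooth

variable {k : Type*} [Field k] [CharZero k] (K : Type*) [Field K] [IsAlgClosed K] [CharZero K]
  [Algebra k K]
  {F : MvPolynomial (Fin 4) k} (hF : F.IsHomogeneous 3)

include hF in
/-- the rational points escape finitely many planes: case of a smooth non-T-point -/
theorem exists_point_avoiding_of_smooth (a : Fin 4 → k) (hFa : eval a F = 0)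
    (hsm : Dlin F a ≠ 0) (hnT : ¬ IsTK K F a)
    (L : Finset ((Fin 4 → k) →ₗ[k] k)) (hL : ∀ l ∈ L, l ≠ 0) :
    ∃ p : Fin 4 → k, eval p F = 0 ∧ ∀ l ∈ L, l p ≠ 0 := by
  classical
  have ha0 : a ≠ 0 := by
    rintro rfl
    apply hsm
    refine LinearMap.ext fun v => ?_
    show D F 0 v = 0
    have := D_smul_left hF (0 : k) (0 : Fin 4 → k) v
    simpa using this
  have hla : Dlin F a a = 0 := D_a_a F hF a hFa
  obtain ⟨bas, hb0, hb1, hb2, hb3⟩ := exists_adapted_basis (Dlin F a) hsm a ha0 hla
  have hb1' : D F a (bas 1) = 0 := hb1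
  have hb2' : D F a (bas 2) = 0 := hb2
  have hb3' : D F a (bas 3) = 1 := hb3
  have hdec : IsFrame a (bas 1) (bas 2) (bas 3) (bas.coord 0) (bas.coord 1) (bas.coord 2)
      (bas.coord 3) := by
    intro x
    have := decomp bas x
    rwa [hb0] at this
  set e1 := bas 1 with he1
  set e2 := bas 2 with he2
  -- the quadratic part along the parameter
  set fq : k → k := fun τ => D F (e1 + τ • e2) a with hfq
  have hw : PolyVec (fun τ : k => e1 + τ • e2) :=
    PolyVec.add (PolyVec.const e1) (PolyVec.smul PolyFun.id (PolyVec.const e2))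
  have hfqP : PolyFun fq := polyFun_D hw (PolyVec.const a)
  have hfq_ne : ∃ τ, fq τ ≠ 0 := by
    by_contra hcon
    push Not at hcon
    have hT : T F e1 e2 a = T F a e1 e2 := by
      rw [T_symm23 hF, T_symm12 hF]
    obtain ⟨q0, q1, q2, -⟩ := cubic_coeffs_zero (D F e1 a) (T F a e1 e2) (D F e2 a) 0 fun τ => by
      have := hcon τ
      simp only [hfq] at this
      rw [D_add_left hF, D_smul_left hF, T_smul_mid, hT] at this
      linear_combination this
    exact hnT (isTK_of_planar K hF a e1 e2 (bas 3) _ _ _ _ hdec hFa hb1' hb2' hb3' q0 q1 q2)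
  have hfq_fin : Set.Finite {τ | fq τ = 0} := by
    by_contra hinf
    obtain ⟨τ, hτ⟩ := hfq_ne
    exact hτ (hfqP.eq_zero_of_infinite _ hinf (fun τ hτ => hτ) τ)
  have hTfin := finite_tp_params K hF a hFa bas hb0 hb1' hb2' hb3' hnT
  -- stage one: a good point on the tangent curve at `a`
  set L1 := L.filter (fun l => ¬ (l a = 0 ∧ l e1 = 0 ∧ l e2 = 0)) with hL1
  obtain ⟨τ1, hτ1B, hτ1L⟩ := exists_good_param L1 (fun l τ => l (tcurve F a e1 e2 τ))
    (fun l _ => polyFun_linear (polyVec_tcurve F a e1 e2) l)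
    (fun l hl => by
      by_contra hcon
      push Not at hcon
      have := ntp K hF a e1 e2 (bas 3) _ _ _ _ hdec hFa hb1' hb2' hb3' hnT l hcon
      exact (Finset.mem_filter.mp hl).2 this)
    ({τ | fq τ = 0} ∪ {τ | D F (bas 1 + τ • bas 2) a ≠ 0 ∧
      IsTK K F (tcurve F a (bas 1) (bas 2) τ)}) (hfq_fin.union hTfin)
  set b := tcurve F a e1 e2 τ1 with hb
  have hq1 : fq τ1 ≠ 0 := fun h => hτ1B (Or.inl h)
  have hnTb : ¬ IsTK K F b := fun h => hτ1B (Or.inr ⟨hq1, h⟩)
  have hFb : eval b F = 0 := eval_tcurve F hF a e1 e2 hFa hb1' hb2' τ1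
  have hDba : D F b a ≠ 0 := by
    rw [hb, D_tcurve F hF a e1 e2 hFa hb1' hb2' τ1]
    exact pow_ne_zero 3 hq1
  have hsmb : Dlin F b ≠ 0 := by
    intro h0
    apply hDba
    have := congrArg (fun l => l a) h0
    simpa [Dlin] using this
  have hb0' : b ≠ 0 := by
    intro h0
    apply hDba
    rw [h0]
    have := D_smul_left hF (0 : k) (0 : Fin 4 → k) a
    simpa using this
  have hlb : Dlin F b b = 0 := D_a_a F hF b hFb
  obtain ⟨bas', hc0, hc1, hc2, hc3⟩ := exists_adapted_basis (Dlin F b) hsmb b hb0' hlb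
  have hc1' : D F b (bas' 1) = 0 := hc1
  have hc2' : D F b (bas' 2) = 0 := hc2
  have hc3' : D F b (bas' 3) = 1 := hc3
  have hdec' : IsFrame b (bas' 1) (bas' 2) (bas' 3) (bas'.coord 0) (bas'.coord 1)
      (bas'.coord 2) (bas'.coord 3) := by
    intro x
    have := decomp bas' x
    rwa [hc0] at this
  -- stage two: a point of the tangent curve at `b` outside all the planes
  obtain ⟨τ2, -, hτ2L⟩ := exists_good_param L (fun l τ => l (tcurve F b (bas' 1) (bas' 2) τ))
    (fun l _ => polyFun_linear (polyVec_tcurve F b (bas' 1) (bas' 2)) l)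
    (fun l hl => by
      by_contra hcon
      push Not at hcon
      obtain ⟨z0, z1, z2⟩ := ntp K hF b (bas' 1) (bas' 2) (bas' 3) _ _ _ _ hdec' hFb hc1' hc2'
        hc3' hnTb l hcon
      by_cases hmem : l ∈ L1
      · exact hτ1L l hmem z0
      · have hla' : l a = 0 := by
          by_contra h
          exact hmem (Finset.mem_filter.mpr ⟨hl, fun h' => h h'.1⟩)
        -- `l` vanishes on the whole frame at `b`
        have hD3 : Dlin F b = bas'.coord 3 :=
          Dlin_eq hF b (bas' 1) (bas' 2) (bas' 3) _ _ _ _ hdec' hFb hc1' hc2' hc3'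
        have hcoord : bas'.coord 3 a ≠ 0 := by
          rw [← hD3]
          exact hDba
        have hz3 : l (bas' 3) = 0 := by
          have := congrArg l (hdec' a)
          rw [map_add, map_add, map_add, map_smul, map_smul, map_smul, map_smul, z0, z1, z2,
            hla'] at this
          simp only [smul_eq_mul, mul_zero, zero_add] at this
          exact (mul_eq_zero.mp this.symm).resolve_left hcoord
        apply hL l hl
        refine LinearMap.ext fun x => ?_
        have := congrArg l (hdec' x)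
        rw [map_add, map_add, map_add, map_smul, map_smul, map_smul, map_smul, z0, z1, z2,
          hz3] at this
        simpa using this)
    ∅ Set.finite_empty
  exact ⟨tcurve F b (bas' 1) (bas' 2) τ2, eval_tcurve F hF b _ _ hFb hc1' hc2' τ2, hτ2L⟩

end smooth

end Groth.Agent.Lib.H6xFive
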