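import Groth.Agent.Lib.H6xFiveD

set_option autoImplicit false

/-! Five rational points in general position on a cubic surface with a rational non-T-point. -/

namespace Groth.Agent.Lib.H6xFive

open MvPolynomial Groth.Agent.Lib.H6xCubicForm Groth.Agent.Lib.H6xNodalCubic
  Groth.Agent.Lib.H6xCubicSing Groth.Agent.Lib.H6xCubicPolar Groth.Agent.Lib.H6xPf
  Groth.Agent.Lib.H6xTPoint Module

section singular

variable {k : Type*} [Field k] [CharZero k] {F : MvPolynomial (Fin 4) k}
  (hF : F.IsHomogeneous 3)

omit [CharZero k] in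
include hF in
theorem not_irreducible_of_linear_factor (l : (Fin 4 → k) →ₗ[k] k) (hl : l ≠ 0)
    (G : MvPolynomial (Fin 4) k) (hfac : F = linpoly l * G) : ¬ Irreducible F := by
  intro hirr
  have hL0 : linpoly l ≠ 0 := linpoly_ne_zero l hl
  have hL1 : (linpoly l).IsHomogeneous 1 := linpoly_isHomogeneous l
  rcases hirr.isUnit_or_isUnit hfac with hu | hu
  · obtain ⟨r, -, hr⟩ := (MvPolynomial.isUnit_iff_eq_C_of_isReduced).mp hu
    have h0 : (linpoly l).IsHomogeneous 0 := by
      rw [hr]
      exact isHomogeneous_C _ _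
    exact one_ne_zero (hL1.inj_right h0 hL0)
  · obtain ⟨r, -, hr⟩ := (MvPolynomial.isUnit_iff_eq_C_of_isReduced).mp hu
    have h1' : F.IsHomogeneous 1 := by
      rw [hfac, hr]
      have := hL1.mul (isHomogeneous_C (Fin 4) r)
      simpa using this
    have := hF.inj_right h1' hirr.ne_zero
    norm_num at this

include hF in
/-- the rational points escape finitely many planes: case of a singular point -/
theorem exists_point_avoiding_of_singular (hirr : Irreducible F)
    (hcone : ¬ ∃ v : Fin 4 → k, v ≠ 0 ∧ ∑ i : Fin 4, v i • pderiv i F = 0)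
    (a : Fin 4 → k) (ha : a ≠ 0) (hFa : eval a F = 0) (hsing : Dlin F a = 0)
    (L : Finset ((Fin 4 → k) →ₗ[k] k)) (hL : ∀ l ∈ L, l ≠ 0) :
    ∃ p : Fin 4 → k, eval p F = 0 ∧ ∀ l ∈ L, l p ≠ 0 := by
  classical
  have hDa : ∀ w, D F a w = 0 := fun w => by
    have := congrArg (fun l => l w) hsing
    simpa [Dlin] using this
  have hq0 : qpoly F a ≠ 0 := by
    intro h0
    apply hcone
    refine ⟨a, ha, ?_⟩
    rw [← h0, qpoly]
    refine Finset.sum_congr rfl fun i _ => ?_
    rw [smul_eq_C_mul]
  set P : ((Fin 4 → k) →ₗ[k] k) → MvPolynomial (Fin 4) k :=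
    fun l => C (l a) * F - qpoly F a * linpoly l with hP
  have hPne : ∀ l ∈ L, P l ≠ 0 := by
    intro l hl h0
    have hl0 := hL l hl
    simp only [hP] at h0
    by_cases hla : l a = 0
    · rw [hla, map_zero, zero_mul, zero_sub, neg_eq_zero] at h0
      rcases mul_eq_zero.mp h0 with h | h
      · exact hq0 h
      · exact linpoly_ne_zero l hl0 h
    · apply not_irreducible_of_linear_factor hF l hl0 (C (l a)⁻¹ * qpoly F a) ?_ hirr
      have h1 : C (l a) * F = qpoly F a * linpoly l := by linear_combination h0
      have h2 : (C (l a)⁻¹ : MvPolynomial (Fin 4) k) * C (l a) = 1 := by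
        rw [← C_mul, inv_mul_cancel₀ hla, C_1]
      calc F = (C (l a)⁻¹ * C (l a)) * F := by rw [h2, one_mul]
        _ = C (l a)⁻¹ * (C (l a) * F) := by ring
        _ = linpoly l * (C (l a)⁻¹ * qpoly F a) := by rw [h1]; ring
  have hprod : (∏ l ∈ L, P l) ≠ 0 := Finset.prod_ne_zero_iff.mpr hPne
  obtain ⟨v, hv⟩ : ∃ v : Fin 4 → k, eval v (∏ l ∈ L, P l) ≠ 0 := by
    by_contra hcon
    push Not at hcon
    exact hprod (MvPolynomial.funext fun x => by rw [hcon x, map_zero])
  rw [map_prod, Finset.prod_ne_zero_iff] at hv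
  set q := D F v a with hq
  refine ⟨eval v F • a + (-q) • v, ?_, fun l hl => ?_⟩
  · rw [eval_add hF, eval_smul hF, eval_smul hF, D_smul_left hF, D_smul_left hF,
      D_smul_right, D_smul_right, hFa, hDa, ← hq]
    ring
  · have := hv l hl
    simp only [hP, map_sub, map_mul, eval_C, eval_qpoly, eval_linpoly] at this
    rw [map_add, map_smul, map_smul, smul_eq_mul, smul_eq_mul]
    intro h0
    apply this
    rw [← hq]
    linear_combination h0

end singular

section position

variable {k : Type*} [Field k]

theorem exists_functional_vanishing (v1 v2 v3 : Fin 4 → k) :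
    ∃ l : (Fin 4 → k) →ₗ[k] k, l ≠ 0 ∧ l v1 = 0 ∧ l v2 = 0 ∧ l v3 = 0 := by
  classical
  set W : Submodule k (Fin 4 → k) := Submodule.span k {v1, v2, v3} with hW
  have hlt : W < ⊤ := by
    rw [lt_top_iff_ne_top]
    intro htop
    have h1 : finrank k W ≤ 3 := by
      have := finrank_span_finset_le_card (R := k) ({v1, v2, v3} : Finset (Fin 4 → k))
      have hc : ({v1, v2, v3} : Finset (Fin 4 → k)).card ≤ 3 := Finset.card_le_three
      have hcoe : ((({v1, v2, v3} : Finset (Fin 4 → k)) : Set (Fin 4 → k))) = {v1, v2, v3} := by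
        simp
      rw [hcoe] at this
      exact this.trans hc
    rw [htop, finrank_top] at h1
    simp at h1
  obtain ⟨l, hl0, hle⟩ := Submodule.exists_le_ker_of_lt_top W hlt
  refine ⟨l, hl0, ?_, ?_, ?_⟩
  · exact hle (Submodule.subset_span (by simp))
  · exact hle (Submodule.subset_span (by simp))
  · exact hle (Submodule.subset_span (by simp))

/-- a basis together with a vector all of whose coordinates are nonzero is in general position -/
theorem general_position_of_basis (b : Basis (Fin 4) k (Fin 4 → k)) (w : Fin 4 → k)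
    (hw : ∀ m, b.coord m w ≠ 0) (j : Fin 5) :
    LinearIndependent k (fun i : Fin 4 =>
      (Fin.snoc (fun m : Fin 4 => b m) w : Fin 5 → (Fin 4 → k)) (j.succAbove i)) := by
  classical
  set P : Fin 5 → (Fin 4 → k) := Fin.snoc (fun m : Fin 4 => b m) w with hP
  rw [Fintype.linearIndependent_iff]
  intro g hg
  set G : Fin 5 → k := Fin.insertNth (α := fun _ => k) j 0 g with hG
  have hGj : G j = 0 := by simp [hG]
  have hGs : ∀ i, G (j.succAbove i) = g i := fun i => by simp [hG]
  have hsum : ∑ m : Fin 5, G m • P m = 0 := by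
    rw [Fin.sum_univ_succAbove _ j, hGj, zero_smul, zero_add]
    simp only [hGs]
    exact hg
  rw [Fin.sum_univ_castSucc] at hsum
  simp only [hP, Fin.snoc_castSucc, Fin.snoc_last] at hsum
  have hrel : ∀ m : Fin 4, G (Fin.castSucc m) + G (Fin.last 4) * b.coord m w = 0 := by
    intro m
    have := congrArg (b.coord m) hsum
    rw [map_add, map_sum, map_smul, map_zero] at this
    simp only [map_smul, Basis.coord_apply, Basis.repr_self, smul_eq_mul] at this
    rw [Finset.sum_eq_single m] at this
    · simpa using this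
    · intro m' _ hm'
      rw [Finsupp.single_eq_of_ne hm'.symm, mul_zero]
    · intro h
      exact absurd (Finset.mem_univ m) h
  have hlast : G (Fin.last 4) = 0 := by
    rcases Fin.eq_castSucc_or_eq_last j with ⟨m0, hm0⟩ | hjl
    · have := hrel m0
      rw [← hm0, hGj, zero_add] at this
      exact (mul_eq_zero.mp this).resolve_right (hw m0)
    · rw [← hjl]
      exact hGj
  have hall : ∀ m : Fin 5, G m = 0 := by
    intro m
    rcases Fin.eq_castSucc_or_eq_last m with ⟨m0, hm0⟩ | hml
    · have := hrel m0
      rw [hlast, zero_mul, add_zero] at this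
      rw [hm0]
      exact this
    · rw [hml]
      exact hlast
  intro i
  rw [← hGs i]
  exact hall _

end position

end Groth.Agent.Lib.H6xFive
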