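import Groth.Agent.Lib.H6xFiveE

set_option autoImplicit false

/-! Five rational points in general position on a cubic surface with a rational non-T-point:
assembly. -/

namespace Groth.Agent.Lib.H6xFive

open MvPolynomial Groth.Agent.Lib.H6xCubicForm Groth.Agent.Lib.H6xNodalCubic
  Groth.Agent.Lib.H6xCubicSing Groth.Agent.Lib.H6xCubicPolar Groth.Agent.Lib.H6xPf
  Groth.Agent.Lib.H6xTPoint Module

section select

variable {k : Type*} [Field k] {F : MvPolynomial (Fin 4) k}

theorem exists_five_points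
    (KL : ∀ L : Finset ((Fin 4 → k) →ₗ[k] k), (∀ l ∈ L, l ≠ 0) →
      ∃ p : Fin 4 → k, eval p F = 0 ∧ ∀ l ∈ L, l p ≠ 0)
    (a : Fin 4 → k) (ha : a ≠ 0) (hFa : eval a F = 0) :
    ∃ p : Fin 5 → (Fin 4 → k), p 0 = a ∧ (∀ j : Fin 5, eval (p j) F = 0) ∧
      ∀ j : Fin 5, LinearIndependent k (fun i : Fin 4 => p (j.succAbove i)) := by
  classical
  obtain ⟨l1, hl1, h1a, -, -⟩ := exists_functional_vanishing a a a
  obtain ⟨p1, hFp1, hp1⟩ := KL {l1} (by simpa using hl1)
  have hp1' : l1 p1 ≠ 0 := hp1 l1 (by simp)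
  obtain ⟨l2, hl2, h2a, h2p1, -⟩ := exists_functional_vanishing a p1 p1
  obtain ⟨p2, hFp2, hp2⟩ := KL {l2} (by simpa using hl2)
  have hp2' : l2 p2 ≠ 0 := hp2 l2 (by simp)
  obtain ⟨l3, hl3, h3a, h3p1, h3p2⟩ := exists_functional_vanishing a p1 p2
  obtain ⟨p3, hFp3, hp3⟩ := KL {l3} (by simpa using hl3)
  have hp3' : l3 p3 ≠ 0 := hp3 l3 (by simp)
  have hli : LinearIndependent k ![a, p1, p2, p3] := by
    rw [Fintype.linearIndependent_iff]
    intro g hg
    rw [Fin.sum_univ_four] at hg
    simp only [Matrix.cons_val_zero, Matrix.cons_val_one, Matrix.cons_val] at hg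
    have e3 := congrArg l3 hg
    rw [map_add, map_add, map_add, map_smul, map_smul, map_smul, map_smul, h3a, h3p1, h3p2,
      map_zero] at e3
    simp only [smul_eq_mul, mul_zero, zero_add] at e3
    have g3 : g 3 = 0 := (mul_eq_zero.mp e3).resolve_right hp3'
    rw [g3, zero_smul, add_zero] at hg
    have e2 := congrArg l2 hg
    rw [map_add, map_add, map_smul, map_smul, map_smul, h2a, h2p1, map_zero] at e2
    simp only [smul_eq_mul, mul_zero, zero_add] at e2
    have g2 : g 2 = 0 := (mul_eq_zero.mp e2).resolve_right hp2'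
    rw [g2, zero_smul, add_zero] at hg
    have e1 := congrArg l1 hg
    rw [map_add, map_smul, map_smul, h1a, map_zero] at e1
    simp only [smul_eq_mul, mul_zero, zero_add] at e1
    have g1 : g 1 = 0 := (mul_eq_zero.mp e1).resolve_right hp1'
    rw [g1, zero_smul, add_zero] at hg
    have g0 : g 0 = 0 := (smul_eq_zero.mp hg).resolve_right ha
    intro i
    fin_cases i
    · exact g0
    · exact g1
    · exact g2
    · exact g3
  set b : Basis (Fin 4) k (Fin 4 → k) :=
    basisOfLinearIndependentOfCardEqFinrank hli (by simp) with hb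
  have hbcoe : ∀ m, b m = ![a, p1, p2, p3] m := by
    intro m
    rw [hb, coe_basisOfLinearIndependentOfCardEqFinrank]
  obtain ⟨p4, hFp4, hp4⟩ := KL (Finset.univ.image fun m : Fin 4 => b.coord m) (by
    intro l hl
    obtain ⟨m, -, rfl⟩ := Finset.mem_image.mp hl
    intro h0
    have := congrArg (fun φ => φ (b m)) h0
    simp at this)
  refine ⟨Fin.snoc (fun m : Fin 4 => b m) p4, ?_, ?_, ?_⟩
  · have : (0 : Fin 5) = Fin.castSucc (0 : Fin 4) := rfl
    rw [this, Fin.snoc_castSucc, hbcoe]
    rfl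
  · intro j
    rcases Fin.eq_castSucc_or_eq_last j with ⟨m, rfl⟩ | rfl
    · rw [Fin.snoc_castSucc, hbcoe]
      fin_cases m
      · exact hFa
      · exact hFp1
      · exact hFp2
      · exact hFp3
    · rw [Fin.snoc_last]
      exact hFp4
  · exact general_position_of_basis b p4
      (fun m => hp4 _ (Finset.mem_image.mpr ⟨m, Finset.mem_univ _, rfl⟩))

end select

section main

universe u

theorem five_points (k : Type u) [Field k] [CharZero k]
    (F : MvPolynomial (Fin 4) k) (hF : F.IsHomogeneous 3)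
    (hirr : Irreducible (MvPolynomial.map (algebraMap k (AlgebraicClosure k)) F))
    (hcone : ¬ ∃ v : Fin 4 → k, v ≠ 0 ∧ ∑ i : Fin 4, v i • MvPolynomial.pderiv i F = 0)
    (a : Fin 4 → k) (ha : a ≠ 0) (hFa : MvPolynomial.eval a F = 0)
    (hT : ¬ IsTK (AlgebraicClosure k) F a) :
    ∃ p : Fin 5 → (Fin 4 → k), p 0 = a ∧ (∀ j : Fin 5, MvPolynomial.eval (p j) F = 0) ∧
      ∀ j : Fin 5, LinearIndependent k (fun i : Fin 4 => p (j.succAbove i)) := by
  have hirr' : Irreducible F := irreducible_of_map (algebraMap k (AlgebraicClosure k)) F hirr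
  refine exists_five_points (fun L hL => ?_) a ha hFa
  by_cases hsm : Dlin F a = 0
  · exact exists_point_avoiding_of_singular hF hirr' hcone a ha hFa hsm L hL
  · exact exists_point_avoiding_of_smooth (AlgebraicClosure k) hF a hFa hsm hT L hL

end main

end Groth.Agent.Lib.H6xFive
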