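import Mathlib
import Groth.Prelude.Def_DRing3
import Groth.Agent.Lib.H6xRGamI
import Groth.Agent.Lib.H6xCoextB
set_option backward.isDefEq.respectTransparency.types false

/-!
# helper6: the complex `Hom_A(N, J)` for a K-injective complex `J` computes `Hom_{D(A)}(N, J⟦q⟧)`
-/

set_option autoImplicit false
set_option linter.style.haveILetI false
universe u
open CategoryTheory CategoryTheory.Limits HomologicalComplex
attribute [local instance] HasDerivedCategory.standard

namespace Groth.Agent.Lib.H6xFl

open Groth.Agent.Lib.H6xRGam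

variable {A : Type u} [CommRing A]

/-- the functor `Hom_A(N, -)` on modules -/
noncomputable def HomF (N : ModuleCat.{u} A) : ModuleCat.{u} A ⥤ ModuleCat.{u} A where
  obj X := ModuleCat.of A (N ⟶ X)
  map f := ModuleCat.ofHom (Linear.rightComp A N f)
  map_id X := by
    apply ModuleCat.hom_ext
    apply LinearMap.ext
    intro g
    exact Category.comp_id g
  map_comp f g := by
    apply ModuleCat.hom_ext
    apply LinearMap.ext
    intro h
    exact (Category.assoc h f g).symm

instance (N : ModuleCat.{u} A) : (HomF N).Additive where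
  map_add {X Y f g} := by
    apply ModuleCat.hom_ext
    apply LinearMap.ext
    intro h
    exact Preadditive.comp_add _ _ _ h f g

/-- the complex `Hom_A(N, J)` -/
noncomputable abbrev HomCx (N : ModuleCat.{u} A) (J : Cx A) : Cx A :=
  ((HomF N).mapHomologicalComplex (ComplexShape.up ℤ)).obj J

section Ev

variable (N : ModuleCat.{u} A) (J : Cx A) (q : ℤ)

/-- the morphism `N ⟶ J.X q` underlying a cycle of `Hom_A(N, J)` -/
noncomputable def cyc (z : (HomCx N J).cycles q) : N ⟶ J.X q :=
  ((HomCx N J).iCycles q).hom z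

lemma cyc_d (z : (HomCx N J).cycles q) : cyc N J q z ≫ J.d q (q + 1) = 0 :=
  d_iCycles' (HomCx N J) q z

lemma cyc_add (z z' : (HomCx N J).cycles q) : cyc N J q (z + z') = cyc N J q z + cyc N J q z' :=
  map_add _ z z'

lemma cyc_smul (a : A) (z : (HomCx N J).cycles q) : cyc N J q (a • z) = a • cyc N J q z :=
  map_smul _ a z

/-- cycles of `Hom_A(N, J)` to morphisms in the derived category -/
noncomputable def evN : (HomCx N J).cycles q →ₗ[A] (SM N ⟶ (DerivedCategory.Q.obj J)⟦q⟧) where
  toFun z := Ψ J q (cyc N J q z) (cyc_d N J q z)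
  map_add' z z' := by
    rw [← Ψ_add]
    exact Ψ_congr J q (cyc_add N J q z z') _ _
  map_smul' a z := by
    rw [RingHom.id_apply, Ψ_smul]
    exact Ψ_congr J q (cyc_smul N J q a z) _ _

variable [J.IsKInjective]

lemma evN_surjective : Function.Surjective (evN N J q) := by
  intro ψ
  obtain ⟨f, hf, rfl⟩ := Ψ_surjective J q ψ
  obtain ⟨z, hz⟩ := exists_cycle' (HomCx N J) q f hf
  exact ⟨z, Ψ_congr J q hz _ _⟩

lemma ker_evN : LinearMap.ker (evN N J q) = LinearMap.ker ((HomCx N J).homologyπ q).hom := by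
  ext z
  rw [LinearMap.mem_ker, LinearMap.mem_ker]
  constructor
  · intro h
    obtain ⟨k, hk⟩ := (Ψ_eq_zero_iff J q (cyc N J q z) (cyc_d N J q z)).1 h
    have hz : ((HomCx N J).toCycles (q - 1) q).hom k = z := by
      apply iCycles_injective' (HomCx N J) q
      rw [iCycles_toCycles']
      exact hk
    rw [← hz]
    exact congrArg (fun t => t.hom k) ((HomCx N J).toCycles_comp_homologyπ (q - 1) q)
  · intro h
    obtain ⟨k, hk⟩ := exists_of_homologyπ_eq_zero' (HomCx N J) q z h
    refine (Ψ_eq_zero_iff J q (cyc N J q z) (cyc_d N J q z)).2 ⟨k, ?_⟩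
    have := iCycles_toCycles' (HomCx N J) q k
    rw [hk] at this
    exact this.symm

/-- **(L)** `H^q(Hom_A(N, J)) ≃ₗ Hom_{D(A)}(N[0], J⟦q⟧)` for `J` K-injective -/
noncomputable def homologyHomEquiv :
    (HomCx N J).homology q ≃ₗ[A] (SM N ⟶ (DerivedCategory.Q.obj J)⟦q⟧) :=
  (((HomCx N J).homologyπ q).hom.quotKerEquivOfSurjective
      (homologyπ_surjective' (HomCx N J) q)).symm ≪≫ₗ
    Submodule.quotEquivOfEq _ _ (ker_evN N J q).symm ≪≫ₗ
    (evN N J q).quotKerEquivOfSurjective (evN_surjective N J q)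

end Ev

end Groth.Agent.Lib.H6xFl
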