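import Mathlib
import Groth.Prelude.Def_DRing3
import Groth.Agent.Lib.H6xFlA
import Groth.Agent.Lib.H6xCoextC
import Groth.Agent.Lib.H6xLDualA
import Groth.Agent.Lib.H6xUqD
set_option backward.isDefEq.respectTransparency.types false

/-!
# helper6: the triangle `RHom_A(A/I, ω) → ω → Hom_A(I, E)[0] →` for an ideal of finite length
-/

set_option autoImplicit false
set_option linter.style.haveILetI false
universe u
open CategoryTheory CategoryTheory.Limits HomologicalComplex
attribute [local instance] HasDerivedCategory.standard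

namespace Groth.Agent.Lib.H6xFl

open Groth.Agent.Lib.Helper17 Groth.Agent.Lib.H6xRGam Groth.Agent.Lib.H6xCoext

section Quot

variable {A : Type u} [CommRing A] (I : Ideal A)

/-- the quotient map `A → A/I` -/
abbrev qI : A →+* A ⧸ I := Ideal.Quotient.mk I

variable (X : ModuleCat.{u} A)

/-- the counit `Hom_A(A/I, X) → X`, `g ↦ g 1` -/
noncomputable abbrev cuI : (Fr (qI I)).obj ((Gc (qI I)).obj X) ⟶ X := (adjFG (qI I)).counit.app X

lemma cuI_apply (g : (Fr (qI I)).obj ((Gc (qI I)).obj X)) :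
    (cuI I X).hom g = (ModuleCat.CoextendScalars.equiv (qI I) X g) (1 : A ⧸ I) := rfl

lemma one_smul_eqI (a : A) :
    (a • (1 : A ⧸ I) : (Fr (qI I)).obj (ModuleCat.of (A ⧸ I) (A ⧸ I))) = qI I a := by
  change qI I a * 1 = qI I a
  rw [mul_one]

lemma equiv_apply_mkI (g : (Fr (qI I)).obj ((Gc (qI I)).obj X)) (a : A) :
    (ModuleCat.CoextendScalars.equiv (qI I) X g) (qI I a) =
      a • (ModuleCat.CoextendScalars.equiv (qI I) X g) (1 : A ⧸ I) := by
  have h1 := (ModuleCat.CoextendScalars.equiv (qI I) X g).map_smul a (1 : A ⧸ I)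
  convert h1 using 2
  exact (one_smul_eqI I a).symm

lemma cuI_injective : Function.Injective (cuI I X).hom := by
  intro g g' h
  rw [cuI_apply, cuI_apply] at h
  apply ModuleCat.CoextendScalars.ext
  apply LinearMap.ext
  intro s
  obtain ⟨a, rfl⟩ := Ideal.Quotient.mk_surjective s
  exact (equiv_apply_mkI I X g a).trans ((congrArg (fun t => a • t) h).trans
    (equiv_apply_mkI I X g' a).symm)

lemma smul_cuI (g : (Fr (qI I)).obj ((Gc (qI I)).obj X)) (i : A) (hi : i ∈ I) :
    i • (cuI I X).hom g = 0 := by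
  rw [cuI_apply, ← equiv_apply_mkI]
  have h0 : qI I i = 0 := Ideal.Quotient.eq_zero_iff_mem.2 hi
  rw [h0]
  exact (ModuleCat.CoextendScalars.equiv (qI I) X g).map_zero

lemma exists_cuI_eq (x : X) (hx : ∀ i ∈ I, i • x = 0) : ∃ g, (cuI I X).hom g = x := by
  have hle : (I : Submodule A A) ≤ LinearMap.ker (LinearMap.toSpanSingleton A X x) := by
    intro a ha
    rw [LinearMap.mem_ker, LinearMap.toSpanSingleton_apply]
    exact hx a ha
  let g0 : (A ⧸ I) →ₗ[A] X :=
    Submodule.liftQ (I : Submodule A A) (LinearMap.toSpanSingleton A X x) hle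
  let g : (Fr (qI I)).obj (ModuleCat.of (A ⧸ I) (A ⧸ I)) →ₗ[A] X :=
    { toFun := fun s => g0 s
      map_add' := fun s s' => g0.map_add s s'
      map_smul' := fun a s => by
        obtain ⟨b, rfl⟩ := Ideal.Quotient.mk_surjective s
        have h1 : (a • (Ideal.Quotient.mk I b :
            (Fr (qI I)).obj (ModuleCat.of (A ⧸ I) (A ⧸ I)))) =
            (a • (Submodule.Quotient.mk b : A ⧸ (I : Submodule A A))) := rfl
        change g0 (a • (Ideal.Quotient.mk I b :
            (Fr (qI I)).obj (ModuleCat.of (A ⧸ I) (A ⧸ I)))) = _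
        rw [h1, g0.map_smul]
        rfl }
  refine ⟨(ModuleCat.CoextendScalars.equiv (qI I) X).symm g, ?_⟩
  rw [cuI_apply, LinearEquiv.apply_symm_apply]
  change g0 (Submodule.Quotient.mk (1 : A)) = x
  rw [Submodule.liftQ_apply, LinearMap.toSpanSingleton_apply, one_smul]

/-- the restriction map `X → Hom_A(I, X)`, `x ↦ (i ↦ i • x)` -/
noncomputable def rs : X ⟶ (HomF (ModuleCat.of A I)).obj X :=
  ModuleCat.ofHom
    { toFun := fun x => ModuleCat.ofHom ((LinearMap.toSpanSingleton A X x).comp I.subtype)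
      map_add' := fun x y => by
        apply ModuleCat.hom_ext
        apply LinearMap.ext
        intro i
        exact smul_add (i : A) x y
      map_smul' := fun a x => by
        apply ModuleCat.hom_ext
        apply LinearMap.ext
        intro i
        exact smul_comm (i : A) a x }

lemma rs_apply (x : X) (i : I) : ((rs I X).hom x).hom i = (i : A) • x := rfl

lemma rs_surjective [Module.Injective A X] : Function.Surjective (rs I X).hom := by
  intro g
  obtain ⟨h, hh⟩ := Module.Injective.out (R := A) (Q := X) I.subtype I.injective_subtype g.hom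
  refine ⟨h 1, ?_⟩
  apply ModuleCat.hom_ext
  apply LinearMap.ext
  intro i
  rw [rs_apply, ← h.map_smul, smul_eq_mul, mul_one]
  exact hh i

end Quot

section Cx

variable {A : Type u} [CommRing A] (I : Ideal A) (J : Cx A)

/-- `Hom_A(A/I, J)` as a complex of `A`-modules -/
noncomputable abbrev X₁I : Cx A :=
  ((Fr (qI I)).mapHomologicalComplex (ComplexShape.up ℤ)).obj
    (((Gc (qI I)).mapHomologicalComplex (ComplexShape.up ℤ)).obj J)

noncomputable def ιI : X₁I I J ⟶ J where
  f n := cuI I (J.X n)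
  comm' i j _ := (adjFG (qI I)).counit.naturality (J.d i j)

noncomputable def πI : J ⟶ HomCx (ModuleCat.of A I) J where
  f n := rs I (J.X n)
  comm' i j _ := by
    apply ModuleCat.hom_ext
    apply LinearMap.ext
    intro x
    apply ModuleCat.hom_ext
    apply LinearMap.ext
    intro t
    change (J.d i j).hom ((t : A) • x) = (t : A) • (J.d i j).hom x
    rw [map_smul]

noncomputable def sesI : ShortComplex (Cx A) :=
  ShortComplex.mk (ιI I J) (πI I J) (by
    apply HomologicalComplex.hom_ext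
    intro n
    apply ModuleCat.hom_ext
    apply LinearMap.ext
    intro g
    apply ModuleCat.hom_ext
    apply LinearMap.ext
    intro t
    exact smul_cuI I (J.X n) g (t : A) t.2)

lemma sesI_shortExact (hJ : ∀ n, Module.Injective A (J.X n)) : (sesI I J).ShortExact := by
  apply HomologicalComplex.shortExact_of_degreewise_shortExact
  intro n
  haveI := hJ n
  refine ShortComplex.ShortExact.mk' ?_ ?_ ?_
  · rw [ShortComplex.moduleCat_exact_iff]
    intro x hx
    refine exists_cuI_eq I (J.X n) x (fun i hi => ?_)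
    have h1 := congrArg (fun t : (HomF (ModuleCat.of A I)).obj (J.X n) =>
      t.hom (⟨i, hi⟩ : I)) hx
    exact h1
  · exact (ModuleCat.mono_iff_injective _).2 (cuI_injective I (J.X n))
  · exact (ModuleCat.epi_iff_surjective _).2 (rs_surjective I (J.X n))

end Cx


section Main

open Pretriangulated DerivedCategory

variable {A : Type u} [CommRing A] [IsLocalRing A] [IsNoetherianRing A]
  (ω : Dual.D A) (hω : Dual.IsDualizing A ω) (hn : Dual.IsNormalized A ω)
  (I : Ideal A) (hIl : IsFiniteLength A I)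
  (E : Type u) [AddCommGroup E] [Module A E] (e : IsLocalRing.ResidueField A →ₗ[A] E)
  (he : InjHull.IsInjectiveHull e)

include hω hn hIl he in
/-- **S8945** -/
theorem exists_triangle_of_finiteLength
    (R : Dual.D A ⥤ Dual.D (A ⧸ I)) (adj : DRing.restrictD (qI I) ⊣ R) :
    ∃ (u : (DRing.restrictD (qI I)).obj (R.obj ω) ⟶ ω) (v : ω ⟶ Dual.inD A (I →ₗ[A] E))
      (w : Dual.inD A (I →ₗ[A] E) ⟶ ((DRing.restrictD (qI I)).obj (R.obj ω))⟦(1 : ℤ)⟧),
      Triangle.mk u v w ∈ distinguishedTriangles := by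
  obtain ⟨RG, β, hβ⟩ := exists_RG (qI I)
  let adj' : DRing.restrictD (qI I) ⊣ RG :=
    KInj.derivedAdjunction.{u} (Fr (qI I)) (Gc (qI I)) (adjFG (qI I)) RG β
  let iso0 : R ≅ RG := adj.rightAdjointUniq adj'
  obtain ⟨J, hJ, hinj, ⟨eJ⟩⟩ := exists_kInj_iso ω
  haveI := hJ
  haveI : IsIso (β.app J) := KInj.isIso_app_of_isKInjective.{u} (Gc (qI I)) RG β J
  let e₁ : (DRing.restrictD (qI I)).obj (R.obj ω) ≅ DerivedCategory.Q.obj (X₁I I J) :=
    (DRing.restrictD (qI I)).mapIso (iso0.app ω ≪≫ RG.mapIso eJ ≪≫ (asIso (β.app J)).symm) ≪≫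
      (Fr (qI I)).mapDerivedCategoryFactors.app _
  have hS := sesI_shortExact I J hinj
  obtain ⟨δ, hT⟩ : ∃ δ : DerivedCategory.Q.obj (HomCx (ModuleCat.of A I) J) ⟶
      (DerivedCategory.Q.obj (X₁I I J))⟦(1 : ℤ)⟧,
      Triangle.mk (DerivedCategory.Q.map (ιI I J)) (DerivedCategory.Q.map (πI I J)) δ ∈
        distinguishedTriangles :=
    ⟨DerivedCategory.triangleOfSESδ hS, DerivedCategory.triangleOfSES_distinguished hS⟩
  -- the third vertex
  obtain ⟨hvan, ⟨l0⟩⟩ := Groth.Agent.Lib.H6xLDual.ext_finiteLength ω hω hn E e he I hIl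
  have hl : ∀ q : ℤ, Nonempty (Dual.HD A (DerivedCategory.Q.obj (HomCx (ModuleCat.of A I) J)) q
      ≃ₗ[A] (Dual.inD A I ⟶ ω⟦q⟧)) := fun q =>
    ⟨((homologyFunctorFactors (ModuleCat.{u} A) q).app
        (HomCx (ModuleCat.of A I) J)).toLinearEquiv ≪≫ₗ
      homologyHomEquiv (ModuleCat.of A I) J q ≪≫ₗ
      Linear.homCongr A (Iso.refl _) ((shiftFunctor (Dual.D A) q).mapIso eJ.symm)⟩
  obtain ⟨e3⟩ := Groth.Agent.Lib.H6xUq.nonempty_iso_shift_single_of_HD
    (DerivedCategory.Q.obj (HomCx (ModuleCat.of A I) J)) 0 0 (by omega) (fun j hj => by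
      obtain ⟨l⟩ := hl j
      haveI := hvan j hj
      exact l.toEquiv.subsingleton)
  obtain ⟨l⟩ := hl 0
  let l2 : (Dual.inD A I ⟶ ω⟦(0 : ℤ)⟧) ≃ₗ[A] (Dual.inD A I ⟶ ω) :=
    Linear.homCongr A (Iso.refl _) ((shiftFunctorZero (Dual.D A) ℤ).app ω)
  let e₃ : DerivedCategory.Q.obj (HomCx (ModuleCat.of A I) J) ≅ Dual.inD A (I →ₗ[A] E) :=
    e3 ≪≫ (shiftFunctorZero (Dual.D A) ℤ).app _ ≪≫
      (DerivedCategory.singleFunctor (ModuleCat.{u} A) 0).mapIso (l ≪≫ₗ l2 ≪≫ₗ l0).toModuleIso
  refine ⟨e₁.hom ≫ DerivedCategory.Q.map (ιI I J) ≫ eJ.inv,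
    eJ.hom ≫ DerivedCategory.Q.map (πI I J) ≫ e₃.hom,
    e₃.inv ≫ δ ≫ (shiftFunctor (Dual.D A) (1 : ℤ)).map e₁.inv, ?_⟩
  refine isomorphic_distinguished _ hT _ ?_
  refine Triangle.isoMk _ _ e₁ eJ e₃.symm ?_ ?_ ?_
  · change (e₁.hom ≫ DerivedCategory.Q.map (ιI I J) ≫ eJ.inv) ≫ eJ.hom =
      e₁.hom ≫ DerivedCategory.Q.map (ιI I J)
    rw [Category.assoc, Category.assoc, Iso.inv_hom_id, Category.comp_id]
  · change (eJ.hom ≫ DerivedCategory.Q.map (πI I J) ≫ e₃.hom) ≫ e₃.inv =
      eJ.hom ≫ DerivedCategory.Q.map (πI I J)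
    rw [Category.assoc, Category.assoc, Iso.hom_inv_id, Category.comp_id]
  · change (e₃.inv ≫ δ ≫ (shiftFunctor (Dual.D A) (1 : ℤ)).map e₁.inv) ≫
        (shiftFunctor (Dual.D A) (1 : ℤ)).map e₁.hom = e₃.inv ≫ δ
    rw [Category.assoc, Category.assoc, ← Functor.map_comp, Iso.inv_hom_id,
      CategoryTheory.Functor.map_id, Category.comp_id]

end Main

end Groth.Agent.Lib.H6xFl
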