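import Mathlib
import Groth.Agent.Lib.H6xHasLTens
import Groth.Agent.Lib.H6xFlatPushKInj
import Groth.Agent.Lib.Helper1CI7
import Groth.Agent.Lib.Helper1PT4
import Groth.Agent.Lib.Helper1KBC6
import Groth.Agent.S0960
import Groth.Agent.Lib.H6xSuppPush
set_option backward.isDefEq.respectTransparency.types false

/-!
# Flat amplitude descends along flat surjective morphisms (helper6)
-/

set_option autoImplicit false
set_option linter.style.haveILetI false

universe u

open CategoryTheory CategoryTheory.Limits AlgebraicGeometry HomologicalComplex TopologicalSpace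
  Opposite MonoidalCategory ZeroObject

attribute [local instance] HasDerivedCategory.standard

namespace Groth.Agent.Lib.H6xFlatAmpDesc

open Groth.Agent.Lib.Helper1.BKF Groth.Agent.Lib.Helper1.CI Groth.Agent.Lib.Helper1.Sky
  Groth.Agent.Lib.Helper1.KBC Groth.Agent.Lib.Helper1.PT Groth.Agent.Lib.H6xHasLTens

variable {X Y : Scheme.{u}} (f : X ⟶ Y)

/-- the pullback of the termwise tensor product with a module -/
noncomputable def pullTtwIso (G : Y.Modules) (K : CochainComplex Y.Modules ℤ) :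
    (pullC f).obj ((Ttw G).obj K) ≅ (Ttw ((plb f).obj G)).obj ((pullC f).obj K) :=
  HomologicalComplex.Hom.isoOfComponents
    (fun n => @asIso _ _ _ _ (delta f (K.X n) G) (isIso_delta f (K.X n) G))
    (fun i j _ => (delta_naturality_left f (K.d i j) G).symm)

/-- a module whose pullback along a flat surjective morphism vanishes is zero -/
lemma isZero_of_isZero_pullback [Flat f] [Surjective f] (G : Y.Modules)
    (h : IsZero ((plb f).obj G)) : IsZero G := by
  rw [IsZero.iff_id_eq_zero]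
  refine Groth.Agent.Lib.Helper26.FpqcMod.eq_zero_of_family (fun _ : Unit => f)
    (fun y => ⟨(), f.surjective y⟩) (𝟙 G) (fun _ => ?_)
  exact h.eq_of_src _ _

/-- key: vanishing of the cohomology of `K ⊗ G` outside `[a, b]` descends -/
theorem isZero_homology_Ttw [Flat f] [Surjective f] [DCoh.HasLpull f]
    (K : CochainComplex Y.Modules ℤ) (hK : DCoh.IsKFlat K) (a b : ℤ)
    (h : DCoh.HasFlatAmplitudeIn a b ((DCoh.Lpull f).obj (DCoh.toD Y K)))
    (G : Y.Modules) (i : ℤ) (hi : i < a ∨ b < i) : IsZero (((Ttw G).obj K).homology i) := by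
  have hK' : DCoh.IsKFlat ((pullC f).obj K) := Groth.Agent.S0960.isKFlat_pullC f K hK
  have h1 : DCoh.HasFlatAmplitudeIn a b (DCoh.toD X ((pullC f).obj K)) := by
    obtain ⟨E, hE, hfl, ⟨e⟩⟩ := h
    exact ⟨E, hE, hfl, ⟨e ≪≫ lpullIsoK f K hK⟩⟩
  have h2 := hasTorAmplitudeIn_of_hasFlatAmplitudeIn a b h1
  haveI := hasLTensorMod ((plb f).obj G)
  have h3 : IsZero (((Ttw ((plb f).obj G)).obj ((pullC f).obj K)).homology i) :=
    IsZero.of_iso (h2 ((plb f).obj G) i hi) (HDltmIso ((plb f).obj G) _ hK' i).symm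
  have h4 : IsZero (((pullC f).obj ((Ttw G).obj K)).homology i) :=
    IsZero.of_iso h3 ((HomologicalComplex.homologyFunctor _ _ i).mapIso (pullTtwIso f G K))
  apply isZero_of_isZero_pullback f
  exact IsZero.of_iso h4 ((((Ttw G).obj K).sc i).mapHomologyIso (plb f)).symm

/-- S7244 -/
theorem main [Flat f] [Surjective f] [DCoh.HasLpull f] (E : DCoh.D Y) (a b : ℤ)
    (h : DCoh.HasFlatAmplitudeIn a b ((DCoh.Lpull f).obj E)) : DCoh.HasFlatAmplitudeIn a b E := by
  obtain ⟨K, q, hK, -, hq, -⟩ : ∃ (K : CochainComplex Y.Modules ℤ)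
      (q : K ⟶ DerivedCategory.Q.objPreimage E), DCoh.IsKFlat K ∧
      (∀ n : ℤ, ModSite.IsFlat (O := Y.sheaf) (K.X n)) ∧ QuasiIso q ∧ ∀ n : ℤ, Epi (q.f n) :=
    exists_kflat_flat_resolution Y.sheaf (DerivedCategory.Q.objPreimage E)
  have hqi : IsIso (DerivedCategory.Q.map q) := by
    rw [DerivedCategory.isIso_Q_map_iff_quasiIso]; exact hq
  have eK : DCoh.toD Y K ≅ E :=
    asIso (DerivedCategory.Q.map q) ≪≫ DerivedCategory.Q.objObjPreimageIso E
  have h' : DCoh.HasFlatAmplitudeIn a b ((DCoh.Lpull f).obj (DCoh.toD Y K)) := by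
    obtain ⟨P, hP, hfl, ⟨e⟩⟩ := h
    exact ⟨P, hP, hfl, ⟨e ≪≫ (DCoh.Lpull f).mapIso eK.symm⟩⟩
  have key := isZero_homology_Ttw f K hK a b h'
  by_cases hab : a ≤ b
  · refine hasFlatAmplitudeIn_of_hasTorAmplitudeIn E a b hab (fun G => hasLTensorMod G) ?_
    intro G _ i hi
    exact IsZero.of_iso (key G i hi)
      ((DerivedCategory.homologyFunctor _ i).mapIso ((DCoh.LTensorMod G).mapIso eK.symm) ≪≫
        HDltmIso G K hK i)
  · have hac : ∀ i, IsZero (K.homology i) := fun i =>
      IsZero.of_iso (key (unitMod Y) i (by omega))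
        ((HomologicalComplex.homologyFunctor _ _ i).mapIso (ttwUnitIso Y.sheaf K).symm)
    have hz : IsZero E :=
      IsZero.of_iso (Groth.Agent.Lib.H6xSuppPush.isZero_Q_obj_of_acyc K hac) eK.symm
    have hz0 : ∀ i : ℤ, IsZero ((0 : CochainComplex Y.Modules ℤ).X i) := fun i =>
      (HomologicalComplex.eval Y.Modules (ComplexShape.up ℤ) i).map_isZero (isZero_zero _)
    refine ⟨0, fun i _ => hz0 i, fun i => ?_, ⟨?_⟩⟩
    · exact Groth.Agent.Lib.Helper1.StalkTensor.isFlat_of_modSite_isFlat _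
        (isFlat_of_isZero Y.sheaf _ (hz0 i))
    · exact (IsZero.of_iso (isZero_zero _) (DerivedCategory.Q.mapZeroObject)).iso hz

end Groth.Agent.Lib.H6xFlatAmpDesc
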