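import Mathlib
import Groth.Agent.Lib.Helper1TorO
set_option backward.isDefEq.respectTransparency.types false

/-!
# Tor vanishing from a localization `R_f` and the quotient `R/f` (helper6)
-/

set_option autoImplicit false
set_option maxHeartbeats 400000
set_option linter.style.haveILetI false
universe u
open CategoryTheory CategoryTheory.Limits MonoidalCategory HomologicalComplex TensorProduct
attribute [local instance] HasDerivedCategory.standard

namespace Groth.Agent.Lib.H6xFlatGlue

open DerivedCategory Groth.Agent.Lib.Helper1.KF Groth.Agent.Lib.Helper1.Tor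
  Groth.Agent.Lib.Helper1.DT Groth.Agent.Lib.Helper1.LDer Groth.Agent.Lib.Helper1.TorM
  Groth.Agent.Lib.Helper1.TorN Groth.Agent.Lib.Helper1.TorO

variable {R : Type u} [CommRing R]

/-- every tensor over a power torsion module comes from a bounded torsion submodule -/
lemma exists_torsionBy_preimage (f : R) (T : Type u) [AddCommGroup T] [Module R T]
    (hT : ∀ x : T, ∃ k : ℕ, f ^ k • x = 0) (X : Type u) [AddCommGroup X] [Module R X]
    (z : T ⊗[R] X) :
    ∃ (k : ℕ) (z' : (Submodule.torsionBy R T (f ^ k)) ⊗[R] X),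
      (Submodule.torsionBy R T (f ^ k)).subtype.rTensor X z' = z := by
  have hmono : ∀ k k' : ℕ, k ≤ k' →
      Submodule.torsionBy R T (f ^ k) ≤ Submodule.torsionBy R T (f ^ k') := by
    intro k k' hkk' x hx
    rw [Submodule.mem_torsionBy_iff] at hx ⊢
    obtain ⟨d, rfl⟩ := Nat.exists_eq_add_of_le hkk'
    rw [pow_add, mul_comm, mul_smul, hx, smul_zero]
  induction z using TensorProduct.induction_on with
  | zero => exact ⟨0, 0, map_zero _⟩
  | tmul t x =>
    obtain ⟨k, hk⟩ := hT t
    exact ⟨k, (⟨t, (Submodule.mem_torsionBy_iff _ _).2 hk⟩ :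
      Submodule.torsionBy R T (f ^ k)) ⊗ₜ[R] x, rfl⟩
  | add z₁ z₂ h₁ h₂ =>
    obtain ⟨k₁, z₁', h₁'⟩ := h₁
    obtain ⟨k₂, z₂', h₂'⟩ := h₂
    refine ⟨max k₁ k₂,
      (Submodule.inclusion (hmono k₁ _ (le_max_left _ _))).rTensor X z₁' +
      (Submodule.inclusion (hmono k₂ _ (le_max_right _ _))).rTensor X z₂', ?_⟩
    rw [map_add, ← h₁', ← h₂']
    congr 1
    · rw [← LinearMap.comp_apply, ← LinearMap.rTensor_comp]
      rfl
    · rw [← LinearMap.comp_apply, ← LinearMap.rTensor_comp]
      rfl

/-- exactness of `T ⊗ F` in a degree for a power torsion module `T`, from the bounded torsion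
case (filtered union argument; uses flatness of the terms) -/
theorem exactAt_TC_of_powerTorsion (f : R) (F : Cx R) (hFf : DRing.TermwiseFlat F) (i : ℤ)
    (hk : ∀ (k : ℕ) (N : Type u) [AddCommGroup N] [Module R N], (∀ x : N, f ^ k • x = 0) →
      ((TC (ModuleCat.of R N)).obj F).ExactAt i)
    (T : Type u) [AddCommGroup T] [Module R T] (hT : ∀ x : T, ∃ k : ℕ, f ^ k • x = 0) :
    ((TC (ModuleCat.of R T)).obj F).ExactAt i := by
  rw [exactAt_TC_iff _ _ (i - 1) i (i + 1) (by lia) rfl]
  intro z
  constructor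
  · intro hz
    obtain ⟨k, z', hz'⟩ := exists_torsionBy_preimage f T hT (F.X i) z
    let Tk := Submodule.torsionBy R T (f ^ k)
    have hex := hk k Tk (fun x => by
      apply Subtype.ext
      exact (Submodule.mem_torsionBy_iff _ _).1 x.2)
    rw [exactAt_TC_iff _ _ (i - 1) i (i + 1) (by lia) rfl] at hex
    have hinj : Function.Injective (Tk.subtype.rTensor (F.X (i + 1))) := by
      haveI := hFf (i + 1)
      exact Module.Flat.rTensor_preserves_injective_linearMap _ Tk.subtype_injective
    have h0 : ((F.d i (i + 1)).hom.lTensor Tk) z' = 0 := by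
      apply hinj
      rw [map_zero, ← LinearMap.comp_apply, LinearMap.rTensor_comp_lTensor,
        ← LinearMap.lTensor_comp_rTensor, LinearMap.comp_apply]
      exact (congrArg _ hz').trans hz
    obtain ⟨w', hw'⟩ := (hex z').1 h0
    refine ⟨Tk.subtype.rTensor (F.X (i - 1)) w', ?_⟩
    rw [← hz', ← hw', ← LinearMap.comp_apply, ← LinearMap.comp_apply,
      LinearMap.lTensor_comp_rTensor, ← LinearMap.rTensor_comp_lTensor]
  · rintro ⟨w, rfl⟩
    show ((F.d i (i + 1)).hom.lTensor T) (((F.d (i - 1) i).hom.lTensor T) w) = 0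
    rw [← LinearMap.comp_apply, ← LinearMap.lTensor_comp]
    have : (F.d i (i + 1)).hom ∘ₗ (F.d (i - 1) i).hom = 0 := by
      rw [← ModuleCat.hom_comp, F.d_comp_d]
      rfl
    rw [this, LinearMap.lTensor_zero, LinearMap.zero_apply]

end Groth.Agent.Lib.H6xFlatGlue
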