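import Mathlib
import Groth.Agent.Lib.H6xFlatGlueA
set_option backward.isDefEq.respectTransparency.types false

/-!
# Tor vanishing from a localization `R_f` and the quotient `R/f`, part 2 (helper6)
-/

set_option autoImplicit false
set_option maxHeartbeats 400000
set_option linter.style.haveILetI false
universe u
open CategoryTheory CategoryTheory.Limits MonoidalCategory HomologicalComplex TensorProduct
attribute [local instance] HasDerivedCategory.standard

namespace Groth.Agent.Lib.H6xFlatGlue

open DerivedCategory Groth.Agent.Lib.Helper1.KF Groth.Agent.Lib.Helper1.Tor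
  Groth.Agent.Lib.Helper1.DT Groth.Agent.Lib.Helper1.LDer Groth.Agent.Lib.Helper1.TorM
  Groth.Agent.Lib.Helper1.TorN Groth.Agent.Lib.Helper1.TorO

variable {R : Type u} [CommRing R]

/-- modules killed by a power of `f`, from the quotient `R/f` -/
theorem exactAt_TC_of_pow_smul (f : R) (F : Cx R) (hFf : DRing.TermwiseFlat F) (i : ℤ)
    (hq : ∀ Nb : ModuleCat.{u} (R ⧸ Ideal.span ({f} : Set R)),
      ((TC Nb).obj ((DTen.extCx (Ideal.Quotient.mk (Ideal.span ({f} : Set R)))).obj F)).ExactAt i)
    (k : ℕ) (N : Type u) [AddCommGroup N] [Module R N] (hN : ∀ x : N, f ^ k • x = 0) :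
    ((TC (ModuleCat.of R N)).obj F).ExactAt i := by
  have hbase : ∀ (N : Type u) [AddCommGroup N] [Module R N],
      (∀ r ∈ Ideal.span ({f} : Set R), ∀ x : N, r • x = 0) →
        ((TC (ModuleCat.of R N)).obj F).ExactAt i := by
    intro N _ _ hN
    obtain ⟨Nb, ⟨e⟩⟩ := exists_iso_restrictScalars_of_ker_smul_eq_zero
      (Ideal.Quotient.mk (Ideal.span ({f} : Set R))) Ideal.Quotient.mk_surjective N (by
        intro r hr x
        rw [Ideal.mk_ker] at hr
        exact hN r hr x)
    exact exactAt_TC_of_iso e F i (exactAt_TC_restrict_of_exactAt_TC_ext _ Nb F i (hq Nb))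
  refine exactAt_TC_of_pow_smul_eq_zero' (Ideal.span ({f} : Set R)) F hFf i hbase k N ?_
  intro r hr x
  rw [Ideal.span_singleton_pow, Ideal.mem_span_singleton'] at hr
  obtain ⟨a, rfl⟩ := hr
  rw [mul_smul, hN, smul_zero]

/-- connecting-homomorphism step: exactness for the kernel term from the middle term and the
cokernel term one degree lower -/
theorem exactAt_TC_of_shortExact₁ (S : ShortComplex (ModuleCat.{u} R)) (hS : S.ShortExact)
    (F : DRing.Cx R) (hF : DRing.TermwiseFlat F) (i : ℤ)
    (h2 : ((TC S.X₂).obj F).ExactAt i) (h3 : ((TC S.X₃).obj F).ExactAt (i - 1)) :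
    ((TC S.X₁).obj F).ExactAt i := by
  have hT := TCshort_shortExact S hS F hF
  have hex := hT.homology_exact₁ (i - 1) i (by simp)
  rw [HomologicalComplex.exactAt_iff_isZero_homology] at h2 h3 ⊢
  exact hex.isZero_of_both_zeros (h3.eq_of_src _ _) (h2.eq_of_tgt _ _)

/-- the localized module `N_f`, from the localization `R_f` -/
theorem exactAt_TC_localizedModule (f : R) (F : Cx R) (i : ℤ)
    (hl : ∀ Nb : ModuleCat.{u} (Localization.Away f),
      ((TC Nb).obj ((DTen.extCx (algebraMap R (Localization.Away f))).obj F)).ExactAt i)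
    (N : Type u) [AddCommGroup N] [Module R N] :
    ((TC (ModuleCat.of R (LocalizedModule (Submonoid.powers f) N))).obj F).ExactAt i := by
  have h1 := exactAt_TC_restrict_of_exactAt_TC_ext (algebraMap R (Localization.Away f))
    (ModuleCat.of (Localization.Away f) (LocalizedModule (Submonoid.powers f) N)) F i (hl _)
  have hsm : ∀ (r : R) (x : LocalizedModule (Submonoid.powers f) N),
      (algebraMap R (Localization.Away f) r) • x = r • x :=
    fun r x => algebraMap_smul (Localization.Away f) r x
  obtain ⟨e⟩ := nonempty_iso_of_addEquiv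
    (X := (ModuleCat.restrictScalars (algebraMap R (Localization.Away f))).obj
      (ModuleCat.of (Localization.Away f) (LocalizedModule (Submonoid.powers f) N)))
    (N := LocalizedModule (Submonoid.powers f) N)
    (AddEquiv.refl (LocalizedModule (Submonoid.powers f) N))
    (fun r x => hsm r x)
  exact exactAt_TC_of_iso e F i h1

end Groth.Agent.Lib.H6xFlatGlue
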