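import Mathlib
import Groth.Agent.Lib.H6xFlatGlueB
set_option backward.isDefEq.respectTransparency.types false

/-!
# Tor vanishing from a localization `R_f` and the quotient `R/f`, part 3 (helper6)
-/

set_option autoImplicit false
set_option maxHeartbeats 400000
set_option linter.style.haveILetI false
universe u
open CategoryTheory CategoryTheory.Limits MonoidalCategory HomologicalComplex TensorProduct
attribute [local instance] HasDerivedCategory.standard

namespace Groth.Agent.Lib.H6xFlatGlue

open DerivedCategory Groth.Agent.Lib.Helper1.KF Groth.Agent.Lib.Helper1.Tor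
  Groth.Agent.Lib.Helper1.DT Groth.Agent.Lib.Helper1.LDer Groth.Agent.Lib.Helper1.TorM
  Groth.Agent.Lib.Helper1.TorN Groth.Agent.Lib.Helper1.TorO

variable {R : Type u} [CommRing R]

/-- glueing tor vanishing below `a` from `R_f` and `R/f` -/
theorem exactAt_TC_of_away_of_quotient (f : R) (F : Cx R) (hFf : DRing.TermwiseFlat F) (a : ℤ)
    (hl : ∀ j : ℤ, j < a → ∀ Nb : ModuleCat.{u} (Localization.Away f),
      ((TC Nb).obj ((DTen.extCx (algebraMap R (Localization.Away f))).obj F)).ExactAt j)
    (hq : ∀ j : ℤ, j < a → ∀ Nb : ModuleCat.{u} (R ⧸ Ideal.span ({f} : Set R)),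
      ((TC Nb).obj ((DTen.extCx (Ideal.Quotient.mk (Ideal.span ({f} : Set R)))).obj F)).ExactAt j)
    (i : ℤ) (hi : i < a) (N : Type u) [AddCommGroup N] [Module R N] :
    ((TC (ModuleCat.of R N)).obj F).ExactAt i := by
  have htors : ∀ (j : ℤ), j < a → ∀ (T : Type u) [AddCommGroup T] [Module R T],
      (∀ x : T, ∃ k : ℕ, f ^ k • x = 0) → ((TC (ModuleCat.of R T)).obj F).ExactAt j := by
    intro j hj T _ _ hT
    exact exactAt_TC_of_powerTorsion f F hFf j (fun k N _ _ hN =>
      exactAt_TC_of_pow_smul f F hFf j (hq j hj) k N hN) T hT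
  let ℓ : N →ₗ[R] LocalizedModule (Submonoid.powers f) N :=
    LocalizedModule.mkLinearMap (Submonoid.powers f) N
  have hK : ∀ x : LinearMap.ker ℓ, ∃ k : ℕ, f ^ k • x = 0 := by
    intro x
    obtain ⟨⟨c, k, rfl⟩, hc⟩ := (IsLocalizedModule.eq_zero_iff (Submonoid.powers f) ℓ).1 x.2
    exact ⟨k, Subtype.ext hc⟩
  have hC : ∀ y : (LocalizedModule (Submonoid.powers f) N) ⧸ LinearMap.range ℓ,
      ∃ k : ℕ, f ^ k • y = 0 := by
    intro y
    induction y using Submodule.Quotient.induction_on with
    | _ y =>
      obtain ⟨⟨n, ⟨c, k, rfl⟩⟩, h⟩ := IsLocalizedModule.surj (Submonoid.powers f) ℓ y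
      refine ⟨k, ?_⟩
      rw [← Submodule.Quotient.mk_smul, Submodule.Quotient.mk_eq_zero]
      exact ⟨n, h.symm⟩
  -- the range of `ℓ`
  let S2 : ShortComplex (ModuleCat.{u} R) :=
    ShortComplex.mk (ModuleCat.ofHom (LinearMap.range ℓ).subtype)
      (ModuleCat.ofHom (LinearMap.range ℓ).mkQ) (by
        ext x
        simp)
  have hS2 : S2.ShortExact :=
    { exact := by
        rw [ShortComplex.ShortExact.moduleCat_exact_iff_function_exact]
        exact LinearMap.exact_subtype_mkQ (LinearMap.range ℓ)
      mono_f := (ModuleCat.mono_iff_injective _).2 (LinearMap.range ℓ).subtype_injective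
      epi_g := (ModuleCat.epi_iff_surjective _).2 (LinearMap.range ℓ).mkQ_surjective }
  have hR : ((TC (ModuleCat.of R (LinearMap.range ℓ))).obj F).ExactAt i :=
    exactAt_TC_of_shortExact₁ S2 hS2 F hFf i
      (exactAt_TC_localizedModule f F i (hl i hi) N)
      (htors (i - 1) (by lia) _ hC)
  let S1 : ShortComplex (ModuleCat.{u} R) :=
    ShortComplex.mk (ModuleCat.ofHom (LinearMap.ker ℓ).subtype)
      (ModuleCat.ofHom ℓ.rangeRestrict) (by
        ext x
        exact x.2)
  have hS1 : S1.ShortExact :=
    { exact := by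
        rw [ShortComplex.ShortExact.moduleCat_exact_iff_function_exact]
        apply LinearMap.exact_iff.2
        show LinearMap.ker ℓ.rangeRestrict = LinearMap.range (LinearMap.ker ℓ).subtype
        rw [LinearMap.ker_rangeRestrict, Submodule.range_subtype]
      mono_f := (ModuleCat.mono_iff_injective _).2 (LinearMap.ker ℓ).subtype_injective
      epi_g := (ModuleCat.epi_iff_surjective _).2 ℓ.surjective_rangeRestrict }
  exact exactAt_TC_of_shortExact S1 hS1 F hFf i (htors i hi _ hK) hR

/-- **glueing tor amplitude**: a complex of flat modules whose base changes to `R_f` and `R/f`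
have tor vanishing outside `[a, b]`, and which has tor vanishing above `b`, has tor vanishing
outside `[a, b]` -/
theorem torVan_of_away_of_quotient (f : R) (F : Cx R) (hFf : DRing.TermwiseFlat F) (a b : ℤ)
    (hb : ∀ (M : ModuleCat.{u} R) (i : ℤ), b < i → ((TC M).obj F).ExactAt i)
    (hl : TorVan ((DTen.extCx (algebraMap R (Localization.Away f))).obj F) a b)
    (hq : TorVan ((DTen.extCx (Ideal.Quotient.mk (Ideal.span ({f} : Set R)))).obj F) a b) :
    TorVan F a b := by
  intro M i hi
  rcases hi with hi | hi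
  · exact exactAt_TC_of_iso (Iso.refl M : ModuleCat.of R M ≅ M) F i
      (exactAt_TC_of_away_of_quotient f F hFf a (fun j hj Nb => hl Nb j (Or.inl hj))
        (fun j hj Nb => hq Nb j (Or.inl hj)) i hi M)
  · exact hb M i hi

end Groth.Agent.Lib.H6xFlatGlue
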