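import Mathlib
import Groth.Agent.Lib.H6xFlatGlueC
set_option backward.isDefEq.respectTransparency.types false

/-!
# A complex which is a flat module in degree `0` over `R_f` and `R/f` (helper6)
-/

set_option autoImplicit false
set_option maxHeartbeats 400000
set_option linter.style.haveILetI false
universe u
open CategoryTheory CategoryTheory.Limits MonoidalCategory HomologicalComplex TensorProduct
attribute [local instance] HasDerivedCategory.standard

namespace Groth.Agent.Lib.H6xFlatGlue

open DerivedCategory Groth.Agent.Lib.Helper1.KF Groth.Agent.Lib.Helper1.Tor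
  Groth.Agent.Lib.Helper1.DT Groth.Agent.Lib.Helper1.LDer Groth.Agent.Lib.Helper1.TorM
  Groth.Agent.Lib.Helper1.TorN Groth.Agent.Lib.Helper1.TorO

variable {R : Type u} [CommRing R]

/-- tor vanishing outside `[0, 0]` of the base change of a K-projective complex whose derived
base change is a flat module in degree `0` -/
theorem torVan_extCx_of_iso_inD {B : Type u} [CommRing B] (φ : R →+* B) [DRing.HasLBaseChange φ]
    (P : Cx R) [P.IsKProjective] (M : Dual.D R) (e : Q.obj P ≅ M)
    (N : Type u) [AddCommGroup N] [Module B N] [Module.Flat B N]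
    (eN : (DRing.LBaseChange φ).obj M ≅ Dual.inD B N) :
    TorVan ((DTen.extCx φ).obj P) 0 0 := by
  let E : Cx B := (HomologicalComplex.single (ModuleCat.{u} B) (ComplexShape.up ℤ) 0).obj
    (ModuleCat.of B N)
  have hE : DRing.VanishesOutside E 0 0 := by
    intro i hi
    exact isZero_single_obj_X (ComplexShape.up ℤ) 0 _ i (by lia)
  have hEf : DRing.TermwiseFlat E := by
    intro i
    by_cases hi : i = 0
    · subst hi
      exact Module.Flat.of_linearEquiv
        (HomologicalComplex.singleObjXSelf (ComplexShape.up ℤ) 0 (ModuleCat.of B N)).toLinearEquiv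
    · haveI : Subsingleton (E.X i) :=
        ModuleCat.subsingleton_of_isZero (isZero_single_obj_X (ComplexShape.up ℤ) 0 _ i hi)
      infer_instance
  have eE : Q.obj E ≅ Q.obj ((DTen.extCx φ).obj P) :=
    ((DerivedCategory.singleFunctorIsoCompQ (ModuleCat.{u} B) 0).app (ModuleCat.of B N)).symm ≪≫
      eN.symm ≪≫ ((DRing.LBaseChange φ).mapIso e).symm ≪≫ lbcIso φ P
  exact torVan_of_iso_kflat _ E (kflat_of_isKProjective _) 0 0 hE hEf eE

/-- **main theorem** -/
theorem main (f : R) (M : Dual.D R)
    [DRing.HasLBaseChange (algebraMap R (Localization.Away f))]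
    [DRing.HasLBaseChange (Ideal.Quotient.mk (Ideal.span ({f} : Set R)))]
    (h1 : ∀ i : ℤ, 0 < i → Subsingleton (Dual.HD R M i))
    (h2 : ∃ (N : Type u) (_ : AddCommGroup N) (_ : Module (Localization.Away f) N),
      Module.Flat (Localization.Away f) N ∧
        Nonempty ((DRing.LBaseChange (algebraMap R (Localization.Away f))).obj M ≅
          Dual.inD (Localization.Away f) N))
    (h3 : ∃ (N : Type u) (_ : AddCommGroup N) (_ : Module (R ⧸ Ideal.span ({f} : Set R)) N),
      Module.Flat (R ⧸ Ideal.span ({f} : Set R)) N ∧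
        Nonempty ((DRing.LBaseChange (Ideal.Quotient.mk (Ideal.span ({f} : Set R)))).obj M ≅
          Dual.inD (R ⧸ Ideal.span ({f} : Set R)) N)) :
    ∃ (N : Type u) (_ : AddCommGroup N) (_ : Module R N),
      Module.Flat R N ∧ Nonempty (M ≅ Dual.inD R N) := by
  haveI : M.IsLE 0 := by
    rw [DerivedCategory.isLE_iff]
    intro i hi
    haveI := h1 i hi
    exact ModuleCat.isZero_of_subsingleton _
  obtain ⟨P, hPle, hPp, ⟨e⟩⟩ := Groth.Agent.Lib.Helper1.ProjRes.exists_iso_Q_proj M 0
  have hPb : DRing.VanishesAbove P 0 := fun j hj => P.isZero_of_isStrictlyLE 0 j hj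
  haveI hPK : P.IsKProjective := by
    apply isKProjective_of_vanishesAbove P 0 hPb
    intro j
    have := hPp j
    exact ModuleCat.projective_of_module_projective _
  have hPf : DRing.TermwiseFlat P := fun i =>
    have := hPp i
    have : Module.Projective R (P.X i) := ModuleCat.projective_of_module_projective _
    inferInstance
  obtain ⟨N2, _, _, hN2, ⟨e2⟩⟩ := h2
  obtain ⟨N3, _, _, hN3, ⟨e3⟩⟩ := h3
  have hl := torVan_extCx_of_iso_inD (algebraMap R (Localization.Away f)) P M e N2 e2
  have hq := torVan_extCx_of_iso_inD (Ideal.Quotient.mk (Ideal.span ({f} : Set R))) P M e N3 e3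
  have hb : ∀ (M' : ModuleCat.{u} R) (i : ℤ), 0 < i → ((TC M').obj P).ExactAt i := by
    intro M' i hi
    exact ShortComplex.exact_of_isZero_X₂ _ ((tensorLeft M').map_isZero (hPb i hi))
  have hvan := torVan_of_away_of_quotient f P hPf 0 0 hb hl hq
  obtain ⟨E, hE, hEf, ⟨eE⟩⟩ := hasTorAmp_of_torVan_kflat P (kflat_of_isKProjective P) 0 0 hvan
  haveI : E.IsStrictlyGE 0 := by
    rw [CochainComplex.isStrictlyGE_iff]
    exact fun k hk => hE k (Or.inl hk)
  haveI : E.IsStrictlyLE 0 := by
    rw [CochainComplex.isStrictlyLE_iff]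
    exact fun k hk => hE k (Or.inr hk)
  obtain ⟨M', ⟨e'⟩⟩ := CochainComplex.exists_iso_single E 0
  have eM : E.X 0 ≅ M' :=
    (HomologicalComplex.eval _ _ 0).mapIso e' ≪≫
      HomologicalComplex.singleObjXSelf (ComplexShape.up ℤ) 0 M'
  haveI := hEf 0
  refine ⟨M', inferInstance, inferInstance, Module.Flat.of_linearEquiv eM.toLinearEquiv.symm, ⟨?_⟩⟩
  exact e.symm ≪≫ eE.symm ≪≫ Q.mapIso e' ≪≫
    ((DerivedCategory.singleFunctorIsoCompQ (ModuleCat.{u} R) 0).app M').symm

end Groth.Agent.Lib.H6xFlatGlue
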