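import Mathlib

set_option autoImplicit false
universe u v

namespace Groth.Agent.Lib.H6xFrob

open Polynomial

section Field

variable {κ : Type*} [Field κ] {p : ℕ} [Fact p.Prime] [CharP κ p]

/-- Artin–Schreier equations are solvable over a separably closed field -/
theorem exists_artinSchreier [IsSepClosed κ] (c : κ) : ∃ μ : κ, μ ^ p - μ = c := by
  have hp : 1 < p := (Fact.out : p.Prime).one_lt
  let f : κ[X] := X ^ p - (X + C c)
  have hder : derivative f = -1 := by
    simp [f, derivative_X_pow]
  have hsep : f.Separable := by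
    rw [separable_def, hder]
    exact isCoprime_one_right.neg_right
  have hdeg : f.degree ≠ 0 := by
    have : f.degree = p := by
      have h1 : degree (X + C c : κ[X]) < degree ((X : κ[X]) ^ p) := by
        rw [degree_X_add_C, degree_X_pow]
        exact_mod_cast hp
      rw [degree_sub_eq_left_of_degree_lt h1, degree_X_pow]
    rw [this]
    exact_mod_cast (by omega : p ≠ 0)
  obtain ⟨μ, hμ⟩ := IsSepClosed.exists_root f hdeg hsep
  refine ⟨μ, ?_⟩
  have : eval μ f = 0 := hμ
  simp only [f, eval_sub, eval_pow, eval_X, eval_C, eval_add] at this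
  linear_combination this

/-- the fixed points of Frobenius form the prime field: exactly `p` elements -/
theorem card_fixed_frobenius : Nat.card {μ : κ // μ ^ p = μ} = p := by
  classical
  have hp : 1 < p := (Fact.out : p.Prime).one_lt
  let f : κ[X] := X ^ p - X
  have hf0 : f ≠ 0 := by
    intro h
    have h1 : (X : κ[X]) ^ p = X := sub_eq_zero.mp h
    have := congrArg natDegree h1
    rw [natDegree_X_pow, natDegree_X] at this
    omega
  have hfd : f.natDegree = p := by
    have h1 : natDegree (X : κ[X]) < natDegree ((X : κ[X]) ^ p) := by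
      rw [natDegree_X, natDegree_X_pow]; exact hp
    rw [natDegree_sub_eq_left_of_natDegree_lt h1, natDegree_X_pow]
  have hset : {μ : κ | μ ^ p = μ} = (f.roots.toFinset : Set κ) := by
    ext μ
    simp only [Set.mem_ofPred_eq, Finset.mem_coe, Multiset.mem_toFinset, mem_roots hf0, IsRoot.def,
      f, eval_sub, eval_pow, eval_X, sub_eq_zero]
  let ι : ZMod p →+* κ := ZMod.castHom (dvd_refl p) κ
  have hinj : Function.Injective ι := ι.injective
  have hsub : (Finset.univ.image ι) ⊆ f.roots.toFinset := by
    intro μ hμ
    obtain ⟨a, -, rfl⟩ := Finset.mem_image.mp hμ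
    rw [Multiset.mem_toFinset, mem_roots hf0, IsRoot.def]
    simp only [f, eval_sub, eval_pow, eval_X, sub_eq_zero]
    rw [← map_pow, ZMod.pow_card]
  have hcard1 : (Finset.univ.image ι).card = p := by
    rw [Finset.card_image_of_injective _ hinj, Finset.card_univ, ZMod.card]
  have hcard2 : f.roots.toFinset.card ≤ p := by
    calc f.roots.toFinset.card ≤ Multiset.card f.roots := Multiset.toFinset_card_le _
      _ ≤ f.natDegree := card_roots' f
      _ = p := hfd
  have hcard : f.roots.toFinset.card = p :=
    le_antisymm hcard2 (hcard1 ▸ Finset.card_le_card hsub)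
  have : Nat.card {μ : κ // μ ^ p = μ} = Nat.card (f.roots.toFinset : Set κ) := by
    rw [← hset]
    rfl
  rw [this, Nat.card_coe_set_eq, Set.ncard_coe_finset, hcard]

end Field


section Semilinear

variable {κ : Type*} [Field κ] {p : ℕ} [Fact p.Prime] [CharP κ p]
  {V : Type*} [AddCommGroup V] [Module κ V]
  (T : V →+ V) (hT : ∀ (r : κ) (v : V), T (r • v) = r ^ p • T v)

omit [Fact (Nat.Prime p)] [CharP κ p] in
include hT in
theorem T_sum {ι : Type*} (s : Finset ι) (x : ι → κ) (e : ι → V) :
    T (∑ i ∈ s, x i • e i) = ∑ i ∈ s, x i ^ p • T (e i) := by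
  rw [map_sum]
  exact Finset.sum_congr rfl fun i _ => hT _ _

omit [Fact (Nat.Prime p)] [CharP κ p] in
include hT in
theorem T_injective [FiniteDimensional κ V] (hspan : Submodule.span κ (Set.range T) = ⊤) :
    Function.Injective T := by
  classical
  let b := Module.finBasis κ V
  have hrepr : ∀ v : V, T v = ∑ i, (b.repr v i) ^ p • T (b i) := by
    intro v
    conv_lhs => rw [← b.sum_repr v]
    exact T_sum T hT _ _ _
  have hTe : ⊤ ≤ Submodule.span κ (Set.range fun i => T (b i)) := by
    rw [← hspan, Submodule.span_le]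
    rintro _ ⟨v, rfl⟩
    rw [hrepr v]
    exact Submodule.sum_mem _ fun i _ => Submodule.smul_mem _ _ (Submodule.subset_span ⟨i, rfl⟩)
  have hli : LinearIndependent κ (fun i => T (b i)) :=
    linearIndependent_of_top_le_span_of_card_eq_finrank hTe (by simp)
  rw [injective_iff_map_eq_zero]
  intro v hv
  rw [hrepr v] at hv
  have h0 := Fintype.linearIndependent_iff.mp hli _ hv
  apply b.repr.injective
  ext i
  have := h0 i
  simpa using eq_zero_of_pow_eq_zero this

end Semilinear


section Poly

variable {κ : Type*} [Field κ] {p : ℕ} [Fact p.Prime] [CharP κ p]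

/-- auxiliary polynomials: `Z 0 = c 0`, `Z (i+1) = X^(p(p-1)) (Z i)^p + c (i+1)` -/
noncomputable def Zp (p : ℕ) (c : ℕ → κ) : ℕ → κ[X]
  | 0 => C (c 0)
  | (i + 1) => X ^ (p * (p - 1)) * (Zp p c i) ^ p + C (c (i + 1))

omit [Fact (Nat.Prime p)] in
theorem derivative_Zp (c : ℕ → κ) (i : ℕ) : derivative (Zp p c i) = 0 := by
  cases i with
  | zero => simp [Zp]
  | succ i =>
    simp only [Zp, derivative_add, derivative_mul, derivative_pow, derivative_C,
      add_zero]
    have hp0 : ((p : ℕ) : κ[X]) = 0 := by
      rw [← map_natCast C, CharP.cast_eq_zero κ p, map_zero]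
    have hp1 : ((p * (p - 1) : ℕ) : κ[X]) = 0 := by
      rw [Nat.cast_mul, hp0, zero_mul]
    rw [map_natCast C, map_natCast C, hp1, hp0]
    ring

omit [CharP κ p] in
theorem Zp_eq_zero (c : ℕ → κ) : ∀ i, Zp p c i = 0 → ∀ j ≤ i, c j = 0 := by
  have hp : 1 < p := (Fact.out : p.Prime).one_lt
  intro i
  induction i with
  | zero =>
    intro h j hj
    obtain rfl : j = 0 := by omega
    simpa [Zp] using h
  | succ i ih =>
    intro h j hj
    have hpos : 0 < p * (p - 1) := Nat.mul_pos (by omega) (by omega)
    have h0 : c (i + 1) = 0 := by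
      have := congrArg (fun q => coeff q 0) h
      simp only [Zp, coeff_add, coeff_C_zero, coeff_zero] at this
      rw [← pow_one (X : κ[X]), ← Nat.sub_add_cancel hpos] at this
      simpa [pow_add, mul_assoc, pow_succ] using this
    have h1 : Zp p c i = 0 := by
      simp only [Zp, h0, map_zero, add_zero] at h
      rcases mul_eq_zero.mp h with h | h
      · exact absurd h (pow_ne_zero _ X_ne_zero)
      · exact pow_eq_zero_iff (by omega) |>.mp h
    rcases Nat.lt_or_ge j (i + 1) with hlt | hge
    · exact ih h1 j (by omega)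
    · obtain rfl : j = i + 1 := by omega
      exact h0

end Poly

section Fixed

variable {κ : Type*} [Field κ] {p : ℕ} [Fact p.Prime] [CharP κ p]
  {V : Type*} [AddCommGroup V] [Module κ V]
  (T : V →+ V) (hT : ∀ (r : κ) (v : V), T (r • v) = r ^ p • T v)

/-- the iterates of a vector are eventually dependent -/
theorem exists_mem_span_iterate [FiniteDimensional κ V] (u : ℕ → V) :
    ∃ r, u r ∈ Submodule.span κ (Set.range fun i : Fin r => u i) := by
  by_contra hcon
  push Not at hcon
  have hli : ∀ r, LinearIndependent κ (fun i : Fin r => u i) := by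
    intro r
    induction r with
    | zero => exact linearIndependent_empty_type
    | succ r ih =>
      have : (fun i : Fin (r + 1) => u i) = Fin.snoc (fun i : Fin r => u i) (u r) := by
        ext i
        refine Fin.lastCases ?_ (fun j => ?_) i
        · simp
        · simp
      rw [this]
      exact linearIndependent_finSnoc.mpr ⟨ih, hcon r⟩
  have := (hli (Module.finrank κ V + 1)).fintype_card_le_finrank
  simp at this

include hT in
/-- existence of a nonzero fixed vector -/
theorem exists_fixed_ne_zero [IsSepClosed κ] [FiniteDimensional κ V] [Nontrivial V]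
    (hinj : Function.Injective T) : ∃ w : V, w ≠ 0 ∧ T w = w := by
  classical
  have hp : 1 < p := (Fact.out : p.Prime).one_lt
  obtain ⟨v, hv⟩ := exists_ne (0 : V)
  let u : ℕ → V := fun i => T^[i] v
  have hu : ∀ i, u (i + 1) = T (u i) := fun i => Function.iterate_succ_apply' T i v
  have hex := exists_mem_span_iterate (κ := κ) u
  let r := Nat.find hex
  have hr : u r ∈ Submodule.span κ (Set.range fun i : Fin r => u i) := Nat.find_spec hex
  have hmin : ∀ j < r, u j ∉ Submodule.span κ (Set.range fun i : Fin j => u i) :=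
    fun j hj => Nat.find_min hex hj
  have hr0 : r ≠ 0 := by
    intro h0
    rw [h0] at hr
    have : u 0 = 0 := by simpa using hr
    exact hv this
  obtain ⟨r', hr'⟩ := Nat.exists_eq_succ_of_ne_zero hr0
  obtain ⟨c0, hc0⟩ := (Submodule.mem_span_range_iff_exists_fun κ).mp hr
  let c : ℕ → κ := fun l => if h : l < r then c0 ⟨l, h⟩ else 0
  have hc : ∑ i ∈ Finset.range r, c i • u i = u r := by
    rw [← hc0, ← Fin.sum_univ_eq_sum_range (fun i => c i • u i) r]
    refine Finset.sum_congr rfl fun i _ => ?_
    simp [c]
  -- some coefficient is nonzero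
  have hcne : Zp p c r' ≠ 0 := by
    intro hZ
    have hall := Zp_eq_zero c r' hZ
    have : u r = 0 := by
      rw [← hc]
      refine Finset.sum_eq_zero fun i hi => ?_
      rw [hall i (by rw [Finset.mem_range] at hi; omega), zero_smul]
    have h2 : T^[r] v = T^[r] 0 := by
      rw [Function.iterate_fixed (map_zero T) r]
      exact this
    exact hv ((hinj.iterate r) h2)
  -- the polynomial `H = X^(p-1) Z - 1`
  let H : κ[X] := X ^ (p - 1) * Zp p c r' - 1
  have hXH : X * H = X ^ p * Zp p c r' - X := by
    have : (X : κ[X]) ^ p = X * X ^ (p - 1) := by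
      rw [← pow_succ', Nat.sub_add_cancel (by omega)]
    rw [this]
    ring
  have hsepG : (X * H).Separable := by
    rw [hXH, separable_def]
    have hp0 : ((p : ℕ) : κ[X]) = 0 := by
      rw [← map_natCast C, CharP.cast_eq_zero κ p, map_zero]
    have hder : derivative (X ^ p * Zp p c r' - X : κ[X]) = -1 := by
      rw [derivative_sub, derivative_mul, derivative_Zp, derivative_X_pow, derivative_X, map_natCast C,
        hp0]
      ring
    rw [hder]
    exact isCoprime_one_right.neg_right
  have hsepH : H.Separable := hsepG.of_mul_right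
  have hdegH : H.degree ≠ 0 := by
    have h0 : natDegree (X ^ (p - 1) * Zp p c r') = p - 1 + natDegree (Zp p c r') := by
      rw [natDegree_mul (pow_ne_zero _ X_ne_zero) hcne, natDegree_X_pow]
    have h1 : natDegree (1 : κ[X]) < natDegree (X ^ (p - 1) * Zp p c r') := by
      rw [h0, natDegree_one]
      omega
    have h2 : H.natDegree = natDegree (X ^ (p - 1) * Zp p c r') :=
      natDegree_sub_eq_left_of_natDegree_lt h1
    intro h00
    have h3 : H.natDegree = 0 := natDegree_eq_zero_iff_degree_le_zero.mpr (le_of_eq h00)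
    rw [h2, h0] at h3
    omega
  obtain ⟨z, hz⟩ := IsSepClosed.exists_root H hdegH hsepH
  have hz' : z ^ (p - 1) * eval z (Zp p c r') = 1 := by
    have : eval z H = 0 := hz
    simp only [H, eval_sub, eval_mul, eval_pow, eval_X, eval_one] at this
    exact sub_eq_zero.mp this
  have hz0 : z ≠ 0 := by
    intro h0
    rw [h0, zero_pow (by omega), zero_mul] at hz'
    exact zero_ne_one hz'
  -- the coefficients
  let y : ℕ → κ := fun i => z ^ p * eval z (Zp p c i)
  have hy0 : y 0 = c 0 * z ^ p := by
    simp [y, Zp, mul_comm]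
  have hysucc : ∀ i, y (i + 1) = y i ^ p + c (i + 1) * z ^ p := by
    intro i
    simp only [y, Zp, eval_add, eval_mul, eval_pow, eval_X, eval_C]
    have : z ^ (p * (p - 1)) * z ^ p = (z ^ p) ^ p := by
      rw [← pow_add, ← pow_mul]
      congr 1
      have : p * (p - 1) + p = p * (p - 1 + 1) := by ring
      rw [this, Nat.sub_add_cancel (by omega)]
    rw [mul_pow, ← this]
    ring
  have hyr : y r' = z := by
    have : z ^ p = z * z ^ (p - 1) := by
      rw [← pow_succ', Nat.sub_add_cancel (by omega)]
    simp only [y]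
    rw [this, mul_assoc, hz', mul_one]
  let w : V := ∑ i ∈ Finset.range r, y i • u i
  refine ⟨w, ?_, ?_⟩
  · -- `w ≠ 0`
    intro hw
    apply hmin r' (by omega)
    have hw' : ∑ i ∈ Finset.range r', y i • u i + z • u r' = 0 := by
      have := hw
      simp only [w] at this
      rwa [hr', Finset.sum_range_succ, hyr] at this
    have hur : u r' = -(z⁻¹ • ∑ i ∈ Finset.range r', y i • u i) := by
      have h1 : z • u r' = -∑ i ∈ Finset.range r', y i • u i := by
        rw [eq_neg_iff_add_eq_zero, add_comm]; exact hw'
      rw [← smul_neg, ← h1, smul_smul, inv_mul_cancel₀ hz0, one_smul]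
    rw [hur]
    refine Submodule.neg_mem _ (Submodule.smul_mem _ _ (Submodule.sum_mem _ fun i hi => ?_))
    exact Submodule.smul_mem _ _ (Submodule.subset_span ⟨⟨i, Finset.mem_range.mp hi⟩, rfl⟩)
  · -- `T w = w`
    have hTw : T w = ∑ i ∈ Finset.range r, y i ^ p • u (i + 1) := by
      simp only [w]
      rw [T_sum T hT]
      exact Finset.sum_congr rfl fun i _ => by rw [hu]
    have e1 : ∑ i ∈ Finset.range r, y i ^ p • u (i + 1) =
        ∑ i ∈ Finset.range r', y i ^ p • u (i + 1) + z ^ p • u r := by
      rw [hr', Finset.sum_range_succ, hyr]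
    have e2 : w = ∑ i ∈ Finset.range r', y (i + 1) • u (i + 1) + y 0 • u 0 := by
      simp only [w]
      rw [hr', Finset.sum_range_succ']
    have e3 : u r = ∑ i ∈ Finset.range r', c (i + 1) • u (i + 1) + c 0 • u 0 := by
      rw [← hc, hr', Finset.sum_range_succ']
    rw [hTw, e1, e2, e3, hy0, smul_add, Finset.smul_sum, ← add_assoc, ← Finset.sum_add_distrib]
    congr 1
    · refine Finset.sum_congr rfl fun i _ => ?_
      rw [hysucc, add_smul, smul_smul, mul_comm]
    · rw [smul_smul, mul_comm]

end Fixed

section Span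

variable {κ : Type*} [Field κ] {p : ℕ} [Fact p.Prime] [CharP κ p] [IsSepClosed κ]
  {V : Type*} [AddCommGroup V] [Module κ V]
  (T : V →+ V) (hT : ∀ (r : κ) (v : V), T (r • v) = r ^ p • T v)

include hT in
/-- the span of the fixed vectors lies in the image of `T - 1` (restricted to that span) -/
theorem exists_sub_eq_of_mem_span (x : V) (hx : x ∈ Submodule.span κ {w : V | T w = w}) :
    ∃ m ∈ Submodule.span κ {w : V | T w = w}, T m - m = x := by
  classical
  obtain ⟨c, hcs, rfl⟩ := Submodule.mem_span_set.mp hx
  choose μ hμ using fun a : κ => exists_artinSchreier (p := p) a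
  refine ⟨∑ g ∈ c.support, μ (c g) • g, ?_, ?_⟩
  · exact Submodule.sum_mem _ fun g hg =>
      Submodule.smul_mem _ _ (Submodule.subset_span (hcs hg))
  · rw [T_sum T hT, ← Finset.sum_sub_distrib, Finsupp.sum]
    refine Finset.sum_congr rfl fun g hg => ?_
    have hg' : T g = g := hcs hg
    rw [hg', ← sub_smul, hμ]

include hT in
theorem span_fixed_eq_top [FiniteDimensional κ V]
    (hspan : Submodule.span κ (Set.range T) = ⊤) :
    Submodule.span κ {w : V | T w = w} = ⊤ := by
  classical
  set W := Submodule.span κ {w : V | T w = w} with hW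
  by_contra hne
  obtain ⟨W', hW'⟩ := Submodule.exists_isCompl W
  -- `T` preserves `W`
  have hTW : ∀ x ∈ W, T x ∈ W := by
    intro x hx
    obtain ⟨c, hcs, rfl⟩ := Submodule.mem_span_set.mp hx
    rw [Finsupp.sum, T_sum T hT]
    refine Submodule.sum_mem _ fun g hg => Submodule.smul_mem _ _ ?_
    have hg' : T g = g := hcs hg
    rw [hg']
    exact Submodule.subset_span (hcs hg)
  let π : V →ₗ[κ] W' := Submodule.projectionOnto W' W hW'.symm
  have hπker : ∀ x, π x = 0 ↔ x ∈ W := fun x =>
    Submodule.projectionOnto_apply_eq_zero_iff hW'.symm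
  have hπW' : ∀ x : W', π x = x := fun x => Submodule.projectionOnto_apply_left hW'.symm x
  let T'' : W' →+ W' :=
    { toFun := fun x => π (T x)
      map_zero' := by simp
      map_add' := fun x y => by simp }
  have hT'' : ∀ (r : κ) (x : W'), T'' (r • x) = r ^ p • T'' x := by
    intro r x
    show π (T ((r • x : W') : V)) = r ^ p • π (T x)
    rw [Submodule.coe_smul, hT, map_smul]
  have hspan'' : Submodule.span κ (Set.range T'') = ⊤ := by
    rw [eq_top_iff]
    rintro ⟨y, hy⟩ -
    -- `y = π y`, and `y` is a combination of values of `T`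
    have hy1 : (y : V) ∈ Submodule.span κ (Set.range T) := by rw [hspan]; trivial
    have key : ∀ v ∈ Submodule.span κ (Set.range T), π v ∈ Submodule.span κ (Set.range T'') := by
      intro v hv
      induction hv using Submodule.span_induction with
      | mem v hv =>
        obtain ⟨a, rfl⟩ := hv
        -- decompose `a = a₁ + a₂` with `a₁ ∈ W`, `a₂ ∈ W'`
        obtain ⟨a₁, ha₁, a₂, ha₂, rfl⟩ : ∃ a₁ ∈ W, ∃ a₂ ∈ W', a₁ + a₂ = a := by
          have : a ∈ W ⊔ W' := by rw [hW'.sup_eq_top]; trivial
          exact Submodule.mem_sup.mp this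
        rw [map_add, map_add, (hπker (T a₁)).mpr (hTW a₁ ha₁), zero_add]
        exact Submodule.subset_span ⟨⟨a₂, ha₂⟩, rfl⟩
      | zero => rw [map_zero]; exact Submodule.zero_mem _
      | add v w _ _ hv hw => rw [map_add]; exact Submodule.add_mem _ hv hw
      | smul r v _ hv => rw [map_smul]; exact Submodule.smul_mem _ _ hv
    have := key y hy1
    rwa [show π y = ⟨y, hy⟩ from hπW' ⟨y, hy⟩] at this
  have hinj'' : Function.Injective T'' := T_injective T'' hT'' hspan''
  haveI : Nontrivial W' := by
    rw [Submodule.nontrivial_iff_ne_bot]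
    intro hbot
    apply hne
    have := hW'.sup_eq_top
    rwa [hbot, sup_bot_eq] at this
  obtain ⟨w', hw'0, hw'⟩ := exists_fixed_ne_zero T'' hT'' hinj''
  have hx : T w' - w' ∈ W := by
    rw [← hπker, map_sub, hπW']
    exact sub_eq_zero.mpr hw'
  obtain ⟨m, hmW, hm⟩ := exists_sub_eq_of_mem_span T hT _ hx
  have hfix : T ((w' : V) - m) = (w' : V) - m := by
    rw [map_sub, ← sub_eq_zero]
    have e : T (w' : V) - T m - ((w' : V) - m) = (T (w' : V) - (w' : V)) - (T m - m) := by abel
    rw [e, hm, sub_self]
  have hmem : (w' : V) - m ∈ W := Submodule.subset_span hfix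
  have hw'W : (w' : V) ∈ W := by
    have := Submodule.add_mem _ hmem hmW
    rwa [sub_add_cancel] at this
  have : (w' : V) ∈ W ⊓ W' := ⟨hw'W, w'.2⟩
  rw [hW'.inf_eq_bot, Submodule.mem_bot] at this
  exact hw'0 (Subtype.ext this)

end Span

section Main

variable {κ : Type*} [Field κ] {p : ℕ} [Fact p.Prime] [CharP κ p] [IsSepClosed κ]
  {V : Type v} [AddCommGroup V] [Module κ V] [FiniteDimensional κ V]
  (T : V →+ V) (hT : ∀ (r : κ) (v : V), T (r • v) = r ^ p • T v)

include hT in
/-- a basis of fixed vectors -/
theorem exists_basis_fixed (hspan : Submodule.span κ (Set.range T) = ⊤) :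
    ∃ (ι : Type v) (_ : Fintype ι) (g : Module.Basis ι κ V), ∀ i, T (g i) = g i := by
  classical
  have h1 := span_fixed_eq_top T hT hspan
  obtain ⟨b, hbS, hbspan, hbli⟩ := exists_linearIndependent κ {w : V | T w = w}
  have hb_top : ⊤ ≤ Submodule.span κ (Set.range (Subtype.val : b → V)) := by
    rw [Subtype.range_coe, hbspan, h1]
  let g : Module.Basis b κ V := Module.Basis.mk hbli hb_top
  haveI : Fintype b := FiniteDimensional.fintypeBasisIndex g
  refine ⟨b, inferInstance, g, fun i => ?_⟩
  rw [Module.Basis.mk_apply]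
  exact hbS i.2

include hT in
theorem main_field (hspan : Submodule.span κ (Set.range T) = ⊤) :
    Function.Surjective (fun m => T m - m) ∧
      Nat.card {m : V // T m = m} = p ^ Module.finrank κ V := by
  classical
  obtain ⟨ι, _, g, hg⟩ := exists_basis_fixed T hT hspan
  have hrepr : ∀ v : V, T v = ∑ i, (g.repr v i) ^ p • g i := by
    intro v
    conv_lhs => rw [← g.sum_repr v]
    rw [T_sum T hT]
    exact Finset.sum_congr rfl fun i _ => by rw [hg]
  constructor
  · intro c
    choose μ hμ using fun a : κ => exists_artinSchreier (p := p) a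
    refine ⟨∑ i, μ (g.repr c i) • g i, ?_⟩
    show T (∑ i, μ (g.repr c i) • g i) - ∑ i, μ (g.repr c i) • g i = c
    rw [T_sum T hT, ← Finset.sum_sub_distrib]
    conv_rhs => rw [← g.sum_repr c]
    refine Finset.sum_congr rfl fun i _ => ?_
    rw [hg, ← sub_smul, hμ]
  · have hfix : ∀ v : V, T v = v ↔ ∀ i, (g.repr v i) ^ p = g.repr v i := by
      intro v
      rw [hrepr v]
      constructor
      · intro h i
        have := congrArg (fun x => g.repr x i) h
        simpa [Finsupp.single_apply] using this
      · intro h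
        conv_rhs => rw [← g.sum_repr v]
        exact Finset.sum_congr rfl fun i _ => by rw [h i]
    let e : {m : V // T m = m} ≃ (ι → {μ : κ // μ ^ p = μ}) :=
      { toFun := fun m i => ⟨g.repr m.1 i, (hfix m.1).mp m.2 i⟩
        invFun := fun f => ⟨∑ i, (f i).1 • g i, by
          rw [hfix]
          intro i
          simp only [map_sum, map_smul, Module.Basis.repr_self, Finsupp.coe_finsetSum,
            Finsupp.coe_smul, Finset.sum_apply, Pi.smul_apply, Finsupp.single_apply, smul_eq_mul,
            mul_ite, mul_one, mul_zero, Finset.sum_ite_eq', Finset.mem_univ, if_true]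
          exact (f i).2⟩
        left_inv := fun m => by
          apply Subtype.ext
          simp only
          exact g.sum_repr m.1
        right_inv := fun f => by
          funext i
          apply Subtype.ext
          simp [Finsupp.single_apply] }
    rw [Nat.card_congr e, Nat.card_fun, card_fixed_frobenius, Nat.card_eq_fintype_card,
      Module.finrank_eq_card_basis g]

end Main

end Groth.Agent.Lib.H6xFrob
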