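import Mathlib
import Groth.Agent.Lib.H6xFrob
import Groth.Agent.Lib.Helper3HenselL

set_option autoImplicit false
universe u v

namespace Groth.Agent.Lib.H6xFrob

open MvPolynomial IsLocalRing

section Etale

variable {R : Type u} [CommRing R] {p : ℕ} [Fact p.Prime] [CharP R p] {n : ℕ}
  (a : Matrix (Fin n) (Fin n) R) (c : Fin n → R)

/-- the equations `∑_j a i j x_j^p - x_i - c_i` -/
noncomputable def eqn (p : ℕ) (a : Matrix (Fin n) (Fin n) R) (c : Fin n → R) (i : Fin n) :
    MvPolynomial (Fin n) R :=
  ∑ j, C (a i j) * X j ^ p - X i - C (c i)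

/-- the algebra of solutions -/
abbrev SolAlg (p : ℕ) (a : Matrix (Fin n) (Fin n) R) (c : Fin n → R) : Type u :=
  MvPolynomial (Fin n) R ⧸ Ideal.span (Set.range (eqn p a c))

omit [Fact (Nat.Prime p)] in
theorem pderiv_eqn (i j : Fin n) :
    pderiv i (eqn p a c j) = if i = j then -1 else 0 := by
  classical
  have hp0 : ((p : ℕ) : MvPolynomial (Fin n) R) = 0 := by
    rw [← map_natCast (C : R →+* MvPolynomial (Fin n) R), CharP.cast_eq_zero R p, map_zero]
  have h1 : ∀ l : Fin n, pderiv i (C (a j l) * X l ^ p) = 0 := by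
    intro l
    rw [Derivation.leibniz, pderiv_C, smul_zero, add_zero, Derivation.leibniz_pow, nsmul_eq_mul,
      hp0, zero_mul, smul_zero]
  simp only [eqn, map_sub, map_sum, h1, Finset.sum_const_zero, zero_sub, pderiv_C, sub_zero,
    pderiv_X, Pi.single_apply]
  by_cases h : i = j
  · subst h; simp
  · simp [h, Ne.symm h]

omit [Fact (Nat.Prime p)] in
theorem etale_solAlg : Algebra.Etale R (SolAlg p a c) := by
  classical
  let P₀ : Algebra.PreSubmersivePresentation R (SolAlg p a c) (Fin n) (Fin n) :=
    Algebra.PreSubmersivePresentation.naive (v := eqn p a c) id Function.injective_id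
  have hjac : P₀.jacobiMatrix = -1 := by
    ext i j
    rw [Algebra.PreSubmersivePresentation.jacobiMatrix_naive]
    simp only [id, pderiv_eqn, Matrix.neg_apply, Matrix.one_apply]
    split_ifs <;> simp
  have hunit : IsUnit P₀.jacobian := by
    rw [Algebra.PreSubmersivePresentation.jacobian_eq_jacobiMatrix_det, hjac, Matrix.det_neg,
      Matrix.det_one, mul_one]
    exact (IsUnit.pow _ isUnit_one.neg).map _
  let P : Algebra.SubmersivePresentation R (SolAlg p a c) (Fin n) (Fin n) :=
    { P₀ with jacobian_isUnit := hunit }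
  haveI : Algebra.IsStandardSmoothOfRelativeDimension 0 R (SolAlg p a c) :=
    P.isStandardSmoothOfRelativeDimension (by simp [Algebra.Presentation.dimension])
  infer_instance

end Etale

section Sol

variable {R : Type u} [CommRing R] {p : ℕ} {n : ℕ} (a : Matrix (Fin n) (Fin n) R) (c : Fin n → R)
  {S : Type*} [CommRing S] [Algebra R S]

theorem aeval_eqn (x : Fin n → S) (i : Fin n) :
    aeval x (eqn p a c i) =
      ∑ j, algebraMap R S (a i j) * x j ^ p - x i - algebraMap R S (c i) := by
  simp [eqn]

/-- the algebra map attached to a solution -/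
noncomputable def solHom (x : Fin n → S) (hx : ∀ i, aeval x (eqn p a c i) = 0) :
    SolAlg p a c →ₐ[R] S :=
  Ideal.Quotient.liftₐ _ (aeval x) (fun q hq => by
    have hle : Ideal.span (Set.range (eqn p a c)) ≤ RingHom.ker (aeval x : _ →ₐ[R] S) := by
      rw [Ideal.span_le]
      rintro _ ⟨i, rfl⟩
      exact hx i
    exact hle hq)

theorem solHom_mk_X (x : Fin n → S) (hx : ∀ i, aeval x (eqn p a c i) = 0) (i : Fin n) :
    solHom a c x hx (Ideal.Quotient.mk _ (X i)) = x i := by
  simp [solHom]

theorem hom_eq_aeval (φ : SolAlg p a c →ₐ[R] S) (q : MvPolynomial (Fin n) R) :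
    aeval (fun j => φ (Ideal.Quotient.mk _ (X j))) q = φ (Ideal.Quotient.mk _ q) := by
  have : (aeval (fun j => φ (Ideal.Quotient.mk _ (X j))) : _ →ₐ[R] S) =
      φ.comp (Ideal.Quotient.mkₐ R _) := by
    apply MvPolynomial.algHom_ext
    intro i
    simp
  rw [this]
  rfl

theorem hom_sol (φ : SolAlg p a c →ₐ[R] S) (i : Fin n) :
    aeval (fun j => φ (Ideal.Quotient.mk _ (X j))) (eqn p a c i) = 0 := by
  rw [hom_eq_aeval]
  have : Ideal.Quotient.mk (Ideal.span (Set.range (eqn p a c))) (eqn p a c i) = 0 :=
    Ideal.Quotient.eq_zero_iff_mem.mpr (Ideal.subset_span ⟨i, rfl⟩)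
  rw [this, map_zero]

theorem solAlg_hom_ext (φ ψ : SolAlg p a c →ₐ[R] S)
    (h : ∀ i, φ (Ideal.Quotient.mk _ (X i)) = ψ (Ideal.Quotient.mk _ (X i))) : φ = ψ := by
  apply AlgHom.ext
  intro e
  obtain ⟨q, rfl⟩ := Ideal.Quotient.mk_surjective e
  rw [← hom_eq_aeval, ← hom_eq_aeval]
  congr 2
  funext j
  exact h j

end Sol

section Ring

variable (p : ℕ) [Fact p.Prime] {R : Type u} [CommRing R]
    [HenselianLocalRing R] [IsSepClosed (IsLocalRing.ResidueField R)] [CharP R p]
    {M : Type v} [AddCommGroup M] [Module R M] [Module.Free R M] [Module.Finite R M]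
    (T : M →+ M) (hT : ∀ (r : R) (m : M), T (r • m) = r ^ p • T m)

include hT in
theorem main_ring (hspan : Submodule.span R (Set.range T) = ⊤) :
    Function.Surjective (fun m => T m - m) ∧
      Nat.card {m : M // T m = m} = p ^ Module.finrank R M := by
  classical
  set κ := ResidueField R with hκ
  haveI : CharP κ p := by
    rw [CharP.charP_iff_prime_eq_zero (Fact.out : p.Prime)]
    have : ((p : ℕ) : κ) = residue R ((p : ℕ) : R) := (map_natCast (residue R) p).symm
    rw [this, CharP.cast_eq_zero R p, map_zero]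
  set n := Module.finrank R M with hn
  let b : Module.Basis (Fin n) R M := Module.finBasis R M
  let a : Matrix (Fin n) (Fin n) R := fun i j => b.repr (T (b j)) i
  -- the formula for `T`
  have hTsum : ∀ x : Fin n → R, T (∑ j, x j • b j) = ∑ i, (∑ j, a i j * x j ^ p) • b i := by
    intro x
    rw [map_sum]
    have h1 : ∀ j, T (x j • b j) = ∑ i, (a i j * x j ^ p) • b i := by
      intro j
      rw [hT]
      conv_lhs => rw [← b.sum_repr (T (b j))]
      rw [Finset.smul_sum]
      refine Finset.sum_congr rfl fun i _ => ?_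
      rw [smul_smul, mul_comm]
    simp only [h1]
    rw [Finset.sum_comm]
    refine Finset.sum_congr rfl fun i _ => ?_
    rw [Finset.sum_smul]
  have hreprT : ∀ (m : M) (i : Fin n), b.repr (T m) i = ∑ j, a i j * (b.repr m j) ^ p := by
    intro m i
    conv_lhs => rw [← b.sum_repr m, hTsum]
    simp [Finsupp.single_apply]
  -- key equivalence over `R`
  have keyR : ∀ (m : M) (c' : Fin n → R),
      (∀ i, aeval (fun j => b.repr m j) (eqn p a c' i) = 0) ↔ T m - m = ∑ i, c' i • b i := by
    intro m c'
    rw [← sub_eq_zero (b := ∑ i, c' i • b i)]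
    rw [← b.repr.map_eq_zero_iff]
    rw [Finsupp.ext_iff]
    refine forall_congr' fun i => ?_
    rw [aeval_eqn]
    simp only [Algebra.algebraMap_self, RingHom.id_apply, map_sub, Finsupp.coe_sub, Pi.sub_apply, hreprT,
      map_sum, map_smul, Module.Basis.repr_self, Finsupp.coe_finsetSum, Finsupp.coe_smul,
      Finset.sum_apply, Pi.smul_apply, Finsupp.single_apply, smul_eq_mul, mul_ite, mul_one,
      mul_zero, Finset.sum_ite_eq', Finset.mem_univ, if_true, Finsupp.coe_zero, Pi.zero_apply]
  -- the residue picture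
  let V := Fin n → κ
  let ρ : M → V := fun m i => residue R (b.repr m i)
  have hρadd : ∀ m m', ρ (m + m') = ρ m + ρ m' := by
    intro m m'; funext i
    show residue R (b.repr (m + m') i) = residue R (b.repr m i) + residue R (b.repr m' i)
    simp
  have hρsmul : ∀ (r : R) (m : M), ρ (r • m) = residue R r • ρ m := by
    intro r m; funext i
    show residue R (b.repr (r • m) i) = residue R r * residue R (b.repr m i)
    simp
  have hρzero : ρ 0 = 0 := by
    funext i
    show residue R (b.repr 0 i) = 0
    simp
  have hρsurj : Function.Surjective ρ := by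
    intro v
    choose x hx using fun i => residue_surjective (v i)
    refine ⟨∑ j, x j • b j, ?_⟩
    funext i
    show residue R (b.repr (∑ j, x j • b j) i) = v i
    rw [Module.Basis.repr_sum_self]
    exact hx i
  let Tb : V →+ V :=
    { toFun := fun x i => ∑ j, residue R (a i j) * x j ^ p
      map_zero' := by
        funext i
        show ∑ j, residue R (a i j) * (0 : V) j ^ p = 0
        exact Finset.sum_eq_zero fun j _ => by
          rw [Pi.zero_apply, zero_pow (Fact.out : p.Prime).ne_zero, mul_zero]
      map_add' := fun x y => by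
        funext i
        show ∑ j, residue R (a i j) * (x + y) j ^ p =
          (∑ j, residue R (a i j) * x j ^ p) + ∑ j, residue R (a i j) * y j ^ p
        rw [← Finset.sum_add_distrib]
        refine Finset.sum_congr rfl fun j _ => ?_
        rw [Pi.add_apply, add_pow_char, mul_add] }
  have hTb : ∀ (r : κ) (v : V), Tb (r • v) = r ^ p • Tb v := by
    intro r v
    funext i
    show ∑ j, residue R (a i j) * (r • v) j ^ p = r ^ p * ∑ j, residue R (a i j) * v j ^ p
    rw [Finset.mul_sum]
    refine Finset.sum_congr rfl fun j _ => ?_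
    rw [Pi.smul_apply, smul_eq_mul, mul_pow]
    ring
  have hρT : ∀ m, ρ (T m) = Tb (ρ m) := by
    intro m
    funext i
    show residue R (b.repr (T m) i) = ∑ j, residue R (a i j) * (residue R (b.repr m j)) ^ p
    rw [hreprT, map_sum]
    refine Finset.sum_congr rfl fun j _ => ?_
    rw [map_mul, map_pow]
  have hspanb : Submodule.span κ (Set.range Tb) = ⊤ := by
    have key : ∀ m ∈ Submodule.span R (Set.range T), ρ m ∈ Submodule.span κ (Set.range Tb) := by
      intro m hm
      induction hm using Submodule.span_induction with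
      | mem m hm =>
        obtain ⟨m', rfl⟩ := hm
        rw [hρT]
        exact Submodule.subset_span ⟨_, rfl⟩
      | zero => rw [hρzero]; exact Submodule.zero_mem _
      | add m m' _ _ h1 h2 => rw [hρadd]; exact Submodule.add_mem _ h1 h2
      | smul r m _ h1 => rw [hρsmul]; exact Submodule.smul_mem _ _ h1
    rw [eq_top_iff]
    intro v _
    obtain ⟨m, rfl⟩ := hρsurj v
    exact key m (by rw [hspan]; trivial)
  obtain ⟨hsurjb, hcardb⟩ := main_field (p := p) Tb hTb hspanb
  -- key equivalence over `κ`
  have keyκ : ∀ (v : V) (c' : Fin n → R),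
      (∀ i, aeval v (eqn p a c' i) = 0) ↔ Tb v - v = fun i => residue R (c' i) := by
    intro v c'
    rw [_root_.funext_iff]
    refine forall_congr' fun i => ?_
    rw [aeval_eqn, sub_eq_zero]
    rfl
  -- lifting solutions from `κ` to `R`
  have lift : ∀ (c' : Fin n → R) (v : V), (∀ i, aeval v (eqn p a c' i) = 0) →
      ∃ x : Fin n → R, (∀ i, aeval x (eqn p a c' i) = 0) ∧ ∀ i, residue R (x i) = v i := by
    intro c' v hv
    haveI : Algebra.Etale R (SolAlg p a c') := etale_solAlg a c'
    obtain ⟨φ, hφ, -⟩ := Groth.Agent.Lib.Helper3.Hensel.existsUnique_algHom_residue (R := R) (S := R)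
      (solHom a c' v hv)
    refine ⟨fun j => φ (Ideal.Quotient.mk _ (X j)), hom_sol a c' φ, fun i => ?_⟩
    rw [hφ, solHom_mk_X]
  have uniq : ∀ (c' : Fin n → R) (x x' : Fin n → R), (∀ i, aeval x (eqn p a c' i) = 0) →
      (∀ i, aeval x' (eqn p a c' i) = 0) → (∀ i, residue R (x i) = residue R (x' i)) → x = x' := by
    intro c' x x' hx hx' hres
    haveI : Algebra.Etale R (SolAlg p a c') := etale_solAlg a c'
    let χ : SolAlg p a c' →ₐ[R] κ := (Algebra.ofId R κ).comp (solHom a c' x hx)
    obtain ⟨φ, -, hφu⟩ := Groth.Agent.Lib.Helper3.Hensel.existsUnique_algHom_residue (R := R) (S := R) χ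
    have h1 : solHom a c' x hx = φ := hφu _ (fun e => rfl)
    have h2 : solHom a c' x' hx' = φ := by
      apply hφu
      intro e
      have : (Algebra.ofId R κ).comp (solHom a c' x' hx') = χ := by
        apply solAlg_hom_ext
        intro i
        show residue R (solHom a c' x' hx' (Ideal.Quotient.mk _ (X i))) =
          residue R (solHom a c' x hx (Ideal.Quotient.mk _ (X i)))
        rw [solHom_mk_X, solHom_mk_X, hres]
      exact congrArg (fun f => f e) this
    funext i
    rw [← solHom_mk_X a c' x hx i, ← solHom_mk_X a c' x' hx' i, h1, h2]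
  constructor
  · -- surjectivity
    intro c
    let c' : Fin n → R := fun i => b.repr c i
    obtain ⟨v, hv⟩ := hsurjb (ρ c)
    have hv' : ∀ i, aeval v (eqn p a c' i) = 0 := (keyκ v c').mpr hv
    obtain ⟨x, hx, -⟩ := lift c' v hv'
    refine ⟨∑ j, x j • b j, ?_⟩
    have hrepr : (fun j => b.repr (∑ j, x j • b j) j) = x := by
      funext j
      rw [Module.Basis.repr_sum_self]
    show T (∑ j, x j • b j) - ∑ j, x j • b j = c
    rw [(keyR (∑ j, x j • b j) c').mp (by rw [hrepr]; exact hx)]
    exact b.sum_repr c
  · -- the count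
    have hfixR : ∀ m : M, T m = m ↔ ∀ i, aeval (fun j => b.repr m j) (eqn p a 0 i) = 0 := by
      intro m
      rw [keyR m 0]
      simp [sub_eq_zero]
    have hfixκ : ∀ v : V, Tb v = v ↔ ∀ i, aeval v (eqn p a 0 i) = 0 := by
      intro v
      rw [keyκ v 0, ← sub_eq_zero]
      constructor
      · intro h; rw [h]; funext i
        show (0 : κ) = residue R 0
        rw [map_zero]
      · intro h
        rw [h]
        funext i
        show residue R 0 = (0 : κ)
        rw [map_zero]
    let red : {m : M // T m = m} → {v : V // Tb v = v} := fun m =>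
      ⟨ρ m.1, by rw [← hρT, m.2]⟩
    have hbij : Function.Bijective red := by
      constructor
      · intro m₁ m₂ h
        have hρ : ρ m₁.1 = ρ m₂.1 := congrArg Subtype.val h
        have hx := uniq 0 _ _ ((hfixR m₁.1).mp m₁.2) ((hfixR m₂.1).mp m₂.2)
          (fun i => congrFun hρ i)
        apply Subtype.ext
        apply b.repr.injective
        ext i
        exact congrFun hx i
      · intro v
        obtain ⟨x, hx, hxv⟩ := lift 0 v.1 ((hfixκ v.1).mp v.2)
        have hrepr : (fun j => b.repr (∑ j, x j • b j) j) = x := by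
          funext j
          rw [Module.Basis.repr_sum_self]
        refine ⟨⟨∑ j, x j • b j, (hfixR _).mpr (by rw [hrepr]; exact hx)⟩, ?_⟩
        apply Subtype.ext
        funext i
        show residue R (b.repr (∑ j, x j • b j) i) = v.1 i
        rw [Module.Basis.repr_sum_self]
        exact hxv i
    rw [Nat.card_eq_of_bijective red hbij, hcardb]
    simp [V]

end Ring

end Groth.Agent.Lib.H6xFrob
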