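import Mathlib
import Groth.Agent.Lib.H6xFrobRing

set_option autoImplicit false
universe u v

namespace Groth.Agent.Lib.H6xFrob

open IsLocalRing Submodule

section Tors

variable {p : ℕ} [Fact p.Prime] {R : Type u} [CommRing R] [IsDomain R]
    {M : Type v} [AddCommGroup M] [Module R M]
    (T : M →+ M) (hT : ∀ (r : R) (m : M), T (r • m) = r ^ p • T m)

omit [Fact (Nat.Prime p)] [IsDomain R] in
include hT in
theorem T_mem_torsion {m : M} (hm : m ∈ torsion R M) : T m ∈ torsion R M := by
  obtain ⟨a, ha⟩ := (mem_torsion_iff m).mp hm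
  refine (mem_torsion_iff _).mpr ⟨a ^ p, ?_⟩
  have : T ((a : R) • m) = 0 := by
    have h0 : (a : R) • m = 0 := ha
    rw [h0, map_zero]
  rw [hT] at this
  exact this

omit [IsDomain R] in
include hT in
theorem mem_torsion_of_T (hinj : Function.Injective T) {m : M} (hm : T m ∈ torsion R M) :
    m ∈ torsion R M := by
  have hp : 0 < p := (Fact.out : p.Prime).pos
  obtain ⟨a, ha⟩ := (mem_torsion_iff _).mp hm
  refine (mem_torsion_iff _).mpr ⟨a, ?_⟩
  apply hinj
  show T ((a : R) • m) = T 0
  rw [hT, map_zero]
  have h0 : (a : R) • T m = 0 := ha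
  obtain ⟨q, hq⟩ : ∃ q, p = q + 1 := ⟨p - 1, by omega⟩
  rw [hq, pow_succ, mul_smul, h0, smul_zero]

variable [IsDiscreteValuationRing R] [Module.Finite R M]

include hT in
/-- the torsion of `M` is killed by the maximal ideal when `T` is injective -/
theorem smul_torsion_eq_zero (hinj : Function.Injective T) (r : R) (hr : r ∈ maximalIdeal R)
    {m : M} (hm : m ∈ torsion R M) : r • m = 0 := by
  classical
  have hp : 1 < p := (Fact.out : p.Prime).one_lt
  obtain ⟨ϖ, hϖ⟩ := IsDiscreteValuationRing.exists_irreducible R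
  -- every torsion element is killed by a power of `ϖ`
  have hpow : ∀ m ∈ torsion R M, ∃ k : ℕ, ϖ ^ k • m = 0 := by
    intro m hm
    obtain ⟨a, ha⟩ := (mem_torsion_iff m).mp hm
    have ha0 : (a : R) ≠ 0 := nonZeroDivisors.coe_ne_zero a
    obtain ⟨k, u, hu⟩ := IsDiscreteValuationRing.eq_unit_mul_pow_irreducible ha0 hϖ
    refine ⟨k, ?_⟩
    have h0 : (a : R) • m = 0 := ha
    rw [hu, mul_smul] at h0
    have := congrArg (fun x => ((u⁻¹ : Rˣ) : R) • x) h0
    simpa [smul_smul] using this
  -- uniform exponent
  haveI : IsNoetherian R M := isNoetherian_of_isNoetherianRing_of_finite R M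
  obtain ⟨s, hs⟩ : (torsion R M).FG := IsNoetherian.noetherian _
  choose! k hk using hpow
  have hE : ∃ E : ℕ, ∀ m ∈ torsion R M, ϖ ^ E • m = 0 := by
    refine ⟨s.sup k, ?_⟩
    intro m hm
    rw [← hs] at hm
    induction hm using Submodule.span_induction with
    | mem g hg =>
      have hg' : g ∈ torsion R M := by rw [← hs]; exact Submodule.subset_span hg
      have hle : k g ≤ s.sup k := Finset.le_sup hg
      rw [← Nat.sub_add_cancel hle, pow_add, mul_smul, hk g hg', smul_zero]
    | zero => rw [smul_zero]
    | add x y _ _ hx hy => rw [smul_add, hx, hy, add_zero]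
    | smul c x _ hx => rw [smul_comm, hx, smul_zero]
  -- the minimal exponent is at most one
  have hE1 : ∀ m ∈ torsion R M, ϖ ^ 1 • m = 0 := by
    have hmin : ∀ {j : ℕ}, j < Nat.find hE → ¬ ∀ m ∈ torsion R M, ϖ ^ j • m = 0 :=
      fun {j} hj => Nat.find_min hE hj
    have hspec := Nat.find_spec hE
    set E := Nat.find hE with hEdef
    rcases Nat.lt_or_ge E 2 with hlt | hge
    · intro m hm
      have := hspec m hm
      have hle : E ≤ 1 := by omega
      rw [← Nat.sub_add_cancel hle, pow_add, mul_smul, this, smul_zero]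
    · exfalso
      apply hmin (j := E - 1) (by omega)
      intro m hm
      apply hinj
      rw [hT, map_zero]
      have hTm := hspec (T m) (T_mem_torsion T hT hm)
      have hle : E ≤ (E - 1) * p := by
        calc E ≤ (E - 1) * 2 := by omega
          _ ≤ (E - 1) * p := Nat.mul_le_mul_left _ hp
      rw [← pow_mul, ← Nat.sub_add_cancel hle, pow_add, mul_smul, hTm, smul_zero]
  rw [hϖ.maximalIdeal_eq, Ideal.mem_span_singleton] at hr
  obtain ⟨r', rfl⟩ := hr
  rw [mul_comm, mul_smul]
  have := hE1 m hm
  rw [pow_one] at this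
  rw [this, smul_zero]

end Tors

open scoped TensorProduct

section DVR

variable (p : ℕ) [Fact p.Prime] {R : Type u} [CommRing R] [IsDomain R]
    [IsDiscreteValuationRing R] [HenselianLocalRing R] [IsSepClosed (IsLocalRing.ResidueField R)]
    [CharP R p]
    {M : Type v} [AddCommGroup M] [Module R M] [Module.Finite R M]
    (T : M →+ M) (hT : ∀ (r : R) (m : M), T (r • m) = r ^ p • T m)

include hT in
theorem main_dvr (hbij : Function.Bijective T) :
    Function.Surjective (fun m => T m - m) ∧
      Nat.card {m : M // T m = m} =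
        p ^ Module.finrank (ResidueField R) ((ResidueField R) ⊗[R] M) := by
  classical
  set κ := ResidueField R with hκ
  haveI : CharP κ p := by
    rw [CharP.charP_iff_prime_eq_zero (Fact.out : p.Prime)]
    have : ((p : ℕ) : κ) = residue R ((p : ℕ) : R) := (map_natCast (residue R) p).symm
    rw [this, CharP.cast_eq_zero R p, map_zero]
  haveI : IsNoetherian R M := isNoetherian_of_isNoetherianRing_of_finite R M
  set N : Submodule R M := torsion R M with hN
  -- the free quotient
  let f : M →ₗ[R] (M ⧸ N) := N.mkQ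
  have hf : Function.Surjective f := N.mkQ_surjective
  have hfker : ∀ m, f m = 0 ↔ m ∈ N := fun m => Submodule.Quotient.mk_eq_zero N
  obtain ⟨h, hh⟩ := Module.projective_lifting_property f LinearMap.id hf
  have hfh : ∀ q, f (h q) = q := fun q => LinearMap.congr_fun hh q
  have hsubN : ∀ m, m - h (f m) ∈ N := by
    intro m
    rw [← hfker, map_sub, hfh, sub_self]
  let TQ : (M ⧸ N) →+ (M ⧸ N) :=
    { toFun := fun q => f (T (h q))
      map_zero' := by simp
      map_add' := fun x y => by simp }
  have hTQ : ∀ (r : R) (q : M ⧸ N), TQ (r • q) = r ^ p • TQ q := by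
    intro r q
    show f (T (h (r • q))) = r ^ p • f (T (h q))
    rw [map_smul, hT, map_smul]
  have hfT : ∀ m, f (T m) = TQ (f m) := by
    intro m
    show f (T m) = f (T (h (f m)))
    rw [← sub_eq_zero, ← map_sub, ← map_sub, hfker]
    exact T_mem_torsion T hT (hsubN m)
  have hspanQ : Submodule.span R (Set.range TQ) = ⊤ := by
    have : Set.range TQ = Set.univ := by
      rw [Set.range_eq_univ]
      intro q
      obtain ⟨m, rfl⟩ := hf q
      obtain ⟨m', rfl⟩ := hbij.2 m
      exact ⟨f m', (hfT m').symm⟩
    rw [this, Submodule.span_univ]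
  obtain ⟨hsurjQ, hcardQ⟩ := main_ring p TQ hTQ hspanQ
  -- the torsion part as a `κ`-vector space
  have htors : Module.IsTorsionBySet R N (maximalIdeal R : Set R) := by
    intro n a
    apply Subtype.ext
    rw [Submodule.coe_smul, Submodule.coe_zero]
    exact smul_torsion_eq_zero T hT hbij.1 a.1 a.2 n.2
  letI : Module κ N := Module.IsTorsionBySet.module htors
  haveI : IsScalarTower R κ N := Module.IsTorsionBySet.isScalarTower htors
  haveI : Module.Finite κ N := Module.Finite.of_restrictScalars_finite R κ N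
  have hκsmul : ∀ (r : R) (n : N), residue R r • n = r • n := fun r n => rfl
  let TN : N →+ N :=
    { toFun := fun n => ⟨T n, T_mem_torsion T hT n.2⟩
      map_zero' := by apply Subtype.ext; simp
      map_add' := fun x y => by apply Subtype.ext; simp }
  have hTN : ∀ (r : κ) (n : N), TN (r • n) = r ^ p • TN n := by
    intro r n
    obtain ⟨r, rfl⟩ := residue_surjective r
    rw [← map_pow, hκsmul, hκsmul]
    apply Subtype.ext
    show T ((r • n : N) : M) = ((r ^ p • TN n : N) : M)
    rw [Submodule.coe_smul, hT]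
    rfl
  have hspanN : Submodule.span κ (Set.range TN) = ⊤ := by
    have : Set.range TN = Set.univ := by
      rw [Set.range_eq_univ]
      intro n
      obtain ⟨m, hm⟩ := hbij.2 n.1
      have hmN : m ∈ N := mem_torsion_of_T T hT hbij.1 (by rw [hm]; exact n.2)
      exact ⟨⟨m, hmN⟩, Subtype.ext hm⟩
    rw [this, Submodule.span_univ]
  obtain ⟨hsurjN, hcardN⟩ := main_field (p := p) TN hTN hspanN
  -- solving `T m - m = c` for `c ∈ N`
  have hsolveN : ∀ c ∈ N, ∃ m ∈ N, T m - m = c := by
    intro c hc
    obtain ⟨m, hm⟩ := hsurjN ⟨c, hc⟩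
    refine ⟨m.1, m.2, ?_⟩
    exact congrArg Subtype.val hm
  -- lifting fixed points / solutions from the quotient
  have hliftQ : ∀ (q : M ⧸ N) (c : M), TQ q - q = f c → ∃ m, f m = q ∧ T m - m = c := by
    intro q c hq
    have h1 : c - (T (h q) - h q) ∈ N := by
      rw [← hfker, map_sub, map_sub, hfT, hfh, ← hq, sub_self]
    obtain ⟨m₂, hm₂N, hm₂⟩ := hsolveN _ h1
    refine ⟨h q + m₂, ?_, ?_⟩
    · rw [map_add, hfh, (hfker m₂).mpr hm₂N, add_zero]
    · rw [map_add, add_sub_add_comm, hm₂]
      abel
  constructor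
  · intro c
    obtain ⟨q, hq⟩ := hsurjQ (f c)
    obtain ⟨m, -, hm⟩ := hliftQ q c hq
    exact ⟨m, hm⟩
  · -- the count
    have hsec : ∀ q : {q : M ⧸ N // TQ q = q}, ∃ m : M, f m = q.1 ∧ T m = m := by
      intro q
      obtain ⟨m, hm1, hm2⟩ := hliftQ q.1 0 (by rw [map_zero, q.2, sub_self])
      exact ⟨m, hm1, sub_eq_zero.mp hm2⟩
    choose σ hσ1 hσ2 using hsec
    let qOf : {m : M // T m = m} → {q : M ⧸ N // TQ q = q} := fun m =>
      ⟨f m.1, by rw [← hfT, m.2]⟩
    have hqOf : ∀ m, (qOf m).1 = f m.1 := fun m => rfl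
    let e : {m : M // T m = m} ≃ {q : M ⧸ N // TQ q = q} × {n : N // TN n = n} :=
      { toFun := fun m =>
          (qOf m,
            ⟨⟨m.1 - σ (qOf m), by
              rw [← hfker, map_sub, hσ1, hqOf, sub_self]⟩, by
              apply Subtype.ext
              show T (m.1 - σ (qOf m)) = m.1 - σ (qOf m)
              rw [map_sub, hσ2]
              congr 1
              exact m.2⟩)
        invFun := fun x => ⟨σ x.1 + x.2.1.1, by
          rw [map_add, hσ2]
          congr 1
          exact congrArg Subtype.val x.2.2⟩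
        left_inv := fun m => by
          apply Subtype.ext
          simp
        right_inv := fun x => by
          obtain ⟨q, n⟩ := x
          have hq : f (σ q + n.1.1) = q.1 := by
            rw [map_add, hσ1, (hfker n.1.1).mpr n.1.2, add_zero]
          have hq' : qOf ⟨σ q + n.1.1, by
              rw [map_add, hσ2]
              congr 1
              exact congrArg Subtype.val n.2⟩ = q := Subtype.ext hq
          refine Prod.ext ?_ ?_
          · exact hq'
          · apply Subtype.ext
            apply Subtype.ext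
            show σ q + n.1.1 - σ (qOf _) = n.1.1
            rw [hq']
            abel }
    rw [Nat.card_congr e, Nat.card_prod, hcardQ, hcardN, ← pow_add]
    congr 1
    -- dimension count
    let projN : M →ₗ[R] N := LinearMap.codRestrict N (LinearMap.id - h ∘ₗ f) (fun m => hsubN m)
    let eMQ : M ≃ₗ[R] N × (M ⧸ N) :=
      LinearEquiv.ofLinearMap (LinearMap.prod projN f) (LinearMap.coprod N.subtype h)
        (by
          apply LinearMap.ext
          rintro ⟨n, q⟩
          have h1 : f (n.1 + h q) = q := by rw [map_add, hfh, (hfker n.1).mpr n.2, zero_add]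
          refine Prod.ext ?_ ?_
          · apply Subtype.ext
            show (n.1 + h q) - h (f (n.1 + h q)) = n.1
            rw [h1]; abel
          · exact h1)
        (by
          apply LinearMap.ext
          intro m
          show (m - h (f m)) + h (f m) = m
          abel)
    let e1 : κ ⊗[R] M ≃ₗ[κ] κ ⊗[R] (N × (M ⧸ N)) :=
      TensorProduct.AlgebraTensorModule.congr (LinearEquiv.refl κ κ) eMQ
    let e2 : κ ⊗[R] (N × (M ⧸ N)) ≃ₗ[κ] (κ ⊗[R] N) × (κ ⊗[R] (M ⧸ N)) :=
      TensorProduct.prodRight R κ κ N (M ⧸ N)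
    haveI : TensorProduct.CompatibleSMul R κ κ N :=
      TensorProduct.CompatibleSMul.of_algebraMap_surjective _ _ residue_surjective
    let e3 : κ ⊗[R] N ≃ₗ[κ] N := TensorProduct.lidOfCompatibleSMul R κ N
    rw [(e1.trans e2).finrank_eq, Module.finrank_prod, e3.finrank_eq, Module.finrank_baseChange,
      add_comm]

end DVR

end Groth.Agent.Lib.H6xFrob
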