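import Mathlib
import Groth.Agent.Lib.Helper5W2Lift

set_option autoImplicit false
set_option linter.style.haveILetI false
set_option linter.unusedSectionVars false
universe u v

namespace Groth.Agent.Lib.H9FrobEt155

-- ===== from S18155a =====
open MvPolynomial

/-- lifting along a square-zero ideal for a formally étale algebra, in ring-hom form -/
theorem exists_lift_of_formallySmooth {R S T : Type*} [CommRing R] [CommRing S] [CommRing T]
    [Algebra R S] [Algebra.FormallySmooth R S]
    (I : Ideal T) (hI : I ^ 2 = ⊥) (a : R →+* T) (g : S →+* T ⧸ I)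
    (hg : g.comp (algebraMap R S) = (Ideal.Quotient.mk I).comp a) :
    ∃ g' : S →+* T, g'.comp (algebraMap R S) = a ∧ (Ideal.Quotient.mk I).comp g' = g := by
  letI : Algebra R T := a.toAlgebra
  let gA : S →ₐ[R] T ⧸ I :=
    { g with
      commutes' := fun r => by
        have := congrArg (fun f => f r) hg
        exact this }
  have hnil : IsNilpotent I := ⟨2, hI⟩
  refine ⟨(Algebra.FormallySmooth.lift I hnil gA).toRingHom, ?_, ?_⟩
  · ext r
    exact (Algebra.FormallySmooth.lift I hnil gA).commutes r
  · ext s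
    exact Algebra.FormallySmooth.mk_lift I hnil gA s

/-- the subsingleton case -/
theorem isFLiftable_of_subsingleton (p : ℕ) [Fact p.Prime] (k : Type u) [Field k] [CharP k p]
    (C : Type v) [CommRing C] [Algebra k C] [Subsingleton C] : FrobAlg.IsFLiftable p k C := by
  refine ⟨C, inferInstance, (algebraMap k C).comp (FrobAlg.res p k), RingHom.id C, RingHom.id C,
    ⟨⟨?_, Function.surjective_id, ?_, ?_⟩, ?_, ?_⟩⟩
  · letI : Algebra (FrobAlg.W2 p k) C := ((algebraMap k C).comp (FrobAlg.res p k)).toAlgebra
    change Module.Flat (FrobAlg.W2 p k) C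
    infer_instance
  · haveI : Subsingleton (Ideal C) := ⟨fun a b => by ext x; simp [Subsingleton.elim x 0]⟩
    exact Subsingleton.elim _ _
  · ext x; exact Subsingleton.elim _ _
  · ext x; exact Subsingleton.elim _ _
  · intro b; exact Subsingleton.elim _ _

-- ===== from S18155b =====
open MvPolynomial

section Lift

variable {A B C : Type v} [CommRing A] [CommRing B] [CommRing C] [Algebra A C]
  (π : B →+* A) (hπ : Function.Surjective π)
  {ι σ : Type} [Finite ι] [Finite σ] (P : Algebra.SubmersivePresentation A C ι σ)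
  (F : σ → MvPolynomial ι B) (hF : ∀ j, MvPolynomial.map π (F j) = P.relation j)

/-- the lifted algebra -/
abbrev D : Type v := MvPolynomial ι B ⧸ Ideal.span (Set.range F)

/-- the reduction map on polynomial rings -/
noncomputable def ρ : MvPolynomial ι B →+* C :=
  (MvPolynomial.aeval P.val : MvPolynomial ι A →ₐ[A] C).toRingHom.comp (MvPolynomial.map π)

theorem ρ_apply (G : MvPolynomial ι B) :
    ρ π P G = MvPolynomial.aeval P.val (MvPolynomial.map π G) := rfl

include hF in
theorem ρ_F (j : σ) : ρ π P (F j) = 0 := by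
  rw [ρ_apply, hF j]
  have h1 : P.relation j ∈ P.ker := P.relation_mem_ker j
  rw [Algebra.Generators.ker_eq_ker_aeval_val] at h1
  exact h1

include hF in
theorem span_le_ker : Ideal.span (Set.range F) ≤ RingHom.ker (ρ π P) := by
  rw [Ideal.span_le]
  rintro _ ⟨j, rfl⟩
  exact ρ_F π P F hF j

/-- the reduction map `D → C` -/
noncomputable def θ : D F →+* C :=
  Ideal.Quotient.lift _ (ρ π P) (fun x hx => span_le_ker π P F hF hx)

theorem θ_mk (G : MvPolynomial ι B) :
    θ π P F hF (Ideal.Quotient.mk _ G) = ρ π P G := rfl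

include hπ in
theorem ρ_surjective : Function.Surjective (ρ π P) := by
  intro c
  obtain ⟨G, rfl⟩ := P.algebraMap_surjective c
  obtain ⟨G', rfl⟩ := MvPolynomial.map_surjective π hπ G
  refine ⟨G', ?_⟩
  rw [ρ_apply, Algebra.Generators.algebraMap_apply]

include hπ in
theorem θ_surjective : Function.Surjective (θ π P F hF) := by
  intro c
  obtain ⟨G, rfl⟩ := ρ_surjective π hπ P c
  exact ⟨Ideal.Quotient.mk _ G, rfl⟩

theorem θ_algebraMap (b : B) :
    θ π P F hF (algebraMap B (D F) b) = algebraMap A C (π b) := by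
  change θ π P F hF (Ideal.Quotient.mk _ (MvPolynomial.C b)) = _
  rw [θ_mk, ρ_apply, MvPolynomial.map_C, MvPolynomial.aeval_C]

include hπ hF in
theorem ker_ρ : RingHom.ker (ρ π P) =
    Ideal.span (Set.range F) ⊔ (RingHom.ker π).map (MvPolynomial.C : B →+* MvPolynomial ι B) := by
  have h1 : RingHom.ker (ρ π P) = (RingHom.ker (MvPolynomial.aeval P.val :
      MvPolynomial ι A →ₐ[A] C).toRingHom).comap (MvPolynomial.map π) := rfl
  have h2 : RingHom.ker (MvPolynomial.aeval P.val : MvPolynomial ι A →ₐ[A] C).toRingHom =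
      Ideal.span (Set.range P.relation) := by
    rw [P.span_range_relation_eq_ker, Algebra.Generators.ker_eq_ker_aeval_val]
    rfl
  have h3 : Ideal.span (Set.range P.relation) =
      (Ideal.span (Set.range F)).map (MvPolynomial.map π) := by
    rw [Ideal.map_span, ← Set.range_comp]
    congr 2
    funext j
    exact (hF j).symm
  rw [h1, h2, h3, Ideal.comap_map_of_surjective _ (MvPolynomial.map_surjective π hπ),
    ← RingHom.ker_eq_comap_bot, MvPolynomial.ker_map]

include hπ in
theorem ker_θ : RingHom.ker (θ π P F hF) = (RingHom.ker π).map (algebraMap B (D F)) := by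
  unfold θ
  rw [Ideal.ker_quotient_lift, ker_ρ π hπ P F hF, Ideal.map_sup, Ideal.map_quotient_self,
    bot_sup_eq, Ideal.map_map]
  rfl

end Lift

-- ===== from S18155c =====
open MvPolynomial

section Lift

variable {A B C : Type v} [CommRing A] [CommRing B] [CommRing C] [Algebra A C]
  (π : B →+* A) (hπ : Function.Surjective π)
  {ι σ : Type} [Finite ι] [Finite σ] (P : Algebra.SubmersivePresentation A C ι σ)
  (F : σ → MvPolynomial ι B) (hF : ∀ j, MvPolynomial.map π (F j) = P.relation j)

/-- the naive presubmersive presentation of `D F` over `B` -/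
noncomputable def Q : Algebra.PreSubmersivePresentation B (D F) ι σ :=
  Algebra.PreSubmersivePresentation.naive (v := F) P.map P.map_inj

theorem θ_jacobian : θ π P F hF (Q P F).jacobian = P.jacobian := by
  classical
  cases nonempty_fintype σ
  rw [Algebra.PreSubmersivePresentation.jacobian_eq_jacobiMatrix_det,
    Algebra.PreSubmersivePresentation.jacobian_eq_jacobiMatrix_det]
  have h1 : algebraMap (Q P F).Ring (D F) (Q P F).jacobiMatrix.det =
      Ideal.Quotient.mk _ ((Q P F).jacobiMatrix.det) := rfl
  rw [h1, θ_mk, ρ_apply, Algebra.Generators.algebraMap_apply]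
  congr 1
  rw [← RingHom.coe_coe, RingHom.map_det]
  congr 1
  refine Matrix.ext fun i j => ?_
  rw [RingHom.mapMatrix_apply, Matrix.map_apply]
  unfold Q
  rw [Algebra.PreSubmersivePresentation.jacobiMatrix_naive,
    Algebra.PreSubmersivePresentation.jacobiMatrix_apply]
  change MvPolynomial.map π _ = _
  rw [← hF j, MvPolynomial.pderiv_map]

/-- units lift along a surjection with nilpotent kernel -/
theorem isUnit_of_map_of_ker_sq {R S : Type*} [CommRing R] [CommRing S] (f : R →+* S)
    (hf : Function.Surjective f) (hk : RingHom.ker f ^ 2 = ⊥) (x : R) (hx : IsUnit (f x)) :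
    IsUnit x := by
  rw [← IsNilpotent.isUnit_quotient_mk_iff (I := RingHom.ker f) ⟨2, hk⟩]
  let e := RingHom.quotientKerEquivOfSurjective hf
  have h2 : e (Ideal.Quotient.mk (RingHom.ker f) x) = f x :=
    RingHom.quotientKerEquivOfSurjective_apply_mk hf x
  rw [← h2] at hx
  exact (MulEquiv.isUnit_map e.toMulEquiv).mp hx

include hπ in
theorem ker_θ_sq (hk : RingHom.ker π ^ 2 = ⊥) : RingHom.ker (θ π P F hF) ^ 2 = ⊥ := by
  rw [ker_θ π hπ P F hF, ← Ideal.map_pow, hk, Ideal.map_bot]

include hπ hF in
theorem isUnit_jacobian (hk : RingHom.ker π ^ 2 = ⊥) : IsUnit (Q P F).jacobian := by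
  apply isUnit_of_map_of_ker_sq (θ π P F hF) (θ_surjective π hπ P F hF)
    (ker_θ_sq π hπ P F hF hk)
  rw [θ_jacobian]
  exact P.jacobian_isUnit

/-- the submersive presentation of `D F` over `B` -/
noncomputable def QS (hk : RingHom.ker π ^ 2 = ⊥) : Algebra.SubmersivePresentation B (D F) ι σ :=
  { Q P F with
    jacobian_isUnit := isUnit_jacobian π hπ P F hF hk }

include hπ hF in
theorem etale_D (hk : RingHom.ker π ^ 2 = ⊥) (hdim : P.dimension = 0) :
    Algebra.Etale B (D F) := by
  rw [Algebra.Etale.iff_isStandardSmoothOfRelativeDimension_zero]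
  refine (QS π hπ P F hF hk).isStandardSmoothOfRelativeDimension ?_
  exact hdim

end Lift

-- ===== from S18155d =====
open MvPolynomial

theorem main
    (p : ℕ) [Fact p.Prime] (k : Type u) [Field k] [IsAlgClosed k] [CharP k p]
    (A C : Type v) [CommRing A] [CommRing C] [Algebra k A] [Algebra k C]
    [Algebra A C] [IsScalarTower k A C] [Algebra.Etale A C]
    (hA : FrobAlg.IsFLiftable p k A) : FrobAlg.IsFLiftable p k C := by
  classical
  rcases subsingleton_or_nontrivial C with hC | hC
  · exact isFLiftable_of_subsingleton p k C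
  haveI : PerfectRing k p := inferInstance
  obtain ⟨B, _, ι₀, π, Φ, hΦ⟩ := hA
  have hL := hΦ.toIsLift
  obtain ⟨ι, σ, _, _, P, hP⟩ :=
    (Algebra.Etale.iff_isStandardSmoothOfRelativeDimension_zero.mp
      (inferInstance : Algebra.Etale A C)).out
  have hπ : Function.Surjective π := hL.surj
  have hk : RingHom.ker π ^ 2 = ⊥ := by
    rw [Groth.Agent.Lib.Helper5.W2Lift.ker_eq hL, Ideal.span_singleton_pow,
      Ideal.span_singleton_eq_bot, pow_two]
    exact Groth.Agent.Lib.Helper5.W2Lift.p_mul_p hL
  choose F hF using fun j => MvPolynomial.map_surjective π hπ (P.relation j)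
  haveI : Algebra.Etale B (D F) := etale_D π hπ P F hF hk hP
  have hflatD : (algebraMap B (D F)).Flat := by
    rw [RingHom.flat_algebraMap_iff]
    infer_instance
  set θ' : D F →+* C := θ π P F hF with hθ'
  have hθsurj : Function.Surjective θ' := θ_surjective π hπ P F hF
  have hθalg : ∀ b : B, θ' (algebraMap B (D F) b) = algebraMap A C (π b) :=
    θ_algebraMap π P F hF
  have hkerθ : RingHom.ker θ' = (RingHom.ker π).map (algebraMap B (D F)) := ker_θ π hπ P F hF
  have hkθ : RingHom.ker θ' ^ 2 = ⊥ := ker_θ_sq π hπ P F hF hk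
  haveI : CharP C p := charP_of_injective_algebraMap (algebraMap k C).injective p
  let e : D F ⧸ RingHom.ker θ' ≃+* C := RingHom.quotientKerEquivOfSurjective hθsurj
  have he : ∀ d : D F, e (Ideal.Quotient.mk _ d) = θ' d :=
    fun d => RingHom.quotientKerEquivOfSurjective_apply_mk hθsurj d
  let g : D F →+* D F ⧸ RingHom.ker θ' :=
    (e.symm : C →+* D F ⧸ RingHom.ker θ').comp ((frobenius C p).comp θ')
  have hg : g.comp (algebraMap B (D F)) =
      (Ideal.Quotient.mk (RingHom.ker θ')).comp ((algebraMap B (D F)).comp Φ) := by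
    ext b
    apply e.injective
    change e (e.symm (frobenius C p (θ' (algebraMap B (D F) b)))) =
      e (Ideal.Quotient.mk _ (algebraMap B (D F) (Φ b)))
    rw [RingEquiv.apply_symm_apply, he, hθalg, hθalg, hΦ.red, frobenius_def, map_pow]
  obtain ⟨g', hg'1, hg'2⟩ := exists_lift_of_formallySmooth (R := B) (S := D F) (T := D F)
    (RingHom.ker θ') hkθ ((algebraMap B (D F)).comp Φ) g hg
  refine ⟨D F, inferInstance, (algebraMap B (D F)).comp ι₀, θ', g', ⟨⟨?_, hθsurj, ?_, ?_⟩, ?_, ?_⟩⟩
  · exact RingHom.Flat.comp hL.flat hflatD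
  · rw [hkerθ, hL.ker_eq, Ideal.map_map]
  · ext x
    change θ' (algebraMap B (D F) (ι₀ x)) = algebraMap k C (FrobAlg.res p k x)
    rw [hθalg]
    have := congrArg (fun f => f x) hL.comm
    change π (ι₀ x) = algebraMap k A (FrobAlg.res p k x) at this
    rw [this, ← IsScalarTower.algebraMap_apply]
  · ext x
    change g' (algebraMap B (D F) (ι₀ x)) = algebraMap B (D F) (ι₀ (FrobAlg.sigma p k x))
    have h1 := congrArg (fun f => f (ι₀ x)) hg'1
    change g' (algebraMap B (D F) (ι₀ x)) = algebraMap B (D F) (Φ (ι₀ x)) at h1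
    rw [h1]
    have h2 := congrArg (fun f => f x) hΦ.semi
    change Φ (ι₀ x) = ι₀ (FrobAlg.sigma p k x) at h2
    rw [h2]
  · intro d
    have h1 := congrArg (fun f => f d) hg'2
    change Ideal.Quotient.mk _ (g' d) = e.symm (frobenius C p (θ' d)) at h1
    rw [← he, h1, RingEquiv.apply_symm_apply, frobenius_def]

end Groth.Agent.Lib.H9FrobEt155
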