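import Mathlib
import Groth.Agent.Lib.Helper5W2Coeff
import Groth.Agent.Lib.Helper6ReducedSmooth
import Groth.Agent.Lib.H9FrobEt155
import Groth.Agent.S13150

/-!
# Smooth algebras over a perfect field lift to `W₂(k)` together with Frobenius (helper6)

For a reduced `k`-algebra `A` presented as a quotient `ρ₀ : k[x₁..xₙ] → A` such that
`k[x]/J₀² → A` has a `k`-algebra section `g` (e.g. `A` formally smooth), put `P = W₂(k)[x]`,
`K = ker (P → A)`, `T = P/K²`.  The subring `B ⊆ T` of the elements whose reduction mod `p`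
lies in the image of `g` is a flat lifting of `A` over `W₂(k)`; the Teichmüller map
`P → W₂(A)` kills `K²` and restricts to a ring map `B → W₂(A)` over `A`, which by `S13150`
produces a lifting of Frobenius.
-/

set_option autoImplicit false
universe u

namespace Groth.Agent.Lib.H6xFrobSm

open Groth.Agent.Lib.Helper5.W2Lift Groth.Agent.Lib.Helper5.W2Coeff MvPolynomial

section Witt

variable {p : ℕ} [hp : Fact p.Prime] {R : Type*} [CommRing R]

theorem mul_eq_zero_of_coeff_zero (hpR : (p : R) = 0) (x y : TruncatedWittVector p 2 R)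
    (hx : x.coeff 0 = 0) (hy : y.coeff 0 = 0) : x * y = 0 := by
  apply t_ext
  · rw [t_mul_coeff_zero, hx, zero_mul, t_zero_coeff]
  · rw [t_mul_coeff_one_charP hpR, hx, hy, zero_pow hp.out.ne_zero, mul_zero, zero_mul,
      add_zero, t_zero_coeff]

theorem p_mul_coeff_one [CharP R p] (x : TruncatedWittVector p 2 R) :
    (((p : ℕ) : TruncatedWittVector p 2 R) * x).coeff 1 = x.coeff 0 ^ p := by
  rw [t_mul_coeff_one_charP (CharP.cast_eq_zero R p), t_p_coeff_zero, t_p_coeff_one, one_mul,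
    zero_pow hp.out.ne_zero, zero_mul, add_zero]

end Witt

section Construction

variable (p : ℕ) [hp : Fact p.Prime] {k : Type u} [Field k] [CharP k p] [PerfectRing k p]
  {A : Type u} [CommRing A] [Algebra k A]
  {n : ℕ} (ρ₀ : MvPolynomial (Fin n) k →ₐ[k] A)

/-- reduction mod `p` on polynomial rings -/
noncomputable abbrev m (k : Type u) [Field k] [CharP k p] {n : ℕ} :
    MvPolynomial (Fin n) (FrobAlg.W2 p k) →+* MvPolynomial (Fin n) k :=
  MvPolynomial.map (FrobAlg.res p k)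

/-- the composite `W₂(k)[x] → k[x] → A` -/
noncomputable def ρ : MvPolynomial (Fin n) (FrobAlg.W2 p k) →+* A :=
  ρ₀.toRingHom.comp (m p k)

/-- the Teichmüller map `W₂(k)[x] → W₂(A)` -/
noncomputable def θ₀ : MvPolynomial (Fin n) (FrobAlg.W2 p k) →+* FrobAlg.W2 p A :=
  MvPolynomial.eval₂Hom (WittGrp.truncMap p 2 (algebraMap k A))
    (fun i => TruncatedWittVector.mk p ![ρ₀ (X i), 0])

theorem ρ_apply (f : MvPolynomial (Fin n) (FrobAlg.W2 p k)) :
    ρ p ρ₀ f = ρ₀ (m p k f) := rfl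

theorem θ₀_coeff_zero (f : MvPolynomial (Fin n) (FrobAlg.W2 p k)) :
    (θ₀ p ρ₀ f).coeff 0 = ρ p ρ₀ f := by
  have h : (FrobAlg.res p A).comp (θ₀ p ρ₀) = ρ p ρ₀ := by
    apply MvPolynomial.ringHom_ext
    · intro w
      simp only [RingHom.comp_apply, θ₀, MvPolynomial.coe_eval₂Hom, MvPolynomial.eval₂_C,
        FrobAlg.res_apply, WittGrp.coeff_truncMap, ρ_apply, MvPolynomial.map_C,
        MvPolynomial.algHom_C]
    · intro i
      simp only [RingHom.comp_apply, θ₀, MvPolynomial.coe_eval₂Hom, MvPolynomial.eval₂_X,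
        FrobAlg.res_apply, TruncatedWittVector.coeff_mk, ρ_apply, MvPolynomial.map_X]
      rfl
  have := RingHom.congr_fun h f
  rwa [RingHom.comp_apply, FrobAlg.res_apply] at this

theorem θ₀_C (w : FrobAlg.W2 p k) :
    θ₀ p ρ₀ (C w) = WittGrp.truncMap p 2 (algebraMap k A) w := by
  simp [θ₀]

omit hp [PerfectRing k p] in
theorem p_eq_zero_A (k : Type u) [Field k] [CharP k p] (A : Type u) [CommRing A] [Algebra k A] :
    ((p : ℕ) : A) = 0 := by
  rw [← map_natCast (algebraMap k A), CharP.cast_eq_zero, map_zero]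

theorem ρ_p : ρ p ρ₀ ((p : ℕ) : MvPolynomial (Fin n) (FrobAlg.W2 p k)) = 0 := by
  rw [map_natCast]
  exact p_eq_zero_A p k A

theorem θ₀_mul_eq_zero (f g : MvPolynomial (Fin n) (FrobAlg.W2 p k))
    (hf : ρ p ρ₀ f = 0) (hg : ρ p ρ₀ g = 0) : θ₀ p ρ₀ (f * g) = 0 := by
  rw [map_mul]
  exact mul_eq_zero_of_coeff_zero (p_eq_zero_A p k A) _ _
    (by rw [θ₀_coeff_zero, hf]) (by rw [θ₀_coeff_zero, hg])

theorem ker_sq_le_ker_θ₀ :
    RingHom.ker (ρ p ρ₀) ^ 2 ≤ RingHom.ker (θ₀ p ρ₀) := by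
  rw [pow_two, Ideal.mul_le]
  intro f hf g hg
  exact θ₀_mul_eq_zero p ρ₀ f g hf hg

theorem ker_m : RingHom.ker (m p k (n := n)) =
    Ideal.span {((p : ℕ) : MvPolynomial (Fin n) (FrobAlg.W2 p k))} := by
  rw [m, MvPolynomial.ker_map, ker_res, Ideal.map_span, Set.image_singleton, map_natCast]

theorem m_surjective : Function.Surjective (m p k (n := n)) := by
  apply MvPolynomial.map_surjective
  intro a
  refine ⟨TruncatedWittVector.mk p ![a, 0], ?_⟩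
  rw [FrobAlg.res_apply, TruncatedWittVector.coeff_mk]
  rfl

/-- the thickening `T = P/K²` -/
abbrev T : Type u := MvPolynomial (Fin n) (FrobAlg.W2 p k) ⧸ RingHom.ker (ρ p ρ₀) ^ 2

theorem m_mem (f : MvPolynomial (Fin n) (FrobAlg.W2 p k)) (hf : f ∈ RingHom.ker (ρ p ρ₀)) :
    m p k f ∈ RingHom.ker ρ₀.toRingHom := hf

theorem map_ker_ρ : (RingHom.ker (ρ p ρ₀)).map (m p k) = RingHom.ker ρ₀.toRingHom := by
  have : RingHom.ker (ρ p ρ₀) = (RingHom.ker ρ₀.toRingHom).comap (m p k) := rfl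
  rw [this, Ideal.map_comap_of_surjective _ (m_surjective p)]

/-- `T → k[x]/J₀²` -/
noncomputable def q : T p ρ₀ →+* MvPolynomial (Fin n) k ⧸ RingHom.ker ρ₀.toRingHom ^ 2 :=
  Ideal.Quotient.lift _ ((Ideal.Quotient.mk _).comp (m p k)) (by
    intro f hf
    rw [RingHom.comp_apply, Ideal.Quotient.eq_zero_iff_mem, ← map_ker_ρ, ← Ideal.map_pow]
    exact Ideal.mem_map_of_mem _ hf)

theorem q_mk (f : MvPolynomial (Fin n) (FrobAlg.W2 p k)) :
    q p ρ₀ (Ideal.Quotient.mk _ f) = Ideal.Quotient.mk _ (m p k f) := rfl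

/-- `T → A` -/
noncomputable def ρT : T p ρ₀ →+* A :=
  Ideal.Quotient.lift _ (ρ p ρ₀) (fun f hf => Ideal.pow_le_self two_ne_zero hf)

theorem ρT_mk (f : MvPolynomial (Fin n) (FrobAlg.W2 p k)) :
    ρT p ρ₀ (Ideal.Quotient.mk _ f) = ρ p ρ₀ f := rfl

/-- `T → W₂(A)` -/
noncomputable def θT : T p ρ₀ →+* FrobAlg.W2 p A :=
  Ideal.Quotient.lift _ (θ₀ p ρ₀) (fun f hf => ker_sq_le_ker_θ₀ p ρ₀ hf)

theorem θT_mk (f : MvPolynomial (Fin n) (FrobAlg.W2 p k)) :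
    θT p ρ₀ (Ideal.Quotient.mk _ f) = θ₀ p ρ₀ f := rfl

theorem kerSquareLift_q (t : T p ρ₀) : ρ₀.kerSquareLift (q p ρ₀ t) = ρT p ρ₀ t := by
  obtain ⟨f, rfl⟩ := Ideal.Quotient.mk_surjective t
  rw [q_mk, ρT_mk, ρ_apply]
  rfl

variable (g : A →ₐ[k] MvPolynomial (Fin n) k ⧸ RingHom.ker ρ₀.toRingHom ^ 2)

/-- the lifting, a subring of `T` -/
noncomputable def B : Subring (T p ρ₀) := (g : A →+* _).range.comap (q p ρ₀)

theorem mem_B (t : T p ρ₀) : t ∈ B p ρ₀ g ↔ ∃ a, g a = q p ρ₀ t := Iff.rfl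

theorem C_mem_B (w : FrobAlg.W2 p k) : Ideal.Quotient.mk _ (C w) ∈ B p ρ₀ g := by
  rw [mem_B]
  refine ⟨algebraMap k A (FrobAlg.res p k w), ?_⟩
  rw [q_mk, AlgHom.commutes, m, MvPolynomial.map_C]
  rfl

/-- the structure map of the lifting -/
noncomputable def ι : FrobAlg.W2 p k →+* B p ρ₀ g :=
  RingHom.codRestrict (((Ideal.Quotient.mk (RingHom.ker (ρ p ρ₀) ^ 2)).comp
    (C : FrobAlg.W2 p k →+* MvPolynomial (Fin n) (FrobAlg.W2 p k)) : FrobAlg.W2 p k →+* T p ρ₀))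
    (B p ρ₀ g) (C_mem_B p ρ₀ g)

/-- the reduction map of the lifting -/
noncomputable def π : B p ρ₀ g →+* A := (ρT p ρ₀).comp (B p ρ₀ g).subtype

/-- the map of the lifting to `W₂(A)` -/
noncomputable def θB : B p ρ₀ g →+* FrobAlg.W2 p A := (θT p ρ₀).comp (B p ρ₀ g).subtype

variable (hg : ρ₀.kerSquareLift.comp g = AlgHom.id k A)
include hg

theorem kerSquareLift_g (a : A) : ρ₀.kerSquareLift (g a) = a := by
  have := AlgHom.congr_fun hg a
  exact this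

theorem π_surjective : Function.Surjective (π p ρ₀ g) := by
  intro a
  obtain ⟨f₀, hf₀⟩ := Ideal.Quotient.mk_surjective (g a)
  obtain ⟨f, rfl⟩ := m_surjective p (k := k) f₀
  refine ⟨⟨Ideal.Quotient.mk _ f, ?_⟩, ?_⟩
  · rw [mem_B]
    exact ⟨a, by rw [q_mk, hf₀]⟩
  · change ρT p ρ₀ (Ideal.Quotient.mk _ f) = a
    rw [← kerSquareLift_q, q_mk, hf₀, kerSquareLift_g ρ₀ g hg]

theorem eq_zero_of_π_eq_zero (b : B p ρ₀ g) (hb : π p ρ₀ g b = 0) : q p ρ₀ b.1 = 0 := by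
  obtain ⟨a, ha⟩ := (mem_B p ρ₀ g b.1).mp b.2
  have h1 : a = 0 := by
    rw [← kerSquareLift_g ρ₀ g hg a, ha, kerSquareLift_q]
    exact hb
  rw [← ha, h1, map_zero]

theorem p_mul_mk_eq_zero (f : MvPolynomial (Fin n) (FrobAlg.W2 p k))
    (hf : ρ p ρ₀ f = 0) :
    ((p : ℕ) : T p ρ₀) * Ideal.Quotient.mk _ f = 0 := by
  rw [← map_natCast (Ideal.Quotient.mk (RingHom.ker (ρ p ρ₀) ^ 2)), ← map_mul,
    Ideal.Quotient.eq_zero_iff_mem, pow_two]
  exact Ideal.mul_mem_mul (ρ_p p ρ₀) hf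

theorem exists_eq_p_mul (b : B p ρ₀ g) (hb : π p ρ₀ g b = 0) :
    ∃ y : B p ρ₀ g, b = ((p : ℕ) : B p ρ₀ g) * y := by
  have h0 := eq_zero_of_π_eq_zero p ρ₀ g hg b hb
  obtain ⟨f, hf⟩ := Ideal.Quotient.mk_surjective b.1
  rw [← hf, q_mk, Ideal.Quotient.eq_zero_iff_mem, ← map_ker_ρ, ← Ideal.map_pow] at h0
  have h1 : f ∈ Ideal.comap (m p k) (Ideal.map (m p k) (RingHom.ker (ρ p ρ₀) ^ 2)) := h0
  rw [Ideal.comap_map_of_surjective _ (m_surjective p), ← RingHom.ker_eq_comap_bot, ker_m] at h1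
  obtain ⟨f₁, hf₁, f₂', hf₂', hsum⟩ := Submodule.mem_sup.mp h1
  obtain ⟨f₂, rfl⟩ := Ideal.mem_span_singleton'.mp hf₂'
  obtain ⟨y, hy⟩ := π_surjective p ρ₀ g hg (ρ p ρ₀ f₂)
  refine ⟨y, ?_⟩
  apply Subtype.ext
  obtain ⟨f₃, hf₃⟩ := Ideal.Quotient.mk_surjective y.1
  have hy' : ρ p ρ₀ f₃ = ρ p ρ₀ f₂ := by
    rw [← hy]
    change _ = ρT p ρ₀ y.1
    rw [← hf₃, ρT_mk]
  have h2 : ((p : ℕ) : T p ρ₀) * Ideal.Quotient.mk _ (f₂ - f₃) = 0 :=
    p_mul_mk_eq_zero p ρ₀ g hg _ (by rw [map_sub, hy', sub_self])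
  change b.1 = ((p : ℕ) : T p ρ₀) * y.1
  rw [← hf, ← hf₃, ← hsum, map_add, (Ideal.Quotient.eq_zero_iff_mem).mpr hf₁, zero_add,
    map_mul, map_natCast, mul_comm]
  rw [map_sub, mul_sub, sub_eq_zero] at h2
  exact h2

theorem π_eq_zero_of_p_mul [IsReduced A] [Nontrivial A] (b : B p ρ₀ g)
    (hb : ((p : ℕ) : B p ρ₀ g) * b = 0) : π p ρ₀ g b = 0 := by
  haveI : CharP A p := charP_of_injective_algebraMap (algebraMap k A).injective p
  obtain ⟨f, hf⟩ := Ideal.Quotient.mk_surjective b.1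
  have h1 : ((p : ℕ) : T p ρ₀) * b.1 = 0 := congrArg Subtype.val hb
  have h2 : θT p ρ₀ (((p : ℕ) : T p ρ₀) * b.1) = 0 := by rw [h1, map_zero]
  rw [map_mul, map_natCast, ← hf, θT_mk] at h2
  have h3 := p_mul_coeff_one (θ₀ p ρ₀ f)
  rw [h2, t_zero_coeff, θ₀_coeff_zero] at h3
  change ρT p ρ₀ b.1 = 0
  rw [← hf, ρT_mk]
  exact (pow_eq_zero_iff hp.out.ne_zero).mp h3.symm

theorem isLift [IsReduced A] [Nontrivial A] :
    FrobAlg.IsLift p k A (B p ρ₀ g) (ι p ρ₀ g) (π p ρ₀ g) := by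
  refine isLift_of (π_surjective p ρ₀ g hg) ?_ (exists_eq_p_mul p ρ₀ g hg)
    (π_eq_zero_of_p_mul p ρ₀ g hg)
  ext w
  change ρT p ρ₀ (Ideal.Quotient.mk _ (C w)) = algebraMap k A (FrobAlg.res p k w)
  rw [ρT_mk, ρ_apply, m, MvPolynomial.map_C]
  exact MvPolynomial.algHom_C ρ₀ _

theorem isFLiftable [IsReduced A] [Nontrivial A] [IsNoetherianRing A] :
    FrobAlg.IsFLiftable p k A := by
  have hB := isLift p ρ₀ g hg
  have h := (Groth.Agent.S13150.result p k A (B p ρ₀ g) (ι p ρ₀ g) (π p ρ₀ g) hB).mpr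
    ⟨θB p ρ₀ g, ?_, ?_⟩
  · obtain ⟨Φ, hΦ⟩ := h
    exact ⟨B p ρ₀ g, inferInstance, ι p ρ₀ g, π p ρ₀ g, Φ, hΦ⟩
  · refine RingHom.ext fun b => ?_
    obtain ⟨f, hf⟩ := Ideal.Quotient.mk_surjective b.1
    change FrobAlg.res p A (θT p ρ₀ b.1) = ρT p ρ₀ b.1
    rw [← hf, θT_mk, ρT_mk, FrobAlg.res_apply, θ₀_coeff_zero]
  · refine RingHom.ext fun w => ?_
    change θT p ρ₀ (Ideal.Quotient.mk _ (C w)) = _
    rw [θT_mk, θ₀_C]

end Construction

/-- A smooth algebra over a perfect field of characteristic `p` lifts to `W₂(k)` together with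
its Frobenius. -/
theorem isFLiftable_of_smooth
    (p : ℕ) [Fact p.Prime] (k : Type u) [Field k] [CharP k p] [PerfectRing k p]
    (A : Type u) [CommRing A] [Algebra k A] [Algebra.Smooth k A] :
    FrobAlg.IsFLiftable p k A := by
  rcases subsingleton_or_nontrivial A with hA | hA
  · exact Groth.Agent.Lib.H9FrobEt155.isFLiftable_of_subsingleton p k A
  haveI : IsReduced A := Groth.Agent.Lib.Helper6.isReduced_of_smooth k A
  haveI : Algebra.FiniteType k A := inferInstance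
  haveI : IsNoetherianRing A := Algebra.FiniteType.isNoetherianRing k A
  obtain ⟨n, ρ₀, hρ₀⟩ := Algebra.FiniteType.iff_quotient_mvPolynomial''.mp
    (inferInstance : Algebra.FiniteType k A)
  obtain ⟨g, hg⟩ := (Algebra.FormallySmooth.iff_split_surjection ρ₀ hρ₀).mp inferInstance
  exact isFLiftable p ρ₀ g hg

end Groth.Agent.Lib.H6xFrobSm
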