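import Mathlib

/-!
# A criterion for an additive functor to abelian groups to commute with coproducts (helper2, round 2)

`preservesColimitsOfShape_discrete_of_finSupp`: an additive functor `G : C ⥤ AddCommGrpCat` such that every
element of `G (∐ f)` is fixed by `G (e_S)` for some finite `S` (`e_S = ∑_{j ∈ S} π_j ≫ ι_j`) preserves
coproducts indexed by `J`.
-/

set_option autoImplicit false
universe u v w
open CategoryTheory CategoryTheory.Limits

noncomputable section

namespace Groth.Agent.Lib.R2H2.CoprodCrit

section Ab

variable {J : Type u} [DecidableEq J] (N : J → AddCommGrpCat.{u})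

/-- the canonical map from finitely supported families -/
def sumHom : (Π₀ j, (N j : Type u)) →+ (∐ N : AddCommGrpCat.{u}) :=
  DFinsupp.sumAddHom (fun j => (Sigma.ι N j).hom)

lemma sumHom_single (j : J) (n : N j) : sumHom N (DFinsupp.single j n) = (Sigma.ι N j).hom n :=
  DFinsupp.sumAddHom_single _ _ _

/-- elements of a coproduct of abelian groups are finite sums -/
theorem sumHom_surjective : Function.Surjective (sumHom N) := by
  intro x
  let R : AddSubgroup (∐ N : AddCommGrpCat.{u}) := (sumHom N).range
  let q : (∐ N : AddCommGrpCat.{u}) ⟶ AddCommGrpCat.of ((∐ N : AddCommGrpCat.{u}) ⧸ R) :=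
    AddCommGrpCat.ofHom (QuotientAddGroup.mk' R)
  have hq : q = 0 := by
    apply Sigma.hom_ext
    intro j
    rw [comp_zero]
    ext n
    show QuotientAddGroup.mk' R ((Sigma.ι N j).hom n) = 0
    rw [QuotientAddGroup.mk'_apply, QuotientAddGroup.eq_zero_iff]
    exact ⟨DFinsupp.single j n, sumHom_single N j n⟩
  have hx : QuotientAddGroup.mk' R x = 0 := by
    have := ConcreteCategory.congr_hom hq x
    exact this
  rw [QuotientAddGroup.mk'_apply, QuotientAddGroup.eq_zero_iff] at hx
  exact hx

end Ab

section Crit

variable {C : Type v} [Category.{w} C] [Preadditive C] {J : Type u} [DecidableEq J]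
  [HasCoproductsOfShape J C] (G : C ⥤ AddCommGrpCat.{u}) [G.Additive]

/-- the idempotent of a finite set of indices -/
def eS (f : J → C) (S : Finset J) : (∐ f) ⟶ ∐ f := ∑ j ∈ S, Sigma.π f j ≫ Sigma.ι f j

variable (hG : ∀ (f : J → C) (y : G.obj (∐ f)), ∃ S : Finset J, (G.map (eS f S)).hom y = y)

include hG in
theorem bijective_sigmaComparison (f : J → C) :
    Function.Bijective (sigmaComparison G f).hom := by
  constructor
  · rw [injective_iff_map_eq_zero]
    intro x hx
    obtain ⟨d, rfl⟩ := sumHom_surjective (fun j => G.obj (f j)) x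
    have key : ∀ k : J, ((G.map (Sigma.π f k)).hom.comp
        ((sigmaComparison G f).hom.comp (sumHom (fun j => G.obj (f j))))) =
        DFinsupp.evalAddMonoidHom k := by
      intro k
      apply DFinsupp.addHom_ext
      intro j n
      show (G.map (Sigma.π f k)).hom ((sigmaComparison G f).hom
        (sumHom (fun j => G.obj (f j)) (DFinsupp.single j n))) =
        (DFinsupp.single j n : Π₀ j, (G.obj (f j) : Type u)) k
      rw [sumHom_single]
      have h1 : (sigmaComparison G f).hom ((Sigma.ι (fun j => G.obj (f j)) j).hom n) =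
          (G.map (Sigma.ι f j)).hom n :=
        ConcreteCategory.congr_hom (ι_comp_sigmaComparison G f j) n
      rw [h1]
      have h2 : (G.map (Sigma.π f k)).hom ((G.map (Sigma.ι f j)).hom n) =
          (G.map (Sigma.ι f j ≫ Sigma.π f k)).hom n := by
        rw [G.map_comp]
        rfl
      rw [h2]
      by_cases h : j = k
      · subst h
        rw [Sigma.ι_π_eq_id, G.map_id, DFinsupp.single_eq_same]
        rfl
      · rw [Sigma.ι_π_of_ne f h, G.map_zero, DFinsupp.single_eq_of_ne (Ne.symm h)]
        rfl
    have hd : d = 0 := by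
      ext k
      have h3 : (G.map (Sigma.π f k)).hom ((sigmaComparison G f).hom
          (sumHom (fun j => G.obj (f j)) d)) = d k := DFunLike.congr_fun (key k) d
      rw [hx, map_zero] at h3
      exact h3.symm
    rw [hd, map_zero]
  · intro y
    obtain ⟨S, hS⟩ := hG f y
    refine ⟨∑ j ∈ S, (Sigma.ι (fun j => G.obj (f j)) j).hom ((G.map (Sigma.π f j)).hom y), ?_⟩
    have hsum' : ∀ (s : Finset J) (φ : J → (G.obj (∐ f) ⟶ G.obj (∐ f))),
        (∑ j ∈ s, φ j).hom y = ∑ j ∈ s, (φ j).hom y := by
      intro s φ
      induction s using Finset.induction_on with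
      | empty => simp
      | insert a s ha ih =>
        rw [Finset.sum_insert ha, Finset.sum_insert ha, ← ih]
        rfl
    have hsum : (G.map (eS f S)).hom y =
        ∑ j ∈ S, (G.map (Sigma.π f j ≫ Sigma.ι f j)).hom y := by
      unfold eS
      rw [G.map_sum]
      exact hsum' S _
    refine Eq.trans ?_ hS
    rw [hsum, map_sum]
    refine Finset.sum_congr rfl (fun j _ => ?_)
    have h1 : (sigmaComparison G f).hom ((Sigma.ι (fun j => G.obj (f j)) j).hom
        ((G.map (Sigma.π f j)).hom y)) = (G.map (Sigma.ι f j)).hom ((G.map (Sigma.π f j)).hom y) :=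
      ConcreteCategory.congr_hom (ι_comp_sigmaComparison G f j) _
    rw [h1, G.map_comp]
    rfl

include hG in
/-- **criterion for preserving coproducts** -/
theorem preservesColimitsOfShape_discrete_of_finSupp :
    PreservesColimitsOfShape (Discrete J) G := by
  haveI : ∀ f : J → C, PreservesColimit (Discrete.functor f) G := fun f => by
    haveI : IsIso (sigmaComparison G f) :=
      (ConcreteCategory.isIso_iff_bijective _).2 (bijective_sigmaComparison G hG f)
    exact PreservesCoproduct.of_iso_comparison G f
  exact preservesColimitsOfShape_of_discrete G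

end Crit

end Groth.Agent.Lib.R2H2.CoprodCrit
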