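import Groth.Agent.Lib.R2H2CoprodCoh
import Groth.Agent.Lib.R2H2CechCmp
import Groth.Agent.Lib.Helper23FinTypeLocal
import Groth.Agent.Lib.Helper20StalkExact
import Groth.Agent.Lib.R2H2CoprodCrit

/-!
# The Čech complex as a functor on `X.Modules` (helper2, round 2)

* `toPre`, `cechF U : X.Modules ⥤ CochainComplex AddCommGrpCat ℕ`, additive.
* `isAffineOpen_Ux`.
* degreewise right exactness of Čech cochains for right exact sequences of quasi-coherent modules
  (`exists_lift_deg`, `surjective_deg`, `exists_app_eq_of_exact_epi`).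
-/

set_option autoImplicit false
set_option linter.unusedSectionVars false
set_option linter.style.haveILetI false
universe u
open CategoryTheory CategoryTheory.Limits AlgebraicGeometry TopologicalSpace Opposite

noncomputable section

namespace Groth.Agent.Lib.R2H2.CechFun

open Groth.Agent.Lib.Helper16.CechLow Groth.Agent.Lib.R2H2.CechCmp

section General

universe v u₁

variable {C : Type u₁} [Category.{v} C] [HasFiniteProducts C] {ι : Type u} (U : ι → C)

instance cechComplexFunctor_additive :
    (cechComplexFunctor (A := AddCommGrpCat.{u}) U).Additive where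
  map_add {P Q a b} := by
    ext n c
    apply elt_ext U Q n
    intro x
    show pr U Q n x (((cechComplexFunctor U).map (a + b)).f n c) =
      pr U Q n x (((cechComplexFunctor U).map a).f n c + ((cechComplexFunctor U).map b).f n c)
    rw [map_add, map_pr_apply, map_pr_apply, map_pr_apply]
    rfl

variable {P₁ P₂ P₃ : Cᵒᵖ ⥤ AddCommGrpCat.{u}} (a : P₁ ⟶ P₂) (b : P₂ ⟶ P₃)

lemma exists_lift_deg (n : ℕ)
    (hex : ∀ (x : Fin (n + 1) → ι) (s : P₂.obj (op (Ux U x))),
      b.app (op (Ux U x)) s = 0 → ∃ t, a.app (op (Ux U x)) t = s)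
    (c : (CK U P₂).X n) (hc : ((cechComplexFunctor U).map b).f n c = 0) :
    ∃ c₁ : (CK U P₁).X n, ((cechComplexFunctor U).map a).f n c₁ = c := by
  have h1 : ∀ x : Fin (n + 1) → ι, ∃ t, a.app (op (Ux U x)) t = pr U P₂ n x c := by
    intro x
    apply hex
    rw [← map_pr_apply, hc, map_zero]
  choose t ht using h1
  refine ⟨mkElt U P₁ n t, ?_⟩
  apply elt_ext U P₂ n
  intro x
  rw [map_pr_apply, pr_mkElt, ht]

lemma surjective_deg (n : ℕ)
    (hsurj : ∀ x : Fin (n + 1) → ι, Function.Surjective (b.app (op (Ux U x)))) :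
    Function.Surjective (((cechComplexFunctor U).map b).f n) := by
  intro c
  choose t ht using fun x => hsurj x (pr U P₃ n x c)
  refine ⟨mkElt U P₂ n t, ?_⟩
  apply elt_ext U P₃ n
  intro x
  rw [map_pr_apply, pr_mkElt, ht]

end General

variable {X : Scheme.{u}} {ι : Type u} (U : ι → X.Opens)

/-- the underlying presheaf of abelian groups, as a functor -/
def toPre : X.Modules ⥤ (Opens X)ᵒᵖ ⥤ AddCommGrpCat.{u} :=
  SheafOfModules.toSheaf X.ringCatSheaf ⋙ sheafToPresheaf _ _

instance : (toPre (X := X)).Additive where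
  map_add {M N f g} := by
    ext V s
    rfl

lemma toPre_obj (M : X.Modules) : toPre.obj M = M.presheaf := rfl

lemma toPre_map_app {M N : X.Modules} (φ : M ⟶ N) (V : X.Opens) (s : Γ(M, V)) :
    (toPre.map φ).app (op V) s = φ.app V s := rfl

/-- the Čech complex functor on modules -/
def cechF : X.Modules ⥤ CochainComplex AddCommGrpCat.{u} ℕ :=
  toPre ⋙ cechComplexFunctor U

instance : (cechF U).Additive := by
  unfold cechF
  infer_instance

lemma cechF_obj (M : X.Modules) : (cechF U).obj M = CK U M.presheaf := rfl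

lemma isAffineOpen_Ux (hU : ∀ s : Finset ι, s.Nonempty → IsAffineOpen (⨅ i ∈ s, U i)) {n : ℕ}
    (a : Fin (n + 1) → ι) : IsAffineOpen (Ux U a : X.Opens) := by
  classical
  have h := hU (Finset.image a Finset.univ) (Finset.image_nonempty.2 Finset.univ_nonempty)
  have e : Ux U a = ⨅ i ∈ Finset.image a Finset.univ, U i := by
    apply le_antisymm
    · refine le_iInf₂ fun i hi => ?_
      obtain ⟨k, -, rfl⟩ := Finset.mem_image.1 hi
      exact Groth.Agent.Lib.R2H2.CechOpens.Ux_le U a k
    · refine Groth.Agent.Lib.R2H2.CechOpens.le_Ux U a _ (fun k => ?_)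
      exact iInf₂_le (a k) (Finset.mem_image.2 ⟨k, Finset.mem_univ k, rfl⟩)
  rw [e]
  exact h

/-- sections over an affine open of a right exact sequence of quasi-coherent modules -/
theorem exists_app_eq_of_exact_epi {N₁ N₂ N₃ : X.Modules} [N₁.IsQuasicoherent]
    [N₂.IsQuasicoherent] [N₃.IsQuasicoherent] (f : N₁ ⟶ N₂) (g : N₂ ⟶ N₃) (w : f ≫ g = 0)
    (hex : (ShortComplex.mk f g w).Exact) [Epi g] {V : X.Opens} (hV : IsAffineOpen V)
    (t : Γ(N₂, V)) (ht : g.app V t = 0) : ∃ r : Γ(N₁, V), f.app V r = t := by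
  haveI : (kernel g).IsQuasicoherent :=
    Groth.Agent.Lib.Helper23.QCohLocal.isQuasicoherent_kernel g
  let E : ShortComplex X.Modules := ShortComplex.mk (kernel.ι g) g (kernel.condition g)
  have hE : E.ShortExact :=
    { exact := ShortComplex.exact_kernel g
      mono_f := inferInstanceAs (Mono (kernel.ι g))
      epi_g := inferInstanceAs (Epi g) }
  obtain ⟨r', hr'⟩ := Groth.Agent.Lib.Helper20.StalkExact.exists_app_eq_of_exact E hE V t ht
  haveI : Epi (kernel.lift g f w) := hex.epi_kernelLift
  obtain ⟨r, hr⟩ := Groth.Agent.Lib.Helper23.FinType.surjective_app_of_epi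
    (kernel.lift g f w) hV r'
  refine ⟨r, ?_⟩
  have h1 : f = kernel.lift g f w ≫ kernel.ι g := (kernel.lift_ι g f w).symm
  rw [h1]
  show (kernel.ι g).app V ((kernel.lift g f w).app V r) = t
  rw [hr]
  exact hr'

end Groth.Agent.Lib.R2H2.CechFun
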