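import Mathlib
import Groth.Agent.Lib.R2H2CoprodCoh
import Groth.Agent.Lib.R2H2CechFun
import Groth.Agent.Lib.Helper23FTsub
import Groth.Agent.Lib.Helper23Extend
set_option backward.isDefEq.respectTransparency.types false

/-!
# Cohomology classes of a quasi-coherent module come from finite type quasi-coherent submodules
(helper6)

On a scheme with a finite cover by opens with affine finite intersections, every class in
`H^p(X, G)` (`G` quasi-coherent) is the image of a class of a quasi-coherent submodule of finite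
type (Čech cocycle argument).
-/

set_option autoImplicit false
set_option linter.style.haveILetI false
set_option linter.unusedSectionVars false
universe u
open CategoryTheory CategoryTheory.Limits AlgebraicGeometry TopologicalSpace Opposite

namespace Groth.Agent.Lib.H6xFtCoh

open Groth.Agent.Lib.R2H2.HHLin Groth.Agent.Lib.Helper16.CechLow Groth.Agent.Lib.R2H2.CechCmp
  Groth.Agent.Lib.R2H2.Cls Groth.Agent.Lib.Helper16.Cech

variable {X : Scheme.{u}}

/-- a finite affine cover with affine finite intersections on a quasi-compact separated scheme -/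
theorem exists_cover (X : Scheme.{u}) [CompactSpace X] [X.IsSeparated] :
    ∃ (ι : Type u) (_ : Finite ι) (U : ι → X.Opens), ⨆ i, U i = ⊤ ∧
      ∀ s : Finset ι, s.Nonempty → IsAffineOpen (⨅ i ∈ s, U i) := by
  obtain ⟨s, hs⟩ := IsOpenCover.exists_finite_of_compactSpace
    (u := fun U : X.affineOpens => (U : X.Opens)) (iSup_affineOpens_eq_top X)
  refine ⟨s, inferInstance, fun k => (k.1 : X.Opens), hs.iSup_eq_top, fun t ht => ?_⟩
  exact IsAffineOpen.biInf (t : Set s) t.finite_toSet ht (fun i _ => i.1.2)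

/-- every class of `H^p(X, G)` comes from a finite type quasi-coherent submodule -/
theorem exists_ft_sub_class [CompactSpace X] [QuasiSeparatedSpace X] {ι : Type u} [Finite ι]
    (U : ι → X.Opens) (hcov : ⨆ i, U i = ⊤)
    (hU : ∀ s : Finset ι, s.Nonempty → IsAffineOpen (⨅ i ∈ s, U i))
    (G : X.Modules) (hG : G.IsQuasicoherent) (p : ℕ) (x : Coh.HH X G p) :
    ∃ (F : X.Modules) (i : F ⟶ G), Mono i ∧ F.IsQuasicoherent ∧
      SheafOfModules.IsFiniteType (R := X.ringCatSheaf) F ∧ ∃ y : Coh.HH X F p, HmapL i p y = x := by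
  classical
  obtain ⟨e, he⟩ := Groth.Agent.Lib.R2H2.LerayNat2.exists_natural_family X U hcov hU p
  obtain ⟨c, rfl⟩ := (e G hG).surjective x
  obtain ⟨z, rfl⟩ := cls_surjective (CK U G.presheaf) p c
  letI : Fintype (Fin (p + 1) → ι) := Fintype.ofFinite _
  let a₀ : Σ W : X.affineOpens, Γ(G, W.1) := ⟨⟨⊥, isAffineOpen_bot X⟩, 0⟩
  let l : List (Σ W : X.affineOpens, Γ(G, W.1)) :=
    (Finset.univ : Finset (Fin (p + 1) → ι)).toList.map (fun a =>
      ⟨⟨Ux U a, Groth.Agent.Lib.R2H2.CechFun.isAffineOpen_Ux U hU a⟩, pr U G.presheaf p a z.1⟩)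
  obtain ⟨F, i, hi, hFq, hFf, hmem⟩ := Groth.Agent.Lib.Helper23.FTsub.exists_ft_sub_list G a₀ l
  refine ⟨F, i, hi, hFq, hFf, ?_⟩
  have hz : ∀ a : Fin (p + 1) → ι, ∃ g : Γ(F, Ux U a), i.app (Ux U a) g = pr U G.presheaf p a z.1 := by
    intro a
    have hmem' : (⟨⟨Ux U a, Groth.Agent.Lib.R2H2.CechFun.isAffineOpen_Ux U hU a⟩,
        pr U G.presheaf p a z.1⟩ : Σ W : X.affineOpens, Γ(G, W.1)) ∈ a₀ :: l := by
      refine List.mem_cons_of_mem _ ?_
      exact List.mem_map.2 ⟨a, Finset.mem_toList.2 (Finset.mem_univ a), rfl⟩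
    exact hmem _ hmem'
  choose g hg using hz
  let z' : (CK U F.presheaf).X p := mkElt U F.presheaf p g
  have hmap : ((cechComplexFunctor U).map (abMap i).hom).f p z' = z.1 := by
    apply elt_ext U G.presheaf p
    intro a
    refine (map_pr_apply U (abMap i).hom p a z').trans ?_
    refine Eq.trans ?_ (hg a)
    exact congrArg (fun t => i.app (Ux U a) t) (pr_mkElt U F.presheaf p g a)
  have hinj : Function.Injective (((cechComplexFunctor U).map (abMap i).hom).f (p + 1)) := by
    intro c c' hcc
    apply elt_ext U F.presheaf (p + 1)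
    intro a
    haveI := hi
    apply Groth.Agent.Lib.Helper23.Extend.injective_app_of_mono i (Ux U a)
    have h1 := map_pr_apply U (abMap i).hom (p + 1) a c
    have h2 := map_pr_apply U (abMap i).hom (p + 1) a c'
    rw [hcc] at h1
    exact h1.symm.trans h2
  have hcoc : z' ∈ AddMonoidHom.ker ((CK U F.presheaf).d p (p + 1)).hom := by
    rw [AddMonoidHom.mem_ker]
    apply hinj
    have hcomm := ((cechComplexFunctor U).map (abMap i).hom).comm p (p + 1)
    have h3 : ((cechComplexFunctor U).map (abMap i).hom).f (p + 1)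
        (((CK U F.presheaf).d p (p + 1)).hom z') =
        ((CK U G.presheaf).d p (p + 1)).hom (((cechComplexFunctor U).map (abMap i).hom).f p z') :=
      (ConcreteCategory.congr_hom hcomm z').symm
    refine h3.trans ?_
    rw [hmap]
    exact (AddMonoidHom.mem_ker.1 z.2).trans (map_zero _).symm
  refine ⟨e F hFq (cls (CK U F.presheaf) p ⟨z', hcoc⟩), ?_⟩
  rw [HmapL_apply]
  refine (he F G hFq hG (abMap i) _).symm.trans ?_
  congr 1
  refine (homologyMap_cls ((cechComplexFunctor U).map (abMap i).hom) p ⟨z', hcoc⟩).trans ?_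
  congr 1
  exact Subtype.ext hmap

/-- cohomology vanishing for quasi-coherent modules follows from the finite type case -/
theorem subsingleton_HH_of_ft [CompactSpace X] [QuasiSeparatedSpace X] {ι : Type u} [Finite ι]
    (U : ι → X.Opens) (hcov : ⨆ i, U i = ⊤)
    (hU : ∀ s : Finset ι, s.Nonempty → IsAffineOpen (⨅ i ∈ s, U i)) (p : ℕ)
    (h : ∀ F : X.Modules, F.IsQuasicoherent → SheafOfModules.IsFiniteType (R := X.ringCatSheaf) F →
      Subsingleton (Coh.HH X F p))
    (G : X.Modules) (hG : G.IsQuasicoherent) : Subsingleton (Coh.HH X G p) := by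
  refine subsingleton_of_forall_eq 0 fun x => ?_
  obtain ⟨F, i, -, hFq, hFf, y, rfl⟩ := exists_ft_sub_class U hcov hU G hG p x
  haveI := h F hFq hFf
  rw [Subsingleton.elim y 0, map_zero]

end Groth.Agent.Lib.H6xFtCoh
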