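import Groth.Agent.Lib.R2H2PnReg
import Groth.Agent.Lib.Helper23TensorUnit
import Groth.Agent.Lib.R2H2PnSerre
import Groth.Agent.S0022

/-!
# Surjectivity of multiplication maps for regular sheaves on `P^n_R` (helper2, round 2)
-/

set_option autoImplicit false
universe u

namespace Groth.Agent.Lib.R2H2.PnMulSurj

open CategoryTheory CategoryTheory.Limits AlgebraicGeometry TopologicalSpace Opposite
  MonoidalCategory
open Groth.Agent.Lib.R2H2.KoszulAbs Groth.Agent.Lib.R2H2.KoszulSheaf
  Groth.Agent.Lib.R2H2.KoszulShift Groth.Agent.Lib.R2H2.PnDual Groth.Agent.Lib.R2H2.HHLin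
  Groth.Agent.Lib.R2H2.PnReg

section General

variable {X : Scheme.{u}}

/-- the canonical map `M(X) ⊗ N(X) ⟶ (M ⊗ N)(X)` -/
noncomputable abbrev tsTop (M N : X.Modules) :=
  (toSheafify (Opens.grothendieckTopology X) (CohB1.tensorPre M N).presheaf).app (op ⊤)

/-- the presheaf map `M ⊗ N ⟶ M ⊗ N'` on global sections -/
noncomputable abbrev preTop (M : X.Modules) {N N' : X.Modules} (φ : N ⟶ N') :=
  ((PresheafOfModules.toPresheaf _).map
    ((CohB1.toPMod M) ◁ (show CohB1.toPMod N ⟶ CohB1.toPMod N' from φ.val))).app (op ⊤)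

theorem tsTop_naturality (M : X.Modules) {N N' : X.Modules} (φ : N ⟶ N')
    (s : ((CohB1.tensorPre M N).presheaf.obj (op ⊤) : AddCommGrpCat.{u})) :
    (abMap ((DCoh.tensorBi.obj M).map φ)).hom.app (op ⊤) (tsTop M N s) =
      tsTop M N' (preTop M φ s) := by
  have h := toSheafify_naturality (Opens.grothendieckTopology X)
    ((PresheafOfModules.toPresheaf _).map
      ((CohB1.toPMod M) ◁ (show CohB1.toPMod N ⟶ CohB1.toPMod N' from φ.val)))
  have h2 := congrArg (fun η => (η.app (op ⊤)) s) h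
  exact h2.symm

theorem tsTop_surjective_of_iso (M L : X.Modules) (e : L ≅ Coh.structureModule X) :
    Function.Surjective (tsTop M L) := by
  let eP : CohB1.tensorPre M L ≅ CohB1.toPMod M :=
    whiskerLeftIso (CohB1.toPMod M)
      (show CohB1.toPMod L ≅ CohB1.toPMod (Coh.structureModule X) from
        (SheafOfModules.forget _).mapIso e) ≪≫ Groth.Agent.Lib.Helper23.TensorUnit.rho M
  have eP' : (CohB1.tensorPre M L).presheaf ≅ M.val.presheaf :=
    (PresheafOfModules.toPresheaf _).mapIso eP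
  have hsh : Presheaf.IsSheaf (Opens.grothendieckTopology X) (CohB1.tensorPre M L).presheaf :=
    (Presheaf.isSheaf_of_iso_iff eP').2 M.isSheaf
  have h1 : IsIso (toSheafify (Opens.grothendieckTopology X) (CohB1.tensorPre M L).presheaf) :=
    isIso_toSheafify _ hsh
  have h2 : IsIso (tsTop M L) := inferInstance
  exact (ConcreteCategory.bijective_of_isIso (tsTop M L)).2

end General

section Pn

variable (n : ℕ) (R : Type u) [CommRing R]

local notation "PX" => CohB1.ProjSpace n R

open Groth.Agent.Lib.Helper27PnSections in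
/-- surjectivity of the multiplication map at the end of the Koszul complex, `GrTilde` form -/
theorem mul_surj_tilde (F' : (PX).Modules) (a : ℤ)
    (hvan : ∀ i : ℕ, i < n →
      Subsingleton (Coh.HH PX (CohB1.tensorMod F' (Otw R n (a + i))) (1 + (n - (i + 1)))))
    (h0 : Function.Surjective (tsTop F' (Otw R n (a + n)))) :
    Function.Surjective (tsTop F' (Otw R n (a + ((n + 1 : ℕ) : ℤ)))) := by
  intro t
  obtain ⟨w, hw⟩ := exists_sum_top (KD n R F' a) (KD_exact n R F' a) (KD_mono n R F' a) n rfl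
    hvan ((hh0Equiv PX ((KD n R F' a).G (n + 1))).symm t)
  have ht : t = hh0Equiv PX ((KD n R F' a).G (n + 1))
      ((hh0Equiv PX ((KD n R F' a).G (n + 1))).symm t) :=
    (AddEquiv.apply_symm_apply _ t).symm
  have hs : ∀ l : Fin (n + 1), ∃ s, tsTop F' (Otw R n (a + n)) s =
      hh0Equiv PX ((KD n R F' a).G n) (w l) := fun l =>
    h0 _
  choose s hs using hs
  refine ⟨∑ l : Fin (n + 1), preTop F' (mulX (CohB1.polyGrading n R) (xs n R) (xs_mem n R) a l n)
    (s l), ?_⟩
  rw [map_sum, ht, hw, map_sum]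
  refine Finset.sum_congr rfl fun l _ => ?_
  rw [← tsTop_naturality, hs l]
  exact Sheaf.H.equiv₀_naturality Limits.isTerminalTop (abMap ((KD n R F' a).X l n)) (w l)

/-- surjectivity of the multiplication map at the end of the Koszul complex -/
theorem mul_surj (F' : (PX).Modules) (a : ℤ)
    (hvan : ∀ i : ℕ, i < n →
      Subsingleton (Coh.HH PX (CohB1.tensorMod F' (Twist.twistProjSpace n R (a + i)))
        (1 + (n - (i + 1)))))
    (h0 : Function.Surjective (tsTop F' (Twist.twistProjSpace n R (a + n)))) :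
    Function.Surjective (tsTop F' (Twist.twistProjSpace n R (a + ((n + 1 : ℕ) : ℤ)))) := by
  have key : ∀ T : ℤ → (PX).Modules, T = (fun d => Otw R n d) →
      (∀ i : ℕ, i < n →
        Subsingleton (Coh.HH PX (CohB1.tensorMod F' (T (a + i))) (1 + (n - (i + 1))))) →
      Function.Surjective (tsTop F' (T (a + n))) →
      Function.Surjective (tsTop F' (T (a + ((n + 1 : ℕ) : ℤ)))) := by
    intro T hT
    subst hT
    exact mul_surj_tilde n R F' a
  exact key (fun d => Twist.twistProjSpace n R d) (funext fun d => twist_eq R n d) hvan h0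

/-- `(F ⊗ A) ⊗ B ≅ F ⊗ C` when `A ⊗ B ≅ C` -/
noncomputable def assocIso {X : Scheme.{u}} (F A B C : X.Modules)
    (e : (DCoh.tensorBi.obj A).obj B ≅ C) :
    CohB1.tensorMod (CohB1.tensorMod F A) B ≅ CohB1.tensorMod F C :=
  (Groth.Agent.Lib.Helper21.ModTensor6.tLTensorIso X.sheaf F A).app B ≪≫
    (DCoh.tensorBi.obj F).mapIso e

/-- `(F ⊗ O(a)) ⊗ O(b) ≅ F ⊗ O(c)` for `a + b = c` -/
theorem nonempty_twist_assoc (F : (PX).Modules) (a b c : ℤ) (h : a + b = c) :
    Nonempty (CohB1.tensorMod (CohB1.tensorMod F (Twist.twistProjSpace n R a))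
      (Twist.twistProjSpace n R b) ≅ CohB1.tensorMod F (Twist.twistProjSpace n R c)) := by
  obtain ⟨e⟩ := Groth.Agent.Lib.R2Lead.KRR.nonempty_twistProjSpace_tensor_iso n R a b
  rw [h] at e
  exact ⟨assocIso F _ _ _ e⟩

/-- regularity in degrees `1..n` gives vanishing in all degrees and all larger twists -/
theorem regular_all (F : (PX).Modules) (hF : F.IsQuasicoherent) (m : ℤ)
    (hreg : ∀ i : ℕ, 1 ≤ i → i ≤ n →
      Subsingleton (Coh.HH PX (CohB1.tensorMod F (Twist.twistProjSpace n R (m - i))) i))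
    (p : ℕ) (hp : 1 ≤ p) (r : ℤ) (hr : m - p ≤ r) :
    Subsingleton (Coh.HH PX (CohB1.tensorMod F (Twist.twistProjSpace n R r)) p) := by
  have hreg' : ∀ p : ℕ, 1 ≤ p → Subsingleton (Coh.HH PX
      (CohB1.tensorMod F (Twist.twistProjSpace n R (m - p))) p) := by
    intro p hp
    by_cases hpn : p ≤ n
    · exact hreg p hp hpn
    · have hq2 : (Twist.twistProjSpace n R (m - (p : ℤ))).IsQuasicoherent :=
        Groth.Agent.Lib.R2H2.PnFinite.isQCoh_twist n R _
      have hq3 : Coh.IsQCoh (CohB1.tensorMod F (Twist.twistProjSpace n R (m - (p : ℤ)))) :=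
        Groth.Agent.Lib.Helper23.TensorQCoh.isQuasicoherent_tensorMod F _
      exact Groth.Agent.S0022.result n R _ p (by omega)
  have h1 := regular_le n R F m hreg' (r + p - m).toNat p hp
  have e : m + (((r + p - m).toNat : ℕ) : ℤ) - (p : ℤ) = r := by omega
  rw [e] at h1
  exact h1

/-- **multiplication maps of a regular sheaf are surjective** -/
theorem mul_surj_regular (F : (PX).Modules) (hF : F.IsQuasicoherent) (m : ℤ)
    (hreg : ∀ i : ℕ, 1 ≤ i → i ≤ n →
      Subsingleton (Coh.HH PX (CohB1.tensorMod F (Twist.twistProjSpace n R (m - i))) i))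
    (d : ℤ) (hd : m ≤ d) (e : ℕ) :
    Function.Surjective (tsTop (CohB1.tensorMod F (Twist.twistProjSpace n R d))
      (Twist.twistProjSpace n R (e : ℤ))) := by
  induction e with
  | zero =>
    obtain ⟨z⟩ := Groth.Agent.Lib.R2Lead.KRR.nonempty_twistProjSpace_zero_iso n R
    exact tsTop_surjective_of_iso _ _ z
  | succ e ih =>
    have h1 := mul_surj n R (CohB1.tensorMod F (Twist.twistProjSpace n R d)) ((e : ℤ) - n) (by
      intro i hi
      obtain ⟨ι⟩ := nonempty_twist_assoc n R F d ((e : ℤ) - n + i)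
        (d + e - ((1 + (n - (i + 1)) : ℕ) : ℤ)) (by omega)
      refine Groth.Agent.Lib.R2H2.PnSerre.subsingleton_HH_of_iso ι.symm _ ?_
      exact regular_all n R F hF m hreg _ (by omega) _ (by omega)) (by
      have e1 : (e : ℤ) - n + n = e := by ring
      rw [e1]
      exact ih)
    have e2 : (e : ℤ) - n + ((n + 1 : ℕ) : ℤ) = ((e + 1 : ℕ) : ℤ) := by push_cast; ring
    rw [e2] at h1
    exact h1

end Pn

end Groth.Agent.Lib.R2H2.PnMulSurj
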