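import Groth.Agent.Lib.R2H2FinGen
import Groth.Agent.Lib.Helper23LocGen
import Groth.Agent.Lib.Helper23TensorQCoh
import Groth.Agent.Lib.Helper23TensorUnit
import Groth.Agent.Lib.Helper1FLF1
import Groth.Agent.Lib.R2H2PnMulSurj
import Groth.Agent.Lib.R2H2PnSerre
import Groth.Agent.Lib.R2H2PnFinite
import Groth.Agent.Lib.R2H2ProjOverPush
import Groth.Agent.Lib.Helper17Res1
import Groth.Prelude.Def_KRR
set_option backward.isDefEq.respectTransparency.types false

/-!
# Ample invertible modules give enough locally free modules (helper2, round 2)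

* `hasEnoughLocFree_of_inverses` : on a Noetherian scheme with an ample invertible module `L` whose
  tensor powers admit tensor inverses, every coherent module is a quotient of a finite locally free
  module.
-/

set_option autoImplicit false
universe u

open CategoryTheory CategoryTheory.Limits AlgebraicGeometry TopologicalSpace Opposite
open Groth.Agent.Lib.R2H2.PnSerre

namespace Groth.Agent.Lib.R2H2.AmpleRes

variable {X : Scheme.{u}}

theorem isFinLocFree_freeMod (k : ℕ) : FlatMod.IsFinLocFree (FlatMod.freeMod X k) :=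
  Groth.Agent.Lib.Helper2.LocFree.isFinLocFree_of_iso_freeMod _ (Iso.refl _)

theorem epi_twR_map (N : X.Modules) (hN : PicF.IsInvertible N) {A B : X.Modules} (q : A ⟶ B)
    [Epi q] : Epi ((twR N).map q) := by
  let S : ShortComplex X.Modules := ShortComplex.mk (kernel.ι q) q (kernel.condition q)
  have hS : S.ShortExact := Groth.Agent.Lib.Helper17.Res.kernel_shortExact q
  exact (shortExact_map_twR N hN S hS).epi_g

theorem isFinLocFree_twR_freeMod (N : X.Modules) (hN : PicF.IsInvertible N) (k : ℕ) :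
    FlatMod.IsFinLocFree ((twR N).obj (FlatMod.freeMod X k)) := by
  have h := Groth.Agent.Lib.Helper1.FLF.isFinLocFree_tensor (FlatMod.freeMod X k) N
    (isFinLocFree_freeMod k)
    (Groth.Agent.Lib.R2H2.ProjOverPush.isFinLocFree_of_isInvertible hN)
  exact h

/-- `(F ⊗ A) ⊗ N ≅ F` when `A ⊗ N ≅ O`. -/
noncomputable def cancelIso (F A N : X.Modules)
    (e : (DCoh.tensorBi.obj A).obj N ≅ Coh.structureModule X) :
    (twR N).obj (CohB1.tensorMod F A) ≅ F :=
  Groth.Agent.Lib.R2H2.PnMulSurj.assocIso F A N _ e ≪≫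
    Groth.Agent.Lib.Helper23.TensorUnit.tensorUnitIso F

theorem exists_finite_epi_twist [IsLocallyNoetherian X] (L : X.Modules)
    (hL : CohB1.IsAmple L) (F : X.Modules) (hF : Coh.IsCoh F) :
    ∃ (n k : ℕ) (q : FlatMod.freeMod X k ⟶ CohB1.tensorMod F (CohB1.tensorPow L n)), Epi q := by
  haveI : CompactSpace X := hL.2.1
  haveI : F.IsQuasicoherent := hF.1
  haveI : SheafOfModules.IsFiniteType (R := X.ringCatSheaf) F := hF.2
  obtain ⟨n₀, hn₀⟩ :=
    Groth.Agent.Lib.Helper23.LocGen.isGloballyGenerated_twist_eventually L hL F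
  have hLn : PicF.IsInvertible (CohB1.tensorPow L n₀) :=
    Groth.Agent.Lib.Helper23.SecTw.isInvertible_tensorPow hL.1 n₀
  haveI : (CohB1.tensorPow L n₀).IsQuasicoherent :=
    Groth.Agent.Lib.Helper23.SecTw.isQuasicoherent_of_isInvertible _ hLn
  haveI : SheafOfModules.IsFiniteType (R := X.ringCatSheaf) (CohB1.tensorPow L n₀) :=
    Groth.Agent.Lib.R2H2.PnFinite.isFiniteType_of_isInvertible _ hLn
  haveI : (CohB1.tensorMod F (CohB1.tensorPow L n₀)).IsQuasicoherent :=
    Groth.Agent.Lib.Helper23.TensorQCoh.isQuasicoherent_tensorMod F _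
  haveI : SheafOfModules.IsFiniteType (R := X.ringCatSheaf)
      (CohB1.tensorMod F (CohB1.tensorPow L n₀)) :=
    Groth.Agent.Lib.Helper23.TensorQCoh.isFiniteType_tensorMod F _
  obtain ⟨k, q, hq⟩ := Groth.Agent.Lib.R2H2.FinGen.exists_finite_epi
    (CohB1.tensorMod F (CohB1.tensorPow L n₀)) (hn₀ n₀ le_rfl)
  exact ⟨n₀, k, q, hq⟩

theorem hasEnoughLocFree_of_inverses [IsLocallyNoetherian X] (L : X.Modules)
    (hL : CohB1.IsAmple L)
    (hinv : ∀ n : ℕ, ∃ N : X.Modules, PicF.IsInvertible N ∧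
      Nonempty ((DCoh.tensorBi.obj (CohB1.tensorPow L n)).obj N ≅ Coh.structureModule X)) :
    KRR.HasEnoughLocFree X := by
  intro F hF
  obtain ⟨n, k, q, hq⟩ := exists_finite_epi_twist L hL F hF
  obtain ⟨N, hN, ⟨e⟩⟩ := hinv n
  haveI := hq
  haveI := epi_twR_map N hN q
  exact ⟨(twR N).obj (FlatMod.freeMod X k),
    (twR N).map q ≫ (cancelIso F (CohB1.tensorPow L n) N e).hom,
    isFinLocFree_twR_freeMod N hN k, epi_comp _ _⟩

end Groth.Agent.Lib.R2H2.AmpleRes
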