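import Groth.Agent.Lib.R2H2FinGen
import Groth.Agent.Lib.Helper23Serre

/-!
# Finitely many global sections suffice, without Noetherian hypotheses (helper2, round 2)

`exists_finite_epi_of_locGen` : on a quasi-compact scheme, a quasi-coherent module of finite type
which is generated by its global sections near every point (`LocGen`) is a quotient of `O_X^k`.
`exists_finite_epi_twist` : for `L` ample, `F ⊗ L^n` is a quotient of some `O_X^k` for all large `n`.
-/

set_option autoImplicit false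
universe u
open CategoryTheory CategoryTheory.Limits AlgebraicGeometry TopologicalSpace Opposite

namespace Groth.Agent.Lib.R2H2.FinGenQC

open Groth.Agent.Lib.Helper6 Groth.Agent.Lib.Helper23.SecTw Groth.Agent.Lib.Helper23.GenLocus
  Groth.Agent.Lib.Helper23.LocGen Groth.Agent.Lib.Helper20.ParaFLib
  Groth.Agent.Lib.Helper2.Push Groth.Agent.Lib.Helper23.FinType

variable {X : Scheme.{u}}

/-- the span of the restrictions of the sections in `S` -/
noncomputable def sspan (N : X.Modules) (S : Set (Coh.structureModule X ⟶ N)) (B : X.Opens) :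
    Submodule Γ(X, B) Γ(N, B) :=
  Submodule.span Γ(X, B) ((fun σ : Coh.structureModule X ⟶ N => sv σ B) '' S)

theorem sspan_mono (N : X.Modules) {S S' : Set (Coh.structureModule X ⟶ N)} (h : S ⊆ S')
    (B : X.Opens) : sspan N S B ≤ sspan N S' B :=
  Submodule.span_mono (Set.image_mono h)

theorem res_mem_sspan (N : X.Modules) (S : Set (Coh.structureModule X ⟶ N)) {B B' : X.Opens}
    (h : B' ≤ B) {m : Γ(N, B)} (hm : m ∈ sspan N S B) : res N h m ∈ sspan N S B' := by
  induction hm using Submodule.span_induction with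
  | mem x hx =>
    obtain ⟨σ, hσ, rfl⟩ := hx
    rw [res_sv]
    exact Submodule.subset_span ⟨σ, hσ, rfl⟩
  | zero => rw [res_zero]; exact zero_mem _
  | add x y _ _ hx hy => rw [res_add']; exact add_mem hx hy
  | smul r x _ hx => rw [res_smul]; exact Submodule.smul_mem _ _ hx

theorem exists_finset_of_mem_gspan (N : X.Modules) {B : X.Opens} {m : Γ(N, B)}
    (hm : m ∈ gspan N B) :
    ∃ S : Finset (Coh.structureModule X ⟶ N), m ∈ sspan N (S : Set _) B := by
  classical
  induction hm using Submodule.span_induction with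
  | mem x hx =>
    obtain ⟨σ, rfl⟩ := hx
    exact ⟨{σ}, Submodule.subset_span ⟨σ, by simp, rfl⟩⟩
  | zero => exact ⟨∅, zero_mem _⟩
  | add x y _ _ hx hy =>
    obtain ⟨S₁, h₁⟩ := hx
    obtain ⟨S₂, h₂⟩ := hy
    refine ⟨S₁ ∪ S₂, add_mem (sspan_mono N ?_ B h₁) (sspan_mono N ?_ B h₂)⟩
    · rw [Finset.coe_union]; exact Set.subset_union_left
    · rw [Finset.coe_union]; exact Set.subset_union_right
  | smul r x _ hx =>
    obtain ⟨S₁, h₁⟩ := hx
    exact ⟨S₁, Submodule.smul_mem _ _ h₁⟩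

theorem res_res_mem_sspan (N : X.Modules) (S S' : Set (Coh.structureModule X ⟶ N)) (hSS : S ⊆ S')
    {A B B' : X.Opens} (hBA : B ≤ A) (hB'B : B' ≤ B) (m : Γ(N, A))
    (hm : res N hBA m ∈ sspan N S B) : res N (hB'B.trans hBA) m ∈ sspan N S' B' := by
  have h3 : res N hB'B (res N hBA m) ∈ sspan N S B' := res_mem_sspan N S hB'B hm
  rw [res_res] at h3
  exact sspan_mono N hSS B' h3

theorem res_mem_sspan_of_span (N : X.Modules) {A B : X.Opens} (hB : B ≤ A) (T : Set Γ(N, A))
    (S : Set (Coh.structureModule X ⟶ N)) (hS : ∀ m ∈ T, res N hB m ∈ sspan N S B)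
    {a : Γ(N, A)} (ha : a ∈ Submodule.span Γ(X, A) T) : res N hB a ∈ sspan N S B := by
  induction ha using Submodule.span_induction with
  | mem τ hτ => exact hS τ hτ
  | zero => rw [res_zero]; exact zero_mem _
  | add a b _ _ ha hb => rw [res_add']; exact add_mem ha hb
  | smul r a _ ha => rw [res_smul]; exact Submodule.smul_mem _ _ ha

/-- finitely many generators over an affine are spanned by finitely many global sections near a
point -/
theorem exists_nhd_finset (N : X.Modules) {A : X.Opens} (hgen : LocGen N A) (x : X) (hx : x ∈ A)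
    (T : Finset Γ(N, A)) :
    ∃ (B : X.Opens) (hB : B ≤ A) (S : Finset (Coh.structureModule X ⟶ N)), x ∈ B ∧
      ∀ m ∈ T, res N hB m ∈ sspan N (S : Set (Coh.structureModule X ⟶ N)) B := by
  classical
  induction T using Finset.induction_on with
  | empty => exact ⟨A, le_rfl, ∅, hx, fun m hm => absurd hm (by simp)⟩
  | insert a T _ ih =>
    obtain ⟨B₁, hB₁, S₁, hx₁, h₁⟩ := ih
    obtain ⟨B₂, hB₂, hx₂, h₂⟩ := hgen A le_rfl a x hx
    obtain ⟨S₂, hS₂⟩ := exists_finset_of_mem_gspan N h₂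
    have hsub₁ : (S₁ : Set (Coh.structureModule X ⟶ N)) ⊆
        ((S₁ ∪ S₂ : Finset (Coh.structureModule X ⟶ N)) : Set (Coh.structureModule X ⟶ N)) := by
      rw [Finset.coe_union]; exact Set.subset_union_left
    have hsub₂ : (S₂ : Set (Coh.structureModule X ⟶ N)) ⊆
        ((S₁ ∪ S₂ : Finset (Coh.structureModule X ⟶ N)) : Set (Coh.structureModule X ⟶ N)) := by
      rw [Finset.coe_union]; exact Set.subset_union_right
    have hle₁ : B₁ ⊓ B₂ ≤ B₁ := inf_le_left
    have hle₂ : B₁ ⊓ B₂ ≤ B₂ := inf_le_right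
    refine ⟨B₁ ⊓ B₂, hle₁.trans hB₁, S₁ ∪ S₂, ⟨hx₁, hx₂⟩, fun m hm => ?_⟩
    rcases Finset.mem_insert.1 hm with rfl | hmT
    · exact res_res_mem_sspan N _ _ hsub₂ hB₂ hle₂ m hS₂
    · exact res_res_mem_sspan N _ _ hsub₁ hB₁ hle₁ m (h₁ m hmT)

/-- sections in the span of the chosen global sections are in the image of `O^k ⟶ N` -/
theorem exists_app_eq_of_mem_sspan {N : X.Modules} {k : ℕ} (s : Fin k → (Coh.structureModule X ⟶ N))
    {W : X.Opens} {m : Γ(N, W)} (hm : m ∈ sspan N (Set.range s) W) :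
    ∃ a, (Sigma.desc s : FlatMod.freeMod X k ⟶ N).app W a = m := by
  induction hm using Submodule.span_induction with
  | mem x hx =>
    obtain ⟨σ, ⟨j, rfl⟩, rfl⟩ := hx
    refine ⟨(Sigma.ι (fun _ : Fin k => Coh.structureModule X) j).app W (toS W 1), ?_⟩
    have hι : Sigma.ι (fun _ : Fin k => Coh.structureModule X) j ≫
        (Sigma.desc s : FlatMod.freeMod X k ⟶ N) = s j := Sigma.ι_desc s j
    exact congrArg (fun φ : Coh.structureModule X ⟶ N => φ.app W (toS W 1)) hι
  | zero => exact ⟨0, map_zero _⟩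
  | add x y _ _ hx hy =>
    obtain ⟨a, ha⟩ := hx
    obtain ⟨b, hb⟩ := hy
    exact ⟨a + b, by rw [map_add, ha, hb]⟩
  | smul r x _ hx =>
    obtain ⟨a, ha⟩ := hx
    exact ⟨r • a, by rw [Scheme.Modules.Hom.app_smul, ha]⟩

/-- **finite generation by global sections on a quasi-compact scheme** -/
theorem exists_finite_epi_of_locGen [CompactSpace X] (N : X.Modules) [N.IsQuasicoherent]
    [SheafOfModules.IsFiniteType (R := X.ringCatSheaf) N]
    (h : ∀ x : X, ∃ V : X.Opens, x ∈ V ∧ LocGen N V) :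
    ∃ (k : ℕ) (q : FlatMod.freeMod X k ⟶ N), Epi q := by
  classical
  -- local data
  have hloc : ∀ x : X, ∃ (A : X.Opens) (_ : IsAffineOpen A) (T : Finset Γ(N, A)) (B : X.Opens)
      (hB : B ≤ A) (S : Finset (Coh.structureModule X ⟶ N)), x ∈ B ∧
      Submodule.span Γ(X, A) (T : Set Γ(N, A)) = ⊤ ∧
      ∀ m ∈ T, res N hB m ∈ sspan N (S : Set _) B := by
    intro x
    obtain ⟨V, hxV, hV⟩ := h x
    obtain ⟨A, hA, hxA, hAV⟩ := exists_isAffineOpen_mem_and_subset (x := x) (U := V) hxV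
    have hfin : Module.Finite Γ(X, A) Γ(N, A) := finite_of_isFiniteType N hA
    obtain ⟨T, hT⟩ := hfin.fg_top
    obtain ⟨B, hB, S, hxB, hS⟩ := exists_nhd_finset N (hV.mono hAV) x hxA T
    exact ⟨A, hA, T, B, hB, S, hxB, hT, hS⟩
  choose A hA T B hB S hxB hT hS using hloc
  obtain ⟨P, hP⟩ : ∃ P : Finset X, (Set.univ : Set X) ⊆ ⋃ x ∈ P, (B x : Set X) :=
    isCompact_univ.elim_finite_subcover (fun x => (B x : Set X)) (fun x => (B x).2)
      (fun x _ => Set.mem_iUnion.2 ⟨x, hxB x⟩)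
  let SS : Finset (Coh.structureModule X ⟶ N) := P.biUnion S
  let k : ℕ := SS.card
  let e : Fin k ≃ SS := SS.equivFin.symm
  let s : Fin k → (Coh.structureModule X ⟶ N) := fun j => (e j).1
  have hrange : ∀ x ∈ P, (S x : Set (Coh.structureModule X ⟶ N)) ⊆ Set.range s := by
    intro x hx σ hσ
    have hσS : σ ∈ SS := Finset.mem_biUnion.2 ⟨x, hx, hσ⟩
    refine ⟨e.symm ⟨σ, hσS⟩, ?_⟩
    change (e (e.symm ⟨σ, hσS⟩)).1 = σ
    rw [Equiv.apply_symm_apply]
  refine ⟨k, Sigma.desc s, ?_⟩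
  apply Groth.Agent.Lib.Helper23.Serre.epi_of_locally_surjective
  intro V t y hyV
  obtain ⟨x, hx⟩ := Set.mem_iUnion.1 (hP (Set.mem_univ y))
  obtain ⟨hxP, hyB⟩ := Set.mem_iUnion.1 hx
  have hyA : y ∈ A x := hB x hyB
  obtain ⟨f, hfW, hyf⟩ := (hA x).exists_basicOpen_le (V := V ⊓ B x) ⟨y, ⟨hyV, hyB⟩⟩ hyA
  have hfV : X.basicOpen f ≤ V := hfW.trans inf_le_left
  have hfB : X.basicOpen f ≤ B x := hfW.trans inf_le_right
  have hlocA : IsLocOn N (A x) := IsLocOn.of_isQuasicoherent (hA x) N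
  obtain ⟨n, t₀, ht₀⟩ := hlocA.exists_extension f (res N hfV t)
  refine ⟨X.basicOpen f, hfV, hyf, ?_⟩
  apply exists_app_eq_of_mem_sspan s
  have hunit : IsUnit (resf (X.basicOpen_le f) f) := RingedSpace.isUnit_res_basicOpen _ f
  obtain ⟨u, hu⟩ := hunit.pow n
  have h1 : res N hfV t = (↑u⁻¹ : Γ(X, X.basicOpen f)) • res N (X.basicOpen_le f) t₀ := by
    change res N (X.basicOpen_le f) t₀ = resf (X.basicOpen_le f) f ^ n • res N hfV t at ht₀
    rw [ht₀, ← hu, ← mul_smul, Units.inv_mul, one_smul]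
  change res N hfV t ∈ _
  rw [h1]
  refine Submodule.smul_mem _ _ ?_
  -- `t₀` is a combination of the generators
  have h0 : t₀ ∈ Submodule.span Γ(X, A x) (T x : Set Γ(N, A x)) := by
    rw [hT x]; trivial
  have h3 : res N (hB x) t₀ ∈ sspan N (S x : Set (Coh.structureModule X ⟶ N)) (B x) :=
    res_mem_sspan_of_span N (hB x) _ _ (hS x) h0
  exact res_res_mem_sspan N _ _ (hrange x hxP) (hB x) hfB t₀ h3

/-- for `L` ample and `F` quasi-coherent of finite type, `F ⊗ L^n` is a quotient of a finite free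
module for all large `n` (no Noetherian hypothesis) -/
theorem exists_finite_epi_twist (L : X.Modules) (hL : CohB1.IsAmple L) (F : X.Modules)
    [F.IsQuasicoherent] [SheafOfModules.IsFiniteType (R := X.ringCatSheaf) F]
    (hq : ∀ n, (CohB1.tensorMod F (CohB1.tensorPow L n)).IsQuasicoherent)
    (hft : ∀ n, SheafOfModules.IsFiniteType (R := X.ringCatSheaf)
      (CohB1.tensorMod F (CohB1.tensorPow L n))) :
    ∃ n₀ : ℕ, ∀ n, n₀ ≤ n →
      ∃ (k : ℕ) (q : FlatMod.freeMod X k ⟶ CohB1.tensorMod F (CohB1.tensorPow L n)), Epi q := by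
  haveI := hL.2.1
  choose V N hxV hN using exists_locGen_nhd L hL F
  obtain ⟨T, hT⟩ : ∃ T : Finset X, (Set.univ : Set X) ⊆ ⋃ x ∈ T, (V x : Set X) :=
    isCompact_univ.elim_finite_subcover (fun x => (V x : Set X)) (fun x => (V x).2)
      (fun x _ => Set.mem_iUnion.2 ⟨x, hxV x⟩)
  refine ⟨T.sup N, fun n hn => ?_⟩
  haveI := hq n
  haveI := hft n
  refine exists_finite_epi_of_locGen _ (fun y => ?_)
  obtain ⟨x, hx⟩ := Set.mem_iUnion.1 (hT (Set.mem_univ y))
  obtain ⟨hxT, hyx⟩ := Set.mem_iUnion.1 hx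
  exact ⟨V x, hyx, hN x n ((Finset.le_sup hxT).trans hn)⟩

end Groth.Agent.Lib.R2H2.FinGenQC
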