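import Mathlib
import Groth.Agent.Lib.H6xFtCohA
import Groth.Agent.Lib.R2H2AmpleRes
import Groth.Agent.Lib.R2H2FinGenQC
import Groth.Agent.Lib.Helper2TensorInv
import Groth.Agent.Lib.Helper21ModTensor5
import Groth.Agent.Lib.Helper23AmpleIso
import Groth.Agent.Lib.Helper23TensorUnit
import Groth.Agent.Lib.Helper23Restr2
import Groth.Agent.Lib.Helper23SecTw7
import Groth.Agent.Lib.Helper23QCohAbelian
import Groth.Agent.Lib.H6xResPropA
import Groth.Agent.S0016
import Groth.Agent.S0009
set_option backward.isDefEq.respectTransparency.types false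

/-!
# A scheme with an ample invertible module whose negative powers are acyclic is affine (helper6)
-/

set_option autoImplicit false
set_option linter.style.haveILetI false
set_option linter.unusedSectionVars false
universe u
open CategoryTheory CategoryTheory.Limits AlgebraicGeometry TopologicalSpace Opposite

namespace Groth.Agent.Lib.H6xFtCoh

open Groth.Agent.Lib.R2H2.HHLin Groth.Agent.Lib.R2H2.PnSerre

variable {X : Scheme.{u}}

/-- an inverse of a module is invertible -/
theorem isInvertible_of_inverse (L L' : X.Modules)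
    (e : CohB1.tensorMod L L' ≅ Coh.structureModule X) : PicF.IsInvertible L' :=
  Groth.Agent.Lib.Helper2.TensorInv.isInvertible_of_tensor_iso L' L
    (Groth.Agent.Lib.Helper21.ModTensor5.brdApp X.sheaf L' L ≪≫ e)

/-- the cohomology of `O^k ⊗ N` vanishes when that of `N` does -/
theorem subsingleton_HH_twR_freeMod (N : X.Modules) (k p : ℕ) (h : Subsingleton (Coh.HH X N p)) :
    Subsingleton (Coh.HH X ((twR N).obj (FlatMod.freeMod X k)) p) := by
  let f : Fin k → X.Modules := fun _ => Coh.structureModule X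
  let e0 : FlatMod.freeMod X k ≅ ⨁ f := (biproduct.isoCoproduct f).symm
  let e1 : (twR N).obj (⨁ f) ≅ ⨁ ((twR N).obj ∘ f) := (twR N).mapBiproduct f
  refine subsingleton_HH_of_iso ((twR N).mapIso e0 ≪≫ e1).symm p
    (subsingleton_HH_biproduct _ p (fun j => ?_))
  exact subsingleton_HH_of_iso (Groth.Agent.Lib.Helper23.TensorUnit.unitTensorIso N).symm p h

/-- `L^n ⊗ L'^n ≅ O` when `L ⊗ L' ≅ O` -/
theorem nonempty_tensorPow_inverse (L L' : X.Modules) (hL : PicF.IsInvertible L)
    (e : CohB1.tensorMod L L' ≅ Coh.structureModule X) (n : ℕ) :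
    Nonempty (CohB1.tensorMod (CohB1.tensorPow L n) (CohB1.tensorPow L' n) ≅
      Coh.structureModule X) := by
  have hL' : PicF.IsInvertible L' := isInvertible_of_inverse L L' e
  obtain ⟨e1⟩ := Groth.Agent.Lib.Helper23.SecTw.nonempty_tensorPow_tensorMod_iso L L' hL hL' n
  exact ⟨e1 ≪≫ Groth.Agent.Lib.Helper23.AmpleIso.tensorPowIso e n ≪≫
    Groth.Agent.Lib.Helper23.TensorUnit.tensorPowUnitIso n⟩

/-- key step: a finite type quasi-coherent module is a quotient of `O^k ⊗ L'^n` for `n` large -/
theorem exists_epi_twR_freeMod (L L' : X.Modules) (hL : CohB1.IsAmple L)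
    (e : CohB1.tensorMod L L' ≅ Coh.structureModule X) (n₀ : ℕ) (F : X.Modules)
    (hFq : F.IsQuasicoherent) (hFf : SheafOfModules.IsFiniteType (R := X.ringCatSheaf) F) :
    ∃ (n k : ℕ) (π : (twR (CohB1.tensorPow L' n)).obj (FlatMod.freeMod X k) ⟶ F),
      n₀ ≤ n ∧ Epi π := by
  haveI := hFq
  haveI := hFf
  have hLn : ∀ n, PicF.IsInvertible (CohB1.tensorPow L n) := fun n =>
    Groth.Agent.Lib.Helper23.SecTw.isInvertible_tensorPow hL.1 n
  have hq : ∀ n, (CohB1.tensorMod F (CohB1.tensorPow L n)).IsQuasicoherent := fun n => by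
    haveI : (CohB1.tensorPow L n).IsQuasicoherent :=
      Groth.Agent.Lib.Helper23.SecTw.isQuasicoherent_of_isInvertible _ (hLn n)
    exact Groth.Agent.Lib.Helper23.TensorQCoh.isQuasicoherent_tensorMod F _
  have hft : ∀ n, SheafOfModules.IsFiniteType (R := X.ringCatSheaf)
      (CohB1.tensorMod F (CohB1.tensorPow L n)) := fun n => by
    haveI : (CohB1.tensorPow L n).IsQuasicoherent :=
      Groth.Agent.Lib.Helper23.SecTw.isQuasicoherent_of_isInvertible _ (hLn n)
    haveI : SheafOfModules.IsFiniteType (R := X.ringCatSheaf) (CohB1.tensorPow L n) :=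
      Groth.Agent.Lib.R2H2.PnFinite.isFiniteType_of_isInvertible _ (hLn n)
    exact Groth.Agent.Lib.Helper23.TensorQCoh.isFiniteType_tensorMod F _
  obtain ⟨n₁, hn₁⟩ := Groth.Agent.Lib.R2H2.FinGenQC.exists_finite_epi_twist L hL F hq hft
  obtain ⟨k, q, hqe⟩ := hn₁ (max n₀ n₁) (le_max_right _ _)
  have hL' : PicF.IsInvertible L' := isInvertible_of_inverse L L' e
  have hN : PicF.IsInvertible (CohB1.tensorPow L' (max n₀ n₁)) :=
    Groth.Agent.Lib.Helper23.SecTw.isInvertible_tensorPow hL' _
  obtain ⟨en⟩ := nonempty_tensorPow_inverse L L' hL.1 e (max n₀ n₁)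
  haveI := hqe
  haveI := Groth.Agent.Lib.R2H2.AmpleRes.epi_twR_map _ hN q
  exact ⟨max n₀ n₁, k, (twR _).map q ≫
    (Groth.Agent.Lib.R2H2.AmpleRes.cancelIso F (CohB1.tensorPow L (max n₀ n₁)) _ en).hom,
    le_max_left _ _, epi_comp _ _⟩

theorem isQuasicoherent_twR_freeMod (N : X.Modules) (hN : PicF.IsInvertible N) (k : ℕ) :
    ((twR N).obj (FlatMod.freeMod X k)).IsQuasicoherent :=
  Groth.Agent.Lib.H6xResProp.isQuasicoherent_of_isFinLocFree _
    (Groth.Agent.Lib.R2H2.AmpleRes.isFinLocFree_twR_freeMod N hN k)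

/-- **a scheme with an ample invertible module whose negative powers are acyclic is affine** -/
theorem isAffine_of_vanishing (X : Scheme.{u}) (L L' : X.Modules) (hL : CohB1.IsAmple L)
    (hinv : Nonempty (CohB1.tensorMod L L' ≅ Coh.structureModule X)) (n₀ : ℕ)
    (h : ∀ n : ℕ, n₀ ≤ n → ∀ p : ℕ, 0 < p → Subsingleton (Coh.HH X (CohB1.tensorPow L' n) p)) :
    IsAffine X := by
  obtain ⟨e⟩ := hinv
  haveI : CompactSpace X := hL.2.1
  haveI : X.IsSeparated := Groth.Agent.Lib.Helper23.SecTw.isSeparated_of_isAmple L hL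
  haveI : QuasiSeparatedSpace X := Groth.Agent.Lib.Helper23.SecTw.quasiSeparatedSpace_of_isAmple L hL
  obtain ⟨ι, hfin, U, hcov, hU⟩ := exists_cover X
  haveI := hfin
  obtain ⟨d, hd⟩ := Groth.Agent.S0016.result X
  have hL' : PicF.IsInvertible L' := isInvertible_of_inverse L L' e
  have key : ∀ (k p : ℕ), 0 < p → d ≤ p + k → ∀ G : X.Modules, G.IsQuasicoherent →
      Subsingleton (Coh.HH X G p) := by
    intro k
    induction k with
    | zero =>
      intro p _ hp G hG
      exact hd G hG p (by omega)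
    | succ k ih =>
      intro p hp0 hp G hG
      refine subsingleton_HH_of_ft U hcov hU p (fun F hFq hFf => ?_) G hG
      obtain ⟨n, r, π, hn, hπ⟩ := exists_epi_twR_freeMod L L' hL e n₀ F hFq hFf
      haveI := hπ
      have hN : PicF.IsInvertible (CohB1.tensorPow L' n) :=
        Groth.Agent.Lib.Helper23.SecTw.isInvertible_tensorPow hL' _
      haveI : ((twR (CohB1.tensorPow L' n)).obj (FlatMod.freeMod X r)).IsQuasicoherent :=
        isQuasicoherent_twR_freeMod _ hN r
      haveI := hFq
      let S : ShortComplex X.Modules := ShortComplex.mk (kernel.ι π) π (kernel.condition π)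
      have hS : S.ShortExact := Groth.Agent.Lib.Helper17.Res.kernel_shortExact π
      have hK : (kernel π).IsQuasicoherent :=
        Groth.Agent.Lib.Helper23.QCohLocal.isQuasicoherent_kernel π
      have h1 : Subsingleton (Coh.HH X S.X₁ (p + 1)) := ih (p + 1) (by omega) (by omega) _ hK
      have h2 : Subsingleton (Coh.HH X S.X₂ p) :=
        subsingleton_HH_twR_freeMod _ r p (h n hn p hp0)
      refine subsingleton_of_forall_eq 0 fun x => ?_
      obtain ⟨y, hy⟩ := exact₃ S hS p x (Subsingleton.elim _ _)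
      rw [← hy, Subsingleton.elim y 0, map_zero]
  exact Groth.Agent.S0009.result X (fun I _ _ hI => key d 1 one_pos (by omega) I hI)

end Groth.Agent.Lib.H6xFtCoh
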