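import Mathlib
import Groth.Prelude.Def_Red2
import Groth.Agent.Lib.Helper27GaGm

/-!
# `Hom(𝔾_a, 𝔾_m) = 1` over a reduced base (helper6)
-/

set_option autoImplicit false
universe u

open CategoryTheory AlgebraicGeometry MonObj CartesianMonoidalCategory Polynomial
open Groth.Agent.Lib.Helper27.GaGm

namespace Groth.Agent.Lib.H6xGaGmHom

section Prelim

lemma specMap_appTop_inv {A B : Type u} [CommRing A] [CommRing B] (ψ : A →+* B) (a : A) :
    (Spec.map (CommRingCat.ofHom ψ)).appTop ((Scheme.ΓSpecIso (CommRingCat.of A)).inv a) =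
      (Scheme.ΓSpecIso (CommRingCat.of B)).inv (ψ a) := by
  have h := fn_specMap (𝟙 (Spec (CommRingCat.of B))) ψ a
  rw [Category.id_comp] at h
  unfold fn at h
  rw [h]
  simp

/-- sections agreeing on an open cover agree -/
lemma eq_of_cover {X : Scheme.{u}} {J : Type*} (W : J → X.Opens) (hW : ⨆ i, W i = ⊤)
    (f g : Γ(X, ⊤)) (h : ∀ i, (W i).ι.appTop f = (W i).ι.appTop g) : f = g := by
  refine X.sheaf.eq_of_locally_eq' (fun i => (W i).ι ''ᵁ ⊤) ⊤ (fun i => homOfLE le_top) ?_ f g ?_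
  · rw [← hW]
    apply iSup_mono
    intro i
    rw [Scheme.Opens.ι_image_top]
  · intro i
    exact h i

end Prelim

variable {S : Scheme.{u}} (φ : Red.Ga S ⟶ Red.Gm S) [IsMonHom φ]

section Affine

variable {R : Type u} [CommRing R] (ιU : Spec (CommRingCat.of R) ⟶ S)

/-- the affine line over `Spec R`, as an `S`-scheme -/
noncomputable def lineOver : Over S :=
  Over.mk (Spec.map (CommRingCat.ofHom (C : R →+* R[X])) ≫ ιU)

/-- the coordinate point of the affine line -/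
noncomputable def tPt : lineOver ιU ⟶ Red.Ga S :=
  (gaEquiv (lineOver ιU)).symm ((Scheme.ΓSpecIso (CommRingCat.of R[X])).inv X)

lemma gaFn_tPt : Red.gaFn (tPt ιU) = (Scheme.ΓSpecIso (CommRingCat.of R[X])).inv X :=
  gaFn_gaEquiv_symm _

lemma gmFn_tPt_comp [IsReduced R] : Red.gmFn (tPt ιU ≫ φ) = 1 := by
  let e := Scheme.ΓSpecIso (CommRingCat.of R[X])
  have hinv : ∀ s : Γ(Spec (CommRingCat.of R[X]), ⊤), e.inv (e.hom s) = s := fun s => by
    exact congrArg (fun k => k.hom s) e.hom_inv_id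
  set s := Red.gmFn (tPt ιU ≫ φ) with hs
  have hsu : IsUnit (s : Γ(Spec (CommRingCat.of R[X]), ⊤)) := gmFn_isUnit (tPt ιU ≫ φ)
  have hfu : IsUnit (e.hom s) := hsu.map e.hom.hom
  have hf2 : e.hom s = C ((e.hom s).coeff 0) := by
    rw [Polynomial.isUnit_iff_coeff_isUnit_isNilpotent] at hfu
    ext i
    rcases i with _ | i
    · simp
    · have := hfu.2 (i + 1) (by omega)
      rw [coeff_C_succ]
      exact this.eq_zero
  -- the zero section
  let z₀ : Spec (CommRingCat.of R) ⟶ Spec (CommRingCat.of R[X]) :=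
    Spec.map (CommRingCat.ofHom (evalRingHom (0 : R)))
  have hz₀ : z₀ ≫ Spec.map (CommRingCat.ofHom (C : R →+* R[X])) = 𝟙 _ := by
    rw [← Spec.map_comp, ← CommRingCat.ofHom_comp]
    have : (evalRingHom (0 : R)).comp C = RingHom.id R := by ext; simp
    rw [this]
    exact Spec.map_id _
  let z : Over.mk ιU ⟶ lineOver ιU := Over.homMk z₀ (by
    change z₀ ≫ (Spec.map _ ≫ ιU) = ιU
    rw [← Category.assoc, hz₀, Category.id_comp])
  have h1 : z ≫ tPt ιU = 1 := by
    apply gaFn_injective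
    rw [gaFn_comp, gaFn_one, gaFn_tPt]
    change z₀.appTop _ = 0
    rw [specMap_appTop_inv]
    simp
  have h2 : Red.gmFn (z ≫ tPt ιU ≫ φ) = 1 := by
    rw [← Category.assoc, h1, MonObj.one_comp φ, gmFn_one]
  rw [gmFn_comp] at h2
  change z₀.appTop s = 1 at h2
  rw [← hinv s, hf2, specMap_appTop_inv] at h2
  simp only [coe_evalRingHom, eval_C] at h2
  have h3 : (e.hom s).coeff 0 = 1 := by
    have := congrArg (Scheme.ΓSpecIso (CommRingCat.of R)).hom h2
    rw [map_one] at this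
    have h4 : (Scheme.ΓSpecIso (CommRingCat.of R)).hom
        ((Scheme.ΓSpecIso (CommRingCat.of R)).inv ((e.hom s).coeff 0)) = (e.hom s).coeff 0 :=
      congrArg (fun k => k.hom ((e.hom s).coeff 0)) (Scheme.ΓSpecIso (CommRingCat.of R)).inv_hom_id
    rw [h4] at this
    exact this
  calc s = e.inv (e.hom s) := (hinv s).symm
    _ = e.inv 1 := by rw [hf2, h3, map_one]
    _ = 1 := map_one _

lemma gmFn_comp_eq_one_of_factor [IsReduced R] {Y : Over S} (h : Y.left ⟶ Spec (CommRingCat.of R))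
    (hh : h ≫ ιU = Y.hom) (x : Y ⟶ Red.Ga S) : Red.gmFn (x ≫ φ) = 1 := by
  let ψ : R[X] →+* Γ(Y.left, ⊤) := eval₂RingHom (fnHom h) (Red.gaFn x)
  obtain ⟨g₀, hg₀⟩ := fn_surj ψ
  have hg1 : g₀ ≫ Spec.map (CommRingCat.ofHom (C : R →+* R[X])) = h := by
    apply fn_ext
    intro a
    rw [fn_specMap, hg₀]
    simp only [ψ, coe_eval₂RingHom, eval₂_C]
    rfl
  let g : Y ⟶ lineOver ιU := Over.homMk g₀ (by
    change g₀ ≫ (Spec.map _ ≫ ιU) = Y.hom
    rw [← Category.assoc, hg1, hh])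
  have hx : g ≫ tPt ιU = x := by
    apply gaFn_injective
    rw [gaFn_comp, gaFn_tPt]
    change fn g₀ X = _
    rw [hg₀]
    simp [ψ]
  rw [← hx, Category.assoc, gmFn_comp, gmFn_tPt_comp, map_one]

end Affine

theorem main [IsReduced S] : φ = 1 := by
  apply gmFn_injective
  rw [gmFn_one]
  apply eq_of_cover (fun U : S.affineOpens => (Red.Ga S).hom ⁻¹ᵁ U.1)
  · rw [← Scheme.Hom.preimage_iSup, iSup_affineOpens_eq_top]
    rfl
  · intro U
    rw [map_one]
    let W := (Red.Ga S).hom ⁻¹ᵁ U.1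
    let XU : Over S := Over.mk (W.ι ≫ (Red.Ga S).hom)
    let j : XU ⟶ Red.Ga S := Over.homMk W.ι rfl
    have h1 : Red.gmFn (j ≫ φ) = W.ι.appTop (Red.gmFn φ) := gmFn_comp j φ
    rw [← h1]
    haveI : IsReduced Γ(S, U.1) := inferInstance
    refine gmFn_comp_eq_one_of_factor φ U.2.fromSpec
      (((Red.Ga S).hom ∣_ U.1) ≫ U.2.isoSpec.hom) ?_ j
    rw [Category.assoc, IsAffineOpen.isoSpec_hom_fromSpec, morphismRestrict_ι]
    rfl

end Groth.Agent.Lib.H6xGaGmHom
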