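import Mathlib
import Groth.Prelude.Def_W4c5qcohlocdualityLoc
import Groth.Agent.Lib.H6xEssC
set_option backward.isDefEq.respectTransparency.types false

/-!
# Localizing closure: basic facts (helper6)

* `isLocalizing_locClosure`: the localizing closure is localizing;
* `subquotCoprod_le`: a localizing class containing `P` contains the subquotients of coproducts of
  objects of `P`;
* `isLocalizing_homZero`: objects without nonzero morphisms to a given injective object form a
  localizing class;
* `exists_subquot_sub`: a nonzero object of the localizing closure of `P` has a nonzero subobject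
  which is a subquotient of an object of `P`.
-/

set_option autoImplicit false
set_option linter.style.haveILetI false
universe w v u

namespace Groth.Agent.Lib.H6xGabLoc

open CategoryTheory CategoryTheory.Limits Category ZeroObject
open Groth.Agent.Lib.H6xEss

variable {C : Type u} [Category.{v} C] [Abelian C]

lemma le_locClosure (P : ObjectProperty C) : P ≤ GabLoc.locClosure.{w} P :=
  fun X hX _ _ hPQ => hPQ X hX

lemma locClosure_le (P Q : ObjectProperty C) (hQ : GabLoc.IsLocalizing.{w} Q) (hPQ : P ≤ Q) :
    GabLoc.locClosure.{w} P ≤ Q :=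
  fun X hX => hX Q hQ hPQ

theorem isLocalizing_locClosure (P : ObjectProperty C) :
    GabLoc.IsLocalizing.{w} (GabLoc.locClosure.{w} P) where
  isSerreClass :=
    { exists_zero := ⟨0, isZero_zero _, fun Q hQ _ => by
        haveI := hQ.isSerreClass
        exact Q.prop_zero⟩
      prop_of_mono := fun f _ hY Q hQ hPQ => by
        haveI := hQ.isSerreClass
        exact Q.prop_of_mono f (hY Q hQ hPQ)
      prop_of_epi := fun f _ hX Q hQ hPQ => by
        haveI := hQ.isSerreClass
        exact Q.prop_of_epi f (hX Q hQ hPQ)
      prop_X₂_of_shortExact := fun hS h₁ h₃ Q hQ hPQ => by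
        haveI := hQ.isSerreClass
        exact Q.prop_X₂_of_shortExact hS (h₁ Q hQ hPQ) (h₃ Q hQ hPQ) }
  isClosedUnderCoproducts := fun J =>
    { colimitsOfShape_le := by
        rintro X ⟨h⟩ Q hQ hPQ
        haveI := hQ.isClosedUnderCoproducts J
        exact Q.prop_of_isColimit h.isColimit (fun j => h.prop_diag_obj j Q hQ hPQ) }

/-- a localizing class is closed under coproducts -/
lemma prop_sigma [HasCoproducts.{w} C] (Q : ObjectProperty C) (hQ : GabLoc.IsLocalizing.{w} Q)
    {J : Type w} (X : J → C) (hX : ∀ j, Q (X j)) : Q (∐ X) := by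
  haveI := hQ.isClosedUnderCoproducts J
  exact Q.prop_colimit (Discrete.functor X) (fun j => hX j.as)

/-- a localizing class containing `P` contains all subquotients of coproducts of objects of `P` -/
theorem subquotCoprod_le [HasCoproducts.{w} C] (P Q : ObjectProperty C)
    (hQ : GabLoc.IsLocalizing.{w} Q) (hPQ : P ≤ Q) : GabLoc.subquotCoprod.{w} P ≤ Q := by
  rintro A ⟨J, X, hX, B, i, p, hi, hp⟩
  haveI := hQ.isSerreClass
  have h1 : Q (∐ X) := prop_sigma Q hQ X (fun j => hPQ _ (hX j))
  exact Q.prop_of_epi p (Q.prop_of_mono i h1)

/-- objects with no nonzero morphism to a given injective object form a localizing class -/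
theorem isLocalizing_homZero (E : C) [Injective E] :
    GabLoc.IsLocalizing.{w} (fun Y : C => ∀ f : Y ⟶ E, f = 0) where
  isSerreClass :=
    { exists_zero := ⟨0, isZero_zero _, fun f => (isZero_zero C).eq_of_src _ _⟩
      prop_of_mono := fun {X Y} f _ hY g => by
        obtain ⟨h, hh⟩ := Injective.factors g f
        rw [← hh, hY h, comp_zero]
      prop_of_epi := fun {X Y} f _ hX g => by
        rw [← cancel_epi f, hX (f ≫ g), comp_zero]
      prop_X₂_of_shortExact := fun {S} hS h₁ h₃ g => by
        haveI := hS.epi_g
        have h1 : S.f ≫ g = 0 := h₁ _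
        obtain ⟨k, hk⟩ : ∃ k : S.X₃ ⟶ E, S.g ≫ k = g := ⟨hS.exact.desc g h1, hS.exact.g_desc g h1⟩
        rw [← hk, h₃ k, comp_zero] }
  isClosedUnderCoproducts := fun J =>
    { colimitsOfShape_le := by
        rintro X ⟨h⟩ g
        apply h.isColimit.hom_ext
        intro j
        have := h.prop_diag_obj j (h.ι.app j ≫ g)
        rw [comp_zero]
        exact this }

end Groth.Agent.Lib.H6xGabLoc
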