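import Mathlib
import Groth.Agent.Lib.H6xGabLocA
set_option backward.isDefEq.respectTransparency.types false

/-!
# Localizing closure: nonzero objects have nonzero subquotient subobjects (helper6)

* `exists_subquot_sub`: a nonzero object of the localizing closure of `P` has a nonzero subobject
  which is a subquotient of an object of `P`;
* `exists_larger_subobject`: a proper subobject `A` of an object of the localizing closure of `P`
  is strictly contained in a subobject `A'` with `A'/A` a subquotient of an object of `P`.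
-/

set_option autoImplicit false
set_option linter.style.haveILetI false
universe w v u

namespace Groth.Agent.Lib.H6xGabLoc

open CategoryTheory CategoryTheory.Limits Category ZeroObject
open Groth.Agent.Lib.H6xEss

variable {C : Type u} [Category.{v} C] [Abelian C]

section

variable [HasCoproducts.{w} C]

lemma subquotCoprod_of_iso (P : ObjectProperty C) {A A' : C} (e : A ≅ A')
    (h : GabLoc.subquotCoprod.{w} P A) : GabLoc.subquotCoprod.{w} P A' := by
  obtain ⟨J, X, hX, B, i, p, hi, hp⟩ := h
  exact ⟨J, X, hX, B, i, p ≫ e.hom, hi, epi_comp _ _⟩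

lemma subquotCoprod_of_isZero (P : ObjectProperty C) {A : C} (hA : IsZero A) :
    GabLoc.subquotCoprod.{w} P A := by
  refine ⟨PEmpty.{w + 1}, fun j => j.elim, fun j => j.elim, 0, 0, 0, ?_, ?_⟩
  · exact ⟨fun _ _ _ => (isZero_zero C).eq_of_tgt _ _⟩
  · exact ⟨fun _ _ _ => hA.eq_of_src _ _⟩

/-- a subobject of a quotient of an object of `P` is a subquotient of a coproduct of objects of
`P` -/
lemma subquotCoprod_of_sub_quot (P : ObjectProperty C) {Y I B : C} (hY : P Y) (e : Y ⟶ I) [Epi e]
    (u : B ⟶ I) [Mono u] : GabLoc.subquotCoprod.{w} P B := by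
  refine ⟨PUnit.{w + 1}, fun _ => Y, fun _ => hY, pullback u e,
    pullback.snd u e ≫ Sigma.ι (fun _ : PUnit.{w + 1} => Y) PUnit.unit, pullback.fst u e, ?_, ?_⟩
  · exact mono_comp _ _
  · infer_instance

lemma monoModSubquot_respectsIso (P : ObjectProperty C) :
    (GabLoc.monoModSubquot.{w} P).RespectsIso := by
  apply MorphismProperty.RespectsIso.of_respects_arrow_iso
  rintro f g e ⟨hm, hc⟩
  have h1 : f.hom ≫ e.hom.right = e.hom.left ≫ g.hom := e.hom.w.symm
  have h2 : g.hom = e.inv.left ≫ f.hom ≫ e.hom.right := by
    rw [h1, ← assoc, ← Arrow.comp_left, e.inv_hom_id, Arrow.id_left, id_comp]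
  refine ⟨?_, ?_⟩
  · rw [h2]
    haveI := hm
    exact mono_comp _ _
  · refine subquotCoprod_of_iso P ?_ hc
    exact cokernel.mapIso f.hom g.hom (Arrow.leftFunc.mapIso e) (Arrow.rightFunc.mapIso e) h1

end

variable [IsGrothendieckAbelian.{w} C]

/-- a nonzero object of the localizing closure of `P` has a nonzero subobject which is a
subquotient of an object of `P` -/
theorem exists_subquot_sub (P : ObjectProperty C) (Z : C)
    (hZ : GabLoc.locClosure.{w} P Z) (hZ0 : ¬ IsZero Z) :
    ∃ (B : C) (b : B ⟶ Z), Mono b ∧ ¬ IsZero B ∧ GabLoc.subquotCoprod.{w} P B := by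
  by_contra hcon
  push Not at hcon
  obtain ⟨E, i, hE, hess⟩ := exists_isEss_injective Z
  haveI := hE
  haveI := hess.mono
  have hP : P ≤ (fun Y : C => ∀ f : Y ⟶ E, f = 0) := by
    intro Y hY f
    by_contra hf
    let I : Subobject E := imageSubobject f
    let Zs : Subobject E := Subobject.mk i
    have hI : I ≠ ⊥ := by
      intro h
      apply hf
      have h0 : I.arrow = 0 := by rw [h]; exact Subobject.bot_arrow
      rw [← imageSubobject_arrow_comp f]
      change _ ≫ I.arrow = 0
      rw [h0, comp_zero]
    have hIZ : Zs ⊓ I ≠ ⊥ := by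
      intro h
      have hm : Mono (Zs.arrow ≫ cokernel.π I.arrow) :=
        mono_comp_of_inf_eq_bot I Zs (by rw [inf_comm]; exact h)
      have hm2 : Mono (i ≫ cokernel.π I.arrow) := by
        have h3 : i = (Subobject.underlyingIso i).inv ≫ Zs.arrow := by
          rw [Iso.eq_inv_comp]
          exact Subobject.underlyingIso_hom_comp_eq_mk i
        rw [h3, assoc]
        exact mono_comp _ _
      haveI := hess.ess _ hm2
      apply hI
      apply eq_bot_of_arrow_eq_zero
      rw [← cancel_mono (cokernel.π I.arrow), cokernel.condition, zero_comp]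
    refine hcon ((Zs ⊓ I : Subobject E) : C)
      (Subobject.ofLE _ _ inf_le_left ≫ (Subobject.underlyingIso i).hom) (mono_comp _ _) ?_ ?_
    · intro h0
      apply hIZ
      apply eq_bot_of_arrow_eq_zero
      exact h0.eq_of_src _ _
    · exact subquotCoprod_of_sub_quot P hY (factorThruImageSubobject f)
        (Subobject.ofLE (Zs ⊓ I) I inf_le_right)
  have h0 : i = 0 := locClosure_le P _ (isLocalizing_homZero E) hP Z hZ i
  exact hZ0 (IsZero.of_mono_eq_zero i h0)

/-- a proper subobject `A` of an object of the localizing closure of `P` is strictly contained in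
a subobject `A'` with `A'/A` a subquotient of an object of `P` -/
theorem exists_larger_subobject (P : ObjectProperty C) {X : C}
    (hX : GabLoc.locClosure.{w} P X) (A : Subobject X) (hA : A ≠ ⊤) :
    ∃ (A' : Subobject X) (h : A < A'),
      GabLoc.monoModSubquot.{w} P (Subobject.ofLE A A' h.le) := by
  let π : X ⟶ cokernel A.arrow := cokernel.π A.arrow
  have hloc := (isLocalizing_locClosure.{w} P).isSerreClass
  have hZ : GabLoc.locClosure.{w} P (cokernel A.arrow) :=
    (GabLoc.locClosure.{w} P).prop_of_epi π hX
  have hZ0 : ¬ IsZero (cokernel A.arrow) := by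
    intro h0
    apply hA
    haveI : Epi A.arrow := Preadditive.epi_of_cokernel_zero (h0.eq_of_tgt _ _)
    haveI : IsIso A.arrow := isIso_of_mono_of_epi _
    exact Subobject.eq_top_of_isIso_arrow A
  obtain ⟨B, b, hb, hB0, hB⟩ := exists_subquot_sub P _ hZ hZ0
  let Y : C := pullback b π
  let s : Y ⟶ X := pullback.snd b π
  let t : Y ⟶ B := pullback.fst b π
  have hst : t ≫ b = s ≫ π := pullback.condition
  let a : (A : C) ⟶ Y := pullback.lift 0 A.arrow (by rw [zero_comp, cokernel.condition])
  have has : a ≫ s = A.arrow := pullback.lift_snd _ _ _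
  have hat : a ≫ t = 0 := pullback.lift_fst _ _ _
  haveI : Mono a := mono_of_mono_fac has
  -- `A ⟶ Y ⟶ B` is short exact
  let S : ShortComplex C := ShortComplex.mk a t hat
  have hS : S.Exact := by
    rw [ShortComplex.exact_iff_exact_up_to_refinements]
    intro W y hy
    change y ≫ t = 0 at hy
    have h1 : (y ≫ s) ≫ cokernel.π A.arrow = 0 := by
      rw [assoc]
      change y ≫ s ≫ π = 0
      rw [← hst, ← assoc, hy, zero_comp]
    refine ⟨W, 𝟙 W, inferInstance, Abelian.monoLift A.arrow (y ≫ s) h1, ?_⟩
    change 𝟙 W ≫ y = _ ≫ a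
    rw [id_comp, ← cancel_mono s, assoc, has, Abelian.monoLift_comp]
  haveI : Epi S.g := inferInstanceAs (Epi (pullback.fst b π))
  have eB : cokernel a ≅ B :=
    IsColimit.coconePointUniqueUpToIso (colimit.isColimit _) hS.gIsCokernel
  let A' : Subobject X := Subobject.mk s
  have hle : A ≤ A' := Subobject.le_mk_of_comm a has
  have hofLE : Subobject.ofLE A A' hle ≫ (Subobject.underlyingIso s).hom = a := by
    rw [← cancel_mono s, assoc, Subobject.underlyingIso_hom_comp_eq_mk, Subobject.ofLE_arrow, has]
  have hW : GabLoc.monoModSubquot.{w} P (Subobject.ofLE A A' hle) := by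
    refine ⟨inferInstance, ?_⟩
    refine subquotCoprod_of_iso P ?_ hB
    refine eB.symm ≪≫ (cokernel.mapIso (Subobject.ofLE A A' hle) a (Iso.refl _)
      (Subobject.underlyingIso s) ?_).symm
    rw [hofLE]
    exact (id_comp _).symm
  have hne : A ≠ A' := by
    intro h
    apply hB0
    have h1 : IsIso (Subobject.ofLE A A' hle) := by
      have : Subobject.ofLE A A' hle = (Subobject.isoOfEq A A' h).hom := rfl
      rw [this]
      infer_instance
    have h2 : IsIso a := by
      rw [← hofLE]
      infer_instance
    have h3 : IsZero (cokernel a) := by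
      haveI := h2
      exact isZero_cokernel_of_epi a
    exact IsZero.of_iso h3 eB.symm
  exact ⟨A', lt_of_le_of_ne hle hne, hW⟩

end Groth.Agent.Lib.H6xGabLoc
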