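import Mathlib
import Groth.Agent.Lib.H6xGabLocC
set_option backward.isDefEq.respectTransparency.types false

/-!
# Localizing closure and transfinite filtrations (helper6)

`locClosure_iff`: an object `X` of a Grothendieck abelian category belongs to the localizing closure
of `P` iff `0 ⟶ X` is a transfinite composition of monomorphisms whose cokernels are subquotients
of coproducts of objects of `P`.
-/

set_option autoImplicit false
set_option linter.style.haveILetI false
universe w v u

namespace Groth.Agent.Lib.H6xGabLoc

open CategoryTheory CategoryTheory.Limits Category ZeroObject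

variable {C : Type u} [Category.{v} C] [Abelian C]

/-- a localizing class is closed under small colimits -/
lemma prop_of_isColimit_of_isLocalizing [HasCoproducts.{w} C] (Q : ObjectProperty C)
    (hQ : GabLoc.IsLocalizing.{w} Q) {K : Type w} [Category.{w} K] {F : K ⥤ C} (c : Cocone F)
    (hc : IsColimit c) (hF : ∀ k, Q (F.obj k)) : Q c.pt := by
  haveI := hQ.isSerreClass
  have h1 : Q (∐ F.obj) := prop_sigma Q hQ F.obj hF
  haveI : Epi (Sigma.desc (fun k => c.ι.app k)) := by
    refine ⟨fun g₁ g₂ h => hc.hom_ext (fun k => ?_)⟩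
    have := Sigma.ι F.obj k ≫= h
    simpa using this
  exact Q.prop_of_epi (Sigma.desc (fun k => c.ι.app k)) h1

variable [IsGrothendieckAbelian.{w} C]

section Backward

variable (P Q : ObjectProperty C) (hQ : GabLoc.IsLocalizing.{w} Q) (hPQ : P ≤ Q)
  {J : Type w} [LinearOrder J] [SuccOrder J] [OrderBot J] [WellFoundedLT J] {X : C}
  (h : (GabLoc.monoModSubquot.{w} P).TransfiniteCompositionOfShape J (0 : (0 : C) ⟶ X))

include hQ hPQ in
lemma prop_F_obj (j : J) : Q (h.F.obj j) := by
  haveI := hQ.isSerreClass
  induction j using SuccOrder.limitRecOn with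
  | isMin j hj =>
    obtain rfl := hj.eq_bot
    exact Q.prop_of_iso h.isoBot.symm Q.prop_zero
  | succ j hj hj' =>
    obtain ⟨hm, hc⟩ := h.map_mem j hj
    let g := h.F.map (homOfLE (Order.le_succ j))
    haveI : Mono g := hm
    let S : ShortComplex C := ShortComplex.mk g (cokernel.π g) (cokernel.condition g)
    have hS : S.ShortExact :=
      { exact := ShortComplex.exact_cokernel g
        mono_f := hm
        epi_g := inferInstanceAs (Epi (cokernel.π g)) }
    exact Q.prop_X₂_of_shortExact hS hj' (subquotCoprod_le P Q hQ hPQ _ hc)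
  | isSuccLimit j hj hj' =>
    exact prop_of_isColimit_of_isLocalizing Q hQ _
      (h.F.isColimitOfIsWellOrderContinuous j hj) (fun k => hj' k.1 k.2)

include hQ hPQ h in
lemma prop_of_transfiniteCompositionOfShape : Q X :=
  prop_of_isColimit_of_isLocalizing Q hQ _ h.isColimit (fun j => prop_F_obj P Q hQ hPQ h j)

end Backward

lemma monoModSubquot_of_isIso (P : ObjectProperty C) {A B : C} (f : A ⟶ B) [IsIso f] :
    GabLoc.monoModSubquot.{w} P f :=
  ⟨inferInstance, subquotCoprod_of_isZero P (isZero_cokernel_of_epi f)⟩

lemma monoModSubquot_ofLE_of_eq (P : ObjectProperty C) {X : C} (A A' B' : Subobject X)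
    (h : A ≤ A') (h' : A ≤ B') (e : A' = B')
    (hW : GabLoc.monoModSubquot.{w} P (Subobject.ofLE A A' h)) :
    GabLoc.monoModSubquot.{w} P (Subobject.ofLE A B' h') := by
  subst e
  exact hW

open Classical in
/-- the chosen larger subobject -/
noncomputable def larger (P : ObjectProperty C) {X : C} (hX : GabLoc.locClosure.{w} P X)
    (A : Subobject X) : Subobject X :=
  if hA : A = ⊤ then ⊤ else (exists_larger_subobject P hX A hA).choose

lemma larger_top (P : ObjectProperty C) {X : C} (hX : GabLoc.locClosure.{w} P X) :
    larger P hX ⊤ = ⊤ := dif_pos rfl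

lemma larger_of_ne (P : ObjectProperty C) {X : C} (hX : GabLoc.locClosure.{w} P X)
    (A : Subobject X) (hA : A ≠ ⊤) :
    larger P hX A = (exists_larger_subobject P hX A hA).choose := dif_neg hA

lemma lt_larger (P : ObjectProperty C) {X : C} (hX : GabLoc.locClosure.{w} P X)
    (A : Subobject X) (hA : A ≠ ⊤) : A < larger P hX A := by
  rw [larger_of_ne P hX A hA]
  exact (exists_larger_subobject P hX A hA).choose_spec.choose

lemma monoModSubquot_larger (P : ObjectProperty C) {X : C} (hX : GabLoc.locClosure.{w} P X)
    (A : Subobject X) (h : A ≤ larger P hX A) :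
    GabLoc.monoModSubquot.{w} P (Subobject.ofLE A (larger P hX A) h) := by
  by_cases hA : A = ⊤
  · subst hA
    have h1 : IsIso (Subobject.ofLE ⊤ (larger P hX ⊤) h) := by
      have : Subobject.ofLE ⊤ (larger P hX ⊤) h =
          (Subobject.isoOfEq _ _ (larger_top P hX).symm).hom := rfl
      rw [this]
      infer_instance
    exact monoModSubquot_of_isIso P _
  · exact monoModSubquot_ofLE_of_eq P A _ _ _ h (larger_of_ne P hX A hA).symm
      (exists_larger_subobject P hX A hA).choose_spec.choose_spec

/-- **Main theorem**: membership in the localizing closure in terms of transfinite filtrations -/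
theorem locClosure_iff (P : ObjectProperty C) (X : C) :
    GabLoc.locClosure.{w} P X ↔
      MorphismProperty.transfiniteCompositions.{w} (GabLoc.monoModSubquot.{w} P)
        (0 : (0 : C) ⟶ X) := by
  rw [MorphismProperty.transfiniteCompositions_iff]
  constructor
  · intro hX
    haveI : Mono (0 : (0 : C) ⟶ X) := ⟨fun _ _ _ => (isZero_zero C).eq_of_tgt _ _⟩
    obtain ⟨J, i1, i2, i3, i4, ⟨h⟩⟩ :=
      Iter.exists_transfiniteCompositionOfShape (larger P hX) (lt_larger P hX) (larger_top P hX)
        (0 : (0 : C) ⟶ X) (GabLoc.monoModSubquot.{w} P)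
        (fun A => monoModSubquot_larger P hX A _)
    exact ⟨J, i1, i3, i2, i4, ⟨h⟩⟩
  · rintro ⟨J, i1, i2, i3, i4, ⟨h⟩⟩ Q hQ hPQ
    exact prop_of_transfiniteCompositionOfShape P Q hQ hPQ h

end Groth.Agent.Lib.H6xGabLoc
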