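import Mathlib
import Groth.Agent.Lib.H6xGamAcF
set_option backward.isDefEq.respectTransparency.types false

/-!
# `Rf_* ⋙ RΓ(Y, -) ≅ RΓ(X, -)` (helper6)
-/

set_option autoImplicit false
set_option linter.style.haveILetI false
universe u
open CategoryTheory CategoryTheory.Limits AlgebraicGeometry TopologicalSpace Opposite

attribute [local instance] HasDerivedCategory.standard

namespace Groth.Agent.Lib.H6xGamAc

open Groth.Agent.Lib.Helper17.KInj Groth.Agent.Lib.H6xMV Groth.Agent.Lib.H6xRpushRes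
  Groth.Agent.Lib.H6xDerAdj

variable {X Y : Scheme.{u}} (f : X ⟶ Y) [DCoh.HasRpush f] [DCoh.HasRΓ X] [DCoh.HasRΓ Y]

/-- the functor whose right derived functor is `Rf_* ⋙ RΓ(Y, -)` -/
noncomputable abbrev F₁ : CochainComplex X.Modules ℤ ⥤ DerivedCategory AddCommGrpCat.{u} :=
  pushC f ⋙ (gamC Y ⋙ DerivedCategory.Q)

/-- the unit for `Rf_* ⋙ RΓ(Y, -)` -/
noncomputable def α₁ : F₁ f ⟶ DerivedCategory.Q ⋙ (DCoh.Rpush f ⋙ DCoh.RΓ Y) :=
  Functor.whiskerLeft _ (γΓ Y) ≫ (Functor.associator _ _ _).inv ≫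
    Functor.whiskerRight (βf f) (DCoh.RΓ Y) ≫ (Functor.associator _ _ _).hom

lemma isInvertedBy_F₁ :
    (HomologicalComplex.homotopyEquivalences X.Modules (ComplexShape.up ℤ)).IsInvertedBy
      (F₁ f) := by
  rintro K L g ⟨e, rfl⟩
  have h1 : HomologicalComplex.homotopyEquivalences _ (ComplexShape.up ℤ)
      ((pushC f).map e.hom) :=
    ⟨(Scheme.Modules.pushforward f).mapHomotopyEquiv e, rfl⟩
  exact isInvertedBy_mapHomologicalComplex_comp_Q.{u} (DCoh.gammaAb Y) _ h1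

lemma rdf₁' : (DCoh.Rpush f ⋙ DCoh.RΓ Y).IsRightDerivedFunctor (α₁ f)
    (HomologicalComplex.quasiIso X.Modules (ComplexShape.up ℤ)) := by
  refine (fibLocalizerMorphism_derives _
    (isInvertedBy_F₁ f)).isRightDerivedFunctor_of_isIso _ (fun I => ?_)
  haveI := I.property.isKInjective
  haveI := isIso_γΓ_app_push f I.obj
  haveI := isIso_βf_app f I.obj
  dsimp [α₁]
  simp only [Category.comp_id, Category.id_comp]
  haveI h1 : IsIso ((γΓ Y).app ((pushC f).obj I.obj)) := isIso_γΓ_app_push f I.obj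
  haveI h2 : IsIso ((DCoh.RΓ Y).map ((βf f).app I.obj)) := by
    haveI : IsIso ((βf f).app I.obj) := isIso_βf_app f I.obj
    infer_instance
  exact @IsIso.comp_isIso _ _ _ _ _ _ _ h1 h2

/-- `Γ(Y, f_* K) = Γ(X, K)` on complexes -/
noncomputable def τ₁ : F₁ f ≅ gamC X ⋙ DerivedCategory.Q :=
  (Functor.associator _ _ _).symm ≪≫ Functor.isoWhiskerRight
    (NatIso.ofComponents (fun K => HomologicalComplex.Hom.isoOfComponents (fun n => Iso.refl _)
      (by intros; dsimp; simp; rfl)) (by intros; ext; dsimp; simp; rfl) :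
      pushC f ⋙ gamC Y ≅ gamC X) DerivedCategory.Q

theorem nonempty_Rpush_RΓ_iso : Nonempty (DCoh.Rpush f ⋙ DCoh.RΓ Y ≅ DCoh.RΓ X) := by
  haveI := rdf₁' f
  exact ⟨Functor.rightDerivedNatIso _ _ (α₁ f) (γΓ X)
    (HomologicalComplex.quasiIso X.Modules (ComplexShape.up ℤ)) (τ₁ f)⟩

end Groth.Agent.Lib.H6xGamAc
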