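import Mathlib
import Groth.Agent.S9498
import Groth.Agent.Lib.Helper2QCoh
import Groth.Agent.Lib.H6xInjQcA
import Groth.Agent.Lib.H6xInjTildeC
set_option backward.isDefEq.respectTransparency.types false

/-!
# Quasi-coherent modules on affine opens: injectivity versus injectivity of sections (helper6)

For `U` an affine open of `X` with Noetherian ring of sections and `F` quasi-coherent:
`F|_U` is an injective object iff `Γ(F, U)` is an injective `Γ(X, U)`-module.
-/

set_option autoImplicit false
set_option linter.style.haveILetI false
universe u
open CategoryTheory CategoryTheory.Limits AlgebraicGeometry TopologicalSpace Opposite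

namespace Groth.Agent.Lib.H6xInjQc

open Groth.Agent.Lib.H6xInjTilde

section spec

variable {R : CommRingCat.{u}}

/-- the global sections of an injective module on `Spec R` form an injective module -/
theorem injective_Γ_of_injective (G : (Spec R).Modules) [Injective G] :
    Injective (moduleSpecΓFunctor.obj G) := by
  haveI : PreservesFiniteLimits (tilde.functor R) := (Groth.Agent.S9498.aux R).1
  exact Injective.injective_of_adjoint (tilde.adjunction (R := R)) G

/-- a quasi-coherent module on the spectrum of a Noetherian ring with injective module of global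
sections is an injective object -/
theorem injective_of_injective_Γ [IsNoetherianRing R] (G : (Spec R).Modules) [G.IsQuasicoherent]
    (h : Injective (moduleSpecΓFunctor.obj G)) : Injective G := by
  have h1 : Module.Injective R (moduleSpecΓFunctor.obj G) :=
    Module.injective_module_of_injective_object R (moduleSpecΓFunctor.obj G)
  have h2 : Injective (tilde (moduleSpecΓFunctor.obj G)) := injective_tilde _ h1
  haveI : IsIso G.fromTildeΓ := Scheme.Modules.isIso_fromTildeΓ_of_isQuasicoherent G
  exact Injective.of_iso (asIso G.fromTildeΓ) h2

end spec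

section affineOpen

variable {X : Scheme.{u}} {U : X.Opens} (hU : IsAffineOpen U) (F : X.Modules)

/-- sections over `Spec Γ(X, U)` of the restriction along `fromSpec` are the sections over `U` -/
noncomputable def secEquiv :
    Γ(F.restrict hU.fromSpec, ⊤) ≃ₗ[Γ(X, U)] Γ(F, U) where
  toFun x := F.presheaf.map
    (homOfLE (le_of_eq (by rw [Scheme.Hom.image_top_eq_opensRange, hU.opensRange_fromSpec]) :
      U ≤ hU.fromSpec ''ᵁ ⊤)).op ((F.restrictAppIso hU.fromSpec ⊤).hom x)
  invFun y := (F.restrictAppIso hU.fromSpec ⊤).inv (F.presheaf.map
    (homOfLE (le_of_eq (by rw [Scheme.Hom.image_top_eq_opensRange, hU.opensRange_fromSpec]) :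
      hU.fromSpec ''ᵁ ⊤ ≤ U)).op y)
  map_add' x y := by
    rw [map_add, map_add]
  map_smul' r x := by
    rw [Groth.Agent.Lib.Helper2.QCoh.restrict_fromSpec_smul hU F ⊤ r x,
      Scheme.Modules.map_smul]
    congr 1
    rw [← ConcreteCategory.comp_apply, ← Functor.map_comp]
    have : ((homOfLE (Groth.Agent.Lib.Helper2.QCoh.fromSpec_image_le hU ⊤)).op ≫
        (homOfLE (le_of_eq (by
          rw [Scheme.Hom.image_top_eq_opensRange, hU.opensRange_fromSpec]) :
          U ≤ hU.fromSpec ''ᵁ ⊤)).op) = 𝟙 (op U) := Subsingleton.elim _ _
    rw [this, CategoryTheory.Functor.map_id]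
    rfl
  left_inv x := by
    have key : ∀ (W : X.Opens) (f : op W ⟶ op W) (x : F.presheaf.obj (op W)),
        F.presheaf.map f x = x := by
      intro W f x
      have : f = 𝟙 _ := Subsingleton.elim _ _
      rw [this, CategoryTheory.Functor.map_id]
      rfl
    change F.presheaf.map _ (F.presheaf.map _ x) = x
    rw [← ConcreteCategory.comp_apply, ← Functor.map_comp]
    exact key _ _ x
  right_inv y := by
    have key : ∀ (W : X.Opens) (f : op W ⟶ op W) (x : F.presheaf.obj (op W)),
        F.presheaf.map f x = x := by
      intro W f x
      have : f = 𝟙 _ := Subsingleton.elim _ _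
      rw [this, CategoryTheory.Functor.map_id]
      rfl
    change F.presheaf.map _ (F.presheaf.map _ y) = y
    rw [← ConcreteCategory.comp_apply, ← Functor.map_comp]
    exact key _ _ y

/-- `F|_U` is the restriction along `isoSpec.hom` of the restriction of `F` along `fromSpec` -/
noncomputable def restrictIso :
    (Scheme.Modules.restrictFunctor U.ι).obj F ≅
      (Scheme.Modules.restrictFunctor hU.isoSpec.hom).obj (F.restrict hU.fromSpec) :=
  ((Scheme.Modules.restrictFunctorCongr hU.isoSpec_hom_fromSpec.symm).app F) ≪≫
    ((Scheme.Modules.restrictFunctorComp hU.isoSpec.hom hU.fromSpec).app F)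

variable [F.IsQuasicoherent]

include hU in
/-- quasi-coherent `F` with `Γ(F, U)` injective over Noetherian `Γ(X, U)`: `F|_U` is injective -/
theorem injective_restrict_of_injective_sections [IsNoetherianRing Γ(X, U)]
    (h : Module.Injective Γ(X, U) Γ(F, U)) :
    Injective ((Scheme.Modules.restrictFunctor U.ι).obj F) := by
  have h1 : Injective (ModuleCat.of Γ(X, U) Γ(F, U)) :=
    Module.injective_object_of_injective_module Γ(X, U) Γ(F, U)
  have h2 : Injective (moduleSpecΓFunctor.obj (F.restrict hU.fromSpec)) :=
    Injective.of_iso (secEquiv hU F).toModuleIso.symm h1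
  haveI : Injective (F.restrict hU.fromSpec) := injective_of_injective_Γ _ h2
  haveI := injective_restrict hU.isoSpec.hom (F.restrict hU.fromSpec)
  exact Injective.of_iso (restrictIso hU F).symm inferInstance

include hU in
omit [F.IsQuasicoherent] in
/-- sections over an affine open of an injective module form an injective module -/
theorem injective_sections_of_injective [Injective F] :
    Module.Injective Γ(X, U) Γ(F, U) := by
  haveI := injective_restrict hU.fromSpec F
  have h2 : Injective (moduleSpecΓFunctor.obj (F.restrict hU.fromSpec)) :=
    injective_Γ_of_injective _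
  haveI : Injective (ModuleCat.of Γ(X, U) Γ(F, U)) :=
    Injective.of_iso (secEquiv hU F).toModuleIso h2
  exact Module.injective_module_of_injective_object Γ(X, U) Γ(F, U)

end affineOpen

end Groth.Agent.Lib.H6xInjQc
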