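import Mathlib
import Groth.Prelude.Def_DCoh2
import Groth.Agent.S0301
import Groth.Agent.Lib.H6xInjLocal
import Groth.Agent.Lib.H6xInjQcB
import Groth.Agent.Lib.H6xExtZeroSec
import Groth.Agent.Lib.Helper23QCohAbelian
import Groth.Agent.Lib.Helper23QCohLocal
import Groth.Agent.Lib.Helper23Extend
import Groth.Agent.Lib.Helper2QcPush
set_option backward.isDefEq.respectTransparency.types false

/-!
# Sections with support of a quasi-coherent injective module form an injective module (helper6)
-/

set_option autoImplicit false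
set_option linter.style.haveILetI false
universe u
open CategoryTheory CategoryTheory.Limits AlgebraicGeometry TopologicalSpace Opposite

namespace Groth.Agent.Lib.H6xGammaZInj

open Groth.Agent.Lib.H6xExtZeroSec

variable {X : Scheme.{u}}

/-- sections of a kernel: left exactness of the sections functors -/
lemma exists_kernel_section {F G : X.Modules} (f : F ⟶ G) (V : X.Opens) (s : Γ(F, V))
    (hs : f.app V s = 0) : ∃ t : Γ(kernel f, V), (kernel.ι f).app V t = s := by
  have h1 : secHom V F s ≫ f = 0 := by rw [secHom_comp, hs, secHom_zero]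
  refine ⟨homSec V _ (kernel.lift f (secHom V F s) h1), ?_⟩
  apply secHom_injective
  rw [← secHom_comp, secHom_homSec, kernel.lift_ι]

/-- the ideal of functions on `V` whose non-vanishing locus lies in `W` -/
def idealOf (V W : X.Opens) : Ideal Γ(X, V) where
  carrier := {f | X.basicOpen f ≤ W}
  add_mem' := by
    intro a b ha hb
    exact (X.basicOpen_add_le (f := a) (g := b)).trans (sup_le ha hb)
  zero_mem' := by
    change X.basicOpen (0 : Γ(X, V)) ≤ W
    rw [Scheme.basicOpen_zero]
    exact bot_le
  smul_mem' := by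
    intro c a ha
    change X.basicOpen (c * a) ≤ W
    rw [Scheme.basicOpen_mul]
    exact inf_le_right.trans ha

lemma mem_idealOf {V W : X.Opens} (f : Γ(X, V)) : f ∈ idealOf V W ↔ X.basicOpen f ≤ W := Iff.rfl

section

variable {V : X.Opens} (hV : IsAffineOpen V) (F : X.Modules) [F.IsQuasicoherent]
  (W : X.Opens) (hWV : W ≤ V)

/-- the submodule of sections killed by a power of `idealOf V W` -/
noncomputable abbrev torsionOf : Submodule Γ(X, V) Γ(F, V) :=
  ⨆ n : ℕ, Submodule.torsionBySet Γ(X, V) Γ(F, V) ((idealOf V W ^ n : Ideal Γ(X, V)) : Set Γ(X, V))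

omit [F.IsQuasicoherent] in
lemma mem_torsionOf (s : Γ(F, V)) :
    s ∈ torsionOf F W (V := V) ↔ ∃ n : ℕ, ∀ a ∈ idealOf V W ^ n, a • s = 0 := by
  unfold torsionOf
  rw [Submodule.mem_iSup_of_directed]
  · refine exists_congr fun n => ?_
    rw [Submodule.mem_torsionBySet_iff]
    exact ⟨fun h a ha => h ⟨a, ha⟩, fun h a => h a.1 a.2⟩
  · apply Monotone.directed_le
    intro n m hnm
    exact Submodule.torsionBySet_le_torsionBySet_of_subset (Ideal.pow_le_pow_right hnm)

include hV in
/-- sections over the affine open `V` vanishing on `W ⊆ V` are those killed by a power of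
`idealOf V W` -/
theorem res_eq_zero_iff [IsNoetherianRing Γ(X, V)] (s : Γ(F, V)) :
    F.presheaf.map (homOfLE hWV).op s = 0 ↔ s ∈ torsionOf F W (V := V) := by
  rw [mem_torsionOf]
  constructor
  · intro h
    have hle : idealOf V W ≤ (Groth.Agent.Lib.Helper2.QCoh.ann F s).radical := by
      intro f hf
      have h1 : F.presheaf.map (homOfLE (X.basicOpen_le f)).op s = 0 := by
        have : (homOfLE (X.basicOpen_le f)).op =
            (homOfLE hWV).op ≫ (homOfLE ((mem_idealOf f).1 hf)).op := rfl
        rw [this, Functor.map_comp, ConcreteCategory.comp_apply, h, map_zero]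
      obtain ⟨n, hn⟩ := Groth.Agent.Lib.Helper2.QCoh.exists_pow_smul_eq_zero hV F f s h1
      exact ⟨n, Groth.Agent.Lib.Helper2.QCoh.mem_ann.2 hn⟩
    obtain ⟨k, hk⟩ := Ideal.exists_pow_le_of_le_radical_of_fg hle
      ((isNoetherianRing_iff_ideal_fg _).1 inferInstance _)
    exact ⟨k, fun a ha => Groth.Agent.Lib.Helper2.QCoh.mem_ann.1 (hk ha)⟩
  · rintro ⟨n, hn⟩
    apply Groth.Agent.Lib.Helper2.QcPush.section_eq_zero_of_germ
    intro x hxW
    have h1 : F.presheaf.germ W x hxW (F.presheaf.map (homOfLE hWV).op s) =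
        F.presheaf.germ V x (hWV hxW) s :=
      TopCat.Presheaf.germ_res_apply F.presheaf (homOfLE hWV) x hxW s
    rw [h1]
    obtain ⟨f, hfW, hxf⟩ := hV.exists_basicOpen_le (⟨x, hxW⟩ : W) (hWV hxW)
    have h2 : f ^ n • s = 0 := hn _ (Ideal.pow_mem_pow ((mem_idealOf f).2 hfW) n)
    have h3 := congrArg (F.presheaf.germ V x (hWV hxW)) h2
    rw [Groth.Agent.Lib.Helper2.QCoh.germ_smul, map_zero, map_pow] at h3
    exact Groth.Agent.Lib.Helper2.QCoh.germ_smul_eq_zero_of_isUnit
      (((Scheme.mem_basicOpen X f x (hWV hxW)).1 hxf).pow n) h3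

end

open Groth.Agent.Lib.H6xInjQc in
/-- **`Γ_Z` of a quasi-coherent injective module on a locally Noetherian scheme is injective.** -/
theorem injective_gammaZ [IsLocallyNoetherian X] {U : Scheme.{u}} (j : U ⟶ X) [IsOpenImmersion j]
    (I : X.Modules) [I.IsQuasicoherent] [Injective I] :
    Injective ((DCoh.gammaZ j).obj I) := by
  let η : I ⟶ (Scheme.Modules.pushforward j).obj ((Scheme.Modules.restrictFunctor j).obj I) :=
    (Scheme.Modules.restrictAdjunction j).unit.app I
  haveI h1 : ((Scheme.Modules.restrictFunctor j).obj I).IsQuasicoherent :=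
    Scheme.Modules.isQuasicoherent_restrictFunctor j I
  haveI h2 : ((Scheme.Modules.pushforward j).obj ((Scheme.Modules.restrictFunctor j).obj I)).IsQuasicoherent :=
    Groth.Agent.Lib.Helper23.QCohLocal.isQuasicoherent_pushforward _ _
  haveI h3 : (kernel η).IsQuasicoherent :=
    Groth.Agent.Lib.Helper23.QCohLocal.isQuasicoherent_kernel η
  change Injective (kernel η)
  apply Groth.Agent.Lib.H6xInjLocal.injective_of_locally_injective
  intro x
  obtain ⟨_, ⟨V, hV, rfl⟩, hxV, -⟩ :=
    X.isBasis_affineOpens.exists_subset_of_mem_open (Set.mem_univ x) isOpen_univ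
  haveI : IsNoetherianRing Γ(X, V) := IsLocallyNoetherian.component_noetherian ⟨V, hV⟩
  refine ⟨V, hxV, ?_⟩
  apply injective_restrict_of_injective_sections hV (kernel η)
  have hM : Module.Injective Γ(X, V) Γ(I, V) := injective_sections_of_injective hV I
  let W : X.Opens := j ''ᵁ (j ⁻¹ᵁ V)
  have hWV : W ≤ V := j.image_preimage_le V
  have hT : Module.Injective Γ(X, V) (torsionOf I W (V := V)) :=
    Groth.Agent.S0301.result Γ(X, V) Γ(I, V) hM (idealOf V W)
  have hη : ∀ s : Γ(I, V), η.app V s = I.presheaf.map (homOfLE hWV).op s := fun s => rfl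
  have hmem : ∀ t : Γ(kernel η, V), (kernel.ι η).app V t ∈ torsionOf I W (V := V) := by
    intro t
    rw [← res_eq_zero_iff hV I W hWV, ← hη]
    have h0 : (kernel.ι η ≫ η).app V t = 0 := by
      rw [kernel.condition]
      rfl
    exact h0
  let e : Γ(kernel η, V) →ₗ[Γ(X, V)] torsionOf I W (V := V) :=
    { toFun := fun t => ⟨(kernel.ι η).app V t, hmem t⟩
      map_add' := fun a b => Subtype.ext (map_add _ a b)
      map_smul' := fun r a => Subtype.ext (Scheme.Modules.Hom.app_smul _ r a) }
  have he : Function.Bijective e := by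
    constructor
    · intro a b hab
      exact Groth.Agent.Lib.Helper23.Extend.injective_app_of_mono (kernel.ι η) V
        (congrArg Subtype.val hab)
    · rintro ⟨s, hs⟩
      have hs' : η.app V s = 0 := by
        rw [hη]
        exact (res_eq_zero_iff hV I W hWV s).2 hs
      obtain ⟨t, ht⟩ := exists_kernel_section η V s hs'
      exact ⟨t, Subtype.ext ht⟩
  rw [← Module.Baer.iff_injective] at hT ⊢
  exact Module.Baer.of_equiv (LinearEquiv.ofBijective e he).symm hT

end Groth.Agent.Lib.H6xGammaZInj
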