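import Mathlib
import Groth.Prelude.Def_CxOX
import Groth.Agent.Lib.H6xGammaZInj
set_option backward.isDefEq.respectTransparency.types false

/-!
# Sections of `Γ_Z(F)` over an affine open: sections killed by a power of an ideal cutting out `Z`
(helper6)
-/

set_option autoImplicit false
set_option linter.style.haveILetI false
universe u
open CategoryTheory CategoryTheory.Limits AlgebraicGeometry TopologicalSpace Opposite

namespace Groth.Agent.Lib.H6xGammaZInj

variable {X : Scheme.{u}}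

/-- sections over the affine open `V` vanishing on `W ⊆ V` are those killed by a power of `I`, for
a finitely generated ideal `I` whose basic opens cover exactly `W` -/
theorem res_eq_zero_iff_of_fg {V : X.Opens} (hV : IsAffineOpen V) (F : X.Modules)
    [F.IsQuasicoherent] (W : X.Opens) (hWV : W ≤ V) (I : Ideal Γ(X, V)) (hI : I.FG)
    (h1 : ∀ f ∈ I, X.basicOpen f ≤ W) (h2 : ∀ x ∈ W, ∃ f ∈ I, x ∈ X.basicOpen f) (s : Γ(F, V)) :
    F.presheaf.map (homOfLE hWV).op s = 0 ↔ ∃ n : ℕ, ∀ a ∈ I ^ n, a • s = 0 := by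
  constructor
  · intro h
    have hle : I ≤ (Groth.Agent.Lib.Helper2.QCoh.ann F s).radical := by
      intro f hf
      have h1' : F.presheaf.map (homOfLE (X.basicOpen_le f)).op s = 0 := by
        have : (homOfLE (X.basicOpen_le f)).op =
            (homOfLE hWV).op ≫ (homOfLE (h1 f hf)).op := rfl
        rw [this, Functor.map_comp, ConcreteCategory.comp_apply, h, map_zero]
      obtain ⟨n, hn⟩ := Groth.Agent.Lib.Helper2.QCoh.exists_pow_smul_eq_zero hV F f s h1'
      exact ⟨n, Groth.Agent.Lib.Helper2.QCoh.mem_ann.2 hn⟩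
    obtain ⟨k, hk⟩ := Ideal.exists_pow_le_of_le_radical_of_fg hle hI
    exact ⟨k, fun a ha => Groth.Agent.Lib.Helper2.QCoh.mem_ann.1 (hk ha)⟩
  · rintro ⟨n, hn⟩
    apply Groth.Agent.Lib.Helper2.QcPush.section_eq_zero_of_germ
    intro x hxW
    have h1' : F.presheaf.germ W x hxW (F.presheaf.map (homOfLE hWV).op s) =
        F.presheaf.germ V x (hWV hxW) s :=
      TopCat.Presheaf.germ_res_apply F.presheaf (homOfLE hWV) x hxW s
    rw [h1']
    obtain ⟨f, hfI, hxf⟩ := h2 x hxW
    have h2' : f ^ n • s = 0 := hn _ (Ideal.pow_mem_pow hfI n)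
    have h3 := congrArg (F.presheaf.germ V x (hWV hxW)) h2'
    rw [Groth.Agent.Lib.Helper2.QCoh.germ_smul, map_zero, map_pow] at h3
    exact Groth.Agent.Lib.Helper2.QCoh.germ_smul_eq_zero_of_isUnit
      (((Scheme.mem_basicOpen X f x (hWV hxW)).1 hxf).pow n) h3

/-- sections of `Γ_Z(F)` over an affine open are the sections killed by a power of an ideal
cutting out `Z` -/
theorem mem_range_kernel_ι_iff {U : Scheme.{u}} (j : U ⟶ X) [IsOpenImmersion j] (F : X.Modules)
    [F.IsQuasicoherent] (V : X.Opens) (hV : IsAffineOpen V) (I : Ideal Γ(X, V)) (hI : I.FG)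
    (hZ : ∀ x : X, x ∈ V → (x ∉ Set.range j.base ↔ ∀ f ∈ I, x ∉ X.basicOpen f))
    (s : Γ(F, V)) :
    s ∈ Set.range ((kernel.ι ((Scheme.Modules.restrictAdjunction j).unit.app F)).app V) ↔
      ∃ n : ℕ, ∀ a ∈ I ^ n, a • s = 0 := by
  let η : F ⟶ (Scheme.Modules.pushforward j).obj ((Scheme.Modules.restrictFunctor j).obj F) :=
    (Scheme.Modules.restrictAdjunction j).unit.app F
  let W : X.Opens := j ''ᵁ (j ⁻¹ᵁ V)
  have hWV : W ≤ V := j.image_preimage_le V
  have hW : ∀ x : X, x ∈ W ↔ x ∈ Set.range j.base ∧ x ∈ V := by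
    intro x
    change x ∈ j ''ᵁ (j ⁻¹ᵁ V) ↔ _
    rw [Scheme.Hom.image_preimage_eq_opensRange_inf]
    exact Iff.rfl
  have hη : ∀ s : Γ(F, V), η.app V s = F.presheaf.map (homOfLE hWV).op s := fun s => rfl
  have h1 : ∀ f ∈ I, X.basicOpen f ≤ W := by
    intro f hf x hx
    have hxV : x ∈ V := X.basicOpen_le f hx
    refine (hW x).2 ⟨?_, hxV⟩
    by_contra hxj
    exact ((hZ x hxV).1 hxj) f hf hx
  have h2 : ∀ x ∈ W, ∃ f ∈ I, x ∈ X.basicOpen f := by
    intro x hx
    obtain ⟨hxj, hxV⟩ := (hW x).1 hx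
    by_contra hcon
    push Not at hcon
    exact ((hZ x hxV).2 hcon) hxj
  rw [← res_eq_zero_iff_of_fg hV F W hWV I hI h1 h2 s, ← hη]
  constructor
  · rintro ⟨t, rfl⟩
    have h0 : (kernel.ι η ≫ η).app V t = 0 := by
      rw [kernel.condition]
      rfl
    exact h0
  · intro hs
    exact exists_kernel_section η V s hs

end Groth.Agent.Lib.H6xGammaZInj
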