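import Mathlib
import Groth.Agent.Lib.H6xFinRelA
import Groth.Agent.Lib.H6xSuppPushD
set_option backward.isDefEq.respectTransparency.types false

/-!
# Gluing objects of derived categories over two opens: existence (helper6; S0945)
-/

set_option autoImplicit false
set_option linter.style.haveILetI false
set_option linter.unusedVariables false
set_option linter.unusedSectionVars false
universe u
open CategoryTheory CategoryTheory.Limits AlgebraicGeometry TopologicalSpace Opposite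

attribute [local instance] HasDerivedCategory.standard

namespace Groth.Agent.Lib.H6xGlue

open Pretriangulated

section abstract

variable {D : Type*} [Category D] [HasZeroObject D] [HasShift D ℤ] [Preadditive D]
  [∀ n : ℤ, (shiftFunctor D n).Additive] [Pretriangulated D]

/-- in a distinguished triangle `F → Y₁ ⊕ Y₂ → Z` with `Y₂ → Z` an isomorphism, `F → Y₁` is an
isomorphism -/
lemma isIso_mor₁_comp (T : Triangle D) (hT : T ∈ distTriang D) {Y₁ Y₂ : D}
    (ι₁ : Y₁ ⟶ T.obj₂) (ι₂ : Y₂ ⟶ T.obj₂) (π₁ : T.obj₂ ⟶ Y₁) (π₂ : T.obj₂ ⟶ Y₂)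
    (h11 : ι₁ ≫ π₁ = 𝟙 _) (h21 : ι₂ ≫ π₁ = 0) (hsum : π₁ ≫ ι₁ + π₂ ≫ ι₂ = 𝟙 _)
    (hiso : IsIso (ι₂ ≫ T.mor₂)) : IsIso (T.mor₁ ≫ π₁) := by
  set n := inv (ι₂ ≫ T.mor₂) with hn
  have hn1 : n ≫ ι₂ ≫ T.mor₂ = 𝟙 _ := IsIso.inv_hom_id _
  have hn2 : (ι₂ ≫ T.mor₂) ≫ n = 𝟙 _ := IsIso.hom_inv_id _
  have hδ : T.mor₃ = 0 := by
    have h1 : T.mor₃ = (n ≫ ι₂ ≫ T.mor₂) ≫ T.mor₃ := by rw [hn1, Category.id_comp]
    rw [h1]
    simp only [Category.assoc, comp_distTriang_mor_zero₂₃ T hT, comp_zero]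
  haveI : Mono T.mor₁ := T.mono₁ hT hδ
  obtain ⟨r, hr⟩ := T.coyoneda_exact₂ hT (𝟙 T.obj₂ - T.mor₂ ≫ n ≫ ι₂) (by
    rw [Preadditive.sub_comp, Category.id_comp, Category.assoc, Category.assoc, hn1,
      Category.comp_id, sub_self])
  have hfm : T.mor₁ ≫ T.mor₂ = 0 := comp_distTriang_mor_zero₁₂ T hT
  -- `f π₁ ι₁ m n = - f π₂`
  have key : T.mor₁ ≫ π₁ ≫ ι₁ ≫ T.mor₂ ≫ n = - (T.mor₁ ≫ π₂) := by
    have h1 : T.mor₁ ≫ (π₁ ≫ ι₁ + π₂ ≫ ι₂) ≫ T.mor₂ = 0 := by
      rw [hsum, Category.id_comp, hfm]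
    rw [Preadditive.add_comp, Preadditive.comp_add] at h1
    have h2 : T.mor₁ ≫ (π₁ ≫ ι₁) ≫ T.mor₂ = - (T.mor₁ ≫ (π₂ ≫ ι₂) ≫ T.mor₂) :=
      eq_neg_of_add_eq_zero_left h1
    have h3 := congrArg (· ≫ n) h2
    simp only [Category.assoc, Preadditive.neg_comp] at h3
    rw [h3]
    congr 1
    have h4 : ι₂ ≫ T.mor₂ ≫ n = 𝟙 _ := by rw [← Category.assoc]; exact hn2
    rw [h4, Category.comp_id]
  refine ⟨ι₁ ≫ r, ?_, ?_⟩
  · rw [← cancel_mono T.mor₁]
    simp only [Category.assoc, Category.id_comp]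
    rw [← hr, Preadditive.comp_sub, Preadditive.comp_sub, Preadditive.comp_sub, Category.comp_id]
    have h5 : T.mor₁ ≫ π₁ ≫ ι₁ ≫ T.mor₂ ≫ n ≫ ι₂ = - (T.mor₁ ≫ π₂ ≫ ι₂) := by
      have := congrArg (· ≫ ι₂) key
      simpa only [Category.assoc, Preadditive.neg_comp] using this
    rw [h5, sub_neg_eq_add, ← Preadditive.comp_add]
    rw [show π₁ ≫ ι₁ + π₂ ≫ ι₂ = 𝟙 _ from hsum, Category.comp_id]
  · simp only [Category.assoc]
    rw [← Category.assoc r, ← hr, Preadditive.sub_comp, Preadditive.comp_sub, Category.id_comp, h11]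
    simp only [Category.assoc, h21, comp_zero, sub_zero]

end abstract

section bc

variable {X U V W : Scheme.{u}} (jU : U ⟶ X) (jV : V ⟶ X) (iU : W ⟶ U) (iV : W ⟶ V)
  [IsOpenImmersion jU] [IsOpenImmersion jV] [IsOpenImmersion iU] [IsOpenImmersion iV]
  (comm : iU ≫ jU = iV ≫ jV)
  (hint : Set.range (iU ≫ jU).base = Set.range jU.base ∩ Set.range jV.base)

include comm hint in
/-- base change for a cartesian square of open immersions -/
theorem nonempty_bc :
    Nonempty (DCoh.Rpush jV ⋙ DCoh.restrictD jU ≅ DCoh.restrictD iV ⋙ DCoh.Rpush iU) := by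
  let Uo : X.Opens := jU.opensRange
  have hr1 : Set.range jU.base = Set.range Uo.ι.base := by
    rw [Scheme.Opens.range_ι]; rfl
  let b : U ≅ Uo.toScheme := IsOpenImmersion.isoOfRangeEq jU Uo.ι hr1
  have hb : b.hom ≫ Uo.ι = jU := IsOpenImmersion.isoOfRangeEq_hom_fac _ _ _
  have hr2 : Set.range iV.base = Set.range (jV ⁻¹ᵁ Uo).ι.base := by
    rw [Scheme.Opens.range_ι]
    ext x
    constructor
    · rintro ⟨w, rfl⟩
      change jV.base (iV.base w) ∈ Set.range jU.base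
      have h1 : jV.base (iV.base w) = jU.base (iU.base w) := by
        have := congrArg (fun φ : W ⟶ X => φ.base w) comm
        exact this.symm
      rw [h1]
      exact ⟨_, rfl⟩
    · intro hx
      have hx' : jV.base x ∈ Set.range jU.base := hx
      have h2 : jV.base x ∈ Set.range (iU ≫ jU).base := by
        rw [hint]; exact ⟨hx', ⟨x, rfl⟩⟩
      rw [comm] at h2
      obtain ⟨w, hw⟩ := h2
      have hinj : Function.Injective jV.base := jV.isOpenEmbedding.injective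
      exact ⟨w, hinj hw⟩
  let a : W ≅ (jV ⁻¹ᵁ Uo).toScheme := IsOpenImmersion.isoOfRangeEq iV (jV ⁻¹ᵁ Uo).ι hr2
  have ha : a.hom ≫ (jV ⁻¹ᵁ Uo).ι = iV := IsOpenImmersion.isoOfRangeEq_hom_fac _ _ _
  have w : (jV ∣_ Uo) ≫ b.inv = a.inv ≫ iU := by
    rw [← cancel_mono jU]
    have h1 : ((jV ∣_ Uo) ≫ b.inv) ≫ jU = (jV ⁻¹ᵁ Uo).ι ≫ jV := by
      rw [← hb, Category.assoc, Iso.inv_hom_id_assoc, morphismRestrict_ι]
    have h2 : (a.inv ≫ iU) ≫ jU = (jV ⁻¹ᵁ Uo).ι ≫ jV := by
      rw [Category.assoc, comm, ← ha, Category.assoc, Iso.inv_hom_id_assoc]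
    rw [h1, h2]
  exact Groth.Agent.Lib.H6xFinRel.nonempty_iso_of_eq jV Uo a b iU w jU iV hb.symm ha.symm

include comm hint in
/-- `Rj_{V*}` of the unit `B → Ri_{V*}(B|_W)` becomes an isomorphism over `U` -/
theorem isIso_restrictD_Rpush_unit (B : DCoh.D V) :
    IsIso ((DCoh.restrictD jU).map ((DCoh.Rpush jV).map
      ((Groth.Agent.Lib.H6xSuppPush.derAdj iV).unit.app B))) := by
  obtain ⟨Φ⟩ := nonempty_bc jU jV iU iV comm hint
  set uB := (Groth.Agent.Lib.H6xSuppPush.derAdj iV).unit.app B with huB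
  have h1 : IsIso ((DCoh.restrictD iV).map uB) := by
    have h := (Groth.Agent.Lib.H6xSuppPush.derAdj iV).left_triangle_components B
    haveI : IsIso ((Groth.Agent.Lib.H6xSuppPush.derAdj iV).counit.app
        ((DCoh.restrictD iV).obj B)) := inferInstance
    have h' : (DCoh.restrictD iV).map uB = inv ((Groth.Agent.Lib.H6xSuppPush.derAdj iV).counit.app
        ((DCoh.restrictD iV).obj B)) := by
      rw [← cancel_mono ((Groth.Agent.Lib.H6xSuppPush.derAdj iV).counit.app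
        ((DCoh.restrictD iV).obj B)), IsIso.inv_hom_id]
      exact h
    rw [h']
    infer_instance
  have h2 : IsIso ((DCoh.restrictD iV ⋙ DCoh.Rpush iU).map uB) := by
    change IsIso ((DCoh.Rpush iU).map ((DCoh.restrictD iV).map uB))
    infer_instance
  have h3 : IsIso ((DCoh.Rpush jV ⋙ DCoh.restrictD jU).map uB) :=
    (NatIso.isIso_map_iff Φ uB).2 h2
  exact h3

end bc

section main

open Groth.Agent.Lib.H6xSuppPush

variable {X U V W : Scheme.{u}} (jU : U ⟶ X) (jV : V ⟶ X) (iU : W ⟶ U) (iV : W ⟶ V) (k : W ⟶ X)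
  [IsOpenImmersion jU] [IsOpenImmersion jV] [IsOpenImmersion iU] [IsOpenImmersion iV]
  [IsOpenImmersion k]
  (hU : iU ≫ jU = k) (hV : iV ≫ jV = k)
  (hint : Set.range k.base = Set.range jU.base ∩ Set.range jV.base)

include hU hV hint in
theorem exists_glue (A : DCoh.D U) (B : DCoh.D V)
    (c : (DCoh.restrictD iU).obj A ≅ (DCoh.restrictD iV).obj B) :
    ∃ F : DCoh.D X, Nonempty ((DCoh.restrictD jU).obj F ≅ A) ∧
      Nonempty ((DCoh.restrictD jV).obj F ≅ B) := by
  obtain ⟨θA⟩ := nonempty_Rpush_comp_iso_of_flat iU jU k hU ((DCoh.restrictD iU).obj A)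
  obtain ⟨θB⟩ := nonempty_Rpush_comp_iso_of_flat iV jV k hV ((DCoh.restrictD iV).obj B)
  set uA := (derAdj iU).unit.app A with huA
  set uB := (derAdj iV).unit.app B with huB
  let m₁ : (DCoh.Rpush jU).obj A ⟶ (DCoh.Rpush k).obj ((DCoh.restrictD iU).obj A) :=
    (DCoh.Rpush jU).map uA ≫ θA.inv
  let m₂ : (DCoh.Rpush jV).obj B ⟶ (DCoh.Rpush k).obj ((DCoh.restrictD iU).obj A) :=
    (DCoh.Rpush jV).map uB ≫ θB.inv ≫ (DCoh.Rpush k).map c.inv
  obtain ⟨F, f, δ, hT⟩ := distinguished_cocone_triangle₁ (biprod.desc m₁ m₂)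
  have comm : iU ≫ jU = iV ≫ jV := hU.trans hV.symm
  have hint₁ : Set.range (iU ≫ jU).base = Set.range jU.base ∩ Set.range jV.base := by
    rw [hU]; exact hint
  have hint₂ : Set.range (iV ≫ jV).base = Set.range jV.base ∩ Set.range jU.base := by
    rw [hV, Set.inter_comm]; exact hint
  refine ⟨F, ?_, ?_⟩
  · -- over `U`
    have hGT := (DCoh.restrictD jU).map_distinguished _ hT
    have hiso : IsIso ((DCoh.restrictD jU).map biprod.inr ≫
        ((DCoh.restrictD jU).mapTriangle.obj (Triangle.mk f (biprod.desc m₁ m₂) δ)).mor₂) := by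
      change IsIso ((DCoh.restrictD jU).map biprod.inr ≫
        (DCoh.restrictD jU).map (biprod.desc m₁ m₂))
      rw [← Functor.map_comp, biprod.inr_desc]
      haveI := isIso_restrictD_Rpush_unit jU jV iU iV comm hint₁ B
      change IsIso ((DCoh.restrictD jU).map ((DCoh.Rpush jV).map uB ≫ θB.inv ≫
        (DCoh.Rpush k).map c.inv))
      rw [Functor.map_comp]
      infer_instance
    have r11 : (DCoh.restrictD jU).map (biprod.inl : (DCoh.Rpush jU).obj A ⟶
        (DCoh.Rpush jU).obj A ⊞ (DCoh.Rpush jV).obj B) ≫ (DCoh.restrictD jU).map biprod.fst =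
        𝟙 _ := by
      rw [← Functor.map_comp, biprod.inl_fst, CategoryTheory.Functor.map_id]
    have r21 : (DCoh.restrictD jU).map (biprod.inr : (DCoh.Rpush jV).obj B ⟶
        (DCoh.Rpush jU).obj A ⊞ (DCoh.Rpush jV).obj B) ≫ (DCoh.restrictD jU).map biprod.fst =
        0 := by
      rw [← Functor.map_comp, biprod.inr_fst, Functor.map_zero]
    have rsum : (DCoh.restrictD jU).map (biprod.fst : (DCoh.Rpush jU).obj A ⊞
        (DCoh.Rpush jV).obj B ⟶ _) ≫ (DCoh.restrictD jU).map biprod.inl +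
        (DCoh.restrictD jU).map biprod.snd ≫ (DCoh.restrictD jU).map biprod.inr = 𝟙 _ := by
      rw [← Functor.map_comp, ← Functor.map_comp, ← Functor.map_add, biprod.total,
        CategoryTheory.Functor.map_id]
    have h : IsIso ((DCoh.restrictD jU).map f ≫ (DCoh.restrictD jU).map biprod.fst) :=
      isIso_mor₁_comp _ hGT _ _ _ _ r11 r21 rsum hiso
    exact ⟨@asIso _ _ _ _ _ h ≪≫ asIso ((derAdj jU).counit.app A)⟩
  · -- over `V`
    have hGT := (DCoh.restrictD jV).map_distinguished _ hT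
    have hiso : IsIso ((DCoh.restrictD jV).map biprod.inl ≫
        ((DCoh.restrictD jV).mapTriangle.obj (Triangle.mk f (biprod.desc m₁ m₂) δ)).mor₂) := by
      change IsIso ((DCoh.restrictD jV).map biprod.inl ≫
        (DCoh.restrictD jV).map (biprod.desc m₁ m₂))
      rw [← Functor.map_comp, biprod.inl_desc]
      haveI := isIso_restrictD_Rpush_unit jV jU iV iU comm.symm hint₂ A
      change IsIso ((DCoh.restrictD jV).map ((DCoh.Rpush jU).map uA ≫ θA.inv))
      rw [Functor.map_comp]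
      infer_instance
    have r11 : (DCoh.restrictD jV).map (biprod.inr : (DCoh.Rpush jV).obj B ⟶
        (DCoh.Rpush jU).obj A ⊞ (DCoh.Rpush jV).obj B) ≫ (DCoh.restrictD jV).map biprod.snd =
        𝟙 _ := by
      rw [← Functor.map_comp, biprod.inr_snd, CategoryTheory.Functor.map_id]
    have r21 : (DCoh.restrictD jV).map (biprod.inl : (DCoh.Rpush jU).obj A ⟶
        (DCoh.Rpush jU).obj A ⊞ (DCoh.Rpush jV).obj B) ≫ (DCoh.restrictD jV).map biprod.snd =
        0 := by
      rw [← Functor.map_comp, biprod.inl_snd, Functor.map_zero]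
    have rsum : (DCoh.restrictD jV).map (biprod.snd : (DCoh.Rpush jU).obj A ⊞
        (DCoh.Rpush jV).obj B ⟶ _) ≫ (DCoh.restrictD jV).map biprod.inr +
        (DCoh.restrictD jV).map biprod.fst ≫ (DCoh.restrictD jV).map biprod.inl = 𝟙 _ := by
      rw [← Functor.map_comp, ← Functor.map_comp, ← Functor.map_add, add_comm, biprod.total,
        CategoryTheory.Functor.map_id]
    have h : IsIso ((DCoh.restrictD jV).map f ≫ (DCoh.restrictD jV).map biprod.snd) :=
      isIso_mor₁_comp _ hGT _ _ _ _ r11 r21 rsum hiso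
    exact ⟨@asIso _ _ _ _ _ h ≪≫ asIso ((derAdj jV).counit.app B)⟩

end main

end Groth.Agent.Lib.H6xGlue
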