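import Groth.Agent.Lib.H6xGlueFP
import Mathlib.RingTheory.Kaehler.TensorProduct
import Mathlib.RingTheory.RingHom.Etale
import Mathlib.RingTheory.RingHom.Unramified

/-!
helper6: formally unramified and etale ring maps along a glueing pair.
-/

set_option autoImplicit false
universe u

namespace Groth.Agent.Lib.H6xGlueEtale

open TensorProduct KaehlerDifferential

attribute [local instance] Algebra.TensorProduct.rightAlgebra

section Main

variable {R R' : Type u} [CommRing R] [CommRing R'] [Algebra R R'] {f : R}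
variable {A B : Type u} [CommRing A] [CommRing B] [Algebra R A] [Algebra R B]

theorem ringHom_unramified_of_loc_of_tensor (hq : EtGlue.QuotPowBijective R R' f)
    (φ : A →ₐ[R] B)
    (h1 : (Localization.awayMap φ.toRingHom (algebraMap R A f)).FormallyUnramified)
    (h2 : (Algebra.TensorProduct.map (AlgHom.id R R') φ).toRingHom.FormallyUnramified) :
    φ.toRingHom.FormallyUnramified := by
  let _ : Algebra A B := φ.toRingHom.toAlgebra
  have : IsScalarTower R A B := IsScalarTower.of_algebraMap_eq' (by
    ext r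
    simp [RingHom.algebraMap_toAlgebra])
  set a : A := algebraMap R A f with ha
  have hqB : EtGlue.QuotPowBijective B (R' ⊗[R] B) (algebraMap R B f) :=
    H6xGlueFlat.quotPow_baseChange hq
  -- localization side
  let _ : Algebra (Localization.Away a) (Localization.Away (φ.toRingHom a)) :=
    (Localization.awayMap φ.toRingHom a).toAlgebra
  have : IsScalarTower A (Localization.Away a) (Localization.Away (φ.toRingHom a)) :=
    IsScalarTower.of_algebraMap_eq'
      (IsLocalization.map_comp (Submonoid.powers a).le_comap_map).symm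
  have : IsLocalization (Algebra.algebraMapSubmonoid B (Submonoid.powers a))
      (Localization.Away (φ.toRingHom a)) := by
    rw [Algebra.algebraMapSubmonoid, Submonoid.map_powers]
    exact Localization.isLocalization
  have hu1 : Algebra.FormallyUnramified (Localization.Away a)
      (Localization.Away (φ.toRingHom a)) := h1
  have htors : ∀ m : Ω[B⁄A], ∃ n : ℕ, (algebraMap R B f) ^ n • m = 0 := by
    intro m
    have h0 : ((KaehlerDifferential.map A (Localization.Away a) B
        (Localization.Away (φ.toRingHom a))).restrictScalars A) m = 0 :=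
      Subsingleton.elim _ _
    obtain ⟨⟨_, n, rfl⟩, hn⟩ := (IsLocalizedModule.eq_zero_iff (Submonoid.powers a)
      ((KaehlerDifferential.map A (Localization.Away a) B
        (Localization.Away (φ.toRingHom a))).restrictScalars A)).mp h0
    refine ⟨n, ?_⟩
    rw [Submonoid.smul_def] at hn
    have e : algebraMap R B f = algebraMap A B a := by
      rw [ha, ← IsScalarTower.algebraMap_apply]
    rw [e, ← map_pow, algebraMap_smul]
    exact hn
  -- tensor side
  let _ : Algebra (R' ⊗[R] A) (R' ⊗[R] B) :=
    (Algebra.TensorProduct.map (AlgHom.id R R') φ).toRingHom.toAlgebra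
  let _ : Algebra A (R' ⊗[R] B) := ((algebraMap B (R' ⊗[R] B)).comp (algebraMap A B)).toAlgebra
  have : IsScalarTower A B (R' ⊗[R] B) := IsScalarTower.of_algebraMap_eq' rfl
  have : IsScalarTower A (R' ⊗[R] A) (R' ⊗[R] B) := IsScalarTower.of_algebraMap_eq' (by
    ext x
    simp [RingHom.algebraMap_toAlgebra])
  have : IsScalarTower R (R' ⊗[R] A) (R' ⊗[R] B) := IsScalarTower.of_algebraMap_eq' (by
    ext r
    simp [RingHom.algebraMap_toAlgebra])
  have : IsScalarTower R' (R' ⊗[R] A) (R' ⊗[R] B) := IsScalarTower.of_algebraMap_eq' (by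
    ext r
    simp [RingHom.algebraMap_toAlgebra])
  have hpo : Algebra.IsPushout A B (R' ⊗[R] A) (R' ⊗[R] B) :=
    (Algebra.IsPushout.comp_iff R A R' (R' ⊗[R] A) (T := B) (T' := R' ⊗[R] B)).mp inferInstance
  have hpo' : Algebra.IsPushout A (R' ⊗[R] A) B (R' ⊗[R] B) := hpo.symm
  have hu2 : Algebra.FormallyUnramified (R' ⊗[R] A) (R' ⊗[R] B) := h2
  have hsub : Subsingleton ((R' ⊗[R] B) ⊗[B] Ω[B⁄A]) :=
    (KaehlerDifferential.tensorKaehlerEquiv A (R' ⊗[R] A) B (R' ⊗[R] B)).injective.subsingleton
  have : Subsingleton Ω[B⁄A] := Helper16.subsingleton_of_torsion_of_tensor hqB htors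
  exact ⟨this⟩

theorem ringHom_etale_of_loc_of_tensor (hq : EtGlue.QuotPowBijective R R' f)
    (hA : EtGlue.IsGlueable R R' f A) (φ : A →ₐ[R] B)
    (h1 : (Localization.awayMap φ.toRingHom (algebraMap R A f)).Etale)
    (h2 : (Algebra.TensorProduct.map (AlgHom.id R R') φ).toRingHom.Etale) :
    φ.toRingHom.Etale := by
  rw [RingHom.Etale.iff_flat_and_formallyUnramified] at h1 h2 ⊢
  obtain ⟨h1f, h1u, h1p⟩ := h1
  obtain ⟨h2f, h2u, h2p⟩ := h2
  exact ⟨H6xGlueFlat.ringHom_flat_of_loc_of_tensor hq hA φ h1f h2f,
    ringHom_unramified_of_loc_of_tensor hq φ h1u h2u,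
    H6xGlueFP.ringHom_fp_of_loc_of_tensor hq hA φ h1f h1p h2f h2p⟩

end Main

end Groth.Agent.Lib.H6xGlueEtale
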