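import Groth.Agent.Lib.H6xGlueFlat
import Mathlib.RingTheory.FiniteStability
import Mathlib.RingTheory.Flat.Equalizer
import Mathlib.RingTheory.Localization.BaseChange
import Mathlib.RingTheory.RingHom.FinitePresentation

/-!
helper6: finite presentation of flat ring maps along a glueing pair.
-/

set_option autoImplicit false
universe u

namespace Groth.Agent.Lib.H6xGlueFP

open TensorProduct

attribute [local instance] Algebra.TensorProduct.rightAlgebra

section ModFinite

variable {R R' : Type u} [CommRing R] [CommRing R'] [Algebra R R'] {f : R}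

/-- Variant of `Helper16.module_finite_of_loc_of_tensor` with an arbitrary model of `R_f` and the
localized module written as a base change. -/
theorem module_finite_of_loc_of_tensor' (hq : EtGlue.QuotPowBijective R R' f)
    (Rf : Type u) [CommRing Rf] [Algebra R Rf] [IsLocalization.Away f Rf]
    (M : Type u) [AddCommGroup M] [Module R M] [hT : Module.Finite R' (R' ⊗[R] M)]
    [Module.Finite Rf (Rf ⊗[R] M)] :
    Module.Finite R M := by
  classical
  have : IsLocalizedModule (Submonoid.powers f) (TensorProduct.mk R Rf M 1) :=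
    (isLocalizedModule_iff_isBaseChange (Submonoid.powers f) Rf _).2
      (TensorProduct.isBaseChange R M Rf)
  obtain ⟨s₁, hs₁⟩ := Helper16.exists_finset_pow_smul_mem_span f (Aₚ := Rf)
    (TensorProduct.mk R Rf M 1)
  obtain ⟨T, hT⟩ := hT.1
  obtain ⟨N₀, hN₀fin, hN₀⟩ := TensorProduct.exists_finite_submodule_right_of_setFinite
    (T : Set (R' ⊗[R] M)) T.finite_toSet
  obtain ⟨s₂, hs₂⟩ := Module.Finite.iff_fg.mp hN₀fin
  have hle1 : Submodule.span R (s₁ : Set M) ≤ Submodule.span R ((s₁ ∪ s₂ : Finset M) : Set M) :=
    Submodule.span_mono (by simp)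
  have hle2 : N₀ ≤ Submodule.span R ((s₁ ∪ s₂ : Finset M) : Set M) := by
    rw [← hs₂]; exact Submodule.span_mono (by simp)
  refine ⟨⟨s₁ ∪ s₂, ?_⟩⟩
  refine Helper16.submodule_eq_top_of_loc_of_tensor hq _ (fun m => ?_) ?_
  · obtain ⟨n, hn⟩ := hs₁ m
    exact ⟨n, hle1 hn⟩
  · have hI : LinearMap.range ((Submodule.span R ((s₁ ∪ s₂ : Finset M) : Set M)).subtype.baseChange R')
        = ⊤ := by
      rw [eq_top_iff, ← hT, Submodule.span_le]
      intro x hx
      obtain ⟨y, rfl⟩ := hN₀ hx
      refine ⟨(Submodule.inclusion hle2).lTensor R' y, ?_⟩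
      rw [LinearMap.baseChange_eq_ltensor, ← LinearMap.comp_apply, ← LinearMap.lTensor_comp]
      rfl
    rw [LinearMap.range_eq_top] at hI
    intro x
    obtain ⟨y, hy⟩ := hI x
    exact ⟨y, hy⟩

end ModFinite

section FP

variable {A A' : Type u} [CommRing A] [CommRing A'] [Algebra A A'] {a : A}

theorem fp_of_glue (hq : EtGlue.QuotPowBijective A A' a) (B : Type u) [CommRing B] [Algebra A B]
    [Module.Flat A B] [hft : Algebra.FiniteType A B]
    (h1 : Algebra.FinitePresentation A' (A' ⊗[A] B))
    (h2 : Algebra.FinitePresentation (Localization.Away a) (Localization.Away a ⊗[A] B)) :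
    Algebra.FinitePresentation A B := by
  obtain ⟨n, π, hπ⟩ := Algebra.FiniteType.iff_quotient_mvPolynomial''.mp hft
  let _ : Algebra (MvPolynomial (Fin n) A) B := π.toRingHom.toAlgebra
  have : IsScalarTower A (MvPolynomial (Fin n) A) B :=
    IsScalarTower.of_algebraMap_eq' π.comp_algebraMap.symm
  have hsurj : Function.Surjective (algebraMap (MvPolynomial (Fin n) A) B) := hπ
  refine Algebra.FinitePresentation.of_surjective hπ ?_
  have key : ∀ (S : Type u) [CommRing S] [Algebra A S]
      [Algebra.FinitePresentation S (S ⊗[A] B)],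
      Module.Finite (S ⊗[A] MvPolynomial (Fin n) A)
        ((S ⊗[A] MvPolynomial (Fin n) A) ⊗[MvPolynomial (Fin n) A]
          (RingHom.ker (algebraMap (MvPolynomial (Fin n) A) B))) := by
    intro S _ _ _
    have hψ : Function.Surjective (Algebra.TensorProduct.map (AlgHom.id S S)
        (IsScalarTower.toAlgHom A (MvPolynomial (Fin n) A) B)) :=
      Algebra.TensorProduct.map_surjective _ _ Function.surjective_id hsurj
    have hfg := Algebra.FinitePresentation.ker_fG_of_surjective _ hψ
    have e := Algebra.kerTensorProductMapIdToAlgHomEquiv A (MvPolynomial (Fin n) A) B S hsurj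
    have : Module.Finite (S ⊗[A] MvPolynomial (Fin n) A)
        (RingHom.ker (Algebra.TensorProduct.map (AlgHom.id S S)
          (IsScalarTower.toAlgHom A (MvPolynomial (Fin n) A) B))) :=
      Module.Finite.iff_fg.mpr hfg
    exact Module.Finite.equiv e
  have hq' : EtGlue.QuotPowBijective (MvPolynomial (Fin n) A) (A' ⊗[A] MvPolynomial (Fin n) A)
      (algebraMap A (MvPolynomial (Fin n) A) a) := H6xGlueFlat.quotPow_baseChange hq
  have hloc : IsLocalization.Away (algebraMap A (MvPolynomial (Fin n) A) a)
      (Localization.Away a ⊗[A] MvPolynomial (Fin n) A) := by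
    have : IsLocalization (Algebra.algebraMapSubmonoid (MvPolynomial (Fin n) A)
        (Submonoid.powers a)) (Localization.Away a ⊗[A] MvPolynomial (Fin n) A) :=
      (Algebra.isLocalization_iff_isPushout (Submonoid.powers a) (Localization.Away a)).mpr
        inferInstance
    rw [Algebra.algebraMapSubmonoid, Submonoid.map_powers] at this
    exact this
  have hk1 := key A'
  have hk2 := key (Localization.Away a)
  have hJ : Module.Finite (MvPolynomial (Fin n) A)
      (RingHom.ker (algebraMap (MvPolynomial (Fin n) A) B)) :=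
    module_finite_of_loc_of_tensor' hq' (Localization.Away a ⊗[A] MvPolynomial (Fin n) A) _
  exact Module.Finite.iff_fg.mp hJ

end FP

section Main

variable {R R' : Type u} [CommRing R] [CommRing R'] [Algebra R R'] {f : R}
variable {A B : Type u} [CommRing A] [CommRing B] [Algebra R A] [Algebra R B]

theorem ringHom_fp_of_loc_of_tensor (hq : EtGlue.QuotPowBijective R R' f)
    (hA : EtGlue.IsGlueable R R' f A) (φ : A →ₐ[R] B)
    (h1f : (Localization.awayMap φ.toRingHom (algebraMap R A f)).Flat)
    (h1p : (Localization.awayMap φ.toRingHom (algebraMap R A f)).FinitePresentation)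
    (h2f : (Algebra.TensorProduct.map (AlgHom.id R R') φ).toRingHom.Flat)
    (h2p : (Algebra.TensorProduct.map (AlgHom.id R R') φ).toRingHom.FinitePresentation) :
    φ.toRingHom.FinitePresentation := by
  have hflat : φ.toRingHom.Flat := H6xGlueFlat.ringHom_flat_of_loc_of_tensor hq hA φ h1f h2f
  have hft : φ.toRingHom.FiniteType := Helper16.ringHom_finiteType_of_loc_of_tensor hq φ
    (RingHom.FiniteType.of_finitePresentation h1p) (RingHom.FiniteType.of_finitePresentation h2p)
  let _ : Algebra A B := φ.toRingHom.toAlgebra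
  have : IsScalarTower R A B := IsScalarTower.of_algebraMap_eq' (by
    ext r
    simp [RingHom.algebraMap_toAlgebra])
  have hflat' : Module.Flat A B := hflat
  have hft' : Algebra.FiniteType A B := hft
  set a : A := algebraMap R A f with ha
  have hqA : EtGlue.QuotPowBijective A (R' ⊗[R] A) a := H6xGlueFlat.quotPow_baseChange hq
  -- localization side
  let _ : Algebra (Localization.Away a) (Localization.Away (φ.toRingHom a)) :=
    (Localization.awayMap φ.toRingHom a).toAlgebra
  have : IsScalarTower A (Localization.Away a) (Localization.Away (φ.toRingHom a)) :=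
    IsScalarTower.of_algebraMap_eq'
      (IsLocalization.map_comp (Submonoid.powers a).le_comap_map).symm
  have : IsLocalization (Algebra.algebraMapSubmonoid B (Submonoid.powers a))
      (Localization.Away (φ.toRingHom a)) := by
    rw [Algebra.algebraMapSubmonoid, Submonoid.map_powers]
    exact Localization.isLocalization
  have hp1 : Algebra.FinitePresentation (Localization.Away a)
      (Localization.Away (φ.toRingHom a)) := h1p
  have hpoL : Algebra.IsPushout A B (Localization.Away a) (Localization.Away (φ.toRingHom a)) :=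
    Algebra.isPushout_of_isLocalization (Submonoid.powers a) (Localization.Away a) B
      (Localization.Away (φ.toRingHom a))
  have hpoL' : Algebra.IsPushout A (Localization.Away a) B
      (Localization.Away (φ.toRingHom a)) := hpoL.symm
  have hp1' : Algebra.FinitePresentation (Localization.Away a) (Localization.Away a ⊗[A] B) :=
    Algebra.FinitePresentation.equiv
      (Algebra.IsPushout.equiv A (Localization.Away a) B (Localization.Away (φ.toRingHom a))).symm
  -- tensor side
  let _ : Algebra (R' ⊗[R] A) (R' ⊗[R] B) :=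
    (Algebra.TensorProduct.map (AlgHom.id R R') φ).toRingHom.toAlgebra
  let _ : Algebra A (R' ⊗[R] B) := ((algebraMap B (R' ⊗[R] B)).comp (algebraMap A B)).toAlgebra
  have : IsScalarTower A B (R' ⊗[R] B) := IsScalarTower.of_algebraMap_eq' rfl
  have : IsScalarTower A (R' ⊗[R] A) (R' ⊗[R] B) := IsScalarTower.of_algebraMap_eq' (by
    ext x
    simp [RingHom.algebraMap_toAlgebra])
  have : IsScalarTower R (R' ⊗[R] A) (R' ⊗[R] B) := IsScalarTower.of_algebraMap_eq' (by
    ext r
    simp [RingHom.algebraMap_toAlgebra])
  have : IsScalarTower R' (R' ⊗[R] A) (R' ⊗[R] B) := IsScalarTower.of_algebraMap_eq' (by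
    ext r
    simp [RingHom.algebraMap_toAlgebra])
  have hpo : Algebra.IsPushout A B (R' ⊗[R] A) (R' ⊗[R] B) :=
    (Algebra.IsPushout.comp_iff R A R' (R' ⊗[R] A) (T := B) (T' := R' ⊗[R] B)).mp inferInstance
  have hpo' : Algebra.IsPushout A (R' ⊗[R] A) B (R' ⊗[R] B) := hpo.symm
  have hp2 : Algebra.FinitePresentation (R' ⊗[R] A) (R' ⊗[R] B) := h2p
  have hp2' : Algebra.FinitePresentation (R' ⊗[R] A) ((R' ⊗[R] A) ⊗[A] B) :=
    Algebra.FinitePresentation.equiv
      (Algebra.IsPushout.equiv A (R' ⊗[R] A) B (R' ⊗[R] B)).symm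
  exact fp_of_glue hqA B hp2' hp1'

end Main

end Groth.Agent.Lib.H6xGlueFP
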