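import Groth.Agent.Lib.Helper16Flat
import Groth.Agent.Lib.Helper16Glue
import Groth.Agent.S2004
import Groth.Agent.S2005
import Mathlib.RingTheory.RingHom.Flat

/-!
helper6: base change of a glueing pair along a glueable algebra, and flatness of ring maps
along a glueing pair.
-/

set_option autoImplicit false
universe u

namespace Groth.Agent.Lib.H6xGlueFlat

open TensorProduct

attribute [local instance] Algebra.TensorProduct.rightAlgebra

section Pair

variable {R R' : Type u} [CommRing R] [CommRing R'] [Algebra R R'] {f : R}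
variable {A : Type u} [CommRing A] [Algebra R A]

theorem algebraMap_right (a : A) : algebraMap A (R' ⊗[R] A) a = (1 : R') ⊗ₜ[R] a := rfl

theorem one_tmul_pow (n : ℕ) :
    ((1 : R') ⊗ₜ[R] ((algebraMap R A f) ^ n) : R' ⊗[R] A) = f ^ n • (1 : R' ⊗[R] A) := by
  rw [← map_pow, Algebra.algebraMap_eq_smul_one, TensorProduct.tmul_smul,
    Algebra.TensorProduct.one_def]

theorem mul_one_tmul_pow (n : ℕ) (c : R' ⊗[R] A) :
    c * ((1 : R') ⊗ₜ[R] ((algebraMap R A f) ^ n)) = f ^ n • c := by
  rw [one_tmul_pow, mul_smul_comm, mul_one]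

theorem quotPow_baseChange (hq : EtGlue.QuotPowBijective R R' f) :
    EtGlue.QuotPowBijective A (R' ⊗[R] A) (algebraMap R A f) := by
  intro n hn
  constructor
  · rw [injective_iff_map_eq_zero]
    intro x hx
    obtain ⟨a, rfl⟩ := Ideal.Quotient.mk_surjective x
    rw [Ideal.quotientMap_mk, Ideal.Quotient.eq_zero_iff_mem, Ideal.map_span, Set.image_singleton,
      Ideal.mem_span_singleton'] at hx
    obtain ⟨c, hc⟩ := hx
    rw [algebraMap_right, algebraMap_right, mul_one_tmul_pow] at hc
    rw [Ideal.Quotient.eq_zero_iff_mem]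
    set J : Ideal A := Ideal.span {(algebraMap R A f) ^ n} with hJ
    have hT : ∀ t : A ⧸ J, ∃ k : ℕ, f ^ k • t = 0 := by
      intro t
      obtain ⟨b, rfl⟩ := Ideal.Quotient.mk_surjective t
      refine ⟨n, ?_⟩
      rw [← Ideal.Quotient.mk_eq_mk, ← Submodule.Quotient.mk_smul, Submodule.Quotient.mk_eq_zero]
      rw [Algebra.smul_def, map_pow]
      exact Ideal.mul_mem_right _ _ (Ideal.subset_span rfl)
    have hkill : ∀ y : R' ⊗[R] (A ⧸ J), f ^ n • y = 0 := by
      intro y
      induction y using TensorProduct.induction_on with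
      | zero => simp
      | add y₁ y₂ h₁ h₂ => rw [smul_add, h₁, h₂, add_zero]
      | tmul r' t =>
        obtain ⟨b, rfl⟩ := Ideal.Quotient.mk_surjective t
        rw [← TensorProduct.tmul_smul, ← Ideal.Quotient.mk_eq_mk, ← Submodule.Quotient.mk_smul,
          (Submodule.Quotient.mk_eq_zero _).2, TensorProduct.tmul_zero]
        rw [Algebra.smul_def, map_pow]
        exact Ideal.mul_mem_right _ _ (Ideal.subset_span rfl)
    have h0 := congrArg (LinearMap.lTensor R' ((Ideal.Quotient.mkₐ R J).toLinearMap)) hc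
    rw [map_smul, hkill, LinearMap.lTensor_tmul] at h0
    have h1 : TensorProduct.mk R R' (A ⧸ J) 1 (Ideal.Quotient.mk J a) =
        TensorProduct.mk R R' (A ⧸ J) 1 0 := by
      rw [map_zero]
      exact h0.symm
    have := Helper16.mk_one_injective_of_torsion hq hT h1
    exact Ideal.Quotient.eq_zero_iff_mem.mp this
  · intro y
    obtain ⟨x, rfl⟩ := Ideal.Quotient.mk_surjective y
    suffices h : ∃ a : A, x - (1 : R') ⊗ₜ[R] a ∈
        Ideal.map (algebraMap A (R' ⊗[R] A)) (Ideal.span {(algebraMap R A f) ^ n}) by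
      obtain ⟨a, ha⟩ := h
      refine ⟨Ideal.Quotient.mk _ a, ?_⟩
      rw [Ideal.quotientMap_mk, eq_comm, Ideal.Quotient.eq]
      exact ha
    have hmem : ∀ c : R' ⊗[R] A, f ^ n • c ∈
        Ideal.map (algebraMap A (R' ⊗[R] A)) (Ideal.span {(algebraMap R A f) ^ n}) := by
      intro c
      rw [← mul_one_tmul_pow]
      exact Ideal.mul_mem_left _ _ (Ideal.mem_map_of_mem _ (Ideal.subset_span rfl))
    induction x using TensorProduct.induction_on with
    | zero => exact ⟨0, by simp⟩
    | add x₁ x₂ h₁ h₂ =>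
      obtain ⟨a₁, h₁⟩ := h₁
      obtain ⟨a₂, h₂⟩ := h₂
      refine ⟨a₁ + a₂, ?_⟩
      have := add_mem h₁ h₂
      rw [TensorProduct.tmul_add]
      convert this using 1
      abel
    | tmul r' a =>
      obtain ⟨r, s', e⟩ := Helper16.quotPow_surj hq hn r'
      refine ⟨r • a, ?_⟩
      have : r' ⊗ₜ[R] a - (1 : R') ⊗ₜ[R] (r • a) = f ^ n • (s' ⊗ₜ[R] a) := by
        rw [e, TensorProduct.add_tmul, TensorProduct.tmul_smul, TensorProduct.smul_tmul',
          Algebra.smul_def, mul_one, add_sub_cancel_left, ← map_pow, ← Algebra.smul_def,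
          TensorProduct.smul_tmul']
      rw [this]
      exact hmem _

theorem isGlueingPair_baseChange (hq : EtGlue.QuotPowBijective R R' f)
    (hA : EtGlue.IsGlueable R R' f A) :
    EtGlue.IsGlueingPair A (R' ⊗[R] A) (algebraMap R A f) := by
  obtain ⟨h1, h2⟩ := ((Groth.Agent.S2005.result R R' f hq A).1).mp hA
  rw [Groth.Agent.S2004.result A (R' ⊗[R] A) (algebraMap R A f) (quotPow_baseChange hq)]
  have e1 : ∀ (n : ℕ) (x : A), (algebraMap R A f) ^ n * x = f ^ n • x := by
    intro n x
    rw [← map_pow, ← Algebra.smul_def]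
  have e2 : ∀ (n : ℕ) (x : R' ⊗[R] A),
      (algebraMap A (R' ⊗[R] A) (algebraMap R A f)) ^ n * x = f ^ n • x := by
    intro n x
    rw [← map_pow, algebraMap_right, mul_comm, mul_one_tmul_pow]
  constructor
  · rintro x ⟨n, hn⟩ hx
    exact h1 x ⟨n, by rw [← e1, hn]⟩ hx
  · rintro x' ⟨n, hn⟩
    obtain ⟨m, ⟨k, hk⟩, hm⟩ := h2 x' ⟨n, by rw [← e2, hn]⟩
    exact ⟨m, ⟨k, by rw [e1, hk]⟩, hm⟩

end Pair

section Main

variable {R R' : Type u} [CommRing R] [CommRing R'] [Algebra R R'] {f : R}
variable {A B : Type u} [CommRing A] [CommRing B] [Algebra R A] [Algebra R B]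

theorem ringHom_flat_of_loc_of_tensor (hq : EtGlue.QuotPowBijective R R' f)
    (hA : EtGlue.IsGlueable R R' f A) (φ : A →ₐ[R] B)
    (h1 : (Localization.awayMap φ.toRingHom (algebraMap R A f)).Flat)
    (h2 : (Algebra.TensorProduct.map (AlgHom.id R R') φ).toRingHom.Flat) :
    φ.toRingHom.Flat := by
  let _ : Algebra A B := φ.toRingHom.toAlgebra
  have : IsScalarTower R A B := IsScalarTower.of_algebraMap_eq' (by
    ext r
    simp [RingHom.algebraMap_toAlgebra])
  set a : A := algebraMap R A f with ha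
  have hpair : EtGlue.IsGlueingPair A (R' ⊗[R] A) a := isGlueingPair_baseChange hq hA
  -- localization side
  let _ : Algebra (Localization.Away a) (Localization.Away (φ.toRingHom a)) :=
    (Localization.awayMap φ.toRingHom a).toAlgebra
  have : IsScalarTower A (Localization.Away a) (Localization.Away (φ.toRingHom a)) :=
    IsScalarTower.of_algebraMap_eq'
      (IsLocalization.map_comp (Submonoid.powers a).le_comap_map).symm
  have : IsLocalization (Algebra.algebraMapSubmonoid B (Submonoid.powers a))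
      (Localization.Away (φ.toRingHom a)) := by
    rw [Algebra.algebraMapSubmonoid, Submonoid.map_powers]
    exact Localization.isLocalization
  have hf1 : Module.Flat (Localization.Away a) (Localization.Away (φ.toRingHom a)) := h1
  have hf2 : Module.Flat A (Localization.Away a) := IsLocalization.flat _ (Submonoid.powers a)
  have hf3 : Module.Flat A (Localization.Away (φ.toRingHom a)) :=
    Module.Flat.trans A (Localization.Away a) _
  have hloc : IsLocalizedModule (Submonoid.powers a)
      (IsScalarTower.toAlgHom A B (Localization.Away (φ.toRingHom a))).toLinearMap :=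
    (isLocalizedModule_iff_isLocalization).2 inferInstance
  have hf4 : Module.Flat A (LocalizedModule (Submonoid.powers a) B) :=
    Module.Flat.of_linearEquiv (IsLocalizedModule.iso (Submonoid.powers a)
      (IsScalarTower.toAlgHom A B (Localization.Away (φ.toRingHom a))).toLinearMap)
  -- tensor side
  let _ : Algebra (R' ⊗[R] A) (R' ⊗[R] B) :=
    (Algebra.TensorProduct.map (AlgHom.id R R') φ).toRingHom.toAlgebra
  let _ : Algebra A (R' ⊗[R] B) := ((algebraMap B (R' ⊗[R] B)).comp (algebraMap A B)).toAlgebra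
  have : IsScalarTower A B (R' ⊗[R] B) := IsScalarTower.of_algebraMap_eq' rfl
  have : IsScalarTower A (R' ⊗[R] A) (R' ⊗[R] B) := IsScalarTower.of_algebraMap_eq' (by
    ext x
    simp [RingHom.algebraMap_toAlgebra])
  have : IsScalarTower R (R' ⊗[R] A) (R' ⊗[R] B) := IsScalarTower.of_algebraMap_eq' (by
    ext r
    simp [RingHom.algebraMap_toAlgebra])
  have : IsScalarTower R' (R' ⊗[R] A) (R' ⊗[R] B) := IsScalarTower.of_algebraMap_eq' (by
    ext r
    simp [RingHom.algebraMap_toAlgebra])
  have hpo : Algebra.IsPushout A B (R' ⊗[R] A) (R' ⊗[R] B) :=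
    (Algebra.IsPushout.comp_iff R A R' (R' ⊗[R] A) (T := B) (T' := R' ⊗[R] B)).mp inferInstance
  have hpo' : Algebra.IsPushout A (R' ⊗[R] A) B (R' ⊗[R] B) := hpo.symm
  have hg1 : Module.Flat (R' ⊗[R] A) (R' ⊗[R] B) := h2
  have hg2 : Module.Flat (R' ⊗[R] A) ((R' ⊗[R] A) ⊗[A] B) :=
    Module.Flat.of_linearEquiv
      (Algebra.IsPushout.equiv A (R' ⊗[R] A) B (R' ⊗[R] B)).toLinearEquiv
  exact Helper16.flat_of_glueingPair' hpair hf4

end Main

end Groth.Agent.Lib.H6xGlueFlat
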