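import Mathlib
import Groth.Agent.Lib.H6xGorE
import Groth.Agent.Lib.Helper5GorBC
set_option backward.isDefEq.respectTransparency.types false

/-!
# Base change of dualizing complexes along extensions of the ground field (helper6)
-/

set_option autoImplicit false
set_option linter.style.haveILetI false
universe u

namespace Groth.Agent.Lib.H6xGor

open CategoryTheory CategoryTheory.Limits Category Pretriangulated DerivedCategory TensorProduct
open Groth.Agent.Lib.Helper1.Extend Groth.Agent.Lib.Helper1.LDer Groth.Agent.Lib.H6xLoc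
open Groth.Agent.Lib.H6xDual Groth.Agent.Lib.H6xBid Groth.Agent.Lib.H6xFBC
attribute [local instance] HasDerivedCategory.standard

section Transport

variable {A B' B : Type u} [CommRing A] [CommRing B'] [CommRing B] [Algebra A B'] [Algebra A B]
  [IsNoetherianRing B'] [IsNoetherianRing B] [Module.Flat A B'] [Module.Flat A B]

/-- transport of the ascent statement along an isomorphism of `A`-algebras -/
theorem isDualizing_extD_of_algEquiv (e : B' ≃ₐ[A] B) (ω : Dual.D A)
    (h : Dual.IsDualizing B' ((extD A B').obj ω)) : Dual.IsDualizing B ((extD A B).obj ω) := by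
  letI : Algebra B' B := (e : B' →+* B).toAlgebra
  haveI : IsScalarTower A B' B := IsScalarTower.of_algebraMap_eq (fun a => (e.commutes a).symm)
  let l : B ≃ₗ[B'] B' :=
    { toFun := e.symm
      invFun := e
      left_inv := e.apply_symm_apply
      right_inv := e.symm_apply_apply
      map_add' := map_add e.symm
      map_smul' := fun b' b => by
        change e.symm (e b' * b) = b' * e.symm b
        rw [map_mul, e.symm_apply_apply] }
  haveI : Module.Flat B' B := Module.Flat.of_linearEquiv l
  have h1 : Dual.IsDualizing B ((extD B' B).obj ((extD A B').obj ω)) :=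
    isDualizing_extD_of_forall_maximal_map _ h
      (fun n _ => Ideal.map_comap_of_surjective _ e.surjective n)
  obtain ⟨ε⟩ := nonempty_extD_comp_iso A B' B ω
  exact isDualizing_of_iso ε h1

end Transport

section Dim

variable {A B : Type u} [CommRing A] [CommRing B] [Algebra A B]

/-- `K ⊗ B` has dimension `≤ r` for a field `K` and an algebra `B` generated by `r` elements -/
lemma ringKrullDim_field_tensor_le (K : Type u) [Field K] [Algebra A K] (r : ℕ)
    (f : MvPolynomial (Fin r) A →ₐ[A] B) (hf : Function.Surjective f) :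
    ringKrullDim (K ⊗[A] B) ≤ r := by
  let g : K ⊗[A] MvPolynomial (Fin r) A →ₐ[K] K ⊗[A] B :=
    Algebra.TensorProduct.map (AlgHom.id K K) f
  have hg : Function.Surjective g := by
    intro x
    induction x using TensorProduct.induction_on with
    | zero => exact ⟨0, map_zero g⟩
    | tmul a b =>
      obtain ⟨q, rfl⟩ := hf b
      exact ⟨a ⊗ₜ q, Algebra.TensorProduct.map_tmul _ _ _ _⟩
    | add x y hx hy =>
      obtain ⟨x', rfl⟩ := hx
      obtain ⟨y', rfl⟩ := hy
      exact ⟨x' + y', map_add g x' y'⟩
  let e := (MvPolynomial.algebraTensorAlgEquiv (σ := Fin r) A K).symm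
  have h1 := ringKrullDim_le_of_surjective
    ((g.comp e.toAlgHom).toRingHom)
    (by
      intro y
      obtain ⟨x, rfl⟩ := hg y
      obtain ⟨z, rfl⟩ := e.surjective x
      exact ⟨z, rfl⟩)
  refine le_trans h1 ?_
  rw [MvPolynomial.ringKrullDim_of_isNoetherianRing, ringKrullDim_eq_zero_of_field, zero_add,
    Nat.card_fin]

end Dim

section Field

variable (k K : Type u) [Field k] [Field K] [Algebra k K] (A : Type u) [CommRing A] [Algebra k A]
  [Algebra.FiniteType k A]

/-- ascent along `A → A ⊗[k] K` -/
theorem isDualizing_extD_tensor_field [IsNoetherianRing A] [IsNoetherianRing (A ⊗[k] K)]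
    (ω : Dual.D A) (hω : Dual.IsDualizing A ω) :
    Dual.IsDualizing (A ⊗[k] K) ((extD A (A ⊗[k] K)).obj ω) := by
  obtain ⟨r, f, hf⟩ := Algebra.FiniteType.iff_quotient_mvPolynomial''.1
    (inferInstance : Algebra.FiniteType k A)
  have hdim : ringKrullDim (A ⊗[k] K) ≤ r := by
    rw [ringKrullDim_eq_of_ringEquiv (Algebra.TensorProduct.comm k A K).toRingEquiv]
    exact ringKrullDim_field_tensor_le K r f hf
  refine isDualizing_extD_of_gorenstein_fibLocRing ω hω r (fun q hq => ⟨?_, ?_⟩)
  · refine (Groth.Agent.Lib.Helper5.GorRing.forall_gor_fiber_iff (A := A)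
      (B := A ⊗[k] K)).mp ?_ q
    intro p hp
    haveI : Algebra.EssFiniteType k p.ResidueField :=
      Algebra.EssFiniteType.comp k A p.ResidueField
    haveI : LocCoh.IsGorensteinRing (p.ResidueField ⊗[k] K) :=
      Groth.Agent.Lib.Helper5.GorBC.gorRing_tensor_field_of_essFiniteType k p.ResidueField K
    exact Groth.Agent.Lib.Helper5.GorRing.gorRing_of_ringEquiv (R := p.ResidueField ⊗[k] K)
      (Algebra.TensorProduct.cancelBaseChange k A p.ResidueField p.ResidueField K).symm.toRingEquiv
  · refine le_trans (ringKrullDim_quotient_le _) ?_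
    rw [IsLocalization.AtPrime.ringKrullDim_eq_height q (Localization.AtPrime q)]
    exact le_trans Ideal.height_le_ringKrullDim_of_isPrime hdim

end Field

end Groth.Agent.Lib.H6xGor

namespace Groth.Agent.Lib.H6xGor

open CategoryTheory CategoryTheory.Limits Category Pretriangulated DerivedCategory TensorProduct
open Groth.Agent.Lib.Helper1.Extend Groth.Agent.Lib.Helper1.LDer Groth.Agent.Lib.H6xLoc
open Groth.Agent.Lib.H6xDual Groth.Agent.Lib.H6xBid Groth.Agent.Lib.H6xFBC
attribute [local instance] HasDerivedCategory.standard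

/-- **S8932** -/
theorem isDualizing_LBaseChange_fieldExtension (k K : Type u) [Field k] [Field K] [Algebra k K]
    (A : Type u) [CommRing A] [Algebra k A] [Algebra.FiniteType k A]
    [hL : DRing.HasLBaseChange (Algebra.TensorProduct.includeRight : A →ₐ[k] K ⊗[k] A).toRingHom]
    (ω : Dual.D A) (hω : Dual.IsDualizing A ω) :
    Dual.IsDualizing (K ⊗[k] A)
      ((DRing.LBaseChange (Algebra.TensorProduct.includeRight : A →ₐ[k] K ⊗[k] A).toRingHom).obj
        ω) := by
  haveI : IsNoetherianRing A := hω.isNoetherianRing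
  haveI : IsNoetherianRing (K ⊗[k] A) := Algebra.FiniteType.isNoetherianRing K (K ⊗[k] A)
  haveI : IsNoetherianRing (A ⊗[k] K) :=
    isNoetherianRing_of_ringEquiv _ (Algebra.TensorProduct.comm k K A).toRingEquiv
  have h1 := isDualizing_extD_tensor_field k K A ω hω
  letI alg : Algebra A (K ⊗[k] A) :=
    (Algebra.TensorProduct.includeRight : A →ₐ[k] K ⊗[k] A).toRingHom.toAlgebra
  let e : A ⊗[k] K ≃ₐ[A] K ⊗[k] A :=
    AlgEquiv.ofRingEquiv (f := (Algebra.TensorProduct.comm k A K).toRingEquiv) (fun a => by
      change Algebra.TensorProduct.comm k A K (a ⊗ₜ[k] (1 : K)) = (1 : K) ⊗ₜ[k] a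
      exact Algebra.TensorProduct.comm_tmul k a 1)
  haveI : Module.Flat A (K ⊗[k] A) := Module.Flat.of_linearEquiv e.symm.toLinearEquiv
  have h2 := isDualizing_extD_of_algEquiv e ω h1
  haveI : DRing.HasLBaseChange (algebraMap A (K ⊗[k] A)) := hL
  obtain ⟨ε⟩ := Groth.Agent.Lib.H6xPCDesc.nonempty_lbc_iso_extD (A := A) (B := K ⊗[k] A) ω
  exact isDualizing_of_iso ε.symm h2

end Groth.Agent.Lib.H6xGor
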