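import Mathlib
import Groth.Agent.Lib.H6xGorE
import Groth.Agent.Lib.Helper5KoszulBC
set_option backward.isDefEq.respectTransparency.types false

/-!
# Dualizing complexes and faithfully flat local complete intersection maps (helper6)
-/

set_option autoImplicit false
set_option linter.style.haveILetI false
universe u

namespace Groth.Agent.Lib.H6xGor

open CategoryTheory TensorProduct
attribute [local instance] HasDerivedCategory.standard

/-- **S1829** -/
theorem isDualizing_iff_LBaseChange_of_isLCI (A B : Type u) [CommRing A] [CommRing B]
    [Algebra A B] [IsNoetherianRing A] [IsNoetherianRing B] [Module.FaithfullyFlat A B]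
    (hl : LCI.IsLCI A B) [DRing.HasLBaseChange (algebraMap A B)] (K : Dual.D A) :
    Dual.IsDualizing A K ↔ Dual.IsDualizing B ((DRing.LBaseChange (algebraMap A B)).obj K) := by
  haveI : Algebra.FiniteType A B := hl.1
  exact isDualizing_iff_LBaseChange_of_gorenstein_fibres
    (fun p => Groth.Agent.Lib.Helper5.KoszulBC.gorRing_tensor_field_of_flat_isLCI A B hl
      p.asIdeal.ResidueField) K

end Groth.Agent.Lib.H6xGor
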