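import Mathlib
import Groth.Agent.Lib.H6xGorD
import Groth.Agent.Lib.H6xFBCH
import Groth.Agent.S0339
set_option backward.isDefEq.respectTransparency.types false

/-!
# Fibres of flat local maps along which a dualizing complex stays dualizing are Gorenstein
(helper6)
-/

set_option autoImplicit false
set_option linter.style.haveILetI false
universe u

namespace Groth.Agent.Lib.H6xGor

open CategoryTheory CategoryTheory.Limits Category Pretriangulated DerivedCategory TensorProduct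
open Groth.Agent.Lib.Helper1.Extend Groth.Agent.Lib.Helper1.LDer Groth.Agent.Lib.H6xLoc
open Groth.Agent.Lib.H6xDual Groth.Agent.Lib.H6xBid Groth.Agent.Lib.H6xFBC
open Groth.Agent.Lib.H6xDimFn
attribute [local instance] HasDerivedCategory.standard

section L1

variable {F : Type u} [CommRing F]

/-- if `Y` has `Hom(F, Y⟦j⟧) = 0` for `j ≠ d` and `Hom(F, Y⟦d⟧) ≅ F`, then
`Hom(L, Y⟦i⟧) ≃ Ext^{i-d}(L, F)` -/
theorem nonempty_homEquiv_of_single_free (Y : Dual.D F) (d : ℤ)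
    (h0 : ∀ j : ℤ, j ≠ d → Subsingleton (Dual.inD F F ⟶ Y⟦j⟧))
    (h1 : Nonempty ((Dual.inD F F ⟶ Y⟦d⟧) ≃ₗ[F] F)) (L : ModuleCat.{u} F) (i m : ℤ)
    (hm : -d + i = m) :
    Nonempty ((sg L ⟶ Y⟦i⟧) ≃ (sg L ⟶ (sg (ModuleCat.of F F))⟦m⟧)) := by
  have hHD : ∀ j : ℤ, j ≠ d → Subsingleton (Dual.HD F Y j) := by
    intro j hj
    obtain ⟨e⟩ := nonempty_hom_linearEquiv_HD Y j
    haveI := h0 j hj
    exact e.symm.toEquiv.subsingleton
  obtain ⟨M, ⟨eY⟩, ⟨eM⟩⟩ := exists_iso_single_of_HD Y d hHD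
  obtain ⟨eH⟩ := nonempty_hom_linearEquiv_HD Y d
  obtain ⟨e1⟩ := h1
  let eMF : M ≅ ModuleCat.of F F := (eM ≪≫ₗ eH.symm ≪≫ₗ e1).toModuleIso
  let σ : (sg (ModuleCat.of F F))⟦-d⟧ ≅
      (DerivedCategory.singleFunctor (ModuleCat.{u} F) d).obj (ModuleCat.of F F) :=
    ((DerivedCategory.singleFunctors (ModuleCat.{u} F)).shiftIso (-d) d 0 (by omega)).app
      (ModuleCat.of F F)
  let eY' : Y ≅ (sg (ModuleCat.of F F))⟦-d⟧ :=
    eY ≪≫ (DerivedCategory.singleFunctor (ModuleCat.{u} F) d).mapIso eMF ≪≫ σ.symm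
  exact ⟨(((shiftFunctor (Dual.D F) i).mapIso eY').homToEquiv (Z := sg L)).trans
    (shiftAddHomEquiv (sg L) (sg (ModuleCat.of F F)) (-d) i m hm).symm⟩

end L1

section L2

variable {R : Type u} [CommRing R] (I : Ideal R)

/-- transfer along `R → R/I`: `Ext^i_R(L, W) ≃ Ext^{i-d}_{R/I}(L, R/I)` for `R/I`-modules `L` when
`Ext^j_R(R/I, W)` vanishes for `j ≠ d` and is `R/I` for `j = d` -/
theorem nonempty_homEquiv_of_quotient (W : Dual.D R) (d : ℤ)
    (h0 : ∀ j : ℤ, j ≠ d → Subsingleton (Dual.inD R (R ⧸ I) ⟶ W⟦j⟧))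
    (h1 : Nonempty ((Dual.inD R (R ⧸ I) ⟶ W⟦d⟧) ≃ₗ[R] (R ⧸ I)))
    (L : Type u) [AddCommGroup L] [Module R L] [Module (R ⧸ I) L] [IsScalarTower R (R ⧸ I) L]
    (i m : ℤ) (hm : -d + i = m) :
    Nonempty ((Dual.inD R L ⟶ W⟦i⟧) ≃
      (sg (ModuleCat.of (R ⧸ I) L) ⟶ (sg (ModuleCat.of (R ⧸ I) (R ⧸ I)))⟦m⟧)) := by
  obtain ⟨RG, ⟨adj⟩⟩ := Groth.Agent.Lib.H6xCoext.exists_rightAdjoint (algebraMap R (R ⧸ I))
  obtain ⟨e1⟩ := h1
  let NF : ModuleCat.{u} (R ⧸ I) := ModuleCat.of (R ⧸ I) (R ⧸ I)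
  let MF : ModuleCat.{u} R := ModuleCat.of R (R ⧸ I)
  let eF : MF ≅ rN (A := R) NF :=
    (restrictEquiv (A := R) (B := R ⧸ I) (R ⧸ I)).symm.toModuleIso
  have h0' : ∀ j : ℤ, j ≠ d → Subsingleton (Dual.inD (R ⧸ I) (R ⧸ I) ⟶ (RG.obj W)⟦j⟧) :=
    fun j hj => (Φ RG adj NF MF eF W j).subsingleton_congr.2 (h0 j hj)
  have h1' : Nonempty ((Dual.inD (R ⧸ I) (R ⧸ I) ⟶ (RG.obj W)⟦d⟧) ≃ₗ[R ⧸ I] (R ⧸ I)) := by
    refine ⟨{ toFun := fun x => e1 (Φ RG adj NF MF eF W d x)
              invFun := fun y => (Φ RG adj NF MF eF W d).symm (e1.symm y)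
              left_inv := fun x => by
                dsimp only
                rw [LinearEquiv.symm_apply_apply, Equiv.symm_apply_apply]
              right_inv := fun y => by
                dsimp only
                rw [Equiv.apply_symm_apply, LinearEquiv.apply_symm_apply]
              map_add' := fun x x' => by
                rw [Φ_add, map_add]
              map_smul' := fun f x => by
                obtain ⟨r, rfl⟩ := Ideal.Quotient.mk_surjective f
                have h2 := Φ_smul RG adj NF MF eF W d r x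
                rw [Ideal.Quotient.algebraMap_eq] at h2
                rw [h2, map_smul, RingHom.id_apply, Algebra.smul_def,
                  Ideal.Quotient.algebraMap_eq]
                rfl }⟩
  obtain ⟨e3⟩ := nonempty_homEquiv_of_single_free (RG.obj W) d h0' h1'
    (ModuleCat.of (R ⧸ I) L) i m hm
  exact ⟨(Φ RG adj (ModuleCat.of (R ⧸ I) L) (ModuleCat.of R L)
    (restrictEquiv (A := R) (B := R ⧸ I) L).symm.toModuleIso W i).symm.trans e3⟩

end L2

end Groth.Agent.Lib.H6xGor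

namespace Groth.Agent.Lib.H6xGor

open CategoryTheory CategoryTheory.Limits Category Pretriangulated DerivedCategory TensorProduct
open Groth.Agent.Lib.Helper1.Extend Groth.Agent.Lib.Helper1.LDer Groth.Agent.Lib.H6xLoc
open Groth.Agent.Lib.H6xDual Groth.Agent.Lib.H6xBid Groth.Agent.Lib.H6xFBC
open Groth.Agent.Lib.H6xDimFn
attribute [local instance] HasDerivedCategory.standard

section Rev

variable {A R : Type u} [CommRing A] [CommRing R] [Algebra A R] [IsNoetherianRing A]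
  [IsNoetherianRing R] [Module.Flat A R]

/-- **descent of the Gorenstein property to the closed fibre**: for a flat map `A → R` to a local
ring and a maximal ideal `m` of `A` with `mR ≤ m_R`, if the base change of a dualizing complex of
`A` is dualizing for `R` then `R/mR` is a Gorenstein local ring -/
theorem isGorensteinLocalRing_quotient_of_isDualizing_extD [IsLocalRing R] (ω : Dual.D A)
    (hω : Dual.IsDualizing A ω) (m : Ideal A) [hm : m.IsMaximal] (I : Ideal R)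
    (hI : m.map (algebraMap A R) = I) (hIm : I ≤ IsLocalRing.maximalIdeal R)
    (hW : Dual.IsDualizing R ((extD A R).obj ω)) : LocCoh.IsGorensteinLocalRing (R ⧸ I) := by
  subst hI
  set I : Ideal R := m.map (algebraMap A R) with hIdef
  have hItop : I ≠ ⊤ := fun h => (IsLocalRing.maximalIdeal.isMaximal R).ne_top
    (top_le_iff.1 (h ▸ hIm))
  haveI hloc : IsLocalRing (R ⧸ I) := by
    haveI : Nontrivial (R ⧸ I) := Ideal.Quotient.nontrivial_iff.mpr hItop
    exact IsLocalRing.of_surjective' (Ideal.Quotient.mk I) Ideal.Quotient.mk_surjective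
  obtain ⟨d, hd0, ⟨ed⟩⟩ := ext_residueField_single_degree A ω hω m
  have h0 : ∀ j : ℤ, j ≠ d → Subsingleton
      (Dual.inD R (R ⧸ I) ⟶ ((extD A R).obj ω)⟦j⟧) := fun j hj =>
    subsingleton_hom_tensor ω hω (A ⧸ m) j (hd0 j hj) (R ⧸ I) (tensorQuotEquiv m _ rfl)
  have h1 := nonempty_hom_linearEquiv_of_flat (R := R) ω hω m d ed
  obtain ⟨e, he0, -⟩ := ext_residueField_single_degree R _ hW (IsLocalRing.maximalIdeal R)
  -- the residue field of `R/I` as an `R`-module
  have hs : Function.Surjective (algebraMap R (R ⧸ I)) := Ideal.Quotient.mk_surjective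
  have hcomap : (IsLocalRing.maximalIdeal (R ⧸ I)).comap (algebraMap R (R ⧸ I)) =
      IsLocalRing.maximalIdeal R := by
    haveI := Ideal.comap_isMaximal_of_surjective (algebraMap R (R ⧸ I)) hs
      (K := IsLocalRing.maximalIdeal (R ⧸ I))
    exact IsLocalRing.eq_maximalIdeal inferInstance
  let e' : (R ⧸ IsLocalRing.maximalIdeal R) ≃ₗ[R]
      ((R ⧸ I) ⧸ IsLocalRing.maximalIdeal (R ⧸ I)) :=
    (Submodule.quotEquivOfEq _ _ hcomap.symm) ≪≫ₗ
      quotLinearEquiv hs (IsLocalRing.maximalIdeal (R ⧸ I)) ≪≫ₗ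
      restrictEquiv (A := R) (B := R ⧸ I) ((R ⧸ I) ⧸ IsLocalRing.maximalIdeal (R ⧸ I))
  let r' : ℕ := (e - d).toNat
  have hk : ∀ i > r', Subsingleton (Abelian.Ext
      (ModuleCat.of (R ⧸ I) (IsLocalRing.ResidueField (R ⧸ I)))
      (ModuleCat.of (R ⧸ I) (R ⧸ I)) i) := by
    intro i hi
    have hie : d + (i : ℤ) ≠ e := by
      have : (e - d).toNat < i := hi
      omega
    have h2 : Subsingleton (Dual.inD R ((R ⧸ I) ⧸ IsLocalRing.maximalIdeal (R ⧸ I)) ⟶
        ((extD A R).obj ω)⟦d + (i : ℤ)⟧) :=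
      subsingleton_hom_of_linearEquiv e'.symm _ (he0 _ hie)
    obtain ⟨e3⟩ := nonempty_homEquiv_of_quotient I ((extD A R).obj ω) d h0 h1
      ((R ⧸ I) ⧸ IsLocalRing.maximalIdeal (R ⧸ I)) (d + (i : ℤ)) (i : ℤ) (by ring)
    have h3 : Subsingleton (sg (ModuleCat.of (R ⧸ I)
        ((R ⧸ I) ⧸ IsLocalRing.maximalIdeal (R ⧸ I))) ⟶
        (sg (ModuleCat.of (R ⧸ I) (R ⧸ I)))⟦(i : ℤ)⟧) := e3.subsingleton_congr.1 h2
    exact @Equiv.subsingleton _ _
      (Abelian.Ext.homEquiv (X := ModuleCat.of (R ⧸ I) (IsLocalRing.ResidueField (R ⧸ I)))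
        (Y := ModuleCat.of (R ⧸ I) (R ⧸ I)) (n := i)) h3
  have hinj := Groth.Agent.S0339.injdim_of_ext_residue r' (ModuleCat.of (R ⧸ I) (R ⧸ I)) hk
  exact { exists_hasInjectiveDimensionLT := ⟨r' + 1, hinj⟩ }

end Rev

end Groth.Agent.Lib.H6xGor
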