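import Mathlib
import Groth.Agent.Lib.H6xGorI
import Groth.Agent.Lib.Helper19ComplNoeth
set_option backward.isDefEq.respectTransparency.types false

/-!
# The formal fibres of a local ring with a dualizing complex are Gorenstein (helper6)
-/

set_option autoImplicit false
set_option linter.style.haveILetI false
universe u

namespace Groth.Agent.Lib.H6xGor

open CategoryTheory CategoryTheory.Limits Category Pretriangulated DerivedCategory TensorProduct
open Groth.Agent.Lib.Helper1.Extend Groth.Agent.Lib.Helper1.LDer Groth.Agent.Lib.H6xLoc
open Groth.Agent.Lib.H6xDual Groth.Agent.Lib.H6xBid Groth.Agent.Lib.H6xFBC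
open Groth.Agent.Lib.H6xDimFn
attribute [local instance] HasDerivedCategory.standard

/-- **S1779** in `extD` form -/
theorem isDualizing_extD_adicCompletion (A : Type u) [CommRing A] [IsNoetherianRing A]
    (I : Ideal A) [IsNoetherianRing (AdicCompletion I A)] (ω : Dual.D A)
    (hω : Dual.IsDualizing A ω) :
    Dual.IsDualizing (AdicCompletion I A) ((extD A (AdicCompletion I A)).obj ω) := by
  have fg : I.FG := IsNoetherian.noetherian I
  haveI := AdicCompletion.isAdicComplete_self I fg
  have hJ : I.map (algebraMap A (AdicCompletion I A)) ≤ (⊥ : Ideal (AdicCompletion I A)).jacobson :=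
    IsAdicComplete.le_jacobson_bot _
  refine isDualizing_extD_of_iso_mod_ideal I ?_ hJ ω hω
  intro y
  obtain ⟨b, rfl⟩ := Ideal.Quotient.mk_surjective y
  obtain ⟨a, ha⟩ := Ideal.Quotient.mk_surjective (AdicCompletion.evalOneₐ I b)
  refine ⟨a, ?_⟩
  rw [RingHom.comp_apply, Ideal.Quotient.eq, ← AdicCompletion.ker_evalOneₐ_eq_map I fg,
    RingHom.mem_ker]
  show AdicCompletion.evalOneₐ I (algebraMap A (AdicCompletion I A) a - b) = 0
  rw [map_sub, sub_eq_zero, ← ha]
  exact (AdicCompletion.evalOneₐ_of I a)

section Gen

variable {A B : Type u} [CommRing A] [CommRing B] [Algebra A B] [IsNoetherianRing A]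
  [IsNoetherianRing B] [Module.Flat A B]

/-- if the base change of a dualizing complex along a flat map is dualizing then all fibre local
rings are Gorenstein -/
theorem isGorensteinLocalRing_fibLocRing_of_isDualizing_extD (ω : Dual.D A)
    (hω : Dual.IsDualizing A ω) (hωB : Dual.IsDualizing B ((extD A B).obj ω))
    (n : Ideal B) [hn : n.IsPrime] : LocCoh.IsGorensteinLocalRing (EGA4.FibLocRing A B n) := by
  set p : Ideal A := n.comap (algebraMap A B) with hp
  haveI hpp : p.IsPrime := Ideal.comap_isPrime _ _
  have hlies : n.LiesOver p := ⟨rfl⟩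
  letI alg := Localization.AtPrime.algebraOfLiesOver p n
  haveI hflatB : Module.Flat B (Localization.AtPrime n) := IsLocalization.flat _ n.primeCompl
  haveI hflatA : Module.Flat A (Localization.AtPrime n) := Module.Flat.trans A B _
  haveI hflatAp : Module.Flat A (Localization.AtPrime p) := IsLocalization.flat _ p.primeCompl
  haveI hflat : Module.Flat (Localization.AtPrime p) (Localization.AtPrime n) :=
    (Module.flat_iff_of_isLocalization (Localization.AtPrime p) p.primeCompl _).mpr hflatA
  haveI : IsNoetherianRing (Localization.AtPrime p) :=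
    IsLocalization.isNoetherianRing p.primeCompl _ inferInstance
  haveI : IsNoetherianRing (Localization.AtPrime n) :=
    IsLocalization.isNoetherianRing n.primeCompl _ inferInstance
  have hωp : Dual.IsDualizing (Localization.AtPrime p)
      ((extD A (Localization.AtPrime p)).obj ω) := isDualizing_LS p.primeCompl ω hω
  have hωn : Dual.IsDualizing (Localization.AtPrime n)
      ((extD B (Localization.AtPrime n)).obj ((extD A B).obj ω)) :=
    isDualizing_LS n.primeCompl _ hωB
  obtain ⟨e1⟩ := nonempty_extD_comp_iso A (Localization.AtPrime p) (Localization.AtPrime n) ω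
  obtain ⟨e2⟩ := nonempty_extD_comp_iso A B (Localization.AtPrime n) ω
  have hW : Dual.IsDualizing (Localization.AtPrime n)
      ((extD (Localization.AtPrime p) (Localization.AtPrime n)).obj
        ((extD A (Localization.AtPrime p)).obj ω)) :=
    isDualizing_of_iso (e2 ≪≫ e1.symm) hωn
  have hpm : p.map (algebraMap A (Localization.AtPrime p)) =
      IsLocalRing.maximalIdeal (Localization.AtPrime p) :=
    IsLocalization.AtPrime.map_eq_maximalIdeal p (Localization.AtPrime p)
  have hI : (IsLocalRing.maximalIdeal (Localization.AtPrime p)).map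
      (algebraMap (Localization.AtPrime p) (Localization.AtPrime n)) =
      p.map (algebraMap A (Localization.AtPrime n)) := by
    rw [← hpm, Ideal.map_map, ← IsScalarTower.algebraMap_eq]
  have hnm : n.map (algebraMap B (Localization.AtPrime n)) =
      IsLocalRing.maximalIdeal (Localization.AtPrime n) :=
    IsLocalization.AtPrime.map_eq_maximalIdeal n (Localization.AtPrime n)
  have hIm : p.map (algebraMap A (Localization.AtPrime n)) ≤
      IsLocalRing.maximalIdeal (Localization.AtPrime n) := by
    rw [IsScalarTower.algebraMap_eq A B (Localization.AtPrime n), ← Ideal.map_map, ← hnm]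
    exact Ideal.map_mono Ideal.map_comap_le
  exact isGorensteinLocalRing_quotient_of_isDualizing_extD (A := Localization.AtPrime p)
    (R := Localization.AtPrime n) _ hωp (IsLocalRing.maximalIdeal (Localization.AtPrime p))
    (p.map (algebraMap A (Localization.AtPrime n))) hI hIm hW

/-- if the base change of a dualizing complex along a flat map is dualizing then all fibres are
Gorenstein -/
theorem isGorensteinRing_fiber_of_isDualizing_extD (ω : Dual.D A)
    (hω : Dual.IsDualizing A ω) (hωB : Dual.IsDualizing B ((extD A B).obj ω))
    (p : Ideal A) [p.IsPrime] : LocCoh.IsGorensteinRing (p.Fiber B) :=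
  (Groth.Agent.Lib.Helper5.GorRing.forall_gor_fiber_iff (A := A) (B := B)).mpr
    (fun n _ => isGorensteinLocalRing_fibLocRing_of_isDualizing_extD ω hω hωB n) p

end Gen

/-- **S1723** -/
theorem isGorensteinRing_formalFibre_of_dualizing (A : Type u) [CommRing A] [IsLocalRing A]
    [IsNoetherianRing A] (ω : Dual.D A) (hω : Dual.IsDualizing A ω) (p : PrimeSpectrum A) :
    LocCoh.IsGorensteinRing (EGA4.formalFibre A p.asIdeal) := by
  haveI : IsNoetherianRing (AdicCompletion (IsLocalRing.maximalIdeal A) A) :=
    Groth.Agent.Lib.Helper19.isNoetherianRing_adicCompletion _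
  exact isGorensteinRing_fiber_of_isDualizing_extD ω hω
    (isDualizing_extD_adicCompletion A (IsLocalRing.maximalIdeal A) ω hω) p.asIdeal

end Groth.Agent.Lib.H6xGor
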