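import Mathlib
import Groth.Prelude.Def_KGr
import Groth.Agent.Lib.Helper4LambdaFil

/-!
# The associated graded ring of the γ-filtration via the extended Rees ring (helper6)
-/

set_option autoImplicit false
universe v
open LambdaRing LaurentPolynomial
open scoped TensorProduct

namespace Groth.Agent.Lib.H6xGr

open Groth.Agent.Lib.Helper4

variable {K : Type v} [CommRing K] [LambdaOps K] (P : PosStructure K)

section Rees

omit [LambdaOps K] in
lemma coeff_C_mul_T (x : K) (n m : ℤ) :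
    (C x * T n : LaurentPolynomial K).coeff m = if n = m then x else 0 := by
  classical
  rw [← single_eq_C_mul_T, AddMonoidAlgebra.coeff_single, Finsupp.single_apply]

/-- the coefficient condition describing the extended Rees ring -/
def Good (p : LaurentPolynomial K) : Prop :=
  ∀ m : ℤ, p.coeff m ∈ gammaFiltration P (-m).toNat

variable {P}

lemma good_C_mul_T {x : K} {n : ℤ} (hx : x ∈ gammaFiltration P (-n).toNat) :
    Good P (C x * T n) := by
  intro m
  rw [coeff_C_mul_T]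
  split_ifs with h
  · subst h; exact hx
  · exact AddSubgroup.zero_mem _

lemma good_of_mem_rees {p : LaurentPolynomial K} (hp : p ∈ KGr.rees P) : Good P p := by
  rw [KGr.rees, Subring.mem_closure_iff] at hp
  -- the monomials
  let Mono : Submonoid (LaurentPolynomial K) :=
    { carrier := {p | ∃ (x : K) (n : ℤ), x ∈ gammaFiltration P (-n).toNat ∧ p = C x * T n}
      one_mem' := ⟨1, 0, by
        rw [neg_zero, Int.toNat_zero, gammaFiltration_zero]; trivial, by simp⟩
      mul_mem' := by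
        rintro _ _ ⟨x, n, hx, rfl⟩ ⟨y, m, hy, rfl⟩
        refine ⟨x * y, n + m, ?_, ?_⟩
        · have := mul_mem_gammaFiltration P _ _ x y hx hy
          exact gammaFiltration_anti P (by omega) this
        · rw [map_mul, T_add]; ring }
  have h1 : Submonoid.closure (KGr.reesGens P) ≤ Mono := by
    rw [Submonoid.closure_le]
    intro p hp
    rcases hp with rfl | ⟨n, x, hx, rfl⟩
    · refine ⟨1, 1, ?_, by simp⟩
      have : (-(1 : ℤ)).toNat = 0 := by decide
      rw [this, gammaFiltration_zero]; trivial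
    · refine ⟨x, -(n : ℤ), ?_, rfl⟩
      rw [neg_neg, Int.toNat_natCast]; exact hx
  induction hp using AddSubgroup.closure_induction with
  | mem q hq =>
    obtain ⟨x, n, hx, rfl⟩ := h1 hq
    exact good_C_mul_T hx
  | zero => intro m; exact AddSubgroup.zero_mem _
  | add a b _ _ ha hb =>
    intro m
    rw [AddMonoidAlgebra.coeff_add, Finsupp.add_apply]
    exact AddSubgroup.add_mem _ (ha m) (hb m)
  | neg a _ ha =>
    intro m
    have : (-a).coeff m = -(a.coeff m) := rfl
    rw [this]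
    exact AddSubgroup.neg_mem _ (ha m)

lemma C_mul_T_mem_rees {x : K} {n : ℤ} (hx : x ∈ gammaFiltration P (-n).toNat) :
    C x * T n ∈ KGr.rees P := by
  rcases le_or_gt n 0 with hn | hn
  · obtain ⟨k, rfl⟩ : ∃ k : ℕ, n = -(k : ℤ) := ⟨(-n).toNat, by omega⟩
    apply Subring.subset_closure
    refine Or.inr ⟨k, x, ?_, rfl⟩
    rwa [neg_neg, Int.toNat_natCast] at hx
  · obtain ⟨k, rfl⟩ : ∃ k : ℕ, n = (k : ℤ) := ⟨n.toNat, by omega⟩
    have h0 : C x * T (-((0 : ℕ) : ℤ)) ∈ KGr.rees P := by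
      apply Subring.subset_closure
      refine Or.inr ⟨0, x, ?_, rfl⟩
      rw [gammaFiltration_zero]; trivial
    have h1 : (T 1 : LaurentPolynomial K) ∈ KGr.rees P :=
      Subring.subset_closure (Or.inl rfl)
    have : C x * T (k : ℤ) = C x * T (-((0 : ℕ) : ℤ)) * (T 1) ^ k := by
      rw [T_pow, mul_one, Nat.cast_zero, neg_zero, T_zero, mul_one]
    rw [this]
    exact Subring.mul_mem _ h0 (Subring.pow_mem _ h1 k)

end Rees

section Cls

variable {P}

/-- the element `x t^{-n}` of the Rees ring, for `x ∈ F^n` -/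
noncomputable def reesElt (n : ℕ) (x : gammaFiltration P n) : KGr.rees P :=
  ⟨C (x : K) * T (-(n : ℤ)), C_mul_T_mem_rees (by rw [neg_neg, Int.toNat_natCast]; exact x.2)⟩

/-- the class of `x ∈ F^n` in degree `n` of the associated graded ring -/
noncomputable def clsHom (n : ℕ) : gammaFiltration P n →+ KGr.GrZ P where
  toFun x := Ideal.Quotient.mk _ (reesElt n x)
  map_zero' := by
    have : reesElt n (0 : gammaFiltration P n) = 0 := by
      apply Subtype.ext
      simp [reesElt]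
    rw [this, map_zero]
  map_add' x y := by
    have : reesElt n (x + y) = reesElt n x + reesElt n y := by
      apply Subtype.ext
      simp [reesElt, add_mul]
    rw [this, map_add]

lemma clsHom_apply (n : ℕ) (x : gammaFiltration P n) :
    clsHom n x = Ideal.Quotient.mk _ (reesElt n x) := rfl

lemma clsHom_mul (a b : ℕ) (x : gammaFiltration P a) (y : gammaFiltration P b) :
    clsHom a x * clsHom b y =
      clsHom (a + b) ⟨(x : K) * y, mul_mem_gammaFiltration P a b x y x.2 y.2⟩ := by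
  rw [clsHom_apply, clsHom_apply, clsHom_apply, ← map_mul]
  congr 1
  apply Subtype.ext
  simp only [reesElt, Subring.coe_mul, map_mul, Nat.cast_add, neg_add, T_add]
  ring

lemma clsHom_one : clsHom 0 ⟨(1 : K), by rw [gammaFiltration_zero]; trivial⟩ = (1 : KGr.GrZ P) := by
  rw [clsHom_apply, ← map_one (Ideal.Quotient.mk _)]
  congr 1
  apply Subtype.ext
  simp [reesElt]

lemma clsHom_eq_zero_of_mem (n : ℕ) (x : gammaFiltration P n)
    (hx : (x : K) ∈ gammaFiltration P (n + 1)) : clsHom n x = 0 := by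
  rw [clsHom_apply, Ideal.Quotient.eq_zero_iff_mem, Ideal.mem_span_singleton']
  refine ⟨reesElt (n + 1) ⟨x, hx⟩, ?_⟩
  apply Subtype.ext
  simp only [reesElt, KGr.tGen, Subring.coe_mul, Nat.cast_add, Nat.cast_one, neg_add, T_add]
  rw [mul_assoc, mul_assoc, ← T_add, ← T_add]
  congr 2
  ring

omit [LambdaOps K] in
lemma coeff_mul_T_one (q : LaurentPolynomial K) (m : ℤ) :
    (q * T 1).coeff m = q.coeff (m - 1) := by
  rw [T, AddMonoidAlgebra.coeff_mul_single_apply, mul_one, sub_eq_add_neg]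

lemma mem_of_clsHom_eq_zero (n : ℕ) (x : gammaFiltration P n) (h : clsHom n x = 0) :
    (x : K) ∈ gammaFiltration P (n + 1) := by
  rw [clsHom_apply, Ideal.Quotient.eq_zero_iff_mem, Ideal.mem_span_singleton'] at h
  obtain ⟨q, hq⟩ := h
  have h1 := congrArg (fun r : KGr.rees P => (r : LaurentPolynomial K).coeff (-(n : ℤ))) hq
  simp only [reesElt, KGr.tGen, Subring.coe_mul] at h1
  rw [coeff_mul_T_one, coeff_C_mul_T, if_pos rfl] at h1
  rw [← h1]
  have := good_of_mem_rees q.2 (-(n : ℤ) - 1)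
  have e : (-(-(n : ℤ) - 1)).toNat = n + 1 := by omega
  rwa [e] at this

end Cls

section Tensor

/-- torsion criterion for `1 ⊗ g = 0` in `ℚ ⊗ G` -/
lemma exists_nsmul_eq_zero_of_tmul_eq_zero {G : Type*} [AddCommGroup G] (g : G)
    (h : (1 : ℚ) ⊗ₜ[ℤ] g = 0) : ∃ M : ℕ, 1 ≤ M ∧ M • g = 0 := by
  have h1 : (TensorProduct.mk ℤ ℚ G 1) g = 0 := h
  rw [IsLocalizedModule.eq_zero_iff (nonZeroDivisors ℤ)] at h1
  obtain ⟨s, hs⟩ := h1
  have hs0 : (s : ℤ) ≠ 0 := nonZeroDivisors.coe_ne_zero s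
  have hs' : (s : ℤ) • g = 0 := hs
  refine ⟨(s : ℤ).natAbs, Int.natAbs_pos.mpr hs0, ?_⟩
  rcases Int.natAbs_eq (s : ℤ) with h2 | h2
  · rw [← natCast_zsmul, ← h2, hs']
  · have : ((s : ℤ).natAbs : ℤ) = -(s : ℤ) := by omega
    rw [← natCast_zsmul, this, neg_smul, hs', neg_zero]

lemma tmul_nsmul' {G : Type*} [AddCommGroup G] (q : ℚ) (N : ℕ) (g : G) :
    q ⊗ₜ[ℤ] (N • g) = ((N : ℚ) * q) ⊗ₜ[ℤ] g := by
  rw [← natCast_zsmul, ← TensorProduct.smul_tmul, zsmul_eq_mul]
  push_cast
  rfl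

lemma tmul_zsmul' {G : Type*} [AddCommGroup G] (q : ℚ) (N : ℤ) (g : G) :
    q ⊗ₜ[ℤ] (N • g) = ((N : ℚ) * q) ⊗ₜ[ℤ] g := by
  rw [← TensorProduct.smul_tmul, zsmul_eq_mul]

lemma one_div_tmul_nsmul {G : Type*} [AddCommGroup G] (N : ℕ) (hN : 1 ≤ N) (g : G) :
    ((1 : ℚ) / (N : ℚ)) ⊗ₜ[ℤ] (N • g) = (1 : ℚ) ⊗ₜ[ℤ] g := by
  rw [tmul_nsmul']
  congr 1
  have : (N : ℚ) ≠ 0 := by positivity
  field_simp

/-- every element of `ℚ ⊗ G` is of the form `(1/N) ⊗ g` -/
lemma exists_rep_tmul {G : Type*} [AddCommGroup G] (z : ℚ ⊗[ℤ] G) :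
    ∃ (N : ℕ) (g : G), 1 ≤ N ∧ z = ((1 : ℚ) / (N : ℚ)) ⊗ₜ[ℤ] g := by
  induction z using TensorProduct.induction_on with
  | zero => exact ⟨1, 0, le_rfl, by simp⟩
  | tmul q g =>
    refine ⟨q.den, q.num • g, q.pos, ?_⟩
    rw [tmul_zsmul']
    congr 1
    have : (q.den : ℚ) ≠ 0 := by exact_mod_cast q.den_nz
    rw [mul_one_div]
    exact (Rat.num_div_den q).symm
  | add a b ha hb =>
    obtain ⟨N, g, hN, rfl⟩ := ha
    obtain ⟨M, h, hM, rfl⟩ := hb
    refine ⟨N * M, M • g + N • h, Nat.mul_pos hN hM, ?_⟩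
    rw [TensorProduct.tmul_add, tmul_nsmul', tmul_nsmul']
    have hN' : (N : ℚ) ≠ 0 := by positivity
    have hM' : (M : ℚ) ≠ 0 := by positivity
    congr 2
    · push_cast; field_simp
    · push_cast; field_simp

end Tensor

section GrK

variable {P}

/-- the class of `x ∈ F^n` in `ℚGr^n` -/
noncomputable def gr (n : ℕ) : gammaFiltration P n →+ KGr.Gr P :=
  ((TensorProduct.mk ℤ ℚ (KGr.GrZ P) 1).toAddMonoidHom).comp (clsHom n)

lemma gr_apply (n : ℕ) (x : gammaFiltration P n) : gr n x = (1 : ℚ) ⊗ₜ[ℤ] clsHom n x := rfl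

lemma reesElt_nsmul (n : ℕ) (N : ℕ) (x : K) (hx : x ∈ gammaFiltration P n)
    (h : C ((N : K) * x) * T (-(n : ℤ)) ∈ KGr.rees P) :
    (⟨C ((N : K) * x) * T (-(n : ℤ)), h⟩ : KGr.rees P) = N • reesElt n ⟨x, hx⟩ := by
  apply Subtype.ext
  rw [nsmul_eq_mul]
  simp only [reesElt, map_mul, map_natCast, Subring.coe_mul, Subring.coe_natCast]
  ring

lemma grK_eq (n : ℕ) (x : K) (hx : x ∈ gammaFiltration P n) :
    KGr.grK P (n : ℤ) x = gr n ⟨x, hx⟩ := by
  have h : ∃ N : ℕ, 1 ≤ N ∧ C ((N : K) * x) * T (-(n : ℤ)) ∈ KGr.rees P := ⟨1, le_rfl, by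
    rw [Nat.cast_one, one_mul]
    exact C_mul_T_mem_rees (by rwa [neg_neg, Int.toNat_natCast])⟩
  rw [KGr.grK, dif_pos h, reesElt_nsmul n _ x hx, map_nsmul,
    one_div_tmul_nsmul _ h.choose_spec.1]
  rfl

end GrK

section Span

variable {P}

/-- `GrZ` is additively generated by the classes `clsHom n y` -/
lemma mk_mem_closure (r : KGr.rees P) :
    Ideal.Quotient.mk (Ideal.span {KGr.tGen P}) r ∈
      AddSubgroup.closure {g | ∃ (n : ℕ) (y : gammaFiltration P n), g = clsHom n y} := by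
  obtain ⟨p, hp⟩ := r
  have hg := good_of_mem_rees hp
  have hdec : (⟨p, hp⟩ : KGr.rees P) =
      ∑ m ∈ p.coeff.support, ⟨C (p.coeff m) * T m, C_mul_T_mem_rees (hg m)⟩ := by
    apply Subtype.ext
    rw [AddSubmonoidClass.coe_finsetSum]
    change p = _
    conv_lhs => rw [← AddMonoidAlgebra.sum_coeff_single p]
    rw [Finsupp.sum]
    apply Finset.sum_congr rfl
    intro m _
    exact single_eq_C_mul_T _ _
  rw [hdec, map_sum]
  refine AddSubgroup.sum_mem _ fun m _ => ?_
  rcases le_or_gt m 0 with hm | hm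
  · obtain ⟨k, rfl⟩ : ∃ k : ℕ, m = -(k : ℤ) := ⟨(-m).toNat, by omega⟩
    apply AddSubgroup.subset_closure
    refine ⟨k, ⟨p.coeff (-(k : ℤ)), ?_⟩, rfl⟩
    have := hg (-(k : ℤ))
    rwa [neg_neg, Int.toNat_natCast] at this
  · have h0 : Ideal.Quotient.mk (Ideal.span {KGr.tGen P})
        (⟨C (p.coeff m) * T m, C_mul_T_mem_rees (hg m)⟩ : KGr.rees P) = 0 := by
      rw [Ideal.Quotient.eq_zero_iff_mem, Ideal.mem_span_singleton']
      refine ⟨⟨C (p.coeff m) * T (m - 1), C_mul_T_mem_rees (by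
        have : (-(m - 1)).toNat = 0 := by omega
        rw [this, gammaFiltration_zero]; trivial)⟩, ?_⟩
      apply Subtype.ext
      simp only [KGr.tGen, Subring.coe_mul]
      rw [mul_assoc, ← T_add]
      congr 2
      ring
    rw [h0]
    exact AddSubgroup.zero_mem _

/-- induction principle for `GrZ` -/
lemma grZ_induction {motive : KGr.GrZ P → Prop} (g : KGr.GrZ P)
    (h0 : motive 0) (hadd : ∀ a b, motive a → motive b → motive (a + b))
    (hneg : ∀ a, motive a → motive (-a))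
    (hcls : ∀ (n : ℕ) (y : gammaFiltration P n), motive (clsHom n y)) : motive g := by
  obtain ⟨r, rfl⟩ := Ideal.Quotient.mk_surjective g
  have := mk_mem_closure r
  generalize (Ideal.Quotient.mk (Ideal.span {KGr.tGen P})) r = g at this
  induction this using AddSubgroup.closure_induction with
  | mem x hx => obtain ⟨n, y, rfl⟩ := hx; exact hcls n y
  | zero => exact h0
  | add a b _ _ ha hb => exact hadd a b ha hb
  | neg a _ ha => exact hneg a ha

end Span

section Proj

/-- coefficient of `t^{-n}` modulo `F^{n+1}`, on the Rees ring -/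
noncomputable def coefHom (n : ℕ) : KGr.rees P →+ K ⧸ gammaFiltration P (n + 1) :=
  (QuotientAddGroup.mk' (gammaFiltration P (n + 1))).comp
    (((Finsupp.applyAddHom (-(n : ℤ))).comp
      (AddMonoidAlgebra.coeffAddEquiv (R := K) (M := ℤ)).toAddMonoidHom).comp
      (KGr.rees P).subtype.toAddMonoidHom)

lemma coefHom_apply (n : ℕ) (r : KGr.rees P) :
    coefHom P n r = QuotientAddGroup.mk ((r : LaurentPolynomial K).coeff (-(n : ℤ))) := rfl

lemma coefHom_mem_span (n : ℕ) (r : KGr.rees P) (hr : r ∈ Ideal.span {KGr.tGen P}) :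
    coefHom P n r = 0 := by
  rw [Ideal.mem_span_singleton'] at hr
  obtain ⟨q, rfl⟩ := hr
  rw [coefHom_apply, QuotientAddGroup.eq_zero_iff]
  simp only [KGr.tGen, Subring.coe_mul]
  rw [coeff_mul_T_one]
  have := good_of_mem_rees q.2 (-(n : ℤ) - 1)
  have e : (-(-(n : ℤ) - 1)).toNat = n + 1 := by omega
  rwa [e] at this

/-- the projection of `GrZ` onto its degree `n` part `F^n/F^{n+1} ⊆ K/F^{n+1}` -/
noncomputable def piN (n : ℕ) : KGr.GrZ P →+ K ⧸ gammaFiltration P (n + 1) :=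
  (Submodule.liftQ ((Ideal.span {KGr.tGen P}).restrictScalars ℤ) (coefHom P n).toIntLinearMap
    (fun r hr => coefHom_mem_span P n r hr)).toAddMonoidHom.comp
    (Submodule.Quotient.restrictScalarsEquiv ℤ (Ideal.span {KGr.tGen P})).symm.toLinearMap.toAddMonoidHom

lemma piN_mk (n : ℕ) (r : KGr.rees P) :
    piN P n (Ideal.Quotient.mk (Ideal.span {KGr.tGen P}) r) = coefHom P n r := rfl

variable {P}

lemma piN_clsHom (n k : ℕ) (y : gammaFiltration P k) :
    piN P n (clsHom k y) = if k = n then QuotientAddGroup.mk (y : K) else 0 := by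
  rw [clsHom_apply, piN_mk, coefHom_apply]
  simp only [reesElt]
  rw [coeff_C_mul_T]
  by_cases h : k = n
  · subst h; rw [if_pos rfl, if_pos rfl]
  · rw [if_neg h, if_neg (by omega)]; rfl

end Proj

end Groth.Agent.Lib.H6xGr
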