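import Mathlib
import Groth.Prelude.Def_KGr
import Groth.Agent.Lib.H6xGr
import Groth.Agent.Lib.H6xLamS
import Groth.Agent.Lib.Helper4LambdaUniv
import Groth.Agent.Lib.Helper4LambdaUniv3

/-!
# The Chern character with values in the graded ring of the γ-filtration (helper6)

`chK P d x = ε(x) + Σ_{k=1}^{d} (1/k!) [ψ_γ^k(x - ε x)]_k`.
-/

set_option autoImplicit false
universe v
open LambdaRing
open scoped TensorProduct

namespace Groth.Agent.Lib.H6xGrCh

open Groth.Agent.Lib.Helper4 Groth.Agent.Lib.Helper4.LUniv Groth.Agent.Lib.H6xGr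
open Groth.Agent.Lib.H6xLamW Groth.Agent.Lib.H6xLamS

section Poly

open MvPolynomial

/-- ring maps commute with `aeval` of integer polynomials, for arbitrary `ℤ`-algebra structures -/
theorem ringHom_aeval_gen {A B : Type*} [CommRing A] [CommRing B] [iA : Algebra ℤ A]
    [iB : Algebra ℤ B] (φ : A →+* B) {σ : Type*} (f : σ → A) (Q : MvPolynomial σ ℤ) :
    φ (aeval f Q) = aeval (fun i => φ (f i)) Q := by
  obtain rfl : iA = Ring.toIntAlgebra A := Subsingleton.elim _ _
  obtain rfl : iB = Ring.toIntAlgebra B := Subsingleton.elim _ _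
  exact ringHom_aeval_int φ f Q

/-- Newton's identities over `ℚ` -/
theorem NR_esymm_psum_Q (σ : Type*) [Fintype σ] :
    NR (fun j => esymm σ ℚ j) (fun k => psum σ ℚ k) := by
  have h := NR_map (MvPolynomial.map (Int.castRingHom ℚ)) (NR_esymm_psum σ)
  simp only [map_esymm] at h
  have e : ∀ k, MvPolynomial.map (Int.castRingHom ℚ) (psum σ ℤ k) = psum σ ℚ k := by
    intro k
    simp [psum]
  simpa only [e] using h

theorem psum_Q_eq (σ : Type*) [Fintype σ] (k : ℕ) :
    psum σ ℚ (k + 1) = aeval (fun i => esymm σ ℚ (i + 1)) (nu (k + 1)) :=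
  nu_spec (fun j => esymm σ ℚ j) (fun k => psum σ ℚ k) (esymm_zero σ ℚ) (NR_esymm_psum_Q σ) k

/-- the variables `X_i`, `i < d`, extended by zero -/
noncomputable def trunc (d : ℕ) : ℕ → MvPolynomial (Fin d) ℚ :=
  fun i => if h : i < d then X ⟨i, h⟩ else 0

theorem chPoly_eq (d : ℕ) : KGr.chPoly d = C (d : ℚ) +
    ∑ k ∈ Finset.range d, C (1 / ((k + 1).factorial : ℚ)) * aeval (trunc d) (nu (k + 1)) := by
  rw [KGr.chPoly, AlgEquiv.symm_apply_eq]
  apply Subtype.ext
  rw [esymmAlgEquiv_apply, esymmAlgHom_apply]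
  have h1 : ∀ k ∈ Finset.range d, aeval (fun i : Fin d => esymm (Fin d) ℚ (↑i + 1))
      (aeval (trunc d) (nu (k + 1))) = psum (Fin d) ℚ (k + 1) := by
    intro k hk
    rw [Finset.mem_range] at hk
    rw [psum_Q_eq]
    have := ringHom_aeval_gen
      (aeval (fun i : Fin d => esymm (Fin d) ℚ (↑i + 1)) :
        MvPolynomial (Fin d) ℚ →ₐ[ℚ] MvPolynomial (Fin d) ℚ).toRingHom (trunc d) (nu (k + 1))
    rw [AlgHom.toRingHom_eq_coe, RingHom.coe_coe] at this
    rw [this]
    apply aeval_nu_congr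
    intro i hi
    simp only [trunc]
    rw [dif_pos (by omega)]
    simp
  have hR : aeval (fun i : Fin d => esymm (Fin d) ℚ (↑i + 1)) (C (d : ℚ) +
      ∑ k ∈ Finset.range d, C (1 / ((k + 1).factorial : ℚ)) * aeval (trunc d) (nu (k + 1))) =
      C (d : ℚ) + ∑ k ∈ Finset.range d, C (1 / ((k + 1).factorial : ℚ)) * psum (Fin d) ℚ (k + 1) := by
    simp only [map_add, map_sum, map_mul, aeval_C, algebraMap_eq]
    congr 1
    apply Finset.sum_congr rfl
    intro k hk
    rw [h1 k hk]
  rw [hR]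
  simp only [KGr.expTrunc, map_sum, map_mul, Polynomial.aeval_C, map_pow, Polynomial.aeval_X,
    algebraMap_eq]
  rw [Finset.sum_comm, Finset.sum_range_succ']
  simp only [← Finset.mul_sum]
  rw [add_comm]
  congr 1
  simp

theorem aeval_chPoly {G : Type*} [CommRing G] [Algebra ℚ G] [Algebra ℤ G] (d : ℕ) (c : ℕ → G) :
    aeval (fun i : Fin d => c i) (KGr.chPoly d) = algebraMap ℚ G d +
      ∑ k ∈ Finset.range d, (1 / ((k + 1).factorial : ℚ)) • aeval c (nu (k + 1)) := by
  rw [chPoly_eq]
  simp only [map_add, map_sum, map_mul, aeval_C]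
  congr 1
  apply Finset.sum_congr rfl
  intro k hk
  rw [Finset.mem_range] at hk
  rw [Algebra.smul_def]
  congr 1
  have := ringHom_aeval_gen
    (aeval (fun i : Fin d => c i) : MvPolynomial (Fin d) ℚ →ₐ[ℚ] G).toRingHom (trunc d) (nu (k + 1))
  rw [AlgHom.toRingHom_eq_coe, RingHom.coe_coe] at this
  rw [this]
  apply aeval_nu_congr
  intro i hi
  simp only [trunc]
  rw [dif_pos (by omega)]
  simp

end Poly

section Newton

variable {K : Type v} [CommRing K] [LambdaOps K]

open LaurentPolynomial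

omit [LambdaOps K] in
/-- the Newton relation lifts to the Laurent polynomial ring, with weights -/
lemma NR_laurent (e p : ℕ → K) (h : NR e p) :
    NR (fun j => (C (e j) * T (-(j : ℤ)) : LaurentPolynomial K))
      (fun k => (C (p k) * T (-(k : ℤ)) : LaurentPolynomial K)) := by
  intro n
  have h1 := congrArg (fun z => (C z * T (-((n + 1 : ℕ) : ℤ)) : LaurentPolynomial K)) (h n)
  simp only [map_mul, map_add, map_natCast, map_one, map_sum, Finset.sum_mul, map_pow,
    map_neg] at h1
  calc (C (e (n + 1)) * T (-((n + 1 : ℕ) : ℤ)) : LaurentPolynomial K) * ((n : LaurentPolynomial K) + 1)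
      = C (e (n + 1)) * ((n : LaurentPolynomial K) + 1) * T (-((n + 1 : ℕ) : ℤ)) := by ring
    _ = _ := h1
    _ = _ := by
      apply Finset.sum_congr rfl
      intro k hk
      rw [Finset.mem_range] at hk
      have e1 : (-((n + 1 : ℕ) : ℤ)) = -((k + 1 : ℕ) : ℤ) + -((n - k : ℕ) : ℤ) := by
        push_cast [Nat.cast_sub (by omega : k ≤ n)]
        ring
      rw [e1, T_add]
      ring

variable (P : PosStructure K)

/-- the ring homomorphism from the Rees ring to `ℚGr` -/
noncomputable def toGr : KGr.rees P →+* KGr.Gr P :=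
  (Algebra.TensorProduct.includeRight : KGr.GrZ P →ₐ[ℤ] ℚ ⊗[ℤ] KGr.GrZ P).toRingHom.comp
    (Ideal.Quotient.mk (Ideal.span {KGr.tGen P}))

variable {P}

lemma toGr_reesElt (n : ℕ) (y : gammaFiltration P n) : toGr P (reesElt n y) = gr n y := rfl

/-- the elements `γ^{i+1}(x) t^{-(i+1)}` of the Rees ring -/
noncomputable def gamElt (x : K) (hx : P.aug x = 0) (i : ℕ) : KGr.rees P :=
  reesElt (i + 1) ⟨gamma (i + 1) x, gamma_mem_gammaFiltration P (i + 1) x hx⟩

lemma aeval_gamElt_coe (x : K) (hx : P.aug x = 0) (k : ℕ) :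
    ((MvPolynomial.aeval (gamElt x hx) (nu (k + 1)) : KGr.rees P) : LaurentPolynomial K) =
      C (psiG (k + 1) x) * T (-((k + 1 : ℕ) : ℤ)) := by
  have h1 := ringHom_aeval_gen (KGr.rees P).subtype (gamElt x hx) (nu (k + 1))
  rw [Subring.coe_subtype] at h1
  rw [h1]
  have hNR := NR_laurent _ _ (newtonG x)
  have := nu_spec _ _ (by simp [gamma_zero']) hNR k
  rw [this]
  rfl

/-- `ψ_γ^k(x) ∈ F^k` for `x` of augmentation zero -/
theorem psiG_mem (x : K) (hx : P.aug x = 0) (k : ℕ) :
    psiG (k + 1) x ∈ gammaFiltration P (k + 1) := by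
  have h := good_of_mem_rees (MvPolynomial.aeval (gamElt x hx) (nu (k + 1)) : KGr.rees P).2
    (-((k + 1 : ℕ) : ℤ))
  rw [aeval_gamElt_coe, coeff_C_mul_T, if_pos rfl, neg_neg, Int.toNat_natCast] at h
  exact h

lemma aeval_gamElt (x : K) (hx : P.aug x = 0) (k : ℕ) :
    (MvPolynomial.aeval (gamElt x hx) (nu (k + 1)) : KGr.rees P) =
      reesElt (k + 1) ⟨psiG (k + 1) x, psiG_mem x hx k⟩ := by
  apply Subtype.ext
  rw [aeval_gamElt_coe]
  rfl

/-- Newton's formula in `ℚGr`: the Newton polynomial of the Chern classes is the class of `ψ_γ` -/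
theorem aeval_gr_gamma (x : K) (hx : P.aug x = 0) (k : ℕ) :
    MvPolynomial.aeval
      (fun i => gr (i + 1) ⟨gamma (i + 1) x, gamma_mem_gammaFiltration P (i + 1) x hx⟩)
      (nu (k + 1)) = gr (k + 1) ⟨psiG (k + 1) x, psiG_mem x hx k⟩ := by
  have h1 := ringHom_aeval_gen (A := KGr.rees P) (B := KGr.Gr P) (toGr P) (gamElt x hx) (nu (k + 1))
  rw [aeval_gamElt, toGr_reesElt] at h1
  rw [h1]
  rfl

end Newton

section Ch

variable {K : Type v} [CommRing K] [LambdaOps K] (P : PosStructure K)

/-- the degree `k+1` term `[ψ_γ^{k+1}(x - ε x)]_{k+1}` of the Chern character -/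
noncomputable def chTerm (k : ℕ) : K →+ KGr.Gr P where
  toFun x := gr (k + 1) ⟨psiG (k + 1) (x - (P.aug x : K)), psiG_mem _ (aug_sub_aug P x) k⟩
  map_zero' := by
    rw [← map_zero (gr (P := P) (k + 1))]
    congr 1
    apply Subtype.ext
    simp [psiG_zero_arg]
  map_add' x y := by
    rw [← map_add]
    congr 1
    apply Subtype.ext
    simp only [AddSubgroup.coe_add]
    rw [← psiG_add]
    congr 1
    simp only [map_add, Int.cast_add]
    ring

lemma chTerm_apply (k : ℕ) (x : K) : chTerm P k x =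
    gr (k + 1) ⟨psiG (k + 1) (x - (P.aug x : K)), psiG_mem _ (aug_sub_aug P x) k⟩ := rfl

lemma chTerm_of_aug_eq_zero (k : ℕ) (x : K) (hx : P.aug x = 0) : chTerm P k x =
    gr (k + 1) ⟨psiG (k + 1) x, psiG_mem x hx k⟩ := by
  rw [chTerm_apply]
  congr 1
  apply Subtype.ext
  simp [hx]

/-- **Formula for the Chern character** in terms of the γ-Adams operations. -/
theorem chK_eq (d : ℕ) (x : K) : KGr.chK P d x = algebraMap ℚ (KGr.Gr P) (P.aug x : ℚ) +
    ∑ k ∈ Finset.range d, (1 / ((k + 1).factorial : ℚ)) • chTerm P k x := by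
  rw [KGr.chK]
  have h := aeval_chPoly (G := KGr.Gr P) d (fun i => KGr.chern P (i + 1) x)
  rw [h, map_sub, map_natCast]
  have h2 : ∀ k, MvPolynomial.aeval (fun i => KGr.chern P (i + 1) x) (nu (k + 1)) =
      chTerm P k x := by
    intro k
    rw [chTerm_apply, ← aeval_gr_gamma _ (aug_sub_aug P x)]
    congr 2
    funext i
    rw [KGr.chern, grK_eq]
  rw [Finset.sum_congr rfl (fun k _ => by rw [h2 k])]
  rw [map_intCast]
  ring

/-- the Chern character as an additive map -/
noncomputable def chHom (d : ℕ) : K →+ KGr.Gr P :=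
  ((algebraMap ℚ (KGr.Gr P)).toAddMonoidHom.comp
    ((Int.castAddHom ℚ).comp P.aug.toAddMonoidHom)) +
    ∑ k ∈ Finset.range d, (1 / ((k + 1).factorial : ℚ)) • chTerm P k

lemma chHom_apply (d : ℕ) (x : K) : chHom P d x = KGr.chK P d x := by
  rw [chK_eq, chHom]
  simp

end Ch

section Fil

variable {K : Type v} [CommRing K] [LambdaOps K] {P : PosStructure K}

/-- the augmentation vanishes on `γ^r(y)`, `r ≥ 1`, for `y` of augmentation zero -/
theorem aug_gamma (hK : HasSplitting K P) (y : K) (hy : P.aug y = 0) (r : ℕ) (hr : 1 ≤ r) :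
    P.aug (gamma r y) = 0 := by
  rw [gamma, if_neg (by omega), map_sum]
  apply Finset.sum_eq_zero
  intro j _
  rw [map_mul]
  split_ifs with hj
  · rw [map_zero, mul_zero]
  · rw [aug_lam hK, hy, Ring.choose_zero_pos ℤ (by omega), mul_zero]

/-- the augmentation vanishes on `F^n`, `n ≥ 1` -/
theorem aug_eq_zero_of_mem (hK : HasSplitting K P) {n : ℕ} (hn : 1 ≤ n) {x : K}
    (hx : x ∈ gammaFiltration P n) : P.aug x = 0 := by
  rw [gammaFiltration_of_ne_zero P (by omega)] at hx
  induction hx using AddSubgroup.closure_induction with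
  | mem y hy =>
    obtain ⟨l, hl, hln, rfl⟩ := hy
    have key : ∀ l : List (ℕ × K), (∀ p ∈ l, P.aug p.2 = 0) → 1 ≤ (l.map Prod.fst).sum →
        P.aug (l.map fun p => gamma p.1 p.2).prod = 0 := by
      intro l
      induction l with
      | nil => intro _ h; simp at h
      | cons p l ih =>
        intro hl hs
        rw [List.map_cons, List.prod_cons, map_mul]
        by_cases hp : 1 ≤ p.1
        · rw [aug_gamma hK p.2 (hl p (by simp)) p.1 hp, zero_mul]
        · rw [ih (fun q hq => hl q (by simp [hq])) (by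
            rw [List.map_cons, List.sum_cons] at hs; omega), mul_zero]
    exact key l hl (by omega)
  | zero => exact map_zero _
  | add a b _ _ ha hb => rw [map_add, ha, hb, add_zero]
  | neg a _ ha => rw [map_neg, ha, neg_zero]

/-- `ψ_γ^k` preserves the γ-filtration -/
theorem psiG_mem_fil (hK : HasSplitting K P) (n : ℕ) {x : K} (hx : x ∈ gammaFiltration P n)
    (k : ℕ) : psiG (k + 1) x ∈ gammaFiltration P n := by
  induction k using Nat.strong_induction_on with
  | _ k ih =>
    have h := newtonG x k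
    beta_reduce at h
    rw [Finset.sum_range_succ, Nat.sub_self, gamma_zero', mul_one] at h
    have h1 : (-1 : K) ^ k * psiG (k + 1) x = gamma (k + 1) x * ((k : K) + 1) -
        ∑ j ∈ Finset.range k, (-1 : K) ^ j * psiG (j + 1) x * gamma (k - j) x := by
      rw [h]; ring
    have h2 : (-1 : K) ^ k * psiG (k + 1) x ∈ gammaFiltration P n := by
      rw [h1]
      refine AddSubgroup.sub_mem _ ?_ (AddSubgroup.sum_mem _ fun j hj => ?_)
      · rw [mul_comm]
        exact mul_mem_gammaFiltration_left P n _ _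
          (gamma_mem_gammaFiltration' hK n hx (k + 1) (by omega))
      · rw [Finset.mem_range] at hj
        rw [mul_assoc, mul_comm (psiG (j + 1) x), ← mul_assoc]
        exact mul_mem_gammaFiltration_left P n _ _ (ih j hj)
    have h3 : psiG (k + 1) x = (-1 : K) ^ k * ((-1 : K) ^ k * psiG (k + 1) x) := by
      rw [← mul_assoc, ← pow_add, ← two_mul, pow_mul, neg_one_sq, one_pow, one_mul]
    rw [h3]
    exact mul_mem_gammaFiltration_left P n _ _ h2

/-- `ψ_γ^n(x) ≡ n! x` modulo `F^{n+1}` for `x ∈ F^n` -/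
theorem psiG_congr (hK : HasSplitting K P) (j : ℕ) {x : K} (hx : x ∈ gammaFiltration P (j + 1)) :
    psiG (j + 1) x - ((j + 1).factorial : ℤ) • x ∈ gammaFiltration P (j + 1 + 1) := by
  have h := newtonG x j
  beta_reduce at h
  rw [Finset.sum_range_succ, Nat.sub_self, gamma_zero', mul_one] at h
  have hc := gamma_congr_gammaFiltration hK j hx
  have h1 : (-1 : K) ^ j * (psiG (j + 1) x - ((j + 1).factorial : ℤ) • x) =
      (gamma (j + 1) x - ((-1 : ℤ) ^ j * (j.factorial : ℤ)) • x) * ((j : K) + 1) -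
        ∑ i ∈ Finset.range j, (-1 : K) ^ i * psiG (i + 1) x * gamma (j - i) x := by
    have : (-1 : K) ^ j * psiG (j + 1) x = gamma (j + 1) x * ((j : K) + 1) -
        ∑ i ∈ Finset.range j, (-1 : K) ^ i * psiG (i + 1) x * gamma (j - i) x := by
      rw [h]; ring
    rw [mul_sub, this, Nat.factorial_succ]
    simp only [zsmul_eq_mul]
    push_cast
    ring
  have h2 : (-1 : K) ^ j * (psiG (j + 1) x - ((j + 1).factorial : ℤ) • x) ∈
      gammaFiltration P (j + 1 + 1) := by
    rw [h1]
    refine AddSubgroup.sub_mem _ ?_ (AddSubgroup.sum_mem _ fun i hi => ?_)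
    · rw [mul_comm]
      exact mul_mem_gammaFiltration_left P _ _ _ hc
    · rw [Finset.mem_range] at hi
      rw [mul_assoc]
      apply mul_mem_gammaFiltration_left
      have ha := psiG_mem_fil hK (j + 1) hx i
      have hb := gamma_mem_gammaFiltration' hK (j + 1) hx (j - i) (by omega)
      exact gammaFiltration_anti P (by omega) (mul_mem_gammaFiltration P _ _ _ _ ha hb)
  have h3 : psiG (j + 1) x - ((j + 1).factorial : ℤ) • x =
      (-1 : K) ^ j * ((-1 : K) ^ j * (psiG (j + 1) x - ((j + 1).factorial : ℤ) • x)) := by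
    rw [← mul_assoc, ← pow_add, ← two_mul, pow_mul, neg_one_sq, one_pow, one_mul]
  rw [h3]
  exact mul_mem_gammaFiltration_left P _ _ _ h2

end Fil

end Groth.Agent.Lib.H6xGrCh
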