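import Mathlib
import Groth.Prelude.Def_KGr
import Groth.Agent.Lib.H6xGrCh

/-!
# The Chern character is an isomorphism rationally (helper6)
-/

set_option autoImplicit false
universe v
open LambdaRing
open scoped TensorProduct

namespace Groth.Agent.Lib.H6xGrBij

open Groth.Agent.Lib.Helper4 Groth.Agent.Lib.Helper4.LUniv Groth.Agent.Lib.H6xGr
open Groth.Agent.Lib.H6xLamW Groth.Agent.Lib.H6xLamS Groth.Agent.Lib.H6xGrCh

variable {K : Type v} [CommRing K] [LambdaOps K] {P : PosStructure K}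

section V

variable (P)

/-- the part of `ℚGr` of degree `≥ n` -/
noncomputable def V (n : ℕ) : Submodule ℚ (KGr.Gr P) :=
  Submodule.span ℚ {g | ∃ (m : ℕ) (y : gammaFiltration P m), n ≤ m ∧ g = gr m y}

variable {P}

lemma gr_mem_V {n m : ℕ} (h : n ≤ m) (y : gammaFiltration P m) : gr m y ∈ V P n :=
  Submodule.subset_span ⟨m, y, h, rfl⟩

lemma V_anti {n m : ℕ} (h : n ≤ m) : V P m ≤ V P n := by
  apply Submodule.span_mono
  rintro g ⟨k, y, hk, rfl⟩
  exact ⟨k, y, by omega, rfl⟩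

lemma one_tmul_mem_V_zero (g : KGr.GrZ P) : (1 : ℚ) ⊗ₜ[ℤ] g ∈ V P 0 := by
  induction g using grZ_induction with
  | h0 => rw [TensorProduct.tmul_zero]; exact Submodule.zero_mem _
  | hadd a b ha hb => rw [TensorProduct.tmul_add]; exact Submodule.add_mem _ ha hb
  | hneg a ha => rw [TensorProduct.tmul_neg]; exact Submodule.neg_mem _ ha
  | hcls n y => exact gr_mem_V (Nat.zero_le _) y

lemma mem_V_zero (z : KGr.Gr P) : z ∈ V P 0 := by
  induction z using TensorProduct.induction_on with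
  | zero => exact Submodule.zero_mem _
  | add a b ha hb => exact Submodule.add_mem _ ha hb
  | tmul q g =>
    have : q ⊗ₜ[ℤ] g = q • ((1 : ℚ) ⊗ₜ[ℤ] g) := by
      rw [TensorProduct.smul_tmul', smul_eq_mul, mul_one]
    rw [this]
    exact Submodule.smul_mem _ _ (one_tmul_mem_V_zero g)

lemma V_zero : V P 0 = ⊤ := by
  rw [eq_top_iff]
  intro z _
  exact mem_V_zero z

lemma gr_eq_zero_of_mem {n : ℕ} (y : gammaFiltration P n)
    (hy : (y : K) ∈ gammaFiltration P (n + 1)) : gr n y = 0 := by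
  rw [gr_apply, clsHom_eq_zero_of_mem n y hy, TensorProduct.tmul_zero]

lemma V_eq_bot {d : ℕ} (hd : gammaFiltration P (d + 1) = ⊥) : V P (d + 1) = ⊥ := by
  rw [eq_bot_iff]
  apply Submodule.span_le.mpr
  rintro g ⟨m, y, hm, rfl⟩
  have : (y : K) ∈ gammaFiltration P (d + 1) := gammaFiltration_anti P hm y.2
  rw [hd, AddSubgroup.mem_bot] at this
  have hy : y = 0 := Subtype.ext this
  rw [hy, map_zero]
  exact Submodule.zero_mem _

end V

section ClaimA

lemma algebraMap_intCast_eq (m : ℤ) :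
    algebraMap ℚ (KGr.Gr P) (m : ℚ) =
      gr 0 ⟨(m : K), by rw [gammaFiltration_zero]; trivial⟩ := by
  rw [Algebra.TensorProduct.algebraMap_apply, gr_apply]
  have h1 : (⟨(m : K), by rw [gammaFiltration_zero]; trivial⟩ : gammaFiltration P 0) =
      m • ⟨(1 : K), by rw [gammaFiltration_zero]; trivial⟩ := by
    apply Subtype.ext
    simp
  rw [h1, map_zsmul, clsHom_one, tmul_zsmul', mul_one]
  rfl

/-- the degree zero part of the Chern character -/
lemma chK_sub_gr_zero_mem (d : ℕ) (x : K) :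
    KGr.chK P d x - gr 0 ⟨x, by rw [gammaFiltration_zero]; trivial⟩ ∈ V P 1 := by
  have h0 : ∀ y : K, y ∈ gammaFiltration P 0 := fun y => by rw [gammaFiltration_zero]; trivial
  have hx1 : x - (P.aug x : K) ∈ gammaFiltration P 1 := by
    have := gamma_mem_gammaFiltration P 1 _ (aug_sub_aug P x)
    rwa [gamma_one] at this
  have h1 : gr 0 ⟨x, h0 x⟩ = gr 0 ⟨(P.aug x : K), h0 _⟩ + gr 0 ⟨x - (P.aug x : K), h0 _⟩ := by
    rw [← map_add]
    congr 1
    apply Subtype.ext
    simp
  rw [h1, gr_eq_zero_of_mem ⟨x - (P.aug x : K), h0 _⟩ hx1, add_zero, ← algebraMap_intCast_eq,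
    chK_eq, add_sub_cancel_left]
  refine Submodule.sum_mem _ fun k _ => Submodule.smul_mem _ _ ?_
  rw [chTerm_apply]
  exact gr_mem_V (by omega) _

variable (hK : HasSplitting K P)
include hK

lemma chTerm_sub_mem (n : ℕ) (hn : 1 ≤ n) (x : K) (hx : x ∈ gammaFiltration P n) (k : ℕ) :
    (1 / ((k + 1).factorial : ℚ)) • chTerm P k x - (if k + 1 = n then gr n ⟨x, hx⟩ else 0) ∈
      V P (n + 1) := by
  have hx0 : P.aug x = 0 := aug_eq_zero_of_mem hK hn hx
  rw [chTerm_of_aug_eq_zero P k x hx0]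
  rcases lt_trichotomy (k + 1) n with h | h | h
  · rw [if_neg (by omega), sub_zero, gr_eq_zero_of_mem, smul_zero]
    · exact Submodule.zero_mem _
    · exact gammaFiltration_anti P (by omega) (psiG_mem_fil hK n hx k)
  · subst h
    rw [if_pos rfl]
    have hr := psiG_congr hK k hx
    have h1 : (⟨psiG (k + 1) x, psiG_mem x hx0 k⟩ : gammaFiltration P (k + 1)) =
        ((k + 1).factorial : ℤ) • ⟨x, hx⟩ + ⟨psiG (k + 1) x - ((k + 1).factorial : ℤ) • x,
          gammaFiltration_anti P (by omega) hr⟩ := by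
      apply Subtype.ext
      simp
    rw [h1, map_add, map_zsmul, gr_eq_zero_of_mem ⟨psiG (k + 1) x - ((k + 1).factorial : ℤ) • x,
          gammaFiltration_anti P (by omega) hr⟩ hr, add_zero]
    have h2 : (1 / ((k + 1).factorial : ℚ)) • (((k + 1).factorial : ℤ) • gr (k + 1) ⟨x, hx⟩) =
        gr (k + 1) ⟨x, hx⟩ := by
      rw [← Int.cast_smul_eq_zsmul ℚ, smul_smul]
      have : ((k + 1).factorial : ℚ) ≠ 0 := by positivity
      push_cast
      rw [one_div, inv_mul_cancel₀ this, one_smul]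
    rw [h2, sub_self]
    exact Submodule.zero_mem _
  · rw [if_neg (by omega), sub_zero]
    exact Submodule.smul_mem _ _ (gr_mem_V (by omega) _)

/-- **Claim A**: the Chern character of `x ∈ F^n` is the class of `x` in degree `n` modulo higher
degree -/
theorem chK_sub_gr_mem (d : ℕ) (hd : gammaFiltration P (d + 1) = ⊥) (n : ℕ) (x : K)
    (hx : x ∈ gammaFiltration P n) : KGr.chK P d x - gr n ⟨x, hx⟩ ∈ V P (n + 1) := by
  rcases Nat.eq_zero_or_pos n with rfl | hn
  · exact chK_sub_gr_zero_mem d x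
  by_cases hnd : n ≤ d
  · have hx0 : P.aug x = 0 := aug_eq_zero_of_mem hK hn hx
    have h1 : ∑ k ∈ Finset.range d, (if k + 1 = n then gr n ⟨x, hx⟩ else 0) = gr n ⟨x, hx⟩ := by
      rw [Finset.sum_eq_single (n - 1)]
      · rw [if_pos (by omega)]
      · intro b _ hb; rw [if_neg (by omega)]
      · intro h; exact absurd (Finset.mem_range.mpr (by omega)) h
    have h2 : KGr.chK P d x - gr n ⟨x, hx⟩ = ∑ k ∈ Finset.range d,
        ((1 / ((k + 1).factorial : ℚ)) • chTerm P k x -
          (if k + 1 = n then gr n ⟨x, hx⟩ else 0)) := by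
      rw [Finset.sum_sub_distrib, h1, chK_eq, hx0, Int.cast_zero, map_zero, zero_add]
    rw [h2]
    exact Submodule.sum_mem _ fun k _ => chTerm_sub_mem hK n hn x hx k
  · have : x ∈ gammaFiltration P (d + 1) := gammaFiltration_anti P (by omega) hx
    rw [hd, AddSubgroup.mem_bot] at this
    subst this
    rw [← chHom_apply, map_zero, zero_sub]
    have : (⟨0, hx⟩ : gammaFiltration P n) = 0 := rfl
    rw [this, map_zero, neg_zero]
    exact Submodule.zero_mem _

end ClaimA

section Main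

variable (P)

/-- the projection of `ℚGr` to its degree `n` part -/
noncomputable def projN (n : ℕ) : KGr.Gr P →ₗ[ℚ] ℚ ⊗[ℤ] (K ⧸ gammaFiltration P (n + 1)) :=
  LinearMap.baseChange ℚ (piN P n).toIntLinearMap

variable {P}

lemma projN_gr (n m : ℕ) (y : gammaFiltration P m) :
    projN P n (gr m y) = if m = n then (1 : ℚ) ⊗ₜ[ℤ] (QuotientAddGroup.mk (y : K)) else 0 := by
  rw [gr_apply, projN, LinearMap.baseChange_tmul]
  simp only [AddMonoidHom.coe_toIntLinearMap, piN_clsHom]
  split_ifs with h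
  · rfl
  · rw [TensorProduct.tmul_zero]

lemma projN_V (n : ℕ) (z : KGr.Gr P) (hz : z ∈ V P (n + 1)) : projN P n z = 0 := by
  rw [V] at hz
  induction hz using Submodule.span_induction with
  | mem g hg =>
    obtain ⟨m, y, hm, rfl⟩ := hg
    rw [projN_gr, if_neg (by omega)]
  | zero => exact map_zero _
  | add a b _ _ ha hb => rw [map_add, ha, hb, add_zero]
  | smul q a _ ha => rw [map_smul, ha, smul_zero]

theorem exists_nsmul_mem_of_gr_mem (n : ℕ) (y : gammaFiltration P n)
    (h : gr n y ∈ V P (n + 1)) : ∃ M : ℕ, 1 ≤ M ∧ M • (y : K) ∈ gammaFiltration P (n + 1) := by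
  have h1 := projN_V n _ h
  rw [projN_gr, if_pos rfl] at h1
  obtain ⟨M, hM, hM0⟩ := exists_nsmul_eq_zero_of_tmul_eq_zero _ h1
  refine ⟨M, hM, ?_⟩
  have : (QuotientAddGroup.mk (M • (y : K)) : K ⧸ gammaFiltration P (n + 1)) = 0 := hM0
  rwa [QuotientAddGroup.eq_zero_iff] at this

variable (P)

/-- the rational Chern character -/
noncomputable def Phi (d : ℕ) : ℚ ⊗[ℤ] K →ₗ[ℚ] KGr.Gr P :=
  LinearMap.liftBaseChange ℚ (chHom P d).toIntLinearMap

variable {P}

lemma Phi_tmul (d : ℕ) (q : ℚ) (x : K) : Phi P d (q ⊗ₜ[ℤ] x) = q • KGr.chK P d x := by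
  rw [Phi, LinearMap.liftBaseChange_tmul, AddMonoidHom.coe_toIntLinearMap, chHom_apply]

variable (hK : HasSplitting K P) (d : ℕ) (hd : gammaFiltration P (d + 1) = ⊥)
include hK hd

theorem V_le_range (j : ℕ) : V P (d + 1 - j) ≤ LinearMap.range (Phi P d) := by
  induction j with
  | zero => rw [Nat.sub_zero, V_eq_bot hd]; exact bot_le
  | succ j ih =>
    by_cases hj : d + 1 - j = 0
    · have : d + 1 - (j + 1) = d + 1 - j := by omega
      rw [this]; exact ih
    obtain ⟨n, hn⟩ : ∃ n, d + 1 - j = n + 1 := ⟨d + 1 - j - 1, by omega⟩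
    have hn' : d + 1 - (j + 1) = n := by omega
    rw [hn] at ih
    rw [hn']
    apply Submodule.span_le.mpr
    rintro g ⟨m, y, hm, rfl⟩
    rcases Nat.eq_or_lt_of_le hm with rfl | hlt
    · have hA := chK_sub_gr_mem hK d hd n y y.2
      have h1 : gr n y = KGr.chK P d (y : K) - (KGr.chK P d (y : K) - gr n ⟨(y : K), y.2⟩) := by
        rw [sub_sub_cancel]
      rw [h1]
      refine Submodule.sub_mem _ ?_ (ih hA)
      exact ⟨(1 : ℚ) ⊗ₜ[ℤ] (y : K), by rw [Phi_tmul, one_smul]⟩
    · exact ih (gr_mem_V (by omega) y)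

theorem Phi_surjective : Function.Surjective (Phi P d) := by
  rw [← LinearMap.range_eq_top, eq_top_iff, ← V_zero (P := P)]
  have := V_le_range hK d hd (d + 1)
  rwa [Nat.sub_self] at this

theorem Phi_injective : Function.Injective (Phi P d) := by
  rw [← LinearMap.ker_eq_bot, eq_bot_iff]
  intro z hz
  rw [LinearMap.mem_ker] at hz
  obtain ⟨N, x, hN, rfl⟩ := exists_rep_tmul z
  rw [Phi_tmul] at hz
  have hN0 : ((1 : ℚ) / (N : ℚ)) ≠ 0 := by positivity
  have hch : KGr.chK P d x = 0 := by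
    rcases smul_eq_zero.mp hz with h | h
    · exact absurd h hN0
    · exact h
  -- `M x ∈ F^n` for suitable `M ≥ 1`
  have key : ∀ n : ℕ, ∃ M : ℕ, 1 ≤ M ∧ M • x ∈ gammaFiltration P n := by
    intro n
    induction n with
    | zero => exact ⟨1, le_rfl, by rw [gammaFiltration_zero]; trivial⟩
    | succ n ih =>
      obtain ⟨M, hM, hMx⟩ := ih
      have hA := chK_sub_gr_mem hK d hd n (M • x) hMx
      have h0 : KGr.chK P d (M • x) = 0 := by
        rw [← chHom_apply, map_nsmul, chHom_apply, hch, smul_zero]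
      rw [h0, zero_sub] at hA
      have hA' : gr n ⟨M • x, hMx⟩ ∈ V P (n + 1) := by
        have := Submodule.neg_mem _ hA
        rwa [neg_neg] at this
      obtain ⟨M', hM', hM'x⟩ := exists_nsmul_mem_of_gr_mem n ⟨M • x, hMx⟩ hA'
      refine ⟨M' * M, Nat.mul_pos hM' hM, ?_⟩
      rw [mul_smul]
      exact hM'x
  obtain ⟨M, hM, hMx⟩ := key (d + 1)
  rw [hd, AddSubgroup.mem_bot] at hMx
  rw [Submodule.mem_bot]
  have hM0 : (M : ℚ) ≠ 0 := by positivity
  have : ((1 : ℚ) / (N : ℚ)) ⊗ₜ[ℤ] x = (((1 : ℚ) / (N : ℚ)) / (M : ℚ)) ⊗ₜ[ℤ] (M • x) := by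
    rw [tmul_nsmul']
    congr 1
    field_simp
  rw [this, hMx, TensorProduct.tmul_zero]

end Main

end Groth.Agent.Lib.H6xGrBij
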