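/-
From an `ℕ`-graded algebra to a `ℤ`-graded ring (by additive subgroups, zero in negative degrees),
so that results on `ℤ`-graded rings apply.
-/
import Mathlib

set_option autoImplicit false
open DirectSum

noncomputable section

namespace Groth.Agent.Lib.H6xNatZ

universe u v

variable {K : Type v} [CommRing K] {A : Type u} [CommRing A] [Algebra K A]
  (𝒜 : ℕ → Submodule K A)

/-- The `ℤ`-indexed family attached to an `ℕ`-indexed one. -/
def zgr (n : ℤ) : AddSubgroup A := if 0 ≤ n then (𝒜 n.toNat).toAddSubgroup else ⊥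

theorem mem_zgr_natCast (i : ℕ) (x : A) : x ∈ zgr 𝒜 (i : ℤ) ↔ x ∈ 𝒜 i := by
  unfold zgr
  rw [if_pos (Int.natCast_nonneg i), Int.toNat_natCast]
  exact Iff.rfl

theorem zgr_neg (n : ℤ) (hn : n < 0) : zgr 𝒜 n = ⊥ := by
  unfold zgr
  rw [if_neg (not_le.mpr hn)]

theorem eq_zero_of_mem_zgr_neg {n : ℤ} (hn : n < 0) {x : A} (hx : x ∈ zgr 𝒜 n) : x = 0 := by
  rw [zgr_neg 𝒜 n hn] at hx
  exact AddSubgroup.mem_bot.mp hx

theorem zgr_natCast_coe (i : ℕ) : (zgr 𝒜 (i : ℤ) : Set A) = (𝒜 i : Set A) := by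
  ext x
  exact mem_zgr_natCast 𝒜 i x

variable [GradedAlgebra 𝒜]

instance instGradedMonoid : SetLike.GradedMonoid (zgr 𝒜) where
  one_mem := (mem_zgr_natCast 𝒜 0 1).mpr SetLike.GradedOne.one_mem
  mul_mem := by
    intro i j x y hx hy
    by_cases hi : i < 0
    · rw [eq_zero_of_mem_zgr_neg 𝒜 hi hx, zero_mul]
      exact zero_mem _
    by_cases hj : j < 0
    · rw [eq_zero_of_mem_zgr_neg 𝒜 hj hy, mul_zero]
      exact zero_mem _
    rw [not_lt] at hi hj
    obtain ⟨a, rfl⟩ := Int.eq_ofNat_of_zero_le hi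
    obtain ⟨b, rfl⟩ := Int.eq_ofNat_of_zero_le hj
    rw [mem_zgr_natCast] at hx hy
    have h : ((a : ℤ) + (b : ℤ)) = ((a + b : ℕ) : ℤ) := by push_cast; rfl
    rw [h, mem_zgr_natCast]
    exact SetLike.mul_mem_graded hx hy

/-- Inclusion of the pieces. -/
def incl (i : ℕ) : ↥(𝒜 i) →+ ↥(zgr 𝒜 (i : ℤ)) where
  toFun x := ⟨x.1, (mem_zgr_natCast 𝒜 i x.1).mpr x.2⟩
  map_zero' := rfl
  map_add' _ _ := rfl

/-- The decomposition map. -/
def decHom : A →+ ⨁ n : ℤ, ↥(zgr 𝒜 n) :=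
  (DirectSum.toAddMonoid (fun i : ℕ =>
    (DirectSum.of (fun n : ℤ => ↥(zgr 𝒜 n)) (i : ℤ)).comp (incl 𝒜 i))).comp
    (DirectSum.decomposeAddEquiv 𝒜).toAddMonoidHom

theorem decHom_of_mem {i : ℕ} {x : A} (hx : x ∈ 𝒜 i) :
    decHom 𝒜 x = DirectSum.of (fun n : ℤ => ↥(zgr 𝒜 n)) (i : ℤ)
      ⟨x, (mem_zgr_natCast 𝒜 i x).mpr hx⟩ := by
  unfold decHom
  rw [AddMonoidHom.comp_apply]
  have h1 : (DirectSum.decomposeAddEquiv 𝒜).toAddMonoidHom x =
      DirectSum.of (fun i => ↥(𝒜 i)) i ⟨x, hx⟩ := DirectSum.decompose_of_mem 𝒜 hx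
  rw [h1, DirectSum.toAddMonoid_of]
  rfl

instance instDecomposition : DirectSum.Decomposition (zgr 𝒜) :=
  DirectSum.Decomposition.ofAddHom (zgr 𝒜) (decHom 𝒜)
    (by
      apply AddMonoidHom.ext
      intro x
      rw [AddMonoidHom.comp_apply, AddMonoidHom.id_apply]
      induction x using DirectSum.Decomposition.inductionOn 𝒜 with
      | zero => rw [map_zero, map_zero]
      | homogeneous x =>
        rw [decHom_of_mem 𝒜 x.2, DirectSum.coeAddMonoidHom_of]
      | add x y hx hy => rw [map_add, map_add, hx, hy])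
    (by
      apply DirectSum.addHom_ext
      rintro n ⟨y, hy⟩
      rw [AddMonoidHom.comp_apply, DirectSum.coeAddMonoidHom_of, AddMonoidHom.id_apply]
      by_cases hn : n < 0
      · have h0 : y = 0 := eq_zero_of_mem_zgr_neg 𝒜 hn hy
        subst h0
        rw [map_zero]
        have : (⟨0, hy⟩ : ↥(zgr 𝒜 n)) = 0 := rfl
        rw [this, map_zero]
      · rw [not_lt] at hn
        obtain ⟨a, rfl⟩ := Int.eq_ofNat_of_zero_le hn
        rw [decHom_of_mem 𝒜 ((mem_zgr_natCast 𝒜 a y).mp hy)])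

instance instGradedRing : GradedRing (zgr 𝒜) where

theorem decompose_natCast (x : A) (i : ℕ) :
    ((DirectSum.decompose (zgr 𝒜) x) (i : ℤ) : A) = ((DirectSum.decompose 𝒜 x) i : A) := by
  classical
  induction x using DirectSum.Decomposition.inductionOn 𝒜 with
  | zero => simp
  | homogeneous x =>
    rename_i j
    by_cases hij : j = i
    · subst hij
      rw [DirectSum.decompose_of_mem_same 𝒜 x.2,
        DirectSum.decompose_of_mem_same (zgr 𝒜) ((mem_zgr_natCast 𝒜 j x.1).mpr x.2)]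
    · rw [DirectSum.decompose_of_mem_ne 𝒜 x.2 hij,
        DirectSum.decompose_of_mem_ne (zgr 𝒜) ((mem_zgr_natCast 𝒜 j x.1).mpr x.2)
          (by exact_mod_cast hij)]
  | add x y hx hy =>
    rw [DirectSum.decompose_add, DirectSum.add_apply, AddSubgroup.coe_add, hx, hy,
      DirectSum.decompose_add, DirectSum.add_apply, Submodule.coe_add]

theorem decompose_neg (x : A) (n : ℤ) (hn : n < 0) :
    ((DirectSum.decompose (zgr 𝒜) x) n : A) = 0 :=
  eq_zero_of_mem_zgr_neg 𝒜 hn (DirectSum.decompose (zgr 𝒜) x n).2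

/-- Homogeneous ideals are homogeneous for the `ℤ`-grading. -/
theorem isHomogeneous_zgr {I : Ideal A} (hI : I.IsHomogeneous 𝒜) : I.IsHomogeneous (zgr 𝒜) := by
  intro n x hx
  by_cases hn : n < 0
  · rw [decompose_neg 𝒜 x n hn]
    exact zero_mem _
  · rw [not_lt] at hn
    obtain ⟨a, rfl⟩ := Int.eq_ofNat_of_zero_le hn
    rw [decompose_natCast]
    exact hI a hx

/-- The span of the positive pieces is the irrelevant ideal. -/
theorem span_pos_eq_irrelevant :
    Ideal.span (⋃ n ∈ Set.Ioi (0 : ℤ), (zgr 𝒜 n : Set A)) =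
      (HomogeneousIdeal.irrelevant 𝒜).toIdeal := by
  rw [HomogeneousIdeal.irrelevant_eq_span]
  apply le_antisymm
  · rw [Ideal.span_le]
    intro x hx
    obtain ⟨n, hn, hxn⟩ := Set.mem_iUnion₂.mp hx
    have hn' : 0 < n := hn
    obtain ⟨a, rfl⟩ := Int.eq_ofNat_of_zero_le hn'.le
    refine Ideal.subset_span (Set.mem_iUnion₂.mpr ⟨a, by exact_mod_cast hn', ?_⟩)
    exact (mem_zgr_natCast 𝒜 a x).mp hxn
  · rw [Ideal.span_le]
    intro x hx
    obtain ⟨a, ha, hxa⟩ := Set.mem_iUnion₂.mp hx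
    have ha' : 0 < a := ha
    refine Ideal.subset_span (Set.mem_iUnion₂.mpr ⟨(a : ℤ), ?_, ?_⟩)
    · exact Set.mem_Ioi.mpr (by exact_mod_cast ha')
    · exact (mem_zgr_natCast 𝒜 a x).mpr hxa

end Groth.Agent.Lib.H6xNatZ
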