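/-
The graded-local principle for the Gorenstein property: for a Noetherian ring graded by a finitely
generated free abelian group, `R_p` is Gorenstein iff `R_{p*}` is (`p*` the homogeneous core), and a
*local ring `(R, m)` is Gorenstein as soon as `R_m` is.
-/
import Mathlib
import Groth.Agent.Lib.Helper5GrLoc
import Groth.Agent.Lib.Helper5GorRing
import Groth.Agent.Lib.Helper29GorAnn
import Groth.Prelude.Def_GrLC

set_option autoImplicit false
universe u

noncomputable section

namespace Groth.Agent.Lib.R2H7.GrGorLoc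

open Groth.Agent.Lib.Helper5.GrLoc Groth.Agent.Lib.Helper5.Coact Groth.Agent.Lib.Helper5.GorRing
  Groth.Agent.Lib.Helper29.GorAnn LocCoh

section Laurent

theorem gor_addMonoidAlgebra_fin (n : ℕ) :
    ∀ (A : Type u) [CommRing A] [IsGorensteinRing A],
      IsGorensteinRing (AddMonoidAlgebra A (Fin n → ℤ)) := by
  induction n with
  | zero =>
    intro A _ _
    exact gorRing_of_ringEquiv (AddMonoidAlgebra.uniqueRingEquiv (R := A) (Fin 0 → ℤ)).symm
  | succ n ih =>
    intro A _ _
    have := ih A
    have hpoly : IsGorensteinRing (Polynomial (AddMonoidAlgebra A (Fin n → ℤ))) :=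
      gorRing_polynomial _
    have hlaur : IsGorensteinRing (LaurentPolynomial (AddMonoidAlgebra A (Fin n → ℤ))) :=
      gorRing_of_isLocalization
        (Submonoid.powers (Polynomial.X : Polynomial (AddMonoidAlgebra A (Fin n → ℤ)))) _
    exact gorRing_of_ringEquiv
      ((AddMonoidAlgebra.domCongr A A (finSuccAddEquiv n)).toRingEquiv.trans
        AddMonoidAlgebra.curryRingEquiv).symm

theorem gor_addMonoidAlgebra (ι : Type) [AddCommGroup ι] [Module.Free ℤ ι] [Module.Finite ℤ ι]
    (A : Type u) [CommRing A] [IsGorensteinRing A] :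
    IsGorensteinRing (AddMonoidAlgebra A ι) := by
  let e : ι ≃+ (Fin (Module.finrank ℤ ι) → ℤ) := (Module.finBasis ℤ ι).equivFun.toAddEquiv
  have := gor_addMonoidAlgebra_fin (Module.finrank ℤ ι) A
  exact gorRing_of_ringEquiv (AddMonoidAlgebra.domCongr A A e).toRingEquiv.symm

theorem gor_fibLocRing (ι : Type) [AddCommGroup ι] [Module.Free ℤ ι] [Module.Finite ℤ ι]
    (R : Type u) [CommRing R] [IsNoetherianRing R]
    (Q : Ideal (AddMonoidAlgebra R ι)) [Q.IsPrime] :
    IsGorensteinLocalRing (EGA4.FibLocRing R (AddMonoidAlgebra R ι) Q) := by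
  have := isNoetherianRing_addMonoidAlgebra ι R
  refine forall_gor_fiber_iff.mp ?_ Q
  intro p hp
  have := gorRing_of_field p.ResidueField
  have := gor_addMonoidAlgebra ι p.ResidueField
  exact gorRing_of_ringEquiv
    (AddMonoidAlgebra.scalarTensorEquiv R (M := ι) p.ResidueField).toRingEquiv.symm

end Laurent

section Congr

theorem gorLocal_congr {A : Type u} [CommRing A] (q q' : Ideal A) [hq : q.IsPrime]
    [hq' : q'.IsPrime] (h : q = q') :
    IsGorensteinLocalRing (Localization.AtPrime q) ↔
      IsGorensteinLocalRing (Localization.AtPrime q') := by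
  subst h
  exact Iff.rfl

/-- Localising a Gorenstein local ring `A_m` further at a smaller prime. -/
theorem gorLocal_of_le {A : Type u} [CommRing A] (m q : Ideal A) [m.IsPrime] [hq : q.IsPrime]
    (hqm : q ≤ m) [h : IsGorensteinLocalRing (Localization.AtPrime m)] :
    IsGorensteinLocalRing (Localization.AtPrime q) := by
  have hG : IsGorensteinRing (Localization.AtPrime m) :=
    isGorensteinRing_of_isGorensteinLocalRing _
  have hdisj : Disjoint (m.primeCompl : Set A) (q : Set A) := by
    rw [Set.disjoint_left]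
    intro x hx hxq
    exact hx (hqm hxq)
  have hQ : (q.map (algebraMap A (Localization.AtPrime m))).IsPrime :=
    IsLocalization.isPrime_of_isPrime_disjoint m.primeCompl _ q hq hdisj
  have hcomap : (q.map (algebraMap A (Localization.AtPrime m))).comap
      (algebraMap A (Localization.AtPrime m)) = q :=
    IsLocalization.under_map_of_isPrime_disjoint m.primeCompl (Localization.AtPrime m) hq hdisj
  have hloc := hG.isGorensteinLocalRing_localization
    (q.map (algebraMap A (Localization.AtPrime m)))
  have : IsLocalization.AtPrime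
      (Localization.AtPrime (q.map (algebraMap A (Localization.AtPrime m))))
      ((q.map (algebraMap A (Localization.AtPrime m))).comap
        (algebraMap A (Localization.AtPrime m))) :=
    IsLocalization.isLocalization_isLocalization_atPrime_isLocalization m.primeCompl
      (Localization.AtPrime (q.map (algebraMap A (Localization.AtPrime m))))
      (q.map (algebraMap A (Localization.AtPrime m)))
  have h3 : IsGorensteinLocalRing (Localization.AtPrime
      ((q.map (algebraMap A (Localization.AtPrime m))).comap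
        (algebraMap A (Localization.AtPrime m)))) :=
    gorLocal_of_ringEquiv
      (IsLocalization.algEquiv ((q.map (algebraMap A (Localization.AtPrime m))).comap
          (algebraMap A (Localization.AtPrime m))).primeCompl
        (Localization.AtPrime (q.map (algebraMap A (Localization.AtPrime m))))
        (Localization.AtPrime ((q.map (algebraMap A (Localization.AtPrime m))).comap
          (algebraMap A (Localization.AtPrime m))))).toRingEquiv
  exact (gorLocal_congr _ q hcomap).mp h3

end Congr

section Main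

variable {ι : Type} [AddCommGroup ι] [DecidableEq ι] [Module.Free ℤ ι] [Module.Finite ℤ ι]
variable {R : Type u} [CommRing R] [IsNoetherianRing R] (𝒜 : ι → AddSubgroup R) [GradedRing 𝒜]

omit [IsNoetherianRing R] in
/-- The homogeneous core of a prime ideal is prime (for a torsion-free grading group). -/
theorem core_isPrime (p : Ideal R) [p.IsPrime] :
    (Ideal.homogeneousCore 𝒜 p).toIdeal.IsPrime := by
  have hU := uniqueSums ι
  have hP : (p.map (algebraMap R (AddMonoidAlgebra R ι))).IsPrime := map_isPrime p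
  rw [← comap_tau_comap 𝒜 p]
  infer_instance

/-- `R_p` is Gorenstein iff `R_{p*}` is. -/
theorem gorLocal_iff_core (p : Ideal R) [p.IsPrime]
    [hcore : (Ideal.homogeneousCore 𝒜 p).toIdeal.IsPrime] :
    IsGorensteinLocalRing (Localization.AtPrime p) ↔
      IsGorensteinLocalRing (Localization.AtPrime (Ideal.homogeneousCore 𝒜 p).toIdeal) := by
  have hN := isNoetherianRing_addMonoidAlgebra ι R
  have hU := uniqueSums ι
  have hP : (p.map (algebraMap R (AddMonoidAlgebra R ι))).IsPrime := map_isPrime p
  have hP' : ((p.map (algebraMap R (AddMonoidAlgebra R ι))).comap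
      ((tau 𝒜 : AddMonoidAlgebra R ι ≃+* AddMonoidAlgebra R ι) :
        AddMonoidAlgebra R ι →+* AddMonoidAlgebra R ι)).IsPrime := Ideal.comap_isPrime _ _
  have h1 := gor_localization_iff (A := R) (p.map (algebraMap R (AddMonoidAlgebra R ι)))
  have h2 := gor_localization_iff (A := R)
    ((p.map (algebraMap R (AddMonoidAlgebra R ι))).comap
      ((tau 𝒜 : AddMonoidAlgebra R ι ≃+* AddMonoidAlgebra R ι) :
        AddMonoidAlgebra R ι →+* AddMonoidAlgebra R ι))
  have f1 := gor_fibLocRing ι R (p.map (algebraMap R (AddMonoidAlgebra R ι)))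
  have f2 := gor_fibLocRing ι R ((p.map (algebraMap R (AddMonoidAlgebra R ι))).comap
      ((tau 𝒜 : AddMonoidAlgebra R ι ≃+* AddMonoidAlgebra R ι) :
        AddMonoidAlgebra R ι →+* AddMonoidAlgebra R ι))
  have c1 := gorLocal_congr
    ((p.map (algebraMap R (AddMonoidAlgebra R ι))).comap (algebraMap R (AddMonoidAlgebra R ι)))
    p (comap_map_eq p)
  have c2 := gorLocal_congr
    (((p.map (algebraMap R (AddMonoidAlgebra R ι))).comap
      ((tau 𝒜 : AddMonoidAlgebra R ι ≃+* AddMonoidAlgebra R ι) :
        AddMonoidAlgebra R ι →+* AddMonoidAlgebra R ι)).comap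
      (algebraMap R (AddMonoidAlgebra R ι)))
    (Ideal.homogeneousCore 𝒜 p).toIdeal (comap_tau_comap 𝒜 p)
  let e := Localization.localRingEquiv
    ((p.map (algebraMap R (AddMonoidAlgebra R ι))).comap
      ((tau 𝒜 : AddMonoidAlgebra R ι ≃+* AddMonoidAlgebra R ι) :
        AddMonoidAlgebra R ι →+* AddMonoidAlgebra R ι))
    (p.map (algebraMap R (AddMonoidAlgebra R ι))) (tau 𝒜) rfl
  constructor
  · intro h
    have hBP : IsGorensteinLocalRing
        (Localization.AtPrime (p.map (algebraMap R (AddMonoidAlgebra R ι)))) :=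
      h1.mpr ⟨c1.mpr h, f1⟩
    have hBP' : IsGorensteinLocalRing (Localization.AtPrime
        ((p.map (algebraMap R (AddMonoidAlgebra R ι))).comap
          ((tau 𝒜 : AddMonoidAlgebra R ι ≃+* AddMonoidAlgebra R ι) :
            AddMonoidAlgebra R ι →+* AddMonoidAlgebra R ι))) := gorLocal_of_ringEquiv e.symm
    exact c2.mp (h2.mp hBP').1
  · intro h
    have hBP' : IsGorensteinLocalRing (Localization.AtPrime
        ((p.map (algebraMap R (AddMonoidAlgebra R ι))).comap
          ((tau 𝒜 : AddMonoidAlgebra R ι ≃+* AddMonoidAlgebra R ι) :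
            AddMonoidAlgebra R ι →+* AddMonoidAlgebra R ι))) := h2.mpr ⟨c2.mpr h, f2⟩
    have hBP : IsGorensteinLocalRing
        (Localization.AtPrime (p.map (algebraMap R (AddMonoidAlgebra R ι)))) :=
      gorLocal_of_ringEquiv e
    exact c1.mp (h1.mp hBP).1

omit [Module.Free ℤ ι] [Module.Finite ℤ ι] in
theorem exists_coatom_ge (J : HomogeneousIdeal 𝒜) (hJ : J ≠ ⊤) :
    ∃ K : HomogeneousIdeal 𝒜, IsCoatom K ∧ J ≤ K := by
  obtain ⟨I₀, ⟨K₀, rfl, hJK, hK⟩, hmax⟩ :=
    (wellFounded_gt : WellFounded ((· > ·) : Ideal R → Ideal R → Prop)).has_min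
      {I : Ideal R | ∃ K : HomogeneousIdeal 𝒜, K.toIdeal = I ∧ J ≤ K ∧ K ≠ ⊤}
      ⟨_, J, rfl, le_rfl, hJ⟩
  refine ⟨K₀, ⟨hK, fun b hb => ?_⟩, hJK⟩
  by_contra hbt
  refine hmax b.toIdeal ⟨b, rfl, hJK.trans hb.le, hbt⟩ ?_
  exact lt_of_le_of_ne (show K₀.toIdeal ≤ b.toIdeal from hb.le)
    (fun h => hb.ne (HomogeneousIdeal.toIdeal_injective h))

omit [Module.Free ℤ ι] [Module.Finite ℤ ι] in
theorem le_of_isStarLocal (m : HomogeneousIdeal 𝒜) (hm : GrLC.IsStarLocal 𝒜 m)
    (J : HomogeneousIdeal 𝒜) (hJ : J ≠ ⊤) : J ≤ m := by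
  obtain ⟨K, hK, hJK⟩ := exists_coatom_ge 𝒜 J hJ
  rw [hm.2 K hK] at hJK
  exact hJK

/-- A *local Noetherian ring `(R, m)` is Gorenstein as soon as `R_m` is. -/
theorem isGorensteinRing_of_localization (m : HomogeneousIdeal 𝒜) (hm : GrLC.IsStarLocal 𝒜 m)
    [hmp : m.toIdeal.IsPrime] (h : IsGorensteinLocalRing (Localization.AtPrime m.toIdeal)) :
    IsGorensteinRing R := by
  refine { isGorensteinLocalRing_localization := ?_ }
  intro p hp
  have hc := core_isPrime 𝒜 p
  rw [gorLocal_iff_core 𝒜 p]
  have hne : Ideal.homogeneousCore 𝒜 p ≠ ⊤ := by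
    intro htop
    apply hp.ne_top
    rw [eq_top_iff]
    have h1 : (Ideal.homogeneousCore 𝒜 p).toIdeal ≤ p := Ideal.toIdeal_homogeneousCore_le 𝒜 p
    rw [htop, HomogeneousIdeal.toIdeal_top] at h1
    exact h1
  have hle : Ideal.homogeneousCore 𝒜 p ≤ m := le_of_isStarLocal 𝒜 m hm _ hne
  exact gorLocal_of_le m.toIdeal _ hle

end Main

end Groth.Agent.Lib.R2H7.GrGorLoc
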