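/-
The graded-local principle for the Cohen–Macaulay property: for a Noetherian ring graded by a
finitely generated free abelian group, `R_p` is Cohen–Macaulay as soon as `R_{p*}` is (`p*` the
homogeneous core), and a *local ring `(R, m)` is Cohen–Macaulay as soon as `R_m` is.
-/
import Mathlib
import Groth.Agent.Lib.R2H7GrGorLoc
import Groth.Agent.Lib.Helper28CMFib1
import Groth.Agent.Lib.Helper5CMLocusOpen
import Groth.Agent.S13234
import Groth.Agent.S13232

set_option autoImplicit false
universe u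

noncomputable section

namespace Groth.Agent.Lib.R2H7.GrCMLoc

open Groth.Agent.Lib.Helper28 Groth.Agent.Lib.R2H7.GrGorLoc LocCoh

variable {ι : Type} [AddCommGroup ι] [DecidableEq ι] [Module.Free ℤ ι] [Module.Finite ℤ ι]
variable {R : Type u} [CommRing R] [IsNoetherianRing R] (𝒜 : ι → AddSubgroup R) [GradedRing 𝒜]

/-- `R_p` is Cohen–Macaulay if `R_{p*}` is. -/
theorem cmLocal_of_core (p : Ideal R) [hp : p.IsPrime]
    [hcore : (Ideal.homogeneousCore 𝒜 p).toIdeal.IsPrime]
    (h : IsCohenMacaulayLocalRing (Localization.AtPrime (Ideal.homogeneousCore 𝒜 p).toIdeal)) :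
    IsCohenMacaulayLocalRing (Localization.AtPrime p) := by
  have hle : (Ideal.homogeneousCore 𝒜 p).toIdeal ≤ p := Ideal.toIdeal_homogeneousCore_le 𝒜 p
  have hprime : (p.map (Ideal.Quotient.mk (Ideal.homogeneousCore 𝒜 p).toIdeal)).IsPrime :=
    Ideal.map_isPrime_of_surjective Ideal.Quotient.mk_surjective (by rw [Ideal.mk_ker]; exact hle)
  obtain ⟨d, hd⟩ := ENat.ne_top_iff_exists.mp
    (Ideal.height_ne_top_of_isPrime
      (I := p.map (Ideal.Quotient.mk (Ideal.homogeneousCore 𝒜 p).toIdeal)))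
  have h1 := Groth.Agent.S13234.result R 𝒜 R 𝒜 p d hd.symm
  have hnt : Nontrivial (LocalizedModule p.primeCompl R) :=
    (localizedModuleSelfEquiv p).toEquiv.nontrivial
  have h2 := Groth.Agent.S13232.result R 𝒜 R 𝒜 p d hd.symm hnt
  rw [depth_localizedModule_self, depth_localizedModule_self] at h1
  rw [Module.supportDim_eq_of_equiv (localizedModuleSelfEquiv p),
    Module.supportDim_eq_of_equiv
      (localizedModuleSelfEquiv (Ideal.homogeneousCore 𝒜 p).toIdeal),
    supportDim_localization_self, supportDim_localization_self] at h2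
  rw [Groth.Agent.Lib.Helper5.CMLocusOpen.cm_iff_height_eq_depth] at h ⊢
  rw [h1, ← h]
  have h3 : ((p.height : ℕ∞) : WithBot ℕ∞) =
      (((Ideal.homogeneousCore 𝒜 p).toIdeal.height + (d : ℕ∞) : ℕ∞) : WithBot ℕ∞) := by
    rw [h2]
    push_cast
    rfl
  exact WithBot.coe_injective h3

/-- A *local Noetherian ring `(R, m)` is Cohen–Macaulay as soon as `R_m` is. -/
theorem isCohenMacaulayRing_of_localization (m : HomogeneousIdeal 𝒜) (hm : GrLC.IsStarLocal 𝒜 m)
    [hmp : m.toIdeal.IsPrime] (h : IsCohenMacaulayLocalRing (Localization.AtPrime m.toIdeal)) :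
    IsCohenMacaulayRing R := by
  refine { isCohenMacaulayLocalRing_localization := ?_ }
  intro p hp
  have hc := core_isPrime 𝒜 p
  apply cmLocal_of_core 𝒜 p
  have hne : Ideal.homogeneousCore 𝒜 p ≠ ⊤ := by
    intro htop
    apply hp.ne_top
    rw [eq_top_iff]
    have h1 : (Ideal.homogeneousCore 𝒜 p).toIdeal ≤ p := Ideal.toIdeal_homogeneousCore_le 𝒜 p
    rw [htop, HomogeneousIdeal.toIdeal_top] at h1
    exact h1
  have hle : Ideal.homogeneousCore 𝒜 p ≤ m := le_of_isStarLocal 𝒜 m hm _ hne
  exact Groth.Agent.Lib.Helper28.CMFib.isCohenMacaulayLocalRing_localization_of_le _ m.toIdeal hle h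

end Groth.Agent.Lib.R2H7.GrCMLoc
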