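/-
Graded local cohomology computed from *injective resolutions: chain maps over a homogeneous map,
null-homotopies, independence of the resolution for the vanishing of a homogeneous piece
(`Van`, `VanX`) and for injectivity of the induced map on a piece (`HInjOn`, `HInjX`).
-/
import Mathlib
import Groth.Agent.Lib.Helper29GrCompare
import Groth.Agent.Lib.Helper29GrRes

set_option autoImplicit false
open DirectSum

noncomputable section

namespace Groth.Agent.Lib.R2H7.GrDer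

open Groth.Agent.Lib.Helper29GrCompare Groth.Agent.Lib.Helper29GrHom
  Groth.Agent.Lib.Helper29GrGam

universe u

variable {ι : Type} [AddCommGroup ι] [DecidableEq ι]
variable {R : Type u} [CommRing R] {𝒜 : ι → AddSubgroup R} [GradedRing 𝒜]

theorem exists_res (X : GrLC.GMod.{u} 𝒜) : Nonempty (GrLC.StarInjRes 𝒜 X.gr) :=
  ⟨Groth.Agent.Lib.Helper29GrRes.starInjRes 𝒜 X.gr⟩

theorem gam_map {M N : Type u} [AddCommGroup M] [Module R M] [AddCommGroup N] [Module R N]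
    (I : Ideal R) (f : M →ₗ[R] N) {z : M} (hz : z ∈ GrLC.gam I M) : f z ∈ GrLC.gam I N := by
  obtain ⟨n, hn⟩ := hz
  exact ⟨n, fun r hr => by rw [← map_smul, hn r hr, map_zero]⟩

section cmap

variable {X Y : GrLC.GMod.{u} 𝒜} (E : GrLC.StarInjRes 𝒜 X.gr) (E' : GrLC.StarInjRes 𝒜 Y.gr)

/-- A homogeneous chain map between *injective resolutions lying over `f`. -/
structure CMap (f : X.carrier →ₗ[R] Y.carrier) where
  θ : ∀ n, (E.X n).carrier →ₗ[R] (E'.X n).carrier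
  gr : ∀ n, GrLC.IsGrHom (E.X n).gr (E'.X n).gr (θ n)
  aug : ∀ m, θ 0 (E.ε m) = E'.ε (f m)
  comm : ∀ n x, θ (n + 1) (E.d n x) = E'.d n (θ n x)

theorem exists_cmap (f : X.carrier →ₗ[R] Y.carrier) (hf : GrLC.IsGrHom X.gr Y.gr f) :
    Nonempty (CMap E E' f) := by
  have hker : LinearMap.ker E.ε ≤ LinearMap.ker (E'.ε ∘ₗ f) := by
    intro m hm
    rw [LinearMap.mem_ker] at hm
    have : m = 0 := E.ε_injective (by rw [hm, map_zero])
    rw [this]
    exact zero_mem _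
  have hγ : GrLC.IsGrHom X.gr (E'.X 0).gr (E'.ε ∘ₗ f) :=
    fun g m hm => E'.ε_grHom g _ (hf g m hm)
  obtain ⟨h, hh, hhε⟩ := exists_extension 𝒜 (E.X 0) (E'.X 0) X.gr (E'.starInj 0) E.ε E.ε_grHom
    (E'.ε ∘ₗ f) hγ hker
  have hkill : ∀ x, E.d 0 x = 0 → E'.d 0 (h x) = 0 := by
    intro x hx
    have hx' : x ∈ LinearMap.range E.ε := by
      rw [← E.exact_zero]
      exact hx
    obtain ⟨m, rfl⟩ := hx'
    rw [hhε m]
    exact E_d_ε 𝒜 Y.gr E' (f m)
  let s0 : Stage 𝒜 Y.gr E.X E.d E' 0 := ⟨h, hh, hkill⟩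
  choose next hnext using exists_stage_succ 𝒜 Y.gr E.X E.d E.d_grHom E.exact_succ E'
  let S : ∀ n, Stage 𝒜 Y.gr E.X E.d E' n := fun n => Nat.rec s0 (fun n s => next n s) n
  exact ⟨⟨fun n => (S n).θ, fun n => (S n).hom, hhε, fun n x => hnext n (S n) x⟩⟩

end cmap

section htpy

variable {X Y : GrLC.GMod.{u} 𝒜} (E : GrLC.StarInjRes 𝒜 X.gr) (E' : GrLC.StarInjRes 𝒜 Y.gr)
variable (Δ : ∀ n, (E.X n).carrier →ₗ[R] (E'.X n).carrier)
  (hΔgr : ∀ n, GrLC.IsGrHom (E.X n).gr (E'.X n).gr (Δ n))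
  (hΔ0 : ∀ m, Δ 0 (E.ε m) = 0)
  (hΔc : ∀ n x, Δ (n + 1) (E.d n x) = E'.d n (Δ n x))

/-- A stage in the construction of a null-homotopy. -/
structure HStage (n : ℕ) where
  h : (E.X (n + 1)).carrier →ₗ[R] (E'.X n).carrier
  gr : GrLC.IsGrHom (E.X (n + 1)).gr (E'.X n).gr h
  inv : ∀ y : (E.X n).carrier, E'.d n (Δ n y - h (E.d n y)) = 0

include hΔgr hΔ0 in
theorem exists_hstage_zero : ∃ s : HStage E E' Δ 0, ∀ x, Δ 0 x = s.h (E.d 0 x) := by
  have hker : LinearMap.ker (E.d 0) ≤ LinearMap.ker (Δ 0) := by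
    intro x hx
    rw [E.exact_zero] at hx
    obtain ⟨m, rfl⟩ := hx
    rw [LinearMap.mem_ker]
    exact hΔ0 m
  obtain ⟨h, hh, hhd⟩ := exists_extension 𝒜 (E.X (0 + 1)) (E'.X 0) (E.X 0).gr (E'.starInj 0)
    (E.d 0) (E.d_grHom 0) (Δ 0) (hΔgr 0) hker
  refine ⟨⟨h, hh, fun y => ?_⟩, fun x => (hhd x).symm⟩
  rw [hhd y, sub_self, map_zero]

include hΔgr hΔc in
theorem exists_hstage_succ (n : ℕ) (s : HStage E E' Δ n) :
    ∃ t : HStage E E' Δ (n + 1),
      ∀ x, Δ (n + 1) x = E'.d n (s.h x) + t.h (E.d (n + 1) x) := by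
  have hγgr : GrLC.IsGrHom (E.X (n + 1)).gr (E'.X (n + 1)).gr (Δ (n + 1) - E'.d n ∘ₗ s.h) := by
    intro g x hx
    rw [LinearMap.sub_apply]
    exact sub_mem (hΔgr (n + 1) g x hx) (E'.d_grHom n g _ (s.gr g x hx))
  have hker : LinearMap.ker (E.d (n + 1)) ≤ LinearMap.ker (Δ (n + 1) - E'.d n ∘ₗ s.h) := by
    intro x hx
    rw [E.exact_succ n] at hx
    obtain ⟨y, rfl⟩ := hx
    rw [LinearMap.mem_ker, LinearMap.sub_apply, LinearMap.comp_apply, hΔc, ← map_sub]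
    exact s.inv y
  obtain ⟨h, hh, hhd⟩ := exists_extension 𝒜 (E.X (n + 1 + 1)) (E'.X (n + 1)) (E.X (n + 1)).gr
    (E'.starInj (n + 1)) (E.d (n + 1)) (E.d_grHom (n + 1)) _ hγgr hker
  refine ⟨⟨h, hh, fun y => ?_⟩, fun x => ?_⟩
  · rw [hhd y, LinearMap.sub_apply, LinearMap.comp_apply, sub_sub_cancel]
    exact E_d_d 𝒜 Y.gr E' n _
  · rw [hhd x, LinearMap.sub_apply, LinearMap.comp_apply]
    abel

include hΔgr hΔ0 hΔc in
/-- A homogeneous chain map into a *injective resolution lying over zero is null-homotopic. -/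
theorem exists_htpy : ∃ h : ∀ n, (E.X (n + 1)).carrier →ₗ[R] (E'.X n).carrier,
    (∀ n, GrLC.IsGrHom (E.X (n + 1)).gr (E'.X n).gr (h n)) ∧ (∀ x, Δ 0 x = h 0 (E.d 0 x)) ∧
    ∀ n x, Δ (n + 1) x = E'.d n (h n x) + h (n + 1) (E.d (n + 1) x) := by
  obtain ⟨s0, hs0⟩ := exists_hstage_zero E E' Δ hΔgr hΔ0
  choose next hnext using exists_hstage_succ E E' Δ hΔgr hΔc
  let S : ∀ n, HStage E E' Δ n := fun n => Nat.rec s0 (fun n s => next n s) n
  exact ⟨fun n => (S n).h, fun n => (S n).gr, hs0, fun n x => hnext n (S n) x⟩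

variable (a : HomogeneousIdeal 𝒜)

include hΔgr hΔ0 hΔc in
/-- A chain map over zero sends cocycles of `Γ_a` to coboundaries. -/
theorem delta_mem_cobdy {i : ℕ} {z : (E.X i).carrier} (hz : z ∈ E.cocyc a i) :
    Δ i z ∈ E'.cobdy a i := by
  obtain ⟨H, -, H0, Hs⟩ := exists_htpy E E' Δ hΔgr hΔ0 hΔc
  have hd : E.d i z = 0 := hz.2
  cases i with
  | zero =>
    rw [H0 z, hd, map_zero]
    exact zero_mem _
  | succ n =>
    rw [Hs n z, hd, map_zero, add_zero]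
    exact ⟨H n z, gam_map _ _ hz.1, rfl⟩

end htpy

section van

variable {X Y : GrLC.GMod.{u} 𝒜} (a : HomogeneousIdeal 𝒜)

/-- The degree `g` piece of `H^i_a` computed from `E` vanishes. -/
def Van (E : GrLC.StarInjRes 𝒜 X.gr) (i : ℕ) (g : ι) : Prop :=
  ∀ z : (E.X i).carrier, z ∈ E.cocyc a i → z ∈ (E.X i).gr g → z ∈ E.cobdy a i

variable {E : GrLC.StarInjRes 𝒜 X.gr} {E' : GrLC.StarInjRes 𝒜 Y.gr}
  {f : X.carrier →ₗ[R] Y.carrier}

theorem CMap.cocyc (c : CMap E E' f) {i : ℕ} {z : (E.X i).carrier} (hz : z ∈ E.cocyc a i) :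
    c.θ i z ∈ E'.cocyc a i := by
  refine ⟨gam_map _ _ hz.1, ?_⟩
  have h2 : E.d i z = 0 := hz.2
  show E'.d i (c.θ i z) = 0
  rw [← c.comm, h2, map_zero]

theorem CMap.cobdy (c : CMap E E' f) {i : ℕ} {z : (E.X i).carrier} (hz : z ∈ E.cobdy a i) :
    c.θ i z ∈ E'.cobdy a i := by
  cases i with
  | zero =>
    have : z = 0 := (Submodule.mem_bot R).mp hz
    rw [this, map_zero]
    exact zero_mem _
  | succ n =>
    obtain ⟨w, hw, rfl⟩ := hz
    exact ⟨c.θ n w, gam_map _ _ hw, (c.comm n w).symm⟩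

/-- Injectivity on the degree `g` piece of `H^i_a` of the map induced by a chain map. -/
def HInjOn (c : CMap E E' f) (i : ℕ) (g : ι) : Prop :=
  ∀ z : (E.X i).carrier, z ∈ E.cocyc a i → z ∈ (E.X i).gr g → c.θ i z ∈ E'.cobdy a i →
    z ∈ E.cobdy a i

theorem isGrHom_id : GrLC.IsGrHom X.gr X.gr (LinearMap.id : X.carrier →ₗ[R] X.carrier) :=
  fun _ _ hm => hm

/-- Two comparison maps over the identity compose to the identity on cohomology. -/
theorem comp_sub_mem_cobdy {E₁ E₂ : GrLC.StarInjRes 𝒜 X.gr} (p : CMap E₂ E₁ LinearMap.id)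
    (p' : CMap E₁ E₂ LinearMap.id) {i : ℕ} {z : (E₂.X i).carrier} (hz : z ∈ E₂.cocyc a i) :
    p'.θ i (p.θ i z) - z ∈ E₂.cobdy a i := by
  have := delta_mem_cobdy E₂ E₂ (fun n => p'.θ n ∘ₗ p.θ n - LinearMap.id)
    (fun n g x hx => by
      rw [LinearMap.sub_apply, LinearMap.comp_apply, LinearMap.id_apply]
      exact sub_mem (p'.gr n g _ (p.gr n g x hx)) hx)
    (fun m => by
      rw [LinearMap.sub_apply, LinearMap.comp_apply, LinearMap.id_apply, p.aug,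
        LinearMap.id_apply, p'.aug, LinearMap.id_apply, sub_self])
    (fun n x => by
      rw [LinearMap.sub_apply, LinearMap.comp_apply, LinearMap.id_apply, p.comm, p'.comm,
        LinearMap.sub_apply, LinearMap.comp_apply, LinearMap.id_apply, map_sub])
    a hz
  rwa [LinearMap.sub_apply, LinearMap.comp_apply, LinearMap.id_apply] at this

theorem van_of_van (E₁ E₂ : GrLC.StarInjRes 𝒜 X.gr) {i : ℕ} {g : ι} (h : Van a E₁ i g) :
    Van a E₂ i g := by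
  obtain ⟨p⟩ := exists_cmap E₂ E₁ LinearMap.id isGrHom_id
  obtain ⟨p'⟩ := exists_cmap E₁ E₂ LinearMap.id isGrHom_id
  intro z hz hzg
  have h1 : p.θ i z ∈ E₁.cobdy a i := h _ (p.cocyc a hz) (p.gr i g z hzg)
  have h2 : p'.θ i (p.θ i z) ∈ E₂.cobdy a i := p'.cobdy a h1
  have h3 := comp_sub_mem_cobdy a p p' hz
  have : z = p'.θ i (p.θ i z) - (p'.θ i (p.θ i z) - z) := by abel
  rw [this]
  exact sub_mem h2 h3

theorem hinj_of_hinj {E₁ E₂ : GrLC.StarInjRes 𝒜 X.gr}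
    {E₁' E₂' : GrLC.StarInjRes 𝒜 Y.gr} (c₁ : CMap E₁ E₁' f) (c₂ : CMap E₂ E₂' f) {i : ℕ} {g : ι}
    (h : HInjOn a c₁ i g) : HInjOn a c₂ i g := by
  obtain ⟨p⟩ := exists_cmap E₂ E₁ LinearMap.id isGrHom_id
  obtain ⟨p'⟩ := exists_cmap E₁ E₂ LinearMap.id isGrHom_id
  obtain ⟨q⟩ := exists_cmap E₂' E₁' LinearMap.id isGrHom_id
  intro z hz hzg hcz
  have hq : q.θ i (c₂.θ i z) ∈ E₁'.cobdy a i := q.cobdy a hcz
  have hΔ := delta_mem_cobdy E₂ E₁' (fun n => c₁.θ n ∘ₗ p.θ n - q.θ n ∘ₗ c₂.θ n)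
    (fun n g x hx => by
      rw [LinearMap.sub_apply, LinearMap.comp_apply, LinearMap.comp_apply]
      exact sub_mem (c₁.gr n g _ (p.gr n g x hx)) (q.gr n g _ (c₂.gr n g x hx)))
    (fun m => by
      rw [LinearMap.sub_apply, LinearMap.comp_apply, LinearMap.comp_apply, p.aug,
        LinearMap.id_apply, c₁.aug, c₂.aug, q.aug, LinearMap.id_apply, sub_self])
    (fun n x => by
      rw [LinearMap.sub_apply, LinearMap.comp_apply, LinearMap.comp_apply, p.comm, c₁.comm,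
        c₂.comm, q.comm, LinearMap.sub_apply, LinearMap.comp_apply, LinearMap.comp_apply,
        map_sub])
    a hz
  rw [LinearMap.sub_apply, LinearMap.comp_apply, LinearMap.comp_apply] at hΔ
  have h1 : c₁.θ i (p.θ i z) ∈ E₁'.cobdy a i := by
    have : c₁.θ i (p.θ i z) =
        (c₁.θ i (p.θ i z) - q.θ i (c₂.θ i z)) + q.θ i (c₂.θ i z) := by abel
    rw [this]
    exact add_mem hΔ hq
  have h2 : p.θ i z ∈ E₁.cobdy a i := h _ (p.cocyc a hz) (p.gr i g z hzg) h1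
  have h3 : p'.θ i (p.θ i z) ∈ E₂.cobdy a i := p'.cobdy a h2
  have h4 := comp_sub_mem_cobdy a p p' hz
  have : z = p'.θ i (p.θ i z) - (p'.θ i (p.θ i z) - z) := by abel
  rw [this]
  exact sub_mem h3 h4

/-- The degree `g` piece of `H^i_a(W)` vanishes (for every *injective resolution). -/
def VanX (W : GrLC.GMod.{u} 𝒜) (i : ℕ) (g : ι) : Prop :=
  ∀ E : GrLC.StarInjRes 𝒜 W.gr, Van a E i g

theorem vanX_iff (E : GrLC.StarInjRes 𝒜 X.gr) {i : ℕ} {g : ι} : VanX a X i g ↔ Van a E i g :=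
  ⟨fun h => h E, fun h E' => van_of_van a E E' h⟩

/-- The map induced by `f` on the degree `g` piece of `H^i_a` is injective. -/
def HInjX (f : X.carrier →ₗ[R] Y.carrier) (i : ℕ) (g : ι) : Prop :=
  ∀ (E : GrLC.StarInjRes 𝒜 X.gr) (E' : GrLC.StarInjRes 𝒜 Y.gr) (c : CMap E E' f),
    HInjOn a c i g

theorem hinjX_of (c : CMap E E' f) {i : ℕ} {g : ι}
    (h : HInjOn a c i g) : HInjX a f i g :=
  fun _ _ c₂ => hinj_of_hinj a c c₂ h

/-- Composition of chain maps. -/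
def CMap.comp {Z : GrLC.GMod.{u} 𝒜} {E'' : GrLC.StarInjRes 𝒜 Z.gr}
    {f' : Y.carrier →ₗ[R] Z.carrier} (c' : CMap E' E'' f') (c : CMap E E' f) :
    CMap E E'' (f' ∘ₗ f) where
  θ n := c'.θ n ∘ₗ c.θ n
  gr n g x hx := c'.gr n g _ (c.gr n g x hx)
  aug m := by rw [LinearMap.comp_apply, c.aug, c'.aug, LinearMap.comp_apply]
  comm n x := by rw [LinearMap.comp_apply, c.comm, c'.comm, LinearMap.comp_apply]

theorem hinjX_comp {Z : GrLC.GMod.{u} 𝒜} {f' : Y.carrier →ₗ[R] Z.carrier}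
    (hf : GrLC.IsGrHom X.gr Y.gr f) (hf' : GrLC.IsGrHom Y.gr Z.gr f') {i : ℕ} {g : ι}
    (h : HInjX a f i g) (h' : HInjX a f' i g) : HInjX a (f' ∘ₗ f) i g := by
  obtain ⟨E⟩ := exists_res X
  obtain ⟨E'⟩ := exists_res Y
  obtain ⟨E''⟩ := exists_res Z
  obtain ⟨c⟩ := exists_cmap E E' f hf
  obtain ⟨c'⟩ := exists_cmap E' E'' f' hf'
  refine hinjX_of a (c'.comp c) ?_
  intro z hz hzg hcz
  exact h E E' c z hz hzg (h' E' E'' c' _ (c.cocyc a hz) (c.gr i g z hzg) hcz)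

end van

end Groth.Agent.Lib.R2H7.GrDer
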