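/-
Operations on bundled graded modules (`GrLC.GMod`): homogeneous submodules, quotients, shifts,
binary products; *injectivity of products and shifts; shifting a *injective resolution; short
exact sequences of graded modules.
-/
import Mathlib
import Groth.Agent.Lib.R2H7GrDer
import Groth.Agent.Lib.Helper29GrSub
import Groth.Agent.Lib.Helper29GrShift

set_option autoImplicit false
open DirectSum

noncomputable section

namespace Groth.Agent.Lib.R2H7.GrOps

open Groth.Agent.Lib.Helper29GrQuot Groth.Agent.Lib.Helper29GrSub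
  Groth.Agent.Lib.Helper29GrShift Groth.Agent.Lib.Helper29GrHom Groth.Agent.Lib.Helper29GrGam
  Groth.Agent.Lib.R2H7.GrDer

universe u

variable {ι : Type} [AddCommGroup ι] [DecidableEq ι]
variable {R : Type u} [CommRing R] {𝒜 : ι → AddSubgroup R} [GradedRing 𝒜]

/-! ### Sub, quotient, shift -/

/-- A homogeneous submodule as a graded module. -/
def subG (X : GrLC.GMod.{u} 𝒜) (P : Submodule R X.carrier) (hP : P.IsHomogeneous X.gr) :
    GrLC.GMod.{u} 𝒜 :=
  { carrier := ↥P
    gr := subGr X.gr P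
    dec := subDecomposition X.gr P hP
    gsmul := sub_gradedSMul X.gr P 𝒜 }

/-- The quotient by a homogeneous submodule as a graded module. -/
def quotG (X : GrLC.GMod.{u} 𝒜) (P : Submodule R X.carrier) (hP : P.IsHomogeneous X.gr) :
    GrLC.GMod.{u} 𝒜 :=
  { carrier := X.carrier ⧸ P
    gr := quotGr X.gr P
    dec := quotDecomposition X.gr P hP
    gsmul := quot_gradedSMul X.gr P 𝒜 }

/-- The shifted graded module `X(e)`, `X(e)_j = X_{j+e}`. -/
def shiftG (X : GrLC.GMod.{u} 𝒜) (e : ι) : GrLC.GMod.{u} 𝒜 :=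
  { carrier := X.carrier
    gr := shiftGr X.gr e
    dec := shiftDecomposition X.gr e
    gsmul := shift_gradedSMul 𝒜 X.gr e }

theorem subtype_grHom (X : GrLC.GMod.{u} 𝒜) (P : Submodule R X.carrier)
    (hP : P.IsHomogeneous X.gr) : GrLC.IsGrHom (subG X P hP).gr X.gr P.subtype :=
  fun _ _ hm => hm

theorem mkQ_grHom (X : GrLC.GMod.{u} 𝒜) (P : Submodule R X.carrier)
    (hP : P.IsHomogeneous X.gr) : GrLC.IsGrHom X.gr (quotG X P hP).gr P.mkQ :=
  fun _ a ha => ⟨a, ha, rfl⟩

/-! ### Products -/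

section prod

variable (X Y : GrLC.GMod.{u} 𝒜)

/-- The pieces of a product. -/
def prodGr : ι → AddSubgroup (X.carrier × Y.carrier) := fun g => (X.gr g).prod (Y.gr g)

/-- Left inclusion on pieces. -/
def inlP (g : ι) : ↥(X.gr g) →+ ↥(prodGr X Y g) where
  toFun x := ⟨((x : X.carrier), 0), ⟨x.2, zero_mem _⟩⟩
  map_zero' := rfl
  map_add' x y := Subtype.ext (Prod.ext rfl (add_zero 0).symm)

/-- Right inclusion on pieces. -/
def inrP (g : ι) : ↥(Y.gr g) →+ ↥(prodGr X Y g) where
  toFun y := ⟨(0, (y : Y.carrier)), ⟨zero_mem _, y.2⟩⟩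
  map_zero' := rfl
  map_add' x y := Subtype.ext (Prod.ext (add_zero 0).symm rfl)

theorem coe_map_inlP (z : ⨁ g, X.gr g) :
    DirectSum.coeAddMonoidHom (prodGr X Y) (DirectSum.map (inlP X Y) z) =
      (DirectSum.coeAddMonoidHom X.gr z, 0) := by
  classical
  induction z using DirectSum.induction_on with
  | zero =>
    rw [map_zero, map_zero, map_zero]
    rfl
  | of g x =>
    rw [DirectSum.map_of, DirectSum.coeAddMonoidHom_of, DirectSum.coeAddMonoidHom_of]
    rfl
  | add x y hx hy =>
    rw [map_add, map_add, map_add, hx, hy]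
    exact Prod.ext rfl (add_zero 0)

theorem coe_map_inrP (z : ⨁ g, Y.gr g) :
    DirectSum.coeAddMonoidHom (prodGr X Y) (DirectSum.map (inrP X Y) z) =
      (0, DirectSum.coeAddMonoidHom Y.gr z) := by
  classical
  induction z using DirectSum.induction_on with
  | zero =>
    rw [map_zero, map_zero, map_zero]
    rfl
  | of g x =>
    rw [DirectSum.map_of, DirectSum.coeAddMonoidHom_of, DirectSum.coeAddMonoidHom_of]
    rfl
  | add x y hx hy =>
    rw [map_add, map_add, map_add, hx, hy]
    exact Prod.ext (add_zero 0) rfl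

/-- The decomposition map of a product. -/
def prodDec : X.carrier × Y.carrier →+ ⨁ g, prodGr X Y g :=
  ((DirectSum.map (inlP X Y)).comp
      ((DirectSum.decomposeAddEquiv X.gr).toAddMonoidHom.comp (AddMonoidHom.fst _ _))) +
    ((DirectSum.map (inrP X Y)).comp
      ((DirectSum.decomposeAddEquiv Y.gr).toAddMonoidHom.comp (AddMonoidHom.snd _ _)))

theorem prodDec_apply (p : X.carrier × Y.carrier) :
    prodDec X Y p = DirectSum.map (inlP X Y) (DirectSum.decompose X.gr p.1) +
      DirectSum.map (inrP X Y) (DirectSum.decompose Y.gr p.2) := rfl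

/-- The decomposition of a product of graded modules. -/
@[instance_reducible]
def prodDecomposition : DirectSum.Decomposition (prodGr X Y) :=
  DirectSum.Decomposition.ofAddHom (prodGr X Y) (prodDec X Y)
    (by
      apply AddMonoidHom.ext
      intro p
      rw [AddMonoidHom.comp_apply, prodDec_apply, map_add, coe_map_inlP, coe_map_inrP]
      have h1 : DirectSum.coeAddMonoidHom X.gr (DirectSum.decompose X.gr p.1) = p.1 :=
        DirectSum.Decomposition.left_inv p.1
      have h2 : DirectSum.coeAddMonoidHom Y.gr (DirectSum.decompose Y.gr p.2) = p.2 :=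
        DirectSum.Decomposition.left_inv p.2
      rw [h1, h2]
      exact Prod.ext (add_zero _) (zero_add _))
    (by
      apply DirectSum.addHom_ext
      rintro g ⟨⟨x, y⟩, hx, hy⟩
      rw [AddMonoidHom.comp_apply, DirectSum.coeAddMonoidHom_of, prodDec_apply]
      change DirectSum.map (inlP X Y) (DirectSum.decompose X.gr x) +
        DirectSum.map (inrP X Y) (DirectSum.decompose Y.gr y) = _
      rw [DirectSum.decompose_of_mem X.gr hx, DirectSum.decompose_of_mem Y.gr hy,
        DirectSum.map_of, DirectSum.map_of, ← map_add, AddMonoidHom.id_apply]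
      congr 1
      apply Subtype.ext
      show ((x, 0) + (0, y) : X.carrier × Y.carrier) = (x, y)
      rw [Prod.mk_add_mk, add_zero, zero_add])

theorem prod_gradedSMul : SetLike.GradedSMul 𝒜 (prodGr X Y) where
  smul_mem := by
    intro i j r p hr hp
    exact ⟨SetLike.GradedSMul.smul_mem (A := 𝒜) (B := X.gr) hr hp.1,
      SetLike.GradedSMul.smul_mem (A := 𝒜) (B := Y.gr) hr hp.2⟩

/-- The product of two graded modules. -/
def prodG : GrLC.GMod.{u} 𝒜 :=
  { carrier := X.carrier × Y.carrier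
    gr := prodGr X Y
    dec := prodDecomposition X Y
    gsmul := prod_gradedSMul X Y }

variable {X Y}

theorem mem_prodG_gr {p : X.carrier × Y.carrier} {j : ι} :
    p ∈ (prodG X Y).gr j ↔ p.1 ∈ X.gr j ∧ p.2 ∈ Y.gr j := Iff.rfl

theorem isStarInj_prod (hX : GrLC.IsStarInj 𝒜 X.gr) (hY : GrLC.IsStarInj 𝒜 Y.gr) :
    GrLC.IsStarInj 𝒜 (prodG X Y).gr := by
  intro A B f hf hfi g hg
  obtain ⟨h1, hh1, e1⟩ := hX A B f hf hfi (LinearMap.fst R X.carrier Y.carrier ∘ₗ g)
    (fun j m hm => (mem_prodG_gr.mp (hg j m hm)).1)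
  obtain ⟨h2, hh2, e2⟩ := hY A B f hf hfi (LinearMap.snd R X.carrier Y.carrier ∘ₗ g)
    (fun j m hm => (mem_prodG_gr.mp (hg j m hm)).2)
  refine ⟨h1.prod h2, fun j m hm => mem_prodG_gr.mpr ⟨hh1 j m hm, hh2 j m hm⟩, ?_⟩
  apply LinearMap.ext
  intro x
  exact Prod.ext (LinearMap.congr_fun e1 x) (LinearMap.congr_fun e2 x)

theorem mem_gam_prod (I : Ideal R) {p : X.carrier × Y.carrier} :
    p ∈ GrLC.gam I (X.carrier × Y.carrier) ↔
      p.1 ∈ GrLC.gam I X.carrier ∧ p.2 ∈ GrLC.gam I Y.carrier := by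
  constructor
  · intro h
    exact ⟨gam_map I (LinearMap.fst R X.carrier Y.carrier) h,
      gam_map I (LinearMap.snd R X.carrier Y.carrier) h⟩
  · rintro ⟨h1, h2⟩
    have e : p = LinearMap.inl R X.carrier Y.carrier p.1 +
        LinearMap.inr R X.carrier Y.carrier p.2 := by
      apply Prod.ext
      · simp
      · simp
    rw [e]
    exact add_mem (gam_map I _ h1) (gam_map I _ h2)

end prod

/-! ### Shifts of *injectives and of resolutions -/

section shift

variable {X : GrLC.GMod.{u} 𝒜}

theorem isStarInj_shift (hX : GrLC.IsStarInj 𝒜 X.gr) (e : ι) :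
    GrLC.IsStarInj 𝒜 (shiftG X e).gr := by
  intro A B f hf hfi g hg
  have hf' : GrLC.IsGrHom (shiftG A (-e)).gr (shiftG B (-e)).gr f :=
    fun j m hm => hf (j + -e) m hm
  have hg' : GrLC.IsGrHom (shiftG A (-e)).gr X.gr g := by
    intro j m hm
    have := hg (j + -e) m hm
    change g m ∈ X.gr (j + -e + e) at this
    rwa [neg_add_cancel_right] at this
  obtain ⟨h, hh, eh⟩ := hX (shiftG A (-e)) (shiftG B (-e)) f hf' hfi g hg'
  refine ⟨h, ?_, eh⟩
  intro j m hm
  have hm' : m ∈ (shiftG B (-e)).gr (j + e) := by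
    change m ∈ B.gr (j + e + -e)
    rwa [add_neg_cancel_right]
  exact hh (j + e) m hm'

/-- The shifted resolution `E(e)` of `X(e)`. -/
def shiftRes (E : GrLC.StarInjRes 𝒜 X.gr) (e : ι) : GrLC.StarInjRes 𝒜 (shiftG X e).gr where
  X n := shiftG (E.X n) e
  d := E.d
  ε := E.ε
  d_grHom n j m hm := E.d_grHom n (j + e) m hm
  ε_grHom j m hm := E.ε_grHom (j + e) m hm
  ε_injective := E.ε_injective
  exact_zero := E.exact_zero
  exact_succ := E.exact_succ
  starInj n := isStarInj_shift (E.starInj n) e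

variable (a : HomogeneousIdeal 𝒜)

theorem cobdy_shiftRes (E : GrLC.StarInjRes 𝒜 X.gr) (e : ι) (i : ℕ) :
    (shiftRes E e).cobdy a i = E.cobdy a i := by
  cases i <;> rfl

theorem van_shiftRes (E : GrLC.StarInjRes 𝒜 X.gr) (e : ι) (i : ℕ) (g : ι) :
    Van a (shiftRes E e) i g ↔ Van a E i (g + e) := by
  constructor
  · intro h z hz hzg
    have := h z hz hzg
    rwa [cobdy_shiftRes] at this
  · intro h z hz hzg
    rw [cobdy_shiftRes]
    exact h z hz hzg

theorem vanX_shift (e : ι) (i : ℕ) (g : ι) : VanX a (shiftG X e) i g ↔ VanX a X i (g + e) := by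
  obtain ⟨E⟩ := exists_res X
  rw [vanX_iff a (shiftRes E e), vanX_iff a E, van_shiftRes]

end shift

/-! ### Short exact sequences -/

/-- A short exact sequence of graded modules and homogeneous maps. -/
structure GSES (X' X X'' : GrLC.GMod.{u} 𝒜) where
  f : X'.carrier →ₗ[R] X.carrier
  g : X.carrier →ₗ[R] X''.carrier
  f_gr : GrLC.IsGrHom X'.gr X.gr f
  g_gr : GrLC.IsGrHom X.gr X''.gr g
  f_inj : Function.Injective f
  g_surj : Function.Surjective g
  exact : LinearMap.ker g = LinearMap.range f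

/-- `0 → P → X → X/P → 0`. -/
def GSES.ofSub (X : GrLC.GMod.{u} 𝒜) (P : Submodule R X.carrier) (hP : P.IsHomogeneous X.gr) :
    GSES (subG X P hP) X (quotG X P hP) where
  f := P.subtype
  g := P.mkQ
  f_gr := subtype_grHom X P hP
  g_gr := mkQ_grHom X P hP
  f_inj := Subtype.val_injective
  g_surj := P.mkQ_surjective
  exact := (Submodule.ker_mkQ P).trans (Submodule.range_subtype P).symm

/-- `0 → ker π → X → N → 0` for a surjective homogeneous map. -/
def GSES.ofSurj {X N : GrLC.GMod.{u} 𝒜} (π : X.carrier →ₗ[R] N.carrier)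
    (hπ : GrLC.IsGrHom X.gr N.gr π) (hs : Function.Surjective π) :
    GSES (subG X (LinearMap.ker π) (ker_isHomogeneous N.gr X.gr π hπ)) X N where
  f := (LinearMap.ker π).subtype
  g := π
  f_gr := subtype_grHom X _ _
  g_gr := hπ
  f_inj := Subtype.val_injective
  g_surj := hs
  exact := (Submodule.range_subtype (LinearMap.ker π)).symm

/-- `0 → X → X × Y → Y → 0`. -/
def GSES.prod (X Y : GrLC.GMod.{u} 𝒜) : GSES X (prodG X Y) Y where
  f := LinearMap.inl R X.carrier Y.carrier
  g := LinearMap.snd R X.carrier Y.carrier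
  f_gr := fun _ _ hm => ⟨hm, zero_mem _⟩
  g_gr := fun _ _ hm => hm.2
  f_inj := LinearMap.inl_injective
  g_surj := LinearMap.snd_surjective
  exact := by
    ext p
    rw [LinearMap.mem_ker, LinearMap.mem_range]
    constructor
    · intro h
      refine ⟨p.1, Prod.ext rfl ?_⟩
      exact h.symm
    · rintro ⟨x, rfl⟩
      rfl

end Groth.Agent.Lib.R2H7.GrOps
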