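/-
The horseshoe resolution of the middle term of a short exact sequence of graded modules and the
resulting long exact sequence of graded local cohomology, in elementwise form:
vanishing of a piece in two of three terms (`vanX_mid`, `vanX_right`, `vanX_left`) and injectivity
of the induced maps (`hinjX_left`, `hinjX_right`).
-/
import Mathlib
import Groth.Agent.Lib.R2H7GrOps

set_option autoImplicit false
open DirectSum

noncomputable section

namespace Groth.Agent.Lib.R2H7.GrLES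

open Groth.Agent.Lib.Helper29GrCompare Groth.Agent.Lib.Helper29GrHom
  Groth.Agent.Lib.Helper29GrGam Groth.Agent.Lib.R2H7.GrDer Groth.Agent.Lib.R2H7.GrOps

universe u

variable {ι : Type} [AddCommGroup ι] [DecidableEq ι]
variable {R : Type u} [CommRing R] {𝒜 : ι → AddSubgroup R} [GradedRing 𝒜]

/-- A homogeneous coboundary has a homogeneous preimage in `Γ_a`. -/
theorem exists_homog_preimage (a : HomogeneousIdeal 𝒜) {X : GrLC.GMod.{u} 𝒜}
    (E : GrLC.StarInjRes 𝒜 X.gr) (n : ℕ) {z : (E.X (n + 1)).carrier} {g : ι}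
    (hz : z ∈ E.cobdy a (n + 1)) (hzg : z ∈ (E.X (n + 1)).gr g) :
    ∃ w : (E.X n).carrier, w ∈ GrLC.gam a.toIdeal (E.X n).carrier ∧ w ∈ (E.X n).gr g ∧
      E.d n w = z := by
  classical
  obtain ⟨w₀, hw₀, rfl⟩ := hz
  refine ⟨((decompose (E.X n).gr w₀) g : (E.X n).carrier),
    gam_isHomogeneous 𝒜 (E.X n).gr a g hw₀, SetLike.coe_mem _, ?_⟩
  rw [← decompose_map (E.X (n + 1)).gr (E.X n).gr (E.d n) (E.d_grHom n) w₀ g]
  exact DirectSum.decompose_of_mem_same _ hzg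

section horseshoe

variable {X' X X'' : GrLC.GMod.{u} 𝒜} (S : GSES X' X X'')
  (E' : GrLC.StarInjRes 𝒜 X'.gr) (E'' : GrLC.StarInjRes 𝒜 X''.gr)

theorem g_f (m' : X'.carrier) : S.g (S.f m') = 0 := by
  have : S.f m' ∈ LinearMap.ker S.g := by
    rw [S.exact]
    exact LinearMap.mem_range_self _ m'
  exact this

/-- The data of the horseshoe construction. -/
structure HData where
  σ : X.carrier →ₗ[R] (E'.X 0).carrier
  σ_gr : GrLC.IsGrHom X.gr (E'.X 0).gr σ
  σ_f : ∀ m', σ (S.f m') = E'.ε m'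
  τ : ∀ n, (E''.X n).carrier →ₗ[R] (E'.X (n + 1)).carrier
  τ_gr : ∀ n, GrLC.IsGrHom (E''.X n).gr (E'.X (n + 1)).gr (τ n)
  h0 : ∀ m, E'.d 0 (σ m) + τ 0 (E''.ε (S.g m)) = 0
  hs : ∀ n b, E'.d (n + 1) (τ n b) + τ (n + 1) (E''.d n b) = 0

/-- A stage in the construction of `τ`. -/
structure TStage (n : ℕ) where
  t : (E''.X n).carrier →ₗ[R] (E'.X (n + 1)).carrier
  gr : GrLC.IsGrHom (E''.X n).gr (E'.X (n + 1)).gr t
  kill : ∀ b, E''.d n b = 0 → E'.d (n + 1) (t b) = 0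

theorem exists_tstage_succ (n : ℕ) (s : TStage E' E'' n) :
    ∃ t : TStage E' E'' (n + 1), ∀ b, E'.d (n + 1) (s.t b) + t.t (E''.d n b) = 0 := by
  have hγ : GrLC.IsGrHom (E''.X n).gr (E'.X (n + 1 + 1)).gr (-(E'.d (n + 1) ∘ₗ s.t)) := by
    intro g b hb
    rw [LinearMap.neg_apply]
    exact neg_mem (E'.d_grHom (n + 1) g _ (s.gr g b hb))
  have hker : LinearMap.ker (E''.d n) ≤ LinearMap.ker (-(E'.d (n + 1) ∘ₗ s.t)) := by
    intro b hb
    rw [LinearMap.mem_ker] at hb ⊢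
    rw [LinearMap.neg_apply, LinearMap.comp_apply, s.kill b hb, neg_zero]
  obtain ⟨h, hh, hhd⟩ := exists_extension 𝒜 (E''.X (n + 1)) (E'.X (n + 1 + 1)) (E''.X n).gr
    (E'.starInj (n + 1 + 1)) (E''.d n) (E''.d_grHom n) _ hγ hker
  refine ⟨⟨h, hh, ?_⟩, fun b => ?_⟩
  · intro b' hb'
    have hb'' : b' ∈ LinearMap.range (E''.d n) := by
      rw [← E''.exact_succ n]
      exact hb'
    obtain ⟨b, rfl⟩ := hb''
    rw [hhd b, LinearMap.neg_apply, LinearMap.comp_apply, map_neg,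
      E_d_d 𝒜 X'.gr E' (n + 1), neg_zero]
  · rw [hhd b, LinearMap.neg_apply, LinearMap.comp_apply, add_neg_cancel]

theorem exists_hdata : Nonempty (HData S E' E'') := by
  obtain ⟨σ, hσ, hσf⟩ := E'.starInj 0 X' X S.f S.f_gr S.f_inj E'.ε E'.ε_grHom
  have hσf' : ∀ m', σ (S.f m') = E'.ε m' := fun m' => LinearMap.congr_fun hσf m'
  have hδ : GrLC.IsGrHom X.gr (E''.X 0).gr (E''.ε ∘ₗ S.g) :=
    fun g m hm => E''.ε_grHom g _ (S.g_gr g m hm)
  have hγ : GrLC.IsGrHom X.gr (E'.X (0 + 1)).gr (-(E'.d 0 ∘ₗ σ)) := by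
    intro g m hm
    rw [LinearMap.neg_apply]
    exact neg_mem (E'.d_grHom 0 g _ (hσ g m hm))
  have hker : LinearMap.ker (E''.ε ∘ₗ S.g) ≤ LinearMap.ker (-(E'.d 0 ∘ₗ σ)) := by
    intro m hm
    rw [LinearMap.mem_ker, LinearMap.comp_apply] at hm
    have h1 : S.g m = 0 := E''.ε_injective (by rw [hm, map_zero])
    have h2 : m ∈ LinearMap.range S.f := by
      rw [← S.exact]
      exact h1
    obtain ⟨m', rfl⟩ := h2
    rw [LinearMap.mem_ker, LinearMap.neg_apply, LinearMap.comp_apply, hσf',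
      E_d_ε 𝒜 X'.gr E', neg_zero]
  obtain ⟨t0, ht0, ht0e⟩ := exists_extension 𝒜 (E''.X 0) (E'.X (0 + 1)) X.gr
    (E'.starInj (0 + 1)) (E''.ε ∘ₗ S.g) hδ _ hγ hker
  have ht0e' : ∀ m, t0 (E''.ε (S.g m)) = -(E'.d 0 (σ m)) := fun m => ht0e m
  have hkill0 : ∀ b, E''.d 0 b = 0 → E'.d (0 + 1) (t0 b) = 0 := by
    intro b hb
    have hb' : b ∈ LinearMap.range E''.ε := by
      rw [← E''.exact_zero]
      exact hb
    obtain ⟨m'', rfl⟩ := hb'
    obtain ⟨m, rfl⟩ := S.g_surj m''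
    rw [ht0e', map_neg, E_d_d 𝒜 X'.gr E' 0, neg_zero]
  let s0 : TStage E' E'' 0 := ⟨t0, ht0, hkill0⟩
  choose next hnext using exists_tstage_succ E' E''
  let T : ∀ n, TStage E' E'' n := fun n => Nat.rec s0 (fun n s => next n s) n
  refine ⟨⟨σ, hσ, hσf', fun n => (T n).t, fun n => (T n).gr, fun m => ?_,
    fun n b => hnext n (T n) b⟩⟩
  show E'.d 0 (σ m) + t0 (E''.ε (S.g m)) = 0
  rw [ht0e', add_neg_cancel]

variable {S E' E''} (D : HData S E' E'')

/-- The differential of the horseshoe resolution. -/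
def hd (n : ℕ) : (E'.X n).carrier × (E''.X n).carrier →ₗ[R]
    (E'.X (n + 1)).carrier × (E''.X (n + 1)).carrier :=
  ((E'.d n ∘ₗ LinearMap.fst R (E'.X n).carrier (E''.X n).carrier) +
    (D.τ n ∘ₗ LinearMap.snd R (E'.X n).carrier (E''.X n).carrier)).prod
    (E''.d n ∘ₗ LinearMap.snd R (E'.X n).carrier (E''.X n).carrier)

theorem hd_apply (n : ℕ) (z : (E'.X n).carrier × (E''.X n).carrier) :
    hd D n z = (E'.d n z.1 + D.τ n z.2, E''.d n z.2) := rfl

/-- The augmentation of the horseshoe resolution. -/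
def hε : X.carrier →ₗ[R] (E'.X 0).carrier × (E''.X 0).carrier :=
  D.σ.prod (E''.ε ∘ₗ S.g)

theorem hε_apply (m : X.carrier) : hε D m = (D.σ m, E''.ε (S.g m)) := rfl

theorem hε_injective : Function.Injective (hε D) := by
  rw [injective_iff_map_eq_zero]
  intro m hm
  rw [hε_apply, Prod.mk_eq_zero] at hm
  have h1 : S.g m = 0 := E''.ε_injective (by rw [hm.2, map_zero])
  have h2 : m ∈ LinearMap.range S.f := by
    rw [← S.exact]
    exact h1
  obtain ⟨m', rfl⟩ := h2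
  have h3 : E'.ε m' = 0 := by rw [← D.σ_f, hm.1]
  have h4 : m' = 0 := E'.ε_injective (by rw [h3, map_zero])
  rw [h4, map_zero]

theorem hd_exact_zero : LinearMap.ker (hd D 0) = LinearMap.range (hε D) := by
  ext z
  rw [LinearMap.mem_ker, LinearMap.mem_range]
  constructor
  · intro hz
    rw [hd_apply, Prod.mk_eq_zero] at hz
    obtain ⟨hz1, hz2⟩ := hz
    have hb : z.2 ∈ LinearMap.range E''.ε := by
      rw [← E''.exact_zero]
      exact hz2
    obtain ⟨m'', hm''⟩ := hb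
    obtain ⟨m, rfl⟩ := S.g_surj m''
    have h1 : E'.d 0 (z.1 - D.σ m) = 0 := by
      have := D.h0 m
      rw [hm''] at this
      rw [map_sub, eq_neg_of_add_eq_zero_left hz1, eq_neg_of_add_eq_zero_left this, sub_self]
    have h2 : z.1 - D.σ m ∈ LinearMap.range E'.ε := by
      rw [← E'.exact_zero]
      exact h1
    obtain ⟨m', hm'⟩ := h2
    refine ⟨m + S.f m', ?_⟩
    rw [hε_apply, map_add, map_add, D.σ_f, g_f, add_zero, hm', hm'']
    exact Prod.ext (show D.σ m + (z.1 - D.σ m) = z.1 by abel) rfl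
  · rintro ⟨m, rfl⟩
    rw [hε_apply, hd_apply, Prod.mk_eq_zero]
    exact ⟨D.h0 m, E_d_ε 𝒜 X''.gr E'' (S.g m)⟩

theorem hd_exact_succ (n : ℕ) : LinearMap.ker (hd D (n + 1)) = LinearMap.range (hd D n) := by
  ext z
  rw [LinearMap.mem_ker, LinearMap.mem_range]
  constructor
  · intro hz
    rw [hd_apply, Prod.mk_eq_zero] at hz
    obtain ⟨hz1, hz2⟩ := hz
    have hb : z.2 ∈ LinearMap.range (E''.d n) := by
      rw [← E''.exact_succ n]
      exact hz2
    obtain ⟨b, hb⟩ := hb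
    have h1 : E'.d (n + 1) (z.1 - D.τ n b) = 0 := by
      have := D.hs n b
      rw [hb] at this
      rw [map_sub, eq_neg_of_add_eq_zero_left hz1, eq_neg_of_add_eq_zero_left this, sub_self]
    have h2 : z.1 - D.τ n b ∈ LinearMap.range (E'.d n) := by
      rw [← E'.exact_succ n]
      exact h1
    obtain ⟨a₀, ha₀⟩ := h2
    refine ⟨(a₀, b), ?_⟩
    rw [hd_apply]
    exact Prod.ext (show E'.d n a₀ + D.τ n b = z.1 by rw [ha₀]; abel) hb
  · rintro ⟨w, rfl⟩
    rw [hd_apply, hd_apply, Prod.mk_eq_zero]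
    refine ⟨?_, E_d_d 𝒜 X''.gr E'' n _⟩
    show E'.d (n + 1) (E'.d n w.1 + D.τ n w.2) + D.τ (n + 1) (E''.d n w.2) = 0
    rw [map_add, E_d_d 𝒜 X'.gr E' n, zero_add]
    exact D.hs n w.2

/-- The horseshoe resolution of the middle term. -/
def horse : GrLC.StarInjRes 𝒜 X.gr where
  X n := prodG (E'.X n) (E''.X n)
  d n := hd D n
  ε := hε D
  d_grHom n := fun j p hp => mem_prodG_gr.mpr
    ⟨add_mem (E'.d_grHom n j _ (mem_prodG_gr.mp hp).1) (D.τ_gr n j _ (mem_prodG_gr.mp hp).2),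
      E''.d_grHom n j _ (mem_prodG_gr.mp hp).2⟩
  ε_grHom := fun j m hm => mem_prodG_gr.mpr ⟨D.σ_gr j m hm, E''.ε_grHom j _ (S.g_gr j m hm)⟩
  ε_injective := hε_injective D
  exact_zero := hd_exact_zero D
  exact_succ := hd_exact_succ D
  starInj n := isStarInj_prod (E'.starInj n) (E''.starInj n)

variable (a : HomogeneousIdeal 𝒜)

theorem horse_cocyc_iff (i : ℕ) (z : (E'.X i).carrier × (E''.X i).carrier) :
    z ∈ (horse D).cocyc a i ↔
      (z.1 ∈ GrLC.gam a.toIdeal (E'.X i).carrier ∧ z.2 ∈ GrLC.gam a.toIdeal (E''.X i).carrier) ∧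
        (E'.d i z.1 + D.τ i z.2 = 0 ∧ E''.d i z.2 = 0) := by
  constructor
  · rintro ⟨h1, h2⟩
    refine ⟨(mem_gam_prod (X := E'.X i) (Y := E''.X i) a.toIdeal).mp h1, ?_⟩
    have h3 : hd D i z = 0 := h2
    rw [hd_apply, Prod.mk_eq_zero] at h3
    exact h3
  · rintro ⟨h1, h2⟩
    refine ⟨(mem_gam_prod (X := E'.X i) (Y := E''.X i) a.toIdeal).mpr h1, ?_⟩
    show hd D i z = 0
    rw [hd_apply, Prod.mk_eq_zero]
    exact h2

/-- Exactness at the middle term: a class of the middle term mapping to zero comes from the left,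
so it vanishes when the left piece does. -/
theorem horse_right {i : ℕ} {g : ι} (hV : Van a E' i g)
    (z : (E'.X i).carrier × (E''.X i).carrier) (hz : z ∈ (horse D).cocyc a i)
    (hzg : z ∈ ((horse D).X i).gr g) (hq : z.2 ∈ E''.cobdy a i) :
    z ∈ (horse D).cobdy a i := by
  obtain ⟨⟨hg1, hg2⟩, hd1, hd2⟩ := (horse_cocyc_iff D a i z).mp hz
  obtain ⟨hzg1, hzg2⟩ := mem_prodG_gr.mp hzg
  cases i with
  | zero =>
    have hq0 : z.2 = 0 := (Submodule.mem_bot R).mp hq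
    rw [hq0, map_zero, add_zero] at hd1
    have hp : z.1 ∈ E'.cobdy a 0 := hV z.1 ⟨hg1, hd1⟩ hzg1
    have hp0 : z.1 = 0 := (Submodule.mem_bot R).mp hp
    have : z = 0 := Prod.ext hp0 hq0
    rw [this]
    exact zero_mem _
  | succ n =>
    obtain ⟨q₁, hq₁g, hq₁gr, hq₁e⟩ := exists_homog_preimage a E'' n hq hzg2
    have hp2 : z.1 - D.τ n q₁ ∈ E'.cocyc a (n + 1) := by
      refine ⟨sub_mem hg1 (gam_map _ _ hq₁g), ?_⟩
      show E'.d (n + 1) (z.1 - D.τ n q₁) = 0
      have := D.hs n q₁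
      rw [hq₁e] at this
      rw [map_sub, eq_neg_of_add_eq_zero_left hd1, eq_neg_of_add_eq_zero_left this, sub_self]
    have hp2g : z.1 - D.τ n q₁ ∈ (E'.X (n + 1)).gr g := sub_mem hzg1 (D.τ_gr n g _ hq₁gr)
    obtain ⟨p₁, hp₁g, hp₁e⟩ := hV _ hp2 hp2g
    refine ⟨(p₁, q₁), (mem_gam_prod (X := E'.X n) (Y := E''.X n) a.toIdeal).mpr ⟨hp₁g, hq₁g⟩, ?_⟩
    show hd D n (p₁, q₁) = z
    rw [hd_apply]
    exact Prod.ext (show E'.d n p₁ + D.τ n q₁ = z.1 by rw [hp₁e]; abel) hq₁e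

theorem horse_mid {i : ℕ} {g : ι} (hV' : Van a E' i g) (hV'' : Van a E'' i g) :
    Van a (horse D) i g := by
  intro z hz hzg
  obtain ⟨⟨hg1, hg2⟩, hd1, hd2⟩ := (horse_cocyc_iff D a i z).mp hz
  exact horse_right D a hV' z hz hzg (hV'' _ ⟨hg2, hd2⟩ (mem_prodG_gr.mp hzg).2)

theorem horse_van_right {i : ℕ} {g : ι} (hV : Van a (horse D) i g) (hV' : Van a E' (i + 1) g) :
    Van a E'' i g := by
  intro q hq hqg
  have hq2 : E''.d i q = 0 := hq.2
  have hτ : D.τ i q ∈ E'.cocyc a (i + 1) := by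
    refine ⟨gam_map _ _ hq.1, ?_⟩
    show E'.d (i + 1) (D.τ i q) = 0
    have := D.hs i q
    rw [hq2, map_zero, add_zero] at this
    exact this
  have hτc := hV' _ hτ (D.τ_gr i g q hqg)
  obtain ⟨p, hpg, hpgr, hpe⟩ := exists_homog_preimage a E' i hτc (D.τ_gr i g q hqg)
  have hz : ((-p, q) : (E'.X i).carrier × (E''.X i).carrier) ∈ (horse D).cocyc a i := by
    rw [horse_cocyc_iff]
    refine ⟨⟨neg_mem hpg, hq.1⟩, ?_, hq2⟩
    show E'.d i (-p) + D.τ i q = 0
    rw [map_neg, hpe, neg_add_cancel]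
  have hzg : ((-p, q) : (E'.X i).carrier × (E''.X i).carrier) ∈ ((horse D).X i).gr g :=
    mem_prodG_gr.mpr ⟨neg_mem hpgr, hqg⟩
  have hc := hV _ hz hzg
  cases i with
  | zero =>
    have h0 : ((-p, q) : (E'.X 0).carrier × (E''.X 0).carrier) = 0 := (Submodule.mem_bot R).mp hc
    have : q = 0 := congrArg Prod.snd h0
    rw [this]
    exact zero_mem _
  | succ n =>
    obtain ⟨w, hw, hwe⟩ := hc
    have hw2 := ((mem_gam_prod (X := E'.X n) (Y := E''.X n) a.toIdeal).mp hw).2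
    have he : hd D n w = (-p, q) := hwe
    rw [hd_apply] at he
    exact ⟨w.2, hw2, congrArg Prod.snd he⟩

/-- Exactness at the left term. -/
theorem horse_left {i : ℕ} {g : ι} (hV'' : Van a E'' i g) (p : (E'.X (i + 1)).carrier)
    (hpg : p ∈ (E'.X (i + 1)).gr g)
    (hc : ((p, 0) : (E'.X (i + 1)).carrier × (E''.X (i + 1)).carrier) ∈
      (horse D).cobdy a (i + 1)) : p ∈ E'.cobdy a (i + 1) := by
  have hzg : ((p, 0) : (E'.X (i + 1)).carrier × (E''.X (i + 1)).carrier) ∈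
      ((horse D).X (i + 1)).gr g := mem_prodG_gr.mpr ⟨hpg, zero_mem _⟩
  obtain ⟨w, hwg, hwgr, hwe⟩ := exists_homog_preimage a (horse D) i hc hzg
  have hw12 := (mem_gam_prod (X := E'.X i) (Y := E''.X i) a.toIdeal).mp hwg
  have hwgr12 := mem_prodG_gr.mp hwgr
  have he : hd D i w = (p, 0) := hwe
  rw [hd_apply] at he
  have he1 : E'.d i w.1 + D.τ i w.2 = p := congrArg Prod.fst he
  have he2 : E''.d i w.2 = 0 := congrArg Prod.snd he
  have hw2c := hV'' w.2 ⟨hw12.2, he2⟩ hwgr12.2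
  cases i with
  | zero =>
    have h0 : w.2 = 0 := (Submodule.mem_bot R).mp hw2c
    rw [h0, map_zero, add_zero] at he1
    exact ⟨w.1, hw12.1, he1⟩
  | succ n =>
    obtain ⟨b, hb, hbe⟩ := hw2c
    refine ⟨w.1 - D.τ n b, sub_mem hw12.1 (gam_map _ _ hb), ?_⟩
    have := D.hs n b
    rw [hbe] at this
    rw [map_sub, eq_neg_of_add_eq_zero_left this, sub_neg_eq_add]
    exact he1

/-- The inclusion of the left resolution into the horseshoe resolution. -/
def horseInl : CMap E' (horse D) S.f where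
  θ n := LinearMap.inl R (E'.X n).carrier (E''.X n).carrier
  gr n := fun _ _ hp => mem_prodG_gr.mpr ⟨hp, zero_mem _⟩
  aug m' := by
    show ((E'.ε m', 0) : (E'.X 0).carrier × (E''.X 0).carrier) = hε D (S.f m')
    rw [hε_apply, D.σ_f, g_f, map_zero]
  comm n x := by
    show ((E'.d n x, 0) : (E'.X (n + 1)).carrier × (E''.X (n + 1)).carrier) = hd D n (x, 0)
    rw [hd_apply]
    simp

/-- The projection of the horseshoe resolution onto the right resolution. -/
def horseSnd : CMap (horse D) E'' S.g where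
  θ n := LinearMap.snd R (E'.X n).carrier (E''.X n).carrier
  gr n := fun _ _ hp => (mem_prodG_gr.mp hp).2
  aug _ := rfl
  comm _ _ := rfl

end horseshoe

/-! ### The long exact sequence, in elementwise form -/

section les

variable {X' X X'' : GrLC.GMod.{u} 𝒜} (S : GSES X' X X'') (a : HomogeneousIdeal 𝒜)
include S

theorem vanX_mid {i : ℕ} {g : ι} (h' : VanX a X' i g) (h'' : VanX a X'' i g) :
    VanX a X i g := by
  obtain ⟨E'⟩ := exists_res X'
  obtain ⟨E''⟩ := exists_res X''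
  obtain ⟨D⟩ := exists_hdata S E' E''
  exact (vanX_iff a (horse D)).mpr (horse_mid D a (h' E') (h'' E''))

theorem vanX_right {i : ℕ} {g : ι} (h : VanX a X i g) (h' : VanX a X' (i + 1) g) :
    VanX a X'' i g := by
  obtain ⟨E'⟩ := exists_res X'
  obtain ⟨E''⟩ := exists_res X''
  obtain ⟨D⟩ := exists_hdata S E' E''
  exact (vanX_iff a E'').mpr (horse_van_right D a (h (horse D)) (h' E'))

theorem vanX_left {i : ℕ} {g : ι} (h : VanX a X (i + 1) g) (h'' : VanX a X'' i g) :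
    VanX a X' (i + 1) g := by
  obtain ⟨E'⟩ := exists_res X'
  obtain ⟨E''⟩ := exists_res X''
  obtain ⟨D⟩ := exists_hdata S E' E''
  refine (vanX_iff a E').mpr ?_
  intro p hp hpg
  have hz : ((p, 0) : (E'.X (i + 1)).carrier × (E''.X (i + 1)).carrier) ∈
      (horse D).cocyc a (i + 1) := (horseInl D).cocyc a hp
  exact horse_left D a (h'' E'') p hpg
    (h (horse D) _ hz (mem_prodG_gr.mpr ⟨hpg, zero_mem _⟩))

theorem vanX_left_zero {g : ι} (h : VanX a X 0 g) : VanX a X' 0 g := by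
  obtain ⟨E'⟩ := exists_res X'
  obtain ⟨E''⟩ := exists_res X''
  obtain ⟨D⟩ := exists_hdata S E' E''
  refine (vanX_iff a E').mpr ?_
  intro p hp hpg
  have hz : ((p, 0) : (E'.X 0).carrier × (E''.X 0).carrier) ∈
      (horse D).cocyc a 0 := (horseInl D).cocyc a hp
  have h0 : ((p, 0) : (E'.X 0).carrier × (E''.X 0).carrier) = 0 :=
    (Submodule.mem_bot R).mp (h (horse D) _ hz (mem_prodG_gr.mpr ⟨hpg, zero_mem _⟩))
  have : p = 0 := congrArg Prod.fst h0
  rw [this]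
  exact zero_mem _

theorem hinjX_left {i : ℕ} {g : ι} (h'' : VanX a X'' i g) : HInjX a S.f (i + 1) g := by
  obtain ⟨E'⟩ := exists_res X'
  obtain ⟨E''⟩ := exists_res X''
  obtain ⟨D⟩ := exists_hdata S E' E''
  refine hinjX_of a (horseInl D) ?_
  intro p _ hpg hc
  exact horse_left D a (h'' E'') p hpg hc

theorem hinjX_left_zero {g : ι} : HInjX a S.f 0 g := by
  obtain ⟨E'⟩ := exists_res X'
  obtain ⟨E''⟩ := exists_res X''
  obtain ⟨D⟩ := exists_hdata S E' E''
  refine hinjX_of a (horseInl D) ?_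
  intro p _ _ hc
  have h0 : ((p, 0) : (E'.X 0).carrier × (E''.X 0).carrier) = 0 := (Submodule.mem_bot R).mp hc
  have : p = 0 := congrArg Prod.fst h0
  rw [this]
  exact zero_mem _

theorem hinjX_right {i : ℕ} {g : ι} (h' : VanX a X' i g) : HInjX a S.g i g := by
  obtain ⟨E'⟩ := exists_res X'
  obtain ⟨E''⟩ := exists_res X''
  obtain ⟨D⟩ := exists_hdata S E' E''
  refine hinjX_of a (horseSnd D) ?_
  intro z hz hzg hc
  exact horse_right D a (h' E') z hz hzg hc

end les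

end Groth.Agent.Lib.R2H7.GrLES
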