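/-
Graded local cohomology: degree zero (`vanX_zero_iff`), torsion modules (`vanX_of_torsion`),
multiplication by a homogeneous element as a chain map, injectivity of multiplication on a piece
of `H^i_a` from vanishing for the quotient (`hinjX_mul_succ`, `hinjX_mul_zero`), and the
"injective + torsion => zero" argument (`van_of_forall_inj`).
-/
import Mathlib
import Groth.Agent.Lib.R2H7GrLES
import Groth.Agent.S13224
import Groth.Agent.S0323

set_option autoImplicit false
open DirectSum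

noncomputable section

namespace Groth.Agent.Lib.R2H7.GrTors

open Groth.Agent.Lib.Helper29GrCompare Groth.Agent.Lib.Helper29GrHom
  Groth.Agent.Lib.Helper29GrGam Groth.Agent.Lib.Helper29GrSub Groth.Agent.Lib.R2H7.GrDer
  Groth.Agent.Lib.R2H7.GrOps Groth.Agent.Lib.R2H7.GrLES

universe u

variable {ι : Type} [AddCommGroup ι] [DecidableEq ι]
variable {R : Type u} [CommRing R] {𝒜 : ι → AddSubgroup R} [GradedRing 𝒜]
variable (a : HomogeneousIdeal 𝒜)

/-- An injective homogeneous map reflects homogeneity. -/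
theorem mem_gr_of_map_mem {X Y : GrLC.GMod.{u} 𝒜} (f : X.carrier →ₗ[R] Y.carrier)
    (hf : GrLC.IsGrHom X.gr Y.gr f) (hinj : Function.Injective f) {m : X.carrier} {g : ι}
    (h : f m ∈ Y.gr g) : m ∈ X.gr g := by
  classical
  have key : ∀ j, j ≠ g → ((decompose X.gr m) j : X.carrier) = 0 := by
    intro j hj
    apply hinj
    rw [map_zero, ← decompose_map Y.gr X.gr f hf m j]
    exact DirectSum.decompose_of_mem_ne Y.gr h hj.symm
  rw [← DirectSum.sum_support_decompose X.gr m]
  apply sum_mem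
  intro j _
  by_cases hj : j = g
  · subst hj
    exact SetLike.coe_mem _
  · rw [key j hj]
    exact zero_mem _

theorem vanX_zero_iff (X : GrLC.GMod.{u} 𝒜) (g : ι) :
    VanX a X 0 g ↔
      ∀ m : X.carrier, m ∈ GrLC.gam a.toIdeal X.carrier → m ∈ X.gr g → m = 0 := by
  obtain ⟨E⟩ := exists_res X
  rw [vanX_iff a E]
  constructor
  · intro h m hm hmg
    have hz : E.ε m ∈ E.cocyc a 0 := ⟨gam_map _ _ hm, E_d_ε 𝒜 X.gr E m⟩
    have := h _ hz (E.ε_grHom g m hmg)
    have h0 : E.ε m = 0 := (Submodule.mem_bot R).mp this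
    exact E.ε_injective (by rw [h0, map_zero])
  · intro h z hz hzg
    have hz2 : z ∈ LinearMap.range E.ε := by
      rw [← E.exact_zero]
      exact hz.2
    obtain ⟨m, rfl⟩ := hz2
    have hm : m ∈ GrLC.gam a.toIdeal X.carrier := by
      obtain ⟨n, hn⟩ := hz.1
      exact ⟨n, fun r hr => E.ε_injective (by rw [map_smul, hn r hr, map_zero])⟩
    have hmg : m ∈ X.gr g := mem_gr_of_map_mem E.ε E.ε_grHom E.ε_injective hzg
    rw [h m hm hmg, map_zero]
    exact zero_mem _

theorem vanX_of_torsion [IsNoetherianRing R] [Module.Free ℤ ι] [Module.Finite ℤ ι]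
    (T : GrLC.GMod.{u} 𝒜) (hT : ∀ m : T.carrier, m ∈ GrLC.gam a.toIdeal T.carrier)
    (i : ℕ) (hi : 0 < i) (g : ι) : VanX a T i g := by
  intro E z hz _
  obtain ⟨e⟩ := Groth.Agent.S13224.result R 𝒜 a T.carrier T.gr E i
  have hsub : Subsingleton (LocCoh.H a.toIdeal i T.carrier) :=
    (Groth.Agent.S0323.result R a.toIdeal T.carrier (fun m => hT m)).2 i hi
  have hs : Subsingleton (E.H a i) := e.toEquiv.subsingleton
  have h0 : E.toH a i ⟨z, hz⟩ = 0 := Subsingleton.elim _ _
  have := (Submodule.Quotient.mk_eq_zero _).mp h0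
  exact this

theorem mem_gam_sub {M : Type u} [AddCommGroup M] [Module R M] (I : Ideal R) (P : Submodule R M)
    (m : ↥P) : m ∈ GrLC.gam I ↥P ↔ (m : M) ∈ GrLC.gam I M := by
  constructor
  · intro h
    exact gam_map I P.subtype h
  · rintro ⟨n, hn⟩
    exact ⟨n, fun r hr => Subtype.ext (hn r hr)⟩

/-! ### Multiplication by a homogeneous element -/

section mul

variable (X : GrLC.GMod.{u} 𝒜) (e : ι) (x : R)

/-- Multiplication by `x` of degree `e` as a homogeneous map `X(-e) → X`. -/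
def mulG : (shiftG X (-e)).carrier →ₗ[R] X.carrier :=
  x • (LinearMap.id : X.carrier →ₗ[R] X.carrier)

theorem mulG_apply (m : X.carrier) : mulG X e x m = x • m := rfl

variable {X e x}

theorem smul_mem_gr (hx : x ∈ 𝒜 e) {Z : GrLC.GMod.{u} 𝒜} {j : ι} {m : Z.carrier}
    (hm : m ∈ Z.gr (j + -e)) : x • m ∈ Z.gr j := by
  have := SetLike.GradedSMul.smul_mem (A := 𝒜) (B := Z.gr) hx hm
  have he : e + (j + -e) = j := by abel
  rw [vadd_eq_add, he] at this
  exact this

theorem mulG_grHom (hx : x ∈ 𝒜 e) : GrLC.IsGrHom (shiftG X (-e)).gr X.gr (mulG X e x) :=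
  fun _ _ hm => smul_mem_gr hx hm

/-- Multiplication by `x` on a resolution, as a chain map over multiplication by `x`. -/
def mulCMap (hx : x ∈ 𝒜 e) (E : GrLC.StarInjRes 𝒜 X.gr) :
    CMap (shiftRes E (-e)) E (mulG X e x) where
  θ n := x • (LinearMap.id : (E.X n).carrier →ₗ[R] (E.X n).carrier)
  gr n := fun _ _ hm => smul_mem_gr hx hm
  aug m := (map_smul E.ε x m).symm
  comm n z := (map_smul (E.d n) x z).symm

theorem inj_of_hinjX (hx : x ∈ 𝒜 e) {i : ℕ} {g : ι} (h : HInjX a (mulG X e x) i g)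
    (E : GrLC.StarInjRes 𝒜 X.gr) (z : (E.X i).carrier) (hz : z ∈ E.cocyc a i)
    (hzg : z ∈ (E.X i).gr (g + -e)) (hc : x • z ∈ E.cobdy a i) : z ∈ E.cobdy a i := by
  have := h (shiftRes E (-e)) E (mulCMap hx E) z hz hzg hc
  rwa [cobdy_shiftRes] at this

/-- If multiplication by `x ∈ a` is injective on the pieces of `H^i_a` in all degrees of an
upward closed set, these pieces vanish. -/
theorem van_of_forall_inj (hx : x ∈ 𝒜 e) (E : GrLC.StarInjRes 𝒜 X.gr) (hxa : x ∈ a.toIdeal)
    (i : ℕ) (U : Set ι) (hU : ∀ j ∈ U, e + j ∈ U)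
    (H : ∀ j ∈ U, ∀ z : (E.X i).carrier, z ∈ E.cocyc a i → z ∈ (E.X i).gr j →
      x • z ∈ E.cobdy a i → z ∈ E.cobdy a i) :
    ∀ j ∈ U, Van a E i j := by
  have key : ∀ N : ℕ, ∀ j ∈ U, ∀ z : (E.X i).carrier, z ∈ E.cocyc a i → z ∈ (E.X i).gr j →
      x ^ N • z ∈ E.cobdy a i → z ∈ E.cobdy a i := by
    intro N
    induction N with
    | zero =>
      intro j _ z _ _ h
      rwa [pow_zero, one_smul] at h
    | succ N ih =>
      intro j hj z hz hzg h
      have hxz : x • z ∈ E.cocyc a i := by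
        refine ⟨Submodule.smul_mem _ x hz.1, ?_⟩
        show E.d i (x • z) = 0
        rw [map_smul, (hz.2 : E.d i z = 0), smul_zero]
      have hxzg : x • z ∈ (E.X i).gr (e + j) := by
        have := SetLike.GradedSMul.smul_mem (A := 𝒜) (B := (E.X i).gr) hx hzg
        rwa [vadd_eq_add] at this
      have h' : x ^ N • (x • z) ∈ E.cobdy a i := by rwa [smul_smul, ← pow_succ]
      exact H j hj z hz hzg (ih (e + j) (hU j hj) (x • z) hxz hxzg h')
  intro j hj z hz hzg
  obtain ⟨N, hN⟩ := hz.1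
  have : x ^ N • z = 0 := hN _ (Ideal.pow_mem_pow hxa N)
  exact key N j hj z hz hzg (by rw [this]; exact zero_mem _)

end mul

/-! ### Injectivity of multiplication from vanishing for the quotient -/

section quot

variable {X N : GrLC.GMod.{u} 𝒜} (e : ι) {x : R} (hx : x ∈ 𝒜 e)
  (π : X.carrier →ₗ[R] N.carrier) (hπ : GrLC.IsGrHom X.gr N.gr π) (hs : Function.Surjective π)
  (hker : LinearMap.ker π = LinearMap.range (x • (LinearMap.id : X.carrier →ₗ[R] X.carrier)))

/-- The image `xX = ker π` as a graded module. -/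
def imG : GrLC.GMod.{u} 𝒜 := subG X (LinearMap.ker π) (ker_isHomogeneous N.gr X.gr π hπ)

include hker in
theorem smul_mem_ker (m : X.carrier) : mulG X e x m ∈ LinearMap.ker π := by
  rw [hker]
  exact ⟨m, rfl⟩

/-- Multiplication by `x`, corestricted to its image. -/
def mulCo : (shiftG X (-e)).carrier →ₗ[R] (imG π hπ).carrier :=
  LinearMap.codRestrict (LinearMap.ker π) (mulG X e x) (smul_mem_ker e π hker)

include hx in
theorem mulCo_grHom : GrLC.IsGrHom (shiftG X (-e)).gr (imG π hπ).gr (mulCo e π hπ hker) :=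
  fun _ _ hm => smul_mem_gr hx hm

theorem mulCo_surjective : Function.Surjective (mulCo e π hπ hker) := by
  rintro ⟨p, hp⟩
  rw [hker] at hp
  obtain ⟨m, hm⟩ := hp
  exact ⟨m, Subtype.ext hm⟩

/-- `0 → (0 :_X x)(-e) → X(-e) → xX → 0`. -/
def sesA := GSES.ofSurj (mulCo e π hπ hker) (mulCo_grHom e hx π hπ hker) (mulCo_surjective e π hπ hker)

/-- `0 → xX → X → N → 0`. -/
def sesB := GSES.ofSurj π hπ hs

theorem comp_eq : (sesB π hπ hs).f ∘ₗ (sesA e hx π hπ hker).g = mulG X e x := rfl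

include hx hπ hs hker in
theorem hinjX_mul_succ [IsNoetherianRing R] [Module.Free ℤ ι] [Module.Finite ℤ ι] {i : ℕ} {g : ι}
    (hK : ∀ m : X.carrier, x • m = 0 → m ∈ GrLC.gam a.toIdeal X.carrier)
    (hN : VanX a N i g) : HInjX a (mulG X e x) (i + 1) g := by
  rw [← comp_eq e hx π hπ hs hker]
  refine hinjX_comp a (sesA e hx π hπ hker).g_gr (sesB π hπ hs).f_gr
    (hinjX_right (sesA e hx π hπ hker) a ?_) (hinjX_left (sesB π hπ hs) a hN)
  apply vanX_of_torsion a _ _ (i + 1) (Nat.succ_pos i) g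
  rintro ⟨m, hm⟩
  refine (mem_gam_sub a.toIdeal (LinearMap.ker (mulCo e π hπ hker)) ⟨m, hm⟩).mpr (hK m ?_)
  have h0 : mulCo e π hπ hker m = 0 := hm
  exact congrArg Subtype.val h0

include hx hπ hs hker in
theorem hinjX_mul_zero {g : ι} (hreg : ∀ m : X.carrier, x • m = 0 → m = 0) :
    HInjX a (mulG X e x) 0 g := by
  rw [← comp_eq e hx π hπ hs hker]
  refine hinjX_comp a (sesA e hx π hπ hker).g_gr (sesB π hπ hs).f_gr
    (hinjX_right (sesA e hx π hπ hker) a ?_) (hinjX_left_zero (sesB π hπ hs) a)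
  rw [vanX_zero_iff]
  rintro ⟨m, hm⟩ _ _
  apply Subtype.ext
  apply hreg
  have h0 : mulCo e π hπ hker m = 0 := hm
  have := congrArg Subtype.val h0
  exact this

end quot

end Groth.Agent.Lib.R2H7.GrTors
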