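/-
Bridging: a ring graded by an arbitrary family of additive subgroups (`σ`-valued, e.g. submodules
over a field) versus the same ring graded by `AddSubgroup`s; conversion of graded modules,
*injective resolutions and homogeneous ideals, and translation of statements about
`StarInjRes.Hcomp` / `endDeg` into the elementwise vanishing predicate `Van`.
-/
import Mathlib
import Groth.Agent.Lib.R2H7GrTors

set_option autoImplicit false
open DirectSum

noncomputable section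

namespace Groth.Agent.Lib.R2H7.GrBdry

open Groth.Agent.Lib.R2H7.GrDer

universe u

variable {ι : Type} [AddCommGroup ι] [DecidableEq ι]

section toAS

variable {M : Type u} [AddCommGroup M] {τ : Type u} [SetLike τ M] [AddSubgroupClass τ M]
  (ℳ : ι → τ)

/-- The same family of pieces, as `AddSubgroup`s. -/
def toAS : ι → AddSubgroup M := fun i => AddSubgroup.ofClass (ℳ i)

theorem mem_toAS {i : ι} {m : M} : m ∈ toAS ℳ i ↔ m ∈ ℳ i := Iff.rfl

/-- The identity on a piece. -/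
def idPiece (i : ι) : ↥(ℳ i) →+ ↥(toAS ℳ i) where
  toFun x := ⟨x.1, x.2⟩
  map_zero' := rfl
  map_add' _ _ := rfl

theorem coe_map_idPiece (z : ⨁ i, ℳ i) :
    DirectSum.coeAddMonoidHom (toAS ℳ) (DirectSum.map (idPiece ℳ) z) =
      DirectSum.coeAddMonoidHom ℳ z := by
  classical
  induction z using DirectSum.induction_on with
  | zero => rw [map_zero, map_zero, map_zero]
  | of g x =>
    rw [DirectSum.map_of, DirectSum.coeAddMonoidHom_of, DirectSum.coeAddMonoidHom_of]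
    rfl
  | add x y hx hy => rw [map_add, map_add, map_add, hx, hy]

variable [DirectSum.Decomposition ℳ]

/-- The decomposition of the converted family. -/
@[instance_reducible]
def toASDecomposition : DirectSum.Decomposition (toAS ℳ) :=
  DirectSum.Decomposition.ofAddHom (toAS ℳ)
    ((DirectSum.map (idPiece ℳ)).comp (DirectSum.decomposeAddEquiv ℳ).toAddMonoidHom)
    (by
      apply AddMonoidHom.ext
      intro m
      rw [AddMonoidHom.comp_apply, AddMonoidHom.comp_apply, coe_map_idPiece]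
      exact DirectSum.Decomposition.left_inv m)
    (by
      apply DirectSum.addHom_ext
      rintro g ⟨y, hy⟩
      rw [AddMonoidHom.comp_apply, AddMonoidHom.comp_apply, DirectSum.coeAddMonoidHom_of,
        AddMonoidHom.id_apply]
      change DirectSum.map (idPiece ℳ) (DirectSum.decompose ℳ y) = _
      rw [DirectSum.decompose_of_mem ℳ (mem_toAS ℳ |>.mp hy), DirectSum.map_of]
      rfl)

theorem coe_decompose_toAS (m : M) (i : ι) :
    ((@DirectSum.decompose _ _ _ _ _ _ _ (toAS ℳ) (toASDecomposition ℳ) m) i : M) =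
      ((DirectSum.decompose ℳ m) i : M) := by
  change ((DirectSum.map (idPiece ℳ) (DirectSum.decompose ℳ m)) i : M) = _
  rw [DirectSum.map_apply]
  rfl

end toAS

section ring

variable {R : Type u} [CommRing R] {σ : Type u} [SetLike σ R] [AddSubgroupClass σ R]
  (𝒜₀ : ι → σ) [GradedRing 𝒜₀]

instance toAS_gradedRing : GradedRing (toAS 𝒜₀) :=
  { toASDecomposition 𝒜₀ with
    one_mem := SetLike.GradedOne.one_mem (A := 𝒜₀)
    mul_mem := by
      intro i j a b ha hb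
      exact SetLike.GradedMul.mul_mem (A := 𝒜₀) ha hb }

/-- A graded module over `𝒜₀` with arbitrary pieces, bundled over `toAS 𝒜₀`. -/
def toGMod {M : Type u} [AddCommGroup M] [Module R M] {τ : Type u} [SetLike τ M]
    [AddSubgroupClass τ M] (ℳ : ι → τ) [DirectSum.Decomposition ℳ] [SetLike.GradedSMul 𝒜₀ ℳ] :
    GrLC.GMod.{u} (toAS 𝒜₀) :=
  { carrier := M
    gr := toAS ℳ
    dec := toASDecomposition ℳ
    gsmul := ⟨by
      intro i j r m hr hm
      exact SetLike.GradedSMul.smul_mem (A := 𝒜₀) (B := ℳ) hr hm⟩ }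

/-- Convert a bundled graded module over `𝒜₀`. -/
def convG (Y : GrLC.GMod.{u} 𝒜₀) : GrLC.GMod.{u} (toAS 𝒜₀) :=
  { carrier := Y.carrier
    gr := Y.gr
    dec := Y.dec
    gsmul := ⟨by
      intro i j r m hr hm
      exact SetLike.GradedSMul.smul_mem (A := 𝒜₀) (B := Y.gr) hr hm⟩ }

/-- Convert back. -/
def unconvG (Y : GrLC.GMod.{u} (toAS 𝒜₀)) : GrLC.GMod.{u} 𝒜₀ :=
  { carrier := Y.carrier
    gr := Y.gr
    dec := Y.dec
    gsmul := ⟨by
      intro i j r m hr hm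
      exact SetLike.GradedSMul.smul_mem (A := toAS 𝒜₀) (B := Y.gr) ((mem_toAS 𝒜₀).mpr hr) hm⟩ }

theorem isStarInj_conv (Y : GrLC.GMod.{u} 𝒜₀) (h : GrLC.IsStarInj 𝒜₀ Y.gr) :
    GrLC.IsStarInj (toAS 𝒜₀) (convG 𝒜₀ Y).gr := by
  intro A B f hf hfi g hg
  exact h (unconvG 𝒜₀ A) (unconvG 𝒜₀ B) f hf hfi g hg

variable {M : Type u} [AddCommGroup M] [Module R M] {τ : Type u} [SetLike τ M]
  [AddSubgroupClass τ M] (ℳ : ι → τ) [DirectSum.Decomposition ℳ] [SetLike.GradedSMul 𝒜₀ ℳ]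

/-- Convert a *injective resolution. -/
def convRes (E : GrLC.StarInjRes 𝒜₀ ℳ) : GrLC.StarInjRes (toAS 𝒜₀) (toGMod 𝒜₀ ℳ).gr where
  X n := convG 𝒜₀ (E.X n)
  d := E.d
  ε := E.ε
  d_grHom := E.d_grHom
  ε_grHom := E.ε_grHom
  ε_injective := E.ε_injective
  exact_zero := E.exact_zero
  exact_succ := E.exact_succ
  starInj n := isStarInj_conv 𝒜₀ (E.X n) (E.starInj n)

/-- Convert a homogeneous ideal. -/
def convIdeal (a₀ : HomogeneousIdeal 𝒜₀) : HomogeneousIdeal (toAS 𝒜₀) :=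
  ⟨a₀.toIdeal, fun i r hr => by
    rw [coe_decompose_toAS]
    exact a₀.isHomogeneous i hr⟩

theorem convIdeal_toIdeal (a₀ : HomogeneousIdeal 𝒜₀) :
    (convIdeal 𝒜₀ a₀).toIdeal = a₀.toIdeal := rfl

theorem cobdy_convRes (E : GrLC.StarInjRes 𝒜₀ ℳ) (a₀ : HomogeneousIdeal 𝒜₀) (i : ℕ) :
    (convRes 𝒜₀ ℳ E).cobdy (convIdeal 𝒜₀ a₀) i = E.cobdy a₀ i := by
  cases i <;> rfl

theorem hcomp_eq_bot_iff (E : GrLC.StarInjRes 𝒜₀ ℳ) (a₀ : HomogeneousIdeal 𝒜₀) (i : ℕ) (g : ι) :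
    E.Hcomp a₀ i g = ⊥ ↔ Van (convIdeal 𝒜₀ a₀) (convRes 𝒜₀ ℳ E) i g := by
  constructor
  · intro h z hz hzg
    rw [cobdy_convRes]
    have hz' : z ∈ E.cocyc a₀ i := hz
    have hmem : E.toH a₀ i ⟨z, hz'⟩ ∈ E.Hcomp a₀ i g := ⟨⟨z, hz'⟩, hzg, rfl⟩
    rw [h] at hmem
    have h0 : E.toH a₀ i ⟨z, hz'⟩ = 0 := (Submodule.mem_bot _).mp hmem
    exact (Submodule.Quotient.mk_eq_zero ((E.cobdy a₀ i).comap (E.cocyc a₀ i).subtype)).mp h0
  · intro h
    rw [Submodule.eq_bot_iff]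
    rintro _ ⟨z, hzg, rfl⟩
    have := h z.1 z.2 hzg
    rw [cobdy_convRes] at this
    exact (Submodule.Quotient.mk_eq_zero ((E.cobdy a₀ i).comap (E.cocyc a₀ i).subtype)).mpr this

theorem hcomp_eq_bot_iff_vanX (E : GrLC.StarInjRes 𝒜₀ ℳ) (a₀ : HomogeneousIdeal 𝒜₀) (i : ℕ)
    (g : ι) : E.Hcomp a₀ i g = ⊥ ↔ VanX (convIdeal 𝒜₀ a₀) (toGMod 𝒜₀ ℳ) i g := by
  rw [hcomp_eq_bot_iff, ← vanX_iff]

end ring

/-- `endDeg ≤ d` means vanishing of all pieces above `d`. -/
theorem endDeg_le_iff' {G : Type u} [AddCommGroup G] (H : ℤ → AddSubgroup G) (ρ : ℤ) :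
    GrLC.endDeg H ≤ ((ρ : WithTop ℤ) : WithBot (WithTop ℤ)) ↔ ∀ j, ρ < j → H j = ⊥ := by
  unfold GrLC.endDeg
  rw [iSup₂_le_iff]
  constructor
  · intro h j hj
    by_contra hne
    have h1 := h j hne
    rw [WithBot.coe_le_coe, WithTop.coe_le_coe] at h1
    omega
  · intro h j hj
    rw [WithBot.coe_le_coe, WithTop.coe_le_coe]
    by_contra hlt
    exact hj (h j (not_le.mp hlt))

end Groth.Agent.Lib.R2H7.GrBdry
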