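/-
Graded local cohomology over a `ℤ`-graded ring generated in degree one, and over the polynomial
ring: bounded homogeneous submodules are torsion, the kernel of a quasi-regular linear form is
torsion, and descent of (weak) regularity to the quotient by a quasi-regular linear form.
-/
import Mathlib
import Groth.Agent.Lib.R2H7GrBdry
import Groth.Agent.Lib.Helper29GrStd
import Groth.Agent.Lib.Helper13RegFinLen
import Groth.Agent.Lib.Helper13RegCount
import Groth.Agent.Lib.Helper13RegResidue

set_option autoImplicit false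
open DirectSum

noncomputable section

namespace Groth.Agent.Lib.R2H7.GrPoly

open Groth.Agent.Lib.R2H7.GrDer Groth.Agent.Lib.R2H7.GrOps Groth.Agent.Lib.R2H7.GrLES
  Groth.Agent.Lib.R2H7.GrTors Groth.Agent.Lib.R2H7.GrBdry

universe u

section general

variable {R : Type u} [CommRing R] {𝒜 : ℤ → AddSubgroup R} [GradedRing 𝒜]
variable (a : HomogeneousIdeal 𝒜)

/-- Elements of a homogeneous submodule which vanishes in high degrees are torsion for the ideal
generated by the degree one piece. -/
theorem mem_gam_of_bounded (h1 : a.toIdeal = Ideal.span (𝒜 1 : Set R)) (X : GrLC.GMod.{u} 𝒜)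
    (P : Submodule R X.carrier) (hP : P.IsHomogeneous X.gr) (n₀ : ℤ)
    (hb : ∀ j, n₀ ≤ j → ∀ m ∈ P, m ∈ X.gr j → m = 0) (m : X.carrier) (hm : m ∈ P) :
    m ∈ GrLC.gam a.toIdeal X.carrier := by
  have hbot : ∀ j, n₀ ≤ j → (subG X P hP).gr j = ⊥ := by
    intro j hj
    rw [eq_bot_iff]
    rintro ⟨z, hz⟩ hzn
    rw [AddSubgroup.mem_bot]
    exact Subtype.ext (hb j hj z hz hzn)
  obtain ⟨N, hN⟩ := Groth.Agent.Lib.Helper29GrStd.exists_pow_smul_eq_zero_of_bounded 𝒜
    (subG X P hP).gr a.toIdeal h1 n₀ hbot ⟨m, hm⟩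
  exact ⟨N, fun r hr => congrArg Subtype.val (hN r hr)⟩

/-- One step of the long exact sequences for `0 → (0 :_X x)(-1) → X(-1) → X → N → 0`. -/
theorem vanX_quot [IsNoetherianRing R] {X N : GrLC.GMod.{u} 𝒜} {x : R} (hx : x ∈ 𝒜 1)
    (π : X.carrier →ₗ[R] N.carrier) (hπ : GrLC.IsGrHom X.gr N.gr π) (hs : Function.Surjective π)
    (hker : LinearMap.ker π = LinearMap.range (x • (LinearMap.id : X.carrier →ₗ[R] X.carrier)))
    (hK : ∀ m : X.carrier, x • m = 0 → m ∈ GrLC.gam a.toIdeal X.carrier) (i : ℕ) (g : ℤ)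
    (h0 : VanX a X i g) (h1 : VanX a X (i + 1) (g - 1)) : VanX a N i g := by
  refine vanX_right (sesB π hπ hs) a h0 ?_
  refine vanX_right (sesA 1 hx π hπ hker) a ((vanX_shift a (-1) (i + 1) g).mpr ?_) ?_
  · have e : g + -1 = g - 1 := by ring
    rw [e]
    exact h1
  · apply vanX_of_torsion a _ _ (i + 1 + 1) (Nat.succ_pos _) g
    rintro ⟨m, hm⟩
    refine (mem_gam_sub a.toIdeal (LinearMap.ker (mulCo 1 π hπ hker)) ⟨m, hm⟩).mpr (hK m ?_)
    have h0 : mulCo 1 π hπ hker m = 0 := hm
    exact congrArg Subtype.val h0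

end general

section finite

variable {k : Type u} [Field k] {M : Type u} [AddCommGroup M] [Module k M]
  (ℳ : ℤ → Submodule k M) [DirectSum.Decomposition ℳ]

/-- A finite dimensional subspace of a graded vector space has no homogeneous elements of large
degree. -/
theorem bounded_of_fg (T : Submodule k M) (hT : T.FG) :
    ∃ n₀ : ℤ, ∀ j, n₀ ≤ j → ∀ m ∈ T, m ∈ ℳ j → m = 0 := by
  classical
  obtain ⟨s, hs⟩ := hT
  obtain ⟨U, hU⟩ : ∃ U : Finset ℤ, U = s.biUnion (fun t => (decompose ℳ t).support) := ⟨_, rfl⟩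
  have key : ∀ m ∈ T, ∀ j, j ∉ U → ((decompose ℳ m) j : M) = 0 := by
    intro m hm
    rw [← hs] at hm
    refine Submodule.span_induction (p := fun m _ => ∀ j, j ∉ U → ((decompose ℳ m) j : M) = 0)
      ?_ ?_ ?_ ?_ hm
    · intro t ht j hj
      have : j ∉ (decompose ℳ t).support := by
        intro hjs
        apply hj
        rw [hU]
        exact Finset.mem_biUnion.mpr ⟨t, ht, hjs⟩
      rw [DFinsupp.notMem_support_iff] at this
      rw [this]
      rfl
    · intro j _
      rw [decompose_zero]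
      rfl
    · intro x y _ _ hx hy j hj
      rw [decompose_add, DirectSum.add_apply, Submodule.coe_add, hx j hj, hy j hj, add_zero]
    · intro c x _ hx j hj
      rw [decompose_smul, DirectSum.smul_apply, Submodule.coe_smul, hx j hj, smul_zero]
  obtain ⟨b, hb⟩ := U.bddAbove
  refine ⟨b + 1, fun j hj m hm hmj => ?_⟩
  have hjU : j ∉ U := by
    intro hjU
    have := hb hjU
    omega
  rw [← DirectSum.decompose_of_mem_same ℳ hmj]
  exact key m hm j hjU

end finite

section poly

variable (k : Type u) [Field k] (n : ℕ)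

/-- The irrelevant ideal of the polynomial ring, for the `AddSubgroup`-valued grading. -/
def mm : HomogeneousIdeal (toAS (GrSyz.stdGr k (Fin n))) :=
  convIdeal (GrSyz.stdGr k (Fin n)) (GrSyz.irrel (GrSyz.stdGr k (Fin n)))

theorem mm_toIdeal : (mm k n).toIdeal = (GrSyz.irrel (GrSyz.stdGr k (Fin n))).toIdeal := rfl

theorem mm_eq_span :
    (mm k n).toIdeal =
      Ideal.span (toAS (GrSyz.stdGr k (Fin n)) 1 : Set (MvPolynomial (Fin n) k)) := by
  rw [mm_toIdeal]
  apply le_antisymm
  · rw [Groth.Agent.Helper13RegCount.irrel_eq_span_X, Ideal.span_le]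
    rintro _ ⟨l, rfl⟩
    exact Ideal.subset_span (Groth.Agent.Helper13RegResidue.X_mem_stdGr_one l)
  · rw [Ideal.span_le]
    intro p hp
    exact Ideal.subset_span ⟨1, one_pos, hp⟩

variable {k n}
variable {M : Type u} [AddCommGroup M] [Module k M] [Module (MvPolynomial (Fin n) k) M]
  [IsScalarTower k (MvPolynomial (Fin n) k) M]

/-- The kernel of a quasi-regular linear form is torsion for the irrelevant ideal. -/
theorem qreg_torsion (ℳ : ℤ → Submodule k M) [DirectSum.Decomposition ℳ]
    [SetLike.GradedSMul (GrSyz.stdGr k (Fin n)) ℳ] (x : MvPolynomial (Fin n) k) (hx : x ∈ GrSyz.stdGr k (Fin n) 1)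
    (hq : IsFiniteLength (MvPolynomial (Fin n) k)
      ↥(Submodule.torsionBy (MvPolynomial (Fin n) k) M x)) (m : M) (hm : x • m = 0) :
    m ∈ GrLC.gam (GrSyz.irrel (GrSyz.stdGr k (Fin n))).toIdeal M := by
  have hfin : Module.Finite k ↥(Submodule.torsionBy (MvPolynomial (Fin n) k) M x) :=
    Groth.Agent.Helper13RegFinLen.finite_of_isFiniteLength k (MvPolynomial (Fin n) k) hq
  have hfg : ((Submodule.torsionBy (MvPolynomial (Fin n) k) M x).restrictScalars k).FG := by
    classical
    have h1 := (Module.finite_def (R := k)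
      (M := ↥(Submodule.torsionBy (MvPolynomial (Fin n) k) M x))).mp hfin
    obtain ⟨s, hs⟩ := h1
    refine ⟨s.image Subtype.val, ?_⟩
    apply le_antisymm
    · rw [Submodule.span_le]
      intro z hz
      rw [Finset.coe_image] at hz
      obtain ⟨w, _, rfl⟩ := hz
      exact w.2
    · intro z hz
      have hz' : (⟨z, hz⟩ : ↥(Submodule.torsionBy (MvPolynomial (Fin n) k) M x)) ∈
          Submodule.span k (s : Set ↥(Submodule.torsionBy (MvPolynomial (Fin n) k) M x)) := by
        rw [hs]
        exact Submodule.mem_top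
      have hgoal := Submodule.span_induction
        (p := fun (w : ↥(Submodule.torsionBy (MvPolynomial (Fin n) k) M x)) _ =>
          (w : M) ∈ Submodule.span k ((s.image Subtype.val : Finset M) : Set M))
        ?_ ?_ ?_ ?_ hz'
      · exact hgoal
      · intro w hw
        exact Submodule.subset_span (Finset.mem_coe.mpr (Finset.mem_image_of_mem _ hw))
      · exact zero_mem _
      · intro w w' _ _ h h'
        exact add_mem h h'
      · intro c w _ h
        exact Submodule.smul_mem _ c h
  obtain ⟨n₀, hn₀⟩ := bounded_of_fg ℳ _ hfg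
  have hP : (Submodule.torsionBy (MvPolynomial (Fin n) k)
      (toGMod (GrSyz.stdGr k (Fin n)) ℳ).carrier x).IsHomogeneous
      (toGMod (GrSyz.stdGr k (Fin n)) ℳ).gr := by
    intro j z hz
    rw [Submodule.mem_torsionBy_iff] at hz ⊢
    have h := Groth.Agent.Lib.Helper29GrEss.decompose_smul_of_mem
      (𝒜 := toAS (GrSyz.stdGr k (Fin n))) (𝓛 := (toGMod (GrSyz.stdGr k (Fin n)) ℳ).gr)
      (h := 1) (r := x) hx z (j + 1)
    rw [add_sub_cancel_right] at h
    rw [← h, hz, decompose_zero]
    rfl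
  exact mem_gam_of_bounded (mm k n) (mm_eq_span k n) (toGMod (GrSyz.stdGr k (Fin n)) ℳ) _ hP n₀
    (fun j hj z hz hzj => hn₀ j hj z hz hzj) m ((Submodule.mem_torsionBy_iff _ _).mpr hm)

end poly

end Groth.Agent.Lib.R2H7.GrPoly
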