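/-
Graded local cohomology of the polynomial ring and of graded free modules:
`H^i_m(k[x_1..x_n])_g = 0` unless `i = n` and `g ≤ -n`; graded free modules `⊕ R(-c_b)` as bundled
graded modules and the vanishing of their local cohomology.
-/
import Mathlib
import Groth.Agent.Lib.R2H7GrPoly
import Groth.Agent.Lib.Helper13Syzygy

set_option autoImplicit false
open DirectSum

noncomputable section

namespace Groth.Agent.Lib.R2H7.GrFree

open Groth.Agent.Lib.R2H7.GrDer Groth.Agent.Lib.R2H7.GrOps Groth.Agent.Lib.R2H7.GrLES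
  Groth.Agent.Lib.R2H7.GrTors Groth.Agent.Lib.R2H7.GrBdry Groth.Agent.Lib.R2H7.GrPoly

universe u

section general

variable {ι : Type} [AddCommGroup ι] [DecidableEq ι]
variable {R : Type u} [CommRing R] {𝒜 : ι → AddSubgroup R} [GradedRing 𝒜]
variable (a : HomogeneousIdeal 𝒜)

theorem vanX_of_subsingleton [IsNoetherianRing R] [Module.Free ℤ ι] [Module.Finite ℤ ι]
    (X : GrLC.GMod.{u} 𝒜) (hX : Subsingleton X.carrier) (i : ℕ) (g : ι) : VanX a X i g := by
  cases i with
  | zero => exact (vanX_zero_iff a X g).mpr (fun m _ _ => Subsingleton.elim _ _)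
  | succ i =>
    refine vanX_of_torsion a X (fun m => ?_) (i + 1) (Nat.succ_pos i) g
    rw [Subsingleton.elim m 0]
    exact zero_mem _

/-- The zero submodule as a graded module. -/
def zeroG (X : GrLC.GMod.{u} 𝒜) : GrLC.GMod.{u} 𝒜 :=
  subG X ⊥ (fun i m hm => by
    rw [(Submodule.mem_bot R).mp hm, decompose_zero]
    exact zero_mem _)

theorem zeroG_subsingleton (X : GrLC.GMod.{u} 𝒜) : Subsingleton (zeroG X).carrier :=
  ⟨fun x y => Subtype.ext (((Submodule.mem_bot R).mp x.2).trans ((Submodule.mem_bot R).mp y.2).symm)⟩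

variable (𝒜)

/-- The ring as a graded module over itself. -/
def selfG : GrLC.GMod.{u} 𝒜 :=
  { carrier := R
    gr := 𝒜
    dec := inferInstance
    gsmul := inferInstance }

/-- A family of projections onto subgroups exhibits an internal direct sum. -/
theorem isInternal_of_proj {M : Type u} [AddCommGroup M] (P : ι → AddSubgroup M)
    (π : ι → M →+ M) (hmem : ∀ d x, π d x ∈ P d)
    (hsum : ∀ x, ∃ T : Finset ι, x = ∑ d ∈ T, π d x)
    (hsame : ∀ d x, x ∈ P d → π d x = x) (hne : ∀ d e x, x ∈ P d → d ≠ e → π e x = 0) :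
    DirectSum.IsInternal P := by
  classical
  have key : ∀ (z : ⨁ d, P d) (e : ι), π e (DirectSum.coeAddMonoidHom P z) = ((z e : P e) : M) := by
    intro z e
    induction z using DirectSum.induction_on with
    | zero =>
      rw [map_zero, map_zero]
      rfl
    | of d x =>
      rw [DirectSum.coeAddMonoidHom_of]
      by_cases hde : d = e
      · subst hde
        rw [DirectSum.of_eq_same, hsame d x x.2]
      · rw [DirectSum.of_eq_of_ne _ _ _ (Ne.symm hde), hne d e x x.2 hde]
        rfl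
    | add x y hx hy =>
      rw [map_add, map_add, hx, hy, DirectSum.add_apply]
      rfl
  constructor
  · rw [injective_iff_map_eq_zero]
    intro z hz
    apply DFinsupp.ext
    intro e
    apply Subtype.ext
    have := key z e
    rw [hz, map_zero] at this
    exact this.symm
  · intro x
    obtain ⟨T, hT⟩ := hsum x
    refine ⟨∑ d ∈ T, DirectSum.of (fun d => P d) d ⟨π d x, hmem d x⟩, ?_⟩
    rw [map_sum]
    conv_rhs => rw [hT]
    refine Finset.sum_congr rfl (fun d _ => ?_)
    rw [DirectSum.coeAddMonoidHom_of]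

section free

variable {m : ℕ} (c : Fin m → ι)

/-- The degree `d` piece of `⊕_b R(-c_b)`. -/
def freePiece (d : ι) : AddSubgroup (Fin m → R) where
  carrier := {v | ∀ b, v b ∈ 𝒜 (d - c b)}
  zero_mem' := fun _ => zero_mem _
  add_mem' := fun hv hw b => add_mem (hv b) (hw b)
  neg_mem' := fun hv b => neg_mem (hv b)

theorem mem_freePiece {d : ι} {v : Fin m → R} : v ∈ freePiece 𝒜 c d ↔ ∀ b, v b ∈ 𝒜 (d - c b) :=
  Iff.rfl

/-- The projection onto the degree `d` piece. -/
def freeProj (d : ι) : (Fin m → R) →+ (Fin m → R) where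
  toFun v := fun b => ((decompose 𝒜 (v b)) (d - c b) : R)
  map_zero' := by
    funext b
    show ((decompose 𝒜 (0 : R)) (d - c b) : R) = 0
    rw [decompose_zero]
    rfl
  map_add' v w := by
    funext b
    show ((decompose 𝒜 (v b + w b)) (d - c b) : R) = _
    rw [decompose_add, DirectSum.add_apply]
    rfl

theorem freeProj_apply (d : ι) (v : Fin m → R) (b : Fin m) :
    freeProj 𝒜 c d v b = ((decompose 𝒜 (v b)) (d - c b) : R) := rfl

theorem sum_freeProj (x : Fin m → R) : ∃ T : Finset ι, x = ∑ d ∈ T, freeProj 𝒜 c d x := by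
  classical
  obtain ⟨T, hT⟩ : ∃ T : Finset ι, T = Finset.univ.biUnion
    (fun b => ((decompose 𝒜 (x b)).support).image (· + c b)) := ⟨_, rfl⟩
  refine ⟨T, ?_⟩
  funext b
  rw [Finset.sum_apply]
  simp only [freeProj_apply]
  have h1 : ∑ d ∈ T, ((decompose 𝒜 (x b)) (d - c b) : R) =
      ∑ e ∈ T.image (· - c b), ((decompose 𝒜 (x b)) e : R) := by
    rw [Finset.sum_image]
    intro d _ d' _ h
    exact sub_left_injective h
  rw [h1]
  conv_lhs => rw [← DirectSum.sum_support_decompose 𝒜 (x b)]
  apply Finset.sum_subset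
  · intro e he
    rw [Finset.mem_image]
    refine ⟨e + c b, ?_, add_sub_cancel_right e (c b)⟩
    rw [hT]
    exact Finset.mem_biUnion.2 ⟨b, Finset.mem_univ _, Finset.mem_image_of_mem _ he⟩
  · intro e _ he
    rw [DFinsupp.notMem_support_iff] at he
    rw [he]
    rfl

theorem isInternal_free : DirectSum.IsInternal (freePiece 𝒜 c) := by
  refine isInternal_of_proj (freePiece 𝒜 c) (freeProj 𝒜 c) ?_ (sum_freeProj 𝒜 c) ?_ ?_
  · intro d x b
    rw [freeProj_apply]
    exact SetLike.coe_mem _
  · intro d x hx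
    funext b
    rw [freeProj_apply]
    exact DirectSum.decompose_of_mem_same 𝒜 (hx b)
  · intro d e x hx hde
    funext b
    rw [freeProj_apply]
    refine DirectSum.decompose_of_mem_ne 𝒜 (hx b) ?_
    intro h
    exact hde (sub_left_injective h)

/-- The graded free module `⊕_b R(-c_b)`. -/
def freeG : GrLC.GMod.{u} 𝒜 :=
  { carrier := Fin m → R
    gr := freePiece 𝒜 c
    dec := (isInternal_free 𝒜 c).chooseDecomposition
    gsmul := ⟨by
      intro i j r v hr hv b
      have h := SetLike.GradedMul.mul_mem (A := 𝒜) hr (hv b)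
      have e : i + (j - c b) = i + j - c b := (add_sub_assoc i j (c b)).symm
      rw [e] at h
      exact h⟩ }

theorem mem_freeG_gr {d : ι} {v : Fin m → R} :
    v ∈ (freeG 𝒜 c).gr d ↔ ∀ b, v b ∈ 𝒜 (d - c b) := Iff.rfl

end free

/-- The inclusion of the first coordinate. -/
def inl0 (m : ℕ) : R →ₗ[R] (Fin (m + 1) → R) := LinearMap.single R (fun _ : Fin (m + 1) => R) 0

omit [AddCommGroup ι] [DecidableEq ι] [GradedRing 𝒜] in
theorem inl0_zero (m : ℕ) (r : R) : inl0 (R := R) m r 0 = r :=
  Pi.single_eq_same (M := fun _ : Fin (m + 1) => R) 0 r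

omit [AddCommGroup ι] [DecidableEq ι] [GradedRing 𝒜] in
theorem inl0_succ (m : ℕ) (r : R) (b : Fin m) : inl0 (R := R) m r b.succ = 0 :=
  Pi.single_eq_of_ne (M := fun _ : Fin (m + 1) => R) (Fin.succ_ne_zero b) r

/-- Forgetting the first coordinate. -/
def tl (m : ℕ) : (Fin (m + 1) → R) →ₗ[R] (Fin m → R) := LinearMap.funLeft R R Fin.succ

omit [AddCommGroup ι] [DecidableEq ι] [GradedRing 𝒜] in
theorem tl_apply (m : ℕ) (v : Fin (m + 1) → R) (b : Fin m) : tl (R := R) m v b = v b.succ := rfl

theorem inl0_mem {m : ℕ} (c : Fin (m + 1) → ι) (d : ι) (r : R) (hr : r ∈ 𝒜 (d + -(c 0))) :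
    inl0 m r ∈ freePiece 𝒜 c d := by
  intro b
  refine Fin.cases ?_ (fun b' => ?_) b
  · rw [inl0_zero, sub_eq_add_neg]
    exact hr
  · rw [inl0_succ]
    exact zero_mem _

theorem tl_mem {m : ℕ} (c : Fin (m + 1) → ι) (d : ι) (v : Fin (m + 1) → R)
    (hv : v ∈ freePiece 𝒜 c d) : tl m v ∈ freePiece 𝒜 (Fin.tail c) d :=
  fun b => hv b.succ

omit [AddCommGroup ι] [DecidableEq ι] [GradedRing 𝒜] in
theorem inl0_injective (m : ℕ) : Function.Injective (inl0 (R := R) m) :=
  Pi.single_injective (M := fun _ : Fin (m + 1) => R) 0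

omit [AddCommGroup ι] [DecidableEq ι] [GradedRing 𝒜] in
theorem tl_surjective (m : ℕ) : Function.Surjective (tl (R := R) m) := by
  intro w
  refine ⟨Fin.cons 0 w, ?_⟩
  funext b
  rw [tl_apply, Fin.cons_succ]

omit [AddCommGroup ι] [DecidableEq ι] [GradedRing 𝒜] in
theorem ker_tl (m : ℕ) : LinearMap.ker (tl (R := R) m) = LinearMap.range (inl0 (R := R) m) := by
  ext v
  rw [LinearMap.mem_ker, LinearMap.mem_range]
  constructor
  · intro h
    refine ⟨v 0, ?_⟩
    funext b
    refine Fin.cases ?_ (fun b' => ?_) b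
    · exact inl0_zero m (v 0)
    · rw [inl0_succ]
      exact (congrFun h b').symm
  · rintro ⟨r, rfl⟩
    funext b
    rw [tl_apply, inl0_succ]
    rfl

/-- `0 → R(-c_0) → ⊕_{b ≤ m} R(-c_b) → ⊕_{0 < b ≤ m} R(-c_b) → 0`. -/
def freeSES {m : ℕ} (c : Fin (m + 1) → ι) :
    GSES (shiftG (selfG 𝒜) (-(c 0))) (freeG 𝒜 c) (freeG 𝒜 (Fin.tail c)) where
  f := inl0 (R := R) m
  g := tl (R := R) m
  f_gr := fun d r hr => inl0_mem (R := R) 𝒜 c d r hr
  g_gr := fun d v hv => tl_mem 𝒜 c d v hv
  f_inj := inl0_injective (R := R) m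
  g_surj := tl_surjective (R := R) m
  exact := ker_tl (R := R) m

theorem vanX_free [IsNoetherianRing R] [Module.Free ℤ ι] [Module.Finite ℤ ι] (i : ℕ) :
    ∀ (m : ℕ) (c : Fin m → ι) (g : ι), (∀ b, VanX a (selfG 𝒜) i (g - c b)) →
      VanX a (freeG 𝒜 c) i g := by
  intro m
  induction m with
  | zero =>
    intro c g _
    exact vanX_of_subsingleton a _ (inferInstanceAs (Subsingleton (Fin 0 → R))) i g
  | succ m ih =>
    intro c g h
    refine vanX_mid (freeSES 𝒜 c) a ((vanX_shift a (-(c 0)) i g).mpr ?_)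
      (ih (Fin.tail c) g (fun b => h b.succ))
    rw [← sub_eq_add_neg]
    exact h 0

end general

/-! ### The polynomial ring -/

section poly

open Groth.Agent.Helper13Syzygy

variable (k : Type u) [Field k] (n : ℕ)

/-- The polynomial ring as a graded module over itself. -/
def SG : GrLC.GMod.{u} (toAS (GrSyz.stdGr k (Fin n))) := selfG (toAS (GrSyz.stdGr k (Fin n)))

theorem I_isHomogeneous (j : ℕ) :
    Ideal.IsHomogeneous (toAS (GrSyz.stdGr k (Fin n))) (I k n j) := by
  unfold I
  refine Ideal.homogeneous_span (toAS (GrSyz.stdGr k (Fin n))) _ ?_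
  rintro _ ⟨l, _, rfl⟩
  exact ⟨1, Groth.Agent.Helper13RegResidue.X_mem_stdGr_one l⟩

/-- `S/(x_0, …, x_{j-1})` as a graded module. -/
def Q (j : ℕ) : GrLC.GMod.{u} (toAS (GrSyz.stdGr k (Fin n))) :=
  quotG (SG k n) (I k n j) (I_isHomogeneous k n j)

theorem X_mem_mm (l : Fin n) : (MvPolynomial.X l : MvPolynomial (Fin n) k) ∈ (mm k n).toIdeal :=
  Ideal.subset_span ⟨1, one_pos, Groth.Agent.Helper13RegResidue.X_mem_stdGr_one l⟩

theorem vanX_Q : ∀ (t j : ℕ), j + t = n → ∀ (i : ℕ) (g : ℤ), (i = t → -(t : ℤ) < g) →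
    VanX (mm k n) (Q k n j) i g := by
  intro t
  induction t with
  | zero =>
    intro j hj i g hig
    have hjn : j = n := by omega
    subst hjn
    have hI : I k j j = (mm k j).toIdeal := I_top_eq_irrel k j
    cases i with
    | zero =>
      have hg : 0 < g := by
        have := hig rfl
        simpa using this
      refine (vanX_zero_iff (mm k j) (Q k j j) g).mpr ?_
      rintro m _ ⟨p, hp, rfl⟩
      refine (Submodule.Quotient.mk_eq_zero (I k j j)).mpr ?_
      rw [hI]
      exact Ideal.subset_span ⟨g, hg, hp⟩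
    | succ i =>
      refine vanX_of_torsion (mm k j) (Q k j j) (fun m => ?_) (i + 1) (Nat.succ_pos i) g
      obtain ⟨p, rfl⟩ := Submodule.Quotient.mk_surjective (I k j j) m
      refine ⟨1, fun r hr => ?_⟩
      rw [pow_one] at hr
      refine (Submodule.Quotient.mk_eq_zero (I k j j)).mpr ?_
      rw [hI]
      exact Ideal.mul_mem_right p _ hr
  | succ t ih =>
    intro j hjt i g hig
    have hj : j < n := by omega
    have ih' := ih (j + 1) (by omega)
    have hx : (MvPolynomial.X ⟨j, hj⟩ : MvPolynomial (Fin n) k) ∈ toAS (GrSyz.stdGr k (Fin n)) 1 :=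
      Groth.Agent.Helper13RegResidue.X_mem_stdGr_one _
    have hxa := X_mem_mm k n ⟨j, hj⟩
    have hπ : GrLC.IsGrHom (Q k n j).gr (Q k n (j + 1)).gr (projQ (k := k) (n := n) j) := by
      rintro d _ ⟨p, hp, rfl⟩
      exact ⟨p, hp, rfl⟩
    have hs := projQ_surjective (k := k) (n := n) j
    have hker : LinearMap.ker (projQ (k := k) (n := n) j) =
        LinearMap.range ((MvPolynomial.X ⟨j, hj⟩ : MvPolynomial (Fin n) k) •
          (LinearMap.id : (Q k n j).carrier →ₗ[MvPolynomial (Fin n) k] (Q k n j).carrier)) := by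
      ext y
      rw [LinearMap.mem_ker]
      constructor
      · intro h
        obtain ⟨z, hz⟩ := (exact_mulX_projQ (k := k) j hj y).mp h
        exact ⟨z, hz⟩
      · rintro ⟨z, hz⟩
        exact (exact_mulX_projQ (k := k) j hj y).mpr ⟨z, hz⟩
    have hreg : ∀ m : (Q k n j).carrier,
        (MvPolynomial.X ⟨j, hj⟩ : MvPolynomial (Fin n) k) • m = 0 → m = 0 := by
      intro m hm
      exact mulX_injective (k := k) j hj (hm.trans (map_zero (mulX (k := k) j hj)).symm)
    obtain ⟨E⟩ := exists_res (Q k n j)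
    rw [vanX_iff (mm k n) E]
    cases i with
    | zero =>
      refine van_of_forall_inj (mm k n) hx E hxa 0 Set.univ (fun _ _ => trivial) ?_ g trivial
      intro g' _ z hz hzg hc
      refine inj_of_hinjX (mm k n) hx
        (hinjX_mul_zero (mm k n) 1 hx _ hπ hs hker hreg (g := g' + 1)) E z hz ?_ hc
      have e : g' + 1 + -1 = g' := by ring
      rw [e]
      exact hzg
    | succ i =>
      refine van_of_forall_inj (mm k n) hx E hxa (i + 1) {g' | i = t → -((t : ℤ) + 1) < g'} ?_ ?_ g ?_
      · intro g' hg' h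
        have := hg' h
        omega
      · intro g' hg' z hz hzg hc
        have hN : VanX (mm k n) (Q k n (j + 1)) i (g' + 1) := by
          apply ih'
          intro h
          have := hg' h
          omega
        refine inj_of_hinjX (mm k n) hx
          (hinjX_mul_succ (mm k n) 1 hx _ hπ hs hker
            (fun m hm => by rw [hreg m hm]; exact zero_mem _) hN) E z hz ?_ hc
        have e : g' + 1 + -1 = g' := by ring
        rw [e]
        exact hzg
      · intro h
        have h' : i + 1 = t + 1 := by omega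
        have := hig h'
        push_cast at this
        omega

theorem vanX_SG (i : ℕ) (g : ℤ) (h : i = n → -(n : ℤ) < g) : VanX (mm k n) (SG k n) i g := by
  refine vanX_mid (GSES.ofSub (SG k n) (I k n 0) (I_isHomogeneous k n 0)) (mm k n) ?_
    (vanX_Q k n n 0 (by omega) i g h)
  refine vanX_of_subsingleton (mm k n) _ ⟨fun x y => Subtype.ext ?_⟩ i g
  have hle : I k n 0 ≤ ⊥ := le_of_eq (I_zero k n)
  have hx := hle x.2
  have hy := hle y.2
  exact ((Submodule.mem_bot _).mp hx).trans ((Submodule.mem_bot _).mp hy).symm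

/-- Vanishing of local cohomology of a graded free module over the polynomial ring. -/
theorem vanX_freeG {m : ℕ} (c : Fin m → ℤ) (i : ℕ) (g : ℤ)
    (h : ∀ b, i = n → -(n : ℤ) < g - c b) :
    VanX (mm k n) (freeG (toAS (GrSyz.stdGr k (Fin n))) c) i g :=
  vanX_free (toAS (GrSyz.stdGr k (Fin n))) (mm k n) i m c g (fun b => vanX_SG k n i _ (h b))

end poly

end Groth.Agent.Lib.R2H7.GrFree
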