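/-
Bounded complexes of graded modules with torsion homology ("lemma K"), the Koszul complex of a
list of linear forms as an iterated cone, and the two consequences for graded local cohomology:
the generator bound (`gen_bound`) and Mumford's step `d`-regular ⇒ `(d+1)`-regular (`reg_step`).
-/
import Mathlib
import Groth.Agent.Lib.R2H7GrFree

set_option autoImplicit false
open DirectSum

noncomputable section

namespace Groth.Agent.Lib.R2H7.GrKos

open Groth.Agent.Lib.Helper29GrHom Groth.Agent.Lib.Helper29GrEss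
  Groth.Agent.Lib.R2H7.GrDer Groth.Agent.Lib.R2H7.GrOps Groth.Agent.Lib.R2H7.GrLES
  Groth.Agent.Lib.R2H7.GrTors Groth.Agent.Lib.R2H7.GrFree

universe u

variable {R : Type u} [CommRing R] {𝒜 : ℤ → AddSubgroup R} [GradedRing 𝒜]

/-- `0 → X' → X → X/f(X') → 0` for an injective homogeneous map. -/
def GSES.ofInj {X' X : GrLC.GMod.{u} 𝒜} (f : X'.carrier →ₗ[R] X.carrier)
    (hf : GrLC.IsGrHom X'.gr X.gr f) (hinj : Function.Injective f) :
    GSES X' X (quotG X (LinearMap.range f) (range_isHomogeneous X.gr X'.gr f hf)) where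
  f := f
  g := (LinearMap.range f).mkQ
  f_gr := hf
  g_gr := mkQ_grHom X _ _
  f_inj := hinj
  g_surj := Submodule.mkQ_surjective _
  exact := Submodule.ker_mkQ _

/-- A chain complex of graded modules, indexed by the natural numbers. -/
structure GCx (𝒜 : ℤ → AddSubgroup R) [GradedRing 𝒜] where
  C : ℕ → GrLC.GMod.{u} 𝒜
  d : ∀ p, (C (p + 1)).carrier →ₗ[R] (C p).carrier
  d_gr : ∀ p, GrLC.IsGrHom (C (p + 1)).gr (C p).gr (d p)
  d_d : ∀ p (z : (C (p + 1 + 1)).carrier), d p (d (p + 1) z) = 0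

/-! ### Lemma K -/

section lemmaK

variable (K : GCx 𝒜) (a : HomogeneousIdeal 𝒜)

theorem range_d_isHomogeneous (q : ℕ) : (LinearMap.range (K.d q)).IsHomogeneous (K.C q).gr :=
  range_isHomogeneous (K.C q).gr (K.C (q + 1)).gr (K.d q) (K.d_gr q)

/-- The boundaries in degree `q`. -/
def Bd (q : ℕ) : GrLC.GMod.{u} 𝒜 :=
  subG (K.C q) (LinearMap.range (K.d q)) (range_d_isHomogeneous K q)

/-- The differential, corestricted to the boundaries. -/
def dR (q : ℕ) : (K.C (q + 1)).carrier →ₗ[R] (Bd K q).carrier := (K.d q).rangeRestrict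

theorem dR_gr (q : ℕ) : GrLC.IsGrHom (K.C (q + 1)).gr (Bd K q).gr (dR K q) :=
  fun g m hm => K.d_gr q g m hm

theorem dR_surj (q : ℕ) : Function.Surjective (dR K q) :=
  LinearMap.surjective_rangeRestrict _

theorem dR_eq_zero_iff (q : ℕ) (z : (K.C (q + 1)).carrier) : dR K q z = 0 ↔ K.d q z = 0 := by
  constructor
  · intro h
    exact congrArg Subtype.val h
  · intro h
    exact Subtype.ext h

/-- The cycles in degree `q + 1`. -/
def Zc (q : ℕ) : GrLC.GMod.{u} 𝒜 :=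
  subG (K.C (q + 1)) (LinearMap.ker (dR K q))
    (ker_isHomogeneous (Bd K q).gr (K.C (q + 1)).gr (dR K q) (dR_gr K q))

/-- `0 → Z_{q+1} → C_{q+1} → B_q → 0`. -/
def sesα (q : ℕ) : GSES (Zc K q) (K.C (q + 1)) (Bd K q) :=
  GSES.ofSurj (dR K q) (dR_gr K q) (dR_surj K q)

/-- The inclusion of the boundaries into the cycles. -/
def incl (q : ℕ) : (Bd K (q + 1)).carrier →ₗ[R] (Zc K q).carrier :=
  LinearMap.codRestrict (LinearMap.ker (dR K q)) (LinearMap.range (K.d (q + 1))).subtype (by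
    rintro ⟨z, w, rfl⟩
    exact (dR_eq_zero_iff K q _).mpr (K.d_d q w))

theorem incl_gr (q : ℕ) : GrLC.IsGrHom (Bd K (q + 1)).gr (Zc K q).gr (incl K q) :=
  fun _ _ hm => hm

theorem incl_inj (q : ℕ) : Function.Injective (incl K q) := by
  intro x y h
  apply Subtype.ext
  exact congrArg (fun z : (Zc K q).carrier => (z.1 : (K.C (q + 1)).carrier)) h

/-- The homology in degree `q + 1`. -/
def Hm (q : ℕ) : GrLC.GMod.{u} 𝒜 :=
  quotG (Zc K q) (LinearMap.range (incl K q))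
    (range_isHomogeneous (Zc K q).gr (Bd K (q + 1)).gr (incl K q) (incl_gr K q))

/-- `0 → B_{q+1} → Z_{q+1} → H_{q+1} → 0`. -/
def sesβ (q : ℕ) : GSES (Bd K (q + 1)) (Zc K q) (Hm K q) :=
  GSES.ofInj (incl K q) (incl_gr K q) (incl_inj K q)

/-- The homology in positive degrees is `a`-torsion. -/
def TorsH : Prop :=
  ∀ (q : ℕ) (z : (K.C (q + 1)).carrier), K.d q z = 0 →
    ∃ N : ℕ, ∀ r ∈ a.toIdeal ^ N, ∃ w, K.d (q + 1) w = r • z

/-- The homology in degree zero is `a`-torsion. -/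
def TorsH0 : Prop :=
  ∀ z : (K.C 0).carrier, ∃ N : ℕ, ∀ r ∈ a.toIdeal ^ N, ∃ w, K.d 0 w = r • z

theorem Hm_torsion (hT : TorsH K a) (q : ℕ) (m : (Hm K q).carrier) :
    m ∈ GrLC.gam a.toIdeal (Hm K q).carrier := by
  obtain ⟨⟨z, hz⟩, rfl⟩ := Submodule.mkQ_surjective (LinearMap.range (incl K q)) m
  have hz0 : K.d q z = 0 := (dR_eq_zero_iff K q z).mp hz
  obtain ⟨N, hN⟩ := hT q z hz0
  refine ⟨N, fun r hr => ?_⟩
  obtain ⟨w, hw⟩ := hN r hr
  have e : r • (LinearMap.range (incl K q)).mkQ (⟨z, hz⟩ : ↥(LinearMap.ker (dR K q))) =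
      (LinearMap.range (incl K q)).mkQ (r • (⟨z, hz⟩ : ↥(LinearMap.ker (dR K q)))) :=
    (map_smul (LinearMap.range (incl K q)).mkQ r _).symm
  exact e.trans ((Submodule.Quotient.mk_eq_zero (LinearMap.range (incl K q))).mpr
    ⟨⟨K.d (q + 1) w, ⟨w, rfl⟩⟩, Subtype.ext hw⟩)

/-- The homology in degree zero. -/
def Hm0 : GrLC.GMod.{u} 𝒜 :=
  quotG (K.C 0) (LinearMap.range (K.d 0)) (range_d_isHomogeneous K 0)

/-- `0 → B_0 → C_0 → H_0 → 0`. -/
def sesβ0 : GSES (Bd K 0) (K.C 0) (Hm0 K) :=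
  GSES.ofSub (K.C 0) (LinearMap.range (K.d 0)) (range_d_isHomogeneous K 0)

theorem Hm0_torsion (hT : TorsH0 K a) (m : (Hm0 K).carrier) :
    m ∈ GrLC.gam a.toIdeal (Hm0 K).carrier := by
  obtain ⟨z, rfl⟩ := Submodule.mkQ_surjective (LinearMap.range (K.d 0)) m
  obtain ⟨N, hN⟩ := hT z
  refine ⟨N, fun r hr => ?_⟩
  obtain ⟨w, hw⟩ := hN r hr
  have e : r • (LinearMap.range (K.d 0)).mkQ z = (LinearMap.range (K.d 0)).mkQ (r • z) :=
    (map_smul (LinearMap.range (K.d 0)).mkQ r z).symm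
  exact e.trans ((Submodule.Quotient.mk_eq_zero (LinearMap.range (K.d 0))).mpr ⟨w, hw⟩)

/-- Lemma K: vanishing for the terms propagates to the boundaries. -/
theorem vanX_Bd [IsNoetherianRing R] (hT : TorsH K a)
    (hb : ∃ n : ℕ, ∀ p, n ≤ p → Subsingleton (K.C p).carrier) (i' : ℕ) (j : ℤ)
    (hyp : ∀ q : ℕ, VanX a (K.C (q + 1)) (i' + q + 1) j) :
    ∀ q : ℕ, VanX a (Bd K q) (i' + q + 1) j := by
  obtain ⟨n, hn⟩ := hb
  have key : ∀ t q : ℕ, n ≤ q + t → VanX a (Bd K q) (i' + q + 1) j := by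
    intro t
    induction t with
    | zero =>
      intro q hq
      have hs : Subsingleton (K.C q).carrier := hn q hq
      exact vanX_of_subsingleton a _ ⟨fun x y => Subtype.ext (Subsingleton.elim _ _)⟩ _ j
    | succ t ih =>
      intro q hq
      have h1 : VanX a (Bd K (q + 1)) (i' + q + 1 + 1) j := ih (q + 1) (by omega)
      have h2 : VanX a (Hm K q) (i' + q + 1 + 1) j :=
        vanX_of_torsion a _ (Hm_torsion K a hT q) _ (Nat.succ_pos _) j
      have hZ : VanX a (Zc K q) (i' + q + 1 + 1) j := vanX_mid (sesβ K q) a h1 h2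
      exact vanX_right (sesα K q) a (hyp q) hZ
  intro q
  exact key n q (by omega)

end lemmaK

/-! ### Annihilation of homology and torsion -/

/-- Multiplication by `y` is zero on the homology of `K`. -/
def Kills (K : GCx 𝒜) (y : R) : Prop :=
  (∀ z : (K.C 0).carrier, ∃ w, K.d 0 w = y • z) ∧
  (∀ (p : ℕ) (z : (K.C (p + 1)).carrier), K.d p z = 0 → ∃ w, K.d (p + 1) w = y • z)

section tors

variable (K : GCx 𝒜) (a : HomogeneousIdeal 𝒜) [IsNoetherianRing R]

theorem exists_pow_of_radical {M N : Type u} [AddCommGroup M] [Module R M] [AddCommGroup N]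
    [Module R N] (f : N →ₗ[R] M) (z : M) (xs : List R)
    (hspan : a.toIdeal ≤ Ideal.span {y | y ∈ xs})
    (h : ∀ y ∈ xs, ∃ N : ℕ, ∃ w, f w = y ^ N • z) :
    ∃ N : ℕ, ∀ r ∈ a.toIdeal ^ N, ∃ w, f w = r • z := by
  have hJ : a.toIdeal ≤
      Ideal.radical ((LinearMap.range f).comap (LinearMap.toSpanSingleton R M z)) := by
    refine hspan.trans ?_
    rw [Ideal.span_le]
    intro y hy
    obtain ⟨N, w, hw⟩ := h y hy
    refine ⟨N, ?_⟩
    show LinearMap.toSpanSingleton R M z (y ^ N) ∈ LinearMap.range f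
    rw [LinearMap.toSpanSingleton_apply]
    exact ⟨w, hw⟩
  have hfg : a.toIdeal.FG := (isNoetherianRing_iff_ideal_fg R).mp inferInstance a.toIdeal
  obtain ⟨N, hN⟩ := Ideal.exists_pow_le_of_le_radical_of_fg hJ hfg
  refine ⟨N, fun r hr => ?_⟩
  have h1 : LinearMap.toSpanSingleton R M z r ∈ LinearMap.range f := hN hr
  rw [LinearMap.toSpanSingleton_apply] at h1
  exact h1

theorem torsH_of_kills (xs : List R) (hspan : a.toIdeal ≤ Ideal.span {y | y ∈ xs})
    (hk : ∀ y ∈ xs, ∃ N : ℕ, Kills K (y ^ N)) : TorsH K a := by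
  intro q z hz
  refine exists_pow_of_radical a (K.d (q + 1)) z xs hspan (fun y hy => ?_)
  obtain ⟨N, hN⟩ := hk y hy
  exact ⟨N, hN.2 q z hz⟩

theorem torsH0_of_kills (xs : List R) (hspan : a.toIdeal ≤ Ideal.span {y | y ∈ xs})
    (hk : ∀ y ∈ xs, ∃ N : ℕ, Kills K (y ^ N)) : TorsH0 K a := by
  intro z
  refine exists_pow_of_radical a (K.d 0) z xs hspan (fun y hy => ?_)
  obtain ⟨N, hN⟩ := hk y hy
  exact ⟨N, hN.1 z⟩

end tors

/-! ### The cone of multiplication by a linear form -/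

section cone

variable (K : GCx 𝒜)

/-- The complex shifted by one homological degree and by one internal degree. -/
def prevC : ℕ → GrLC.GMod.{u} 𝒜
  | 0 => zeroG (K.C 0)
  | p + 1 => shiftG (K.C p) (-1)

/-- The differential of the shifted complex. -/
def prevD : ∀ p : ℕ, (prevC K (p + 1)).carrier →ₗ[R] (prevC K p).carrier
  | 0 => 0
  | p + 1 => K.d p

/-- The identity `C_p → C_p(-1)`. -/
def toPrev (p : ℕ) : (K.C p).carrier →ₗ[R] (prevC K (p + 1)).carrier := LinearMap.id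

/-- The identity `C_p(-1) → C_p`. -/
def ofPrev (p : ℕ) : (prevC K (p + 1)).carrier →ₗ[R] (K.C p).carrier := LinearMap.id

theorem ofPrev_toPrev (p : ℕ) (b : (K.C p).carrier) : ofPrev K p (toPrev K p b) = b := rfl

theorem toPrev_ofPrev (p : ℕ) (b : (prevC K (p + 1)).carrier) : toPrev K p (ofPrev K p b) = b :=
  rfl

theorem ofPrev_prevD (p : ℕ) (b : (prevC K (p + 1 + 1)).carrier) :
    ofPrev K p (prevD K (p + 1) b) = K.d p (ofPrev K (p + 1) b) := rfl

theorem prevC_zero_subsingleton : Subsingleton (prevC K 0).carrier := zeroG_subsingleton (K.C 0)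

theorem mem_prevC_gr (p : ℕ) (g : ℤ) (b : (prevC K (p + 1)).carrier) :
    b ∈ (prevC K (p + 1)).gr g ↔ ofPrev K p b ∈ (K.C p).gr (g + -1) := Iff.rfl

theorem prevD_gr : ∀ p : ℕ, GrLC.IsGrHom (prevC K (p + 1)).gr (prevC K p).gr (prevD K p)
  | 0 => fun _ _ _ => zero_mem _
  | p + 1 => fun g m hm => K.d_gr p (g + -1) m hm

theorem prevD_prevD : ∀ (p : ℕ) (z : (prevC K (p + 1 + 1)).carrier),
    prevD K p (prevD K (p + 1) z) = 0
  | 0 => fun _ => rfl
  | p + 1 => fun z => K.d_d p z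

/-- The sign `(-1)^p`. -/
def eps (p : ℕ) : R := (-1) ^ p

omit [GradedRing 𝒜] in
theorem eps_zero : eps (R := R) 0 = 1 := pow_zero _

omit [GradedRing 𝒜] in
theorem eps_succ (p : ℕ) : eps (R := R) (p + 1) = -eps p := by
  unfold eps
  rw [pow_succ, mul_neg_one]

omit [GradedRing 𝒜] in
theorem eps_mul_self (p : ℕ) : eps (R := R) p * eps p = 1 := by
  unfold eps
  rw [← pow_add, ← two_mul, pow_mul, neg_one_sq, one_pow]

omit [GradedRing 𝒜] in
theorem eps_cases (p : ℕ) : eps (R := R) p = 1 ∨ eps (R := R) p = -1 := neg_one_pow_eq_or R p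

variable (x : R)

/-- The differential of the cone. -/
def coneD (p : ℕ) : ((K.C (p + 1)).carrier × (prevC K (p + 1)).carrier) →ₗ[R]
    ((K.C p).carrier × (prevC K p).carrier) :=
  LinearMap.prod (LinearMap.coprod (K.d p) ((eps p * x) • ofPrev K p))
    ((prevD K p) ∘ₗ LinearMap.snd R _ _)

theorem coneD_apply (p : ℕ) (a : (K.C (p + 1)).carrier) (b : (prevC K (p + 1)).carrier) :
    coneD K x p (a, b) = (K.d p a + (eps p * x) • ofPrev K p b, prevD K p b) := rfl

theorem coneD_coneD (p : ℕ) (z : (K.C (p + 1 + 1)).carrier × (prevC K (p + 1 + 1)).carrier) :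
    coneD K x p (coneD K x (p + 1) z) = 0 := by
  obtain ⟨a, b⟩ := z
  rw [coneD_apply, coneD_apply]
  refine Prod.ext ?_ (prevD_prevD K p b)
  show K.d p (K.d (p + 1) a + (eps (p + 1) * x) • ofPrev K (p + 1) b) +
    (eps p * x) • ofPrev K p (prevD K (p + 1) b) = 0
  rw [ofPrev_prevD, map_add, K.d_d, map_smul, zero_add, ← add_smul, eps_succ]
  have e : -eps (R := R) p * x + eps p * x = 0 := by ring
  rw [e, zero_smul]

/-- Multiplication by `x` is null-homotopic on the cone of `x` (degree zero). -/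
theorem kills_self_zero (z : (K.C 0).carrier × (prevC K 0).carrier) :
    ∃ w : (K.C 1).carrier × (prevC K 1).carrier, coneD K x 0 w = x • z := by
  obtain ⟨a₀, u⟩ := z
  refine ⟨((0 : (K.C 1).carrier), toPrev K 0 a₀), ?_⟩
  rw [coneD_apply]
  refine Prod.ext ?_ ((prevC_zero_subsingleton K).elim _ _)
  show K.d 0 0 + (eps 0 * x) • ofPrev K 0 (toPrev K 0 a₀) = x • a₀
  rw [map_zero, zero_add, ofPrev_toPrev, eps_zero, one_mul]

/-- Multiplication by `x` is null-homotopic on the cone of `x` (positive degrees). -/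
theorem kills_self_succ (p : ℕ) (z : (K.C (p + 1)).carrier × (prevC K (p + 1)).carrier)
    (hz : coneD K x p z = 0) :
    ∃ w : (K.C (p + 1 + 1)).carrier × (prevC K (p + 1 + 1)).carrier,
      coneD K x (p + 1) w = x • z := by
  obtain ⟨a₁, b₁⟩ := z
  rw [coneD_apply] at hz
  have h1 : K.d p a₁ + (eps p * x) • ofPrev K p b₁ = 0 := congrArg Prod.fst hz
  refine ⟨((0 : (K.C (p + 1 + 1)).carrier), toPrev K (p + 1) (eps (R := R) (p + 1) • a₁)), ?_⟩
  rw [coneD_apply]
  refine Prod.ext ?_ ?_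
  · show K.d (p + 1) 0 + (eps (p + 1) * x) • ofPrev K (p + 1) (toPrev K (p + 1)
      (eps (R := R) (p + 1) • a₁)) = x • a₁
    rw [map_zero, zero_add, ofPrev_toPrev, smul_smul]
    have e : eps (R := R) (p + 1) * x * eps (p + 1) = x := by
      rw [mul_comm (eps (p + 1)) x, mul_assoc, eps_mul_self, mul_one]
    rw [e]
  · show toPrev K p (ofPrev K p (prevD K (p + 1) (toPrev K (p + 1) (eps (R := R) (p + 1) • a₁)))) =
      toPrev K p (ofPrev K p (x • b₁))
    rw [ofPrev_prevD, ofPrev_toPrev, map_smul, eq_neg_of_add_eq_zero_left h1,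
      map_smul (ofPrev K p), smul_neg, smul_smul, eps_succ]
    have e : -(-eps (R := R) p * (eps p * x)) = x := by
      rw [neg_mul, neg_neg, ← mul_assoc, eps_mul_self, one_mul]
    rw [← neg_smul, e]

theorem exists_bd_prev {y : R} (hK : Kills K y) : ∀ (p : ℕ) (b₁ : (prevC K (p + 1)).carrier),
    prevD K p b₁ = 0 → ∃ b' : (K.C (p + 1)).carrier, K.d p b' = y • ofPrev K p b₁
  | 0 => fun b₁ _ => hK.1 (ofPrev K 0 b₁)
  | p + 1 => fun b₁ h => hK.2 p (ofPrev K (p + 1) b₁) h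

theorem kills_sq_zero {y : R} (hK : Kills K y) (z : (K.C 0).carrier × (prevC K 0).carrier) :
    ∃ w : (K.C 1).carrier × (prevC K 1).carrier, coneD K x 0 w = (y * y) • z := by
  obtain ⟨a₀, u⟩ := z
  obtain ⟨a, ha⟩ := hK.1 a₀
  refine ⟨(y • a, (0 : (prevC K 1).carrier)), ?_⟩
  rw [coneD_apply]
  refine Prod.ext ?_ ((prevC_zero_subsingleton K).elim _ _)
  show K.d 0 (y • a) + (eps 0 * x) • ofPrev K 0 0 = (y * y) • a₀
  rw [map_smul, ha, map_zero, smul_zero, add_zero, smul_smul]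

theorem kills_sq_succ {y : R} (hK : Kills K y) (p : ℕ)
    (z : (K.C (p + 1)).carrier × (prevC K (p + 1)).carrier) (hz : coneD K x p z = 0) :
    ∃ w : (K.C (p + 1 + 1)).carrier × (prevC K (p + 1 + 1)).carrier,
      coneD K x (p + 1) w = (y * y) • z := by
  obtain ⟨a₁, b₁⟩ := z
  rw [coneD_apply] at hz
  have h1 : K.d p a₁ + (eps p * x) • ofPrev K p b₁ = 0 := congrArg Prod.fst hz
  have h2 : prevD K p b₁ = 0 := congrArg Prod.snd hz
  obtain ⟨b', hb'⟩ := exists_bd_prev K hK p b₁ h2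
  have h3 : K.d p (y • a₁ - (eps (p + 1) * x) • b') = 0 := by
    rw [map_sub, map_smul, map_smul, hb', eq_neg_of_add_eq_zero_left h1, eps_succ, smul_neg,
      smul_smul, smul_smul]
    have e : -eps (R := R) p * x * y = -(y * (eps p * x)) := by ring
    rw [e, neg_smul, sub_self]
  obtain ⟨a₃, ha₃⟩ := hK.2 p _ h3
  refine ⟨(a₃, toPrev K (p + 1) (y • b')), ?_⟩
  rw [coneD_apply]
  refine Prod.ext ?_ ?_
  · show K.d (p + 1) a₃ + (eps (p + 1) * x) • ofPrev K (p + 1) (toPrev K (p + 1) (y • b')) =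
      (y * y) • a₁
    rw [ha₃, ofPrev_toPrev, smul_sub, smul_smul, smul_smul, smul_smul]
    have e : eps (R := R) (p + 1) * x * y = y * (eps (p + 1) * x) := by ring
    rw [e, sub_add_cancel]
  · show toPrev K p (ofPrev K p (prevD K (p + 1) (toPrev K (p + 1) (y • b')))) =
      toPrev K p (ofPrev K p ((y * y) • b₁))
    rw [ofPrev_prevD, ofPrev_toPrev, map_smul, hb', smul_smul, map_smul (ofPrev K p)]

variable {x} (hx : x ∈ 𝒜 1)

include hx in
theorem coneD_gr (p : ℕ) :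
    GrLC.IsGrHom (prodG (K.C (p + 1)) (prevC K (p + 1))).gr (prodG (K.C p) (prevC K p)).gr
      (coneD K x p) := by
  rintro g ⟨a, b⟩ hz
  obtain ⟨ha, hb⟩ := mem_prodG_gr.mp hz
  refine mem_prodG_gr.mpr ⟨?_, prevD_gr K p g b hb⟩
  show K.d p a + (eps p * x) • ofPrev K p b ∈ (K.C p).gr g
  refine add_mem (K.d_gr p g a ha) ?_
  have h1 : x • ofPrev K p b ∈ (K.C p).gr g := smul_mem_gr hx ((mem_prevC_gr K p g b).mp hb)
  rw [mul_smul]
  rcases eps_cases (R := R) p with h | h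
  · rw [h, one_smul]
    exact h1
  · rw [h, neg_one_smul]
    exact neg_mem h1

/-- The cone of multiplication by `x` on the complex `K`. -/
def cone : GCx 𝒜 where
  C p := prodG (K.C p) (prevC K p)
  d p := coneD K x p
  d_gr p := coneD_gr K hx p
  d_d p := coneD_coneD K x p

theorem kills_cone_self : Kills (cone K hx) x :=
  ⟨kills_self_zero K x, kills_self_succ K x⟩

theorem kills_cone_sq {y : R} (hK : Kills K y) : Kills (cone K hx) (y * y) :=
  ⟨kills_sq_zero K x hK, kills_sq_succ K x hK⟩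

end cone

/-! ### The Koszul complex of a list of linear forms -/

section koszul

variable (a : HomogeneousIdeal 𝒜) [IsNoetherianRing R]

/-- The complex `X` concentrated in degree zero. -/
def baseCx (X : GrLC.GMod.{u} 𝒜) : GCx 𝒜 where
  C := fun p => match p with
    | 0 => X
    | _ + 1 => zeroG X
  d := fun _ => 0
  d_gr := fun _ _ _ _ => zero_mem _
  d_d := fun _ _ => rfl

/-- A Koszul-type complex on `X` for the list `xs`, with the properties needed below. -/
structure KosData (X : GrLC.GMod.{u} 𝒜) (xs : List R) where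
  K : GCx 𝒜
  φ : (K.C 0).carrier →ₗ[R] X.carrier
  φ_gr : GrLC.IsGrHom (K.C 0).gr X.gr φ
  φ_surj : Function.Surjective φ
  terms : ∀ (p i : ℕ) (g : ℤ), VanX a X i (g - (p : ℤ)) → VanX a (K.C p) i g
  back : ∀ (i : ℕ) (g : ℤ), VanX a (K.C 0) i g → VanX a X i g
  range0 : ∀ w, φ (K.d 0 w) ∈ a.toIdeal • (⊤ : Submodule R X.carrier)
  kills : ∀ y ∈ xs, ∃ N : ℕ, Kills K (y ^ N)
  bdd : ∃ n : ℕ, ∀ p, n ≤ p → Subsingleton (K.C p).carrier

/-- The empty list. -/
def kosBase (X : GrLC.GMod.{u} 𝒜) : KosData a X [] where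
  K := baseCx X
  φ := LinearMap.id
  φ_gr := fun _ _ h => h
  φ_surj := fun z => ⟨z, rfl⟩
  terms := by
    intro p i g h
    cases p with
    | zero =>
      have e : g - ((0 : ℕ) : ℤ) = g := by
        rw [Nat.cast_zero, sub_zero]
      rw [e] at h
      exact h
    | succ p => exact vanX_of_subsingleton a _ (zeroG_subsingleton X) i g
  back := fun _ _ h => h
  range0 := fun _ => zero_mem _
  kills := fun y hy => absurd hy List.not_mem_nil
  bdd := ⟨1, fun p hp => by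
    obtain ⟨p', rfl⟩ : ∃ p', p = p' + 1 := ⟨p - 1, by omega⟩
    exact zeroG_subsingleton X⟩

/-- Adding one more linear form: the cone. -/
def kosCons {X : GrLC.GMod.{u} 𝒜} {ys : List R} (D : KosData a X ys) {y : R} (hy : y ∈ 𝒜 1)
    (hya : y ∈ a.toIdeal) : KosData a X (y :: ys) where
  K := cone D.K hy
  φ := D.φ ∘ₗ LinearMap.fst R (D.K.C 0).carrier (prevC D.K 0).carrier
  φ_gr := fun g z hz => D.φ_gr g z.1 (mem_prodG_gr.mp hz).1
  φ_surj := fun z => by
    obtain ⟨w, hw⟩ := D.φ_surj z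
    exact ⟨(w, 0), hw⟩
  terms := by
    intro p i g h
    refine vanX_mid (GSES.prod (D.K.C p) (prevC D.K p)) a (D.terms p i g h) ?_
    cases p with
    | zero => exact vanX_of_subsingleton a _ (prevC_zero_subsingleton D.K) i g
    | succ p =>
      refine (vanX_shift a (-1) i g).mpr (D.terms p i (g + -1) ?_)
      have e : g + -1 - (p : ℤ) = g - ((p + 1 : ℕ) : ℤ) := by
        push_cast
        ring
      rw [e]
      exact h
  back := by
    intro i g h
    apply D.back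
    have hZ := prevC_zero_subsingleton D.K
    cases i with
    | zero => exact vanX_left_zero (GSES.prod (D.K.C 0) (prevC D.K 0)) a h
    | succ i =>
      exact vanX_left (GSES.prod (D.K.C 0) (prevC D.K 0)) a h (vanX_of_subsingleton a _ hZ i g)
  range0 := by
    rintro ⟨w1, w2⟩
    show D.φ (D.K.d 0 w1 + (eps 0 * y) • ofPrev D.K 0 w2) ∈ _
    rw [map_add, map_smul]
    refine add_mem (D.range0 w1) (Submodule.smul_mem_smul ?_ Submodule.mem_top)
    exact Ideal.mul_mem_left _ _ hya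
  kills := by
    intro y' hy'
    rcases List.mem_cons.mp hy' with h | h
    · refine ⟨1, ?_⟩
      rw [pow_one, h]
      exact kills_cone_self D.K hy
    · obtain ⟨N, hN⟩ := D.kills y' h
      refine ⟨N + N, ?_⟩
      rw [pow_add]
      exact kills_cone_sq D.K hy hN
  bdd := by
    obtain ⟨n, hn⟩ := D.bdd
    refine ⟨n + 1, fun p hp => ?_⟩
    obtain ⟨p', rfl⟩ : ∃ p', p = p' + 1 := ⟨p - 1, by omega⟩
    have h1 : Subsingleton (D.K.C (p' + 1)).carrier := hn _ (by omega)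
    have h2 : Subsingleton (D.K.C p').carrier := hn _ (by omega)
    exact ⟨fun u v => Prod.ext (h1.elim _ _) (h2.elim _ _)⟩

theorem exists_kosData (X : GrLC.GMod.{u} 𝒜) : ∀ xs : List R,
    (∀ y ∈ xs, y ∈ 𝒜 1 ∧ y ∈ a.toIdeal) → Nonempty (KosData a X xs)
  | [] => fun _ => ⟨kosBase a X⟩
  | y :: ys => fun h => by
    obtain ⟨D⟩ := exists_kosData X ys (fun z hz => h z (List.mem_cons_of_mem _ hz))
    exact ⟨kosCons a D (h y List.mem_cons_self).1 (h y List.mem_cons_self).2⟩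

variable (xs : List R) (hxs : ∀ y ∈ xs, y ∈ 𝒜 1 ∧ y ∈ a.toIdeal)
  (hspan : a.toIdeal ≤ Ideal.span {y | y ∈ xs})

include hxs hspan in
/-- If `H^q_a(X)` vanishes in degree `j - q` for all `q`, then `X_j ⊆ a X`. -/
theorem gen_bound (X : GrLC.GMod.{u} 𝒜) (j : ℤ) (hyp : ∀ q : ℕ, VanX a X q (j - (q : ℤ))) :
    ∀ z ∈ X.gr j, z ∈ a.toIdeal • (⊤ : Submodule R X.carrier) := by
  obtain ⟨D⟩ := exists_kosData a X xs hxs
  have hT := torsH_of_kills D.K a xs hspan D.kills
  have hT0 := torsH0_of_kills D.K a xs hspan D.kills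
  have hB : VanX a (Bd D.K 0) (0 + 0 + 1) j :=
    vanX_Bd D.K a hT D.bdd 0 j (fun q => D.terms (q + 1) (0 + q + 1) j (by
      have h := hyp (q + 1)
      rw [Nat.zero_add]
      exact h)) 0
  have hH : VanX a (Hm0 D.K) 0 j := vanX_right (sesβ0 D.K) a (D.terms 0 0 j (hyp 0)) hB
  rw [vanX_zero_iff] at hH
  intro z hz
  obtain ⟨w₀, hw₀⟩ := D.φ_surj z
  have hw : D.φ ((decompose (D.K.C 0).gr w₀) j) = z := by
    rw [← decompose_map X.gr (D.K.C 0).gr D.φ D.φ_gr w₀ j, hw₀]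
    exact DirectSum.decompose_of_mem_same _ hz
  have h0 := hH ((LinearMap.range (D.K.d 0)).mkQ
    ((decompose (D.K.C 0).gr w₀) j : (D.K.C 0).carrier)) (Hm0_torsion D.K a hT0 _)
    ⟨_, SetLike.coe_mem _, rfl⟩
  obtain ⟨w', hw'⟩ := (Submodule.Quotient.mk_eq_zero (LinearMap.range (D.K.d 0))).mp h0
  rw [← hw, ← hw']
  exact D.range0 w'

include hxs hspan in
/-- Mumford's step: vanishing of `H^{i+q+1}_a(X)` in degree `j - (q+1)` for all `q` gives
vanishing of `H^{i+1}_a(X)` in degree `j`. -/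
theorem reg_step (X : GrLC.GMod.{u} 𝒜) (i : ℕ) (j : ℤ)
    (hyp : ∀ q : ℕ, VanX a X (i + q + 1) (j - ((q + 1 : ℕ) : ℤ))) : VanX a X (i + 1) j := by
  obtain ⟨D⟩ := exists_kosData a X xs hxs
  have hT := torsH_of_kills D.K a xs hspan D.kills
  have hT0 := torsH0_of_kills D.K a xs hspan D.kills
  have hB : VanX a (Bd D.K 0) (i + 0 + 1) j :=
    vanX_Bd D.K a hT D.bdd i j (fun q => D.terms (q + 1) (i + q + 1) j (hyp q)) 0
  have hH : VanX a (Hm0 D.K) (i + 1) j :=
    vanX_of_torsion a _ (Hm0_torsion D.K a hT0) (i + 1) (Nat.succ_pos i) j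
  exact D.back (i + 1) j (vanX_mid (sesβ0 D.K) a hB hH)

end koszul

/-! ### The polynomial ring -/

section poly

open Groth.Agent.Lib.R2H7.GrBdry Groth.Agent.Lib.R2H7.GrPoly

variable (k : Type u) [Field k] (n : ℕ)

/-- The list of variables. -/
def vars : List (MvPolynomial (Fin n) k) := List.ofFn (fun l : Fin n => MvPolynomial.X l)

theorem vars_mem : ∀ y ∈ vars k n,
    y ∈ toAS (GrSyz.stdGr k (Fin n)) 1 ∧ y ∈ (mm k n).toIdeal := by
  intro y hy
  obtain ⟨l, rfl⟩ := (List.mem_ofFn' _ _).mp hy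
  exact ⟨Groth.Agent.Helper13RegResidue.X_mem_stdGr_one l, X_mem_mm k n l⟩

theorem mm_le_span : (mm k n).toIdeal ≤ Ideal.span {y | y ∈ vars k n} := by
  rw [mm_toIdeal, Groth.Agent.Helper13RegCount.irrel_eq_span_X]
  apply Ideal.span_mono
  rintro _ ⟨l, rfl⟩
  exact (List.mem_ofFn' _ _).mpr ⟨l, rfl⟩

theorem gen_bound_poly (X : GrLC.GMod.{u} (toAS (GrSyz.stdGr k (Fin n)))) (j : ℤ)
    (hyp : ∀ q : ℕ, VanX (mm k n) X q (j - (q : ℤ))) :
    ∀ z ∈ X.gr j, z ∈ (mm k n).toIdeal • (⊤ : Submodule (MvPolynomial (Fin n) k) X.carrier) :=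
  gen_bound (mm k n) (vars k n) (vars_mem k n) (mm_le_span k n) X j hyp

theorem reg_step_poly (X : GrLC.GMod.{u} (toAS (GrSyz.stdGr k (Fin n)))) (i : ℕ) (j : ℤ)
    (hyp : ∀ q : ℕ, VanX (mm k n) X (i + q + 1) (j - ((q + 1 : ℕ) : ℤ))) :
    VanX (mm k n) X (i + 1) j :=
  reg_step (mm k n) (vars k n) (vars_mem k n) (mm_le_span k n) X i j hyp

end poly

end Groth.Agent.Lib.R2H7.GrKos
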