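/-
Regularity in terms of graded local cohomology over the polynomial ring: the strong form `RegL`
(`H^i_m(X)_g = 0` for `g > d - i`), the weak form `Reg3` (`H^0_m(X)_{>d} = 0` and
`H^i_m(X)_{d-i+1} = 0` for `i > 0`), their equivalence (Mumford), the behaviour under a
quasi-regular linear form, and the translation from the statements' `Hcomp`/`endDeg` language.
-/
import Mathlib
import Groth.Agent.Lib.R2H7GrKos

set_option autoImplicit false
open DirectSum

noncomputable section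

namespace Groth.Agent.Lib.R2H7.GrReg

open Groth.Agent.Lib.R2H7.GrDer Groth.Agent.Lib.R2H7.GrOps Groth.Agent.Lib.R2H7.GrLES
  Groth.Agent.Lib.R2H7.GrTors Groth.Agent.Lib.R2H7.GrBdry Groth.Agent.Lib.R2H7.GrPoly
  Groth.Agent.Lib.R2H7.GrFree Groth.Agent.Lib.R2H7.GrKos

universe u

variable (k : Type u) [Field k] (n : ℕ)

/-- `H^i_m(X)_g = 0` whenever `g > d - i`. -/
def RegL (X : GrLC.GMod.{u} (toAS (GrSyz.stdGr k (Fin n)))) (d : ℤ) : Prop :=
  ∀ (i : ℕ) (g : ℤ), d - (i : ℤ) < g → VanX (mm k n) X i g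

/-- `H^0_m(X)_g = 0` for `g > d` and `H^i_m(X)_{d-i+1} = 0` for `i > 0`. -/
def Reg3 (X : GrLC.GMod.{u} (toAS (GrSyz.stdGr k (Fin n)))) (d : ℤ) : Prop :=
  (∀ g : ℤ, d < g → VanX (mm k n) X 0 g) ∧
    ∀ i : ℕ, 0 < i → VanX (mm k n) X i (d - (i : ℤ) + 1)

variable {k n} {X : GrLC.GMod.{u} (toAS (GrSyz.stdGr k (Fin n)))}

theorem reg3_of_regL {d : ℤ} (h : RegL k n X d) : Reg3 k n X d := by
  refine ⟨fun g hg => h 0 g ?_, fun i _ => h i _ ?_⟩
  · rw [Nat.cast_zero, sub_zero]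
    exact hg
  · omega

theorem reg3_succ {d : ℤ} (h : Reg3 k n X d) : Reg3 k n X (d + 1) := by
  refine ⟨fun g hg => h.1 g (by omega), fun i hi => ?_⟩
  obtain ⟨i', rfl⟩ : ∃ i', i = i' + 1 := ⟨i - 1, by omega⟩
  refine reg_step_poly k n X i' _ (fun q => ?_)
  have h1 := h.2 (i' + q + 1) (Nat.succ_pos _)
  have e : d + 1 - ((i' + 1 : ℕ) : ℤ) + 1 - ((q + 1 : ℕ) : ℤ) =
      d - ((i' + q + 1 : ℕ) : ℤ) + 1 := by
    push_cast
    ring
  rw [e]
  exact h1

theorem reg3_add {d : ℤ} (h : Reg3 k n X d) (e : ℕ) : Reg3 k n X (d + e) := by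
  induction e with
  | zero =>
    rw [Nat.cast_zero, add_zero]
    exact h
  | succ e ih =>
    have := reg3_succ ih
    rw [Nat.cast_succ, ← add_assoc]
    exact this

theorem regL_of_reg3 {d : ℤ} (h : Reg3 k n X d) : RegL k n X d := by
  intro i g hg
  cases i with
  | zero =>
    rw [Nat.cast_zero, sub_zero] at hg
    exact h.1 g hg
  | succ i =>
    have h1 := (reg3_add h (g - (d - ((i + 1 : ℕ) : ℤ) + 1)).toNat).2 (i + 1) (Nat.succ_pos i)
    have e : d + ((g - (d - ((i + 1 : ℕ) : ℤ) + 1)).toNat : ℤ) - ((i + 1 : ℕ) : ℤ) + 1 = g := by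
      have := Int.toNat_of_nonneg (a := g - (d - ((i + 1 : ℕ) : ℤ) + 1)) (by omega)
      omega
    rw [e] at h1
    exact h1

theorem regL_iff_reg3 {d : ℤ} : RegL k n X d ↔ Reg3 k n X d :=
  ⟨reg3_of_regL, regL_of_reg3⟩

/-! ### Quotient by a quasi-regular linear form -/

section quot

variable {N : GrLC.GMod.{u} (toAS (GrSyz.stdGr k (Fin n)))} {x : MvPolynomial (Fin n) k}
  (hx : x ∈ toAS (GrSyz.stdGr k (Fin n)) 1)
  (π : X.carrier →ₗ[MvPolynomial (Fin n) k] N.carrier) (hπ : GrLC.IsGrHom X.gr N.gr π)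
  (hs : Function.Surjective π)
  (hker : LinearMap.ker π = LinearMap.range
    (x • (LinearMap.id : X.carrier →ₗ[MvPolynomial (Fin n) k] X.carrier)))
  (hK : ∀ m : X.carrier, x • m = 0 → m ∈ GrLC.gam (mm k n).toIdeal X.carrier)

include hx hπ hs hker hK

theorem reg3_quot {d : ℤ} (h : Reg3 k n X d) : Reg3 k n N d := by
  have hL := regL_of_reg3 h
  refine ⟨fun g hg => ?_, fun i _ => ?_⟩
  · refine vanX_quot (mm k n) hx π hπ hs hker hK 0 g (h.1 g hg) (hL 1 _ ?_)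
    push_cast
    omega
  · refine vanX_quot (mm k n) hx π hπ hs hker hK i _ (hL i _ (by omega)) (hL (i + 1) _ ?_)
    push_cast
    omega

theorem reg3_of_quot {d : ℤ} (hN : Reg3 k n N d) (h0 : ∀ g : ℤ, d < g → VanX (mm k n) X 0 g) :
    Reg3 k n X d := by
  have hL := regL_of_reg3 hN
  refine ⟨h0, fun i hi => ?_⟩
  obtain ⟨i', rfl⟩ : ∃ i', i = i' + 1 := ⟨i - 1, by omega⟩
  obtain ⟨E⟩ := exists_res X
  rw [vanX_iff (mm k n) E]
  have hxa : x ∈ (mm k n).toIdeal := Ideal.subset_span ⟨1, one_pos, hx⟩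
  refine van_of_forall_inj (mm k n) hx E hxa (i' + 1) {g | d - (i' : ℤ) - 1 < g} ?_ ?_ _ ?_
  · intro g hg
    have : d - (i' : ℤ) - 1 < g := hg
    show d - (i' : ℤ) - 1 < 1 + g
    omega
  · intro g hg z hz hzg hc
    have hg' : d - (i' : ℤ) - 1 < g := hg
    have hN' : VanX (mm k n) N i' (g + 1) := hL i' (g + 1) (by omega)
    refine inj_of_hinjX (mm k n) hx (hinjX_mul_succ (mm k n) 1 hx π hπ hs hker hK hN') E z hz ?_ hc
    have e : g + 1 + -1 = g := by ring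
    rw [e]
    exact hzg
  · show d - (i' : ℤ) - 1 < d - ((i' + 1 : ℕ) : ℤ) + 1
    push_cast
    omega

theorem reg3_quot_iff {d : ℤ} :
    Reg3 k n X d ↔ (Reg3 k n N d ∧ ∀ g : ℤ, d < g → VanX (mm k n) X 0 g) :=
  ⟨fun h => ⟨reg3_quot hx π hπ hs hker hK h, h.1⟩,
    fun h => reg3_of_quot hx π hπ hs hker hK h.1 h.2⟩

end quot

/-! ### Translation from the statements -/

section translate

variable {M : Type u} [AddCommGroup M] [Module (MvPolynomial (Fin n) k) M]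
  {τ : Type u} [SetLike τ M] [AddSubgroupClass τ M] (ℳ : ℤ → τ) [DirectSum.Decomposition ℳ]
  [SetLike.GradedSMul (GrSyz.stdGr k (Fin n)) ℳ]
  (E : GrLC.StarInjRes (GrSyz.stdGr k (Fin n)) ℳ)

theorem hgr_eq_bot_iff (i : ℕ) (g : ℤ) :
    E.Hgr (GrSyz.irrel (GrSyz.stdGr k (Fin n))) i g = ⊥ ↔
      VanX (mm k n) (toGMod (GrSyz.stdGr k (Fin n)) ℳ) i g := by
  exact (Groth.Agent.Helper13RegFinLen.toAddSubgroup_eq_bot_iff _).trans
    (hcomp_eq_bot_iff_vanX _ ℳ E _ i g)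

theorem endDeg_zero_le_iff (d : ℤ) :
    GrLC.endDeg (E.Hgr (GrSyz.irrel (GrSyz.stdGr k (Fin n))) 0) ≤
        ((d : WithTop ℤ) : WithBot (WithTop ℤ)) ↔
      ∀ g : ℤ, d < g → VanX (mm k n) (toGMod (GrSyz.stdGr k (Fin n)) ℳ) 0 g := by
  rw [endDeg_le_iff']
  exact forall_congr' (fun g => imp_congr_right (fun _ => hgr_eq_bot_iff ℳ E 0 g))

theorem reg3_iff (d : ℤ) :
    (GrLC.endDeg (E.Hgr (GrSyz.irrel (GrSyz.stdGr k (Fin n))) 0) ≤
        ((d : WithTop ℤ) : WithBot (WithTop ℤ)) ∧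
      ∀ i : ℕ, 0 < i →
        E.Hcomp (GrSyz.irrel (GrSyz.stdGr k (Fin n))) i (d - (i : ℤ) + 1) = ⊥) ↔
      Reg3 k n (toGMod (GrSyz.stdGr k (Fin n)) ℳ) d := by
  unfold Reg3
  rw [endDeg_zero_le_iff]
  refine and_congr_right (fun _ => forall_congr' (fun i => imp_congr_right (fun _ => ?_)))
  exact hcomp_eq_bot_iff_vanX _ ℳ E _ i _

/-- `end(H) + i ≤ d` means vanishing of the pieces above `d - i`. -/
theorem endDeg_add_le_iff {G : Type u} [AddCommGroup G] (H : ℤ → AddSubgroup G) (i : ℕ) (d : ℤ) :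
    GrLC.endDeg H + (((i : ℤ) : WithTop ℤ) : WithBot (WithTop ℤ)) ≤
        ((d : WithTop ℤ) : WithBot (WithTop ℤ)) ↔ ∀ g : ℤ, d - (i : ℤ) < g → H g = ⊥ := by
  rw [← endDeg_le_iff' H (d - (i : ℤ))]
  induction GrLC.endDeg H using WithBot.recBotCoe with
  | bot => simp
  | coe c =>
    induction c using WithTop.recTopCoe with
    | top =>
      constructor
      · intro h
        exfalso
        rw [← WithBot.coe_add, WithBot.coe_le_coe, WithTop.top_add] at h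
        exact WithTop.coe_ne_top (top_le_iff.mp h)
      · intro h
        exfalso
        rw [WithBot.coe_le_coe] at h
        exact WithTop.coe_ne_top (top_le_iff.mp h)
    | coe m =>
      rw [← WithBot.coe_add, ← WithTop.coe_add, WithBot.coe_le_coe, WithBot.coe_le_coe,
        WithTop.coe_le_coe, WithTop.coe_le_coe]
      omega

theorem regL_iff (d : ℤ) :
    (∀ i : ℕ, GrLC.endDeg (E.Hgr (GrSyz.irrel (GrSyz.stdGr k (Fin n))) i) +
        (((i : ℤ) : WithTop ℤ) : WithBot (WithTop ℤ)) ≤ ((d : WithTop ℤ) : WithBot (WithTop ℤ))) ↔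
      RegL k n (toGMod (GrSyz.stdGr k (Fin n)) ℳ) d := by
  unfold RegL
  refine forall_congr' (fun i => ?_)
  rw [endDeg_add_le_iff]
  exact forall_congr' (fun g => imp_congr_right (fun _ => hgr_eq_bot_iff ℳ E i g))

end translate

end Groth.Agent.Lib.R2H7.GrReg
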