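/-
Graded local cohomology over a Noetherian positively graded ring generated in degree one:
Mumford's diagonal vanishing and generation in degrees at most the regularity.
-/
import Mathlib
import Groth.Agent.Lib.R2H7GrReg
import Groth.Agent.Lib.Helper29GrStd

set_option autoImplicit false
open DirectSum

noncomputable section

namespace Groth.Agent.Lib.R2H7.GrGen

open Groth.Agent.Lib.R2H7.GrDer Groth.Agent.Lib.R2H7.GrOps Groth.Agent.Lib.R2H7.GrLES
  Groth.Agent.Lib.R2H7.GrTors Groth.Agent.Lib.R2H7.GrBdry Groth.Agent.Lib.R2H7.GrKos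
  Groth.Agent.Lib.R2H7.GrReg

universe u

variable {R : Type u} [CommRing R] {𝒜 : ℤ → AddSubgroup R} [GradedRing 𝒜]
variable (a : HomogeneousIdeal 𝒜)

theorem hcomp_eq_bot_iff_van {X : GrLC.GMod.{u} 𝒜} (E : GrLC.StarInjRes 𝒜 X.gr) (i : ℕ) (g : ℤ) :
    E.Hcomp a i g = ⊥ ↔ Van a E i g := by
  constructor
  · intro h z hz hzg
    have hmem : E.toH a i ⟨z, hz⟩ ∈ E.Hcomp a i g := ⟨⟨z, hz⟩, hzg, rfl⟩
    rw [h] at hmem
    have h0 : E.toH a i ⟨z, hz⟩ = 0 := (Submodule.mem_bot _).mp hmem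
    exact (Submodule.Quotient.mk_eq_zero ((E.cobdy a i).comap (E.cocyc a i).subtype)).mp h0
  · intro h
    rw [Submodule.eq_bot_iff]
    rintro _ ⟨z, hzg, rfl⟩
    have := h z.1 z.2 hzg
    exact (Submodule.Quotient.mk_eq_zero ((E.cobdy a i).comap (E.cocyc a i).subtype)).mpr this

section unbundled

variable {M : Type u} [AddCommGroup M] [Module R M] (ℳ : ℤ → AddSubgroup M)
  [DirectSum.Decomposition ℳ] [SetLike.GradedSMul 𝒜 ℳ] (E : GrLC.StarInjRes 𝒜 ℳ)

theorem hcomp_eq_bot_iff_vanX' (i : ℕ) (g : ℤ) :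
    E.Hcomp a i g = ⊥ ↔ VanX a (GrLC.GMod.of 𝒜 M ℳ) i g := by
  have h := hcomp_eq_bot_iff_van a (X := GrLC.GMod.of 𝒜 M ℳ) E i g
  exact h.trans (vanX_iff a (X := GrLC.GMod.of 𝒜 M ℳ) E).symm

theorem hgr_eq_bot_iff' (i : ℕ) (g : ℤ) :
    E.Hgr a i g = ⊥ ↔ VanX a (GrLC.GMod.of 𝒜 M ℳ) i g :=
  (Groth.Agent.Helper13RegFinLen.toAddSubgroup_eq_bot_iff _).trans
    (hcomp_eq_bot_iff_vanX' a ℳ E i g)

end unbundled

/-- A finite list of degree one generators of `R_+`. -/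
theorem exists_gens [IsNoetherianRing R] (hhom : a.toIdeal = Ideal.span ((𝒜 1 : AddSubgroup R) : Set R)) :
    ∃ xs : List R, (∀ y ∈ xs, y ∈ 𝒜 1 ∧ y ∈ a.toIdeal) ∧
      a.toIdeal ≤ Ideal.span {y | y ∈ xs} := by
  have hfg : (Submodule.span R ((𝒜 1 : AddSubgroup R) : Set R)).FG := by
    have h : a.toIdeal.FG := (isNoetherianRing_iff_ideal_fg R).mp inferInstance a.toIdeal
    rw [hhom] at h
    exact h
  obtain ⟨s, hs1, hs2⟩ := (Submodule.fg_span_iff_fg_span_finset_subset _).mp hfg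
  refine ⟨s.toList, fun y hy => ?_, ?_⟩
  · have hy' : y ∈ s := Finset.mem_toList.mp hy
    refine ⟨hs1 hy', ?_⟩
    rw [hhom]
    exact Ideal.subset_span (hs1 hy')
  · rw [hhom]
    show Submodule.span R ((𝒜 1 : AddSubgroup R) : Set R) ≤ _
    rw [hs2]
    apply Submodule.span_mono
    intro y hy
    exact Finset.mem_toList.mpr hy

/-- Mumford's diagonal vanishing. -/
theorem diag_van [IsNoetherianRing R] (hhom : a.toIdeal = Ideal.span ((𝒜 1 : AddSubgroup R) : Set R))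
    (X : GrLC.GMod.{u} 𝒜) (r : ℤ) (l : ℕ) (hl : 1 ≤ l)
    (hvan : ∀ i : ℕ, l ≤ i → VanX a X i (r + 1 - (i : ℤ))) :
    ∀ (e i : ℕ), l ≤ i → VanX a X i (r + 1 + (e : ℤ) - (i : ℤ)) := by
  obtain ⟨xs, hxs, hspan⟩ := exists_gens a hhom
  intro e
  induction e with
  | zero =>
    intro i hi
    rw [Nat.cast_zero, add_zero]
    exact hvan i hi
  | succ e ih =>
    intro i hi
    obtain ⟨i', rfl⟩ : ∃ i', i = i' + 1 := ⟨i - 1, by omega⟩
    refine reg_step a xs hxs hspan X i' _ (fun q => ?_)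
    have h1 := ih (i' + q + 1) (by omega)
    have e' : r + 1 + ((e + 1 : ℕ) : ℤ) - ((i' + 1 : ℕ) : ℤ) - ((q + 1 : ℕ) : ℤ) =
        r + 1 + (e : ℤ) - ((i' + q + 1 : ℕ) : ℤ) := by
      push_cast
      ring
    rw [e']
    exact h1

/-! ### Generation in low degrees -/

section gen

variable {M : Type u} [AddCommGroup M] [Module R M] (ℳ : ℤ → AddSubgroup M)
  [DirectSum.Decomposition ℳ] [SetLike.GradedSMul 𝒜 ℳ]

include 𝒜 in
/-- The span of a set of homogeneous elements is a homogeneous submodule. -/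
theorem span_isHomogeneous (T : Set M) (hT : ∀ t ∈ T, ∃ g, t ∈ ℳ g) :
    (Submodule.span R T).IsHomogeneous ℳ := by
  classical
  intro i x hx
  obtain ⟨f, t, hts, -, rfl⟩ := Submodule.mem_span_iff_exists_finset_subset.mp hx
  have hdeg : ∀ s ∈ t, s ∈ ℳ ((fun m : M => if h : ∃ g, m ∈ ℳ g then h.choose else 0) s) := by
    intro s hs
    have h := hT s (hts hs)
    show s ∈ ℳ (if h : ∃ g, s ∈ ℳ g then h.choose else 0)
    rw [dif_pos h]
    exact h.choose_spec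
  rw [Groth.Agent.Lib.Helper29GrStd.decompose_sum_smul 𝒜 ℳ t _ hdeg f i]
  exact Submodule.sum_mem _ (fun s hs => Submodule.smul_mem _ _ (Submodule.subset_span (hts hs)))

/-- The submodule generated by the pieces of degree at most `ρ`. -/
def lowSpan (ρ : ℤ) : Submodule R M := Submodule.span R (⋃ (n : ℤ) (_ : n ≤ ρ), (ℳ n : Set M))

include 𝒜 in
theorem lowSpan_isHomogeneous (ρ : ℤ) : (lowSpan (R := R) ℳ ρ).IsHomogeneous ℳ := by
  apply span_isHomogeneous (𝒜 := 𝒜)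
  intro t ht
  simp only [Set.mem_iUnion] at ht
  obtain ⟨n, _, hn⟩ := ht
  exact ⟨n, hn⟩

theorem mem_lowSpan {ρ n : ℤ} (hn : n ≤ ρ) {z : M} (hz : z ∈ ℳ n) : z ∈ lowSpan (R := R) ℳ ρ := by
  apply Submodule.subset_span
  simp only [Set.mem_iUnion]
  exact ⟨n, hn, hz⟩

/-- Graded Nakayama: if `M_j ⊆ a M` for all `j > ρ` then `M` is generated in degrees `≤ ρ`. -/
theorem lowSpan_eq_top [Module.Finite R M] (hpos : ∀ n : ℤ, n < 0 → 𝒜 n = ⊥)
    (hhom : a.toIdeal = Ideal.span ((𝒜 1 : AddSubgroup R) : Set R)) (ρ : ℤ)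
    (h : ∀ j : ℤ, ρ < j → ∀ z ∈ ℳ j, z ∈ a.toIdeal • (⊤ : Submodule R M)) :
    lowSpan (R := R) ℳ ρ = ⊤ := by
  have hN := lowSpan_isHomogeneous (𝒜 := 𝒜) ℳ ρ
  have htop : a.toIdeal • (⊤ : Submodule R (M ⧸ lowSpan (R := R) ℳ ρ)) = ⊤ := by
    classical
    rw [eq_top_iff]
    rintro y -
    obtain ⟨x, rfl⟩ := Submodule.mkQ_surjective (lowSpan (R := R) ℳ ρ) y
    rw [← DirectSum.sum_support_decompose ℳ x, map_sum]
    refine Submodule.sum_mem _ (fun j _ => ?_)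
    by_cases hj : j ≤ ρ
    · have : (lowSpan (R := R) ℳ ρ).mkQ ((decompose ℳ x) j : M) = 0 :=
        (Submodule.Quotient.mk_eq_zero _).mpr (mem_lowSpan ℳ hj (SetLike.coe_mem _))
      rw [this]
      exact zero_mem _
    · have h1 := h j (not_le.mp hj) _ (SetLike.coe_mem ((decompose ℳ x) j))
      have h2 : (lowSpan (R := R) ℳ ρ).mkQ ((decompose ℳ x) j : M) ∈
          (a.toIdeal • (⊤ : Submodule R M)).map (lowSpan (R := R) ℳ ρ).mkQ :=
        Submodule.mem_map_of_mem h1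
      rw [Submodule.map_smul''] at h2
      exact Submodule.smul_mono le_rfl le_top h2
  have hfin : Module.Finite R (quotG (GrLC.GMod.of 𝒜 M ℳ) (lowSpan (R := R) ℳ ρ) hN).carrier :=
    inferInstanceAs (Module.Finite R (M ⧸ lowSpan (R := R) ℳ ρ))
  have htop' : a.toIdeal •
      (⊤ : Submodule R (quotG (GrLC.GMod.of 𝒜 M ℳ) (lowSpan (R := R) ℳ ρ) hN).carrier) = ⊤ := htop
  have hzero : ∀ y : (quotG (GrLC.GMod.of 𝒜 M ℳ) (lowSpan (R := R) ℳ ρ) hN).carrier, y = 0 :=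
    Groth.Agent.Lib.Helper29GrStd.eq_zero_of_smul_top_eq_top 𝒜
      (quotG (GrLC.GMod.of 𝒜 M ℳ) (lowSpan (R := R) ℳ ρ) hN).gr hpos a.toIdeal hhom htop'
  rw [eq_top_iff]
  intro x _
  exact (Submodule.Quotient.mk_eq_zero _).mp (hzero ((lowSpan (R := R) ℳ ρ).mkQ x))

/-- Vanishing of local cohomology above the diagonal `ρ` forces `M_j ⊆ a M` for `j > ρ`. -/
theorem piece_le_smul_top [IsNoetherianRing R]
    (hhom : a.toIdeal = Ideal.span ((𝒜 1 : AddSubgroup R) : Set R)) (E : GrLC.StarInjRes 𝒜 ℳ)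
    (ρ : ℤ) (hρ : ∀ i : ℕ, GrLC.endDeg (E.Hgr a i) +
      (((i : ℤ) : WithTop ℤ) : WithBot (WithTop ℤ)) ≤ ((ρ : WithTop ℤ) : WithBot (WithTop ℤ)))
    (j : ℤ) (hj : ρ < j) : ∀ z ∈ ℳ j, z ∈ a.toIdeal • (⊤ : Submodule R M) := by
  obtain ⟨xs, hxs, hspan⟩ := exists_gens a hhom
  have hyp : ∀ q : ℕ, VanX a (GrLC.GMod.of 𝒜 M ℳ) q (j - (q : ℤ)) := by
    intro q
    have h1 := (endDeg_add_le_iff (E.Hgr a q) q ρ).mp (hρ q) (j - (q : ℤ)) (by omega)
    exact (hgr_eq_bot_iff' a ℳ E q _).mp h1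
  exact gen_bound a xs hxs hspan (GrLC.GMod.of 𝒜 M ℳ) j hyp

/-- A finitely generated graded module is generated in degrees at most its regularity. -/
theorem span_le_reg_eq_top [IsNoetherianRing R] [Module.Finite R M] [Nontrivial M]
    (hpos : ∀ n : ℤ, n < 0 → 𝒜 n = ⊥)
    (hhom : a.toIdeal = Ideal.span ((𝒜 1 : AddSubgroup R) : Set R)) (E : GrLC.StarInjRes 𝒜 ℳ)
    (σ : WithBot (WithTop ℤ))
    (hσ : ∀ i : ℕ, GrLC.endDeg (E.Hgr a i) +
      (((i : ℤ) : WithTop ℤ) : WithBot (WithTop ℤ)) ≤ σ) :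
    Submodule.span R (⋃ (n : ℤ) (_ : ((n : WithTop ℤ) : WithBot (WithTop ℤ)) ≤ σ),
      (ℳ n : Set M)) = ⊤ := by
  induction σ using WithBot.recBotCoe with
  | bot =>
    exfalso
    have hall : ∀ (j : ℤ), ∀ z ∈ ℳ j, z ∈ a.toIdeal • (⊤ : Submodule R M) := by
      intro j
      exact piece_le_smul_top a ℳ hhom E (j - 1) (fun i => (hσ i).trans bot_le) j (by omega)
    have htop : a.toIdeal • (⊤ : Submodule R M) = ⊤ := by
      classical
      rw [eq_top_iff]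
      rintro x -
      rw [← DirectSum.sum_support_decompose ℳ x]
      exact Submodule.sum_mem _ (fun j _ => hall j _ (SetLike.coe_mem ((decompose ℳ x) j)))
    obtain ⟨x, y, hxy⟩ := exists_pair_ne M
    apply hxy
    rw [Groth.Agent.Lib.Helper29GrStd.eq_zero_of_smul_top_eq_top 𝒜 ℳ hpos a.toIdeal hhom htop x,
      Groth.Agent.Lib.Helper29GrStd.eq_zero_of_smul_top_eq_top 𝒜 ℳ hpos a.toIdeal hhom htop y]
  | coe c =>
    induction c using WithTop.recTopCoe with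
    | top =>
      classical
      rw [eq_top_iff]
      rintro x -
      rw [← DirectSum.sum_support_decompose ℳ x]
      refine Submodule.sum_mem _ (fun j _ => Submodule.subset_span ?_)
      simp only [Set.mem_iUnion]
      exact ⟨j, WithBot.coe_le_coe.mpr le_top, SetLike.coe_mem ((decompose ℳ x) j)⟩
    | coe ρ =>
      have h1 := lowSpan_eq_top a ℳ hpos hhom ρ
        (fun j hj => piece_le_smul_top a ℳ hhom E ρ hσ j hj)
      rw [eq_top_iff, ← h1]
      apply Submodule.span_mono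
      intro z hz
      simp only [Set.mem_iUnion] at hz ⊢
      obtain ⟨n, hn, hz⟩ := hz
      exact ⟨n, WithBot.coe_le_coe.mpr (WithTop.coe_le_coe.mpr hn), hz⟩

end gen

end Groth.Agent.Lib.R2H7.GrGen
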