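/-
Top graded local cohomology: Grothendieck vanishing above the Krull dimension (through the
comparison with ungraded local cohomology), right exactness of the top cohomology in elementwise
form, and `H^r(X)_{g+1} = R_1 H^r(X)_g` for `r ≥ 1` in the form "vanishing propagates upwards".
-/
import Mathlib
import Groth.Agent.Lib.R2H7GrGen
import Groth.Agent.S11625
import Groth.Agent.S0326

set_option autoImplicit false
open DirectSum

noncomputable section

namespace Groth.Agent.Lib.R2H7.GrTop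

open Groth.Agent.Lib.R2H7.GrDer Groth.Agent.Lib.R2H7.GrOps Groth.Agent.Lib.R2H7.GrLES
  Groth.Agent.Lib.R2H7.GrTors Groth.Agent.Lib.R2H7.GrGen Groth.Agent.Lib.Helper29GrEss

universe u

variable {R : Type u} [CommRing R] {𝒜 : ℤ → AddSubgroup R} [GradedRing 𝒜]
variable (a : HomogeneousIdeal 𝒜)

theorem vanX_of_subsingleton_H [IsNoetherianRing R] (Y : GrLC.GMod.{u} 𝒜) (i : ℕ)
    (h : Subsingleton (LocCoh.H a.toIdeal i Y.carrier)) (g : ℤ) : VanX a Y i g := by
  intro E z hz _
  obtain ⟨e⟩ := Groth.Agent.S13224.result R 𝒜 a Y.carrier Y.gr E i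
  have hs : Subsingleton (E.H a i) := e.toEquiv.subsingleton
  have h0 : E.toH a i ⟨z, hz⟩ = 0 := Subsingleton.elim _ _
  have := (Submodule.Quotient.mk_eq_zero _).mp h0
  exact this

/-- Grothendieck vanishing. -/
theorem vanX_of_dim_lt [IsNoetherianRing R] (Y : GrLC.GMod.{u} 𝒜) (i : ℕ)
    (hi : ringKrullDim R < (i : WithBot ℕ∞)) (g : ℤ) : VanX a Y i g := by
  apply vanX_of_subsingleton_H
  exact Groth.Agent.S11625.result R a.toIdeal Y.carrier i
    (lt_of_le_of_lt (Module.supportDim_le_ringKrullDim R Y.carrier) hi)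

/-- Vanishing above the number of generators. -/
theorem vanX_of_card_lt [IsNoetherianRing R] (s : Finset R)
    (hs : a.toIdeal = Ideal.span (s : Set R)) (Y : GrLC.GMod.{u} 𝒜) (i : ℕ)
    (hi : s.card < i) (g : ℤ) : VanX a Y i g := by
  apply vanX_of_subsingleton_H
  rw [hs]
  exact Groth.Agent.S0326.result R s Y.carrier i hi

section top

variable (r : ℕ) (hd : ∀ (Y : GrLC.GMod.{u} 𝒜) (g : ℤ), VanX a Y (r + 1) g)

include hd in
theorem vanX_top_quot {X N : GrLC.GMod.{u} 𝒜}
    (π : X.carrier →ₗ[R] N.carrier) (hπ : GrLC.IsGrHom X.gr N.gr π) (hs : Function.Surjective π)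
    {g : ℤ} (h : VanX a X r g) : VanX a N r g :=
  vanX_right (sesB π hπ hs) a h (hd _ g)

include hd in
theorem vanX_top_of_quot {X N : GrLC.GMod.{u} 𝒜} (e : ℤ) {x : R} (hx : x ∈ 𝒜 e)
    (π : X.carrier →ₗ[R] N.carrier) (hπ : GrLC.IsGrHom X.gr N.gr π) (hs : Function.Surjective π)
    (hker : LinearMap.ker π = LinearMap.range (x • (LinearMap.id : X.carrier →ₗ[R] X.carrier)))
    {g : ℤ} (h1 : VanX a X r (g + -e)) (h2 : VanX a N r g) :
    VanX a X r g := by
  have hA : VanX a (imG π hπ) r g :=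
    vanX_right (sesA e hx π hπ hker) a ((vanX_shift a (-e) r g).mpr h1) (hd _ g)
  exact vanX_mid (sesB π hπ hs) a hA h2

end top

/-- If `H^{r+1}` vanishes identically and `r ≥ 1`, vanishing of `H^r(X)_g` forces vanishing of
`H^r(X)_{g+1}` (that is `H^r(X)_{g+1} = R_1 H^r(X)_g`). -/
theorem vanX_top_succ_aux [IsNoetherianRing R] (r : ℕ) (hr : 1 ≤ r)
    (hd : ∀ (Y : GrLC.GMod.{u} 𝒜) (g : ℤ), VanX a Y (r + 1) g)
    (xs : List R) (hspan : a.toIdeal ≤ Ideal.span {y | y ∈ xs}) (g : ℤ) :
    ∀ (rest : List R), (∀ y ∈ rest, y ∈ 𝒜 1) → ∀ X : GrLC.GMod.{u} 𝒜,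
      (∀ y ∈ xs, y ∉ rest → ∀ m : X.carrier, y • m = 0) → VanX a X r g →
        VanX a X r (g + 1) := by
  intro rest
  induction rest with
  | nil =>
    intro _ X hkill _
    apply vanX_of_torsion a X _ r (by omega) (g + 1)
    intro m
    refine ⟨1, fun s hs => ?_⟩
    rw [pow_one] at hs
    have hs' := hspan hs
    refine Submodule.span_induction (p := fun s _ => s • m = 0) ?_ ?_ ?_ ?_ hs'
    · intro y hy
      exact hkill y hy (List.not_mem_nil) m
    · exact zero_smul R m
    · intro s t _ _ h1 h2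
      rw [add_smul, h1, h2, add_zero]
    · intro c s _ h1
      rw [smul_eq_mul, mul_smul, h1, smul_zero]
  | cons x rest' ih =>
    intro h1 X hkill hX
    have hx1 : x ∈ 𝒜 1 := h1 x List.mem_cons_self
    have hP : (LinearMap.range (x • (LinearMap.id : X.carrier →ₗ[R] X.carrier))).IsHomogeneous
        X.gr :=
      range_isHomogeneous X.gr (shiftG X (-1)).gr (mulG X 1 x) (mulG_grHom hx1)
    have hkillN : ∀ y ∈ xs, y ∉ rest' → ∀ n : (quotG X _ hP).carrier, y • n = 0 := by
      intro y hy hyr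
      have key : ∀ n : X.carrier ⧸
          (LinearMap.range (x • (LinearMap.id : X.carrier →ₗ[R] X.carrier))), y • n = 0 := by
        intro n
        obtain ⟨m, rfl⟩ := Submodule.mkQ_surjective _ n
        rw [← map_smul]
        by_cases hyx : y = x
        · rw [hyx]
          exact (Submodule.Quotient.mk_eq_zero _).mpr ⟨m, rfl⟩
        · have : y ∉ x :: rest' := by
            intro hmem
            rcases List.mem_cons.mp hmem with h | h
            · exact hyx h
            · exact hyr h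
          rw [hkill y hy this m, map_zero]
      exact key
    have hN : VanX a (quotG X _ hP) r g :=
      vanX_top_quot a r hd (Submodule.mkQ _) (mkQ_grHom X _ hP) (Submodule.mkQ_surjective _) hX
    have hN1 : VanX a (quotG X _ hP) r (g + 1) :=
      ih (fun y hy => h1 y (List.mem_cons_of_mem x hy)) (quotG X _ hP) hkillN hN
    refine vanX_top_of_quot a r hd 1 hx1 (Submodule.mkQ _) (mkQ_grHom X _ hP)
      (Submodule.mkQ_surjective _) (Submodule.ker_mkQ _) ?_ hN1
    have e : g + 1 + -1 = g := by ring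
    rw [e]
    exact hX

/-- Over a Noetherian homogeneous graded ring of dimension `r ≥ 1`: if `H^r_{R_+}(X)_g = 0` then
`H^r_{R_+}(X)_{g'} = 0` for all `g' ≥ g`. -/
theorem vanX_top_of_le [IsNoetherianRing R]
    (hhom : a.toIdeal = Ideal.span ((𝒜 1 : AddSubgroup R) : Set R)) (r : ℕ) (hr : 1 ≤ r)
    (hdim : ringKrullDim R = (r : WithBot ℕ∞)) (X : GrLC.GMod.{u} 𝒜) (g g' : ℤ) (hg : g ≤ g')
    (h : VanX a X r g) : VanX a X r g' := by
  obtain ⟨xs, hxs, hspan⟩ := exists_gens a hhom
  have hd : ∀ (Y : GrLC.GMod.{u} 𝒜) (g : ℤ), VanX a Y (r + 1) g := by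
    intro Y g
    apply vanX_of_dim_lt
    rw [hdim]
    exact_mod_cast Nat.lt_succ_self r
  have key : ∀ k : ℕ, VanX a X r (g + (k : ℤ)) := by
    intro k
    induction k with
    | zero =>
      rw [Nat.cast_zero, add_zero]
      exact h
    | succ k ih =>
      have := vanX_top_succ_aux a r hr hd xs hspan (g + (k : ℤ)) xs (fun y hy => (hxs y hy).1) X
        (fun y _ hy2 => absurd ‹y ∈ xs› hy2) ih
      have e : g + ((k + 1 : ℕ) : ℤ) = g + (k : ℤ) + 1 := by push_cast; ring
      rw [e]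
      exact this
  have e : g' = g + ((g' - g).toNat : ℤ) := by
    rw [Int.toNat_of_nonneg (by omega)]
    ring
  rw [e]
  exact key _

end Groth.Agent.Lib.R2H7.GrTop
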