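/-
Eventual vanishing of graded local cohomology `H^i_a(X)_n = 0` for `n ≫ 0`, for a finitely
generated graded module over a Noetherian non-negatively graded ring and a homogeneous ideal `a`
containing the irrelevant ideal.  Modules bounded above have bounded above local cohomology
(through *injective hulls, which are *essential extensions).
-/
import Mathlib
import Groth.Agent.Lib.R2H7GrTop
import Groth.Agent.Lib.R2H7GrKos
import Groth.Agent.Lib.Helper29GrHull
import Groth.Agent.Lib.Helper29GrRes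
import Groth.Agent.S13217

set_option autoImplicit false
open DirectSum

noncomputable section

namespace Groth.Agent.Lib.R2H7.GrEv

open Groth.Agent.Lib.R2H7.GrDer Groth.Agent.Lib.R2H7.GrOps Groth.Agent.Lib.R2H7.GrLES
  Groth.Agent.Lib.R2H7.GrTors Groth.Agent.Lib.R2H7.GrGen Groth.Agent.Lib.R2H7.GrTop
  Groth.Agent.Lib.R2H7.GrKos
  Groth.Agent.Lib.Helper29GrEss Groth.Agent.Lib.Helper29GrHom Groth.Agent.Lib.Helper29GrStd
  Groth.Agent.Lib.Helper29GrBaer Groth.Agent.Lib.Helper29GrHull Groth.Agent.Lib.Helper29GrRes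

universe u

variable {R : Type u} [CommRing R] {𝒜 : ℤ → AddSubgroup R} [GradedRing 𝒜]

/-- `X_n = 0` for `n > j`. -/
def BAb (X : GrLC.GMod.{u} 𝒜) (j : ℤ) : Prop := ∀ n : ℤ, j < n → ∀ m ∈ X.gr n, m = 0

/-- A finitely generated graded module killed by all elements of positive degree is bounded
above. -/
theorem bab_of_killed (X : GrLC.GMod.{u} 𝒜) [Module.Finite R X.carrier]
    (hkill : ∀ k : ℤ, 0 < k → ∀ r ∈ 𝒜 k, ∀ m : X.carrier, r • m = 0) : ∃ j, BAb X j := by
  classical
  obtain ⟨S, hS, hspan⟩ := exists_homogeneous_generators (R := R) X.gr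
  choose! deg hdeg using hS
  obtain ⟨j, hj⟩ := Finset.exists_le (S.image deg)
  refine ⟨j, fun n hn x hx => ?_⟩
  have hx' : x ∈ Submodule.span R (S : Set X.carrier) := hspan ▸ Submodule.mem_top
  obtain ⟨f, -, rfl⟩ := Submodule.mem_span_finset.mp hx'
  have h1 := decompose_sum_smul 𝒜 X.gr S deg hdeg f n
  rw [DirectSum.decompose_of_mem_same X.gr hx] at h1
  rw [h1]
  refine Finset.sum_eq_zero fun s hs => ?_
  have hpos : 0 < n - deg s := by
    have := hj _ (Finset.mem_image_of_mem deg hs)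
    omega
  exact hkill _ hpos _ (SetLike.coe_mem _) s

/-- A *essential extension of a module bounded above by `j` is bounded above by `j`. -/
theorem bab_of_isStarEss (hpos : ∀ n : ℤ, n < 0 → 𝒜 n = ⊥) {Y E : GrLC.GMod.{u} 𝒜}
    (f : Y.carrier →ₗ[R] E.carrier) (hf : GrLC.IsStarEss Y.gr E.gr f) {j : ℤ} (hY : BAb Y j) :
    BAb E j := by
  intro n hn e he
  by_contra hne
  have hP : (Submodule.span R {e}).IsHomogeneous E.gr :=
    span_isHomogeneous (𝒜 := 𝒜) E.gr {e} (fun t ht => ⟨n, by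
      rw [Set.mem_singleton_iff.mp ht]
      exact he⟩)
  have hP0 : Submodule.span R {e} ≠ ⊥ := fun h => hne (Submodule.span_singleton_eq_bot.mp h)
  apply hf.essential _ hP hP0
  rw [eq_bot_iff]
  rintro y ⟨hy1, ⟨m, rfl⟩⟩
  obtain ⟨r, hr⟩ := Submodule.mem_span_singleton.mp hy1
  rw [Submodule.mem_bot]
  classical
  rw [← DirectSum.sum_support_decompose E.gr (f m)]
  refine Finset.sum_eq_zero fun d _ => ?_
  by_cases hd : j < d
  · rw [decompose_map E.gr Y.gr f hf.grHom m d, hY d hd _ (SetLike.coe_mem _), map_zero]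
  · rw [← hr, decompose_smul_of_mem_right 𝒜 E.gr he r d]
    have hneg : d - n < 0 := by omega
    have h2 : ((decompose 𝒜 r) (d - n) : R) ∈ 𝒜 (d - n) := SetLike.coe_mem _
    rw [eq_zero_of_mem_of_eq_bot (hpos _ hneg) h2, zero_smul]

variable (a : HomogeneousIdeal 𝒜)

/-- The local cohomology of a module bounded above by `j` is bounded above by `j`. -/
theorem vanX_of_bab [IsNoetherianRing R] (hpos : ∀ n : ℤ, n < 0 → 𝒜 n = ⊥) :
    ∀ (i : ℕ) (Y : GrLC.GMod.{u} 𝒜) (j : ℤ), BAb Y j → ∀ n : ℤ, j < n → VanX a Y i n := by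
  intro i
  induction i with
  | zero =>
    intro Y j hY n hn
    rw [vanX_zero_iff]
    intro m _ hm
    exact hY n hn m hm
  | succ i ih =>
    intro Y j hY n hn
    obtain ⟨E, f, ψ, hE, -, -, -⟩ := exists_hull_of_embedding 𝒜 (XY 𝒜 Y).gr Y.gr
      (XY_starInj 𝒜 Y) (jY 𝒜 Y) (jY_grHom 𝒜 Y) (jY_injective 𝒜 Y)
    have hEb : BAb E j := bab_of_isStarEss hpos f hE.toIsStarEss hY
    have hQ : BAb (quotG E (LinearMap.range f)
        (range_isHomogeneous E.gr Y.gr f hE.grHom)) j := by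
      intro n' hn' q hq
      obtain ⟨e, he, rfl⟩ := hq
      rw [hEb n' hn' e he]
      exact map_zero _
    have hEv : VanX a E (i + 1) n :=
      vanX_of_subsingleton_H a E (i + 1)
        (Groth.Agent.S13217.result R 𝒜 a E.carrier E.gr hE.starInj (i + 1) (by omega)) n
    exact vanX_left (GSES.ofInj f hE.grHom hE.injective) a hEv (ih _ j hQ n hn)

/-! ### Multiplication by a homogeneous element, general form -/

section mul

variable {X N : GrLC.GMod.{u} 𝒜} (e : ℤ) {x : R} (hx : x ∈ 𝒜 e)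
  (π : X.carrier →ₗ[R] N.carrier) (hπ : GrLC.IsGrHom X.gr N.gr π) (hs : Function.Surjective π)
  (hker : LinearMap.ker π = LinearMap.range (x • (LinearMap.id : X.carrier →ₗ[R] X.carrier)))

/-- The kernel of multiplication by `x`, as a graded submodule of `X(-e)`. -/
def kerG : GrLC.GMod.{u} 𝒜 :=
  subG (shiftG X (-e)) (LinearMap.ker (mulCo e π hπ hker))
    (ker_isHomogeneous (imG π hπ).gr (shiftG X (-e)).gr (mulCo e π hπ hker)
      (mulCo_grHom e hx π hπ hker))

include hs in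
theorem hinjX_mul_gen {i : ℕ} {g : ℤ} (hK : VanX a (kerG e hx π hπ hker) i g)
    (hN : ∀ i', i = i' + 1 → VanX a N i' g) : HInjX a (mulG X e x) i g := by
  rw [← comp_eq e hx π hπ hs hker]
  refine hinjX_comp a (sesA e hx π hπ hker).g_gr (sesB π hπ hs).f_gr
    (hinjX_right (sesA e hx π hπ hker) a hK) ?_
  cases i with
  | zero => exact hinjX_left_zero (sesB π hπ hs) a
  | succ i' => exact hinjX_left (sesB π hπ hs) a (hN i' rfl)

end mul

theorem vanX_ge_of_hinjX {X : GrLC.GMod.{u} 𝒜} (e : ℤ) (he : 0 ≤ e) {x : R} (hx : x ∈ 𝒜 e)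
    (hxa : x ∈ a.toIdeal) (i : ℕ) (r : ℤ)
    (h : ∀ g, r ≤ g → HInjX a (mulG X e x) i g) : ∀ n, r ≤ n → VanX a X i n := by
  obtain ⟨E⟩ := exists_res X
  intro n hn
  rw [vanX_iff a E]
  refine van_of_forall_inj a hx E hxa i {j | r ≤ j} ?_ ?_ n hn
  · intro j hj
    have : r ≤ j := hj
    show r ≤ e + j
    omega
  · intro j hj z hz hzg hc
    have hj' : r ≤ j := hj
    refine inj_of_hinjX a hx (h (j + e) (by omega)) E z hz ?_ hc
    have e' : j + e + -e = j := by ring
    rw [e']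
    exact hzg

/-- Induction over the generators of the irrelevant ideal. -/
theorem eventually_vanX_aux [IsNoetherianRing R] (hpos : ∀ n : ℤ, n < 0 → 𝒜 n = ⊥)
    (xs : List R) (hgen : ∀ k : ℤ, 0 < k → ∀ r ∈ 𝒜 k, r ∈ Ideal.span {y | y ∈ xs}) :
    ∀ rest : List R, (∀ y ∈ rest, ∃ d : ℤ, 0 < d ∧ y ∈ 𝒜 d ∧ y ∈ a.toIdeal) →
      ∀ X : GrLC.GMod.{u} 𝒜, Module.Finite R X.carrier →
        (∀ y ∈ xs, y ∉ rest → ∀ m : X.carrier, y • m = 0) →
          ∀ i : ℕ, ∃ r : ℤ, ∀ n, r ≤ n → VanX a X i n := by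
  intro rest
  induction rest with
  | nil =>
    intro _ X hfin hkill i
    haveI := hfin
    have hk : ∀ k : ℤ, 0 < k → ∀ r ∈ 𝒜 k, ∀ m : X.carrier, r • m = 0 := by
      intro k hk r hr m
      refine Submodule.span_induction (p := fun s _ => s • m = 0) ?_ ?_ ?_ ?_ (hgen k hk r hr)
      · intro y hy
        exact hkill y hy (List.not_mem_nil) m
      · exact zero_smul R m
      · intro s t _ _ h1 h2
        rw [add_smul, h1, h2, add_zero]
      · intro c s _ h1
        rw [smul_eq_mul, mul_smul, h1, smul_zero]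
    obtain ⟨j, hj⟩ := bab_of_killed X hk
    exact ⟨j + 1, fun n hn => vanX_of_bab a hpos i X j hj n (by omega)⟩
  | cons x rest' ih =>
    intro h1 X hfin hkill i
    haveI := hfin
    obtain ⟨d, hd, hxd, hxa⟩ := h1 x List.mem_cons_self
    have h1' : ∀ y ∈ rest', ∃ d : ℤ, 0 < d ∧ y ∈ 𝒜 d ∧ y ∈ a.toIdeal :=
      fun y hy => h1 y (List.mem_cons_of_mem x hy)
    have hP : (LinearMap.range (x • (LinearMap.id : X.carrier →ₗ[R] X.carrier))).IsHomogeneous
        X.gr :=
      range_isHomogeneous X.gr (shiftG X (-d)).gr (mulG X d x) (mulG_grHom hxd)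
    have hnotin : ∀ y, y ≠ x → y ∉ rest' → y ∉ x :: rest' := by
      intro y hyx hyr hmem
      rcases List.mem_cons.mp hmem with h | h
      · exact hyx h
      · exact hyr h
    -- the quotient
    have hfinN : Module.Finite R (quotG X _ hP).carrier :=
      inferInstanceAs (Module.Finite R (X.carrier ⧸
        (LinearMap.range (x • (LinearMap.id : X.carrier →ₗ[R] X.carrier)))))
    have hkillN : ∀ y ∈ xs, y ∉ rest' → ∀ n : (quotG X _ hP).carrier, y • n = 0 := by
      intro y hy hyr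
      have key : ∀ n : X.carrier ⧸
          (LinearMap.range (x • (LinearMap.id : X.carrier →ₗ[R] X.carrier))), y • n = 0 := by
        intro n
        obtain ⟨m, rfl⟩ := Submodule.mkQ_surjective _ n
        rw [← map_smul]
        by_cases hyx : y = x
        · rw [hyx]
          exact (Submodule.Quotient.mk_eq_zero _).mpr ⟨m, rfl⟩
        · rw [hkill y hy (hnotin y hyx hyr) m, map_zero]
      exact key
    -- the kernel
    have hker : LinearMap.ker (LinearMap.range
        (x • (LinearMap.id : X.carrier →ₗ[R] X.carrier))).mkQ =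
        LinearMap.range (x • (LinearMap.id : X.carrier →ₗ[R] X.carrier)) := Submodule.ker_mkQ _
    haveI hfinS : Module.Finite R (shiftG X (-d)).carrier := hfin
    haveI hnoeS : IsNoetherian R (shiftG X (-d)).carrier :=
      isNoetherian_of_isNoetherianRing_of_finite R _
    have hfinK : Module.Finite R
        (kerG (N := quotG X _ hP) d hxd (Submodule.mkQ _) (mkQ_grHom X _ hP) hker).carrier :=
      inferInstanceAs (Module.Finite R
        ↥(LinearMap.ker (mulCo (N := quotG X _ hP) d (Submodule.mkQ _) (mkQ_grHom X _ hP) hker)))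
    have hkillK : ∀ y ∈ xs, y ∉ rest' → ∀ m :
        (kerG (N := quotG X _ hP) d hxd (Submodule.mkQ _) (mkQ_grHom X _ hP) hker).carrier,
        y • m = 0 := by
      intro y hy hyr
      have key : ∀ m : ↥(LinearMap.ker
          (mulCo (N := quotG X _ hP) d (Submodule.mkQ _) (mkQ_grHom X _ hP) hker)),
          y • m = 0 := by
        intro m
        apply Subtype.ext
        show y • (m.1 : X.carrier) = 0
        by_cases hyx : y = x
        · rw [hyx]
          have h0 : mulCo (N := quotG X _ hP) d (Submodule.mkQ _) (mkQ_grHom X _ hP) hker m.1 = 0 :=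
            m.2
          exact congrArg Subtype.val h0
        · exact hkill y hy (hnotin y hyx hyr) m.1
      exact key
    obtain ⟨rK, hrK⟩ := ih h1' _ hfinK hkillK i
    have hNr : ∃ rN : ℤ, ∀ i', i = i' + 1 → ∀ n, rN ≤ n → VanX a (quotG X _ hP) i' n := by
      cases i with
      | zero => exact ⟨0, fun i' h => absurd h.symm (Nat.succ_ne_zero i')⟩
      | succ i0 =>
        obtain ⟨rN, hrN⟩ := ih h1' _ hfinN hkillN i0
        refine ⟨rN, fun i' h n hn => ?_⟩
        have : i' = i0 := by omega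
        rw [this]
        exact hrN n hn
    obtain ⟨rN, hrN⟩ := hNr
    refine ⟨max rK rN, vanX_ge_of_hinjX a d hd.le hxd hxa i (max rK rN) (fun g hg => ?_)⟩
    exact hinjX_mul_gen a d hxd _ (mkQ_grHom X _ hP) (Submodule.mkQ_surjective _) hker
      (hrK g (le_trans (le_max_left _ _) hg))
      (fun i' h => hrN i' h g (le_trans (le_max_right _ _) hg))

/-- Eventual vanishing: for a finitely generated graded module `X` and a homogeneous ideal `a`
containing all elements of positive degree, `H^i_a(X)_n = 0` for `n ≫ 0`. -/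
theorem eventually_vanX [IsNoetherianRing R] (hpos : ∀ n : ℤ, n < 0 → 𝒜 n = ⊥)
    (hle : ∀ k : ℤ, 0 < k → ∀ r ∈ 𝒜 k, r ∈ a.toIdeal)
    (X : GrLC.GMod.{u} 𝒜) [Module.Finite R X.carrier] (i : ℕ) :
    ∃ r : ℤ, ∀ n, r ≤ n → VanX a X i n := by
  have hfg : (Submodule.span R (⋃ k ∈ Set.Ioi (0 : ℤ), (𝒜 k : Set R))).FG :=
    (isNoetherianRing_iff_ideal_fg R).mp inferInstance
      (Ideal.span (⋃ k ∈ Set.Ioi (0 : ℤ), (𝒜 k : Set R)))
  obtain ⟨s, hs1, hs2⟩ := (Submodule.fg_span_iff_fg_span_finset_subset _).mp hfg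
  have hxs : ∀ y ∈ s.toList, ∃ d : ℤ, 0 < d ∧ y ∈ 𝒜 d ∧ y ∈ a.toIdeal := by
    intro y hy
    have hy' := hs1 (Finset.mem_toList.mp hy)
    simp only [Set.mem_iUnion, Set.mem_Ioi] at hy'
    obtain ⟨k, hk, hyk⟩ := hy'
    exact ⟨k, hk, hyk, hle k hk y hyk⟩
  have hgen : ∀ k : ℤ, 0 < k → ∀ r ∈ 𝒜 k, r ∈ Ideal.span {y | y ∈ s.toList} := by
    intro k hk r hr
    have h1 : r ∈ Submodule.span R (⋃ k ∈ Set.Ioi (0 : ℤ), (𝒜 k : Set R)) :=
      Submodule.subset_span (by
        simp only [Set.mem_iUnion, Set.mem_Ioi]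
        exact ⟨k, hk, hr⟩)
    rw [hs2] at h1
    refine Submodule.span_mono ?_ h1
    intro y hy
    exact Finset.mem_toList.mpr hy
  exact eventually_vanX_aux a hpos s.toList hgen s.toList hxs X inferInstance
    (fun y hy hy2 => absurd hy hy2) i

/-- A *maximal homogeneous ideal of a non-negatively graded ring contains all elements of positive
degree. -/
theorem mem_of_isCoatom (hpos : ∀ n : ℤ, n < 0 → 𝒜 n = ⊥) (m : HomogeneousIdeal 𝒜)
    (hm : IsCoatom m) (k : ℤ) (hk : 0 < k) (r : R) (hr : r ∈ 𝒜 k) : r ∈ m.toIdeal := by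
  by_contra hrm
  have hh : (Ideal.span {r}).IsHomogeneous 𝒜 :=
    Ideal.homogeneous_span 𝒜 {r} (by
      rintro x (rfl : x = r)
      exact ⟨k, hr⟩)
  have hlt : m < m ⊔ ⟨Ideal.span {r}, hh⟩ := by
    refine lt_of_le_of_ne le_sup_left ?_
    intro heq
    apply hrm
    have h1 : r ∈ (m ⊔ ⟨Ideal.span {r}, hh⟩ : HomogeneousIdeal 𝒜).toIdeal := by
      rw [HomogeneousIdeal.toIdeal_sup]
      exact Ideal.mem_sup_right (Ideal.subset_span rfl)
    rw [← heq] at h1
    exact h1
  have htop := hm.2 _ hlt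
  have h1 : (1 : R) ∈ (m ⊔ ⟨Ideal.span {r}, hh⟩ : HomogeneousIdeal 𝒜).toIdeal := by
    rw [htop, HomogeneousIdeal.toIdeal_top]
    exact Submodule.mem_top
  rw [HomogeneousIdeal.toIdeal_sup] at h1
  obtain ⟨u, hu, v, hv, huv⟩ := Submodule.mem_sup.mp h1
  obtain ⟨c, rfl⟩ := Ideal.mem_span_singleton'.mp hv
  have h0 : ((decompose 𝒜 (1 : R)) 0 : R) = 1 :=
    DirectSum.decompose_of_mem_same 𝒜 (SetLike.one_mem_graded 𝒜)
  have hu0 : ((decompose 𝒜 u) 0 : R) ∈ m.toIdeal := m.isHomogeneous 0 hu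
  have hv0 : ((decompose 𝒜 (c * r)) 0 : R) = 0 := by
    have h2 := decompose_smul_of_mem_right 𝒜 𝒜 hr c 0
    rw [smul_eq_mul] at h2
    rw [h2]
    have hneg : (0 : ℤ) - k < 0 := by omega
    have h3 : ((decompose 𝒜 c) (0 - k) : R) ∈ 𝒜 (0 - k) := SetLike.coe_mem _
    rw [eq_zero_of_mem_of_eq_bot (hpos _ hneg) h3, smul_eq_mul, zero_mul]
  have h1m : (1 : R) ∈ m.toIdeal := by
    rw [← h0, ← huv, DirectSum.decompose_add, DirectSum.add_apply, AddSubgroup.coe_add, hv0,
      add_zero]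
    exact hu0
  apply hm.1
  apply HomogeneousIdeal.toIdeal_injective
  rw [HomogeneousIdeal.toIdeal_top]
  exact (Ideal.eq_top_iff_one _).mpr h1m

end Groth.Agent.Lib.R2H7.GrEv
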