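/-
Heights of primes in a Noetherian `ℤ`-graded ring: `ht p ≤ ht p* + 1` (Euclidean division modulo
the homogeneous core and Krull's principal ideal theorem), and `dim R = ht m` for a *local
non-negatively graded ring `(R, m)`.
-/
import Mathlib
import Groth.Agent.Lib.Helper29GrEss
import Groth.Agent.Lib.R2H7GrEv

set_option autoImplicit false
open DirectSum

noncomputable section

namespace Groth.Agent.Lib.R2H7.GrHt

open Groth.Agent.Lib.Helper29GrEss

universe u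

variable {R : Type u} [CommRing R] (𝒜 : ℤ → AddSubgroup R) [GradedRing 𝒜] (c : Ideal R)

/-- All homogeneous components of `y` outside the degrees `[L, L + w)` lie in `c`. -/
def Band (y : R) (L : ℤ) (w : ℕ) : Prop :=
  ∀ n : ℤ, (n < L ∨ L + (w : ℤ) ≤ n) → ((decompose 𝒜 y) n : R) ∈ c

variable {𝒜 c}

theorem band_mono {y : R} {L : ℤ} {w w' : ℕ} (h : Band 𝒜 c y L w) (hw : w ≤ w') :
    Band 𝒜 c y L w' :=
  fun n hn => h n (by omega)

theorem mem_of_forall_comp_mem {y : R} (h : ∀ n : ℤ, ((decompose 𝒜 y) n : R) ∈ c) : y ∈ c := by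
  classical
  rw [← DirectSum.sum_support_decompose 𝒜 y]
  exact Ideal.sum_mem _ (fun n _ => h n)

theorem mem_of_band_zero {y : R} {L : ℤ} (h : Band 𝒜 c y L 0) : y ∈ c :=
  mem_of_forall_comp_mem (fun n => h n (by
    rw [Nat.cast_zero, add_zero]
    exact lt_or_ge n L))

variable (𝒜 c)

theorem exists_band (y : R) : ∃ (L : ℤ) (w : ℕ), Band 𝒜 c y L w := by
  classical
  obtain ⟨H, hH⟩ := Finset.exists_le ((decompose 𝒜 y).support)
  obtain ⟨L', hL'⟩ := Finset.exists_le (((decompose 𝒜 y).support).image (fun n => -n))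
  refine ⟨-L', (H + 1 + L').toNat, fun n hn => ?_⟩
  by_cases hmem : n ∈ (decompose 𝒜 y).support
  · exfalso
    have h1 := hH n hmem
    have h2 := hL' (-n) (Finset.mem_image_of_mem _ hmem)
    omega
  · have h0 : ((decompose 𝒜 y) n : R) = 0 := by
      rw [DFinsupp.notMem_support_iff.mp hmem]
      rfl
    rw [h0]
    exact c.zero_mem

variable {𝒜 c}

theorem comp_mul {a : R} {h : ℤ} (ha : a ∈ 𝒜 h) (y : R) (n : ℤ) :
    ((decompose 𝒜 (a * y)) n : R) = a * ((decompose 𝒜 y) (n - h) : R) := by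
  have := decompose_smul_of_mem 𝒜 𝒜 ha y n
  rwa [smul_eq_mul, smul_eq_mul] at this

/-- Division by `f` after multiplying with a power of its top coefficient, modulo `c`. -/
theorem division (f : R) (L : ℤ) (ℓ : ℕ) (hf : Band 𝒜 c f L (ℓ + 1)) (a : R)
    (hfa : ((decompose 𝒜 f) (L + (ℓ : ℤ)) : R) = a) :
    ∀ (w : ℕ) (g : R) (M : ℤ), Band 𝒜 c g M w →
      ∃ (N : ℕ) (q r : R), a ^ N * g = q * f + r ∧ ∃ M' : ℤ, Band 𝒜 c r M' ℓ := by
  have ha : a ∈ 𝒜 (L + (ℓ : ℤ)) := hfa ▸ SetLike.coe_mem _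
  intro w
  induction w with
  | zero =>
    intro g M hg
    exact ⟨0, 0, g, by ring, M, band_mono hg (Nat.zero_le _)⟩
  | succ w ih =>
    intro g M hg
    by_cases hw : w + 1 ≤ ℓ
    · exact ⟨0, 0, g, by ring, M, band_mono hg hw⟩
    · have hwl : ℓ ≤ w := by omega
      obtain ⟨gH, hgH_def⟩ : ∃ gH, ((decompose 𝒜 g) (M + (w : ℤ)) : R) = gH := ⟨_, rfl⟩
      have hgH : gH ∈ 𝒜 (M + (w : ℤ)) := hgH_def ▸ SetLike.coe_mem _
      have hband : Band 𝒜 c (a * g - gH * f) (M + (L + (ℓ : ℤ))) w := by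
        intro n hn
        rw [DirectSum.decompose_sub, DirectSum.sub_apply, AddSubgroup.coe_sub, comp_mul ha,
          comp_mul hgH]
        by_cases hlow : n < M + (L + (ℓ : ℤ))
        · have h1 := hg (n - (L + (ℓ : ℤ))) (Or.inl (by omega))
          have h2 := hf (n - (M + (w : ℤ))) (Or.inl (by omega))
          exact c.sub_mem (c.mul_mem_left _ h1) (c.mul_mem_left _ h2)
        · by_cases htop : n = M + (L + (ℓ : ℤ)) + (w : ℤ)
          · have e1 : n - (L + (ℓ : ℤ)) = M + (w : ℤ) := by omega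
            have e2 : n - (M + (w : ℤ)) = L + (ℓ : ℤ) := by omega
            rw [e1, e2, hgH_def, hfa]
            have : a * gH - gH * a = 0 := by ring
            rw [this]
            exact c.zero_mem
          · have h1 := hg (n - (L + (ℓ : ℤ))) (Or.inr (by push_cast; omega))
            have h2 := hf (n - (M + (w : ℤ))) (Or.inr (by push_cast; omega))
            exact c.sub_mem (c.mul_mem_left _ h1) (c.mul_mem_left _ h2)
      obtain ⟨N', q', r', heq, M', hr'⟩ := ih (a * g - gH * f) (M + (L + (ℓ : ℤ))) hband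
      exact ⟨N' + 1, q' + a ^ N' * gH, r', by linear_combination heq, M', hr'⟩

variable (𝒜 c)

/-- A prime `P ⊋ c` all of whose homogeneous elements lie in `c` is minimal over `c + (f)` for a
suitable `f`. -/
theorem exists_mem_minimalPrimes (P : Ideal R) [hPp : P.IsPrime] (hcP : c ≤ P)
    (hP : ∀ n : ℤ, ∀ y ∈ 𝒜 n, y ∈ P → y ∈ c) (hne : ¬ P ≤ c) :
    ∃ f ∈ P, P ∈ (c ⊔ Ideal.span {f}).minimalPrimes := by
  classical
  have hex : ∃ w : ℕ, ∃ f ∈ P, f ∉ c ∧ ∃ L, Band 𝒜 c f L w := by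
    obtain ⟨f, hfP, hfc⟩ := Set.not_subset.mp hne
    obtain ⟨L, w, hb⟩ := exists_band 𝒜 c f
    exact ⟨w, f, hfP, hfc, L, hb⟩
  obtain ⟨f, hfP, hfc, L, hb⟩ := Nat.find_spec hex
  have hmin : ∀ w' < Nat.find hex, ¬ ∃ f ∈ P, f ∉ c ∧ ∃ L, Band 𝒜 c f L w' :=
    fun w' hw' => Nat.find_min hex hw'
  obtain ⟨ℓ, hℓ⟩ : ∃ ℓ, Nat.find hex = ℓ + 1 := by
    cases hw : Nat.find hex with
    | zero =>
      exfalso
      rw [hw] at hb
      exact hfc (mem_of_band_zero hb)
    | succ k => exact ⟨k, rfl⟩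
  rw [hℓ] at hb hmin
  have ha : ((decompose 𝒜 f) (L + (ℓ : ℤ)) : R) ∉ c := by
    intro hac
    apply hmin ℓ (Nat.lt_succ_self ℓ)
    refine ⟨f, hfP, hfc, L, fun n hn => ?_⟩
    by_cases hn' : n = L + (ℓ : ℤ)
    · rw [hn']
      exact hac
    · exact hb n (by push_cast; omega)
  have haP : ((decompose 𝒜 f) (L + (ℓ : ℤ)) : R) ∉ P :=
    fun h => ha (hP _ _ (SetLike.coe_mem _) h)
  refine ⟨f, hfP, ⟨⟨hPp, sup_le hcP ((Ideal.span_singleton_le_iff_mem _).mpr hfP)⟩, ?_⟩⟩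
  rintro Q ⟨hQp, hQ⟩ hQP g hg
  obtain ⟨M, w, hgb⟩ := exists_band 𝒜 c g
  obtain ⟨N, q, r, heq, M', hrb⟩ := division f L ℓ hb _ rfl w g M hgb
  have hrP : r ∈ P := by
    have : r = ((decompose 𝒜 f) (L + (ℓ : ℤ)) : R) ^ N * g - q * f := by
      rw [heq]
      ring
    rw [this]
    exact P.sub_mem (P.mul_mem_left _ hg) (P.mul_mem_left _ hfP)
  have hrc : r ∈ c := by
    by_contra hrc
    exact hmin ℓ (Nat.lt_succ_self ℓ) ⟨r, hrP, hrc, M', hrb⟩
  have hQmem : ((decompose 𝒜 f) (L + (ℓ : ℤ)) : R) ^ N * g ∈ Q := by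
    rw [heq]
    exact Q.add_mem (Q.mul_mem_left _ (hQ (Ideal.mem_sup_right (Ideal.subset_span rfl))))
      (hQ (Ideal.mem_sup_left hrc))
  rcases hQp.mem_or_mem hQmem with h | h
  · exact absurd (hQP (hQp.mem_of_pow_mem N h)) haP
  · exact h

variable [IsNoetherianRing R]

/-- There is no prime strictly between the homogeneous core of a prime and the prime. -/
theorem no_between (p : Ideal R) [hp : p.IsPrime] (q : Ideal R) [hq : q.IsPrime]
    (h1 : (p.homogeneousCore 𝒜).toIdeal < q) (h2 : q < p) : False := by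
  haveI hcp : (p.homogeneousCore 𝒜).toIdeal.IsPrime := Ideal.IsPrime.homogeneousCore hp
  have hcP : (p.homogeneousCore 𝒜).toIdeal ≤ p := Ideal.toIdeal_homogeneousCore_le 𝒜 p
  have hP : ∀ n : ℤ, ∀ y ∈ 𝒜 n, y ∈ p → y ∈ (p.homogeneousCore 𝒜).toIdeal :=
    fun n y hy hyp => Ideal.mem_homogeneousCore_of_homogeneous_of_mem ⟨n, hy⟩ hyp
  have hne : ¬ p ≤ (p.homogeneousCore 𝒜).toIdeal :=
    fun h => absurd (lt_of_lt_of_le h2 h) (not_lt_of_gt h1)
  obtain ⟨f, -, hmin⟩ := exists_mem_minimalPrimes 𝒜 _ p hcP hP hne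
  have hht := Ideal.map_height_le_one_of_mem_minimalPrimes hmin
  have hsurj : Function.Surjective (Ideal.Quotient.mk (p.homogeneousCore 𝒜).toIdeal) :=
    Ideal.Quotient.mk_surjective
  have hkerq : RingHom.ker (Ideal.Quotient.mk (p.homogeneousCore 𝒜).toIdeal) ≤ q := by
    rw [Ideal.mk_ker]
    exact h1.le
  have hkerp : RingHom.ker (Ideal.Quotient.mk (p.homogeneousCore 𝒜).toIdeal) ≤ p := by
    rw [Ideal.mk_ker]
    exact hcP
  haveI hq' : (q.map (Ideal.Quotient.mk (p.homogeneousCore 𝒜).toIdeal)).IsPrime :=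
    Ideal.map_isPrime_of_surjective hsurj hkerq
  haveI hp' : (p.map (Ideal.Quotient.mk (p.homogeneousCore 𝒜).toIdeal)).IsPrime :=
    Ideal.map_isPrime_of_surjective hsurj hkerp
  haveI hbot : (⊥ : Ideal (R ⧸ (p.homogeneousCore 𝒜).toIdeal)).IsPrime := Ideal.isPrime_bot
  have hcomap : ∀ I : Ideal R, (p.homogeneousCore 𝒜).toIdeal ≤ I →
      (I.map (Ideal.Quotient.mk (p.homogeneousCore 𝒜).toIdeal)).comap
        (Ideal.Quotient.mk (p.homogeneousCore 𝒜).toIdeal) = I := by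
    intro I hI
    rw [Ideal.comap_map_of_surjective _ hsurj, ← RingHom.ker_eq_comap_bot, Ideal.mk_ker]
    exact sup_eq_left.mpr hI
  have hlt1 : (⊥ : Ideal (R ⧸ (p.homogeneousCore 𝒜).toIdeal)) <
      q.map (Ideal.Quotient.mk (p.homogeneousCore 𝒜).toIdeal) := by
    refine lt_of_le_of_ne bot_le (fun h => ?_)
    have := (Ideal.map_eq_bot_iff_le_ker _).mp h.symm
    rw [Ideal.mk_ker] at this
    exact absurd (lt_of_lt_of_le h1 this) (lt_irrefl _)
  have hlt2 : q.map (Ideal.Quotient.mk (p.homogeneousCore 𝒜).toIdeal) <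
      p.map (Ideal.Quotient.mk (p.homogeneousCore 𝒜).toIdeal) := by
    refine lt_of_le_of_ne (Ideal.map_mono h2.le) (fun h => ?_)
    have := congrArg (Ideal.comap (Ideal.Quotient.mk (p.homogeneousCore 𝒜).toIdeal)) h
    rw [hcomap q h1.le, hcomap p hcP] at this
    exact h2.ne this
  have e1 := Ideal.height_add_one_le_of_lt_of_isPrime hlt1
  have e2 := Ideal.height_add_one_le_of_lt_of_isPrime hlt2
  have e3 : (1 : ℕ∞) + 1 ≤ 1 :=
    calc (1 : ℕ∞) + 1 ≤ (⊥ : Ideal (R ⧸ (p.homogeneousCore 𝒜).toIdeal)).height + 1 + 1 := by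
          gcongr
          exact le_add_self
      _ ≤ (q.map (Ideal.Quotient.mk (p.homogeneousCore 𝒜).toIdeal)).height + 1 := by gcongr
      _ ≤ (p.map (Ideal.Quotient.mk (p.homogeneousCore 𝒜).toIdeal)).height := e2
      _ ≤ 1 := hht
  exact absurd e3 (by decide)

/-- `ht p ≤ ht p* + 1`. -/
theorem height_le_core_add_one_aux : ∀ (k : ℕ) (p : Ideal R) [p.IsPrime], p.height = k →
    p.height ≤ (p.homogeneousCore 𝒜).toIdeal.height + 1 := by
  intro k
  induction k using Nat.strong_induction_on with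
  | _ k ih =>
    intro p hp hk
    haveI hcp : (p.homogeneousCore 𝒜).toIdeal.IsPrime := Ideal.IsPrime.homogeneousCore hp
    have hcP : (p.homogeneousCore 𝒜).toIdeal ≤ p := Ideal.toIdeal_homogeneousCore_le 𝒜 p
    obtain ⟨n₀, hn₀⟩ : ∃ n₀ : ℕ, (p.homogeneousCore 𝒜).toIdeal.height = n₀ :=
      ⟨_, (ENat.coe_toNat (Ideal.height_ne_top_of_isPrime)).symm⟩
    rw [hn₀]
    have hcast : ((n₀ : ℕ∞) + 1) = ((n₀ + 1 : ℕ) : ℕ∞) := by push_cast; rfl
    rw [hcast, Ideal.height_le_iff]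
    intro q hq hqp
    haveI := hq
    haveI hcq : (q.homogeneousCore 𝒜).toIdeal.IsPrime := Ideal.IsPrime.homogeneousCore hq
    have hcqq : (q.homogeneousCore 𝒜).toIdeal ≤ q := Ideal.toIdeal_homogeneousCore_le 𝒜 q
    have hcc : (q.homogeneousCore 𝒜).toIdeal ≤ (p.homogeneousCore 𝒜).toIdeal :=
      Ideal.homogeneousCore_mono 𝒜 hqp.le
    have hgoal : q.height ≤ (n₀ : ℕ∞) := by
      rw [← hn₀]
      by_cases hqh : q ≤ (q.homogeneousCore 𝒜).toIdeal
      · exact Ideal.height_mono (hqh.trans hcc)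
      · obtain ⟨k', hk'⟩ : ∃ k' : ℕ, q.height = k' :=
          ⟨_, (ENat.coe_toNat (Ideal.height_ne_top_of_isPrime)).symm⟩
        have hlt : k' < k := by
          have := Ideal.height_add_one_le_of_lt_of_isPrime hqp
          rw [hk, hk'] at this
          exact_mod_cast this
        have h1 := ih k' hlt q hk'
        by_cases heq : (q.homogeneousCore 𝒜).toIdeal = (p.homogeneousCore 𝒜).toIdeal
        · exfalso
          refine no_between 𝒜 p q ?_ hqp
          rw [← heq]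
          exact lt_of_le_of_ne hcqq (fun h => hqh (le_of_eq h.symm))
        · have hlt' : (q.homogeneousCore 𝒜).toIdeal < (p.homogeneousCore 𝒜).toIdeal :=
            lt_of_le_of_ne hcc heq
          exact h1.trans (Ideal.height_add_one_le_of_lt_of_isPrime hlt')
    exact lt_of_le_of_lt hgoal (by exact_mod_cast Nat.lt_succ_self n₀)

theorem height_le_core_add_one (p : Ideal R) [p.IsPrime] :
    p.height ≤ (p.homogeneousCore 𝒜).toIdeal.height + 1 :=
  height_le_core_add_one_aux 𝒜 _ p (ENat.coe_toNat (Ideal.height_ne_top_of_isPrime)).symm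

/-! ### *local rings -/

theorem exists_coatom_ge (J : HomogeneousIdeal 𝒜) (hJ : J ≠ ⊤) :
    ∃ K : HomogeneousIdeal 𝒜, IsCoatom K ∧ J ≤ K := by
  obtain ⟨I₀, ⟨K₀, rfl, hJK, hK⟩, hmax⟩ :=
    (wellFounded_gt : WellFounded ((· > ·) : Ideal R → Ideal R → Prop)).has_min
      {I : Ideal R | ∃ K : HomogeneousIdeal 𝒜, K.toIdeal = I ∧ J ≤ K ∧ K ≠ ⊤}
      ⟨_, J, rfl, le_rfl, hJ⟩
  refine ⟨K₀, ⟨hK, fun b hb => ?_⟩, hJK⟩
  by_contra hbt
  refine hmax b.toIdeal ⟨b, rfl, hJK.trans hb.le, hbt⟩ ?_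
  exact lt_of_le_of_ne (show K₀.toIdeal ≤ b.toIdeal from hb.le)
    (fun h => hb.ne (HomogeneousIdeal.toIdeal_injective h))

theorem le_of_isStarLocal (m : HomogeneousIdeal 𝒜) (hm : GrLC.IsStarLocal 𝒜 m)
    (J : HomogeneousIdeal 𝒜) (hJ : J ≠ ⊤) : J ≤ m := by
  obtain ⟨K, hK, hJK⟩ := exists_coatom_ge 𝒜 J hJ
  rw [hm.2 K hK] at hJK
  exact hJK

omit [IsNoetherianRing R] in
theorem toIdeal_ne_top (m : HomogeneousIdeal 𝒜) (hm : IsCoatom m) : m.toIdeal ≠ ⊤ :=
  fun h => hm.1 (HomogeneousIdeal.toIdeal_injective (by rw [h, HomogeneousIdeal.toIdeal_top]))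

omit [IsNoetherianRing R] in
/-- A *maximal ideal of a non-negatively graded ring is a maximal ideal. -/
theorem isMaximal_of_isCoatom (hpos : ∀ n : ℤ, n < 0 → 𝒜 n = ⊥) (m : HomogeneousIdeal 𝒜)
    (hm : IsCoatom m) : m.toIdeal.IsMaximal := by
  rw [Ideal.isMaximal_iff]
  have hne := toIdeal_ne_top 𝒜 m hm
  refine ⟨fun h1 => hne ((Ideal.eq_top_iff_one _).mpr h1), fun J x hmJ hxm hxJ => ?_⟩
  have hcomp : ∀ n : ℤ, n ≠ 0 → ((decompose 𝒜 x) n : R) ∈ m.toIdeal := by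
    intro n hn
    rcases lt_or_gt_of_ne hn with h | h
    · have h2 : ((decompose 𝒜 x) n : R) ∈ 𝒜 n := SetLike.coe_mem _
      rw [Groth.Agent.Lib.Helper29GrStd.eq_zero_of_mem_of_eq_bot (hpos n h) h2]
      exact zero_mem _
    · exact Groth.Agent.Lib.R2H7.GrEv.mem_of_isCoatom hpos m hm n h _ (SetLike.coe_mem _)
  have hx0 : ((decompose 𝒜 x) 0 : R) ∉ m.toIdeal := by
    intro h0
    apply hxm
    refine mem_of_forall_comp_mem (𝒜 := 𝒜) (fun n => ?_)
    by_cases hn : n = 0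
    · rw [hn]
      exact h0
    · exact hcomp n hn
  have hdiff : x - ((decompose 𝒜 x) 0 : R) ∈ m.toIdeal := by
    refine mem_of_forall_comp_mem (𝒜 := 𝒜) (fun n => ?_)
    rw [DirectSum.decompose_sub, DirectSum.sub_apply, AddSubgroup.coe_sub]
    by_cases hn : n = 0
    · rw [hn, DirectSum.decompose_coe, DirectSum.of_eq_same, sub_self]
      exact zero_mem _
    · rw [DirectSum.decompose_coe, DirectSum.of_eq_of_ne _ _ _ hn]
      rw [ZeroMemClass.coe_zero, sub_zero]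
      exact hcomp n hn
  have hx0J : ((decompose 𝒜 x) 0 : R) ∈ J := by
    have : ((decompose 𝒜 x) 0 : R) = x - (x - ((decompose 𝒜 x) 0 : R)) := by ring
    rw [this]
    exact J.sub_mem hxJ (hmJ hdiff)
  have hh : (Ideal.span {((decompose 𝒜 x) 0 : R)}).IsHomogeneous 𝒜 :=
    Ideal.homogeneous_span 𝒜 _ (by
      rintro y (rfl : y = _)
      exact ⟨0, SetLike.coe_mem _⟩)
  have hlt : m < m ⊔ ⟨Ideal.span {((decompose 𝒜 x) 0 : R)}, hh⟩ := by
    refine lt_of_le_of_ne le_sup_left ?_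
    intro heq
    apply hx0
    have h1 : ((decompose 𝒜 x) 0 : R) ∈
        (m ⊔ ⟨Ideal.span {((decompose 𝒜 x) 0 : R)}, hh⟩ : HomogeneousIdeal 𝒜).toIdeal := by
      rw [HomogeneousIdeal.toIdeal_sup]
      exact Ideal.mem_sup_right (Ideal.subset_span rfl)
    rw [← heq] at h1
    exact h1
  have htop := hm.2 _ hlt
  have h1 : (1 : R) ∈
      (m ⊔ ⟨Ideal.span {((decompose 𝒜 x) 0 : R)}, hh⟩ : HomogeneousIdeal 𝒜).toIdeal := by
    rw [htop, HomogeneousIdeal.toIdeal_top]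
    exact Submodule.mem_top
  rw [HomogeneousIdeal.toIdeal_sup] at h1
  obtain ⟨u, hu, v, hv, huv⟩ := Submodule.mem_sup.mp h1
  rw [← huv]
  refine J.add_mem (hmJ hu) ?_
  have hspan : Ideal.span {((decompose 𝒜 x) 0 : R)} ≤ J :=
    (Ideal.span_singleton_le_iff_mem _).mpr hx0J
  exact hspan hv

/-- The dimension of a *local non-negatively graded Noetherian ring is the height of its *maximal
ideal. -/
theorem ringKrullDim_le_height (hpos : ∀ n : ℤ, n < 0 → 𝒜 n = ⊥) (m : HomogeneousIdeal 𝒜)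
    (hm : GrLC.IsStarLocal 𝒜 m) :
    ringKrullDim R ≤ ((m.toIdeal.height : ℕ∞) : WithBot ℕ∞) := by
  have hmax := isMaximal_of_isCoatom 𝒜 hpos m hm.1
  haveI hmp : m.toIdeal.IsPrime := hmax.isPrime
  haveI : Nontrivial R := by
    refine ⟨⟨0, 1, fun h => toIdeal_ne_top 𝒜 m hm.1 ((Ideal.eq_top_iff_one _).mpr ?_)⟩⟩
    rw [← h]
    exact zero_mem _
  rw [← Ideal.sup_isMaximal_height_eq_ringKrullDim]
  apply WithBot.coe_le_coe.mpr
  refine iSup₂_le fun M hM => ?_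
  haveI hMp : M.IsPrime := hM.isPrime
  haveI hcp : (M.homogeneousCore 𝒜).toIdeal.IsPrime := Ideal.IsPrime.homogeneousCore hMp
  have hcM : (M.homogeneousCore 𝒜).toIdeal ≤ M := Ideal.toIdeal_homogeneousCore_le 𝒜 M
  have hcne : M.homogeneousCore 𝒜 ≠ ⊤ := by
    intro h
    apply hMp.ne_top
    rw [eq_top_iff, ← HomogeneousIdeal.toIdeal_top (𝒜 := 𝒜), ← h]
    exact hcM
  have hc_le : (M.homogeneousCore 𝒜).toIdeal ≤ m.toIdeal :=
    le_of_isStarLocal 𝒜 m hm _ hcne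
  by_cases hMc : M ≤ (M.homogeneousCore 𝒜).toIdeal
  · exact Ideal.height_mono (hMc.trans hc_le)
  · have h1 := height_le_core_add_one 𝒜 M
    have hlt : (M.homogeneousCore 𝒜).toIdeal < m.toIdeal := by
      refine lt_of_le_of_ne hc_le (fun heq => hMc ?_)
      have hmM : m.toIdeal ≤ M := heq ▸ hcM
      have := hmax.eq_of_le hMp.ne_top hmM
      exact le_of_eq (this.symm.trans heq.symm)
    exact h1.trans (Ideal.height_add_one_le_of_lt_of_isPrime hlt)

end Groth.Agent.Lib.R2H7.GrHt
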