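/-
Surjectivity pieces of the long exact sequence of graded local cohomology computed from
*injective resolutions, in elementwise form, and multiplication by a homogeneous element.
-/
import Mathlib
import Groth.Agent.Lib.R2H7GrLES
import Groth.Agent.Lib.R2H7GrTors

set_option autoImplicit false
open DirectSum

noncomputable section

namespace Groth.Agent.Lib.R2H7.GrSurj

open Groth.Agent.Lib.R2H7.GrDer Groth.Agent.Lib.R2H7.GrOps Groth.Agent.Lib.R2H7.GrLES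
  Groth.Agent.Lib.R2H7.GrTors

universe u

variable {ι : Type} [AddCommGroup ι] [DecidableEq ι]
variable {R : Type u} [CommRing R] {𝒜 : ι → AddSubgroup R} [GradedRing 𝒜]

section surj

variable {X Y : GrLC.GMod.{u} 𝒜} (a : HomogeneousIdeal 𝒜)
variable {E : GrLC.StarInjRes 𝒜 X.gr} {E' : GrLC.StarInjRes 𝒜 Y.gr}
  {f : X.carrier →ₗ[R] Y.carrier}

/-- Surjectivity on the degree `g` piece of `H^i_a` of the map induced by a chain map. -/
def HSurjOn (c : CMap E E' f) (i : ℕ) (g : ι) : Prop :=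
  ∀ w : (E'.X i).carrier, w ∈ E'.cocyc a i → w ∈ (E'.X i).gr g →
    ∃ z : (E.X i).carrier, z ∈ E.cocyc a i ∧ z ∈ (E.X i).gr g ∧ c.θ i z - w ∈ E'.cobdy a i

/-- Two chain maps over the same map agree on cohomology. -/
theorem cmap_sub_mem_cobdy (c₁ c₂ : CMap E E' f) {i : ℕ} {z : (E.X i).carrier}
    (hz : z ∈ E.cocyc a i) : c₁.θ i z - c₂.θ i z ∈ E'.cobdy a i := by
  have := delta_mem_cobdy E E' (fun n => c₁.θ n - c₂.θ n)
    (fun n g x hx => by
      rw [LinearMap.sub_apply]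
      exact sub_mem (c₁.gr n g x hx) (c₂.gr n g x hx))
    (fun m => by
      rw [LinearMap.sub_apply, c₁.aug, c₂.aug, sub_self])
    (fun n x => by
      rw [LinearMap.sub_apply, c₁.comm, c₂.comm, LinearMap.sub_apply, map_sub])
    a hz
  rwa [LinearMap.sub_apply] at this

theorem hsurj_of_hsurj {E₁ E₂ : GrLC.StarInjRes 𝒜 X.gr}
    {E₁' E₂' : GrLC.StarInjRes 𝒜 Y.gr} (c₁ : CMap E₁ E₁' f) (c₂ : CMap E₂ E₂' f) {i : ℕ} {g : ι}
    (h : HSurjOn a c₁ i g) : HSurjOn a c₂ i g := by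
  obtain ⟨p'⟩ := exists_cmap E₁ E₂ LinearMap.id isGrHom_id
  obtain ⟨q⟩ := exists_cmap E₂' E₁' LinearMap.id isGrHom_id
  obtain ⟨q'⟩ := exists_cmap E₁' E₂' LinearMap.id isGrHom_id
  intro w hw hwg
  obtain ⟨z₁, hz₁, hz₁g, hz₁c⟩ := h (q.θ i w) (q.cocyc a hw) (q.gr i g w hwg)
  refine ⟨p'.θ i z₁, p'.cocyc a hz₁, p'.gr i g z₁ hz₁g, ?_⟩
  have h1 : q'.θ i (c₁.θ i z₁ - q.θ i w) ∈ E₂'.cobdy a i := q'.cobdy a hz₁c
  have h2 : q'.θ i (q.θ i w) - w ∈ E₂'.cobdy a i := comp_sub_mem_cobdy a q q' hw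
  have h3 : (c₂.comp p').θ i z₁ - (q'.comp c₁).θ i z₁ ∈ E₂'.cobdy a i := by
    have e1 : f ∘ₗ LinearMap.id = f := LinearMap.comp_id f
    have e2 : LinearMap.id ∘ₗ f = f := LinearMap.id_comp f
    have c3 : CMap E₁ E₂' f := e1 ▸ (c₂.comp p')
    have c4 : CMap E₁ E₂' f := e2 ▸ (q'.comp c₁)
    have hΔ := delta_mem_cobdy E₁ E₂' (fun n => c₂.θ n ∘ₗ p'.θ n - q'.θ n ∘ₗ c₁.θ n)
      (fun n g x hx => by
        rw [LinearMap.sub_apply, LinearMap.comp_apply, LinearMap.comp_apply]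
        exact sub_mem (c₂.gr n g _ (p'.gr n g x hx)) (q'.gr n g _ (c₁.gr n g x hx)))
      (fun m => by
        rw [LinearMap.sub_apply, LinearMap.comp_apply, LinearMap.comp_apply, p'.aug,
          LinearMap.id_apply, c₂.aug, c₁.aug, q'.aug, LinearMap.id_apply, sub_self])
      (fun n x => by
        rw [LinearMap.sub_apply, LinearMap.comp_apply, LinearMap.comp_apply, p'.comm, c₂.comm,
          c₁.comm, q'.comm, LinearMap.sub_apply, LinearMap.comp_apply, LinearMap.comp_apply,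
          map_sub])
      a hz₁
    exact hΔ
  have h3' : c₂.θ i (p'.θ i z₁) - q'.θ i (c₁.θ i z₁) ∈ E₂'.cobdy a i := h3
  have e : c₂.θ i (p'.θ i z₁) - w =
      (c₂.θ i (p'.θ i z₁) - q'.θ i (c₁.θ i z₁)) + q'.θ i (c₁.θ i z₁ - q.θ i w) +
        (q'.θ i (q.θ i w) - w) := by
    rw [map_sub]
    abel
  rw [e]
  exact add_mem (add_mem h3' h1) h2

/-- The map induced by `f` on the degree `g` piece of `H^i_a` is surjective. -/
def HSurjX (f : X.carrier →ₗ[R] Y.carrier) (i : ℕ) (g : ι) : Prop :=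
  ∀ (E : GrLC.StarInjRes 𝒜 X.gr) (E' : GrLC.StarInjRes 𝒜 Y.gr) (c : CMap E E' f),
    HSurjOn a c i g

theorem hsurjX_of (c : CMap E E' f) {i : ℕ} {g : ι}
    (h : HSurjOn a c i g) : HSurjX a f i g :=
  fun _ _ c₂ => hsurj_of_hsurj a c c₂ h

theorem hsurjX_comp {Z : GrLC.GMod.{u} 𝒜} {f' : Y.carrier →ₗ[R] Z.carrier}
    (hf : GrLC.IsGrHom X.gr Y.gr f) (hf' : GrLC.IsGrHom Y.gr Z.gr f') {i : ℕ} {g : ι}
    (h : HSurjX a f i g) (h' : HSurjX a f' i g) : HSurjX a (f' ∘ₗ f) i g := by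
  obtain ⟨E⟩ := exists_res X
  obtain ⟨E'⟩ := exists_res Y
  obtain ⟨E''⟩ := exists_res Z
  obtain ⟨c⟩ := exists_cmap E E' f hf
  obtain ⟨c'⟩ := exists_cmap E' E'' f' hf'
  refine hsurjX_of a (c'.comp c) ?_
  intro w hw hwg
  obtain ⟨z', hz', hz'g, hz'c⟩ := h' E' E'' c' w hw hwg
  obtain ⟨z, hz, hzg, hzc⟩ := h E E' c z' hz' hz'g
  refine ⟨z, hz, hzg, ?_⟩
  have h1 : c'.θ i (c.θ i z - z') ∈ E''.cobdy a i := c'.cobdy a hzc
  have e : (c'.comp c).θ i z - w = c'.θ i (c.θ i z - z') + (c'.θ i z' - w) := by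
    show c'.θ i (c.θ i z) - w = _
    rw [map_sub]
    abel
  rw [e]
  exact add_mem h1 hz'c

/-- A surjection on cohomology from a vanishing piece forces the target piece to vanish. -/
theorem vanX_of_hsurjX (hf : GrLC.IsGrHom X.gr Y.gr f) {i : ℕ} {g : ι}
    (h : HSurjX a f i g) (hX : VanX a X i g) : VanX a Y i g := by
  obtain ⟨E⟩ := exists_res X
  obtain ⟨E'⟩ := exists_res Y
  obtain ⟨c⟩ := exists_cmap E E' f hf
  refine (vanX_iff a E').mpr ?_
  intro w hw hwg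
  obtain ⟨z, hz, hzg, hzc⟩ := h E E' c w hw hwg
  have h1 : c.θ i z ∈ E'.cobdy a i := c.cobdy a (hX E z hz hzg)
  have e : w = c.θ i z - (c.θ i z - w) := by abel
  rw [e]
  exact sub_mem h1 hzc

end surj

/-! ### Horseshoe -/

section horseshoe

variable {X' X X'' : GrLC.GMod.{u} 𝒜} {S : GSES X' X X''}
  {E' : GrLC.StarInjRes 𝒜 X'.gr} {E'' : GrLC.StarInjRes 𝒜 X''.gr} (D : HData S E' E'')
  (a : HomogeneousIdeal 𝒜)

theorem horse_surj_inl {i : ℕ} {g : ι} (hV : Van a E'' i g) : HSurjOn a (horseInl D) i g := by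
  intro (w : (E'.X i).carrier × (E''.X i).carrier) hw hwg
  obtain ⟨⟨hg1, hg2⟩, hd1, hd2⟩ := (horse_cocyc_iff D a i w).mp hw
  obtain ⟨hwg1, hwg2⟩ := mem_prodG_gr.mp hwg
  have hq : w.2 ∈ E''.cobdy a i := hV w.2 ⟨hg2, hd2⟩ hwg2
  cases i with
  | zero =>
    have hq0 : w.2 = 0 := (Submodule.mem_bot R).mp hq
    rw [hq0, map_zero, add_zero] at hd1
    refine ⟨w.1, ⟨hg1, hd1⟩, hwg1, ?_⟩
    have e : ((w.1, 0) : (E'.X 0).carrier × (E''.X 0).carrier) - w = 0 := by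
      rw [sub_eq_zero]
      exact Prod.ext rfl hq0.symm
    show ((w.1, 0) : (E'.X 0).carrier × (E''.X 0).carrier) - w ∈ (horse D).cobdy a 0
    rw [e]
    exact zero_mem _
  | succ n =>
    obtain ⟨q₁, hq₁g, hq₁gr, hq₁e⟩ := exists_homog_preimage a E'' n hq hwg2
    have hp2 : w.1 - D.τ n q₁ ∈ E'.cocyc a (n + 1) := by
      refine ⟨sub_mem hg1 (gam_map _ _ hq₁g), ?_⟩
      show E'.d (n + 1) (w.1 - D.τ n q₁) = 0
      have := D.hs n q₁
      rw [hq₁e] at this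
      rw [map_sub, eq_neg_of_add_eq_zero_left hd1, eq_neg_of_add_eq_zero_left this, sub_self]
    have hp2g : w.1 - D.τ n q₁ ∈ (E'.X (n + 1)).gr g := sub_mem hwg1 (D.τ_gr n g _ hq₁gr)
    refine ⟨w.1 - D.τ n q₁, hp2, hp2g, ?_⟩
    refine ⟨((0, -q₁) : (E'.X n).carrier × (E''.X n).carrier),
      (mem_gam_prod (X := E'.X n) (Y := E''.X n) a.toIdeal).mpr ⟨zero_mem _, neg_mem hq₁g⟩, ?_⟩
    show hd D n (0, -q₁) =
      ((w.1 - D.τ n q₁, 0) : (E'.X (n + 1)).carrier × (E''.X (n + 1)).carrier) - w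
    rw [hd_apply]
    refine Prod.ext ?_ ?_
    · show E'.d n 0 + D.τ n (-q₁) = w.1 - D.τ n q₁ - w.1
      rw [map_zero, map_neg]
      abel
    · show E''.d n (-q₁) = 0 - w.2
      rw [map_neg, hq₁e, zero_sub]

theorem horse_surj_snd {i : ℕ} {g : ι} (hV : Van a E' (i + 1) g) :
    HSurjOn a (horseSnd D) i g := by
  intro q hq hqg
  have hq2 : E''.d i q = 0 := hq.2
  have hτ : D.τ i q ∈ E'.cocyc a (i + 1) := by
    refine ⟨gam_map _ _ hq.1, ?_⟩
    show E'.d (i + 1) (D.τ i q) = 0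
    have := D.hs i q
    rw [hq2, map_zero, add_zero] at this
    exact this
  have hτc := hV _ hτ (D.τ_gr i g q hqg)
  obtain ⟨p, hpg, hpgr, hpe⟩ := exists_homog_preimage a E' i hτc (D.τ_gr i g q hqg)
  have hz : ((-p, q) : (E'.X i).carrier × (E''.X i).carrier) ∈ (horse D).cocyc a i := by
    rw [horse_cocyc_iff]
    refine ⟨⟨neg_mem hpg, hq.1⟩, ?_, hq2⟩
    show E'.d i (-p) + D.τ i q = 0
    rw [map_neg, hpe, neg_add_cancel]
  have hzg : ((-p, q) : (E'.X i).carrier × (E''.X i).carrier) ∈ ((horse D).X i).gr g :=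
    mem_prodG_gr.mpr ⟨neg_mem hpgr, hqg⟩
  refine ⟨(-p, q), hz, hzg, ?_⟩
  have e : (horseSnd D).θ i ((-p, q) : (E'.X i).carrier × (E''.X i).carrier) - q = 0 := by
    show q - q = 0
    exact sub_self q
  rw [e]
  exact zero_mem _

end horseshoe

section les

variable {X' X X'' : GrLC.GMod.{u} 𝒜} (S : GSES X' X X'') (a : HomogeneousIdeal 𝒜)
include S

/-- `H^i(X') → H^i(X)` is onto in degree `g` when `H^i(X'')_g = 0`. -/
theorem hsurjX_left {i : ℕ} {g : ι} (h'' : VanX a X'' i g) : HSurjX a S.f i g := by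
  obtain ⟨E'⟩ := exists_res X'
  obtain ⟨E''⟩ := exists_res X''
  obtain ⟨D⟩ := exists_hdata S E' E''
  exact hsurjX_of a (horseInl D) (horse_surj_inl D a (h'' E''))

/-- `H^i(X) → H^i(X'')` is onto in degree `g` when `H^{i+1}(X')_g = 0`. -/
theorem hsurjX_right {i : ℕ} {g : ι} (h' : VanX a X' (i + 1) g) : HSurjX a S.g i g := by
  obtain ⟨E'⟩ := exists_res X'
  obtain ⟨E''⟩ := exists_res X''
  obtain ⟨D⟩ := exists_hdata S E' E''
  exact hsurjX_of a (horseSnd D) (horse_surj_snd D a (h' E'))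

end les

/-! ### Multiplication by a homogeneous element -/

section mul

variable {X N : GrLC.GMod.{u} 𝒜} (a : HomogeneousIdeal 𝒜) (e : ι) {x : R} (hx : x ∈ 𝒜 e)
  (π : X.carrier →ₗ[R] N.carrier) (hπ : GrLC.IsGrHom X.gr N.gr π) (hs : Function.Surjective π)
  (hker : LinearMap.ker π = LinearMap.range (x • (LinearMap.id : X.carrier →ₗ[R] X.carrier)))

include hx hπ hs hker in
/-- If the kernel of `x` on `X` is `a`-torsion and `H^i_a(X/xX)_g = 0` then multiplication by `x`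
from `H^i_a(X)_{g-e}` to `H^i_a(X)_g` is onto. -/
theorem hsurjX_mul [IsNoetherianRing R] [Module.Free ℤ ι] [Module.Finite ℤ ι] {i : ℕ} {g : ι}
    (hK : ∀ m : X.carrier, x • m = 0 → m ∈ GrLC.gam a.toIdeal X.carrier)
    (hN : VanX a N i g) : HSurjX a (mulG X e x) i g := by
  rw [← comp_eq e hx π hπ hs hker]
  refine hsurjX_comp a (sesA e hx π hπ hker).g_gr (sesB π hπ hs).f_gr
    (hsurjX_right (sesA e hx π hπ hker) a ?_) (hsurjX_left (sesB π hπ hs) a hN)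
  apply vanX_of_torsion a _ _ (i + 1) (Nat.succ_pos i) g
  rintro ⟨m, hm⟩
  refine (mem_gam_sub a.toIdeal (LinearMap.ker (mulCo e π hπ hker)) ⟨m, hm⟩).mpr (hK m ?_)
  have h0 : mulCo e π hπ hker m = 0 := hm
  exact congrArg Subtype.val h0

include hx hπ hs hker in
/-- Elementwise form of `hsurjX_mul` on a given resolution. -/
theorem exists_smul_sub_mem_cobdy [IsNoetherianRing R] [Module.Free ℤ ι] [Module.Finite ℤ ι]
    {i : ℕ} {g : ι} (hK : ∀ m : X.carrier, x • m = 0 → m ∈ GrLC.gam a.toIdeal X.carrier)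
    (hN : VanX a N i g) (E : GrLC.StarInjRes 𝒜 X.gr) (w : (E.X i).carrier)
    (hw : w ∈ E.cocyc a i) (hwg : w ∈ (E.X i).gr g) :
    ∃ z : (E.X i).carrier, z ∈ E.cocyc a i ∧ z ∈ (E.X i).gr (g + -e) ∧
      x • z - w ∈ E.cobdy a i := by
  obtain ⟨z, hz, hzg, hzc⟩ := hsurjX_mul a e hx π hπ hs hker hK hN (shiftRes E (-e)) E
    (mulCMap hx E) w hw hwg
  exact ⟨z, hz, hzg, hzc⟩

end mul

end Groth.Agent.Lib.R2H7.GrSurj
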