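/-
Whole-module functoriality of graded local cohomology computed from *injective resolutions:
the map induced on `E.H a i` by a chain map (`mapHW`), independence of the chain map, composition,
sums, the map `TH` induced by a homogeneous map, exactness in the middle and surjectivity on the
right for a short exact sequence of graded modules (whole modules, not pieces), and Grothendieck
vanishing above the Krull dimension for whole modules.
-/
import Mathlib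
import Groth.Agent.Lib.R2H7GrTop
import Groth.Agent.Lib.R2H7GrSurj

set_option autoImplicit false
open DirectSum

noncomputable section

namespace Groth.Agent.Lib.R2H7.GrFun

open Groth.Agent.Lib.Helper29GrCompare Groth.Agent.Lib.Helper29GrHom
  Groth.Agent.Lib.Helper29GrGam Groth.Agent.Lib.R2H7.GrDer Groth.Agent.Lib.R2H7.GrOps
  Groth.Agent.Lib.R2H7.GrLES Groth.Agent.Lib.R2H7.GrTors

universe u

variable {ι : Type} [AddCommGroup ι] [DecidableEq ι]
variable {R : Type u} [CommRing R] {𝒜 : ι → AddSubgroup R} [GradedRing 𝒜]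

/-! ### Chain maps: identity, sums, zero -/

section cmaps

variable {X Y : GrLC.GMod.{u} 𝒜} {E : GrLC.StarInjRes 𝒜 X.gr} {E' : GrLC.StarInjRes 𝒜 Y.gr}

/-- The identity chain map. -/
def cmapId (E : GrLC.StarInjRes 𝒜 X.gr) : CMap E E LinearMap.id where
  θ _ := LinearMap.id
  gr _ := fun _ _ hx => hx
  aug _ := rfl
  comm _ _ := rfl

/-- The sum of two chain maps. -/
def cmapAdd {f₁ f₂ : X.carrier →ₗ[R] Y.carrier} (c₁ : CMap E E' f₁) (c₂ : CMap E E' f₂) :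
    CMap E E' (f₁ + f₂) where
  θ n := c₁.θ n + c₂.θ n
  gr n := fun g x hx => by
    rw [LinearMap.add_apply]
    exact add_mem (c₁.gr n g x hx) (c₂.gr n g x hx)
  aug m := by
    rw [LinearMap.add_apply, c₁.aug, c₂.aug, LinearMap.add_apply, map_add]
  comm n x := by
    rw [LinearMap.add_apply, c₁.comm, c₂.comm, LinearMap.add_apply, map_add]

/-- The zero chain map. -/
def cmapZero (E : GrLC.StarInjRes 𝒜 X.gr) (E' : GrLC.StarInjRes 𝒜 Y.gr) :
    CMap E E' (0 : X.carrier →ₗ[R] Y.carrier) where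
  θ _ := 0
  gr _ := fun _ _ _ => by
    rw [LinearMap.zero_apply]
    exact zero_mem _
  aug m := by
    rw [LinearMap.zero_apply, LinearMap.zero_apply, map_zero]
  comm n x := by
    rw [LinearMap.zero_apply, LinearMap.zero_apply, map_zero]

end cmaps

/-! ### Induced maps on whole cohomology modules -/

section maps

variable {X Y : GrLC.GMod.{u} 𝒜} (a : HomogeneousIdeal 𝒜)
  {E : GrLC.StarInjRes 𝒜 X.gr} {E' : GrLC.StarInjRes 𝒜 Y.gr}

/-- The map on cocycles induced by a chain map. -/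
def mapZW {f : X.carrier →ₗ[R] Y.carrier} (c : CMap E E' f) (i : ℕ) :
    ↥(E.cocyc a i) →ₗ[R] ↥(E'.cocyc a i) :=
  (c.θ i).restrict (fun _ hz => c.cocyc a hz)

theorem mapZW_coe {f : X.carrier →ₗ[R] Y.carrier} (c : CMap E E' f) (i : ℕ)
    (z : ↥(E.cocyc a i)) :
    ((mapZW a c i z : ↥(E'.cocyc a i)) : (E'.X i).carrier) = c.θ i z.1 := rfl

/-- The map on `H^i_a` induced by a chain map. -/
def mapHW {f : X.carrier →ₗ[R] Y.carrier} (c : CMap E E' f) (i : ℕ) : E.H a i →ₗ[R] E'.H a i :=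
  Submodule.mapQ _ _ (mapZW a c i) (fun z hz => by
    have hz' : (z : (E.X i).carrier) ∈ E.cobdy a i := hz
    exact c.cobdy a hz')

theorem mapHW_mk {f : X.carrier →ₗ[R] Y.carrier} (c : CMap E E' f) (i : ℕ)
    (z : ↥(E.cocyc a i)) :
    mapHW a c i (Submodule.Quotient.mk z) = Submodule.Quotient.mk (mapZW a c i z) := rfl

/-- Two chain maps over (pointwise) equal maps differ by coboundaries on cocycles. -/
theorem cmap_sub_mem_cobdy' {f₁ f₂ : X.carrier →ₗ[R] Y.carrier} (c₁ : CMap E E' f₁)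
    (c₂ : CMap E E' f₂) (h : ∀ m, f₁ m = f₂ m) {i : ℕ} {z : (E.X i).carrier}
    (hz : z ∈ E.cocyc a i) : c₁.θ i z - c₂.θ i z ∈ E'.cobdy a i := by
  have := delta_mem_cobdy E E' (fun n => c₁.θ n - c₂.θ n)
    (fun n g x hx => by
      rw [LinearMap.sub_apply]
      exact sub_mem (c₁.gr n g x hx) (c₂.gr n g x hx))
    (fun m => by
      rw [LinearMap.sub_apply, c₁.aug, c₂.aug, h, sub_self])
    (fun n x => by
      rw [LinearMap.sub_apply, c₁.comm, c₂.comm, LinearMap.sub_apply, map_sub])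
    a hz
  rwa [LinearMap.sub_apply] at this

theorem mapHW_eq {f₁ f₂ : X.carrier →ₗ[R] Y.carrier} (c₁ : CMap E E' f₁) (c₂ : CMap E E' f₂)
    (h : ∀ m, f₁ m = f₂ m) (i : ℕ) : mapHW a c₁ i = mapHW a c₂ i := by
  apply LinearMap.ext
  intro y
  obtain ⟨z, rfl⟩ := Submodule.Quotient.mk_surjective _ y
  rw [mapHW_mk, mapHW_mk]
  refine (Submodule.Quotient.eq _).mpr ?_
  show c₁.θ i z.1 - c₂.θ i z.1 ∈ E'.cobdy a i
  exact cmap_sub_mem_cobdy' a c₁ c₂ h z.2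

theorem mapHW_comp {Z : GrLC.GMod.{u} 𝒜} {E'' : GrLC.StarInjRes 𝒜 Z.gr}
    {f : X.carrier →ₗ[R] Y.carrier} {f' : Y.carrier →ₗ[R] Z.carrier}
    (c' : CMap E' E'' f') (c : CMap E E' f) (i : ℕ) :
    mapHW a (c'.comp c) i = mapHW a c' i ∘ₗ mapHW a c i := by
  apply LinearMap.ext
  intro y
  obtain ⟨z, rfl⟩ := Submodule.Quotient.mk_surjective _ y
  rfl

theorem mapHW_id (i : ℕ) : mapHW a (cmapId E) i = LinearMap.id := by
  apply LinearMap.ext
  intro y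
  obtain ⟨z, rfl⟩ := Submodule.Quotient.mk_surjective _ y
  rfl

theorem mapHW_add {f₁ f₂ : X.carrier →ₗ[R] Y.carrier} (c₁ : CMap E E' f₁) (c₂ : CMap E E' f₂)
    (i : ℕ) : mapHW a (cmapAdd c₁ c₂) i = mapHW a c₁ i + mapHW a c₂ i := by
  apply LinearMap.ext
  intro y
  obtain ⟨z, rfl⟩ := Submodule.Quotient.mk_surjective _ y
  rfl

theorem mapHW_zero (i : ℕ) : mapHW a (cmapZero E E') i = 0 := by
  apply LinearMap.ext
  intro y
  obtain ⟨z, rfl⟩ := Submodule.Quotient.mk_surjective _ y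
  rw [LinearMap.zero_apply, mapHW_mk]
  refine (Submodule.Quotient.mk_eq_zero _).mpr ?_
  show (0 : (E'.X i).carrier) ∈ E'.cobdy a i
  exact zero_mem _

theorem mapHW_mem_hgr {f : X.carrier →ₗ[R] Y.carrier} (c : CMap E E' f) (i : ℕ) (g : ι)
    {ξ : E.H a i} (hξ : ξ ∈ E.Hgr a i g) : mapHW a c i ξ ∈ E'.Hgr a i g := by
  obtain ⟨z, hz, rfl⟩ := hξ
  exact ⟨mapZW a c i z, c.gr i g z.1 hz, rfl⟩

end maps

/-! ### The map induced by a homogeneous map -/

section TH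

variable {X Y : GrLC.GMod.{u} 𝒜} (a : HomogeneousIdeal 𝒜)
  (E : GrLC.StarInjRes 𝒜 X.gr) (E' : GrLC.StarInjRes 𝒜 Y.gr)

/-- The map `H^i_a(X) → H^i_a(Y)` induced by a homogeneous map (computed from the resolutions
`E`, `E'`). -/
def TH (f : X.carrier →ₗ[R] Y.carrier) (hf : GrLC.IsGrHom X.gr Y.gr f) (i : ℕ) :
    E.H a i →ₗ[R] E'.H a i :=
  mapHW a (Classical.choice (exists_cmap E E' f hf)) i

variable {E E'}

theorem TH_eq {f : X.carrier →ₗ[R] Y.carrier} (hf : GrLC.IsGrHom X.gr Y.gr f)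
    {f' : X.carrier →ₗ[R] Y.carrier} (c : CMap E E' f') (h : ∀ m, f m = f' m) (i : ℕ) :
    TH a E E' f hf i = mapHW a c i :=
  mapHW_eq a _ c h i

theorem TH_congr {f₁ f₂ : X.carrier →ₗ[R] Y.carrier} (hf₁ : GrLC.IsGrHom X.gr Y.gr f₁)
    (hf₂ : GrLC.IsGrHom X.gr Y.gr f₂) (h : ∀ m, f₁ m = f₂ m) (i : ℕ) :
    TH a E E' f₁ hf₁ i = TH a E E' f₂ hf₂ i :=
  mapHW_eq a _ _ h i

theorem TH_comp {Z : GrLC.GMod.{u} 𝒜} {E'' : GrLC.StarInjRes 𝒜 Z.gr}
    {f : X.carrier →ₗ[R] Y.carrier} {f' : Y.carrier →ₗ[R] Z.carrier}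
    (hf : GrLC.IsGrHom X.gr Y.gr f) (hf' : GrLC.IsGrHom Y.gr Z.gr f')
    (hff' : GrLC.IsGrHom X.gr Z.gr (f' ∘ₗ f)) (i : ℕ) :
    TH a E E'' (f' ∘ₗ f) hff' i = TH a E' E'' f' hf' i ∘ₗ TH a E E' f hf i := by
  unfold TH
  rw [← mapHW_comp]
  exact mapHW_eq a _ _ (fun _ => rfl) i

theorem TH_comp_apply {Z : GrLC.GMod.{u} 𝒜} {E'' : GrLC.StarInjRes 𝒜 Z.gr}
    {f : X.carrier →ₗ[R] Y.carrier} {f' : Y.carrier →ₗ[R] Z.carrier}
    (hf : GrLC.IsGrHom X.gr Y.gr f) (hf' : GrLC.IsGrHom Y.gr Z.gr f')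
    {h : X.carrier →ₗ[R] Z.carrier} (hh : GrLC.IsGrHom X.gr Z.gr h)
    (hcomp : ∀ m, h m = f' (f m)) (i : ℕ) (ξ : E.H a i) :
    TH a E E'' h hh i ξ = TH a E' E'' f' hf' i (TH a E E' f hf i ξ) := by
  have h1 : TH a E E'' h hh i = TH a E' E'' f' hf' i ∘ₗ TH a E E' f hf i := by
    unfold TH
    rw [← mapHW_comp]
    exact mapHW_eq a _ _ hcomp i
  rw [h1, LinearMap.comp_apply]

theorem TH_id (i : ℕ) : TH a E E LinearMap.id isGrHom_id i = LinearMap.id := by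
  rw [← mapHW_id a (E := E) i]
  exact mapHW_eq a _ _ (fun _ => rfl) i

theorem TH_id' {f : X.carrier →ₗ[R] X.carrier} (hf : GrLC.IsGrHom X.gr X.gr f)
    (h : ∀ m, f m = m) (i : ℕ) (ξ : E.H a i) : TH a E E f hf i ξ = ξ := by
  have h1 : TH a E E f hf i = LinearMap.id := by
    rw [← mapHW_id a (E := E) i]
    exact mapHW_eq a _ _ h i
  rw [h1, LinearMap.id_apply]

theorem TH_add {f₁ f₂ : X.carrier →ₗ[R] Y.carrier} (hf₁ : GrLC.IsGrHom X.gr Y.gr f₁)
    (hf₂ : GrLC.IsGrHom X.gr Y.gr f₂) {f : X.carrier →ₗ[R] Y.carrier}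
    (hf : GrLC.IsGrHom X.gr Y.gr f) (h : ∀ m, f m = f₁ m + f₂ m) (i : ℕ) :
    TH a E E' f hf i = TH a E E' f₁ hf₁ i + TH a E E' f₂ hf₂ i := by
  unfold TH
  rw [← mapHW_add]
  exact mapHW_eq a _ _ h i

theorem TH_zero {f : X.carrier →ₗ[R] Y.carrier} (hf : GrLC.IsGrHom X.gr Y.gr f)
    (h : ∀ m, f m = 0) (i : ℕ) : TH a E E' f hf i = 0 := by
  rw [← mapHW_zero a (E := E) (E' := E') i]
  exact mapHW_eq a _ _ h i

theorem TH_mem_hgr {f : X.carrier →ₗ[R] Y.carrier} (hf : GrLC.IsGrHom X.gr Y.gr f) (i : ℕ)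
    (g : ι) {ξ : E.H a i} (hξ : ξ ∈ E.Hgr a i g) : TH a E E' f hf i ξ ∈ E'.Hgr a i g :=
  mapHW_mem_hgr a _ i g hξ

/-- Comparison maps between two resolutions of the same module are mutually inverse. -/
theorem TH_id_comp (E₁ E₂ : GrLC.StarInjRes 𝒜 X.gr) (i : ℕ) (ξ : E₁.H a i) :
    TH a E₂ E₁ LinearMap.id isGrHom_id i (TH a E₁ E₂ LinearMap.id isGrHom_id i ξ) = ξ := by
  rw [← TH_comp_apply a isGrHom_id isGrHom_id (h := LinearMap.id) isGrHom_id (fun _ => rfl) i ξ]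
  exact TH_id' a isGrHom_id (fun _ => rfl) i ξ

end TH

/-! ### Exactness for short exact sequences (whole modules) -/

section horseshoe

variable {X' X X'' : GrLC.GMod.{u} 𝒜} {S : GSES X' X X''}
  {E' : GrLC.StarInjRes 𝒜 X'.gr} {E'' : GrLC.StarInjRes 𝒜 X''.gr}
  (a : HomogeneousIdeal 𝒜) (D : HData S E' E'')

theorem exists_left_of_snd_cobdyW {i : ℕ}
    (zz : (E'.X i).carrier × (E''.X i).carrier) (hzc : zz ∈ (horse D).cocyc a i)
    (hq : zz.2 ∈ E''.cobdy a i) :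
    ∃ p : (E'.X i).carrier, p ∈ E'.cocyc a i ∧
      ((p, 0) : (E'.X i).carrier × (E''.X i).carrier) - zz ∈ (horse D).cobdy a i := by
  obtain ⟨⟨hg1, hg2⟩, hd1, hd2⟩ := (horse_cocyc_iff D a i zz).mp hzc
  cases i with
  | zero =>
    have hq0 : zz.2 = 0 := (Submodule.mem_bot R).mp hq
    rw [hq0, map_zero, add_zero] at hd1
    refine ⟨zz.1, ⟨hg1, hd1⟩, ?_⟩
    have h0 : ((zz.1, 0) : (E'.X 0).carrier × (E''.X 0).carrier) - zz = 0 := by
      apply Prod.ext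
      · show zz.1 - zz.1 = 0
        exact sub_self _
      · show (0 : (E''.X 0).carrier) - zz.2 = 0
        rw [hq0, sub_self]
    rw [h0]
    exact zero_mem _
  | succ n =>
    obtain ⟨q₁, hq₁g, hq₁e⟩ := hq
    have hq₁e' : E''.d n q₁ = zz.2 := hq₁e
    have hp2 : zz.1 - D.τ n q₁ ∈ E'.cocyc a (n + 1) := by
      refine ⟨sub_mem hg1 (gam_map _ _ hq₁g), ?_⟩
      show E'.d (n + 1) (zz.1 - D.τ n q₁) = 0
      have := D.hs n q₁
      rw [hq₁e'] at this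
      rw [map_sub, eq_neg_of_add_eq_zero_left hd1, eq_neg_of_add_eq_zero_left this, sub_self]
    refine ⟨zz.1 - D.τ n q₁, hp2, ?_⟩
    refine ⟨((0, -q₁) : (E'.X n).carrier × (E''.X n).carrier),
      (mem_gam_prod (X := E'.X n) (Y := E''.X n) a.toIdeal).mpr ⟨zero_mem _, neg_mem hq₁g⟩, ?_⟩
    show hd D n (0, -q₁) = _
    rw [hd_apply]
    apply Prod.ext
    · show E'.d n 0 + D.τ n (-q₁) = zz.1 - D.τ n q₁ - zz.1
      rw [map_zero, map_neg]
      abel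
    · show E''.d n (-q₁) = 0 - zz.2
      rw [map_neg, hq₁e', zero_sub]

theorem exists_mid_of_tau_cobdyW {i : ℕ} (q : (E''.X i).carrier) (hq : q ∈ E''.cocyc a i)
    (hτc : D.τ i q ∈ E'.cobdy a (i + 1)) :
    ∃ zz : (E'.X i).carrier × (E''.X i).carrier, zz ∈ (horse D).cocyc a i ∧ zz.2 = q := by
  obtain ⟨p, hpg, hpe⟩ := hτc
  have hpe' : E'.d i p = D.τ i q := hpe
  have hz : ((-p, q) : (E'.X i).carrier × (E''.X i).carrier) ∈ (horse D).cocyc a i := by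
    rw [horse_cocyc_iff]
    refine ⟨⟨neg_mem hpg, hq.1⟩, ?_, hq.2⟩
    show E'.d i (-p) + D.τ i q = 0
    rw [map_neg, hpe', neg_add_cancel]
  exact ⟨(-p, q), hz, rfl⟩

end horseshoe

section exact

variable {X' X X'' : GrLC.GMod.{u} 𝒜} (S : GSES X' X X'') (a : HomogeneousIdeal 𝒜)
  {E' : GrLC.StarInjRes 𝒜 X'.gr} {E : GrLC.StarInjRes 𝒜 X.gr} {E'' : GrLC.StarInjRes 𝒜 X''.gr}

/-- Exactness of `H^i_a(X') → H^i_a(X) → H^i_a(X'')` in the middle. -/
theorem exactW_mid {f' : X'.carrier →ₗ[R] X.carrier} {f'' : X.carrier →ₗ[R] X''.carrier}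
    (c' : CMap E' E f') (c'' : CMap E E'' f'') (hf' : ∀ m, f' m = S.f m)
    (hf'' : ∀ m, f'' m = S.g m) (i : ℕ) (ξ : E.H a i)
    (h : mapHW a c'' i ξ = 0) : ∃ ξ' : E'.H a i, mapHW a c' i ξ' = ξ := by
  obtain ⟨D⟩ := exists_hdata S E' E''
  obtain ⟨p⟩ := exists_cmap E (horse D) LinearMap.id isGrHom_id
  obtain ⟨p'⟩ := exists_cmap (horse D) E LinearMap.id isGrHom_id
  have h1 : mapHW a c'' i = mapHW a (horseSnd D) i ∘ₗ mapHW a p i := by
    rw [← mapHW_comp]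
    exact mapHW_eq a _ _ (fun m => hf'' m) i
  have h2 : mapHW a c' i = mapHW a p' i ∘ₗ mapHW a (horseInl D) i := by
    rw [← mapHW_comp]
    exact mapHW_eq a _ _ (fun m => hf' m) i
  have h3 : mapHW a p' i ∘ₗ mapHW a p i = LinearMap.id := by
    rw [← mapHW_comp, ← mapHW_id a (E := E) i]
    exact mapHW_eq a _ _ (fun _ => rfl) i
  obtain ⟨zz, hzz⟩ := Submodule.Quotient.mk_surjective _ (mapHW a p i ξ)
  have h4 : mapHW a (horseSnd D) i (Submodule.Quotient.mk zz) = 0 := by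
    rw [hzz, ← LinearMap.comp_apply, ← h1]
    exact h
  rw [mapHW_mk] at h4
  have h5 : (zz.1).2 ∈ E''.cobdy a i := by
    have := (Submodule.Quotient.mk_eq_zero _).mp h4
    exact this
  obtain ⟨pp, hpp, hppz⟩ := exists_left_of_snd_cobdyW a D zz.1 zz.2 h5
  refine ⟨Submodule.Quotient.mk ⟨pp, hpp⟩, ?_⟩
  have h6 : mapHW a (horseInl D) i (Submodule.Quotient.mk ⟨pp, hpp⟩) =
      Submodule.Quotient.mk zz := by
    rw [mapHW_mk]
    refine (Submodule.Quotient.eq _).mpr ?_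
    exact hppz
  rw [h2, LinearMap.comp_apply, h6, hzz, ← LinearMap.comp_apply, h3, LinearMap.id_apply]

/-- Surjectivity of `H^i_a(X) → H^i_a(X'')` when `H^{i+1}_a(X')` vanishes. -/
theorem surjW_right {f'' : X.carrier →ₗ[R] X''.carrier} (c'' : CMap E E'' f'')
    (hf'' : ∀ m, f'' m = S.g m) (i : ℕ)
    (hV : ∀ z : (E'.X (i + 1)).carrier, z ∈ E'.cocyc a (i + 1) → z ∈ E'.cobdy a (i + 1)) :
    Function.Surjective (mapHW a c'' i) := by
  obtain ⟨D⟩ := exists_hdata S E' E''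
  obtain ⟨p'⟩ := exists_cmap (horse D) E LinearMap.id isGrHom_id
  have h1 : mapHW a (horseSnd D) i = mapHW a c'' i ∘ₗ mapHW a p' i := by
    rw [← mapHW_comp]
    exact mapHW_eq a _ _ (fun m => (hf'' m).symm) i
  intro y
  obtain ⟨q, rfl⟩ := Submodule.Quotient.mk_surjective _ y
  have hq2 : E''.d i q.1 = 0 := q.2.2
  have hτ : D.τ i q.1 ∈ E'.cocyc a (i + 1) := by
    refine ⟨gam_map _ _ q.2.1, ?_⟩
    show E'.d (i + 1) (D.τ i q.1) = 0
    have := D.hs i q.1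
    rw [hq2, map_zero, add_zero] at this
    exact this
  obtain ⟨zz, hzz, hzq⟩ := exists_mid_of_tau_cobdyW a D q.1 q.2 (hV _ hτ)
  refine ⟨mapHW a p' i (Submodule.Quotient.mk ⟨zz, hzz⟩), ?_⟩
  rw [← LinearMap.comp_apply, ← h1, mapHW_mk]
  refine (Submodule.Quotient.eq _).mpr ?_
  show zz.2 - q.1 ∈ E''.cobdy a i
  rw [hzq, sub_self]
  exact zero_mem _

end exact

/-! ### Grothendieck vanishing for whole modules -/

section vanishing

variable {R : Type u} [CommRing R] {𝒜 : ℤ → AddSubgroup R} [GradedRing 𝒜]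
  (a : HomogeneousIdeal 𝒜)

theorem vanW_of_dim_lt [IsNoetherianRing R] (Y : GrLC.GMod.{u} 𝒜) (i : ℕ)
    (hi : ringKrullDim R < (i : WithBot ℕ∞)) (E : GrLC.StarInjRes 𝒜 Y.gr)
    (z : (E.X i).carrier) (hz : z ∈ E.cocyc a i) : z ∈ E.cobdy a i := by
  obtain ⟨e⟩ := Groth.Agent.S13224.result R 𝒜 a Y.carrier Y.gr E i
  have hsub : Subsingleton (LocCoh.H a.toIdeal i Y.carrier) :=
    Groth.Agent.S11625.result R a.toIdeal Y.carrier i
      (lt_of_le_of_lt (Module.supportDim_le_ringKrullDim R Y.carrier) hi)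
  have hs : Subsingleton (E.H a i) := e.toEquiv.subsingleton
  have h0 : E.toH a i ⟨z, hz⟩ = 0 := Subsingleton.elim _ _
  have := (Submodule.Quotient.mk_eq_zero _).mp h0
  exact this

end vanishing

end Groth.Agent.Lib.R2H7.GrFun
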