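/-
Whole-module version of the acyclic-resolution comparison: graded local cohomology is computed,
as a graded `R`-module (not just piece by piece), by a resolution by graded modules acyclic for
the torsion functor.  The connecting homomorphism of the horseshoe resolution on whole modules
(`deltaW`), its injectivity/surjectivity under vanishing, and the comparison isomorphisms
`exists_acycW_zero`, `exists_acycW_succ`.
-/
import Mathlib
import Groth.Agent.Lib.R2H7GrAcyc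
import Groth.Agent.Lib.R2H7GrFun

set_option autoImplicit false
open DirectSum

noncomputable section

namespace Groth.Agent.Lib.R2H7.GrAcycW

open Groth.Agent.Lib.Helper29GrCompare Groth.Agent.Lib.Helper29GrHom
  Groth.Agent.Lib.Helper29GrGam Groth.Agent.Lib.R2H7.GrDer Groth.Agent.Lib.R2H7.GrOps
  Groth.Agent.Lib.R2H7.GrLES Groth.Agent.Lib.R2H7.GrH Groth.Agent.Lib.R2H7.GrTors
  Groth.Agent.Lib.R2H7.GrAcyc Groth.Agent.Lib.R2H7.GrFun

universe u

variable {ι : Type} [AddCommGroup ι] [DecidableEq ι]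
variable {R : Type u} [CommRing R] {𝒜 : ι → AddSubgroup R} [GradedRing 𝒜]
variable (a : HomogeneousIdeal 𝒜)

/-! ### A graded injection reflects degrees -/

theorem mem_of_map_mem {M N : Type*} [AddCommGroup M] [AddCommGroup N]
    (ℳ : ι → AddSubgroup M) (𝒩 : ι → AddSubgroup N) (f : M →+ N) (hf : Function.Injective f)
    (hgr : ∀ g x, x ∈ ℳ g → f x ∈ 𝒩 g)
    (hspan : ∀ x : M, ∃ (s : Finset ι) (c : ι → M), (∀ g, c g ∈ ℳ g) ∧ x = ∑ g ∈ s, c g)
    (hind : iSupIndep 𝒩) {g : ι} {x : M} (hx : f x ∈ 𝒩 g) : x ∈ ℳ g := by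
  classical
  obtain ⟨s, c, hc, rfl⟩ := hspan x
  have hzero : ∀ g' ∈ s, g' ≠ g → c g' = 0 := by
    intro g' hg' hne
    apply hf
    rw [map_zero]
    have h1 : f (c g') ∈ 𝒩 g' := hgr g' _ (hc g')
    have h2 : f (c g') ∈ ⨆ (j) (_ : j ≠ g'), 𝒩 j := by
      have e1 : f (c g') = f (∑ g ∈ s, c g) - ∑ j ∈ s.erase g', f (c j) := by
        rw [map_sum, ← Finset.add_sum_erase s (fun j => f (c j)) hg']
        abel
      rw [e1]
      refine sub_mem (AddSubgroup.mem_iSup_of_mem g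
        (AddSubgroup.mem_iSup_of_mem hne.symm hx)) ?_
      refine AddSubgroup.sum_mem _ (fun j hj => ?_)
      exact AddSubgroup.mem_iSup_of_mem j
        (AddSubgroup.mem_iSup_of_mem (Finset.ne_of_mem_erase hj) (hgr j _ (hc j)))
    have h3 := (hind g').le_bot ⟨h1, h2⟩
    exact (AddSubgroup.mem_bot).mp h3
  by_cases hg : g ∈ s
  · rw [← Finset.add_sum_erase s c hg, Finset.sum_eq_zero (fun j hj =>
      hzero j (Finset.mem_of_mem_erase hj) (Finset.ne_of_mem_erase hj)), add_zero]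
    exact hc g
  · rw [Finset.sum_eq_zero (fun j hj => hzero j hj (fun h => hg (h ▸ hj)))]
    exact zero_mem _

/-! ### Cohomology of the torsion of a complex, whole modules -/

section defs

variable {Y0 Y1 Y2 : GrLC.GMod.{u} 𝒜}

/-- The torsion cocycles of `Y1 → Y2`. -/
def ZW (d1 : Y1.carrier →ₗ[R] Y2.carrier) : Submodule R Y1.carrier :=
  GrLC.gam a.toIdeal Y1.carrier ⊓ LinearMap.ker d1

theorem mem_ZW {d1 : Y1.carrier →ₗ[R] Y2.carrier} {z : Y1.carrier} :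
    z ∈ ZW a d1 ↔ z ∈ GrLC.gam a.toIdeal Y1.carrier ∧ d1 z = 0 := Iff.rfl

/-- The torsion coboundaries among the cocycles. -/
def BW (d0 : Y0.carrier →ₗ[R] Y1.carrier) (d1 : Y1.carrier →ₗ[R] Y2.carrier) :
    Submodule R ↥(ZW a d1) :=
  ((GrLC.gam a.toIdeal Y0.carrier).map d0).comap (ZW a d1).subtype

theorem mem_BW {d0 : Y0.carrier →ₗ[R] Y1.carrier} {d1 : Y1.carrier →ₗ[R] Y2.carrier}
    {z : ↥(ZW a d1)} :
    z ∈ BW a d0 d1 ↔ ∃ w ∈ GrLC.gam a.toIdeal Y0.carrier, d0 w = z.1 := Iff.rfl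

/-- The cohomology of the torsion of `Y0 → Y1 → Y2`. -/
abbrev HW (d0 : Y0.carrier →ₗ[R] Y1.carrier) (d1 : Y1.carrier →ₗ[R] Y2.carrier) : Type u :=
  ↥(ZW a d1) ⧸ BW a d0 d1

/-- The classes of the cocycles of degree `g`. -/
def HWgr (d0 : Y0.carrier →ₗ[R] Y1.carrier) (d1 : Y1.carrier →ₗ[R] Y2.carrier) (g : ι) :
    AddSubgroup (HW a d0 d1) where
  carrier := {x | ∃ z : ↥(ZW a d1), (z : Y1.carrier) ∈ Y1.gr g ∧ Submodule.Quotient.mk z = x}
  zero_mem' := ⟨0, zero_mem _, rfl⟩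
  add_mem' := by
    rintro x y ⟨z, hz, rfl⟩ ⟨w, hw, rfl⟩
    exact ⟨z + w, add_mem hz hw, rfl⟩
  neg_mem' := by
    rintro x ⟨z, hz, rfl⟩
    exact ⟨-z, neg_mem hz, rfl⟩

theorem mem_HWgr {d0 : Y0.carrier →ₗ[R] Y1.carrier} {d1 : Y1.carrier →ₗ[R] Y2.carrier} {g : ι}
    {x : HW a d0 d1} :
    x ∈ HWgr a d0 d1 g ↔
      ∃ z : ↥(ZW a d1), (z : Y1.carrier) ∈ Y1.gr g ∧ Submodule.Quotient.mk z = x := Iff.rfl

theorem ZW_isHomogeneous (d1 : Y1.carrier →ₗ[R] Y2.carrier)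
    (h1 : GrLC.IsGrHom Y1.gr Y2.gr d1) : (ZW a d1).IsHomogeneous Y1.gr :=
  inf_isHomogeneous Y1.gr (gam_isHomogeneous 𝒜 Y1.gr a) (ker_isHomogeneous Y2.gr Y1.gr d1 h1)

/-- Every class is a finite sum of homogeneous classes. -/
theorem HW_span (d0 : Y0.carrier →ₗ[R] Y1.carrier) (d1 : Y1.carrier →ₗ[R] Y2.carrier)
    (h1 : GrLC.IsGrHom Y1.gr Y2.gr d1) (x : HW a d0 d1) :
    ∃ (s : Finset ι) (c : ι → HW a d0 d1), (∀ g, c g ∈ HWgr a d0 d1 g) ∧ x = ∑ g ∈ s, c g := by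
  classical
  obtain ⟨z, rfl⟩ := Submodule.Quotient.mk_surjective _ x
  have hhom := ZW_isHomogeneous a d1 h1
  refine ⟨(decompose Y1.gr z.1).support, fun g => Submodule.Quotient.mk
    ⟨((decompose Y1.gr z.1) g : Y1.carrier), hhom g z.2⟩, fun g => ⟨_, SetLike.coe_mem _, rfl⟩, ?_⟩
  have h2 : z = ∑ g ∈ (decompose Y1.gr z.1).support,
      (⟨((decompose Y1.gr z.1) g : Y1.carrier), hhom g z.2⟩ : ↥(ZW a d1)) := by
    apply Subtype.ext
    rw [Submodule.coe_sum]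
    exact (DirectSum.sum_support_decompose Y1.gr z.1).symm
  conv_lhs => rw [h2]
  exact map_sum (Submodule.mkQ (BW a d0 d1)) _ _

end defs

/-! ### Whole-module vanishing -/

theorem vanW_of_vanX {W : GrLC.GMod.{u} 𝒜} (E : GrLC.StarInjRes 𝒜 W.gr) (i : ℕ)
    (h : ∀ g : ι, VanX a W i g) (z : (E.X i).carrier) (hz : z ∈ E.cocyc a i) :
    z ∈ E.cobdy a i := by
  classical
  have hhom : (E.cocyc a i).IsHomogeneous (E.X i).gr :=
    inf_isHomogeneous (E.X i).gr (gam_isHomogeneous 𝒜 (E.X i).gr a)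
      (ker_isHomogeneous (E.X (i + 1)).gr (E.X i).gr (E.d i) (E.d_grHom i))
  rw [← DirectSum.sum_support_decompose (E.X i).gr z]
  refine Submodule.sum_mem _ (fun g _ => ?_)
  exact (vanX_iff a E).1 (h g) _ (hhom g hz) (SetLike.coe_mem _)

/-! ### The connecting homomorphism on whole modules -/

section delta

variable {X' X X'' : GrLC.GMod.{u} 𝒜} {S : GSES X' X X''}
  {E' : GrLC.StarInjRes 𝒜 X'.gr} {E'' : GrLC.StarInjRes 𝒜 X''.gr} (D : HData S E' E'')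

theorem tau_mem_cocyc {i : ℕ} {q : (E''.X i).carrier} (hq : q ∈ E''.cocyc a i) :
    D.τ i q ∈ E'.cocyc a (i + 1) := by
  refine ⟨gam_map _ _ hq.1, ?_⟩
  show E'.d (i + 1) (D.τ i q) = 0
  have h := D.hs i q
  have hq2 : E''.d i q = 0 := hq.2
  rw [hq2, map_zero, add_zero] at h
  exact h

theorem tau_mem_cobdy {i : ℕ} {q : (E''.X i).carrier} (hq : q ∈ E''.cobdy a i) :
    D.τ i q ∈ E'.cobdy a (i + 1) := by
  cases i with
  | zero =>
    have hq0 : q = 0 := (Submodule.mem_bot R).mp hq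
    rw [hq0, map_zero]
    exact zero_mem _
  | succ n =>
    obtain ⟨q₁, hq₁g, hq₁e⟩ := hq
    have hq₁e' : E''.d n q₁ = q := hq₁e
    refine ⟨-(D.τ n q₁), neg_mem (gam_map _ _ hq₁g), ?_⟩
    show E'.d (n + 1) (-(D.τ n q₁)) = D.τ (n + 1) q
    have h := D.hs n q₁
    rw [hq₁e'] at h
    rw [map_neg]
    exact neg_eq_of_add_eq_zero_right h

/-- The map induced by `τ` on cocycles. -/
def tauZ (i : ℕ) : ↥(E''.cocyc a i) →ₗ[R] ↥(E'.cocyc a (i + 1)) :=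
  (D.τ i).restrict (fun _ hq => tau_mem_cocyc a D hq)

theorem tauZ_coe (i : ℕ) (q : ↥(E''.cocyc a i)) :
    ((tauZ a D i q : ↥(E'.cocyc a (i + 1))) : (E'.X (i + 1)).carrier) = D.τ i q.1 := rfl

/-- The connecting homomorphism `H^i_a(X'') → H^{i+1}_a(X')` on whole modules. -/
def deltaW (i : ℕ) : E''.H a i →ₗ[R] E'.H a (i + 1) :=
  Submodule.mapQ _ _ (tauZ a D i) (fun q hq => by
    have hq' : (q : (E''.X i).carrier) ∈ E''.cobdy a i := hq
    exact tau_mem_cobdy a D hq')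

theorem deltaW_mk (i : ℕ) (q : ↥(E''.cocyc a i)) :
    deltaW a D i (Submodule.Quotient.mk q) = Submodule.Quotient.mk (tauZ a D i q) := rfl

theorem deltaW_mem_hgr {i : ℕ} {g : ι} {ξ : E''.H a i} (hξ : ξ ∈ E''.Hgr a i g) :
    deltaW a D i ξ ∈ E'.Hgr a (i + 1) g := by
  obtain ⟨z, hz, rfl⟩ := hξ
  exact ⟨tauZ a D i z, D.τ_gr i g _ hz, rfl⟩

theorem deltaW_injective {i : ℕ}
    (hV : ∀ zz : (E'.X i).carrier × (E''.X i).carrier,
      zz ∈ (horse D).cocyc a i → zz ∈ (horse D).cobdy a i) :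
    Function.Injective (deltaW a D i) := by
  rw [injective_iff_map_eq_zero]
  intro ξ hξ
  obtain ⟨q, rfl⟩ := Submodule.Quotient.mk_surjective _ ξ
  rw [deltaW_mk] at hξ
  have h0 := (Submodule.Quotient.mk_eq_zero _).mp hξ
  have h1 : D.τ i q.1 ∈ E'.cobdy a (i + 1) := h0
  obtain ⟨zz, hzz, hzq⟩ := exists_mid_of_tau_cobdyW a D q.1 q.2 h1
  have h2 : (horseSnd D).θ i zz ∈ E''.cobdy a i := (horseSnd D).cobdy a (hV zz hzz)
  refine (Submodule.Quotient.mk_eq_zero _).mpr ?_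
  show q.1 ∈ E''.cobdy a i
  rw [← hzq]
  exact h2

theorem deltaW_surjective {i : ℕ}
    (hV : ∀ zz : (E'.X (i + 1)).carrier × (E''.X (i + 1)).carrier,
      zz ∈ (horse D).cocyc a (i + 1) → zz ∈ (horse D).cobdy a (i + 1)) :
    Function.Surjective (deltaW a D i) := by
  intro ξ
  obtain ⟨p, rfl⟩ := Submodule.Quotient.mk_surjective _ ξ
  have hp : ((p.1, 0) : (E'.X (i + 1)).carrier × (E''.X (i + 1)).carrier) ∈
      (horse D).cocyc a (i + 1) := by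
    rw [horse_cocyc_iff]
    refine ⟨⟨p.2.1, zero_mem _⟩, ?_, map_zero _⟩
    show E'.d (i + 1) p.1 + D.τ (i + 1) 0 = 0
    rw [map_zero, add_zero]
    exact p.2.2
  obtain ⟨w, hwg, hwe⟩ := hV _ hp
  have hwe' : hd D i w = ((p.1, 0) : (E'.X (i + 1)).carrier × (E''.X (i + 1)).carrier) := hwe
  rw [hd_apply, Prod.mk.injEq] at hwe'
  obtain ⟨h1, h2⟩ := hwe'
  have hwg' := (mem_gam_prod (X := E'.X i) (Y := E''.X i) a.toIdeal).mp hwg
  have hw2 : w.2 ∈ E''.cocyc a i := ⟨hwg'.2, h2⟩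
  refine ⟨Submodule.Quotient.mk ⟨w.2, hw2⟩, ?_⟩
  rw [deltaW_mk]
  refine (Submodule.Quotient.eq _).mpr ?_
  show D.τ i w.2 - p.1 ∈ E'.cobdy a (i + 1)
  refine ⟨-w.1, neg_mem hwg'.1, ?_⟩
  show E'.d i (-w.1) = D.τ i w.2 - p.1
  rw [map_neg, ← h1]
  abel

end delta

/-! ### Degree zero -/

section zero

variable {X : GrLC.GMod.{u} 𝒜} (F : GrLC.StarInjRes 𝒜 X.gr)

/-- `Γ_a(X) → Z^0`. -/
def epsZ0 : ↥(GrLC.gam a.toIdeal X.carrier) →ₗ[R] ↥(F.cocyc a 0) :=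
  F.ε.restrict (p := GrLC.gam a.toIdeal X.carrier) (q := F.cocyc a 0)
    (fun x hx => ⟨gam_map _ _ hx, E_d_ε 𝒜 X.gr F x⟩)

/-- `Γ_a(X) → H^0_a(X)`. -/
def gamToH0 : ↥(GrLC.gam a.toIdeal X.carrier) →ₗ[R] F.H a 0 :=
  F.toH a 0 ∘ₗ epsZ0 a F

theorem gamToH0_apply (x : ↥(GrLC.gam a.toIdeal X.carrier)) :
    gamToH0 a F x = Submodule.Quotient.mk (epsZ0 a F x) := rfl

theorem gamToH0_bijective : Function.Bijective (gamToH0 a F) := by
  constructor
  · rw [injective_iff_map_eq_zero]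
    intro x hx
    rw [gamToH0_apply] at hx
    have h0 := (Submodule.Quotient.mk_eq_zero _).mp hx
    have h1 : F.ε x.1 ∈ F.cobdy a 0 := h0
    have h2 : F.ε x.1 = 0 := (Submodule.mem_bot R).mp h1
    apply Subtype.ext
    exact F.ε_injective (h2.trans (map_zero F.ε).symm)
  · intro ξ
    obtain ⟨z, rfl⟩ := Submodule.Quotient.mk_surjective _ ξ
    have hz2 : (z : (F.X 0).carrier) ∈ LinearMap.range F.ε := by
      rw [← F.exact_zero]
      exact z.2.2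
    obtain ⟨x, hx⟩ := hz2
    have hxg : x ∈ GrLC.gam a.toIdeal X.carrier := by
      obtain ⟨n, hn⟩ := z.2.1
      exact ⟨n, fun r hr => F.ε_injective (by rw [map_smul, hx, hn r hr, map_zero])⟩
    refine ⟨⟨x, hxg⟩, ?_⟩
    show Submodule.Quotient.mk _ = Submodule.Quotient.mk z
    congr 1
    exact Subtype.ext hx

variable (G : GRes X)

/-- `Γ_a(X) → ker (Γ_a(A 0) → Γ_a(A 1))`. -/
def gamToZW : ↥(GrLC.gam a.toIdeal X.carrier) →ₗ[R] ↥(ZW a (G.d 0)) :=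
  G.ε.restrict (p := GrLC.gam a.toIdeal X.carrier) (q := ZW a (G.d 0))
    (fun x hx => ⟨gam_map _ _ hx, d_ε G.ε (G.d 0) G.exact_zero x⟩)

theorem gamToZW_bijective : Function.Bijective (gamToZW a G) := by
  constructor
  · intro x y hxy
    apply Subtype.ext
    apply G.ε_inj
    exact congrArg Subtype.val hxy
  · intro z
    have hz2 : (z : (G.A 0).carrier) ∈ LinearMap.range G.ε := by
      rw [← G.exact_zero]
      exact z.2.2
    obtain ⟨x, hx⟩ := hz2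
    have hxg : x ∈ GrLC.gam a.toIdeal X.carrier := by
      obtain ⟨n, hn⟩ := z.2.1
      exact ⟨n, fun r hr => G.ε_inj (by rw [map_smul, hx, hn r hr, map_zero])⟩
    exact ⟨⟨x, hxg⟩, Subtype.ext hx⟩

theorem acycW_zero {Y0 : GrLC.GMod.{u} 𝒜} (d0 : Y0.carrier →ₗ[R] (G.A 0).carrier)
    (hd0 : ∀ y, d0 y = 0) :
    ∃ e : HW a d0 (G.d 0) ≃ₗ[R] F.H a 0,
      ∀ (g : ι) (w : ↥(ZW a (G.d 0))), (w : (G.A 0).carrier) ∈ (G.A 0).gr g →
        e (Submodule.Quotient.mk w) ∈ F.Hgr a 0 g := by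
  have hbot : BW a d0 (G.d 0) = ⊥ := by
    rw [eq_bot_iff]
    rintro z ⟨w, -, hw⟩
    rw [hd0] at hw
    exact (Submodule.mem_bot R).mpr (Subtype.ext hw.symm)
  let e1 := Submodule.quotEquivOfEqBot (BW a d0 (G.d 0)) hbot
  let e2 := LinearEquiv.ofBijective (gamToZW a G) (gamToZW_bijective a G)
  let e3 := LinearEquiv.ofBijective (gamToH0 a F) (gamToH0_bijective a F)
  refine ⟨e1.trans (e2.symm.trans e3), fun g w hw => ?_⟩
  have h1 : e1 (Submodule.Quotient.mk w) = w := Submodule.quotEquivOfEqBot_apply_mk _ hbot w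
  have h2 : (e1.trans (e2.symm.trans e3)) (Submodule.Quotient.mk w) = e3 (e2.symm w) := by
    show e3 (e2.symm (e1 (Submodule.Quotient.mk w))) = _
    rw [h1]
  rw [h2]
  have h3 : G.ε (e2.symm w).1 = w.1 := by
    have := congrArg Subtype.val (e2.apply_symm_apply w)
    exact this
  have h4 : (e2.symm w).1 ∈ X.gr g :=
    mem_gr_of_map_mem G.ε G.ε_gr G.ε_inj (by rw [h3]; exact hw)
  exact ⟨_, F.ε_grHom g _ h4, rfl⟩

end zero

/-! ### Degree one and dimension shifting -/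

section main

variable {X : GrLC.GMod.{u} 𝒜}

theorem acycW_one (G : GRes X) (F : GrLC.StarInjRes 𝒜 X.gr) (hac : ∀ g, VanX a (G.A 0) 1 g) :
    ∃ e : HW a (G.d 0) (G.d 1) ≃ₗ[R] F.H a 1,
      ∀ (g : ι) (w : ↥(ZW a (G.d 1))), (w : (G.A 1).carrier) ∈ (G.A 1).gr g →
        e (Submodule.Quotient.mk w) ∈ F.Hgr a 1 g := by
  classical
  obtain ⟨F''⟩ := exists_res G.Z1
  obtain ⟨D⟩ := exists_hdata G.ses F F''
  let ζ0 : ↥(ZW a (G.d 1)) →ₗ[R] G.Z1.carrier :=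
    LinearMap.codRestrict (LinearMap.ker (G.d 1)) (ZW a (G.d 1)).subtype (fun w => w.2.2)
  have htors : ∀ w : ↥(ZW a (G.d 1)), ζ0 w ∈ GrLC.gam a.toIdeal G.Z1.carrier := by
    intro w
    obtain ⟨n, hn⟩ := w.2.1
    exact ⟨n, fun r hr => Subtype.ext (hn r hr)⟩
  let ζ : ↥(ZW a (G.d 1)) →ₗ[R] ↥(F''.cocyc a 0) :=
    LinearMap.codRestrict (F''.cocyc a 0) (F''.ε ∘ₗ ζ0)
      (fun w => ⟨gam_map _ F''.ε (htors w), E_d_ε 𝒜 G.Z1.gr F'' (ζ0 w)⟩)
  let κ : ↥(ZW a (G.d 1)) →ₗ[R] F.H a 1 := deltaW a D 0 ∘ₗ F''.toH a 0 ∘ₗ ζ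
  have hκ : ∀ w, κ w = Submodule.Quotient.mk (tauZ a D 0 (ζ w)) := fun w => rfl
  have hsurj : Function.Surjective κ := by
    intro ξ
    obtain ⟨η, rfl⟩ := deltaW_surjective a D
      (fun zz hzz => vanW_of_vanX a (horse D) 1 hac zz hzz) ξ
    obtain ⟨z'', rfl⟩ := Submodule.Quotient.mk_surjective _ η
    have hz2 : (z'' : (F''.X 0).carrier) ∈ LinearMap.range F''.ε := by
      rw [← F''.exact_zero]
      exact z''.2.2
    obtain ⟨z1, hz1⟩ := hz2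
    have hz1g : z1 ∈ GrLC.gam a.toIdeal G.Z1.carrier := by
      obtain ⟨n, hn⟩ := z''.2.1
      exact ⟨n, fun r hr => F''.ε_injective (by rw [map_smul, hz1, hn r hr, map_zero])⟩
    have hw : z1.1 ∈ ZW a (G.d 1) := by
      refine ⟨?_, z1.2⟩
      obtain ⟨n, hn⟩ := hz1g
      exact ⟨n, fun r hr => congrArg Subtype.val (hn r hr)⟩
    refine ⟨⟨z1.1, hw⟩, ?_⟩
    show deltaW a D 0 (Submodule.Quotient.mk (ζ ⟨z1.1, hw⟩)) =
      deltaW a D 0 (Submodule.Quotient.mk z'')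
    congr 2
    exact Subtype.ext hz1
  have hker : LinearMap.ker κ = BW a (G.d 0) (G.d 1) := by
    ext w
    rw [LinearMap.mem_ker, mem_BW, hκ]
    constructor
    · intro hw
      have h0 := (Submodule.Quotient.mk_eq_zero _).mp hw
      have h1 : D.τ 0 (F''.ε (ζ0 w)) ∈ F.cobdy a (0 + 1) := h0
      obtain ⟨zz, hzz, hzq⟩ := exists_mid_of_tau_cobdyW a D (F''.ε (ζ0 w)) (ζ w).2 h1
      have h2 : zz ∈ LinearMap.range (hε D) := by
        rw [← hd_exact_zero D]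
        exact hzz.2
      obtain ⟨x, hx⟩ := h2
      have hxg : x ∈ GrLC.gam a.toIdeal (G.A 0).carrier := by
        obtain ⟨n, hn⟩ := hzz.1
        refine ⟨n, fun r hr => hε_injective D ?_⟩
        rw [map_smul, hx]
        exact (hn r hr).trans (map_zero (hε D)).symm
      refine ⟨x, hxg, ?_⟩
      have h3 : F''.ε (G.ses.g x) = F''.ε (ζ0 w) := by
        rw [← hzq, ← hx]
        rfl
      have h4 : G.ses.g x = ζ0 w := F''.ε_injective h3
      exact congrArg Subtype.val h4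
    · rintro ⟨x, hxg, hxw⟩
      refine (Submodule.Quotient.mk_eq_zero _).mpr ?_
      show D.τ 0 (F''.ε (ζ0 w)) ∈ F.cobdy a (0 + 1)
      have h4 : G.ses.g x = ζ0 w := Subtype.ext hxw
      rw [← h4]
      refine ⟨-(D.σ x), neg_mem (gam_map _ D.σ hxg), ?_⟩
      show F.d 0 (-(D.σ x)) = D.τ 0 (F''.ε (G.ses.g x))
      rw [map_neg]
      exact neg_eq_of_add_eq_zero_right (D.h0 x)
  refine ⟨(Submodule.quotEquivOfEq _ _ hker.symm).trans (κ.quotKerEquivOfSurjective hsurj),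
    fun g w hw => ?_⟩
  have he : ((Submodule.quotEquivOfEq _ _ hker.symm).trans
      (κ.quotKerEquivOfSurjective hsurj)) (Submodule.Quotient.mk w) = κ w := rfl
  rw [he, hκ]
  have hw' : ζ0 w ∈ G.Z1.gr g := hw
  exact ⟨tauZ a D 0 (ζ w), D.τ_gr 0 g _ (F''.ε_grHom g _ hw'), rfl⟩

/-- Graded local cohomology is computed, as a module, by a resolution by acyclic graded
modules. -/
theorem acycW_succ (n : ℕ) : ∀ (X : GrLC.GMod.{u} 𝒜) (G : GRes X)
    (_ : ∀ (k i : ℕ) (g : ι), VanX a (G.A k) (i + 1) g) (F : GrLC.StarInjRes 𝒜 X.gr),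
    ∃ e : HW a (G.d n) (G.d (n + 1)) ≃ₗ[R] F.H a (n + 1),
      ∀ (g : ι) (w : ↥(ZW a (G.d (n + 1)))),
        (w : (G.A (n + 1)).carrier) ∈ (G.A (n + 1)).gr g →
          e (Submodule.Quotient.mk w) ∈ F.Hgr a (n + 1) g := by
  induction n with
  | zero =>
    intro X G hac F
    exact acycW_one a G F (fun g => hac 0 0 g)
  | succ n ih =>
    intro X G hac F
    obtain ⟨F''⟩ := exists_res G.Z1
    obtain ⟨D⟩ := exists_hdata G.ses F F''
    obtain ⟨e₁, he₁⟩ := ih G.Z1 G.tail (fun k i g => hac (k + 1) i g) F''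
    have hinj := deltaW_injective a D (i := n + 1)
      (fun zz hzz => vanW_of_vanX a (horse D) (n + 1) (fun g => hac 0 n g) zz hzz)
    have hsurj := deltaW_surjective a D (i := n + 1)
      (fun zz hzz => vanW_of_vanX a (horse D) (n + 1 + 1) (fun g => hac 0 (n + 1) g) zz hzz)
    refine ⟨e₁.trans (LinearEquiv.ofBijective (deltaW a D (n + 1)) ⟨hinj, hsurj⟩),
      fun g w hw => ?_⟩
    exact deltaW_mem_hgr a D (he₁ g w hw)

end main

/-! ### Packaged statements with degrees in both directions -/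

section packaged

variable {X : GrLC.GMod.{u} 𝒜} (G : GRes X) (F : GrLC.StarInjRes 𝒜 X.gr)

theorem mem_iff_of_equiv {Y0 Y1 Y2 : GrLC.GMod.{u} 𝒜} (d0 : Y0.carrier →ₗ[R] Y1.carrier)
    (d1 : Y1.carrier →ₗ[R] Y2.carrier) (h1 : GrLC.IsGrHom Y1.gr Y2.gr d1) (p : ℕ)
    (hind : iSupIndep (F.Hgr a p)) (e : HW a d0 d1 ≃ₗ[R] F.H a p)
    (he : ∀ (g : ι) (w : ↥(ZW a d1)), (w : Y1.carrier) ∈ Y1.gr g →
      e (Submodule.Quotient.mk w) ∈ F.Hgr a p g) (g : ι) (ξ : HW a d0 d1) :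
    ξ ∈ HWgr a d0 d1 g ↔ e ξ ∈ F.Hgr a p g := by
  constructor
  · rintro ⟨w, hw, rfl⟩
    exact he g w hw
  · intro h
    refine mem_of_map_mem (HWgr a d0 d1) (F.Hgr a p) (e : HW a d0 d1 →+ F.H a p)
      e.injective ?_ (HW_span a d0 d1 h1) hind h
    rintro g' x ⟨w, hw, rfl⟩
    exact he g' w hw

theorem exists_acycW_zero {Y0 : GrLC.GMod.{u} 𝒜} (d0 : Y0.carrier →ₗ[R] (G.A 0).carrier)
    (hd0 : ∀ y, d0 y = 0) (hind : iSupIndep (F.Hgr a 0)) :
    ∃ e : HW a d0 (G.d 0) ≃ₗ[R] F.H a 0,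
      ∀ (g : ι) (ξ : HW a d0 (G.d 0)), ξ ∈ HWgr a d0 (G.d 0) g ↔ e ξ ∈ F.Hgr a 0 g := by
  obtain ⟨e, he⟩ := acycW_zero a F G d0 hd0
  exact ⟨e, mem_iff_of_equiv a F d0 (G.d 0) (G.d_gr 0) 0 hind e he⟩

theorem exists_acycW_succ (n : ℕ) (hac : ∀ (k i : ℕ) (g : ι), VanX a (G.A k) (i + 1) g)
    (hind : iSupIndep (F.Hgr a (n + 1))) :
    ∃ e : HW a (G.d n) (G.d (n + 1)) ≃ₗ[R] F.H a (n + 1),
      ∀ (g : ι) (ξ : HW a (G.d n) (G.d (n + 1))),
        ξ ∈ HWgr a (G.d n) (G.d (n + 1)) g ↔ e ξ ∈ F.Hgr a (n + 1) g := by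
  obtain ⟨e, he⟩ := acycW_succ a n X G hac F
  exact ⟨e, mem_iff_of_equiv a F (G.d n) (G.d (n + 1)) (G.d_gr (n + 1)) (n + 1) hind e he⟩

end packaged

end Groth.Agent.Lib.R2H7.GrAcycW
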