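/-
Artinian-ness of the pieces of graded local cohomology with support in a maximal homogeneous
ideal.  (1) Over a Noetherian ring the local cohomology `H^i_m(M)` of a finitely generated module
with support in a maximal ideal `m` is Artinian (flat base change to `R_m`, where it is S0817;
an `m`-power torsion module has the same submodules as its localization at `m`).  (2) If the
graded local cohomology module `H^i_a(X)` is Artinian over `R`, each piece is Artinian over `R_0`.
-/
import Mathlib
import Groth.Agent.Lib.R2H7GrH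
import Groth.Agent.Lib.R2H7GrHt
import Groth.Agent.S11617
import Groth.Agent.S0817
import Groth.Agent.S13224

set_option autoImplicit false
open DirectSum

noncomputable section

namespace Groth.Agent.Lib.R2H7.GrArt

open Groth.Agent.Lib.R2H7.GrDer Groth.Agent.Lib.R2H7.GrOps Groth.Agent.Lib.R2H7.GrLES
  Groth.Agent.Lib.R2H7.GrH
  Groth.Agent.Lib.Helper29GrEss Groth.Agent.Lib.Helper29GrHom Groth.Agent.Lib.Helper29GrGam

universe u

/-! ### Local cohomology with support in a maximal ideal is Artinian -/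

section ungraded

/-- In an `m`-power torsion module, membership in a submodule can be tested after localizing at
the maximal ideal `m`. -/
theorem mem_of_map_mem_localized' {R : Type u} [CommRing R] (m : Ideal R) [hm : m.IsMaximal]
    {N T : Type u} [AddCommGroup N] [Module R N] [AddCommGroup T] [Module R T]
    [Module (Localization.AtPrime m) T] [IsScalarTower R (Localization.AtPrime m) T]
    (ℓ : N →ₗ[R] T) [IsLocalizedModule m.primeCompl ℓ]
    (hN : LocCoh.IsPowerTorsion m N) (N' : Submodule R N) (x : N)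
    (hx : ℓ x ∈ Submodule.localized' (Localization.AtPrime m) m.primeCompl ℓ N') : x ∈ N' := by
  obtain ⟨n', hn', s, hs⟩ := hx
  have h1 : ℓ n' = s • ℓ x := IsLocalizedModule.mk'_eq_iff.mp hs
  have h2 : ℓ (n' - (s : R) • x) = 0 := by
    rw [map_sub, map_smul, h1, Submonoid.smul_def, sub_self]
  obtain ⟨t, ht⟩ := (IsLocalizedModule.eq_zero_iff m.primeCompl ℓ).mp h2
  rw [Submonoid.smul_def, smul_sub, sub_eq_zero] at ht
  obtain ⟨k, hk⟩ := hN x
  have hu : ((t : R) * (s : R)) ∉ m := (t * s).2
  obtain ⟨y, i, hi, hyi⟩ := hm.exists_inv hu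
  have hc : IsCoprime ((t : R) * (s : R)) i := ⟨y, 1, by rw [one_mul]; exact hyi⟩
  obtain ⟨c, b, hcb⟩ := hc.pow_right (n := k)
  have hbk : b * i ^ k ∈ m ^ k := Ideal.mul_mem_left _ _ (Ideal.pow_mem_pow hi k)
  have hx1 : x = c • ((t : R) • n') := by
    calc x = (1 : R) • x := (one_smul R x).symm
      _ = (c * ((t : R) * (s : R)) + b * i ^ k) • x := by rw [hcb]
      _ = c • ((t : R) • (s : R) • x) + (b * i ^ k) • x := by
        rw [add_smul, mul_smul, mul_smul]
      _ = c • ((t : R) • n') := by rw [hk _ hbk, add_zero, ← ht]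
  rw [hx1]
  exact N'.smul_mem _ (N'.smul_mem _ hn')

/-- An `m`-power torsion module whose localization at the maximal ideal `m` is Artinian is
Artinian. -/
theorem isArtinian_of_isLocalizedModule {R : Type u} [CommRing R] (m : Ideal R) [hm : m.IsMaximal]
    {N T : Type u} [AddCommGroup N] [Module R N] [AddCommGroup T] [Module R T]
    [Module (Localization.AtPrime m) T] [IsScalarTower R (Localization.AtPrime m) T]
    (ℓ : N →ₗ[R] T) [IsLocalizedModule m.primeCompl ℓ] (hN : LocCoh.IsPowerTorsion m N)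
    [hT : IsArtinian (Localization.AtPrime m) T] : IsArtinian R N := by
  rw [← monotone_stabilizes_iff_artinian]
  intro f
  let F : ℕ →o (Submodule (Localization.AtPrime m) T)ᵒᵈ :=
    ⟨fun k => OrderDual.toDual (Submodule.localized' (Localization.AtPrime m) m.primeCompl ℓ
      (OrderDual.ofDual (f k))),
     fun a b hab => (Submodule.localized'gi (Localization.AtPrime m) m.primeCompl ℓ).gc.monotone_l
      (f.monotone hab)⟩
  obtain ⟨n, hn⟩ := monotone_stabilizes_iff_artinian.mpr hT F
  refine ⟨n, fun k hk => le_antisymm (f.monotone hk) ?_⟩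
  show OrderDual.ofDual (f n) ≤ OrderDual.ofDual (f k)
  intro x hx
  apply mem_of_map_mem_localized' m ℓ hN _ x
  have h2 : Submodule.localized' (Localization.AtPrime m) m.primeCompl ℓ (OrderDual.ofDual (f n)) =
      Submodule.localized' (Localization.AtPrime m) m.primeCompl ℓ (OrderDual.ofDual (f k)) :=
    congrArg OrderDual.ofDual (hn k hk)
  rw [← h2]
  exact ⟨x, hx, 1, IsLocalizedModule.mk'_one _ ℓ x⟩

end ungraded

/-- Over a Noetherian ring, the local cohomology of a finitely generated module with support in a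
maximal ideal is Artinian. -/
theorem isArtinian_localCohomology_of_isMaximal {R : Type u} [CommRing R] [IsNoetherianRing R]
    (m : Ideal R) [m.IsMaximal] (M : Type u) [AddCommGroup M] [Module R M] [Module.Finite R M]
    (i : ℕ) : IsArtinian R (LocCoh.H m i M) := by
  obtain ⟨e⟩ := Groth.Agent.S11617.result R (Localization.AtPrime m) m M i
  have hA : IsArtinian (Localization.AtPrime m)
      (LocCoh.H (IsLocalRing.maximalIdeal (Localization.AtPrime m)) i
        (TensorProduct R (Localization.AtPrime m) M)) :=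
    Groth.Agent.S0817.result (Localization.AtPrime m) (TensorProduct R (Localization.AtPrime m) M) i
  rw [← IsLocalization.AtPrime.map_eq_maximalIdeal m (Localization.AtPrime m)] at hA
  have hT : IsArtinian (Localization.AtPrime m)
      (TensorProduct R (Localization.AtPrime m) (LocCoh.H m i M)) :=
    isArtinian_of_linearEquiv e.symm
  have hloc : IsLocalizedModule m.primeCompl
      (TensorProduct.mk R (Localization.AtPrime m) (LocCoh.H m i M) 1) :=
    (isLocalizedModule_iff_isBaseChange m.primeCompl (Localization.AtPrime m) _).mpr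
      (TensorProduct.isBaseChange R (LocCoh.H m i M) (Localization.AtPrime m))
  exact isArtinian_of_isLocalizedModule m
    (TensorProduct.mk R (Localization.AtPrime m) (LocCoh.H m i M) 1)
    (fun x => Groth.Agent.Lib.Helper8.LC.isPowerTorsion_H m i (ModuleCat.of R M) x)

/-! ### The pieces of an Artinian graded local cohomology module -/

section pieces

variable {ι : Type} [AddCommGroup ι] [DecidableEq ι]
variable {R : Type u} [CommRing R] {𝒜 : ι → AddSubgroup R} [GradedRing 𝒜]
variable {X : GrLC.GMod.{u} 𝒜} (a : HomogeneousIdeal 𝒜) (E : GrLC.StarInjRes 𝒜 X.gr)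

theorem cocyc_isHomogeneous (i : ℕ) : (E.cocyc a i).IsHomogeneous (E.X i).gr :=
  inf_isHomogeneous (E.X i).gr (gam_isHomogeneous 𝒜 (E.X i).gr a)
    (ker_isHomogeneous (E.X (i + 1)).gr (E.X i).gr (E.d i) (E.d_grHom i))

theorem cobdy_isHomogeneous (i : ℕ) : (E.cobdy a i).IsHomogeneous (E.X i).gr := by
  cases i with
  | zero => exact Groth.Agent.Lib.Helper29GrSub.IsHomogeneous.bot _
  | succ n =>
    exact map_isHomogeneous (E.X n).gr (E.X (n + 1)).gr (E.d n) (E.d_grHom n)
      (gam_isHomogeneous 𝒜 (E.X n).gr a)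

/-- The degree `g` component of a cocycle, as a cocycle of degree `g`. -/
def projZ (i : ℕ) (g : ι) (z : ↥(E.cocyc a i)) : ↥(Zg a E i g) :=
  ⟨((decompose (E.X i).gr z.1) g : (E.X i).carrier),
    (mem_Zg a E).mpr ⟨cocyc_isHomogeneous a E i g z.2, SetLike.coe_mem _⟩⟩

theorem projZ_add (i : ℕ) (g : ι) (z w : ↥(E.cocyc a i)) :
    projZ a E i g (z + w) = projZ a E i g z + projZ a E i g w := by
  apply Subtype.ext
  show ((decompose (E.X i).gr (z.1 + w.1)) g : (E.X i).carrier) = _
  rw [DirectSum.decompose_add, DirectSum.add_apply, AddSubgroup.coe_add]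
  rfl

theorem projZ_zero (i : ℕ) (g : ι) : projZ a E i g 0 = 0 := by
  apply Subtype.ext
  show ((decompose (E.X i).gr (0 : (E.X i).carrier)) g : (E.X i).carrier) = 0
  rw [DirectSum.decompose_zero]
  rfl

/-- The cocycles all of whose multiples have degree `g` component with class in `N`. -/
def liftSub (i : ℕ) (g : ι) (N : Submodule (GrLC.deg0 𝒜) (Hg a E i g)) :
    Submodule R ↥(E.cocyc a i) where
  carrier := {z | ∀ r : R, Submodule.Quotient.mk (projZ a E i g (r • z)) ∈ N}
  zero_mem' := by
    intro r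
    rw [smul_zero, projZ_zero]
    exact zero_mem _
  add_mem' := by
    intro z w hz hw r
    rw [smul_add, projZ_add, Submodule.Quotient.mk_add]
    exact add_mem (hz r) (hw r)
  smul_mem' := by
    intro c z hz r
    rw [← mul_smul]
    exact hz (r * c)

theorem liftSub_mono (i : ℕ) (g : ι) {N N' : Submodule (GrLC.deg0 𝒜) (Hg a E i g)}
    (h : N ≤ N') : liftSub a E i g N ≤ liftSub a E i g N' :=
  fun _ hz r => h (hz r)

theorem cobdy_le_liftSub (i : ℕ) (g : ι) (N : Submodule (GrLC.deg0 𝒜) (Hg a E i g)) :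
    (E.cobdy a i).comap (E.cocyc a i).subtype ≤ liftSub a E i g N := by
  intro z hz r
  have h1 : ((r • z : ↥(E.cocyc a i)) : (E.X i).carrier) ∈ E.cobdy a i :=
    (E.cobdy a i).smul_mem r hz
  have h2 : projZ a E i g (r • z) ∈ Bg a E i g :=
    (mem_Bg a E).mpr (cobdy_isHomogeneous a E i g h1)
  rw [(Submodule.Quotient.mk_eq_zero _).mpr h2]
  exact zero_mem _

theorem mem_liftSub_of_mk_mem (i : ℕ) (g : ι) (N : Submodule (GrLC.deg0 𝒜) (Hg a E i g))
    (z : ↥(Zg a E i g)) (hz : Submodule.Quotient.mk z ∈ N) :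
    (⟨z.1, ((mem_Zg a E).mp z.2).1⟩ : ↥(E.cocyc a i)) ∈ liftSub a E i g N := by
  classical
  intro r
  have hzg : z.1 ∈ (E.X i).gr g := ((mem_Zg a E).mp z.2).2
  have h1 : projZ a E i g (r • (⟨z.1, ((mem_Zg a E).mp z.2).1⟩ : ↥(E.cocyc a i))) =
      (⟨((decompose 𝒜 r) 0 : R), SetLike.coe_mem _⟩ : GrLC.deg0 𝒜) • z := by
    apply Subtype.ext
    show ((decompose (E.X i).gr (r • z.1)) g : (E.X i).carrier) = ((decompose 𝒜 r) 0 : R) • z.1
    rw [decompose_smul_of_mem_right 𝒜 (E.X i).gr hzg r g, sub_self]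
  rw [h1, Submodule.Quotient.mk_smul]
  exact N.smul_mem _ hz

theorem mk_mem_of_mem_liftSub (i : ℕ) (g : ι) (N : Submodule (GrLC.deg0 𝒜) (Hg a E i g))
    (z : ↥(Zg a E i g))
    (hz : (⟨z.1, ((mem_Zg a E).mp z.2).1⟩ : ↥(E.cocyc a i)) ∈ liftSub a E i g N) :
    Submodule.Quotient.mk z ∈ N := by
  have h1 := hz 1
  have h2 : projZ a E i g ((1 : R) • (⟨z.1, ((mem_Zg a E).mp z.2).1⟩ : ↥(E.cocyc a i))) = z := by
    apply Subtype.ext
    show ((decompose (E.X i).gr ((1 : R) • z.1)) g : (E.X i).carrier) = z.1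
    rw [one_smul]
    exact DirectSum.decompose_of_mem_same _ ((mem_Zg a E).mp z.2).2
  rw [h2] at h1
  exact h1

/-- If the graded local cohomology module is Artinian over `R`, its pieces are Artinian over
`R_0`. -/
theorem isArtinian_hg (i : ℕ) (g : ι) (hA : IsArtinian R (E.H a i)) :
    IsArtinian (GrLC.deg0 𝒜) (Hg a E i g) := by
  rw [← monotone_stabilizes_iff_artinian]
  intro f
  let F : ℕ →o (Submodule R (E.H a i))ᵒᵈ :=
    ⟨fun k => OrderDual.toDual ((liftSub a E i g (OrderDual.ofDual (f k))).map (E.toH a i)),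
     fun k l hkl => Submodule.map_mono (liftSub_mono a E i g (f.monotone hkl))⟩
  obtain ⟨n, hn⟩ := monotone_stabilizes_iff_artinian.mpr hA F
  refine ⟨n, fun k hk => le_antisymm (f.monotone hk) ?_⟩
  show OrderDual.ofDual (f n) ≤ OrderDual.ofDual (f k)
  intro y hy
  obtain ⟨z, rfl⟩ := Submodule.Quotient.mk_surjective _ y
  have h1 := mem_liftSub_of_mk_mem a E i g _ z hy
  have h2 : (liftSub a E i g (OrderDual.ofDual (f n))).map (E.toH a i) =
      (liftSub a E i g (OrderDual.ofDual (f k))).map (E.toH a i) :=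
    congrArg OrderDual.ofDual (hn k hk)
  have h3 : E.toH a i ⟨z.1, ((mem_Zg a E).mp z.2).1⟩ ∈
      (liftSub a E i g (OrderDual.ofDual (f k))).map (E.toH a i) := by
    rw [← h2]
    exact ⟨_, h1, rfl⟩
  obtain ⟨w, hw, hwe⟩ := h3
  have h4 : (⟨z.1, ((mem_Zg a E).mp z.2).1⟩ : ↥(E.cocyc a i)) - w ∈
      (E.cobdy a i).comap (E.cocyc a i).subtype :=
    (Submodule.Quotient.eq _).mp hwe.symm
  have h5 : (⟨z.1, ((mem_Zg a E).mp z.2).1⟩ : ↥(E.cocyc a i)) ∈
      liftSub a E i g (OrderDual.ofDual (f k)) := by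
    have := add_mem (cobdy_le_liftSub a E i g _ h4) hw
    rwa [sub_add_cancel] at this
  exact mk_mem_of_mem_liftSub a E i g _ z h5

end pieces

/-! ### The *local case -/

section starLocal

variable {R : Type u} [CommRing R] {𝒜 : ℤ → AddSubgroup R} [GradedRing 𝒜]

/-- The pieces of the graded local cohomology of a finitely generated graded module with support
in a *maximal ideal of a Noetherian non-negatively graded ring are Artinian over `R_0`. -/
theorem isArtinian_hcomp [IsNoetherianRing R] (hpos : ∀ n : ℤ, n < 0 → 𝒜 n = ⊥)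
    (m : HomogeneousIdeal 𝒜) (hm : IsCoatom m) (X : GrLC.GMod.{u} 𝒜) [Module.Finite R X.carrier]
    (E : GrLC.StarInjRes 𝒜 X.gr) (i : ℕ) (n : ℤ) :
    IsArtinian (GrLC.deg0 𝒜) ↥(E.Hcomp m i n) := by
  have : m.toIdeal.IsMaximal := Groth.Agent.Lib.R2H7.GrHt.isMaximal_of_isCoatom 𝒜 hpos m hm
  obtain ⟨e⟩ := Groth.Agent.S13224.result R 𝒜 m X.carrier X.gr E i
  have h1 : IsArtinian R (LocCoh.H m.toIdeal i X.carrier) :=
    isArtinian_localCohomology_of_isMaximal m.toIdeal X.carrier i
  have h2 : IsArtinian R (E.H m i) := isArtinian_of_linearEquiv e.symm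
  have h3 := isArtinian_hg m E i n h2
  exact isArtinian_of_linearEquiv (hgEquiv m E i n)

end starLocal

end Groth.Agent.Lib.R2H7.GrArt
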