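/-
Minimal *injective resolutions of graded modules (each term is a *injective envelope of the
previous cokernel), and the comparison isomorphism between the graded local cohomology modules
computed from two *injective resolutions of the same module.
-/
import Mathlib
import Groth.Agent.Lib.R2H7GrFun
import Groth.Agent.Lib.Helper29GrHull
import Groth.Agent.Lib.Helper29GrRes

set_option autoImplicit false
open DirectSum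

noncomputable section

namespace Groth.Agent.Lib.R2H7.GrMinRes

open Groth.Agent.Lib.Helper29GrHom Groth.Agent.Lib.Helper29GrEss Groth.Agent.Lib.Helper29GrQuot
  Groth.Agent.Lib.Helper29GrHull Groth.Agent.Lib.Helper29GrRes Groth.Agent.Lib.R2H7.GrDer
  Groth.Agent.Lib.R2H7.GrFun

universe u

variable {ι : Type} [AddCommGroup ι] [DecidableEq ι]
variable {R : Type u} [CommRing R] (𝒜 : ι → AddSubgroup R) [GradedRing 𝒜]

/-! ### Chosen *injective envelopes -/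

theorem exists_hull (Y : GrLC.GMod.{u} 𝒜) :
    ∃ (E : GrLC.GMod.{u} 𝒜) (f : Y.carrier →ₗ[R] E.carrier),
      GrLC.IsStarInjHull 𝒜 Y.gr E.gr f := by
  obtain ⟨E, f, -, hE, -⟩ := exists_hull_of_injective 𝒜 Y.gr (pres 𝒜 Y).J (embOf 𝒜 Y)
    (embOf_injective 𝒜 Y)
  exact ⟨E, f, hE⟩

/-- The chosen *injective envelope of `Y`. -/
def HX (Y : GrLC.GMod.{u} 𝒜) : GrLC.GMod.{u} 𝒜 := (exists_hull 𝒜 Y).choose

/-- The embedding of `Y` into its envelope. -/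
def hj (Y : GrLC.GMod.{u} 𝒜) : Y.carrier →ₗ[R] (HX 𝒜 Y).carrier :=
  (exists_hull 𝒜 Y).choose_spec.choose

theorem hj_hull (Y : GrLC.GMod.{u} 𝒜) : GrLC.IsStarInjHull 𝒜 Y.gr (HX 𝒜 Y).gr (hj 𝒜 Y) :=
  (exists_hull 𝒜 Y).choose_spec.choose_spec

theorem range_hj_isHomogeneous (Y : GrLC.GMod.{u} 𝒜) :
    (LinearMap.range (hj 𝒜 Y)).IsHomogeneous (HX 𝒜 Y).gr :=
  range_isHomogeneous (HX 𝒜 Y).gr Y.gr (hj 𝒜 Y) (hj_hull 𝒜 Y).grHom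

/-- The graded cokernel of `Y → HX Y`. -/
def nextM (Y : GrLC.GMod.{u} 𝒜) : GrLC.GMod.{u} 𝒜 :=
  { carrier := (HX 𝒜 Y).carrier ⧸ LinearMap.range (hj 𝒜 Y)
    gr := quotGr (HX 𝒜 Y).gr (LinearMap.range (hj 𝒜 Y))
    dec := quotDecomposition (HX 𝒜 Y).gr (LinearMap.range (hj 𝒜 Y)) (range_hj_isHomogeneous 𝒜 Y)
    gsmul := quot_gradedSMul (HX 𝒜 Y).gr (LinearMap.range (hj 𝒜 Y)) 𝒜 }

/-- The projection `HX Y → nextM Y`. -/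
def piM (Y : GrLC.GMod.{u} 𝒜) : (HX 𝒜 Y).carrier →ₗ[R] (nextM 𝒜 Y).carrier :=
  (LinearMap.range (hj 𝒜 Y)).mkQ

theorem piM_grHom (Y : GrLC.GMod.{u} 𝒜) : GrLC.IsGrHom (HX 𝒜 Y).gr (nextM 𝒜 Y).gr (piM 𝒜 Y) :=
  fun _ a ha => ⟨a, ha, rfl⟩

theorem piM_surjective (Y : GrLC.GMod.{u} 𝒜) : Function.Surjective (piM 𝒜 Y) :=
  Submodule.mkQ_surjective _

theorem ker_piM (Y : GrLC.GMod.{u} 𝒜) : LinearMap.ker (piM 𝒜 Y) = LinearMap.range (hj 𝒜 Y) :=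
  Submodule.ker_mkQ _

/-- The sequence of modules to embed. -/
def YseqM (Y₀ : GrLC.GMod.{u} 𝒜) : ℕ → GrLC.GMod.{u} 𝒜
  | 0 => Y₀
  | n + 1 => nextM 𝒜 (YseqM Y₀ n)

/-- The differential at one step. -/
def dStepM (Y : GrLC.GMod.{u} 𝒜) : (HX 𝒜 Y).carrier →ₗ[R] (HX 𝒜 (nextM 𝒜 Y)).carrier :=
  hj 𝒜 (nextM 𝒜 Y) ∘ₗ piM 𝒜 Y

theorem dStepM_grHom (Y : GrLC.GMod.{u} 𝒜) :
    GrLC.IsGrHom (HX 𝒜 Y).gr (HX 𝒜 (nextM 𝒜 Y)).gr (dStepM 𝒜 Y) :=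
  fun g a ha => (hj_hull 𝒜 _).grHom g _ (piM_grHom 𝒜 _ g a ha)

theorem ker_dStepM (Y : GrLC.GMod.{u} 𝒜) :
    LinearMap.ker (dStepM 𝒜 Y) = LinearMap.range (hj 𝒜 Y) := by
  rw [dStepM, LinearMap.ker_comp_of_ker_eq_bot _
    (LinearMap.ker_eq_bot.mpr (hj_hull 𝒜 _).injective), ker_piM]

theorem range_dStepM (Y : GrLC.GMod.{u} 𝒜) :
    LinearMap.range (dStepM 𝒜 Y) = LinearMap.range (hj 𝒜 (nextM 𝒜 Y)) := by
  rw [dStepM, LinearMap.range_comp_of_range_eq_top _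
    (LinearMap.range_eq_top.mpr (piM_surjective 𝒜 _))]

/-! ### Minimal resolutions -/

variable {M : Type u} [AddCommGroup M] [Module R M] (ℳ : ι → AddSubgroup M)
  [DirectSum.Decomposition ℳ] [SetLike.GradedSMul 𝒜 ℳ]

/-- A minimal *injective resolution of any graded module. -/
def minRes : GrLC.StarInjRes 𝒜 ℳ where
  X n := HX 𝒜 (YseqM 𝒜 (GrLC.GMod.of 𝒜 M ℳ) n)
  d n := dStepM 𝒜 (YseqM 𝒜 (GrLC.GMod.of 𝒜 M ℳ) n)
  ε := hj 𝒜 (GrLC.GMod.of 𝒜 M ℳ)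
  d_grHom n := dStepM_grHom 𝒜 _
  ε_grHom := (hj_hull 𝒜 (GrLC.GMod.of 𝒜 M ℳ)).grHom
  ε_injective := (hj_hull 𝒜 (GrLC.GMod.of 𝒜 M ℳ)).injective
  exact_zero := ker_dStepM 𝒜 (GrLC.GMod.of 𝒜 M ℳ)
  exact_succ n := (ker_dStepM 𝒜 _).trans (range_dStepM 𝒜 _).symm
  starInj n := (hj_hull 𝒜 _).starInj

variable {𝒜 ℳ}

/-- Minimality of a *injective resolution: every term is a *essential extension of the image of
the previous map. -/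
structure IsMin (E : GrLC.StarInjRes 𝒜 ℳ) : Prop where
  min0 : ∀ P : Submodule R (E.X 0).carrier, P.IsHomogeneous (E.X 0).gr → P ≠ ⊥ →
    P ⊓ LinearMap.range E.ε ≠ ⊥
  min : ∀ (n : ℕ) (P : Submodule R (E.X (n + 1)).carrier), P.IsHomogeneous (E.X (n + 1)).gr →
    P ≠ ⊥ → P ⊓ LinearMap.range (E.d n) ≠ ⊥

variable (𝒜 ℳ)

theorem minRes_isMin : IsMin (minRes 𝒜 ℳ) where
  min0 := (hj_hull 𝒜 (GrLC.GMod.of 𝒜 M ℳ)).essential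
  min n := by
    intro P hP hP0
    have h : LinearMap.range ((minRes 𝒜 ℳ).d n) =
        LinearMap.range (hj 𝒜 (nextM 𝒜 (YseqM 𝒜 (GrLC.GMod.of 𝒜 M ℳ) n))) :=
      range_dStepM 𝒜 _
    rw [h]
    exact (hj_hull 𝒜 (nextM 𝒜 (YseqM 𝒜 (GrLC.GMod.of 𝒜 M ℳ) n))).essential P hP hP0

theorem exists_isMin (X : GrLC.GMod.{u} 𝒜) : ∃ E : GrLC.StarInjRes 𝒜 X.gr, IsMin E :=
  ⟨minRes 𝒜 X.gr, minRes_isMin 𝒜 X.gr⟩

/-! ### Comparison of two resolutions -/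

variable {𝒜}

/-- The comparison isomorphism between the local cohomology modules computed from two *injective
resolutions of the same graded module. -/
def hEquiv {X : GrLC.GMod.{u} 𝒜} (a : HomogeneousIdeal 𝒜) (E₁ E₂ : GrLC.StarInjRes 𝒜 X.gr)
    (i : ℕ) : E₁.H a i ≃ₗ[R] E₂.H a i :=
  LinearEquiv.ofLinear (TH a E₁ E₂ LinearMap.id isGrHom_id i)
    (TH a E₂ E₁ LinearMap.id isGrHom_id i)
    (LinearMap.ext (fun ξ => TH_id_comp a E₂ E₁ i ξ))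
    (LinearMap.ext (fun ξ => TH_id_comp a E₁ E₂ i ξ))

theorem hEquiv_mem {X : GrLC.GMod.{u} 𝒜} (a : HomogeneousIdeal 𝒜)
    (E₁ E₂ : GrLC.StarInjRes 𝒜 X.gr) (i : ℕ) (g : ι) {ξ : E₁.H a i}
    (hξ : ξ ∈ E₁.Hgr a i g) : hEquiv a E₁ E₂ i ξ ∈ E₂.Hgr a i g :=
  TH_mem_hgr a isGrHom_id i g hξ

theorem hEquiv_symm_mem {X : GrLC.GMod.{u} 𝒜} (a : HomogeneousIdeal 𝒜)
    (E₁ E₂ : GrLC.StarInjRes 𝒜 X.gr) (i : ℕ) (g : ι) {ξ : E₂.H a i}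
    (hξ : ξ ∈ E₂.Hgr a i g) : (hEquiv a E₁ E₂ i).symm ξ ∈ E₁.Hgr a i g :=
  TH_mem_hgr a isGrHom_id i g hξ

end Groth.Agent.Lib.R2H7.GrMinRes
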