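/-
Bass numbers of a graded module at a homogeneous prime, read off a minimal *injective resolution:
`μ^j(p, M)` is the length of the socle of the localisation of the `j`-th term.  For a maximal ideal
`m` the socle of a localisation `Y_m` is controlled by the socle `{y | m y = 0}` of `Y` itself.
-/
import Mathlib
import Groth.Agent.Lib.R2H7GrMinRes
import Groth.Agent.Lib.Helper29GrExtLoc

set_option autoImplicit false
open DirectSum CategoryTheory

noncomputable section

namespace Groth.Agent.Lib.R2H7.GrBass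

open Groth.Agent.Lib.Helper29GrHom Groth.Agent.Lib.Helper29GrEss Groth.Agent.Lib.Helper29GrSub
  Groth.Agent.Lib.Helper29GrExtLoc Groth.Agent.Lib.Helper29Socle Groth.Agent.Lib.R2H7.GrMinRes

universe u

/-! ### Bass numbers from a minimal resolution -/

section bass

variable {ι : Type} [AddCommGroup ι] [DecidableEq ι]
variable {R : Type u} [CommRing R] [IsNoetherianRing R] {𝒜 : ι → AddSubgroup R} [GradedRing 𝒜]
variable {M : Type u} [AddCommGroup M] [Module R M] {ℳ : ι → AddSubgroup M}
  [DirectSum.Decomposition ℳ] [SetLike.GradedSMul 𝒜 ℳ]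

theorem bassNum_zero_eq (p : Ideal R) [p.IsPrime] (Y : Type u) [AddCommGroup Y] [Module R Y] :
    GrLC.bassNum p Y 0 = Module.length (Localization.AtPrime p)
      (soc (Localization.AtPrime p) (LocalizedModule p.primeCompl Y)) := by
  unfold GrLC.bassNum GrLC.bassNumLocal
  exact length_ext_zero _ _

theorem bassNum_eq_length_soc (E : GrLC.StarInjRes 𝒜 ℳ) (hE : IsMin E)
    (p : HomogeneousIdeal 𝒜) [p.toIdeal.IsPrime] (j : ℕ) :
    GrLC.bassNum p.toIdeal M j = Module.length (Localization.AtPrime p.toIdeal)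
      (soc (Localization.AtPrime p.toIdeal)
        (LocalizedModule p.toIdeal.primeCompl (E.X j).carrier)) := by
  classical
  -- ungraded essentiality
  have hessε : ∀ y : (E.X 0).carrier, y ≠ 0 →
      ∃ r : R, r • y ≠ 0 ∧ r • y ∈ LinearMap.range E.ε := by
    intro y hy
    have hr : (LinearMap.range E.ε).IsHomogeneous (E.X 0).gr :=
      range_isHomogeneous (E.X 0).gr ℳ E.ε E.ε_grHom
    obtain ⟨h, r, -, h1, h2⟩ :=
      exists_smul_mem 𝒜 (E.X 0).gr (LinearMap.range E.ε) hr hE.min0 y hy
    exact ⟨r, h1, h2⟩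
  have hessd : ∀ (n : ℕ) (y : (E.X (n + 1)).carrier), y ≠ 0 →
      ∃ r : R, r • y ≠ 0 ∧ r • y ∈ LinearMap.range (E.d n) := by
    intro n y hy
    have hr : (LinearMap.range (E.d n)).IsHomogeneous (E.X (n + 1)).gr :=
      range_isHomogeneous (E.X (n + 1)).gr (E.X n).gr (E.d n) (E.d_grHom n)
    obtain ⟨h, r, -, h1, h2⟩ :=
      exists_smul_mem 𝒜 (E.X (n + 1)).gr (LinearMap.range (E.d n)) hr (hE.min n) y hy
    exact ⟨r, h1, h2⟩
  -- the cosyzygies `Z n = ker (d n)`
  let Z : ∀ n, Submodule R (E.X n).carrier := fun n => LinearMap.ker (E.d n)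
  have hdZ : ∀ n x, E.d n x ∈ Z (n + 1) := by
    intro n x
    show E.d n x ∈ LinearMap.ker (E.d (n + 1))
    rw [E.exact_succ n]
    exact LinearMap.mem_range_self _ _
  let dres : ∀ n, (E.X n).carrier →ₗ[R] ↥(Z (n + 1)) :=
    fun n => (E.d n).codRestrict (Z (n + 1)) (hdZ n)
  have hdres_surj : ∀ n, Function.Surjective (dres n) := by
    rintro n ⟨z, hz⟩
    have hz' : z ∈ LinearMap.range (E.d n) := by
      rw [← E.exact_succ n]
      exact hz
    obtain ⟨x, rfl⟩ := hz'
    exact ⟨x, rfl⟩
  have hex0 : Function.Exact E.ε (dres 0) := by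
    intro x
    constructor
    · intro h
      have hx : x ∈ LinearMap.ker (E.d 0) := by
        rw [LinearMap.mem_ker]
        exact congrArg Subtype.val h
      rw [E.exact_zero] at hx
      exact hx
    · rintro ⟨m, rfl⟩
      apply Subtype.ext
      have hm : E.ε m ∈ LinearMap.ker (E.d 0) := by
        rw [E.exact_zero]
        exact LinearMap.mem_range_self _ _
      exact hm
  have hexn : ∀ n, Function.Exact (Z (n + 1)).subtype (dres (n + 1)) := by
    intro n x
    constructor
    · intro h
      have hx : x ∈ Z (n + 1) := by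
        show x ∈ LinearMap.ker _
        rw [LinearMap.mem_ker]
        exact congrArg Subtype.val h
      exact ⟨⟨x, hx⟩, rfl⟩
    · rintro ⟨z, rfl⟩
      apply Subtype.ext
      exact z.2
  have hessZ : ∀ n (y : (E.X (n + 1)).carrier), y ≠ 0 →
      ∃ r : R, r • y ≠ 0 ∧ r • y ∈ LinearMap.range (Z (n + 1)).subtype := by
    intro n y hy
    obtain ⟨r, h1, h2⟩ := hessd n y hy
    refine ⟨r, h1, ?_⟩
    rw [Submodule.range_subtype]
    show r • y ∈ LinearMap.ker (E.d (n + 1))
    rw [E.exact_succ n]
    exact h2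
  -- dimension shifting
  have hshift : ∀ (i n : ℕ), GrLC.bassNum p.toIdeal M (n + (i + 1)) =
      GrLC.bassNum p.toIdeal ↥(Z (i + 1)) n := by
    intro i
    induction i with
    | zero =>
      intro n
      exact (bassNum_shift p.toIdeal E.ε (dres 0) E.ε_injective (hdres_surj 0) hex0
        (fun i x => ext_residue_eq_zero 𝒜 (E.X 0).gr (E.starInj 0) p i x) hessε n).symm
    | succ i ih =>
      intro n
      have h1 := bassNum_shift p.toIdeal (Z (i + 1)).subtype (dres (i + 1))
        (Z (i + 1)).injective_subtype (hdres_surj (i + 1)) (hexn i)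
        (fun k x => ext_residue_eq_zero 𝒜 (E.X (i + 1)).gr (E.starInj (i + 1)) p k x)
        (hessZ i) n
      rw [h1, ← ih (n + 1)]
      congr 1
      omega
  cases j with
  | zero =>
    rw [bassNum_zero_eq]
    exact length_soc_eq_of_essential p.toIdeal E.ε E.ε_injective hessε
  | succ j =>
    have h1 := hshift j 0
    rw [zero_add] at h1
    rw [h1, bassNum_zero_eq]
    exact length_soc_eq_of_essential p.toIdeal (Z (j + 1)).subtype
      (Z (j + 1)).injective_subtype (hessZ j)

end bass

/-! ### The socle at a maximal ideal -/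

section socle

variable {R : Type u} [CommRing R] (m : Ideal R) (Y : Type u) [AddCommGroup Y] [Module R Y]

/-- The elements of `Y` killed by `m`. -/
def socR : Submodule R Y where
  carrier := {y | ∀ r ∈ m, r • y = 0}
  zero_mem' := fun r _ => smul_zero r
  add_mem' := fun {x y} hx hy r hr => by rw [smul_add, hx r hr, hy r hr, add_zero]
  smul_mem' := fun c x hx r hr => by rw [smul_comm, hx r hr, smul_zero]

variable {m Y}

theorem mem_socR {y : Y} : y ∈ socR m Y ↔ ∀ r ∈ m, r • y = 0 := Iff.rfl

/-- An element outside a maximal ideal acts injectively on the socle. -/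
theorem eq_zero_of_smul_eq_zero [hm : m.IsMaximal] {y : Y} (hy : y ∈ socR m Y) {u : R}
    (hu : u ∉ m) (h : u • y = 0) : y = 0 := by
  obtain ⟨w, hw⟩ := (Ideal.Quotient.maximal_ideal_iff_isField_quotient m).mp hm |>.mul_inv_cancel
    (a := Ideal.Quotient.mk m u) (by
      intro h0
      exact hu (Ideal.Quotient.eq_zero_iff_mem.mp h0))
  obtain ⟨w', rfl⟩ := Ideal.Quotient.mk_surjective w
  have h1 : u * w' - 1 ∈ m := by
    rw [← Ideal.Quotient.eq_zero_iff_mem, map_sub, map_mul, hw, map_one, sub_self]
  have h2 := hy _ h1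
  rw [sub_smul, one_smul, mul_comm, mul_smul, h, smul_zero, zero_sub, neg_eq_zero] at h2
  exact h2

/-- An element outside a maximal ideal acts surjectively on the socle. -/
theorem exists_smul_eq [hm : m.IsMaximal] {y : Y} (hy : y ∈ socR m Y) {u : R} (hu : u ∉ m) :
    ∃ w : R, w • u • y = y := by
  obtain ⟨w, hw⟩ := (Ideal.Quotient.maximal_ideal_iff_isField_quotient m).mp hm |>.mul_inv_cancel
    (a := Ideal.Quotient.mk m u) (by
      intro h0
      exact hu (Ideal.Quotient.eq_zero_iff_mem.mp h0))
  obtain ⟨w', rfl⟩ := Ideal.Quotient.mk_surjective w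
  have h1 : u * w' - 1 ∈ m := by
    rw [← Ideal.Quotient.eq_zero_iff_mem, map_sub, map_mul, hw, map_one, sub_self]
  have h2 := hy _ h1
  refine ⟨w', ?_⟩
  rw [sub_smul, one_smul, sub_eq_zero, mul_comm, mul_smul] at h2
  exact h2

end socle

section count

open LocalizedModule

variable {R : Type u} [CommRing R] [IsNoetherianRing R] (m : Ideal R) [hm : m.IsMaximal]
  (Y : Type u) [AddCommGroup Y] [Module R Y]

instance : m.IsPrime := hm.isPrime

theorem soc_eq_bot_iff :
    soc (Localization.AtPrime m) (LocalizedModule m.primeCompl Y) = ⊥ ↔ socR m Y = ⊥ := by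
  constructor
  · intro h
    rw [eq_bot_iff]
    intro y hy
    have h1 : (mk y 1 : LocalizedModule m.primeCompl Y) ∈
        soc (Localization.AtPrime m) (LocalizedModule m.primeCompl Y) := by
      rw [mk_mem_soc_iff]
      exact ⟨1, fun r hr => by rw [Submonoid.coe_one, one_mul]; exact hy r hr⟩
    rw [h, Submodule.mem_bot, mk_eq_zero_iff'] at h1
    obtain ⟨u, hu⟩ := h1
    exact (Submodule.mem_bot R).mpr (eq_zero_of_smul_eq_zero hy u.2 hu)
  · intro h
    rw [eq_bot_iff]
    intro z hz
    induction z using LocalizedModule.induction_on with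
    | _ y s =>
      obtain ⟨t, ht⟩ := (mk_mem_soc_iff m Y y s).1 hz
      have h1 : (t : R) • y ∈ socR m Y := by
        intro r hr
        rw [smul_smul, mul_comm]
        exact ht r hr
      rw [h, Submodule.mem_bot] at h1
      rw [Submodule.mem_bot, mk_eq_zero_iff']
      exact ⟨t, h1⟩

theorem length_soc_eq_zero_iff :
    Module.length (Localization.AtPrime m)
      (soc (Localization.AtPrime m) (LocalizedModule m.primeCompl Y)) = 0 ↔ socR m Y = ⊥ := by
  rw [Module.length_eq_zero_iff, Submodule.subsingleton_iff_eq_bot, soc_eq_bot_iff]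

/-- If the socle of `Y` is generated by one nonzero element, the socle of `Y_m` has length one. -/
theorem length_soc_eq_one {η : Y} (hη : η ∈ socR m Y) (hη0 : η ≠ 0)
    (hgen : ∀ y ∈ socR m Y, ∃ c : R, y = c • η) :
    Module.length (Localization.AtPrime m)
      (soc (Localization.AtPrime m) (LocalizedModule m.primeCompl Y)) = 1 := by
  have h := length_soc_eq_card m Y (fun _ : PUnit.{1} => η) (fun _ r hr => hη r hr) ?_ ?_
  · rw [h]
    simp
  · intro c₀ u hu α
    by_contra hc
    apply hη0
    have h1 : Finsupp.linearCombination R (fun _ : PUnit.{1} => η) c₀ = c₀ α • η := by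
      rw [Finsupp.linearCombination_apply, Finsupp.sum_fintype _ _ (fun _ => zero_smul R η)]
      simp
    rw [h1] at hu
    have h2 : (c₀ α) • η = 0 :=
      eq_zero_of_smul_eq_zero (Submodule.smul_mem _ _ hη) u.2 hu
    exact eq_zero_of_smul_eq_zero hη hc h2
  · intro y hy
    obtain ⟨c, hc⟩ := hgen y hy
    refine ⟨1, Finsupp.single PUnit.unit c, ?_⟩
    rw [one_smul, Finsupp.linearCombination_single]
    exact hc

/-- If the socle of `Y_m` has length one, the socle of `Y` is generated by any of its nonzero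
elements. -/
theorem exists_smul_of_length_eq_one
    (h1 : Module.length (Localization.AtPrime m)
      (soc (Localization.AtPrime m) (LocalizedModule m.primeCompl Y)) = 1)
    {η : Y} (hη : η ∈ socR m Y) (hη0 : η ≠ 0) {y : Y} (hy : y ∈ socR m Y) :
    ∃ c : R, y = c • η := by
  have hsimple : IsSimpleModule (Localization.AtPrime m)
      ↥(soc (Localization.AtPrime m) (LocalizedModule m.primeCompl Y)) :=
    Module.length_eq_one_iff.mp h1
  have hmemη : (mk η 1 : LocalizedModule m.primeCompl Y) ∈
      soc (Localization.AtPrime m) (LocalizedModule m.primeCompl Y) := by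
    rw [mk_mem_soc_iff]
    exact ⟨1, fun r hr => by rw [Submonoid.coe_one, one_mul]; exact hη r hr⟩
  have hmemy : (mk y 1 : LocalizedModule m.primeCompl Y) ∈
      soc (Localization.AtPrime m) (LocalizedModule m.primeCompl Y) := by
    rw [mk_mem_soc_iff]
    exact ⟨1, fun r hr => by rw [Submonoid.coe_one, one_mul]; exact hy r hr⟩
  have hne : (⟨mk η 1, hmemη⟩ : ↥(soc (Localization.AtPrime m)
      (LocalizedModule m.primeCompl Y))) ≠ 0 := by
    intro h0
    have h2 : (mk η 1 : LocalizedModule m.primeCompl Y) = 0 := congrArg Subtype.val h0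
    rw [mk_eq_zero_iff'] at h2
    obtain ⟨u, hu⟩ := h2
    exact hη0 (eq_zero_of_smul_eq_zero hη u.2 hu)
  have hspan := IsSimpleModule.span_singleton_eq_top (R := Localization.AtPrime m) hne
  have hmem : (⟨mk y 1, hmemy⟩ : ↥(soc (Localization.AtPrime m)
      (LocalizedModule m.primeCompl Y))) ∈ Submodule.span (Localization.AtPrime m)
        {(⟨mk η 1, hmemη⟩ : ↥(soc (Localization.AtPrime m)
          (LocalizedModule m.primeCompl Y)))} := by
    rw [hspan]
    exact Submodule.mem_top
  obtain ⟨a, ha⟩ := Submodule.mem_span_singleton.mp hmem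
  have ha' : a • (mk η 1 : LocalizedModule m.primeCompl Y) =
      (mk y 1 : LocalizedModule m.primeCompl Y) := congrArg Subtype.val ha
  obtain ⟨r, s, rfl⟩ := IsLocalization.exists_mk'_eq m.primeCompl a
  rw [← Localization.mk_eq_mk'_apply, mk_smul_mk, mul_one, mk_eq] at ha'
  obtain ⟨u, hu⟩ := ha'
  -- `u • 1 • r • η = u • s • y`
  rw [one_smul] at hu
  have hus : (u : R) * (s : R) ∉ m := fun h => (m.primeCompl.mul_mem u.2 s.2) h
  obtain ⟨w, hw⟩ := exists_smul_eq hy hus
  refine ⟨w * ((u : R) * r), ?_⟩
  have h3 : ((u : R) * (s : R)) • y = ((u : R) * r) • η := by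
    rw [mul_smul, mul_smul]
    exact hu.symm
  rw [← hw, h3, ← mul_smul]

end count

end Groth.Agent.Lib.R2H7.GrBass
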