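/-
Bass numbers of a ring at a prime and the Gorenstein property of the localisation:
`R_p` Gorenstein of dimension `n` gives `μ^j(p, R) = δ_{jn}`, and conversely the vanishing of
`μ^j(p, R)` for large `j` makes `R_p` Gorenstein.
-/
import Mathlib
import Groth.Prelude.Def_GrLC2
import Groth.Agent.Lib.Helper29GorHull
import Groth.Agent.Lib.Helper28DepthMore
import Groth.Agent.S0340

set_option autoImplicit false
universe u

open CategoryTheory CategoryTheory.Abelian IsLocalRing

noncomputable section

namespace Groth.Agent.Lib.R2H7.GrGorBass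

open Groth.Agent.Lib.Helper29.GorHull Groth.Agent.Lib.Helper28 LocCoh

section Congr

variable {A : Type u} [CommRing A]

/-- Ext is invariant under isomorphism in the second variable. -/
def extCongrRight (X : ModuleCat.{u} A) {Y Y' : ModuleCat.{u} A} (e : Y ≅ Y') (i : ℕ) :
    Ext.{u} X Y i ≃ₗ[A] Ext.{u} X Y' i :=
  LinearEquiv.ofLinearMap (Ext.postcompOfLinear (Ext.mk₀ e.hom) A X (add_zero i))
    (Ext.postcompOfLinear (Ext.mk₀ e.inv) A X (add_zero i))
    (by
      apply LinearMap.ext; intro x
      change (x.comp (Ext.mk₀ e.inv) (add_zero i)).comp (Ext.mk₀ e.hom) (add_zero i) = x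
      rw [Ext.comp_assoc_of_third_deg_zero, Ext.mk₀_comp_mk₀, e.inv_hom_id, Ext.comp_mk₀_id])
    (by
      apply LinearMap.ext; intro x
      change (x.comp (Ext.mk₀ e.hom) (add_zero i)).comp (Ext.mk₀ e.inv) (add_zero i) = x
      rw [Ext.comp_assoc_of_third_deg_zero, Ext.mk₀_comp_mk₀, e.hom_inv_id, Ext.comp_mk₀_id])

variable [IsLocalRing A]

theorem bassNumLocal_congr {M M' : Type u} [AddCommGroup M] [Module A M] [AddCommGroup M']
    [Module A M'] (e : M ≃ₗ[A] M') (i : ℕ) :
    GrLC.bassNumLocal A M i = GrLC.bassNumLocal A M' i := by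
  unfold GrLC.bassNumLocal
  exact (extCongrRight (ModuleCat.of A (ResidueField A)) e.toModuleIso i).length_eq

/-- The residue field as the quotient module. -/
def resIso : ModuleCat.of A (kq A) ≅ ModuleCat.of A (ResidueField A) :=
  (LinearEquiv.refl A (ResidueField A)).toModuleIso

theorem bassNumLocal_eq (M : Type u) [AddCommGroup M] [Module A M] (i : ℕ) :
    GrLC.bassNumLocal A M i =
      Module.length A (Ext.{u} (ModuleCat.of A (kq A)) (ModuleCat.of A M) i) := by
  unfold GrLC.bassNumLocal
  exact (extCongrLeft A resIso (ModuleCat.of A M) i).length_eq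

end Congr

section Local

variable (A : Type u) [CommRing A]

theorem bassNumLocal_of_gorenstein [hA : IsGorensteinLocalRing A] (n : ℕ)
    (hn : ringKrullDim A = n) (j : ℕ) :
    GrLC.bassNumLocal A A j = if j = n then 1 else 0 := by
  rw [bassNumLocal_eq]
  split_ifs with h
  · subst h
    exact typ_eq_one_of_gorenstein A j hn
  · rw [Module.length_eq_zero_iff]
    exact extVan A n hn j h

theorem gorenstein_of_bassNumLocal [IsLocalRing A] [IsNoetherianRing A] (N : ℕ)
    (h : ∀ j, N ≤ j → GrLC.bassNumLocal A A j = 0) : IsGorensteinLocalRing A := by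
  rw [Groth.Agent.S0340.result A]
  refine ⟨N, fun i hi => ?_⟩
  have h1 := h i hi
  unfold GrLC.bassNumLocal at h1
  exact Module.length_eq_zero_iff.mp h1

end Local

section Prime

variable {R : Type u} [CommRing R] (p : Ideal R) [p.IsPrime]

theorem bassNum_self (j : ℕ) :
    GrLC.bassNum p R j = GrLC.bassNumLocal (Localization.AtPrime p) (Localization.AtPrime p) j := by
  unfold GrLC.bassNum
  exact bassNumLocal_congr (localizedModuleSelfEquiv p) j

theorem bassNum_of_gorenstein (hG : IsGorensteinLocalRing (Localization.AtPrime p)) (n : ℕ)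
    (hn : p.height = n) (j : ℕ) : GrLC.bassNum p R j = if j = n then 1 else 0 := by
  rw [bassNum_self]
  refine bassNumLocal_of_gorenstein (Localization.AtPrime p) n ?_ j
  rw [IsLocalization.AtPrime.ringKrullDim_eq_height p (Localization.AtPrime p), hn]
  rfl

theorem gorenstein_of_bassNum [IsNoetherianRing R] (N : ℕ)
    (h : ∀ j, N ≤ j → GrLC.bassNum p R j = 0) :
    IsGorensteinLocalRing (Localization.AtPrime p) := by
  refine gorenstein_of_bassNumLocal (Localization.AtPrime p) N fun j hj => ?_
  rw [← bassNum_self]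
  exact h j hj

end Prime

end Groth.Agent.Lib.R2H7.GrGorBass
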