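/-
Minimal *injective resolutions at a maximal homogeneous ideal `m`: the `m`-torsion of the terms
is controlled by the socles, hence by the Bass numbers `μ^j(m, -)`.  Consequences for a *local
Noetherian graded ring `(R, m)` with `m` maximal:

* `isGorensteinRing_of_equiv`: if `H^j_m(R) = 0` for `j ≠ n` and `H^n_m(R)` is isomorphic, up to a
  shift of degrees, to a *injective module, then `R` is Gorenstein;
* `exists_equiv_of_isGorensteinRing`: if `R` is Gorenstein and `ht m = n`, then `H^j_m(R) = 0`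
  for `j ≠ n` and `H^n_m(R)` is isomorphic, up to a shift, to the *injective envelope of `R/m`.
-/
import Mathlib
import Groth.Agent.Lib.R2H7GrBass
import Groth.Agent.Lib.R2H7GrGorLoc
import Groth.Agent.Lib.R2H7GrGorBass
import Groth.Agent.Lib.R2H7GrArt
import Groth.Agent.Lib.R2H7GrAcycW
import Groth.Agent.S13212
import Groth.Agent.S13220

set_option autoImplicit false
open DirectSum

noncomputable section

namespace Groth.Agent.Lib.R2H7.GrGorChar

open Groth.Agent.Lib.Helper29GrHom Groth.Agent.Lib.Helper29GrEss Groth.Agent.Lib.Helper29GrSub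
  Groth.Agent.Lib.Helper29GrGam Groth.Agent.Lib.R2H7.GrDer Groth.Agent.Lib.R2H7.GrOps
  Groth.Agent.Lib.R2H7.GrMinRes Groth.Agent.Lib.R2H7.GrBass Groth.Agent.Lib.R2H7.GrArt
  Groth.Agent.Lib.R2H7.GrAcycW

universe u

/-! ### Torsion and socle -/

section socle

variable {R : Type u} [CommRing R] (m : Ideal R) {Y : Type u} [AddCommGroup Y] [Module R Y]

theorem socR_le_gam : socR m Y ≤ GrLC.gam m Y := by
  intro y hy
  refine ⟨1, fun r hr => ?_⟩
  rw [pow_one] at hr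
  exact hy r hr

/-- A nonzero `m`-torsion element has a nonzero multiple in the socle. -/
theorem exists_smul_mem_socR {y : Y} (hy : y ∈ GrLC.gam m Y) (hy0 : y ≠ 0) :
    ∃ r : R, r • y ≠ 0 ∧ r • y ∈ socR m Y := by
  obtain ⟨k, hk⟩ := hy
  induction k with
  | zero =>
    exfalso
    apply hy0
    have h1 := hk 1 (by rw [pow_zero, Ideal.one_eq_top]; exact Submodule.mem_top)
    rwa [one_smul] at h1
  | succ k ih =>
    by_cases h : ∀ r ∈ m ^ k, r • y = 0
    · exact ih h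
    · have hex : ∃ r ∈ m ^ k, r • y ≠ 0 := by
        by_contra hcon
        apply h
        intro r hr
        by_contra hne
        exact hcon ⟨r, hr, hne⟩
      obtain ⟨r, hr, hry⟩ := hex
      refine ⟨r, hry, fun s hs => ?_⟩
      rw [smul_smul]
      refine hk (s * r) ?_
      rw [pow_succ']
      exact Ideal.mul_mem_mul hs hr

theorem gam_eq_bot_of_socR (h : socR m Y = ⊥) : GrLC.gam m Y = ⊥ := by
  rw [eq_bot_iff]
  intro y hy
  rw [Submodule.mem_bot]
  by_contra hy0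
  obtain ⟨r, hr0, hrs⟩ := exists_smul_mem_socR m hy hy0
  rw [h, Submodule.mem_bot] at hrs
  exact hr0 hrs

end socle

/-! ### Minimal resolutions -/

section minimal

variable {ι : Type} [AddCommGroup ι] [DecidableEq ι]
variable {R : Type u} [CommRing R] {𝒜 : ι → AddSubgroup R} [GradedRing 𝒜]
variable {M : Type u} [AddCommGroup M] [Module R M] {ℳ : ι → AddSubgroup M}
  [DirectSum.Decomposition ℳ] [SetLike.GradedSMul 𝒜 ℳ]
variable {E : GrLC.StarInjRes 𝒜 ℳ} (hE : IsMin E) (m : HomogeneousIdeal 𝒜)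

include hE in
/-- Every nonzero element of a term of a minimal resolution has a nonzero multiple in the kernel
of the differential. -/
theorem exists_smul_mem_ker (j : ℕ) (y : (E.X j).carrier) (hy : y ≠ 0) :
    ∃ r : R, r • y ≠ 0 ∧ r • y ∈ LinearMap.ker (E.d j) := by
  classical
  cases j with
  | zero =>
    have hr : (LinearMap.range E.ε).IsHomogeneous (E.X 0).gr :=
      range_isHomogeneous (E.X 0).gr ℳ E.ε E.ε_grHom
    obtain ⟨h, r, -, h1, h2⟩ :=
      exists_smul_mem 𝒜 (E.X 0).gr (LinearMap.range E.ε) hr hE.min0 y hy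
    refine ⟨r, h1, ?_⟩
    rw [E.exact_zero]
    exact h2
  | succ n =>
    have hr : (LinearMap.range (E.d n)).IsHomogeneous (E.X (n + 1)).gr :=
      range_isHomogeneous (E.X (n + 1)).gr (E.X n).gr (E.d n) (E.d_grHom n)
    obtain ⟨h, r, -, h1, h2⟩ :=
      exists_smul_mem 𝒜 (E.X (n + 1)).gr (LinearMap.range (E.d n)) hr (hE.min n) y hy
    refine ⟨r, h1, ?_⟩
    rw [E.exact_succ n]
    exact h2

variable [hmax : m.toIdeal.IsMaximal]

include hE in
theorem socR_le_ker (j : ℕ) :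
    socR m.toIdeal (E.X j).carrier ≤ LinearMap.ker (E.d j) := by
  intro z hz
  by_cases hz0 : z = 0
  · rw [hz0]
    exact zero_mem _
  obtain ⟨r, hr0, hrk⟩ := exists_smul_mem_ker hE j z hz0
  have hrm : r ∉ m.toIdeal := fun hrm => hr0 (hz r hrm)
  obtain ⟨w, hw⟩ := exists_smul_eq hz hrm
  rw [← hw]
  exact Submodule.smul_mem _ _ hrk

include hE in
theorem socR_le_cocyc (j : ℕ) : socR m.toIdeal (E.X j).carrier ≤ E.cocyc m j :=
  le_inf (socR_le_gam m.toIdeal) (socR_le_ker hE m j)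

omit hmax in
theorem mem_cobdy_of_subsingleton (j : ℕ) (h : Subsingleton (E.H m j)) {z : (E.X j).carrier}
    (hz : z ∈ E.cocyc m j) : z ∈ E.cobdy m j := by
  have h0 : E.toH m j ⟨z, hz⟩ = 0 := Subsingleton.elim _ _
  have h1 := (Submodule.Quotient.mk_eq_zero _).mp h0
  exact h1

include hE in
theorem gam_zero_eq_bot (h : Subsingleton (E.H m 0)) :
    GrLC.gam m.toIdeal (E.X 0).carrier = ⊥ := by
  apply gam_eq_bot_of_socR
  rw [eq_bot_iff]
  intro z hz
  exact mem_cobdy_of_subsingleton m 0 h (socR_le_cocyc hE m 0 hz)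

include hE in
theorem gam_succ_eq_bot (j : ℕ) (hprev : GrLC.gam m.toIdeal (E.X j).carrier = ⊥)
    (h : Subsingleton (E.H m (j + 1))) : GrLC.gam m.toIdeal (E.X (j + 1)).carrier = ⊥ := by
  apply gam_eq_bot_of_socR
  rw [eq_bot_iff]
  intro z hz
  have h1 : z ∈ (GrLC.gam m.toIdeal (E.X j).carrier).map (E.d j) :=
    mem_cobdy_of_subsingleton m (j + 1) h (socR_le_cocyc hE m (j + 1) hz)
  rw [hprev, Submodule.map_bot] at h1
  exact h1

include hE in
theorem gam_eq_bot_of_lt (n : ℕ) (hvan : ∀ j, j < n → Subsingleton (E.H m j)) :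
    ∀ j, j < n → GrLC.gam m.toIdeal (E.X j).carrier = ⊥ := by
  intro j
  induction j with
  | zero => exact fun h0 => gam_zero_eq_bot hE m (hvan 0 h0)
  | succ j ih => exact fun hj => gam_succ_eq_bot hE m j (ih (by omega)) (hvan (j + 1) hj)

omit hmax in
theorem cobdy_eq_bot (n : ℕ) (h : ∀ j, j < n → GrLC.gam m.toIdeal (E.X j).carrier = ⊥) :
    E.cobdy m n = ⊥ := by
  cases n with
  | zero => rfl
  | succ k =>
    show (GrLC.gam m.toIdeal (E.X k).carrier).map (E.d k) = ⊥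
    rw [h k (Nat.lt_succ_self k), Submodule.map_bot]

include hE in
/-- The step past the non-vanishing degree, given a retraction onto the cocycles. -/
theorem gam_succ_eq_bot_of_split (n : ℕ) {Q : Type u} [AddCommGroup Q] [Module R Q]
    (ρ : (E.X n).carrier →ₗ[R] Q) (hinj : ∀ z ∈ E.cocyc m n, ρ z = 0 → z = 0)
    (hsurj : ∀ y, ∃ z ∈ E.cocyc m n, ρ z = ρ y) (h : Subsingleton (E.H m (n + 1))) :
    GrLC.gam m.toIdeal (E.X (n + 1)).carrier = ⊥ := by
  apply gam_eq_bot_of_socR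
  rw [eq_bot_iff]
  intro z hz
  have h1 : z ∈ (GrLC.gam m.toIdeal (E.X n).carrier).map (E.d n) :=
    mem_cobdy_of_subsingleton m (n + 1) h (socR_le_cocyc hE m (n + 1) hz)
  obtain ⟨y, hy, rfl⟩ := h1
  obtain ⟨y₁, hy₁, hρ⟩ := hsurj y
  have hy₂ : y - y₁ ∈ GrLC.gam m.toIdeal (E.X n).carrier := sub_mem hy hy₁.1
  have hρ₂ : ρ (y - y₁) = 0 := by rw [map_sub, hρ, sub_self]
  have hzero : y - y₁ = 0 := by
    by_contra hne
    obtain ⟨r, hr0, hrs⟩ := exists_smul_mem_socR m.toIdeal hy₂ hne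
    apply hr0
    refine hinj _ (socR_le_cocyc hE m n hrs) ?_
    rw [map_smul, hρ₂, smul_zero]
  have hd : E.d n y₁ = 0 := hy₁.2
  have e1 : y = y₁ := sub_eq_zero.mp hzero
  rw [Submodule.mem_bot, e1]
  exact hd

include hE in
theorem gam_eq_bot_of_gt (n : ℕ) (hn : GrLC.gam m.toIdeal (E.X (n + 1)).carrier = ⊥)
    (hvan : ∀ j, n < j → Subsingleton (E.H m j)) :
    ∀ k, GrLC.gam m.toIdeal (E.X (n + 1 + k)).carrier = ⊥ := by
  intro k
  induction k with
  | zero => exact hn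
  | succ k ih => exact gam_succ_eq_bot hE m (n + 1 + k) ih (hvan _ (by omega))

end minimal

/-! ### The retraction onto the cocycles -/

section split

variable {ι : Type} [AddCommGroup ι] [DecidableEq ι]
variable {R : Type u} [CommRing R] {𝒜 : ι → AddSubgroup R} [GradedRing 𝒜]
variable {X : GrLC.GMod.{u} 𝒜} (E : GrLC.StarInjRes 𝒜 X.gr) (m : HomogeneousIdeal 𝒜)
variable {E' : Type u} [AddCommGroup E'] [Module R E'] (𝓔 : ι → AddSubgroup E')
  [DirectSum.Decomposition 𝓔] [SetLike.GradedSMul 𝒜 𝓔]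

theorem exists_split (n : ℕ) (hcob : E.cobdy m n = ⊥) (hinjE : GrLC.IsStarInj 𝒜 𝓔) (s : ι)
    (χ : E.H m n ≃ₗ[R] E') (hχ : ∀ d ξ, ξ ∈ E.Hgr m n d → χ ξ ∈ 𝓔 (d + s)) :
    ∃ ρ : (E.X n).carrier →ₗ[R] E', (∀ z ∈ E.cocyc m n, ρ z = 0 → z = 0) ∧
      ∀ y, ∃ z ∈ E.cocyc m n, ρ z = ρ y := by
  have hZ : (E.cocyc m n).IsHomogeneous (E.X n).gr := cocyc_isHomogeneous m E n
  have hf : GrLC.IsGrHom (shiftG (subG (E.X n) (E.cocyc m n) hZ) (-s)).gr
      (shiftG (E.X n) (-s)).gr (E.cocyc m n).subtype := fun j x hx => hx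
  have hg : GrLC.IsGrHom (shiftG (subG (E.X n) (E.cocyc m n) hZ) (-s)).gr 𝓔
      (χ.toLinearMap ∘ₗ E.toH m n) := by
    intro j x hx
    have hx' : (E.cocyc m n).subtype x ∈ (E.X n).gr (j + -s) := hx
    have h1 : E.toH m n x ∈ E.Hgr m n (j + -s) := ⟨x, hx', rfl⟩
    have h2 := hχ _ _ h1
    rwa [neg_add_cancel_right] at h2
  obtain ⟨ρ', -, hρ⟩ := hinjE (shiftG (subG (E.X n) (E.cocyc m n) hZ) (-s))
    (shiftG (E.X n) (-s)) (E.cocyc m n).subtype hf (Submodule.subtype_injective _)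
    (χ.toLinearMap ∘ₗ E.toH m n) hg
  have hρ' : ∀ z : ↥(E.cocyc m n), ρ' z.1 = χ (E.toH m n z) := fun z => LinearMap.congr_fun hρ z
  refine ⟨ρ', ?_, ?_⟩
  · intro z hz hz0
    have h1 : χ (E.toH m n ⟨z, hz⟩) = 0 := by
      rw [← hρ' ⟨z, hz⟩]
      exact hz0
    have h2 : E.toH m n ⟨z, hz⟩ = 0 := χ.injective (by rw [map_zero]; exact h1)
    have h3 := (Submodule.Quotient.mk_eq_zero _).mp h2
    have h4 : z ∈ E.cobdy m n := h3
    rw [hcob] at h4
    exact (Submodule.mem_bot R).mp h4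
  · intro y
    obtain ⟨z, hz⟩ := Submodule.mkQ_surjective
      ((E.cobdy m n).comap (E.cocyc m n).subtype) (χ.symm (ρ' y))
    refine ⟨z.1, z.2, ?_⟩
    have hz' : E.toH m n z = χ.symm (ρ' y) := hz
    have h2 := hρ' z
    rw [hz', χ.apply_symm_apply] at h2
    exact h2

end split

/-! ### From the structure of local cohomology to the Gorenstein property -/

section gorenstein

variable {ι : Type} [AddCommGroup ι] [DecidableEq ι] [Module.Free ℤ ι] [Module.Finite ℤ ι]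
variable {R : Type u} [CommRing R] [IsNoetherianRing R] {𝒜 : ι → AddSubgroup R} [GradedRing 𝒜]
variable (m : HomogeneousIdeal 𝒜) (hm : GrLC.IsStarLocal 𝒜 m) [hmax : m.toIdeal.IsMaximal]
variable {E' : Type u} [AddCommGroup E'] [Module R E'] (𝓔 : ι → AddSubgroup E')
  [DirectSum.Decomposition 𝓔] [SetLike.GradedSMul 𝒜 𝓔]

include hm in
theorem isGorensteinRing_of_equiv_min (n : ℕ) (J : GrLC.StarInjRes 𝒜 𝒜) (hJ : IsMin J)
    (hvan : ∀ j, j ≠ n → Subsingleton (J.H m j)) (hinjE : GrLC.IsStarInj 𝒜 𝓔) (s : ι)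
    (χ : J.H m n ≃ₗ[R] E') (hχ : ∀ d ξ, ξ ∈ J.Hgr m n d → χ ξ ∈ 𝓔 (d + s)) :
    LocCoh.IsGorensteinRing R := by
  have hlt := gam_eq_bot_of_lt hJ m n (fun j hj => hvan j (by omega))
  have hcob := cobdy_eq_bot (E := J) m n hlt
  obtain ⟨ρ, hρ1, hρ2⟩ :=
    exists_split (X := GrLC.GMod.of 𝒜 R 𝒜) J m 𝓔 n hcob hinjE s χ hχ
  have hn1 := gam_succ_eq_bot_of_split hJ m n ρ hρ1 hρ2 (hvan (n + 1) (by omega))
  have hgt := gam_eq_bot_of_gt hJ m n hn1 (fun j hj => hvan j (by omega))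
  have hb : ∀ j, n + 1 ≤ j → GrLC.bassNum m.toIdeal R j = 0 := by
    intro j hj
    obtain ⟨k, rfl⟩ : ∃ k, j = n + 1 + k := ⟨j - (n + 1), by omega⟩
    rw [bassNum_eq_length_soc J hJ m (n + 1 + k), length_soc_eq_zero_iff, eq_bot_iff]
    exact (socR_le_gam m.toIdeal).trans (hgt k).le
  have hloc := Groth.Agent.Lib.R2H7.GrGorBass.gorenstein_of_bassNum m.toIdeal (n + 1) hb
  exact Groth.Agent.Lib.R2H7.GrGorLoc.isGorensteinRing_of_localization 𝒜 m hm hloc

include hm in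
/-- If `H^j_m(R) = 0` for `j ≠ n` and `H^n_m(R)` is, up to a shift of degrees, a *injective module,
then the *local ring `R` is Gorenstein. -/
theorem isGorensteinRing_of_equiv (n : ℕ) (I : GrLC.StarInjRes 𝒜 𝒜)
    (hvan : ∀ j, j ≠ n → Subsingleton (I.H m j)) (hinjE : GrLC.IsStarInj 𝒜 𝓔) (s : ι)
    (χ : I.H m n ≃ₗ[R] E') (hχ : ∀ d ξ, ξ ∈ I.Hgr m n d → χ ξ ∈ 𝓔 (d + s)) :
    LocCoh.IsGorensteinRing R := by
  have hJ := minRes_isMin 𝒜 𝒜
  refine isGorensteinRing_of_equiv_min m hm 𝓔 n (minRes 𝒜 𝒜) hJ ?_ hinjE s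
    ((hEquiv (X := GrLC.GMod.of 𝒜 R 𝒜) m (minRes 𝒜 𝒜) I n).trans χ) ?_
  · intro j hj
    exact @Equiv.subsingleton _ _
      (hEquiv (X := GrLC.GMod.of 𝒜 R 𝒜) m (minRes 𝒜 𝒜) I j).toEquiv (hvan j hj)
  · intro d ξ hξ
    exact hχ d _ (hEquiv_mem (X := GrLC.GMod.of 𝒜 R 𝒜) m (minRes 𝒜 𝒜) I n d hξ)

end gorenstein

/-! ### From the Gorenstein property to the structure of local cohomology -/

section homog

variable {ι : Type} [AddCommGroup ι] [DecidableEq ι]
variable {R : Type u} [CommRing R] {𝒜 : ι → AddSubgroup R} [GradedRing 𝒜]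

/-- The socle with respect to a homogeneous ideal is a homogeneous submodule. -/
theorem socR_isHomogeneous (m : HomogeneousIdeal 𝒜) (Y : GrLC.GMod.{u} 𝒜) :
    (socR m.toIdeal Y.carrier).IsHomogeneous Y.gr := by
  classical
  intro g y hy r hr
  rw [← DirectSum.sum_support_decompose 𝒜 r, Finset.sum_smul]
  refine Finset.sum_eq_zero fun i _ => ?_
  have hri : ((decompose 𝒜 r) i : R) ∈ m.toIdeal := m.isHomogeneous i hr
  have h1 := hy _ hri
  have h2 := decompose_smul_of_mem 𝒜 Y.gr (SetLike.coe_mem ((decompose 𝒜 r) i)) y (g + i)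
  rw [h1, add_sub_cancel_right] at h2
  rw [← h2, DirectSum.decompose_zero]
  rfl

/-- Transport of degrees between two cyclic modules with the same annihilator. -/
theorem smul_mem_gr_of_smul_mem {Y₁ Y₂ : GrLC.GMod.{u} 𝒜} {x : Y₁.carrier} {η : Y₂.carrier}
    {s₀ : ι} (hx : x ∈ Y₁.gr 0) (hη : η ∈ Y₂.gr s₀) (hann : ∀ r : R, r • x = 0 → r • η = 0)
    {r : R} {d : ι} (hr : r • x ∈ Y₁.gr d) : r • η ∈ Y₂.gr (d + s₀) := by
  classical
  have hsum : r • η = ∑ i ∈ (decompose 𝒜 r).support, ((decompose 𝒜 r) i : R) • η := by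
    conv_lhs => rw [← DirectSum.sum_support_decompose 𝒜 r]
    rw [Finset.sum_smul]
  rw [hsum]
  refine AddSubgroup.sum_mem _ (fun i _ => ?_)
  by_cases hi : i = d
  · subst hi
    have h1 := SetLike.GradedSMul.smul_mem (A := 𝒜) (B := Y₂.gr)
      (SetLike.coe_mem ((decompose 𝒜 r) i)) hη
    rw [vadd_eq_add] at h1
    exact h1
  · have h1 := decompose_smul_of_mem_right 𝒜 Y₁.gr hx r i
    rw [sub_zero, DirectSum.decompose_of_mem_ne Y₁.gr hr (fun h => hi h.symm)] at h1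
    rw [hann _ h1.symm]
    exact zero_mem _

end homog

section converse

variable {ι : Type} [AddCommGroup ι] [DecidableEq ι] [Module.Free ℤ ι] [Module.Finite ℤ ι]
variable {R : Type u} [CommRing R] [IsNoetherianRing R] {𝒜 : ι → AddSubgroup R} [GradedRing 𝒜]
variable (m : HomogeneousIdeal 𝒜) [hmax : m.toIdeal.IsMaximal]
variable {E' : Type u} [AddCommGroup E'] [Module R E'] (𝓔 : ι → AddSubgroup E')
  [DirectSum.Decomposition 𝓔] [SetLike.GradedSMul 𝒜 𝓔]

theorem exists_equiv_min (n : ℕ) (hht : m.toIdeal.height = n) [hG : LocCoh.IsGorensteinRing R]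
    (J : GrLC.StarInjRes 𝒜 𝒜) (hJ : IsMin J)
    (e : (R ⧸ m.toIdeal) →ₗ[R] E') (he : GrLC.IsStarInjHull 𝒜 (GrLC.quotGr 𝒜 m) 𝓔 e) :
    (∀ j, j ≠ n → Subsingleton (J.H m j)) ∧
    ∃ (s : ι) (ψ : E' ≃ₗ[R] J.H m n), (∀ d x, x ∈ 𝓔 (d + s) → ψ x ∈ J.Hgr m n d) ∧
      (∀ d ξ, ξ ∈ J.Hgr m n d → ψ.symm ξ ∈ 𝓔 (d + s)) := by
  classical
  have hGm := hG.isGorensteinLocalRing_localization m.toIdeal
  have hbass : ∀ j, GrLC.bassNum m.toIdeal R j = if j = n then 1 else 0 :=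
    fun j => Groth.Agent.Lib.R2H7.GrGorBass.bassNum_of_gorenstein m.toIdeal hGm n hht j
  have hsoc : ∀ j, j ≠ n → socR m.toIdeal (J.X j).carrier = ⊥ := by
    intro j hj
    rw [← length_soc_eq_zero_iff, ← bassNum_eq_length_soc J hJ m j, hbass j, if_neg hj]
  have hgam : ∀ j, j ≠ n → GrLC.gam m.toIdeal (J.X j).carrier = ⊥ :=
    fun j hj => gam_eq_bot_of_socR _ (hsoc j hj)
  have hlen : Module.length (Localization.AtPrime m.toIdeal)
      (Groth.Agent.Lib.Helper29Socle.soc (Localization.AtPrime m.toIdeal)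
        (LocalizedModule m.toIdeal.primeCompl (J.X n).carrier)) = 1 := by
    rw [← bassNum_eq_length_soc J hJ m n, hbass n, if_pos rfl]
  -- vanishing
  have hvan : ∀ j, j ≠ n → Subsingleton (J.H m j) := by
    intro j hj
    have hc : J.cocyc m j = ⊥ := eq_bot_iff.mpr (inf_le_left.trans (hgam j hj).le)
    have hs : Subsingleton ↥(J.cocyc m j) := Submodule.subsingleton_iff_eq_bot.mpr hc
    refine ⟨fun a b => ?_⟩
    obtain ⟨a', rfl⟩ := Submodule.mkQ_surjective _ a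
    obtain ⟨b', rfl⟩ := Submodule.mkQ_surjective _ b
    rw [Subsingleton.elim a' b']
  refine ⟨hvan, ?_⟩
  -- a homogeneous generator of the socle
  have hsne : socR m.toIdeal (J.X n).carrier ≠ ⊥ := by
    intro h0
    rw [← length_soc_eq_zero_iff, hlen] at h0
    exact one_ne_zero h0
  obtain ⟨η', hη'mem, hη'0⟩ := Submodule.exists_mem_ne_zero_of_ne_bot hsne
  obtain ⟨s₀, hs₀⟩ := exists_component_ne_zero (J.X n).gr hη'0
  obtain ⟨η, hηdef⟩ : ∃ η : (J.X n).carrier, η = ((decompose (J.X n).gr η') s₀ : (J.X n).carrier) :=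
    ⟨_, rfl⟩
  have hηsoc : η ∈ socR m.toIdeal (J.X n).carrier := by
    rw [hηdef]
    exact socR_isHomogeneous m (J.X n) s₀ hη'mem
  have hηgr : η ∈ (J.X n).gr s₀ := by
    rw [hηdef]
    exact SetLike.coe_mem _
  have hη0 : η ≠ 0 := by
    rw [hηdef]
    exact hs₀
  have hgen : ∀ y ∈ socR m.toIdeal (J.X n).carrier, ∃ c : R, y = c • η :=
    fun y hy => exists_smul_of_length_eq_one m.toIdeal _ hlen hηsoc hη0 hy
  -- the generator of the image of the residue field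
  obtain ⟨x0, hx0def⟩ : ∃ x0 : E', x0 = e (Ideal.Quotient.mk m.toIdeal 1) := ⟨_, rfl⟩
  have he_mk : ∀ t : R, e (Ideal.Quotient.mk m.toIdeal t) = t • x0 := by
    intro t
    have h1 : Ideal.Quotient.mk m.toIdeal t = t • (Ideal.Quotient.mk m.toIdeal 1) := by
      have := (Submodule.mkQ m.toIdeal).map_smul t (1 : R)
      rw [smul_eq_mul, mul_one] at this
      exact this
    rw [h1, map_smul, hx0def]
  have hx0gr : x0 ∈ 𝓔 0 := by
    rw [hx0def]
    exact he.grHom 0 _ ⟨1, (SetLike.GradedOne.one_mem : (1 : R) ∈ 𝒜 0), rfl⟩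
  have hx0soc : x0 ∈ socR m.toIdeal E' := by
    intro r hr
    rw [← he_mk r, Ideal.Quotient.eq_zero_iff_mem.mpr hr, map_zero]
  have hx0ne : x0 ≠ 0 := by
    intro h0
    rw [hx0def] at h0
    have h1 : Ideal.Quotient.mk m.toIdeal 1 = 0 := he.injective (by rw [h0, map_zero])
    exact hmax.ne_top ((Ideal.eq_top_iff_one _).mpr (Ideal.Quotient.eq_zero_iff_mem.mp h1))
  have hann : ∀ r : R, r • x0 = 0 → r • η = 0 := by
    intro r hr
    by_cases hrm : r ∈ m.toIdeal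
    · exact hηsoc r hrm
    · exact absurd (eq_zero_of_smul_eq_zero hx0soc hrm hr) hx0ne
  have hann' : ∀ r : R, r • η = 0 → r • x0 = 0 := by
    intro r hr
    by_cases hrm : r ∈ m.toIdeal
    · exact hx0soc r hrm
    · exact absurd (eq_zero_of_smul_eq_zero hηsoc hrm hr) hη0
  -- the image of the residue field is homogeneous
  have hK : (LinearMap.range e).IsHomogeneous 𝓔 := by
    rintro i _ ⟨q, rfl⟩
    obtain ⟨t, rfl⟩ := Ideal.Quotient.mk_surjective q
    rw [he_mk t, decompose_smul_of_mem_right 𝒜 𝓔 hx0gr t i, sub_zero]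
    exact ⟨Ideal.Quotient.mk m.toIdeal ((decompose 𝒜 t) i : R), he_mk _⟩
  -- the map on the image of the residue field
  have hle : m.toIdeal ≤ LinearMap.ker (LinearMap.toSpanSingleton R (J.X n).carrier η) := by
    intro r hr
    rw [LinearMap.mem_ker, LinearMap.toSpanSingleton_apply]
    exact hηsoc r hr
  obtain ⟨ιη, hιη⟩ : ∃ ιη : (R ⧸ m.toIdeal) →ₗ[R] (J.X n).carrier,
      ∀ t : R, ιη (Ideal.Quotient.mk m.toIdeal t) = t • η :=
    ⟨Submodule.liftQ m.toIdeal (LinearMap.toSpanSingleton R (J.X n).carrier η) hle,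
      fun t => rfl⟩
  obtain ⟨β₀, hβ₀⟩ : ∃ β₀ : ↥(LinearMap.range e) →ₗ[R] (J.X n).carrier,
      ∀ (t : R) (h : e (Ideal.Quotient.mk m.toIdeal t) ∈ LinearMap.range e),
        β₀ ⟨e (Ideal.Quotient.mk m.toIdeal t), h⟩ = t • η := by
    refine ⟨ιη ∘ₗ (LinearEquiv.ofInjective e he.injective).symm.toLinearMap, fun t h => ?_⟩
    have h1 : (LinearEquiv.ofInjective e he.injective).symm
        ⟨e (Ideal.Quotient.mk m.toIdeal t), h⟩ = Ideal.Quotient.mk m.toIdeal t := by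
      apply (LinearEquiv.ofInjective e he.injective).injective
      rw [LinearEquiv.apply_symm_apply]
      rfl
    show ιη ((LinearEquiv.ofInjective e he.injective).symm
      ⟨e (Ideal.Quotient.mk m.toIdeal t), h⟩) = t • η
    rw [h1, hιη]
  have hf : GrLC.IsGrHom (shiftG (subG (GrLC.GMod.of 𝒜 E' 𝓔) (LinearMap.range e) hK) (-s₀)).gr
      (shiftG (GrLC.GMod.of 𝒜 E' 𝓔) (-s₀)).gr (LinearMap.range e).subtype := fun j x hx => hx
  have hβ₀gr : GrLC.IsGrHom
      (shiftG (subG (GrLC.GMod.of 𝒜 E' 𝓔) (LinearMap.range e) hK) (-s₀)).gr (J.X n).gr β₀ := by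
    intro j x hx
    have hx' : (LinearMap.range e).subtype x ∈ 𝓔 (j + -s₀) := hx
    obtain ⟨q, hq⟩ := x.2
    obtain ⟨t, rfl⟩ := Ideal.Quotient.mk_surjective q
    have hxeq : x = ⟨e (Ideal.Quotient.mk m.toIdeal t), ⟨_, rfl⟩⟩ := Subtype.ext hq.symm
    rw [hxeq, hβ₀]
    have h1 : t • x0 ∈ (GrLC.GMod.of 𝒜 E' 𝓔).gr (j + -s₀) := by
      rw [← he_mk t, hq]
      exact hx'
    have h2 := smul_mem_gr_of_smul_mem (Y₁ := GrLC.GMod.of 𝒜 E' 𝓔) (Y₂ := J.X n) hx0gr hηgr hann h1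
    rwa [neg_add_cancel_right] at h2
  obtain ⟨β', hβgr', hβ'⟩ := J.starInj n
    (shiftG (subG (GrLC.GMod.of 𝒜 E' 𝓔) (LinearMap.range e) hK) (-s₀))
    (shiftG (GrLC.GMod.of 𝒜 E' 𝓔) (-s₀)) (LinearMap.range e).subtype hf
    (Submodule.subtype_injective _) β₀ hβ₀gr
  obtain ⟨β, hββ'⟩ : ∃ β : E' →ₗ[R] (J.X n).carrier, ∀ x : E', β x = β' x :=
    ⟨β', fun _ => rfl⟩
  have hβgr : ∀ (j : ι) (x : E'), x ∈ 𝓔 (j + -s₀) → β x ∈ (J.X n).gr j := by
    intro j x hx
    rw [hββ']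
    exact hβgr' j x hx
  have hβ : ∀ y : ↥(LinearMap.range e), β y.1 = β₀ y := by
    intro y
    rw [hββ']
    exact LinearMap.congr_fun hβ' y
  have hβx : ∀ t : R, β (t • x0) = t • η := by
    intro t
    have h1 := hβ ⟨e (Ideal.Quotient.mk m.toIdeal t), ⟨_, rfl⟩⟩
    rw [hβ₀] at h1
    rw [← h1, ← he_mk t]
  -- injectivity
  have hβinj : Function.Injective β := by
    rw [injective_iff_map_eq_zero]
    intro x hx
    by_contra hne
    obtain ⟨h, r, -, hr0, hrK⟩ := exists_smul_mem 𝒜 𝓔 (LinearMap.range e) hK he.essential x hne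
    obtain ⟨q, hq⟩ := hrK
    obtain ⟨t, rfl⟩ := Ideal.Quotient.mk_surjective q
    rw [he_mk t] at hq
    apply hr0
    rw [← hq]
    apply hann'
    rw [← hβx t, hq, map_smul, hx, smul_zero]
  -- the image consists of cocycles
  have htop : GrLC.gam m.toIdeal E' = ⊤ := Groth.Agent.S13220.result R 𝒜 m E' 𝓔 e he
  have hβgam : ∀ x, β x ∈ GrLC.gam m.toIdeal (J.X n).carrier := by
    intro x
    refine gam_map m.toIdeal β ?_
    rw [htop]
    exact Submodule.mem_top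
  have hβZ : ∀ x, β x ∈ J.cocyc m n := by
    intro x
    refine ⟨hβgam x, ?_⟩
    have h1 : J.d n (β x) ∈ GrLC.gam m.toIdeal (J.X (n + 1)).carrier :=
      gam_map m.toIdeal (J.d n) (hβgam x)
    rw [hgam (n + 1) (by omega)] at h1
    exact h1
  have hZ : (J.cocyc m n).IsHomogeneous (J.X n).gr :=
    cocyc_isHomogeneous (X := GrLC.GMod.of 𝒜 R 𝒜) m J n
  obtain ⟨f', hf'⟩ : ∃ f' : E' →ₗ[R] ↥(J.cocyc m n), ∀ x, (f' x : (J.X n).carrier) = β x :=
    ⟨β.codRestrict (J.cocyc m n) hβZ, fun x => rfl⟩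
  have hf'inj : Function.Injective f' := by
    intro x y hxy
    apply hβinj
    rw [← hf', ← hf', hxy]
  obtain ⟨F, hF⟩ : ∃ F : (shiftG (GrLC.GMod.of 𝒜 E' 𝓔) (-s₀)).carrier →ₗ[R]
      (subG (J.X n) (J.cocyc m n) hZ).carrier, ∀ x : E', F x = f' x := ⟨f', fun _ => rfl⟩
  have hess : GrLC.IsStarEss (shiftG (GrLC.GMod.of 𝒜 E' 𝓔) (-s₀)).gr
      (subG (J.X n) (J.cocyc m n) hZ).gr F := by
    refine { injective := ?_, grHom := ?_, essential := ?_ }
    · intro (x : E') (y : E') hxy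
      rw [hF, hF] at hxy
      exact hf'inj hxy
    · intro j (x : E') hx
      show (J.cocyc m n).subtype (F x) ∈ (J.X n).gr j
      rw [hF]
      show (f' x : (J.X n).carrier) ∈ (J.X n).gr j
      rw [hf']
      exact hβgr j x hx
    · intro P _ hP0 hbot
      obtain ⟨y, hyP, hy0⟩ := Submodule.exists_mem_ne_zero_of_ne_bot hP0
      have hy0' : (J.cocyc m n).subtype y ≠ 0 := fun h => hy0 (Subtype.ext h)
      have hygam : (J.cocyc m n).subtype y ∈ GrLC.gam m.toIdeal (J.X n).carrier := y.2.1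
      obtain ⟨r, hr0, hrs⟩ := exists_smul_mem_socR m.toIdeal hygam hy0'
      obtain ⟨c, hc⟩ := hgen _ hrs
      have hmem : r • y ∈ P ⊓ LinearMap.range F := by
        refine ⟨P.smul_mem r hyP, c • x0, ?_⟩
        rw [hF]
        apply Subtype.ext
        rw [hf', hβx]
        exact hc.symm
      rw [hbot, Submodule.mem_bot] at hmem
      apply hr0
      have h5 := congrArg (J.cocyc m n).subtype hmem
      exact h5
  have hFsurj : Function.Surjective F :=
    (Groth.Agent.S13212.result R 𝒜 (shiftG (GrLC.GMod.of 𝒜 E' 𝓔) (-s₀)).carrier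
      (shiftG (GrLC.GMod.of 𝒜 E' 𝓔) (-s₀)).gr).mp
      (isStarInj_shift (X := GrLC.GMod.of 𝒜 E' 𝓔) he.starInj (-s₀))
      (subG (J.X n) (J.cocyc m n) hZ) F hess
  have hf'surj : Function.Surjective f' := by
    intro z
    obtain ⟨x, hx⟩ := hFsurj z
    exact ⟨x, (hF x).symm.trans hx⟩
  -- the class map is bijective
  have hcob : J.cobdy m n = ⊥ := cobdy_eq_bot (E := J) m n (fun j hj => hgam j (by omega))
  have htinj : Function.Injective (J.toH m n) := by
    rw [injective_iff_map_eq_zero]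
    intro z hz
    have h3 := (Submodule.Quotient.mk_eq_zero _).mp hz
    have h4 : (z : (J.X n).carrier) ∈ J.cobdy m n := h3
    rw [hcob] at h4
    exact Subtype.ext ((Submodule.mem_bot R).mp h4)
  have htsurj : Function.Surjective (J.toH m n) := Submodule.mkQ_surjective _
  refine ⟨-s₀, (LinearEquiv.ofBijective f' ⟨hf'inj, hf'surj⟩).trans
    (LinearEquiv.ofBijective (J.toH m n) ⟨htinj, htsurj⟩), ?_, ?_⟩
  · intro d x hx
    refine ⟨f' x, ?_, rfl⟩
    rw [hf']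
    exact hβgr d x hx
  · intro d ξ hξ
    obtain ⟨z, hzgr, rfl⟩ := hξ
    obtain ⟨x, rfl⟩ := hf'surj z
    have h1 : ((LinearEquiv.ofBijective f' ⟨hf'inj, hf'surj⟩).trans
        (LinearEquiv.ofBijective (J.toH m n) ⟨htinj, htsurj⟩)).symm (J.toH m n (f' x)) = x := by
      rw [LinearEquiv.symm_apply_eq]
      rfl
    rw [h1]
    have hind : iSupIndep (J.X n).gr :=
      (DirectSum.Decomposition.isInternal (J.X n).gr).addSubgroup_iSupIndep
    have hspan : ∀ x : E', ∃ (s : Finset ι) (c : ι → E'),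
        (∀ g, c g ∈ 𝓔 (g + -s₀)) ∧ x = ∑ g ∈ s, c g := by
      intro x
      refine ⟨(decompose 𝓔 x).support.image (fun i => i + s₀),
        fun g => ((decompose 𝓔 x) (g + -s₀) : E'), fun g => SetLike.coe_mem _, ?_⟩
      rw [Finset.sum_image (fun a _ b _ h => add_right_cancel h)]
      have hcast : ∀ a b : ι, a = b → ((decompose 𝓔 x) a : E') = ((decompose 𝓔 x) b : E') := by
        intro a b h
        subst h
        rfl
      rw [Finset.sum_congr rfl (fun i _ => hcast (i + s₀ + -s₀) i (add_neg_cancel_right i s₀))]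
      exact (DirectSum.sum_support_decompose 𝓔 x).symm
    have key := mem_of_map_mem (fun g => 𝓔 (g + -s₀)) (J.X n).gr
      (β.toAddMonoidHom : E' →+ (J.X n).carrier) hβinj (fun g x hx => hβgr g x hx) hspan hind
      (g := d) (x := x) (by
        show β x ∈ (J.X n).gr d
        rw [← hf']
        exact hzgr)
    exact key

/-- A Gorenstein *local ring `(R, m)` with `ht m = n` has `H^j_m(R) = 0` for `j ≠ n`, and
`H^n_m(R)` is, up to a shift of degrees, the *injective envelope of `R/m`. -/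
theorem exists_equiv_of_isGorensteinRing (n : ℕ) (hht : m.toIdeal.height = n)
    [hG : LocCoh.IsGorensteinRing R] (I : GrLC.StarInjRes 𝒜 𝒜)
    (e : (R ⧸ m.toIdeal) →ₗ[R] E') (he : GrLC.IsStarInjHull 𝒜 (GrLC.quotGr 𝒜 m) 𝓔 e) :
    (∀ j, j ≠ n → Subsingleton (I.H m j)) ∧
    ∃ (s : ι) (χ : I.H m n ≃ₗ[R] E'), (∀ d ξ, ξ ∈ I.Hgr m n d → χ ξ ∈ 𝓔 (d + s)) ∧
      (∀ d x, x ∈ 𝓔 (d + s) → χ.symm x ∈ I.Hgr m n d) := by
  obtain ⟨hvan, s, ψ, h1, h2⟩ :=
    exists_equiv_min m 𝓔 n hht (minRes 𝒜 𝒜) (minRes_isMin 𝒜 𝒜) e he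
  refine ⟨fun j hj => ?_, s,
    (hEquiv (X := GrLC.GMod.of 𝒜 R 𝒜) m I (minRes 𝒜 𝒜) n).trans ψ.symm, ?_, ?_⟩
  · exact @Equiv.subsingleton _ _
      (hEquiv (X := GrLC.GMod.of 𝒜 R 𝒜) m I (minRes 𝒜 𝒜) j).toEquiv (hvan j hj)
  · intro d ξ hξ
    exact h2 d _ (hEquiv_mem (X := GrLC.GMod.of 𝒜 R 𝒜) m I (minRes 𝒜 𝒜) n d hξ)
  · intro d x hx
    show (hEquiv (X := GrLC.GMod.of 𝒜 R 𝒜) m I (minRes 𝒜 𝒜) n).symm (ψ x) ∈ I.Hgr m n d
    exact hEquiv_symm_mem (X := GrLC.GMod.of 𝒜 R 𝒜) m I (minRes 𝒜 𝒜) n d (h1 d x hx)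

end converse

end Groth.Agent.Lib.R2H7.GrGorChar
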