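/-
The homogeneous pieces `H^i_a(X)_g` of graded local cohomology as honest modules over the
degree-zero subring `R_0`, the maps induced by chain maps, the connecting homomorphism of the
horseshoe resolution and the long exact sequence as `Function.Exact` statements.  A generic
"two out of three" principle (`Good`) transports finiteness, Artinian-ness, finite length, ...
along the long exact sequence.
-/
import Mathlib
import Groth.Agent.Lib.R2H7GrLES

set_option autoImplicit false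
open DirectSum

noncomputable section

namespace Groth.Agent.Lib.R2H7.GrH

open Groth.Agent.Lib.Helper29GrCompare Groth.Agent.Lib.Helper29GrHom
  Groth.Agent.Lib.Helper29GrGam Groth.Agent.Lib.R2H7.GrDer Groth.Agent.Lib.R2H7.GrOps
  Groth.Agent.Lib.R2H7.GrLES

universe u

variable {ι : Type} [AddCommGroup ι] [DecidableEq ι]
variable {R : Type u} [CommRing R] {𝒜 : ι → AddSubgroup R} [GradedRing 𝒜]

/-! ### The pieces as `R_0`-modules -/

section defs

variable {X : GrLC.GMod.{u} 𝒜} (a : HomogeneousIdeal 𝒜) (E : GrLC.StarInjRes 𝒜 X.gr)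

/-- The cocycles of degree `g`, an `R_0`-submodule. -/
def Zg (i : ℕ) (g : ι) : Submodule (GrLC.deg0 𝒜) (E.X i).carrier :=
  (E.cocyc a i).restrictScalars (GrLC.deg0 𝒜) ⊓ GrLC.comp 𝒜 (E.X i).gr g

theorem mem_Zg {i : ℕ} {g : ι} {z : (E.X i).carrier} :
    z ∈ Zg a E i g ↔ z ∈ E.cocyc a i ∧ z ∈ (E.X i).gr g := Iff.rfl

/-- The coboundaries among the cocycles of degree `g`. -/
def Bg (i : ℕ) (g : ι) : Submodule (GrLC.deg0 𝒜) ↥(Zg a E i g) :=
  ((E.cobdy a i).restrictScalars (GrLC.deg0 𝒜)).comap (Zg a E i g).subtype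

theorem mem_Bg {i : ℕ} {g : ι} {z : ↥(Zg a E i g)} :
    z ∈ Bg a E i g ↔ (z : (E.X i).carrier) ∈ E.cobdy a i := Iff.rfl

/-- The piece `H^i_a(X)_g` computed from `E`, as an `R_0`-module. -/
abbrev Hg (i : ℕ) (g : ι) : Type u := ↥(Zg a E i g) ⧸ Bg a E i g

/-- The class map to the piece `E.Hcomp a i g` of the prelude. -/
def toHcomp (i : ℕ) (g : ι) : ↥(Zg a E i g) →ₗ[GrLC.deg0 𝒜] ↥(E.Hcomp a i g) where
  toFun z := ⟨E.toH a i ⟨z.1, ((mem_Zg a E).mp z.2).1⟩,
    ⟨⟨z.1, ((mem_Zg a E).mp z.2).1⟩, ((mem_Zg a E).mp z.2).2, rfl⟩⟩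
  map_add' z w := Subtype.ext (by
    show E.toH a i ⟨z.1 + w.1, _⟩ = E.toH a i ⟨z.1, _⟩ + E.toH a i ⟨w.1, _⟩
    rw [← map_add]
    rfl)
  map_smul' r z := Subtype.ext (by
    show E.toH a i ⟨r • z.1, _⟩ = r • E.toH a i ⟨z.1, _⟩
    rw [← LinearMap.map_smul_of_tower]
    rfl)

theorem ker_toHcomp (i : ℕ) (g : ι) : LinearMap.ker (toHcomp a E i g) = Bg a E i g := by
  ext z
  rw [LinearMap.mem_ker, mem_Bg]
  constructor
  · intro h
    have h1 : (Submodule.Quotient.mk (⟨z.1, ((mem_Zg a E).mp z.2).1⟩ : ↥(E.cocyc a i)) :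
        ↥(E.cocyc a i) ⧸ (E.cobdy a i).comap (E.cocyc a i).subtype) = 0 :=
      congrArg Subtype.val h
    have h2 : (⟨z.1, ((mem_Zg a E).mp z.2).1⟩ : ↥(E.cocyc a i)) ∈
        (E.cobdy a i).comap (E.cocyc a i).subtype := (Submodule.Quotient.mk_eq_zero _).mp h1
    exact h2
  · intro h
    apply Subtype.ext
    exact (Submodule.Quotient.mk_eq_zero _).mpr h

theorem toHcomp_surjective (i : ℕ) (g : ι) : Function.Surjective (toHcomp a E i g) := by
  rintro ⟨x, ⟨z, hz, rfl⟩⟩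
  exact ⟨⟨z.1, (mem_Zg a E).mpr ⟨z.2, hz⟩⟩, Subtype.ext rfl⟩

/-- `Hg` is the piece `Hcomp` of the prelude. -/
def hgEquiv (i : ℕ) (g : ι) : Hg a E i g ≃ₗ[GrLC.deg0 𝒜] ↥(E.Hcomp a i g) :=
  (Submodule.quotEquivOfEq _ _ (ker_toHcomp a E i g).symm).trans
    ((toHcomp a E i g).quotKerEquivOfSurjective (toHcomp_surjective a E i g))

end defs

/-! ### Induced maps -/

section maps

variable {X Y : GrLC.GMod.{u} 𝒜} (a : HomogeneousIdeal 𝒜)
  {E : GrLC.StarInjRes 𝒜 X.gr} {E' : GrLC.StarInjRes 𝒜 Y.gr} {f : X.carrier →ₗ[R] Y.carrier}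

/-- The map on cocycles of degree `g` induced by a chain map. -/
def mapZ (c : CMap E E' f) (i : ℕ) (g : ι) : ↥(Zg a E i g) →ₗ[GrLC.deg0 𝒜] ↥(Zg a E' i g) :=
  ((c.θ i).restrictScalars (GrLC.deg0 𝒜)).restrict (fun z hz =>
    (mem_Zg a E').mpr ⟨c.cocyc a ((mem_Zg a E).mp hz).1, c.gr i g z ((mem_Zg a E).mp hz).2⟩)

theorem mapZ_coe (c : CMap E E' f) (i : ℕ) (g : ι) (z : ↥(Zg a E i g)) :
    ((mapZ a c i g z : ↥(Zg a E' i g)) : (E'.X i).carrier) = c.θ i z.1 := rfl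

/-- The map on `H^i_a(-)_g` induced by a chain map. -/
def mapH (c : CMap E E' f) (i : ℕ) (g : ι) : Hg a E i g →ₗ[GrLC.deg0 𝒜] Hg a E' i g :=
  Submodule.mapQ _ _ (mapZ a c i g) (fun z hz => by
    have hz' : (z : (E.X i).carrier) ∈ E.cobdy a i := hz
    exact (mem_Bg a E').mpr (c.cobdy a hz'))

theorem mapH_mk (c : CMap E E' f) (i : ℕ) (g : ι) (z : ↥(Zg a E i g)) :
    mapH a c i g (Submodule.Quotient.mk z) = Submodule.Quotient.mk (mapZ a c i g z) := rfl

end maps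

/-! ### Independence of the resolution -/

section congr

variable {X : GrLC.GMod.{u} 𝒜} (a : HomogeneousIdeal 𝒜)

theorem mapH_comp_eq_id {E₁ E₂ : GrLC.StarInjRes 𝒜 X.gr} (p : CMap E₂ E₁ LinearMap.id)
    (p' : CMap E₁ E₂ LinearMap.id) (i : ℕ) (g : ι) :
    mapH a p' i g ∘ₗ mapH a p i g = LinearMap.id := by
  apply LinearMap.ext
  intro y
  obtain ⟨z, rfl⟩ := Submodule.Quotient.mk_surjective _ y
  rw [LinearMap.comp_apply, LinearMap.id_apply, mapH_mk, mapH_mk]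
  refine (Submodule.Quotient.eq _).mpr ?_
  rw [mem_Bg]
  show p'.θ i (p.θ i z.1) - z.1 ∈ E₂.cobdy a i
  exact comp_sub_mem_cobdy a p p' ((mem_Zg a E₂).mp z.2).1

/-- Two *injective resolutions compute the same pieces. -/
def hgCongr (E₁ E₂ : GrLC.StarInjRes 𝒜 X.gr) (i : ℕ) (g : ι) :
    Hg a E₁ i g ≃ₗ[GrLC.deg0 𝒜] Hg a E₂ i g :=
  LinearEquiv.ofLinear
    (mapH a (Classical.choice (exists_cmap E₁ E₂ LinearMap.id isGrHom_id)) i g)
    (mapH a (Classical.choice (exists_cmap E₂ E₁ LinearMap.id isGrHom_id)) i g)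
    (mapH_comp_eq_id a _ _ i g) (mapH_comp_eq_id a _ _ i g)

end congr

/-! ### The long exact sequence of the horseshoe resolution -/

section horseshoe

variable {X' X X'' : GrLC.GMod.{u} 𝒜} {S : GSES X' X X''}
  {E' : GrLC.StarInjRes 𝒜 X'.gr} {E'' : GrLC.StarInjRes 𝒜 X''.gr}
  (a : HomogeneousIdeal 𝒜) (D : HData S E' E'')

theorem tau_mem_Zg {i : ℕ} {g : ι} {q : (E''.X i).carrier} (hq : q ∈ Zg a E'' i g) :
    D.τ i q ∈ Zg a E' (i + 1) g := by
  obtain ⟨hq1, hqg⟩ := (mem_Zg a E'').mp hq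
  refine (mem_Zg a E').mpr ⟨⟨gam_map _ _ hq1.1, ?_⟩, D.τ_gr i g q hqg⟩
  show E'.d (i + 1) (D.τ i q) = 0
  have h2 : E''.d i q = 0 := hq1.2
  have := D.hs i q
  rw [h2, map_zero, add_zero] at this
  exact this

theorem tau_cobdy {i : ℕ} {q : (E''.X i).carrier} (hq : q ∈ E''.cobdy a i) :
    D.τ i q ∈ E'.cobdy a (i + 1) := by
  cases i with
  | zero =>
    have : q = 0 := (Submodule.mem_bot R).mp hq
    rw [this, map_zero]
    exact zero_mem _
  | succ n =>
    obtain ⟨b, hb, rfl⟩ := hq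
    refine ⟨-(D.τ n b), neg_mem (gam_map _ _ hb), ?_⟩
    have := D.hs n b
    rw [map_neg]
    exact neg_eq_of_add_eq_zero_right this

/-- The connecting map on cocycles. -/
def deltaZ (i : ℕ) (g : ι) : ↥(Zg a E'' i g) →ₗ[GrLC.deg0 𝒜] ↥(Zg a E' (i + 1) g) :=
  ((D.τ i).restrictScalars (GrLC.deg0 𝒜)).restrict (fun _ hq => tau_mem_Zg a D hq)

/-- The connecting homomorphism `H^i_a(X'')_g → H^{i+1}_a(X')_g`. -/
def delta (i : ℕ) (g : ι) : Hg a E'' i g →ₗ[GrLC.deg0 𝒜] Hg a E' (i + 1) g :=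
  Submodule.mapQ _ _ (deltaZ a D i g) (fun q hq => by
    have hq' : (q : (E''.X i).carrier) ∈ E''.cobdy a i := hq
    exact (mem_Bg a E').mpr (tau_cobdy a D hq'))

theorem delta_mk (i : ℕ) (g : ι) (q : ↥(Zg a E'' i g)) :
    delta a D i g (Submodule.Quotient.mk q) = Submodule.Quotient.mk (deltaZ a D i g q) := rfl

/-- Elementwise exactness at the middle term. -/
theorem exists_left_of_snd_cobdy {i : ℕ} {g : ι}
    (zz : (E'.X i).carrier × (E''.X i).carrier) (hzc : zz ∈ (horse D).cocyc a i)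
    (hzg : zz ∈ ((horse D).X i).gr g) (hq : zz.2 ∈ E''.cobdy a i) :
    ∃ p : (E'.X i).carrier, p ∈ Zg a E' i g ∧
      ((p, 0) : (E'.X i).carrier × (E''.X i).carrier) - zz ∈ (horse D).cobdy a i := by
  obtain ⟨⟨hg1, hg2⟩, hd1, hd2⟩ := (horse_cocyc_iff D a i zz).mp hzc
  obtain ⟨hzg1, hzg2⟩ := mem_prodG_gr.mp hzg
  cases i with
  | zero =>
    have hq0 : zz.2 = 0 := (Submodule.mem_bot R).mp hq
    rw [hq0, map_zero, add_zero] at hd1
    refine ⟨zz.1, (mem_Zg a E').mpr ⟨⟨hg1, hd1⟩, hzg1⟩, ?_⟩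
    have h0 : ((zz.1, 0) : (E'.X 0).carrier × (E''.X 0).carrier) - zz = 0 := by
      apply Prod.ext
      · show zz.1 - zz.1 = 0
        exact sub_self _
      · show (0 : (E''.X 0).carrier) - zz.2 = 0
        rw [hq0, sub_self]
    rw [h0]
    exact zero_mem _
  | succ n =>
    obtain ⟨q₁, hq₁g, hq₁gr, hq₁e⟩ := exists_homog_preimage a E'' n hq hzg2
    have hp2 : zz.1 - D.τ n q₁ ∈ E'.cocyc a (n + 1) := by
      refine ⟨sub_mem hg1 (gam_map _ _ hq₁g), ?_⟩
      show E'.d (n + 1) (zz.1 - D.τ n q₁) = 0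
      have := D.hs n q₁
      rw [hq₁e] at this
      rw [map_sub, eq_neg_of_add_eq_zero_left hd1, eq_neg_of_add_eq_zero_left this, sub_self]
    have hp2g : zz.1 - D.τ n q₁ ∈ (E'.X (n + 1)).gr g := sub_mem hzg1 (D.τ_gr n g _ hq₁gr)
    refine ⟨zz.1 - D.τ n q₁, (mem_Zg a E').mpr ⟨hp2, hp2g⟩, ?_⟩
    refine ⟨((0, -q₁) : (E'.X n).carrier × (E''.X n).carrier),
      (mem_gam_prod (X := E'.X n) (Y := E''.X n) a.toIdeal).mpr ⟨zero_mem _, neg_mem hq₁g⟩, ?_⟩
    show hd D n (0, -q₁) = _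
    rw [hd_apply]
    apply Prod.ext
    · show E'.d n 0 + D.τ n (-q₁) = zz.1 - D.τ n q₁ - zz.1
      rw [map_zero, map_neg]
      abel
    · show E''.d n (-q₁) = 0 - zz.2
      rw [map_neg, hq₁e, zero_sub]

/-- Exactness at the middle term. -/
theorem exact_inl_snd (i : ℕ) (g : ι) :
    Function.Exact (mapH a (horseInl D) i g) (mapH a (horseSnd D) i g) := by
  intro y
  constructor
  · intro h
    obtain ⟨z, rfl⟩ := Submodule.Quotient.mk_surjective _ y
    rw [mapH_mk] at h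
    have h1 : mapZ a (horseSnd D) i g z ∈ Bg a E'' i g := (Submodule.Quotient.mk_eq_zero _).mp h
    obtain ⟨hzc, hzg⟩ := (mem_Zg a (horse D)).mp z.2
    obtain ⟨p, hp, hpz⟩ := exists_left_of_snd_cobdy a D z.1 hzc hzg ((mem_Bg a E'').mp h1)
    refine ⟨Submodule.Quotient.mk ⟨p, hp⟩, ?_⟩
    rw [mapH_mk]
    refine (Submodule.Quotient.eq _).mpr ?_
    rw [mem_Bg]
    exact hpz
  · rintro ⟨w, rfl⟩
    obtain ⟨p, rfl⟩ := Submodule.Quotient.mk_surjective _ w
    rw [mapH_mk, mapH_mk]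
    refine (Submodule.Quotient.mk_eq_zero _).mpr ?_
    rw [mem_Bg]
    show (0 : (E''.X i).carrier) ∈ E''.cobdy a i
    exact zero_mem _

/-- Elementwise exactness at the right term. -/
theorem exists_mid_of_tau_cobdy {i : ℕ} {g : ι} (q : (E''.X i).carrier) (hq : q ∈ Zg a E'' i g)
    (hτc : D.τ i q ∈ E'.cobdy a (i + 1)) :
    ∃ zz : (E'.X i).carrier × (E''.X i).carrier, zz ∈ Zg a (horse D) i g ∧ zz.2 = q := by
  obtain ⟨hqc, hqg⟩ := (mem_Zg a E'').mp hq
  obtain ⟨p, hpg, hpgr, hpe⟩ := exists_homog_preimage a E' i hτc (D.τ_gr i g q hqg)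
  have hz : ((-p, q) : (E'.X i).carrier × (E''.X i).carrier) ∈ (horse D).cocyc a i := by
    rw [horse_cocyc_iff]
    refine ⟨⟨neg_mem hpg, hqc.1⟩, ?_, hqc.2⟩
    show E'.d i (-p) + D.τ i q = 0
    rw [map_neg, hpe, neg_add_cancel]
  have hzg : ((-p, q) : (E'.X i).carrier × (E''.X i).carrier) ∈ ((horse D).X i).gr g :=
    mem_prodG_gr.mpr ⟨neg_mem hpgr, hqg⟩
  exact ⟨(-p, q), (mem_Zg a (horse D)).mpr ⟨hz, hzg⟩, rfl⟩

theorem tau_snd_cobdy {i : ℕ} (zz : (E'.X i).carrier × (E''.X i).carrier)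
    (hzc : zz ∈ (horse D).cocyc a i) : D.τ i zz.2 ∈ E'.cobdy a (i + 1) := by
  obtain ⟨⟨hg1, hg2⟩, hd1, hd2⟩ := (horse_cocyc_iff D a i zz).mp hzc
  refine ⟨-zz.1, neg_mem hg1, ?_⟩
  rw [map_neg]
  exact neg_eq_of_add_eq_zero_right hd1

/-- Exactness at the right term. -/
theorem exact_snd_delta (i : ℕ) (g : ι) :
    Function.Exact (mapH a (horseSnd D) i g) (delta a D i g) := by
  intro y
  constructor
  · intro h
    obtain ⟨q, rfl⟩ := Submodule.Quotient.mk_surjective _ y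
    rw [delta_mk] at h
    have h1 : deltaZ a D i g q ∈ Bg a E' (i + 1) g := (Submodule.Quotient.mk_eq_zero _).mp h
    obtain ⟨zz, hzz, hzq⟩ := exists_mid_of_tau_cobdy a D q.1 q.2 ((mem_Bg a E').mp h1)
    refine ⟨Submodule.Quotient.mk ⟨zz, hzz⟩, ?_⟩
    rw [mapH_mk]
    refine (Submodule.Quotient.eq _).mpr ?_
    rw [mem_Bg]
    show zz.2 - q.1 ∈ E''.cobdy a i
    rw [hzq, sub_self]
    exact zero_mem _
  · rintro ⟨w, rfl⟩
    obtain ⟨z, rfl⟩ := Submodule.Quotient.mk_surjective _ w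
    rw [mapH_mk, delta_mk]
    refine (Submodule.Quotient.mk_eq_zero _).mpr ?_
    rw [mem_Bg]
    exact tau_snd_cobdy a D z.1 ((mem_Zg a (horse D)).mp z.2).1

/-- Elementwise exactness at the left term. -/
theorem exists_right_of_inl_cobdy {i : ℕ} {g : ι} (p : (E'.X (i + 1)).carrier)
    (hp : p ∈ Zg a E' (i + 1) g)
    (hc : ((p, 0) : (E'.X (i + 1)).carrier × (E''.X (i + 1)).carrier) ∈
      (horse D).cobdy a (i + 1)) :
    ∃ q : (E''.X i).carrier, q ∈ Zg a E'' i g ∧ D.τ i q - p ∈ E'.cobdy a (i + 1) := by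
  obtain ⟨hpc, hpg⟩ := (mem_Zg a E').mp hp
  have hzg : ((p, 0) : (E'.X (i + 1)).carrier × (E''.X (i + 1)).carrier) ∈
      ((horse D).X (i + 1)).gr g := mem_prodG_gr.mpr ⟨hpg, zero_mem _⟩
  obtain ⟨w, hwg, hwgr, hwe⟩ := exists_homog_preimage a (horse D) i hc hzg
  have hw12 := (mem_gam_prod (X := E'.X i) (Y := E''.X i) a.toIdeal).mp hwg
  have hwgr12 := mem_prodG_gr.mp hwgr
  have he : hd D i w = (p, 0) := hwe
  rw [hd_apply] at he
  have he1 : E'.d i w.1 + D.τ i w.2 = p := congrArg Prod.fst he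
  have he2 : E''.d i w.2 = 0 := congrArg Prod.snd he
  refine ⟨w.2, (mem_Zg a E'').mpr ⟨⟨hw12.2, he2⟩, hwgr12.2⟩, ?_⟩
  refine ⟨-w.1, neg_mem hw12.1, ?_⟩
  rw [map_neg, ← he1]
  abel

theorem inl_tau_cobdy {i : ℕ} {g : ι} (q : (E''.X i).carrier) (hq : q ∈ Zg a E'' i g) :
    ((D.τ i q, 0) : (E'.X (i + 1)).carrier × (E''.X (i + 1)).carrier) ∈
      (horse D).cobdy a (i + 1) := by
  obtain ⟨hqc, hqg⟩ := (mem_Zg a E'').mp hq
  refine ⟨((0, q) : (E'.X i).carrier × (E''.X i).carrier),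
    (mem_gam_prod (X := E'.X i) (Y := E''.X i) a.toIdeal).mpr ⟨zero_mem _, hqc.1⟩, ?_⟩
  show hd D i (0, q) = _
  rw [hd_apply]
  apply Prod.ext
  · show E'.d i 0 + D.τ i q = D.τ i q
    rw [map_zero, zero_add]
  · show E''.d i q = 0
    exact hqc.2

/-- Exactness at the left term. -/
theorem exact_delta_inl (i : ℕ) (g : ι) :
    Function.Exact (delta a D i g) (mapH a (horseInl D) (i + 1) g) := by
  intro y
  constructor
  · intro h
    obtain ⟨p, rfl⟩ := Submodule.Quotient.mk_surjective _ y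
    rw [mapH_mk] at h
    have h1 : mapZ a (horseInl D) (i + 1) g p ∈ Bg a (horse D) (i + 1) g :=
      (Submodule.Quotient.mk_eq_zero _).mp h
    obtain ⟨q, hq, hqp⟩ := exists_right_of_inl_cobdy a D p.1 p.2 ((mem_Bg a (horse D)).mp h1)
    refine ⟨Submodule.Quotient.mk ⟨q, hq⟩, ?_⟩
    rw [delta_mk]
    refine (Submodule.Quotient.eq _).mpr ?_
    rw [mem_Bg]
    exact hqp
  · rintro ⟨w, rfl⟩
    obtain ⟨q, rfl⟩ := Submodule.Quotient.mk_surjective _ w
    rw [delta_mk, mapH_mk]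
    refine (Submodule.Quotient.mk_eq_zero _).mpr ?_
    rw [mem_Bg]
    exact inl_tau_cobdy a D q.1 q.2

/-- Left exactness in degree zero. -/
theorem inl_zero_injective (g : ι) : Function.Injective (mapH a (horseInl D) 0 g) := by
  rw [injective_iff_map_eq_zero]
  intro y hy
  obtain ⟨p, rfl⟩ := Submodule.Quotient.mk_surjective _ y
  rw [mapH_mk] at hy
  have h1 : mapZ a (horseInl D) 0 g p ∈ Bg a (horse D) 0 g :=
    (Submodule.Quotient.mk_eq_zero _).mp hy
  have hc : ((p.1, 0) : (E'.X 0).carrier × (E''.X 0).carrier) ∈ (horse D).cobdy a 0 :=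
    (mem_Bg a (horse D)).mp h1
  have h0 : ((p.1, 0) : (E'.X 0).carrier × (E''.X 0).carrier) = 0 := (Submodule.mem_bot R).mp hc
  have h2 : p.1 = 0 := congrArg Prod.fst h0
  refine (Submodule.Quotient.mk_eq_zero _).mpr ?_
  rw [mem_Bg, h2]
  exact zero_mem _

end horseshoe

/-! ### A generic two-out-of-three principle -/

/-- A class of `R_0`-modules containing the zero modules and the middle term of every exact
sequence with outer terms in the class. -/
structure Good (P : ∀ (N : Type u) [AddCommGroup N] [Module (GrLC.deg0 𝒜) N], Prop) : Prop where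
  zero : ∀ (N : Type u) [AddCommGroup N] [Module (GrLC.deg0 𝒜) N] [Subsingleton N], P N
  exact : ∀ {A B C : Type u} [AddCommGroup A] [Module (GrLC.deg0 𝒜) A] [AddCommGroup B]
    [Module (GrLC.deg0 𝒜) B] [AddCommGroup C] [Module (GrLC.deg0 𝒜) C]
    (f : A →ₗ[GrLC.deg0 𝒜] B) (g : B →ₗ[GrLC.deg0 𝒜] C), Function.Exact f g → P A → P C → P B

namespace Good

variable {P : ∀ (N : Type u) [AddCommGroup N] [Module (GrLC.deg0 𝒜) N], Prop} (hP : Good P)
include hP

theorem of_injective {B C : Type u} [AddCommGroup B] [Module (GrLC.deg0 𝒜) B] [AddCommGroup C]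
    [Module (GrLC.deg0 𝒜) C] (f : B →ₗ[GrLC.deg0 𝒜] C) (hf : Function.Injective f) (hC : P C) :
    P B := by
  refine hP.exact (0 : PUnit.{u + 1} →ₗ[GrLC.deg0 𝒜] B) f ?_ (hP.zero _) hC
  intro y
  constructor
  · intro h
    exact ⟨PUnit.unit, (hf (h.trans (map_zero f).symm)).symm⟩
  · rintro ⟨_, rfl⟩
    rw [LinearMap.zero_apply, map_zero]

theorem of_surjective {A B : Type u} [AddCommGroup A] [Module (GrLC.deg0 𝒜) A] [AddCommGroup B]
    [Module (GrLC.deg0 𝒜) B] (f : A →ₗ[GrLC.deg0 𝒜] B) (hf : Function.Surjective f) (hA : P A) :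
    P B := by
  refine hP.exact f (0 : B →ₗ[GrLC.deg0 𝒜] PUnit.{u + 1}) ?_ hA (hP.zero _)
  intro y
  constructor
  · intro _
    exact hf y
  · intro _
    rfl

theorem iso {N N' : Type u} [AddCommGroup N] [Module (GrLC.deg0 𝒜) N] [AddCommGroup N']
    [Module (GrLC.deg0 𝒜) N'] (e : N ≃ₗ[GrLC.deg0 𝒜] N') (h : P N) : P N' :=
  hP.of_surjective e.toLinearMap e.surjective h

end Good

variable (𝒜) in
theorem good_artinian : Good (𝒜 := 𝒜) (fun N _ _ => IsArtinian (GrLC.deg0 𝒜) N) where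
  zero N _ _ _ := inferInstance
  exact f g h hA hC := by
    have := hA
    have := hC
    exact isArtinian_of_range_eq_ker f g h.linearMap_ker_eq.symm

variable (𝒜) in
theorem good_noetherian : Good (𝒜 := 𝒜) (fun N _ _ => IsNoetherian (GrLC.deg0 𝒜) N) where
  zero N _ _ _ := inferInstance
  exact f g h hA hC := by
    have := hA
    have := hC
    exact isNoetherian_of_range_eq_ker f g h.linearMap_ker_eq.symm

variable (𝒜) in
theorem good_finiteLength : Good (𝒜 := 𝒜) (fun N _ _ => IsFiniteLength (GrLC.deg0 𝒜) N) where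
  zero N _ _ _ := isFiniteLength_iff_isNoetherian_isArtinian.mpr ⟨inferInstance, inferInstance⟩
  exact f g h hA hC := by
    obtain ⟨hA1, hA2⟩ := isFiniteLength_iff_isNoetherian_isArtinian.mp hA
    obtain ⟨hC1, hC2⟩ := isFiniteLength_iff_isNoetherian_isArtinian.mp hC
    exact isFiniteLength_iff_isNoetherian_isArtinian.mpr
      ⟨isNoetherian_of_range_eq_ker f g h.linearMap_ker_eq.symm,
        isArtinian_of_range_eq_ker f g h.linearMap_ker_eq.symm⟩

variable (𝒜) in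
theorem good_finite [IsNoetherianRing (GrLC.deg0 𝒜)] :
    Good (𝒜 := 𝒜) (fun N _ _ => Module.Finite (GrLC.deg0 𝒜) N) where
  zero N _ _ _ := inferInstance
  exact := by
    intro A B C _ _ _ _ _ _ f g h hA hC
    have hA1 : Module.Finite (GrLC.deg0 𝒜) A := hA
    have hC1 : Module.Finite (GrLC.deg0 𝒜) C := hC
    have hA2 : IsNoetherian (GrLC.deg0 𝒜) A := isNoetherian_of_isNoetherianRing_of_finite _ _
    have hC2 : IsNoetherian (GrLC.deg0 𝒜) C := isNoetherian_of_isNoetherianRing_of_finite _ _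
    have hB : IsNoetherian (GrLC.deg0 𝒜) B :=
      isNoetherian_of_range_eq_ker f g h.linearMap_ker_eq.symm
    exact inferInstance

/-! ### The property `P` for the pieces of graded local cohomology -/

section px

variable (P : ∀ (N : Type u) [AddCommGroup N] [Module (GrLC.deg0 𝒜) N], Prop)
  (a : HomogeneousIdeal 𝒜)

/-- All the pieces `H^i_a(X)_g` (computed from any resolution) have property `P`. -/
def PX (X : GrLC.GMod.{u} 𝒜) (i : ℕ) (g : ι) : Prop :=
  ∀ E : GrLC.StarInjRes 𝒜 X.gr, P (Hg a E i g)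

variable {P} (hP : Good P)
include hP

theorem pX_iff {X : GrLC.GMod.{u} 𝒜} (E : GrLC.StarInjRes 𝒜 X.gr) {i : ℕ} {g : ι} :
    PX P a X i g ↔ P (Hg a E i g) :=
  ⟨fun h => h E, fun h E' => hP.iso (hgCongr a E E' i g) h⟩

theorem pX_of_vanX {X : GrLC.GMod.{u} 𝒜} {i : ℕ} {g : ι} (h : VanX a X i g) : PX P a X i g := by
  intro E
  have : Subsingleton (Hg a E i g) := by
    apply Submodule.Quotient.subsingleton_iff.mpr
    rw [eq_top_iff]
    intro z _
    exact (mem_Bg a E).mpr (h E z.1 ((mem_Zg a E).mp z.2).1 ((mem_Zg a E).mp z.2).2)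
  exact hP.zero _

variable {X' X X'' : GrLC.GMod.{u} 𝒜} (S : GSES X' X X'')
include S

theorem pX_mid {i : ℕ} {g : ι} (h' : PX P a X' i g) (h'' : PX P a X'' i g) : PX P a X i g := by
  obtain ⟨E'⟩ := exists_res X'
  obtain ⟨E''⟩ := exists_res X''
  obtain ⟨D⟩ := exists_hdata S E' E''
  exact (pX_iff a hP (horse D)).mpr (hP.exact _ _ (exact_inl_snd a D i g) (h' E') (h'' E''))

theorem pX_right {i : ℕ} {g : ι} (h : PX P a X i g) (h' : PX P a X' (i + 1) g) :
    PX P a X'' i g := by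
  obtain ⟨E'⟩ := exists_res X'
  obtain ⟨E''⟩ := exists_res X''
  obtain ⟨D⟩ := exists_hdata S E' E''
  exact (pX_iff a hP E'').mpr (hP.exact _ _ (exact_snd_delta a D i g) (h (horse D)) (h' E'))

theorem pX_left {i : ℕ} {g : ι} (h'' : PX P a X'' i g) (h : PX P a X (i + 1) g) :
    PX P a X' (i + 1) g := by
  obtain ⟨E'⟩ := exists_res X'
  obtain ⟨E''⟩ := exists_res X''
  obtain ⟨D⟩ := exists_hdata S E' E''
  exact (pX_iff a hP E').mpr (hP.exact _ _ (exact_delta_inl a D i g) (h'' E'') (h (horse D)))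

theorem pX_left_zero {g : ι} (h : PX P a X 0 g) : PX P a X' 0 g := by
  obtain ⟨E'⟩ := exists_res X'
  obtain ⟨E''⟩ := exists_res X''
  obtain ⟨D⟩ := exists_hdata S E' E''
  exact (pX_iff a hP E').mpr (hP.of_injective _ (inl_zero_injective a D g) (h (horse D)))

end px

/-! ### Shifts -/

section shift

variable {P : ∀ (N : Type u) [AddCommGroup N] [Module (GrLC.deg0 𝒜) N], Prop}
  (a : HomogeneousIdeal 𝒜) {X : GrLC.GMod.{u} 𝒜}

/-- The pieces of the shifted resolution are the shifted pieces. -/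
def hgShift (E : GrLC.StarInjRes 𝒜 X.gr) (e : ι) (i : ℕ) (g : ι) :
    Hg a (shiftRes E e) i g ≃ₗ[GrLC.deg0 𝒜] Hg a E i (g + e) :=
  LinearEquiv.refl _ _

theorem pX_shift (hP : Good P) (e : ι) (i : ℕ) (g : ι) :
    PX P a (shiftG X e) i g ↔ PX P a X i (g + e) := by
  obtain ⟨E⟩ := exists_res X
  rw [pX_iff a hP (shiftRes E e), pX_iff a hP E]
  exact ⟨hP.iso (hgShift a E e i g), hP.iso (hgShift a E e i g).symm⟩

end shift

end Groth.Agent.Lib.R2H7.GrH
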