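/-
Finiteness of the pieces `H^i_{R_+}(M)_n` of graded local cohomology over `R_0`: the degree-zero
subring of a Noetherian graded ring is Noetherian, a generic induction over the generators of the
irrelevant ideal (descending induction on the degree, starting from eventual vanishing), and the
base case of modules killed by the irrelevant ideal.
-/
import Mathlib
import Groth.Agent.Lib.R2H7GrH
import Groth.Agent.Lib.R2H7GrEv

set_option autoImplicit false
open DirectSum

noncomputable section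

namespace Groth.Agent.Lib.R2H7.GrFin

open Groth.Agent.Lib.R2H7.GrDer Groth.Agent.Lib.R2H7.GrOps Groth.Agent.Lib.R2H7.GrLES
  Groth.Agent.Lib.R2H7.GrTors Groth.Agent.Lib.R2H7.GrGen Groth.Agent.Lib.R2H7.GrTop
  Groth.Agent.Lib.R2H7.GrKos Groth.Agent.Lib.R2H7.GrEv Groth.Agent.Lib.R2H7.GrH
  Groth.Agent.Lib.Helper29GrEss Groth.Agent.Lib.Helper29GrHom Groth.Agent.Lib.Helper29GrStd
  Groth.Agent.Lib.Helper29GrBaer Groth.Agent.Lib.Helper29GrCompare

universe u

/-! ### The degree-zero subring is Noetherian -/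

section noeth

variable {ι : Type} [AddCommGroup ι] [DecidableEq ι]
variable {R : Type u} [CommRing R] (𝒜 : ι → AddSubgroup R) [GradedRing 𝒜]

/-- An element of `R_0` lying in the extension to `R` of an ideal `J` of `R_0` lies in `J`. -/
theorem mem_of_mem_map_deg0 (J : Ideal (GrLC.deg0 𝒜)) (x : GrLC.deg0 𝒜)
    (hx : (x : R) ∈ Ideal.map (GrLC.deg0 𝒜).subtype J) : x ∈ J := by
  classical
  have hdeg0 : ∀ r : R, ((decompose 𝒜 r) 0 : R) ∈ GrLC.deg0 𝒜 := fun r => SetLike.coe_mem _
  have key : ∀ y ∈ Ideal.map (GrLC.deg0 𝒜).subtype J, ∀ r : R,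
      (⟨((decompose 𝒜 (r * y)) 0 : R), hdeg0 _⟩ : GrLC.deg0 𝒜) ∈ J := by
    intro y hy
    refine Submodule.span_induction (p := fun y _ => ∀ r : R,
      (⟨((decompose 𝒜 (r * y)) 0 : R), hdeg0 _⟩ : GrLC.deg0 𝒜) ∈ J) ?_ ?_ ?_ ?_ hy
    · rintro _ ⟨j, hj, rfl⟩ r
      have h1 : ((decompose 𝒜 (r * (j : R))) 0 : R) = ((decompose 𝒜 r) 0 : R) * (j : R) := by
        have h2 := decompose_smul_of_mem_right 𝒜 𝒜 (show (j : R) ∈ 𝒜 0 from j.2) r 0
        rw [smul_eq_mul, sub_zero, smul_eq_mul] at h2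
        exact h2
      have h3 : (⟨((decompose 𝒜 (r * (j : R))) 0 : R), hdeg0 _⟩ : GrLC.deg0 𝒜) =
          (⟨((decompose 𝒜 r) 0 : R), hdeg0 _⟩ : GrLC.deg0 𝒜) * j := Subtype.ext h1
      show (⟨((decompose 𝒜 (r * (j : R))) 0 : R), hdeg0 _⟩ : GrLC.deg0 𝒜) ∈ J
      rw [h3]
      exact J.mul_mem_left _ hj
    · intro r
      have : (⟨((decompose 𝒜 (r * 0)) 0 : R), hdeg0 _⟩ : GrLC.deg0 𝒜) = 0 := by
        apply Subtype.ext
        show ((decompose 𝒜 (r * 0)) 0 : R) = 0
        rw [mul_zero, DirectSum.decompose_zero]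
        rfl
      rw [this]
      exact zero_mem _
    · intro y z _ _ hy hz r
      have : (⟨((decompose 𝒜 (r * (y + z))) 0 : R), hdeg0 _⟩ : GrLC.deg0 𝒜) =
          (⟨((decompose 𝒜 (r * y)) 0 : R), hdeg0 _⟩ : GrLC.deg0 𝒜) +
            (⟨((decompose 𝒜 (r * z)) 0 : R), hdeg0 _⟩ : GrLC.deg0 𝒜) := by
        apply Subtype.ext
        show ((decompose 𝒜 (r * (y + z))) 0 : R) =
          ((decompose 𝒜 (r * y)) 0 : R) + ((decompose 𝒜 (r * z)) 0 : R)
        rw [mul_add, DirectSum.decompose_add, DirectSum.add_apply, AddSubgroup.coe_add]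
      rw [this]
      exact add_mem (hy r) (hz r)
    · intro s y _ hy r
      have : r * (s • y) = (r * s) * y := by rw [smul_eq_mul, mul_assoc]
      rw [this]
      exact hy (r * s)
  have h1 := key (x : R) hx 1
  have h2 : (⟨((decompose 𝒜 (1 * (x : R))) 0 : R), hdeg0 _⟩ : GrLC.deg0 𝒜) = x := by
    apply Subtype.ext
    show ((decompose 𝒜 (1 * (x : R))) 0 : R) = (x : R)
    rw [one_mul]
    exact DirectSum.decompose_of_mem_same 𝒜 x.2
  rw [h2] at h1
  exact h1

/-- The degree-zero subring of a Noetherian graded ring is Noetherian. -/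
theorem isNoetherianRing_deg0 [IsNoetherianRing R] : IsNoetherianRing (GrLC.deg0 𝒜) := by
  have hwf : WellFoundedGT (Ideal R) := isNoetherian_iff'.mp (inferInstance : IsNoetherian R R)
  let φ : Ideal (GrLC.deg0 𝒜) ↪o Ideal R :=
    OrderEmbedding.ofMapLEIff (Ideal.map (GrLC.deg0 𝒜).subtype) (fun I J =>
      ⟨fun h x hx => mem_of_mem_map_deg0 𝒜 J x (h (Ideal.mem_map_of_mem _ hx)),
        fun h => Ideal.map_mono h⟩)
  have : WellFoundedGT (Ideal (GrLC.deg0 𝒜)) := φ.wellFoundedGT
  exact isNoetherian_iff'.mpr this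

end noeth

variable {R : Type u} [CommRing R] {𝒜 : ℤ → AddSubgroup R} [GradedRing 𝒜]

/-! ### The generic induction -/

section induction

variable {P : ∀ (N : Type u) [AddCommGroup N] [Module (GrLC.deg0 𝒜) N], Prop}
  (a : HomogeneousIdeal 𝒜)

/-- Induction over the generators of the irrelevant ideal. -/
theorem pX_aux [IsNoetherianRing R] (hpos : ∀ n : ℤ, n < 0 → 𝒜 n = ⊥)
    (hle : ∀ k : ℤ, 0 < k → ∀ r ∈ 𝒜 k, r ∈ a.toIdeal) (hP : Good P)
    (base : ∀ X : GrLC.GMod.{u} 𝒜, Module.Finite R X.carrier →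
      (∀ k : ℤ, 0 < k → ∀ r ∈ 𝒜 k, ∀ m : X.carrier, r • m = 0) → ∀ i g, PX P a X i g)
    (xs : List R) (hgen : ∀ k : ℤ, 0 < k → ∀ r ∈ 𝒜 k, r ∈ Ideal.span {y | y ∈ xs}) :
    ∀ rest : List R, (∀ y ∈ rest, ∃ d : ℤ, 0 < d ∧ y ∈ 𝒜 d) →
      ∀ X : GrLC.GMod.{u} 𝒜, Module.Finite R X.carrier →
        (∀ y ∈ xs, y ∉ rest → ∀ m : X.carrier, y • m = 0) →
          ∀ (i : ℕ) (g : ℤ), PX P a X i g := by
  intro rest
  induction rest with
  | nil =>
    intro _ X hfin hkill i g
    have hk : ∀ k : ℤ, 0 < k → ∀ r ∈ 𝒜 k, ∀ m : X.carrier, r • m = 0 := by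
      intro k hk r hr m
      refine Submodule.span_induction (p := fun s _ => s • m = 0) ?_ ?_ ?_ ?_ (hgen k hk r hr)
      · intro y hy
        exact hkill y hy (List.not_mem_nil) m
      · exact zero_smul R m
      · intro s t _ _ h1 h2
        rw [add_smul, h1, h2, add_zero]
      · intro c s _ h1
        rw [smul_eq_mul, mul_smul, h1, smul_zero]
    exact base X hfin hk i g
  | cons x rest' ih =>
    intro h1 X hfin hkill i
    have := hfin
    obtain ⟨d, hd, hxd⟩ := h1 x List.mem_cons_self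
    have h1' : ∀ y ∈ rest', ∃ d : ℤ, 0 < d ∧ y ∈ 𝒜 d :=
      fun y hy => h1 y (List.mem_cons_of_mem x hy)
    have hP' : (LinearMap.range (x • (LinearMap.id : X.carrier →ₗ[R] X.carrier))).IsHomogeneous
        X.gr :=
      range_isHomogeneous X.gr (shiftG X (-d)).gr (mulG X d x) (mulG_grHom hxd)
    have hnotin : ∀ y, y ≠ x → y ∉ rest' → y ∉ x :: rest' := by
      intro y hyx hyr hmem
      rcases List.mem_cons.mp hmem with h | h
      · exact hyx h
      · exact hyr h
    -- the quotient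
    have hfinN : Module.Finite R (quotG X _ hP').carrier :=
      inferInstanceAs (Module.Finite R (X.carrier ⧸
        (LinearMap.range (x • (LinearMap.id : X.carrier →ₗ[R] X.carrier)))))
    have hkillN : ∀ y ∈ xs, y ∉ rest' → ∀ n : (quotG X _ hP').carrier, y • n = 0 := by
      intro y hy hyr
      have key : ∀ n : X.carrier ⧸
          (LinearMap.range (x • (LinearMap.id : X.carrier →ₗ[R] X.carrier))), y • n = 0 := by
        intro n
        obtain ⟨m, rfl⟩ := Submodule.mkQ_surjective _ n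
        rw [← map_smul]
        by_cases hyx : y = x
        · rw [hyx]
          exact (Submodule.Quotient.mk_eq_zero _).mpr ⟨m, rfl⟩
        · rw [hkill y hy (hnotin y hyx hyr) m, map_zero]
      exact key
    -- the kernel
    have hker : LinearMap.ker (LinearMap.range
        (x • (LinearMap.id : X.carrier →ₗ[R] X.carrier))).mkQ =
        LinearMap.range (x • (LinearMap.id : X.carrier →ₗ[R] X.carrier)) := Submodule.ker_mkQ _
    have hfinS : Module.Finite R (shiftG X (-d)).carrier := hfin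
    have hnoeS : IsNoetherian R (shiftG X (-d)).carrier :=
      isNoetherian_of_isNoetherianRing_of_finite R _
    have hfinK : Module.Finite R
        (kerG (N := quotG X _ hP') d hxd (Submodule.mkQ _) (mkQ_grHom X _ hP') hker).carrier :=
      inferInstanceAs (Module.Finite R
        ↥(LinearMap.ker (mulCo (N := quotG X _ hP') d (Submodule.mkQ _) (mkQ_grHom X _ hP') hker)))
    have hkillK : ∀ y ∈ xs, y ∉ rest' → ∀ m :
        (kerG (N := quotG X _ hP') d hxd (Submodule.mkQ _) (mkQ_grHom X _ hP') hker).carrier,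
        y • m = 0 := by
      intro y hy hyr
      have key : ∀ m : ↥(LinearMap.ker
          (mulCo (N := quotG X _ hP') d (Submodule.mkQ _) (mkQ_grHom X _ hP') hker)),
          y • m = 0 := by
        intro m
        apply Subtype.ext
        show y • (m.1 : X.carrier) = 0
        by_cases hyx : y = x
        · rw [hyx]
          have h0 : mulCo (N := quotG X _ hP') d (Submodule.mkQ _) (mkQ_grHom X _ hP') hker m.1
              = 0 := m.2
          exact congrArg Subtype.val h0
        · exact hkill y hy (hnotin y hyx hyr) m.1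
      exact key
    have hK := ih h1' _ hfinK hkillK
    have hN := ih h1' _ hfinN hkillN
    obtain ⟨r, hr⟩ := eventually_vanX a hpos hle X i
    have key : ∀ k : ℕ, ∀ g : ℤ, r - g ≤ k → PX P a X i g := by
      intro k
      induction k with
      | zero =>
        intro g hg
        exact pX_of_vanX a hP (hr g (by omega))
      | succ k ihk =>
        intro g hg
        have h2 : PX P a X i (g + d) := ihk (g + d) (by omega)
        have h3 : PX P a (imG (N := quotG X _ hP') (Submodule.mkQ _) (mkQ_grHom X _ hP')) i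
            (g + d) := by
          cases i with
          | zero =>
            exact pX_left_zero a hP
              (sesB (N := quotG X _ hP') (Submodule.mkQ _) (mkQ_grHom X _ hP')
                (Submodule.mkQ_surjective _)) h2
          | succ i0 =>
            exact pX_left a hP
              (sesB (N := quotG X _ hP') (Submodule.mkQ _) (mkQ_grHom X _ hP')
                (Submodule.mkQ_surjective _)) (hN i0 (g + d)) h2
        have h4 : PX P a (shiftG X (-d)) i (g + d) :=
          pX_mid a hP (sesA (N := quotG X _ hP') d hxd (Submodule.mkQ _) (mkQ_grHom X _ hP') hker)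
            (hK i (g + d)) h3
        have h5 := (pX_shift a hP (-d) i (g + d)).mp h4
        have e' : g + d + -d = g := by ring
        rw [e'] at h5
        exact h5
    intro g
    exact key (r - g).toNat g (Int.self_le_toNat _)

/-- If the pieces `H^i_a(X)_g` have property `P` for all finitely generated graded modules killed
by the elements of positive degree, they do for all finitely generated graded modules. -/
theorem pX_of_base [IsNoetherianRing R] (hpos : ∀ n : ℤ, n < 0 → 𝒜 n = ⊥)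
    (hle : ∀ k : ℤ, 0 < k → ∀ r ∈ 𝒜 k, r ∈ a.toIdeal) (hP : Good P)
    (base : ∀ X : GrLC.GMod.{u} 𝒜, Module.Finite R X.carrier →
      (∀ k : ℤ, 0 < k → ∀ r ∈ 𝒜 k, ∀ m : X.carrier, r • m = 0) → ∀ i g, PX P a X i g)
    (X : GrLC.GMod.{u} 𝒜) [Module.Finite R X.carrier] (i : ℕ) (g : ℤ) : PX P a X i g := by
  have hfg : (Submodule.span R (⋃ k ∈ Set.Ioi (0 : ℤ), (𝒜 k : Set R))).FG :=
    (isNoetherianRing_iff_ideal_fg R).mp inferInstance
      (Ideal.span (⋃ k ∈ Set.Ioi (0 : ℤ), (𝒜 k : Set R)))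
  obtain ⟨s, hs1, hs2⟩ := (Submodule.fg_span_iff_fg_span_finset_subset _).mp hfg
  have hxs : ∀ y ∈ s.toList, ∃ d : ℤ, 0 < d ∧ y ∈ 𝒜 d := by
    intro y hy
    have hy' := hs1 (Finset.mem_toList.mp hy)
    simp only [Set.mem_iUnion, Set.mem_Ioi] at hy'
    obtain ⟨k, hk, hyk⟩ := hy'
    exact ⟨k, hk, hyk⟩
  have hgen : ∀ k : ℤ, 0 < k → ∀ r ∈ 𝒜 k, r ∈ Ideal.span {y | y ∈ s.toList} := by
    intro k hk r hr
    have h1 : r ∈ Submodule.span R (⋃ k ∈ Set.Ioi (0 : ℤ), (𝒜 k : Set R)) :=
      Submodule.subset_span (by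
        simp only [Set.mem_iUnion, Set.mem_Ioi]
        exact ⟨k, hk, hr⟩)
    rw [hs2] at h1
    refine Submodule.span_mono ?_ h1
    intro y hy
    exact Finset.mem_toList.mpr hy
  exact pX_aux a hpos hle hP base s.toList hgen s.toList hxs X inferInstance
    (fun y hy hy2 => absurd hy hy2) i g

end induction

/-! ### Modules killed by the irrelevant ideal -/

section base

/-- The pieces of a finitely generated graded module killed by the elements of positive degree
are contained in the `R_0`-span of finitely many elements. -/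
theorem comp_le_span_of_killed (hpos : ∀ n : ℤ, n < 0 → 𝒜 n = ⊥)
    (X : GrLC.GMod.{u} 𝒜) [Module.Finite R X.carrier]
    (hkill : ∀ k : ℤ, 0 < k → ∀ r ∈ 𝒜 k, ∀ m : X.carrier, r • m = 0) :
    ∃ S : Finset X.carrier, ∀ g : ℤ,
      GrLC.comp 𝒜 X.gr g ≤ Submodule.span (GrLC.deg0 𝒜) (S : Set X.carrier) := by
  classical
  obtain ⟨S, hS, hspan⟩ := exists_homogeneous_generators (R := R) X.gr
  choose! deg hdeg using hS
  refine ⟨S, fun g x hx => ?_⟩
  have hx0 : x ∈ X.gr g := hx
  have hx' : x ∈ Submodule.span R (S : Set X.carrier) := hspan ▸ Submodule.mem_top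
  obtain ⟨f, -, rfl⟩ := Submodule.mem_span_finset.mp hx'
  have h1 := decompose_sum_smul 𝒜 X.gr S deg hdeg f g
  rw [DirectSum.decompose_of_mem_same X.gr hx0] at h1
  rw [h1]
  refine Submodule.sum_mem _ fun s hs => ?_
  rcases lt_trichotomy (g - deg s) 0 with hlt | heq | hgt
  · have h3 : ((decompose 𝒜 (f s)) (g - deg s) : R) ∈ 𝒜 (g - deg s) := SetLike.coe_mem _
    rw [eq_zero_of_mem_of_eq_bot (hpos _ hlt) h3, zero_smul]
    exact zero_mem _
  · have h3 : ((decompose 𝒜 (f s)) (g - deg s) : R) ∈ 𝒜 0 := by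
      have h5 : ((decompose 𝒜 (f s)) (g - deg s) : R) ∈ 𝒜 (g - deg s) := SetLike.coe_mem _
      exact Eq.subst (motive := fun t => ((decompose 𝒜 (f s)) (g - deg s) : R) ∈ 𝒜 t) heq h5
    have h4 : ((decompose 𝒜 (f s)) (g - deg s) : R) • s =
        (⟨((decompose 𝒜 (f s)) (g - deg s) : R), h3⟩ : GrLC.deg0 𝒜) • s := rfl
    rw [h4]
    exact Submodule.smul_mem _ _ (Submodule.subset_span hs)
  · rw [hkill _ hgt _ (SetLike.coe_mem _) s]
    exact zero_mem _

variable (a : HomogeneousIdeal 𝒜)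

/-- Base case: for a finitely generated graded module killed by the elements of positive degree
the pieces of `H^i_{R_+}` are finitely generated over `R_0`. -/
theorem finite_base [IsNoetherianRing R] (hpos : ∀ n : ℤ, n < 0 → 𝒜 n = ⊥)
    (ha : a.toIdeal = Ideal.span (⋃ n ∈ Set.Ioi (0 : ℤ), (𝒜 n : Set R)))
    (X : GrLC.GMod.{u} 𝒜) (hfin : Module.Finite R X.carrier)
    (hkill : ∀ k : ℤ, 0 < k → ∀ r ∈ 𝒜 k, ∀ m : X.carrier, r • m = 0) (i : ℕ) (g : ℤ) :
    PX (fun N _ _ => Module.Finite (GrLC.deg0 𝒜) N) a X i g := by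
  have := hfin
  have := isNoetherianRing_deg0 𝒜
  have hP := good_finite 𝒜
  have hT : ∀ m : X.carrier, m ∈ GrLC.gam a.toIdeal X.carrier := by
    intro m
    refine ⟨1, fun r hr => ?_⟩
    rw [pow_one, ha] at hr
    refine Submodule.span_induction (p := fun s _ => s • m = 0) ?_ ?_ ?_ ?_ hr
    · intro y hy
      simp only [Set.mem_iUnion, Set.mem_Ioi] at hy
      obtain ⟨k, hk, hyk⟩ := hy
      exact hkill k hk y hyk m
    · exact zero_smul R m
    · intro s t _ _ h1 h2
      rw [add_smul, h1, h2, add_zero]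
    · intro c s _ h1
      rw [smul_eq_mul, mul_smul, h1, smul_zero]
  cases i with
  | succ i0 => exact pX_of_vanX a hP (vanX_of_torsion a X hT (i0 + 1) (Nat.succ_pos _) g)
  | zero =>
    intro E
    obtain ⟨S, hS⟩ := comp_le_span_of_killed hpos X hkill
    have hle : Zg a E 0 g ≤ (Submodule.span (GrLC.deg0 𝒜) (S : Set X.carrier)).map
        (E.ε.restrictScalars (GrLC.deg0 𝒜)) := by
      intro z hz
      obtain ⟨hzc, hzg⟩ := (mem_Zg a E).mp hz
      have hz2 : z ∈ LinearMap.range E.ε := by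
        rw [← E.exact_zero]
        exact hzc.2
      obtain ⟨m, rfl⟩ := hz2
      have hmg : m ∈ X.gr g := mem_gr_of_map_mem E.ε E.ε_grHom E.ε_injective hzg
      exact ⟨m, hS g hmg, rfl⟩
    have hfg : ((Submodule.span (GrLC.deg0 𝒜) (S : Set X.carrier)).map
        (E.ε.restrictScalars (GrLC.deg0 𝒜))).FG :=
      (Submodule.fg_span S.finite_toSet).map _
    have hno : IsNoetherian (GrLC.deg0 𝒜) ↥((Submodule.span (GrLC.deg0 𝒜) (S : Set X.carrier)).map
        (E.ε.restrictScalars (GrLC.deg0 𝒜))) := isNoetherian_of_fg_of_noetherian _ hfg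
    have hno' : IsNoetherian (GrLC.deg0 𝒜) ↥(Zg a E 0 g) := isNoetherian_of_le hle
    show Module.Finite (GrLC.deg0 𝒜) (↥(Zg a E 0 g) ⧸ Bg a E 0 g)
    infer_instance

/-- The pieces `H^i_{R_+}(M)_n` of a finitely generated graded module over a Noetherian
non-negatively graded ring are finitely generated over `R_0`. -/
theorem finite_hcomp [IsNoetherianRing R] (hpos : ∀ n : ℤ, n < 0 → 𝒜 n = ⊥)
    (ha : a.toIdeal = Ideal.span (⋃ n ∈ Set.Ioi (0 : ℤ), (𝒜 n : Set R)))
    (X : GrLC.GMod.{u} 𝒜) [Module.Finite R X.carrier] (E : GrLC.StarInjRes 𝒜 X.gr) (i : ℕ)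
    (n : ℤ) : Module.Finite (GrLC.deg0 𝒜) ↥(E.Hcomp a i n) := by
  have := isNoetherianRing_deg0 𝒜
  have hP := good_finite 𝒜
  have hle : ∀ k : ℤ, 0 < k → ∀ r ∈ 𝒜 k, r ∈ a.toIdeal := by
    intro k hk r hr
    rw [ha]
    refine Ideal.subset_span ?_
    simp only [Set.mem_iUnion, Set.mem_Ioi]
    exact ⟨k, hk, hr⟩
  have h := pX_of_base a hpos hle hP (fun X hfin hkill i g => finite_base a hpos ha X hfin hkill i g)
    X i n E
  exact hP.iso (hgEquiv a E i n) h

end base

end Groth.Agent.Lib.R2H7.GrFin
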