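/-
Lengths of the pieces of graded local cohomology: additivity of the Euler characteristic
`Σ (-1)^i ℓ(H^i_a(X)_n)` and of the Hilbert function `ℓ(X_n)` in short exact sequences of graded
modules (from the long exact sequence of the horseshoe resolution).
-/
import Mathlib
import Groth.Agent.Lib.R2H7GrH

set_option autoImplicit false
open DirectSum

noncomputable section

namespace Groth.Agent.Lib.R2H7.GrLen

open Groth.Agent.Lib.R2H7.GrDer Groth.Agent.Lib.R2H7.GrOps Groth.Agent.Lib.R2H7.GrLES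
  Groth.Agent.Lib.R2H7.GrH Groth.Agent.Lib.Helper29GrHom

universe u

/-! ### Lengths as rational numbers -/

section abstract

variable (R₀ : Type u) [Ring R₀]

/-- The length of a module as a rational number (`0` if infinite). -/
def lenQ (N : Type u) [AddCommGroup N] [Module R₀ N] : ℚ := ((Module.length R₀ N).toNat : ℚ)

variable {R₀}

theorem lenQ_congr {M N : Type u} [AddCommGroup M] [Module R₀ M] [AddCommGroup N] [Module R₀ N]
    (e : M ≃ₗ[R₀] N) : lenQ R₀ M = lenQ R₀ N := by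
  unfold lenQ
  rw [e.length_eq]

theorem lenQ_of_subsingleton (N : Type u) [AddCommGroup N] [Module R₀ N] [Subsingleton N] :
    lenQ R₀ N = 0 := by
  unfold lenQ
  rw [Module.length_eq_zero, ENat.toNat_zero, Nat.cast_zero]

theorem lenQ_add_of_exact {N M P : Type u} [AddCommGroup N] [Module R₀ N] [AddCommGroup M]
    [Module R₀ M] [AddCommGroup P] [Module R₀ P] (f : N →ₗ[R₀] M) (g : M →ₗ[R₀] P)
    (hf : Function.Injective f) (hg : Function.Surjective g) (H : Function.Exact f g)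
    (hM : IsFiniteLength R₀ M) : lenQ R₀ M = lenQ R₀ N + lenQ R₀ P := by
  have hN : IsFiniteLength R₀ N := hM.of_injective hf
  have hP : IsFiniteLength R₀ P := hM.of_surjective hg
  unfold lenQ
  rw [Module.length_eq_add_of_exact f g hf hg H,
    ENat.toNat_add (Module.length_ne_top_iff.mpr hN) (Module.length_ne_top_iff.mpr hP),
    Nat.cast_add]

theorem lenQ_ker_add_range {M N : Type u} [AddCommGroup M] [Module R₀ M] [AddCommGroup N]
    [Module R₀ N] (f : M →ₗ[R₀] N) (hM : IsFiniteLength R₀ M) :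
    lenQ R₀ M = lenQ R₀ ↥(LinearMap.ker f) + lenQ R₀ ↥(LinearMap.range f) := by
  refine lenQ_add_of_exact (LinearMap.ker f).subtype f.rangeRestrict Subtype.val_injective
    f.surjective_rangeRestrict ?_ hM
  intro y
  constructor
  · intro h
    have h1 : f y = 0 := congrArg Subtype.val h
    exact ⟨⟨y, h1⟩, rfl⟩
  · rintro ⟨z, rfl⟩
    apply Subtype.ext
    exact z.2

theorem lenQ_eq_of_eq {M : Type u} [AddCommGroup M] [Module R₀ M] {p q : Submodule R₀ M}
    (h : p = q) : lenQ R₀ ↥p = lenQ R₀ ↥q := by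
  rw [h]

theorem telescope (k : ℕ → ℚ) (d : ℕ) :
    ∑ i ∈ Finset.range (d + 1), (-1 : ℚ) ^ i * (k i + k (i + 1)) =
      k 0 + (-1 : ℚ) ^ d * k (d + 1) := by
  induction d with
  | zero => simp
  | succ d ih =>
    rw [Finset.sum_range_succ, ih, pow_succ]
    ring

/-- The Euler characteristic of the middle terms of a long exact sequence is the sum of the Euler
characteristics of the outer terms. -/
theorem les_euler (A B C : ℕ → Type u) [∀ i, AddCommGroup (A i)] [∀ i, Module R₀ (A i)]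
    [∀ i, AddCommGroup (B i)] [∀ i, Module R₀ (B i)] [∀ i, AddCommGroup (C i)]
    [∀ i, Module R₀ (C i)] (α : ∀ i, A i →ₗ[R₀] B i) (β : ∀ i, B i →ₗ[R₀] C i)
    (δ : ∀ i, C i →ₗ[R₀] A (i + 1)) (h0 : Function.Injective (α 0))
    (h1 : ∀ i, Function.Exact (α i) (β i)) (h2 : ∀ i, Function.Exact (β i) (δ i))
    (h3 : ∀ i, Function.Exact (δ i) (α (i + 1)))
    (hA : ∀ i, IsFiniteLength R₀ (A i)) (hB : ∀ i, IsFiniteLength R₀ (B i))
    (hC : ∀ i, IsFiniteLength R₀ (C i)) (d : ℕ) (hd : Subsingleton (A (d + 1))) :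
    ∑ i ∈ Finset.range (d + 1), (-1 : ℚ) ^ i * lenQ R₀ (B i) =
      ∑ i ∈ Finset.range (d + 1), (-1 : ℚ) ^ i * lenQ R₀ (A i) +
        ∑ i ∈ Finset.range (d + 1), (-1 : ℚ) ^ i * lenQ R₀ (C i) := by
  have key : ∀ i, lenQ R₀ (A i) + lenQ R₀ (C i) - lenQ R₀ (B i) =
      lenQ R₀ ↥(LinearMap.ker (α i)) + lenQ R₀ ↥(LinearMap.ker (α (i + 1))) := by
    intro i
    have e1 := lenQ_ker_add_range (α i) (hA i)
    have e2 := lenQ_ker_add_range (β i) (hB i)
    have e3 := lenQ_ker_add_range (δ i) (hC i)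
    rw [lenQ_eq_of_eq (h1 i).linearMap_ker_eq] at e2
    rw [lenQ_eq_of_eq (h2 i).linearMap_ker_eq, ← lenQ_eq_of_eq (h3 i).linearMap_ker_eq] at e3
    rw [e1, e2, e3]
    ring
  have hk0 : lenQ R₀ ↥(LinearMap.ker (α 0)) = 0 := by
    have : Subsingleton ↥(LinearMap.ker (α 0)) := by
      rw [LinearMap.ker_eq_bot.mpr h0]
      infer_instance
    exact lenQ_of_subsingleton _
  have hkd : lenQ R₀ ↥(LinearMap.ker (α (d + 1))) = 0 := by
    have : Subsingleton ↥(LinearMap.ker (α (d + 1))) :=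
      ⟨fun x y => Subtype.ext (Subsingleton.elim _ _)⟩
    exact lenQ_of_subsingleton _
  have h4 := telescope (fun i => lenQ R₀ ↥(LinearMap.ker (α i))) d
  simp only [hk0, hkd, mul_zero, add_zero] at h4
  have h5 : ∑ i ∈ Finset.range (d + 1), (-1 : ℚ) ^ i * (lenQ R₀ (A i) + lenQ R₀ (C i) -
      lenQ R₀ (B i)) = 0 := by
    rw [← h4]
    refine Finset.sum_congr rfl fun i _ => ?_
    rw [key i]
  have h6 : ∑ i ∈ Finset.range (d + 1), (-1 : ℚ) ^ i * (lenQ R₀ (A i) + lenQ R₀ (C i) -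
      lenQ R₀ (B i)) = ∑ i ∈ Finset.range (d + 1), (-1 : ℚ) ^ i * lenQ R₀ (A i) +
        ∑ i ∈ Finset.range (d + 1), (-1 : ℚ) ^ i * lenQ R₀ (C i) -
          ∑ i ∈ Finset.range (d + 1), (-1 : ℚ) ^ i * lenQ R₀ (B i) := by
    rw [← Finset.sum_add_distrib, ← Finset.sum_sub_distrib]
    refine Finset.sum_congr rfl fun i _ => ?_
    ring
  rw [h6] at h5
  linarith

end abstract

variable {ι : Type} [AddCommGroup ι] [DecidableEq ι]
variable {R : Type u} [CommRing R] {𝒜 : ι → AddSubgroup R} [GradedRing 𝒜]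

/-! ### The Hilbert function is additive -/

section hilbert

variable {X Y : GrLC.GMod.{u} 𝒜}

/-- The map induced on the pieces of degree `n` by a homogeneous map. -/
def compMap (f : X.carrier →ₗ[R] Y.carrier) (hf : GrLC.IsGrHom X.gr Y.gr f) (n : ι) :
    ↥(GrLC.comp 𝒜 X.gr n) →ₗ[GrLC.deg0 𝒜] ↥(GrLC.comp 𝒜 Y.gr n) :=
  (f.restrictScalars (GrLC.deg0 𝒜)).restrict (fun x hx => hf n x hx)

theorem compMap_coe (f : X.carrier →ₗ[R] Y.carrier) (hf : GrLC.IsGrHom X.gr Y.gr f) (n : ι)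
    (x : ↥(GrLC.comp 𝒜 X.gr n)) : ((compMap f hf n x : ↥(GrLC.comp 𝒜 Y.gr n)) : Y.carrier) = f x.1 :=
  rfl

variable {X' X'' : GrLC.GMod.{u} 𝒜} (S : GSES X' X X'')

theorem compMap_f_injective (n : ι) : Function.Injective (compMap S.f S.f_gr n) := by
  intro x y h
  apply Subtype.ext
  apply S.f_inj
  exact congrArg Subtype.val h

theorem compMap_g_surjective (n : ι) : Function.Surjective (compMap S.g S.g_gr n) := by
  classical
  intro y
  obtain ⟨x, hx⟩ := S.g_surj y.1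
  refine ⟨⟨((decompose X.gr x) n : X.carrier), SetLike.coe_mem _⟩, ?_⟩
  apply Subtype.ext
  show S.g ((decompose X.gr x) n : X.carrier) = y.1
  rw [← decompose_map X''.gr X.gr S.g S.g_gr x n, hx]
  exact DirectSum.decompose_of_mem_same _ y.2

theorem compMap_exact (n : ι) :
    Function.Exact (compMap S.f S.f_gr n) (compMap S.g S.g_gr n) := by
  classical
  intro x
  constructor
  · intro h
    have h1 : S.g x.1 = 0 := congrArg Subtype.val h
    have h2 : x.1 ∈ LinearMap.range S.f := by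
      rw [← S.exact]
      exact h1
    obtain ⟨x', hx'⟩ := h2
    refine ⟨⟨((decompose X'.gr x') n : X'.carrier), SetLike.coe_mem _⟩, ?_⟩
    apply Subtype.ext
    show S.f ((decompose X'.gr x') n : X'.carrier) = x.1
    rw [← decompose_map X.gr X'.gr S.f S.f_gr x' n, hx']
    exact DirectSum.decompose_of_mem_same _ x.2
  · rintro ⟨x', rfl⟩
    apply Subtype.ext
    show S.g (S.f x'.1) = 0
    exact g_f S x'.1

include S in
theorem lenQ_comp_add (n : ι) (h : IsFiniteLength (GrLC.deg0 𝒜) ↥(GrLC.comp 𝒜 X.gr n)) :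
    lenQ (GrLC.deg0 𝒜) ↥(GrLC.comp 𝒜 X.gr n) =
      lenQ (GrLC.deg0 𝒜) ↥(GrLC.comp 𝒜 X'.gr n) + lenQ (GrLC.deg0 𝒜) ↥(GrLC.comp 𝒜 X''.gr n) :=
  lenQ_add_of_exact _ _ (compMap_f_injective S n) (compMap_g_surjective S n) (compMap_exact S n) h

end hilbert

/-! ### The Euler characteristic of graded local cohomology is additive -/

section euler

variable (a : HomogeneousIdeal 𝒜)

/-- The length of the piece `H^i_a(X)_n`. -/
def hgLen (X : GrLC.GMod.{u} 𝒜) (i : ℕ) (n : ι) : ℚ :=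
  lenQ (GrLC.deg0 𝒜) (Hg a (Classical.choice (exists_res X)) i n)

theorem hgLen_eq {X : GrLC.GMod.{u} 𝒜} (E : GrLC.StarInjRes 𝒜 X.gr) (i : ℕ) (n : ι) :
    hgLen a X i n = lenQ (GrLC.deg0 𝒜) (Hg a E i n) :=
  lenQ_congr (hgCongr a _ E i n)

theorem hgLen_eq_hcomp {X : GrLC.GMod.{u} 𝒜} (E : GrLC.StarInjRes 𝒜 X.gr) (i : ℕ) (n : ι) :
    hgLen a X i n = lenQ (GrLC.deg0 𝒜) ↥(E.Hcomp a i n) :=
  (hgLen_eq a E i n).trans (lenQ_congr (hgEquiv a E i n))

theorem hgLen_of_vanX {X : GrLC.GMod.{u} 𝒜} {i : ℕ} {n : ι} (h : VanX a X i n) :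
    hgLen a X i n = 0 := by
  have : Subsingleton (Hg a (Classical.choice (exists_res X)) i n) := by
    apply Submodule.Quotient.subsingleton_iff.mpr
    rw [eq_top_iff]
    intro z _
    exact (mem_Bg a _).mpr (h _ z.1 ((mem_Zg a _).mp z.2).1 ((mem_Zg a _).mp z.2).2)
  exact lenQ_of_subsingleton _

theorem hgLen_shift (X : GrLC.GMod.{u} 𝒜) (e : ι) (i : ℕ) (n : ι) :
    hgLen a (shiftG X e) i n = hgLen a X i (n + e) := by
  obtain ⟨E⟩ := exists_res X
  rw [hgLen_eq a (shiftRes E e), hgLen_eq a E]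
  exact lenQ_congr (hgShift a E e i n)

/-- The Euler characteristic of the pieces of degree `n`, truncated at `d`. -/
def chi (d : ℕ) (X : GrLC.GMod.{u} 𝒜) (n : ι) : ℚ :=
  ∑ i ∈ Finset.range (d + 1), (-1 : ℚ) ^ i * hgLen a X i n

theorem chi_shift (d : ℕ) (X : GrLC.GMod.{u} 𝒜) (e : ι) (n : ι) :
    chi a d (shiftG X e) n = chi a d X (n + e) := by
  unfold chi
  refine Finset.sum_congr rfl fun i _ => ?_
  rw [hgLen_shift]

variable {X' X X'' : GrLC.GMod.{u} 𝒜} (S : GSES X' X X'')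

include S in
/-- Additivity of the Euler characteristic. -/
theorem chi_add (d : ℕ) (n : ι)
    (hfl' : ∀ i, PX (fun N _ _ => IsFiniteLength (GrLC.deg0 𝒜) N) a X' i n)
    (hfl : ∀ i, PX (fun N _ _ => IsFiniteLength (GrLC.deg0 𝒜) N) a X i n)
    (hfl'' : ∀ i, PX (fun N _ _ => IsFiniteLength (GrLC.deg0 𝒜) N) a X'' i n)
    (hvan : VanX a X' (d + 1) n) : chi a d X n = chi a d X' n + chi a d X'' n := by
  obtain ⟨E'⟩ := exists_res X'
  obtain ⟨E''⟩ := exists_res X''
  obtain ⟨D⟩ := exists_hdata S E' E''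
  have hsub : Subsingleton (Hg a E' (d + 1) n) := by
    apply Submodule.Quotient.subsingleton_iff.mpr
    rw [eq_top_iff]
    intro z _
    exact (mem_Bg a _).mpr (hvan _ z.1 ((mem_Zg a _).mp z.2).1 ((mem_Zg a _).mp z.2).2)
  have h := les_euler (R₀ := GrLC.deg0 𝒜) (fun i => Hg a E' i n) (fun i => Hg a (horse D) i n)
    (fun i => Hg a E'' i n) (fun i => mapH a (horseInl D) i n) (fun i => mapH a (horseSnd D) i n)
    (fun i => delta a D i n) (inl_zero_injective a D n) (fun i => exact_inl_snd a D i n)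
    (fun i => exact_snd_delta a D i n) (fun i => exact_delta_inl a D i n)
    (fun i => hfl' i E') (fun i => hfl i (horse D)) (fun i => hfl'' i E'') d hsub
  unfold chi
  simp only [hgLen_eq a E', hgLen_eq a E'', hgLen_eq a (horse D)]
  exact h

end euler

end Groth.Agent.Lib.R2H7.GrLen
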