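/-
Serre's formula `ℓ(X_n) - P_X(n) = Σ_i (-1)^i ℓ(H^i_a(X)_n)` for a finitely generated graded module
over a Noetherian non-negatively graded ring generated in degree one over an Artinian `R_0`:
an abstract induction over the generators of the irrelevant ideal, antidifferences of
polynomials, finite length of all pieces, and the formula.
-/
import Mathlib
import Groth.Agent.Lib.R2H7GrLen
import Groth.Agent.Lib.R2H7GrFin

set_option autoImplicit false
open DirectSum

noncomputable section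

namespace Groth.Agent.Lib.R2H7.GrSerre

open Groth.Agent.Lib.R2H7.GrDer Groth.Agent.Lib.R2H7.GrOps Groth.Agent.Lib.R2H7.GrLES
  Groth.Agent.Lib.R2H7.GrTors Groth.Agent.Lib.R2H7.GrGen Groth.Agent.Lib.R2H7.GrTop
  Groth.Agent.Lib.R2H7.GrKos Groth.Agent.Lib.R2H7.GrEv Groth.Agent.Lib.R2H7.GrH
  Groth.Agent.Lib.R2H7.GrLen Groth.Agent.Lib.R2H7.GrFin
  Groth.Agent.Lib.Helper29GrEss Groth.Agent.Lib.Helper29GrHom Groth.Agent.Lib.Helper29GrStd
  Groth.Agent.Lib.Helper29GrBaer Groth.Agent.Lib.Helper29GrCompare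

universe u

/-! ### Antidifferences of polynomials -/

section poly

open Polynomial

theorem exists_antidiff_aux : ∀ (e : ℕ) (q : ℚ[X]), q.degree < (e : WithBot ℕ) →
    ∃ Q : ℚ[X], Q - Q.comp (X + C (-1)) = q := by
  intro e
  induction e with
  | zero =>
    intro q hq
    have : q = 0 := by
      ext m
      rw [coeff_zero]
      exact (degree_lt_iff_coeff_zero q 0).mp hq m (Nat.zero_le m)
    exact ⟨0, by rw [this, zero_comp, sub_zero]⟩
  | succ e ih =>
    intro q hq
    have hq' : ∀ m, e + 1 ≤ m → q.coeff m = 0 := fun m hm =>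
      (degree_lt_iff_coeff_zero q (e + 1)).mp hq m hm
    have hne : ((e : ℚ) + 1) ≠ 0 := Nat.cast_add_one_ne_zero e
    have hcomp : (C (q.coeff e / ((e : ℚ) + 1)) * X ^ (e + 1)).comp (X + C (-1)) =
        C (q.coeff e / ((e : ℚ) + 1)) * (X + C (-1)) ^ (e + 1) := by
      rw [mul_comp, C_comp, X_pow_comp]
    have hT : ∀ m, e ≤ m → (q - (C (q.coeff e / ((e : ℚ) + 1)) * X ^ (e + 1) -
        (C (q.coeff e / ((e : ℚ) + 1)) * X ^ (e + 1)).comp (X + C (-1)))).coeff m = 0 := by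
      intro m hm
      rw [coeff_sub, coeff_sub, hcomp, coeff_C_mul, coeff_C_mul, coeff_X_pow, coeff_X_add_C_pow]
      rcases Nat.lt_or_ge m (e + 1) with h1 | h1
      · have hme : m = e := by omega
        rw [hme, if_neg (by omega), show e + 1 - e = 1 by omega, Nat.choose_succ_self_right]
        push_cast
        field_simp
        ring
      · rcases Nat.eq_or_lt_of_le h1 with h2 | h2
        · rw [← h2, hq' (e + 1) le_rfl, if_pos rfl, Nat.sub_self, Nat.choose_self]
          simp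
        · rw [hq' m h1, if_neg (by omega), Nat.choose_eq_zero_of_lt h2]
          simp
    obtain ⟨Q₁, hQ₁⟩ := ih _ ((degree_lt_iff_coeff_zero _ e).mpr hT)
    refine ⟨C (q.coeff e / ((e : ℚ) + 1)) * X ^ (e + 1) + Q₁, ?_⟩
    rw [add_comp, add_sub_add_comm, hQ₁]
    ring

theorem exists_antidiff (q : ℚ[X]) :
    ∃ Q : ℚ[X], ∀ t : ℚ, Q.eval t - Q.eval (t + -1) = q.eval t := by
  obtain ⟨Q, hQ⟩ := exists_antidiff_aux (q.natDegree + 1) q
    (lt_of_le_of_lt degree_le_natDegree (by exact_mod_cast Nat.lt_succ_self _))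
  refine ⟨Q, fun t => ?_⟩
  have := congrArg (eval t) hQ
  rw [eval_sub, eval_comp, eval_add, eval_X, eval_C] at this
  exact this

/-- A function on `ℤ` whose first difference is a polynomial is a polynomial. -/
theorem exists_poly_of_diff (D : ℤ → ℚ) (q : ℚ[X])
    (h : ∀ n : ℤ, D n - D (n + -1) = q.eval (n : ℚ)) :
    ∃ Q : ℚ[X], ∀ n : ℤ, D n = Q.eval (n : ℚ) := by
  obtain ⟨Q, hQ⟩ := exists_antidiff q
  have hf : ∀ n : ℤ, D n - Q.eval (n : ℚ) = D (n + -1) - Q.eval ((n + -1 : ℤ) : ℚ) := by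
    intro n
    have h1 := h n
    have h2 := hQ (n : ℚ)
    have h3 : ((n + -1 : ℤ) : ℚ) = (n : ℚ) + -1 := by push_cast; ring
    rw [h3]
    linarith
  have hconst : ∀ n : ℤ, D n - Q.eval (n : ℚ) = D 0 - Q.eval ((0 : ℤ) : ℚ) := by
    intro n
    induction n using Int.induction_on with
    | zero => rfl
    | succ k ih =>
      have := hf ((k : ℤ) + 1)
      rw [this, add_neg_cancel_right]
      exact ih
    | pred k ih =>
      have := hf (-(k : ℤ))
      rw [← ih, this]
      rfl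
  refine ⟨Q + C (D 0 - Q.eval ((0 : ℤ) : ℚ)), fun n => ?_⟩
  rw [eval_add, eval_C, ← hconst n]
  ring

end poly

variable {R : Type u} [CommRing R] {𝒜 : ℤ → AddSubgroup R} [GradedRing 𝒜]

/-! ### An abstract induction over the generators of the irrelevant ideal -/

section induction

theorem gen_induction_aux [IsNoetherianRing R] (Pr : GrLC.GMod.{u} 𝒜 → Prop) (xs : List R)
    (deg : R → ℤ) (hxs : ∀ y ∈ xs, y ∈ 𝒜 (deg y))
    (base : ∀ X : GrLC.GMod.{u} 𝒜, Module.Finite R X.carrier →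
      (∀ y ∈ xs, ∀ m : X.carrier, y • m = 0) → Pr X)
    (step : ∀ x ∈ xs, ∀ (X K I N : GrLC.GMod.{u} 𝒜), Module.Finite R X.carrier →
      Module.Finite R K.carrier → Module.Finite R I.carrier → Module.Finite R N.carrier →
        GSES K (shiftG X (-(deg x))) I → GSES I X N → Pr K → Pr N → Pr X) :
    ∀ rest : List R, (∀ y ∈ rest, y ∈ xs) →
      ∀ X : GrLC.GMod.{u} 𝒜, Module.Finite R X.carrier →
        (∀ y ∈ xs, y ∉ rest → ∀ m : X.carrier, y • m = 0) → Pr X := by
  intro rest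
  induction rest with
  | nil =>
    intro _ X hfin hkill
    exact base X hfin (fun y hy m => hkill y hy (List.not_mem_nil) m)
  | cons x rest' ih =>
    intro h1 X hfin hkill
    have := hfin
    have hxx : x ∈ xs := h1 x List.mem_cons_self
    have hxd : x ∈ 𝒜 (deg x) := hxs x hxx
    have h1' : ∀ y ∈ rest', y ∈ xs := fun y hy => h1 y (List.mem_cons_of_mem x hy)
    have hP' : (LinearMap.range (x • (LinearMap.id : X.carrier →ₗ[R] X.carrier))).IsHomogeneous
        X.gr :=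
      range_isHomogeneous X.gr (shiftG X (-(deg x))).gr (mulG X (deg x) x) (mulG_grHom hxd)
    have hnotin : ∀ y, y ≠ x → y ∉ rest' → y ∉ x :: rest' := by
      intro y hyx hyr hmem
      rcases List.mem_cons.mp hmem with h | h
      · exact hyx h
      · exact hyr h
    have hfinN : Module.Finite R (quotG X _ hP').carrier :=
      inferInstanceAs (Module.Finite R (X.carrier ⧸
        (LinearMap.range (x • (LinearMap.id : X.carrier →ₗ[R] X.carrier)))))
    have hkillN : ∀ y ∈ xs, y ∉ rest' → ∀ n : (quotG X _ hP').carrier, y • n = 0 := by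
      intro y hy hyr
      have key : ∀ n : X.carrier ⧸
          (LinearMap.range (x • (LinearMap.id : X.carrier →ₗ[R] X.carrier))), y • n = 0 := by
        intro n
        obtain ⟨m, rfl⟩ := Submodule.mkQ_surjective _ n
        rw [← map_smul]
        by_cases hyx : y = x
        · rw [hyx]
          exact (Submodule.Quotient.mk_eq_zero _).mpr ⟨m, rfl⟩
        · rw [hkill y hy (hnotin y hyx hyr) m, map_zero]
      exact key
    have hker : LinearMap.ker (LinearMap.range
        (x • (LinearMap.id : X.carrier →ₗ[R] X.carrier))).mkQ =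
        LinearMap.range (x • (LinearMap.id : X.carrier →ₗ[R] X.carrier)) := Submodule.ker_mkQ _
    have hfinS : Module.Finite R (shiftG X (-(deg x))).carrier := hfin
    have hnoeS : IsNoetherian R (shiftG X (-(deg x))).carrier :=
      isNoetherian_of_isNoetherianRing_of_finite R _
    have hnoeX : IsNoetherian R X.carrier := isNoetherian_of_isNoetherianRing_of_finite R _
    have hfinK : Module.Finite R
        (kerG (N := quotG X _ hP') (deg x) hxd (Submodule.mkQ _) (mkQ_grHom X _ hP') hker).carrier :=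
      inferInstanceAs (Module.Finite R
        ↥(LinearMap.ker (mulCo (N := quotG X _ hP') (deg x) (Submodule.mkQ _)
          (mkQ_grHom X _ hP') hker)))
    have hfinI : Module.Finite R
        (imG (N := quotG X _ hP') (Submodule.mkQ _) (mkQ_grHom X _ hP')).carrier :=
      inferInstanceAs (Module.Finite R ↥(LinearMap.ker (LinearMap.range
        (x • (LinearMap.id : X.carrier →ₗ[R] X.carrier))).mkQ))
    have hkillK : ∀ y ∈ xs, y ∉ rest' → ∀ m :
        (kerG (N := quotG X _ hP') (deg x) hxd (Submodule.mkQ _) (mkQ_grHom X _ hP') hker).carrier,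
        y • m = 0 := by
      intro y hy hyr
      have key : ∀ m : ↥(LinearMap.ker
          (mulCo (N := quotG X _ hP') (deg x) (Submodule.mkQ _) (mkQ_grHom X _ hP') hker)),
          y • m = 0 := by
        intro m
        apply Subtype.ext
        show y • (m.1 : X.carrier) = 0
        by_cases hyx : y = x
        · rw [hyx]
          have h0 : mulCo (N := quotG X _ hP') (deg x) (Submodule.mkQ _) (mkQ_grHom X _ hP') hker
              m.1 = 0 := m.2
          exact congrArg Subtype.val h0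
        · exact hkill y hy (hnotin y hyx hyr) m.1
      exact key
    have hK := ih h1' _ hfinK hkillK
    have hN := ih h1' _ hfinN hkillN
    exact step x hxx X _ _ _ hfin hfinK hfinI hfinN
      (sesA (N := quotG X _ hP') (deg x) hxd (Submodule.mkQ _) (mkQ_grHom X _ hP') hker)
      (sesB (N := quotG X _ hP') (Submodule.mkQ _) (mkQ_grHom X _ hP') (Submodule.mkQ_surjective _))
      hK hN

/-- To prove a property of all finitely generated graded modules it suffices to prove it for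
those killed by a set of homogeneous elements `xs`, and to pass from the kernel and the cokernel
of multiplication by an element of `xs` to the module. -/
theorem gen_induction [IsNoetherianRing R] (Pr : GrLC.GMod.{u} 𝒜 → Prop) (xs : List R)
    (deg : R → ℤ) (hxs : ∀ y ∈ xs, y ∈ 𝒜 (deg y))
    (base : ∀ X : GrLC.GMod.{u} 𝒜, Module.Finite R X.carrier →
      (∀ y ∈ xs, ∀ m : X.carrier, y • m = 0) → Pr X)
    (step : ∀ x ∈ xs, ∀ (X K I N : GrLC.GMod.{u} 𝒜), Module.Finite R X.carrier →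
      Module.Finite R K.carrier → Module.Finite R I.carrier → Module.Finite R N.carrier →
        GSES K (shiftG X (-(deg x))) I → GSES I X N → Pr K → Pr N → Pr X)
    (X : GrLC.GMod.{u} 𝒜) (hfin : Module.Finite R X.carrier) : Pr X :=
  gen_induction_aux Pr xs deg hxs base step xs (fun _ h => h) X hfin
    (fun y hy hy2 => absurd hy hy2)

end induction

/-! ### Finite length of all pieces -/

section finlen

/-- A finitely generated graded module over a non-negatively graded ring is bounded below. -/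
theorem bbelow_of_finite (hpos : ∀ n : ℤ, n < 0 → 𝒜 n = ⊥) (X : GrLC.GMod.{u} 𝒜)
    [Module.Finite R X.carrier] : ∃ j : ℤ, ∀ n : ℤ, n < j → ∀ m ∈ X.gr n, m = 0 := by
  classical
  obtain ⟨S, hS, hspan⟩ := exists_homogeneous_generators (R := R) X.gr
  choose! deg hdeg using hS
  obtain ⟨j, hj⟩ := Finset.exists_le (S.image fun s => -deg s)
  refine ⟨-j, fun n hn x hx => ?_⟩
  have hx' : x ∈ Submodule.span R (S : Set X.carrier) := hspan ▸ Submodule.mem_top
  obtain ⟨f, -, rfl⟩ := Submodule.mem_span_finset.mp hx'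
  have h1 := decompose_sum_smul 𝒜 X.gr S deg hdeg f n
  rw [DirectSum.decompose_of_mem_same X.gr hx] at h1
  rw [h1]
  refine Finset.sum_eq_zero fun s hs => ?_
  have hneg : n - deg s < 0 := by
    have := hj _ (Finset.mem_image_of_mem (fun s => -deg s) hs)
    omega
  have h3 : ((decompose 𝒜 (f s)) (n - deg s) : R) ∈ 𝒜 (n - deg s) := SetLike.coe_mem _
  rw [eq_zero_of_mem_of_eq_bot (hpos _ hneg) h3, zero_smul]

variable (a : HomogeneousIdeal 𝒜)

section torsion

variable {X : GrLC.GMod.{u} 𝒜} (E : GrLC.StarInjRes 𝒜 X.gr)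
  (hT : ∀ m : X.carrier, m ∈ GrLC.gam a.toIdeal X.carrier)

/-- For an `a`-torsion module the augmentation maps `X_n` to the cocycles of degree `n`. -/
def epsZ (n : ℤ) : ↥(GrLC.comp 𝒜 X.gr n) →ₗ[GrLC.deg0 𝒜] ↥(Zg a E 0 n) :=
  (E.ε.restrictScalars (GrLC.deg0 𝒜)).restrict (fun m hm =>
    (mem_Zg a E).mpr ⟨⟨gam_map _ _ (hT m), E_d_ε 𝒜 X.gr E m⟩, E.ε_grHom n m hm⟩)

/-- For an `a`-torsion module `H^0_a(X)_n = X_n`. -/
theorem hg0_bijective (n : ℤ) :
    Function.Bijective ((Bg a E 0 n).mkQ ∘ₗ epsZ a E hT n) := by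
  constructor
  · rw [injective_iff_map_eq_zero]
    intro m hm
    have h1 : epsZ a E hT n m ∈ Bg a E 0 n := (Submodule.Quotient.mk_eq_zero _).mp hm
    have h2 : E.ε m.1 ∈ E.cobdy a 0 := (mem_Bg a E).mp h1
    have h3 : E.ε m.1 = 0 := (Submodule.mem_bot R).mp h2
    apply Subtype.ext
    exact E.ε_injective (h3.trans (map_zero E.ε).symm)
  · intro y
    obtain ⟨z, rfl⟩ := Submodule.Quotient.mk_surjective _ y
    obtain ⟨hzc, hzg⟩ := (mem_Zg a E).mp z.2
    have hz2 : z.1 ∈ LinearMap.range E.ε := by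
      rw [← E.exact_zero]
      exact hzc.2
    obtain ⟨m, hm⟩ := hz2
    have hmg : m ∈ X.gr n := mem_gr_of_map_mem E.ε E.ε_grHom E.ε_injective (hm ▸ hzg)
    refine ⟨⟨m, hmg⟩, ?_⟩
    show Submodule.Quotient.mk (epsZ a E hT n ⟨m, hmg⟩) = Submodule.Quotient.mk z
    congr 1
    exact Subtype.ext hm

end torsion

variable [IsNoetherianRing R] [IsArtinianRing (GrLC.deg0 𝒜)]

/-- The pieces of a finitely generated graded module killed by the elements of positive degree
have finite length. -/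
theorem fl_comp_of_killed (hpos : ∀ n : ℤ, n < 0 → 𝒜 n = ⊥) (X : GrLC.GMod.{u} 𝒜)
    [Module.Finite R X.carrier]
    (hkill : ∀ k : ℤ, 0 < k → ∀ r ∈ 𝒜 k, ∀ m : X.carrier, r • m = 0) (n : ℤ) :
    IsFiniteLength (GrLC.deg0 𝒜) ↥(GrLC.comp 𝒜 X.gr n) := by
  obtain ⟨S, hS⟩ := comp_le_span_of_killed hpos X hkill
  have hfg : (Submodule.span (GrLC.deg0 𝒜) (S : Set X.carrier)).FG :=
    Submodule.fg_span S.finite_toSet
  have h1 : IsNoetherian (GrLC.deg0 𝒜) ↥(Submodule.span (GrLC.deg0 𝒜) (S : Set X.carrier)) :=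
    isNoetherian_of_fg_of_noetherian _ hfg
  have h2 : IsArtinian (GrLC.deg0 𝒜) ↥(Submodule.span (GrLC.deg0 𝒜) (S : Set X.carrier)) :=
    isArtinian_of_fg_of_artinian _ hfg
  exact isFiniteLength_iff_isNoetherian_isArtinian.mpr
    ⟨isNoetherian_of_le (hS n), isArtinian_of_le (hS n)⟩

/-- The hypothesis that modules killed by the irrelevant ideal are `a`-torsion. -/
def TorsHyp : Prop :=
  ∀ X : GrLC.GMod.{u} 𝒜, Module.Finite R X.carrier →
    (∀ k : ℤ, 0 < k → ∀ r ∈ 𝒜 k, ∀ m : X.carrier, r • m = 0) →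
      ∀ m : X.carrier, m ∈ GrLC.gam a.toIdeal X.carrier

/-- All the pieces `H^i_a(X)_n` have finite length. -/
theorem fl_pieces (hpos : ∀ n : ℤ, n < 0 → 𝒜 n = ⊥)
    (hle : ∀ k : ℤ, 0 < k → ∀ r ∈ 𝒜 k, r ∈ a.toIdeal) (htors : TorsHyp a)
    (X : GrLC.GMod.{u} 𝒜) [Module.Finite R X.carrier] (i : ℕ) (n : ℤ) :
    PX (fun N _ _ => IsFiniteLength (GrLC.deg0 𝒜) N) a X i n := by
  have hP := good_finiteLength 𝒜
  refine pX_of_base a hpos hle hP ?_ X i n
  intro Y hfin hkill j g
  have := hfin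
  cases j with
  | succ j0 =>
    exact pX_of_vanX a hP (vanX_of_torsion a Y (htors Y hfin hkill) (j0 + 1) (Nat.succ_pos _) g)
  | zero =>
    intro E
    exact hP.iso (LinearEquiv.ofBijective _ (hg0_bijective a E (htors Y hfin hkill) g))
      (fl_comp_of_killed hpos Y hkill g)

omit [IsArtinianRing (GrLC.deg0 𝒜)] in
/-- Generators of the irrelevant ideal, with a degree function. -/
theorem exists_gens_deg :
    ∃ (xs : List R) (deg : R → ℤ), (∀ y ∈ xs, y ∈ 𝒜 (deg y)) ∧ (∀ y ∈ xs, 0 < deg y) ∧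
      ∀ k : ℤ, 0 < k → ∀ r ∈ 𝒜 k, r ∈ Ideal.span {y | y ∈ xs} := by
  classical
  have hfg : (Submodule.span R (⋃ k ∈ Set.Ioi (0 : ℤ), (𝒜 k : Set R))).FG :=
    (isNoetherianRing_iff_ideal_fg R).mp inferInstance
      (Ideal.span (⋃ k ∈ Set.Ioi (0 : ℤ), (𝒜 k : Set R)))
  obtain ⟨s, hs1, hs2⟩ := (Submodule.fg_span_iff_fg_span_finset_subset _).mp hfg
  have hxs : ∀ y ∈ s, ∃ d : ℤ, 0 < d ∧ y ∈ 𝒜 d := by
    intro y hy
    have hy' := hs1 hy
    simp only [Set.mem_iUnion, Set.mem_Ioi] at hy'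
    obtain ⟨k, hk, hyk⟩ := hy'
    exact ⟨k, hk, hyk⟩
  choose! deg hdeg using hxs
  refine ⟨s.toList, deg, fun y hy => (hdeg y (Finset.mem_toList.mp hy)).2,
    fun y hy => (hdeg y (Finset.mem_toList.mp hy)).1, ?_⟩
  intro k hk r hr
  have h1 : r ∈ Submodule.span R (⋃ k ∈ Set.Ioi (0 : ℤ), (𝒜 k : Set R)) :=
    Submodule.subset_span (by
      simp only [Set.mem_iUnion, Set.mem_Ioi]
      exact ⟨k, hk, hr⟩)
  rw [hs2] at h1
  refine Submodule.span_mono ?_ h1
  intro y hy
  exact Finset.mem_toList.mpr hy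

omit [IsNoetherianRing R] [IsArtinianRing (GrLC.deg0 𝒜)] in
theorem killed_of_gens (xs : List R)
    (hgen : ∀ k : ℤ, 0 < k → ∀ r ∈ 𝒜 k, r ∈ Ideal.span {y | y ∈ xs}) (X : GrLC.GMod.{u} 𝒜)
    (hkill : ∀ y ∈ xs, ∀ m : X.carrier, y • m = 0) :
    ∀ k : ℤ, 0 < k → ∀ r ∈ 𝒜 k, ∀ m : X.carrier, r • m = 0 := by
  intro k hk r hr m
  refine Submodule.span_induction (p := fun s _ => s • m = 0) ?_ ?_ ?_ ?_ (hgen k hk r hr)
  · intro y hy
    exact hkill y hy m
  · exact zero_smul R m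
  · intro s t _ _ h1 h2
    rw [add_smul, h1, h2, add_zero]
  · intro c s _ h1
    rw [smul_eq_mul, mul_smul, h1, smul_zero]

/-- The pieces of a finitely generated graded module have finite length over `R_0`. -/
theorem fl_comp (hpos : ∀ n : ℤ, n < 0 → 𝒜 n = ⊥) (X : GrLC.GMod.{u} 𝒜)
    [hfin : Module.Finite R X.carrier] (n : ℤ) :
    IsFiniteLength (GrLC.deg0 𝒜) ↥(GrLC.comp 𝒜 X.gr n) := by
  have hP := good_finiteLength 𝒜
  obtain ⟨xs, deg, hxs, hdpos, hgen⟩ := exists_gens_deg (R := R) (𝒜 := 𝒜)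
  refine gen_induction (fun Y => ∀ n : ℤ, IsFiniteLength (GrLC.deg0 𝒜) ↥(GrLC.comp 𝒜 Y.gr n))
    xs deg hxs ?_ ?_ X hfin n
  · intro Y hY hkill n
    have := hY
    exact fl_comp_of_killed hpos Y (killed_of_gens xs hgen Y hkill) n
  · intro x hx Y K I N hY _ _ _ A B _ hN
    have := hY
    obtain ⟨j, hj⟩ := bbelow_of_finite hpos Y
    have key : ∀ k : ℕ, ∀ n : ℤ, n < j + k →
        IsFiniteLength (GrLC.deg0 𝒜) ↥(GrLC.comp 𝒜 Y.gr n) := by
      intro k
      induction k with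
      | zero =>
        intro n hn
        have : Subsingleton ↥(GrLC.comp 𝒜 Y.gr n) :=
          ⟨fun u v => Subtype.ext ((hj n (by simpa using hn) u.1 u.2).trans
            (hj n (by simpa using hn) v.1 v.2).symm)⟩
        exact hP.zero _
      | succ k ihk =>
        intro n hn
        have hd := hdpos x hx
        have h1 : IsFiniteLength (GrLC.deg0 𝒜) ↥(GrLC.comp 𝒜 (shiftG Y (-(deg x))).gr n) :=
          ihk (n + -(deg x)) (by push_cast at hn; omega)
        have h2 : IsFiniteLength (GrLC.deg0 𝒜) ↥(GrLC.comp 𝒜 I.gr n) :=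
          hP.of_surjective _ (compMap_g_surjective A n) h1
        exact hP.exact _ _ (compMap_exact B n) h2 (hN n)
    intro n
    exact key (n - j + 1).toNat n (by
      have := Int.self_le_toNat (n - j + 1)
      omega)

end finlen

/-! ### Serre's formula -/

section formula

variable (a : HomogeneousIdeal 𝒜) [IsNoetherianRing R] [IsArtinianRing (GrLC.deg0 𝒜)]

/-- The difference between the Hilbert function and the Euler characteristic of local
cohomology. -/
def defect (d : ℕ) (X : GrLC.GMod.{u} 𝒜) (n : ℤ) : ℚ :=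
  lenQ (GrLC.deg0 𝒜) ↥(GrLC.comp 𝒜 X.gr n) - chi a d X n

theorem defect_add (hpos : ∀ n : ℤ, n < 0 → 𝒜 n = ⊥)
    (hle : ∀ k : ℤ, 0 < k → ∀ r ∈ 𝒜 k, r ∈ a.toIdeal) (htors : TorsHyp a) (d : ℕ)
    (hvan : ∀ (Y : GrLC.GMod.{u} 𝒜) (g : ℤ), VanX a Y (d + 1) g)
    {X' X X'' : GrLC.GMod.{u} 𝒜} (S : GSES X' X X'') [Module.Finite R X'.carrier]
    [Module.Finite R X.carrier] [Module.Finite R X''.carrier] (n : ℤ) :
    defect a d X n = defect a d X' n + defect a d X'' n := by
  unfold defect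
  rw [lenQ_comp_add S n (fl_comp hpos X n),
    chi_add a S d n (fun i => fl_pieces a hpos hle htors X' i n)
      (fun i => fl_pieces a hpos hle htors X i n) (fun i => fl_pieces a hpos hle htors X'' i n)
      (hvan X' n)]
  ring

omit [IsNoetherianRing R] [IsArtinianRing (GrLC.deg0 𝒜)] in
theorem defect_shift (d : ℕ) (X : GrLC.GMod.{u} 𝒜) (e n : ℤ) :
    defect a d (shiftG X e) n = defect a d X (n + e) := by
  unfold defect
  rw [chi_shift]
  rfl

omit [IsArtinianRing (GrLC.deg0 𝒜)] in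
theorem chi_of_torsion (d : ℕ) (X : GrLC.GMod.{u} 𝒜)
    (hT : ∀ m : X.carrier, m ∈ GrLC.gam a.toIdeal X.carrier) (n : ℤ) :
    chi a d X n = lenQ (GrLC.deg0 𝒜) ↥(GrLC.comp 𝒜 X.gr n) := by
  obtain ⟨E⟩ := exists_res X
  unfold chi
  rw [Finset.sum_range_succ', pow_zero, one_mul, Finset.sum_eq_zero, zero_add, hgLen_eq a E]
  · exact (lenQ_congr (LinearEquiv.ofBijective _ (hg0_bijective a E hT n))).symm
  · intro i _
    rw [hgLen_of_vanX a (vanX_of_torsion a X hT (i + 1) (Nat.succ_pos _) n), mul_zero]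

/-- The defect is a polynomial function of the degree. -/
theorem exists_poly_defect (hpos : ∀ n : ℤ, n < 0 → 𝒜 n = ⊥)
    (hle : ∀ k : ℤ, 0 < k → ∀ r ∈ 𝒜 k, r ∈ a.toIdeal) (htors : TorsHyp a)
    (hstd : Ideal.span (⋃ n ∈ Set.Ioi (0 : ℤ), (𝒜 n : Set R)) =
      Ideal.span ((𝒜 1 : AddSubgroup R) : Set R)) (d : ℕ)
    (hvan : ∀ (Y : GrLC.GMod.{u} 𝒜) (g : ℤ), VanX a Y (d + 1) g)
    (X : GrLC.GMod.{u} 𝒜) (hfin : Module.Finite R X.carrier) :
    ∃ Q : Polynomial ℚ, ∀ n : ℤ, defect a d X n = Q.eval (n : ℚ) := by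
  have hfg : (Submodule.span R ((𝒜 1 : AddSubgroup R) : Set R)).FG :=
    (isNoetherianRing_iff_ideal_fg R).mp inferInstance (Ideal.span ((𝒜 1 : AddSubgroup R) : Set R))
  obtain ⟨s, hs1, hs2⟩ := (Submodule.fg_span_iff_fg_span_finset_subset _).mp hfg
  have hgen : ∀ k : ℤ, 0 < k → ∀ r ∈ 𝒜 k, r ∈ Ideal.span {y | y ∈ s.toList} := by
    intro k hk r hr
    have h1 : r ∈ Ideal.span (⋃ n ∈ Set.Ioi (0 : ℤ), (𝒜 n : Set R)) :=
      Ideal.subset_span (by
        simp only [Set.mem_iUnion, Set.mem_Ioi]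
        exact ⟨k, hk, hr⟩)
    rw [hstd] at h1
    have h2 : r ∈ Submodule.span R ((𝒜 1 : AddSubgroup R) : Set R) := h1
    rw [hs2] at h2
    refine Submodule.span_mono ?_ h2
    intro y hy
    exact Finset.mem_toList.mpr hy
  refine gen_induction (fun Y => ∃ Q : Polynomial ℚ, ∀ n : ℤ, defect a d Y n = Q.eval (n : ℚ))
    s.toList (fun _ => 1) (fun y hy => hs1 (Finset.mem_toList.mp hy)) ?_ ?_ X hfin
  · intro Y hY hkill
    have hT := htors Y hY (killed_of_gens s.toList hgen Y hkill)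
    refine ⟨0, fun n => ?_⟩
    unfold defect
    rw [chi_of_torsion a d Y hT n, sub_self, Polynomial.eval_zero]
  · intro x _ Y K I N hY hK hI hN A B hQK hQN
    obtain ⟨QK, hQK⟩ := hQK
    obtain ⟨QN, hQN⟩ := hQN
    have hYs : Module.Finite R (shiftG Y (-1)).carrier := hY
    apply exists_poly_of_diff (defect a d Y) (QN - QK)
    intro n
    have h1 : defect a d (shiftG Y (-1)) n = defect a d K n + defect a d I n :=
      defect_add a hpos hle htors d hvan A n
    have h2 : defect a d Y n = defect a d I n + defect a d N n :=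
      defect_add a hpos hle htors d hvan B n
    have h3 : defect a d (shiftG Y (-1)) n = defect a d Y (n + -1) := defect_shift a d Y (-1) n
    rw [Polynomial.eval_sub, ← hQK n, ← hQN n]
    linarith

omit [IsArtinianRing (GrLC.deg0 𝒜)] in
theorem eventually_chi_zero (hpos : ∀ n : ℤ, n < 0 → 𝒜 n = ⊥)
    (hle : ∀ k : ℤ, 0 < k → ∀ r ∈ 𝒜 k, r ∈ a.toIdeal) (X : GrLC.GMod.{u} 𝒜)
    [Module.Finite R X.carrier] (d : ℕ) : ∃ r : ℤ, ∀ n, r ≤ n → chi a d X n = 0 := by
  have key : ∀ k : ℕ, ∃ r : ℤ, ∀ n, r ≤ n → ∀ i, i < k → VanX a X i n := by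
    intro k
    induction k with
    | zero => exact ⟨0, fun n _ i hi => absurd hi (Nat.not_lt_zero i)⟩
    | succ k ih =>
      obtain ⟨r1, hr1⟩ := ih
      obtain ⟨r2, hr2⟩ := eventually_vanX a hpos hle X k
      refine ⟨max r1 r2, fun n hn i hi => ?_⟩
      rcases Nat.lt_succ_iff_lt_or_eq.mp hi with h | h
      · exact hr1 n (le_trans (le_max_left _ _) hn) i h
      · rw [h]
        exact hr2 n (le_trans (le_max_right _ _) hn)
  obtain ⟨r, hr⟩ := key (d + 1)
  refine ⟨r, fun n hn => ?_⟩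
  unfold chi
  refine Finset.sum_eq_zero fun i hi => ?_
  rw [hgLen_of_vanX a (hr n hn i (Finset.mem_range.mp hi)), mul_zero]

/-- **Serre's formula**. -/
theorem serre_formula (hpos : ∀ n : ℤ, n < 0 → 𝒜 n = ⊥)
    (hle : ∀ k : ℤ, 0 < k → ∀ r ∈ 𝒜 k, r ∈ a.toIdeal) (htors : TorsHyp a)
    (hstd : Ideal.span (⋃ n ∈ Set.Ioi (0 : ℤ), (𝒜 n : Set R)) =
      Ideal.span ((𝒜 1 : AddSubgroup R) : Set R)) (d : ℕ)
    (hvan : ∀ (Y : GrLC.GMod.{u} 𝒜) (g : ℤ), VanX a Y (d + 1) g)
    (X : GrLC.GMod.{u} 𝒜) [hfin : Module.Finite R X.carrier] (P : Polynomial ℚ)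
    (hP : ∃ N : ℤ, ∀ n : ℤ, N ≤ n →
      P.eval (n : ℚ) = lenQ (GrLC.deg0 𝒜) ↥(GrLC.comp 𝒜 X.gr n)) (n : ℤ) :
    lenQ (GrLC.deg0 𝒜) ↥(GrLC.comp 𝒜 X.gr n) - P.eval (n : ℚ) = chi a d X n := by
  obtain ⟨Q, hQ⟩ := exists_poly_defect a hpos hle htors hstd d hvan X hfin
  obtain ⟨N₀, hN₀⟩ := hP
  obtain ⟨r, hr⟩ := eventually_chi_zero a hpos hle X d
  have hQP : Q = P := by
    apply Polynomial.eq_of_infinite_eval_eq
    refine Set.infinite_of_injective_forall_mem
      (f := fun k : ℕ => (((max N₀ r + (k : ℤ) : ℤ)) : ℚ)) ?_ ?_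
    · intro k l hkl
      have hkl' : (((max N₀ r + (k : ℤ) : ℤ)) : ℚ) = (((max N₀ r + (l : ℤ) : ℤ)) : ℚ) := hkl
      have h1 : (max N₀ r + (k : ℤ) : ℤ) = max N₀ r + (l : ℤ) := by exact_mod_cast hkl'
      omega
    · intro k
      show Q.eval (((max N₀ r + (k : ℤ) : ℤ)) : ℚ) = P.eval (((max N₀ r + (k : ℤ) : ℤ)) : ℚ)
      have h1 : N₀ ≤ max N₀ r + (k : ℤ) := by
        have := le_max_left N₀ r
        omega
      have h2 : r ≤ max N₀ r + (k : ℤ) := by
        have := le_max_right N₀ r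
        omega
      rw [← hQ, hN₀ _ h1]
      unfold defect
      rw [hr _ h2, sub_zero]
  rw [← hQP, ← hQ n]
  unfold defect
  ring

end formula

end Groth.Agent.Lib.R2H7.GrSerre
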