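/-
The natural pairing `X × H^i_a(R) → H^i_a(X)` of graded local cohomology (computed from *injective
resolutions): for `x ∈ X_e` the map `R(-e) → X`, `r ↦ r x`, induces `H^i_a(R) → H^i_a(X)`; these
assemble to an `R`-bilinear map `star`, natural in `X`, homogeneous, and equal to the scalar action
for `X = R(-e')`.  The induced map `Theta : X ⊗_R H^i_a(R) → H^i_a(X)` is bijective for finitely
generated graded `X` over a Noetherian ring as soon as `H^{i+1}_a` vanishes identically
(right exactness of the top local cohomology, Watts' argument).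
-/
import Mathlib
import Groth.Agent.Lib.R2H7GrFun
import Groth.Agent.Lib.R2H7GrFree

set_option autoImplicit false
open DirectSum
open scoped TensorProduct

noncomputable section

namespace Groth.Agent.Lib.R2H7.GrStar

open Groth.Agent.Lib.Helper29GrCompare Groth.Agent.Lib.Helper29GrHom
  Groth.Agent.Lib.Helper29GrGam Groth.Agent.Lib.R2H7.GrDer Groth.Agent.Lib.R2H7.GrOps
  Groth.Agent.Lib.R2H7.GrLES Groth.Agent.Lib.R2H7.GrTors Groth.Agent.Lib.R2H7.GrFun
  Groth.Agent.Lib.R2H7.GrFree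

universe u

variable {ι : Type} [AddCommGroup ι] [DecidableEq ι]
variable {R : Type u} [CommRing R] {𝒜 : ι → AddSubgroup R} [GradedRing 𝒜]

/-! ### The maps `R(-e) → X` -/

section mu

variable (X : GrLC.GMod.{u} 𝒜)

/-- `r ↦ r • x` as a map `R(-e) → X`. -/
def mu (e : ι) (x : X.carrier) : (shiftG (selfG 𝒜) (-e)).carrier →ₗ[R] X.carrier :=
  LinearMap.toSpanSingleton R X.carrier x

theorem mu_apply (e : ι) (x : X.carrier) (r : R) : mu X e x r = r • x := rfl

theorem mu_grHom {e : ι} {x : X.carrier} (hx : x ∈ X.gr e) :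
    GrLC.IsGrHom (shiftG (selfG 𝒜) (-e)).gr X.gr (mu X e x) := by
  intro j r hr
  have hr' : (r : R) ∈ 𝒜 (j + -e) := hr
  have := SetLike.GradedSMul.smul_mem (A := 𝒜) (B := X.gr) hr' hx
  rw [vadd_eq_add, neg_add_cancel_right] at this
  exact this

theorem mu_add_apply (e : ι) (x y : X.carrier) (m : R) :
    mu X e (x + y) m = mu X e x m + mu X e y m := smul_add m x y

theorem mu_zero_apply (e : ι) (m : R) : mu X e 0 m = 0 := smul_zero m

theorem mu_smul_apply (e g : ι) (r : R) (x : X.carrier) (m : R) :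
    mu X (g + e) (r • x) m = mu X e x (r * m) := by
  rw [mu_apply, mu_apply, mul_comm, mul_smul]

theorem mu_map_apply {Y : GrLC.GMod.{u} 𝒜} (f : X.carrier →ₗ[R] Y.carrier) (e : ι)
    (x : X.carrier) (m : R) : mu Y e (f x) m = f (mu X e x m) := by
  rw [mu_apply, mu_apply, map_smul]

end mu

theorem isGrHom_sum {X Y : GrLC.GMod.{u} 𝒜} {κ : Type} (s : Finset κ)
    (φ : κ → X.carrier →ₗ[R] Y.carrier) (hφ : ∀ b, GrLC.IsGrHom X.gr Y.gr (φ b)) :
    GrLC.IsGrHom X.gr Y.gr (∑ b ∈ s, φ b) := by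
  intro g m hm
  rw [LinearMap.sum_apply]
  exact sum_mem (fun b _ => hφ b g m hm)

theorem TH_finset_sum {X Y : GrLC.GMod.{u} 𝒜} (a : HomogeneousIdeal 𝒜)
    {E : GrLC.StarInjRes 𝒜 X.gr} {E' : GrLC.StarInjRes 𝒜 Y.gr} {κ : Type} [DecidableEq κ]
    (φ : κ → X.carrier →ₗ[R] Y.carrier) (hφ : ∀ b, GrLC.IsGrHom X.gr Y.gr (φ b)) (i : ℕ)
    (s : Finset κ) : ∀ (f : X.carrier →ₗ[R] Y.carrier) (hf : GrLC.IsGrHom X.gr Y.gr f),
      (∀ m, f m = ∑ b ∈ s, φ b m) → TH a E E' f hf i = ∑ b ∈ s, TH a E E' (φ b) (hφ b) i := by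
  induction s using Finset.induction_on with
  | empty =>
    intro f hf h
    rw [Finset.sum_empty]
    exact TH_zero a hf (fun m => by rw [h m, Finset.sum_empty]) i
  | insert b₀ s hb ih =>
    intro f hf h
    rw [Finset.sum_insert hb]
    have hs : GrLC.IsGrHom X.gr Y.gr (∑ b ∈ s, φ b) := isGrHom_sum s φ hφ
    rw [← ih (∑ b ∈ s, φ b) hs (fun m => LinearMap.sum_apply _ _ _)]
    refine TH_add a (hφ b₀) hs hf (fun m => ?_) i
    rw [h m, Finset.sum_insert hb, LinearMap.sum_apply]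

/-! ### The pairing -/

section star

variable (a : HomogeneousIdeal 𝒜) (I : GrLC.StarInjRes 𝒜 (selfG 𝒜).gr)
  {X : GrLC.GMod.{u} 𝒜} (E : GrLC.StarInjRes 𝒜 X.gr) (i : ℕ)

/-- The map `H^i_a(R) → H^i_a(X)` induced by `r ↦ r x` for `x ∈ X_e`. -/
def starE (e : ι) (x : ↥(X.gr e)) : I.H a i →ₗ[R] E.H a i :=
  TH a (shiftRes I (-e)) E (mu X e x.1) (mu_grHom X x.2) i

theorem starE_eq {e : ι} (x : ↥(X.gr e)) {f : (shiftG (selfG 𝒜) (-e)).carrier →ₗ[R] X.carrier}
    (c : CMap (shiftRes I (-e)) E f) (h : ∀ m : R, m • x.1 = f m) :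
    starE a I E i e x = mapHW a c i :=
  TH_eq a (mu_grHom X x.2) c h i

theorem starE_add (e : ι) (x y : ↥(X.gr e)) :
    starE a I E i e (x + y) = starE a I E i e x + starE a I E i e y :=
  TH_add a (mu_grHom X x.2) (mu_grHom X y.2) (mu_grHom X (x + y).2)
    (mu_add_apply X e x.1 y.1) i

theorem starE_zero (e : ι) : starE a I E i e 0 = 0 :=
  TH_zero a (mu_grHom X (0 : ↥(X.gr e)).2) (mu_zero_apply X e) i

/-- `starE` as an additive map. -/
def starEHom (e : ι) : ↥(X.gr e) →+ (I.H a i →ₗ[R] E.H a i) where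
  toFun := starE a I E i e
  map_zero' := starE_zero a I E i e
  map_add' := starE_add a I E i e

/-- The pairing as an additive map in the first variable. -/
def starAdd : X.carrier →+ (I.H a i →ₗ[R] E.H a i) :=
  (DirectSum.toAddMonoid (starEHom a I E i)).comp (DirectSum.decomposeAddEquiv X.gr).toAddMonoidHom

theorem starAdd_of_mem {e : ι} {x : X.carrier} (hx : x ∈ X.gr e) :
    starAdd a I E i x = starE a I E i e ⟨x, hx⟩ := by
  show DirectSum.toAddMonoid (starEHom a I E i) (DirectSum.decompose X.gr x) = _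
  rw [DirectSum.decompose_of_mem X.gr hx, DirectSum.toAddMonoid_of]
  rfl

/-- Precomposition with multiplication by a homogeneous element of the ring. -/
def cmapMu {e g : ι} {r : R} (hr : r ∈ 𝒜 g) {x : X.carrier}
    (c : CMap (shiftRes I (-e)) E (mu X e x)) :
    CMap (shiftRes I (-(g + e))) E (mu X (g + e) (r • x)) where
  θ n := c.θ n ∘ₗ (r • (LinearMap.id : (I.X n).carrier →ₗ[R] (I.X n).carrier))
  gr n := fun j (z : (I.X n).carrier) hz => by
    have hz' : z ∈ (I.X n).gr (j + -(g + e)) := hz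
    have h1 := SetLike.GradedSMul.smul_mem (A := 𝒜) (B := (I.X n).gr) hr hz'
    have he : g + (j + -(g + e)) = j + -e := by abel
    rw [vadd_eq_add, he] at h1
    exact c.gr n j (r • z) h1
  aug := by
    have key : ∀ m : R, c.θ 0 (r • I.ε m) = E.ε (mu X (g + e) (r • x) m) := by
      intro m
      have h1 : r • I.ε m = I.ε (r * m) := (map_smul I.ε r m).symm
      rw [h1, mu_smul_apply]
      exact c.aug (r * m)
    exact key
  comm n := by
    have key : ∀ z : (I.X n).carrier, c.θ (n + 1) (r • I.d n z) = E.d n (c.θ n (r • z)) := by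
      intro z
      have h1 : r • I.d n z = I.d n (r • z) := (map_smul (I.d n) r z).symm
      rw [h1]
      exact c.comm n (r • z)
    exact key

theorem starE_smul {e g : ι} {r : R} (hr : r ∈ 𝒜 g) {x : X.carrier} (hx : x ∈ X.gr e)
    (hrx : r • x ∈ X.gr (g + e)) (η : I.H a i) :
    starE a I E i (g + e) ⟨r • x, hrx⟩ η = starE a I E i e ⟨x, hx⟩ (r • η) := by
  obtain ⟨c⟩ := exists_cmap (shiftRes I (-e)) E (mu X e x) (mu_grHom X hx)
  rw [starE_eq a I E i ⟨r • x, hrx⟩ (cmapMu I E hr c) (fun _ => rfl),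
    starE_eq a I E i ⟨x, hx⟩ c (fun _ => rfl)]
  obtain ⟨z, rfl⟩ := Submodule.Quotient.mk_surjective _ η
  rfl

theorem starAdd_smul_homog {g : ι} {r : R} (hr : r ∈ 𝒜 g) (x : X.carrier) (η : I.H a i) :
    starAdd a I E i (r • x) η = starAdd a I E i x (r • η) := by
  refine DirectSum.Decomposition.inductionOn X.gr
    (motive := fun x => starAdd a I E i (r • x) η = starAdd a I E i x (r • η)) ?_ ?_ ?_ x
  · rw [smul_zero, map_zero, LinearMap.zero_apply, LinearMap.zero_apply]
  · intro e xe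
    have hrx : r • (xe : X.carrier) ∈ X.gr (g + e) := by
      have := SetLike.GradedSMul.smul_mem (A := 𝒜) (B := X.gr) hr xe.2
      rwa [vadd_eq_add] at this
    rw [starAdd_of_mem a I E i hrx, starAdd_of_mem a I E i xe.2]
    exact starE_smul a I E i hr xe.2 hrx η
  · intro x y hx hy
    rw [smul_add, map_add, LinearMap.add_apply, hx, hy, map_add, LinearMap.add_apply]

theorem starAdd_smul (r : R) (x : X.carrier) (η : I.H a i) :
    starAdd a I E i (r • x) η = starAdd a I E i x (r • η) := by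
  refine DirectSum.Decomposition.inductionOn 𝒜
    (motive := fun r => starAdd a I E i (r • x) η = starAdd a I E i x (r • η)) ?_ ?_ ?_ r
  · rw [zero_smul, zero_smul, map_zero, map_zero, LinearMap.zero_apply]
  · intro g rg
    exact starAdd_smul_homog a I E i rg.2 x η
  · intro r s hr hs
    rw [add_smul, map_add, LinearMap.add_apply, hr, hs, add_smul, map_add]

/-- The pairing `X × H^i_a(R) → H^i_a(X)`, `R`-bilinear. -/
def star : X.carrier →ₗ[R] I.H a i →ₗ[R] E.H a i where
  toFun := starAdd a I E i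
  map_add' := map_add _
  map_smul' r x := by
    apply LinearMap.ext
    intro η
    rw [RingHom.id_apply, LinearMap.smul_apply, starAdd_smul, map_smul]

theorem star_of_mem {e : ι} {x : X.carrier} (hx : x ∈ X.gr e) :
    star a I E i x = starE a I E i e ⟨x, hx⟩ :=
  starAdd_of_mem a I E i hx

theorem star_mem_hgr {e g : ι} {x : X.carrier} (hx : x ∈ X.gr e) {η : I.H a i}
    (hη : η ∈ I.Hgr a i g) : star a I E i x η ∈ E.Hgr a i (g + e) := by
  rw [star_of_mem a I E i hx]
  refine TH_mem_hgr a (mu_grHom X hx) i (g + e) ?_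
  obtain ⟨z, hz, rfl⟩ := hη
  refine ⟨z, ?_, rfl⟩
  show z.1 ∈ (I.X i).gr (g + e + -e)
  rw [add_neg_cancel_right]
  exact hz

variable {E}

/-- Naturality of the pairing. -/
theorem star_natural {Y : GrLC.GMod.{u} 𝒜} {E' : GrLC.StarInjRes 𝒜 Y.gr}
    (f : X.carrier →ₗ[R] Y.carrier) (hf : GrLC.IsGrHom X.gr Y.gr f) (x : X.carrier)
    (η : I.H a i) : TH a E E' f hf i (star a I E i x η) = star a I E' i (f x) η := by
  refine DirectSum.Decomposition.inductionOn X.gr
    (motive := fun x => TH a E E' f hf i (star a I E i x η) = star a I E' i (f x) η) ?_ ?_ ?_ x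
  · simp only [map_zero, LinearMap.zero_apply]
  · intro e xe
    rw [star_of_mem a I E i xe.2, star_of_mem a I E' i (hf e _ xe.2)]
    exact (TH_comp_apply a (E := shiftRes I (-e)) (mu_grHom X xe.2) hf
      (mu_grHom Y (hf e _ xe.2)) (mu_map_apply X f e xe.1) i η).symm
  · intro x y hx hy
    rw [map_add, LinearMap.add_apply, map_add, hx, hy, map_add, map_add, LinearMap.add_apply]

end star

/-! ### The pairing for `X = R(-e')` -/

section self

variable (a : HomogeneousIdeal 𝒜) (I : GrLC.StarInjRes 𝒜 (selfG 𝒜).gr) (i : ℕ)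

/-- Multiplication by `r ∈ R_{e - e'}` as a chain map `I(-e) → I(-e')`. -/
def cmapSelf {e e' : ι} {r : R} (hr : r ∈ 𝒜 (e + -e')) :
    CMap (shiftRes I (-e)) (shiftRes I (-e')) (mu (shiftG (selfG 𝒜) (-e')) e r) where
  θ n := r • (LinearMap.id : (I.X n).carrier →ₗ[R] (I.X n).carrier)
  gr n := fun j (z : (I.X n).carrier) hz => by
    have hz' : z ∈ (I.X n).gr (j + -e) := hz
    have h1 := SetLike.GradedSMul.smul_mem (A := 𝒜) (B := (I.X n).gr) hr hz'
    have he : e + -e' + (j + -e) = j + -e' := by abel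
    rw [vadd_eq_add, he] at h1
    exact h1
  aug := by
    have key : ∀ m : R, r • I.ε m = I.ε (mu (shiftG (selfG 𝒜) (-e')) e r m) := by
      intro m
      have h1 : mu (shiftG (selfG 𝒜) (-e')) e r m = r * m := by
        rw [mu_apply]
        exact mul_comm m r
      rw [h1]
      exact (map_smul I.ε r m).symm
    exact key
  comm n := by
    have key : ∀ z : (I.X n).carrier, r • I.d n z = I.d n (r • z) :=
      fun z => (map_smul (I.d n) r z).symm
    exact key

/-- The carrier of `R(-e')` is `R`. -/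
def eC (e' : ι) : (shiftG (selfG 𝒜) (-e')).carrier ≃ₗ[R] R := LinearEquiv.refl R R

/-- The cohomology of the shifted resolution is the cohomology of the resolution. -/
def eH (e' : ι) : (shiftRes I (-e')).H a i ≃ₗ[R] I.H a i := LinearEquiv.refl R (I.H a i)

theorem star_self_homog {e e' : ι} {r : (shiftG (selfG 𝒜) (-e')).carrier}
    (hr : r ∈ (shiftG (selfG 𝒜) (-e')).gr e) (η : I.H a i) :
    eH a I i e' (star a I (shiftRes I (-e')) i r η) = (eC (𝒜 := 𝒜) e' r) • η := by
  have hr' : (eC (𝒜 := 𝒜) e' r) ∈ 𝒜 (e + -e') := hr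
  rw [star_of_mem a I _ i hr, starE_eq a I _ i ⟨r, hr⟩ (cmapSelf I hr') (fun _ => rfl)]
  obtain ⟨z, rfl⟩ := Submodule.Quotient.mk_surjective _ η
  rfl

theorem star_self (e' : ι) (r : (shiftG (selfG 𝒜) (-e')).carrier) (η : I.H a i) :
    eH a I i e' (star a I (shiftRes I (-e')) i r η) = (eC (𝒜 := 𝒜) e' r) • η := by
  refine DirectSum.Decomposition.inductionOn (shiftG (selfG 𝒜) (-e')).gr
    (motive := fun r => eH a I i e' (star a I (shiftRes I (-e')) i r η) =
      (eC (𝒜 := 𝒜) e' r) • η) ?_ ?_ ?_ r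
  · rw [map_zero, LinearMap.zero_apply, map_zero, map_zero, zero_smul]
  · intro e re
    exact star_self_homog a I i re.2 η
  · intro r s hr hs
    rw [map_add, LinearMap.add_apply, map_add, hr, hs, map_add, add_smul]

end self

/-! ### The map `X ⊗ H^i_a(R) → H^i_a(X)` -/

section theta

variable (a : HomogeneousIdeal 𝒜) (I : GrLC.StarInjRes 𝒜 (selfG 𝒜).gr) (i : ℕ)

/-- The map `X ⊗_R H^i_a(R) → H^i_a(X)` induced by the pairing. -/
def Theta {X : GrLC.GMod.{u} 𝒜} (E : GrLC.StarInjRes 𝒜 X.gr) :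
    X.carrier ⊗[R] I.H a i →ₗ[R] E.H a i :=
  TensorProduct.lift (star a I E i)

theorem Theta_tmul {X : GrLC.GMod.{u} 𝒜} (E : GrLC.StarInjRes 𝒜 X.gr) (x : X.carrier)
    (η : I.H a i) : Theta a I i E (x ⊗ₜ[R] η) = star a I E i x η :=
  TensorProduct.lift.tmul _ _

theorem Theta_natural {X Y : GrLC.GMod.{u} 𝒜} {E : GrLC.StarInjRes 𝒜 X.gr}
    {E' : GrLC.StarInjRes 𝒜 Y.gr} (f : X.carrier →ₗ[R] Y.carrier)
    (hf : GrLC.IsGrHom X.gr Y.gr f) (t : X.carrier ⊗[R] I.H a i) :
    TH a E E' f hf i (Theta a I i E t) = Theta a I i E' (LinearMap.rTensor (I.H a i) f t) := by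
  induction t using TensorProduct.induction_on with
  | zero => simp only [map_zero]
  | tmul x η =>
    rw [Theta_tmul, LinearMap.rTensor_tmul, Theta_tmul]
    exact star_natural a I i f hf x η
  | add t s ht hs => rw [map_add, map_add, ht, hs, map_add, map_add]

theorem Theta_change {X : GrLC.GMod.{u} 𝒜} (E₁ E₂ : GrLC.StarInjRes 𝒜 X.gr)
    (t : X.carrier ⊗[R] I.H a i) :
    Theta a I i E₂ t = TH a E₁ E₂ LinearMap.id isGrHom_id i (Theta a I i E₁ t) := by
  rw [Theta_natural, LinearMap.rTensor_id_apply]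

theorem Theta_injective_change {X : GrLC.GMod.{u} 𝒜} (E₁ E₂ : GrLC.StarInjRes 𝒜 X.gr)
    (h : Function.Injective (Theta a I i E₁)) : Function.Injective (Theta a I i E₂) := by
  intro t s hts
  apply h
  have h1 := congrArg (TH a E₂ E₁ LinearMap.id isGrHom_id i) hts
  rw [Theta_change a I i E₁ E₂ t, Theta_change a I i E₁ E₂ s, TH_id_comp, TH_id_comp] at h1
  exact h1

theorem Theta_surjective_change {X : GrLC.GMod.{u} 𝒜} (E₁ E₂ : GrLC.StarInjRes 𝒜 X.gr)
    (h : Function.Surjective (Theta a I i E₁)) : Function.Surjective (Theta a I i E₂) := by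
  intro ξ
  obtain ⟨t, ht⟩ := h (TH a E₂ E₁ LinearMap.id isGrHom_id i ξ)
  refine ⟨t, ?_⟩
  rw [Theta_change a I i E₁ E₂ t, ht, TH_id_comp]

theorem Theta_self_bijective (e' : ι) :
    Function.Bijective (Theta a I i (shiftRes I (-e'))) := by
  have h : Theta a I i (shiftRes I (-e')) =
      ((TensorProduct.congr (eC (𝒜 := 𝒜) e') (LinearEquiv.refl R (I.H a i))).trans
        ((TensorProduct.lid R (I.H a i)).trans (eH a I i e').symm)).toLinearMap := by
    apply TensorProduct.ext'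
    intro x η
    rw [Theta_tmul]
    show _ = (eH a I i e').symm ((TensorProduct.lid R (I.H a i))
      ((TensorProduct.congr (eC (𝒜 := 𝒜) e') (LinearEquiv.refl R (I.H a i))) (x ⊗ₜ[R] η)))
    rw [TensorProduct.congr_tmul, TensorProduct.lid_tmul, LinearEquiv.refl_apply, ← star_self,
      LinearEquiv.symm_apply_apply]
  rw [h]
  exact LinearEquiv.bijective _

end theta

/-! ### Graded free modules -/

section free

variable (a : HomogeneousIdeal 𝒜) (I : GrLC.StarInjRes 𝒜 (selfG 𝒜).gr) (i : ℕ)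
variable {m : ℕ} (c : Fin m → ι)

/-- The inclusion of the `b`-th summand `R(-c_b)`. -/
def inj (b : Fin m) : (shiftG (selfG 𝒜) (-(c b))).carrier →ₗ[R] (freeG 𝒜 c).carrier :=
  LinearMap.single R (fun _ : Fin m => R) b

/-- The projection onto the `b`-th summand `R(-c_b)`. -/
def prj (b : Fin m) : (freeG 𝒜 c).carrier →ₗ[R] (shiftG (selfG 𝒜) (-(c b))).carrier :=
  LinearMap.proj b

theorem inj_apply_same (b : Fin m) (r : R) : (inj (𝒜 := 𝒜) c b r : Fin m → R) b = r :=
  Pi.single_eq_same (M := fun _ : Fin m => R) b r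

theorem inj_apply_ne (b b' : Fin m) (h : b' ≠ b) (r : R) :
    (inj (𝒜 := 𝒜) c b r : Fin m → R) b' = 0 :=
  Pi.single_eq_of_ne (M := fun _ : Fin m => R) h r

theorem prj_apply (b : Fin m) (v : Fin m → R) : prj (𝒜 := 𝒜) c b v = v b := rfl

theorem inj_grHom (b : Fin m) :
    GrLC.IsGrHom (shiftG (selfG 𝒜) (-(c b))).gr (freeG 𝒜 c).gr (inj c b) := by
  intro d (r : R) hr
  have hr' : r ∈ 𝒜 (d + -(c b)) := hr
  refine (mem_freeG_gr 𝒜 c).mpr (fun b' => ?_)
  by_cases h : b' = b
  · subst h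
    rw [inj_apply_same, sub_eq_add_neg]
    exact hr'
  · rw [inj_apply_ne c b b' h]
    exact zero_mem _

theorem prj_grHom (b : Fin m) :
    GrLC.IsGrHom (freeG 𝒜 c).gr (shiftG (selfG 𝒜) (-(c b))).gr (prj c b) := by
  intro d (v : Fin m → R) hv
  have h1 := (mem_freeG_gr 𝒜 c).mp hv b
  show v b ∈ 𝒜 (d + -(c b))
  rw [← sub_eq_add_neg]
  exact h1

theorem sum_inj_prj (v : Fin m → R) :
    ∑ b, (inj (𝒜 := 𝒜) c b ∘ₗ prj (𝒜 := 𝒜) c b) v = v := by
  classical
  exact Finset.univ_sum_single v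

theorem tensor_sum_inj_prj (t : (freeG 𝒜 c).carrier ⊗[R] I.H a i) :
    t = ∑ b, LinearMap.rTensor (I.H a i) (inj c b) (LinearMap.rTensor (I.H a i) (prj c b) t) := by
  induction t using TensorProduct.induction_on with
  | zero => simp only [map_zero, Finset.sum_const_zero]
  | tmul v η =>
    simp only [LinearMap.rTensor_tmul]
    rw [← TensorProduct.sum_tmul]
    congr 1
    exact (sum_inj_prj c v).symm
  | add t s ht hs =>
    simp only [map_add]
    rw [Finset.sum_add_distrib, ← ht, ← hs]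

theorem Theta_free_bijective (E : GrLC.StarInjRes 𝒜 (freeG 𝒜 c).gr) :
    Function.Bijective (Theta a I i E) := by
  classical
  have hcomp : ∀ b, GrLC.IsGrHom (freeG 𝒜 c).gr (freeG 𝒜 c).gr (inj c b ∘ₗ prj c b) :=
    fun b d v hv => inj_grHom c b d _ (prj_grHom c b d v hv)
  have hT : TH a E E LinearMap.id isGrHom_id i =
      ∑ b, TH a E E (inj c b ∘ₗ prj c b) (hcomp b) i :=
    TH_finset_sum a (fun b => inj c b ∘ₗ prj c b) hcomp i Finset.univ LinearMap.id isGrHom_id
      (fun v => (sum_inj_prj c v).symm)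
  constructor
  · rw [injective_iff_map_eq_zero]
    intro t ht
    have h1 : ∀ b, LinearMap.rTensor (I.H a i) (prj c b) t = 0 := by
      intro b
      apply (Theta_self_bijective a I i (c b)).1
      rw [map_zero, ← Theta_natural a I i (prj c b) (prj_grHom c b), ht, map_zero]
    rw [tensor_sum_inj_prj a I i c t]
    refine Finset.sum_eq_zero (fun b _ => ?_)
    rw [h1 b, map_zero]
  · intro ξ
    have h1 : ξ = ∑ b, TH a E E (inj c b ∘ₗ prj c b) (hcomp b) i ξ := by
      rw [← LinearMap.sum_apply, ← hT, TH_id, LinearMap.id_apply]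
    have h2 : ∀ b, ∃ s : (shiftG (selfG 𝒜) (-(c b))).carrier ⊗[R] I.H a i,
        Theta a I i (shiftRes I (-(c b))) s =
          TH a E (shiftRes I (-(c b))) (prj c b) (prj_grHom c b) i ξ :=
      fun b => (Theta_self_bijective a I i (c b)).2 _
    choose s hs using h2
    refine ⟨∑ b, LinearMap.rTensor (I.H a i) (inj c b) (s b), ?_⟩
    rw [map_sum, h1]
    refine Finset.sum_congr rfl (fun b _ => ?_)
    rw [← Theta_natural a I i (inj c b) (inj_grHom c b), hs b]
    exact (TH_comp_apply a (prj_grHom c b) (inj_grHom c b) (hcomp b) (fun _ => rfl) i ξ).symm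

end free

/-! ### Free covers -/

/-- A finitely generated graded module has a finite family of homogeneous generators. -/
theorem exists_homog_gens (X : GrLC.GMod.{u} 𝒜) [Module.Finite R X.carrier] :
    ∃ (m : ℕ) (c : Fin m → ι) (x : Fin m → X.carrier), (∀ b, x b ∈ X.gr (c b)) ∧
      Submodule.span R (Set.range x) = ⊤ := by
  classical
  obtain ⟨G, hG⟩ := (Module.Finite.fg_top : (⊤ : Submodule R X.carrier).FG)
  obtain ⟨T, hTdef⟩ : ∃ T : Finset X.carrier, T = G.biUnion (fun g =>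
      (DirectSum.decompose X.gr g).support.image
        (fun j => ((DirectSum.decompose X.gr g) j : X.carrier))) := ⟨_, rfl⟩
  have hT : ∀ t ∈ T, ∃ j, t ∈ X.gr j := by
    intro t ht
    rw [hTdef] at ht
    obtain ⟨g, -, ht'⟩ := Finset.mem_biUnion.1 ht
    obtain ⟨j, -, rfl⟩ := Finset.mem_image.1 ht'
    exact ⟨j, SetLike.coe_mem _⟩
  have hspan : Submodule.span R (T : Set X.carrier) = ⊤ := by
    rw [eq_top_iff, ← hG, Submodule.span_le]
    intro g hg
    rw [SetLike.mem_coe, ← DirectSum.sum_support_decompose X.gr g]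
    refine Submodule.sum_mem _ (fun j hj => Submodule.subset_span ?_)
    rw [Finset.mem_coe, hTdef, Finset.mem_biUnion]
    exact ⟨g, hg, Finset.mem_image.2 ⟨j, hj, rfl⟩⟩
  let en : Fin T.card ≃ ↥T := T.equivFin.symm
  let x : Fin T.card → X.carrier := fun b => ((en b : ↥T) : X.carrier)
  have hx : ∀ b, ∃ j, x b ∈ X.gr j := fun b => hT _ (en b).2
  choose c hc using hx
  refine ⟨T.card, c, x, hc, ?_⟩
  have hr : Set.range x = (T : Set X.carrier) := by
    ext y
    constructor
    · rintro ⟨b, rfl⟩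
      exact (en b).2
    · intro hy
      exact ⟨en.symm ⟨y, hy⟩, by
        show ((en (en.symm ⟨y, hy⟩) : ↥T) : X.carrier) = y
        rw [Equiv.apply_symm_apply]⟩
  rw [hr, hspan]

theorem exists_sum_smul_of_span {M : Type u} [AddCommGroup M] [Module R M] {m : ℕ}
    (x : Fin m → M) (hspan : Submodule.span R (Set.range x) = ⊤) (y : M) :
    ∃ v : Fin m → R, y = ∑ b, v b • x b := by
  have hy : y ∈ LinearMap.range (Fintype.linearCombination R x) := by
    rw [Fintype.range_linearCombination, hspan]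
    exact Submodule.mem_top
  obtain ⟨v, hv⟩ := hy
  exact ⟨v, by rw [← hv, Fintype.linearCombination_apply]⟩

theorem exists_free_cover (X : GrLC.GMod.{u} 𝒜) [Module.Finite R X.carrier] :
    ∃ (m : ℕ) (c : Fin m → ι) (π : (freeG 𝒜 c).carrier →ₗ[R] X.carrier),
      GrLC.IsGrHom (freeG 𝒜 c).gr X.gr π ∧ Function.Surjective π := by
  obtain ⟨m, c, x, hc, hspan⟩ := exists_homog_gens X
  refine ⟨m, c, Fintype.linearCombination R x, ?_, ?_⟩
  · intro d (v : Fin m → R) hv
    show (Fintype.linearCombination R x : (Fin m → R) →ₗ[R] X.carrier) v ∈ X.gr d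
    rw [Fintype.linearCombination_apply]
    refine sum_mem (fun b _ => ?_)
    have h1 := (mem_freeG_gr 𝒜 c).mp hv b
    have h2 := SetLike.GradedSMul.smul_mem (A := 𝒜) (B := X.gr) h1 (hc b)
    rw [vadd_eq_add, sub_add_cancel] at h2
    exact h2
  · show Function.Surjective
      (Fintype.linearCombination R x : (Fin m → R) →ₗ[R] X.carrier)
    rw [← LinearMap.range_eq_top, Fintype.range_linearCombination, hspan]

/-! ### Bijectivity for finitely generated modules -/

section fg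

variable (a : HomogeneousIdeal 𝒜) (I : GrLC.StarInjRes 𝒜 (selfG 𝒜).gr) (i : ℕ)
  (hV : ∀ (Y : GrLC.GMod.{u} 𝒜) (E : GrLC.StarInjRes 𝒜 Y.gr) (z : (E.X (i + 1)).carrier),
    z ∈ E.cocyc a (i + 1) → z ∈ E.cobdy a (i + 1))

theorem Theta_surjective_of_ses {X' F X : GrLC.GMod.{u} 𝒜} (S : GSES X' F X)
    (EG : GrLC.StarInjRes 𝒜 X'.gr) (EF : GrLC.StarInjRes 𝒜 F.gr) (E : GrLC.StarInjRes 𝒜 X.gr)
    (hVG : ∀ z : (EG.X (i + 1)).carrier, z ∈ EG.cocyc a (i + 1) → z ∈ EG.cobdy a (i + 1))
    (hF : Function.Surjective (Theta a I i EF)) : Function.Surjective (Theta a I i E) := by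
  obtain ⟨c''⟩ := exists_cmap EF E S.g S.g_gr
  have hsurj := surjW_right S a c'' (fun _ => rfl) i hVG
  intro ξ
  obtain ⟨ζ, rfl⟩ := hsurj ξ
  obtain ⟨s, rfl⟩ := hF ζ
  refine ⟨LinearMap.rTensor (I.H a i) S.g s, ?_⟩
  rw [← Theta_natural a I i S.g S.g_gr, TH_eq a S.g_gr c'' (fun _ => rfl) i]

theorem Theta_injective_of_ses {X' F X : GrLC.GMod.{u} 𝒜} (S : GSES X' F X)
    (EG : GrLC.StarInjRes 𝒜 X'.gr) (EF : GrLC.StarInjRes 𝒜 F.gr) (E : GrLC.StarInjRes 𝒜 X.gr)
    (hG : Function.Surjective (Theta a I i EG)) (hF : Function.Injective (Theta a I i EF)) :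
    Function.Injective (Theta a I i E) := by
  obtain ⟨c'⟩ := exists_cmap EG EF S.f S.f_gr
  obtain ⟨c''⟩ := exists_cmap EF E S.g S.g_gr
  rw [injective_iff_map_eq_zero]
  intro t ht
  obtain ⟨s, rfl⟩ := LinearMap.rTensor_surjective (I.H a i) S.g_surj t
  have h1 : mapHW a c'' i (Theta a I i EF s) = 0 := by
    rw [← TH_eq a S.g_gr c'' (fun _ => rfl) i, Theta_natural]
    exact ht
  obtain ⟨ξ', hξ'⟩ := exactW_mid S a c' c'' (fun _ => rfl) (fun _ => rfl) i _ h1
  obtain ⟨u, rfl⟩ := hG ξ'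
  have h2 : Theta a I i EF (LinearMap.rTensor (I.H a i) S.f u) = Theta a I i EF s := by
    rw [← Theta_natural a I i S.f S.f_gr, TH_eq a S.f_gr c' (fun _ => rfl) i]
    exact hξ'
  have h3 := hF h2
  rw [← h3, ← LinearMap.rTensor_comp_apply]
  have h4 : S.g ∘ₗ S.f = 0 := LinearMap.ext (fun m' => g_f S m')
  rw [h4, LinearMap.rTensor_zero, LinearMap.zero_apply]

include hV in
theorem Theta_surjective (X : GrLC.GMod.{u} 𝒜) [Module.Finite R X.carrier]
    (E : GrLC.StarInjRes 𝒜 X.gr) : Function.Surjective (Theta a I i E) := by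
  obtain ⟨m, c, π, hπ, hs⟩ := exists_free_cover X
  obtain ⟨EF⟩ := exists_res (freeG 𝒜 c)
  obtain ⟨EG⟩ := exists_res (subG (freeG 𝒜 c) (LinearMap.ker π)
    (ker_isHomogeneous X.gr (freeG 𝒜 c).gr π hπ))
  exact Theta_surjective_of_ses a I i (GSES.ofSurj π hπ hs) EG EF E (hV _ EG)
    (Theta_free_bijective a I i c EF).2

include hV in
theorem Theta_injective [IsNoetherianRing R] (X : GrLC.GMod.{u} 𝒜) [Module.Finite R X.carrier]
    (E : GrLC.StarInjRes 𝒜 X.gr) : Function.Injective (Theta a I i E) := by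
  obtain ⟨m, c, π, hπ, hs⟩ := exists_free_cover X
  have hN : IsNoetherian R (freeG 𝒜 c).carrier := inferInstanceAs (IsNoetherian R (Fin m → R))
  have hGfin : Module.Finite R (subG (freeG 𝒜 c) (LinearMap.ker π)
      (ker_isHomogeneous X.gr (freeG 𝒜 c).gr π hπ)).carrier :=
    Module.Finite.iff_fg.mpr (IsNoetherian.noetherian (LinearMap.ker π))
  obtain ⟨EF⟩ := exists_res (freeG 𝒜 c)
  obtain ⟨EG⟩ := exists_res (subG (freeG 𝒜 c) (LinearMap.ker π)
    (ker_isHomogeneous X.gr (freeG 𝒜 c).gr π hπ))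
  exact Theta_injective_of_ses a I i (GSES.ofSurj π hπ hs) EG EF E
    (Theta_surjective a I i hV _ EG) (Theta_free_bijective a I i c EF).1

include hV in
/-- `X ⊗_R H^i_a(R) → H^i_a(X)` is bijective for finitely generated graded `X` when `H^{i+1}_a`
vanishes identically. -/
theorem Theta_bijective [IsNoetherianRing R] (X : GrLC.GMod.{u} 𝒜) [Module.Finite R X.carrier]
    (E : GrLC.StarInjRes 𝒜 X.gr) : Function.Bijective (Theta a I i E) :=
  ⟨Theta_injective a I i hV X E, Theta_surjective a I i hV X E⟩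

end fg

end Groth.Agent.Lib.R2H7.GrStar
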