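/-
The dictionary between a *canonical module and the graded dual of the top local cohomology,
for a Noetherian graded ring `R = ⊕_{n ≥ 0} R_n` over a field `k = R_0` with `m = R_+`:
if `E'` is a *injective envelope of `R/m` and `φ : Hom_R(C, E') ≃ H^n_m(R)` is a homogeneous
isomorphism (`GrLC.IsStarCanonical`), then there is a `k`-bilinear pairing
`β : C × H^n_m(R) → k` with `β (r c) h = β c (r h)`, which restricts to a perfect pairing
`C_i × H^n_m(R)_{-i} → k` for every `i`.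
-/
import Mathlib
import Groth.Agent.Lib.R2H7GrAcycW
import Groth.Agent.Lib.R2H7GrStar
import Groth.Agent.Lib.R2H7GrSerre
import Groth.Agent.Lib.Helper29GrBaer
import Groth.Agent.S13225

set_option autoImplicit false
open DirectSum

noncomputable section

namespace Groth.Agent.Lib.R2H7.GrCanDict

open Groth.Agent.Lib.Helper29GrCompare Groth.Agent.Lib.Helper29GrHom
  Groth.Agent.Lib.Helper29GrGam Groth.Agent.Lib.Helper29GrEss Groth.Agent.Lib.Helper29GrBaer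
  Groth.Agent.Lib.R2H7.GrDer Groth.Agent.Lib.R2H7.GrOps
  Groth.Agent.Lib.R2H7.GrFree Groth.Agent.Lib.R2H7.GrStar Groth.Agent.Lib.R2H7.GrSerre
  Groth.Agent.Lib.R2H7.GrAcycW

universe u

variable {R : Type u} [CommRing R] {𝒜 : ℤ → AddSubgroup R} [GradedRing 𝒜]

/-! ### The ring -/

section ring

variable (hpos : ∀ n : ℤ, n < 0 → 𝒜 n = ⊥) (h0 : IsField (GrLC.deg0 𝒜))
  (m : HomogeneousIdeal 𝒜) (hm : GrLC.IsStarLocal 𝒜 m)
  (hmsp : m.toIdeal = Ideal.span (⋃ n ∈ Set.Ioi (0 : ℤ), (𝒜 n : Set R)))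

include hmsp in
theorem mem_m_of_pos {j : ℤ} (hj : 0 < j) {r : R} (hr : r ∈ 𝒜 j) : r ∈ m.toIdeal := by
  rw [hmsp]
  exact Ideal.subset_span (Set.mem_biUnion (Set.mem_Ioi.mpr hj) hr)

include hpos hmsp in
theorem sub_proj0_mem (r : R) : r - ((decompose 𝒜 r) 0 : R) ∈ m.toIdeal := by
  classical
  induction r using DirectSum.Decomposition.inductionOn 𝒜 with
  | zero => simp
  | homogeneous x =>
    rename_i j
    by_cases hj : j = 0
    · subst hj
      rw [DirectSum.decompose_of_mem_same 𝒜 x.2, sub_self]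
      exact zero_mem _
    · rw [DirectSum.decompose_of_mem_ne 𝒜 x.2 hj, sub_zero]
      rcases lt_or_gt_of_ne hj with h | h
      · have hx : (x : R) ∈ (⊥ : AddSubgroup R) := hpos j h ▸ x.2
        rw [(AddSubgroup.mem_bot).mp hx]
        exact zero_mem _
      · exact mem_m_of_pos m hmsp h x.2
  | add a b ha hb =>
    rw [DirectSum.decompose_add, DirectSum.add_apply, AddSubgroup.coe_add]
    have e1 : a + b - (((decompose 𝒜 a) 0 : R) + ((decompose 𝒜 b) 0 : R)) =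
        (a - ((decompose 𝒜 a) 0 : R)) + (b - ((decompose 𝒜 b) 0 : R)) := by ring
    rw [e1]
    exact add_mem ha hb

include hm in
theorem m_ne_top : m.toIdeal ≠ ⊤ := by
  intro h
  apply hm.1.1
  apply HomogeneousIdeal.toIdeal_injective
  rw [h, HomogeneousIdeal.toIdeal_top]

include h0 in
theorem exists_inv0 {r : R} (hr : r ∈ 𝒜 0) (hr0 : r ≠ 0) : ∃ u ∈ 𝒜 0, u * r = 1 := by
  obtain ⟨b, hb⟩ := h0.mul_inv_cancel (a := (⟨r, hr⟩ : GrLC.deg0 𝒜))
    (fun h => hr0 (congrArg Subtype.val h))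
  refine ⟨b.1, b.2, ?_⟩
  have := congrArg Subtype.val hb
  rw [mul_comm]
  exact this

include h0 hm in
theorem eq_zero_of_mem0_of_mem {r : R} (hr : r ∈ 𝒜 0) (hrm : r ∈ m.toIdeal) : r = 0 := by
  by_contra hr0
  obtain ⟨u, -, hu⟩ := exists_inv0 h0 hr hr0
  apply m_ne_top m hm
  rw [Ideal.eq_top_iff_one, ← hu]
  exact Ideal.mul_mem_left _ u hrm

end ring

/-! ### The *injective envelope of the residue field -/

section hull

variable (hpos : ∀ n : ℤ, n < 0 → 𝒜 n = ⊥) (h0 : IsField (GrLC.deg0 𝒜))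
  (m : HomogeneousIdeal 𝒜) (hm : GrLC.IsStarLocal 𝒜 m)
  (hmsp : m.toIdeal = Ideal.span (⋃ n ∈ Set.Ioi (0 : ℤ), (𝒜 n : Set R)))
  {E' : Type u} [AddCommGroup E'] [Module R E'] (𝓔 : ℤ → AddSubgroup E')
  [DirectSum.Decomposition 𝓔] [SetLike.GradedSMul 𝒜 𝓔]
  (e : (R ⧸ m.toIdeal) →ₗ[R] E') (he : GrLC.IsStarInjHull 𝒜 (GrLC.quotGr 𝒜 m) 𝓔 e)

/-- The image of `1` in the envelope. -/
def x0 : E' := e (Ideal.Quotient.mk m.toIdeal 1)

theorem mk_eq_smul_one (t : R) :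
    Ideal.Quotient.mk m.toIdeal t = t • (Ideal.Quotient.mk m.toIdeal 1) := by
  have := (Submodule.mkQ m.toIdeal).map_smul t (1 : R)
  rw [smul_eq_mul, mul_one] at this
  exact this

theorem e_mk_eq (t : R) : e (Ideal.Quotient.mk m.toIdeal t) = t • x0 m e := by
  rw [mk_eq_smul_one m t, map_smul]
  rfl

include hpos hmsp in
theorem mk_eq_mk_proj0 (r : R) :
    Ideal.Quotient.mk m.toIdeal r = Ideal.Quotient.mk m.toIdeal ((decompose 𝒜 r) 0 : R) :=
  Ideal.Quotient.eq.mpr (sub_proj0_mem hpos m hmsp r)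

include hpos hmsp he in
theorem e_mem0 (s : R ⧸ m.toIdeal) : e s ∈ 𝓔 0 := by
  obtain ⟨r, rfl⟩ := Ideal.Quotient.mk_surjective s
  rw [mk_eq_mk_proj0 hpos m hmsp r]
  exact he.grHom 0 _ ⟨((decompose 𝒜 r) 0 : R), SetLike.coe_mem _, rfl⟩

include hpos hmsp he in
theorem x0_mem : x0 m e ∈ 𝓔 0 := e_mem0 hpos m hmsp 𝓔 e he _

include hpos hmsp he in
theorem range_e_isHomogeneous : (LinearMap.range e).IsHomogeneous 𝓔 := by
  classical
  rintro i _ ⟨s, rfl⟩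
  have hs := e_mem0 hpos m hmsp 𝓔 e he s
  by_cases hi : i = 0
  · subst hi
    rw [DirectSum.decompose_of_mem_same 𝓔 hs]
    exact ⟨s, rfl⟩
  · rw [DirectSum.decompose_of_mem_ne 𝓔 hs (Ne.symm hi)]
    exact zero_mem _

include hm he in
theorem x0_ne_zero : x0 m e ≠ 0 := by
  intro h
  have h1 : Ideal.Quotient.mk m.toIdeal (1 : R) = 0 :=
    he.injective (h.trans (map_zero e).symm)
  rw [Ideal.Quotient.eq_zero_iff_mem] at h1
  exact m_ne_top m hm ((Ideal.eq_top_iff_one _).mpr h1)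

theorem smul_x0_of_mem {r : R} (hr : r ∈ m.toIdeal) : r • x0 m e = 0 := by
  rw [← e_mk_eq, Ideal.Quotient.eq_zero_iff_mem.mpr hr, map_zero]

include h0 hm he in
theorem eq_zero_of_smul_x0 {r : R} (hr : r ∈ 𝒜 0) (h : r • x0 m e = 0) : r = 0 := by
  rw [← e_mk_eq] at h
  have h1 : Ideal.Quotient.mk m.toIdeal r = 0 := he.injective (h.trans (map_zero e).symm)
  exact eq_zero_of_mem0_of_mem h0 m hm hr (Ideal.Quotient.eq_zero_iff_mem.mp h1)

include hpos h0 hmsp he in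
theorem exists_smul_x0 {x : E'} (hx : x ∈ 𝓔 0) : ∃ r ∈ 𝒜 0, r • x0 m e = x := by
  classical
  by_cases hx0 : x = 0
  · exact ⟨0, zero_mem _, by rw [zero_smul, hx0]⟩
  obtain ⟨h, r, hr, hrx0, ⟨s, hs⟩⟩ := exists_smul_mem_of_homogeneous 𝒜 𝓔 (LinearMap.range e)
    (range_e_isHomogeneous hpos m hmsp 𝓔 e he) he.essential hx hx0
  have hrx : r • x ∈ 𝓔 (h + 0) := SetLike.GradedSMul.smul_mem hr hx
  have hes : e s ∈ 𝓔 0 := e_mem0 hpos m hmsp 𝓔 e he s
  have hh : h + 0 = 0 := by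
    by_contra hne
    apply hrx0
    have h1 := DirectSum.decompose_of_mem_ne 𝓔 hrx hne
    rw [← hs] at h1 ⊢
    rw [DirectSum.decompose_of_mem_same 𝓔 hes] at h1
    exact h1
  rw [add_zero] at hh
  subst hh
  have hr0 : r ≠ 0 := fun h => hrx0 (by rw [h, zero_smul])
  obtain ⟨u, hu, hur⟩ := exists_inv0 h0 hr hr0
  obtain ⟨t, rfl⟩ := Ideal.Quotient.mk_surjective s
  refine ⟨u * ((decompose 𝒜 t) 0 : R), ?_, ?_⟩
  · have := SetLike.GradedMul.mul_mem (A := 𝒜) hu (SetLike.coe_mem ((decompose 𝒜 t) 0))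
    rwa [add_zero] at this
  · rw [mul_smul, ← e_mk_eq, ← mk_eq_mk_proj0 hpos m hmsp t, hs, ← mul_smul, hur, one_smul]

include hpos hmsp he in
theorem exists_mem0_of_ne_bot (P : Submodule R E') (hP : P.IsHomogeneous 𝓔) (hP0 : P ≠ ⊥) :
    ∃ y ∈ P, y ≠ 0 ∧ y ∈ 𝓔 0 := by
  obtain ⟨y, hy, hy0⟩ := Submodule.exists_mem_ne_zero_of_ne_bot (he.essential P hP hP0)
  obtain ⟨hyP, s, rfl⟩ := hy
  exact ⟨_, hyP, hy0, e_mem0 hpos m hmsp 𝓔 e he s⟩

include hpos h0 hm hmsp he in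
/-- The trace `E' → k`: the coordinate of the degree zero component. -/
theorem exists_trace : ∃ τ : E' →ₗ[GrLC.deg0 𝒜] GrLC.deg0 𝒜,
    (∀ x ∈ 𝓔 0, ((τ x : GrLC.deg0 𝒜) : R) • x0 m e = x) ∧
      (∀ j : ℤ, j ≠ 0 → ∀ x ∈ 𝓔 j, τ x = 0) := by
  classical
  have hex : ∀ x : E', ∃ a : GrLC.deg0 𝒜, (a : R) • x0 m e = ((decompose 𝓔 x) 0 : E') := by
    intro x
    obtain ⟨r, hr, hrx⟩ := exists_smul_x0 hpos h0 m hmsp 𝓔 e he
      (SetLike.coe_mem ((decompose 𝓔 x) 0))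
    exact ⟨⟨r, hr⟩, hrx⟩
  choose t ht using hex
  have huniq : ∀ a b : GrLC.deg0 𝒜, (a : R) • x0 m e = (b : R) • x0 m e → a = b := by
    intro a b hab
    have h1 : ((a : R) - (b : R)) • x0 m e = 0 := by rw [sub_smul, hab, sub_self]
    have h2 := eq_zero_of_smul_x0 h0 m hm 𝓔 e he
      (sub_mem (show (a : R) ∈ 𝒜 0 from a.2) (show (b : R) ∈ 𝒜 0 from b.2)) h1
    exact Subtype.ext (sub_eq_zero.mp h2)
  refine ⟨{ toFun := t, map_add' := ?_, map_smul' := ?_ }, ?_, ?_⟩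
  · intro x y
    apply huniq
    rw [ht, Subring.coe_add, add_smul, ht, ht, DirectSum.decompose_add, DirectSum.add_apply,
      AddSubgroup.coe_add]
  · intro a x
    apply huniq
    rw [RingHom.id_apply, ht, smul_eq_mul, Subring.coe_mul, mul_smul, ht, Subring.smul_def,
      decompose_smul_of_mem 𝒜 𝓔 (show (a : R) ∈ 𝒜 0 from a.2) x 0, sub_zero]
  · intro x hx
    show ((t x : GrLC.deg0 𝒜) : R) • x0 m e = x
    rw [ht, DirectSum.decompose_of_mem_same 𝓔 hx]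
  · intro j hj x hx
    apply huniq
    show ((t x : GrLC.deg0 𝒜) : R) • x0 m e = ((0 : GrLC.deg0 𝒜) : R) • x0 m e
    rw [ht, DirectSum.decompose_of_mem_ne 𝓔 hx hj, Subring.coe_zero, zero_smul]

/-! ### Graded modules and maps to the envelope -/

variable {C : Type u} [AddCommGroup C] [Module R C] (𝒞 : ℤ → AddSubgroup C)
  [DirectSum.Decomposition 𝒞] [SetLike.GradedSMul 𝒜 𝒞]

include hpos h0 hmsp he in
/-- A nonzero homogeneous element is separated from zero by a homogeneous map to the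
envelope. -/
theorem exists_sep {i : ℤ} {c : C} (hc : c ∈ 𝒞 i) (hc0 : c ≠ 0) :
    ∃ f : C →ₗ[R] E', GrLC.IsGrHomDeg 𝒞 𝓔 f (-i) ∧ f c = x0 m e := by
  classical
  let B : GrLC.GMod.{u} 𝒜 := GrLC.GMod.of 𝒜 C 𝒞
  let T : GrLC.GMod.{u} 𝒜 := shiftG (GrLC.GMod.of 𝒜 E' 𝓔) (-i)
  have hT : GrLC.IsStarInj 𝒜 T.gr :=
    isStarInj_shift (X := GrLC.GMod.of 𝒜 E' 𝓔) he.starInj (-i)
  have hx0T : x0 m e ∈ T.gr i := by
    show x0 m e ∈ 𝓔 (i + -i)
    rw [add_neg_cancel]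
    exact x0_mem hpos m hmsp 𝓔 e he
  have hcB : c ∈ B.gr i := hc
  have hker' : ∀ r : R, r • c = 0 → r • x0 m e = 0 := by
    intro r hr'
    have h1 : ((decompose 𝒜 r) 0 : R) • c = 0 := by
      have := decompose_smul_of_mem_right 𝒜 𝒞 hc r (0 + i)
      rw [hr', DirectSum.decompose_zero, DirectSum.zero_apply, ZeroMemClass.coe_zero,
        add_sub_cancel_right] at this
      exact this.symm
    have h2 : ((decompose 𝒜 r) 0 : R) = 0 := by
      by_contra hne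
      obtain ⟨u, -, hu⟩ := exists_inv0 h0 (SetLike.coe_mem ((decompose 𝒜 r) 0)) hne
      apply hc0
      rw [← one_smul R c, ← hu, mul_smul, h1, smul_zero]
    have h3 := smul_x0_of_mem m e (sub_proj0_mem hpos m hmsp r)
    rw [h2, sub_zero] at h3
    exact h3
  have hker : LinearMap.ker (mu B i c) ≤ LinearMap.ker (mu T i (x0 m e)) :=
    fun r hr => hker' r hr
  obtain ⟨h, hh, hhd⟩ := exists_extension 𝒜 B T (shiftG (selfG 𝒜) (-i)).gr hT (mu B i c)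
    (mu_grHom B hcB) (mu T i (x0 m e)) (mu_grHom T hx0T) hker
  refine ⟨h, hh, ?_⟩
  have := hhd (1 : R)
  rw [mu_apply, mu_apply, one_smul, one_smul] at this
  exact this

include hpos hmsp he in
/-- A homogeneous map to the envelope of degree `d` is determined by its restriction to the
piece of degree `-d`. -/
theorem eq_zero_of_vanish {d : ℤ} (f : C →ₗ[R] E') (hf : GrLC.IsGrHomDeg 𝒞 𝓔 f d)
    (hz : ∀ c ∈ 𝒞 (-d), f c = 0) : f = 0 := by
  classical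
  by_contra hne
  let Cs : GrLC.GMod.{u} 𝒜 := shiftG (GrLC.GMod.of 𝒜 C 𝒞) (-d)
  have hf' : ∀ (g : ℤ) (c : Cs.carrier), c ∈ Cs.gr g → f c ∈ 𝓔 g := by
    intro g c hc
    have hc' : c ∈ 𝒞 (g + -d) := hc
    have := hf (g + -d) c hc'
    rwa [neg_add_cancel_right] at this
  have hhom : (LinearMap.range f).IsHomogeneous 𝓔 :=
    range_isHomogeneous 𝓔 Cs.gr (f : Cs.carrier →ₗ[R] E') hf'
  have hne' : LinearMap.range f ≠ ⊥ := by
    rw [Ne, LinearMap.range_eq_bot]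
    exact hne
  obtain ⟨y, ⟨c, rfl⟩, hy0, hy⟩ :=
    exists_mem0_of_ne_bot hpos m hmsp 𝓔 e he (LinearMap.range f) hhom hne'
  apply hy0
  have h1 := decompose_map 𝓔 Cs.gr (f : Cs.carrier →ₗ[R] E') hf' c 0
  have h2 : ((decompose Cs.gr (c : Cs.carrier)) 0 : Cs.carrier) ∈ 𝒞 (-d) := by
    have h' : ((decompose Cs.gr (c : Cs.carrier)) 0 : Cs.carrier) ∈ 𝒞 (0 + -d) :=
      SetLike.coe_mem ((decompose Cs.gr (c : Cs.carrier)) 0)
    rwa [zero_add] at h'
  have h3 : ((decompose 𝓔 (f c)) 0 : E') = 0 := h1.trans (hz _ h2)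
  rw [DirectSum.decompose_of_mem_same 𝓔 hy] at h3
  exact h3

/-- The inverse of a homogeneous isomorphism `Hom_R(C, E') ≃ H^n_m(R)` is homogeneous. -/
theorem symm_mem_homDeg [IsNoetherianRing R] [Module.Finite R C] (n : ℕ)
    (I : GrLC.StarInjRes 𝒜 𝒜) (φ : (C →ₗ[R] E') ≃ₗ[R] I.H m n)
    (hφ : GrLC.IsGrHom (fun d => (GrLC.homDeg 𝒜 𝒞 𝓔 d).toAddSubgroup) (I.Hgr m n)
      φ.toLinearMap)
    {d : ℤ} {h : I.H m n} (hh : h ∈ I.Hgr m n d) : GrLC.IsGrHomDeg 𝒞 𝓔 (φ.symm h) d := by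
  classical
  have hind : iSupIndep (I.Hgr m n) :=
    (Groth.Agent.S13225.result R 𝒜 m R 𝒜 I n).addSubgroup_iSupIndep
  have hspan : ∀ f : C →ₗ[R] E', ∃ (s : Finset ℤ) (c : ℤ → (C →ₗ[R] E')),
      (∀ g, c g ∈ (GrLC.homDeg 𝒜 𝒞 𝓔 g).toAddSubgroup) ∧ f = ∑ g ∈ s, c g := by
    intro f
    obtain ⟨D, hD⟩ := exists_sum_part 𝒜 𝒞 𝓔 f
    exact ⟨D, fun d => part 𝒜 𝒞 𝓔 f d, fun d => part_isGrHomDeg 𝒜 𝒞 𝓔 f d, hD.symm⟩
  have key := mem_of_map_mem (fun d => (GrLC.homDeg 𝒜 𝒞 𝓔 d).toAddSubgroup) (I.Hgr m n)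
    (φ.toLinearMap : (C →ₗ[R] E') →+ I.H m n) φ.injective (fun g x hx => hφ g x hx) hspan hind
    (g := d) (x := φ.symm h) (by
      show φ (φ.symm h) ∈ I.Hgr m n d
      rw [φ.apply_symm_apply]
      exact hh)
  exact key

include hpos h0 hm hmsp he in
/-- The pairing between a *canonical module and the top local cohomology. -/
theorem exists_pairing [IsNoetherianRing R] (n : ℕ) (I : GrLC.StarInjRes 𝒜 𝒜)
    (hC : GrLC.IsStarCanonical 𝒜 𝒞 𝓔 m n I) :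
    ∃ β : C →ₗ[GrLC.deg0 𝒜] I.H m n →ₗ[GrLC.deg0 𝒜] GrLC.deg0 𝒜,
      (∀ (r : R) (c : C) (h : I.H m n), β (r • c) h = β c (r • h)) ∧
      (∀ (i : ℤ) (c : C), c ∈ 𝒞 i → (∀ h ∈ I.Hgr m n (-i), β c h = 0) → c = 0) ∧
      (∀ (i : ℤ) (l : ↥(I.Hcomp m n (-i)) →ₗ[GrLC.deg0 𝒜] GrLC.deg0 𝒜),
        ∃ c ∈ 𝒞 i, ∀ h : ↥(I.Hcomp m n (-i)), β c h.1 = l h) := by
  classical
  obtain ⟨hfin, φ, hφ⟩ := hC
  obtain ⟨τ, hτ0, hτne⟩ := exists_trace hpos h0 m hm hmsp 𝓔 e he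
  let β : C →ₗ[GrLC.deg0 𝒜] I.H m n →ₗ[GrLC.deg0 𝒜] GrLC.deg0 𝒜 :=
    LinearMap.mk₂ (GrLC.deg0 𝒜) (fun c h => τ ((φ.symm h) c))
      (fun c c' h => by rw [map_add, map_add])
      (fun a c h => by
        show τ ((φ.symm h) ((a : R) • c)) = a • τ ((φ.symm h) c)
        rw [map_smul]
        exact map_smul τ a _)
      (fun c h h' => by rw [map_add, LinearMap.add_apply, map_add])
      (fun a c h => by
        show τ ((φ.symm ((a : R) • h)) c) = a • τ ((φ.symm h) c)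
        rw [map_smul, LinearMap.smul_apply]
        exact map_smul τ a _)
  have hβ : ∀ c h, β c h = τ ((φ.symm h) c) := fun c h => rfl
  have hL : ∀ (i : ℤ) (c : C), c ∈ 𝒞 i → (∀ h ∈ I.Hgr m n (-i), β c h = 0) → c = 0 := by
    intro i c hc hvan
    by_contra hc0
    obtain ⟨f, hf, hfc⟩ := exists_sep hpos h0 m hmsp 𝓔 e he 𝒞 hc hc0
    have hh : φ f ∈ I.Hgr m n (-i) := hφ (-i) f hf
    have h1 := hvan (φ f) hh
    rw [hβ, φ.symm_apply_apply, hfc] at h1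
    have h2 := hτ0 (x0 m e) (x0_mem hpos m hmsp 𝓔 e he)
    rw [h1, Subring.coe_zero, zero_smul] at h2
    exact x0_ne_zero m hm 𝓔 e he h2.symm
  refine ⟨β, ?_, hL, ?_⟩
  · intro r c h
    rw [hβ, hβ, (φ.symm h).map_smul r c, φ.symm.map_smul r h, LinearMap.smul_apply]
  · intro i l
    let _ : Field (GrLC.deg0 𝒜) := h0.toField
    have hart : IsArtinianRing (GrLC.deg0 𝒜) := inferInstance
    have hfinC : Module.Finite (GrLC.deg0 𝒜) ↥(GrLC.comp 𝒜 𝒞 i) := by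
      have hfinR : Module.Finite R (GrLC.GMod.of 𝒜 C 𝒞).carrier := hfin
      have hfl : IsFiniteLength (GrLC.deg0 𝒜) ↥(GrLC.comp 𝒜 𝒞 i) :=
        fl_comp hpos (GrLC.GMod.of 𝒜 C 𝒞) i
      have hnoeth := (isFiniteLength_iff_isNoetherian_isArtinian.mp hfl).1
      exact Module.IsNoetherian.finite _ _
    let p := β.domRestrict₁₂ (GrLC.comp 𝒜 𝒞 i) (I.Hcomp m n (-i))
    have hp : ∀ c h, p c h = β c.1 h.1 := fun c h => rfl
    have hinj : Function.Injective p := by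
      rw [injective_iff_map_eq_zero]
      intro c hc
      apply Subtype.ext
      refine hL i c.1 c.2 (fun h hh => ?_)
      exact LinearMap.congr_fun hc ⟨h, hh⟩
    have hinj' : Function.Injective p.flip := by
      rw [injective_iff_map_eq_zero]
      intro h hh
      apply Subtype.ext
      have hf := symm_mem_homDeg m 𝓔 𝒞 n I φ hφ (h := h.1) h.2
      have hz : ∀ c ∈ 𝒞 (-(-i)), (φ.symm h.1) c = 0 := by
        intro c hc
        rw [neg_neg] at hc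
        have h1 : τ ((φ.symm h.1) c) = 0 := LinearMap.congr_fun hh ⟨c, hc⟩
        have h2 : (φ.symm h.1) c ∈ 𝓔 0 := by
          have := hf i c hc
          rwa [add_neg_cancel] at this
        rw [← hτ0 _ h2, h1, Subring.coe_zero, zero_smul]
      have h3 := eq_zero_of_vanish hpos m hmsp 𝓔 e he 𝒞 (φ.symm h.1) hf hz
      show h.1 = 0
      rw [← φ.apply_symm_apply h.1, h3, map_zero]
    have hperf : p.IsPerfPair := LinearMap.IsPerfPair.of_injective hinj hinj'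
    obtain ⟨c, hc⟩ := (LinearMap.IsPerfPair.bijective_left p).2 l
    exact ⟨c.1, c.2, fun h => by rw [← hp, hc]⟩

end hull

end Groth.Agent.Lib.R2H7.GrCanDict
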