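/-
Consequences of the dictionary between a *canonical module and the top graded local cohomology:
equality of the dimensions of `C_i` and `H^n_m(R)_{-i}`; the graded structure on `E.H a i` as
instances; `J H^n_a(R) = H^n_a(R)` for a homogeneous ideal `J` with `dim R/J < n = dim R`
(right exactness of the top local cohomology); homogeneous components of `(L) N` for a set `L` of
elements of degree one; and `dim R/(L) ≤ 1` when `L` spans a hyperplane of `R_1`.
-/
import Mathlib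
import Groth.Agent.Lib.R2H7GrCanDict
import Groth.Agent.Lib.Helper29GrStd

set_option autoImplicit false
open DirectSum
open scoped TensorProduct

noncomputable section

namespace Groth.Agent.Lib.R2H7.GrCanFin

open Groth.Agent.Lib.Helper29GrCompare Groth.Agent.Lib.Helper29GrHom
  Groth.Agent.Lib.Helper29GrGam Groth.Agent.Lib.Helper29GrEss Groth.Agent.Lib.Helper29GrStd
  Groth.Agent.Lib.R2H7.GrDer Groth.Agent.Lib.R2H7.GrOps Groth.Agent.Lib.R2H7.GrFun
  Groth.Agent.Lib.R2H7.GrFree Groth.Agent.Lib.R2H7.GrStar Groth.Agent.Lib.R2H7.GrFin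
  Groth.Agent.Lib.R2H7.GrCanDict

universe u

variable {R : Type u} [CommRing R] {𝒜 : ℤ → AddSubgroup R} [GradedRing 𝒜]

/-! ### The graded structure of local cohomology -/

section inst

variable [IsNoetherianRing R] {M : Type u} [AddCommGroup M] [Module R M] {ℳ : ℤ → AddSubgroup M}
  [DirectSum.Decomposition ℳ] [SetLike.GradedSMul 𝒜 ℳ]
  (E : GrLC.StarInjRes 𝒜 ℳ) (a : HomogeneousIdeal 𝒜) (i : ℕ)

instance hgrDecomposition : DirectSum.Decomposition (E.Hgr a i) :=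
  (Groth.Agent.S13225.result R 𝒜 a M ℳ E i).chooseDecomposition

theorem smul_mem_hgr {g j : ℤ} {r : R} {ξ : E.H a i}
    (hr : r ∈ 𝒜 g) (hξ : ξ ∈ E.Hgr a i j) : r • ξ ∈ E.Hgr a i (g + j) := by
  obtain ⟨z, hz, rfl⟩ := hξ
  refine ⟨r • z, ?_, map_smul _ _ _⟩
  have := SetLike.GradedSMul.smul_mem (A := 𝒜) (B := (E.X i).gr) hr hz
  rw [vadd_eq_add] at this
  exact this

instance hgrGradedSMul : SetLike.GradedSMul 𝒜 (E.Hgr a i) where
  smul_mem := by
    intro g j r ξ hr hξ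
    rw [vadd_eq_add]
    exact smul_mem_hgr E a i hr hξ

end inst

/-! ### Dimensions of the pieces of a *canonical module -/

section finrank

variable [IsNoetherianRing R]
  (hpos : ∀ n : ℤ, n < 0 → 𝒜 n = ⊥) (h0 : IsField (GrLC.deg0 𝒜))
  (m : HomogeneousIdeal 𝒜) (hm : GrLC.IsStarLocal 𝒜 m)
  (hmsp : m.toIdeal = Ideal.span (⋃ n ∈ Set.Ioi (0 : ℤ), (𝒜 n : Set R)))
  {E' : Type u} [AddCommGroup E'] [Module R E'] (𝓔 : ℤ → AddSubgroup E')
  [DirectSum.Decomposition 𝓔] [SetLike.GradedSMul 𝒜 𝓔]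
  (e : (R ⧸ m.toIdeal) →ₗ[R] E') (he : GrLC.IsStarInjHull 𝒜 (GrLC.quotGr 𝒜 m) 𝓔 e)
  {C : Type u} [AddCommGroup C] [Module R C] (𝒞 : ℤ → AddSubgroup C)
  [DirectSum.Decomposition 𝒞] [SetLike.GradedSMul 𝒜 𝒞]

include hpos h0 hm hmsp he in
theorem finrank_comp_eq (n : ℕ) (I : GrLC.StarInjRes 𝒜 𝒜)
    (hC : GrLC.IsStarCanonical 𝒜 𝒞 𝓔 m n I) (i : ℤ) :
    Module.finrank (GrLC.deg0 𝒜) ↥(GrLC.comp 𝒜 𝒞 i) =
      Module.finrank (GrLC.deg0 𝒜) ↥(I.Hcomp m n (-i)) := by
  classical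
  obtain ⟨β, -, hL, hPerf⟩ := exists_pairing hpos h0 m hm hmsp 𝓔 e he 𝒞 n I hC
  let _ : Field (GrLC.deg0 𝒜) := h0.toField
  have hfinR : Module.Finite R (GrLC.GMod.of 𝒜 R 𝒜).carrier := inferInstanceAs (Module.Finite R R)
  have hfinH : Module.Finite (GrLC.deg0 𝒜) ↥(I.Hcomp m n (-i)) :=
    finite_hcomp m hpos hmsp (GrLC.GMod.of 𝒜 R 𝒜) I n (-i)
  let p := β.domRestrict₁₂ (GrLC.comp 𝒜 𝒞 i) (I.Hcomp m n (-i))
  have hinj : Function.Injective p := by
    rw [injective_iff_map_eq_zero]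
    intro c hc
    apply Subtype.ext
    refine hL i c.1 c.2 (fun h hh => ?_)
    exact LinearMap.congr_fun hc ⟨h, hh⟩
  have hsurj : Function.Surjective p := by
    intro l
    obtain ⟨c, hc, hcl⟩ := hPerf i l
    exact ⟨⟨c, hc⟩, LinearMap.ext hcl⟩
  rw [(LinearEquiv.ofBijective p ⟨hinj, hsurj⟩).finrank_eq]
  exact Subspace.dual_finrank_eq

end finrank

/-! ### Right exactness of the top local cohomology -/

section rightexact

variable [IsNoetherianRing R] (a : HomogeneousIdeal 𝒜) (I : GrLC.StarInjRes 𝒜 𝒜) (n : ℕ)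

theorem smul_top_eq_top (hn : ringKrullDim R = (n : WithBot ℕ∞)) (J : Ideal R)
    (hJ : J.IsHomogeneous 𝒜) (hdim : Module.supportDim R (R ⧸ J) < (n : WithBot ℕ∞)) :
    J • (⊤ : Submodule R (I.H a n)) = ⊤ := by
  let X : GrLC.GMod.{u} 𝒜 := quotG (selfG 𝒜) J hJ
  have hfin : Module.Finite R X.carrier := inferInstanceAs (Module.Finite R (R ⧸ J))
  obtain ⟨E⟩ := exists_res X
  have hsubE : Subsingleton (E.H a n) := by
    obtain ⟨e⟩ := Groth.Agent.S13224.result R 𝒜 a X.carrier X.gr E n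
    have hsub : Subsingleton (LocCoh.H a.toIdeal n X.carrier) :=
      Groth.Agent.S11625.result R a.toIdeal X.carrier n hdim
    exact e.toEquiv.subsingleton
  have hV : ∀ (Y : GrLC.GMod.{u} 𝒜) (F : GrLC.StarInjRes 𝒜 Y.gr) (z : (F.X (n + 1)).carrier),
      z ∈ F.cocyc a (n + 1) → z ∈ F.cobdy a (n + 1) := by
    intro Y F z hz
    refine vanW_of_dim_lt a Y (n + 1) ?_ F z hz
    rw [hn]
    exact_mod_cast Nat.lt_succ_self n
  have hΘ := Theta_injective a (I : GrLC.StarInjRes 𝒜 (selfG 𝒜).gr) n hV X E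
  rw [eq_top_iff]
  rintro η -
  have h1 : ((Submodule.Quotient.mk (1 : R) : X.carrier) ⊗ₜ[R] η :
      X.carrier ⊗[R] I.H a n) = 0 := hΘ (Subsingleton.elim _ _)
  have h2 : (Ideal.Quotient.mk J (1 : R)) ⊗ₜ[R] η = (0 : (R ⧸ J) ⊗[R] I.H a n) := h1
  have h3 := congrArg (TensorProduct.quotTensorEquivQuotSMul (I.H a n) J) h2
  rw [TensorProduct.quotTensorEquivQuotSMul_mk_tmul, map_zero, one_smul] at h3
  exact (Submodule.Quotient.mk_eq_zero _).mp h3

end rightexact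

/-! ### Components of `(L) N` for `L ⊆ R_1` -/

theorem mem_closure_of_smul_top {N : Type u} [AddCommGroup N] [Module R N]
    (𝒩 : ℤ → AddSubgroup N) [DirectSum.Decomposition 𝒩] [SetLike.GradedSMul 𝒜 𝒩] (L : Set R)
    (hL : ∀ y ∈ L, y ∈ 𝒜 1) (htop : Ideal.span L • (⊤ : Submodule R N) = ⊤) (i : ℤ) {ξ : N}
    (hξ : ξ ∈ 𝒩 (i + 1)) :
    ξ ∈ AddSubgroup.closure {x : N | ∃ y ∈ L, ∃ η ∈ 𝒩 i, x = y • η} := by
  classical
  have key : ∀ r ∈ Ideal.span L, ∀ ν : N, ((decompose 𝒩 (r • ν)) (i + 1) : N) ∈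
      AddSubgroup.closure {x : N | ∃ y ∈ L, ∃ η ∈ 𝒩 i, x = y • η} := by
    intro r hr
    refine Submodule.span_induction (p := fun r _ => ∀ ν : N,
      ((decompose 𝒩 (r • ν)) (i + 1) : N) ∈
        AddSubgroup.closure {x : N | ∃ y ∈ L, ∃ η ∈ 𝒩 i, x = y • η}) ?_ ?_ ?_ ?_ hr
    · intro y hy ν
      rw [decompose_smul_of_mem 𝒜 𝒩 (hL y hy) ν (i + 1), add_sub_cancel_right]
      exact AddSubgroup.subset_closure ⟨y, hy, _, SetLike.coe_mem _, rfl⟩
    · intro ν
      rw [zero_smul, DirectSum.decompose_zero, DirectSum.zero_apply, ZeroMemClass.coe_zero]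
      exact zero_mem _
    · intro r s _ _ hr hs ν
      rw [add_smul, DirectSum.decompose_add, DirectSum.add_apply, AddSubgroup.coe_add]
      exact add_mem (hr ν) (hs ν)
    · intro c r _ hr ν
      rw [smul_eq_mul, mul_comm, mul_smul]
      exact hr (c • ν)
  have hall : ∀ ν : N, ν ∈ Ideal.span L • (⊤ : Submodule R N) →
      ((decompose 𝒩 ν) (i + 1) : N) ∈
        AddSubgroup.closure {x : N | ∃ y ∈ L, ∃ η ∈ 𝒩 i, x = y • η} := by
    intro ν hν
    refine Submodule.smul_induction_on hν (fun r hr ν' _ => key r hr ν') (fun x y hx hy => ?_)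
    rw [DirectSum.decompose_add, DirectSum.add_apply, AddSubgroup.coe_add]
    exact add_mem hx hy
  have hξtop : ξ ∈ Ideal.span L • (⊤ : Submodule R N) := by
    rw [htop]
    exact Submodule.mem_top
  have h1 := hall ξ hξtop
  rwa [DirectSum.decompose_of_mem_same 𝒩 hξ] at h1

/-! ### A hyperplane of linear forms cuts out a ring of dimension at most one -/

theorem ringKrullDim_quot_le_one (hpos : ∀ n : ℤ, n < 0 → 𝒜 n = ⊥)
    (h0 : IsField (GrLC.deg0 𝒜))
    (hgen : ∀ s : ℤ, 0 < s → ∀ r ∈ 𝒜 s, r ∈ Ideal.span ((𝒜 1 : AddSubgroup R) : Set R))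
    (L : Set R) (t₀ : R) (hL : ∀ x ∈ 𝒜 1, ∃ α ∈ 𝒜 0, x - α * t₀ ∈ Ideal.span L) :
    ringKrullDim (R ⧸ Ideal.span L) ≤ 1 := by
  classical
  let ι₀ : ↥(GrLC.deg0 𝒜) →+* R ⧸ Ideal.span L :=
    (Ideal.Quotient.mk (Ideal.span L)).comp (GrLC.deg0 𝒜).subtype
  let f : Polynomial ↥(GrLC.deg0 𝒜) →+* R ⧸ Ideal.span L :=
    Polynomial.eval₂RingHom ι₀ (Ideal.Quotient.mk (Ideal.span L) t₀)
  have h0mem : ∀ r ∈ 𝒜 0, Ideal.Quotient.mk (Ideal.span L) r ∈ f.range := by
    intro r hr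
    refine ⟨Polynomial.C ⟨r, hr⟩, ?_⟩
    show Polynomial.eval₂ ι₀ _ (Polynomial.C ⟨r, hr⟩) = _
    rw [Polynomial.eval₂_C]
    rfl
  have ht : Ideal.Quotient.mk (Ideal.span L) t₀ ∈ f.range := by
    refine ⟨Polynomial.X, ?_⟩
    show Polynomial.eval₂ ι₀ _ Polynomial.X = _
    rw [Polynomial.eval₂_X]
  have h1mem : ∀ x ∈ 𝒜 1, Ideal.Quotient.mk (Ideal.span L) x ∈ f.range := by
    intro x hx
    obtain ⟨α, hα, hxα⟩ := hL x hx
    have e1 : Ideal.Quotient.mk (Ideal.span L) x =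
        Ideal.Quotient.mk (Ideal.span L) α * Ideal.Quotient.mk (Ideal.span L) t₀ := by
      rw [← map_mul]
      exact Ideal.Quotient.eq.mpr hxα
    rw [e1]
    exact mul_mem (h0mem α hα) ht
  have hk : ∀ (k : ℕ) (r : R), r ∈ 𝒜 (k : ℤ) →
      Ideal.Quotient.mk (Ideal.span L) r ∈ f.range := by
    intro k
    induction k with
    | zero =>
      intro r hr
      exact h0mem r (by simpa using hr)
    | succ k ih =>
      intro r hr
      have hra := hgen _ (by push_cast; omega) r hr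
      obtain ⟨c, t, hts, -, rfl⟩ := Submodule.mem_span_iff_exists_finset_subset.mp hra
      have hcomp := decompose_sum_smul 𝒜 𝒜 t (fun _ => 1) (fun p hp => hts hp) c
        ((k + 1 : ℕ) : ℤ)
      rw [DirectSum.decompose_of_mem_same 𝒜 hr] at hcomp
      rw [hcomp, map_sum]
      refine Subring.sum_mem _ (fun p hp => ?_)
      rw [smul_eq_mul, map_mul]
      refine mul_mem (ih _ ?_) (h1mem p (hts hp))
      have h3 : (((k + 1 : ℕ) : ℤ) - 1) = (k : ℤ) := by push_cast; ring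
      rw [← h3]
      exact SetLike.coe_mem _
  have hsurj : Function.Surjective f := by
    intro y
    obtain ⟨r, rfl⟩ := Ideal.Quotient.mk_surjective y
    have hmem : Ideal.Quotient.mk (Ideal.span L) r ∈ f.range := by
      rw [← DirectSum.sum_support_decompose 𝒜 r, map_sum]
      refine Subring.sum_mem _ (fun s _ => ?_)
      rcases lt_or_ge s 0 with hs | hs
      · have hbot := hpos s hs
        have h1 : ((decompose 𝒜 r) s : R) ∈ (⊥ : AddSubgroup R) := by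
          rw [← hbot]
          exact SetLike.coe_mem _
        rw [AddSubgroup.mem_bot.mp h1, map_zero]
        exact zero_mem _
      · have hs' : ((s.toNat : ℕ) : ℤ) = s := Int.toNat_of_nonneg hs
        exact hk s.toNat _ (by rw [hs']; exact SetLike.coe_mem _)
    exact hmem
  have hnoeth : IsNoetherianRing ↥(GrLC.deg0 𝒜) := by
    let _ : Field (GrLC.deg0 𝒜) := h0.toField
    infer_instance
  calc ringKrullDim (R ⧸ Ideal.span L)
      ≤ ringKrullDim (Polynomial ↥(GrLC.deg0 𝒜)) := ringKrullDim_le_of_surjective f hsurj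
    _ = ringKrullDim ↥(GrLC.deg0 𝒜) + 1 := Polynomial.ringKrullDim_of_isNoetherianRing
    _ = 1 := by rw [ringKrullDim_eq_zero_of_isField h0, zero_add]

end Groth.Agent.Lib.R2H7.GrCanFin
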