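/-
Graded Matlis duality for a Noetherian graded ring `R = ⊕_{n ≥ 0} R_n` over the field `k = R_0`,
in elementary form.  A graded module `Y` with a "dual package" `DPack Y c η` (the top piece `Y_c` is
`k η`, every nonzero homogeneous element has a nonzero multiple in `Y_c`, and `Y` is faithful
against homogeneous elements) pairs perfectly with `R`: `R_t × Y_{c-t} → k`.  The *injective envelope
`E'` of `R/m` carries such a package, a module isomorphic to a shift of `E'` carries one, and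
conversely every module with a package is isomorphic to `E'(-c)`.
-/
import Mathlib
import Groth.Agent.Lib.R2H7GrCanFin

set_option autoImplicit false
open DirectSum

noncomputable section

namespace Groth.Agent.Lib.R2H7.GrMatlis

open Groth.Agent.Lib.Helper29GrHom Groth.Agent.Lib.Helper29GrEss
  Groth.Agent.Lib.R2H7.GrDer Groth.Agent.Lib.R2H7.GrOps
  Groth.Agent.Lib.R2H7.GrSerre Groth.Agent.Lib.R2H7.GrCanDict Groth.Agent.Lib.R2H7.GrCanFin

universe u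

variable {R : Type u} [CommRing R] {𝒜 : ℤ → AddSubgroup R} [GradedRing 𝒜]

/-! ### Generalities -/

/-- A nonzero homogeneous element has only one degree. -/
theorem eq_of_mem_gr {Y : Type u} [AddCommGroup Y] (𝒴 : ℤ → AddSubgroup Y)
    [DirectSum.Decomposition 𝒴] {y : Y} {α β : ℤ} (hα : y ∈ 𝒴 α)
    (hβ : y ∈ 𝒴 β) (hne : y ≠ 0) : α = β := by
  by_contra hαβ
  apply hne
  have h1 := DirectSum.decompose_of_mem_ne 𝒴 hα hαβ
  have h2 := DirectSum.decompose_of_mem_same 𝒴 hβ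
  rw [← h2, h1]

/-- The dual package. -/
structure DPack (𝒜 : ℤ → AddSubgroup R) {Y : Type u} [AddCommGroup Y] [Module R Y]
    (𝒴 : ℤ → AddSubgroup Y) (c : ℤ) (η : Y) : Prop where
  mem : η ∈ 𝒴 c
  ne : η ≠ 0
  gen : ∀ y ∈ 𝒴 c, ∃ r ∈ 𝒜 0, y = r • η
  ess : ∀ (s : ℤ) (y : Y), y ∈ 𝒴 s → y ≠ 0 →
    ∃ (u : ℤ) (r : R), r ∈ 𝒜 u ∧ r • y ≠ 0 ∧ r • y ∈ 𝒴 c
  faith : ∀ r : R, r ≠ 0 → ∀ t, r ∈ 𝒜 t → ∃ y : Y, r • y ≠ 0

namespace DPack

variable {Y : Type u} [AddCommGroup Y] [Module R Y] {𝒴 : ℤ → AddSubgroup Y}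
  [DirectSum.Decomposition 𝒴] [SetLike.GradedSMul 𝒜 𝒴] {c : ℤ} {η : Y} (P : DPack 𝒜 𝒴 c η)

include P in
theorem exists_smul_ne {s : ℤ} {y : Y} (hs : y ∈ 𝒴 s) (hy : y ≠ 0) :
    ∃ r ∈ 𝒜 (c - s), r • y ≠ 0 ∧ r • y ∈ 𝒴 c := by
  obtain ⟨u, r, hr, hr0, hrc⟩ := P.ess s y hs hy
  have h1 : r • y ∈ 𝒴 (u + s) := by
    have := SetLike.GradedSMul.smul_mem (A := 𝒜) (B := 𝒴) hr hs
    rwa [vadd_eq_add] at this
  have hu : u + s = c := eq_of_mem_gr 𝒴 h1 hrc hr0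
  have hu' : u = c - s := by omega
  rw [hu'] at hr
  exact ⟨r, hr, hr0, hrc⟩

include P in
theorem exists_mem_smul_ne {t : ℤ} {r : R} (hr : r ∈ 𝒜 t) (hr0 : r ≠ 0) :
    ∃ y ∈ 𝒴 (c - t), r • y ≠ 0 := by
  classical
  obtain ⟨y₀, hy₀⟩ := P.faith r hr0 t hr
  have hex : ∃ d, r • ((decompose 𝒴 y₀) d : Y) ≠ 0 := by
    by_contra hcon
    apply hy₀
    rw [← DirectSum.sum_support_decompose 𝒴 y₀, Finset.smul_sum]
    refine Finset.sum_eq_zero (fun d _ => ?_)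
    by_contra hne
    exact hcon ⟨d, hne⟩
  obtain ⟨d, hd⟩ := hex
  have hdmem : ((decompose 𝒴 y₀) d : Y) ∈ 𝒴 d := SetLike.coe_mem _
  have hrd : r • ((decompose 𝒴 y₀) d : Y) ∈ 𝒴 (t + d) := by
    have := SetLike.GradedSMul.smul_mem (A := 𝒜) (B := 𝒴) hr hdmem
    rwa [vadd_eq_add] at this
  obtain ⟨r₂, hr₂, hr₂0, -⟩ := P.exists_smul_ne hrd hd
  refine ⟨r₂ • ((decompose 𝒴 y₀) d : Y), ?_, ?_⟩
  · have := SetLike.GradedSMul.smul_mem (A := 𝒜) (B := 𝒴) hr₂ hdmem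
    rw [vadd_eq_add] at this
    have e1 : c - (t + d) + d = c - t := by ring
    rwa [e1] at this
  · rw [smul_comm]
    exact hr₂0

end DPack

/-! ### The coordinate on the top piece and the perfect pairing -/

section pairing

variable [IsNoetherianRing R] (hpos : ∀ n : ℤ, n < 0 → 𝒜 n = ⊥) (h0 : IsField (GrLC.deg0 𝒜))
variable {Y : Type u} [AddCommGroup Y] [Module R Y] {𝒴 : ℤ → AddSubgroup Y}
  [DirectSum.Decomposition 𝒴] [SetLike.GradedSMul 𝒜 𝒴] {c : ℤ} {η : Y} (P : DPack 𝒜 𝒴 c η)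

include h0 P in
theorem eq_zero_of_smul_eta {r : R} (hr : r ∈ 𝒜 0) (h : r • η = 0) : r = 0 := by
  by_contra hr0
  obtain ⟨u, -, hu⟩ := exists_inv0 h0 hr hr0
  apply P.ne
  rw [← one_smul R η, ← hu, mul_smul, h, smul_zero]

include h0 P in
/-- The coordinate of the component of degree `c`. -/
theorem exists_coord : ∃ τ : Y →ₗ[GrLC.deg0 𝒜] GrLC.deg0 𝒜,
    (∀ y ∈ 𝒴 c, ((τ y : GrLC.deg0 𝒜) : R) • η = y) ∧
      (∀ j : ℤ, j ≠ c → ∀ y ∈ 𝒴 j, τ y = 0) := by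
  classical
  have hex : ∀ y : Y, ∃ a : GrLC.deg0 𝒜,
      (a : R) • η = ((decompose 𝒴 y) c : Y) := by
    intro y
    obtain ⟨r, hr, hry⟩ := P.gen _ (SetLike.coe_mem ((decompose 𝒴 y) c))
    exact ⟨⟨r, hr⟩, hry.symm⟩
  choose t ht using hex
  have huniq : ∀ a b : GrLC.deg0 𝒜, (a : R) • η = (b : R) • η → a = b := by
    intro a b hab
    have h1 : ((a : R) - (b : R)) • η = 0 := by rw [sub_smul, hab, sub_self]
    have h2 := eq_zero_of_smul_eta h0 P
      (sub_mem (show (a : R) ∈ 𝒜 0 from a.2) (show (b : R) ∈ 𝒜 0 from b.2)) h1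
    exact Subtype.ext (sub_eq_zero.mp h2)
  refine ⟨{ toFun := t, map_add' := ?_, map_smul' := ?_ }, ?_, ?_⟩
  · intro x y
    apply huniq
    rw [ht, Subring.coe_add, add_smul, ht, ht, DirectSum.decompose_add, DirectSum.add_apply,
      AddSubgroup.coe_add]
  · intro a x
    apply huniq
    rw [RingHom.id_apply, ht, smul_eq_mul, Subring.coe_mul, mul_smul, ht, Subring.smul_def,
      decompose_smul_of_mem 𝒜 𝒴 (show (a : R) ∈ 𝒜 0 from a.2) x c, sub_zero]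
  · intro x hx
    show ((t x : GrLC.deg0 𝒜) : R) • η = x
    rw [ht, DirectSum.decompose_of_mem_same 𝒴 hx]
  · intro j hj x hx
    apply huniq
    show ((t x : GrLC.deg0 𝒜) : R) • η = ((0 : GrLC.deg0 𝒜) : R) • η
    rw [ht, DirectSum.decompose_of_mem_ne 𝒴 hx hj, Subring.coe_zero, zero_smul]

include hpos h0 in
theorem finite_comp_self (t : ℤ) : Module.Finite (GrLC.deg0 𝒜) ↥(GrLC.comp 𝒜 𝒜 t) := by
  let _ : Field (GrLC.deg0 𝒜) := h0.toField
  have hart : IsArtinianRing (GrLC.deg0 𝒜) := inferInstance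
  have hfinR : Module.Finite R (GrLC.GMod.of 𝒜 R 𝒜).carrier := inferInstanceAs (Module.Finite R R)
  have hfl : IsFiniteLength (GrLC.deg0 𝒜) ↥(GrLC.comp 𝒜 𝒜 t) :=
    fl_comp hpos (GrLC.GMod.of 𝒜 R 𝒜) t
  have hnoeth := (isFiniteLength_iff_isNoetherian_isArtinian.mp hfl).1
  exact Module.IsNoetherian.finite _ _

include hpos h0 P in
/-- Every functional on `R_t` is represented by an element of `Y_{c-t}`. -/
theorem exists_repr (τ : Y →ₗ[GrLC.deg0 𝒜] GrLC.deg0 𝒜)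
    (hτ : ∀ y ∈ 𝒴 c, ((τ y : GrLC.deg0 𝒜) : R) • η = y) (t : ℤ)
    (ℓ : ↥(GrLC.comp 𝒜 𝒜 t) →ₗ[GrLC.deg0 𝒜] GrLC.deg0 𝒜) :
    ∃ y ∈ 𝒴 (c - t), ∀ (r : R) (hr : r ∈ 𝒜 t), τ (r • y) = ℓ ⟨r, hr⟩ := by
  classical
  let _ : Field (GrLC.deg0 𝒜) := h0.toField
  have hfinR : Module.Finite (GrLC.deg0 𝒜) ↥(GrLC.comp 𝒜 𝒜 t) := finite_comp_self hpos h0 t
  let B : ↥(GrLC.comp 𝒜 𝒜 t) →ₗ[GrLC.deg0 𝒜]
      ↥(GrLC.comp 𝒜 𝒴 (c - t)) →ₗ[GrLC.deg0 𝒜] GrLC.deg0 𝒜 :=
    LinearMap.mk₂ (GrLC.deg0 𝒜) (fun r y => τ ((r : R) • (y : Y)))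
      (fun r r' y => by
        show τ (((r + r' : ↥(GrLC.comp 𝒜 𝒜 t)) : R) • (y : Y)) = _
        rw [Submodule.coe_add, add_smul, map_add])
      (fun a' r y => by
        have e1 : ((a' • r : ↥(GrLC.comp 𝒜 𝒜 t)) : R) = (a' : R) * (r : R) := rfl
        show τ (((a' • r : ↥(GrLC.comp 𝒜 𝒜 t)) : R) • (y : Y)) =
          a' • τ ((r : R) • (y : Y))
        rw [e1, mul_smul]
        exact map_smul τ a' _)
      (fun r y y' => by
        show τ ((r : R) • ((y + y' : ↥(GrLC.comp 𝒜 𝒴 (c - t))) : Y)) = _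
        rw [Submodule.coe_add, smul_add, map_add])
      (fun a' r y => by
        have e1 : ((a' • y : ↥(GrLC.comp 𝒜 𝒴 (c - t))) : Y) =
            (a' : R) • (y : Y) := rfl
        show τ ((r : R) • ((a' • y : ↥(GrLC.comp 𝒜 𝒴 (c - t))) : Y)) =
          a' • τ ((r : R) • (y : Y))
        rw [e1, smul_comm]
        exact map_smul τ a' _)
  have hBinj : Function.Injective B := by
    rw [injective_iff_map_eq_zero]
    intro r hr
    by_contra hne
    have hne' : (r : R) ≠ 0 := fun h0' => hne (Subtype.ext h0')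
    obtain ⟨y, hy, hry⟩ := P.exists_mem_smul_ne r.2 hne'
    apply hry
    have h1 : τ ((r : R) • y) = 0 := LinearMap.congr_fun hr ⟨y, hy⟩
    have hmem : (r : R) • y ∈ 𝒴 c := by
      have := SetLike.GradedSMul.smul_mem (A := 𝒜) (B := 𝒴) r.2 hy
      rw [vadd_eq_add] at this
      have e1 : t + (c - t) = c := by ring
      rwa [e1] at this
    rw [← hτ _ hmem, h1, Subring.coe_zero, zero_smul]
  have hsurj : Function.Surjective B.flip := LinearMap.flip_surjective_iff₁.mpr hBinj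
  obtain ⟨y, hy⟩ := hsurj ℓ
  refine ⟨y.1, y.2, fun r hr => ?_⟩
  have := LinearMap.congr_fun hy ⟨r, hr⟩
  exact this

end pairing

/-! ### The *injective envelope of the residue field -/

section hull

variable [IsNoetherianRing R] (hpos : ∀ n : ℤ, n < 0 → 𝒜 n = ⊥) (h0 : IsField (GrLC.deg0 𝒜))
  (m : HomogeneousIdeal 𝒜) (hm : GrLC.IsStarLocal 𝒜 m)
  (hmsp : m.toIdeal = Ideal.span (⋃ n ∈ Set.Ioi (0 : ℤ), (𝒜 n : Set R)))
  {E' : Type u} [AddCommGroup E'] [Module R E'] (𝓔 : ℤ → AddSubgroup E')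
  [DirectSum.Decomposition 𝓔] [SetLike.GradedSMul 𝒜 𝓔]
  (e : (R ⧸ m.toIdeal) →ₗ[R] E') (he : GrLC.IsStarInjHull 𝒜 (GrLC.quotGr 𝒜 m) 𝓔 e)

include hpos h0 hm hmsp he in
/-- The envelope of the residue field carries a dual package in degree `0`. -/
theorem dpack_hull : DPack 𝒜 𝓔 0 (x0 m e) where
  mem := x0_mem hpos m hmsp 𝓔 e he
  ne := x0_ne_zero m hm 𝓔 e he
  gen := by
    intro y hy
    obtain ⟨r, hr, hrx⟩ := exists_smul_x0 hpos h0 m hmsp 𝓔 e he hy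
    exact ⟨r, hr, hrx.symm⟩
  ess := by
    intro s y hy hy0
    obtain ⟨u, r, hr, hr0, q, hq⟩ := exists_smul_mem_of_homogeneous 𝒜 𝓔 (LinearMap.range e)
      (range_e_isHomogeneous hpos m hmsp 𝓔 e he) he.essential hy hy0
    refine ⟨u, r, hr, hr0, ?_⟩
    show r • y ∈ 𝓔 0
    rw [← hq]
    exact e_mem0 hpos m hmsp 𝓔 e he q
  faith := by
    intro r hr0 t hrt
    obtain ⟨f, -, hf⟩ := exists_sep hpos h0 m hmsp 𝓔 e he 𝒜 hrt hr0
    refine ⟨f 1, ?_⟩
    have h1 : r • f 1 = x0 m e := by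
      rw [← map_smul, smul_eq_mul, mul_one]
      exact hf
    rw [h1]
    exact x0_ne_zero m hm 𝓔 e he

include hpos h0 hm hmsp he in
/-- A graded module isomorphic to a shift of the envelope carries a dual package. -/
theorem dpack_of_equiv {Y : Type u} [AddCommGroup Y] [Module R Y] (𝒴 : ℤ → AddSubgroup Y)
    (s : ℤ) (χ : Y ≃ₗ[R] E')
    (hχ1 : ∀ d y, y ∈ 𝒴 d → χ y ∈ 𝓔 (d + s))
    (hχ2 : ∀ d x, x ∈ 𝓔 (d + s) → χ.symm x ∈ 𝒴 d) :
    DPack 𝒜 𝒴 (-s) (χ.symm (x0 m e)) := by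
  have hx0 : x0 m e ∈ 𝓔 (-s + s) := by
    rw [neg_add_cancel]
    exact x0_mem hpos m hmsp 𝓔 e he
  have hx0ne : x0 m e ≠ 0 := x0_ne_zero m hm 𝓔 e he
  have PE := dpack_hull hpos h0 m hm hmsp 𝓔 e he
  refine { mem := hχ2 _ _ hx0, ne := ?_, gen := ?_, ess := ?_, faith := ?_ }
  · intro h
    apply hx0ne
    have := congrArg χ h
    rwa [χ.apply_symm_apply, map_zero] at this
  · intro y hy
    have h1 := hχ1 _ _ hy
    rw [neg_add_cancel] at h1
    obtain ⟨r, hr, hrx⟩ := PE.gen _ h1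
    refine ⟨r, hr, ?_⟩
    apply χ.injective
    rw [map_smul, χ.apply_symm_apply]
    exact hrx
  · intro t y hy hne
    have h1 := hχ1 _ _ hy
    have hne' : χ y ≠ 0 := fun h0' => hne (χ.injective (by rw [h0', map_zero]))
    obtain ⟨u, r, hr, hr0, hrc⟩ := PE.ess _ _ h1 hne'
    refine ⟨u, r, hr, ?_, ?_⟩
    · intro h0'
      apply hr0
      rw [← map_smul, h0', map_zero]
    · have h2 : r • χ y ∈ 𝓔 (-s + s) := by
        rw [neg_add_cancel]
        exact hrc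
      have h3 := hχ2 _ _ h2
      rwa [← map_smul, χ.symm_apply_apply] at h3
  · intro r hr0 t hrt
    obtain ⟨x, hx⟩ := PE.faith r hr0 t hrt
    refine ⟨χ.symm x, ?_⟩
    intro h
    apply hx
    have h2 := congrArg χ h
    rwa [map_smul, χ.apply_symm_apply, map_zero] at h2

include hpos h0 hm hmsp he in
/-- A graded module with a dual package in degree `c` is isomorphic to `E'(-c)`. -/
theorem exists_equiv_hull {Y : Type u} [AddCommGroup Y] [Module R Y] {𝒴 : ℤ → AddSubgroup Y}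
    [DirectSum.Decomposition 𝒴] [SetLike.GradedSMul 𝒜 𝒴] {c : ℤ} {η : Y}
    (P : DPack 𝒜 𝒴 c η) :
    ∃ α : Y ≃ₗ[R] E', (∀ j y, y ∈ 𝒴 j → α y ∈ 𝓔 (j + -c)) ∧
      (∀ j x, x ∈ 𝓔 (j + -c) → α.symm x ∈ 𝒴 j) := by
  classical
  have PE := dpack_hull hpos h0 m hm hmsp 𝓔 e he
  obtain ⟨f, hfdeg, hfη⟩ := exists_sep hpos h0 m hmsp 𝓔 e he 𝒴 P.mem P.ne
  obtain ⟨τY, hτY, -⟩ := exists_coord h0 P
  obtain ⟨τE, hτE, -⟩ := exists_coord h0 PE
  -- injectivity
  have hfhom : ∀ (j : ℤ) (y : Y), y ∈ 𝒴 j → f y = 0 → y = 0 := by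
    intro j y hy hfy
    by_contra hne
    obtain ⟨r, hr, hr0, hrc⟩ := P.exists_smul_ne hy hne
    obtain ⟨a, ha, hay⟩ := P.gen _ hrc
    have h1 : a • x0 m e = 0 := by
      rw [← hfη, ← map_smul, ← hay, map_smul, hfy, smul_zero]
    have h2 := eq_zero_of_smul_x0 h0 m hm 𝓔 e he ha h1
    apply hr0
    rw [hay, h2, zero_smul]
  have hfinj : Function.Injective f := by
    rw [injective_iff_map_eq_zero]
    intro y hy
    by_contra hne
    obtain ⟨j, hj⟩ := exists_component_ne_zero 𝒴 hne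
    apply hj
    refine hfhom j _ (SetLike.coe_mem _) ?_
    letI : DirectSum.Decomposition (Groth.Agent.Lib.Helper29GrShift.shiftGr 𝓔 (-c)) :=
      Groth.Agent.Lib.Helper29GrShift.shiftDecomposition 𝓔 (-c)
    have h1 := decompose_map (Groth.Agent.Lib.Helper29GrShift.shiftGr 𝓔 (-c)) 𝒴 f
      (fun g y hy => hfdeg g y hy) y j
    rw [← h1, hy, DirectSum.decompose_zero]
    rfl
  -- homogeneous preimages
  have hpre : ∀ (s : ℤ) (x : E'), x ∈ 𝓔 s → ∃ y ∈ 𝒴 (s + c), f y = x := by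
    intro s x hx
    let ℓ : ↥(GrLC.comp 𝒜 𝒜 (-s)) →ₗ[GrLC.deg0 𝒜] GrLC.deg0 𝒜 :=
      { toFun := fun r => τE ((r : R) • x)
        map_add' := fun r r' => by
          show τE (((r + r' : ↥(GrLC.comp 𝒜 𝒜 (-s))) : R) • x) = _
          rw [Submodule.coe_add, add_smul, map_add]
        map_smul' := fun a' r => by
          have e1 : ((a' • r : ↥(GrLC.comp 𝒜 𝒜 (-s))) : R) = (a' : R) * (r : R) := rfl
          show τE (((a' • r : ↥(GrLC.comp 𝒜 𝒜 (-s))) : R) • x) = a' • τE ((r : R) • x)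
          rw [e1, mul_smul]
          exact map_smul τE a' _ }
    obtain ⟨y, hy, hyℓ⟩ := exists_repr hpos h0 P τY hτY (-s) ℓ
    have e1 : c - -s = s + c := by ring
    rw [e1] at hy
    refine ⟨y, hy, ?_⟩
    by_contra hne
    have hfy : f y ∈ 𝓔 s := by
      have := hfdeg _ _ hy
      rwa [add_neg_cancel_right] at this
    have hz : f y - x ∈ 𝓔 s := sub_mem hfy hx
    have hz0 : f y - x ≠ 0 := fun h => hne (sub_eq_zero.mp h)
    obtain ⟨r, hr, hr0, -⟩ := PE.exists_smul_ne hz hz0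
    rw [zero_sub] at hr
    apply hr0
    have hry : r • y ∈ 𝒴 c := by
      have := SetLike.GradedSMul.smul_mem (A := 𝒜) (B := 𝒴) hr hy
      rw [vadd_eq_add] at this
      have e2 : -s + (s + c) = c := by ring
      rwa [e2] at this
    have hrx : r • x ∈ 𝓔 0 := by
      have := SetLike.GradedSMul.smul_mem (A := 𝒜) (B := 𝓔) hr hx
      rw [vadd_eq_add, neg_add_cancel] at this
      exact this
    have h1 : f (r • y) = ((τY (r • y) : GrLC.deg0 𝒜) : R) • x0 m e := by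
      conv_lhs => rw [← hτY _ hry]
      rw [map_smul, hfη]
    have h2 : r • x = ((τE (r • x) : GrLC.deg0 𝒜) : R) • x0 m e := (hτE _ hrx).symm
    have h3 : τY (r • y) = τE (r • x) := hyℓ r hr
    rw [smul_sub, ← map_smul, h1, h2, h3, sub_self]
  have hfsurj : Function.Surjective f := by
    intro x
    have hcomp : ∀ s, ((decompose 𝓔 x) s : E') ∈ LinearMap.range f := by
      intro s
      obtain ⟨y, -, hy⟩ := hpre s _ (SetLike.coe_mem ((decompose 𝓔 x) s))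
      exact ⟨y, hy⟩
    have hmem : x ∈ LinearMap.range f := by
      rw [← DirectSum.sum_support_decompose 𝓔 x]
      exact Submodule.sum_mem _ (fun s _ => hcomp s)
    exact LinearMap.mem_range.mp hmem
  refine ⟨LinearEquiv.ofBijective f ⟨hfinj, hfsurj⟩, fun j y hy => hfdeg j y hy, ?_⟩
  intro j x hx
  obtain ⟨y, hy, hyx⟩ := hpre _ x hx
  rw [neg_add_cancel_right] at hy
  have h1 : (LinearEquiv.ofBijective f ⟨hfinj, hfsurj⟩).symm x = y := by
    rw [LinearEquiv.symm_apply_eq]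
    exact hyx.symm
  rw [h1]
  exact hy

end hull

end Groth.Agent.Lib.R2H7.GrMatlis
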