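/-
Graded local cohomology can be computed, piece by piece, from a resolution by graded modules
that are acyclic for the torsion functor (dimension shifting along the long exact sequence of the
horseshoe resolution).
-/
import Mathlib
import Groth.Agent.Lib.R2H7GrH
import Groth.Agent.Lib.R2H7GrTors

set_option autoImplicit false
open DirectSum

noncomputable section

namespace Groth.Agent.Lib.R2H7.GrAcyc

open Groth.Agent.Lib.Helper29GrCompare Groth.Agent.Lib.Helper29GrHom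
  Groth.Agent.Lib.Helper29GrGam Groth.Agent.Lib.R2H7.GrDer Groth.Agent.Lib.R2H7.GrOps
  Groth.Agent.Lib.R2H7.GrLES Groth.Agent.Lib.R2H7.GrH Groth.Agent.Lib.R2H7.GrTors

universe u

variable {ι : Type} [AddCommGroup ι] [DecidableEq ι]
variable {R : Type u} [CommRing R] {𝒜 : ι → AddSubgroup R} [GradedRing 𝒜]
variable (a : HomogeneousIdeal 𝒜)

/-! ### Cohomology of the torsion of a complex, piece by piece -/

section defs

variable {Y0 Y1 Y2 : GrLC.GMod.{u} 𝒜}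

/-- The torsion cocycles of degree `g`. -/
def ZA (d1 : Y1.carrier →ₗ[R] Y2.carrier) (g : ι) : Submodule (GrLC.deg0 𝒜) Y1.carrier :=
  (GrLC.gam a.toIdeal Y1.carrier ⊓ LinearMap.ker d1).restrictScalars (GrLC.deg0 𝒜) ⊓
    GrLC.comp 𝒜 Y1.gr g

theorem mem_ZA {d1 : Y1.carrier →ₗ[R] Y2.carrier} {g : ι} {z : Y1.carrier} :
    z ∈ ZA a d1 g ↔ (z ∈ GrLC.gam a.toIdeal Y1.carrier ∧ d1 z = 0) ∧ z ∈ Y1.gr g := Iff.rfl

/-- The torsion coboundaries among the cocycles of degree `g`. -/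
def BA (d0 : Y0.carrier →ₗ[R] Y1.carrier) (d1 : Y1.carrier →ₗ[R] Y2.carrier) (g : ι) :
    Submodule (GrLC.deg0 𝒜) ↥(ZA a d1 g) :=
  (((GrLC.gam a.toIdeal Y0.carrier).map d0).restrictScalars (GrLC.deg0 𝒜)).comap
    (ZA a d1 g).subtype

theorem mem_BA {d0 : Y0.carrier →ₗ[R] Y1.carrier} {d1 : Y1.carrier →ₗ[R] Y2.carrier} {g : ι}
    {z : ↥(ZA a d1 g)} :
    z ∈ BA a d0 d1 g ↔ ∃ w ∈ GrLC.gam a.toIdeal Y0.carrier, d0 w = z.1 := Iff.rfl

/-- The piece of degree `g` of the cohomology of the torsion of `Y0 → Y1 → Y2`. -/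
abbrev HA (d0 : Y0.carrier →ₗ[R] Y1.carrier) (d1 : Y1.carrier →ₗ[R] Y2.carrier) (g : ι) :
    Type u := ↥(ZA a d1 g) ⧸ BA a d0 d1 g

/-- The torsion elements of degree `g`. -/
def Tg (X : GrLC.GMod.{u} 𝒜) (g : ι) : Submodule (GrLC.deg0 𝒜) X.carrier :=
  (GrLC.gam a.toIdeal X.carrier).restrictScalars (GrLC.deg0 𝒜) ⊓ GrLC.comp 𝒜 X.gr g

theorem mem_Tg {X : GrLC.GMod.{u} 𝒜} {g : ι} {x : X.carrier} :
    x ∈ Tg a X g ↔ x ∈ GrLC.gam a.toIdeal X.carrier ∧ x ∈ X.gr g := Iff.rfl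

end defs

/-! ### Degree zero -/

section zero

variable {X Y Y' : GrLC.GMod.{u} 𝒜} (ε : X.carrier →ₗ[R] Y.carrier)
  (hε : GrLC.IsGrHom X.gr Y.gr ε) (hinj : Function.Injective ε)
  (d : Y.carrier →ₗ[R] Y'.carrier) (hex : LinearMap.ker d = LinearMap.range ε)

include hex in
theorem d_ε (x : X.carrier) : d (ε x) = 0 := by
  have : ε x ∈ LinearMap.ker d := by
    rw [hex]; exact ⟨x, rfl⟩
  exact this

/-- The map induced by an augmentation on torsion elements of degree `g`. -/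
def tgMap (g : ι) : ↥(Tg a X g) →ₗ[GrLC.deg0 𝒜] ↥(ZA a d g) :=
  (ε.restrictScalars (GrLC.deg0 𝒜)).restrict (fun x hx =>
    (mem_ZA a).mpr ⟨⟨gam_map _ ε ((mem_Tg a).mp hx).1, d_ε ε d hex x⟩,
      hε g x ((mem_Tg a).mp hx).2⟩)

theorem tgMap_coe (g : ι) (x : ↥(Tg a X g)) :
    ((tgMap a ε hε d hex g x : ↥(ZA a d g)) : Y.carrier) = ε x.1 := rfl

include hinj in
theorem tgMap_bijective (g : ι) : Function.Bijective (tgMap a ε hε d hex g) := by
  constructor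
  · intro x y hxy
    apply Subtype.ext
    apply hinj
    exact congrArg Subtype.val hxy
  · intro z
    obtain ⟨⟨hzg, hzd⟩, hzgr⟩ := (mem_ZA a).mp z.2
    have hz2 : z.1 ∈ LinearMap.range ε := by
      rw [← hex]; exact hzd
    obtain ⟨x, hx⟩ := hz2
    have hxg : x ∈ GrLC.gam a.toIdeal X.carrier := by
      obtain ⟨n, hn⟩ := hzg
      exact ⟨n, fun r hr => hinj (by rw [map_smul, hx, hn r hr, map_zero])⟩
    have hxgr : x ∈ X.gr g := mem_gr_of_map_mem ε hε hinj (by rw [hx]; exact hzgr)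
    exact ⟨⟨x, (mem_Tg a).mpr ⟨hxg, hxgr⟩⟩, Subtype.ext hx⟩

/-- Torsion elements of degree `g` are the cocycles of degree `g` in the first term. -/
def tgEquiv (g : ι) : ↥(Tg a X g) ≃ₗ[GrLC.deg0 𝒜] ↥(ZA a d g) :=
  LinearEquiv.ofBijective (tgMap a ε hε d hex g) (tgMap_bijective a ε hε hinj d hex g)

theorem tgEquiv_coe (g : ι) (x : ↥(Tg a X g)) :
    ((tgEquiv a ε hε hinj d hex g x : ↥(ZA a d g)) : Y.carrier) = ε x.1 := rfl

end zero

section h0

variable {X : GrLC.GMod.{u} 𝒜} (E : GrLC.StarInjRes 𝒜 X.gr)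

theorem Bg_zero_eq_bot (g : ι) : Bg a E 0 g = ⊥ := by
  rw [eq_bot_iff]
  intro z hz
  have h1 : (z : (E.X 0).carrier) ∈ E.cobdy a 0 := (mem_Bg a E).mp hz
  have h2 : (z : (E.X 0).carrier) = 0 := (Submodule.mem_bot R).mp h1
  exact (Submodule.mem_bot _).mpr (Subtype.ext h2)

/-- `H^0_a(X)_g` is the torsion of degree `g`. -/
def h0Equiv (g : ι) : Hg a E 0 g ≃ₗ[GrLC.deg0 𝒜] ↥(Tg a X g) :=
  (Submodule.quotEquivOfEqBot (Bg a E 0 g) (Bg_zero_eq_bot a E g)).trans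
    (tgEquiv a E.ε E.ε_grHom E.ε_injective (E.d 0) E.exact_zero g).symm

theorem ε_h0Equiv_mk (g : ι) (z : ↥(Zg a E 0 g)) :
    E.ε (h0Equiv a E g (Submodule.Quotient.mk z)).1 = z.1 := by
  have h1 : h0Equiv a E g (Submodule.Quotient.mk z) =
      (tgEquiv a E.ε E.ε_grHom E.ε_injective (E.d 0) E.exact_zero g).symm z := rfl
  rw [h1, ← tgEquiv_coe a E.ε E.ε_grHom E.ε_injective (E.d 0) E.exact_zero g,
    LinearEquiv.apply_symm_apply]

theorem h0Equiv_symm_apply (g : ι) (x : ↥(Tg a X g)) :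
    ∃ z : ↥(Zg a E 0 g), (h0Equiv a E g).symm x = Submodule.Quotient.mk z ∧ z.1 = E.ε x.1 := by
  obtain ⟨z, hz⟩ := Submodule.Quotient.mk_surjective _ ((h0Equiv a E g).symm x)
  refine ⟨z, hz.symm, ?_⟩
  have h1 := ε_h0Equiv_mk a E g z
  rw [hz, LinearEquiv.apply_symm_apply] at h1
  exact h1.symm

variable {Y : GrLC.GMod.{u} 𝒜} {E} {E' : GrLC.StarInjRes 𝒜 Y.gr} {f : X.carrier →ₗ[R] Y.carrier}

/-- Naturality of the identification of `H^0`. -/
theorem h0Equiv_mapH (c : CMap E E' f) (g : ι) (y : Hg a E 0 g) :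
    (h0Equiv a E' g (mapH a c 0 g y)).1 = f (h0Equiv a E g y).1 := by
  obtain ⟨z, rfl⟩ := Submodule.Quotient.mk_surjective _ y
  rw [mapH_mk]
  apply E'.ε_injective
  rw [ε_h0Equiv_mk, mapZ_coe, ← c.aug, ε_h0Equiv_mk]

end h0

/-! ### Vanishing and the connecting homomorphism -/

section shift

variable {X' X X'' : GrLC.GMod.{u} 𝒜} {S : GSES X' X X''}
  {E' : GrLC.StarInjRes 𝒜 X'.gr} {E'' : GrLC.StarInjRes 𝒜 X''.gr} (D : HData S E' E'')

theorem hg_eq_zero_of_van {W : GrLC.GMod.{u} 𝒜} {E : GrLC.StarInjRes 𝒜 W.gr} {i : ℕ} {g : ι}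
    (h : Van a E i g) (y : Hg a E i g) : y = 0 := by
  obtain ⟨z, rfl⟩ := Submodule.Quotient.mk_surjective _ y
  refine (Submodule.Quotient.mk_eq_zero _).mpr ?_
  rw [mem_Bg]
  exact h z.1 ((mem_Zg a E).mp z.2).1 ((mem_Zg a E).mp z.2).2

theorem delta_surjective {i : ℕ} {g : ι} (h : VanX a X (i + 1) g) :
    Function.Surjective (delta a D i g) := by
  intro y
  exact (exact_delta_inl a D i g y).1 (hg_eq_zero_of_van a ((vanX_iff a (horse D)).1 h) _)

theorem delta_injective {i : ℕ} {g : ι} (h : VanX a X i g) :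
    Function.Injective (delta a D i g) := by
  rw [injective_iff_map_eq_zero]
  intro y hy
  obtain ⟨w, rfl⟩ := (exact_snd_delta a D i g y).1 hy
  rw [hg_eq_zero_of_van a ((vanX_iff a (horse D)).1 h) w, map_zero]

/-- Dimension shifting. -/
def shiftEquiv {i : ℕ} {g : ι} (h : VanX a X i g) (h' : VanX a X (i + 1) g) :
    Hg a E'' i g ≃ₗ[GrLC.deg0 𝒜] Hg a E' (i + 1) g :=
  LinearEquiv.ofBijective (delta a D i g) ⟨delta_injective a D h, delta_surjective a D h'⟩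

end shift

/-! ### Resolutions by graded modules -/

/-- A resolution of `X` by graded modules. -/
structure GRes (X : GrLC.GMod.{u} 𝒜) where
  A : ℕ → GrLC.GMod.{u} 𝒜
  d : ∀ n : ℕ, (A n).carrier →ₗ[R] (A (n + 1)).carrier
  ε : X.carrier →ₗ[R] (A 0).carrier
  d_gr : ∀ n : ℕ, GrLC.IsGrHom (A n).gr (A (n + 1)).gr (d n)
  ε_gr : GrLC.IsGrHom X.gr (A 0).gr ε
  ε_inj : Function.Injective ε
  exact_zero : LinearMap.ker (d 0) = LinearMap.range ε
  exact_succ : ∀ n : ℕ, LinearMap.ker (d (n + 1)) = LinearMap.range (d n)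

namespace GRes

variable {a} {X : GrLC.GMod.{u} 𝒜} (G : GRes X)

/-- The first syzygy `ker (A 1 → A 2) = coker (X → A 0)`. -/
def Z1 : GrLC.GMod.{u} 𝒜 :=
  subG (G.A 1) (LinearMap.ker (G.d 1))
    (ker_isHomogeneous (G.A 2).gr (G.A 1).gr (G.d 1) (G.d_gr 1))

/-- The resolution of the first syzygy. -/
def tail : GRes G.Z1 where
  A n := G.A (n + 1)
  d n := G.d (n + 1)
  ε := (LinearMap.ker (G.d 1)).subtype
  d_gr n := G.d_gr (n + 1)
  ε_gr := subtype_grHom _ _ _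
  ε_inj := Subtype.val_injective
  exact_zero := (Submodule.range_subtype _).symm
  exact_succ n := G.exact_succ (n + 1)

/-- `A 0 → Z1`. -/
def π : (G.A 0).carrier →ₗ[R] G.Z1.carrier :=
  (G.d 0).codRestrict (LinearMap.ker (G.d 1)) (fun x => by
    have h : G.d 0 x ∈ LinearMap.range (G.d 0) := ⟨x, rfl⟩
    rw [← G.exact_succ 0] at h
    exact h)

theorem π_coe (x : (G.A 0).carrier) : (G.π x).1 = G.d 0 x := rfl

/-- `0 → X → A 0 → Z1 → 0`. -/
def ses : GSES X (G.A 0) G.Z1 where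
  f := G.ε
  g := G.π
  f_gr := G.ε_gr
  g_gr := fun j x hx => G.d_gr 0 j x hx
  f_inj := G.ε_inj
  g_surj := by
    intro z
    have h : z.1 ∈ LinearMap.range (G.d 0) := by
      rw [← G.exact_succ 0]; exact z.2
    obtain ⟨x, hx⟩ := h
    exact ⟨x, Subtype.ext hx⟩
  exact := by
    rw [← G.exact_zero]
    ext x
    rw [LinearMap.mem_ker, LinearMap.mem_ker]
    constructor
    · intro h
      exact congrArg Subtype.val h
    · intro h
      exact Subtype.ext h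

end GRes

/-! ### The theorem -/

section main

variable {X : GrLC.GMod.{u} 𝒜} (G : GRes X)

/-- Degree zero. -/
def acycZero (F : GrLC.StarInjRes 𝒜 X.gr) (g : ι) :
    Hg a F 0 g ≃ₗ[GrLC.deg0 𝒜] ↥(ZA a (G.d 0) g) :=
  (h0Equiv a F g).trans (tgEquiv a G.ε G.ε_gr G.ε_inj (G.d 0) G.exact_zero g)

/-- Degree one. -/
theorem acyc_one (F : GrLC.StarInjRes 𝒜 X.gr) (g : ι) (hac : VanX a (G.A 0) 1 g) :
    Nonempty (Hg a F 1 g ≃ₗ[GrLC.deg0 𝒜] HA a (G.d 0) (G.d 1) g) := by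
  classical
  obtain ⟨F''⟩ := exists_res G.Z1
  obtain ⟨D⟩ := exists_hdata G.ses F F''
  have hsurj : Function.Surjective (delta a D 0 g) := delta_surjective a D hac
  let e : Hg a F'' 0 g ≃ₗ[GrLC.deg0 𝒜] ↥(ZA a (G.d 1) g) :=
    (h0Equiv a F'' g).trans (tgEquiv a G.tail.ε G.tail.ε_gr G.tail.ε_inj (G.d 1)
      G.tail.exact_zero g)
  have he_coe : ∀ y : Hg a F'' 0 g, (e y).1 = ((h0Equiv a F'' g y).1).1 := fun y => rfl
  have hmap : (LinearMap.ker (delta a D 0 g)).map e.toLinearMap = BA a (G.d 0) (G.d 1) g := by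
    ext z
    rw [Submodule.mem_map, mem_BA]
    constructor
    · rintro ⟨y, hy, rfl⟩
      obtain ⟨w, rfl⟩ := (exact_snd_delta a D 0 g y).1 (LinearMap.mem_ker.1 hy)
      refine ⟨(h0Equiv a (horse D) g w).1, ((mem_Tg a).mp (h0Equiv a (horse D) g w).2).1, ?_⟩
      show G.d 0 (h0Equiv a (horse D) g w).1 = (e (mapH a (horseSnd D) 0 g w)).1
      rw [he_coe, h0Equiv_mapH a (horseSnd D) g w]
      rfl
    · rintro ⟨w, hw, hwz⟩
      obtain ⟨⟨hzg, hzd⟩, hzgr⟩ := (mem_ZA a).mp z.2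
      have hwg : ((decompose (G.A 0).gr w) g : (G.A 0).carrier) ∈
          GrLC.gam a.toIdeal (G.A 0).carrier := gam_isHomogeneous 𝒜 (G.A 0).gr a g hw
      have hdw : G.d 0 ((decompose (G.A 0).gr w) g) = z.1 := by
        rw [← decompose_map (G.A 1).gr (G.A 0).gr (G.d 0) (G.d_gr 0) w g, hwz]
        exact DirectSum.decompose_of_mem_same (G.A 1).gr hzgr
      let x : ↥(Tg a (G.A 0) g) :=
        ⟨((decompose (G.A 0).gr w) g : (G.A 0).carrier), (mem_Tg a).mpr ⟨hwg, SetLike.coe_mem _⟩⟩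
      refine ⟨mapH a (horseSnd D) 0 g ((h0Equiv a (horse D) g).symm x), ?_, ?_⟩
      · exact LinearMap.mem_ker.2 ((exact_snd_delta a D 0 g _).2 ⟨_, rfl⟩)
      · apply Subtype.ext
        show (e (mapH a (horseSnd D) 0 g ((h0Equiv a (horse D) g).symm x))).1 = z.1
        rw [he_coe, h0Equiv_mapH a (horseSnd D) g, LinearEquiv.apply_symm_apply]
        exact hdw
  exact ⟨(LinearMap.quotKerEquivOfSurjective (delta a D 0 g) hsurj).symm.trans
    (Submodule.Quotient.equiv _ _ e hmap)⟩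

/-- Graded local cohomology is computed by a resolution by acyclic graded modules. -/
theorem acyc_succ (n : ℕ) : ∀ (X : GrLC.GMod.{u} 𝒜) (G : GRes X)
    (_ : ∀ (k i : ℕ) (g : ι), VanX a (G.A k) (i + 1) g) (F : GrLC.StarInjRes 𝒜 X.gr) (g : ι),
    Nonempty (Hg a F (n + 1) g ≃ₗ[GrLC.deg0 𝒜] HA a (G.d n) (G.d (n + 1)) g) := by
  induction n with
  | zero =>
    intro X G hac F g
    exact acyc_one a G F g (hac 0 0 g)
  | succ n ih =>
    intro X G hac F g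
    obtain ⟨F''⟩ := exists_res G.Z1
    obtain ⟨D⟩ := exists_hdata G.ses F F''
    obtain ⟨e⟩ := ih G.Z1 G.tail (fun k i g => hac (k + 1) i g) F'' g
    exact ⟨(shiftEquiv a D (hac 0 n g) (hac 0 (n + 1) g)).symm.trans e⟩

end main

end Groth.Agent.Lib.R2H7.GrAcyc
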