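/-
The Veronese functor on graded modules: for a Veronese presentation `φ : R' → R`
(`φ (R'_j) = R_{jq}`) and a graded `R`-module `X`, the graded `R'`-module `X^(q) = ⊕_j X_{jq}`,
realised on the additive subgroup of `X` of the elements all of whose components sit in degrees
divisible by `q`.
-/
import Mathlib
import Groth.Agent.Lib.R2H7GrOps
import Groth.Agent.Lib.R2H7GrTop
import Groth.Agent.Lib.Helper8Acyc
import Groth.Agent.Lib.Helper29LCAcyclic
import Groth.Agent.S11614
import Groth.Agent.S13217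

set_option autoImplicit false
open DirectSum

noncomputable section

namespace Groth.Agent.Lib.R2H7.GrVer

open Groth.Agent.Lib.Helper29GrHom Groth.Agent.Lib.Helper29GrEss Groth.Agent.Lib.R2H7.GrOps
  Groth.Agent.Lib.R2H7.GrDer Groth.Agent.Lib.Helper29LCAcyclic

universe u

variable {R : Type u} [CommRing R] {𝒜 : ℤ → AddSubgroup R} [GradedRing 𝒜]
variable {R' : Type u} [CommRing R'] {𝒜' : ℤ → AddSubgroup R'} [GradedRing 𝒜']

/-- A presentation of `R'` as the `q`-th Veronese subring of `R`. -/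
structure VerData (𝒜 : ℤ → AddSubgroup R) (𝒜' : ℤ → AddSubgroup R') where
  φ : R' →+* R
  q : ℕ
  hq : 0 < q
  inj : Function.Injective φ
  hdeg : ∀ j : ℤ, (𝒜' j).map (φ : R' →+ R) = 𝒜 (j * q)

namespace VerData

variable (V : VerData 𝒜 𝒜')

theorem map_mem {j : ℤ} {r' : R'} (h : r' ∈ 𝒜' j) : V.φ r' ∈ 𝒜 (j * V.q) := by
  rw [← V.hdeg j]
  exact ⟨r', h, rfl⟩

theorem exists_of_mem {j : ℤ} {x : R} (h : x ∈ 𝒜 (j * V.q)) : ∃ r' ∈ 𝒜' j, V.φ r' = x := by
  rw [← V.hdeg j] at h
  exact h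

theorem qpos : (0 : ℤ) < (V.q : ℤ) := by exact_mod_cast V.hq

theorem mul_q_injective : Function.Injective (fun j : ℤ => j * (V.q : ℤ)) := by
  intro i j h
  exact mul_right_cancel₀ (ne_of_gt V.qpos) h

section module

variable (X : GrLC.GMod.{u} 𝒜)

/-- All components of `x` sit in degrees divisible by `q`. -/
def IsVer (x : X.carrier) : Prop :=
  ∀ i : ℤ, ¬ ((V.q : ℤ) ∣ i) → ((decompose X.gr x) i : X.carrier) = 0

variable {X} in
theorem ext_decompose {x y : X.carrier}
    (h : ∀ i, ((decompose X.gr x) i : X.carrier) = ((decompose X.gr y) i : X.carrier)) : x = y :=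
  (decompose X.gr).injective (DFinsupp.ext fun i => Subtype.ext (h i))

variable {X} in
theorem isVer_of_mem {j : ℤ} {x : X.carrier} (h : x ∈ X.gr (j * V.q)) : V.IsVer X x := by
  intro i hi
  refine DirectSum.decompose_of_mem_ne X.gr h ?_
  rintro rfl
  exact hi (Dvd.intro_left j rfl)

/-- The underlying additive group of the Veronese module. -/
def verAdd : AddSubgroup X.carrier where
  carrier := {x | V.IsVer X x}
  zero_mem' := fun i _ => by rw [DirectSum.decompose_zero]; rfl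
  add_mem' := fun {x y} hx hy i hi => by
    rw [DirectSum.decompose_add, DirectSum.add_apply, AddSubgroup.coe_add, hx i hi, hy i hi,
      add_zero]
  neg_mem' := fun {x} hx i hi => by
    rw [DirectSum.decompose_neg]
    show ((-(decompose X.gr x) i : ↥(X.gr i)) : X.carrier) = 0
    rw [AddSubgroup.coe_neg, hx i hi, neg_zero]

variable {X} in
theorem isVer_smul (r' : R') {x : X.carrier} (hx : V.IsVer X x) : V.IsVer X (V.φ r' • x) := by
  intro i hi
  refine DirectSum.Decomposition.inductionOn 𝒜'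
    (motive := fun r' => ((decompose X.gr (V.φ r' • x)) i : X.carrier) = 0) ?_ ?_ ?_ r'
  · rw [map_zero, zero_smul, DirectSum.decompose_zero]; rfl
  · intro j rj
    rw [decompose_smul_of_mem 𝒜 X.gr (V.map_mem rj.2) x i,
      hx (i - j * V.q) (fun h => hi (by
        have h2 := dvd_add h (Dvd.intro_left j rfl : (V.q : ℤ) ∣ j * V.q)
        rwa [sub_add_cancel] at h2)), smul_zero]
  · intro a b ha hb
    rw [map_add, add_smul, DirectSum.decompose_add, DirectSum.add_apply, AddSubgroup.coe_add,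
      ha, hb, add_zero]

instance : SMul R' ↥(V.verAdd X) := ⟨fun r' v => ⟨V.φ r' • v.1, V.isVer_smul r' v.2⟩⟩

variable {X} in
theorem coe_smul (r' : R') (v : ↥(V.verAdd X)) :
    ((r' • v : ↥(V.verAdd X)) : X.carrier) = V.φ r' • (v : X.carrier) := rfl

instance : Module R' ↥(V.verAdd X) where
  one_smul v := Subtype.ext (by rw [coe_smul, map_one, one_smul])
  mul_smul a b v := Subtype.ext (by rw [coe_smul, coe_smul, coe_smul, map_mul, mul_smul])
  smul_zero a := Subtype.ext (by rw [coe_smul, AddSubgroup.coe_zero, smul_zero])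
  smul_add a v w := Subtype.ext (by
    rw [coe_smul, AddSubgroup.coe_add, smul_add, AddSubgroup.coe_add, coe_smul, coe_smul])
  add_smul a b v := Subtype.ext (by
    rw [coe_smul, map_add, add_smul, AddSubgroup.coe_add, coe_smul, coe_smul])
  zero_smul v := Subtype.ext (by rw [coe_smul, map_zero, zero_smul, AddSubgroup.coe_zero])

/-- The pieces of the Veronese module. -/
def verGr (j : ℤ) : AddSubgroup ↥(V.verAdd X) := (X.gr (j * V.q)).comap (V.verAdd X).subtype

variable {X} in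
theorem mem_verGr {j : ℤ} {v : ↥(V.verAdd X)} :
    v ∈ V.verGr X j ↔ (v : X.carrier) ∈ X.gr (j * V.q) := Iff.rfl

/-- `X_{jq} → (X^(q))_j`. -/
def toV (j : ℤ) : ↥(X.gr (j * V.q)) →+ ↥(V.verGr X j) where
  toFun y := ⟨⟨y.1, V.isVer_of_mem y.2⟩, y.2⟩
  map_zero' := rfl
  map_add' _ _ := rfl

/-- Restriction of a family of components to the degrees divisible by `q`. -/
def cd : (⨁ i, X.gr i) →+ ⨁ j : ℤ, X.gr (j * V.q) where
  toFun := DFinsupp.comapDomain (fun j : ℤ => j * (V.q : ℤ)) V.mul_q_injective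
  map_zero' := DFinsupp.comapDomain_zero _ _
  map_add' := DFinsupp.comapDomain_add _ _

theorem cd_apply (d : ⨁ i, X.gr i) (j : ℤ) : V.cd X d j = d (j * V.q) :=
  DFinsupp.comapDomain_apply _ V.mul_q_injective _ _

/-- The sum of a family of elements of the `X_{jq}`. -/
def Ψ : (⨁ j : ℤ, X.gr (j * V.q)) →+ X.carrier :=
  DirectSum.toAddMonoid (fun j => (X.gr (j * V.q)).subtype)

theorem Ψ_of (j : ℤ) (y : ↥(X.gr (j * V.q))) :
    V.Ψ X (DirectSum.of (fun j : ℤ => ↥(X.gr (j * V.q))) j y) = (y : X.carrier) := by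
  rw [Ψ, DirectSum.toAddMonoid_of]
  rfl

theorem decompose_Ψ_mul (y : ⨁ j : ℤ, X.gr (j * V.q)) (j : ℤ) :
    ((decompose X.gr (V.Ψ X y)) (j * V.q) : X.carrier) = (y j : X.carrier) := by
  induction y using DirectSum.induction_on with
  | zero => rw [map_zero, DirectSum.decompose_zero]; rfl
  | of j' w =>
    rw [Ψ_of]
    by_cases h : j' = j
    · subst h
      rw [DirectSum.decompose_of_mem_same X.gr w.2, DirectSum.of_eq_same]
    · rw [DirectSum.decompose_of_mem_ne X.gr w.2 (fun h' => h (V.mul_q_injective h')),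
        DirectSum.of_eq_of_ne _ _ _ (Ne.symm h)]
      rfl
  | add a b ha hb =>
    rw [map_add, DirectSum.decompose_add, DirectSum.add_apply, AddSubgroup.coe_add, ha, hb,
      DirectSum.add_apply, AddSubgroup.coe_add]

theorem isVer_Ψ (y : ⨁ j : ℤ, X.gr (j * V.q)) : V.IsVer X (V.Ψ X y) := by
  induction y using DirectSum.induction_on with
  | zero => rw [map_zero]; exact (V.verAdd X).zero_mem
  | of j' w => rw [Ψ_of]; exact V.isVer_of_mem w.2
  | add a b ha hb => rw [map_add]; exact (V.verAdd X).add_mem ha hb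

/-- The projection of `X` onto the components of degrees divisible by `q`. -/
def pr : X.carrier →+ X.carrier :=
  (V.Ψ X).comp ((V.cd X).comp (DirectSum.decomposeAddEquiv X.gr).toAddMonoidHom)

theorem pr_apply (x : X.carrier) : V.pr X x = V.Ψ X (V.cd X (decompose X.gr x)) := rfl

theorem isVer_pr (x : X.carrier) : V.IsVer X (V.pr X x) := V.isVer_Ψ X _

theorem decompose_pr_mul (x : X.carrier) (j : ℤ) :
    ((decompose X.gr (V.pr X x)) (j * V.q) : X.carrier) = ((decompose X.gr x) (j * V.q) : X.carrier) := by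
  rw [pr_apply, decompose_Ψ_mul, cd_apply]

theorem decompose_pr_of_dvd (x : X.carrier) {i : ℤ} (h : (V.q : ℤ) ∣ i) :
    ((decompose X.gr (V.pr X x)) i : X.carrier) = ((decompose X.gr x) i : X.carrier) := by
  obtain ⟨j, rfl⟩ := h
  rw [mul_comm]
  exact V.decompose_pr_mul X x j

theorem decompose_pr_of_not_dvd (x : X.carrier) {i : ℤ} (h : ¬ (V.q : ℤ) ∣ i) :
    ((decompose X.gr (V.pr X x)) i : X.carrier) = 0 := V.isVer_pr X x i h

variable {X} in
theorem pr_of_isVer {x : X.carrier} (hx : V.IsVer X x) : V.pr X x = x := by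
  apply ext_decompose
  intro i
  by_cases h : (V.q : ℤ) ∣ i
  · exact V.decompose_pr_of_dvd X x h
  · rw [V.decompose_pr_of_not_dvd X x h, hx i h]

/-- The decomposition map of the Veronese module. -/
def verDec : ↥(V.verAdd X) →+ ⨁ j, V.verGr X j :=
  (DirectSum.map (V.toV X)).comp ((V.cd X).comp
    ((DirectSum.decomposeAddEquiv X.gr).toAddMonoidHom.comp (V.verAdd X).subtype))

theorem coe_map_toV (y : ⨁ j : ℤ, X.gr (j * V.q)) :
    ((DirectSum.coeAddMonoidHom (V.verGr X) (DirectSum.map (V.toV X) y) : ↥(V.verAdd X)) :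
      X.carrier) = V.Ψ X y := by
  induction y using DirectSum.induction_on with
  | zero => rw [map_zero, map_zero, map_zero]; rfl
  | of j w =>
    rw [DirectSum.map_of, DirectSum.coeAddMonoidHom_of, Ψ_of]
    rfl
  | add a b ha hb =>
    rw [map_add, map_add, map_add, AddSubgroup.coe_add, ha, hb]

/-- The decomposition of the Veronese module. -/
@[instance_reducible]
def verDecomposition : DirectSum.Decomposition (V.verGr X) :=
  DirectSum.Decomposition.ofAddHom (V.verGr X) (V.verDec X)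
    (by
      apply AddMonoidHom.ext
      intro v
      apply Subtype.ext
      rw [AddMonoidHom.comp_apply, AddMonoidHom.id_apply]
      show ((DirectSum.coeAddMonoidHom (V.verGr X) (DirectSum.map (V.toV X)
        (V.cd X (decompose X.gr v.1))) : ↥(V.verAdd X)) : X.carrier) = v.1
      rw [coe_map_toV, ← pr_apply]
      exact V.pr_of_isVer v.2)
    (by
      apply DirectSum.addHom_ext
      rintro j ⟨⟨x, hxV⟩, hx⟩
      rw [AddMonoidHom.comp_apply, DirectSum.coeAddMonoidHom_of, AddMonoidHom.id_apply]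
      show DirectSum.map (V.toV X) (V.cd X (decompose X.gr x)) = _
      have hx' : x ∈ X.gr (j * V.q) := hx
      rw [DirectSum.decompose_of_mem X.gr hx']
      have h1 : V.cd X (DirectSum.of (fun i => ↥(X.gr i)) (j * V.q) ⟨x, hx'⟩)
          = DirectSum.of (fun j : ℤ => ↥(X.gr (j * V.q))) j ⟨x, hx'⟩ :=
        DFinsupp.comapDomain_single (β := fun i => ↥(X.gr i)) (fun j : ℤ => j * (V.q : ℤ))
          V.mul_q_injective j (⟨x, hx'⟩ : ↥(X.gr (j * V.q)))
      rw [h1, DirectSum.map_of]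
      rfl)

instance verGradedSMul : SetLike.GradedSMul 𝒜' (V.verGr X) where
  smul_mem := by
    intro i j r' v hr hv
    show V.φ r' • (v : X.carrier) ∈ X.gr ((i + j) * V.q)
    rw [add_mul]
    exact SetLike.GradedSMul.smul_mem (A := 𝒜) (B := X.gr) (V.map_mem hr) hv

/-- The Veronese module `X^(q)` as a graded `R'`-module. -/
def verG : GrLC.GMod.{u} 𝒜' :=
  { carrier := ↥(V.verAdd X)
    gr := V.verGr X
    dec := V.verDecomposition X
    gsmul := V.verGradedSMul X }

end module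

/-! ### Functoriality -/

section maps

variable {X Y Z : GrLC.GMod.{u} 𝒜}

theorem isVer_map (f : X.carrier →ₗ[R] Y.carrier) (hf : GrLC.IsGrHom X.gr Y.gr f)
    {x : X.carrier} (hx : V.IsVer X x) : V.IsVer Y (f x) := by
  intro i hi
  rw [decompose_map Y.gr X.gr f hf x i, hx i hi, map_zero]

/-- The map induced on Veronese modules by a homogeneous map. -/
def verMap (f : X.carrier →ₗ[R] Y.carrier) (hf : GrLC.IsGrHom X.gr Y.gr f) :
    (V.verG X).carrier →ₗ[R'] (V.verG Y).carrier where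
  toFun v := ⟨f v.1, V.isVer_map f hf v.2⟩
  map_add' v w := Subtype.ext (by
    show f (v.1 + w.1) = f v.1 + f w.1
    exact map_add f _ _)
  map_smul' r' v := Subtype.ext (by
    show f (V.φ r' • v.1) = V.φ r' • f v.1
    exact map_smul f _ _)

theorem verMap_coe (f : X.carrier →ₗ[R] Y.carrier) (hf : GrLC.IsGrHom X.gr Y.gr f)
    (v : (V.verG X).carrier) :
    (V.verMap f hf v).1 = f v.1 := rfl

theorem verMap_grHom (f : X.carrier →ₗ[R] Y.carrier) (hf : GrLC.IsGrHom X.gr Y.gr f) :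
    GrLC.IsGrHom (V.verG X).gr (V.verG Y).gr (V.verMap f hf) :=
  fun j v hv => hf (j * V.q) v.1 hv

theorem pr_map (f : X.carrier →ₗ[R] Y.carrier) (hf : GrLC.IsGrHom X.gr Y.gr f)
    (x : X.carrier) : V.pr Y (f x) = f (V.pr X x) := by
  apply ext_decompose
  intro i
  rw [decompose_map Y.gr X.gr f hf (V.pr X x) i]
  by_cases h : (V.q : ℤ) ∣ i
  · rw [V.decompose_pr_of_dvd Y (f x) h, V.decompose_pr_of_dvd X x h,
      decompose_map Y.gr X.gr f hf x i]
  · rw [V.decompose_pr_of_not_dvd Y (f x) h, V.decompose_pr_of_not_dvd X x h, map_zero]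

theorem pr_smul (r' : R') (x : X.carrier) : V.pr X (V.φ r' • x) = V.φ r' • V.pr X x := by
  refine DirectSum.Decomposition.inductionOn 𝒜'
    (motive := fun r' => V.pr X (V.φ r' • x) = V.φ r' • V.pr X x) ?_ ?_ ?_ r'
  · rw [map_zero, zero_smul, map_zero, zero_smul]
  · intro j rj
    apply ext_decompose
    intro i
    rw [decompose_smul_of_mem 𝒜 X.gr (V.map_mem rj.2) (V.pr X x) i]
    by_cases h : (V.q : ℤ) ∣ i
    · have h' : (V.q : ℤ) ∣ i - j * V.q := dvd_sub h (Dvd.intro_left j rfl)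
      rw [V.decompose_pr_of_dvd X _ h, V.decompose_pr_of_dvd X _ h',
        decompose_smul_of_mem 𝒜 X.gr (V.map_mem rj.2) x i]
    · have h' : ¬ (V.q : ℤ) ∣ i - j * V.q := fun h2 => h (by
        have h3 := dvd_add h2 (Dvd.intro_left j rfl : (V.q : ℤ) ∣ j * V.q)
        rwa [sub_add_cancel] at h3)
      rw [V.decompose_pr_of_not_dvd X _ h, V.decompose_pr_of_not_dvd X _ h', smul_zero]
  · intro a b ha hb
    rw [map_add, add_smul, map_add, ha, hb, add_smul]

theorem ker_verMap (f : X.carrier →ₗ[R] Y.carrier) (hf : GrLC.IsGrHom X.gr Y.gr f)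
    (g : Y.carrier →ₗ[R] Z.carrier) (hg : GrLC.IsGrHom Y.gr Z.gr g)
    (hex : LinearMap.ker g = LinearMap.range f) :
    LinearMap.ker (V.verMap g hg) = LinearMap.range (V.verMap f hf) := by
  ext v
  rw [LinearMap.mem_ker, LinearMap.mem_range]
  constructor
  · intro hv
    have h1 : g v.1 = 0 := congrArg Subtype.val hv
    have h2 : v.1 ∈ LinearMap.range f := by
      rw [← hex]; exact h1
    obtain ⟨w, hw⟩ := h2
    refine ⟨⟨V.pr X w, V.isVer_pr X w⟩, Subtype.ext ?_⟩
    show f (V.pr X w) = v.1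
    rw [← V.pr_map f hf w, hw]
    exact V.pr_of_isVer v.2
  · rintro ⟨w, rfl⟩
    apply Subtype.ext
    show g (f w.1) = 0
    have : f w.1 ∈ LinearMap.ker g := by
      rw [hex]; exact ⟨_, rfl⟩
    exact this

end maps

/-! ### Torsion -/

section torsion

variable (m : HomogeneousIdeal 𝒜) (m' : HomogeneousIdeal 𝒜')
  (hmsp : m.toIdeal = Ideal.span (⋃ n ∈ Set.Ioi (0 : ℤ), (𝒜 n : Set R)))
  (hm'sp : m'.toIdeal = Ideal.span (⋃ j ∈ Set.Ioi (0 : ℤ), (𝒜' j : Set R')))

include hmsp hm'sp in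
theorem map_le : Ideal.map V.φ m'.toIdeal ≤ m.toIdeal := by
  rw [Ideal.map_le_iff_le_comap, hm'sp, Ideal.span_le]
  intro r' hr'
  obtain ⟨j, hj, hr'j⟩ := Set.mem_iUnion₂.1 hr'
  show V.φ r' ∈ m.toIdeal
  rw [hmsp]
  apply Ideal.subset_span
  exact Set.mem_iUnion₂.2 ⟨j * V.q, (mul_pos hj V.qpos : (0 : ℤ) < j * V.q), V.map_mem hr'j⟩

include hmsp hm'sp in
theorem le_radical_map : m.toIdeal ≤ (Ideal.map V.φ m'.toIdeal).radical := by
  rw [hmsp, Ideal.span_le]
  intro y hy
  obtain ⟨n, hn, hyn⟩ := Set.mem_iUnion₂.1 hy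
  refine ⟨V.q, ?_⟩
  have h1 : y ^ V.q ∈ 𝒜 (V.q • n) := SetLike.pow_mem_graded V.q hyn
  have h2 : y ^ V.q ∈ 𝒜 (n * V.q) := by
    rwa [nsmul_eq_mul, mul_comm] at h1
  obtain ⟨r', hr', hr'y⟩ := V.exists_of_mem h2
  rw [← hr'y]
  apply Ideal.mem_map_of_mem
  rw [hm'sp]
  exact Ideal.subset_span (Set.mem_iUnion₂.2 ⟨n, hn, hr'⟩)

include hmsp hm'sp in
theorem radical_map_eq : (Ideal.map V.φ m'.toIdeal).radical = m.toIdeal.radical :=
  le_antisymm (Ideal.radical_mono (V.map_le m m' hmsp hm'sp))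
    (Ideal.radical_le_radical_iff.2 (V.le_radical_map m m' hmsp hm'sp))

include hmsp hm'sp in
theorem mem_gam_ver_iff [IsNoetherianRing R] (X : GrLC.GMod.{u} 𝒜) (v : (V.verG X).carrier) :
    v ∈ GrLC.gam m'.toIdeal (V.verG X).carrier ↔
      v.1 ∈ GrLC.gam m.toIdeal X.carrier := by
  constructor
  · rintro ⟨k, hk⟩
    have hJ : ∀ r ∈ (Ideal.map V.φ m'.toIdeal) ^ k, r • v.1 = 0 := by
      intro r hr
      rw [← Ideal.map_pow] at hr
      refine Submodule.span_induction (p := fun r _ => r • v.1 = 0) ?_ ?_ ?_ ?_ hr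
      · rintro _ ⟨r', hr', rfl⟩
        exact congrArg Subtype.val (hk r' hr')
      · exact zero_smul _ _
      · intro a b _ _ ha hb
        rw [add_smul, ha, hb, add_zero]
      · intro c a _ ha
        rw [smul_eq_mul, mul_smul, ha, smul_zero]
    obtain ⟨N, hN⟩ := Ideal.exists_pow_le_of_le_radical_of_fg
      (V.le_radical_map m m' hmsp hm'sp) (IsNoetherian.noetherian m.toIdeal)
    refine ⟨N * k, fun r hr => hJ r ?_⟩
    rw [pow_mul] at hr
    exact Ideal.pow_right_mono hN k hr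
  · rintro ⟨k, hk⟩
    refine ⟨k, fun r' hr' => Subtype.ext ?_⟩
    show V.φ r' • v.1 = 0
    apply hk
    have h1 : V.φ r' ∈ Ideal.map V.φ (m'.toIdeal ^ k) := Ideal.mem_map_of_mem _ hr'
    rw [Ideal.map_pow] at h1
    exact Ideal.pow_right_mono (V.map_le m m' hmsp hm'sp) k h1

end torsion

/-! ### The Veronese subring is Noetherian -/

section noeth

/-- `R` as a graded module over itself. -/
def RX : GrLC.GMod.{u} 𝒜 := GrLC.GMod.of 𝒜 R 𝒜

/-- The projection of `R` onto the components of degrees divisible by `q`. -/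
def prR : R →+ R := V.pr (RX (𝒜 := 𝒜))

/-- All components of `x : R` sit in degrees divisible by `q`. -/
def IsVerR (x : R) : Prop := ∀ i : ℤ, ¬ ((V.q : ℤ) ∣ i) → ((decompose 𝒜 x) i : R) = 0

theorem isVerR_prR (a : R) : V.IsVerR (V.prR a) := V.isVer_pr (RX (𝒜 := 𝒜)) a

theorem prR_of_isVerR {x : R} (hx : V.IsVerR x) : V.prR x = x :=
  V.pr_of_isVer (X := RX (𝒜 := 𝒜)) hx

theorem prR_mul (y' : R') (a : R) : V.prR (V.φ y' * a) = V.φ y' * V.prR a :=
  V.pr_smul (X := RX (𝒜 := 𝒜)) y' a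

theorem isVerR_φ (r' : R') : V.IsVerR (V.φ r') := by
  have h1 : V.IsVerR (1 : R) :=
    V.isVer_of_mem (X := RX (𝒜 := 𝒜)) (j := 0) (by
      show (1 : R) ∈ 𝒜 (0 * V.q)
      rw [zero_mul]; exact SetLike.one_mem_graded 𝒜)
  have h2 : V.IsVerR (V.φ r' * 1) := V.isVer_smul (X := RX (𝒜 := 𝒜)) r' h1
  rwa [mul_one] at h2

theorem mem_range_of_isVerR {x : R} (hx : V.IsVerR x) : x ∈ V.φ.range := by
  classical
  rw [← DirectSum.sum_support_decompose 𝒜 x]
  refine Subring.sum_mem _ (fun i _ => ?_)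
  by_cases h : (V.q : ℤ) ∣ i
  · obtain ⟨j, rfl⟩ := h
    have h1 : ((decompose 𝒜 x) ((V.q : ℤ) * j) : R) ∈ 𝒜 (j * V.q) := by
      rw [mul_comm j]; exact SetLike.coe_mem _
    obtain ⟨r', -, hr'⟩ := V.exists_of_mem h1
    exact ⟨r', hr'⟩
  · rw [hx i h]; exact zero_mem _

theorem comap_map_le (I' : Ideal R') : (Ideal.map V.φ I').comap V.φ ≤ I' := by
  have key : ∀ y ∈ Ideal.map V.φ I', ∀ a : R, ∃ z' ∈ I', V.φ z' = V.prR (a * y) := by
    intro y hy
    refine Submodule.span_induction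
      (p := fun y _ => ∀ a : R, ∃ z' ∈ I', V.φ z' = V.prR (a * y)) ?_ ?_ ?_ ?_ hy
    · rintro _ ⟨y', hy', rfl⟩ a
      obtain ⟨b', hb'⟩ := V.mem_range_of_isVerR (V.isVerR_prR a)
      refine ⟨y' * b', I'.mul_mem_right _ hy', ?_⟩
      rw [mul_comm a, V.prR_mul, map_mul, hb']
    · intro a
      exact ⟨0, I'.zero_mem, by rw [mul_zero, map_zero, map_zero]⟩
    · intro y z _ _ hy hz a
      obtain ⟨y', hy', hy''⟩ := hy a
      obtain ⟨z', hz', hz''⟩ := hz a
      exact ⟨y' + z', I'.add_mem hy' hz', by rw [mul_add, map_add, map_add, hy'', hz'']⟩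
    · intro c y _ hy a
      obtain ⟨z', hz', hz''⟩ := hy (a * c)
      exact ⟨z', hz', by rw [hz'', smul_eq_mul, mul_assoc]⟩
  intro x' hx'
  obtain ⟨z', hz', hz''⟩ := key (V.φ x') hx' 1
  rw [one_mul, V.prR_of_isVerR (V.isVerR_φ x')] at hz''
  rw [← V.inj hz'']
  exact hz'

include V in
theorem isNoetherianRing_ver [IsNoetherianRing R] : IsNoetherianRing R' := by
  have hmono : StrictMono (fun I' : Ideal R' => Ideal.map V.φ I') := by
    intro I' J' hlt
    refine lt_of_le_of_ne (Ideal.map_mono hlt.le) ?_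
    intro heq
    apply hlt.not_ge
    calc J' ≤ (Ideal.map V.φ J').comap V.φ := Ideal.le_comap_map
      _ = (Ideal.map V.φ I').comap V.φ := by
          have heq' : Ideal.map V.φ I' = Ideal.map V.φ J' := heq
          rw [heq']
      _ ≤ I' := V.comap_map_le I'
  have h1 : WellFoundedGT (Ideal R) := (isNoetherian_iff' (R := R) (M := R)).1 inferInstance
  have h2 : WellFoundedGT (Ideal R') := hmono.wellFoundedGT
  exact (isNoetherian_iff' (R := R') (M := R')).2 h2

end noeth

/-! ### Acyclicity of the Veronese of a *injective module -/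

section acyclic

open CategoryTheory

variable [IsNoetherianRing R] (m : HomogeneousIdeal 𝒜) (m' : HomogeneousIdeal 𝒜')
  (hmsp : m.toIdeal = Ideal.span (⋃ n ∈ Set.Ioi (0 : ℤ), (𝒜 n : Set R)))
  (hm'sp : m'.toIdeal = Ideal.span (⋃ j ∈ Set.Ioi (0 : ℤ), (𝒜' j : Set R')))

include hmsp hm'sp in
theorem subsingleton_H_ver (Y : GrLC.GMod.{u} 𝒜) (hY : GrLC.IsStarInj 𝒜 Y.gr) (j : ℕ) :
    Subsingleton (LocCoh.H m'.toIdeal (j + 1) (V.verG Y).carrier) := by
  have hR' : IsNoetherianRing R' := V.isNoetherianRing_ver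
  let _ : Algebra R' R := V.φ.toAlgebra
  let _ : Module R' Y.carrier := Module.compHom Y.carrier V.φ
  have htow : IsScalarTower R' R Y.carrier := IsScalarTower.of_algebraMap_smul (fun _ _ => rfl)
  have h1 : Subsingleton (LocCoh.H m.toIdeal (j + 1) Y.carrier) :=
    Groth.Agent.S13217.result R 𝒜 m Y.carrier Y.gr hY (j + 1) (Nat.le_add_left 1 j)
  have h2 : Subsingleton (LocCoh.H (Ideal.map (algebraMap R' R) m'.toIdeal) (j + 1) Y.carrier) :=
    Groth.Agent.Lib.Helper8.Acyc.subsingleton_of_radical_eq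
      (V.radical_map_eq m m' hmsp hm'sp) (j + 1) Y.carrier h1
  obtain ⟨e, -⟩ := Groth.Agent.S11614.result R' R m'.toIdeal Y.carrier (j + 1)
  have h3 : Subsingleton (LocCoh.H m'.toIdeal (j + 1) Y.carrier) := e.symm.toEquiv.subsingleton
  let incl : (V.verG Y).carrier →ₗ[R'] Y.carrier :=
    { toFun := fun v => v.1
      map_add' := fun _ _ => rfl
      map_smul' := fun _ _ => rfl }
  let proj : Y.carrier →ₗ[R'] (V.verG Y).carrier :=
    { toFun := fun x => ⟨V.pr Y x, V.isVer_pr Y x⟩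
      map_add' := fun x y => Subtype.ext (map_add (V.pr Y) x y)
      map_smul' := fun r' x => Subtype.ext (V.pr_smul r' x) }
  have hcomp : ModuleCat.ofHom incl ≫ ModuleCat.ofHom proj =
      𝟙 (ModuleCat.of R' (V.verG Y).carrier) := by
    refine ModuleCat.hom_ext (LinearMap.ext fun v => ?_)
    exact Subtype.ext (V.pr_of_isVer v.2)
  have hF : (localCohomology m'.toIdeal (j + 1)).map (ModuleCat.ofHom incl) ≫
      (localCohomology m'.toIdeal (j + 1)).map (ModuleCat.ofHom proj) = 𝟙 _ := by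
    rw [← CategoryTheory.Functor.map_comp, hcomp, CategoryTheory.Functor.map_id]
  refine ⟨fun x y => ?_⟩
  have key : ∀ x : LocCoh.H m'.toIdeal (j + 1) (V.verG Y).carrier, x = 0 := by
    intro x
    have h4 := congrArg (fun g => g.hom x) hF
    simp only [ModuleCat.hom_comp, LinearMap.comp_apply, ModuleCat.hom_id,
      LinearMap.id_apply] at h4
    rw [← h4]
    have h5 : ((localCohomology m'.toIdeal (j + 1)).map (ModuleCat.ofHom incl)).hom x = 0 :=
      Subsingleton.elim _ _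
    rw [h5, map_zero]
  rw [key x, key y]

include hmsp hm'sp in
theorem vanX_ver (Y : GrLC.GMod.{u} 𝒜) (hY : GrLC.IsStarInj 𝒜 Y.gr) (j : ℕ) (g : ℤ) :
    VanX m' (V.verG Y) (j + 1) g := by
  have hR' : IsNoetherianRing R' := V.isNoetherianRing_ver
  exact Groth.Agent.Lib.R2H7.GrTop.vanX_of_subsingleton_H m' (V.verG Y) (j + 1)
    (V.subsingleton_H_ver m m' hmsp hm'sp Y hY j) g

end acyclic

end VerData

end Groth.Agent.Lib.R2H7.GrVer
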