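/-
Local cohomology of Veronese modules: `H^p_{m'}(M^(q))_j` and `H^p_m(M)_{jq}` have the same
dimension over the degree zero rings.
-/
import Mathlib
import Groth.Agent.Lib.R2H7GrVer
import Groth.Agent.Lib.R2H7GrAcyc

set_option autoImplicit false
open DirectSum

noncomputable section

namespace Groth.Agent.Lib.R2H7.GrVerLC

open Groth.Agent.Lib.Helper29GrCompare Groth.Agent.Lib.Helper29GrHom
  Groth.Agent.Lib.Helper29GrGam Groth.Agent.Lib.R2H7.GrDer Groth.Agent.Lib.R2H7.GrOps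
  Groth.Agent.Lib.R2H7.GrLES Groth.Agent.Lib.R2H7.GrH Groth.Agent.Lib.R2H7.GrTors
  Groth.Agent.Lib.R2H7.GrVer Groth.Agent.Lib.R2H7.GrAcyc Groth.Agent.Lib.Helper29GrEss

universe u

variable {R : Type u} [CommRing R] {𝒜 : ℤ → AddSubgroup R} [GradedRing 𝒜]
variable {R' : Type u} [CommRing R'] {𝒜' : ℤ → AddSubgroup R'} [GradedRing 𝒜']
variable (V : VerData 𝒜 𝒜')

/-! ### The degree zero rings -/

/-- The isomorphism `R'_0 → R_0`. -/
def φ₀ : ↥(GrLC.deg0 𝒜') →+* ↥(GrLC.deg0 𝒜) :=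
  (V.φ.comp (GrLC.deg0 𝒜').subtype).codRestrict (GrLC.deg0 𝒜) (fun r' => by
    have h := V.map_mem (show (r' : R') ∈ 𝒜' 0 from r'.2)
    rw [zero_mul] at h
    exact h)

theorem φ₀_coe (r' : ↥(GrLC.deg0 𝒜')) : ((φ₀ V r' : ↥(GrLC.deg0 𝒜)) : R) = V.φ (r' : R') := rfl

theorem φ₀_bijective : Function.Bijective (φ₀ V) := by
  constructor
  · intro x y hxy
    apply Subtype.ext
    apply V.inj
    exact congrArg Subtype.val hxy
  · intro x
    have hx : (x : R) ∈ 𝒜 (0 * V.q) := by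
      rw [zero_mul]; exact x.2
    obtain ⟨r', hr', hr'x⟩ := V.exists_of_mem hx
    exact ⟨⟨r', hr'⟩, Subtype.ext hr'x⟩

/-! ### Comparison of the cohomology of the torsion of a complex -/

section compare

variable [IsNoetherianRing R] (m : HomogeneousIdeal 𝒜) (m' : HomogeneousIdeal 𝒜')
  (hmsp : m.toIdeal = Ideal.span (⋃ n ∈ Set.Ioi (0 : ℤ), (𝒜 n : Set R)))
  (hm'sp : m'.toIdeal = Ideal.span (⋃ j ∈ Set.Ioi (0 : ℤ), (𝒜' j : Set R')))

variable {Y0 Y1 Y2 : GrLC.GMod.{u} 𝒜}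
  (d0 : Y0.carrier →ₗ[R] Y1.carrier) (h0 : GrLC.IsGrHom Y0.gr Y1.gr d0)
  (d1 : Y1.carrier →ₗ[R] Y2.carrier) (h1 : GrLC.IsGrHom Y1.gr Y2.gr d1) (j : ℤ)

include hmsp hm'sp in
theorem zMap_mem (v : ↥(ZA m' (V.verMap d1 h1) j)) : v.1.1 ∈ ZA m d1 (j * V.q) := by
  obtain ⟨⟨hvg, hvd⟩, hvgr⟩ := (mem_ZA m').mp v.2
  exact (mem_ZA m).mpr ⟨⟨(V.mem_gam_ver_iff m m' hmsp hm'sp Y1 v.1).1 hvg,
    congrArg Subtype.val hvd⟩, hvgr⟩

/-- The comparison of cocycles, semilinear over `R'_0 → R_0`. -/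
def zMap : ↥(ZA m' (V.verMap d1 h1) j) →ₛₗ[φ₀ V] ↥(ZA m d1 (j * V.q)) where
  toFun v := ⟨v.1.1, zMap_mem V m m' hmsp hm'sp d1 h1 j v⟩
  map_add' _ _ := rfl
  map_smul' _ _ := rfl

theorem zMap_coe (v : ↥(ZA m' (V.verMap d1 h1) j)) :
    (zMap V m m' hmsp hm'sp d1 h1 j v).1 = v.1.1 := rfl

theorem zMap_injective : Function.Injective (zMap V m m' hmsp hm'sp d1 h1 j) := by
  intro v w hvw
  apply Subtype.ext
  apply Subtype.ext
  exact congrArg (fun z : ↥(ZA m d1 (j * V.q)) => (z : Y1.carrier)) hvw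

theorem zMap_surjective : Function.Surjective (zMap V m m' hmsp hm'sp d1 h1 j) := by
  intro z
  obtain ⟨⟨hzg, hzd⟩, hzgr⟩ := (mem_ZA m).mp z.2
  let v0 : (V.verG Y1).carrier := ⟨z.1, V.isVer_of_mem hzgr⟩
  have hv0 : v0 ∈ ZA m' (V.verMap d1 h1) j :=
    (mem_ZA m').mpr ⟨⟨(V.mem_gam_ver_iff m m' hmsp hm'sp Y1 v0).2 hzg, Subtype.ext hzd⟩, hzgr⟩
  exact ⟨⟨v0, hv0⟩, Subtype.ext rfl⟩

theorem zMap_mem_BA_iff (v : ↥(ZA m' (V.verMap d1 h1) j)) :
    zMap V m m' hmsp hm'sp d1 h1 j v ∈ BA m d0 d1 (j * V.q) ↔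
      v ∈ BA m' (V.verMap d0 h0) (V.verMap d1 h1) j := by
  classical
  rw [mem_BA, mem_BA]
  constructor
  · rintro ⟨w, hw, hwv⟩
    have hvgr : v.1.1 ∈ Y1.gr (j * V.q) := ((mem_ZA m').mp v.2).2
    have hwg : ((decompose Y0.gr w) (j * V.q) : Y0.carrier) ∈ GrLC.gam m.toIdeal Y0.carrier :=
      gam_isHomogeneous 𝒜 Y0.gr m (j * V.q) hw
    have hdw : d0 ((decompose Y0.gr w) (j * V.q)) = v.1.1 := by
      rw [← decompose_map Y1.gr Y0.gr d0 h0 w (j * V.q), hwv]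
      exact DirectSum.decompose_of_mem_same Y1.gr hvgr
    let w0 : (V.verG Y0).carrier :=
      ⟨((decompose Y0.gr w) (j * V.q) : Y0.carrier), V.isVer_of_mem (SetLike.coe_mem _)⟩
    exact ⟨w0, (V.mem_gam_ver_iff m m' hmsp hm'sp Y0 w0).2 hwg, Subtype.ext hdw⟩
  · rintro ⟨w, hw, hwv⟩
    exact ⟨w.1, (V.mem_gam_ver_iff m m' hmsp hm'sp Y0 w).1 hw, congrArg Subtype.val hwv⟩

/-- The comparison of cohomology. -/
def hMap : HA m' (V.verMap d0 h0) (V.verMap d1 h1) j →ₛₗ[φ₀ V] HA m d0 d1 (j * V.q) :=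
  Submodule.mapQ _ _ (zMap V m m' hmsp hm'sp d1 h1 j) (fun v hv =>
    (zMap_mem_BA_iff V m m' hmsp hm'sp d0 h0 d1 h1 j v).2 hv)

theorem hMap_bijective : Function.Bijective (hMap V m m' hmsp hm'sp d0 h0 d1 h1 j) := by
  constructor
  · rw [injective_iff_map_eq_zero]
    intro y hy
    obtain ⟨v, rfl⟩ := Submodule.Quotient.mk_surjective _ y
    have h2 : zMap V m m' hmsp hm'sp d1 h1 j v ∈ BA m d0 d1 (j * V.q) :=
      (Submodule.Quotient.mk_eq_zero _).mp hy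
    exact (Submodule.Quotient.mk_eq_zero _).mpr
      ((zMap_mem_BA_iff V m m' hmsp hm'sp d0 h0 d1 h1 j v).1 h2)
  · intro y
    obtain ⟨z, rfl⟩ := Submodule.Quotient.mk_surjective _ y
    obtain ⟨v, rfl⟩ := zMap_surjective V m m' hmsp hm'sp d1 h1 j z
    exact ⟨Submodule.Quotient.mk v, rfl⟩

include hmsp hm'sp in
theorem finrank_HA_eq :
    Module.finrank ↥(GrLC.deg0 𝒜') (HA m' (V.verMap d0 h0) (V.verMap d1 h1) j) =
      Module.finrank ↥(GrLC.deg0 𝒜) (HA m d0 d1 (j * V.q)) := by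
  have h := rank_eq_of_equiv_equiv (φ₀ V)
    (AddEquiv.ofBijective (hMap V m m' hmsp hm'sp d0 h0 d1 h1 j).toAddMonoidHom
      (hMap_bijective V m m' hmsp hm'sp d0 h0 d1 h1 j))
    (φ₀_bijective V) (fun r' x => map_smulₛₗ (hMap V m m' hmsp hm'sp d0 h0 d1 h1 j) r' x)
  exact congrArg Cardinal.toNat h

include hmsp hm'sp in
theorem finrank_ZA_eq :
    Module.finrank ↥(GrLC.deg0 𝒜') ↥(ZA m' (V.verMap d1 h1) j) =
      Module.finrank ↥(GrLC.deg0 𝒜) ↥(ZA m d1 (j * V.q)) := by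
  have h := rank_eq_of_equiv_equiv (φ₀ V)
    (AddEquiv.ofBijective (zMap V m m' hmsp hm'sp d1 h1 j).toAddMonoidHom
      ⟨zMap_injective V m m' hmsp hm'sp d1 h1 j, zMap_surjective V m m' hmsp hm'sp d1 h1 j⟩)
    (φ₀_bijective V) (fun r' x => map_smulₛₗ (zMap V m m' hmsp hm'sp d1 h1 j) r' x)
  exact congrArg Cardinal.toNat h

end compare

/-! ### The Veronese of a *injective resolution -/

section res

variable {X : GrLC.GMod.{u} 𝒜} {X' : GrLC.GMod.{u} 𝒜'}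
  (gM : X'.carrier →+ X.carrier) (hgs : ∀ (r' : R') (x' : X'.carrier), gM (r' • x') = V.φ r' • gM x')
  (hg : Function.Injective gM) (hgdeg : ∀ j : ℤ, (X'.gr j).map gM = X.gr (j * V.q))

include hgdeg in
theorem gM_mem {j : ℤ} {x' : X'.carrier} (hx' : x' ∈ X'.gr j) : gM x' ∈ X.gr (j * V.q) := by
  rw [← hgdeg j]
  exact ⟨x', hx', rfl⟩

include hgdeg in
theorem isVer_gM (x' : X'.carrier) : V.IsVer X (gM x') := by
  refine DirectSum.Decomposition.inductionOn X'.gr (motive := fun x' => V.IsVer X (gM x'))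
    ?_ ?_ ?_ x'
  · rw [map_zero]; exact (V.verAdd X).zero_mem
  · intro j xj
    exact V.isVer_of_mem (gM_mem V gM hgdeg xj.2)
  · intro x y hx hy
    rw [map_add]; exact (V.verAdd X).add_mem hx hy

include hgdeg in
theorem mem_range_gM {y : X.carrier} (hy : V.IsVer X y) : y ∈ gM.range := by
  classical
  rw [← DirectSum.sum_support_decompose X.gr y]
  refine AddSubgroup.sum_mem _ (fun i _ => ?_)
  by_cases h : (V.q : ℤ) ∣ i
  · obtain ⟨j, rfl⟩ := h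
    have h1 : ((decompose X.gr y) ((V.q : ℤ) * j) : X.carrier) ∈ X.gr (j * V.q) := by
      rw [mul_comm j]; exact SetLike.coe_mem _
    rw [← hgdeg j] at h1
    obtain ⟨x', -, hx'⟩ := h1
    exact ⟨x', hx'⟩
  · rw [hy i h]; exact zero_mem _

variable (E : GrLC.StarInjRes 𝒜 X.gr)

/-- The augmentation `M' → (E^0)^(q)`. -/
def verε : X'.carrier →ₗ[R'] (V.verG (E.X 0)).carrier where
  toFun x' := ⟨E.ε (gM x'), V.isVer_map E.ε E.ε_grHom (isVer_gM V gM hgdeg x')⟩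
  map_add' x y := Subtype.ext (by
    show E.ε (gM (x + y)) = E.ε (gM x) + E.ε (gM y)
    rw [map_add, map_add])
  map_smul' r' x := Subtype.ext (by
    show E.ε (gM (r' • x)) = V.φ r' • E.ε (gM x)
    rw [hgs, map_smul])

/-- The Veronese of a *injective resolution of `M`, a resolution of `M'`. -/
def verRes : GRes X' where
  A n := V.verG (E.X n)
  d n := V.verMap (E.d n) (E.d_grHom n)
  ε := verε V gM hgs hgdeg E
  d_gr n := V.verMap_grHom (E.d n) (E.d_grHom n)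
  ε_gr := fun j x' hx' => E.ε_grHom (j * V.q) _ (gM_mem V gM hgdeg hx')
  ε_inj := by
    intro x y hxy
    apply hg
    apply E.ε_injective
    exact congrArg Subtype.val hxy
  exact_zero := by
    ext v
    rw [LinearMap.mem_ker, LinearMap.mem_range]
    constructor
    · intro hv
      have h1 : E.d 0 v.1 = 0 := congrArg Subtype.val hv
      have h2 : v.1 ∈ LinearMap.range E.ε := by
        rw [← E.exact_zero]; exact h1
      obtain ⟨y, hy⟩ := h2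
      have hyV : V.IsVer X y := by
        intro i hi
        apply E.ε_injective
        rw [map_zero, ← decompose_map (E.X 0).gr X.gr E.ε E.ε_grHom y i, hy]
        exact v.2 i hi
      obtain ⟨x', hx'⟩ := mem_range_gM V gM hgdeg hyV
      refine ⟨x', Subtype.ext ?_⟩
      show E.ε (gM x') = v.1
      rw [hx', hy]
    · rintro ⟨x', rfl⟩
      apply Subtype.ext
      show E.d 0 (E.ε (gM x')) = 0
      exact E_d_ε 𝒜 X.gr E (gM x')
  exact_succ n := V.ker_verMap (E.d n) (E.d_grHom n) (E.d (n + 1)) (E.d_grHom (n + 1))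
    (E.exact_succ n)

end res

/-! ### The theorem -/

section main

variable [IsNoetherianRing R] (m : HomogeneousIdeal 𝒜) (m' : HomogeneousIdeal 𝒜')
  (hmsp : m.toIdeal = Ideal.span (⋃ n ∈ Set.Ioi (0 : ℤ), (𝒜 n : Set R)))
  (hm'sp : m'.toIdeal = Ideal.span (⋃ j ∈ Set.Ioi (0 : ℤ), (𝒜' j : Set R')))
  {X : GrLC.GMod.{u} 𝒜} {X' : GrLC.GMod.{u} 𝒜'}
  (gM : X'.carrier →+ X.carrier) (hgs : ∀ (r' : R') (x' : X'.carrier), gM (r' • x') = V.φ r' • gM x')
  (hg : Function.Injective gM) (hgdeg : ∀ j : ℤ, (X'.gr j).map gM = X.gr (j * V.q))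
  (E : GrLC.StarInjRes 𝒜 X.gr) (F : GrLC.StarInjRes 𝒜' X'.gr)

include hmsp hm'sp hgs hg hgdeg in
theorem finrank_hcomp_veronese (p : ℕ) (j : ℤ) :
    Module.finrank ↥(GrLC.deg0 𝒜') ↥(F.Hcomp m' p j) =
      Module.finrank ↥(GrLC.deg0 𝒜) ↥(E.Hcomp m p (j * V.q)) := by
  rw [← (hgEquiv m' F p j).finrank_eq, ← (hgEquiv m E p (j * V.q)).finrank_eq]
  have hac : ∀ (k i : ℕ) (g : ℤ),
      VanX m' ((verRes V gM hgs hg hgdeg E).A k) (i + 1) g :=
    fun k i g => V.vanX_ver m m' hmsp hm'sp (E.X k) (E.starInj k) i g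
  cases p with
  | zero =>
    rw [(acycZero m' (verRes V gM hgs hg hgdeg E) F j).finrank_eq,
      (Submodule.quotEquivOfEqBot (Bg m E 0 (j * V.q)) (Bg_zero_eq_bot m E (j * V.q))).finrank_eq]
    exact finrank_ZA_eq V m m' hmsp hm'sp (E.d 0) (E.d_grHom 0) j
  | succ n =>
    obtain ⟨e⟩ := acyc_succ m' n X' (verRes V gM hgs hg hgdeg E) hac F j
    rw [e.finrank_eq]
    exact finrank_HA_eq V m m' hmsp hm'sp (E.d n) (E.d_grHom n) (E.d (n + 1))
      (E.d_grHom (n + 1)) j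

end main

end Groth.Agent.Lib.R2H7.GrVerLC
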