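/-
Whole-module Veronese comparison for graded local cohomology:
`H^p_{m'}(M^(q)) ≅ (H^p_m(M))^(q)` as graded `R'`-modules, in the form of an injective
`φ`-semilinear map `ψ : H^p_{m'}(M') → H^p_m(M)` carrying the piece of degree `j` onto the piece
of degree `jq`.
-/
import Mathlib
import Groth.Agent.Lib.R2H7GrVerLC
import Groth.Agent.Lib.R2H7GrAcycW
import Groth.Agent.S13225

set_option autoImplicit false
open DirectSum

noncomputable section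

namespace Groth.Agent.Lib.R2H7.GrVerLCW

open Groth.Agent.Lib.Helper29GrCompare Groth.Agent.Lib.Helper29GrHom
  Groth.Agent.Lib.Helper29GrGam Groth.Agent.Lib.R2H7.GrDer Groth.Agent.Lib.R2H7.GrOps
  Groth.Agent.Lib.R2H7.GrLES Groth.Agent.Lib.R2H7.GrH Groth.Agent.Lib.R2H7.GrTors
  Groth.Agent.Lib.R2H7.GrVer Groth.Agent.Lib.R2H7.GrAcyc Groth.Agent.Lib.R2H7.GrAcycW
  Groth.Agent.Lib.R2H7.GrVerLC

universe u

variable {R : Type u} [CommRing R] {𝒜 : ℤ → AddSubgroup R} [GradedRing 𝒜]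
variable {R' : Type u} [CommRing R'] {𝒜' : ℤ → AddSubgroup R'} [GradedRing 𝒜']
variable (V : VerData 𝒜 𝒜')

/-- The Veronese projection preserves homogeneous submodules. -/
theorem pr_mem {Y : GrLC.GMod.{u} 𝒜} (P : Submodule R Y.carrier) (hP : P.IsHomogeneous Y.gr)
    {x : Y.carrier} (hx : x ∈ P) : V.pr Y x ∈ P := by
  classical
  rw [← DirectSum.sum_support_decompose Y.gr (V.pr Y x)]
  refine Submodule.sum_mem _ (fun i _ => ?_)
  by_cases h : (V.q : ℤ) ∣ i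
  · rw [V.decompose_pr_of_dvd Y x h]
    exact hP i hx
  · rw [V.decompose_pr_of_not_dvd Y x h]
    exact zero_mem _

/-! ### Comparison of the cohomology of the torsion of a complex, whole modules -/

section compare

variable [IsNoetherianRing R] (m : HomogeneousIdeal 𝒜) (m' : HomogeneousIdeal 𝒜')
  (hmsp : m.toIdeal = Ideal.span (⋃ n ∈ Set.Ioi (0 : ℤ), (𝒜 n : Set R)))
  (hm'sp : m'.toIdeal = Ideal.span (⋃ j ∈ Set.Ioi (0 : ℤ), (𝒜' j : Set R')))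

variable {Y0 Y1 Y2 : GrLC.GMod.{u} 𝒜}
  (d0 : Y0.carrier →ₗ[R] Y1.carrier) (h0 : GrLC.IsGrHom Y0.gr Y1.gr d0)
  (d1 : Y1.carrier →ₗ[R] Y2.carrier) (h1 : GrLC.IsGrHom Y1.gr Y2.gr d1)

include hmsp hm'sp in
theorem zMapW_mem (v : ↥(ZW m' (V.verMap d1 h1))) : v.1.1 ∈ ZW m d1 :=
  ⟨(V.mem_gam_ver_iff m m' hmsp hm'sp Y1 v.1).1 v.2.1, congrArg Subtype.val v.2.2⟩

/-- The comparison of cocycles, semilinear over `φ`. -/
def zMapW : ↥(ZW m' (V.verMap d1 h1)) →ₛₗ[V.φ] ↥(ZW m d1) where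
  toFun v := ⟨v.1.1, zMapW_mem V m m' hmsp hm'sp d1 h1 v⟩
  map_add' _ _ := rfl
  map_smul' _ _ := rfl

theorem zMapW_coe (v : ↥(ZW m' (V.verMap d1 h1))) :
    (zMapW V m m' hmsp hm'sp d1 h1 v).1 = v.1.1 := rfl

theorem zMapW_mem_BW_iff (v : ↥(ZW m' (V.verMap d1 h1))) :
    zMapW V m m' hmsp hm'sp d1 h1 v ∈ BW m d0 d1 ↔
      v ∈ BW m' (V.verMap d0 h0) (V.verMap d1 h1) := by
  rw [mem_BW, mem_BW]
  constructor
  · rintro ⟨w, hw, hwv⟩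
    have hwv' : d0 w = v.1.1 := hwv
    have hprg : V.pr Y0 w ∈ GrLC.gam m.toIdeal Y0.carrier :=
      pr_mem V _ (gam_isHomogeneous 𝒜 Y0.gr m) hw
    let w0 : (V.verG Y0).carrier := ⟨V.pr Y0 w, V.isVer_pr Y0 w⟩
    refine ⟨w0, (V.mem_gam_ver_iff m m' hmsp hm'sp Y0 w0).2 hprg, Subtype.ext ?_⟩
    show d0 (V.pr Y0 w) = v.1.1
    rw [← V.pr_map d0 h0 w, hwv', V.pr_of_isVer v.1.2]
  · rintro ⟨w, hw, hwv⟩
    exact ⟨w.1, (V.mem_gam_ver_iff m m' hmsp hm'sp Y0 w).1 hw, congrArg Subtype.val hwv⟩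

/-- The comparison of cohomology, semilinear over `φ`. -/
def hMapW : HW m' (V.verMap d0 h0) (V.verMap d1 h1) →ₛₗ[V.φ] HW m d0 d1 :=
  Submodule.mapQ _ _ (zMapW V m m' hmsp hm'sp d1 h1) (fun v hv =>
    (zMapW_mem_BW_iff V m m' hmsp hm'sp d0 h0 d1 h1 v).2 hv)

theorem hMapW_mk (v : ↥(ZW m' (V.verMap d1 h1))) :
    hMapW V m m' hmsp hm'sp d0 h0 d1 h1 (Submodule.Quotient.mk v) =
      Submodule.Quotient.mk (zMapW V m m' hmsp hm'sp d1 h1 v) := rfl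

theorem hMapW_injective : Function.Injective (hMapW V m m' hmsp hm'sp d0 h0 d1 h1) := by
  rw [injective_iff_map_eq_zero]
  intro y hy
  obtain ⟨v, rfl⟩ := Submodule.Quotient.mk_surjective _ y
  rw [hMapW_mk] at hy
  have h2 := (Submodule.Quotient.mk_eq_zero _).mp hy
  exact (Submodule.Quotient.mk_eq_zero _).mpr
    ((zMapW_mem_BW_iff V m m' hmsp hm'sp d0 h0 d1 h1 v).1 h2)

theorem hMapW_mem_gr {j : ℤ} {x : HW m' (V.verMap d0 h0) (V.verMap d1 h1)}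
    (hx : x ∈ HWgr m' (V.verMap d0 h0) (V.verMap d1 h1) j) :
    hMapW V m m' hmsp hm'sp d0 h0 d1 h1 x ∈ HWgr m d0 d1 (j * V.q) := by
  obtain ⟨v, hv, rfl⟩ := hx
  exact ⟨zMapW V m m' hmsp hm'sp d1 h1 v, hv, rfl⟩

theorem exists_of_mem_gr {j : ℤ} {y : HW m d0 d1} (hy : y ∈ HWgr m d0 d1 (j * V.q)) :
    ∃ x ∈ HWgr m' (V.verMap d0 h0) (V.verMap d1 h1) j,
      hMapW V m m' hmsp hm'sp d0 h0 d1 h1 x = y := by
  obtain ⟨z, hz, rfl⟩ := hy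
  let v0 : (V.verG Y1).carrier := ⟨z.1, V.isVer_of_mem hz⟩
  have hv0 : v0 ∈ ZW m' (V.verMap d1 h1) :=
    ⟨(V.mem_gam_ver_iff m m' hmsp hm'sp Y1 v0).2 z.2.1, Subtype.ext z.2.2⟩
  refine ⟨Submodule.Quotient.mk ⟨v0, hv0⟩, ⟨⟨v0, hv0⟩, hz, rfl⟩, ?_⟩
  rw [hMapW_mk]
  congr 1

end compare

/-! ### The theorem -/

section main

variable [IsNoetherianRing R] (m : HomogeneousIdeal 𝒜) (m' : HomogeneousIdeal 𝒜')
  (hmsp : m.toIdeal = Ideal.span (⋃ n ∈ Set.Ioi (0 : ℤ), (𝒜 n : Set R)))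
  (hm'sp : m'.toIdeal = Ideal.span (⋃ j ∈ Set.Ioi (0 : ℤ), (𝒜' j : Set R')))
  {X : GrLC.GMod.{u} 𝒜} {X' : GrLC.GMod.{u} 𝒜'}
  (E : GrLC.StarInjRes 𝒜 X.gr) (F : GrLC.StarInjRes 𝒜' X'.gr)

include hmsp hm'sp in
theorem exists_psi_of {p : ℕ} {Y0 Y2 : GrLC.GMod.{u} 𝒜}
    (d0 : Y0.carrier →ₗ[R] (E.X p).carrier) (h0 : GrLC.IsGrHom Y0.gr (E.X p).gr d0)
    (d1 : (E.X p).carrier →ₗ[R] Y2.carrier) (h1 : GrLC.IsGrHom (E.X p).gr Y2.gr d1)
    (e : HW m' (V.verMap d0 h0) (V.verMap d1 h1) ≃ₗ[R'] F.H m' p)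
    (he : ∀ (j : ℤ) (ξ : HW m' (V.verMap d0 h0) (V.verMap d1 h1)),
      ξ ∈ HWgr m' (V.verMap d0 h0) (V.verMap d1 h1) j ↔ e ξ ∈ F.Hgr m' p j)
    (e2 : HW m d0 d1 ≃ₗ[R] E.H m p)
    (he2 : ∀ (g : ℤ) (η : HW m d0 d1), η ∈ HWgr m d0 d1 g ↔ e2 η ∈ E.Hgr m p g) :
    ∃ ψ : F.H m' p →ₛₗ[V.φ] E.H m p, Function.Injective ψ ∧
      (∀ (j : ℤ) (ξ : F.H m' p), ξ ∈ F.Hgr m' p j → ψ ξ ∈ E.Hgr m p (j * V.q)) ∧
      (∀ (j : ℤ) (η : E.H m p), η ∈ E.Hgr m p (j * V.q) → ∃ ξ ∈ F.Hgr m' p j, ψ ξ = η) := by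
  refine ⟨e2.toLinearMap.comp ((hMapW V m m' hmsp hm'sp d0 h0 d1 h1).comp e.symm.toLinearMap),
    ?_, ?_, ?_⟩
  · intro x y hxy
    apply e.symm.injective
    apply hMapW_injective V m m' hmsp hm'sp d0 h0 d1 h1
    apply e2.injective
    exact hxy
  · intro j ξ hξ
    have h3 : e.symm ξ ∈ HWgr m' (V.verMap d0 h0) (V.verMap d1 h1) j := by
      rw [he j, LinearEquiv.apply_symm_apply]
      exact hξ
    exact (he2 _ _).1 (hMapW_mem_gr V m m' hmsp hm'sp d0 h0 d1 h1 h3)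
  · intro j η hη
    have h3 : e2.symm η ∈ HWgr m d0 d1 (j * V.q) := by
      rw [he2, LinearEquiv.apply_symm_apply]
      exact hη
    obtain ⟨x, hx, hxη⟩ := exists_of_mem_gr V m m' hmsp hm'sp d0 h0 d1 h1 h3
    refine ⟨e x, (he j x).1 hx, ?_⟩
    show e2 (hMapW V m m' hmsp hm'sp d0 h0 d1 h1 (e.symm (e x))) = η
    rw [LinearEquiv.symm_apply_apply, hxη, LinearEquiv.apply_symm_apply]

variable (gM : X'.carrier →+ X.carrier)
  (hgs : ∀ (r' : R') (x' : X'.carrier), gM (r' • x') = V.φ r' • gM x')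
  (hg : Function.Injective gM) (hgdeg : ∀ j : ℤ, (X'.gr j).map gM = X.gr (j * V.q))

include hmsp hm'sp hgs hg hgdeg in
/-- The Veronese isomorphism `H^p_{m'}(M^(q)) ≅ (H^p_m(M))^(q)` of graded `R'`-modules. -/
theorem exists_veronese_H (p : ℕ) :
    ∃ ψ : F.H m' p →ₛₗ[V.φ] E.H m p, Function.Injective ψ ∧
      (∀ (j : ℤ) (ξ : F.H m' p), ξ ∈ F.Hgr m' p j → ψ ξ ∈ E.Hgr m p (j * V.q)) ∧
      (∀ (j : ℤ) (η : E.H m p), η ∈ E.Hgr m p (j * V.q) → ∃ ξ ∈ F.Hgr m' p j, ψ ξ = η) := by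
  have hR' : IsNoetherianRing R' := V.isNoetherianRing_ver
  have hind : iSupIndep (F.Hgr m' p) :=
    (Groth.Agent.S13225.result R' 𝒜' m' X'.carrier X'.gr F p).addSubgroup_iSupIndep
  have hac : ∀ (k i : ℕ) (g : ℤ),
      VanX m' ((verRes V gM hgs hg hgdeg E).A k) (i + 1) g :=
    fun k i g => V.vanX_ver m m' hmsp hm'sp (E.X k) (E.starInj k) i g
  cases p with
  | zero =>
    let d0 : (E.X 0).carrier →ₗ[R] (E.X 0).carrier := 0
    have h0 : GrLC.IsGrHom (E.X 0).gr (E.X 0).gr d0 := fun g x _ => zero_mem _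
    obtain ⟨e, he⟩ := exists_acycW_zero m' (verRes V gM hgs hg hgdeg E) F (V.verMap d0 h0)
      (fun y => rfl) hind
    have hB : BW m d0 (E.d 0) = (E.cobdy m 0).comap (E.cocyc m 0).subtype := by
      ext z
      constructor
      · rintro ⟨w, -, hw⟩
        have hw' : d0 w = z.1 := hw
        show z.1 ∈ E.cobdy m 0
        exact (Submodule.mem_bot R).mpr hw'.symm
      · intro hz
        have hz0 : z.1 = 0 := (Submodule.mem_bot R).mp hz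
        exact ⟨0, zero_mem _, (map_zero d0).trans hz0.symm⟩
    let e2 : HW m d0 (E.d 0) ≃ₗ[R] E.H m 0 := Submodule.quotEquivOfEq _ _ hB
    have he2mk : ∀ z : ↥(ZW m (E.d 0)), e2 (Submodule.Quotient.mk z) = E.toH m 0 z :=
      fun z => rfl
    refine exists_psi_of V m m' hmsp hm'sp E F d0 h0 (E.d 0) (E.d_grHom 0) e he e2 ?_
    intro g η
    constructor
    · rintro ⟨z, hz, rfl⟩
      exact ⟨z, hz, (he2mk z).symm⟩
    · rintro ⟨z, hz, hzη⟩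
      refine ⟨z, hz, ?_⟩
      apply e2.injective
      rw [he2mk]
      exact hzη
  | succ n =>
    obtain ⟨e, he⟩ := exists_acycW_succ m' (verRes V gM hgs hg hgdeg E) F n hac hind
    exact exists_psi_of V m m' hmsp hm'sp E F (E.d n) (E.d_grHom n) (E.d (n + 1))
      (E.d_grHom (n + 1)) e he (LinearEquiv.refl R (E.H m (n + 1))) (fun g η => Iff.rfl)

end main

end Groth.Agent.Lib.R2H7.GrVerLCW
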