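/-
Veronese subrings of Gorenstein graded rings.  If `R = ⊕_{n ≥ 0} R_n` is a Noetherian Gorenstein graded
ring over the field `R_0` and `q` divides the a-invariant `a(R)`, then the Veronese subring `R^(q)` is
Gorenstein.  The proof goes through graded Matlis duality (`R2H7GrMatlis`): `H^n_m(R)` is the only
non-vanishing local cohomology module and it carries a dual package in degree `a(R)`; the Veronese
isomorphism `H^p_{m'}(R^(q)) = (H^p_m(R))^(q)` transports the package to `R^(q)` when `q ∣ a(R)`, so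
`H^n_{m'}(R^(q))` is a shift of the *injective envelope of the residue field, and the
characterisation of Gorenstein *local rings by local cohomology (`R2H7GrGorChar`) applies.
Also: the irrelevant ideal of a graded ring over a field as a *maximal ideal, and the existence of the
*injective envelope of `R/m`.
-/
import Mathlib
import Groth.Agent.Lib.R2H7GrMatlis
import Groth.Agent.Lib.R2H7GrGorChar
import Groth.Agent.Lib.R2H7GrVerLCW
import Groth.Agent.Lib.R2H7GrBdry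
import Groth.Agent.Lib.R2H7GrHt

set_option autoImplicit false
open DirectSum

noncomputable section

namespace Groth.Agent.Lib.R2H7.GrVerGor

open Groth.Agent.Lib.Helper29GrHom Groth.Agent.Lib.Helper29GrEss
  Groth.Agent.Lib.R2H7.GrOps Groth.Agent.Lib.R2H7.GrFree
  Groth.Agent.Lib.R2H7.GrCanDict Groth.Agent.Lib.R2H7.GrCanFin Groth.Agent.Lib.R2H7.GrMatlis
  Groth.Agent.Lib.R2H7.GrVer Groth.Agent.Lib.R2H7.GrVerLC Groth.Agent.Lib.R2H7.GrVerLCW
  Groth.Agent.Lib.R2H7.GrMinRes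

universe u

variable {R : Type u} [CommRing R] {𝒜 : ℤ → AddSubgroup R} [GradedRing 𝒜]

/-! ### The irrelevant ideal -/

section irrelevant

variable (𝒜) in
/-- The set of homogeneous elements of positive degree. -/
def posSet : Set R := ⋃ n ∈ Set.Ioi (0 : ℤ), (𝒜 n : Set R)

theorem posSet_homogeneous : ∀ x ∈ posSet 𝒜, SetLike.IsHomogeneousElem 𝒜 x := by
  intro x hx
  obtain ⟨n, -, hxn⟩ := Set.mem_iUnion₂.mp hx
  exact ⟨n, hxn⟩

variable (𝒜) in
/-- The ideal generated by the elements of positive degree. -/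
def irr : HomogeneousIdeal 𝒜 :=
  ⟨Ideal.span (posSet 𝒜), Ideal.homogeneous_span 𝒜 _ posSet_homogeneous⟩

theorem irr_toIdeal : (irr 𝒜).toIdeal = Ideal.span (⋃ n ∈ Set.Ioi (0 : ℤ), (𝒜 n : Set R)) := rfl

variable (hpos : ∀ n : ℤ, n < 0 → 𝒜 n = ⊥) (h0 : IsField (GrLC.deg0 𝒜))

include hpos in
theorem decompose_eq_zero_of_mem_irr {x : R} (hx : x ∈ Ideal.span (posSet 𝒜)) :
    ∀ d : ℤ, d ≤ 0 → ((decompose 𝒜 x) d : R) = 0 := by
  classical
  refine Submodule.span_induction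
    (p := fun x _ => ∀ d : ℤ, d ≤ 0 → ((decompose 𝒜 x) d : R) = 0) ?_ ?_ ?_ ?_ hx
  · intro x hx d hd
    obtain ⟨n, hn, hxn⟩ := Set.mem_iUnion₂.mp hx
    have hn' : 0 < n := hn
    exact DirectSum.decompose_of_mem_ne 𝒜 hxn (by omega)
  · intro d _
    simp
  · intro x y _ _ hx hy d hd
    rw [DirectSum.decompose_add, DirectSum.add_apply, AddSubgroup.coe_add, hx d hd, hy d hd,
      add_zero]
  · intro r x _ hx d hd
    induction r using DirectSum.Decomposition.inductionOn 𝒜 with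
    | zero => simp
    | homogeneous s =>
      rename_i g
      by_cases hg : g < 0
      · rw [Groth.Agent.Lib.Helper29GrStd.eq_zero_of_mem_of_eq_bot (hpos g hg) s.2, zero_smul]
        simp
      · rw [decompose_smul_of_mem 𝒜 𝒜 s.2 x d, hx (d - g) (by omega), smul_zero]
    | add r r' hr hr' =>
      rw [add_smul, DirectSum.decompose_add, DirectSum.add_apply, AddSubgroup.coe_add, hr, hr',
        add_zero]

include hpos h0 in
theorem irr_ne_top : (irr 𝒜).toIdeal ≠ ⊤ := by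
  intro h
  have h1 : (1 : R) ∈ Ideal.span (posSet 𝒜) := by
    show (1 : R) ∈ (irr 𝒜).toIdeal
    rw [h]
    exact Submodule.mem_top
  have h2 := decompose_eq_zero_of_mem_irr hpos h1 0 le_rfl
  rw [DirectSum.decompose_of_mem_same 𝒜 SetLike.GradedOne.one_mem] at h2
  haveI := h0.nontrivial
  have h3 : (1 : GrLC.deg0 𝒜) = 0 := Subtype.ext h2
  exact one_ne_zero h3

include hpos h0 in
theorem le_irr (J : HomogeneousIdeal 𝒜) (hJ : J.toIdeal ≠ ⊤) :
    J.toIdeal ≤ (irr 𝒜).toIdeal := by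
  classical
  intro x hx
  rw [← DirectSum.sum_support_decompose 𝒜 x]
  refine Ideal.sum_mem _ (fun d _ => ?_)
  have hxd : ((decompose 𝒜 x) d : R) ∈ J.toIdeal := J.isHomogeneous d hx
  have hmem : ((decompose 𝒜 x) d : R) ∈ 𝒜 d := SetLike.coe_mem _
  rcases lt_trichotomy d 0 with hd | hd | hd
  · rw [Groth.Agent.Lib.Helper29GrStd.eq_zero_of_mem_of_eq_bot (hpos d hd) hmem]
    exact zero_mem _
  · subst hd
    by_contra hne
    have hne0 : ((decompose 𝒜 x) 0 : R) ≠ 0 := by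
      intro h
      apply hne
      rw [h]
      exact zero_mem _
    obtain ⟨u, -, hu⟩ := exists_inv0 h0 hmem hne0
    apply hJ
    rw [Ideal.eq_top_iff_one, ← hu]
    exact Ideal.mul_mem_left _ u hxd
  · exact Ideal.subset_span (Set.mem_biUnion (Set.mem_Ioi.mpr hd) hmem)

include hpos h0 in
/-- A graded ring over a field is *local, with *maximal ideal the irrelevant ideal. -/
theorem exists_irrelevant : ∃ m : HomogeneousIdeal 𝒜, GrLC.IsStarLocal 𝒜 m ∧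
    m.toIdeal = Ideal.span (⋃ n ∈ Set.Ioi (0 : ℤ), (𝒜 n : Set R)) := by
  have hne : irr 𝒜 ≠ ⊤ := fun h =>
    irr_ne_top hpos h0 (by rw [h, HomogeneousIdeal.toIdeal_top])
  have hle : ∀ J : HomogeneousIdeal 𝒜, J ≠ ⊤ → J ≤ irr 𝒜 := by
    intro J hJ
    have hJ' : J.toIdeal ≠ ⊤ := fun h =>
      hJ (HomogeneousIdeal.toIdeal_injective (by rw [h, HomogeneousIdeal.toIdeal_top]))
    exact le_irr hpos h0 J hJ'
  have hco : IsCoatom (irr 𝒜) := by
    refine ⟨hne, fun b hb => ?_⟩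
    by_contra hbt
    exact hb.not_ge (hle b hbt)
  refine ⟨irr 𝒜, ⟨hco, fun K hK => ?_⟩, irr_toIdeal⟩
  rcases eq_or_lt_of_le (hle K hK.1) with h | h
  · exact h
  · exact absurd (hK.2 _ h) hne

end irrelevant

/-! ### The *injective envelope of the residue field -/

theorem exists_hull_residue (m : HomogeneousIdeal 𝒜) :
    ∃ (E : GrLC.GMod.{u} 𝒜) (e : (R ⧸ m.toIdeal) →ₗ[R] E.carrier),
      GrLC.IsStarInjHull 𝒜 (GrLC.quotGr 𝒜 m) E.gr e := by
  obtain ⟨E, f, hf⟩ := GrMinRes.exists_hull 𝒜 (quotG (selfG 𝒜) m.toIdeal m.isHomogeneous)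
  refine ⟨E, f, ?_⟩
  exact
    { injective := hf.injective
      grHom := by
        rintro g x ⟨a, ha, rfl⟩
        exact hf.grHom g _ ⟨a, ha, rfl⟩
      essential := hf.essential
      starInj := hf.starInj }

/-! ### The top degree of a module with a dual package -/

theorem dpack_top (hpos : ∀ n : ℤ, n < 0 → 𝒜 n = ⊥) {Y : Type u} [AddCommGroup Y] [Module R Y]
    {𝒴 : ℤ → AddSubgroup Y} [DirectSum.Decomposition 𝒴] [SetLike.GradedSMul 𝒜 𝒴] {c : ℤ} {η : Y}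
    (P : DPack 𝒜 𝒴 c η) (a : ℤ)
    (ha : GrLC.endDeg 𝒴 = ((a : WithTop ℤ) : WithBot (WithTop ℤ))) : c = a := by
  apply le_antisymm
  · have h1 : 𝒴 c ≠ ⊥ := by
      intro h
      have h2 := P.mem
      rw [h] at h2
      exact P.ne (AddSubgroup.mem_bot.mp h2)
    have h2 : ((c : WithTop ℤ) : WithBot (WithTop ℤ)) ≤ GrLC.endDeg 𝒴 := by
      unfold GrLC.endDeg
      exact le_iSup₂ (f := fun (n : ℤ) (_ : 𝒴 n ≠ ⊥) => ((n : WithTop ℤ) : WithBot (WithTop ℤ)))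
        c h1
    rw [ha, WithBot.coe_le_coe, WithTop.coe_le_coe] at h2
    exact h2
  · have h1 : GrLC.endDeg 𝒴 ≤ ((c : WithTop ℤ) : WithBot (WithTop ℤ)) := by
      rw [Groth.Agent.Lib.R2H7.GrBdry.endDeg_le_iff']
      intro j hj
      rw [eq_bot_iff]
      intro y hy
      rw [AddSubgroup.mem_bot]
      by_contra hne
      obtain ⟨r, hr, hr0, -⟩ := P.exists_smul_ne hy hne
      rw [hpos (c - j) (by omega)] at hr
      apply hr0
      rw [AddSubgroup.mem_bot.mp hr, zero_smul]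
    rw [ha, WithBot.coe_le_coe, WithTop.coe_le_coe] at h1
    exact h1

/-! ### Veronese subrings -/

section ver

variable {R' : Type u} [CommRing R'] {𝒜' : ℤ → AddSubgroup R'} [GradedRing 𝒜']
  (V : VerData 𝒜 𝒜')

include V in
theorem hpos_ver (hpos : ∀ n : ℤ, n < 0 → 𝒜 n = ⊥) : ∀ j : ℤ, j < 0 → 𝒜' j = ⊥ := by
  intro j hj
  rw [eq_bot_iff]
  intro r' hr'
  have h1 : V.φ r' ∈ 𝒜 (j * V.q) := V.map_mem hr'
  have hlt : j * (V.q : ℤ) < 0 := mul_neg_of_neg_of_pos hj V.qpos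
  rw [hpos _ hlt] at h1
  have h2 : V.φ r' = 0 := AddSubgroup.mem_bot.mp h1
  exact AddSubgroup.mem_bot.mpr (V.inj (h2.trans (map_zero V.φ).symm))

include V in
theorem isField_deg0_ver (h0 : IsField (GrLC.deg0 𝒜)) : IsField (GrLC.deg0 𝒜') :=
  MulEquiv.isField h0 (RingEquiv.ofBijective (φ₀ V) (φ₀_bijective V)).toMulEquiv

/-- The Veronese module of a module with a dual package in degree `a' q` carries a dual package in
degree `a'`. -/
theorem dpack_ver {Y : Type u} [AddCommGroup Y] [Module R Y] {𝒴 : ℤ → AddSubgroup Y}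
    [DirectSum.Decomposition 𝒴] [SetLike.GradedSMul 𝒜 𝒴]
    {Y' : Type u} [AddCommGroup Y'] [Module R' Y'] {𝒴' : ℤ → AddSubgroup Y'}
    [SetLike.GradedSMul 𝒜' 𝒴']
    (ψ : Y' →ₛₗ[V.φ] Y) (hinj : Function.Injective ψ)
    (hψ1 : ∀ (j : ℤ) (ξ : Y'), ξ ∈ 𝒴' j → ψ ξ ∈ 𝒴 (j * V.q))
    (hψ2 : ∀ (j : ℤ) (η : Y), η ∈ 𝒴 (j * V.q) → ∃ ξ ∈ 𝒴' j, ψ ξ = η)
    {a' : ℤ} {η : Y} (P : DPack 𝒜 𝒴 (a' * V.q) η) :
    ∃ η' : Y', DPack 𝒜' 𝒴' a' η' := by
  obtain ⟨η', hη', hψη⟩ := hψ2 a' η P.mem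
  have hne_of : ∀ y' : Y', ψ y' ≠ 0 → y' ≠ 0 := by
    intro y' h h'
    apply h
    rw [h', map_zero]
  have hne_to : ∀ y' : Y', y' ≠ 0 → ψ y' ≠ 0 := by
    intro y' h h'
    apply h
    apply hinj
    rw [h', map_zero]
  refine ⟨η', ?_⟩
  refine { mem := hη', ne := ?_, gen := ?_, ess := ?_, faith := ?_ }
  · apply hne_of
    rw [hψη]
    exact P.ne
  · intro y' hy'
    obtain ⟨r, hr, hry⟩ := P.gen _ (hψ1 a' y' hy')
    have hr' : r ∈ 𝒜 (0 * V.q) := by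
      rw [zero_mul]
      exact hr
    obtain ⟨r', hr'0, hφr⟩ := V.exists_of_mem hr'
    refine ⟨r', hr'0, ?_⟩
    apply hinj
    rw [map_smulₛₗ, hφr, hψη]
    exact hry
  · intro s y' hy' hne
    obtain ⟨r, hr, hr0, hrc⟩ := P.exists_smul_ne (hψ1 s y' hy') (hne_to y' hne)
    have hr' : r ∈ 𝒜 ((a' - s) * V.q) := by
      have e1 : (a' - s) * (V.q : ℤ) = a' * V.q - s * V.q := by ring
      rw [e1]
      exact hr
    obtain ⟨r', hr'm, hφr⟩ := V.exists_of_mem hr'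
    have hψr : ψ (r' • y') = r • ψ y' := by rw [map_smulₛₗ, hφr]
    refine ⟨a' - s, r', hr'm, hne_of _ (by rw [hψr]; exact hr0), ?_⟩
    have h1 := SetLike.GradedSMul.smul_mem (A := 𝒜') (B := 𝒴') hr'm hy'
    rw [vadd_eq_add, sub_add_cancel] at h1
    exact h1
  · intro r' hr'0 t hr't
    have hφ0 : V.φ r' ≠ 0 := fun h => hr'0 (V.inj (h.trans (map_zero V.φ).symm))
    obtain ⟨y, hy, hry⟩ := P.exists_mem_smul_ne (V.map_mem hr't) hφ0
    have hy' : y ∈ 𝒴 ((a' - t) * V.q) := by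
      have e1 : (a' - t) * (V.q : ℤ) = a' * V.q - t * V.q := by ring
      rw [e1]
      exact hy
    obtain ⟨y', -, hψy⟩ := hψ2 _ y hy'
    refine ⟨y', hne_of _ ?_⟩
    rw [map_smulₛₗ, hψy]
    exact hry

/-- The Veronese subring `R^(q)` of a Gorenstein graded ring over a field is Gorenstein when `q`
divides the a-invariant. -/
theorem isGorensteinRing_ver [hG : LocCoh.IsGorensteinRing R]
    (hpos : ∀ n : ℤ, n < 0 → 𝒜 n = ⊥) (h0 : IsField (GrLC.deg0 𝒜))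
    (m : HomogeneousIdeal 𝒜) (hm : GrLC.IsStarLocal 𝒜 m)
    (hmsp : m.toIdeal = Ideal.span (⋃ n ∈ Set.Ioi (0 : ℤ), (𝒜 n : Set R)))
    (n : ℕ) (hn : ringKrullDim R = (n : WithBot ℕ∞)) (I : GrLC.StarInjRes 𝒜 𝒜) (a : ℤ)
    (ha : GrLC.endDeg (I.Hgr m n) = ((a : WithTop ℤ) : WithBot (WithTop ℤ)))
    (hdvd : (V.q : ℤ) ∣ a) : LocCoh.IsGorensteinRing R' := by
  classical
  haveI hR' : IsNoetherianRing R' := V.isNoetherianRing_ver
  obtain ⟨a', ha'⟩ := hdvd
  have hpos' := hpos_ver V hpos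
  have h0' := isField_deg0_ver V h0
  -- the ring `R`
  haveI hmax : m.toIdeal.IsMaximal :=
    Groth.Agent.Lib.R2H7.GrHt.isMaximal_of_isCoatom 𝒜 hpos m hm.1
  have hht : m.toIdeal.height = n := by
    have h1 := Groth.Agent.Lib.R2H7.GrHt.ringKrullDim_le_height 𝒜 hpos m hm
    have h2 := Ideal.height_le_ringKrullDim_of_ne_top hmax.ne_top
    rw [hn] at h1 h2
    exact_mod_cast le_antisymm h2 h1
  obtain ⟨EX, e, he⟩ := exists_hull_residue m
  obtain ⟨hvan, s, χ, hχ1, hχ2⟩ :=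
    Groth.Agent.Lib.R2H7.GrGorChar.exists_equiv_of_isGorensteinRing m EX.gr n hht I e he
  have P := dpack_of_equiv hpos h0 m hm hmsp EX.gr e he (I.Hgr m n) s χ hχ1 hχ2
  have hc : -s = a := dpack_top hpos P a ha
  -- the ring `R'`
  obtain ⟨m', hm', hm'sp⟩ := exists_irrelevant hpos' h0'
  haveI hmax' : m'.toIdeal.IsMaximal :=
    Groth.Agent.Lib.R2H7.GrHt.isMaximal_of_isCoatom 𝒜' hpos' m' hm'.1
  let F : GrLC.StarInjRes 𝒜' 𝒜' := minRes 𝒜' 𝒜'
  have hψ : ∀ p : ℕ, ∃ ψ : F.H m' p →ₛₗ[V.φ] I.H m p, Function.Injective ψ ∧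
      (∀ (j : ℤ) (ξ : F.H m' p), ξ ∈ F.Hgr m' p j → ψ ξ ∈ I.Hgr m p (j * V.q)) ∧
      (∀ (j : ℤ) (η : I.H m p), η ∈ I.Hgr m p (j * V.q) → ∃ ξ ∈ F.Hgr m' p j, ψ ξ = η) :=
    fun p => exists_veronese_H V m m' hmsp hm'sp
      (X := GrLC.GMod.of 𝒜 R 𝒜) (X' := GrLC.GMod.of 𝒜' R' 𝒜') I F (V.φ : R' →+ R)
      (fun r' x' => map_mul V.φ r' x') V.inj V.hdeg p
  have hvan' : ∀ j, j ≠ n → Subsingleton (F.H m' j) := by
    intro j hj
    obtain ⟨ψ, hψinj, -, -⟩ := hψ j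
    haveI := hvan j hj
    exact ⟨fun x y => hψinj (Subsingleton.elim _ _)⟩
  obtain ⟨ψ, hψinj, hψ1, hψ2⟩ := hψ n
  have P2 : DPack 𝒜 (I.Hgr m n) (a' * V.q) (χ.symm (x0 m e)) := by
    have e1 : a' * (V.q : ℤ) = -s := by rw [hc, ha', mul_comm]
    rw [e1]
    exact P
  obtain ⟨η', P'⟩ := dpack_ver V ψ hψinj hψ1 hψ2 P2
  obtain ⟨EX', e', he'⟩ := exists_hull_residue m'
  obtain ⟨α, hα1, -⟩ := exists_equiv_hull hpos' h0' m' hm' hm'sp EX'.gr e' he' P'
  exact Groth.Agent.Lib.R2H7.GrGorChar.isGorensteinRing_of_equiv m' hm' EX'.gr n F hvan'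
    he'.starInj (-a') α hα1

end ver

end Groth.Agent.Lib.R2H7.GrVerGor
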