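/-
Graded local-global principle for `ℕ`-graded algebras over a field with `A_0 = K`: the irrelevant
ideal is maximal, its height is the dimension, and `A` is Cohen–Macaulay as soon as its
localization at the irrelevant ideal is.  Also the quotient grading by a homogeneous ideal.
-/
import Mathlib
import Groth.Agent.Lib.H6xNatZ
import Groth.Agent.Lib.R2H7GrCMLoc
import Groth.Agent.Lib.R2H7GrHt
import Groth.Agent.Lib.R2H7GrVerGor

set_option autoImplicit false
open DirectSum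

noncomputable section

namespace Groth.Agent.Lib.H6xGrCone

open Groth.Agent.Lib.H6xNatZ

universe u v

section main

variable {K : Type v} [Field K] {A : Type u} [CommRing A] [Algebra K A]
  (𝒜 : ℕ → Submodule K A) [GradedAlgebra 𝒜]
  (h0 : ∀ a ∈ 𝒜 0, ∃ c : K, algebraMap K A c = a)

include h0 in
theorem isField_deg0 [Nontrivial A] : IsField (GrLC.deg0 (zgr 𝒜)) := by
  have hk : ∀ c : K, algebraMap K A c ∈ GrLC.deg0 (zgr 𝒜) := fun c =>
    (mem_zgr_natCast 𝒜 0 _).mpr (SetLike.algebraMap_mem_graded 𝒜 c)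
  let f : K →+* GrLC.deg0 (zgr 𝒜) := (algebraMap K A).codRestrict (GrLC.deg0 (zgr 𝒜)) hk
  have hf : Function.Bijective f := by
    constructor
    · exact f.injective
    · rintro ⟨r, hr⟩
      obtain ⟨c, hc⟩ := h0 r ((mem_zgr_natCast 𝒜 0 r).mp hr)
      exact ⟨c, Subtype.ext hc⟩
  exact (RingEquiv.ofBijective f hf).symm.toMulEquiv.isField (Field.toIsField K)

/-- The irrelevant ideal as a homogeneous ideal for the `ℤ`-grading. -/
def irrZ : HomogeneousIdeal (zgr 𝒜) :=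
  ⟨(HomogeneousIdeal.irrelevant 𝒜).toIdeal,
    isHomogeneous_zgr 𝒜 (HomogeneousIdeal.irrelevant 𝒜).isHomogeneous⟩

theorem irrZ_toIdeal : (irrZ 𝒜).toIdeal = (HomogeneousIdeal.irrelevant 𝒜).toIdeal := rfl

include h0 in
theorem isStarLocal_irrZ [Nontrivial A] : GrLC.IsStarLocal (zgr 𝒜) (irrZ 𝒜) := by
  obtain ⟨m, hm, hmI⟩ := Groth.Agent.Lib.R2H7.GrVerGor.exists_irrelevant (𝒜 := zgr 𝒜)
    (zgr_neg 𝒜) (isField_deg0 𝒜 h0)
  have h1 : m = irrZ 𝒜 := by
    apply HomogeneousIdeal.toIdeal_injective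
    rw [hmI, span_pos_eq_irrelevant]
    rfl
  rw [← h1]
  exact hm

include h0 in
theorem isMaximal_irrelevant [Nontrivial A] :
    (HomogeneousIdeal.irrelevant 𝒜).toIdeal.IsMaximal :=
  Groth.Agent.Lib.R2H7.GrHt.isMaximal_of_isCoatom (zgr 𝒜) (zgr_neg 𝒜) (irrZ 𝒜)
    (isStarLocal_irrZ 𝒜 h0).1

include h0 in
/-- The dimension of a graded algebra over a field is the height of the irrelevant ideal. -/
theorem ringKrullDim_eq_height [Nontrivial A] [IsNoetherianRing A] :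
    ringKrullDim A = (((HomogeneousIdeal.irrelevant 𝒜).toIdeal.height : ℕ∞) : WithBot ℕ∞) := by
  apply le_antisymm
  · exact Groth.Agent.Lib.R2H7.GrHt.ringKrullDim_le_height (zgr 𝒜) (zgr_neg 𝒜) (irrZ 𝒜)
      (isStarLocal_irrZ 𝒜 h0)
  · haveI := (isMaximal_irrelevant 𝒜 h0).isPrime
    exact Ideal.height_le_ringKrullDim_of_ne_top (isMaximal_irrelevant 𝒜 h0).ne_top

include h0 in
/-- A graded algebra over a field is Cohen–Macaulay as soon as it is so at the vertex. -/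
theorem isCohenMacaulayRing_of_irrelevant [Nontrivial A] [IsNoetherianRing A]
    [hp : (HomogeneousIdeal.irrelevant 𝒜).toIdeal.IsPrime]
    (h : LocCoh.IsCohenMacaulayLocalRing
      (Localization.AtPrime (HomogeneousIdeal.irrelevant 𝒜).toIdeal)) :
    LocCoh.IsCohenMacaulayRing A := by
  haveI : (irrZ 𝒜).toIdeal.IsPrime := hp
  exact Groth.Agent.Lib.R2H7.GrCMLoc.isCohenMacaulayRing_of_localization (zgr 𝒜) (irrZ 𝒜)
    (isStarLocal_irrZ 𝒜 h0) h

end main

/-! ### The quotient grading -/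

section quot

variable {K : Type v} [CommRing K] {A : Type u} [CommRing A] [Algebra K A]
  (𝒜 : ℕ → Submodule K A) [GradedAlgebra 𝒜] (J : Ideal A)

/-- The quotient grading. -/
def qgr (n : ℕ) : Submodule K (A ⧸ J) := (𝒜 n).map (Ideal.Quotient.mkₐ K J).toLinearMap

theorem mem_qgr (n : ℕ) (b : A ⧸ J) : b ∈ qgr 𝒜 J n ↔ ∃ a ∈ 𝒜 n, Ideal.Quotient.mk J a = b :=
  Iff.rfl

theorem mk_mem_qgr {n : ℕ} {a : A} (ha : a ∈ 𝒜 n) : Ideal.Quotient.mk J a ∈ qgr 𝒜 J n :=
  ⟨a, ha, rfl⟩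

instance : SetLike.GradedMonoid (qgr 𝒜 J) where
  one_mem := ⟨1, SetLike.GradedOne.one_mem, map_one (Ideal.Quotient.mk J)⟩
  mul_mem := by
    rintro i j _ _ ⟨a, ha, rfl⟩ ⟨b, hb, rfl⟩
    exact ⟨a * b, SetLike.mul_mem_graded ha hb, map_mul (Ideal.Quotient.mk J) a b⟩

theorem isInternal_qgr (hJ : J.IsHomogeneous 𝒜) : DirectSum.IsInternal (qgr 𝒜 J) := by
  classical
  constructor
  · rw [injective_iff_map_eq_zero]
    intro z hz
    have hch : ∀ n, ∃ a ∈ 𝒜 n, Ideal.Quotient.mk J a = (z n : A ⧸ J) := fun n => (z n).2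
    choose a ha hza using hch
    have h1 : z = ∑ n ∈ z.support, DirectSum.of (fun n => qgr 𝒜 J n) n (z n) :=
      (DirectSum.sum_support_of z).symm
    have h2 : Ideal.Quotient.mk J (∑ n ∈ z.support, a n) = 0 := by
      rw [map_sum, ← hz]
      conv_rhs => rw [h1]
      rw [map_sum]
      refine Finset.sum_congr rfl fun n _ => ?_
      rw [DirectSum.coeAddMonoidHom_of, hza]
    rw [Ideal.Quotient.eq_zero_iff_mem] at h2
    have h3 : ∀ n ∈ z.support, a n ∈ J := by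
      intro n hn
      have := hJ n h2
      rw [DirectSum.decompose_sum, DFinsupp.finsetSum_apply, AddSubmonoidClass.coe_finsetSum,
        Finset.sum_eq_single n] at this
      · rwa [DirectSum.decompose_of_mem_same 𝒜 (ha n)] at this
      · intro m _ hmn
        rw [DirectSum.decompose_of_mem_ne 𝒜 (ha m) hmn]
      · intro h; exact absurd hn h
    rw [h1]
    refine Finset.sum_eq_zero fun n hn => ?_
    have : z n = 0 := by
      apply Subtype.ext
      rw [← hza, Ideal.Quotient.eq_zero_iff_mem.2 (h3 n hn)]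
      rfl
    rw [this, map_zero]
  · intro b
    obtain ⟨a, rfl⟩ := Ideal.Quotient.mk_surjective b
    refine ⟨∑ n ∈ (DirectSum.decompose 𝒜 a).support,
      DirectSum.of (fun n => qgr 𝒜 J n) n
        ⟨Ideal.Quotient.mk J (DirectSum.decompose 𝒜 a n : A),
          mk_mem_qgr 𝒜 J (DirectSum.decompose 𝒜 a n).2⟩, ?_⟩
    rw [map_sum]
    simp only [DirectSum.coeAddMonoidHom_of]
    rw [← map_sum, DirectSum.sum_support_decompose 𝒜 a]

/-- The graded algebra structure on the quotient by a homogeneous ideal. -/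
@[instance_reducible]
def gradedAlgebraQuot (hJ : J.IsHomogeneous 𝒜) : GradedAlgebra (qgr 𝒜 J) :=
  { (inferInstance : SetLike.GradedMonoid (qgr 𝒜 J)) with
    toDecomposition := (isInternal_qgr 𝒜 J hJ).chooseDecomposition }

/-- The irrelevant ideal of the quotient is the image of the irrelevant ideal. -/
theorem irrelevant_qgr (hJ : J.IsHomogeneous 𝒜) :
    letI := gradedAlgebraQuot 𝒜 J hJ
    (HomogeneousIdeal.irrelevant (qgr 𝒜 J)).toIdeal =
      (HomogeneousIdeal.irrelevant 𝒜).toIdeal.map (Ideal.Quotient.mk J) := by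
  letI := gradedAlgebraQuot 𝒜 J hJ
  rw [HomogeneousIdeal.irrelevant_eq_span, HomogeneousIdeal.irrelevant_eq_span, Ideal.map_span]
  congr 1
  ext b
  constructor
  · intro hb
    obtain ⟨n, hn, hbn⟩ := Set.mem_iUnion₂.mp hb
    obtain ⟨a, ha, rfl⟩ := hbn
    exact ⟨a, Set.mem_iUnion₂.mpr ⟨n, hn, ha⟩, rfl⟩
  · rintro ⟨a, ha, rfl⟩
    obtain ⟨n, hn, han⟩ := Set.mem_iUnion₂.mp ha
    exact Set.mem_iUnion₂.mpr ⟨n, hn, mk_mem_qgr 𝒜 J han⟩

theorem h0_qgr (h0 : ∀ a ∈ 𝒜 0, ∃ c : K, algebraMap K A c = a) :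
    ∀ b ∈ qgr 𝒜 J 0, ∃ c : K, algebraMap K (A ⧸ J) c = b := by
  rintro _ ⟨a, ha, rfl⟩
  obtain ⟨c, rfl⟩ := h0 a ha
  exact ⟨c, rfl⟩

end quot

end Groth.Agent.Lib.H6xGrCone
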