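/-
Cones over polynomial rings: `K[x]/I` for a homogeneous ideal `I` is Cohen–Macaulay iff it is so
at the vertex.
-/
import Mathlib
import Groth.Agent.Lib.H6xGrCone

set_option autoImplicit false
open DirectSum

noncomputable section

namespace Groth.Agent.Lib.H6xGrConeB

open Groth.Agent.Lib.H6xGrCone

attribute [local instance] MvPolynomial.gradedAlgebra

universe u v

section general

variable {K : Type v} [Field K] {A : Type u} [CommRing A] [Algebra K A]
  (𝒜 : ℕ → Submodule K A) [GradedAlgebra 𝒜]
  (h0 : ∀ a ∈ 𝒜 0, ∃ c : K, algebraMap K A c = a)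

include h0 in
theorem cm_iff_of_eq [Nontrivial A] [IsNoetherianRing A] (m : Ideal A) [hm : m.IsPrime]
    (hmeq : m = (HomogeneousIdeal.irrelevant 𝒜).toIdeal) :
    LocCoh.IsCohenMacaulayRing A ↔
      LocCoh.IsCohenMacaulayLocalRing (Localization.AtPrime m) := by
  subst hmeq
  constructor
  · intro h
    exact h.isCohenMacaulayLocalRing_localization _
  · intro h
    exact isCohenMacaulayRing_of_irrelevant 𝒜 h0 h

end general

section poly

variable (K : Type u) [Field K] (σ : Type*)

theorem irrelevant_eq_ker :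
    (HomogeneousIdeal.irrelevant (MvPolynomial.homogeneousSubmodule σ K)).toIdeal =
      RingHom.ker (MvPolynomial.constantCoeff : MvPolynomial σ K →+* K) := by
  classical
  ext x
  have h1 : x ∈ (HomogeneousIdeal.irrelevant (MvPolynomial.homogeneousSubmodule σ K)).toIdeal ↔
      GradedRing.proj (MvPolynomial.homogeneousSubmodule σ K) 0 x = 0 :=
    HomogeneousIdeal.mem_irrelevant_iff _ x
  rw [h1, RingHom.mem_ker, GradedRing.proj_apply]
  have h2 : ((DirectSum.decompose (MvPolynomial.homogeneousSubmodule σ K) x) 0 : MvPolynomial σ K) =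
      MvPolynomial.homogeneousComponent 0 x :=
    MvPolynomial.decomposition.decompose'_apply x 0
  rw [h2, MvPolynomial.homogeneousComponent_zero, MvPolynomial.constantCoeff_eq]
  constructor
  · intro h
    have := congrArg (MvPolynomial.coeff 0) h
    rwa [MvPolynomial.coeff_C, if_pos rfl, MvPolynomial.coeff_zero] at this
  · intro h
    rw [h, map_zero]

theorem h0_poly : ∀ a ∈ MvPolynomial.homogeneousSubmodule σ K 0,
    ∃ c : K, algebraMap K (MvPolynomial σ K) c = a := by
  intro a ha
  rw [MvPolynomial.homogeneousSubmodule_zero, Submodule.mem_one] at ha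
  exact ha

/-- A cone `K[x]/I` is Cohen–Macaulay iff it is so at its vertex. -/
theorem cone_cm_iff [Finite σ] (I : Ideal (MvPolynomial σ K))
    (hI : ∃ T : Set (MvPolynomial σ K), (∀ f ∈ T, ∃ k : ℕ, f.IsHomogeneous k) ∧ I = Ideal.span T)
    (hI' : I ≠ ⊤)
    [hm : ((RingHom.ker (MvPolynomial.constantCoeff : MvPolynomial σ K →+* K)).map
      (Ideal.Quotient.mk I)).IsPrime] :
    LocCoh.IsCohenMacaulayRing (MvPolynomial σ K ⧸ I) ↔
      LocCoh.IsCohenMacaulayLocalRing (Localization.AtPrime
        ((RingHom.ker (MvPolynomial.constantCoeff : MvPolynomial σ K →+* K)).map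
          (Ideal.Quotient.mk I))) := by
  obtain ⟨T, hT, rfl⟩ := hI
  have hhom : (Ideal.span T).IsHomogeneous (MvPolynomial.homogeneousSubmodule σ K) := by
    apply Ideal.homogeneous_span
    intro f hf
    obtain ⟨k, hk⟩ := hT f hf
    exact ⟨k, hk⟩
  letI := gradedAlgebraQuot (MvPolynomial.homogeneousSubmodule σ K) (Ideal.span T) hhom
  haveI : Nontrivial (MvPolynomial σ K ⧸ Ideal.span T) := Ideal.Quotient.nontrivial_iff.mpr hI'
  refine cm_iff_of_eq (qgr (MvPolynomial.homogeneousSubmodule σ K) (Ideal.span T))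
    (h0_qgr _ _ (h0_poly K σ)) _ ?_
  rw [irrelevant_qgr _ _ hhom, irrelevant_eq_ker]

end poly

end Groth.Agent.Lib.H6xGrConeB
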