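/-
General (ungraded) lemmas on Cohen–Macaulay modules:
* CM-ness of `M_m` passes to `M_p` for `p ≤ m` in the support;
* over a finite type algebra over a field, `dim M ≤ dim M_m` when `m` is a maximal ideal containing
  all minimal primes of the annihilator;
* `depth_m M = depth M_m` for a maximal ideal `m`.
-/
import Mathlib
import Groth.Agent.Lib.Helper28DepthCM
import Groth.Agent.Lib.Helper28DepthMore
import Groth.Agent.Lib.Helper28FGDim
import Groth.Agent.Lib.Helper5FinDimDepth
import Groth.Agent.Lib.H9SegreMod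

set_option autoImplicit false

noncomputable section

namespace Groth.Agent.Lib.H6xModCMA

open Groth.Agent.Lib.Helper28

universe u

section transfer

variable {R : Type u} [CommRing R] [IsNoetherianRing R]
  (M : Type u) [AddCommGroup M] [Module R M] [Module.Finite R M]

/-- The "zero or Cohen–Macaulay" predicate at a prime. -/
def CMAt (p : Ideal R) [p.IsPrime] : Prop :=
  Subsingleton (LocalizedModule p.primeCompl M) ∨
    LocCoh.IsCohenMacaulayModule (Localization.AtPrime p) (LocalizedModule p.primeCompl M)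

omit [IsNoetherianRing R] [Module.Finite R M] in
theorem cm_of_eq {p' p : Ideal R} [_hp' : p'.IsPrime] [hp : p.IsPrime] (h : p' = p)
    (hCM : LocCoh.IsCohenMacaulayModule (Localization.AtPrime p')
      (LocalizedModule p'.primeCompl M)) :
    LocCoh.IsCohenMacaulayModule (Localization.AtPrime p) (LocalizedModule p.primeCompl M) := by
  subst h
  exact hCM

/-- Cohen–Macaulayness of `M_m` passes to `M_p` for `p ≤ m` in the support. -/
theorem cm_of_le (m : Ideal R) [hm : m.IsPrime]
    (hCM : LocCoh.IsCohenMacaulayModule (Localization.AtPrime m)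
      (LocalizedModule m.primeCompl M))
    (p : Ideal R) [hp : p.IsPrime] (hpm : p ≤ m)
    (hpS : (⟨p, hp⟩ : PrimeSpectrum R) ∈ Module.support R M) :
    LocCoh.IsCohenMacaulayModule (Localization.AtPrime p) (LocalizedModule p.primeCompl M) := by
  have hdisj : Disjoint (m.primeCompl : Set R) (p : Set R) := by
    rw [Set.disjoint_left]
    intro x hx hxp
    exact hx (hpm hxp)
  set Q : Ideal (Localization m.primeCompl) := p.map (algebraMap R (Localization m.primeCompl))
    with hQdef
  haveI hQ : Q.IsPrime :=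
    IsLocalization.isPrime_of_isPrime_disjoint m.primeCompl (Localization m.primeCompl) p hp hdisj
  have hcomap : Q.comap (algebraMap R (Localization m.primeCompl)) = p :=
    IsLocalization.under_map_of_isPrime_disjoint m.primeCompl (Localization m.primeCompl) hp hdisj
  haveI hNm : IsNoetherianRing (Localization.AtPrime m) :=
    IsLocalization.isNoetherianRing m.primeCompl _ inferInstance
  have hQS : (⟨Q, hQ⟩ : PrimeSpectrum (Localization.AtPrime m)) ∈
      Module.support (Localization.AtPrime m) (LocalizedModule m.primeCompl M) := by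
    rw [mem_support_isLocalizedModule_iff m.primeCompl (Localization.AtPrime m)
      (LocalizedModule.mkLinearMap m.primeCompl M)]
    have : PrimeSpectrum.comap (algebraMap R (Localization.AtPrime m)) ⟨Q, hQ⟩ = ⟨p, hp⟩ :=
      PrimeSpectrum.ext hcomap
    rw [this]
    exact hpS
  have h1 := isCohenMacaulayModule_localization hCM ⟨Q, hQ⟩ hQS
  obtain ⟨t1, t2⟩ := Groth.Agent.Lib.Helper5.FinDimDepth.transport m.primeCompl M Q
  haveI : (Q.comap (algebraMap R (Localization m.primeCompl))).IsPrime := Ideal.comap_isPrime _ _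
  refine cm_of_eq M hcomap ?_
  unfold LocCoh.IsCohenMacaulayModule at h1 ⊢
  rw [← t1, ← t2]
  exact h1

end transfer

section depthMax

variable {R : Type u} [CommRing R] [IsNoetherianRing R]
  (M : Type u) [AddCommGroup M] [Module R M] [Module.Finite R M]

/-- For a maximal ideal `m`, `depth_m M = depth M_m`. -/
theorem idealDepth_eq_depth_localization_of_isMaximal (m : Ideal R) [hm : m.IsMaximal] :
    LocCoh.idealDepth m M =
      LocCoh.depth (Localization.AtPrime m) (LocalizedModule m.primeCompl M) := by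
  apply le_antisymm
  · exact idealDepth_le_depth_localization m M le_rfl
  · rw [idealDepth_eq_iInf_depth_localization m M]
    refine le_iInf₂ fun p hp => ?_
    have hpm : p.asIdeal = m := (hm.eq_of_le p.2.ne_top hp).symm
    obtain ⟨p, hpp⟩ := p
    change p = m at hpm
    subst hpm
    exact le_rfl

end depthMax

section dim

variable (k : Type u) [Field k] {T : Type u} [CommRing T] [Algebra k T] [Algebra.FiniteType k T]

include k

/-- Over a finite type algebra over a field: if the maximal ideal `m` contains all minimal primes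
of the annihilator of `L` then `dim L ≤ ht_{Supp L} m`. -/
theorem natCast_le_height_of_minimalPrimes_le (m : Ideal T) [hmax : m.IsMaximal]
    {L : Type u} [AddCommGroup L] [Module T L] [Module.Finite T L]
    (hmin : ∀ q ∈ (Module.annihilator T L).minimalPrimes, q ≤ m)
    (hm : (⟨m, hmax.isPrime⟩ : PrimeSpectrum T) ∈ Module.support T L)
    (n : ℕ) (hn : (n : WithBot ℕ∞) ≤ ringKrullDim (T ⧸ Module.annihilator T L)) :
    (n : ℕ∞) ≤ Order.height (⟨⟨m, hmax.isPrime⟩, hm⟩ : Module.support T L) := by
  obtain ⟨𝔮, h𝔮, hle, hall, -⟩ := Groth.Agent.Lib.H9SegreMod.exists_prime_bottom _ n hn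
  obtain ⟨𝔮₀, h𝔮₀min, h𝔮₀le⟩ := Ideal.exists_minimalPrimes_le hle
  haveI h𝔮₀p : 𝔮₀.IsPrime := h𝔮₀min.1.1
  have hn0 : (n : WithBot ℕ∞) ≤ ringKrullDim (T ⧸ 𝔮₀) := hall 𝔮₀ h𝔮₀le
  have hle𝔪 : 𝔮₀ ≤ m := hmin 𝔮₀ h𝔮₀min
  haveI hM' : (m.map (Ideal.Quotient.mk 𝔮₀)).IsMaximal :=
    Ideal.IsMaximal.map_of_surjective_of_ker_le Ideal.Quotient.mk_surjective
      (by rwa [Ideal.mk_ker])
  have hb := height_eq_ringKrullDim_quotient_of_isMaximal_of_finiteType
    k T 𝔮₀ (m.map (Ideal.Quotient.mk 𝔮₀))
  have hn1 : (n : ℕ∞) ≤ (m.map (Ideal.Quotient.mk 𝔮₀)).height := by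
    rw [← hb] at hn0
    exact_mod_cast hn0
  have hM'p : (m.map (Ideal.Quotient.mk 𝔮₀)).IsPrime := hM'.isPrime
  have hn2 := PrimeSpectrum.height_eq_orderHeight
    (⟨m.map (Ideal.Quotient.mk 𝔮₀), hM'p⟩ : PrimeSpectrum (T ⧸ 𝔮₀))
  change (m.map (Ideal.Quotient.mk 𝔮₀)).height = _ at hn2
  rw [hn2] at hn1
  have hmemsupp : ∀ p : PrimeSpectrum (T ⧸ 𝔮₀),
      PrimeSpectrum.comap (Ideal.Quotient.mk 𝔮₀) p ∈ Module.support T L := by
    intro p
    rw [Module.mem_support_iff_of_finite]
    refine h𝔮₀min.1.2.trans ?_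
    intro x hx
    change Ideal.Quotient.mk 𝔮₀ x ∈ p.asIdeal
    rw [Ideal.Quotient.eq_zero_iff_mem.mpr hx]
    exact Ideal.zero_mem _
  let g : PrimeSpectrum (T ⧸ 𝔮₀) → Module.support T L := fun p =>
    ⟨PrimeSpectrum.comap (Ideal.Quotient.mk 𝔮₀) p, hmemsupp p⟩
  have hg : StrictMono g := by
    intro a b hab
    exact RingHom.strictMono_comap_of_surjective Ideal.Quotient.mk_surjective hab
  have h3 := Order.height_le_height_apply_of_strictMono g hg
    (⟨m.map (Ideal.Quotient.mk 𝔮₀), hM'p⟩ : PrimeSpectrum (T ⧸ 𝔮₀))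
  have h4 : g ⟨m.map (Ideal.Quotient.mk 𝔮₀), hM'p⟩ =
      (⟨⟨m, hmax.isPrime⟩, hm⟩ : Module.support T L) := by
    apply Subtype.ext
    apply PrimeSpectrum.ext
    change (m.map (Ideal.Quotient.mk 𝔮₀)).comap (Ideal.Quotient.mk 𝔮₀) = m
    rw [Ideal.comap_map_of_surjective _ Ideal.Quotient.mk_surjective, ← RingHom.ker_eq_comap_bot,
      Ideal.mk_ker]
    exact sup_eq_left.mpr hle𝔪
  rw [h4] at h3
  exact hn1.trans h3

/-- `dim M_m = dim M` in the situation above. -/
theorem supportDim_localization_eq_of_minimalPrimes_le (m : Ideal T) [hmax : m.IsMaximal]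
    {L : Type u} [AddCommGroup L] [Module T L] [Module.Finite T L]
    (hmin : ∀ q ∈ (Module.annihilator T L).minimalPrimes, q ≤ m)
    (hm : (⟨m, hmax.isPrime⟩ : PrimeSpectrum T) ∈ Module.support T L) :
    Module.supportDim (Localization.AtPrime m) (LocalizedModule m.primeCompl L) =
      Module.supportDim T L := by
  haveI := hmax.isPrime
  apply le_antisymm
  · have h := supportDim_localization_add_ringKrullDim_quotient_le m L hm
    haveI : Nontrivial (T ⧸ m) := Ideal.Quotient.nontrivial_iff.mpr hmax.ne_top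
    have h0 : (0 : WithBot ℕ∞) ≤ ringKrullDim (T ⧸ m) := ringKrullDim_nonneg_of_nontrivial
    calc Module.supportDim (Localization.AtPrime m) (LocalizedModule m.primeCompl L)
        = Module.supportDim (Localization.AtPrime m) (LocalizedModule m.primeCompl L) + 0 := by
          rw [add_zero]
      _ ≤ Module.supportDim (Localization.AtPrime m) (LocalizedModule m.primeCompl L) +
          ringKrullDim (T ⧸ m) := add_le_add_right h0 _
      _ ≤ _ := h
  · rw [supportDim_localization_eq_height m L hm,
      Module.supportDim_eq_ringKrullDim_quotient_annihilator]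
    by_cases hb : ringKrullDim (T ⧸ Module.annihilator T L) = ⊥
    · rw [hb]; exact bot_le
    · obtain ⟨d, hd⟩ := WithBot.ne_bot_iff_exists.mp hb
      rw [← hd, WithBot.coe_le_coe, ← ENat.forall_natCast_le_iff_le]
      intro n hn
      apply natCast_le_height_of_minimalPrimes_le k m hmin hm n
      rw [← hd]
      exact_mod_cast hn

end dim

end Groth.Agent.Lib.H6xModCMA
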