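/-
Gluing Cohen–Macaulay cones: for homogeneous ideals `I`, `J` of a graded algebra `A` over a field
with `A/I`, `A/J` Cohen–Macaulay of dimension `e` and `A/(I+J)` Cohen–Macaulay of dimension
`e - 1`, the ring `A/(I ∩ J)` is Cohen–Macaulay of dimension `e` at the vertex.
-/
import Mathlib
import Groth.Agent.Lib.H6xGrCone
import Groth.Agent.Lib.H6xModCMA
import Groth.Agent.Lib.H5bCMe

set_option autoImplicit false
open DirectSum

noncomputable section

namespace Groth.Agent.Lib.H6xGrConeC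

open Groth.Agent.Lib.H6xGrCone Groth.Agent.Lib.Helper28

universe u v

section dim

variable {A : Type v} [CommRing A]

/-- The dimension of `A/(I ∩ J)` is at most the maximum of those of `A/I` and `A/J`. -/
theorem ringKrullDim_quotient_inf_le (I J : Ideal A) (d : WithBot ℕ∞)
    (hI : ringKrullDim (A ⧸ I) ≤ d) (hJ : ringKrullDim (A ⧸ J) ≤ d) :
    ringKrullDim (A ⧸ (I ⊓ J)) ≤ d := by
  rw [ringKrullDim_quotient] at hI hJ ⊢
  unfold Order.krullDim
  refine iSup_le fun p => ?_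
  have hhead := (p.head).2
  rw [PrimeSpectrum.mem_zeroLocus, SetLike.coe_subset_coe] at hhead
  have hmono : ∀ i : Fin (p.length + 1), p.head ≤ p i := fun i =>
    LTSeries.head_le p i
  rcases (p.head.1.2.inf_le).mp hhead with h | h
  · let q : LTSeries (PrimeSpectrum.zeroLocus (I : Set A)) :=
      { length := p.length
        toFun := fun i => ⟨(p i).1, by
          rw [PrimeSpectrum.mem_zeroLocus, SetLike.coe_subset_coe]
          exact le_trans h (hmono i)⟩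
        step := fun i => p.step i }
    exact le_trans (Order.LTSeries.length_le_krullDim q) hI
  · let q : LTSeries (PrimeSpectrum.zeroLocus (J : Set A)) :=
      { length := p.length
        toFun := fun i => ⟨(p i).1, by
          rw [PrimeSpectrum.mem_zeroLocus, SetLike.coe_subset_coe]
          exact le_trans h (hmono i)⟩
        step := fun i => p.step i }
    exact le_trans (Order.LTSeries.length_le_krullDim q) hJ

end dim

section graded

variable {K : Type u} [Field K] {A : Type v} [CommRing A] [Algebra K A] [IsNoetherianRing A]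
  (𝒜 : ℕ → Submodule K A) [GradedAlgebra 𝒜]
  (h0 : ∀ a ∈ 𝒜 0, ∃ c : K, algebraMap K A c = a)

include h0 in
/-- The image of the irrelevant ideal in a proper homogeneous quotient is maximal. -/
theorem isMaximal_map (𝔟 : Ideal A) (h𝔟 : 𝔟.IsHomogeneous 𝒜) (hne : 𝔟 ≠ ⊤) :
    ((HomogeneousIdeal.irrelevant 𝒜).toIdeal.map (Ideal.Quotient.mk 𝔟)).IsMaximal := by
  letI := gradedAlgebraQuot 𝒜 𝔟 h𝔟
  haveI : Nontrivial (A ⧸ 𝔟) := Ideal.Quotient.nontrivial_iff.mpr hne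
  rw [← irrelevant_qgr 𝒜 𝔟 h𝔟]
  exact isMaximal_irrelevant (qgr 𝒜 𝔟) (h0_qgr 𝒜 𝔟 h0)

include h0 in
theorem ringKrullDim_quotient_eq_height (𝔟 : Ideal A) (h𝔟 : 𝔟.IsHomogeneous 𝒜) (hne : 𝔟 ≠ ⊤) :
    ringKrullDim (A ⧸ 𝔟) =
      ((((HomogeneousIdeal.irrelevant 𝒜).toIdeal.map (Ideal.Quotient.mk 𝔟)).height : ℕ∞) :
        WithBot ℕ∞) := by
  letI := gradedAlgebraQuot 𝒜 𝔟 h𝔟
  haveI : Nontrivial (A ⧸ 𝔟) := Ideal.Quotient.nontrivial_iff.mpr hne
  rw [← irrelevant_qgr 𝒜 𝔟 h𝔟]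
  exact ringKrullDim_eq_height (qgr 𝒜 𝔟) (h0_qgr 𝒜 𝔟 h0)

include h0 in
theorem eq_comap_map [Nontrivial A] (𝔟 : Ideal A) (h𝔟 : 𝔟.IsHomogeneous 𝒜) (hne : 𝔟 ≠ ⊤) :
    (HomogeneousIdeal.irrelevant 𝒜).toIdeal =
      ((HomogeneousIdeal.irrelevant 𝒜).toIdeal.map (Ideal.Quotient.mk 𝔟)).comap
        (Ideal.Quotient.mk 𝔟) := by
  have hmax := isMaximal_irrelevant 𝒜 h0
  have hmax' := isMaximal_map 𝒜 h0 𝔟 h𝔟 hne
  refine hmax.eq_of_le ?_ Ideal.le_comap_map
  exact (Ideal.comap_isPrime (Ideal.Quotient.mk 𝔟) _).ne_top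

include h0 in
theorem idealDepth_quotient_eq [Nontrivial A] (𝔟 : Ideal A) (h𝔟 : 𝔟.IsHomogeneous 𝒜)
    (hne : 𝔟 ≠ ⊤)
    [hp : ((HomogeneousIdeal.irrelevant 𝒜).toIdeal.map (Ideal.Quotient.mk 𝔟)).IsPrime] :
    LocCoh.idealDepth (HomogeneousIdeal.irrelevant 𝒜).toIdeal (A ⧸ 𝔟) =
      LocCoh.depth
        (Localization.AtPrime ((HomogeneousIdeal.irrelevant 𝒜).toIdeal.map (Ideal.Quotient.mk 𝔟)))
        (Localization.AtPrime
          ((HomogeneousIdeal.irrelevant 𝒜).toIdeal.map (Ideal.Quotient.mk 𝔟))) := by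
  haveI hmax := isMaximal_irrelevant 𝒜 h0
  rw [Groth.Agent.Lib.H6xModCMA.idealDepth_eq_depth_localization_of_isMaximal (A ⧸ 𝔟)
    (HomogeneousIdeal.irrelevant 𝒜).toIdeal]
  exact Groth.Agent.Lib.H5b.depth_localization_quotient 𝔟 _ _ (eq_comap_map 𝒜 h0 𝔟 h𝔟 hne)

include h0 in
/-- The depth at the vertex of a Cohen–Macaulay homogeneous quotient is its dimension. -/
theorem idealDepth_quotient_of_cm [Nontrivial A] (𝔟 : Ideal A) (h𝔟 : 𝔟.IsHomogeneous 𝒜) (d : ℕ)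
    [hcm : LocCoh.IsCohenMacaulayRing (A ⧸ 𝔟)]
    (hdim : ringKrullDim (A ⧸ 𝔟) = (d : WithBot ℕ∞)) :
    LocCoh.idealDepth (HomogeneousIdeal.irrelevant 𝒜).toIdeal (A ⧸ 𝔟) = (d : ℕ∞) := by
  have hne : 𝔟 ≠ ⊤ := by
    rintro rfl
    haveI : Subsingleton (A ⧸ (⊤ : Ideal A)) := Ideal.Quotient.subsingleton_iff.mpr rfl
    rw [ringKrullDim_eq_bot_of_subsingleton] at hdim
    exact absurd hdim (by simp)
  haveI hp := (isMaximal_map 𝒜 h0 𝔟 h𝔟 hne).isPrime
  rw [idealDepth_quotient_eq 𝒜 h0 𝔟 h𝔟 hne]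
  have h1 := (hcm.isCohenMacaulayLocalRing_localization
    ((HomogeneousIdeal.irrelevant 𝒜).toIdeal.map (Ideal.Quotient.mk 𝔟))).supportDim_eq_depth
  rw [supportDim_localization_self, ← ringKrullDim_quotient_eq_height 𝒜 h0 𝔟 h𝔟 hne, hdim] at h1
  exact (WithBot.coe_injective h1).symm

include h0 in
/-- Gluing: `A/(I ∩ J)` is Cohen–Macaulay of dimension `e` at the vertex. -/
theorem inf_cm_at_irrelevant (I J : Ideal A) (hI : I.IsHomogeneous 𝒜)
    (hJ : J.IsHomogeneous 𝒜) (e : ℕ) (he : 1 ≤ e)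
    (hIcm : LocCoh.IsCohenMacaulayRing (A ⧸ I)) (hJcm : LocCoh.IsCohenMacaulayRing (A ⧸ J))
    (hIJcm : LocCoh.IsCohenMacaulayRing (A ⧸ (I ⊔ J)))
    (hIdim : ringKrullDim (A ⧸ I) = (e : WithBot ℕ∞))
    (hJdim : ringKrullDim (A ⧸ J) = (e : WithBot ℕ∞))
    (hIJdim : ringKrullDim (A ⧸ (I ⊔ J)) = ((e - 1 : ℕ) : WithBot ℕ∞))
    [hm : ((HomogeneousIdeal.irrelevant 𝒜).toIdeal.map (Ideal.Quotient.mk (I ⊓ J))).IsPrime] :
    LocCoh.IsCohenMacaulayLocalRing (Localization.AtPrime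
        ((HomogeneousIdeal.irrelevant 𝒜).toIdeal.map (Ideal.Quotient.mk (I ⊓ J)))) ∧
      ringKrullDim (Localization.AtPrime
        ((HomogeneousIdeal.irrelevant 𝒜).toIdeal.map (Ideal.Quotient.mk (I ⊓ J)))) =
          (e : WithBot ℕ∞) := by
  have hne : I ⊓ J ≠ ⊤ := by
    intro h
    apply hm.ne_top
    haveI : Subsingleton (A ⧸ (I ⊓ J)) := Ideal.Quotient.subsingleton_iff.mpr h
    exact Subsingleton.elim _ _
  haveI : Nontrivial A := by
    by_contra hn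
    rw [not_nontrivial_iff_subsingleton] at hn
    exact hne (Subsingleton.elim _ _)
  have hhom : (I ⊓ J).IsHomogeneous 𝒜 := hI.inf hJ
  have hhom' : (I ⊔ J).IsHomogeneous 𝒜 := hI.sup hJ
  set M₀ := (HomogeneousIdeal.irrelevant 𝒜).toIdeal with hM₀
  -- depth
  have h1 := idealDepth_quotient_of_cm 𝒜 h0 I hI e hIdim
  have h2 := idealDepth_quotient_of_cm 𝒜 h0 J hJ e hJdim
  have h3 := idealDepth_quotient_of_cm 𝒜 h0 (I ⊔ J) hhom' (e - 1) hIJdim
  have hd := min_idealDepth_le_left M₀ (Groth.Agent.Lib.H5b.glueF I J)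
    (Groth.Agent.Lib.H5b.glueG I J) (Groth.Agent.Lib.H5b.glueF_injective I J)
    (Groth.Agent.Lib.H5b.glueG_surjective I J) (Groth.Agent.Lib.H5b.glue_exact I J)
  have hp := Groth.Agent.Lib.H5b.min_le_idealDepth_prod M₀ (A ⧸ I) (A ⧸ J)
  rw [← hM₀] at h1 h2 h3
  rw [h1, h2, min_self] at hp
  rw [h3] at hd
  have hle : (e : ℕ∞) ≤ LocCoh.idealDepth M₀ (A ⧸ (I ⊓ J)) := by
    refine le_trans (le_min hp ?_) hd
    have : ((e - 1 : ℕ) : ℕ∞) + 1 = (e : ℕ∞) := by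
      have h : e - 1 + 1 = e := by omega
      exact_mod_cast h
    rw [this]
  rw [idealDepth_quotient_eq 𝒜 h0 (I ⊓ J) hhom hne] at hle
  -- dimension
  have hdim : ringKrullDim (Localization.AtPrime (M₀.map (Ideal.Quotient.mk (I ⊓ J)))) ≤
      (e : WithBot ℕ∞) := by
    rw [IsLocalization.AtPrime.ringKrullDim_eq_height (M₀.map (Ideal.Quotient.mk (I ⊓ J)))
      (Localization.AtPrime (M₀.map (Ideal.Quotient.mk (I ⊓ J))))]
    refine le_trans (Ideal.height_le_ringKrullDim_of_ne_top hm.ne_top) ?_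
    exact ringKrullDim_quotient_inf_le I J _ hIdim.le hJdim.le
  haveI : IsNoetherianRing (Localization.AtPrime (M₀.map (Ideal.Quotient.mk (I ⊓ J)))) :=
    IsLocalization.isNoetherianRing (M₀.map (Ideal.Quotient.mk (I ⊓ J))).primeCompl _ inferInstance
  have hds : ((LocCoh.depth (Localization.AtPrime (M₀.map (Ideal.Quotient.mk (I ⊓ J))))
      (Localization.AtPrime (M₀.map (Ideal.Quotient.mk (I ⊓ J)))) : ℕ∞) : WithBot ℕ∞) ≤
      Module.supportDim (Localization.AtPrime (M₀.map (Ideal.Quotient.mk (I ⊓ J))))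
        (Localization.AtPrime (M₀.map (Ideal.Quotient.mk (I ⊓ J)))) := depth_le_supportDim
  rw [Module.supportDim_self_eq_ringKrullDim] at hds
  have hle' : ((e : ℕ∞) : WithBot ℕ∞) ≤
      ((LocCoh.depth (Localization.AtPrime (M₀.map (Ideal.Quotient.mk (I ⊓ J))))
      (Localization.AtPrime (M₀.map (Ideal.Quotient.mk (I ⊓ J)))) : ℕ∞) : WithBot ℕ∞) :=
    WithBot.coe_le_coe.mpr hle
  have hdimeq : ringKrullDim (Localization.AtPrime (M₀.map (Ideal.Quotient.mk (I ⊓ J)))) =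
      (e : WithBot ℕ∞) := le_antisymm hdim (le_trans hle' hds)
  refine ⟨{ supportDim_eq_depth := ?_ }, hdimeq⟩
  rw [Module.supportDim_self_eq_ringKrullDim]
  apply le_antisymm
  · rw [hdimeq]
    exact hle'
  · exact hds

end graded

end Groth.Agent.Lib.H6xGrConeC
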