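/-
A Noetherian non-negatively graded algebra over a field `k` with degree zero part `k` is of finite
type over `k`.
-/
import Mathlib

set_option autoImplicit false
open DirectSum

namespace Groth.Agent.Lib.H6xGrFT

universe u

variable {k : Type u} [Field k] {T : Type u} [CommRing T] [Algebra k T]
  (𝒯 : ℤ → Submodule k T) [GradedAlgebra 𝒯]

theorem finiteType_of_isNoetherianRing [IsNoetherianRing T] (hpos : ∀ n : ℤ, n < 0 → 𝒯 n = ⊥)
    (h0 : 𝒯 0 = Submodule.span k {(1 : T)}) : Algebra.FiniteType k T := by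
  classical
  have hfg : (Ideal.span (⋃ n ∈ Set.Ioi (0 : ℤ), (𝒯 n : Set T))).FG :=
    (isNoetherianRing_iff_ideal_fg T).mp inferInstance _
  obtain ⟨s, hs1, hs2⟩ := (Submodule.fg_span_iff_fg_span_finset_subset _).mp hfg
  -- degrees of the generators
  have hdeg : ∀ x : T, x ∈ s → ∃ n : ℤ, 0 < n ∧ x ∈ 𝒯 n := by
    intro x hx
    obtain ⟨n, hn, hxn⟩ := Set.mem_iUnion₂.mp (hs1 hx)
    exact ⟨n, hn, hxn⟩
  let deg : T → ℤ := fun x => if hx : x ∈ s then (hdeg x hx).choose else 1
  have hdegpos : ∀ x ∈ s, 0 < deg x := by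
    intro x hx
    show 0 < (if hx : x ∈ s then (hdeg x hx).choose else 1)
    rw [dif_pos hx]
    exact (hdeg x hx).choose_spec.1
  have hdegmem : ∀ x ∈ s, x ∈ 𝒯 (deg x) := by
    intro x hx
    show x ∈ 𝒯 (if hx : x ∈ s then (hdeg x hx).choose else 1)
    rw [dif_pos hx]
    exact (hdeg x hx).choose_spec.2
  have hzero : ∀ (j : ℤ) (y : T), j < 0 → y ∈ 𝒯 j → y = 0 := by
    intro j y hj hy
    rw [hpos j hj, Submodule.mem_bot] at hy
    exact hy
  -- all homogeneous elements lie in the subalgebra generated by `s`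
  have key : ∀ n : ℕ, ∀ t : T, t ∈ 𝒯 (n : ℤ) → t ∈ Algebra.adjoin k (s : Set T) := by
    intro n
    induction n using Nat.strong_induction_on with
    | _ n ih =>
      intro t ht
      rcases Nat.eq_zero_or_pos n with hn | hn
      · subst hn
        rw [Nat.cast_zero, h0, Submodule.mem_span_singleton] at ht
        obtain ⟨c, rfl⟩ := ht
        rw [← Algebra.algebraMap_eq_smul_one]
        exact Subalgebra.algebraMap_mem _ c
      · have htI : t ∈ Ideal.span (⋃ n ∈ Set.Ioi (0 : ℤ), (𝒯 n : Set T)) :=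
          Ideal.subset_span (Set.mem_iUnion₂.mpr ⟨(n : ℤ), by
            show (0 : ℤ) < n
            exact_mod_cast hn, ht⟩)
        have htI' : t ∈ Submodule.span T (s : Set T) := by
          rw [← hs2]
          exact htI
        obtain ⟨f, -, hf⟩ := Submodule.mem_span_finset.mp htI'
        have h1 : t = ∑ x ∈ s, ((decompose 𝒯 (f x * x)) (n : ℤ) : T) := by
          have h2 : ((decompose 𝒯 t) (n : ℤ) : T) = t := DirectSum.decompose_of_mem_same 𝒯 ht
          rw [← h2, ← hf, DirectSum.decompose_sum, DFinsupp.finsetSum_apply,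
            AddSubmonoidClass.coe_finsetSum]
          rfl
        rw [h1]
        refine Subalgebra.sum_mem _ (fun x hx => ?_)
        have h3 : ((decompose 𝒯 (f x * x)) (n : ℤ) : T) =
            ((decompose 𝒯 (f x)) ((n : ℤ) - deg x) : T) * x := by
          have h4 := DirectSum.coe_decompose_mul_add_of_right_mem 𝒯 (a := f x) (b := x)
            (i := (n : ℤ) - deg x) (j := deg x) (hdegmem x hx)
          rw [sub_add_cancel] at h4
          exact h4
        rw [h3]
        refine Subalgebra.mul_mem _ ?_ (Algebra.subset_adjoin hx)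
        have h5 : ((decompose 𝒯 (f x)) ((n : ℤ) - deg x) : T) ∈ 𝒯 ((n : ℤ) - deg x) :=
          SetLike.coe_mem _
        generalize ((decompose 𝒯 (f x)) ((n : ℤ) - deg x) : T) = y at h5
        by_cases hneg : (n : ℤ) - deg x < 0
        · rw [hzero _ y hneg h5]
          exact zero_mem _
        · rw [not_lt] at hneg
          obtain ⟨m, hm⟩ := Int.eq_ofNat_of_zero_le hneg
          have hmn : m < n := by
            have := hdegpos x hx
            omega
          rw [hm] at h5
          exact ih m hmn _ h5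
  refine ⟨⟨s, ?_⟩⟩
  rw [eq_top_iff]
  intro t _
  rw [← DirectSum.sum_support_decompose 𝒯 t]
  refine Subalgebra.sum_mem _ (fun i _ => ?_)
  have h5 : ((decompose 𝒯 t) i : T) ∈ 𝒯 i := SetLike.coe_mem _
  generalize ((decompose 𝒯 t) i : T) = y at h5
  by_cases hneg : i < 0
  · rw [hzero _ y hneg h5]
    exact zero_mem _
  · rw [not_lt] at hneg
    obtain ⟨m, hm⟩ := Int.eq_ofNat_of_zero_le hneg
    rw [hm] at h5
    exact key m _ h5

end Groth.Agent.Lib.H6xGrFT
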