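/-
H6xGrModAway (helper6): for an `ℕ`-graded `R`-algebra `S`, `f ∈ S_1`, an isomorphism
`e : S_(f) ≅ R'` and a finite `R'`-module `M`, a finite graded `S`-module `N` with `N_(f) ≅ M`.
-/
import Mathlib

set_option autoImplicit false
universe u

namespace Groth.Agent.Lib.H6xGrModAway

open DirectSum HomogeneousLocalization

section Psi

variable {R S : Type u} [CommRing R] [CommRing S] [Algebra R S] (𝒜 : ℕ → Submodule R S)
  [GradedAlgebra 𝒜] {f : S} (hf : f ∈ 𝒜 1)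

/-- `f ^ i` as an element of `Submonoid.powers f`. -/
def powF (f : S) (i : ℕ) : Submonoid.powers f := ⟨f ^ i, i, rfl⟩

lemma powF_zero (f : S) : powF f 0 = 1 := Subtype.ext (pow_zero f)

lemma powF_add (f : S) (i j : ℕ) : powF f (i + j) = powF f i * powF f j :=
  Subtype.ext (pow_add f i j)

/-- `s / f^i` for `s ∈ 𝒜 i`. -/
noncomputable def awayMk (i : ℕ) (s : 𝒜 i) : Away 𝒜 f :=
  Away.mk 𝒜 hf i s.1 (by simp)

lemma val_awayMk (i : ℕ) (s : 𝒜 i) :
    (awayMk 𝒜 hf i s).val = Localization.mk s.1 (powF f i) :=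
  Away.val_mk ..

noncomputable def awayMkHom (i : ℕ) : 𝒜 i →+ Away 𝒜 f where
  toFun := awayMk 𝒜 hf i
  map_zero' := by
    apply val_injective
    rw [val_awayMk, val_zero]
    exact Localization.mk_zero _
  map_add' a b := by
    apply val_injective
    rw [val_add, val_awayMk, val_awayMk, val_awayMk, Localization.add_mk_self]
    rfl

lemma awayMkHom_apply (i : ℕ) (s : 𝒜 i) : awayMkHom 𝒜 hf i s = awayMk 𝒜 hf i s := rfl

noncomputable def psi0 : S →+* Away 𝒜 f :=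
  (DirectSum.toSemiring (awayMkHom 𝒜 hf)
    (by
      apply val_injective
      rw [awayMkHom_apply, val_awayMk, val_one]
      rw [powF_zero]
      exact Localization.mk_one)
    (by
      intro i j a b
      apply val_injective
      rw [val_mul, awayMkHom_apply, awayMkHom_apply, awayMkHom_apply, val_awayMk, val_awayMk,
        val_awayMk, Localization.mk_mul]
      rw [powF_add]
      rfl)).comp
  (DirectSum.decomposeRingEquiv 𝒜).toRingHom

lemma psi0_of_mem {i : ℕ} {s : S} (hs : s ∈ 𝒜 i) : psi0 𝒜 hf s = awayMk 𝒜 hf i ⟨s, hs⟩ := by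
  unfold psi0
  rw [RingHom.comp_apply]
  have : (DirectSum.decomposeRingEquiv 𝒜).toRingHom s = DirectSum.of _ i ⟨s, hs⟩ :=
    DirectSum.decompose_of_mem 𝒜 hs
  rw [this, DirectSum.toSemiring_of]
  rfl

lemma psi0_f : psi0 𝒜 hf f = 1 := by
  rw [psi0_of_mem 𝒜 hf hf]
  apply val_injective
  rw [val_awayMk, val_one]
  have h1 : (f : S) = (powF f 1 : S) := (pow_one f).symm
  have h2 : Localization.mk f (powF f 1) = Localization.mk (powF f 1 : S) (powF f 1) := by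
    congr 1
  rw [h2]
  exact Localization.mk_self (powF f 1)

lemma val_psi0_algebraMap (r : R) :
    (psi0 𝒜 hf (algebraMap R S r)).val = algebraMap S (Localization.Away f) (algebraMap R S r) := by
  rw [psi0_of_mem 𝒜 hf (SetLike.algebraMap_mem_graded 𝒜 r), val_awayMk]
  rw [powF_zero, Localization.mk_one_eq_algebraMap]

end Psi

section Via

variable {R S R' : Type u} [CommRing R] [CommRing S] [CommRing R'] [Algebra R S] [Algebra R R']

/-- `M` viewed as an `S`-module through `ψ : S →ₐ[R] R'`. -/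
@[nolint unusedArguments]
def Via (_ψ : S →ₐ[R] R') (M : Type u) : Type u := M

variable (ψ : S →ₐ[R] R') (M : Type u) [AddCommGroup M] [Module R' M] [Module R M]
  [IsScalarTower R R' M]

instance : AddCommGroup (Via ψ M) := inferInstanceAs (AddCommGroup M)
instance : Module R' (Via ψ M) := inferInstanceAs (Module R' M)
instance : Module R (Via ψ M) := inferInstanceAs (Module R M)
instance : IsScalarTower R R' (Via ψ M) := inferInstanceAs (IsScalarTower R R' M)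
instance : Module S (Via ψ M) := Module.compHom M ψ.toRingHom

omit [Module R M] [IsScalarTower R R' M] in
lemma via_smul_def (s : S) (x : Via ψ M) : s • x = (ψ s : R') • x := rfl

instance : IsScalarTower R S (Via ψ M) where
  smul_assoc r s x := by
    rw [via_smul_def, via_smul_def, map_smul, smul_assoc]

instance : SMulCommClass R S (Via ψ M) where
  smul_comm r s x := by
    rw [via_smul_def, via_smul_def, smul_comm]

variable (𝒜 : ℕ → Submodule R S) [GradedAlgebra 𝒜] {ι : Type} (m : ι → Via ψ M)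

/-- The degree-`k` piece: the `R`-span of the `s • m i`, `s ∈ 𝒜 k`. -/
def Nk (k : ℕ) : Submodule R (Via ψ M) :=
  Submodule.span R {x | ∃ s ∈ 𝒜 k, ∃ i, x = s • m i}

instance : SetLike.GradedSMul 𝒜 (Nk ψ M 𝒜 m) where
  smul_mem := by
    intro i j s n hs hn
    show s • n ∈ Nk ψ M 𝒜 m (i + j)
    induction hn using Submodule.span_induction with
    | mem x hx =>
      obtain ⟨t, ht, l, rfl⟩ := hx
      rw [smul_smul]
      exact Submodule.subset_span ⟨s * t, SetLike.mul_mem_graded hs ht, l, rfl⟩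
    | zero => rw [smul_zero]; exact Submodule.zero_mem _
    | add x y _ _ hx hy => rw [smul_add]; exact Submodule.add_mem _ hx hy
    | smul r x _ hx => rw [smul_comm]; exact Submodule.smul_mem _ r hx

/-- The graded module. -/
def NN : Type u := ⨁ k, Nk ψ M 𝒜 m k

noncomputable instance : AddCommGroup (NN ψ M 𝒜 m) :=
  inferInstanceAs (AddCommGroup (⨁ k, Nk ψ M 𝒜 m k))

noncomputable instance : Module R (NN ψ M 𝒜 m) :=
  inferInstanceAs (Module R (⨁ k, Nk ψ M 𝒜 m k))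

noncomputable instance : Module S (NN ψ M 𝒜 m) := GradedModule.isModule 𝒜 (Nk ψ M 𝒜 m)

/-- The inclusion of the degree-`j` piece. -/
noncomputable def ofN (j : ℕ) : Nk ψ M 𝒜 m j →ₗ[R] NN ψ M 𝒜 m :=
  DirectSum.lof R ℕ (fun k => Nk ψ M 𝒜 m k) j

lemma NN_induction {motive : NN ψ M 𝒜 m → Prop} (zero : motive 0)
    (of : ∀ j y, motive (ofN ψ M 𝒜 m j y))
    (add : ∀ x y, motive x → motive y → motive (x + y)) (n : NN ψ M 𝒜 m) : motive n :=
  DirectSum.induction_on (motive := motive) n zero (fun j y => of j y) add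

lemma NN_linearMap_ext {P : Type u} [AddCommGroup P] [Module R P]
    {g h : NN ψ M 𝒜 m →ₗ[R] P} (hgh : ∀ j, g ∘ₗ ofN ψ M 𝒜 m j = h ∘ₗ ofN ψ M 𝒜 m j) : g = h :=
  DirectSum.linearMap_ext R hgh

lemma smul_of {i j : ℕ} {s : S} (hs : s ∈ 𝒜 i) (y : Nk ψ M 𝒜 m j) :
    s • ofN ψ M 𝒜 m j y =
      ofN ψ M 𝒜 m (i + j) ⟨s • y.1, SetLike.GradedSMul.smul_mem hs y.2⟩ := by
  show DirectSum.decompose 𝒜 s • (DirectSum.lof R ℕ (fun k => Nk ψ M 𝒜 m k) j y) =
    DirectSum.lof R ℕ (fun k => Nk ψ M 𝒜 m k) (i + j) _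
  rw [DirectSum.decompose_of_mem 𝒜 hs, DirectSum.lof_eq_of, DirectSum.lof_eq_of,
    DirectSum.Gmodule.of_smul_of]
  rfl

omit [GradedAlgebra 𝒜] in
lemma of_congr {i j : ℕ} (h : i = j) (x : Nk ψ M 𝒜 m i) (y : Nk ψ M 𝒜 m j) (hxy : x.1 = y.1) :
    ofN ψ M 𝒜 m i x = ofN ψ M 𝒜 m j y := by
  subst h
  congr 1
  exact Subtype.ext hxy

instance : IsScalarTower R S (NN ψ M 𝒜 m) := by
  apply IsScalarTower.of_algebraMap_smul
  intro r n
  induction n using NN_induction with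
  | zero => rw [smul_zero, smul_zero]
  | of j y =>
    rw [smul_of ψ M 𝒜 m (SetLike.algebraMap_mem_graded 𝒜 r) y, ← map_smul]
    refine of_congr ψ M 𝒜 m (zero_add j) _ _ ?_
    show algebraMap R S r • y.1 = r • y.1
    rw [algebraMap_smul]
  | add x y hx hy => rw [smul_add, smul_add, hx, hy]

/-- The internal grading of `NN`. -/
noncomputable def gr (k : ℕ) : Submodule R (NN ψ M 𝒜 m) :=
  LinearMap.range (ofN ψ M 𝒜 m k)

omit [GradedAlgebra 𝒜] in
lemma of_mem_gr (k : ℕ) (y : Nk ψ M 𝒜 m k) : ofN ψ M 𝒜 m k y ∈ gr ψ M 𝒜 m k := ⟨y, rfl⟩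

/-- The decomposition map. -/
noncomputable def decomp : NN ψ M 𝒜 m →ₗ[R] ⨁ i, gr ψ M 𝒜 m i :=
  DirectSum.toModule R ℕ _ fun k =>
    (DirectSum.lof R ℕ (fun k => gr ψ M 𝒜 m k) k) ∘ₗ (ofN ψ M 𝒜 m k).rangeRestrict

omit [GradedAlgebra 𝒜] in
lemma decomp_ofN (k : ℕ) (y : Nk ψ M 𝒜 m k) :
    decomp ψ M 𝒜 m (ofN ψ M 𝒜 m k y) =
      DirectSum.lof R ℕ (fun k => gr ψ M 𝒜 m k) k ⟨ofN ψ M 𝒜 m k y, of_mem_gr ψ M 𝒜 m k y⟩ := by
  exact DirectSum.toModule_lof R (φ := fun k =>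
    (DirectSum.lof R ℕ (fun k => gr ψ M 𝒜 m k) k) ∘ₗ (ofN ψ M 𝒜 m k).rangeRestrict) k y

noncomputable instance : DirectSum.Decomposition (gr ψ M 𝒜 m) :=
  DirectSum.Decomposition.ofLinearMap (gr ψ M 𝒜 m) (decomp ψ M 𝒜 m)
    (by
      apply NN_linearMap_ext
      intro k
      ext y
      simp only [LinearMap.coe_comp, Function.comp_apply, LinearMap.id_coe, id_eq]
      rw [decomp_ofN, DirectSum.coeLinearMap_lof])
    (by
      apply DirectSum.linearMap_ext
      intro k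
      ext ⟨y, hy⟩
      obtain ⟨x, rfl⟩ := hy
      simp only [LinearMap.coe_comp, Function.comp_apply, LinearMap.id_coe, id_eq]
      rw [DirectSum.coeLinearMap_lof]
      exact congrArg (fun z => ((z : ⨁ i, gr ψ M 𝒜 m i) _ : NN ψ M 𝒜 m)) (decomp_ofN ψ M 𝒜 m k x))

instance : SetLike.GradedSMul 𝒜 (gr ψ M 𝒜 m) where
  smul_mem := by
    rintro i j s n hs ⟨y, rfl⟩
    rw [smul_of ψ M 𝒜 m hs y]
    exact of_mem_gr ψ M 𝒜 m _ _

/-- Sum of the components, as an `R`-linear map. -/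
noncomputable def ev0 : NN ψ M 𝒜 m →ₗ[R] Via ψ M :=
  DirectSum.toModule R ℕ _ fun k => (Nk ψ M 𝒜 m k).subtype

omit [GradedAlgebra 𝒜] in
lemma ev0_of (k : ℕ) (y : Nk ψ M 𝒜 m k) :
    ev0 ψ M 𝒜 m (ofN ψ M 𝒜 m k y) = y.1 := by
  exact DirectSum.toModule_lof R (φ := fun k => (Nk ψ M 𝒜 m k).subtype) k y

lemma ev0_smul (s : S) (n : NN ψ M 𝒜 m) : ev0 ψ M 𝒜 m (s • n) = s • ev0 ψ M 𝒜 m n := by
  induction s using DirectSum.Decomposition.inductionOn 𝒜 with
  | zero => rw [zero_smul, zero_smul, map_zero]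
  | @homogeneous i s =>
    induction n using NN_induction with
    | zero => rw [smul_zero, map_zero, smul_zero]
    | of j y => rw [smul_of ψ M 𝒜 m s.2 y, ev0_of, ev0_of]
    | add x y hx hy => rw [smul_add, map_add, map_add, smul_add, hx, hy]
  | add s t hs ht => rw [add_smul, map_add, hs, ht, add_smul]

/-- Sum of the components, as an `S`-linear map. -/
noncomputable def ev : NN ψ M 𝒜 m →ₗ[S] Via ψ M where
  toFun := ev0 ψ M 𝒜 m
  map_add' := map_add _
  map_smul' := ev0_smul ψ M 𝒜 m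

lemma ev_of (k : ℕ) (y : Nk ψ M 𝒜 m k) :
    ev ψ M 𝒜 m (ofN ψ M 𝒜 m k y) = y.1 := ev0_of ψ M 𝒜 m k y

lemma m_mem (l : ι) : m l ∈ Nk ψ M 𝒜 m 0 :=
  Submodule.subset_span ⟨1, SetLike.one_mem_graded 𝒜, l, (one_smul S _).symm⟩

/-- The generators of `NN`. -/
noncomputable def gen (l : ι) : NN ψ M 𝒜 m :=
  ofN ψ M 𝒜 m 0 ⟨m l, m_mem ψ M 𝒜 m l⟩

lemma of_mem_span (k : ℕ) (y : Via ψ M) (hy : y ∈ Nk ψ M 𝒜 m k) :
    ofN ψ M 𝒜 m k ⟨y, hy⟩ ∈ Submodule.span S (Set.range (gen ψ M 𝒜 m)) := by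
  induction hy using Submodule.span_induction with
  | mem x hx =>
    obtain ⟨s, hs, l, rfl⟩ := hx
    have : ofN ψ M 𝒜 m k ⟨s • m l, Submodule.subset_span ⟨s, hs, l, rfl⟩⟩ =
        s • gen ψ M 𝒜 m l := by
      unfold gen
      rw [smul_of ψ M 𝒜 m hs]
      exact of_congr ψ M 𝒜 m (add_zero k).symm _ _ rfl
    rw [this]
    exact Submodule.smul_mem _ _ (Submodule.subset_span ⟨l, rfl⟩)
  | zero =>
    have : ofN ψ M 𝒜 m k ⟨0, Submodule.zero_mem _⟩ = 0 := map_zero _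
    rw [this]
    exact Submodule.zero_mem _
  | add x y hx hy ihx ihy =>
    have : ofN ψ M 𝒜 m k ⟨x + y, Submodule.add_mem _ hx hy⟩ =
        ofN ψ M 𝒜 m k ⟨x, hx⟩ + ofN ψ M 𝒜 m k ⟨y, hy⟩ := by
      rw [← map_add]; rfl
    rw [this]
    exact Submodule.add_mem _ ihx ihy
  | smul r x hx ihx =>
    have : ofN ψ M 𝒜 m k ⟨r • x, Submodule.smul_mem _ r hx⟩ =
        r • ofN ψ M 𝒜 m k ⟨x, hx⟩ := by
      rw [← map_smul]; rfl
    rw [this]
    exact Submodule.smul_of_tower_mem _ r ihx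

lemma span_gen : Submodule.span S (Set.range (gen ψ M 𝒜 m)) = ⊤ := by
  rw [eq_top_iff]
  rintro n -
  induction n using NN_induction with
  | zero => exact Submodule.zero_mem _
  | of j y => exact of_mem_span ψ M 𝒜 m j y.1 y.2
  | add x y hx hy => exact Submodule.add_mem _ hx hy

lemma finite_NN [Finite ι] : Module.Finite S (NN ψ M 𝒜 m) :=
  ⟨(Submodule.fg_def).2 ⟨Set.range (gen ψ M 𝒜 m), Set.finite_range _, span_gen ψ M 𝒜 m⟩⟩

section Loc

variable {f : S} (hf : f ∈ 𝒜 1) (hψf : ψ f = 1)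

/-- The localization of `NN` at `f`. -/
abbrev LN (f : S) : Type u := LocalizedModule (Submonoid.powers f) (NN ψ M 𝒜 m)

include hψf in
lemma isUnit_end (x : Submonoid.powers f) :
    IsUnit (algebraMap S (Module.End S (Via ψ M)) x) := by
  obtain ⟨_, n, rfl⟩ := x
  have : algebraMap S (Module.End S (Via ψ M)) (f ^ n) = 1 := by
    ext y
    show (f ^ n) • y = y
    rw [via_smul_def, map_pow, hψf, one_pow, one_smul]
  rw [this]
  exact isUnit_one

/-- The evaluation map on the localization. -/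
noncomputable def L : LN ψ M 𝒜 m f →ₗ[S] Via ψ M :=
  LocalizedModule.lift (Submonoid.powers f) (ev ψ M 𝒜 m) (isUnit_end ψ M hψf)

lemma L_mk_one (n : NN ψ M 𝒜 m) :
    L ψ M 𝒜 m hψf (LocalizedModule.mk n 1) = ev ψ M 𝒜 m n := by
  have := LocalizedModule.lift_comp (Submonoid.powers f) (ev ψ M 𝒜 m) (isUnit_end ψ M hψf)
  exact LinearMap.congr_fun this n

lemma L_pow_smul (k : ℕ) (x : LN ψ M 𝒜 m f) :
    L ψ M 𝒜 m hψf (f ^ k • x) = L ψ M 𝒜 m hψf x := by
  rw [map_smul, via_smul_def, map_pow, hψf, one_pow, one_smul]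

include hf in
lemma pow_mem (k : ℕ) : f ^ k ∈ 𝒜 k := by
  have := SetLike.pow_mem_graded k hf
  rwa [smul_eq_mul, mul_one] at this

/-- The degree-zero part of the localization. -/
def Nf : Submodule R (LN ψ M 𝒜 m f) where
  carrier := {x | ∃ k : ℕ, ∃ n ∈ gr ψ M 𝒜 m k, f ^ k • x = LocalizedModule.mk n 1}
  zero_mem' := ⟨0, 0, Submodule.zero_mem _, by rw [smul_zero, LocalizedModule.zero_mk]⟩
  add_mem' := by
    rintro x y ⟨k, n, hn, hx⟩ ⟨k', n', hn', hy⟩
    have h1 : f ^ k' • n ∈ gr ψ M 𝒜 m (k + k') := by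
      have := SetLike.GradedSMul.smul_mem (pow_mem 𝒜 hf k') hn
      rwa [vadd_eq_add, add_comm] at this
    have h2 : f ^ k • n' ∈ gr ψ M 𝒜 m (k + k') := by
      have := SetLike.GradedSMul.smul_mem (pow_mem 𝒜 hf k) hn'
      rwa [vadd_eq_add] at this
    refine ⟨k + k', f ^ k' • n + f ^ k • n', Submodule.add_mem _ h1 h2, ?_⟩
    rw [smul_add]
    have e1 : f ^ (k + k') • x = LocalizedModule.mk (f ^ k' • n) 1 := by
      rw [show f ^ (k + k') = f ^ k' * f ^ k by ring, mul_smul, hx, LocalizedModule.smul'_mk]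
    have e2 : f ^ (k + k') • y = LocalizedModule.mk (f ^ k • n') 1 := by
      rw [pow_add, mul_smul, hy, LocalizedModule.smul'_mk]
    rw [e1, e2, LocalizedModule.mk_add_mk, one_smul, one_smul, mul_one]
  smul_mem' := by
    rintro r x ⟨k, n, hn, hx⟩
    exact ⟨k, r • n, Submodule.smul_mem _ r hn, by
      rw [smul_comm, hx, LocalizedModule.smul'_mk]⟩

lemma mem_Nf (x : LN ψ M 𝒜 m f) : x ∈ Nf ψ M 𝒜 m hf ↔
    ∃ k : ℕ, ∃ n ∈ gr ψ M 𝒜 m k, f ^ k • x = LocalizedModule.mk n 1 := Iff.rfl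

/-- The restriction of `L` to `Nf`. -/
noncomputable def Lres : Nf ψ M 𝒜 m hf →ₗ[R] Via ψ M :=
  ((L ψ M 𝒜 m hψf).restrictScalars R).domRestrict (Nf ψ M 𝒜 m hf)

lemma Lres_apply (x : Nf ψ M 𝒜 m hf) : Lres ψ M 𝒜 m hf hψf x = L ψ M 𝒜 m hψf x.1 := rfl

lemma Lres_injective : Function.Injective (Lres ψ M 𝒜 m hf hψf) := by
  rw [injective_iff_map_eq_zero]
  rintro ⟨x, k, n, hn, hx⟩ h0
  rw [Lres_apply] at h0
  simp only at h0
  have h1 : ev ψ M 𝒜 m n = 0 := by
    rw [← L_mk_one ψ M 𝒜 m hψf, ← hx, L_pow_smul, h0]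
  obtain ⟨y, rfl⟩ := hn
  rw [ev_of] at h1
  have hy : y = 0 := Subtype.ext h1
  rw [hy, map_zero, LocalizedModule.zero_mk] at hx
  have hx0 : x = 0 := by
    have hinj := IsLocalizedModule.smul_injective
      (LocalizedModule.mkLinearMap (Submonoid.powers f) (NN ψ M 𝒜 m)) (powF f k)
    apply hinj
    show f ^ k • x = f ^ k • 0
    rw [hx, smul_zero]
  exact Subtype.ext hx0

variable (e : Away 𝒜 f ≃+* R')
  (Hψ : ∀ (i : ℕ) (s : S) (hs : s ∈ 𝒜 i), ψ s = e (awayMk 𝒜 hf i ⟨s, hs⟩))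

include Hψ in
lemma Lres_surjective [Fintype ι] (hm : Submodule.span R' (Set.range m) = ⊤) :
    Function.Surjective (Lres ψ M 𝒜 m hf hψf) := by
  intro y
  have hy : y ∈ Submodule.span R' (Set.range m) := hm ▸ Submodule.mem_top
  rw [Submodule.mem_span_range_iff_exists_fun] at hy
  obtain ⟨c, rfl⟩ := hy
  suffices h : ∀ l, c l • m l ∈ LinearMap.range (Lres ψ M 𝒜 m hf hψf) from
    LinearMap.mem_range.1 (Submodule.sum_mem _ fun l _ => h l)
  intro l
  obtain ⟨k, s, hs, hks⟩ := Away.mk_surjective 𝒜 hf (e.symm (c l))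
  have hs' : s ∈ 𝒜 k := by simpa using hs
  set n : NN ψ M 𝒜 m := ofN ψ M 𝒜 m k ⟨s • m l, Submodule.subset_span ⟨s, hs', l, rfl⟩⟩ with hn
  set x : LN ψ M 𝒜 m f := LocalizedModule.mk n (powF f k) with hx
  have hxN : f ^ k • x = LocalizedModule.mk n 1 := by
    rw [hx, LocalizedModule.smul'_mk]
    exact LocalizedModule.mk_cancel (powF f k) n
  refine ⟨⟨x, k, n, of_mem_gr ψ M 𝒜 m k _, hxN⟩, ?_⟩
  rw [Lres_apply]
  show L ψ M 𝒜 m hψf x = c l • m l
  rw [← L_pow_smul ψ M 𝒜 m hψf k x, hxN, L_mk_one, hn, ev_of]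
  show s • m l = c l • m l
  rw [via_smul_def, Hψ k s hs']
  have : awayMk 𝒜 hf k ⟨s, hs'⟩ = e.symm (c l) := hks
  rw [this, RingEquiv.apply_symm_apply]

include Hψ in
lemma Lres_compat (a : Away 𝒜 f) (x y : Nf ψ M 𝒜 m hf)
    (h : a.val • (x : LN ψ M 𝒜 m f) = y) :
    Lres ψ M 𝒜 m hf hψf y = e a • Lres ψ M 𝒜 m hf hψf x := by
  obtain ⟨d, s, hs, rfl⟩ := Away.mk_surjective 𝒜 hf a
  have hs' : s ∈ 𝒜 d := by simpa using hs
  have h1 : f ^ d • (y : LN ψ M 𝒜 m f) = s • (x : LN ψ M 𝒜 m f) := by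
    rw [← h, Away.val_mk, ← smul_assoc]
    have : f ^ d • (Localization.mk s (powF f d)) = algebraMap S (Localization.Away f) s := by
      rw [Localization.smul_mk, smul_eq_mul, Localization.mk_eq_mk']
      exact IsLocalization.mk'_mul_cancel_left s (powF f d)
    have h2 : f ^ d • (Localization.mk s ⟨f ^ d, d, rfl⟩ : Localization.Away f) =
        algebraMap S (Localization.Away f) s := this
    rw [h2, algebraMap_smul]
  rw [Lres_apply, Lres_apply, ← L_pow_smul ψ M 𝒜 m hψf d y, h1, map_smul, via_smul_def,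
    Hψ d s hs']
  rfl

end Loc

end Via

section Main

theorem main (R R' : Type u) [CommRing R] [CommRing R'] [Algebra R R']
    (M : Type u) [AddCommGroup M] [Module R' M] [Module R M] [IsScalarTower R R' M]
    [Module.Finite R' M]
    (S : Type u) [CommRing S] [Algebra R S] (𝒜 : ℕ → Submodule R S) [GradedAlgebra 𝒜] (f : S)
    (hf : f ∈ 𝒜 1) (e : HomogeneousLocalization.Away 𝒜 f ≃+* R')
    (he : ∀ r : R, (e.symm (algebraMap R R' r)).val =
      algebraMap S (Localization.Away f) (algebraMap R S r)) :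
    ∃ (N : Type u) (_ : AddCommGroup N) (_ : Module S N) (_ : Module R N)
      (_ : IsScalarTower R S N)
      (ℳ : ℕ → Submodule R N) (_ : DirectSum.Decomposition ℳ) (_ : SetLike.GradedSMul 𝒜 ℳ)
      (Nf : Submodule R (LocalizedModule (Submonoid.powers f) N)) (e' : ↥Nf ≃ₗ[R] M),
      Module.Finite S N ∧
      (∀ x, x ∈ Nf ↔ ∃ k : ℕ, ∃ n ∈ ℳ k, f ^ k • x = LocalizedModule.mk n 1) ∧
      (∀ (a : HomogeneousLocalization.Away 𝒜 f) (x y : ↥Nf),
        a.val • (x : LocalizedModule (Submonoid.powers f) N) = y → e' y = e a • e' x) := by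
  classical
  obtain ⟨r, m, hm⟩ := Module.Finite.exists_fin (R := R') (M := M)
  have hcomm : ∀ r : R, (e.toRingHom.comp (psi0 𝒜 hf)) (algebraMap R S r) = algebraMap R R' r := by
    intro r
    rw [RingHom.comp_apply]
    have : psi0 𝒜 hf (algebraMap R S r) = e.symm (algebraMap R R' r) := by
      apply HomogeneousLocalization.val_injective
      rw [val_psi0_algebraMap, he]
    rw [this]
    exact e.apply_symm_apply _
  let ψ : S →ₐ[R] R' := { (e.toRingHom.comp (psi0 𝒜 hf)) with commutes' := hcomm }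
  have Hψ : ∀ (i : ℕ) (s : S) (hs : s ∈ 𝒜 i), ψ s = e (awayMk 𝒜 hf i ⟨s, hs⟩) := by
    intro i s hs
    show e (psi0 𝒜 hf s) = _
    rw [psi0_of_mem 𝒜 hf hs]
  have hψf : ψ f = 1 := by
    show e (psi0 𝒜 hf f) = 1
    rw [psi0_f, map_one]
  have hm' : Submodule.span R' (Set.range (m : Fin r → Via ψ M)) = ⊤ := hm
  refine ⟨NN ψ M 𝒜 m, inferInstance, inferInstance, inferInstance, inferInstance,
    gr ψ M 𝒜 m, inferInstance, inferInstance, Nf ψ M 𝒜 m hf,
    LinearEquiv.ofBijective (Lres ψ M 𝒜 m hf hψf)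
      ⟨Lres_injective ψ M 𝒜 m hf hψf, Lres_surjective ψ M 𝒜 m hf hψf e Hψ hm'⟩,
    finite_NN ψ M 𝒜 m, fun x => mem_Nf ψ M 𝒜 m hf x, ?_⟩
  intro a x y h
  exact Lres_compat ψ M 𝒜 m hf hψf e Hψ a x y h

end Main

end Groth.Agent.Lib.H6xGrModAway
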