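import Mathlib
import Groth.Prelude.Def_KGr
import Groth.Agent.Lib.H6xGrCh
import Groth.Agent.Lib.H6xLamT

/-!
# Multiplicativity of the Chern character (helper6)
-/

set_option autoImplicit false
universe u v
open LambdaRing MvPolynomial
open scoped TensorProduct

namespace Groth.Agent.Lib.H6xGrMul

open Groth.Agent.Lib.Helper4 Groth.Agent.Lib.Helper4.LUniv Groth.Agent.Lib.H6xGr
open Groth.Agent.Lib.H6xLamW Groth.Agent.Lib.H6xLamS Groth.Agent.Lib.H6xGrCh
open Groth.Agent.Lib.H6xLamU Groth.Agent.Lib.H6xLamT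

section General

variable {K : Type*} [CommRing K] [LambdaOps K]

/-- `ψ_γ^k` as an additive map -/
noncomputable def psiGHom (k : ℕ) : K →+ K where
  toFun := psiG k
  map_zero' := psiG_zero_arg k
  map_add' := psiG_add k

lemma psiGHom_apply (k : ℕ) (x : K) : psiGHom k x = psiG k x := rfl

lemma psiG_neg (k : ℕ) (x : K) : psiG k (-x) = -psiG k x := map_neg (psiGHom k) x

lemma psiG_sub (k : ℕ) (x y : K) : psiG k (x - y) = psiG k x - psiG k y := map_sub (psiGHom k) x y

lemma psiG_zsmul (k : ℕ) (m : ℤ) (x : K) : psiG k (m • x) = m • psiG k x :=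
  map_zsmul (psiGHom k) m x

lemma psiG_eq_aeval (k : ℕ) (x : K) :
    psiG (k + 1) x = aeval (fun i => gamma (i + 1) x) (nu (k + 1)) :=
  nu_spec (fun j => gamma j x) (fun k => psiG k x) (gamma_zero' x) (newtonG x) k

/-- ring maps commuting with the γ-operations commute with `ψ_γ` -/
theorem map_psiG {K' : Type*} [CommRing K'] [LambdaOps K'] (f : K →+* K')
    (hf : ∀ n a, f (gamma n a) = gamma n (f a)) (k : ℕ) (x : K) :
    f (psiG (k + 1) x) = psiG (k + 1) (f x) := by
  rw [psiG_eq_aeval, psiG_eq_aeval, ringHom_aeval_gen]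
  simp only [hf]

/-- the defect of the product formula for `ψ_γ^{n+1}` -/
noncomputable def Ek (n : ℕ) (z w : K) : K :=
  psiG (n + 1) (z * w) - ∑ i ∈ Finset.range n,
    ((n + 1).choose (i + 1) : ℤ) • (psiG (i + 1) z * psiG (n - i) w)

lemma Ek_add_left (n : ℕ) (z z' w : K) : Ek n (z + z') w = Ek n z w + Ek n z' w := by
  simp only [Ek, add_mul, psiG_add, smul_add, Finset.sum_add_distrib]
  ring

lemma Ek_add_right (n : ℕ) (z w w' : K) : Ek n z (w + w') = Ek n z w + Ek n z w' := by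
  simp only [Ek, mul_add, psiG_add, smul_add, Finset.sum_add_distrib]
  ring

lemma Ek_zero_left (n : ℕ) (w : K) : Ek n 0 w = 0 := by
  simp [Ek, psiG_zero_arg]

lemma Ek_zero_right (n : ℕ) (z : K) : Ek n z 0 = 0 := by
  simp [Ek, psiG_zero_arg]

/-- `Ek n · w` as an additive map -/
noncomputable def EkL (n : ℕ) (w : K) : K →+ K where
  toFun z := Ek n z w
  map_zero' := Ek_zero_left n w
  map_add' z z' := Ek_add_left n z z' w

/-- `Ek n z ·` as an additive map -/
noncomputable def EkR (n : ℕ) (z : K) : K →+ K where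
  toFun w := Ek n z w
  map_zero' := Ek_zero_right n z
  map_add' w w' := Ek_add_right n z w w'

theorem map_Ek {K' : Type*} [CommRing K'] [LambdaOps K'] (f : K →+* K')
    (hf : ∀ n a, f (gamma n a) = gamma n (f a)) (n : ℕ) (z w : K) :
    f (Ek n z w) = Ek n (f z) (f w) := by
  simp only [Ek, map_sub, map_sum, map_zsmul, map_mul]
  rw [map_psiG f hf, map_mul]
  congr 1
  apply Finset.sum_congr rfl
  intro i hi
  rw [Finset.mem_range] at hi
  obtain ⟨m, hm⟩ : ∃ m, n - i = m + 1 := ⟨n - i - 1, by omega⟩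
  rw [hm, map_psiG f hf, map_psiG f hf]

end General

section WLevel

attribute [local instance] lamW

variable (σ : Type u)

lemma sub_one_mem (α : σ →₀ ℕ) : monomial α (1 : ℤ) - 1 ∈ IWn σ 1 := monomial_sub_one_mem σ α

lemma pow_mem_IWn {z : MvPolynomial σ ℤ} (hz : z ∈ IWn σ 1) (k : ℕ) : z ^ k ∈ IWn σ k := by
  induction k with
  | zero => rw [IWn_zero]; trivial
  | succ k ih =>
    rw [pow_succ]
    exact IWn_mul σ ih hz

/-- the product formula modulo `I^{n+2}` for monomials minus one -/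
lemma Ek_monomial (n : ℕ) (a b : σ →₀ ℕ) :
    Ek n (monomial a (1 : ℤ) - 1) (monomial b (1 : ℤ) - 1) ∈ IWn σ (n + 2) := by
  have h1 := (isSpecial_W σ).lam_one_eq_zero
  set α : MvPolynomial σ ℤ := monomial a (1 : ℤ) - 1 with hα
  set β : MvPolynomial σ ℤ := monomial b (1 : ℤ) - 1 with hβ
  have hαI : α ∈ IWn σ 1 := sub_one_mem σ a
  have hβI : β ∈ IWn σ 1 := sub_one_mem σ b
  have hpa : ∀ k, psiG (k + 1) α = α ^ (k + 1) := fun k =>
    psiG_sub_one h1 _ (lam_monomial_eq_zero σ a) k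
  have hpb : ∀ k, psiG (k + 1) β = β ^ (k + 1) := fun k =>
    psiG_sub_one h1 _ (lam_monomial_eq_zero σ b) k
  have hab : α * β = (monomial (a + b) (1 : ℤ) - 1) - α - β := by
    rw [hα, hβ]
    have : monomial (a + b) (1 : ℤ) = monomial a 1 * monomial b 1 := by
      rw [monomial_mul, one_mul]
    rw [this]; ring
  have hpab : psiG (n + 1) (α * β) = (α + β + α * β) ^ (n + 1) - α ^ (n + 1) - β ^ (n + 1) := by
    rw [hab, psiG_sub, psiG_sub, hpa, hpb,
      psiG_sub_one h1 _ (lam_monomial_eq_zero σ (a + b)) n]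
    congr 3
    ring
  have hsum : ∑ i ∈ Finset.range n,
      ((n + 1).choose (i + 1) : ℤ) • (psiG (i + 1) α * psiG (n - i) β) =
      (α + β) ^ (n + 1) - α ^ (n + 1) - β ^ (n + 1) := by
    rw [add_pow, Finset.sum_range_succ, Finset.sum_range_succ']
    simp only [pow_zero, Nat.sub_zero, Nat.choose_zero_right, Nat.cast_one, mul_one, one_mul,
      Nat.sub_self, Nat.choose_self]
    rw [show ∀ X Y Z : MvPolynomial σ ℤ, X + Z + Y - Y - Z = X by intros; ring]
    apply Finset.sum_congr rfl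
    intro i hi
    rw [Finset.mem_range] at hi
    obtain ⟨m, hm⟩ : ∃ m, n - i = m + 1 := ⟨n - i - 1, by omega⟩
    rw [hm, hpa, hpb, ← hm, show n + 1 - (i + 1) = n - i by omega, zsmul_eq_mul]
    push_cast
    ring
  rw [Ek, hpab, hsum]
  have : (α + β + α * β) ^ (n + 1) - α ^ (n + 1) - β ^ (n + 1) -
      ((α + β) ^ (n + 1) - α ^ (n + 1) - β ^ (n + 1)) =
      (∑ i ∈ Finset.range (n + 1), (α + β + α * β) ^ i * (α + β) ^ (n + 1 - 1 - i)) * (α * β) := by
    have := Commute.geom_sum₂_mul (Commute.all (α + β + α * β) (α + β)) (n + 1)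
    rw [show α + β + α * β - (α + β) = α * β by ring] at this
    rw [this]; ring
  rw [this]
  have h2 : α * β ∈ IWn σ 2 := IWn_mul σ hαI hβI
  have h3 : ∑ i ∈ Finset.range (n + 1), (α + β + α * β) ^ i * (α + β) ^ (n + 1 - 1 - i) ∈
      IWn σ n := by
    refine Ideal.sum_mem _ fun i hi => ?_
    rw [Finset.mem_range] at hi
    have hu : α + β + α * β ∈ IWn σ 1 :=
      Ideal.add_mem _ (Ideal.add_mem _ hαI hβI) (Ideal.mul_mem_right _ _ hαI)
    have hv : α + β ∈ IWn σ 1 := Ideal.add_mem _ hαI hβI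
    have := IWn_mul σ (pow_mem_IWn σ hu i) (pow_mem_IWn σ hv (n + 1 - 1 - i))
    rwa [show i + (n + 1 - 1 - i) = n by omega] at this
  exact IWn_mul σ h3 h2

/-- centring map `z ↦ z - ε(z)` -/
noncomputable def centre : MvPolynomial σ ℤ →+ MvPolynomial σ ℤ :=
  AddMonoidHom.id _ - (C : ℤ →+* MvPolynomial σ ℤ).toAddMonoidHom.comp
    (augW σ).toRingHom.toAddMonoidHom

lemma centre_apply (z : MvPolynomial σ ℤ) : centre σ z = z - C (augW σ z) := rfl

lemma centre_monomial (α : σ →₀ ℕ) : centre σ (monomial α 1) = monomial α (1 : ℤ) - 1 := by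
  rw [centre_apply, augW_monomial, C_1]

lemma centre_of_mem {z : MvPolynomial σ ℤ} (hz : z ∈ IWn σ 1) : centre σ z = z := by
  rw [centre_apply, (mem_IWn_one σ z).mp hz, map_zero, sub_zero]

/-- the product formula modulo `I^{n+2}` on the augmentation ideal of `ℤ[T]` -/
theorem Ek_mem (n : ℕ) {z w : MvPolynomial σ ℤ} (hz : z ∈ IWn σ 1) (hw : w ∈ IWn σ 1) :
    Ek n z w ∈ IWn σ (n + 2) := by
  -- second variable
  have step1 : ∀ (a : σ →₀ ℕ) (w : MvPolynomial σ ℤ), w ∈ IWn σ 1 →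
      Ek n (monomial a (1 : ℤ) - 1) w ∈ IWn σ (n + 2) := by
    intro a w hw
    let f : MvPolynomial σ ℤ →+ MvPolynomial σ ℤ ⧸ IWn σ (n + 2) :=
      (Ideal.Quotient.mk (IWn σ (n + 2))).toAddMonoidHom.comp
        ((EkR n (monomial a (1 : ℤ) - 1)).comp (centre σ))
    have hf : f = 0 := by
      apply addHom_ext
      intro b
      change Ideal.Quotient.mk (IWn σ (n + 2))
        (Ek n (monomial a (1 : ℤ) - 1) (centre σ (monomial b 1))) = 0
      rw [centre_monomial, Ideal.Quotient.eq_zero_iff_mem]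
      exact Ek_monomial σ n a b
    have := DFunLike.congr_fun hf w
    change Ideal.Quotient.mk (IWn σ (n + 2))
      (Ek n (monomial a (1 : ℤ) - 1) (centre σ w)) = 0 at this
    rwa [centre_of_mem σ hw, Ideal.Quotient.eq_zero_iff_mem] at this
  let g : MvPolynomial σ ℤ →+ MvPolynomial σ ℤ ⧸ IWn σ (n + 2) :=
    (Ideal.Quotient.mk (IWn σ (n + 2))).toAddMonoidHom.comp ((EkL n w).comp (centre σ))
  have hg : g = 0 := by
    apply addHom_ext
    intro a
    change Ideal.Quotient.mk (IWn σ (n + 2)) (Ek n (centre σ (monomial a 1)) w) = 0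
    rw [centre_monomial, Ideal.Quotient.eq_zero_iff_mem]
    exact step1 a w hw
  have := DFunLike.congr_fun hg z
  change Ideal.Quotient.mk (IWn σ (n + 2)) (Ek n (centre σ z) w) = 0 at this
  rwa [centre_of_mem σ hz, Ideal.Quotient.eq_zero_iff_mem] at this

end WLevel

section Transfer

attribute [local instance 100] lamW
attribute [local instance 2000] lamU

variable {K : Type v} [CommRing K] [LambdaOps K] {P : PosStructure K}

/-- the universal defect of the product formula -/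
noncomputable def TEk (n : ℕ) : MvPolynomial (Fin 2 × ℕ) ℤ :=
  Ek n (X ((0 : Fin 2), 0)) (X ((1 : Fin 2), 0))

lemma xN'_mem (N : ℕ) (s : Fin 2) : xN' (Fin 2) N s ∈ IWn (Fin 2 × Fin N) 1 := by
  rw [mem_IWn_one, xN', map_sum]
  apply Finset.sum_eq_zero
  intro a _
  simp [augW]

/-- **product formula for `ψ_γ` modulo the γ-filtration** -/
theorem Ek_mem_gammaFiltration (hK : HasSplitting K P) (n : ℕ) (x y : K) (hx : P.aug x = 0)
    (hy : P.aug y = 0) : Ek n x y ∈ gammaFiltration P (n + 2) := by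
  have hA := isSpecial_of_hasSplitting hK
  let xs : Fin 2 → K := ![x, y]
  have h1 : phi (Fin 2) xs (TEk n) = Ek n x y := by
    have := map_Ek ((phi (Fin 2) xs : MvPolynomial (Fin 2 × ℕ) ℤ →ₐ[ℤ] K) : _ →+* K)
      (fun m a => phi_gamma (Fin 2) hA xs m a) n (X ((0 : Fin 2), 0)) (X ((1 : Fin 2), 0))
    rw [RingHom.coe_coe, phi_X0, phi_X0] at this
    exact this
  have h2 : ∀ N, PsiN' (Fin 2) N (TEk n) ∈ IWn (Fin 2 × Fin N) (n + 2) := by
    intro N
    rw [TEk, map_Ek (PsiN' (Fin 2) N) (fun m a => PsiN'_gamma (Fin 2) N m a)]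
    apply Ek_mem
    · rw [PsiN'_apply, phi_X0]; exact xN'_mem N 0
    · rw [PsiN'_apply, phi_X0]; exact xN'_mem N 1
  have h3 := transfer (Fin 2) hA xs (TEk n) (n + 2) h2
  rw [h1] at h3
  rw [mem_gammaFiltration_iff]
  refine Wspan_le (isMulFil_gammaFil (P.aug : K →+* ℤ)) (Fin 2) xs (fun s j => ?_) (n + 2) h3
  apply gamma_mem_gammaFil
  fin_cases s
  · exact hx
  · exact hy

end Transfer

end Groth.Agent.Lib.H6xGrMul
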