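import Mathlib
import Groth.Prelude.Def_KGr
import Groth.Agent.Lib.H6xGrMul
import Groth.Agent.Lib.H6xGrBij

/-!
# Multiplicativity of the Chern character, assembly (helper6)
-/

set_option autoImplicit false
universe u v
open LambdaRing
open scoped TensorProduct

namespace Groth.Agent.Lib.H6xGrMul

open Groth.Agent.Lib.Helper4 Groth.Agent.Lib.Helper4.LUniv Groth.Agent.Lib.H6xGr
open Groth.Agent.Lib.H6xLamW Groth.Agent.Lib.H6xLamS Groth.Agent.Lib.H6xGrCh
open Groth.Agent.Lib.H6xGrBij

section Comb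

/-- reindexing a triangular double sum -/
lemma sum_reindex {M : Type*} [AddCommMonoid M] (d : ℕ) (f : ℕ → ℕ → M)
    (hf : ∀ i j, d ≤ i + j + 1 → f i j = 0) :
    ∑ i ∈ Finset.range d, ∑ j ∈ Finset.range d, f i j =
      ∑ n ∈ Finset.range d, ∑ i ∈ Finset.range n, f i (n - 1 - i) := by
  have h1 : ∀ n ∈ Finset.range d, ∑ i ∈ Finset.range n, f i (n - 1 - i) =
      ∑ i ∈ Finset.range d, if i < n then f i (n - 1 - i) else 0 := by
    intro n hn
    rw [Finset.mem_range] at hn
    rw [← Finset.sum_filter]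
    congr 1
    ext i
    simp only [Finset.mem_range, Finset.mem_filter]
    omega
  rw [Finset.sum_congr rfl h1]
  conv_rhs => rw [Finset.sum_comm]
  apply Finset.sum_congr rfl
  intro i hi
  rw [Finset.mem_range] at hi
  rw [← Finset.sum_filter]
  have h2 : Finset.filter (fun n => i < n) (Finset.range d) = Finset.Ico (i + 1) d := by
    ext n
    simp only [Finset.mem_range, Finset.mem_filter, Finset.mem_Ico]
    omega
  rw [h2, Finset.sum_Ico_eq_sum_range]
  have h3 : ∀ j ∈ Finset.range (d - (i + 1)), f i (i + 1 + j - 1 - i) = f i j := by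
    intro j _
    congr 1
    omega
  rw [Finset.sum_congr rfl h3]
  symm
  apply Finset.sum_subset
  · intro j hj
    rw [Finset.mem_range] at hj ⊢
    omega
  · intro j hj hj'
    rw [Finset.mem_range] at hj hj'
    exact hf i j (by omega)

end Comb

section GrKAPI

variable {K : Type v} [CommRing K] [LambdaOps K] {P : PosStructure K}

lemma grK_add {n : ℕ} {x y : K} (hx : x ∈ gammaFiltration P n) (hy : y ∈ gammaFiltration P n) :
    KGr.grK P (n : ℤ) (x + y) = KGr.grK P (n : ℤ) x + KGr.grK P (n : ℤ) y := by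
  rw [grK_eq n x hx, grK_eq n y hy, grK_eq n (x + y) (AddSubgroup.add_mem _ hx hy), ← map_add]
  rfl

lemma grK_zero (n : ℕ) : KGr.grK P (n : ℤ) (0 : K) = 0 := by
  rw [grK_eq n 0 (AddSubgroup.zero_mem _)]
  exact map_zero (gr n)

lemma grK_zsmul {n : ℕ} (m : ℤ) {x : K} (hx : x ∈ gammaFiltration P n) :
    KGr.grK P (n : ℤ) (m • x) = m • KGr.grK P (n : ℤ) x := by
  rw [grK_eq n x hx, grK_eq n (m • x) (AddSubgroup.zsmul_mem _ hx m), ← map_zsmul]
  rfl

lemma grK_sum {n : ℕ} {ι : Type*} (s : Finset ι) (f : ι → K)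
    (hf : ∀ i ∈ s, f i ∈ gammaFiltration P n) :
    KGr.grK P (n : ℤ) (∑ i ∈ s, f i) = ∑ i ∈ s, KGr.grK P (n : ℤ) (f i) := by
  classical
  induction s using Finset.induction_on with
  | empty => simp [grK_zero]
  | insert a s ha ih =>
    rw [Finset.sum_insert ha, Finset.sum_insert ha,
      grK_add (hf a (Finset.mem_insert_self a s))
        (AddSubgroup.sum_mem _ fun i hi => hf i (Finset.mem_insert_of_mem hi)),
      ih fun i hi => hf i (Finset.mem_insert_of_mem hi)]

lemma grK_mul {a b : ℕ} {x y : K} (hx : x ∈ gammaFiltration P a) (hy : y ∈ gammaFiltration P b) :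
    KGr.grK P ((a + b : ℕ) : ℤ) (x * y) = KGr.grK P (a : ℤ) x * KGr.grK P (b : ℤ) y := by
  rw [grK_eq a x hx, grK_eq b y hy, grK_eq (a + b) (x * y) (mul_mem_gammaFiltration P a b x y hx hy),
    gr_apply, gr_apply, gr_apply, Algebra.TensorProduct.tmul_mul_tmul, one_mul, clsHom_mul]

lemma grK_of_mem_succ {n : ℕ} {x : K} (hx : x ∈ gammaFiltration P (n + 1)) :
    KGr.grK P (n : ℤ) x = 0 := by
  rw [grK_eq n x (gammaFiltration_anti P (Nat.le_succ n) hx)]
  exact gr_eq_zero_of_mem _ hx

lemma chTerm_eq_grK (k : ℕ) (x : K) (hx : P.aug x = 0) :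
    chTerm P k x = KGr.grK P ((k + 1 : ℕ) : ℤ) (psiG (k + 1) x) := by
  rw [chTerm_of_aug_eq_zero P k x hx, grK_eq]

end GrKAPI

section Mul

variable {K : Type v} [CommRing K] [LambdaOps K] {P : PosStructure K}

/-- the product formula for the graded pieces of the Chern character -/
theorem chTerm_mul (hK : HasSplitting K P) (n : ℕ) (u v : K) (hu : P.aug u = 0)
    (hv : P.aug v = 0) :
    chTerm P n (u * v) = ∑ i ∈ Finset.range n,
      ((n + 1).choose (i + 1) : ℤ) • (chTerm P i u * chTerm P (n - 1 - i) v) := by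
  have huv : P.aug (u * v) = 0 := by rw [map_mul, hu, zero_mul]
  have hE := Ek_mem_gammaFiltration hK n u v hu hv
  have hdec : psiG (n + 1) (u * v) = ∑ i ∈ Finset.range n,
      ((n + 1).choose (i + 1) : ℤ) • (psiG (i + 1) u * psiG (n - i) v) + Ek n u v := by
    rw [Ek]; ring
  have hprod : ∀ i ∈ Finset.range n,
      psiG (i + 1) u * psiG (n - i) v ∈ gammaFiltration P (n + 1) := by
    intro i hi
    rw [Finset.mem_range] at hi
    obtain ⟨m, hm⟩ : ∃ m, n - i = m + 1 := ⟨n - i - 1, by omega⟩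
    rw [hm]
    have := mul_mem_gammaFiltration P _ _ _ _ (psiG_mem u hu i) (psiG_mem v hv m)
    rwa [show i + 1 + (m + 1) = n + 1 by omega] at this
  rw [chTerm_eq_grK n _ huv, hdec, grK_add
    (AddSubgroup.sum_mem _ fun i hi => AddSubgroup.zsmul_mem _ (hprod i hi) _)
    (gammaFiltration_anti P (by omega) hE), grK_of_mem_succ hE, add_zero,
    grK_sum _ _ (fun i hi => AddSubgroup.zsmul_mem _ (hprod i hi) _)]
  apply Finset.sum_congr rfl
  intro i hi
  rw [grK_zsmul _ (hprod i hi)]
  rw [Finset.mem_range] at hi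
  congr 1
  have e1 : n - i = (n - 1 - i) + 1 := by omega
  have e2 : n + 1 = (i + 1) + ((n - 1 - i) + 1) := by omega
  rw [e1, chTerm_eq_grK i u hu, chTerm_eq_grK (n - 1 - i) v hv,
    ← grK_mul (psiG_mem u hu i) (psiG_mem v hv (n - 1 - i))]
  congr 2

lemma chK_of_aug_zero (d : ℕ) (u : K) (hu : P.aug u = 0) :
    KGr.chK P d u = ∑ k ∈ Finset.range d, (1 / ((k + 1).factorial : ℚ)) • chTerm P k u := by
  rw [chK_eq, hu, Int.cast_zero, map_zero, zero_add]

theorem chK_mul_of_aug_zero (hK : HasSplitting K P) (d : ℕ)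
    (hd : gammaFiltration P (d + 1) = ⊥) (u v : K) (hu : P.aug u = 0) (hv : P.aug v = 0) :
    KGr.chK P d (u * v) = KGr.chK P d u * KGr.chK P d v := by
  have huv : P.aug (u * v) = 0 := by rw [map_mul, hu, zero_mul]
  rw [chK_of_aug_zero d _ huv, chK_of_aug_zero d u hu, chK_of_aug_zero d v hv, Finset.sum_mul_sum]
  have hf : ∀ i j, d ≤ i + j + 1 →
      ((1 / ((i + 1).factorial : ℚ)) • chTerm P i u) * ((1 / ((j + 1).factorial : ℚ)) • chTerm P j v)
        = 0 := by
    intro i j hij
    have h0 : psiG (i + 1) u * psiG (j + 1) v = 0 := by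
      have := mul_mem_gammaFiltration P _ _ _ _ (psiG_mem u hu i) (psiG_mem v hv j)
      have := gammaFiltration_anti P (by omega : d + 1 ≤ i + 1 + (j + 1)) this
      rwa [hd, AddSubgroup.mem_bot] at this
    rw [smul_mul_smul_comm, chTerm_eq_grK i u hu, chTerm_eq_grK j v hv,
      ← grK_mul (psiG_mem u hu i) (psiG_mem v hv j), h0, grK_zero, smul_zero]
  rw [sum_reindex d _ hf]
  apply Finset.sum_congr rfl
  intro n hn
  rw [chTerm_mul hK n u v hu hv, Finset.smul_sum]
  apply Finset.sum_congr rfl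
  intro i hi
  rw [Finset.mem_range] at hi
  rw [smul_mul_smul_comm, ← Int.cast_smul_eq_zsmul ℚ, smul_smul]
  congr 1
  have e1 : n - 1 - i + 1 = n - i := by omega
  rw [e1]
  have hc := Nat.choose_mul_factorial_mul_factorial (by omega : i + 1 ≤ n + 1)
  rw [show n + 1 - (i + 1) = n - i by omega] at hc
  have hc' : (((n + 1).choose (i + 1) : ℕ) : ℚ) * ((i + 1).factorial : ℚ) * ((n - i).factorial : ℚ) =
      ((n + 1).factorial : ℚ) := by exact_mod_cast hc
  have h1 : ((i + 1).factorial : ℚ) ≠ 0 := by positivity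
  have h2 : ((n - i).factorial : ℚ) ≠ 0 := by positivity
  have h3 : ((n + 1).factorial : ℚ) ≠ 0 := by positivity
  have h4 : (((n + 1).choose (i + 1) : ℕ) : ℚ) ≠ 0 := by
    have := Nat.choose_pos (by omega : i + 1 ≤ n + 1)
    positivity
  push_cast
  rw [← hc']
  field_simp

end Mul

section Final

variable {K : Type v} [CommRing K] [LambdaOps K] {P : PosStructure K}

lemma chK_intCast (d : ℕ) (m : ℤ) : KGr.chK P d (m : K) = algebraMap ℚ (KGr.Gr P) (m : ℚ) := by
  rw [chK_eq, map_intCast]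
  have : ∀ k, chTerm P k (m : K) = 0 := by
    intro k
    rw [chTerm_apply]
    have h0 : (⟨psiG (k + 1) ((m : K) - ((P.aug (m : K) : ℤ) : K)),
        psiG_mem _ (aug_sub_aug P (m : K)) k⟩ : gammaFiltration P (k + 1)) = 0 := by
      apply Subtype.ext
      simp [psiG_zero_arg]
    rw [h0, map_zero]
  simp [this]

theorem chK_one (d : ℕ) : KGr.chK P d (1 : K) = 1 := by
  have := chK_intCast (P := P) d 1
  rwa [Int.cast_one, Int.cast_one, map_one] at this

theorem chK_mul (hK : HasSplitting K P) (d : ℕ) (hd : gammaFiltration P (d + 1) = ⊥) (x y : K) :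
    KGr.chK P d (x * y) = KGr.chK P d x * KGr.chK P d y := by
  set a : ℤ := P.aug x with ha
  set b : ℤ := P.aug y with hb
  set u : K := x - (a : K) with hu
  set v : K := y - (b : K) with hv
  have hu0 : P.aug u = 0 := aug_sub_aug P x
  have hv0 : P.aug v = 0 := aug_sub_aug P y
  have hx : x = (a : K) + u := by rw [hu]; ring
  have hy : y = (b : K) + v := by rw [hv]; ring
  have hxy : x * y = ((a * b : ℤ) : K) + (a • v + b • u + u * v) := by
    rw [hx, hy]; simp only [zsmul_eq_mul]; push_cast; ring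
  have hadd : ∀ z w : K, KGr.chK P d (z + w) = KGr.chK P d z + KGr.chK P d w := by
    intro z w; rw [← chHom_apply, ← chHom_apply, ← chHom_apply, map_add]
  have hsmul : ∀ (m : ℤ) (z : K), KGr.chK P d (m • z) = m • KGr.chK P d z := by
    intro m z; rw [← chHom_apply, ← chHom_apply, map_zsmul]
  rw [hxy, hadd, hadd, hadd, hsmul, hsmul, chK_mul_of_aug_zero hK d hd u v hu0 hv0, chK_intCast]
  conv_rhs => rw [hx, hy, hadd, hadd, chK_intCast, chK_intCast]
  simp only [zsmul_eq_mul]
  push_cast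
  simp only [map_intCast]
  ring

end Final

end Groth.Agent.Lib.H6xGrMul
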