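import Mathlib

/-!
# `H¹(G, Bˣ) = 1` for a finite-dimensional `K`-algebra `B` with a semilinear Galois action (helper6)

Ingredients: Poincaré series, trace-dual bases (Galois descent), a generic-element argument
when the ground field is infinite, and a Lovász-style counting argument when it is finite.
-/

set_option autoImplicit false

universe u v w x

namespace Groth.Agent.Lib.H6xH1Units

open Function

section Lovasz

variable {R : Type u} [Ring R]

theorem card_hom_pi (ι : Type x) [Fintype ι] [DecidableEq ι] (X : Type v) (Y : Type w)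
    [AddCommGroup X] [Module R X] [AddCommGroup Y] [Module R Y] :
    Nat.card ((ι → X) →ₗ[R] Y) = Nat.card (X →ₗ[R] Y) ^ Fintype.card ι := by
  have e : (ι → X →ₗ[R] Y) ≃ ((ι → X) →ₗ[R] Y) :=
    (LinearMap.lsum R (fun _ : ι => X) ℕ).toEquiv
  rw [← Nat.card_congr e, Nat.card_fun, Nat.card_eq_fintype_card (α := ι)]

/-- number of surjective linear maps -/
noncomputable def surjCount (X : Type v) (Y : Type w)
    [AddCommGroup X] [Module R X] [AddCommGroup Y] [Module R Y] : ℕ :=
  Nat.card {f : X →ₗ[R] Y // Surjective f}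

theorem surjCount_congr (X : Type v) {Y : Type w} {Y' : Type x}
    [AddCommGroup X] [Module R X] [AddCommGroup Y] [Module R Y] [AddCommGroup Y'] [Module R Y']
    (e : Y ≃ₗ[R] Y') : surjCount (R := R) X Y = surjCount (R := R) X Y' := by
  unfold surjCount
  refine Nat.card_congr
    { toFun := fun f => ⟨e.toLinearMap ∘ₗ f.1, e.surjective.comp f.2⟩
      invFun := fun g => ⟨e.symm.toLinearMap ∘ₗ g.1, e.symm.surjective.comp g.2⟩
      left_inv := ?_
      right_inv := ?_ }
  · intro f
    apply Subtype.ext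
    apply LinearMap.ext
    intro z
    simp
  · intro f
    apply Subtype.ext
    apply LinearMap.ext
    intro z
    simp

theorem card_range_eq (X : Type v) (Y : Type w)
    [AddCommGroup X] [Module R X] [AddCommGroup Y] [Module R Y] (Z : Submodule R Y) :
    Nat.card {f : X →ₗ[R] Y // LinearMap.range f = Z} = surjCount (R := R) X Z := by
  unfold surjCount
  refine Nat.card_congr
    { toFun := fun f => ⟨f.1.codRestrict Z (fun z => by
        have := LinearMap.mem_range_self f.1 z
        rw [f.2] at this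
        exact this), ?_⟩
      invFun := fun g => ⟨Z.subtype ∘ₗ g.1, ?_⟩
      left_inv := ?_
      right_inv := ?_ }
  · intro z
    obtain ⟨z, hz⟩ := z
    rw [← f.2] at hz
    obtain ⟨y, rfl⟩ := hz
    exact ⟨y, Subtype.ext rfl⟩
  · rw [LinearMap.range_comp, LinearMap.range_eq_top.mpr g.2, Submodule.map_top,
      Submodule.range_subtype]
  · intro f
    apply Subtype.ext
    apply LinearMap.ext
    intro z
    rfl
  · intro g
    apply Subtype.ext
    apply LinearMap.ext
    intro z
    apply Subtype.ext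
    rfl

theorem card_hom_eq_sum (X : Type v) (Y : Type w)
    [AddCommGroup X] [Module R X] [AddCommGroup Y] [Module R Y] [Finite X] [Finite Y]
    [Fintype (Submodule R Y)] :
    Nat.card (X →ₗ[R] Y) = ∑ Z : Submodule R Y, surjCount (R := R) X Z := by
  haveI : Finite (X →ₗ[R] Y) := FunLike.finite _
  rw [← Nat.card_congr (Equiv.sigmaFiberEquiv (fun f : X →ₗ[R] Y => LinearMap.range f)),
    Nat.card_sigma]
  exact Finset.sum_congr rfl fun Z _ => card_range_eq X Y Z

theorem surjCount_eq_of_card_hom_eq (X : Type v) (X' : Type x)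
    [AddCommGroup X] [Module R X] [AddCommGroup X'] [Module R X'] [Finite X] [Finite X']
    (h : ∀ (Y : Type w) [AddCommGroup Y] [Module R Y] [Finite Y],
      Nat.card (X →ₗ[R] Y) = Nat.card (X' →ₗ[R] Y)) :
    ∀ (N : ℕ) (Y : Type w) [AddCommGroup Y] [Module R Y] [Finite Y], Nat.card Y = N →
      surjCount (R := R) X Y = surjCount (R := R) X' Y := by
  intro N
  induction N using Nat.strong_induction_on with
  | _ N ih =>
    intro Y _ _ _ hN
    classical
    haveI : Fintype (Submodule R Y) := Fintype.ofFinite _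
    have h1 := card_hom_eq_sum (R := R) X Y
    have h2 := card_hom_eq_sum (R := R) X' Y
    rw [h Y, h2] at h1
    rw [← Finset.add_sum_erase _ _ (Finset.mem_univ (⊤ : Submodule R Y)),
      ← Finset.add_sum_erase _ _ (Finset.mem_univ (⊤ : Submodule R Y))] at h1
    have h3 : ∑ Z ∈ Finset.univ.erase (⊤ : Submodule R Y), surjCount (R := R) X' Z =
        ∑ Z ∈ Finset.univ.erase (⊤ : Submodule R Y), surjCount (R := R) X Z := by
      refine Finset.sum_congr rfl fun Z hZ => ?_
      have hZ' : Z ≠ ⊤ := (Finset.mem_erase.mp hZ).1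
      have hlt : Nat.card Z < N := by
        rw [← hN]
        have : (Z : Set Y) ⊂ Set.univ := by
          rw [Set.ssubset_univ_iff]
          intro hh
          exact hZ' (SetLike.coe_injective (by rw [hh]; rfl))
        have := Set.ncard_lt_ncard this (Set.finite_univ)
        rwa [Set.ncard_univ] at this
      exact (ih (Nat.card Z) hlt Z rfl).symm
    rw [h3] at h1
    have h4 := Nat.add_right_cancel h1
    rw [surjCount_congr X (Submodule.topEquiv : (⊤ : Submodule R Y) ≃ₗ[R] Y),
      surjCount_congr X' (Submodule.topEquiv : (⊤ : Submodule R Y) ≃ₗ[R] Y)] at h4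
    exact h4.symm

/-- Lovász-type cancellation, in the form needed: if `Xᶥ ≃ X'ᶥ` for finite modules and a nonempty
finite index type, then `X'` surjects onto `X`. -/
theorem exists_surjective_of_pi_equiv (ι : Type x) [Fintype ι] [Nonempty ι]
    (X : Type v) (X' : Type w)
    [AddCommGroup X] [Module R X] [AddCommGroup X'] [Module R X'] [Finite X] [Finite X']
    (e : (ι → X) ≃ₗ[R] (ι → X')) : ∃ f : X' →ₗ[R] X, Surjective f := by
  classical
  have h : ∀ (Y : Type v) [AddCommGroup Y] [Module R Y] [Finite Y],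
      Nat.card (X →ₗ[R] Y) = Nat.card (X' →ₗ[R] Y) := by
    intro Y _ _ _
    have h1 := card_hom_pi (R := R) ι X Y
    have h2 := card_hom_pi (R := R) ι X' Y
    have h3 : Nat.card ((ι → X) →ₗ[R] Y) = Nat.card ((ι → X') →ₗ[R] Y) :=
      Nat.card_congr
        { toFun := fun f => f ∘ₗ e.symm.toLinearMap
          invFun := fun g => g ∘ₗ e.toLinearMap
          left_inv := fun f => by
            apply LinearMap.ext
            intro z
            simp
          right_inv := fun g => by
            apply LinearMap.ext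
            intro z
            simp }
    rw [h1, h2] at h3
    exact Nat.pow_left_injective (Fintype.card_ne_zero) h3
  have h5 := surjCount_eq_of_card_hom_eq (R := R) X X' h (Nat.card X) X rfl
  haveI : Finite (X →ₗ[R] X) := FunLike.finite _
  have h6 : 0 < surjCount (R := R) X X := by
    unfold surjCount
    haveI : Nonempty {f : X →ₗ[R] X // Surjective f} := ⟨⟨LinearMap.id, surjective_id⟩⟩
    exact Nat.card_pos
  rw [h5] at h6
  unfold surjCount at h6
  obtain ⟨f⟩ := (Nat.card_pos_iff.mp h6).1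
  exact ⟨f.1, f.2⟩

end Lovasz


section Main

open scoped Classical

variable {k : Type u} {K : Type v} {B : Type w} [Field k] [Field K] [Algebra k K]
  [FiniteDimensional k K] [IsGalois k K] [Ring B] [Algebra K B]
  [MulSemiringAction (K ≃ₐ[k] K) B]

/-- twisted fixed points of the cocycle `a` -/
def tw (a : (K ≃ₐ[k] K) → B) : AddSubgroup B where
  carrier := {x | ∀ σ, a σ * σ • x = x}
  zero_mem' := by
    intro σ
    rw [smul_zero, mul_zero]
  add_mem' := by
    intro x y hx hy σ
    rw [smul_add, mul_add, hx σ, hy σ]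
  neg_mem' := by
    intro x hx σ
    rw [smul_neg, mul_neg, hx σ]

theorem mem_tw {a : (K ≃ₐ[k] K) → B} {x : B} : x ∈ tw a ↔ ∀ σ, a σ * σ • x = x := Iff.rfl

/-- the Poincaré series -/
noncomputable def poinc (a : (K ≃ₐ[k] K) → B) (x : B) : B := ∑ τ : K ≃ₐ[k] K, a τ * τ • x

theorem poinc_mem {a : (K ≃ₐ[k] K) → B} (ha : ∀ σ τ, a (σ * τ) = a σ * σ • a τ) (x : B) :
    poinc a x ∈ tw a := by
  intro σ
  unfold poinc
  rw [Finset.smul_sum, Finset.mul_sum]
  have h2 : ∀ τ : K ≃ₐ[k] K, a σ * σ • (a τ * τ • x) = a (σ * τ) * (σ * τ) • x := by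
    intro τ
    rw [smul_mul', ha, mul_smul, mul_assoc]
  rw [Finset.sum_congr rfl fun τ _ => h2 τ]
  exact Fintype.sum_equiv (Equiv.mulLeft σ) _ _ (fun τ => rfl)

theorem mul_mem_tw {a : (K ≃ₐ[k] K) → B} {x y : B} (hx : x ∈ tw a)
    (hy : ∀ σ : K ≃ₐ[k] K, σ • y = y) : x * y ∈ tw a := by
  intro σ
  rw [smul_mul', hy σ, ← mul_assoc, hx σ]

variable (hsl : ∀ (σ : K ≃ₐ[k] K) (c : K) (b : B), σ • (c • b) = σ c • σ • b)

include hsl in
theorem smul_mem_tw {a : (K ≃ₐ[k] K) → B} (c : k) {x : B} (hx : x ∈ tw a) :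
    (algebraMap k K c) • x ∈ tw a := by
  intro σ
  rw [hsl, σ.commutes, mul_smul_comm, hx σ]

variable (k K) in
/-- a `k`-basis of `K` indexed by the Galois group -/
noncomputable def bas : Module.Basis (K ≃ₐ[k] K) k K :=
  (Module.finBasis k K).reindex (Fintype.equivOfCardEq (by
    rw [Fintype.card_fin, ← Nat.card_eq_fintype_card, IsGalois.card_aut_eq_finrank]))

variable (k K) in
/-- the trace-dual basis -/
noncomputable def bas' : Module.Basis (K ≃ₐ[k] K) k K :=
  (Algebra.traceForm k K).dualBasis (traceForm_nondegenerate k K) (bas k K)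

theorem sum_bas'_bas (i j : K ≃ₐ[k] K) :
    ∑ σ : K ≃ₐ[k] K, σ (bas' k K i) * σ (bas k K j) = if j = i then 1 else 0 := by
  have h := LinearMap.BilinForm.apply_dualBasis_left (traceForm_nondegenerate k K) (bas k K) i j
  rw [Algebra.traceForm_apply] at h
  have h2 := trace_eq_sum_automorphisms (K := k) (L := K) (bas' k K i * bas k K j)
  unfold bas' at h2 ⊢
  rw [h] at h2
  simp only [map_mul] at h2
  rw [← h2]
  split_ifs <;> simp

theorem sum_bas_bas' (σ τ : K ≃ₐ[k] K) :
    ∑ j : K ≃ₐ[k] K, σ (bas k K j) * τ (bas' k K j) = if σ = τ then 1 else 0 := by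
  classical
  let P : Matrix (K ≃ₐ[k] K) (K ≃ₐ[k] K) K := Matrix.of fun i σ => σ (bas' k K i)
  let Q : Matrix (K ≃ₐ[k] K) (K ≃ₐ[k] K) K := Matrix.of fun σ j => σ (bas k K j)
  have hPQ : P * Q = 1 := by
    ext i j
    rw [Matrix.mul_apply, Matrix.one_apply]
    simp only [P, Q, Matrix.of_apply]
    rw [sum_bas'_bas]
    simp only [eq_comm]
  have hQP : Q * P = 1 := mul_eq_one_comm.mp hPQ
  have := congrFun (congrFun hQP σ) τ
  rw [Matrix.mul_apply, Matrix.one_apply] at this
  simpa only [P, Q, Matrix.of_apply] using this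

variable {a : (K ≃ₐ[k] K) → B} (ha : ∀ σ τ, a (σ * τ) = a σ * σ • a τ) (ha1 : a 1 = 1)

include hsl ha1 in
theorem recon (x : B) :
    x = ∑ j : K ≃ₐ[k] K, bas k K j • poinc a (bas' k K j • x) := by
  classical
  have h1 : ∀ j : K ≃ₐ[k] K, bas k K j • poinc a (bas' k K j • x) =
      ∑ τ : K ≃ₐ[k] K, (bas k K j * τ (bas' k K j)) • (a τ * τ • x) := by
    intro j
    unfold poinc
    rw [Finset.smul_sum]
    refine Finset.sum_congr rfl fun τ _ => ?_
    rw [hsl, mul_smul_comm, smul_smul]
  rw [Finset.sum_congr rfl fun j _ => h1 j, Finset.sum_comm]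
  have h2 : ∀ τ : K ≃ₐ[k] K, ∑ j : K ≃ₐ[k] K, (bas k K j * τ (bas' k K j)) • (a τ * τ • x) =
      (if (1 : K ≃ₐ[k] K) = τ then (1 : K) else 0) • (a τ * τ • x) := by
    intro τ
    rw [← Finset.sum_smul]
    congr 1
    have := sum_bas_bas' (k := k) (K := K) 1 τ
    simpa only [AlgEquiv.one_apply] using this
  rw [Finset.sum_congr rfl fun τ _ => h2 τ]
  simp only [ite_smul, one_smul, zero_smul]
  rw [Finset.sum_ite_eq Finset.univ (1 : K ≃ₐ[k] K), if_pos (Finset.mem_univ _), ha1, one_mul,
    one_smul]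

include hsl in
theorem indep (m : (K ≃ₐ[k] K) → B) (hm : ∀ j, m j ∈ tw a)
    (h : ∑ j : K ≃ₐ[k] K, bas k K j • m j = 0) (i : K ≃ₐ[k] K) : m i = 0 := by
  classical
  have h1 : ∀ σ : K ≃ₐ[k] K, ∑ j : K ≃ₐ[k] K, σ (bas k K j) • m j = 0 := by
    intro σ
    have h2 : a σ * σ • (∑ j : K ≃ₐ[k] K, bas k K j • m j) = 0 := by
      rw [h, smul_zero, mul_zero]
    rw [Finset.smul_sum, Finset.mul_sum] at h2
    rw [← h2]
    refine Finset.sum_congr rfl fun j _ => ?_
    rw [hsl, mul_smul_comm, hm j σ]
  have h3 : m i = ∑ j : K ≃ₐ[k] K, (∑ σ : K ≃ₐ[k] K, σ (bas' k K i) * σ (bas k K j)) • m j := by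
    rw [Finset.sum_congr rfl fun j _ => by rw [sum_bas'_bas]]
    simp only [ite_smul, one_smul, zero_smul]
    rw [Finset.sum_ite_eq' Finset.univ i, if_pos (Finset.mem_univ _)]
  rw [h3]
  simp only [Finset.sum_smul]
  rw [Finset.sum_comm]
  refine Finset.sum_eq_zero fun σ _ => ?_
  have h4 : ∀ j : K ≃ₐ[k] K, (σ (bas' k K i) * σ (bas k K j)) • m j =
      σ (bas' k K i) • (σ (bas k K j) • m j) := fun j => by rw [smul_smul]
  rw [Finset.sum_congr rfl fun j _ => h4 j, ← Finset.smul_sum, h1 σ, smul_zero]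

theorem isUnit_of_mul_eq_one [FiniteDimensional K B] {x y : B} (h : x * y = 1) : IsUnit x := by
  have h1 : LinearMap.mulLeft K x * LinearMap.mulLeft K y = 1 := by
    apply LinearMap.ext
    intro z
    rw [Module.End.mul_apply, LinearMap.mulLeft_apply, LinearMap.mulLeft_apply, ← mul_assoc, h,
      one_mul]
    rfl
  have h2 := mul_eq_one_comm.mp h1
  have h3 : y * x = 1 := by
    have := LinearMap.congr_fun h2 1
    rw [Module.End.mul_apply, LinearMap.mulLeft_apply, LinearMap.mulLeft_apply, mul_one] at this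
    exact this
  exact ⟨⟨x, y, h, h3⟩, rfl⟩

include hsl ha ha1 in
theorem span_tw : Submodule.span K (tw a : Set B) = ⊤ := by
  rw [eq_top_iff]
  intro x _
  rw [recon hsl ha1 x]
  refine Submodule.sum_mem _ fun j _ => Submodule.smul_mem _ _ (Submodule.subset_span ?_)
  exact poinc_mem ha _

include hsl ha ha1 in
theorem exists_isUnit_of_infinite [Infinite k] [FiniteDimensional K B] :
    ∃ m : B, m ∈ tw a ∧ IsUnit m := by
  obtain ⟨d, f, hf, hfs, hli⟩ : ∃ (d : ℕ) (f : Fin d → B), (∀ i, f i ∈ tw a) ∧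
      Submodule.span K (Set.range f) = ⊤ ∧ LinearIndependent K f := by
    obtain ⟨f, hf, hfspan, hli⟩ := Submodule.exists_fun_fin_finrank_span_eq K (tw a : Set B)
    exact ⟨_, f, hf, hfspan.trans (span_tw hsl ha ha1), hli⟩
  let bB : Module.Basis (Fin d) K B := Module.Basis.mk hli (by rw [hfs])
  have hbB : ∀ i, bB i = f i := fun i => by
    simp only [bB, Module.Basis.mk_apply]
  let N : Fin d → Matrix (Fin d) (Fin d) K := fun i =>
    LinearMap.toMatrix bB bB (LinearMap.mulLeft K (f i))
  let P : MvPolynomial (Fin d) K :=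
    Matrix.det (∑ i, (MvPolynomial.X i : MvPolynomial (Fin d) K) • (N i).map MvPolynomial.C)
  have heval : ∀ t : Fin d → K, MvPolynomial.eval t P =
      Matrix.det (LinearMap.toMatrix bB bB (LinearMap.mulLeft K (∑ i, t i • f i))) := by
    intro t
    simp only [P]
    rw [RingHom.map_det]
    congr 1
    ext r c
    simp only [RingHom.mapMatrix_apply, Matrix.map_apply, Matrix.sum_apply, Matrix.smul_apply,
      map_sum, smul_eq_mul, map_mul, MvPolynomial.eval_X, MvPolynomial.eval_C, N]
    have : LinearMap.mulLeft K (∑ i, t i • f i) = ∑ i, t i • LinearMap.mulLeft K (f i) := by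
      apply LinearMap.ext
      intro z
      simp only [LinearMap.mulLeft_apply, LinearMap.sum_apply, LinearMap.smul_apply,
        Finset.sum_mul, smul_mul_assoc]
    rw [this, map_sum]
    simp only [Matrix.sum_apply, map_smul, Matrix.smul_apply, smul_eq_mul]
  have hP : P ≠ 0 := by
    intro hP0
    have h1 := heval (fun i => bB.repr 1 i)
    have h2 : ∑ i, bB.repr 1 i • f i = 1 := by
      have := bB.sum_repr 1
      simpa only [hbB] using this
    rw [h2, hP0, map_zero] at h1
    have h3 : LinearMap.mulLeft K (1 : B) = LinearMap.id := by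
      apply LinearMap.ext
      intro z
      simp
    rw [h3, LinearMap.toMatrix_id, Matrix.det_one] at h1
    exact zero_ne_one h1
  have hex : ∃ t : Fin d → k, MvPolynomial.eval (fun i => algebraMap k K (t i)) P ≠ 0 := by
    by_contra hcon
    push Not at hcon
    apply hP
    apply MvPolynomial.funext_set (fun _ => Set.range (algebraMap k K))
      (fun _ => Set.infinite_range_of_injective (algebraMap k K).injective)
    intro y hy
    rw [map_zero]
    have hy' : ∀ i, ∃ c : k, algebraMap k K c = y i := fun i => hy i (Set.mem_univ i)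
    choose t ht using hy'
    have := hcon t
    simp only [ht] at this
    exact this
  obtain ⟨t, ht⟩ := hex
  rw [heval] at ht
  set m := ∑ i, algebraMap k K (t i) • f i with hm
  have hmem : m ∈ tw a := by
    rw [hm]
    exact AddSubgroup.sum_mem _ fun i _ => smul_mem_tw hsl (t i) (hf i)
  refine ⟨m, hmem, ?_⟩
  rw [LinearMap.det_toMatrix bB] at ht
  have hu : IsUnit (LinearMap.mulLeft K m) := by
    rw [LinearMap.isUnit_iff_isUnit_det]
    exact isUnit_iff_ne_zero.mpr ht
  obtain ⟨⟨g, g', hgg', hg'g⟩, hg⟩ := hu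
  have hg1 : g = LinearMap.mulLeft K m := hg
  have h1 := LinearMap.congr_fun hgg' 1
  rw [Module.End.mul_apply, hg1, LinearMap.mulLeft_apply] at h1
  exact isUnit_of_mul_eq_one (K := K) h1

section FiniteCase

variable (k K B) in
/-- the fixed ring -/
abbrev A0 : Subring B := FixedPoints.subring B (K ≃ₐ[k] K)

theorem mem_A0 {y : B} : y ∈ A0 k K B ↔ ∀ σ : K ≃ₐ[k] K, σ • y = y := Iff.rfl

variable (k K B) in
/-- `B` as a right module over the fixed ring -/
@[reducible] noncomputable def modB : Module (A0 k K B)ᵐᵒᵖ B :=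
  Module.compHom B ((A0 k K B).subtype.op)

attribute [local instance] modB

theorem op_smul_eq (y : (A0 k K B)ᵐᵒᵖ) (x : B) : y • x = x * (y.unop : B) := rfl

/-- the twisted fixed points as a right submodule over the fixed ring -/
def twSub (a : (K ≃ₐ[k] K) → B) : Submodule (A0 k K B)ᵐᵒᵖ B :=
  { tw a with
    smul_mem' := fun y x hx => by
      show y • x ∈ tw a
      rw [op_smul_eq]
      exact mul_mem_tw hx (mem_A0.mp y.unop.2) }

theorem mem_twSub {a : (K ≃ₐ[k] K) → B} {x : B} : x ∈ twSub a ↔ x ∈ tw a := Iff.rfl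

/-- the descent map for the twisted fixed points -/
noncomputable def PhiA (a : (K ≃ₐ[k] K) → B) :
    ((K ≃ₐ[k] K) → twSub a) →ₗ[(A0 k K B)ᵐᵒᵖ] B where
  toFun m := ∑ j : K ≃ₐ[k] K, bas k K j • (m j : B)
  map_add' m m' := by
    simp only [Pi.add_apply, Submodule.coe_add, smul_add, Finset.sum_add_distrib]
  map_smul' c m := by
    simp only [Pi.smul_apply, Submodule.coe_smul, RingHom.id_apply, op_smul_eq, Finset.sum_mul,
      smul_mul_assoc]

/-- the descent map for the fixed ring -/
noncomputable def Phi0 :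
    ((K ≃ₐ[k] K) → A0 k K B) →ₗ[(A0 k K B)ᵐᵒᵖ] B where
  toFun y := ∑ j : K ≃ₐ[k] K, bas k K j • (y j : B)
  map_add' m m' := by
    simp only [Pi.add_apply, Subring.coe_add, smul_add, Finset.sum_add_distrib]
  map_smul' c m := by
    simp only [Pi.smul_apply, RingHom.id_apply, op_smul_eq, Finset.sum_mul, smul_mul_assoc,
      MulOpposite.smul_eq_mul_unop, Subring.coe_mul]

include hsl ha ha1 in
theorem PhiA_bijective : Bijective (PhiA (k := k) (K := K) a) := by
  constructor
  · rw [injective_iff_map_eq_zero]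
    intro m hm
    funext i
    apply Subtype.ext
    exact indep hsl (fun j => (m j : B)) (fun j => (m j).2) hm i
  · intro x
    refine ⟨fun j => ⟨poinc a (bas' k K j • x), poinc_mem ha _⟩, ?_⟩
    exact (recon hsl ha1 x).symm

include hsl in
theorem Phi0_bijective : Bijective (Phi0 (k := k) (K := K) (B := B)) := by
  have ha0 : ∀ σ τ : K ≃ₐ[k] K, (fun _ : K ≃ₐ[k] K => (1 : B)) (σ * τ) =
      (fun _ : K ≃ₐ[k] K => (1 : B)) σ * σ • (fun _ : K ≃ₐ[k] K => (1 : B)) τ := by
    intro σ τ
    simp only [smul_one, mul_one]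
  have hmem : ∀ y : B, y ∈ tw (fun _ : K ≃ₐ[k] K => (1 : B)) ↔ y ∈ A0 k K B := by
    intro y
    rw [mem_tw, mem_A0]
    simp only [one_mul]
  constructor
  · rw [injective_iff_map_eq_zero]
    intro m hm
    funext i
    apply Subtype.ext
    exact indep hsl (a := fun _ : K ≃ₐ[k] K => (1 : B)) (fun j => (m j : B))
      (fun j => (hmem _).mpr (m j).2) hm i
  · intro x
    refine ⟨fun j => ⟨poinc (fun _ : K ≃ₐ[k] K => (1 : B)) (bas' k K j • x),
      (hmem _).mp (poinc_mem ha0 _)⟩, ?_⟩
    exact (recon hsl (a := fun _ : K ≃ₐ[k] K => (1 : B)) rfl x).symm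

include hsl ha ha1 in
theorem exists_isUnit_of_finite [Finite k] [FiniteDimensional K B] :
    ∃ m : B, m ∈ tw a ∧ IsUnit m := by
  haveI : Finite K := Module.finite_of_finite k
  haveI : Finite B := Module.finite_of_finite K
  let e : ((K ≃ₐ[k] K) → twSub a) ≃ₗ[(A0 k K B)ᵐᵒᵖ] ((K ≃ₐ[k] K) → A0 k K B) :=
    (LinearEquiv.ofBijective _ (PhiA_bijective hsl ha ha1)).trans
      (LinearEquiv.ofBijective _ (Phi0_bijective (k := k) (K := K) (B := B) hsl)).symm
  obtain ⟨f, hf⟩ := exists_surjective_of_pi_equiv (R := (A0 k K B)ᵐᵒᵖ) (K ≃ₐ[k] K)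
    (twSub a) (A0 k K B) e
  have hgen : ∀ x : B, x ∈ tw a → ∃ y : B, x = (f 1 : B) * y := by
    intro x hx
    obtain ⟨y, hy⟩ := hf ⟨x, hx⟩
    refine ⟨(y : B), ?_⟩
    have h1 : y = MulOpposite.op y • (1 : A0 k K B) := by
      rw [MulOpposite.smul_eq_mul_unop, one_mul, MulOpposite.unop_op]
    rw [h1, map_smul] at hy
    have h2 := congrArg (fun z : twSub a => (z : B)) hy
    simp only [Submodule.coe_smul, op_smul_eq, MulOpposite.unop_op] at h2
    exact h2.symm
  refine ⟨(f 1 : B), (f 1).2, ?_⟩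
  have h1 := recon hsl ha1 (1 : B)
  choose y hy using fun j : K ≃ₐ[k] K => hgen (poinc a (bas' k K j • (1 : B))) (poinc_mem ha _)
  have h2 : (1 : B) = (f 1 : B) * ∑ j : K ≃ₐ[k] K, bas k K j • y j := by
    rw [Finset.mul_sum]
    conv_lhs => rw [h1]
    refine Finset.sum_congr rfl fun j _ => ?_
    rw [hy j, mul_smul_comm]
  exact isUnit_of_mul_eq_one (K := K) h2.symm

end FiniteCase

include hsl ha ha1 in
/-- **Main theorem**: a cocycle with values in a finite-dimensional `K`-algebra with semilinear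
Galois action is split by a unit. -/
theorem exists_isUnit_mul_smul_eq [FiniteDimensional K B] :
    ∃ m : B, IsUnit m ∧ ∀ σ : K ≃ₐ[k] K, a σ * σ • m = m := by
  rcases finite_or_infinite k with hk | hk
  · obtain ⟨m, hm, hu⟩ := exists_isUnit_of_finite hsl ha ha1
    exact ⟨m, hu, hm⟩
  · obtain ⟨m, hm, hu⟩ := exists_isUnit_of_infinite hsl ha ha1
    exact ⟨m, hu, hm⟩

end Main

end Groth.Agent.Lib.H6xH1Units
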