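import Mathlib
import Groth.Prelude.Def_FlatMod2
import Groth.Agent.Lib.Helper2QCoh
import Groth.Agent.Lib.H6xIdealGenC
set_option backward.isDefEq.respectTransparency.types false

/-!
# Finitely many sections generating the stalks of a sheaf of ideals (helper6)
-/

set_option autoImplicit false
set_option linter.style.haveILetI false
universe u
open CategoryTheory CategoryTheory.Limits AlgebraicGeometry TopologicalSpace Opposite

namespace Groth.Agent.Lib.H6xIdealGen

variable {X : Scheme.{u}}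

theorem exists_fin_sections_span_stalk [IsNoetherian X]
    (G : X.Modules) (ι : G ⟶ Coh.structureModule X) [Mono ι] :
    ∃ (m : ℕ) (U : Fin m → X.Opens) (k : Fin m → ℕ)
      (s : (i : Fin m) → Fin (k i) → (G.presheaf.obj (Opposite.op (U i)) : Type u)),
      ∀ x : X, Submodule.span (X.presheaf.stalk x)
          (Set.range (fun p : (Σ i : {i : Fin m // x ∈ U i}, Fin (k i.1)) =>
            (G.presheaf.germ (U p.1.1) x p.1.2) (s p.1.1 p.2))) = ⊤ := by
  haveI : NoetherianSpace (⊤ : X.Opens) :=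
    inferInstanceAs (NoetherianSpace ((⊤ : X.Opens) : Set X))
  obtain ⟨S, hSf, -, hgen⟩ := exists_finite_sections ι ⊤
  let e := hSf.toFinset.equivFin
  refine ⟨hSf.toFinset.card, fun i => (e.symm i).1.1, fun _ => 1, fun i _ => (e.symm i).1.2, ?_⟩
  intro x
  rw [eq_top_iff]
  rintro y -
  have key : ∀ (i : Fin hSf.toFinset.card) (hxi : x ∈ (e.symm i).1.1),
      G.presheaf.germ ((e.symm i).1.1) x hxi (e.symm i).1.2 ∈
        Submodule.span (X.presheaf.stalk x)
          (Set.range (fun p : (Σ i : {i : Fin hSf.toFinset.card // x ∈ (e.symm i).1.1}, Fin 1) =>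
            (G.presheaf.germ ((e.symm p.1.1).1.1) x p.1.2) ((e.symm p.1.1).1.2))) :=
    fun i hxi => Submodule.subset_span ⟨⟨⟨i, hxi⟩, 0⟩, rfl⟩
  obtain ⟨W, hxW, t, rfl⟩ := G.presheaf.exists_germ_eq y
  obtain ⟨W', h, hxW', hmem⟩ := hgen x trivial W t hxW
  have e1 : G.presheaf.germ W x hxW t =
      G.presheaf.germ W' x hxW' (G.presheaf.map (homOfLE h).op t) :=
    (TopCat.Presheaf.germ_res_apply G.presheaf (homOfLE h) x hxW' t).symm
  rw [e1]
  suffices hs : ∀ u ∈ Submodule.span Γ(X, W')
      {u | ∃ p ∈ S, ∃ h' : W' ≤ p.1, G.presheaf.map (homOfLE h').op p.2 = u},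
      G.presheaf.germ W' x hxW' u ∈ Submodule.span (X.presheaf.stalk x)
          (Set.range (fun p : (Σ i : {i : Fin hSf.toFinset.card // x ∈ (e.symm i).1.1}, Fin 1) =>
            (G.presheaf.germ ((e.symm p.1.1).1.1) x p.1.2) ((e.symm p.1.1).1.2))) from hs _ hmem
  intro u hu
  induction hu using Submodule.span_induction with
  | mem u hu =>
    obtain ⟨p, hp, h', rfl⟩ := hu
    obtain ⟨i, hi⟩ : ∃ i, (e.symm i).1 = p :=
      ⟨e ⟨p, hSf.mem_toFinset.2 hp⟩, by rw [Equiv.symm_apply_apply]⟩
    subst hi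
    rw [TopCat.Presheaf.germ_res_apply G.presheaf (homOfLE h') x hxW']
    exact key i (h' hxW')
  | zero => rw [map_zero]; exact Submodule.zero_mem _
  | add u v _ _ hu hv => rw [map_add]; exact Submodule.add_mem _ hu hv
  | smul a u _ hu =>
    rw [Groth.Agent.Lib.Helper2.QCoh.germ_smul]
    exact Submodule.smul_mem _ _ hu

end Groth.Agent.Lib.H6xIdealGen
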