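import Mathlib
import Groth.Prelude.Def_CxOX
import Groth.Agent.Lib.Helper23Serre
import Groth.Agent.Lib.H6xIdealGenC
set_option backward.isDefEq.respectTransparency.types false

/-!
# `j_! O_U` is a Noetherian object for `U` affine in a locally Noetherian scheme (helper6)
-/

set_option autoImplicit false
set_option linter.style.haveILetI false
universe u
open CategoryTheory CategoryTheory.Limits AlgebraicGeometry TopologicalSpace Opposite

namespace Groth.Agent.Lib.H6xIdealGen

open Groth.Agent.Lib.Helper1.Sky Groth.Agent.Lib.Helper1.StalkTensor Groth.Agent.Lib.H6xMV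

theorem chain_extZeroUnit_stabilizes {U X : Scheme.{u}} [IsLocallyNoetherian X]
    [IsAffine U] (j : U ⟶ X) [IsOpenImmersion j]
    (c : ℕ →o Subobject (CxOX.extZeroUnit j)) :
    ∃ n : ℕ, ∀ m : ℕ, n ≤ m → c n = c m := by
  let ι : ∀ n, ((c n : X.Modules) ⟶ Coh.structureModule X) := fun n => (c n).arrow ≫ thetaJ j
  haveI : ∀ n, Mono (ι n) := fun n => mono_comp _ _
  have hV : IsAffineOpen j.opensRange := isAffineOpen_opensRange j
  haveI : IsNoetherianRing Γ(X, j.opensRange) :=
    IsLocallyNoetherian.component_noetherian ⟨_, hV⟩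
  haveI : NoetherianSpace j.opensRange := noetherianSpace_of_isAffineOpen _ hV
  have hιle : ∀ n m (h : n ≤ m), (c n).ofLE (c m) (c.monotone h) ≫ ι m = ι n := by
    intro n m h
    simp only [ι, Subobject.ofLE_arrow_assoc]
  obtain ⟨N, hN⟩ := IdealPre.chain_stabilizes (fun n => imgPre (ι n)) (by
    intro n m h W
    rintro a ⟨t, rfl⟩
    exact ⟨((c n).ofLE (c m) (c.monotone h)).app W t, by rw [← secL_comp, hιle n m h]⟩) j.opensRange
  refine ⟨N, fun m hm => ?_⟩
  haveI : Epi ((c N).ofLE (c m) (c.monotone hm)) := by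
    apply Groth.Agent.Lib.Helper23.Serre.epi_of_locally_surjective
    intro W t x hxW
    by_cases hx : x ∈ j.opensRange
    · obtain ⟨W', h, hxW', ⟨s, hs⟩⟩ :=
        hN m hm x hx W (secL (ι m) W t) hxW (mem_imgPre _ W t)
      refine ⟨W', h, hxW', s, ?_⟩
      apply secL_injective (ι m) W'
      rw [secL_res, ← hs, ← secL_comp, hιle N m hm]
    · have hx' : x ∉ Set.range j.base := hx
      have hz : IsZero ((stalkFun x).obj (c m : X.Modules)) :=
        isZero_stalk_of_mono (c m).arrow x (isZero_stalk_extZero j x hx' _)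
      obtain ⟨W', h, hxW', h0⟩ := exists_res_eq_zero_of_isZero_stalk _ x hz W hxW t
      exact ⟨W', h, hxW', 0, by rw [h0, map_zero]⟩
  haveI : IsIso ((c N).ofLE (c m) (c.monotone hm)) := isIso_of_mono_of_epi _
  exact le_antisymm (c.monotone hm)
    (Subobject.le_of_comm (inv ((c N).ofLE (c m) (c.monotone hm))) (by simp))

end Groth.Agent.Lib.H6xIdealGen
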