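import Mathlib
import Groth.Agent.Lib.H6xEssC
set_option backward.isDefEq.respectTransparency.types false

/-!
# Indecomposable injective subobjects (helper6)

In a Grothendieck abelian category, a nonzero injective object receiving a nonzero morphism from a
Noetherian object contains an indecomposable injective subobject
(`exists_indec_injective_sub`).
-/

set_option autoImplicit false
set_option linter.style.haveILetI false
universe w v u

namespace Groth.Agent.Lib.H6xEss

open CategoryTheory CategoryTheory.Limits Category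

section defs

variable {C : Type u} [Category.{v} C] [Abelian C]

/-- uniform objects: two subobjects with zero intersection, one of them is zero -/
def Uniform (U : C) : Prop := ∀ S T : Subobject U, S ⊓ T = ⊥ → S = ⊥ ∨ T = ⊥

/-- indecomposable objects -/
def Indec (T : C) : Prop :=
  ¬ IsZero T ∧ ∀ A B : C, Nonempty (T ≅ A ⊞ B) → IsZero A ∨ IsZero B

lemma mono_of_kernelSubobject_eq_bot {A B : C} (f : A ⟶ B) (h : kernelSubobject f = ⊥) :
    Mono f := by
  apply Preadditive.mono_of_kernel_zero
  have h1 : (kernelSubobject f).arrow = 0 := by rw [h]; exact Subobject.bot_arrow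
  rw [← kernelSubobject_arrow f] at h1
  exact (cancel_epi (kernelSubobjectIso f).hom).1 (h1.trans comp_zero.symm)

/-- an essential extension of a nonzero uniform object by an injective object is
indecomposable -/
theorem indec_of_uniform_of_isEss {U E : C} (u : U ⟶ E) (hu : IsEss u) (hU : Uniform U)
    (hU0 : ¬ IsZero U) : Indec E := by
  haveI := hu.mono
  refine ⟨fun hE => hU0 (IsZero.of_mono u hE), ?_⟩
  rintro A B ⟨e⟩
  by_contra hcon
  push Not at hcon
  obtain ⟨hA, hB⟩ := hcon
  let pA : E ⟶ A := e.hom ≫ biprod.fst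
  let pB : E ⟶ B := e.hom ≫ biprod.snd
  have hST : kernelSubobject (u ≫ pA) ⊓ kernelSubobject (u ≫ pB) = ⊥ := by
    apply eq_bot_of_arrow_eq_zero
    set z := (kernelSubobject (u ≫ pA) ⊓ kernelSubobject (u ≫ pB)).arrow with hz
    have h1 : z ≫ u ≫ pA = 0 := by
      rw [hz, ← Subobject.ofLE_arrow (inf_le_left :
        kernelSubobject (u ≫ pA) ⊓ kernelSubobject (u ≫ pB) ≤ kernelSubobject (u ≫ pA)), assoc,
        kernelSubobject_arrow_comp, comp_zero]
    have h2 : z ≫ u ≫ pB = 0 := by
      rw [hz, ← Subobject.ofLE_arrow (inf_le_right :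
        kernelSubobject (u ≫ pA) ⊓ kernelSubobject (u ≫ pB) ≤ kernelSubobject (u ≫ pB)), assoc,
        kernelSubobject_arrow_comp, comp_zero]
    have h3 : (z ≫ u) ≫ e.hom = 0 := by
      apply biprod.hom_ext
      · rw [assoc, assoc, zero_comp]; exact h1
      · rw [assoc, assoc, zero_comp]; exact h2
    have h4 : z ≫ u = 0 := by
      rw [← cancel_mono e.hom, h3, zero_comp]
    rw [← cancel_mono u, h4, zero_comp]
  rcases hU _ _ hST with h | h
  · have h1 : Mono pA := hu.ess pA (mono_of_kernelSubobject_eq_bot _ h)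
    have h2 : (biprod.inr : B ⟶ A ⊞ B) ≫ e.inv = 0 := by
      rw [← cancel_mono pA, zero_comp]
      change (biprod.inr ≫ e.inv) ≫ e.hom ≫ biprod.fst = 0
      rw [assoc, e.inv_hom_id_assoc, biprod.inr_fst]
    have h3 : (biprod.inr : B ⟶ A ⊞ B) = 0 := by
      rw [← cancel_mono e.inv, h2, zero_comp]
    exact hB (IsZero.of_mono_eq_zero _ h3)
  · have h1 : Mono pB := hu.ess pB (mono_of_kernelSubobject_eq_bot _ h)
    have h2 : (biprod.inl : A ⟶ A ⊞ B) ≫ e.inv = 0 := by
      rw [← cancel_mono pB, zero_comp]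
      change (biprod.inl ≫ e.inv) ≫ e.hom ≫ biprod.snd = 0
      rw [assoc, e.inv_hom_id_assoc, biprod.inl_snd]
    have h3 : (biprod.inl : A ⟶ A ⊞ B) = 0 := by
      rw [← cancel_mono e.inv, h2, zero_comp]
    exact hA (IsZero.of_mono_eq_zero _ h3)

/-- a nonzero morphism from a Noetherian object to an injective object produces a nonzero uniform
subobject -/
theorem exists_uniform_of_noetherian {X P : C} [Injective X] [IsNoetherianObject P] (φ₀ : P ⟶ X)
    (hφ₀ : φ₀ ≠ 0) : ∃ (U : C) (u : U ⟶ X), Mono u ∧ ¬ IsZero U ∧ Uniform U := by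
  let 𝒦 : Set (Subobject P) := {K | ∃ φ : P ⟶ X, φ ≠ 0 ∧ kernelSubobject φ = K}
  have hne : 𝒦.Nonempty := ⟨_, φ₀, hφ₀, rfl⟩
  obtain ⟨K, ⟨φ, hφ, rfl⟩, hmax⟩ := wellFounded_gt.has_min 𝒦 hne
  let e : P ⟶ Limits.image φ := factorThruImage φ
  let m : Limits.image φ ⟶ X := Limits.image.ι φ
  have hem : e ≫ m = φ := Limits.image.fac φ
  refine ⟨Limits.image φ, m, inferInstance, ?_, ?_⟩
  · intro h0
    apply hφ
    rw [← hem, h0.eq_of_src m 0, comp_zero]
  · intro S T hST
    by_contra hcon
    push Not at hcon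
    obtain ⟨hS, hT⟩ := hcon
    let q := cokernel.π S.arrow
    haveI : Mono (T.arrow ≫ q) := mono_comp_of_inf_eq_bot S T hST
    obtain ⟨ψ, hψ⟩ := Injective.factors (T.arrow ≫ m) (T.arrow ≫ q)
    let φ' : P ⟶ X := e ≫ q ≫ ψ
    have hφ' : φ' ≠ 0 := by
      intro h0
      apply hT
      apply eq_bot_of_arrow_eq_zero
      have h1 : q ≫ ψ = 0 := by
        rw [← cancel_epi e, comp_zero]
        exact h0
      rw [← cancel_mono m, zero_comp, ← hψ, assoc, h1, comp_zero]
    have hKe : (kernelSubobject φ).arrow ≫ e = 0 := by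
      rw [← cancel_mono m, assoc, hem, kernelSubobject_arrow_comp, zero_comp]
    have hle : kernelSubobject φ ≤ kernelSubobject φ' :=
      Subobject.le_of_comm (factorThruKernelSubobject φ' (kernelSubobject φ).arrow
        (by change _ ≫ e ≫ q ≫ ψ = 0; rw [← assoc, hKe, zero_comp])) (by simp)
    have hne' : kernelSubobject φ' ≠ kernelSubobject φ := by
      intro heq
      apply hS
      apply eq_bot_of_arrow_eq_zero
      have h1 : pullback.fst e S.arrow ≫ φ' = 0 := by
        change pullback.fst e S.arrow ≫ e ≫ q ≫ ψ = 0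
        rw [← assoc, pullback.condition, assoc, ← assoc S.arrow, cokernel.condition, zero_comp,
          comp_zero]
      have h2 : (kernelSubobject φ).Factors (pullback.fst e S.arrow) := by
        rw [← heq]
        exact kernelSubobject_factors _ _ h1
      have h3 : pullback.fst e S.arrow ≫ φ = 0 := by
        rw [← Subobject.factorThru_arrow _ _ h2, assoc, kernelSubobject_arrow_comp, comp_zero]
      have h4 : pullback.fst e S.arrow ≫ e = 0 := by
        rw [← cancel_mono m, assoc, hem, h3, zero_comp]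
      rw [pullback.condition] at h4
      rw [← cancel_epi (pullback.snd e S.arrow), h4, comp_zero]
    exact hmax (kernelSubobject φ') ⟨φ', hφ', rfl⟩ (lt_of_le_of_ne hle hne'.symm)

end defs

variable {C : Type u} [Category.{v} C] [Abelian C] [IsGrothendieckAbelian.{w} C] {X : C}

/-- inside an injective object, every subobject has an essential extension which is injective -/
theorem exists_injective_essExt [Injective X] (A₀ : Subobject X) :
    ∃ E : Subobject X, EssExt A₀ E ∧ Injective (E : C) := by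
  obtain ⟨E, ⟨hA₀E, hess⟩, hEmax⟩ := exists_maximal_essExt A₀
  obtain ⟨K, hKE, hKmax⟩ := exists_maximal_compl E
  let q : X ⟶ cokernel K.arrow := cokernel.π K.arrow
  haveI hm : Mono (E.arrow ≫ q) := mono_comp_of_inf_eq_bot K E hKE
  have hess2 : IsEss (E.arrow ≫ q) := by
    refine ⟨hm, ?_⟩
    intro Z g hg
    have h1 : kernelSubobject (q ≫ g) ⊓ E = ⊥ :=
      inf_eq_bot_of_mono_comp _ E (q ≫ g) (kernelSubobject_arrow_comp _)
        (by rw [← assoc]; exact hg)
    have h2 : K ≤ kernelSubobject (q ≫ g) :=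
      Subobject.le_of_comm (factorThruKernelSubobject (q ≫ g) K.arrow
        (by rw [← assoc, cokernel.condition, zero_comp])) (by simp)
    have h3 : kernelSubobject (q ≫ g) ≤ K := hKmax _ h1 h2
    apply Preadditive.mono_of_cancel_zero
    intro W a ha
    have h4 : pullback.fst q a ≫ q ≫ g = 0 := by
      rw [← assoc, pullback.condition, assoc, ha, comp_zero]
    have h5 : K.Factors (pullback.fst q a) :=
      Subobject.factors_of_le _ h3 (kernelSubobject_factors _ _ h4)
    have h6 : pullback.fst q a ≫ q = 0 := by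
      rw [← Subobject.factorThru_arrow K _ h5, assoc, cokernel.condition, comp_zero]
    rw [pullback.condition] at h6
    rw [← cancel_epi (pullback.snd q a), h6, comp_zero]
  obtain ⟨ψ, hψ⟩ := Injective.factors E.arrow (E.arrow ≫ q)
  haveI hψm : Mono ψ := hess2.ess ψ (by rw [hψ]; infer_instance)
  let E' : Subobject X := Subobject.mk ψ
  have hEE' : E ≤ E' := Subobject.le_mk_of_comm (E.arrow ≫ q) hψ
  have hess3 : IsEss (Subobject.ofLE E E' hEE') := by
    have h1 : Subobject.ofLE E E' hEE' = (E.arrow ≫ q) ≫ (Subobject.underlyingIso ψ).inv := by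
      rw [← cancel_mono (Subobject.underlyingIso ψ).hom, assoc, Iso.inv_hom_id, comp_id,
        ← cancel_mono ψ, assoc, Subobject.underlyingIso_hom_comp_eq_mk, Subobject.ofLE_arrow, hψ]
    rw [h1]
    exact hess2.comp_iso_right _
  have hE'ess : EssExt A₀ E' :=
    ⟨hA₀E.trans hEE', by
      rw [← Subobject.ofLE_comp_ofLE A₀ E E' hA₀E hEE']
      exact hess.comp hess3⟩
  have hE'E : E' ≤ E := hEmax E' hE'ess hEE'
  let ψ' : cokernel K.arrow ⟶ (E : C) :=
    (Subobject.underlyingIso ψ).inv ≫ Subobject.ofLE E' E hE'E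
  have hψ' : ψ' ≫ E.arrow = ψ := by
    change ((Subobject.underlyingIso ψ).inv ≫ Subobject.ofLE E' E hE'E) ≫ E.arrow = ψ
    rw [assoc, Subobject.ofLE_arrow, ← Subobject.underlyingIso_hom_comp_eq_mk, Iso.inv_hom_id_assoc]
  have hret : E.arrow ≫ (q ≫ ψ') = 𝟙 _ := by
    rw [← cancel_mono E.arrow, assoc, assoc, hψ', ← assoc, hψ, id_comp]
  refine ⟨E, ⟨hA₀E, hess⟩, ⟨fun {P Q} a b _ => ?_⟩⟩
  obtain ⟨h, hh⟩ := Injective.factors (a ≫ E.arrow) b
  exact ⟨h ≫ q ≫ ψ', by rw [← assoc, hh, assoc, hret, comp_id]⟩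

/-- a nonzero injective object receiving a nonzero morphism from a Noetherian object has an
indecomposable injective subobject -/
theorem exists_indec_injective_sub [Injective X] {P : C} [IsNoetherianObject P] (φ : P ⟶ X)
    (hφ : φ ≠ 0) : ∃ (T : C) (t : T ⟶ X), Mono t ∧ Injective T ∧ Indec T := by
  obtain ⟨U, u, hu, hU0, hU⟩ := exists_uniform_of_noetherian φ hφ
  obtain ⟨E, ⟨hle, hess⟩, hinj⟩ := exists_injective_essExt (Subobject.mk u)
  refine ⟨(E : C), E.arrow, inferInstance, hinj, ?_⟩
  exact indec_of_uniform_of_isEss ((Subobject.underlyingIso u).inv ≫ Subobject.ofLE _ E hle)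
    (hess.comp_iso_left _) hU hU0

end Groth.Agent.Lib.H6xEss
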