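import Mathlib
import Groth.Agent.Lib.H6xIndecA
set_option backward.isDefEq.respectTransparency.types false

/-!
# Injective objects as coproducts of indecomposable injectives (helper6)

`exists_iso_coprod_indec`: in a Grothendieck abelian category in which coproducts of injective
objects are injective and every nonzero object receives a nonzero morphism from a Noetherian
object, every injective object is a coproduct of indecomposable injective objects.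
-/

set_option autoImplicit false
set_option linter.style.haveILetI false
universe w v u

namespace Groth.Agent.Lib.H6xEss

open CategoryTheory CategoryTheory.Limits Category

variable {C : Type u} [Category.{v} C] [Abelian C] [IsGrothendieckAbelian.{w} C] {I : C}

/-- a morphism to a coproduct through which all the inclusions factor is an epimorphism -/
lemma epi_of_factors {K : Type w} (f : K → C) {Y : C} (g : Y ⟶ ∐ f)
    (h : ∀ j, ∃ a : f j ⟶ Y, a ≫ g = Sigma.ι f j) : Epi g := by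
  refine ⟨fun {Z} h₁ h₂ h12 => ?_⟩
  apply Sigma.hom_ext
  intro j
  obtain ⟨a, ha⟩ := h j
  rw [← ha, assoc, assoc, h12]

section family

variable (𝒮 : Set (Subobject I))

/-- the coproduct of the members of a set of subobjects -/
noncomputable def sigmaObj : C := ∐ (fun j : Idx 𝒮 => (sub 𝒮 j : C))

/-- the canonical morphism from the coproduct of the members of a set of subobjects -/
noncomputable def sigmaDesc : sigmaObj 𝒮 ⟶ I := Sigma.desc (fun j : Idx 𝒮 => (sub 𝒮 j).arrow)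

/-- the inclusion of a member in the coproduct -/
noncomputable def sigmaι (j : Idx 𝒮) : (sub 𝒮 j : C) ⟶ sigmaObj 𝒮 :=
  Sigma.ι (fun j : Idx 𝒮 => (sub 𝒮 j : C)) j

@[reassoc]
lemma sigmaι_desc (j : Idx 𝒮) : sigmaι 𝒮 j ≫ sigmaDesc 𝒮 = (sub 𝒮 j).arrow :=
  Sigma.ι_desc _ _

/-- independence of a set of subobjects -/
def Indep : Prop := Mono (sigmaDesc 𝒮)

variable {𝒮} {𝒮' : Set (Subobject I)}

/-- the inclusion of index types -/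
def Idx.incl (h : 𝒮 ⊆ 𝒮') (j : Idx 𝒮) : Idx 𝒮' := ⟨j.1, h j.2⟩

/-- the transition morphism between coproducts for an inclusion of sets of subobjects -/
noncomputable def sigmaTrans (h : 𝒮 ⊆ 𝒮') : sigmaObj 𝒮 ⟶ sigmaObj 𝒮' :=
  Sigma.desc (fun j : Idx 𝒮 => sigmaι 𝒮' (Idx.incl h j))

@[reassoc]
lemma sigmaι_trans (h : 𝒮 ⊆ 𝒮') (j : Idx 𝒮) :
    sigmaι 𝒮 j ≫ sigmaTrans h = sigmaι 𝒮' (Idx.incl h j) :=
  Sigma.ι_desc _ _

@[reassoc]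
lemma sigmaTrans_desc (h : 𝒮 ⊆ 𝒮') : sigmaTrans h ≫ sigmaDesc 𝒮' = sigmaDesc 𝒮 := by
  apply Sigma.hom_ext
  intro j
  change sigmaι 𝒮 j ≫ _ = sigmaι 𝒮 j ≫ _
  rw [sigmaι_trans_assoc, sigmaι_desc]
  exact sigmaι_desc 𝒮' (Idx.incl h j)

lemma sigmaTrans_trans {𝒮'' : Set (Subobject I)} (h : 𝒮 ⊆ 𝒮') (h' : 𝒮' ⊆ 𝒮'') :
    sigmaTrans h ≫ sigmaTrans h' = sigmaTrans (h.trans h') := by
  apply Sigma.hom_ext
  intro j
  change sigmaι 𝒮 j ≫ _ = sigmaι 𝒮 j ≫ _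
  rw [sigmaι_trans_assoc, sigmaι_trans]
  exact sigmaι_trans h' (Idx.incl h j)

lemma mono_sigmaTrans (h : 𝒮 ⊆ 𝒮') (h𝒮 : Indep 𝒮) : Mono (sigmaTrans h) := by
  haveI : Mono (sigmaTrans h ≫ sigmaDesc 𝒮') := by rw [sigmaTrans_desc]; exact h𝒮
  exact mono_of_mono (sigmaTrans h) (sigmaDesc 𝒮')

end family

/-- unions of chains of independent sets are independent -/
theorem indep_sUnion (𝒞 : Set (Set (Subobject I))) (hch : IsChain (· ⊆ ·) 𝒞) (hne : 𝒞.Nonempty)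
    (hind : ∀ 𝒮 ∈ 𝒞, Indep 𝒮) : Indep (⋃₀ 𝒞) := by
  have hsub : ∀ 𝒮 : 𝒞, 𝒮.1 ⊆ ⋃₀ 𝒞 := fun 𝒮 => Set.subset_sUnion_of_mem 𝒮.2
  have hmono : ∀ 𝒮 : 𝒞, Mono (sigmaTrans (hsub 𝒮)) := fun 𝒮 =>
    mono_sigmaTrans _ (hind _ 𝒮.2)
  let P : 𝒞 → Subobject (sigmaObj (⋃₀ 𝒞)) := fun 𝒮 =>
    @Subobject.mk _ _ _ _ (sigmaTrans (hsub 𝒮)) (hmono 𝒮)
  have hPle : ∀ 𝒮₁ 𝒮₂ : 𝒞, 𝒮₁.1 ⊆ 𝒮₂.1 → P 𝒮₁ ≤ P 𝒮₂ := by
    intro 𝒮₁ 𝒮₂ h12
    haveI := hmono 𝒮₁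
    haveI := hmono 𝒮₂
    exact Subobject.mk_le_mk_of_comm (sigmaTrans h12) (sigmaTrans_trans _ _)
  have hdir : DirectedOn (· ≤ ·) (Set.range P) := by
    rintro _ ⟨𝒮₁, rfl⟩ _ ⟨𝒮₂, rfl⟩
    rcases hch.total 𝒮₁.2 𝒮₂.2 with h | h
    · exact ⟨P 𝒮₂, ⟨𝒮₂, rfl⟩, hPle _ _ h, le_rfl⟩
    · exact ⟨P 𝒮₁, ⟨𝒮₁, rfl⟩, le_rfl, hPle _ _ h⟩
  have hne' : (Set.range P).Nonempty := by
    obtain ⟨𝒮, h𝒮⟩ := hne
    exact ⟨P ⟨𝒮, h𝒮⟩, ⟨_, rfl⟩⟩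
  have key : Mono ((sSup (Set.range P)).arrow ≫ sigmaDesc (⋃₀ 𝒞)) := by
    apply mono_sSup_arrow_comp _ hdir hne'
    rintro _ ⟨𝒮, rfl⟩
    haveI := hmono 𝒮
    change Mono ((Subobject.mk (sigmaTrans (hsub 𝒮))).arrow ≫ sigmaDesc (⋃₀ 𝒞))
    rw [← Subobject.underlyingIso_hom_comp_eq_mk, assoc, sigmaTrans_desc]
    haveI : Mono (sigmaDesc 𝒮.1) := hind _ 𝒮.2
    exact mono_comp _ _
  haveI : Epi (sSup (Set.range P)).arrow := by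
    apply epi_of_factors
    intro j
    obtain ⟨𝒮, h𝒮, hj⟩ := Set.mem_sUnion.1 j.2
    let j' : Idx 𝒮 := ⟨j.1, hj⟩
    haveI := hmono ⟨𝒮, h𝒮⟩
    have hle : P ⟨𝒮, h𝒮⟩ ≤ sSup (Set.range P) := le_sSup ⟨_, rfl⟩
    refine ⟨sigmaι 𝒮 j' ≫ (Subobject.underlyingIso (sigmaTrans (hsub ⟨𝒮, h𝒮⟩))).inv ≫
      Subobject.ofLE _ _ hle, ?_⟩
    have h3 : Subobject.ofLE _ _ hle ≫ (sSup (Set.range P)).arrow =
        (Subobject.mk (sigmaTrans (hsub ⟨𝒮, h𝒮⟩))).arrow := Subobject.ofLE_arrow hle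
    have h4 : (Subobject.underlyingIso (sigmaTrans (hsub ⟨𝒮, h𝒮⟩))).inv ≫
        (Subobject.mk (sigmaTrans (hsub ⟨𝒮, h𝒮⟩))).arrow = sigmaTrans (hsub ⟨𝒮, h𝒮⟩) := by
      rw [← Subobject.underlyingIso_hom_comp_eq_mk, Iso.inv_hom_id_assoc]
    have h5 : (sigmaι 𝒮 j' ≫ (Subobject.underlyingIso (sigmaTrans (hsub ⟨𝒮, h𝒮⟩))).inv ≫
        Subobject.ofLE _ _ hle) ≫ (sSup (Set.range P)).arrow =
        sigmaι (⋃₀ 𝒞) (Idx.incl (hsub ⟨𝒮, h𝒮⟩) j') := by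
      rw [assoc, assoc, h3, h4]
      exact sigmaι_trans (hsub ⟨𝒮, h𝒮⟩) j'
    exact h5
  haveI : IsIso (sSup (Set.range P)).arrow := isIso_of_mono_of_epi _
  have h2 : sigmaDesc (⋃₀ 𝒞) =
      inv (sSup (Set.range P)).arrow ≫ ((sSup (Set.range P)).arrow ≫ sigmaDesc (⋃₀ 𝒞)) := by
    rw [IsIso.inv_hom_id_assoc]
  change Mono (sigmaDesc (⋃₀ 𝒞))
  rw [h2]
  exact mono_comp _ _

end Groth.Agent.Lib.H6xEss
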