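import Mathlib
import Groth.Agent.Lib.H6xIndecB
set_option backward.isDefEq.respectTransparency.types false

/-!
# Injective objects as coproducts of indecomposable injectives: the main theorem (helper6)
-/

set_option autoImplicit false
set_option linter.style.haveILetI false
universe w v u

namespace Groth.Agent.Lib.H6xEss

open CategoryTheory CategoryTheory.Limits Category

variable {C : Type u} [Category.{v} C] [Abelian C]

lemma Indec.of_iso {T T' : C} (h : Indec T) (e : T ≅ T') : Indec T' := by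
  refine ⟨fun h0 => h.1 (IsZero.of_iso h0 e), ?_⟩
  rintro A B ⟨e'⟩
  exact h.2 A B ⟨e ≪≫ e'⟩

lemma isZero_sigmaObj_of_isEmpty {K : Type w} [IsEmpty K] (f : K → C) [HasCoproduct f] :
    IsZero (∐ f) := by
  rw [IsZero.iff_id_eq_zero]
  apply Sigma.hom_ext
  intro j
  exact isEmptyElim j

variable [IsGrothendieckAbelian.{w} C] {I : C}

/-- the defining property of the families used in Zorn's lemma -/
def Good (𝒮 : Set (Subobject I)) : Prop :=
  (∀ T ∈ 𝒮, Injective (T : C) ∧ Indec (T : C)) ∧ Indep 𝒮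

lemma good_empty : Good (∅ : Set (Subobject I)) := by
  refine ⟨fun T hT => (Set.notMem_empty T hT).elim, ?_⟩
  haveI : IsEmpty (Idx (∅ : Set (Subobject I))) := ⟨fun j => Set.notMem_empty _ j.2⟩
  have hz : IsZero (sigmaObj (∅ : Set (Subobject I))) := isZero_sigmaObj_of_isEmpty _
  exact ⟨fun h₁ h₂ _ => hz.eq_of_tgt _ _⟩

lemma sub_injective (𝒮 : Set (Subobject I)) {j j' : Idx 𝒮} (h : sub 𝒮 j = sub 𝒮 j') : j = j' :=
  Subtype.ext ((equivShrink (Subobject I)).symm.injective h)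

/-- adding a subobject killed by a retraction of the coproduct keeps the family independent -/
theorem indep_insert (𝒮 : Set (Subobject I)) (h𝒮 : Indep 𝒮) (r : I ⟶ sigmaObj 𝒮)
    (hr : sigmaDesc 𝒮 ≫ r = 𝟙 _) (T : Subobject I) (hT : T.arrow ≫ r = 0) (hT𝒮 : T ∉ 𝒮) :
    Indep (insert T 𝒮) := by
  have hsub : 𝒮 ⊆ insert T 𝒮 := Set.subset_insert T 𝒮
  obtain ⟨jT, hjT⟩ := exists_idx (insert T 𝒮) (Set.mem_insert T 𝒮)
  let θ : (T : C) ⟶ (sub (insert T 𝒮) jT : C) := Subobject.ofLE _ _ (le_of_eq hjT.symm)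
  have hθ : θ ≫ (sub (insert T 𝒮) jT).arrow = T.arrow := Subobject.ofLE_arrow _
  let γ : sigmaObj 𝒮 ⊞ (T : C) ⟶ sigmaObj (insert T 𝒮) :=
    biprod.desc (sigmaTrans hsub) (θ ≫ sigmaι (insert T 𝒮) jT)
  let δ : sigmaObj 𝒮 ⊞ (T : C) ⟶ I := biprod.desc (sigmaDesc 𝒮) T.arrow
  have hγδ : γ ≫ sigmaDesc (insert T 𝒮) = δ := by
    apply biprod.hom_ext'
    · rw [biprod.inl_desc_assoc, biprod.inl_desc, sigmaTrans_desc]
    · rw [biprod.inr_desc_assoc, biprod.inr_desc, assoc, sigmaι_desc, hθ]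
  haveI hδ : Mono δ := by
    apply Preadditive.mono_of_cancel_zero
    intro W x hx
    have h1 : x ≫ biprod.fst ≫ sigmaDesc 𝒮 + x ≫ biprod.snd ≫ T.arrow = 0 := by
      rw [← Preadditive.comp_add, ← biprod.desc_eq]
      exact hx
    have h2 : x ≫ biprod.fst = 0 := by
      have := congrArg (· ≫ r) h1
      simp only [Preadditive.add_comp, assoc, hr, hT, comp_zero, add_zero, zero_comp,
        comp_id] at this
      exact this
    have h3 : x ≫ biprod.snd = 0 := by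
      rw [← assoc, h2, zero_comp, zero_add, ← assoc] at h1
      rw [← cancel_mono T.arrow, h1, zero_comp]
    apply biprod.hom_ext
    · rw [h2, zero_comp]
    · rw [h3, zero_comp]
  haveI : Mono γ := by
    haveI : Mono (γ ≫ sigmaDesc (insert T 𝒮)) := by rw [hγδ]; exact hδ
    exact mono_of_mono γ (sigmaDesc (insert T 𝒮))
  haveI : Epi γ := by
    apply epi_of_factors
    intro j'
    rcases Set.mem_insert_iff.1 j'.2 with h | h
    · have hj' : j' = jT := sub_injective _ (h.trans hjT.symm)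
      subst hj'
      refine ⟨Subobject.ofLE _ _ (le_of_eq hjT) ≫ biprod.inr, ?_⟩
      have h5 : (Subobject.ofLE _ _ (le_of_eq hjT) ≫ biprod.inr) ≫ γ =
          sigmaι (insert T 𝒮) j' := by
        rw [assoc, biprod.inr_desc, ← assoc]
        change (Subobject.ofLE _ _ (le_of_eq hjT) ≫ Subobject.ofLE _ _ (le_of_eq hjT.symm)) ≫ _ = _
        rw [Subobject.ofLE_comp_ofLE, Subobject.ofLE_refl, id_comp]
      exact h5
    · let j : Idx 𝒮 := ⟨j'.1, h⟩
      refine ⟨sigmaι 𝒮 j ≫ biprod.inl, ?_⟩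
      have h5 : (sigmaι 𝒮 j ≫ biprod.inl) ≫ γ = sigmaι (insert T 𝒮) (Idx.incl hsub j) := by
        rw [assoc, biprod.inl_desc]
        exact sigmaι_trans hsub j
      exact h5
  haveI : IsIso γ := isIso_of_mono_of_epi γ
  have h6 : sigmaDesc (insert T 𝒮) = inv γ ≫ δ := by
    rw [← hγδ, IsIso.inv_hom_id_assoc]
  change Mono (sigmaDesc (insert T 𝒮))
  rw [h6]
  exact mono_comp _ _

/-- **Matlis–Gabriel decomposition**: in a Grothendieck abelian category where coproducts of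
injectives are injective and nonzero objects receive nonzero morphisms from Noetherian objects,
every injective object is a coproduct of indecomposable injective objects. -/
theorem exists_iso_coprod_indec
    (hN : ∀ X : C, ¬ IsZero X → ∃ (P : C) (φ : P ⟶ X), IsNoetherianObject P ∧ φ ≠ 0)
    (hSig : ∀ (K : Type w) (J : K → C), (∀ k, Injective (J k)) → Injective (∐ J))
    (I : C) [Injective I] :
    ∃ (K : Type w) (J : K → C), (∀ k, Injective (J k)) ∧ (∀ k, Indec (J k)) ∧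
      Nonempty (I ≅ ∐ J) := by
  obtain ⟨𝒮, -, hgood, hmax⟩ := zorn_subset_nonempty {𝒮 : Set (Subobject I) | Good 𝒮}
    (fun 𝒞 h𝒞 hch hne => ⟨⋃₀ 𝒞, ⟨fun T hT => by
        obtain ⟨𝒮, h𝒮, hT𝒮⟩ := Set.mem_sUnion.1 hT
        exact (h𝒞 h𝒮).1 T hT𝒮,
      indep_sUnion 𝒞 hch hne (fun 𝒮 h𝒮 => (h𝒞 h𝒮).2)⟩,
      fun 𝒮 h𝒮 => Set.subset_sUnion_of_mem h𝒮⟩) ∅ good_empty
  haveI hΦ : Mono (sigmaDesc 𝒮) := hgood.2
  haveI hSinj : Injective (sigmaObj 𝒮) :=
    hSig (Idx 𝒮) (fun j => (sub 𝒮 j : C)) (fun j => (hgood.1 _ (sub_mem 𝒮 j)).1)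
  obtain ⟨r, hr⟩ := Injective.factors (𝟙 (sigmaObj 𝒮)) (sigmaDesc 𝒮)
  let k := kernel.ι r
  have hρ0 : (𝟙 I - r ≫ sigmaDesc 𝒮) ≫ r = 0 := by
    rw [Preadditive.sub_comp, id_comp, assoc, hr, comp_id, sub_self]
  let ρ : I ⟶ kernel r := kernel.lift r (𝟙 I - r ≫ sigmaDesc 𝒮) hρ0
  have hkρ : k ≫ ρ = 𝟙 _ := by
    rw [← cancel_mono k, assoc, kernel.lift_ι, Preadditive.comp_sub, comp_id, ← assoc,
      kernel.condition, zero_comp, sub_zero, id_comp]
  haveI hkinj : Injective (kernel r) := by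
    refine ⟨fun {P Q} a b _ => ?_⟩
    obtain ⟨h, hh⟩ := Injective.factors (a ≫ k) b
    exact ⟨h ≫ ρ, by rw [← assoc, hh, assoc, hkρ, comp_id]⟩
  by_cases hz : IsZero (kernel r)
  · haveI : Mono r := Preadditive.mono_of_kernel_zero (hz.eq_of_src _ _)
    haveI : IsSplitEpi r := IsSplitEpi.mk' ⟨sigmaDesc 𝒮, hr⟩
    haveI : IsIso r := isIso_of_mono_of_isSplitEpi r
    let e : I ≅ sigmaObj 𝒮 := asIso r
    exact ⟨Idx 𝒮, fun j => (sub 𝒮 j : C), fun j => (hgood.1 _ (sub_mem 𝒮 j)).1,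
      fun j => (hgood.1 _ (sub_mem 𝒮 j)).2, ⟨e⟩⟩
  · exfalso
    obtain ⟨P, φ, hP, hφ⟩ := hN _ hz
    obtain ⟨T', t, ht, hT'inj, hT'ind⟩ := exists_indec_injective_sub φ hφ
    let T : Subobject I := Subobject.mk (t ≫ k)
    have hTr : T.arrow ≫ r = 0 := by
      rw [← Subobject.underlyingIso_hom_comp_eq_mk, assoc, assoc, kernel.condition, comp_zero,
        comp_zero]
    have hTgood : Injective (T : C) ∧ Indec (T : C) :=
      ⟨Injective.of_iso (Subobject.underlyingIso (t ≫ k)).symm hT'inj,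
        hT'ind.of_iso (Subobject.underlyingIso (t ≫ k)).symm⟩
    have hnot : T ∉ 𝒮 := by
      intro hT𝒮
      obtain ⟨j, hj⟩ := exists_idx 𝒮 hT𝒮
      have h1 : (sub 𝒮 j).arrow ≫ r = 0 := by rw [hj]; exact hTr
      have h2 : sigmaι 𝒮 j = 0 := by
        rw [← sigmaι_desc, assoc, hr, comp_id] at h1
        exact h1
      have h3 : (sub 𝒮 j).arrow = 0 := by rw [← sigmaι_desc, h2, zero_comp]
      exact (hgood.1 _ (sub_mem 𝒮 j)).2.1 (IsZero.of_mono_eq_zero _ h3)
    have hgood' : Good (insert T 𝒮) := by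
      refine ⟨fun B hB => ?_, indep_insert 𝒮 hgood.2 r hr T hTr hnot⟩
      rcases Set.mem_insert_iff.1 hB with rfl | hB
      · exact hTgood
      · exact hgood.1 B hB
    exact hnot (hmax hgood' (Set.subset_insert T 𝒮) (Set.mem_insert T 𝒮))

end Groth.Agent.Lib.H6xEss
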