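import Mathlib
import Groth.Agent.S0484
import Groth.Agent.Lib.H6xIndecC
import Groth.Agent.Lib.H6xInjCoprod
import Groth.Agent.Lib.H6xIdealGenE
import Groth.Agent.Lib.H6xInjTildeA
import Groth.Agent.Lib.H6xExtZeroSec
set_option backward.isDefEq.respectTransparency.types false

/-!
# Injective `O_X`-modules on a locally Noetherian scheme are coproducts of indecomposable injective
modules (helper6)
-/

set_option autoImplicit false
set_option linter.style.haveILetI false
universe u
open CategoryTheory CategoryTheory.Limits AlgebraicGeometry TopologicalSpace Opposite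

namespace Groth.Agent.Lib.H6xEss

open Groth.Agent.Lib.H6xExtZeroSec Groth.Agent.Lib.Helper6

variable {X : Scheme.{u}}

/-- a nonzero module has a nonzero section over some affine open -/
lemma exists_affine_section_ne_zero (F : X.Modules) (hF : ¬ IsZero F) :
    ∃ (V : X.Opens) (_ : IsAffineOpen V) (s : Γ(F, V)), s ≠ 0 := by
  by_contra hcon
  push Not at hcon
  apply hF
  rw [IsZero.iff_id_eq_zero]
  apply hom_eq_zero_of_app
  intro W s
  change s = 0
  apply Groth.Agent.Lib.H6xInjTilde.eq_zero_of_locally F W s
  intro y hy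
  obtain ⟨_, ⟨V, hV, rfl⟩, hyV, hVW⟩ :=
    X.isBasis_affineOpens.exists_subset_of_mem_open hy W.isOpen
  exact ⟨V, hVW, hyV, hcon V hV _⟩

/-- a nonzero module on a locally Noetherian scheme receives a nonzero morphism from a Noetherian
object -/
lemma exists_noetherian_hom_ne_zero [IsLocallyNoetherian X] (F : X.Modules) (hF : ¬ IsZero F) :
    ∃ (P : X.Modules) (φ : P ⟶ F), IsNoetherianObject P ∧ φ ≠ 0 := by
  obtain ⟨V, hV, s, hs⟩ := exists_affine_section_ne_zero F hF
  haveI : IsAffine (V : Scheme.{u}) := hV
  refine ⟨CxOX.extZeroUnit V.ι, secHom V F s, ?_, ?_⟩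
  · rw [isNoetherianObject_iff_monotone_chain_condition]
    exact fun c => Groth.Agent.Lib.H6xIdealGen.chain_extZeroUnit_stabilizes V.ι c
  · intro h0
    apply hs
    apply secHom_injective V F
    rw [h0, secHom_zero]

/-- **every injective `O_X`-module on a locally Noetherian scheme is a coproduct of indecomposable
injective modules** -/
theorem exists_iso_coprod_indec_modules [IsLocallyNoetherian X] (I : X.Modules) [Injective I] :
    ∃ (ι : Type u) (J : ι → X.Modules), (∀ i, Injective (J i)) ∧ (∀ i, ¬ IsZero (J i)) ∧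
      (∀ i (A B : X.Modules), Nonempty (J i ≅ A ⊞ B) → IsZero A ∨ IsZero B) ∧
      Nonempty (I ≅ ∐ J) := by
  haveI : IsGrothendieckAbelian.{u} X.Modules :=
    Groth.Agent.S0484.result (Opens.grothendieckTopology X) X.ringCatSheaf
  obtain ⟨K, J, hJinj, hJind, hiso⟩ := exists_iso_coprod_indec (C := X.Modules)
    (fun F hF => exists_noetherian_hom_ne_zero F hF)
    (fun K J hJ => Groth.Agent.Lib.H6xInjCoprod.injective_coprod J hJ) I
  exact ⟨K, J, hJinj, fun i => (hJind i).1, fun i A B h => (hJind i).2 A B h, hiso⟩

end Groth.Agent.Lib.H6xEss
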