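import Mathlib
import Groth.Agent.Lib.H6xIndecA
set_option backward.isDefEq.respectTransparency.types false

/-!
# Indecomposable injective objects are uniform (helper6)

In a Grothendieck abelian category, an indecomposable injective object is uniform
(`uniform_of_indec_injective`): the injective hull of a nonzero subobject, taken inside the object,
is a direct summand, hence everything.
-/

set_option autoImplicit false
set_option linter.style.haveILetI false
universe w v u

namespace Groth.Agent.Lib.H6xEss

open CategoryTheory CategoryTheory.Limits Category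

variable {C : Type u} [Category.{v} C] [Abelian C] [IsGrothendieckAbelian.{w} C] {X : C}

/-- a nonzero subobject of an indecomposable injective object is essential -/
theorem isEss_arrow_of_indec_injective [Injective X] (hX : Indec X) (S : Subobject X)
    (hS : S ≠ ⊥) : IsEss S.arrow := by
  obtain ⟨E, ⟨hSE, hess⟩, hinj⟩ := exists_injective_essExt S
  haveI := hinj
  let T : ShortComplex C := ShortComplex.mk E.arrow (cokernel.π E.arrow) (cokernel.condition _)
  have hT : T.ShortExact :=
    { exact := ShortComplex.exact_cokernel E.arrow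
      mono_f := inferInstanceAs (Mono E.arrow)
      epi_g := inferInstanceAs (Epi (cokernel.π E.arrow)) }
  haveI : Injective T.X₁ := hinj
  have e : X ≅ (E : C) ⊞ cokernel E.arrow := hT.splittingOfInjective.isoBinaryBiproduct
  rcases hX.2 _ _ ⟨e⟩ with h0 | h0
  · exfalso
    apply hS
    apply eq_bot_of_arrow_eq_zero
    rw [← Subobject.ofLE_arrow hSE]
    rw [h0.eq_of_tgt (Subobject.ofLE S E hSE) 0, zero_comp]
  · haveI : Epi E.arrow := by
      apply Preadditive.epi_of_cokernel_zero
      exact h0.eq_of_tgt _ _
    haveI : IsIso E.arrow := isIso_of_mono_of_epi _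
    have : S.arrow = Subobject.ofLE S E hSE ≫ E.arrow := (Subobject.ofLE_arrow hSE).symm
    rw [this]
    exact hess.comp_iso_right _

/-- an indecomposable injective object is uniform -/
theorem uniform_of_indec_injective [Injective X] (hX : Indec X) : Uniform X := by
  intro S T hST
  by_cases hS : S = ⊥
  · exact Or.inl hS
  · right
    have hess := isEss_arrow_of_indec_injective hX S hS
    have hm : Mono (S.arrow ≫ cokernel.π T.arrow) :=
      mono_comp_of_inf_eq_bot T S (by rw [inf_comm]; exact hST)
    haveI := hess.ess _ hm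
    apply eq_bot_of_arrow_eq_zero
    rw [← cancel_mono (cokernel.π T.arrow), cokernel.condition, zero_comp]

end Groth.Agent.Lib.H6xEss

namespace Groth.Agent.Lib.H6xEss

open CategoryTheory CategoryTheory.Limits Category

variable {C : Type u} [Category.{v} C] [Abelian C] [IsGrothendieckAbelian.{w} C] {X : C}

/-- two Serre classes both having torsion in an indecomposable injective have common torsion -/
theorem exists_common_torsion [Injective X] (hX : Indec X) (S₁ S₂ : ObjectProperty C)
    [S₁.IsSerreClass] [S₂.IsSerreClass] {Y₁ Y₂ : C} (hY₁ : S₁ Y₁) (hY₂ : S₂ Y₂)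
    (f₁ : Y₁ ⟶ X) (f₂ : Y₂ ⟶ X) (hf₁ : f₁ ≠ 0) (hf₂ : f₂ ≠ 0) :
    ∃ (Y : C), (S₁ Y ∧ S₂ Y) ∧ ∃ f : Y ⟶ X, f ≠ 0 := by
  have hU := uniform_of_indec_injective hX
  have hne : ∀ {Y : C} (f : Y ⟶ X), f ≠ 0 → imageSubobject f ≠ ⊥ := by
    intro Y f hf h
    apply hf
    have h0 : (imageSubobject f).arrow = 0 := by rw [h]; exact Subobject.bot_arrow
    rw [← imageSubobject_arrow_comp f, h0, comp_zero]
  have h12 : imageSubobject f₁ ⊓ imageSubobject f₂ ≠ ⊥ := by
    intro h
    rcases hU _ _ h with h | h
    · exact hne f₁ hf₁ h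
    · exact hne f₂ hf₂ h
  have hI₁ : S₁ (imageSubobject f₁ : C) := S₁.prop_of_epi (factorThruImageSubobject f₁) hY₁
  have hI₂ : S₂ (imageSubobject f₂ : C) := S₂.prop_of_epi (factorThruImageSubobject f₂) hY₂
  refine ⟨((imageSubobject f₁ ⊓ imageSubobject f₂ : Subobject X) : C),
    ⟨S₁.prop_of_mono (Subobject.ofLE _ _ inf_le_left) hI₁,
      S₂.prop_of_mono (Subobject.ofLE _ _ inf_le_right) hI₂⟩,
    (imageSubobject f₁ ⊓ imageSubobject f₂).arrow, fun h => h12 (eq_bot_of_arrow_eq_zero _ h)⟩

end Groth.Agent.Lib.H6xEss
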