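import Mathlib
import Groth.Prelude.Def_FlatMod2
import Groth.Agent.Lib.Helper2QCoh
set_option backward.isDefEq.respectTransparency.types false

/-!
# Stalks of quasi-coherent modules as localized modules (helper6)
-/

set_option autoImplicit false
set_option linter.style.haveILetI false
universe u
open CategoryTheory CategoryTheory.Limits AlgebraicGeometry TopologicalSpace Opposite

namespace Groth.Agent.Lib.H6xInjQc

variable {X : Scheme.{u}} {U : X.Opens} (hU : IsAffineOpen U) (F : X.Modules)

/-- the algebra structure of the local ring at `x ∈ U` over `Γ(X, U)` -/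
@[reducible] noncomputable def algStalk (x : X) (hx : x ∈ U) :
    Algebra Γ(X, U) (X.presheaf.stalk x) :=
  X.presheaf.algebra_section_stalk (⟨x, hx⟩ : U)

/-- the module structure of the stalk at `x ∈ U` over `Γ(X, U)` -/
@[reducible] noncomputable def modStalk (x : X) (hx : x ∈ U) :
    Module Γ(X, U) (F.presheaf.stalk x) :=
  Module.compHom (F.presheaf.stalk x) (X.presheaf.germ U x hx).hom

lemma isScalarTower_stalk (x : X) (hx : x ∈ U) :
    letI := algStalk (U := U) x hx
    letI := modStalk F x hx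
    IsScalarTower Γ(X, U) (X.presheaf.stalk x) (F.presheaf.stalk x) := by
  letI := algStalk (U := U) x hx
  letI := modStalk F x hx
  exact IsScalarTower.of_algebraMap_smul (fun r m => rfl)

/-- the germ map as a linear map over `Γ(X, U)` -/
noncomputable def germL (x : X) (hx : x ∈ U) :
    letI := modStalk F x hx
    Γ(F, U) →ₗ[Γ(X, U)] F.presheaf.stalk x :=
  letI := modStalk F x hx
  { toFun := fun m => F.presheaf.germ U x hx m
    map_add' := fun m m' => map_add _ m m'
    map_smul' := fun r m => Groth.Agent.Lib.Helper2.QCoh.germ_smul F x U hx r m }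

include hU in
lemma isLocalization_stalk_of (x : X) (hx : x ∈ U) (P : Ideal Γ(X, U)) [P.IsPrime]
    (hP : ∀ s : Γ(X, U), x ∈ X.basicOpen s ↔ s ∉ P) :
    letI := algStalk (U := U) x hx
    IsLocalization.AtPrime (X.presheaf.stalk x) P := by
  letI := algStalk (U := U) x hx
  have h1 : IsLocalization.AtPrime (X.presheaf.stalk x) (hU.primeIdealOf ⟨x, hx⟩).asIdeal :=
    hU.isLocalization_stalk ⟨x, hx⟩
  have h2 : (hU.primeIdealOf ⟨x, hx⟩).asIdeal = P := by
    ext s
    have := (Groth.Agent.Lib.Helper2.mem_basicOpen_iff_notMem_primeIdealOf hU x hx s).symm.trans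
      (hP s)
    exact not_iff_not.1 this
  have h3 : (hU.primeIdealOf ⟨x, hx⟩).asIdeal.primeCompl = P.primeCompl := by
    ext s
    simp only [Ideal.mem_primeCompl_iff, h2]
  unfold IsLocalization.AtPrime at h1 ⊢
  rw [← h3]
  exact h1

include hU in
lemma isLocalizedModule_germ [F.IsQuasicoherent] (x : X) (hx : x ∈ U) (P : Ideal Γ(X, U))
    [P.IsPrime] (hP : ∀ s : Γ(X, U), x ∈ X.basicOpen s ↔ s ∉ P) :
    letI := modStalk F x hx
    IsLocalizedModule P.primeCompl (germL F x hx) := by
  letI := modStalk F x hx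
  refine ⟨?_, ?_, ?_⟩
  · rintro ⟨s, hs⟩
    have hxs : x ∈ X.basicOpen s := (hP s).2 hs
    have hu : IsUnit (X.presheaf.germ U x hx s) := (Scheme.mem_basicOpen X s x hx).1 hxs
    rw [Module.End.isUnit_iff]
    obtain ⟨u, hu'⟩ := hu
    constructor
    · intro a b hab
      have hab' : X.presheaf.germ U x hx s • a = X.presheaf.germ U x hx s • b := hab
      rw [← hu'] at hab'
      have := congrArg (fun z => (↑u⁻¹ : X.presheaf.stalk x) • z) hab'
      simpa [smul_smul] using this
    · intro b
      refine ⟨(↑u⁻¹ : X.presheaf.stalk x) • b, ?_⟩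
      change X.presheaf.germ U x hx s • ((↑u⁻¹ : X.presheaf.stalk x) • b) = b
      rw [← hu', smul_smul, Units.mul_inv, one_smul]
  · intro y
    obtain ⟨s, m, hxs, hsm⟩ := Groth.Agent.Lib.Helper2.QCoh.exists_smul_eq_germ hU F x hx y
    exact ⟨⟨m, ⟨s, (hP s).1 hxs⟩⟩, hsm⟩
  · intro m₁ m₂ h
    have h0 : F.presheaf.germ U x hx (m₁ - m₂) = 0 := by
      rw [map_sub]
      exact sub_eq_zero.2 h
    obtain ⟨s, hxs, hsm⟩ :=
      Groth.Agent.Lib.Helper2.QCoh.exists_smul_eq_zero_of_germ_eq_zero hU F x hx (m₁ - m₂) h0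
    refine ⟨⟨s, (hP s).1 hxs⟩, ?_⟩
    change s • m₁ = s • m₂
    rw [← sub_eq_zero, ← smul_sub]
    exact hsm

end Groth.Agent.Lib.H6xInjQc
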