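import Mathlib
import Groth.Prelude.Def_FlatMod2
import Groth.Agent.Lib.H6xInjLocal
import Groth.Agent.Lib.H6xInjQcB
import Groth.Agent.Lib.H6xInjQcC
set_option backward.isDefEq.respectTransparency.types false

/-!
# A quasi-coherent module on a locally Noetherian scheme is injective iff its stalks are (helper6)
-/

set_option autoImplicit false
set_option linter.style.haveILetI false
universe u
open CategoryTheory CategoryTheory.Limits AlgebraicGeometry TopologicalSpace Opposite

namespace Groth.Agent.Lib.H6xInjQc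

variable {X : Scheme.{u}}

/-- stalks of an injective quasi-coherent module are injective -/
theorem injective_stalk_of_injective [IsLocallyNoetherian X] (F : X.Modules) [F.IsQuasicoherent]
    [Injective F] (x : X) : Module.Injective (X.presheaf.stalk x) (F.presheaf.stalk x) := by
  obtain ⟨_, ⟨U, hU, rfl⟩, hxU, -⟩ :=
    X.isBasis_affineOpens.exists_subset_of_mem_open (Set.mem_univ x) isOpen_univ
  haveI : IsNoetherianRing Γ(X, U) := IsLocallyNoetherian.component_noetherian ⟨U, hU⟩
  haveI := injective_sections_of_injective hU F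
  letI := algStalk (U := U) x hxU
  letI := modStalk F x hxU
  haveI := isScalarTower_stalk F x hxU
  haveI : IsLocalization (hU.primeIdealOf ⟨x, hxU⟩).asIdeal.primeCompl (X.presheaf.stalk x) :=
    hU.isLocalization_stalk ⟨x, hxU⟩
  haveI := isLocalizedModule_germ hU F x hxU (hU.primeIdealOf ⟨x, hxU⟩).asIdeal
    (fun s => Groth.Agent.Lib.Helper2.mem_basicOpen_iff_notMem_primeIdealOf hU x hxU s)
  exact Module.injective_of_isLocalizedModule (hU.primeIdealOf ⟨x, hxU⟩).asIdeal.primeCompl
    (germL F x hxU)

/-- sections over an affine open of a quasi-coherent module with injective stalks are injective -/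
theorem injective_sections_of_injective_stalks {U : X.Opens} (hU : IsAffineOpen U)
    [IsNoetherianRing Γ(X, U)] (F : X.Modules) [F.IsQuasicoherent]
    (h : ∀ x ∈ U, Module.Injective (X.presheaf.stalk x) (F.presheaf.stalk x)) :
    Module.Injective Γ(X, U) Γ(F, U) := by
  let pt : ∀ (P : Ideal Γ(X, U)) [P.IsMaximal], X := fun P _ =>
    hU.fromSpec (⟨P, inferInstance⟩ : PrimeSpectrum Γ(X, U))
  have hpt : ∀ (P : Ideal Γ(X, U)) [P.IsMaximal], pt P ∈ U := fun P _ =>
    Groth.Agent.Lib.Helper2.QCoh.fromSpec_mem hU _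
  have hP : ∀ (P : Ideal Γ(X, U)) [P.IsMaximal] (s : Γ(X, U)),
      pt P ∈ X.basicOpen s ↔ s ∉ P := fun P _ s =>
    Groth.Agent.Lib.Helper2.QCoh.mem_basicOpen_fromSpec_iff hU ⟨P, inferInstance⟩ s
  let iAlg : ∀ (P : Ideal Γ(X, U)) [P.IsMaximal], Algebra Γ(X, U) (X.presheaf.stalk (pt P)) :=
    fun P _ => algStalk (U := U) (pt P) (hpt P)
  let iMod : ∀ (P : Ideal Γ(X, U)) [P.IsMaximal], Module Γ(X, U) (F.presheaf.stalk (pt P)) :=
    fun P _ => modStalk F (pt P) (hpt P)
  have iTower : ∀ (P : Ideal Γ(X, U)) [P.IsMaximal],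
      @IsScalarTower Γ(X, U) (X.presheaf.stalk (pt P)) (F.presheaf.stalk (pt P))
        (iAlg P).toSMul _ (iMod P).toSMul :=
    fun P _ => isScalarTower_stalk F (pt P) (hpt P)
  have iLoc : ∀ (P : Ideal Γ(X, U)) [P.IsMaximal],
      @IsLocalization.AtPrime _ _ (X.presheaf.stalk (pt P)) _ (iAlg P) P _ :=
    fun P _ => isLocalization_stalk_of hU (pt P) (hpt P) P (hP P)
  have iLM : ∀ (P : Ideal Γ(X, U)) [P.IsMaximal],
      @IsLocalizedModule _ _ _ _ _ _ _ (iMod P) P.primeCompl (germL F (pt P) (hpt P)) :=
    fun P _ => isLocalizedModule_germ hU F (pt P) (hpt P) P (hP P)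
  exact @Module.injective_of_localization_maximal' Γ(X, U) _ Γ(F, U) _ _
    (fun (P : Ideal Γ(X, U)) [P.IsMaximal] => X.presheaf.stalk (pt P))
    (fun P _ => inferInstance) (fun P _ => inferInstance) iAlg iLoc
    (fun (P : Ideal Γ(X, U)) [P.IsMaximal] => F.presheaf.stalk (pt P))
    (fun P _ => inferInstance) iMod (fun P _ => inferInstance) iTower
    (fun (P : Ideal Γ(X, U)) [P.IsMaximal] => germL F (pt P) (hpt P)) iLM
    inferInstance inferInstance
    (fun P hPm => by
      haveI := hPm
      exact h (pt P) (hpt P))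

theorem injective_iff_stalks [IsLocallyNoetherian X] (F : X.Modules) [F.IsQuasicoherent] :
    Injective F ↔ ∀ x : X, Module.Injective (X.presheaf.stalk x) (F.presheaf.stalk x) := by
  constructor
  · intro hF x
    exact injective_stalk_of_injective F x
  · intro h
    apply Groth.Agent.Lib.H6xInjLocal.injective_of_locally_injective
    intro x
    obtain ⟨_, ⟨U, hU, rfl⟩, hxU, -⟩ :=
      X.isBasis_affineOpens.exists_subset_of_mem_open (Set.mem_univ x) isOpen_univ
    haveI : IsNoetherianRing Γ(X, U) := IsLocallyNoetherian.component_noetherian ⟨U, hU⟩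
    refine ⟨U, hxU, ?_⟩
    exact injective_restrict_of_injective_sections hU F
      (injective_sections_of_injective_stalks hU F (fun y _ => h y))

end Groth.Agent.Lib.H6xInjQc
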