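import Mathlib
import Groth.Prelude.Def_FlatMod2
import Groth.Agent.Lib.H6xInjQcB
import Groth.Agent.Lib.Helper23QCohLocal
import Groth.Agent.Lib.Helper23QCohSum
import Groth.Agent.Lib.Helper23Extend
import Groth.Agent.Lib.Helper2QcPush
set_option backward.isDefEq.respectTransparency.types false

/-!
# Quasi-coherent modules on Noetherian schemes embed into quasi-coherent injective modules (helper6)
-/

set_option autoImplicit false
set_option linter.style.haveILetI false
universe u
open CategoryTheory CategoryTheory.Limits AlgebraicGeometry TopologicalSpace Opposite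

namespace Groth.Agent.Lib.H6xInjQc

open Groth.Agent.Lib.H6xInjTilde

variable {X : Scheme.{u}}

lemma exists_finite_affine_cover (X : Scheme.{u}) [CompactSpace X] :
    ∃ (n : ℕ) (U : Fin n → X.Opens), (∀ k, IsAffineOpen (U k)) ∧ ∀ x : X, ∃ k, x ∈ U k := by
  have hloc : ∀ x : X, ∃ V : X.Opens, IsAffineOpen V ∧ x ∈ V := by
    intro x
    obtain ⟨V, hV, hxV, -⟩ := (Opens.isBasis_iff_nbhd.1 X.isBasis_affineOpens) (Opens.mem_top x)
    exact ⟨V, hV, hxV⟩
  choose V hVa hxV using hloc
  obtain ⟨s, hs⟩ := isCompact_univ.elim_finite_subcover (fun x : X => (V x : Set X))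
    (fun x => (V x).2) (fun y _ => Set.mem_iUnion.2 ⟨y, hxV y⟩)
  refine ⟨s.card, fun k => V (s.equivFin.symm k).1, fun k => hVa _, fun x => ?_⟩
  obtain ⟨y, hy⟩ := Set.mem_iUnion.1 (hs (Set.mem_univ x))
  obtain ⟨hys, hxy⟩ := Set.mem_iUnion.1 hy
  refine ⟨s.equivFin ⟨y, hys⟩, ?_⟩
  simpa using hxy

/-- over an affine open `U` with Noetherian ring of sections: a quasi-coherent module maps to
a quasi-coherent injective module, injectively on sections over opens contained in `U` -/
theorem exists_local_embedding {U : X.Opens} (hU : IsAffineOpen U) [IsNoetherianRing Γ(X, U)]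
    [QuasiCompact hU.fromSpec] (F : X.Modules) [F.IsQuasicoherent] :
    ∃ (G : X.Modules) (φ : F ⟶ G), G.IsQuasicoherent ∧ Injective G ∧
      ∀ (W : X.Opens) (s : Γ(F, W)), φ.app W s = 0 →
        F.presheaf.map (homOfLE (hU.fromSpec.image_preimage_le W)).op s = 0 := by
  let R := Γ(X, U)
  let F' : (Spec R).Modules := F.restrict hU.fromSpec
  haveI : F'.IsQuasicoherent := Scheme.Modules.isQuasicoherent_restrictFunctor hU.fromSpec F
  let N : ModuleCat R := moduleSpecΓFunctor.obj F'
  let I : ModuleCat R := Injective.under N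
  haveI : Injective (ModuleCat.of R I) := (inferInstance : Injective (Injective.under N))
  have hI : Module.Injective R I := Module.injective_module_of_injective_object R I
  haveI : Injective (tilde I) := injective_tilde I hI
  haveI : IsIso F'.fromTildeΓ := Scheme.Modules.isIso_fromTildeΓ_of_isQuasicoherent F'
  haveI : PreservesFiniteLimits (tilde.functor R) := (Groth.Agent.S9498.aux R).1
  haveI : (tilde.functor R).PreservesMonomorphisms := inferInstance
  let ψ₂ : tilde N ⟶ tilde I := (tilde.functor R).map (Injective.ι N)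
  have hψ₂ : Mono ψ₂ := Functor.map_mono (tilde.functor R) (Injective.ι N)
  let ψ : F' ⟶ tilde I := inv F'.fromTildeΓ ≫ ψ₂
  haveI : Mono ψ := @mono_comp _ _ _ _ _ (inv F'.fromTildeΓ) inferInstance ψ₂ hψ₂
  let G : X.Modules := (Scheme.Modules.pushforward hU.fromSpec).obj (tilde I)
  let φ : F ⟶ G := (Scheme.Modules.restrictAdjunction hU.fromSpec).unit.app F ≫
    (Scheme.Modules.pushforward hU.fromSpec).map ψ
  refine ⟨G, φ, Groth.Agent.Lib.Helper23.QCohLocal.isQuasicoherent_pushforward _ _,
    injective_pushforward hU.fromSpec (tilde I), ?_⟩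
  intro W s hs
  have h1 : φ.app W s = ψ.app (hU.fromSpec ⁻¹ᵁ W)
      (F.presheaf.map (homOfLE (hU.fromSpec.image_preimage_le W)).op s) := rfl
  rw [h1] at hs
  exact (Groth.Agent.Lib.Helper23.Extend.injective_app_of_mono ψ _) (hs.trans (map_zero _).symm)

attribute [local instance] Abelian.hasFiniteBiproducts

/-- on a quasi-compact locally Noetherian scheme every quasi-coherent module embeds into a
quasi-coherent injective module -/
theorem exists_qcoh_injective_embedding [IsLocallyNoetherian X] [CompactSpace X]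
    (F : X.Modules) [F.IsQuasicoherent] :
    ∃ (G : X.Modules) (i : F ⟶ G), G.IsQuasicoherent ∧ Injective G ∧ Mono i := by
  obtain ⟨n, U, hUa, hUc⟩ := exists_finite_affine_cover X
  have key : ∀ k, ∃ (G : X.Modules) (φ : F ⟶ G), G.IsQuasicoherent ∧ Injective G ∧
      ∀ (W : X.Opens) (s : Γ(F, W)), φ.app W s = 0 →
        F.presheaf.map (homOfLE ((hUa k).fromSpec.image_preimage_le W)).op s = 0 := by
    intro k
    haveI : IsNoetherianRing Γ(X, U k) := IsLocallyNoetherian.component_noetherian ⟨U k, hUa k⟩
    haveI : QuasiCompact (hUa k).fromSpec := inferInstance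
    exact exists_local_embedding (hUa k) F
  choose G φ hGq hGi hφ using key
  refine ⟨⨁ G, biproduct.lift φ,
    Groth.Agent.Lib.Helper23.QCohLocal.isQuasicoherent_biproduct G hGq, ?_, ?_⟩
  · haveI := hGi
    infer_instance
  · apply Preadditive.mono_of_cancel_zero
    intro T g hg
    have hk : ∀ k, g ≫ φ k = 0 := fun k => by
      have := congr($hg ≫ biproduct.π G k)
      simpa using this
    apply Scheme.Modules.hom_ext
    intro W
    ext s
    change g.app W s = 0
    apply Groth.Agent.Lib.Helper2.QcPush.section_eq_zero_of_cover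
    intro x hx
    obtain ⟨k, hk'⟩ := hUc x
    refine ⟨(hUa k).fromSpec ''ᵁ ((hUa k).fromSpec ⁻¹ᵁ W),
      (hUa k).fromSpec.image_preimage_le W, ?_, ?_⟩
    · rw [Scheme.Hom.image_preimage_eq_opensRange_inf, (hUa k).opensRange_fromSpec]
      exact ⟨hk', hx⟩
    · apply hφ k W
      have := congr(($(hk k)).app W s)
      simpa using this

end Groth.Agent.Lib.H6xInjQc
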