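import Mathlib
import Groth.Prelude.Def_Coh
import Groth.Agent.Lib.H6xInjQcE
import Groth.Agent.Lib.R2H3ModLocBridge
set_option backward.isDefEq.respectTransparency.types false

/-!
# Injective objects of `QCoh(X)` on a Noetherian scheme are injective modules, hence flasque (helper6)
-/

set_option autoImplicit false
set_option linter.style.haveILetI false
universe u
open CategoryTheory CategoryTheory.Limits AlgebraicGeometry TopologicalSpace Opposite

namespace Groth.Agent.Lib.H6xInjQc

variable {X : Scheme.{u}}

/-- an injective object of `QCoh(X)` is an injective `O_X`-module if `X` is quasi-compact and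
locally Noetherian -/
theorem injective_obj_of_injective_qcoh [IsLocallyNoetherian X] [CompactSpace X]
    (J : ObjectProperty.FullSubcategory (fun M : X.Modules => Coh.IsQCoh M)) (hJ : Injective J) :
    Injective J.obj := by
  haveI : J.obj.IsQuasicoherent := J.property
  obtain ⟨G, i, hGq, hGi, hi⟩ := exists_qcoh_injective_embedding J.obj
  let G' : ObjectProperty.FullSubcategory (fun M : X.Modules => Coh.IsQCoh M) := ⟨G, hGq⟩
  let i' : J ⟶ G' := ObjectProperty.homMk i
  haveI : Mono i' := by
    refine ⟨fun {Z} a b hab => ?_⟩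
    apply ObjectProperty.hom_ext
    rw [← cancel_mono i]
    exact congrArg (fun t => t.hom) hab
  obtain ⟨r, hr⟩ := hJ.factors (𝟙 J) i'
  have hr' : i ≫ r.hom = 𝟙 J.obj := congrArg (fun t => t.hom) hr
  refine ⟨fun {A B} g f _ => ?_⟩
  obtain ⟨h, hh⟩ := hGi.factors (g ≫ i) f
  refine ⟨h ≫ r.hom, ?_⟩
  rw [← Category.assoc, hh, Category.assoc, hr', Category.comp_id]

/-- injective modules are flasque -/
theorem surjective_map_of_injective (I : X.Modules) [Injective I] (U V : X.Opens) (hUV : U ≤ V) :
    Function.Surjective (I.val.map (homOfLE hUV).op).hom := by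
  have := Groth.Agent.Lib.R2H3.ModLocBridge.isFlasque_toAb_of_injective I
  have hepi : Epi ((Coh.toAb I).obj.map (homOfLE hUV).op) := TopCat.Presheaf.IsFlasque.epi _
  exact (AddCommGrpCat.epi_iff_surjective _).1 hepi

end Groth.Agent.Lib.H6xInjQc
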