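import Mathlib
import Groth.Agent.Lib.Helper23QCohLocal
import Groth.Agent.Lib.H6xInjTildeC
set_option backward.isDefEq.respectTransparency.types false

/-!
# Direct image of `E~` along `Spec O_{X,x} ⟶ X` (helper6)
-/

set_option autoImplicit false
set_option linter.style.haveILetI false
universe u
open CategoryTheory CategoryTheory.Limits AlgebraicGeometry TopologicalSpace Opposite

namespace Groth.Agent.Lib.H6xInjTilde

variable {X : Scheme.{u}}

theorem flat_fromSpecStalk (X : Scheme.{u}) (x : X) : Flat (X.fromSpecStalk x) := by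
  obtain ⟨_, ⟨U, hU, rfl⟩, hxU, -⟩ :=
    X.isBasis_affineOpens.exists_subset_of_mem_open (Set.mem_univ x) isOpen_univ
  rw [← hU.fromSpecStalk_eq_fromSpecStalk hxU]
  unfold IsAffineOpen.fromSpecStalk
  have : Flat (Spec.map (X.presheaf.germ U x hxU)) := by
    rw [Flat.SpecMap_iff]
    let _ := TopCat.Presheaf.algebra_section_stalk X.presheaf (⟨x, hxU⟩ : U)
    have := hU.isLocalization_stalk ⟨x, hxU⟩
    exact IsLocalization.flat (X.presheaf.stalk x) (hU.primeIdealOf ⟨x, hxU⟩).asIdeal.primeCompl
  infer_instance

/-- pushforward along a flat morphism preserves injective objects -/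
theorem injective_pushforward_of_flat {Y : Scheme.{u}} (f : Y ⟶ X) [Flat f] (J : Y.Modules)
    [Injective J] : Injective ((Scheme.Modules.pushforward f).obj J) := by
  haveI : (Scheme.Modules.pullback f).PreservesMonomorphisms :=
    ⟨fun a _ => Groth.Agent.Lib.Helper26.FpqcMod.mono_pullback_of_flat f a⟩
  exact Injective.injective_of_adjoint (Scheme.Modules.pullbackPushforwardAdjunction f) J

theorem quasiCompact_fromSpecStalk [IsLocallyNoetherian X] (x : X) :
    QuasiCompact (X.fromSpecStalk x) := by
  constructor
  intro U _ _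
  exact NoetherianSpace.isCompact _

theorem injective_pushforward_fromSpecStalk_tilde [IsLocallyNoetherian X]
    (x : X) (E : Type u) [AddCommGroup E] [Module (X.presheaf.stalk x) E]
    (hE : Module.Injective (X.presheaf.stalk x) E) :
    Injective ((Scheme.Modules.pushforward (X.fromSpecStalk x)).obj
        (tilde (ModuleCat.of (X.presheaf.stalk x) E))) ∧
      SheafOfModules.IsQuasicoherent ((Scheme.Modules.pushforward (X.fromSpecStalk x)).obj
        (tilde (ModuleCat.of (X.presheaf.stalk x) E))) := by
  haveI := flat_fromSpecStalk X x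
  haveI := quasiCompact_fromSpecStalk x
  haveI : Injective (tilde (ModuleCat.of (X.presheaf.stalk x) E)) :=
    injective_tilde (ModuleCat.of (X.presheaf.stalk x) E) hE
  exact ⟨injective_pushforward_of_flat _ _,
    Groth.Agent.Lib.Helper23.QCohLocal.isQuasicoherent_pushforward _ _⟩

end Groth.Agent.Lib.H6xInjTilde
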