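import Mathlib

/-!
# Junk-fix: a quotient of a product selecting one factor by a proposition (helper6)
-/

set_option autoImplicit false
universe u

namespace Groth.Agent.Lib.H6xJF

variable (R' X Y : Type u) [CommRing R'] [CommRing X] [CommRing Y] [Algebra R' X] [Algebra R' Y]
  (c : Prop)

open Classical in
/-- the ideal selecting the first factor if `c`, the second otherwise. -/
noncomputable def K : Ideal (X × Y) := if c then Ideal.prod ⊥ ⊤ else Ideal.prod ⊤ ⊥

/-- `X` if `c`, `Y` otherwise (as a quotient of the product). -/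
def Q : Type u := (X × Y) ⧸ K X Y c

noncomputable instance : CommRing (Q X Y c) := inferInstanceAs (CommRing ((X × Y) ⧸ K X Y c))
noncomputable instance : Algebra R' (Q X Y c) :=
  inferInstanceAs (Algebra R' ((X × Y) ⧸ K X Y c))

/-- the quotient map -/
noncomputable def mk : X × Y →ₐ[R'] Q X Y c := Ideal.Quotient.mkₐ R' (K X Y c)

lemma mk_surjective : Function.Surjective (mk R' X Y c) := Ideal.Quotient.mkₐ_surjective R' _

lemma mk_eq_zero_iff (x : X × Y) : mk R' X Y c x = 0 ↔ x ∈ K X Y c :=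
  Ideal.Quotient.eq_zero_iff_mem

variable {c}

lemma K_pos (h : c) : K X Y c = RingHom.ker (AlgHom.fst R' X Y) := by
  unfold K
  rw [if_pos h]
  ext x
  simp [Ideal.mem_prod, RingHom.mem_ker]

lemma K_neg (h : ¬ c) : K X Y c = RingHom.ker (AlgHom.snd R' X Y) := by
  unfold K
  rw [if_neg h]
  ext x
  simp [Ideal.mem_prod, RingHom.mem_ker]

omit [Algebra R' X] [Algebra R' Y] in
lemma mem_K_pos (h : c) (x : X × Y) : x ∈ K X Y c ↔ x.1 = 0 := by
  unfold K
  rw [if_pos h]
  simp [Ideal.mem_prod]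

omit [Algebra R' X] [Algebra R' Y] in
lemma mem_K_neg (h : ¬ c) (x : X × Y) : x ∈ K X Y c ↔ x.2 = 0 := by
  unfold K
  rw [if_neg h]
  simp [Ideal.mem_prod]

/-- if `c`, the quotient is the first factor. -/
noncomputable def eFst (h : c) : Q X Y c ≃ₐ[R'] X :=
  (Ideal.quotientEquivAlgOfEq R' (K_pos R' X Y h)).trans
    (Ideal.quotientKerAlgEquivOfSurjective (f := AlgHom.fst R' X Y) (fun b => ⟨(b, 0), rfl⟩))

lemma eFst_mk (h : c) (x : X × Y) : eFst R' X Y h (mk R' X Y c x) = x.1 := rfl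

lemma eFst_symm (h : c) (x : X) (y : Y) : (eFst R' X Y h).symm x = mk R' X Y c (x, y) := by
  apply (eFst R' X Y h).injective
  rw [AlgEquiv.apply_symm_apply, eFst_mk]

/-- if not `c`, the quotient is the second factor. -/
noncomputable def eSnd (h : ¬ c) : Q X Y c ≃ₐ[R'] Y :=
  (Ideal.quotientEquivAlgOfEq R' (K_neg R' X Y h)).trans
    (Ideal.quotientKerAlgEquivOfSurjective (f := AlgHom.snd R' X Y) (fun b => ⟨(0, b), rfl⟩))

lemma eSnd_mk (h : ¬ c) (x : X × Y) : eSnd R' X Y h (mk R' X Y c x) = x.2 := rfl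

lemma eSnd_symm (h : ¬ c) (x : X) (y : Y) : (eSnd R' X Y h).symm y = mk R' X Y c (x, y) := by
  apply (eSnd R' X Y h).injective
  rw [AlgEquiv.apply_symm_apply, eSnd_mk]

variable (c) {Z : Type u} [CommRing Z] [Algebra R' Z]

/-- maps out of the quotient. -/
noncomputable def lift (f : X × Y →ₐ[R'] Z) (hf : ∀ x ∈ K X Y c, f x = 0) : Q X Y c →ₐ[R'] Z :=
  Ideal.Quotient.liftₐ (K X Y c) f hf

lemma lift_mk (f : X × Y →ₐ[R'] Z) (hf : ∀ x ∈ K X Y c, f x = 0) (x : X × Y) :
    lift R' X Y c f hf (mk R' X Y c x) = f x := rfl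

end Groth.Agent.Lib.H6xJF
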