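import Mathlib

/-!
# A filtration on an algebra generated by one element satisfying a filtered monic relation
(helper6)

`K → A` a ring map, `u : A`, `F` a multiplicative filtration of `K` by ideals (given as additive
subgroups), `u^(r+1) = Σ_{s ≤ r} ι(c_{s+1}) u^(r-s)` with `c_s ∈ F s`.  Then
`R^k = Σ_{i ≤ r} ι(F^(k-i)) u^i` is a multiplicative filtration of `A`.
-/

set_option autoImplicit false

namespace Groth.Agent.Lib.H6xKeFil

open Finset

section Generic

variable {K A : Type*} [CommRing K] [CommRing A] (ι : K →+* A) (u : A) (r : ℕ)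
  (F : ℕ → AddSubgroup K)

/-- `R^k = Σ_{i ≤ r} ι(F^(k-i)) u^i` -/
def Rk (k : ℕ) : AddSubgroup A :=
  ⨆ i ∈ Finset.range (r + 1), AddSubgroup.map
    ((AddMonoidHom.mulRight (u ^ i)).comp ι.toAddMonoidHom) (F (k - i))

variable {ι u r F}

lemma mem_Rk_of {k i : ℕ} (hi : i ≤ r) {x : K} (hx : x ∈ F (k - i)) :
    ι x * u ^ i ∈ Rk ι u r F k := by
  have h1 : AddSubgroup.map ((AddMonoidHom.mulRight (u ^ i)).comp ι.toAddMonoidHom) (F (k - i)) ≤
      Rk ι u r F k :=
    le_iSup₂_of_le (f := fun i (_ : i ∈ Finset.range (r + 1)) => AddSubgroup.map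
      ((AddMonoidHom.mulRight (u ^ i)).comp ι.toAddMonoidHom) (F (k - i))) i
      (Finset.mem_range.2 (by omega)) le_rfl
  exact h1 ⟨x, hx, rfl⟩

lemma Rk_le {k : ℕ} {S : AddSubgroup A}
    (h : ∀ i, i ≤ r → ∀ x ∈ F (k - i), ι x * u ^ i ∈ S) : Rk ι u r F k ≤ S := by
  apply iSup₂_le
  intro i hi
  rw [Finset.mem_range] at hi
  rintro _ ⟨x, hx, rfl⟩
  exact h i (by omega) x hx

/-- the hypotheses on the filtration `F` of `K` -/
structure IsIdealFil (F : ℕ → AddSubgroup K) : Prop where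
  zero : F 0 = ⊤
  mul : ∀ (a b : ℕ) (x y : K), x ∈ F a → y ∈ F b → x * y ∈ F (a + b)
  anti : ∀ {a b : ℕ}, a ≤ b → F b ≤ F a

variable (hF : IsIdealFil F)
include hF

lemma IsIdealFil.mul_left (a : ℕ) (x y : K) (hy : y ∈ F a) : x * y ∈ F a := by
  have := hF.mul 0 a x y (by rw [hF.zero]; trivial) hy
  rwa [zero_add] at this

lemma Rk_anti {k k' : ℕ} (h : k ≤ k') : Rk ι u r F k' ≤ Rk ι u r F k := by
  apply Rk_le
  intro i hi x hx
  exact mem_Rk_of hi (hF.anti (by omega) hx)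

/-- `ι(F^a) · R^b ⊆ R^(a+b)` -/
lemma map_mul_mem_Rk {a b : ℕ} {y : K} (hy : y ∈ F a) {z : A} (hz : z ∈ Rk ι u r F b) :
    ι y * z ∈ Rk ι u r F (a + b) := by
  have : Rk ι u r F b ≤ (Rk ι u r F (a + b)).comap (AddMonoidHom.mulLeft (ι y)) := by
    apply Rk_le
    intro i hi x hx
    rw [AddSubgroup.mem_comap, AddMonoidHom.coe_mulLeft, ← mul_assoc, ← map_mul]
    apply mem_Rk_of hi
    exact hF.anti (by omega) (hF.mul a (b - i) y x hy hx)
  exact this hz

variable (c : ℕ → K) (hc : ∀ s, c s ∈ F s)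
  (hrel : u ^ (r + 1) = ∑ s ∈ Finset.range (r + 1), ι (c (s + 1)) * u ^ (r - s))
include hc hrel

/-- `u · R^k ⊆ R^(k+1)` -/
lemma u_mul_mem_Rk {k : ℕ} {z : A} (hz : z ∈ Rk ι u r F k) : u * z ∈ Rk ι u r F (k + 1) := by
  have : Rk ι u r F k ≤ (Rk ι u r F (k + 1)).comap (AddMonoidHom.mulLeft u) := by
    apply Rk_le
    intro i hi x hx
    rw [AddSubgroup.mem_comap, AddMonoidHom.coe_mulLeft]
    rcases Nat.lt_or_ge i r with hlt | hge
    · have h1 : u * (ι x * u ^ i) = ι x * u ^ (i + 1) := by ring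
      rw [h1]
      apply mem_Rk_of (by omega)
      have : k + 1 - (i + 1) = k - i := by omega
      rw [this]; exact hx
    · have hir : i = r := by omega
      subst hir
      have h1 : u * (ι x * u ^ i) = ∑ s ∈ Finset.range (i + 1), ι (x * c (s + 1)) * u ^ (i - s) := by
        have : u * (ι x * u ^ i) = ι x * u ^ (i + 1) := by ring
        rw [this, hrel, Finset.mul_sum]
        apply Finset.sum_congr rfl
        intro s _
        rw [map_mul]; ring
      rw [h1]
      apply AddSubgroup.sum_mem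
      intro s hs
      rw [Finset.mem_range] at hs
      apply mem_Rk_of (by omega)
      exact hF.anti (by omega) (hF.mul (k - i) (s + 1) x (c (s + 1)) hx (hc (s + 1)))
  exact this hz

lemma u_pow_mul_mem_Rk {k : ℕ} (n : ℕ) {z : A} (hz : z ∈ Rk ι u r F k) :
    u ^ n * z ∈ Rk ι u r F (k + n) := by
  induction n with
  | zero => simpa using hz
  | succ n ih =>
    rw [pow_succ', mul_assoc, ← add_assoc]
    exact u_mul_mem_Rk hF c hc hrel ih

/-- `R^a · R^b ⊆ R^(a+b)` -/
lemma mul_mem_Rk {a b : ℕ} {z z' : A} (hz : z ∈ Rk ι u r F a) (hz' : z' ∈ Rk ι u r F b) :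
    z * z' ∈ Rk ι u r F (a + b) := by
  have : Rk ι u r F a ≤ (Rk ι u r F (a + b)).comap (AddMonoidHom.mulRight z') := by
    apply Rk_le
    intro i hi x hx
    rw [AddSubgroup.mem_comap, AddMonoidHom.coe_mulRight]
    change ι x * u ^ i * z' ∈ _
    rw [mul_assoc]
    have h1 := u_pow_mul_mem_Rk hF c hc hrel i hz'
    have h2 := map_mul_mem_Rk hF hx h1
    exact Rk_anti hF (by omega) h2
  exact this hz

omit hc hrel in
lemma one_mem_Rk : (1 : A) ∈ Rk ι u r F 0 := by
  have := mem_Rk_of (ι := ι) (u := u) (r := r) (F := F) (k := 0) (i := 0) (Nat.zero_le r)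
    (x := 1) (by rw [hF.zero]; trivial)
  simpa using this

/-- `R^0 = A` when `A` is generated by `ι(K)` and `u` -/
lemma Rk_zero (hgen : ∀ z : A, ∃ p : Polynomial K, Polynomial.eval₂ ι (1 + u) p = z) :
    Rk ι u r F 0 = ⊤ := by
  rw [eq_top_iff]
  intro z _
  obtain ⟨p, rfl⟩ := hgen z
  have h1 := one_mem_Rk (ι := ι) (u := u) (r := r) hF
  have hι : ∀ (a : K) {z : A}, z ∈ Rk ι u r F 0 → ι a * z ∈ Rk ι u r F 0 := by
    intro a z hz
    have := map_mul_mem_Rk hF (a := 0) (y := a) (by rw [hF.zero]; trivial) hz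
    simpa using this
  have hu : ∀ {z : A}, z ∈ Rk ι u r F 0 → (1 + u) * z ∈ Rk ι u r F 0 := by
    intro z hz
    rw [add_mul, one_mul]
    exact AddSubgroup.add_mem _ hz (Rk_anti hF (Nat.zero_le _) (u_mul_mem_Rk hF c hc hrel hz))
  have hpow : ∀ n : ℕ, (1 + u) ^ n ∈ Rk ι u r F 0 := by
    intro n
    induction n with
    | zero => simpa using h1
    | succ n ih => rw [pow_succ']; exact hu ih
  rw [Polynomial.eval₂_eq_sum_range]
  apply AddSubgroup.sum_mem
  intro n _
  exact hι _ (hpow n)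

end Generic

end Groth.Agent.Lib.H6xKeFil
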