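import Mathlib
import Groth.Agent.Lib.H6xKeFilA
import Groth.Agent.Lib.H6xLamT

/-!
# The filtration `R^k` as a multiplicative filtration by ideals (helper6)
-/

set_option autoImplicit false

namespace Groth.Agent.Lib.H6xKeFil

open Finset Groth.Agent.Lib.H6xLamT

section Generic

variable {K A : Type*} [CommRing K] [CommRing A] {ι : K →+* A} {u : A} {r : ℕ}
  {F : ℕ → AddSubgroup K} (hF : IsIdealFil F) (c : ℕ → K) (hc : ∀ s, c s ∈ F s)
  (hrel : u ^ (r + 1) = ∑ s ∈ Finset.range (r + 1), ι (c (s + 1)) * u ^ (r - s))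
  (hgen : ∀ z : A, ∃ p : Polynomial K, Polynomial.eval₂ ι (1 + u) p = z)

/-- `R^k` as an ideal -/
def Jk (k : ℕ) : Ideal A where
  carrier := Rk ι u r F k
  add_mem' := fun ha hb => AddSubgroup.add_mem _ ha hb
  zero_mem' := AddSubgroup.zero_mem _
  smul_mem' := fun z0 z hz => by
    have h0 : z0 ∈ Rk ι u r F 0 := by rw [Rk_zero hF c hc hrel hgen]; trivial
    have := mul_mem_Rk hF c hc hrel h0 hz
    simpa using this

lemma mem_Jk (k : ℕ) (z : A) : z ∈ Jk hF c hc hrel hgen k ↔ z ∈ Rk ι u r F k := Iff.rfl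

theorem isMulFil_Jk : IsMulFil (Jk hF c hc hrel hgen) where
  zero := by
    rw [eq_top_iff]
    intro z _
    rw [mem_Jk, Rk_zero hF c hc hrel hgen]; trivial
  mul := fun a b x y hx hy => mul_mem_Rk hF c hc hrel hx hy
  anti := fun h z hz => Rk_anti hF h hz

end Generic

end Groth.Agent.Lib.H6xKeFil
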