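import Mathlib
import Groth.Agent.Lib.H6xKeFilB
import Groth.Agent.Lib.Helper4LambdaAdamsFil

/-!
# γ-series of `c v - n` for `c` a sum of `n` line elements and `v` a line element (helper6)
-/

set_option autoImplicit false
universe u
open LambdaRing

namespace Groth.Agent.Lib.H6xKeFil

open Finset Groth.Agent.Lib.Helper4

section Alg

/-- `∏ (b + x_i a) = Σ_k e_k(x) a^k b^(n-k)` -/
lemma prod_add_mul_eq {A ι : Type*} [CommRing A] [DecidableEq ι] (s : Finset ι) (x : ι → A)
    (a b : A) :
    ∏ i ∈ s, (b + x i * a) =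
      ∑ k ∈ range (s.card + 1), (∑ t ∈ s.powersetCard k, ∏ i ∈ t, x i) * a ^ k *
        b ^ (s.card - k) := by
  have h1 : ∏ i ∈ s, (b + x i * a) = ∏ i ∈ s, (x i * a + b) :=
    Finset.prod_congr rfl fun i _ => add_comm _ _
  rw [h1, Finset.prod_add, Finset.powerset_card_disjiUnion, Finset.sum_disjiUnion]
  apply Finset.sum_congr rfl
  intro k _
  rw [Finset.sum_mul, Finset.sum_mul]
  apply Finset.sum_congr rfl
  intro t ht
  rw [Finset.mem_powersetCard] at ht
  rw [Finset.prod_mul_distrib, Finset.prod_const, Finset.prod_const, ht.2,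
    Finset.card_sdiff_of_subset ht.1, ht.2]

end Alg

section Lam

open PowerSeries

variable {L : Type u} [CommRing L] [LambdaOps L]

/-- the γ-series of `(Σ y_i) v - n` in terms of the γ-operations of `Σ y_i - n` -/
theorem gammaSeries_sum_mul_sub (h1 : ∀ k : ℕ, 2 ≤ k → LambdaOps.lam k (1 : L) = 0) (n : ℕ)
    (y : Fin n → L) (hy : ∀ (i : Fin n) (j : ℕ), 2 ≤ j → LambdaOps.lam j (y i) = 0) (v : L)
    (hyv : ∀ (i : Fin n) (j : ℕ), 2 ≤ j → LambdaOps.lam j (y i * v) = 0) :
    gammaSeries ((∑ i : Fin n, y i) * v - (n : L)) =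
      ∑ k ∈ range (n + 1), C (gamma k (∑ i : Fin n, y i - (n : L))) * (C v * X) ^ k *
        (1 + C (v - 1) * X) ^ (n - k) := by
  classical
  have h : (∑ i : Fin n, y i) * v - (n : L) = ∑ i : Fin n, (y i * v - 1) := by
    rw [sum_sub_distrib, Finset.sum_mul]; simp
  rw [h, gammaSeries_sum,
    prod_congr rfl (fun i _ => gammaSeries_sub_one h1 (y i * v) (hyv i))]
  have h2 : ∀ i ∈ (univ : Finset (Fin n)), (1 + C (y i * v - 1) * X : L⟦X⟧) =
      (1 + C (v - 1) * X) + C (y i - 1) * (C v * X) := by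
    intro i _
    simp only [map_sub, map_mul, map_one]
    ring
  rw [prod_congr rfl h2, prod_add_mul_eq, Finset.card_univ, Fintype.card_fin]
  apply sum_congr rfl
  intro k _
  congr 2
  rw [gamma_sum_sub_card h1 n y hy k, map_sum]
  apply sum_congr rfl
  intro t _
  rw [map_prod]

lemma map_gammaSeries {L' : Type u} [CommRing L'] [LambdaOps L'] {f : L →+* L'}
    (hf : IsLambdaHom f) (z : L) : PowerSeries.map f (gammaSeries z) = gammaSeries (f z) := by
  ext N
  rw [coeff_map, coeff_gammaSeries, coeff_gammaSeries, map_gamma hf]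

/-- the γ-series of `c v - n` for `c` positive of augmentation `n` and `v` a line element -/
theorem gammaSeries_pos_mul_line {Pe : PosStructure L} (hsplit : HasSplitting L Pe) (c : L)
    (hc : c ∈ Pe.pos) (n : ℕ) (hn : Pe.aug c = n) (v : L) (hv : Pe.IsLine v) :
    gammaSeries (c * v - (n : L)) =
      ∑ k ∈ range (n + 1), C (gamma k (c - (n : L))) * (C v * X) ^ k *
        (1 + C (v - 1) * X) ^ (n - k) := by
  obtain ⟨L', f, hf, hL, s, hs, hsum⟩ := exists_extension_multiset hsplit c hc
  obtain ⟨n', y, hy, hysum, hn'⟩ := exists_fin_of_multiset L'.posStr s hs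
  have hnn : n' = n := by
    have h1 := aug_multiset_sum_lines L'.posStr s hs
    rw [hsum, hf.aug_comp, hn] at h1
    rw [hn']
    exact_mod_cast h1.symm
  subst hnn
  apply PowerSeries.map_injective f hf.injective
  have hfc : f c = ∑ i : Fin n', y i := by rw [hysum, hsum]
  rw [map_gammaSeries hf.isLambdaHom, map_sum]
  have h1 := gammaSeries_sum_mul_sub (lam_one_eq_zero L'.posStr) n' y
    (fun i j hj => lam_eq_zero_of_isLine L'.posStr _ (hy i) j hj) (f v)
    (fun i j hj => lam_eq_zero_of_isLine L'.posStr _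
      (isLine_mul L'.posStr (hy i) (isExtension_isLine hf hv)) j hj)
  rw [map_sub, map_mul, map_natCast, hfc, h1]
  apply sum_congr rfl
  intro k _
  simp only [map_mul, map_pow, map_add, map_one, PowerSeries.map_C, PowerSeries.map_X,
    map_gamma hf.isLambdaHom, map_sub, map_natCast, hfc]

end Lam

end Groth.Agent.Lib.H6xKeFil
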