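import Mathlib
import Groth.Agent.Lib.H6xKeFilC

/-!
# γ-series with coefficients in a multiplicative filtration (helper6)
-/

set_option autoImplicit false
universe u
open LambdaRing

namespace Groth.Agent.Lib.H6xKeFil

open Finset Groth.Agent.Lib.Helper4 Groth.Agent.Lib.H6xLamT PowerSeries

section Good

variable {B : Type*} [CommRing B] {J : ℕ → Ideal B} (hJ : IsMulFil J)
include hJ

lemma goodJ_sum {ι : Type*} (s : Finset ι) (f : ι → PowerSeries B)
    (hf : ∀ i ∈ s, GoodJ J (f i)) : GoodJ J (∑ i ∈ s, f i) := by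
  intro n
  rw [map_sum]
  exact Ideal.sum_mem _ fun i hi => hf i hi n

lemma goodJ_C_mul_X_pow {g : B} {k : ℕ} (hg : g ∈ J k) : GoodJ J (C g * X ^ k) := by
  intro n
  rw [coeff_C_mul_X_pow]
  split_ifs with h
  · rw [h]; exact hg
  · exact Ideal.zero_mem _

lemma goodJ_C (v : B) : GoodJ J (C v) := by
  have := goodJ_C_mul_X_pow hJ (g := v) (k := 0) (by rw [hJ.zero]; trivial)
  simpa using this

lemma goodJ_one_add_C_mul_X {b : B} (hb : b ∈ J 1) : GoodJ J (1 + C b * X) := by
  intro n
  rw [map_add]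
  apply Ideal.add_mem
  · exact goodJ_one hJ n
  · have := goodJ_C_mul_X_pow hJ hb n
    rwa [pow_one] at this

/-- the inverse of a good series with constant coefficient `1` is good -/
lemma goodJ_of_mul_eq_one {f g : PowerSeries B} (hf : GoodJ J f) (hfg : g * f = 1)
    (hf0 : coeff 0 f = 1) : GoodJ J g := by
  intro n
  induction n using Nat.strong_induction_on with
  | _ n ih =>
    have h1 := congrArg (coeff n) hfg
    rw [coeff_mul, Finset.Nat.sum_antidiagonal_eq_sum_range_succ_mk, Finset.sum_range_succ,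
      Nat.sub_self, hf0, mul_one] at h1
    have h2 : coeff n g = coeff n (1 : PowerSeries B) -
        ∑ a ∈ range n, coeff a g * coeff (n - a) f := by
      rw [← h1]; ring
    rw [h2]
    apply Ideal.sub_mem
    · exact goodJ_one hJ n
    · apply Ideal.sum_mem
      intro a ha
      rw [Finset.mem_range] at ha
      have := hJ.mul a (n - a) _ _ (ih a ha) (hf (n - a))
      rwa [Nat.add_sub_cancel' ha.le] at this

end Good

section GoodLam

variable {B : Type u} [CommRing B] [LambdaOps B] {J : ℕ → Ideal B} (hJ : IsMulFil J)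
include hJ

lemma goodJ_gammaSeries_neg {y : B} (hy : GoodJ J (gammaSeries y)) :
    GoodJ J (gammaSeries (-y)) := by
  apply goodJ_of_mul_eq_one hJ hy (gammaSeries_neg_mul y)
  rw [coeff_gammaSeries, gamma_zero']

lemma goodJ_gammaSeries_sub {y z : B} (hy : GoodJ J (gammaSeries y))
    (hz : GoodJ J (gammaSeries z)) : GoodJ J (gammaSeries (y - z)) := by
  rw [sub_eq_add_neg]
  exact goodJ_gammaSeries_add hJ hy (goodJ_gammaSeries_neg hJ hz)

lemma goodJ_gammaSeries_zero : GoodJ J (gammaSeries (0 : B)) := by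
  rw [gammaSeries_zero]; exact goodJ_one hJ

/-- the γ-series of `c v - n` is good when the `γ^k(c - n)` lie in `J k` and `v - 1 ∈ J 1` -/
theorem goodJ_gammaSeries_pos_mul_line {Pe : PosStructure B} (hsplit : HasSplitting B Pe) (c : B)
    (hc : c ∈ Pe.pos) (n : ℕ) (hn : Pe.aug c = n) (v : B) (hv : Pe.IsLine v)
    (hγ : ∀ k, gamma k (c - (n : B)) ∈ J k) (hv1 : v - 1 ∈ J 1) :
    GoodJ J (gammaSeries (c * v - (n : B))) := by
  rw [gammaSeries_pos_mul_line hsplit c hc n hn v hv]
  apply goodJ_sum hJ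
  intro k _
  have h1 : C (gamma k (c - (n : B))) * (C v * X) ^ k * (1 + C (v - 1) * X) ^ (n - k) =
      (C (gamma k (c - (n : B))) * X ^ k) * (C v) ^ k * (1 + C (v - 1) * X) ^ (n - k) := by
    rw [mul_pow]; ring
  rw [h1]
  exact goodJ_mul hJ (goodJ_mul hJ (goodJ_C_mul_X_pow hJ (hγ k)) (goodJ_pow hJ (goodJ_C hJ v) k))
    (goodJ_pow hJ (goodJ_one_add_C_mul_X hJ hv1) _)

/-- the γ-filtration is contained in `J` when all γ-series of elements of augmentation zero are
good -/
theorem gammaFiltration_le_of_good (Pe : PosStructure B)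
    (h : ∀ y : B, Pe.aug y = 0 → GoodJ J (gammaSeries y)) (k : ℕ) (z : B)
    (hz : z ∈ gammaFiltration Pe k) : z ∈ J k := by
  by_cases hk : k = 0
  · subst hk; rw [hJ.zero]; trivial
  rw [gammaFiltration_of_ne_zero Pe hk] at hz
  have key : ∀ l : List (ℕ × B), (∀ p ∈ l, Pe.aug p.2 = 0) →
      (l.map fun p => gamma p.1 p.2).prod ∈ J (l.map Prod.fst).sum := by
    intro l
    induction l with
    | nil =>
      intro _
      simp only [List.map_nil, List.prod_nil, List.sum_nil]
      rw [hJ.zero]; trivial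
    | cons p l ih =>
      intro hl
      simp only [List.map_cons, List.prod_cons, List.sum_cons]
      refine hJ.mul _ _ _ _ ?_ (ih fun q hq => hl q (List.mem_cons_of_mem _ hq))
      have := h p.2 (hl p List.mem_cons_self) p.1
      rwa [coeff_gammaSeries] at this
  induction hz using AddSubgroup.closure_induction with
  | mem y hy =>
    obtain ⟨l, hl, hkl, rfl⟩ := hy
    exact hJ.anti hkl (key l hl)
  | zero => exact Ideal.zero_mem _
  | add a b _ _ ha hb => exact Ideal.add_mem _ ha hb
  | neg a _ ha => exact (Submodule.neg_mem_iff _).2 ha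

end GoodLam

section Assembly

variable {K : Type u} [CommRing K] [LambdaOps K] {P : PosStructure K}
  {B : Type u} [CommRing B] [LambdaOps B] {Pe : PosStructure B} (hsplit : HasSplitting B Pe)
  {ι : K →+* B} (hext : IsExtension P Pe ι) {ℓ : B} (hℓ : Pe.IsLine ℓ)
  (hgen : ∀ z : B, ∃ p : Polynomial K, Polynomial.eval₂ ι ℓ p = z)
  {J : ℕ → Ideal B} (hJ : IsMulFil J) (hJι : ∀ k x, x ∈ gammaFiltration P k → ι x ∈ J k)
  (hJu : ℓ - 1 ∈ J 1)

include hsplit hext hℓ hJ hJι hJu in
lemma good_pos (c : K) (hc : c ∈ P.pos) (s : ℕ) :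
    GoodJ J (gammaSeries (ι c * ℓ ^ s - (((P.aug c).toNat : ℕ) : B))) := by
  set n := (P.aug c).toNat with hn
  have hn' : P.aug c = (n : ℤ) := by
    rw [hn, Int.toNat_of_nonneg (P.aug_pos c hc).le]
  apply goodJ_gammaSeries_pos_mul_line hJ hsplit (ι c) (hext.pos_subset c hc) n
    (by rw [hext.aug_comp, hn']) (ℓ ^ s) (isLine_pow Pe hℓ s)
  · intro k
    have h1 : gamma k (ι c - (n : B)) = ι (gamma k (c - (n : K))) := by
      rw [map_gamma hext.isLambdaHom, map_sub, map_natCast]
    rw [h1]
    apply hJι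
    apply gamma_mem_gammaFiltration
    rw [map_sub, hn', map_natCast, sub_self]
  · rw [← mul_geom_sum]
    exact Ideal.mul_mem_right _ _ hJu

include hsplit hext hℓ hJ hJι hJu in
lemma good_elt (a : K) (s : ℕ) :
    GoodJ J (gammaSeries (ι a * ℓ ^ s - ((P.aug a : ℤ) : B))) := by
  obtain ⟨c, c', hc, hc', rfl⟩ := P.exists_sub a
  have h1 : ι (c - c') * ℓ ^ s - ((P.aug (c - c') : ℤ) : B) =
      (ι c * ℓ ^ s - (((P.aug c).toNat : ℕ) : B)) -
        (ι c' * ℓ ^ s - (((P.aug c').toNat : ℕ) : B)) := by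
    have e1 : (((P.aug c).toNat : ℕ) : B) = ((P.aug c : ℤ) : B) := by
      rw [← Int.cast_natCast, Int.toNat_of_nonneg (P.aug_pos c hc).le]
    have e2 : (((P.aug c').toNat : ℕ) : B) = ((P.aug c' : ℤ) : B) := by
      rw [← Int.cast_natCast, Int.toNat_of_nonneg (P.aug_pos c' hc').le]
    rw [e1, e2, map_sub, map_sub, Int.cast_sub]
    ring
  rw [h1]
  exact goodJ_gammaSeries_sub hJ (good_pos hsplit hext hℓ hJ hJι hJu c hc s)
    (good_pos hsplit hext hℓ hJ hJι hJu c' hc' s)

include hsplit hext hℓ hgen hJ hJι hJu in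
/-- every γ-series of an element of augmentation zero has coefficients in the filtration -/
theorem good_of_aug_eq_zero (y : B) (hy : Pe.aug y = 0) : GoodJ J (gammaSeries y) := by
  obtain ⟨p, rfl⟩ := hgen y
  rw [Polynomial.eval₂_eq_sum_range] at hy ⊢
  have h1 : ∑ s ∈ range (p.natDegree + 1), P.aug (p.coeff s) = 0 := by
    rw [map_sum] at hy
    rw [← hy]
    apply sum_congr rfl
    intro s _
    rw [map_mul, map_pow, hℓ.2, one_pow, mul_one, hext.aug_comp]
  have h2 : ∑ s ∈ range (p.natDegree + 1), ι (p.coeff s) * ℓ ^ s =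
      ∑ s ∈ range (p.natDegree + 1), (ι (p.coeff s) * ℓ ^ s - ((P.aug (p.coeff s) : ℤ) : B)) := by
    rw [sum_sub_distrib, ← Int.cast_sum, h1, Int.cast_zero, sub_zero]
  rw [h2]
  exact goodJ_gammaSeries_sum hJ _ _ fun s _ => good_elt hsplit hext hℓ hJ hJι hJu _ s

end Assembly

section MapFil

variable {K : Type u} [CommRing K] [LambdaOps K] {P : PosStructure K}
  {B : Type u} [CommRing B] [LambdaOps B] {Pe : PosStructure B}
  {ι : K →+* B} (hext : IsExtension P Pe ι)

include hext in
/-- an extension maps the γ-filtration into the γ-filtration -/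
theorem map_mem_gammaFiltration (n : ℕ) {x : K} (hx : x ∈ gammaFiltration P n) :
    ι x ∈ gammaFiltration Pe n := by
  by_cases hn : n = 0
  · subst hn; rw [gammaFiltration_zero]; trivial
  rw [gammaFiltration_of_ne_zero P hn] at hx
  induction hx using AddSubgroup.closure_induction with
  | mem y hy =>
    obtain ⟨l, hl, hnl, rfl⟩ := hy
    apply gammaGen_subset_gammaFiltration
    refine ⟨l.map fun p => (p.1, ι p.2), ?_, ?_, ?_⟩
    · intro p hp
      rw [List.mem_map] at hp
      obtain ⟨q, hq, rfl⟩ := hp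
      rw [hext.aug_comp]; exact hl q hq
    · rw [List.map_map]
      exact hnl
    · rw [map_list_prod, List.map_map, List.map_map]
      congr 1
      apply List.map_congr_left
      intro p _
      simp only [Function.comp]
      rw [map_gamma hext.isLambdaHom]
  | zero => rw [map_zero]; exact AddSubgroup.zero_mem _
  | add a b _ _ ha hb => rw [map_add]; exact AddSubgroup.add_mem _ ha hb
  | neg a _ ha => rw [map_neg]; exact AddSubgroup.neg_mem _ ha

end MapFil

end Groth.Agent.Lib.H6xKeFil
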