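import Mathlib
import Groth.Agent.Lib.H6xKeFilD
import Groth.Agent.Lib.Helper4LambdaSigma
import Groth.Agent.Lib.Helper4LambdaBott

/-!
# The γ-filtration of the elementary extension `K_e` (helper6)
-/

set_option autoImplicit false
universe u
open LambdaRing

namespace Groth.Agent.Lib.H6xKeFil

open Finset Groth.Agent.Lib.Helper4 Groth.Agent.Lib.H6xLamT

section Rel

variable {B : Type u} [CommRing B] [LambdaOps B] {Pe : PosStructure B}

/-- `Σ (-1)^k λ^k(e) t^(m-k) = Σ (-1)^k γ^k(e - m) (t - 1)^(m-k)` for `e` positive of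
augmentation `m` -/
theorem sum_lam_eq_sum_gamma (hsplit : HasSplitting B Pe) (e : B) (he : e ∈ Pe.pos) (m : ℕ)
    (hm : Pe.aug e = m) (t : B) :
    ∑ k ∈ range (m + 1), (-1 : B) ^ k * LambdaOps.lam k e * t ^ (m - k) =
      ∑ k ∈ range (m + 1), (-1 : B) ^ k * gamma k (e - (m : B)) * (t - 1) ^ (m - k) := by
  classical
  obtain ⟨L', f, hf, hL, s, hs, hsum⟩ := exists_extension_multiset hsplit e he
  obtain ⟨n', w, hw, hwsum, hn'⟩ := exists_fin_of_multiset L'.posStr s hs
  have hnn : n' = m := by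
    have h1 := aug_multiset_sum_lines L'.posStr s hs
    rw [hsum, hf.aug_comp, hm] at h1
    rw [hn']
    exact_mod_cast h1.symm
  subst hnn
  have hfe : f e = ∑ i : Fin n', w i := by rw [hwsum, hsum]
  apply hf.injective
  have hL1 : ∑ k ∈ range (n' + 1), (-1 : L'.carrier) ^ k * LambdaOps.lam k (f e) * (f t) ^ (n' - k) =
      ∏ i : Fin n', (f t + w i * (-1)) := by
    rw [prod_add_mul_eq, Finset.card_univ, Fintype.card_fin]
    apply sum_congr rfl
    intro k _
    rw [hfe, lam_sum_lines L'.posStr w hw k]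
    ring
  have hL2 : ∑ k ∈ range (n' + 1), (-1 : L'.carrier) ^ k * gamma k (f e - (n' : L'.carrier)) *
      (f t - 1) ^ (n' - k) = ∏ i : Fin n', ((f t - 1) + (w i - 1) * (-1)) := by
    rw [prod_add_mul_eq, Finset.card_univ, Fintype.card_fin]
    apply sum_congr rfl
    intro k _
    rw [hfe, gamma_sum_sub_card (lam_one_eq_zero L'.posStr) n' w
      (fun i j hj => lam_eq_zero_of_isLine L'.posStr _ (hw i) j hj) k]
    ring
  have h3 : ∏ i : Fin n', (f t + w i * (-1)) = ∏ i : Fin n', ((f t - 1) + (w i - 1) * (-1)) :=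
    prod_congr rfl fun i _ => by ring
  have hlam : ∀ k, f (LambdaOps.lam k e) = LambdaOps.lam k (f e) := fun k => hf.isLambdaHom k e
  rw [map_sum, map_sum]
  simp only [map_mul, map_pow, map_neg, map_one, map_sub, map_natCast, map_gamma hf.isLambdaHom,
    hlam]
  rw [hL1, hL2, h3]

end Rel

section Main

variable {K : Type u} [CommRing K] [LambdaOps K] (P : PosStructure K) (e : K)
  [LambdaOps (AdjoinRoot (KRR.extPoly P e))] (Pe : PosStructure (AdjoinRoot (KRR.extPoly P e)))

/-- the γ-filtration of the elementary extension -/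
theorem gammaFiltration_Ke (he : e ∈ P.pos) (r : ℕ) (hr : P.aug e = r + 1)
    (hext : IsExtension P Pe (AdjoinRoot.of (KRR.extPoly P e)))
    (hline : Pe.IsLine (AdjoinRoot.root (KRR.extPoly P e)))
    (hsplit : HasSplitting (AdjoinRoot (KRR.extPoly P e)) Pe) (k : ℕ) :
    gammaFiltration Pe k =
      Rk (AdjoinRoot.of (KRR.extPoly P e)) (AdjoinRoot.root (KRR.extPoly P e) - 1) r
        (fun n => gammaFiltration P n) k := by
  set ι := AdjoinRoot.of (KRR.extPoly P e) with hι
  set ℓ := AdjoinRoot.root (KRR.extPoly P e) with hℓ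
  set u := ℓ - 1 with hu
  have hF : IsIdealFil (fun n => gammaFiltration P n) :=
    ⟨gammaFiltration_zero P, fun a b x y hx hy => mul_mem_gammaFiltration P a b x y hx hy,
      fun h => gammaFiltration_anti P h⟩
  have hm : (P.aug e).toNat = r + 1 := by rw [hr]; rfl
  have haug0 : P.aug (e - ((r + 1 : ℕ) : K)) = 0 := by
    rw [map_sub, hr, map_natCast]; push_cast; ring
  -- the relation
  have hrel0 : ∑ j ∈ range (r + 1 + 1), (-1 : AdjoinRoot (KRR.extPoly P e)) ^ j *
      ι (gamma j (e - ((r + 1 : ℕ) : K))) * u ^ (r + 1 - j) = 0 := by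
    have h1 := sum_lam_eq_sum_gamma hsplit (ι e) (hext.pos_subset e he) (r + 1)
      (by rw [hext.aug_comp, hr]; push_cast; rfl) ℓ
    have h2 := extPoly_root_rel P e
    rw [hm] at h2
    have h3 : ∑ j ∈ range (r + 1 + 1), (-1 : AdjoinRoot (KRR.extPoly P e)) ^ j *
        LambdaOps.lam j (ι e) * ℓ ^ (r + 1 - j) = 0 := by
      rw [← h2]
      apply sum_congr rfl
      intro j _
      rw [AdjoinRoot.algebraMap_eq, map_mul, map_pow, map_neg, map_one, hext.isLambdaHom]
    rw [h3] at h1
    rw [h1]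
    apply sum_congr rfl
    intro j _
    rw [map_gamma hext.isLambdaHom, map_sub, map_natCast]
  set c : ℕ → K := fun s => -((-1 : K) ^ s * gamma s (e - ((r + 1 : ℕ) : K))) with hc
  have hcmem : ∀ s, c s ∈ (fun n => gammaFiltration P n) s := by
    intro s
    exact AddSubgroup.neg_mem _ (mul_mem_gammaFiltration_left P s _ _
      (gamma_mem_gammaFiltration P s _ haug0))
  have hrel : u ^ (r + 1) = ∑ s ∈ range (r + 1), ι (c (s + 1)) * u ^ (r - s) := by
    rw [sum_range_succ'] at hrel0
    simp only [pow_zero, gamma_zero', map_one, one_mul, Nat.sub_zero] at hrel0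
    have h4 : ∑ s ∈ range (r + 1), ι (c (s + 1)) * u ^ (r - s) =
        -∑ s ∈ range (r + 1), (-1 : AdjoinRoot (KRR.extPoly P e)) ^ (s + 1) *
          ι (gamma (s + 1) (e - ((r + 1 : ℕ) : K))) * u ^ (r + 1 - (s + 1)) := by
      rw [← sum_neg_distrib]
      apply sum_congr rfl
      intro s _
      rw [hc]
      simp only [map_neg, map_mul, map_pow, map_one]
      rw [Nat.add_sub_add_right]
      ring
    rw [h4]
    linear_combination hrel0
  have hgen' : ∀ z : AdjoinRoot (KRR.extPoly P e), ∃ p : Polynomial K,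
      Polynomial.eval₂ ι ℓ p = z := by
    intro z
    obtain ⟨p, rfl⟩ := AdjoinRoot.mk_surjective z
    refine ⟨p, ?_⟩
    rw [← AdjoinRoot.aeval_eq, Polynomial.aeval_def, AdjoinRoot.algebraMap_eq]
  have h1u : 1 + u = ℓ := by rw [hu]; ring
  have hgen : ∀ z : AdjoinRoot (KRR.extPoly P e), ∃ p : Polynomial K,
      Polynomial.eval₂ ι (1 + u) p = z := by
    rw [h1u]; exact hgen'
  have hJ := isMulFil_Jk hF c hcmem hrel hgen
  have hJι : ∀ n x, x ∈ gammaFiltration P n → ι x ∈ Jk hF c hcmem hrel hgen n := by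
    intro n x hx
    rw [mem_Jk]
    have := mem_Rk_of (ι := ι) (u := u) (r := r) (F := fun n => gammaFiltration P n) (k := n)
      (i := 0) (Nat.zero_le r) (x := x) hx
    simpa using this
  have hJu : ℓ - 1 ∈ Jk hF c hcmem hrel hgen 1 := by
    rw [mem_Jk]
    have := u_mul_mem_Rk hF c hcmem hrel (one_mem_Rk (ι := ι) (u := u) (r := r) hF)
    simpa using this
  have hgood := good_of_aug_eq_zero hsplit hext hline hgen' hJ hJι hJu
  apply le_antisymm
  · intro z hz
    exact gammaFiltration_le_of_good hJ Pe hgood k z hz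
  · apply Rk_le
    intro i hi x hx
    have h5 := map_mem_gammaFiltration hext (k - i) hx
    have h6 : u ∈ gammaFiltration Pe 1 := by
      apply mem_gammaFiltration_one
      rw [hu, map_sub, hline.2, map_one, sub_self]
    have h7 := pow_mem_gammaFiltration Pe h6 i
    rw [one_mul] at h7
    exact gammaFiltration_anti Pe (by omega) (mul_mem_gammaFiltration Pe _ _ _ _ h5 h7)

end Main

end Groth.Agent.Lib.H6xKeFil
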