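import Mathlib.Tactic
import Mathlib.RingTheory.AdjoinRoot
import Mathlib.RingTheory.RingHom.Flat
import Mathlib.RingTheory.RingHom.FinitePresentation
import Mathlib.RingTheory.RingHom.Integral
import Groth.Agent.Lib.Helper27GaGm

/-!
# The `n`-th power map on `ℤ[T, T⁻¹]` is finite free (helper6)
-/

set_option autoImplicit false
universe u

open Polynomial
open Groth.Agent.Lib.Helper27.GaGm

namespace Groth.Agent.Lib.H6xKummerAlg

/-- the ring `ℤ[T, T⁻¹]` -/
abbrev A : Type u := MonoidAlgebra (ULift.{u} ℤ) (Multiplicative ℤ)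

/-- the coordinate `T` -/
noncomputable def T : A.{u} := MonoidAlgebra.single (Multiplicative.ofAdd (1 : ℤ)) 1

/-- the ring hom `T ↦ T ^ n` -/
noncomputable def θ (n : ℕ) : A.{u} →+* A.{u} :=
  (MonoidAlgebra.mapDomainAlgHom (ULift.{u} ℤ) (ULift.{u} ℤ)
    (AddMonoidHom.toMultiplicative (zmultiplesHom ℤ (n : ℤ)))).toRingHom

lemma θ_T (n : ℕ) : θ.{u} n T = T ^ n := by
  unfold θ T
  simp only [AlgHom.toRingHom_eq_coe, RingHom.coe_coe, MonoidAlgebra.mapDomainAlgHom_apply,
    MonoidAlgebra.mapDomain_single, AddMonoidHom.toMultiplicative_apply_apply, toAdd_ofAdd,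
    zmultiplesHom_apply, one_smul, MonoidAlgebra.single_pow, one_pow]
  congr 1
  rw [← ofAdd_nsmul]
  simp

lemma isUnit_T : IsUnit (T.{u}) := monalg_isUnit_single

lemma θ_injective (n : ℕ) (hn : 0 < n) : Function.Injective (θ.{u} n) := by
  unfold θ
  simp only [AlgHom.toRingHom_eq_coe, RingHom.coe_coe]
  apply MonoidAlgebra.mapDomain_injective
  intro a b h
  have h2 := congrArg Multiplicative.toAdd h
  simp only [AddMonoidHom.toMultiplicative_apply_apply, toAdd_ofAdd, zmultiplesHom_apply,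
    smul_eq_mul] at h2
  have hn' : (n : ℤ) ≠ 0 := by exact_mod_cast hn.ne'
  exact Multiplicative.toAdd.injective (mul_right_cancel₀ hn' h2)

/-- the Kummer polynomial `X ^ n - T` -/
noncomputable def kp (n : ℕ) : A.{u}[X] := X ^ n - C T

lemma monic_kp (n : ℕ) (hn : 0 < n) : (kp.{u} n).Monic := monic_X_pow_sub_C T hn.ne'

/-- the comparison map `ℤ[T,T⁻¹][X]/(X^n - T) → ℤ[T,T⁻¹]`, `X ↦ T` -/
noncomputable def cmp (n : ℕ) : AdjoinRoot (kp.{u} n) →+* A.{u} :=
  AdjoinRoot.lift (θ n) T (by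
    unfold kp
    rw [eval₂_sub, eval₂_pow, eval₂_X, eval₂_C, θ_T, sub_self])

lemma cmp_comp_of (n : ℕ) : (cmp.{u} n).comp (AdjoinRoot.of (kp n)) = θ n :=
  AdjoinRoot.lift_comp_of _

lemma root_pow (n : ℕ) : AdjoinRoot.root (kp.{u} n) ^ n = AdjoinRoot.of (kp n) T := by
  have := AdjoinRoot.eval₂_root (kp.{u} n)
  unfold kp at this
  rw [eval₂_sub, eval₂_pow, eval₂_X, eval₂_C, sub_eq_zero] at this
  exact this

lemma isUnit_root (n : ℕ) (hn : 0 < n) : IsUnit (AdjoinRoot.root (kp.{u} n)) := by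
  have h1 : IsUnit (AdjoinRoot.root (kp.{u} n) ^ n) := by
    rw [root_pow]
    exact isUnit_T.map _
  exact (isUnit_pow_iff hn.ne').mp h1

lemma cmp_bijective (n : ℕ) (hn : 0 < n) : Function.Bijective (cmp.{u} n) := by
  obtain ⟨g, hg⟩ := monalg_ringHom_exists.{u} (isUnit_root n hn).unit
  have hg' : g T = AdjoinRoot.root (kp n) := hg
  have h1 : (cmp n).comp g = RingHom.id _ := by
    apply monalg_ringHom_ext
    change cmp n (g T) = T
    rw [hg']
    exact AdjoinRoot.lift_root _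
  have h2 : g.comp (cmp n) = RingHom.id _ := by
    apply AdjoinRoot.ringHom_ext
    · rw [RingHom.comp_assoc, cmp_comp_of, RingHom.id_comp]
      apply monalg_ringHom_ext
      change g (θ n T) = AdjoinRoot.of (kp n) T
      rw [θ_T, map_pow, hg', root_pow]
    · change g (cmp n (AdjoinRoot.root (kp n))) = AdjoinRoot.root (kp n)
      rw [show cmp n (AdjoinRoot.root (kp n)) = T from AdjoinRoot.lift_root _, hg']
  refine ⟨fun a b h => ?_, fun a => ⟨g a, congrArg (fun k : _ →+* _ => k a) h1⟩⟩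
  have := congrArg g h
  rwa [← RingHom.comp_apply, ← RingHom.comp_apply, h2] at this

theorem θ_flat (n : ℕ) (hn : 0 < n) : (θ.{u} n).Flat := by
  rw [← cmp_comp_of]
  refine RingHom.Flat.comp ?_ (RingHom.Flat.of_bijective (cmp_bijective n hn))
  rw [← AdjoinRoot.algebraMap_eq, RingHom.flat_algebraMap_iff]
  haveI := (monic_kp.{u} n hn).free_adjoinRoot
  infer_instance

theorem θ_finitePresentation (n : ℕ) (hn : 0 < n) : (θ.{u} n).FinitePresentation := by
  rw [← cmp_comp_of]
  refine RingHom.FinitePresentation.comp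
    (RingHom.FinitePresentation.of_bijective (cmp_bijective n hn)) ?_
  rw [← AdjoinRoot.algebraMap_eq, RingHom.finitePresentation_algebraMap]
  infer_instance

theorem θ_isIntegral (n : ℕ) (hn : 0 < n) : (θ.{u} n).IsIntegral := by
  rw [← cmp_comp_of]
  refine RingHom.IsIntegral.trans _ _ ?_
    (RingHom.isIntegral_of_surjective _ (cmp_bijective n hn).2)
  rw [← AdjoinRoot.algebraMap_eq]
  haveI := (monic_kp.{u} n hn).finite_adjoinRoot
  exact algebraMap_isIntegral_iff.mpr inferInstance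

end Groth.Agent.Lib.H6xKummerAlg
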