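import Mathlib.Tactic
import Mathlib.AlgebraicGeometry.Sites.Fpqc
import Groth.Prelude.Def_NonAbH2
import Groth.Agent.Lib.H6xDSPts
import Groth.Agent.Lib.H6xKummerAlg
import Groth.Agent.Lib.Helper11KerPair

/-!
# The Kummer sequence is fppf exact (helper6)
-/

set_option autoImplicit false
universe u

open CategoryTheory MonoidalCategory CartesianMonoidalCategory MonObj GrpObj AlgebraicGeometry
  CategoryTheory.Limits
open Groth.Agent.Lib.Helper27.GaGm Groth.Agent.Lib.H6xDSPts Groth.Agent.Lib.H6xKummerAlg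

namespace Groth.Agent.Lib.H6xKummer

variable {S : Scheme.{u}}

section Cover

lemma diagMap_left_eq (n : ℕ) :
    (Red.diagMap (ULift.{u} ℤ) (zmultiplesHom ℤ (n : ℤ))).left =
      Spec.map (CommRingCat.ofHom (θ.{u} n)) := rfl

lemma flat_diagMap (n : ℕ) (hn : 0 < n) :
    Flat (Red.diagMap (ULift.{u} ℤ) (zmultiplesHom ℤ (n : ℤ))).left := by
  have : Flat (Spec.map (CommRingCat.ofHom (θ.{u} n))) :=
    (HasRingHomProperty.Spec_iff (P := @Flat)).mpr (θ_flat n hn)
  exact this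

lemma lfp_diagMap (n : ℕ) (hn : 0 < n) :
    LocallyOfFinitePresentation (Red.diagMap (ULift.{u} ℤ) (zmultiplesHom ℤ (n : ℤ))).left := by
  have : LocallyOfFinitePresentation (Spec.map (CommRingCat.ofHom (θ.{u} n))) :=
    (HasRingHomProperty.Spec_iff (P := @LocallyOfFinitePresentation)).mpr
      (θ_finitePresentation n hn)
  exact this

lemma surjective_diagMap (n : ℕ) (hn : 0 < n) :
    Surjective (Red.diagMap (ULift.{u} ℤ) (zmultiplesHom ℤ (n : ℤ))).left := by
  have : Surjective (Spec.map (CommRingCat.ofHom (θ.{u} n))) := by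
    rw [surjective_iff]
    exact RingHom.IsIntegral.comap_surjective (θ_isIntegral n hn) (θ_injective n hn)
  exact this

lemma flat_chi (n : ℕ) (hn : 0 < n) : Flat (Red.chi S (n : ℤ)).left :=
  MorphismProperty.overPullbackMap (P := @Flat) _ _ (flat_diagMap n hn)

lemma lfp_chi (n : ℕ) (hn : 0 < n) : LocallyOfFinitePresentation (Red.chi S (n : ℤ)).left :=
  MorphismProperty.overPullbackMap (P := @LocallyOfFinitePresentation) _ _ (lfp_diagMap n hn)

lemma surjective_chi (n : ℕ) (hn : 0 < n) : Surjective (Red.chi S (n : ℤ)).left :=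
  MorphismProperty.overPullbackMap (P := @Surjective) _ _ (surjective_diagMap n hn)

end Cover

section Kernel

lemma exists_zmod_char {B : Type*} [CommRing B] (n : ℕ) (hn : 0 < n) (b : B) (hb : b ^ n = 1) :
    ∃ χ : Multiplicative (ZMod n) →* B, χ (Multiplicative.ofAdd (1 : ZMod n)) = b := by
  have hbu : IsUnit b := (isUnit_pow_iff hn.ne').mp (hb ▸ isUnit_one)
  obtain ⟨bu, rfl⟩ := hbu
  have hbu : bu ^ n = 1 := by
    apply Units.ext
    simpa using hb
  let f : ℤ →+ Additive Bˣ := zmultiplesHom _ (Additive.ofMul bu)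
  have hf : f (n : ℤ) = 0 := by
    simp only [f, zmultiplesHom_apply, natCast_zsmul]
    rw [← ofMul_pow, hbu, ofMul_one]
  refine ⟨(Units.coeHom B).comp (AddMonoidHom.toMultiplicativeLeft (ZMod.lift n ⟨f, hf⟩)), ?_⟩
  have h1 : (1 : ZMod n) = ((1 : ℤ) : ZMod n) := by simp
  simp only [MonoidHom.coe_comp, Function.comp_apply, Units.coeHom_apply]
  congr 1
  change (ZMod.lift n ⟨f, hf⟩ (1 : ZMod n)).toMul = bu
  rw [h1, ZMod.lift_coe]
  simp [f]

/-- the `n`-th power character of `𝔾_m` -/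
lemma gmFn_comp_chi {X : Over S} (n : ℕ) (x : X ⟶ Red.Gm S) :
    Red.gmFn (x ≫ Red.chi S (n : ℤ)) = Red.gmFn x ^ n := by
  rw [gmFn_chi, gmFn_eq_dsFn, ← dsFn_nsmul]
  simp

lemma gmFn_comp_cast {X : Over S} (n : ℕ) (y : X ⟶ Red.DS S (ZMod n)) :
    Red.gmFn (y ≫ Red.DSmap S (Int.castAddHom (ZMod n))) = dsFn y (1 : ZMod n) := by
  rw [gmFn_eq_dsFn, dsFn_DSmap]
  simp

lemma dsFn_zmod {X : Over S} (n : ℕ) (y : X ⟶ Red.DS S (ZMod n)) (m : ℤ) :
    dsFn y (m : ZMod n) = dsFn (y ≫ Red.DSmap S (Int.castAddHom (ZMod n))) m := by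
  rw [dsFn_DSmap]
  simp

lemma cancel_cast {X : Over S} (n : ℕ) (y y' : X ⟶ Red.DS S (ZMod n))
    (h : y ≫ Red.DSmap S (Int.castAddHom (ZMod n)) = y' ≫ Red.DSmap S (Int.castAddHom (ZMod n))) :
    y = y' := by
  apply dsFn_ext
  intro a
  obtain ⟨m, hm⟩ := ZMod.intCast_surjective a
  rw [← hm, dsFn_zmod n y, dsFn_zmod n y', h]

theorem comp_eq_one (n : ℕ) :
    Red.DSmap S (Int.castAddHom (ZMod n)) ≫ Red.chi S (n : ℤ) = 1 := by
  apply gmFn_injective
  have h1 := gmFn_comp_cast n (𝟙 (Red.DS S (ZMod n)))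
  rw [Category.id_comp] at h1
  rw [gmFn_comp_chi, h1, ← dsFn_nsmul, gmFn_one]
  simp [dsFn_zero]

theorem isKernel (n : ℕ) (hn : 0 < n) :
    AlgGrp.IsKernel (Red.DSmap S (Int.castAddHom (ZMod n))) (Red.chi S (n : ℤ)) := by
  have hw : Red.DSmap S (Int.castAddHom (ZMod n)) ≫ Red.chi S (n : ℤ) =
      toUnit _ ≫ η[Red.Gm S] := by
    rw [← Hom.one_def]
    exact comp_eq_one n
  have key : ∀ (T : Over S) (x : T ⟶ Red.Gm S), x ≫ Red.chi S (n : ℤ) = 1 →
      ∃ y : T ⟶ Red.DS S (ZMod n), y ≫ Red.DSmap S (Int.castAddHom (ZMod n)) = x := by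
    intro T x hx
    have h1 : Red.gmFn x ^ n = 1 := by
      rw [← gmFn_comp_chi, hx, gmFn_one]
    obtain ⟨χ, hχ⟩ := exists_zmod_char n hn _ h1
    obtain ⟨y, hy⟩ := dsFn_surj (S := S) (X := T) χ
    refine ⟨y, ?_⟩
    apply gmFn_injective
    rw [gmFn_comp_cast, hy, hχ]
  unfold AlgGrp.IsKernel
  have hcond : ∀ s : PullbackCone (Red.chi S (n : ℤ)) η[Red.Gm S],
      s.fst ≫ Red.chi S (n : ℤ) = 1 := by
    intro s
    rw [s.condition, Hom.one_def]
    congr 1
    exact toUnit_unique _ _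
  refine IsPullback.of_isLimit' ⟨hw⟩ ?_
  refine PullbackCone.IsLimit.mk hw
    (fun s => (key s.pt s.fst (hcond s)).choose) ?_ ?_ ?_
  · intro s
    exact (key s.pt s.fst (hcond s)).choose_spec
  · intro s
    exact toUnit_unique _ _
  · intro s m' hm' _
    apply cancel_cast
    rw [hm']
    exact ((key s.pt s.fst (hcond s)).choose_spec).symm

end Kernel

theorem main (n : ℕ) (hn : 0 < n) :
    NonAbH1.IsExactSeq Scheme.fppfPrecoverage
      (Red.DSmap S (Int.castAddHom (ZMod n))) (Red.chi S (n : ℤ)) := by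
  refine ⟨inferInstance, inferInstance, comp_eq_one n,
    Groth.Agent.Lib.Helper11KerPair.isPullback_of_isKernel _ _ (isKernel n hn), ?_⟩
  haveI := flat_chi (S := S) n hn
  haveI := lfp_chi (S := S) n hn
  haveI := surjective_chi (S := S) n hn
  refine ⟨Presieve.singleton (Red.chi S (n : ℤ)).left,
    Scheme.Hom.singleton_mem_fppfPrecoverage _, ?_⟩
  intro S' f hf
  cases hf
  exact ⟨𝟙 _, Category.id_comp _⟩

end Groth.Agent.Lib.H6xKummer
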