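import Mathlib

set_option autoImplicit false
universe u

namespace Groth.Agent.Lib.H6xKummerNorm

open Polynomial

section Core

variable {A : Type u} [CommRing A] [IsDomain A] {S : Type u} [CommRing S] [IsDomain S] [Algebra A S]

omit [IsDomain A] in
/-- the divisibility at the heart of the computation -/
theorem dvd_of_pow_eq (π : A) (hπS : IsUnit (algebraMap A S π))
    (hB : Prime (algebraMap A (integralClosure A S) π))
    (m : ℕ) (hm : 0 < m) (i : ℕ) (u : Aˣ) (z : S)
    (hz : z ^ m = algebraMap A S (π ^ i * (u : A))) : m ∣ i := by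
  set q := i / m with hq
  set s := i % m with hs
  have his : i = m * q + s := (Nat.div_add_mod i m).symm
  have hsm : s < m := Nat.mod_lt i hm
  rw [Nat.dvd_iff_mod_eq_zero]
  by_contra hs0
  have hspos : 0 < s := Nat.pos_of_ne_zero hs0
  obtain ⟨πu, hπu⟩ := hπS
  set w : S := z * ((πu⁻¹ : Sˣ) : S) ^ q with hw
  have hwm : w ^ m = algebraMap A S (π ^ s * (u : A)) := by
    have hzi : z ^ m = (πu : S) ^ (m * q) * (πu : S) ^ s * algebraMap A S u := by
      rw [hz, hπu, ← pow_add, ← his, map_mul, map_pow]
    have hinv : ((πu : S) ^ (m * q)) * ((((πu⁻¹ : Sˣ) : S) ^ q) ^ m) = 1 := by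
      rw [← pow_mul, mul_comm q m, ← mul_pow, Units.mul_inv, one_pow]
    rw [hw, mul_pow, hzi, map_mul, map_pow, ← hπu]
    calc (πu : S) ^ (m * q) * (πu : S) ^ s * algebraMap A S u * (((πu⁻¹ : Sˣ) : S) ^ q) ^ m
        = ((πu : S) ^ (m * q) * (((πu⁻¹ : Sˣ) : S) ^ q) ^ m) * ((πu : S) ^ s * algebraMap A S u) := by
          ring
      _ = (πu : S) ^ s * algebraMap A S u := by rw [hinv, one_mul]
  have hwint : IsIntegral A w := by
    refine ⟨X ^ m - C (π ^ s * (u : A)), Polynomial.monic_X_pow_sub_C _ hm.ne', ?_⟩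
    rw [Polynomial.eval₂_sub, Polynomial.eval₂_pow, Polynomial.eval₂_X, Polynomial.eval₂_C, hwm,
      sub_self]
  set wB : integralClosure A S := ⟨w, hwint⟩ with hwB
  have hwBm : wB ^ m = algebraMap A (integralClosure A S) π ^ s *
      algebraMap A (integralClosure A S) (u : A) := by
    apply Subtype.ext
    rw [← map_pow, ← map_mul]
    exact hwm
  have hdvd : algebraMap A (integralClosure A S) π ∣ wB := by
    apply hB.dvd_of_dvd_pow (n := m)
    rw [hwBm]
    exact Dvd.dvd.mul_right (dvd_pow_self _ hs0) _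
  obtain ⟨w', hw'⟩ := hdvd
  have hπB0 : algebraMap A (integralClosure A S) π ≠ 0 := hB.ne_zero
  have hcancel : algebraMap A (integralClosure A S) π ^ (m - s) * w' ^ m =
      algebraMap A (integralClosure A S) (u : A) := by
    have h1 : algebraMap A (integralClosure A S) π ^ s *
        (algebraMap A (integralClosure A S) π ^ (m - s) * w' ^ m) =
        algebraMap A (integralClosure A S) π ^ s * algebraMap A (integralClosure A S) (u : A) := by
      rw [← hwBm, hw', mul_pow, ← mul_assoc, ← pow_add]
      congr 2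
      omega
    exact mul_left_cancel₀ (pow_ne_zero _ hπB0) h1
  have hunit : IsUnit (algebraMap A (integralClosure A S) (u : A)) := (u.isUnit).map _
  rw [← hcancel] at hunit
  have h2 : IsUnit (algebraMap A (integralClosure A S) π ^ (m - s)) := isUnit_of_mul_isUnit_left hunit
  have h3 : IsUnit (algebraMap A (integralClosure A S) π) :=
    (isUnit_pow_iff (by omega)).mp h2
  exact hB.not_isUnit h3

end Core

section Main

theorem main (R : Type u) [CommRing R]
    [IsDomain R] (ϖ : R) (hϖ : ϖ ≠ 0)
    (A : Type u) [CommRing A] [IsDomain A] [Algebra R A]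
    (hinj : Function.Injective (algebraMap R A)) (hprime : (Ideal.span {algebraMap R A ϖ}).IsPrime)
    (m : ℕ) (hm : 0 < m) (f : A) (hf : IsUnit (algebraMap A (Localization.Away (algebraMap R A ϖ)) f))
    [IsDomain (AdjoinRoot (Polynomial.X ^ m - Polynomial.C (algebraMap A (Localization.Away (algebraMap R A ϖ)) f)))]
    (hsp : (Ideal.span {algebraMap A (integralClosure A
        (AdjoinRoot (Polynomial.X ^ m - Polynomial.C (algebraMap A (Localization.Away (algebraMap R A ϖ)) f))))
          (algebraMap R A ϖ)}).IsPrime) :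
    ∃ (q : ℕ) (u : Aˣ), f = algebraMap R A ϖ ^ (m * q) * (u : A) := by
  set π : A := algebraMap R A ϖ with hπ
  have hπ0 : π ≠ 0 := by
    rw [hπ, Ne, map_eq_zero_iff _ hinj]; exact hϖ
  have hπprime : Prime π := (Ideal.span_singleton_prime hπ0).mp hprime
  -- f divides a power of π
  have hle : Submonoid.powers π ≤ nonZeroDivisors A :=
    Submonoid.powers_le.mpr (mem_nonZeroDivisors_of_ne_zero hπ0)
  have hAinj : Function.Injective (algebraMap A (Localization.Away π)) := IsLocalization.injective (Localization.Away π) hle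
  obtain ⟨y, hy⟩ := hf.exists_right_inv
  obtain ⟨a, t, rfl⟩ := IsLocalization.exists_mk'_eq (Submonoid.powers π) y
  obtain ⟨k, hk⟩ := t.2
  have hfa : f * a = π ^ k := by
    apply hAinj
    have h1 := congrArg (fun x => x * algebraMap A (Localization.Away π) (t : A)) hy
    simp only [one_mul, mul_assoc] at h1
    rw [IsLocalization.mk'_spec] at h1
    rw [map_mul, h1, ← hk]
  obtain ⟨i, -, hi⟩ := (dvd_prime_pow hπprime k).mp ⟨a, hfa.symm⟩
  obtain ⟨u', hu'⟩ := hi
  have hfi : f = π ^ i * ((u'⁻¹ : Aˣ) : A) := by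
    rw [← hu', mul_assoc, Units.mul_inv, mul_one]
  -- the root
  have hπS : IsUnit (algebraMap A (AdjoinRoot (Polynomial.X ^ m - Polynomial.C (algebraMap A (Localization.Away π) f))) π) := by
    have h1 : IsUnit (algebraMap A (Localization.Away π) π) := IsLocalization.Away.algebraMap_isUnit π
    have h2 := h1.map (algebraMap (Localization.Away π) (AdjoinRoot (Polynomial.X ^ m - Polynomial.C (algebraMap A (Localization.Away π) f))))
    rwa [← IsScalarTower.algebraMap_apply] at h2
  have hπB0 : algebraMap A (integralClosure A (AdjoinRoot (Polynomial.X ^ m - Polynomial.C (algebraMap A (Localization.Away π) f)))) π ≠ 0 := by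
    intro h0
    have h1 := congrArg (Subtype.val) h0
    have h2 : ((algebraMap A (integralClosure A (AdjoinRoot (Polynomial.X ^ m - Polynomial.C (algebraMap A (Localization.Away π) f)))) π : integralClosure A (AdjoinRoot (Polynomial.X ^ m - Polynomial.C (algebraMap A (Localization.Away π) f)))) : (AdjoinRoot (Polynomial.X ^ m - Polynomial.C (algebraMap A (Localization.Away π) f)))) = algebraMap A (AdjoinRoot (Polynomial.X ^ m - Polynomial.C (algebraMap A (Localization.Away π) f))) π := rfl
    rw [h2] at h1
    rw [h1] at hπS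
    exact not_isUnit_zero hπS
  have hB : Prime (algebraMap A (integralClosure A (AdjoinRoot (Polynomial.X ^ m - Polynomial.C (algebraMap A (Localization.Away π) f)))) π) := (Ideal.span_singleton_prime hπB0).mp hsp
  have hz : (AdjoinRoot.root (Polynomial.X ^ m - Polynomial.C (algebraMap A (Localization.Away π) f))) ^ m =
      algebraMap A (AdjoinRoot (Polynomial.X ^ m - Polynomial.C (algebraMap A (Localization.Away π) f))) (π ^ i * ((u'⁻¹ : Aˣ) : A)) := by
    rw [← hfi]
    have h1 := AdjoinRoot.eval₂_root (Polynomial.X ^ m - Polynomial.C (algebraMap A (Localization.Away π) f))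
    rw [Polynomial.eval₂_sub, Polynomial.eval₂_pow, Polynomial.eval₂_X, Polynomial.eval₂_C,
      sub_eq_zero] at h1
    rw [h1, IsScalarTower.algebraMap_apply A (Localization.Away π) (AdjoinRoot (Polynomial.X ^ m - Polynomial.C (algebraMap A (Localization.Away π) f)))]
    rfl
  obtain ⟨q, hq⟩ := dvd_of_pow_eq π hπS hB m hm i u'⁻¹ _ hz
  exact ⟨q, u'⁻¹, by rw [hfi, hq]⟩

end Main

end Groth.Agent.Lib.H6xKummerNorm
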