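import Mathlib

/-!
# Towards Kunz's theorem: exactness of complexes of free modules modulo a regular sequence (helper6)

Everything is phrased with matrices `D : Matrix (Fin c') (Fin c) A`, viewed as maps `A^c → A^c'`.
-/

set_option autoImplicit false
universe u

namespace Groth.Agent.Lib.H6xKunz

variable {A : Type u} [CommRing A]

/-- Vectors with all coordinates in the ideal `I`. -/
def IV (I : Ideal A) (c : ℕ) : Submodule A (Fin c → A) where
  carrier := {v | ∀ i, v i ∈ I}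
  add_mem' := fun ha hb i => I.add_mem (ha i) (hb i)
  zero_mem' := fun _ => I.zero_mem
  smul_mem' := fun a _ hv i => I.mul_mem_left a (hv i)

theorem mem_IV {I : Ideal A} {c : ℕ} {v : Fin c → A} : v ∈ IV I c ↔ ∀ i, v i ∈ I := Iff.rfl

theorem IV_mono {I J : Ideal A} (h : I ≤ J) (c : ℕ) : IV I c ≤ IV J c :=
  fun _ hv i => h (hv i)

theorem mulVec_mem_IV {I : Ideal A} {c c' : ℕ} (D : Matrix (Fin c') (Fin c) A) {v : Fin c → A}
    (hv : v ∈ IV I c) : D.mulVec v ∈ IV I c' := by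
  intro r
  rw [Matrix.mulVec, dotProduct]
  exact I.sum_mem (fun i _ => I.mul_mem_left _ (hv i))

theorem mulVec_mem_IV_of_entries {I : Ideal A} {c c' : ℕ} (D : Matrix (Fin c') (Fin c) A)
    (hD : ∀ r i, D r i ∈ I) (v : Fin c → A) : D.mulVec v ∈ IV I c' := by
  intro r
  rw [Matrix.mulVec, dotProduct]
  exact I.sum_mem (fun i _ => I.mul_mem_right _ (hD r i))

/-- Exactness of `A^c'' --D--> A^c' --D'--> A^c` at the middle. -/
def ExactM {c c' c'' : ℕ} (D' : Matrix (Fin c) (Fin c') A) (D : Matrix (Fin c') (Fin c'') A) :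
    Prop :=
  (∀ w, D'.mulVec (D.mulVec w) = 0) ∧ ∀ v, D'.mulVec v = 0 → ∃ w, D.mulVec w = v

/-- `Deep j D`: below the map `D : A^c → A^c'` the complex continues with `j` more exact spots. -/
def Deep : ℕ → ∀ {c c' : ℕ}, Matrix (Fin c') (Fin c) A → Prop
  | 0, _, _, _ => True
  | j + 1, _, c', D => ∃ (c'' : ℕ) (D' : Matrix (Fin c'') (Fin c') A), ExactM D' D ∧ Deep j D'

theorem deep_zero {c c' : ℕ} (D : Matrix (Fin c') (Fin c) A) : Deep 0 D := trivial

theorem deep_succ_iff {j c c' : ℕ} (D : Matrix (Fin c') (Fin c) A) :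
    Deep (j + 1) D ↔ ∃ (c'' : ℕ) (D' : Matrix (Fin c'') (Fin c') A), ExactM D' D ∧ Deep j D' :=
  Iff.rfl

theorem Deep.of_succ : ∀ {j c c' : ℕ} {D : Matrix (Fin c') (Fin c) A}, Deep (j + 1) D → Deep j D
  | 0, _, _, _, _ => trivial
  | j + 1, _, _, D, h => by
    rw [deep_succ_iff] at h ⊢
    obtain ⟨c'', D', h1, h2⟩ := h
    exact ⟨c'', D', h1, Deep.of_succ h2⟩

/-- `P I D`: the map induced by `D` modulo `I` has kernel the image of the kernel of `D`. -/
def P (I : Ideal A) {c c' : ℕ} (D : Matrix (Fin c') (Fin c) A) : Prop :=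
  ∀ u : Fin c → A, D.mulVec u ∈ IV I c' →
    ∃ (k i : Fin c → A), D.mulVec k = 0 ∧ i ∈ IV I c ∧ u = k + i

/-- Ideals generated by a (weakly) regular sequence of a given length. -/
inductive RegIdeal : ℕ → Ideal A → Prop
  | zero : RegIdeal 0 ⊥
  | succ (j : ℕ) (I : Ideal A) (y : A) : RegIdeal j I → (∀ a, y * a ∈ I → a ∈ I) →
      RegIdeal (j + 1) (I ⊔ Ideal.span {y})

theorem exists_decomp_of_mem_IV_sup {I : Ideal A} {y : A} {c : ℕ} {v : Fin c → A}
    (hv : v ∈ IV (I ⊔ Ideal.span {y}) c) :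
    ∃ (i w : Fin c → A), i ∈ IV I c ∧ v = i + y • w := by
  have h : ∀ r, ∃ (a b : A), a ∈ I ∧ v r = a + y * b := by
    intro r
    obtain ⟨a, ha, b, hb, hab⟩ := Submodule.mem_sup.1 (hv r)
    obtain ⟨b', rfl⟩ := Ideal.mem_span_singleton'.1 hb
    exact ⟨a, b', ha, by rw [← hab, mul_comm]⟩
  choose a b ha hab using h
  refine ⟨a, b, ha, ?_⟩
  funext r
  rw [hab r]
  simp

/-- The inductive step: adding a regular element. -/
theorem P_sup_span {I : Ideal A} {y : A} (hy : ∀ a, y * a ∈ I → a ∈ I) {c c' c'' : ℕ}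
    (D : Matrix (Fin c') (Fin c) A) (D' : Matrix (Fin c'') (Fin c') A) (hex : ExactM D' D)
    (hD : P I D) (hD' : P I D') : P (I ⊔ Ideal.span {y}) D := by
  intro u hu
  obtain ⟨i, v, hi, huv⟩ := exists_decomp_of_mem_IV_sup hu
  -- `D' v` has coordinates in `I`
  have h1 : D'.mulVec (D.mulVec u) = 0 := hex.1 u
  rw [huv, Matrix.mulVec_add, Matrix.mulVec_smul] at h1
  have h2 : y • D'.mulVec v ∈ IV I c'' := by
    have : y • D'.mulVec v = -D'.mulVec i := by
      rw [eq_neg_iff_add_eq_zero, add_comm]; exact h1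
    rw [this]
    exact (IV I c'').neg_mem (mulVec_mem_IV D' hi)
  have h3 : D'.mulVec v ∈ IV I c'' := by
    intro r
    apply hy
    have := h2 r
    simpa using this
  obtain ⟨k, i', hk, hi', hv⟩ := hD' v h3
  obtain ⟨w', hw'⟩ := hex.2 k hk
  -- now `D (u - y w') ∈ I`
  have h4 : D.mulVec (u - y • w') ∈ IV I c' := by
    rw [Matrix.mulVec_sub, Matrix.mulVec_smul, huv, hw', hv]
    have : i + y • (k + i') - y • k = i + y • i' := by
      rw [smul_add]; abel
    rw [this]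
    exact (IV I c').add_mem hi ((IV I c').smul_mem y hi')
  obtain ⟨k2, i2, hk2, hi2, hu2⟩ := hD (u - y • w') h4
  refine ⟨k2, i2 + y • w', hk2, ?_, ?_⟩
  · intro r
    refine Ideal.add_mem _ (Ideal.mem_sup_left (hi2 r)) (Ideal.mem_sup_right ?_)
    rw [Pi.smul_apply, smul_eq_mul]
    exact Ideal.mul_mem_right _ _ (Ideal.subset_span rfl)
  · rw [← add_assoc, ← hu2]
    abel

/-- Exactness is preserved modulo a regular sequence, as deep as the complex is exact below. -/
theorem P_of_regIdeal {j : ℕ} {I : Ideal A} (hI : RegIdeal j I) :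
    ∀ {c c' : ℕ} (D : Matrix (Fin c') (Fin c) A), Deep j D → P I D := by
  induction hI with
  | zero =>
    intro c c' D _ u hu
    refine ⟨u, 0, ?_, (IV ⊥ c).zero_mem, by simp⟩
    funext r
    have := hu r
    simpa using this
  | succ j I y _ hy ih =>
    intro c c' D hD
    obtain ⟨c'', D', hex, hD'⟩ := (deep_succ_iff D).1 hD
    exact P_sup_span hy D D' hex (ih D (Deep.of_succ hD)) (ih D' hD')

/-- **Herzog's socle argument.** -/
theorem eq_zero_of_socle {I J M : Ideal A} {c0 c1 c2 : ℕ} (D1 : Matrix (Fin c0) (Fin c1) A)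
    (D2 : Matrix (Fin c1) (Fin c2) A) (hex : ExactM D1 D2) (hP : P I D1)
    (hD1 : ∀ r i, D1 r i ∈ M) (hD2 : ∀ r i, D2 r i ∈ J) (s : A) (hs : ∀ a ∈ M, a * s ∈ I)
    (hsJ : s ∉ J ⊔ I) : c1 = 0 := by
  by_contra hc
  have hpos : 0 < c1 := Nat.pos_of_ne_zero hc
  let j0 : Fin c1 := ⟨0, hpos⟩
  let u : Fin c1 → A := Pi.single j0 s
  have hu : D1.mulVec u ∈ IV I c0 := by
    intro r
    have : D1.mulVec u r = D1 r j0 * s := by
      simp [u, Matrix.mulVec, dotProduct, Pi.single_apply]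
    rw [this]
    exact hs _ (hD1 r j0)
  obtain ⟨k, i, hk, hi, hki⟩ := hP u hu
  obtain ⟨w, hw⟩ := hex.2 k hk
  apply hsJ
  have h1 : u j0 = s := by simp [u]
  have h2 := congrFun hki j0
  rw [h1, Pi.add_apply, ← hw] at h2
  rw [h2]
  exact Submodule.add_mem_sup (mulVec_mem_IV_of_entries D2 hD2 w j0) (hi j0)

end Groth.Agent.Lib.H6xKunz
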