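import Mathlib
import Groth.Agent.Lib.H6xKunzA

/-!
# Towards Kunz's theorem: flat base change of exact sequences of free modules (helper6)
-/

set_option autoImplicit false
universe u v

namespace Groth.Agent.Lib.H6xKunz

variable {A : Type u} [CommRing A] {B : Type v} [CommRing B] [Algebra A B]

theorem mul_eq_zero_of_exactM {c c' c'' : ℕ} {D' : Matrix (Fin c) (Fin c') A}
    {D : Matrix (Fin c') (Fin c'') A} (h : ExactM D' D) : D' * D = 0 := by
  ext r m
  have h1 := congrFun (h.1 (Pi.single m 1)) r
  rw [Matrix.mulVec_mulVec] at h1
  simpa [Matrix.mulVec, dotProduct, Pi.single_apply] using h1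

/-- Flat base change preserves exactness. -/
theorem ExactM.map_of_flat [Module.Flat A B] {c c' c'' : ℕ} {D' : Matrix (Fin c) (Fin c') A}
    {D : Matrix (Fin c') (Fin c'') A} (h : ExactM D' D) :
    ExactM (D'.map (algebraMap A B)) (D.map (algebraMap A B)) := by
  constructor
  · intro w
    rw [Matrix.mulVec_mulVec, ← Matrix.map_mul, mul_eq_zero_of_exactM h]
    simp
  · intro b hb
    -- the relation module
    let f : (Fin c → A) →ₗ[A] (Fin c' → A) := D'.transpose.mulVecLin
    let x : (Fin c' → A) →ₗ[A] B := Fintype.linearCombination A b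
    have hxf : x ∘ₗ f = 0 := by
      apply LinearMap.pi_ext'
      intro r
      apply LinearMap.ext_ring
      have h1 := congrFun hb r
      simp only [LinearMap.comp_apply, LinearMap.single_apply, LinearMap.zero_apply,
        LinearMap.zero_comp, x, f, Matrix.mulVecLin_apply, Fintype.linearCombination_apply]
      have h0 : ∀ i, D'.transpose.mulVec (Pi.single r 1) i = D' r i := by
        intro i
        simp [Matrix.mulVec, dotProduct, Pi.single_apply, Matrix.transpose_apply]
      simp_rw [h0]
      rw [Pi.zero_apply] at h1
      rw [← h1]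
      simp only [Matrix.mulVec, dotProduct, Matrix.map_apply]
      refine Finset.sum_congr rfl (fun i _ => ?_)
      rw [Algebra.smul_def]
    obtain ⟨k, a, y, hxy, haf⟩ :=
      Module.Flat.exists_factorization_of_comp_eq_zero_of_free (M := B) hxf
    -- the vectors `α l`
    let α : Fin k → (Fin c' → A) := fun l i => a (Pi.single i 1) l
    have hα : ∀ l, D'.mulVec (α l) = 0 := by
      intro l
      funext r
      have h1 : a (f (Pi.single r 1)) = 0 := by
        have := LinearMap.congr_fun haf (Pi.single r 1)
        simpa using this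
      have h2 : f (Pi.single r 1) = ∑ i, D' r i • (Pi.single i (1 : A) : Fin c' → A) := by
        funext i'
        simp [f, Pi.single_apply, Finset.sum_apply]
      rw [h2, map_sum] at h1
      have h3 := DFunLike.congr_fun h1 l
      simp only [map_smul, Finsupp.coe_finsetSum, Finsupp.coe_smul, Finset.sum_apply,
        Pi.smul_apply, smul_eq_mul, Finsupp.coe_zero, Pi.zero_apply] at h3
      simpa [Matrix.mulVec, dotProduct, α] using h3
    choose w hw using fun l => h.2 (α l) (hα l)
    -- `b i = ∑ l, a_{l i} • β l`
    let β : Fin k → B := fun l => y (Finsupp.single l 1)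
    have hb' : ∀ i, b i = ∑ l, algebraMap A B (α l i) * β l := by
      intro i
      have h1 : b i = x (Pi.single i 1) := by
        simp [x, Fintype.linearCombination_apply, Pi.single_apply]
      rw [h1, hxy, LinearMap.comp_apply]
      have h2 : a (Pi.single i 1) = ∑ l, (a (Pi.single i 1) l) • Finsupp.single l (1 : A) := by
        ext l'
        simp
      rw [h2, map_sum]
      refine Finset.sum_congr rfl (fun l _ => ?_)
      rw [map_smul, Algebra.smul_def]
    refine ⟨fun m => ∑ l, algebraMap A B (w l m) * β l, ?_⟩
    funext i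
    rw [hb' i]
    simp only [Matrix.mulVec, dotProduct, Matrix.map_apply]
    have h3 : ∀ l, algebraMap A B (α l i) = ∑ m, algebraMap A B (D i m) * algebraMap A B (w l m) := by
      intro l
      rw [← hw l]
      simp [Matrix.mulVec, dotProduct, map_sum, map_mul]
    simp_rw [h3, Finset.mul_sum, Finset.sum_mul]
    rw [Finset.sum_comm]
    refine Finset.sum_congr rfl (fun l _ => Finset.sum_congr rfl (fun m _ => ?_))
    ring

theorem Deep.map_of_flat [Module.Flat A B] : ∀ {j c c' : ℕ} {D : Matrix (Fin c') (Fin c) A},
    Deep j D → Deep j (D.map (algebraMap A B))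
  | 0, _, _, _, _ => trivial
  | j + 1, _, _, D, h => by
    rw [deep_succ_iff] at h ⊢
    obtain ⟨c'', D', h1, h2⟩ := h
    exact ⟨c'', D'.map (algebraMap A B), h1.map_of_flat, Deep.map_of_flat h2⟩

end Groth.Agent.Lib.H6xKunz
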