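import Mathlib
import Groth.Agent.Lib.H6xKunzB

/-!
# Towards Kunz's theorem: minimal free resolutions of the residue field, stage by stage (helper6)
-/

set_option autoImplicit false
universe u

namespace Groth.Agent.Lib.H6xKunz

open CategoryTheory

section mincover

variable {A : Type u} [CommRing A] [IsLocalRing A]

omit [IsLocalRing A] in
theorem mulVecLin_of_eq_linearCombination {c n : ℕ} (g : Fin n → (Fin c → A)) :
    (Matrix.of (fun r i => g i r) : Matrix (Fin c) (Fin n) A).mulVecLin =
      Fintype.linearCombination A g := by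
  apply LinearMap.ext
  intro w
  funext r
  simp [Matrix.mulVec, dotProduct, Fintype.linearCombination_apply, Finset.sum_apply, mul_comm]

/-- Minimal free covers: every finitely generated submodule of `A^c` is the image of a matrix whose
kernel lies in `𝔪 A^n`. -/
theorem exists_minimal_cover {c : ℕ} (Z : Submodule A (Fin c → A)) (hZ : Z.FG) :
    ∃ (n : ℕ) (D : Matrix (Fin c) (Fin n) A), LinearMap.range D.mulVecLin = Z ∧
      ∀ w, D.mulVec w = 0 → w ∈ IV (IsLocalRing.maximalIdeal A) n := by
  classical
  have hex : ∃ n : ℕ, ∃ g : Fin n → (Fin c → A), Submodule.span A (Set.range g) = Z :=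
    Submodule.fg_iff_exists_fin_generating_family.1 hZ
  obtain ⟨g, hg⟩ := Nat.find_spec hex
  have hmin := fun m hm => Nat.find_min hex (m := m) hm
  generalize hn : Nat.find hex = n at g hg hmin
  refine ⟨n, Matrix.of (fun r i => g i r), ?_, ?_⟩
  · rw [mulVecLin_of_eq_linearCombination, Fintype.range_linearCombination, hg]
  · intro w hw i0
    by_contra hi0
    have hunit : IsUnit (w i0) := by
      by_contra h
      exact hi0 ((IsLocalRing.mem_maximalIdeal _).2 h)
    have hw' : ∑ i, w i • g i = 0 := by
      have := congrArg (fun f => f w) (mulVecLin_of_eq_linearCombination g)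
      simp only [Matrix.mulVecLin_apply, Fintype.linearCombination_apply] at this
      rw [← this]; exact hw
    cases n with
    | zero => exact i0.elim0
    | succ n' =>
      apply hmin n' (Nat.lt_succ_self n')
      refine ⟨g ∘ i0.succAbove, ?_⟩
      rw [← hg]
      apply le_antisymm
      · apply Submodule.span_mono
        rintro _ ⟨j, rfl⟩
        exact ⟨i0.succAbove j, rfl⟩
      · rw [Submodule.span_le]
        rintro _ ⟨i, rfl⟩
        rw [Fin.sum_univ_succAbove _ i0] at hw'
        obtain ⟨v, hv⟩ : ∃ v : A, v * w i0 = 1 := by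
          obtain ⟨v, hv⟩ := hunit.exists_left_inv
          exact ⟨v, hv⟩
        have h1 : g i0 = -(v • ∑ j, w (i0.succAbove j) • g (i0.succAbove j)) := by
          have h2 : w i0 • g i0 = -∑ j, w (i0.succAbove j) • g (i0.succAbove j) :=
            eq_neg_of_add_eq_zero_left hw'
          have h3 : g i0 = v • (w i0 • g i0) := by
            rw [smul_smul, hv, one_smul]
          rw [h3, h2, smul_neg]
        have hsub : ∑ j, w (i0.succAbove j) • g (i0.succAbove j) ∈
            Submodule.span A (Set.range (g ∘ i0.succAbove)) :=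
          Submodule.sum_mem _ (fun j _ => Submodule.smul_mem _ _
            (Submodule.subset_span ⟨j, rfl⟩))
        rcases Fin.eq_self_or_eq_succAbove i0 i with h | ⟨j, h⟩
        · rw [h, h1]
          exact Submodule.neg_mem _ (Submodule.smul_mem _ _ hsub)
        · rw [h]
          exact Submodule.subset_span ⟨j, rfl⟩

end mincover

section pd

variable {A : Type u} [CommRing A]

/-- Projective dimension along a surjection from a projective module. -/
theorem pd_lt_succ_of_surjective {M N : Type u} [AddCommGroup M] [Module A M] [AddCommGroup N]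
    [Module A N] [Module.Projective A M] (f : M →ₗ[A] N) (hf : Function.Surjective f) (n : ℕ)
    (h : HasProjectiveDimensionLT (ModuleCat.of A (LinearMap.ker f)) n) :
    HasProjectiveDimensionLT (ModuleCat.of A N) (n + 1) := by
  have hex : Function.Exact (LinearMap.ker f).subtype f := LinearMap.exact_subtype_ker_map f
  let S : ShortComplex (ModuleCat.{u} A) :=
    ShortComplex.mk (ModuleCat.ofHom (LinearMap.ker f).subtype) (ModuleCat.ofHom f) (by
      ext x
      exact hex.apply_apply_eq_zero x)
  have hS : S.ShortExact :=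
    ShortComplex.ShortExact.mk'
      ((ShortComplex.moduleCat_exact_iff _).mpr fun x hx => (hex x).mp hx)
      ((ModuleCat.mono_iff_injective _).mpr (Submodule.injective_subtype _))
      ((ModuleCat.epi_iff_surjective _).mpr hf)
  have hFproj : Projective (ModuleCat.of A M) :=
    (IsProjective.iff_projective _).mp inferInstance
  have hF1 : HasProjectiveDimensionLT (ModuleCat.of A M) 1 :=
    projective_iff_hasProjectiveDimensionLT_one.mp hFproj
  have hF2 : HasProjectiveDimensionLT (ModuleCat.of A M) (n + 1) :=
    hasProjectiveDimensionLT_of_ge _ 1 (n + 1) (Nat.succ_le_succ (Nat.zero_le n))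
  exact hS.hasProjectiveDimensionLT_X₃ n h hF2

theorem pd_lt_of_linearEquiv {M N : Type u} [AddCommGroup M] [Module A M] [AddCommGroup N]
    [Module A N] (e : M ≃ₗ[A] N) (n : ℕ) (h : HasProjectiveDimensionLT (ModuleCat.of A M) n) :
    HasProjectiveDimensionLT (ModuleCat.of A N) n :=
  hasProjectiveDimensionLT_of_iso e.toModuleIso n

theorem pd_lt_zero_of_subsingleton (M : Type u) [AddCommGroup M] [Module A M] [Subsingleton M] :
    HasProjectiveDimensionLT (ModuleCat.of A M) 0 :=
  (ModuleCat.isZero_of_subsingleton (ModuleCat.of A M)).hasProjectiveDimensionLT_zero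

end pd

section tower

variable {A : Type u} [CommRing A] [IsLocalRing A] [IsNoetherianRing A]

/-- The data carried along the minimal free resolution of the residue field at stage `j`:
a matrix `D : A^c1 → A^c0` (the differential `G_{j+1} → G_j`), `j` exact spots below it, minimal. -/
def Stage (j : ℕ) {c0 c1 : ℕ} (D : Matrix (Fin c0) (Fin c1) A) : Prop :=
  Deep j D ∧ (∀ r i, D r i ∈ IsLocalRing.maximalIdeal A) ∧
    (∀ w, D.mulVec w = 0 → w ∈ IV (IsLocalRing.maximalIdeal A) c1) ∧
    ∀ n, HasProjectiveDimensionLT (ModuleCat.of A (LinearMap.range D.mulVecLin)) n →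
      HasProjectiveDimensionLT (ModuleCat.of A (IsLocalRing.ResidueField A)) (n + j + 1)

/-- Going one stage up. -/
theorem Stage.next {j c0 c1 : ℕ} {D : Matrix (Fin c0) (Fin c1) A} (h : Stage j D) :
    ∃ (c2 : ℕ) (D2 : Matrix (Fin c1) (Fin c2) A), ExactM D D2 ∧ Stage (j + 1) D2 := by
  obtain ⟨hdeep, hent, hker, hpd⟩ := h
  obtain ⟨c2, D2, hrange, hker2⟩ := exists_minimal_cover (LinearMap.ker D.mulVecLin)
    (IsNoetherian.noetherian _)
  have hex : ExactM D D2 := by
    constructor
    · intro w
      have : D2.mulVecLin w ∈ LinearMap.ker D.mulVecLin := by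
        rw [← hrange]; exact LinearMap.mem_range_self _ w
      exact this
    · intro v hv
      have : v ∈ LinearMap.range D2.mulVecLin := by
        rw [hrange]; exact hv
      exact this
  refine ⟨c2, D2, hex, ⟨c0, D, hex, hdeep⟩, ?_, hker2, ?_⟩
  · intro r i
    have h1 : D.mulVec (D2.mulVec (Pi.single i 1)) = 0 := hex.1 _
    have h2 := hker _ h1 r
    simpa [Matrix.mulVec, dotProduct, Pi.single_apply] using h2
  · intro n hn
    -- `0 → range D2 = ker D → A^c1 → range D → 0`
    have h1 : HasProjectiveDimensionLT
        (ModuleCat.of A (LinearMap.ker D.mulVecLin.rangeRestrict)) n := by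
      have heq : LinearMap.ker D.mulVecLin.rangeRestrict = LinearMap.range D2.mulVecLin := by
        rw [LinearMap.ker_rangeRestrict, hrange]
      exact pd_lt_of_linearEquiv (LinearEquiv.ofEq _ _ heq.symm) n hn
    have h2 := pd_lt_succ_of_surjective D.mulVecLin.rangeRestrict
      D.mulVecLin.surjective_rangeRestrict n h1
    have h3 := hpd (n + 1) h2
    have : n + 1 + j + 1 = n + (j + 1) + 1 := by omega
    rw [← this]
    exact h3

/-- Stage zero: generators of the maximal ideal. -/
theorem exists_stage_zero :
    ∃ (c1 : ℕ) (D : Matrix (Fin 1) (Fin c1) A), Stage 0 D := by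
  let Z : Submodule A (Fin 1 → A) := IV (IsLocalRing.maximalIdeal A) 1
  obtain ⟨c1, D, hrange, hker⟩ := exists_minimal_cover Z (IsNoetherian.noetherian _)
  refine ⟨c1, D, deep_zero D, ?_, hker, ?_⟩
  · intro r i
    have h1 : D.mulVecLin (Pi.single i 1) ∈ Z := by
      rw [← hrange]; exact LinearMap.mem_range_self _ _
    have h2 := h1 r
    simpa [Matrix.mulVec, dotProduct, Pi.single_apply] using h2
  · intro n hn
    -- `0 → Z → A^1 → k → 0`
    let π : (Fin 1 → A) →ₗ[A] IsLocalRing.ResidueField A :=
      (Algebra.linearMap A (IsLocalRing.ResidueField A)) ∘ₗ (LinearMap.proj 0)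
    have hπ : Function.Surjective π := by
      intro y
      obtain ⟨a, rfl⟩ := IsLocalRing.residue_surjective y
      exact ⟨fun _ => a, rfl⟩
    have hkerπ : LinearMap.ker π = LinearMap.range D.mulVecLin := by
      rw [hrange]
      ext v
      rw [LinearMap.mem_ker]
      change IsLocalRing.residue A (v 0) = 0 ↔ v ∈ Z
      rw [IsLocalRing.residue_eq_zero_iff]
      constructor
      · intro h i
        rw [Subsingleton.elim i 0]; exact h
      · intro h
        exact h 0
    have h1 : HasProjectiveDimensionLT (ModuleCat.of A (LinearMap.ker π)) n :=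
      pd_lt_of_linearEquiv (LinearEquiv.ofEq _ _ hkerπ.symm) n hn
    have h2 := pd_lt_succ_of_surjective π hπ n h1
    simpa using h2

/-- The minimal resolution of the residue field exists at every stage. -/
theorem exists_stage (j : ℕ) :
    ∃ (c0 c1 : ℕ) (D : Matrix (Fin c0) (Fin c1) A), Stage j D := by
  induction j with
  | zero =>
    obtain ⟨c1, D, h⟩ := exists_stage_zero (A := A)
    exact ⟨1, c1, D, h⟩
  | succ j ih =>
    obtain ⟨c0, c1, D, h⟩ := ih
    obtain ⟨c2, D2, -, h2⟩ := h.next
    exact ⟨c1, c2, D2, h2⟩

omit [IsNoetherianRing A] in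
/-- If the free module `G_{j+1}` vanishes the residue field has projective dimension `≤ j`. -/
theorem Stage.pd_of_eq_zero {j c0 c1 : ℕ} {D : Matrix (Fin c0) (Fin c1) A} (h : Stage j D)
    (hc : c1 = 0) :
    HasProjectiveDimensionLT (ModuleCat.of A (IsLocalRing.ResidueField A)) (j + 1) := by
  subst hc
  have hsub : Subsingleton (LinearMap.range D.mulVecLin) := by
    constructor
    rintro ⟨_, ⟨w, rfl⟩⟩ ⟨_, ⟨w', rfl⟩⟩
    congr 2
    exact Subsingleton.elim _ _
  have := h.2.2.2 0 (pd_lt_zero_of_subsingleton _)
  simpa using this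

end tower

end Groth.Agent.Lib.H6xKunz
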