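import Mathlib
import Groth.Agent.Lib.H6xKunzC
import Groth.Agent.Lib.H6xHKc

/-!
# Towards Kunz's theorem: Frobenius flat implies regular, local case (helper6)
-/

set_option autoImplicit false
universe u

namespace Groth.Agent.Lib.H6xKunz

open IsLocalRing

section regideal

variable {A : Type u} [CommRing A] [IsLocalRing A] [IsNoetherianRing A]

theorem exists_regIdeal_socle_aux (I : Ideal A) : ∀ j, RegIdeal j I → I ≤ maximalIdeal A →
    ∃ (t : ℕ) (I' : Ideal A), RegIdeal t I' ∧ I' ≤ maximalIdeal A ∧
      ∃ s, s ∉ I' ∧ ∀ a ∈ maximalIdeal A, a * s ∈ I' := by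
  induction I using WellFoundedGT.induction with
  | ind I ih =>
    intro j hj hI
    by_cases hm : maximalIdeal A ∈ associatedPrimes A (A ⧸ I)
    · obtain ⟨-, x, hx⟩ := (isAssociatedPrime_iff).1 hm
      obtain ⟨s, rfl⟩ := Ideal.Quotient.mk_surjective x
      refine ⟨j, I, hj, hI, s, ?_, ?_⟩
      · intro hs
        have h1 : (1 : A) ∈ maximalIdeal A := by
          rw [hx, Submodule.mem_colon_singleton]
          simp only [one_smul, Submodule.mem_bot]
          exact Ideal.Quotient.eq_zero_iff_mem.2 hs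
        exact (Ideal.ne_top_iff_one _).1 (maximalIdeal.isMaximal A).ne_top h1
      · intro a ha
        rw [hx, Submodule.mem_colon_singleton] at ha
        simp only [Submodule.mem_bot] at ha
        rw [← Ideal.Quotient.eq_zero_iff_mem, map_mul]
        rw [← ha, Algebra.smul_def]
        rfl
    · have hfin := associatedPrimes.finite A (A ⧸ I)
      have hnot : ¬ ((maximalIdeal A : Set A) ⊆ ⋃ p ∈ associatedPrimes A (A ⧸ I), (p : Set A)) := by
        intro hsub
        have h2 : ((maximalIdeal A : Ideal A) : Set A) ⊆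
            ⋃ p ∈ ((hfin.toFinset : Finset (Ideal A)) : Set (Ideal A)), ((id p : Ideal A) : Set A) := by
          simpa using hsub
        rw [Ideal.subset_union_prime (maximalIdeal A) (maximalIdeal A)] at h2
        · obtain ⟨P, hP, hle⟩ := h2
          have hP' : P ∈ associatedPrimes A (A ⧸ I) := by simpa using hP
          have hprime : P.IsPrime := hP'.isPrime
          have : P = maximalIdeal A :=
            le_antisymm (le_maximalIdeal hprime.ne_top) hle
          exact hm (this ▸ hP')
        · intro P hP _ _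
          have hP' : P ∈ associatedPrimes A (A ⧸ I) := by simpa using hP
          exact hP'.isPrime
      obtain ⟨y, hy𝔪, hy⟩ := Set.not_subset.1 hnot
      rw [biUnion_associatedPrimes_eq_zero_divisors] at hy
      have hreg : ∀ a, y * a ∈ I → a ∈ I := by
        intro a ha
        by_contra hna
        apply hy
        refine ⟨Ideal.Quotient.mk I a, ?_, ?_⟩
        · rwa [Ne, Ideal.Quotient.eq_zero_iff_mem]
        · rw [Algebra.smul_def]
          change Ideal.Quotient.mk I y * Ideal.Quotient.mk I a = 0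
          rw [← map_mul, Ideal.Quotient.eq_zero_iff_mem]
          exact ha
      have hlt : I < I ⊔ Ideal.span {y} := by
        refine lt_of_le_of_ne le_sup_left ?_
        intro heq
        have hyI : y ∈ I := by
          rw [heq]; exact Ideal.mem_sup_right (Ideal.subset_span rfl)
        have h1 : (1 : A) ∈ I := hreg 1 (by simpa using hyI)
        exact (Ideal.ne_top_iff_one _).1 (maximalIdeal.isMaximal A).ne_top (hI h1)
      exact ih _ hlt (j + 1) (RegIdeal.succ j I y hj hreg)
        (sup_le hI ((Ideal.span_singleton_le_iff_mem _).2 hy𝔪))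

/-- In a noetherian local ring there is a regular sequence inside the maximal ideal modulo which the
maximal ideal has a nonzero annihilator. -/
theorem exists_regIdeal_socle :
    ∃ (t : ℕ) (I : Ideal A), RegIdeal t I ∧ I ≤ maximalIdeal A ∧
      ∃ s, s ∉ I ∧ ∀ a ∈ maximalIdeal A, a * s ∈ I :=
  exists_regIdeal_socle_aux ⊥ 0 RegIdeal.zero bot_le

/-- Krull's intersection theorem in the form needed. -/
theorem exists_pow_sup_not_mem {I : Ideal A} (hI : I ≤ maximalIdeal A) {s : A} (hs : s ∉ I) :
    ∃ Q : ℕ, s ∉ maximalIdeal A ^ Q ⊔ I := by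
  by_contra hcon
  push Not at hcon
  apply hs
  have hne : I ≠ ⊤ := fun h => (maximalIdeal.isMaximal A).ne_top (top_le_iff.1 (h ▸ hI))
  haveI : Nontrivial (A ⧸ I) := Ideal.Quotient.nontrivial_iff.2 hne
  haveI : IsLocalRing (A ⧸ I) :=
    IsLocalRing.of_surjective' (Ideal.Quotient.mk I) Ideal.Quotient.mk_surjective
  have hK := Ideal.iInf_pow_eq_bot_of_isLocalRing (maximalIdeal (A ⧸ I))
    (maximalIdeal.isMaximal (A ⧸ I)).ne_top
  have hmem : Ideal.Quotient.mk I s ∈ ⨅ i : ℕ, maximalIdeal (A ⧸ I) ^ i := by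
    rw [Ideal.mem_iInf]
    intro Q
    obtain ⟨a, ha, b, hb, hab⟩ := Submodule.mem_sup.1 (hcon Q)
    have h1 : Ideal.Quotient.mk I s = Ideal.Quotient.mk I a := by
      rw [← hab, map_add, Ideal.Quotient.eq_zero_iff_mem.2 hb, add_zero]
    rw [h1]
    have h2 : Ideal.map (Ideal.Quotient.mk I) (maximalIdeal A) ≤ maximalIdeal (A ⧸ I) := by
      rw [Ideal.map_le_iff_le_comap]
      intro x hx
      rw [Ideal.mem_comap, mem_maximalIdeal, mem_nonunits_iff]
      intro hu
      haveI := IsLocalHom.of_surjective (Ideal.Quotient.mk I) Ideal.Quotient.mk_surjective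
      exact hx (isUnit_of_map_unit (Ideal.Quotient.mk I) x hu)
    have h3 : Ideal.Quotient.mk I a ∈ Ideal.map (Ideal.Quotient.mk I) (maximalIdeal A ^ Q) :=
      Ideal.mem_map_of_mem _ ha
    rw [Ideal.map_pow] at h3
    exact Ideal.pow_right_mono h2 Q h3
  rw [hK] at hmem
  exact Ideal.Quotient.eq_zero_iff_mem.1 hmem

end regideal

section frob

variable {A : Type u} [CommRing A] (p : ℕ) [Fact p.Prime] [CharP A p]

theorem iterateFrobenius_flat (h : (frobenius A p).Flat) (e : ℕ) :
    (iterateFrobenius A p e).Flat := by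
  induction e with
  | zero => rw [iterateFrobenius_zero]; exact RingHom.Flat.id A
  | succ e ih =>
    rw [iterateFrobenius_add, iterateFrobenius_one]
    exact RingHom.Flat.comp h ih

theorem ExactM.frob (e : ℕ) (hfl : (iterateFrobenius A p e).Flat) {c c' c'' : ℕ}
    {D' : Matrix (Fin c) (Fin c') A} {D : Matrix (Fin c') (Fin c'') A} (h : ExactM D' D) :
    ExactM (D'.map (fun x => x ^ p ^ e)) (D.map (fun x => x ^ p ^ e)) := by
  haveI : Module.Flat A (H6xHK.FR A p e) := hfl
  exact (h.map_of_flat (B := H6xHK.FR A p e))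

theorem Deep.frob (e : ℕ) (hfl : (iterateFrobenius A p e).Flat) {j c c' : ℕ}
    {D : Matrix (Fin c') (Fin c) A} (h : Deep j D) :
    Deep j (D.map (fun x => x ^ p ^ e)) := by
  haveI : Module.Flat A (H6xHK.FR A p e) := hfl
  exact (h.map_of_flat (B := H6xHK.FR A p e))

/-- **Kunz, the hard direction (local case)**: flatness of Frobenius forces the residue field to
have finite projective dimension. -/
theorem exists_pd_residueField_of_frobenius_flat [IsLocalRing A] [IsNoetherianRing A]
    (h : (frobenius A p).Flat) :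
    ∃ n : ℕ, CategoryTheory.HasProjectiveDimensionLT (ModuleCat.of A (ResidueField A)) n := by
  obtain ⟨t, I, hreg, hI, s, hsI, hs⟩ := exists_regIdeal_socle (A := A)
  obtain ⟨Q, hQ⟩ := exists_pow_sup_not_mem hI hsI
  obtain ⟨c0, c1, D1, hst⟩ := exists_stage (A := A) t
  obtain ⟨c2, D2, hex, hst2⟩ := hst.next
  obtain ⟨e, he⟩ : ∃ e, Q ≤ p ^ e := ⟨Q, (Nat.lt_pow_self (Fact.out : p.Prime).one_lt).le⟩
  have hfl := iterateFrobenius_flat p h e
  have hex' := hex.frob p e hfl
  have hdeep' := hst.1.frob p e hfl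
  have hP := P_of_regIdeal hreg _ hdeep'
  have hpos : 0 < p ^ e := pos_of_gt (Nat.lt_pow_self (Fact.out : p.Prime).one_lt)
  have hc : c1 = 0 := by
    refine eq_zero_of_socle (M := maximalIdeal A) (J := maximalIdeal A ^ Q) _ _ hex' hP ?_ ?_ s hs hQ
    · intro r i
      rw [Matrix.map_apply]
      exact Ideal.pow_mem_of_mem _ (hst.2.1 r i) _ hpos
    · intro r i
      rw [Matrix.map_apply]
      exact Ideal.pow_le_pow_right he (Ideal.pow_mem_pow (hst2.2.1 r i) _)
  exact ⟨t + 1, hst.pd_of_eq_zero hc⟩

end frob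

end Groth.Agent.Lib.H6xKunz
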