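import Mathlib
import Groth.Agent.Lib.H6xKunzD
import Groth.Agent.Lib.H6xKunzE
import Groth.Agent.Lib.Helper28SerreConv

/-!
# Kunz's theorem: a noetherian ring of characteristic `p` is regular iff its Frobenius is flat
(helper6)
-/

set_option autoImplicit false
universe u

namespace Groth.Agent.Lib.H6xKunz

open IsLocalRing

section

variable {R : Type u} [CommRing R] (p : ℕ) [Fact p.Prime] [CharP R p]

/-- A nontrivial algebra over a ring of characteristic `p` has characteristic `p`. -/
theorem charP_of_algebra' (B : Type u) [CommRing B] [Algebra R B] [Nontrivial B] : CharP B p := by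
  have h0 : ((p : ℕ) : B) = 0 := by
    have : ((p : ℕ) : B) = algebraMap R B ((p : ℕ) : R) := (map_natCast (algebraMap R B) p).symm
    rw [this, CharP.cast_eq_zero, map_zero]
  have := CharP.ringChar_of_prime_eq_zero (Fact.out : p.Prime) h0
  exact ringChar.of_eq this

theorem comap_frobenius_eq (J : Ideal R) [J.IsPrime] : J.comap (frobenius R p) = J := by
  ext x
  rw [Ideal.mem_comap, frobenius_def]
  constructor
  · intro h
    exact Ideal.IsPrime.mem_of_pow_mem inferInstance _ h
  · intro h
    exact Ideal.pow_mem_of_mem _ h _ (Fact.out : p.Prime).pos

theorem localRingHom_frobenius_eq (J : Ideal R) [J.IsPrime]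
    [CharP (Localization.AtPrime J) p] (h : J = J.comap (frobenius R p)) :
    Localization.localRingHom J J (frobenius R p) h = frobenius (Localization.AtPrime J) p := by
  apply IsLocalization.ringHom_ext J.primeCompl
  ext x
  rw [RingHom.comp_apply, RingHom.comp_apply, Localization.localRingHom_to_map, frobenius_def,
    frobenius_def, map_pow]

/-- General source prime, to be able to substitute. -/
theorem localRingHom_frobenius_flat_iff (Q J : Ideal R) [Q.IsPrime] [J.IsPrime]
    [CharP (Localization.AtPrime J) p] (h : Q = J.comap (frobenius R p)) :
    (Localization.localRingHom Q J (frobenius R p) h).Flat ↔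
      (frobenius (Localization.AtPrime J) p).Flat := by
  have hQJ : Q = J := by rw [h, comap_frobenius_eq]
  subst hQJ
  rw [localRingHom_frobenius_eq]

variable (R)

/-- **Kunz's theorem.** -/
theorem isRegularRing_iff_frobenius_flat [IsNoetherianRing R] :
    IsRegularRing R ↔ (frobenius R p).Flat := by
  constructor
  · intro hreg
    apply RingHom.Flat.ofLocalizationPrime
    intro J hJ
    haveI : CharP (Localization.AtPrime J) p := charP_of_algebra' (R := R) p _
    rw [localRingHom_frobenius_flat_iff]
    exact frobenius_flat_of_isRegularLocalRing p
  · intro hflat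
    rw [isRegularRing_iff]
    intro J hJ
    haveI : CharP (Localization.AtPrime J) p := charP_of_algebra' (R := R) p _
    have h1 : (frobenius (Localization.AtPrime J) p).Flat := by
      rw [← localRingHom_frobenius_flat_iff p J J (comap_frobenius_eq p J).symm]
      exact RingHom.Flat.localRingHom hflat J J _
    obtain ⟨n, hn⟩ := exists_pd_residueField_of_frobenius_flat p h1
    exact Groth.Agent.Lib.Helper28.isRegularLocalRing_of_hasProjectiveDimensionLT_residueField _ n hn

end

end Groth.Agent.Lib.H6xKunz
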