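import Mathlib
import Groth.Agent.Lib.R2H3KzFBC
import Groth.Agent.Lib.R2H3KzQuot
import Groth.Agent.Lib.R2LeadKzFpqcC
import Groth.Agent.Lib.H9RegImmFlatBC
set_option backward.isDefEq.respectTransparency.types false

/-!
# Koszul-regular sequences have Koszul-regular tails locally (helper6)

* `Tails A l`: every tail of the list `l` is Koszul-regular;
* `mem_nonZeroDivisors_of_isKoszulRegularSeq_singleton`;
* `exists_isKoszulRegularSeq_away` (Nakayama): if `(t :: l)` is Koszul-regular over a Noetherian ring
  then `l` is Koszul-regular in every flat algebra in which some `r ≡ 1 mod t` is invertible;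
* `exists_tails`: for `l` Koszul-regular contained in a prime `𝔮` there is `h ∉ 𝔮` such that all
  tails of `l` are Koszul-regular in every flat algebra in which `h` is invertible.
-/

set_option autoImplicit false
set_option linter.style.haveILetI false
universe u

namespace Groth.Agent.Lib.H6xKzTails

open CategoryTheory CategoryTheory.Limits CochainComplex CohIII
open Groth.Agent.Helper13Kz Groth.Agent.Helper13KzLift
open scoped TensorProduct

section Tails

variable {A : Type u} [CommRing A]

/-- all tails of the list are Koszul-regular -/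
def Tails (A : Type u) [CommRing A] : List A → Prop
  | [] => True
  | t :: l => LCI.IsKoszulRegularSeq A (t :: l) ∧ Tails A l

lemma Tails.head : ∀ {l : List A}, Tails A l → LCI.IsKoszulRegularSeq A l
  | [], _ => Groth.Agent.Lib.R2LeadKzFpqcC.isKoszulRegularSeq_nil A
  | _ :: _, h => h.1

lemma Tails.map_of_flat {B : Type u} [CommRing B] (φ : A →+* B) (hφ : φ.Flat) :
    ∀ {l : List A}, Tails A l → Tails B (l.map φ)
  | [], _ => trivial
  | t :: l, h => ⟨Groth.Agent.Lib.H9RegImmFlatBC.isKoszulRegularSeq_map φ hφ (t :: l) h.1,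
      Tails.map_of_flat φ hφ h.2⟩

/-- a Koszul-regular sequence of length one is a nonzerodivisor -/
theorem mem_nonZeroDivisors_of_isKoszulRegularSeq_singleton (t : A)
    (h : LCI.IsKoszulRegularSeq A [t]) : t ∈ nonZeroDivisors A := by
  have h1 : IsZero ((koszulCx (ModuleCat.of A A) [t]).homology (-1)) :=
    (isZero_congr (koszul_eq A [t]) (-1)).mp (h (-1) (by decide))
  obtain ⟨g, δ, -, -, h3⟩ := cone_les (koszulCx (ModuleCat.of A A) []) t (-1)
  haveI : Subsingleton ((mappingCone (t • 𝟙 (koszulCx (ModuleCat.of A A) []))).homology (-1)) :=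
    ModuleCat.subsingleton_of_isZero h1
  rw [mem_nonZeroDivisors_iff_right]
  intro a ha
  let ι : (koszulCx (ModuleCat.of A A) []).homology (-1 + 1) ≃ₗ[A] A := KHnilEquiv A
  have hz : (t • (LinearMap.id : (koszulCx (ModuleCat.of A A) []).homology (-1 + 1) →ₗ[A]
      (koszulCx (ModuleCat.of A A) []).homology (-1 + 1))) (ι.symm a) = 0 := by
    rw [LinearMap.smul_apply, LinearMap.id_apply, ← map_smul, smul_eq_mul, mul_comm, ha, map_zero]
  obtain ⟨y, hy⟩ := (h3 (ι.symm a)).1 hz
  have hy0 : y = 0 := Subsingleton.elim _ _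
  rw [hy0, map_zero] at hy
  have := congrArg ι hy
  rw [map_zero, LinearEquiv.apply_symm_apply] at this
  exact this.symm

end Tails

section Nakayama

variable {A : Type u} [CommRing A]

/-- a module killed by `r` dies after tensoring with an algebra in which `r` is invertible -/
lemma subsingleton_tensor_of_smul_eq_zero {T : Type u} [CommRing T] [Algebra A T] (M : Type u)
    [AddCommGroup M] [Module A M] (r : A) (hr : IsUnit (algebraMap A T r))
    (hM : ∀ m : M, r • m = 0) : Subsingleton (M ⊗[A] T) := by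
  obtain ⟨u, hu⟩ := hr.exists_right_inv
  have hz : ∀ z : M ⊗[A] T, z = 0 := by
    intro z
    induction z using TensorProduct.induction_on with
    | zero => rfl
    | tmul m x =>
      have h1 : x = r • (u * x) := by
        rw [Algebra.smul_def, ← mul_assoc, hu, one_mul]
      rw [h1, ← TensorProduct.smul_tmul, hM, TensorProduct.zero_tmul]
    | add x y hx hy => rw [hx, hy, add_zero]
  exact ⟨fun x y => by rw [hz x, hz y]⟩

/-- an element congruent to `1` modulo `t` killing the `i`-th Koszul cohomology of `l`, for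
`(t :: l)` Koszul-regular and `i ≠ 0` -/
lemma exists_smul_KH_eq_zero [IsNoetherianRing A] (t : A) (l : List A)
    (h : LCI.IsKoszulRegularSeq A (t :: l)) (i : ℤ) (hi : i ≠ 0) :
    ∃ r : A, r - 1 ∈ Ideal.span {t} ∧ ∀ z : KH l A i, r • z = 0 := by
  have h1 : IsZero ((koszulCx (ModuleCat.of A A) (t :: l)).homology i) :=
    (isZero_congr (koszul_eq A (t :: l)) i).mp (h i hi)
  obtain ⟨g, δ, h2, -, -⟩ := cone_les (koszulCx (ModuleCat.of A A) l) t i
  haveI : Subsingleton ((mappingCone (t • 𝟙 (koszulCx (ModuleCat.of A A) l))).homology i) :=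
    ModuleCat.subsingleton_of_isZero h1
  have hsurj : ∀ m : KH l A i, ∃ m' : KH l A i, t • m' = m := by
    intro m
    obtain ⟨m', hm'⟩ := (h2 m).1 (Subsingleton.elim _ _)
    exact ⟨m', hm'⟩
  haveI : IsNoetherian A (KH l A i) := isNoetherian_KH A l i
  have hfg : (⊤ : Submodule A (KH l A i)).FG := IsNoetherian.noetherian _
  have hle : (⊤ : Submodule A (KH l A i)) ≤ Ideal.span {t} • ⊤ := by
    intro m _
    obtain ⟨m', rfl⟩ := hsurj m
    exact Submodule.smul_mem_smul (Ideal.mem_span_singleton_self t) trivial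
  obtain ⟨r, hr1, hr2⟩ := Submodule.exists_sub_one_mem_and_smul_eq_zero_of_fg_of_le_smul
    (Ideal.span {t}) ⊤ hfg hle
  exact ⟨r, hr1, fun z => hr2 z trivial⟩

/-- **Nakayama step**: if `(t :: l)` is Koszul-regular over a Noetherian ring, then `l` becomes
Koszul-regular after inverting some `r ≡ 1 mod t` -/
theorem exists_isKoszulRegularSeq_away [IsNoetherianRing A] (t : A) (l : List A)
    (h : LCI.IsKoszulRegularSeq A (t :: l)) :
    ∃ r : A, r - 1 ∈ Ideal.span {t} ∧
      ∀ (T : Type u) [CommRing T] [Algebra A T] [Module.Flat A T],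
        IsUnit (algebraMap A T r) → LCI.IsKoszulRegularSeq T (l.map (algebraMap A T)) := by
  classical
  have hex : ∀ i : ℤ, ∃ r : A, r - 1 ∈ Ideal.span {t} ∧ (i ≠ 0 → ∀ z : KH l A i, r • z = 0) := by
    intro i
    by_cases hi : i = 0
    · exact ⟨1, by rw [sub_self]; exact Submodule.zero_mem _, fun h' => absurd hi h'⟩
    · obtain ⟨r, hr1, hr2⟩ := exists_smul_KH_eq_zero t l h i hi
      exact ⟨r, hr1, fun _ => hr2⟩
  choose r hr1 hr2 using hex
  let S : Finset ℤ := Finset.Icc (-(l.length : ℤ)) (-1)
  refine ⟨∏ i ∈ S, r i, ?_, ?_⟩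
  · rw [← Ideal.Quotient.eq, map_prod, map_one]
    apply Finset.prod_eq_one
    intro i _
    have := hr1 i
    rw [← Ideal.Quotient.eq, map_one] at this
    exact this
  · intro T _ _ _ hu
    have hflat : (algebraMap A T).Flat := RingHom.flat_algebraMap_iff.mpr inferInstance
    rw [Groth.Agent.Lib.R2H3.KzFBC.isKoszulRegularSeq_map_iff (algebraMap A T) hflat l]
    intro i hi
    letI := (algebraMap A T).toAlgebra
    refine subsingleton_tensor_of_smul_eq_zero _ (∏ i ∈ S, r i) hu ?_
    intro z
    by_cases hiS : i ∈ S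
    · rw [← Finset.mul_prod_erase S r hiS, mul_comm, mul_smul, hr2 i hi z, smul_zero]
    · have hz : Subsingleton (KH l A i) := by
        rw [Finset.mem_Icc, not_and_or, not_le, not_le] at hiS
        rcases hiS with h' | h'
        · exact subsingleton_KH_of_lt A l i h'
        · exact subsingleton_KH_of_pos A l i (by omega)
      exact Subsingleton.elim _ _

end Nakayama

section Local

variable {A : Type u} [CommRing A]

/-- a flat `A`-algebra in which `r₀` is invertible is a flat `A_{r₀}`-algebra -/
lemma exists_lift_away (r₀ : A) (T : Type u) [CommRing T] [Algebra A T] [Module.Flat A T]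
    (hu : IsUnit (algebraMap A T r₀)) :
    ∃ φ : Localization.Away r₀ →+* T,
      φ.comp (algebraMap A (Localization.Away r₀)) = algebraMap A T ∧ φ.Flat := by
  refine ⟨IsLocalization.Away.lift r₀ hu, IsLocalization.Away.lift_comp r₀ hu, ?_⟩
  letI : Algebra (Localization.Away r₀) T := (IsLocalization.Away.lift r₀ hu).toAlgebra
  haveI : IsScalarTower A (Localization.Away r₀) T :=
    IsScalarTower.of_algebraMap_eq' (IsLocalization.Away.lift_comp r₀ hu).symm
  exact (Module.flat_iff_of_isLocalization (Localization.Away r₀) (Submonoid.powers r₀) T).mpr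
    inferInstance

/-- **Koszul-regular sequences have Koszul-regular tails locally** -/
theorem exists_tails_aux [IsNoetherianRing A] (𝔮 : Ideal A) [𝔮.IsPrime] :
    ∀ (l : List A) (r₀ : A), r₀ ∉ 𝔮 → (∀ x ∈ l, x ∈ 𝔮) →
      (∀ (T : Type u) [CommRing T] [Algebra A T] [Module.Flat A T],
        IsUnit (algebraMap A T r₀) → LCI.IsKoszulRegularSeq T (l.map (algebraMap A T))) →
      ∃ h : A, h ∉ 𝔮 ∧ ∀ (T : Type u) [CommRing T] [Algebra A T] [Module.Flat A T],
        IsUnit (algebraMap A T h) → Tails T (l.map (algebraMap A T))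
  | [], r₀, hr₀, _, _ => ⟨r₀, hr₀, fun _ _ _ _ _ => trivial⟩
  | t :: l, r₀, hr₀, hmem, hreg => by
    -- Nakayama over `A_{r₀}`
    have h0 := hreg (Localization.Away r₀) (IsLocalization.Away.algebraMap_isUnit r₀)
    obtain ⟨r', hr'1, hr'2⟩ := exists_isKoszulRegularSeq_away
      (algebraMap A (Localization.Away r₀) t) (l.map (algebraMap A (Localization.Away r₀))) h0
    obtain ⟨k, a, ha⟩ := IsLocalization.Away.surj r₀ r'
    have hdisj : Disjoint (Submonoid.powers r₀ : Set A) (𝔮 : Set A) := by
      rw [Set.disjoint_left]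
      rintro x ⟨n, rfl⟩ hx
      exact hr₀ (‹𝔮.IsPrime›.mem_of_pow_mem n hx)
    haveI hp : (𝔮.map (algebraMap A (Localization.Away r₀))).IsPrime :=
      IsLocalization.isPrime_of_isPrime_disjoint (Submonoid.powers r₀) _ 𝔮 inferInstance hdisj
    have ha𝔮 : a ∉ 𝔮 := by
      intro ha'
      have h1 : algebraMap A (Localization.Away r₀) a ∈ 𝔮.map (algebraMap A _) :=
        Ideal.mem_map_of_mem _ ha'
      rw [← ha] at h1
      have h2 : r' ∈ 𝔮.map (algebraMap A (Localization.Away r₀)) := by
        rcases hp.mem_or_mem h1 with h | h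
        · exact h
        · exfalso
          apply hp.ne_top
          apply Ideal.eq_top_of_isUnit_mem _ h
          exact (IsLocalization.Away.algebraMap_isUnit r₀).pow k
      have h3 : r' - 1 ∈ 𝔮.map (algebraMap A (Localization.Away r₀)) := by
        have ht : algebraMap A (Localization.Away r₀) t ∈ 𝔮.map (algebraMap A _) :=
          Ideal.mem_map_of_mem _ (hmem t (List.mem_cons_self))
        exact ((Ideal.span_singleton_le_iff_mem _).mpr ht) hr'1
      apply hp.ne_top
      rw [Ideal.eq_top_iff_one]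
      have := Ideal.sub_mem _ h2 h3
      rwa [sub_sub_cancel] at this
    have hr₁ : r₀ * a ∉ 𝔮 := fun h => (‹𝔮.IsPrime›.mem_or_mem h).elim hr₀ ha𝔮
    -- hypothesis for `l` with `r₀ * a`
    have hreg' : ∀ (T : Type u) [CommRing T] [Algebra A T] [Module.Flat A T],
        IsUnit (algebraMap A T (r₀ * a)) → LCI.IsKoszulRegularSeq T (l.map (algebraMap A T)) := by
      intro T _ _ _ hu
      rw [map_mul] at hu
      have hu0 : IsUnit (algebraMap A T r₀) := isUnit_of_mul_isUnit_left hu
      have hua : IsUnit (algebraMap A T a) := isUnit_of_mul_isUnit_right hu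
      obtain ⟨φ, hφ1, hφ2⟩ := exists_lift_away r₀ T hu0
      letI : Algebra (Localization.Away r₀) T := φ.toAlgebra
      haveI : Module.Flat (Localization.Away r₀) T := hφ2
      have hur' : IsUnit (algebraMap (Localization.Away r₀) T r') := by
        have h1 : φ r' * φ (algebraMap A _ r₀) ^ k = φ (algebraMap A _ a) := by
          rw [← map_pow, ← map_mul, ha]
        have h2 : φ (algebraMap A (Localization.Away r₀) a) = algebraMap A T a := by
          rw [← hφ1]
          rfl
        rw [h2] at h1
        exact isUnit_of_mul_isUnit_left (h1 ▸ hua)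
      have h4 := hr'2 T hur'
      rw [List.map_map] at h4
      have h5 : (algebraMap (Localization.Away r₀) T) ∘ (algebraMap A (Localization.Away r₀)) =
          algebraMap A T := by
        funext x
        have := congrArg (fun ψ : A →+* T => ψ x) hφ1
        exact this
      rw [h5] at h4
      exact h4
    have hmem' : ∀ x ∈ l, x ∈ 𝔮 := fun x hx => hmem x (List.mem_cons_of_mem _ hx)
    obtain ⟨h', hh'1, hh'2⟩ := exists_tails_aux 𝔮 l (r₀ * a) hr₁ hmem' hreg'
    refine ⟨r₀ * h', fun h => (‹𝔮.IsPrime›.mem_or_mem h).elim hr₀ hh'1, ?_⟩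
    intro T _ _ _ hu
    rw [map_mul] at hu
    exact ⟨hreg T (isUnit_of_mul_isUnit_left hu), hh'2 T (isUnit_of_mul_isUnit_right hu)⟩

/-- **Koszul-regular sequences have Koszul-regular tails locally** -/
theorem exists_tails [IsNoetherianRing A] (𝔮 : Ideal A) [𝔮.IsPrime] (l : List A)
    (hl : LCI.IsKoszulRegularSeq A l) (hmem : ∀ x ∈ l, x ∈ 𝔮) :
    ∃ h : A, h ∉ 𝔮 ∧ ∀ (T : Type u) [CommRing T] [Algebra A T] [Module.Flat A T],
      IsUnit (algebraMap A T h) → Tails T (l.map (algebraMap A T)) := by
  refine exists_tails_aux 𝔮 l 1 (fun h => ‹𝔮.IsPrime›.ne_top ((Ideal.eq_top_iff_one _).mpr h))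
    hmem ?_
  intro T _ _ _ _
  exact Groth.Agent.Lib.H9RegImmFlatBC.isKoszulRegularSeq_map (algebraMap A T)
    (RingHom.flat_algebraMap_iff.mpr inferInstance) l hl

end Local

end Groth.Agent.Lib.H6xKzTails
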