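import Mathlib
import Groth.Agent.Lib.H6xLDH
import Groth.Agent.S5170
set_option backward.isDefEq.respectTransparency.types false

/-!
# The Matlis double dual of a finite module is its completion (helper6)

Over a Noetherian local ring with `E` an injective hull of the residue field and `T` a finite module:
`AdicCompletion 𝔪 T ≃ Hom_A(Hom_A(T, E), E)`.  Consequence: S11176.
-/

set_option autoImplicit false
set_option linter.style.haveILetI false
universe u v

namespace Groth.Agent.Lib.H6xLD

open CategoryTheory CategoryTheory.Limits Category Pretriangulated DerivedCategory Opposite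
open Groth.Agent.Lib.H6xDep
attribute [local instance] HasDerivedCategory.standard

section DD

variable {A : Type u} [CommRing A] [IsLocalRing A] [IsNoetherianRing A]
  (E : Type u) [AddCommGroup E] [Module A E] (f : IsLocalRing.ResidueField A →ₗ[A] E)
  (hf : InjHull.IsInjectiveHull f)

include hf in
/-- Matlis biduality for modules of finite length -/
theorem applyₗ_bijective_of_isFiniteLength (X : Type u) [AddCommGroup X] [Module A X]
    (hX : IsFiniteLength A X) :
    Function.Bijective (LinearMap.applyₗ : X →ₗ[A] (X →ₗ[A] E) →ₗ[A] E) := by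
  have hinj : Function.Injective (LinearMap.applyₗ : X →ₗ[A] (X →ₗ[A] E) →ₗ[A] E) := by
    rw [injective_iff_map_eq_zero]
    intro x hx
    by_contra h
    obtain ⟨φ, hφ⟩ := exists_linearMap_apply_ne_zero E f hf x h
    exact hφ (LinearMap.congr_fun hx φ)
  refine ⟨hinj, ?_⟩
  have h1 : Module.length A (X →ₗ[A] E) = Module.length A X :=
    Groth.Agent.S5170.result A E f hf X hX
  have hDX : IsFiniteLength A (X →ₗ[A] E) :=
    Module.length_ne_top_iff.1 (h1 ▸ Module.length_ne_top_iff.2 hX)
  have h2 : Module.length A ((X →ₗ[A] E) →ₗ[A] E) = Module.length A (X →ₗ[A] E) :=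
    Groth.Agent.S5170.result A E f hf _ hDX
  have hDDX : IsFiniteLength A ((X →ₗ[A] E) →ₗ[A] E) :=
    Module.length_ne_top_iff.1 (h2 ▸ Module.length_ne_top_iff.2 hDX)
  rw [← LinearMap.range_eq_top]
  by_contra hne
  obtain ⟨hNoe, hArt⟩ := isFiniteLength_iff_isNoetherian_isArtinian.1 hDDX
  have h3 := Submodule.length_lt hne
  rw [← (LinearEquiv.ofInjective _ hinj).length_eq, h2, h1] at h3
  exact lt_irrefl _ h3

variable (T : Type u) [AddCommGroup T] [Module A T] [Module.Finite A T]

/-- `T/𝔪^n T` -/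
abbrev Tn (n : ℕ) : Type u := T ⧸ (IsLocalRing.maximalIdeal A ^ n • ⊤ : Submodule A T)

include hf in
/-- every functional on a finite module kills `𝔪^n T` for some `n` -/
lemma exists_pow_smul_top_le_ker (ψ : T →ₗ[A] E) :
    ∃ n : ℕ, (IsLocalRing.maximalIdeal A ^ n • ⊤ : Submodule A T) ≤ LinearMap.ker ψ := by
  obtain ⟨n, hn⟩ := isPowerTorsion_linearMap (IsLocalRing.maximalIdeal A) E
    (Groth.Agent.S0311.result A E f hf) ψ
  refine ⟨n, Submodule.smul_le.2 fun a ha t _ => ?_⟩
  rw [LinearMap.mem_ker, map_smul, ← LinearMap.smul_apply, hn a ha, LinearMap.zero_apply]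

/-- precomposition with the projection `T → T/𝔪^n T` -/
noncomputable def Dπ (n : ℕ) : (Tn (A := A) T n →ₗ[A] E) →ₗ[A] (T →ₗ[A] E) :=
  LinearMap.lcomp A E (Submodule.mkQ _)

lemma Dπ_apply (n : ℕ) (φ : Tn (A := A) T n →ₗ[A] E) (x : T) :
    Dπ E T n φ x = φ (Submodule.Quotient.mk x) := rfl

include hf in
lemma isFiniteLength_Tn (n : ℕ) : IsFiniteLength A (Tn (A := A) T n) :=
  Groth.Agent.Lib.Helper28.isFiniteLength_quotient_maximalIdeal_pow_smul_top (R := A) n T

/-- evaluation `T/𝔪^n T ≃ DD(T/𝔪^n T)` -/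
noncomputable def evn (n : ℕ) :
    Tn (A := A) T n ≃ₗ[A] ((Tn (A := A) T n →ₗ[A] E) →ₗ[A] E) :=
  LinearEquiv.ofBijective _
    (applyₗ_bijective_of_isFiniteLength E f hf _ (isFiniteLength_Tn E f hf T n))

lemma evn_apply (n : ℕ) (x : Tn (A := A) T n) (φ : Tn (A := A) T n →ₗ[A] E) :
    evn E f hf T n x φ = φ x := rfl

/-- the `n`-th component of the map `DD(T) → T^` -/
noncomputable def compn (n : ℕ) : ((T →ₗ[A] E) →ₗ[A] E) →ₗ[A] Tn (A := A) T n :=
  (evn E f hf T n).symm.toLinearMap ∘ₗ LinearMap.lcomp A E (Dπ E T n)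

lemma evn_compn (n : ℕ) (c : (T →ₗ[A] E) →ₗ[A] E) (φ : Tn (A := A) T n →ₗ[A] E) :
    evn E f hf T n (compn E f hf T n c) φ = c (Dπ E T n φ) := by
  change evn E f hf T n ((evn E f hf T n).symm (LinearMap.lcomp A E (Dπ E T n) c)) φ = _
  rw [LinearEquiv.apply_symm_apply]
  rfl

lemma compn_compat {m n : ℕ} (hmn : m ≤ n) (c : (T →ₗ[A] E) →ₗ[A] E) :
    AdicCompletion.transitionMap (IsLocalRing.maximalIdeal A) T hmn (compn E f hf T n c) =
      compn E f hf T m c := by
  apply (evn E f hf T m).injective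
  apply LinearMap.ext
  intro φ
  rw [evn_compn, evn_apply]
  have h1 : φ (AdicCompletion.transitionMap (IsLocalRing.maximalIdeal A) T hmn
      (compn E f hf T n c)) =
      evn E f hf T n (compn E f hf T n c)
        (φ ∘ₗ AdicCompletion.transitionMap (IsLocalRing.maximalIdeal A) T hmn) := rfl
  rw [h1, evn_compn]
  congr 1

/-- the map `DD(T) → T^` -/
noncomputable def toCompl :
    ((T →ₗ[A] E) →ₗ[A] E) →ₗ[A] AdicCompletion (IsLocalRing.maximalIdeal A) T where
  toFun c := ⟨fun n => compn E f hf T n c, fun hmn => compn_compat E f hf T hmn c⟩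
  map_add' c c' := by
    apply AdicCompletion.ext
    intro n
    change compn E f hf T n (c + c') = compn E f hf T n c + compn E f hf T n c'
    rw [map_add]
  map_smul' a c := by
    apply AdicCompletion.ext
    intro n
    change compn E f hf T n (a • c) = a • compn E f hf T n c
    rw [map_smul]

lemma toCompl_val (c : (T →ₗ[A] E) →ₗ[A] E) (n : ℕ) :
    (toCompl E f hf T c).val n = compn E f hf T n c := rfl

/-- the value of a compatible family on a functional killing `𝔪^n T` -/
noncomputable def valAt (x : AdicCompletion (IsLocalRing.maximalIdeal A) T) (ψ : T →ₗ[A] E)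
    (n : ℕ) (h : (IsLocalRing.maximalIdeal A ^ n • ⊤ : Submodule A T) ≤ LinearMap.ker ψ) : E :=
  (Submodule.liftQ _ ψ h) (x.val n)

omit [IsNoetherianRing A] [Module.Finite A T] in
lemma valAt_mono (x : AdicCompletion (IsLocalRing.maximalIdeal A) T) (ψ : T →ₗ[A] E)
    {m n : ℕ} (hmn : m ≤ n)
    (hm : (IsLocalRing.maximalIdeal A ^ m • ⊤ : Submodule A T) ≤ LinearMap.ker ψ)
    (hn' : (IsLocalRing.maximalIdeal A ^ n • ⊤ : Submodule A T) ≤ LinearMap.ker ψ) :
    valAt E T x ψ n hn' = valAt E T x ψ m hm := by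
  unfold valAt
  rw [← x.prop hmn]
  generalize x.val n = y
  obtain ⟨y, rfl⟩ := Submodule.Quotient.mk_surjective _ y
  rfl

omit [IsNoetherianRing A] [Module.Finite A T] in
lemma valAt_eq (x : AdicCompletion (IsLocalRing.maximalIdeal A) T) (ψ : T →ₗ[A] E)
    (m n : ℕ)
    (hm : (IsLocalRing.maximalIdeal A ^ m • ⊤ : Submodule A T) ≤ LinearMap.ker ψ)
    (hn' : (IsLocalRing.maximalIdeal A ^ n • ⊤ : Submodule A T) ≤ LinearMap.ker ψ) :
    valAt E T x ψ n hn' = valAt E T x ψ m hm := by
  have hk : (IsLocalRing.maximalIdeal A ^ (max m n) • ⊤ : Submodule A T) ≤ LinearMap.ker ψ :=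
    (Submodule.pow_smul_top_le _ T (le_max_left m n)).trans hm
  rw [← valAt_mono E T x ψ (le_max_right m n) hn' hk, ← valAt_mono E T x ψ (le_max_left m n) hm hk]

/-- the functional on `Hom(T, E)` attached to a compatible family -/
noncomputable def ofCompl (x : AdicCompletion (IsLocalRing.maximalIdeal A) T) :
    (T →ₗ[A] E) →ₗ[A] E where
  toFun ψ := valAt E T x ψ _ (Classical.choose_spec (exists_pow_smul_top_le_ker E f hf T ψ))
  map_add' ψ ψ' := by
    obtain ⟨n₁, h₁⟩ := exists_pow_smul_top_le_ker E f hf T ψ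
    obtain ⟨n₂, h₂⟩ := exists_pow_smul_top_le_ker E f hf T ψ'
    set n := max n₁ n₂
    have k₁ : (IsLocalRing.maximalIdeal A ^ n • ⊤ : Submodule A T) ≤ LinearMap.ker ψ :=
      (Submodule.pow_smul_top_le _ T (le_max_left n₁ n₂)).trans h₁
    have k₂ : (IsLocalRing.maximalIdeal A ^ n • ⊤ : Submodule A T) ≤ LinearMap.ker ψ' :=
      (Submodule.pow_smul_top_le _ T (le_max_right n₁ n₂)).trans h₂
    have k₃ : (IsLocalRing.maximalIdeal A ^ n • ⊤ : Submodule A T) ≤ LinearMap.ker (ψ + ψ') := by
      intro t ht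
      rw [LinearMap.mem_ker, LinearMap.add_apply, LinearMap.mem_ker.1 (k₁ ht),
        LinearMap.mem_ker.1 (k₂ ht), add_zero]
    rw [valAt_eq E T x (ψ + ψ') n _ k₃, valAt_eq E T x ψ n _ k₁, valAt_eq E T x ψ' n _ k₂]
    unfold valAt
    generalize x.val n = y
    obtain ⟨y, rfl⟩ := Submodule.Quotient.mk_surjective _ y
    rfl
  map_smul' a ψ := by
    obtain ⟨n, h₁⟩ := exists_pow_smul_top_le_ker E f hf T ψ
    have k₂ : (IsLocalRing.maximalIdeal A ^ n • ⊤ : Submodule A T) ≤ LinearMap.ker (a • ψ) := by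
      intro t ht
      rw [LinearMap.mem_ker, LinearMap.smul_apply, LinearMap.mem_ker.1 (h₁ ht), smul_zero]
    rw [valAt_eq E T x (a • ψ) n _ k₂, valAt_eq E T x ψ n _ h₁]
    unfold valAt
    generalize x.val n = y
    obtain ⟨y, rfl⟩ := Submodule.Quotient.mk_surjective _ y
    rfl

lemma ofCompl_apply (x : AdicCompletion (IsLocalRing.maximalIdeal A) T) (ψ : T →ₗ[A] E) (n : ℕ)
    (h : (IsLocalRing.maximalIdeal A ^ n • ⊤ : Submodule A T) ≤ LinearMap.ker ψ) :
    ofCompl E f hf T x ψ = valAt E T x ψ n h :=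
  valAt_eq E T x ψ n _ h (Classical.choose_spec (exists_pow_smul_top_le_ker E f hf T ψ))

/-- **the Matlis double dual of a finite module is its completion** -/
theorem toCompl_bijective : Function.Bijective (toCompl E f hf T) := by
  constructor
  · rw [injective_iff_map_eq_zero]
    intro c hc
    apply LinearMap.ext
    intro ψ
    obtain ⟨n, hn'⟩ := exists_pow_smul_top_le_ker E f hf T ψ
    have h1 : compn E f hf T n c = 0 := by
      have := congrArg (fun y => y.val n) hc
      exact this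
    have h2 := evn_compn E f hf T n c (Submodule.liftQ _ ψ hn')
    rw [h1, map_zero, LinearMap.zero_apply] at h2
    have h3 : Dπ E T n (Submodule.liftQ _ ψ hn') = ψ := by
      apply LinearMap.ext
      intro t
      rfl
    rw [h3] at h2
    rw [← h2, LinearMap.zero_apply]
  · intro x
    refine ⟨ofCompl E f hf T x, ?_⟩
    apply AdicCompletion.ext
    intro n
    rw [toCompl_val]
    apply (evn E f hf T n).injective
    apply LinearMap.ext
    intro φ
    rw [evn_compn, evn_apply]
    have hk : (IsLocalRing.maximalIdeal A ^ n • ⊤ : Submodule A T) ≤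
        LinearMap.ker (Dπ E T n φ) := by
      intro t ht
      rw [LinearMap.mem_ker, Dπ_apply, (Submodule.Quotient.mk_eq_zero _).2 ht, map_zero]
    rw [ofCompl_apply E f hf T x _ n hk]
    unfold valAt
    generalize x.val n = y
    obtain ⟨y, rfl⟩ := Submodule.Quotient.mk_surjective _ y
    rfl

/-- `T^ ≃ DD(T)` -/
noncomputable def complEquiv :
    AdicCompletion (IsLocalRing.maximalIdeal A) T ≃ₗ[A] ((T →ₗ[A] E) →ₗ[A] E) :=
  (LinearEquiv.ofBijective (toCompl E f hf T) (toCompl_bijective E f hf T)).symm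

end DD

end Groth.Agent.Lib.H6xLD
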