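import Mathlib
import Groth.Agent.Lib.H6xLDI
set_option backward.isDefEq.respectTransparency.types false

/-!
# S11176: completion of `Ext^{-i}(M, ω)` is the Matlis dual of `H^i_𝔪(M)` (helper6)
-/

set_option autoImplicit false
set_option linter.style.haveILetI false
universe u v

namespace Groth.Agent.Lib.H6xLD

open CategoryTheory CategoryTheory.Limits Category Pretriangulated DerivedCategory Opposite
open Groth.Agent.Lib.H6xDep
attribute [local instance] HasDerivedCategory.standard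

section Cor

variable {A : Type u} [CommRing A] [IsLocalRing A] [IsNoetherianRing A]
  (ω : Dual.D A) (hω : Dual.IsDualizing A ω) (hn : Dual.IsNormalized A ω)
  (E : Type u) [AddCommGroup E] [Module A E] (f : IsLocalRing.ResidueField A →ₗ[A] E)
  (hf : InjHull.IsInjectiveHull f)
  (M : Type u) [AddCommGroup M] [Module A M] [Module.Finite A M]

include hω hn hf in
/-- **S11176** -/
theorem adicCompletion_linearEquiv_dual (i : ℕ) :
    Nonempty (AdicCompletion (IsLocalRing.maximalIdeal A) (Dual.inD A M ⟶ ω⟦(-(i : ℤ))⟧) ≃ₗ[A]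
      (LocCoh.H (IsLocalRing.maximalIdeal A) i M →ₗ[A] E)) := by
  obtain ⟨e1⟩ := localDuality ω hω hn E f hf M i
  haveI : Module.Finite A (Dual.inD A M ⟶ ω⟦(-(i : ℤ))⟧) := finite_hom ω hω M (-(i : ℤ))
  obtain ⟨T', _, _, _, ⟨eT⟩⟩ := exists_small_model (A := A) (Dual.inD A M ⟶ ω⟦(-(i : ℤ))⟧)
  let e0 : AdicCompletion (IsLocalRing.maximalIdeal A) (Dual.inD A M ⟶ ω⟦(-(i : ℤ))⟧) ≃ₗ[A]
      AdicCompletion (IsLocalRing.maximalIdeal A) T' :=
    (AdicCompletion.congr (IsLocalRing.maximalIdeal A) eT).restrictScalars A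
  exact ⟨e0 ≪≫ₗ complEquiv E f hf T' ≪≫ₗ
    (LinearEquiv.congrLeft E A (LinearEquiv.congrLeft E A eT)).symm ≪≫ₗ
    (LinearEquiv.congrLeft E A e1).symm⟩

end Cor

end Groth.Agent.Lib.H6xLD
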