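import Mathlib
import Groth.Agent.Lib.H6xLDR
import Groth.Agent.S0299
set_option backward.isDefEq.respectTransparency.types false

/-!
# Vanishing of local cohomology vs vanishing of `Ext(-, ω)` (helper6)

For `M ∈ D(A)` with finite cohomology: `H^i(RΓ_𝔪 M) = 0 ↔ Hom(M, ω⟦-i⟧) = 0`.
-/

set_option autoImplicit false
set_option linter.style.haveILetI false
universe u

namespace Groth.Agent.Lib.H6xLD

open CategoryTheory CategoryTheory.Limits Category Pretriangulated DerivedCategory Opposite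
open Groth.Agent.Lib.H6xDual Groth.Agent.S14388 Groth.Agent.Lib.H6xBid Groth.Agent.Lib.H6xRGam
open Groth.Agent.Lib.H6xDep
attribute [local instance] HasDerivedCategory.standard

section Van

variable {A : Type u} [CommRing A] [IsLocalRing A] [IsNoetherianRing A]
  (ω : Dual.D A) (hω : Dual.IsDualizing A ω) (hn : Dual.IsNormalized A ω)

include hω hn in
/-- local duality without a chosen injective hull: `HDI` vanishes iff `Ext(-, ω)` does -/
theorem subsingleton_HDI_iff (M : Dual.D A) (hfin : ∀ i : ℤ, Module.Finite A (Dual.HD A M i))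
    (i : ℤ) :
    Subsingleton (Dual2.HDI A (IsLocalRing.maximalIdeal A) M i) ↔ Subsingleton (M ⟶ ω⟦-i⟧) := by
  obtain ⟨E, _, _, f, hf⟩ := Groth.Agent.S0299.result A (IsLocalRing.ResidueField A)
  obtain ⟨e⟩ := nonempty_F_dualizing_equiv ω hω hn E f hf
  obtain ⟨V⟩ := nonempty_vanData ω hω (IsLocalRing.maximalIdeal A)
  have hfinY : ∀ j : ℤ, Module.Finite A (Dual.HD A (M⟦i⟧) j) := by
    intro j
    haveI := hfin (i + j)
    exact Module.Finite.equiv (HDShiftEquiv' M i j (i + j) rfl).symm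
  have hbij := bijective_η_of_finite ω hω hn E f hf e V (M⟦i⟧) hfinY
  let sh : (M⟦i⟧ ⟶ ω) ≃ₗ[A] (M ⟶ ω⟦-i⟧) := shiftHomLinearEquiv' M ω i (-i) (by omega)
  let e1 : Dual2.HDI A (IsLocalRing.maximalIdeal A) M i ≃ₗ[A] ((M ⟶ ω⟦-i⟧) →ₗ[A] E) :=
    (HDIEquiv (IsLocalRing.maximalIdeal A) M i).symm ≪≫ₗ LinearEquiv.ofBijective _ hbij ≪≫ₗ
      LinearEquiv.congrLeft E A sh
  constructor
  · intro h
    haveI : Subsingleton ((M ⟶ ω⟦-i⟧) →ₗ[A] E) := e1.symm.toEquiv.subsingleton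
    refine ⟨fun y y' => ?_⟩
    suffices H : ∀ y : M ⟶ ω⟦-i⟧, y = 0 by rw [H y, H y']
    intro y
    by_contra hy
    obtain ⟨φ, hφ⟩ := exists_linearMap_apply_ne_zero E f hf y hy
    apply hφ
    rw [Subsingleton.elim φ 0, LinearMap.zero_apply]
  · intro h
    haveI : Subsingleton ((M ⟶ ω⟦-i⟧) →ₗ[A] E) := inferInstance
    exact e1.toEquiv.subsingleton

include hω hn in
/-- the same for `RΓ_𝔪` -/
theorem subsingleton_HD_RgammaI_iff [DRing.HasRgammaI (IsLocalRing.maximalIdeal A)] (M : Dual.D A)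
    (hfin : ∀ i : ℤ, Module.Finite A (Dual.HD A M i)) (i : ℤ) :
    Subsingleton (Dual.HD A ((DRing.RgammaI (IsLocalRing.maximalIdeal A)).obj M) i) ↔
      Subsingleton (M ⟶ ω⟦-i⟧) := by
  obtain ⟨e⟩ := nonempty_HD_RgammaI_equiv_HDI (IsLocalRing.maximalIdeal A) M i
  rw [← subsingleton_HDI_iff ω hω hn M hfin i]
  exact e.toEquiv.subsingleton_congr

end Van

end Groth.Agent.Lib.H6xLD
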