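import Mathlib
import Groth.Prelude.Def_LambdaSp
import Groth.Agent.Lib.H6xLamT

/-!
# Division by the top γ-class of an element of finite rank in the free special λ-ring (helper6)
-/

set_option autoImplicit false
universe u v w
open MvPolynomial LambdaRing

namespace Groth.Agent.Lib.H6xLamD

open Groth.Agent.Lib.H6xLamW Groth.Agent.Lib.H6xLamU Groth.Agent.Lib.H6xLamE Groth.Agent.Lib.H6xLamT
open Groth.Agent.Lib.Helper4 Groth.Agent.Lib.Helper4.LUniv Groth.Agent.Lib.Helper4.Newton

section Mix

/-- mixed family: a first block of `n₀` variables, the other blocks of `N` variables -/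
noncomputable def famMix (α : Type u) (n₀ N : ℕ) :
    Fin n₀ ⊕ α × Fin N → MvPolynomial (Fin n₀ ⊕ α × Fin N) ℤ :=
  Sum.elim (fun i => rename Sum.inl (esymm (Fin n₀) ℤ ((i : ℕ) + 1)))
    (fun p => rename (fun a => Sum.inr (p.1, a)) (esymm (Fin N) ℤ ((p.2 : ℕ) + 1)))

theorem algInd_mix (α : Type u) [Finite α] (n₀ N : ℕ) :
    AlgebraicIndependent ℤ (famMix α n₀ N) := by
  classical
  set R' := MvPolynomial (α × Fin N) ℤ
  set B := MvPolynomial (Fin n₀) R'
  let y : Fin n₀ → B := fun k => esymm (Fin n₀) R' ((k : ℕ) + 1)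
  have hy : AlgebraicIndependent R' y := by
    change Function.Injective (aeval y)
    exact Groth.Agent.Lib.Helper4.MulPoly.EE_injective n₀ n₀ R' le_rfl
  have h1 : AlgebraicIndependent ℤ (Sum.elim y (algebraMap R' B ∘ fam α N)) :=
    AlgebraicIndependent.sumElim_comp (algInd α N) hy
  let Φ : MvPolynomial (Fin n₀ ⊕ α × Fin N) ℤ →ₐ[ℤ] B :=
    (sumAlgEquiv ℤ (Fin n₀) (α × Fin N)).toAlgHom
  apply AlgebraicIndependent.of_comp Φ
  convert h1 using 1
  funext p
  rcases p with k | ⟨s, k⟩
  · simp only [Function.comp_apply, famMix, Sum.elim_inl, Φ, y]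
    have h4 := DFunLike.congr_fun (sumAlgEquiv_comp_rename_inl (R := ℤ) (S₁ := Fin n₀)
      (S₂ := α × Fin N)) (esymm (Fin n₀) ℤ ((k : ℕ) + 1))
    simp only [AlgHom.comp_apply] at h4
    rw [h4]
    change map _ _ = _
    rw [map_esymm]
  · simp only [Function.comp_apply, famMix, Sum.elim_inr, Φ, fam]
    have h3 : (fun a : Fin N => (Sum.inr (s, a) : Fin n₀ ⊕ α × Fin N)) = Sum.inr ∘ Prod.mk s := by
      funext a; rfl
    rw [h3, ← rename_rename]
    have h4 := DFunLike.congr_fun (sumAlgEquiv_comp_rename_inr (R := ℤ) (S₁ := Fin n₀)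
      (S₂ := α × Fin N)) (rename (Prod.mk s) (esymm (Fin N) ℤ ((k : ℕ) + 1)))
    simp only [AlgHom.comp_apply] at h4
    rw [h4]
    rfl

variable (α : Type u)

/-- the mixed model -/
noncomputable def PsiMix (n₀ N : ℕ) :
    MvPolynomial (Option α × ℕ) ℤ →ₐ[ℤ] MvPolynomial (Fin n₀ ⊕ α × Fin N) ℤ :=
  aeval (fun p : Option α × ℕ => match p.1 with
    | none => rename Sum.inl (esymm (Fin n₀) ℤ (p.2 + 1))
    | some s => rename (fun a => Sum.inr (s, a)) (esymm (Fin N) ℤ (p.2 + 1)))

/-- **Verification principle** for the mixed model. -/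
theorem VP_mix [Finite α] (n₀ : ℕ) (R : MvPolynomial (Option α × ℕ) ℤ)
    (hR : ∀ m ∈ R.support, ∀ i, n₀ ≤ i → m (none, i) = 0)
    (h : ∀ N, PsiMix α n₀ N R = 0) : R = 0 := by
  classical
  set n := R.vars.sup Prod.snd + 1 with hn
  let ι : Fin n₀ ⊕ α × Fin n → Option α × ℕ := Sum.elim (fun i => (none, (i : ℕ)))
    (fun p => (some p.1, (p.2 : ℕ)))
  have hι : Function.Injective ι := by
    rintro (i | ⟨s, i⟩) (j | ⟨t, j⟩) hij <;> simp [ι] at hij
    · exact congrArg _ (Fin.val_injective hij)
    · obtain ⟨rfl, h2⟩ := hij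
      rw [Fin.val_injective h2]
  have hvars : (R.vars : Set (Option α × ℕ)) ⊆ Set.range ι := by
    intro q hq
    have hq' : q ∈ R.vars := hq
    have hle : Prod.snd q ≤ R.vars.sup Prod.snd := Finset.le_sup (f := Prod.snd) hq'
    obtain ⟨m, hm, hmq⟩ := (mem_vars_iff_mem_support q).mp hq'
    obtain ⟨o, i⟩ := q
    rcases o with _ | s
    · have hi : i < n₀ := by
        by_contra hge
        rw [not_lt] at hge
        have := hR m hm i hge
        rw [Finsupp.mem_support_iff] at hmq
        exact hmq this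
      exact ⟨Sum.inl ⟨i, hi⟩, rfl⟩
    · exact ⟨Sum.inr (s, ⟨i, by simp only at hle; omega⟩), rfl⟩
  obtain ⟨R₀, hR₀⟩ := exists_rename_eq_of_vars_subset_range R ι hι hvars
  have h1 := h n
  have h2 : PsiMix α n₀ n R = aeval (famMix α n₀ n) R₀ := by
    rw [← hR₀, PsiMix, aeval_rename]
    congr 2
    funext p
    rcases p with i | ⟨s, i⟩ <;> rfl
  rw [h2] at h1
  have h3 : R₀ = 0 := (algInd_mix α n₀ n) (by rw [h1, map_zero])
  rw [← hR₀, h3, map_zero]

end Mix

section Chi

attribute [local instance 100] lamW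
attribute [local instance 2000] lamU

variable (α : Type u) [Finite α]

/-- centred generators of the mixed model -/
noncomputable def xMix (n₀ N : ℕ) : Option α → MvPolynomial (Fin n₀ ⊕ α × Fin N) ℤ
  | none => ∑ a : Fin n₀, (X (Sum.inl a) - 1)
  | some s => ∑ b : Fin N, (X (Sum.inr (s, b)) - 1)

/-- the universal λ-homomorphism to the mixed model -/
noncomputable def chiN (n₀ N : ℕ) :
    MvPolynomial (Option α × ℕ) ℤ →+* MvPolynomial (Fin n₀ ⊕ α × Fin N) ℤ :=
  (phi (Option α) (xMix α n₀ N) :
    MvPolynomial (Option α × ℕ) ℤ →+* MvPolynomial (Fin n₀ ⊕ α × Fin N) ℤ)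

omit [Finite α] in
lemma chiN_apply (n₀ N : ℕ) (F : MvPolynomial (Option α × ℕ) ℤ) :
    chiN α n₀ N F = phi (Option α) (xMix α n₀ N) F := rfl

theorem chiN_lam (n₀ N n : ℕ) (F : MvPolynomial (Option α × ℕ) ℤ) :
    chiN α n₀ N (LambdaOps.lam n F) = LambdaOps.lam n (chiN α n₀ N F) := by
  rw [chiN_apply, chiN_apply]
  exact phi_lam (Option α) (isSpecial_W _) _ n F

theorem chiN_gamma (n₀ N n : ℕ) (F : MvPolynomial (Option α × ℕ) ℤ) :
    chiN α n₀ N (gamma n F) = gamma n (chiN α n₀ N F) := by
  rw [chiN_apply, chiN_apply]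
  exact phi_gamma (Option α) (isSpecial_W _) _ n F

omit [Finite α] in
theorem gamma_xMix_none (n₀ N k : ℕ) (hk : n₀ < k) : gamma k (xMix α n₀ N none) = 0 := by
  classical
  rw [xMix, gamma_sum_X_sub_one Finset.univ (fun a : Fin n₀ => (Sum.inl a : Fin n₀ ⊕ α × Fin N)) k,
    Finset.powersetCard_eq_empty.mpr (by simpa using hk), Finset.sum_empty]

theorem chiN_Theta (n₀ N : ℕ) (G : MvPolynomial (Option α × ℕ) ℤ) :
    chiN α n₀ N (Theta (Option α) G) = betaInvW _ (PsiMix α n₀ N G) := by
  classical
  have : (chiN α n₀ N).comp (Theta (Option α) :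
      MvPolynomial (Option α × ℕ) ℤ →+* MvPolynomial (Option α × ℕ) ℤ) =
      ((betaInvW (Fin n₀ ⊕ α × Fin N)).toRingHom).comp
        (PsiMix α n₀ N : MvPolynomial (Option α × ℕ) ℤ →+* MvPolynomial (Fin n₀ ⊕ α × Fin N) ℤ) := by
    apply MvPolynomial.ringHom_ext
    · intro r
      simp
    rintro ⟨o, j⟩
    simp only [RingHom.comp_apply, RingHom.coe_coe, Theta_X]
    rw [chiN_gamma, chiN_apply, phi_X0]
    rcases o with _ | s
    · simp only [PsiMix, aeval_X, xMix]
      rw [gamma_sum_X_sub_one Finset.univ (fun a : Fin n₀ => (Sum.inl a : Fin n₀ ⊕ α × Fin N)),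
        esymm, map_sum, map_sum]
      apply Finset.sum_congr rfl
      intro u _
      rw [map_prod, map_prod]
      apply Finset.prod_congr rfl
      intro a _
      rw [rename_X]
      simp [betaInvW]
    · simp only [PsiMix, aeval_X, xMix]
      rw [gamma_sum_X_sub_one Finset.univ (fun b : Fin N => (Sum.inr (s, b) : Fin n₀ ⊕ α × Fin N)),
        esymm, map_sum, map_sum]
      apply Finset.sum_congr rfl
      intro u _
      rw [map_prod, map_prod]
      apply Finset.prod_congr rfl
      intro a _
      rw [rename_X]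
      simp [betaInvW]
  exact DFunLike.congr_fun this G

end Chi

section Div

attribute [local instance 100] lamW
attribute [local instance 2000] lamU

variable (α : Type u) [Finite α]

omit [Finite α] in
lemma gmon_bad_eq_zero {A : Type*} [CommRing A] [LambdaOps A] (x : Option α → A) (d : ℕ)
    (hx : ∀ k, d < k → gamma k (x none) = 0) (m : Option α × ℕ →₀ ℕ)
    (hm : ∃ i, d ≤ i ∧ m (none, i) ≠ 0) : gmon (Option α) x m = 0 := by
  obtain ⟨i, hi, hmi⟩ := hm
  rw [gmon, Finsupp.prod]
  apply Finset.prod_eq_zero (i := ((none : Option α), i)) (Finsupp.mem_support_iff.mpr hmi)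
  rw [hx (i + 1) (by omega)]
  exact zero_pow hmi

/-- monomials involving a `γ^k` of the distinguished generator with `k > d` -/
def bad (d : ℕ) (m : Option α × ℕ →₀ ℕ) : Prop := ∃ i, d ≤ i ∧ m (none, i) ≠ 0

open Classical in
/-- the part of `G` without bad monomials -/
noncomputable def goodPart (d : ℕ) (G : MvPolynomial (Option α × ℕ) ℤ) :
    MvPolynomial (Option α × ℕ) ℤ :=
  ∑ m ∈ G.support.filter (fun m => ¬ bad α d m), monomial m (coeff m G)

omit [Finite α] in
lemma goodPart_coeff (d : ℕ) (G : MvPolynomial (Option α × ℕ) ℤ) (m : Option α × ℕ →₀ ℕ)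
    (hm : coeff m (goodPart α d G) ≠ 0) : m ∈ G.support ∧ ¬ bad α d m := by
  classical
  rw [goodPart, coeff_sum] at hm
  obtain ⟨m', hm', hne⟩ := Finset.exists_ne_zero_of_sum_ne_zero hm
  rw [coeff_monomial] at hne
  split_ifs at hne with h
  · subst h
    exact Finset.mem_filter.mp hm'
  · exact absurd rfl hne

omit [Finite α] in
/-- evaluation of the split of `G` into bad part, multiple of the top class, and remainder -/
lemma eval_split (d : ℕ) (hd : 1 ≤ d) (G : MvPolynomial (Option α × ℕ) ℤ)
    {A : Type v} [CommRing A] [LambdaOps A] (x : Option α → A)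
    (hx : ∀ k, d < k → gamma k (x none) = 0) :
    aeval (fun p : Option α × ℕ => gamma (p.2 + 1) (x p.1)) G =
      gamma d (x none) * aeval (fun p : Option α × ℕ => gamma (p.2 + 1) (x p.1))
        ((goodPart α d G).divMonomial (Finsupp.single (none, d - 1) 1)) +
      aeval (fun p : Option α × ℕ => gamma (p.2 + 1) (x p.1))
        ((goodPart α d G).modMonomial (Finsupp.single (none, d - 1) 1)) := by
  classical
  set Gb := ∑ m ∈ G.support.filter (bad α d), monomial m (coeff m G) with hGb
  have hsum : Gb + goodPart α d G = G := by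
    rw [hGb, goodPart, Finset.sum_filter_add_sum_filter_not, support_sum_monomial_coeff]
  set sv : Option α × ℕ →₀ ℕ := Finsupp.single (none, d - 1) 1 with hsv
  have hdm : monomial sv 1 * (goodPart α d G).divMonomial sv + (goodPart α d G).modMonomial sv =
      goodPart α d G := divMonomial_add_modMonomial _ sv
  have h1 : aeval (fun p : Option α × ℕ => gamma (p.2 + 1) (x p.1)) Gb = 0 := by
    rw [hGb, map_sum]
    apply Finset.sum_eq_zero
    intro m hm
    rw [aeval_monomial_eq, gmon_bad_eq_zero α x d hx m (Finset.mem_filter.mp hm).2, smul_zero]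
  have h2 : aeval (fun p : Option α × ℕ => gamma (p.2 + 1) (x p.1)) (monomial sv (1 : ℤ)) =
      gamma d (x none) := by
    rw [aeval_monomial_eq, one_smul, gmon, hsv, Finsupp.prod_single_index (by simp), pow_one]
    simp only
    rw [Nat.sub_add_cancel hd]
  conv_lhs => rw [← hsum, map_add, ← hdm, map_add, map_mul, h1, h2, zero_add]

/-- **Division theorem.** A universal element of γ-order `≥ w` which dies in the models where the
distinguished generator has only `d - 1` variables is, after evaluation at a distinguished element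
with `γ^k = 0` for `k > d`, the product of `γ^d` of that element and a polynomial in the `γ`'s of
weight `≥ w - d`. -/
theorem div_thm (d : ℕ) (hd : 1 ≤ d) (T : MvPolynomial (Option α × ℕ) ℤ) (w : ℕ)
    (hw : ∀ N, PsiN' (Option α) N T ∈ IWn (Option α × Fin N) w)
    (hχ : ∀ N, chiN α (d - 1) N T = 0) :
    ∃ Q : MvPolynomial (Option α × ℕ) ℤ,
      (∀ m ∈ Q.support, w ≤ Finsupp.weight (wt (Option α)) m + d) ∧
      ∀ (A : Type v) [CommRing A] [LambdaOps A], IsSpecial A → ∀ (x : Option α → A),
        (∀ k, d < k → gamma k (x none) = 0) →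
        phi (Option α) x T = gamma d (x none) *
          aeval (fun p : Option α × ℕ => gamma (p.2 + 1) (x p.1)) Q := by
  classical
  obtain ⟨G, hG, hsupp⟩ := exists_weight_ge (Option α) T w hw
  set sv : Option α × ℕ →₀ ℕ := Finsupp.single (none, d - 1) 1 with hsv
  set Gg := goodPart α d G with hGg
  set Q := Gg.divMonomial sv with hQ
  set R := Gg.modMonomial sv with hR
  -- the remainder vanishes
  have hR0 : R = 0 := by
    apply VP_mix α (d - 1) R
    · intro m hm i hi
      rw [mem_support_iff] at hm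
      by_cases hle : sv ≤ m
      · exact absurd (coeff_modMonomial_of_le Gg hle) hm
      · rw [hR, coeff_modMonomial_of_not_le Gg hle] at hm
        have hnb := (goodPart_coeff α d G m hm).2
        by_cases hi' : i = d - 1
        · subst hi'
          by_contra hne
          apply hle
          rw [hsv, Finsupp.single_le_iff]
          exact Nat.one_le_iff_ne_zero.mpr hne
        · by_contra hne
          exact hnb ⟨i, by omega, hne⟩
    · intro N
      have hmodel : ∀ k, d < k → gamma k (xMix α (d - 1) N none) = 0 := fun k hk =>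
        gamma_xMix_none α (d - 1) N k (by omega)
      have h1 := eval_split α d hd G (xMix α (d - 1) N) hmodel
      rw [← phi_Theta (Option α) (isSpecial_W _), hG, ← chiN_apply, hχ N,
        gamma_xMix_none α (d - 1) N d (by omega), zero_mul, zero_add] at h1
      have h2 : chiN α (d - 1) N (Theta (Option α) R) = 0 := by
        rw [chiN_apply, phi_Theta (Option α) (isSpecial_W _)]
        exact h1.symm
      rw [chiN_Theta] at h2
      have h3 := congrArg (betaW _) h2
      rwa [betaW_betaInvW, map_zero] at h3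
  refine ⟨Q, ?_, ?_⟩
  · intro m hm
    rw [mem_support_iff, hQ, coeff_divMonomial] at hm
    have h1 := (goodPart_coeff α d G _ hm).1
    have h2 := hsupp _ h1
    rw [map_add, hsv, Finsupp.weight_single] at h2
    simp only [wt, smul_eq_mul, one_mul] at h2
    omega
  · intro A _ _ hA x hx
    rw [← hG, phi_Theta (Option α) hA, eval_split α d hd G x hx]
    change _ * (aeval _) Q + (aeval _) R = _
    rw [hR0, map_zero, add_zero]

end Div

section Apps

attribute [local instance 100] lamW
attribute [local instance 2000] lamU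

/-- the universal element `λ^p(x · γ^d(n))` -/
noncomputable def Tlam (d p : ℕ) : MvPolynomial (Option PUnit.{1} × ℕ) ℤ :=
  LambdaOps.lam p (X (some PUnit.unit, 0) * gamma d (X (none, 0)))

/-- `λ^p(x L)` is divisible by `L = ± γ^d(n')` when `γ^k(n') = 0` for `k > d`. -/
theorem dvd_lam_mul_top {K : Type v} [CommRing K] [LambdaOps K] (hK : IsSpecial K) (d : ℕ)
    (hd : 1 ≤ d) (n' : K) (hvan : ∀ k, d < k → gamma k n' = 0) (p : ℕ) (hp : 1 ≤ p)
    (σ : K) (hσσ : σ * σ = 1) (L : K) (hLg : gamma d n' = σ * L) (x : K) :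
    L ∣ LambdaOps.lam p (x * L) := by
  classical
  let xs : Option PUnit.{1} → K := fun o => match o with
    | none => n'
    | some _ => σ * x
  obtain ⟨Q, -, hQ⟩ := div_thm PUnit.{1} d hd (Tlam d p) 0
    (fun N => by rw [IWn_zero]; trivial) (fun N => by
      rw [Tlam, chiN_lam, map_mul, chiN_gamma, chiN_apply, chiN_apply, phi_X0, phi_X0,
        gamma_xMix_none _ _ _ _ (by omega), mul_zero, lam_zero_arg p hp])
  have := hQ K hK xs hvan
  rw [Tlam, phi_lam _ hK, map_mul, phi_gamma _ hK, phi_X0, phi_X0] at this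
  have h2 : xs (some PUnit.unit) * gamma d (xs none) = x * L := by
    show σ * x * gamma d n' = x * L
    rw [hLg]; linear_combination (x * L) * hσσ
  rw [h2] at this
  rw [this]
  show L ∣ gamma d n' * _
  rw [hLg]
  exact ⟨σ * aeval (fun p : Option PUnit.{1} × ℕ => gamma (p.2 + 1) (xs p.1)) Q, by ring⟩

end Apps

end Groth.Agent.Lib.H6xLamD
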