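import Mathlib
import Groth.Prelude.Def_LambdaSp
import Groth.Agent.Lib.H6xLamD
import Groth.Agent.Lib.H6xLamF
import Groth.Agent.Lib.Helper4LambdaInv
import Groth.Agent.Lib.Helper4LambdaAmple

/-!
# Division by the top γ-class inside the γ-filtration (helper6)
-/

set_option autoImplicit false
universe u v w
open MvPolynomial LambdaRing

namespace Groth.Agent.Lib.H6xLamG

open Groth.Agent.Lib.H6xLamW Groth.Agent.Lib.H6xLamU Groth.Agent.Lib.H6xLamE Groth.Agent.Lib.H6xLamT
open Groth.Agent.Lib.H6xLamD Groth.Agent.Lib.H6xLamF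
open Groth.Agent.Lib.Helper4 Groth.Agent.Lib.Helper4.LUniv Groth.Agent.Lib.Helper4.Newton

section Gmon

variable {A : Type v} [CommRing A] [LambdaOps A]

lemma gmon_add (S : Type u) (x : S → A) (a b : S × ℕ →₀ ℕ) :
    gmon S x (a + b) = gmon S x a * gmon S x b := by
  classical
  rw [gmon, gmon, gmon]
  exact Finsupp.prod_add_index' (fun _ => pow_zero _) (fun _ _ _ => pow_add _ _ _)

lemma gmon_single (S : Type u) (x : S → A) (p : S × ℕ) :
    gmon S x (Finsupp.single p 1) = gamma (p.2 + 1) (x p.1) := by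
  rw [gmon, Finsupp.prod_single_index (by simp), pow_one]

lemma gmon_mapDomain {S : Type u} {S' : Type w} (f : S → S') (hf : Function.Injective f)
    (x : S' → A) (m : S × ℕ →₀ ℕ) :
    gmon S' x (Finsupp.mapDomain (Prod.map f id) m) = gmon S (x ∘ f) m := by
  classical
  rw [gmon, gmon]
  rw [Finsupp.prod_mapDomain_index_inj (Function.Injective.prodMap hf Function.injective_id)]
  rfl

lemma weight_mapDomain {S : Type u} {S' : Type w} (f : S → S') (m : S × ℕ →₀ ℕ) :
    Finsupp.weight (wt S') (Finsupp.mapDomain (Prod.map f id) m) = Finsupp.weight (wt S) m := by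
  classical
  rw [Finsupp.weight_apply, Finsupp.weight_apply]
  rw [Finsupp.sum_mapDomain_index (fun _ => by simp) (fun _ _ _ => by simp [add_mul])]
  rfl

end Gmon

section DivFil

attribute [local instance 100] lamW
attribute [local instance 2000] lamU

variable {A : Type v} [CommRing A] [LambdaOps A] (hA : IsSpecial A)
  {J : ℕ → Ideal A} (hJ : IsMulFil J) (α : Type u) [Finite α]

include hA hJ in
/-- division theorem with control of the quotient in a multiplicative filtration -/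
theorem div_fil (d : ℕ) (hd : 1 ≤ d) (T : MvPolynomial (Option α × ℕ) ℤ) (w : ℕ)
    (hw : ∀ N, PsiN' (Option α) N T ∈ IWn (Option α × Fin N) w)
    (hχ : ∀ N, chiN α (d - 1) N T = 0)
    (x : Option α → A) (hxJ : ∀ s j, gamma (j + 1) (x s) ∈ J (j + 1))
    (hx : ∀ k, d < k → gamma k (x none) = 0) :
    ∃ q ∈ J (w - d), phi (Option α) x T = gamma d (x none) * q := by
  obtain ⟨Q, hQw, hQ⟩ := div_thm.{u, v} α d hd T w hw hχ
  refine ⟨aeval (fun p : Option α × ℕ => gamma (p.2 + 1) (x p.1)) Q, ?_, hQ A hA x hx⟩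
  rw [← support_sum_monomial_coeff Q, map_sum]
  refine Ideal.sum_mem _ fun m hm => ?_
  rw [aeval_monomial_eq, zsmul_eq_mul]
  refine Ideal.mul_mem_left _ _ (hJ.anti ?_ (gmon_mem hJ (Option α) x hxJ m))
  have := hQw m hm
  omega

include hA hJ in
/-- `γ^a` of a γ-monomial containing the top class is divisible by the top class -/
theorem gamma_gmon_top (d : ℕ) (hd : 1 ≤ d) (x : Option α → A)
    (hxJ : ∀ s j, gamma (j + 1) (x s) ∈ J (j + 1))
    (hx : ∀ k, d < k → gamma k (x none) = 0) (m : Option α × ℕ →₀ ℕ)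
    (hm : m (none, d - 1) ≠ 0) (a : ℕ) (ha : 1 ≤ a) :
    ∃ q ∈ J (max a (Finsupp.weight (wt (Option α)) m) - d),
      gamma a (gmon (Option α) x m) = gamma d (x none) * q := by
  have key := div_fil hA hJ α d hd (gamma a (Theta (Option α) (monomial m 1)))
    (max a (Finsupp.weight (wt (Option α)) m)) ?_ ?_ x hxJ hx
  · rwa [phi_gamma _ hA, phi_Theta_monomial _ hA] at key
  · intro N
    rw [PsiN'_gamma]
    have h1 := PsiN'_Theta_monomial_mem (Option α) N m 1
    rcases le_total a (Finsupp.weight (wt (Option α)) m) with h | h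
    · rw [max_eq_right h]
      exact gamma_mem_IWn _ h1 a ha
    · rw [max_eq_left h]
      refine gamma_mem_pow _ (IWn_anti _ ?_ h1) a
      have hw1 := Finsupp.le_weight_of_ne_zero' (wt (Option α)) hm
      simp only [wt] at hw1
      omega
  · intro N
    rw [chiN_gamma, chiN_apply, phi_Theta_monomial _ (isSpecial_W _),
      gmon_bad_eq_zero α _ (d - 1) (fun k hk => gamma_xMix_none α (d - 1) N k hk) m
        ⟨d - 1, le_rfl, hm⟩, gamma_zero_arg a ha]

include hA hJ in
/-- the Chern class congruence for a γ-monomial containing the top class, divided by the top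
class -/
theorem gamma_gmon_top_congr (d : ℕ) (hd : 1 ≤ d) (x : Option α → A)
    (hxJ : ∀ s j, gamma (j + 1) (x s) ∈ J (j + 1))
    (hx : ∀ k, d < k → gamma k (x none) = 0) (m : Option α × ℕ →₀ ℕ)
    (hm : m (none, d - 1) ≠ 0) (j : ℕ) (hj : j + 1 ≤ Finsupp.weight (wt (Option α)) m) :
    ∃ q ∈ J (j + 1 + 1 - d),
      gamma (j + 1) (gmon (Option α) x m) -
        ((-1 : ℤ) ^ j * (j.factorial : ℤ)) • gmon (Option α) x m = gamma d (x none) * q := by
  have key := div_fil hA hJ α d hd (gamma (j + 1) (Theta (Option α) (monomial m 1)) -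
      ((-1 : ℤ) ^ j * (j.factorial : ℤ)) • Theta (Option α) (monomial m 1))
    (j + 1 + 1) ?_ ?_ x hxJ hx
  · rwa [map_sub, phi_gamma _ hA, map_zsmul, phi_Theta_monomial _ hA] at key
  · intro N
    rw [map_sub, PsiN'_gamma, map_zsmul]
    exact gamma_congr _ j (IWn_anti _ hj (PsiN'_Theta_monomial_mem (Option α) N m 1))
  · intro N
    rw [map_sub, chiN_gamma, map_zsmul, chiN_apply, phi_Theta_monomial _ (isSpecial_W _),
      gmon_bad_eq_zero α _ (d - 1) (fun k hk => gamma_xMix_none α (d - 1) N k hk) m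
        ⟨d - 1, le_rfl, hm⟩, gamma_zero_arg (j + 1) (by omega), smul_zero, sub_zero]

end DivFil

section Series

variable {B : Type*} [CommRing B]

lemma coeff_mul_mem_left (I : Ideal B) {f : PowerSeries B}
    (hf : ∀ a, PowerSeries.coeff a f ∈ I) (g : PowerSeries B) (a : ℕ) :
    PowerSeries.coeff a (f * g) ∈ I := by
  rw [PowerSeries.coeff_mul]
  exact Ideal.sum_mem _ fun p _ => Ideal.mul_mem_right _ _ (hf p.1)

lemma coeff_pow_succ_mem (I : Ideal B) {f : PowerSeries B}
    (hf : ∀ a, PowerSeries.coeff a f ∈ I) (l a : ℕ) :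
    PowerSeries.coeff a (f ^ (l + 1)) ∈ I := by
  rw [pow_succ']
  exact coeff_mul_mem_left I hf _ a

variable {J : ℕ → Ideal B} (hJ : IsMulFil J)
include hJ

lemma goodSh_mul {d : ℕ} {L : B} (hL : L ∈ J d) {f g : PowerSeries B}
    (hf : ∀ a, PowerSeries.coeff a f ∈ J (a - d)) (hg : ∀ a, PowerSeries.coeff a g ∈ J (a - d))
    (a : ℕ) : PowerSeries.coeff a (PowerSeries.C L * f * g) ∈ J (a - d) := by
  rw [mul_assoc, PowerSeries.coeff_C_mul, PowerSeries.coeff_mul, Finset.mul_sum]
  refine Ideal.sum_mem _ fun p hp => ?_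
  have hp' : p.1 + p.2 = a := Finset.HasAntidiagonal.mem_antidiagonal.mp hp
  have := hJ.mul _ _ _ _ hL (hJ.mul _ _ _ _ (hf p.1) (hg p.2))
  exact hJ.anti (by omega) this

lemma goodSh_pow {d : ℕ} {L : B} (hL : L ∈ J d) {f : PowerSeries B}
    (hf : ∀ a, PowerSeries.coeff a f ∈ J (a - d)) (l a : ℕ) :
    L ^ l * PowerSeries.coeff a (f ^ (l + 1)) ∈ J (a - d) := by
  have key : ∀ l a, PowerSeries.coeff a (PowerSeries.C (L ^ l) * f ^ (l + 1)) ∈ J (a - d) := by
    intro l
    induction l with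
    | zero =>
      intro a
      rw [pow_zero, map_one, one_mul, zero_add, pow_one]
      exact hf a
    | succ l ih =>
      intro a
      have e : PowerSeries.C (L ^ (l + 1)) * f ^ (l + 1 + 1) =
          PowerSeries.C L * (PowerSeries.C (L ^ l) * f ^ (l + 1)) * f := by
        rw [pow_succ L, map_mul, pow_succ f (l + 1)]
        ring
      rw [e]
      exact goodSh_mul hJ hL ih hf a
  have := key l a
  rwa [PowerSeries.coeff_C_mul] at this

end Series

section PP

variable {K : Type u} [CommRing K] [LambdaOps K] [BinomialRing K] (hKb : IsBinomial K)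
  {A : Type v} [CommRing A] [LambdaOps A] [Algebra K A] (hA : IsSpecial A)
  (ε : A →ₐ[K] K) (hε : IsAugLambdaAlg K A ε)

/-- the predicate: `γ_t(z L) = 1 + L u` with `u` controlled in the γ-filtration -/
def PP (L : A) (i d : ℕ) (c : ℤ) (z : A) : Prop :=
  ∃ u : PowerSeries A, gammaSeries (z * L) = 1 + PowerSeries.C L * u ∧
    (∀ a, PowerSeries.coeff a u ∈ gammaFil ((ε : A →ₐ[K] K) : A →+* K) i) ∧
    (∀ a, PowerSeries.coeff a u ∈ gammaFil ((ε : A →ₐ[K] K) : A →+* K) (a - d)) ∧
    PowerSeries.coeff (d + i) u - c • z ∈ gammaFil ((ε : A →ₐ[K] K) : A →+* K) (i + 1)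

omit [LambdaOps K] [BinomialRing K] in
lemma PP_zero (L : A) (i d : ℕ) (c : ℤ) : PP ε L i d c 0 := by
  refine ⟨0, ?_, ?_, ?_, ?_⟩
  · rw [zero_mul, gammaSeries_zero, mul_zero, add_zero]
  · intro a; rw [map_zero]; exact Ideal.zero_mem _
  · intro a; rw [map_zero]; exact Ideal.zero_mem _
  · rw [map_zero, smul_zero, sub_zero]; exact Ideal.zero_mem _

omit [LambdaOps K] [BinomialRing K] in
lemma PP_add {L : A} {i d : ℕ} (hd : 1 ≤ d)
    (hL : L ∈ gammaFil ((ε : A →ₐ[K] K) : A →+* K) d) {c : ℤ} {z z' : A}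
    (hz : PP ε L i d c z) (hz' : PP ε L i d c z') : PP ε L i d c (z + z') := by
  obtain ⟨u, hu, hu1, hu2, hu3⟩ := hz
  obtain ⟨u', hu', hu1', hu2', hu3'⟩ := hz'
  have hF := isMulFil_gammaFil ((ε : A →ₐ[K] K) : A →+* K)
  refine ⟨u + u' + PowerSeries.C L * u * u', ?_, ?_, ?_, ?_⟩
  · rw [add_mul, gammaSeries_add, hu, hu']
    ring
  · intro a
    rw [map_add, map_add]
    refine Ideal.add_mem _ (Ideal.add_mem _ (hu1 a) (hu1' a)) ?_
    rw [mul_comm (PowerSeries.C L), mul_assoc]
    exact coeff_mul_mem_left _ hu1 _ a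
  · intro a
    rw [map_add, map_add]
    exact Ideal.add_mem _ (Ideal.add_mem _ (hu2 a) (hu2' a)) (goodSh_mul hF hL hu2 hu2' a)
  · have e : PowerSeries.coeff (d + i) (u + u' + PowerSeries.C L * u * u') - c • (z + z') =
        (PowerSeries.coeff (d + i) u - c • z) + (PowerSeries.coeff (d + i) u' - c • z') +
          PowerSeries.coeff (d + i) (PowerSeries.C L * u * u') := by
      rw [map_add, map_add, smul_add]; ring
    rw [e]
    refine Ideal.add_mem _ (Ideal.add_mem _ hu3 hu3') ?_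
    rw [mul_assoc, PowerSeries.coeff_C_mul, PowerSeries.coeff_mul, Finset.mul_sum]
    refine Ideal.sum_mem _ fun p _ => ?_
    have := hF.mul _ _ _ _ hL (hF.mul _ _ _ _ (hu1 p.1) (hu1' p.2))
    exact hF.anti (by omega) this

include hKb hA hε in
lemma PP_smul {L : A} {i d : ℕ} (hd : 1 ≤ d)
    (hL : L ∈ gammaFil ((ε : A →ₐ[K] K) : A →+* K) d) {c : ℤ} {z : A}
    (hz : PP ε L i d c z) (κ : K) : PP ε L i d c (κ • z) := by
  obtain ⟨u₀, hu, hu1, hu2, hu3⟩ := hz
  have hF := isMulFil_gammaFil ((ε : A →ₐ[K] K) : A →+* K)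
  set cκ : ℕ → A := fun l => algebraMap K A (Ring.choose κ l) with hcκ
  set u : PowerSeries A := PowerSeries.mk fun n =>
    ∑ l ∈ Finset.range n, cκ (l + 1) * (L ^ l * PowerSeries.coeff n (u₀ ^ (l + 1))) with hu_def
  have hv : gammaSeries (z * L) - 1 = PowerSeries.C L * u₀ := by rw [hu]; ring
  refine ⟨u, ?_, ?_, ?_, ?_⟩
  · apply PowerSeries.ext
    intro n
    have e1 : κ • z * L = (z * L) * algebraMap K A κ := by
      rw [Algebra.smul_def]; ring
    rw [e1, coeff_gammaSeries, gamma_smul hKb hA hε.isLambdaAlg, bs, hv]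
    rw [map_add, PowerSeries.coeff_C_mul, hu_def, PowerSeries.coeff_mk, Finset.sum_range_succ',
      pow_zero, Finset.mul_sum, add_comm (PowerSeries.coeff n (1 : PowerSeries A))]
    congr 1
    · apply Finset.sum_congr rfl
      intro l _
      rw [mul_pow, ← map_pow, PowerSeries.coeff_C_mul, pow_succ]
      ring
    · rw [PowerSeries.coeff_one]
      split_ifs with h
      · simp
      · rw [mul_zero]
  · intro a
    rw [hu_def, PowerSeries.coeff_mk]
    refine Ideal.sum_mem _ fun l _ => ?_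
    exact Ideal.mul_mem_left _ _ (Ideal.mul_mem_left _ _ (coeff_pow_succ_mem _ hu1 l a))
  · intro a
    rw [hu_def, PowerSeries.coeff_mk]
    refine Ideal.sum_mem _ fun l _ => ?_
    exact Ideal.mul_mem_left _ _ (goodSh_pow hF hL hu2 l a)
  · rw [hu_def, PowerSeries.coeff_mk]
    obtain ⟨j, hj⟩ : ∃ j, d + i = j + 1 := ⟨d + i - 1, by omega⟩
    rw [hj, Finset.sum_range_succ', zero_add, pow_zero, one_mul, pow_one, ← hj]
    have hc1 : cκ 1 = algebraMap K A κ := by simp [hcκ]
    have e : ∑ l ∈ Finset.range j, cκ (l + 1 + 1) *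
          (L ^ (l + 1) * PowerSeries.coeff (d + i) (u₀ ^ (l + 1 + 1))) +
        cκ 1 * PowerSeries.coeff (d + i) u₀ - c • (κ • z) =
        ∑ l ∈ Finset.range j, cκ (l + 1 + 1) *
          (L ^ (l + 1) * PowerSeries.coeff (d + i) (u₀ ^ (l + 1 + 1))) +
        algebraMap K A κ * (PowerSeries.coeff (d + i) u₀ - c • z) := by
      rw [hc1, Algebra.smul_def κ z]
      simp only [zsmul_eq_mul]
      ring
    rw [e]
    refine Ideal.add_mem _ (Ideal.sum_mem _ fun l _ => Ideal.mul_mem_left _ _ ?_)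
      (Ideal.mul_mem_left _ _ hu3)
    have h1 : L ^ (l + 1) ∈ gammaFil ((ε : A →ₐ[K] K) : A →+* K) d := by
      rw [pow_succ]
      exact Ideal.mul_mem_left _ _ hL
    have := hF.mul _ _ _ _ h1 (coeff_pow_succ_mem _ hu1 (l + 1) (d + i))
    exact hF.anti (by omega) this

end PP

section GenTop

attribute [local instance 100] lamW
attribute [local instance 2000] lamU

variable {K : Type u} [CommRing K] [LambdaOps K] [BinomialRing K] (hKb : IsBinomial K)
  {A : Type v} [CommRing A] [LambdaOps A] [Algebra K A] (hA : IsSpecial A)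
  (ε : A →ₐ[K] K) (hε : IsAugLambdaAlg K A ε)

omit [LambdaOps K] [BinomialRing K] in
/-- the monomial data attached to a generator times the top class -/
theorem gen_mul_top_data (d : ℕ) (hd : 1 ≤ d) (n' : A)
    (hn'ε : ((ε : A →ₐ[K] K) : A →+* K) n' = 0) (i : ℕ) {μ : A} (hμ : μ ∈ Gen ε i) :
    ∃ (r : ℕ) (xs : Option (Fin r) → A) (m : Option (Fin r) × ℕ →₀ ℕ),
      xs none = n' ∧
      (∀ s j, gamma (j + 1) (xs s) ∈ gammaFil ((ε : A →ₐ[K] K) : A →+* K) (j + 1)) ∧
      m (none, d - 1) ≠ 0 ∧ i + d ≤ Finsupp.weight (wt (Option (Fin r))) m ∧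
      gmon (Option (Fin r)) xs m = μ * gamma d n' := by
  classical
  obtain ⟨l, hl, hn, rfl⟩ := hμ
  obtain ⟨m, hm1, hm2⟩ := exists_gmon_of_list l
  let xs : Option (Fin l.length) → A := fun o => o.elim n' (fun j => (l[j.1]).2)
  refine ⟨l.length, xs, Finsupp.mapDomain (Prod.map some id) m + Finsupp.single (none, d - 1) 1,
    rfl, ?_, ?_, ?_, ?_⟩
  · intro s j
    apply gamma_mem_gammaFil
    rcases s with _ | s
    · exact hn'ε
    · exact hl _ (List.getElem_mem _)
  · rw [Finsupp.add_apply, Finsupp.single_eq_same]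
    omega
  · rw [map_add, weight_mapDomain, hm2, Finsupp.weight_single]
    simp only [wt, smul_eq_mul, one_mul]
    omega
  · rw [gmon_add, gmon_mapDomain some (Option.some_injective _), gmon_single]
    simp only
    rw [Nat.sub_add_cancel hd]
    have : xs ∘ some = fun j : Fin l.length => (l[j.1]).2 := rfl
    rw [this, hm1]
    rfl

include hA in
omit [LambdaOps K] [BinomialRing K] in
theorem PP_gen (d : ℕ) (hd : 1 ≤ d) (n' : A)
    (hn'ε : ((ε : A →ₐ[K] K) : A →+* K) n' = 0) (hn' : ∀ k, d < k → gamma k n' = 0)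
    (i j : ℕ) (hj : j + 1 = d + i) {μ : A} (hμ : μ ∈ Gen ε i) :
    PP ε (gamma d n') i d ((-1 : ℤ) ^ j * (j.factorial : ℤ)) μ := by
  classical
  set e : A →+* K := ((ε : A →ₐ[K] K) : A →+* K) with he
  have hF := isMulFil_gammaFil e
  obtain ⟨r, xs, m, hxs, hxsJ, hm0, hmw, hmμ⟩ := gen_mul_top_data ε d hd n' hn'ε i hμ
  have hx : ∀ k, d < k → gamma k (xs none) = 0 := by rw [hxs]; exact hn'
  have h1 : ∀ a, 1 ≤ a → ∃ q ∈ gammaFil e (max a (i + d) - d),
      gamma a (μ * gamma d n') = gamma d n' * q := by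
    intro a ha
    obtain ⟨q, hq, hq'⟩ := gamma_gmon_top hA hF (Fin r) d hd xs hxsJ hx m hm0 a ha
    rw [hmμ, hxs] at hq'
    exact ⟨q, hF.anti (by omega) hq, hq'⟩
  obtain ⟨q', hq', hq''⟩ := gamma_gmon_top_congr hA hF (Fin r) d hd xs hxsJ hx m hm0 j
    (by omega)
  rw [hmμ, hxs] at hq''
  choose! qf hqf hqf' using h1
  set c : ℤ := (-1 : ℤ) ^ j * (j.factorial : ℤ) with hc
  set u : PowerSeries A := PowerSeries.mk fun a =>
    if a = 0 then 0 else if a = d + i then q' + c • μ else qf a with hu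
  have hμF : μ ∈ gammaFil e i := gen_subset ε i hμ
  have hcμF : c • μ ∈ gammaFil e i := by
    rw [zsmul_eq_mul]; exact Ideal.mul_mem_left _ _ hμF
  have hq'i : q' ∈ gammaFil e (i + 1) := hF.anti (by omega) hq'
  refine ⟨u, ?_, ?_, ?_, ?_⟩
  · apply PowerSeries.ext
    intro a
    rw [coeff_gammaSeries, map_add, PowerSeries.coeff_C_mul, hu, PowerSeries.coeff_mk,
      PowerSeries.coeff_one]
    by_cases ha0 : a = 0
    · subst ha0
      simp [gamma]
    · rw [if_neg ha0, if_neg ha0, zero_add]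
      by_cases ha : a = d + i
      · rw [if_pos ha, ha, ← hj]
        have : gamma (j + 1) (μ * gamma d n') = gamma d n' * q' + c • (μ * gamma d n') := by
          rw [← hq'']; ring
        rw [this]
        simp only [zsmul_eq_mul]
        ring
      · rw [if_neg ha]
        exact hqf' a (by omega)
  · intro a
    rw [hu, PowerSeries.coeff_mk]
    split_ifs with h0 h1
    · exact Ideal.zero_mem _
    · exact Ideal.add_mem _ (hF.anti (by omega) hq'i) hcμF
    · exact hF.anti (by omega) (hqf a (by omega))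
  · intro a
    rw [hu, PowerSeries.coeff_mk]
    split_ifs with h0 h1
    · exact Ideal.zero_mem _
    · refine hF.anti (by omega) (Ideal.add_mem _ (hF.anti (Nat.le_succ i) hq'i)
        hcμF)
    · exact hF.anti (by omega) (hqf a (by omega))
  · rw [hu, PowerSeries.coeff_mk, if_neg (by omega), if_pos rfl, add_sub_cancel_right]
    exact hq'i

include hKb hA hε in
/-- **Main structure theorem**: for `z ∈ Fil^i`, `γ_t(z · γ^d(n')) = 1 + γ^d(n') u` with `u`
controlled. -/
theorem main_P (d : ℕ) (hd : 1 ≤ d) (n' : A)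
    (hn'ε : ((ε : A →ₐ[K] K) : A →+* K) n' = 0) (hn' : ∀ k, d < k → gamma k n' = 0)
    (i j : ℕ) (hj : j + 1 = d + i) {z : A}
    (hz : z ∈ gammaFil ((ε : A →ₐ[K] K) : A →+* K) i) :
    PP ε (gamma d n') i d ((-1 : ℤ) ^ j * (j.factorial : ℤ)) z := by
  have hL : gamma d n' ∈ gammaFil ((ε : A →ₐ[K] K) : A →+* K) d :=
    gamma_mem_gammaFil _ hn'ε d
  have key : ∀ z' ∈ Submodule.span K (Gen ε i),
      PP ε (gamma d n') i d ((-1 : ℤ) ^ j * (j.factorial : ℤ)) z' := by
    intro z' hz'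
    induction hz' using Submodule.span_induction with
    | mem μ hμ => exact PP_gen hA ε d hd n' hn'ε hn' i j hj hμ
    | zero => exact PP_zero ε _ _ _ _
    | add x y _ _ hx hy => exact PP_add ε hd hL hx hy
    | smul κ x _ hx => exact PP_smul hKb hA ε hε hd hL hx κ
  exact key z (mem_span_gen ε i hz)

end GenTop

section Rank

variable {K : Type u} [CommRing K] [LambdaOps K] [BinomialRing K] (hKb : IsBinomial K)
  {A : Type v} [CommRing A] [LambdaOps A] [Algebra K A] (hA : IsSpecial A)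
  (ε : A →ₐ[K] K) (hε : IsAugLambdaAlg K A ε)

include hKb hA hε in
/-- **Quotients by `λ_{-1}(N)`** for an element `N` of rank `d`: for `x ∈ Fil^i` the classes
`γ^p(x λ_{-1}(N))`, `p ≥ 1`, are `λ_{-1}(N)` times the coefficients of a series controlled in the
γ-filtration. -/
theorem top_quot (d : ℕ) (hd : 1 ≤ d) (N : A) (hN : ∀ k : ℕ, d < k → LambdaOps.lam k N = 0)
    (hNε : ε N = (d : K)) (i : ℕ) {x : A}
    (hx : x ∈ gammaFil ((ε : A →ₐ[K] K) : A →+* K) i) :
    ∃ u : PowerSeries A,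
      (∀ p, 1 ≤ p → gamma p (x * ∑ j ∈ Finset.range (d + 1), (-1 : A) ^ j * LambdaOps.lam j N) =
        (∑ j ∈ Finset.range (d + 1), (-1 : A) ^ j * LambdaOps.lam j N) * PowerSeries.coeff p u) ∧
      (∀ a, PowerSeries.coeff a u ∈ gammaFil ((ε : A →ₐ[K] K) : A →+* K) i) ∧
      (∀ a, PowerSeries.coeff a u ∈ gammaFil ((ε : A →ₐ[K] K) : A →+* K) (a - d)) ∧
      PowerSeries.coeff (d + i) u -
        ((-1 : ℤ) ^ (d + i - 1) * ((d + i - 1).factorial : ℤ)) • x ∈
          gammaFil ((ε : A →ₐ[K] K) : A →+* K) (i + 1) := by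
  set L : A := ∑ j ∈ Finset.range (d + 1), (-1 : A) ^ j * LambdaOps.lam j N with hL
  have h1 := hA.lam_one_eq_zero
  set σ : A := (-1 : A) ^ d with hσ
  have hσσ : σ * σ = 1 := by
    rw [hσ, ← pow_add, ← two_mul, pow_mul]
    simp
  set n' : A := N - (d : A) with hn'
  have hLg : gamma d n' = σ * L := gamma_top h1 N d hN
  have hvan : ∀ k, d < k → gamma k n' = 0 := fun k hk =>
    gamma_sub_natCast_eq_zero h1 N d hN k hk
  have hn'ε : ((ε : A →ₐ[K] K) : A →+* K) n' = 0 := by
    rw [hn', map_sub, map_natCast]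
    change ε N - (d : K) = 0
    rw [hNε, sub_self]
  have hz : σ * x ∈ gammaFil ((ε : A →ₐ[K] K) : A →+* K) i := Ideal.mul_mem_left _ _ hx
  obtain ⟨u₀, hu, hu1, hu2, hu3⟩ := main_P hKb hA ε hε d hd n' hn'ε hvan i (d + i - 1)
    (by omega) hz
  have hxL : σ * x * gamma d n' = x * L := by
    rw [hLg]; linear_combination (x * L) * hσσ
  rw [hxL] at hu
  clear_value σ
  refine ⟨PowerSeries.C σ * u₀, ?_, ?_, ?_, ?_⟩
  · intro p hp
    rw [← coeff_gammaSeries, hu, map_add, PowerSeries.coeff_one, if_neg (by omega), zero_add,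
      PowerSeries.coeff_C_mul, PowerSeries.coeff_C_mul, hLg]
    ring
  · intro a
    rw [PowerSeries.coeff_C_mul]
    exact Ideal.mul_mem_left _ _ (hu1 a)
  · intro a
    rw [PowerSeries.coeff_C_mul]
    exact Ideal.mul_mem_left _ _ (hu2 a)
  · have e : PowerSeries.coeff (d + i) (PowerSeries.C σ * u₀) -
        ((-1 : ℤ) ^ (d + i - 1) * ((d + i - 1).factorial : ℤ)) • x =
        σ * (PowerSeries.coeff (d + i) u₀ -
          ((-1 : ℤ) ^ (d + i - 1) * ((d + i - 1).factorial : ℤ)) • (σ * x)) := by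
      rw [PowerSeries.coeff_C_mul]
      simp only [zsmul_eq_mul]
      linear_combination ((((-1 : ℤ) ^ (d + i - 1) * ((d + i - 1).factorial : ℤ) : ℤ) : A) * x) *
        hσσ
    rw [e]
    exact Ideal.mul_mem_left _ _ hu3

end Rank

end Groth.Agent.Lib.H6xLamG
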