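import Groth.Prelude.Def_W4c1bouilletffgsL3
import Groth.Agent.Lib.Helper28FGDim
import Groth.Agent.Lib.Helper19RegPres
import Mathlib.RingTheory.RegularLocalRing.Polynomial
import Mathlib.RingTheory.Localization.AtPrime.Basic
import Mathlib.RingTheory.Localization.Ideal

/-!
# A smooth rational point on the component `V(J)` of the variety of Lie algebra structures (helper6)
-/

set_option autoImplicit false
universe u

open MvPolynomial

namespace Groth.Agent.Lib.H6xLie3Point

section Generic

variable {k : Type u} [Field k] {n : ℕ}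

theorem sub_C_eval_mem (pt : Fin n → k) (p : MvPolynomial (Fin n) k) :
    p - C (eval pt p) ∈ Ideal.span (Set.range fun i : Fin n => (X i - C (pt i) : MvPolynomial (Fin n) k)) := by
  induction p using MvPolynomial.induction_on with
  | C a => simp
  | add p q hp hq =>
    have : p + q - C (eval pt (p + q)) = (p - C (eval pt p)) + (q - C (eval pt q)) := by
      rw [map_add, C_add]; ring
    rw [this]
    exact Ideal.add_mem _ hp hq
  | mul_X p i hp =>
    have : p * X i - C (eval pt (p * X i)) =
        (p - C (eval pt p)) * X i + C (eval pt p) * (X i - C (pt i)) := by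
      rw [map_mul, eval_X, C_mul]; ring
    rw [this]
    exact Ideal.add_mem _ (Ideal.mul_mem_right _ _ hp)
      (Ideal.mul_mem_left _ _ (Ideal.subset_span ⟨i, rfl⟩))

theorem ker_eval_eq_span (pt : Fin n → k) :
    RingHom.ker (eval pt : MvPolynomial (Fin n) k →+* k) =
      Ideal.span (Set.range fun i : Fin n => (X i - C (pt i) : MvPolynomial (Fin n) k)) := by
  apply le_antisymm
  · intro p hp
    rw [RingHom.mem_ker] at hp
    have := sub_C_eval_mem pt p
    rwa [hp, C_0, sub_zero] at this
  · rw [Ideal.span_le]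
    rintro _ ⟨i, rfl⟩
    simp [RingHom.mem_ker]

theorem ker_eval_isMaximal (pt : Fin n → k) :
    (RingHom.ker (eval pt : MvPolynomial (Fin n) k →+* k)).IsMaximal :=
  RingHom.ker_isMaximal_of_surjective _ (fun a => ⟨C a, eval_C a⟩)

end Generic

section Point

open Lie3Mod

variable (k : Type u) [Field k] (t : k)

/-- The point `(0,1,0,0,0,t,0,0,0)`. -/
def pt : Fin 9 → k := ![0, 1, 0, 0, 0, t, 0, 0, 0]

/-- The maximal ideal of the point. -/
noncomputable def mPt : Ideal (D k) :=
  Ideal.span ({X 0, X 1 - 1, X 2, X 3, X 4, X 5 - C t, X 6, X 7, X 8} : Set (D k))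

theorem mPt_eq_ker : mPt k t = RingHom.ker (eval (pt k t) : D k →+* k) := by
  rw [ker_eval_eq_span]
  apply le_antisymm
  · rw [mPt, Ideal.span_le]
    intro x hx
    simp only [Set.mem_insert_iff, Set.mem_singleton_iff] at hx
    rcases hx with rfl | rfl | rfl | rfl | rfl | rfl | rfl | rfl | rfl
    · exact Ideal.subset_span ⟨0, by simp [pt]⟩
    · exact Ideal.subset_span ⟨1, by simp [pt]⟩
    · exact Ideal.subset_span ⟨2, by simp [pt]⟩
    · exact Ideal.subset_span ⟨3, by simp [pt]⟩
    · exact Ideal.subset_span ⟨4, by simp [pt]⟩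
    · exact Ideal.subset_span ⟨5, by simp [pt]⟩
    · exact Ideal.subset_span ⟨6, by simp [pt]⟩
    · exact Ideal.subset_span ⟨7, by simp [pt]⟩
    · exact Ideal.subset_span ⟨8, by simp [pt]⟩
  · rw [Ideal.span_le]
    rintro _ ⟨i, rfl⟩
    rw [mPt]
    fin_cases i
    · exact Ideal.subset_span (by simp [pt])
    · exact Ideal.subset_span (by simp [pt])
    · exact Ideal.subset_span (by simp [pt])
    · exact Ideal.subset_span (by simp [pt])
    · exact Ideal.subset_span (by simp [pt])
    · exact Ideal.subset_span (by simp [pt])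
    · exact Ideal.subset_span (by simp [pt])
    · exact Ideal.subset_span (by simp [pt])
    · exact Ideal.subset_span (by simp [pt])

instance mPt_isMaximal : (mPt k t).IsMaximal := by
  rw [mPt_eq_ker]; exact ker_eval_isMaximal _

theorem mem_mPt_iff (x : D k) : x ∈ mPt k t ↔ eval (pt k t) x = 0 := by
  rw [mPt_eq_ker, RingHom.mem_ker]

theorem idJ_le_mPt : idJ k ≤ mPt k t := by
  rw [idJ, Ideal.span_le]
  intro x hx
  simp only [Set.mem_insert_iff, Set.mem_singleton_iff] at hx
  rw [SetLike.mem_coe, mem_mPt_iff]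
  rcases hx with rfl | rfl | rfl | rfl
  · simp [Q1, pt]
  · simp [Q2, pt]
  · simp [Q3, pt]
  · simp [detM, pt]

end Point

section Local

open Lie3Mod

variable (k : Type u) [Field k] (t : k)

/-- The local ring of affine 9-space at the point. -/
abbrev Rloc : Type u := Localization.AtPrime (mPt k t)

/-- The localisation map. -/
noncomputable abbrev phi : D k →+* Rloc k t := algebraMap (D k) (Rloc k t)

theorem isUnit_phi {u : D k} (hu : eval (pt k t) u ≠ 0) : IsUnit (phi k t u) := by
  have : u ∈ (mPt k t).primeCompl := by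
    intro h
    exact hu ((mem_mPt_iff k t u).1 h)
  exact IsLocalization.map_units (Rloc k t) (⟨u, this⟩ : (mPt k t).primeCompl)

theorem ringKrullDim_Rloc : ringKrullDim (Rloc k t) = 9 := by
  rw [IsLocalization.AtPrime.ringKrullDim_eq_height (mPt k t) (Rloc k t),
    Groth.Agent.Lib.Helper28.height_eq_of_isMaximal_mvPolynomial_fin k 9 _ (mPt_isMaximal k t)]
  rfl

/-- The extension of `J` to the local ring. -/
noncomputable abbrev JR : Ideal (Rloc k t) := (idJ k).map (phi k t)

theorem JR_eq_span : JR k t = Ideal.span {phi k t (Q1 k), phi k t (Q2 k), phi k t (Q3 k), phi k t (detM k)} := by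
  rw [JR, idJ, Ideal.map_span]
  congr 1
  simp [Set.image_insert_eq]

theorem JR_le_maximalIdeal : JR k t ≤ IsLocalRing.maximalIdeal (Rloc k t) := by
  rw [← Localization.AtPrime.map_eq_maximalIdeal]
  exact Ideal.map_mono (idJ_le_mPt k t)

theorem cramer : (vb + vf : D k) * detM k =
    (ve * vc - vb * vf) * Q1 k + (vh * vc + vi * vf) * Q2 k + (-(vh * vb) - vi * ve) * Q3 k := by
  unfold detM Q1 Q2 Q3
  ring

theorem JR_spanFinrank_le : (JR k t).spanFinrank ≤ 3 := by
  have hQ1 : phi k t (Q1 k) ∈ JR k t := by
    rw [JR_eq_span]; exact Ideal.subset_span (by simp)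
  have hQ2 : phi k t (Q2 k) ∈ JR k t := by
    rw [JR_eq_span]; exact Ideal.subset_span (by simp)
  have hQ3 : phi k t (Q3 k) ∈ JR k t := by
    rw [JR_eq_span]; exact Ideal.subset_span (by simp)
  have hdet : phi k t (detM k) ∈ JR k t := by
    rw [JR_eq_span]; exact Ideal.subset_span (by simp)
  have hcr := congrArg (phi k t) (cramer k)
  simp only [map_add, map_mul, map_sub, map_neg] at hcr
  by_cases ht : 1 + t = 0
  · -- then `t ≠ 0`
    have ht0 : t ≠ 0 := by
      intro h0
      rw [h0, add_zero] at ht
      exact one_ne_zero ht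
    have hu : IsUnit (phi k t (ve * vc - vb * vf)) := isUnit_phi k t (by simp [pt, ht0])
    have hJ : JR k t = Ideal.span {phi k t (Q2 k), phi k t (Q3 k), phi k t (detM k)} := by
      apply le_antisymm
      · rw [JR_eq_span, Ideal.span_le]
        intro x hx
        simp only [Set.mem_insert_iff, Set.mem_singleton_iff] at hx
        rcases hx with rfl | rfl | rfl | rfl
        · rw [SetLike.mem_coe, ← Ideal.unit_mul_mem_iff_mem _ hu]
          have : phi k t (ve * vc - vb * vf) * phi k t (Q1 k) =
              (phi k t vb + phi k t vf) * phi k t (detM k) - (phi k t vh * phi k t vc + phi k t vi * phi k t vf) * phi k t (Q2 k)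
              - (-(phi k t vh * phi k t vb) - phi k t vi * phi k t ve) * phi k t (Q3 k) := by
            rw [map_sub, map_mul, map_mul, hcr]; ring
          rw [this]
          refine Ideal.sub_mem _ (Ideal.sub_mem _ ?_ ?_) ?_
          · exact Ideal.mul_mem_left _ _ (Ideal.subset_span (by simp))
          · exact Ideal.mul_mem_left _ _ (Ideal.subset_span (by simp))
          · exact Ideal.mul_mem_left _ _ (Ideal.subset_span (by simp))
        · exact Ideal.subset_span (by simp)
        · exact Ideal.subset_span (by simp)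
        · exact Ideal.subset_span (by simp)
      · rw [Ideal.span_le]
        intro x hx
        simp only [Set.mem_insert_iff, Set.mem_singleton_iff] at hx
        rcases hx with rfl | rfl | rfl
        · exact hQ2
        · exact hQ3
        · exact hdet
    rw [hJ]
    refine (Submodule.spanFinrank_span_le_ncard_of_finite (by simp)).trans ?_
    exact (Set.ncard_insert_le _ _).trans (Nat.succ_le_succ ((Set.ncard_insert_le _ _).trans (by simp)))
  · have hu : IsUnit (phi k t (vb + vf)) := isUnit_phi k t (by simpa [pt] using ht)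
    have hJ : JR k t = Ideal.span {phi k t (Q1 k), phi k t (Q2 k), phi k t (Q3 k)} := by
      apply le_antisymm
      · rw [JR_eq_span, Ideal.span_le]
        intro x hx
        simp only [Set.mem_insert_iff, Set.mem_singleton_iff] at hx
        rcases hx with rfl | rfl | rfl | rfl
        · exact Ideal.subset_span (by simp)
        · exact Ideal.subset_span (by simp)
        · exact Ideal.subset_span (by simp)
        · rw [SetLike.mem_coe, ← Ideal.unit_mul_mem_iff_mem _ hu, map_add, hcr]
          refine Ideal.add_mem _ (Ideal.add_mem _ ?_ ?_) ?_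
          · exact Ideal.mul_mem_left _ _ (Ideal.subset_span (by simp))
          · exact Ideal.mul_mem_left _ _ (Ideal.subset_span (by simp))
          · exact Ideal.mul_mem_left _ _ (Ideal.subset_span (by simp))
      · rw [Ideal.span_le]
        intro x hx
        simp only [Set.mem_insert_iff, Set.mem_singleton_iff] at hx
        rcases hx with rfl | rfl | rfl
        · exact hQ1
        · exact hQ2
        · exact hQ3
    rw [hJ]
    refine (Submodule.spanFinrank_span_le_ncard_of_finite (by simp)).trans ?_
    exact (Set.ncard_insert_le _ _).trans (Nat.succ_le_succ ((Set.ncard_insert_le _ _).trans (by simp)))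

end Local

section Quot

open Lie3Mod

variable (k : Type u) [Field k] (t : k)

/-- The six coordinates that generate the maximal ideal modulo `J`. -/
noncomputable def six : Set (Rloc k t) :=
  {phi k t (X 0), phi k t (X 1 - 1), phi k t (X 2), phi k t (X 4), phi k t (X 5 - C t), phi k t (X 7)}

theorem relD : (vb * vd : D k) = Q2 k + (vf * vh + (va - vi) * ve) := by
  unfold Q2; ring

theorem relI : (vb * vi : D k) = -Q3 k + ((vh + vd) * vc - vf * va) := by
  unfold Q3; ring

theorem relG1 : ((vf + vb) * vg : D k) = -Q1 k + (vh * va + vi * vd) := by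
  unfold Q1; ring

theorem relG2 : ((vb * vf - ve * vc) * vg : D k) =
    detM k + (vc * vh * vh - vi * vi * ve - vb * vi * vh + vi * vf * vh) := by
  unfold detM; ring

theorem maximalIdeal_le : IsLocalRing.maximalIdeal (Rloc k t) ≤ Ideal.span (six k t) ⊔ JR k t := by
  set K := Ideal.span (six k t) ⊔ JR k t with hK
  have hsix : ∀ x ∈ six k t, x ∈ K := fun x hx => Ideal.mem_sup_left (Ideal.subset_span hx)
  have hJ : ∀ x ∈ idJ k, phi k t x ∈ K := fun x hx =>
    Ideal.mem_sup_right (Ideal.mem_map_of_mem _ hx)
  have ha : phi k t va ∈ K := hsix _ (by simp [six])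
  have hb' : phi k t (vb - 1) ∈ K := hsix _ (by simp [six])
  have hc : phi k t vc ∈ K := hsix _ (by simp [six])
  have he : phi k t ve ∈ K := hsix _ (by simp [six])
  have hf' : phi k t (vf - C t) ∈ K := hsix _ (by simp [six])
  have hh : phi k t vh ∈ K := hsix _ (by simp [six])
  have hQ1 : phi k t (Q1 k) ∈ K := hJ _ (Ideal.subset_span (by simp))
  have hQ2 : phi k t (Q2 k) ∈ K := hJ _ (Ideal.subset_span (by simp))
  have hQ3 : phi k t (Q3 k) ∈ K := hJ _ (Ideal.subset_span (by simp))
  have hdet : phi k t (detM k) ∈ K := hJ _ (Ideal.subset_span (by simp))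
  have hub : IsUnit (phi k t vb) := isUnit_phi k t (by simp [pt])
  have hd : phi k t vd ∈ K := by
    rw [← Ideal.unit_mul_mem_iff_mem _ hub, ← map_mul, relD]
    simp only [map_add, map_mul, map_sub]
    exact K.add_mem hQ2 (K.add_mem (K.mul_mem_left _ hh) (K.mul_mem_left _ he))
  have hi : phi k t vi ∈ K := by
    rw [← Ideal.unit_mul_mem_iff_mem _ hub, ← map_mul, relI]
    simp only [map_add, map_mul, map_sub, map_neg]
    exact K.add_mem (K.neg_mem hQ3) (K.sub_mem (K.mul_mem_left _ hc) (K.mul_mem_left _ ha))
  have hg : phi k t vg ∈ K := by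
    by_cases ht : 1 + t = 0
    · have ht0 : t ≠ 0 := by
        intro h0
        rw [h0, add_zero] at ht
        exact one_ne_zero ht
      have hu : IsUnit (phi k t (vb * vf - ve * vc)) := isUnit_phi k t (by simp [pt, ht0])
      rw [← Ideal.unit_mul_mem_iff_mem _ hu, ← map_mul, relG2]
      simp only [map_add, map_mul, map_sub]
      refine K.add_mem hdet (K.add_mem (K.sub_mem (K.sub_mem ?_ ?_) ?_) ?_)
      · exact K.mul_mem_left _ hh
      · exact K.mul_mem_left _ he
      · exact K.mul_mem_left _ hh
      · exact K.mul_mem_left _ hh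
    · have hu : IsUnit (phi k t (vf + vb)) := isUnit_phi k t (by
        simp only [pt, map_add, eval_X]
        intro h
        apply ht
        rw [add_comm]
        simpa using h)
      rw [← Ideal.unit_mul_mem_iff_mem _ hu, ← map_mul, relG1]
      simp only [map_add, map_mul, map_neg]
      exact K.add_mem (K.neg_mem hQ1) (K.add_mem (K.mul_mem_left _ ha) (K.mul_mem_left _ hd))
  have hmap : Ideal.map (phi k t) (mPt k t) = Ideal.span ((phi k t) ''
      ({X 0, X 1 - 1, X 2, X 3, X 4, X 5 - C t, X 6, X 7, X 8} : Set (D k))) :=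
    Ideal.map_span (phi k t) _
  rw [← Localization.AtPrime.map_eq_maximalIdeal, hmap, Ideal.span_le]
  rintro _ ⟨x, hx, rfl⟩
  simp only [Set.mem_insert_iff, Set.mem_singleton_iff] at hx
  rcases hx with rfl | rfl | rfl | rfl | rfl | rfl | rfl | rfl | rfl
  · exact ha
  · exact hb'
  · exact hc
  · exact hd
  · exact he
  · exact hf'
  · exact hg
  · exact hh
  · exact hi

end Quot

section Final

open Lie3Mod

variable (k : Type u) [Field k] (t : k)

/-- The local ring of `V(J)` at the point, as a quotient of the local ring of affine space. -/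
abbrev Tloc : Type u := Rloc k t ⧸ JR k t

instance : IsLocalRing (Tloc k t) :=
  Groth.Agent.Lib.Helper19.isLocalRing_quot_of_le_maximalIdeal _ (JR_le_maximalIdeal k t)

theorem six_le_maximalIdeal : Ideal.span (six k t) ≤ IsLocalRing.maximalIdeal (Rloc k t) := by
  rw [Ideal.span_le, ← Localization.AtPrime.map_eq_maximalIdeal]
  intro x hx
  simp only [six, Set.mem_insert_iff, Set.mem_singleton_iff] at hx
  rcases hx with rfl | rfl | rfl | rfl | rfl | rfl <;>
    exact Ideal.mem_map_of_mem _ (Ideal.subset_span (by simp))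

theorem maximalIdeal_Tloc :
    IsLocalRing.maximalIdeal (Tloc k t) = Ideal.span ((Ideal.Quotient.mk (JR k t)) '' six k t) := by
  have h1 : IsLocalRing.maximalIdeal (Tloc k t) =
      (IsLocalRing.maximalIdeal (Rloc k t)).map (Ideal.Quotient.mk (JR k t)) := by
    apply le_antisymm
    · intro y hy
      obtain ⟨z, rfl⟩ := Ideal.Quotient.mk_surjective y
      refine Ideal.mem_map_of_mem _ ?_
      rw [IsLocalRing.mem_maximalIdeal] at hy ⊢
      exact fun hu => hy (hu.map _)
    · rw [Ideal.map_le_iff_le_comap]
      intro z hz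
      rw [Ideal.mem_comap, IsLocalRing.mem_maximalIdeal]
      intro hu
      obtain ⟨y, hy⟩ := hu.exists_right_inv
      obtain ⟨w, rfl⟩ := Ideal.Quotient.mk_surjective y
      have h1 : z * w - 1 ∈ JR k t := by
        rw [← Ideal.Quotient.eq_zero_iff_mem, map_sub, map_mul, hy, map_one, sub_self]
      have h2 : z * w - 1 ∈ IsLocalRing.maximalIdeal (Rloc k t) := JR_le_maximalIdeal k t h1
      have h3 : z * w ∈ IsLocalRing.maximalIdeal (Rloc k t) := Ideal.mul_mem_right _ _ hz
      have : (1 : Rloc k t) ∈ IsLocalRing.maximalIdeal (Rloc k t) := by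
        have := (IsLocalRing.maximalIdeal (Rloc k t)).sub_mem h3 h2
        simp at this
      exact (IsLocalRing.maximalIdeal.isMaximal (Rloc k t)).ne_top ((Ideal.eq_top_iff_one _).2 this)
  rw [h1, ← Ideal.map_span]
  apply le_antisymm
  · refine (Ideal.map_mono (maximalIdeal_le k t)).trans ?_
    rw [Ideal.map_sup, Ideal.map_quotient_self, sup_bot_eq]
  · exact Ideal.map_mono (six_le_maximalIdeal k t)

theorem spanFinrank_maximalIdeal_Tloc_le : (IsLocalRing.maximalIdeal (Tloc k t)).spanFinrank ≤ 6 := by
  rw [maximalIdeal_Tloc]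
  have hfin : (six k t).Finite := by simp [six]
  refine (Submodule.spanFinrank_span_le_ncard_of_finite (hfin.image _)).trans ?_
  refine (Set.ncard_image_le hfin).trans ?_
  unfold six
  refine (Set.ncard_insert_le _ _).trans (Nat.succ_le_succ ?_)
  refine (Set.ncard_insert_le _ _).trans (Nat.succ_le_succ ?_)
  refine (Set.ncard_insert_le _ _).trans (Nat.succ_le_succ ?_)
  refine (Set.ncard_insert_le _ _).trans (Nat.succ_le_succ ?_)
  refine (Set.ncard_insert_le _ _).trans (Nat.succ_le_succ ?_)
  simp

theorem isRegularLocalRing_Tloc :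
    IsRegularLocalRing (Tloc k t) ∧ ringKrullDim (Tloc k t) = 6 := by
  obtain ⟨d, hd⟩ := Groth.Agent.Lib.Helper19.exists_nat_ringKrullDim (Tloc k t)
  have h1 := ringKrullDim_le_ringKrullDim_quotient_add_spanFinrank (JR k t) (by
    rw [IsLocalRing.ringJacobson_eq_maximalIdeal]; exact JR_le_maximalIdeal k t)
  rw [ringKrullDim_Rloc, hd] at h1
  have h2 := JR_spanFinrank_le k t
  have h3 : (9 : ℕ) ≤ d + (JR k t).spanFinrank := by exact_mod_cast h1
  have h4 := ringKrullDim_le_spanFinrank_maximalIdeal (Tloc k t)
  rw [hd] at h4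
  have h5 : d ≤ (IsLocalRing.maximalIdeal (Tloc k t)).spanFinrank := by exact_mod_cast h4
  have h6 := spanFinrank_maximalIdeal_Tloc_le k t
  have hd6 : d = 6 := by omega
  constructor
  · apply IsRegularLocalRing.of_spanFinrank_maximalIdeal_le
    rw [hd, hd6]
    exact_mod_cast h6
  · rw [hd, hd6]; rfl

end Final

section Transfer

open Lie3Mod

variable (k : Type u) [Field k] (t : k)

theorem algebraMapSubmonoid_primeCompl_eq {B : Type*} [CommRing B] (P q : Ideal B) [q.IsPrime]
    (hPq : P ≤ q) [hq' : (q.map (Ideal.Quotient.mk P)).IsPrime] :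
    Algebra.algebraMapSubmonoid (B ⧸ P) q.primeCompl = (q.map (Ideal.Quotient.mk P)).primeCompl := by
  have hcm : (q.map (Ideal.Quotient.mk P)).comap (Ideal.Quotient.mk P) = q := by
    rw [Ideal.comap_map_of_surjective _ Ideal.Quotient.mk_surjective, ← RingHom.ker_eq_comap_bot,
      Ideal.mk_ker, sup_eq_left.mpr hPq]
  ext c
  constructor
  · rintro ⟨b, hb, rfl⟩
    intro hmem
    have : b ∈ (q.map (Ideal.Quotient.mk P)).comap (Ideal.Quotient.mk P) := hmem
    rw [hcm] at this
    exact hb this
  · intro hc
    obtain ⟨b, rfl⟩ := Ideal.Quotient.mk_surjective c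
    refine ⟨b, ?_, rfl⟩
    intro hbq
    exact hc (Ideal.mem_map_of_mem _ hbq)

theorem main (P : Ideal (D k ⧸ idJ k)) [P.IsPrime]
    (hP : P = Ideal.map (Ideal.Quotient.mk (idJ k)) (mPt k t)) :
    IsRegularLocalRing (Localization.AtPrime P) ∧ ringKrullDim (Localization.AtPrime P) = 6 := by
  subst hP
  have hloc : IsLocalization (Algebra.algebraMapSubmonoid (D k ⧸ idJ k) (mPt k t).primeCompl)
      (Tloc k t) := inferInstance
  rw [algebraMapSubmonoid_primeCompl_eq (idJ k) (mPt k t) (idJ_le_mPt k t)] at hloc
  haveI : IsLocalization.AtPrime (Tloc k t) (Ideal.map (Ideal.Quotient.mk (idJ k)) (mPt k t)) := hloc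
  let e := IsLocalization.algEquiv (Ideal.map (Ideal.Quotient.mk (idJ k)) (mPt k t)).primeCompl
    (Tloc k t) (Localization.AtPrime (Ideal.map (Ideal.Quotient.mk (idJ k)) (mPt k t)))
  obtain ⟨h1, h2⟩ := isRegularLocalRing_Tloc k t
  have e' : Tloc k t ≃+* Localization.AtPrime (Ideal.map (Ideal.Quotient.mk (idJ k)) (mPt k t)) :=
    e.toRingEquiv
  exact ⟨IsRegularLocalRing.of_ringEquiv (R := Tloc k t) e',
    (ringKrullDim_eq_of_ringEquiv (R := Tloc k t) e').symm.trans h2⟩

end Transfer

end Groth.Agent.Lib.H6xLie3Point
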