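import Mathlib
import Groth.Prelude.Def_CohCx

/-!
# Homology of a termwise limit of a tower of complexes of abelian groups (helper6)

Elementwise homology API for short complexes of abelian groups, and the tower lemma.
-/

set_option autoImplicit false
set_option backward.isDefEq.respectTransparency false

universe u

open CategoryTheory CategoryTheory.Limits

namespace Groth.Agent.Lib.H6xLimCx

section hmk

variable (S : ShortComplex Ab.{u})

/-- the homology class of a cycle. -/
noncomputable def hmk (x : S.X₂) (hx : S.g x = 0) : S.homology :=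
  S.abLeftHomologyData.homologyIso.inv (S.abLeftHomologyData.π ⟨x, hx⟩)

lemma hmk_surjective (h : S.homology) : ∃ (x : S.X₂) (hx : S.g x = 0), hmk S x hx = h := by
  have hπ : Function.Surjective S.abLeftHomologyData.π := by
    rw [← AddCommGrpCat.epi_iff_surjective]; infer_instance
  obtain ⟨c, hc⟩ := hπ (S.abLeftHomologyData.homologyIso.hom h)
  refine ⟨c.1, c.2, ?_⟩
  change S.abLeftHomologyData.homologyIso.inv (S.abLeftHomologyData.π c) = h
  rw [hc]
  exact congr($(S.abLeftHomologyData.homologyIso.hom_inv_id) h)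

lemma hmk_eq_zero_iff (x : S.X₂) (hx : S.g x = 0) :
    hmk S x hx = 0 ↔ ∃ z : S.X₁, S.f z = x := by
  have hinj : Function.Injective S.abLeftHomologyData.homologyIso.inv := by
    rw [← AddCommGrpCat.mono_iff_injective]; infer_instance
  have h0 : hmk S x hx = 0 ↔ S.abLeftHomologyData.π ⟨x, hx⟩ = 0 := by
    constructor
    · intro h
      apply hinj
      rw [map_zero]
      exact h
    · intro h
      change S.abLeftHomologyData.homologyIso.inv (S.abLeftHomologyData.π ⟨x, hx⟩) = 0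
      rw [h, map_zero]
  rw [h0]
  change (QuotientAddGroup.mk' (AddMonoidHom.range S.abToCycles)) ⟨x, hx⟩ = 0 ↔ _
  rw [QuotientAddGroup.mk'_apply, QuotientAddGroup.eq_zero_iff]
  constructor
  · rintro ⟨z, hz⟩
    exact ⟨z, congrArg Subtype.val hz⟩
  · rintro ⟨z, hz⟩
    exact ⟨z, Subtype.ext hz⟩

/-- `hmk` as an additive map on cycles. -/
noncomputable def hmkHom : AddMonoidHom.ker S.g.hom →+ S.homology :=
  (S.abLeftHomologyData.homologyIso.inv.hom).comp S.abLeftHomologyData.π.hom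

lemma hmkHom_apply (c : AddMonoidHom.ker S.g.hom) : hmkHom S c = hmk S c.1 c.2 := rfl

lemma hmk_sub (x y : S.X₂) (hx : S.g x = 0) (hy : S.g y = 0) :
    hmk S (x - y) (by rw [map_sub, hx, hy, sub_zero]) = hmk S x hx - hmk S y hy := by
  have h := map_sub (hmkHom S) ⟨x, hx⟩ ⟨y, hy⟩
  exact h

lemma hmk_congr {x y : S.X₂} (h : x = y) (hx : S.g x = 0) :
    hmk S x hx = hmk S y (h ▸ hx) := by
  subst h; rfl

lemma hmk_eq_iff (x y : S.X₂) (hx : S.g x = 0) (hy : S.g y = 0) :
    hmk S x hx = hmk S y hy ↔ ∃ z : S.X₁, S.f z = x - y := by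
  rw [← sub_eq_zero, ← hmk_sub, hmk_eq_zero_iff]

variable {S}

lemma homologyMap_hmk {S' : ShortComplex Ab.{u}} (φ : S ⟶ S') (x : S.X₂) (hx : S.g x = 0) :
    ShortComplex.homologyMap φ (hmk S x hx) =
      hmk S' (φ.τ₂ x) (by
        have := congr($(φ.comm₂₃) x)
        change S'.g (φ.τ₂ x) = φ.τ₃ (S.g x) at this
        rw [this, hx, map_zero]) := by
  let h₁ := S.abLeftHomologyData
  let h₂ := S'.abLeftHomologyData
  let γ : ShortComplex.LeftHomologyMapData φ h₁ h₂ := default
  have hi₂ : Function.Injective h₂.i := by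
    rw [← AddCommGrpCat.mono_iff_injective]; infer_instance
  have hK : ∀ c : h₁.K, h₂.i (γ.φK c) = φ.τ₂ (h₁.i c) := fun c => congr($(γ.commi) c)
  have hH : ∀ c : h₁.K, γ.φH (h₁.π c) = h₂.π (γ.φK c) := fun c => congr($(γ.commπ) c)
  have e1 : ShortComplex.homologyMap φ = h₁.homologyIso.hom ≫ γ.φH ≫ h₂.homologyIso.inv :=
    γ.homologyMap_eq
  rw [e1]
  change h₂.homologyIso.inv (γ.φH (h₁.homologyIso.hom (h₁.homologyIso.inv (h₁.π ⟨x, hx⟩)))) =
    h₂.homologyIso.inv (h₂.π ⟨φ.τ₂ x, _⟩)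
  have e2 : h₁.homologyIso.hom (h₁.homologyIso.inv (h₁.π ⟨x, hx⟩)) = h₁.π ⟨x, hx⟩ :=
    congr($(h₁.homologyIso.inv_hom_id) (h₁.π ⟨x, hx⟩))
  rw [e2, hH]
  congr 2

end hmk

end Groth.Agent.Lib.H6xLimCx
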