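import Mathlib
import Groth.Prelude.Def_CohCx
import Groth.Agent.Lib.H6xLimCxA

/-!
# The tower lemma for short complexes of abelian groups (helper6)
-/

set_option autoImplicit false

universe u

open CategoryTheory CategoryTheory.Limits Opposite

namespace Groth.Agent.Lib.H6xLimCx

section EC

variable {A : ℕ → Type u} (t : ∀ n, A (n + 1) → A n)

/-- an eventually bijective tower of types has sections through any point. -/
lemma exists_section_of_eventually_bijective (n₀ : ℕ)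
    (hbij : ∀ n, n₀ ≤ n → Function.Bijective (t n)) (h : A n₀) :
    ∃ η : ∀ n, A n, (∀ n, t n (η (n + 1)) = η n) ∧ η n₀ = h := by
  let D : ℕᵒᵖ ⥤ Type u := Functor.ofOpSequence (X := A) (fun n => TypeCat.ofHom (t n))
  have hD : D.IsEventuallyConstantTo (op n₀) := by
    rintro ⟨n⟩ f
    have hle : n₀ ≤ n := leOfHom f.unop
    obtain rfl : f = (homOfLE hle).op := Subsingleton.elim _ _
    induction n, hle using Nat.le_induction with
    | base =>
      have : (homOfLE (le_refl n₀)).op = 𝟙 (op n₀) := Subsingleton.elim _ _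
      rw [this, D.map_id]
      infer_instance
    | succ n hn ih =>
      have e : (homOfLE (hn.trans (Nat.le_succ n))).op =
          (homOfLE (Nat.le_add_right n 1)).op ≫ (homOfLE hn).op := Subsingleton.elim _ _
      rw [e, D.map_comp]
      haveI := ih
      haveI : IsIso (D.map (homOfLE (Nat.le_add_right n 1)).op) := by
        rw [Functor.ofOpSequence_map_homOfLE_succ]
        exact (isIso_iff_bijective _).2 (hbij n hn)
      infer_instance
  have hiso := hD.isIso_π_of_isLimit (Types.limitConeIsLimit D)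
  have hb := (isIso_iff_bijective _).1 hiso
  obtain ⟨s, hs⟩ := hb.2 h
  refine ⟨fun n => s.1 (op n), fun n => ?_, hs⟩
  have := s.2 (homOfLE (Nat.le_add_right n 1)).op
  rw [Functor.ofOpSequence_map_homOfLE_succ] at this
  exact this

end EC

section ECzero

variable {A : ℕ → Type u} [∀ n, AddCommGroup (A n)] (t : ∀ n, A (n + 1) →+ A n)

lemma eq_zero_of_eventually_injective (n₀ : ℕ)
    (hinj : ∀ n, n₀ ≤ n → Function.Injective (t n)) (η : ∀ n, A n)
    (hη : ∀ n, t n (η (n + 1)) = η n) (h0 : η n₀ = 0) : ∀ n, η n = 0 := by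
  intro n
  rcases le_total n₀ n with hle | hle
  · induction n, hle using Nat.le_induction with
    | base => exact h0
    | succ n hn ih =>
      apply hinj n hn
      rw [hη, ih, map_zero]
  · exact Nat.decreasingInduction (motive := fun k _ => η k = 0)
      (fun k _ ih => by rw [← hη k, ih, map_zero]) h0 hle

end ECzero

end Groth.Agent.Lib.H6xLimCx

namespace Groth.Agent.Lib.H6xLimCx

section TA

variable (R : ℕ → ShortComplex Ab.{u}) (ρ : ∀ n, R (n + 1) ⟶ R n)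

lemma comm12 {S S' : ShortComplex Ab.{u}} (φ : S ⟶ S') (x : S.X₁) :
    S'.f (φ.τ₁ x) = φ.τ₂ (S.f x) := congr($(φ.comm₁₂) x)

lemma comm23 {S S' : ShortComplex Ab.{u}} (φ : S ⟶ S') (x : S.X₂) :
    S'.g (φ.τ₂ x) = φ.τ₃ (S.g x) := congr($(φ.comm₂₃) x)

lemma g_f {S : ShortComplex Ab.{u}} (x : S.X₁) : S.g (S.f x) = 0 := S.ab_zero_apply x

lemma g_τ₂_eq_zero {S S' : ShortComplex Ab.{u}} (φ : S ⟶ S') (x : S.X₂) (hx : S.g x = 0) :
    S'.g (φ.τ₂ x) = 0 := by rw [comm23, hx, map_zero]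

/-- `R¹lim` of the cycles vanishes if it does for the first terms and for homology. -/
theorem tower_cycles_limOne
    (h1 : CohCx.LimOneIsZero (fun n => (R n).X₁) (fun n => (ρ n).τ₁.hom))
    (hH : CohCx.LimOneIsZero (fun n => (R n).homology)
      (fun n => (ShortComplex.homologyMap (ρ n)).hom))
    (v : ∀ n, (R n).X₂) (hv : ∀ n, (R n).g (v n) = 0) :
    ∃ u : ∀ n, (R n).X₂, (∀ n, (R n).g (u n) = 0) ∧
      ∀ n, v n = u n - (ρ n).τ₂ (u (n + 1)) := by
  obtain ⟨η, hη⟩ := hH (fun n => hmk (R n) (v n) (hv n))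
  choose y hy hyη using fun n => hmk_surjective (R n) (η n)
  have hη' : ∀ n, hmk (R n) (y n) (hy n) -
      ShortComplex.homologyMap (ρ n) (hmk (R (n + 1)) (y (n + 1)) (hy (n + 1))) =
        hmk (R n) (v n) (hv n) := by
    intro n
    rw [hyη, hyη]
    exact congrFun hη n
  have hex : ∀ n, ∃ a : (R n).X₁, (R n).f a = v n - (y n - (ρ n).τ₂ (y (n + 1))) := by
    intro n
    have h2 := hη' n
    rw [homologyMap_hmk, ← hmk_sub] at h2
    exact (hmk_eq_iff (R n) _ _ (hv n) _).1 h2.symm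
  choose a ha using hex
  obtain ⟨w, hw⟩ := h1 a
  have hw' : ∀ n, w n - (ρ n).τ₁ (w (n + 1)) = a n := fun n => congrFun hw n
  refine ⟨fun n => y n + (R n).f (w n), fun n => ?_, fun n => ?_⟩
  · rw [map_add, hy, g_f, add_zero]
  · have e1 : (R n).f (a n) = (R n).f (w n) - (ρ n).τ₂ ((R (n + 1)).f (w (n + 1))) := by
      rw [← hw' n, map_sub, comm12]
    have e2 := ha n
    rw [e1] at e2
    change v n = y n + (R n).f (w n) - (ρ n).τ₂ (y (n + 1) + (R (n + 1)).f (w (n + 1)))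
    rw [map_add]
    have e3 : (R n).f (w n) = v n - (y n - (ρ n).τ₂ (y (n + 1))) +
        (ρ n).τ₂ ((R (n + 1)).f (w (n + 1))) := sub_eq_iff_eq_add.1 e2
    rw [e3]
    abel

end TA

end Groth.Agent.Lib.H6xLimCx

namespace Groth.Agent.Lib.H6xLimCx

section TB

variable (S : ℕ → ShortComplex Ab.{u}) (τ : ∀ n, S (n + 1) ⟶ S n)
  (L : ShortComplex Ab.{u}) (p : ∀ n, L ⟶ S n) (hp : ∀ n, p (n + 1) ≫ τ n = p n)

include hp in
lemma hp₁ (n : ℕ) (x : L.X₁) : (τ n).τ₁ ((p (n + 1)).τ₁ x) = (p n).τ₁ x := by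
  rw [← hp n]; rfl

include hp in
lemma hp₂ (n : ℕ) (x : L.X₂) : (τ n).τ₂ ((p (n + 1)).τ₂ x) = (p n).τ₂ x := by
  rw [← hp n]; rfl

include hp in
lemma hpH (n : ℕ) (c : L.homology) :
    ShortComplex.homologyMap (τ n) (ShortComplex.homologyMap (p (n + 1)) c) =
      ShortComplex.homologyMap (p n) c := by
  rw [← hp n, ShortComplex.homologyMap_comp]; rfl

include hp in
theorem exists_class
    (hL₂ : ∀ x : ∀ n, (S n).X₂, (∀ n, (τ n).τ₂ (x (n + 1)) = x n) →
      ∃ y : L.X₂, ∀ n, (p n).τ₂ y = x n)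
    (hL₃' : ∀ y : L.X₃, (∀ n, (p n).τ₃ y = 0) → y = 0)
    (h1 : CohCx.LimOneIsZero (fun n => (S n).X₁) (fun n => (τ n).τ₁.hom))
    (η : ∀ n, (S n).homology)
    (hη : ∀ n, ShortComplex.homologyMap (τ n) (η (n + 1)) = η n) :
    ∃ c : L.homology, ∀ n, ShortComplex.homologyMap (p n) c = η n := by
  choose z hz hzη using fun n => hmk_surjective (S n) (η n)
  have hex : ∀ n, ∃ b : (S n).X₁, (S n).f b = z n - (τ n).τ₂ (z (n + 1)) := by
    intro n
    have h2 := hη n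
    rw [← hzη, ← hzη, homologyMap_hmk] at h2
    exact (hmk_eq_iff (S n) _ _ (hz n) _).1 h2.symm
  choose b hb using hex
  obtain ⟨y, hy⟩ := h1 b
  have hy' : ∀ n, y n - (τ n).τ₁ (y (n + 1)) = b n := fun n => congrFun hy n
  have hcompat : ∀ n, (τ n).τ₂ (z (n + 1) - (S (n + 1)).f (y (n + 1))) = z n - (S n).f (y n) := by
    intro n
    have e1 : (S n).f (b n) = (S n).f (y n) - (τ n).τ₂ ((S (n + 1)).f (y (n + 1))) := by
      rw [← hy' n, map_sub, comm12]
    have e2 := hb n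
    rw [e1] at e2
    rw [map_sub]
    have e3 : (S n).f (y n) = z n - (τ n).τ₂ (z (n + 1)) +
        (τ n).τ₂ ((S (n + 1)).f (y (n + 1))) := sub_eq_iff_eq_add.1 e2
    rw [e3]
    abel
  obtain ⟨zz, hzz⟩ := hL₂ (fun n => z n - (S n).f (y n)) hcompat
  have hgz' : ∀ n, (S n).g (z n - (S n).f (y n)) = 0 := by
    intro n
    rw [map_sub, hz, g_f, sub_zero]
  have hgzz : L.g zz = 0 := by
    apply hL₃'
    intro n
    rw [← comm23, hzz, hgz']
  refine ⟨hmk L zz hgzz, fun n => ?_⟩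
  rw [homologyMap_hmk, ← hzη]
  rw [hmk_eq_iff]
  refine ⟨- y n, ?_⟩
  rw [hzz n, map_neg]
  abel

include hp in
theorem class_eq_zero
    (hL₁ : ∀ x : ∀ n, (S n).X₁, (∀ n, (τ n).τ₁ (x (n + 1)) = x n) →
      ∃ y : L.X₁, ∀ n, (p n).τ₁ y = x n)
    (hL₂' : ∀ y : L.X₂, (∀ n, (p n).τ₂ y = 0) → y = 0)
    (hZ : ∀ v : ∀ n, (S n).X₁, (∀ n, (S n).f (v n) = 0) →
      ∃ u : ∀ n, (S n).X₁, (∀ n, (S n).f (u n) = 0) ∧
        ∀ n, v n = u n - (τ n).τ₁ (u (n + 1)))
    (c : L.homology) (hc : ∀ n, ShortComplex.homologyMap (p n) c = 0) : c = 0 := by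
  obtain ⟨z, hz, rfl⟩ := hmk_surjective L c
  have hex : ∀ n, ∃ b : (S n).X₁, (S n).f b = (p n).τ₂ z := by
    intro n
    have h2 := hc n
    rw [homologyMap_hmk] at h2
    exact (hmk_eq_zero_iff (S n) _ _).1 h2
  choose b hb using hex
  obtain ⟨u, hu0, hu⟩ := hZ (fun n => b n - (τ n).τ₁ (b (n + 1))) (fun n => by
    rw [map_sub, comm12, hb, hb, hp₂ S τ L p hp, sub_self])
  have hcompat : ∀ n, (τ n).τ₁ (b (n + 1) - u (n + 1)) = b n - u n := by
    intro n
    rw [map_sub]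
    have := hu n
    rw [sub_eq_iff_eq_add] at this
    rw [this]
    abel
  obtain ⟨bb, hbb⟩ := hL₁ (fun n => b n - u n) hcompat
  rw [hmk_eq_zero_iff]
  refine ⟨bb, ?_⟩
  rw [← sub_eq_zero]
  apply hL₂'
  intro n
  rw [map_sub, ← comm12, hbb n, map_sub, hb, hu0, sub_zero, sub_self]

include hp in
theorem isIso_homologyMap_of_tower
    (hL₁ : ∀ x : ∀ n, (S n).X₁, (∀ n, (τ n).τ₁ (x (n + 1)) = x n) →
      ∃ y : L.X₁, ∀ n, (p n).τ₁ y = x n)
    (hL₂ : ∀ x : ∀ n, (S n).X₂, (∀ n, (τ n).τ₂ (x (n + 1)) = x n) →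
      ∃ y : L.X₂, ∀ n, (p n).τ₂ y = x n)
    (hL₂' : ∀ y : L.X₂, (∀ n, (p n).τ₂ y = 0) → y = 0)
    (hL₃' : ∀ y : L.X₃, (∀ n, (p n).τ₃ y = 0) → y = 0)
    (h1 : CohCx.LimOneIsZero (fun n => (S n).X₁) (fun n => (τ n).τ₁.hom))
    (hZ : ∀ v : ∀ n, (S n).X₁, (∀ n, (S n).f (v n) = 0) →
      ∃ u : ∀ n, (S n).X₁, (∀ n, (S n).f (u n) = 0) ∧
        ∀ n, v n = u n - (τ n).τ₁ (u (n + 1)))
    (n₀ : ℕ) (hc : ∀ n, n₀ ≤ n → IsIso (ShortComplex.homologyMap (τ n))) :
    IsIso (ShortComplex.homologyMap (p n₀)) := by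
  have hbij : ∀ n, n₀ ≤ n → Function.Bijective (ShortComplex.homologyMap (τ n)) := by
    intro n hn
    haveI := hc n hn
    exact ConcreteCategory.bijective_of_isIso _
  rw [ConcreteCategory.isIso_iff_bijective]
  constructor
  · rw [injective_iff_map_eq_zero]
    intro c hc0
    apply class_eq_zero S τ L p hp hL₁ hL₂' hZ c
    exact eq_zero_of_eventually_injective
      (fun n => (ShortComplex.homologyMap (τ n)).hom) n₀ (fun n hn => (hbij n hn).1)
      (fun n => ShortComplex.homologyMap (p n) c) (fun n => hpH S τ L p hp n c) hc0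
  · intro h
    obtain ⟨η, hη, hη0⟩ := exists_section_of_eventually_bijective
      (A := fun n => (S n).homology) (fun n => ShortComplex.homologyMap (τ n)) n₀ hbij h
    obtain ⟨c, hc⟩ := exists_class S τ L p hp hL₂ hL₃' h1 η hη
    exact ⟨c, (hc n₀).trans hη0⟩

end TB

end Groth.Agent.Lib.H6xLimCx
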