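import Mathlib
import Groth.Prelude.Def_CohCx
import Groth.Agent.Lib.H6xLimCxB

/-!
# The tower lemma for cochain complexes of abelian groups (helper6)
-/

set_option autoImplicit false

universe u

open CategoryTheory CategoryTheory.Limits Opposite HomologicalComplex

namespace Groth.Agent.Lib.H6xLimCx

theorem limOneIsZero_of_equiv' {A A' : ℕ → Type u} [∀ n, AddCommGroup (A n)]
    [∀ n, AddCommGroup (A' n)] (t : ∀ n, A (n + 1) →+ A n) (t' : ∀ n, A' (n + 1) →+ A' n)
    (e : ∀ n, A n ≃+ A' n) (he : ∀ n x, e n (t n x) = t' n (e (n + 1) x))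
    (h : CohCx.LimOneIsZero A' t') : CohCx.LimOneIsZero A t := by
  intro b
  obtain ⟨a', ha'⟩ := h (fun n => e n (b n))
  refine ⟨fun n => (e n).symm (a' n), ?_⟩
  funext n
  apply (e n).injective
  have := congrFun ha' n
  dsimp only at this ⊢
  rw [map_sub, he, AddEquiv.apply_symm_apply, AddEquiv.apply_symm_apply]
  exact this

section

variable (Kn : ℕ → CochainComplex Ab.{u} ℤ) (tn : ∀ n, Kn (n + 1) ⟶ Kn n)
  (K : CochainComplex Ab.{u} ℤ) (p : ∀ n, K ⟶ Kn n) (hp : ∀ n, p (n + 1) ≫ tn n = p n)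

lemma isIso_homologyMap_step (m : ℤ) (n₀ : ℕ)
    (hc : ∀ k, IsIso (homologyMap (CohCx.transition Kn tn n₀ k) m)) (n : ℕ) (hn : n₀ ≤ n) :
    IsIso (homologyMap (tn n) m) := by
  obtain ⟨k, rfl⟩ := Nat.exists_eq_add_of_le hn
  have h1 := hc (k + 1)
  have h2 := hc k
  have e : CohCx.transition Kn tn n₀ (k + 1) = tn (n₀ + k) ≫ CohCx.transition Kn tn n₀ k := rfl
  rw [e, homologyMap_comp] at h1
  exact IsIso.of_isIso_comp_right _ (homologyMap (CohCx.transition Kn tn n₀ k) m)

include hp in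
theorem isIso_homologyMap_of_tower_cx (m : ℤ)
    (hlim : ∀ j : ℤ, ∀ x : ∀ n, (Kn n).X j, (∀ n, (tn n).f j (x (n + 1)) = x n) →
      ∃! y : K.X j, ∀ n, (p n).f j y = x n)
    (ha : ∀ j : ℤ, (j = m - 2 ∨ j = m - 1) →
      CohCx.LimOneIsZero (fun n => (Kn n).X j) (fun n => ((tn n).f j).hom))
    (hb : CohCx.LimOneIsZero (fun n => (Kn n).homology (m - 1))
      (fun n => (homologyMap (tn n) (m - 1)).hom))
    (n₀ : ℕ) (hc : ∀ k, IsIso (homologyMap (CohCx.transition Kn tn n₀ k) m)) :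
    IsIso (homologyMap (p n₀) m) := by
  have hsep : ∀ j : ℤ, ∀ y : K.X j, (∀ n, (p n).f j y = 0) → y = 0 := by
    intro j y hy
    obtain ⟨y', _, hy'⟩ := hlim j (fun _ => 0) (fun n => map_zero _)
    rw [hy' y hy, hy' 0 (fun n => map_zero _)]
  -- the short complexes
  let F₁ := shortComplexFunctor' Ab.{u} (ComplexShape.up ℤ) (m - 1) m (m + 1)
  let F₀ := shortComplexFunctor' Ab.{u} (ComplexShape.up ℤ) (m - 2) (m - 1) m
  have h21 : (ComplexShape.up ℤ).prev (m - 1) = m - 2 := by simp; ring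
  have h10 : (ComplexShape.up ℤ).next (m - 1) = m := by simp
  -- `R¹lim` of homology in degree `m - 1`, short complex form
  have hb' : CohCx.LimOneIsZero (fun n => (F₀.obj (Kn n)).homology)
      (fun n => (ShortComplex.homologyMap (F₀.map (tn n))).hom) := by
    let ι := homologyFunctorIso' Ab.{u} (ComplexShape.up ℤ) (m - 2) (m - 1) m h21 h10
    refine limOneIsZero_of_equiv' _ _
      (fun n => (ι.symm.app (Kn n)).addCommGroupIsoToAddEquiv) (fun n x => ?_) hb
    exact congr($(ι.inv.naturality (tn n)) x)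
  have hZ := tower_cycles_limOne (fun n => F₀.obj (Kn n)) (fun n => F₀.map (tn n))
    (ha (m - 2) (Or.inl rfl)) hb'
  have hmain := isIso_homologyMap_of_tower (fun n => F₁.obj (Kn n)) (fun n => F₁.map (tn n))
    (F₁.obj K) (fun n => F₁.map (p n)) (fun n => by rw [← F₁.map_comp, hp])
    (fun x hx => (hlim (m - 1) x hx).exists) (fun x hx => (hlim m x hx).exists)
    (hsep m) (hsep (m + 1)) (ha (m - 1) (Or.inr rfl)) hZ n₀
    (fun n hn => by
      have := isIso_homologyMap_step Kn tn m n₀ hc n hn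
      rw [← quasiIsoAt_iff_isIso_homologyMap,
        quasiIsoAt_iff' _ (m - 1) m (m + 1) (by simp) (by simp),
        ShortComplex.quasiIso_iff] at this
      exact this)
  rw [← quasiIsoAt_iff_isIso_homologyMap,
    quasiIsoAt_iff' _ (m - 1) m (m + 1) (by simp) (by simp), ShortComplex.quasiIso_iff]
  exact hmain

end

end Groth.Agent.Lib.H6xLimCx
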