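import Mathlib
import Groth.Prelude.Def_CohCx
import Groth.Agent.Lib.Helper23KPlusAdj

/-!
# Homology maps and exact functors; sheafification of presheaf homology (helper6)
-/

set_option autoImplicit false

universe w v u

open CategoryTheory CategoryTheory.Limits Opposite HomologicalComplex

namespace Groth.Agent.Lib.H6xLimCx

section general

variable {C₁ : Type*} {C₂ : Type*} [Category C₁] [Category C₂] [Abelian C₁] [Abelian C₂]
  (F : C₁ ⥤ C₂) [F.Additive] [F.PreservesHomology]
  {ι : Type*} {c : ComplexShape ι}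

lemma isIso_iff_of_conj {D : Type*} [Category D] {X Y X' Y' : D} (a : X ⟶ Y) (b : X' ⟶ Y')
    (e₁ : X ≅ X') (e₂ : Y ≅ Y') (h : a ≫ e₂.hom = e₁.hom ≫ b) : IsIso a ↔ IsIso b := by
  constructor
  · intro hi
    have : b = e₁.inv ≫ (a ≫ e₂.hom) := by rw [h, Iso.inv_hom_id_assoc]
    rw [this]
    infer_instance
  · intro hi
    have : a = (e₁.hom ≫ b) ≫ e₂.inv := by
      rw [← h, Category.assoc, Iso.hom_inv_id, Category.comp_id]
    rw [this]
    infer_instance

lemma isIso_homologyMap_map_iff {K L : HomologicalComplex C₁ c} (φ : K ⟶ L) (i : ι) :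
    IsIso (homologyMap ((F.mapHomologicalComplex c).map φ) i) ↔
      IsIso (F.map (homologyMap φ i)) :=
  isIso_iff_of_conj _ _ ((K.sc i).mapHomologyIso F) ((L.sc i).mapHomologyIso F)
    (ShortComplex.mapHomologyIso_hom_naturality ((shortComplexFunctor C₁ c i).map φ) F)

end general

end Groth.Agent.Lib.H6xLimCx

namespace Groth.Agent.Lib.H6xLimCx

section sheaf

variable {C : Type u} [SmallCategory C] (J : GrothendieckTopology C)

/-- a morphism of presheaves which is bijective on sections over a covering class of objects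
becomes an isomorphism after sheafification. -/
lemma isIso_presheafToSheaf_map_of_bijective_on {P₁ P₂ : Cᵒᵖ ⥤ AddCommGrpCat.{u}} (g : P₁ ⟶ P₂)
    (B : Set C)
    (hB : ∀ U : C, ∃ (ι : Type u) (Y : ι → C) (f : ∀ i, Y i ⟶ U),
      Sieve.ofArrows Y f ∈ J U ∧ ∀ i, Y i ∈ B)
    (hg : ∀ U ∈ B, Function.Bijective (g.app (op U))) :
    IsIso ((presheafToSheaf J AddCommGrpCat.{u}).map g) := by
  rw [← J.W_iff, J.W_iff_isLocallyBijective]
  constructor
  · constructor
    intro X x y h
    obtain ⟨ι, Y', f, hcov, hYB⟩ := hB X.unop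
    refine J.superset_covering ?_ hcov
    rw [Sieve.ofArrows, Sieve.generate_le_iff]
    rintro _ _ ⟨i⟩
    change P₁.map (f i).op x = P₁.map (f i).op y
    apply (hg (Y' i) (hYB i)).1
    have e1 := NatTrans.naturality_apply g (f i).op x
    have e2 := NatTrans.naturality_apply g (f i).op y
    rw [e1, e2, h]
  · constructor
    intro U s
    obtain ⟨ι, Y', f, hcov, hYB⟩ := hB U
    refine J.superset_covering ?_ hcov
    rw [Sieve.ofArrows, Sieve.generate_le_iff]
    rintro _ _ ⟨i⟩
    obtain ⟨t, ht⟩ := (hg (Y' i) (hYB i)).2 (P₂.map (f i).op s)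
    exact ⟨t, ht⟩

/-- A morphism of complexes of abelian sheaves which induces a bijection on `H^m` of the
complexes of sections over a covering class of objects induces an isomorphism on the `m`-th
cohomology sheaves. -/
theorem isIso_homologyMap_of_sections
    {K L : CochainComplex (Sheaf J AddCommGrpCat.{u}) ℤ} (φ : K ⟶ L) (m : ℤ) (B : Set C)
    (hB : ∀ U : C, ∃ (ι : Type u) (Y : ι → C) (f : ∀ i, Y i ⟶ U),
      Sieve.ofArrows Y f ∈ J U ∧ ∀ i, Y i ∈ B)
    (h : ∀ U ∈ B, IsIso (homologyMap ((CohCx.sectCx J U).map φ) m)) :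
    IsIso (homologyMap φ m) := by
  let P := sheafToPresheaf J AddCommGrpCat.{u}
  let a := presheafToSheaf J AddCommGrpCat.{u}
  let c := ComplexShape.up ℤ
  let ψ := (P.mapHomologicalComplex c).map φ
  -- Step 1/2 : sheafification of the presheaf homology map is an isomorphism
  have h2 : IsIso (a.map (homologyMap ψ m)) := by
    refine isIso_presheafToSheaf_map_of_bijective_on J _ B hB (fun U hU => ?_)
    have h1 := h U hU
    have h1' : IsIso (homologyMap
        ((((evaluation Cᵒᵖ AddCommGrpCat.{u}).obj (op U)).mapHomologicalComplex c).map ψ) m) := h1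
    rw [isIso_homologyMap_map_iff] at h1'
    exact ConcreteCategory.bijective_of_isIso
      (((evaluation Cᵒᵖ AddCommGrpCat.{u}).obj (op U)).map (homologyMap ψ m))
  -- Step 3
  have h3 : IsIso (homologyMap ((a.mapHomologicalComplex c).map ψ) m) :=
    (isIso_homologyMap_map_iff a ψ m).2 h2
  -- Step 4 : the counit
  let adj := sheafificationAdjunction J AddCommGrpCat.{u}
  have hε : ∀ M : CochainComplex (Sheaf J AddCommGrpCat.{u}) ℤ,
      IsIso (Groth.Agent.Lib.Helper23KPlusAdj.εK adj c M) := by
    intro M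
    haveI : ∀ n, IsIso ((Groth.Agent.Lib.Helper23KPlusAdj.εK adj c M).f n) := by
      intro n
      change IsIso (adj.counit.app (M.X n))
      infer_instance
    exact HomologicalComplex.Hom.isIso_of_components _
  have hnat := Groth.Agent.Lib.Helper23KPlusAdj.εK_naturality adj c φ
  have hnat' : homologyMap ((a.mapHomologicalComplex c).map ψ) m ≫
      homologyMap (Groth.Agent.Lib.Helper23KPlusAdj.εK adj c L) m =
      homologyMap (Groth.Agent.Lib.Helper23KPlusAdj.εK adj c K) m ≫ homologyMap φ m := by
    rw [← homologyMap_comp, ← homologyMap_comp]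
    exact congrArg (fun z => homologyMap z m) hnat
  haveI := hε K
  haveI := hε L
  have : homologyMap φ m = inv (homologyMap (Groth.Agent.Lib.Helper23KPlusAdj.εK adj c K) m) ≫
      (homologyMap ((a.mapHomologicalComplex c).map ψ) m ≫
      homologyMap (Groth.Agent.Lib.Helper23KPlusAdj.εK adj c L) m) := by
    rw [hnat', IsIso.inv_hom_id_assoc]
  rw [this]
  infer_instance

end sheaf

end Groth.Agent.Lib.H6xLimCx
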