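import Mathlib
import Groth.Prelude.Def_CohCx

/-!
# Sections of a termwise limit of a tower of complexes of abelian sheaves (helper6)
-/

set_option autoImplicit false

universe u

open CategoryTheory CategoryTheory.Limits Opposite HomologicalComplex

namespace Groth.Agent.Lib.H6xLimCx

section

variable {C : Type u} [SmallCategory C] (J : GrothendieckTopology C)
  (F : ℕ → CochainComplex (Sheaf J AddCommGrpCat.{u}) ℤ) (t : ∀ n, F (n + 1) ⟶ F n)

/-- the functor "sections over `U` in degree `j`". -/
noncomputable abbrev secFun (U : C) (j : ℤ) :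
    CochainComplex (Sheaf J AddCommGrpCat.{u}) ℤ ⥤ Type u :=
  HomologicalComplex.eval _ _ j ⋙ sheafToPresheaf J AddCommGrpCat.{u} ⋙
    (evaluation Cᵒᵖ AddCommGrpCat.{u}).obj (op U) ⋙ forget AddCommGrpCat.{u}

example : HasLimit (CohCx.opSequence F t) := inferInstance

noncomputable instance (U : C) (j : ℤ) : PreservesLimitsOfShape ℕᵒᵖ (secFun J U j) := by
  dsimp only [secFun]
  infer_instance

theorem existsUnique_section_limit (U : C) (j : ℤ)
    (x : ∀ n, ((F n).X j).obj.obj (op U))
    (hx : ∀ n, ((t n).f j).hom.app (op U) (x (n + 1)) = x n) :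
    ∃! y : ((limit (CohCx.opSequence F t)).X j).obj.obj (op U),
      ∀ n, ((limit.π (CohCx.opSequence F t) (op n)).f j).hom.app (op U) y = x n := by
  let D := CohCx.opSequence F t
  let G := secFun J U j
  have hlim : IsLimit (G.mapCone (limit.cone D)) := isLimitOfPreserves G (limit.isLimit D)
  -- the section of `D ⋙ G` given by `x`
  let π : (Functor.const ℕᵒᵖ).obj PUnit.{u + 1} ⟶ D ⋙ G :=
    NatTrans.ofOpSequence (fun n => TypeCat.ofHom (fun _ => x n)) (fun n => by
      ext a
      have e : D.map (homOfLE (Nat.le_add_right n 1)).op = t n :=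
        Functor.ofOpSequence_map_homOfLE_succ t n
      change x n = G.map (D.map (homOfLE (Nat.le_add_right n 1)).op) (x (n + 1))
      rw [e]
      exact (hx n).symm)
  let s : ∀ i : ℕᵒᵖ, (D ⋙ G).obj i := fun i => π.app i PUnit.unit
  have hs : s ∈ (D ⋙ G).sections := by
    intro i i' f
    have := congr($(π.naturality f) PUnit.unit)
    exact this.symm
  obtain ⟨y, hy, hyu⟩ := (Types.isLimit_iff (G.mapCone (limit.cone D))).1 ⟨hlim⟩ s hs
  refine ⟨y, fun n => hy (op n), fun y' hy' => hyu y' ?_⟩
  rintro ⟨n⟩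
  exact hy' n

end

end Groth.Agent.Lib.H6xLimCx
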