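import Mathlib
import Groth.Prelude.Def_CohCx
import Groth.Agent.Lib.H6xLimCxC
import Groth.Agent.Lib.H6xLimCxD
import Groth.Agent.Lib.H6xLimCxE

/-!
# The cohomology sheaf of a termwise limit of complexes of abelian sheaves (helper6)
-/

set_option autoImplicit false

universe u

open CategoryTheory CategoryTheory.Limits Opposite HomologicalComplex

namespace Groth.Agent.Lib.H6xLimCx

lemma map_transition {T T' : Type*} [Category T] [Category T'] (G : T ⥤ T')
    (K : ℕ → T) (t : ∀ n, K (n + 1) ⟶ K n) (n : ℕ) (k : ℕ) :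
    G.map (CohCx.transition K t n k) =
      CohCx.transition (fun n => G.obj (K n)) (fun n => G.map (t n)) n k := by
  induction k with
  | zero => exact G.map_id _
  | succ k ih =>
    change G.map (t (n + k) ≫ CohCx.transition K t n k) = G.map (t (n + k)) ≫ _
    rw [G.map_comp, ih]

theorem main {C : Type u} [SmallCategory C] (J : GrothendieckTopology C)
    (F : ℕ → CochainComplex (Sheaf J AddCommGrpCat.{u}) ℤ) (t : ∀ n, F (n + 1) ⟶ F n) (m : ℤ)
    (B : Set C)
    (hB : ∀ U : C, ∃ (ι : Type u) (Y : ι → C) (f : ∀ i, Y i ⟶ U),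
      Sieve.ofArrows Y f ∈ J U ∧ ∀ i, Y i ∈ B)
    (n₀ : ℕ)
    (ha : ∀ U ∈ B, ∀ j : ℤ, (j = m - 2 ∨ j = m - 1) →
      CohCx.LimOneIsZero (fun n => ((F n).X j).obj.obj (op U))
        (fun n => (((t n).f j).hom.app (op U)).hom))
    (hb : ∀ U ∈ B, CohCx.LimOneIsZero
      (fun n => ((CohCx.sectCx J U).obj (F n)).homology (m - 1))
      (fun n => (HomologicalComplex.homologyMap ((CohCx.sectCx J U).map (t n)) (m - 1)).hom))
    (hc : ∀ U ∈ B, ∀ k : ℕ, IsIso (HomologicalComplex.homologyMap
      ((CohCx.sectCx J U).map (CohCx.transition F t n₀ k)) m)) :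
    IsIso (HomologicalComplex.homologyMap (limit.π (CohCx.opSequence F t) (op n₀)) m) := by
  apply isIso_homologyMap_of_sections J _ m B hB
  intro U hU
  let D := CohCx.opSequence F t
  have hπ : ∀ n, limit.π D (op (n + 1)) ≫ t n = limit.π D (op n) := by
    intro n
    have := limit.w D (homOfLE (Nat.le_add_right n 1)).op
    rw [Functor.ofOpSequence_map_homOfLE_succ] at this
    exact this
  refine isIso_homologyMap_of_tower_cx (fun n => (CohCx.sectCx J U).obj (F n))
    (fun n => (CohCx.sectCx J U).map (t n)) ((CohCx.sectCx J U).obj (limit D))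
    (fun n => (CohCx.sectCx J U).map (limit.π D (op n)))
    (fun n => ((CohCx.sectCx J U).map_comp _ _).symm.trans
      (congrArg (CohCx.sectCx J U).map (hπ n))) m
    (fun j x hx => existsUnique_section_limit J F t U j x hx) (ha U hU) (hb U hU) n₀
    (fun k => ?_)
  rw [← map_transition]
  exact hc U hU k

end Groth.Agent.Lib.H6xLimCx
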