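import Mathlib
import Groth.Agent.Lib.Helper28Depth
import Groth.Agent.Lib.Helper8ExtBC

/-!
# Depth of the dual of a module with vanishing `Ext^i(M, B)` (helper6)

For a Noetherian ring `B`, an ideal `𝔞` and a finite module `M` with `Ext^i(M, B) = 0` for
`1 ≤ i ≤ k`, the dual `M* = Hom(M, B)` satisfies `min (k + 1) (depth_𝔞 B) ≤ depth_𝔞 M*`.
-/

set_option autoImplicit false
universe u

open CategoryTheory CategoryTheory.Abelian

namespace Groth.Agent.Lib.H6xLink

open Groth.Agent.Lib.Helper28 Groth.Agent.Lib.Helper8.ExtBC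

section Dual

variable {B : Type u} [CommRing B]
variable {F M : Type u} [AddCommGroup F] [Module B F] [AddCommGroup M] [Module B M]

/-- restriction of functionals to the kernel -/
def resKer (π : F →ₗ[B] M) : (F →ₗ[B] B) →ₗ[B] (LinearMap.ker π →ₗ[B] B) :=
  LinearMap.lcomp B B (LinearMap.ker π).subtype

theorem resKer_apply (π : F →ₗ[B] M) (φ : F →ₗ[B] B) (x : LinearMap.ker π) :
    resKer π φ x = φ x.1 := rfl

/-- precomposition with `π` -/
def preDual (π : F →ₗ[B] M) : (M →ₗ[B] B) →ₗ[B] (F →ₗ[B] B) :=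
  LinearMap.lcomp B B π

theorem preDual_apply (π : F →ₗ[B] M) (φ : M →ₗ[B] B) (x : F) :
    preDual π φ x = φ (π x) := rfl

theorem preDual_injective (π : F →ₗ[B] M) (hπ : Function.Surjective π) :
    Function.Injective (preDual π) := by
  intro φ ψ h
  ext m
  obtain ⟨x, rfl⟩ := hπ m
  exact LinearMap.congr_fun h x

theorem exact_preDual_resKer (π : F →ₗ[B] M) (hπ : Function.Surjective π) :
    Function.Exact (preDual π) (resKer π) := by
  intro φ
  constructor
  · intro h
    have hle : LinearMap.ker π ≤ LinearMap.ker φ := by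
      intro x hx
      rw [LinearMap.mem_ker]
      exact LinearMap.congr_fun h ⟨x, hx⟩
    refine ⟨((LinearMap.ker π).liftQ φ hle) ∘ₗ
      (π.quotKerEquivOfSurjective hπ).symm.toLinearMap, ?_⟩
    ext x
    rw [preDual_apply, LinearMap.comp_apply, LinearEquiv.coe_coe]
    have : (π.quotKerEquivOfSurjective hπ).symm (π x) = Submodule.Quotient.mk x := by
      rw [LinearEquiv.symm_apply_eq]
      rfl
    rw [this, Submodule.liftQ_apply]
  · rintro ⟨ψ, rfl⟩
    ext x
    rw [resKer_apply, preDual_apply, LinearMap.mem_ker.mp x.2, map_zero]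
    rfl

theorem resKer_surjective (π : F →ₗ[B] M) (hπ : Function.Surjective π)
    (h1 : Subsingleton (Ext.{u} (ModuleCat.of B M) (ModuleCat.of B B) 1)) :
    Function.Surjective (resKer π) := by
  intro φ
  have hSh := LinearMap.shortExact_shortComplexKer hπ
  have h0 : hSh.extClass.comp (Ext.mk₀ (ModuleCat.ofHom φ)) (add_zero 1) = 0 :=
    Subsingleton.elim _ _
  obtain ⟨x₂, hx₂⟩ := Ext.contravariant_sequence_exact₁ hSh (ModuleCat.of B B)
    (Ext.mk₀ (ModuleCat.ofHom φ)) (add_zero 1) h0
  obtain ⟨ψ, rfl⟩ := (Ext.mk₀_bijective _ _).surjective x₂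
  refine ⟨ψ.hom, ?_⟩
  rw [Ext.mk₀_comp_mk₀] at hx₂
  have h2 := (Ext.mk₀_bijective _ _).injective hx₂
  ext x
  have h3 := congrArg (fun g => g.hom x) h2
  exact h3

end Dual

section Main

variable {B : Type u} [CommRing B] [IsNoetherianRing B] (𝔞 : Ideal B)

theorem enat_min_succ_le (k : ℕ) (b : ℕ∞) :
    min (((k + 1 : ℕ) : ℕ∞)) b ≤ min ((k : ℕ) : ℕ∞) b + 1 := by
  induction b using ENat.recTopCoe with
  | top => simp
  | coe m =>
    rcases le_total m k with h | h
    · have h' : ((m : ℕ) : ℕ∞) ≤ ((k : ℕ) : ℕ∞) := by exact_mod_cast h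
      rw [min_eq_right h']
      exact le_trans (min_le_right _ _) le_self_add
    · have h' : ((k : ℕ) : ℕ∞) ≤ ((m : ℕ) : ℕ∞) := by exact_mod_cast h
      rw [min_eq_left h']
      refine le_trans (min_le_left _ _) ?_
      rw [Nat.cast_add, Nat.cast_one]

/-- If `Ext^i(M, B) = 0` for `1 ≤ i ≤ k` then `min (k + 1) (depth B) ≤ depth (M*)`. -/
theorem depth_dual_of_ext_vanish (k : ℕ) :
    ∀ (M : Type u) [AddCommGroup M] [Module B M] [Module.Finite B M],
    (∀ i, 1 ≤ i → i ≤ k → Subsingleton (Ext.{u} (ModuleCat.of B M) (ModuleCat.of B B) i)) →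
    min (((k + 1 : ℕ) : ℕ∞)) (LocCoh.idealDepth 𝔞 B) ≤ LocCoh.idealDepth 𝔞 (M →ₗ[B] B) := by
  induction k with
  | zero =>
    intro M _ _ _ _
    by_cases h : 1 ≤ LocCoh.idealDepth 𝔞 B
    · refine le_trans (min_le_left _ _) ?_
      simpa using one_le_idealDepth_dual 𝔞 M h
    · have h0 : LocCoh.idealDepth 𝔞 B = 0 := by
        rw [not_le] at h
        exact Order.lt_one_iff.mp h
      rw [h0]
      simp
  | succ k ih =>
    intro M _ _ _ h
    obtain ⟨n, π, hπ⟩ := Module.Finite.exists_fin' B M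
    have hSh := LinearMap.shortExact_shortComplexKer hπ
    haveI : Projective π.shortComplexKer.X₂ :=
      ModuleCat.projective_of_free (Pi.basisFun B (Fin n))
    have hN : ∀ i, 1 ≤ i → i ≤ k →
        Subsingleton (Ext.{u} (ModuleCat.of B (LinearMap.ker π)) (ModuleCat.of B B) i) := by
      intro i hi hik
      obtain ⟨j, rfl⟩ : ∃ j, i = j + 1 := ⟨i - 1, by omega⟩
      have := h (j + 2) (by omega) (by omega)
      exact (δEquiv π.shortComplexKer hSh (ModuleCat.of B B) j).toEquiv.subsingleton_congr.mpr this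
    have ihN := ih (LinearMap.ker π) hN
    have h1 := h 1 le_rfl (by omega)
    have key := min_idealDepth_le_left 𝔞 (preDual π) (resKer π) (preDual_injective π hπ)
      (resKer_surjective π hπ h1) (exact_preDual_resKer π hπ)
    refine le_trans ?_ key
    apply le_min
    · rw [idealDepth_dual_pi_fin]
      exact le_trans (min_le_right _ _) (idealDepth_le_idealDepth_pi_fin 𝔞 B n)
    · exact le_trans (enat_min_succ_le (k + 1) _) (add_le_add_left ihN 1)

end Main

end Groth.Agent.Lib.H6xLink
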