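import Mathlib
import Groth.Agent.Lib.H6xLinkA
import Groth.Agent.Lib.H6xCofinA
import Groth.Agent.Lib.Helper29GorHull
import Groth.Agent.Lib.Helper8LocDualK
import Groth.Agent.Lib.Helper8LCDepth
import Groth.Agent.Lib.Helper28DepthLoc

/-!
# Linkage in a Gorenstein local ring (helper6)

`T` a Gorenstein local ring of dimension `d`, `I'`, `J'` ideals with `J' = 0 : I'`.  If `T/I'` has
depth at least `d` (e.g. it is zero or maximal Cohen–Macaulay), then so has `T/J'`.
-/

set_option autoImplicit false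
universe u

open CategoryTheory CategoryTheory.Abelian IsLocalRing

namespace Groth.Agent.Lib.H6xLink

open Groth.Agent.Lib.Helper28 Groth.Agent.Lib.Helper8.ExtBC Groth.Agent.Lib.Helper29.GorHull
  Groth.Agent.Lib.Helper8.Bridge Groth.Agent.Lib.Helper8.LC

section Local

variable (T : Type u) [CommRing T] [hT : LocCoh.IsGorensteinLocalRing T] (d : ℕ)
  (hd : ringKrullDim T = d)

include hd in
/-- local duality: vanishing of `H^{d-i}_m(M)` gives vanishing of `Ext^i(M, T)`. -/
theorem ext_subsingleton_of_H_vanish (M : Type u) [AddCommGroup M] [Module T M]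
    [Module.Finite T M] (i : ℕ) (hi : i ≤ d)
    (h : ∀ y : (localCohomology (maximalIdeal T) (d - i)).obj (ModuleCat.of T M), y = 0) :
    Subsingleton (Ext.{u} (ModuleCat.of T M) (ModuleCat.of T T) i) := by
  obtain ⟨e⟩ := duality_gorenstein T d hd M (d - i) (by omega)
  have hdi : d - (d - i) = i := by omega
  rw [hdi] at e
  rw [← subsingleton_E_iff]
  have h0 : ∀ lam : Groth.Agent.Lib.Helper8.ExtLES.E i (ModuleCat.of T M) (ModuleCat.of T T)
      →ₗ[T] Hn T d, lam = 0 := fun lam => by
    apply e.symm.injective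
    rw [h (e.symm lam), map_zero]
  obtain ⟨f', hf'⟩ := exists_isInjectiveHull_of_gorenstein T d hd
  have := injective_Hn T d (extVan T d hd)
  exact Groth.Agent.Lib.Helper8.LocDualK.subsingleton_of_hom_eq_zero
    (Hn T d) f' hf'.injective _ h0

include hd in
/-- a finite module of depth at least `d` over a Gorenstein local ring of dimension `d` has
`Ext^i(M, T) = 0` for `1 ≤ i ≤ d`. -/
theorem ext_subsingleton_of_depth (M : Type u) [AddCommGroup M] [Module T M]
    [Module.Finite T M] (hM : (d : ℕ∞) ≤ LocCoh.depth T M) (i : ℕ) (hi1 : 1 ≤ i) (hi : i ≤ d) :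
    Subsingleton (Ext.{u} (ModuleCat.of T M) (ModuleCat.of T T) i) := by
  rcases subsingleton_or_nontrivial M with hsub | hnt
  · refine ⟨fun a b => ?_⟩
    have key : ∀ e : Ext.{u} (ModuleCat.of T M) (ModuleCat.of T T) i, e = 0 := by
      intro e
      have := Groth.Agent.Lib.H6xCofin.ext_smul_eq_zero_of_left (X := ModuleCat.of T M)
        (Y := ModuleCat.of T T) (1 : T) (fun x => Subsingleton.elim _ _) e
      rwa [one_smul] at this
    rw [key a, key b]
  · apply ext_subsingleton_of_H_vanish T d hd M i hi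
    exact H_eq_zero_of_lt_depth (maximalIdeal T) d M maximalIdeal_smul_top_ne_top hM (d - i)
      (by omega)

end Local

section Link

variable (T : Type u) [CommRing T]

/-- multiplication map `T → Hom(I', T)` (with `I'` presented as `ker (T → T/I')`). -/
def mulKer (I' : Ideal T) : T →ₗ[T] (LinearMap.ker (Submodule.mkQ I') →ₗ[T] T) :=
  (resKer (Submodule.mkQ I')) ∘ₗ (LinearMap.lsmul T T)

theorem mulKer_apply (I' : Ideal T) (t : T) (x : LinearMap.ker (Submodule.mkQ I')) :
    mulKer T I' t x = t * x.1 := rfl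

theorem ker_mulKer (I' J' : Ideal T) (hJ : ∀ x, x ∈ J' ↔ ∀ i ∈ I', x * i = 0) :
    LinearMap.ker (mulKer T I') = J' := by
  ext t
  rw [LinearMap.mem_ker, hJ]
  constructor
  · intro h i hi
    have hi' : i ∈ LinearMap.ker (Submodule.mkQ I') := by rwa [Submodule.ker_mkQ]
    have := LinearMap.congr_fun h ⟨i, hi'⟩
    rwa [mulKer_apply] at this
  · intro h
    ext x
    rw [mulKer_apply]
    have hx : x.1 ∈ I' := by
      have h2 : x.1 ∈ LinearMap.ker (Submodule.mkQ I') := x.2
      rw [LinearMap.mem_ker, Submodule.mkQ_apply, Submodule.Quotient.mk_eq_zero] at h2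
      exact h2
    exact h x.1 hx

theorem mulKer_surjective (I' : Ideal T)
    (h1 : Subsingleton (Ext.{u} (ModuleCat.of T (T ⧸ I')) (ModuleCat.of T T) 1)) :
    Function.Surjective (mulKer T I') := by
  intro φ
  obtain ⟨ψ, hψ⟩ := resKer_surjective (Submodule.mkQ I') (Submodule.mkQ_surjective I') h1 φ
  refine ⟨ψ 1, ?_⟩
  rw [← hψ]
  ext x
  rw [mulKer_apply, resKer_apply, mul_comm, ← smul_eq_mul, ← map_smul, smul_eq_mul, mul_one]

variable [hT : LocCoh.IsGorensteinLocalRing T] (d : ℕ) (hd : ringKrullDim T = d)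

include hd in
/-- linkage in a Gorenstein local ring preserves maximal depth. -/
theorem depth_quotient_of_link (I' J' : Ideal T) (hJ : ∀ x, x ∈ J' ↔ ∀ i ∈ I', x * i = 0)
    (hI : (d : ℕ∞) ≤ LocCoh.depth T (T ⧸ I')) : (d : ℕ∞) ≤ LocCoh.depth T (T ⧸ J') := by
  rcases Nat.eq_zero_or_pos d with rfl | hpos
  · exact zero_le
  have hExt := ext_subsingleton_of_depth T d hd (T ⧸ I') hI
  have hSh := LinearMap.shortExact_shortComplexKer (Submodule.mkQ_surjective I')
  haveI : Projective (Submodule.mkQ I').shortComplexKer.X₂ :=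
    ModuleCat.projective_of_free (Module.Basis.singleton Unit T)
  have hK : ∀ i, 1 ≤ i → i ≤ d - 1 → Subsingleton
      (Ext.{u} (ModuleCat.of T (LinearMap.ker (Submodule.mkQ I'))) (ModuleCat.of T T) i) := by
    intro i hi hid
    obtain ⟨j, rfl⟩ : ∃ j, i = j + 1 := ⟨i - 1, by omega⟩
    have := hExt (j + 2) (by omega) (by omega)
    exact (δEquiv (Submodule.mkQ I').shortComplexKer hSh (ModuleCat.of T T)
      j).toEquiv.subsingleton_congr.mpr this
  have key := depth_dual_of_ext_vanish (maximalIdeal T) (d - 1)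
    (LinearMap.ker (Submodule.mkQ I')) hK
  have hdT : LocCoh.idealDepth (maximalIdeal T) T = d :=
    (Groth.Agent.Lib.Helper29Gorenstein.depth_eq_and_hasInjectiveDimensionLT T d hd).1
  have hd1 : d - 1 + 1 = d := by omega
  rw [hd1, hdT, min_self] at key
  have hsurj := mulKer_surjective T I' (hExt 1 le_rfl hpos)
  let e : (T ⧸ J') ≃ₗ[T] (LinearMap.ker (Submodule.mkQ I') →ₗ[T] T) :=
    (Submodule.quotEquivOfEq J' (LinearMap.ker (mulKer T I')) (ker_mulKer T I' J' hJ).symm).trans
      ((mulKer T I').quotKerEquivOfSurjective hsurj)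
  have he : LocCoh.idealDepth (maximalIdeal T) (T ⧸ J') =
      LocCoh.idealDepth (maximalIdeal T) (LinearMap.ker (Submodule.mkQ I') →ₗ[T] T) :=
    idealDepth_congr e (maximalIdeal T)
  unfold LocCoh.depth
  rw [he]
  exact key

end Link

end Groth.Agent.Lib.H6xLink
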