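import Mathlib
import Groth.Agent.Lib.H6xLinkB
import Groth.Agent.Lib.H5bCMe
import Groth.Agent.Lib.Helper5GorDual
import Groth.Agent.Lib.Helper29GorAnn
import Groth.Agent.Lib.Helper28PolyCM

/-!
# Linkage by a Gorenstein ideal preserves the Cohen–Macaulay property (helper6)

* `map_ann`: annihilator relations localize.
* `height_eq_zero_of_ann`: in a Cohen–Macaulay ring a proper annihilator ideal has height zero.
* `isCohenMacaulayRing_quotient_of_ann`: `S` Gorenstein, `J = 0 : I`, `I = 0 : J`, `S/I` CM ⟹ `S/J` CM.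
* `isCohenMacaulayRing_quotient_of_linked`: the version with colon ideals `𝔠 : I = J`, `𝔠 : J = I`.
-/

set_option autoImplicit false
universe u

open IsLocalRing

namespace Groth.Agent.Lib.H6xLink

open Groth.Agent.Lib.Helper28 Groth.Agent.Lib.H5b

section Ann

variable {S : Type u} [CommRing S] [IsNoetherianRing S] (M : Submonoid S) (T : Type u)
  [CommRing T] [Algebra S T] [IsLocalization M T]

include M in
/-- annihilator relations localize -/
theorem map_ann (I J : Ideal S) (hJ : ∀ x, x ∈ J ↔ ∀ i ∈ I, x * i = 0) (x : T) :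
    x ∈ J.map (algebraMap S T) ↔ ∀ i ∈ I.map (algebraMap S T), x * i = 0 := by
  constructor
  · intro hx i hi
    have h1 : x * i ∈ J.map (algebraMap S T) * I.map (algebraMap S T) := Ideal.mul_mem_mul hx hi
    rw [← Ideal.map_mul] at h1
    have h2 : J * I = ⊥ := by
      rw [eq_bot_iff, Ideal.mul_le]
      intro j hj i hi
      rw [Ideal.mem_bot]
      exact (hJ j).mp hj i hi
    rw [h2, Ideal.map_bot, Ideal.mem_bot] at h1
    exact h1
  · intro hx
    classical
    obtain ⟨a, s, rfl⟩ := IsLocalization.exists_mk'_eq M x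
    obtain ⟨G, hG⟩ := (isNoetherianRing_iff_ideal_fg S).mp inferInstance I
    have h1 : ∀ y ∈ G, algebraMap S T (a * y) = 0 := by
      intro y hy
      have hyI : y ∈ I := by
        rw [← hG]
        exact Ideal.subset_span hy
      have h2 := hx (algebraMap S T y) (Ideal.mem_map_of_mem _ hyI)
      rw [map_mul, ← IsLocalization.mk'_spec T a s, mul_right_comm, h2, zero_mul]
    obtain ⟨t, ht, hts⟩ := Groth.Agent.Lib.Helper5.GorUnmixed.exists_mul_eq_zero_of_finset M T a G h1
    rw [IsLocalization.mk'_mem_map_algebraMap_iff]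
    refine ⟨t, ht, ?_⟩
    rw [hJ]
    intro i hi
    rw [← hG] at hi
    refine Submodule.span_induction (p := fun z _ => t * a * z = 0) ?_ ?_ ?_ ?_ hi
    · intro y hy
      rw [mul_assoc]
      exact hts y hy
    · rw [mul_zero]
    · intro y z _ _ hy hz
      rw [mul_add, hy, hz, add_zero]
    · intro r y _ hy
      rw [smul_eq_mul, mul_left_comm, hy, mul_zero]

end Ann

section Height

variable {T : Type u} [CommRing T] [IsNoetherianRing T]

/-- In a Cohen–Macaulay ring, a proper ideal which is an annihilator `0 : J'` has height zero. -/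
theorem height_eq_zero_of_ann (hT : LocCoh.IsCohenMacaulayRing T) (I' J' : Ideal T)
    (hI : ∀ x, x ∈ I' ↔ ∀ j ∈ J', x * j = 0) (hne : I' ≠ ⊤) : I'.height = 0 := by
  by_contra h0
  have h1 : 1 ≤ I'.height := Order.one_le_iff_pos.mpr (pos_iff_ne_zero.mpr h0)
  rw [← idealDepth_self_eq_height_of_isCohenMacaulayRing hT I' hne] at h1
  have hIM : I' • (⊤ : Submodule T T) ≠ ⊤ := by
    rw [smul_eq_mul, Ideal.mul_top]
    exact hne
  obtain ⟨r, hr, hreg⟩ := (one_le_idealDepth_iff hIM).mp h1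
  apply hne
  rw [Ideal.eq_top_iff_one, hI]
  intro j hj
  rw [one_mul]
  have h2 := (hI r).mp hr j hj
  apply hreg
  show r • j = r • 0
  rw [smul_eq_mul, smul_zero, h2]

end Height

section Global

variable {S : Type u} [CommRing S]

/-- depth transport: `(S/𝔞)_Q` versus `S_Q / 𝔞 S_Q` -/
theorem depth_localizedModule_quotient (𝔞 Q : Ideal S) [Q.IsPrime] :
    LocCoh.depth (Localization.AtPrime Q) (LocalizedModule Q.primeCompl (S ⧸ 𝔞)) =
      LocCoh.depth (Localization.AtPrime Q)
        (Localization.AtPrime Q ⧸ 𝔞.map (algebraMap S (Localization.AtPrime Q))) := by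
  let e₁ : LocalizedModule Q.primeCompl (S ⧸ 𝔞) ≃ₗ[Localization.AtPrime Q]
      (Localization.AtPrime Q ⧸ Submodule.localized' (Localization.AtPrime Q) Q.primeCompl
        (Algebra.linearMap S (Localization.AtPrime Q)) 𝔞) :=
    IsLocalizedModule.mapEquiv Q.primeCompl
      (LocalizedModule.mkLinearMap Q.primeCompl (S ⧸ 𝔞))
      (Submodule.toLocalizedQuotient' (Localization.AtPrime Q) Q.primeCompl
        (Algebra.linearMap S (Localization.AtPrime Q)) 𝔞)
      (Localization.AtPrime Q) (LinearEquiv.refl S (S ⧸ 𝔞))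
  let e₂ : (Localization.AtPrime Q ⧸ Submodule.localized' (Localization.AtPrime Q) Q.primeCompl
        (Algebra.linearMap S (Localization.AtPrime Q)) 𝔞) ≃ₗ[Localization.AtPrime Q]
      (Localization.AtPrime Q ⧸ 𝔞.map (algebraMap S (Localization.AtPrime Q))) :=
    Submodule.quotEquivOfEq _ _ (Ideal.localized'_eq_map (Localization.AtPrime Q) Q.primeCompl 𝔞)
  exact idealDepth_congr (e₁.trans e₂) _

variable [hS : LocCoh.IsGorensteinRing S]

/-- If `I = 0 : J` in a Gorenstein ring `S` and `S/I` is Cohen–Macaulay, then `S_Q / I S_Q` has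
depth at least `ht Q` for every prime `Q`. -/
theorem depth_quotient_map_ge (I J : Ideal S) (hI : ∀ x, x ∈ I ↔ ∀ j ∈ J, x * j = 0)
    (hcm : LocCoh.IsCohenMacaulayRing (S ⧸ I)) (Q : Ideal S) [hQ : Q.IsPrime] (d : ℕ)
    (hd : Q.height = d) :
    (d : ℕ∞) ≤ LocCoh.depth (Localization.AtPrime Q)
      (Localization.AtPrime Q ⧸ I.map (algebraMap S (Localization.AtPrime Q))) := by
  haveI : IsNoetherianRing S := inferInstance
  haveI hScm : LocCoh.IsCohenMacaulayRing S :=
    Groth.Agent.Lib.Helper5.GorUnmixed.isCohenMacaulayRing_of_isGorensteinRing S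
  have hTG : LocCoh.IsGorensteinLocalRing (Localization.AtPrime Q) :=
    hS.isGorensteinLocalRing_localization Q
  by_cases hIQ : I ≤ Q
  · rw [← depth_localizedModule_quotient I Q]
    have h𝔮 : (Q.map (Ideal.Quotient.mk I)).IsPrime :=
      Ideal.map_isPrime_of_surjective Ideal.Quotient.mk_surjective (by rw [Ideal.mk_ker]; exact hIQ)
    have hQ𝔮 : Q = (Q.map (Ideal.Quotient.mk I)).comap (Ideal.Quotient.mk I) := by
      rw [Ideal.comap_map_of_surjective _ Ideal.Quotient.mk_surjective, ← RingHom.ker_eq_comap_bot,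
        Ideal.mk_ker, sup_eq_left.mpr hIQ]
    have hTcm : LocCoh.IsCohenMacaulayRing (Localization.AtPrime Q) := by
      haveI := Groth.Agent.Lib.Helper29.GorAnn.isGorensteinRing_of_isGorensteinLocalRing
        (Localization.AtPrime Q)
      exact Groth.Agent.Lib.Helper5.GorUnmixed.isCohenMacaulayRing_of_isGorensteinRing _
    have hne : I.map (algebraMap S (Localization.AtPrime Q)) ≠ ⊤ := by
      intro htop
      have h1 : I.map (algebraMap S (Localization.AtPrime Q)) ≤
          maximalIdeal (Localization.AtPrime Q) := by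
        rw [← Localization.AtPrime.map_eq_maximalIdeal]
        exact Ideal.map_mono hIQ
      rw [htop, top_le_iff] at h1
      exact Ideal.IsPrime.ne_top' h1
    have hht : (I.map (algebraMap S (Localization.AtPrime Q))).height ≤ ((0 : ℕ) : ℕ∞) := by
      rw [height_eq_zero_of_ann hTcm _ _
        (map_ann Q.primeCompl (Localization.AtPrime Q) J I hI) hne]
      simp
    have := local_bound_of_cm I 0 (Q.map (Ideal.Quotient.mk I)) Q hQ𝔮
      (hcm.isCohenMacaulayLocalRing_localization _) hht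
    rwa [hd, Nat.cast_zero, add_zero] at this
  · have htop : I.map (algebraMap S (Localization.AtPrime Q)) = ⊤ := by
      obtain ⟨x, hxI, hxQ⟩ := SetLike.not_le_iff_exists.mp hIQ
      exact Ideal.eq_top_of_isUnit_mem _ (Ideal.mem_map_of_mem _ hxI)
        (IsLocalization.map_units (Localization.AtPrime Q) (⟨x, hxQ⟩ : Q.primeCompl))
    haveI : Subsingleton (Localization.AtPrime Q ⧸ I.map (algebraMap S (Localization.AtPrime Q))) :=
      Ideal.Quotient.subsingleton_iff.mpr htop
    rw [depth_eq_top_of_subsingleton]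
    exact le_top

/-- Linkage in a Gorenstein ring: if `J = 0 : I`, `I = 0 : J` and `S/I` is Cohen–Macaulay then
`S/J` is Cohen–Macaulay. -/
theorem isCohenMacaulayRing_quotient_of_ann (I J : Ideal S)
    (hJ : ∀ x, x ∈ J ↔ ∀ i ∈ I, x * i = 0) (hI : ∀ x, x ∈ I ↔ ∀ j ∈ J, x * j = 0)
    (hcm : LocCoh.IsCohenMacaulayRing (S ⧸ I)) : LocCoh.IsCohenMacaulayRing (S ⧸ J) := by
  haveI : IsNoetherianRing S := inferInstance
  haveI hScm : LocCoh.IsCohenMacaulayRing S :=
    Groth.Agent.Lib.Helper5.GorUnmixed.isCohenMacaulayRing_of_isGorensteinRing S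
  refine isCohenMacaulayRing_quotient_of_cme J 0 ?_ (by simp)
  apply cme_of_local
  intro Q hQ hJQ
  have hTG : LocCoh.IsGorensteinLocalRing (Localization.AtPrime Q) :=
    hS.isGorensteinLocalRing_localization Q
  obtain ⟨d, hd⟩ : ∃ d : ℕ, Q.height = d := by
    obtain ⟨d, hd⟩ := ENat.ne_top_iff_exists.mp (Ideal.height_ne_top hQ.ne_top)
    exact ⟨d, hd.symm⟩
  have hdim : ringKrullDim (Localization.AtPrime Q) = d := by
    rw [IsLocalization.AtPrime.ringKrullDim_eq_height Q (Localization.AtPrime Q), hd]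
    rfl
  rw [depth_localizedModule_quotient J Q, hd, Nat.cast_zero, add_zero]
  exact depth_quotient_of_link (Localization.AtPrime Q) d hdim
    (I.map (algebraMap S (Localization.AtPrime Q))) (J.map (algebraMap S (Localization.AtPrime Q)))
    (map_ann Q.primeCompl (Localization.AtPrime Q) I J hJ)
    (depth_quotient_map_ge I J hI hcm Q d hd)

end Global

section Colon

variable {R : Type u} [CommRing R]

theorem le_of_colon_eq (𝔠 I J : Ideal R) (hJI : 𝔠.colon (J : Set R) = I) : 𝔠 ≤ I := by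
  intro a ha
  rw [← hJI, Submodule.mem_colon]
  intro j _
  rw [smul_eq_mul]
  exact 𝔠.mul_mem_right j ha

theorem map_mk_ann_of_colon_eq (𝔠 I J : Ideal R) (h𝔠I : 𝔠 ≤ I) (h𝔠J : 𝔠 ≤ J)
    (hIJ : 𝔠.colon (I : Set R) = J) (x : R ⧸ 𝔠) :
    x ∈ J.map (Ideal.Quotient.mk 𝔠) ↔ ∀ i ∈ I.map (Ideal.Quotient.mk 𝔠), x * i = 0 := by
  obtain ⟨a, rfl⟩ := Ideal.Quotient.mk_surjective x
  rw [Ideal.mem_quotient_iff_mem h𝔠J, ← hIJ, Submodule.mem_colon]
  constructor
  · intro h i hi
    obtain ⟨b, rfl⟩ := Ideal.Quotient.mk_surjective i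
    rw [Ideal.mem_quotient_iff_mem h𝔠I] at hi
    rw [← map_mul, Ideal.Quotient.eq_zero_iff_mem]
    exact h b hi
  · intro h b hb
    rw [smul_eq_mul, ← Ideal.Quotient.eq_zero_iff_mem, map_mul]
    exact h _ ((Ideal.mem_quotient_iff_mem h𝔠I).mpr hb)

/-- Linkage by a Gorenstein ideal preserves the Cohen–Macaulay property. -/
theorem isCohenMacaulayRing_quotient_of_linked (𝔠 I J : Ideal R)
    [hG : LocCoh.IsGorensteinRing (R ⧸ 𝔠)]
    (hIJ : 𝔠.colon (I : Set R) = J) (hJI : 𝔠.colon (J : Set R) = I)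
    (hcm : LocCoh.IsCohenMacaulayRing (R ⧸ I)) : LocCoh.IsCohenMacaulayRing (R ⧸ J) := by
  have h𝔠I : 𝔠 ≤ I := le_of_colon_eq 𝔠 I J hJI
  have h𝔠J : 𝔠 ≤ J := le_of_colon_eq 𝔠 J I hIJ
  haveI h1 : LocCoh.IsCohenMacaulayRing ((R ⧸ 𝔠) ⧸ I.map (Ideal.Quotient.mk 𝔠)) :=
    isCohenMacaulayRing_of_ringEquiv (DoubleQuot.quotQuotEquivQuotOfLE h𝔠I).symm
  haveI h2 := isCohenMacaulayRing_quotient_of_ann (I.map (Ideal.Quotient.mk 𝔠))
    (J.map (Ideal.Quotient.mk 𝔠)) (map_mk_ann_of_colon_eq 𝔠 I J h𝔠I h𝔠J hIJ)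
    (map_mk_ann_of_colon_eq 𝔠 J I h𝔠J h𝔠I hJI) h1
  exact isCohenMacaulayRing_of_ringEquiv (DoubleQuot.quotQuotEquivQuotOfLE h𝔠J)

end Colon

end Groth.Agent.Lib.H6xLink
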