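import Mathlib
import Groth.Agent.S7708
import Groth.Agent.S7701

/-!
# Canonical module of a quotient of a Gorenstein local ring, with a prescribed model (helper6)

`canon_of_iso`: `R` a quotient of a Gorenstein local ring `R'` (dimensions `n ≤ n'`), `K` an
`R`-module which is `R'`-linearly isomorphic to `Ext^{n'-n}_{R'}(R, R')`.  Then `K` is a canonical
module of `R`: `Hom_R(K, E) ≅ H^n_m(R)`.
-/

set_option autoImplicit false
universe u
open LocCoh

namespace Groth.Agent.Lib.H6xLink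

open CategoryTheory IsLocalRing
open Groth.Agent.Lib.Helper8.ExtLES Groth.Agent.Lib.Helper8.Bridge Groth.Agent.Lib.Helper8.LC
  Groth.Agent.Lib.Helper8.ExtRep Groth.Agent.Lib.Helper8.LocDual
  Groth.Agent.Lib.Helper29.GorHull Groth.Agent.Lib.Helper29.GorAnn Groth.Agent.S7708

theorem canon_of_iso (R : Type u) [CommRing R] [IsNoetherianRing R] [IsLocalRing R] (n : ℕ)
    (E : Type u) [AddCommGroup E] [Module R E]
    (f : IsLocalRing.ResidueField R →ₗ[R] E) (hf : InjHull.IsInjectiveHull f) (R' : Type u)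
    [CommRing R'] [LocCoh.IsGorensteinLocalRing R'] [Algebra R' R]
    (hπ : Function.Surjective (algebraMap R' R)) (n' : ℕ) (hn' : ringKrullDim R' = n')
    (hnn' : n ≤ n') (K : Type u) [AddCommGroup K] [Module R K] [Module R' K]
    [IsScalarTower R' R K]
    (θ : K ≃ₗ[R'] Groth.Agent.Lib.Helper8.ExtLES.E (n' - n) (ModuleCat.of R' R)
      (ModuleCat.of R' R')) :
    Nonempty ((K →ₗ[R] E) ≃ₗ[R] LocCoh.H (IsLocalRing.maximalIdeal R) n R) := by
  classical
  haveI hfinR : Module.Finite R' R := Module.Finite.of_surjective (Algebra.linearMap R' R) hπ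
  obtain ⟨f', hf'⟩ := exists_isInjectiveHull_of_gorenstein R' n' hn'
  obtain ⟨g', hg'⟩ := Groth.Agent.S5156.result R' R (Hn R' n') f' hf'
  obtain ⟨e₁, _⟩ := Groth.Agent.S0302.result R (ResidueField R) E _ f hf g' hg'
  let e₁' : E ≃ₗ[R] Cx R' R (Hn R' n') :=
    e₁.trans (ModuleCat.CoextendScalars.equiv (algebraMap R' R) (ModuleCat.of R' (Hn R' n')))
  obtain ⟨α, hα⟩ := exists_adj (R' := R') (R := R) K (Hn R' n')
  obtain ⟨e₀⟩ := duality_gorenstein R' n' hn' R n hnn'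
  obtain ⟨φ, hφ⟩ := exists_semilinear hπ R n
  let c₁ : (K →ₗ[R] E) ≃ₗ[R] (K →ₗ[R] Cx R' R (Hn R' n')) := LinearEquiv.congrRight e₁'
  let β : (K →ₗ[R'] Hn R' n') ≃ₗ[R'] (Groth.Agent.Lib.Helper8.ExtLES.E (n' - n)
      (ModuleCat.of R' R) (ModuleCat.of R' R') →ₗ[R'] Hn R' n') :=
    LinearEquiv.congrLeft (Hn R' n') R' θ
  let Φ : (K →ₗ[R] E) ≃+ LocCoh.H (maximalIdeal R) n R :=
    c₁.toAddEquiv.trans (α.trans (β.toAddEquiv.trans (e₀.symm.toAddEquiv.trans φ.symm)))
  have hΦ : ∀ (a : R') (ψ : K →ₗ[R] E), Φ (algebraMap R' R a • ψ) = algebraMap R' R a • Φ ψ := by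
    intro a ψ
    change φ.symm (e₀.symm (β (α (c₁ (algebraMap R' R a • ψ))))) =
      algebraMap R' R a • φ.symm (e₀.symm (β (α (c₁ ψ))))
    rw [map_smul, hα, map_smul, map_smul]
    apply φ.injective
    rw [hφ, AddEquiv.apply_symm_apply, AddEquiv.apply_symm_apply]
  refine ⟨{ Φ with map_smul' := fun r ψ => ?_ }⟩
  obtain ⟨a, rfl⟩ := hπ r
  exact hΦ a ψ

end Groth.Agent.Lib.H6xLink
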