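import Mathlib
import Groth.Agent.Lib.H6xLinkB
import Groth.Agent.Lib.H6xLinkD
import Groth.Agent.Lib.Helper28DepthBC
import Groth.Agent.Lib.Helper5RLR
import Groth.Agent.Lib.Helper5CM

/-!
# `T / ann(x)` is Gorenstein when `T` is Gorenstein local and `T/(x)` has maximal depth (helper6)
-/

set_option autoImplicit false
universe u

open CategoryTheory CategoryTheory.Abelian IsLocalRing

namespace Groth.Agent.Lib.H6xLink

open Groth.Agent.Lib.Helper28 Groth.Agent.Lib.Helper8.ExtBC Groth.Agent.Lib.Helper8.Bridge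

section SelfDual

variable (T : Type u) [CommRing T] (x' : T) (J' : Ideal T)

/-- multiplication by `x'` on `T / ann(x')` -/
def mulQ (hJ : ∀ t, t ∈ J' ↔ t * x' = 0) : (T ⧸ J') →ₗ[T] T :=
  J'.liftQ (LinearMap.toSpanSingleton T T x') (by
    intro t ht
    rw [LinearMap.mem_ker, LinearMap.toSpanSingleton_apply, smul_eq_mul]
    exact (hJ t).mp ht)

theorem mulQ_mk (hJ : ∀ t, t ∈ J' ↔ t * x' = 0) (s : T) :
    mulQ T x' J' hJ (Submodule.Quotient.mk s) = s * x' := rfl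

/-- `T → Hom(T/J', T)`, `t ↦ t • (mult by x')` -/
def nuQ (hJ : ∀ t, t ∈ J' ↔ t * x' = 0) : T →ₗ[T] ((T ⧸ J') →ₗ[T] T) :=
  LinearMap.toSpanSingleton T _ (mulQ T x' J' hJ)

theorem nuQ_apply_mk (hJ : ∀ t, t ∈ J' ↔ t * x' = 0) (t s : T) :
    nuQ T x' J' hJ t (Submodule.Quotient.mk s) = t * (s * x') := rfl

theorem ker_nuQ (hJ : ∀ t, t ∈ J' ↔ t * x' = 0) : LinearMap.ker (nuQ T x' J' hJ) = J' := by
  ext t
  rw [LinearMap.mem_ker, hJ]
  constructor
  · intro h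
    have := LinearMap.congr_fun h (Submodule.Quotient.mk 1)
    rwa [nuQ_apply_mk, one_mul] at this
  · intro h
    apply LinearMap.ext
    intro y
    obtain ⟨s, rfl⟩ := Submodule.Quotient.mk_surjective _ y
    rw [nuQ_apply_mk, mul_left_comm, h, mul_zero]
    rfl

theorem nuQ_surjective (hJ : ∀ t, t ∈ J' ↔ t * x' = 0)
    (hI : ∀ t, t ∈ Ideal.span {x'} ↔ ∀ j ∈ J', t * j = 0) :
    Function.Surjective (nuQ T x' J' hJ) := by
  intro φ
  have h1 : φ (Submodule.Quotient.mk 1) ∈ Ideal.span {x'} := by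
    rw [hI]
    intro j hj
    rw [mul_comm, ← smul_eq_mul, ← map_smul, ← Submodule.Quotient.mk_smul, smul_eq_mul, mul_one,
      (Submodule.Quotient.mk_eq_zero J').mpr hj, map_zero]
  obtain ⟨t, ht⟩ := Ideal.mem_span_singleton'.mp h1
  refine ⟨t, ?_⟩
  apply LinearMap.ext
  intro y
  obtain ⟨s, rfl⟩ := Submodule.Quotient.mk_surjective _ y
  rw [nuQ_apply_mk, mul_left_comm, ht]
  have : (Submodule.Quotient.mk s : T ⧸ J') = s • Submodule.Quotient.mk 1 := by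
    rw [← Submodule.Quotient.mk_smul, smul_eq_mul, mul_one]
  rw [this, map_smul, smul_eq_mul]

/-- `T/J' ≅ Hom(T/J', T)` when `J' = ann(x')` and `ann(J') = (x')`. -/
noncomputable def selfDual (hJ : ∀ t, t ∈ J' ↔ t * x' = 0)
    (hI : ∀ t, t ∈ Ideal.span {x'} ↔ ∀ j ∈ J', t * j = 0) :
    (T ⧸ J') ≃ₗ[T] ((T ⧸ J') →ₗ[T] T) :=
  (Submodule.quotEquivOfEq J' (LinearMap.ker (nuQ T x' J' hJ)) (ker_nuQ T x' J' hJ).symm).trans
    ((nuQ T x' J' hJ).quotKerEquivOfSurjective (nuQ_surjective T x' J' hJ hI))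

end SelfDual

section GorLocal

variable (T : Type u) [CommRing T] [hT : LocCoh.IsGorensteinLocalRing T] (d : ℕ)
  (hd : ringKrullDim T = d)

include hd in
/-- `T` Gorenstein local of dimension `d`, `J' = ann(x')`, `ann(J') = (x')`, `T/(x')` of depth at
least `d`: then `T/J'` is a Gorenstein local ring. -/
theorem gorLocal_quotient_ann (x' : T) (J' : Ideal T) (hJ : ∀ t, t ∈ J' ↔ t * x' = 0)
    (hI : ∀ t, t ∈ Ideal.span {x'} ↔ ∀ j ∈ J', t * j = 0) (hne : J' ≠ ⊤)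
    (hdepth : (d : ℕ∞) ≤ LocCoh.depth T (T ⧸ Ideal.span {x'})) :
    LocCoh.IsGorensteinLocalRing (T ⧸ J') := by
  haveI : IsLocalRing (T ⧸ J') := Groth.Agent.Lib.Helper5.isLocalRing_quotient hne
  have hπ : Function.Surjective (algebraMap T (T ⧸ J')) := Ideal.Quotient.mk_surjective
  haveI : IsLocalHom (algebraMap T (T ⧸ J')) := IsLocalHom.of_surjective _ hπ
  have hJ'' : ∀ t, t ∈ J' ↔ ∀ i ∈ Ideal.span {x'}, t * i = 0 := by
    intro t
    rw [hJ]
    constructor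
    · intro h i hi
      obtain ⟨a, rfl⟩ := Ideal.mem_span_singleton'.mp hi
      rw [mul_left_comm, h, mul_zero]
    · intro h
      exact h x' (Ideal.mem_span_singleton_self x')
  have h1 := depth_quotient_of_link T d hd (Ideal.span {x'}) J' hJ'' hdepth
  have h2 : LocCoh.depth T (T ⧸ J') = LocCoh.depth (T ⧸ J') (T ⧸ J') :=
    depth_eq_depth_of_isLocalHom_of_finite (A := T) (B := T ⧸ J') (M := T ⧸ J')
  rw [h2] at h1
  have hdimle : ringKrullDim (T ⧸ J') ≤ d := hd ▸ ringKrullDim_quotient_le J'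
  have hdepthle := Groth.Agent.Lib.Helper5.depth_le_supportDim (A := T ⧸ J') (M := T ⧸ J')
  rw [Module.supportDim_self_eq_ringKrullDim] at hdepthle
  have h1' : ((d : ℕ∞) : WithBot ℕ∞) ≤ ((LocCoh.depth (T ⧸ J') (T ⧸ J') : ℕ∞) : WithBot ℕ∞) :=
    WithBot.coe_le_coe.mpr h1
  have hdim : ringKrullDim (T ⧸ J') = d := le_antisymm hdimle (h1'.trans hdepthle)
  have hdep : ((LocCoh.depth (T ⧸ J') (T ⧸ J') : ℕ∞) : WithBot ℕ∞) = ((d : ℕ∞) : WithBot ℕ∞) :=
    le_antisymm (hdepthle.trans hdimle) h1'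
  haveI hcm : LocCoh.IsCohenMacaulayLocalRing (T ⧸ J') :=
    ⟨by rw [Module.supportDim_self_eq_ringKrullDim, hdim, hdep]; rfl⟩
  obtain ⟨E, _, _, f, hf⟩ := Groth.Agent.S0299.result (T ⧸ J') (ResidueField (T ⧸ J'))
  let θ₀ : (T ⧸ J') ≃ₗ[T] Groth.Agent.Lib.Helper8.ExtLES.E 0 (ModuleCat.of T (T ⧸ J'))
      (ModuleCat.of T T) :=
    (selfDual T x' J' hJ hI).trans
      ((ext0 (ModuleCat.of T (T ⧸ J')) (ModuleCat.of T T)).symm.trans
        (Ψ 0 (ModuleCat.of T (T ⧸ J')) (ModuleCat.of T T)).symm)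
  have θ : (T ⧸ J') ≃ₗ[T] Groth.Agent.Lib.Helper8.ExtLES.E (d - d) (ModuleCat.of T (T ⧸ J'))
      (ModuleCat.of T T) := by
    rw [Nat.sub_self]
    exact θ₀
  obtain ⟨eK⟩ := canon_of_iso (T ⧸ J') d E f hf T hπ d hd le_rfl (T ⧸ J') θ
  exact (Groth.Agent.S7701.result (T ⧸ J') d hdim E f hf (T ⧸ J') eK).mpr
    ⟨LinearEquiv.refl _ _⟩

end GorLocal

end Groth.Agent.Lib.H6xLink
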