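import Mathlib
import Groth.Agent.Lib.H6xLinkC
import Groth.Agent.Lib.H6xLinkE
import Groth.Agent.Lib.Helper5KoszulGor
import Groth.Agent.Lib.Helper5CMEquidim
import Groth.Agent.Lib.Helper28FGDim
import Groth.Agent.Lib.Helper13KzTor

/-!
# Linkage of an almost complete intersection gives a Gorenstein quotient (helper6)

* `isGorensteinRing_quotient_ann`: `S` Gorenstein, `J = ann(x)`, `ann(J) = (x)`, `S/(x)` CM ⟹ `S/J`
  Gorenstein.
* `gorRing_quotient_of_length_le_height`: complete intersections in Gorenstein rings are Gorenstein.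
* `mem_minimalPrimes_of_mem_associatedPrimes_quotient_cm`: CM quotients have no embedded primes.
-/

set_option autoImplicit false
universe u

open IsLocalRing

namespace Groth.Agent.Lib.H6xLink

open Groth.Agent.Lib.Helper28 Groth.Agent.Lib.H5b

section GorGlobal

variable (S : Type u) [CommRing S] [hS : LocCoh.IsGorensteinRing S]

theorem isGorensteinRing_quotient_ann (x : S) (J : Ideal S)
    (hJ : ∀ t, t ∈ J ↔ t * x = 0) (hI : ∀ t, t ∈ Ideal.span {x} ↔ ∀ j ∈ J, t * j = 0)
    (hcm : LocCoh.IsCohenMacaulayRing (S ⧸ Ideal.span {x})) :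
    LocCoh.IsGorensteinRing (S ⧸ J) := by
  haveI : IsNoetherianRing S := inferInstance
  refine { isGorensteinLocalRing_localization := ?_ }
  intro q' hq'
  have hQp : (q'.comap (Ideal.Quotient.mk J)).IsPrime := Ideal.comap_isPrime _ _
  have hJQ : J ≤ q'.comap (Ideal.Quotient.mk J) := by
    intro a ha
    rw [Ideal.mem_comap, Ideal.Quotient.eq_zero_iff_mem.mpr ha]
    exact zero_mem _
  obtain ⟨Q, hQdef⟩ : ∃ Q : Ideal S, Q = q'.comap (Ideal.Quotient.mk J) := ⟨_, rfl⟩
  rw [← hQdef] at hQp hJQ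
  haveI := hQp
  haveI hTG : LocCoh.IsGorensteinLocalRing (Localization.AtPrime Q) :=
    hS.isGorensteinLocalRing_localization Q
  obtain ⟨d, hd⟩ : ∃ d : ℕ, Q.height = d := by
    obtain ⟨d, hd⟩ := ENat.ne_top_iff_exists.mp (Ideal.height_ne_top hQp.ne_top)
    exact ⟨d, hd.symm⟩
  have hdim : ringKrullDim (Localization.AtPrime Q) = d := by
    rw [IsLocalization.AtPrime.ringKrullDim_eq_height Q (Localization.AtPrime Q), hd]
    rfl
  have hspan : (Ideal.span {x}).map (algebraMap S (Localization.AtPrime Q)) =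
      Ideal.span {algebraMap S (Localization.AtPrime Q) x} := by
    rw [Ideal.map_span, Set.image_singleton]
  have hJspan : ∀ t, t ∈ J ↔ ∀ i ∈ Ideal.span {x}, t * i = 0 := by
    intro t
    rw [hJ]
    constructor
    · intro h i hi
      obtain ⟨a, rfl⟩ := Ideal.mem_span_singleton'.mp hi
      rw [mul_left_comm, h, mul_zero]
    · intro h
      exact h x (Ideal.mem_span_singleton_self x)
  have hJ' : ∀ t, t ∈ J.map (algebraMap S (Localization.AtPrime Q)) ↔
      t * algebraMap S (Localization.AtPrime Q) x = 0 := by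
    intro t
    rw [map_ann Q.primeCompl (Localization.AtPrime Q) (Ideal.span {x}) J hJspan t, hspan]
    constructor
    · intro h
      exact h _ (Ideal.mem_span_singleton_self _)
    · intro h i hi
      obtain ⟨a, rfl⟩ := Ideal.mem_span_singleton'.mp hi
      rw [mul_left_comm, h, mul_zero]
  have hI' : ∀ t, t ∈ Ideal.span {algebraMap S (Localization.AtPrime Q) x} ↔
      ∀ j ∈ J.map (algebraMap S (Localization.AtPrime Q)), t * j = 0 := by
    intro t
    rw [← hspan]
    exact map_ann Q.primeCompl (Localization.AtPrime Q) J (Ideal.span {x}) hI t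
  have hne : J.map (algebraMap S (Localization.AtPrime Q)) ≠ ⊤ := by
    intro htop
    have h1 : J.map (algebraMap S (Localization.AtPrime Q)) ≤
        maximalIdeal (Localization.AtPrime Q) := by
      rw [← Localization.AtPrime.map_eq_maximalIdeal]
      exact Ideal.map_mono hJQ
    rw [htop, top_le_iff] at h1
    exact Ideal.IsPrime.ne_top' h1
  have hdepth := depth_quotient_map_ge (Ideal.span {x}) J hI hcm Q d hd
  rw [hspan] at hdepth
  have hG := gorLocal_quotient_ann (Localization.AtPrime Q) d hdim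
    (algebraMap S (Localization.AtPrime Q) x) (J.map (algebraMap S (Localization.AtPrime Q)))
    hJ' hI' hne hdepth
  refine Groth.Agent.Lib.Helper5.KoszulGor.gorLocal_atPrime_quotient J Q hJQ q' ?_ hG
  rw [hQdef, Ideal.map_comap_of_surjective _ Ideal.Quotient.mk_surjective q']

end GorGlobal

section CMUnmixed

/-- In a Cohen–Macaulay ring, every associated prime of the ring is a minimal prime. -/
theorem mem_minimalPrimes_of_mem_associatedPrimes_cm (B : Type u) [CommRing B]
    [hB : LocCoh.IsCohenMacaulayRing B] {P : Ideal B} (hP : P ∈ associatedPrimes B B) :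
    P ∈ minimalPrimes B := by
  have hPp : P.IsPrime := hP.isPrime
  have hG : LocCoh.IsCohenMacaulayLocalRing (Localization.AtPrime P) :=
    hB.isCohenMacaulayLocalRing_localization P
  have hmax : maximalIdeal (Localization.AtPrime P) ∈
      associatedPrimes (Localization.AtPrime P) (Localization.AtPrime P) := by
    apply Module.associatedPrimes.mem_associatedPrimes_of_comap_mem_associatedPrimes_of_isLocalizedModule
      P.primeCompl (Algebra.linearMap B (Localization.AtPrime P))
    have hcm : Ideal.comap (algebraMap B (Localization.AtPrime P))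
        (maximalIdeal (Localization.AtPrime P)) = P := Localization.AtPrime.under_maximalIdeal
    rw [hcm]
    exact hP
  obtain ⟨d, hd⟩ := Groth.Agent.Lib.Helper5.exists_nat_ringKrullDim_eq (Localization.AtPrime P)
  have hcm := hG.supportDim_eq_depth
  rw [Module.supportDim_self_eq_ringKrullDim, hd] at hcm
  have hle := Groth.Agent.Lib.Helper5.depth_le_ringKrullDim_quotient
    (A := Localization.AtPrime P) (M := Localization.AtPrime P) hmax
  have h0 : ringKrullDim (Localization.AtPrime P ⧸ maximalIdeal (Localization.AtPrime P)) = 0 :=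
    ringKrullDim_eq_zero_of_isField
      ((Ideal.Quotient.maximal_ideal_iff_isField_quotient _).mp inferInstance)
  rw [← hcm, h0] at hle
  have hd0 : d = 0 := by
    have : (d : WithBot ℕ∞) ≤ 0 := by exact_mod_cast hle
    have h2 : (d : ℕ∞) ≤ 0 := by exact_mod_cast this
    exact_mod_cast (nonpos_iff_eq_zero.mp h2)
  rw [hd0, IsLocalization.AtPrime.ringKrullDim_eq_height P] at hd
  rw [← Ideal.height_eq_zero_iff]
  exact_mod_cast hd

variable {R : Type u} [CommRing R]

/-- Associated primes of `R/c` as an `R`-module are minimal over `c` when `R/c` is CM. -/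
theorem mem_minimalPrimes_of_mem_associatedPrimes_quotient_cm [IsNoetherianRing R] (c : Ideal R)
    [LocCoh.IsCohenMacaulayRing (R ⧸ c)] {P : Ideal R} (hP : P ∈ associatedPrimes R (R ⧸ c)) :
    P ∈ c.minimalPrimes := by
  rw [AssociatedPrimes.mem_iff, isAssociatedPrime_iff] at hP
  obtain ⟨hPp, y, hy⟩ := hP
  have hmem : ∀ r : R, r ∈ P ↔ Ideal.Quotient.mk c r * y = 0 := by
    intro r
    rw [hy, Submodule.mem_colon_singleton, Submodule.mem_bot, Algebra.smul_def]
    rfl
  obtain ⟨P', hP'def⟩ : ∃ P' : Ideal (R ⧸ c),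
      P' = (⊥ : Submodule (R ⧸ c) (R ⧸ c)).colon {y} := ⟨_, rfl⟩
  have hcomap : P'.comap (Ideal.Quotient.mk c) = P := by
    ext r
    rw [Ideal.mem_comap, hP'def, Submodule.mem_colon_singleton, Submodule.mem_bot, smul_eq_mul,
      hmem]
  have hcP : c ≤ P := fun r hr =>
    (hmem r).mpr (by rw [Ideal.Quotient.eq_zero_iff_mem.mpr hr, zero_mul])
  have hP'p : P'.IsPrime := by
    have h1 : P' = P.map (Ideal.Quotient.mk c) := by
      rw [← hcomap, Ideal.map_comap_of_surjective _ Ideal.Quotient.mk_surjective]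
    rw [h1]
    exact Ideal.map_isPrime_of_surjective Ideal.Quotient.mk_surjective (by rwa [Ideal.mk_ker])
  have hass : P' ∈ associatedPrimes (R ⧸ c) (R ⧸ c) := by
    rw [AssociatedPrimes.mem_iff, isAssociatedPrime_iff]
    exact ⟨hP'p, y, hP'def⟩
  have := Groth.Agent.Lib.Helper5.GorUnmixed.comap_mk_mem_minimalPrimes c
    (mem_minimalPrimes_of_mem_associatedPrimes_cm (R ⧸ c) hass)
  rwa [hcomap] at this

end CMUnmixed

section CI

open Groth.Agent.Lib.Helper5.KoszulGor Groth.Agent.Lib.Helper5.GorRing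

/-- A complete intersection in a Gorenstein ring is Gorenstein. -/
theorem gorRing_quotient_of_length_le_height (A : Type u) [CommRing A]
    [hG : LocCoh.IsGorensteinRing A] (xs : List A)
    (h : (xs.length : ℕ∞) ≤ (Ideal.ofList xs).height) :
    LocCoh.IsGorensteinRing (A ⧸ Ideal.ofList xs) := by
  haveI : IsNoetherianRing A := inferInstance
  haveI hcm : LocCoh.IsCohenMacaulayRing A :=
    Groth.Agent.Lib.Helper5.GorUnmixed.isCohenMacaulayRing_of_isGorensteinRing A
  refine { isGorensteinLocalRing_localization := ?_ }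
  intro q' hq'
  have hQp : (q'.comap (Ideal.Quotient.mk (Ideal.ofList xs))).IsPrime := Ideal.comap_isPrime _ _
  have hIQ : Ideal.ofList xs ≤ q'.comap (Ideal.Quotient.mk (Ideal.ofList xs)) := by
    intro a ha
    rw [Ideal.mem_comap, Ideal.Quotient.eq_zero_iff_mem.mpr ha]
    exact zero_mem _
  obtain ⟨Q, hQdef⟩ : ∃ Q : Ideal A, Q = q'.comap (Ideal.Quotient.mk (Ideal.ofList xs)) :=
    ⟨_, rfl⟩
  rw [← hQdef] at hQp hIQ
  haveI := hQp
  have hreg := isRegular_map_localization_of_length_le_height xs h Q hIQ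
  have hK : ∀ i : ℤ, i ≠ 0 → Subsingleton (Groth.Agent.Helper13Kz.KH
      (xs.map (algebraMap A (Localization.AtPrime Q))) (Localization.AtPrime Q) i) := fun i hi =>
    ModuleCat.subsingleton_of_isZero
      (Groth.Agent.Helper13Kz.isZero_KH_of_weaklyRegular _
        (ModuleCat.of (Localization.AtPrime Q) (Localization.AtPrime Q))
        hreg.toIsWeaklyRegular i hi)
  have hmem : ∀ y ∈ xs.map (algebraMap A (Localization.AtPrime Q)),
      y ∈ maximalIdeal (Localization.AtPrime Q) := by
    intro y hy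
    obtain ⟨a, ha, rfl⟩ := List.mem_map.mp hy
    rw [← Localization.AtPrime.map_eq_maximalIdeal]
    exact Ideal.mem_map_of_mem _ (hIQ (Ideal.subset_span ha))
  haveI := hG.isGorensteinLocalRing_localization Q
  have hGq := gorLocal_quotient_of_koszul (Localization.AtPrime Q)
    (xs.map (algebraMap A (Localization.AtPrime Q))) hmem hK
  haveI := hGq
  have hspan' : Ideal.ofList (xs.map (algebraMap A (Localization.AtPrime Q))) =
      (Ideal.ofList xs).map (algebraMap A (Localization.AtPrime Q)) :=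
    (Ideal.map_ofList _ _).symm
  have hG' : LocCoh.IsGorensteinLocalRing (Localization.AtPrime Q ⧸
      (Ideal.ofList xs).map (algebraMap A (Localization.AtPrime Q))) :=
    gorLocal_of_ringEquiv (Ideal.quotEquivOfEq hspan')
  refine gorLocal_atPrime_quotient (Ideal.ofList xs) Q hIQ q' ?_ hG'
  rw [hQdef, Ideal.map_comap_of_surjective _ Ideal.Quotient.mk_surjective q']

end CI

section Poly

open Groth.Agent.Lib.Helper5.KoszulGor Groth.Agent.Lib.Helper5.GorRing
  Groth.Agent.Lib.Helper5.GorUnmixed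

variable (K : Type u) [Field K] (n : ℕ)

theorem ofList_ofFn_eq_span_range {A : Type u} [CommRing A] {c : ℕ} (g : Fin c → A) :
    Ideal.ofList (List.ofFn g) = Ideal.span (Set.range g) := by
  unfold Ideal.ofList
  congr 1
  ext x
  simp [List.mem_ofFn]

/-- The link of a Cohen–Macaulay almost complete intersection is Gorenstein. -/
theorem almost_ci_link (c : ℕ) (g : Fin c → MvPolynomial (Fin n) K)
    (f : MvPolynomial (Fin n) K) (𝔠 I : Ideal (MvPolynomial (Fin n) K))
    (h𝔠g : Ideal.span (Set.range g) = 𝔠)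
    (h𝔠 : 𝔠.IsHomogeneous (GrSyz.stdGr K (Fin n))) (hI : I.IsHomogeneous (GrSyz.stdGr K (Fin n)))
    (h𝔠c : 𝔠.height = c) (hIc : I.height = c)
    [hcmI : LocCoh.IsCohenMacaulayRing (MvPolynomial (Fin n) K ⧸ I)]
    (hlt : 𝔠 < I) (hIf : I = 𝔠 ⊔ Ideal.span {f}) :
    (𝔠.colon (I : Set (MvPolynomial (Fin n) K))).height = c ∧
      LocCoh.IsGorensteinRing
        (MvPolynomial (Fin n) K ⧸ 𝔠.colon (I : Set (MvPolynomial (Fin n) K))) := by
  haveI : LocCoh.IsGorensteinRing K := gorRing_of_field K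
  haveI hGR : LocCoh.IsGorensteinRing (MvPolynomial (Fin n) K) := gorRing_mvPolynomial K n
  -- `R/𝔠` is Gorenstein
  have hlist : Ideal.ofList (List.ofFn g) = 𝔠 := by rw [ofList_ofFn_eq_span_range, h𝔠g]
  haveI hG𝔠 : LocCoh.IsGorensteinRing (MvPolynomial (Fin n) K ⧸ 𝔠) := by
    have hlen : ((List.ofFn g).length : ℕ∞) ≤ (Ideal.ofList (List.ofFn g)).height := by
      rw [hlist, h𝔠c, List.length_ofFn]
    haveI := gorRing_quotient_of_length_le_height (MvPolynomial (Fin n) K) (List.ofFn g) hlen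
    exact gorRing_of_ringEquiv (Ideal.quotEquivOfEq hlist)
  have hI𝔠 : ¬ I ≤ 𝔠 := not_le_of_gt hlt
  have hun := colon_unmixed K n 𝔠 I h𝔠 hI𝔠
  refine ⟨by rw [hun.1, h𝔠c], ?_⟩
  -- the double annihilator
  have hIu : ∀ p ∈ associatedPrimes (MvPolynomial (Fin n) K) (MvPolynomial (Fin n) K ⧸ I),
      p.height ≤ 𝔠.height := by
    intro p hp
    have hmin := mem_minimalPrimes_of_mem_associatedPrimes_quotient_cm I hp
    rw [Groth.Agent.Lib.Helper5.CMEquidim.height_eq_height_of_mem_minimalPrimes_cm K n I hI hmin,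
      hIc, h𝔠c]
  have hcc := colon_colon_eq 𝔠 I hlt.le hIu
  have h𝔠J : 𝔠 ≤ 𝔠.colon (I : Set (MvPolynomial (Fin n) K)) :=
    le_of_colon_eq 𝔠 (𝔠.colon (I : Set (MvPolynomial (Fin n) K))) I rfl
  have hĪ : I.map (Ideal.Quotient.mk 𝔠) = Ideal.span {Ideal.Quotient.mk 𝔠 f} := by
    rw [hIf, Ideal.map_sup, Ideal.map_quotient_self, bot_sup_eq, Ideal.map_span,
      Set.image_singleton]
  have annJ := map_mk_ann_of_colon_eq 𝔠 I (𝔠.colon (I : Set (MvPolynomial (Fin n) K)))
    hlt.le h𝔠J rfl
  have annI := map_mk_ann_of_colon_eq 𝔠 (𝔠.colon (I : Set (MvPolynomial (Fin n) K))) I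
    h𝔠J hlt.le hcc
  rw [hĪ] at annJ annI
  have hJ : ∀ t, t ∈ (𝔠.colon (I : Set (MvPolynomial (Fin n) K))).map (Ideal.Quotient.mk 𝔠) ↔
      t * Ideal.Quotient.mk 𝔠 f = 0 := by
    intro t
    rw [annJ]
    constructor
    · intro h
      exact h _ (Ideal.mem_span_singleton_self _)
    · intro h i hi
      obtain ⟨a, rfl⟩ := Ideal.mem_span_singleton'.mp hi
      rw [mul_left_comm, h, mul_zero]
  have hcm : LocCoh.IsCohenMacaulayRing
      ((MvPolynomial (Fin n) K ⧸ 𝔠) ⧸ Ideal.span {Ideal.Quotient.mk 𝔠 f}) := by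
    haveI h1 : LocCoh.IsCohenMacaulayRing
        ((MvPolynomial (Fin n) K ⧸ 𝔠) ⧸ I.map (Ideal.Quotient.mk 𝔠)) :=
      isCohenMacaulayRing_of_ringEquiv (DoubleQuot.quotQuotEquivQuotOfLE hlt.le).symm
    exact isCohenMacaulayRing_of_ringEquiv
      (R := (MvPolynomial (Fin n) K ⧸ 𝔠) ⧸ I.map (Ideal.Quotient.mk 𝔠)) (Ideal.quotEquivOfEq hĪ)
  haveI hGJ := isGorensteinRing_quotient_ann (MvPolynomial (Fin n) K ⧸ 𝔠)
    (Ideal.Quotient.mk 𝔠 f)
    ((𝔠.colon (I : Set (MvPolynomial (Fin n) K))).map (Ideal.Quotient.mk 𝔠)) hJ annI hcm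
  exact gorRing_of_ringEquiv (DoubleQuot.quotQuotEquivQuotOfLE h𝔠J)

end Poly

end Groth.Agent.Lib.H6xLink
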