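import Mathlib
import Groth.Agent.Lib.H6xLinkB
import Groth.Agent.Lib.H6xLinkD
import Groth.Agent.Lib.H5bCMe
import Groth.Agent.Lib.Helper28DepthBC
import Groth.Agent.Lib.Helper5RLR
import Groth.Agent.Lib.Helper5CM
import Groth.Agent.Lib.Helper28FGDim
import Groth.Agent.Lib.Helper28Unmixed

/-!
# Geometric linkage in a Gorenstein local ring: `T/(A₁ + A₂)` is Gorenstein (helper6)
-/

set_option autoImplicit false
universe u

open CategoryTheory CategoryTheory.Abelian IsLocalRing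

namespace Groth.Agent.Lib.H6xLink

open Groth.Agent.Lib.Helper28 Groth.Agent.Lib.Helper8.ExtBC Groth.Agent.Lib.Helper8.Bridge
  Groth.Agent.Lib.H5b Groth.Agent.Lib.Helper8.LC

section HeightSup

variable {T : Type u} [CommRing T] [IsNoetherianRing T]

/-- If `A₂ = ann A₁`, `A₁ = ann A₂` and `A₁ ∩ A₂ = 0` then `A₁ + A₂` has height at least one. -/
theorem one_le_height_sup (A₁ A₂ : Ideal T) (h12 : ∀ x, x ∈ A₂ ↔ ∀ a ∈ A₁, x * a = 0)
    (h21 : ∀ x, x ∈ A₁ ↔ ∀ a ∈ A₂, x * a = 0) (hinf : A₁ ⊓ A₂ = ⊥) :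
    1 ≤ (A₁ ⊔ A₂).height := by
  rw [Ideal.height_eq_inf_minimalPrimes]
  refine le_iInf₂ fun q hq => ?_
  have hqp : q.IsPrime := hq.isPrime
  rw [Order.one_le_iff_ne_zero, Ne, Ideal.height_eq_zero_iff]
  intro hmin
  have hass : q ∈ associatedPrimes T T := by
    apply Module.associatedPrimes.minimalPrimes_annihilator_subset_associatedPrimes (R := T) (M := T)
    have h0 : Module.annihilator T T = ⊥ := by
      rw [eq_bot_iff]
      intro a ha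
      have := Module.mem_annihilator.mp ha 1
      rw [smul_eq_mul, mul_one] at this
      exact (Submodule.mem_bot T).mpr this
    rw [h0]
    exact hmin
  rw [AssociatedPrimes.mem_iff, isAssociatedPrime_iff] at hass
  obtain ⟨-, y, hy⟩ := hass
  have hkill : ∀ a ∈ A₁ ⊔ A₂, y * a = 0 := by
    intro a ha
    have h1 : a ∈ q := hq.1.2 ha
    rw [hy, Submodule.mem_colon_singleton, Submodule.mem_bot, smul_eq_mul] at h1
    rw [mul_comm]
    exact h1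
  have hy1 : y ∈ A₁ := (h21 y).mpr fun a ha => hkill a (Ideal.mem_sup_right ha)
  have hy2 : y ∈ A₂ := (h12 y).mpr fun a ha => hkill a (Ideal.mem_sup_left ha)
  have hy0 : y = 0 := by
    have : y ∈ A₁ ⊓ A₂ := ⟨hy1, hy2⟩
    rw [hinf] at this
    exact (Submodule.mem_bot T).mp this
  apply hqp.ne_top
  rw [hy, hy0, Ideal.eq_top_iff_one, Submodule.mem_colon_singleton, smul_zero]
  exact Submodule.zero_mem _

end HeightSup

section Diag

variable (T : Type u) [CommRing T] [IsNoetherianRing T] (A₁ A₂ : Ideal T)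

/-- `T → T/A₁ × T/A₂` -/
def diagQ : T →ₗ[T] (T ⧸ A₁) × (T ⧸ A₂) := (Submodule.mkQ A₁).prod (Submodule.mkQ A₂)

theorem diagQ_apply (t : T) :
    diagQ T A₁ A₂ t = (Ideal.Quotient.mk A₁ t, Ideal.Quotient.mk A₂ t) := rfl

theorem diagQ_injective (hinf : A₁ ⊓ A₂ = ⊥) : Function.Injective (diagQ T A₁ A₂) := by
  rw [← LinearMap.ker_eq_bot, eq_bot_iff]
  intro t ht
  rw [LinearMap.mem_ker, diagQ_apply, Prod.mk_eq_zero, Ideal.Quotient.eq_zero_iff_mem,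
    Ideal.Quotient.eq_zero_iff_mem] at ht
  rw [← hinf]
  exact ⟨ht.1, ht.2⟩

theorem diagQ_exact : Function.Exact (diagQ T A₁ A₂) (glueG A₁ A₂) := by
  intro y
  rw [glue_exact A₁ A₂ y]
  constructor
  · rintro ⟨x, rfl⟩
    obtain ⟨t, rfl⟩ := Ideal.Quotient.mk_surjective x
    exact ⟨t, rfl⟩
  · rintro ⟨t, rfl⟩
    exact ⟨Ideal.Quotient.mk _ t, rfl⟩

end Diag

section LocalSup

variable (T : Type u) [CommRing T] [hT : LocCoh.IsGorensteinLocalRing T] (d : ℕ)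
  (hd : ringKrullDim T = d) (A₁ A₂ : Ideal T)

include hd in
/-- depth of `T/(A₁ + A₂)` is at least `d - 1`. -/
theorem depth_quotient_sup_ge (hinf : A₁ ⊓ A₂ = ⊥)
    (hd1 : (d : ℕ∞) ≤ LocCoh.depth T (T ⧸ A₁)) (hd2 : (d : ℕ∞) ≤ LocCoh.depth T (T ⧸ A₂)) :
    (((d - 1 : ℕ) : ℕ∞)) ≤ LocCoh.depth T (T ⧸ (A₁ ⊔ A₂)) := by
  have key := min_idealDepth_le_right (maximalIdeal T) (diagQ T A₁ A₂) (glueG A₁ A₂)
    (diagQ_injective T A₁ A₂ hinf) (glueG_surjective A₁ A₂) (diagQ_exact T A₁ A₂)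
  have hdT : LocCoh.idealDepth (maximalIdeal T) T = d :=
    (Groth.Agent.Lib.Helper29Gorenstein.depth_eq_and_hasInjectiveDimensionLT T d hd).1
  have hprod := min_le_idealDepth_prod (maximalIdeal T) (T ⧸ A₁) (T ⧸ A₂)
  refine le_trans ?_ key
  apply le_min
  · refine le_trans ?_ hprod
    refine le_trans ?_ (le_min hd1 hd2)
    exact_mod_cast Nat.sub_le d 1
  · rw [hdT, ENat.natCast_sub, Nat.cast_one]

end LocalSup

section ExtProd

variable {B : Type u} [CommRing B]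

theorem ext_prod_subsingleton (M N : Type u) [AddCommGroup M] [Module B M] [AddCommGroup N]
    [Module B N] (Y : ModuleCat.{u} B) (n : ℕ)
    (hM : Subsingleton (Ext.{u} (ModuleCat.of B M) Y n))
    (hN : Subsingleton (Ext.{u} (ModuleCat.of B N) Y n)) :
    Subsingleton (Ext.{u} (ModuleCat.of B (M × N)) Y n) := by
  have hex : Function.Exact (LinearMap.inl B M N) (LinearMap.snd B M N) := by
    intro y
    constructor
    · intro h
      refine ⟨y.1, ?_⟩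
      refine Prod.ext rfl ?_
      exact h.symm
    · rintro ⟨x, rfl⟩
      rfl
  have hS := Sfg_shortExact (LinearMap.inl B M N) (LinearMap.snd B M N) LinearMap.inl_injective
    LinearMap.snd_surjective hex
  refine ⟨fun a b => ?_⟩
  have key : ∀ x₂ : Ext.{u} (ModuleCat.of B (M × N)) Y n, x₂ = 0 := by
    intro x₂
    obtain ⟨x₃, hx₃⟩ := Ext.contravariant_sequence_exact₂ hS Y x₂ (Subsingleton.elim _ _)
    rw [← hx₃, Subsingleton.elim x₃ 0, Ext.comp_zero]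
  rw [key a, key b]

end ExtProd

section Kappa

variable (T : Type u) [CommRing T] [IsNoetherianRing T] (A₁ A₂ : Ideal T)

/-- the short exact sequence `0 → T → T/A₁ × T/A₂ → T/(A₁+A₂) → 0` -/
noncomputable abbrev supSC : ShortComplex (ModuleCat.{u} T) :=
  Sfg (diagQ T A₁ A₂) (glueG A₁ A₂) (diagQ_exact T A₁ A₂)

theorem supSC_shortExact (hinf : A₁ ⊓ A₂ = ⊥) : (supSC T A₁ A₂).ShortExact :=
  Sfg_shortExact _ _ (diagQ_injective T A₁ A₂ hinf) (glueG_surjective A₁ A₂)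
    (diagQ_exact T A₁ A₂)

/-- `T → Ext^1(T/(A₁+A₂), T)`, `t ↦ δ(mult by t)` -/
noncomputable def kappa (hinf : A₁ ⊓ A₂ = ⊥) :
    T →ₗ[T] Ext.{u} (ModuleCat.of T (T ⧸ (A₁ ⊔ A₂))) (ModuleCat.of T T) 1 :=
  (δ (supSC T A₁ A₂) (supSC_shortExact T A₁ A₂ hinf) (ModuleCat.of T T) 0 1 (add_zero 1)) ∘ₗ
    (ext0 (ModuleCat.of T T) (ModuleCat.of T T)).symm.toLinearMap ∘ₗ (LinearMap.lsmul T T)

theorem kappa_surjective (hinf : A₁ ⊓ A₂ = ⊥)
    (h1 : Subsingleton (Ext.{u} (ModuleCat.of T (T ⧸ A₁)) (ModuleCat.of T T) 1))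
    (h2 : Subsingleton (Ext.{u} (ModuleCat.of T (T ⧸ A₂)) (ModuleCat.of T T) 1)) :
    Function.Surjective (kappa T A₁ A₂ hinf) := by
  intro x₃
  have hX₂ := ext_prod_subsingleton (T ⧸ A₁) (T ⧸ A₂) (ModuleCat.of T T) 1 h1 h2
  obtain ⟨x₁, hx₁⟩ := Ext.contravariant_sequence_exact₃ (supSC_shortExact T A₁ A₂ hinf)
    (ModuleCat.of T T) x₃ (Subsingleton.elim _ _) (add_zero 1)
  refine ⟨ext0 (ModuleCat.of T T) (ModuleCat.of T T) x₁ 1, ?_⟩
  unfold kappa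
  rw [LinearMap.comp_apply, LinearMap.comp_apply]
  have h3 : LinearMap.lsmul T T (ext0 (ModuleCat.of T T) (ModuleCat.of T T) x₁ 1) =
      ext0 (ModuleCat.of T T) (ModuleCat.of T T) x₁ := by
    apply LinearMap.ext
    intro s
    rw [LinearMap.lsmul_apply, smul_eq_mul, mul_comm, ← smul_eq_mul, ← map_smul, smul_eq_mul,
      mul_one]
  rw [h3, LinearEquiv.coe_coe, LinearEquiv.symm_apply_apply]
  exact hx₁

theorem ker_kappa (hinf : A₁ ⊓ A₂ = ⊥) (h12 : ∀ x, x ∈ A₂ ↔ ∀ a ∈ A₁, x * a = 0)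
    (h21 : ∀ x, x ∈ A₁ ↔ ∀ a ∈ A₂, x * a = 0) :
    LinearMap.ker (kappa T A₁ A₂ hinf) = A₁ ⊔ A₂ := by
  ext t
  rw [LinearMap.mem_ker]
  have hk : kappa T A₁ A₂ hinf t =
      δ (supSC T A₁ A₂) (supSC_shortExact T A₁ A₂ hinf) (ModuleCat.of T T) 0 1 (add_zero 1)
        (Ext.mk₀ (ModuleCat.ofHom (LinearMap.lsmul T T t))) := rfl
  rw [hk, (exact_fStar_δ (supSC T A₁ A₂) (supSC_shortExact T A₁ A₂ hinf) (ModuleCat.of T T)) _]
  constructor
  · rintro ⟨x₂, hx₂⟩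
    obtain ⟨ψ, rfl⟩ := (Ext.mk₀_bijective _ _).surjective x₂
    change (Ext.mk₀ (supSC T A₁ A₂).f).comp (Ext.mk₀ ψ) (zero_add 0) = _ at hx₂
    rw [Ext.mk₀_comp_mk₀] at hx₂
    have h2 := (Ext.mk₀_bijective _ _).injective hx₂
    have h3 : ψ.hom (diagQ T A₁ A₂ 1) = t := by
      have := congrArg (fun g => g.hom (1 : T)) h2
      simpa using this
    have hsplit : diagQ T A₁ A₂ 1 = ((Ideal.Quotient.mk A₁ 1, 0) : (T ⧸ A₁) × (T ⧸ A₂)) +
        (0, Ideal.Quotient.mk A₂ 1) := by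
      rw [diagQ_apply, Prod.mk_add_mk, add_zero, zero_add]
    rw [hsplit, map_add] at h3
    rw [← h3]
    refine Submodule.add_mem_sup ?_ ?_ |> fun h => by rw [sup_comm]; exact h
    · rw [h12]
      intro a ha
      rw [mul_comm, ← smul_eq_mul, ← map_smul, Prod.smul_mk, smul_zero]
      have : a • (Ideal.Quotient.mk A₁ 1) = 0 := by
        rw [← Ideal.Quotient.mk_eq_mk, ← Submodule.Quotient.mk_smul, smul_eq_mul, mul_one,
          Submodule.Quotient.mk_eq_zero]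
        exact ha
      rw [this]
      exact map_zero _
    · rw [h21]
      intro a ha
      rw [mul_comm, ← smul_eq_mul, ← map_smul, Prod.smul_mk, smul_zero]
      have : a • (Ideal.Quotient.mk A₂ 1) = 0 := by
        rw [← Ideal.Quotient.mk_eq_mk, ← Submodule.Quotient.mk_smul, smul_eq_mul, mul_one,
          Submodule.Quotient.mk_eq_zero]
        exact ha
      rw [this]
      exact map_zero _
  · intro ht
    obtain ⟨a₁, ha₁, a₂, ha₂, rfl⟩ := Submodule.mem_sup.mp ht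
    have hk1 : A₁ ≤ LinearMap.ker (LinearMap.lsmul T T a₂) := by
      intro s hs
      rw [LinearMap.mem_ker, LinearMap.lsmul_apply, smul_eq_mul]
      exact (h12 a₂).mp ha₂ s hs
    have hk2 : A₂ ≤ LinearMap.ker (LinearMap.lsmul T T a₁) := by
      intro s hs
      rw [LinearMap.mem_ker, LinearMap.lsmul_apply, smul_eq_mul]
      exact (h21 a₁).mp ha₁ s hs
    let ψ : (T ⧸ A₁) × (T ⧸ A₂) →ₗ[T] T :=
      (A₁.liftQ (LinearMap.lsmul T T a₂) hk1).coprod (A₂.liftQ (LinearMap.lsmul T T a₁) hk2)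
    refine ⟨Ext.mk₀ (ModuleCat.ofHom ψ), ?_⟩
    change (Ext.mk₀ (supSC T A₁ A₂).f).comp (Ext.mk₀ (ModuleCat.ofHom ψ)) (zero_add 0) = _
    rw [Ext.mk₀_comp_mk₀]
    congr 1
    apply ModuleCat.hom_ext
    apply LinearMap.ext
    intro s
    change ψ (diagQ T A₁ A₂ s) = (a₁ + a₂) * s
    rw [diagQ_apply]
    change a₂ * s + a₁ * s = (a₁ + a₂) * s
    ring

end Kappa

section GorSup

variable (T : Type u) [CommRing T] [hT : LocCoh.IsGorensteinLocalRing T] (d : ℕ)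
  (hd : ringKrullDim T = d)

include hd in
/-- Geometric linkage, local form: `T/(A₁+A₂)` is Gorenstein and `A₁+A₂` has height one. -/
theorem gorLocal_quotient_sup (A₁ A₂ : Ideal T) (h12 : ∀ x, x ∈ A₂ ↔ ∀ a ∈ A₁, x * a = 0)
    (h21 : ∀ x, x ∈ A₁ ↔ ∀ a ∈ A₂, x * a = 0) (hinf : A₁ ⊓ A₂ = ⊥) (hne : A₁ ⊔ A₂ ≠ ⊤)
    (hd1 : (d : ℕ∞) ≤ LocCoh.depth T (T ⧸ A₁)) (hd2 : (d : ℕ∞) ≤ LocCoh.depth T (T ⧸ A₂)) :
    LocCoh.IsGorensteinLocalRing (T ⧸ (A₁ ⊔ A₂)) ∧ (A₁ ⊔ A₂).height = 1 := by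
  haveI : IsLocalRing (T ⧸ (A₁ ⊔ A₂)) := Groth.Agent.Lib.Helper5.isLocalRing_quotient hne
  have hπ : Function.Surjective (algebraMap T (T ⧸ (A₁ ⊔ A₂))) := Ideal.Quotient.mk_surjective
  haveI : IsLocalHom (algebraMap T (T ⧸ (A₁ ⊔ A₂))) := IsLocalHom.of_surjective _ hπ
  haveI hcmT : LocCoh.IsCohenMacaulayLocalRing T := Groth.Agent.S0341.result T
  have hht1 := one_le_height_sup A₁ A₂ h12 h21 hinf
  have hsum := height_add_ringKrullDim_quotient_eq_of_isCohenMacaulayLocalRing (A₁ ⊔ A₂) hne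
  obtain ⟨e, he⟩ := Groth.Agent.Lib.Helper5.exists_nat_ringKrullDim_eq (T ⧸ (A₁ ⊔ A₂))
  obtain ⟨h, hh⟩ := ENat.ne_top_iff_exists.mp (Ideal.height_ne_top hne)
  rw [he, ← hh, hd] at hsum
  have hsum' : h + e = d := by exact_mod_cast hsum
  have hh1 : 1 ≤ h := by
    rw [← hh] at hht1
    exact_mod_cast hht1
  have h1 := depth_quotient_sup_ge T d hd A₁ A₂ hinf hd1 hd2
  have h2 : LocCoh.depth T (T ⧸ (A₁ ⊔ A₂)) = LocCoh.depth (T ⧸ (A₁ ⊔ A₂)) (T ⧸ (A₁ ⊔ A₂)) :=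
    depth_eq_depth_of_isLocalHom_of_finite (A := T) (B := T ⧸ (A₁ ⊔ A₂)) (M := T ⧸ (A₁ ⊔ A₂))
  rw [h2] at h1
  have hdepthle := Groth.Agent.Lib.Helper5.depth_le_supportDim (A := T ⧸ (A₁ ⊔ A₂))
    (M := T ⧸ (A₁ ⊔ A₂))
  rw [Module.supportDim_self_eq_ringKrullDim, he] at hdepthle
  have h1' : (((d - 1 : ℕ) : ℕ∞) : WithBot ℕ∞) ≤
      ((LocCoh.depth (T ⧸ (A₁ ⊔ A₂)) (T ⧸ (A₁ ⊔ A₂)) : ℕ∞) : WithBot ℕ∞) :=
    WithBot.coe_le_coe.mpr h1
  have hde : d - 1 ≤ e := by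
    have := h1'.trans hdepthle
    exact_mod_cast this
  have he' : e = d - 1 := by omega
  have hh' : h = 1 := by omega
  have hdpos : 1 ≤ d := by omega
  refine ⟨?_, by rw [← hh, hh']; rfl⟩
  have hdim : ringKrullDim (T ⧸ (A₁ ⊔ A₂)) = ((d - 1 : ℕ) : WithBot ℕ∞) := by rw [he, he']
  have hdep : ((LocCoh.depth (T ⧸ (A₁ ⊔ A₂)) (T ⧸ (A₁ ⊔ A₂)) : ℕ∞) : WithBot ℕ∞) =
      (((d - 1 : ℕ) : ℕ∞) : WithBot ℕ∞) := by
    apply le_antisymm _ h1'
    rw [← he']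
    exact hdepthle
  haveI hcm : LocCoh.IsCohenMacaulayLocalRing (T ⧸ (A₁ ⊔ A₂)) :=
    ⟨by rw [Module.supportDim_self_eq_ringKrullDim, hdim, hdep]; rfl⟩
  obtain ⟨E, _, _, f, hf⟩ := Groth.Agent.S0299.result (T ⧸ (A₁ ⊔ A₂))
    (ResidueField (T ⧸ (A₁ ⊔ A₂)))
  have hE1 := ext_subsingleton_of_depth T d hd (T ⧸ A₁) hd1 1 le_rfl hdpos
  have hE2 := ext_subsingleton_of_depth T d hd (T ⧸ A₂) hd2 1 le_rfl hdpos
  let θ₀ : (T ⧸ (A₁ ⊔ A₂)) ≃ₗ[T] Groth.Agent.Lib.Helper8.ExtLES.E 1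
      (ModuleCat.of T (T ⧸ (A₁ ⊔ A₂))) (ModuleCat.of T T) :=
    ((Submodule.quotEquivOfEq (A₁ ⊔ A₂) (LinearMap.ker (kappa T A₁ A₂ hinf))
      (ker_kappa T A₁ A₂ hinf h12 h21).symm).trans
      ((kappa T A₁ A₂ hinf).quotKerEquivOfSurjective
        (kappa_surjective T A₁ A₂ hinf hE1 hE2))).trans
      (Ψ 1 (ModuleCat.of T (T ⧸ (A₁ ⊔ A₂))) (ModuleCat.of T T)).symm
  have hidx : d - (d - 1) = 1 := by omega
  have θ : (T ⧸ (A₁ ⊔ A₂)) ≃ₗ[T] Groth.Agent.Lib.Helper8.ExtLES.E (d - (d - 1))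
      (ModuleCat.of T (T ⧸ (A₁ ⊔ A₂))) (ModuleCat.of T T) := by
    rw [hidx]
    exact θ₀
  obtain ⟨eK⟩ := canon_of_iso (T ⧸ (A₁ ⊔ A₂)) (d - 1) E f hf T hπ d hd (Nat.sub_le d 1)
    (T ⧸ (A₁ ⊔ A₂)) θ
  exact (Groth.Agent.S7701.result (T ⧸ (A₁ ⊔ A₂)) (d - 1) hdim E f hf (T ⧸ (A₁ ⊔ A₂)) eK).mpr
    ⟨LinearEquiv.refl _ _⟩

end GorSup

end Groth.Agent.Lib.H6xLink
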