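import Mathlib
import Groth.Agent.Lib.H6xLinkF
import Groth.Agent.Lib.H6xLinkG

/-!
# Geometric linkage: the sum of geometrically linked ideals is Gorenstein (helper6)
-/

set_option autoImplicit false
universe u

open IsLocalRing

namespace Groth.Agent.Lib.H6xLink

open Groth.Agent.Lib.Helper28 Groth.Agent.Lib.H5b

section SupGlobal

variable (S : Type u) [CommRing S] [hS : LocCoh.IsGorensteinRing S]

/-- the local input at a prime containing `I + J` -/
theorem local_sup (I J : Ideal S)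
    (hJ : ∀ x, x ∈ J ↔ ∀ i ∈ I, x * i = 0) (hI : ∀ x, x ∈ I ↔ ∀ j ∈ J, x * j = 0)
    (hinf : I ⊓ J = ⊥) (hcmI : LocCoh.IsCohenMacaulayRing (S ⧸ I))
    (hcmJ : LocCoh.IsCohenMacaulayRing (S ⧸ J)) (Q : Ideal S) [hQ : Q.IsPrime] (hle : I ⊔ J ≤ Q) :
    LocCoh.IsGorensteinLocalRing
        (Localization.AtPrime Q ⧸ (I ⊔ J).map (algebraMap S (Localization.AtPrime Q))) ∧
      ((I ⊔ J).map (algebraMap S (Localization.AtPrime Q))).height = 1 := by
  haveI : IsNoetherianRing S := inferInstance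
  haveI hTG : LocCoh.IsGorensteinLocalRing (Localization.AtPrime Q) :=
    hS.isGorensteinLocalRing_localization Q
  obtain ⟨d, hd⟩ : ∃ d : ℕ, Q.height = d := by
    obtain ⟨d, hd⟩ := ENat.ne_top_iff_exists.mp (Ideal.height_ne_top hQ.ne_top)
    exact ⟨d, hd.symm⟩
  have hdim : ringKrullDim (Localization.AtPrime Q) = d := by
    rw [IsLocalization.AtPrime.ringKrullDim_eq_height Q (Localization.AtPrime Q), hd]
    rfl
  have hinf' : I.map (algebraMap S (Localization.AtPrime Q)) ⊓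
      J.map (algebraMap S (Localization.AtPrime Q)) = ⊥ := by
    rw [← Ideal.localized'_eq_map (Localization.AtPrime Q) Q.primeCompl I,
      ← Ideal.localized'_eq_map (Localization.AtPrime Q) Q.primeCompl J,
      ← Submodule.localized'_inf, hinf, Submodule.localized'_bot]
  have hne : I.map (algebraMap S (Localization.AtPrime Q)) ⊔
      J.map (algebraMap S (Localization.AtPrime Q)) ≠ ⊤ := by
    intro htop
    have h1 : I.map (algebraMap S (Localization.AtPrime Q)) ⊔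
        J.map (algebraMap S (Localization.AtPrime Q)) ≤ maximalIdeal (Localization.AtPrime Q) := by
      rw [← Localization.AtPrime.map_eq_maximalIdeal, ← Ideal.map_sup]
      exact Ideal.map_mono hle
    rw [htop, top_le_iff] at h1
    exact Ideal.IsPrime.ne_top' h1
  have key := gorLocal_quotient_sup (Localization.AtPrime Q) d hdim
    (I.map (algebraMap S (Localization.AtPrime Q))) (J.map (algebraMap S (Localization.AtPrime Q)))
    (map_ann Q.primeCompl (Localization.AtPrime Q) I J hJ)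
    (map_ann Q.primeCompl (Localization.AtPrime Q) J I hI) hinf' hne
    (depth_quotient_map_ge I J hI hcmI Q d hd) (depth_quotient_map_ge J I hJ hcmJ Q d hd)
  rw [← Ideal.map_sup] at key
  exact key

/-- Geometric linkage in a Gorenstein ring. -/
theorem gorRing_quotient_sup (I J : Ideal S)
    (hJ : ∀ x, x ∈ J ↔ ∀ i ∈ I, x * i = 0) (hI : ∀ x, x ∈ I ↔ ∀ j ∈ J, x * j = 0)
    (hinf : I ⊓ J = ⊥) (hcmI : LocCoh.IsCohenMacaulayRing (S ⧸ I))
    (hcmJ : LocCoh.IsCohenMacaulayRing (S ⧸ J)) :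
    LocCoh.IsGorensteinRing (S ⧸ (I ⊔ J)) ∧ ∀ Q ∈ (I ⊔ J).minimalPrimes, Q.height = 1 := by
  haveI : IsNoetherianRing S := inferInstance
  haveI hScm : LocCoh.IsCohenMacaulayRing S :=
    Groth.Agent.Lib.Helper5.GorUnmixed.isCohenMacaulayRing_of_isGorensteinRing S
  constructor
  · refine { isGorensteinLocalRing_localization := ?_ }
    intro q' hq'
    have hQp : (q'.comap (Ideal.Quotient.mk (I ⊔ J))).IsPrime := Ideal.comap_isPrime _ _
    have hle : I ⊔ J ≤ q'.comap (Ideal.Quotient.mk (I ⊔ J)) := by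
      intro a ha
      rw [Ideal.mem_comap, Ideal.Quotient.eq_zero_iff_mem.mpr ha]
      exact zero_mem _
    obtain ⟨Q, hQdef⟩ : ∃ Q : Ideal S, Q = q'.comap (Ideal.Quotient.mk (I ⊔ J)) := ⟨_, rfl⟩
    rw [← hQdef] at hQp hle
    haveI := hQp
    have hG := (local_sup S I J hJ hI hinf hcmI hcmJ Q hle).1
    refine Groth.Agent.Lib.Helper5.KoszulGor.gorLocal_atPrime_quotient (I ⊔ J) Q hle q' ?_ hG
    rw [hQdef, Ideal.map_comap_of_surjective _ Ideal.Quotient.mk_surjective q']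
  · intro Q hQ
    haveI hQp : Q.IsPrime := hQ.1.1
    obtain ⟨𝔮, h𝔮, h𝔮Q⟩ :=
      Groth.Agent.Lib.Helper5.GorUnmixed.exists_of_mem_minimalPrimes (I ⊔ J) hQ
    haveI h𝔮p : 𝔮.IsPrime := h𝔮.1.1
    rw [height_eq_add_of_cm (I ⊔ J) 𝔮 Q h𝔮Q.symm, Ideal.height_eq_zero_iff.mpr h𝔮,
      (local_sup S I J hJ hI hinf hcmI hcmJ Q hQ.1.2).2, zero_add]

end SupGlobal

section PolySup

open Groth.Agent.Lib.Helper5.GorRing Groth.Agent.Lib.Helper5.GorUnmixed
  Groth.Agent.Lib.Helper5.CMEquidim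

variable (K : Type u) [Field K] (n : ℕ)

/-- `(I₁ ∩ I₂) : I₁ = I₂` for CM ideals of the same height without common minimal primes. -/
theorem colon_inf_eq (I₁ I₂ : Ideal (MvPolynomial (Fin n) K))
    (hI₂ : I₂.IsHomogeneous (GrSyz.stdGr K (Fin n)))
    [LocCoh.IsCohenMacaulayRing (MvPolynomial (Fin n) K ⧸ I₂)]
    (hht : I₂.height ≤ I₁.height)
    (hdisj : Disjoint I₁.minimalPrimes I₂.minimalPrimes) :
    (I₁ ⊓ I₂).colon (I₁ : Set (MvPolynomial (Fin n) K)) = I₂ := by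
  apply le_antisymm
  · intro x hx
    rw [Submodule.mem_colon] at hx
    by_contra hxI
    have hx0 : (Ideal.Quotient.mk I₂ x) ≠ 0 := by
      rwa [Ne, Ideal.Quotient.eq_zero_iff_mem]
    obtain ⟨P, hP, hle⟩ := exists_le_isAssociatedPrime_of_isNoetherianRing
      (MvPolynomial (Fin n) K) (Ideal.Quotient.mk I₂ x) hx0
    have hPp : P.IsPrime := hP.isPrime
    have hI₁P : I₁ ≤ P := by
      intro i hi
      apply hle
      rw [Submodule.mem_colon_singleton, Submodule.mem_bot]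
      have h1 : i • (Ideal.Quotient.mk I₂ x) = Ideal.Quotient.mk I₂ (i * x) := rfl
      rw [h1, Ideal.Quotient.eq_zero_iff_mem, mul_comm]
      exact (hx i hi).2
    have hPmin₂ : P ∈ I₂.minimalPrimes :=
      mem_minimalPrimes_of_mem_associatedPrimes_quotient_cm I₂ hP
    have hPht : P.height = I₂.height :=
      height_eq_height_of_mem_minimalPrimes_cm K n I₂ hI₂ hPmin₂
    have hPmin₁ : P ∈ I₁.minimalPrimes :=
      Ideal.mem_minimalPrimes_of_height_le hI₁P (hPht.le.trans hht)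
    exact Set.disjoint_left.mp hdisj hPmin₁ hPmin₂
  · intro x hx
    rw [Submodule.mem_colon]
    intro i hi
    rw [smul_eq_mul]
    exact ⟨I₁.mul_mem_left x hi, I₂.mul_mem_right i hx⟩

/-- Geometric linkage (S18869). -/
theorem geometric_link (c : ℕ) (I₁ I₂ : Ideal (MvPolynomial (Fin n) K))
    (hI₁ : I₁.IsHomogeneous (GrSyz.stdGr K (Fin n))) (hI₂ : I₂.IsHomogeneous (GrSyz.stdGr K (Fin n)))
    [hcm₁ : LocCoh.IsCohenMacaulayRing (MvPolynomial (Fin n) K ⧸ I₁)]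
    [hcm₂ : LocCoh.IsCohenMacaulayRing (MvPolynomial (Fin n) K ⧸ I₂)]
    (h₁ : I₁.height = c) (h₂ : I₂.height = c)
    (hdisj : Disjoint I₁.minimalPrimes I₂.minimalPrimes)
    [hG : LocCoh.IsGorensteinRing (MvPolynomial (Fin n) K ⧸ (I₁ ⊓ I₂))] :
    (I₁ ⊔ I₂).height = c + 1 ∧
      LocCoh.IsGorensteinRing (MvPolynomial (Fin n) K ⧸ (I₁ ⊔ I₂)) := by
  have h𝔠hom : (I₁ ⊓ I₂).IsHomogeneous (GrSyz.stdGr K (Fin n)) := hI₁.inf hI₂
  have hcol1 : (I₁ ⊓ I₂).colon (I₁ : Set (MvPolynomial (Fin n) K)) = I₂ :=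
    colon_inf_eq K n I₁ I₂ hI₂ (by rw [h₁, h₂]) hdisj
  have hcol2 : (I₁ ⊓ I₂).colon (I₂ : Set (MvPolynomial (Fin n) K)) = I₁ := by
    have := colon_inf_eq K n I₂ I₁ hI₁ (by rw [h₁, h₂]) hdisj.symm
    rwa [inf_comm] at this
  have hann12 := map_mk_ann_of_colon_eq (I₁ ⊓ I₂) I₁ I₂ inf_le_left inf_le_right hcol1
  have hann21 := map_mk_ann_of_colon_eq (I₁ ⊓ I₂) I₂ I₁ inf_le_right inf_le_left hcol2
  have hinf : I₁.map (Ideal.Quotient.mk (I₁ ⊓ I₂)) ⊓ I₂.map (Ideal.Quotient.mk (I₁ ⊓ I₂)) = ⊥ := by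
    rw [eq_bot_iff]
    intro x hx
    obtain ⟨a, rfl⟩ := Ideal.Quotient.mk_surjective x
    have h1 := (Ideal.mem_quotient_iff_mem inf_le_left).mp hx.1
    have h2 := (Ideal.mem_quotient_iff_mem inf_le_right).mp hx.2
    rw [Ideal.mem_bot, Ideal.Quotient.eq_zero_iff_mem]
    exact ⟨h1, h2⟩
  haveI hc1 : LocCoh.IsCohenMacaulayRing ((MvPolynomial (Fin n) K ⧸ (I₁ ⊓ I₂)) ⧸
      I₁.map (Ideal.Quotient.mk (I₁ ⊓ I₂))) :=
    isCohenMacaulayRing_of_ringEquiv
      (DoubleQuot.quotQuotEquivQuotOfLE (inf_le_left : I₁ ⊓ I₂ ≤ I₁)).symm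
  haveI hc2 : LocCoh.IsCohenMacaulayRing ((MvPolynomial (Fin n) K ⧸ (I₁ ⊓ I₂)) ⧸
      I₂.map (Ideal.Quotient.mk (I₁ ⊓ I₂))) :=
    isCohenMacaulayRing_of_ringEquiv
      (DoubleQuot.quotQuotEquivQuotOfLE (inf_le_right : I₁ ⊓ I₂ ≤ I₂)).symm
  obtain ⟨hGsup, hht⟩ := gorRing_quotient_sup (MvPolynomial (Fin n) K ⧸ (I₁ ⊓ I₂))
    (I₁.map (Ideal.Quotient.mk (I₁ ⊓ I₂))) (I₂.map (Ideal.Quotient.mk (I₁ ⊓ I₂)))
    hann12 hann21 hinf hc1 hc2
  rw [← Ideal.map_sup] at hGsup hht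
  have hle : I₁ ⊓ I₂ ≤ I₁ ⊔ I₂ := inf_le_left.trans le_sup_left
  refine ⟨?_, ?_⟩
  swap
  · haveI := hGsup
    exact gorRing_of_ringEquiv (DoubleQuot.quotQuotEquivQuotOfLE hle)
  -- heights
  haveI hcm𝔠 : LocCoh.IsCohenMacaulayRing (MvPolynomial (Fin n) K ⧸ (I₁ ⊓ I₂)) :=
    isCohenMacaulayRing_of_isGorensteinRing _
  have h𝔠ht : (I₁ ⊓ I₂).height = c := by
    apply le_antisymm
    · rw [← h₁]
      exact Ideal.height_mono inf_le_left
    · rw [Ideal.height_eq_inf_minimalPrimes]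
      refine le_iInf₂ fun P hP => ?_
      have hPp : P.IsPrime := hP.1.1
      rcases (Ideal.IsPrime.inf_le hPp).mp hP.1.2 with h | h
      · rw [← h₁]
        exact Ideal.height_mono h
      · rw [← h₂]
        exact Ideal.height_mono h
  have hne₁ : I₁ ≠ ⊤ := by
    intro h
    rw [h, Ideal.height_top] at h₁
    exact ENat.top_ne_natCast c h₁
  have hne₂ : I₂ ≠ ⊤ := by
    intro h
    rw [h, Ideal.height_top] at h₂
    exact ENat.top_ne_natCast c h₂
  have hne : I₁ ⊔ I₂ ≠ ⊤ := by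
    intro htop
    have hsurj : Function.Surjective
        (MvPolynomial.constantCoeff : MvPolynomial (Fin n) K →+* K) :=
      fun a => ⟨MvPolynomial.C a, MvPolynomial.constantCoeff_C _ a⟩
    have hmax := RingHom.ker_isMaximal_of_surjective
      (MvPolynomial.constantCoeff : MvPolynomial (Fin n) K →+* K) hsurj
    have h1 : I₁ ⊔ I₂ ≤ RingHom.ker
        (MvPolynomial.constantCoeff : MvPolynomial (Fin n) K →+* K) :=
      sup_le (le_ker_constantCoeff_of_isHomogeneous K n I₁ hI₁ hne₁)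
        (le_ker_constantCoeff_of_isHomogeneous K n I₂ hI₂ hne₂)
    rw [htop, top_le_iff] at h1
    exact hmax.ne_top h1
  have hPht : ∀ P ∈ (I₁ ⊔ I₂).minimalPrimes, P.height = c + 1 := by
    intro P hP
    haveI hPp : P.IsPrime := hP.1.1
    have h𝔠P : I₁ ⊓ I₂ ≤ P := hle.trans hP.1.2
    rw [height_eq_height_map_add_height_of_le K n (I₁ ⊓ I₂) h𝔠hom P h𝔠P, h𝔠ht]
    have hcomap : ((I₁ ⊔ I₂).map (Ideal.Quotient.mk (I₁ ⊓ I₂))).comap
        (Ideal.Quotient.mk (I₁ ⊓ I₂)) = I₁ ⊔ I₂ := by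
      rw [Ideal.comap_map_of_surjective _ Ideal.Quotient.mk_surjective,
        ← RingHom.ker_eq_comap_bot, Ideal.mk_ker, sup_eq_left.mpr hle]
    have h1 := Ideal.comap_minimalPrimes_eq_of_surjective
      (f := Ideal.Quotient.mk (I₁ ⊓ I₂)) Ideal.Quotient.mk_surjective
      ((I₁ ⊔ I₂).map (Ideal.Quotient.mk (I₁ ⊓ I₂)))
    rw [hcomap] at h1
    rw [h1] at hP
    obtain ⟨Q, hQ, rfl⟩ := hP
    rw [Ideal.map_comap_of_surjective _ Ideal.Quotient.mk_surjective, hht Q hQ, add_comm]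
  obtain ⟨P, hP⟩ := Ideal.nonempty_minimalPrimes hne
  rw [Ideal.height_eq_inf_minimalPrimes]
  apply le_antisymm
  · exact (iInf₂_le P hP).trans (hPht P hP).le
  · exact le_iInf₂ fun Q hQ => (hPht Q hQ).ge

end PolySup

end Groth.Agent.Lib.H6xLink
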