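import Mathlib
import Groth.Agent.Lib.Helper29GorHull
import Groth.Agent.Lib.Helper8LC2
import Groth.Agent.S0308
import Groth.Agent.Lib.H6xLinkC
import Groth.Agent.Lib.Helper4HilbMultB
import Groth.Agent.Lib.Helper28LocLoc
import Groth.Agent.Lib.Helper5KoszulGor

/-!
# Lengths in zero-dimensional Gorenstein local rings (helper6)

`length_quotient_add_length_quotient_ann`: in a zero-dimensional Gorenstein local ring `A`, for
ideals `𝔟`, `𝔟'` with `𝔟' = ann 𝔟`: `ℓ(A) = ℓ(A/𝔟) + ℓ(A/𝔟')`.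
-/

set_option autoImplicit false
universe u

open CategoryTheory IsLocalRing

namespace Groth.Agent.Lib.H6xLink

open Groth.Agent.Lib.Helper29.GorHull Groth.Agent.Lib.Helper8.LC

section ArtGor

variable (A : Type u) [CommRing A] [hA : LocCoh.IsGorensteinLocalRing A]
  (hdim : ringKrullDim A = 0)

include hdim in
theorem isArtinianRing_of_dim_zero : IsArtinianRing A := by
  have hK : Ring.KrullDimLE 0 A := Ring.krullDimLE_iff.mpr hdim.le
  exact isArtinianRing_iff_krullDimLE_zero.mpr hK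

include hdim in
/-- `H^0_m(A) ≅ A` for a zero-dimensional local ring. -/
theorem nonempty_Hn_zero_equiv : Nonempty (Hn A 0 ≃ₗ[A] A) := by
  haveI := isArtinianRing_of_dim_zero A hdim
  have htop : DRing.torsionSub (maximalIdeal A) (ModuleCat.of A A) = ⊤ := by
    rw [eq_top_iff]
    intro x _
    obtain ⟨n, hn⟩ := IsArtinianRing.isNilpotent_jacobson_bot (R := A)
    rw [IsLocalRing.jacobson_eq_maximalIdeal ⊥ bot_ne_top] at hn
    refine ⟨n, fun a ha => ?_⟩
    rw [hn] at ha
    have ha0 : a = 0 := ha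
    rw [ha0, zero_smul]
  exact ⟨(ΦEquiv (maximalIdeal A) (ModuleCat.of A A)).trans
    ((LinearEquiv.ofEq _ _ htop).trans Submodule.topEquiv)⟩

include hdim in
/-- Matlis duality on lengths with `A` itself as the dualizing module. -/
theorem length_hom_self (M : Type u) [AddCommGroup M] [Module A M] [Module.Finite A M] :
    Module.length A (M →ₗ[A] A) = Module.length A M := by
  haveI := isArtinianRing_of_dim_zero A hdim
  have hdim' : ringKrullDim A = ((0 : ℕ) : WithBot ℕ∞) := by rw [hdim]; rfl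
  obtain ⟨f, hf⟩ := exists_isInjectiveHull_of_gorenstein A 0 hdim'
  obtain ⟨e⟩ := nonempty_Hn_zero_equiv A hdim
  rw [← Groth.Agent.S0308.result A (Hn A 0) f hf M]
  exact (LinearEquiv.congrRight e).symm.length_eq

include hdim in
/-- In a zero-dimensional Gorenstein local ring: `ℓ(A) = ℓ(A/𝔟) + ℓ(A/ann 𝔟)`. -/
theorem length_eq_add_of_ann (𝔟 𝔟' : Ideal A) (h : ∀ x, x ∈ 𝔟' ↔ ∀ i ∈ 𝔟, x * i = 0) :
    Module.length A A = Module.length A (A ⧸ 𝔟) + Module.length A (A ⧸ 𝔟') := by
  haveI := isArtinianRing_of_dim_zero A hdim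
  let ev : ((A ⧸ 𝔟) →ₗ[A] A) →ₗ[A] A := LinearMap.applyₗ (Ideal.Quotient.mk 𝔟 1)
  have hev : ∀ φ : (A ⧸ 𝔟) →ₗ[A] A, ev φ = φ (Ideal.Quotient.mk 𝔟 1) := fun φ => rfl
  have hφ : ∀ (φ : (A ⧸ 𝔟) →ₗ[A] A) (a : A), φ (Ideal.Quotient.mk 𝔟 a) = a * ev φ := by
    intro φ a
    have h1 : Ideal.Quotient.mk 𝔟 a = a • Ideal.Quotient.mk 𝔟 1 := by
      rw [← Ideal.Quotient.mk_eq_mk, ← Ideal.Quotient.mk_eq_mk, ← Submodule.Quotient.mk_smul,
        smul_eq_mul, mul_one]
    rw [h1, map_smul, smul_eq_mul, hev]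
  have hinj : Function.Injective ev := by
    rw [injective_iff_map_eq_zero]
    intro φ h0
    apply LinearMap.ext
    intro y
    obtain ⟨a, rfl⟩ := Ideal.Quotient.mk_surjective y
    rw [hφ, h0, mul_zero, LinearMap.zero_apply]
  have hrange : LinearMap.range ev = 𝔟' := by
    ext x
    rw [LinearMap.mem_range, h x]
    constructor
    · rintro ⟨φ, rfl⟩ i hi
      rw [mul_comm, ← hφ, Ideal.Quotient.eq_zero_iff_mem.mpr hi, map_zero]
    · intro hx
      have hle : 𝔟 ≤ LinearMap.ker (LinearMap.toSpanSingleton A A x) := by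
        intro i hi
        rw [LinearMap.mem_ker, LinearMap.toSpanSingleton_apply, smul_eq_mul, mul_comm]
        exact hx i hi
      refine ⟨Submodule.liftQ 𝔟 (LinearMap.toSpanSingleton A A x) hle, ?_⟩
      rw [hev]
      change Submodule.liftQ 𝔟 (LinearMap.toSpanSingleton A A x) hle (Submodule.Quotient.mk 1) = x
      rw [Submodule.liftQ_apply, LinearMap.toSpanSingleton_apply, one_smul]
  have h1 : Module.length A 𝔟' = Module.length A (A ⧸ 𝔟) := by
    rw [← length_hom_self A hdim (A ⧸ 𝔟)]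
    exact ((LinearEquiv.ofInjective ev hinj).trans (LinearEquiv.ofEq _ _ hrange)).symm.length_eq
  rw [← h1]
  exact Module.length_eq_add_of_exact 𝔟'.subtype 𝔟'.mkQ (Submodule.injective_subtype _)
    (Submodule.mkQ_surjective _) (LinearMap.exact_subtype_mkQ 𝔟')

end ArtGor

section LocLen

variable {R : Type u} [CommRing R]

open Groth.Agent.Lib.Helper4.HilbFun

/-- `(R/𝔞)_P` has the same length as `A/𝔞A` over `A = R_P/𝔠R_P`, for `𝔠 ≤ 𝔞`. -/
theorem locLength_eq_length_quot (𝔠 𝔞 P : Ideal R) [P.IsPrime] (h : 𝔠 ≤ 𝔞) :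
    locLength 𝔞 P =
      Module.length (Localization.AtPrime P ⧸ 𝔠.map (algebraMap R (Localization.AtPrime P)))
        ((Localization.AtPrime P ⧸ 𝔠.map (algebraMap R (Localization.AtPrime P))) ⧸
          (𝔞.map (algebraMap R (Localization.AtPrime P))).map
            (Ideal.Quotient.mk (𝔠.map (algebraMap R (Localization.AtPrime P))))) := by
  let e₁ : LocalizedModule P.primeCompl (R ⧸ 𝔞) ≃ₗ[Localization.AtPrime P]
      (Localization.AtPrime P ⧸ Submodule.localized' (Localization.AtPrime P) P.primeCompl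
        (Algebra.linearMap R (Localization.AtPrime P)) 𝔞) :=
    IsLocalizedModule.mapEquiv P.primeCompl
      (LocalizedModule.mkLinearMap P.primeCompl (R ⧸ 𝔞))
      (Submodule.toLocalizedQuotient' (Localization.AtPrime P) P.primeCompl
        (Algebra.linearMap R (Localization.AtPrime P)) 𝔞)
      (Localization.AtPrime P) (LinearEquiv.refl R (R ⧸ 𝔞))
  let e₂ : (Localization.AtPrime P ⧸ Submodule.localized' (Localization.AtPrime P) P.primeCompl
        (Algebra.linearMap R (Localization.AtPrime P)) 𝔞) ≃ₗ[Localization.AtPrime P]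
      (Localization.AtPrime P ⧸ 𝔞.map (algebraMap R (Localization.AtPrime P))) :=
    Submodule.quotEquivOfEq _ _ (Ideal.localized'_eq_map (Localization.AtPrime P) P.primeCompl 𝔞)
  let e₃ : (Localization.AtPrime P ⧸ 𝔞.map (algebraMap R (Localization.AtPrime P)))
      ≃ₗ[Localization.AtPrime P]
      ((Localization.AtPrime P ⧸ 𝔠.map (algebraMap R (Localization.AtPrime P))) ⧸
          (𝔞.map (algebraMap R (Localization.AtPrime P))).map
            (Ideal.Quotient.mk (𝔠.map (algebraMap R (Localization.AtPrime P))))) :=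
    (DoubleQuot.quotQuotEquivQuotOfLEₐ (Localization.AtPrime P)
      (Ideal.map_mono (f := algebraMap R (Localization.AtPrime P)) h)).symm.toLinearEquiv
  rw [locLength, (e₁.trans (e₂.trans e₃)).length_eq]
  exact Module.length_eq_of_surjective Ideal.Quotient.mk_surjective

/-- **Local length formula for linkage**: at a minimal prime `P` of a Gorenstein ideal `𝔠`,
`ℓ((R/𝔠)_P) = ℓ((R/I)_P) + ℓ((R/(𝔠:I))_P)`. -/
theorem locLength_eq_add_of_colon (𝔠 I : Ideal R) [hG : LocCoh.IsGorensteinRing (R ⧸ 𝔠)]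
    (h𝔠I : 𝔠 ≤ I) (P : Ideal R) [hPp : P.IsPrime] (hP : P ∈ 𝔠.minimalPrimes) :
    locLength 𝔠 P = locLength I P + locLength (𝔠.colon (I : Set R)) P := by
  have h𝔠J : 𝔠 ≤ 𝔠.colon (I : Set R) := le_of_colon_eq 𝔠 _ I rfl
  have h𝔠P : 𝔠 ≤ P := hP.1.2
  rw [locLength_eq_length_quot 𝔠 𝔠 P le_rfl, locLength_eq_length_quot 𝔠 I P h𝔠I,
    locLength_eq_length_quot 𝔠 _ P h𝔠J]
  -- the ring `A = R_P / 𝔠 R_P` is a localization of `R/𝔠` at the minimal prime `P/𝔠`
  have hprime : (P.map (Ideal.Quotient.mk 𝔠)).IsPrime :=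
    Ideal.map_isPrime_of_surjective Ideal.Quotient.mk_surjective (by rwa [Ideal.mk_ker])
  have inst : IsLocalization (Algebra.algebraMapSubmonoid (R ⧸ 𝔠) P.primeCompl)
      (Localization.AtPrime P ⧸ 𝔠.map (algebraMap R (Localization.AtPrime P))) := inferInstance
  have inst0 := inst
  rw [Groth.Agent.Lib.Helper28.algebraMapSubmonoid_quotient_primeCompl 𝔠 P h𝔠P] at inst
  haveI inst' : IsLocalization.AtPrime
      (Localization.AtPrime P ⧸ 𝔠.map (algebraMap R (Localization.AtPrime P)))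
      (P.map (Ideal.Quotient.mk 𝔠)) := inst
  haveI := hG.isGorensteinLocalRing_localization (P.map (Ideal.Quotient.mk 𝔠))
  haveI hA : LocCoh.IsGorensteinLocalRing
      (Localization.AtPrime P ⧸ 𝔠.map (algebraMap R (Localization.AtPrime P))) :=
    Groth.Agent.Lib.Helper5.GorRing.gorLocal_of_ringEquiv
      (IsLocalization.algEquiv (P.map (Ideal.Quotient.mk 𝔠)).primeCompl
        (Localization.AtPrime (P.map (Ideal.Quotient.mk 𝔠)))
        (Localization.AtPrime P ⧸ 𝔠.map (algebraMap R (Localization.AtPrime P)))).toRingEquiv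
  have hmin : P.map (Ideal.Quotient.mk 𝔠) ∈ minimalPrimes (R ⧸ 𝔠) := by
    rw [Ideal.minimalPrimes_eq_comap] at hP
    obtain ⟨Q, hQ, hQP⟩ := hP
    rw [← hQP, Ideal.map_comap_of_surjective _ Ideal.Quotient.mk_surjective]
    exact hQ
  have hdim : ringKrullDim
      (Localization.AtPrime P ⧸ 𝔠.map (algebraMap R (Localization.AtPrime P))) = 0 := by
    rw [Groth.Agent.Lib.Helper28.ringKrullDim_localization_quotient_eq_height 𝔠 P h𝔠P,
      Ideal.height_eq_zero_iff.mpr hmin]
    rfl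
  -- the annihilator relation in `A`
  have hmaps : ∀ 𝔞 : Ideal R, (𝔞.map (algebraMap R (Localization.AtPrime P))).map
      (Ideal.Quotient.mk (𝔠.map (algebraMap R (Localization.AtPrime P)))) =
      (𝔞.map (Ideal.Quotient.mk 𝔠)).map (algebraMap (R ⧸ 𝔠)
        (Localization.AtPrime P ⧸ 𝔠.map (algebraMap R (Localization.AtPrime P)))) := by
    intro 𝔞
    rw [Ideal.map_map, Ideal.map_map]
    congr 1
  have hann := map_ann (Algebra.algebraMapSubmonoid (R ⧸ 𝔠) P.primeCompl)
    (Localization.AtPrime P ⧸ 𝔠.map (algebraMap R (Localization.AtPrime P)))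
    (I.map (Ideal.Quotient.mk 𝔠)) ((𝔠.colon (I : Set R)).map (Ideal.Quotient.mk 𝔠))
    (map_mk_ann_of_colon_eq 𝔠 I _ h𝔠I h𝔠J rfl)
  rw [← hmaps, ← hmaps] at hann
  rw [← length_eq_add_of_ann _ hdim _ _ hann, Ideal.map_quotient_self]
  exact (Submodule.quotEquivOfEqBot _ rfl).length_eq

end LocLen

end Groth.Agent.Lib.H6xLink
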