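import Mathlib
import Groth.Agent.Lib.H6xLinkI
import Groth.Agent.Lib.Helper4HilbMultC
import Groth.Agent.Lib.Helper13HB
import Groth.Agent.Lib.H5bCM
import Groth.Agent.S10907

/-!
# Degrees of linked ideals (helper6)

`deg (𝔠 : I) = deg 𝔠 - deg I` for homogeneous ideals `𝔠 ≤ I` of the same height in a polynomial
ring with `R/𝔠` Gorenstein, via the associativity formula and the local length formula.
-/

set_option autoImplicit false
set_option linter.style.haveILetI false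
universe u

open MvPolynomial

namespace Groth.Agent.Lib.H6xLink

open Groth.Agent.Lib.Helper4.HilbFun

attribute [local instance] MvPolynomial.gradedAlgebra

section Hom

variable {K : Type u} [Field K] {σ : Type} [Fintype σ] [DecidableEq σ]

/-- homogeneity for the `ℤ`-indexed standard grading implies homogeneity for the `ℕ`-grading. -/
theorem isHomogeneous_nat_of_stdGr (I : Ideal (MvPolynomial σ K))
    (hI : I.IsHomogeneous (GrSyz.stdGr K σ)) : I.IsHomogeneous (homogeneousSubmodule σ K) := by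
  obtain ⟨S, hS⟩ := (Ideal.IsHomogeneous.iff_exists (GrSyz.stdGr K σ) I).mp hI
  rw [hS]
  apply Ideal.homogeneous_span
  rintro x ⟨⟨y, ⟨d, hy⟩⟩, -, rfl⟩
  show SetLike.IsHomogeneousElem (homogeneousSubmodule σ K) y
  by_cases hd : d < 0
  · have hy0 : y = 0 := by
      rw [Groth.Agent.Helper13HB.stdGr_neg d hd, Submodule.mem_bot] at hy
      exact hy
    exact ⟨0, by rw [hy0]; exact Submodule.zero_mem _⟩
  · obtain ⟨e, rfl⟩ := Int.eq_ofNat_of_zero_le (not_lt.1 hd)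
    rw [Groth.Agent.Helper13HB.stdGr_natCast] at hy
    exact ⟨e, hy⟩

omit [Fintype σ] [DecidableEq σ] in
/-- `(𝔠 : I)` is homogeneous for homogeneous `𝔠`, `I`. -/
theorem colon_ideal_isHomogeneous (𝔠 I : Ideal (MvPolynomial σ K))
    (h𝔠 : 𝔠.IsHomogeneous (homogeneousSubmodule σ K))
    (hI : I.IsHomogeneous (homogeneousSubmodule σ K)) :
    (𝔠.colon (I : Set (MvPolynomial σ K))).IsHomogeneous (homogeneousSubmodule σ K) := by
  classical
  intro i r hr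
  rw [Submodule.mem_colon] at hr ⊢
  intro x hx
  rw [← DirectSum.sum_support_decompose (homogeneousSubmodule σ K) x, Finset.smul_sum]
  refine Ideal.sum_mem _ fun δ _ => ?_
  have hxδ : (DirectSum.decompose (homogeneousSubmodule σ K) x δ : MvPolynomial σ K) ∈ I :=
    hI δ hx
  have h1 := h𝔠 (i + δ) (hr _ hxδ)
  rw [smul_eq_mul, DirectSum.coe_decompose_mul_add_of_right_mem _ (SetLike.coe_mem _)] at h1
  exact h1

end Hom

section Arith

theorem withBot_le_sub_of_add_eq {a : ℕ∞} {D : WithBot ℕ∞} {N c : ℕ}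
    (h : ((a : ℕ∞) : WithBot ℕ∞) + D = N) (hc : (c : ℕ∞) ≤ a) :
    D ≤ ((N - c : ℕ) : WithBot ℕ∞) := by
  induction D using WithBot.recBotCoe with
  | bot => exact bot_le
  | coe D =>
    have h' : a + D = N := by exact_mod_cast h
    have ha : a ≠ ⊤ := by rintro rfl; simp at h'
    have hD2 : D ≠ ⊤ := by rintro rfl; simp at h'
    lift a to ℕ using ha
    lift D to ℕ using hD2
    have : D ≤ N - c := by
      norm_cast at h' hc
      omega
    have h4 : ((D : ℕ) : ℕ∞) ≤ ((N - c : ℕ) : ℕ∞) := by exact_mod_cast this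
    exact WithBot.coe_le_coe.mpr h4

theorem enat_eq_sub_of_add_eq {a : ℕ∞} {N d : ℕ}
    (h : ((a : ℕ∞) : WithBot ℕ∞) + ((d : ℕ) : WithBot ℕ∞) = N) : a = ((N - d : ℕ) : ℕ∞) := by
  have h' : a + (d : ℕ∞) = N := by exact_mod_cast h
  have ha : a ≠ ⊤ := by rintro rfl; simp at h'
  lift a to ℕ using ha
  have : a = N - d := by
    norm_cast at h'
    omega
  exact_mod_cast this

end Arith

section Main

variable (K : Type u) [Field K] (n : ℕ)

/-- `𝔠 ≤ 𝔞` and `ht 𝔠 = c` imply `dim R/𝔞 ≤ n + 1 - c`. -/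
theorem dim_quotient_le (c : ℕ) (𝔠 𝔞 : Ideal (MvPolynomial (Fin (n + 1)) K))
    (h𝔠c : 𝔠.height = c) (h : 𝔠 ≤ 𝔞) :
    ringKrullDim (MvPolynomial (Fin (n + 1)) K ⧸ 𝔞) ≤ ((n + 1 - c : ℕ) : WithBot ℕ∞) := by
  by_cases htop : 𝔞 = ⊤
  · subst htop
    rw [ringKrullDim_eq_bot_of_subsingleton]
    exact bot_le
  · haveI hK : LocCoh.IsCohenMacaulayRing K := Groth.Agent.Lib.Helper28.isCohenMacaulayRing_of_field K
    haveI hR : LocCoh.IsCohenMacaulayRing (MvPolynomial (Fin (n + 1)) K) :=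
      Groth.Agent.Lib.Helper28.isCohenMacaulayRing_mvPolynomial_fin (n + 1)
    have h1 := Groth.Agent.Lib.Helper28.height_add_ringKrullDim_quotient_eq_of_forall_isMaximal_height_eq'
      (n + 1) (Groth.Agent.Lib.Helper28.height_eq_of_isMaximal_mvPolynomial_fin K (n + 1)) 𝔞 htop
    refine withBot_le_sub_of_add_eq h1 ?_
    rw [← h𝔠c]
    exact Ideal.height_mono h

/-- a prime `q ⊇ 𝔠` with `dim R/q = n + 1 - c = n + 1 - ht 𝔠` is a minimal prime of `𝔠`. -/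
theorem mem_minimalPrimes_of_dim_eq (c : ℕ) (hcn : c ≤ n)
    (𝔠 q : Ideal (MvPolynomial (Fin (n + 1)) K)) [hq : q.IsPrime]
    (h𝔠c : 𝔠.height = c) (h : 𝔠 ≤ q)
    (hdq : ringKrullDim (MvPolynomial (Fin (n + 1)) K ⧸ q) = ((n - c + 1 : ℕ) : WithBot ℕ∞)) :
    q ∈ 𝔠.minimalPrimes := by
  haveI hK : LocCoh.IsCohenMacaulayRing K := Groth.Agent.Lib.Helper28.isCohenMacaulayRing_of_field K
  haveI hR : LocCoh.IsCohenMacaulayRing (MvPolynomial (Fin (n + 1)) K) :=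
    Groth.Agent.Lib.Helper28.isCohenMacaulayRing_mvPolynomial_fin (n + 1)
  have h1 := Groth.Agent.Lib.Helper28.height_add_ringKrullDim_quotient_eq_of_forall_isMaximal_height_eq'
    (n + 1) (Groth.Agent.Lib.Helper28.height_eq_of_isMaximal_mvPolynomial_fin K (n + 1)) q
    hq.ne_top
  rw [hdq] at h1
  have h2 := enat_eq_sub_of_add_eq h1
  refine Ideal.mem_minimalPrimes_of_height_le h ?_
  rw [h2, h𝔠c]
  have : n + 1 - (n - c + 1) = c := by omega
  rw [this]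

open scoped Classical in
/-- **Degrees of linked ideals**: `e(R/𝔠) = e(R/I) + e(R/(𝔠:I))` in dimension `n + 1 - c`. -/
theorem mult_colon (c : ℕ) (hcn : c ≤ n) (𝔠 I : Ideal (MvPolynomial (Fin (n + 1)) K))
    (h𝔠 : 𝔠.IsHomogeneous (CohB1.polyGrading n K)) (hI : I.IsHomogeneous (CohB1.polyGrading n K))
    [hG : LocCoh.IsGorensteinRing (MvPolynomial (Fin (n + 1)) K ⧸ 𝔠)] (h𝔠c : 𝔠.height = c)
    (h𝔠I : 𝔠 ≤ I) :
    mult (n - c) 𝔠 = mult (n - c) I +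
      mult (n - c) (𝔠.colon (I : Set (MvPolynomial (Fin (n + 1)) K))) := by
  have h𝔠J : 𝔠 ≤ 𝔠.colon (I : Set (MvPolynomial (Fin (n + 1)) K)) := le_of_colon_eq 𝔠 _ I rfl
  have hJ := colon_ideal_isHomogeneous 𝔠 I h𝔠 hI
  have hnc : n + 1 - c = n - c + 1 := by omega
  have hfin : 𝔠.minimalPrimes.Finite := Ideal.finite_minimalPrimes_of_isNoetherianRing _ 𝔠
  haveI : Finite ↥𝔠.minimalPrimes := hfin.to_subtype
  let e := Finite.equivFin ↥𝔠.minimalPrimes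
  let p : Fin (Nat.card ↥𝔠.minimalPrimes) → Ideal (MvPolynomial (Fin (n + 1)) K) :=
    fun i => (e.symm i).1
  haveI hp : ∀ i, (p i).IsPrime := fun i => (e.symm i).2.1.1
  have hpmem : ∀ i, p i ∈ 𝔠.minimalPrimes := fun i => (e.symm i).2
  have hpinj : Function.Injective p := fun i j hij => e.symm.injective (Subtype.ext hij)
  have hcov : ∀ 𝔞 : Ideal (MvPolynomial (Fin (n + 1)) K), 𝔠 ≤ 𝔞 →
      ∀ q : Ideal (MvPolynomial (Fin (n + 1)) K), q.IsPrime → 𝔞 ≤ q →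
      ringKrullDim (MvPolynomial (Fin (n + 1)) K ⧸ q) = ((n - c + 1 : ℕ) : WithBot ℕ∞) →
      ∃ i, q = p i := by
    intro 𝔞 h𝔞 q hq h𝔞q hdq
    have hq𝔠 : q ∈ 𝔠.minimalPrimes :=
      mem_minimalPrimes_of_dim_eq K n c hcn 𝔠 q h𝔠c (h𝔞.trans h𝔞q) hdq
    refine ⟨e ⟨q, hq𝔠⟩, ?_⟩
    show q = (e.symm (e ⟨q, hq𝔠⟩)).1
    rw [Equiv.symm_apply_apply]
  have hdim : ∀ 𝔞 : Ideal (MvPolynomial (Fin (n + 1)) K), 𝔠 ≤ 𝔞 →
      ringKrullDim (MvPolynomial (Fin (n + 1)) K ⧸ 𝔞) ≤ ((n - c + 1 : ℕ) : WithBot ℕ∞) := by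
    intro 𝔞 h𝔞
    rw [← hnc]
    exact dim_quotient_le K n c 𝔠 𝔞 h𝔠c h𝔞
  obtain ⟨hf1, hs1⟩ := mult_eq_sum K n 𝔠 h𝔠 (n - c) (hdim 𝔠 le_rfl) p hpinj (hcov 𝔠 le_rfl)
  obtain ⟨hf2, hs2⟩ := mult_eq_sum K n I hI (n - c) (hdim I h𝔠I) p hpinj (hcov I h𝔠I)
  obtain ⟨hf3, hs3⟩ := mult_eq_sum K n _ hJ (n - c) (hdim _ h𝔠J) p hpinj (hcov _ h𝔠J)
  rw [hs1, hs2, hs3, ← Finset.sum_add_distrib]
  refine Finset.sum_congr rfl fun i _ => ?_
  split_ifs with hi
  · have h1 := locLength_eq_add_of_colon 𝔠 I h𝔠I (p i) (hpmem i)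
    rw [h1, ENat.toNat_add (hf2 i hi) (hf3 i hi)]
    push_cast
    ring
  · rw [add_zero]

/-- the multiplicity from a Hilbert polynomial given in the `ℤ`-graded form. -/
theorem mult_eq_factorial_mul_coeff (t : ℕ) (𝔞 : Ideal (MvPolynomial (Fin (n + 1)) K))
    (h𝔞 : 𝔞.IsHomogeneous (CohB1.polyGrading n K))
    (hdim : ringKrullDim (MvPolynomial (Fin (n + 1)) K ⧸ 𝔞) ≤ ((t + 1 : ℕ) : WithBot ℕ∞))
    (P : Polynomial ℚ)
    (hP : ∃ j₀ : ℕ, ∀ j : ℕ, j₀ ≤ j → (Module.finrank K ↥(Submodule.map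
      (Ideal.Quotient.mkₐ K 𝔞).toLinearMap (GrSyz.stdGr K (Fin (n + 1)) (j : ℤ))) : ℚ) =
        P.eval (j : ℚ)) :
    ((mult t 𝔞 : ℤ) : ℚ) = (t.factorial : ℚ) * P.coeff t := by
  obtain ⟨j₀, hj₀⟩ := hP
  have hP' : ∀ m, j₀ ≤ m → P.eval (m : ℚ) = (hilb 𝔞 m : ℚ) := by
    intro m hm
    rw [← hj₀ m hm, Groth.Agent.Helper13HB.stdGr_natCast]
    rfl
  have hdeg : P.natDegree ≤ t := by
    by_cases hP0 : P = 0
    · rw [hP0, Polynomial.natDegree_zero]
      exact Nat.zero_le t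
    · have h1 := Groth.Agent.S10907.result K n 𝔞 h𝔞 P hP0 ⟨j₀, fun m hm => by
        rw [hP' m hm, finrank_eq_hilb_add 𝔞 m]
        push_cast
        ring⟩
      rw [h1] at hdim
      have h2 : ((P.natDegree + 1 : ℕ) : WithBot ℕ∞) ≤ ((t + 1 : ℕ) : WithBot ℕ∞) := by
        push_cast
        exact_mod_cast hdim
      have h3 : P.natDegree + 1 ≤ t + 1 := by exact_mod_cast h2
      omega
  exact mult_eq_of_hilbertPoly 𝔞 P t hdeg j₀ hP'

end Main

end Groth.Agent.Lib.H6xLink
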