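import Mathlib
import Groth.Agent.Lib.H6xBettiUscD
import Groth.Agent.Lib.H6xPerf23A
import Groth.Agent.Lib.H6xPerfLoc
set_option backward.isDefEq.respectTransparency.types false

/-!
# Fibre ranks of a perfect object in an affine chart (helper6)
-/

set_option autoImplicit false
set_option linter.style.haveILetI false

universe u

open CategoryTheory CategoryTheory.Limits AlgebraicGeometry TopologicalSpace Opposite

attribute [local instance] HasDerivedCategory.standard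

namespace Groth.Agent.Lib.H6xLocFreeDeg

open Groth.Agent.Lib.Helper1.Sky Groth.Agent.Lib.H6xEulerPt Groth.Agent.Lib.H6xPC3
  Groth.Agent.Lib.H6xPerf23 Groth.Agent.Lib.H6xBettiUsc

/-- the rank of the global sections of the `j`-th cohomology sheaf of an object of `D(Spec K)` -/
noncomputable def rkH (K : CommRingCat.{u}) (D : DCoh.D (Spec K)) (j : ℤ) : ℕ :=
  Module.finrank (Coh.Γtop (Spec K)) ((DCoh.HD D j).val.obj (op ⊤))

theorem rkH_congr {K : CommRingCat.{u}} {D D' : DCoh.D (Spec K)} (e : D ≅ D') (j : ℤ) :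
    rkH K D j = rkH K D' j :=
  finrank_Γtop_congr ((DerivedCategory.homologyFunctor _ j).mapIso e)

theorem betti_eq_rkH {X : Scheme.{u}} (E : DCoh.D X) (x : X)
    [DCoh.HasLpull (X.fromSpecResidueField x)] (j : ℤ) :
    PerfD.betti E x j = rkH _ ((DCoh.Lpull (X.fromSpecResidueField x)).obj E) j := rfl

/-- an affine chart around a point in which a perfect object is strictly perfect -/
theorem exists_affine_chart_perfect (X : Scheme.{u}) (E : DCoh.D X) (hE : DCoh.IsPerfect E)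
    (x₀ : X) :
    ∃ (A : CommRingCat.{u}) (g : Spec A ⟶ X) (_ : IsOpenImmersion g) (p₀ : Spec A),
      g p₀ = x₀ ∧ ∃ P : CochainComplex (Spec A).Modules ℤ, DCoh.IsStrictlyPerfect P ∧
        Nonempty (DerivedCategory.Q.obj P ≅ (DCoh.restrictD g).obj E) := by
  obtain ⟨Z, g₀, hg₀, ⟨z₀, hz₀⟩, P₀, hP₀, ⟨e₀⟩⟩ := (isPerfect_iff_local E).1 hE x₀
  let 𝒰 := Z.affineOpenCover
  obtain ⟨p₀, hp₀⟩ := 𝒰.covers z₀
  let j := 𝒰.f (𝒰.idx z₀)
  obtain ⟨c⟩ := nonempty_restrictD_comp j g₀ (j ≫ g₀) rfl E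
  refine ⟨𝒰.X (𝒰.idx z₀), j ≫ g₀, inferInstance, p₀, ?_, _,
    Groth.Agent.Lib.H6xPerfLoc.isStrictlyPerfect_restrict j P₀ hP₀, ⟨?_⟩⟩
  · rw [← hz₀]
    exact congrArg g₀ hp₀
  · exact ((Scheme.Modules.restrictFunctor j).mapDerivedCategoryFactors.app P₀).symm ≪≫
      (DCoh.restrictD j).mapIso e₀.symm ≪≫ c.symm

/-- the fibre ranks of `E` along a field-valued point factoring through an affine chart in which
`E` is `tilde` of a complex `L` of finite modules -/
theorem rkH_lpull_eq_dRank (X : Scheme.{u}) (E : DCoh.D X) (A : CommRingCat.{u})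
    (g : Spec A ⟶ X) [IsOpenImmersion g] (P : CochainComplex (Spec A).Modules ℤ)
    (hP : DCoh.IsStrictlyPerfect P)
    (eP : DerivedCategory.Q.obj P ≅ (DCoh.restrictD g).obj E)
    (L : CochainComplex (ModuleCat.{u} A) ℤ) (hLfin : ∀ i, Module.Finite A (L.X i))
    (eL : ((tilde.functor A).mapHomologicalComplex (ComplexShape.up ℤ)).obj L ≅ P)
    (K : CommRingCat.{u}) (hK : IsField K) (ψ : A ⟶ K) (t : Spec K ⟶ X)
    (ht : Spec.map ψ ≫ g = t) [DCoh.HasLpull t]
    (p : PrimeSpectrum A) (hp : p.asIdeal = RingHom.ker ψ.hom) (j : ℤ) :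
    rkH K ((DCoh.Lpull t).obj E) j = CohIII.dRank L j p := by
  haveI : DCoh.HasLpull (Spec.map ψ) := hasLpull _
  haveI : DCoh.HasLpull g := hasLpull _
  haveI : DCoh.HasLpull (Spec.map ψ ≫ g) := hasLpull _
  obtain ⟨c1⟩ := nonempty_lpull_comp_iso (Spec.map ψ) g
  obtain ⟨c3⟩ := nonempty_lpull_congr ht
  let F₀ : CochainComplex X.Modules ℤ := DerivedCategory.Q.objPreimage E
  let e₀ : DCoh.toD X F₀ ≅ E := DerivedCategory.Q.objObjPreimageIso E
  let N : CochainComplex (ModuleCat.{u} K) ℤ :=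
    ((ModuleCat.extendScalars ψ.hom).mapHomologicalComplex (ComplexShape.up ℤ)).obj L
  let θ : (DCoh.Lpull t).obj E ≅
      DCoh.toD _ (((tilde.functor _).mapHomologicalComplex (ComplexShape.up ℤ)).obj N) :=
    (c3.app E).symm ≪≫ (c1.app E).symm ≪≫
      (DCoh.Lpull (Spec.map ψ)).mapIso ((DCoh.Lpull g).mapIso e₀.symm ≪≫
        (restrictDIsoLpull g F₀).symm ≪≫ (DCoh.restrictD g).mapIso e₀ ≪≫ eP.symm) ≪≫
      lpullIso (Spec.map ψ) P (kffs_of_isStrictlyPerfect P hP) ≪≫ DerivedCategory.Q.mapIso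
        ((pullC (Spec.map ψ)).mapIso eL.symm ≪≫ pullCTildeIso ψ L)
  rw [rkH_congr θ]
  have hb : rkH K (DCoh.toD _ (((tilde.functor _).mapHomologicalComplex
      (ComplexShape.up ℤ)).obj N)) j = Module.finrank K (N.homology j) :=
    finrank_HD_tilde _ N _ (Iso.refl _) j
  rw [hb]
  letI : Field K := hK.toField
  letI : Algebra A K := ψ.hom.toAlgebra
  exact finrank_homology_bc_eq_dRank K p hp L hLfin j

/-- a field-valued point whose image is a point of an affine chart factors through the chart -/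
theorem exists_factor_chart {X : Scheme.{u}} {A : CommRingCat.{u}} (g : Spec A ⟶ X)
    [IsOpenImmersion g] (K : CommRingCat.{u}) (hK : IsField K) (t : Spec K ⟶ X) (p : Spec A)
    (hpt : ∀ s, t s = g p) :
    ∃ ψ : A ⟶ K, Spec.map ψ ≫ g = t ∧
      PrimeSpectrum.asIdeal p = RingHom.ker ψ.hom := by
  letI : Field K := hK.toField
  have hrange : Set.range t ⊆ Set.range g := by
    rintro _ ⟨s, rfl⟩
    exact ⟨p, (hpt s).symm⟩
  obtain ⟨k, hfac⟩ : ∃ k : Spec K ⟶ Spec A, k ≫ g = t :=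
    ⟨IsOpenImmersion.lift g t hrange, IsOpenImmersion.lift_fac _ _ _⟩
  obtain ⟨ψ, rfl⟩ : ∃ ψ : A ⟶ K, k = Spec.map ψ := ⟨Spec.preimage k, (Spec.map_preimage k).symm⟩
  refine ⟨ψ, hfac, ?_⟩
  let s : Spec K := (⟨⊥, Ideal.isPrime_bot⟩ : PrimeSpectrum K)
  have h3 : (Spec.map ψ ≫ g) s = g p := by rw [hfac]; exact hpt s
  have h4 : (Spec.map ψ) s = p := g.isOpenEmbedding.injective h3
  rw [Spec.map_apply] at h4
  have h5 : PrimeSpectrum.asIdeal p =
      Ideal.comap ψ.hom (⊥ : Ideal K) := (congrArg PrimeSpectrum.asIdeal h4).symm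
  rw [h5]
  rfl

end Groth.Agent.Lib.H6xLocFreeDeg
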