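import Mathlib
import Groth.Agent.Lib.H6xLocFreeDegA
import Groth.Agent.Lib.H6xPerfAffC
set_option backward.isDefEq.respectTransparency.types false

/-!
# Betti numbers of a perfect object: charts, base change, vanishing (helper6)
-/

set_option autoImplicit false
set_option linter.style.haveILetI false

universe u

open CategoryTheory CategoryTheory.Limits AlgebraicGeometry TopologicalSpace Opposite

attribute [local instance] HasDerivedCategory.standard

namespace Groth.Agent.Lib.H6xLocFreeDeg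

open Groth.Agent.Lib.Helper1.Sky Groth.Agent.Lib.H6xEulerPt Groth.Agent.Lib.H6xPC3
  Groth.Agent.Lib.H6xPerf23 Groth.Agent.Lib.H6xBettiUsc

/-- chart data for a perfect object around a point: a complex `L` of finite projective modules
vanishing outside `[a, b]` computing all fibre ranks at field-valued points over the chart -/
theorem exists_chart_dRank (X : Scheme.{u}) (E : DCoh.D X) (hE : DCoh.IsPerfect E) (x₀ : X) :
    ∃ (A : CommRingCat.{u}) (g : Spec A ⟶ X) (_ : IsOpenImmersion g) (p₀ : Spec A)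
      (L : CochainComplex (ModuleCat.{u} A) ℤ) (a b : ℤ), g p₀ = x₀ ∧
      (∀ i : ℤ, i < a ∨ b < i → IsZero (L.X i)) ∧
      (∀ i, Module.Finite A (L.X i) ∧ Module.Projective A (L.X i)) ∧
      Nonempty (DerivedCategory.Q.obj (((tilde.functor A).mapHomologicalComplex
        (ComplexShape.up ℤ)).obj L) ≅ (DCoh.restrictD g).obj E) ∧
      ∀ (K : CommRingCat.{u}) (_ : IsField K) (t : Spec K ⟶ X) [DCoh.HasLpull t] (p : Spec A)
        (_ : ∀ s, t s = g p) (j : ℤ),
        rkH K ((DCoh.Lpull t).obj E) j = CohIII.dRank L j p := by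
  obtain ⟨A, g, hg, p₀, hp₀, P, hP, ⟨eP⟩⟩ := exists_affine_chart_perfect X E hE x₀
  obtain ⟨L, a, b, hz, hfp, ⟨eL⟩⟩ :=
    Groth.Agent.Lib.H6xPerfAff.exists_tilde_iso_of_isStrictlyPerfect A P hP
  refine ⟨A, g, hg, p₀, L, a, b, hp₀, hz, hfp, ⟨DerivedCategory.Q.mapIso eL ≪≫ eP⟩,
    fun K hK t _ p hpt j => ?_⟩
  obtain ⟨ψ, ht, hp⟩ := exists_factor_chart g K hK t p hpt
  exact rkH_lpull_eq_dRank X E A g P hP eP L (fun i => (hfp i).1) eL K hK ψ t ht _ hp j

/-- the Betti numbers of a derived pullback of a perfect object -/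
theorem betti_lpull_eq {X Y : Scheme.{u}} (f : Y ⟶ X) [DCoh.HasLpull f] (E : DCoh.D X)
    (hE : DCoh.IsPerfect E) (y : Y) [DCoh.HasLpull (Y.fromSpecResidueField y)]
    [DCoh.HasLpull (X.fromSpecResidueField (f y))] (j : ℤ) :
    PerfD.betti ((DCoh.Lpull f).obj E) y j = PerfD.betti E (f y) j := by
  obtain ⟨A, g, hg, p₀, L, a, b, hp₀, -, -, -, hrk⟩ := exists_chart_dRank X E hE (f y)
  rw [betti_eq_rkH, betti_eq_rkH]
  haveI : DCoh.HasLpull (Y.fromSpecResidueField y ≫ f) := hasLpull _
  obtain ⟨c⟩ := nonempty_lpull_comp_iso (Y.fromSpecResidueField y) f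
  have e : (DCoh.Lpull (Y.fromSpecResidueField y)).obj ((DCoh.Lpull f).obj E) ≅
      (DCoh.Lpull (Y.fromSpecResidueField y ≫ f)).obj E := c.app E
  rw [rkH_congr e]
  rw [hrk _ (Field.toIsField _) (Y.fromSpecResidueField y ≫ f) p₀ (fun s => by
      rw [hp₀]
      exact congrArg f (Scheme.fromSpecResidueField_apply y s)) j,
    hrk _ (Field.toIsField _) (X.fromSpecResidueField (f y)) p₀ (fun s => by
      rw [hp₀]
      exact Scheme.fromSpecResidueField_apply (f y) s) j]

end Groth.Agent.Lib.H6xLocFreeDeg
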