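import Mathlib
import Groth.Agent.Lib.H6xLocFreeDegB
import Groth.Agent.Lib.H6xEulerPtB
import Groth.Agent.Lib.H6xPerfAffE
set_option backward.isDefEq.respectTransparency.types false

/-!
# The locus where a perfect object has Betti numbers `r` in degree `i` and `0` elsewhere is open
(helper6)
-/

set_option autoImplicit false
set_option linter.style.haveILetI false

universe u

open CategoryTheory CategoryTheory.Limits AlgebraicGeometry TopologicalSpace Opposite

attribute [local instance] HasDerivedCategory.standard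

namespace Groth.Agent.Lib.H6xLocFreeDeg

open Groth.Agent.Lib.Helper1.Sky Groth.Agent.Lib.H6xEulerPt Groth.Agent.Lib.H6xPC3
  Groth.Agent.Lib.H6xPerf23 Groth.Agent.Lib.H6xBettiUsc

theorem dRank_eq_zero_of_isZero {A : Type u} [CommRing A] (L : CochainComplex (ModuleCat.{u} A) ℤ)
    (j : ℤ) (h : IsZero (L.X j)) (p : PrimeSpectrum A) : CohIII.dRank L j p = 0 := by
  unfold CohIII.dRank
  have hz : IsZero ((CohIII.bcCx (algebraMap A p.asIdeal.ResidueField) L).X j) :=
    (ModuleCat.extendScalars (algebraMap A p.asIdeal.ResidueField)).map_isZero h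
  have hz' : IsZero ((CohIII.bcCx (algebraMap A p.asIdeal.ResidueField) L).homology j) :=
    ShortComplex.isZero_homology_of_isZero_X₂ _ hz
  haveI : Subsingleton ((CohIII.bcCx (algebraMap A p.asIdeal.ResidueField) L).homology j) :=
    ModuleCat.subsingleton_of_isZero hz'
  exact Module.finrank_zero_of_subsingleton

/-- the locus where the Betti numbers are `r` in degree `i` and `0` in the other degrees -/
def locus (X : Scheme.{u}) [∀ x : X, DCoh.HasLpull (X.fromSpecResidueField x)] (E : DCoh.D X)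
    (i : ℤ) (r : ℕ) : Set X :=
  {x | ∀ j : ℤ, PerfD.betti E x j = if j = i then r else 0}

theorem eulerChar_eq_of_mem_locus (X : Scheme.{u})
    [∀ x : X, DCoh.HasLpull (X.fromSpecResidueField x)] (E : DCoh.D X) (i : ℤ) (x : X)
    (h : ∀ j : ℤ, j ≠ i → PerfD.betti E x j = 0) :
    PerfD.eulerChar E x = ((i.negOnePow : ℤˣ) : ℤ) * (PerfD.betti E x i : ℤ) := by
  unfold PerfD.eulerChar
  rw [finsum_eq_single _ i (fun j hj => by rw [h j hj]; simp)]

theorem isOpen_locus (X : Scheme.{u}) [∀ x : X, DCoh.HasLpull (X.fromSpecResidueField x)]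
    (E : DCoh.D X) (hE : DCoh.IsPerfect E) (i : ℤ) (r : ℕ) : IsOpen (locus X E i r) := by
  rw [isOpen_iff_forall_mem_open]
  intro x₀ hx₀
  obtain ⟨A, g, hg, p₀, L, a, b, hp₀, hz, -, -, hrk⟩ := exists_chart_dRank X E hE x₀
  have hpc : ∀ m : ℤ, DCoh.IsPseudoCoherentD m E := fun m =>
    Groth.Agent.Lib.H6xPerfAff.isPseudoCoherentD_of_isPerfect E hE m
  have hN₁ : IsOpen {x : X | PerfD.eulerChar E x = PerfD.eulerChar E x₀} :=
    (isLocallyConstant_eulerChar X E hE).isOpen_fiber _
  have hN₃ : IsOpen (⋂ j ∈ (Finset.Icc a b).erase i, {x : X | PerfD.betti E x j < 1}) :=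
    isOpen_biInter_finset (fun j _ => isOpen_betti_lt X E hpc j 1)
  have h0 : ∀ j : ℤ, j ≠ i → PerfD.betti E x₀ j = 0 := fun j hj => by
    rw [hx₀ j, if_neg hj]
  refine ⟨Set.range g ∩ {x : X | PerfD.eulerChar E x = PerfD.eulerChar E x₀} ∩
      ⋂ j ∈ (Finset.Icc a b).erase i, {x : X | PerfD.betti E x j < 1}, ?_,
    (g.isOpenEmbedding.isOpen_range.inter hN₁).inter hN₃, ⟨⟨⟨p₀, hp₀⟩, rfl⟩, ?_⟩⟩
  · rintro x ⟨⟨⟨p, rfl⟩, hχ⟩, h3⟩
    have hx0 : ∀ j : ℤ, j ≠ i → PerfD.betti E (g p) j = 0 := fun j hj => by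
      by_cases hjab : j ∈ Finset.Icc a b
      · have : g p ∈ {x : X | PerfD.betti E x j < 1} :=
          Set.mem_iInter₂.1 h3 j (Finset.mem_erase.2 ⟨hj, hjab⟩)
        exact Nat.lt_one_iff.1 this
      · rw [betti_eq_rkH, hrk _ (Field.toIsField _) (X.fromSpecResidueField (g p)) p
          (fun s => Scheme.fromSpecResidueField_apply (g p) s) j]
        refine dRank_eq_zero_of_isZero L j (hz j ?_) _
        rw [Finset.mem_Icc] at hjab
        omega
    have e1 := eulerChar_eq_of_mem_locus X E i (g p) hx0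
    have e2 := eulerChar_eq_of_mem_locus X E i x₀ h0
    have hχ' : PerfD.eulerChar E (g p) = PerfD.eulerChar E x₀ := hχ
    rw [e1, e2, hx₀ i, if_pos rfl] at hχ'
    have hi : (PerfD.betti E (g p) i : ℤ) = (r : ℤ) := by
      have hu : (((i.negOnePow : ℤˣ) : ℤ)) ≠ 0 := Units.ne_zero _
      exact mul_left_cancel₀ hu hχ'
    intro j
    by_cases hj : j = i
    · subst hj
      rw [if_pos rfl]
      exact_mod_cast hi
    · rw [if_neg hj]
      exact hx0 j hj
  · refine Set.mem_iInter₂.2 (fun j hj => ?_)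
    have : PerfD.betti E x₀ j = 0 := h0 j (Finset.mem_erase.1 hj).1
    change PerfD.betti E x₀ j < 1
    omega

end Groth.Agent.Lib.H6xLocFreeDeg
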