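import Mathlib
import Groth.Agent.Lib.H6xLocFreeDegC
import Groth.Agent.Lib.H6xClPushE
set_option backward.isDefEq.respectTransparency.types false

/-!
# Betti numbers of a shifted locally free module (helper6)
-/

set_option autoImplicit false
set_option linter.style.haveILetI false

universe u

open CategoryTheory CategoryTheory.Limits AlgebraicGeometry TopologicalSpace Opposite

attribute [local instance] HasDerivedCategory.standard

namespace Groth.Agent.Lib.H6xLocFreeDeg

open Groth.Agent.Lib.Helper1.Sky Groth.Agent.Lib.H6xEulerPt Groth.Agent.Lib.H6xPC3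
  Groth.Agent.Lib.H6xPerf23 Groth.Agent.Lib.H6xBettiUsc

/-- ranks of the cohomology of a free module placed in degree `i` on the spectrum of a field -/
theorem rkH_single (K : CommRingCat.{u}) (hK : IsField K) (C : CochainComplex (Spec K).Modules ℤ)
    (hC : DCoh.IsStrictlyPerfect C) (i : ℤ) (hv : DCoh.VanishesOutside C i i) (r : ℕ)
    (e : C.X i ≅ FlatMod.freeMod (Spec K) r) (D : DCoh.D (Spec K))
    (eD : D ≅ DCoh.toD (Spec K) C) (j : ℤ) : rkH K D j = if j = i then r else 0 := by
  haveI : Nontrivial K := hK.nontrivial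
  have hqc : ∀ i, (C.X i).IsQuasicoherent := fun i =>
    Groth.Agent.Lib.R2H2.PullLF.isQuasicoherent_of_isFinLocFree _ (hC.2 i)
  have h0 : ∀ j : ℤ, j ≠ i → rkH K D j = 0 := fun j hj => by
    unfold rkH
    rw [finrank_HD_eq K C hqc D eD j]
    have hz : IsZero ((((moduleSpecΓFunctor (R := K)).mapHomologicalComplex
        (ComplexShape.up ℤ)).obj C).X j) :=
      (moduleSpecΓFunctor (R := K)).map_isZero (hv j (by omega))
    have hz' : IsZero ((((moduleSpecΓFunctor (R := K)).mapHomologicalComplex
        (ComplexShape.up ℤ)).obj C).homology j) :=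
      ShortComplex.isZero_homology_of_isZero_X₂ _ hz
    haveI : Subsingleton ((((moduleSpecΓFunctor (R := K)).mapHomologicalComplex
        (ComplexShape.up ℤ)).obj C).homology j) := ModuleCat.subsingleton_of_isZero hz'
    exact Module.finrank_zero_of_subsingleton
  by_cases hj : j = i
  · subst hj
    rw [if_pos rfl]
    have hχ := eulerChar_spec_field K hK C hC j j hv (fun _ => r)
      (fun k hk => by
        obtain rfl : k = j := by rw [Finset.mem_Icc] at hk; omega
        exact ⟨e⟩) D eD
    rw [finsum_eq_single _ j (fun k hk => by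
      have := h0 k hk
      unfold rkH at this
      rw [this]; simp)] at hχ
    simp only [Finset.Icc_self, Finset.sum_singleton] at hχ
    have hu : (((j.negOnePow : ℤˣ) : ℤ)) ≠ 0 := Units.ne_zero _
    have := mul_left_cancel₀ hu hχ
    unfold rkH
    exact_mod_cast this
  · rw [if_neg hj]
    exact h0 j hj

theorem isFinLocFree_of_isFinLocFreeOfRank {Y : Scheme.{u}} (V : Y.Modules) (r : ℕ)
    (hV : FlatMod.IsFinLocFreeOfRank r V) : FlatMod.IsFinLocFree V := fun y => by
  obtain ⟨U, hyU, hU⟩ := hV y
  exact ⟨U, r, hyU, hU⟩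

/-- the Betti numbers at `y` of a finite locally free module, of rank `n` near `y`, placed in
degree `i` -/
theorem betti_shift_inD' (Y : Scheme.{u}) (V : Y.Modules) (hV : FlatMod.IsFinLocFree V) (i : ℤ)
    (y : Y) [DCoh.HasLpull (Y.fromSpecResidueField y)] (U : Y.Opens) (hyU : y ∈ U) (n : ℕ)
    (eU : V.restrict U.ι ≅ FlatMod.freeMod (U : Scheme.{u}) n) (j : ℤ) :
    PerfD.betti ((DCoh.inD Y V)⟦-i⟧) y j = if j = i then n else 0 := by
  let S : CochainComplex Y.Modules ℤ := (HomologicalComplex.single Y.Modules (ComplexShape.up ℤ) i).obj V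
  have hS : DCoh.IsStrictlyPerfect S :=
    Groth.Agent.Lib.H6xClPush.isStrictlyPerfect_single' i V hV
  let e : (DCoh.inD Y V)⟦-i⟧ ≅ DerivedCategory.Q.obj S :=
    ((DerivedCategory.singleFunctors Y.Modules).shiftIso (-i) i 0 (by omega)).app V ≪≫
      (DerivedCategory.singleFunctorIsoCompQ Y.Modules i).app V
  let C : CochainComplex (Spec (Y.residueField y)).Modules ℤ :=
    (pullC (Y.fromSpecResidueField y)).obj S
  have hC : DCoh.IsStrictlyPerfect C := isStrictlyPerfect_pullC _ S hS
  have hv : DCoh.VanishesOutside C i i := fun k hk =>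
    (Scheme.Modules.pullback (Y.fromSpecResidueField y)).map_isZero
      (HomologicalComplex.isZero_single_obj_X (ComplexShape.up ℤ) i V k (by omega))
  let eD : (DCoh.Lpull (Y.fromSpecResidueField y)).obj ((DCoh.inD Y V)⟦-i⟧) ≅
      DCoh.toD _ C :=
    (DCoh.Lpull (Y.fromSpecResidueField y)).mapIso e ≪≫
      lpullIso (Y.fromSpecResidueField y) S (kffs_of_isStrictlyPerfect S hS)
  have hr : Set.range (Y.fromSpecResidueField y) ⊆ U := by
    rw [Scheme.range_fromSpecResidueField]
    simpa using hyU
  obtain ⟨eV⟩ := nonempty_pullback_iso_freeMod (Y.fromSpecResidueField y) U hr V n eU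
  have eC : C.X i ≅ FlatMod.freeMod (Spec (Y.residueField y)) n :=
    (Scheme.Modules.pullback (Y.fromSpecResidueField y)).mapIso
      (HomologicalComplex.singleObjXSelf (ComplexShape.up ℤ) i V) ≪≫ eV
  rw [betti_eq_rkH]
  exact rkH_single _ (Field.toIsField _) C hC i hv n eC _ eD j

/-- the Betti numbers of a locally free module of rank `r` placed in degree `i` -/
theorem betti_shift_inD (Y : Scheme.{u}) (V : Y.Modules) (r : ℕ)
    (hV : FlatMod.IsFinLocFreeOfRank r V) (i : ℤ) (y : Y)
    [DCoh.HasLpull (Y.fromSpecResidueField y)] (j : ℤ) :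
    PerfD.betti ((DCoh.inD Y V)⟦-i⟧) y j = if j = i then r else 0 := by
  obtain ⟨U, hyU, ⟨eU⟩⟩ := hV y
  exact betti_shift_inD' Y V (isFinLocFree_of_isFinLocFreeOfRank V r hV) i y U hyU r eU j

theorem betti_congr {Y : Scheme.{u}} {G G' : DCoh.D Y} (e : G ≅ G') (y : Y)
    [DCoh.HasLpull (Y.fromSpecResidueField y)] (j : ℤ) :
    PerfD.betti G y j = PerfD.betti G' y j := by
  rw [betti_eq_rkH, betti_eq_rkH]
  exact rkH_congr ((DCoh.Lpull (Y.fromSpecResidueField y)).mapIso e) j

end Groth.Agent.Lib.H6xLocFreeDeg
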