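import Mathlib
import Groth.Agent.Lib.H6xBettiUscA
import Groth.Agent.Lib.Helper1Fibres
import Groth.Agent.Lib.Helper1TorG
import Groth.Agent.S7019
set_option backward.isDefEq.respectTransparency.types false

/-!
# Ring level: a bounded complex of finite projective modules whose fibre cohomology is concentrated
in one degree is a finite projective module placed in that degree (helper6)
-/

set_option autoImplicit false
set_option linter.style.haveILetI false

universe u

open CategoryTheory CategoryTheory.Limits TensorProduct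

attribute [local instance] HasDerivedCategory.standard

namespace Groth.Agent.Lib.H6xLocFreeDeg

open Groth.Agent.Lib.Helper1.LocalCx Groth.Agent.Lib.Helper1.LDer Groth.Agent.Lib.Helper1.Tor
  Groth.Agent.Lib.Helper1.Extend Groth.Agent.Lib.H6xBettiUsc

variable {R : Type u} [CommRing R]

/-- finite projective modules over a local ring are free -/
theorem termwiseFiniteFree_of_local [IsLocalRing R] (F : DRing.Cx R)
    (hF : DRing.TermwiseFiniteProjective F) : DRing.TermwiseFiniteFree F := fun i => by
  haveI := (hF i).1
  haveI := (hF i).2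
  haveI : Module.FinitePresentation R (F.X i) := Module.finitePresentation_of_projective R _
  exact ⟨(hF i).1, Module.free_of_flat_of_isLocalRing⟩

/-- variant of `hasTorAmp_of_fibres` for finite projective terms -/
theorem hasTorAmp_of_fibres_proj (F : DRing.Cx R) (bF : ℤ) (hFb : DRing.VanishesAbove F bF)
    (hFf : DRing.TermwiseFiniteProjective F) (a b : ℤ)
    (h : ∀ (m : Ideal R) [m.IsMaximal] (i : ℤ), (i < a ∨ b < i) →
      ((bcCx (Ideal.Quotient.mk m)).obj F).ExactAt i) :
    DRing.HasTorAmplitudeIn R a b (DRing.toD F) := by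
  refine (descFam'_maximal (R := R)).hasTorAmp _ a b (fun m => ?_)
  have := m.isMaximal
  let S := Localization.AtPrime m.asIdeal
  let Fm := (bcCx (algebraMap R S)).obj F
  have hloc : DRing.HasTorAmplitudeIn S a b (DRing.toD Fm) :=
    hasTorAmp_of_exactAt_TC_residueField Fm bF (vanishesAbove_bc _ F bF hFb)
      (termwiseFiniteFree_of_local _ (termwiseFiniteProjective_bc _ F hFf)) a b
      (fun i hi => exactAt_TC_residueField_atPrime m.asIdeal F i (h m.asIdeal i hi))
  exact hasTorAmp_of_iso (mapQIso (ext R S) F).symm hloc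

/-- the homology of a complex of finite-dimensional vector spaces is finite-dimensional -/
theorem finite_homology_of_field {k : Type u} [Field k] (N : CochainComplex (ModuleCat.{u} k) ℤ)
    (j : ℤ) (hN : Module.Finite k (N.X j)) : Module.Finite k (N.homology j) := by
  have hlen : ∀ (M : Type u) [AddCommGroup M] [Module k M],
      Module.Finite k M ↔ Module.length k M ≠ ⊤ := fun M _ _ => by
    rw [Module.length_ne_top_iff, isFiniteLength_iff_isNoetherian_isArtinian]
    constructor
    · intro h
      exact ⟨inferInstance, inferInstance⟩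
    · rintro ⟨h, -⟩
      infer_instance
  rw [hlen]
  have h1 : Module.length k (N.X j) ≠ ⊤ := (hlen _).1 hN
  let S := N.sc j
  have e1 : S.homology ≃ₗ[k] (LinearMap.ker S.g.hom ⧸ LinearMap.range S.moduleCatToCycles) :=
    S.moduleCatHomologyIso.toLinearEquiv
  have h2 : Module.length k (LinearMap.ker S.g.hom ⧸ LinearMap.range S.moduleCatToCycles) ≤
      Module.length k (LinearMap.ker S.g.hom) :=
    Module.length_le_of_surjective (LinearMap.range S.moduleCatToCycles).mkQ
      (Submodule.mkQ_surjective _)
  have h3 : Module.length k (LinearMap.ker S.g.hom) ≤ Module.length k S.X₂ :=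
    Module.length_le_of_injective (LinearMap.ker S.g.hom).subtype (Submodule.subtype_injective _)
  change Module.length k S.homology ≠ ⊤
  rw [e1.length_eq]
  intro htop
  rw [htop] at h2
  exact h1 (top_le_iff.1 (h2.trans h3))

/-- a bounded complex of finite projective modules all of whose fibre cohomologies vanish outside
degree `i` is isomorphic in `D(R)` to a finite projective module placed in degree `i` -/
theorem exists_single_of_dRank (L : DRing.Cx R) (a b : ℤ) (hv : DRing.VanishesOutside L a b)
    (hfp : DRing.TermwiseFiniteProjective L) (i : ℤ)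
    (h : ∀ (p : PrimeSpectrum R) (j : ℤ), j ≠ i → CohIII.dRank L j p = 0) :
    ∃ M : ModuleCat.{u} R, Module.Finite R M ∧ Module.Projective R M ∧
      Nonempty (DRing.toD ((HomologicalComplex.single _ (ComplexShape.up ℤ) i).obj M) ≅
        DRing.toD L) := by
  have hex : ∀ (m : Ideal R) [m.IsMaximal] (j : ℤ), (j < i ∨ i < j) →
      ((bcCx (Ideal.Quotient.mk m)).obj L).ExactAt j := by
    intro m hm j hj
    letI : Field (R ⧸ m) := Ideal.Quotient.field m
    letI : Algebra R (R ⧸ m) := (Ideal.Quotient.mk m).toAlgebra
    let p : PrimeSpectrum R := ⟨m, hm.isPrime⟩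
    have hp : p.asIdeal = RingHom.ker (algebraMap R (R ⧸ m)) := (Ideal.mk_ker (I := m)).symm
    have hfin : ∀ i, Module.Finite R (L.X i) := fun i => (hfp i).1
    have h1 := finrank_homology_bc_eq_dRank (R ⧸ m) p hp L hfin j
    rw [h p j (by omega)] at h1
    have hN : Module.Finite (R ⧸ m) ((CohIII.bcCx (algebraMap R (R ⧸ m)) L).X j) :=
      haveI := hfin j
      Groth.Agent.S2380.finite_extendScalars R (R ⧸ m) (L.X j)
    haveI := finite_homology_of_field (CohIII.bcCx (algebraMap R (R ⧸ m)) L) j hN
    have h2 : Subsingleton ((CohIII.bcCx (algebraMap R (R ⧸ m)) L).homology j) :=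
      Module.finrank_zero_iff.1 h1
    rw [HomologicalComplex.exactAt_iff_isZero_homology]
    exact ModuleCat.isZero_of_subsingleton _
  have hta : DRing.HasTorAmplitudeIn R i i (DRing.toD L) :=
    hasTorAmp_of_fibres_proj L b (fun k hk => hv k (Or.inr hk)) hfp i i hex
  have hpc : DRing.IsPseudoCoherent' R (DRing.toD L) :=
    Groth.Agent.S7019.isPC'_of_isPerfect _ ⟨L, a, b, hv, hfp, ⟨Iso.refl _⟩⟩
  obtain ⟨E, hE, hEfp, ⟨eE⟩⟩ := exists_finiteProjective_of_pc_of_torAmp (DRing.toD L) hpc i i hta
  haveI : E.IsStrictlyGE i := by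
    rw [CochainComplex.isStrictlyGE_iff]
    exact fun k hk => hE k (Or.inl hk)
  haveI : E.IsStrictlyLE i := by
    rw [CochainComplex.isStrictlyLE_iff]
    exact fun k hk => hE k (Or.inr hk)
  obtain ⟨M, ⟨e⟩⟩ := CochainComplex.exists_iso_single E i
  have eM : E.X i ≅ M :=
    (HomologicalComplex.eval _ _ i).mapIso e ≪≫
      HomologicalComplex.singleObjXSelf (ComplexShape.up ℤ) i M
  haveI := (hEfp i).1
  haveI := (hEfp i).2
  refine ⟨M, Module.Finite.equiv eM.toLinearEquiv, Module.Projective.of_equiv eM.toLinearEquiv,
    ⟨(DerivedCategory.Q.mapIso e).symm ≪≫ eE⟩⟩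

end Groth.Agent.Lib.H6xLocFreeDeg
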