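import Mathlib
import Groth.Agent.Lib.H6xLocFreeDegD
import Groth.Agent.Lib.H6xLocFreeDegE
import Groth.Agent.Lib.Helper23ModLocal
import Groth.Agent.Lib.H6xSuppPushB
set_option backward.isDefEq.respectTransparency.types false

/-!
# A perfect object with fibre cohomology concentrated in one degree is a shifted locally free
module (helper6)
-/

set_option autoImplicit false
set_option linter.style.haveILetI false

universe u

open CategoryTheory CategoryTheory.Limits AlgebraicGeometry TopologicalSpace Opposite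

attribute [local instance] HasDerivedCategory.standard

namespace Groth.Agent.Lib.H6xLocFreeDeg

open Groth.Agent.Lib.Helper1.Sky Groth.Agent.Lib.H6xEulerPt Groth.Agent.Lib.H6xPC3
  Groth.Agent.Lib.H6xPerf23 Groth.Agent.Lib.H6xBettiUsc

/-- local form: around every point there is an affine chart in which `G` is a finite projective
module placed in degree `i` -/
theorem exists_chart_single (Y : Scheme.{u}) [∀ y : Y, DCoh.HasLpull (Y.fromSpecResidueField y)]
    (G : DCoh.D Y) (hG : DCoh.IsPerfect G) (i : ℤ)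
    (h : ∀ (y : Y) (j : ℤ), j ≠ i → PerfD.betti G y j = 0) (y₀ : Y) :
    ∃ (A : CommRingCat.{u}) (g : Spec A ⟶ Y) (_ : IsOpenImmersion g) (p₀ : Spec A)
      (M : ModuleCat.{u} A), g p₀ = y₀ ∧ Module.Finite A M ∧ Module.Projective A M ∧
      Nonempty ((DCoh.restrictD g).obj G ≅ DerivedCategory.Q.obj
        ((HomologicalComplex.single _ (ComplexShape.up ℤ) i).obj (tilde M))) := by
  obtain ⟨A, g, hg, p₀, L, a, b, hp₀, hz, hfp, ⟨eQ⟩, hrk⟩ := exists_chart_dRank Y G hG y₀
  haveI := (Groth.Agent.S9498.aux A).1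
  have hd : ∀ (p : PrimeSpectrum A) (j : ℤ), j ≠ i → CohIII.dRank L j p = 0 := fun p j hj => by
    have h1 := hrk _ (Field.toIsField _) (Y.fromSpecResidueField (g p)) p
      (fun s => Scheme.fromSpecResidueField_apply (g p) s) j
    rw [← h1, ← betti_eq_rkH]
    exact h (g p) j hj
  obtain ⟨M, hMf, hMp, ⟨eM⟩⟩ := exists_single_of_dRank (R := A) L a b hz hfp i hd
  refine ⟨A, g, hg, p₀, M, hp₀, hMf, hMp, ⟨?_⟩⟩
  exact eQ.symm ≪≫ ((tilde.functor A).mapDerivedCategoryFactors.app L).symm ≪≫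
    (DCoh.tildeD A).mapIso eM.symm ≪≫
    (tilde.functor A).mapDerivedCategoryFactors.app _ ≪≫
    DerivedCategory.Q.mapIso ((HomologicalComplex.singleMapHomologicalComplex (tilde.functor A)
      (ComplexShape.up ℤ) i).app M)

/-- a perfect object whose Betti numbers are `r` in degree `i` and `0` elsewhere is a locally
free module of rank `r` placed in degree `i` -/
theorem exists_iso_shift_inD (Y : Scheme.{u})
    [∀ y : Y, DCoh.HasLpull (Y.fromSpecResidueField y)]
    (G : DCoh.D Y) (hG : DCoh.IsPerfect G) (i : ℤ) (r : ℕ)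
    (h : ∀ (y : Y) (j : ℤ), PerfD.betti G y j = if j = i then r else 0) :
    ∃ V : Y.Modules, FlatMod.IsFinLocFreeOfRank r V ∧ Nonempty (G ≅ (DCoh.inD Y V)⟦-i⟧) := by
  have h0 : ∀ (y : Y) (j : ℤ), j ≠ i → PerfD.betti G y j = 0 := fun y j hj => by
    rw [h y j, if_neg hj]
  choose A g hg p₀ M hp₀ hMf hMp hiso using exists_chart_single Y G hG i h0
  haveI : ∀ y, IsOpenImmersion (g y) := hg
  -- vanishing of the cohomology sheaves outside degree `i`
  have hHD : ∀ j : ℤ, j ≠ i → IsZero (DCoh.HD G j) := fun j hj => by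
    refine Groth.Agent.Lib.Helper23.ModLocal.isZero_of_isZero_restrict
      (fun y => Spec (A y)) g (fun y => ⟨y, p₀ y, hp₀ y⟩) (fun y => ?_)
    obtain ⟨e2⟩ := Groth.Agent.Lib.H6xSuppPush.nonempty_homology_mapDerivedCategory_iso
      (Scheme.Modules.restrictFunctor (g y)) G j
    obtain ⟨e3⟩ := hiso y
    have e4 : DCoh.HD ((DCoh.restrictD (g y)).obj G) j ≅
        ((HomologicalComplex.single _ (ComplexShape.up ℤ) i).obj (tilde (M y))).homology j :=
      (DerivedCategory.homologyFunctor _ j).mapIso e3 ≪≫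
        (DerivedCategory.homologyFunctorFactors _ j).app _
    exact (HomologicalComplex.isZero_single_obj_homology _ _ _ j hj).of_iso (e2.symm ≪≫ e4)
  haveI : G.IsGE i := by
    rw [DerivedCategory.isGE_iff]
    exact fun j hj => hHD j (by omega)
  haveI : G.IsLE i := by
    rw [DerivedCategory.isLE_iff]
    exact fun j hj => hHD j (by omega)
  obtain ⟨V, ⟨eV⟩⟩ := DerivedCategory.exists_iso_singleFunctor_obj_of_isGE_of_isLE G i
  let eG : G ≅ (DCoh.inD Y V)⟦-i⟧ :=
    eV ≪≫ (((DerivedCategory.singleFunctors Y.Modules).shiftIso (-i) i 0 (by omega)).app V).symm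
  -- `V` is finite locally free
  have hVchart : ∀ y, Nonempty (V.restrict (g y) ≅ tilde (M y)) := fun y => by
    obtain ⟨e2⟩ := Groth.Agent.Lib.H6xSuppPush.nonempty_homology_mapDerivedCategory_iso
      (Scheme.Modules.restrictFunctor (g y)) ((DerivedCategory.singleFunctor Y.Modules i).obj V) i
    obtain ⟨e3⟩ := hiso y
    have e5 : DCoh.HD ((DerivedCategory.singleFunctor Y.Modules i).obj V) i ≅ V :=
      (DerivedCategory.singleFunctorCompHomologyFunctorIso Y.Modules i).app V
    have e4 : DCoh.HD ((DCoh.restrictD (g y)).obj ((DerivedCategory.singleFunctor Y.Modules i).obj V)) i ≅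
        tilde (M y) :=
      (DerivedCategory.homologyFunctor _ i).mapIso ((DCoh.restrictD (g y)).mapIso eV.symm ≪≫ e3) ≪≫
        (DerivedCategory.homologyFunctorFactors _ i).app _ ≪≫
        HomologicalComplex.singleObjHomologySelfIso (ComplexShape.up ℤ) i (tilde (M y))
    exact ⟨(Scheme.Modules.restrictFunctor (g y)).mapIso e5.symm ≪≫ e2.symm ≪≫ e4⟩
  have hVflf : FlatMod.IsFinLocFree V := by
    refine Groth.Agent.Lib.H6xPerfAff.isFinLocFree_of_exists_openImmersion V (fun y => ?_)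
    obtain ⟨eT⟩ := hVchart y
    have hT : FlatMod.IsFinLocFree (tilde (M y)) :=
      (Groth.Agent.Lib.Helper2.FPAff.isFinLocFree_tilde_iff (A y) (M y)).2 ⟨hMf y, hMp y⟩
    obtain ⟨W, n, hpW, ⟨eW⟩⟩ := hT (p₀ y)
    refine ⟨W, W.ι ≫ g y, inferInstance, n, ⟨⟨p₀ y, hpW⟩, hp₀ y⟩, ⟨?_⟩⟩
    exact (Scheme.Modules.restrictFunctorComp W.ι (g y)).app V ≪≫
      (Scheme.Modules.restrictFunctor W.ι).mapIso eT ≪≫ eW
  refine ⟨V, fun y => ?_, ⟨eG⟩⟩
  obtain ⟨U, n, hyU, ⟨eU⟩⟩ := hVflf y
  have h1 := betti_shift_inD' Y V hVflf i y U hyU n eU i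
  rw [← betti_congr eG y i, h y i, if_pos rfl, if_pos rfl] at h1
  subst h1
  exact ⟨U, hyU, ⟨eU⟩⟩

end Groth.Agent.Lib.H6xLocFreeDeg
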