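import Mathlib
import Groth.Agent.Lib.H6xLocFreeDegC
import Groth.Agent.Lib.H6xLocFreeDegF
set_option backward.isDefEq.respectTransparency.types false

/-!
# The open locus where a perfect object is a locally free module of rank `r` in degree `i`
(helper6)
-/

set_option autoImplicit false
set_option linter.style.haveILetI false

universe u

open CategoryTheory CategoryTheory.Limits AlgebraicGeometry TopologicalSpace Opposite

attribute [local instance] HasDerivedCategory.standard

namespace Groth.Agent.Lib.H6xLocFreeDeg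

open Groth.Agent.Lib.Helper1.Sky Groth.Agent.Lib.H6xEulerPt Groth.Agent.Lib.H6xPC3
  Groth.Agent.Lib.H6xPerf23 Groth.Agent.Lib.H6xBettiUsc

theorem main (X : Scheme.{u}) (E : DCoh.D X) (hE : DCoh.IsPerfect E) (i : ℤ) (r : ℕ) :
    ∃ U : X.Opens, ∀ (Y : Scheme.{u}) (f : Y ⟶ X) [DCoh.HasLpull f],
      Set.range f.base ⊆ (U : Set X) ↔
        ∃ V : Y.Modules, FlatMod.IsFinLocFreeOfRank r V ∧
          Nonempty ((DCoh.Lpull f).obj E ≅ (DCoh.inD Y V)⟦-i⟧) := by
  haveI : ∀ x : X, DCoh.HasLpull (X.fromSpecResidueField x) := fun _ => hasLpull _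
  refine ⟨⟨locus X E i r, isOpen_locus X E hE i r⟩, fun Y f _ => ?_⟩
  haveI : ∀ y : Y, DCoh.HasLpull (Y.fromSpecResidueField y) := fun _ => hasLpull _
  constructor
  · intro hr
    refine exists_iso_shift_inD Y _ (isPerfect_lpull f E hE) i r (fun y j => ?_)
    rw [betti_lpull_eq f E hE y j]
    exact hr ⟨y, rfl⟩ j
  · rintro ⟨V, hV, ⟨e⟩⟩ _ ⟨y, rfl⟩ j
    have h1 := betti_lpull_eq f E hE y j
    have h2 := betti_congr e y j
    have h3 := betti_shift_inD Y V r hV i y j
    exact h1.symm.trans (h2.trans h3)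

end Groth.Agent.Lib.H6xLocFreeDeg
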