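import Mathlib

/-!
# The truncated logarithm: `L((1+X)^j - 1) ≡ j L(X)` modulo `X^(d+1)` (helper6)
-/

set_option autoImplicit false

namespace Groth.Agent.Lib.H6xLogLine

open Polynomial Finset

/-- the truncated logarithm `Σ_{n ≤ d} (-1)^n X^(n+1)/(n+1)` -/
noncomputable def logPoly (d : ℕ) : ℚ[X] :=
  ∑ n ∈ range (d + 1), C ((-1 : ℚ) ^ n / ((n : ℚ) + 1)) * X ^ (n + 1)

/-- the truncated geometric series `Σ_{n ≤ d} (-1)^n X^n` -/
noncomputable def geomPoly (d : ℕ) : ℚ[X] := ∑ n ∈ range (d + 1), C ((-1 : ℚ) ^ n) * X ^ n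

lemma derivative_logPoly (d : ℕ) : derivative (logPoly d) = geomPoly d := by
  rw [logPoly, geomPoly, derivative_sum]
  apply sum_congr rfl
  intro n _
  rw [derivative_C_mul_X_pow, Nat.add_sub_cancel]
  congr 2
  have : ((n : ℚ) + 1) ≠ 0 := by positivity
  push_cast
  field_simp

lemma one_add_X_mul_geomPoly (d : ℕ) :
    (1 + X) * geomPoly d = 1 - (-X) ^ (d + 1) := by
  have h := mul_neg_geom_sum (-X : ℚ[X]) (d + 1)
  rw [sub_neg_eq_add] at h
  rw [← h, geomPoly]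
  congr 1
  apply sum_congr rfl
  intro n _
  rw [neg_pow (X : ℚ[X]), C_pow, C_neg, C_1]

lemma eval_zero_logPoly (d : ℕ) : (logPoly d).eval 0 = 0 := by
  rw [logPoly, eval_finsetSum]
  apply sum_eq_zero
  intro n _
  simp

/-- `log((1+X)^j) ≡ j log(1+X)` for the truncated logarithm -/
theorem X_pow_dvd_logPoly_comp (d j : ℕ) :
    X ^ (d + 1) ∣ (logPoly d).comp ((1 + X) ^ j - 1) - C (j : ℚ) * logPoly d := by
  set Y : ℚ[X] := (1 + X) ^ j - 1 with hY
  have hXY : (X : ℚ[X]) ∣ Y := by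
    have := sub_dvd_pow_sub_pow (1 + X : ℚ[X]) 1 j
    rwa [one_pow, add_sub_cancel_left] at this
  set D : ℚ[X] := (logPoly d).comp Y - C (j : ℚ) * logPoly d with hD
  have hY' : derivative Y = C (j : ℚ) * (1 + X) ^ (j - 1) := by
    rw [hY, derivative_sub, derivative_one, sub_zero, derivative_pow, derivative_add,
      derivative_one, derivative_X, zero_add, mul_one, C_eq_natCast]
  have hD' : derivative D = (geomPoly d).comp Y * (C (j : ℚ) * (1 + X) ^ (j - 1)) -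
      C (j : ℚ) * geomPoly d := by
    rw [hD, derivative_sub, derivative_comp, derivative_logPoly, derivative_C_mul, hY',
      derivative_logPoly]
    ring
  have h1 : C (j : ℚ) * (1 + X) * (1 + X) ^ (j - 1) = C (j : ℚ) * (1 + Y) := by
    rcases j with _ | j
    · simp
    · rw [hY, Nat.add_sub_cancel, mul_assoc, ← pow_succ']
      ring
  have h2 : (1 + Y) * (geomPoly d).comp Y = 1 - (-Y) ^ (d + 1) := by
    have := congrArg (fun q : ℚ[X] => q.comp Y) (one_add_X_mul_geomPoly d)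
    simpa using this
  have h3 : (1 + X) * derivative D = C (j : ℚ) * ((-X) ^ (d + 1) - (-Y) ^ (d + 1)) := by
    rw [hD']
    calc (1 + X) * ((geomPoly d).comp Y * (C (j : ℚ) * (1 + X) ^ (j - 1)) -
          C (j : ℚ) * geomPoly d)
        = (C (j : ℚ) * (1 + X) * (1 + X) ^ (j - 1)) * (geomPoly d).comp Y -
          C (j : ℚ) * ((1 + X) * geomPoly d) := by ring
      _ = C (j : ℚ) * ((1 + Y) * (geomPoly d).comp Y) - C (j : ℚ) * ((1 + X) * geomPoly d) := by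
          rw [h1]; ring
      _ = _ := by rw [h2, one_add_X_mul_geomPoly]; ring
  have h4 : X ^ (d + 1) ∣ derivative D * (1 + X) := by
    rw [mul_comm, h3]
    apply Dvd.dvd.mul_left
    apply dvd_sub
    · rw [neg_pow]; exact Dvd.intro_left _ rfl
    · rw [neg_pow]; exact Dvd.dvd.mul_left (pow_dvd_pow_of_dvd hXY _) _
  have hcop : IsCoprime (X ^ (d + 1) : ℚ[X]) (1 + X) := by
    apply IsCoprime.pow_left
    exact ⟨-1, 1, by ring⟩
  have h5 : X ^ (d + 1) ∣ derivative D := hcop.dvd_of_dvd_mul_right h4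
  rw [X_pow_dvd_iff] at h5 ⊢
  intro k hk
  rcases k with _ | k
  · rw [coeff_zero_eq_eval_zero, hD, eval_sub, eval_comp, eval_mul, eval_zero_logPoly, hY]
    simp [eval_zero_logPoly]
  · have := h5 k (by omega)
    rw [coeff_derivative] at this
    have hk1 : ((k : ℚ) + 1) ≠ 0 := by positivity
    exact (mul_eq_zero.1 this).resolve_right hk1

section Tensor

open scoped TensorProduct

variable {K : Type*} [CommRing K]

lemma aeval_logPoly (d : ℕ) (w : K) :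
    aeval ((1 : ℚ) ⊗ₜ[ℤ] w : ℚ ⊗[ℤ] K) (logPoly d) =
      ∑ n ∈ range (d + 1), ((-1 : ℚ) ^ n / ((n : ℚ) + 1)) ⊗ₜ[ℤ] (w ^ (n + 1)) := by
  rw [logPoly, map_sum]
  apply sum_congr rfl
  intro n _
  rw [map_mul, aeval_C, map_pow, aeval_X, Algebra.TensorProduct.algebraMap_apply,
    Algebra.TensorProduct.tmul_pow, one_pow, Algebra.TensorProduct.tmul_mul_tmul, mul_one, one_mul]
  rfl

/-- the functional equation of the truncated logarithm on a nilpotent element -/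
theorem log_pow_eq (d j : ℕ) (v : K) (hv : v ^ (d + 1) = 0) :
    (∑ n ∈ range (d + 1), ((-1 : ℚ) ^ n / ((n : ℚ) + 1)) ⊗ₜ[ℤ] (((1 + v) ^ j - 1) ^ (n + 1)) :
      ℚ ⊗[ℤ] K) =
      (j : ℚ) • ∑ n ∈ range (d + 1), ((-1 : ℚ) ^ n / ((n : ℚ) + 1)) ⊗ₜ[ℤ] (v ^ (n + 1)) := by
  obtain ⟨c, hc⟩ := X_pow_dvd_logPoly_comp d j
  have h1 := congrArg (aeval ((1 : ℚ) ⊗ₜ[ℤ] v : ℚ ⊗[ℤ] K)) hc
  have h2 : aeval ((1 : ℚ) ⊗ₜ[ℤ] v : ℚ ⊗[ℤ] K) ((1 + X) ^ j - 1 : ℚ[X]) =
      (1 : ℚ) ⊗ₜ[ℤ] ((1 + v) ^ j - 1) := by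
    rw [map_sub, map_pow, map_add, map_one, aeval_X, TensorProduct.tmul_sub,
      ← Algebra.TensorProduct.one_def]
    congr 1
    have h3 : (1 : ℚ) ⊗ₜ[ℤ] ((1 + v) ^ j) = ((1 : ℚ) ⊗ₜ[ℤ] (1 + v) : ℚ ⊗[ℤ] K) ^ j := by
      rw [Algebra.TensorProduct.tmul_pow, one_pow]
    rw [h3, TensorProduct.tmul_add, ← Algebra.TensorProduct.one_def]
  rw [map_sub, aeval_comp, h2, aeval_logPoly, map_mul, aeval_C, aeval_logPoly, map_mul, map_pow,
    aeval_X, Algebra.TensorProduct.tmul_pow, one_pow, hv, TensorProduct.tmul_zero, zero_mul,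
    sub_eq_zero, ← Algebra.smul_def] at h1
  exact h1

end Tensor

end Groth.Agent.Lib.H6xLogLine
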