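import Groth.Agent.Lib.H6xMilnorTop
import Groth.Prelude.Def_Formal2

/-!
# The kernel term of the Milnor sequence (helper6)
-/

set_option autoImplicit false
set_option linter.style.haveILetI false

universe w w' v u u' v'

open CategoryTheory CategoryTheory.Limits Opposite

namespace Groth.Agent.Lib.H6xMilnorKer

open Pretriangulated Groth.Agent.S0943

section Tri

variable {T : Type u'} [Category.{v'} T] [Preadditive T] [HasZeroObject T] [HasShift T ℤ]
    [∀ n : ℤ, (shiftFunctor T n).Additive] [Pretriangulated T]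
    {K : ℕ → T} {t : ∀ n, K (n + 1) ⟶ K n} [HasProduct K] {L : T} {a : ∀ n, L ⟶ K n}

theorem milnor_ker_general (hL : CohCx.IsRlimVia K t L a) (P : T) (m' m : ℤ) (h : m' + 1 = m) :
    ∃ Ψ : (∀ n, P ⟶ (K n)⟦m'⟧) →+ (P ⟶ L⟦m⟧),
      Ψ.ker = (Formal2.towerDiff (fun n => P ⟶ (K n)⟦m'⟧)
        (fun n => Preadditive.rightComp _ ((t n)⟦m'⟧'))).range ∧
      ∀ y : P ⟶ L⟦m⟧, y ∈ Ψ.range ↔ ∀ n, y ≫ (a n)⟦m⟧' = 0 := by
  obtain ⟨c, hc⟩ := hL
  let α : L ⟶ ∏ᶜ K := Pi.lift a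
  let φ : ∏ᶜ K ⟶ ∏ᶜ K := Pi.lift fun n => Pi.π K n - Pi.π K (n + 1) ≫ t n
  let F := preadditiveCoyoneda.obj (op P)
  have hπ₁ : ∀ n, α ≫ Pi.π K n = a n := fun n => Pi.lift_π _ _
  have hπ₂ : ∀ n, φ ≫ Pi.π K n = Pi.π K n - Pi.π K (n + 1) ≫ t n := fun n => Pi.lift_π _ _
  -- the inverse of the product decomposition
  let Θinv : (∀ n, P ⟶ (K n)⟦m'⟧) →+ (P ⟶ (∏ᶜ K)⟦m'⟧) :=
    { toFun := fun b => Fan.IsLimit.lift (shiftProdIsLimit K m') b
      map_zero' := by
        apply Fan.IsLimit.hom_ext (shiftProdIsLimit K m')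
        intro n
        rw [Fan.IsLimit.fac]
        change _ = (0 : P ⟶ _) ≫ (Pi.π K n)⟦m'⟧'
        rw [zero_comp]
        rfl
      map_add' := fun b b' => by
        apply Fan.IsLimit.hom_ext (shiftProdIsLimit K m')
        intro n
        rw [Fan.IsLimit.fac]
        change _ = (_ + _) ≫ (Pi.π K n)⟦m'⟧'
        rw [Preadditive.add_comp]
        change _ = Fan.IsLimit.lift (shiftProdIsLimit K m') b ≫ (Fan.mk _ _).proj n +
          Fan.IsLimit.lift (shiftProdIsLimit K m') b' ≫ (Fan.mk _ _).proj n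
        rw [Fan.IsLimit.fac, Fan.IsLimit.fac]
        rfl }
  have hΘ : ∀ (b : ∀ n, P ⟶ (K n)⟦m'⟧) (n : ℕ), Θinv b ≫ (Pi.π K n)⟦m'⟧' = b n := fun b n =>
    Fan.IsLimit.fac (shiftProdIsLimit K m') b n
  have hΘ' : ∀ z : P ⟶ (∏ᶜ K)⟦m'⟧, Θinv (fun n => z ≫ (Pi.π K n)⟦m'⟧') = z := by
    intro z
    apply Fan.IsLimit.hom_ext (shiftProdIsLimit K m')
    intro n
    exact hΘ _ n
  let δ : (P ⟶ (∏ᶜ K)⟦m'⟧) →+ (P ⟶ L⟦m⟧) := (F.homologySequenceδ (Triangle.mk α φ c) m' m h).hom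
  have hφ : ∀ z : P ⟶ (∏ᶜ K)⟦m'⟧, z ≫ φ⟦m'⟧' =
      Θinv (Formal2.towerDiff (fun n => P ⟶ (K n)⟦m'⟧)
        (fun n => Preadditive.rightComp _ ((t n)⟦m'⟧')) (fun n => z ≫ (Pi.π K n)⟦m'⟧')) := by
    intro z
    apply Fan.IsLimit.hom_ext (shiftProdIsLimit K m')
    intro n
    change (z ≫ φ⟦m'⟧') ≫ (Pi.π K n)⟦m'⟧' = Θinv _ ≫ (Pi.π K n)⟦m'⟧'
    rw [hΘ, Category.assoc, ← Functor.map_comp, hπ₂, Functor.map_sub, Preadditive.comp_sub,
      Functor.map_comp, ← Category.assoc]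
    rfl
  have hδφ : ∀ z : P ⟶ (∏ᶜ K)⟦m'⟧, δ (z ≫ φ⟦m'⟧') = 0 := by
    intro z
    have hcomp := F.comp_homologySequenceδ _ hc m' m h
    exact congrArg (fun ψ => (ConcreteCategory.hom ψ) z) hcomp
  have hδα : ∀ z : P ⟶ (∏ᶜ K)⟦m'⟧, δ z ≫ α⟦m⟧' = 0 := by
    intro z
    have hcomp := F.homologySequenceδ_comp _ hc m' m h
    exact congrArg (fun ψ => (ConcreteCategory.hom ψ) z) hcomp
  refine ⟨δ.comp Θinv, ?_, ?_⟩
  · ext b
    rw [AddMonoidHom.mem_ker, AddMonoidHom.mem_range]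
    constructor
    · intro hb
      have hex := F.homologySequence_exact₃ _ hc m' m h
      rw [ShortComplex.ab_exact_iff] at hex
      obtain ⟨z, hz⟩ := hex (Θinv b) hb
      obtain ⟨z, rfl⟩ : ∃ z' : P ⟶ (∏ᶜ K)⟦m'⟧, z' = z := ⟨z, rfl⟩
      have hz' : z ≫ φ⟦m'⟧' = Θinv b := hz
      refine ⟨fun n => z ≫ (Pi.π K n)⟦m'⟧', ?_⟩
      funext n
      rw [← hΘ b n, ← hz', hφ z, hΘ]
    · rintro ⟨b', rfl⟩
      change δ (Θinv _) = 0
      have := hφ (Θinv b')
      simp only [hΘ] at this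
      rw [← this]
      exact hδφ _
  · intro y
    rw [AddMonoidHom.mem_range]
    constructor
    · rintro ⟨b, rfl⟩ n
      change δ (Θinv b) ≫ _ = 0
      rw [← hπ₁ n, Functor.map_comp, ← Category.assoc, hδα, zero_comp]
    · intro hy
      have h0 : y ≫ α⟦m⟧' = 0 := by
        apply Fan.IsLimit.hom_ext (shiftProdIsLimit K m)
        intro n
        change (y ≫ α⟦m⟧') ≫ (Pi.π K n)⟦m⟧' = 0 ≫ (Pi.π K n)⟦m⟧'
        rw [Category.assoc, ← Functor.map_comp, hπ₁, hy, zero_comp]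
      have hex := F.homologySequence_exact₁ _ hc m' m h
      rw [ShortComplex.ab_exact_iff] at hex
      obtain ⟨z, hz⟩ := hex y h0
      obtain ⟨z, rfl⟩ : ∃ z' : P ⟶ (∏ᶜ K)⟦m'⟧, z' = z := ⟨z, rfl⟩
      refine ⟨fun n => z ≫ (Pi.π K n)⟦m'⟧', ?_⟩
      change δ (Θinv _) = y
      rw [hΘ']
      exact hz

end Tri

section Abs

open DerivedCategory Abelian Groth.Agent.Lib.H6xMilnorTop

variable {A : Type u'} [Category.{v} A] [Abelian A] [HasExt.{w'} A] [HasDerivedCategory.{w} A]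

theorem milnor_ext_ker (P : A) (F : ℕ → A) (t : ∀ n, F (n + 1) ⟶ F n)
    [HasProduct fun n => (singleFunctor A 0).obj (F n)] (M : A) (π : ∀ n, M ⟶ F n)
    (hL : CohCx.IsRlimVia (fun n => (singleFunctor A 0).obj (F n))
      (fun n => (singleFunctor A 0).map (t n)) ((singleFunctor A 0).obj M)
      (fun n => (singleFunctor A 0).map (π n))) (i j : ℕ) (hij : j + 1 = i) :
    Nonempty ((AddMonoidHom.pi fun n => (Ext.mk₀ (π n)).postcomp P (add_zero i)).ker ≃+
      Formal2.limOne (fun n => Ext.{w'} P (F n) j)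
        (fun n => (Ext.mk₀ (t n)).postcomp P (add_zero j))) := by
  obtain ⟨Ψ, hker, hrange⟩ := milnor_ker_general hL ((singleFunctor A 0).obj P) (j : ℤ) (i : ℤ)
    (by omega)
  let E1 : (∀ n, Ext.{w'} P (F n) j) ≃+
      (∀ n, (singleFunctor A 0).obj P ⟶ ((singleFunctor A 0).obj (F n))⟦(j : ℤ)⟧) :=
    AddEquiv.piCongrRight (fun n => Ext.homAddEquiv (X := P) (Y := F n) (n := j))
  let E2 : Ext.{w'} P M i ≃+ ((singleFunctor A 0).obj P ⟶ ((singleFunctor A 0).obj M)⟦(i : ℤ)⟧) :=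
    Ext.homAddEquiv
  let Ψ' : (∀ n, Ext.{w'} P (F n) j) →+ Ext.{w'} P M i :=
    E2.symm.toAddMonoidHom.comp (Ψ.comp E1.toAddMonoidHom)
  have hE1 : ∀ b : ∀ n, Ext.{w'} P (F n) j,
      E1 (Formal2.towerDiff (fun n => Ext.{w'} P (F n) j)
        (fun n => (Ext.mk₀ (t n)).postcomp P (add_zero j)) b) =
      Formal2.towerDiff
        (fun n => (singleFunctor A 0).obj P ⟶ ((singleFunctor A 0).obj (F n))⟦(j : ℤ)⟧)
        (fun n => Preadditive.rightComp _ (((singleFunctor A 0).map (t n))⟦(j : ℤ)⟧')) (E1 b) := by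
    intro b
    funext n
    change Ext.homAddEquiv (b n - (Ext.mk₀ (t n)).postcomp P (add_zero j) (b (n + 1))) =
      Ext.homAddEquiv (b n) - Ext.homAddEquiv (b (n + 1)) ≫ _
    rw [map_sub, Ext.homAddEquiv_apply, Ext.homAddEquiv_apply, Ext.homAddEquiv_apply,
      postcomp_mk₀_hom]
  have h1 : Ψ'.ker = (Formal2.towerDiff (fun n => Ext.{w'} P (F n) j)
      (fun n => (Ext.mk₀ (t n)).postcomp P (add_zero j))).range := by
    ext b
    rw [AddMonoidHom.mem_ker, AddMonoidHom.mem_range]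
    have hb : Ψ' b = 0 ↔ E1 b ∈ Ψ.ker := by
      rw [AddMonoidHom.mem_ker]
      change E2.symm (Ψ (E1 b)) = 0 ↔ _
      exact E2.symm.map_eq_zero_iff
    rw [hb, hker, AddMonoidHom.mem_range]
    constructor
    · rintro ⟨b'', hb''⟩
      refine ⟨E1.symm b'', ?_⟩
      apply E1.injective
      rw [hE1, AddEquiv.apply_symm_apply, hb'']
    · rintro ⟨b', rfl⟩
      exact ⟨E1 b', (hE1 b').symm⟩
  have h2 : Ψ'.range = (AddMonoidHom.pi fun n => (Ext.mk₀ (π n)).postcomp P (add_zero i)).ker := by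
    ext η
    rw [AddMonoidHom.mem_ker]
    have hη : η ∈ Ψ'.range ↔ E2 η ∈ Ψ.range := by
      rw [AddMonoidHom.mem_range, AddMonoidHom.mem_range]
      constructor
      · rintro ⟨b, rfl⟩
        refine ⟨E1 b, ?_⟩
        change _ = E2 (E2.symm (Ψ (E1 b)))
        rw [AddEquiv.apply_symm_apply]
      · rintro ⟨b, hb⟩
        refine ⟨E1.symm b, ?_⟩
        change E2.symm (Ψ (E1 (E1.symm b))) = η
        rw [AddEquiv.apply_symm_apply, hb, AddEquiv.symm_apply_apply]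
    rw [hη, hrange]
    constructor
    · intro h
      funext n
      apply Ext.ext
      change ((Ext.mk₀ (π n)).postcomp P (add_zero i) η).hom = (0 : Ext.{w'} P (F n) i).hom
      rw [postcomp_mk₀_hom, Ext.zero_hom]
      exact h n
    · intro h n
      have h' := congrFun h n
      change (Ext.mk₀ (π n)).postcomp P (add_zero i) η = 0 at h'
      have h'' := congrArg Ext.hom h'
      rw [postcomp_mk₀_hom, Ext.zero_hom] at h''
      exact h''
  exact ⟨(AddEquiv.addSubgroupCongr h2.symm).trans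
    ((QuotientAddGroup.quotientKerEquivRange Ψ').symm.trans
      (QuotientAddGroup.quotientAddEquivOfEq h1))⟩

end Abs

section Top

open TopologicalSpace DerivedCategory Abelian Groth.Agent.Lib.H6xMilnorTop
  Groth.Agent.Lib.Helper17.Hyp

variable {X : TopCat.{u}} [HasDerivedCategory.{u} (CohTop.Ab X)]

theorem isRlimVia_limit_top (F : ℕᵒᵖ ⥤ CohTop.Ab X)
    [HasProduct fun n => (singleFunctor (CohTop.Ab X) 0).obj (F.obj (op n))]
    (B : Set (Opens X)) (hB : Opens.IsBasis B)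
    (hvan : ∀ U ∈ B, ∀ (k i : ℕ), 0 < i → Subsingleton (CohTop.HU (F.obj (op k)) i U))
    (hsurj : ∀ U ∈ B, ∀ k : ℕ,
      Function.Surjective ((F.map (homOfLE (Nat.le_succ k)).op).hom.app (op U)).hom) :
    CohCx.IsRlimVia
      (fun n => (singleFunctor (CohTop.Ab X) 0).obj (F.obj (op n)))
      (fun n => (singleFunctor (CohTop.Ab X) 0).map (F.map (homOfLE (Nat.le_succ n)).op))
      ((singleFunctor (CohTop.Ab X) 0).obj (limit F))
      (fun n => (singleFunctor (CohTop.Ab X) 0).map (limit.π F (op n))) := by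
  obtain ⟨tn, htn⟩ : ∃ tn : ∀ n, F.obj (op (n + 1)) ⟶ F.obj (op n),
    tn = fun n => F.map (homOfLE (Nat.le_succ n)).op := ⟨_, rfl⟩
  let α : F ⟶ CohCx.opSequence (fun n => F.obj (op n)) tn :=
    NatTrans.ofOpSequence (fun n => 𝟙 (F.obj (op n))) (fun n => by
      rw [Functor.ofOpSequence_map_homOfLE_succ, htn]
      exact (Category.comp_id _).trans (Category.id_comp _).symm)
  haveI : ∀ k, IsIso (α.app k) := fun k => by
    change IsIso (𝟙 (F.obj (op k.unop)))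
    infer_instance
  haveI : IsIso α := NatIso.isIso_of_isIso_app α
  let e : limit F ≅ limit (CohCx.opSequence (fun n => F.obj (op n)) tn) :=
    HasLimit.isoOfNatIso (asIso α)
  have he : ∀ n, e.hom ≫ limit.π (CohCx.opSequence (fun n => F.obj (op n)) tn) (op n) =
      limit.π F (op n) := fun n =>
    (HasLimit.isoOfNatIso_hom_π (asIso α) (op n)).trans (Category.comp_id _)
  have hB' : ∀ U : Opens X, ∃ (ι : Type u) (Y : ι → Opens X) (f : ∀ i, Y i ⟶ U),
      Sieve.ofArrows Y f ∈ Opens.grothendieckTopology X U ∧ ∀ i, Y i ∈ B := by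
    intro U
    have key : ∀ x : {x : X // x ∈ U}, ∃ W : Opens X, W ∈ B ∧ x.1 ∈ W ∧ W ≤ U :=
      fun x => Opens.isBasis_iff_nbhd.1 hB x.2
    choose W hWB hxW hWU using key
    refine ⟨{x : X // x ∈ U}, W, fun x => homOfLE (hWU x), ?_, hWB⟩
    intro x hx
    exact ⟨W ⟨x, hx⟩, homOfLE (hWU ⟨x, hx⟩),
      Sieve.ofArrows_mk _ _ (⟨x, hx⟩ : {x : X // x ∈ U}), hxW ⟨x, hx⟩⟩
  subst htn
  have hL0 := Groth.Agent.Lib.H6xDerLim.isRlimVia_single_limit (fun n => F.obj (op n))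
    (fun n => F.map (homOfLE (Nat.le_succ n)).op) B hB'
    (fun U hU p n => hvan U hU n (p + 1) (Nat.succ_pos p))
    (fun U hU => limOneIsZero_of_surjective 0 _ _ (fun n _ => hsurj U hU n))
  refine isRlimVia_of_iso hL0 ((singleFunctor (CohTop.Ab X) 0).map e.hom) _ (fun n => ?_)
  rw [← Functor.map_comp]
  exact congrArg _ (he n)

end Top

section Top2

open TopologicalSpace DerivedCategory Abelian Groth.Agent.Lib.H6xMilnorTop
  Groth.Agent.Lib.Helper17.Hyp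

variable {X : TopCat.{u}}

theorem milnor_top_U (F : ℕᵒᵖ ⥤ CohTop.Ab X)
    (B : Set (Opens X)) (hB : Opens.IsBasis B)
    (hsurj : ∀ V ∈ B, ∀ n : ℕ,
      Function.Surjective ((F.map (homOfLE (Nat.le_succ n)).op).hom.app (op V)).hom)
    (hvan : ∀ V ∈ B, ∀ (n i : ℕ), 0 < i → Subsingleton (CohTop.HU (F.obj (op n)) i V))
    (U : Opens X) (i j : ℕ) (hij : j + 1 = i) :
    (∀ ξ : ∀ n : ℕ, CohTop.HU (F.obj (op n)) i U,
      (∀ n, CohTop.HUmap (F.map (homOfLE (Nat.le_succ n)).op) i U (ξ (n + 1)) = ξ n) →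
        ∃ η : CohTop.HU (limit F) i U, ∀ n, CohTop.HUmap (limit.π F (op n)) i U η = ξ n) ∧
    Nonempty ((AddMonoidHom.pi fun n : ℕ => CohTop.HUmap (limit.π F (op n)) i U).ker ≃+
      Formal2.limOne (fun n : ℕ => CohTop.HU (F.obj (op n)) j U)
        (fun n : ℕ => CohTop.HUmap (F.map (homOfLE (Nat.le_succ n)).op) j U)) := by
  letI : HasDerivedCategory.{u} (CohTop.Ab X) :=
    Groth.Agent.Lib.Helper17.DBrown.hasDerivedCategorySmall (CohTop.Ab X)
  haveI := Groth.Agent.Lib.H6xDerLim.hasLimitsOfShape_nat (J := Opens.grothendieckTopology X)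
  have hL := isRlimVia_limit_top F B hB hvan hsurj
  have h1 := milnor_ext.{u, u} (CohCx.freeSheaf (Opens.grothendieckTopology X) U)
    (fun n => F.obj (op n)) (fun n => F.map (homOfLE (Nat.le_succ n)).op) (limit F)
    (fun n => limit.π F (op n)) hL i j hij
  have h2 := milnor_ext_ker.{u, u} (CohCx.freeSheaf (Opens.grothendieckTopology X) U)
    (fun n => F.obj (op n)) (fun n => F.map (homOfLE (Nat.le_succ n)).op) (limit F)
    (fun n => limit.π F (op n)) hL i j hij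
  exact ⟨h1.1, h2⟩

end Top2

end Groth.Agent.Lib.H6xMilnorKer
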