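/-
Graded free resolutions (`GrSyz.FreeRes`) over an `AddSubgroup`-graded ring, for bundled graded
modules: the augmentation as a homogeneous surjection from a graded free module, the first syzygy
module with the tail of the resolution, the generator bound for minimal resolutions, and the
Eisenbud–Goto theorem comparing generator degrees of a minimal resolution with the vanishing of
graded local cohomology over the polynomial ring.
-/
import Mathlib
import Groth.Agent.Lib.R2H7GrReg
import Groth.Agent.Lib.Helper13FreeRes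

set_option autoImplicit false
open DirectSum

noncomputable section

namespace Groth.Agent.Lib.R2H7.GrRes

open Groth.Agent.Lib.Helper29GrHom Groth.Agent.Lib.R2H7.GrDer Groth.Agent.Lib.R2H7.GrOps
  Groth.Agent.Lib.R2H7.GrLES Groth.Agent.Lib.R2H7.GrTors Groth.Agent.Lib.R2H7.GrBdry
  Groth.Agent.Lib.R2H7.GrPoly Groth.Agent.Lib.R2H7.GrFree Groth.Agent.Lib.R2H7.GrKos
  Groth.Agent.Lib.R2H7.GrReg

universe u

section general

variable {R : Type u} [CommRing R] {𝒜 : ℤ → AddSubgroup R} [GradedRing 𝒜]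
variable {X : GrLC.GMod.{u} 𝒜} (F : GrSyz.FreeRes 𝒜 X.gr)

/-- The augmentation as a map out of the graded free module. -/
def augG : (freeG 𝒜 (F.deg 0)).carrier →ₗ[R] X.carrier := F.augLin

theorem augG_apply (v : Fin (F.rk 0) → R) : augG F v = ∑ b, v b • F.aug b := rfl

theorem augG_gr : GrLC.IsGrHom (freeG 𝒜 (F.deg 0)).gr X.gr (augG F) := by
  intro d v hv
  rw [augG_apply]
  refine sum_mem (fun b _ => ?_)
  have h := SetLike.GradedSMul.smul_mem (A := 𝒜) (B := X.gr)
    ((mem_freeG_gr 𝒜 (F.deg 0)).mp hv b) (F.aug_mem b)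
  rw [vadd_eq_add, sub_add_cancel] at h
  exact h

theorem augG_surj : Function.Surjective (augG F) := F.aug_surjective

/-- The first syzygy module. -/
def syzG : GrLC.GMod.{u} 𝒜 :=
  subG (freeG 𝒜 (F.deg 0)) (LinearMap.ker (augG F))
    (ker_isHomogeneous X.gr (freeG 𝒜 (F.deg 0)).gr (augG F) (augG_gr F))

/-- `0 → syz → F_0 → X → 0`. -/
def sesF : GSES (syzG F) (freeG 𝒜 (F.deg 0)) X := GSES.ofSurj (augG F) (augG_gr F) (augG_surj F)

/-- The columns of the first differential. -/
def col (b : Fin (F.rk (0 + 1))) : Fin (F.rk 0) → R := fun a => F.d 0 a b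

theorem mulVec_apply' {m n : ℕ} (D : Matrix (Fin m) (Fin n) R) (v : Fin n → R) (a : Fin m) :
    D.mulVec v a = ∑ b, D a b * v b := rfl

theorem sum_smul_col (v : Fin (F.rk (0 + 1)) → R) :
    ∑ b, v b • col F b = (F.d 0).mulVec v := by
  funext a
  rw [Finset.sum_apply, mulVec_apply']
  exact Finset.sum_congr rfl (fun b _ => mul_comm _ _)

theorem col_mem_ker (b : Fin (F.rk (0 + 1))) : col F b ∈ LinearMap.ker (augG F) := by
  classical
  have h : col F b ∈ LinearMap.range (Matrix.mulVecLin (F.d 0)) := by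
    refine ⟨Pi.single b 1, ?_⟩
    rw [Matrix.mulVecLin_apply, Matrix.mulVec_single_one]
    rfl
  rw [← F.exact_zero] at h
  exact h

/-- The generators of the syzygy module. -/
def tailAug (b : Fin (F.rk (0 + 1))) : ↥(LinearMap.ker (augG F)) := ⟨col F b, col_mem_ker F b⟩

theorem coe_lc_tailAug (v : Fin (F.rk (0 + 1)) → R) :
    (Fintype.linearCombination R (tailAug F) v).1 = (F.d 0).mulVec v := by
  rw [Fintype.linearCombination_apply, ← sum_smul_col]
  exact Submodule.coe_sum _ _ _

/-- The tail of the resolution, a resolution of the first syzygy module. -/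
def tailRes : GrSyz.FreeRes 𝒜 (syzG F).gr where
  rk i := F.rk (i + 1)
  deg i := F.deg (i + 1)
  d i := F.d (i + 1)
  aug := tailAug F
  d_mem i a b := F.d_mem (i + 1) a b
  aug_mem b := fun a => F.d_mem 0 a b
  aug_surjective := by
    rintro ⟨z, hz⟩
    have hz' : z ∈ LinearMap.range (Matrix.mulVecLin (F.d 0)) := by
      rw [← F.exact_zero]
      exact hz
    obtain ⟨v, hv⟩ := hz'
    exact ⟨v, Subtype.ext ((coe_lc_tailAug F v).trans hv)⟩
  exact_zero := by
    rw [← F.exact_succ 0]
    ext v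
    rw [LinearMap.mem_ker, LinearMap.mem_ker]
    constructor
    · intro h
      exact (coe_lc_tailAug F v).symm.trans (congrArg Subtype.val h)
    · intro h
      exact Subtype.ext ((coe_lc_tailAug F v).trans h)
  exact_succ i := F.exact_succ (i + 1)

theorem tailRes_rk (i : ℕ) : (tailRes F).rk i = F.rk (i + 1) := rfl

theorem tailRes_deg (i : ℕ) (b : Fin (F.rk (i + 1))) : (tailRes F).deg i b = F.deg (i + 1) b := rfl

theorem tailRes_isMinimal (𝔪 : Ideal R) (h : F.IsMinimal 𝔪) : (tailRes F).IsMinimal 𝔪 :=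
  fun i a b => h (i + 1) a b

theorem subsingleton_of_rk_zero (h : F.rk 0 = 0) : Subsingleton X.carrier := by
  have hs : Subsingleton (Fin (F.rk 0) → R) := by
    rw [h]
    infer_instance
  exact ⟨fun x y => by
    obtain ⟨v, rfl⟩ := F.aug_surjective x
    obtain ⟨w, rfl⟩ := F.aug_surjective y
    rw [Subsingleton.elim v w]⟩

/-- All coordinates of an element of `𝔪 F` lie in `𝔪`. -/
theorem coord_mem_of_mem_smul_top {m : ℕ} (𝔪 : Ideal R) (w : Fin m → R)
    (hw : w ∈ 𝔪 • (⊤ : Submodule R (Fin m → R))) (b : Fin m) : w b ∈ 𝔪 := by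
  refine Submodule.smul_induction_on hw ?_ ?_
  · intro r hr v _
    exact Ideal.mul_mem_right _ _ hr
  · intro x y hx hy
    exact Ideal.add_mem _ hx hy

/-- Generator bound for a minimal resolution: if `X_j ⊆ 𝔪 X` for `j > d`, then the generators of
`F_0` have degree at most `d`. -/
theorem deg0_le (𝔪 : Ideal R) (hmin : F.IsMinimal 𝔪) (hne : 𝔪 ≠ ⊤) (d : ℤ)
    (h : ∀ j : ℤ, d < j → ∀ z ∈ X.gr j, z ∈ 𝔪 • (⊤ : Submodule R X.carrier))
    (b₀ : Fin (F.rk 0)) : F.deg 0 b₀ ≤ d := by
  classical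
  by_contra hlt
  have hlt' : d < F.deg 0 b₀ := not_le.mp hlt
  have h1 := h _ hlt' _ (F.aug_mem b₀)
  have hmap : (𝔪 • (⊤ : Submodule R X.carrier)) =
      (𝔪 • (⊤ : Submodule R (Fin (F.rk 0) → R))).map F.augLin := by
    rw [Submodule.map_smul'', Submodule.map_top, LinearMap.range_eq_top.mpr F.aug_surjective]
  rw [hmap] at h1
  obtain ⟨w, hw, hwe⟩ := h1
  have hker : (Pi.single b₀ 1 - w : Fin (F.rk 0) → R) ∈ LinearMap.ker F.augLin := by
    rw [LinearMap.mem_ker, map_sub, hwe, Fintype.linearCombination_apply_single, one_smul, sub_self]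
  rw [F.exact_zero] at hker
  obtain ⟨u, hu⟩ := hker
  have h2 : (Pi.single b₀ 1 - w : Fin (F.rk 0) → R) b₀ ∈ 𝔪 := by
    rw [← hu, Matrix.mulVecLin_apply, mulVec_apply']
    exact Ideal.sum_mem _ (fun c _ => Ideal.mul_mem_right _ _ (hmin 0 b₀ c))
  rw [Pi.sub_apply, Pi.single_eq_same] at h2
  have h3 : (1 : R) ∈ 𝔪 := by
    have := Ideal.add_mem _ h2 (coord_mem_of_mem_smul_top 𝔪 w hw b₀)
    rwa [sub_add_cancel] at this
  exact hne ((Ideal.eq_top_iff_one 𝔪).mpr h3)

end general

/-! ### The Eisenbud–Goto theorem -/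

section poly

variable {k : Type u} [Field k] {n : ℕ}

theorem mm_ne_top : (mm k n).toIdeal ≠ ⊤ :=
  (Groth.Agent.Helper13FreeRes.isMaximal_irrel_stdGr k (Fin n)).ne_top

/-- Generator degrees bounded by `d + i` imply `H^i_m(X)_g = 0` for `g > d - i`. -/
theorem regL_of_genLE : ∀ (N : ℕ) (X : GrLC.GMod.{u} (toAS (GrSyz.stdGr k (Fin n))))
    (F : GrSyz.FreeRes (toAS (GrSyz.stdGr k (Fin n))) X.gr) (d : ℤ),
    (∀ i, N ≤ i → F.rk i = 0) → F.IsGenLE d → RegL k n X d := by
  intro N
  induction N with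
  | zero =>
    intro X F d hlen _ i g _
    exact vanX_of_subsingleton (mm k n) X (subsingleton_of_rk_zero F (hlen 0 le_rfl)) i g
  | succ N ih =>
    intro X F d hlen hgen i g hg
    have hsyz : RegL k n (syzG F) (d + 1) := by
      refine ih (syzG F) (tailRes F) (d + 1) (fun i hi => hlen (i + 1) (by omega)) (fun i b => ?_)
      have h := hgen (i + 1) b
      show F.deg (i + 1) b ≤ d + 1 + (i : ℤ)
      push_cast at h
      omega
    refine vanX_right (sesF F) (mm k n)
      (vanX_freeG k n (F.deg 0) i g (fun b hin => ?_)) (hsyz (i + 1) g ?_)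
    · have h := hgen 0 b
      rw [hin] at hg
      push_cast at h
      omega
    · push_cast
      omega

/-- The generator bound in homological degree zero. -/
theorem deg0_le_of_regL (X : GrLC.GMod.{u} (toAS (GrSyz.stdGr k (Fin n))))
    (F : GrSyz.FreeRes (toAS (GrSyz.stdGr k (Fin n))) X.gr) (d : ℤ)
    (hmin : F.IsMinimal (mm k n).toIdeal) (hreg : RegL k n X d) (b : Fin (F.rk 0)) :
    F.deg 0 b ≤ d :=
  deg0_le F (mm k n).toIdeal hmin mm_ne_top d
    (fun j hj => gen_bound_poly k n X j (fun q => hreg q (j - (q : ℤ)) (by omega))) b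

/-- `H^i_m(X)_g = 0` for `g > d - i` implies generator degrees bounded by `d + i`, for a minimal
resolution. -/
theorem deg_le_of_regL (hn : 0 < n) : ∀ (i : ℕ) (X : GrLC.GMod.{u} (toAS (GrSyz.stdGr k (Fin n))))
    (F : GrSyz.FreeRes (toAS (GrSyz.stdGr k (Fin n))) X.gr) (d : ℤ),
    F.IsMinimal (mm k n).toIdeal → RegL k n X d → ∀ b : Fin (F.rk i), F.deg i b ≤ d + (i : ℤ) := by
  intro i
  induction i with
  | zero =>
    intro X F d hmin hreg b
    have h := deg0_le_of_regL X F d hmin hreg b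
    push_cast
    omega
  | succ i ih =>
    intro X F d hmin hreg b
    have h0 := deg0_le_of_regL X F d hmin hreg
    have hsyz : RegL k n (syzG F) (d + 1) := by
      intro i' g hg
      cases i' with
      | zero =>
        refine vanX_left_zero (sesF F) (mm k n) (vanX_freeG k n (F.deg 0) 0 g (fun b h0n => ?_))
        omega
      | succ i' =>
        refine vanX_left (sesF F) (mm k n)
          (vanX_freeG k n (F.deg 0) (i' + 1) g (fun b hin => ?_)) (hreg i' g ?_)
        · have h := h0 b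
          push_cast at hg
          omega
        · push_cast at hg
          omega
    have h := ih (syzG F) (tailRes F) (d + 1) (tailRes_isMinimal F _ hmin) hsyz b
    have h' : F.deg (i + 1) b ≤ d + 1 + (i : ℤ) := h
    push_cast
    omega

/-- The Eisenbud–Goto theorem for bundled graded modules. -/
theorem genLE_iff_regL (hn : 0 < n) (X : GrLC.GMod.{u} (toAS (GrSyz.stdGr k (Fin n))))
    (F : GrSyz.FreeRes (toAS (GrSyz.stdGr k (Fin n))) X.gr) (N : ℕ)
    (hlen : ∀ i, N ≤ i → F.rk i = 0) (hmin : F.IsMinimal (mm k n).toIdeal) (d : ℤ) :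
    F.IsGenLE d ↔ RegL k n X d :=
  ⟨regL_of_genLE N X F d hlen, fun h i b => deg_le_of_regL hn i X F d hmin h b⟩

end poly

/-! ### Resolutions over the `Submodule`-valued grading -/

section conv

variable {R : Type u} [CommRing R] {σ : Type u} [SetLike σ R] [AddSubgroupClass σ R]
  (𝒜₀ : ℤ → σ) [GradedRing 𝒜₀]
  {M : Type u} [AddCommGroup M] [Module R M] {τ : Type u} [SetLike τ M] [AddSubgroupClass τ M]
  (ℳ : ℤ → τ) [DirectSum.Decomposition ℳ] [SetLike.GradedSMul 𝒜₀ ℳ]

/-- Convert a resolution. -/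
def convFreeRes (F : GrSyz.FreeRes 𝒜₀ ℳ) : GrSyz.FreeRes (toAS 𝒜₀) (toGMod 𝒜₀ ℳ).gr where
  rk := F.rk
  deg := F.deg
  d := F.d
  aug := F.aug
  d_mem := F.d_mem
  aug_mem := F.aug_mem
  aug_surjective := F.aug_surjective
  exact_zero := F.exact_zero
  exact_succ := F.exact_succ

end conv

end Groth.Agent.Lib.R2H7.GrRes
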