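/-
The syzygy-theoretic regularity `GrSyz.reg` of a finitely generated graded module over the
polynomial ring in terms of graded local cohomology (bundled form), with the order-theoretic
lemmas needed to compare extended integers.
-/
import Mathlib
import Groth.Agent.Lib.R2H7GrRes
import Groth.Agent.Lib.Helper13RegLin
import Groth.Agent.Lib.Helper13Betti
import Groth.Agent.Lib.Helper13MinRes
import Groth.Agent.S15423

set_option autoImplicit false

noncomputable section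

namespace Groth.Agent.Lib.R2H7.GrRegS

open Groth.Agent.Lib.R2H7.GrBdry Groth.Agent.Lib.R2H7.GrPoly Groth.Agent.Lib.R2H7.GrReg
  Groth.Agent.Lib.R2H7.GrRes

universe u

/-- Two extended integers with the same integer upper bounds are equal. -/
theorem eq_of_forall_int_le_iff (s t : WithBot (WithTop ℤ))
    (h : ∀ ρ : ℤ, s ≤ ((ρ : WithTop ℤ) : WithBot (WithTop ℤ)) ↔
      t ≤ ((ρ : WithTop ℤ) : WithBot (WithTop ℤ))) : s = t := by
  rw [← Groth.Agent.S15423.iInf_int_eq s, ← Groth.Agent.S15423.iInf_int_eq t]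
  simp only [h]

variable {k : Type u} [Field k] {r : ℕ}
  {M : Type u} [AddCommGroup M] [Module k M] [Module (MvPolynomial (Fin (r + 1)) k) M]
  [IsScalarTower k (MvPolynomial (Fin (r + 1)) k) M]
  [Module.Finite (MvPolynomial (Fin (r + 1)) k) M]
  (ℳ : ℤ → Submodule k M) [DirectSum.Decomposition ℳ]
  [SetLike.GradedSMul (GrSyz.stdGr k (Fin (r + 1))) ℳ]

/-- For a minimal resolution, `IsRegLE` is the generator degree bound. -/
theorem isRegLE_iff_isGenLE (F : GrSyz.FreeRes (GrSyz.stdGr k (Fin (r + 1))) ℳ)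
    (hF : F.IsMinimal (GrSyz.irrel (GrSyz.stdGr k (Fin (r + 1)))).toIdeal) (ρ : ℤ) :
    GrSyz.IsRegLE (GrSyz.stdGr k (Fin (r + 1))) ℳ
      (GrSyz.irrel (GrSyz.stdGr k (Fin (r + 1)))).toIdeal ρ ↔ F.IsGenLE ρ := by
  classical
  constructor
  · rintro ⟨F', hF', hgen⟩
    intro i b
    have hpos : 0 < F.betti i (F.deg i b) := by
      unfold GrSyz.FreeRes.betti
      exact Finset.card_pos.2 ⟨b, Finset.mem_filter.2 ⟨Finset.mem_univ _, rfl⟩⟩
    rw [Groth.Agent.Helper13Betti.betti_eq F F' hF hF' i (F.deg i b)] at hpos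
    unfold GrSyz.FreeRes.betti at hpos
    obtain ⟨b', hb'⟩ := Finset.card_pos.1 hpos
    rw [← (Finset.mem_filter.1 hb').2]
    exact hgen i b'
  · intro h
    exact ⟨F, hF, h⟩

/-- Regularity at most `ρ` in terms of graded local cohomology. -/
theorem isRegLE_iff_regL (ρ : ℤ) :
    GrSyz.IsRegLE (GrSyz.stdGr k (Fin (r + 1))) ℳ
      (GrSyz.irrel (GrSyz.stdGr k (Fin (r + 1)))).toIdeal ρ ↔
      RegL k (r + 1) (toGMod (GrSyz.stdGr k (Fin (r + 1))) ℳ) ρ := by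
  obtain ⟨F, hF⟩ := Groth.Agent.Helper13MinRes.exists_freeRes_isMinimal (k := k)
    (σ := Fin (r + 1)) ℳ
  have hlen := Groth.Agent.Helper13RegLin.hasLengthLE_of_isMinimal F hF
  rw [isRegLE_iff_isGenLE ℳ F hF ρ]
  exact genLE_iff_regL (Nat.succ_pos r) (toGMod (GrSyz.stdGr k (Fin (r + 1))) ℳ)
    (convFreeRes (GrSyz.stdGr k (Fin (r + 1))) ℳ F) (r + 2) (fun i hi => hlen i (by omega)) hF ρ

/-- `reg ≤ ρ` means `IsRegLE ρ`. -/
theorem reg_le_iff (ρ : ℤ) :
    GrSyz.reg (GrSyz.stdGr k (Fin (r + 1))) ℳ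
        (GrSyz.irrel (GrSyz.stdGr k (Fin (r + 1)))).toIdeal ≤
      ((ρ : WithTop ℤ) : WithBot (WithTop ℤ)) ↔
      GrSyz.IsRegLE (GrSyz.stdGr k (Fin (r + 1))) ℳ
        (GrSyz.irrel (GrSyz.stdGr k (Fin (r + 1)))).toIdeal ρ := by
  unfold GrSyz.reg
  constructor
  · intro h
    by_contra hne
    have h1 : (((ρ + 1 : ℤ) : WithTop ℤ) : WithBot (WithTop ℤ)) ≤
        ⨅ (r' : ℤ) (_ : GrSyz.IsRegLE (GrSyz.stdGr k (Fin (r + 1))) ℳ
          (GrSyz.irrel (GrSyz.stdGr k (Fin (r + 1)))).toIdeal r'),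
          ((r' : WithTop ℤ) : WithBot (WithTop ℤ)) := by
      refine le_iInf₂ (fun r' hr' => ?_)
      rw [WithBot.coe_le_coe, WithTop.coe_le_coe]
      by_contra hlt
      exact hne (Groth.Agent.Helper13RegLin.isRegLE_mono _ (by omega) hr')
    have h2 := h1.trans h
    rw [WithBot.coe_le_coe, WithTop.coe_le_coe] at h2
    omega
  · intro h
    exact iInf₂_le (f := fun (r' : ℤ) (_ : GrSyz.IsRegLE (GrSyz.stdGr k (Fin (r + 1))) ℳ
      (GrSyz.irrel (GrSyz.stdGr k (Fin (r + 1)))).toIdeal r') =>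
        ((r' : WithTop ℤ) : WithBot (WithTop ℤ))) ρ h

theorem reg_le_iff_regL (ρ : ℤ) :
    GrSyz.reg (GrSyz.stdGr k (Fin (r + 1))) ℳ
        (GrSyz.irrel (GrSyz.stdGr k (Fin (r + 1)))).toIdeal ≤
      ((ρ : WithTop ℤ) : WithBot (WithTop ℤ)) ↔
      RegL k (r + 1) (toGMod (GrSyz.stdGr k (Fin (r + 1))) ℳ) ρ :=
  (reg_le_iff ℳ ρ).trans (isRegLE_iff_regL ℳ ρ)

end Groth.Agent.Lib.R2H7.GrRegS
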