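/-
The a-invariant under quotients by regular sequences of homogeneous elements:
`end H^{δ-t}_a(X/(f_1..f_t)X) = end H^δ_a(X) + Σ deg f_i` when `H^i_a(X) = 0` for `i < δ`, and the
vanishing `H^i_m(R) = 0` for `i < dim R` for a Cohen-Macaulay *local graded ring.
-/
import Mathlib
import Groth.Agent.Lib.R2H7GrHt
import Groth.Agent.Lib.R2H7GrRegS
import Groth.Agent.Lib.R2H7GrFree
import Groth.Agent.Lib.Helper28DepthMore
import Groth.Agent.Lib.Helper8LCDepth

set_option autoImplicit false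
open DirectSum

noncomputable section

namespace Groth.Agent.Lib.R2H7.GrAinv

open Groth.Agent.Lib.R2H7.GrDer Groth.Agent.Lib.R2H7.GrOps Groth.Agent.Lib.R2H7.GrLES
  Groth.Agent.Lib.R2H7.GrTors Groth.Agent.Lib.R2H7.GrGen Groth.Agent.Lib.R2H7.GrTop
  Groth.Agent.Lib.R2H7.GrFree Groth.Agent.Lib.R2H7.GrBdry Groth.Agent.Lib.Helper29GrEss
open scoped Pointwise

universe u

variable {R : Type u} [CommRing R] {𝒜 : ℤ → AddSubgroup R} [GradedRing 𝒜]

/-- Depth of a Cohen-Macaulay *local graded ring: `H^i_m(R) = 0` for `i < dim R`. -/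
theorem vanX_of_lt_dim [LocCoh.IsCohenMacaulayRing R] (hpos : ∀ n : ℤ, n < 0 → 𝒜 n = ⊥)
    (m : HomogeneousIdeal 𝒜) (hm : GrLC.IsStarLocal 𝒜 m) (n : ℕ)
    (hn : ringKrullDim R = (n : WithBot ℕ∞)) (i : ℕ) (hi : i < n) (g : ℤ) :
    VanX m (GrLC.GMod.of 𝒜 R 𝒜) i g := by
  have hne : m.toIdeal ≠ ⊤ := Groth.Agent.Lib.R2H7.GrHt.toIdeal_ne_top 𝒜 m hm.1
  have h1 := Groth.Agent.Lib.R2H7.GrHt.ringKrullDim_le_height 𝒜 hpos m hm
  rw [hn] at h1
  have h2 : (n : ℕ∞) ≤ m.toIdeal.height := by exact_mod_cast h1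
  have h3 : LocCoh.idealDepth m.toIdeal R = m.toIdeal.height :=
    Groth.Agent.Lib.Helper28.idealDepth_self_eq_height_of_isCohenMacaulayRing inferInstance
      m.toIdeal hne
  have hIM : m.toIdeal • (⊤ : Submodule R R) ≠ ⊤ := by
    have : m.toIdeal • (⊤ : Submodule R R) = m.toIdeal := by
      rw [Ideal.smul_eq_mul, Ideal.mul_top]
    rw [this]
    exact hne
  apply vanX_of_subsingleton_H
  show Subsingleton (LocCoh.H m.toIdeal i R)
  have key := Groth.Agent.Lib.Helper8.LC.H_eq_zero_of_lt_depth m.toIdeal n R hIM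
    (by rw [h3]; exact h2) i hi
  exact ⟨fun y z => by rw [key y, key z]⟩

/-! ### One regular element -/

section step

variable [IsNoetherianRing R] (a : HomogeneousIdeal 𝒜)

theorem vanX_quot_gen {X N : GrLC.GMod.{u} 𝒜} (e : ℤ) {x : R} (hx : x ∈ 𝒜 e)
    (π : X.carrier →ₗ[R] N.carrier) (hπ : GrLC.IsGrHom X.gr N.gr π) (hs : Function.Surjective π)
    (hker : LinearMap.ker π = LinearMap.range (x • (LinearMap.id : X.carrier →ₗ[R] X.carrier)))
    (hK : ∀ m : X.carrier, x • m = 0 → m ∈ GrLC.gam a.toIdeal X.carrier) (i : ℕ) (g : ℤ)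
    (h0 : VanX a X i g) (h1 : VanX a X (i + 1) (g + -e)) : VanX a N i g := by
  refine vanX_right (sesB π hπ hs) a h0 ?_
  refine vanX_right (sesA e hx π hπ hker) a ((vanX_shift a (-e) (i + 1) g).mpr h1) ?_
  apply vanX_of_torsion a _ _ (i + 1 + 1) (Nat.succ_pos _) g
  rintro ⟨m, hm⟩
  refine (mem_gam_sub a.toIdeal (LinearMap.ker (mulCo e π hπ hker)) ⟨m, hm⟩).mpr (hK m ?_)
  have h0 : mulCo e π hπ hker m = 0 := hm
  exact congrArg Subtype.val h0

theorem vanX_of_quot_ge {X N : GrLC.GMod.{u} 𝒜} (e : ℤ) (he : 0 ≤ e) {x : R} (hx : x ∈ 𝒜 e)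
    (hxa : x ∈ a.toIdeal)
    (π : X.carrier →ₗ[R] N.carrier) (hπ : GrLC.IsGrHom X.gr N.gr π) (hs : Function.Surjective π)
    (hker : LinearMap.ker π = LinearMap.range (x • (LinearMap.id : X.carrier →ₗ[R] X.carrier)))
    (hK : ∀ m : X.carrier, x • m = 0 → m ∈ GrLC.gam a.toIdeal X.carrier) (i : ℕ) (g : ℤ)
    (h : ∀ g', g ≤ g' → VanX a N i (g' + e)) : ∀ g', g ≤ g' → VanX a X (i + 1) g' := by
  obtain ⟨E⟩ := exists_res X
  intro g' hg'
  rw [vanX_iff a E]
  refine van_of_forall_inj a hx E hxa (i + 1) {j | g ≤ j} ?_ ?_ g' hg'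
  · intro j hj
    have : g ≤ j := hj
    show g ≤ e + j
    omega
  · intro j hj z hz hzg hc
    have hj' : g ≤ j := hj
    refine inj_of_hinjX a hx (hinjX_mul_succ a e hx π hπ hs hker hK (h j hj')) E z hz ?_ hc
    have e' : j + e + -e = j := by ring
    rw [e']
    exact hzg

theorem step_iff {X N : GrLC.GMod.{u} 𝒜} (e : ℤ) (he : 0 ≤ e) {x : R} (hx : x ∈ 𝒜 e)
    (hxa : x ∈ a.toIdeal)
    (π : X.carrier →ₗ[R] N.carrier) (hπ : GrLC.IsGrHom X.gr N.gr π) (hs : Function.Surjective π)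
    (hker : LinearMap.ker π = LinearMap.range (x • (LinearMap.id : X.carrier →ₗ[R] X.carrier)))
    (hK : ∀ m : X.carrier, x • m = 0 → m ∈ GrLC.gam a.toIdeal X.carrier) (δ : ℕ)
    (hdepth : ∀ g, VanX a X δ g) (σ : ℤ) :
    (∀ g, σ + e < g → VanX a N δ g) ↔ (∀ g, σ < g → VanX a X (δ + 1) g) := by
  constructor
  · intro h g hg
    refine vanX_of_quot_ge a e he hx hxa π hπ hs hker hK δ g (fun g' hg' => h _ ?_) g le_rfl
    omega
  · intro h g hg
    refine vanX_quot_gen a e hx π hπ hs hker hK δ g (hdepth g) (h _ ?_)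
    omega

/-- Invariance under isomorphisms. -/
theorem vanX_iff_of_bijective {X N : GrLC.GMod.{u} 𝒜}
    (π : X.carrier →ₗ[R] N.carrier) (hπ : GrLC.IsGrHom X.gr N.gr π) (hs : Function.Surjective π)
    (hinj : LinearMap.ker π = ⊥) (i : ℕ) (g : ℤ) : VanX a X i g ↔ VanX a N i g := by
  have hsub : Subsingleton (subG X (LinearMap.ker π)
      (Groth.Agent.Lib.Helper29GrHom.ker_isHomogeneous N.gr X.gr π hπ)).carrier := by
    refine ⟨fun y z => ?_⟩
    have hy : (y.1 : X.carrier) = 0 := (Submodule.mem_bot R).mp (hinj ▸ y.2)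
    have hz : (z.1 : X.carrier) = 0 := (Submodule.mem_bot R).mp (hinj ▸ z.2)
    exact Subtype.ext (hy.trans hz.symm)
  constructor
  · intro h
    exact vanX_right (GSES.ofSurj π hπ hs) a h (vanX_of_subsingleton a _ hsub _ g)
  · intro h
    exact vanX_mid (GSES.ofSurj π hπ hs) a (vanX_of_subsingleton a _ hsub _ g) h

end step

theorem smul_top_eq_range {M : Type u} [AddCommGroup M] [Module R M] (x : R) :
    x • (⊤ : Submodule R M) = LinearMap.range (x • (LinearMap.id : M →ₗ[R] M)) := by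
  ext m
  rw [Submodule.mem_smul_pointwise_iff_exists, LinearMap.mem_range]
  constructor
  · rintro ⟨b, -, rfl⟩
    exact ⟨b, rfl⟩
  · rintro ⟨b, rfl⟩
    exact ⟨b, Submodule.mem_top, rfl⟩

/-! ### Regular sequences -/

/-- The a-invariant formula for a regular sequence of homogeneous elements, in vanishing form. -/
theorem ainv_regular_seq [IsNoetherianRing R] (hpos : ∀ n : ℤ, n < 0 → 𝒜 n = ⊥)
    (a : HomogeneousIdeal 𝒜) :
    ∀ (fs : List (R × ℤ)) (X N : GrLC.GMod.{u} 𝒜) (π : X.carrier →ₗ[R] N.carrier)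
      (_ : GrLC.IsGrHom X.gr N.gr π) (_ : Function.Surjective π)
      (_ : LinearMap.ker π = Ideal.ofList (fs.map Prod.fst) • (⊤ : Submodule R X.carrier))
      (_ : ∀ p ∈ fs, p.1 ∈ 𝒜 p.2 ∧ p.1 ∈ a.toIdeal)
      (_ : RingTheory.Sequence.IsWeaklyRegular X.carrier (fs.map Prod.fst))
      (δ : ℕ) (_ : fs.length ≤ δ) (_ : ∀ i < δ, ∀ g, VanX a X i g),
      (∀ i < δ - fs.length, ∀ g, VanX a N i g) ∧
      ∀ σ : ℤ, (∀ g, σ + (fs.map Prod.snd).sum < g → VanX a N (δ - fs.length) g) ↔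
        (∀ g, σ < g → VanX a X δ g) := by
  intro fs
  induction fs with
  | nil =>
    intro X N π hπ hs hker _ _ δ _ hdepth
    have hinj : LinearMap.ker π = ⊥ := by
      rw [hker, List.map_nil, Ideal.ofList_nil, Submodule.bot_smul]
    refine ⟨fun i hi g => (vanX_iff_of_bijective a π hπ hs hinj i g).mp (hdepth i hi g),
      fun σ => ?_⟩
    rw [List.map_nil, List.sum_nil, add_zero, List.length_nil, Nat.sub_zero]
    exact forall_congr' (fun g => imp_congr_right
      (fun _ => (vanX_iff_of_bijective a π hπ hs hinj δ g).symm))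
  | cons p fs' ih =>
    obtain ⟨x, k⟩ := p
    intro X N π hπ hs hker hdeg hreg δ hlen hdepth
    rw [List.map_cons] at hker hreg
    rw [List.length_cons] at hlen
    obtain ⟨hxk, hxa⟩ := hdeg (x, k) List.mem_cons_self
    have hxk' : x ∈ 𝒜 k := hxk
    have hxa' : x ∈ a.toIdeal := hxa
    obtain ⟨hxreg, hreg'⟩ :=
      (RingTheory.Sequence.isWeaklyRegular_cons_iff X.carrier x (fs'.map Prod.fst)).mp hreg
    have hK0 : ∀ m : X.carrier, x • m = 0 → m = 0 := by
      intro m hm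
      exact hxreg (a₁ := m) (a₂ := 0) (by show x • m = x • 0; rw [hm, smul_zero])
    have hK : ∀ m : X.carrier, x • m = 0 → m ∈ GrLC.gam a.toIdeal X.carrier := by
      intro m hm
      rw [hK0 m hm]
      exact zero_mem _
    by_cases he : 0 ≤ k
    · -- the quotient by `x`
      have hPeq := smul_top_eq_range (R := R) (M := X.carrier) x
      have hP : (x • (⊤ : Submodule R X.carrier)).IsHomogeneous X.gr := by
        rw [hPeq]
        exact range_isHomogeneous X.gr (shiftG X (-k)).gr (mulG X k x) (mulG_grHom hxk')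
      have hle : x • (⊤ : Submodule R X.carrier) ≤ LinearMap.ker π := by
        rw [hker, Ideal.ofList_cons_smul]
        exact le_sup_left
      have hker₁ : LinearMap.ker (x • (⊤ : Submodule R X.carrier)).mkQ =
          LinearMap.range (x • (LinearMap.id : X.carrier →ₗ[R] X.carrier)) := by
        rw [Submodule.ker_mkQ]
        exact hPeq
      -- depth of the quotient
      have hdepth₁ : ∀ i < δ - 1, ∀ g, VanX a (quotG X _ hP) i g := by
        intro i hi g
        exact vanX_quot_gen a k hxk' (Submodule.mkQ _) (mkQ_grHom X _ hP)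
          (Submodule.mkQ_surjective _) hker₁ hK i g (hdepth i (by omega) g)
          (hdepth (i + 1) (by omega) _)
      -- the induced map
      have hπ₁ : GrLC.IsGrHom (quotG X _ hP).gr N.gr
          ((x • (⊤ : Submodule R X.carrier)).liftQ π hle) := by
        rintro j y ⟨m, hm, rfl⟩
        exact hπ j m hm
      have hs₁ : Function.Surjective ((x • (⊤ : Submodule R X.carrier)).liftQ π hle) := by
        intro n
        obtain ⟨m, rfl⟩ := hs n
        exact ⟨Submodule.Quotient.mk m, rfl⟩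
      have hkerπ₁ : LinearMap.ker ((x • (⊤ : Submodule R X.carrier)).liftQ π hle) =
          Ideal.ofList (fs'.map Prod.fst) •
            (⊤ : Submodule R (X.carrier ⧸ x • (⊤ : Submodule R X.carrier))) := by
        rw [Submodule.ker_liftQ, hker, Ideal.ofList_cons_smul, Submodule.map_sup,
          Submodule.mkQ_map_self, bot_sup_eq, Submodule.map_smul'', Submodule.map_top,
          Submodule.range_mkQ]
      have hdeg' : ∀ p ∈ fs', p.1 ∈ 𝒜 p.2 ∧ p.1 ∈ a.toIdeal :=
        fun p hp => hdeg p (List.mem_cons_of_mem _ hp)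
      obtain ⟨ha', hb'⟩ := ih (quotG X _ hP) N _ hπ₁ hs₁ hkerπ₁ hdeg' hreg' (δ - 1) (by omega)
        hdepth₁
      refine ⟨fun i hi g => ha' i (by rw [List.length_cons] at hi; omega) g, fun σ => ?_⟩
      have hδ : δ - 1 + 1 = δ := by omega
      have e1 : δ - (fs'.length + 1) = δ - 1 - fs'.length := by omega
      rw [List.map_cons, List.sum_cons, List.length_cons, e1]
      have e2 : σ + (k + (fs'.map Prod.snd).sum) = σ + k + (fs'.map Prod.snd).sum := by ring
      rw [e2]
      refine (hb' (σ + k)).trans ?_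
      have hstep := step_iff (X := X) (N := quotG X _ hP) a k he hxk' hxa' (Submodule.mkQ _)
        (mkQ_grHom X _ hP)
        (Submodule.mkQ_surjective _) hker₁ hK (δ - 1) (fun g => hdepth (δ - 1) (by omega) g) σ
      rw [hδ] at hstep
      exact hstep
    · -- degenerate case: `x = 0` and `X = 0`
      have hk : k < 0 := not_le.mp he
      have hx0 : x = 0 :=
        Groth.Agent.Lib.Helper29GrStd.eq_zero_of_mem_of_eq_bot (hpos k hk) hxk'
      have hX : Subsingleton X.carrier := by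
        refine ⟨fun y z => ?_⟩
        have hy : y = 0 := hK0 y (by rw [hx0, zero_smul])
        have hz : z = 0 := hK0 z (by rw [hx0, zero_smul])
        rw [hy, hz]
      have hN : Subsingleton N.carrier := by
        refine ⟨fun y z => ?_⟩
        obtain ⟨y', rfl⟩ := hs y
        obtain ⟨z', rfl⟩ := hs z
        rw [Subsingleton.elim y' z']
      exact ⟨fun i _ g => vanX_of_subsingleton a N hN i g,
        fun σ => iff_of_true (fun g _ => vanX_of_subsingleton a N hN _ g)
          (fun g _ => vanX_of_subsingleton a X hX _ g)⟩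

/-! ### Ends -/

theorem add_int_le_iff (s : WithBot (WithTop ℤ)) (k d : ℤ) :
    s + ((k : WithTop ℤ) : WithBot (WithTop ℤ)) ≤ ((d : WithTop ℤ) : WithBot (WithTop ℤ)) ↔
      s ≤ (((d - k : ℤ) : WithTop ℤ) : WithBot (WithTop ℤ)) := by
  induction s using WithBot.recBotCoe with
  | bot => simp
  | coe c =>
    induction c using WithTop.recTopCoe with
    | top =>
      constructor
      · intro h
        exfalso
        rw [← WithBot.coe_add, WithBot.coe_le_coe, WithTop.top_add] at h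
        exact WithTop.coe_ne_top (top_le_iff.mp h)
      · intro h
        exfalso
        rw [WithBot.coe_le_coe] at h
        exact WithTop.coe_ne_top (top_le_iff.mp h)
    | coe m =>
      rw [← WithBot.coe_add, ← WithTop.coe_add, WithBot.coe_le_coe, WithBot.coe_le_coe,
        WithTop.coe_le_coe, WithTop.coe_le_coe]
      omega

theorem endDeg_eq_add_of_iff {G H : Type u} [AddCommGroup G] [AddCommGroup H]
    (A : ℤ → AddSubgroup G) (B : ℤ → AddSubgroup H) (k : ℤ)
    (h : ∀ σ : ℤ, (∀ g, σ + k < g → A g = ⊥) ↔ (∀ g, σ < g → B g = ⊥)) :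
    GrLC.endDeg A = GrLC.endDeg B + ((k : WithTop ℤ) : WithBot (WithTop ℤ)) := by
  apply Groth.Agent.Lib.R2H7.GrRegS.eq_of_forall_int_le_iff
  intro ρ
  rw [add_int_le_iff, endDeg_le_iff', endDeg_le_iff']
  have := h (ρ - k)
  rw [sub_add_cancel] at this
  exact this

/-- The a-invariant of the quotient of a Cohen-Macaulay *local graded ring by a regular sequence
of homogeneous elements of the *maximal ideal. -/
theorem endDeg_quot_regular_seq [LocCoh.IsCohenMacaulayRing R]
    (hpos : ∀ n : ℤ, n < 0 → 𝒜 n = ⊥) (m : HomogeneousIdeal 𝒜) (hm : GrLC.IsStarLocal 𝒜 m)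
    (n : ℕ) (hn : ringKrullDim R = (n : WithBot ℕ∞)) (I : GrLC.StarInjRes 𝒜 𝒜)
    (fs : List (R × ℤ)) (hlen : fs.length ≤ n)
    (hdeg : ∀ p ∈ fs, p.1 ∈ 𝒜 p.2 ∧ p.1 ∈ m.toIdeal)
    (hreg : RingTheory.Sequence.IsWeaklyRegular R (fs.map Prod.fst))
    {N : Type u} [AddCommGroup N] [Module R N] (𝒩 : ℤ → AddSubgroup N)
    [DirectSum.Decomposition 𝒩] [SetLike.GradedSMul 𝒜 𝒩] (π : R →ₗ[R] N)
    (hπ : GrLC.IsGrHom 𝒜 𝒩 π) (hs : Function.Surjective π)
    (hker : LinearMap.ker π = Ideal.ofList (fs.map Prod.fst)) (F : GrLC.StarInjRes 𝒜 𝒩) :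
    GrLC.endDeg (F.Hgr m (n - fs.length)) =
      GrLC.endDeg (I.Hgr m n) + (((fs.map Prod.snd).sum : WithTop ℤ) : WithBot (WithTop ℤ)) := by
  have hker' : LinearMap.ker π = Ideal.ofList (fs.map Prod.fst) • (⊤ : Submodule R R) := by
    rw [hker, Ideal.smul_eq_mul, Ideal.mul_top]
  obtain ⟨-, hb⟩ := ainv_regular_seq hpos m fs (GrLC.GMod.of 𝒜 R 𝒜) (GrLC.GMod.of 𝒜 N 𝒩) π hπ hs
    hker' hdeg hreg n hlen (fun i hi g => vanX_of_lt_dim hpos m hm n hn i hi g)
  apply endDeg_eq_add_of_iff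
  intro σ
  refine Iff.trans ?_ ((hb σ).trans ?_)
  · exact forall_congr' (fun g => imp_congr_right (fun _ => hgr_eq_bot_iff' m 𝒩 F _ g))
  · exact forall_congr' (fun g => imp_congr_right (fun _ => (hgr_eq_bot_iff' m 𝒜 I _ g).symm))

end Groth.Agent.Lib.R2H7.GrAinv
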