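/-
Cohen–Macaulayness of a *local graded ring from the vanishing of graded local cohomology below
the dimension (AddSubgroup-graded version).
-/
import Mathlib
import Groth.Agent.Lib.R2H7GrAinv
import Groth.Agent.Lib.R2H7GrArt
import Groth.Agent.Lib.R2H7GrCMLoc
import Groth.Agent.Lib.R2H7GrHt
import Groth.Agent.Lib.Helper8LCDepth
import Groth.Agent.Lib.Helper28DepthMore
import Groth.Agent.S13224

set_option autoImplicit false
open DirectSum

noncomputable section

namespace Groth.Agent.Lib.H6xSegCMA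

open Groth.Agent.Lib.R2H7.GrDer Groth.Agent.Lib.R2H7.GrTop

universe u

variable {R : Type u} [CommRing R] {𝒜 : ℤ → AddSubgroup R} [GradedRing 𝒜]

/-- If all graded pieces of `H^i_a(X)` vanish then `H^i_a(X) = 0`. -/
theorem subsingleton_H_of_vanX (a : HomogeneousIdeal 𝒜) (X : GrLC.GMod.{u} 𝒜)
    (E : GrLC.StarInjRes 𝒜 X.gr) (i : ℕ) (h : ∀ g, VanX a X i g) : Subsingleton (E.H a i) := by
  classical
  have hcob : ∀ z : (E.X i).carrier, z ∈ E.cocyc a i → z ∈ E.cobdy a i := by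
    intro z hz
    rw [← DirectSum.sum_support_decompose (E.X i).gr z]
    refine Submodule.sum_mem _ (fun g _ => ?_)
    exact h g E _ (Groth.Agent.Lib.R2H7.GrArt.cocyc_isHomogeneous a E i g hz) (SetLike.coe_mem _)
  refine ⟨fun x y => ?_⟩
  obtain ⟨x', rfl⟩ := Submodule.mkQ_surjective _ x
  obtain ⟨y', rfl⟩ := Submodule.mkQ_surjective _ y
  have h1 : ∀ z : ↥(E.cocyc a i), E.toH a i z = 0 := fun z =>
    (Submodule.Quotient.mk_eq_zero _).mpr (hcob z.1 z.2)
  exact (h1 x').trans (h1 y').symm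

theorem subsingleton_locCoh_of_vanX [IsNoetherianRing R] (a : HomogeneousIdeal 𝒜)
    (X : GrLC.GMod.{u} 𝒜) (i : ℕ) (h : ∀ g, VanX a X i g) :
    Subsingleton (LocCoh.H a.toIdeal i X.carrier) := by
  obtain ⟨E⟩ := exists_res X
  obtain ⟨e⟩ := Groth.Agent.S13224.result R 𝒜 a X.carrier X.gr E i
  haveI := subsingleton_H_of_vanX a X E i h
  exact e.symm.toEquiv.subsingleton

theorem le_idealDepth_of_vanX [IsNoetherianRing R] (a : HomogeneousIdeal 𝒜)
    (X : GrLC.GMod.{u} 𝒜) [Module.Finite R X.carrier]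
    (hIM : a.toIdeal • (⊤ : Submodule R X.carrier) ≠ ⊤) (n : ℕ)
    (h : ∀ i < n, ∀ g, VanX a X i g) : (n : ℕ∞) ≤ LocCoh.idealDepth a.toIdeal X.carrier := by
  by_contra hlt
  rw [not_le] at hlt
  have hne : LocCoh.idealDepth a.toIdeal X.carrier ≠ ⊤ := ne_top_of_lt hlt
  obtain ⟨d, hd⟩ := ENat.ne_top_iff_exists.mp hne
  have hdn : d < n := by
    rw [← hd] at hlt
    exact_mod_cast hlt
  obtain ⟨y, hy⟩ := Groth.Agent.Lib.Helper8.LC.H_ne_zero_of_depth_eq a.toIdeal d X.carrier hIM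
    hd.symm
  have hsub : Subsingleton (LocCoh.H a.toIdeal d X.carrier) :=
    subsingleton_locCoh_of_vanX a X d (h d hdn)
  exact hy (hsub.elim y 0)

/-- A Noetherian positively graded *local ring whose graded local cohomology vanishes below the
dimension is Cohen–Macaulay. -/
theorem isCohenMacaulayRing_of_vanX [IsNoetherianRing R] (hpos : ∀ n : ℤ, n < 0 → 𝒜 n = ⊥)
    (m : HomogeneousIdeal 𝒜) (hm : GrLC.IsStarLocal 𝒜 m) (n : ℕ)
    (hn : ringKrullDim R = (n : WithBot ℕ∞))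
    (h : ∀ i < n, ∀ g, VanX m (GrLC.GMod.of 𝒜 R 𝒜) i g) : LocCoh.IsCohenMacaulayRing R := by
  have hmax := Groth.Agent.Lib.R2H7.GrHt.isMaximal_of_isCoatom 𝒜 hpos m hm.1
  haveI hmp : m.toIdeal.IsPrime := hmax.isPrime
  have hne : m.toIdeal ≠ ⊤ := hmp.ne_top
  have hIM : m.toIdeal • (⊤ : Submodule R R) ≠ ⊤ := by
    have : m.toIdeal • (⊤ : Submodule R R) = m.toIdeal := by
      rw [Ideal.smul_eq_mul, Ideal.mul_top]
    rw [this]
    exact hne
  haveI : Module.Finite R (GrLC.GMod.of 𝒜 R 𝒜).carrier := inferInstanceAs (Module.Finite R R)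
  have h1 : (n : ℕ∞) ≤ LocCoh.idealDepth m.toIdeal R :=
    le_idealDepth_of_vanX m (GrLC.GMod.of 𝒜 R 𝒜) hIM n h
  have h2 : LocCoh.idealDepth m.toIdeal R ≤ LocCoh.depth (Localization.AtPrime m.toIdeal)
      (LocalizedModule m.toIdeal.primeCompl R) :=
    Groth.Agent.Lib.Helper28.idealDepth_le_depth_localization m.toIdeal R le_rfl
  rw [Groth.Agent.Lib.Helper28.depth_localizedModule_self] at h2
  have h3 : ((LocCoh.depth (Localization.AtPrime m.toIdeal) (Localization.AtPrime m.toIdeal) :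
      ℕ∞) : WithBot ℕ∞) ≤
      Module.supportDim (Localization.AtPrime m.toIdeal) (Localization.AtPrime m.toIdeal) :=
    Groth.Agent.Lib.Helper28.depth_le_supportDim
  have h4 : ((m.toIdeal.height : ℕ∞) : WithBot ℕ∞) ≤ (n : WithBot ℕ∞) := by
    rw [← hn]
    exact Ideal.height_le_ringKrullDim_of_ne_top hne
  have h5 : m.toIdeal.height ≤ (n : ℕ∞) := by exact_mod_cast h4
  apply Groth.Agent.Lib.R2H7.GrCMLoc.isCohenMacaulayRing_of_localization 𝒜 m hm
  refine { supportDim_eq_depth := le_antisymm ?_ h3 }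
  rw [Groth.Agent.Lib.Helper28.supportDim_localization_self]
  exact WithBot.coe_le_coe.mpr (h5.trans (h1.trans h2))

/-- Cohen–Macaulay criterion for positively graded *local rings. -/
theorem isCohenMacaulayRing_iff_vanX [IsNoetherianRing R] (hpos : ∀ n : ℤ, n < 0 → 𝒜 n = ⊥)
    (m : HomogeneousIdeal 𝒜) (hm : GrLC.IsStarLocal 𝒜 m) (n : ℕ)
    (hn : ringKrullDim R = (n : WithBot ℕ∞)) :
    LocCoh.IsCohenMacaulayRing R ↔ ∀ i < n, ∀ g, VanX m (GrLC.GMod.of 𝒜 R 𝒜) i g := by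
  constructor
  · intro hCM i hi g
    exact Groth.Agent.Lib.R2H7.GrAinv.vanX_of_lt_dim hpos m hm n hn i hi g
  · intro h
    exact isCohenMacaulayRing_of_vanX hpos m hm n hn h

end Groth.Agent.Lib.H6xSegCMA
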