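/-
The Cohen–Macaulay criterion and the depth formula for finite graded modules over a positively
graded *local ring of finite type over a field, in terms of graded local cohomology
(AddSubgroup-graded version).
-/
import Mathlib
import Groth.Agent.Lib.H6xModCMA
import Groth.Agent.Lib.H6xSegCMA
import Groth.Agent.Lib.Helper29GrAss
import Groth.Agent.Lib.R2H7GrGorLoc
import Groth.Agent.S13232
import Groth.Agent.S13234

set_option autoImplicit false
open DirectSum

noncomputable section

namespace Groth.Agent.Lib.H6xModCMB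

open Groth.Agent.Lib.R2H7.GrDer Groth.Agent.Lib.R2H7.GrTop Groth.Agent.Lib.Helper28
  Groth.Agent.Lib.H6xModCMA Groth.Agent.Lib.H6xSegCMA

universe u

variable {R : Type u} [CommRing R] [IsNoetherianRing R] {𝒜 : ℤ → AddSubgroup R} [GradedRing 𝒜]

/-- The annihilator of a graded module is a homogeneous ideal. -/
theorem annihilator_isHomogeneous (X : GrLC.GMod.{u} 𝒜) :
    (Module.annihilator R X.carrier).IsHomogeneous 𝒜 := by
  classical
  intro d r hr
  rw [Module.mem_annihilator] at hr ⊢
  intro x
  rw [← DirectSum.sum_support_decompose X.gr x, Finset.smul_sum]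
  refine Finset.sum_eq_zero fun j _ => ?_
  have h1 : r ∈ (Submodule.span R {((decompose X.gr x) j : X.carrier)}).annihilator := by
    rw [Submodule.mem_annihilator_span_singleton]
    exact hr _
  have h2 := Groth.Agent.Lib.Helper29GrAss.annihilator_span_singleton_isHomogeneous 𝒜 X.gr
    (SetLike.coe_mem ((decompose X.gr x) j)) d h1
  exact (Submodule.mem_annihilator_span_singleton _ _).mp h2

/-- Minimal primes of a homogeneous ideal are homogeneous. -/
theorem isHomogeneous_of_mem_minimalPrimes (I : Ideal R) (hI : I.IsHomogeneous 𝒜) {q : Ideal R}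
    (hq : q ∈ I.minimalPrimes) : q.IsHomogeneous 𝒜 := by
  haveI hqp : q.IsPrime := hq.1.1
  have hcore : (q.homogeneousCore 𝒜).toIdeal.IsPrime :=
    Groth.Agent.Lib.R2H7.GrGorLoc.core_isPrime 𝒜 q
  have hle : I ≤ (q.homogeneousCore 𝒜).toIdeal := by
    rw [← hI.toIdeal_homogeneousCore_eq_self]
    exact Ideal.homogeneousCore_mono 𝒜 hq.1.2
  have h2 : q ≤ (q.homogeneousCore 𝒜).toIdeal :=
    hq.2 ⟨hcore, hle⟩ (Ideal.toIdeal_homogeneousCore_le 𝒜 q)
  have h3 : (q.homogeneousCore 𝒜).toIdeal = q :=
    le_antisymm (Ideal.toIdeal_homogeneousCore_le 𝒜 q) h2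
  rw [← h3]
  exact (q.homogeneousCore 𝒜).isHomogeneous

section local_

variable (m : HomogeneousIdeal 𝒜) (hm : GrLC.IsStarLocal 𝒜 m) (X : GrLC.GMod.{u} 𝒜)
  [Module.Finite R X.carrier]

include hm

theorem annihilator_le [Nontrivial X.carrier] : Module.annihilator R X.carrier ≤ m.toIdeal := by
  have hne : Module.annihilator R X.carrier ≠ ⊤ := by
    intro h
    have h1 : (1 : R) ∈ Module.annihilator R X.carrier := h ▸ Submodule.mem_top
    rw [Module.mem_annihilator] at h1
    obtain ⟨x, hx⟩ := exists_ne (0 : X.carrier)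
    exact hx (by simpa using h1 x)
  have hne' : (⟨Module.annihilator R X.carrier, annihilator_isHomogeneous X⟩ :
      HomogeneousIdeal 𝒜) ≠ ⊤ := by
    intro h
    apply hne
    have := congrArg HomogeneousIdeal.toIdeal h
    rwa [HomogeneousIdeal.toIdeal_top] at this
  exact Groth.Agent.Lib.R2H7.GrHt.le_of_isStarLocal 𝒜 m hm _ hne'

theorem mem_support [Nontrivial X.carrier] [hmp : m.toIdeal.IsPrime] :
    (⟨m.toIdeal, hmp⟩ : PrimeSpectrum R) ∈ Module.support R X.carrier := by
  rw [Module.mem_support_iff_of_finite]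
  exact annihilator_le m hm X

theorem minimalPrimes_le (q : Ideal R)
    (hq : q ∈ (Module.annihilator R X.carrier).minimalPrimes) : q ≤ m.toIdeal := by
  have hqh := isHomogeneous_of_mem_minimalPrimes _ (annihilator_isHomogeneous X) hq
  have hqp : q.IsPrime := hq.1.1
  have hne' : (⟨q, hqh⟩ : HomogeneousIdeal 𝒜) ≠ ⊤ := by
    intro h
    apply hqp.ne_top
    have := congrArg HomogeneousIdeal.toIdeal h
    rwa [HomogeneousIdeal.toIdeal_top] at this
  exact Groth.Agent.Lib.R2H7.GrHt.le_of_isStarLocal 𝒜 m hm _ hne'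

theorem smul_top_ne_top [Nontrivial X.carrier] :
    m.toIdeal • (⊤ : Submodule R X.carrier) ≠ ⊤ := by
  intro h
  have hfg : (⊤ : Submodule R X.carrier).FG := Module.Finite.fg_top
  obtain ⟨r, hr1, hr2⟩ := Submodule.exists_sub_one_mem_and_smul_eq_zero_of_fg_of_le_smul
    m.toIdeal ⊤ hfg (le_of_eq h.symm)
  have hrann : r ∈ Module.annihilator R X.carrier := by
    rw [Module.mem_annihilator]
    intro x
    exact hr2 x Submodule.mem_top
  have hrm : r ∈ m.toIdeal := annihilator_le m hm X hrann
  have h1 : (1 : R) ∈ m.toIdeal := by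
    have : (1 : R) = r - (r - 1) := by ring
    rw [this]
    exact sub_mem hrm hr1
  exact Groth.Agent.Lib.R2H7.GrHt.toIdeal_ne_top 𝒜 m hm.1 ((Ideal.eq_top_iff_one _).mpr h1)

/-- The graded-local principle for Cohen–Macaulay modules: if `X_m` is Cohen–Macaulay then every
localization of `X` is zero or Cohen–Macaulay. -/
theorem cmAt_of_cm_localization [hmp : m.toIdeal.IsPrime]
    (hCM : LocCoh.IsCohenMacaulayModule (Localization.AtPrime m.toIdeal)
      (LocalizedModule m.toIdeal.primeCompl X.carrier))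
    (q : Ideal R) [hq : q.IsPrime] : CMAt X.carrier q := by
  by_cases hsub : Subsingleton (LocalizedModule q.primeCompl X.carrier)
  · exact Or.inl hsub
  right
  rw [not_subsingleton_iff_nontrivial] at hsub
  have hqS : (⟨q, hq⟩ : PrimeSpectrum R) ∈ Module.support R X.carrier :=
    Module.mem_support_iff.mpr hsub
  haveI hc : (Ideal.homogeneousCore 𝒜 q).toIdeal.IsPrime :=
    Groth.Agent.Lib.R2H7.GrGorLoc.core_isPrime 𝒜 q
  have hle : (Ideal.homogeneousCore 𝒜 q).toIdeal ≤ q := Ideal.toIdeal_homogeneousCore_le 𝒜 q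
  have hprime : (q.map (Ideal.Quotient.mk (Ideal.homogeneousCore 𝒜 q).toIdeal)).IsPrime :=
    Ideal.map_isPrime_of_surjective Ideal.Quotient.mk_surjective (by rw [Ideal.mk_ker]; exact hle)
  obtain ⟨d, hd⟩ := ENat.ne_top_iff_exists.mp
    (Ideal.height_ne_top_of_isPrime
      (I := q.map (Ideal.Quotient.mk (Ideal.homogeneousCore 𝒜 q).toIdeal)))
  have h1 := Groth.Agent.S13234.result R 𝒜 X.carrier X.gr q d hd.symm
  have h2 := Groth.Agent.S13232.result R 𝒜 X.carrier X.gr q d hd.symm hsub
  have hcS : (⟨(Ideal.homogeneousCore 𝒜 q).toIdeal, hc⟩ : PrimeSpectrum R) ∈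
      Module.support R X.carrier := by
    rw [Module.mem_support_iff_of_finite] at hqS ⊢
    show Module.annihilator R X.carrier ≤ (Ideal.homogeneousCore 𝒜 q).toIdeal
    rw [← (annihilator_isHomogeneous X).toIdeal_homogeneousCore_eq_self]
    exact Ideal.homogeneousCore_mono 𝒜 hqS
  have hne : Ideal.homogeneousCore 𝒜 q ≠ ⊤ := by
    intro htop
    apply hq.ne_top
    rw [eq_top_iff]
    have h3 := hle
    rw [htop, HomogeneousIdeal.toIdeal_top] at h3
    exact h3
  have hcm : (Ideal.homogeneousCore 𝒜 q).toIdeal ≤ m.toIdeal :=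
    Groth.Agent.Lib.R2H7.GrHt.le_of_isStarLocal 𝒜 m hm _ hne
  have hcore := cm_of_le X.carrier m.toIdeal hCM (Ideal.homogeneousCore 𝒜 q).toIdeal hcm hcS
  unfold LocCoh.IsCohenMacaulayModule at hcore ⊢
  rw [h2, h1, hcore]
  push_cast
  rfl

end local_

/-! ### The criterion -/

section criterion

variable (k : Type u) [Field k] [Algebra k R] [Algebra.FiniteType k R]

include k in
/-- Cohen–Macaulay criterion for finite graded modules in terms of graded local cohomology. -/
theorem cm_iff_vanX (hpos : ∀ n : ℤ, n < 0 → 𝒜 n = ⊥) (m : HomogeneousIdeal 𝒜)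
    (hm : GrLC.IsStarLocal 𝒜 m) (X : GrLC.GMod.{u} 𝒜) [Module.Finite R X.carrier]
    [Nontrivial X.carrier] (δ : ℕ) (hδ : Module.supportDim R X.carrier = (δ : WithBot ℕ∞)) :
    (∀ (q : Ideal R) [q.IsPrime], CMAt X.carrier q) ↔ ∀ i < δ, ∀ g, VanX m X i g := by
  haveI hmax := Groth.Agent.Lib.R2H7.GrHt.isMaximal_of_isCoatom 𝒜 hpos m hm.1
  haveI hmp : m.toIdeal.IsPrime := hmax.isPrime
  have hmS := mem_support m hm X
  have hdim : Module.supportDim (Localization.AtPrime m.toIdeal)
      (LocalizedModule m.toIdeal.primeCompl X.carrier) = (δ : WithBot ℕ∞) :=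
    (supportDim_localization_eq_of_minimalPrimes_le k m.toIdeal (minimalPrimes_le m hm X)
      hmS).trans hδ
  have hdepth := idealDepth_eq_depth_localization_of_isMaximal X.carrier m.toIdeal
  have hIM := smul_top_ne_top m hm X
  haveI hnt : Nontrivial (LocalizedModule m.toIdeal.primeCompl X.carrier) :=
    Module.mem_support_iff.mp hmS
  haveI hNm : IsNoetherianRing (Localization.AtPrime m.toIdeal) :=
    IsLocalization.isNoetherianRing m.toIdeal.primeCompl _ inferInstance
  constructor
  · intro h i hi g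
    rcases h m.toIdeal with h0 | h0
    · exact absurd h0 (not_subsingleton_iff_nontrivial.mpr hnt)
    · unfold LocCoh.IsCohenMacaulayModule at h0
      rw [hdim, ← hdepth] at h0
      have h1 : (δ : ℕ∞) = LocCoh.idealDepth m.toIdeal X.carrier := by exact_mod_cast h0
      apply vanX_of_subsingleton_H
      have key := Groth.Agent.Lib.Helper8.LC.H_eq_zero_of_lt_depth m.toIdeal δ X.carrier hIM
        (le_of_eq h1) i hi
      exact ⟨fun y z => by rw [key y, key z]⟩
  · intro h q hq
    have h1 : (δ : ℕ∞) ≤ LocCoh.idealDepth m.toIdeal X.carrier :=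
      le_idealDepth_of_vanX m X hIM δ h
    rw [hdepth] at h1
    have h3 : ((LocCoh.depth (Localization.AtPrime m.toIdeal)
        (LocalizedModule m.toIdeal.primeCompl X.carrier) : ℕ∞) : WithBot ℕ∞) ≤
        Module.supportDim (Localization.AtPrime m.toIdeal)
          (LocalizedModule m.toIdeal.primeCompl X.carrier) := depth_le_supportDim
    have hCM : LocCoh.IsCohenMacaulayModule (Localization.AtPrime m.toIdeal)
        (LocalizedModule m.toIdeal.primeCompl X.carrier) := by
      unfold LocCoh.IsCohenMacaulayModule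
      refine le_antisymm ?_ h3
      rw [hdim]
      exact WithBot.coe_le_coe.mpr h1
    exact cmAt_of_cm_localization m hm X hCM q

end criterion

/-- The depth of a finite graded module with respect to a homogeneous ideal is the least index of
a non-vanishing graded local cohomology module. -/
theorem idealDepth_eq_iff_vanX (a : HomogeneousIdeal 𝒜) (X : GrLC.GMod.{u} 𝒜)
    [Module.Finite R X.carrier] (hIM : a.toIdeal • (⊤ : Submodule R X.carrier) ≠ ⊤) (n : ℕ) :
    LocCoh.idealDepth a.toIdeal X.carrier = (n : ℕ∞) ↔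
      (∀ i < n, ∀ g, VanX a X i g) ∧ ¬ ∀ g, VanX a X n g := by
  constructor
  · intro h
    refine ⟨fun i hi g => ?_, fun hall => ?_⟩
    · apply vanX_of_subsingleton_H
      have key := Groth.Agent.Lib.Helper8.LC.H_eq_zero_of_lt_depth a.toIdeal n X.carrier hIM
        (le_of_eq h.symm) i hi
      exact ⟨fun y z => by rw [key y, key z]⟩
    · obtain ⟨y, hy⟩ := Groth.Agent.Lib.Helper8.LC.H_ne_zero_of_depth_eq a.toIdeal n X.carrier hIM h
      have hsub : Subsingleton (LocCoh.H a.toIdeal n X.carrier) :=
        subsingleton_locCoh_of_vanX a X n hall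
      exact hy (hsub.elim y 0)
  · rintro ⟨h1, h2⟩
    apply le_antisymm
    · by_contra hlt
      rw [not_le] at hlt
      have h3 : ((n + 1 : ℕ) : ℕ∞) ≤ LocCoh.idealDepth a.toIdeal X.carrier := by
        have := Order.add_one_le_of_lt hlt
        exact_mod_cast this
      apply h2
      intro g
      apply vanX_of_subsingleton_H
      have key := Groth.Agent.Lib.Helper8.LC.H_eq_zero_of_lt_depth a.toIdeal (n + 1) X.carrier hIM
        h3 n (Nat.lt_succ_self n)
      exact ⟨fun y z => by rw [key y, key z]⟩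
    · exact le_idealDepth_of_vanX a X hIM n h1

end Groth.Agent.Lib.H6xModCMB
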