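/-
Uniqueness of graded canonical modules up to shift over a *local `G`-graded ring `(R, m)`.

* `isPrime_of_isCoatom`: a *maximal ideal is prime (`G` finitely generated free).
* `mem_of_smul_mem`: in a graded module over a *local ring, a homogeneous element `x` with
  `s • x ∈ N` for some `s ∉ m` and a homogeneous submodule `N` lies in `N`.
* `exists_shift_equiv`: if `C`, `C'` are finitely generated graded modules with `C_m ≅ C'_m` and
  `R_m → End(C_m)` bijective, then `C ≅ C'(g)` by a homogeneous isomorphism of some degree `g`.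
(helper7)
-/
import Mathlib
import Groth.Agent.Lib.Helper29GrBaer
import Groth.Agent.Lib.Helper29GrAss
import Groth.Agent.Lib.Helper29Socle
import Groth.Agent.Lib.R2H7GrGorLoc

set_option autoImplicit false
open DirectSum

noncomputable section

namespace Groth.Agent.Lib.R2H7.GrCanShift

open Groth.Agent.Lib.Helper29GrEss Groth.Agent.Lib.Helper29GrHom Groth.Agent.Lib.Helper29GrShift
  Groth.Agent.Lib.Helper29GrBaer

universe u

variable {ι : Type} [AddCommGroup ι] [DecidableEq ι] [Module.Free ℤ ι] [Module.Finite ℤ ι]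
variable {R : Type u} [CommRing R] (𝒜 : ι → AddSubgroup R) [GradedRing 𝒜]

/-- A *maximal ideal is a prime ideal. -/
theorem isPrime_of_isCoatom (m : HomogeneousIdeal 𝒜) (hm : IsCoatom m) : m.toIdeal.IsPrime := by
  classical
  apply Groth.Agent.Lib.Helper29GrAss.isPrime_of_homogeneous_mem_or_mem' 𝒜 m.isHomogeneous
  · intro h
    exact hm.1 (HomogeneousIdeal.toIdeal_injective (by rw [h, HomogeneousIdeal.toIdeal_top]))
  · intro x y hx hy hxy
    by_contra hcon
    rw [not_or] at hcon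
    obtain ⟨hxm, hym⟩ := hcon
    have hh : (Ideal.span {x}).IsHomogeneous 𝒜 :=
      Ideal.homogeneous_span 𝒜 {x} (by
        rintro z (rfl : z = x)
        exact hx)
    have hlt : m < m ⊔ ⟨Ideal.span {x}, hh⟩ := by
      refine lt_of_le_of_ne le_sup_left (fun heq => hxm ?_)
      have h1 : x ∈ (m ⊔ ⟨Ideal.span {x}, hh⟩ : HomogeneousIdeal 𝒜).toIdeal := by
        rw [HomogeneousIdeal.toIdeal_sup]
        exact Ideal.mem_sup_right (Ideal.subset_span rfl)
      rw [← heq] at h1
      exact h1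
    have htop := hm.2 _ hlt
    have h1 : (1 : R) ∈ (m ⊔ ⟨Ideal.span {x}, hh⟩ : HomogeneousIdeal 𝒜).toIdeal := by
      rw [htop, HomogeneousIdeal.toIdeal_top]
      exact Submodule.mem_top
    rw [HomogeneousIdeal.toIdeal_sup] at h1
    obtain ⟨u, hu, v, hv, huv⟩ := Submodule.mem_sup.mp h1
    obtain ⟨c, rfl⟩ := Ideal.mem_span_singleton'.mp hv
    have hy' : y = u * y + c * (x * y) := by
      rw [← mul_assoc, ← add_mul, huv, one_mul]
    apply hym
    rw [hy']
    exact m.toIdeal.add_mem (m.toIdeal.mul_mem_right _ hu) (m.toIdeal.mul_mem_left _ hxy)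

variable [IsNoetherianRing R]

section local_

variable {X : Type u} [AddCommGroup X] [Module R X] (𝓧 : ι → AddSubgroup X)
  [DirectSum.Decomposition 𝓧] [SetLike.GradedSMul 𝒜 𝓧]

/-- Over a *local ring, homogeneous submodules are saturated with respect to the complement of the
*maximal ideal, on homogeneous elements. -/
theorem mem_of_smul_mem (m : HomogeneousIdeal 𝒜) (hm : GrLC.IsStarLocal 𝒜 m)
    (N : Submodule R X) (hN : N.IsHomogeneous 𝓧) {g : ι} {x : X} (hx : x ∈ 𝓧 g) {s : R}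
    (hs : s ∉ m.toIdeal) (hsx : s • x ∈ N) : x ∈ N := by
  classical
  have hJmem : ∀ r, r ∈ N.comap (LinearMap.toSpanSingleton R X x) ↔ r • x ∈ N := fun r => by
    rw [Submodule.mem_comap, LinearMap.toSpanSingleton_apply]
  have hJ : Ideal.IsHomogeneous 𝒜 (N.comap (LinearMap.toSpanSingleton R X x)) := by
    intro i r hr
    rw [hJmem] at hr ⊢
    have h1 := hN (i + g) hr
    rw [decompose_smul_of_mem_right 𝒜 𝓧 hx r (i + g), add_sub_cancel_right] at h1
    exact h1
  by_contra hxN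
  have hne : (⟨N.comap (LinearMap.toSpanSingleton R X x), hJ⟩ : HomogeneousIdeal 𝒜) ≠ ⊤ := by
    intro h
    apply hxN
    have h1 : (1 : R) ∈ HomogeneousIdeal.toIdeal
        (⟨N.comap (LinearMap.toSpanSingleton R X x), hJ⟩ : HomogeneousIdeal 𝒜) := by
      rw [h, HomogeneousIdeal.toIdeal_top]
      exact Submodule.mem_top
    have h2 : (1 : R) ∈ N.comap (LinearMap.toSpanSingleton R X x) := h1
    rw [hJmem, one_smul] at h2
    exact h2
  have hle := Groth.Agent.Lib.R2H7.GrGorLoc.le_of_isStarLocal 𝒜 m hm _ hne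
  exact hs (hle ((hJmem s).mpr hsx))

end local_

section main

open IsLocalRing

variable {C : Type u} [AddCommGroup C] [Module R C] (𝒞 : ι → AddSubgroup C)
  [DirectSum.Decomposition 𝒞] [SetLike.GradedSMul 𝒜 𝒞] [Module.Finite R C]
variable {C' : Type u} [AddCommGroup C'] [Module R C'] (𝒞' : ι → AddSubgroup C')
  [DirectSum.Decomposition 𝒞'] [SetLike.GradedSMul 𝒜 𝒞']

/-- Graded modules over a *local ring which become isomorphic at `m`, with `End(C_m) = R_m`, are
isomorphic up to a shift. -/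
theorem exists_shift_equiv (m : HomogeneousIdeal 𝒜) (hm : GrLC.IsStarLocal 𝒜 m)
    [hmp : m.toIdeal.IsPrime]
    (ψ : LocalizedModule m.toIdeal.primeCompl C ≃ₗ[Localization.AtPrime m.toIdeal]
      LocalizedModule m.toIdeal.primeCompl C')
    (hEnd : Function.Bijective (fun a : Localization.AtPrime m.toIdeal =>
      a • (LinearMap.id : LocalizedModule m.toIdeal.primeCompl C →ₗ[Localization.AtPrime m.toIdeal]
        LocalizedModule m.toIdeal.primeCompl C))) :
    ∃ (g : ι) (φ : C ≃ₗ[R] C'), GrLC.IsGrHomDeg 𝒞 𝒞' φ.toLinearMap g := by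
  classical
  have hfp : Module.FinitePresentation R C := Module.finitePresentation_of_finite R C
  obtain ⟨⟨φ, s⟩, hφs⟩ := IsLocalizedModule.surj m.toIdeal.primeCompl
    (LocalizedModule.map m.toIdeal.primeCompl (M := C) (N := C')) ψ.toLinearMap
  obtain ⟨D, hD⟩ := exists_sum_part 𝒜 𝒞 𝒞' φ
  -- every map `C_m → C'_m` is a multiple of `ψ`
  have hmult : ∀ χ : LocalizedModule m.toIdeal.primeCompl C →ₗ[Localization.AtPrime m.toIdeal]
      LocalizedModule m.toIdeal.primeCompl C', ∃ a : Localization.AtPrime m.toIdeal,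
      ∀ x, χ x = a • ψ x := by
    intro χ
    obtain ⟨a, ha⟩ := hEnd.2 (ψ.symm.toLinearMap ∘ₗ χ)
    refine ⟨a, fun x => ?_⟩
    have h1 := LinearMap.congr_fun ha x
    have h2 : a • x = ψ.symm (χ x) := h1
    rw [← map_smul, h2, LinearEquiv.apply_symm_apply]
  choose a ha using fun d =>
    hmult (LocalizedModule.map m.toIdeal.primeCompl (part 𝒜 𝒞 𝒞' φ d))
  have hsum : ∑ d ∈ D, a d = algebraMap R (Localization.AtPrime m.toIdeal) (s : R) := by
    apply hEnd.1
    apply LinearMap.ext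
    intro x
    apply ψ.injective
    have h1 : LocalizedModule.map m.toIdeal.primeCompl φ x = (s : R) • ψ x := by
      have := LinearMap.congr_fun hφs x
      rw [← this]
      rfl
    have h2 : LocalizedModule.map m.toIdeal.primeCompl φ x = ∑ d ∈ D, a d • ψ x := by
      rw [← hD, map_sum, LinearMap.sum_apply]
      exact Finset.sum_congr rfl (fun d _ => ha d x)
    show ψ ((∑ d ∈ D, a d) • x) = ψ (algebraMap R (Localization.AtPrime m.toIdeal) (s : R) • x)
    rw [map_smul, map_smul, Finset.sum_smul, ← h2, h1, algebraMap_smul]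
  obtain ⟨d, hdD, hd⟩ : ∃ d ∈ D, IsUnit (a d) := by
    by_contra hcon
    have hall : ∀ d ∈ D, a d ∈ maximalIdeal (Localization.AtPrime m.toIdeal) := by
      intro d hd
      rw [mem_maximalIdeal, mem_nonunits_iff]
      intro hu
      exact hcon ⟨d, hd, hu⟩
    have h1 : ∑ d ∈ D, a d ∈ maximalIdeal (Localization.AtPrime m.toIdeal) :=
      Ideal.sum_mem _ hall
    rw [hsum, mem_maximalIdeal, mem_nonunits_iff] at h1
    exact h1 (IsLocalization.map_units (Localization.AtPrime m.toIdeal) s)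
  -- the homogeneous part which is an isomorphism at `m`
  have hφ₀ : GrLC.IsGrHomDeg 𝒞 𝒞' (part 𝒜 𝒞 𝒞' φ d) d := part_isGrHomDeg 𝒜 𝒞 𝒞' φ d
  have hbij : Function.Bijective
      (LocalizedModule.map m.toIdeal.primeCompl (part 𝒜 𝒞 𝒞' φ d)) := by
    constructor
    · intro x y hxy
      rw [ha d x, ha d y] at hxy
      exact ψ.injective (hd.smul_left_cancel.mp hxy)
    · intro y
      obtain ⟨b, hb⟩ := hd.exists_left_inv
      refine ⟨ψ.symm (b • y), ?_⟩
      rw [ha d, LinearEquiv.apply_symm_apply, smul_smul, mul_comm, hb, one_smul]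
  letI decS : DirectSum.Decomposition (shiftGr 𝒞' d) := shiftDecomposition 𝒞' d
  haveI gsS : SetLike.GradedSMul 𝒜 (shiftGr 𝒞' d) := shift_gradedSMul 𝒜 𝒞' d
  have hφ₀' : ∀ (g : ι) (x : C), x ∈ 𝒞 g → part 𝒜 𝒞 𝒞' φ d x ∈ shiftGr 𝒞' d g := hφ₀
  have hinj : Function.Injective (part 𝒜 𝒞 𝒞' φ d) := by
    rw [← LinearMap.ker_eq_bot, eq_bot_iff]
    intro x hx
    have hker : (LinearMap.ker (part 𝒜 𝒞 𝒞' φ d)).IsHomogeneous 𝒞 :=
      ker_isHomogeneous (shiftGr 𝒞' d) 𝒞 (part 𝒜 𝒞 𝒞' φ d) hφ₀'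
    rw [← DirectSum.sum_support_decompose 𝒞 x]
    refine Submodule.sum_mem _ fun g _ => ?_
    have hxg : ((decompose 𝒞 x) g : C) ∈ LinearMap.ker (part 𝒜 𝒞 𝒞' φ d) := hker g hx
    have h0 : (LocalizedModule.mk ((decompose 𝒞 x) g : C) 1 :
        LocalizedModule m.toIdeal.primeCompl C) = 0 := by
      apply hbij.1
      rw [map_zero, LocalizedModule.map_mk, LinearMap.mem_ker.mp hxg, LocalizedModule.zero_mk]
    rw [Groth.Agent.Lib.Helper29Socle.mk_eq_zero_iff'] at h0
    obtain ⟨u, hu⟩ := h0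
    have hbot : (⊥ : Submodule R C).IsHomogeneous 𝒞 := by
      intro i y hy
      rw [Submodule.mem_bot] at hy ⊢
      rw [hy, DirectSum.decompose_zero]
      rfl
    refine mem_of_smul_mem 𝒜 𝒞 m hm ⊥ hbot (SetLike.coe_mem ((decompose 𝒞 x) g)) u.2 ?_
    rw [Submodule.mem_bot]
    exact hu
  have hsurj : Function.Surjective (part 𝒜 𝒞 𝒞' φ d) := by
    rw [← LinearMap.range_eq_top, eq_top_iff]
    intro y _
    have hrange : (LinearMap.range (part 𝒜 𝒞 𝒞' φ d)).IsHomogeneous (shiftGr 𝒞' d) :=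
      range_isHomogeneous (shiftGr 𝒞' d) 𝒞 (part 𝒜 𝒞 𝒞' φ d) hφ₀'
    rw [← DirectSum.sum_support_decompose 𝒞' y]
    refine Submodule.sum_mem _ fun g _ => ?_
    have hyg : ((decompose 𝒞' y) g : C') ∈ shiftGr 𝒞' d (g - d) := by
      show ((decompose 𝒞' y) g : C') ∈ 𝒞' (g - d + d)
      rw [sub_add_cancel]
      exact SetLike.coe_mem _
    obtain ⟨z, hz⟩ := hbij.2 (LocalizedModule.mk ((decompose 𝒞' y) g : C') 1)
    induction z using LocalizedModule.induction_on with
    | _ x t =>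
      rw [LocalizedModule.map_mk, LocalizedModule.mk_eq] at hz
      obtain ⟨u, hu⟩ := hz
      refine mem_of_smul_mem 𝒜 (shiftGr 𝒞' d) m hm _ hrange hyg (s := ((u * t : m.toIdeal.primeCompl) : R))
        (u * t).2 ⟨(u : R) • x, ?_⟩
      rw [map_smul, Submonoid.coe_mul, mul_smul]
      rw [one_smul] at hu
      exact hu
  refine ⟨d, LinearEquiv.ofBijective (part 𝒜 𝒞 𝒞' φ d) ⟨hinj, hsurj⟩, ?_⟩
  intro g x hx
  exact hφ₀ g x hx

end main

end Groth.Agent.Lib.R2H7.GrCanShift
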