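/-
Linear algebra for the Künneth formula, part 1: graded vector spaces given by an internal direct
sum decomposition (gluing of linear maps, projections), cochain complexes of vector spaces with a
second passive grading, a sign operator and an idempotent cutting out a graded subcomplex, and the
existence of a graded splitting (contracting homotopy up to the harmonic projection).
-/
import Mathlib

set_option autoImplicit false
open DirectSum TensorProduct

noncomputable section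

namespace Groth.Agent.Lib.R2H7.KunLA1

universe u v w

variable {k : Type u} [Field k] {V : Type v} [AddCommGroup V] [Module k V]

/-! ### Internal direct sums: extensionality, gluing, projections -/

section internal

variable {J : Type} [DecidableEq J] {F : J → Submodule k V} (hF : DirectSum.IsInternal F)
  {W : Type w} [AddCommGroup W] [Module k W]

include hF in
theorem induction_internal {motive : V → Prop} (h0 : motive 0)
    (hadd : ∀ x y, motive x → motive y → motive (x + y))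
    (hmem : ∀ i, ∀ x ∈ F i, motive x) (x : V) : motive x := by
  have hx : x ∈ iSup F := by rw [hF.submodule_iSup_eq_top]; exact Submodule.mem_top
  exact Submodule.iSup_induction F (motive := motive) hx hmem h0 hadd

include hF in
theorem ext_internal {f g : V →ₗ[k] W} (h : ∀ i, ∀ x ∈ F i, f x = g x) : f = g := by
  apply LinearMap.ext
  intro x
  refine induction_internal hF (motive := fun x => f x = g x) ?_ ?_ h x
  · rw [map_zero, map_zero]
  · intro x y hx hy
    rw [map_add, map_add, hx, hy]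

/-- Glue a family of linear maps along an internal direct sum. -/
def glue (f : J → (V →ₗ[k] W)) : V →ₗ[k] W :=
  (DirectSum.toModule k J W (fun i => (f i) ∘ₗ (F i).subtype)) ∘ₗ
    (LinearEquiv.ofBijective (DirectSum.coeLinearMap F) hF).symm.toLinearMap

theorem glue_apply (f : J → (V →ₗ[k] W)) {i : J} {x : V} (hx : x ∈ F i) :
    glue hF f x = f i x := by
  have h1 : (LinearEquiv.ofBijective (DirectSum.coeLinearMap F) hF).symm x =
      DirectSum.lof k J (fun i => ↥(F i)) i ⟨x, hx⟩ := by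
    rw [LinearEquiv.symm_apply_eq]
    show x = DirectSum.coeLinearMap F (DirectSum.lof k J (fun i => ↥(F i)) i ⟨x, hx⟩)
    rw [DirectSum.coeLinearMap_lof]
  show (DirectSum.toModule k J W (fun i => (f i) ∘ₗ (F i).subtype))
    ((LinearEquiv.ofBijective (DirectSum.coeLinearMap F) hF).symm x) = f i x
  rw [h1, DirectSum.toModule_lof]
  rfl

/-- The projection onto the `i`-th summand. -/
def proj (i : J) : V →ₗ[k] V :=
  glue hF (fun j => if j = i then LinearMap.id else 0)

theorem proj_same {i : J} {x : V} (hx : x ∈ F i) : proj hF i x = x := by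
  rw [proj, glue_apply hF _ hx, if_pos rfl]
  rfl

theorem proj_ne {i j : J} (hij : j ≠ i) {x : V} (hx : x ∈ F j) : proj hF i x = 0 := by
  rw [proj, glue_apply hF _ hx, if_neg hij]
  rfl

theorem proj_mem (i : J) (x : V) : proj hF i x ∈ F i := by
  refine induction_internal hF (motive := fun x => proj hF i x ∈ F i) ?_ ?_ ?_ x
  · rw [map_zero]; exact zero_mem _
  · intro x y hx hy
    rw [map_add]; exact add_mem hx hy
  · intro j x hx
    by_cases hij : j = i
    · subst hij
      rw [proj_same hF hx]; exact hx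
    · rw [proj_ne hF hij hx]; exact zero_mem _

end internal

/-- Internal direct sum from a family of coordinate maps. -/
theorem isInternal_of_coords {J : Type} [DecidableEq J] (F : J → Submodule k V)
    (c : J → (V →ₗ[k] V)) (hc : ∀ i j, ∀ x ∈ F j, c i x = if i = j then x else 0)
    (hfin : ∀ x : V, ∃ s : Finset J, x = ∑ i ∈ s, c i x) (hmem : ∀ i x, c i x ∈ F i) :
    DirectSum.IsInternal F := by
  classical
  have key : ∀ (z : ⨁ i, F i) (i : J), c i (DirectSum.coeLinearMap F z) = (z i : V) := by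
    intro z i
    induction z using DirectSum.induction_on with
    | zero => rw [map_zero, map_zero]; rfl
    | of j x =>
      rw [DirectSum.coeLinearMap_of, hc i j x.1 x.2]
      by_cases hij : i = j
      · subst hij
        rw [if_pos rfl, DirectSum.of_eq_same]
      · rw [if_neg hij, DirectSum.of_eq_of_ne _ _ _ hij]
        rfl
    | add x y hx hy =>
      rw [map_add, map_add, hx, hy, DirectSum.add_apply]
      rfl
  constructor
  · intro z z' h
    apply DFinsupp.ext
    intro i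
    apply Subtype.ext
    have h1 := key z i
    have h2 := key z' i
    have h3 : DirectSum.coeLinearMap F z = DirectSum.coeLinearMap F z' := h
    rw [h3] at h1
    exact h1.symm.trans h2
  · intro x
    obtain ⟨s, hs⟩ := hfin x
    refine ⟨∑ i ∈ s, DirectSum.lof k J (fun i => ↥(F i)) i ⟨c i x, hmem i x⟩, ?_⟩
    show DirectSum.coeLinearMap F _ = x
    rw [map_sum]
    conv_rhs => rw [hs]
    refine Finset.sum_congr rfl fun i _ => ?_
    rw [DirectSum.coeLinearMap_lof]

/-! ### Relative complements -/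

theorem exists_rel_compl {B Z : Submodule k V} (hBZ : B ≤ Z) :
    ∃ H : Submodule k V, H ≤ Z ∧ B ⊓ H = ⊥ ∧ B ⊔ H = Z := by
  obtain ⟨C, hC⟩ := Submodule.exists_isCompl B
  refine ⟨C ⊓ Z, inf_le_right, ?_, ?_⟩
  · rw [← inf_assoc, hC.inf_eq_bot, bot_inf_eq]
  · rw [← sup_inf_assoc_of_le C hBZ, hC.sup_eq_top, top_inf_eq]

theorem exists_pinv (f : V →ₗ[k] V) (L K : Submodule k V)
    (hL : LinearMap.ker f ⊓ L = ⊥) (hK : L.map f ⊓ K = ⊥) :
    ∃ t : V →ₗ[k] V, (∀ y, t y ∈ L) ∧ (∀ y ∈ K, t y = 0) ∧ (∀ x ∈ L, t (f x) = x) := by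
  let φ : (↥L × ↥K) →ₗ[k] V := (f.domRestrict L).coprod K.subtype
  have hφ : LinearMap.ker φ = ⊥ := by
    rw [LinearMap.ker_eq_bot']
    rintro ⟨l, κ⟩ h
    have h' : f l.1 + κ.1 = 0 := h
    have hκ : κ.1 ∈ L.map f ⊓ K := by
      refine ⟨?_, κ.2⟩
      have : κ.1 = f (-l.1) := by rw [map_neg]; exact eq_neg_of_add_eq_zero_right h'
      rw [this]
      exact Submodule.mem_map_of_mem (neg_mem l.2)
    rw [hK] at hκ
    have hκ0 : κ.1 = 0 := (Submodule.mem_bot k).mp hκ
    have hl : l.1 ∈ LinearMap.ker f ⊓ L := by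
      refine ⟨?_, l.2⟩
      rw [hκ0, add_zero] at h'
      exact LinearMap.mem_ker.mpr h'
    rw [hL] at hl
    have hl0 : l.1 = 0 := (Submodule.mem_bot k).mp hl
    exact Prod.ext (Subtype.ext hl0) (Subtype.ext hκ0)
  obtain ⟨g, hg⟩ := LinearMap.exists_leftInverse_of_injective φ hφ
  refine ⟨L.subtype ∘ₗ (LinearMap.fst k ↥L ↥K) ∘ₗ g, fun y => Submodule.coe_mem _, ?_, ?_⟩
  · intro y hy
    have h1 : g (φ (0, ⟨y, hy⟩)) = (0, ⟨y, hy⟩) := LinearMap.congr_fun hg _
    have h2 : φ (0, ⟨y, hy⟩) = y := by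
      show f (0 : ↥L).1 + y = y
      rw [Submodule.coe_zero, map_zero, zero_add]
    rw [h2] at h1
    show ((g y).1 : V) = 0
    rw [h1]
    rfl
  · intro x hx
    have h1 : g (φ (⟨x, hx⟩, 0)) = (⟨x, hx⟩, 0) := LinearMap.congr_fun hg _
    have h2 : φ (⟨x, hx⟩, 0) = f x := by
      show f x + (0 : ↥K).1 = f x
      rw [Submodule.coe_zero, add_zero]
    rw [h2] at h1
    show ((g (f x)).1 : V) = x
    rw [h1]

/-! ### Complexes of vector spaces with a passive grading -/

variable (k V) in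
/-- A cochain complex of `k`-vector spaces in internal form: the total space `V`, its pieces
`F p g` (cohomological degree `p`, passive degree `g`), the differential `d`, the sign operator
`σ` and a graded idempotent `ρ` whose image is a subcomplex. -/
structure GCpx (Γ : Type) [DecidableEq Γ] where
  F : ℕ → Γ → Submodule k V
  int : DirectSum.IsInternal (fun i : ℕ × Γ => F i.1 i.2)
  d : V →ₗ[k] V
  σ : V →ₗ[k] V
  ρ : V →ₗ[k] V
  d_mem : ∀ p g x, x ∈ F p g → d x ∈ F (p + 1) g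
  d_d : ∀ x, d (d x) = 0
  σ_mem : ∀ p g x, x ∈ F p g → σ x = (-1 : k) ^ p • x
  ρ_mem : ∀ p g x, x ∈ F p g → ρ x ∈ F p g
  ρ_idem : ∀ x, ρ (ρ x) = ρ x
  dρ : ∀ x, ρ (d (ρ x)) = d (ρ x)

namespace GCpx

variable {Γ : Type} [DecidableEq Γ] (C : GCpx k V Γ) {W : Type w} [AddCommGroup W] [Module k W]

theorem ext_pieces {f g : V →ₗ[k] W} (h : ∀ p g' x, x ∈ C.F p g' → f x = g x) (x : V) :
    f x = g x :=
  LinearMap.congr_fun (ext_internal C.int (fun i x hx => h i.1 i.2 x hx)) x

/-- The pieces of the subcomplex cut out by `ρ`. -/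
def X (p : ℕ) (g : Γ) : Submodule k V := (C.F p g).map C.ρ

theorem mem_X_iff {p : ℕ} {g : Γ} {x : V} : x ∈ C.X p g ↔ x ∈ C.F p g ∧ C.ρ x = x := by
  constructor
  · rintro ⟨y, hy, rfl⟩
    exact ⟨C.ρ_mem p g y hy, C.ρ_idem y⟩
  · rintro ⟨hx, hρ⟩
    exact ⟨x, hx, hρ⟩

theorem X_le (p : ℕ) (g : Γ) : C.X p g ≤ C.F p g := fun _ hx => (C.mem_X_iff.mp hx).1

theorem d_X {p : ℕ} {g : Γ} {x : V} (hx : x ∈ C.X p g) : C.d x ∈ C.X (p + 1) g := by
  obtain ⟨hx1, hx2⟩ := C.mem_X_iff.mp hx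
  refine C.mem_X_iff.mpr ⟨C.d_mem p g x hx1, ?_⟩
  rw [← hx2]
  exact C.dρ x

/-- The previous piece of the subcomplex. -/
def Xprev : ℕ → Γ → Submodule k V
  | 0, _ => ⊥
  | p + 1, g => C.X p g

/-- The same complex with the full complex as subcomplex. -/
def full : GCpx k V Γ :=
  { C with
    ρ := LinearMap.id
    ρ_mem := fun _ _ _ hx => hx
    ρ_idem := fun _ => rfl
    dρ := fun _ => rfl }

@[simp] theorem full_F : C.full.F = C.F := rfl
@[simp] theorem full_d : C.full.d = C.d := rfl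
@[simp] theorem full_σ : C.full.σ = C.σ := rfl
@[simp] theorem full_ρ : C.full.ρ = LinearMap.id := rfl

theorem full_X (p : ℕ) (g : Γ) : C.full.X p g = C.F p g := by
  show (C.F p g).map LinearMap.id = C.F p g
  exact Submodule.map_id _

theorem σ_σ (x : V) : C.σ (C.σ x) = x := by
  refine C.ext_pieces (f := C.σ ∘ₗ C.σ) (g := LinearMap.id) ?_ x
  intro p g x hx
  show C.σ (C.σ x) = x
  rw [C.σ_mem p g x hx, map_smul, C.σ_mem p g x hx, smul_smul, ← mul_pow]
  norm_num

theorem σ_d (x : V) : C.σ (C.d x) = -C.d (C.σ x) := by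
  refine C.ext_pieces (f := C.σ ∘ₗ C.d) (g := -(C.d ∘ₗ C.σ)) ?_ x
  intro p g x hx
  show C.σ (C.d x) = -C.d (C.σ x)
  rw [C.σ_mem (p + 1) g _ (C.d_mem p g x hx), C.σ_mem p g x hx, map_smul, pow_succ, mul_smul,
    neg_one_smul, smul_neg]

theorem σ_ρ (x : V) : C.σ (C.ρ x) = C.ρ (C.σ x) := by
  refine C.ext_pieces (f := C.σ ∘ₗ C.ρ) (g := C.ρ ∘ₗ C.σ) ?_ x
  intro p g x hx
  show C.σ (C.ρ x) = C.ρ (C.σ x)
  rw [C.σ_mem p g _ (C.ρ_mem p g x hx), C.σ_mem p g x hx, map_smul]

theorem σ_mem' {p : ℕ} {g : Γ} {x : V} (hx : x ∈ C.F p g) : C.σ x ∈ C.F p g := by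
  rw [C.σ_mem p g x hx]
  exact Submodule.smul_mem _ _ hx

/-- A graded splitting of the subcomplex cut out by `ρ`. -/
structure Split where
  s : V →ₗ[k] V
  s_mem : ∀ p g x, x ∈ C.F (p + 1) g → s x ∈ C.F p g
  s_zero : ∀ g x, x ∈ C.F 0 g → s x = 0
  ρ_s : ∀ x, C.ρ (s x) = s x
  s_ρ : ∀ x, s (C.ρ x) = s x
  dsd : ∀ x, C.d (s (C.d (C.ρ x))) = C.d (C.ρ x)
  sds : ∀ x, s (C.d (s x)) = s x
  ss : ∀ x, s (s x) = 0

theorem exists_compl_piece (p : ℕ) (g : Γ) :
    ∃ L : Submodule k V, L ≤ C.X p g ∧ (C.X p g ⊓ LinearMap.ker C.d) ⊓ L = ⊥ ∧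
      (C.X p g ⊓ LinearMap.ker C.d) ⊔ L = C.X p g :=
  exists_rel_compl inf_le_left

/-- The family of maps glued into a splitting. -/
def sFam (t : ℕ → Γ → (V →ₗ[k] V)) : ℕ × Γ → (V →ₗ[k] V)
  | (0, _) => 0
  | (p + 1, g) => t p g ∘ₗ C.ρ

theorem nonempty_split : Nonempty C.Split := by
  classical
  choose L hLX hZL hZLX using C.exists_compl_piece
  have hker : ∀ p g, LinearMap.ker C.d ⊓ L p g = ⊥ := by
    intro p g
    rw [eq_bot_iff]
    rintro x ⟨hx1, hx2⟩
    rw [← hZL p g]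
    exact ⟨⟨hLX p g hx2, hx1⟩, hx2⟩
  have hK : ∀ p g, (L p g).map C.d ⊓ L (p + 1) g = ⊥ := by
    intro p g
    rw [eq_bot_iff]
    rintro y ⟨⟨l, hl, rfl⟩, hy2⟩
    rw [← hZL (p + 1) g]
    exact ⟨⟨C.d_X (hLX p g hl), LinearMap.mem_ker.mpr (C.d_d l)⟩, hy2⟩
  choose t ht1 ht2 ht3 using fun p g => exists_pinv C.d (L p g) (L (p + 1) g) (hker p g) (hK p g)
  let s : V →ₗ[k] V := glue C.int (C.sFam t)
  have hs0 : ∀ g x, x ∈ C.F 0 g → s x = 0 := by
    intro g x hx
    have := glue_apply C.int (C.sFam t) (i := (0, g)) hx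
    rw [this]
    rfl
  have hs1 : ∀ p g x, x ∈ C.F (p + 1) g → s x = t p g (C.ρ x) := by
    intro p g x hx
    have := glue_apply C.int (C.sFam t) (i := (p + 1, g)) hx
    rw [this]
    rfl
  have hsL : ∀ p g x, x ∈ C.F (p + 1) g → s x ∈ L p g := by
    intro p g x hx
    rw [hs1 p g x hx]
    exact ht1 p g _
  have hρL : ∀ p g x, x ∈ L p g → C.ρ x = x := fun p g x hx => (C.mem_X_iff.mp (hLX p g hx)).2
  have hFL : ∀ p g x, x ∈ L p g → x ∈ C.F p g := fun p g x hx => C.X_le p g (hLX p g hx)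
  have hsdL : ∀ p g l, l ∈ L p g → s (C.d l) = l := by
    intro p g l hl
    have hdl : C.d l ∈ C.X (p + 1) g := C.d_X (hLX p g hl)
    rw [hs1 p g _ (C.X_le _ _ hdl), (C.mem_X_iff.mp hdl).2]
    exact ht3 p g l hl
  refine ⟨⟨s, fun p g x hx => hFL p g _ (hsL p g x hx), hs0, ?_, ?_, ?_, ?_, ?_⟩⟩
  · refine C.ext_pieces (f := C.ρ ∘ₗ s) (g := s) ?_
    intro p g x hx
    show C.ρ (s x) = s x
    cases p with
    | zero => rw [hs0 g x hx, map_zero]
    | succ p => exact hρL p g _ (hsL p g x hx)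
  · refine C.ext_pieces (f := s ∘ₗ C.ρ) (g := s) ?_
    intro p g x hx
    show s (C.ρ x) = s x
    cases p with
    | zero => rw [hs0 g x hx, hs0 g _ (C.ρ_mem 0 g x hx)]
    | succ p => rw [hs1 p g x hx, hs1 p g _ (C.ρ_mem _ g x hx), C.ρ_idem]
  · refine C.ext_pieces (f := C.d ∘ₗ s ∘ₗ C.d ∘ₗ C.ρ) (g := C.d ∘ₗ C.ρ) ?_
    intro p g x hx
    show C.d (s (C.d (C.ρ x))) = C.d (C.ρ x)
    have hρx : C.ρ x ∈ C.X p g := ⟨x, hx, rfl⟩
    rw [← hZLX p g] at hρx
    obtain ⟨z, hz, l, hl, hzl⟩ := Submodule.mem_sup.mp hρx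
    have hdz : C.d z = 0 := LinearMap.mem_ker.mp hz.2
    rw [← hzl, map_add, hdz, zero_add, hsdL p g l hl]
  · refine C.ext_pieces (f := s ∘ₗ C.d ∘ₗ s) (g := s) ?_
    intro p g x hx
    show s (C.d (s x)) = s x
    cases p with
    | zero => rw [hs0 g x hx, map_zero, map_zero]
    | succ p => exact hsdL p g _ (hsL p g x hx)
  · refine C.ext_pieces (f := s ∘ₗ s) (g := 0) ?_
    intro p g x hx
    show s (s x) = 0
    cases p with
    | zero => rw [hs0 g x hx, map_zero]
    | succ p =>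
      cases p with
      | zero => exact hs0 g _ (hFL 0 g _ (hsL 0 g x hx))
      | succ p =>
        have h1 : s x ∈ L (p + 1) g := hsL (p + 1) g x hx
        rw [hs1 p g _ (hFL (p + 1) g _ h1), hρL (p + 1) g _ h1]
        exact ht2 p g _ h1

end GCpx

end Groth.Agent.Lib.R2H7.KunLA1
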