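/-
Linear algebra for the Künneth formula, part 2: the harmonic projection of a splitting, abstract
cohomology spaces `HQ`, and the identification of cohomology with the image of a projection that
is chain homotopic to the identity.
-/
import Mathlib
import Groth.Agent.Lib.R2H7KunLA1

set_option autoImplicit false
open DirectSum TensorProduct

noncomputable section

namespace Groth.Agent.Lib.R2H7.KunLA2

open Groth.Agent.Lib.R2H7.KunLA1

universe u v w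

variable {k : Type u} [Field k]

/-! ### Abstract cohomology spaces -/

section HQ

variable {Y : Type v} [AddCommGroup Y] [Module k Y] {Y' : Type w} [AddCommGroup Y'] [Module k Y']

/-- The cohomology at `A1` of `A0 → A1 → ·` inside `(Y, D)`. -/
abbrev HQ (D : Y →ₗ[k] Y) (A0 A1 : Submodule k Y) : Type v :=
  ↥(A1 ⊓ LinearMap.ker D) ⧸ (A0.map D).comap (A1 ⊓ LinearMap.ker D).subtype

namespace HQ

variable (D : Y →ₗ[k] Y) (A0 A1 : Submodule k Y)

/-- The class of a cocycle. -/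
def mk (z : Y) (hz : z ∈ A1) (hd : D z = 0) : HQ D A0 A1 :=
  Submodule.Quotient.mk ⟨z, hz, LinearMap.mem_ker.mpr hd⟩

variable {D A0 A1}

theorem mk_eq_zero {z : Y} {hz : z ∈ A1} {hd : D z = 0} :
    mk D A0 A1 z hz hd = 0 ↔ z ∈ A0.map D := by
  unfold mk
  rw [Submodule.Quotient.mk_eq_zero]
  rfl

theorem exists_rep (ξ : HQ D A0 A1) : ∃ (z : Y) (hz : z ∈ A1) (hd : D z = 0),
    ξ = mk D A0 A1 z hz hd := by
  obtain ⟨⟨z, hz1, hz2⟩, rfl⟩ := Submodule.Quotient.mk_surjective _ ξ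
  exact ⟨z, hz1, LinearMap.mem_ker.mp hz2, rfl⟩

theorem mk_add {z z' : Y} (hz : z ∈ A1) (hd : D z = 0) (hz' : z' ∈ A1) (hd' : D z' = 0) :
    mk D A0 A1 (z + z') (add_mem hz hz') (by rw [map_add, hd, hd', add_zero]) =
      mk D A0 A1 z hz hd + mk D A0 A1 z' hz' hd' := rfl

variable {D' : Y' →ₗ[k] Y'} {A0' A1' : Submodule k Y'}

/-- The map induced on cohomology by a linear map respecting cocycles and coboundaries. -/
def map (f : Y →ₗ[k] Y') (hZ : ∀ z ∈ A1, D z = 0 → f z ∈ A1' ∧ D' (f z) = 0)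
    (hB : ∀ w ∈ A0, f (D w) ∈ A0'.map D') : HQ D A0 A1 →ₗ[k] HQ D' A0' A1' :=
  Submodule.mapQ _ _
    (f.restrict (p := A1 ⊓ LinearMap.ker D) (q := A1' ⊓ LinearMap.ker D') (fun z hz =>
      ⟨(hZ z hz.1 (LinearMap.mem_ker.mp hz.2)).1,
        LinearMap.mem_ker.mpr (hZ z hz.1 (LinearMap.mem_ker.mp hz.2)).2⟩))
    (by
      rintro ⟨z, hz⟩ ⟨w, hw, hwz⟩
      show f z ∈ A0'.map D'
      have : z = D w := hwz.symm
      rw [this]
      exact hB w hw)

theorem map_mk (f : Y →ₗ[k] Y') (hZ : ∀ z ∈ A1, D z = 0 → f z ∈ A1' ∧ D' (f z) = 0)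
    (hB : ∀ w ∈ A0, f (D w) ∈ A0'.map D') {z : Y} (hz : z ∈ A1) (hd : D z = 0) :
    map f hZ hB (mk D A0 A1 z hz hd) = mk D' A0' A1' (f z) (hZ z hz hd).1 (hZ z hz hd).2 := rfl

/-- Cohomology is the image of a projection that is homotopic to the identity. -/
def equivImage (Pi : Y →ₗ[k] Y)
    (ha : ∀ z ∈ A1, D z = 0 → ∃ w ∈ A0, z = Pi z + D w)
    (hb : ∀ w ∈ A0, Pi (D w) = 0)
    (hc : ∀ z ∈ A1, Pi z ∈ A1 ∧ D (Pi z) = 0 ∧ Pi (Pi z) = Pi z) :
    HQ D A0 A1 ≃ₗ[k] ↥(A1.map Pi) := by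
  let f : ↥(A1 ⊓ LinearMap.ker D) →ₗ[k] ↥(A1.map Pi) :=
    Pi.restrict (p := A1 ⊓ LinearMap.ker D) (q := A1.map Pi)
      (fun z hz => Submodule.mem_map_of_mem hz.1)
  have hf : (A0.map D).comap (A1 ⊓ LinearMap.ker D).subtype ≤ LinearMap.ker f := by
    rintro ⟨z, hz⟩ ⟨w, hw, hwz⟩
    rw [LinearMap.mem_ker]
    apply Subtype.ext
    show Pi z = 0
    have : z = D w := hwz.symm
    rw [this]
    exact hb w hw
  refine LinearEquiv.ofBijective (Submodule.liftQ _ f hf) ⟨?_, ?_⟩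
  · rw [injective_iff_map_eq_zero]
    intro ξ hξ
    obtain ⟨⟨z, hz⟩, rfl⟩ := Submodule.Quotient.mk_surjective _ ξ
    have h1 : f ⟨z, hz⟩ = 0 := hξ
    have h2 : Pi z = 0 := congrArg Subtype.val h1
    obtain ⟨w, hw, hzw⟩ := ha z hz.1 (LinearMap.mem_ker.mp hz.2)
    rw [h2, zero_add] at hzw
    rw [Submodule.Quotient.mk_eq_zero]
    exact ⟨w, hw, hzw.symm⟩
  · rintro ⟨y, x, hx, rfl⟩
    obtain ⟨h1, h2, h3⟩ := hc x hx
    refine ⟨Submodule.Quotient.mk ⟨Pi x, h1, LinearMap.mem_ker.mpr h2⟩, ?_⟩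
    apply Subtype.ext
    show Pi (Pi x) = Pi x
    exact h3

end HQ

end HQ

/-! ### The harmonic projection of a splitting -/

namespace GCpxS

open GCpx

variable {V : Type v} [AddCommGroup V] [Module k V] {Γ : Type} [DecidableEq Γ]
  {C : GCpx k V Γ} (S : C.Split)

/-- The harmonic projection `ρ - d s - s d ρ`. -/
def e : V →ₗ[k] V := C.ρ - C.d ∘ₗ S.s - S.s ∘ₗ C.d ∘ₗ C.ρ

theorem e_apply (x : V) : e S x = C.ρ x - C.d (S.s x) - S.s (C.d (C.ρ x)) := rfl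

theorem hom (x : V) : C.d (S.s x) + S.s (C.d (C.ρ x)) = C.ρ x - e S x := by
  rw [e_apply]; abel

theorem d_e (x : V) : C.d (e S x) = 0 := by
  rw [e_apply, map_sub, map_sub, C.d_d, S.dsd, sub_zero, sub_self]

theorem e_dρ (x : V) : e S (C.d (C.ρ x)) = 0 := by
  rw [e_apply, C.dρ, S.dsd, C.d_d, map_zero, sub_self, sub_zero]

theorem ρ_e (x : V) : C.ρ (e S x) = e S x := by
  rw [e_apply, map_sub, map_sub, C.ρ_idem, S.ρ_s]
  have : C.ρ (C.d (S.s x)) = C.d (S.s x) := by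
    have h := C.dρ (S.s x)
    rwa [S.ρ_s] at h
  rw [this]

theorem e_ρ (x : V) : e S (C.ρ x) = e S x := by
  rw [e_apply, e_apply, C.ρ_idem, S.s_ρ]

theorem e_s (x : V) : e S (S.s x) = 0 := by
  rw [e_apply, S.ρ_s, S.ss, map_zero, sub_zero, S.sds, sub_self]

theorem e_d_s (x : V) : e S (C.d (S.s x)) = 0 := by
  have h := e_dρ S (S.s x)
  rwa [S.ρ_s] at h

theorem e_e (x : V) : e S (e S x) = e S x := by
  conv_lhs => rw [e_apply S x]
  rw [map_sub, map_sub, e_ρ, e_d_s, e_s, sub_zero, sub_zero]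

theorem e_mem {p : ℕ} {g : Γ} {x : V} (hx : x ∈ C.F p g) : e S x ∈ C.F p g := by
  rw [e_apply]
  refine sub_mem (sub_mem (C.ρ_mem p g x hx) ?_)
    (S.s_mem p g _ (C.d_mem p g _ (C.ρ_mem p g x hx)))
  cases p with
  | zero => rw [S.s_zero g x hx, map_zero]; exact zero_mem _
  | succ p => exact C.d_mem p g _ (S.s_mem p g x hx)

theorem σ_s (x : V) : C.σ (S.s x) = -S.s (C.σ x) := by
  refine C.ext_pieces (f := C.σ ∘ₗ S.s) (g := -(S.s ∘ₗ C.σ)) ?_ x
  intro p g x hx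
  show C.σ (S.s x) = -S.s (C.σ x)
  cases p with
  | zero => rw [S.s_zero g x hx, S.s_zero g _ (C.σ_mem' hx), map_zero, neg_zero]
  | succ p =>
    rw [C.σ_mem p g _ (S.s_mem p g x hx), C.σ_mem (p + 1) g x hx, map_smul, pow_succ, mul_smul,
      neg_one_smul, smul_neg, neg_neg]

theorem σ_e (x : V) : C.σ (e S x) = e S (C.σ x) := by
  rw [e_apply, e_apply, map_sub, map_sub, C.σ_ρ, C.σ_d, σ_s, map_neg, neg_neg, σ_s, C.σ_d,
    map_neg, neg_neg, C.σ_ρ]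

theorem e_mem_X {p : ℕ} {g : Γ} {x : V} (hx : x ∈ C.F p g) : e S x ∈ C.X p g :=
  C.mem_X_iff.mpr ⟨e_mem S hx, ρ_e S x⟩

/-- The cohomology of the subcomplex cut out by `ρ`. -/
abbrev _root_.Groth.Agent.Lib.R2H7.KunLA1.GCpx.H (C : GCpx k V Γ) (p : ℕ) (g : Γ) : Type v :=
  HQ C.d (C.Xprev p g) (C.X p g)

theorem s_mem_Xprev {p : ℕ} {g : Γ} {x : V} (hx : x ∈ C.F p g) : S.s x ∈ C.Xprev p g := by
  cases p with
  | zero =>
    rw [S.s_zero g x hx]
    exact zero_mem _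
  | succ p => exact C.mem_X_iff.mpr ⟨S.s_mem p g x hx, S.ρ_s x⟩

theorem e_d_of_mem_Xprev {p : ℕ} {g : Γ} {w : V} (hw : w ∈ C.Xprev p g) : e S (C.d w) = 0 := by
  cases p with
  | zero =>
    have : w = 0 := (Submodule.mem_bot k).mp hw
    rw [this, map_zero, map_zero]
  | succ p =>
    have h := e_dρ S w
    rwa [(C.mem_X_iff.mp hw).2] at h

/-- Cohomology is the harmonic part. -/
def hEquiv (p : ℕ) (g : Γ) : C.H p g ≃ₗ[k] ↥((C.X p g).map (e S)) :=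
  HQ.equivImage (e S)
    (fun z hz hd => by
      obtain ⟨hz1, hz2⟩ := C.mem_X_iff.mp hz
      refine ⟨S.s z, s_mem_Xprev S hz1, ?_⟩
      have h := hom S z
      rw [hz2, hd, map_zero, add_zero] at h
      rw [h]; abel)
    (fun w hw => e_d_of_mem_Xprev S hw)
    (fun z hz => ⟨e_mem_X S (C.X_le p g hz), d_e S z, e_e S z⟩)

end GCpxS

end Groth.Agent.Lib.R2H7.KunLA2
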