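/-
Linear algebra for the Künneth formula, part 3: the tensor product of two complexes of vector
spaces (total differential, total degree pieces), the homotopy between the identity and the tensor
product of the harmonic projections, and the Künneth formula for the dimensions of the cohomology
of the tensor product of two graded subcomplexes.
-/
import Mathlib
import Groth.Agent.Lib.R2H7KunLA2

set_option autoImplicit false
open DirectSum TensorProduct

noncomputable section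

namespace Groth.Agent.Lib.R2H7.KunLA3

open Groth.Agent.Lib.R2H7.KunLA1 Groth.Agent.Lib.R2H7.KunLA2 GCpx GCpxS

universe u v w

variable {k : Type u} [Field k] {V : Type v} [AddCommGroup V] [Module k V]
  {W : Type w} [AddCommGroup W] [Module k W] {Γ : Type} [DecidableEq Γ]

/-! ### A generic dimension count -/

theorem finrank_iSup_of_orth {U : Type v} [AddCommGroup U] [Module k U] {ι : Type} [Fintype ι]
    [DecidableEq ι] (G : ι → Submodule k U) [∀ i, Module.Finite k ↥(G i)]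
    (θ : ι → (U →ₗ[k] U)) (h1 : ∀ i, ∀ x ∈ G i, θ i x = x)
    (h2 : ∀ i j, j ≠ i → ∀ x ∈ G j, θ i x = 0) :
    Module.finrank k ↥(⨆ i, G i) = ∑ i, Module.finrank k ↥(G i) := by
  classical
  let Ψ : (∀ i, ↥(G i)) →ₗ[k] U := LinearMap.lsum k (fun i => ↥(G i)) k (fun i => (G i).subtype)
  have hΨ : ∀ f : (∀ i, ↥(G i)), Ψ f = ∑ i, (f i : U) := by
    intro f
    show (∑ i, ((G i).subtype.comp (LinearMap.proj i))) f = _
    rw [LinearMap.sum_apply]
    rfl
  have hinj : Function.Injective Ψ := by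
    rw [injective_iff_map_eq_zero]
    intro f hf
    funext i
    apply Subtype.ext
    have h3 : θ i (Ψ f) = (f i : U) := by
      rw [hΨ, map_sum, Finset.sum_eq_single i]
      · exact h1 i _ (f i).2
      · intro j _ hji
        exact h2 i j hji _ (f j).2
      · intro h
        exact absurd (Finset.mem_univ i) h
    rw [hf, map_zero] at h3
    exact h3.symm
  have hrange : LinearMap.range Ψ = ⨆ i, G i := by
    apply le_antisymm
    · rintro _ ⟨f, rfl⟩
      rw [hΨ]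
      exact Submodule.sum_mem _ (fun i _ => Submodule.mem_iSup_of_mem i (f i).2)
    · refine iSup_le fun i x hx => ⟨Pi.single i ⟨x, hx⟩, ?_⟩
      rw [hΨ, Finset.sum_eq_single i]
      · rw [Pi.single_eq_same]
      · intro j _ hji
        rw [Pi.single_eq_of_ne hji]
        rfl
      · intro h
        exact absurd (Finset.mem_univ i) h
  have e1 : (∀ i, ↥(G i)) ≃ₗ[k] ↥(LinearMap.range Ψ) := LinearEquiv.ofInjective Ψ hinj
  rw [← hrange, ← e1.finrank_eq, Module.finrank_pi_fintype]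

/-- The span of the tensors of two subspaces has the product dimension. -/
theorem finrank_map₂ (E : Submodule k V) (E' : Submodule k W) :
    Module.finrank k ↥(Submodule.map₂ (TensorProduct.mk k V W) E E') =
      Module.finrank k ↥E * Module.finrank k ↥E' := by
  rw [← TensorProduct.range_mapIncl]
  have hinj : Function.Injective (TensorProduct.mapIncl E E') :=
    Module.Flat.tensorProduct_mapIncl_injective_of_left E E'
  rw [← (LinearEquiv.ofInjective _ hinj).finrank_eq, Module.finrank_tensorProduct]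

theorem finite_map₂ (E : Submodule k V) (E' : Submodule k W) [Module.Finite k ↥E]
    [Module.Finite k ↥E'] : Module.Finite k ↥(Submodule.map₂ (TensorProduct.mk k V W) E E') := by
  rw [← TensorProduct.range_mapIncl]
  have hinj : Function.Injective (TensorProduct.mapIncl E E') :=
    Module.Flat.tensorProduct_mapIncl_injective_of_left E E'
  exact Module.Finite.equiv (LinearEquiv.ofInjective _ hinj)

/-! ### The tensor product of two complexes -/

variable (C : GCpx k V Γ) (C' : GCpx k W Γ)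

/-- The total differential `d ⊗ 1 + σ ⊗ d'`. -/
def DD : V ⊗[k] W →ₗ[k] V ⊗[k] W :=
  TensorProduct.map C.d LinearMap.id + TensorProduct.map C.σ C'.d

/-- The projection onto the tensor product of the subcomplexes. -/
def PP : V ⊗[k] W →ₗ[k] V ⊗[k] W := TensorProduct.map C.ρ C'.ρ

theorem DD_tmul (x : V) (y : W) :
    DD C C' (x ⊗ₜ[k] y) = C.d x ⊗ₜ[k] y + C.σ x ⊗ₜ[k] C'.d y := rfl

theorem PP_tmul (x : V) (y : W) : PP C C' (x ⊗ₜ[k] y) = C.ρ x ⊗ₜ[k] C'.ρ y := rfl

theorem DD_DD (z : V ⊗[k] W) : DD C C' (DD C C' z) = 0 := by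
  induction z using TensorProduct.induction_on with
  | zero => rw [map_zero, map_zero]
  | tmul x y =>
    rw [DD_tmul, map_add, DD_tmul, DD_tmul, C.d_d, C'.d_d, C.σ_d, zero_tmul, tmul_zero, neg_tmul]
    abel
  | add x y hx hy => rw [map_add, map_add, hx, hy, add_zero]

theorem PP_PP (z : V ⊗[k] W) : PP C C' (PP C C' z) = PP C C' z := by
  induction z using TensorProduct.induction_on with
  | zero => rw [map_zero, map_zero]
  | tmul x y => rw [PP_tmul, PP_tmul, C.ρ_idem, C'.ρ_idem]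
  | add x y hx hy => rw [map_add, map_add, hx, hy]

theorem PP_DD_PP (z : V ⊗[k] W) : PP C C' (DD C C' (PP C C' z)) = DD C C' (PP C C' z) := by
  induction z using TensorProduct.induction_on with
  | zero => rw [map_zero, map_zero, map_zero]
  | tmul x y =>
    rw [PP_tmul, DD_tmul, map_add, PP_tmul, PP_tmul, C.dρ, C'.ρ_idem, C'.dρ, ← C.σ_ρ, C.ρ_idem]
  | add x y hx hy => rw [map_add, map_add, map_add, hx, hy]

variable {C C'} (S : C.Split) (S' : C'.Split)

/-- The homotopy. -/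
def HH : V ⊗[k] W →ₗ[k] V ⊗[k] W :=
  TensorProduct.map S.s C'.ρ + TensorProduct.map (C.σ ∘ₗ e S) S'.s

/-- The harmonic projection of the tensor product. -/
def PiPi : V ⊗[k] W →ₗ[k] V ⊗[k] W := TensorProduct.map (e S) (e S')

theorem HH_tmul (x : V) (y : W) :
    HH S S' (x ⊗ₜ[k] y) = S.s x ⊗ₜ[k] C'.ρ y + C.σ (e S x) ⊗ₜ[k] S'.s y := rfl

theorem PiPi_tmul (x : V) (y : W) : PiPi S S' (x ⊗ₜ[k] y) = e S x ⊗ₜ[k] e S' y := rfl

theorem key_tmul (x : V) (y : W) :
    HH S S' (DD C C' (PP C C' (x ⊗ₜ[k] y))) + DD C C' (HH S S' (x ⊗ₜ[k] y)) =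
      PP C C' (x ⊗ₜ[k] y) - PiPi S S' (x ⊗ₜ[k] y) := by
  have h1 : HH S S' (DD C C' (PP C C' (x ⊗ₜ[k] y))) =
      S.s (C.d (C.ρ x)) ⊗ₜ[k] C'.ρ y + (-(C.σ (S.s x))) ⊗ₜ[k] C'.d (C'.ρ y) +
        e S x ⊗ₜ[k] S'.s (C'.d (C'.ρ y)) := by
    rw [PP_tmul, DD_tmul, map_add, HH_tmul, HH_tmul, C'.ρ_idem, e_dρ, map_zero, zero_tmul,
      add_zero, C'.dρ, C.σ_ρ, S.s_ρ, e_ρ, ← σ_e, C.σ_σ, σ_s, neg_neg, add_assoc]
  have h2 : DD C C' (HH S S' (x ⊗ₜ[k] y)) =
      C.d (S.s x) ⊗ₜ[k] C'.ρ y + C.σ (S.s x) ⊗ₜ[k] C'.d (C'.ρ y) +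
        e S x ⊗ₜ[k] C'.d (S'.s y) := by
    rw [HH_tmul, map_add, DD_tmul, DD_tmul, C.σ_σ, ← neg_neg (C.d (C.σ (e S x))), ← C.σ_d, d_e,
      map_zero, neg_zero, zero_tmul, zero_add, add_assoc]
  have h3 := hom S x
  have h4 := hom S' y
  rw [h1, h2, PP_tmul, PiPi_tmul]
  have h5 : S.s (C.d (C.ρ x)) ⊗ₜ[k] C'.ρ y + C.d (S.s x) ⊗ₜ[k] C'.ρ y =
      C.ρ x ⊗ₜ[k] C'.ρ y - e S x ⊗ₜ[k] C'.ρ y := by
    rw [← add_tmul, add_comm, h3, sub_tmul]
  have h6 : e S x ⊗ₜ[k] S'.s (C'.d (C'.ρ y)) + e S x ⊗ₜ[k] C'.d (S'.s y) =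
      e S x ⊗ₜ[k] C'.ρ y - e S x ⊗ₜ[k] e S' y := by
    rw [← tmul_add, add_comm, h4, tmul_sub]
  rw [neg_tmul]
  have h7 : S.s (C.d (C.ρ x)) ⊗ₜ[k] C'.ρ y + -(C.σ (S.s x) ⊗ₜ[k] C'.d (C'.ρ y)) +
        e S x ⊗ₜ[k] S'.s (C'.d (C'.ρ y)) +
      (C.d (S.s x) ⊗ₜ[k] C'.ρ y + C.σ (S.s x) ⊗ₜ[k] C'.d (C'.ρ y) +
        e S x ⊗ₜ[k] C'.d (S'.s y)) =
      (S.s (C.d (C.ρ x)) ⊗ₜ[k] C'.ρ y + C.d (S.s x) ⊗ₜ[k] C'.ρ y) +
      (e S x ⊗ₜ[k] S'.s (C'.d (C'.ρ y)) + e S x ⊗ₜ[k] C'.d (S'.s y)) := by abel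
  rw [h7, h5, h6]
  abel

theorem key (z : V ⊗[k] W) :
    HH S S' (DD C C' (PP C C' z)) + DD C C' (HH S S' z) = PP C C' z - PiPi S S' z := by
  induction z using TensorProduct.induction_on with
  | zero => simp only [map_zero, add_zero, sub_zero]
  | tmul x y => exact key_tmul S S' x y
  | add x y hx hy =>
    simp only [map_add]
    rw [add_add_add_comm, hx, hy]
    abel

theorem PiPi_DD_PP (z : V ⊗[k] W) : PiPi S S' (DD C C' (PP C C' z)) = 0 := by
  induction z using TensorProduct.induction_on with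
  | zero => simp only [map_zero]
  | tmul x y =>
    rw [PP_tmul, DD_tmul, map_add, PiPi_tmul, PiPi_tmul, e_dρ, zero_tmul, e_dρ, tmul_zero,
      add_zero]
  | add x y hx hy => simp only [map_add, hx, hy, add_zero]

theorem DD_PiPi (z : V ⊗[k] W) : DD C C' (PiPi S S' z) = 0 := by
  induction z using TensorProduct.induction_on with
  | zero => simp only [map_zero]
  | tmul x y =>
    rw [PiPi_tmul, DD_tmul, d_e, zero_tmul, d_e, tmul_zero, add_zero]
  | add x y hx hy => simp only [map_add, hx, hy, add_zero]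

theorem PiPi_PiPi (z : V ⊗[k] W) : PiPi S S' (PiPi S S' z) = PiPi S S' z := by
  induction z using TensorProduct.induction_on with
  | zero => simp only [map_zero]
  | tmul x y => rw [PiPi_tmul, PiPi_tmul, e_e, e_e]
  | add x y hx hy => simp only [map_add, hx, hy]

theorem PP_PiPi (z : V ⊗[k] W) : PP C C' (PiPi S S' z) = PiPi S S' z := by
  induction z using TensorProduct.induction_on with
  | zero => simp only [map_zero]
  | tmul x y => rw [PiPi_tmul, PP_tmul, ρ_e, ρ_e]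
  | add x y hx hy => simp only [map_add, hx, hy]

theorem PiPi_PP (z : V ⊗[k] W) : PiPi S S' (PP C C' z) = PiPi S S' z := by
  induction z using TensorProduct.induction_on with
  | zero => simp only [map_zero]
  | tmul x y => rw [PP_tmul, PiPi_tmul, PiPi_tmul, e_ρ, e_ρ]
  | add x y hx hy => simp only [map_add, hx, hy]

theorem PP_HH (z : V ⊗[k] W) : PP C C' (HH S S' z) = HH S S' z := by
  induction z using TensorProduct.induction_on with
  | zero => simp only [map_zero]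
  | tmul x y =>
    rw [HH_tmul, map_add, PP_tmul, PP_tmul, S.ρ_s, C'.ρ_idem, S'.ρ_s, ← C.σ_ρ, ρ_e]
  | add x y hx hy => simp only [map_add, hx, hy]

/-! ### Total degree pieces -/

variable (C C')

/-- The piece of total degree `n` (and passive degree `g`) of the tensor product. -/
def Tn (n : ℕ) (g : Γ) : Submodule k (V ⊗[k] W) :=
  Submodule.span k {z | ∃ p q a b, p + q = n ∧ a ∈ C.F p g ∧ b ∈ C'.F q g ∧ z = a ⊗ₜ[k] b}

variable {C C'}

theorem tmul_mem_Tn {n p q : ℕ} {g : Γ} (hpq : p + q = n) {a : V} {b : W} (ha : a ∈ C.F p g)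
    (hb : b ∈ C'.F q g) : a ⊗ₜ[k] b ∈ Tn C C' n g :=
  Submodule.subset_span ⟨p, q, a, b, hpq, ha, hb, rfl⟩

theorem map_Tn_mem {U : Type*} [AddCommGroup U] [Module k U] {n : ℕ} {g : Γ}
    (f : V ⊗[k] W →ₗ[k] U) (T' : Submodule k U)
    (h : ∀ p q a b, p + q = n → a ∈ C.F p g → b ∈ C'.F q g → f (a ⊗ₜ[k] b) ∈ T')
    {z : V ⊗[k] W} (hz : z ∈ Tn C C' n g) : f z ∈ T' := by
  have : Tn C C' n g ≤ T'.comap f := by
    refine Submodule.span_le.mpr ?_
    rintro _ ⟨p, q, a, b, hpq, ha, hb, rfl⟩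
    exact h p q a b hpq ha hb
  exact this hz

theorem DD_mem {n : ℕ} {g : Γ} {z : V ⊗[k] W} (hz : z ∈ Tn C C' n g) :
    DD C C' z ∈ Tn C C' (n + 1) g := by
  refine map_Tn_mem (DD C C') _ ?_ hz
  intro p q a b hpq ha hb
  rw [DD_tmul]
  exact add_mem (tmul_mem_Tn (by omega) (C.d_mem p g a ha) hb)
    (tmul_mem_Tn (by omega) (C.σ_mem' ha) (C'.d_mem q g b hb))

theorem PP_mem {n : ℕ} {g : Γ} {z : V ⊗[k] W} (hz : z ∈ Tn C C' n g) :
    PP C C' z ∈ Tn C C' n g := by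
  refine map_Tn_mem (PP C C') _ ?_ hz
  intro p q a b hpq ha hb
  rw [PP_tmul]
  exact tmul_mem_Tn hpq (C.ρ_mem p g a ha) (C'.ρ_mem q g b hb)

theorem PiPi_mem {n : ℕ} {g : Γ} {z : V ⊗[k] W} (hz : z ∈ Tn C C' n g) :
    PiPi S S' z ∈ Tn C C' n g := by
  refine map_Tn_mem (PiPi S S') _ ?_ hz
  intro p q a b hpq ha hb
  rw [PiPi_tmul]
  exact tmul_mem_Tn hpq (e_mem S ha) (e_mem S' hb)

theorem HH_mem {n : ℕ} {g : Γ} {z : V ⊗[k] W} (hz : z ∈ Tn C C' (n + 1) g) :
    HH S S' z ∈ Tn C C' n g := by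
  refine map_Tn_mem (HH S S') _ ?_ hz
  intro p q a b hpq ha hb
  rw [HH_tmul]
  refine add_mem ?_ ?_
  · cases p with
    | zero => rw [S.s_zero g a ha, zero_tmul]; exact zero_mem _
    | succ p => exact tmul_mem_Tn (by omega) (S.s_mem p g a ha) (C'.ρ_mem q g b hb)
  · cases q with
    | zero => rw [S'.s_zero g b hb, tmul_zero]; exact zero_mem _
    | succ q => exact tmul_mem_Tn (by omega) (C.σ_mem' (e_mem S ha)) (S'.s_mem q g b hb)

theorem HH_zero {g : Γ} {z : V ⊗[k] W} (hz : z ∈ Tn C C' 0 g) : HH S S' z = 0 := by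
  have := map_Tn_mem (HH S S') ⊥ ?_ hz
  · exact (Submodule.mem_bot k).mp this
  intro p q a b hpq ha hb
  have hp : p = 0 := by omega
  have hq : q = 0 := by omega
  subst hp; subst hq
  rw [HH_tmul, S.s_zero g a ha, S'.s_zero g b hb, zero_tmul, tmul_zero, add_zero]
  exact zero_mem _

variable (C C')

/-- The pieces of the tensor product of the subcomplexes. -/
def TX (n : ℕ) (g : Γ) : Submodule k (V ⊗[k] W) := (Tn C C' n g).map (PP C C')

/-- The previous piece. -/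
def TXprev : ℕ → Γ → Submodule k (V ⊗[k] W)
  | 0, _ => ⊥
  | n + 1, g => TX C C' n g

/-- The cohomology of the tensor product of the subcomplexes. -/
abbrev HT (n : ℕ) (g : Γ) : Type (max v w) := HQ (DD C C') (TXprev C C' n g) (TX C C' n g)

variable {C C'}

theorem mem_TX_iff {n : ℕ} {g : Γ} {z : V ⊗[k] W} :
    z ∈ TX C C' n g ↔ z ∈ Tn C C' n g ∧ PP C C' z = z := by
  constructor
  · rintro ⟨y, hy, rfl⟩
    exact ⟨PP_mem hy, PP_PP C C' y⟩
  · rintro ⟨hz, hP⟩
    exact ⟨z, hz, hP⟩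

theorem DD_TX {n : ℕ} {g : Γ} {z : V ⊗[k] W} (hz : z ∈ TX C C' n g) :
    DD C C' z ∈ TX C C' (n + 1) g := by
  obtain ⟨h1, h2⟩ := mem_TX_iff.mp hz
  refine mem_TX_iff.mpr ⟨DD_mem h1, ?_⟩
  rw [← h2]
  exact PP_DD_PP C C' z

theorem HH_mem_TXprev {n : ℕ} {g : Γ} {z : V ⊗[k] W} (hz : z ∈ Tn C C' n g) :
    HH S S' z ∈ TXprev C C' n g := by
  cases n with
  | zero =>
    rw [HH_zero S S' hz]
    exact zero_mem _
  | succ n => exact mem_TX_iff.mpr ⟨HH_mem S S' hz, PP_HH S S' z⟩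

theorem PiPi_DD_of_mem_TXprev {n : ℕ} {g : Γ} {w : V ⊗[k] W} (hw : w ∈ TXprev C C' n g) :
    PiPi S S' (DD C C' w) = 0 := by
  cases n with
  | zero =>
    have : w = 0 := (Submodule.mem_bot k).mp hw
    rw [this, map_zero, map_zero]
  | succ n =>
    have h := PiPi_DD_PP S S' w
    rwa [(mem_TX_iff.mp hw).2] at h

/-- The cohomology of the tensor product is its harmonic part. -/
def tEquiv (n : ℕ) (g : Γ) : HT C C' n g ≃ₗ[k] ↥((TX C C' n g).map (PiPi S S')) :=
  HQ.equivImage (PiPi S S')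
    (fun z hz hd => by
      obtain ⟨hz1, hz2⟩ := mem_TX_iff.mp hz
      refine ⟨HH S S' z, HH_mem_TXprev S S' hz1, ?_⟩
      have h := key S S' z
      rw [hz2, hd, map_zero, zero_add] at h
      rw [h]; abel)
    (fun w hw => PiPi_DD_of_mem_TXprev S S' hw)
    (fun z hz => ⟨mem_TX_iff.mpr ⟨PiPi_mem S S' (mem_TX_iff.mp hz).1, PP_PiPi S S' z⟩,
      DD_PiPi S S' z, PiPi_PiPi S S' z⟩)

/-! ### The Künneth formula for dimensions -/

/-- The harmonic part of a piece. -/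
def EE (p : ℕ) (g : Γ) : Submodule k V := (C.X p g).map (e S)

theorem mem_EE_iff {p : ℕ} {g : Γ} {x : V} : x ∈ EE S p g ↔ x ∈ C.F p g ∧ e S x = x := by
  constructor
  · rintro ⟨a, ha, rfl⟩
    exact ⟨e_mem S (C.X_le p g ha), e_e S a⟩
  · rintro ⟨hx, hex⟩
    refine ⟨C.ρ x, ⟨x, hx, rfl⟩, ?_⟩
    rw [e_ρ, hex]

theorem finrank_EE (p : ℕ) (g : Γ) :
    Module.finrank k ↥(EE S p g) = Module.finrank k (C.H p g) :=
  (hEquiv S p g).finrank_eq.symm

theorem image_eq_iSup (n : ℕ) (g : Γ) :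
    (TX C C' n g).map (PiPi S S') =
      ⨆ i : ↥(Finset.HasAntidiagonal.antidiagonal n),
        Submodule.map₂ (TensorProduct.mk k V W) (EE S i.1.1 g) (EE S' i.1.2 g) := by
  apply le_antisymm
  · rintro _ ⟨z, hz, rfl⟩
    obtain ⟨hz1, -⟩ := mem_TX_iff.mp hz
    refine map_Tn_mem (PiPi S S') _ ?_ hz1
    intro p q a b hpq ha hb
    rw [PiPi_tmul]
    refine Submodule.mem_iSup_of_mem ⟨(p, q), Finset.HasAntidiagonal.mem_antidiagonal.mpr hpq⟩ ?_
    exact Submodule.apply_mem_map₂ _ (mem_EE_iff S |>.mpr ⟨e_mem S ha, e_e S a⟩)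
      (mem_EE_iff S' |>.mpr ⟨e_mem S' hb, e_e S' b⟩)
  · refine iSup_le ?_
    rintro ⟨⟨p, q⟩, hpq⟩
    rw [Submodule.map₂_le]
    rintro x ⟨a, ha, rfl⟩ y ⟨b, hb, rfl⟩
    refine ⟨a ⊗ₜ[k] b, mem_TX_iff.mpr ⟨tmul_mem_Tn (Finset.HasAntidiagonal.mem_antidiagonal.mp hpq)
      (C.X_le p g ha) (C'.X_le q g hb), ?_⟩, rfl⟩
    rw [PP_tmul, (C.mem_X_iff.mp ha).2, (C'.mem_X_iff.mp hb).2]

theorem finite_HT (n : ℕ) (g : Γ) (hfin : ∀ p, Module.Finite k (C.H p g))
    (hfin' : ∀ q, Module.Finite k (C'.H q g)) : Module.Finite k (HT C C' n g) := by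
  classical
  obtain ⟨S⟩ := C.nonempty_split
  obtain ⟨S'⟩ := C'.nonempty_split
  have hE : ∀ p, Module.Finite k ↥(EE S p g) := fun p =>
    haveI := hfin p
    Module.Finite.equiv (hEquiv S p g)
  have hE' : ∀ q, Module.Finite k ↥(EE S' q g) := fun q =>
    haveI := hfin' q
    Module.Finite.equiv (hEquiv S' q g)
  have hG : ∀ i : ↥(Finset.HasAntidiagonal.antidiagonal n), Module.Finite k
      ↥(Submodule.map₂ (TensorProduct.mk k V W) (EE S i.1.1 g) (EE S' i.1.2 g)) := fun i =>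
    haveI := hE i.1.1
    haveI := hE' i.1.2
    finite_map₂ _ _
  have h1 : Module.Finite k ↥((TX C C' n g).map (PiPi S S')) := by
    rw [image_eq_iSup]
    exact Submodule.finite_iSup _
  exact Module.Finite.equiv (tEquiv S S' n g).symm

/-- The Künneth formula. -/
theorem finrank_HT (n : ℕ) (g : Γ) (hfin : ∀ p, Module.Finite k (C.H p g))
    (hfin' : ∀ q, Module.Finite k (C'.H q g)) :
    Module.finrank k (HT C C' n g) =
      ∑ i ∈ Finset.range (n + 1),
        Module.finrank k (C.H i g) * Module.finrank k (C'.H (n - i) g) := by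
  classical
  obtain ⟨S⟩ := C.nonempty_split
  obtain ⟨S'⟩ := C'.nonempty_split
  rw [(tEquiv S S' n g).finrank_eq, image_eq_iSup]
  have hE : ∀ p, Module.Finite k ↥(EE S p g) := fun p =>
    haveI := hfin p
    Module.Finite.equiv (hEquiv S p g)
  have hE' : ∀ q, Module.Finite k ↥(EE S' q g) := fun q =>
    haveI := hfin' q
    Module.Finite.equiv (hEquiv S' q g)
  have hG : ∀ i : ↥(Finset.HasAntidiagonal.antidiagonal n), Module.Finite k
      ↥(Submodule.map₂ (TensorProduct.mk k V W) (EE S i.1.1 g) (EE S' i.1.2 g)) := fun i =>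
    haveI := hE i.1.1
    haveI := hE' i.1.2
    finite_map₂ _ _
  let θ : ↥(Finset.HasAntidiagonal.antidiagonal n) → (V ⊗[k] W →ₗ[k] V ⊗[k] W) := fun i =>
    TensorProduct.map (e S ∘ₗ proj C.int (i.1.1, g)) (e S' ∘ₗ proj C'.int (i.1.2, g))
  rw [finrank_iSup_of_orth _ θ]
  · rw [Finset.sum_coe_sort (Finset.HasAntidiagonal.antidiagonal n) (fun i =>
      Module.finrank k ↥(Submodule.map₂ (TensorProduct.mk k V W) (EE S i.1 g) (EE S' i.2 g)))]
    rw [← Finset.Nat.sum_antidiagonal_eq_sum_range_succ (fun i j =>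
      Module.finrank k (C.H i g) * Module.finrank k (C'.H j g))]
    refine Finset.sum_congr rfl fun i _ => ?_
    rw [finrank_map₂, finrank_EE, finrank_EE]
  · intro i
    show Submodule.map₂ (TensorProduct.mk k V W) (EE S i.1.1 g) (EE S' i.1.2 g) ≤
      LinearMap.eqLocus (θ i) LinearMap.id
    rw [Submodule.map₂_le]
    intro x hx y hy
    obtain ⟨hx1, hx2⟩ := (mem_EE_iff S).mp hx
    obtain ⟨hy1, hy2⟩ := (mem_EE_iff S').mp hy
    show θ i (x ⊗ₜ[k] y) = x ⊗ₜ[k] y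
    show e S (proj C.int (i.1.1, g) x) ⊗ₜ[k] e S' (proj C'.int (i.1.2, g) y) = _
    rw [proj_same C.int (i := (i.1.1, g)) hx1, proj_same C'.int (i := (i.1.2, g)) hy1, hx2, hy2]
  · intro i j hji
    show Submodule.map₂ (TensorProduct.mk k V W) (EE S j.1.1 g) (EE S' j.1.2 g) ≤
      LinearMap.ker (θ i)
    rw [Submodule.map₂_le]
    intro x hx y hy
    obtain ⟨hx1, hx2⟩ := (mem_EE_iff S).mp hx
    rw [LinearMap.mem_ker]
    show e S (proj C.int (i.1.1, g) x) ⊗ₜ[k] e S' (proj C'.int (i.1.2, g) y) = 0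
    have hne : j.1.1 ≠ i.1.1 := by
      intro h
      apply hji
      have h1 := Finset.HasAntidiagonal.mem_antidiagonal.mp i.2
      have h2 := Finset.HasAntidiagonal.mem_antidiagonal.mp j.2
      apply Subtype.ext
      apply Prod.ext h
      omega
    have hne' : ((j.1.1, g) : ℕ × Γ) ≠ (i.1.1, g) := fun h => hne (Prod.mk.inj h).1
    rw [proj_ne C.int hne' (x := x) hx1, map_zero, zero_tmul]

end Groth.Agent.Lib.R2H7.KunLA3
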