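/-
Linear algebra for the Künneth formula, part 4: the Mayer–Vietoris count for the sum of two
subcomplexes whose intersection has vanishing cohomology maps into both, and the resulting formula
for the cohomology of `V' ⊗ W + V ⊗ W'` inside the tensor product of two resolutions.
-/
import Mathlib
import Groth.Agent.Lib.R2H7KunLA3

set_option autoImplicit false
open DirectSum TensorProduct

noncomputable section

namespace Groth.Agent.Lib.R2H7.KunLA4

open Groth.Agent.Lib.R2H7.KunLA1 Groth.Agent.Lib.R2H7.KunLA2 Groth.Agent.Lib.R2H7.KunLA3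
  GCpx GCpxS

universe u v w

variable {k : Type u} [Field k]

/-! ### The abstract Mayer–Vietoris count -/

section MV

variable {Y : Type v} [AddCommGroup Y] [Module k Y] (D : Y →ₗ[k] Y) (hDD : ∀ y, D (D y) = 0)
  (A1m A10 A11 A2m A20 A21 : Submodule k Y) (P1 : Y →ₗ[k] Y)
  (h1m : ∀ x ∈ A1m, D x ∈ A10) (h10 : ∀ x ∈ A10, D x ∈ A11)
  (h2m : ∀ x ∈ A2m, D x ∈ A20) (h20 : ∀ x ∈ A20, D x ∈ A21)
  (hP : ∀ z ∈ A10 ⊔ A20, P1 z ∈ A10 ∧ z - P1 z ∈ A20)
  (hα0 : ∀ c ∈ A10 ⊓ A20, D c = 0 → c ∈ A1m.map D ∧ c ∈ A2m.map D)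
  (hα1 : ∀ c ∈ A11 ⊓ A21, D c = 0 → c ∈ A10.map D ∧ c ∈ A20.map D)

include hDD h10 h20 hP in
theorem gamma_hZ : ∀ z ∈ A10 ⊔ A20, D z = 0 →
    (D ∘ₗ P1) z ∈ A11 ⊓ A21 ∧ D ((D ∘ₗ P1) z) = 0 := by
  intro z hz hd
  obtain ⟨hp1, hp2⟩ := hP z hz
  refine ⟨⟨h10 _ hp1, ?_⟩, hDD _⟩
  have : (D ∘ₗ P1) z = -D (z - P1 z) := by
    rw [map_sub, hd, zero_sub, neg_neg]; rfl
  rw [this]
  exact neg_mem (h20 _ hp2)

include hDD h1m h2m hP in
theorem gamma_hB : ∀ w ∈ A1m ⊔ A2m, (D ∘ₗ P1) (D w) ∈ (A10 ⊓ A20).map D := by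
  intro w hw
  obtain ⟨w1, hw1, w2, hw2, rfl⟩ := Submodule.mem_sup.mp hw
  have hu : D (w1 + w2) ∈ A10 ⊔ A20 := by
    rw [map_add]
    exact Submodule.add_mem_sup (h1m _ hw1) (h2m _ hw2)
  obtain ⟨hp1, hp2⟩ := hP _ hu
  refine ⟨P1 (D (w1 + w2)) - D w1, ⟨sub_mem hp1 (h1m _ hw1), ?_⟩, ?_⟩
  · have : P1 (D (w1 + w2)) - D w1 = D w2 - (D (w1 + w2) - P1 (D (w1 + w2))) := by
      rw [map_add]; abel
    rw [this]
    exact sub_mem (h2m _ hw2) hp2
  · rw [map_sub, hDD, sub_zero]; rfl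

/-- The connecting map. -/
def gamma : HQ D (A1m ⊔ A2m) (A10 ⊔ A20) →ₗ[k] HQ D (A10 ⊓ A20) (A11 ⊓ A21) :=
  HQ.map (D ∘ₗ P1) (gamma_hZ D hDD A10 A11 A20 A21 P1 h10 h20 hP)
    (gamma_hB D hDD A1m A10 A2m A20 P1 h1m h2m hP)

/-- The sum map. -/
def beta : (HQ D A1m A10 × HQ D A2m A20) →ₗ[k] HQ D (A1m ⊔ A2m) (A10 ⊔ A20) :=
  LinearMap.coprod
    (HQ.map LinearMap.id (fun z hz hd => ⟨Submodule.mem_sup_left hz, hd⟩)
      (fun w hw => ⟨w, Submodule.mem_sup_left hw, rfl⟩))
    (HQ.map LinearMap.id (fun z hz hd => ⟨Submodule.mem_sup_right hz, hd⟩)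
      (fun w hw => ⟨w, Submodule.mem_sup_right hw, rfl⟩))

include hα1 in
theorem gamma_surjective :
    Function.Surjective (gamma D hDD A1m A10 A11 A2m A20 A21 P1 h1m h10 h2m h20 hP) := by
  intro ξ
  obtain ⟨c, hc, hdc, rfl⟩ := HQ.exists_rep ξ
  obtain ⟨⟨x1, hx1, hx1c⟩, ⟨x2, hx2, hx2c⟩⟩ := hα1 c hc hdc
  have hz : x1 - x2 ∈ A10 ⊔ A20 := Submodule.sub_mem_sup hx1 hx2
  have hdz : D (x1 - x2) = 0 := by rw [map_sub, hx1c, hx2c, sub_self]
  refine ⟨HQ.mk D _ _ (x1 - x2) hz hdz, ?_⟩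
  unfold gamma
  rw [HQ.map_mk]
  obtain ⟨hp1, hp2⟩ := hP _ hz
  rw [← sub_eq_zero]
  unfold HQ.mk
  rw [← Submodule.Quotient.mk_sub, Submodule.Quotient.mk_eq_zero]
  refine ⟨P1 (x1 - x2) - x1, ⟨sub_mem hp1 hx1, ?_⟩, ?_⟩
  · have : P1 (x1 - x2) - x1 = -x2 - ((x1 - x2) - P1 (x1 - x2)) := by abel
    rw [this]
    exact sub_mem (neg_mem hx2) hp2
  · show D (P1 (x1 - x2) - x1) = D (P1 (x1 - x2)) - c
    rw [map_sub, hx1c]

include hDD h1m h2m hα0 in
theorem beta_injective : Function.Injective (beta D A1m A10 A2m A20) := by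
  rw [injective_iff_map_eq_zero]
  rintro ⟨ξ1, ξ2⟩ h
  obtain ⟨z1, hz1, hd1, rfl⟩ := HQ.exists_rep ξ1
  obtain ⟨z2, hz2, hd2, rfl⟩ := HQ.exists_rep ξ2
  have h' : HQ.mk D (A1m ⊔ A2m) (A10 ⊔ A20) (z1 + z2)
      (Submodule.add_mem_sup hz1 hz2) (by rw [map_add, hd1, hd2, add_zero]) = 0 := h
  rw [HQ.mk_eq_zero] at h'
  obtain ⟨w, hw, hwz⟩ := h'
  obtain ⟨w1, hw1, w2, hw2, rfl⟩ := Submodule.mem_sup.mp hw
  rw [map_add] at hwz
  have hu1 : z1 - D w1 ∈ A10 := sub_mem hz1 (h1m _ hw1)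
  have hu2 : z1 - D w1 ∈ A20 := by
    have : z1 - D w1 = D w2 - z2 := by
      calc z1 - D w1 = (z1 + z2) - D w1 - z2 := by abel
        _ = (D w1 + D w2) - D w1 - z2 := by rw [hwz]
        _ = D w2 - z2 := by abel
    rw [this]
    exact sub_mem (h2m _ hw2) hz2
  have hdu : D (z1 - D w1) = 0 := by rw [map_sub, hd1, hDD, sub_zero]
  obtain ⟨⟨v1, hv1, hv1u⟩, ⟨v2, hv2, hv2u⟩⟩ := hα0 _ ⟨hu1, hu2⟩ hdu
  apply Prod.ext
  · show HQ.mk D A1m A10 z1 hz1 hd1 = 0
    rw [HQ.mk_eq_zero]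
    refine ⟨w1 + v1, add_mem hw1 hv1, ?_⟩
    rw [map_add, hv1u]; abel
  · show HQ.mk D A2m A20 z2 hz2 hd2 = 0
    rw [HQ.mk_eq_zero]
    refine ⟨w2 - v2, sub_mem hw2 hv2, ?_⟩
    rw [map_sub, hv2u]
    calc D w2 - (z1 - D w1) = (D w1 + D w2) - z1 := by abel
      _ = (z1 + z2) - z1 := by rw [hwz]
      _ = z2 := by abel

include hP in
theorem gamma_comp_beta :
    (gamma D hDD A1m A10 A11 A2m A20 A21 P1 h1m h10 h2m h20 hP) ∘ₗ (beta D A1m A10 A2m A20) = 0 := by
  apply LinearMap.ext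
  rintro ⟨ξ1, ξ2⟩
  obtain ⟨z1, hz1, hd1, rfl⟩ := HQ.exists_rep ξ1
  obtain ⟨z2, hz2, hd2, rfl⟩ := HQ.exists_rep ξ2
  have e1 : gamma D hDD A1m A10 A11 A2m A20 A21 P1 h1m h10 h2m h20 hP
      (HQ.mk D (A1m ⊔ A2m) (A10 ⊔ A20) z1 (Submodule.mem_sup_left hz1) hd1) = 0 := by
    unfold gamma
    rw [HQ.map_mk, HQ.mk_eq_zero]
    obtain ⟨hp1, hp2⟩ := hP z1 (Submodule.mem_sup_left hz1)
    refine ⟨P1 z1 - z1, ⟨sub_mem hp1 hz1, ?_⟩, ?_⟩
    · have : P1 z1 - z1 = -(z1 - P1 z1) := by abel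
      rw [this]; exact neg_mem hp2
    · rw [map_sub, hd1, sub_zero]; rfl
  have e2 : gamma D hDD A1m A10 A11 A2m A20 A21 P1 h1m h10 h2m h20 hP
      (HQ.mk D (A1m ⊔ A2m) (A10 ⊔ A20) z2 (Submodule.mem_sup_right hz2) hd2) = 0 := by
    unfold gamma
    rw [HQ.map_mk, HQ.mk_eq_zero]
    obtain ⟨hp1, hp2⟩ := hP z2 (Submodule.mem_sup_right hz2)
    refine ⟨P1 z2, ⟨hp1, ?_⟩, rfl⟩
    have : P1 z2 = z2 - (z2 - P1 z2) := by abel
    rw [this]; exact sub_mem hz2 hp2
  show gamma D hDD A1m A10 A11 A2m A20 A21 P1 h1m h10 h2m h20 hP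
      (HQ.mk D (A1m ⊔ A2m) (A10 ⊔ A20) z1 (Submodule.mem_sup_left hz1) hd1 +
        HQ.mk D (A1m ⊔ A2m) (A10 ⊔ A20) z2 (Submodule.mem_sup_right hz2) hd2) = 0
  rw [map_add, e1, e2, add_zero]

include hP in
theorem range_beta_eq_ker_gamma :
    LinearMap.range (beta D A1m A10 A2m A20) =
      LinearMap.ker (gamma D hDD A1m A10 A11 A2m A20 A21 P1 h1m h10 h2m h20 hP) := by
  apply le_antisymm
  · exact LinearMap.range_le_ker_iff.mpr
      (gamma_comp_beta D hDD A1m A10 A11 A2m A20 A21 P1 h1m h10 h2m h20 hP)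
  · intro ξ hξ
    obtain ⟨z, hz, hd, rfl⟩ := HQ.exists_rep ξ
    rw [LinearMap.mem_ker] at hξ
    unfold gamma at hξ
    rw [HQ.map_mk, HQ.mk_eq_zero] at hξ
    obtain ⟨c, hc, hcz⟩ := hξ
    obtain ⟨hp1, hp2⟩ := hP z hz
    have hz1 : P1 z - c ∈ A10 := sub_mem hp1 hc.1
    have hd1 : D (P1 z - c) = 0 := by
      rw [map_sub, hcz]
      exact sub_self _
    have hz2 : z - (P1 z - c) ∈ A20 := by
      have : z - (P1 z - c) = (z - P1 z) + c := by abel
      rw [this]; exact add_mem hp2 hc.2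
    have hd2 : D (z - (P1 z - c)) = 0 := by rw [map_sub, hd, hd1, sub_zero]
    refine ⟨(HQ.mk D A1m A10 _ hz1 hd1, HQ.mk D A2m A20 _ hz2 hd2), ?_⟩
    show HQ.mk D (A1m ⊔ A2m) (A10 ⊔ A20) (P1 z - c) (Submodule.mem_sup_left hz1) hd1 +
      HQ.mk D (A1m ⊔ A2m) (A10 ⊔ A20) (z - (P1 z - c)) (Submodule.mem_sup_right hz2) hd2 = _
    rw [← HQ.mk_add]
    congr 1
    abel

include hDD h1m h10 h2m h20 hP hα0 hα1 in
/-- The Mayer–Vietoris count. -/
theorem finrank_MV [Module.Finite k (HQ D A1m A10)] [Module.Finite k (HQ D A2m A20)]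
    [Module.Finite k (HQ D (A10 ⊓ A20) (A11 ⊓ A21))] :
    Module.finrank k (HQ D (A1m ⊔ A2m) (A10 ⊔ A20)) =
      Module.finrank k (HQ D A1m A10) + Module.finrank k (HQ D A2m A20) +
        Module.finrank k (HQ D (A10 ⊓ A20) (A11 ⊓ A21)) := by
  set γ := gamma D hDD A1m A10 A11 A2m A20 A21 P1 h1m h10 h2m h20 hP with hγ
  set β := beta D A1m A10 A2m A20 with hβ
  have hsurj : Function.Surjective γ :=
    gamma_surjective D hDD A1m A10 A11 A2m A20 A21 P1 h1m h10 h2m h20 hP hα1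
  have hinj : Function.Injective β := beta_injective D hDD A1m A10 A2m A20 h1m h2m hα0
  have hker : LinearMap.range β = LinearMap.ker γ :=
    range_beta_eq_ker_gamma D hDD A1m A10 A11 A2m A20 A21 P1 h1m h10 h2m h20 hP
  have e1 : (HQ D A1m A10 × HQ D A2m A20) ≃ₗ[k] ↥(LinearMap.ker γ) :=
    (LinearEquiv.ofInjective β hinj).trans (LinearEquiv.ofEq _ _ hker)
  haveI : Module.Finite k ↥(LinearMap.ker γ) := Module.Finite.equiv e1
  haveI : Module.Finite k (HQ D (A1m ⊔ A2m) (A10 ⊔ A20) ⧸ LinearMap.ker γ) :=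
    Module.Finite.equiv (LinearMap.quotKerEquivOfSurjective γ hsurj).symm
  haveI : Module.Finite k (HQ D (A1m ⊔ A2m) (A10 ⊔ A20)) :=
    Module.Finite.of_submodule_quotient (LinearMap.ker γ)
  have h := LinearMap.finrank_range_add_finrank_ker γ
  rw [LinearMap.range_eq_top.mpr hsurj, finrank_top, ← e1.finrank_eq, Module.finrank_prod] at h
  rw [← h]
  ring

end MV

/-! ### The tensor product of two resolutions with subcomplexes -/

section main

variable {V : Type v} [AddCommGroup V] [Module k V] {W : Type w} [AddCommGroup W] [Module k W]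
  {Γ : Type} [DecidableEq Γ] (C : GCpx k V Γ) (C' : GCpx k W Γ)

/-- Exactness in positive degrees. -/
def IsExact : Prop := ∀ p g, ∀ x ∈ C.F (p + 1) g, C.d x = 0 → ∃ y ∈ C.F p g, C.d y = x

/-- The subcomplex has no cohomology in degree zero. -/
def IsDeep : Prop := ∀ g, ∀ x ∈ C.X 0 g, C.d x = 0 → x = 0

variable {C C'}

theorem e_full_eq_zero (hex : IsExact C) (S : C.full.Split) {p : ℕ} {g : Γ} {a : V}
    (ha : a ∈ C.F (p + 1) g) : e S a = 0 := by
  have h1 : e S a ∈ C.F (p + 1) g := e_mem S ha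
  obtain ⟨x, hx, hxe⟩ := hex p g _ h1 (d_e S a)
  have h2 : e S (C.full.d x) = 0 :=
    e_d_of_mem_Xprev S (p := p + 1) (g := g) (by
      show x ∈ C.full.X p g
      rw [C.full_X]; exact hx)
  rw [← e_e, ← hxe]
  exact h2

theorem e_eq_zero_of_deep (hdp : IsDeep C) (S : C.Split) {g : Γ} {a : V} (ha : a ∈ C.F 0 g) :
    e S a = 0 :=
  hdp g _ (e_mem_X S ha) (d_e S a)

theorem subsingleton_H_full (hex : IsExact C) (p : ℕ) (g : Γ) :
    Subsingleton (C.full.H (p + 1) g) := by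
  refine ⟨fun ξ η => ?_⟩
  have key : ∀ ξ : C.full.H (p + 1) g, ξ = 0 := by
    intro ξ
    obtain ⟨z, hz, hd, rfl⟩ := HQ.exists_rep ξ
    rw [HQ.mk_eq_zero]
    rw [C.full_X] at hz
    obtain ⟨y, hy, hyz⟩ := hex p g z hz hd
    refine ⟨y, ?_, hyz⟩
    show y ∈ C.full.X p g
    rw [C.full_X]; exact hy
  rw [key ξ, key η]

theorem PP_left_PP (z : V ⊗[k] W) : PP C C'.full (PP C C' z) = PP C C' z := by
  induction z using TensorProduct.induction_on with
  | zero => simp only [map_zero]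
  | tmul x y => rw [PP_tmul, PP_tmul, C.ρ_idem]; rfl
  | add x y hx hy => simp only [map_add, hx, hy]

theorem PP_right_PP (z : V ⊗[k] W) : PP C.full C' (PP C C' z) = PP C C' z := by
  induction z using TensorProduct.induction_on with
  | zero => simp only [map_zero]
  | tmul x y => rw [PP_tmul, PP_tmul, C'.ρ_idem]; rfl
  | add x y hx hy => simp only [map_add, hx, hy]

theorem TX_le_left (n : ℕ) (g : Γ) : TX C C' n g ≤ TX C C'.full n g := by
  intro z hz
  obtain ⟨h1, h2⟩ := mem_TX_iff.mp hz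
  refine mem_TX_iff.mpr ⟨h1, ?_⟩
  rw [← h2]
  exact PP_left_PP z

theorem TX_le_right (n : ℕ) (g : Γ) : TX C C' n g ≤ TX C.full C' n g := by
  intro z hz
  obtain ⟨h1, h2⟩ := mem_TX_iff.mp hz
  refine mem_TX_iff.mpr ⟨h1, ?_⟩
  rw [← h2]
  exact PP_right_PP z

theorem TXprev_le_left (n : ℕ) (g : Γ) : TXprev C C' n g ≤ TXprev C C'.full n g := by
  cases n with
  | zero => exact le_refl _
  | succ n => exact TX_le_left n g

theorem TXprev_le_right (n : ℕ) (g : Γ) : TXprev C C' n g ≤ TXprev C.full C' n g := by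
  cases n with
  | zero => exact le_refl _
  | succ n => exact TX_le_right n g

theorem PP_left_right (z : V ⊗[k] W) :
    PP C C'.full (PP C.full C' z) = PP C C' z := by
  induction z using TensorProduct.induction_on with
  | zero => simp only [map_zero]
  | tmul x y => rfl
  | add x y hx hy => simp only [map_add, hx, hy]

theorem PP_right_left (z : V ⊗[k] W) :
    PP C.full C' (PP C C'.full z) = PP C C' z := by
  induction z using TensorProduct.induction_on with
  | zero => simp only [map_zero]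
  | tmul x y => rfl
  | add x y hx hy => simp only [map_add, hx, hy]

theorem TX_inf (n : ℕ) (g : Γ) : TX C C'.full n g ⊓ TX C.full C' n g = TX C C' n g := by
  apply le_antisymm
  · rintro z ⟨h1, h2⟩
    obtain ⟨h1a, h1b⟩ := mem_TX_iff.mp h1
    obtain ⟨-, h2b⟩ := mem_TX_iff.mp h2
    refine mem_TX_iff.mpr ⟨h1a, ?_⟩
    rw [← PP_left_right, h2b, h1b]
  · exact le_inf (TX_le_left n g) (TX_le_right n g)

theorem hP_main (n : ℕ) (g : Γ) : ∀ z ∈ TX C C'.full n g ⊔ TX C.full C' n g,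
    PP C C'.full z ∈ TX C C'.full n g ∧ z - PP C C'.full z ∈ TX C.full C' n g := by
  intro z hz
  obtain ⟨a, ha, b, hb, rfl⟩ := Submodule.mem_sup.mp hz
  obtain ⟨ha1, ha2⟩ := mem_TX_iff.mp ha
  obtain ⟨hb1, hb2⟩ := mem_TX_iff.mp hb
  have hT : a + b ∈ Tn C C' n g := add_mem ha1 hb1
  refine ⟨mem_TX_iff.mpr ⟨PP_mem (C := C) (C' := C'.full) hT, PP_PP _ _ _⟩, ?_⟩
  have : a + b - PP C C'.full (a + b) = b - PP C C'.full b := by
    rw [map_add, ha2]; abel
  rw [this]
  refine mem_TX_iff.mpr ⟨sub_mem hb1 (PP_mem (C := C) (C' := C'.full) hb1), ?_⟩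
  rw [map_sub, hb2, PP_right_left, ← hb2, PP_left_right, hb2]

theorem mem_sup_iff {n : ℕ} {g : Γ} {z : V ⊗[k] W} :
    z ∈ TX C C'.full n g ⊔ TX C.full C' n g ↔
      z ∈ Tn C C' n g ∧
        TensorProduct.map (LinearMap.id - C.ρ) (LinearMap.id - C'.ρ) z = 0 := by
  have hQ : ∀ z : V ⊗[k] W, TensorProduct.map (LinearMap.id - C.ρ) (LinearMap.id - C'.ρ) z =
      z - PP C C'.full z - PP C.full C' z + PP C C' z := by
    intro z
    induction z using TensorProduct.induction_on with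
    | zero => simp only [map_zero, sub_zero, add_zero]
    | tmul x y =>
      rw [PP_tmul, PP_tmul, PP_tmul, TensorProduct.map_tmul, LinearMap.sub_apply,
        LinearMap.sub_apply, LinearMap.id_apply, LinearMap.id_apply, sub_tmul, tmul_sub,
        tmul_sub]
      show _ = x ⊗ₜ[k] y - C.ρ x ⊗ₜ[k] y - x ⊗ₜ[k] C'.ρ y + C.ρ x ⊗ₜ[k] C'.ρ y
      abel
    | add x y hx hy =>
      simp only [map_add, hx, hy]
      abel
  constructor
  · intro hz
    obtain ⟨a, ha, b, hb, rfl⟩ := Submodule.mem_sup.mp hz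
    obtain ⟨ha1, ha2⟩ := mem_TX_iff.mp ha
    obtain ⟨hb1, hb2⟩ := mem_TX_iff.mp hb
    refine ⟨add_mem ha1 hb1, ?_⟩
    rw [hQ, map_add, map_add, map_add, ha2, hb2]
    have h1 : PP C C' a = PP C.full C' a := by
      rw [← PP_right_left, ha2]
    have h2 : PP C C' b = PP C C'.full b := by
      rw [← PP_left_right, hb2]
    rw [h1, h2]
    abel
  · rintro ⟨hz1, hz2⟩
    rw [hQ] at hz2
    have : z = PP C C'.full z + PP C.full C' (z - PP C C'.full z) := by
      rw [map_sub, PP_right_left]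
      have h := hz2
      rw [sub_add, sub_sub, sub_eq_zero] at h
      exact h
    rw [this]
    exact Submodule.add_mem_sup
      (mem_TX_iff.mpr ⟨PP_mem (C := C) (C' := C'.full) hz1, PP_PP _ _ _⟩)
      (mem_TX_iff.mpr ⟨PP_mem (C := C.full) (C' := C')
        (sub_mem hz1 (PP_mem (C := C) (C' := C'.full) hz1)), PP_PP _ _ _⟩)

theorem DD_full_left (z : V ⊗[k] W) : DD C C'.full z = DD C C' z := rfl

theorem DD_full_right (z : V ⊗[k] W) : DD C.full C' z = DD C C' z := rfl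

/-- Cocycles of the intersection bound in both subcomplexes. -/
theorem alpha (hex : IsExact C) (hex' : IsExact C') (hdp : IsDeep C) (hdp' : IsDeep C')
    (n : ℕ) (g : Γ) : ∀ c ∈ TX C C' n g, DD C C' c = 0 →
      c ∈ (TXprev C C'.full n g).map (DD C C') ∧ c ∈ (TXprev C.full C' n g).map (DD C C') := by
  intro c hc hd
  obtain ⟨S⟩ := C.nonempty_split
  obtain ⟨S'⟩ := C'.nonempty_split
  obtain ⟨hc1, hc2⟩ := mem_TX_iff.mp hc
  have h := key S S' c
  rw [hc2, hd, map_zero, zero_add] at h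
  have hc3 : c = PiPi S S' c + DD C C' (HH S S' c) := by rw [h]; abel
  have hH : HH S S' c ∈ TXprev C C' n g := HH_mem_TXprev S S' hc1
  have hP1 : PiPi S S' c ∈ (TXprev C C'.full n g).map (DD C C') := by
    refine map_Tn_mem (PiPi S S') _ ?_ hc1
    intro p q a b hpq ha hb
    rw [PiPi_tmul]
    cases q with
    | zero =>
      rw [e_eq_zero_of_deep hdp' S' hb, tmul_zero]
      exact zero_mem _
    | succ q =>
      obtain ⟨y, hy, hye⟩ := hex' q g _ (e_mem S' hb) (d_e S' b)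
      have hn : n = (p + q) + 1 := by omega
      subst hn
      refine ⟨C.σ (e S a) ⊗ₜ[k] y, ?_, ?_⟩
      · refine mem_TX_iff.mpr ⟨tmul_mem_Tn rfl (C.σ_mem' (e_mem S ha)) hy, ?_⟩
        rw [PP_tmul, ← C.σ_ρ, ρ_e]
        rfl
      · rw [DD_tmul, C.σ_σ, hye, ← neg_neg (C.d (C.σ (e S a))), ← C.σ_d, d_e, map_zero, neg_zero,
          zero_tmul, zero_add]
  have hP2 : PiPi S S' c ∈ (TXprev C.full C' n g).map (DD C C') := by
    refine map_Tn_mem (PiPi S S') _ ?_ hc1
    intro p q a b hpq ha hb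
    rw [PiPi_tmul]
    cases p with
    | zero =>
      rw [e_eq_zero_of_deep hdp S ha, zero_tmul]
      exact zero_mem _
    | succ p =>
      obtain ⟨x, hx, hxe⟩ := hex p g _ (e_mem S ha) (d_e S a)
      have hn : n = (p + q) + 1 := by omega
      subst hn
      refine ⟨x ⊗ₜ[k] e S' b, ?_, ?_⟩
      · refine mem_TX_iff.mpr ⟨tmul_mem_Tn rfl hx (e_mem S' hb), ?_⟩
        rw [PP_tmul, ρ_e]
        rfl
      · rw [DD_tmul, hxe, d_e, tmul_zero, add_zero]
  constructor
  · rw [hc3]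
    exact add_mem hP1 ⟨_, TXprev_le_left n g hH, rfl⟩
  · rw [hc3]
    exact add_mem hP2 ⟨_, TXprev_le_right n g hH, rfl⟩

theorem TX_full_full (n : ℕ) (g : Γ) : TX C.full C'.full n g = Tn C C' n g := by
  show (Tn C C' n g).map (TensorProduct.map LinearMap.id LinearMap.id) = _
  rw [TensorProduct.map_id, Submodule.map_id]

/-- The tensor product of two resolutions is exact in positive degrees. -/
theorem exact_succ (hex : IsExact C) (hex' : IsExact C') (n : ℕ) (g : Γ) :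
    ∀ z ∈ Tn C C' (n + 1) g, DD C C' z = 0 → ∃ w ∈ Tn C C' n g, DD C C' w = z := by
  intro z hz hd
  obtain ⟨S⟩ := C.full.nonempty_split
  obtain ⟨S'⟩ := C'.full.nonempty_split
  have h := key S S' z
  have hPP : PP C.full C'.full z = z := by
    show TensorProduct.map LinearMap.id LinearMap.id z = z
    rw [TensorProduct.map_id]; rfl
  rw [hPP] at h
  have hd' : DD C.full C'.full z = 0 := hd
  rw [hd', map_zero, zero_add] at h
  have hPi : PiPi S S' z = 0 := by
    have := map_Tn_mem (C := C.full) (C' := C'.full) (PiPi S S') ⊥ ?_ hz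
    · exact (Submodule.mem_bot k).mp this
    intro p q a b hpq ha hb
    rw [PiPi_tmul]
    cases p with
    | zero =>
      have hq : q = n + 1 := by omega
      subst hq
      rw [e_full_eq_zero hex' S' hb, tmul_zero]
      exact zero_mem _
    | succ p =>
      rw [e_full_eq_zero hex S ha, zero_tmul]
      exact zero_mem _
  rw [hPi, sub_zero] at h
  exact ⟨HH S S' z, HH_mem (C := C.full) (C' := C'.full) S S' hz, h⟩

/-- The cocycles of total degree zero. -/
theorem exact_zero (g : Γ) : ∀ z ∈ Tn C C' 0 g, DD C C' z = 0 →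
    z ∈ Submodule.map₂ (TensorProduct.mk k V W) (C.F 0 g ⊓ LinearMap.ker C.d)
      (C'.F 0 g ⊓ LinearMap.ker C'.d) := by
  intro z hz hd
  obtain ⟨S⟩ := C.full.nonempty_split
  obtain ⟨S'⟩ := C'.full.nonempty_split
  have h := key S S' z
  have hPP : PP C.full C'.full z = z := by
    show TensorProduct.map LinearMap.id LinearMap.id z = z
    rw [TensorProduct.map_id]; rfl
  rw [hPP] at h
  have hd' : DD C.full C'.full z = 0 := hd
  rw [hd', map_zero, zero_add, HH_zero (C := C.full) (C' := C'.full) S S' hz, map_zero] at h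
  have hz' : z = PiPi S S' z := by
    have := h.symm
    rwa [sub_eq_zero] at this
  rw [hz']
  refine map_Tn_mem (C := C.full) (C' := C'.full) (PiPi S S') _ ?_ hz
  intro p q a b hpq ha hb
  have hp : p = 0 := by omega
  have hq : q = 0 := by omega
  subst hp; subst hq
  rw [PiPi_tmul]
  exact Submodule.apply_mem_map₂ _ ⟨e_mem S ha, LinearMap.mem_ker.mpr (d_e S a)⟩
    ⟨e_mem S' hb, LinearMap.mem_ker.mpr (d_e S' b)⟩

theorem finrank_H_full_succ (hex : IsExact C) (p : ℕ) (g : Γ) :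
    Module.finrank k (C.full.H (p + 1) g) = 0 :=
  haveI := subsingleton_H_full hex p g
  Module.finrank_zero_of_subsingleton

/-- The dimension of the cohomology of `V' ⊗ W + V ⊗ W'`. -/
theorem finrank_sup (hex : IsExact C) (hex' : IsExact C') (hdp : IsDeep C) (hdp' : IsDeep C')
    (g : Γ) (hfin : ∀ p, Module.Finite k (C.H p g)) (hfin' : ∀ q, Module.Finite k (C'.H q g))
    (hfin0 : Module.Finite k (C.full.H 0 g)) (hfin0' : Module.Finite k (C'.full.H 0 g))
    (n : ℕ) :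
    Module.finrank k (HQ (DD C C') (TXprev C C'.full n g ⊔ TXprev C.full C' n g)
        (TX C C'.full n g ⊔ TX C.full C' n g)) =
      Module.finrank k (C.H n g) * Module.finrank k (C'.full.H 0 g) +
        Module.finrank k (C.full.H 0 g) * Module.finrank k (C'.H n g) +
        ∑ i ∈ Finset.range (n + 2),
          Module.finrank k (C.H i g) * Module.finrank k (C'.H (n + 1 - i) g) := by
  have hfinF : ∀ p, Module.Finite k (C.full.H p g) := by
    intro p
    cases p with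
    | zero => exact hfin0
    | succ p =>
      haveI := subsingleton_H_full hex p g
      infer_instance
  have hfinF' : ∀ q, Module.Finite k (C'.full.H q g) := by
    intro q
    cases q with
    | zero => exact hfin0'
    | succ q =>
      haveI := subsingleton_H_full hex' q g
      infer_instance
  haveI : Module.Finite k (HQ (DD C C') (TXprev C C'.full n g) (TX C C'.full n g)) :=
    finite_HT (C := C) (C' := C'.full) n g hfin hfinF'
  haveI : Module.Finite k (HQ (DD C C') (TXprev C.full C' n g) (TX C.full C' n g)) :=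
    finite_HT (C := C.full) (C' := C') n g hfinF hfin'
  haveI : Module.Finite k (HQ (DD C C') (TX C C'.full n g ⊓ TX C.full C' n g)
      (TX C C'.full (n + 1) g ⊓ TX C.full C' (n + 1) g)) := by
    rw [TX_inf, TX_inf]
    exact finite_HT (C := C) (C' := C') (n + 1) g hfin hfin'
  have hMV := finrank_MV (DD C C') (DD_DD C C')
    (TXprev C C'.full n g) (TX C C'.full n g) (TX C C'.full (n + 1) g)
    (TXprev C.full C' n g) (TX C.full C' n g) (TX C.full C' (n + 1) g) (PP C C'.full)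
    (by
      intro x hx
      cases n with
      | zero =>
        have : x = 0 := (Submodule.mem_bot k).mp hx
        rw [this, map_zero]; exact zero_mem _
      | succ n => exact DD_TX (C := C) (C' := C'.full) hx)
    (fun x hx => DD_TX (C := C) (C' := C'.full) hx)
    (by
      intro x hx
      cases n with
      | zero =>
        have : x = 0 := (Submodule.mem_bot k).mp hx
        rw [this, map_zero]; exact zero_mem _
      | succ n => exact DD_TX (C := C.full) (C' := C') hx)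
    (fun x hx => DD_TX (C := C.full) (C' := C') hx)
    (hP_main n g)
    (by
      intro c hc hd
      rw [TX_inf] at hc
      exact alpha hex hex' hdp hdp' n g c hc hd)
    (by
      intro c hc hd
      rw [TX_inf] at hc
      exact alpha hex hex' hdp hdp' (n + 1) g c hc hd)
  rw [hMV]
  have h1 : Module.finrank k (HQ (DD C C') (TXprev C C'.full n g) (TX C C'.full n g)) =
      Module.finrank k (C.H n g) * Module.finrank k (C'.full.H 0 g) := by
    have this : Module.finrank k (HQ (DD C C') (TXprev C C'.full n g) (TX C C'.full n g)) =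
        ∑ i ∈ Finset.range (n + 1),
          Module.finrank k (C.H i g) * Module.finrank k (C'.full.H (n - i) g) :=
      finrank_HT (C := C) (C' := C'.full) n g hfin hfinF'
    rw [this, Finset.sum_eq_single n]
    · rw [Nat.sub_self]
    · intro i hi hin
      have hlt : i < n := by
        have := Finset.mem_range.mp hi
        omega
      obtain ⟨j, hj⟩ : ∃ j, n - i = j + 1 := ⟨n - i - 1, by omega⟩
      rw [hj, finrank_H_full_succ hex' j g, mul_zero]
    · intro h
      exact absurd (Finset.mem_range.mpr (Nat.lt_succ_self n)) h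
  have h2 : Module.finrank k (HQ (DD C C') (TXprev C.full C' n g) (TX C.full C' n g)) =
      Module.finrank k (C.full.H 0 g) * Module.finrank k (C'.H n g) := by
    have this : Module.finrank k (HQ (DD C C') (TXprev C.full C' n g) (TX C.full C' n g)) =
        ∑ i ∈ Finset.range (n + 1),
          Module.finrank k (C.full.H i g) * Module.finrank k (C'.H (n - i) g) :=
      finrank_HT (C := C.full) (C' := C') n g hfinF hfin'
    rw [this, Finset.sum_eq_single 0]
    · rw [Nat.sub_zero]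
    · intro i _ hi0
      obtain ⟨j, hj⟩ : ∃ j, i = j + 1 := ⟨i - 1, by omega⟩
      rw [hj, finrank_H_full_succ hex j g, zero_mul]
    · intro h
      exact absurd (Finset.mem_range.mpr (Nat.succ_pos n)) h
  have h3 : Module.finrank k (HQ (DD C C') (TX C C'.full n g ⊓ TX C.full C' n g)
      (TX C C'.full (n + 1) g ⊓ TX C.full C' (n + 1) g)) =
      ∑ i ∈ Finset.range (n + 2),
          Module.finrank k (C.H i g) * Module.finrank k (C'.H (n + 1 - i) g) := by
    rw [TX_inf, TX_inf]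
    exact finrank_HT (C := C) (C' := C') (n + 1) g hfin hfin'
  rw [h1, h2, h3]

end main

end Groth.Agent.Lib.R2H7.KunLA4
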