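/-
Direct sums of families of graded modules: the graded module structure on `⨁ j, Y j`, the
homogeneous inclusions, projections and componentwise maps, and *injectivity of finite sums.
-/
import Mathlib
import Groth.Agent.Lib.R2H7GrOps

set_option autoImplicit false
open DirectSum

noncomputable section

namespace Groth.Agent.Lib.R2H7.SegSum

universe u

variable {ι : Type} [AddCommGroup ι] [DecidableEq ι]
variable {R : Type u} [CommRing R] {𝒜 : ι → AddSubgroup R} [GradedRing 𝒜]
variable {J : Type} [DecidableEq J] (Y : J → GrLC.GMod.{u} 𝒜)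

/-- The pieces of a direct sum of graded modules. -/
def sumGr (g : ι) : AddSubgroup (⨁ j, (Y j).carrier) where
  carrier := {x | ∀ j, x j ∈ (Y j).gr g}
  zero_mem' := fun j => zero_mem _
  add_mem' := fun {x y} hx hy j => by
    rw [DirectSum.add_apply]; exact add_mem (hx j) (hy j)
  neg_mem' := fun {x} hx j => by
    show (-x) j ∈ (Y j).gr g
    have : (-x) j = -(x j) := rfl
    rw [this]; exact neg_mem (hx j)

theorem mem_sumGr {g : ι} {x : ⨁ j, (Y j).carrier} : x ∈ sumGr Y g ↔ ∀ j, x j ∈ (Y j).gr g :=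
  Iff.rfl

theorem of_mem_sumGr {g : ι} (j : J) {u : (Y j).carrier} (hu : u ∈ (Y j).gr g) :
    DirectSum.of (fun j => (Y j).carrier) j u ∈ sumGr Y g := by
  intro j'
  by_cases h : j' = j
  · subst h
    rw [DirectSum.of_eq_same]; exact hu
  · rw [DirectSum.of_eq_of_ne _ _ _ h]; exact zero_mem _

/-- Inclusion of a piece of a summand. -/
def pieceIncl (j : J) (g : ι) : ↥((Y j).gr g) →+ ↥(sumGr Y g) where
  toFun u := ⟨DirectSum.of (fun j => (Y j).carrier) j u.1, of_mem_sumGr Y j u.2⟩
  map_zero' := Subtype.ext (map_zero _)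
  map_add' u v := Subtype.ext (map_add _ _ _)

theorem coe_map_pieceIncl (j : J) (z : ⨁ g, (Y j).gr g) :
    DirectSum.coeAddMonoidHom (sumGr Y) (DirectSum.map (pieceIncl Y j) z) =
      DirectSum.of (fun j => (Y j).carrier) j (DirectSum.coeAddMonoidHom (Y j).gr z) := by
  classical
  induction z using DirectSum.induction_on with
  | zero => rw [map_zero, map_zero, map_zero, map_zero]
  | of g x =>
    rw [DirectSum.map_of, DirectSum.coeAddMonoidHom_of, DirectSum.coeAddMonoidHom_of]
    rfl
  | add x y hx hy => rw [map_add, map_add, map_add, map_add, hx, hy]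

/-- The decomposition map on a summand. -/
def decJ (j : J) : (Y j).carrier →+ ⨁ g, sumGr Y g :=
  (DirectSum.map (pieceIncl Y j)).comp (DirectSum.decomposeAddEquiv (Y j).gr).toAddMonoidHom

/-- The decomposition map of a direct sum. -/
def sumDec : (⨁ j, (Y j).carrier) →+ ⨁ g, sumGr Y g := DirectSum.toAddMonoid (decJ Y)

theorem sumDec_of (j : J) (y : (Y j).carrier) :
    sumDec Y (DirectSum.of (fun j => (Y j).carrier) j y) =
      DirectSum.map (pieceIncl Y j) (DirectSum.decompose (Y j).gr y) := by
  unfold sumDec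
  rw [DirectSum.toAddMonoid_of]
  rfl

/-- The decomposition of a direct sum of graded modules. -/
@[instance_reducible]
def sumDecomposition : DirectSum.Decomposition (sumGr Y) :=
  DirectSum.Decomposition.ofAddHom (sumGr Y) (sumDec Y)
    (by
      apply DirectSum.addHom_ext
      intro j y
      rw [AddMonoidHom.comp_apply, sumDec_of, coe_map_pieceIncl, AddMonoidHom.id_apply]
      have h1 : DirectSum.coeAddMonoidHom (Y j).gr (DirectSum.decompose (Y j).gr y) = y :=
        DirectSum.Decomposition.left_inv y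
      rw [h1])
    (by
      classical
      apply DirectSum.addHom_ext
      rintro g ⟨x, hx⟩
      rw [AddMonoidHom.comp_apply, DirectSum.coeAddMonoidHom_of, AddMonoidHom.id_apply]
      show sumDec Y x = _
      have hx' : x = ∑ j ∈ DFinsupp.support x, DirectSum.of (fun j => (Y j).carrier) j (x j) :=
        (DirectSum.sum_support_of x).symm
      have h2 : sumDec Y x = ∑ j ∈ DFinsupp.support x,
          DirectSum.of (fun g => ↥(sumGr Y g)) g (pieceIncl Y j g ⟨x j, hx j⟩) := by
        conv_lhs => rw [hx']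
        rw [map_sum]
        refine Finset.sum_congr rfl fun j _ => ?_
        rw [sumDec_of, DirectSum.decompose_of_mem (Y j).gr (hx j), DirectSum.map_of]
      rw [h2, ← map_sum]
      congr 1
      apply Subtype.ext
      rw [AddSubgroup.val_finset_sum]
      exact hx'.symm)

theorem sum_gradedSMul : SetLike.GradedSMul 𝒜 (sumGr Y) where
  smul_mem := by
    intro i g r x hr hx j
    have : (r • x) j = r • x j := rfl
    rw [this]
    exact SetLike.GradedSMul.smul_mem (A := 𝒜) (B := (Y j).gr) hr (hx j)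

/-- The direct sum of a family of graded modules. -/
def sumG : GrLC.GMod.{u} 𝒜 :=
  { carrier := ⨁ j, (Y j).carrier
    gr := sumGr Y
    dec := sumDecomposition Y
    gsmul := sum_gradedSMul Y }

/-- The inclusion of a summand. -/
def lofG (j : J) : (Y j).carrier →ₗ[R] (sumG Y).carrier :=
  DirectSum.lof R J (fun j => (Y j).carrier) j

theorem lofG_grHom (j : J) : GrLC.IsGrHom (Y j).gr (sumG Y).gr (lofG Y j) :=
  fun _ _ hu => of_mem_sumGr Y j hu

/-- The projection onto a summand. -/
def projG (j : J) : (sumG Y).carrier →ₗ[R] (Y j).carrier :=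
  DirectSum.component R J (fun j => (Y j).carrier) j

theorem projG_grHom (j : J) : GrLC.IsGrHom (sumG Y).gr (Y j).gr (projG Y j) :=
  fun _ _ hx => hx j

theorem projG_lofG (j : J) (u : (Y j).carrier) : projG Y j (lofG Y j u) = u := by
  show (DirectSum.of (fun j => (Y j).carrier) j u) j = u
  exact DirectSum.of_eq_same _ _

theorem projG_lofG_ne {j j' : J} (h : j' ≠ j) (u : (Y j).carrier) :
    projG Y j' (lofG Y j u) = 0 := by
  show (DirectSum.of (fun j => (Y j).carrier) j u) j' = 0
  exact DirectSum.of_eq_of_ne _ _ _ h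

variable {Y} {Y' : J → GrLC.GMod.{u} 𝒜}

/-- The componentwise map. -/
def lmapG (f : ∀ j, (Y j).carrier →ₗ[R] (Y' j).carrier) :
    (sumG Y).carrier →ₗ[R] (sumG Y').carrier :=
  DirectSum.lmap f

theorem lmapG_apply (f : ∀ j, (Y j).carrier →ₗ[R] (Y' j).carrier) (x : (sumG Y).carrier)
    (j : J) : projG Y' j (lmapG f x) = f j (projG Y j x) := rfl

theorem lmapG_lofG (f : ∀ j, (Y j).carrier →ₗ[R] (Y' j).carrier) (j : J) (u : (Y j).carrier) :
    lmapG f (lofG Y j u) = lofG Y' j (f j u) :=
  DirectSum.lmap_lof f j u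

theorem lmapG_grHom (f : ∀ j, (Y j).carrier →ₗ[R] (Y' j).carrier)
    (hf : ∀ j, GrLC.IsGrHom (Y j).gr (Y' j).gr (f j)) :
    GrLC.IsGrHom (sumG Y).gr (sumG Y').gr (lmapG f) :=
  fun g x hx j => hf j g _ (hx j)

theorem ext_projG {x y : (sumG Y).carrier} (h : ∀ j, projG Y j x = projG Y j y) : x = y :=
  DFinsupp.ext h

theorem sum_lofG_projG [Fintype J] (x : (sumG Y).carrier) :
    ∑ j, lofG Y j (projG Y j x) = x := by
  apply ext_projG
  intro j
  rw [map_sum, Finset.sum_eq_single j]
  · rw [projG_lofG]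
  · intro j' _ hj'
    exact projG_lofG_ne Y (Ne.symm hj') _
  · intro h
    exact absurd (Finset.mem_univ j) h

/-- A finite direct sum of *injective modules is *injective. -/
theorem isStarInj_sumG [Fintype J] (hY : ∀ j, GrLC.IsStarInj 𝒜 (Y j).gr) :
    GrLC.IsStarInj 𝒜 (sumG Y).gr := by
  intro A B f hf hinj g hg
  have key : ∀ j, ∃ h : B.carrier →ₗ[R] (Y j).carrier, GrLC.IsGrHom B.gr (Y j).gr h ∧
      h ∘ₗ f = projG Y j ∘ₗ g := fun j =>
    hY j A B f hf hinj (projG Y j ∘ₗ g) (fun i a ha => projG_grHom Y j i _ (hg i a ha))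
  choose h hh1 hh2 using key
  refine ⟨∑ j, lofG Y j ∘ₗ h j, ?_, ?_⟩
  · intro i b hb
    rw [LinearMap.sum_apply]
    exact sum_mem fun j _ => lofG_grHom Y j i _ (hh1 j i b hb)
  · apply LinearMap.ext
    intro a
    rw [LinearMap.comp_apply, LinearMap.sum_apply]
    rw [← sum_lofG_projG (g a)]
    refine Finset.sum_congr rfl fun j _ => ?_
    rw [LinearMap.comp_apply]
    congr 1
    exact LinearMap.congr_fun (hh2 j) a

end Groth.Agent.Lib.R2H7.SegSum
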