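/-
Vanishing of graded local cohomology through factorisations, retractions of multiplication maps
and idempotent decompositions; torsion tested on generators; exactness tested on homogeneous
elements.
-/
import Mathlib
import Groth.Agent.Lib.R2H7GrAcyc
import Groth.Agent.Lib.R2H7SegSum

set_option autoImplicit false
open DirectSum

noncomputable section

namespace Groth.Agent.Lib.R2H7.SegIdem

open Groth.Agent.Lib.Helper29GrCompare Groth.Agent.Lib.Helper29GrHom
  Groth.Agent.Lib.Helper29GrGam Groth.Agent.Lib.Helper29GrSub Groth.Agent.Lib.Helper29GrEss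
  Groth.Agent.Lib.R2H7.GrDer Groth.Agent.Lib.R2H7.GrOps Groth.Agent.Lib.R2H7.GrTors

universe u

variable {ι : Type} [AddCommGroup ι] [DecidableEq ι]
variable {R : Type u} [CommRing R] {𝒜 : ι → AddSubgroup R} [GradedRing 𝒜]
variable (a : HomogeneousIdeal 𝒜)

section two

variable {X Y : GrLC.GMod.{u} 𝒜} {E : GrLC.StarInjRes 𝒜 X.gr} {E' : GrLC.StarInjRes 𝒜 Y.gr}

/-- Two chain maps over (pointwise) equal maps agree on cohomology. -/
theorem sub_mem_cobdy_of_two {f f' : X.carrier →ₗ[R] Y.carrier} (hff : ∀ m, f m = f' m)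
    (c : CMap E E' f) (c' : CMap E E' f') {i : ℕ} {z : (E.X i).carrier}
    (hz : z ∈ E.cocyc a i) : c.θ i z - c'.θ i z ∈ E'.cobdy a i := by
  have := delta_mem_cobdy E E' (fun n => c.θ n - c'.θ n)
    (fun n g x hx => by
      rw [LinearMap.sub_apply]
      exact sub_mem (c.gr n g x hx) (c'.gr n g x hx))
    (fun m => by
      rw [LinearMap.sub_apply, c.aug, c'.aug, hff, sub_self])
    (fun n x => by
      rw [LinearMap.sub_apply, c.comm, c'.comm, LinearMap.sub_apply, map_sub])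
    a hz
  rwa [LinearMap.sub_apply] at this

/-- The identity chain map. -/
def idCMap (E : GrLC.StarInjRes 𝒜 X.gr) : CMap E E LinearMap.id where
  θ n := LinearMap.id
  gr n := fun _ _ hm => hm
  aug m := rfl
  comm n x := rfl

end two

/-- If the identity of `X` is a finite sum of maps factoring through modules whose local
cohomology vanishes in bidegree `(i, g)`, then so does that of `X`. -/
theorem vanX_of_factor {J : Type} [Fintype J] {X : GrLC.GMod.{u} 𝒜} (Z : J → GrLC.GMod.{u} 𝒜)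
    (r : ∀ j, X.carrier →ₗ[R] (Z j).carrier) (s : ∀ j, (Z j).carrier →ₗ[R] X.carrier)
    (hr : ∀ j, GrLC.IsGrHom X.gr (Z j).gr (r j)) (hs : ∀ j, GrLC.IsGrHom (Z j).gr X.gr (s j))
    (hsum : ∀ x, ∑ j, s j (r j x) = x) {i : ℕ} {g : ι} (hZ : ∀ j, VanX a (Z j) i g) :
    VanX a X i g := by
  classical
  obtain ⟨F⟩ := exists_res X
  rw [vanX_iff a F]
  have hres : ∀ j, ∃ Fz : GrLC.StarInjRes 𝒜 (Z j).gr, True := fun j =>
    ⟨(exists_res (Z j)).some, trivial⟩
  choose Fz _ using hres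
  have hcr : ∀ j, ∃ c : CMap F (Fz j) (r j), True := fun j =>
    ⟨(exists_cmap F (Fz j) (r j) (hr j)).some, trivial⟩
  choose cr _ using hcr
  have hcs : ∀ j, ∃ c : CMap (Fz j) F (s j), True := fun j =>
    ⟨(exists_cmap (Fz j) F (s j) (hs j)).some, trivial⟩
  choose cs _ using hcs
  intro z hz hzg
  have h1 := delta_mem_cobdy F F (fun n => (∑ j, (cs j).θ n ∘ₗ (cr j).θ n) - LinearMap.id)
    (fun n g x hx => by
      rw [LinearMap.sub_apply, LinearMap.sum_apply, LinearMap.id_apply]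
      exact sub_mem (sum_mem fun j _ => (cs j).gr n g _ ((cr j).gr n g x hx)) hx)
    (fun m => by
      rw [LinearMap.sub_apply, LinearMap.sum_apply, LinearMap.id_apply]
      have : ∀ j, ((cs j).θ 0 ∘ₗ (cr j).θ 0) (F.ε m) = F.ε (s j (r j m)) := fun j => by
        rw [LinearMap.comp_apply, (cr j).aug, (cs j).aug]
      rw [Finset.sum_congr rfl (fun j _ => this j), ← map_sum, hsum, sub_self])
    (fun n x => by
      rw [LinearMap.sub_apply, LinearMap.sum_apply, LinearMap.id_apply, LinearMap.sub_apply,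
        LinearMap.sum_apply, LinearMap.id_apply, map_sub, map_sum]
      congr 1
      refine Finset.sum_congr rfl fun j _ => ?_
      rw [LinearMap.comp_apply, LinearMap.comp_apply, (cr j).comm, (cs j).comm])
    a hz
  rw [LinearMap.sub_apply, LinearMap.sum_apply, LinearMap.id_apply] at h1
  have h2 : ∀ j, ((cs j).θ i ∘ₗ (cr j).θ i) z ∈ F.cobdy a i := fun j => by
    rw [LinearMap.comp_apply]
    exact (cs j).cobdy a ((vanX_iff a (Fz j)).mp (hZ j) _ ((cr j).cocyc a hz)
      ((cr j).gr i g z hzg))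
  have h3 : z = (∑ j, ((cs j).θ i ∘ₗ (cr j).θ i) z) -
      ((∑ j, ((cs j).θ i ∘ₗ (cr j).θ i) z) - z) := by abel
  rw [h3]
  exact sub_mem (sum_mem fun j _ => h2 j) h1

/-- If a homogeneous element of `a` acts on `X` with a homogeneous retraction, all the graded local
cohomology of `X` vanishes. -/
theorem vanX_of_retract {X : GrLC.GMod.{u} 𝒜} {e : ι} {x : R} (hx : x ∈ 𝒜 e)
    (hxa : x ∈ a.toIdeal) (η : X.carrier →ₗ[R] X.carrier)
    (hη : GrLC.IsGrHomDeg X.gr X.gr η (-e)) (hηx : ∀ u, η (x • u) = u) (i : ℕ) (g : ι) :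
    VanX a X i g := by
  obtain ⟨F⟩ := exists_res X
  rw [vanX_iff a F]
  refine van_of_forall_inj a hx F hxa i Set.univ (fun _ _ => Set.mem_univ _) ?_ g
    (Set.mem_univ _)
  intro j _ z hz _ hxz
  let η' : X.carrier →ₗ[R] (shiftG X (-e)).carrier := η
  have hη' : GrLC.IsGrHom X.gr (shiftG X (-e)).gr η' := fun g m hm => hη g m hm
  obtain ⟨cη⟩ := exists_cmap F (shiftRes F (-e)) η' hη'
  have hz' : z ∈ (shiftRes F (-e)).cocyc a i := hz
  have h1 := sub_mem_cobdy_of_two a (f := η' ∘ₗ mulG X e x) (f' := LinearMap.id)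
    (fun m => hηx m) (cη.comp (mulCMap hx F)) (idCMap (shiftRes F (-e))) hz'
  have h2 : cη.θ i (x • z) ∈ (shiftRes F (-e)).cobdy a i := cη.cobdy a hxz
  obtain ⟨z', hz'z⟩ : ∃ z' : ((shiftRes F (-e)).X i).carrier, z' = z := ⟨z, rfl⟩
  have h3 : z' ∈ (shiftRes F (-e)).cobdy a i := by
    have h4 : (cη.comp (mulCMap hx F)).θ i z - (idCMap (shiftRes F (-e))).θ i z =
        cη.θ i (x • z) - z' := by rw [hz'z]; rfl
    rw [h4] at h1
    have h5 : z' = cη.θ i (x • z) - (cη.θ i (x • z) - z') := by abel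
    rw [h5]
    exact sub_mem h2 h1
  rw [cobdy_shiftRes, hz'z] at h3
  exact h3

section range

variable {X : GrLC.GMod.{u} 𝒜}

/-- The range of a homogeneous endomorphism, as a graded module. -/
def rangeG (E : X.carrier →ₗ[R] X.carrier) (hE : GrLC.IsGrHom X.gr X.gr E) : GrLC.GMod.{u} 𝒜 :=
  subG X (LinearMap.range E) (range_isHomogeneous X.gr X.gr E hE)

theorem vanX_range_of_sum {J : Type} [Fintype J]
    (P : X.carrier →ₗ[R] X.carrier) (hP : GrLC.IsGrHom X.gr X.gr P) (hPP : ∀ u, P (P u) = P u)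
    (E : J → (X.carrier →ₗ[R] X.carrier)) (hE : ∀ j, GrLC.IsGrHom X.gr X.gr (E j))
    (hPE : ∀ j u, P (E j u) = E j u) (hsum : ∀ u, ∑ j, E j u = P u) {i : ℕ} {g : ι}
    (hZ : ∀ j, VanX a (rangeG (E j) (hE j)) i g) : VanX a (rangeG P hP) i g := by
  have hle : ∀ j, LinearMap.range (E j) ≤ LinearMap.range P := by
    rintro j _ ⟨u, rfl⟩
    exact ⟨E j u, hPE j u⟩
  refine vanX_of_factor a (fun j => rangeG (E j) (hE j))
    (fun j => (E j ∘ₗ (LinearMap.range P).subtype).codRestrict (LinearMap.range (E j))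
      (fun u => LinearMap.mem_range_self (E j) _))
    (fun j => Submodule.inclusion (hle j)) ?_ ?_ ?_ hZ
  · intro j g m hm
    show E j m.1 ∈ X.gr g
    exact hE j g _ hm
  · intro j g m hm
    exact hm
  · intro u
    apply Subtype.ext
    have key := map_sum (LinearMap.range P).subtype
      (fun j => (⟨E j u.1, hle j (LinearMap.mem_range_self (E j) _)⟩ : ↥(LinearMap.range P)))
      Finset.univ
    refine Eq.trans key ?_
    show ∑ j, E j u.1 = u.1
    obtain ⟨w, hw⟩ := u.2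
    rw [hsum, ← hw, hPP]

theorem vanX_range_of_torsion [IsNoetherianRing R] [Module.Free ℤ ι] [Module.Finite ℤ ι]
    (E : X.carrier →ₗ[R] X.carrier) (hE : GrLC.IsGrHom X.gr X.gr E)
    (htors : ∀ u, E u ∈ GrLC.gam a.toIdeal X.carrier) (i : ℕ) (hi : 0 < i) (g : ι) :
    VanX a (rangeG E hE) i g := by
  refine vanX_of_torsion a _ (fun m => ?_) i hi g
  refine (mem_gam_sub a.toIdeal (LinearMap.range E) m).mpr ?_
  obtain ⟨u, hu⟩ := m.2
  rw [← hu]
  exact htors u

theorem vanX_range_of_retract (E : X.carrier →ₗ[R] X.carrier) (hE : GrLC.IsGrHom X.gr X.gr E)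
    (hEE : ∀ u, E (E u) = E u) {e : ι} {x : R} (hx : x ∈ 𝒜 e) (hxa : x ∈ a.toIdeal)
    (η : X.carrier →ₗ[R] X.carrier) (hη : GrLC.IsGrHomDeg X.gr X.gr η (-e))
    (hηx : ∀ u, η (x • E u) = E u) (i : ℕ) (g : ι) : VanX a (rangeG E hE) i g := by
  refine vanX_of_retract a hx hxa
    ((E ∘ₗ η ∘ₗ (LinearMap.range E).subtype).codRestrict (LinearMap.range E)
      (fun u => LinearMap.mem_range_self E _)) ?_ ?_ i g
  · intro g m hm
    show E (η m.1) ∈ X.gr (g + -e)
    exact hE _ _ (hη g m.1 hm)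
  · intro u
    apply Subtype.ext
    obtain ⟨w, hw⟩ := u.2
    show E (η (x • u.1)) = u.1
    rw [← hw, hηx, hEE]

end range

/-- Torsion can be tested on a set generating the ideal up to radical. -/
theorem mem_gam_of_forall_pow {M : Type u} [AddCommGroup M] [Module R M] (I : Ideal R)
    (s : Set R) (hI : I ≤ (Ideal.span s).radical) (hfg : I.FG) (m : M)
    (h : ∀ r ∈ s, ∃ n : ℕ, r ^ n • m = 0) : m ∈ GrLC.gam I M := by
  let J : Ideal R := LinearMap.ker (LinearMap.toSpanSingleton R M m)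
  have hJ : ∀ r, r ∈ J ↔ r • m = 0 := fun r => by
    rw [LinearMap.mem_ker, LinearMap.toSpanSingleton_apply]
  have h1 : Ideal.span s ≤ J.radical := Ideal.span_le.mpr (fun r hr => by
    obtain ⟨n, hn⟩ := h r hr
    exact ⟨n, (hJ _).mpr hn⟩)
  have h2 : I ≤ J.radical := hI.trans (Ideal.radical_le_radical_iff.mpr h1)
  obtain ⟨n, hn⟩ := Ideal.exists_pow_le_of_le_radical_of_fg h2 hfg
  exact ⟨n, fun r hr => (hJ r).mp (hn hr)⟩

/-- Exactness can be tested on homogeneous elements. -/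
theorem ker_le_range_of_homogeneous {A B C : GrLC.GMod.{u} 𝒜} (f : A.carrier →ₗ[R] B.carrier)
    (g : B.carrier →ₗ[R] C.carrier) (hg : GrLC.IsGrHom B.gr C.gr g)
    (h : ∀ j, ∀ b ∈ B.gr j, g b = 0 → b ∈ LinearMap.range f) :
    LinearMap.ker g ≤ LinearMap.range f := by
  classical
  intro b hb
  have hhom := ker_isHomogeneous C.gr B.gr g hg
  rw [← DirectSum.sum_support_decompose B.gr b]
  exact sum_mem fun j _ => h j _ (SetLike.coe_mem _) (hhom j hb)

end Groth.Agent.Lib.R2H7.SegIdem
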