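/-
Segre products of graded modules as graded modules over the Segre product ring: the action of
`R ⊗ S` on `V ⊗ W` is multiplicative, the submodule `⨆ n, V_n ⊗ W_n` of `V ⊗ W` with its grading and
its `T`-module structure through `ψ : T → R ⊗ S`, and the `T`-linear maps induced by pairs of
homogeneous linear maps of one degree.
-/
import Mathlib
import Groth.Prelude.Def_GrSeg
import Groth.Agent.Lib.R2H7KunLA1
import Groth.Agent.Lib.R2H7GrBdry
import Groth.Agent.Lib.R2H7SegIdem

set_option autoImplicit false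
open DirectSum
open scoped TensorProduct

noncomputable section

namespace Groth.Agent.Lib.R2H7.SegPres

open Groth.Agent.Lib.Helper29GrEss Groth.Agent.Lib.R2H7.GrBdry Groth.Agent.Lib.R2H7.KunLA1

universe u

variable {k : Type u} [Field k] {R S T : Type u} [CommRing R] [CommRing S] [CommRing T]
  [Algebra k R] [Algebra k S] [Algebra k T]

/-! ### The action is multiplicative -/

section act

variable (V W : Type u) [AddCommGroup V] [Module R V] [Module k V] [IsScalarTower k R V]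
  [AddCommGroup W] [Module S W] [Module k W] [IsScalarTower k S W]

theorem act_one : GrSeg.act k R S V W 1 = LinearMap.id := by
  apply TensorProduct.ext'
  intro m n
  rw [Algebra.TensorProduct.one_def, GrSeg.act_tmul, one_smul, one_smul, LinearMap.id_apply]

theorem act_mul (x y : R ⊗[k] S) :
    GrSeg.act k R S V W (x * y) = GrSeg.act k R S V W x ∘ₗ GrSeg.act k R S V W y := by
  induction x using TensorProduct.induction_on with
  | zero => rw [zero_mul, map_zero, LinearMap.zero_comp]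
  | add x x' hx hx' => rw [add_mul, map_add, hx, hx', map_add, LinearMap.add_comp]
  | tmul r s =>
    induction y using TensorProduct.induction_on with
    | zero => rw [mul_zero, map_zero, LinearMap.comp_zero]
    | add y y' hy hy' => rw [mul_add, map_add, hy, hy', map_add, LinearMap.comp_add]
    | tmul r' s' =>
      apply TensorProduct.ext'
      intro m n
      rw [Algebra.TensorProduct.tmul_mul_tmul, LinearMap.comp_apply, GrSeg.act_tmul,
        GrSeg.act_tmul, GrSeg.act_tmul, mul_smul, mul_smul]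

theorem act_pow (x : R ⊗[k] S) (n : ℕ) (z : V ⊗[k] W) :
    GrSeg.act k R S V W (x ^ (n + 1)) z =
      GrSeg.act k R S V W x (GrSeg.act k R S V W (x ^ n) z) := by
  rw [pow_succ', act_mul, LinearMap.comp_apply]

variable {V W} {V' W' : Type u} [AddCommGroup V'] [Module R V'] [Module k V']
  [IsScalarTower k R V'] [AddCommGroup W'] [Module S W'] [Module k W'] [IsScalarTower k S W']

/-- The `k`-linear map `f ⊗ g` of an `R`-linear and an `S`-linear map. -/
def kmap (f : V →ₗ[R] V') (g : W →ₗ[S] W') : V ⊗[k] W →ₗ[k] V' ⊗[k] W' :=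
  TensorProduct.map (f.restrictScalars k) (g.restrictScalars k)

theorem kmap_tmul (f : V →ₗ[R] V') (g : W →ₗ[S] W') (m : V) (n : W) :
    kmap (k := k) f g (m ⊗ₜ[k] n) = f m ⊗ₜ[k] g n := rfl

theorem kmap_act (f : V →ₗ[R] V') (g : W →ₗ[S] W') (x : R ⊗[k] S) (z : V ⊗[k] W) :
    kmap f g (GrSeg.act k R S V W x z) = GrSeg.act k R S V' W' x (kmap f g z) := by
  induction x using TensorProduct.induction_on with
  | zero => simp only [map_zero, LinearMap.zero_apply]
  | add x x' hx hx' =>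
    rw [map_add, LinearMap.add_apply, map_add, hx, hx', map_add, LinearMap.add_apply]
  | tmul r s =>
    induction z using TensorProduct.induction_on with
    | zero => rw [map_zero, map_zero, map_zero]
    | add z z' hz hz' => rw [map_add, map_add, hz, hz', map_add, map_add]
    | tmul m n =>
      rw [GrSeg.act_tmul, kmap_tmul, kmap_tmul, GrSeg.act_tmul, map_smul, map_smul]

end act

/-! ### Pieces -/

section pieces

variable {M N : Type u} [AddCommGroup M] [Module k M] [AddCommGroup N] [Module k N]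
  (ℳ : ℤ → AddSubgroup M) (𝒩 : ℤ → AddSubgroup N)

theorem tmul_mem_piece {n : ℤ} {m : M} {y : N} (hm : m ∈ ℳ n) (hy : y ∈ 𝒩 n) :
    m ⊗ₜ[k] y ∈ GrSeg.segrePiece k ℳ 𝒩 n :=
  Submodule.subset_span ⟨m, hm, y, hy, rfl⟩

theorem piece_induction {n : ℤ} {P : M ⊗[k] N → Prop}
    (hmem : ∀ m ∈ ℳ n, ∀ y ∈ 𝒩 n, P (m ⊗ₜ[k] y)) (h0 : P 0)
    (hadd : ∀ z z', P z → P z' → P (z + z')) (hsmul : ∀ (c : k) z, P z → P (c • z))
    {z : M ⊗[k] N} (hz : z ∈ GrSeg.segrePiece k ℳ 𝒩 n) : P z := by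
  refine Submodule.span_induction (p := fun z _ => P z) ?_ h0 (fun z z' _ _ => hadd z z')
    (fun c z _ => hsmul c z) hz
  rintro _ ⟨m, hm, y, hy, rfl⟩
  exact hmem m hm y hy

end pieces

/-! ### The Segre context -/

variable (𝒜 : ℤ → AddSubgroup R) [GradedRing 𝒜] (ℬ : ℤ → AddSubgroup S) [GradedRing ℬ]
  (𝒯 : ℤ → AddSubgroup T) [GradedRing 𝒯] (ψ : T →ₐ[k] R ⊗[k] S)

/-- The hypotheses presenting `T` as the Segre product of `R` and `S`. -/
structure SegCtx : Prop where
  k𝒜 : ∀ c : k, algebraMap k R c ∈ 𝒜 0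
  kℬ : ∀ c : k, algebraMap k S c ∈ ℬ 0
  ψ_mem : ∀ (n : ℤ) (t : T), t ∈ 𝒯 n → ψ t ∈ GrSeg.segrePiece k 𝒜 ℬ n
  ψ_surj : ∀ (n : ℤ) (z : R ⊗[k] S), z ∈ GrSeg.segrePiece k 𝒜 ℬ n → ∃ t ∈ 𝒯 n, ψ t = z
  ψ_inj : Function.Injective ψ

variable {𝒜 ℬ 𝒯 ψ}

section module

variable (X : GrLC.GMod.{u} 𝒜) (Y : GrLC.GMod.{u} ℬ)
  [Module k X.carrier] [IsScalarTower k R X.carrier]
  [Module k Y.carrier] [IsScalarTower k S Y.carrier]

variable (k) in
/-- The piece `X_n ⊗ Y_n`. -/
abbrev piece (n : ℤ) : Submodule k (X.carrier ⊗[k] Y.carrier) := GrSeg.segrePiece k X.gr Y.gr n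

variable (k) in
/-- The submodule `⨆ n, X_n ⊗ Y_n`. -/
def segSub : Submodule k (X.carrier ⊗[k] Y.carrier) := ⨆ n, piece k X Y n

theorem piece_le_segSub (n : ℤ) : piece k X Y n ≤ segSub k X Y := le_iSup (piece k X Y) n

theorem act_mem_piece {j n : ℤ} {x : R ⊗[k] S} (hx : x ∈ GrSeg.segrePiece k 𝒜 ℬ j)
    {z : X.carrier ⊗[k] Y.carrier} (hz : z ∈ piece k X Y n) :
    GrSeg.act k R S X.carrier Y.carrier x z ∈ piece k X Y (j + n) := by
  refine piece_induction 𝒜 ℬ
    (P := fun x => GrSeg.act k R S X.carrier Y.carrier x z ∈ piece k X Y (j + n)) ?_ ?_ ?_ ?_ hx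
  · intro a ha b hb
    refine piece_induction X.gr Y.gr
      (P := fun z => GrSeg.act k R S X.carrier Y.carrier (a ⊗ₜ[k] b) z ∈ piece k X Y (j + n))
      ?_ ?_ ?_ ?_ hz
    · intro m hm y hy
      rw [GrSeg.act_tmul]
      refine tmul_mem_piece X.gr Y.gr ?_ ?_
      · have := SetLike.GradedSMul.smul_mem (A := 𝒜) (B := X.gr) ha hm
        rwa [vadd_eq_add] at this
      · have := SetLike.GradedSMul.smul_mem (A := ℬ) (B := Y.gr) hb hy
        rwa [vadd_eq_add] at this
    · rw [map_zero]; exact zero_mem _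
    · intro z z' h h'
      rw [map_add]; exact add_mem h h'
    · intro c z h
      rw [map_smul]; exact Submodule.smul_mem _ c h
  · rw [map_zero, LinearMap.zero_apply]; exact zero_mem _
  · intro x x' h h'
    rw [map_add, LinearMap.add_apply]; exact add_mem h h'
  · intro c x h
    rw [map_smul, LinearMap.smul_apply]; exact Submodule.smul_mem _ c h

theorem act_mem_segSub {x : R ⊗[k] S} (hx : x ∈ ⨆ j, GrSeg.segrePiece k 𝒜 ℬ j)
    {z : X.carrier ⊗[k] Y.carrier} (hz : z ∈ segSub k X Y) :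
    GrSeg.act k R S X.carrier Y.carrier x z ∈ segSub k X Y := by
  refine Submodule.iSup_induction (fun j => GrSeg.segrePiece k 𝒜 ℬ j)
    (motive := fun x => GrSeg.act k R S X.carrier Y.carrier x z ∈ segSub k X Y) hx ?_ ?_ ?_
  · intro j x hxj
    refine Submodule.iSup_induction (piece k X Y)
      (motive := fun z => GrSeg.act k R S X.carrier Y.carrier x z ∈ segSub k X Y) hz ?_ ?_ ?_
    · intro n z hzn
      exact piece_le_segSub X Y (j + n) (act_mem_piece X Y hxj hzn)
    · rw [map_zero]; exact zero_mem _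
    · intro z z' h h'
      rw [map_add]; exact add_mem h h'
  · rw [map_zero, LinearMap.zero_apply]; exact zero_mem _
  · intro x x' h h'
    rw [map_add, LinearMap.add_apply]; exact add_mem h h'

variable (hψ : SegCtx 𝒜 ℬ 𝒯 ψ)

include hψ in
theorem ψ_mem_iSup (t : T) : ψ t ∈ ⨆ j, GrSeg.segrePiece k 𝒜 ℬ j := by
  classical
  rw [← DirectSum.sum_support_decompose 𝒯 t, map_sum]
  exact sum_mem fun j _ => Submodule.mem_iSup_of_mem j (hψ.ψ_mem j _ (SetLike.coe_mem _))

/-- The action of `t ∈ T` on the Segre product. -/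
def actRes (t : T) : ↥(segSub k X Y) →ₗ[k] ↥(segSub k X Y) :=
  (GrSeg.act k R S X.carrier Y.carrier (ψ t)).restrict
    (fun _ hz => act_mem_segSub X Y (ψ_mem_iSup hψ t) hz)

theorem actRes_val (t : T) (p : ↥(segSub k X Y)) :
    (actRes X Y hψ t p : X.carrier ⊗[k] Y.carrier) =
      GrSeg.act k R S X.carrier Y.carrier (ψ t) p.1 := rfl

/-- The ring homomorphism giving the `T`-module structure. -/
def segRingHom : T →+* Module.End k ↥(segSub k X Y) where
  toFun := actRes X Y hψ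
  map_one' := by
    apply LinearMap.ext
    intro p
    apply Subtype.ext
    rw [actRes_val, map_one, act_one]
    rfl
  map_mul' t t' := by
    apply LinearMap.ext
    intro p
    apply Subtype.ext
    rw [actRes_val, map_mul, act_mul]
    rfl
  map_zero' := by
    apply LinearMap.ext
    intro p
    apply Subtype.ext
    rw [actRes_val, map_zero, map_zero]
    rfl
  map_add' t t' := by
    apply LinearMap.ext
    intro p
    apply Subtype.ext
    rw [actRes_val, map_add, map_add]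
    rfl

/-! ### The grading -/

variable (k) in
/-- The pieces of the Segre product. -/
def segF (n : ℤ) : Submodule k ↥(segSub k X Y) := (piece k X Y n).comap (segSub k X Y).subtype

theorem mem_segF {n : ℤ} {p : ↥(segSub k X Y)} : p ∈ segF k X Y n ↔ p.1 ∈ piece k X Y n := Iff.rfl

/-- The projection onto a homogeneous component, `k`-linearly. -/
def projK (hk : ∀ c : k, algebraMap k R c ∈ 𝒜 0) (n : ℤ) : X.carrier →ₗ[k] X.carrier where
  toFun x := ((DirectSum.decompose X.gr x) n : X.carrier)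
  map_add' x y := by rw [DirectSum.decompose_add, DirectSum.add_apply, AddSubgroup.coe_add]
  map_smul' c x := by
    rw [RingHom.id_apply, ← algebraMap_smul R c x,
      decompose_smul_of_mem 𝒜 X.gr (hk c) x n, sub_zero, algebraMap_smul]

theorem projK_apply (hk : ∀ c : k, algebraMap k R c ∈ 𝒜 0) (n : ℤ) (x : X.carrier) :
    projK X hk n x = ((DirectSum.decompose X.gr x) n : X.carrier) := rfl

theorem projK_mem (hk : ∀ c : k, algebraMap k R c ∈ 𝒜 0) (n : ℤ) (x : X.carrier) :
    projK X hk n x ∈ X.gr n := SetLike.coe_mem _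

theorem projK_same (hk : ∀ c : k, algebraMap k R c ∈ 𝒜 0) {n : ℤ} {x : X.carrier}
    (hx : x ∈ X.gr n) : projK X hk n x = x := DirectSum.decompose_of_mem_same _ hx

theorem projK_ne (hk : ∀ c : k, algebraMap k R c ∈ 𝒜 0) {n m : ℤ} (hnm : m ≠ n) {x : X.carrier}
    (hx : x ∈ X.gr m) : projK X hk n x = 0 := DirectSum.decompose_of_mem_ne _ hx hnm

/-- The projection of `X ⊗ Y` onto `X_n ⊗ Y_n`. -/
def PiN (n : ℤ) : X.carrier ⊗[k] Y.carrier →ₗ[k] X.carrier ⊗[k] Y.carrier :=
  TensorProduct.map (projK X hψ.k𝒜 n) (projK Y hψ.kℬ n)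

theorem PiN_mem (n : ℤ) (z : X.carrier ⊗[k] Y.carrier) : PiN X Y hψ n z ∈ piece k X Y n := by
  induction z using TensorProduct.induction_on with
  | zero => rw [map_zero]; exact zero_mem _
  | tmul m y => exact tmul_mem_piece X.gr Y.gr (projK_mem X _ n m) (projK_mem Y _ n y)
  | add z z' h h' => rw [map_add]; exact add_mem h h'

theorem PiN_same {n : ℤ} {z : X.carrier ⊗[k] Y.carrier} (hz : z ∈ piece k X Y n) :
    PiN X Y hψ n z = z := by
  refine piece_induction X.gr Y.gr (P := fun z => PiN X Y hψ n z = z) ?_ ?_ ?_ ?_ hz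
  · intro m hm y hy
    show projK X hψ.k𝒜 n m ⊗ₜ[k] projK Y hψ.kℬ n y = m ⊗ₜ[k] y
    rw [projK_same X _ hm, projK_same Y _ hy]
  · rw [map_zero]
  · intro z z' h h'
    rw [map_add, h, h']
  · intro c z h
    rw [map_smul, h]

theorem PiN_ne {n m : ℤ} (hnm : m ≠ n) {z : X.carrier ⊗[k] Y.carrier} (hz : z ∈ piece k X Y m) :
    PiN X Y hψ n z = 0 := by
  refine piece_induction X.gr Y.gr (P := fun z => PiN X Y hψ n z = 0) ?_ ?_ ?_ ?_ hz
  · intro x hx y hy
    show projK X hψ.k𝒜 n x ⊗ₜ[k] projK Y hψ.kℬ n y = 0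
    rw [projK_ne X _ hnm hx, TensorProduct.zero_tmul]
  · rw [map_zero]
  · intro z z' h h'
    rw [map_add, h, h', add_zero]
  · intro c z h
    rw [map_smul, h, smul_zero]

theorem exists_finset_PiN {z : X.carrier ⊗[k] Y.carrier} (hz : z ∈ segSub k X Y) :
    ∃ s : Finset ℤ, (∀ n, n ∉ s → PiN X Y hψ n z = 0) ∧ z = ∑ n ∈ s, PiN X Y hψ n z := by
  classical
  refine Submodule.iSup_induction (piece k X Y)
    (motive := fun z => ∃ s : Finset ℤ, (∀ n, n ∉ s → PiN X Y hψ n z = 0) ∧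
      z = ∑ n ∈ s, PiN X Y hψ n z) hz ?_ ?_ ?_
  · intro m z hzm
    refine ⟨{m}, fun n hn => ?_, ?_⟩
    · have hnm : m ≠ n := fun h => hn (by rw [h]; exact Finset.mem_singleton_self n)
      exact PiN_ne X Y hψ hnm hzm
    · rw [Finset.sum_singleton, PiN_same X Y hψ hzm]
  · exact ⟨∅, fun n _ => map_zero _, by rw [Finset.sum_empty]⟩
  · rintro z z' ⟨s, hs0, hs⟩ ⟨s', hs'0, hs'⟩
    refine ⟨s ∪ s', fun n hn => ?_, ?_⟩
    · rw [Finset.mem_union, not_or] at hn
      rw [map_add, hs0 n hn.1, hs'0 n hn.2, add_zero]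
    · have h1 : ∑ n ∈ s ∪ s', PiN X Y hψ n z = ∑ n ∈ s, PiN X Y hψ n z :=
        (Finset.sum_subset Finset.subset_union_left (fun n _ hn => hs0 n hn)).symm
      have h2 : ∑ n ∈ s ∪ s', PiN X Y hψ n z' = ∑ n ∈ s', PiN X Y hψ n z' :=
        (Finset.sum_subset Finset.subset_union_right (fun n _ hn => hs'0 n hn)).symm
      simp only [map_add]
      rw [Finset.sum_add_distrib, h1, h2, ← hs, ← hs']

include hψ in
theorem isInternal_segF : DirectSum.IsInternal (segF k X Y) := by
  classical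
  refine isInternal_of_coords (segF k X Y)
    (fun n => (PiN X Y hψ n).restrict
      (fun z _ => piece_le_segSub X Y n (PiN_mem X Y hψ n z))) ?_ ?_ ?_
  · intro i j p hp
    apply Subtype.ext
    by_cases hij : i = j
    · subst hij
      rw [if_pos rfl]
      exact PiN_same X Y hψ hp
    · rw [if_neg hij]
      exact PiN_ne X Y hψ (Ne.symm hij) hp
  · intro p
    obtain ⟨s, -, hs⟩ := exists_finset_PiN X Y hψ p.2
    refine ⟨s, ?_⟩
    apply Subtype.ext
    rw [Submodule.coe_sum]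
    exact hs
  · intro i p
    exact PiN_mem X Y hψ i p.1

/-- The carrier of the Segre product. -/
def SegCar (_ : SegCtx 𝒜 ℬ 𝒯 ψ) : Type u := ↥(segSub k X Y)

instance segAcg : AddCommGroup (SegCar X Y hψ) :=
  inferInstanceAs (AddCommGroup ↥(segSub k X Y))

instance segModK : Module k (SegCar X Y hψ) := inferInstanceAs (Module k ↥(segSub k X Y))

instance segModT : Module T (SegCar X Y hψ) :=
  Module.compHom ↥(segSub k X Y) (segRingHom X Y hψ)

theorem smul_val (t : T) (p : SegCar X Y hψ) :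
    (t • p).1 = GrSeg.act k R S X.carrier Y.carrier (ψ t) p.1 := rfl

theorem ksmul_val (c : k) (p : SegCar X Y hψ) : (c • p).1 = c • p.1 := rfl

theorem add_val (p q : SegCar X Y hψ) : (p + q).1 = p.1 + q.1 := rfl

theorem sub_val (p q : SegCar X Y hψ) : (p - q).1 = p.1 - q.1 := rfl

theorem zero_val : (0 : SegCar X Y hψ).1 = 0 := rfl

theorem val_injective : Function.Injective (fun p : SegCar X Y hψ => p.1) :=
  Subtype.val_injective

instance segTower : IsScalarTower k T (SegCar X Y hψ) :=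
  ⟨fun c t p => Subtype.ext (by
    rw [smul_val, ksmul_val, smul_val, map_smul, map_smul, LinearMap.smul_apply])⟩

/-- The pieces of the Segre product as subspaces of its carrier. -/
def segFC (n : ℤ) : Submodule k (SegCar X Y hψ) := segF k X Y n

/-- The decomposition of the Segre product. -/
def segDecomposition : DirectSum.Decomposition (segFC X Y hψ) :=
  (isInternal_segF X Y hψ).chooseDecomposition

theorem seg_gradedSMul : SetLike.GradedSMul 𝒯 (toAS (segFC X Y hψ)) where
  smul_mem := by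
    intro j n t p ht hp
    show GrSeg.act k R S X.carrier Y.carrier (ψ t) p.1 ∈ piece k X Y (j + n)
    exact act_mem_piece X Y (hψ.ψ_mem j t ht) hp

/-- The Segre product `X # Y` as a graded `T`-module. -/
def segG : GrLC.GMod.{u} 𝒯 :=
  letI := segDecomposition X Y hψ
  { carrier := SegCar X Y hψ
    gr := toAS (segFC X Y hψ)
    dec := toASDecomposition (segFC X Y hψ)
    gsmul := seg_gradedSMul X Y hψ }

theorem mem_segG_gr {n : ℤ} {p : (segG X Y hψ).carrier} :
    p ∈ (segG X Y hψ).gr n ↔ p.1 ∈ piece k X Y n := Iff.rfl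

end module

/-! ### Induced maps -/

section maps

variable {X X' X'' : GrLC.GMod.{u} 𝒜} {Y Y' Y'' : GrLC.GMod.{u} ℬ}
  [Module k X.carrier] [IsScalarTower k R X.carrier]
  [Module k Y.carrier] [IsScalarTower k S Y.carrier]
  [Module k X'.carrier] [IsScalarTower k R X'.carrier]
  [Module k Y'.carrier] [IsScalarTower k S Y'.carrier]
  [Module k X''.carrier] [IsScalarTower k R X''.carrier]
  [Module k Y''.carrier] [IsScalarTower k S Y''.carrier]

theorem kmap_mem_piece_deg {f : X.carrier →ₗ[R] X'.carrier} {g : Y.carrier →ₗ[S] Y'.carrier}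
    {e : ℤ} (hf : GrLC.IsGrHomDeg X.gr X'.gr f e) (hg : GrLC.IsGrHomDeg Y.gr Y'.gr g e) {n : ℤ}
    {z : X.carrier ⊗[k] Y.carrier} (hz : z ∈ piece k X Y n) :
    kmap f g z ∈ piece k X' Y' (n + e) := by
  refine piece_induction X.gr Y.gr (P := fun z => kmap f g z ∈ piece k X' Y' (n + e))
    ?_ ?_ ?_ ?_ hz
  · intro m hm y hy
    exact tmul_mem_piece X'.gr Y'.gr (hf n m hm) (hg n y hy)
  · rw [map_zero]; exact zero_mem _
  · intro z z' h h'
    rw [map_add]; exact add_mem h h'
  · intro c z h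
    rw [map_smul]; exact Submodule.smul_mem _ c h

theorem kmap_mem_piece {f : X.carrier →ₗ[R] X'.carrier} {g : Y.carrier →ₗ[S] Y'.carrier}
    (hf : GrLC.IsGrHom X.gr X'.gr f) (hg : GrLC.IsGrHom Y.gr Y'.gr g) {n : ℤ}
    {z : X.carrier ⊗[k] Y.carrier} (hz : z ∈ piece k X Y n) : kmap f g z ∈ piece k X' Y' n := by
  refine piece_induction X.gr Y.gr (P := fun z => kmap f g z ∈ piece k X' Y' n) ?_ ?_ ?_ ?_ hz
  · intro m hm y hy
    exact tmul_mem_piece X'.gr Y'.gr (hf n m hm) (hg n y hy)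
  · rw [map_zero]; exact zero_mem _
  · intro z z' h h'
    rw [map_add]; exact add_mem h h'
  · intro c z h
    rw [map_smul]; exact Submodule.smul_mem _ c h

theorem kmap_mem_segSub_of {f : X.carrier →ₗ[R] X'.carrier} {g : Y.carrier →ₗ[S] Y'.carrier}
    (H : ∀ n, ∀ z ∈ piece k X Y n, kmap f g z ∈ segSub k X' Y') {z : X.carrier ⊗[k] Y.carrier}
    (hz : z ∈ segSub k X Y) : kmap f g z ∈ segSub k X' Y' := by
  refine Submodule.iSup_induction (piece k X Y) (motive := fun z => kmap f g z ∈ segSub k X' Y')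
    hz H ?_ ?_
  · rw [map_zero]; exact zero_mem _
  · intro z z' h h'
    rw [map_add]; exact add_mem h h'

variable (hψ : SegCtx 𝒜 ℬ 𝒯 ψ)

/-- The `T`-linear map induced by a pair of maps preserving the Segre products. -/
def segMapH (f : X.carrier →ₗ[R] X'.carrier) (g : Y.carrier →ₗ[S] Y'.carrier)
    (H : ∀ z ∈ segSub k X Y, kmap f g z ∈ segSub k X' Y') :
    SegCar X Y hψ →ₗ[T] SegCar X' Y' hψ where
  toFun p := ⟨kmap f g p.1, H p.1 p.2⟩
  map_add' p q := Subtype.ext (map_add _ _ _)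
  map_smul' t p := Subtype.ext (kmap_act f g (ψ t) p.1)

theorem segMapH_val (f : X.carrier →ₗ[R] X'.carrier) (g : Y.carrier →ₗ[S] Y'.carrier)
    (H : ∀ z ∈ segSub k X Y, kmap f g z ∈ segSub k X' Y') (p : SegCar X Y hψ) :
    (segMapH hψ f g H p).1 = kmap f g p.1 := rfl

/-- The map induced by a pair of homogeneous maps. -/
def segMap₀ (f : X.carrier →ₗ[R] X'.carrier) (g : Y.carrier →ₗ[S] Y'.carrier)
    (hf : GrLC.IsGrHom X.gr X'.gr f) (hg : GrLC.IsGrHom Y.gr Y'.gr g) :
    SegCar X Y hψ →ₗ[T] SegCar X' Y' hψ :=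
  segMapH hψ f g (fun _ hz => kmap_mem_segSub_of
    (fun n _ hzn => piece_le_segSub X' Y' n (kmap_mem_piece hf hg hzn)) hz)

theorem segMap₀_val (f : X.carrier →ₗ[R] X'.carrier) (g : Y.carrier →ₗ[S] Y'.carrier)
    (hf : GrLC.IsGrHom X.gr X'.gr f) (hg : GrLC.IsGrHom Y.gr Y'.gr g)
    (p : SegCar X Y hψ) :
    (segMap₀ hψ f g hf hg p).1 = kmap f g p.1 := rfl

theorem segMap₀_grHom (f : X.carrier →ₗ[R] X'.carrier) (g : Y.carrier →ₗ[S] Y'.carrier)
    (hf : GrLC.IsGrHom X.gr X'.gr f) (hg : GrLC.IsGrHom Y.gr Y'.gr g) :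
    GrLC.IsGrHom (segG X Y hψ).gr (segG X' Y' hψ).gr (segMap₀ hψ f g hf hg) :=
  fun _ _ hp => kmap_mem_piece hf hg hp

/-- The map induced by a pair of maps homogeneous of one degree. -/
def segMapD (f : X.carrier →ₗ[R] X'.carrier) (g : Y.carrier →ₗ[S] Y'.carrier) (e : ℤ)
    (hf : GrLC.IsGrHomDeg X.gr X'.gr f e) (hg : GrLC.IsGrHomDeg Y.gr Y'.gr g e) :
    SegCar X Y hψ →ₗ[T] SegCar X' Y' hψ :=
  segMapH hψ f g (fun _ hz => kmap_mem_segSub_of
    (fun n _ hzn => piece_le_segSub X' Y' (n + e) (kmap_mem_piece_deg hf hg hzn)) hz)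

theorem segMapD_val (f : X.carrier →ₗ[R] X'.carrier) (g : Y.carrier →ₗ[S] Y'.carrier) (e : ℤ)
    (hf : GrLC.IsGrHomDeg X.gr X'.gr f e) (hg : GrLC.IsGrHomDeg Y.gr Y'.gr g e)
    (p : SegCar X Y hψ) :
    (segMapD hψ f g e hf hg p).1 = kmap f g p.1 := rfl

theorem segMapD_grHomDeg (f : X.carrier →ₗ[R] X'.carrier) (g : Y.carrier →ₗ[S] Y'.carrier)
    (e : ℤ) (hf : GrLC.IsGrHomDeg X.gr X'.gr f e) (hg : GrLC.IsGrHomDeg Y.gr Y'.gr g e) :
    GrLC.IsGrHomDeg (segG X Y hψ).gr (segG X' Y' hψ).gr (segMapD hψ f g e hf hg) e :=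
  fun _ _ hp => kmap_mem_piece_deg hf hg hp

end maps

end Groth.Agent.Lib.R2H7.SegPres
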