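/-
"Special" *injective resolutions: every term splits into an `a`-torsion summand and summands on
which one of finitely many homogeneous elements `x i ∈ a` (generating `a` up to radical) acts with
a homogeneous retraction.
-/
import Mathlib
import Groth.Agent.Lib.R2H7SegIdem
import Groth.Agent.Lib.R2H7GrMinRes
import Groth.Agent.Lib.R2H7GrSerre

set_option autoImplicit false
open DirectSum

noncomputable section

namespace Groth.Agent.Lib.R2H7.SegSpecial

open Groth.Agent.Lib.Helper29GrCompare Groth.Agent.Lib.Helper29GrHom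
  Groth.Agent.Lib.Helper29GrGam Groth.Agent.Lib.Helper29GrSub Groth.Agent.Lib.Helper29GrEss
  Groth.Agent.Lib.R2H7.GrDer Groth.Agent.Lib.R2H7.GrOps Groth.Agent.Lib.R2H7.GrTors
  Groth.Agent.Lib.R2H7.GrMinRes Groth.Agent.Lib.R2H7.SegSum Groth.Agent.Lib.R2H7.SegIdem

universe u

variable {ι : Type} [AddCommGroup ι] [DecidableEq ι]
variable {R : Type u} [CommRing R] {𝒜 : ι → AddSubgroup R} [GradedRing 𝒜]

/-! ### Lemmas on *essential extensions -/

theorem exists_pow_kills_of_fg {M : Type u} [AddCommGroup M] [Module R M] (I : Ideal R)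
    (K : Submodule R M) (hfg : K.FG) (h : ∀ κ ∈ K, κ ∈ GrLC.gam I M) :
    ∃ n : ℕ, ∀ r ∈ I ^ n, ∀ κ ∈ K, r • κ = 0 := by
  classical
  obtain ⟨S, hS⟩ := hfg
  have h' : ∀ κ ∈ S, ∃ n : ℕ, ∀ r ∈ I ^ n, r • κ = 0 := fun κ hκ =>
    h κ (hS ▸ Submodule.subset_span hκ)
  choose! n hn using h'
  refine ⟨S.sup n, fun r hr κ hκ => ?_⟩
  rw [← hS] at hκ
  refine Submodule.span_induction (p := fun κ _ => r • κ = 0) ?_ ?_ ?_ ?_ hκ
  · intro κ hκS
    exact hn κ hκS r (Ideal.pow_le_pow_right (Finset.le_sup hκS) hr)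
  · exact smul_zero r
  · intro x y _ _ hx hy
    rw [smul_add, hx, hy, add_zero]
  · intro c x _ hx
    rw [smul_comm, hx, smul_zero]

/-- A *essential extension of an `a`-torsion graded module is `a`-torsion. -/
theorem gam_of_ess [IsNoetherianRing R] (a : HomogeneousIdeal 𝒜) {M L : GrLC.GMod.{u} 𝒜}
    (f : M.carrier →ₗ[R] L.carrier) (hf : GrLC.IsStarEss M.gr L.gr f)
    (hM : ∀ m : M.carrier, m ∈ GrLC.gam a.toIdeal M.carrier) (u : L.carrier) :
    u ∈ GrLC.gam a.toIdeal L.carrier := by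
  classical
  have hN : (LinearMap.range f).IsHomogeneous L.gr := range_isHomogeneous L.gr M.gr f hf.grHom
  have hom : ∀ g, ∀ u ∈ L.gr g, u ∈ GrLC.gam a.toIdeal L.carrier := by
    intro g u hu
    haveI : Module.Finite R ↥(Submodule.span R {u}) := Module.Finite.span_singleton R u
    have hKtors : ∀ κ ∈ (LinearMap.range f).comap (Submodule.span R {u}).subtype,
        κ ∈ GrLC.gam a.toIdeal ↥(Submodule.span R {u}) := by
      rintro κ ⟨m, hm⟩
      obtain ⟨n, hn⟩ := hM m
      refine ⟨n, fun r hr => ?_⟩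
      apply Subtype.ext
      show r • (κ : L.carrier) = 0
      have hκ : (κ : L.carrier) = f m := hm.symm
      rw [hκ, ← map_smul, hn r hr, map_zero]
    obtain ⟨n₀, hn₀⟩ := exists_pow_kills_of_fg a.toIdeal _ (IsNoetherian.noetherian _) hKtors
    obtain ⟨c, hc⟩ := Ideal.exists_pow_inf_eq_pow_smul a.toIdeal
      ((LinearMap.range f).comap (Submodule.span R {u}).subtype)
    have hzero : a.toIdeal ^ (c + n₀) • (⊤ : Submodule R ↥(Submodule.span R {u})) ⊓
        (LinearMap.range f).comap (Submodule.span R {u}).subtype = ⊥ := by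
      rw [hc (c + n₀) (Nat.le_add_right c n₀), Nat.add_sub_cancel_left, eq_bot_iff]
      refine Submodule.smul_le.mpr ?_
      intro r hr κ hκ
      rw [Submodule.mem_bot]
      exact hn₀ r hr κ hκ.2
    refine ⟨c + n₀, fun r hr => ?_⟩
    have hpow := pow_isHomogeneous 𝒜 a (c + n₀)
    rw [← DirectSum.sum_support_decompose 𝒜 r, Finset.sum_smul]
    refine Finset.sum_eq_zero fun j _ => ?_
    by_contra hne
    have hrj : ((DirectSum.decompose 𝒜 r) j : R) ∈ a.toIdeal ^ (c + n₀) := hpow j hr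
    have hdeg : ((DirectSum.decompose 𝒜 r) j : R) • u ∈ L.gr (j + g) := by
      have := SetLike.GradedSMul.smul_mem (A := 𝒜) (B := L.gr)
        (SetLike.coe_mem ((DirectSum.decompose 𝒜 r) j)) hu
      rwa [vadd_eq_add] at this
    obtain ⟨h, r', _, hr'0, hr'N⟩ := exists_smul_mem_of_homogeneous 𝒜 L.gr (LinearMap.range f) hN
      hf.essential hdeg hne
    have hκ : ((r' * ((DirectSum.decompose 𝒜 r) j : R)) •
        (⟨u, Submodule.mem_span_singleton_self u⟩ : ↥(Submodule.span R {u}))) ∈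
        (⊥ : Submodule R ↥(Submodule.span R {u})) := by
      rw [← hzero]
      refine ⟨Submodule.smul_mem_smul (Ideal.mul_mem_left _ r' hrj) Submodule.mem_top, ?_⟩
      show (r' * ((DirectSum.decompose 𝒜 r) j : R)) • u ∈ LinearMap.range f
      rw [mul_smul]
      exact hr'N
    apply hr'0
    have := congrArg Subtype.val ((Submodule.mem_bot R).mp hκ)
    rw [← mul_smul]
    exact this
  rw [← DirectSum.sum_support_decompose L.gr u]
  exact sum_mem fun g _ => hom g _ (SetLike.coe_mem _)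

/-- Multiplication by a homogeneous element stays injective on a *essential extension. -/
theorem smul_inj_of_ess {M L : GrLC.GMod.{u} 𝒜} (f : M.carrier →ₗ[R] L.carrier)
    (hf : GrLC.IsStarEss M.gr L.gr f) {e : ι} {x : R} (hx : x ∈ 𝒜 e)
    (hM : ∀ m : M.carrier, x • m = 0 → m = 0) (u : L.carrier) (hu : x • u = 0) : u = 0 := by
  classical
  by_contra hne
  have hK : (LinearMap.ker (LinearMap.lsmul R L.carrier x)).IsHomogeneous L.gr := by
    intro g v hv
    rw [LinearMap.mem_ker, LinearMap.lsmul_apply] at hv ⊢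
    have h1 := decompose_smul_of_mem 𝒜 L.gr hx v (g + e)
    rw [add_sub_cancel_right, hv, DirectSum.decompose_zero, DirectSum.zero_apply,
      ZeroMemClass.coe_zero] at h1
    exact h1.symm
  have hKne : LinearMap.ker (LinearMap.lsmul R L.carrier x) ≠ ⊥ := by
    intro hbot
    apply hne
    have : u ∈ LinearMap.ker (LinearMap.lsmul R L.carrier x) := by
      rw [LinearMap.mem_ker, LinearMap.lsmul_apply]
      exact hu
    rw [hbot] at this
    exact (Submodule.mem_bot R).mp this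
  obtain ⟨v, hv, hv0⟩ := Submodule.exists_mem_ne_zero_of_ne_bot (hf.essential _ hK hKne)
  obtain ⟨hv1, m, rfl⟩ := hv
  have hv1' : (LinearMap.lsmul R L.carrier x) (f m) = 0 := hv1
  rw [LinearMap.lsmul_apply, ← map_smul] at hv1'
  have h2 : x • m = 0 := (map_eq_zero_iff _ hf.injective).mp hv1'
  apply hv0
  rw [hM m h2, map_zero]

/-- A homogeneous nonzerodivisor on a *injective module has a homogeneous retraction. -/
theorem exists_retract {Z : GrLC.GMod.{u} 𝒜} (hZ : GrLC.IsStarInj 𝒜 Z.gr) {e : ι} {x : R}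
    (hx : x ∈ 𝒜 e) (hinj : ∀ u : Z.carrier, x • u = 0 → u = 0) :
    ∃ η : Z.carrier →ₗ[R] Z.carrier, GrLC.IsGrHomDeg Z.gr Z.gr η (-e) ∧ ∀ u, η (x • u) = u := by
  have hmi : Function.Injective (mulG Z e x) :=
    (injective_iff_map_eq_zero _).mpr (fun u hu => hinj u hu)
  obtain ⟨h, hh, hcomp⟩ := isStarInj_shift hZ (-e) (shiftG Z (-e)) Z (mulG Z e x)
    (mulG_grHom hx) hmi LinearMap.id (fun _ _ hm => hm)
  exact ⟨h, fun g m hm => hh g m hm, fun u => LinearMap.congr_fun hcomp u⟩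

/-! ### The torsion of one element -/

/-- The elements killed by a power of `y`. -/
def gx (y : R) (M : Type u) [AddCommGroup M] [Module R M] : Submodule R M where
  carrier := {u | ∃ n : ℕ, y ^ n • u = 0}
  zero_mem' := ⟨0, smul_zero _⟩
  add_mem' := by
    rintro u v ⟨n, hn⟩ ⟨m, hm⟩
    refine ⟨n + m, ?_⟩
    have h1 : y ^ (n + m) • u = 0 := by rw [pow_add, mul_comm, mul_smul, hn, smul_zero]
    have h2 : y ^ (n + m) • v = 0 := by rw [pow_add, mul_smul, hm, smul_zero]
    rw [smul_add, h1, h2, add_zero]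
  smul_mem' := by
    rintro c u ⟨n, hn⟩
    exact ⟨n, by rw [smul_comm, hn, smul_zero]⟩

theorem gx_isHomogeneous {D : ι} {y : R} (hy : y ∈ 𝒜 D) (L : GrLC.GMod.{u} 𝒜) :
    (gx y L.carrier).IsHomogeneous L.gr := by
  rintro g u ⟨n, hn⟩
  refine ⟨n, ?_⟩
  have h1 := decompose_smul_of_mem 𝒜 L.gr (SetLike.pow_mem_graded n hy) u (g + n • D)
  rw [add_sub_cancel_right, hn, DirectSum.decompose_zero, DirectSum.zero_apply,
    ZeroMemClass.coe_zero] at h1
  exact h1.symm

/-! ### Special structures -/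

/-- The parameters: a homogeneous ideal `a` and finitely many elements of `a` of one common degree
generating `a` up to radical. -/
structure SpParam (𝒜 : ι → AddSubgroup R) [GradedRing 𝒜] where
  a : HomogeneousIdeal 𝒜
  r : ℕ
  x : Fin r → R
  D : ι
  hxD : ∀ i, x i ∈ 𝒜 D
  hxa : ∀ i, x i ∈ a.toIdeal
  hrad : a.toIdeal ≤ (Ideal.span (Set.range x)).radical

variable (p : SpParam 𝒜)

/-- A special structure on a graded module. -/
structure SpStr (X : GrLC.GMod.{u} 𝒜) where
  ρ : X.carrier →ₗ[R] X.carrier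
  ρc : Fin p.r → (X.carrier →ₗ[R] X.carrier)
  η : Fin p.r → (X.carrier →ₗ[R] X.carrier)
  ρ_gr : GrLC.IsGrHom X.gr X.gr ρ
  ρc_gr : ∀ i, GrLC.IsGrHom X.gr X.gr (ρc i)
  η_gr : ∀ i, GrLC.IsGrHomDeg X.gr X.gr (η i) (-p.D)
  ρ_idem : ∀ u, ρ (ρ u) = ρ u
  ρc_idem : ∀ i u, ρc i (ρc i u) = ρc i u
  sum : ∀ u, ρ u + ∑ i, ρc i u = u
  tors : ∀ u, ρ u ∈ GrLC.gam p.a.toIdeal X.carrier
  η_x : ∀ i u, η i (p.x i • ρc i u) = ρc i u

namespace SpStr

variable {p} {X : GrLC.GMod.{u} 𝒜} (s : SpStr p X)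

theorem ρc_eq_zero_of_pow (i : Fin p.r) : ∀ (n : ℕ) (u : X.carrier), p.x i ^ n • u = 0 →
    s.ρc i u = 0 := by
  intro n
  induction n with
  | zero =>
    intro u hu
    rw [pow_zero, one_smul] at hu
    rw [hu, map_zero]
  | succ n ih =>
    intro u hu
    have h1 : s.ρc i (p.x i • u) = 0 := ih (p.x i • u) (by rw [smul_smul, ← pow_succ]; exact hu)
    rw [map_smul] at h1
    rw [← s.η_x i u, h1, map_zero]

theorem ρc_eq_zero_of_gam (i : Fin p.r) {u : X.carrier}
    (hu : u ∈ GrLC.gam p.a.toIdeal X.carrier) : s.ρc i u = 0 := by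
  obtain ⟨n, hn⟩ := hu
  exact s.ρc_eq_zero_of_pow i n u (hn _ (Ideal.pow_mem_pow (p.hxa i) n))

theorem ρ_eq_self_iff {u : X.carrier} : s.ρ u = u ↔ u ∈ GrLC.gam p.a.toIdeal X.carrier := by
  constructor
  · intro h
    rw [← h]
    exact s.tors u
  · intro h
    have h1 := s.sum u
    rw [Finset.sum_eq_zero (fun i _ => s.ρc_eq_zero_of_gam i h), add_zero] at h1
    exact h1

end SpStr

/-! ### The special envelope -/

section envelope

variable [IsNoetherianRing R] (X : GrLC.GMod.{u} 𝒜)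

/-- The summands of the special envelope. -/
def compG : Option (Fin p.r) → GrLC.GMod.{u} 𝒜
  | none => HX 𝒜 (subG X (GrLC.gam p.a.toIdeal X.carrier) (gam_isHomogeneous 𝒜 X.gr p.a))
  | some i => HX 𝒜 (quotG X (gx (p.x i) X.carrier) (gx_isHomogeneous (p.hxD i) X))

/-- The special envelope. -/
abbrev Sp : GrLC.GMod.{u} 𝒜 := sumG (compG p X)

theorem compG_starInj (j : Option (Fin p.r)) : GrLC.IsStarInj 𝒜 (compG p X j).gr := by
  cases j with
  | none => exact (hj_hull 𝒜 _).starInj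
  | some i => exact (hj_hull 𝒜 _).starInj

theorem sp_starInj : GrLC.IsStarInj 𝒜 (Sp p X).gr := isStarInj_sumG (compG_starInj p X)

theorem exists_cm0 : ∃ h : X.carrier →ₗ[R] (compG p X none).carrier,
    GrLC.IsGrHom X.gr (compG p X none).gr h ∧
      h ∘ₗ (GrLC.gam p.a.toIdeal X.carrier).subtype =
        hj 𝒜 (subG X (GrLC.gam p.a.toIdeal X.carrier) (gam_isHomogeneous 𝒜 X.gr p.a)) :=
  (hj_hull 𝒜 _).starInj (subG X (GrLC.gam p.a.toIdeal X.carrier) (gam_isHomogeneous 𝒜 X.gr p.a))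
    X (GrLC.gam p.a.toIdeal X.carrier).subtype (subtype_grHom X _ _) Subtype.val_injective
    (hj 𝒜 _) (hj_hull 𝒜 _).grHom

/-- The component maps of the embedding into the special envelope. -/
def cm : ∀ j : Option (Fin p.r), X.carrier →ₗ[R] (compG p X j).carrier
  | none => (exists_cm0 p X).choose
  | some i => hj 𝒜 (quotG X (gx (p.x i) X.carrier) (gx_isHomogeneous (p.hxD i) X)) ∘ₗ
      (gx (p.x i) X.carrier).mkQ

theorem cm_grHom (j : Option (Fin p.r)) : GrLC.IsGrHom X.gr (compG p X j).gr (cm p X j) := by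
  cases j with
  | none => exact (exists_cm0 p X).choose_spec.1
  | some i =>
    intro g m hm
    exact (hj_hull 𝒜 _).grHom g _ (mkQ_grHom X _ _ g m hm)

theorem cm_none_of_gam {u : X.carrier} (hu : u ∈ GrLC.gam p.a.toIdeal X.carrier) :
    cm p X none u =
      hj 𝒜 (subG X (GrLC.gam p.a.toIdeal X.carrier) (gam_isHomogeneous 𝒜 X.gr p.a)) ⟨u, hu⟩ :=
  LinearMap.congr_fun (exists_cm0 p X).choose_spec.2 ⟨u, hu⟩

/-- The embedding into the special envelope. -/
def emb : X.carrier →ₗ[R] (Sp p X).carrier := ∑ j, lofG (compG p X) j ∘ₗ cm p X j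

theorem projG_emb (j : Option (Fin p.r)) (u : X.carrier) :
    projG (compG p X) j (emb p X u) = cm p X j u := by
  classical
  unfold emb
  rw [LinearMap.sum_apply, map_sum, Finset.sum_eq_single j]
  · rw [LinearMap.comp_apply, projG_lofG]
  · intro j' _ hj'
    rw [LinearMap.comp_apply]
    exact projG_lofG_ne (compG p X) (Ne.symm hj') _
  · intro h
    exact absurd (Finset.mem_univ j) h

theorem emb_grHom : GrLC.IsGrHom X.gr (Sp p X).gr (emb p X) := by
  intro g m hm
  unfold emb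
  rw [LinearMap.sum_apply]
  refine sum_mem fun j _ => ?_
  rw [LinearMap.comp_apply]
  exact lofG_grHom (compG p X) j g _ (cm_grHom p X j g m hm)

theorem emb_injective : Function.Injective (emb p X) := by
  refine (injective_iff_map_eq_zero _).mpr (fun u hu => ?_)
  have hcomp : ∀ j, cm p X j u = 0 := fun j => by rw [← projG_emb, hu, map_zero]
  have hx : ∀ y ∈ Set.range p.x, ∃ n : ℕ, y ^ n • u = 0 := by
    rintro _ ⟨i, rfl⟩
    have h1 : hj 𝒜 (quotG X (gx (p.x i) X.carrier) (gx_isHomogeneous (p.hxD i) X))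
        ((gx (p.x i) X.carrier).mkQ u) = 0 := hcomp (some i)
    have h2 : (gx (p.x i) X.carrier).mkQ u = 0 :=
      (map_eq_zero_iff _ (hj_hull 𝒜 _).injective).mp h1
    exact (Submodule.Quotient.mk_eq_zero _).mp h2
  have hgam : u ∈ GrLC.gam p.a.toIdeal X.carrier :=
    mem_gam_of_forall_pow p.a.toIdeal (Set.range p.x) p.hrad
      ((isNoetherianRing_iff_ideal_fg R).mp inferInstance _) u hx
  have h3 := hcomp none
  rw [cm_none_of_gam p X hgam] at h3
  have h4 : (⟨u, hgam⟩ : ↥(GrLC.gam p.a.toIdeal X.carrier)) = 0 :=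
    (map_eq_zero_iff _ (hj_hull 𝒜 _).injective).mp h3
  exact congrArg Subtype.val h4

theorem compG_none_tors (v : (compG p X none).carrier) :
    v ∈ GrLC.gam p.a.toIdeal (compG p X none).carrier := by
  have h1 : ∀ m : (subG X (GrLC.gam p.a.toIdeal X.carrier)
      (gam_isHomogeneous 𝒜 X.gr p.a)).carrier, m ∈ GrLC.gam p.a.toIdeal
        (subG X (GrLC.gam p.a.toIdeal X.carrier) (gam_isHomogeneous 𝒜 X.gr p.a)).carrier :=
    fun m => (mem_gam_sub p.a.toIdeal (GrLC.gam p.a.toIdeal X.carrier) m).mpr m.2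
  exact gam_of_ess p.a (hj 𝒜 _) (hj_hull 𝒜 _).toIsStarEss h1 v

theorem compG_some_inj (i : Fin p.r) (v : (compG p X (some i)).carrier) (hv : p.x i • v = 0) :
    v = 0 := by
  refine smul_inj_of_ess (hj 𝒜 _) (hj_hull 𝒜 _).toIsStarEss (p.hxD i) ?_ v hv
  intro m hm
  obtain ⟨w, rfl⟩ := Submodule.mkQ_surjective _ m
  have hm' : (gx (p.x i) X.carrier).mkQ (p.x i • w) = 0 := by
    rw [map_smul]
    exact hm
  have h1 : p.x i • w ∈ gx (p.x i) X.carrier := (Submodule.Quotient.mk_eq_zero _).mp hm'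
  obtain ⟨n, hn⟩ := h1
  refine (Submodule.Quotient.mk_eq_zero _).mpr ⟨n + 1, ?_⟩
  rw [pow_succ, mul_smul]
  exact hn

theorem exists_η (i : Fin p.r) : ∃ η : (compG p X (some i)).carrier →ₗ[R]
    (compG p X (some i)).carrier, GrLC.IsGrHomDeg (compG p X (some i)).gr
      (compG p X (some i)).gr η (-p.D) ∧ ∀ v, η (p.x i • v) = v :=
  exists_retract (compG_starInj p X (some i)) (p.hxD i) (compG_some_inj p X i)

/-- The special structure of the special envelope. -/
def spStr : SpStr p (Sp p X) where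
  ρ := lofG (compG p X) none ∘ₗ projG (compG p X) none
  ρc i := lofG (compG p X) (some i) ∘ₗ projG (compG p X) (some i)
  η i := lofG (compG p X) (some i) ∘ₗ (exists_η p X i).choose ∘ₗ projG (compG p X) (some i)
  ρ_gr := fun g m hm => lofG_grHom _ _ g _ (projG_grHom _ _ g m hm)
  ρc_gr := fun i g m hm => lofG_grHom _ _ g _ (projG_grHom _ _ g m hm)
  η_gr := fun i g m hm =>
    lofG_grHom _ _ _ _ ((exists_η p X i).choose_spec.1 g _ (projG_grHom _ _ g m hm))
  ρ_idem := fun u => by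
    rw [LinearMap.comp_apply, LinearMap.comp_apply, projG_lofG]
  ρc_idem := fun i u => by
    rw [LinearMap.comp_apply, LinearMap.comp_apply, projG_lofG]
  sum := fun u => by
    have h := sum_lofG_projG (Y := compG p X) u
    rw [Fintype.sum_option] at h
    exact h
  tors := fun u => by
    show lofG (compG p X) none (projG (compG p X) none u) ∈ _
    exact gam_map _ _ (compG_none_tors p X _)
  η_x := fun i u => by
    rw [LinearMap.comp_apply, LinearMap.comp_apply, LinearMap.comp_apply, map_smul, projG_lofG,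
      (exists_η p X i).choose_spec.2]

end envelope

/-! ### The special resolution -/

section resolution

variable [IsNoetherianRing R]

/-- The cokernel of the embedding into the special envelope. -/
def nextS (Y : GrLC.GMod.{u} 𝒜) : GrLC.GMod.{u} 𝒜 :=
  quotG (Sp p Y) (LinearMap.range (emb p Y))
    (range_isHomogeneous (Sp p Y).gr Y.gr (emb p Y) (emb_grHom p Y))

/-- The modules to embed. -/
def YseqS (Y₀ : GrLC.GMod.{u} 𝒜) : ℕ → GrLC.GMod.{u} 𝒜
  | 0 => Y₀
  | n + 1 => nextS p (YseqS Y₀ n)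

/-- The projection onto the cokernel. -/
def piS (Y : GrLC.GMod.{u} 𝒜) : (Sp p Y).carrier →ₗ[R] (nextS p Y).carrier :=
  (LinearMap.range (emb p Y)).mkQ

theorem piS_grHom (Y : GrLC.GMod.{u} 𝒜) : GrLC.IsGrHom (Sp p Y).gr (nextS p Y).gr (piS p Y) :=
  fun _ a ha => ⟨a, ha, rfl⟩

theorem piS_surjective (Y : GrLC.GMod.{u} 𝒜) : Function.Surjective (piS p Y) :=
  Submodule.mkQ_surjective _

theorem ker_piS (Y : GrLC.GMod.{u} 𝒜) : LinearMap.ker (piS p Y) = LinearMap.range (emb p Y) :=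
  Submodule.ker_mkQ _

/-- One step of the differential. -/
def dS (Y : GrLC.GMod.{u} 𝒜) : (Sp p Y).carrier →ₗ[R] (Sp p (nextS p Y)).carrier :=
  emb p (nextS p Y) ∘ₗ piS p Y

theorem dS_grHom (Y : GrLC.GMod.{u} 𝒜) :
    GrLC.IsGrHom (Sp p Y).gr (Sp p (nextS p Y)).gr (dS p Y) :=
  fun g m hm => emb_grHom p _ g _ (piS_grHom p Y g m hm)

theorem ker_dS (Y : GrLC.GMod.{u} 𝒜) : LinearMap.ker (dS p Y) = LinearMap.range (emb p Y) := by
  rw [dS, LinearMap.ker_comp_of_ker_eq_bot _ (LinearMap.ker_eq_bot.mpr (emb_injective p _)),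
    ker_piS]

theorem range_dS (Y : GrLC.GMod.{u} 𝒜) :
    LinearMap.range (dS p Y) = LinearMap.range (emb p (nextS p Y)) := by
  rw [dS, LinearMap.range_comp_of_range_eq_top _
    (LinearMap.range_eq_top.mpr (piS_surjective p _))]

/-- The special resolution. -/
def spRes (X : GrLC.GMod.{u} 𝒜) : GrLC.StarInjRes 𝒜 X.gr where
  X n := Sp p (YseqS p X n)
  d n := dS p (YseqS p X n)
  ε := emb p X
  d_grHom n := dS_grHom p _
  ε_grHom := emb_grHom p X
  ε_injective := emb_injective p X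
  exact_zero := ker_dS p X
  exact_succ n := (ker_dS p _).trans (range_dS p _).symm
  starInj n := sp_starInj p _

/-- The special structures on the terms. -/
def spResStr (X : GrLC.GMod.{u} 𝒜) (n : ℕ) : SpStr p ((spRes p X).X n) := spStr p (YseqS p X n)

end resolution

/-! ### Parameters for the irrelevant ideal -/

section irrelevant

variable {R' : Type u} [CommRing R'] {𝒜' : ℤ → AddSubgroup R'} [GradedRing 𝒜']

theorem exists_spParam [IsNoetherianRing R'] (a : HomogeneousIdeal 𝒜')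
    (ha : a.toIdeal = Ideal.span (⋃ n ∈ Set.Ioi (0 : ℤ), (𝒜' n : Set R'))) :
    ∃ p : SpParam 𝒜', p.a = a ∧ 0 < p.D := by
  classical
  obtain ⟨xs, deg, hdeg, hpos, hgen⟩ := GrSerre.exists_gens_deg (𝒜 := 𝒜')
  have hD : 0 < (xs.map deg).prod := by
    apply List.prod_pos
    intro d hd
    obtain ⟨y, hy, rfl⟩ := List.mem_map.mp hd
    exact hpos y hy
  have hdvd : ∀ y ∈ xs, deg y ∣ (xs.map deg).prod := fun y hy =>
    List.dvd_prod (List.mem_map_of_mem hy)
  have hmemD : ∀ y ∈ xs, y ^ ((xs.map deg).prod / deg y).toNat ∈ 𝒜' (xs.map deg).prod := by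
    intro y hy
    have h1 := SetLike.pow_mem_graded ((xs.map deg).prod / deg y).toNat (hdeg y hy)
    have h2 : ((xs.map deg).prod / deg y).toNat • deg y = (xs.map deg).prod := by
      rw [nsmul_eq_mul, Int.toNat_of_nonneg (Int.ediv_nonneg hD.le (hpos y hy).le),
        Int.ediv_mul_cancel (hdvd y hy)]
    rwa [h2] at h1
  have hIoi : ∀ k : ℤ, 0 < k → ∀ r ∈ 𝒜' k, r ∈ a.toIdeal := by
    intro k hk r hr
    rw [ha]
    refine Ideal.subset_span ?_
    simp only [Set.mem_iUnion, Set.mem_Ioi]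
    exact ⟨k, hk, hr⟩
  refine ⟨⟨a, xs.length, fun i => (xs.get i) ^ ((xs.map deg).prod / deg (xs.get i)).toNat,
    (xs.map deg).prod, fun i => hmemD _ (List.get_mem xs i),
    fun i => hIoi _ hD _ (hmemD _ (List.get_mem xs i)), ?_⟩, rfl, hD⟩
  rw [ha]
  refine Ideal.span_le.mpr ?_
  intro r hr
  simp only [Set.mem_iUnion, Set.mem_Ioi] at hr
  obtain ⟨k, hk, hrk⟩ := hr
  have h1 : r ∈ Ideal.span {y | y ∈ xs} := hgen k hk r hrk
  have h2 : Ideal.span {y | y ∈ xs} ≤
      (Ideal.span (Set.range fun i => (xs.get i) ^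
        ((xs.map deg).prod / deg (xs.get i)).toNat)).radical := by
    refine Ideal.span_le.mpr ?_
    intro y hy
    obtain ⟨i, rfl⟩ := List.mem_iff_get.mp hy
    exact ⟨_, Ideal.subset_span ⟨i, rfl⟩⟩
  exact h2 h1

end irrelevant

end Groth.Agent.Lib.R2H7.SegSpecial
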