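/-
Torsion in Segre products of special modules: the `T_+`-torsion of `X # Y` is cut out by the
torsion idempotents of `X` and `Y`, and the ranges of homogeneous idempotents commuting with the
structure are acyclic for the torsion functor.
-/
import Mathlib
import Groth.Agent.Lib.R2H7SegPres
import Groth.Agent.Lib.R2H7SegSpecial

set_option autoImplicit false
open DirectSum
open scoped TensorProduct

noncomputable section

namespace Groth.Agent.Lib.R2H7.SegTors

open Groth.Agent.Lib.Helper29GrEss Groth.Agent.Lib.R2H7.GrBdry Groth.Agent.Lib.R2H7.GrDer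
  Groth.Agent.Lib.R2H7.SegPres Groth.Agent.Lib.R2H7.SegSpecial Groth.Agent.Lib.R2H7.SegIdem

universe u

variable {k : Type u} [Field k] {R S T : Type u} [CommRing R] [CommRing S] [CommRing T]
  [Algebra k R] [Algebra k S] [Algebra k T]

/-! ### Filtrations of `R ⊗ S` killing tensors -/

section filt

variable (𝒯 : ℤ → AddSubgroup T) (ψ : T →ₐ[k] R ⊗[k] S)

/-- A multiplicative decreasing filtration of `R ⊗ S` by subspaces containing the image of the
positive degree part of `T` in its first step. -/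
structure KFilt (K : ℕ → Submodule k (R ⊗[k] S)) : Prop where
  one_mem : (1 : R ⊗[k] S) ∈ K 0
  mul_mem : ∀ n x y, x ∈ K n → y ∈ K 1 → x * y ∈ K (n + 1)
  anti : ∀ n n', n ≤ n' → K n' ≤ K n
  ψ_mem : ∀ j : ℤ, 0 < j → ∀ t ∈ 𝒯 j, ψ t ∈ K 1

variable {𝒯 ψ}

theorem KFilt.pow_mem {K : ℕ → Submodule k (R ⊗[k] S)} (hK : KFilt 𝒯 ψ K) {x : R ⊗[k] S}
    (hx : x ∈ K 1) : ∀ n : ℕ, x ^ n ∈ K n
  | 0 => by rw [pow_zero]; exact hK.one_mem
  | n + 1 => by rw [pow_succ]; exact hK.mul_mem n _ _ (KFilt.pow_mem hK hx n) hx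

theorem KFilt.inf {K K' : ℕ → Submodule k (R ⊗[k] S)} (hK : KFilt 𝒯 ψ K)
    (hK' : KFilt 𝒯 ψ K') : KFilt 𝒯 ψ (fun n => K n ⊓ K' n) where
  one_mem := ⟨hK.one_mem, hK'.one_mem⟩
  mul_mem n x y hx hy := ⟨hK.mul_mem n x y hx.1 hy.1, hK'.mul_mem n x y hx.2 hy.2⟩
  anti n n' h := inf_le_inf (hK.anti n n' h) (hK'.anti n n' h)
  ψ_mem j hj t ht := ⟨hK.ψ_mem j hj t ht, hK'.ψ_mem j hj t ht⟩

variable (V W : Type u) [AddCommGroup V] [Module R V] [Module k V] [IsScalarTower k R V]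
  [AddCommGroup W] [Module S W] [Module k W] [IsScalarTower k S W]

/-- An element of `V ⊗ W` killed by some step of the filtration. -/
def Killed (K : ℕ → Submodule k (R ⊗[k] S)) (z : V ⊗[k] W) : Prop :=
  ∃ n : ℕ, ∀ x ∈ K n, GrSeg.act k R S V W x z = 0

variable {V W}

theorem Killed.zero (K : ℕ → Submodule k (R ⊗[k] S)) : Killed V W K 0 :=
  ⟨0, fun x _ => map_zero _⟩

theorem Killed.add {K : ℕ → Submodule k (R ⊗[k] S)} (hanti : ∀ n n', n ≤ n' → K n' ≤ K n)
    {z z' : V ⊗[k] W} (h : Killed V W K z) (h' : Killed V W K z') : Killed V W K (z + z') := by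
  obtain ⟨n, hn⟩ := h
  obtain ⟨n', hn'⟩ := h'
  refine ⟨max n n', fun x hx => ?_⟩
  rw [map_add, hn x (hanti n _ (le_max_left n n') hx), hn' x (hanti n' _ (le_max_right n n') hx),
    add_zero]

theorem Killed.of_le {K K' : ℕ → Submodule k (R ⊗[k] S)} (hle : ∀ n, K' n ≤ K n)
    {z : V ⊗[k] W} (h : Killed V W K z) : Killed V W K' z := by
  obtain ⟨n, hn⟩ := h
  exact ⟨n, fun x hx => hn x (hle n hx)⟩

/-- The filtration by powers of an ideal of `R`. -/
def KL (I : Ideal R) (n : ℕ) : Submodule k (R ⊗[k] S) :=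
  Submodule.span k {x | ∃ a ∈ I ^ n, ∃ b : S, x = a ⊗ₜ[k] b}

/-- The filtration by powers of an ideal of `S`. -/
def KR (J : Ideal S) (n : ℕ) : Submodule k (R ⊗[k] S) :=
  Submodule.span k {x | ∃ a : R, ∃ b ∈ J ^ n, x = a ⊗ₜ[k] b}

theorem KL_anti (I : Ideal R) (n n' : ℕ) (h : n ≤ n') : KL (k := k) (S := S) I n' ≤ KL I n := by
  refine Submodule.span_mono ?_
  rintro _ ⟨a, ha, b, rfl⟩
  exact ⟨a, Ideal.pow_le_pow_right h ha, b, rfl⟩

theorem KR_anti (J : Ideal S) (n n' : ℕ) (h : n ≤ n') : KR (k := k) (R := R) J n' ≤ KR J n := by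
  refine Submodule.span_mono ?_
  rintro _ ⟨a, b, hb, rfl⟩
  exact ⟨a, b, Ideal.pow_le_pow_right h hb, rfl⟩

theorem KL_mul (I : Ideal R) (n : ℕ) (x y : R ⊗[k] S) (hx : x ∈ KL (k := k) (S := S) I n)
    (hy : y ∈ KL (k := k) (S := S) I 1) : x * y ∈ KL (k := k) (S := S) I (n + 1) := by
  refine Submodule.span_induction (p := fun x _ => x * y ∈ KL (k := k) (S := S) I (n + 1))
    ?_ ?_ ?_ ?_ hx
  · rintro _ ⟨a, ha, b, rfl⟩
    refine Submodule.span_induction
      (p := fun y _ => (a ⊗ₜ[k] b) * y ∈ KL (k := k) (S := S) I (n + 1)) ?_ ?_ ?_ ?_ hy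
    · rintro _ ⟨a', ha', b', rfl⟩
      rw [Algebra.TensorProduct.tmul_mul_tmul]
      refine Submodule.subset_span ⟨a * a', ?_, b * b', rfl⟩
      rw [pow_succ]
      rw [pow_one] at ha'
      exact Ideal.mul_mem_mul ha ha'
    · rw [mul_zero]; exact zero_mem _
    · intro y y' _ _ h h'
      rw [mul_add]; exact add_mem h h'
    · intro c y _ h
      rw [Algebra.mul_smul_comm]; exact Submodule.smul_mem _ c h
  · rw [zero_mul]; exact zero_mem _
  · intro x x' _ _ h h'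
    rw [add_mul]; exact add_mem h h'
  · intro c x _ h
    rw [Algebra.smul_mul_assoc]; exact Submodule.smul_mem _ c h

theorem KR_mul (J : Ideal S) (n : ℕ) (x y : R ⊗[k] S) (hx : x ∈ KR (k := k) (R := R) J n)
    (hy : y ∈ KR (k := k) (R := R) J 1) : x * y ∈ KR (k := k) (R := R) J (n + 1) := by
  refine Submodule.span_induction (p := fun x _ => x * y ∈ KR (k := k) (R := R) J (n + 1))
    ?_ ?_ ?_ ?_ hx
  · rintro _ ⟨a, b, hb, rfl⟩
    refine Submodule.span_induction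
      (p := fun y _ => (a ⊗ₜ[k] b) * y ∈ KR (k := k) (R := R) J (n + 1)) ?_ ?_ ?_ ?_ hy
    · rintro _ ⟨a', b', hb', rfl⟩
      rw [Algebra.TensorProduct.tmul_mul_tmul]
      refine Submodule.subset_span ⟨a * a', b * b', ?_, rfl⟩
      rw [pow_succ]
      rw [pow_one] at hb'
      exact Ideal.mul_mem_mul hb hb'
    · rw [mul_zero]; exact zero_mem _
    · intro y y' _ _ h h'
      rw [mul_add]; exact add_mem h h'
    · intro c y _ h
      rw [Algebra.mul_smul_comm]; exact Submodule.smul_mem _ c h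
  · rw [zero_mul]; exact zero_mem _
  · intro x x' _ _ h h'
    rw [add_mul]; exact add_mem h h'
  · intro c x _ h
    rw [Algebra.smul_mul_assoc]; exact Submodule.smul_mem _ c h

end filt

variable {𝒜 : ℤ → AddSubgroup R} [GradedRing 𝒜] {ℬ : ℤ → AddSubgroup S} [GradedRing ℬ]
  {𝒯 : ℤ → AddSubgroup T} [GradedRing 𝒯] {ψ : T →ₐ[k] R ⊗[k] S}

theorem kfilt_KL (hψ : SegCtx 𝒜 ℬ 𝒯 ψ) (I : Ideal R)
    (hI : ∀ j : ℤ, 0 < j → ∀ r ∈ 𝒜 j, r ∈ I) : KFilt 𝒯 ψ (KL (k := k) (S := S) I) where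
  one_mem := by
    rw [Algebra.TensorProduct.one_def]
    refine Submodule.subset_span ⟨1, ?_, 1, rfl⟩
    rw [pow_zero, Ideal.one_eq_top]
    exact Submodule.mem_top
  mul_mem := KL_mul I
  anti := KL_anti I
  ψ_mem := by
    intro j hj t ht
    refine piece_induction 𝒜 ℬ (P := fun x => x ∈ KL (k := k) (S := S) I 1) ?_ (zero_mem _)
      (fun _ _ h h' => add_mem h h') (fun c _ h => Submodule.smul_mem _ c h) (hψ.ψ_mem j t ht)
    intro a ha b _
    refine Submodule.subset_span ⟨a, ?_, b, rfl⟩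
    rw [pow_one]
    exact hI j hj a ha

theorem kfilt_KR (hψ : SegCtx 𝒜 ℬ 𝒯 ψ) (J : Ideal S)
    (hJ : ∀ j : ℤ, 0 < j → ∀ r ∈ ℬ j, r ∈ J) : KFilt 𝒯 ψ (KR (k := k) (R := R) J) where
  one_mem := by
    rw [Algebra.TensorProduct.one_def]
    refine Submodule.subset_span ⟨1, 1, ?_, rfl⟩
    rw [pow_zero, Ideal.one_eq_top]
    exact Submodule.mem_top
  mul_mem := KR_mul J
  anti := KR_anti J
  ψ_mem := by
    intro j hj t ht
    refine piece_induction 𝒜 ℬ (P := fun x => x ∈ KR (k := k) (R := R) J 1) ?_ (zero_mem _)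
      (fun _ _ h h' => add_mem h h') (fun c _ h => Submodule.smul_mem _ c h) (hψ.ψ_mem j t ht)
    intro a _ b hb
    refine Submodule.subset_span ⟨a, b, ?_, rfl⟩
    rw [pow_one]
    exact hJ j hj b hb

section killed

variable {V V' W W' : Type u} [AddCommGroup V] [Module R V] [Module k V] [IsScalarTower k R V]
  [AddCommGroup W] [Module S W] [Module k W] [IsScalarTower k S W]
  [AddCommGroup V'] [Module R V'] [Module k V'] [IsScalarTower k R V']
  [AddCommGroup W'] [Module S W'] [Module k W'] [IsScalarTower k S W']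

theorem killed_left (I : Ideal R) (ρ : V →ₗ[R] V') (hρ : ∀ v, ρ v ∈ GrLC.gam I V')
    (g : W →ₗ[S] W') (z : V ⊗[k] W) : Killed V' W' (KL (k := k) (S := S) I) (kmap ρ g z) := by
  induction z using TensorProduct.induction_on with
  | zero => rw [map_zero]; exact Killed.zero _
  | tmul v w =>
    obtain ⟨n, hn⟩ := hρ v
    refine ⟨n, fun x hx => ?_⟩
    refine Submodule.span_induction
      (p := fun x _ => GrSeg.act k R S V' W' x (kmap ρ g (v ⊗ₜ[k] w)) = 0) ?_ ?_ ?_ ?_ hx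
    · rintro _ ⟨a, ha, b, rfl⟩
      rw [kmap_tmul, GrSeg.act_tmul, hn a ha, TensorProduct.zero_tmul]
    · rw [map_zero, LinearMap.zero_apply]
    · intro x x' _ _ h h'
      rw [map_add, LinearMap.add_apply, h, h', add_zero]
    · intro c x _ h
      rw [map_smul, LinearMap.smul_apply, h, smul_zero]
  | add z z' h h' => rw [map_add]; exact Killed.add (KL_anti I) h h'

theorem killed_right (J : Ideal S) (f : V →ₗ[R] V') (ρ : W →ₗ[S] W')
    (hρ : ∀ w, ρ w ∈ GrLC.gam J W') (z : V ⊗[k] W) :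
    Killed V' W' (KR (k := k) (R := R) J) (kmap f ρ z) := by
  induction z using TensorProduct.induction_on with
  | zero => rw [map_zero]; exact Killed.zero _
  | tmul v w =>
    obtain ⟨n, hn⟩ := hρ w
    refine ⟨n, fun x hx => ?_⟩
    refine Submodule.span_induction
      (p := fun x _ => GrSeg.act k R S V' W' x (kmap f ρ (v ⊗ₜ[k] w)) = 0) ?_ ?_ ?_ ?_ hx
    · rintro _ ⟨a, b, hb, rfl⟩
      rw [kmap_tmul, GrSeg.act_tmul, hn b hb, TensorProduct.tmul_zero]
    · rw [map_zero, LinearMap.zero_apply]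
    · intro x x' _ _ h h'
      rw [map_add, LinearMap.add_apply, h, h', add_zero]
    · intro c x _ h
      rw [map_smul, LinearMap.smul_apply, h, smul_zero]
  | add z z' h h' => rw [map_add]; exact Killed.add (KR_anti J) h h'

end killed

/-! ### Torsion in Segre products -/

section torsion

variable (hψ : SegCtx 𝒜 ℬ 𝒯 ψ) (mT : HomogeneousIdeal 𝒯)
  (hmT : mT.toIdeal = Ideal.span (⋃ n ∈ Set.Ioi (0 : ℤ), (𝒯 n : Set T)))
variable {X : GrLC.GMod.{u} 𝒜} {Y : GrLC.GMod.{u} ℬ}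
  [Module k X.carrier] [IsScalarTower k R X.carrier]
  [Module k Y.carrier] [IsScalarTower k S Y.carrier]

include hmT in
theorem mem_gam_of_killed [IsNoetherianRing T] {K : ℕ → Submodule k (R ⊗[k] S)}
    (hK : KFilt 𝒯 ψ K) (p : SegCar X Y hψ) (hp : Killed X.carrier Y.carrier K p.1) :
    p ∈ GrLC.gam mT.toIdeal (SegCar X Y hψ) := by
  obtain ⟨n, hn⟩ := hp
  refine mem_gam_of_forall_pow mT.toIdeal (⋃ n ∈ Set.Ioi (0 : ℤ), (𝒯 n : Set T))
    (by rw [hmT]; exact Ideal.le_radical)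
    ((isNoetherianRing_iff_ideal_fg T).mp inferInstance _) p ?_
  intro t ht
  simp only [Set.mem_iUnion, Set.mem_Ioi] at ht
  obtain ⟨j, hj, htj⟩ := ht
  refine ⟨n, Subtype.ext ?_⟩
  rw [smul_val, map_pow]
  exact hn _ (hK.pow_mem (hK.ψ_mem j hj t htj) n)

end torsion

/-! ### Special structures on both factors -/

section special

variable (hψ : SegCtx 𝒜 ℬ 𝒯 ψ) (mT : HomogeneousIdeal 𝒯)
  (hmT : mT.toIdeal = Ideal.span (⋃ n ∈ Set.Ioi (0 : ℤ), (𝒯 n : Set T)))
  (pR : SpParam 𝒜) (pS : SpParam ℬ)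
  (hmR : ∀ j : ℤ, 0 < j → ∀ r ∈ 𝒜 j, r ∈ pR.a.toIdeal)
  (hmS : ∀ j : ℤ, 0 < j → ∀ r ∈ ℬ j, r ∈ pS.a.toIdeal)
  (hD : pS.D = pR.D) (hDpos : 0 < pR.D)
variable {X : GrLC.GMod.{u} 𝒜} {Y : GrLC.GMod.{u} ℬ}
  [Module k X.carrier] [IsScalarTower k R X.carrier]
  [Module k Y.carrier] [IsScalarTower k S Y.carrier]
  (sX : SpStr pR X) (sY : SpStr pS Y)

theorem isGrHom_id_sub {Z : Type u} [AddCommGroup Z] {A : Type u} [CommRing A] [Module A Z]
    (𝒵 : ℤ → AddSubgroup Z) {f : Z →ₗ[A] Z} (hf : GrLC.IsGrHom 𝒵 𝒵 f) :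
    GrLC.IsGrHom 𝒵 𝒵 (LinearMap.id - f) := by
  intro g m hm
  rw [LinearMap.sub_apply, LinearMap.id_apply]
  exact sub_mem hm (hf g m hm)

/-- The three term decomposition of the identity of `X ⊗ Y`. -/
theorem three_terms (z : X.carrier ⊗[k] Y.carrier) :
    z = kmap sX.ρ (LinearMap.id : Y.carrier →ₗ[S] Y.carrier) z +
      kmap (LinearMap.id - sX.ρ) sY.ρ z +
      kmap (LinearMap.id - sX.ρ) (LinearMap.id - sY.ρ) z := by
  induction z using TensorProduct.induction_on with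
  | zero => simp only [map_zero, add_zero]
  | tmul v w =>
    rw [kmap_tmul, kmap_tmul, kmap_tmul, LinearMap.sub_apply, LinearMap.sub_apply,
      LinearMap.id_apply, LinearMap.id_apply, TensorProduct.tmul_sub, TensorProduct.sub_tmul,
      TensorProduct.sub_tmul]
    abel
  | add z z' h h' =>
    simp only [map_add]
    conv_lhs => rw [h, h']
    abel

theorem id_sub_ρ_eq (v : X.carrier) :
    (LinearMap.id - sX.ρ : X.carrier →ₗ[R] X.carrier) v = ∑ i : Fin pR.r, sX.ρc i v := by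
  rw [LinearMap.sub_apply, LinearMap.id_apply]
  exact sub_eq_of_eq_add' (sX.sum v).symm

theorem kmap_compl_eq_sum (z : X.carrier ⊗[k] Y.carrier) :
    kmap (LinearMap.id - sX.ρ) (LinearMap.id - sY.ρ) z =
      ∑ i : Fin pR.r, ∑ j : Fin pS.r, kmap (sX.ρc i) (sY.ρc j) z := by
  induction z using TensorProduct.induction_on with
  | zero => simp only [map_zero, Finset.sum_const_zero]
  | tmul v w =>
    rw [kmap_tmul, id_sub_ρ_eq, id_sub_ρ_eq, TensorProduct.sum_tmul]
    refine Finset.sum_congr rfl fun i _ => ?_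
    rw [TensorProduct.tmul_sum]
    rfl
  | add z z' h h' =>
    simp only [map_add]
    rw [h, h', ← Finset.sum_add_distrib]
    refine Finset.sum_congr rfl fun i _ => ?_
    rw [← Finset.sum_add_distrib]

include hψ hD in
/-- The element of `T` over `x i ⊗ y j`. -/
theorem exists_tz (i : Fin pR.r) (j : Fin pS.r) :
    ∃ t ∈ 𝒯 pR.D, ψ t = pR.x i ⊗ₜ[k] pS.x j :=
  hψ.ψ_surj pR.D _ (tmul_mem_piece 𝒜 ℬ (pR.hxD i) (hD ▸ pS.hxD j))

include hmT hDpos in
theorem mem_mT_of_deg {t : T} (ht : t ∈ 𝒯 pR.D) : t ∈ mT.toIdeal := by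
  rw [hmT]
  refine Ideal.subset_span ?_
  simp only [Set.mem_iUnion, Set.mem_Ioi]
  exact ⟨pR.D, hDpos, ht⟩

/-- The component idempotents. -/
def Eij (i : Fin pR.r) (j : Fin pS.r) : SegCar X Y hψ →ₗ[T] SegCar X Y hψ :=
  segMap₀ hψ (sX.ρc i) (sY.ρc j) (sX.ρc_gr i) (sY.ρc_gr j)

include hD in
/-- The retractions of the multiplications by the `t i j` on the components. -/
def Hij (i : Fin pR.r) (j : Fin pS.r) : SegCar X Y hψ →ₗ[T] SegCar X Y hψ :=
  segMapD hψ (sX.η i) (sY.η j) (-pR.D) (sX.η_gr i) (hD ▸ sY.η_gr j)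

theorem Hij_smul_Eij (i : Fin pR.r) (j : Fin pS.r) {t : T}
    (ht : ψ t = pR.x i ⊗ₜ[k] pS.x j) (p : SegCar X Y hψ) :
    Hij hψ pR pS hD sX sY i j (t • Eij hψ pR pS sX sY i j p) = Eij hψ pR pS sX sY i j p := by
  apply Subtype.ext
  show kmap (sX.η i) (sY.η j) (GrSeg.act k R S X.carrier Y.carrier (ψ t)
    (kmap (sX.ρc i) (sY.ρc j) p.1)) = kmap (sX.ρc i) (sY.ρc j) p.1
  rw [ht]
  generalize p.1 = z
  induction z using TensorProduct.induction_on with
  | zero => simp only [map_zero]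
  | tmul v w =>
    rw [kmap_tmul, GrSeg.act_tmul, kmap_tmul, sX.η_x, sY.η_x]
  | add z z' h h' =>
    simp only [map_add]
    rw [h, h']

include hD in
theorem Eij_eq_zero_of_pow (i : Fin pR.r) (j : Fin pS.r) {t : T}
    (ht : ψ t = pR.x i ⊗ₜ[k] pS.x j) : ∀ (n : ℕ) (p : SegCar X Y hψ),
    t ^ n • Eij hψ pR pS sX sY i j p = 0 → Eij hψ pR pS sX sY i j p = 0 := by
  intro n
  induction n with
  | zero =>
    intro p hp
    rwa [pow_zero, one_smul] at hp
  | succ n ih =>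
    intro p hp
    have h1 : Eij hψ pR pS sX sY i j (t • p) = 0 := by
      apply ih
      rw [map_smul, smul_smul, ← pow_succ]
      exact hp
    rw [map_smul] at h1
    rw [← Hij_smul_Eij hψ pR pS hD sX sY i j ht p, h1, map_zero]

include hmT hmR hmS hDpos hD in
/-- The torsion of the Segre product of two special modules. -/
theorem mem_gam_iff [IsNoetherianRing T] (p : SegCar X Y hψ) :
    p ∈ GrLC.gam mT.toIdeal (SegCar X Y hψ) ↔
      kmap (LinearMap.id - sX.ρ) (LinearMap.id - sY.ρ) p.1 = 0 := by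
  constructor
  · intro hp
    rw [kmap_compl_eq_sum]
    refine Finset.sum_eq_zero fun i _ => Finset.sum_eq_zero fun j _ => ?_
    obtain ⟨t, htD, ht⟩ := exists_tz hψ pR pS hD i j
    have htm : t ∈ mT.toIdeal := mem_mT_of_deg mT hmT pR hDpos htD
    have hE : Eij hψ pR pS sX sY i j p ∈ GrLC.gam mT.toIdeal (SegCar X Y hψ) :=
      gam_map _ _ hp
    obtain ⟨n, hn⟩ := hE
    have h0 := Eij_eq_zero_of_pow hψ pR pS hD sX sY i j ht n p (hn _ (Ideal.pow_mem_pow htm n))
    exact congrArg Subtype.val h0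
  · intro hp
    have hK := (kfilt_KL hψ pR.a.toIdeal hmR).inf (kfilt_KR hψ pS.a.toIdeal hmS)
    refine mem_gam_of_killed hψ mT hmT hK p ?_
    have h3 := three_terms pR pS sX sY p.1
    rw [hp, add_zero] at h3
    rw [h3]
    refine Killed.add hK.anti ?_ ?_
    · exact (killed_left pR.a.toIdeal sX.ρ sX.tors LinearMap.id p.1).of_le (fun n => inf_le_left)
    · exact (killed_right pS.a.toIdeal (LinearMap.id - sX.ρ) sY.ρ sY.tors p.1).of_le
        (fun n => inf_le_right)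

end special

end Groth.Agent.Lib.R2H7.SegTors
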