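/-
Acyclicity for the torsion functor of the ranges of homogeneous idempotents of the Segre product
of two special modules, and special structures on direct sums.
-/
import Mathlib
import Groth.Agent.Lib.R2H7SegTors

set_option autoImplicit false
open DirectSum
open scoped TensorProduct

noncomputable section

namespace Groth.Agent.Lib.R2H7.SegAcyc

open Groth.Agent.Lib.Helper29GrEss Groth.Agent.Lib.R2H7.GrBdry Groth.Agent.Lib.R2H7.GrDer
  Groth.Agent.Lib.R2H7.SegPres Groth.Agent.Lib.R2H7.SegSpecial Groth.Agent.Lib.R2H7.SegIdem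
  Groth.Agent.Lib.R2H7.SegTors Groth.Agent.Lib.R2H7.SegSum

universe u

/-! ### Special structures on direct sums -/

section sum

variable {ι : Type} [AddCommGroup ι] [DecidableEq ι]
variable {R : Type u} [CommRing R] {𝒜 : ι → AddSubgroup R} [GradedRing 𝒜] {p : SpParam 𝒜}
variable {J : Type} [DecidableEq J] {Z : J → GrLC.GMod.{u} 𝒜} (s : ∀ j, SpStr p (Z j))

theorem lmapG_mem_gam (I : Ideal R) (f : ∀ j, (Z j).carrier →ₗ[R] (Z j).carrier)
    (hf : ∀ j x, f j x ∈ GrLC.gam I (Z j).carrier) (u : (sumG Z).carrier) :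
    lmapG f u ∈ GrLC.gam I (sumG Z).carrier := by
  classical
  have hu : u = ∑ j ∈ DFinsupp.support u, lofG Z j (projG Z j u) :=
    (DirectSum.sum_support_of u).symm
  rw [hu, map_sum]
  refine sum_mem fun j _ => ?_
  rw [lmapG_lofG]
  exact gam_map _ _ (hf j _)

/-- The special structure on a direct sum of special modules. -/
def sumStr : SpStr p (sumG Z) where
  ρ := lmapG (fun j => (s j).ρ)
  ρc i := lmapG (fun j => (s j).ρc i)
  η i := lmapG (fun j => (s j).η i)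
  ρ_gr := lmapG_grHom _ (fun j => (s j).ρ_gr)
  ρc_gr i := lmapG_grHom _ (fun j => (s j).ρc_gr i)
  η_gr i := fun g x hx j => (s j).η_gr i g _ (hx j)
  ρ_idem u := ext_projG (fun j => by rw [lmapG_apply, lmapG_apply, (s j).ρ_idem])
  ρc_idem i u := ext_projG (fun j => by rw [lmapG_apply, lmapG_apply, (s j).ρc_idem])
  sum u := ext_projG (fun j => by
    rw [map_add, map_sum, lmapG_apply]
    simp only [lmapG_apply]
    exact (s j).sum (projG Z j u))
  tors u := lmapG_mem_gam p.a.toIdeal _ (fun j x => (s j).tors x) u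
  η_x i u := ext_projG (fun j => by
    rw [lmapG_apply, map_smul, lmapG_apply, (s j).η_x])

theorem sumStr_ρ : (sumStr s).ρ = lmapG (fun j => (s j).ρ) := rfl
theorem sumStr_ρc (i : Fin p.r) : (sumStr s).ρc i = lmapG (fun j => (s j).ρc i) := rfl

end sum

/-! ### Acyclicity -/

section acyc

variable {k : Type u} [Field k] {R S T : Type u} [CommRing R] [CommRing S] [CommRing T]
  [Algebra k R] [Algebra k S] [Algebra k T]
variable {𝒜 : ℤ → AddSubgroup R} [GradedRing 𝒜] {ℬ : ℤ → AddSubgroup S} [GradedRing ℬ]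
  {𝒯 : ℤ → AddSubgroup T} [GradedRing 𝒯] {ψ : T →ₐ[k] R ⊗[k] S}
variable (hψ : SegCtx 𝒜 ℬ 𝒯 ψ) (mT : HomogeneousIdeal 𝒯)
  (hmT : mT.toIdeal = Ideal.span (⋃ n ∈ Set.Ioi (0 : ℤ), (𝒯 n : Set T)))
  (pR : SpParam 𝒜) (pS : SpParam ℬ)
  (hmR : ∀ j : ℤ, 0 < j → ∀ r ∈ 𝒜 j, r ∈ pR.a.toIdeal)
  (hmS : ∀ j : ℤ, 0 < j → ∀ r ∈ ℬ j, r ∈ pS.a.toIdeal)
  (hD : pS.D = pR.D) (hDpos : 0 < pR.D)
variable {X : GrLC.GMod.{u} 𝒜} {Y : GrLC.GMod.{u} ℬ}
  [Module k X.carrier] [IsScalarTower k R X.carrier]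
  [Module k Y.carrier] [IsScalarTower k S Y.carrier]
  (sX : SpStr pR X) (sY : SpStr pS Y)

/-- The projection onto the non-torsion part. -/
def E3 : SegCar X Y hψ →ₗ[T] SegCar X Y hψ :=
  segMap₀ hψ (LinearMap.id - sX.ρ) (LinearMap.id - sY.ρ) (isGrHom_id_sub X.gr sX.ρ_gr)
    (isGrHom_id_sub Y.gr sY.ρ_gr)

theorem E3_val (q : SegCar X Y hψ) :
    (E3 hψ pR pS sX sY q).1 = kmap (LinearMap.id - sX.ρ) (LinearMap.id - sY.ρ) q.1 := rfl

theorem E3_grHom : GrLC.IsGrHom (segG X Y hψ).gr (segG X Y hψ).gr (E3 hψ pR pS sX sY) :=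
  segMap₀_grHom hψ _ _ _ _

theorem Eij_grHom (i : Fin pR.r) (j : Fin pS.r) :
    GrLC.IsGrHom (segG X Y hψ).gr (segG X Y hψ).gr (Eij hψ pR pS sX sY i j) :=
  segMap₀_grHom hψ _ _ _ _

theorem kmap_compl_idem (z : X.carrier ⊗[k] Y.carrier) :
    kmap (LinearMap.id - sX.ρ) (LinearMap.id - sY.ρ)
      (kmap (LinearMap.id - sX.ρ) (LinearMap.id - sY.ρ) z) =
      kmap (LinearMap.id - sX.ρ) (LinearMap.id - sY.ρ) z := by
  induction z using TensorProduct.induction_on with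
  | zero => simp only [map_zero]
  | tmul v w =>
    rw [kmap_tmul, kmap_tmul]
    have h1 : (LinearMap.id - sX.ρ : X.carrier →ₗ[R] X.carrier)
        ((LinearMap.id - sX.ρ : X.carrier →ₗ[R] X.carrier) v) =
        (LinearMap.id - sX.ρ : X.carrier →ₗ[R] X.carrier) v := by
      simp only [LinearMap.sub_apply, LinearMap.id_apply, map_sub, sX.ρ_idem, sub_self, sub_zero]
    have h2 : (LinearMap.id - sY.ρ : Y.carrier →ₗ[S] Y.carrier)
        ((LinearMap.id - sY.ρ : Y.carrier →ₗ[S] Y.carrier) w) =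
        (LinearMap.id - sY.ρ : Y.carrier →ₗ[S] Y.carrier) w := by
      simp only [LinearMap.sub_apply, LinearMap.id_apply, map_sub, sY.ρ_idem, sub_self, sub_zero]
    rw [h1, h2]
  | add z z' h h' =>
    simp only [map_add]
    rw [h, h']

theorem E3_idem (q : SegCar X Y hψ) :
    E3 hψ pR pS sX sY (E3 hψ pR pS sX sY q) = E3 hψ pR pS sX sY q :=
  Subtype.ext (kmap_compl_idem pR pS sX sY q.1)

theorem E3_eq_sum (q : SegCar X Y hψ) :
    E3 hψ pR pS sX sY q = ∑ i : Fin pR.r, ∑ j : Fin pS.r, Eij hψ pR pS sX sY i j q := by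
  apply Subtype.ext
  have h1 : (∑ i : Fin pR.r, ∑ j : Fin pS.r, Eij hψ pR pS sX sY i j q).1 =
      ∑ i : Fin pR.r, ∑ j : Fin pS.r, (Eij hψ pR pS sX sY i j q).1 := by
    have h2 := map_sum (segSub k X Y).subtype
      (fun i : Fin pR.r => ∑ j : Fin pS.r, Eij hψ pR pS sX sY i j q) Finset.univ
    refine Eq.trans h2 (Finset.sum_congr rfl fun i _ => ?_)
    exact map_sum (segSub k X Y).subtype (fun j : Fin pS.r => Eij hψ pR pS sX sY i j q)
      Finset.univ
  rw [h1, E3_val, kmap_compl_eq_sum]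
  rfl

theorem Eij_idem (i : Fin pR.r) (j : Fin pS.r) (q : SegCar X Y hψ) :
    Eij hψ pR pS sX sY i j (Eij hψ pR pS sX sY i j q) = Eij hψ pR pS sX sY i j q := by
  apply Subtype.ext
  show kmap (sX.ρc i) (sY.ρc j) (kmap (sX.ρc i) (sY.ρc j) q.1) = kmap (sX.ρc i) (sY.ρc j) q.1
  generalize q.1 = z
  induction z using TensorProduct.induction_on with
  | zero => simp only [map_zero]
  | tmul v w => rw [kmap_tmul, kmap_tmul, sX.ρc_idem, sY.ρc_idem]
  | add z z' h h' =>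
    simp only [map_add]
    rw [h, h']

include hmT hmR hmS hD hDpos in
/-- The range of a homogeneous idempotent commuting with the structure is acyclic. -/
theorem vanX_range [IsNoetherianRing T] (Pr : SegCar X Y hψ →ₗ[T] SegCar X Y hψ)
    (hPr : GrLC.IsGrHom (segG X Y hψ).gr (segG X Y hψ).gr Pr) (hPrPr : ∀ u, Pr (Pr u) = Pr u)
    (hPrE : ∀ i j u, Pr (Eij hψ pR pS sX sY i j u) = Eij hψ pR pS sX sY i j (Pr u))
    (hPr3 : ∀ u, Pr (E3 hψ pR pS sX sY u) = E3 hψ pR pS sX sY (Pr u)) (l : ℕ) (g : ℤ) :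
    VanX mT (rangeG (X := segG X Y hψ) Pr hPr) (l + 1) g := by
  classical
  let E : Option (Fin pR.r × Fin pS.r) → (SegCar X Y hψ →ₗ[T] SegCar X Y hψ) := fun o =>
    match o with
    | none => (LinearMap.id - E3 hψ pR pS sX sY) ∘ₗ Pr
    | some ij => Eij hψ pR pS sX sY ij.1 ij.2 ∘ₗ Pr
  have hE : ∀ o, GrLC.IsGrHom (segG X Y hψ).gr (segG X Y hψ).gr (E o) := by
    intro o
    cases o with
    | none =>
      intro g m hm
      exact isGrHom_id_sub (segG X Y hψ).gr (E3_grHom hψ pR pS sX sY) g _ (hPr g m hm)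
    | some ij =>
      intro g m hm
      exact Eij_grHom hψ pR pS sX sY ij.1 ij.2 g _ (hPr g m hm)
  refine vanX_range_of_sum (X := segG X Y hψ) mT Pr hPr hPrPr E hE ?_ ?_ ?_
  · intro o u
    cases o with
    | none =>
      show Pr (Pr u - E3 hψ pR pS sX sY (Pr u)) = Pr u - E3 hψ pR pS sX sY (Pr u)
      rw [map_sub, hPr3, hPrPr]
    | some ij =>
      show Pr (Eij hψ pR pS sX sY ij.1 ij.2 (Pr u)) = Eij hψ pR pS sX sY ij.1 ij.2 (Pr u)
      rw [hPrE, hPrPr]
  · intro u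
    rw [Fintype.sum_option, Fintype.sum_prod_type]
    show (Pr u - E3 hψ pR pS sX sY (Pr u)) +
      ∑ i : Fin pR.r, ∑ j : Fin pS.r, Eij hψ pR pS sX sY i j (Pr u) = Pr u
    rw [← E3_eq_sum]
    abel
  · intro o
    cases o with
    | none =>
      refine vanX_range_of_torsion (X := segG X Y hψ) mT (E none) (hE none) ?_ (l + 1)
        (Nat.succ_pos l) g
      intro u
      refine (mem_gam_iff hψ mT hmT pR pS hmR hmS hD hDpos sX sY _).mpr ?_
      show kmap (LinearMap.id - sX.ρ) (LinearMap.id - sY.ρ)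
        ((Pr u).1 - kmap (LinearMap.id - sX.ρ) (LinearMap.id - sY.ρ) (Pr u).1) = 0
      rw [map_sub, kmap_compl_idem, sub_self]
    | some ij =>
      obtain ⟨t, htD, ht⟩ := exists_tz hψ pR pS hD ij.1 ij.2
      refine vanX_range_of_retract (X := segG X Y hψ) mT (E (some ij)) (hE (some ij)) ?_ htD
        (mem_mT_of_deg mT hmT pR hDpos htD) (Hij hψ pR pS hD sX sY ij.1 ij.2)
        (segMapD_grHomDeg hψ _ _ _ _ _) ?_ (l + 1) g
      · intro u
        show Eij hψ pR pS sX sY ij.1 ij.2 (Pr (Eij hψ pR pS sX sY ij.1 ij.2 (Pr u))) =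
          Eij hψ pR pS sX sY ij.1 ij.2 (Pr u)
        rw [hPrE, hPrPr, Eij_idem]
      · intro u
        exact Hij_smul_Eij hψ pR pS hD sX sY ij.1 ij.2 ht (Pr u)

end acyc

end Groth.Agent.Lib.R2H7.SegAcyc
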