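/-
Comparing a quotient of modules over a ring `A` isomorphic to a field `k` with an abstract
cohomology space `HQ` of `k`-vector spaces through a semilinear map: equality of dimensions and
transfer of finiteness.
-/
import Mathlib
import Groth.Agent.Lib.R2H7KunLA2

set_option autoImplicit false

noncomputable section

namespace Groth.Agent.Lib.R2H7.SegBridge

open Groth.Agent.Lib.R2H7.KunLA2

universe u v w

variable {A : Type u} [CommRing A] {k : Type u} [Field k] (e : A ≃+* k)

section compHom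

variable (W : Type v) [AddCommGroup W] [Module k W]

theorem finrank_compHom :
    @Module.finrank A W _ _ (Module.compHom W (e : A →+* k)) = Module.finrank k W := by
  letI : Module A W := Module.compHom W (e : A →+* k)
  have h := rank_eq_of_equiv_equiv (R := A) (R' := k) (M := W) (M₁ := W) (e : A → k)
    (AddEquiv.refl W) e.bijective (fun r m => rfl)
  unfold Module.finrank
  rw [h]

theorem finite_of_compHom
    (h : @Module.Finite A W _ _ (Module.compHom W (e : A →+* k))) : Module.Finite k W := by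
  letI : Module A W := Module.compHom W (e : A →+* k)
  letI : SMul A k := ⟨fun a c => e a * c⟩
  haveI : IsScalarTower A k W := ⟨fun a c w => by
    show (e a * c) • w = e a • (c • w)
    rw [mul_smul]⟩
  exact Module.Finite.of_restrictScalars_finite A k W

end compHom

section bridge

variable {M : Type w} [AddCommGroup M] [Module A M] (Z : Submodule A M) (B : Submodule A ↥Z)
  {V : Type v} [AddCommGroup V] [Module k V] (D : V →ₗ[k] V) (A0 A1 : Submodule k V)

theorem bridge (f : M →+ V) (hf : ∀ (a : A) (m : M), f (a • m) = e a • f m)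
    (h1 : ∀ z ∈ Z, f z ∈ A1 ∧ D (f z) = 0)
    (h2 : ∀ y ∈ A1, D y = 0 → ∃ z ∈ Z, f z = y)
    (h3 : ∀ z : ↥Z, z ∈ B ↔ f z.1 ∈ A0.map D) :
    Module.finrank A (↥Z ⧸ B) = Module.finrank k (HQ D A0 A1) ∧
      (Module.Finite A (↥Z ⧸ B) → Module.Finite k (HQ D A0 A1)) := by
  letI : Module A (HQ D A0 A1) := Module.compHom _ (e : A →+* k)
  let g₀ : ↥Z →+ ↥(A1 ⊓ LinearMap.ker D) :=
    { toFun := fun z => ⟨f z.1, (h1 z.1 z.2).1, LinearMap.mem_ker.mpr (h1 z.1 z.2).2⟩
      map_zero' := Subtype.ext (map_zero f)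
      map_add' := fun z z' => Subtype.ext (map_add f z.1 z'.1) }
  have hg₀ : ∀ (a : A) (z : ↥Z), g₀ (a • z) = e a • g₀ z := fun a z => Subtype.ext (hf a z.1)
  let g : ↥Z →ₗ[A] HQ D A0 A1 :=
    { toFun := fun z => Submodule.Quotient.mk (g₀ z)
      map_add' := fun z z' => by rw [map_add]; rfl
      map_smul' := fun a z => by rw [hg₀]; rfl }
  have hker : LinearMap.ker g = B := by
    ext z
    rw [LinearMap.mem_ker, h3]
    show Submodule.Quotient.mk (g₀ z) = 0 ↔ _
    rw [Submodule.Quotient.mk_eq_zero]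
    rfl
  have hsurj : Function.Surjective g := by
    intro ξ
    obtain ⟨⟨y, hy1, hy2⟩, rfl⟩ := Submodule.Quotient.mk_surjective _ ξ
    obtain ⟨z, hz, hzy⟩ := h2 y hy1 (LinearMap.mem_ker.mp hy2)
    refine ⟨⟨z, hz⟩, ?_⟩
    show Submodule.Quotient.mk (g₀ ⟨z, hz⟩) = _
    congr 1
    exact Subtype.ext hzy
  have eqv : (↥Z ⧸ B) ≃ₗ[A] HQ D A0 A1 :=
    (Submodule.quotEquivOfEq B (LinearMap.ker g) hker.symm).trans
      (g.quotKerEquivOfSurjective hsurj)
  refine ⟨?_, ?_⟩
  · rw [eqv.finrank_eq]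
    exact finrank_compHom e (HQ D A0 A1)
  · intro hfin
    exact finite_of_compHom e (HQ D A0 A1) (Module.Finite.equiv eqv)

theorem bridge₀ (f : M →+ V) (hf : ∀ (a : A) (m : M), f (a • m) = e a • f m)
    (h1 : ∀ z ∈ Z, f z ∈ A1 ∧ D (f z) = 0)
    (h2 : ∀ y ∈ A1, D y = 0 → ∃ z ∈ Z, f z = y)
    (h3 : ∀ z ∈ Z, f z ∈ A0.map D → z = 0) :
    Module.finrank A ↥Z = Module.finrank k (HQ D A0 A1) ∧
      (Module.Finite A ↥Z → Module.Finite k (HQ D A0 A1)) := by
  have hb := bridge e Z ⊥ D A0 A1 f hf h1 h2 (fun z => by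
    constructor
    · intro hz
      rw [(Submodule.mem_bot A).mp hz]
      show f 0 ∈ _
      rw [map_zero]
      exact zero_mem _
    · intro hz
      exact (Submodule.mem_bot A).mpr (Subtype.ext (h3 z.1 z.2 hz)))
  have eqv : (↥Z ⧸ (⊥ : Submodule A ↥Z)) ≃ₗ[A] ↥Z := Submodule.quotEquivOfEqBot ⊥ rfl
  refine ⟨?_, ?_⟩
  · rw [← hb.1, eqv.finrank_eq]
  · intro hfin
    exact hb.2 (Module.Finite.equiv eqv.symm)

end bridge

end Groth.Agent.Lib.R2H7.SegBridge
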