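/-
The total module of a *injective resolution with special structures on its terms, as a graded
cochain complex of vector spaces with the torsion idempotent, and the comparison of its
cohomology with graded local cohomology.
-/
import Mathlib
import Groth.Agent.Lib.R2H7SegAcyc
import Groth.Agent.Lib.R2H7SegBridge
import Groth.Agent.Lib.R2H7KunLA4

set_option autoImplicit false
open DirectSum
open scoped TensorProduct

noncomputable section

namespace Groth.Agent.Lib.R2H7.SegTotR

open Groth.Agent.Lib.Helper29GrEss Groth.Agent.Lib.Helper29GrHom Groth.Agent.Lib.Helper29GrGam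
  Groth.Agent.Lib.R2H7.GrBdry Groth.Agent.Lib.R2H7.GrDer Groth.Agent.Lib.R2H7.GrH
  Groth.Agent.Lib.R2H7.GrTors
  Groth.Agent.Lib.R2H7.SegPres Groth.Agent.Lib.R2H7.SegSpecial Groth.Agent.Lib.R2H7.SegIdem
  Groth.Agent.Lib.R2H7.SegTors Groth.Agent.Lib.R2H7.SegSum Groth.Agent.Lib.R2H7.SegAcyc
  Groth.Agent.Lib.R2H7.SegBridge Groth.Agent.Lib.R2H7.KunLA1 Groth.Agent.Lib.R2H7.KunLA2
  Groth.Agent.Lib.R2H7.KunLA4

universe u

/-! ### Induction and extensionality for direct sums of graded modules -/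

section sumG

variable {ι : Type} [AddCommGroup ι] [DecidableEq ι]
variable {R : Type u} [CommRing R] {𝒜 : ι → AddSubgroup R} [GradedRing 𝒜]
variable {J : Type} [DecidableEq J] {Z : J → GrLC.GMod.{u} 𝒜}

theorem sumG_expand (u : (sumG Z).carrier) : ∃ s : Finset J,
    u = ∑ j ∈ s, lofG Z j (projG Z j u) := by
  classical
  exact ⟨DFinsupp.support u, (DirectSum.sum_support_of u).symm⟩

theorem sumG_induction {P : (sumG Z).carrier → Prop} (h0 : P 0)
    (hadd : ∀ u v, P u → P v → P (u + v)) (hlof : ∀ j x, P (lofG Z j x))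
    (u : (sumG Z).carrier) : P u := by
  obtain ⟨s, hs⟩ := sumG_expand u
  rw [hs]
  exact Finset.sum_induction _ P hadd h0 (fun j _ => hlof j _)

theorem sumG_ext {N : Type u} [AddCommGroup N] [Module R N]
    {f g : (sumG Z).carrier →ₗ[R] N} (h : ∀ j x, f (lofG Z j x) = g (lofG Z j x)) : f = g := by
  apply LinearMap.ext
  intro u
  refine sumG_induction (P := fun u => f u = g u) ?_ ?_ h u
  · rw [map_zero, map_zero]
  · intro u v hu hv
    rw [map_add, map_add, hu, hv]

theorem lofG_injective (j : J) : Function.Injective (lofG Z j) := by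
  intro x y h
  have := congrArg (projG Z j) h
  rwa [projG_lofG, projG_lofG] at this

theorem lofG_mem_gr_iff (j : J) (g : ι) (x : (Z j).carrier) :
    lofG Z j x ∈ (sumG Z).gr g ↔ x ∈ (Z j).gr g := by
  constructor
  · intro h
    have := projG_grHom Z j g _ h
    rwa [projG_lofG] at this
  · exact lofG_grHom Z j g x

end sumG

variable {k : Type u} [Field k] {R : Type u} [CommRing R] [Algebra k R]
variable {𝒜 : ℤ → AddSubgroup R} [GradedRing 𝒜]

/-! ### The total module -/

section total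

variable {M : GrLC.GMod.{u} 𝒜} (E : GrLC.StarInjRes 𝒜 M.gr)

/-- The total module of a resolution. -/
abbrev totG : GrLC.GMod.{u} 𝒜 := sumG (fun n : ℕ => E.X n)

instance totModK : Module k (totG E).carrier := Module.compHom _ (algebraMap k R)

theorem tot_smul_def (c : k) (x : (totG E).carrier) : c • x = algebraMap k R c • x := rfl

instance totTower : IsScalarTower k R (totG E).carrier :=
  ⟨fun c r x => by
    show (c • r) • x = algebraMap k R c • (r • x)
    rw [Algebra.smul_def, mul_smul]⟩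

/-- The inclusion of a term. -/
abbrev inT (n : ℕ) : (E.X n).carrier →ₗ[R] (totG E).carrier := lofG (fun n : ℕ => E.X n) n

/-- The projection onto a term. -/
abbrev prT (n : ℕ) : (totG E).carrier →ₗ[R] (E.X n).carrier := projG (fun n : ℕ => E.X n) n

/-- The total differential. -/
def dT : (totG E).carrier →ₗ[R] (totG E).carrier :=
  DirectSum.toModule R ℕ (totG E).carrier (fun n => inT E (n + 1) ∘ₗ E.d n)

theorem dT_inT (n : ℕ) (x : (E.X n).carrier) : dT E (inT E n x) = inT E (n + 1) (E.d n x) :=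
  DirectSum.toModule_lof _ _ _

theorem dT_grHom : GrLC.IsGrHom (totG E).gr (totG E).gr (dT E) := by
  intro g u hu
  obtain ⟨s, hs⟩ := sumG_expand (Z := fun n : ℕ => E.X n) u
  rw [hs, map_sum]
  refine sum_mem fun n _ => ?_
  have h1 : dT E (lofG (fun n : ℕ => E.X n) n (projG (fun n : ℕ => E.X n) n u)) =
      inT E (n + 1) (E.d n (prT E n u)) := dT_inT E n _
  rw [h1]
  exact lofG_grHom _ _ g _ (E.d_grHom n g _ (projG_grHom _ n g u hu))

theorem dT_dT (u : (totG E).carrier) : dT E (dT E u) = 0 := by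
  have h : dT E ∘ₗ dT E = 0 := by
    apply sumG_ext
    intro n x
    rw [LinearMap.comp_apply, LinearMap.zero_apply]
    have h1 : dT E (lofG (fun n : ℕ => E.X n) n x) = inT E (n + 1) (E.d n x) := dT_inT E n x
    rw [h1, dT_inT]
    have h2 : E.d (n + 1) (E.d n x) = 0 := by
      have : E.d n x ∈ LinearMap.ker (E.d (n + 1)) := by
        rw [E.exact_succ]; exact LinearMap.mem_range_self _ _
      exact this
    rw [h2, map_zero]
  exact LinearMap.congr_fun h u

/-- The sign operator. -/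
def σT : (totG E).carrier →ₗ[R] (totG E).carrier :=
  lmapG (fun n : ℕ => ((-1 : R) ^ n) • (LinearMap.id : (E.X n).carrier →ₗ[R] (E.X n).carrier))

theorem σT_inT (n : ℕ) (x : (E.X n).carrier) : σT E (inT E n x) = (-1 : R) ^ n • inT E n x := by
  unfold σT
  have h := lmapG_lofG (Y := fun n : ℕ => E.X n) (Y' := fun n : ℕ => E.X n)
    (fun n : ℕ => ((-1 : R) ^ n) • (LinearMap.id : (E.X n).carrier →ₗ[R] (E.X n).carrier)) n x
  rw [h, LinearMap.smul_apply, LinearMap.id_apply, map_smul]

theorem σT_grHom : GrLC.IsGrHom (totG E).gr (totG E).gr (σT E) := by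
  refine lmapG_grHom _ (fun n g x hx => ?_)
  rw [LinearMap.smul_apply, LinearMap.id_apply]
  have h1 : ((-1 : R) ^ n) ∈ 𝒜 0 := by
    have : (-1 : R) ∈ 𝒜 0 := neg_mem (SetLike.GradedOne.one_mem)
    have h2 := SetLike.pow_mem_graded n this
    rwa [smul_zero] at h2
  have := SetLike.GradedSMul.smul_mem (A := 𝒜) (B := (E.X n).gr) h1 hx
  rwa [vadd_eq_add, zero_add] at this

variable {p : SpParam 𝒜} (str : ∀ n, SpStr p (E.X n))

/-- The special structure on the total module. -/
def totStr : SpStr p (totG E) := sumStr str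

theorem totStr_ρ_inT (n : ℕ) (x : (E.X n).carrier) :
    (totStr E str).ρ (inT E n x) = inT E n ((str n).ρ x) :=
  lmapG_lofG (Y := fun n : ℕ => E.X n) (Y' := fun n : ℕ => E.X n) (fun n => (str n).ρ) n x

theorem totStr_ρc_inT (i : Fin p.r) (n : ℕ) (x : (E.X n).carrier) :
    (totStr E str).ρc i (inT E n x) = inT E n ((str n).ρc i x) :=
  lmapG_lofG (Y := fun n : ℕ => E.X n) (Y' := fun n : ℕ => E.X n) (fun n => (str n).ρc i) n x

/-- The projection of the total module onto a term, as an endomorphism. -/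
def πT (n : ℕ) : (totG E).carrier →ₗ[R] (totG E).carrier := inT E n ∘ₗ prT E n

theorem πT_inT_same (n : ℕ) (x : (E.X n).carrier) : πT E n (inT E n x) = inT E n x := by
  unfold πT
  rw [LinearMap.comp_apply, projG_lofG]

theorem πT_inT_ne {n m : ℕ} (h : n ≠ m) (x : (E.X m).carrier) : πT E n (inT E m x) = 0 := by
  unfold πT
  rw [LinearMap.comp_apply, projG_lofG_ne _ h, map_zero]

theorem πT_grHom (n : ℕ) : GrLC.IsGrHom (totG E).gr (totG E).gr (πT E n) :=
  fun g u hu => lofG_grHom _ n g _ (projG_grHom _ n g u hu)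

theorem sum_πT (u : (totG E).carrier) : ∃ s : Finset ℕ, (∀ s' : Finset ℕ, s ⊆ s' →
    u = ∑ n ∈ s', πT E n u) := by
  classical
  refine sumG_induction (Z := fun n : ℕ => E.X n)
    (P := fun u => ∃ s : Finset ℕ, ∀ s' : Finset ℕ, s ⊆ s' → u = ∑ n ∈ s', πT E n u)
    ?_ ?_ ?_ u
  · exact ⟨∅, fun s' _ => by simp only [map_zero, Finset.sum_const_zero]⟩
  · rintro u v ⟨s, hs⟩ ⟨t, ht⟩
    refine ⟨s ∪ t, fun s' hs' => ?_⟩
    simp only [map_add]
    rw [Finset.sum_add_distrib, ← hs s' (Finset.union_subset_left hs'),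
      ← ht s' (Finset.union_subset_right hs')]
  · intro m x
    refine ⟨{m}, fun s' hs' => ?_⟩
    have hm : m ∈ s' := hs' (Finset.mem_singleton_self m)
    rw [Finset.sum_eq_single m]
    · exact (πT_inT_same E m x).symm
    · intro n _ hn
      exact πT_inT_ne E hn x
    · intro h
      exact absurd hm h

end total

/-! ### The complex of vector spaces -/

section complex

variable (hk : ∀ c : k, algebraMap k R c ∈ 𝒜 0)
variable {M : GrLC.GMod.{u} 𝒜} (E : GrLC.StarInjRes 𝒜 M.gr) {p : SpParam 𝒜}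
  (str : ∀ n, SpStr p (E.X n))

include hk in
theorem ksmul_mem_gr {X : GrLC.GMod.{u} 𝒜} (c : k) {g : ℤ} {x : X.carrier} (hx : x ∈ X.gr g) :
    algebraMap k R c • x ∈ X.gr g := by
  have := SetLike.GradedSMul.smul_mem (A := 𝒜) (B := X.gr) (hk c) hx
  rwa [vadd_eq_add, zero_add] at this

/-- The bigraded pieces of the total module. -/
def Fpg (n : ℕ) (g : ℤ) : Submodule k (totG E).carrier where
  carrier := {x | ∃ y ∈ (E.X n).gr g, inT E n y = x}
  zero_mem' := ⟨0, zero_mem _, map_zero _⟩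
  add_mem' := by
    rintro _ _ ⟨y, hy, rfl⟩ ⟨y', hy', rfl⟩
    exact ⟨y + y', add_mem hy hy', map_add _ _ _⟩
  smul_mem' := by
    rintro c _ ⟨y, hy, rfl⟩
    refine ⟨algebraMap k R c • y, ksmul_mem_gr hk c hy, ?_⟩
    rw [map_smul]
    rfl

theorem mem_Fpg {n : ℕ} {g : ℤ} {x : (totG E).carrier} :
    x ∈ Fpg hk E n g ↔ ∃ y ∈ (E.X n).gr g, inT E n y = x := Iff.rfl

theorem Fpg_le_gr {n : ℕ} {g : ℤ} {x : (totG E).carrier} (hx : x ∈ Fpg hk E n g) :
    x ∈ (totG E).gr g := by
  obtain ⟨y, hy, rfl⟩ := hx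
  exact lofG_grHom _ n g y hy

/-- The coordinate maps. -/
def coord (i : ℕ × ℤ) : (totG E).carrier →ₗ[k] (totG E).carrier :=
  ((πT E i.1).restrictScalars k) ∘ₗ projK (totG E) hk i.2

theorem coord_apply (i : ℕ × ℤ) (x : (totG E).carrier) :
    coord hk E i x = πT E i.1 (projK (totG E) hk i.2 x) := rfl

theorem isInternal_Fpg :
    DirectSum.IsInternal (fun i : ℕ × ℤ => Fpg hk E i.1 i.2) := by
  classical
  refine isInternal_of_coords (fun i : ℕ × ℤ => Fpg hk E i.1 i.2) (coord hk E) ?_ ?_ ?_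
  · rintro ⟨n, g⟩ ⟨m, g'⟩ x ⟨y, hy, rfl⟩
    rw [coord_apply]
    have hxg : inT E m y ∈ (totG E).gr g' := lofG_grHom _ m g' y hy
    by_cases hg : g = g'
    · subst hg
      rw [projK_same _ hk hxg]
      by_cases hn : n = m
      · subst hn
        rw [if_pos rfl]
        exact πT_inT_same E n y
      · rw [if_neg (fun h => hn (congrArg Prod.fst h))]
        exact πT_inT_ne E hn y
    · rw [if_neg (fun h => hg (congrArg Prod.snd h)), projK_ne _ hk (Ne.symm hg) hxg, map_zero]
  · intro x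
    obtain ⟨s, hs⟩ := sum_πT E x
    have hdec : x = ∑ g ∈ (DirectSum.decompose (totG E).gr x).support,
        projK (totG E) hk g x := (DirectSum.sum_support_decompose (totG E).gr x).symm
    -- enlarge `s` to cover all the components
    obtain ⟨t, ht⟩ : ∃ t : Finset ℕ, ∀ g ∈ (DirectSum.decompose (totG E).gr x).support,
        projK (totG E) hk g x = ∑ n ∈ t, πT E n (projK (totG E) hk g x) := by
      have : ∀ g : ℤ, ∃ s : Finset ℕ, ∀ s' : Finset ℕ, s ⊆ s' →
          projK (totG E) hk g x = ∑ n ∈ s', πT E n (projK (totG E) hk g x) :=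
        fun g => sum_πT E _
      choose sg hsg using this
      refine ⟨(DirectSum.decompose (totG E).gr x).support.biUnion sg, fun g hg => ?_⟩
      exact hsg g _ (Finset.subset_biUnion_of_mem sg hg)
    refine ⟨t ×ˢ (DirectSum.decompose (totG E).gr x).support, ?_⟩
    rw [Finset.sum_product_right]
    conv_lhs => rw [hdec]
    refine Finset.sum_congr rfl fun g hg => ?_
    rw [ht g hg]
    rfl
  · rintro ⟨n, g⟩ x
    rw [coord_apply]
    exact ⟨prT E n (projK (totG E) hk g x), projG_grHom _ n g _ (projK_mem _ hk g x), rfl⟩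

theorem neg_one_pow_smul (n : ℕ) (x : (totG E).carrier) :
    (-1 : R) ^ n • x = (-1 : k) ^ n • x := by
  show _ = algebraMap k R ((-1 : k) ^ n) • x
  rw [map_pow, map_neg, map_one]

/-- The complex of vector spaces attached to a resolution with special structures. -/
def cpx : GCpx k (totG E).carrier ℤ where
  F := Fpg hk E
  int := isInternal_Fpg hk E
  d := (dT E).restrictScalars k
  σ := (σT E).restrictScalars k
  ρ := ((totStr E str).ρ).restrictScalars k
  d_mem := by
    rintro n g _ ⟨y, hy, rfl⟩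
    exact ⟨E.d n y, E.d_grHom n g y hy, (dT_inT E n y).symm⟩
  d_d := dT_dT E
  σ_mem := by
    rintro n g _ ⟨y, hy, rfl⟩
    show σT E (inT E n y) = _
    rw [σT_inT, neg_one_pow_smul (k := k) E]
  ρ_mem := by
    rintro n g _ ⟨y, hy, rfl⟩
    exact ⟨(str n).ρ y, (str n).ρ_gr g y hy, (totStr_ρ_inT E str n y).symm⟩
  ρ_idem := (totStr E str).ρ_idem
  dρ := by
    intro x
    show (totStr E str).ρ (dT E ((totStr E str).ρ x)) = dT E ((totStr E str).ρ x)
    exact (totStr E str).ρ_eq_self_iff.mpr (gam_map _ _ ((totStr E str).tors x))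

theorem cpx_d (x : (totG E).carrier) : (cpx hk E str).d x = dT E x := rfl
theorem cpx_ρ (x : (totG E).carrier) : (cpx hk E str).ρ x = (totStr E str).ρ x := rfl
theorem cpx_σ (x : (totG E).carrier) : (cpx hk E str).σ x = σT E x := rfl
theorem cpx_F (n : ℕ) (g : ℤ) : (cpx hk E str).F n g = Fpg hk E n g := rfl

theorem mem_cpx_X {n : ℕ} {g : ℤ} {x : (totG E).carrier} :
    x ∈ (cpx hk E str).X n g ↔
      ∃ y ∈ (E.X n).gr g, y ∈ GrLC.gam p.a.toIdeal (E.X n).carrier ∧ inT E n y = x := by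
  rw [GCpx.mem_X_iff]
  constructor
  · rintro ⟨⟨y, hy, rfl⟩, hρ⟩
    refine ⟨y, hy, ?_, rfl⟩
    have h1 : inT E n ((str n).ρ y) = inT E n y := by
      rw [← totStr_ρ_inT]; exact hρ
    exact (str n).ρ_eq_self_iff.mp (lofG_injective n h1)
  · rintro ⟨y, hy, hyg, rfl⟩
    refine ⟨⟨y, hy, rfl⟩, ?_⟩
    show (totStr E str).ρ (inT E n y) = inT E n y
    rw [totStr_ρ_inT, (str n).ρ_eq_self_iff.mpr hyg]

theorem isExact_cpx : IsExact (cpx hk E str) := by
  classical
  rintro n g _ ⟨x₀, hx₀, rfl⟩ hd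
  have h1 : inT E (n + 1 + 1) (E.d (n + 1) x₀) = 0 := by
    rw [← dT_inT]; exact hd
  have h2 : E.d (n + 1) x₀ = 0 := by
    have := lofG_injective (Z := fun n : ℕ => E.X n) (n + 1 + 1) (h1.trans (map_zero _).symm)
    exact this
  have h3 : x₀ ∈ LinearMap.range (E.d n) := by
    rw [← E.exact_succ]; exact h2
  obtain ⟨w, hw⟩ := h3
  refine ⟨inT E n ((DirectSum.decompose (E.X n).gr w) g : (E.X n).carrier),
    ⟨_, SetLike.coe_mem _, rfl⟩, ?_⟩
  show dT E (inT E n _) = _
  rw [dT_inT, ← decompose_map (E.X (n + 1)).gr (E.X n).gr (E.d n) (E.d_grHom n) w g, hw,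
    DirectSum.decompose_of_mem_same _ hx₀]

theorem isDeep_cpx (hvan : ∀ g, Van p.a E 0 g) : IsDeep (cpx hk E str) := by
  intro g x hx hd
  obtain ⟨y, hy, hyg, rfl⟩ := (mem_cpx_X hk E str).mp hx
  have h1 : inT E (0 + 1) (E.d 0 y) = 0 := by
    rw [← dT_inT]; exact hd
  have h2 : E.d 0 y = 0 :=
    lofG_injective (Z := fun n : ℕ => E.X n) (0 + 1) (h1.trans (map_zero _).symm)
  have h3 : y ∈ E.cobdy p.a 0 := hvan g y ⟨hyg, h2⟩ hy
  have h4 : y = 0 := (Submodule.mem_bot R).mp h3
  rw [h4, map_zero]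

end complex

end Groth.Agent.Lib.R2H7.SegTotR
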