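/-
Comparison of the cohomology of the complex of vector spaces of a resolution with special
structures with graded local cohomology and with the pieces of the module.
-/
import Mathlib
import Groth.Agent.Lib.R2H7SegTotR

set_option autoImplicit false
open DirectSum
open scoped TensorProduct

noncomputable section

namespace Groth.Agent.Lib.R2H7.SegTotRB

open Groth.Agent.Lib.Helper29GrEss Groth.Agent.Lib.Helper29GrHom Groth.Agent.Lib.Helper29GrGam
  Groth.Agent.Lib.R2H7.GrBdry Groth.Agent.Lib.R2H7.GrDer Groth.Agent.Lib.R2H7.GrH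
  Groth.Agent.Lib.R2H7.GrTors
  Groth.Agent.Lib.R2H7.SegPres Groth.Agent.Lib.R2H7.SegSpecial Groth.Agent.Lib.R2H7.SegIdem
  Groth.Agent.Lib.R2H7.SegTors Groth.Agent.Lib.R2H7.SegSum Groth.Agent.Lib.R2H7.SegAcyc
  Groth.Agent.Lib.R2H7.SegBridge Groth.Agent.Lib.R2H7.KunLA1 Groth.Agent.Lib.R2H7.KunLA2
  Groth.Agent.Lib.R2H7.KunLA4 Groth.Agent.Lib.R2H7.SegTotR

universe u

variable {k : Type u} [Field k] {R : Type u} [CommRing R] [Algebra k R]
variable {𝒜 : ℤ → AddSubgroup R} [GradedRing 𝒜]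
variable (hk : ∀ c : k, algebraMap k R c ∈ 𝒜 0)
  (h0 : ∀ r ∈ 𝒜 0, ∃ c : k, algebraMap k R c = r) (hinj : Function.Injective (algebraMap k R))

/-- The map `k → R_0`. -/
def deg0Hom : k →+* GrLC.deg0 𝒜 := (algebraMap k R).codRestrict (GrLC.deg0 𝒜) (fun c => hk c)

include h0 hinj in
theorem deg0Hom_bijective : Function.Bijective (deg0Hom hk) := by
  constructor
  · intro c c' h
    exact hinj (congrArg Subtype.val h)
  · rintro ⟨r, hr⟩
    obtain ⟨c, hc⟩ := h0 r hr
    exact ⟨c, Subtype.ext hc⟩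

/-- The degree zero subring is the field `k`. -/
def deg0Equiv : GrLC.deg0 𝒜 ≃+* k :=
  (RingEquiv.ofBijective (deg0Hom hk) (deg0Hom_bijective hk h0 hinj)).symm

theorem deg0Equiv_algebraMap (a : GrLC.deg0 𝒜) :
    algebraMap k R (deg0Equiv hk h0 hinj a) = a.1 := by
  have h : deg0Hom hk (deg0Equiv hk h0 hinj a) = a :=
    (RingEquiv.ofBijective (deg0Hom hk) (deg0Hom_bijective hk h0 hinj)).apply_symm_apply a
  exact congrArg Subtype.val h

variable {M : GrLC.GMod.{u} 𝒜} (E : GrLC.StarInjRes 𝒜 M.gr) {p : SpParam 𝒜}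
  (str : ∀ n, SpStr p (E.X n))

theorem smul_inT (n : ℕ) (a : GrLC.deg0 𝒜) (m : (E.X n).carrier) :
    inT E n (a • m) = deg0Equiv hk h0 hinj a • inT E n m := by
  show inT E n ((a : R) • m) = algebraMap k R (deg0Equiv hk h0 hinj a) • inT E n m
  rw [deg0Equiv_algebraMap, map_smul]

include h0 hinj in
/-- Graded local cohomology is the cohomology of the torsion subcomplex. -/
theorem finrank_Hg (n : ℕ) (g : ℤ) :
    Module.finrank (GrLC.deg0 𝒜) (Hg p.a E n g) = Module.finrank k ((cpx hk E str).H n g) ∧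
      (Module.Finite (GrLC.deg0 𝒜) (Hg p.a E n g) →
        Module.Finite k ((cpx hk E str).H n g)) := by
  classical
  refine bridge (deg0Equiv hk h0 hinj) (Zg p.a E n g) (Bg p.a E n g) (cpx hk E str).d
    ((cpx hk E str).Xprev n g) ((cpx hk E str).X n g) (inT E n).toAddMonoidHom
    (fun a m => smul_inT hk h0 hinj E n a m) ?_ ?_ ?_
  · intro z hz
    refine ⟨(mem_cpx_X hk E str).mpr ⟨z, hz.2, hz.1.1, rfl⟩, ?_⟩
    show dT E (inT E n z) = 0
    have h2 : E.d n z = 0 := hz.1.2
    rw [dT_inT, h2, map_zero]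
  · intro y hy hd
    obtain ⟨y₀, hy₀, hgam, rfl⟩ := (mem_cpx_X hk E str).mp hy
    have h1 : inT E (n + 1) (E.d n y₀) = 0 := by
      rw [← dT_inT]; exact hd
    have h2 : E.d n y₀ = 0 :=
      lofG_injective (Z := fun n : ℕ => E.X n) (n + 1) (h1.trans (map_zero _).symm)
    exact ⟨y₀, ⟨⟨hgam, h2⟩, hy₀⟩, rfl⟩
  · intro z
    rw [mem_Bg]
    cases n with
    | zero =>
      have hX : (cpx hk E str).Xprev 0 g = ⊥ := rfl
      rw [hX, Submodule.map_bot, Submodule.mem_bot]
      constructor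
      · intro hz
        have : (z : (E.X 0).carrier) = 0 := (Submodule.mem_bot R).mp hz
        show inT E 0 (z : (E.X 0).carrier) = 0
        rw [this, map_zero]
      · intro hz
        have h1 : inT E 0 (z : (E.X 0).carrier) = 0 := hz
        have : (z : (E.X 0).carrier) = 0 :=
          lofG_injective (Z := fun n : ℕ => E.X n) 0 (h1.trans (map_zero _).symm)
        rw [this]
        exact zero_mem _
    | succ n =>
      have hX : (cpx hk E str).Xprev (n + 1) g = (cpx hk E str).X n g := rfl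
      rw [hX]
      constructor
      · rintro ⟨w, hw, hwz⟩
        have hwg : ((DirectSum.decompose (E.X n).gr w) g : (E.X n).carrier) ∈
            GrLC.gam p.a.toIdeal (E.X n).carrier := gam_isHomogeneous 𝒜 (E.X n).gr p.a g hw
        have hzg : (z : (E.X (n + 1)).carrier) ∈ (E.X (n + 1)).gr g := z.2.2
        have hd : E.d n ((DirectSum.decompose (E.X n).gr w) g : (E.X n).carrier) =
            (z : (E.X (n + 1)).carrier) := by
          rw [← decompose_map (E.X (n + 1)).gr (E.X n).gr (E.d n) (E.d_grHom n) w g, hwz,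
            DirectSum.decompose_of_mem_same _ hzg]
        refine ⟨inT E n ((DirectSum.decompose (E.X n).gr w) g : (E.X n).carrier),
          (mem_cpx_X hk E str).mpr ⟨_, SetLike.coe_mem _, hwg, rfl⟩, ?_⟩
        show dT E (inT E n _) = inT E (n + 1) (z : (E.X (n + 1)).carrier)
        rw [dT_inT, hd]
      · rintro ⟨y, hy, hyz⟩
        obtain ⟨y₀, _, hgam, rfl⟩ := (mem_cpx_X hk E str).mp hy
        have h1 : inT E (n + 1) (E.d n y₀) = inT E (n + 1) (z : (E.X (n + 1)).carrier) := by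
          rw [← dT_inT]; exact hyz
        have h2 : E.d n y₀ = (z : (E.X (n + 1)).carrier) :=
          lofG_injective (Z := fun n : ℕ => E.X n) (n + 1) h1
        exact ⟨y₀, hgam, h2⟩

theorem smul_inT_ε (a : GrLC.deg0 𝒜) (m : M.carrier) :
    inT E 0 (E.ε (a • m)) = deg0Equiv hk h0 hinj a • inT E 0 (E.ε m) := by
  have h1 : E.ε (a • m) = a • E.ε m := by
    show E.ε ((a : R) • m) = (a : R) • E.ε m
    rw [map_smul]
  rw [h1]
  exact smul_inT hk h0 hinj E 0 a (E.ε m)

include h0 hinj in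
/-- The pieces of the module are the degree zero cohomology of the full complex. -/
theorem finrank_comp (g : ℤ) :
    Module.finrank (GrLC.deg0 𝒜) (GrLC.comp 𝒜 M.gr g) =
        Module.finrank k ((cpx hk E str).full.H 0 g) ∧
      (Module.Finite (GrLC.deg0 𝒜) (GrLC.comp 𝒜 M.gr g) →
        Module.Finite k ((cpx hk E str).full.H 0 g)) := by
  refine bridge₀ (deg0Equiv hk h0 hinj) (GrLC.comp 𝒜 M.gr g) (cpx hk E str).full.d
    ((cpx hk E str).full.Xprev 0 g) ((cpx hk E str).full.X 0 g)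
    (inT E 0 ∘ₗ E.ε).toAddMonoidHom (fun a m => smul_inT_ε hk h0 hinj E a m) ?_ ?_ ?_
  · intro m hm
    have hm' : m ∈ M.gr g := hm
    refine ⟨(GCpx.mem_X_iff _).mpr ⟨⟨E.ε m, E.ε_grHom g m hm', rfl⟩, rfl⟩, ?_⟩
    show dT E (inT E 0 (E.ε m)) = 0
    have h2 : E.d 0 (E.ε m) = 0 := by
      have : E.ε m ∈ LinearMap.ker (E.d 0) := by
        rw [E.exact_zero]; exact LinearMap.mem_range_self _ _
      exact this
    rw [dT_inT, h2, map_zero]
  · intro y hy hd
    obtain ⟨⟨y₀, hy₀, rfl⟩, _⟩ := (GCpx.mem_X_iff _).mp hy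
    have h1 : inT E (0 + 1) (E.d 0 y₀) = 0 := by
      rw [← dT_inT]; exact hd
    have h2 : E.d 0 y₀ = 0 :=
      lofG_injective (Z := fun n : ℕ => E.X n) (0 + 1) (h1.trans (map_zero _).symm)
    have h3 : y₀ ∈ LinearMap.range E.ε := by
      rw [← E.exact_zero]; exact h2
    obtain ⟨m, rfl⟩ := h3
    exact ⟨m, mem_gr_of_map_mem E.ε E.ε_grHom E.ε_injective hy₀, rfl⟩
  · intro m _ hm
    have hX : (cpx hk E str).full.Xprev 0 g = ⊥ := rfl
    rw [hX, Submodule.map_bot, Submodule.mem_bot] at hm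
    have h1 : inT E 0 (E.ε m) = 0 := hm
    have h2 : E.ε m = 0 :=
      lofG_injective (Z := fun n : ℕ => E.X n) 0 (h1.trans (map_zero _).symm)
    exact (map_eq_zero_iff _ E.ε_injective).mp h2

end Groth.Agent.Lib.R2H7.SegTotRB
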