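/-
The Segre product of the total modules of two resolutions with special structures: the
idempotents cutting out the total degrees, the total differential, and the resulting resolution
of the Segre product of the two modules.
-/
import Mathlib
import Groth.Agent.Lib.R2H7SegTotRB

set_option autoImplicit false
open DirectSum
open scoped TensorProduct

noncomputable section

namespace Groth.Agent.Lib.R2H7.SegTotT

open Groth.Agent.Lib.Helper29GrEss Groth.Agent.Lib.Helper29GrHom Groth.Agent.Lib.Helper29GrGam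
  Groth.Agent.Lib.R2H7.GrBdry Groth.Agent.Lib.R2H7.GrDer Groth.Agent.Lib.R2H7.GrH
  Groth.Agent.Lib.R2H7.GrTors Groth.Agent.Lib.R2H7.GrAcyc
  Groth.Agent.Lib.R2H7.SegPres Groth.Agent.Lib.R2H7.SegSpecial Groth.Agent.Lib.R2H7.SegIdem
  Groth.Agent.Lib.R2H7.SegTors Groth.Agent.Lib.R2H7.SegSum Groth.Agent.Lib.R2H7.SegAcyc
  Groth.Agent.Lib.R2H7.SegBridge Groth.Agent.Lib.R2H7.KunLA1 Groth.Agent.Lib.R2H7.KunLA2
  Groth.Agent.Lib.R2H7.KunLA3 Groth.Agent.Lib.R2H7.KunLA4 Groth.Agent.Lib.R2H7.SegTotR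
  Groth.Agent.Lib.R2H7.SegTotRB

universe u

variable {k : Type u} [Field k] {R S T : Type u} [CommRing R] [CommRing S] [CommRing T]
  [Algebra k R] [Algebra k S] [Algebra k T]
variable {𝒜 : ℤ → AddSubgroup R} [GradedRing 𝒜] {ℬ : ℤ → AddSubgroup S} [GradedRing ℬ]
  {𝒯 : ℤ → AddSubgroup T} [GradedRing 𝒯] {ψ : T →ₐ[k] R ⊗[k] S}
variable {M : GrLC.GMod.{u} 𝒜} {N : GrLC.GMod.{u} ℬ}
variable (E : GrLC.StarInjRes 𝒜 M.gr) (E' : GrLC.StarInjRes ℬ N.gr)

/-! ### Total degrees on the tensor product -/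

section tensor

/-- The projection onto total degree `n`. -/
def kPi (n : ℕ) : (totG E).carrier ⊗[k] (totG E').carrier →ₗ[k]
    (totG E).carrier ⊗[k] (totG E').carrier :=
  ∑ i ∈ Finset.range (n + 1), kmap (πT E i) (πT E' (n - i))

/-- The tensors of total degree `n`. -/
def TnU (n : ℕ) : Submodule k ((totG E).carrier ⊗[k] (totG E').carrier) :=
  Submodule.span k {z | ∃ (p q : ℕ) (a : (E.X p).carrier) (b : (E'.X q).carrier),
    p + q = n ∧ z = inT E p a ⊗ₜ[k] inT E' q b}

theorem tmul_mem_TnU {n p q : ℕ} (hpq : p + q = n) (a : (E.X p).carrier)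
    (b : (E'.X q).carrier) : inT E p a ⊗ₜ[k] inT E' q b ∈ TnU (k := k) E E' n :=
  Submodule.subset_span ⟨p, q, a, b, hpq, rfl⟩

theorem kPi_mem (n : ℕ) (z : (totG E).carrier ⊗[k] (totG E').carrier) :
    kPi E E' n z ∈ TnU E E' n := by
  induction z using TensorProduct.induction_on with
  | zero => rw [map_zero]; exact zero_mem _
  | tmul x y =>
    unfold kPi
    rw [LinearMap.sum_apply]
    refine sum_mem fun i hi => ?_
    rw [kmap_tmul]
    have hi' := Finset.mem_range.mp hi
    exact tmul_mem_TnU E E' (by omega) (prT E i x) (prT E' (n - i) y)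
  | add z z' h h' => rw [map_add]; exact add_mem h h'

theorem kPi_of_mem {n : ℕ} {z : (totG E).carrier ⊗[k] (totG E').carrier}
    (hz : z ∈ TnU E E' n) : kPi E E' n z = z := by
  refine Submodule.span_induction (p := fun z _ => kPi E E' n z = z) ?_ ?_ ?_ ?_ hz
  · rintro _ ⟨p, q, a, b, hpq, rfl⟩
    unfold kPi
    rw [LinearMap.sum_apply, Finset.sum_eq_single p]
    · have hq : n - p = q := by omega
      rw [kmap_tmul, πT_inT_same, hq, πT_inT_same]
    · intro i _ hip
      rw [kmap_tmul, πT_inT_ne E hip, TensorProduct.zero_tmul]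
    · intro hp
      exact absurd (Finset.mem_range.mpr (by omega)) hp
  · rw [map_zero]
  · intro z z' _ _ h h'
    rw [map_add, h, h']
  · intro c z _ h
    rw [map_smul, h]

theorem kmap_kPi_comm {f : (totG E).carrier →ₗ[R] (totG E).carrier}
    {f' : (totG E').carrier →ₗ[S] (totG E').carrier}
    (hf : ∀ m x, f (πT E m x) = πT E m (f x)) (hf' : ∀ m x, f' (πT E' m x) = πT E' m (f' x))
    (n : ℕ) (z : (totG E).carrier ⊗[k] (totG E').carrier) :
    kmap f f' (kPi E E' n z) = kPi E E' n (kmap f f' z) := by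
  induction z using TensorProduct.induction_on with
  | zero => simp only [map_zero]
  | tmul x y =>
    unfold kPi
    rw [LinearMap.sum_apply, map_sum, kmap_tmul, LinearMap.sum_apply]
    refine Finset.sum_congr rfl fun i _ => ?_
    rw [kmap_tmul, kmap_tmul, kmap_tmul, hf, hf']
  | add z z' h h' =>
    simp only [map_add]
    rw [h, h']

theorem lmapG_πT (f : ∀ n, (E.X n).carrier →ₗ[R] (E.X n).carrier) (m : ℕ)
    (x : (totG E).carrier) :
    lmapG (Y := fun n : ℕ => E.X n) (Y' := fun n : ℕ => E.X n) f (πT E m x) =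
      πT E m (lmapG (Y := fun n : ℕ => E.X n) (Y' := fun n : ℕ => E.X n) f x) := by
  unfold πT
  rw [LinearMap.comp_apply, LinearMap.comp_apply, lmapG_lofG]
  rfl

/-- The total differential on the tensor product. -/
def kDD : (totG E).carrier ⊗[k] (totG E').carrier →ₗ[k]
    (totG E).carrier ⊗[k] (totG E').carrier :=
  kmap (dT E) (LinearMap.id : (totG E').carrier →ₗ[S] (totG E').carrier) +
    kmap (σT E) (dT E')

theorem kDD_tmul (x : (totG E).carrier) (y : (totG E').carrier) :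
    kDD E E' (x ⊗ₜ[k] y) = dT E x ⊗ₜ[k] y + σT E x ⊗ₜ[k] dT E' y := rfl

theorem kDD_mem {n : ℕ} {z : (totG E).carrier ⊗[k] (totG E').carrier} (hz : z ∈ TnU E E' n) :
    kDD E E' z ∈ TnU E E' (n + 1) := by
  refine Submodule.span_induction (p := fun z _ => kDD E E' z ∈ TnU E E' (n + 1)) ?_ ?_ ?_ ?_ hz
  · rintro _ ⟨p, q, a, b, hpq, rfl⟩
    rw [kDD_tmul, dT_inT, dT_inT, σT_inT, ← map_smul]
    exact add_mem (tmul_mem_TnU E E' (by omega) _ _) (tmul_mem_TnU E E' (by omega) _ _)
  · rw [map_zero]; exact zero_mem _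
  · intro z z' _ _ h h'
    rw [map_add]; exact add_mem h h'
  · intro c z _ h
    rw [map_smul]; exact Submodule.smul_mem _ c h

end tensor

/-! ### The complexes of the two factors -/

section complexes

variable (hψ : SegCtx 𝒜 ℬ 𝒯 ψ) {pR : SpParam 𝒜} {pS : SpParam ℬ}
  (str : ∀ n, SpStr pR (E.X n)) (str' : ∀ n, SpStr pS (E'.X n))

/-- The complex of the first factor. -/
abbrev CR : GCpx k (totG E).carrier ℤ := cpx hψ.k𝒜 E str

/-- The complex of the second factor. -/
abbrev CS : GCpx k (totG E').carrier ℤ := cpx hψ.kℬ E' str'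

theorem kDD_eq : kDD E E' = DD (CR E hψ str) (CS E' hψ str') := by
  apply TensorProduct.ext'
  intro x y
  rfl

theorem kmap_compl_eq (z : (totG E).carrier ⊗[k] (totG E').carrier) :
    kmap (LinearMap.id - (totStr E str).ρ) (LinearMap.id - (totStr E' str').ρ) z =
      TensorProduct.map (LinearMap.id - (CR E hψ str).ρ) (LinearMap.id - (CS E' hψ str').ρ) z := by
  have h : kmap (LinearMap.id - (totStr E str).ρ) (LinearMap.id - (totStr E' str').ρ) =
      TensorProduct.map (LinearMap.id - (CR E hψ str).ρ) (LinearMap.id - (CS E' hψ str').ρ) := by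
    apply TensorProduct.ext'
    intro x y
    rfl
  rw [h]

theorem mem_Tn_iff {n : ℕ} {g : ℤ} {z : (totG E).carrier ⊗[k] (totG E').carrier} :
    z ∈ Tn (CR E hψ str) (CS E' hψ str') n g ↔
      z ∈ TnU E E' n ∧ z ∈ piece k (totG E) (totG E') g := by
  constructor
  · intro hz
    have hle : Tn (CR E hψ str) (CS E' hψ str') n g ≤
        TnU E E' n ⊓ piece k (totG E) (totG E') g := by
      refine Submodule.span_le.mpr ?_
      rintro _ ⟨p, q, a, b, hpq, ⟨a₀, ha₀, rfl⟩, ⟨b₀, hb₀, rfl⟩, rfl⟩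
      exact ⟨tmul_mem_TnU E E' hpq a₀ b₀,
        tmul_mem_piece (totG E).gr (totG E').gr (lofG_grHom _ p g a₀ ha₀)
          (lofG_grHom _ q g b₀ hb₀)⟩
    exact hle hz
  · rintro ⟨h1, h2⟩
    rw [← kPi_of_mem E E' h1]
    refine piece_induction (totG E).gr (totG E').gr
      (P := fun z => kPi E E' n z ∈ Tn (CR E hψ str) (CS E' hψ str') n g) ?_ ?_ ?_ ?_ h2
    · intro x hx y hy
      unfold kPi
      rw [LinearMap.sum_apply]
      refine sum_mem fun i hi => ?_
      rw [kmap_tmul]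
      have hi' := Finset.mem_range.mp hi
      exact tmul_mem_Tn (C := CR E hψ str) (C' := CS E' hψ str') (by omega)
        ⟨prT E i x, projG_grHom _ i g x hx, rfl⟩
        ⟨prT E' (n - i) y, projG_grHom _ (n - i) g y hy, rfl⟩
    · rw [map_zero]; exact zero_mem _
    · intro z z' h h'
      rw [map_add]; exact add_mem h h'
    · intro c z h
      rw [map_smul]; exact Submodule.smul_mem _ c h

end complexes

/-! ### The endomorphisms of the Segre product -/

section endo

variable (hψ : SegCtx 𝒜 ℬ 𝒯 ψ)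

theorem sum_val {X : GrLC.GMod.{u} 𝒜} {Y : GrLC.GMod.{u} ℬ}
    [Module k X.carrier] [IsScalarTower k R X.carrier]
    [Module k Y.carrier] [IsScalarTower k S Y.carrier] {ι' : Type} (s : Finset ι')
    (f : ι' → SegCar X Y hψ) : (∑ i ∈ s, f i).1 = ∑ i ∈ s, (f i).1 :=
  map_sum (segSub k X Y).subtype f s

/-- The idempotent cutting out total degree `n`. -/
def Pn (n : ℕ) : SegCar (totG E) (totG E') hψ →ₗ[T] SegCar (totG E) (totG E') hψ :=
  ∑ i ∈ Finset.range (n + 1),
    segMap₀ hψ (πT E i) (πT E' (n - i)) (πT_grHom E i) (πT_grHom E' (n - i))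

theorem Pn_val (n : ℕ) (u : SegCar (totG E) (totG E') hψ) :
    (Pn E E' hψ n u).1 = kPi E E' n u.1 := by
  unfold Pn kPi
  rw [LinearMap.sum_apply, sum_val, LinearMap.sum_apply]
  rfl

theorem Pn_grHom (n : ℕ) : GrLC.IsGrHom (segG (totG E) (totG E') hψ).gr
    (segG (totG E) (totG E') hψ).gr (Pn E E' hψ n) := by
  intro g u hu
  unfold Pn
  rw [LinearMap.sum_apply]
  exact sum_mem fun i _ => segMap₀_grHom hψ _ _ _ _ g u hu

theorem Pn_idem (n : ℕ) (u : SegCar (totG E) (totG E') hψ) :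
    Pn E E' hψ n (Pn E E' hψ n u) = Pn E E' hψ n u := by
  apply Subtype.ext
  rw [Pn_val, Pn_val]
  exact kPi_of_mem E E' (kPi_mem E E' n _)

theorem mem_range_Pn_iff {n : ℕ} {u : SegCar (totG E) (totG E') hψ} :
    u ∈ LinearMap.range (Pn E E' hψ n) ↔ u.1 ∈ TnU E E' n := by
  constructor
  · rintro ⟨v, rfl⟩
    rw [Pn_val]
    exact kPi_mem E E' n _
  · intro h
    refine ⟨u, Subtype.ext ?_⟩
    rw [Pn_val]
    exact kPi_of_mem E E' h

/-- The total differential of the Segre product. -/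
def DDT : SegCar (totG E) (totG E') hψ →ₗ[T] SegCar (totG E) (totG E') hψ :=
  segMap₀ hψ (dT E) LinearMap.id (dT_grHom E) isGrHom_id +
    segMap₀ hψ (σT E) (dT E') (σT_grHom E) (dT_grHom E')

theorem DDT_val (u : SegCar (totG E) (totG E') hψ) : (DDT E E' hψ u).1 = kDD E E' u.1 := rfl

theorem DDT_grHom : GrLC.IsGrHom (segG (totG E) (totG E') hψ).gr
    (segG (totG E) (totG E') hψ).gr (DDT E E' hψ) := by
  intro g u hu
  unfold DDT
  rw [LinearMap.add_apply]
  exact add_mem (segMap₀_grHom hψ _ _ _ _ g u hu) (segMap₀_grHom hψ _ _ _ _ g u hu)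

theorem DDT_mem_range {n : ℕ} {u : SegCar (totG E) (totG E') hψ}
    (hu : u ∈ LinearMap.range (Pn E E' hψ n)) :
    DDT E E' hψ u ∈ LinearMap.range (Pn E E' hψ (n + 1)) := by
  rw [mem_range_Pn_iff] at hu ⊢
  rw [DDT_val]
  exact kDD_mem E E' hu

end endo

end Groth.Agent.Lib.R2H7.SegTotT
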