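/-
The resolution of the Segre product `M # N` by the Segre products of the terms of two special
resolutions, its exactness and the acyclicity of its terms.
-/
import Mathlib
import Groth.Agent.Lib.R2H7SegTotT

set_option autoImplicit false
open DirectSum
open scoped TensorProduct

noncomputable section

namespace Groth.Agent.Lib.R2H7.SegTotG

open Groth.Agent.Lib.Helper29GrEss Groth.Agent.Lib.Helper29GrHom Groth.Agent.Lib.Helper29GrGam
  Groth.Agent.Lib.R2H7.GrBdry Groth.Agent.Lib.R2H7.GrDer Groth.Agent.Lib.R2H7.GrH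
  Groth.Agent.Lib.R2H7.GrTors Groth.Agent.Lib.R2H7.GrAcyc
  Groth.Agent.Lib.R2H7.SegPres Groth.Agent.Lib.R2H7.SegSpecial Groth.Agent.Lib.R2H7.SegIdem
  Groth.Agent.Lib.R2H7.SegTors Groth.Agent.Lib.R2H7.SegSum Groth.Agent.Lib.R2H7.SegAcyc
  Groth.Agent.Lib.R2H7.SegBridge Groth.Agent.Lib.R2H7.KunLA1 Groth.Agent.Lib.R2H7.KunLA2
  Groth.Agent.Lib.R2H7.KunLA3 Groth.Agent.Lib.R2H7.KunLA4 Groth.Agent.Lib.R2H7.SegTotR
  Groth.Agent.Lib.R2H7.SegTotRB Groth.Agent.Lib.R2H7.SegTotT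

universe u

variable {k : Type u} [Field k] {R S T : Type u} [CommRing R] [CommRing S] [CommRing T]
  [Algebra k R] [Algebra k S] [Algebra k T]
variable {𝒜 : ℤ → AddSubgroup R} [GradedRing 𝒜] {ℬ : ℤ → AddSubgroup S} [GradedRing ℬ]
  {𝒯 : ℤ → AddSubgroup T} [GradedRing 𝒯] {ψ : T →ₐ[k] R ⊗[k] S}

/-! ### The augmentation of one factor -/

section aug

variable {M : GrLC.GMod.{u} 𝒜} (E : GrLC.StarInjRes 𝒜 M.gr)

/-- The augmentation into the total module. -/
def εT : M.carrier →ₗ[R] (totG E).carrier := inT E 0 ∘ₗ E.ε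

theorem εT_apply (m : M.carrier) : εT E m = inT E 0 (E.ε m) := rfl

theorem εT_grHom : GrLC.IsGrHom M.gr (totG E).gr (εT E) :=
  fun g m hm => lofG_grHom _ 0 g _ (E.ε_grHom g m hm)

theorem εT_injective : Function.Injective (εT E) :=
  (lofG_injective (Z := fun n : ℕ => E.X n) 0).comp E.ε_injective

theorem dT_εT (m : M.carrier) : dT E (εT E m) = 0 := by
  rw [εT_apply, dT_inT]
  have h2 : E.d 0 (E.ε m) = 0 := by
    have : E.ε m ∈ LinearMap.ker (E.d 0) := by
      rw [E.exact_zero]; exact LinearMap.mem_range_self _ _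
    exact this
  rw [h2, map_zero]

end aug

variable {M : GrLC.GMod.{u} 𝒜} {N : GrLC.GMod.{u} ℬ}
  [Module k M.carrier] [IsScalarTower k R M.carrier]
  [Module k N.carrier] [IsScalarTower k S N.carrier]
variable (E : GrLC.StarInjRes 𝒜 M.gr) (E' : GrLC.StarInjRes ℬ N.gr)
variable (hψ : SegCtx 𝒜 ℬ 𝒯 ψ) {pR : SpParam 𝒜} {pS : SpParam ℬ}
  (str : ∀ n, SpStr pR (E.X n)) (str' : ∀ n, SpStr pS (E'.X n))

/-! ### The augmentation of the Segre product -/

section aug2

/-- The augmentation `M # N → X⁰ # Y⁰`. -/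
def ε₀ : SegCar M N hψ →ₗ[T] SegCar (totG E) (totG E') hψ :=
  segMap₀ hψ (εT E) (εT E') (εT_grHom E) (εT_grHom E')

theorem ε₀_val (u : SegCar M N hψ) : (ε₀ E E' hψ u).1 = kmap (εT E) (εT E') u.1 := rfl

theorem kmap_ε_mem (z : M.carrier ⊗[k] N.carrier) : kmap (εT E) (εT E') z ∈ TnU E E' 0 := by
  induction z using TensorProduct.induction_on with
  | zero => rw [map_zero]; exact zero_mem _
  | tmul m n => exact tmul_mem_TnU E E' (by omega) (E.ε m) (E'.ε n)
  | add z z' h h' => rw [map_add]; exact add_mem h h'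

theorem ε₀_mem_range (u : SegCar M N hψ) :
    ε₀ E E' hψ u ∈ LinearMap.range (Pn E E' hψ 0) :=
  (mem_range_Pn_iff E E' hψ).mpr (kmap_ε_mem E E' u.1)

theorem kmap_ε_injective :
    Function.Injective (kmap (k := k) (εT E) (εT E')) :=
by
  show Function.Injective (TensorProduct.map ((εT E).restrictScalars k)
    ((εT E').restrictScalars k))
  exact TensorProduct.map_injective_of_flat_flat _ _ (εT_injective E) (εT_injective E')

theorem ε₀_injective : Function.Injective (ε₀ E E' hψ) := by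
  intro u v h
  apply Subtype.ext
  exact kmap_ε_injective E E' (congrArg Subtype.val h)

theorem kDD_kmap_ε (z : M.carrier ⊗[k] N.carrier) : kDD E E' (kmap (εT E) (εT E') z) = 0 := by
  induction z using TensorProduct.induction_on with
  | zero => simp only [map_zero]
  | tmul m n =>
    rw [kmap_tmul, kDD_tmul, dT_εT, dT_εT, TensorProduct.zero_tmul, TensorProduct.tmul_zero,
      add_zero]
  | add z z' h h' =>
    simp only [map_add]
    rw [h, h', add_zero]

theorem ε₀_grHom : GrLC.IsGrHom (segG M N hψ).gr (segG (totG E) (totG E') hψ).gr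
    (ε₀ E E' hψ) := segMap₀_grHom hψ _ _ _ _

end aug2

/-! ### Exactness on homogeneous elements -/

section exact

include hψ str str' in
theorem kDD_kDD (z : (totG E).carrier ⊗[k] (totG E').carrier) :
    kDD E E' (kDD E E' z) = 0 := by
  rw [kDD_eq E E' hψ str str']
  exact DD_DD _ _ z

include str str' in
theorem exists_preimage_succ {n : ℕ} {g : ℤ} {u : SegCar (totG E) (totG E') hψ}
    (hu : u ∈ LinearMap.range (Pn E E' hψ (n + 1)))
    (hug : u ∈ (segG (totG E) (totG E') hψ).gr g) (hd : DDT E E' hψ u = 0) :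
    ∃ w : SegCar (totG E) (totG E') hψ, w ∈ LinearMap.range (Pn E E' hψ n) ∧
      w ∈ (segG (totG E) (totG E') hψ).gr g ∧ DDT E E' hψ w = u := by
  have h1 : u.1 ∈ Tn (CR E hψ str) (CS E' hψ str') (n + 1) g :=
    (mem_Tn_iff E E' hψ str str').mpr ⟨(mem_range_Pn_iff E E' hψ).mp hu, hug⟩
  have h2 : DD (CR E hψ str) (CS E' hψ str') u.1 = 0 := by
    rw [← kDD_eq E E' hψ str str', ← DDT_val, hd]
    rfl
  obtain ⟨w, hw, hwu⟩ := exact_succ (isExact_cpx hψ.k𝒜 E str) (isExact_cpx hψ.kℬ E' str') n g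
    u.1 h1 h2
  obtain ⟨hw1, hw2⟩ := (mem_Tn_iff E E' hψ str str').mp hw
  refine ⟨⟨w, piece_le_segSub (totG E) (totG E') g hw2⟩, (mem_range_Pn_iff E E' hψ).mpr hw1,
    hw2, Subtype.ext ?_⟩
  rw [DDT_val, kDD_eq E E' hψ str str']
  exact hwu

include str str' in
theorem exists_preimage_zero {g : ℤ} {u : SegCar (totG E) (totG E') hψ}
    (hu : u ∈ LinearMap.range (Pn E E' hψ 0))
    (hug : u ∈ (segG (totG E) (totG E') hψ).gr g) (hd : DDT E E' hψ u = 0) :
    ∃ v : SegCar M N hψ, v ∈ (segG M N hψ).gr g ∧ ε₀ E E' hψ v = u := by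
  have h1 : u.1 ∈ Tn (CR E hψ str) (CS E' hψ str') 0 g :=
    (mem_Tn_iff E E' hψ str str').mpr ⟨(mem_range_Pn_iff E E' hψ).mp hu, hug⟩
  have h2 : DD (CR E hψ str) (CS E' hψ str') u.1 = 0 := by
    rw [← kDD_eq E E' hψ str str', ← DDT_val, hd]
    rfl
  have h3 := exact_zero (C := CR E hψ str) (C' := CS E' hψ str') g u.1 h1 h2
  have hle : Submodule.map₂ (TensorProduct.mk k (totG E).carrier (totG E').carrier)
      ((CR E hψ str).F 0 g ⊓ LinearMap.ker (CR E hψ str).d)
      ((CS E' hψ str').F 0 g ⊓ LinearMap.ker (CS E' hψ str').d) ≤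
      (piece k M N g).map (kmap (εT E) (εT E')) := by
    refine Submodule.map₂_le.mpr ?_
    rintro a ⟨⟨a₀, ha₀, rfl⟩, ha2⟩ b ⟨⟨b₀, hb₀, rfl⟩, hb2⟩
    have ha3 : dT E (inT E 0 a₀) = 0 := LinearMap.mem_ker.mp ha2
    have hb3 : dT E' (inT E' 0 b₀) = 0 := LinearMap.mem_ker.mp hb2
    rw [dT_inT] at ha3 hb3
    have ha4 : E.d 0 a₀ = 0 :=
      lofG_injective (Z := fun n : ℕ => E.X n) (0 + 1) (ha3.trans (map_zero _).symm)
    have hb4 : E'.d 0 b₀ = 0 :=
      lofG_injective (Z := fun n : ℕ => E'.X n) (0 + 1) (hb3.trans (map_zero _).symm)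
    have ha5 : a₀ ∈ LinearMap.range E.ε := by rw [← E.exact_zero]; exact ha4
    have hb5 : b₀ ∈ LinearMap.range E'.ε := by rw [← E'.exact_zero]; exact hb4
    obtain ⟨m, rfl⟩ := ha5
    obtain ⟨n', rfl⟩ := hb5
    refine ⟨m ⊗ₜ[k] n', tmul_mem_piece M.gr N.gr
      (mem_gr_of_map_mem E.ε E.ε_grHom E.ε_injective ha₀)
      (mem_gr_of_map_mem E'.ε E'.ε_grHom E'.ε_injective hb₀), rfl⟩
  obtain ⟨z₀, hz₀, hz₀u⟩ := hle h3
  exact ⟨⟨z₀, piece_le_segSub M N g hz₀⟩, hz₀, Subtype.ext hz₀u⟩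

end exact

/-! ### The resolution -/

section resolution

/-- The terms of the resolution. -/
abbrev An (n : ℕ) : GrLC.GMod.{u} 𝒯 :=
  rangeG (X := segG (totG E) (totG E') hψ) (Pn E E' hψ n) (Pn_grHom E E' hψ n)

/-- The differentials of the resolution. -/
def dn (n : ℕ) : (An E E' hψ n).carrier →ₗ[T] (An E E' hψ (n + 1)).carrier :=
  (DDT E E' hψ ∘ₗ (LinearMap.range (Pn E E' hψ n)).subtype).codRestrict
    (LinearMap.range (Pn E E' hψ (n + 1))) (fun u => DDT_mem_range E E' hψ u.2)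

theorem dn_val (n : ℕ) (u : (An E E' hψ n).carrier) :
    (dn E E' hψ n u).1 = DDT E E' hψ u.1 := rfl

/-- The augmentation of the resolution. -/
def εn : (segG M N hψ).carrier →ₗ[T] (An E E' hψ 0).carrier :=
  (ε₀ E E' hψ).codRestrict (LinearMap.range (Pn E E' hψ 0)) (ε₀_mem_range E E' hψ)

theorem εn_val (u : (segG M N hψ).carrier) : (εn E E' hψ u).1 = ε₀ E E' hψ u := rfl

theorem dn_grHom (n : ℕ) :
    GrLC.IsGrHom (An E E' hψ n).gr (An E E' hψ (n + 1)).gr (dn E E' hψ n) :=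
  fun g u hu => DDT_grHom E E' hψ g u.1 hu

/-- The resolution of `M # N` by the total degrees of `X• # Y•`. -/
def segRes : GRes (segG M N hψ) where
  A := An E E' hψ
  d := dn E E' hψ
  ε := εn E E' hψ
  d_gr := dn_grHom E E' hψ
  ε_gr := fun g u hu => ε₀_grHom E E' hψ g u hu
  ε_inj := fun u v h => ε₀_injective E E' hψ (congrArg Subtype.val h)
  exact_zero := by
    apply le_antisymm
    · refine ker_le_range_of_homogeneous (A := segG M N hψ) (B := An E E' hψ 0)
        (C := An E E' hψ 1) (εn E E' hψ) (dn E E' hψ 0) (dn_grHom E E' hψ 0) ?_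
      intro g b hb hdb
      have hd : DDT E E' hψ b.1 = 0 := congrArg Subtype.val hdb
      obtain ⟨v, _, hv⟩ := exists_preimage_zero E E' hψ str str' b.2 hb hd
      exact ⟨v, Subtype.ext hv⟩
    · rintro _ ⟨v, rfl⟩
      rw [LinearMap.mem_ker]
      apply Subtype.ext
      apply Subtype.ext
      show kDD E E' (kmap (εT E) (εT E') v.1) = 0
      exact kDD_kmap_ε E E' v.1
  exact_succ := by
    intro n
    apply le_antisymm
    · refine ker_le_range_of_homogeneous (A := An E E' hψ n) (B := An E E' hψ (n + 1))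
        (C := An E E' hψ (n + 1 + 1)) (dn E E' hψ n) (dn E E' hψ (n + 1))
        (dn_grHom E E' hψ (n + 1)) ?_
      intro g b hb hdb
      have hd : DDT E E' hψ b.1 = 0 := congrArg Subtype.val hdb
      obtain ⟨w, hw1, _, hw3⟩ := exists_preimage_succ E E' hψ str str' b.2 hb hd
      exact ⟨⟨w, hw1⟩, Subtype.ext hw3⟩
    · rintro _ ⟨w, rfl⟩
      rw [LinearMap.mem_ker]
      apply Subtype.ext
      apply Subtype.ext
      show kDD E E' (kDD E E' w.1.1) = 0
      exact kDD_kDD E E' hψ str str' _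

end resolution

/-! ### Acyclicity of the terms -/

section acyclic

variable (mT : HomogeneousIdeal 𝒯)
  (hmT : mT.toIdeal = Ideal.span (⋃ n ∈ Set.Ioi (0 : ℤ), (𝒯 n : Set T)))
  (hmR : ∀ j : ℤ, 0 < j → ∀ r ∈ 𝒜 j, r ∈ pR.a.toIdeal)
  (hmS : ∀ j : ℤ, 0 < j → ∀ r ∈ ℬ j, r ∈ pS.a.toIdeal)
  (hD : pS.D = pR.D) (hDpos : 0 < pR.D)

theorem sub_ρ_πT (m : ℕ) (x : (totG E).carrier) :
    (LinearMap.id - (totStr E str).ρ : (totG E).carrier →ₗ[R] (totG E).carrier) (πT E m x) =
      πT E m ((LinearMap.id - (totStr E str).ρ : (totG E).carrier →ₗ[R] (totG E).carrier) x) := by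
  rw [LinearMap.sub_apply, LinearMap.sub_apply, LinearMap.id_apply, LinearMap.id_apply, map_sub]
  congr 1
  exact lmapG_πT E (fun n => (str n).ρ) m x

include str str' hmT hmR hmS hD hDpos in
theorem vanX_An [IsNoetherianRing T] (n l : ℕ) (g : ℤ) :
    VanX mT (An E E' hψ n) (l + 1) g := by
  refine vanX_range hψ mT hmT pR pS hmR hmS hD hDpos (totStr E str) (totStr E' str')
    (Pn E E' hψ n) (Pn_grHom E E' hψ n) (Pn_idem E E' hψ n) ?_ ?_ l g
  · intro i j u
    apply Subtype.ext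
    rw [Pn_val]
    show kPi E E' n (kmap ((totStr E str).ρc i) ((totStr E' str').ρc j) u.1) =
      kmap ((totStr E str).ρc i) ((totStr E' str').ρc j) (Pn E E' hψ n u).1
    rw [Pn_val]
    exact (kmap_kPi_comm E E' (fun m x => lmapG_πT E (fun n => (str n).ρc i) m x)
      (fun m x => lmapG_πT E' (fun n => (str' n).ρc j) m x) n u.1).symm
  · intro u
    apply Subtype.ext
    rw [Pn_val]
    show kPi E E' n (kmap (LinearMap.id - (totStr E str).ρ)
        (LinearMap.id - (totStr E' str').ρ) u.1) =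
      kmap (LinearMap.id - (totStr E str).ρ) (LinearMap.id - (totStr E' str').ρ)
        (Pn E E' hψ n u).1
    rw [Pn_val]
    exact (kmap_kPi_comm E E' (sub_ρ_πT E str) (sub_ρ_πT E' str') n u.1).symm

end acyclic

end Groth.Agent.Lib.R2H7.SegTotG
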