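/-
The Künneth formula for the graded local cohomology of a Segre product, for special resolutions
of the two factors: comparison of the local cohomology of `M # N` with the cohomology of the
torsion part of the tensor product of the two complexes of vector spaces.
-/
import Mathlib
import Groth.Agent.Lib.R2H7SegTotG

set_option autoImplicit false
open DirectSum
open scoped TensorProduct

noncomputable section

namespace Groth.Agent.Lib.R2H7.SegMain

open Groth.Agent.Lib.Helper29GrEss Groth.Agent.Lib.Helper29GrHom Groth.Agent.Lib.Helper29GrGam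
  Groth.Agent.Lib.R2H7.GrBdry Groth.Agent.Lib.R2H7.GrDer Groth.Agent.Lib.R2H7.GrH
  Groth.Agent.Lib.R2H7.GrTors Groth.Agent.Lib.R2H7.GrAcyc
  Groth.Agent.Lib.R2H7.SegPres Groth.Agent.Lib.R2H7.SegSpecial Groth.Agent.Lib.R2H7.SegIdem
  Groth.Agent.Lib.R2H7.SegTors Groth.Agent.Lib.R2H7.SegSum Groth.Agent.Lib.R2H7.SegAcyc
  Groth.Agent.Lib.R2H7.SegBridge Groth.Agent.Lib.R2H7.KunLA1 Groth.Agent.Lib.R2H7.KunLA2
  Groth.Agent.Lib.R2H7.KunLA3 Groth.Agent.Lib.R2H7.KunLA4 Groth.Agent.Lib.R2H7.SegTotR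
  Groth.Agent.Lib.R2H7.SegTotRB Groth.Agent.Lib.R2H7.SegTotT Groth.Agent.Lib.R2H7.SegTotG

universe u

variable {k : Type u} [Field k] {R S T : Type u} [CommRing R] [CommRing S] [CommRing T]
  [Algebra k R] [Algebra k S] [Algebra k T]
variable {𝒜 : ℤ → AddSubgroup R} [GradedRing 𝒜] {ℬ : ℤ → AddSubgroup S} [GradedRing ℬ]
  {𝒯 : ℤ → AddSubgroup T} [GradedRing 𝒯] {ψ : T →ₐ[k] R ⊗[k] S}
variable {M : GrLC.GMod.{u} 𝒜} {N : GrLC.GMod.{u} ℬ}
  [Module k M.carrier] [IsScalarTower k R M.carrier]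
  [Module k N.carrier] [IsScalarTower k S N.carrier]
variable (E : GrLC.StarInjRes 𝒜 M.gr) (E' : GrLC.StarInjRes ℬ N.gr)
variable (hψ : SegCtx 𝒜 ℬ 𝒯 ψ) {pR : SpParam 𝒜} {pS : SpParam ℬ}
  (str : ∀ n, SpStr pR (E.X n)) (str' : ∀ n, SpStr pS (E'.X n))

/-- A torsion preimage of a homogeneous element can be chosen homogeneous. -/
theorem exists_homogeneous_preimage (a : HomogeneousIdeal 𝒯) {Y0 Y1 : GrLC.GMod.{u} 𝒯}
    (d0 : Y0.carrier →ₗ[T] Y1.carrier) (hd0 : GrLC.IsGrHom Y0.gr Y1.gr d0) {g : ℤ}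
    {w : Y0.carrier} (hw : w ∈ GrLC.gam a.toIdeal Y0.carrier) (hz : d0 w ∈ Y1.gr g) :
    ∃ w' : Y0.carrier, w' ∈ GrLC.gam a.toIdeal Y0.carrier ∧ w' ∈ Y0.gr g ∧ d0 w' = d0 w := by
  classical
  refine ⟨((DirectSum.decompose Y0.gr w) g : Y0.carrier),
    gam_isHomogeneous 𝒯 Y0.gr a g hw, SetLike.coe_mem _, ?_⟩
  rw [← decompose_map Y1.gr Y0.gr d0 hd0 w g, DirectSum.decompose_of_mem_same _ hz]

/-- The torsion tensors of total degree `n` and degree `g`. -/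
abbrev SupX (n : ℕ) (g : ℤ) : Submodule k ((totG E).carrier ⊗[k] (totG E').carrier) :=
  TX (CR E hψ str) (CS E' hψ str').full n g ⊔ TX (CR E hψ str).full (CS E' hψ str') n g

/-- The torsion tensors of the previous total degree. -/
abbrev SupXprev (n : ℕ) (g : ℤ) : Submodule k ((totG E).carrier ⊗[k] (totG E').carrier) :=
  TXprev (CR E hψ str) (CS E' hψ str').full n g ⊔ TXprev (CR E hψ str).full (CS E' hψ str') n g

theorem supXprev_zero (g : ℤ) : SupXprev E E' hψ str str' 0 g = ⊥ := by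
  show (⊥ ⊔ ⊥ : Submodule k ((totG E).carrier ⊗[k] (totG E').carrier)) = ⊥
  exact sup_bot_eq ⊥

theorem supXprev_succ (n : ℕ) (g : ℤ) :
    SupXprev E E' hψ str str' (n + 1) g = SupX E E' hψ str str' n g := rfl

/-- The underlying tensor of an element of a term of the resolution. -/
def fT (n : ℕ) : (An E E' hψ n).carrier →+ (totG E).carrier ⊗[k] (totG E').carrier where
  toFun u := u.1.1
  map_zero' := rfl
  map_add' _ _ := rfl

theorem fT_apply (n : ℕ) (u : (An E E' hψ n).carrier) : fT E E' hψ n u = u.1.1 := rfl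

theorem fT_injective (n : ℕ) : Function.Injective (fT E E' hψ n) :=
  fun _ _ h => Subtype.ext (Subtype.ext h)

theorem DD_fT (n : ℕ) (u : (An E E' hψ n).carrier) :
    DD (CR E hψ str) (CS E' hψ str') (fT E E' hψ n u) = fT E E' hψ (n + 1) (dn E E' hψ n u) := by
  rw [← kDD_eq E E' hψ str str']
  rfl

section smul

variable (hkT : ∀ c : k, algebraMap k T c ∈ 𝒯 0)
  (h0T : ∀ r ∈ 𝒯 0, ∃ c : k, algebraMap k T c = r) (hinjT : Function.Injective (algebraMap k T))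

theorem deg0_smul_val {X : GrLC.GMod.{u} 𝒜} {Y : GrLC.GMod.{u} ℬ}
    [Module k X.carrier] [IsScalarTower k R X.carrier]
    [Module k Y.carrier] [IsScalarTower k S Y.carrier] (a : GrLC.deg0 𝒯) (v : SegCar X Y hψ) :
    ((a : T) • v).1 = deg0Equiv hkT h0T hinjT a • v.1 := by
  conv_lhs => rw [← deg0Equiv_algebraMap hkT h0T hinjT a]
  rw [algebraMap_smul, ksmul_val]

theorem fT_smul (n : ℕ) (a : GrLC.deg0 𝒯) (u : (An E E' hψ n).carrier) :
    fT E E' hψ n (a • u) = deg0Equiv hkT h0T hinjT a • fT E E' hψ n u :=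
  deg0_smul_val hψ hkT h0T hinjT a u.1

end smul

section torsion

variable (mT : HomogeneousIdeal 𝒯)
  (hmT : mT.toIdeal = Ideal.span (⋃ n ∈ Set.Ioi (0 : ℤ), (𝒯 n : Set T)))
  (hmR : ∀ j : ℤ, 0 < j → ∀ r ∈ 𝒜 j, r ∈ pR.a.toIdeal)
  (hmS : ∀ j : ℤ, 0 < j → ∀ r ∈ ℬ j, r ∈ pS.a.toIdeal)
  (hD : pS.D = pR.D) (hDpos : 0 < pR.D)

include hmT hmR hmS hD hDpos in
/-- The torsion homogeneous elements of a term of the resolution. -/
theorem mem_SupX_iff [IsNoetherianRing T] {n : ℕ} {g : ℤ} (u : (An E E' hψ n).carrier) :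
    fT E E' hψ n u ∈ SupX E E' hψ str str' n g ↔
      (u ∈ GrLC.gam mT.toIdeal (An E E' hψ n).carrier ∧ u ∈ (An E E' hψ n).gr g) := by
  rw [fT_apply, mem_sup_iff, mem_Tn_iff E E' hψ str str', ← kmap_compl_eq E E' hψ str str']
  have h1 : u.1.1 ∈ TnU E E' n := (mem_range_Pn_iff E E' hψ).mp u.2
  have h2 : u ∈ GrLC.gam mT.toIdeal (An E E' hψ n).carrier ↔
      kmap (LinearMap.id - (totStr E str).ρ) (LinearMap.id - (totStr E' str').ρ) u.1.1 = 0 := by
    rw [← mem_gam_iff hψ mT hmT pR pS hmR hmS hD hDpos (totStr E str) (totStr E' str') u.1]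
    exact mem_gam_sub mT.toIdeal (LinearMap.range (Pn E E' hψ n)) u
  constructor
  · rintro ⟨⟨_, h3⟩, h4⟩
    exact ⟨h2.mpr h4, h3⟩
  · rintro ⟨h3, h4⟩
    exact ⟨⟨h1, h4⟩, h2.mp h3⟩

include hmT hmR hmS hD hDpos in
theorem exists_of_mem_SupX [IsNoetherianRing T] {n : ℕ} {g : ℤ}
    {y : (totG E).carrier ⊗[k] (totG E').carrier} (hy : y ∈ SupX E E' hψ str str' n g) :
    ∃ u : (An E E' hψ n).carrier, fT E E' hψ n u = y ∧
      u ∈ GrLC.gam mT.toIdeal (An E E' hψ n).carrier ∧ u ∈ (An E E' hψ n).gr g := by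
  obtain ⟨hU, hp⟩ := (mem_Tn_iff E E' hψ str str').mp (mem_sup_iff.mp hy).1
  let u : (An E E' hψ n).carrier :=
    ⟨⟨y, piece_le_segSub (totG E) (totG E') g hp⟩, (mem_range_Pn_iff E E' hψ).mpr hU⟩
  have hu : fT E E' hψ n u = y := rfl
  refine ⟨u, hu, ?_⟩
  exact (mem_SupX_iff E E' hψ str str' mT hmT hmR hmS hD hDpos u).mp (by rw [hu]; exact hy)

variable (hkT : ∀ c : k, algebraMap k T c ∈ 𝒯 0)
  (h0T : ∀ r ∈ 𝒯 0, ∃ c : k, algebraMap k T c = r) (hinjT : Function.Injective (algebraMap k T))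

include hmT hmR hmS hD hDpos hkT h0T hinjT in
theorem finrank_Hg_T_zero [IsNoetherianRing T] (F : GrLC.StarInjRes 𝒯 (segG M N hψ).gr)
    (g : ℤ) :
    Module.finrank (GrLC.deg0 𝒯) (Hg mT F 0 g) =
      Module.finrank k (HQ (DD (CR E hψ str) (CS E' hψ str'))
        (SupXprev E E' hψ str str' 0 g) (SupX E E' hψ str str' 0 g)) := by
  have e0 : Hg mT F 0 g ≃ₗ[GrLC.deg0 𝒯] ↥(ZA mT (dn E E' hψ 0) g) :=
    acycZero mT (segRes E E' hψ str str') F g
  rw [e0.finrank_eq]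
  refine (bridge₀ (deg0Equiv hkT h0T hinjT) (ZA mT (dn E E' hψ 0) g)
    (DD (CR E hψ str) (CS E' hψ str')) (SupXprev E E' hψ str str' 0 g)
    (SupX E E' hψ str str' 0 g) (fT E E' hψ 0) (fT_smul E E' hψ hkT h0T hinjT 0) ?_ ?_ ?_).1
  · intro z hz
    obtain ⟨⟨hgam, hd⟩, hg⟩ := hz
    refine ⟨(mem_SupX_iff E E' hψ str str' mT hmT hmR hmS hD hDpos z).mpr ⟨hgam, hg⟩, ?_⟩
    rw [DD_fT, hd, map_zero]
  · intro y hy hd
    obtain ⟨u, rfl, hgam, hg⟩ := exists_of_mem_SupX E E' hψ str str' mT hmT hmR hmS hD hDpos hy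
    refine ⟨u, ⟨⟨hgam, ?_⟩, hg⟩, rfl⟩
    apply fT_injective E E' hψ 1
    rw [← DD_fT E E' hψ str str', hd, map_zero]
  · intro z _ hz
    rw [supXprev_zero, Submodule.map_bot, Submodule.mem_bot] at hz
    exact fT_injective E E' hψ 0 (hz.trans (map_zero _).symm)

include hmT hmR hmS hD hDpos hkT h0T hinjT in
theorem finrank_Hg_T_succ [IsNoetherianRing T] (F : GrLC.StarInjRes 𝒯 (segG M N hψ).gr)
    (n : ℕ) (g : ℤ) :
    Module.finrank (GrLC.deg0 𝒯) (Hg mT F (n + 1) g) =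
      Module.finrank k (HQ (DD (CR E hψ str) (CS E' hψ str'))
        (SupXprev E E' hψ str str' (n + 1) g) (SupX E E' hψ str str' (n + 1) g)) := by
  classical
  have hvan : ∀ (m l : ℕ) (g' : ℤ), VanX mT ((segRes E E' hψ str str').A m) (l + 1) g' :=
    fun m l g' => vanX_An E E' hψ str str' mT hmT hmR hmS hD hDpos m l g'
  have e1' : Nonempty (Hg mT F (n + 1) g ≃ₗ[GrLC.deg0 𝒯]
      HA mT (dn E E' hψ n) (dn E E' hψ (n + 1)) g) :=
    acyc_succ mT n (segG M N hψ) (segRes E E' hψ str str') hvan F g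
  obtain ⟨e1⟩ := e1'
  rw [e1.finrank_eq]
  refine (bridge (deg0Equiv hkT h0T hinjT) (ZA mT (dn E E' hψ (n + 1)) g)
    (BA mT (dn E E' hψ n) (dn E E' hψ (n + 1)) g)
    (DD (CR E hψ str) (CS E' hψ str')) (SupXprev E E' hψ str str' (n + 1) g)
    (SupX E E' hψ str str' (n + 1) g) (fT E E' hψ (n + 1))
    (fT_smul E E' hψ hkT h0T hinjT (n + 1)) ?_ ?_ ?_).1
  · intro z hz
    obtain ⟨⟨hgam, hd⟩, hg⟩ := hz
    refine ⟨(mem_SupX_iff E E' hψ str str' mT hmT hmR hmS hD hDpos z).mpr ⟨hgam, hg⟩, ?_⟩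
    rw [DD_fT, hd, map_zero]
  · intro y hy hd
    obtain ⟨u, rfl, hgam, hg⟩ := exists_of_mem_SupX E E' hψ str str' mT hmT hmR hmS hD hDpos hy
    refine ⟨u, ⟨⟨hgam, ?_⟩, hg⟩, rfl⟩
    apply fT_injective E E' hψ (n + 1 + 1)
    rw [← DD_fT E E' hψ str str', hd, map_zero]
  · intro z
    rw [mem_BA, supXprev_succ]
    constructor
    · rintro ⟨w, hw, hwz⟩
      have hzg : dn E E' hψ n w ∈ (An E E' hψ (n + 1)).gr g := by
        rw [hwz]; exact z.2.2
      obtain ⟨w', hw'1, hw'2, hw'3⟩ := exists_homogeneous_preimage mT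
        (Y0 := An E E' hψ n) (Y1 := An E E' hψ (n + 1)) (dn E E' hψ n) (dn_grHom E E' hψ n)
        hw hzg
      refine ⟨fT E E' hψ n w',
        (mem_SupX_iff E E' hψ str str' mT hmT hmR hmS hD hDpos w').mpr ⟨hw'1, hw'2⟩, ?_⟩
      rw [DD_fT, hw'3, hwz]
    · rintro ⟨y, hy, hyz⟩
      obtain ⟨u, rfl, hgam, _⟩ :=
        exists_of_mem_SupX E E' hψ str str' mT hmT hmR hmS hD hDpos hy
      refine ⟨u, hgam, fT_injective E E' hψ (n + 1) ?_⟩
      rw [← DD_fT E E' hψ str str']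
      exact hyz

include hmT hmR hmS hD hDpos hkT h0T hinjT in
/-- The local cohomology of the Segre product is the cohomology of the torsion tensors. -/
theorem finrank_Hg_T [IsNoetherianRing T] (F : GrLC.StarInjRes 𝒯 (segG M N hψ).gr)
    (n : ℕ) (g : ℤ) :
    Module.finrank (GrLC.deg0 𝒯) (Hg mT F n g) =
      Module.finrank k (HQ (DD (CR E hψ str) (CS E' hψ str'))
        (SupXprev E E' hψ str str' n g) (SupX E E' hψ str str' n g)) := by
  cases n with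
  | zero => exact finrank_Hg_T_zero E E' hψ str str' mT hmT hmR hmS hD hDpos hkT h0T hinjT F g
  | succ n =>
    exact finrank_Hg_T_succ E E' hψ str str' mT hmT hmR hmS hD hDpos hkT h0T hinjT F n g

variable (h0R : ∀ r ∈ 𝒜 0, ∃ c : k, algebraMap k R c = r)
  (hinjR : Function.Injective (algebraMap k R))
  (h0S : ∀ r ∈ ℬ 0, ∃ c : k, algebraMap k S c = r)
  (hinjS : Function.Injective (algebraMap k S))

include str str' hmT hmR hmS hD hDpos hkT h0T hinjT h0R hinjR h0S hinjS in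
/-- The Künneth formula for special resolutions of the factors. -/
theorem main_AS [IsNoetherianRing T] (hvanR : ∀ g, Van pR.a E 0 g) (hvanS : ∀ g, Van pS.a E' 0 g)
    (F : GrLC.StarInjRes 𝒯 (segG M N hψ).gr) (q : ℕ) (g : ℤ)
    (hfR : ∀ i, Module.Finite (GrLC.deg0 𝒜) (Hg pR.a E i g))
    (hfS : ∀ i, Module.Finite (GrLC.deg0 ℬ) (Hg pS.a E' i g))
    (hfR0 : Module.Finite (GrLC.deg0 𝒜) (GrLC.comp 𝒜 M.gr g))
    (hfS0 : Module.Finite (GrLC.deg0 ℬ) (GrLC.comp ℬ N.gr g)) :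
    Module.finrank (GrLC.deg0 𝒯) (Hg mT F q g) =
      Module.finrank (GrLC.deg0 𝒜) (GrLC.comp 𝒜 M.gr g) *
          Module.finrank (GrLC.deg0 ℬ) (Hg pS.a E' q g) +
        Module.finrank (GrLC.deg0 𝒜) (Hg pR.a E q g) *
          Module.finrank (GrLC.deg0 ℬ) (GrLC.comp ℬ N.gr g) +
        ∑ i ∈ Finset.range (q + 2),
          Module.finrank (GrLC.deg0 𝒜) (Hg pR.a E i g) *
            Module.finrank (GrLC.deg0 ℬ) (Hg pS.a E' (q + 1 - i) g) := by
  have hT := finrank_Hg_T E E' hψ str str' mT hmT hmR hmS hD hDpos hkT h0T hinjT F q g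
  have hsup := finrank_sup (isExact_cpx hψ.k𝒜 E str) (isExact_cpx hψ.kℬ E' str')
    (isDeep_cpx hψ.k𝒜 E str hvanR) (isDeep_cpx hψ.kℬ E' str' hvanS) g
    (fun p => (finrank_Hg hψ.k𝒜 h0R hinjR E str p g).2 (hfR p))
    (fun p => (finrank_Hg hψ.kℬ h0S hinjS E' str' p g).2 (hfS p))
    ((finrank_comp hψ.k𝒜 h0R hinjR E str g).2 hfR0)
    ((finrank_comp hψ.kℬ h0S hinjS E' str' g).2 hfS0) q
  have e1 := fun i => (finrank_Hg hψ.k𝒜 h0R hinjR E str i g).1
  have e2 := fun i => (finrank_Hg hψ.kℬ h0S hinjS E' str' i g).1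
  have e3 := (finrank_comp hψ.k𝒜 h0R hinjR E str g).1
  have e4 := (finrank_comp hψ.kℬ h0S hinjS E' str' g).1
  rw [hT]
  refine hsup.trans ?_
  rw [e3, e4, e1 q, e2 q, add_comm (Module.finrank k ((CR E hψ str).H q g) * _)]
  congr 1
  refine Finset.sum_congr rfl fun i _ => ?_
  rw [e1 i, e2 (q + 1 - i)]

end torsion

end Groth.Agent.Lib.R2H7.SegMain
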