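/-
The Künneth formula for the graded local cohomology of a Segre product (additive-subgroup
gradings, arbitrary *injective resolutions): choice of parameters of a common degree, special
resolutions of the two factors, finiteness of the pieces.
-/
import Mathlib
import Groth.Agent.Lib.R2H7SegMain
import Groth.Agent.Lib.R2H7GrFin
import Groth.Agent.Lib.R2H7GrSerre

set_option autoImplicit false
open DirectSum
open scoped TensorProduct

noncomputable section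

namespace Groth.Agent.Lib.R2H7.SegFinal

open Groth.Agent.Lib.Helper29GrEss Groth.Agent.Lib.Helper29GrHom Groth.Agent.Lib.Helper29GrGam
  Groth.Agent.Lib.R2H7.GrBdry Groth.Agent.Lib.R2H7.GrDer Groth.Agent.Lib.R2H7.GrH
  Groth.Agent.Lib.R2H7.GrTors Groth.Agent.Lib.R2H7.GrAcyc
  Groth.Agent.Lib.R2H7.SegPres Groth.Agent.Lib.R2H7.SegSpecial
  Groth.Agent.Lib.R2H7.SegTotRB Groth.Agent.Lib.R2H7.SegMain
  Groth.Agent.Lib.R2H7.GrFin Groth.Agent.Lib.R2H7.GrSerre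

universe u

section params

variable {ι : Type} [AddCommGroup ι] [DecidableEq ι]
variable {R : Type u} [CommRing R] {𝒜 : ι → AddSubgroup R} [GradedRing 𝒜]

/-- Replace the parameters by their `n`-th powers. -/
def powParam (p : SpParam 𝒜) (n : ℕ) (hn : 0 < n) : SpParam 𝒜 where
  a := p.a
  r := p.r
  x := fun i => p.x i ^ n
  D := n • p.D
  hxD := fun i => SetLike.pow_mem_graded n (p.hxD i)
  hxa := fun i => Ideal.pow_mem_of_mem _ (p.hxa i) n hn
  hrad := by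
    refine p.hrad.trans ?_
    rw [Ideal.radical_le_radical_iff, Ideal.span_le]
    rintro _ ⟨i, rfl⟩
    exact Ideal.mem_radical_iff.mpr ⟨n, Ideal.subset_span ⟨i, rfl⟩⟩

end params

variable {k : Type u} [Field k] {R S T : Type u} [CommRing R] [CommRing S] [CommRing T]
  [Algebra k R] [Algebra k S] [Algebra k T]
variable {𝒜 : ℤ → AddSubgroup R} [GradedRing 𝒜] {ℬ : ℤ → AddSubgroup S} [GradedRing ℬ]
  {𝒯 : ℤ → AddSubgroup T} [GradedRing 𝒯] {ψ : T →ₐ[k] R ⊗[k] S}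

theorem exists_common_params [IsNoetherianRing R] [IsNoetherianRing S]
    (mR : HomogeneousIdeal 𝒜)
    (hmR : mR.toIdeal = Ideal.span (⋃ n ∈ Set.Ioi (0 : ℤ), (𝒜 n : Set R)))
    (mS : HomogeneousIdeal ℬ)
    (hmS : mS.toIdeal = Ideal.span (⋃ n ∈ Set.Ioi (0 : ℤ), (ℬ n : Set S))) :
    ∃ (pR : SpParam 𝒜) (pS : SpParam ℬ), pR.a = mR ∧ pS.a = mS ∧ pS.D = pR.D ∧ 0 < pR.D := by
  obtain ⟨p, hp, hpD⟩ := exists_spParam mR hmR
  obtain ⟨p', hp', hp'D⟩ := exists_spParam mS hmS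
  have h1 : 0 < p'.D.toNat := by omega
  have h2 : 0 < p.D.toNat := by omega
  refine ⟨powParam p p'.D.toNat h1, powParam p' p.D.toNat h2, hp, hp', ?_, ?_⟩
  · show p.D.toNat • p'.D = p'.D.toNat • p.D
    rw [nsmul_eq_mul, nsmul_eq_mul, Int.toNat_of_nonneg hpD.le, Int.toNat_of_nonneg hp'D.le,
      mul_comm]
  · show 0 < p'.D.toNat • p.D
    rw [nsmul_eq_mul, Int.toNat_of_nonneg hp'D.le]
    exact mul_pos hp'D hpD

/-- The Künneth formula for the graded local cohomology of a Segre product. -/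
theorem kunneth_AS (hψ : SegCtx 𝒜 ℬ 𝒯 ψ) [IsNoetherianRing R] [IsNoetherianRing S]
    [IsNoetherianRing T]
    (hposR : ∀ n : ℤ, n < 0 → 𝒜 n = ⊥) (hposS : ∀ n : ℤ, n < 0 → ℬ n = ⊥)
    (h0R : ∀ r ∈ 𝒜 0, ∃ c : k, algebraMap k R c = r)
    (hinjR : Function.Injective (algebraMap k R))
    (h0S : ∀ r ∈ ℬ 0, ∃ c : k, algebraMap k S c = r)
    (hinjS : Function.Injective (algebraMap k S))
    (hkT : ∀ c : k, algebraMap k T c ∈ 𝒯 0)
    (h0T : ∀ r ∈ 𝒯 0, ∃ c : k, algebraMap k T c = r)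
    (hinjT : Function.Injective (algebraMap k T))
    (mR : HomogeneousIdeal 𝒜)
    (hmR : mR.toIdeal = Ideal.span (⋃ n ∈ Set.Ioi (0 : ℤ), (𝒜 n : Set R)))
    (mS : HomogeneousIdeal ℬ)
    (hmS : mS.toIdeal = Ideal.span (⋃ n ∈ Set.Ioi (0 : ℤ), (ℬ n : Set S)))
    (mT : HomogeneousIdeal 𝒯)
    (hmT : mT.toIdeal = Ideal.span (⋃ n ∈ Set.Ioi (0 : ℤ), (𝒯 n : Set T)))
    (M : GrLC.GMod.{u} 𝒜) (N : GrLC.GMod.{u} ℬ)
    [Module k M.carrier] [IsScalarTower k R M.carrier]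
    [Module k N.carrier] [IsScalarTower k S N.carrier]
    [Module.Finite R M.carrier] [Module.Finite S N.carrier]
    (EM : GrLC.StarInjRes 𝒜 M.gr) (EN : GrLC.StarInjRes ℬ N.gr)
    (F : GrLC.StarInjRes 𝒯 (segG M N hψ).gr)
    (hM0 : ∀ g, Van mR EM 0 g) (hN0 : ∀ g, Van mS EN 0 g) (q : ℕ) (g : ℤ) :
    Module.finrank (GrLC.deg0 𝒯) (Hg mT F q g) =
      Module.finrank (GrLC.deg0 𝒜) (GrLC.comp 𝒜 M.gr g) *
          Module.finrank (GrLC.deg0 ℬ) (Hg mS EN q g) +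
        Module.finrank (GrLC.deg0 𝒜) (Hg mR EM q g) *
          Module.finrank (GrLC.deg0 ℬ) (GrLC.comp ℬ N.gr g) +
        ∑ i ∈ Finset.range (q + 2),
          Module.finrank (GrLC.deg0 𝒜) (Hg mR EM i g) *
            Module.finrank (GrLC.deg0 ℬ) (Hg mS EN (q + 1 - i) g) := by
  obtain ⟨pR, pS, hpR, hpS, hD, hDpos⟩ := exists_common_params mR hmR mS hmS
  subst hpR hpS
  have hmR' : ∀ j : ℤ, 0 < j → ∀ r ∈ 𝒜 j, r ∈ pR.a.toIdeal := by
    intro j hj r hr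
    rw [hmR]
    exact Ideal.subset_span (Set.mem_iUnion₂.mpr ⟨j, hj, hr⟩)
  have hmS' : ∀ j : ℤ, 0 < j → ∀ r ∈ ℬ j, r ∈ pS.a.toIdeal := by
    intro j hj r hr
    rw [hmS]
    exact Ideal.subset_span (Set.mem_iUnion₂.mpr ⟨j, hj, hr⟩)
  have hartR : IsArtinianRing (GrLC.deg0 𝒜) :=
    (deg0Equiv hψ.k𝒜 h0R hinjR).symm.isArtinianRing
  have hartS : IsArtinianRing (GrLC.deg0 ℬ) :=
    (deg0Equiv hψ.kℬ h0S hinjS).symm.isArtinianRing
  have eR : ∀ i, Module.finrank (GrLC.deg0 𝒜) (Hg pR.a EM i g) =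
      Module.finrank (GrLC.deg0 𝒜) (Hg pR.a (spRes pR M) i g) :=
    fun i => (hgCongr pR.a EM (spRes pR M) i g).finrank_eq
  have eS : ∀ i, Module.finrank (GrLC.deg0 ℬ) (Hg pS.a EN i g) =
      Module.finrank (GrLC.deg0 ℬ) (Hg pS.a (spRes pS N) i g) :=
    fun i => (hgCongr pS.a EN (spRes pS N) i g).finrank_eq
  have hfR : ∀ i, Module.Finite (GrLC.deg0 𝒜) (Hg pR.a (spRes pR M) i g) := by
    intro i
    haveI := finite_hcomp (a := pR.a) hposR hmR M (spRes pR M) i g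
    exact Module.Finite.equiv (hgEquiv pR.a (spRes pR M) i g).symm
  have hfS : ∀ i, Module.Finite (GrLC.deg0 ℬ) (Hg pS.a (spRes pS N) i g) := by
    intro i
    haveI := finite_hcomp (a := pS.a) hposS hmS N (spRes pS N) i g
    exact Module.Finite.equiv (hgEquiv pS.a (spRes pS N) i g).symm
  have hfR0 : Module.Finite (GrLC.deg0 𝒜) (GrLC.comp 𝒜 M.gr g) := by
    have hfl := fl_comp hposR M g
    have hnoeth := (isFiniteLength_iff_isNoetherian_isArtinian.mp hfl).1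
    exact Module.IsNoetherian.finite _ _
  have hfS0 : Module.Finite (GrLC.deg0 ℬ) (GrLC.comp ℬ N.gr g) := by
    have hfl := fl_comp hposS N g
    have hnoeth := (isFiniteLength_iff_isNoetherian_isArtinian.mp hfl).1
    exact Module.IsNoetherian.finite _ _
  have hvanR : ∀ g', Van pR.a (spRes pR M) 0 g' :=
    fun g' => (vanX_iff pR.a (spRes pR M)).mp ((vanX_iff pR.a EM).mpr (hM0 g'))
  have hvanS : ∀ g', Van pS.a (spRes pS N) 0 g' :=
    fun g' => (vanX_iff pS.a (spRes pS N)).mp ((vanX_iff pS.a EN).mpr (hN0 g'))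
  have key := main_AS (spRes pR M) (spRes pS N) hψ (spResStr pR M) (spResStr pS N) mT hmT
    hmR' hmS' hD hDpos hkT h0T hinjT h0R hinjR h0S hinjS hvanR hvanS F q g hfR hfS hfR0 hfS0
  rw [key, eR q, eS q]
  congr 1
  refine Finset.sum_congr rfl fun i _ => ?_
  rw [eR i, eS (q + 1 - i)]

end Groth.Agent.Lib.R2H7.SegFinal
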