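/-
The Künneth formula for the graded local cohomology of a Segre product, for rings graded by
`k`-subspaces and abstractly presented Segre products: conversion to the additive-subgroup
setting of `R2H7SegFinal`.
-/
import Mathlib
import Groth.Agent.Lib.R2H7SegFinal
import Groth.Agent.S18646

set_option autoImplicit false
open DirectSum
open scoped TensorProduct

noncomputable section

namespace Groth.Agent.Lib.R2H7.SegConv

open Groth.Agent.Lib.Helper29GrEss Groth.Agent.Lib.Helper29GrHom Groth.Agent.Lib.Helper29GrGam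
  Groth.Agent.Lib.R2H7.GrBdry Groth.Agent.Lib.R2H7.GrDer Groth.Agent.Lib.R2H7.GrH
  Groth.Agent.Lib.R2H7.GrTors Groth.Agent.Lib.R2H7.GrAcyc
  Groth.Agent.Lib.R2H7.SegPres Groth.Agent.Lib.R2H7.SegSpecial
  Groth.Agent.Lib.R2H7.SegTotRB Groth.Agent.Lib.R2H7.SegMain Groth.Agent.Lib.R2H7.SegFinal

universe u v

/-! ### Semilinear transfer of dimensions -/

section semilinear

theorem finrank_compHom' {A A' : Type u} [CommRing A] [CommRing A'] (e : A ≃+* A') (W : Type v)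
    [AddCommGroup W] [Module A' W] :
    @Module.finrank A W _ _ (Module.compHom W (e : A →+* A')) = Module.finrank A' W := by
  letI : Module A W := Module.compHom W (e : A →+* A')
  have h := rank_eq_of_equiv_equiv (R := A) (R' := A') (M := W) (M₁ := W) (e : A → A')
    (AddEquiv.refl W) e.bijective (fun r m => rfl)
  unfold Module.finrank
  rw [h]

end semilinear

/-! ### The degree zero subrings -/

section deg0

variable {R : Type u} [CommRing R] {σ : Type u} [SetLike σ R] [AddSubgroupClass σ R]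
  (𝒜₀ : ℤ → σ) [GradedRing 𝒜₀]

theorem deg0_toAS : GrLC.deg0 (toAS 𝒜₀) = GrLC.deg0 𝒜₀ := Subring.ext fun _ => Iff.rfl

/-- The degree zero subrings of the two gradings are the same. -/
def deg0Conv : GrLC.deg0 (toAS 𝒜₀) ≃+* GrLC.deg0 𝒜₀ := RingEquiv.subringCongr (deg0_toAS 𝒜₀)

theorem deg0Conv_coe (a : GrLC.deg0 (toAS 𝒜₀)) : ((deg0Conv 𝒜₀ a : GrLC.deg0 𝒜₀) : R) = (a : R) :=
  rfl

variable {M : Type u} [AddCommGroup M] [Module R M] {τ : Type u} [SetLike τ M]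
  [AddSubgroupClass τ M] (ℳ : ℤ → τ) [DirectSum.Decomposition ℳ] [SetLike.GradedSMul 𝒜₀ ℳ]

/-- The pieces of graded local cohomology have the same dimension for the two gradings. -/
theorem finrank_hcomp_conv (E : GrLC.StarInjRes 𝒜₀ ℳ) (a₀ : HomogeneousIdeal 𝒜₀) (i : ℕ)
    (g : ℤ) :
    Module.finrank (GrLC.deg0 𝒜₀) ↥(E.Hcomp a₀ i g) =
      Module.finrank (GrLC.deg0 (toAS 𝒜₀))
        (Hg (convIdeal 𝒜₀ a₀) (convRes 𝒜₀ ℳ E) i g) := by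
  letI : Module (GrLC.deg0 (toAS 𝒜₀)) ↥(E.Hcomp a₀ i g) :=
    Module.compHom _ ((deg0Conv 𝒜₀ : GrLC.deg0 (toAS 𝒜₀) ≃+* GrLC.deg0 𝒜₀) :
      GrLC.deg0 (toAS 𝒜₀) →+* GrLC.deg0 𝒜₀)
  let f : ↥(Zg (convIdeal 𝒜₀ a₀) (convRes 𝒜₀ ℳ E) i g) →ₗ[GrLC.deg0 (toAS 𝒜₀)]
      ↥(E.Hcomp a₀ i g) :=
    { toFun := fun z => ⟨E.toH a₀ i ⟨z.1, z.2.1⟩, ⟨⟨z.1, z.2.1⟩, z.2.2, rfl⟩⟩
      map_add' := fun z w => Subtype.ext (by
        show E.toH a₀ i ⟨z.1 + w.1, _⟩ = E.toH a₀ i ⟨z.1, _⟩ + E.toH a₀ i ⟨w.1, _⟩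
        rw [← map_add]
        rfl)
      map_smul' := fun r z => Subtype.ext (by
        show E.toH a₀ i ⟨(r : R) • z.1, _⟩ = (r : R) • E.toH a₀ i ⟨z.1, _⟩
        rw [← map_smul]
        rfl) }
  have hker : LinearMap.ker f = Bg (convIdeal 𝒜₀ a₀) (convRes 𝒜₀ ℳ E) i g := by
    ext z
    rw [LinearMap.mem_ker, mem_Bg, cobdy_convRes]
    constructor
    · intro h
      have h1 : (Submodule.Quotient.mk (⟨z.1, z.2.1⟩ : ↥(E.cocyc a₀ i)) :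
          ↥(E.cocyc a₀ i) ⧸ (E.cobdy a₀ i).comap (E.cocyc a₀ i).subtype) = 0 :=
        congrArg Subtype.val h
      have h2 : (⟨z.1, z.2.1⟩ : ↥(E.cocyc a₀ i)) ∈
          (E.cobdy a₀ i).comap (E.cocyc a₀ i).subtype := (Submodule.Quotient.mk_eq_zero _).mp h1
      exact h2
    · intro h
      apply Subtype.ext
      exact (Submodule.Quotient.mk_eq_zero _).mpr h
  have hsurj : Function.Surjective f := by
    rintro ⟨x, ⟨z, hz, rfl⟩⟩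
    exact ⟨⟨z.1, ⟨z.2, hz⟩⟩, Subtype.ext rfl⟩
  have eqv : Hg (convIdeal 𝒜₀ a₀) (convRes 𝒜₀ ℳ E) i g ≃ₗ[GrLC.deg0 (toAS 𝒜₀)]
      ↥(E.Hcomp a₀ i g) :=
    (Submodule.quotEquivOfEq _ _ hker.symm).trans (f.quotKerEquivOfSurjective hsurj)
  rw [eqv.finrank_eq]
  exact (finrank_compHom' (deg0Conv 𝒜₀) ↥(E.Hcomp a₀ i g)).symm

/-- The pieces of a graded module have the same dimension for the two gradings. -/
theorem finrank_comp_conv (d : ℤ) :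
    Module.finrank (GrLC.deg0 𝒜₀) ↥(GrLC.comp 𝒜₀ ℳ d) =
      Module.finrank (GrLC.deg0 (toAS 𝒜₀))
        ↥(GrLC.comp (toAS 𝒜₀) (toGMod 𝒜₀ ℳ).gr d) := by
  let e : ↥(GrLC.comp (toAS 𝒜₀) (toGMod 𝒜₀ ℳ).gr d) ≃+ ↥(GrLC.comp 𝒜₀ ℳ d) :=
    { toFun := fun x => ⟨x.1, x.2⟩
      invFun := fun y => ⟨y.1, y.2⟩
      left_inv := fun _ => rfl
      right_inv := fun _ => rfl
      map_add' := fun _ _ => rfl }
  have h := rank_eq_of_equiv_equiv (deg0Conv 𝒜₀ : GrLC.deg0 (toAS 𝒜₀) → GrLC.deg0 𝒜₀) e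
    (deg0Conv 𝒜₀).bijective (fun r m => rfl)
  unfold Module.finrank
  rw [h]

instance instModK {k : Type u} [Field k] [inst : Module k M] :
    Module k (toGMod 𝒜₀ ℳ).carrier := inst

instance instTower {k : Type u} [Field k] [Algebra k R] [Module k M]
    [inst : IsScalarTower k R M] : IsScalarTower k R (toGMod 𝒜₀ ℳ).carrier := inst

instance instFinite [inst : Module.Finite R M] : Module.Finite R (toGMod 𝒜₀ ℳ).carrier := inst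

end deg0

/-! ### Transport of a resolution along an isomorphism -/

section transport

variable {R : Type u} [CommRing R] {𝒜 : ℤ → AddSubgroup R} [GradedRing 𝒜]
  {X Y : GrLC.GMod.{u} 𝒜}

/-- A resolution of `X` is a resolution of an isomorphic graded module `Y`. -/
def transRes (θ : Y.carrier ≃ₗ[R] X.carrier) (hθ : GrLC.IsGrHom Y.gr X.gr θ.toLinearMap)
    (E : GrLC.StarInjRes 𝒜 X.gr) : GrLC.StarInjRes 𝒜 Y.gr where
  X := E.X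
  d := E.d
  ε := E.ε ∘ₗ θ.toLinearMap
  d_grHom := E.d_grHom
  ε_grHom := fun g m hm => E.ε_grHom g _ (hθ g m hm)
  ε_injective := E.ε_injective.comp θ.injective
  exact_zero := by
    rw [E.exact_zero, LinearMap.range_comp_of_range_eq_top _ (LinearEquiv.range θ)]
  exact_succ := E.exact_succ
  starInj := E.starInj

theorem hg_transRes (a : HomogeneousIdeal 𝒜) (θ : Y.carrier ≃ₗ[R] X.carrier)
    (hθ : GrLC.IsGrHom Y.gr X.gr θ.toLinearMap) (E : GrLC.StarInjRes 𝒜 X.gr) (i : ℕ) (g : ℤ) :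
    Module.finrank (GrLC.deg0 𝒜) (Hg a (transRes θ hθ E) i g) =
      Module.finrank (GrLC.deg0 𝒜) (Hg a E i g) := rfl

end transport

/-! ### The Segre context -/

section ctx

variable {k : Type u} [Field k] {R S T : Type u} [CommRing R] [CommRing S] [CommRing T]
  [Algebra k R] [Algebra k S] [Algebra k T]
  (𝒜 : ℤ → Submodule k R) [GradedAlgebra 𝒜] (ℬ : ℤ → Submodule k S) [GradedAlgebra ℬ]
  (𝒯 : ℤ → Submodule k T) [GradedAlgebra 𝒯] (ψ : T →ₐ[k] R ⊗[k] S)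

theorem segCtx_of (hT : GrSeg.IsSegreRing 𝒜 ℬ 𝒯 ψ) : SegCtx (toAS 𝒜) (toAS ℬ) (toAS 𝒯) ψ where
  k𝒜 := fun c => SetLike.algebraMap_mem_graded 𝒜 c
  kℬ := fun c => SetLike.algebraMap_mem_graded ℬ c
  ψ_mem := fun n t ht => by
    have h : ψ t ∈ (𝒯 n).map ψ.toLinearMap := ⟨t, ht, rfl⟩
    rw [hT.2 n] at h
    exact h
  ψ_surj := fun n z hz => by
    have h : z ∈ (𝒯 n).map ψ.toLinearMap := by
      rw [hT.2 n]
      exact hz
    obtain ⟨t, ht, rfl⟩ := h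
    exact ⟨t, ht, rfl⟩
  ψ_inj := hT.1

theorem pos_toAS (hpos : ∀ n : ℤ, n < 0 → 𝒜 n = ⊥) : ∀ n : ℤ, n < 0 → toAS 𝒜 n = ⊥ := by
  intro n hn
  ext x
  have h1 : x ∈ toAS 𝒜 n ↔ x ∈ 𝒜 n := Iff.rfl
  rw [h1, hpos n hn, Submodule.mem_bot, AddSubgroup.mem_bot]

theorem zero_toAS (h0 : 𝒜 0 = Submodule.span k {(1 : R)}) :
    ∀ r ∈ toAS 𝒜 0, ∃ c : k, algebraMap k R c = r := by
  intro r hr
  have h1 : r ∈ 𝒜 0 := hr
  rw [h0, Submodule.mem_span_singleton] at h1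
  obtain ⟨c, rfl⟩ := h1
  exact ⟨c, Algebra.algebraMap_eq_smul_one c⟩

include ψ in
theorem zero_toAS_T (h0R : 𝒜 0 = Submodule.span k {(1 : R)})
    (h0S : ℬ 0 = Submodule.span k {(1 : S)}) (hT : GrSeg.IsSegreRing 𝒜 ℬ 𝒯 ψ) :
    ∀ t ∈ toAS 𝒯 0, ∃ c : k, algebraMap k T c = t := by
  intro t ht
  have h1 : ψ t ∈ (𝒯 0).map ψ.toLinearMap := ⟨t, ht, rfl⟩
  rw [hT.2 0] at h1
  have h2 : ∀ z ∈ GrSeg.segrePiece k 𝒜 ℬ 0, ∃ c : k, algebraMap k (R ⊗[k] S) c = z := by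
    intro z hz
    refine Submodule.span_induction
      (p := fun z _ => ∃ c : k, algebraMap k (R ⊗[k] S) c = z) ?_ ?_ ?_ ?_ hz
    · rintro _ ⟨a, ha, b, hb, rfl⟩
      rw [h0R, Submodule.mem_span_singleton] at ha
      rw [h0S, Submodule.mem_span_singleton] at hb
      obtain ⟨c, rfl⟩ := ha
      obtain ⟨c', rfl⟩ := hb
      refine ⟨c * c', ?_⟩
      rw [Algebra.algebraMap_eq_smul_one, TensorProduct.smul_tmul_smul]
      rfl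
    · exact ⟨0, map_zero _⟩
    · rintro _ _ _ _ ⟨c, rfl⟩ ⟨c', rfl⟩
      exact ⟨c + c', map_add _ _ _⟩
    · rintro c _ _ ⟨c', rfl⟩
      exact ⟨c * c', by rw [map_mul, Algebra.smul_def]⟩
  obtain ⟨c, hc⟩ := h2 _ h1
  refine ⟨c, hT.1 ?_⟩
  rw [AlgHom.commutes, hc]

include ψ in
theorem algebraMap_T_injective [Nontrivial R] [Nontrivial S] :
    Function.Injective (algebraMap k T) := by
  haveI : Nontrivial (R ⊗[k] S) :=
    (Algebra.TensorProduct.includeLeft_injective (R := k) (S := k) (A := R) (B := S)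
      (algebraMap k S).injective).nontrivial
  haveI : Nontrivial T := ψ.toRingHom.domain_nontrivial
  exact (algebraMap k T).injective

end ctx

/-! ### The isomorphism of an abstract Segre product with the concrete one -/

section iso

variable {k : Type u} [Field k] {R S T : Type u} [CommRing R] [CommRing S] [CommRing T]
  [Algebra k R] [Algebra k S] [Algebra k T]
  (𝒜 : ℤ → Submodule k R) [GradedAlgebra 𝒜] (ℬ : ℤ → Submodule k S) [GradedAlgebra ℬ]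
  (𝒯 : ℤ → Submodule k T) [GradedAlgebra 𝒯] {ψ : T →ₐ[k] R ⊗[k] S}
  {M N P : Type u} [AddCommGroup M] [Module R M] [Module k M] [IsScalarTower k R M]
  [AddCommGroup N] [Module S N] [Module k N] [IsScalarTower k S N]
  [AddCommGroup P] [Module T P] [Module k P] [IsScalarTower k T P]
  {τM τN τQ : Type u} [SetLike τM M] [AddSubgroupClass τM M] [SetLike τN N]
  [AddSubgroupClass τN N] [SetLike τQ P] [AddSubgroupClass τQ P]
  (ℳ : ℤ → τM) [DirectSum.Decomposition ℳ] [SetLike.GradedSMul 𝒜 ℳ]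
  (𝒩 : ℤ → τN) [DirectSum.Decomposition 𝒩] [SetLike.GradedSMul ℬ 𝒩]
  (𝒬 : ℤ → τQ) [DirectSum.Decomposition 𝒬] [SetLike.GradedSMul 𝒯 𝒬]
  {φ : P →ₗ[k] M ⊗[k] N} (hP : GrSeg.IsSegreMod ψ ℳ 𝒩 𝒬 φ)
  (hψ : SegCtx (toAS 𝒜) (toAS ℬ) (toAS 𝒯) ψ)

include hP in
theorem phi_mem (p : P) : φ p ∈ segSub k (toGMod 𝒜 ℳ) (toGMod ℬ 𝒩) := by
  classical
  refine DirectSum.Decomposition.inductionOn 𝒬
    (motive := fun p => φ p ∈ segSub k (toGMod 𝒜 ℳ) (toGMod ℬ 𝒩)) ?_ ?_ ?_ p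
  · rw [map_zero]
    exact zero_mem _
  · intro i m
    refine piece_le_segSub (toGMod 𝒜 ℳ) (toGMod ℬ 𝒩) i ?_
    have h : φ (m : P) ∈ φ '' (𝒬 i : Set P) := ⟨m, m.2, rfl⟩
    rw [hP.image_piece i] at h
    exact h
  · intro p p' h h'
    rw [map_add]
    exact add_mem h h'

include hP in
theorem exists_phi_eq {z : M ⊗[k] N} (hz : z ∈ segSub k (toGMod 𝒜 ℳ) (toGMod ℬ 𝒩)) :
    ∃ p : P, φ p = z := by
  refine Submodule.iSup_induction (piece k (toGMod 𝒜 ℳ) (toGMod ℬ 𝒩))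
    (motive := fun z => ∃ p : P, φ p = z) hz ?_ ?_ ?_
  · intro n z hzn
    have h : z ∈ φ '' (𝒬 n : Set P) := by
      rw [hP.image_piece n]
      exact hzn
    obtain ⟨p, _, rfl⟩ := h
    exact ⟨p, rfl⟩
  · exact ⟨0, map_zero _⟩
  · rintro _ _ ⟨p, rfl⟩ ⟨p', rfl⟩
    exact ⟨p + p', map_add _ _ _⟩

/-- The map `φ` as a `T`-linear map into the concrete Segre product. -/
def phiT : P →ₗ[T] SegCar (toGMod 𝒜 ℳ) (toGMod ℬ 𝒩) hψ where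
  toFun p := ⟨φ p, phi_mem 𝒜 ℬ ℳ 𝒩 𝒬 hP p⟩
  map_add' p p' := Subtype.ext (map_add φ p p')
  map_smul' t p := Subtype.ext (hP.map_smul t p)

theorem phiT_val (p : P) : (phiT 𝒜 ℬ 𝒯 ℳ 𝒩 𝒬 hP hψ p).1 = φ p := rfl

theorem phiT_bijective : Function.Bijective (phiT 𝒜 ℬ 𝒯 ℳ 𝒩 𝒬 hP hψ) := by
  constructor
  · intro p p' h
    exact hP.injective (congrArg Subtype.val h)
  · intro u
    obtain ⟨p, hp⟩ := exists_phi_eq 𝒜 ℬ ℳ 𝒩 𝒬 hP u.2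
    exact ⟨p, Subtype.ext hp⟩

/-- The isomorphism of the concrete Segre product with the abstract one. -/
def segIso : (segG (toGMod 𝒜 ℳ) (toGMod ℬ 𝒩) hψ).carrier ≃ₗ[T] (toGMod 𝒯 𝒬).carrier :=
  (LinearEquiv.ofBijective (phiT 𝒜 ℬ 𝒯 ℳ 𝒩 𝒬 hP hψ) (phiT_bijective 𝒜 ℬ 𝒯 ℳ 𝒩 𝒬 hP hψ)).symm

theorem phiT_segIso (u : SegCar (toGMod 𝒜 ℳ) (toGMod ℬ 𝒩) hψ) :
    phiT 𝒜 ℬ 𝒯 ℳ 𝒩 𝒬 hP hψ (segIso 𝒜 ℬ 𝒯 ℳ 𝒩 𝒬 hP hψ u) = u :=
  (LinearEquiv.ofBijective (phiT 𝒜 ℬ 𝒯 ℳ 𝒩 𝒬 hP hψ)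
    (phiT_bijective 𝒜 ℬ 𝒯 ℳ 𝒩 𝒬 hP hψ)).apply_symm_apply u

theorem segIso_grHom : GrLC.IsGrHom (segG (toGMod 𝒜 ℳ) (toGMod ℬ 𝒩) hψ).gr (toGMod 𝒯 𝒬).gr
    (segIso 𝒜 ℬ 𝒯 ℳ 𝒩 𝒬 hP hψ).toLinearMap := by
  intro g u hu
  have h : u.1 ∈ φ '' (𝒬 g : Set P) := by
    rw [hP.image_piece g]
    exact hu
  obtain ⟨p, hp, hpu⟩ := h
  have h2 : segIso 𝒜 ℬ 𝒯 ℳ 𝒩 𝒬 hP hψ u = p := by
    apply (phiT_bijective 𝒜 ℬ 𝒯 ℳ 𝒩 𝒬 hP hψ).1
    rw [phiT_segIso]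
    exact Subtype.ext hpu.symm
  show segIso 𝒜 ℬ 𝒯 ℳ 𝒩 𝒬 hP hψ u ∈ toAS 𝒬 g
  rw [h2]
  exact hp

end iso

/-! ### The main theorem -/

section main

/-- The Künneth formula for the graded local cohomology of an abstractly presented Segre
product. -/
theorem segre_kunneth (k : Type u) [Field k] (R : Type u) [CommRing R] [Nontrivial R]
    [Algebra k R] (𝒜 : ℤ → Submodule k R) [GradedAlgebra 𝒜]
    (hposR : ∀ n : ℤ, n < 0 → 𝒜 n = ⊥) (h0R : 𝒜 0 = Submodule.span k {(1 : R)})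
    [Algebra.FiniteType k R] (S : Type u) [CommRing S] [Nontrivial S] [Algebra k S]
    (ℬ : ℤ → Submodule k S) [GradedAlgebra ℬ] (hposS : ∀ n : ℤ, n < 0 → ℬ n = ⊥)
    (h0S : ℬ 0 = Submodule.span k {(1 : S)}) [Algebra.FiniteType k S] (T : Type u) [CommRing T]
    [Algebra k T] (𝒯 : ℤ → Submodule k T) [GradedAlgebra 𝒯] (ψ : T →ₐ[k] TensorProduct k R S)
    (hT : GrSeg.IsSegreRing 𝒜 ℬ 𝒯 ψ) (mR : HomogeneousIdeal 𝒜)
    (hmR : mR.toIdeal = Ideal.span (⋃ n ∈ Set.Ioi (0 : ℤ), (𝒜 n : Set R)))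
    (mS : HomogeneousIdeal ℬ)
    (hmS : mS.toIdeal = Ideal.span (⋃ n ∈ Set.Ioi (0 : ℤ), (ℬ n : Set S)))
    (mT : HomogeneousIdeal 𝒯)
    (hmT : mT.toIdeal = Ideal.span (⋃ n ∈ Set.Ioi (0 : ℤ), (𝒯 n : Set T)))
    {M : Type u} [AddCommGroup M] [Module R M] [Module k M] [IsScalarTower k R M]
    {τM : Type u} [SetLike τM M] [AddSubgroupClass τM M]
    (ℳ : ℤ → τM) [DirectSum.Decomposition ℳ] [SetLike.GradedSMul 𝒜 ℳ] [Module.Finite R M]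
    (EM : GrLC.StarInjRes 𝒜 ℳ)
    {N : Type u} [AddCommGroup N] [Module S N] [Module k N] [IsScalarTower k S N]
    {τN : Type u} [SetLike τN N] [AddSubgroupClass τN N]
    (𝒩 : ℤ → τN) [DirectSum.Decomposition 𝒩] [SetLike.GradedSMul ℬ 𝒩] [Module.Finite S N]
    (EN : GrLC.StarInjRes ℬ 𝒩)
    {P : Type u} [AddCommGroup P] [Module T P] [Module k P] [IsScalarTower k T P]
    {τQ : Type u} [SetLike τQ P] [AddSubgroupClass τQ P]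
    (𝒬 : ℤ → τQ) [DirectSum.Decomposition 𝒬] [SetLike.GradedSMul 𝒯 𝒬]
    (φ : P →ₗ[k] TensorProduct k M N) (hP : GrSeg.IsSegreMod ψ ℳ 𝒩 𝒬 φ)
    (EP : GrLC.StarInjRes 𝒯 𝒬)
    (hM : ∀ d : ℤ, EM.Hcomp mR 0 d = ⊥) (hN : ∀ d : ℤ, EN.Hcomp mS 0 d = ⊥)
    (q : ℕ) (d : ℤ) :
    Module.finrank (GrLC.deg0 𝒯) (EP.Hcomp mT q d) =
      Module.finrank (GrLC.deg0 𝒜) (GrLC.comp 𝒜 ℳ d) *
          Module.finrank (GrLC.deg0 ℬ) (EN.Hcomp mS q d) +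
        Module.finrank (GrLC.deg0 𝒜) (EM.Hcomp mR q d) *
          Module.finrank (GrLC.deg0 ℬ) (GrLC.comp ℬ 𝒩 d) +
        (Finset.range (q + 2)).sum (fun i =>
          Module.finrank (GrLC.deg0 𝒜) (EM.Hcomp mR i d) *
            Module.finrank (GrLC.deg0 ℬ) (EN.Hcomp mS (q + 1 - i) d)) := by
  classical
  have hψ' : SegCtx (toAS 𝒜) (toAS ℬ) (toAS 𝒯) ψ := segCtx_of 𝒜 ℬ 𝒯 ψ hT
  haveI : IsNoetherianRing R := Algebra.FiniteType.isNoetherianRing k R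
  haveI : IsNoetherianRing S := Algebra.FiniteType.isNoetherianRing k S
  haveI : IsNoetherianRing T :=
    Groth.Agent.S18646.result k R 𝒜 hposR h0R S ℬ hposS h0S T 𝒯 ψ hT.1 hT.2
  have hM0 : ∀ g, Van (convIdeal 𝒜 mR) (convRes 𝒜 ℳ EM) 0 g :=
    fun g => (hcomp_eq_bot_iff 𝒜 ℳ EM mR 0 g).mp (hM g)
  have hN0 : ∀ g, Van (convIdeal ℬ mS) (convRes ℬ 𝒩 EN) 0 g :=
    fun g => (hcomp_eq_bot_iff ℬ 𝒩 EN mS 0 g).mp (hN g)
  have key := kunneth_AS hψ' (pos_toAS 𝒜 hposR) (pos_toAS ℬ hposS) (zero_toAS 𝒜 h0R)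
    (algebraMap k R).injective (zero_toAS ℬ h0S) (algebraMap k S).injective
    (fun c => SetLike.algebraMap_mem_graded 𝒯 c) (zero_toAS_T 𝒜 ℬ 𝒯 ψ h0R h0S hT)
    (algebraMap_T_injective (R := R) (S := S) ψ)
    (convIdeal 𝒜 mR) hmR (convIdeal ℬ mS) hmS (convIdeal 𝒯 mT) hmT
    (toGMod 𝒜 ℳ) (toGMod ℬ 𝒩) (convRes 𝒜 ℳ EM) (convRes ℬ 𝒩 EN)
    (transRes (segIso 𝒜 ℬ 𝒯 ℳ 𝒩 𝒬 hP hψ') (segIso_grHom 𝒜 ℬ 𝒯 ℳ 𝒩 𝒬 hP hψ')
      (convRes 𝒯 𝒬 EP)) hM0 hN0 q d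
  have key' := (hg_transRes (convIdeal 𝒯 mT) (segIso 𝒜 ℬ 𝒯 ℳ 𝒩 𝒬 hP hψ')
    (segIso_grHom 𝒜 ℬ 𝒯 ℳ 𝒩 𝒬 hP hψ') (convRes 𝒯 𝒬 EP) q d).symm.trans key
  have e1 := finrank_hcomp_conv 𝒯 𝒬 EP mT q d
  have e2 := finrank_comp_conv 𝒜 ℳ d
  have e3 := finrank_comp_conv ℬ 𝒩 d
  have e4 := fun i => finrank_hcomp_conv 𝒜 ℳ EM mR i d
  have e5 := fun i => finrank_hcomp_conv ℬ 𝒩 EN mS i d
  rw [e1, e2, e3, e4 q, e5 q]
  refine key'.trans ?_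
  congr 1
  refine Finset.sum_congr rfl fun i _ => ?_
  rw [e4 i, e5 (q + 1 - i)]

end main

end Groth.Agent.Lib.R2H7.SegConv
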