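/-
The ring case of the Künneth formula for Segre products: the Segre product of two graded rings
is the Segre product of the two rings as graded modules over themselves.
-/
import Mathlib
import Groth.Agent.Lib.R2H7SegConv

set_option autoImplicit false
open DirectSum
open scoped TensorProduct

noncomputable section

namespace Groth.Agent.Lib.R2H7.SegRing

open Groth.Agent.Lib.R2H7.GrBdry Groth.Agent.Lib.R2H7.SegPres Groth.Agent.Lib.R2H7.SegTotRB
  Groth.Agent.Lib.R2H7.SegConv

universe u

variable {k : Type u} [Field k] {R S T : Type u} [CommRing R] [CommRing S] [CommRing T]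
  [Algebra k R] [Algebra k S] [Algebra k T]

theorem act_eq_mul (x y : R ⊗[k] S) : GrSeg.act k R S R S x y = x * y := by
  induction x using TensorProduct.induction_on with
  | zero => rw [map_zero, LinearMap.zero_apply, zero_mul]
  | tmul r s =>
    induction y using TensorProduct.induction_on with
    | zero => rw [map_zero, mul_zero]
    | tmul m n =>
      rw [GrSeg.act_tmul, Algebra.TensorProduct.tmul_mul_tmul, smul_eq_mul, smul_eq_mul]
    | add y y' h h' => rw [map_add, h, h', mul_add]
  | add x x' h h' => rw [map_add, LinearMap.add_apply, h, h', add_mul]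

variable (𝒜 : ℤ → Submodule k R) [GradedAlgebra 𝒜] (ℬ : ℤ → Submodule k S) [GradedAlgebra ℬ]
  (𝒯 : ℤ → Submodule k T) [GradedAlgebra 𝒯] (ψ : T →ₐ[k] R ⊗[k] S)

theorem ringSegreMod (hψ : Function.Injective ψ)
    (hdegT : ∀ n : ℤ, (𝒯 n).map ψ.toLinearMap =
      Submodule.span k {x : R ⊗[k] S | ∃ a ∈ 𝒜 n, ∃ b ∈ ℬ n, x = a ⊗ₜ[k] b}) :
    GrSeg.IsSegreMod ψ 𝒜 ℬ 𝒯 ψ.toLinearMap where
  injective := hψ
  image_piece := fun n => by
    rw [← Submodule.map_coe, hdegT n]
    rfl
  map_smul := fun t p => by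
    rw [act_eq_mul]
    show ψ (t * p) = ψ t * ψ p
    exact map_mul ψ t p

/-- The pieces of the ring have the same dimension over the degree zero subring and over `k`. -/
theorem finrank_comp_self [Nontrivial R] (h0 : 𝒜 0 = Submodule.span k {(1 : R)}) (d : ℤ) :
    Module.finrank (GrLC.deg0 𝒜) ↥(GrLC.comp 𝒜 𝒜 d) = Module.finrank k ↥(𝒜 d) := by
  let e : GrLC.deg0 𝒜 ≃+* k := (deg0Conv 𝒜).symm.trans
    (deg0Equiv (fun c => SetLike.algebraMap_mem_graded 𝒜 c) (zero_toAS 𝒜 h0)
      (algebraMap k R).injective)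
  have he : ∀ a : GrLC.deg0 𝒜, algebraMap k R (e a) = (a : R) := fun a =>
    deg0Equiv_algebraMap (fun c => SetLike.algebraMap_mem_graded 𝒜 c) (zero_toAS 𝒜 h0)
      (algebraMap k R).injective ((deg0Conv 𝒜).symm a)
  let j : ↥(GrLC.comp 𝒜 𝒜 d) ≃+ ↥(𝒜 d) :=
    { toFun := fun x => ⟨x.1, x.2⟩
      invFun := fun y => ⟨y.1, y.2⟩
      left_inv := fun _ => rfl
      right_inv := fun _ => rfl
      map_add' := fun _ _ => rfl }
  have h := rank_eq_of_equiv_equiv (e : GrLC.deg0 𝒜 → k) j e.bijective (fun a x => by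
    apply Subtype.ext
    show (a : R) * (x : R) = e a • (x : R)
    rw [Algebra.smul_def, he])
  unfold Module.finrank
  rw [h]

end Groth.Agent.Lib.R2H7.SegRing
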