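/-
The vanishing form of the Künneth formula for Segre products: a piece of the graded local
cohomology of `M # N` vanishes if and only if all the products of the formula vanish.
-/
import Mathlib
import Groth.Agent.Lib.R2H7SegConv

set_option autoImplicit false
open DirectSum
open scoped TensorProduct

noncomputable section

namespace Groth.Agent.Lib.R2H7.SegVan

open Groth.Agent.Lib.Helper29GrEss Groth.Agent.Lib.Helper29GrHom Groth.Agent.Lib.Helper29GrGam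
  Groth.Agent.Lib.R2H7.GrBdry Groth.Agent.Lib.R2H7.GrDer Groth.Agent.Lib.R2H7.GrH
  Groth.Agent.Lib.R2H7.GrTors Groth.Agent.Lib.R2H7.GrAcyc
  Groth.Agent.Lib.R2H7.SegPres Groth.Agent.Lib.R2H7.SegSpecial
  Groth.Agent.Lib.R2H7.SegTotRB Groth.Agent.Lib.R2H7.SegMain Groth.Agent.Lib.R2H7.SegFinal
  Groth.Agent.Lib.R2H7.SegConv Groth.Agent.Lib.R2H7.GrFin Groth.Agent.Lib.R2H7.GrSerre

universe u v

theorem finrank_eq_zero_iff_of_isField {A : Type u} [CommRing A] (hA : IsField A) (W : Type v)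
    [AddCommGroup W] [Module A W] [Module.Finite A W] :
    Module.finrank A W = 0 ↔ Subsingleton W := by
  letI := hA.toField
  exact Module.finrank_eq_zero_iff_of_free A W

/-! ### Additive-subgroup gradings -/

section AS

variable {R : Type u} [CommRing R] {𝒜 : ℤ → AddSubgroup R} [GradedRing 𝒜]
  {X : GrLC.GMod.{u} 𝒜}

theorem subsingleton_hg_iff_van (a : HomogeneousIdeal 𝒜) (E : GrLC.StarInjRes 𝒜 X.gr) (i : ℕ)
    (g : ℤ) : Subsingleton (Hg a E i g) ↔ Van a E i g := by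
  constructor
  · intro h z hz hzg
    have h1 : (Submodule.Quotient.mk (⟨z, (mem_Zg a E).mpr ⟨hz, hzg⟩⟩ : ↥(Zg a E i g)) :
        Hg a E i g) = 0 := Subsingleton.elim _ _
    have h2 := (Submodule.Quotient.mk_eq_zero _).mp h1
    rw [mem_Bg] at h2
    exact h2
  · intro h
    exact ⟨fun y y' => by rw [hg_eq_zero_of_van a h y, hg_eq_zero_of_van a h y']⟩

theorem finrank_hg_eq_zero_iff [IsNoetherianRing R] (hpos : ∀ n : ℤ, n < 0 → 𝒜 n = ⊥)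
    (h0 : IsField (GrLC.deg0 𝒜)) (a : HomogeneousIdeal 𝒜)
    (ha : a.toIdeal = Ideal.span (⋃ n ∈ Set.Ioi (0 : ℤ), (𝒜 n : Set R)))
    [Module.Finite R X.carrier] (E : GrLC.StarInjRes 𝒜 X.gr) (i : ℕ) (g : ℤ) :
    Module.finrank (GrLC.deg0 𝒜) (Hg a E i g) = 0 ↔ Van a E i g := by
  haveI := finite_hcomp (a := a) hpos ha X E i g
  haveI : Module.Finite (GrLC.deg0 𝒜) (Hg a E i g) :=
    Module.Finite.equiv (hgEquiv a E i g).symm
  rw [finrank_eq_zero_iff_of_isField h0]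
  exact subsingleton_hg_iff_van a E i g

theorem finrank_comp_eq_zero_iff [IsNoetherianRing R] (hpos : ∀ n : ℤ, n < 0 → 𝒜 n = ⊥)
    (h0 : IsField (GrLC.deg0 𝒜)) [Module.Finite R X.carrier] (g : ℤ) :
    Module.finrank (GrLC.deg0 𝒜) ↥(GrLC.comp 𝒜 X.gr g) = 0 ↔ ∀ x ∈ X.gr g, x = 0 := by
  haveI hart : IsArtinianRing (GrLC.deg0 𝒜) := by
    letI := h0.toField
    infer_instance
  haveI : Module.Finite (GrLC.deg0 𝒜) ↥(GrLC.comp 𝒜 X.gr g) := by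
    have hfl := fl_comp hpos X g
    have hnoeth := (isFiniteLength_iff_isNoetherian_isArtinian.mp hfl).1
    exact Module.IsNoetherian.finite _ _
  rw [finrank_eq_zero_iff_of_isField h0]
  constructor
  · intro h x hx
    have h1 : (⟨x, hx⟩ : ↥(GrLC.comp 𝒜 X.gr g)) = 0 := Subsingleton.elim _ _
    exact congrArg Subtype.val h1
  · intro h
    exact ⟨fun y y' => Subtype.ext ((h y.1 y.2).trans (h y'.1 y'.2).symm)⟩

end AS

/-! ### Arbitrary gradings -/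

section conv

variable {R : Type u} [CommRing R] {σ : Type u} [SetLike σ R] [AddSubgroupClass σ R]
  (𝒜₀ : ℤ → σ) [GradedRing 𝒜₀]
  {M : Type u} [AddCommGroup M] [Module R M] {τ : Type u} [SetLike τ M]
  [AddSubgroupClass τ M] (ℳ : ℤ → τ) [DirectSum.Decomposition ℳ] [SetLike.GradedSMul 𝒜₀ ℳ]

theorem hcomp_finrank_eq_zero_iff [IsNoetherianRing R] (hpos : ∀ n : ℤ, n < 0 → toAS 𝒜₀ n = ⊥)
    (h0 : IsField (GrLC.deg0 (toAS 𝒜₀))) (a₀ : HomogeneousIdeal 𝒜₀)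
    (ha : (convIdeal 𝒜₀ a₀).toIdeal =
      Ideal.span (⋃ n ∈ Set.Ioi (0 : ℤ), (toAS 𝒜₀ n : Set R)))
    [Module.Finite R M] (E : GrLC.StarInjRes 𝒜₀ ℳ) (i : ℕ) (g : ℤ) :
    Module.finrank (GrLC.deg0 𝒜₀) ↥(E.Hcomp a₀ i g) = 0 ↔ E.Hcomp a₀ i g = ⊥ := by
  rw [finrank_hcomp_conv, hcomp_eq_bot_iff]
  exact finrank_hg_eq_zero_iff (X := toGMod 𝒜₀ ℳ) hpos h0 (convIdeal 𝒜₀ a₀) ha
    (convRes 𝒜₀ ℳ E) i g

theorem comp_finrank_eq_zero_iff [IsNoetherianRing R] (hpos : ∀ n : ℤ, n < 0 → toAS 𝒜₀ n = ⊥)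
    (h0 : IsField (GrLC.deg0 (toAS 𝒜₀))) [Module.Finite R M] (d : ℤ) :
    Module.finrank (GrLC.deg0 𝒜₀) ↥(GrLC.comp 𝒜₀ ℳ d) = 0 ↔ ∀ x ∈ ℳ d, x = 0 := by
  rw [finrank_comp_conv]
  exact finrank_comp_eq_zero_iff (X := toGMod 𝒜₀ ℳ) hpos h0 d

end conv

/-! ### Rings graded by subspaces over a field -/

section field

variable {k : Type u} [Field k] {R S T : Type u} [CommRing R] [CommRing S] [CommRing T]
  [Algebra k R] [Algebra k S] [Algebra k T]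
  (𝒜 : ℤ → Submodule k R) [GradedAlgebra 𝒜] (ℬ : ℤ → Submodule k S) [GradedAlgebra ℬ]
  (𝒯 : ℤ → Submodule k T) [GradedAlgebra 𝒯] (ψ : T →ₐ[k] R ⊗[k] S)

theorem isField_deg0 (h0 : ∀ r ∈ toAS 𝒜 0, ∃ c : k, algebraMap k R c = r)
    (hinj : Function.Injective (algebraMap k R)) : IsField (GrLC.deg0 (toAS 𝒜)) :=
  (deg0Equiv (fun c => SetLike.algebraMap_mem_graded 𝒜 c) h0 hinj).toMulEquiv.isField
    (Field.toIsField k)

include ψ in
theorem pos_toAS_T (hposR : ∀ n : ℤ, n < 0 → 𝒜 n = ⊥) (hT : GrSeg.IsSegreRing 𝒜 ℬ 𝒯 ψ) :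
    ∀ n : ℤ, n < 0 → toAS 𝒯 n = ⊥ := by
  intro n hn
  ext t
  rw [AddSubgroup.mem_bot]
  constructor
  · intro ht
    have h1 : ψ t ∈ (𝒯 n).map ψ.toLinearMap := ⟨t, ht, rfl⟩
    rw [hT.2 n] at h1
    have h2 : GrSeg.segrePiece k 𝒜 ℬ n = ⊥ := by
      refine le_bot_iff.mp (Submodule.span_le.mpr ?_)
      rintro _ ⟨a, ha, b, _, rfl⟩
      rw [hposR n hn, Submodule.mem_bot] at ha
      rw [ha, TensorProduct.zero_tmul]
      exact zero_mem _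
    rw [h2, Submodule.mem_bot] at h1
    exact hT.1 (h1.trans (map_zero ψ).symm)
  · rintro rfl
    exact zero_mem _

end field

/-! ### The vanishing form of the Künneth formula -/

/-- A piece of the graded local cohomology of a Segre product vanishes if and only if all the
terms of the Künneth formula vanish. -/
theorem segre_vanishing (k : Type u) [Field k] (R : Type u) [CommRing R] [Nontrivial R]
    [Algebra k R] (𝒜 : ℤ → Submodule k R) [GradedAlgebra 𝒜]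
    (hposR : ∀ n : ℤ, n < 0 → 𝒜 n = ⊥) (h0R : 𝒜 0 = Submodule.span k {(1 : R)})
    [Algebra.FiniteType k R] (S : Type u) [CommRing S] [Nontrivial S] [Algebra k S]
    (ℬ : ℤ → Submodule k S) [GradedAlgebra ℬ] (hposS : ∀ n : ℤ, n < 0 → ℬ n = ⊥)
    (h0S : ℬ 0 = Submodule.span k {(1 : S)}) [Algebra.FiniteType k S] (T : Type u) [CommRing T]
    [Algebra k T] (𝒯 : ℤ → Submodule k T) [GradedAlgebra 𝒯] (ψ : T →ₐ[k] TensorProduct k R S)
    (hT : GrSeg.IsSegreRing 𝒜 ℬ 𝒯 ψ) (mR : HomogeneousIdeal 𝒜)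
    (hmR : mR.toIdeal = Ideal.span (⋃ n ∈ Set.Ioi (0 : ℤ), (𝒜 n : Set R)))
    (mS : HomogeneousIdeal ℬ)
    (hmS : mS.toIdeal = Ideal.span (⋃ n ∈ Set.Ioi (0 : ℤ), (ℬ n : Set S)))
    (mT : HomogeneousIdeal 𝒯)
    (hmT : mT.toIdeal = Ideal.span (⋃ n ∈ Set.Ioi (0 : ℤ), (𝒯 n : Set T)))
    {M : Type u} [AddCommGroup M] [Module R M] [Module k M] [IsScalarTower k R M]
    {τM : Type u} [SetLike τM M] [AddSubgroupClass τM M]
    (ℳ : ℤ → τM) [DirectSum.Decomposition ℳ] [SetLike.GradedSMul 𝒜 ℳ] [Module.Finite R M]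
    (EM : GrLC.StarInjRes 𝒜 ℳ)
    {N : Type u} [AddCommGroup N] [Module S N] [Module k N] [IsScalarTower k S N]
    {τN : Type u} [SetLike τN N] [AddSubgroupClass τN N]
    (𝒩 : ℤ → τN) [DirectSum.Decomposition 𝒩] [SetLike.GradedSMul ℬ 𝒩] [Module.Finite S N]
    (EN : GrLC.StarInjRes ℬ 𝒩)
    {P : Type u} [AddCommGroup P] [Module T P] [Module k P] [IsScalarTower k T P]
    {τQ : Type u} [SetLike τQ P] [AddSubgroupClass τQ P]
    (𝒬 : ℤ → τQ) [DirectSum.Decomposition 𝒬] [SetLike.GradedSMul 𝒯 𝒬] [Module.Finite T P]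
    (φ : P →ₗ[k] TensorProduct k M N) (hP : GrSeg.IsSegreMod ψ ℳ 𝒩 𝒬 φ)
    (EP : GrLC.StarInjRes 𝒯 𝒬)
    (hM : ∀ d : ℤ, EM.Hcomp mR 0 d = ⊥) (hN : ∀ d : ℤ, EN.Hcomp mS 0 d = ⊥)
    (q : ℕ) (d : ℤ) :
    EP.Hcomp mT q d = ⊥ ↔
      ((∀ x ∈ ℳ d, x = 0) ∨ EN.Hcomp mS q d = ⊥) ∧
        (EM.Hcomp mR q d = ⊥ ∨ ∀ y ∈ 𝒩 d, y = 0) ∧
        ∀ i ∈ Finset.range (q + 2), EM.Hcomp mR i d = ⊥ ∨ EN.Hcomp mS (q + 1 - i) d = ⊥ := by
  classical
  haveI : IsNoetherianRing R := Algebra.FiniteType.isNoetherianRing k R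
  haveI : IsNoetherianRing S := Algebra.FiniteType.isNoetherianRing k S
  haveI : IsNoetherianRing T :=
    Groth.Agent.S18646.result k R 𝒜 hposR h0R S ℬ hposS h0S T 𝒯 ψ hT.1 hT.2
  have hfR := isField_deg0 𝒜 (zero_toAS 𝒜 h0R) (algebraMap k R).injective
  have hfS := isField_deg0 ℬ (zero_toAS ℬ h0S) (algebraMap k S).injective
  have hfT := isField_deg0 𝒯 (zero_toAS_T 𝒜 ℬ 𝒯 ψ h0R h0S hT)
    (algebraMap_T_injective (R := R) (S := S) ψ)
  have hpR := pos_toAS 𝒜 hposR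
  have hpS := pos_toAS ℬ hposS
  have hpT := pos_toAS_T 𝒜 ℬ 𝒯 ψ hposR hT
  have key := segre_kunneth k R 𝒜 hposR h0R S ℬ hposS h0S T 𝒯 ψ hT mR hmR mS hmS mT hmT
    ℳ EM 𝒩 EN 𝒬 φ hP EP hM hN q d
  have eT := hcomp_finrank_eq_zero_iff 𝒯 𝒬 hpT hfT mT hmT EP q d
  have eR := fun i => hcomp_finrank_eq_zero_iff 𝒜 ℳ hpR hfR mR hmR EM i d
  have eS := fun i => hcomp_finrank_eq_zero_iff ℬ 𝒩 hpS hfS mS hmS EN i d
  have cR := comp_finrank_eq_zero_iff 𝒜 ℳ hpR hfR d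
  have cS := comp_finrank_eq_zero_iff ℬ 𝒩 hpS hfS d
  rw [← eT, key, Nat.add_eq_zero_iff, Nat.add_eq_zero_iff, mul_eq_zero, mul_eq_zero,
    Finset.sum_eq_zero_iff, cR, cS, eR q, eS q, and_assoc]
  refine and_congr Iff.rfl (and_congr Iff.rfl ?_)
  refine forall_congr' fun i => forall_congr' fun _ => ?_
  rw [mul_eq_zero, eR i, eS (q + 1 - i)]

end Groth.Agent.Lib.R2H7.SegVan
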