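/-
Cohen–Macaulayness of Segre products of Cohen–Macaulay graded rings over a field, through the
vanishing form of the Künneth formula and the graded criterion "depth = dimension".
-/
import Mathlib
import Groth.Agent.Lib.R2H7SegVan
import Groth.Agent.Lib.R2H7SegRing
import Groth.Agent.Lib.R2H7GrCMLoc
import Groth.Agent.Lib.R2H7GrAinv
import Groth.Agent.Lib.R2H7GrVerGor
import Groth.Agent.Lib.R2H7GrCanShift
import Groth.Agent.Lib.R2H7GrFun
import Groth.Agent.Lib.H9SegreCM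
import Groth.Agent.Lib.Helper8LCDepth
import Groth.Agent.Lib.Helper28DepthMore

set_option autoImplicit false
open DirectSum
open scoped TensorProduct

noncomputable section

namespace Groth.Agent.Lib.R2H7.SegCM

open Groth.Agent.Lib.Helper29GrEss Groth.Agent.Lib.Helper29GrHom Groth.Agent.Lib.Helper29GrGam
  Groth.Agent.Lib.R2H7.GrBdry Groth.Agent.Lib.R2H7.GrDer Groth.Agent.Lib.R2H7.GrH
  Groth.Agent.Lib.R2H7.GrTors Groth.Agent.Lib.R2H7.GrFun
  Groth.Agent.Lib.R2H7.SegConv Groth.Agent.Lib.R2H7.SegVan Groth.Agent.Lib.R2H7.SegRing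

universe u

/-! ### The graded criterion for Cohen–Macaulayness -/

section AS

variable {R : Type u} [CommRing R] {𝒜 : ℤ → AddSubgroup R} [GradedRing 𝒜]

theorem subsingleton_H_of_forall_van {X : GrLC.GMod.{u} 𝒜} (a : HomogeneousIdeal 𝒜)
    (E : GrLC.StarInjRes 𝒜 X.gr) (i : ℕ) (h : ∀ g, Van a E i g) : Subsingleton (E.H a i) := by
  classical
  have hall : ∀ z ∈ E.cocyc a i, z ∈ E.cobdy a i := by
    intro z hz
    rw [← DirectSum.sum_support_decompose (E.X i).gr z]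
    refine Submodule.sum_mem _ fun g _ => ?_
    have hk : E.d i ((DirectSum.decompose (E.X i).gr z) g : (E.X i).carrier) = 0 := by
      rw [← decompose_map (E.X (i + 1)).gr (E.X i).gr (E.d i) (E.d_grHom i) z g,
        LinearMap.mem_ker.mp hz.2]
      simp
    exact h g _ ⟨gam_isHomogeneous 𝒜 (E.X i).gr a g hz.1, LinearMap.mem_ker.mpr hk⟩
      (SetLike.coe_mem _)
  have h0 : ∀ y : E.H a i, y = 0 := by
    intro y
    obtain ⟨z, rfl⟩ := Submodule.Quotient.mk_surjective _ y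
    exact (Submodule.Quotient.mk_eq_zero _).mpr (hall z.1 z.2)
  exact ⟨fun y y' => by rw [h0 y, h0 y']⟩

/-- A graded ring whose local cohomology vanishes below the dimension is Cohen–Macaulay. -/
theorem isCohenMacaulayRing_of_vanX [IsNoetherianRing R] (m : HomogeneousIdeal 𝒜)
    (hm : GrLC.IsStarLocal 𝒜 m) (d : ℕ) (hd : ringKrullDim R = d)
    (h : ∀ i, i < d → ∀ g, VanX m (GrLC.GMod.of 𝒜 R 𝒜) i g) : LocCoh.IsCohenMacaulayRing R := by
  haveI hmp : m.toIdeal.IsPrime := Groth.Agent.Lib.R2H7.GrCanShift.isPrime_of_isCoatom 𝒜 m hm.1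
  have hne : m.toIdeal ≠ ⊤ := Groth.Agent.Lib.R2H7.GrHt.toIdeal_ne_top 𝒜 m hm.1
  have hIM : m.toIdeal • (⊤ : Submodule R R) ≠ ⊤ := by
    have : m.toIdeal • (⊤ : Submodule R R) = m.toIdeal := by
      rw [Ideal.smul_eq_mul, Ideal.mul_top]
    rw [this]
    exact hne
  obtain ⟨E⟩ := exists_res (GrLC.GMod.of 𝒜 R 𝒜)
  have hsub : ∀ i, i < d →
      ∀ y : (localCohomology m.toIdeal i).obj (ModuleCat.of R R), y = 0 := by
    intro i hi y
    obtain ⟨e⟩ := Groth.Agent.S13224.result R 𝒜 m (GrLC.GMod.of 𝒜 R 𝒜).carrier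
      (GrLC.GMod.of 𝒜 R 𝒜).gr E i
    haveI := subsingleton_H_of_forall_van m E i (fun g => h i hi g E)
    have hs : Subsingleton (LocCoh.H m.toIdeal i R) := e.symm.toEquiv.subsingleton
    exact Subsingleton.elim _ _
  have hdepth : (d : ℕ∞) ≤ LocCoh.idealDepth m.toIdeal R := by
    by_contra hcon
    rw [not_le] at hcon
    obtain ⟨n, hn⟩ := ENat.ne_top_iff_exists.mp (ne_top_of_lt hcon)
    rw [← hn] at hcon
    have hnd : n < d := by exact_mod_cast hcon
    obtain ⟨y, hy⟩ :=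
      Groth.Agent.Lib.Helper8.LC.H_ne_zero_of_depth_eq m.toIdeal n R hIM hn.symm
    exact hy (hsub n hnd y)
  have hloc : LocCoh.IsCohenMacaulayLocalRing (Localization.AtPrime m.toIdeal) := by
    have h2 : LocCoh.idealDepth m.toIdeal R ≤ LocCoh.depth (Localization.AtPrime m.toIdeal)
        (LocalizedModule m.toIdeal.primeCompl R) :=
      Groth.Agent.Lib.Helper28.idealDepth_le_depth_localization m.toIdeal R le_rfl
    rw [Groth.Agent.Lib.Helper28.depth_localizedModule_self] at h2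
    have h3 : ((LocCoh.depth (Localization.AtPrime m.toIdeal)
        (Localization.AtPrime m.toIdeal) : ℕ∞) : WithBot ℕ∞) ≤
        Module.supportDim (Localization.AtPrime m.toIdeal) (Localization.AtPrime m.toIdeal) :=
      Groth.Agent.Lib.Helper28.depth_le_supportDim
    refine { supportDim_eq_depth := le_antisymm ?_ h3 }
    rw [Groth.Agent.Lib.Helper28.supportDim_localization_self]
    have h4 : ((m.toIdeal.height : ℕ∞) : WithBot ℕ∞) ≤ ringKrullDim R :=
      Ideal.height_le_ringKrullDim_of_ne_top hne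
    rw [hd] at h4
    have h5 : m.toIdeal.height ≤ (d : ℕ∞) := by exact_mod_cast h4
    exact WithBot.coe_le_coe.mpr (h5.trans (hdepth.trans h2))
  exact Groth.Agent.Lib.R2H7.GrCMLoc.isCohenMacaulayRing_of_localization 𝒜 m hm hloc

end AS

/-! ### Converting resolutions back -/

section unconv

variable {R : Type u} [CommRing R] {σ : Type u} [SetLike σ R] [AddSubgroupClass σ R]
  (𝒜₀ : ℤ → σ) [GradedRing 𝒜₀]

theorem isStarInj_unconv (Y : GrLC.GMod.{u} (toAS 𝒜₀)) (h : GrLC.IsStarInj (toAS 𝒜₀) Y.gr) :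
    GrLC.IsStarInj 𝒜₀ (unconvG 𝒜₀ Y).gr := by
  intro A B f hf hfi g hg
  exact h (convG 𝒜₀ A) (convG 𝒜₀ B) f hf hfi g hg

variable {M : Type u} [AddCommGroup M] [Module R M] {τ : Type u} [SetLike τ M]
  [AddSubgroupClass τ M] (ℳ : ℤ → τ) [DirectSum.Decomposition ℳ] [SetLike.GradedSMul 𝒜₀ ℳ]

/-- Convert a *injective resolution back to the original grading. -/
def unconvRes (E : GrLC.StarInjRes (toAS 𝒜₀) (toGMod 𝒜₀ ℳ).gr) : GrLC.StarInjRes 𝒜₀ ℳ where
  X n := unconvG 𝒜₀ (E.X n)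
  d := E.d
  ε := E.ε
  d_grHom := E.d_grHom
  ε_grHom := E.ε_grHom
  ε_injective := E.ε_injective
  exact_zero := E.exact_zero
  exact_succ := E.exact_succ
  starInj n := isStarInj_unconv 𝒜₀ (E.X n) (E.starInj n)

theorem exists_res_conv : Nonempty (GrLC.StarInjRes 𝒜₀ ℳ) := by
  obtain ⟨E⟩ := exists_res (toGMod 𝒜₀ ℳ)
  exact ⟨unconvRes 𝒜₀ ℳ E⟩

end unconv

/-! ### Rings graded by subspaces over a field -/

section sub

variable {k : Type u} [Field k] {T : Type u} [CommRing T] [Algebra k T]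
  (𝒯 : ℤ → Submodule k T) [GradedAlgebra 𝒯]

/-- The irrelevant ideal. -/
def irrIdeal : HomogeneousIdeal 𝒯 :=
  ⟨Ideal.span (⋃ n ∈ Set.Ioi (0 : ℤ), (𝒯 n : Set T)), Ideal.homogeneous_span 𝒯 _ (by
    intro x hx
    obtain ⟨n, -, hxn⟩ := Set.mem_iUnion₂.mp hx
    exact ⟨n, hxn⟩)⟩

theorem irrIdeal_toIdeal :
    (irrIdeal 𝒯).toIdeal = Ideal.span (⋃ n ∈ Set.Ioi (0 : ℤ), (𝒯 n : Set T)) := rfl

variable (hpos : ∀ n : ℤ, n < 0 → toAS 𝒯 n = ⊥) (h0 : IsField (GrLC.deg0 (toAS 𝒯)))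
  (mT : HomogeneousIdeal 𝒯)
  (hmT : mT.toIdeal = Ideal.span (⋃ n ∈ Set.Ioi (0 : ℤ), (𝒯 n : Set T)))

include hpos h0 hmT in
theorem isStarLocal_of_irrelevant : GrLC.IsStarLocal (toAS 𝒯) (convIdeal 𝒯 mT) := by
  obtain ⟨m, hm, hmI⟩ := Groth.Agent.Lib.R2H7.GrVerGor.exists_irrelevant hpos h0
  have h1 : m = convIdeal 𝒯 mT := HomogeneousIdeal.toIdeal_injective (hmI.trans hmT.symm)
  rw [← h1]
  exact hm

include hpos h0 hmT in
/-- The graded criterion for Cohen–Macaulayness. -/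
theorem cm_iff_hcomp [IsNoetherianRing T] (IT : GrLC.StarInjRes 𝒯 𝒯) (t : ℕ)
    (ht : ringKrullDim T = t) :
    LocCoh.IsCohenMacaulayRing T ↔ ∀ q, q < t → ∀ d, IT.Hcomp mT q d = ⊥ := by
  have hm := isStarLocal_of_irrelevant 𝒯 hpos h0 mT hmT
  constructor
  · intro hcm q hq d
    rw [hcomp_eq_bot_iff_vanX]
    haveI := hcm
    exact Groth.Agent.Lib.R2H7.GrAinv.vanX_of_lt_dim hpos (convIdeal 𝒯 mT) hm t ht q hq d
  · intro h
    refine isCohenMacaulayRing_of_vanX (convIdeal 𝒯 mT) hm t ht ?_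
    intro i hi g
    exact (hcomp_eq_bot_iff_vanX 𝒯 𝒯 IT mT i g).mp (h i hi g)

include hpos h0 hmT in
/-- The local cohomology of a Cohen–Macaulay graded ring is concentrated in the top degree. -/
theorem hcomp_eq_bot_of_ne [hcm : LocCoh.IsCohenMacaulayRing T] (IT : GrLC.StarInjRes 𝒯 𝒯)
    (t : ℕ) (ht : ringKrullDim T = t) (i : ℕ) (hi : i ≠ t) (d : ℤ) :
    IT.Hcomp mT i d = ⊥ := by
  rcases lt_or_gt_of_ne hi with h | h
  · exact ((cm_iff_hcomp 𝒯 hpos h0 mT hmT IT t ht).mp hcm) i h d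
  · rw [hcomp_eq_bot_iff]
    intro z hz _
    exact vanW_of_dim_lt (convIdeal 𝒯 mT) (toGMod 𝒯 𝒯) i (by rw [ht]; exact_mod_cast h)
      (convRes 𝒯 𝒯 IT) z hz

end sub

/-! ### The dimension of the Segre product -/

theorem nontrivial_of_ringKrullDim_eq {R : Type u} [CommRing R] (r : ℕ)
    (hr : ringKrullDim R = r) : Nontrivial R := by
  by_contra h
  rw [not_nontrivial_iff_subsingleton] at h
  rw [ringKrullDim_eq_bot_of_subsingleton] at hr
  exact absurd hr (by simp)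

theorem cmModule_self {R : Type u} [CommRing R] [hR : LocCoh.IsCohenMacaulayRing R]
    (q : Ideal R) [q.IsPrime] :
    Subsingleton (LocalizedModule q.primeCompl R) ∨
      LocCoh.IsCohenMacaulayModule (Localization.AtPrime q)
        (LocalizedModule q.primeCompl R) := by
  right
  unfold LocCoh.IsCohenMacaulayModule
  rw [Groth.Agent.Lib.Helper28.depth_localizedModule_self, Module.supportDim_eq_of_equiv (Groth.Agent.Lib.Helper28.localizedModuleSelfEquiv q)]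
  exact (hR.isCohenMacaulayLocalRing_localization q).supportDim_eq_depth

section dim

variable (k : Type u) [Field k] (R : Type u) [CommRing R] [Nontrivial R] [Algebra k R]
  (𝒜 : ℤ → Submodule k R) [GradedAlgebra 𝒜]
  (hposR : ∀ n : ℤ, n < 0 → 𝒜 n = ⊥) (h0R : 𝒜 0 = Submodule.span k {(1 : R)})
  [Algebra.FiniteType k R] (S : Type u) [CommRing S] [Nontrivial S] [Algebra k S]
  (ℬ : ℤ → Submodule k S) [GradedAlgebra ℬ] (hposS : ∀ n : ℤ, n < 0 → ℬ n = ⊥)
  (h0S : ℬ 0 = Submodule.span k {(1 : S)}) [Algebra.FiniteType k S] (T : Type u) [CommRing T]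
  [Algebra k T] (𝒯 : ℤ → Submodule k T) [GradedAlgebra 𝒯] (ψ : T →ₐ[k] TensorProduct k R S)
  (hψ : Function.Injective ψ)
  (hdegT : ∀ n : ℤ, (𝒯 n).map ψ.toLinearMap =
    Submodule.span k {x : TensorProduct k R S | ∃ a ∈ 𝒜 n, ∃ b ∈ ℬ n, x = a ⊗ₜ[k] b})
  [LocCoh.IsCohenMacaulayRing R] [LocCoh.IsCohenMacaulayRing S]

include hposR h0R hposS h0S hψ hdegT in
theorem ringKrullDim_segre (r s : ℕ) (hr : ringKrullDim R = r) (hs : ringKrullDim S = s)
    (h1r : 1 ≤ r) (h1s : 1 ≤ s) : ringKrullDim T = ((r + s - 1 : ℕ) : WithBot ℕ∞) := by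
  have hT : GrSeg.IsSegreRing 𝒜 ℬ 𝒯 ψ := ⟨hψ, hdegT⟩
  have hP0 := ringSegreMod 𝒜 ℬ 𝒯 ψ hψ hdegT
  letI : DirectSum.Decomposition (toAS 𝒜) := toASDecomposition 𝒜
  letI : DirectSum.Decomposition (toAS ℬ) := toASDecomposition ℬ
  letI : DirectSum.Decomposition (toAS 𝒯) := toASDecomposition 𝒯
  haveI : SetLike.GradedSMul 𝒜 (toAS 𝒜) :=
    ⟨by intro i j a m ha hm; exact SetLike.GradedMul.mul_mem (A := 𝒜) ha hm⟩
  haveI : SetLike.GradedSMul ℬ (toAS ℬ) :=
    ⟨by intro i j a m ha hm; exact SetLike.GradedMul.mul_mem (A := ℬ) ha hm⟩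
  have hP : GrSeg.IsSegreMod ψ (toAS 𝒜) (toAS ℬ) (toAS 𝒯) ψ.toLinearMap :=
    ⟨hP0.injective, hP0.image_piece, hP0.map_smul⟩
  have hdM : Module.supportDim R R = r := by
    rw [Module.supportDim_self_eq_ringKrullDim, hr]
  have hdN : Module.supportDim S S = s := by
    rw [Module.supportDim_self_eq_ringKrullDim, hs]
  have key := Groth.Agent.Lib.H9SegreCM.main2 k R 𝒜 hposR h0R S ℬ hposS h0S T 𝒯 ψ hT
    R (toAS 𝒜) S (toAS ℬ) T (toAS 𝒯) ψ.toLinearMap hP r s h1r h1s hdM hdN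
    (fun q _ => cmModule_self q) (fun q _ => cmModule_self q)
  haveI : Nontrivial T :=
    (algebraMap_T_injective (R := R) (S := S) ψ).nontrivial
  rcases key with h | h
  · rw [← Module.supportDim_self_eq_ringKrullDim]
    exact h
  · exact absurd h (not_subsingleton T)

end dim

/-! ### The Cohen–Macaulay criterion -/

/-- The Segre product of two Cohen–Macaulay graded rings of positive dimensions `r` and `s` is
Cohen–Macaulay if and only if `R # H^s(S) = 0` (when `r ≥ 2`) and `H^r(R) # S = 0`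
(when `s ≥ 2`). -/
theorem cm_segre_iff (k : Type u) [Field k] (R : Type u) [CommRing R] [Algebra k R]
    (𝒜 : ℤ → Submodule k R) [GradedAlgebra 𝒜]
    (hposR : ∀ n : ℤ, n < 0 → 𝒜 n = ⊥) (h0R : 𝒜 0 = Submodule.span k {(1 : R)})
    [Algebra.FiniteType k R] (S : Type u) [CommRing S] [Algebra k S]
    (ℬ : ℤ → Submodule k S) [GradedAlgebra ℬ] (hposS : ∀ n : ℤ, n < 0 → ℬ n = ⊥)
    (h0S : ℬ 0 = Submodule.span k {(1 : S)}) [Algebra.FiniteType k S] (T : Type u) [CommRing T]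
    [Algebra k T] (𝒯 : ℤ → Submodule k T) [GradedAlgebra 𝒯] (ψ : T →ₐ[k] TensorProduct k R S)
    (hψ : Function.Injective ψ)
    (hdegT : ∀ n : ℤ, (𝒯 n).map ψ.toLinearMap =
      Submodule.span k {x : TensorProduct k R S | ∃ a ∈ 𝒜 n, ∃ b ∈ ℬ n, x = a ⊗ₜ[k] b})
    [LocCoh.IsCohenMacaulayRing R] [LocCoh.IsCohenMacaulayRing S]
    (mR : HomogeneousIdeal 𝒜)
    (hmR : mR.toIdeal = Ideal.span (⋃ n ∈ Set.Ioi (0 : ℤ), (𝒜 n : Set R)))
    (I : GrLC.StarInjRes 𝒜 𝒜) (mS : HomogeneousIdeal ℬ)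
    (hmS : mS.toIdeal = Ideal.span (⋃ n ∈ Set.Ioi (0 : ℤ), (ℬ n : Set S)))
    (J : GrLC.StarInjRes ℬ ℬ) (r s : ℕ) (hr : ringKrullDim R = r) (hs : ringKrullDim S = s)
    (h1r : 1 ≤ r) (h1s : 1 ≤ s) :
    LocCoh.IsCohenMacaulayRing T ↔
      (2 ≤ r → ∀ n : ℤ, 𝒜 n = ⊥ ∨ J.Hcomp mS s n = ⊥) ∧
        (2 ≤ s → ∀ n : ℤ, I.Hcomp mR r n = ⊥ ∨ ℬ n = ⊥) := by
  classical
  haveI : Nontrivial R := nontrivial_of_ringKrullDim_eq r hr
  haveI : Nontrivial S := nontrivial_of_ringKrullDim_eq s hs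
  have hT : GrSeg.IsSegreRing 𝒜 ℬ 𝒯 ψ := ⟨hψ, hdegT⟩
  have hP := ringSegreMod 𝒜 ℬ 𝒯 ψ hψ hdegT
  haveI : IsNoetherianRing T :=
    Groth.Agent.S18646.result k R 𝒜 hposR h0R S ℬ hposS h0S T 𝒯 ψ hψ hdegT
  have hfR := isField_deg0 𝒜 (zero_toAS 𝒜 h0R) (algebraMap k R).injective
  have hfS := isField_deg0 ℬ (zero_toAS ℬ h0S) (algebraMap k S).injective
  have hfT := isField_deg0 𝒯 (zero_toAS_T 𝒜 ℬ 𝒯 ψ h0R h0S hT)
    (algebraMap_T_injective (R := R) (S := S) ψ)
  have hpR := pos_toAS 𝒜 hposR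
  have hpS := pos_toAS ℬ hposS
  have hpT := pos_toAS_T 𝒜 ℬ 𝒯 ψ hposR hT
  obtain ⟨IT⟩ := exists_res_conv 𝒯 𝒯
  have dimT := ringKrullDim_segre k R 𝒜 hposR h0R S ℬ hposS h0S T 𝒯 ψ hψ hdegT r s hr hs h1r h1s
  have vR : ∀ i, i ≠ r → ∀ d, I.Hcomp mR i d = ⊥ :=
    fun i hi d => hcomp_eq_bot_of_ne 𝒜 hpR hfR mR hmR I r hr i hi d
  have vS : ∀ i, i ≠ s → ∀ d, J.Hcomp mS i d = ⊥ :=
    fun i hi d => hcomp_eq_bot_of_ne ℬ hpS hfS mS hmS J s hs i hi d
  have van := fun q d => segre_vanishing k R 𝒜 hposR h0R S ℬ hposS h0S T 𝒯 ψ hT mR hmR mS hmS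
    (irrIdeal 𝒯) (irrIdeal_toIdeal 𝒯) 𝒜 I ℬ J 𝒯 ψ.toLinearMap hP IT
    (fun d => vR 0 (by omega) d) (fun d => vS 0 (by omega) d) q d
  rw [cm_iff_hcomp 𝒯 hpT hfT (irrIdeal 𝒯) (irrIdeal_toIdeal 𝒯) IT (r + s - 1) dimT]
  constructor
  · intro h
    refine ⟨fun h2r d => ?_, fun h2s d => ?_⟩
    · rcases ((van s d).mp (h s (by omega) d)).1 with h1 | h1
      · left
        exact (Submodule.eq_bot_iff _).mpr h1
      · right
        exact h1
    · rcases ((van r d).mp (h r (by omega) d)).2.1 with h1 | h1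
      · left
        exact h1
      · right
        exact (Submodule.eq_bot_iff _).mpr h1
  · rintro ⟨h1, h2⟩ q hq d
    rw [van q d]
    refine ⟨?_, ?_, ?_⟩
    · by_cases hqs : q = s
      · subst hqs
        rcases h1 (by omega) d with h | h
        · left
          exact (Submodule.eq_bot_iff _).mp h
        · right
          exact h
      · right
        exact vS q hqs d
    · by_cases hqr : q = r
      · subst hqr
        rcases h2 (by omega) d with h | h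
        · left
          exact h
        · right
          exact (Submodule.eq_bot_iff _).mp h
      · left
        exact vR q hqr d
    · intro i hi
      rw [Finset.mem_range] at hi
      by_cases hir : i = r
      · right
        apply vS
        omega
      · left
        exact vR i hir d

end Groth.Agent.Lib.R2H7.SegCM
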