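/-
The Cohen–Macaulay criterion, the depth formula and Grothendieck vanishing for finite graded
modules over a graded ring defined over a field `k` (graded by `k`-subspaces), in terms of the
pieces `Hcomp` of graded local cohomology.
-/
import Mathlib
import Groth.Agent.Lib.H6xModCMB
import Groth.Agent.Lib.R2H7SegCM
import Groth.Agent.Lib.R2H7SegVan
import Groth.Agent.S11625

set_option autoImplicit false
open DirectSum

noncomputable section

namespace Groth.Agent.Lib.H6xModCMC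

open Groth.Agent.Lib.R2H7.GrDer Groth.Agent.Lib.R2H7.GrTop Groth.Agent.Lib.R2H7.GrBdry
  Groth.Agent.Lib.R2H7.SegConv Groth.Agent.Lib.H6xModCMA Groth.Agent.Lib.H6xModCMB

universe u

variable {k : Type u} [Field k] {T : Type u} [CommRing T] [Algebra k T]
  (𝒯 : ℤ → Submodule k T) [GradedAlgebra 𝒯]
  (hpos : ∀ n : ℤ, n < 0 → 𝒯 n = ⊥) (h0 : 𝒯 0 = Submodule.span k {(1 : T)})
  (mT : HomogeneousIdeal 𝒯)
  (hmT : mT.toIdeal = Ideal.span (⋃ n ∈ Set.Ioi (0 : ℤ), (𝒯 n : Set T)))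
  {P : Type u} [AddCommGroup P] [Module T P] {τ : Type u} [SetLike τ P] [AddSubgroupClass τ P]
  (𝒬 : ℤ → τ) [DirectSum.Decomposition 𝒬] [SetLike.GradedSMul 𝒯 𝒬]
  (EP : GrLC.StarInjRes 𝒯 𝒬)

include hpos h0 hmT in
theorem isStarLocal [Nontrivial T] : GrLC.IsStarLocal (toAS 𝒯) (convIdeal 𝒯 mT) :=
  Groth.Agent.Lib.R2H7.SegCM.isStarLocal_of_irrelevant 𝒯 (pos_toAS 𝒯 hpos)
    (Groth.Agent.Lib.R2H7.SegVan.isField_deg0 𝒯 (zero_toAS 𝒯 h0) (algebraMap k T).injective)
    mT hmT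

include hpos h0 hmT in
/-- Cohen–Macaulay criterion for finite graded modules. -/
theorem cm_iff_hcomp [Nontrivial T] [Algebra.FiniteType k T] [Module.Finite T P] [Nontrivial P]
    (δ : ℕ) (hδ : Module.supportDim T P = (δ : WithBot ℕ∞)) :
    (∀ (q : Ideal T) [q.IsPrime], Subsingleton (LocalizedModule q.primeCompl P) ∨
      LocCoh.IsCohenMacaulayModule (Localization.AtPrime q) (LocalizedModule q.primeCompl P)) ↔
      ∀ i < δ, ∀ d : ℤ, EP.Hcomp mT i d = ⊥ := by
  haveI : IsNoetherianRing T := Algebra.FiniteType.isNoetherianRing k T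
  have hm := isStarLocal 𝒯 hpos h0 mT hmT
  haveI : Module.Finite T (toGMod 𝒯 𝒬).carrier := inferInstanceAs (Module.Finite T P)
  haveI : Nontrivial (toGMod 𝒯 𝒬).carrier := inferInstanceAs (Nontrivial P)
  have key := cm_iff_vanX k (pos_toAS 𝒯 hpos) (convIdeal 𝒯 mT) hm (toGMod 𝒯 𝒬) δ hδ
  refine Iff.trans ?_ (key.trans ?_)
  · exact Iff.rfl
  · refine forall_congr' fun i => imp_congr_right fun _ => forall_congr' fun d => ?_
    exact (hcomp_eq_bot_iff_vanX 𝒯 𝒬 EP mT i d).symm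

include hpos h0 hmT in
/-- The depth with respect to the irrelevant ideal is the least index of a non-vanishing graded
local cohomology module. -/
theorem idealDepth_eq_iff_hcomp [Nontrivial T] [IsNoetherianRing T] [Module.Finite T P]
    [Nontrivial P] (n : ℕ) :
    LocCoh.idealDepth mT.toIdeal P = (n : ℕ∞) ↔
      (∀ i < n, ∀ d : ℤ, EP.Hcomp mT i d = ⊥) ∧ ∃ d : ℤ, EP.Hcomp mT n d ≠ ⊥ := by
  have hm := isStarLocal 𝒯 hpos h0 mT hmT
  haveI : Module.Finite T (toGMod 𝒯 𝒬).carrier := inferInstanceAs (Module.Finite T P)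
  haveI : Nontrivial (toGMod 𝒯 𝒬).carrier := inferInstanceAs (Nontrivial P)
  have hIM := smul_top_ne_top (convIdeal 𝒯 mT) hm (toGMod 𝒯 𝒬)
  have key := idealDepth_eq_iff_vanX (convIdeal 𝒯 mT) (toGMod 𝒯 𝒬) hIM n
  refine Iff.trans ?_ (key.trans ?_)
  · exact Iff.rfl
  · refine and_congr ?_ ?_
    · refine forall_congr' fun i => imp_congr_right fun _ => forall_congr' fun d => ?_
      exact (hcomp_eq_bot_iff_vanX 𝒯 𝒬 EP mT i d).symm
    · rw [not_forall]
      refine exists_congr fun d => ?_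
      exact not_congr (hcomp_eq_bot_iff_vanX 𝒯 𝒬 EP mT n d).symm

/-- Grothendieck vanishing above the dimension of the module. -/
theorem hcomp_eq_bot_of_supportDim_lt [IsNoetherianRing T] (i : ℕ)
    (hi : Module.supportDim T P < (i : WithBot ℕ∞)) (d : ℤ) : EP.Hcomp mT i d = ⊥ := by
  rw [hcomp_eq_bot_iff_vanX 𝒯 𝒬 EP mT i d]
  apply vanX_of_subsingleton_H
  exact Groth.Agent.S11625.result T (convIdeal 𝒯 mT).toIdeal P i hi

end Groth.Agent.Lib.H6xModCMC
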