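import Mathlib

/-!
# Algebra of roots of the cyclotomic polynomial in a general commutative ring (helper6)

For a commutative ring `A` in which `n` is invertible and `ζ` a root of `Φ_n`:
`ζ^n = 1`, `ζ^j - 1` is a unit for `0 < j < n`, and `u^n = 1 → ∏_{j<n} (u - ζ^j) = 0`.
Proved by specialisation from the universal ring `ℤ[Y]/(Φ_n)`.
-/

set_option autoImplicit false
open Polynomial

namespace Groth.Agent.Lib.H6xMuConstAlg

section Universal

variable (n : ℕ)

/-- the universal ring -/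
abbrev R0 : Type := AdjoinRoot (cyclotomic n ℤ)

lemma prime_cyclotomic (hn : 0 < n) : Prime (cyclotomic n ℤ) :=
  (cyclotomic.irreducible hn).prime

instance isDomain_R0 [hn : NeZero n] : IsDomain (R0 n) :=
  AdjoinRoot.isDomain_of_prime (prime_cyclotomic n (Nat.pos_of_ne_zero hn.out))

lemma of_injective [hn : NeZero n] : Function.Injective (AdjoinRoot.of (cyclotomic n ℤ)) := by
  apply AdjoinRoot.of.injective_of_degree_ne_zero
  rw [degree_cyclotomic]
  have := Nat.totient_pos.mpr (Nat.pos_of_ne_zero hn.out)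
  exact_mod_cast this.ne'

instance neZero_R0 [hn : NeZero n] : NeZero ((n : ℕ) : R0 n) := by
  constructor
  intro h
  have h1 : AdjoinRoot.of (cyclotomic n ℤ) (n : ℤ) = AdjoinRoot.of (cyclotomic n ℤ) 0 := by
    rw [map_zero, map_natCast]; exact h
  have h2 := of_injective n h1
  exact hn.out (by exact_mod_cast h2)

lemma isPrimitiveRoot_root [hn : NeZero n] : IsPrimitiveRoot (AdjoinRoot.root (cyclotomic n ℤ)) n := by
  rw [← isRoot_cyclotomic_iff]
  have h := AdjoinRoot.eval₂_root (cyclotomic n ℤ)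
  rw [← map_cyclotomic_int n (R0 n), IsRoot.def, eval_map]
  have e : Int.castRingHom (R0 n) = AdjoinRoot.of (cyclotomic n ℤ) := RingHom.ext_int _ _
  rw [e]
  exact h

end Universal

variable {A : Type*} [CommRing A] {n : ℕ} {ζ : A}

/-- the specialisation map -/
noncomputable def spec (hζ : aeval ζ (cyclotomic n ℤ) = 0) : R0 n →+* A :=
  AdjoinRoot.lift (Int.castRingHom A) ζ (by
    rw [← hζ, aeval_def]
    congr 1)

@[simp] lemma spec_root (hζ : aeval ζ (cyclotomic n ℤ) = 0) :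
    spec hζ (AdjoinRoot.root _) = ζ := by
  simp [spec]

theorem pow_eq_one (hζ : aeval ζ (cyclotomic n ℤ) = 0) : ζ ^ n = 1 := by
  obtain ⟨q, hq⟩ := cyclotomic.dvd_X_pow_sub_one n ℤ
  have := congrArg (aeval ζ) hq
  rw [map_mul, hζ, zero_mul] at this
  simpa [sub_eq_zero] using this

theorem isUnit_zeta (hn : 1 ≤ n) (hζ : aeval ζ (cyclotomic n ℤ) = 0) : IsUnit ζ := by
  apply IsUnit.of_pow_eq_one (pow_eq_one hζ) (by omega)

theorem isUnit_pow_sub_one (hunit : IsUnit (n : A))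
    (hζ : aeval ζ (cyclotomic n ℤ) = 0) {j : ℕ} (hj0 : 0 < j) (hjn : j < n) :
    IsUnit (ζ ^ j - 1) := by
  obtain ⟨m, rfl⟩ : ∃ m, n = m + 1 := ⟨n - 1, by omega⟩
  have h0 := (isPrimitiveRoot_root (m + 1)).prod_one_sub_pow_eq_order
  have h1 := congrArg (spec hζ) h0
  rw [map_prod] at h1
  simp only [map_sub, map_one, map_pow, spec_root, map_add, map_natCast] at h1
  have h2 : IsUnit (∏ k ∈ Finset.range m, (1 - ζ ^ (k + 1))) := by
    rw [h1]
    simpa using hunit
  have h3 : IsUnit (1 - ζ ^ j) := by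
    obtain ⟨k, rfl⟩ : ∃ k, j = k + 1 := ⟨j - 1, by omega⟩
    have hk : k ∈ Finset.range m := Finset.mem_range.mpr (by omega)
    rw [← Finset.mul_prod_erase _ _ hk] at h2
    exact isUnit_of_mul_isUnit_left h2
  have : ζ ^ j - 1 = -(1 - ζ ^ j) := by ring
  rw [this]
  exact h3.neg

theorem prod_eq_zero_of_pow_eq_one (hn : 1 ≤ n)
    (hζ : aeval ζ (cyclotomic n ℤ) = 0) {u : A} (hu : u ^ n = 1) :
    ∏ j ∈ Finset.range n, (u - ζ ^ j) = 0 := by
  haveI : NeZero n := ⟨by omega⟩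
  have h0 := X_pow_sub_C_eq_prod (isPrimitiveRoot_root n) (α := 1) (a := 1) (by omega) (one_pow n)
  have h1 := congrArg (Polynomial.map (spec hζ)) h0
  rw [Polynomial.map_prod] at h1
  simp only [Polynomial.map_sub, Polynomial.map_pow, map_X, map_C, map_one, mul_one, map_pow,
    spec_root, Polynomial.map_one] at h1
  have h2 := congrArg (Polynomial.eval u) h1
  rw [eval_prod] at h2
  simp only [eval_sub, eval_pow, eval_X, eval_C, eval_one] at h2
  rw [← h2, hu, sub_self]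

/-- differences of distinct powers of `ζ` are units -/
theorem isUnit_pow_sub_pow (hn : 1 ≤ n) (hunit : IsUnit (n : A))
    (hζ : aeval ζ (cyclotomic n ℤ) = 0) {i j : ℕ} (hi : i < n) (hj : j < n) (hij : i ≠ j) :
    IsUnit (ζ ^ i - ζ ^ j) := by
  have hz := isUnit_zeta hn hζ
  rcases Nat.lt_or_gt_of_ne hij with h | h
  · have : ζ ^ i - ζ ^ j = -(ζ ^ i * (ζ ^ (j - i) - 1)) := by
      rw [mul_sub, ← pow_add, Nat.add_sub_cancel' h.le]; ring
    rw [this]
    exact ((hz.pow i).mul (isUnit_pow_sub_one hunit hζ (by omega) (by omega))).neg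
  · have : ζ ^ i - ζ ^ j = ζ ^ j * (ζ ^ (i - j) - 1) := by
      rw [mul_sub, ← pow_add, Nat.add_sub_cancel' h.le]; ring
    rw [this]
    exact (hz.pow j).mul (isUnit_pow_sub_one hunit hζ (by omega) (by omega))

/-- local decomposition: at each prime, exactly one factor lies in the prime -/
theorem exists_index_of_prime (hn : 1 ≤ n) (hunit : IsUnit (n : A))
    (hζ : aeval ζ (cyclotomic n ℤ) = 0) {u : A} (hu : u ^ n = 1) (P : Ideal A) [P.IsPrime] :
    ∃ j, j < n ∧ (∏ i ∈ (Finset.range n).erase j, (u - ζ ^ i)) ∉ P ∧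
      (∏ i ∈ (Finset.range n).erase j, (u - ζ ^ i)) * (u - ζ ^ j) = 0 := by
  have h0 := prod_eq_zero_of_pow_eq_one hn hζ hu
  have h1 : (∏ j ∈ Finset.range n, (u - ζ ^ j)) ∈ P := by rw [h0]; exact P.zero_mem
  rw [Ideal.IsPrime.prod_mem_iff] at h1
  obtain ⟨j, hj, hjP⟩ := h1
  rw [Finset.mem_range] at hj
  refine ⟨j, hj, ?_, ?_⟩
  · intro h2
    rw [Ideal.IsPrime.prod_mem_iff] at h2
    obtain ⟨i, hi, hiP⟩ := h2
    rw [Finset.mem_erase, Finset.mem_range] at hi
    have h3 : ζ ^ i - ζ ^ j ∈ P := by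
      have : ζ ^ i - ζ ^ j = (u - ζ ^ j) - (u - ζ ^ i) := by ring
      rw [this]
      exact P.sub_mem hjP hiP
    have h4 := isUnit_pow_sub_pow hn hunit hζ hi.2 hj hi.1
    exact (Ideal.IsPrime.ne_top ‹_›) (Ideal.eq_top_of_isUnit_mem _ h3 h4)
  · rw [mul_comm, Finset.mul_prod_erase _ (fun i => u - ζ ^ i) (Finset.mem_range.mpr hj)]
    exact h0

theorem exists_index_of_prime' (hn : 1 ≤ n) (hunit : IsUnit (n : A))
    (hζ : aeval ζ (cyclotomic n ℤ) = 0) {u : A} (hu : u ^ n = 1) (P : Ideal A) [P.IsPrime] :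
    ∃ j, j < n ∧ ∃ e : A, e ∉ P ∧ e * (u - ζ ^ j) = 0 := by
  obtain ⟨j, hj, h1, h2⟩ := exists_index_of_prime hn hunit hζ hu P
  exact ⟨j, hj, _, h1, h2⟩

end Groth.Agent.Lib.H6xMuConstAlg
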