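import Mathlib
import Groth.Prelude.Def_EtGm
import Groth.Agent.Lib.Helper16SmallEtale
import Groth.Agent.Lib.H6xMuConstAlg

/-!
# `μ_n ≅ ℤ/n` on the small étale site when a primitive root of unity exists (helper6)
-/

set_option autoImplicit false
open CategoryTheory CategoryTheory.Limits AlgebraicGeometry Opposite
universe u

namespace Groth.Agent.Lib.H6xMuConst

open Groth.Agent.Lib.Helper16.SmallEtale Groth.Agent.Lib.H6xMuConstAlg

variable (S : Scheme.{u}) (n : ℕ)

/-- sections of `G_m` from units -/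
def mkSec (U : S.Etale) (a : (Γ(U.left, ⊤))ˣ) : (EtCoh.Gm S).obj.obj (op U) :=
  (ULift.up (Additive.ofMul a) : ULift.{u+1} (Additive (Γ(U.left, ⊤))ˣ))

/-- units from sections of `G_m` -/
def valSec (U : S.Etale) (x : (EtCoh.Gm S).obj.obj (op U)) : (Γ(U.left, ⊤))ˣ :=
  Additive.toMul (ULift.down (x : ULift.{u+1} (Additive (Γ(U.left, ⊤))ˣ)))

lemma mkSec_valSec (U : S.Etale) (x : (EtCoh.Gm S).obj.obj (op U)) : mkSec S U (valSec S U x) = x := rfl
lemma valSec_mkSec (U : S.Etale) (a : (Γ(U.left, ⊤))ˣ) : valSec S U (mkSec S U a) = a := rfl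

lemma map_mkSec {U V : S.Etale} (g : V ⟶ U) (a : (Γ(U.left, ⊤))ˣ) :
    (EtCoh.Gm S).obj.map g.op (mkSec S U a) =
      mkSec S V (Units.map g.left.appTop.hom.toMonoidHom a) := rfl

lemma mkSec_mul (U : S.Etale) (a b : (Γ(U.left, ⊤))ˣ) :
    mkSec S U (a * b) = mkSec S U a + mkSec S U b := rfl
lemma mkSec_one (U : S.Etale) : mkSec S U 1 = 0 := rfl
lemma mkSec_pow (U : S.Etale) (a : (Γ(U.left, ⊤))ˣ) (k : ℕ) :
    mkSec S U (a ^ k) = k • mkSec S U a := rfl
lemma mkSec_zpow (U : S.Etale) (a : (Γ(U.left, ⊤))ˣ) (k : ℤ) :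
    mkSec S U (a ^ k) = k • mkSec S U a := rfl
lemma mkSec_injective (U : S.Etale) : Function.Injective (mkSec S U) := by
  intro a b h
  have := congrArg (valSec S U) h
  exact this

lemma sheaf_comp_hom {F G H : EtCoh.Ab S} (f : F ⟶ G) (g : G ⟶ H) :
    (f ≫ g).hom = f.hom ≫ g.hom := rfl

lemma sheaf_zero_hom {F G : EtCoh.Ab S} : (0 : F ⟶ G).hom = 0 := rfl

lemma nsmul_hom_app {F G : EtCoh.Ab S} (f : F ⟶ G) (n : ℕ) (U : S.Etaleᵒᵖ) (x : F.obj.obj U) :
    (n • f).hom.app U x = n • (f.hom.app U x) := by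
  induction n with
  | zero => simp
  | succ k ih =>
    rw [succ_nsmul, succ_nsmul, ← ih]
    rfl

lemma powMap_app (U : S.Etale) (x : (EtCoh.Gm S).obj.obj (op U)) :
    (EtCoh.powMap S n).hom.app (op U) x = n • x := by
  unfold EtCoh.powMap
  rw [nsmul_hom_app]
  rfl

lemma nsmul_muι_app (U : S.Etale) (t : (EtCoh.mu S n).obj.obj (op U)) :
    n • ((EtCoh.muι S n).hom.app (op U) t) = 0 := by
  have h : EtCoh.muι S n ≫ EtCoh.powMap S n = 0 := kernel.condition _
  have h2 := congrArg (fun f => f.hom.app (op U) t) h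
  rw [← powMap_app]
  exact h2

instance : Mono (EtCoh.muι S n) := by
  unfold EtCoh.muι
  exact equalizer.ι_mono

lemma muι_app_injective (U : S.Etale) :
    Function.Injective ((EtCoh.muι S n).hom.app (op U)) := by
  have h1 : Mono (EtCoh.muι S n).hom := inferInstance
  have h2 : Mono ((EtCoh.muι S n).hom.app (op U)) := inferInstance
  exact (AddCommGrpCat.mono_iff_injective _).mp h2

section Construct

variable {S n} (hn : 1 ≤ n) (ζ : Γ(S, ⊤)) (hζn : ζ ^ n = 1)

/-- `ζ` as a unit -/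
def zS : (Γ(S, ⊤))ˣ := Units.ofPowEqOne ζ n hζn (by omega)

/-- the image of `ζ` in the functions of `U` -/
def zU (U : S.Etale) : (Γ(U.left, ⊤))ˣ := Units.map U.hom.appTop.hom.toMonoidHom (zS hn ζ hζn)

lemma zU_val (U : S.Etale) : ((zU hn ζ hζn U : (Γ(U.left, ⊤))ˣ) : Γ(U.left, ⊤)) = U.hom.appTop ζ := rfl

lemma zU_pow (U : S.Etale) : (zU hn ζ hζn U) ^ n = 1 := by
  apply Units.ext
  rw [Units.val_pow_eq_pow_val, zU_val, ← map_pow, hζn, map_one, Units.val_one]

lemma zU_map {U V : S.Etale} (g : V ⟶ U) :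
    Units.map g.left.appTop.hom.toMonoidHom (zU hn ζ hζn U) = zU hn ζ hζn V := by
  apply Units.ext
  change g.left.appTop (U.hom.appTop ζ) = V.hom.appTop ζ
  have hw : g.left ≫ U.hom = V.hom := Over.w g.hom
  rw [← hw, Scheme.Hom.comp_appTop]
  rfl

/-- the section `ζ` of `G_m` -/
def secZ (U : S.Etale) : (EtCoh.Gm S).obj.obj (op U) := mkSec S U (zU hn ζ hζn U)

lemma nsmul_secZ (U : S.Etale) : n • secZ hn ζ hζn U = 0 := by
  unfold secZ
  rw [← mkSec_pow, zU_pow, mkSec_one]

lemma map_secZ {U V : S.Etale} (g : V ⟶ U) :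
    (EtCoh.Gm S).obj.map g.op (secZ hn ζ hζn U) = secZ hn ζ hζn V := by
  unfold secZ
  rw [map_mkSec, zU_map]

/-- the character `ℤ/n → G_m(U)`, `k ↦ ζ^k` -/
noncomputable def charHom (U : S.Etale) : ZMod n →+ (EtCoh.Gm S).obj.obj (op U) :=
  ZMod.lift n ⟨zmultiplesHom _ (secZ hn ζ hζn U), by
    rw [zmultiplesHom_apply, natCast_zsmul]
    exact nsmul_secZ hn ζ hζn U⟩

lemma charHom_intCast (U : S.Etale) (i : ℤ) :
    charHom hn ζ hζn U (i : ZMod n) = i • secZ hn ζ hζn U := by
  unfold charHom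
  rw [ZMod.lift_coe]
  rfl

lemma charHom_natCast (U : S.Etale) (i : ℕ) :
    charHom hn ζ hζn U (i : ZMod n) = mkSec S U (zU hn ζ hζn U ^ i) := by
  have := charHom_intCast hn ζ hζn U (i : ℤ)
  rw [Int.cast_natCast, natCast_zsmul] at this
  rw [this, mkSec_pow]
  rfl

lemma map_charHom {U V : S.Etale} (g : V ⟶ U) (k : ZMod n) :
    (EtCoh.Gm S).obj.map g.op (charHom hn ζ hζn U k) = charHom hn ζ hζn V k := by
  obtain ⟨i, rfl⟩ := ZMod.intCast_surjective k
  rw [charHom_intCast, charHom_intCast, map_zsmul, map_secZ]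

/-- the value group, lifted -/
abbrev M (n : ℕ) : AddCommGrpCat.{u+1} := AddCommGrpCat.of (ULift.{u+1} (ZMod n))

/-- the constant presheaf -/
abbrev P0 (S : Scheme.{u}) (n : ℕ) : S.Etaleᵒᵖ ⥤ AddCommGrpCat.{u+1} := (Functor.const _).obj (M n)

/-- the presheaf-level character -/
noncomputable def psi0 : P0 S n ⟶ (EtCoh.Gm S).obj where
  app U := AddCommGrpCat.ofHom ((charHom hn ζ hζn (unop U)).comp AddEquiv.ulift.toAddMonoidHom)
  naturality U V g := by
    ext k
    change charHom hn ζ hζn (unop V) k.down =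
      (EtCoh.Gm S).obj.map g (charHom hn ζ hζn (unop U) k.down)
    have := map_charHom hn ζ hζn g.unop k.down
    exact this.symm

lemma psi0_app (U : S.Etale) (k : ULift.{u+1} (ZMod n)) :
    (psi0 hn ζ hζn).app (op U) k = charHom hn ζ hζn U k.down := rfl

/-- the constant sheaf, as a sheafification -/
noncomputable abbrev C0 (S : Scheme.{u}) (n : ℕ) : EtCoh.Ab S :=
  (presheafToSheaf S.smallEtaleTopology AddCommGrpCat.{u+1}).obj (P0 S n)

lemma C0_eq : EtCoh.const S (ZMod n) = C0 S n := rfl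

/-- the sheaf-level character -/
noncomputable def psi : C0 S n ⟶ EtCoh.Gm S :=
  ⟨sheafifyLift S.smallEtaleTopology (psi0 hn ζ hζn) (EtCoh.Gm S).property⟩

lemma toSheafify_psi :
    toSheafify S.smallEtaleTopology (P0 S n) ≫ (psi hn ζ hζn).hom = psi0 hn ζ hζn :=
  toSheafify_sheafifyLift _ _ _

lemma psi0_powMap : psi0 hn ζ hζn ≫ (EtCoh.powMap S n).hom = 0 := by
  ext U k
  induction U using Opposite.rec with | _ U => ?_
  change (EtCoh.powMap S n).hom.app (op U) ((psi0 hn ζ hζn).app (op U) k) = 0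
  rw [powMap_app, psi0_app, ← map_nsmul]
  have : n • k.down = 0 := by
    rw [nsmul_eq_mul, ZMod.natCast_self, zero_mul]
  rw [this, map_zero]

lemma psi_powMap : psi hn ζ hζn ≫ EtCoh.powMap S n = 0 := by
  apply Sheaf.hom_ext
  apply sheafify_hom_ext _ _ _ (EtCoh.Gm S).property
  rw [sheaf_comp_hom, ← Category.assoc, toSheafify_psi, psi0_powMap, sheaf_zero_hom, comp_zero]

/-- the lift to `μ_n` -/
noncomputable def theta : C0 S n ⟶ EtCoh.mu S n :=
  kernel.lift (EtCoh.powMap S n) (psi hn ζ hζn) (psi_powMap hn ζ hζn)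

lemma theta_muι : theta hn ζ hζn ≫ EtCoh.muι S n = psi hn ζ hζn :=
  kernel.lift_ι _ _ _

/-- presheaf-level version of `theta` -/
noncomputable def theta0 : P0 S n ⟶ (EtCoh.mu S n).obj :=
  toSheafify S.smallEtaleTopology (P0 S n) ≫ (theta hn ζ hζn).hom

lemma theta0_muι : theta0 hn ζ hζn ≫ (EtCoh.muι S n).hom = psi0 hn ζ hζn := by
  unfold theta0
  rw [Category.assoc, ← sheaf_comp_hom, theta_muι, toSheafify_psi]

lemma muι_theta0_app (U : S.Etale) (k : ULift.{u+1} (ZMod n)) :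
    (EtCoh.muι S n).hom.app (op U) ((theta0 hn ζ hζn).app (op U) k) =
      charHom hn ζ hζn U k.down := by
  have := congrArg (fun f => f.app (op U) k) (theta0_muι hn ζ hζn)
  exact this

end Construct

section Geom

lemma isUnit_of_basicOpen_eq_top (X : Scheme.{u}) (f : Γ(X, ⊤)) (h : X.basicOpen f = ⊤) :
    IsUnit f := by
  apply X.toRingedSpace.isUnit_of_isUnit_germ ⊤ f
  intro x hx
  have : x ∈ X.basicOpen f := by rw [h]; trivial
  exact (X.mem_basicOpen_top f x).mp this

lemma isEmpty_of_one_eq_zero (X : Scheme.{u}) (h : (1 : Γ(X, ⊤)) = 0) : IsEmpty X := by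
  constructor
  intro x
  have h1 := congrArg (X.presheaf.germ ⊤ x trivial).hom h
  rw [map_one, map_zero] at h1
  exact one_ne_zero h1

lemma isUnit_ι_appTop_basicOpen (X : Scheme.{u}) (e : Γ(X, ⊤)) :
    IsUnit ((X.basicOpen e).ι.appTop e) := by
  apply isUnit_of_basicOpen_eq_top
  rw [← Scheme.preimage_basicOpen_top]
  exact Scheme.Opens.ι_preimage_self _

/-- the open `D(e)` of an étale `S`-scheme as an étale `S`-scheme -/
noncomputable def basicEt {S : Scheme.{u}} (U : S.Etale) (e : Γ(U.left, ⊤)) : S.Etale :=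
  Scheme.Etale.mk ((U.left.basicOpen e).ι ≫ U.hom)

/-- the inclusion of `D(e)` -/
noncomputable def basicEtHom {S : Scheme.{u}} (U : S.Etale) (e : Γ(U.left, ⊤)) :
    basicEt U e ⟶ U :=
  MorphismProperty.Over.homMk (U.left.basicOpen e).ι rfl trivial

lemma basicEtHom_left {S : Scheme.{u}} (U : S.Etale) (e : Γ(U.left, ⊤)) :
    (basicEtHom U e).left = (U.left.basicOpen e).ι := rfl

end Geom

section Main

variable {S n} (hn : 1 ≤ n) (hunit : IsUnit (n : Γ(S, ⊤))) (ζ : Γ(S, ⊤))
  (hζ : Polynomial.aeval ζ (Polynomial.cyclotomic n ℤ) = 0)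

include hζ in
lemma aeval_appTop (U : S.Etale) :
    Polynomial.aeval (U.hom.appTop ζ) (Polynomial.cyclotomic n ℤ) = 0 := by
  have := Polynomial.aeval_algHom_apply (U.hom.appTop.hom.toIntAlgHom) ζ
    (Polynomial.cyclotomic n ℤ)
  rw [hζ, map_zero] at this
  exact this

include hunit in
lemma isUnit_n_appTop (U : S.Etale) : IsUnit ((n : ℕ) : Γ(U.left, ⊤)) := by
  have := hunit.map U.hom.appTop.hom
  rwa [map_natCast] at this

include hunit in
lemma isEmpty_of_charHom_eq (U : S.Etale) {k k' : ZMod n} (hkk : k ≠ k')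
    (h : charHom hn ζ (pow_eq_one hζ) U k = charHom hn ζ (pow_eq_one hζ) U k') :
    IsEmpty U.left := by
  haveI : NeZero n := ⟨by omega⟩
  have hd0 : k - k' ≠ 0 := sub_ne_zero.mpr hkk
  have h1 : charHom hn ζ (pow_eq_one hζ) U (k - k') = 0 := by rw [map_sub, h, sub_self]
  have h2 : (((k - k').val : ℕ) : ZMod n) = k - k' := ZMod.natCast_zmod_val (k - k')
  rw [← h2, charHom_natCast] at h1
  have h3 : zU hn ζ (pow_eq_one hζ) U ^ (k - k').val = 1 :=
    mkSec_injective S U (h1.trans (mkSec_one S U).symm)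
  have h4 : (U.hom.appTop ζ) ^ (k - k').val = 1 := by
    have := congrArg Units.val h3
    rwa [Units.val_pow_eq_pow_val, zU_val, Units.val_one] at this
  have h5 := isUnit_pow_sub_one (isUnit_n_appTop hunit U) (aeval_appTop ζ hζ U)
    (j := (k - k').val) (Nat.pos_of_ne_zero ((ZMod.val_ne_zero _).mpr hd0)) (ZMod.val_lt _)
  rw [h4, sub_self] at h5
  apply isEmpty_of_one_eq_zero
  exact (isUnit_zero_iff.mp h5).symm

include hunit in
lemma isLocallyInjective_theta0 :
    Presheaf.IsLocallyInjective S.smallEtaleTopology (theta0 hn ζ (pow_eq_one hζ)) := by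
  constructor
  intro U x y hxy
  induction U using Opposite.rec with | _ U => ?_
  by_cases hk : x = y
  · subst hk
    rw [Presheaf.equalizerSieve_self_eq_top]
    exact GrothendieckTopology.top_mem _ _
  · have h1 := congrArg ((EtCoh.muι S n).hom.app (op U)) hxy
    rw [muι_theta0_app, muι_theta0_app] at h1
    have hne : x.down ≠ y.down := fun h => hk (ULift.ext _ _ h)
    haveI := isEmpty_of_charHom_eq hn hunit ζ hζ U hne h1
    rw [mem_smallEtale_iff]
    intro p
    exact isEmptyElim p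

include hunit in
lemma exists_local_pow (U : S.Etale) (a : (Γ(U.left, ⊤))ˣ) (ha : a ^ n = 1) (p : U.left) :
    ∃ (W : S.Etale) (g : W ⟶ U) (y : W.left) (j : ℕ), g.left y = p ∧
      Units.map g.left.appTop.hom.toMonoidHom a = (zU hn ζ (pow_eq_one hζ) W) ^ j := by
  let ev := (U.left.evaluation ⊤ p trivial).hom
  haveI : (RingHom.ker ev).IsPrime := RingHom.ker_isPrime ev
  have ha' : (a : Γ(U.left, ⊤)) ^ n = 1 := by
    rw [← Units.val_pow_eq_pow_val, ha, Units.val_one]
  obtain ⟨j, hj, e, he, hmul⟩ := exists_index_of_prime' hn (isUnit_n_appTop hunit U)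
    (aeval_appTop ζ hζ U) ha' (RingHom.ker ev)
  have hp : p ∈ U.left.basicOpen e := by
    rw [← Scheme.evaluation_ne_zero_iff_mem_basicOpen U.left (U := ⊤) p trivial e]
    exact fun h => he ((RingHom.mem_ker).mpr h)
  refine ⟨basicEt U e, basicEtHom U e, ⟨p, hp⟩, j, rfl, ?_⟩
  apply Units.ext
  have h1 := congrArg (U.left.basicOpen e).ι.appTop.hom hmul
  rw [map_mul, map_zero, map_sub, map_pow] at h1
  have h2 := (isUnit_ι_appTop_basicOpen U.left e).mul_right_eq_zero.mp h1
  rw [sub_eq_zero] at h2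
  rw [Units.val_pow_eq_pow_val, zU_val]
  change (U.left.basicOpen e).ι.appTop a.val = _
  refine h2.trans ?_
  congr 1

include hunit in
lemma isLocallySurjective_theta0 :
    Presheaf.IsLocallySurjective S.smallEtaleTopology (theta0 hn ζ (pow_eq_one hζ)) := by
  constructor
  intro U t
  rw [mem_smallEtale_iff]
  intro p
  have hx : n • ((EtCoh.muι S n).hom.app (op U) t) = 0 := nsmul_muι_app S n U t
  have hu : (valSec S U ((EtCoh.muι S n).hom.app (op U) t)) ^ n = 1 := by
    apply mkSec_injective S U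
    rw [mkSec_pow, mkSec_valSec, hx, mkSec_one]
  obtain ⟨W, g, y, j, hy, hj⟩ := exists_local_pow hn hunit ζ hζ U _ hu p
  refine ⟨W, g, y, ?_, hy⟩
  refine ⟨ULift.up (j : ZMod n), ?_⟩
  apply muι_app_injective S n W
  rw [muι_theta0_app]
  have hnat := NatTrans.naturality_apply (EtCoh.muι S n).hom g.op t
  refine Eq.trans ?_ hnat.symm
  change charHom hn ζ (pow_eq_one hζ) W (j : ZMod n) = _
  rw [charHom_natCast, ← hj, ← map_mkSec, mkSec_valSec]

include hunit in
theorem isIso_theta : IsIso (theta hn ζ (pow_eq_one hζ)) := by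
  haveI := isLocallyInjective_theta0 hn hunit ζ hζ
  haveI := isLocallySurjective_theta0 hn hunit ζ hζ
  have fac : toSheafify S.smallEtaleTopology (P0 S n) ≫ (theta hn ζ (pow_eq_one hζ)).hom =
      theta0 hn ζ (pow_eq_one hζ) := rfl
  haveI : Presheaf.IsLocallyInjective S.smallEtaleTopology (theta hn ζ (pow_eq_one hζ)).hom :=
    Presheaf.isLocallyInjective_of_isLocallyInjective_of_isLocallySurjective_fac _ _ fac
  haveI : Presheaf.IsLocallySurjective S.smallEtaleTopology (theta hn ζ (pow_eq_one hζ)).hom :=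
    Presheaf.isLocallySurjective_of_isLocallySurjective_fac _ fac
  exact (Sheaf.isLocallyBijective_iff_isIso _).mp ⟨inferInstance, inferInstance⟩

include hunit hn hζ in
theorem main : Nonempty (EtCoh.mu S n ≅ EtCoh.const S (ZMod n)) := by
  haveI := isIso_theta hn hunit ζ hζ
  exact ⟨(asIso (theta hn ζ (pow_eq_one hζ))).symm⟩

end Main

end Groth.Agent.Lib.H6xMuConst
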