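import Mathlib

/-!
# Murthy's theorem, part A: rank-one torsion-free modules (helper6)

* `exists_functional_ne_zero`: a finite torsion-free module over a domain has enough functionals.
* `injective_of_end_eq`: if every endomorphism of a torsion-free module `K` is a scalar, every
  nonzero functional on `K` is injective.
-/

set_option autoImplicit false
universe u v

namespace Groth.Agent.Lib.H6xMurthy

open scoped nonZeroDivisors

section Functional

variable {R : Type u} [CommRing R] [IsDomain R] {K : Type v} [AddCommGroup K] [Module R K]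

/-- A finitely generated torsion-free module over a domain has enough functionals. -/
theorem exists_functional_ne_zero [Module.Finite R K]
    (htf : ∀ (a : R) (x : K), a • x = 0 → a = 0 ∨ x = 0) (x0 : K) (hx0 : x0 ≠ 0) :
    ∃ ℓ : K →ₗ[R] R, ℓ x0 ≠ 0 := by
  classical
  let F := FractionRing R
  let V := LocalizedModule R⁰ K
  let mk : K →ₗ[R] V := LocalizedModule.mkLinearMap R⁰ K
  have hv0 : mk x0 ≠ 0 := by
    intro h
    have h' : LocalizedModule.mk x0 (1 : R⁰) = LocalizedModule.mk (0 : K) (1 : R⁰) := by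
      rw [LocalizedModule.zero_mk]; exact h
    rw [LocalizedModule.mk_eq] at h'
    obtain ⟨u, hu⟩ := h'
    simp only [one_smul, smul_zero] at hu
    rcases htf (u : R) x0 hu with h0 | h0
    · exact nonZeroDivisors.coe_ne_zero u h0
    · exact hx0 h0
  obtain ⟨lam, hlam⟩ : ∃ lam : Module.Dual F V, lam (mk x0) ≠ 0 := by
    by_contra hcon
    push Not at hcon
    exact hv0 ((Module.forall_dual_apply_eq_zero_iff F (mk x0)).mp hcon)
  let μ : K →ₗ[R] F := (lam.restrictScalars R).comp mk
  have hμ : μ x0 ≠ 0 := hlam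
  obtain ⟨s, hs⟩ := (Module.Finite.fg_top : (⊤ : Submodule R K).FG)
  obtain ⟨b, hb⟩ := IsLocalization.exist_integer_multiples_of_finset R⁰ (s.image μ)
  let ν : K →ₗ[R] F := (b : R) • μ
  have hrange : ∀ x : K, ν x ∈ LinearMap.range (Algebra.linearMap R F) := by
    intro x
    have hx : x ∈ Submodule.span R (s : Set K) := by rw [hs]; trivial
    induction hx using Submodule.span_induction with
    | mem y hy =>
      obtain ⟨r, hr⟩ := hb (μ y) (Finset.mem_image_of_mem μ hy)
      exact ⟨r, hr⟩
    | zero => rw [map_zero]; exact Submodule.zero_mem _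
    | add y z _ _ hy hz => rw [map_add]; exact Submodule.add_mem _ hy hz
    | smul a y _ hy => rw [map_smul]; exact Submodule.smul_mem _ a hy
  have hinj : Function.Injective (Algebra.linearMap R F) :=
    IsFractionRing.injective R F
  let e := LinearEquiv.ofInjective (Algebra.linearMap R F) hinj
  let ℓ : K →ₗ[R] R := e.symm.toLinearMap.comp (ν.codRestrict _ hrange)
  refine ⟨ℓ, ?_⟩
  intro h
  have h1 : (e (ℓ x0) : F) = ν x0 := by
    change (e (e.symm _) : F) = _
    rw [LinearEquiv.apply_symm_apply]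
    rfl
  rw [h, map_zero] at h1
  have h2 : ν x0 = (b : R) • μ x0 := rfl
  rw [h2, Algebra.smul_def] at h1
  have h3 := h1.symm
  simp only [Submodule.coe_zero] at h3
  rcases mul_eq_zero.mp h3 with h4 | h4
  · have := (map_eq_zero_iff (algebraMap R F) (IsFractionRing.injective R F)).mp h4
    exact nonZeroDivisors.coe_ne_zero b this
  · exact hμ h4

omit [IsDomain R] in
/-- If every endomorphism of a torsion-free module `K` over a domain is a scalar, every nonzero
functional on `K` is injective. -/
theorem injective_of_end_eq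
    (htf : ∀ (a : R) (x : K), a • x = 0 → a = 0 ∨ x = 0)
    (hend : ∀ g : K →ₗ[R] K, ∃ r : R, g = r • LinearMap.id)
    (ℓ : K →ₗ[R] R) (hℓ : ℓ ≠ 0) : Function.Injective ℓ := by
  rw [← LinearMap.ker_eq_bot, eq_bot_iff]
  intro y hy
  rw [LinearMap.mem_ker] at hy
  rw [Submodule.mem_bot]
  by_contra hy0
  obtain ⟨x, hx⟩ : ∃ x, ℓ x ≠ 0 := by
    by_contra hcon
    push Not at hcon
    exact hℓ (LinearMap.ext hcon)
  obtain ⟨r, hr⟩ := hend (ℓ.smulRight y)
  have h1 : ℓ y • y = r • y := by
    have := LinearMap.congr_fun hr y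
    simpa using this
  rw [hy, zero_smul] at h1
  have hr0 : r = 0 := (htf r y h1.symm).resolve_right hy0
  have h2 : ℓ x • y = r • x := by
    have := LinearMap.congr_fun hr x
    simpa using this
  rw [hr0, zero_smul] at h2
  rcases htf _ _ h2 with h3 | h3
  · exact hx h3
  · exact hy0 h3

end Functional

section Maximal

variable {R : Type u} [CommRing R] [IsDomain R] [IsNoetherianRing R] [IsLocalRing R]
  {K : Type v} [AddCommGroup K] [Module R K]

/-- Among the ideals isomorphic to `K`, a maximal one is not contained in any principal prime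
ideal. -/
theorem exists_ideal_not_le_prime [Nontrivial K] (ℓ : K →ₗ[R] R) (hℓ : Function.Injective ℓ) :
    ∃ J : Ideal R, Nonempty (K ≃ₗ[R] J) ∧ ∀ π : R, Prime π → ¬ J ≤ Ideal.span {π} := by
  classical
  let 𝒮 : Set (Submodule R R) := {J | Nonempty (K ≃ₗ[R] J)}
  have hne : 𝒮.Nonempty := ⟨LinearMap.range ℓ, ⟨LinearEquiv.ofInjective ℓ hℓ⟩⟩
  obtain ⟨J, hJ, hmax⟩ :=
    (set_has_maximal_iff_noetherian (R := R) (M := R)).mpr inferInstance 𝒮 hne
  obtain ⟨eJ⟩ := hJ
  refine ⟨J, ⟨eJ⟩, ?_⟩
  intro π hπ hle
  let J' : Submodule R R := Submodule.comap (LinearMap.mulLeft R π) J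
  have hJJ' : J ≤ J' := by
    intro j hj
    change π * j ∈ J
    exact Ideal.mul_mem_left J π hj
  let φ : J' →ₗ[R] J := (LinearMap.mulLeft R π).restrict (p := J') (q := J) (fun x hx => hx)
  have hφ : Function.Bijective φ := by
    constructor
    · intro x y hxy
      have h1 : π * (x : R) = π * (y : R) := congrArg Subtype.val hxy
      exact Subtype.ext (mul_left_cancel₀ hπ.ne_zero h1)
    · intro j
      obtain ⟨c, hc⟩ := Ideal.mem_span_singleton'.mp (hle j.2)
      have hc' : c ∈ J' := by
        change π * c ∈ J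
        rw [mul_comm, hc]; exact j.2
      refine ⟨⟨c, hc'⟩, Subtype.ext ?_⟩
      change π * c = j
      rw [mul_comm, hc]
  have hJ' : J' ∈ 𝒮 := ⟨eJ.trans (LinearEquiv.ofBijective φ hφ).symm⟩
  have hEq : J' = J := by
    by_contra hne'
    exact hmax J' hJ' (lt_of_le_of_ne hJJ' (Ne.symm hne'))
  have hπm : π ∈ IsLocalRing.maximalIdeal R := by
    rw [IsLocalRing.mem_maximalIdeal, mem_nonunits_iff]
    exact hπ.not_isUnit
  have hsm : J ≤ IsLocalRing.maximalIdeal R • J := by
    intro j hj
    obtain ⟨c, hc⟩ := Ideal.mem_span_singleton'.mp (hle hj)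
    have hc' : c ∈ J := by
      rw [← hEq]
      change π * c ∈ J
      rw [mul_comm, hc]; exact hj
    rw [← hc, mul_comm]
    exact Submodule.smul_mem_smul hπm hc'
  have hbot : J = ⊥ :=
    Submodule.eq_bot_of_le_smul_of_le_jacobson_bot (IsLocalRing.maximalIdeal R) J
      (IsNoetherian.noetherian J) hsm (IsLocalRing.maximalIdeal_le_jacobson ⊥)
  obtain ⟨x, y, hxy⟩ := exists_pair_ne K
  apply hxy
  apply eJ.injective
  apply Subtype.ext
  have h1 : ((eJ x : J) : R) ∈ (⊥ : Submodule R R) := hbot ▸ (eJ x).2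
  have h2 : ((eJ y : J) : R) ∈ (⊥ : Submodule R R) := hbot ▸ (eJ y).2
  rw [Submodule.mem_bot] at h1 h2
  rw [h1, h2]

omit [IsNoetherianRing R] [IsLocalRing R] in
/-- In a UFD, a prime containing an ideal which is contained in no principal prime ideal has
height at least two. -/
theorem two_le_height_of_not_le_prime [UniqueFactorizationMonoid R] (J : Ideal R) (hJ0 : J ≠ ⊥)
    (hJ : ∀ π : R, Prime π → ¬ J ≤ Ideal.span {π}) (q : Ideal R) [q.IsPrime] (hq : J ≤ q) :
    2 ≤ q.height := by
  have hq0 : q ≠ ⊥ := by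
    rintro rfl
    exact hJ0 (le_bot_iff.mp hq)
  by_contra hlt
  rw [not_le] at hlt
  have hle1 : q.height ≤ 1 := by
    have : q.height < 1 + 1 := by rwa [one_add_one_eq_two]
    exact (ENat.lt_add_one_iff (by simp)).mp this
  have h0 : q.height ≠ 0 := by
    intro h0
    exact hq0 (Ideal.height_eq_zero_iff_eq_bot.mp h0)
  have h1 : q.height = 1 := le_antisymm hle1 (Order.one_le_iff_pos.mpr (pos_iff_ne_zero.mpr h0))
  have hprin := UniqueFactorizationMonoid.isPrincipal_of_height_eq_one h1
  have hπ := Submodule.IsPrincipal.prime_generator_of_isPrime q hq0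
  apply hJ _ hπ
  rw [Ideal.span_singleton_generator]
  exact hq

end Maximal

end Groth.Agent.Lib.H6xMurthy
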