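import Groth.Agent.Lib.Helper17Hyp17
import Groth.Agent.Lib.Helper17Hyp8
import Mathlib.Algebra.Homology.DerivedCategory.FullyFaithful

/-!
# `Hom(P[0], Z[0])` for `Z ∈ D^{≥ 0}` (helper6)

If `H^i(Z) = 0` for `i < 0`, there is an object `H` of `A` (namely `H^0(Z)`) and a morphism
`c : H[0] ⟶ Z⟦0⟧` such that `h ↦ h[0] ≫ c` is a bijection `Hom_A(P, H) ≃ Hom_{D(A)}(P[0], Z⟦0⟧)`
for every `P`.
-/

set_option autoImplicit false

universe w v u

open CategoryTheory CategoryTheory.Limits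

namespace Groth.Agent.Lib.H6xNegVan

open DerivedCategory Pretriangulated Groth.Agent.S14388 Groth.Agent.Lib.Helper17.Hyp

variable {A : Type u} [Category.{v} A] [Abelian A] [HasDerivedCategory.{w} A]

theorem exists_single_bijective (Z : DerivedCategory A)
    (hZ : ∀ i : ℤ, i < 0 → IsZero ((homologyFunctor A i).obj Z)) :
    ∃ (H : A) (c : (singleFunctor A 0).obj H ⟶ Z⟦(0 : ℤ)⟧), ∀ P : A,
      Function.Bijective (fun h : P ⟶ H => (singleFunctor A 0).map h ≫ c) := by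
  let X := (tt.truncLT 1).obj Z
  let Y := (tt.truncGE 1).obj Z
  have hT := tt.triangleLTGE_distinguished 1 Z
  haveI hXle : X.IsLE 0 := (inferInstance : tt.IsLE ((tt.truncLT 1).obj Z) (1 - 1))
  haveI hXge : X.IsGE 0 := by
    rw [isGE_iff]
    intro i hi
    have := isIso_homology_truncLTι 1 i (by omega) Z
    exact IsZero.of_iso (hZ i hi)
      (asIso ((homologyFunctor A i).map ((tt.truncLTι 1).app Z)))
  obtain ⟨H, ⟨θ⟩⟩ := exists_iso_singleFunctor_obj_of_isGE_of_isLE X 0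
  have h3 : ∀ (P : A) (j : ℤ), j ≤ 0 → Subsingleton ((singleFunctor A 0).obj P ⟶ Y⟦j⟧) := by
    intro P j hj
    haveI : tt.IsGE (Y⟦j⟧) (1 - j) := tt.isGE_shift Y 1 j (1 - j) (by omega)
    haveI : tt.IsGE (Y⟦j⟧) 1 := tt.isGE_of_ge _ 1 (1 - j) (by omega)
    exact ⟨fun y y' => by rw [tt.zero y 0 1 (by omega), tt.zero y' 0 1 (by omega)]⟩
  refine ⟨H, θ.inv ≫ (shiftFunctorZero (DerivedCategory A) ℤ).inv.app X ≫
    ((tt.truncLTι 1).app Z)⟦(0 : ℤ)⟧', fun P => ?_⟩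
  have hb := bijective_postcomp_mor₁ _ hT ((singleFunctor A 0).obj P) (-1) 0 (by omega)
    (h3 P (-1) (by omega)) (h3 P 0 le_rfl)
  have hfun : (fun h : P ⟶ H => (singleFunctor A 0).map h ≫ θ.inv ≫
      (shiftFunctorZero (DerivedCategory A) ℤ).inv.app X ≫ ((tt.truncLTι 1).app Z)⟦(0 : ℤ)⟧') =
      (fun y : (singleFunctor A 0).obj P ⟶ X⟦(0 : ℤ)⟧ => y ≫ ((tt.truncLTι 1).app Z)⟦(0 : ℤ)⟧') ∘
        (fun z : (singleFunctor A 0).obj P ⟶ (singleFunctor A 0).obj H =>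
          z ≫ θ.inv ≫ (shiftFunctorZero (DerivedCategory A) ℤ).inv.app X) ∘
        (fun h : P ⟶ H => (singleFunctor A 0).map h) := by
    funext h
    dsimp only [Function.comp]
    simp only [Category.assoc]
  rw [hfun]
  refine hb.comp (Function.Bijective.comp ?_ ?_)
  · let κ : (singleFunctor A 0).obj H ≅ X⟦(0 : ℤ)⟧ :=
      θ.symm ≪≫ ((shiftFunctorZero (DerivedCategory A) ℤ).app X).symm
    exact (κ.homToEquiv (Z := (singleFunctor A 0).obj P)).bijective
  · exact ⟨(singleFunctor A 0).map_injective, (singleFunctor A 0).map_surjective⟩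

end Groth.Agent.Lib.H6xNegVan
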