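import Groth.Prelude.Def_CohTop
import Groth.Prelude.Def_FreeSh
import Mathlib.Topology.Sheaves.Functors

/-!
# `f⁻¹ ℤ_V ≅ ℤ_{f⁻¹ V}` naturally in `V` (helper6)
-/

set_option autoImplicit false

universe u

open CategoryTheory CategoryTheory.Limits Opposite TopologicalSpace

namespace Groth.Agent.Lib.H6xNegVan

variable {X Y : TopCat.{u}} (f : X ⟶ Y)

/-- the adjunction `f⁻¹ ⊣ f_*` on abelian sheaves. -/
noncomputable abbrev adjTop : CohTop.pull f ⊣ CohTop.push f :=
  TopCat.Sheaf.pullbackPushforwardAdjunction AddCommGrpCat.{u} f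

/-- the tautological section of `f⁻¹ ℤ_V` over `f⁻¹ V`. -/
noncomputable def secV (V : Opens Y) :
    ((CohTop.pull f).obj (CohCx.freeSheaf (Opens.grothendieckTopology Y) V)).obj.obj
      (op ((Opens.map f).obj V)) :=
  CohFree.evalGen (Opens.grothendieckTopology Y) V
    ((CohTop.push f).obj ((CohTop.pull f).obj (CohCx.freeSheaf (Opens.grothendieckTopology Y) V)))
    ((adjTop f).unit.app (CohCx.freeSheaf (Opens.grothendieckTopology Y) V))

/-- the comparison map `ℤ_{f⁻¹ V} ⟶ f⁻¹ ℤ_V`. -/
noncomputable def aV (V : Opens Y) :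
    CohCx.freeSheaf (Opens.grothendieckTopology X) ((Opens.map f).obj V) ⟶
      (CohTop.pull f).obj (CohCx.freeSheaf (Opens.grothendieckTopology Y) V) :=
  CohFree.ofSect _ _ _ (secV f V)

lemma evalGen_aV_comp (V : Opens Y) (N : CohTop.Ab X)
    (φ : (CohTop.pull f).obj (CohCx.freeSheaf (Opens.grothendieckTopology Y) V) ⟶ N) :
    CohFree.evalGen (Opens.grothendieckTopology X) ((Opens.map f).obj V) N (aV f V ≫ φ) =
      CohFree.evalGen (Opens.grothendieckTopology Y) V ((CohTop.push f).obj N)
        ((adjTop f).homEquiv _ _ φ) := by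
  have h1 : CohFree.evalGen (Opens.grothendieckTopology X) ((Opens.map f).obj V) N (aV f V ≫ φ) =
      (φ.hom.app (op ((Opens.map f).obj V))).hom
        (CohFree.evalGen (Opens.grothendieckTopology X) ((Opens.map f).obj V) _ (aV f V)) := rfl
  rw [h1, aV, CohFree.evalGen_ofSect, Adjunction.homEquiv_unit]
  rfl

lemma bijective_aV_comp (V : Opens Y) (N : CohTop.Ab X) :
    Function.Bijective
      (fun φ : (CohTop.pull f).obj (CohCx.freeSheaf (Opens.grothendieckTopology Y) V) ⟶ N =>
        aV f V ≫ φ) := by
  have hfun : (fun φ : (CohTop.pull f).obj (CohCx.freeSheaf (Opens.grothendieckTopology Y) V) ⟶ N =>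
      aV f V ≫ φ) =
      (CohFree.homEquivSect (Opens.grothendieckTopology X) ((Opens.map f).obj V) N).symm ∘
        (CohFree.homEquivSect (Opens.grothendieckTopology Y) V ((CohTop.push f).obj N)) ∘
          ((adjTop f).homEquiv _ _) := by
    funext φ
    dsimp only [Function.comp]
    apply (CohFree.homEquivSect (Opens.grothendieckTopology X) ((Opens.map f).obj V) N).injective
    rw [CohFree.homEquivSect_apply, evalGen_aV_comp]
    exact (AddEquiv.apply_symm_apply _ _).symm
  rw [hfun]
  exact (AddEquiv.bijective _).comp ((AddEquiv.bijective _).comp (Equiv.bijective _))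

instance isIso_aV (V : Opens Y) : IsIso (aV f V) :=
  isIso_of_coyoneda_map_bijective _ (fun N => bijective_aV_comp f V N)

lemma aV_naturality {V V' : Opens Y} (i : V' ⟶ V) :
    CohCx.freeSheafMap (Opens.grothendieckTopology X) ((Opens.map f).map i) ≫ aV f V =
      aV f V' ≫ (CohTop.pull f).map (CohCx.freeSheafMap (Opens.grothendieckTopology Y) i) := by
  have hnat : (adjTop f).unit.app (CohCx.freeSheaf (Opens.grothendieckTopology Y) V') ≫
      (CohTop.push f).map ((CohTop.pull f).map
        (CohCx.freeSheafMap (Opens.grothendieckTopology Y) i)) =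
      CohCx.freeSheafMap (Opens.grothendieckTopology Y) i ≫
        (adjTop f).unit.app (CohCx.freeSheaf (Opens.grothendieckTopology Y) V) :=
    ((adjTop f).unit.naturality (CohCx.freeSheafMap (Opens.grothendieckTopology Y) i)).symm
  apply (CohFree.homEquivSect (Opens.grothendieckTopology X) ((Opens.map f).obj V') _).injective
  rw [CohFree.homEquivSect_apply, CohFree.homEquivSect_apply, evalGen_aV_comp,
    CohFree.evalGen_freeSheafMap_comp, aV, CohFree.evalGen_ofSect, Adjunction.homEquiv_unit, hnat]
  exact (CohFree.evalGen_freeSheafMap_comp (Opens.grothendieckTopology Y) i _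
    ((adjTop f).unit.app (CohCx.freeSheaf (Opens.grothendieckTopology Y) V))).symm

end Groth.Agent.Lib.H6xNegVan
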