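import Groth.Agent.Lib.H6xNegVanA
import Groth.Agent.Lib.H6xNegVanB
import Groth.Agent.Lib.Helper17Hyp25
import Groth.Agent.Lib.Helper17Hyp5
import Groth.Agent.Lib.Helper17Hyp6

/-!
# Cohomology over `f⁻¹ V` through a right adjoint of `f⁻¹` on derived categories (helper6)
-/

set_option autoImplicit false
set_option linter.style.haveILetI false

universe w₁ w₂ u

open CategoryTheory CategoryTheory.Limits Opposite TopologicalSpace

namespace Groth.Agent.Lib.H6xNegVan

open DerivedCategory Groth.Agent.Lib.Helper17.Hyp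

section Basis

variable {Y : TopCat.{u}} [HasDerivedCategory.{w₂} (CohTop.Ab Y)]

/-- if `H^q(V, L) = 0` for `V` in a basis, the cohomology sheaf `H^q(L)` vanishes. -/
theorem isZero_HD_of_basis (B : Set (Opens Y)) (hB : Opens.IsBasis B)
    (L : DerivedCategory (CohTop.Ab Y)) (q : ℤ)
    (h : ∀ V ∈ B, Subsingleton (CohCx.HDU L q V)) : IsZero (CohCx.HD L q) := by
  have hfr := locFr_frSh (Opens.grothendieckTopology Y)
  rw [IsZero.iff_id_eq_zero]
  apply hfr.gen
  intro V s
  rw [Category.comp_id]
  obtain ⟨T, hT, hT'⟩ := exists_lift_cm hfr L q V s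
  apply hfr.sep V s T hT
  intro V' g hg
  obtain ⟨ξ, hξ⟩ := hT' g hg
  rw [← hξ]
  -- cover `V'` by basis elements
  let T' : Sieve V' :=
    { arrows := fun W k => (frSh (Opens.grothendieckTopology Y)).map k ≫
        cm (P := (frSh (Opens.grothendieckTopology Y)).obj V') (K := L) (m := q) ξ = 0
      downward_closed := by
        intro W W' k hk k'
        rw [Functor.map_comp, Category.assoc, hk, comp_zero] }
  apply hfr.sep V' _ T'
  · intro x hx
    obtain ⟨W, hWB, hxW, hWV⟩ := Opens.isBasis_iff_nbhd.1 hB hx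
    refine ⟨W, homOfLE hWV, ?_, hxW⟩
    change (frSh (Opens.grothendieckTopology Y)).map (homOfLE hWV) ≫ cm ξ = 0
    rw [← cm_res]
    haveI := h W hWB
    have : res (frSh (Opens.grothendieckTopology Y)) (homOfLE hWV) ξ = 0 :=
      Subsingleton.elim (α := CohCx.HDU L q W) _ _
    rw [this, cm_zero]
  · intro W k hk
    exact hk

/-- if the cohomology sheaves vanish in negative degrees, so does `H^i(V, L)`. -/
theorem subsingleton_HDU_of_isZero_HD (L : DerivedCategory (CohTop.Ab Y))
    (hL : ∀ q : ℤ, q < 0 → IsZero (CohCx.HD L q)) (V : Opens Y) (i : ℤ) (hi : i < 0) :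
    Subsingleton (CohCx.HDU L i V) := by
  haveI : ((singleFunctor (CohTop.Ab Y) 0).obj
      (CohCx.freeSheaf (Opens.grothendieckTopology Y) V)).IsLE 0 := inferInstance
  exact subsingleton_hom_of_boundedBelow _ i L 0 hL (fun q h1 h2 => by omega)

end Basis

section Adj

variable {X Y : TopCat.{u}} (f : X ⟶ Y)

instance pull_additive : (CohTop.pull f).Additive :=
  (adjTop f).left_adjoint_additive

instance pull_preservesFiniteLimits : PreservesFiniteLimits (CohTop.pull f) := by
  unfold CohTop.pull TopCat.Sheaf.pullback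
  apply Functor.sheafPullbackConstruction.preservesFiniteLimits

instance pull_preservesFiniteColimits : PreservesFiniteColimits (CohTop.pull f) := by
  haveI : PreservesColimitsOfSize.{0, 0} (CohTop.pull f) :=
    (adjTop f).leftAdjoint_preservesColimits
  exact PreservesColimitsOfSize.preservesFiniteColimits _

variable [HasDerivedCategory.{w₁} (CohTop.Ab X)] [HasDerivedCategory.{w₂} (CohTop.Ab Y)]

/-- `f⁻¹ (ℤ_V[0]) ≅ ℤ_{f⁻¹ V}[0]` in the derived category. -/
noncomputable def eP (V : Opens Y) :
    (CohTop.pull f).mapDerivedCategory.obj ((singleFunctor (CohTop.Ab Y) 0).obj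
      (CohCx.freeSheaf (Opens.grothendieckTopology Y) V)) ≅
    (singleFunctor (CohTop.Ab X) 0).obj
      (CohCx.freeSheaf (Opens.grothendieckTopology X) ((Opens.map f).obj V)) :=
  ((CohTop.pull f).mapDerivedCategorySingleFunctor 0).app _ ≪≫
    (singleFunctor (CohTop.Ab X) 0).mapIso (asIso (aV f V)).symm

lemma eP_naturality {V V' : Opens Y} (i : V' ⟶ V) :
    (CohTop.pull f).mapDerivedCategory.map ((singleFunctor (CohTop.Ab Y) 0).map
      (CohCx.freeSheafMap (Opens.grothendieckTopology Y) i)) ≫ (eP f V).hom =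
    (eP f V').hom ≫ (singleFunctor (CohTop.Ab X) 0).map
      (CohCx.freeSheafMap (Opens.grothendieckTopology X) ((Opens.map f).map i)) := by
  have h1 := ((CohTop.pull f).mapDerivedCategorySingleFunctor 0).hom.naturality
    (CohCx.freeSheafMap (Opens.grothendieckTopology Y) i)
  have h2 : (CohTop.pull f).map (CohCx.freeSheafMap (Opens.grothendieckTopology Y) i) ≫
      inv (aV f V) = inv (aV f V') ≫
      CohCx.freeSheafMap (Opens.grothendieckTopology X) ((Opens.map f).map i) := by
    rw [IsIso.comp_inv_eq, Category.assoc, aV_naturality, IsIso.inv_hom_id_assoc]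
  dsimp only [eP, Iso.trans_hom, Iso.app_hom, Functor.mapIso_hom, Iso.symm_hom, asIso_inv]
  dsimp only [Functor.comp_obj, Functor.comp_map] at h1
  rw [← Category.assoc, h1, Category.assoc, Category.assoc, ← Functor.map_comp, h2,
    Functor.map_comp]

variable (RG : DerivedCategory (CohTop.Ab X) ⥤ DerivedCategory (CohTop.Ab Y))
  (adjD : (CohTop.pull f).mapDerivedCategory ⊣ RG) [RG.CommShift ℤ]

/-- `H^n(V, Rf_* K) ≃ H^n(f⁻¹ V, K)`. -/
noncomputable def Φ (K : DerivedCategory (CohTop.Ab X)) (V : Opens Y) (n : ℤ) :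
    CohCx.HDU (RG.obj K) n V ≃ CohCx.HDU K n ((Opens.map f).obj V) :=
  (adjShiftEquiv adjD _ K n).trans (eP f V).homFromEquiv

lemma Φ_naturality (K : DerivedCategory (CohTop.Ab X)) {V V' : Opens Y} (i : V' ⟶ V) (n : ℤ)
    (y : CohCx.HDU (RG.obj K) n V) :
    Φ f RG adjD K V' n ((singleFunctor (CohTop.Ab Y) 0).map
        (CohCx.freeSheafMap (Opens.grothendieckTopology Y) i) ≫ y) =
      (singleFunctor (CohTop.Ab X) 0).map
        (CohCx.freeSheafMap (Opens.grothendieckTopology X) ((Opens.map f).map i)) ≫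
        Φ f RG adjD K V n y := by
  change (eP f V').inv ≫ (adjD.homEquiv _ _).symm
      (((singleFunctor (CohTop.Ab Y) 0).map
        (CohCx.freeSheafMap (Opens.grothendieckTopology Y) i) ≫ y) ≫
        (RG.commShiftIso n).inv.app K) =
    (singleFunctor (CohTop.Ab X) 0).map
        (CohCx.freeSheafMap (Opens.grothendieckTopology X) ((Opens.map f).map i)) ≫
      (eP f V).inv ≫ (adjD.homEquiv _ _).symm (y ≫ (RG.commShiftIso n).inv.app K)
  rw [Category.assoc, adjD.homEquiv_naturality_left_symm, ← Category.assoc, ← Category.assoc]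
  congr 1
  rw [Iso.inv_comp_eq, ← Category.assoc, ← eP_naturality, Category.assoc, Iso.hom_inv_id,
    Category.comp_id]

end Adj

section Main

variable {X Y : TopCat.{u}} (f : X ⟶ Y)
  [HasDerivedCategory.{u} (CohTop.Ab X)] [HasDerivedCategory.{w₂} (CohTop.Ab Y)]
  (RG : DerivedCategory (CohTop.Ab X) ⥤ DerivedCategory (CohTop.Ab Y))
  (adjD : (CohTop.pull f).mapDerivedCategory ⊣ RG)

lemma ofSect_res {V V' : Opens Y} (i : V' ⟶ V) (H : CohTop.Ab Y) (s : H.obj.obj (op V)) :
    CohFree.ofSect (Opens.grothendieckTopology Y) V' H ((H.obj.map i.op).hom s) =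
      CohCx.freeSheafMap (Opens.grothendieckTopology Y) i ≫
        CohFree.ofSect (Opens.grothendieckTopology Y) V H s := by
  apply (CohFree.homEquivSect (Opens.grothendieckTopology Y) V' H).injective
  rw [CohFree.homEquivSect_apply, CohFree.homEquivSect_apply, CohFree.evalGen_ofSect,
    CohFree.evalGen_freeSheafMap_comp, CohFree.evalGen_ofSect]

include adjD in
theorem main (B : Set (Opens Y)) (hB : Opens.IsBasis B) (K : DerivedCategory (CohTop.Ab X))
    (h : ∀ V ∈ B, ∀ i : ℤ, i < 0 → Subsingleton (CohCx.HDU K i ((Opens.map f).obj V))) :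
    (∀ (V : Opens Y) (i : ℤ), i < 0 → Subsingleton (CohCx.HDU K i ((Opens.map f).obj V))) ∧
    Presheaf.IsSheaf (Opens.grothendieckTopology Y)
      ((Opens.map f).op ⋙ CohCx.HDUPresheaf K 0) := by
  letI : RG.CommShift ℤ := adjD.rightAdjointCommShift ℤ
  have hHD : ∀ q : ℤ, q < 0 → IsZero (CohCx.HD (RG.obj K) q) := fun q hq =>
    isZero_HD_of_basis B hB (RG.obj K) q (fun V hV => by
      haveI := h V hV q hq
      exact (Φ f RG adjD K V q).subsingleton)
  refine ⟨fun V i hi => ?_, ?_⟩
  · haveI := subsingleton_HDU_of_isZero_HD (RG.obj K) hHD V i hi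
    exact (Φ f RG adjD K V i).symm.subsingleton
  · obtain ⟨H, c, hc⟩ := exists_single_bijective (RG.obj K) hHD
    let Ψ : ∀ V : Opens Y, H.obj.obj (op V) → CohCx.HDU K 0 ((Opens.map f).obj V) := fun V s =>
      Φ f RG adjD K V 0 ((singleFunctor (CohTop.Ab Y) 0).map
        (CohFree.ofSect (Opens.grothendieckTopology Y) V H s) ≫ c)
    have hΨ : ∀ V, Function.Bijective (Ψ V) := fun V =>
      (Φ f RG adjD K V 0).bijective.comp ((hc _).comp
        (CohFree.homEquivSect (Opens.grothendieckTopology Y) V H).symm.bijective)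
    have hnat : ∀ {V V' : Opens Y} (i : V' ⟶ V) (s : H.obj.obj (op V)),
        Ψ V' ((H.obj.map i.op).hom s) = (singleFunctor (CohTop.Ab X) 0).map
          (CohCx.freeSheafMap (Opens.grothendieckTopology X) ((Opens.map f).map i)) ≫ Ψ V s := by
      intro V V' i s
      dsimp only [Ψ]
      rw [ofSect_res, Functor.map_comp, Category.assoc, Φ_naturality]
    rw [Presheaf.isSheaf_iff_isSheaf_forget (Opens.grothendieckTopology Y) _
      (forget AddCommGrpCat.{u}), isSheaf_iff_isSheaf_of_type]
    have hH := (isSheaf_iff_isSheaf_of_type _ _).1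
      ((Presheaf.isSheaf_iff_isSheaf_forget (Opens.grothendieckTopology Y) H.obj
      (forget AddCommGrpCat.{u})).1 H.property)
    refine Presieve.isSheaf_iso (Opens.grothendieckTopology Y) ?_ hH
    refine NatIso.ofComponents (fun V => (Equiv.ofBijective (Ψ V.unop) (hΨ V.unop)).toIso) ?_
    intro V V' g
    ext s
    exact hnat g.unop s

end Main

end Groth.Agent.Lib.H6xNegVan
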