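import Groth.Agent.Lib.H6xNegVanC

/-!
# `V ↦ H^n(f⁻¹ V, K)` is the hypercohomology presheaf of `Rf_* K` (helper6)
-/

set_option autoImplicit false
set_option linter.style.haveILetI false

universe w u

open CategoryTheory CategoryTheory.Limits Opposite TopologicalSpace

namespace Groth.Agent.Lib.H6xNegVan

open DerivedCategory Groth.Agent.Lib.Helper17.Hyp

variable {X Y : TopCat.{u}} (f : X ⟶ Y)
  [HasDerivedCategory.{w} (CohTop.Ab X)] [HasDerivedCategory.{w} (CohTop.Ab Y)]
  (RG : DerivedCategory (CohTop.Ab X) ⥤ DerivedCategory (CohTop.Ab Y))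
  (adjD : (CohTop.pull f).mapDerivedCategory ⊣ RG) [RG.CommShift ℤ]

lemma Φ_add (K : DerivedCategory (CohTop.Ab X)) (V : Opens Y) (n : ℤ)
    (y y' : CohCx.HDU (RG.obj K) n V) :
    Φ f RG adjD K V n (y + y') = Φ f RG adjD K V n y + Φ f RG adjD K V n y' := by
  change (eP f V).inv ≫ (adjD.homEquiv _ _).symm ((y + y') ≫ (RG.commShiftIso n).inv.app K) =
    (eP f V).inv ≫ (adjD.homEquiv _ _).symm (y ≫ (RG.commShiftIso n).inv.app K) +
    (eP f V).inv ≫ (adjD.homEquiv _ _).symm (y' ≫ (RG.commShiftIso n).inv.app K)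
  rw [Adjunction.homEquiv_counit, Adjunction.homEquiv_counit, Adjunction.homEquiv_counit,
    Preadditive.add_comp, Functor.map_add, Preadditive.add_comp, Preadditive.comp_add]

/-- the isomorphism of presheaves `(V ↦ H^n(f⁻¹ V, K)) ≅ (V ↦ H^n(V, Rf_* K))`. -/
noncomputable def presheafIso (K : DerivedCategory (CohTop.Ab X)) (n : ℤ) :
    CohCx.HDUPresheaf (RG.obj K) n ≅ (Opens.map f).op ⋙ CohCx.HDUPresheaf K n :=
  NatIso.ofComponents (fun V => (AddEquiv.toAddCommGrpIso
    { (Φ f RG adjD K V.unop n) with map_add' := Φ_add f RG adjD K V.unop n })) (by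
    intro V V' g
    apply AddCommGrpCat.hom_ext
    ext y
    exact Φ_naturality f RG adjD K g.unop n y)

end Groth.Agent.Lib.H6xNegVan
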