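import Groth.Agent.Lib.H6xCubicForm

set_option autoImplicit false

/-! Nodal cubic surfaces: the quadratic form `Q` of the tangent cone at the node `p`, its polar
form `B`, and the basic consequence of smoothness away from `p` (`smooth_lemma`). -/

namespace Groth.Agent.Lib.H6xNodalCubic

open MvPolynomial Groth.Agent.Lib.H6xCubicForm Module

theorem span_four_eq_top {k V : Type*} [Field k] [AddCommGroup V] [Module k V]
    [FiniteDimensional k V] (h4 : finrank k V = 4) {a b c d : V} (ha : a ≠ 0)
    (hb : b ∉ Submodule.span k {a}) (hc : c ∉ Submodule.span k {a, b})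
    (hd : d ∉ Submodule.span k {a, b, c}) : Submodule.span k {a, b, c, d} = ⊤ := by
  have l1 : LinearIndependent k ![a] := LinearIndependent.of_subsingleton 0 (by simpa using ha)
  have l2 : LinearIndependent k ![b, a] := by
    refine LinearIndependent.finCons l1 ?_
    simpa [Matrix.range_cons] using hb
  have l3 : LinearIndependent k ![c, b, a] := by
    refine LinearIndependent.finCons l2 ?_
    have : Set.range ![b, a] = {a, b} := by
      ext z; simp [Matrix.range_cons]
    rw [this]; exact hc
  have l4 : LinearIndependent k ![d, c, b, a] := by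
    refine LinearIndependent.finCons l3 ?_
    have : Set.range ![c, b, a] = {a, b, c} := by
      ext z; simp [Matrix.range_cons]
    rw [this]; exact hd
  have h := l4.span_eq_top_of_card_eq_finrank' (by simp [h4])
  have : Set.range ![d, c, b, a] = {a, b, c, d} := by
    ext z; simp [Matrix.range_cons]
  rwa [this] at h

section setting

variable {k : Type*} [Field k] [CharZero k]
  (f : MvPolynomial (Fin 4) k) (hf : f.IsHomogeneous 3) (p : Fin 4 → k) (hp : p ≠ 0)
  (hsing : ∀ i : Fin 4, eval p (pderiv i f) = 0)

/-- the tangent cone quadratic form at `p` -/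
noncomputable def Q (u : Fin 4 → k) : k := D f u p

/-- the polar form of `Q` -/
noncomputable def B (u w : Fin 4 → k) : k := T f p u w

include hsing in
theorem D_p (w : Fin 4 → k) : D f p w = 0 := by
  simp [D, hsing]

include hf hsing in
theorem F_p : eval p f = 0 := by
  have h := D_self hf p
  rw [D_p f p hsing] at h
  have h3 : (3 : k) ≠ 0 := by norm_num
  exact (mul_eq_zero.mp h.symm).resolve_left h3

include hf hsing in
theorem F_add_p (s : k) (u : Fin 4 → k) : eval (s • p + u) f = s * Q f p u + eval u f := by
  rw [eval_add hf, eval_smul hf, D_smul_left hf, F_p f hf p hsing, D_p f p hsing, D_smul_right]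
  simp [Q]

include hf in
theorem B_symm (u w : Fin 4 → k) : B f p u w = B f p w u := T_symm23 hf _ _ _

theorem B_add_left (u u' w : Fin 4 → k) : B f p (u + u') w = B f p u w + B f p u' w :=
  T_add_mid _ _ _ _ _

theorem B_smul_left (c : k) (u w : Fin 4 → k) : B f p (c • u) w = c * B f p u w :=
  T_smul_mid _ _ _ _ _

theorem B_add_right (u w w' : Fin 4 → k) : B f p u (w + w') = B f p u w + B f p u w' :=
  T_add_right _ _ _ _ _

theorem B_smul_right (c : k) (u w : Fin 4 → k) : B f p u (c • w) = c * B f p u w :=
  T_smul_right _ _ _ _ _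

include hf hsing in
theorem B_p_right (u : Fin 4 → k) : B f p u p = 0 := by
  unfold B
  rw [T_self'' hf, D_p f p hsing, mul_zero]

include hf hsing in
theorem B_p_left (u : Fin 4 → k) : B f p p u = 0 := by
  rw [B_symm f hf, B_p_right f hf p hsing]

include hf in
theorem B_self (u : Fin 4 → k) : B f p u u = 2 * Q f p u := by
  unfold B Q
  rw [T_self' hf]

include hf in
theorem Q_add (u w : Fin 4 → k) : Q f p (u + w) = Q f p u + Q f p w + B f p u w := by
  unfold Q B
  rw [D_add_left hf, T_symm23 hf u w p, T_symm12 hf u p w]

include hf in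
theorem Q_smul (c : k) (u : Fin 4 → k) : Q f p (c • u) = c ^ 2 * Q f p u := by
  unfold Q
  rw [D_smul_left hf]

include hsing in
theorem Q_p : Q f p p = 0 := D_p f p hsing p

include hf hsing in
theorem Q_add_p (c : k) (u : Fin 4 → k) : Q f p (c • p + u) = Q f p u := by
  rw [Q_add f hf, Q_smul f hf, Q_p f p hsing, B_smul_left, B_p_left f hf p hsing]
  ring

include hf hsing in
theorem D_add_p (s : k) (u w : Fin 4 → k) :
    D f (s • p + u) w = D f u w + s * B f p u w := by
  rw [D_add_left hf, D_smul_left hf, D_p f p hsing, T_smul_left hf]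
  unfold B
  ring

/-- the linear functional `z ↦ D f x z` -/
noncomputable def Dlin (x : Fin 4 → k) : (Fin 4 → k) →ₗ[k] k where
  toFun z := D f x z
  map_add' := D_add_right f x
  map_smul' c z := by simp [D_smul_right]

theorem Dlin_single (x : Fin 4 → k) (i : Fin 4) :
    Dlin f x (Pi.single i 1) = eval x (pderiv i f) := by
  simp [Dlin, D, Pi.single_apply]

/-- the linear functional `z ↦ B u z` -/
noncomputable def Blin (u : Fin 4 → k) : (Fin 4 → k) →ₗ[k] k where
  toFun z := B f p u z
  map_add' := B_add_right f p u
  map_smul' c z := by simp [B_smul_right]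

variable (hord : (Matrix.of fun i j : Fin 4 =>
      eval p (pderiv i (pderiv j f))).rank = 3)

include hf hp hsing hord in
/-- the radical of `B` is the line spanned by `p`. -/
theorem radical (u : Fin 4 → k) (hu : ∀ w, B f p u w = 0) : u ∈ Submodule.span k {p} := by
  set H : Matrix (Fin 4) (Fin 4) k := Matrix.of fun i j : Fin 4 =>
      eval p (pderiv i (pderiv j f)) with hH
  have hB : ∀ (i : Fin 4) (z : Fin 4 → k), (H.mulVecLin z) i = B f p (Pi.single i 1) z := by
    intro i z
    simp [B, T, H, Matrix.mulVec, dotProduct, Pi.single_apply]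
    exact Finset.sum_congr rfl fun _ _ => mul_comm _ _
  have hker : finrank k (LinearMap.ker H.mulVecLin) = 1 := by
    have h1 := LinearMap.finrank_range_add_finrank_ker H.mulVecLin
    have h2 : finrank k (LinearMap.range H.mulVecLin) = 3 := hord
    rw [h2] at h1
    simp at h1
    omega
  have hpk : p ∈ LinearMap.ker H.mulVecLin := by
    rw [LinearMap.mem_ker]
    ext i
    rw [hB, B_p_right f hf p hsing]; rfl
  have huk : u ∈ LinearMap.ker H.mulVecLin := by
    rw [LinearMap.mem_ker]
    ext i
    rw [hB, B_symm f hf, hu]; rfl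
  have hp' : (⟨p, hpk⟩ : LinearMap.ker H.mulVecLin) ≠ 0 := by
    intro h
    exact hp (congrArg Subtype.val h)
  obtain ⟨c, hc⟩ := (finrank_eq_one_iff_of_nonzero' _ hp').mp hker ⟨u, huk⟩
  rw [Submodule.mem_span_singleton]
  exact ⟨c, congrArg Subtype.val hc⟩

variable (hsm : ∀ v : Fin 4 → k, v ∉ Submodule.span k {p} → eval v f = 0 →
      ∃ i : Fin 4, eval v (pderiv i f) ≠ 0)

include hf hp hsing hord hsm in
/-- **Smoothness lemma**: there is no point `u` of the cone `Q = F = 0` outside `p` with a
direction `u'` (independent of `p, u`) along which both `B u ·` and `D f u ·` vanish. -/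
theorem smooth_lemma (u u' : Fin 4 → k) (hu : u ∉ Submodule.span k {p})
    (hu' : u' ∉ Submodule.span k {p, u}) (hQ : Q f p u = 0) (hF : eval u f = 0)
    (hB : B f p u u' = 0) (hD : D f u u' = 0) : False := by
  obtain ⟨w, hw⟩ : ∃ w, B f p u w ≠ 0 := by
    by_contra hcon
    push Not at hcon
    exact hu (radical f hf p hp hsing hord u hcon)
  set lam : k := D f u w / B f p u w with hlam
  set x : Fin 4 → k := (-lam) • p + u with hx
  have hφ : ∀ z, Dlin f x z = D f u z + (-lam) * B f p u z := fun z => D_add_p f hf p hsing _ _ _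
  -- `w` is independent of `p, u, u'`
  have hw' : w ∉ Submodule.span k {p, u, u'} := by
    intro hmem
    have hle : Submodule.span k {p, u, u'} ≤ LinearMap.ker (Blin f p u) := by
      rw [Submodule.span_le]
      intro z hz
      simp only [Set.mem_insert_iff, Set.mem_singleton_iff] at hz
      show B f p u z = 0
      rcases hz with h | h | h <;> rw [h]
      · exact B_p_right f hf p hsing u
      · rw [B_self f hf, hQ, mul_zero]
      · exact hB
    exact hw (hle hmem)
  have htop := span_four_eq_top (k := k) (by simp) hp hu hu' hw'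
  have hker : LinearMap.ker (Dlin f x) = ⊤ := by
    rw [eq_top_iff, ← htop, Submodule.span_le]
    intro z hz
    simp only [Set.mem_insert_iff, Set.mem_singleton_iff] at hz
    show Dlin f x z = 0
    rw [hφ]
    rcases hz with h | h | h | h <;> rw [h]
    · rw [B_p_right f hf p hsing]
      show Q f p u + _ = 0
      rw [hQ]; ring
    · rw [D_self hf, hF, B_self f hf, hQ]; ring
    · rw [hD, hB]; ring
    · rw [hlam]
      field_simp
      ring
  have hx1 : x ∉ Submodule.span k {p} := by
    intro hmem
    apply hu
    have : u = x + lam • p := by rw [hx]; simp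
    rw [this]
    exact Submodule.add_mem _ hmem (Submodule.smul_mem _ _ (Submodule.mem_span_singleton_self p))
  have hx2 : eval x f = 0 := by
    rw [hx, F_add_p f hf p hsing, hQ, hF]; ring
  obtain ⟨i, hi⟩ := hsm x hx1 hx2
  apply hi
  rw [← Dlin_single]
  have : Pi.single i (1 : k) ∈ LinearMap.ker (Dlin f x) := by rw [hker]; trivial
  exact this

end setting

end Groth.Agent.Lib.H6xNodalCubic
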