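import Groth.Agent.Lib.H6xNodalCubicA

set_option autoImplicit false

/-! Nodal cubic surfaces: normal form of the tangent cone, parametrisation of the conic, and the
six lines through the node. -/

namespace Groth.Agent.Lib.H6xNodalCubic

open MvPolynomial Groth.Agent.Lib.H6xCubicForm Module

section cubic3

variable {σ : Type*} [Fintype σ] [DecidableEq σ] {R : Type*} [CommRing R]
  {f : MvPolynomial σ R} (hf : f.IsHomogeneous 3)

include hf in
theorem eval_three (x y z : σ → R) :
    eval (x + y + z) f = eval x f + eval y f + eval z f + D f x y + D f x z + D f y x + D f y z +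
      D f z x + D f z y + T f x y z := by
  rw [add_assoc, eval_add hf, D_add_right, D_add_left hf, eval_add hf, T_symm23 hf y z x,
    T_symm12 hf y x z]
  ring

include hf in
theorem D_three (x y z w : σ → R) :
    D f (x + y + z) w = D f x w + D f y w + D f z w + T f x y w + T f x z w + T f y z w := by
  rw [D_add_left hf, D_add_left hf, T_add_left hf]
  ring

end cubic3

theorem exists_not_mem_span3 {k V : Type*} [Field k] [AddCommGroup V] [Module k V]
    [FiniteDimensional k V] (h4 : finrank k V = 4) (a b c : V) :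
    ∃ x, x ∉ Submodule.span k {a, b, c} := by
  classical
  by_contra hcon
  push Not at hcon
  have htop : Submodule.span k ({a, b, c} : Set V) = ⊤ := by
    rw [eq_top_iff]; intro x _; exact hcon x
  have h1 := finrank_span_finset_le_card (R := k) ({a, b, c} : Finset V)
  have h2 : ((({a, b, c} : Finset V) : Set V)) = {a, b, c} := by simp
  rw [Set.finrank, h2, htop, finrank_top, h4] at h1
  have h3 := Finset.card_le_three (a := a) (b := b) (c := c)
  omega

theorem exists_six_roots {k : Type*} [Field k] [IsAlgClosed k] (g : Polynomial k)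
    (hdeg : g.natDegree = 6)
    (hsimple : ∀ a, g.eval a = 0 → g.derivative.eval a ≠ 0) :
    ∃ a : Fin 6 → k, Function.Injective a ∧ ∀ x, g.eval x = 0 ↔ ∃ i, a i = x := by
  classical
  have hg0 : g ≠ 0 := by rintro rfl; simp at hdeg
  have hcard : g.roots.card = 6 := by
    rw [← (IsAlgClosed.splits g).natDegree_eq_card_roots, hdeg]
  have hnodup : g.roots.Nodup := by
    rw [Multiset.nodup_iff_count_le_one]
    intro x
    rw [Polynomial.count_roots]
    by_contra hcon
    push Not at hcon
    obtain ⟨h1, h2⟩ := (Polynomial.one_lt_rootMultiplicity_iff_isRoot hg0).mp hcon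
    exact hsimple x h1 h2
  have hfin : g.roots.toFinset.card = 6 := by
    rw [Multiset.toFinset_card_of_nodup hnodup, hcard]
  let e := g.roots.toFinset.equivFinOfCardEq hfin
  refine ⟨fun i => (e.symm i : k), ?_, ?_⟩
  · intro i j hij
    exact e.symm.injective (Subtype.ext hij)
  · intro x
    constructor
    · intro hx
      have hmem : x ∈ g.roots.toFinset := by
        rw [Multiset.mem_toFinset, Polynomial.mem_roots hg0]
        exact hx
      exact ⟨e ⟨x, hmem⟩, by simp⟩
    · rintro ⟨i, rfl⟩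
      have hmem := (e.symm i).2
      rw [Multiset.mem_toFinset, Polynomial.mem_roots hg0] at hmem
      exact hmem

section setting

variable {k : Type*} [Field k] [CharZero k]
  (f : MvPolynomial (Fin 4) k) (hf : f.IsHomogeneous 3) (p : Fin 4 → k) (hp : p ≠ 0)
  (hsing : ∀ i : Fin 4, eval p (pderiv i f) = 0)

/-- normal form data for the tangent cone: `Q(x₀e₀+x₁e₁+x₂e₂+x₃p) = x₀x₂ - x₁²`. -/
structure NF (e0 e1 e2 : Fin 4 → k) : Prop where
  q0 : Q f p e0 = 0
  q1 : Q f p e1 = -1
  q2 : Q f p e2 = 0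
  b01 : B f p e0 e1 = 0
  b02 : B f p e0 e2 = 1
  b12 : B f p e1 e2 = 0
  decomp : ∀ u : Fin 4 → k, ∃ x0 x1 x2 x3 : k, u = x0 • e0 + x1 • e1 + x2 • e2 + x3 • p

variable {e0 e1 e2 : Fin 4 → k}

include hf hsing in
theorem NF.Q_comb (h : NF f p e0 e1 e2) (x0 x1 x2 x3 : k) :
    Q f p (x0 • e0 + x1 • e1 + x2 • e2 + x3 • p) = x0 * x2 - x1 ^ 2 := by
  rw [add_comm _ (x3 • p), Q_add_p f hf p hsing]
  simp only [Q_add f hf, Q_smul f hf, h.q0, h.q1, h.q2, B_add_left, B_smul_left,
    B_smul_right, h.b01, h.b02, h.b12]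
  ring

/-- the affine chart of the parametrisation of the conic -/
def gam (e0 e1 e2 : Fin 4 → k) (a : k) : Fin 4 → k := a ^ 2 • e0 + a • e1 + e2

/-- the tangent direction of the parametrisation -/
def gam' (e0 e1 : Fin 4 → k) (a : k) : Fin 4 → k := (2 * a) • e0 + e1

include hf hsing in
theorem NF.Q_gam (h : NF f p e0 e1 e2) (a : k) : Q f p (gam e0 e1 e2 a) = 0 := by
  have := h.Q_comb f hf p hsing (a ^ 2) a 1 0
  simp only [one_smul, zero_smul, add_zero] at this
  rw [gam, this]; ring

include hf hsing in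
theorem NF.Q_gam' (h : NF f p e0 e1 e2) (a : k) : Q f p (gam' e0 e1 a) = -1 := by
  have := h.Q_comb f hf p hsing (2 * a) 1 0 0
  simp only [one_smul, zero_smul, add_zero] at this
  rw [gam', this]; ring

include hf in
theorem NF.B_gam (h : NF f p e0 e1 e2) (a b : k) :
    B f p (gam e0 e1 e2 a) (gam e0 e1 e2 b) = (a - b) ^ 2 := by
  have h00 : B f p e0 e0 = 0 := by rw [B_self f hf, h.q0, mul_zero]
  have h11 : B f p e1 e1 = -2 := by rw [B_self f hf, h.q1]; ring
  have h22 : B f p e2 e2 = 0 := by rw [B_self f hf, h.q2, mul_zero]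
  have h10 : B f p e1 e0 = 0 := by rw [B_symm f hf, h.b01]
  have h20 : B f p e2 e0 = 1 := by rw [B_symm f hf, h.b02]
  have h21 : B f p e2 e1 = 0 := by rw [B_symm f hf, h.b12]
  simp only [gam, B_add_left, B_add_right, B_smul_left, B_smul_right, h00, h11, h22, h10, h20,
    h21, h.b01, h.b02, h.b12]
  ring

include hf in
theorem NF.B_gam_gam' (h : NF f p e0 e1 e2) (a : k) :
    B f p (gam e0 e1 e2 a) (gam' e0 e1 a) = 0 := by
  have h00 : B f p e0 e0 = 0 := by rw [B_self f hf, h.q0, mul_zero]
  have h11 : B f p e1 e1 = -2 := by rw [B_self f hf, h.q1]; ring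
  have h10 : B f p e1 e0 = 0 := by rw [B_symm f hf, h.b01]
  have h20 : B f p e2 e0 = 1 := by rw [B_symm f hf, h.b02]
  have h21 : B f p e2 e1 = 0 := by rw [B_symm f hf, h.b12]
  simp only [gam, gam', B_add_left, B_add_right, B_smul_left, B_smul_right, h00, h11, h10, h20,
    h21, h.b01]
  ring

/-- the sextic `F(γ(a))` as a polynomial in `a` -/
noncomputable def gpoly (e0 e1 e2 : Fin 4 → k) : Polynomial k :=
  Polynomial.C (eval e0 f) * Polynomial.X ^ 6 + Polynomial.C (D f e0 e1) * Polynomial.X ^ 5 +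
    Polynomial.C (D f e0 e2 + D f e1 e0) * Polynomial.X ^ 4 +
    Polynomial.C (T f e0 e1 e2 + eval e1 f) * Polynomial.X ^ 3 +
    Polynomial.C (D f e2 e0 + D f e1 e2) * Polynomial.X ^ 2 +
    Polynomial.C (D f e2 e1) * Polynomial.X + Polynomial.C (eval e2 f)

include hf in
theorem eval_gpoly (e0 e1 e2 : Fin 4 → k) (a : k) :
    Polynomial.eval a (gpoly f e0 e1 e2) = eval (gam e0 e1 e2 a) f := by
  rw [gam, eval_three hf]
  simp only [eval_smul hf, D_smul_left hf, D_smul_right, T_smul_left hf, T_smul_mid, gpoly]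
  simp
  ring

include hf in
theorem eval_derivative_gpoly (e0 e1 e2 : Fin 4 → k) (a : k) :
    Polynomial.eval a (Polynomial.derivative (gpoly f e0 e1 e2)) =
      D f (gam e0 e1 e2 a) (gam' e0 e1 a) := by
  have t1 : T f e0 e1 e0 = 2 * D f e0 e1 := T_self'' hf _ _
  have t2 : T f e0 e2 e0 = 2 * D f e0 e2 := T_self'' hf _ _
  have t3 : T f e1 e2 e0 = T f e0 e1 e2 := by rw [T_symm23 hf, T_symm12 hf]
  have t4 : T f e0 e1 e1 = 2 * D f e1 e0 := T_self' hf _ _
  have t5 : T f e0 e2 e1 = T f e0 e1 e2 := T_symm23 hf _ _ _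
  have t6 : T f e1 e2 e1 = 2 * D f e1 e2 := T_self'' hf _ _
  rw [gam, gam', D_add_right, D_smul_right, D_three hf, D_three hf]
  simp only [D_smul_left hf, T_smul_left hf, T_smul_mid, D_self hf, t1, t2, t3, t4, t5, t6, gpoly]
  simp
  ring

include hf hsing in
theorem NF.gam_not_mem (h : NF f p e0 e1 e2) (a : k) :
    gam e0 e1 e2 a ∉ Submodule.span k {p} := by
  intro hmem
  obtain ⟨c, hc⟩ := Submodule.mem_span_singleton.mp hmem
  have h1 := h.B_gam f hf p a (a + 1)
  rw [← hc, B_smul_left, B_p_left f hf p hsing] at h1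
  have : (a - (a + 1)) ^ 2 = (1 : k) := by ring
  rw [this] at h1
  simp at h1

include hf hsing in
theorem NF.gam'_not_mem (h : NF f p e0 e1 e2) (a : k) :
    gam' e0 e1 a ∉ Submodule.span k {p, gam e0 e1 e2 a} := by
  intro hmem
  obtain ⟨s, t, hst⟩ := Submodule.mem_span_pair.mp hmem
  have h1 := h.Q_gam' f hf p hsing a
  rw [← hst, Q_add_p f hf p hsing, Q_smul f hf, h.Q_gam f hf p hsing] at h1
  simp at h1

variable (hord : (Matrix.of fun i j : Fin 4 =>
      eval p (pderiv i (pderiv j f))).rank = 3)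
  (hsm : ∀ v : Fin 4 → k, v ∉ Submodule.span k {p} → eval v f = 0 →
      ∃ i : Fin 4, eval v (pderiv i f) ≠ 0)

include hf hp hsing hord hsm in
theorem NF.derivative_ne_zero (h : NF f p e0 e1 e2) (a : k)
    (ha : Polynomial.eval a (gpoly f e0 e1 e2) = 0) :
    Polynomial.eval a (Polynomial.derivative (gpoly f e0 e1 e2)) ≠ 0 := by
  intro hd
  rw [eval_gpoly f hf] at ha
  rw [eval_derivative_gpoly f hf] at hd
  exact smooth_lemma f hf p hp hsing hord hsm (gam e0 e1 e2 a) (gam' e0 e1 a)
    (h.gam_not_mem f hf p hsing a) (h.gam'_not_mem f hf p hsing a) (h.Q_gam f hf p hsing a) ha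
    (h.B_gam_gam' f hf p a) hd

include hf hp hsing hord hsm in
theorem NF.gpoly_ne_zero (h : NF f p e0 e1 e2) : gpoly f e0 e1 e2 ≠ 0 := by
  intro h0
  have := h.derivative_ne_zero f hf p hp hsing hord hsm 0 (by rw [h0]; simp)
  rw [h0] at this
  simp at this

variable [IsAlgClosed k]

include hf in
theorem exists_isotropic : ∃ e0 : Fin 4 → k, e0 ∉ Submodule.span k {p} ∧ Q f p e0 = 0 := by
  obtain ⟨u, hu⟩ := exists_not_mem_span3 (k := k) (V := Fin 4 → k) (by simp) p p p
  obtain ⟨w, hw⟩ := exists_not_mem_span3 (k := k) (V := Fin 4 → k) (by simp) p u u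
  have hu1 : u ∉ Submodule.span k {p} := by simpa using hu
  have hw1 : w ∉ Submodule.span k {p, u} := by simpa using hw
  by_cases hQw : Q f p w = 0
  · refine ⟨w, fun hmem => hw1 ?_, hQw⟩
    exact Submodule.span_mono (by simp) hmem
  · let P : Polynomial k := Polynomial.C (Q f p w) * Polynomial.X ^ 2 +
      Polynomial.C (B f p u w) * Polynomial.X + Polynomial.C (Q f p u)
    have hdeg : P.degree = 2 := by
      simp only [P]
      compute_degree!
    obtain ⟨x, hx⟩ := IsAlgClosed.exists_root P (by rw [hdeg]; norm_num)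
    refine ⟨u + x • w, ?_, ?_⟩
    · intro hmem
      obtain ⟨c, hc⟩ := Submodule.mem_span_singleton.mp hmem
      by_cases hx0 : x = 0
      · subst hx0
        simp only [zero_smul, add_zero] at hc
        exact hu1 (Submodule.mem_span_singleton.mpr ⟨c, hc⟩)
      · apply hw1
        have : w = (x⁻¹ * c) • p + (-x⁻¹) • u := by
          have h1 : x • w = c • p - u := by rw [hc]; abel
          calc w = x⁻¹ • (x • w) := by rw [smul_smul, inv_mul_cancel₀ hx0, one_smul]
            _ = _ := by rw [h1, smul_sub, smul_smul, neg_smul, sub_eq_add_neg]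
        rw [this]
        exact Submodule.add_mem _
          (Submodule.smul_mem _ _ (Submodule.subset_span (by simp)))
          (Submodule.smul_mem _ _ (Submodule.subset_span (by simp)))
    · rw [Q_add f hf, Q_smul f hf, B_smul_right]
      have : Polynomial.eval x P = 0 := hx
      simp only [P] at this
      simp at this
      linear_combination this

include hf hp hsing hord in
theorem exists_NF (e0 : Fin 4 → k) (h0 : e0 ∉ Submodule.span k {p}) (hq0 : Q f p e0 = 0) :
    ∃ e1 e2, NF f p e0 e1 e2 := by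
  obtain ⟨w0, hw0⟩ : ∃ w, B f p e0 w ≠ 0 := by
    by_contra hcon
    push Not at hcon
    exact h0 (radical f hf p hp hsing hord e0 hcon)
  have hb00 : B f p e0 e0 = 0 := by rw [B_self f hf, hq0, mul_zero]
  obtain ⟨e2', hb02'⟩ : ∃ e2', B f p e0 e2' = 1 :=
    ⟨(B f p e0 w0)⁻¹ • w0, by rw [B_smul_right, inv_mul_cancel₀ hw0]⟩
  obtain ⟨e2, hb02, hq2⟩ : ∃ e2, B f p e0 e2 = 1 ∧ Q f p e2 = 0 := by
    refine ⟨e2' + (-(Q f p e2')) • e0, ?_, ?_⟩
    · rw [B_add_right, B_smul_right, hb00, hb02']; ring
    · rw [Q_add f hf, Q_smul f hf, hq0, B_smul_right, B_symm f hf p e2' e0, hb02']; ring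
  have he2 : e2 ∉ Submodule.span k {p, e0} := by
    intro hmem
    have hle : Submodule.span k {p, e0} ≤ LinearMap.ker (Blin f p e0) := by
      rw [Submodule.span_le]
      intro z hz
      simp only [Set.mem_insert_iff, Set.mem_singleton_iff] at hz
      show B f p e0 z = 0
      rcases hz with h | h <;> rw [h]
      · exact B_p_right f hf p hsing e0
      · exact hb00
    have : B f p e0 e2 = 0 := hle hmem
    rw [hb02] at this
    exact one_ne_zero this
  obtain ⟨e1', he1'⟩ := exists_not_mem_span3 (k := k) (V := Fin 4 → k) (by simp) p e0 e2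
  obtain ⟨e1'', he1'', hb10, hb12⟩ : ∃ e1'', e1'' ∉ Submodule.span k {p, e0, e2} ∧
      B f p e1'' e0 = 0 ∧ B f p e1'' e2 = 0 := by
    have hcorr : (-(B f p e1' e2)) • e0 + (-(B f p e1' e0)) • e2 ∈
        Submodule.span k {p, e0, e2} :=
      Submodule.add_mem _ (Submodule.smul_mem _ _ (Submodule.subset_span (by simp)))
        (Submodule.smul_mem _ _ (Submodule.subset_span (by simp)))
    refine ⟨e1' + ((-(B f p e1' e2)) • e0 + (-(B f p e1' e0)) • e2), ?_, ?_, ?_⟩
    · intro hmem
      apply he1'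
      have : e1' = (e1' + ((-(B f p e1' e2)) • e0 + (-(B f p e1' e0)) • e2)) -
          ((-(B f p e1' e2)) • e0 + (-(B f p e1' e0)) • e2) := by abel
      rw [this]
      exact Submodule.sub_mem _ hmem hcorr
    · rw [B_add_left, B_add_left, B_smul_left, B_smul_left, hb00, B_symm f hf p e2 e0, hb02]
      ring
    · rw [B_add_left, B_add_left, B_smul_left, B_smul_left, hb02, B_self f hf p e2, hq2]
      ring
  have hq1 : Q f p e1'' ≠ 0 := by
    intro hq
    apply he1''
    have htop := span_four_eq_top (k := k) (by simp) hp h0 he2 he1''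
    have hker : LinearMap.ker (Blin f p e1'') = ⊤ := by
      rw [eq_top_iff, ← htop, Submodule.span_le]
      intro z hz
      simp only [Set.mem_insert_iff, Set.mem_singleton_iff] at hz
      show B f p e1'' z = 0
      rcases hz with h | h | h | h <;> rw [h]
      · exact B_p_right f hf p hsing _
      · exact hb10
      · exact hb12
      · rw [B_self f hf, hq, mul_zero]
    have hrad : ∀ w, B f p e1'' w = 0 := by
      intro w
      have hw : w ∈ LinearMap.ker (Blin f p e1'') := by rw [hker]; trivial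
      exact hw
    exact Submodule.span_mono (by simp) (radical f hf p hp hsing hord e1'' hrad)
  obtain ⟨c, hc⟩ := IsAlgClosed.exists_pow_nat_eq (-(Q f p e1'')⁻¹) (n := 2) (by norm_num)
  have hc0 : c ≠ 0 := by
    rintro rfl
    have h := hc
    simp at h
    exact hq1 h
  have he1 : c • e1'' ∉ Submodule.span k {p, e0, e2} := by
    intro hmem
    apply he1''
    have : e1'' = c⁻¹ • (c • e1'') := by rw [smul_smul, inv_mul_cancel₀ hc0, one_smul]
    rw [this]
    exact Submodule.smul_mem _ _ hmem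
  refine ⟨c • e1'', e2, ⟨hq0, ?_, hq2, ?_, hb02, ?_, ?_⟩⟩
  · rw [Q_smul f hf, hc]
    field_simp
  · rw [B_smul_right, B_symm f hf p e0 e1'', hb10, mul_zero]
  · rw [B_smul_left, hb12, mul_zero]
  · have htop := span_four_eq_top (k := k) (by simp) hp h0 he2 he1
    intro u
    have hu : u ∈ Submodule.span k {p, e0, e2, c • e1''} := by rw [htop]; trivial
    obtain ⟨a, z, hz, rfl⟩ := Submodule.mem_span_insert.mp hu
    obtain ⟨b, c', d, rfl⟩ := Submodule.mem_span_triple.mp hz
    exact ⟨b, d, c', a, by abel⟩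

variable (hsm : ∀ v : Fin 4 → k, v ∉ Submodule.span k {p} → eval v f = 0 →
      ∃ i : Fin 4, eval v (pderiv i f) ≠ 0)

include hf hp hsing hord hsm in
theorem exists_good_NF : ∃ e0 e1 e2, NF f p e0 e1 e2 ∧ eval e0 f ≠ 0 := by
  obtain ⟨a0, ha0, hqa0⟩ := exists_isotropic f hf p
  obtain ⟨a1, a2, hNF⟩ := exists_NF f hf p hp hsing hord a0 ha0 hqa0
  have hg := hNF.gpoly_ne_zero f hf p hp hsing hord hsm
  obtain ⟨a, ha⟩ : ∃ a, Polynomial.eval a (gpoly f a0 a1 a2) ≠ 0 := by
    by_contra hcon
    push Not at hcon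
    exact hg (Polynomial.funext (by intro x; simp [hcon x]))
  rw [eval_gpoly f hf] at ha
  obtain ⟨e1, e2, h⟩ := exists_NF f hf p hp hsing hord (gam a0 a1 a2 a)
    (hNF.gam_not_mem f hf p hsing a) (hNF.Q_gam f hf p hsing a)
  exact ⟨_, e1, e2, h, ha⟩

include hf hp hsing hord hsm in
/-- the six lines through the node: six isotropic vectors `v i` on the cubic, pairwise
non-orthogonal, exhausting the cone `Q = F = 0`. -/
theorem exists_six : ∃ v : Fin 6 → (Fin 4 → k),
    (∀ i, Q f p (v i) = 0 ∧ eval (v i) f = 0) ∧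
    (∀ i j, i ≠ j → B f p (v i) (v j) ≠ 0) ∧
    (∀ u, u ∉ Submodule.span k {p} → Q f p u = 0 → eval u f = 0 →
      ∃ i, u ∈ Submodule.span k {p, v i}) := by
  obtain ⟨e0, e1, e2, h, hF0⟩ := exists_good_NF f hf p hp hsing hord hsm
  have hdeg : (gpoly f e0 e1 e2).natDegree = 6 := by
    unfold gpoly
    compute_degree!
  obtain ⟨a, hainj, ha⟩ := exists_six_roots (gpoly f e0 e1 e2) hdeg
    (h.derivative_ne_zero f hf p hp hsing hord hsm)
  refine ⟨fun i => gam e0 e1 e2 (a i), ?_, ?_, ?_⟩
  · intro i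
    refine ⟨h.Q_gam f hf p hsing _, ?_⟩
    rw [← eval_gpoly f hf, ha]
    exact ⟨i, rfl⟩
  · intro i j hij
    rw [h.B_gam f hf p]
    exact pow_ne_zero 2 (sub_ne_zero.mpr fun hh => hij (hainj hh))
  · intro u hu hQ hF
    obtain ⟨x0, x1, x2, x3, rfl⟩ := h.decomp u
    rw [h.Q_comb f hf p hsing] at hQ
    by_cases hx2 : x2 = 0
    · subst hx2
      have hx1 : x1 = 0 := by
        have : x1 ^ 2 = 0 := by linear_combination -hQ
        exact pow_eq_zero_iff (two_ne_zero) |>.mp this
      subst hx1
      exfalso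
      have h1 : x0 • e0 + (0 : k) • e1 + (0 : k) • e2 + x3 • p = x3 • p + x0 • e0 := by
        simp [add_comm]
      rw [h1, F_add_p f hf p hsing, Q_smul f hf, h.q0, eval_smul hf] at hF
      have hx0 : x0 = 0 := by
        have : x0 ^ 3 * eval e0 f = 0 := by linear_combination hF
        rcases mul_eq_zero.mp this with h2 | h2
        · exact pow_eq_zero_iff (by norm_num) |>.mp h2
        · exact absurd h2 hF0
      subst hx0
      apply hu
      rw [h1]
      simp only [zero_smul, add_zero]
      exact Submodule.smul_mem _ _ (Submodule.mem_span_singleton_self p)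
    · have hrep : x0 • e0 + x1 • e1 + x2 • e2 + x3 • p =
          x3 • p + x2 • gam e0 e1 e2 (x1 / x2) := by
        have hx0 : x0 = x2 * (x1 / x2) ^ 2 := by
          field_simp
          linear_combination hQ
        have hx1 : x1 = x2 * (x1 / x2) := by field_simp
        rw [gam, smul_add, smul_add, smul_smul, smul_smul, ← hx0, ← hx1]
        abel
      rw [hrep, F_add_p f hf p hsing, Q_smul f hf, h.Q_gam f hf p hsing, eval_smul hf] at hF
      have hroot : eval (gam e0 e1 e2 (x1 / x2)) f = 0 := by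
        have : x2 ^ 3 * eval (gam e0 e1 e2 (x1 / x2)) f = 0 := by linear_combination hF
        rcases mul_eq_zero.mp this with h2 | h2
        · exact absurd (pow_eq_zero_iff (by norm_num) |>.mp h2) hx2
        · exact h2
      rw [← eval_gpoly f hf, ha] at hroot
      obtain ⟨i, hi⟩ := hroot
      refine ⟨i, ?_⟩
      rw [hrep]
      show _ ∈ Submodule.span k {p, gam e0 e1 e2 (a i)}
      rw [hi]
      exact Submodule.add_mem _ (Submodule.smul_mem _ _ (Submodule.subset_span (by simp)))
        (Submodule.smul_mem _ _ (Submodule.subset_span (by simp)))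

end setting

end Groth.Agent.Lib.H6xNodalCubic
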