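import Groth.Agent.Lib.H6xNodalCubicB

set_option autoImplicit false

/-! Nodal cubic surfaces: counting the 21 lines. -/

namespace Groth.Agent.Lib.H6xNodalCubic

open MvPolynomial Groth.Agent.Lib.H6xCubicForm Module

section linalg

variable {k V : Type*} [Field k] [AddCommGroup V] [Module k V]

theorem finrank_span_pair_eq_two {a b : V} (ha : a ≠ 0) (hb : b ∉ Submodule.span k {a}) :
    finrank k (Submodule.span k {a, b}) = 2 := by
  have l1 : LinearIndependent k ![a] := LinearIndependent.of_subsingleton 0 (by simpa using ha)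
  have l2 : LinearIndependent k ![b, a] := by
    refine LinearIndependent.finCons l1 ?_
    simpa [Matrix.range_cons] using hb
  have h := finrank_span_eq_card l2
  have : Set.range ![b, a] = {a, b} := by
    ext z; simp [Matrix.range_cons]
  rw [this] at h
  simpa using h

variable [FiniteDimensional k V]

/-- complete a nonzero vector of a 2-dimensional subspace to a spanning pair. -/
theorem exists_span_pair (U : Submodule k V) (hU : finrank k U = 2) (u1 : V) (h1 : u1 ∈ U)
    (h10 : u1 ≠ 0) : ∃ u2 ∈ U, u2 ∉ Submodule.span k {u1} ∧ U = Submodule.span k {u1, u2} := by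
  obtain ⟨u2, hu2, hu2'⟩ : ∃ u2 ∈ U, u2 ∉ Submodule.span k {u1} := by
    by_contra hcon
    push Not at hcon
    have hle : U ≤ Submodule.span k {u1} := fun x hx => hcon x hx
    have := Submodule.finrank_mono hle
    rw [hU, finrank_span_singleton h10] at this
    omega
  refine ⟨u2, hu2, hu2', ?_⟩
  have hle : Submodule.span k {u1, u2} ≤ U := by
    rw [Submodule.span_le]
    intro z hz
    simp only [Set.mem_insert_iff, Set.mem_singleton_iff] at hz
    rcases hz with h | h <;> rw [h] <;> assumption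
  exact (Submodule.eq_of_le_of_finrank_eq hle
    (by rw [finrank_span_pair_eq_two h10 hu2', hU])).symm

theorem exists_mem_ne_zero_of_finrank_two (U : Submodule k V) (hU : finrank k U = 2) :
    ∃ u ∈ U, u ≠ 0 := by
  have hne : U ≠ ⊥ := by
    rintro rfl
    simp at hU
  exact Submodule.exists_mem_ne_zero_of_ne_bot hne

end linalg

section setting

variable {k : Type*} [Field k] [CharZero k]
  (f : MvPolynomial (Fin 4) k) (hf : f.IsHomogeneous 3) (p : Fin 4 → k) (hp : p ≠ 0)
  (hsing : ∀ i : Fin 4, eval p (pderiv i f) = 0)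
  (v : Fin 6 → (Fin 4 → k))
  (hv1 : ∀ i, Q f p (v i) = 0 ∧ eval (v i) f = 0)
  (hv2 : ∀ i j, i ≠ j → B f p (v i) (v j) ≠ 0)

include hf hsing hv2 in
theorem v_not_mem (i : Fin 6) : v i ∉ Submodule.span k {p} := by
  intro hmem
  obtain ⟨c, hc⟩ := Submodule.mem_span_singleton.mp hmem
  obtain ⟨j, hj⟩ : ∃ j : Fin 6, i ≠ j := by
    by_cases h : i = 0
    · exact ⟨1, by rw [h]; decide⟩
    · exact ⟨0, h⟩
  apply hv2 i j hj
  rw [← hc, B_smul_left, B_p_left f hf p hsing, mul_zero]

include hf hsing hv1 hv2 in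
theorem v_not_mem_pair (i j : Fin 6) (hij : i ≠ j) : v i ∉ Submodule.span k {p, v j} := by
  intro hmem
  obtain ⟨s, t, hst⟩ := Submodule.mem_span_pair.mp hmem
  apply hv2 i j hij
  rw [← hst, B_add_left, B_smul_left, B_smul_left, B_p_left f hf p hsing, B_self f hf,
    (hv1 j).1]
  ring

include hf hsing hv1 in
/-- the cubic on the plane spanned by `p, v i, v j`. -/
theorem F_plane (i j : Fin 6) (s a b : k) :
    eval (s • p + (a • v i + b • v j)) f =
      a * b * (s * B f p (v i) (v j) + a * D f (v i) (v j) + b * D f (v j) (v i)) := by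
  rw [F_add_p f hf p hsing, Q_add f hf, Q_smul f hf, Q_smul f hf, (hv1 i).1, (hv1 j).1,
    B_smul_left, B_smul_right, eval_add hf, eval_smul hf, eval_smul hf, (hv1 i).2, (hv1 j).2,
    D_smul_left hf, D_smul_left hf, D_smul_right, D_smul_right]
  ring

/-- the line through the node and `v i`. -/
def Lp (i : Fin 6) : Submodule k (Fin 4 → k) := Submodule.span k {p, v i}

include hf hp hsing hv2 in
theorem finrank_Lp (i : Fin 6) : finrank k (Lp p v i) = 2 :=
  finrank_span_pair_eq_two hp (v_not_mem f hf p hsing v hv2 i)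

include hf hsing hv1 in
theorem F_Lp (i : Fin 6) (u : Fin 4 → k) (hu : u ∈ Lp p v i) : eval u f = 0 := by
  obtain ⟨s, t, rfl⟩ := Submodule.mem_span_pair.mp hu
  rw [F_add_p f hf p hsing, Q_smul f hf, eval_smul hf, (hv1 i).1, (hv1 i).2]
  ring

theorem p_mem_Lp (i : Fin 6) : p ∈ Lp p v i := Submodule.subset_span (by simp)

include hf hsing hv1 hv2 in
theorem Lp_injective : Function.Injective (Lp p v) := by
  intro i j hij
  by_contra hne
  apply v_not_mem_pair f hf p hsing v hv1 hv2 i j hne
  have : v i ∈ Lp p v i := Submodule.subset_span (by simp)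
  rw [hij] at this
  exact this

variable (hv4 : ∀ u, u ∉ Submodule.span k {p} → Q f p u = 0 → eval u f = 0 →
      ∃ i, u ∈ Submodule.span k {p, v i})

include hf hp hsing hv2 hv4 in
theorem eq_Lp_of_mem (U : Submodule k (Fin 4 → k)) (hU : finrank k U = 2) (hpU : p ∈ U)
    (hFU : ∀ u ∈ U, eval u f = 0) : ∃ i, U = Lp p v i := by
  obtain ⟨u, huU, hu, hUeq⟩ := exists_span_pair U hU p hpU hp
  have hQ : Q f p u = 0 := by
    have h1 := hFU _ (Submodule.add_mem _ (Submodule.smul_mem _ (1 : k) hpU) huU)
    rw [F_add_p f hf p hsing, hFU u huU] at h1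
    linear_combination h1
  obtain ⟨i, hi⟩ := hv4 u hu hQ (hFU u huU)
  refine ⟨i, ?_⟩
  have hle : U ≤ Lp p v i := by
    rw [hUeq, Submodule.span_le]
    intro z hz
    simp only [Set.mem_insert_iff, Set.mem_singleton_iff] at hz
    rcases hz with h | h <;> rw [h]
    · exact p_mem_Lp p v i
    · exact hi
  exact Submodule.eq_of_le_of_finrank_eq hle
    (by rw [hU, finrank_Lp f hf p hp hsing v hv2 i])

/-- the point of the third line of the plane `⟨p, v i, v j⟩` lying on `⟨p, v i⟩` -/
noncomputable def wv (i j : Fin 6) : Fin 4 → k :=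
  (-(D f (v i) (v j) / B f p (v i) (v j))) • p + v i

/-- the third line in the plane `⟨p, v i, v j⟩` -/
noncomputable def U2 (i j : Fin 6) : Submodule k (Fin 4 → k) :=
  Submodule.span k {wv f p v i j, wv f p v j i}

theorem U2_symm (i j : Fin 6) : U2 f p v i j = U2 f p v j i := by
  unfold U2
  rw [Set.pair_comm]

include hf hsing in
theorem B_wv (i j : Fin 6) (z : Fin 4 → k) : B f p (wv f p v i j) z = B f p (v i) z := by
  rw [wv, B_add_left, B_smul_left, B_p_left f hf p hsing]
  ring

include hf hsing hv1 in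
theorem Q_wv (i j : Fin 6) : Q f p (wv f p v i j) = 0 := by
  rw [wv, Q_add_p f hf p hsing, (hv1 i).1]

include hf hsing hv1 hv2 in
theorem F_comb (i j : Fin 6) (hij : i ≠ j) (a b : k) :
    eval (a • wv f p v i j + b • wv f p v j i) f = 0 := by
  have hB := hv2 i j hij
  have hBs : B f p (v j) (v i) = B f p (v i) (v j) := B_symm f hf p _ _
  have : a • wv f p v i j + b • wv f p v j i =
      (-(a * D f (v i) (v j) + b * D f (v j) (v i)) / B f p (v i) (v j)) • p +
        (a • v i + b • v j) := by
    rw [wv, wv, hBs, smul_add, smul_add, smul_smul, smul_smul]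
    have : (-(a * D f (v i) (v j) + b * D f (v j) (v i)) / B f p (v i) (v j)) =
        a * -(D f (v i) (v j) / B f p (v i) (v j)) +
          b * -(D f (v j) (v i) / B f p (v i) (v j)) := by
      field_simp
      ring
    rw [this, add_smul]
    abel
  rw [this, F_plane f hf p hsing v hv1]
  field_simp
  ring

include hf hsing hv1 hv2 in
theorem F_U2 (i j : Fin 6) (hij : i ≠ j) (u : Fin 4 → k) (hu : u ∈ U2 f p v i j) :
    eval u f = 0 := by
  obtain ⟨a, b, rfl⟩ := Submodule.mem_span_pair.mp hu
  exact F_comb f hf p hsing v hv1 hv2 i j hij a b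

include hf hsing hv1 in
/-- coordinates in `U2 i j` are read off by pairing with `v j`, `v i`. -/
theorem B_comb (i j : Fin 6) (a b : k) :
    B f p (a • wv f p v i j + b • wv f p v j i) (v j) = a * B f p (v i) (v j) ∧
      B f p (a • wv f p v i j + b • wv f p v j i) (v i) = b * B f p (v i) (v j) := by
  have hBs : B f p (v j) (v i) = B f p (v i) (v j) := B_symm f hf p _ _
  constructor
  · rw [B_add_left, B_smul_left, B_smul_left, B_wv f hf p hsing, B_wv f hf p hsing,
      B_self f hf, (hv1 j).1]
    ring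
  · rw [B_add_left, B_smul_left, B_smul_left, B_wv f hf p hsing, B_wv f hf p hsing,
      B_self f hf, (hv1 i).1, hBs]
    ring

include hf hsing hv1 hv2 in
theorem comb_eq_zero (i j : Fin 6) (hij : i ≠ j) (a b : k) (s : k)
    (h : a • wv f p v i j + b • wv f p v j i = s • p) : a = 0 ∧ b = 0 := by
  obtain ⟨h1, h2⟩ := B_comb f hf p hsing v hv1 i j a b
  rw [h, B_smul_left, B_p_left f hf p hsing, mul_zero] at h1 h2
  have hB := hv2 i j hij
  exact ⟨(mul_eq_zero.mp h1.symm).resolve_right hB, (mul_eq_zero.mp h2.symm).resolve_right hB⟩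

include hf hp hsing hv1 hv2 in
theorem p_not_mem_U2 (i j : Fin 6) (hij : i ≠ j) : p ∉ U2 f p v i j := by
  intro hmem
  obtain ⟨a, b, hab⟩ := Submodule.mem_span_pair.mp hmem
  obtain ⟨ha, hb⟩ := comb_eq_zero f hf p hsing v hv1 hv2 i j hij a b 1 (by rw [hab, one_smul])
  rw [ha, hb] at hab
  simp at hab
  exact hp hab.symm

include hf hsing hv1 hv2 in
theorem finrank_U2 (i j : Fin 6) (hij : i ≠ j) : finrank k (U2 f p v i j) = 2 := by
  apply finrank_span_pair_eq_two
  · intro h0
    have := comb_eq_zero f hf p hsing v hv1 hv2 i j hij 1 0 0 (by simp [h0])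
    exact one_ne_zero this.1
  · intro hmem
    obtain ⟨c, hc⟩ := Submodule.mem_span_singleton.mp hmem
    have := comb_eq_zero f hf p hsing v hv1 hv2 i j hij c (-1) 0 (by simp [hc])
    have h1 : (-1 : k) = 0 := this.2
    norm_num at h1

include hf hsing hv1 hv2 in
theorem mem_pair_of_wv_mem (i j m n : Fin 6) (hij : i ≠ j)
    (h : wv f p v m n ∈ U2 f p v i j) : m = i ∨ m = j := by
  obtain ⟨a, b, hab⟩ := Submodule.mem_span_pair.mp h
  have hQ : Q f p (a • wv f p v i j + b • wv f p v j i) = 0 := by
    rw [hab]; exact Q_wv f hf p hsing v hv1 m n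
  rw [Q_add f hf, Q_smul f hf, Q_smul f hf, Q_wv f hf p hsing v hv1, Q_wv f hf p hsing v hv1,
    B_smul_left, B_smul_right, B_wv f hf p hsing, B_symm f hf p, B_wv f hf p hsing] at hQ
  have hB := hv2 j i (Ne.symm hij)
  have hab0 : a * b = 0 := by
    have : a * b * B f p (v j) (v i) = 0 := by linear_combination hQ
    exact (mul_eq_zero.mp this).resolve_right hB
  by_contra hcon
  push Not at hcon
  rcases mul_eq_zero.mp hab0 with h0 | h0
  · -- `a = 0`: `v m ∈ ⟨p, v j⟩`
    apply v_not_mem_pair f hf p hsing v hv1 hv2 m j hcon.2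
    have hvm : v m = (D f (v m) (v n) / B f p (v m) (v n)) • p + wv f p v m n := by
      rw [wv, ← add_assoc, ← add_smul]; simp
    rw [hvm, ← hab, h0, zero_smul, zero_add, wv, smul_add, smul_smul, ← add_assoc, ← add_smul]
    exact Submodule.add_mem _ (Submodule.smul_mem _ _ (Submodule.subset_span (by simp)))
      (Submodule.smul_mem _ _ (Submodule.subset_span (by simp)))
  · apply v_not_mem_pair f hf p hsing v hv1 hv2 m i hcon.1
    have hvm : v m = (D f (v m) (v n) / B f p (v m) (v n)) • p + wv f p v m n := by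
      rw [wv, ← add_assoc, ← add_smul]; simp
    rw [hvm, ← hab, h0, zero_smul, add_zero, wv, smul_add, smul_smul, ← add_assoc, ← add_smul]
    exact Submodule.add_mem _ (Submodule.smul_mem _ _ (Submodule.subset_span (by simp)))
      (Submodule.smul_mem _ _ (Submodule.subset_span (by simp)))

include hf hsing hv1 hv2 in
theorem U2_injective (i j m n : Fin 6) (hij : i < j) (hmn : m < n)
    (h : U2 f p v i j = U2 f p v m n) : i = m ∧ j = n := by
  have hij' : i ≠ j := ne_of_lt hij
  have hmn' : m ≠ n := ne_of_lt hmn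
  have h1 : wv f p v m n ∈ U2 f p v i j := by
    rw [h]; exact Submodule.subset_span (by simp)
  have h2 : wv f p v n m ∈ U2 f p v i j := by
    rw [h]; exact Submodule.subset_span (by simp)
  have hm := mem_pair_of_wv_mem f hf p hsing v hv1 hv2 i j m n hij' h1
  have hn := mem_pair_of_wv_mem f hf p hsing v hv1 hv2 i j n m hij' h2
  rcases hm with rfl | rfl <;> rcases hn with rfl | rfl
  · exact absurd rfl hmn'
  · exact ⟨rfl, rfl⟩
  · exact absurd hmn (not_lt.mpr hij.le)
  · exact absurd rfl hmn'

section closed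

variable [IsAlgClosed k]

include hf in
theorem exists_isotropic_comb (u w : Fin 4 → k) :
    ∃ x y : k, (x ≠ 0 ∨ y ≠ 0) ∧ Q f p (x • u + y • w) = 0 := by
  by_cases hQw : Q f p w = 0
  · exact ⟨0, 1, Or.inr one_ne_zero, by simpa using hQw⟩
  · let P : Polynomial k := Polynomial.C (Q f p w) * Polynomial.X ^ 2 +
      Polynomial.C (B f p u w) * Polynomial.X + Polynomial.C (Q f p u)
    have hdeg : P.degree = 2 := by
      simp only [P]
      compute_degree!
    obtain ⟨y, hy⟩ := IsAlgClosed.exists_root P (by rw [hdeg]; norm_num)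
    refine ⟨1, y, Or.inl one_ne_zero, ?_⟩
    rw [one_smul, Q_add f hf, Q_smul f hf, B_smul_right]
    have : Polynomial.eval y P = 0 := hy
    simp only [P] at this
    simp at this
    linear_combination this

variable (hord : (Matrix.of fun i j : Fin 4 =>
      eval p (pderiv i (pderiv j f))).rank = 3)
  (hsm : ∀ v : Fin 4 → k, v ∉ Submodule.span k {p} → eval v f = 0 →
      ∃ i : Fin 4, eval v (pderiv i f) ≠ 0)

include hf hp hsing hv1 hv2 hv4 hord hsm in
theorem eq_U2_of_not_mem (U : Submodule k (Fin 4 → k)) (hU : finrank k U = 2) (hpU : p ∉ U)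
    (hFU : ∀ u ∈ U, eval u f = 0) : ∃ i j, i ≠ j ∧ U = U2 f p v i j := by
  obtain ⟨u1, hu1U, hu10⟩ := exists_mem_ne_zero_of_finrank_two U hU
  obtain ⟨u2, hu2U, hu2, -⟩ := exists_span_pair U hU u1 hu1U hu10
  obtain ⟨x, y, hxy, hQ⟩ := exists_isotropic_comb f hf p u1 u2
  obtain ⟨u, hudef⟩ : ∃ u, u = x • u1 + y • u2 := ⟨_, rfl⟩
  rw [← hudef] at hQ
  have huU : u ∈ U := by
    rw [hudef]
    exact Submodule.add_mem _ (Submodule.smul_mem _ _ hu1U) (Submodule.smul_mem _ _ hu2U)
  have hu0 : u ≠ 0 := by
    intro h0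
    rw [hudef] at h0
    by_cases hy : y = 0
    · subst hy
      simp only [zero_smul, add_zero, smul_eq_zero] at h0
      rcases h0 with h0 | h0
      · exact hxy.elim (fun h => h h0) (fun h => h rfl)
      · exact hu10 h0
    · apply hu2
      have : u2 = (-(y⁻¹ * x)) • u1 := by
        have h1 : y • u2 = -(x • u1) := by
          rw [eq_neg_iff_add_eq_zero, add_comm]; exact h0
        calc u2 = y⁻¹ • (y • u2) := by rw [smul_smul, inv_mul_cancel₀ hy, one_smul]
          _ = _ := by rw [h1, smul_neg, smul_smul, neg_smul]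
      rw [this]
      exact Submodule.smul_mem _ _ (Submodule.mem_span_singleton_self u1)
  have hnotp : ∀ z ∈ U, z ≠ 0 → z ∉ Submodule.span k {p} := by
    intro z hzU hz0 hmem
    obtain ⟨c, hc⟩ := Submodule.mem_span_singleton.mp hmem
    have hc0 : c ≠ 0 := by
      rintro rfl
      rw [zero_smul] at hc
      exact hz0 hc.symm
    apply hpU
    have : p = c⁻¹ • z := by rw [← hc, smul_smul, inv_mul_cancel₀ hc0, one_smul]
    rw [this]
    exact Submodule.smul_mem _ _ hzU
  have hup := hnotp u huU hu0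
  have hFu := hFU u huU
  obtain ⟨i, hi⟩ := hv4 u hup hQ hFu
  obtain ⟨α, β, hαβ⟩ := Submodule.mem_span_pair.mp hi
  have hβ : β ≠ 0 := by
    rintro rfl
    apply hup
    rw [← hαβ, zero_smul, add_zero]
    exact Submodule.smul_mem _ _ (Submodule.mem_span_singleton_self p)
  obtain ⟨u', hu'U, hu', hUeq⟩ := exists_span_pair U hU u huU hu0
  have hFu' := hFU u' hu'U
  -- `u'` is independent of `p, u`
  have hu'' : u' ∉ Submodule.span k {p, u} := by
    intro hmem
    obtain ⟨s, t, hst⟩ := Submodule.mem_span_pair.mp hmem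
    by_cases hs : s = 0
    · subst hs
      apply hu'
      rw [← hst, zero_smul, zero_add]
      exact Submodule.smul_mem _ _ (Submodule.mem_span_singleton_self u)
    · apply hpU
      have : p = s⁻¹ • (u' - t • u) := by
        rw [← hst, add_sub_cancel_right, smul_smul, inv_mul_cancel₀ hs, one_smul]
      rw [this]
      exact Submodule.smul_mem _ _ (Submodule.sub_mem _ hu'U (Submodule.smul_mem _ _ huU))
  by_cases hB : B f p u u' = 0
  · exfalso
    have hD : D f u u' = 0 := by
      have h1 := hFU _ (Submodule.add_mem _ huU hu'U)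
      have h2 := hFU _ (Submodule.add_mem _ huU (Submodule.smul_mem _ (-1 : k) hu'U))
      rw [eval_add hf, hFu, hFu'] at h1
      rw [eval_add hf, hFu, eval_smul hf, hFu', D_smul_right, D_smul_left hf] at h2
      have h3 : (2 : k) * D f u u' = 0 := by linear_combination h1 - h2
      exact (mul_eq_zero.mp h3).resolve_left two_ne_zero
    exact smooth_lemma f hf p hp hsing hord hsm u u' hup hu'' hQ hFu hB hD
  · -- a second isotropic vector
    obtain ⟨w, hwdef⟩ : ∃ w, w = u' + (-(Q f p u' / B f p u u')) • u := ⟨_, rfl⟩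
    have hwU : w ∈ U := by
      rw [hwdef]; exact Submodule.add_mem _ hu'U (Submodule.smul_mem _ _ huU)
    have hQw : Q f p w = 0 := by
      rw [hwdef, Q_add f hf, Q_smul f hf, hQ, B_smul_right, B_symm f hf p u' u]
      field_simp
      ring
    have hwu : w ∉ Submodule.span k {u} := by
      intro hmem
      apply hu'
      have : u' = w - (-(Q f p u' / B f p u u')) • u := by rw [hwdef]; abel
      rw [this]
      exact Submodule.sub_mem _ hmem
        (Submodule.smul_mem _ _ (Submodule.mem_span_singleton_self u))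
    have hw0 : w ≠ 0 := by
      rintro rfl
      exact hwu (Submodule.zero_mem _)
    have hwp := hnotp w hwU hw0
    have hFw := hFU w hwU
    obtain ⟨j, hj⟩ := hv4 w hwp hQw hFw
    obtain ⟨α', β', hαβ'⟩ := Submodule.mem_span_pair.mp hj
    have hβ' : β' ≠ 0 := by
      rintro rfl
      apply hwp
      rw [← hαβ', zero_smul, add_zero]
      exact Submodule.smul_mem _ _ (Submodule.mem_span_singleton_self p)
    have hij : i ≠ j := by
      rintro rfl
      have h1 : β' • u - β • w = (β' * α - β * α') • p := by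
        rw [← hαβ, ← hαβ', smul_add, smul_add, smul_smul, smul_smul, smul_smul, smul_smul,
          sub_smul, mul_comm β' β]
        abel
      have h2 : β' * α - β * α' = 0 := by
        by_contra hne
        apply hpU
        have : p = (β' * α - β * α')⁻¹ • (β' • u - β • w) := by
          rw [h1, smul_smul, inv_mul_cancel₀ hne, one_smul]
        rw [this]
        exact Submodule.smul_mem _ _
          (Submodule.sub_mem _ (Submodule.smul_mem _ _ huU) (Submodule.smul_mem _ _ hwU))
      rw [h2, zero_smul, sub_eq_zero] at h1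
      apply hwu
      have : w = (β⁻¹ * β') • u := by
        rw [← smul_smul, h1, smul_smul, inv_mul_cancel₀ hβ, one_smul]
      rw [this]
      exact Submodule.smul_mem _ _ (Submodule.mem_span_singleton_self u)
    have hBij := hv2 i j hij
    -- the two relations from vanishing on `u ± w`
    have hrel : ∀ y : k, (α + y * α') * B f p (v i) (v j) + β * D f (v i) (v j) +
        y * β' * D f (v j) (v i) = 0 ∨ y = 0 := by
      intro y
      have h1 := hFU _ (Submodule.add_mem _ huU (Submodule.smul_mem _ y hwU))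
      have h2 : u + y • w = (α + y * α') • p + (β • v i + (y * β') • v j) := by
        rw [← hαβ, ← hαβ', smul_add, smul_smul, smul_smul, add_smul]
        abel
      rw [h2, F_plane f hf p hsing v hv1] at h1
      rcases mul_eq_zero.mp h1 with h3 | h3
      · rcases mul_eq_zero.mp h3 with h4 | h4
        · exact absurd h4 hβ
        · rcases mul_eq_zero.mp h4 with h5 | h5
          · exact Or.inr h5
          · exact absurd h5 hβ'
      · left
        linear_combination h3
    have hr1 := (hrel 1).resolve_right one_ne_zero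
    have hr2 := (hrel (-1)).resolve_right (by norm_num)
    have hα : α * B f p (v i) (v j) + β * D f (v i) (v j) = 0 := by
      have : (2 : k) * (α * B f p (v i) (v j) + β * D f (v i) (v j)) = 0 := by
        linear_combination hr1 + hr2
      exact (mul_eq_zero.mp this).resolve_left two_ne_zero
    have hα' : α' * B f p (v i) (v j) + β' * D f (v j) (v i) = 0 := by
      have : (2 : k) * (α' * B f p (v i) (v j) + β' * D f (v j) (v i)) = 0 := by
        linear_combination hr1 - hr2
      exact (mul_eq_zero.mp this).resolve_left two_ne_zero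
    have hu_eq : u = β • wv f p v i j := by
      rw [← hαβ, wv, smul_add, smul_smul]
      congr 2
      field_simp
      linear_combination hα
    have hw_eq : w = β' • wv f p v j i := by
      rw [← hαβ', wv, smul_add, smul_smul, B_symm f hf p (v j) (v i)]
      congr 2
      field_simp
      linear_combination hα'
    refine ⟨i, j, hij, ?_⟩
    have hle : U2 f p v i j ≤ U := by
      unfold U2
      rw [Submodule.span_le]
      intro z hz
      simp only [Set.mem_insert_iff, Set.mem_singleton_iff] at hz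
      rcases hz with h | h <;> rw [h]
      · have : wv f p v i j = β⁻¹ • u := by
          rw [hu_eq, smul_smul, inv_mul_cancel₀ hβ, one_smul]
        rw [this]; exact Submodule.smul_mem _ _ huU
      · have : wv f p v j i = β'⁻¹ • w := by
          rw [hw_eq, smul_smul, inv_mul_cancel₀ hβ', one_smul]
        rw [this]; exact Submodule.smul_mem _ _ hwU
    exact (Submodule.eq_of_le_of_finrank_eq hle
      (by rw [hU, finrank_U2 f hf p hsing v hv1 hv2 i j hij])).symm

end closed

end setting

section main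

universe u

theorem main (k : Type u) [Field k] [IsAlgClosed k] [CharZero k]
    (f : MvPolynomial (Fin 4) k) (hf : f.IsHomogeneous 3) (p : Fin 4 → k) (hp : p ≠ 0)
    (hsing : ∀ i : Fin 4, MvPolynomial.eval p (MvPolynomial.pderiv i f) = 0)
    (hord : (Matrix.of fun i j : Fin 4 =>
      MvPolynomial.eval p (MvPolynomial.pderiv i (MvPolynomial.pderiv j f))).rank = 3)
    (hsm : ∀ v : Fin 4 → k, v ∉ Submodule.span k {p} → MvPolynomial.eval v f = 0 →
      ∃ i : Fin 4, MvPolynomial.eval v (MvPolynomial.pderiv i f) ≠ 0) :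
    {U : Submodule k (Fin 4 → k) | Module.finrank k ↥U = 2 ∧
      ∀ u ∈ U, MvPolynomial.eval u f = 0}.ncard = 21 ∧
      {U : Submodule k (Fin 4 → k) | p ∈ U ∧ Module.finrank k ↥U = 2 ∧
        ∀ u ∈ U, MvPolynomial.eval u f = 0}.ncard = 6 := by
  obtain ⟨v, hv1, hv2, hv4⟩ := exists_six f hf p hp hsing hord hsm
  -- lines through the node
  have hSp : {U : Submodule k (Fin 4 → k) | p ∈ U ∧ Module.finrank k ↥U = 2 ∧
        ∀ u ∈ U, MvPolynomial.eval u f = 0} = Set.range (Lp p v) := by
    ext U
    constructor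
    · rintro ⟨hpU, hU, hFU⟩
      obtain ⟨i, hi⟩ := eq_Lp_of_mem f hf p hp hsing v hv2 hv4 U hU hpU hFU
      exact ⟨i, hi.symm⟩
    · rintro ⟨i, rfl⟩
      exact ⟨p_mem_Lp p v i, finrank_Lp f hf p hp hsing v hv2 i, F_Lp f hf p hsing v hv1 i⟩
  have h6 : {U : Submodule k (Fin 4 → k) | p ∈ U ∧ Module.finrank k ↥U = 2 ∧
        ∀ u ∈ U, MvPolynomial.eval u f = 0}.ncard = 6 := by
    rw [hSp, Set.ncard_range_of_injective (Lp_injective f hf p hsing v hv1 hv2)]
    simp
  -- lines missing the node
  let g : {ij : Fin 6 × Fin 6 // ij.1 < ij.2} → Submodule k (Fin 4 → k) :=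
    fun ij => U2 f p v ij.1.1 ij.1.2
  have hSn : {U : Submodule k (Fin 4 → k) | p ∉ U ∧ Module.finrank k ↥U = 2 ∧
        ∀ u ∈ U, MvPolynomial.eval u f = 0} = Set.range g := by
    ext U
    constructor
    · rintro ⟨hpU, hU, hFU⟩
      obtain ⟨i, j, hij, hUij⟩ :=
        eq_U2_of_not_mem f hf p hp hsing v hv1 hv2 hv4 hord hsm U hU hpU hFU
      rcases lt_or_gt_of_ne hij with h | h
      · exact ⟨⟨(i, j), h⟩, hUij.symm⟩
      · exact ⟨⟨(j, i), h⟩, by rw [hUij, U2_symm]⟩
    · rintro ⟨⟨⟨i, j⟩, hij⟩, rfl⟩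
      have hij' : i ≠ j := ne_of_lt hij
      exact ⟨p_not_mem_U2 f hf p hp hsing v hv1 hv2 i j hij',
        finrank_U2 f hf p hsing v hv1 hv2 i j hij', F_U2 f hf p hsing v hv1 hv2 i j hij'⟩
  have hginj : Function.Injective g := by
    rintro ⟨⟨i, j⟩, hij⟩ ⟨⟨m, n⟩, hmn⟩ h
    obtain ⟨h1, h2⟩ := U2_injective f hf p hsing v hv1 hv2 i j m n hij hmn h
    subst h1 h2
    rfl
  have h15 : {U : Submodule k (Fin 4 → k) | p ∉ U ∧ Module.finrank k ↥U = 2 ∧
        ∀ u ∈ U, MvPolynomial.eval u f = 0}.ncard = 15 := by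
    rw [hSn, Set.ncard_range_of_injective hginj, Nat.card_eq_fintype_card]
    decide
  refine ⟨?_, h6⟩
  have hunion : {U : Submodule k (Fin 4 → k) | Module.finrank k ↥U = 2 ∧
      ∀ u ∈ U, MvPolynomial.eval u f = 0} =
      {U : Submodule k (Fin 4 → k) | p ∈ U ∧ Module.finrank k ↥U = 2 ∧
        ∀ u ∈ U, MvPolynomial.eval u f = 0} ∪
      {U : Submodule k (Fin 4 → k) | p ∉ U ∧ Module.finrank k ↥U = 2 ∧
        ∀ u ∈ U, MvPolynomial.eval u f = 0} := by
    ext U
    simp only [Set.mem_ofPred_eq, Set.mem_union]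
    tauto
  have hdisj : Disjoint {U : Submodule k (Fin 4 → k) | p ∈ U ∧ Module.finrank k ↥U = 2 ∧
        ∀ u ∈ U, MvPolynomial.eval u f = 0}
      {U : Submodule k (Fin 4 → k) | p ∉ U ∧ Module.finrank k ↥U = 2 ∧
        ∀ u ∈ U, MvPolynomial.eval u f = 0} := by
    rw [Set.disjoint_left]
    rintro U ⟨h1, -⟩ ⟨h2, -⟩
    exact h2 h1
  have hfin1 : {U : Submodule k (Fin 4 → k) | p ∈ U ∧ Module.finrank k ↥U = 2 ∧
        ∀ u ∈ U, MvPolynomial.eval u f = 0}.Finite :=
    Set.finite_of_ncard_ne_zero (by rw [h6]; norm_num)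
  have hfin2 : {U : Submodule k (Fin 4 → k) | p ∉ U ∧ Module.finrank k ↥U = 2 ∧
        ∀ u ∈ U, MvPolynomial.eval u f = 0}.Finite :=
    Set.finite_of_ncard_ne_zero (by rw [h15]; norm_num)
  rw [hunion, Set.ncard_union_eq hdisj hfin1 hfin2, h6, h15]

end main

end Groth.Agent.Lib.H6xNodalCubic
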