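import Mathlib
import Groth.Agent.Lib.H6xNpcBC
import Groth.Agent.S6935
set_option backward.isDefEq.respectTransparency.types false

/-!
# Base change of pseudo-coherent modules that are flat over the base (helper6; towards S6260)

`R → P` flat, `M` a `P`-module flat over `R` and `m`-pseudo-coherent over `P`; `R → T` arbitrary and
`P' = P ⊗_R T`.  Then `P' ⊗_P M` is `m`-pseudo-coherent over `P'`.
-/

set_option autoImplicit false
set_option linter.style.haveILetI false
set_option linter.unusedVariables false
set_option linter.unusedSectionVars false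
universe u
open CategoryTheory CategoryTheory.Limits TensorProduct
attribute [local instance] HasDerivedCategory.standard

namespace Groth.Agent.Lib.H6xNpcProd

open Groth.Agent.Lib.Helper1.PC DerivedCategory Groth.Agent.S7017

section Flat

/-- the kernel of a surjection of flat modules is flat -/
theorem flat_of_exact_left {R : Type*} [CommRing R] {K F M : Type*} [AddCommGroup K]
    [AddCommGroup F] [AddCommGroup M] [Module R K] [Module R F] [Module R M]
    (i : K →ₗ[R] F) (p : F →ₗ[R] M) (hi : Function.Injective i) (hp : Function.Surjective p)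
    (hex : Function.Exact i p) [Module.Flat R F] [Module.Flat R M] : Module.Flat R K := by
  rw [Module.Flat.iff_rTensor_injective']
  intro I
  have h1 : Function.Injective (i.lTensor I) :=
    LinearMap.lTensor_injective_of_exact_of_flat p hp i hi hex I
  have h2 : Function.Injective (I.subtype.rTensor F) :=
    Module.Flat.rTensor_preserves_injective_linearMap _ I.injective_subtype
  have h3 : (i.lTensor R) ∘ₗ (I.subtype.rTensor K) = (I.subtype.rTensor F) ∘ₗ (i.lTensor I) := by
    rw [LinearMap.lTensor_comp_rTensor, LinearMap.rTensor_comp_lTensor]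
  refine Function.Injective.of_comp (f := i.lTensor R) ?_
  rw [← LinearMap.coe_comp, h3]
  exact h2.comp h1

end Flat

section BC

variable (R P T P' : Type u) [CommRing R] [CommRing P] [CommRing T] [CommRing P']
  [Algebra R P] [Algebra R T] [Algebra P P'] [Algebra T P'] [Algebra R P']
  [IsScalarTower R P P'] [IsScalarTower R T P'] [Algebra.IsPushout R T P P']
  {M N Q : Type u} [AddCommGroup M] [Module P M] [Module R M] [IsScalarTower R P M]
  [AddCommGroup N] [Module P N] [Module R N] [IsScalarTower R P N]
  [AddCommGroup Q] [Module P Q] [Module R Q] [IsScalarTower R P Q]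

/-- naturality of `cancelBaseChange` -/
theorem cancelBaseChange_symm_natural (i : M →ₗ[P] N) (z : T ⊗[R] M) :
    (Algebra.IsPushout.cancelBaseChange R T P P' N).symm ((i.restrictScalars R).lTensor T z) =
      i.baseChange P' ((Algebra.IsPushout.cancelBaseChange R T P P' M).symm z) := by
  induction z using TensorProduct.induction_on with
  | zero => simp
  | tmul a m =>
    rw [LinearMap.lTensor_tmul, Algebra.IsPushout.cancelBaseChange_symm_tmul,
      Algebra.IsPushout.cancelBaseChange_symm_tmul, LinearMap.baseChange_tmul]
    rfl
  | add z w hz hw => rw [map_add, map_add, map_add, map_add, hz, hw]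

include T in
/-- base change along a pushout preserves injectivity when the cokernel is flat over the base -/
theorem baseChange_injective_of_exact_of_flat [Module.Flat R Q]
    (i : M →ₗ[P] N) (p : N →ₗ[P] Q) (hi : Function.Injective i) (hp : Function.Surjective p)
    (hex : Function.Exact i p) : Function.Injective (i.baseChange P') := by
  have hA : Function.Injective ((i.restrictScalars R).lTensor T) :=
    LinearMap.lTensor_injective_of_exact_of_flat (p.restrictScalars R) hp
      (i.restrictScalars R) hi hex T
  intro x y hxy
  obtain ⟨x', rfl⟩ := (Algebra.IsPushout.cancelBaseChange R T P P' M).symm.surjective x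
  obtain ⟨y', rfl⟩ := (Algebra.IsPushout.cancelBaseChange R T P P' M).symm.surjective y
  rw [← cancelBaseChange_symm_natural, ← cancelBaseChange_symm_natural] at hxy
  rw [hA ((Algebra.IsPushout.cancelBaseChange R T P P' N).symm.injective hxy)]

end BC

section Main

variable (R P T P' : Type u) [CommRing R] [CommRing P] [CommRing T] [CommRing P']
  [Algebra R P] [Algebra R T] [Algebra P P'] [Algebra T P'] [Algebra R P']
  [IsScalarTower R P P'] [IsScalarTower R T P'] [Algebra.IsPushout R T P P'] [Module.Flat R P]

include T in
theorem isPC_baseChange_aux (k : ℕ) : ∀ (M : Type u) [AddCommGroup M] [Module P M] [Module R M]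
    [IsScalarTower R P M] [Module.Flat R M],
    DRing.IsPseudoCoherentModule P (-(k : ℤ)) M →
      DRing.IsPseudoCoherentModule P' (-(k : ℤ)) (P' ⊗[P] M) := by
  induction k with
  | zero =>
    intro M _ _ _ _ _ hM
    rw [Nat.cast_zero, neg_zero] at hM ⊢
    have : Module.Finite P M := ((Groth.Agent.S6935.result P M).1).1 hM
    exact ((Groth.Agent.S6935.result P' (P' ⊗[P] M)).1).2 inferInstance
  | succ k ih =>
    intro M _ _ _ _ _ hM
    have hM0 : DRing.IsPseudoCoherentModule P 0 M :=
      isPC_mono (by push_cast; omega) hM
    have : Module.Finite P M := ((Groth.Agent.S6935.result P M).1).1 hM0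
    obtain ⟨n, π, hπ⟩ := Module.Finite.exists_fin' P M
    have hS := LinearMap.shortExact_shortComplexKer hπ
    have hT := hS.singleTriangle_distinguished
    have hFF : FF (ModuleCat.of P (Fin n → P)) :=
      ⟨inferInstanceAs (Module.Finite P (Fin n → P)),
        inferInstanceAs (Module.Free P (Fin n → P))⟩
    have hK : DRing.IsPseudoCoherentModule P (-(k : ℤ)) (LinearMap.ker π) := by
      have h := isPC_obj₁ _ hT (-((k + 1 : ℕ) : ℤ)) (isPC_of_rep _ (rep_single _ hFF 0)) hM
      have e : (-((k + 1 : ℕ) : ℤ)) + 1 = -(k : ℤ) := by push_cast; omega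
      rw [e] at h
      exact h
    haveI : Module.Flat R (Fin n → P) := by
      classical
      exact Module.Flat.of_linearEquiv
        (DirectSum.linearEquivFunOnFintype R (Fin n) (fun _ => P)).symm
    haveI : Module.Flat R (LinearMap.ker π) :=
      flat_of_exact_left ((LinearMap.ker π).subtype.restrictScalars R) (π.restrictScalars R)
        (LinearMap.ker π).injective_subtype hπ (LinearMap.exact_subtype_ker_map π)
    have hK' := ih (LinearMap.ker π) hK
    -- the base-changed sequence
    have hex' : Function.Exact ((LinearMap.ker π).subtype.baseChange P') (π.baseChange P') := by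
      rw [LinearMap.baseChange_eq_ltensor, LinearMap.baseChange_eq_ltensor]
      exact lTensor_exact P' (LinearMap.exact_subtype_ker_map π) hπ
    have hinj' : Function.Injective ((LinearMap.ker π).subtype.baseChange P') :=
      baseChange_injective_of_exact_of_flat R P T P' (LinearMap.ker π).subtype π
        (LinearMap.ker π).injective_subtype hπ (LinearMap.exact_subtype_ker_map π)
    have hsurj' : Function.Surjective (π.baseChange P') := by
      rw [LinearMap.baseChange_eq_ltensor]
      exact LinearMap.lTensor_surjective P' hπ
    let S' : ShortComplex (ModuleCat.{u} P') :=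
      ModuleCat.shortComplexOfCompEqZero ((LinearMap.ker π).subtype.baseChange P')
        (π.baseChange P') hex'.linearMap_comp_eq_zero
    have hS' : S'.ShortExact := ModuleCat.shortComplex_shortExact S' hex' hinj' hsurj'
    have hT' := hS'.singleTriangle_distinguished
    have hFF' : FF (ModuleCat.of P' (P' ⊗[P] (Fin n → P))) :=
      ⟨inferInstanceAs (Module.Finite P' (P' ⊗[P] (Fin n → P))),
        inferInstanceAs (Module.Free P' (P' ⊗[P] (Fin n → P)))⟩
    have e : (-((k + 1 : ℕ) : ℤ)) + 1 = -(k : ℤ) := by push_cast; omega
    refine isPC_obj₃ _ hT' (-((k + 1 : ℕ) : ℤ)) ?_ (isPC_of_rep _ (rep_single _ hFF' 0))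
    rw [e]
    exact hK'

include T in
/-- **base change of a pseudo-coherent module flat over the base** -/
theorem isPC_baseChange (m : ℤ) (M : Type u) [AddCommGroup M] [Module P M] [Module R M]
    [IsScalarTower R P M] [Module.Flat R M] (hM : DRing.IsPseudoCoherentModule P m M) :
    DRing.IsPseudoCoherentModule P' m (P' ⊗[P] M) := by
  by_cases hm : m ≤ 0
  · obtain ⟨k, rfl⟩ : ∃ k : ℕ, m = -(k : ℤ) := ⟨(-m).toNat, by omega⟩
    exact isPC_baseChange_aux R P T P' k M hM
  · haveI : (Dual.inD P' (P' ⊗[P] M)).IsLE (m - 1) :=
      DerivedCategory.TStructure.t.isLE_of_le _ 0 (m - 1) (by omega)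
    exact isPC_of_isLE m _

end Main

end Groth.Agent.Lib.H6xNpcProd
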