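import Mathlib
import Groth.Agent.Lib.H6xNpcProdA
import Groth.Agent.Lib.H6xNpcDesc
set_option backward.isDefEq.respectTransparency.types false

/-!
# Base change of `n`-pseudo-coherent ring maps between algebras flat over the base
(helper6; towards S6260)
-/

set_option autoImplicit false
set_option linter.style.haveILetI false
set_option linter.unusedVariables false
set_option linter.unusedSectionVars false
universe u
open CategoryTheory CategoryTheory.Limits TensorProduct
attribute [local instance] HasDerivedCategory.standard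

namespace Groth.Agent.Lib.H6xNpcProd

open Groth.Agent.Lib.Helper1.PC DerivedCategory Groth.Agent.S7017 Groth.Agent.Lib.H6xNpcBC

section Ring

attribute [local instance] MvPolynomial.algebraMvPolynomial

/-- surjectivity of the base change of a chart (no flatness needed) -/
theorem chartBC_surjective (A A' B B' : Type u) [CommRing A] [CommRing A'] [CommRing B]
    [CommRing B'] [Algebra A A'] [Algebra A B] [Algebra A' B'] [Algebra B B'] [Algebra A B']
    [IsScalarTower A A' B'] [IsScalarTower A B B'] [Algebra.IsPushout A B A' B'] {n : ℕ}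
    (φ : MvPolynomial (Fin n) A →ₐ[A] B) (hφ : Function.Surjective φ) :
    Function.Surjective (chartBC A' B' φ) := by
  set φ' : MvPolynomial (Fin n) A' →ₐ[A'] B' := chartBC A' B' φ with hφ'
  have hcomp : (φ'.toRingHom).comp (MvPolynomial.map (algebraMap A A')) =
      (algebraMap B B').comp φ.toRingHom := by
    apply MvPolynomial.ringHom_ext
    · intro r
      simp only [RingHom.comp_apply, MvPolynomial.map_C, AlgHom.toRingHom_eq_coe,
        RingHom.coe_coe]
      rw [show (MvPolynomial.C (algebraMap A A' r) : MvPolynomial (Fin n) A') =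
        algebraMap A' _ (algebraMap A A' r) from rfl, φ'.commutes,
        show (MvPolynomial.C r : MvPolynomial (Fin n) A) = algebraMap A _ r from rfl, φ.commutes,
        ← IsScalarTower.algebraMap_apply, ← IsScalarTower.algebraMap_apply]
    · intro i
      simp only [RingHom.comp_apply, MvPolynomial.map_X, AlgHom.toRingHom_eq_coe,
        RingHom.coe_coe]
      exact MvPolynomial.aeval_X _ i
  have hbc' : IsBaseChange A' (IsScalarTower.toAlgHom A B B').toLinearMap :=
    (Algebra.IsPushout.symm inferInstance : Algebra.IsPushout A A' B B').out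
  intro y
  refine hbc'.inductionOn y (fun y => ∃ x, φ' x = y) ⟨0, map_zero _⟩ ?_ ?_ ?_
  · intro b
    obtain ⟨p, rfl⟩ := hφ b
    exact ⟨MvPolynomial.map (algebraMap A A') p, RingHom.congr_fun hcomp p⟩
  · rintro a y ⟨x, rfl⟩
    exact ⟨a • x, map_smul _ _ _⟩
  · rintro y z ⟨x, rfl⟩ ⟨x', rfl⟩
    exact ⟨x + x', map_add _ _ _⟩

/-- base change of an `n`-pseudo-coherent ring map `C → D` of flat `R`-algebras along `R → T` -/
theorem npcHom_baseChange_of_flat (R C D T C' D' : Type u) [CommRing R] [CommRing C] [CommRing D]
    [CommRing T] [CommRing C'] [CommRing D']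
    [Algebra R C] [Algebra C D] [Algebra R D] [IsScalarTower R C D]
    [Algebra R T] [Algebra T C'] [Algebra C C'] [Algebra R C'] [IsScalarTower R C C']
    [IsScalarTower R T C']
    [Algebra T D'] [Algebra D D'] [Algebra R D'] [IsScalarTower R D D'] [IsScalarTower R T D']
    [Algebra C' D'] [Algebra C D'] [IsScalarTower C C' D'] [IsScalarTower C D D']
    [IsScalarTower T C' D'] [IsScalarTower R C' D']
    [Algebra.IsPushout R C T C'] [Algebra.IsPushout R D T D'] [Module.Flat R C] [Module.Flat R D]
    (m : ℤ) (h : NPCHom m C D) : NPCHom m C' D' := by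
  obtain ⟨n, φ, hφ, hpc⟩ := h
  haveI hCD : Algebra.IsPushout C D C' D' :=
    (Algebra.IsPushout.comp_iff R C T C' (T := D) (T' := D')).1 inferInstance
  letI algPD : Algebra (MvPolynomial (Fin n) C) D := φ.toRingHom.toAlgebra
  set φ' : MvPolynomial (Fin n) C' →ₐ[C'] D' := chartBC C' D' φ with hφ'
  letI algP'D' : Algebra (MvPolynomial (Fin n) C') D' := φ'.toRingHom.toAlgebra
  letI algPD' : Algebra (MvPolynomial (Fin n) C) D' :=
    ((algebraMap D D').comp φ.toRingHom).toAlgebra
  have hcomp : (φ'.toRingHom).comp (MvPolynomial.map (algebraMap C C')) =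
      (algebraMap D D').comp φ.toRingHom := by
    apply MvPolynomial.ringHom_ext
    · intro r
      simp only [RingHom.comp_apply, MvPolynomial.map_C, AlgHom.toRingHom_eq_coe,
        RingHom.coe_coe]
      rw [show (MvPolynomial.C (algebraMap C C' r) : MvPolynomial (Fin n) C') =
        algebraMap C' _ (algebraMap C C' r) from rfl, φ'.commutes,
        show (MvPolynomial.C r : MvPolynomial (Fin n) C) = algebraMap C _ r from rfl, φ.commutes,
        ← IsScalarTower.algebraMap_apply, ← IsScalarTower.algebraMap_apply]
    · intro i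
      simp only [RingHom.comp_apply, MvPolynomial.map_X, AlgHom.toRingHom_eq_coe,
        RingHom.coe_coe]
      exact MvPolynomial.aeval_X _ i
  -- towers
  haveI s1 : IsScalarTower R (MvPolynomial (Fin n) C) (MvPolynomial (Fin n) C') :=
    IsScalarTower.of_algebraMap_eq (fun r => by
      rw [MvPolynomial.algebraMap_apply, MvPolynomial.algebraMap_apply,
        MvPolynomial.algebraMap_def, MvPolynomial.map_C, ← IsScalarTower.algebraMap_apply])
  haveI s2 : IsScalarTower R (MvPolynomial (Fin n) C) D :=
    IsScalarTower.of_algebraMap_eq (fun r => by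
      rw [MvPolynomial.algebraMap_apply, IsScalarTower.algebraMap_apply R C D]
      exact (φ.commutes _).symm)
  haveI s3 : IsScalarTower (MvPolynomial (Fin n) C) D D' :=
    IsScalarTower.of_algebraMap_eq (fun r => rfl)
  haveI s4 : IsScalarTower (MvPolynomial (Fin n) C) (MvPolynomial (Fin n) C') D' :=
    IsScalarTower.of_algebraMap_eq (fun p => (RingHom.congr_fun hcomp p).symm)
  haveI s5 : IsScalarTower R (MvPolynomial (Fin n) C') D' :=
    IsScalarTower.of_algebraMap_eq (fun r => by
      rw [MvPolynomial.algebraMap_apply, IsScalarTower.algebraMap_apply R C' D']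
      exact (φ'.commutes _).symm)
  haveI s6 : IsScalarTower T (MvPolynomial (Fin n) C') D' :=
    IsScalarTower.of_algebraMap_eq (fun r => by
      rw [MvPolynomial.algebraMap_apply, IsScalarTower.algebraMap_apply T C' D']
      exact (φ'.commutes _).symm)
  haveI hRP : Algebra.IsPushout R (MvPolynomial (Fin n) C) T (MvPolynomial (Fin n) C') :=
    (Algebra.IsPushout.comp_iff R C T C' (T := MvPolynomial (Fin n) C)
      (T' := MvPolynomial (Fin n) C')).2 inferInstance
  haveI hRP' : Algebra.IsPushout R T (MvPolynomial (Fin n) C) (MvPolynomial (Fin n) C') :=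
    hRP.symm
  have hpo : Algebra.IsPushout (MvPolynomial (Fin n) C) D (MvPolynomial (Fin n) C') D' :=
    (Algebra.IsPushout.comp_iff R (MvPolynomial (Fin n) C) T (MvPolynomial (Fin n) C')
      (T := D) (T' := D')).1 inferInstance
  have hbc : IsBaseChange (MvPolynomial (Fin n) C')
      (IsScalarTower.toAlgHom (MvPolynomial (Fin n) C) D D').toLinearMap := hpo.symm.out
  haveI : Module.Flat R (MvPolynomial (Fin n) C) := Module.Flat.trans R C _
  refine ⟨n, φ', chartBC_surjective C C' D D' φ hφ, ?_⟩
  have h1 := isPC_baseChange R (MvPolynomial (Fin n) C) T (MvPolynomial (Fin n) C') m D hpc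
  exact isPC_of_iso ((DerivedCategory.singleFunctor
    (ModuleCat.{u} (MvPolynomial (Fin n) C')) 0).mapIso hbc.equiv.toModuleIso) h1

end Ring

end Groth.Agent.Lib.H6xNpcProd
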