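import Mathlib
import Groth.Agent.Lib.H6xNpcProdB
import Groth.Agent.Lib.H6xChartW
set_option backward.isDefEq.respectTransparency.types false

/-!
# Products of pseudo-coherent morphisms, flat second factor (helper6; S6260)
-/

set_option autoImplicit false
set_option linter.style.haveILetI false
set_option linter.unusedVariables false
set_option linter.unusedSectionVars false
universe u
open CategoryTheory CategoryTheory.Limits AlgebraicGeometry TensorProduct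
attribute [local instance] HasDerivedCategory.standard

namespace Groth.Agent.Lib.H6xNpcProd

open Groth.Agent.Lib.Helper1.PC DerivedCategory Groth.Agent.S7017 Groth.Agent.Lib.H6xNpcBC
  Groth.Agent.Lib.H6xChart

section Cat

variable {R C D T C' D' : CommRingCat.{u}} (rc : R ⟶ C) (cd : C ⟶ D) (rt : R ⟶ T)
  (tc' : T ⟶ C') (cc' : C ⟶ C') (td' : T ⟶ D') (dd' : D ⟶ D') (c'd' : C' ⟶ D')

include rc rt tc' cc' td' dd' in
/-- base change of an `n`-pseudo-coherent ring map between flat algebras -/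
theorem NPC.baseChange_of_flat (HC : IsPushout rc rt cc' tc')
    (HD : IsPushout (rc ≫ cd) rt dd' td') (h1 : cc' ≫ c'd' = cd ≫ dd') (h2 : tc' ≫ c'd' = td')
    (hC : rc.hom.Flat) (hD : (rc ≫ cd).hom.Flat) (n : ℤ) (h : NPC n cd.hom) :
    NPC n c'd'.hom := by
  letI a1 : Algebra R C := rc.hom.toAlgebra
  letI a2 : Algebra C D := cd.hom.toAlgebra
  letI a3 : Algebra R D := (rc ≫ cd).hom.toAlgebra
  haveI t1 : IsScalarTower R C D := IsScalarTower.of_algebraMap_eq (fun r => rfl)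
  letI a4 : Algebra R T := rt.hom.toAlgebra
  letI a5 : Algebra T C' := tc'.hom.toAlgebra
  letI a6 : Algebra C C' := cc'.hom.toAlgebra
  letI a7 : Algebra R C' := (rc ≫ cc').hom.toAlgebra
  haveI t2 : IsScalarTower R C C' := IsScalarTower.of_algebraMap_eq (fun r => rfl)
  haveI t3 : IsScalarTower R T C' := IsScalarTower.of_algebraMap_eq (fun r => by
    exact congrArg (fun φ => φ.hom r) HC.w)
  letI a8 : Algebra T D' := td'.hom.toAlgebra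
  letI a9 : Algebra D D' := dd'.hom.toAlgebra
  letI a10 : Algebra R D' := ((rc ≫ cd) ≫ dd').hom.toAlgebra
  haveI t4 : IsScalarTower R D D' := IsScalarTower.of_algebraMap_eq (fun r => rfl)
  haveI t5 : IsScalarTower R T D' := IsScalarTower.of_algebraMap_eq (fun r => by
    exact congrArg (fun φ => φ.hom r) HD.w)
  letI a11 : Algebra C' D' := c'd'.hom.toAlgebra
  letI a12 : Algebra C D' := (cd ≫ dd').hom.toAlgebra
  haveI t6 : IsScalarTower C C' D' := IsScalarTower.of_algebraMap_eq (fun r => by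
    exact (congrArg (fun φ => φ.hom r) h1).symm)
  haveI t7 : IsScalarTower C D D' := IsScalarTower.of_algebraMap_eq (fun r => rfl)
  haveI t8 : IsScalarTower T C' D' := IsScalarTower.of_algebraMap_eq (fun r => by
    exact (congrArg (fun φ => φ.hom r) h2).symm)
  haveI t9 : IsScalarTower R C' D' := IsScalarTower.of_algebraMap_eq (fun r => by
    exact (congrArg (fun φ => φ.hom (rc.hom r)) h1).symm)
  haveI p1 : Algebra.IsPushout R C T C' := by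
    have H' : IsPushout (CommRingCat.ofHom (algebraMap R C)) (CommRingCat.ofHom (algebraMap R T))
        (CommRingCat.ofHom (algebraMap C C')) (CommRingCat.ofHom (algebraMap T C')) := HC
    exact CommRingCat.isPushout_iff_isPushout.1 H'
  haveI p2 : Algebra.IsPushout R D T D' := by
    have H' : IsPushout (CommRingCat.ofHom (algebraMap R D)) (CommRingCat.ofHom (algebraMap R T))
        (CommRingCat.ofHom (algebraMap D D')) (CommRingCat.ofHom (algebraMap T D')) := HD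
    exact CommRingCat.isPushout_iff_isPushout.1 H'
  haveI f1 : Module.Flat R C := hC
  haveI f2 : Module.Flat R D := hD
  exact npcHom_baseChange_of_flat R C D T C' D' n h

end Cat

section Sch

variable {S T X₂ Y₂ Z X : Scheme.{u}}

/-- base change of an `n`-pseudo-coherent morphism `X₂ ⟶ Y₂` of flat `S`-schemes along any
`T ⟶ S` -/
theorem isNPseudoCoherent_baseChange_of_flat (f₂ : X₂ ⟶ Y₂) (q₂ : Y₂ ⟶ S) [Flat q₂]
    [Flat (f₂ ≫ q₂)] (t : T ⟶ S)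
    (z₁ : Z ⟶ T) (z₂ : Z ⟶ Y₂) (hZ : IsPullback z₁ z₂ t q₂)
    (x₁ : X ⟶ T) (x₂ : X ⟶ X₂) (hX : IsPullback x₁ x₂ t (f₂ ≫ q₂))
    (g : X ⟶ Z) (hg₁ : g ≫ z₁ = x₁) (hg₂ : g ≫ z₂ = x₂ ≫ f₂)
    [LocallyOfFiniteType f₂] [LocallyOfFiniteType g] (n : ℤ)
    (h : DerSch.IsNPseudoCoherent f₂ n) : DerSch.IsNPseudoCoherent g n := by
  refine isNPseudoCoherent_of_local g n fun x => ?_
  obtain ⟨W, hxW⟩ := exists_affine_nhd (t.base (x₁.base x))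
  obtain ⟨T₀, hxT₀, hT₀W⟩ := exists_affine_nhd_le t (x₁.base x) (W : S.Opens) hxW
  have hw : (f₂ ≫ q₂).base (x₂.base x) = t.base (x₁.base x) := by
    have := congrArg (fun φ => φ.base x) hX.w
    simpa using this.symm
  have hxV : q₂.base (f₂.base (x₂.base x)) ∈ (W : S.Opens) := by
    have : q₂.base (f₂.base (x₂.base x)) = t.base (x₁.base x) := by
      rw [← hw]; simp
    rw [this]; exact hxW
  obtain ⟨V₂, hxV₂, hV₂W⟩ := exists_affine_nhd_le q₂ (f₂.base (x₂.base x)) (W : S.Opens) hxV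
  obtain ⟨U₂, hxU₂, hU₂V₂⟩ := exists_affine_nhd_le f₂ (x₂.base x) (V₂ : Y₂.Opens) hxV₂
  have hU₂W : (U₂ : X₂.Opens) ≤ (f₂ ≫ q₂) ⁻¹ᵁ (W : S.Opens) := fun y hy => hV₂W (hU₂V₂ hy)
  have hZ₀ : IsAffineOpen (z₁ ⁻¹ᵁ (T₀ : T.Opens) ⊓ z₂ ⁻¹ᵁ (V₂ : Y₂.Opens)) :=
    Groth.Agent.Lib.R2H3.ProdChart.isAffineOpen_inf hZ W.2 T₀.2 V₂.2 hT₀W hV₂W
  have hX₀ : IsAffineOpen (x₁ ⁻¹ᵁ (T₀ : T.Opens) ⊓ x₂ ⁻¹ᵁ (U₂ : X₂.Opens)) :=
    Groth.Agent.Lib.R2H3.ProdChart.isAffineOpen_inf hX W.2 T₀.2 U₂.2 hT₀W hU₂W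
  have hle : x₁ ⁻¹ᵁ (T₀ : T.Opens) ⊓ x₂ ⁻¹ᵁ (U₂ : X₂.Opens) ≤
      g ⁻¹ᵁ (z₁ ⁻¹ᵁ (T₀ : T.Opens) ⊓ z₂ ⁻¹ᵁ (V₂ : Y₂.Opens)) := by
    rintro y ⟨hy1, hy2⟩
    refine ⟨?_, ?_⟩
    · show z₁.base (g.base y) ∈ (T₀ : T.Opens)
      have : z₁.base (g.base y) = x₁.base y := by
        have := congrArg (fun φ => φ.base y) hg₁
        simpa using this
      rw [this]; exact hy1
    · show z₂.base (g.base y) ∈ (V₂ : Y₂.Opens)
      have : z₂.base (g.base y) = f₂.base (x₂.base y) := by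
        have := congrArg (fun φ => φ.base y) hg₂
        simpa using this
      rw [this]; exact hU₂V₂ hy2
  refine ⟨⟨_, hX₀⟩, ⟨_, hZ₀⟩, hle, ⟨hxT₀, hxU₂⟩, ?_⟩
  have HC := (Groth.Agent.Lib.R2H3.ProdChart.isPushout_appLE hZ W.2 T₀.2 V₂.2 hT₀W hV₂W).flip
  have HD := (Groth.Agent.Lib.R2H3.ProdChart.isPushout_appLE hX W.2 T₀.2 U₂.2 hT₀W hU₂W).flip
  have e1 : (f₂ ≫ q₂).appLE (W : S.Opens) (U₂ : X₂.Opens) hU₂W =
      q₂.appLE (W : S.Opens) (V₂ : Y₂.Opens) hV₂W ≫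
        f₂.appLE (V₂ : Y₂.Opens) (U₂ : X₂.Opens) hU₂V₂ := by
    rw [Scheme.Hom.appLE_comp_appLE]
  rw [e1] at HD
  refine NPC.baseChange_of_flat (q₂.appLE (W : S.Opens) (V₂ : Y₂.Opens) hV₂W)
    (f₂.appLE (V₂ : Y₂.Opens) (U₂ : X₂.Opens) hU₂V₂)
    (t.appLE (W : S.Opens) (T₀ : T.Opens) hT₀W)
    (z₁.appLE (T₀ : T.Opens) _ inf_le_left) (z₂.appLE (V₂ : Y₂.Opens) _ inf_le_right)
    (x₁.appLE (T₀ : T.Opens) _ inf_le_left) (x₂.appLE (U₂ : X₂.Opens) _ inf_le_right)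
    (g.appLE _ _ hle) HC HD ?_ ?_ (q₂.flat_appLE W.2 V₂.2 hV₂W) ?_ n
    (npc_appLE_of_isNPseudoCoherent f₂ n h U₂ V₂ hU₂V₂)
  · rw [Scheme.Hom.appLE_comp_appLE, Scheme.Hom.appLE_comp_appLE]
    congr 1
  · rw [Scheme.Hom.appLE_comp_appLE]
    congr 1
  · rw [← e1]
    exact (f₂ ≫ q₂).flat_appLE W.2 U₂.2 hU₂W

/-- **S6260** -/
theorem main_S6260 {S X₁ Y₁ X₂ Y₂ X Y : Scheme.{u}} (f₁ : X₁ ⟶ Y₁) (q₁ : Y₁ ⟶ S)
    (f₂ : X₂ ⟶ Y₂) (q₂ : Y₂ ⟶ S) [Flat q₂] [Flat (f₂ ≫ q₂)]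
    (pX₁ : X ⟶ X₁) (pX₂ : X ⟶ X₂) (hX : IsPullback pX₁ pX₂ (f₁ ≫ q₁) (f₂ ≫ q₂))
    (pY₁ : Y ⟶ Y₁) (pY₂ : Y ⟶ Y₂) (hY : IsPullback pY₁ pY₂ q₁ q₂)
    (f : X ⟶ Y) (hf₁ : f ≫ pY₁ = pX₁ ≫ f₁) (hf₂ : f ≫ pY₂ = pX₂ ≫ f₂)
    [LocallyOfFiniteType f₁] [LocallyOfFiniteType f₂]
    (h₁ : ∀ n : ℤ, DerSch.IsNPseudoCoherent f₁ n) (h₂ : ∀ n : ℤ, DerSch.IsNPseudoCoherent f₂ n)
    (n : ℤ) : DerSch.IsNPseudoCoherent f n := by
  -- the intermediate scheme `Z = X₁ ×_S Y₂`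
  have hZ : IsPullback (pullback.fst (f₁ ≫ q₁) q₂) (pullback.snd (f₁ ≫ q₁) q₂) (f₁ ≫ q₁) q₂ :=
    IsPullback.of_hasPullback _ _
  set z₁ := pullback.fst (f₁ ≫ q₁) q₂ with hz₁
  set z₂ := pullback.snd (f₁ ≫ q₁) q₂ with hz₂
  -- `g : X ⟶ Z`
  have wg : pX₁ ≫ (f₁ ≫ q₁) = (pX₂ ≫ f₂) ≫ q₂ := by
    rw [hX.w, Category.assoc]
  let g : X ⟶ pullback (f₁ ≫ q₁) q₂ := hZ.lift pX₁ (pX₂ ≫ f₂) wg
  have hg₁ : g ≫ z₁ = pX₁ := hZ.lift_fst _ _ _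
  have hg₂ : g ≫ z₂ = pX₂ ≫ f₂ := hZ.lift_snd _ _ _
  -- `k : Z ⟶ Y`
  have wk : (z₁ ≫ f₁) ≫ q₁ = z₂ ≫ q₂ := by
    rw [Category.assoc]; exact hZ.w
  let k : pullback (f₁ ≫ q₁) q₂ ⟶ Y := hY.lift (z₁ ≫ f₁) z₂ wk
  have hk₁ : k ≫ pY₁ = z₁ ≫ f₁ := hY.lift_fst _ _ _
  have hk₂ : k ≫ pY₂ = z₂ := hY.lift_snd _ _ _
  have hfgk : f = g ≫ k := by
    apply hY.hom_ext
    · rw [hf₁, Category.assoc, hk₁, ← Category.assoc, hg₁]
    · rw [hf₂, Category.assoc, hk₂, hg₂]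
  -- `g` is a base change of `f₂`
  have hgpb : IsPullback g pX₂ z₂ f₂ := by
    refine IsPullback.of_right (h₁₂ := z₁) (h₂₂ := q₂) (v₁₃ := f₁ ≫ q₁) ?_ hg₂ hZ
    rw [hg₁]
    exact hX
  haveI : LocallyOfFiniteType g :=
    MorphismProperty.of_isPullback (P := @LocallyOfFiniteType) hgpb.flip inferInstance
  have hg : ∀ m : ℤ, DerSch.IsNPseudoCoherent g m := fun m =>
    isNPseudoCoherent_baseChange_of_flat f₂ q₂ (f₁ ≫ q₁) z₁ z₂ hZ pX₁ pX₂ hX g hg₁ hg₂ m (h₂ m)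
  -- `k` is a flat base change of `f₁`
  have hkpb : IsPullback k z₁ pY₁ f₁ := by
    refine IsPullback.of_right (h₁₂ := pY₂) (h₂₂ := q₁) (v₁₃ := q₂) ?_ hk₁ hY.flip
    rw [hk₂]
    exact hZ.flip
  haveI : Flat pY₁ := MorphismProperty.of_isPullback (P := @Flat) hY.flip inferInstance
  haveI : LocallyOfFiniteType k :=
    MorphismProperty.of_isPullback (P := @LocallyOfFiniteType) hkpb.flip inferInstance
  have hk : ∀ m : ℤ, DerSch.IsNPseudoCoherent k m := fun m =>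
    isNPseudoCoherent_baseChange f₁ k z₁ pY₁ hkpb.flip m (h₁ m)
  rw [hfgk]
  exact (rel_comp_iff_of_pseudoCoherent g k hk n (DerSch.unitCx X)).1 (hg n)

end Sch

end Groth.Agent.Lib.H6xNpcProd
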