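import Groth.Prelude.Def_FSch5
import Groth.Agent.Lib.Helper22ThickAffine

set_option autoImplicit false
universe u

open CategoryTheory CategoryTheory.Limits AlgebraicGeometry TopologicalSpace Opposite

namespace Groth.Agent.Lib.H6xOshSurj

section types

variable (G : ℕᵒᵖ ⥤ Type u)

/-- the map of the system from level `n` to level `m ≤ n`. -/
def tr {m n : ℕ} (hmn : m ≤ n) : G.obj (op n) → G.obj (op m) := G.map (homOfLE hmn).op

theorem tr_tr {l m n : ℕ} (hlm : l ≤ m) (hmn : m ≤ n) (x : G.obj (op n)) :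
    tr G hlm (tr G hmn x) = tr G (hlm.trans hmn) x := by
  unfold tr
  rw [← Functor.map_comp_apply]
  rfl

theorem tr_refl (n : ℕ) (x : G.obj (op n)) : tr G (le_refl n) x = x := by
  unfold tr
  have : (homOfLE (le_refl n)).op = 𝟙 (op n) := rfl
  rw [this]; exact Functor.map_id_apply G _ x

theorem map_eq_tr {m n : ℕ} (f : (op n : ℕᵒᵖ) ⟶ op m) (x : G.obj (op n)) :
    G.map f x = tr G (leOfHom f.unop) x := by
  unfold tr
  congr 1

variable (hs : ∀ n, Function.Surjective (tr G (Nat.le_add_right n 1)))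

/-- successive lifts of an element of level `i`. -/
noncomputable def lifts (i : ℕ) (x : G.obj (op i)) : (n : ℕ) → G.obj (op (i + n))
  | 0 => x
  | n + 1 => (hs (i + n) (lifts i x n)).choose

theorem lifts_succ (i : ℕ) (x : G.obj (op i)) (n : ℕ) :
    tr G (Nat.le_add_right (i + n) 1) (lifts G hs i x (n + 1)) = lifts G hs i x n :=
  (hs (i + n) (lifts G hs i x n)).choose_spec

theorem tr_lifts (i : ℕ) (x : G.obj (op i)) (n : ℕ) :
    tr G (Nat.le_add_right i n) (lifts G hs i x n) = x := by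
  induction n with
  | zero => exact tr_refl G i x
  | succ n ih =>
    have := tr_tr G (Nat.le_add_right i n) (Nat.le_add_right (i + n) 1) (lifts G hs i x (n + 1))
    rw [lifts_succ, ih] at this
    exact this.symm

include hs in
theorem exists_section_of_surjective (i : ℕ) (x : G.obj (op i)) :
    ∃ s : G.sections, s.1 (op i) = x := by
  let b : (m : ℕ) → G.obj (op m) := fun m =>
    tr G (Nat.le_add_left m i) (lifts G hs i x m)
  have hb : ∀ m, tr G (Nat.le_add_right m 1) (b (m + 1)) = b m := by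
    intro m
    show tr G _ (tr G _ (lifts G hs i x (m + 1))) = tr G _ (lifts G hs i x m)
    rw [tr_tr, ← lifts_succ G hs i x m, tr_tr]
  have hb' : ∀ m n (hmn : m ≤ n), tr G hmn (b n) = b m := by
    intro m n hmn
    induction n, hmn using Nat.le_induction with
    | base => exact tr_refl G m _
    | succ n hmn ih =>
      calc tr G _ (b (n + 1)) = tr G hmn (tr G (Nat.le_add_right n 1) (b (n + 1))) :=
            (tr_tr G hmn (Nat.le_add_right n 1) _).symm
        _ = tr G hmn (b n) := by rw [hb n]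
        _ = b m := ih
  refine ⟨⟨fun j => b j.unop, ?_⟩, ?_⟩
  · intro j j' f
    obtain ⟨n⟩ := j
    obtain ⟨m⟩ := j'
    show G.map f (b n) = b m
    rw [map_eq_tr]
    exact hb' m n _
  · show b i = x
    show tr G _ (lifts G hs i x i) = x
    exact tr_lifts G hs i x i

end types

section affine

variable (𝔛 : FSch.Sys.{u}) (h : 𝔛.IsFormal)

theorem toX_preimage_lvU (n : ℕ) (U : (𝔛.X 0).Opens) :
    (𝔛.toX n) ⁻¹ᵁ (𝔛.lvU h n U) = U := by
  change (Opens.map ((𝔛.toX n).base ≫ 𝔛.gInv h n)).obj U = U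
  rw [FSch.Sys.toX_base_gInv]
  rfl

theorem isAffineOpen_lvU (n : ℕ) (U : (𝔛.X 0).Opens) (hU : IsAffineOpen U) :
    IsAffineOpen (𝔛.lvU h n U) := by
  have hci := FSch.Sys.toX_isClosedImmersion 𝔛 h n
  have h1 : IsClosedImmersion ((𝔛.toX n) ∣_ (𝔛.lvU h n U)) :=
    IsZariskiLocalAtTarget.restrict hci _
  have h2 : IsAffineOpen ((𝔛.toX n) ⁻¹ᵁ (𝔛.lvU h n U)) := by
    rw [toX_preimage_lvU]; exact hU
  have h2' : IsAffine ((𝔛.toX n) ⁻¹ᵁ (𝔛.lvU h n U)).toScheme := h2
  have hsurj : Function.Surjective ((𝔛.toX n) ∣_ (𝔛.lvU h n U)) := by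
    rintro ⟨y, hy⟩
    obtain ⟨x, rfl⟩ := FSch.Sys.toX_surjective 𝔛 h n y
    refine ⟨⟨x, hy⟩, ?_⟩
    apply Subtype.ext
    exact morphismRestrict_base_coe _ _ _
  exact Groth.Agent.Lib.Helper22.ThickAffine.isAffine_of_thickening _ hsurj

theorem appLE_surjective {X Y : Scheme.{u}} (f : X ⟶ Y) [IsClosedImmersion f] (V : Y.Opens)
    (hV : IsAffineOpen V) (W : X.Opens) (e : W ≤ f ⁻¹ᵁ V) (e' : f ⁻¹ᵁ V ≤ W) :
    Function.Surjective (f.appLE V W e) := by
  obtain rfl : W = f ⁻¹ᵁ V := le_antisymm e e'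
  rw [Scheme.Hom.appLE_eq_app]
  exact Scheme.Hom.app_surjective f V hV

theorem levelMap_app_surjective (n : ℕ) (U : (𝔛.X 0).Opens) (hU : IsAffineOpen U) :
    Function.Surjective ((𝔛.levelMap h n).hom.app (op U)) := by
  have hci : IsClosedImmersion (𝔛.ι n) := (h n).1
  exact appLE_surjective (𝔛.ι n) (𝔛.lvU h (n + 1) U) (isAffineOpen_lvU 𝔛 h (n + 1) U hU)
    (𝔛.lvU h n U) (𝔛.lvU_le h n U) (𝔛.lvU_succ h n U).le

/-- sections over `U`, as a functor to types. -/
noncomputable abbrev secFun (U : (𝔛.X 0).Opens) :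
    Sheaf (Opens.grothendieckTopology (𝔛.X 0)) CommRingCat.{u} ⥤ Type u :=
  sheafToPresheaf _ _ ⋙ (evaluation _ _).obj (op U) ⋙ forget CommRingCat.{u}

theorem main (i : ℕ) (U : (𝔛.X 0).Opens) (hU : IsAffineOpen U) :
    Function.Surjective ((𝔛.OshProj h i).hom.app (op U)) := by
  intro x
  let G : ℕᵒᵖ ⥤ Type u := 𝔛.levelRing h ⋙ secFun 𝔛 U
  have hlim : IsLimit ((secFun 𝔛 U).mapCone (limit.cone (𝔛.levelRing h))) :=
    isLimitOfPreserves (secFun 𝔛 U) (limit.isLimit _)
  have hs : ∀ n, Function.Surjective (tr G (Nat.le_add_right n 1)) := by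
    intro n
    have : tr G (Nat.le_add_right n 1) = ((𝔛.levelMap h n).hom.app (op U)) := by
      unfold tr
      show ⇑(ConcreteCategory.hom ((secFun 𝔛 U).map
        ((𝔛.levelRing h).map (homOfLE (Nat.le_add_right n 1)).op))) = _
      rw [FSch.Sys.levelRing_map_succ]
      rfl
    rw [this]
    exact levelMap_app_surjective 𝔛 h n U hU
  obtain ⟨s, hsx⟩ := exists_section_of_surjective G hs i x
  refine ⟨(Types.isLimitEquivSections hlim).symm s, ?_⟩
  have := Types.isLimitEquivSections_symm_apply hlim s (op i)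
  rw [hsx] at this
  exact this

end affine

end Groth.Agent.Lib.H6xOshSurj
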