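import Groth.Agent.Lib.Helper17FibRepr2
import Groth.Agent.Lib.Helper17FibFp
import Groth.Agent.Lib.Helper17FibOver
import Mathlib.CategoryTheory.Limits.Shapes.Pullback.HasPullback

/-!
# `Over.map f` is a representable 1-morphism (helper6)
-/

set_option autoImplicit false
open CategoryTheory CategoryTheory.Limits CategoryTheory.Functor

universe v u

namespace Groth.Agent.Lib.H6xOverMapRep

open Groth.Agent.Lib.Helper17

variable {C : Type u} [Category.{v} C] {X Y U : C} (f : X ⟶ Y)
  (G : FibCat.overCat U ⥤ᵇ FibCat.overCat Y)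

/-- `Over.map f` as a functor over `C`. -/
abbrev Fm : FibCat.overCat X ⥤ᵇ FibCat.overCat Y := ⟨Over.map f, Over.mapForget_eq f⟩

theorem G_obj_left (a : Over U) : (G.obj a).left = a.left := G.w_obj a

theorem G_map_left {a a' : Over U} (t : a ⟶ a') :
    (G.map t).left = eqToHom (G_obj_left G a) ≫ t.left ≫ eqToHom (G_obj_left G a').symm := by
  have := Functor.congr_hom G.w t
  exact this

/-- The morphism `U ⟶ Y` corresponding to `G`. -/
def gHom : U ⟶ Y := eqToHom (G_obj_left G (Over.mk (𝟙 U))).symm ≫ (G.obj (Over.mk (𝟙 U))).hom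

theorem G_obj_hom (a : Over U) :
    (G.obj a).hom = eqToHom (G_obj_left G a) ≫ a.hom ≫ gHom G := by
  have h := Over.w (G.map (Over.homMk a.hom (by simp) : a ⟶ Over.mk (𝟙 U)))
  rw [G_map_left] at h
  rw [← h, gHom]
  simp

section Terminal

variable [HasPullbacks C]

/-- First component of the terminal object. -/
noncomputable abbrev a₀ : Over U := Over.mk (pullback.fst (gHom G) f)

/-- Second component of the terminal object. -/
noncomputable abbrev b₀ : Over X := Over.mk (pullback.snd (gHom G) f)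

/-- The structural isomorphism of the terminal object. -/
noncomputable def iso₀ : G.obj (a₀ f G) ≅ (Over.map f).obj (b₀ f G) :=
  Over.isoMk (eqToIso (G_obj_left G (a₀ f G))) (by
    rw [G_obj_hom]
    simp [pullback.condition])

theorem iso₀_hom_left : (iso₀ f G).hom.left = eqToHom (G_obj_left G (a₀ f G)) := rfl

/-- The terminal object of the 2-fibre product. -/
noncomputable def ξ : (FibCat.fp G (Fm f)).obj :=
  ⟨{ fst := a₀ f G, snd := b₀ f G, iso := iso₀ f G }, by
    change (Over.forget Y).IsHomLift (𝟙 (a₀ f G).left) (iso₀ f G).hom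
    apply IsHomLift.of_fac' (Over.forget Y) _ _ (G_obj_left G (a₀ f G)) rfl
    change (iso₀ f G).hom.left = _
    rw [iso₀_hom_left]
    simp⟩

end Terminal

section Unique

variable [HasPullbacks C] (ρ : (FibCat.fp G (Fm f)).obj)

/-- first component, as an object of `Over U` -/
abbrev ρa : Over U := ρ.obj.fst
/-- second component, as an object of `Over X` -/
abbrev ρb : Over X := ρ.obj.snd
/-- underlying morphism of the structural isomorphism -/
def ρι : (G.obj (ρa f G ρ)).left ⟶ (ρb f G ρ).left := ρ.obj.iso.hom.left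
/-- underlying morphism of the inverse of the structural isomorphism -/
def ρκ : (ρb f G ρ).left ⟶ (G.obj (ρa f G ρ)).left := ρ.obj.iso.inv.left

omit [HasPullbacks C] in
theorem ικ : ρι f G ρ ≫ ρκ f G ρ = 𝟙 _ := by
  have h : ρ.obj.iso.hom ≫ ρ.obj.iso.inv = 𝟙 _ := Iso.hom_inv_id _
  exact congrArg (fun t => Over.Hom.left t) h

omit [HasPullbacks C] in
theorem κι : ρκ f G ρ ≫ ρι f G ρ = 𝟙 _ := by
  have h : ρ.obj.iso.inv ≫ ρ.obj.iso.hom = 𝟙 _ := Iso.inv_hom_id _
  exact congrArg (fun t => Over.Hom.left t) h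

omit [HasPullbacks C] in
theorem iso_w : ρι f G ρ ≫ (ρb f G ρ).hom ≫ f =
    eqToHom (G_obj_left G (ρa f G ρ)) ≫ (ρa f G ρ).hom ≫ gHom G := by
  have h : ρι f G ρ ≫ ((Over.map f).obj (ρb f G ρ)).hom = (G.obj (ρa f G ρ)).hom :=
    Over.w ρ.obj.iso.hom
  rw [G_obj_hom G (ρa f G ρ)] at h
  exact h

theorem cond : (ρa f G ρ).hom ≫ gHom G =
    (eqToHom (G_obj_left G (ρa f G ρ)).symm ≫ ρι f G ρ ≫ (ρb f G ρ).hom) ≫ f := by
  simp only [Category.assoc]
  rw [iso_w]
  simp

/-- The underlying morphism to the pullback. -/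
noncomputable def αl : (ρa f G ρ).left ⟶ pullback (gHom G) f :=
  pullback.lift (ρa f G ρ).hom
    (eqToHom (G_obj_left G (ρa f G ρ)).symm ≫ ρι f G ρ ≫ (ρb f G ρ).hom) (cond f G ρ)

theorem αl_fst : αl f G ρ ≫ pullback.fst (gHom G) f = (ρa f G ρ).hom := pullback.lift_fst _ _ _

theorem αl_snd : αl f G ρ ≫ pullback.snd (gHom G) f =
    eqToHom (G_obj_left G (ρa f G ρ)).symm ≫ ρι f G ρ ≫ (ρb f G ρ).hom := pullback.lift_snd _ _ _

/-- First component of the morphism to the terminal object. -/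
noncomputable def α : ρa f G ρ ⟶ a₀ f G := Over.homMk (αl f G ρ) (αl_fst f G ρ)

/-- The underlying morphism of the second component. -/
noncomputable def βl : (ρb f G ρ).left ⟶ pullback (gHom G) f :=
  ρκ f G ρ ≫ eqToHom (G_obj_left G (ρa f G ρ)) ≫ αl f G ρ

theorem βl_snd : βl f G ρ ≫ pullback.snd (gHom G) f = (ρb f G ρ).hom := by
  rw [βl, Category.assoc, Category.assoc, αl_snd, eqToHom_trans_assoc, eqToHom_refl, Category.id_comp,
    ← Category.assoc, κι, Category.id_comp]

/-- Second component of the morphism to the terminal object. -/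
noncomputable def β : ρb f G ρ ⟶ b₀ f G := Over.homMk (βl f G ρ) (βl_snd f G ρ)

theorem ι_βl : ρι f G ρ ≫ βl f G ρ = eqToHom (G_obj_left G (ρa f G ρ)) ≫ αl f G ρ := by
  rw [βl, ← Category.assoc, ικ, Category.id_comp]

/-- The morphism to the terminal object. -/
noncomputable def toξ : ρ ⟶ ξ f G :=
  ObjectProperty.homMk
    { fst := α f G ρ
      snd := β f G ρ
      w := by
        apply Over.OverMorphism.ext
        change (G.map (α f G ρ)).left ≫ (iso₀ f G).hom.left =
          ρι f G ρ ≫ ((Over.map f).map (β f G ρ)).left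
        rw [G_map_left G (α f G ρ), iso₀_hom_left]
        change (eqToHom _ ≫ αl f G ρ ≫ eqToHom _) ≫ eqToHom _ = ρι f G ρ ≫ βl f G ρ
        rw [ι_βl]
        simp }

theorem toξ_unique (m : ρ ⟶ ξ f G) : m = toξ f G ρ := by
  obtain ⟨ma, hma⟩ : ∃ ma : ρa f G ρ ⟶ a₀ f G, ma = m.hom.fst := ⟨_, rfl⟩
  obtain ⟨mb, hmb⟩ : ∃ mb : ρb f G ρ ⟶ b₀ f G, mb = m.hom.snd := ⟨_, rfl⟩
  have hw0 : G.map ma ≫ (iso₀ f G).hom = ρ.obj.iso.hom ≫ (Over.map f).map mb := by
    rw [hma, hmb]; exact m.hom.w
  have hw : (G.map ma).left ≫ (iso₀ f G).hom.left = ρι f G ρ ≫ mb.left :=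
    congrArg (fun t => Over.Hom.left t) hw0
  rw [G_map_left G ma, iso₀_hom_left] at hw
  simp only [Category.assoc, eqToHom_trans, eqToHom_refl, Category.comp_id] at hw
  have h1 : ma.left ≫ pullback.fst (gHom G) f = (ρa f G ρ).hom := Over.w ma
  have h2 : mb.left ≫ pullback.snd (gHom G) f = (ρb f G ρ).hom := Over.w mb
  have hfst : ma.left = αl f G ρ := by
    apply pullback.hom_ext
    · rw [h1, αl_fst]
    · rw [αl_snd, ← h2, ← Category.assoc (ρι f G ρ), ← hw]
      simp
  have hsnd : mb.left = βl f G ρ := by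
    rw [βl, ← hfst, hw, ← Category.assoc, κι, Category.id_comp]
  apply ObjectProperty.hom_ext
  apply CategoricalPullback.hom_ext
  · change m.hom.fst = α f G ρ
    rw [← hma]
    apply Over.OverMorphism.ext
    exact hfst
  · change m.hom.snd = β f G ρ
    rw [← hmb]
    apply Over.OverMorphism.ext
    exact hsnd

end Unique

section Main

variable [HasPullbacks C]

theorem isRepresentable_fp : FibCat.IsRepresentable (FibCat.fp G (Fm f)) := by
  have hfib : FibCat.IsFibGrpd (FibCat.fp G (Fm f)).p :=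
    isFibGrpd_fp G (Fm f) (isFibSet_overForget U).1 (isFibSet_overForget X).1 (isFibSet_overForget Y).1
  obtain ⟨F, hF⟩ := isEquivOver_of_terminal hfib (ξ f G)
    (fun ρ => ⟨{ default := toξ f G ρ, uniq := toξ_unique f G ρ }⟩)
  exact ⟨_, F, hF⟩

end Main

end Groth.Agent.Lib.H6xOverMapRep
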