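import Mathlib
import Groth.Prelude.Def_DCoh3
import Groth.Agent.Lib.H6xPC4A
set_option backward.isDefEq.respectTransparency.types false

/-!
# Pseudo-coherence and coherent cohomology on Noetherian schemes, part 2 (helper6)
-/

set_option autoImplicit false
set_option linter.style.haveILetI false
universe u
open CategoryTheory CategoryTheory.Limits AlgebraicGeometry TopologicalSpace Opposite
  CategoryTheory.Pretriangulated ZeroObject

attribute [local instance] HasDerivedCategory.standard

namespace Groth.Agent.Lib.H6xPC3

open Groth.Agent.Lib.H6xPCoh Groth.Agent.Lib.H6xPerfLoc Groth.Agent.Lib.H6xPerfCoh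
  DerivedCategory

variable {X : Scheme.{u}}

/-- bounded above with coherent cohomology in degrees `≥ m` implies `m`-pseudo-coherent -/
theorem isPseudoCoherentD_of_coh_bounded [IsLocallyNoetherian X] (m : ℤ) :
    ∀ (k : ℕ) (E : DCoh.D X), E.IsLE (m - 1 + k) → (∀ i : ℤ, m ≤ i → Coh.IsCoh (DCoh.HD E i)) →
      DCoh.IsPseudoCoherentD m E
  | 0 => fun E hE _ => by
      haveI : E.IsLE (m - 1) := by simpa using hE
      exact (pcGlobal_of_isLE m E).isPseudoCoherentD
  | k + 1 => fun E hE hcoh => by
      obtain ⟨b, hb⟩ : ∃ b : ℤ, b = m + k := ⟨_, rfl⟩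
      haveI : E.IsLE b := by
        rw [hb]
        convert hE using 1
        push_cast; ring
      obtain ⟨X', Y', hX', hY', f, g, h, hT⟩ :=
        TStructure.t.exists_triangle E (b - 1) b (by omega)
      haveI : X'.IsLE (b - 1) := ⟨hX'⟩
      haveI : Y'.IsGE b := ⟨hY'⟩
      let T := Triangle.mk f g h
      -- cohomology of `X'`
      have hX'z : ∀ i : ℤ, b - 1 < i → IsZero ((homologyFunctor _ i).obj X') := fun i hi =>
        isZero_of_isLE X' (b - 1) i hi
      have hY'z : ∀ i : ℤ, i < b → IsZero ((homologyFunctor _ i).obj Y') := fun i hi =>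
        isZero_of_isGE Y' b i hi
      have hEz : ∀ i : ℤ, b < i → IsZero ((homologyFunctor _ i).obj E) := fun i hi =>
        isZero_of_isLE E b i hi
      have hiso : ∀ i : ℤ, i ≤ b - 1 → IsIso ((homologyFunctor _ i).map f) := by
        intro i hi
        haveI : Mono ((homologyFunctor _ i).map T.mor₁) :=
          (HomologySequence.mono_homologyMap_mor₁_iff T hT (i - 1) i (by omega)).2
            ((hY'z (i - 1) (by omega)).eq_of_src _ _)
        haveI : Epi ((homologyFunctor _ i).map T.mor₁) :=
          (HomologySequence.epi_homologyMap_mor₁_iff T hT i).2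
            ((hY'z i (by omega)).eq_of_tgt _ _)
        exact isIso_of_mono_of_epi ((homologyFunctor _ i).map T.mor₁)
      have hcohX' : ∀ i : ℤ, m ≤ i → Coh.IsCoh (DCoh.HD X' i) := by
        intro i hi
        by_cases hib : i ≤ b - 1
        · haveI := hiso i hib
          exact Groth.Agent.Lib.R2H2.PdSheaf.isCoh_of_iso
            (asIso ((homologyFunctor _ i).map f)).symm (hcoh i hi)
        · exact isCoh_of_isZero _ (hX'z i (by omega))
      have hX'pc : DCoh.IsPseudoCoherentD m X' := by
        refine isPseudoCoherentD_of_coh_bounded m k X' ?_ hcohX'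
        convert (inferInstance : X'.IsLE (b - 1)) using 1
        omega
      -- `Y'` is a coherent module placed in degree `b`
      haveI : Y'.IsLE b := by
        rw [isLE_iff]
        intro i hi
        exact (HomologySequence.exact₃ T hT i (i + 1) rfl).isZero_of_both_zeros
          ((hEz i hi).eq_of_src _ _) ((hX'z (i + 1) (by omega)).eq_of_tgt _ _)
      obtain ⟨A, ⟨eY⟩⟩ := exists_iso_singleFunctor_obj_of_isGE_of_isLE Y' b
      haveI : IsIso ((homologyFunctor _ b).map g) := by
        haveI : Mono ((homologyFunctor _ b).map T.mor₂) :=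
          (HomologySequence.mono_homologyMap_mor₂_iff T hT b).2
            ((hX'z b (by omega)).eq_of_src _ _)
        haveI : Epi ((homologyFunctor _ b).map T.mor₂) :=
          (HomologySequence.epi_homologyMap_mor₂_iff T hT b (b + 1) rfl).2
            ((hX'z (b + 1) (by omega)).eq_of_tgt _ _)
        exact isIso_of_mono_of_epi ((homologyFunctor _ b).map T.mor₂)
      have eA : DCoh.HD E b ≅ A :=
        asIso ((homologyFunctor _ b).map g) ≪≫ (homologyFunctor _ b).mapIso eY ≪≫
          (singleFunctorCompHomologyFunctorIso X.Modules b).app A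
      have hA : Coh.IsCoh A :=
        Groth.Agent.Lib.R2H2.PdSheaf.isCoh_of_iso eA (hcoh b (by omega))
      have hY'pc : DCoh.IsPseudoCoherentD m Y' :=
        isPseudoCoherentD_of_iso' eY.symm (isPseudoCoherentD_single_of_isCoh A hA b m)
      exact (triangle m T hT).2.1 hX'pc hY'pc

end Groth.Agent.Lib.H6xPC3
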