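import Mathlib
import Groth.Prelude.Def_DCoh3
import Groth.Agent.Lib.H6xPC4B
import Groth.Agent.Lib.H6xRpushQcA
set_option backward.isDefEq.respectTransparency.types false

/-!
# Pseudo-coherence and coherent cohomology on Noetherian schemes, part 3 (helper6)
-/

set_option autoImplicit false
set_option linter.style.haveILetI false
universe u
open CategoryTheory CategoryTheory.Limits AlgebraicGeometry TopologicalSpace Opposite
  CategoryTheory.Pretriangulated ZeroObject

attribute [local instance] HasDerivedCategory.standard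

namespace Groth.Agent.Lib.H6xPC3

open Groth.Agent.Lib.H6xPCoh Groth.Agent.Lib.H6xPerfLoc Groth.Agent.Lib.H6xPerfCoh
  DerivedCategory

variable {X : Scheme.{u}}

/-- on a Noetherian scheme, an `m`-pseudo-coherent object with quasi-coherent cohomology has
coherent cohomology in degrees `≥ m` and is bounded above -/
theorem coh_bounded_of_isPseudoCoherentD [IsNoetherian X] (E : DCoh.D X) (hE : DCoh.IsQCohD E)
    (m : ℤ) (h : DCoh.IsPseudoCoherentD m E) :
    (∀ i : ℤ, m ≤ i → Coh.IsCoh (DCoh.HD E i)) ∧ ∃ b : ℤ, E.IsLE b := by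
  classical
  choose V hxV P hP hiso π hπ using exists_local_data m E h
  have hcov : IsOpenCover V := by
    rw [IsOpenCover, eq_top_iff]
    intro x _
    exact Opens.mem_iSup.2 ⟨x, hxV x⟩
  have hcohP : ∀ x i, Coh.IsCoh ((P x).homology i) := fun x i =>
    isCoh_homology (P x)
      (fun j => Groth.Agent.Lib.R2H2.PushClRes.isCoh_of_isFinLocFree _ ((hP x).2 j)) i
  constructor
  · intro i hi
    haveI : (DCoh.HD E i).IsQuasicoherent := hE i
    refine ⟨hE i, Groth.Agent.Lib.Helper23.FinType.isFiniteType_of_open_cover _ V hcov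
      (fun x => ?_)⟩
    rcases hi.eq_or_lt with rfl | hlt
    · haveI : ((P x).homology m).IsQuasicoherent := (hcohP x m).1
      haveI : SheafOfModules.IsFiniteType (R := (V x : Scheme.{u}).ringCatSheaf)
        ((P x).homology m) := (hcohP x m).2
      haveI : ((DCoh.HD E m).restrict (V x).ι).IsQuasicoherent :=
        Scheme.Modules.isQuasicoherent_restrictFunctor (V x).ι (DCoh.HD E m)
      haveI := hπ x
      exact Groth.Agent.Lib.Helper23.FinType.isFiniteType_of_epi (π x)
    · obtain ⟨e⟩ := hiso x i hlt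
      exact (Groth.Agent.Lib.R2H2.PdSheaf.isCoh_of_iso e (hcohP x i)).2
  · obtain ⟨t, ht⟩ : ∃ t : Finset X, ∀ x : X, ∃ y ∈ t, x ∈ V y := by
      obtain ⟨t, ht⟩ := isCompact_univ.elim_finite_subcover (fun y : X => ((V y : X.Opens) : Set X))
        (fun y => (V y).isOpen) (fun x _ => Set.mem_iUnion.2 ⟨x, hxV x⟩)
      refine ⟨t, fun x => ?_⟩
      obtain ⟨y, hy⟩ := Set.mem_iUnion.1 (ht (Set.mem_univ x))
      obtain ⟨hyt, hxy⟩ := Set.mem_iUnion.1 hy
      exact ⟨y, hyt, hxy⟩
    choose a b hab using fun x => (hP x).1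
    obtain ⟨B, hB⟩ := (t.image b).exists_le
    have hcov' : ∀ x : X, ∃ W ∈ t.image V, x ∈ W := fun x => by
      obtain ⟨y, hy, hxy⟩ := ht x
      exact ⟨V y, Finset.mem_image_of_mem V hy, hxy⟩
    refine ⟨max B m, ?_⟩
    rw [isLE_iff]
    intro i hi
    refine Groth.Agent.Lib.H6xRpushQc.isZero_of_cover _ (t.image V) hcov' (fun W hW => ?_)
    obtain ⟨y, hy, rfl⟩ := Finset.mem_image.1 hW
    obtain ⟨e3⟩ := hiso y i (by have := le_max_right B m; omega)
    refine IsZero.of_iso ?_ e3.symm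
    refine ShortComplex.isZero_homology_of_isZero_X₂ _ (hab y i (Or.inr ?_))
    have h2 := hB _ (Finset.mem_image_of_mem b hy)
    have := le_max_left B m
    omega

/-- **S1039** -/
theorem pc_iff_coh_bounded (X : Scheme.{u}) [IsNoetherian X] (E : DCoh.D X) (hE : DCoh.IsQCohD E)
    (m : ℤ) :
    DCoh.IsPseudoCoherentD m E ↔
      (∀ i : ℤ, m ≤ i → Coh.IsCoh (DCoh.HD E i)) ∧ ∃ b : ℤ, E.IsLE b := by
  constructor
  · exact coh_bounded_of_isPseudoCoherentD E hE m
  · rintro ⟨hcoh, b, hb⟩
    haveI := hb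
    obtain ⟨k, hk⟩ : ∃ k : ℕ, b ≤ m - 1 + k := ⟨(b - (m - 1)).toNat, by omega⟩
    exact isPseudoCoherentD_of_coh_bounded m k E
      (TStructure.t.isLE_of_le E b (m - 1 + k) hk) hcoh

end Groth.Agent.Lib.H6xPC3
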