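import Mathlib
set_option backward.isDefEq.respectTransparency.types false

/-!
# Morphisms from a K-projective complex to a module, in terms of cocycles (helper6)

For a K-projective complex `P` and a complex `L`, `Θ : Cocycle P L n → (Q P ⟶ (Q L)⟦n⟧)` is
surjective, additive, compatible with post-composition, and vanishes exactly on coboundaries.
Specialized to `L` a module in degree `0`.
-/

set_option autoImplicit false
set_option linter.style.haveILetI false
universe w v u

namespace Groth.Agent.Lib.H6xPExt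

open CategoryTheory CategoryTheory.Limits CochainComplex HomComplex DerivedCategory

section General

variable {C : Type u} [Category.{v} C] [Abelian C] [HasDerivedCategory.{w} C]

/-- morphisms in `D(C)` from a K-projective complex are represented by morphisms of complexes -/
lemma exists_Q_map_eq (P L : CochainComplex C ℤ) [P.IsKProjective] (e : Q.obj P ⟶ Q.obj L) :
    ∃ f : P ⟶ L, Q.map f = e := by
  let iP := (quotientCompQhIso C).app P
  let iL := (quotientCompQhIso C).app L
  obtain ⟨φ, hφ⟩ := (CochainComplex.IsKProjective.Qh_map_bijective P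
    ((HomotopyCategory.quotient _ _).obj L)).2 (iP.hom ≫ e ≫ iL.inv)
  obtain ⟨ψ, rfl⟩ := (HomotopyCategory.quotient _ _).map_surjective φ
  refine ⟨ψ, ?_⟩
  have h1 := quotientCompQhIso_hom_naturality (C := C) ψ
  have h1' : Qh.map ((HomotopyCategory.quotient _ _).map ψ) ≫ iL.hom = iP.hom ≫ Q.map ψ := h1
  have h2 : Q.map ψ = iP.inv ≫ Qh.map ((HomotopyCategory.quotient _ _).map ψ) ≫ iL.hom := by
    rw [h1', Iso.inv_hom_id_assoc]
  rw [h2, hφ]
  simp

/-- `Q.map f = 0` iff `f` is null-homotopic, for a K-projective source -/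
lemma Q_map_eq_zero_iff (P L : CochainComplex C ℤ) [P.IsKProjective] (f : P ⟶ L) :
    Q.map f = 0 ↔ (HomotopyCategory.quotient C (ComplexShape.up ℤ)).map f = 0 := by
  let iP := (quotientCompQhIso C).app P
  let iL := (quotientCompQhIso C).app L
  have h1 := quotientCompQhIso_hom_naturality (C := C) f
  constructor
  · intro h
    apply (CochainComplex.IsKProjective.Qh_map_bijective P
      ((HomotopyCategory.quotient _ _).obj L)).1
    rw [Functor.map_zero, ← cancel_mono iL.hom, zero_comp]
    change Qh.map ((HomotopyCategory.quotient _ _).map f) ≫ (quotientCompQhIso C).hom.app L = 0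
    rw [h1, h, comp_zero]
  · intro h
    rw [← cancel_epi iP.hom, comp_zero]
    change (quotientCompQhIso C).hom.app P ≫ Q.map f = 0
    rw [← h1, h, Functor.map_zero, zero_comp]

variable (P : CochainComplex C ℤ)

/-- cocycles to morphisms in the derived category -/
noncomputable def Θ (L : CochainComplex C ℤ) (n : ℤ) (z : Cocycle P L n) :
    Q.obj P ⟶ (Q.obj L)⟦n⟧ :=
  Q.map (Cocycle.equivHomShift.symm z) ≫ ((Q.commShiftIso n).app L).hom

lemma Θ_sub (L : CochainComplex C ℤ) (n : ℤ) (z₁ z₂ : Cocycle P L n) :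
    Θ P L n (z₁ - z₂) = Θ P L n z₁ - Θ P L n z₂ := by
  unfold Θ
  rw [map_sub, Functor.map_sub, Preadditive.sub_comp]

lemma Θ_postcomp (L L' : CochainComplex C ℤ) (n : ℤ) (z : Cocycle P L n) (g : L ⟶ L') :
    Θ P L' n (z.postcomp g) = Θ P L n z ≫ (Q.map g)⟦n⟧' := by
  unfold Θ
  rw [Cocycle.equivHomShift_symm_postcomp, Functor.map_comp, Category.assoc, Category.assoc]
  congr 1
  exact ((Q.commShiftIso n).hom.naturality g)

variable [P.IsKProjective]

lemma Θ_surjective (L : CochainComplex C ℤ) (n : ℤ) (e : Q.obj P ⟶ (Q.obj L)⟦n⟧) :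
    ∃ z : Cocycle P L n, Θ P L n z = e := by
  obtain ⟨f, hf⟩ := exists_Q_map_eq P (L⟦n⟧) (e ≫ ((Q.commShiftIso n).app L).inv)
  refine ⟨Cocycle.equivHomShift f, ?_⟩
  unfold Θ
  rw [AddEquiv.symm_apply_apply, hf, Category.assoc, Iso.inv_hom_id, Category.comp_id]

lemma Θ_eq_zero_iff (L : CochainComplex C ℤ) (n : ℤ) (z : Cocycle P L n) :
    Θ P L n z = 0 ↔ z ∈ coboundaries P L n := by
  rw [← CohomologyClass.toHom_mk_eq_zero_iff, CohomologyClass.toHom_mk, ← Q_map_eq_zero_iff]
  unfold Θ
  constructor
  · intro h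
    rw [← cancel_mono ((Q.commShiftIso n).app L).hom, zero_comp]
    exact h
  · intro h
    rw [h, zero_comp]

end General

end Groth.Agent.Lib.H6xPExt
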