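import Mathlib
import Groth.Agent.Lib.H6xPExtA
set_option backward.isDefEq.respectTransparency.types false

/-!
# Morphisms from a K-projective complex to a module (helper6)
-/

set_option autoImplicit false
set_option linter.style.haveILetI false
universe u

namespace Groth.Agent.Lib.H6xPExt

open CategoryTheory CategoryTheory.Limits CochainComplex HomComplex DerivedCategory
attribute [local instance] HasDerivedCategory.standard

variable {A : Type u} [CommRing A] (P : CochainComplex (ModuleCat.{u} A) ℤ)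

/-- the morphism `P ⟶ M⟦n⟧` in `D(A)` attached to a map `z : P^{-n} ⟶ M` with `z ∘ d = 0` -/
noncomputable def E (M : ModuleCat.{u} A) {p n p' : ℤ} (h : p + n = 0) (hp' : p' + 1 = p)
    (z : P.X p ⟶ M) (hz : P.d p' p ≫ z = 0) :
    Q.obj P ⟶ ((DerivedCategory.singleFunctor (ModuleCat.{u} A) 0).obj M)⟦n⟧ :=
  Θ P ((CochainComplex.singleFunctor (ModuleCat.{u} A) 0).obj M) n
    (Cocycle.toSingleMk z h p' hp' hz)

lemma E_sub (M : ModuleCat.{u} A) {p n p' : ℤ} (h : p + n = 0) (hp' : p' + 1 = p)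
    (z₁ z₂ : P.X p ⟶ M) (hz₁ : P.d p' p ≫ z₁ = 0) (hz₂ : P.d p' p ≫ z₂ = 0) :
    E P M h hp' (z₁ - z₂) (by rw [Preadditive.comp_sub, hz₁, hz₂, sub_zero]) =
      E P M h hp' z₁ hz₁ - E P M h hp' z₂ hz₂ := by
  have h1 := Θ_sub P ((CochainComplex.singleFunctor (ModuleCat.{u} A) 0).obj M) n
    (Cocycle.toSingleMk z₁ h p' hp' hz₁) (Cocycle.toSingleMk z₂ h p' hp' hz₂)
  rw [← Cocycle.toSingleMk_sub] at h1
  exact h1

lemma E_postcomp (M M' : ModuleCat.{u} A) {p n p' : ℤ} (h : p + n = 0) (hp' : p' + 1 = p)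
    (z : P.X p ⟶ M) (hz : P.d p' p ≫ z = 0) (φ : M ⟶ M') :
    E P M h hp' z hz ≫ ((DerivedCategory.singleFunctor (ModuleCat.{u} A) 0).map φ)⟦n⟧' =
      E P M' h hp' (z ≫ φ) (by rw [reassoc_of% hz, zero_comp]) := by
  unfold E
  rw [Cocycle.toSingleMk_postcomp, Θ_postcomp]
  rfl

variable [P.IsKProjective]

lemma E_surjective (M : ModuleCat.{u} A) {p n p' : ℤ} (h : p + n = 0) (hp' : p' + 1 = p)
    (e : Q.obj P ⟶ ((DerivedCategory.singleFunctor (ModuleCat.{u} A) 0).obj M)⟦n⟧) :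
    ∃ (z : P.X p ⟶ M) (hz : P.d p' p ≫ z = 0), E P M h hp' z hz = e := by
  obtain ⟨ζ, hζ⟩ := Θ_surjective P ((CochainComplex.singleFunctor (ModuleCat.{u} A) 0).obj M) n e
  obtain ⟨z, hz, rfl⟩ := Cocycle.toSingleMk_surjective ζ p h p' hp'
  exact ⟨z, hz, hζ⟩

lemma E_eq_zero_iff (M : ModuleCat.{u} A) {p n p' p'' : ℤ} (h : p + n = 0) (hp' : p' + 1 = p)
    (hp'' : p + 1 = p'') (z : P.X p ⟶ M) (hz : P.d p' p ≫ z = 0) :
    E P M h hp' z hz = 0 ↔ ∃ g : P.X p'' ⟶ M, P.d p p'' ≫ g = z := by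
  exact (Θ_eq_zero_iff P ((CochainComplex.singleFunctor (ModuleCat.{u} A) 0).obj M) n
    (Cocycle.toSingleMk z h p' hp' hz)).trans
    (Cocycle.toSingleMk_mem_coboundaries_iff z h p' hp' hz p'' hp'')

end Groth.Agent.Lib.H6xPExt
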