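import Mathlib
set_option backward.isDefEq.respectTransparency.types false

/-!
# Artin–Rees type lemmas for maps out of finite free modules (helper6)
-/

set_option autoImplicit false
set_option linter.style.haveILetI false
universe u

namespace Groth.Agent.Lib.H6xPExt

section Modules

variable {A : Type u} [CommRing A]

/-- a linear map from a finite free module with values in `J • ⊤` lies in `J • ⊤` -/
lemma mem_smul_top_of_forall_mem (J : Ideal A) {X M : Type*} [AddCommGroup X] [Module A X]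
    [Module.Finite A X] [Module.Free A X] [AddCommGroup M] [Module A M] (z : X →ₗ[A] M)
    (hz : ∀ x, z x ∈ (J • ⊤ : Submodule A M)) : z ∈ (J • ⊤ : Submodule A (X →ₗ[A] M)) := by
  classical
  let b := Module.Free.chooseBasis A X
  have h1 : z = ∑ j, (LinearMap.smulRightₗ (b.coord j) : M →ₗ[A] X →ₗ[A] M) (z (b j)) := by
    apply b.ext
    intro k
    rw [LinearMap.sum_apply]
    simp only [LinearMap.smulRightₗ_apply_apply, Module.Basis.coord_apply, Module.Basis.repr_self]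
    rw [Finset.sum_eq_single k]
    · simp
    · intro j _ hjk
      rw [Finsupp.single_apply, if_neg (Ne.symm hjk), zero_smul]
    · simp
  rw [h1]
  refine Submodule.sum_mem _ (fun j _ => ?_)
  have h2 : (J • ⊤ : Submodule A M).map
      (LinearMap.smulRightₗ (b.coord j) : M →ₗ[A] X →ₗ[A] M) ≤ J • ⊤ := by
    rw [Submodule.map_smul'']
    exact Submodule.smul_mono le_rfl le_top
  exact h2 (Submodule.mem_map_of_mem (hz _))

/-- a linear map in `J • ⊤` has values in `J • ⊤` -/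
lemma forall_mem_of_mem_smul_top (J : Ideal A) {X M : Type*} [AddCommGroup X] [Module A X]
    [AddCommGroup M] [Module A M] (z : X →ₗ[A] M)
    (hz : z ∈ (J • ⊤ : Submodule A (X →ₗ[A] M))) (x : X) : z x ∈ (J • ⊤ : Submodule A M) := by
  have h2 : (J • ⊤ : Submodule A (X →ₗ[A] M)).map (LinearMap.applyₗ x) ≤ J • ⊤ := by
    rw [Submodule.map_smul'']
    exact Submodule.smul_mono le_rfl le_top
  exact h2 (Submodule.mem_map_of_mem hz)

/-- consequence of Artin–Rees -/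
lemma exists_pow_inf_le (I : Ideal A) [IsNoetherianRing A] {H : Type*} [AddCommGroup H]
    [Module A H] [Module.Finite A H] (Z : Submodule A H) (c : ℕ) :
    ∃ m : ℕ, ∀ m' ≥ m, (I ^ m' • ⊤ ⊓ Z : Submodule A H) ≤ I ^ c • Z := by
  obtain ⟨k, hk⟩ := Ideal.exists_pow_inf_eq_pow_smul I Z
  refine ⟨k + c, fun m' hm' => ?_⟩
  rw [hk m' (by omega)]
  exact Submodule.smul_mono (Ideal.pow_le_pow_right (by omega)) inf_le_right

/-- pointwise `I`-power torsion modulo `B` is uniform on a finitely generated submodule -/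
lemma exists_pow_smul_le (I : Ideal A) {H : Type*} [AddCommGroup H] [Module A H]
    (Z B : Submodule A H) (hZ : Z.FG)
    (h : ∀ z ∈ Z, ∃ n : ℕ, ∀ x ∈ I ^ n, x • z ∈ B) : ∃ c : ℕ, I ^ c • Z ≤ B := by
  classical
  obtain ⟨S, hS⟩ := hZ
  have h' : ∀ s : H, ∃ n : ℕ, s ∈ S → ∀ x ∈ I ^ n, x • s ∈ B := by
    intro s
    by_cases hs : s ∈ S
    · obtain ⟨n, hn⟩ := h s (hS ▸ Submodule.subset_span hs)
      exact ⟨n, fun _ => hn⟩
    · exact ⟨0, fun h => absurd h hs⟩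
  choose n hn using h'
  refine ⟨S.sup n, ?_⟩
  rw [Submodule.smul_le]
  intro r hr z hz
  have h3 : Z ≤ B.comap (r • (LinearMap.id : H →ₗ[A] H)) := by
    rw [← hS, Submodule.span_le]
    intro s hs
    exact hn s hs r (Ideal.pow_le_pow_right (Finset.le_sup hs) hr)
  exact h3 hz

variable {X₁ X₀ X₂ M : Type u} [AddCommGroup X₁] [Module A X₁] [AddCommGroup X₀] [Module A X₀]
  [AddCommGroup X₂] [Module A X₂] [AddCommGroup M] [Module A M]

/-- injectivity part, module level -/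
lemma exists_inj_bound [IsNoetherianRing A] (I : Ideal A) [Module.Finite A M]
    [Module.Finite A X₀] [Module.Free A X₀] [Module.Projective A X₂]
    (d₁ : X₁ →ₗ[A] X₀) (d₀ : X₀ →ₗ[A] X₂) (hd : d₀ ∘ₗ d₁ = 0)
    (h : ∀ z : X₀ →ₗ[A] M, z ∘ₗ d₁ = 0 → ∃ n : ℕ, ∀ x ∈ I ^ n, ∃ g : X₂ →ₗ[A] M,
      g ∘ₗ d₀ = x • z) :
    ∃ m : ℕ, ∀ z : X₀ →ₗ[A] M, z ∘ₗ d₁ = 0 →
      (∃ g' : X₂ →ₗ[A] M ⧸ (I ^ m • ⊤ : Submodule A M),
        g' ∘ₗ d₀ = (I ^ m • ⊤ : Submodule A M).mkQ ∘ₗ z) → ∃ g : X₂ →ₗ[A] M, g ∘ₗ d₀ = z := by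
  let Z : Submodule A (X₀ →ₗ[A] M) := LinearMap.ker (LinearMap.lcomp A M d₁)
  let B : Submodule A (X₀ →ₗ[A] M) := LinearMap.range (LinearMap.lcomp A M d₀)
  have hZ : Z.FG := IsNoetherian.noetherian Z
  obtain ⟨c, hc⟩ := exists_pow_smul_le I Z B hZ (by
    intro z hz
    obtain ⟨n, hn⟩ := h z hz
    refine ⟨n, fun x hx => ?_⟩
    obtain ⟨g, hg⟩ := hn x hx
    exact ⟨g, hg⟩)
  obtain ⟨m, hm⟩ := exists_pow_inf_le I Z c
  refine ⟨m, ?_⟩
  intro z hz ⟨g', hg'⟩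
  obtain ⟨g, hg⟩ := Module.projective_lifting_property (I ^ m • ⊤ : Submodule A M).mkQ g'
    (Submodule.mkQ_surjective _)
  have h1 : z - g ∘ₗ d₀ ∈ (I ^ m • ⊤ : Submodule A (X₀ →ₗ[A] M)) := by
    apply mem_smul_top_of_forall_mem
    intro x
    rw [← Submodule.Quotient.mk_eq_zero, LinearMap.sub_apply, Submodule.Quotient.mk_sub]
    have h2 := LinearMap.congr_fun hg' x
    have h3 := LinearMap.congr_fun hg (d₀ x)
    simp only [LinearMap.comp_apply, Submodule.mkQ_apply] at h2 h3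
    rw [LinearMap.comp_apply, h3, h2, sub_self]
  have h2 : z - g ∘ₗ d₀ ∈ Z := by
    change (z - g ∘ₗ d₀) ∘ₗ d₁ = 0
    rw [LinearMap.sub_comp, hz, LinearMap.comp_assoc, hd, LinearMap.comp_zero, sub_zero]
  obtain ⟨g₂, hg₂⟩ := hc (hm m le_rfl ⟨h1, h2⟩)
  refine ⟨g₂ + g, ?_⟩
  have h3 : g₂ ∘ₗ d₀ = z - g ∘ₗ d₀ := hg₂
  rw [LinearMap.add_comp, h3, sub_add_cancel]

/-- Mittag-Leffler part, module level -/
lemma exists_surj_bound [IsNoetherianRing A] (I : Ideal A) [Module.Finite A M]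
    [Module.Finite A X₁] [Module.Free A X₁] [Module.Projective A X₀]
    (d₁ : X₁ →ₗ[A] X₀) (n : ℕ) :
    ∃ (m' : ℕ) (hnm : n ≤ m'), ∀ x : X₀ →ₗ[A] M ⧸ (I ^ m' • ⊤ : Submodule A M), x ∘ₗ d₁ = 0 →
      ∃ y : X₀ →ₗ[A] M, y ∘ₗ d₁ = 0 ∧ (I ^ n • ⊤ : Submodule A M).mkQ ∘ₗ y =
        (Submodule.mapQ (I ^ m' • ⊤ : Submodule A M) (I ^ n • ⊤ : Submodule A M)
          (LinearMap.id : M →ₗ[A] M)
          (Submodule.smul_mono_left (Ideal.pow_le_pow_right hnm))) ∘ₗ x := by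
  let B : Submodule A (X₁ →ₗ[A] M) := LinearMap.range (LinearMap.lcomp A M d₁)
  obtain ⟨m₀, hm₀⟩ := exists_pow_inf_le I B n
  refine ⟨max m₀ n, le_max_right _ _, ?_⟩
  intro x hx
  obtain ⟨x', hx'⟩ := Module.projective_lifting_property
    (I ^ (max m₀ n) • ⊤ : Submodule A M).mkQ x (Submodule.mkQ_surjective _)
  have h1 : x' ∘ₗ d₁ ∈ (I ^ (max m₀ n) • ⊤ : Submodule A (X₁ →ₗ[A] M)) := by
    apply mem_smul_top_of_forall_mem
    intro t
    rw [← Submodule.Quotient.mk_eq_zero]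
    have h2 := LinearMap.congr_fun hx' (d₁ t)
    have h3 := LinearMap.congr_fun hx t
    simp only [LinearMap.comp_apply, Submodule.mkQ_apply] at h2 h3
    rw [LinearMap.comp_apply, h2, h3]
    rfl
  have h2 : x' ∘ₗ d₁ ∈ B := ⟨x', rfl⟩
  have h3 := hm₀ (max m₀ n) (le_max_left _ _) ⟨h1, h2⟩
  have h4 : (I ^ n • B : Submodule A (X₁ →ₗ[A] M)) =
      (I ^ n • ⊤ : Submodule A (X₀ →ₗ[A] M)).map (LinearMap.lcomp A M d₁) := by
    rw [Submodule.map_smul'', Submodule.map_top]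
  rw [h4] at h3
  obtain ⟨w, hw, hw'⟩ := h3
  have hw'' : w ∘ₗ d₁ = x' ∘ₗ d₁ := hw'
  refine ⟨x' - w, ?_, ?_⟩
  · rw [LinearMap.sub_comp, hw'', sub_self]
  · apply LinearMap.ext
    intro t
    have h5 := forall_mem_of_mem_smul_top _ w hw t
    have h6 := LinearMap.congr_fun hx' t
    simp only [LinearMap.comp_apply, Submodule.mkQ_apply] at h6
    simp only [LinearMap.comp_apply, Submodule.mkQ_apply, LinearMap.sub_apply,
      Submodule.Quotient.mk_sub]
    rw [(Submodule.Quotient.mk_eq_zero _).2 h5, sub_zero, ← h6, Submodule.mapQ_apply]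
    rfl

end Modules

end Groth.Agent.Lib.H6xPExt
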