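import Mathlib
import Groth.Prelude.Def_DRing2
import Groth.Agent.Lib.H6xPExtB
import Groth.Agent.Lib.H6xPExtC
set_option backward.isDefEq.respectTransparency.types false

/-!
# `Ext` from a bounded above complex of finite free modules to `M/IⁿM` (helper6)
-/

set_option autoImplicit false
set_option linter.style.haveILetI false
universe u

namespace Groth.Agent.Lib.H6xPExt

open CategoryTheory CategoryTheory.Limits CochainComplex HomComplex DerivedCategory
attribute [local instance] HasDerivedCategory.standard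

variable {A : Type u} [CommRing A] (P : CochainComplex (ModuleCat.{u} A) ℤ)

lemma E_congr (M : ModuleCat.{u} A) {p n p' : ℤ} (h : p + n = 0) (hp' : p' + 1 = p)
    (z z' : P.X p ⟶ M) (hz : P.d p' p ≫ z = 0) (hz' : P.d p' p ≫ z' = 0) (hzz : z = z') :
    E P M h hp' z hz = E P M h hp' z' hz' := by
  subst hzz
  rfl

lemma smul_E (M : ModuleCat.{u} A) {p n p' : ℤ} (h : p + n = 0) (hp' : p' + 1 = p)
    (z : P.X p ⟶ M) (hz : P.d p' p ≫ z = 0) (x : A) :
    x • E P M h hp' z hz = E P M h hp' (x • z) (by rw [Linear.comp_smul, hz, smul_zero]) := by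
  have h1 := E_postcomp P M M h hp' z hz (x • 𝟙 M)
  rw [Functor.map_smul, Functor.map_smul, CategoryTheory.Functor.map_id,
    CategoryTheory.Functor.map_id, Linear.comp_smul,
    Category.comp_id] at h1
  rw [h1]
  exact E_congr P M h hp' _ _ _ _ (by rw [Linear.comp_smul, Category.comp_id])

variable [P.IsKProjective]

theorem essentially_constant_P [IsNoetherianRing A]
    (hP : ∀ i : ℤ, Module.Finite A (P.X i) ∧ Module.Free A (P.X i)) (I : Ideal A)
    (M : Type u) [AddCommGroup M] [Module A M] [Module.Finite A M] (i : ℤ)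
    (htors : ∀ e : Q.obj P ⟶ (Dual.inD A M)⟦i⟧, ∃ n : ℕ, ∀ x ∈ I ^ n, x • e = 0) :
    (∃ m : ℕ, ∀ e : Q.obj P ⟶ (Dual.inD A M)⟦i⟧,
      e ≫ ((DerivedCategory.singleFunctor (ModuleCat.{u} A) 0).map
        (ModuleCat.ofHom (I ^ m • ⊤ : Submodule A M).mkQ))⟦i⟧' = 0 → e = 0) ∧
    ∀ n : ℕ, ∃ (m' : ℕ) (hnm : n ≤ m'),
      ∀ x : Q.obj P ⟶ (Dual.inD A (M ⧸ (I ^ m' • ⊤ : Submodule A M)))⟦i⟧,
      ∃ y : Q.obj P ⟶ (Dual.inD A M)⟦i⟧,
        y ≫ ((DerivedCategory.singleFunctor (ModuleCat.{u} A) 0).map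
          (ModuleCat.ofHom (I ^ n • ⊤ : Submodule A M).mkQ))⟦i⟧' =
        x ≫ ((DerivedCategory.singleFunctor (ModuleCat.{u} A) 0).map (ModuleCat.ofHom
          (Submodule.mapQ (I ^ m' • ⊤ : Submodule A M) (I ^ n • ⊤ : Submodule A M)
            (LinearMap.id : M →ₗ[A] M)
            (Submodule.smul_mono_left (Ideal.pow_le_pow_right hnm)))))⟦i⟧' := by
  have h : (-i) + i = 0 := by omega
  have hp' : (-i - 1) + 1 = -i := by omega
  have hp'' : -i + 1 = (-i + 1) := rfl
  haveI := (hP (-i)).1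
  haveI := (hP (-i)).2
  haveI := (hP (-i - 1)).1
  haveI := (hP (-i - 1)).2
  haveI := (hP (-i + 1)).1
  haveI := (hP (-i + 1)).2
  constructor
  · obtain ⟨m, hm⟩ := exists_inj_bound (M := M) I (P.d (-i - 1) (-i)).hom
      (P.d (-i) (-i + 1)).hom (by rw [← ModuleCat.hom_comp, P.d_comp_d]; rfl) (by
      intro z hz
      have hz' : P.d (-i - 1) (-i) ≫ (ModuleCat.ofHom z : P.X (-i) ⟶ ModuleCat.of A M) = 0 := by
        apply ModuleCat.hom_ext
        exact hz
      obtain ⟨n, hn⟩ := htors (E P (ModuleCat.of A M) h hp' (ModuleCat.ofHom z) hz')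
      refine ⟨n, fun x hx => ?_⟩
      have h1 := hn x hx
      rw [smul_E, E_eq_zero_iff P _ h hp' hp''] at h1
      obtain ⟨g, hg⟩ := h1
      refine ⟨g.hom, ?_⟩
      have := congrArg ModuleCat.Hom.hom hg
      exact this)
    refine ⟨m, fun e he => ?_⟩
    obtain ⟨z, hz, rfl⟩ := E_surjective P (ModuleCat.of A M) h hp' e
    rw [E_postcomp, E_eq_zero_iff P _ h hp' hp''] at he
    obtain ⟨g', hg'⟩ := he
    obtain ⟨g, hg⟩ := hm z.hom (by rw [← ModuleCat.hom_comp, hz]; rfl) ⟨g'.hom, by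
      have := congrArg ModuleCat.Hom.hom hg'
      exact this⟩
    rw [E_eq_zero_iff P _ h hp' hp'']
    exact ⟨ModuleCat.ofHom g, by apply ModuleCat.hom_ext; exact hg⟩
  · intro n
    obtain ⟨m', hnm, hm'⟩ := exists_surj_bound (M := M) I (P.d (-i - 1) (-i)).hom n
    refine ⟨m', hnm, fun x => ?_⟩
    obtain ⟨z, hz, rfl⟩ := E_surjective P
      (ModuleCat.of A (M ⧸ (I ^ m' • ⊤ : Submodule A M))) h hp' x
    obtain ⟨y, hy, hy'⟩ := hm' z.hom (by rw [← ModuleCat.hom_comp, hz]; rfl)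
    refine ⟨E P (ModuleCat.of A M) h hp' (ModuleCat.ofHom y)
      (by apply ModuleCat.hom_ext; exact hy), ?_⟩
    rw [E_postcomp, E_postcomp]
    apply E_congr
    apply ModuleCat.hom_ext
    exact hy'

end Groth.Agent.Lib.H6xPExt
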