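import Mathlib
import Groth.Prelude.Def_DRing2
import Groth.Agent.Lib.H6xPExtD
set_option backward.isDefEq.respectTransparency.types false

/-!
# The linear map from cocycles to `Ext`, and the Artin–Rees bound on the image of
`Ext(K, IⁿM) → Ext(K, M)` (helper6)
-/

set_option autoImplicit false
set_option linter.style.haveILetI false
universe u

namespace Groth.Agent.Lib.H6xPExt

open CategoryTheory CategoryTheory.Limits CochainComplex HomComplex DerivedCategory
attribute [local instance] HasDerivedCategory.standard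

section General

variable {C : Type*} [Category C] [Abelian C] [HasDerivedCategory C]
  (P : CochainComplex C ℤ)

lemma Θ_add (L : CochainComplex C ℤ) (n : ℤ) (z₁ z₂ : Cocycle P L n) :
    Θ P L n (z₁ + z₂) = Θ P L n z₁ + Θ P L n z₂ := by
  unfold Θ
  rw [map_add, Functor.map_add, Preadditive.add_comp]

end General

variable {A : Type u} [CommRing A] (P : CochainComplex (ModuleCat.{u} A) ℤ)

lemma E_add (M : ModuleCat.{u} A) {p n p' : ℤ} (h : p + n = 0) (hp' : p' + 1 = p)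
    (z₁ z₂ : P.X p ⟶ M) (hz₁ : P.d p' p ≫ z₁ = 0) (hz₂ : P.d p' p ≫ z₂ = 0) :
    E P M h hp' (z₁ + z₂) (by rw [Preadditive.comp_add, hz₁, hz₂, add_zero]) =
      E P M h hp' z₁ hz₁ + E P M h hp' z₂ hz₂ := by
  have h1 := Θ_add P ((CochainComplex.singleFunctor (ModuleCat.{u} A) 0).obj M) n
    (Cocycle.toSingleMk z₁ h p' hp' hz₁) (Cocycle.toSingleMk z₂ h p' hp' hz₂)
  rw [← Cocycle.toSingleMk_add] at h1
  exact h1

/-- the module of cocycles `P^p → M` -/
def Zsub (M : Type u) [AddCommGroup M] [Module A M] (p p' : ℤ) :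
    Submodule A (P.X p →ₗ[A] M) :=
  LinearMap.ker (LinearMap.lcomp A M (P.d p' p).hom)

lemma mem_Zsub_iff (M : Type u) [AddCommGroup M] [Module A M] (p p' : ℤ)
    (z : P.X p →ₗ[A] M) : z ∈ Zsub P M p p' ↔
      P.d p' p ≫ (ModuleCat.ofHom z : P.X p ⟶ ModuleCat.of A M) = 0 := by
  constructor
  · intro hz
    apply ModuleCat.hom_ext
    exact hz
  · intro hz
    exact congrArg ModuleCat.Hom.hom hz

/-- cocycles to `Ext`, as a linear map -/
noncomputable def Elin (M : Type u) [AddCommGroup M] [Module A M] {p n p' : ℤ}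
    (h : p + n = 0) (hp' : p' + 1 = p) :
    Zsub P M p p' →ₗ[A] (Q.obj P ⟶ (Dual.inD A M)⟦n⟧) where
  toFun z := E P (ModuleCat.of A M) h hp' (ModuleCat.ofHom z.1) ((mem_Zsub_iff P M p p' z.1).1 z.2)
  map_add' z₁ z₂ := by
    rw [← E_add]
    exact E_congr P _ h hp' _ _ _ _ rfl
  map_smul' x z := by
    rw [RingHom.id_apply, smul_E]
    exact E_congr P _ h hp' _ _ _ _ rfl

variable [P.IsKProjective]

theorem pow_image_P [IsNoetherianRing A]
    (hP : ∀ i : ℤ, Module.Finite A (P.X i) ∧ Module.Free A (P.X i)) (I : Ideal A)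
    (M : Type u) [AddCommGroup M] [Module A M] [Module.Finite A M] (i : ℤ) :
    ∃ c : ℕ, ∀ n : ℕ, c ≤ n →
      ∀ e : Q.obj P ⟶ (Dual.inD A ↥(I ^ n • ⊤ : Submodule A M))⟦i⟧,
        e ≫ ((DerivedCategory.singleFunctor (ModuleCat.{u} A) 0).map
              (ModuleCat.ofHom (I ^ n • ⊤ : Submodule A M).subtype))⟦i⟧' ∈
          (I ^ (n - c) • ⊤ : Submodule A (Q.obj P ⟶ (Dual.inD A M)⟦i⟧)) := by
  have h : (-i) + i = 0 := by omega
  have hp' : (-i - 1) + 1 = -i := by omega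
  haveI := (hP (-i)).1
  haveI := (hP (-i)).2
  obtain ⟨k, hk⟩ := Ideal.exists_pow_inf_eq_pow_smul I (Zsub P M (-i) (-i - 1))
  refine ⟨k, fun n hn e => ?_⟩
  obtain ⟨z, hz, rfl⟩ := E_surjective P
    (ModuleCat.of A ↥(I ^ n • ⊤ : Submodule A M)) h hp' e
  rw [E_postcomp]
  let z' : P.X (-i) →ₗ[A] M := (I ^ n • ⊤ : Submodule A M).subtype ∘ₗ z.hom
  have hz'Z : z' ∈ Zsub P M (-i) (-i - 1) := by
    rw [mem_Zsub_iff]
    have : (ModuleCat.ofHom z' : P.X (-i) ⟶ ModuleCat.of A M) =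
        z ≫ ModuleCat.ofHom (I ^ n • ⊤ : Submodule A M).subtype := rfl
    rw [this, reassoc_of% hz, zero_comp]
  have hz'I : z' ∈ (I ^ n • ⊤ : Submodule A (P.X (-i) →ₗ[A] M)) := by
    apply mem_smul_top_of_forall_mem
    intro x
    exact (z.hom x).2
  have h1 : z' ∈ I ^ (n - k) • Zsub P M (-i) (-i - 1) := by
    have h2 : z' ∈ (I ^ n • ⊤ ⊓ Zsub P M (-i) (-i - 1) : Submodule A (P.X (-i) →ₗ[A] M)) :=
      ⟨hz'I, hz'Z⟩
    rw [hk n hn] at h2
    exact Submodule.smul_mono le_rfl inf_le_right h2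
  have h2 : (⟨z', hz'Z⟩ : Zsub P M (-i) (-i - 1)) ∈
      (I ^ (n - k) • ⊤ : Submodule A (Zsub P M (-i) (-i - 1))) := by
    rw [Submodule.mem_smul_top_iff]
    exact h1
  have h3 : (I ^ (n - k) • ⊤ : Submodule A (Zsub P M (-i) (-i - 1))).map (Elin P M h hp') ≤
      I ^ (n - k) • ⊤ := by
    rw [Submodule.map_smul'']
    exact Submodule.smul_mono le_rfl le_top
  have h4 := h3 (Submodule.mem_map_of_mem h2)
  have h5 : Elin P M h hp' ⟨z', hz'Z⟩ = E P (ModuleCat.of A M) h hp'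
      (z ≫ ModuleCat.ofHom (I ^ n • ⊤ : Submodule A M).subtype)
      (by rw [reassoc_of% hz, zero_comp]) :=
    E_congr P _ h hp' _ _ _ _ rfl
  rw [h5] at h4
  exact h4

end Groth.Agent.Lib.H6xPExt
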