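import Mathlib
import Groth.Prelude.Def_DRing2
import Groth.Agent.Lib.H6xDualA
set_option backward.isDefEq.respectTransparency.types false

/-!
# Artin–Rees factorization of `Ext^p(M, N) → Ext^p(IⁿM, N)` through `Ext^p(IⁿM, I^(n-c)N)` (helper6)
-/

set_option autoImplicit false
set_option linter.style.haveILetI false
universe u

namespace Groth.Agent.Lib.H6xPExt

open CategoryTheory CategoryTheory.Limits Category Pretriangulated DerivedCategory
open Groth.Agent.Lib.H6xDual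
attribute [local instance] HasDerivedCategory.standard

variable {A : Type u} [CommRing A]

/-- no higher `Ext` out of a projective module -/
theorem subsingleton_hom_of_projective' (P : ModuleCat.{u} A) [Projective P] (N : ModuleCat.{u} A)
    (k : ℕ) (hk : 0 < k) :
    Subsingleton (sg P ⟶ (sg N)⟦(k : ℤ)⟧) := by
  haveI : HasExt.{u + 1} (ModuleCat.{u} A) := hasExt_of_hasDerivedCategory _
  obtain ⟨k', rfl⟩ := Nat.exists_eq_succ_of_ne_zero (Nat.pos_iff_ne_zero.1 hk)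
  refine @Equiv.subsingleton _ _ (Abelian.Ext.homEquiv (X := P) (Y := N) (n := k' + 1)).symm
    ⟨fun a b => ?_⟩
  rw [Abelian.Ext.eq_zero_of_projective a, Abelian.Ext.eq_zero_of_projective b]

/-- the Artin–Rees factorization property -/
def ARFac (I : Ideal A) (M : Type u) [AddCommGroup M] [Module A M] {Y : Dual.D A}
    (Yk : ℕ → Dual.D A) (ι : ∀ k, Yk k ⟶ Y) : Prop :=
  ∃ c : ℕ, ∀ n k : ℕ, k + c ≤ n → ∀ e : Dual.inD A M ⟶ Y,
    ∃ e' : Dual.inD A ↥(I ^ n • ⊤ : Submodule A M) ⟶ Yk k,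
      e' ≫ ι k = (DerivedCategory.singleFunctor (ModuleCat.{u} A) 0).map
        (ModuleCat.ofHom (I ^ n • ⊤ : Submodule A M).subtype) ≫ e

lemma ARFac_of_iso (I : Ideal A) (M : Type u) [AddCommGroup M] [Module A M] {Y Y' : Dual.D A}
    (Yk Yk' : ℕ → Dual.D A) (ι : ∀ k, Yk k ⟶ Y) (ι' : ∀ k, Yk' k ⟶ Y')
    (φ : Y ≅ Y') (φk : ∀ k, Yk k ≅ Yk' k) (h : ∀ k, ι k ≫ φ.hom = (φk k).hom ≫ ι' k)
    (H : ARFac I M Yk ι) : ARFac I M Yk' ι' := by
  obtain ⟨c, hc⟩ := H
  refine ⟨c, fun n k hk e => ?_⟩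
  obtain ⟨e', he'⟩ := hc n k hk (e ≫ φ.inv)
  refine ⟨e' ≫ (φk k).hom, ?_⟩
  rw [assoc, ← h k, reassoc_of% he', Iso.inv_hom_id, comp_id]

/-- base case: degree `0` -/
lemma ARFac_zero (I : Ideal A) (M N : Type u) [AddCommGroup M] [Module A M]
    [AddCommGroup N] [Module A N] :
    ARFac I M (fun k => Dual.inD A ↥(I ^ k • ⊤ : Submodule A N))
      (fun k => (DerivedCategory.singleFunctor (ModuleCat.{u} A) 0).map
        (ModuleCat.ofHom (I ^ k • ⊤ : Submodule A N).subtype)) := by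
  refine ⟨0, fun n k hk e => ?_⟩
  obtain ⟨φ, rfl⟩ := (DerivedCategory.singleFunctor (ModuleCat.{u} A) 0).map_surjective e
  have h1 : ∀ x ∈ (I ^ n • ⊤ : Submodule A M), φ.hom x ∈ (I ^ k • ⊤ : Submodule A N) := by
    intro x hx
    have h2 : (I ^ n • ⊤ : Submodule A M).map φ.hom ≤ I ^ k • ⊤ := by
      rw [Submodule.map_smul'']
      exact Submodule.smul_mono (Ideal.pow_le_pow_right (by omega)) le_top
    exact h2 (Submodule.mem_map_of_mem hx)
  refine ⟨(DerivedCategory.singleFunctor (ModuleCat.{u} A) 0).map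
    (ModuleCat.ofHom (φ.hom.restrict h1)), ?_⟩
  rw [← Functor.map_comp, ← Functor.map_comp]
  congr 1

section Step

variable [IsNoetherianRing A] (I : Ideal A) {M : Type u} [AddCommGroup M] [Module A M]
  {F : Type u} [AddCommGroup F] [Module A F] (π : F →ₗ[A] M)

lemma map_mem_pow_smul_top (n : ℕ) (x : F) (hx : x ∈ (I ^ n • ⊤ : Submodule A F)) :
    π x ∈ (I ^ n • ⊤ : Submodule A M) := by
  have h2 : (I ^ n • ⊤ : Submodule A F).map π ≤ I ^ n • ⊤ := by
    rw [Submodule.map_smul'']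
    exact Submodule.smul_mono le_rfl le_top
  exact h2 (Submodule.mem_map_of_mem hx)

/-- `π` restricted to `IⁿF → IⁿM` -/
def πn (n : ℕ) : ↥(I ^ n • ⊤ : Submodule A F) →ₗ[A] ↥(I ^ n • ⊤ : Submodule A M) :=
  π.restrict (map_mem_pow_smul_top I π n)

lemma πn_surjective (hπ : Function.Surjective π) (n : ℕ) : Function.Surjective (πn I π n) := by
  intro ⟨y, hy⟩
  have h2 : (I ^ n • ⊤ : Submodule A F).map π = I ^ n • ⊤ := by
    rw [Submodule.map_smul'', Submodule.map_top, LinearMap.range_eq_top.2 hπ]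
  rw [← h2] at hy
  obtain ⟨x, hx, rfl⟩ := hy
  exact ⟨⟨x, hx⟩, rfl⟩

lemma mem_ker_of_mem_ker_πn (n : ℕ) (x : ↥(I ^ n • ⊤ : Submodule A F))
    (hx : x ∈ LinearMap.ker (πn I π n)) : (x : F) ∈ LinearMap.ker π := by
  have h1 : πn I π n x = 0 := hx
  have h2 := congrArg Subtype.val h1
  exact h2

/-- `ker (IⁿF → IⁿM) → ker π` -/
def τ₁ (n : ℕ) : ↥(LinearMap.ker (πn I π n)) →ₗ[A] ↥(LinearMap.ker π) :=
  (I ^ n • ⊤ : Submodule A F).subtype.restrict (mem_ker_of_mem_ker_πn I π n)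

/-- the morphism of short exact sequences -/
noncomputable def sesMap (n : ℕ) : (πn I π n).shortComplexKer ⟶ π.shortComplexKer where
  τ₁ := ModuleCat.ofHom (τ₁ I π n)
  τ₂ := ModuleCat.ofHom (I ^ n • ⊤ : Submodule A F).subtype
  τ₃ := ModuleCat.ofHom (I ^ n • ⊤ : Submodule A M).subtype
  comm₁₂ := rfl
  comm₂₃ := rfl

include I in
theorem ARFac_step [Module.Finite A F] {Y : Dual.D A} (Yk : ℕ → Dual.D A) (ι : ∀ k, Yk k ⟶ Y)
    (hπ : Function.Surjective π) (hF : Subsingleton (Dual.inD A F ⟶ Y⟦(1 : ℤ)⟧))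
    (hK : ARFac I ↥(LinearMap.ker π) Yk ι) :
    ARFac I M (fun k => (Yk k)⟦(1 : ℤ)⟧) (fun k => (ι k)⟦(1 : ℤ)⟧') := by
  obtain ⟨c', hc'⟩ := hK
  obtain ⟨c₀, hc₀⟩ := Ideal.exists_pow_inf_eq_pow_smul I (LinearMap.ker π)
  refine ⟨c₀ + c', fun m k hk e => ?_⟩
  have hS := LinearMap.shortExact_shortComplexKer hπ
  have hSm := LinearMap.shortExact_shortComplexKer (πn_surjective I π hπ m)
  have h0 : (DerivedCategory.singleFunctor (ModuleCat.{u} A) 0).map (ModuleCat.ofHom π) ≫ e = 0 :=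
    @Subsingleton.elim _ hF _ _
  obtain ⟨g, hg⟩ := Triangle.yoneda_exact₃ _ hS.singleTriangle_distinguished e h0
  obtain ⟨η, rfl⟩ := (shiftFunctor (Dual.D A) (1 : ℤ)).map_surjective g
  have hAR : (I ^ m • ⊤ ⊓ LinearMap.ker π : Submodule A F) ≤ I ^ (m - c₀) • LinearMap.ker π := by
    rw [hc₀ m (by omega)]
    exact Submodule.smul_mono le_rfl inf_le_right
  obtain ⟨η', hη'⟩ := hc' (m - c₀) k (by omega) η
  have hj : ∀ x : ↥(LinearMap.ker (πn I π m)),
      τ₁ I π m x ∈ (I ^ (m - c₀) • ⊤ : Submodule A ↥(LinearMap.ker π)) := by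
    intro x
    rw [Submodule.mem_smul_top_iff]
    exact hAR ⟨x.1.2, mem_ker_of_mem_ker_πn I π m x.1 x.2⟩
  let j := LinearMap.codRestrict _ (τ₁ I π m) hj
  have hjτ : ModuleCat.ofHom j ≫
      ModuleCat.ofHom (I ^ (m - c₀) • ⊤ : Submodule A ↥(LinearMap.ker π)).subtype =
      ModuleCat.ofHom (τ₁ I π m) := rfl
  have hnat := (ShortComplex.ShortExact.singleTriangle.map hSm hS (sesMap I π m)).comm₃
  refine ⟨hSm.singleδ ≫ ((DerivedCategory.singleFunctor (ModuleCat.{u} A) 0).map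
    (ModuleCat.ofHom j) ≫ η')⟦(1 : ℤ)⟧', ?_⟩
  rw [assoc, ← Functor.map_comp, assoc, hη', ← assoc, ← Functor.map_comp, hjτ, Functor.map_comp,
    hg]
  exact (reassoc_of% hnat) ((shiftFunctor (Dual.D A) (1 : ℤ)).map η)

end Step

theorem ARFac_shift [IsNoetherianRing A] (I : Ideal A) (N : Type u) [AddCommGroup N] [Module A N]
    (q : ℕ) : ∀ (M : Type u) [AddCommGroup M] [Module A M] [Module.Finite A M],
      ARFac I M (fun k => (Dual.inD A ↥(I ^ k • ⊤ : Submodule A N))⟦(q : ℤ)⟧)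
        (fun k => ((DerivedCategory.singleFunctor (ModuleCat.{u} A) 0).map
          (ModuleCat.ofHom (I ^ k • ⊤ : Submodule A N).subtype))⟦(q : ℤ)⟧') := by
  induction q with
  | zero =>
    intro M _ _ _
    refine ARFac_of_iso I M _ _ _ _
      ((shiftFunctorZero' (Dual.D A) ((0 : ℕ) : ℤ) (by simp)).app _).symm
      (fun k => ((shiftFunctorZero' (Dual.D A) ((0 : ℕ) : ℤ) (by simp)).app _).symm) ?_
      (ARFac_zero I M N)
    intro k
    exact (shiftFunctorZero' (Dual.D A) ((0 : ℕ) : ℤ) (by simp)).inv.naturality _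
  | succ q ih =>
    intro M _ _ _
    obtain ⟨t, π, hπ⟩ := Module.Finite.exists_fin' A M
    have hF : Subsingleton (Dual.inD A (Fin t → A) ⟶
        ((Dual.inD A N)⟦(q : ℤ)⟧)⟦(1 : ℤ)⟧) := by
      have h1 := subsingleton_hom_of_projective' (ModuleCat.of A (Fin t → A)) (ModuleCat.of A N)
        (q + 1) (by omega)
      exact @Equiv.subsingleton _ _ (((shiftFunctorAdd' (Dual.D A) (q : ℤ) 1 ((q + 1 : ℕ) : ℤ)
        (by push_cast; rfl)).app (Dual.inD A N)).symm.homToEquiv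
          (Z := Dual.inD A (Fin t → A))) h1
    have hstep := ARFac_step I π _ _ hπ hF (ih ↥(LinearMap.ker π))
    refine ARFac_of_iso I M _ _ _ _
      ((shiftFunctorAdd' (Dual.D A) (q : ℤ) 1 ((q + 1 : ℕ) : ℤ) (by push_cast; rfl)).app _).symm
      (fun k => ((shiftFunctorAdd' (Dual.D A) (q : ℤ) 1 ((q + 1 : ℕ) : ℤ)
        (by push_cast; rfl)).app _).symm) ?_ hstep
    intro k
    exact (shiftFunctorAdd' (Dual.D A) (q : ℤ) 1 ((q + 1 : ℕ) : ℤ)
      (by push_cast; rfl)).inv.naturality _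

end Groth.Agent.Lib.H6xPExt
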