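import Mathlib
import Groth.Prelude.Def_W4c1limliniiiiRamP1

set_option autoImplicit false
open Polynomial

namespace Groth.Agent.Lib.H6xPencil

universe u
variable {k : Type u} [Field k] (d : ℕ) (P : Fin 3 → k) (e : Fin 3 → ℕ)

/-- polynomials of degree `≤ d` vanishing to order `≥ e i` at `P i` -/
def U (i : Fin 3) : Submodule k k[X] where
  carrier := {s | s ∈ degreeLE k d ∧ (X - C (P i)) ^ e i ∣ s}
  add_mem' := fun ha hb => ⟨Submodule.add_mem _ ha.1 hb.1, dvd_add ha.2 hb.2⟩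
  zero_mem' := ⟨Submodule.zero_mem _, dvd_zero _⟩
  smul_mem' := fun c s hs => ⟨Submodule.smul_mem _ c hs.1, by
    rw [smul_eq_C_mul]; exact Dvd.dvd.mul_left hs.2 _⟩

lemma mem_U {i : Fin 3} {s : k[X]} :
    s ∈ U d P e i ↔ s ∈ degreeLE k d ∧ (X - C (P i)) ^ e i ∣ s := Iff.rfl

lemma natDegree_le_of_mem_degreeLE {s : k[X]} (hs : s ∈ degreeLE k d) : s.natDegree ≤ d :=
  natDegree_le_of_degree_le (mem_degreeLE.mp hs)

lemma mem_degreeLE_of_natDegree_le {s : k[X]} (hs : s.natDegree ≤ d) : s ∈ degreeLE k d :=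
  mem_degreeLE.mpr (degree_le_of_natDegree_le hs)

variable {d P e}

lemma coprime_pow (hP : Function.Injective P) {i j : Fin 3} (hij : i ≠ j) (a b : ℕ) :
    IsCoprime ((X - C (P i)) ^ a) ((X - C (P j)) ^ b) := by
  apply IsCoprime.pow
  apply isCoprime_X_sub_C_of_isUnit_sub
  exact (sub_ne_zero.mpr (fun h => hij (hP h))).isUnit

lemma natDegree_pow_X_sub_C (a : k) (n : ℕ) : ((X - C a) ^ n).natDegree = n := by
  rw [natDegree_pow, natDegree_X_sub_C, mul_one]

lemma U_inter (hP : Function.Injective P) {i j : Fin 3} (hij : i ≠ j) (hd : d < e i + e j)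
    {s : k[X]} (hi : s ∈ U d P e i) (hj : s ∈ U d P e j) : s = 0 := by
  by_contra hs
  have h1 : (X - C (P i)) ^ e i * (X - C (P j)) ^ e j ∣ s :=
    (coprime_pow hP hij _ _).mul_dvd hi.2 hj.2
  have h2 := natDegree_le_of_dvd h1 hs
  rw [natDegree_mul (pow_ne_zero _ (X_sub_C_ne_zero _)) (pow_ne_zero _ (X_sub_C_ne_zero _)),
    natDegree_pow_X_sub_C, natDegree_pow_X_sub_C] at h2
  have h3 := natDegree_le_of_mem_degreeLE d hi.1
  omega

variable (d P e)

/-- the linear space of pairs parametrising the Schubert intersection -/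
def L : Submodule k (k[X] × k[X]) where
  carrier := {v | v.1 ∈ U d P e 0 ∧ v.2 ∈ U d P e 1 ∧ v.1 + v.2 ∈ U d P e 2}
  add_mem' := by
    rintro a b ⟨ha1, ha2, ha3⟩ ⟨hb1, hb2, hb3⟩
    refine ⟨Submodule.add_mem _ ha1 hb1, Submodule.add_mem _ ha2 hb2, ?_⟩
    have := Submodule.add_mem _ ha3 hb3
    simp only [Prod.fst_add, Prod.snd_add]
    convert this using 1
    ring
  zero_mem' := by
    refine ⟨Submodule.zero_mem _, Submodule.zero_mem _, ?_⟩
    simp
  smul_mem' := by
    rintro c a ⟨ha1, ha2, ha3⟩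
    refine ⟨Submodule.smul_mem _ c ha1, Submodule.smul_mem _ c ha2, ?_⟩
    have := Submodule.smul_mem _ c ha3
    simp only [Prod.smul_fst, Prod.smul_snd]
    rw [← smul_add]
    exact this

lemma mem_L {v : k[X] × k[X]} :
    v ∈ L d P e ↔ v.1 ∈ U d P e 0 ∧ v.2 ∈ U d P e 1 ∧ v.1 + v.2 ∈ U d P e 2 := Iff.rfl

lemma range_pair (a b : k[X]) : Set.range ![a, b] = {a, b} := by
  ext x
  constructor
  · rintro ⟨i, rfl⟩
    fin_cases i <;> simp
  · rintro (rfl | rfl)
    · exact ⟨0, rfl⟩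
    · exact ⟨1, rfl⟩

/-- standing hypotheses on the ramification data -/
structure Hyp : Prop where
  inj : Function.Injective P
  h01 : d < e 0 + e 1
  h02 : d < e 0 + e 2
  h12 : d < e 1 + e 2

variable {d P e}

section Struct

variable (H : Hyp d P e) {v : k[X] × k[X]} (hv : v ∈ L d P e) (hv0 : v ≠ 0)

include H hv hv0

lemma fst_ne_zero : v.1 ≠ 0 := by
  intro h
  obtain ⟨h0, h1, h2⟩ := hv
  rw [h, zero_add] at h2
  have := U_inter H.inj (by decide : (1 : Fin 3) ≠ 2) H.h12 h1 h2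
  exact hv0 (Prod.ext h this)

lemma snd_ne_zero : v.2 ≠ 0 := by
  intro h
  obtain ⟨h0, h1, h2⟩ := hv
  rw [h, add_zero] at h2
  have := U_inter H.inj (by decide : (0 : Fin 3) ≠ 2) H.h02 h0 h2
  exact hv0 (Prod.ext this h)

lemma linIndep_aux (a b : k) (hab : a • v.1 + b • v.2 = 0) : a = 0 ∧ b = 0 := by
  have hv' := hv
  obtain ⟨h0, h1, h2⟩ := hv'
  have e1 : a • v.1 = (-b) • v.2 := by
    rw [neg_smul]
    exact eq_neg_of_add_eq_zero_left hab
  have h3 : a • v.1 = 0 :=
    U_inter H.inj (by decide : (0 : Fin 3) ≠ 1) H.h01 (Submodule.smul_mem _ a h0)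
      (e1 ▸ Submodule.smul_mem _ (-b) h1)
  have h4 : b • v.2 = 0 := by
    rw [h3, zero_add] at hab
    exact hab
  refine ⟨?_, ?_⟩
  · rcases smul_eq_zero.mp h3 with h | h
    · exact h
    · exact absurd h (fst_ne_zero H hv hv0)
  · rcases smul_eq_zero.mp h4 with h | h
    · exact h
    · exact absurd h (snd_ne_zero H hv hv0)

lemma add_ne_zero' : v.1 + v.2 ≠ 0 := by
  intro h
  have := linIndep_aux H hv hv0 1 1 (by simpa using h)
  exact one_ne_zero this.1

lemma linIndep : LinearIndependent k ![v.1, v.2] :=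
  LinearIndependent.pair_iff.mpr (linIndep_aux H hv hv0)

lemma finrank_span : Module.finrank k (Submodule.span k {v.1, v.2}) = 2 := by
  have h1 := finrank_span_eq_card (linIndep H hv hv0)
  rw [range_pair] at h1
  simpa using h1

omit H hv0 in
lemma span_le : Submodule.span k {v.1, v.2} ≤ degreeLE k d := by
  rw [Submodule.span_le]
  rintro x (rfl | rfl)
  · exact hv.1.1
  · exact hv.2.1.1

lemma exists_rootMult (i : Fin 3) :
    ∃ s ∈ Submodule.span k {v.1, v.2}, s ≠ 0 ∧ e i ≤ rootMultiplicity (P i) s := by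
  fin_cases i
  · exact ⟨v.1, Submodule.subset_span (by simp), fst_ne_zero H hv hv0,
      (le_rootMultiplicity_iff (fst_ne_zero H hv hv0)).mpr hv.1.2⟩
  · exact ⟨v.2, Submodule.subset_span (by simp), snd_ne_zero H hv hv0,
      (le_rootMultiplicity_iff (snd_ne_zero H hv hv0)).mpr hv.2.1.2⟩
  · exact ⟨v.1 + v.2, Submodule.add_mem _ (Submodule.subset_span (by simp))
      (Submodule.subset_span (by simp)), add_ne_zero' H hv hv0,
      (le_rootMultiplicity_iff (add_ne_zero' H hv hv0)).mpr hv.2.2.2⟩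

end Struct

lemma exists_mem_L (H : Hyp d P e) (V : Submodule k k[X]) (hV : V ≤ degreeLE k d)
    (hfr : Module.finrank k V = 2)
    (hs : ∀ i, ∃ s ∈ V, s ≠ 0 ∧ e i ≤ rootMultiplicity (P i) s) :
    ∃ v ∈ L d P e, v ≠ 0 ∧ Submodule.span k {v.1, v.2} = V := by
  obtain ⟨s0, hs0V, hs0, hs0m⟩ := hs 0
  obtain ⟨s1, hs1V, hs1, hs1m⟩ := hs 1
  obtain ⟨s2, hs2V, hs2, hs2m⟩ := hs 2
  have m0 : s0 ∈ U d P e 0 := ⟨hV hs0V, (le_rootMultiplicity_iff hs0).mp hs0m⟩
  have m1 : s1 ∈ U d P e 1 := ⟨hV hs1V, (le_rootMultiplicity_iff hs1).mp hs1m⟩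
  have m2 : s2 ∈ U d P e 2 := ⟨hV hs2V, (le_rootMultiplicity_iff hs2).mp hs2m⟩
  haveI : Module.Finite k V := Module.finite_of_finrank_pos (by omega)
  have hli : LinearIndependent k ![s0, s1] := by
    rw [LinearIndependent.pair_iff]
    intro a b hab
    have e1 : a • s0 = (-b) • s1 := by
      rw [neg_smul]
      exact eq_neg_of_add_eq_zero_left hab
    have h3 : a • s0 = 0 :=
      U_inter H.inj (by decide : (0 : Fin 3) ≠ 1) H.h01 (Submodule.smul_mem _ a m0)
        (e1 ▸ Submodule.smul_mem _ (-b) m1)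
    have h4 : b • s1 = 0 := by
      rw [h3, zero_add] at hab
      exact hab
    exact ⟨(smul_eq_zero.mp h3).resolve_right hs0, (smul_eq_zero.mp h4).resolve_right hs1⟩
  have hspan : Submodule.span k {s0, s1} = V := by
    apply Submodule.eq_of_le_of_finrank_eq
    · rw [Submodule.span_le]
      rintro x (rfl | rfl)
      · exact hs0V
      · exact hs1V
    · have h1 := finrank_span_eq_card hli
      rw [range_pair] at h1
      rw [hfr]
      simpa using h1
  have h5 : s2 ∈ Submodule.span k {s0, s1} := hspan ▸ hs2V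
  obtain ⟨a, b, hab⟩ := Submodule.mem_span_pair.mp h5
  have ha : a ≠ 0 := by
    rintro rfl
    rw [zero_smul, zero_add] at hab
    exact hs2 (U_inter H.inj (by decide : (1 : Fin 3) ≠ 2) H.h12
      (hab ▸ Submodule.smul_mem _ b m1) m2)
  have hb : b ≠ 0 := by
    rintro rfl
    rw [zero_smul, add_zero] at hab
    exact hs2 (U_inter H.inj (by decide : (0 : Fin 3) ≠ 2) H.h02
      (hab ▸ Submodule.smul_mem _ a m0) m2)
  refine ⟨(a • s0, b • s1), ⟨Submodule.smul_mem _ a m0, Submodule.smul_mem _ b m1, ?_⟩, ?_, ?_⟩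
  · show a • s0 + b • s1 ∈ U d P e 2
    rw [hab]
    exact m2
  · intro h
    have := congrArg Prod.fst h
    simp only [Prod.fst_zero] at this
    exact hs0 ((smul_eq_zero.mp this).resolve_left ha)
  · rw [← hspan]
    apply le_antisymm
    · rw [Submodule.span_le]
      rintro x (rfl | rfl)
      · exact Submodule.smul_mem _ a (Submodule.subset_span (by simp))
      · exact Submodule.smul_mem _ b (Submodule.subset_span (by simp))
    · rw [Submodule.span_le]
      rintro x (rfl | rfl)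
      · have h : a⁻¹ • (a • x) ∈ Submodule.span k {a • x, b • s1} :=
          Submodule.smul_mem _ _ (Submodule.subset_span (by simp))
        rwa [smul_smul, inv_mul_cancel₀ ha, one_smul] at h
      · have h : b⁻¹ • (b • x) ∈ Submodule.span k {a • s0, b • x} :=
          Submodule.smul_mem _ _ (Submodule.subset_span (by simp))
        rwa [smul_smul, inv_mul_cancel₀ hb, one_smul] at h

lemma eq_smul_of_span_eq (H : Hyp d P e) {v w : k[X] × k[X]} (hv : v ∈ L d P e)
    (hw : w ∈ L d P e) (hv0 : v ≠ 0)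
    (hspan : Submodule.span k {v.1, v.2} = Submodule.span k {w.1, w.2}) :
    ∃ c : k, w = c • v := by
  have hw1 : w.1 ∈ Submodule.span k {v.1, v.2} := hspan ▸ Submodule.subset_span (by simp)
  have hw2 : w.2 ∈ Submodule.span k {v.1, v.2} := hspan ▸ Submodule.subset_span (by simp)
  obtain ⟨α, β, h1⟩ := Submodule.mem_span_pair.mp hw1
  obtain ⟨γ, δ, h2⟩ := Submodule.mem_span_pair.mp hw2
  have hβ : β = 0 := by
    have h3 : β • v.2 ∈ U d P e 0 := by
      have : β • v.2 = w.1 - α • v.1 := by rw [← h1]; ring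
      rw [this]
      exact Submodule.sub_mem _ hw.1 (Submodule.smul_mem _ α hv.1)
    have h4 := U_inter H.inj (by decide : (0 : Fin 3) ≠ 1) H.h01 h3
      (Submodule.smul_mem _ β hv.2.1)
    exact (smul_eq_zero.mp h4).resolve_right (snd_ne_zero H hv hv0)
  have hγ : γ = 0 := by
    have h3 : γ • v.1 ∈ U d P e 1 := by
      have : γ • v.1 = w.2 - δ • v.2 := by rw [← h2]; ring
      rw [this]
      exact Submodule.sub_mem _ hw.2.1 (Submodule.smul_mem _ δ hv.2.1)
    have h4 := U_inter H.inj (by decide : (0 : Fin 3) ≠ 1) H.h01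
      (Submodule.smul_mem _ γ hv.1) h3
    exact (smul_eq_zero.mp h4).resolve_right (fst_ne_zero H hv hv0)
  subst hβ hγ
  rw [zero_smul, add_zero] at h1
  rw [zero_smul, zero_add] at h2
  have hαδ : α = δ := by
    have h3 : (α - δ) • v.1 ∈ U d P e 2 := by
      have : (α - δ) • v.1 = (w.1 + w.2) - δ • (v.1 + v.2) := by
        rw [← h1, ← h2, sub_smul, smul_add]; ring
      rw [this]
      exact Submodule.sub_mem _ hw.2.2 (Submodule.smul_mem _ δ hv.2.2)
    have h4 := U_inter H.inj (by decide : (0 : Fin 3) ≠ 2) H.h02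
      (Submodule.smul_mem _ (α - δ) hv.1) h3
    exact sub_eq_zero.mp ((smul_eq_zero.mp h4).resolve_right (fst_ne_zero H hv hv0))
  subst hαδ
  exact ⟨α, Prod.ext h1.symm h2.symm⟩

section Dim

/-- polynomial with given coefficient vector -/
noncomputable def polyOf (n : ℕ) : (Fin n → k) →ₗ[k] k[X] :=
  (degreeLT k n).subtype ∘ₗ (degreeLTEquiv k n).symm.toLinearMap

lemma polyOf_injective (n : ℕ) : Function.Injective (polyOf (k := k) n) := by
  intro a b hab
  simp only [polyOf, LinearMap.coe_comp, Function.comp_apply, Submodule.coe_subtype,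
    LinearEquiv.coe_coe] at hab
  exact (degreeLTEquiv k n).symm.injective (Subtype.ext hab)

lemma natDegree_polyOf_le (n : ℕ) (a : Fin n → k) : (polyOf n a).natDegree ≤ n - 1 := by
  have h1 : polyOf n a ∈ degreeLT k n := by
    simp only [polyOf, LinearMap.coe_comp, Function.comp_apply, Submodule.coe_subtype,
      LinearEquiv.coe_coe]
    exact ((degreeLTEquiv k n).symm a).2
  by_cases h0 : polyOf n a = 0
  · rw [h0, natDegree_zero]
    exact Nat.zero_le _
  · have := (natDegree_lt_iff_degree_lt h0).mpr (mem_degreeLT.mp h1)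
    omega

lemma natDegree_pow_mul_le (a : k) (m n : ℕ) (A : k[X]) (hA : A.natDegree ≤ n) :
    ((X - C a) ^ m * A).natDegree ≤ m + n := by
  refine natDegree_mul_le.trans ?_
  rw [natDegree_pow_X_sub_C]
  omega

variable (d P e)

/-- the sum map used for the dimension count -/
noncomputable def sumMap (n0 n1 n2 : ℕ) :
    ((Fin n0 → k) × (Fin n1 → k) × (Fin n2 → k)) →ₗ[k] k[X] :=
  (LinearMap.mulLeft k ((X - C (P 0)) ^ e 0)) ∘ₗ polyOf n0 ∘ₗ LinearMap.fst k _ _ +
  (LinearMap.mulLeft k ((X - C (P 1)) ^ e 1)) ∘ₗ polyOf n1 ∘ₗ LinearMap.fst k _ _ ∘ₗ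
    LinearMap.snd k _ _ +
  (LinearMap.mulLeft k ((X - C (P 2)) ^ e 2)) ∘ₗ polyOf n2 ∘ₗ LinearMap.snd k _ _ ∘ₗ
    LinearMap.snd k _ _

lemma sumMap_apply (n0 n1 n2 : ℕ) (x : (Fin n0 → k) × (Fin n1 → k) × (Fin n2 → k)) :
    sumMap P e n0 n1 n2 x = (X - C (P 0)) ^ e 0 * polyOf n0 x.1 +
      (X - C (P 1)) ^ e 1 * polyOf n1 x.2.1 + (X - C (P 2)) ^ e 2 * polyOf n2 x.2.2 := rfl

variable {d P e}

theorem L_ne_bot (hle : ∀ i, e i ≤ d) (hsum : e 0 + e 1 + e 2 = 2 * d + 1) :
    L d P e ≠ ⊥ := by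
  set n0 := d - e 0 + 1 with hn0
  set n1 := d - e 1 + 1 with hn1
  set n2 := d - e 2 + 1 with hn2
  let Φ : ((Fin n0 → k) × (Fin n1 → k) × (Fin n2 → k)) →ₗ[k] (Fin (d + 1) → k) :=
    (LinearMap.pi fun j : Fin (d + 1) => lcoeff k j) ∘ₗ sumMap P e n0 n1 n2
  have hker : LinearMap.ker Φ ≠ ⊥ := by
    apply LinearMap.ker_ne_bot_of_finrank_lt
    rw [Module.finrank_prod, Module.finrank_prod, Module.finrank_fin_fun, Module.finrank_fin_fun,
      Module.finrank_fin_fun, Module.finrank_fin_fun]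
    have := hle 0
    have := hle 1
    have := hle 2
    omega
  obtain ⟨x, hx, hx0⟩ := Submodule.exists_mem_ne_zero_of_ne_bot hker
  have hdeg : (sumMap P e n0 n1 n2 x).natDegree ≤ d := by
    rw [sumMap_apply]
    have h0 := natDegree_pow_mul_le (P 0) (e 0) (n0 - 1) _ (natDegree_polyOf_le n0 x.1)
    have h1 := natDegree_pow_mul_le (P 1) (e 1) (n1 - 1) _ (natDegree_polyOf_le n1 x.2.1)
    have h2 := natDegree_pow_mul_le (P 2) (e 2) (n2 - 1) _ (natDegree_polyOf_le n2 x.2.2)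
    have := hle 0
    have := hle 1
    have := hle 2
    refine (natDegree_add_le _ _).trans (max_le ((natDegree_add_le _ _).trans (max_le ?_ ?_)) ?_)
    · omega
    · omega
    · omega
  have hzero : sumMap P e n0 n1 n2 x = 0 := by
    ext j
    rw [coeff_zero]
    by_cases hj : j ≤ d
    · have := congrFun (LinearMap.mem_ker.mp hx) ⟨j, by omega⟩
      simpa [Φ] using this
    · exact coeff_eq_zero_of_natDegree_lt (by omega)
  rw [sumMap_apply] at hzero
  intro hbot
  have hmem : ((X - C (P 0)) ^ e 0 * polyOf n0 x.1, (X - C (P 1)) ^ e 1 * polyOf n1 x.2.1) ∈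
      L d P e := by
    have := hle 0
    have := hle 1
    have := hle 2
    refine ⟨⟨?_, dvd_mul_right _ _⟩, ⟨?_, dvd_mul_right _ _⟩, ⟨?_, ?_⟩⟩
    · apply mem_degreeLE_of_natDegree_le
      have h0 := natDegree_pow_mul_le (P 0) (e 0) (n0 - 1) _ (natDegree_polyOf_le n0 x.1)
      show ((X - C (P 0)) ^ e 0 * polyOf n0 x.1).natDegree ≤ d
      omega
    · apply mem_degreeLE_of_natDegree_le
      have h1 := natDegree_pow_mul_le (P 1) (e 1) (n1 - 1) _ (natDegree_polyOf_le n1 x.2.1)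
      show ((X - C (P 1)) ^ e 1 * polyOf n1 x.2.1).natDegree ≤ d
      omega
    · have e1 : (X - C (P 0)) ^ e 0 * polyOf n0 x.1 + (X - C (P 1)) ^ e 1 * polyOf n1 x.2.1 =
          -((X - C (P 2)) ^ e 2 * polyOf n2 x.2.2) := eq_neg_of_add_eq_zero_left hzero
      show (X - C (P 0)) ^ e 0 * polyOf n0 x.1 + (X - C (P 1)) ^ e 1 * polyOf n1 x.2.1 ∈ _
      rw [e1]
      apply Submodule.neg_mem
      apply mem_degreeLE_of_natDegree_le
      have h2 := natDegree_pow_mul_le (P 2) (e 2) (n2 - 1) _ (natDegree_polyOf_le n2 x.2.2)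
      omega
    · have e1 : (X - C (P 0)) ^ e 0 * polyOf n0 x.1 + (X - C (P 1)) ^ e 1 * polyOf n1 x.2.1 =
          -((X - C (P 2)) ^ e 2 * polyOf n2 x.2.2) := eq_neg_of_add_eq_zero_left hzero
      show _ ∣ (X - C (P 0)) ^ e 0 * polyOf n0 x.1 + (X - C (P 1)) ^ e 1 * polyOf n1 x.2.1
      rw [e1]
      exact (dvd_mul_right _ _).neg_right
  rw [hbot, Submodule.mem_bot, Prod.mk_eq_zero] at hmem
  obtain ⟨z0, z1⟩ := hmem
  have hp : ∀ (a : k) (m : ℕ), (X - C a) ^ m ≠ 0 := fun a m => pow_ne_zero _ (X_sub_C_ne_zero a)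
  have a0 : polyOf n0 x.1 = 0 := (mul_eq_zero.mp z0).resolve_left (hp _ _)
  have a1 : polyOf n1 x.2.1 = 0 := (mul_eq_zero.mp z1).resolve_left (hp _ _)
  rw [a0, a1, mul_zero, mul_zero, zero_add, zero_add] at hzero
  have a2 : polyOf n2 x.2.2 = 0 := (mul_eq_zero.mp hzero).resolve_left (hp _ _)
  apply hx0
  have b0 : x.1 = 0 := polyOf_injective n0 (by rw [a0, map_zero])
  have b1 : x.2.1 = 0 := polyOf_injective n1 (by rw [a1, map_zero])
  have b2 : x.2.2 = 0 := polyOf_injective n2 (by rw [a2, map_zero])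
  exact Prod.ext b0 (Prod.ext b1 b2)

end Dim

section Main37

lemma hyp_of_admissible {p : ℕ} (hP : Function.Injective P)
    (he : W4c1limliniiii.Admissible p d e) :
    Hyp d P e ∧ (∀ i, e i ≤ d) ∧ e 0 + e 1 + e 2 = 2 * d + 1 := by
  obtain ⟨h1, h2⟩ := he
  rw [Fin.sum_univ_three] at h2
  have := (h1 0).2.1
  have := (h1 1).2.1
  have := (h1 2).2.1
  refine ⟨⟨hP, by omega, by omega, by omega⟩, fun i => (h1 i).2.1, by omega⟩

theorem main37 (p : ℕ) (hP : Function.Injective P) (he : W4c1limliniiii.Admissible p d e) :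
    ∃ L : Submodule k (k[X] × k[X]), L ≠ ⊥ ∧
      (∀ v ∈ L, v ≠ 0 →
        Submodule.span k {v.1, v.2} ≤ Polynomial.degreeLE k d ∧
          Module.finrank k (Submodule.span k {v.1, v.2}) = 2 ∧
          ∀ i, ∃ s ∈ Submodule.span k {v.1, v.2}, s ≠ 0 ∧
            e i ≤ Polynomial.rootMultiplicity (P i) s) ∧
      (∀ V : Submodule k k[X], V ≤ Polynomial.degreeLE k d → Module.finrank k V = 2 →
        (∀ i, ∃ s ∈ V, s ≠ 0 ∧ e i ≤ Polynomial.rootMultiplicity (P i) s) →
          ∃ v ∈ L, v ≠ 0 ∧ Submodule.span k {v.1, v.2} = V) ∧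
      (∀ v ∈ L, ∀ w ∈ L, v ≠ 0 → w ≠ 0 →
        Submodule.span k {v.1, v.2} = Submodule.span k {w.1, w.2} → ∃ c : k, w = c • v) := by
  obtain ⟨H, hle, hsum⟩ := hyp_of_admissible hP he
  refine ⟨L d P e, L_ne_bot hle hsum, ?_, ?_, ?_⟩
  · intro v hv hv0
    exact ⟨span_le hv, finrank_span H hv hv0, exists_rootMult H hv hv0⟩
  · intro V hV hfr hs
    exact exists_mem_L H V hV hfr hs
  · intro v hv w hw hv0 _ hspan
    exact eq_smul_of_span_eq H hv hw hv0 hspan

end Main37

end Groth.Agent.Lib.H6xPencil
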