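import Groth.Agent.Lib.H6xPencil

set_option autoImplicit false
open Polynomial

namespace Groth.Agent.Lib.H6xPencil

universe u
variable {k : Type u} [Field k] {d : ℕ} {P : Fin 3 → k} {e : Fin 3 → ℕ}

lemma prod_dvd (hP : Function.Injective P) (m : Fin 3 → ℕ) {W : k[X]}
    (h : ∀ i, (X - C (P i)) ^ m i ∣ W) :
    (X - C (P 0)) ^ m 0 * (X - C (P 1)) ^ m 1 * (X - C (P 2)) ^ m 2 ∣ W := by
  have c01 := coprime_pow hP (by decide : (0 : Fin 3) ≠ 1) (m 0) (m 1)
  have c02 := coprime_pow hP (by decide : (0 : Fin 3) ≠ 2) (m 0) (m 2)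
  have c12 := coprime_pow hP (by decide : (1 : Fin 3) ≠ 2) (m 1) (m 2)
  exact (IsCoprime.mul_left c02 c12).mul_dvd (c01.mul_dvd (h 0) (h 1)) (h 2)

lemma natDegree_prod (m : Fin 3 → ℕ) :
    ((X - C (P 0)) ^ m 0 * (X - C (P 1)) ^ m 1 * (X - C (P 2)) ^ m 2).natDegree =
      m 0 + m 1 + m 2 := by
  have hp : ∀ (a : k) (n : ℕ), (X - C a) ^ n ≠ 0 := fun a n => pow_ne_zero _ (X_sub_C_ne_zero a)
  rw [natDegree_mul (mul_ne_zero (hp _ _) (hp _ _)) (hp _ _), natDegree_mul (hp _ _) (hp _ _),
    natDegree_pow_X_sub_C, natDegree_pow_X_sub_C, natDegree_pow_X_sub_C]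

/-- the tangent-space argument: a base-point-free member forces `L` to be a line -/
theorem tangent (H : Hyp d P e) (hsum : e 0 + e 1 + e 2 = 2 * d + 1)
    {v w : k[X] × k[X]} (hv : v ∈ L d P e) (hv0 : v ≠ 0) (hw : w ∈ L d P e)
    (hcop : IsCoprime v.1 v.2) (hdeg : v.1.natDegree = d ∨ v.2.natDegree = d) :
    ∃ c : k, w = c • v := by
  set N := w.1 * v.2 - v.1 * w.2 with hN
  have hN0 : N = 0 := by
    have hdvd : ∀ i, (X - C (P i)) ^ e i ∣ N := by
      intro i
      fin_cases i
      · exact dvd_sub (Dvd.dvd.mul_right hw.1.2 _) (Dvd.dvd.mul_right hv.1.2 _)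
      · exact dvd_sub (Dvd.dvd.mul_left hv.2.1.2 _) (Dvd.dvd.mul_left hw.2.1.2 _)
      · have : N = w.1 * (v.1 + v.2) - v.1 * (w.1 + w.2) := by rw [hN]; ring
        rw [this]
        exact dvd_sub (Dvd.dvd.mul_left hv.2.2.2 _) (Dvd.dvd.mul_left hw.2.2.2 _)
    have h1 := prod_dvd H.inj e hdvd
    apply eq_zero_of_dvd_of_natDegree_lt h1
    rw [natDegree_prod, hsum]
    have b1 := natDegree_le_of_mem_degreeLE d hv.1.1
    have b2 := natDegree_le_of_mem_degreeLE d hv.2.1.1
    have b3 := natDegree_le_of_mem_degreeLE d hw.1.1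
    have b4 := natDegree_le_of_mem_degreeLE d hw.2.1.1
    have := natDegree_sub_le (w.1 * v.2) (v.1 * w.2)
    have := natDegree_mul_le (p := w.1) (q := v.2)
    have := natDegree_mul_le (p := v.1) (q := w.2)
    rw [hN]
    omega
  have heq : w.1 * v.2 = v.1 * w.2 := sub_eq_zero.mp (hN ▸ hN0)
  have hv1 := fst_ne_zero H hv hv0
  have hv2 := snd_ne_zero H hv hv0
  have h2 : v.1 ∣ w.1 := hcop.dvd_of_dvd_mul_right (heq ▸ dvd_mul_right _ _)
  obtain ⟨h, hh⟩ := h2
  have h3 : w.2 = h * v.2 := by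
    have : v.1 * w.2 = v.1 * (h * v.2) := by rw [← heq, hh]; ring
    exact mul_left_cancel₀ hv1 this
  have hconst : ∃ c : k, h = C c := by
    by_cases h0 : h = 0
    · exact ⟨0, by rw [h0, C_0]⟩
    · refine ⟨h.coeff 0, eq_C_of_natDegree_eq_zero ?_⟩
      rcases hdeg with hd1 | hd2
      · have b3 := natDegree_le_of_mem_degreeLE d hw.1.1
        rw [hh, natDegree_mul hv1 h0] at b3
        omega
      · have b4 := natDegree_le_of_mem_degreeLE d hw.2.1.1
        rw [h3, natDegree_mul h0 hv2] at b4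
        omega
  obtain ⟨c, rfl⟩ := hconst
  refine ⟨c, Prod.ext ?_ ?_⟩
  · rw [hh, Prod.smul_fst, smul_eq_C_mul, mul_comm]
  · rw [h3, Prod.smul_snd, smul_eq_C_mul]

section Wr

lemma wr_lin (F G : k[X]) (a b c d' : k) :
    wronskian (a • F + b • G) (c • F + d' • G) = (a * d' - b * c) • wronskian F G := by
  simp only [wronskian, smul_eq_C_mul, derivative_add, derivative_C_mul, C_sub, C_mul]
  ring

lemma dvd_wr {u S : k[X]} (T : k[X]) {m : ℕ} (hS : u ^ m ∣ S) : u ^ (m - 1) ∣ wronskian S T := by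
  have h1 : u ^ (m - 1) ∣ S := (pow_dvd_pow u (Nat.sub_le m 1)).trans hS
  have h2 : u ^ (m - 1) ∣ derivative S := pow_sub_one_dvd_derivative_of_pow_dvd hS
  exact dvd_sub (Dvd.dvd.mul_right h1 _) (Dvd.dvd.mul_right h2 _)

lemma dvd_wr_base {u S T : k[X]} {m : ℕ} (hS : u ^ m ∣ S) (hT : u ∣ T) (hm : 1 ≤ m) :
    u ^ m ∣ wronskian S T := by
  have h2 : u ^ (m - 1) ∣ derivative S := pow_sub_one_dvd_derivative_of_pow_dvd hS
  have h3 : u ^ m ∣ derivative S * T := by
    have : u ^ m = u ^ (m - 1) * u := by rw [← pow_succ, Nat.sub_add_cancel hm]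
    rw [this]
    exact mul_dvd_mul h2 hT
  exact dvd_sub (Dvd.dvd.mul_right hS _) h3

lemma wr_deg {n : ℕ} {F G : k[X]} (hF : F.natDegree ≤ n) (hG : G.natDegree ≤ n)
    (hW : wronskian F G ≠ 0) : (wronskian F G).natDegree + 2 ≤ 2 * n := by
  have h := natDegree_wronskian_lt_add hW
  by_cases hboth : F.natDegree = n ∧ G.natDegree = n
  · have hF0 : F ≠ 0 := by
      rintro rfl
      rw [wronskian_zero_left] at hW
      exact hW rfl
    have hG0 : G ≠ 0 := by
      rintro rfl
      rw [wronskian_zero_right] at hW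
      exact hW rfl
    set c := G.leadingCoeff / F.leadingCoeff with hc
    have hlF : F.leadingCoeff ≠ 0 := leadingCoeff_ne_zero.mpr hF0
    have hlG : G.leadingCoeff ≠ 0 := leadingCoeff_ne_zero.mpr hG0
    have hc0 : c ≠ 0 := div_ne_zero hlG hlF
    have e1 : wronskian F (G - C c * F) = wronskian F G := by
      simp only [wronskian, derivative_sub, derivative_C_mul]
      ring
    have hG1 : G - C c * F ≠ 0 := by
      intro h0
      rw [h0, wronskian_zero_right] at e1
      exact hW e1.symm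
    have hdeg : (G - C c * F).degree < G.degree := by
      apply degree_sub_lt_left
      · rw [degree_C_mul hc0, degree_eq_natDegree hF0, degree_eq_natDegree hG0, hboth.1,
          hboth.2]
      · exact hG0
      · rw [leadingCoeff_mul, leadingCoeff_C, hc, div_mul_cancel₀ _ hlF]
    have h2 := natDegree_lt_natDegree hG1 hdeg
    have h3 := natDegree_wronskian_lt_add (e1 ▸ hW)
    rw [e1] at h3
    omega
  · omega

end Wr

section Ram

open W4c1limliniiii

variable [IsAlgClosed k]

/-- data extracted from a member of `ramMaps` -/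
lemma data_of_ramMaps (H : Hyp d P e) {V : Submodule k k[X]} (hV : V ∈ ramMaps d P e) :
    ∃ v ∈ L d P e, v ≠ 0 ∧ Submodule.span k {v.1, v.2} = V ∧ IsCoprime v.1 v.2 ∧
      (v.1.natDegree = d ∨ v.2.natDegree = d) := by
  obtain ⟨⟨hle, hfr, ⟨s, hsV, hsd⟩, hbpf⟩, -, hram⟩ := hV
  obtain ⟨v, hv, hv0, hspan⟩ := exists_mem_L H V hle hfr (fun i => (hram i).1)
  refine ⟨v, hv, hv0, hspan, ?_, ?_⟩
  · apply (Polynomial.isCoprime_iff_aeval_ne_zero_of_isAlgClosed k k v.1 v.2).mpr
    intro a
    by_contra hcon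
    push Not at hcon
    obtain ⟨t, htV, hta⟩ := hbpf a
    rw [← hspan] at htV
    obtain ⟨α, β, rfl⟩ := Submodule.mem_span_pair.mp htV
    apply hta
    have h1 : eval a v.1 = 0 := by simpa [aeval_def] using hcon.1
    have h2 : eval a v.2 = 0 := by simpa [aeval_def] using hcon.2
    simp [h1, h2]
  · rw [← hspan] at hsV
    obtain ⟨α, β, rfl⟩ := Submodule.mem_span_pair.mp hsV
    have b1 := natDegree_le_of_mem_degreeLE d hv.1.1
    have b2 := natDegree_le_of_mem_degreeLE d hv.2.1.1
    by_contra hcon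
    push Not at hcon
    have h1 : (α • v.1 + β • v.2).natDegree ≤ max (α • v.1).natDegree (β • v.2).natDegree :=
      natDegree_add_le _ _
    have h2 : (α • v.1).natDegree ≤ v.1.natDegree := natDegree_smul_le _ _
    have h3 : (β • v.2).natDegree ≤ v.2.natDegree := natDegree_smul_le _ _
    have := hcon.1
    have := hcon.2
    have : max (α • v.1).natDegree (β • v.2).natDegree < d := by
      rw [max_lt_iff]
      omega
    omega

theorem ramMaps_subsingleton (H : Hyp d P e) (hsum : e 0 + e 1 + e 2 = 2 * d + 1) :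
    (ramMaps d P e).Subsingleton := by
  intro V₁ h₁ V₂ h₂
  obtain ⟨v, hv, hv0, hspan1, hcop, hdeg⟩ := data_of_ramMaps H h₁
  obtain ⟨w, hw, hw0, hspan2, -, -⟩ := data_of_ramMaps H h₂
  obtain ⟨c, rfl⟩ := tangent H hsum hv hv0 hw hcop hdeg
  have hc : c ≠ 0 := by
    rintro rfl
    exact hw0 (zero_smul _ _)
  rw [← hspan1, ← hspan2]
  apply le_antisymm
  · rw [Submodule.span_le]
    rintro x (rfl | rfl)
    · have h : c⁻¹ • (c • v).1 ∈ Submodule.span k {(c • v).1, (c • v).2} :=
        Submodule.smul_mem _ _ (Submodule.subset_span (by simp))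
      rwa [Prod.smul_fst, smul_smul, inv_mul_cancel₀ hc, one_smul] at h
    · have h : c⁻¹ • (c • v).2 ∈ Submodule.span k {(c • v).1, (c • v).2} :=
        Submodule.smul_mem _ _ (Submodule.subset_span (by simp))
      rwa [Prod.smul_snd, smul_smul, inv_mul_cancel₀ hc, one_smul] at h
  · rw [Submodule.span_le]
    rintro x (rfl | rfl)
    · exact Submodule.smul_mem _ c (Submodule.subset_span (by simp))
    · exact Submodule.smul_mem _ c (Submodule.subset_span (by simp))

/-- if an inseparable pencil lies in the Schubert intersection, there is no separable map -/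
theorem ramMaps_eq_empty_of_insep (H : Hyp d P e) (hsum : e 0 + e 1 + e 2 = 2 * d + 1)
    (V : Submodule k k[X]) (hV : V ≤ degreeLE k d) (hfr : Module.finrank k V = 2)
    (hins : ¬ IsSeparable V) (hs : ∀ i, ∃ s ∈ V, s ≠ 0 ∧ e i ≤ rootMultiplicity (P i) s) :
    ramMaps d P e = ∅ := by
  rw [Set.eq_empty_iff_forall_notMem]
  intro V₁ h₁
  obtain ⟨v, hv, hv0, hspan1, hcop, hdeg⟩ := data_of_ramMaps H h₁
  obtain ⟨w, hw, hw0, hspan2⟩ := exists_mem_L H V hV hfr hs
  obtain ⟨c, rfl⟩ := tangent H hsum hv hv0 hw hcop hdeg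
  apply hins
  obtain ⟨-, ⟨F, hF, G, hG, hW⟩, -⟩ := h₁
  refine ⟨c • F, ?_, c • G, ?_, ?_⟩
  · rw [← hspan2]
    rw [← hspan1] at hF
    obtain ⟨α, β, rfl⟩ := Submodule.mem_span_pair.mp hF
    rw [smul_add, smul_comm c α, smul_comm c β]
    exact Submodule.add_mem _ (Submodule.smul_mem _ α (Submodule.subset_span (by simp)))
      (Submodule.smul_mem _ β (Submodule.subset_span (by simp)))
  · rw [← hspan2]
    rw [← hspan1] at hG
    obtain ⟨α, β, rfl⟩ := Submodule.mem_span_pair.mp hG
    rw [smul_add, smul_comm c α, smul_comm c β]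
    exact Submodule.add_mem _ (Submodule.smul_mem _ α (Submodule.subset_span (by simp)))
      (Submodule.smul_mem _ β (Submodule.subset_span (by simp)))
  · have hc : c ≠ 0 := by
      rintro rfl
      exact hw0 (zero_smul _ _)
    rw [smul_eq_C_mul, smul_eq_C_mul]
    have : wronskian (C c * F) (C c * G) = C (c * c) * wronskian F G := by
      simp only [wronskian, derivative_C_mul, C_mul]
      ring
    rw [this]
    exact mul_ne_zero (by simpa using mul_ne_zero hc hc) hW

omit [IsAlgClosed k] in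
theorem mem_ramMaps_of_sep (H : Hyp d P e) (hsum : e 0 + e 1 + e 2 = 2 * d + 1)
    (h2 : ∀ i, 2 ≤ e i) (hle : ∀ i, e i ≤ d)
    {v : k[X] × k[X]} (hv : v ∈ L d P e) (hv0 : v ≠ 0)
    (hsep : IsSeparable (Submodule.span k {v.1, v.2})) :
    Submodule.span k {v.1, v.2} ∈ ramMaps d P e := by
  have hd2 : 2 ≤ d := (h2 0).trans (hle 0)
  -- the Wronskian of the basis is non-zero
  have hW : wronskian v.1 v.2 ≠ 0 := by
    obtain ⟨F, hF, G, hG, hFG⟩ := hsep
    obtain ⟨a, b, rfl⟩ := Submodule.mem_span_pair.mp hF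
    obtain ⟨c, d', rfl⟩ := Submodule.mem_span_pair.mp hG
    rw [wr_lin] at hFG
    intro h0
    rw [h0, smul_zero] at hFG
    exact hFG rfl
  have eW1 : wronskian v.1 v.2 = -wronskian v.2 v.1 := by rw [wronskian_neg_eq]
  have eW2 : wronskian v.1 v.2 = -wronskian (v.1 + v.2) v.1 := by
    rw [wronskian_neg_eq, wronskian_add_right, wronskian_self_eq_zero, zero_add]
  have hdvdW : ∀ i, (X - C (P i)) ^ (e i - 1) ∣ wronskian v.1 v.2 := by
    intro i
    fin_cases i
    · exact dvd_wr _ hv.1.2
    · rw [eW1]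
      exact (dvd_wr _ hv.2.1.2).neg_right
    · rw [eW2]
      exact (dvd_wr _ hv.2.2.2).neg_right
  have hdegW := wr_deg (natDegree_le_of_mem_degreeLE d hv.1.1)
    (natDegree_le_of_mem_degreeLE d hv.2.1.1) hW
  have hPi := prod_dvd H.inj (fun i => e i - 1) hdvdW
  have hPideg := natDegree_le_of_dvd hPi hW
  have hnd : ((X - C (P 0)) ^ (e 0 - 1) * (X - C (P 1)) ^ (e 1 - 1) *
      (X - C (P 2)) ^ (e 2 - 1)).natDegree = (e 0 - 1) + (e 1 - 1) + (e 2 - 1) :=
    natDegree_prod (P := P) (fun i => e i - 1)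
  rw [hnd] at hPideg
  have := h2 0
  have := h2 1
  have := h2 2
  -- no extra vanishing of the Wronskian at the three points
  have noExtra : ∀ i, ¬ (X - C (P i)) ^ e i ∣ wronskian v.1 v.2 := by
    intro i hi
    have key : ∀ m : Fin 3 → ℕ, (∀ j, (X - C (P j)) ^ m j ∣ wronskian v.1 v.2) →
        m 0 + m 1 + m 2 ≤ 2 * d - 2 := by
      intro m hm
      have h3 := natDegree_le_of_dvd (prod_dvd H.inj m hm) hW
      rw [natDegree_prod] at h3
      omega
    fin_cases i
    · have := key (fun j => if j = 0 then e j else e j - 1) (by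
        intro j
        by_cases hj : j = 0
        · subst hj; simpa using hi
        · simp only [hj, if_false]; exact hdvdW j)
      simp at this
      omega
    · have := key (fun j => if j = 1 then e j else e j - 1) (by
        intro j
        by_cases hj : j = 1
        · subst hj; simpa using hi
        · simp only [hj, if_false]; exact hdvdW j)
      simp at this
      omega
    · have := key (fun j => if j = 2 then e j else e j - 1) (by
        intro j
        by_cases hj : j = 2
        · subst hj; simpa using hi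
        · simp only [hj, if_false]; exact hdvdW j)
      simp at this
      omega
  have noExtra' : ∀ a : k, (∀ i, P i ≠ a) → ¬ (X - C a) ∣ wronskian v.1 v.2 := by
    intro a ha hdvd
    have hc : ∀ j (n : ℕ), IsCoprime (X - C a) ((X - C (P j)) ^ n) := by
      intro j n
      apply IsCoprime.pow_right
      apply isCoprime_X_sub_C_of_isUnit_sub
      exact (sub_ne_zero.mpr (ha j).symm).isUnit
    have hcop : IsCoprime (X - C a) ((X - C (P 0)) ^ (e 0 - 1) * (X - C (P 1)) ^ (e 1 - 1) *
        (X - C (P 2)) ^ (e 2 - 1)) :=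
      IsCoprime.mul_right (IsCoprime.mul_right (hc 0 _) (hc 1 _)) (hc 2 _)
    have h3 := natDegree_le_of_dvd (hcop.mul_dvd hdvd hPi) hW
    rw [natDegree_mul (X_sub_C_ne_zero a) (by
      apply mul_ne_zero (mul_ne_zero _ _) <;> exact pow_ne_zero _ (X_sub_C_ne_zero _)),
      natDegree_X_sub_C, hnd] at h3
    omega
  refine ⟨⟨span_le hv, finrank_span H hv hv0, ?_, ?_⟩, hsep, ?_⟩
  · -- a member of degree exactly d
    by_contra hcon
    push Not at hcon
    have b1 := natDegree_le_of_mem_degreeLE d hv.1.1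
    have b2 := natDegree_le_of_mem_degreeLE d hv.2.1.1
    have c1 := hcon v.1 (Submodule.subset_span (by simp))
    have c2 := hcon v.2 (Submodule.subset_span (by simp))
    have := wr_deg (n := d - 1) (F := v.1) (G := v.2) (by omega) (by omega) hW
    omega
  · -- base point freeness
    intro a
    by_contra hcon
    push Not at hcon
    have r1 : (X - C a) ∣ v.1 := dvd_iff_isRoot.mpr (hcon v.1 (Submodule.subset_span (by simp)))
    have r2 : (X - C a) ∣ v.2 := dvd_iff_isRoot.mpr (hcon v.2 (Submodule.subset_span (by simp)))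
    by_cases hPa : ∃ i, P i = a
    · obtain ⟨i, rfl⟩ := hPa
      fin_cases i
      · exact noExtra 0 (dvd_wr_base hv.1.2 r2 (by omega))
      · apply noExtra 1
        rw [eW1]
        exact (dvd_wr_base hv.2.1.2 r1 (by omega)).neg_right
      · apply noExtra 2
        rw [eW2]
        exact (dvd_wr_base hv.2.2.2 r1 (by omega)).neg_right
    · push Not at hPa
      apply noExtra' a hPa
      exact dvd_sub (Dvd.dvd.mul_right r1 _) (Dvd.dvd.mul_left r2 _)
  · -- exact ramification
    intro i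
    refine ⟨exists_rootMult H hv hv0 i, ?_⟩
    intro s hs hs0
    by_contra hcon
    push Not at hcon
    have hdvd : (X - C (P i)) ^ (e i + 1) ∣ s := (le_rootMultiplicity_iff hs0).mp hcon
    obtain ⟨α, β, rfl⟩ := Submodule.mem_span_pair.mp hs
    by_cases hα : α = 0
    · subst hα
      have hβ : β ≠ 0 := by
        rintro rfl
        simp at hs0
      have h3 := dvd_wr v.1 hdvd
      have e3 : wronskian ((0 : k) • v.1 + β • v.2) v.1 = C (-β) * wronskian v.1 v.2 := by
        have h := wr_lin v.1 v.2 0 β 1 0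
        have e4 : (1 : k) • v.1 + (0 : k) • v.2 = v.1 := by simp
        rw [e4] at h
        rw [h, smul_eq_C_mul]
        congr 2
        ring
      rw [e3, Nat.add_sub_cancel] at h3
      apply noExtra i
      have hu : IsUnit (C (-β) : k[X]) := isUnit_C.mpr (neg_ne_zero.mpr hβ).isUnit
      exact (hu.dvd_mul_left).mp h3
    · have h3 := dvd_wr v.2 hdvd
      have e3 : wronskian (α • v.1 + β • v.2) v.2 = C α * wronskian v.1 v.2 := by
        have h := wr_lin v.1 v.2 α β 0 1
        have e4 : (0 : k) • v.1 + (1 : k) • v.2 = v.2 := by simp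
        rw [e4] at h
        rw [h, smul_eq_C_mul]
        congr 2
        ring
      rw [e3, Nat.add_sub_cancel] at h3
      apply noExtra i
      have hu : IsUnit (C α : k[X]) := isUnit_C.mpr (Ne.isUnit hα)
      exact (hu.dvd_mul_left).mp h3

theorem main18 (p : ℕ) (hP : Function.Injective P) (he : Admissible p d e) :
    (ramMaps d P e).Subsingleton ∧
      (ramMaps d P e = ∅ ↔
        ∃ V : Submodule k k[X], V ≤ Polynomial.degreeLE k d ∧ Module.finrank k V = 2 ∧
          ¬ IsSeparable V ∧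
          ∀ i, ∃ s ∈ V, s ≠ 0 ∧ e i ≤ Polynomial.rootMultiplicity (P i) s) := by
  obtain ⟨H, hle, hsum⟩ := hyp_of_admissible hP he
  refine ⟨ramMaps_subsingleton H hsum, ?_, ?_⟩
  · intro hempty
    obtain ⟨v, hv, hv0⟩ := Submodule.exists_mem_ne_zero_of_ne_bot (L_ne_bot (P := P) hle hsum)
    refine ⟨Submodule.span k {v.1, v.2}, span_le hv, finrank_span H hv hv0, ?_,
      exists_rootMult H hv hv0⟩
    intro hsep
    have := mem_ramMaps_of_sep H hsum (fun i => (he.1 i).1) hle hv hv0 hsep
    rw [hempty] at this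
    exact this
  · rintro ⟨V, hV, hfr, hins, hs⟩
    exact ramMaps_eq_empty_of_insep H hsum V hV hfr hins hs

end Ram

end Groth.Agent.Lib.H6xPencil
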