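import Groth.Agent.Lib.H6xPencil2

set_option autoImplicit false
open Polynomial W4c1limliniiii

namespace Groth.Agent.Lib.H6xPencil

universe u
variable {k : Type u} [Field k] (p : ℕ) [Fact p.Prime] [CharP k p]

section Family

variable {p} {d E : ℕ} {F G : k[X]} (hFd : F.natDegree = d) (hG0 : G ≠ 0)
  (hGd : G.natDegree + E = d) (hpE : p < E)

/-- the deformed first generator -/
noncomputable def Ft (F G : k[X]) (p : ℕ) (t : k) : k[X] := F + C t * X ^ p * G

include hFd hG0 hGd hpE

lemma natDegree_extra_lt (t : k) : (C t * X ^ p * G).natDegree < d := by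
  have h1 : (C t * X ^ p * G).natDegree ≤ p + G.natDegree := by
    refine natDegree_mul_le.trans ?_
    have : (C t * X ^ p : k[X]).natDegree ≤ p := by
      refine natDegree_mul_le.trans ?_
      rw [natDegree_C, natDegree_X_pow, zero_add]
    omega
  omega

lemma natDegree_Ft (t : k) : (Ft F G p t).natDegree = d := by
  have h := natDegree_extra_lt hFd hG0 hGd hpE t
  rw [Ft, natDegree_add_eq_left_of_natDegree_lt (by omega), hFd]

lemma indep_Ft (t : k) (a b : k) (hab : a • Ft F G p t + b • G = 0) : a = 0 ∧ b = 0 := by
  have ha : a = 0 := by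
    by_contra ha
    have h1 : (a • Ft F G p t).natDegree = d := by
      rw [natDegree_smul _ ha, natDegree_Ft hFd hG0 hGd hpE]
    have h2 : a • Ft F G p t = -(b • G) := eq_neg_of_add_eq_zero_left hab
    rw [h2, natDegree_neg] at h1
    have h3 : (b • G).natDegree ≤ G.natDegree := natDegree_smul_le _ _
    have : 0 < E := by omega
    omega
  subst ha
  rw [zero_smul, zero_add] at hab
  exact ⟨rfl, (smul_eq_zero.mp hab).resolve_right hG0⟩

lemma natDegree_member (t : k) (a b : k) (ha : a ≠ 0) :
    (a • Ft F G p t + b • G).natDegree = d := by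
  have h1 : (a • Ft F G p t).natDegree = d := by
    rw [natDegree_smul _ ha, natDegree_Ft hFd hG0 hGd hpE]
  have h3 : (b • G).natDegree ≤ G.natDegree := natDegree_smul_le _ _
  have : 0 < E := by omega
  rw [natDegree_add_eq_left_of_natDegree_lt (by omega), h1]

end Family

section Main20

variable [IsAlgClosed k]

lemma span_pair_eq_of_indep {V : Submodule k k[X]} (hfr : Module.finrank k V = 2) {F G : k[X]}
    (hF : F ∈ V) (hG : G ∈ V) (hind : ∀ a b : k, a • F + b • G = 0 → a = 0 ∧ b = 0) :
    Submodule.span k {F, G} = V := by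
  haveI : Module.Finite k V := Module.finite_of_finrank_pos (by omega)
  apply Submodule.eq_of_le_of_finrank_eq
  · rw [Submodule.span_le]
    rintro x (rfl | rfl)
    · exact hF
    · exact hG
  · have h1 := finrank_span_eq_card (LinearIndependent.pair_iff.mpr hind)
    rw [range_pair] at h1
    rw [hfr]
    simpa using h1

lemma finrank_span_pair {F G : k[X]}
    (hind : ∀ a b : k, a • F + b • G = 0 → a = 0 ∧ b = 0) :
    Module.finrank k (Submodule.span k {F, G}) = 2 := by
  have h1 := finrank_span_eq_card (LinearIndependent.pair_iff.mpr hind)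
  rw [range_pair] at h1
  simpa using h1

theorem main20 (d n : ℕ) (P : Fin n → k) (e : Fin n → ℕ) (E : ℕ)
    (he : Admissible p d (Fin.cons E e : Fin (n + 1) → ℕ))
    (hlt : ∀ i, e i < p) (hE : p < E) :
    {V : Submodule k k[X] | V ∈ ramMaps d P e ∧ HasRamIdxInf d V E} = ∅ ∨
      {V : Submodule k k[X] | V ∈ ramMaps d P e ∧ HasRamIdxInf d V E}.Infinite := by
  by_cases hempty : {V : Submodule k k[X] | V ∈ ramMaps d P e ∧ HasRamIdxInf d V E} = ∅
  · exact Or.inl hempty
  right
  obtain ⟨V, hV⟩ := Set.nonempty_iff_ne_empty.mpr hempty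
  obtain ⟨⟨⟨hle, hfr, ⟨F, hFV, hFd⟩, hbpf⟩, hsep, hram⟩, ⟨G, hGV, hG0, hGd1⟩, hinf⟩ := hV
  have hE2 : 2 ≤ E := by
    have := (he.1 0).1
    simpa using this
  have hGd : G.natDegree + E = d := le_antisymm hGd1 (hinf G hGV hG0)
  have hF0 : F ≠ 0 := by
    rintro rfl
    rw [natDegree_zero] at hFd
    omega
  -- F, G is a basis of V
  have hindFG : ∀ a b : k, a • F + b • G = 0 → a = 0 ∧ b = 0 := by
    intro a b hab
    have := indep_Ft (p := p) hFd hG0 hGd hE 0 a b (by simpa [Ft] using hab)
    exact this
  have hspanV : Submodule.span k {F, G} = V := span_pair_eq_of_indep hfr hFV hGV hindFG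
  have hWFG : wronskian F G ≠ 0 := by
    obtain ⟨A, hA, B, hB, hAB⟩ := hsep
    rw [← hspanV] at hA hB
    obtain ⟨a, b, rfl⟩ := Submodule.mem_span_pair.mp hA
    obtain ⟨c, d', rfl⟩ := Submodule.mem_span_pair.mp hB
    rw [wr_lin] at hAB
    intro h0
    rw [h0, smul_zero] at hAB
    exact hAB rfl
  have hpk : (p : k) = 0 := CharP.cast_eq_zero k p
  -- the family
  let Vt : k → Submodule k k[X] := fun t => Submodule.span k {Ft F G p t, G}
  have hmem : ∀ t, Vt t ∈ {V : Submodule k k[X] | V ∈ ramMaps d P e ∧ HasRamIdxInf d V E} := by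
    intro t
    have hind := indep_Ft (p := p) hFd hG0 hGd hE t
    have hFtd := natDegree_Ft (p := p) hFd hG0 hGd hE t
    have hFtmem : Ft F G p t ∈ Vt t := Submodule.subset_span (by simp)
    have hGmem : G ∈ Vt t := Submodule.subset_span (by simp)
    refine ⟨⟨⟨?_, finrank_span_pair hind, ⟨_, hFtmem, hFtd⟩, ?_⟩, ?_, ?_⟩, ?_⟩
    · -- degree bound
      rw [Submodule.span_le]
      rintro x (rfl | rfl)
      · exact mem_degreeLE_of_natDegree_le d hFtd.le
      · exact mem_degreeLE_of_natDegree_le d (by omega)
    · -- base point free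
      intro a
      by_cases hGa : G.eval a = 0
      · refine ⟨_, hFtmem, ?_⟩
        obtain ⟨s, hsV, hsa⟩ := hbpf a
        rw [← hspanV] at hsV
        obtain ⟨α, β, rfl⟩ := Submodule.mem_span_pair.mp hsV
        intro h0
        apply hsa
        have : F.eval a = 0 := by simpa [Ft, hGa] using h0
        simp [this, hGa]
      · exact ⟨G, hGmem, hGa⟩
    · -- separable
      refine ⟨_, hFtmem, G, hGmem, ?_⟩
      have : wronskian (Ft F G p t) G = wronskian F G := by
        simp only [Ft, wronskian, derivative_add, derivative_mul, derivative_C, derivative_X_pow,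
          hpk, C_0]
        ring
      rw [this]
      exact hWFG
    · -- ramification at the finite points
      intro i
      have hei : e i < p := hlt i
      have hup : (X - C (P i)) ^ p = X ^ p - C (P i ^ p) := by
        rw [sub_pow_char, ← C_pow]
      obtain ⟨⟨s₀, hs₀V, hs₀0, hs₀m⟩, hmax⟩ := hram i
      constructor
      · rw [← hspanV] at hs₀V
        obtain ⟨α, β, rfl⟩ := Submodule.mem_span_pair.mp hs₀V
        have hαβ : ¬ (α = 0 ∧ β = 0) := by
          rintro ⟨rfl, rfl⟩
          simp at hs₀0
        refine ⟨α • Ft F G p t + (β - α * t * P i ^ p) • G,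
          Submodule.add_mem _ (Submodule.smul_mem _ _ hFtmem) (Submodule.smul_mem _ _ hGmem), ?_, ?_⟩
        · intro h0
          obtain ⟨rfl, h2⟩ := hind _ _ h0
          apply hαβ
          refine ⟨rfl, ?_⟩
          simpa using h2
        · have hne : α • Ft F G p t + (β - α * t * P i ^ p) • G ≠ 0 := by
            intro h0
            obtain ⟨rfl, h2⟩ := hind _ _ h0
            apply hαβ
            refine ⟨rfl, ?_⟩
            simpa using h2
          rw [le_rootMultiplicity_iff hne]
          have e1 : α • Ft F G p t + (β - α * t * P i ^ p) • G =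
              (α • F + β • G) + C (α * t) * G * (X - C (P i)) ^ p := by
            rw [hup]
            simp only [Ft, smul_eq_C_mul, C_sub, C_mul, C_pow]
            ring
          rw [e1]
          apply dvd_add ((le_rootMultiplicity_iff hs₀0).mp hs₀m)
          exact Dvd.dvd.mul_left (pow_dvd_pow _ hei.le) _
      · intro s hs hs0
        by_contra hcon
        push Not at hcon
        have hdvd : (X - C (P i)) ^ (e i + 1) ∣ s := (le_rootMultiplicity_iff hs0).mp hcon
        obtain ⟨α, β, rfl⟩ := Submodule.mem_span_pair.mp hs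
        have e1 : α • Ft F G p t + β • G =
            (α • F + (β + α * t * P i ^ p) • G) + C (α * t) * G * (X - C (P i)) ^ p := by
          rw [hup]
          simp only [Ft, smul_eq_C_mul, C_add, C_mul, C_pow]
          ring
        have hv : (X - C (P i)) ^ (e i + 1) ∣ α • F + (β + α * t * P i ^ p) • G := by
          have h3 : (X - C (P i)) ^ (e i + 1) ∣ C (α * t) * G * (X - C (P i)) ^ p :=
            Dvd.dvd.mul_left (pow_dvd_pow _ (by omega)) _
          have h4 := dvd_sub (e1 ▸ hdvd) h3
          simpa using h4
        have hvne : α • F + (β + α * t * P i ^ p) • G ≠ 0 := by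
          intro h0
          obtain ⟨rfl, h2⟩ := hindFG _ _ h0
          apply hs0
          have : β = 0 := by simpa using h2
          subst this
          simp
        have hvV : α • F + (β + α * t * P i ^ p) • G ∈ V :=
          Submodule.add_mem _ (Submodule.smul_mem _ _ hFV) (Submodule.smul_mem _ _ hGV)
        have := hmax _ hvV hvne
        have h5 := (le_rootMultiplicity_iff hvne).mpr hv
        omega
    · -- ramification at infinity
      refine ⟨⟨G, hGmem, hG0, hGd.le⟩, ?_⟩
      intro s hs hs0
      obtain ⟨α, β, rfl⟩ := Submodule.mem_span_pair.mp hs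
      by_cases hα : α = 0
      · subst hα
        have hβ : β ≠ 0 := by
          rintro rfl
          simp at hs0
        rw [zero_smul, zero_add, natDegree_smul _ hβ]
        omega
      · rw [natDegree_member (p := p) hFd hG0 hGd hE t α β hα]
        omega
  have hinj : Function.Injective Vt := by
    intro s t hst
    by_contra hne
    have h1 : Ft F G p s ∈ Vt t := by
      rw [← hst]
      exact Submodule.subset_span (by simp)
    obtain ⟨α, β, hαβ⟩ := Submodule.mem_span_pair.mp h1
    -- (α - 1) F + (α t - s) X^p G + β G = 0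
    have e1 : (α - 1) • Ft F G p t + (C (t - s) * X ^ p * G + β • G) = 0 := by
      have : Ft F G p s = Ft F G p t - C (t - s) * X ^ p * G := by
        simp only [Ft, C_sub]
        ring
      rw [this] at hαβ
      rw [sub_smul, one_smul]
      linear_combination hαβ
    have hα : α = 1 := by
      by_contra hα
      have h2 : ((α - 1) • Ft F G p t).natDegree = d := by
        rw [natDegree_smul _ (sub_ne_zero.mpr hα), natDegree_Ft hFd hG0 hGd hE]
      have h3 : (α - 1) • Ft F G p t = -(C (t - s) * X ^ p * G + β • G) :=
        eq_neg_of_add_eq_zero_left e1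
      rw [h3, natDegree_neg] at h2
      have h4 := natDegree_extra_lt (p := p) hFd hG0 hGd hE (t - s)
      have h5 : (β • G).natDegree ≤ G.natDegree := natDegree_smul_le _ _
      have h6 := natDegree_add_le (C (t - s) * X ^ p * G) (β • G)
      have : max (C (t - s) * X ^ p * G).natDegree (β • G).natDegree < d := by
        rw [max_lt_iff]
        omega
      omega
    subst hα
    rw [sub_self, zero_smul, zero_add] at e1
    have hts : t - s ≠ 0 := sub_ne_zero.mpr (Ne.symm hne)
    have h7 : (C (t - s) * X ^ p * G).natDegree = p + G.natDegree := by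
      rw [natDegree_mul (mul_ne_zero (C_ne_zero.mpr hts) (pow_ne_zero _ X_ne_zero)) hG0,
        natDegree_C_mul hts, natDegree_X_pow]
    have h8 : C (t - s) * X ^ p * G = -(β • G) := eq_neg_of_add_eq_zero_left e1
    rw [h8, natDegree_neg] at h7
    have h9 : (β • G).natDegree ≤ G.natDegree := natDegree_smul_le _ _
    have : 0 < p := (Fact.out : p.Prime).pos
    omega
  exact Set.infinite_of_injective_forall_mem hinj hmem

end Main20

end Groth.Agent.Lib.H6xPencil
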