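import Groth.Agent.Lib.H6xPencil3

set_option autoImplicit false
open Polynomial W4c1limliniiii

namespace Groth.Agent.Lib.H6xPencil

universe u
variable {k : Type u} [Field k]

/-- leading coefficient of a Wronskian of polynomials of different degrees -/
lemma coeff_wronskian_top {A B : k[X]} {m' n : ℕ} (hA : A.natDegree = m' + 1)
    (hB : B.natDegree = n) :
    (wronskian A B).coeff (m' + n) = A.leadingCoeff * B.leadingCoeff * ((n : k) - (m' + 1 : ℕ)) := by
  have h1 : (derivative A * B).coeff (m' + n) = (A.coeff (m' + 1) * (m' + 1 : ℕ)) * B.coeff n := by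
    rw [coeff_mul_add_eq_of_natDegree_le ((natDegree_derivative_le A).trans (by omega)) hB.le,
      coeff_derivative]
    push_cast
    ring
  have h2 : (A * derivative B).coeff (m' + n) = A.coeff (m' + 1) * (B.coeff n * n) := by
    rcases Nat.eq_zero_or_pos n with rfl | hn
    · have : derivative B = 0 := by
        rw [eq_C_of_natDegree_eq_zero hB, derivative_C]
      rw [this, mul_zero, coeff_zero]
      simp
    · obtain ⟨n', rfl⟩ := Nat.exists_eq_succ_of_ne_zero hn.ne'
      have e1 : m' + (n' + 1) = (m' + 1) + n' := by omega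
      rw [e1, coeff_mul_add_eq_of_natDegree_le hA.le ((natDegree_derivative_le B).trans (by omega)),
        coeff_derivative]
      push_cast
      ring
  rw [wronskian, coeff_sub, h1, h2, leadingCoeff, leadingCoeff, hA, hB]
  push_cast
  ring

lemma wronskian_ne_zero_of_natDegree_lt (p : ℕ) [CharP k p] {d : ℕ} (hp : p = 0 ∨ d < p)
    {A B : k[X]} (hA : A.natDegree ≤ d) (hB0 : B ≠ 0) (hlt : B.natDegree < A.natDegree) :
    wronskian A B ≠ 0 := by
  obtain ⟨m', hm'⟩ : ∃ m', A.natDegree = m' + 1 := ⟨A.natDegree - 1, by omega⟩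
  have hA0 : A ≠ 0 := by
    rintro rfl
    simp at hm'
  intro h0
  have h1 := coeff_wronskian_top hm' (rfl : B.natDegree = B.natDegree)
  rw [h0, coeff_zero] at h1
  have h2 : ((B.natDegree : k) - (m' + 1 : ℕ)) ≠ 0 := by
    intro h3
    have h4 : ((m' + 1 - B.natDegree : ℕ) : k) = 0 := by
      rw [Nat.cast_sub (by omega)]
      rw [← neg_eq_zero]
      simpa using h3
    rw [CharP.cast_eq_zero_iff k p] at h4
    rcases hp with rfl | hp
    · simp at h4
      omega
    · have := Nat.le_of_dvd (by omega) h4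
      omega
  have h5 := mul_ne_zero (mul_ne_zero (leadingCoeff_ne_zero.mpr hA0) (leadingCoeff_ne_zero.mpr hB0))
    h2
  exact h5 h1.symm

/-- in characteristic zero or large characteristic every pencil is separable -/
lemma sep_of_small (p : ℕ) [CharP k p] {d : ℕ} (hp : p = 0 ∨ d < p) {F G : k[X]}
    (hF : F.natDegree ≤ d) (hG : G.natDegree ≤ d)
    (hind : ∀ a b : k, a • F + b • G = 0 → a = 0 ∧ b = 0) :
    IsSeparable (Submodule.span k {F, G}) := by
  have hF0 : F ≠ 0 := by
    rintro rfl
    have := hind 1 0 (by simp)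
    exact one_ne_zero this.1
  have hG0 : G ≠ 0 := by
    rintro rfl
    have := hind 0 1 (by simp)
    exact one_ne_zero this.2
  have hFm : F ∈ Submodule.span k {F, G} := Submodule.subset_span (by simp)
  have hGm : G ∈ Submodule.span k {F, G} := Submodule.subset_span (by simp)
  rcases lt_trichotomy F.natDegree G.natDegree with h | h | h
  · exact ⟨G, hGm, F, hFm, wronskian_ne_zero_of_natDegree_lt p hp hG hF0 h⟩
  · -- equal degrees: reduce G
    set c := G.leadingCoeff / F.leadingCoeff with hc
    have hlF : F.leadingCoeff ≠ 0 := leadingCoeff_ne_zero.mpr hF0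
    have hlG : G.leadingCoeff ≠ 0 := leadingCoeff_ne_zero.mpr hG0
    have hc0 : c ≠ 0 := div_ne_zero hlG hlF
    have hG1 : G - C c * F ≠ 0 := by
      intro h0
      have := hind (-c) 1 (by rw [one_smul, neg_smul, smul_eq_C_mul]; rw [← h0]; ring)
      exact one_ne_zero this.2
    have hdeg : (G - C c * F).degree < G.degree := by
      apply degree_sub_lt_left
      · rw [degree_C_mul hc0, degree_eq_natDegree hF0, degree_eq_natDegree hG0, h]
      · exact hG0
      · rw [leadingCoeff_mul, leadingCoeff_C, hc, div_mul_cancel₀ _ hlF]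
    have h2 := natDegree_lt_natDegree hG1 hdeg
    refine ⟨F, hFm, G - C c * F, ?_, wronskian_ne_zero_of_natDegree_lt p hp hF hG1 (by omega)⟩
    rw [← smul_eq_C_mul]
    exact Submodule.sub_mem _ hGm (Submodule.smul_mem _ _ hFm)
  · exact ⟨F, hFm, G, hGm, wronskian_ne_zero_of_natDegree_lt p hp hF hG0 h⟩

section Main19

variable [IsAlgClosed k] {d : ℕ} {P : Fin 3 → k} {e : Fin 3 → ℕ}

theorem main19_empty (p : ℕ) [CharP k p] (hP : Function.Injective P)
    (he : Admissible p d e) (hp0 : p ≠ 0) (h0 : e 0 < p) (h1 : e 1 < p) (hpd : p ≤ d) :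
    ramMaps d P e = ∅ := by
  obtain ⟨H, hle, hsum⟩ := hyp_of_admissible hP he
  have hpk : (p : k) = 0 := CharP.cast_eq_zero k p
  have hppos : 0 < p := Nat.pos_of_ne_zero hp0
  set c := e 2 - p with hc
  set h : k[X] := (X - C (P 2)) ^ c with hh
  have hh0 : h ≠ 0 := pow_ne_zero _ (X_sub_C_ne_zero _)
  have hhd : h.natDegree = c := natDegree_pow_X_sub_C _ _
  have hXp : (h * X ^ p).natDegree = c + p := by
    rw [natDegree_mul hh0 (pow_ne_zero _ X_ne_zero), hhd, natDegree_X_pow]
  have hind : ∀ a b : k, a • h + b • (h * X ^ p) = 0 → a = 0 ∧ b = 0 := by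
    intro a b hab
    have e1 : a • h + b • (h * X ^ p) = h * (C a + C b * X ^ p) := by
      simp only [smul_eq_C_mul]
      ring
    rw [e1] at hab
    have h3 := (mul_eq_zero.mp hab).resolve_left hh0
    have ha : a = 0 := by
      have := congrArg (fun q => coeff q 0) h3
      simpa [coeff_X_pow, hppos.ne] using this
    have hb : b = 0 := by
      have := congrArg (fun q => coeff q p) h3
      simpa [coeff_X_pow, coeff_C, hp0, ha] using this
    exact ⟨ha, hb⟩
  have hW0 : wronskian h (h * X ^ p) = 0 := by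
    simp only [wronskian, derivative_mul, derivative_X_pow, hpk, C_0]
    ring
  have hle2 := hle 2
  apply ramMaps_eq_empty_of_insep H hsum (Submodule.span k {h, h * X ^ p})
  · rw [Submodule.span_le]
    rintro x (rfl | rfl)
    · exact mem_degreeLE_of_natDegree_le d (by omega)
    · exact mem_degreeLE_of_natDegree_le d (by omega)
  · exact finrank_span_pair hind
  · rintro ⟨A, hA, B, hB, hAB⟩
    obtain ⟨a, b, rfl⟩ := Submodule.mem_span_pair.mp hA
    obtain ⟨c', d', rfl⟩ := Submodule.mem_span_pair.mp hB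
    rw [wr_lin, hW0, smul_zero] at hAB
    exact hAB rfl
  · have hmem : ∀ a : k, h * (X - C a) ^ p ∈ Submodule.span k {h, h * X ^ p} := by
      intro a
      haveI : Fact p.Prime := ⟨(CharP.char_is_prime_or_zero k p).resolve_right hp0⟩
      have e1 : h * (X - C a) ^ p = (-(a ^ p)) • h + (1 : k) • (h * X ^ p) := by
        rw [sub_pow_char, ← C_pow, smul_eq_C_mul, one_smul, C_neg]
        ring
      rw [e1]
      exact Submodule.add_mem _ (Submodule.smul_mem _ _ (Submodule.subset_span (by simp)))
        (Submodule.smul_mem _ _ (Submodule.subset_span (by simp)))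
    have hne : ∀ a : k, h * (X - C a) ^ p ≠ 0 :=
      fun a => mul_ne_zero hh0 (pow_ne_zero _ (X_sub_C_ne_zero _))
    intro i
    fin_cases i
    · refine ⟨_, hmem (P 0), hne _, (le_rootMultiplicity_iff (hne _)).mpr ?_⟩
      exact Dvd.dvd.mul_left (pow_dvd_pow _ h0.le) _
    · refine ⟨_, hmem (P 1), hne _, (le_rootMultiplicity_iff (hne _)).mpr ?_⟩
      exact Dvd.dvd.mul_left (pow_dvd_pow _ h1.le) _
    · refine ⟨_, hmem (P 2), hne _, ?_⟩
      show e 2 ≤ rootMultiplicity (P 2) (h * (X - C (P 2)) ^ p)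
      rw [le_rootMultiplicity_iff (hne _), hh, ← pow_add]
      exact pow_dvd_pow _ (by omega)

theorem main19_unique (p : ℕ) [CharP k p] (hP : Function.Injective P)
    (he : Admissible p d e) (hp : p = 0 ∨ d < p) :
    ∃ V : Submodule k k[X], ramMaps d P e = {V} := by
  obtain ⟨H, hle, hsum⟩ := hyp_of_admissible hP he
  obtain ⟨v, hv, hv0⟩ := Submodule.exists_mem_ne_zero_of_ne_bot (L_ne_bot (P := P) hle hsum)
  have hsep : IsSeparable (Submodule.span k {v.1, v.2}) :=
    sep_of_small p hp (natDegree_le_of_mem_degreeLE d hv.1.1)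
      (natDegree_le_of_mem_degreeLE d hv.2.1.1) (linIndep_aux H hv hv0)
  have hmem := mem_ramMaps_of_sep H hsum (fun i => (he.1 i).1) hle hv hv0 hsep
  exact ⟨_, (ramMaps_subsingleton H hsum).eq_singleton_of_mem hmem⟩

theorem main19 (p : ℕ) [CharP k p] (hP : Function.Injective P) (he : Admissible p d e) :
    (p ≠ 0 → e 0 < p → e 1 < p → p ≤ d → ramMaps d P e = ∅) ∧
      (p = 0 ∨ d < p → ∃ V : Submodule k k[X], ramMaps d P e = {V}) :=
  ⟨fun hp0 h0 h1 hpd => main19_empty p hP he hp0 h0 h1 hpd, fun hp => main19_unique p hP he hp⟩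

end Main19

end Groth.Agent.Lib.H6xPencil
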