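import Mathlib

set_option autoImplicit false

/-! Laplace expansions along the first row for small matrices with literal index vectors, and the
determinant of the bordered skew-symmetric `6 × 6` matrix attached to the twisted-cubic
five-fold point: it is the square of `l₁ q₁ + … + l₅ q₅`. -/

namespace Groth.Agent.Lib.H6xPf

variable {R : Type*} [CommRing R]

theorem det4_row0 (A : Matrix (Fin 4) (Fin 4) R) :
    A.det = A 0 0 * (A.submatrix ![1, 2, 3] ![1, 2, 3]).det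
      - A 0 1 * (A.submatrix ![1, 2, 3] ![0, 2, 3]).det
      + A 0 2 * (A.submatrix ![1, 2, 3] ![0, 1, 3]).det
      - A 0 3 * (A.submatrix ![1, 2, 3] ![0, 1, 2]).det := by
  rw [Matrix.det_succ_row_zero]
  have hs : (Fin.succ : Fin 3 → Fin 4) = ![1, 2, 3] := by
    funext i; fin_cases i <;> rfl
  have h0 : (Fin.succAbove (0 : Fin 4)) = ![1, 2, 3] := by
    funext i; fin_cases i <;> rfl
  have h1 : (Fin.succAbove (1 : Fin 4)) = ![0, 2, 3] := by
    funext i; fin_cases i <;> rfl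
  have h2 : (Fin.succAbove (2 : Fin 4)) = ![0, 1, 3] := by
    funext i; fin_cases i <;> rfl
  have h3 : (Fin.succAbove (3 : Fin 4)) = ![0, 1, 2] := by
    funext i; fin_cases i <;> rfl
  rw [Fin.sum_univ_four, hs, h0, h1, h2, h3]
  simp
  ring

theorem det5_row0 (A : Matrix (Fin 5) (Fin 5) R) :
    A.det = A 0 0 * (A.submatrix ![1, 2, 3, 4] ![1, 2, 3, 4]).det
      - A 0 1 * (A.submatrix ![1, 2, 3, 4] ![0, 2, 3, 4]).det
      + A 0 2 * (A.submatrix ![1, 2, 3, 4] ![0, 1, 3, 4]).det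
      - A 0 3 * (A.submatrix ![1, 2, 3, 4] ![0, 1, 2, 4]).det
      + A 0 4 * (A.submatrix ![1, 2, 3, 4] ![0, 1, 2, 3]).det := by
  rw [Matrix.det_succ_row_zero]
  have hs : (Fin.succ : Fin 4 → Fin 5) = ![1, 2, 3, 4] := by
    funext i; fin_cases i <;> rfl
  have h0 : (Fin.succAbove (0 : Fin 5)) = ![1, 2, 3, 4] := by
    funext i; fin_cases i <;> rfl
  have h1 : (Fin.succAbove (1 : Fin 5)) = ![0, 2, 3, 4] := by
    funext i; fin_cases i <;> rfl
  have h2 : (Fin.succAbove (2 : Fin 5)) = ![0, 1, 3, 4] := by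
    funext i; fin_cases i <;> rfl
  have h3 : (Fin.succAbove (3 : Fin 5)) = ![0, 1, 2, 4] := by
    funext i; fin_cases i <;> rfl
  have h4 : (Fin.succAbove (4 : Fin 5)) = ![0, 1, 2, 3] := by
    funext i; fin_cases i <;> rfl
  rw [Fin.sum_univ_five, hs, h0, h1, h2, h3, h4]
  simp
  ring

theorem det6_row0 (A : Matrix (Fin 6) (Fin 6) R) :
    A.det = A 0 0 * (A.submatrix ![1, 2, 3, 4, 5] ![1, 2, 3, 4, 5]).det
      - A 0 1 * (A.submatrix ![1, 2, 3, 4, 5] ![0, 2, 3, 4, 5]).det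
      + A 0 2 * (A.submatrix ![1, 2, 3, 4, 5] ![0, 1, 3, 4, 5]).det
      - A 0 3 * (A.submatrix ![1, 2, 3, 4, 5] ![0, 1, 2, 4, 5]).det
      + A 0 4 * (A.submatrix ![1, 2, 3, 4, 5] ![0, 1, 2, 3, 5]).det
      - A 0 5 * (A.submatrix ![1, 2, 3, 4, 5] ![0, 1, 2, 3, 4]).det := by
  rw [Matrix.det_succ_row_zero]
  have hs : (Fin.succ : Fin 5 → Fin 6) = ![1, 2, 3, 4, 5] := by
    funext i; fin_cases i <;> rfl
  have h0 : (Fin.succAbove (0 : Fin 6)) = ![1, 2, 3, 4, 5] := by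
    funext i; fin_cases i <;> rfl
  have h1 : (Fin.succAbove (1 : Fin 6)) = ![0, 2, 3, 4, 5] := by
    funext i; fin_cases i <;> rfl
  have h2 : (Fin.succAbove (2 : Fin 6)) = ![0, 1, 3, 4, 5] := by
    funext i; fin_cases i <;> rfl
  have h3 : (Fin.succAbove (3 : Fin 6)) = ![0, 1, 2, 4, 5] := by
    funext i; fin_cases i <;> rfl
  have h4 : (Fin.succAbove (4 : Fin 6)) = ![0, 1, 2, 3, 5] := by
    funext i; fin_cases i <;> rfl
  have h5 : (Fin.succAbove (5 : Fin 6)) = ![0, 1, 2, 3, 4] := by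
    funext i; fin_cases i <;> rfl
  rw [Fin.sum_univ_six, hs, h0, h1, h2, h3, h4, h5]
  simp
  ring

def pfM (x0 x1 x2 x3 l1 l2 l3 l4 l5 : R) : Matrix (Fin 6) (Fin 6) R :=
  !![0, 0, 0, x3, -x2, l1;
     0, 0, -x3, -x2, x1, l2;
     0, x3, 0, x1, -x0, l3;
     -x3, x2, -x1, 0, 0, l4;
     x2, -x1, x0, 0, 0, l5;
     -l1, -l2, -l3, -l4, -l5, 0]

set_option maxHeartbeats 4000000 in
set_option maxRecDepth 100000 in
theorem det_pfM (x0 x1 x2 x3 l1 l2 l3 l4 l5 : R) :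
    (pfM x0 x1 x2 x3 l1 l2 l3 l4 l5).det =
      (l1 * (x0 * x2 - x1 ^ 2) + l2 * (x0 * x3 - x1 * x2) + l3 * (x1 * x3 - x2 ^ 2) +
        l4 * (x2 * x3) + l5 * x3 ^ 2) ^ 2 := by
  rw [det6_row0]
  simp only [det5_row0, det4_row0, Matrix.det_fin_three, Matrix.submatrix_apply]
  simp [pfM]
  ring

theorem pfM_transpose (x0 x1 x2 x3 l1 l2 l3 l4 l5 : R) :
    (pfM x0 x1 x2 x3 l1 l2 l3 l4 l5).transpose = -pfM x0 x1 x2 x3 l1 l2 l3 l4 l5 := by
  ext i j
  fin_cases i <;> fin_cases j <;> simp [pfM]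

theorem pfM_diag (x0 x1 x2 x3 l1 l2 l3 l4 l5 : R) (i : Fin 6) :
    pfM x0 x1 x2 x3 l1 l2 l3 l4 l5 i i = 0 := by
  fin_cases i <;> simp [pfM]

theorem pfM_entry (P : R → Prop) (h0 : P 0) (hneg : ∀ r, P r → P (-r))
    (x0 x1 x2 x3 l1 l2 l3 l4 l5 : R) (hx0 : P x0) (hx1 : P x1) (hx2 : P x2) (hx3 : P x3)
    (hl1 : P l1) (hl2 : P l2) (hl3 : P l3) (hl4 : P l4) (hl5 : P l5) (i j : Fin 6) :
    P (pfM x0 x1 x2 x3 l1 l2 l3 l4 l5 i j) := by
  fin_cases i <;> fin_cases j <;> simp [pfM] <;> first | assumption | (apply hneg; assumption)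

end Groth.Agent.Lib.H6xPf
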