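import Groth.Agent.Lib.H6xPfA
import Groth.Agent.Lib.H6xCubicSingA

set_option autoImplicit false

/-! Pfaffian representations of cubic surfaces from an osculating frame: if a cubic form `f`
vanishes to order five along the curve germ `w0 + t w1 + t^2 w2 + t^3 w3`, then `f ^ 2` is the
determinant of an explicit skew-symmetric `6 × 6` matrix of linear forms. -/

namespace Groth.Agent.Lib.H6xPf

open MvPolynomial Groth.Agent.Lib.H6xCubicForm Groth.Agent.Lib.H6xCubicSing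

section expand

variable {K : Type*} [CommRing K] {f : MvPolynomial (Fin 4) K} (hf : f.IsHomogeneous 3)

include hf in
/-- expansion of a cubic form in a frame -/
theorem expand4 (w0 w1 w2 w3 : Fin 4 → K) (x0 x1 x2 x3 : K) :
    eval (x0 • w0 + x1 • w1 + x2 • w2 + x3 • w3) f =
      x0 ^ 3 * eval w0 f + x1 ^ 3 * eval w1 f + x2 ^ 3 * eval w2 f + x3 ^ 3 * eval w3 f
      + x0 ^ 2 * x1 * D f w0 w1 + x0 ^ 2 * x2 * D f w0 w2 + x0 ^ 2 * x3 * D f w0 w3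
      + x1 ^ 2 * x0 * D f w1 w0 + x1 ^ 2 * x2 * D f w1 w2 + x1 ^ 2 * x3 * D f w1 w3
      + x2 ^ 2 * x0 * D f w2 w0 + x2 ^ 2 * x1 * D f w2 w1 + x2 ^ 2 * x3 * D f w2 w3
      + x3 ^ 2 * x0 * D f w3 w0 + x3 ^ 2 * x1 * D f w3 w1 + x3 ^ 2 * x2 * D f w3 w2
      + x0 * x1 * x2 * T f w0 w1 w2 + x0 * x1 * x3 * T f w0 w1 w3
      + x0 * x2 * x3 * T f w0 w2 w3 + x1 * x2 * x3 * T f w1 w2 w3 := by
  simp only [eval_add hf, D_add_left hf, D_add_right, T_add_left hf,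
    eval_smul hf, D_smul_left hf, D_smul_right, T_smul_left hf, T_smul_mid, T_smul_right]
  ring

end expand

section main

variable {K : Type*} [Field K] [Infinite K] {f : MvPolynomial (Fin 4) K}
  (hf : f.IsHomogeneous 3)

include hf in
/-- a cubic form with an osculating frame is a Pfaffian -/
theorem exists_pfaffian_of_frame (w0 w1 w2 w3 : Fin 4 → K)
    (ξ0 ξ1 ξ2 ξ3 : (Fin 4 → K) →ₗ[K] K)
    (hdec : ∀ x, x = ξ0 x • w0 + ξ1 x • w1 + ξ2 x • w2 + ξ3 x • w3)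
    (h0 : eval w0 f = 0) (h1 : D f w0 w1 = 0) (h2 : D f w0 w2 + D f w1 w0 = 0)
    (h3 : D f w0 w3 + T f w0 w1 w2 + eval w1 f = 0)
    (h4 : D f w2 w0 + T f w0 w1 w3 + D f w1 w2 = 0) :
    ∃ M : Matrix (Fin 6) (Fin 6) (MvPolynomial (Fin 4) K),
      (∀ i j, (M i j).IsHomogeneous 1) ∧ M.transpose = -M ∧ (∀ i, M i i = 0) ∧
        M.det = f ^ 2 := by
  set lam1 : (Fin 4 → K) →ₗ[K] K :=
    D f w0 w2 • ξ0 + (T f w0 w1 w2 + D f w0 w3) • ξ1 + D f w2 w0 • ξ2 with hlam1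
  set lam2 : (Fin 4 → K) →ₗ[K] K :=
    D f w0 w3 • ξ0 + T f w0 w1 w3 • ξ1 - (D f w1 w3 + D f w2 w1) • ξ2 with hlam2
  set lam3 : (Fin 4 → K) →ₗ[K] K := D f w1 w3 • ξ1 - eval w2 f • ξ2 with hlam3
  set lam4 : (Fin 4 → K) →ₗ[K] K :=
    (T f w0 w2 w3 + D f w1 w3 + D f w2 w1) • ξ0 + (T f w1 w2 w3 + eval w2 f) • ξ1
      + D f w2 w3 • ξ2 with hlam4
  set lam5 : (Fin 4 → K) →ₗ[K] K :=
    D f w3 w0 • ξ0 + D f w3 w1 • ξ1 + D f w3 w2 • ξ2 + eval w3 f • ξ3 with hlam5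
  refine ⟨pfM (linpoly ξ0) (linpoly ξ1) (linpoly ξ2) (linpoly ξ3) (linpoly lam1) (linpoly lam2)
    (linpoly lam3) (linpoly lam4) (linpoly lam5), ?_, pfM_transpose _ _ _ _ _ _ _ _ _,
    pfM_diag _ _ _ _ _ _ _ _ _, ?_⟩
  · exact pfM_entry (fun p : MvPolynomial (Fin 4) K => p.IsHomogeneous 1) (isHomogeneous_zero _ _ _)
      (fun r hr => hr.neg) _ _ _ _ _ _ _ _ _
      (linpoly_isHomogeneous _) (linpoly_isHomogeneous _) (linpoly_isHomogeneous _)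
      (linpoly_isHomogeneous _) (linpoly_isHomogeneous _) (linpoly_isHomogeneous _)
      (linpoly_isHomogeneous _) (linpoly_isHomogeneous _) (linpoly_isHomogeneous _)
  · rw [det_pfM]
    congr 1
    apply MvPolynomial.funext
    intro x
    have hx := hdec x
    have hE := expand4 hf w0 w1 w2 w3 (ξ0 x) (ξ1 x) (ξ2 x) (ξ3 x)
    rw [← hx] at hE
    rw [hE]
    simp only [map_add, map_mul, map_sub, map_pow, eval_linpoly, hlam1, hlam2, hlam3, hlam4, hlam5,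
      LinearMap.add_apply, LinearMap.sub_apply, LinearMap.smul_apply, smul_eq_mul]
    linear_combination (-(ξ0 x) ^ 3) * h0 + (-(ξ0 x) ^ 2 * ξ1 x) * h1
      + (-(ξ0 x) * (ξ1 x) ^ 2) * h2 + (-(ξ1 x) ^ 3) * h3 + (-(ξ1 x) ^ 2 * ξ2 x) * h4

end main

end Groth.Agent.Lib.H6xPf
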