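import Groth.Agent.Lib.H6xPfB
import Groth.Agent.Lib.H6xCubicPolarB

set_option autoImplicit false

/-! Pfaffian representations of cubic surfaces with a rational point: at a smooth rational point
of an irreducible cubic surface there is an osculating frame (a curvilinear length-five
subscheme of the surface with full osculating flag), hence a Pfaffian representation; a singular
rational point of a surface which is not a cone produces a smooth rational point. -/

namespace Groth.Agent.Lib.H6xPf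

open MvPolynomial Groth.Agent.Lib.H6xCubicForm Groth.Agent.Lib.H6xNodalCubic
  Groth.Agent.Lib.H6xCubicSing Groth.Agent.Lib.H6xCubicPolar Module

section frames

variable {K : Type*} [Field K]

/-- a frame of `K^4` with its coordinate functionals -/
def IsFrame (w0 w1 w2 w3 : Fin 4 → K) (ξ0 ξ1 ξ2 ξ3 : (Fin 4 → K) →ₗ[K] K) : Prop :=
  ∀ x, x = ξ0 x • w0 + ξ1 x • w1 + ξ2 x • w2 + ξ3 x • w3

theorem IsFrame.swap12 {w0 w1 w2 w3 : Fin 4 → K} {ξ0 ξ1 ξ2 ξ3 : (Fin 4 → K) →ₗ[K] K}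
    (h : IsFrame w0 w1 w2 w3 ξ0 ξ1 ξ2 ξ3) : IsFrame w0 w2 w1 w3 ξ0 ξ2 ξ1 ξ3 := by
  intro x
  conv_lhs => rw [h x]
  module

theorem IsFrame.shear {w0 w1 w2 w3 : Fin 4 → K} {ξ0 ξ1 ξ2 ξ3 : (Fin 4 → K) →ₗ[K] K}
    (h : IsFrame w0 w1 w2 w3 ξ0 ξ1 ξ2 ξ3) (ε : K) :
    IsFrame w0 (w1 + ε • w2) w2 w3 ξ0 ξ1 (ξ2 - ε • ξ1) ξ3 := by
  intro x
  conv_lhs => rw [h x]
  simp only [LinearMap.sub_apply, LinearMap.smul_apply, smul_eq_mul]
  module

end frames

section cases

variable {K : Type*} [Field K] [CharZero K] {f : MvPolynomial (Fin 4) K}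
  (hf : f.IsHomogeneous 3)

include hf in
/-- osculating frame along a non-asymptotic tangent direction -/
theorem exists_pfaffian_case1 (a w1 u e : Fin 4 → K) (η0 η1 η2 η3 : (Fin 4 → K) →ₗ[K] K)
    (hdec : IsFrame a w1 u e η0 η1 η2 η3)
    (hFa : eval a f = 0) (h1 : D f a w1 = 0) (hu : D f a u = 0) (he : D f a e = 1)
    (hQ : D f w1 a ≠ 0) :
    ∃ M : Matrix (Fin 6) (Fin 6) (MvPolynomial (Fin 4) K),
      (∀ i j, (M i j).IsHomogeneous 1) ∧ M.transpose = -M ∧ (∀ i, M i i = 0) ∧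
        M.det = f ^ 2 := by
  set q := D f w1 a with hq
  set κ2 : K := -q with hκ2
  have hκ2ne : κ2 ≠ 0 := neg_ne_zero.mpr hQ
  set κ3 : K := -(κ2 * T f a w1 e + eval w1 f) with hκ3
  set μ3 : K := -(κ2 ^ 2 * D f e a + κ3 * T f a w1 e + T f a w1 u + κ2 * D f w1 e) / (2 * q)
    with hμ3
  have h2q : (2 : K) * q ≠ 0 := mul_ne_zero two_ne_zero hQ
  refine exists_pfaffian_of_frame hf a w1 (κ2 • e) (κ3 • e + μ3 • w1 + u)
    η0 (η1 - μ3 • η2) (κ2⁻¹ • (η3 - κ3 • η2)) η2 ?_ hFa h1 ?_ ?_ ?_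
  · intro x
    conv_lhs => rw [hdec x]
    simp only [LinearMap.sub_apply, LinearMap.smul_apply, smul_eq_mul]
    have hs : (κ2⁻¹ * (η3 x - κ3 * η2 x)) • κ2 • e = (η3 x - κ3 * η2 x) • e := by
      rw [smul_smul]
      congr 1
      field_simp
    rw [hs]
    module
  · rw [D_smul_right, he, ← hq, hκ2]
    ring
  · rw [D_add_right, D_add_right, D_smul_right, D_smul_right, he, h1, hu, T_smul_right, hκ3]
    ring
  · rw [D_smul_left hf, T_add_right, T_add_right, T_smul_right, T_smul_right, T_self' hf,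
      D_smul_right, ← hq, hμ3]
    field_simp
    ring

include hf in
/-- osculating frame at a planar point -/
theorem exists_pfaffian_case2 (a w1 u e : Fin 4 → K) (η0 η1 η2 η3 : (Fin 4 → K) →ₗ[K] K)
    (hdec : IsFrame a w1 u e η0 η1 η2 η3)
    (hFa : eval a f = 0) (h1 : D f a w1 = 0) (hu : D f a u = 0) (he : D f a e = 1)
    (hQ1 : D f w1 a = 0) (hQu : D f u a = 0) (hB : T f a w1 u = 0) (hc : eval w1 f ≠ 0) :
    ∃ M : Matrix (Fin 6) (Fin 6) (MvPolynomial (Fin 4) K),
      (∀ i j, (M i j).IsHomogeneous 1) ∧ M.transpose = -M ∧ (∀ i, M i i = 0) ∧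
        M.det = f ^ 2 := by
  set c := eval w1 f with hc'
  set κ3 : K := -c with hκ3
  have hκ3ne : κ3 ≠ 0 := neg_ne_zero.mpr hc
  set μ2 : K := -(κ3 * T f a w1 e + D f w1 u) / (3 * c) with hμ2
  have h3c : (3 : K) * c ≠ 0 := mul_ne_zero three_ne_zero hc
  refine exists_pfaffian_of_frame hf a w1 (μ2 • w1 + u) (κ3 • e)
    η0 (η1 - μ2 • η2) η2 (κ3⁻¹ • η3) ?_ hFa h1 ?_ ?_ ?_
  · intro x
    conv_lhs => rw [hdec x]
    simp only [LinearMap.sub_apply, LinearMap.smul_apply, smul_eq_mul]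
    have hs : (κ3⁻¹ * η3 x) • κ3 • e = η3 x • e := by
      rw [smul_smul]
      congr 1
      field_simp
    rw [hs]
    module
  · rw [D_add_right, D_smul_right, h1, hu, hQ1]
    ring
  · rw [D_smul_right, he, T_add_right, T_smul_right, T_self' hf, hQ1, hB, ← hc', hκ3]
    ring
  · have hT : T f w1 u a = T f a w1 u := by
      rw [T_symm23 hf, T_symm12 hf]
    rw [D_add_left hf, D_smul_left hf, hQ1, hQu, T_smul_left hf, hT, hB, T_smul_right,
      D_add_right, D_smul_right, D_self hf, ← hc', hμ2]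
    field_simp
    ring

include hf in
theorem exists_pfaffian_case1_shear (a b1 b2 e : Fin 4 → K)
    (η0 η1 η2 η3 : (Fin 4 → K) →ₗ[K] K) (hdec : IsFrame a b1 b2 e η0 η1 η2 η3)
    (hFa : eval a f = 0) (h1 : D f a b1 = 0) (h2 : D f a b2 = 0) (he : D f a e = 1)
    (ε : K) (hQ : D f (b1 + ε • b2) a ≠ 0) :
    ∃ M : Matrix (Fin 6) (Fin 6) (MvPolynomial (Fin 4) K),
      (∀ i j, (M i j).IsHomogeneous 1) ∧ M.transpose = -M ∧ (∀ i, M i i = 0) ∧
        M.det = f ^ 2 := by
  refine exists_pfaffian_case1 hf a (b1 + ε • b2) b2 e _ _ _ _ (hdec.shear ε) hFa ?_ h2 he hQ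
  rw [D_add_right, D_smul_right, h1, h2]
  ring

include hf in
theorem exists_pfaffian_case2_shear (a b1 b2 e : Fin 4 → K)
    (η0 η1 η2 η3 : (Fin 4 → K) →ₗ[K] K) (hdec : IsFrame a b1 b2 e η0 η1 η2 η3)
    (hFa : eval a f = 0) (h1 : D f a b1 = 0) (h2 : D f a b2 = 0) (he : D f a e = 1)
    (hQ1 : D f b1 a = 0) (hQ2 : D f b2 a = 0) (hB : T f a b1 b2 = 0)
    (ε : K) (hc : eval (b1 + ε • b2) f ≠ 0) :
    ∃ M : Matrix (Fin 6) (Fin 6) (MvPolynomial (Fin 4) K),
      (∀ i j, (M i j).IsHomogeneous 1) ∧ M.transpose = -M ∧ (∀ i, M i i = 0) ∧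
        M.det = f ^ 2 := by
  have hT : T f b1 b2 a = T f a b1 b2 := by
    rw [T_symm23 hf, T_symm12 hf]
  refine exists_pfaffian_case2 hf a (b1 + ε • b2) b2 e _ _ _ _ (hdec.shear ε) hFa ?_ h2 he
    ?_ hQ2 ?_ hc
  · rw [D_add_right, D_smul_right, h1, h2]
    ring
  · rw [D_add_left hf, D_smul_left hf, hQ1, hQ2, T_smul_mid, hT, hB]
    ring
  · rw [T_add_mid, T_smul_mid, hB, T_self' hf, hQ2]
    ring

include hf in
/-- a cubic form vanishing on a hyperplane is reducible -/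
theorem not_irreducible_of_vanish (a b1 b2 e : Fin 4 → K)
    (η0 η1 η2 η3 : (Fin 4 → K) →ₗ[K] K) (hdec : IsFrame a b1 b2 e η0 η1 η2 η3)
    (hη3 : η3 ≠ 0)
    (hFa : eval a f = 0) (hF1 : eval b1 f = 0) (hF2 : eval b2 f = 0)
    (h1 : D f a b1 = 0) (h2 : D f a b2 = 0) (hQ1 : D f b1 a = 0) (hQ2 : D f b2 a = 0)
    (h12 : D f b1 b2 = 0) (h21 : D f b2 b1 = 0) (hB : T f a b1 b2 = 0) :
    ¬ Irreducible f := by
  intro hirr
  set L := linpoly η3 with hL
  set G : MvPolynomial (Fin 4) K :=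
    C (eval e f) * L ^ 2 + C (D f a e) * linpoly η0 ^ 2 + C (D f b1 e) * linpoly η1 ^ 2
      + C (D f b2 e) * linpoly η2 ^ 2 + C (D f e a) * (L * linpoly η0)
      + C (D f e b1) * (L * linpoly η1) + C (D f e b2) * (L * linpoly η2)
      + C (T f a b1 e) * (linpoly η0 * linpoly η1) + C (T f a b2 e) * (linpoly η0 * linpoly η2)
      + C (T f b1 b2 e) * (linpoly η1 * linpoly η2) with hG
  have hfac : f = L * G := by
    apply MvPolynomial.funext
    intro x
    have hE := expand4 hf a b1 b2 e (η0 x) (η1 x) (η2 x) (η3 x)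
    rw [← hdec x] at hE
    rw [hE, hG, hL]
    simp only [map_add, map_mul, map_pow, eval_C, eval_linpoly]
    rw [hFa, hF1, hF2, h1, h2, hQ1, hQ2, h12, h21, hB]
    ring
  have hL0 : L ≠ 0 := linpoly_ne_zero η3 hη3
  have hL1 : L.IsHomogeneous 1 := linpoly_isHomogeneous η3
  rcases hirr.isUnit_or_isUnit hfac with hu | hu
  · obtain ⟨r, -, hr⟩ := (MvPolynomial.isUnit_iff_eq_C_of_isReduced).mp hu
    have h0 : L.IsHomogeneous 0 := by
      rw [hr]
      exact isHomogeneous_C _ _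
    exact one_ne_zero (hL1.inj_right h0 hL0)
  · obtain ⟨r, -, hr⟩ := (MvPolynomial.isUnit_iff_eq_C_of_isReduced).mp hu
    have h1' : f.IsHomogeneous 1 := by
      rw [hfac, hr]
      have := hL1.mul (isHomogeneous_C (Fin 4) r)
      simpa using this
    have := hf.inj_right h1' hirr.ne_zero
    norm_num at this

include hf in
/-- an irreducible cubic surface with a smooth rational point is Pfaffian -/
theorem exists_pfaffian_of_smooth (hirr : Irreducible f) (a : Fin 4 → K)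
    (hFa : eval a f = 0) (hsm : Dlin f a ≠ 0) :
    ∃ M : Matrix (Fin 6) (Fin 6) (MvPolynomial (Fin 4) K),
      (∀ i j, (M i j).IsHomogeneous 1) ∧ M.transpose = -M ∧ (∀ i, M i i = 0) ∧
        M.det = f ^ 2 := by
  have ha0 : a ≠ 0 := by
    rintro rfl
    apply hsm
    refine LinearMap.ext fun v => ?_
    show D f 0 v = 0
    have := D_smul_left hf (0 : K) (0 : Fin 4 → K) v
    rw [zero_smul] at this
    rw [this]
    ring
  have hla : Dlin f a a = 0 := D_a_a f hf a hFa
  obtain ⟨bas, hb0, hb1, hb2, hb3⟩ := exists_adapted_basis (Dlin f a) hsm a ha0 hla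
  have hdec : IsFrame a (bas 1) (bas 2) (bas 3) (bas.coord 0) (bas.coord 1) (bas.coord 2)
      (bas.coord 3) := by
    intro x
    have := decomp bas x
    rwa [hb0] at this
  have h1 : D f a (bas 1) = 0 := hb1
  have h2 : D f a (bas 2) = 0 := hb2
  have he : D f a (bas 3) = 1 := hb3
  have hη3 : bas.coord 3 ≠ 0 := by
    intro h
    have := coord_self bas 3 3
    rw [h] at this
    simp at this
  set b1 := bas 1 with hb1'
  set b2 := bas 2 with hb2'
  set e := bas 3 with he'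
  by_cases hc1 : ∃ ε : K, D f (b1 + ε • b2) a ≠ 0
  · obtain ⟨ε, hε⟩ := hc1
    exact exists_pfaffian_case1_shear hf a b1 b2 e _ _ _ _ hdec hFa h1 h2 he ε hε
  by_cases hc2 : D f b2 a ≠ 0
  · exact exists_pfaffian_case1 hf a b2 b1 e _ _ _ _ hdec.swap12 hFa h2 h1 he hc2
  push Not at hc1 hc2
  have hQ1 : D f b1 a = 0 := by
    have := hc1 0
    rwa [zero_smul, add_zero] at this
  have hT : T f b1 b2 a = T f a b1 b2 := by
    rw [T_symm23 hf, T_symm12 hf]
  have hB : T f a b1 b2 = 0 := by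
    have := hc1 1
    rw [one_smul, D_add_left hf, hQ1, hc2, hT] at this
    linear_combination this
  by_cases hc3 : ∃ ε : K, eval (b1 + ε • b2) f ≠ 0
  · obtain ⟨ε, hε⟩ := hc3
    exact exists_pfaffian_case2_shear hf a b1 b2 e _ _ _ _ hdec hFa h1 h2 he hQ1 hc2 hB ε hε
  by_cases hc4 : eval b2 f ≠ 0
  · have hB' : T f a b2 b1 = 0 := by rw [T_symm23 hf, hB]
    exact exists_pfaffian_case2 hf a b2 b1 e _ _ _ _ hdec.swap12 hFa h2 h1 he hc2 hQ1 hB' hc4
  push Not at hc3 hc4
  exfalso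
  have hF1 : eval b1 f = 0 := by
    have := hc3 0
    rwa [zero_smul, add_zero] at this
  have e1 := hc3 1
  have e2 := hc3 (-1)
  rw [eval_add hf, eval_smul hf, D_smul_left hf, D_smul_right, hF1, hc4] at e1 e2
  have h12 : D f b1 b2 = 0 := by linear_combination (1 / 2 : K) * e1 - (1 / 2 : K) * e2
  have h21 : D f b2 b1 = 0 := by linear_combination (1 / 2 : K) * e1 + (1 / 2 : K) * e2
  exact not_irreducible_of_vanish hf a b1 b2 e _ _ _ _ hdec hη3 hFa hF1 hc4 h1 h2 hQ1 hc2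
    h12 h21 hB hirr

include hf in
/-- an irreducible cubic surface, not a cone, with a rational point is Pfaffian -/
theorem exists_pfaffian (hirr : Irreducible f)
    (hcone : ¬ ∃ v : Fin 4 → K, v ≠ 0 ∧ ∑ i : Fin 4, v i • pderiv i f = 0)
    (a : Fin 4 → K) (ha : a ≠ 0) (hFa : eval a f = 0) :
    ∃ M : Matrix (Fin 6) (Fin 6) (MvPolynomial (Fin 4) K),
      (∀ i j, (M i j).IsHomogeneous 1) ∧ M.transpose = -M ∧ (∀ i, M i i = 0) ∧
        M.det = f ^ 2 := by
  by_cases hsm : Dlin f a ≠ 0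
  · exact exists_pfaffian_of_smooth hf hirr a hFa hsm
  push Not at hsm
  have hDa : ∀ w, D f a w = 0 := fun w => by
    have := congrArg (fun l => l w) hsm
    simpa [Dlin] using this
  -- a direction in which the tangent cone does not vanish
  obtain ⟨v, hv⟩ : ∃ v : Fin 4 → K, D f v a ≠ 0 := by
    by_contra hcon
    push Not at hcon
    apply hcone
    refine ⟨a, ha, ?_⟩
    apply MvPolynomial.funext
    intro x
    have := hcon x
    simp only [D] at this
    simp only [map_sum, map_zero, smul_eval]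
    exact this
  set q := D f v a with hq
  set b : Fin 4 → K := eval v f • a + (-q) • v with hb
  have hFb : eval b f = 0 := by
    rw [hb, eval_add hf, eval_smul hf, eval_smul hf, D_smul_left hf, D_smul_left hf,
      D_smul_right, D_smul_right, hFa, hDa, ← hq]
    ring
  have hDb : D f b a = q ^ 3 := by
    have hT : T f a v a = 0 := by
      rw [T_symm23 hf, T_self hf, hDa, mul_zero]
    rw [hb, D_add_left hf, D_smul_left hf, D_smul_left hf, T_smul_left hf, T_smul_mid, hDa, hT,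
      ← hq]
    ring
  refine exists_pfaffian_of_smooth hf hirr b hFb ?_
  intro h0
  have : D f b a = 0 := by
    have := congrArg (fun l => l a) h0
    simpa [Dlin] using this
  rw [hDb] at this
  exact hv (pow_eq_zero_iff (by norm_num) |>.mp this)

end cases

end Groth.Agent.Lib.H6xPf
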