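import Groth.Agent.Lib.H6xPfC

set_option autoImplicit false

/-! Descent of irreducibility and of the cone condition along a field extension. -/

namespace Groth.Agent.Lib.H6xPf

open MvPolynomial

/-- a polynomial which becomes irreducible over a field extension is irreducible -/
theorem irreducible_of_map {k K : Type*} [Field k] [Field K] (φ : k →+* K) {σ : Type*}
    (F : MvPolynomial σ k) (hirr : Irreducible (MvPolynomial.map φ F)) : Irreducible F := by
  have hinj : Function.Injective (MvPolynomial.map (σ := σ) φ) :=
    MvPolynomial.map_injective φ φ.injective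
  refine ⟨fun hu => hirr.not_isUnit (hu.map _), fun A B hAB => ?_⟩
  have hAB' : MvPolynomial.map φ F = MvPolynomial.map φ A * MvPolynomial.map φ B := by
    rw [hAB, map_mul]
  have key : ∀ P : MvPolynomial σ k, IsUnit (MvPolynomial.map φ P) → IsUnit P := by
    intro P hP
    obtain ⟨r, hr, hPr⟩ := (MvPolynomial.isUnit_iff_eq_C_of_isReduced).mp hP
    have htd : P.totalDegree = 0 := by
      have h1 : (MvPolynomial.map φ P).totalDegree = P.totalDegree := by
        unfold MvPolynomial.totalDegree
        rw [MvPolynomial.support_map_of_injective _ φ.injective]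
      rw [← h1, hPr, totalDegree_C]
    have hc := (MvPolynomial.totalDegree_eq_zero_iff_eq_C).mp htd
    rw [hc]
    have hc0 : P.coeff 0 ≠ 0 := by
      intro h0
      rw [h0, map_zero] at hc
      rw [hc, map_zero] at hP
      exact not_isUnit_zero hP
    exact (isUnit_iff_ne_zero.mpr hc0).map C
  rcases hirr.isUnit_or_isUnit hAB' with h | h
  · exact Or.inl (key A h)
  · exact Or.inr (key B h)

end Groth.Agent.Lib.H6xPf
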