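import Groth.Agent.Lib.H6xPfD

set_option autoImplicit false

/-! Pfaffian representations of cubic surfaces over an algebraic extension carrying a point:
base change of the cubic-form calculus, descent of the cone condition, the cubic polynomial cut
out on a line, real roots of real cubics. -/

namespace Groth.Agent.Lib.H6xPf

open MvPolynomial Groth.Agent.Lib.H6xCubicForm Groth.Agent.Lib.H6xNodalCubic
  Groth.Agent.Lib.H6xCubicSing Groth.Agent.Lib.H6xCubicPolar Module

section basechange

variable {k E : Type*} [Field k] [Field E] (φ : k →+* E)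

theorem eval_map_comp (F : MvPolynomial (Fin 4) k) (x : Fin 4 → k) :
    eval (φ ∘ x) (MvPolynomial.map φ F) = φ (eval x F) := by
  rw [eval_map, eval₂_comp]

theorem D_map_comp (F : MvPolynomial (Fin 4) k) (x v : Fin 4 → k) :
    D (MvPolynomial.map φ F) (φ ∘ x) (φ ∘ v) = φ (D F x v) := by
  simp only [D, map_sum, map_mul, pderiv_map, eval_map_comp, Function.comp_apply]

end basechange

section cone

variable {k E : Type*} [Field k] [Field E] [Algebra k E]

/-- the cone condition descends along field extensions -/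
theorem cone_descent (F : MvPolynomial (Fin 4) k)
    (hcone : ¬ ∃ v : Fin 4 → k, v ≠ 0 ∧ ∑ i : Fin 4, v i • pderiv i F = 0) :
    ¬ ∃ v : Fin 4 → E, v ≠ 0 ∧
      ∑ i : Fin 4, v i • pderiv i (MvPolynomial.map (algebraMap k E) F) = 0 := by
  rintro ⟨v, hv, hsum⟩
  obtain ⟨j, hj⟩ : ∃ j, v j ≠ 0 := by
    by_contra hcon
    push Not at hcon
    exact hv (funext hcon)
  obtain ⟨ψ, hψ⟩ := Module.Projective.exists_dual_ne_zero k hj
  apply hcone
  refine ⟨fun i => ψ (v i), fun h0 => hψ (congrFun h0 j), ?_⟩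
  ext m
  have h1 := congrArg (coeff m) hsum
  simp only [coeff_sum, coeff_smul, pderiv_map, coeff_map, coeff_zero, smul_eq_mul] at h1 ⊢
  have h2 := congrArg ψ h1
  rw [map_sum, map_zero] at h2
  rw [← h2]
  refine Finset.sum_congr rfl fun i _ => ?_
  rw [mul_comm (v i), ← Algebra.smul_def, map_smul, smul_eq_mul, mul_comm]

end cone

section line

variable {k : Type*} [Field k] (F : MvPolynomial (Fin 4) k)

/-- the cubic polynomial cut out by `F` on the line `s ↦ s • o + v` -/
noncomputable def lineCubic (o v : Fin 4 → k) : Polynomial k :=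
  Polynomial.C (eval o F) * Polynomial.X ^ 3 + Polynomial.C (D F o v) * Polynomial.X ^ 2
    + Polynomial.C (D F v o) * Polynomial.X + Polynomial.C (eval v F)

theorem natDegree_lineCubic (o v : Fin 4 → k) (ho : eval o F ≠ 0) :
    (lineCubic F o v).natDegree = 3 :=
  Polynomial.natDegree_cubic ho

theorem eval_line (hF : F.IsHomogeneous 3) {E : Type*} [Field E] [Algebra k E] (o v : Fin 4 → k)
    (s : E) :
    eval (s • (algebraMap k E ∘ o) + algebraMap k E ∘ v) (MvPolynomial.map (algebraMap k E) F) =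
      Polynomial.aeval s (lineCubic F o v) := by
  have hF' : (MvPolynomial.map (algebraMap k E) F).IsHomogeneous 3 := hF.map _
  rw [eval_add hF', eval_smul hF', D_smul_left hF', D_smul_right, eval_map_comp, eval_map_comp,
    D_map_comp, D_map_comp, lineCubic]
  simp only [map_add, map_mul, map_pow, Polynomial.aeval_C, Polynomial.aeval_X]
  ring

theorem line_point_ne_zero {E : Type*} [Field E] [Algebra k E] (o : Fin 4 → k) (i j : Fin 4)
    (hij : j ≠ i) (hoi : o i ≠ 0) (s : E) :
    s • (algebraMap k E ∘ o) + algebraMap k E ∘ (Pi.single j (1 : k)) ≠ 0 := by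
  intro h
  have hi := congrFun h i
  have hj := congrFun h j
  simp only [Pi.add_apply, Pi.smul_apply, Function.comp_apply, smul_eq_mul, Pi.zero_apply,
    Pi.single_eq_same, map_one] at hi hj
  rw [Pi.single_eq_of_ne hij.symm, map_zero, add_zero] at hi
  have hs : s = 0 := by
    rcases mul_eq_zero.mp hi with h1 | h1
    · exact h1
    · exact absurd ((map_eq_zero _).mp h1) hoi
  rw [hs, zero_mul, zero_add] at hj
  exact one_ne_zero hj

end line

section real

/-- a real cubic polynomial has a real root -/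
theorem exists_real_root_cubic (c3 c2 c1 c0 : ℝ) (h3 : c3 ≠ 0) :
    ∃ x : ℝ, c3 * x ^ 3 + c2 * x ^ 2 + c1 * x + c0 = 0 := by
  set b := c2 / c3 with hb
  set c := c1 / c3 with hc
  set d := c0 / c3 with hd
  set M : ℝ := 1 + |b| + |c| + |d| with hM
  have hM1 : 1 ≤ M := by
    have := abs_nonneg b; have := abs_nonneg c; have := abs_nonneg d
    linarith
  set q : ℝ → ℝ := fun x => x ^ 3 + b * x ^ 2 + c * x + d with hq
  have hcont : ContinuousOn q (Set.Icc (-M) M) := by
    apply Continuous.continuousOn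
    continuity
  have hMM : M ≤ M ^ 2 := by nlinarith
  have h1M : 1 ≤ M ^ 2 := by nlinarith
  have hM2 : 0 ≤ M ^ 2 := sq_nonneg M
  have hb0 := abs_nonneg b
  have hc0 := abs_nonneg c
  have hd0 := abs_nonneg d
  have hbM : -(|b| * M ^ 2) ≤ b * M ^ 2 := by
    have := mul_le_mul_of_nonneg_right (neg_abs_le b) hM2
    linarith
  have hbM' : b * M ^ 2 ≤ |b| * M ^ 2 := mul_le_mul_of_nonneg_right (le_abs_self b) hM2
  have hcM : -(|c| * M ^ 2) ≤ c * M := by
    have e1 := mul_le_mul_of_nonneg_right (neg_abs_le c) (by linarith : (0 : ℝ) ≤ M)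
    have e2 := mul_le_mul_of_nonneg_left hMM hc0
    linarith
  have hcM' : c * M ≤ |c| * M ^ 2 := by
    have e1 := mul_le_mul_of_nonneg_right (le_abs_self c) (by linarith : (0 : ℝ) ≤ M)
    have e2 := mul_le_mul_of_nonneg_left hMM hc0
    linarith
  have hdM : -(|d| * M ^ 2) ≤ d := by
    have e1 := neg_abs_le d
    have e2 := mul_le_mul_of_nonneg_left h1M hd0
    linarith
  have hdM' : d ≤ |d| * M ^ 2 := by
    have e1 := le_abs_self d
    have e2 := mul_le_mul_of_nonneg_left h1M hd0
    linarith
  have hM3 : M ^ 3 = M ^ 2 + (|b| + |c| + |d|) * M ^ 2 := by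
    rw [hM]; ring
  have hpos : 0 ≤ q M := by
    simp only [hq]
    nlinarith [hM3, hbM, hcM, hdM, h1M]
  have hneg : q (-M) ≤ 0 := by
    simp only [hq]
    have e1 : (-M) ^ 3 = -M ^ 3 := by ring
    have e2 : (-M) ^ 2 = M ^ 2 := by ring
    rw [e1, e2]
    have e3 : c * -M = -(c * M) := by ring
    rw [e3]
    nlinarith [hM3, hbM', hcM, hdM', h1M]
  have hle : -M ≤ M := by linarith
  obtain ⟨x, -, hx⟩ := intermediate_value_Icc hle hcont ⟨hneg, hpos⟩
  refine ⟨x, ?_⟩
  simp only [hq] at hx
  have : c3 * x ^ 3 + c2 * x ^ 2 + c1 * x + c0 = c3 * (x ^ 3 + b * x ^ 2 + c * x + d) := by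
    rw [hb, hc, hd]
    field_simp
  rw [this, hx, mul_zero]

end real

section ext

universe u v

/-- Pfaffian representation over an algebraic extension carrying a point of the surface -/
theorem exists_pfaffian_ext (k : Type u) [Field k] [CharZero k]
    (F : MvPolynomial (Fin 4) k) (hF : F.IsHomogeneous 3)
    (hirr : Irreducible (MvPolynomial.map (algebraMap k (AlgebraicClosure k)) F))
    (hcone : ¬ ∃ v : Fin 4 → k, v ≠ 0 ∧ ∑ i : Fin 4, v i • pderiv i F = 0)
    (E : Type v) [Field E] [Algebra k E] [Algebra.IsAlgebraic k E]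
    (a : Fin 4 → E) (ha : a ≠ 0)
    (hFa : eval a (MvPolynomial.map (algebraMap k E) F) = 0) :
    ∃ M : Matrix (Fin 6) (Fin 6) (MvPolynomial (Fin 4) E),
      (∀ i j, (M i j).IsHomogeneous 1) ∧ M.transpose = -M ∧ (∀ i, M i i = 0) ∧
        ∃ c : E, c ≠ 0 ∧ M.det = C c * (MvPolynomial.map (algebraMap k E) F) ^ 2 := by
  haveI : CharZero E := charZero_of_injective_algebraMap (algebraMap k E).injective
  let ψ : E →ₐ[k] AlgebraicClosure k := IsAlgClosed.lift
  have hirr' : Irreducible (MvPolynomial.map (algebraMap k E) F) := by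
    refine irreducible_of_map (ψ : E →+* AlgebraicClosure k) _ ?_
    rw [MvPolynomial.map_map]
    have : (ψ : E →+* AlgebraicClosure k).comp (algebraMap k E) =
        algebraMap k (AlgebraicClosure k) := ψ.comp_algebraMap
    rw [this]
    exact hirr
  obtain ⟨M, h1, h2, h3, h4⟩ := exists_pfaffian (hF.map (algebraMap k E)) hirr'
    (cone_descent F hcone) a ha hFa
  exact ⟨M, h1, h2, h3, 1, one_ne_zero, by rw [h4, map_one, one_mul]⟩

end ext

end Groth.Agent.Lib.H6xPf
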