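import Groth.Agent.Lib.H6xPointCountAlg
import Groth.Prelude.Def_SgaExt

set_option autoImplicit false

/-! Point counts of schemes of finite type over a finite field: `#X(F_{q^e}) ≤ c q^{re}`. -/

namespace Groth.Agent.Lib.H6xPointCount

open CategoryTheory AlgebraicGeometry

universe u

variable {k : Type u} [Field k] {X : Scheme.{u}} (f : X ⟶ Spec (CommRingCat.of k))

/-- the structure map `k → Γ(X, U)` -/
noncomputable def kToΓ (U : X.Opens) : k →+* Γ(X, U) :=
  (f.appLE ⊤ U (fun _ _ => trivial)).hom.comp (Scheme.ΓSpecIso (CommRingCat.of k)).inv.hom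

/-- ring homomorphisms `Γ(X, U) → k'` compatible with the structure maps -/
def HomU (U : X.Opens) (k' : Type u) [Field k'] [Algebra k k'] : Type u :=
  {ψ : Γ(X, U) →+* k' // ψ.comp (kToΓ f U) = algebraMap k k'}

theorem finiteType_kToΓ [LocallyOfFiniteType f] (U : X.Opens) (hU : IsAffineOpen U) :
    (kToΓ f U).FiniteType := by
  have h1 : (f.appLE ⊤ U (fun _ _ => trivial)).hom.FiniteType :=
    HasRingHomProperty.appLE (P := @LocallyOfFiniteType) f inferInstance
      ⟨⊤, isAffineOpen_top _⟩ ⟨U, hU⟩ _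
  have h2 : (Scheme.ΓSpecIso (CommRingCat.of k)).inv.hom.FiniteType := by
    apply RingHom.FiniteType.of_surjective
    exact (ConcreteCategory.bijective_of_isIso (Scheme.ΓSpecIso (CommRingCat.of k)).inv).2
  exact h1.comp h2

theorem ringKrullDim_le (U : X.Opens) (hU : IsAffineOpen U) (r : ℕ)
    (hr : topologicalKrullDim X ≤ r) : ringKrullDim Γ(X, U) ≤ r := by
  have h1 : topologicalKrullDim (U : Set X) ≤ topologicalKrullDim X :=
    topologicalKrullDim_subspace_le X (U : Set X)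
  have h2 : topologicalKrullDim (U : Set X) = ringKrullDim Γ(X, U) := by
    have e := hU.isoSpec
    have h3 : topologicalKrullDim (U.toScheme) = topologicalKrullDim (Spec Γ(X, U)) :=
      IsHomeomorph.topologicalKrullDim_eq _ (Scheme.homeoOfIso e).isHomeomorph
    have h4 : topologicalKrullDim (Spec Γ(X, U)) = ringKrullDim Γ(X, U) :=
      PrimeSpectrum.topologicalKrullDim_eq_ringKrullDim Γ(X, U)
    rw [← h4, ← h3]
    rfl
  rw [← h2]
  exact h1.trans hr

theorem card_HomU_le [Finite k] [LocallyOfFiniteType f] (U : X.Opens) (hU : IsAffineOpen U)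
    (r : ℕ) (hr : topologicalKrullDim X ≤ r) :
    ∃ c : ℕ, ∀ (k' : Type u) [Field k'] [Algebra k k'] [Finite k'],
      Finite (HomU f U k') ∧
        Nat.card (HomU f U k') ≤ c * Nat.card k ^ (r * Module.finrank k k') := by
  letI : Algebra k Γ(X, U) := (kToΓ f U).toAlgebra
  haveI : Algebra.FiniteType k Γ(X, U) := finiteType_kToΓ f U hU
  obtain ⟨c, hc⟩ := Groth.Agent.Lib.H6xPointCountAlg.card_algHom_le k Γ(X, U) r
    (ringKrullDim_le U hU r hr)
  refine ⟨c, fun k' _ _ _ => ?_⟩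
  obtain ⟨hfin, hcard⟩ := hc k'
  let Θ : HomU f U k' → (Γ(X, U) →ₐ[k] k') := fun ψ =>
    { (ψ.1 : Γ(X, U) →+* k') with
      commutes' := fun x => by
        have := congrArg (fun φ : k →+* k' => φ x) ψ.2
        exact this }
  have hΘ : Function.Injective Θ := by
    intro ψ₁ ψ₂ h
    apply Subtype.ext
    ext x
    exact congrArg (fun φ : Γ(X, U) →ₐ[k] k' => φ x) h
  exact ⟨Finite.of_injective Θ hΘ, (Nat.card_le_card_of_injective Θ hΘ).trans hcard⟩

/-- the `k'`-points of `X` over `k` -/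
def Pts (k' : Type u) [Field k'] [Algebra k k'] : Type u :=
  { g : Spec (CommRingCat.of k') ⟶ X //
    g ≫ f = Spec.map (CommRingCat.ofHom (algebraMap k k')) }

section points

variable {f} {k' : Type u} [Field k'] [Algebra k k']

/-- the image of the unique point -/
noncomputable def Pts.pt (g : Pts f k') : X := g.1.base (IsLocalRing.closedPoint k')

theorem Pts.le_preimage (g : Pts f k') (U : X.Opens) (hU : g.pt ∈ U) :
    (⊤ : (Spec (CommRingCat.of k')).Opens) ≤ g.1 ⁻¹ᵁ U := by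
  intro y _
  have : y = IsLocalRing.closedPoint k' :=
    @Subsingleton.elim (PrimeSpectrum k') _ y (IsLocalRing.closedPoint k')
  show g.1.base y ∈ U
  rw [this]
  exact hU

/-- the ring homomorphism attached to a point landing in `U` -/
noncomputable def Pts.toHomU (g : Pts f k') (U : X.Opens) (hU : g.pt ∈ U) : HomU f U k' :=
  ⟨(Scheme.ΓSpecIso (CommRingCat.of k')).hom.hom.comp (g.1.appLE U ⊤ (g.le_preimage U hU)).hom, by
    have h1 : f.appLE ⊤ U (fun _ _ => trivial) ≫ g.1.appLE U ⊤ (g.le_preimage U hU) =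
        (g.1 ≫ f).appLE ⊤ ⊤ (fun _ _ => trivial) := Scheme.Hom.appLE_comp_appLE _ _ _ _ _ _ _
    have h2 : (g.1 ≫ f).appLE ⊤ ⊤ (fun _ _ => trivial) =
        (Spec.map (CommRingCat.ofHom (algebraMap k k'))).appTop := by
      rw [Scheme.Hom.appTop, Scheme.Hom.app_eq_appLE]
      congr 1
      exact g.2
    have h3 := Scheme.ΓSpecIso_naturality (CommRingCat.ofHom (algebraMap k k'))
    ext x
    simp only [kToΓ, RingHom.coe_comp, Function.comp_apply]
    have h4 := congrArg (fun φ => φ.hom ((Scheme.ΓSpecIso (CommRingCat.of k)).inv.hom x)) h1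
    simp only [CommRingCat.hom_comp, RingHom.coe_comp, Function.comp_apply] at h4
    rw [h4, h2]
    have h5 := congrArg (fun φ => φ.hom ((Scheme.ΓSpecIso (CommRingCat.of k)).inv.hom x)) h3
    simp only [CommRingCat.hom_comp, RingHom.coe_comp, Function.comp_apply] at h5
    rw [h5]
    have h6 : (Scheme.ΓSpecIso (CommRingCat.of k)).hom.hom
        ((Scheme.ΓSpecIso (CommRingCat.of k)).inv.hom x) = x := by
      rw [← RingHom.comp_apply, ← CommRingCat.hom_comp, Iso.inv_hom_id]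
      rfl
    rw [h6]
    rfl⟩

theorem Pts.ext_of_toHomU (g₁ g₂ : Pts f k') (U : X.Opens) (hU : IsAffineOpen U)
    (h₁ : g₁.pt ∈ U) (h₂ : g₂.pt ∈ U) (h : (g₁.toHomU U h₁).1 = (g₂.toHomU U h₂).1) :
    g₁ = g₂ := by
  have hinj : Function.Injective (Scheme.ΓSpecIso (CommRingCat.of k')).hom.hom :=
    (ConcreteCategory.bijective_of_isIso (Scheme.ΓSpecIso (CommRingCat.of k')).hom).1
  have happ : g₁.1.appLE U ⊤ (g₁.le_preimage U h₁) = g₂.1.appLE U ⊤ (g₂.le_preimage U h₂) := by
    ext x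
    apply hinj
    exact congrArg (fun φ : Γ(X, U) →+* k' => φ x) h
  -- lifts to `U`
  have hr : ∀ g : Pts f k', g.pt ∈ U → Set.range g.1.base ⊆ Set.range U.ι.base := by
    intro g hg
    rw [Scheme.Opens.range_ι]
    rintro _ ⟨y, rfl⟩
    exact g.le_preimage U hg (show y ∈ (⊤ : (Spec (CommRingCat.of k')).Opens) from trivial)
  have key : ∀ (g : Pts f k') (hg : g.pt ∈ U),
      U.topIso.inv ≫ (IsOpenImmersion.lift U.ι g.1 (hr g hg)).appTop =
        g.1.appLE U ⊤ (g.le_preimage U hg) := by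
    intro g hg
    have e1 : ∀ (φ : Spec (CommRingCat.of k') ⟶ X) (hφ : φ = g.1) (e),
        φ.appLE U ⊤ e = g.1.appLE U ⊤ (g.le_preimage U hg) := by
      intro φ hφ e
      subst hφ
      rfl
    have e2 := Scheme.Hom.appLE_comp_appLE (IsOpenImmersion.lift U.ι g.1 (hr g hg)) U.ι U ⊤ ⊤
      (by rw [Scheme.Opens.ι_preimage_self]) (fun _ _ => trivial)
    rw [e1 _ (IsOpenImmersion.lift_fac _ _ _)] at e2
    rw [← e2, Scheme.Hom.appTop, Scheme.Hom.app_eq_appLE]
    congr 1
    rw [Scheme.Opens.ι_appLE, Scheme.Opens.topIso_inv]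
    rfl
  have hU' : IsAffine U.toScheme := hU
  have hl : IsOpenImmersion.lift U.ι g₁.1 (hr g₁ h₁) = IsOpenImmersion.lift U.ι g₂.1 (hr g₂ h₂) := by
    apply ext_of_isAffine
    have := (key g₁ h₁).trans (happ.trans (key g₂ h₂).symm)
    exact (Iso.cancel_iso_inv_left _ _ _).mp this
  apply Subtype.ext
  rw [← IsOpenImmersion.lift_fac U.ι g₁.1 (hr g₁ h₁), ← IsOpenImmersion.lift_fac U.ι g₂.1 (hr g₂ h₂),
    hl]

end points

theorem main [Finite k] [LocallyOfFiniteType f] [QuasiCompact f] (r : ℕ)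
    (hr : topologicalKrullDim X ≤ r) :
    ∃ c : ℕ, ∀ (k' : Type u) [Field k'] [Algebra k k'] [Finite k'],
      SgaExt.pointCount f k' ≤ c * Nat.card k ^ (r * Module.finrank k k') := by
  classical
  haveI : CompactSpace X := QuasiCompact.compactSpace_of_compactSpace f
  obtain ⟨s, hsfin, hs⟩ := (isCompact_iff_finite_and_eq_biUnion_affineOpens
    (U := (⊤ : X.Opens))).mp (by simpa using isCompact_univ)
  have hc : ∀ U : X.affineOpens, ∃ c : ℕ, ∀ (k' : Type u) [Field k'] [Algebra k k'] [Finite k'],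
      Finite (HomU f (U : X.Opens) k') ∧
        Nat.card (HomU f (U : X.Opens) k') ≤ c * Nat.card k ^ (r * Module.finrank k k') :=
    fun U => card_HomU_le f U.1 U.2 r hr
  choose cU hcU using hc
  haveI : Fintype s := hsfin.fintype
  refine ⟨∑ U : s, cU U.1, fun k' _ _ _ => ?_⟩
  have hcover : ∀ g : Pts f k', ∃ U : s, g.pt ∈ ((U.1 : X.affineOpens) : X.Opens) := by
    intro g
    have hmem : g.pt ∈ (⊤ : X.Opens) := trivial
    rw [hs] at hmem
    simp only [TopologicalSpace.Opens.mem_iSup] at hmem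
    obtain ⟨i, hi, hmem⟩ := hmem
    exact ⟨⟨i, hi⟩, hmem⟩
  choose Ug hUg using hcover
  let Ψ : Pts f k' → Σ U : s, HomU f ((U.1 : X.affineOpens) : X.Opens) k' :=
    fun g => ⟨Ug g, g.toHomU _ (hUg g)⟩
  have hΨ : Function.Injective Ψ := by
    intro g₁ g₂ h
    have h1 : Ug g₁ = Ug g₂ := congrArg Sigma.fst h
    have h2 : HEq (g₁.toHomU _ (hUg g₁)) (g₂.toHomU _ (hUg g₂)) := (Sigma.mk.inj_iff.mp h).2
    have gen : ∀ (U₁ U₂ : s) (hU : U₁ = U₂) (h₁ : g₁.pt ∈ ((U₁.1 : X.affineOpens) : X.Opens))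
        (h₂ : g₂.pt ∈ ((U₂.1 : X.affineOpens) : X.Opens)),
        HEq (g₁.toHomU _ h₁) (g₂.toHomU _ h₂) → g₁ = g₂ := by
      intro U₁ U₂ hU h₁ h₂ hh
      subst hU
      exact Pts.ext_of_toHomU g₁ g₂ _ U₁.1.2 h₁ h₂ (congrArg Subtype.val (eq_of_heq hh))
    exact gen _ _ h1 _ _ h2
  haveI : ∀ U : s, Finite (HomU f ((U.1 : X.affineOpens) : X.Opens) k') := fun U =>
    (hcU U.1 k').1
  show Nat.card (Pts f k') ≤ _
  calc Nat.card (Pts f k') ≤ Nat.card (Σ U : s, HomU f ((U.1 : X.affineOpens) : X.Opens) k') :=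
        Nat.card_le_card_of_injective Ψ hΨ
    _ = ∑ U : s, Nat.card (HomU f ((U.1 : X.affineOpens) : X.Opens) k') := Nat.card_sigma
    _ ≤ ∑ U : s, cU U.1 * Nat.card k ^ (r * Module.finrank k k') :=
        Finset.sum_le_sum fun U _ => (hcU U.1 k').2
    _ = (∑ U : s, cU U.1) * Nat.card k ^ (r * Module.finrank k k') := by
        rw [Finset.sum_mul]

end Groth.Agent.Lib.H6xPointCount
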