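import Mathlib

set_option autoImplicit false

/-! Counting points of a finitely generated algebra over a finite field with values in finite
extensions, via Noether normalisation. -/

namespace Groth.Agent.Lib.H6xPointCountAlg

open Polynomial

universe u v w

theorem ringKrullDim_le_of_isIntegral_of_injective (A B : Type*) [CommRing A] [CommRing B]
    [Algebra A B] [Algebra.IsIntegral A B]
    (hinj : Function.Injective (algebraMap A B)) :
    ringKrullDim A ≤ ringKrullDim B := by
  have hs : Function.Surjective (PrimeSpectrum.comap (algebraMap A B)) := by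
    have : FaithfulSMul A B := (faithfulSMul_iff_algebraMap_injective A B).mpr hinj
    exact Algebra.IsIntegral.comap_surjective _ _
  refine iSup_le fun l => ?_
  obtain ⟨P, hP⟩ := hs l.head
  have : P.asIdeal.LiesOver l.head.asIdeal := ⟨by rw [← hP]; rfl⟩
  obtain ⟨L, hL, -, -⟩ := Ideal.exists_ltSeries_of_hasGoingUp l P.asIdeal
  rw [← hL]
  exact Order.LTSeries.length_le_krullDim L

theorem card_roots_le {K : Type*} [Field K] (Q : K[X]) (hQ : Q ≠ 0) :
    Nat.card {z : K // Q.IsRoot z} ≤ Q.natDegree := by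
  classical
  have h1 : {z : K | Q.IsRoot z} = ↑Q.roots.toFinset := by
    ext z
    simp [Polynomial.mem_roots hQ]
  have h2 : Nat.card {z : K // Q.IsRoot z} = Q.roots.toFinset.card := by
    rw [← Set.ncard_coe_finset, ← h1]
    rfl
  rw [h2]
  exact (Multiset.toFinset_card_le _).trans (Polynomial.card_roots' Q)

theorem card_algHom_le (k : Type v) [Field k] [Finite k] (A : Type w) [CommRing A] [Algebra k A]
    [Algebra.FiniteType k A] (r : ℕ) (hr : ringKrullDim A ≤ r) :
    ∃ c : ℕ, ∀ (k' : Type u) [Field k'] [Algebra k k'] [Finite k'],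
      Finite (A →ₐ[k] k') ∧
        Nat.card (A →ₐ[k] k') ≤ c * Nat.card k ^ (r * Module.finrank k k') := by
  classical
  by_cases hA : Nontrivial A
  swap
  · refine ⟨0, fun k' _ _ _ => ?_⟩
    have : IsEmpty (A →ₐ[k] k') := ⟨fun φ => by
      rw [not_nontrivial_iff_subsingleton] at hA
      have : (1 : k') = 0 := by rw [← map_one φ, Subsingleton.elim (1 : A) 0, map_zero]
      exact one_ne_zero this⟩
    exact ⟨inferInstance, by simp⟩
  obtain ⟨s, g, hginj, hgint⟩ := exists_integral_inj_algHom_of_fg k A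
  have hs : s ≤ r := by
    have h1 : ringKrullDim (MvPolynomial (Fin s) k) ≤ ringKrullDim A := by
      algebraize [g.toRingHom]
      have : Algebra.IsIntegral (MvPolynomial (Fin s) k) A := ⟨hgint⟩
      exact ringKrullDim_le_of_isIntegral_of_injective (MvPolynomial (Fin s) k) A hginj
    rw [MvPolynomial.ringKrullDim_of_isNoetherianRing, ringKrullDim_eq_zero_of_field] at h1
    simp only [Nat.card_eq_fintype_card, Fintype.card_fin, zero_add] at h1
    have := h1.trans hr
    exact_mod_cast this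
  obtain ⟨S, hS⟩ := (Algebra.FiniteType.out : (⊤ : Subalgebra k A).FG)
  have hP : ∀ a : A, ∃ P : (MvPolynomial (Fin s) k)[X], P.Monic ∧ eval₂ g.toRingHom a P = 0 :=
    fun a => hgint a
  choose P hPmonic hPa using hP
  refine ⟨∏ a ∈ S, (P a).natDegree, fun k' _ _ _ => ?_⟩
  -- the target of the injection
  let Q : (Fin s → k') → A → k'[X] := fun y a =>
    (P a).map (MvPolynomial.aeval y : MvPolynomial (Fin s) k →ₐ[k] k').toRingHom
  have hQmonic : ∀ y a, (Q y a).Monic := fun y a => (hPmonic a).map _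
  have hQdeg : ∀ y a, (Q y a).natDegree = (P a).natDegree := fun y a =>
    (hPmonic a).natDegree_map _
  let T := Σ y : (Fin s → k'), ((a : S) → {z : k' // (Q y a).IsRoot z})
  have hroot : ∀ (φ : A →ₐ[k] k') (a : A), (Q (fun i => φ (g (MvPolynomial.X i))) a).IsRoot (φ a) := by
    intro φ a
    have hcomp : (MvPolynomial.aeval (fun i => φ (g (MvPolynomial.X i))) :
        MvPolynomial (Fin s) k →ₐ[k] k') = φ.comp g := by
      apply MvPolynomial.algHom_ext
      intro i
      simp
    show eval (φ a) ((P a).map _) = 0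
    rw [hcomp, Polynomial.eval_map]
    have h1 := congrArg (φ : A →+* k') (hPa a)
    rw [map_zero, Polynomial.hom_eval₂] at h1
    exact h1
  let Ψ : (A →ₐ[k] k') → T := fun φ =>
    ⟨fun i => φ (g (MvPolynomial.X i)), fun a => ⟨φ a, hroot φ a⟩⟩
  have hΨ : Function.Injective Ψ := by
    intro φ₁ φ₂ h
    apply AlgHom.ext_of_adjoin_eq_top hS
    intro a ha
    have h1 : (Ψ φ₁).1 = (Ψ φ₂).1 := congrArg Sigma.fst h
    have h2 := Sigma.mk.inj_iff.mp h
    have h3 : HEq (Ψ φ₁).2 (Ψ φ₂).2 := h2.2
    have h4 : ∀ (y₁ y₂ : Fin s → k') (hy : y₁ = y₂)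
        (z₁ : (a : S) → {z : k' // (Q y₁ a).IsRoot z})
        (z₂ : (a : S) → {z : k' // (Q y₂ a).IsRoot z}), HEq z₁ z₂ →
        ∀ a : S, (z₁ a).1 = (z₂ a).1 := by
      intro y₁ y₂ hy z₁ z₂ hz a
      subst hy
      rw [eq_of_heq hz]
    exact h4 _ _ h1 _ _ h3 ⟨a, ha⟩
  haveI : Fintype (Fin s → k') := Fintype.ofFinite _
  haveI : ∀ y : Fin s → k', ∀ a : S, Finite {z : k' // (Q y a).IsRoot z} := fun y a =>
    inferInstance
  haveI : Finite T := inferInstance
  refine ⟨Finite.of_injective Ψ hΨ, ?_⟩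
  have hcardT : Nat.card T ≤ Nat.card k' ^ s * ∏ a ∈ S, (P a).natDegree := by
    show Nat.card (Σ y : (Fin s → k'), ((a : S) → {z : k' // (Q y a).IsRoot z})) ≤ _
    rw [Nat.card_sigma]
    have hle : ∀ y : Fin s → k', Nat.card ((a : S) → {z : k' // (Q y a).IsRoot z}) ≤
        ∏ a ∈ S, (P a).natDegree := by
      intro y
      rw [Nat.card_pi, ← Finset.prod_coe_sort S (fun a => (P a).natDegree)]
      refine Finset.prod_le_prod' fun a _ => ?_
      rw [← hQdeg y a]
      exact card_roots_le _ (hQmonic y a).ne_zero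
    calc ∑ y : Fin s → k', Nat.card ((a : S) → {z : k' // (Q y a).IsRoot z})
        ≤ ∑ _y : Fin s → k', ∏ a ∈ S, (P a).natDegree := Finset.sum_le_sum fun y _ => hle y
      _ = Nat.card k' ^ s * ∏ a ∈ S, (P a).natDegree := by
        rw [Finset.sum_const, smul_eq_mul, Finset.card_univ, ← Nat.card_eq_fintype_card,
          Nat.card_fun, Nat.card_eq_fintype_card (α := Fin s), Fintype.card_fin]
  have hk' : Nat.card k' = Nat.card k ^ Module.finrank k k' := Module.natCard_eq_pow_finrank
  have hq : 1 ≤ Nat.card k := Nat.card_pos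
  calc Nat.card (A →ₐ[k] k') ≤ Nat.card T := Nat.card_le_card_of_injective Ψ hΨ
    _ ≤ Nat.card k' ^ s * ∏ a ∈ S, (P a).natDegree := hcardT
    _ = (∏ a ∈ S, (P a).natDegree) * Nat.card k ^ (Module.finrank k k' * s) := by
      rw [hk', ← pow_mul, mul_comm]
    _ ≤ (∏ a ∈ S, (P a).natDegree) * Nat.card k ^ (r * Module.finrank k k') := by
      apply Nat.mul_le_mul_left
      apply Nat.pow_le_pow_right hq
      rw [mul_comm]
      exact Nat.mul_le_mul_right _ hs

end Groth.Agent.Lib.H6xPointCountAlg
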