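import Mathlib
import Groth.Agent.Lib.H6xPointCountAlg

set_option autoImplicit false

/-! Counting points of a finitely generated `ℤ`-algebra with values in finite fields, uniformly in
the characteristic, via a generic Noether normalisation. -/

namespace Groth.Agent.Lib.H6xPointCountZ

open Polynomial TensorProduct Groth.Agent.Lib.H6xPointCountAlg

universe u

section dim

theorem isJacobsonRing_int : IsJacobsonRing ℤ := by
  rw [isJacobsonRing_iff_prime_eq]
  intro P hP
  by_cases hbot : P = ⊥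
  · subst hbot
    rw [eq_bot_iff]
    intro x hx
    rw [Ideal.mem_jacobson_bot] at hx
    have h1 := hx x
    rw [Int.isUnit_iff] at h1
    have hx2 : 0 ≤ x * x := mul_self_nonneg x
    rcases h1 with h1 | h1
    · have : x * x = 0 := by omega
      have : x = 0 := by simpa using this
      simp [this]
    · omega
  · haveI : P.IsMaximal := IsPrime.to_maximal_ideal hbot
    exact Ideal.jacobson_eq_self_of_isMaximal

/-- localising a finitely generated `ℤ`-algebra at the nonzero integers drops the dimension -/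
theorem dim_succ_le (A : Type*) [CommRing A] [Algebra.FiniteType ℤ A] (L : Type*) [CommRing L]
    [Algebra A L] [IsLocalization (Algebra.algebraMapSubmonoid A (nonZeroDivisors ℤ)) L] (n : ℕ)
    (h : (n : WithBot ℕ∞) ≤ ringKrullDim L) : (n : WithBot ℕ∞) + 1 ≤ ringKrullDim A := by
  obtain ⟨l, hl⟩ := Order.le_krullDim_iff.mp h
  -- the comap is strictly monotone
  have hmono : StrictMono (PrimeSpectrum.comap (algebraMap A L)) := by
    intro p q hpq
    refine lt_of_le_of_ne ?_ ?_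
    · intro x hx
      exact hpq.le hx
    · intro heq
      exact hpq.ne (PrimeSpectrum.localization_comap_injective L
        (Algebra.algebraMapSubmonoid A (nonZeroDivisors ℤ)) heq)
  let l' : LTSeries (PrimeSpectrum A) := l.map _ hmono
  let P : PrimeSpectrum A := l'.last
  have hPdef : P = PrimeSpectrum.comap (algebraMap A L) l.last := LTSeries.last_map _ _ _
  -- nonzero integers are not in `P`
  have hdisj : ∀ m : ℤ, m ≠ 0 → ((m : ℤ) : A) ∉ P.asIdeal := by
    intro m hm hmem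
    rw [hPdef] at hmem
    have h1 : algebraMap A L ((m : ℤ) : A) ∈ l.last.asIdeal := hmem
    have h2 : IsUnit (algebraMap A L ((m : ℤ) : A)) :=
      IsLocalization.map_units L (⟨((m : ℤ) : A), ⟨m, mem_nonZeroDivisors_of_ne_zero hm,
        by simp⟩⟩ : Algebra.algebraMapSubmonoid A (nonZeroDivisors ℤ))
    exact l.last.isPrime.ne_top (Ideal.eq_top_of_isUnit_mem _ h1 h2)
  have hnotmax : ¬ P.asIdeal.IsMaximal := by
    intro hmax
    letI : Field (A ⧸ P.asIdeal) := Ideal.Quotient.field _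
    haveI : Algebra.FiniteType ℤ (A ⧸ P.asIdeal) :=
      Algebra.FiniteType.of_surjective (Ideal.Quotient.mkₐ ℤ P.asIdeal)
        Ideal.Quotient.mk_surjective
    haveI := isJacobsonRing_int
    haveI : Module.Finite ℤ (A ⧸ P.asIdeal) := finite_of_finite_type_of_isJacobsonRing ℤ _
    have hinj : Function.Injective (algebraMap ℤ (A ⧸ P.asIdeal)) := by
      rw [injective_iff_map_eq_zero]
      intro m hm
      by_contra hne
      apply hdisj m hne
      rw [← Ideal.Quotient.eq_zero_iff_mem]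
      simpa using hm
    exact Int.not_isField (isField_of_isIntegral_of_isField hinj (Field.toIsField _))
  obtain ⟨Q, hQmax, hPQ⟩ := Ideal.exists_le_maximal P.asIdeal P.isPrime.ne_top
  have hlt : P < ⟨Q, hQmax.isPrime⟩ := by
    refine lt_of_le_of_ne hPQ ?_
    intro heq
    apply hnotmax
    have : P.asIdeal = Q := congrArg PrimeSpectrum.asIdeal heq
    rw [this]
    exact hQmax
  let l'' : LTSeries (PrimeSpectrum A) := l'.snoc ⟨Q, hQmax.isPrime⟩ hlt
  have hlen : l''.length = n + 1 := by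
    simp [l'', l', hl]
  have := Order.LTSeries.length_le_krullDim l''
  rw [hlen] at this
  exact_mod_cast this

end dim

section genNorm

attribute [local instance] Algebra.TensorProduct.rightAlgebra MvPolynomial.algebraMvPolynomial

/-- generic Noether normalisation over `ℤ` -/
theorem genNorm (A : Type*) [CommRing A] [Algebra.FiniteType ℤ A] :
    (∃ N : ℤ, N ≠ 0 ∧ ((N : ℤ) : A) = 0) ∨
    ∃ s : ℕ, ((s : WithBot ℕ∞) + 1 ≤ ringKrullDim A) ∧ ∃ a : Fin s → A, ∀ b : A, ∃ c : ℤ, c ≠ 0 ∧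
      (MvPolynomial.aeval a : MvPolynomial (Fin s) ℤ →ₐ[ℤ] A).toRingHom.IsIntegralElem (c • b) := by
  classical
  let L := ℚ ⊗[ℤ] A
  let M := nonZeroDivisors ℤ
  let MA := Algebra.algebraMapSubmonoid A M
  haveI hloc : IsLocalization MA L := IsLocalization.tensorRight ℚ M
  by_cases hL : Nontrivial L
  swap
  · left
    rw [not_nontrivial_iff_subsingleton] at hL
    obtain ⟨c, hc⟩ := (IsLocalization.eq_iff_exists MA L).mp
      (Subsingleton.elim (algebraMap A L 1) (algebraMap A L 0))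
    obtain ⟨n, hn, hnc⟩ := c.2
    refine ⟨n, nonZeroDivisors.ne_zero hn, ?_⟩
    rw [mul_one, mul_zero] at hc
    rw [← hc, ← hnc]
    simp
  right
  obtain ⟨s, g, hginj, hgint⟩ := exists_integral_inj_algHom_of_fg ℚ L
  have hrep : ∀ i : Fin s, ∃ (a : A) (n : ℤ), n ≠ 0 ∧
      algebraMap A L a = ((n : ℤ) : L) * g (MvPolynomial.X i) := by
    intro i
    obtain ⟨⟨a, m⟩, h⟩ := IsLocalization.surj MA (g (MvPolynomial.X i))
    obtain ⟨n, hn, hm⟩ := m.2
    refine ⟨a, n, nonZeroDivisors.ne_zero hn, ?_⟩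
    rw [← h, mul_comm]
    congr 1
    show algebraMap A L m.1 = _
    rw [← hm]
    simp
  choose a n hn0 ha using hrep
  let σ : MvPolynomial (Fin s) ℚ →ₐ[ℚ] MvPolynomial (Fin s) ℚ :=
    MvPolynomial.aeval (fun i => MvPolynomial.C ((n i : ℤ) : ℚ) * MvPolynomial.X i)
  let τ : MvPolynomial (Fin s) ℚ →ₐ[ℚ] MvPolynomial (Fin s) ℚ :=
    MvPolynomial.aeval (fun i => MvPolynomial.C (((n i : ℤ) : ℚ)⁻¹) * MvPolynomial.X i)
  have hnq : ∀ i, ((n i : ℤ) : ℚ) ≠ 0 := fun i => by exact_mod_cast hn0 i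
  have hστ : σ.comp τ = AlgHom.id ℚ _ := by
    apply MvPolynomial.algHom_ext
    intro i
    simp only [σ, τ, AlgHom.comp_apply, MvPolynomial.aeval_X, map_mul, MvPolynomial.aeval_C,
      AlgHom.id_apply, MvPolynomial.algebraMap_eq]
    rw [← mul_assoc, ← MvPolynomial.C_mul, inv_mul_cancel₀ (hnq i), MvPolynomial.C_1, one_mul]
  have hτσ : τ.comp σ = AlgHom.id ℚ _ := by
    apply MvPolynomial.algHom_ext
    intro i
    simp only [σ, τ, AlgHom.comp_apply, MvPolynomial.aeval_X, map_mul, MvPolynomial.aeval_C,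
      AlgHom.id_apply, MvPolynomial.algebraMap_eq]
    rw [← mul_assoc, ← MvPolynomial.C_mul, mul_inv_cancel₀ (hnq i), MvPolynomial.C_1, one_mul]
  have hσsurj : Function.Surjective σ := fun p => ⟨τ p, by
    rw [← AlgHom.comp_apply, hστ]
    rfl⟩
  have hσinj : Function.Injective σ := fun p q h => by
    have := congrArg τ h
    rwa [← AlgHom.comp_apply, ← AlgHom.comp_apply, hτσ] at this
  let g' : MvPolynomial (Fin s) ℚ →ₐ[ℚ] L := g.comp σ
  have hg'X : ∀ i, g' (MvPolynomial.X i) = algebraMap A L (a i) := by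
    intro i
    simp only [g', σ, AlgHom.comp_apply, MvPolynomial.aeval_X, map_mul, ha]
    congr 1
    rw [← MvPolynomial.algebraMap_eq, AlgHom.commutes]
    simp
  have hg'inj : Function.Injective g' := hginj.comp hσinj
  have hg'int : g'.toRingHom.IsIntegral :=
    RingHom.IsIntegral.trans _ _ (σ.toRingHom.isIntegral_of_surjective hσsurj) hgint
  let hA : MvPolynomial (Fin s) ℤ →ₐ[ℤ] A := MvPolynomial.aeval a
  letI alg1 : Algebra (MvPolynomial (Fin s) ℚ) L := g'.toRingHom.toAlgebra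
  letI alg2 : Algebra (MvPolynomial (Fin s) ℤ) A := hA.toRingHom.toAlgebra
  letI alg3 : Algebra (MvPolynomial (Fin s) ℤ) L :=
    ((algebraMap A L).comp hA.toRingHom).toAlgebra
  haveI st1 : IsScalarTower (MvPolynomial (Fin s) ℤ) A L :=
    IsScalarTower.of_algebraMap_eq fun _ => rfl
  haveI st2 : IsScalarTower (MvPolynomial (Fin s) ℤ) (MvPolynomial (Fin s) ℚ) L := by
    apply IsScalarTower.of_algebraMap_eq'
    apply MvPolynomial.ringHom_ext
    · intro m
      simp [RingHom.algebraMap_toAlgebra, hA, g']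
    · intro i
      simp [RingHom.algebraMap_toAlgebra, hA, hg'X]
  let M₀ : Submonoid (MvPolynomial (Fin s) ℤ) := M.map (MvPolynomial.C : ℤ →+* MvPolynomial (Fin s) ℤ)
  haveI : IsLocalization M₀ (MvPolynomial (Fin s) ℚ) := MvPolynomial.isLocalization M ℚ
  have hM₀ : Algebra.algebraMapSubmonoid A M₀ = MA := by
    ext x
    show x ∈ Submonoid.map (algebraMap (MvPolynomial (Fin s) ℤ) A) M₀ ↔
      x ∈ Submonoid.map (algebraMap ℤ A) M
    simp only [Submonoid.mem_map]
    constructor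
    · rintro ⟨p, ⟨m, hm, rfl⟩, rfl⟩
      exact ⟨m, hm, by simp [RingHom.algebraMap_toAlgebra, hA]⟩
    · rintro ⟨m, hm, rfl⟩
      exact ⟨MvPolynomial.C m, ⟨m, hm, rfl⟩, by simp [RingHom.algebraMap_toAlgebra, hA]⟩
  haveI : IsLocalization (Algebra.algebraMapSubmonoid A M₀) L := by
    rw [hM₀]
    exact hloc
  refine ⟨s, ?_, a, fun b => ?_⟩
  · have h1 : ringKrullDim (MvPolynomial (Fin s) ℚ) ≤ ringKrullDim L := by
      haveI : Algebra.IsIntegral (MvPolynomial (Fin s) ℚ) L := ⟨hg'int⟩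
      exact ringKrullDim_le_of_isIntegral_of_injective _ _ hg'inj
    rw [MvPolynomial.ringKrullDim_of_isNoetherianRing, ringKrullDim_eq_zero_of_field] at h1
    simp only [Nat.card_eq_fintype_card, Fintype.card_fin, zero_add] at h1
    exact dim_succ_le A L s h1
  · have hb : IsIntegral (MvPolynomial (Fin s) ℚ) (algebraMap A L b) := hg'int _
    obtain ⟨m, hm⟩ := IsIntegral.exists_multiple_integral_of_isLocalization M₀ _ hb
    obtain ⟨n₁, hn₁, hm₁⟩ := m.2
    have e1 : m • algebraMap A L b = algebraMap A L (n₁ • b) := by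
      rw [Submonoid.smul_def, Algebra.smul_def, ← hm₁]
      show algebraMap A L (hA (MvPolynomial.C n₁)) * algebraMap A L b = algebraMap A L (n₁ • b)
      rw [← map_mul]
      congr 1
      simp [hA, zsmul_eq_mul]
    rw [e1] at hm
    obtain ⟨m₂, hm₂, hint⟩ :=
      IsLocalization.exists_isIntegral_smul_of_isIntegral_map (Sₘ := L) M₀ hm
    obtain ⟨n₂, hn₂, rfl⟩ := hm₂
    refine ⟨n₂ * n₁, mul_ne_zero (nonZeroDivisors.ne_zero hn₂) (nonZeroDivisors.ne_zero hn₁), ?_⟩
    have e2 : (MvPolynomial.C n₂ : MvPolynomial (Fin s) ℤ) • (n₁ • b) = (n₂ * n₁) • b := by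
      rw [Algebra.smul_def]
      simp [RingHom.algebraMap_toAlgebra, hA, mul_smul, zsmul_eq_mul]
    rw [e2] at hint
    exact hint

end genNorm

section count

theorem count_core (A : Type*) [CommRing A] (S : Finset A)
    (hS : Algebra.adjoin ℤ (S : Set A) = ⊤) (s : ℕ) (a : Fin s → A) (c : A → ℤ)
    (P : A → (MvPolynomial (Fin s) ℤ)[X])
    (hP : ∀ b ∈ S, (P b).Monic ∧
      eval₂ (MvPolynomial.aeval a : MvPolynomial (Fin s) ℤ →ₐ[ℤ] A).toRingHom (c b • b) (P b) = 0)
    (F : Type*) [Field F] [Finite F] (hc : ∀ b ∈ S, ((c b : ℤ) : F) ≠ 0) :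
    Finite (A →+* F) ∧ Nat.card (A →+* F) ≤ (∏ b ∈ S, (P b).natDegree) * Nat.card F ^ s := by
  classical
  let ev : (Fin s → F) → MvPolynomial (Fin s) ℤ →+* F := fun y =>
    MvPolynomial.eval₂Hom (Int.castRingHom F) y
  let Q : (Fin s → F) → A → F[X] := fun y b => (P b).map (ev y)
  have hQmonic : ∀ y, ∀ b ∈ S, (Q y b).Monic := fun y b hb => (hP b hb).1.map _
  have hQdeg : ∀ y, ∀ b ∈ S, (Q y b).natDegree = (P b).natDegree := fun y b hb =>
    (hP b hb).1.natDegree_map _
  let T := Σ y : (Fin s → F), ((b : S) → {z : F // (Q y b).IsRoot z})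
  have hroot : ∀ (φ : A →+* F) (b : S),
      (Q (fun i => φ (a i)) b).IsRoot (φ (c b.1 • b.1)) := by
    intro φ b
    have hcomp : ev (fun i => φ (a i)) =
        φ.comp (MvPolynomial.aeval a : MvPolynomial (Fin s) ℤ →ₐ[ℤ] A).toRingHom := by
      apply MvPolynomial.ringHom_ext
      · intro m
        simp [ev]
      · intro i
        simp [ev]
    show eval (φ _) ((P b.1).map _) = 0
    rw [hcomp, Polynomial.eval_map]
    have h1 := congrArg φ (hP b.1 b.2).2
    rw [map_zero, Polynomial.hom_eval₂] at h1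
    exact h1
  let Ψ : (A →+* F) → T := fun φ =>
    ⟨fun i => φ (a i), fun b => ⟨φ (c b.1 • b.1), hroot φ b⟩⟩
  have hΨ : Function.Injective Ψ := by
    intro φ₁ φ₂ h
    have h1 : (Ψ φ₁).1 = (Ψ φ₂).1 := congrArg Sigma.fst h
    have h3 : HEq (Ψ φ₁).2 (Ψ φ₂).2 := (Sigma.mk.inj_iff.mp h).2
    have h4 : ∀ (y₁ y₂ : Fin s → F) (hy : y₁ = y₂)
        (z₁ : (b : S) → {z : F // (Q y₁ b).IsRoot z})
        (z₂ : (b : S) → {z : F // (Q y₂ b).IsRoot z}), HEq z₁ z₂ →
        ∀ b : S, (z₁ b).1 = (z₂ b).1 := by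
      intro y₁ y₂ hy z₁ z₂ hz b
      subst hy
      rw [eq_of_heq hz]
    have h5 : ∀ b ∈ S, φ₁ b = φ₂ b := by
      intro b hb
      have h6 : φ₁ (c b • b) = φ₂ (c b • b) := h4 _ _ h1 _ _ h3 ⟨b, hb⟩
      rw [zsmul_eq_mul, map_mul, map_mul, map_intCast, map_intCast] at h6
      exact mul_left_cancel₀ (hc b hb) h6
    have h7 : φ₁.toIntAlgHom = φ₂.toIntAlgHom :=
      AlgHom.ext_of_adjoin_eq_top hS (fun b hb => h5 b hb)
    ext x
    exact congrArg (fun ψ : A →ₐ[ℤ] F => ψ x) h7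
  haveI : Fintype (Fin s → F) := Fintype.ofFinite _
  haveI : ∀ y : Fin s → F, ∀ b : S, Finite {z : F // (Q y b).IsRoot z} := fun y b =>
    inferInstance
  haveI : Finite T := inferInstance
  refine ⟨Finite.of_injective Ψ hΨ, ?_⟩
  have hcardT : Nat.card T ≤ Nat.card F ^ s * ∏ b ∈ S, (P b).natDegree := by
    show Nat.card (Σ y : (Fin s → F), ((b : S) → {z : F // (Q y b).IsRoot z})) ≤ _
    rw [Nat.card_sigma]
    have hle : ∀ y : Fin s → F, Nat.card ((b : S) → {z : F // (Q y b).IsRoot z}) ≤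
        ∏ b ∈ S, (P b).natDegree := by
      intro y
      rw [Nat.card_pi, ← Finset.prod_coe_sort S (fun b => (P b).natDegree)]
      refine Finset.prod_le_prod' fun b _ => ?_
      rw [← hQdeg y b.1 b.2]
      exact card_roots_le _ (hQmonic y b.1 b.2).ne_zero
    calc ∑ y : Fin s → F, Nat.card ((b : S) → {z : F // (Q y b).IsRoot z})
        ≤ ∑ _y : Fin s → F, ∏ b ∈ S, (P b).natDegree := Finset.sum_le_sum fun y _ => hle y
      _ = Nat.card F ^ s * ∏ b ∈ S, (P b).natDegree := by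
        rw [Finset.sum_const, smul_eq_mul, Finset.card_univ, ← Nat.card_eq_fintype_card,
          Nat.card_fun, Nat.card_eq_fintype_card (α := Fin s), Fintype.card_fin]
  calc Nat.card (A →+* F) ≤ Nat.card T := Nat.card_le_card_of_injective Ψ hΨ
    _ ≤ Nat.card F ^ s * ∏ b ∈ S, (P b).natDegree := hcardT
    _ = _ := mul_comm _ _

/-- a finite field of cardinality `p ^ m` has characteristic `p` -/
theorem charP_of_natCard (F : Type*) [Field F] (p m : ℕ) (hp : p.Prime) (hm : 1 ≤ m)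
    (hF : Nat.card F = p ^ m) : Finite F ∧ CharP F p := by
  have hfin : Finite F := Nat.finite_of_card_ne_zero (by
    rw [hF]
    exact pow_ne_zero _ hp.ne_zero)
  haveI : Fintype F := Fintype.ofFinite F
  haveI : Fact p.Prime := ⟨hp⟩
  exact ⟨hfin, charP_of_card_eq_prime_pow (f := m) (by rw [← Nat.card_eq_fintype_card, hF])⟩

/-- small primes: the fibre over `p` -/
theorem card_ringHom_le_prime (A : Type u) [CommRing A] [Algebra.FiniteType ℤ A] (r : ℕ)
    (hr : ringKrullDim A ≤ r) (p : ℕ) (hp : p.Prime) :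
    ∃ c : ℕ, ∀ m : ℕ, 1 ≤ m → ∀ (F : Type u) [Field F], Nat.card F = p ^ m →
      Finite (A →+* F) ∧ Nat.card (A →+* F) ≤ c * p ^ (m * r) := by
  haveI : Fact p.Prime := ⟨hp⟩
  let B := ZMod p ⊗[ℤ] A
  have hsurj : Function.Surjective (Algebra.TensorProduct.includeRight : A →ₐ[ℤ] ZMod p ⊗[ℤ] A) :=
    Algebra.TensorProduct.includeRight_surjective A (by
      intro x
      obtain ⟨n, rfl⟩ := ZMod.intCast_surjective x
      exact ⟨n, by simp⟩)
  have hdim : ringKrullDim B ≤ r :=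
    (ringKrullDim_le_of_surjective
      (Algebra.TensorProduct.includeRight : A →ₐ[ℤ] ZMod p ⊗[ℤ] A).toRingHom hsurj).trans hr
  obtain ⟨c, hc⟩ := card_algHom_le.{u} (ZMod p) B r hdim
  refine ⟨c, fun m hm F _ hF => ?_⟩
  obtain ⟨hfin, hchar⟩ := charP_of_natCard F p m hp hm hF
  letI : Algebra (ZMod p) F := ZMod.algebra F p
  obtain ⟨h1, h2⟩ := hc F
  let Θ : (A →+* F) → (B →ₐ[ZMod p] F) := fun φ =>
    Algebra.TensorProduct.lift (Algebra.ofId (ZMod p) F) φ.toIntAlgHom (fun _ _ => Commute.all _ _)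
  have hΘ : Function.Injective Θ := by
    intro φ₁ φ₂ h
    ext x
    have := congrArg (fun ψ : B →ₐ[ZMod p] F => ψ ((1 : ZMod p) ⊗ₜ[ℤ] x)) h
    simp only [Θ] at this
    rw [Algebra.TensorProduct.lift_tmul, Algebra.TensorProduct.lift_tmul, map_one, one_mul,
      one_mul] at this
    exact this
  have hrank : Module.finrank (ZMod p) F = m := by
    have h3 : Nat.card F = Nat.card (ZMod p) ^ Module.finrank (ZMod p) F :=
      Module.natCard_eq_pow_finrank
    rw [hF, Nat.card_zmod] at h3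
    exact (Nat.pow_right_injective hp.two_le h3).symm
  refine ⟨Finite.of_injective Θ hΘ, (Nat.card_le_card_of_injective Θ hΘ).trans ?_⟩
  rw [hrank, Nat.card_zmod, mul_comm r m] at h2
  exact h2

/-- the uniform bound for large primes -/
theorem card_ringHom_le_generic (A : Type u) [CommRing A] [Algebra.FiniteType ℤ A] (r : ℕ)
    (hr : ringKrullDim A ≤ r) :
    ∃ (c p₀ : ℕ), ∀ (p m : ℕ), p.Prime → 1 ≤ m → p₀ ≤ p → ∀ (F : Type u) [Field F],
      Nat.card F = p ^ m → Nat.card (A →+* F) * p ^ m ≤ c * p ^ (m * r) := by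
  classical
  rcases genNorm A with ⟨N, hN0, hN⟩ | ⟨s, hs, a, hint⟩
  · refine ⟨0, N.natAbs + 1, fun p m hp hm hp₀ F _ hF => ?_⟩
    obtain ⟨hfin, hchar⟩ := charP_of_natCard F p m hp hm hF
    haveI : IsEmpty (A →+* F) := ⟨fun φ => by
      have h1 : ((N : ℤ) : F) = 0 := by
        rw [← map_intCast φ, hN, map_zero]
      rw [CharP.intCast_eq_zero_iff F p] at h1
      have h2 : p ∣ N.natAbs := Int.natCast_dvd.mp h1
      have h3 := Nat.le_of_dvd (Int.natAbs_pos.mpr hN0) h2
      omega⟩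
    simp
  · have hsr : s + 1 ≤ r := by
      have := hs.trans hr
      exact_mod_cast this
    obtain ⟨S, hS⟩ := (Algebra.FiniteType.out : (⊤ : Subalgebra ℤ A).FG)
    choose c hc0 P hPmonic hPzero using hint
    refine ⟨∏ b ∈ S, (P b).natDegree, (∏ b ∈ S, c b).natAbs + 1,
      fun p m hp hm hp₀ F _ hF => ?_⟩
    obtain ⟨hfin, hchar⟩ := charP_of_natCard F p m hp hm hF
    have hN0 : (∏ b ∈ S, c b) ≠ 0 := Finset.prod_ne_zero_iff.mpr fun b _ => hc0 b
    have hcF : ∀ b ∈ S, ((c b : ℤ) : F) ≠ 0 := by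
      intro b hb h1
      rw [CharP.intCast_eq_zero_iff F p] at h1
      have h2 : (p : ℤ) ∣ ∏ b ∈ S, c b := h1.trans (Finset.dvd_prod_of_mem c hb)
      have h3 : p ∣ (∏ b ∈ S, c b).natAbs := Int.natCast_dvd.mp h2
      have h4 := Nat.le_of_dvd (Int.natAbs_pos.mpr hN0) h3
      omega
    obtain ⟨-, h5⟩ := count_core A S hS s a c P (fun b _ => ⟨hPmonic b, hPzero b⟩) F hcF
    rw [hF] at h5
    calc Nat.card (A →+* F) * p ^ m
        ≤ ((∏ b ∈ S, (P b).natDegree) * (p ^ m) ^ s) * p ^ m := Nat.mul_le_mul_right _ h5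
      _ = (∏ b ∈ S, (P b).natDegree) * p ^ (m * (s + 1)) := by
          rw [mul_assoc, ← pow_mul, ← pow_add, mul_add, mul_one]
      _ ≤ (∏ b ∈ S, (P b).natDegree) * p ^ (m * r) := by
          apply Nat.mul_le_mul_left
          exact Nat.pow_le_pow_right hp.pos (Nat.mul_le_mul_left _ hsr)

theorem card_ringHom_le_int (A : Type u) [CommRing A] [Algebra.FiniteType ℤ A] (r : ℕ)
    (hr : ringKrullDim A ≤ r) :
    ∃ (c p₀ : ℕ), ∀ (p m : ℕ), p.Prime → 1 ≤ m → ∀ (F : Type u) [Field F],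
      Nat.card F = p ^ m → Finite (A →+* F) ∧
        (p₀ ≤ p → Nat.card (A →+* F) * p ^ m ≤ c * p ^ (m * r)) ∧
        (p < p₀ → Nat.card (A →+* F) ≤ c * p ^ (m * r)) := by
  classical
  obtain ⟨C, p₀, hC⟩ := card_ringHom_le_generic A r hr
  have hsmall := card_ringHom_le_prime A r hr
  choose cp hcp using hsmall
  let c' : ℕ → ℕ := fun p => if h : p.Prime then cp p h else 0
  refine ⟨C + ∑ p ∈ Finset.range p₀, c' p, p₀, fun p m hp hm F _ hF => ?_⟩
  obtain ⟨hfin, hle⟩ := hcp p hp m hm F hF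
  refine ⟨hfin, fun hp₀ => ?_, fun hp₀ => ?_⟩
  · exact (hC p m hp hm hp₀ F hF).trans (Nat.mul_le_mul_right _ (Nat.le_add_right _ _))
  · refine hle.trans (Nat.mul_le_mul_right _ ?_)
    have h1 : c' p ≤ ∑ p ∈ Finset.range p₀, c' p :=
      Finset.single_le_sum (f := c') (fun _ _ => Nat.zero_le _) (Finset.mem_range.mpr hp₀)
    have h2 : c' p = cp p hp := dif_pos hp
    omega

end count

end Groth.Agent.Lib.H6xPointCountZ
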