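import Mathlib
import Groth.Agent.Lib.H6xPointCountZ
import Groth.Agent.Lib.H6xPointCount

set_option autoImplicit false

/-! Point counts of schemes of finite type over `ℤ` with values in finite fields, uniformly in the
characteristic. -/

namespace Groth.Agent.Lib.H6xPointCountZ

open CategoryTheory AlgebraicGeometry

universe u

section general

variable {R : Type u} [CommRing R] {X : Scheme.{u}} (f : X ⟶ Spec (CommRingCat.of R))

/-- the structure map `R → Γ(X, U)` -/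
noncomputable def rToΓ (U : X.Opens) : R →+* Γ(X, U) :=
  (f.appLE ⊤ U (fun _ _ => trivial)).hom.comp (Scheme.ΓSpecIso (CommRingCat.of R)).inv.hom

theorem finiteType_rToΓ [LocallyOfFiniteType f] (U : X.Opens) (hU : IsAffineOpen U) :
    (rToΓ f U).FiniteType := by
  have h1 : (f.appLE ⊤ U (fun _ _ => trivial)).hom.FiniteType :=
    HasRingHomProperty.appLE (P := @LocallyOfFiniteType) f inferInstance
      ⟨⊤, isAffineOpen_top _⟩ ⟨U, hU⟩ _
  have h2 : (Scheme.ΓSpecIso (CommRingCat.of R)).inv.hom.FiniteType := by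
    apply RingHom.FiniteType.of_surjective
    exact (ConcreteCategory.bijective_of_isIso (Scheme.ΓSpecIso (CommRingCat.of R)).inv).2
  exact h1.comp h2

end general

section points

variable {X : Scheme.{u}} {F : Type u} [Field F]

/-- the image of the unique point -/
noncomputable def pt (g : Spec (CommRingCat.of F) ⟶ X) : X := g.base (IsLocalRing.closedPoint F)

theorem le_preimage (g : Spec (CommRingCat.of F) ⟶ X) (U : X.Opens) (hU : pt g ∈ U) :
    (⊤ : (Spec (CommRingCat.of F)).Opens) ≤ g ⁻¹ᵁ U := by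
  intro y _
  have : y = IsLocalRing.closedPoint F :=
    @Subsingleton.elim (PrimeSpectrum F) _ y (IsLocalRing.closedPoint F)
  show g.base y ∈ U
  rw [this]
  exact hU

/-- the ring homomorphism attached to a point landing in `U` -/
noncomputable def toHom (g : Spec (CommRingCat.of F) ⟶ X) (U : X.Opens) (hU : pt g ∈ U) :
    Γ(X, U) →+* F :=
  (Scheme.ΓSpecIso (CommRingCat.of F)).hom.hom.comp (g.appLE U ⊤ (le_preimage g U hU)).hom

theorem ext_of_toHom (g₁ g₂ : Spec (CommRingCat.of F) ⟶ X) (U : X.Opens) (hU : IsAffineOpen U)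
    (h₁ : pt g₁ ∈ U) (h₂ : pt g₂ ∈ U) (h : toHom g₁ U h₁ = toHom g₂ U h₂) :
    g₁ = g₂ := by
  have hinj : Function.Injective (Scheme.ΓSpecIso (CommRingCat.of F)).hom.hom :=
    (ConcreteCategory.bijective_of_isIso (Scheme.ΓSpecIso (CommRingCat.of F)).hom).1
  have happ : g₁.appLE U ⊤ (le_preimage g₁ U h₁) = g₂.appLE U ⊤ (le_preimage g₂ U h₂) := by
    ext x
    apply hinj
    exact congrArg (fun φ : Γ(X, U) →+* F => φ x) h
  have hr : ∀ g : Spec (CommRingCat.of F) ⟶ X, pt g ∈ U →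
      Set.range g.base ⊆ Set.range U.ι.base := by
    intro g hg
    rw [Scheme.Opens.range_ι]
    rintro _ ⟨y, rfl⟩
    exact le_preimage g U hg (show y ∈ (⊤ : (Spec (CommRingCat.of F)).Opens) from trivial)
  have key : ∀ (g : Spec (CommRingCat.of F) ⟶ X) (hg : pt g ∈ U),
      U.topIso.inv ≫ (IsOpenImmersion.lift U.ι g (hr g hg)).appTop =
        g.appLE U ⊤ (le_preimage g U hg) := by
    intro g hg
    have e1 : ∀ (φ : Spec (CommRingCat.of F) ⟶ X) (hφ : φ = g) (e),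
        φ.appLE U ⊤ e = g.appLE U ⊤ (le_preimage g U hg) := by
      intro φ hφ e
      subst hφ
      rfl
    have e2 := Scheme.Hom.appLE_comp_appLE (IsOpenImmersion.lift U.ι g (hr g hg)) U.ι U ⊤ ⊤
      (by rw [Scheme.Opens.ι_preimage_self]) (fun _ _ => trivial)
    rw [e1 _ (IsOpenImmersion.lift_fac _ _ _)] at e2
    rw [← e2, Scheme.Hom.appTop, Scheme.Hom.app_eq_appLE]
    congr 1
    rw [Scheme.Opens.ι_appLE, Scheme.Opens.topIso_inv]
    rfl
  have hU' : IsAffine U.toScheme := hU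
  have hl : IsOpenImmersion.lift U.ι g₁ (hr g₁ h₁) = IsOpenImmersion.lift U.ι g₂ (hr g₂ h₂) := by
    apply ext_of_isAffine
    have := (key g₁ h₁).trans (happ.trans (key g₂ h₂).symm)
    exact (Iso.cancel_iso_inv_left _ _ _).mp this
  rw [← IsOpenImmersion.lift_fac U.ι g₁ (hr g₁ h₁), ← IsOpenImmersion.lift_fac U.ι g₂ (hr g₂ h₂),
    hl]

end points

section main

variable {X : Scheme.{u}} (f : X ⟶ Spec (CommRingCat.of (ULift.{u} ℤ)))

theorem finiteType_int [LocallyOfFiniteType f] (U : X.Opens) (hU : IsAffineOpen U) :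
    Algebra.FiniteType ℤ Γ(X, U) := by
  have h1 := finiteType_rToΓ f U hU
  have h2 : (ULift.ringEquiv.symm : ℤ ≃+* ULift.{u} ℤ).toRingHom.FiniteType :=
    RingHom.FiniteType.of_surjective _ (ULift.ringEquiv.symm : ℤ ≃+* ULift.{u} ℤ).surjective
  have h3 := h1.comp h2
  have h4 : (rToΓ f U).comp (ULift.ringEquiv.symm : ℤ ≃+* ULift.{u} ℤ).toRingHom =
      algebraMap ℤ Γ(X, U) := Subsingleton.elim _ _
  rw [h4] at h3
  exact RingHom.finiteType_algebraMap.mp h3

/-- the uniform point count over `ℤ` -/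
theorem main [LocallyOfFiniteType f] [QuasiCompact f] (r : ℕ)
    (hr : topologicalKrullDim X ≤ r) :
    ∃ (c p₀ : ℕ), ∀ (p m : ℕ), p.Prime → 1 ≤ m → ∀ (F : Type u) [Field F],
      Nat.card F = p ^ m → Finite (Spec (CommRingCat.of F) ⟶ X) ∧
        (p₀ ≤ p → Nat.card (Spec (CommRingCat.of F) ⟶ X) * p ^ m ≤ c * p ^ (m * r)) ∧
        Nat.card (Spec (CommRingCat.of F) ⟶ X) ≤ c * p ^ (m * r) := by
  classical
  haveI : CompactSpace X := QuasiCompact.compactSpace_of_compactSpace f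
  obtain ⟨s, hsfin, hs⟩ := (isCompact_iff_finite_and_eq_biUnion_affineOpens
    (U := (⊤ : X.Opens))).mp (by simpa using isCompact_univ)
  have hc : ∀ U : X.affineOpens, ∃ (c p₀ : ℕ), ∀ (p m : ℕ), p.Prime → 1 ≤ m →
      ∀ (F : Type u) [Field F], Nat.card F = p ^ m → Finite (Γ(X, (U : X.Opens)) →+* F) ∧
        (p₀ ≤ p → Nat.card (Γ(X, (U : X.Opens)) →+* F) * p ^ m ≤ c * p ^ (m * r)) ∧
        (p < p₀ → Nat.card (Γ(X, (U : X.Opens)) →+* F) ≤ c * p ^ (m * r)) := fun U => by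
    haveI := finiteType_int f U.1 U.2
    exact card_ringHom_le_int Γ(X, (U : X.Opens)) r
      (Groth.Agent.Lib.H6xPointCount.ringKrullDim_le U.1 U.2 r hr)
  choose cU pU hcU using hc
  haveI : Fintype s := hsfin.fintype
  refine ⟨∑ U : s, cU U.1, Finset.univ.sup fun U : s => pU U.1, fun p m hp hm F _ hF => ?_⟩
  have hcover : ∀ g : Spec (CommRingCat.of F) ⟶ X,
      ∃ U : s, pt g ∈ ((U.1 : X.affineOpens) : X.Opens) := by
    intro g
    have hmem : pt g ∈ (⊤ : X.Opens) := trivial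
    rw [hs] at hmem
    simp only [TopologicalSpace.Opens.mem_iSup] at hmem
    obtain ⟨i, hi, hmem⟩ := hmem
    exact ⟨⟨i, hi⟩, hmem⟩
  choose Ug hUg using hcover
  let Ψ : (Spec (CommRingCat.of F) ⟶ X) →
      Σ U : s, (Γ(X, ((U.1 : X.affineOpens) : X.Opens)) →+* F) :=
    fun g => ⟨Ug g, toHom g _ (hUg g)⟩
  have hΨ : Function.Injective Ψ := by
    intro g₁ g₂ h
    have h1 : Ug g₁ = Ug g₂ := congrArg Sigma.fst h
    have h2 : HEq (toHom g₁ _ (hUg g₁)) (toHom g₂ _ (hUg g₂)) := (Sigma.mk.inj_iff.mp h).2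
    have gen : ∀ (U₁ U₂ : s) (hU : U₁ = U₂) (h₁ : pt g₁ ∈ ((U₁.1 : X.affineOpens) : X.Opens))
        (h₂ : pt g₂ ∈ ((U₂.1 : X.affineOpens) : X.Opens)),
        HEq (toHom g₁ _ h₁) (toHom g₂ _ h₂) → g₁ = g₂ := by
      intro U₁ U₂ hU h₁ h₂ hh
      subst hU
      exact ext_of_toHom g₁ g₂ _ U₁.1.2 h₁ h₂ (eq_of_heq hh)
    exact gen _ _ h1 _ _ h2
  haveI : ∀ U : s, Finite (Γ(X, ((U.1 : X.affineOpens) : X.Opens)) →+* F) := fun U =>
    (hcU U.1 p m hp hm F hF).1
  have hp1 : 1 ≤ p ^ m := Nat.one_le_pow _ _ hp.pos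
  have hle : ∀ U : s, Nat.card (Γ(X, ((U.1 : X.affineOpens) : X.Opens)) →+* F) ≤
      cU U.1 * p ^ (m * r) := by
    intro U
    by_cases hpU : pU U.1 ≤ p
    · have := (hcU U.1 p m hp hm F hF).2.1 hpU
      calc Nat.card (Γ(X, ((U.1 : X.affineOpens) : X.Opens)) →+* F)
          ≤ Nat.card (Γ(X, ((U.1 : X.affineOpens) : X.Opens)) →+* F) * p ^ m :=
            Nat.le_mul_of_pos_right _ hp1
        _ ≤ _ := this
    · exact (hcU U.1 p m hp hm F hF).2.2 (by omega)
  have hcard : Nat.card (Spec (CommRingCat.of F) ⟶ X) ≤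
      ∑ U : s, Nat.card (Γ(X, ((U.1 : X.affineOpens) : X.Opens)) →+* F) :=
    calc Nat.card (Spec (CommRingCat.of F) ⟶ X)
        ≤ Nat.card (Σ U : s, (Γ(X, ((U.1 : X.affineOpens) : X.Opens)) →+* F)) :=
          Nat.card_le_card_of_injective Ψ hΨ
      _ = _ := Nat.card_sigma
  refine ⟨Finite.of_injective Ψ hΨ, fun hp₀ => ?_, ?_⟩
  · calc Nat.card (Spec (CommRingCat.of F) ⟶ X) * p ^ m
        ≤ (∑ U : s, Nat.card (Γ(X, ((U.1 : X.affineOpens) : X.Opens)) →+* F)) * p ^ m :=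
          Nat.mul_le_mul_right _ hcard
      _ = ∑ U : s, Nat.card (Γ(X, ((U.1 : X.affineOpens) : X.Opens)) →+* F) * p ^ m :=
          Finset.sum_mul _ _ _
      _ ≤ ∑ U : s, cU U.1 * p ^ (m * r) := by
          apply Finset.sum_le_sum
          intro U _
          apply (hcU U.1 p m hp hm F hF).2.1
          exact (Finset.le_sup (f := fun U : s => pU U.1) (Finset.mem_univ U)).trans hp₀
      _ = (∑ U : s, cU U.1) * p ^ (m * r) := (Finset.sum_mul _ _ _).symm
  · calc Nat.card (Spec (CommRingCat.of F) ⟶ X)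
        ≤ ∑ U : s, Nat.card (Γ(X, ((U.1 : X.affineOpens) : X.Opens)) →+* F) := hcard
      _ ≤ ∑ U : s, cU U.1 * p ^ (m * r) := Finset.sum_le_sum fun U _ => hle U
      _ = (∑ U : s, cU U.1) * p ^ (m * r) := (Finset.sum_mul _ _ _).symm

end main

end Groth.Agent.Lib.H6xPointCountZ
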