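import Mathlib
import Groth.Agent.Lib.H6xCntHomA
set_option backward.isDefEq.respectTransparency.types false

/-!
# Morphisms from perfect complexes to power-torsion complexes are killed by a power (helper6; S7276)

The algebraic part: for a commutative ring `R`, `r ∈ R`, `M ∈ D(R)` perfect and `N ∈ D(R)` all of whose
cohomology modules are `r`-power torsion, every morphism `M ⟶ N` is killed by a power of `r`.
-/

set_option autoImplicit false
set_option linter.style.haveILetI false
set_option linter.unusedVariables false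
set_option linter.unusedSectionVars false
universe w v u
open CategoryTheory CategoryTheory.Limits

namespace Groth.Agent.Lib.H6xPowKill

open DerivedCategory Pretriangulated Groth.Agent.S14388

section abstract

variable {C : Type u} [Category.{v} C] [Abelian C] [HasDerivedCategory.{w} C]

/-- the structure of `Hom(P[0], Z)` for `P` projective -/
theorem exists_single_data (P : C) [Projective P] (Z : DerivedCategory C) :
    ∃ (X Y : DerivedCategory C) (ι : X ⟶ Z) (π : X ⟶ Y) (H : C)
      (θ : Y ≅ (singleFunctor C 0).obj H) (eH : H ≅ (homologyFunctor C 0).obj Z),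
      Function.Surjective (fun f : (singleFunctor C 0).obj P ⟶ X => f ≫ ι) ∧
      Function.Injective (fun f : (singleFunctor C 0).obj P ⟶ X => f ≫ π) := by
  set X := (tt.truncLT 1).obj Z with hX
  set Y := (tt.truncGE 0).obj X with hY
  have hT := tt.triangleLTGE_distinguished 1 Z
  have hT' := tt.triangleLTGE_distinguished 0 X
  haveI hXle : X.IsLE 0 := (inferInstance : tt.IsLE ((tt.truncLT 1).obj Z) (1 - 1))
  haveI hYge : Y.IsGE 0 := (inferInstance : tt.IsGE ((tt.truncGE 0).obj X) 0)
  haveI hYle : Y.IsLE 0 := by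
    rw [isLE_iff]
    intro i hi
    have := isIso_homology_truncGEπ 0 i (by lia) X
    exact (DerivedCategory.isZero_of_isLE X 0 i hi).of_iso
      (asIso ((homologyFunctor C i).map ((tt.truncGEπ 0).app X))).symm
  obtain ⟨H, ⟨θ⟩⟩ := exists_iso_singleFunctor_obj_of_isGE_of_isLE Y 0
  have eH : H ≅ (homologyFunctor C 0).obj Z := by
    have i1 := isIso_homology_truncGEπ 0 0 le_rfl X
    have i2 := isIso_homology_truncLTι 1 0 (by lia) Z
    exact ((singleFunctorCompHomologyFunctorIso C 0).app H).symm ≪≫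
      (homologyFunctor C 0).mapIso θ.symm ≪≫
      (asIso ((homologyFunctor C 0).map ((tt.truncGEπ 0).app X))).symm ≪≫
      asIso ((homologyFunctor C 0).map ((tt.truncLTι 1).app Z))
  refine ⟨X, Y, (tt.truncLTι 1).app Z, (tt.truncGEπ 0).app X, H, θ, eH, ?_, ?_⟩
  · intro f
    have h0 : f ≫ ((tt.triangleLTGE 1).obj Z).mor₂ = 0 := tt.zero _ 0 1 (by lia)
    obtain ⟨k, hk⟩ := Triangle.coyoneda_exact₂ _ hT f h0
    exact ⟨k, hk.symm⟩
  · intro f g hfg
    have h0 : (f - g) ≫ ((tt.triangleLTGE 0).obj X).mor₂ = 0 := by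
      rw [Preadditive.sub_comp]
      exact sub_eq_zero.2 hfg
    obtain ⟨k, hk⟩ := Triangle.coyoneda_exact₂ _ hT' (f - g) h0
    haveI : ((tt.truncLT 0).obj X).IsLE (0 - 1) :=
      (inferInstance : tt.IsLE ((tt.truncLT 0).obj X) (0 - 1))
    haveI : ∀ i : ℤ, Projective (((HomologicalComplex.single C (ComplexShape.up ℤ) 0).obj P).X i) := by
      intro i
      by_cases hi : i = 0
      · subst hi
        exact Projective.of_iso (HomologicalComplex.singleObjXSelf (ComplexShape.up ℤ) 0 P).symm
          inferInstance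
      · exact (HomologicalComplex.isZero_single_obj_X (ComplexShape.up ℤ) 0 P i hi).projective
    have hk0 : ((singleFunctorIsoCompQ C 0).app P).inv ≫ k = 0 :=
      Groth.Agent.S6990.hom_eq_zero ((HomologicalComplex.single C (ComplexShape.up ℤ) 0).obj P) 0 0
        (fun i hi => HomologicalComplex.isZero_single_obj_X (ComplexShape.up ℤ) 0 P i (by lia))
        ((tt.truncLT 0).obj X) _
    have hk1 : k = 0 := by
      rw [← cancel_epi ((singleFunctorIsoCompQ C 0).app P).inv, hk0, comp_zero]
    rw [hk1, zero_comp] at hk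
    exact sub_eq_zero.1 hk

variable {R : Type*} [CommRing R] [Linear R C]

/-- every morphism from `M` to an object satisfying `W` is killed by a power of `r` -/
def PowTors (r : R) (W : DerivedCategory C → Prop) (M : DerivedCategory C) : Prop :=
  ∀ N : DerivedCategory C, W N → ∀ β : M ⟶ N, ∃ n : ℕ, r ^ n • β = 0

lemma powTors_of_iso (r : R) (W : DerivedCategory C → Prop) {X Y : DerivedCategory C} (e : X ≅ Y)
    (h : PowTors r W X) : PowTors r W Y := fun N hN β => by
  obtain ⟨n, hn⟩ := h N hN (e.hom ≫ β)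
  refine ⟨n, ?_⟩
  rw [← cancel_epi e.hom, Linear.comp_smul, hn, comp_zero]

lemma powTors_of_isZero (r : R) (W : DerivedCategory C → Prop) {X : DerivedCategory C}
    (h : IsZero X) : PowTors r W X := fun N _ β => ⟨0, h.eq_of_src _ _⟩

lemma powTors_of_distTriang (r : R) (W : DerivedCategory C → Prop) (T : Triangle (DerivedCategory C))
    (hT : T ∈ distTriang (DerivedCategory C)) (h₁ : PowTors r W T.obj₁) (h₃ : PowTors r W T.obj₃) :
    PowTors r W T.obj₂ := fun N hN β => by
  obtain ⟨n, hn⟩ := h₁ N hN (T.mor₁ ≫ β)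
  have h0 : T.mor₁ ≫ (r ^ n • β) = 0 := by rw [Linear.comp_smul, hn]
  obtain ⟨γ, hγ⟩ := Triangle.yoneda_exact₂ _ hT (r ^ n • β) h0
  obtain ⟨m, hm⟩ := h₃ N hN γ
  refine ⟨m + n, ?_⟩
  rw [pow_add, mul_smul, hγ, ← Linear.comp_smul, hm, comp_zero]

/-- the single-degree case -/
theorem powTors_single (r : R) (W : DerivedCategory C → Prop) (P : C) [Projective P] (k : ℤ)
    (h : ∀ N : DerivedCategory C, W N → ∀ H : C, Nonempty (H ≅ (homologyFunctor C k).obj N) →
      ∀ φ : P ⟶ H, ∃ n : ℕ, r ^ n • φ = 0) :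
    PowTors r W ((singleFunctor C k).obj P) := by
  intro N hN β
  let e : ((singleFunctor C k).obj P)⟦k⟧ ≅ (singleFunctor C 0).obj P :=
    ((singleFunctors C).shiftIso k 0 k (add_zero k)).app P
  obtain ⟨X, Y, ι, π, H, θ, eH, hsurj, hinj⟩ := exists_single_data P (N⟦k⟧)
  obtain ⟨f, hf⟩ := hsurj (e.inv ≫ β⟦k⟧')
  obtain ⟨n, hn⟩ := h N hN H ⟨eH ≪≫ ((homologyFunctor C 0).shiftIso k 0 k (add_zero k)).app N⟩
    ((singleFunctor C 0).preimage (f ≫ π ≫ θ.hom))
  refine ⟨n, ?_⟩
  have h1 : (singleFunctor C 0).map (r ^ n • (singleFunctor C 0).preimage (f ≫ π ≫ θ.hom)) = 0 := by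
    rw [hn, Functor.map_zero]
  rw [Functor.map_smul, Functor.map_preimage] at h1
  have h2 : (r ^ n • f) ≫ π = 0 := by
    rw [← cancel_mono θ.hom, zero_comp, Category.assoc, Linear.smul_comp]
    exact h1
  have h3 : r ^ n • f = 0 := hinj (by
    change (r ^ n • f) ≫ π = 0 ≫ π
    rw [h2, zero_comp])
  have h4 : r ^ n • (e.inv ≫ β⟦k⟧') = 0 := by
    have : (r ^ n • f) ≫ ι = r ^ n • (e.inv ≫ β⟦k⟧') := by
      rw [Linear.smul_comp]
      exact congrArg (r ^ n • ·) hf
    rw [← this, h3, zero_comp]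
  have h5 : (r ^ n • β)⟦k⟧' = 0 := by
    rw [Functor.map_smul, ← cancel_epi e.inv, Linear.comp_smul, h4, comp_zero]
  exact (shiftFunctor (DerivedCategory C) k).map_injective (by rw [h5, Functor.map_zero])

end abstract

section ring

attribute [local instance] HasDerivedCategory.standard

variable (R : Type u) [CommRing R]

/-- maps from a finite module to a power-torsion module are killed by a power -/
lemma exists_pow_smul_hom_eq_zero (r : R) (P H : ModuleCat.{u} R) [Module.Finite R P]
    (hH : ∀ x : H, ∃ n : ℕ, r ^ n • x = 0) (φ : P ⟶ H) : ∃ n : ℕ, r ^ n • φ = 0 := by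
  obtain ⟨m, s, hs⟩ := Module.Finite.exists_fin (R := R) (M := P)
  choose n hn using fun i : Fin m => hH (φ.hom (s i))
  refine ⟨Finset.univ.sup n, ?_⟩
  ext x
  have h1 : (r ^ Finset.univ.sup n • φ.hom) = 0 := by
    apply LinearMap.ext_on_range hs
    intro i
    have hle : n i ≤ Finset.univ.sup n := Finset.le_sup (Finset.mem_univ i)
    obtain ⟨d, hd⟩ := Nat.exists_eq_add_of_le hle
    rw [LinearMap.smul_apply, LinearMap.zero_apply, hd, pow_add, mul_comm, mul_smul, hn i,
      smul_zero]
  have h2 : (r ^ Finset.univ.sup n • φ).hom = r ^ Finset.univ.sup n • φ.hom := rfl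
  rw [h2, h1]
  rfl

/-- the condition on the target: `r`-power torsion cohomology modules -/
def TorsCoh (r : R) (N : Dual.D R) : Prop :=
  ∀ (i : ℤ) (x : (homologyFunctor (ModuleCat.{u} R) i).obj N), ∃ n : ℕ, r ^ n • x = 0

theorem exists_pow_smul_eq_zero_of_isPerfect (r : R) (M : Dual.D R) (hM : DRing.IsPerfect R M)
    (N : Dual.D R) (hN : TorsCoh R r N) (β : M ⟶ N) : ∃ n : ℕ, r ^ n • β = 0 := by
  obtain ⟨E, a, b, hE, hP, ⟨e⟩⟩ := hM
  suffices H : PowTors r (TorsCoh R r) (Q.obj E) from powTors_of_iso r _ e H N hN β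
  refine Groth.Agent.Lib.H6xDevissage.devissage
    (fun A : ModuleCat.{u} R => Module.Finite R A ∧ Module.Projective R A) ?_
    (PowTors r (TorsCoh R r)) (fun X Y e h => powTors_of_iso r _ e h)
    (fun X h => powTors_of_isZero r _ h)
    (fun T hT h1 h3 => powTors_of_distTriang r _ T hT h1 h3) ?_ E a b hE (fun i _ _ => hP i)
  · rintro A B e ⟨h1, h2⟩
    exact ⟨Module.Finite.equiv e.toLinearEquiv, Module.Projective.of_equiv e.toLinearEquiv⟩
  · rintro A k ⟨h1, h2⟩
    haveI : Projective A := ModuleCat.projective_of_categoryTheory_projective A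
    refine powTors_single r _ A k (fun N hN H ⟨eH⟩ φ => ?_)
    refine exists_pow_smul_hom_eq_zero R r A H (fun x => ?_) φ
    obtain ⟨n, hn⟩ := hN k (eH.hom.hom x)
    refine ⟨n, ?_⟩
    have hinj : Function.Injective eH.hom.hom :=
      (ModuleCat.mono_iff_injective eH.hom).1 inferInstance
    apply hinj
    rw [map_smul, hn, map_zero]

end ring

end Groth.Agent.Lib.H6xPowKill
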