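import Mathlib
import Groth.Agent.Lib.H6xPowKillA
import Groth.Agent.Lib.H6xPerfVanC
import Groth.Agent.Lib.H6xSuppPushC
import Groth.Prelude.Def_KLin
set_option backward.isDefEq.respectTransparency.types false

/-!
# Linear structures: restriction to opens, the adjunction `j^* ⊣ Rj_*`, `tilde` (helper6; S7276)
-/

set_option autoImplicit false
set_option linter.style.haveILetI false
set_option linter.unusedVariables false
set_option linter.unusedSectionVars false
universe u
open CategoryTheory CategoryTheory.Limits AlgebraicGeometry TopologicalSpace Opposite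

attribute [local instance] HasDerivedCategory.standard

namespace Groth.Agent.Lib.H6xPowKill

section restrict

variable {A : Type u} [CommRing A] {U X : Scheme.{u}} [U.Over (Spec (CommRingCat.of A))]
  [X.Over (Spec (CommRingCat.of A))] (j : U ⟶ X) [IsOpenImmersion j]
  [j.IsOver (Spec (CommRingCat.of A))]

/-- restriction of the image of `a` to an open of `U` -/
lemma appIso_inv_res_toGlobal (a : A) (V : U.Opens) :
    (j.appIso V).inv.hom (U.presheaf.map (homOfLE (le_top : V ≤ ⊤)).op
      (Coh.toGlobal (U ↘ Spec (CommRingCat.of A)) a)) =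
    X.presheaf.map (homOfLE (le_top : j ''ᵁ V ≤ ⊤)).op
      (Coh.toGlobal (X ↘ Spec (CommRingCat.of A)) a) := by
  have h1 : Coh.toGlobal (U ↘ Spec (CommRingCat.of A)) a =
      j.appTop (Coh.toGlobal (X ↘ Spec (CommRingCat.of A)) a) := by
    rw [← KLin.toGlobal_comp j (X ↘ Spec (CommRingCat.of A)) a, comp_over j (Spec (CommRingCat.of A))]
  rw [h1]
  have h2 := j.appLE_appIso_inv (U := ⊤) (V := V) le_top
  have h3 := congrArg (fun φ => φ.hom (Coh.toGlobal (X ↘ Spec (CommRingCat.of A)) a)) h2
  simp only [CommRingCat.hom_comp, RingHom.coe_comp, Function.comp_apply] at h3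
  exact h3

/-- restriction to an open subscheme over `Spec A` is `A`-linear -/
instance linear_restrictFunctor : (Scheme.Modules.restrictFunctor j).Linear A := by
  refine (Functor.linear_iff A _).mpr fun M a => ?_
  refine Scheme.Modules.hom_ext _ _ fun V => ?_
  ext m
  change ((a • 𝟙 M).app (j ''ᵁ V)) m = (a • 𝟙 ((Scheme.Modules.restrictFunctor j).obj M)).app V m
  rw [KLin.smul_app_apply, KLin.smul_app_apply, Scheme.Modules.Hom.id_app,
    Scheme.Modules.Hom.id_app, ← appIso_inv_res_toGlobal j a V]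
  rfl

end restrict

section adj

variable {A : Type u} [CommRing A] {U X : Scheme.{u}} [U.Over (Spec (CommRingCat.of A))]
  [X.Over (Spec (CommRingCat.of A))] (j : U ⟶ X) [IsOpenImmersion j]
  [j.IsOver (Spec (CommRingCat.of A))]

instance linear_restrictD : (DCoh.restrictD j).Linear A := inferInstance

open Groth.Agent.Lib.H6xSuppPush in
/-- the adjunction `j^* ⊣ Rj_*` is `A`-linear -/
lemma homEquiv_symm_smul (a : A) {K : DCoh.D X} {L : DCoh.D U} (h : K ⟶ (DCoh.Rpush j).obj L) :
    ((derAdj j).homEquiv K L).symm (a • h) = a • ((derAdj j).homEquiv K L).symm h := by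
  rw [Adjunction.homEquiv_counit, Adjunction.homEquiv_counit, Functor.map_smul, Linear.smul_comp]

end adj

section general
universe v₁ v₂ u₁ u₂ w₁ w₂
variable {C₁ : Type u₁} [Category.{v₁} C₁] [Abelian C₁] [HasDerivedCategory.{w₁} C₁]
  {C₂ : Type u₂} [Category.{v₂} C₂] [Abelian C₂] [HasDerivedCategory.{w₂} C₂]
  (F : C₁ ⥤ C₂) [F.Additive] [PreservesFiniteLimits F] [PreservesFiniteColimits F]
  {R₁ R₂ : Type*} [Ring R₁] [Ring R₂] [Linear R₁ C₁] [Linear R₂ C₂]

/-- semilinearity passes to derived categories -/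
lemma mapDerivedCategory_map_smul_id (r : R₁) (a : R₂)
    (h : ∀ X : C₁, F.map (r • 𝟙 X) = a • 𝟙 (F.obj X)) (N : DerivedCategory C₁) :
    F.mapDerivedCategory.map (r • 𝟙 N) = a • 𝟙 (F.mapDerivedCategory.obj N) := by
  obtain ⟨K, ⟨e⟩⟩ : ∃ K : CochainComplex C₁ ℤ, Nonempty (N ≅ DerivedCategory.Q.obj K) :=
    ⟨_, ⟨(DerivedCategory.Q.objObjPreimageIso N).symm⟩⟩
  have h1 : r • 𝟙 N = e.hom ≫ DerivedCategory.Q.map (r • 𝟙 K) ≫ e.inv := by
    rw [Functor.map_smul, CategoryTheory.Functor.map_id, Linear.smul_comp, Linear.comp_smul,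
      Category.id_comp, e.hom_inv_id]
  have h2 : (F.mapHomologicalComplex (ComplexShape.up ℤ)).map (r • 𝟙 K) =
      a • 𝟙 ((F.mapHomologicalComplex (ComplexShape.up ℤ)).obj K) := by
    ext i
    exact h (K.X i)
  have h3 := F.mapDerivedCategoryFactors_hom_naturality (r • 𝟙 K)
  have h4 : F.mapDerivedCategory.map (DerivedCategory.Q.map (r • 𝟙 K)) =
      a • 𝟙 _ := by
    rw [← cancel_mono (F.mapDerivedCategoryFactors.hom.app K), h3, h2, Functor.map_smul,
      CategoryTheory.Functor.map_id, Linear.smul_comp, Linear.comp_smul, Category.id_comp]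
    erw [Category.comp_id]
  rw [h1, Functor.map_comp, Functor.map_comp, h4, Linear.smul_comp, Linear.comp_smul,
    Category.id_comp, ← Functor.map_comp, e.hom_inv_id, CategoryTheory.Functor.map_id]

end general

section tilde

variable (R : CommRingCat.{u})

lemma Γ_map_smulModΓ (r : R) (M : (Spec (CommRingCat.of R)).Modules) :
    (moduleSpecΓFunctor (R := R)).map (Formal.smulModΓ M ((Scheme.ΓSpecIso R).inv r)) =
      r • 𝟙 _ := by
  ext x
  rfl

/-- `tilde` turns multiplication by `r` into multiplication by the global function `r` -/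
lemma tilde_map_smul_id (r : R) (N : ModuleCat.{u} R) :
    (tilde.functor R).map (r • 𝟙 N) =
      Formal.smulModΓ ((tilde.functor R).obj N) ((Scheme.ΓSpecIso R).inv r) := by
  apply ((tilde.adjunction (R := R)).homEquiv N ((tilde.functor R).obj N)).injective
  rw [Adjunction.homEquiv_unit, Adjunction.homEquiv_unit, Γ_map_smulModΓ]
  have h := (tilde.adjunction (R := R)).unit.naturality (r • 𝟙 N)
  rw [Functor.comp_map] at h
  rw [← h, Functor.id_map, Linear.smul_comp, Linear.comp_smul]
  erw [Category.id_comp]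

/-- `tildeD` is semilinear along `A → Γ(Spec R, O) ≅ R` -/
lemma tildeD_map_smul_id {A : Type u} [CommRing A]
    [(Spec (CommRingCat.of R)).Over (Spec (CommRingCat.of A))]
    [PreservesFiniteLimits (tilde.functor R)] (a : A) (r : R)
    (hr : (Scheme.ΓSpecIso R).inv r =
      Coh.toGlobal ((Spec (CommRingCat.of R)) ↘ Spec (CommRingCat.of A)) a)
    (N : DerivedCategory (ModuleCat.{u} R)) :
    (DCoh.tildeD R).map (r • 𝟙 N) = a • 𝟙 ((DCoh.tildeD R).obj N) := by
  refine mapDerivedCategory_map_smul_id (tilde.functor R) r a (fun X => ?_) N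
  rw [tilde_map_smul_id, hr, KLin.smul_id]
  rfl

/-- a module whose sheaf is supported on `V(r)` is `r`-power torsion -/
lemma exists_pow_smul_eq_zero_of_support (r : R) (H : ModuleCat.{u} R)
    (h : CohB1.support ((tilde.functor R).obj H) ⊆
      (Spec R).zeroLocus (U := ⊤) {(Scheme.ΓSpecIso R).inv r}) (x : H) :
    ∃ n : ℕ, r ^ n • x = 0 := by
  have hrad : r ∈ (Ideal.torsionOf R H x).radical := by
    rw [Ideal.radical_eq_sInf, Ideal.mem_sInf]
    rintro J ⟨hIJ, hJ⟩
    by_contra hrJ
    obtain ⟨p, hpJ⟩ : ∃ p : PrimeSpectrum.Top R, p.asIdeal = J :=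
      ⟨(⟨J, hJ⟩ : PrimeSpectrum R), rfl⟩
    subst hpJ
    have hp : p ∉ CohB1.support ((tilde.functor R).obj H) := by
      intro hp
      have := h hp
      rw [Scheme.zeroLocus_singleton, basicOpen_eq_of_affine] at this
      exact this hrJ
    have hsub : Subsingleton ((tilde H).presheaf.stalk p) := not_not.1 hp
    have h0 : (tilde.toStalk H p).hom x = (tilde.toStalk H p).hom 0 := Subsingleton.elim _ _
    obtain ⟨s, hs⟩ := (IsLocalizedModule.eq_iff_exists p.asIdeal.primeCompl
      (tilde.toStalk H p).hom).1 h0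
    rw [smul_zero] at hs
    exact s.2 (hIJ ((Ideal.mem_torsionOf_iff _ _).2 hs))
  obtain ⟨n, hn⟩ := hrad
  exact ⟨n, (Ideal.mem_torsionOf_iff _ _).1 hn⟩

end tilde

end Groth.Agent.Lib.H6xPowKill
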