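import Mathlib
import Groth.Agent.Lib.H6xPowKillB
import Groth.Agent.Lib.H6xCntHomB
set_option backward.isDefEq.respectTransparency.types false

/-!
# A power of `a` kills maps from perfect objects to objects supported on `V(a)` (helper6; S7276)
-/

set_option autoImplicit false
set_option linter.style.haveILetI false
set_option linter.unusedVariables false
set_option linter.unusedSectionVars false
universe u
open CategoryTheory CategoryTheory.Limits AlgebraicGeometry TopologicalSpace Opposite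

attribute [local instance] HasDerivedCategory.standard

namespace Groth.Agent.Lib.H6xPowKill

open DerivedCategory Pretriangulated Groth.Agent.Lib.H6xPerf23 Groth.Agent.Lib.H6xQcqsInd
  Groth.Agent.Lib.H6xPerfVan Groth.Agent.Lib.H6xMV

/-- the property of a scheme -/
def PowP (Y : Scheme.{u}) : Prop :=
  ∀ (A : Type u) [CommRing A] [Y.Over (Spec (CommRingCat.of A))] (a : A) (E E' : DCoh.D Y),
    DCoh.IsPerfect E → DCoh.IsQCohD E' →
    (∀ i : ℤ, CohB1.support (DCoh.HD E' i) ⊆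
      (Y.zeroLocus (U := ⊤) {Coh.toGlobal (Y ↘ Spec (CommRingCat.of A)) a} : Set Y)) →
    ∀ α : E ⟶ E', ∃ n : ℕ, a ^ n • α = 0

theorem powP_spec (R : CommRingCat.{u}) : PowP (Spec R) := by
  haveI := (Groth.Agent.S9498.aux R).1
  intro A _ _ a E E' hE hE' hsupp α
  obtain ⟨hfull, hfaith, hess⟩ := Groth.Agent.Lib.H6xTilde.main R
  haveI := hfull
  haveI := hfaith
  obtain ⟨ME, ⟨eE⟩⟩ := (hess E).1 (isQCohD_of_isPerfect E hE)
  obtain ⟨MK, ⟨eK⟩⟩ := (hess E').1 hE'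
  have hME : DRing.IsPerfect R ME :=
    Groth.Agent.Lib.H6xPerfAff.isPerfect_of_isPerfect_tildeD R ME
      (Groth.Agent.Lib.H6xPerf23.isPerfect_of_iso eE.symm hE)
  obtain ⟨r, hr⟩ : ∃ r : R, (Scheme.ΓSpecIso R).inv r =
      Coh.toGlobal ((Spec R) ↘ Spec (CommRingCat.of A)) a :=
    ⟨(Scheme.ΓSpecIso R).hom (Coh.toGlobal ((Spec R) ↘ Spec (CommRingCat.of A)) a),
      Iso.hom_inv_id_apply (Scheme.ΓSpecIso R) _⟩
  have hMK : TorsCoh R r MK := by
    intro i x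
    obtain ⟨e2⟩ := Groth.Agent.Lib.H6xSuppPush.nonempty_homology_mapDerivedCategory_iso
      (tilde.functor R) MK i
    refine exists_pow_smul_eq_zero_of_support R r _ ?_ x
    rw [← Groth.Agent.Lib.H6xSuppPush.support_eq_of_iso
      ((homologyFunctor _ i).mapIso eK.symm ≪≫ e2), hr]
    exact hsupp i
  obtain ⟨β, hβ⟩ : ∃ β : ME ⟶ MK, (DCoh.tildeD R).map β = eE.hom ≫ α ≫ eK.inv :=
    ⟨(DCoh.tildeD R).preimage (eE.hom ≫ α ≫ eK.inv), Functor.map_preimage _ _⟩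
  obtain ⟨n, hn⟩ := exists_pow_smul_eq_zero_of_isPerfect R r ME hME MK hMK β
  refine ⟨n, ?_⟩
  have hrn : (Scheme.ΓSpecIso R).inv (r ^ n) =
      Coh.toGlobal ((Spec R) ↘ Spec (CommRingCat.of A)) (a ^ n) := by
    rw [map_pow, map_pow, hr]
    rfl
  have h1 : (DCoh.tildeD R).map (r ^ n • β) = a ^ n • (eE.hom ≫ α ≫ eK.inv) := by
    rw [← Category.comp_id β, ← Linear.comp_smul, Functor.map_comp, hβ,
      tildeD_map_smul_id R (a ^ n) (r ^ n) hrn, Linear.comp_smul, Category.comp_id]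
  rw [hn, Functor.map_zero] at h1
  have h3 : eE.hom ≫ (a ^ n • α) ≫ eK.inv = 0 := by
    rw [Linear.smul_comp, Linear.comp_smul]
    exact h1.symm
  have h2 := (cancel_epi eE.hom).1 (h3.trans comp_zero.symm)
  exact (cancel_mono eK.inv).1 (h2.trans zero_comp.symm)


section mv

variable {A : Type u} [CommRing A] {U X : Scheme.{u}} [X.Over (Spec (CommRingCat.of A))]
  (j : U ⟶ X) [IsOpenImmersion j]

open Groth.Agent.Lib.H6xSuppPush in
/-- maps to `Rj_*(E'|_U)` are killed by a power of `a` when `U` has the property -/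
lemma pow_kill_Rpush (hU : PowP U) (a : A) (E E' : DCoh.D X) (hE : DCoh.IsPerfect E)
    (hE' : DCoh.IsQCohD E')
    (hsupp : ∀ i : ℤ, CohB1.support (DCoh.HD E' i) ⊆
      (X.zeroLocus (U := ⊤) {Coh.toGlobal (X ↘ Spec (CommRingCat.of A)) a} : Set X))
    (h : E ⟶ (DCoh.Rpush j).obj ((DCoh.restrictD j).obj E')) : ∃ n : ℕ, a ^ n • h = 0 := by
  letI : U.Over (Spec (CommRingCat.of A)) := ⟨j ≫ X ↘ Spec (CommRingCat.of A)⟩
  haveI : j.IsOver (Spec (CommRingCat.of A)) := ⟨rfl⟩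
  have hs : ∀ i : ℤ, CohB1.support (DCoh.HD ((DCoh.restrictD j).obj E') i) ⊆
      (U.zeroLocus (U := ⊤) {Coh.toGlobal (U ↘ Spec (CommRingCat.of A)) a} : Set U) := by
    intro i t ht
    rw [Groth.Agent.Lib.H6xSuppPush.mem_support_HD_restrictD_iff] at ht
    have h1 := hsupp i ht
    have h1' := (X.mem_zeroLocus_iff _ _).1 h1 _ (Set.mem_singleton _)
    refine (U.mem_zeroLocus_iff _ _).2 (fun f hf h2 => ?_)
    have hf' : f = Coh.toGlobal (U ↘ Spec (CommRingCat.of A)) a := hf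
    subst hf'
    apply h1'
    have h3 : Coh.toGlobal (U ↘ Spec (CommRingCat.of A)) a =
        j.appTop (Coh.toGlobal (X ↘ Spec (CommRingCat.of A)) a) := rfl
    rw [h3, ← Scheme.preimage_basicOpen_top] at h2
    exact h2
  obtain ⟨n, hn⟩ := hU A a _ _ (isPerfect_restrictD j E hE)
    (Groth.Agent.Lib.H6xRpushQc.isQCohD_restrictD j E' hE') hs
    (((derAdj j).homEquiv _ _).symm h)
  refine ⟨n, ?_⟩
  apply ((derAdj j).homEquiv _ _).symm.injective
  rw [homEquiv_symm_smul, hn]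
  simp

end mv


theorem powP_mv : MVPatch PowP := by
  intro X U₁ U₂ W j₁ j₂ k i₁ i₂ _ _ _ _ _ h₁ h₂ hcov hint g₁ g₂ g₃ A _ _ a E E' hE hE' hsupp α
  obtain ⟨ta, tb, tc, hT⟩ := exists_triangle_Rpush j₁ j₂ k i₁ i₂ h₁ h₂ hcov hint E'
  have hT' := inv_rot_of_distTriang _ hT
  obtain ⟨n₁, hn₁⟩ := pow_kill_Rpush j₁ g₁ a E E' hE hE' hsupp ((α ≫ ta) ≫ biprod.fst)
  obtain ⟨n₂, hn₂⟩ := pow_kill_Rpush j₂ g₂ a E E' hE hE' hsupp ((α ≫ ta) ≫ biprod.snd)
  have h0 : (a ^ (n₁ + n₂) • α) ≫ (Triangle.mk ta tb tc).invRotate.mor₂ = 0 := by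
    change (a ^ (n₁ + n₂) • α) ≫ ta = 0
    rw [Linear.smul_comp]
    apply biprod.hom_ext
    · rw [Linear.smul_comp, zero_comp, pow_add, mul_comm, mul_smul, hn₁, smul_zero]
    · rw [Linear.smul_comp, zero_comp, pow_add, mul_smul, hn₂, smul_zero]
  obtain ⟨g, hg⟩ := Triangle.coyoneda_exact₂ _ hT' (a ^ (n₁ + n₂) • α) h0
  obtain ⟨m, hm⟩ := pow_kill_Rpush k g₃ a (E⟦(1 : ℤ)⟧) E' (isPerfect_shift E hE 1) hE' hsupp
    (g⟦(1 : ℤ)⟧' ≫ (shiftFunctorCompIsoId (DCoh.D X) (-1 : ℤ) 1 (by lia)).hom.app _)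
  have hm' : a ^ m • g = 0 := by
    rw [← Linear.smul_comp, ← Functor.map_smul] at hm
    have h1 := (cancel_mono ((shiftFunctorCompIsoId (DCoh.D X) (-1 : ℤ) 1 (by lia)).hom.app
      ((DCoh.Rpush k).obj ((DCoh.restrictD k).obj E')))).1 (hm.trans zero_comp.symm)
    exact (shiftFunctor (DCoh.D X) (1 : ℤ)).map_injective (h1.trans (Functor.map_zero _ _ _).symm)
  refine ⟨m + (n₁ + n₂), ?_⟩
  rw [pow_add, mul_smul, hg]
  exact (Linear.smul_comp _ _ _ (a ^ m) g (Triangle.mk ta tb tc).invRotate.mor₁).symm.trans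
    (by rw [hm', zero_comp]; rfl)

theorem powP_of_qcqs (X : Scheme.{u}) [CompactSpace X] [QuasiSeparatedSpace X] : PowP X :=
  qcqs_induction powP_spec powP_mv X

theorem main_S7276 (A : Type u) [CommRing A] (X : Scheme.{u})
    [X.Over (Spec (CommRingCat.of A))] [CompactSpace ↥X] [QuasiSeparatedSpace ↥X] (a : A)
    {E E' : DCoh.D X}
    (hE : DCoh.IsPerfect E) (hE'q : DCoh.IsQCohD E')
    (hsupp : ∀ i : ℤ, CohB1.support (DCoh.HD E' i) ⊆
      (X.zeroLocus (U := ⊤) {Coh.toGlobal (X ↘ Spec (CommRingCat.of A)) a} : Set X))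
    (α : E ⟶ E') : ∃ n : ℕ, (a ^ n) • α = 0 :=
  powP_of_qcqs X A a E E' hE hE'q hsupp α

end Groth.Agent.Lib.H6xPowKill
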