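import Mathlib
import Groth.Agent.Lib.H6xGorF
import Groth.Agent.Lib.H6xLocF
import Groth.Agent.Lib.H6xBidJ
import Groth.Prelude.Def_DualSh
set_option backward.isDefEq.respectTransparency.types false

/-!
# `φ^!` of a dualizing complex is dualizing (helper6)
-/

set_option autoImplicit false
set_option linter.style.haveILetI false
universe u

namespace Groth.Agent.Lib.H6xShr

open CategoryTheory CategoryTheory.Limits DerivedCategory
attribute [local instance] HasDerivedCategory.standard

theorem isDualizing_shriekVia (R A : Type u) [CommRing R] [CommRing A] [IsNoetherianRing R]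
    [IsNoetherianRing A] [Algebra R A] (n : ℕ) (ψ : MvPolynomial (Fin n) R →ₐ[R] A)
    (hψ : Function.Surjective ψ)
    [DRing.HasLBaseChange (algebraMap R (MvPolynomial (Fin n) R))]
    (Rψ : Dual.D (MvPolynomial (Fin n) R) ⥤ Dual.D A)
    (adj : DRing.restrictD ψ.toRingHom ⊣ Rψ) (ω : Dual.D R) (hω : Dual.IsDualizing R ω) :
    Dual.IsDualizing A (Dual2.shriekVia n Rψ ω) := by
  haveI : Algebra.Smooth R (MvPolynomial (Fin n) R) := {}
  have h1 : Dual.IsDualizing (MvPolynomial (Fin n) R)
      ((DRing.LBaseChange (algebraMap R (MvPolynomial (Fin n) R))).obj ω) :=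
    Groth.Agent.Lib.H6xGor.isDualizing_LBaseChange_of_smooth ω hω
  letI : Algebra (MvPolynomial (Fin n) R) A := ψ.toRingHom.toAlgebra
  haveI : Module.Finite (MvPolynomial (Fin n) R) A :=
    Module.Finite.of_surjective (Algebra.linearMap (MvPolynomial (Fin n) R) A) hψ
  have h2 : Dual.IsDualizing A (Rψ.obj
      ((DRing.LBaseChange (algebraMap R (MvPolynomial (Fin n) R))).obj ω)) :=
    Groth.Agent.Lib.H6xBid.isDualizing_rightAdjoint (MvPolynomial (Fin n) R) A Rψ adj _ h1
  exact Groth.Agent.Lib.H6xLoc.isDualizing_shift _ h2 (n : ℤ)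

end Groth.Agent.Lib.H6xShr
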