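import Mathlib
import Groth.Agent.Lib.H6xShrA
import Groth.Agent.Lib.H6xCoextB
import Groth.Agent.Lib.H6xPCDescB
import Groth.Agent.Lib.H6xLocH
set_option backward.isDefEq.respectTransparency.types false

/-!
# `φ^!` preserves bounded-below complexes and coherence (helper6)
-/

set_option autoImplicit false
set_option linter.style.haveILetI false
universe u

namespace Groth.Agent.Lib.H6xShr

open CategoryTheory CategoryTheory.Limits DerivedCategory
open Groth.Agent.Lib.Helper1.Extend Groth.Agent.Lib.H6xCoext Groth.Agent.Lib.H6xLoc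
  Groth.Agent.Lib.H6xBid Groth.Agent.S14388
attribute [local instance] HasDerivedCategory.standard

section RA

variable {P A : Type u} [CommRing P] [CommRing A] [Algebra P A]
  (Rψ : Dual.D P ⥤ Dual.D A) (adj : DRing.restrictD (algebraMap P A) ⊣ Rψ)

include adj in
/-- the right adjoint of restriction of scalars is left t-exact -/
theorem subsingleton_HD_rightAdjoint (Y : Dual.D P) (a : ℤ)
    (hY : ∀ i : ℤ, i < a → Subsingleton (Dual.HD P Y i)) (i : ℤ) (hi : i < a) :
    Subsingleton (Dual.HD A (Rψ.obj Y) i) := by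
  obtain ⟨e⟩ := nonempty_hom_linearEquiv_HD (Rψ.obj Y) i
  have hGE : Y.IsGE a := by
    rw [DerivedCategory.isGE_iff]
    intro j hj
    haveI := hY j hj
    exact ModuleCat.isZero_of_subsingleton _
  haveI : ((Dual.inD P A)⟦-i⟧).IsLE i :=
    tt.isLE_shift (Dual.inD P A) 0 (-i) i (by omega)
  have h1 : Subsingleton ((Dual.inD P A)⟦-i⟧ ⟶ Y) :=
    ⟨fun f g => by
      rw [tt.zero_of_isLE_of_isGE f i a hi inferInstance hGE,
        tt.zero_of_isLE_of_isGE g i a hi inferInstance hGE]⟩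
  haveI : Subsingleton (Dual.inD A A ⟶ (Rψ.obj Y)⟦i⟧) := (ψ Rψ adj Y i).subsingleton
  exact e.symm.toEquiv.subsingleton

end RA

/-- **S1783** -/
theorem shriekVia_bounded_below_and_coherent (R A : Type u) [CommRing R] [CommRing A]
    [IsNoetherianRing R] [IsNoetherianRing A] [Algebra R A] (n : ℕ)
    (ψ : MvPolynomial (Fin n) R →ₐ[R] A) (hψ : Function.Surjective ψ)
    [DRing.HasLBaseChange (algebraMap R (MvPolynomial (Fin n) R))]
    (Rψ : Dual.D (MvPolynomial (Fin n) R) ⥤ Dual.D A)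
    (adj : DRing.restrictD ψ.toRingHom ⊣ Rψ) (K : Dual.D R) (a : ℤ)
    (hKa : ∀ i : ℤ, i < a → Subsingleton (Dual.HD R K i)) :
    (∃ b : ℤ, ∀ i : ℤ, i < b → Subsingleton (Dual.HD A (Dual2.shriekVia n Rψ K) i)) ∧
      ((∀ i : ℤ, Module.Finite R (Dual.HD R K i)) →
        ∀ i : ℤ, Module.Finite A (Dual.HD A (Dual2.shriekVia n Rψ K) i)) := by
  letI : Algebra (MvPolynomial (Fin n) R) A := ψ.toRingHom.toAlgebra
  haveI : Module.Finite (MvPolynomial (Fin n) R) A :=
    Module.Finite.of_surjective (Algebra.linearMap (MvPolynomial (Fin n) R) A) hψ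
  obtain ⟨e0⟩ := Groth.Agent.Lib.H6xPCDesc.nonempty_lbc_iso_extD
    (A := R) (B := MvPolynomial (Fin n) R) K
  set Y : Dual.D (MvPolynomial (Fin n) R) :=
    (DRing.LBaseChange (algebraMap R (MvPolynomial (Fin n) R))).obj K with hY
  -- cohomology of `Y`
  have eY : ∀ i : ℤ, Dual.HD (MvPolynomial (Fin n) R) Y i ≃ₗ[MvPolynomial (Fin n) R]
      TensorProduct R (MvPolynomial (Fin n) R) (Dual.HD R K i) := fun i =>
    ((DerivedCategory.homologyFunctor (ModuleCat.{u} (MvPolynomial (Fin n) R)) i).mapIso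
      e0).toLinearEquiv ≪≫ₗ
    (homologyMapDIso (ext R (MvPolynomial (Fin n) R)) K i).toLinearEquiv ≪≫ₗ
    extEquiv (A := R) (B := MvPolynomial (Fin n) R) (Dual.HD R K i)
  have hYa : ∀ i : ℤ, i < a → Subsingleton (Dual.HD (MvPolynomial (Fin n) R) Y i) := by
    intro i hi
    haveI := hKa i hi
    exact (eY i).toEquiv.subsingleton
  have eS : ∀ i : ℤ, Dual.HD A (Dual2.shriekVia n Rψ K) i ≃ₗ[A]
      Dual.HD A (Rψ.obj Y) ((n : ℤ) + i) := fun i =>
    HDShiftEquiv (Rψ.obj Y) (n : ℤ) i ((n : ℤ) + i) rfl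
  refine ⟨⟨a - n, fun i hi => ?_⟩, fun hfin i => ?_⟩
  · haveI := subsingleton_HD_rightAdjoint Rψ adj Y a hYa ((n : ℤ) + i) (by omega)
    exact (eS i).toEquiv.subsingleton
  · have hYfin : ∀ j : ℤ, Module.Finite (MvPolynomial (Fin n) R)
        (Dual.HD (MvPolynomial (Fin n) R) Y j) := by
      intro j
      haveI := hfin j
      exact Module.Finite.equiv (eY j).symm
    haveI := finite_HD_rightAdjoint Rψ adj Y ((n : ℤ) + i) a hYa hYfin
    exact Module.Finite.equiv (eS i).symm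

end Groth.Agent.Lib.H6xShr
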