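import Mathlib
import Groth.Agent.Lib.H6xShkH
import Groth.Agent.Lib.H6xShrB
import Groth.Agent.S6940
import Groth.Agent.S6942
set_option backward.isDefEq.respectTransparency.types false

/-!
# Flat base change for `RHom_P(B, -)` (helper6)

For a cocartesian square of rings `B' = B ⊗_P P'` with `P → P'` flat, `B` pseudo-coherent as a
`P`-module, right adjoints `G`, `G'` of restriction of scalars along `P → B`, `P' → B'`, and `L`
bounded below in `D(P)`: `G(L) ⊗_B B' ≅ G'(L ⊗_P P')` (`isIso_bcα`,
`nonempty_extD_rightAdjoint_iso`).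
-/

set_option autoImplicit false
set_option linter.style.haveILetI false
universe u

namespace Groth.Agent.Lib.H6xShk

open CategoryTheory CategoryTheory.Limits DerivedCategory TensorProduct
open Groth.Agent.Lib.Helper1.Extend Groth.Agent.Lib.H6xFBC
attribute [local instance] HasDerivedCategory.standard

section Sg

variable (B B' : Type u) [CommRing B] [CommRing B'] [Algebra B B'] [Module.Flat B B']

/-- `B[-n] ⊗_B B' ≅ B'[-n]` -/
noncomputable def extSgIso (n : ℤ) : (extD B B').obj (Q.obj (Sg B n)) ≅ Q.obj (Sg B' n) :=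
  mapQIso (ext B B') (Sg B n) ≪≫ Q.mapIso
    ((HomologicalComplex.singleMapHomologicalComplex (ext B B') (ComplexShape.up ℤ) n).app
        (ModuleCat.of B B) ≪≫
      (HomologicalComplex.single (ModuleCat.{u} B') (ComplexShape.up ℤ) n).mapIso
        (extIso (A := B) (B := B') B ≪≫
          (TensorProduct.AlgebraTensorModule.rid B B' B').toModuleIso))

/-- `B[-n]` is pseudo-coherent -/
lemma isPseudoCoherent'_sg (n : ℤ) : DRing.IsPseudoCoherent' B (Q.obj (Sg B n)) := by
  refine ⟨Sg B n, n, ?_, ?_, ⟨Iso.refl _⟩⟩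
  · intro i hi
    exact HomologicalComplex.isZero_single_obj_X (ComplexShape.up ℤ) n (ModuleCat.of B B) i
      (by omega)
  · intro i
    by_cases h : i = n
    · subst h
      let e : (Sg B i).X i ≅ ModuleCat.of B B :=
        HomologicalComplex.singleObjXSelf (ComplexShape.up ℤ) i (ModuleCat.of B B)
      exact ⟨Module.Finite.equiv e.toLinearEquiv.symm, Module.Free.of_equiv e.toLinearEquiv.symm⟩
    · have hz : IsZero ((Sg B n).X i) :=
        HomologicalComplex.isZero_single_obj_X (ComplexShape.up ℤ) n (ModuleCat.of B B) i h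
      haveI : Subsingleton ((Sg B n).X i) := ModuleCat.subsingleton_of_isZero hz
      exact ⟨inferInstance, inferInstance⟩

end Sg

section C3

variable (P P' B B' : Type u) [CommRing P] [CommRing P'] [CommRing B] [CommRing B']
  [Algebra P P'] [Algebra P B] [Algebra B B'] [Algebra P' B'] [Algebra P B']
  [IsScalarTower P P' B'] [IsScalarTower P B B'] [Algebra.IsPushout P P' B B']
  [Module.Flat P P'] [Module.Flat B B']
  (G : Dual.D P ⥤ Dual.D B) (adj : DRing.restrictD (algebraMap P B) ⊣ G)
  (G' : Dual.D P' ⥤ Dual.D B') (adj' : DRing.restrictD (algebraMap P' B') ⊣ G')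
  (L : Dual.D P)

/-- the base change map `RHom_P(B, L) ⊗_B B' ⟶ RHom_{P'}(B', L ⊗_P P')` -/
noncomputable def bcα : (extD B B').obj (G.obj L) ⟶ G'.obj ((extD P P').obj L) :=
  adj'.homEquiv _ _ ((bcRestrictIso P P' B B').inv.app (G.obj L) ≫
    (extD P P').map (adj.counit.app L))

/-- **flat base change for `RHom_P(B, -)`**: the base change map is an isomorphism for `B`
pseudo-coherent over `P` and `L` bounded below -/
theorem isIso_bcα (hB : DRing.IsPseudoCoherentModule' P B)
    (hL : ∃ a : ℤ, ∀ i : ℤ, i < a → Subsingleton (Dual.HD P L i)) :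
    IsIso (bcα P P' B B' G adj G' adj' L) := by
  apply isIso_of_bijective_sg
  intro n
  let β := bcRestrictIso P P' B B'
  let S : Dual.D B := Q.obj (Sg B n)
  let T : Dual.D P := (DRing.restrictD (algebraMap P B)).obj S
  have hS : DRing.IsPseudoCoherent' B S := isPseudoCoherent'_sg B n
  have hT : DRing.IsPseudoCoherent' P T := ((Groth.Agent.S6940.result hB S 0).2).1 hS
  obtain ⟨a, ha⟩ := hL
  have hGL : ∃ a : ℤ, ∀ i : ℤ, i < a → Subsingleton (Dual.HD B (G.obj L) i) :=
    ⟨a, fun i hi => Groth.Agent.Lib.H6xShr.subsingleton_HD_rightAdjoint G adj L a ha i hi⟩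
  have hΦ := isBC_extDMapSL (B := B') S (G.obj L) hS hGL
  have hΨ := isBC_extDMapSL (B := P') T L hT ⟨a, ha⟩
  -- module structures
  letI : Module P (S ⟶ G.obj L) := compMod P B _
  haveI : IsScalarTower P B (S ⟶ G.obj L) := compMod_tower P B _
  letI : Module P' ((extD B B').obj S ⟶ (extD B B').obj (G.obj L)) := compMod P' B' _
  haveI : IsScalarTower P' B' ((extD B B').obj S ⟶ (extD B B').obj (G.obj L)) :=
    compMod_tower P' B' _
  let Φ' : (S ⟶ G.obj L) →ₛₗ[algebraMap P P']
      ((extD B B').obj S ⟶ (extD B B').obj (G.obj L)) :=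
    { toFun := fun f => (extD B B').map f
      map_add' := fun _ _ => Functor.map_add _
      map_smul' := fun p f => by
        change (extD B B').map (algebraMap P B p • f) =
          algebraMap P' B' (algebraMap P P' p) • (extD B B').map f
        rw [extD_map_smul, ← IsScalarTower.algebraMap_apply, ← IsScalarTower.algebraMap_apply] }
  have hΦ' : IsBC Φ' :=
    IsBC.of_isPushout (extDMapSL (B := B') S (G.obj L)) Φ' (fun _ => rfl) hΦ
  let ainv : (S ⟶ G.obj L) →ₗ[P] (T ⟶ L) :=
    { toFun := fun f => (DRing.restrictD (algebraMap P B)).map f ≫ adj.counit.app L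
      map_add' := fun f f' => by rw [Functor.map_add, Preadditive.add_comp]
      map_smul' := fun p f => by
        change (DRing.restrictD (algebraMap P B)).map (algebraMap P B p • f) ≫ _ = p • (_ ≫ _)
        rw [restrictD_map_smul, Linear.smul_comp] }
  have hainv : Function.Bijective ainv := by
    have h1 : (ainv : (S ⟶ G.obj L) → (T ⟶ L)) = (adj.homEquiv S L).symm := by
      funext f
      exact (Adjunction.homEquiv_counit adj S L f).symm
    rw [h1]
    exact (adj.homEquiv S L).symm.bijective
  let c : ((extD B B').obj S ⟶ (extD B B').obj (G.obj L)) →ₗ[P']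
      ((extD P P').obj T ⟶ (extD P P').obj L) :=
    { toFun := fun h => β.hom.app S ≫ (DRing.restrictD (algebraMap P' B')).map h ≫
        β.inv.app (G.obj L) ≫ (extD P P').map (adj.counit.app L)
      map_add' := fun h h' => by
        rw [Functor.map_add, Preadditive.add_comp, Preadditive.comp_add]
      map_smul' := fun s h => by
        change β.hom.app S ≫ (DRing.restrictD (algebraMap P' B')).map (algebraMap P' B' s • h) ≫
          _ = s • (_ ≫ _ ≫ _)
        rw [restrictD_map_smul, Linear.smul_comp, Linear.comp_smul] }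
  have hcomm : ∀ f, extDMapSL (B := P') T L (ainv f) = c (Φ' f) := by
    intro f
    change (extD P P').map ((DRing.restrictD (algebraMap P B)).map f ≫ adj.counit.app L) =
      β.hom.app S ≫ (DRing.restrictD (algebraMap P' B')).map ((extD B B').map f) ≫
        β.inv.app (G.obj L) ≫ (extD P P').map (adj.counit.app L)
    have hnat := β.hom.naturality f
    change (extD P P').map ((DRing.restrictD (algebraMap P B)).map f) ≫ β.hom.app (G.obj L) =
      β.hom.app S ≫ (DRing.restrictD (algebraMap P' B')).map ((extD B B').map f) at hnat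
    rw [← Category.assoc, ← hnat, Category.assoc, Iso.hom_inv_id_app_assoc, Functor.map_comp]
  have hc : Function.Bijective c := IsBC.bijective_of_bijective ainv c hΦ' hΨ hcomm hainv
  let γ := extSgIso B B' n
  let E : (Q.obj (Sg B' n) ⟶ G'.obj ((extD P P').obj L)) ≃
      ((extD P P').obj T ⟶ (extD P P').obj L) :=
    (γ.symm.homFromEquiv).trans ((adj'.homEquiv _ _).symm.trans ((β.app S).symm.homFromEquiv))
  have hE : ∀ z, E z = β.hom.app S ≫ (adj'.homEquiv _ _).symm (γ.hom ≫ z) := fun z => rfl
  have hcw : ∀ y : Q.obj (Sg B' n) ⟶ (extD B B').obj (G.obj L),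
      c (γ.hom ≫ y) = E (y ≫ bcα P P' B B' G adj G' adj' L) := by
    intro y
    rw [hE]
    change β.hom.app S ≫ (DRing.restrictD (algebraMap P' B')).map (γ.hom ≫ y) ≫
      β.inv.app (G.obj L) ≫ (extD P P').map (adj.counit.app L) = _
    rw [← Category.assoc γ.hom, Adjunction.homEquiv_naturality_left_symm]
    unfold bcα
    rw [Equiv.symm_apply_apply]
  have h3 : Function.Bijective (fun y : Q.obj (Sg B' n) ⟶ (extD B B').obj (G.obj L) =>
      E (y ≫ bcα P P' B B' G adj G' adj' L)) := by
    have h4 : (fun y : Q.obj (Sg B' n) ⟶ (extD B B').obj (G.obj L) =>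
        E (y ≫ bcα P P' B B' G adj G' adj' L)) = c ∘ (γ.symm.homFromEquiv) := by
      funext y
      exact (hcw y).symm
    rw [h4]
    exact hc.comp (γ.symm.homFromEquiv).bijective
  exact (Function.Bijective.of_comp_iff' E.bijective _).1 h3

include adj adj' in
/-- **flat base change for `RHom_P(B, -)`** (existence of an isomorphism) -/
theorem nonempty_extD_rightAdjoint_iso (hB : DRing.IsPseudoCoherentModule' P B)
    (hL : ∃ a : ℤ, ∀ i : ℤ, i < a → Subsingleton (Dual.HD P L i)) :
    Nonempty ((extD B B').obj (G.obj L) ≅ G'.obj ((extD P P').obj L)) :=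
  haveI := isIso_bcα P P' B B' G adj G' adj' L hB hL
  ⟨asIso (bcα P P' B B' G adj G' adj' L)⟩

end C3

end Groth.Agent.Lib.H6xShk
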