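import Mathlib
import Groth.Agent.Lib.H6xShkI
set_option backward.isDefEq.respectTransparency.types false

/-!
# Composition of algebraic upper shrieks (helper6)

`shriekVia_comp`: for `A → B → C` of finite type (`A` Noetherian) and `K` bounded below,
`(A → C)^!(K) ≅ (B → C)^!((A → B)^!(K))`, where each upper shriek is computed from an arbitrary
polynomial presentation.
-/

set_option autoImplicit false
set_option linter.style.haveILetI false
universe u

namespace Groth.Agent.Lib.H6xShk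

open CategoryTheory CategoryTheory.Limits DerivedCategory TensorProduct MvPolynomial
open Groth.Agent.Lib.Helper1.Extend Groth.Agent.Lib.H6xFBC
attribute [local instance] HasDerivedCategory.standard

section Aux

/-- flat extension of scalars preserves bounded-below complexes -/
lemma subsingleton_HD_extD {A B : Type u} [CommRing A] [CommRing B] [Algebra A B]
    [Module.Flat A B] (K : Dual.D A) (a : ℤ)
    (hKa : ∀ j : ℤ, j < a → Subsingleton (Dual.HD A K j)) :
    ∀ j : ℤ, j < a → Subsingleton (Dual.HD B ((extD A B).obj K) j) := by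
  intro j hj
  haveI := hKa j hj
  have h1 : IsZero ((ext A B).obj ((homologyFunctor (ModuleCat.{u} A) j).obj K)) :=
    (ext A B).map_isZero (ModuleCat.isZero_of_subsingleton _)
  exact ModuleCat.subsingleton_of_isZero (h1.of_iso (homologyMapDIso (ext A B) K j))

/-- an algebra isomorphism from a polynomial ring gives polynomial generators -/
lemma bijective_aeval_of_algEquiv {R Q₀ : Type u} [CommRing R] [CommRing Q₀] [Algebra R Q₀]
    {σ : Type*} (e : MvPolynomial σ R ≃ₐ[R] Q₀) :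
    Function.Bijective (aeval (fun i => e (X i)) : MvPolynomial σ R →ₐ[R] Q₀) := by
  have h : (aeval (fun i => e (X i)) : MvPolynomial σ R →ₐ[R] Q₀) = e.toAlgHom := by
    apply MvPolynomial.algHom_ext
    intro i
    rw [aeval_X]
    rfl
  rw [h]
  exact e.bijective

/-- iterated shifts -/
noncomputable def shiftShiftNatIso {C : Type*} [Category C] [HasShift C ℤ] (X : C) (n m : ℕ) :
    (X⟦(n : ℤ)⟧)⟦(m : ℤ)⟧ ≅ X⟦((m + n : ℕ) : ℤ)⟧ :=
  ((shiftFunctorAdd' C (n : ℤ) (m : ℤ) ((m + n : ℕ) : ℤ) (by push_cast; ring)).app X).symm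

end Aux

section Comp

attribute [local instance] MvPolynomial.algebraMvPolynomial

/-- **S1799**: composition of upper shrieks -/
theorem shriekVia_comp (A B C : Type u) [CommRing A] [CommRing B] [CommRing C]
    [IsNoetherianRing A] [Algebra A B] [Algebra B C] [Algebra A C] [IsScalarTower A B C]
    (n : ℕ) (ψ : MvPolynomial (Fin n) A →ₐ[A] B) (hψ : Function.Surjective ψ)
    [DRing.HasLBaseChange (algebraMap A (MvPolynomial (Fin n) A))]
    (Rψ : Dual.D (MvPolynomial (Fin n) A) ⥤ Dual.D B) (adj : DRing.restrictD ψ.toRingHom ⊣ Rψ)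
    (m : ℕ) (χ : MvPolynomial (Fin m) B →ₐ[B] C) (hχ : Function.Surjective χ)
    [DRing.HasLBaseChange (algebraMap B (MvPolynomial (Fin m) B))]
    (Rχ : Dual.D (MvPolynomial (Fin m) B) ⥤ Dual.D C) (adjχ : DRing.restrictD χ.toRingHom ⊣ Rχ)
    (k : ℕ) (θ : MvPolynomial (Fin k) A →ₐ[A] C) (hθ : Function.Surjective θ)
    [DRing.HasLBaseChange (algebraMap A (MvPolynomial (Fin k) A))]
    (Rθ : Dual.D (MvPolynomial (Fin k) A) ⥤ Dual.D C) (adjθ : DRing.restrictD θ.toRingHom ⊣ Rθ)
    (K : Dual.D A) (c : ℤ) (hK : ∀ i : ℤ, i < c → Subsingleton (Dual.HD A K i)) :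
    Nonempty (Dual2.shriekVia k Rθ K ≅ Dual2.shriekVia m Rχ (Dual2.shriekVia n Rψ K)) := by
  -- notation
  letI : Algebra (MvPolynomial (Fin n) A) B := ψ.toRingHom.toAlgebra
  haveI : Module.Finite (MvPolynomial (Fin n) A) B :=
    Module.Finite.of_surjective (Algebra.linearMap (MvPolynomial (Fin n) A) B) hψ
  have hB : DRing.IsPseudoCoherentModule' (MvPolynomial (Fin n) A) B :=
    (Groth.Agent.S6942.result (MvPolynomial (Fin n) A) 0
      ((DRing.LBaseChange (algebraMap A (MvPolynomial (Fin n) A))).obj K) B).2.2 inferInstance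
  -- abbreviations
  obtain ⟨a1⟩ := Groth.Agent.Lib.H6xPCDesc.nonempty_lbc_iso_extD
    (A := A) (B := MvPolynomial (Fin n) A) K
  obtain ⟨a2⟩ := Groth.Agent.Lib.H6xPCDesc.nonempty_lbc_iso_extD
    (A := B) (B := MvPolynomial (Fin m) B) (Dual2.shriekVia n Rψ K)
  obtain ⟨a3⟩ := Groth.Agent.Lib.H6xPCDesc.nonempty_lbc_iso_extD
    (A := A) (B := MvPolynomial (Fin k) A) K
  -- right adjoints
  obtain ⟨Rψ', ⟨adjψ'⟩⟩ := Groth.Agent.Lib.H6xCoext.exists_rightAdjoint
    (algebraMap (MvPolynomial (Fin m) (MvPolynomial (Fin n) A)) (MvPolynomial (Fin m) B))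
  let θ' : MvPolynomial (Fin m) (MvPolynomial (Fin n) A) →ₐ[A] C :=
    { toRingHom := χ.toRingHom.comp
        (algebraMap (MvPolynomial (Fin m) (MvPolynomial (Fin n) A)) (MvPolynomial (Fin m) B))
      commutes' := fun r => by
        change χ (algebraMap (MvPolynomial (Fin m) (MvPolynomial (Fin n) A))
          (MvPolynomial (Fin m) B) (algebraMap A _ r)) = algebraMap A C r
        rw [IsScalarTower.algebraMap_apply A (MvPolynomial (Fin n) A)
            (MvPolynomial (Fin m) (MvPolynomial (Fin n) A)),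
          ← IsScalarTower.algebraMap_apply (MvPolynomial (Fin n) A)
            (MvPolynomial (Fin m) (MvPolynomial (Fin n) A)) (MvPolynomial (Fin m) B),
          IsScalarTower.algebraMap_apply (MvPolynomial (Fin n) A) B (MvPolynomial (Fin m) B)]
        have h1 : algebraMap (MvPolynomial (Fin n) A) B (algebraMap A (MvPolynomial (Fin n) A) r) =
            algebraMap A B r := ψ.commutes r
        rw [h1, χ.commutes, ← IsScalarTower.algebraMap_apply] }
  have hθ' : Function.Surjective θ' := by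
    have h1 : Function.Surjective
        (algebraMap (MvPolynomial (Fin m) (MvPolynomial (Fin n) A)) (MvPolynomial (Fin m) B)) :=
      MvPolynomial.map_surjective _ hψ
    exact hχ.comp h1
  obtain ⟨Rθ', ⟨adjθ'⟩⟩ := Groth.Agent.Lib.H6xCoext.exists_rightAdjoint θ'.toRingHom
  -- C3
  obtain ⟨e4⟩ := nonempty_extD_rightAdjoint_iso (MvPolynomial (Fin n) A)
    (MvPolynomial (Fin m) (MvPolynomial (Fin n) A)) B (MvPolynomial (Fin m) B) Rψ adj Rψ' adjψ'
    ((extD A (MvPolynomial (Fin n) A)).obj K) hB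
    ⟨c, subsingleton_HD_extD K c hK⟩
  obtain ⟨e5⟩ := nonempty_rightAdjoint_comp_iso
    (algebraMap (MvPolynomial (Fin m) (MvPolynomial (Fin n) A)) (MvPolynomial (Fin m) B))
    χ.toRingHom θ'.toRingHom rfl Rψ' adjψ' Rχ adjχ Rθ' adjθ'
  obtain ⟨e6⟩ := Groth.Agent.Lib.H6xGor.nonempty_extD_comp_iso A (MvPolynomial (Fin n) A)
    (MvPolynomial (Fin m) (MvPolynomial (Fin n) A)) K
  let e : MvPolynomial (Fin (m + n)) A ≃ₐ[A] MvPolynomial (Fin m) (MvPolynomial (Fin n) A) :=
    (MvPolynomial.renameEquiv A finSumFinEquiv.symm).trans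
      (MvPolynomial.sumAlgEquiv A (Fin m) (Fin n))
  have hX : Function.Bijective
      (aeval (X : Fin k → MvPolynomial (Fin k) A) :
        MvPolynomial (Fin k) A →ₐ[A] MvPolynomial (Fin k) A) := by
    rw [MvPolynomial.aeval_X_left]
    exact Function.bijective_id
  obtain ⟨e7⟩ := independence A C (MvPolynomial (Fin k) A)
    (MvPolynomial (Fin m) (MvPolynomial (Fin n) A)) k X hX (m + n) (fun i => e (X i))
    (bijective_aeval_of_algEquiv e) θ hθ Rθ adjθ θ' hθ' Rθ' adjθ' K
  -- assemble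
  let Z := (extD (MvPolynomial (Fin n) A) (MvPolynomial (Fin m) (MvPolynomial (Fin n) A))).obj
    ((extD A (MvPolynomial (Fin n) A)).obj K)
  let r2 : Dual2.shriekVia n Rψ K ≅ (Rψ.obj ((extD A (MvPolynomial (Fin n) A)).obj K))⟦(n : ℤ)⟧ :=
    (shiftFunctor (Dual.D B) (n : ℤ)).mapIso (Rψ.mapIso a1)
  let r : (DRing.LBaseChange (algebraMap B (MvPolynomial (Fin m) B))).obj
      (Dual2.shriekVia n Rψ K) ≅ (Rψ'.obj Z)⟦(n : ℤ)⟧ :=
    a2 ≪≫ (extD B (MvPolynomial (Fin m) B)).mapIso r2 ≪≫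
      ((extD B (MvPolynomial (Fin m) B)).commShiftIso (n : ℤ)).app _ ≪≫
      (shiftFunctor (Dual.D (MvPolynomial (Fin m) B)) (n : ℤ)).mapIso e4
  let r' : Rχ.obj ((DRing.LBaseChange (algebraMap B (MvPolynomial (Fin m) B))).obj
      (Dual2.shriekVia n Rψ K)) ≅
      (Rθ'.obj ((extD A (MvPolynomial (Fin m) (MvPolynomial (Fin n) A))).obj K))⟦(n : ℤ)⟧ :=
    Rχ.mapIso r ≪≫ rightAdjointShiftIso χ.toRingHom Rχ adjχ _ (n : ℤ) ≪≫
      (shiftFunctor (Dual.D C) (n : ℤ)).mapIso ((e5.app Z).symm ≪≫ Rθ'.mapIso e6)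
  exact ⟨(shiftFunctor (Dual.D C) (k : ℤ)).mapIso (Rθ.mapIso a3) ≪≫ e7 ≪≫
    (shiftShiftNatIso _ n m).symm ≪≫ (shiftFunctor (Dual.D C) (m : ℤ)).mapIso r'.symm⟩

end Comp

end Groth.Agent.Lib.H6xShk
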