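import Mathlib
import Groth.Agent.Lib.H6xShkJ
set_option backward.isDefEq.respectTransparency.types false

/-!
# Flat base change for the algebraic upper shriek (helper6)

`shriekVia_flat_baseChange`: for `R → R'` flat, `R → A` of finite type (`R` Noetherian),
`A' = R' ⊗_R A` and `K` bounded below, `(R → A)^!(K) ⊗_A A' ≅ (R' → A')^!(K ⊗_R R')`, where each
upper shriek is computed from an arbitrary polynomial presentation.
-/

set_option autoImplicit false
set_option linter.style.haveILetI false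
universe u

namespace Groth.Agent.Lib.H6xShk

open CategoryTheory CategoryTheory.Limits DerivedCategory TensorProduct MvPolynomial
open Groth.Agent.Lib.Helper1.Extend Groth.Agent.Lib.H6xFBC
attribute [local instance] HasDerivedCategory.standard

section BC

attribute [local instance] MvPolynomial.algebraMvPolynomial Algebra.TensorProduct.rightAlgebra

/-- the base change of a presentation -/
noncomputable def bcPres (R R' A : Type u) [CommRing R] [CommRing R'] [CommRing A] [Algebra R R']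
    [Algebra R A] (n : ℕ) (ψ : MvPolynomial (Fin n) R →ₐ[R] A) :
    MvPolynomial (Fin n) R' →ₐ[R'] (R' ⊗[R] A) :=
  aeval (fun i => (1 : R') ⊗ₜ[R] ψ (X i))

/-- the square of presentations commutes -/
lemma bcPres_comp_map (R R' A : Type u) [CommRing R] [CommRing R'] [CommRing A] [Algebra R R']
    [Algebra R A] (n : ℕ) (ψ : MvPolynomial (Fin n) R →ₐ[R] A) :
    (Algebra.TensorProduct.includeRight : A →ₐ[R] R' ⊗[R] A).toRingHom.comp ψ.toRingHom =
      (bcPres R R' A n ψ).toRingHom.comp (MvPolynomial.map (algebraMap R R')) := by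
  apply MvPolynomial.ringHom_ext
  · intro r
    change (1 : R') ⊗ₜ[R] ψ (C r) = bcPres R R' A n ψ (MvPolynomial.map (algebraMap R R') (C r))
    rw [MvPolynomial.map_C]
    have h1 : ψ (C r) = algebraMap R A r := ψ.commutes r
    have h2 : bcPres R R' A n ψ (C (algebraMap R R' r)) = algebraMap R' (R' ⊗[R] A)
        (algebraMap R R' r) := (bcPres R R' A n ψ).commutes _
    rw [h1, h2, Algebra.TensorProduct.algebraMap_apply, Algebra.algebraMap_eq_smul_one r,
      ← TensorProduct.smul_tmul, Algebra.smul_def, mul_one]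
    rfl
  · intro i
    change (1 : R') ⊗ₜ[R] ψ (X i) = bcPres R R' A n ψ (MvPolynomial.map (algebraMap R R') (X i))
    rw [MvPolynomial.map_X]
    unfold bcPres
    rw [aeval_X]

lemma bcPres_surjective (R R' A : Type u) [CommRing R] [CommRing R'] [CommRing A] [Algebra R R']
    [Algebra R A] (n : ℕ) (ψ : MvPolynomial (Fin n) R →ₐ[R] A) (hψ : Function.Surjective ψ) :
    Function.Surjective (bcPres R R' A n ψ) := by
  intro x
  induction x using TensorProduct.induction_on with
  | zero => exact ⟨0, map_zero _⟩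
  | tmul r' a =>
    obtain ⟨p, rfl⟩ := hψ a
    refine ⟨C r' * MvPolynomial.map (algebraMap R R') p, ?_⟩
    have h1 := congrArg (fun f : MvPolynomial (Fin n) R →+* R' ⊗[R] A => f p)
      (bcPres_comp_map R R' A n ψ)
    change (1 : R') ⊗ₜ[R] ψ p = bcPres R R' A n ψ (MvPolynomial.map (algebraMap R R') p) at h1
    rw [map_mul, ← h1]
    have h2 : bcPres R R' A n ψ (C r') = algebraMap R' (R' ⊗[R] A) r' :=
      (bcPres R R' A n ψ).commutes _
    rw [h2, Algebra.TensorProduct.algebraMap_apply, Algebra.TensorProduct.tmul_mul_tmul, one_mul,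
      mul_one]
    rfl
  | add x y hx hy =>
    obtain ⟨p, rfl⟩ := hx
    obtain ⟨q, rfl⟩ := hy
    exact ⟨p + q, map_add _ _ _⟩

/-- **S1800**: flat base change for the upper shriek -/
theorem shriekVia_flat_baseChange (R R' A : Type u) [CommRing R] [CommRing R'] [CommRing A]
    [IsNoetherianRing R] [Algebra R R'] [Module.Flat R R'] [Algebra R A]
    (n : ℕ) (ψ : MvPolynomial (Fin n) R →ₐ[R] A) (hψ : Function.Surjective ψ)
    [DRing.HasLBaseChange (algebraMap R (MvPolynomial (Fin n) R))]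
    (Rψ : Dual.D (MvPolynomial (Fin n) R) ⥤ Dual.D A) (adj : DRing.restrictD ψ.toRingHom ⊣ Rψ)
    (m : ℕ) (ψ' : MvPolynomial (Fin m) R' →ₐ[R'] (R' ⊗[R] A)) (hψ' : Function.Surjective ψ')
    [DRing.HasLBaseChange (algebraMap R' (MvPolynomial (Fin m) R'))]
    (Rψ' : Dual.D (MvPolynomial (Fin m) R') ⥤ Dual.D (R' ⊗[R] A))
    (adj' : DRing.restrictD ψ'.toRingHom ⊣ Rψ')
    [DRing.HasLBaseChange (Algebra.TensorProduct.includeRight : A →ₐ[R] R' ⊗[R] A).toRingHom]
    [DRing.HasLBaseChange (algebraMap R R')] (K : Dual.D R) (c : ℤ)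
    (hK : ∀ i : ℤ, i < c → Subsingleton (Dual.HD R K i)) :
    Nonempty ((DRing.LBaseChange
        (Algebra.TensorProduct.includeRight : A →ₐ[R] R' ⊗[R] A).toRingHom).obj
          (Dual2.shriekVia n Rψ K) ≅
      Dual2.shriekVia m Rψ' ((DRing.LBaseChange (algebraMap R R')).obj K)) := by
  -- instances
  letI iPA : Algebra (MvPolynomial (Fin n) R) A := ψ.toRingHom.toAlgebra
  haveI tRPA : IsScalarTower R (MvPolynomial (Fin n) R) A :=
    IsScalarTower.of_algebraMap_eq' ψ.comp_algebraMap.symm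
  letI iP'A' : Algebra (MvPolynomial (Fin n) R') (R' ⊗[R] A) :=
    (bcPres R R' A n ψ).toRingHom.toAlgebra
  haveI tR'P'A' : IsScalarTower R' (MvPolynomial (Fin n) R') (R' ⊗[R] A) :=
    IsScalarTower.of_algebraMap_eq' (bcPres R R' A n ψ).comp_algebraMap.symm
  letI iPA' : Algebra (MvPolynomial (Fin n) R) (R' ⊗[R] A) :=
    ((algebraMap A (R' ⊗[R] A)).comp (algebraMap (MvPolynomial (Fin n) R) A)).toAlgebra
  haveI tPAA' : IsScalarTower (MvPolynomial (Fin n) R) A (R' ⊗[R] A) :=
    IsScalarTower.of_algebraMap_eq' rfl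
  haveI tPP'A' : IsScalarTower (MvPolynomial (Fin n) R) (MvPolynomial (Fin n) R') (R' ⊗[R] A) :=
    IsScalarTower.of_algebraMap_eq' (bcPres_comp_map R R' A n ψ)
  haveI tRP'A' : IsScalarTower R (MvPolynomial (Fin n) R') (R' ⊗[R] A) :=
    IsScalarTower.of_algebraMap_eq (fun r => by
      rw [IsScalarTower.algebraMap_apply R R' (R' ⊗[R] A),
        IsScalarTower.algebraMap_apply R R' (MvPolynomial (Fin n) R'),
        ← IsScalarTower.algebraMap_apply R' (MvPolynomial (Fin n) R') (R' ⊗[R] A)])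
  have hpo : Algebra.IsPushout (MvPolynomial (Fin n) R) A (MvPolynomial (Fin n) R') (R' ⊗[R] A) :=
    (Algebra.IsPushout.comp_iff R (MvPolynomial (Fin n) R) R' (MvPolynomial (Fin n) R')).1
      inferInstance
  haveI hpo' : Algebra.IsPushout (MvPolynomial (Fin n) R) (MvPolynomial (Fin n) R') A
      (R' ⊗[R] A) := hpo.symm
  haveI fPP' : Module.Flat (MvPolynomial (Fin n) R) (MvPolynomial (Fin n) R') :=
    Module.Flat.isBaseChange (R := R) (M := R') (S := MvPolynomial (Fin n) R)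
      (MvPolynomial (Fin n) R')
      (Algebra.IsPushout.out (R := R) (S := MvPolynomial (Fin n) R) (R' := R')
        (S' := MvPolynomial (Fin n) R'))
  haveI fRP' : Module.Flat R (MvPolynomial (Fin n) R') :=
    Module.Flat.trans R R' (MvPolynomial (Fin n) R')
  haveI fAA' : Module.Flat A (R' ⊗[R] A) :=
    Module.Flat.isBaseChange (R := R) (M := R') (S := A) (R' ⊗[R] A)
      (Algebra.IsPushout.out (R := R) (S := A) (R' := R') (S' := R' ⊗[R] A))
  haveI : Module.Finite (MvPolynomial (Fin n) R) A :=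
    Module.Finite.of_surjective (Algebra.linearMap (MvPolynomial (Fin n) R) A) hψ
  have hB : DRing.IsPseudoCoherentModule' (MvPolynomial (Fin n) R) A :=
    (Groth.Agent.S6942.result (MvPolynomial (Fin n) R) 0
      ((DRing.LBaseChange (algebraMap R (MvPolynomial (Fin n) R))).obj K) A).2.2 inferInstance
  -- derived base change is flat extension of scalars
  obtain ⟨a1⟩ := Groth.Agent.Lib.H6xPCDesc.nonempty_lbc_iso_extD
    (A := R) (B := MvPolynomial (Fin n) R) K
  obtain ⟨a2⟩ := Groth.Agent.Lib.H6xPCDesc.nonempty_lbc_iso_extD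
    (A := A) (B := R' ⊗[R] A) (Dual2.shriekVia n Rψ K)
  obtain ⟨a3⟩ := Groth.Agent.Lib.H6xPCDesc.nonempty_lbc_iso_extD (A := R) (B := R') K
  obtain ⟨a4⟩ := Groth.Agent.Lib.H6xPCDesc.nonempty_lbc_iso_extD
    (A := R') (B := MvPolynomial (Fin m) R') ((DRing.LBaseChange (algebraMap R R')).obj K)
  -- the base changed presentation
  obtain ⟨Rψ'', ⟨adjψ''⟩⟩ := Groth.Agent.Lib.H6xCoext.exists_rightAdjoint
    (bcPres R R' A n ψ).toRingHom
  -- C3
  obtain ⟨e4⟩ := nonempty_extD_rightAdjoint_iso (MvPolynomial (Fin n) R)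
    (MvPolynomial (Fin n) R') A (R' ⊗[R] A) Rψ adj Rψ'' adjψ''
    ((extD R (MvPolynomial (Fin n) R)).obj K) hB ⟨c, subsingleton_HD_extD K c hK⟩
  obtain ⟨e5⟩ := Groth.Agent.Lib.H6xGor.nonempty_extD_comp_iso R (MvPolynomial (Fin n) R)
    (MvPolynomial (Fin n) R') K
  obtain ⟨e6⟩ := Groth.Agent.Lib.H6xGor.nonempty_extD_comp_iso R R'
    (MvPolynomial (Fin n) R') K
  have hX : ∀ k : ℕ, Function.Bijective
      (aeval (X : Fin k → MvPolynomial (Fin k) R') :
        MvPolynomial (Fin k) R' →ₐ[R'] MvPolynomial (Fin k) R') := by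
    intro k
    rw [MvPolynomial.aeval_X_left]
    exact Function.bijective_id
  obtain ⟨e7⟩ := independence R' (R' ⊗[R] A) (MvPolynomial (Fin n) R')
    (MvPolynomial (Fin m) R') n X (hX n) m X (hX m) (bcPres R R' A n ψ)
    (bcPres_surjective R R' A n ψ hψ) Rψ'' adjψ'' ψ' hψ' Rψ' adj' ((extD R R').obj K)
  -- assemble
  let r2 : Dual2.shriekVia n Rψ K ≅ (Rψ.obj ((extD R (MvPolynomial (Fin n) R)).obj K))⟦(n : ℤ)⟧ :=
    (shiftFunctor (Dual.D A) (n : ℤ)).mapIso (Rψ.mapIso a1)
  let l : (DRing.LBaseChange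
        (Algebra.TensorProduct.includeRight : A →ₐ[R] R' ⊗[R] A).toRingHom).obj
          (Dual2.shriekVia n Rψ K) ≅
      (Rψ''.obj ((extD R' (MvPolynomial (Fin n) R')).obj ((extD R R').obj K)))⟦(n : ℤ)⟧ :=
    a2 ≪≫ (extD A (R' ⊗[R] A)).mapIso r2 ≪≫
      ((extD A (R' ⊗[R] A)).commShiftIso (n : ℤ)).app _ ≪≫
      (shiftFunctor (Dual.D (R' ⊗[R] A)) (n : ℤ)).mapIso
        (e4 ≪≫ Rψ''.mapIso (e5 ≪≫ e6.symm))
  exact ⟨l ≪≫ e7 ≪≫ (shiftFunctor (Dual.D (R' ⊗[R] A)) (m : ℤ)).mapIso
    (Rψ'.mapIso (a4 ≪≫ (extD R' (MvPolynomial (Fin m) R')).mapIso a3)).symm⟩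

end BC

end Groth.Agent.Lib.H6xShk
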