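import Mathlib
import Groth.Agent.Lib.H6xShkK
set_option backward.isDefEq.respectTransparency.types false

/-!
# Frobenius algebras and the right adjoint of restriction of scalars (helper6)

A finite free `C`-algebra `F` with a linear form `lam : F → C` such that `b ↦ lam (b * -)` is a
bijection `F → Hom_C(F, C)` (`IsFrobForm`) satisfies `F ⊗_C M ≅ Hom_C(F, M)` naturally, so
extension of scalars is right adjoint to restriction of scalars (`frobAdj`, `frobAdjD`).  Algebras
with a power basis (e.g. `C[x]/(f)`, `f` monic) have a Frobenius form
(`exists_isFrobForm_of_powerBasis`).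
-/

set_option autoImplicit false
set_option linter.style.haveILetI false
universe u

namespace Groth.Agent.Lib.H6xShk

open CategoryTheory CategoryTheory.Limits DerivedCategory TensorProduct
open Groth.Agent.Lib.Helper1.Extend
attribute [local instance] HasDerivedCategory.standard

section Frob

variable {C F : Type u} [CommRing C] [CommRing F] [Algebra C F]

/-- the map `b ↦ lam (b * -)` attached to a linear form -/
noncomputable def frobMap (lam : F →ₗ[C] C) : F →ₗ[C] Module.Dual C F where
  toFun := fun b => lam ∘ₗ LinearMap.mulLeft C b
  map_add' := fun b b' => by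
    ext y
    change lam ((b + b') * y) = lam (b * y) + lam (b' * y)
    rw [add_mul, map_add]
  map_smul' := fun c b => by
    ext y
    change lam ((c • b) * y) = c • lam (b * y)
    rw [smul_mul_assoc, map_smul]

@[simp] lemma frobMap_apply (lam : F →ₗ[C] C) (b y : F) : frobMap lam b y = lam (b * y) := rfl

/-- `lam` is a Frobenius form: `b ↦ lam (b * -)` is bijective `F → Hom_C(F, C)` -/
def IsFrobForm (lam : F →ₗ[C] C) : Prop := Function.Bijective (frobMap lam)

/-- an algebra with a power basis has a Frobenius form (the top coefficient) -/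
theorem exists_isFrobForm_of_powerBasis (pb : PowerBasis C F) :
    ∃ lam : F →ₗ[C] C, IsFrobForm lam := by
  classical
  haveI : Module.Finite C F := pb.finite
  haveI : Module.Free C F := Module.Free.of_basis pb.basis
  let d := pb.dim
  let lam : F →ₗ[C] C :=
    if h : 0 < d then pb.basis.coord ⟨d - 1, by omega⟩ else 0
  refine ⟨lam, ?_⟩
  -- values of `lam` on small powers of the generator
  have hlam : ∀ k : ℕ, k < d → lam (pb.gen ^ k) = if k = d - 1 then 1 else 0 := by
    intro k hk
    have hd : 0 < d := by omega
    change (if h : 0 < d then pb.basis.coord ⟨d - 1, by omega⟩ else 0) (pb.gen ^ k) = _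
    rw [dif_pos hd]
    have h1 : pb.gen ^ k = pb.basis ⟨k, hk⟩ := (pb.basis_eq_pow ⟨k, hk⟩).symm
    rw [h1, Module.Basis.coord_apply, Module.Basis.repr_self, Finsupp.single_apply]
    by_cases hkd : k = d - 1
    · rw [if_pos hkd, if_pos (Fin.ext hkd)]
    · rw [if_neg hkd, if_neg (fun h => hkd (congrArg Fin.val h))]
  -- surjectivity
  have hsurj : Function.Surjective (frobMap lam) := by
    -- every coordinate form is in the range
    have hcoord : ∀ k : ℕ, ∀ hk : k < d,
        pb.basis.coord ⟨d - 1 - k, by omega⟩ ∈ LinearMap.range (frobMap lam) := by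
      intro k
      induction k using Nat.strong_induction_on with
      | _ k ih =>
        intro hk
        let m : Fin d := ⟨d - 1 - k, by omega⟩
        let φ : Module.Dual C F := frobMap lam (pb.gen ^ k)
        have hφ : ∀ j : Fin d, φ (pb.basis j) =
            if (j : ℕ) + k < d then (if (j : ℕ) + k = d - 1 then 1 else 0)
            else φ (pb.basis j) := by
          intro j
          by_cases hj : (j : ℕ) + k < d
          · rw [if_pos hj]
            change lam (pb.gen ^ k * pb.basis j) = _
            rw [pb.basis_eq_pow j, ← pow_add, add_comm k, hlam _ hj]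
          · rw [if_neg hj]
        have hsum := pb.basis.sum_dual_apply_smul_coord φ
        have hm : φ (pb.basis m) = 1 := by
          rw [hφ m]
          have : ((m : Fin d) : ℕ) + k = d - 1 := by
            change d - 1 - k + k = d - 1
            omega
          rw [if_pos (by omega), if_pos this]
        have hsum' : φ (pb.basis m) • pb.basis.coord m + ∑ j ∈ Finset.univ.erase m,
            φ (pb.basis j) • pb.basis.coord j = φ := by
          rw [Finset.add_sum_erase Finset.univ (fun j => φ (pb.basis j) • pb.basis.coord j)
            (Finset.mem_univ m)]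
          exact hsum
        rw [hm, one_smul] at hsum'
        have h1 : pb.basis.coord m = φ - ∑ j ∈ Finset.univ.erase m,
            φ (pb.basis j) • pb.basis.coord j := eq_sub_of_add_eq hsum'
        rw [h1]
        refine Submodule.sub_mem _ ⟨pb.gen ^ k, rfl⟩ (Submodule.sum_mem _ fun j hj => ?_)
        have hjm : j ≠ m := (Finset.mem_erase.1 hj).1
        by_cases hlt : (j : ℕ) < d - 1 - k
        · -- the coefficient vanishes
          have : φ (pb.basis j) = 0 := by
            rw [hφ j, if_pos (by omega), if_neg (by omega)]
          rw [this, zero_smul]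
          exact Submodule.zero_mem _
        · -- a later coordinate form
          have hgt : d - 1 - k < (j : ℕ) := by
            rcases Nat.lt_or_ge (d - 1 - k) j with h | h
            · exact h
            · exfalso
              apply hjm
              apply Fin.ext
              change (j : ℕ) = d - 1 - k
              omega
          have hj' : (j : ℕ) < d := j.2
          have hk' : d - 1 - (j : ℕ) < k := by omega
          have := ih (d - 1 - (j : ℕ)) hk' (by omega)
          have hjeq : (⟨d - 1 - (d - 1 - (j : ℕ)), by omega⟩ : Fin d) = j := by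
            apply Fin.ext
            change d - 1 - (d - 1 - (j : ℕ)) = (j : ℕ)
            omega
          rw [hjeq] at this
          exact Submodule.smul_mem _ _ this
    have htop : LinearMap.range (frobMap lam) = ⊤ := by
      rw [eq_top_iff]
      intro ψ _
      rw [← pb.basis.sum_dual_apply_smul_coord ψ]
      refine Submodule.sum_mem _ fun j _ => Submodule.smul_mem _ _ ?_
      have hj' : (j : ℕ) < d := j.2
      have := hcoord (d - 1 - (j : ℕ)) (by omega)
      have hjeq : (⟨d - 1 - (d - 1 - (j : ℕ)), by omega⟩ : Fin d) = j := by
        apply Fin.ext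
        change d - 1 - (d - 1 - (j : ℕ)) = (j : ℕ)
        omega
      rw [hjeq] at this
      exact this
    exact LinearMap.range_eq_top.1 htop
  -- injectivity from surjectivity
  refine ⟨?_, hsurj⟩
  let e : Module.Dual C F ≃ₗ[C] F := pb.basis.toDualEquiv.symm
  have h2 : Function.Surjective (e.toLinearMap ∘ₗ frobMap lam) := e.surjective.comp hsurj
  have h3 := OrzechProperty.injective_of_surjective_endomorphism _ h2
  exact fun x y hxy => h3 (congrArg e hxy)

variable (lam : F →ₗ[C] C) (hlam : IsFrobForm lam) [Module.Finite C F] [Module.Free C F]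

/-- `F ⊗_C M ≃ Hom_C(F, M)` for a Frobenius algebra -/
noncomputable def frobEquivC (M : Type u) [AddCommGroup M] [Module C M] :
    F ⊗[C] M ≃ₗ[C] (F →ₗ[C] M) :=
  (TensorProduct.congr (LinearEquiv.ofBijective (frobMap lam) hlam) (LinearEquiv.refl C M)) ≪≫ₗ
    dualTensorHomEquiv C F M

lemma frobEquivC_tmul (M : Type u) [AddCommGroup M] [Module C M] (b : F) (m : M) (y : F) :
    frobEquivC lam hlam M (b ⊗ₜ[C] m) y = lam (b * y) • m := by
  change dualTensorHom C F M ((frobMap lam b) ⊗ₜ[C] m) y = _
  rw [dualTensorHom_apply]
  rfl

/-- the underlying additive equivalence `F ⊗_C M ≃ Hom_C(F, M)` on module categories -/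
noncomputable def frobAddEquiv (M : ModuleCat.{u} C) :
    ((ext C F).obj M) ≃+ ((ModuleCat.coextendScalars.{u, u, u} (algebraMap C F)).obj M) :=
  (c₀ (A := C) (B := F) M).toAddEquiv.trans
    ((frobEquivC lam hlam M).toAddEquiv.trans
      ((LinearEquiv.arrowCongr (e₀ (A := C) F).symm (LinearEquiv.refl C M)).toAddEquiv.trans
        (ModuleCat.CoextendScalars.equiv (algebraMap C F) M).symm.toAddEquiv))

open ChangeOfRings in
/-- pure tensors in `(ext C F).obj M` -/
noncomputable def extTmul (M : ModuleCat.{u} C) (b : F) (m : M) : ((ext C F).obj M : Type u) :=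
  b ⊗ₜ[C, algebraMap C F] m

lemma frobAddEquiv_tmul (M : ModuleCat.{u} C) (b : F) (m : M) (y : F) :
    ModuleCat.CoextendScalars.equiv (algebraMap C F) M
      (frobAddEquiv lam hlam M (extTmul M b m)) y = lam (b * y) • m := by
  change frobEquivC lam hlam M (b ⊗ₜ[C] m) y = _
  exact frobEquivC_tmul lam hlam M b m y

lemma frobAddEquiv_smul_tmul (M : ModuleCat.{u} C) (s b : F) (m : M) :
    frobAddEquiv lam hlam M (s • extTmul M b m) = s • frobAddEquiv lam hlam M (extTmul M b m) := by
  apply ModuleCat.CoextendScalars.ext
  apply LinearMap.ext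
  intro y'
  let y : F := y'
  have h1 : s • extTmul M b m = extTmul M (s * b) m := rfl
  have h2 : ModuleCat.CoextendScalars.equiv (algebraMap C F) M
      (s • frobAddEquiv lam hlam M (extTmul M b m)) y =
      ModuleCat.CoextendScalars.equiv (algebraMap C F) M
        (frobAddEquiv lam hlam M (extTmul M b m)) (y * s) := rfl
  rw [h1]
  refine Eq.trans ?_ h2.symm
  refine (frobAddEquiv_tmul lam hlam M (s * b) m y).trans ?_
  refine Eq.trans ?_ (frobAddEquiv_tmul lam hlam M b m (y * s)).symm
  congr 2
  ring

lemma frobAddEquiv_smul (M : ModuleCat.{u} C) (s : F) (x : (ext C F).obj M) :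
    frobAddEquiv lam hlam M (s • x) = s • frobAddEquiv lam hlam M x := by
  induction x using TensorProduct.induction_on with
  | zero =>
    have h1 : s • (0 : (ext C F).obj M) = 0 := smul_zero s
    have h2 : frobAddEquiv lam hlam M 0 = 0 := map_zero _
    exact (congrArg (frobAddEquiv lam hlam M) h1).trans (h2.trans
      ((congrArg (fun z => s • z) h2).trans (smul_zero s)).symm)
  | tmul b m => exact frobAddEquiv_smul_tmul lam hlam M s b m
  | add x y hx hy =>
    have h1 : s • ((show ((ext C F).obj M) from x) + (show ((ext C F).obj M) from y)) =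
        s • _ + s • _ := smul_add s _ _
    refine (congrArg (frobAddEquiv lam hlam M) h1).trans ?_
    refine ((frobAddEquiv lam hlam M).map_add _ _).trans ?_
    refine (congrArg₂ (· + ·) hx hy).trans ?_
    have h2 : frobAddEquiv lam hlam M ((show ((ext C F).obj M) from x) +
        (show ((ext C F).obj M) from y)) = _ + _ := (frobAddEquiv lam hlam M).map_add _ _
    exact ((congrArg (fun z => s • z) h2).trans (smul_add s _ _)).symm

/-- for a Frobenius algebra, extension and coextension of scalars agree -/
noncomputable def frobNatIso :
    ext C F ≅ ModuleCat.coextendScalars.{u, u, u} (algebraMap C F) :=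
  NatIso.ofComponents
    (fun M => ((frobAddEquiv lam hlam M).toLinearEquiv
      (frobAddEquiv_smul lam hlam M)).toModuleIso) (by
    intro M N g
    apply ModuleCat.ExtendScalars.hom_ext
    intro m
    apply ModuleCat.CoextendScalars.ext
    apply LinearMap.ext
    intro y'
    let y : F := y'
    have h1 : ModuleCat.CoextendScalars.equiv (algebraMap C F) N
        (frobAddEquiv lam hlam N (extTmul N 1 (g m))) y = lam (1 * y) • g m :=
      frobAddEquiv_tmul lam hlam N 1 (g m) y
    have h2 : ModuleCat.CoextendScalars.equiv (algebraMap C F) M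
        (frobAddEquiv lam hlam M (extTmul M 1 m)) y = lam (1 * y) • m :=
      frobAddEquiv_tmul lam hlam M 1 m y
    refine Eq.trans ?_ (h1.trans ?_)
    · rfl
    · have h3 : g (ModuleCat.CoextendScalars.equiv (algebraMap C F) M
          (frobAddEquiv lam hlam M (extTmul M 1 m)) y) = g (lam (1 * y) • m) :=
        congrArg g h2
      rw [map_smul] at h3
      exact h3.symm)

/-- for a Frobenius algebra, extension of scalars is right adjoint to restriction of scalars -/
noncomputable def frobAdj :
    ModuleCat.restrictScalars.{u} (algebraMap C F) ⊣ ext C F :=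
  (ModuleCat.restrictCoextendScalarsAdj.{u, u, u} (algebraMap C F)).ofNatIsoRight
    (frobNatIso lam hlam).symm

/-- for a Frobenius algebra, derived extension of scalars is right adjoint to restriction of
scalars on derived categories -/
noncomputable def frobAdjD [Module.Flat C F] : DRing.restrictD (algebraMap C F) ⊣ extD C F :=
  haveI : (extD C F).IsRightDerivedFunctor (ext C F).mapDerivedCategoryFactors.inv
      (HomologicalComplex.quasiIso (ModuleCat.{u} C) (ComplexShape.up ℤ)) :=
    Functor.isRightDerivedFunctor_of_inverts _ (extD C F) (ext C F).mapDerivedCategoryFactors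
  Groth.Agent.Lib.Helper17.KInj.derivedAdjunction.{u}
    (ModuleCat.restrictScalars.{u} (algebraMap C F)) (ext C F) (frobAdj lam hlam) (extD C F)
    (ext C F).mapDerivedCategoryFactors.inv

include lam hlam in
/-- any right adjoint of restriction of scalars to a Frobenius algebra is extension of scalars -/
theorem nonempty_rightAdjoint_iso_extD_of_frob [Module.Flat C F] (RF : Dual.D C ⥤ Dual.D F)
    (adj : DRing.restrictD (algebraMap C F) ⊣ RF) : Nonempty (RF ≅ extD C F) :=
  ⟨adj.rightAdjointUniq (frobAdjD lam hlam)⟩

end Frob

end Groth.Agent.Lib.H6xShk
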