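import Mathlib
import Groth.Agent.Lib.H6xShkL
set_option backward.isDefEq.respectTransparency.types false

/-!
# The upper shriek of a finite ring map (helper6)

* `lemmaV`: for `θ : C[t] → A` with `θ t` integral over `C`,
  `RHom_{C[t]}(A, L ⊗_C C[t]) ≅ RHom_C(A, L)[-1]` for every `L` in `D(C)`.
* `finiteCase`: for `A` integral over `R` and any `θ : R[x_1..x_n] → A`,
  `RHom_{R[x]}(A, K ⊗_R R[x]) ≅ RHom_R(A, K)[-n]` for every `K` in `D(R)`.
* `shriekVia_iso_rightAdjoint_of_finite` (S1784).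
-/

set_option autoImplicit false
set_option linter.style.haveILetI false
universe u

namespace Groth.Agent.Lib.H6xShk

open CategoryTheory CategoryTheory.Limits DerivedCategory TensorProduct
open Groth.Agent.Lib.Helper1.Extend
attribute [local instance] HasDerivedCategory.standard

section V

/-- **One-variable lemma**: for `Q₀ = C[t]`, `θ : Q₀ → A` with `θ t` integral over `C`:
`RHom_{C[t]}(A, L ⊗_C C[t]) ≅ RHom_C(A, L)[-1]` for every `L` in `D(C)`. -/
theorem lemmaV (C Q₀ A : Type u) [CommRing C] [CommRing Q₀] [CommRing A] [Algebra C Q₀]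
    [Algebra C A] [Module.Flat C Q₀] (t : Q₀)
    (ht : Function.Bijective (Polynomial.aeval t : Polynomial C →ₐ[C] Q₀))
    (θ : Q₀ →ₐ[C] A) (hint : IsIntegral C (θ t))
    (Rθ : Dual.D Q₀ ⥤ Dual.D A) (adjθ : DRing.restrictD θ.toRingHom ⊣ Rθ)
    (RC : Dual.D C ⥤ Dual.D A) (adjC : DRing.restrictD (algebraMap C A) ⊣ RC) (L : Dual.D C) :
    Nonempty (Rθ.obj ((extD C Q₀).obj L) ≅ (RC.obj L)⟦(-1 : ℤ)⟧) := by
  obtain ⟨f, hfm, hf⟩ := hint
  let s : Q₀ := Polynomial.aeval t f
  have hθs : θ s = 0 := by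
    change θ (Polynomial.aeval t f) = 0
    rw [← Polynomial.aeval_algHom_apply]
    exact hf
  let e : Polynomial C ≃ₐ[C] Q₀ := AlgEquiv.ofBijective _ ht
  have hes : e f = s := rfl
  have hs : s ∈ nonZeroDivisors Q₀ := by
    have h2 : f ∈ nonZeroDivisors (Polynomial C) := hfm.mem_nonZeroDivisors
    rw [mem_nonZeroDivisors_iff] at h2 ⊢
    constructor
    · intro x hx
      have := h2.1 (e.symm x) (by
        apply e.injective
        rw [map_mul, hes, AlgEquiv.apply_symm_apply, hx, map_zero])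
      rw [← e.apply_symm_apply x, this, map_zero]
    · intro x hx
      have := h2.2 (e.symm x) (by
        apply e.injective
        rw [map_mul, hes, AlgEquiv.apply_symm_apply, hx, map_zero])
      rw [← e.apply_symm_apply x, this, map_zero]
  -- the quotient `F = Q₀/(s)` has a power basis
  let eq : AdjoinRoot f ≃ₐ[C] (Q₀ ⧸ Ideal.span {s}) :=
    Ideal.quotientEquivAlg (Ideal.span {f}) (Ideal.span {s}) e (by
      rw [Ideal.map_span, Set.image_singleton]
      rfl)
  let pb : PowerBasis C (Q₀ ⧸ Ideal.span {s}) := (AdjoinRoot.powerBasis' hfm).map eq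
  haveI : Module.Finite C (Q₀ ⧸ Ideal.span {s}) := pb.finite
  haveI : Module.Free C (Q₀ ⧸ Ideal.span {s}) := Module.Free.of_basis pb.basis
  obtain ⟨lam, hlam⟩ := exists_isFrobForm_of_powerBasis pb
  obtain ⟨r, hr⟩ := exists_retraction_of_projective (B := C) s hs
  let θbar : (Q₀ ⧸ Ideal.span {s}) →ₐ[C] A :=
    Ideal.Quotient.liftₐ (Ideal.span {s}) θ (by
      intro a ha
      obtain ⟨c, rfl⟩ := Ideal.mem_span_singleton'.1 ha
      rw [map_mul, hθs, mul_zero])
  have hcomp : θ.toRingHom = θbar.toRingHom.comp (qm s) := by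
    ext q
    rfl
  have hcomp' : algebraMap C A = θbar.toRingHom.comp (algebraMap C (Q₀ ⧸ Ideal.span {s})) := by
    ext c
    exact (θbar.commutes c).symm
  obtain ⟨Rπ, ⟨adjπ⟩⟩ := Groth.Agent.Lib.H6xCoext.exists_rightAdjoint (qm s)
  obtain ⟨Rθbar, ⟨adjθbar⟩⟩ := Groth.Agent.Lib.H6xCoext.exists_rightAdjoint θbar.toRingHom
  obtain ⟨RF, ⟨adjF⟩⟩ := Groth.Agent.Lib.H6xCoext.exists_rightAdjoint
    (algebraMap C (Q₀ ⧸ Ideal.span {s}))
  obtain ⟨e1⟩ := nonempty_rightAdjoint_comp_iso (qm s) θbar.toRingHom θ.toRingHom hcomp Rπ adjπ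
    Rθbar adjθbar Rθ adjθ
  obtain ⟨e2⟩ := nonempty_rightAdjoint_extD_iso s hs Rπ adjπ r hr L
  obtain ⟨e3⟩ := nonempty_rightAdjoint_comp_iso (algebraMap C (Q₀ ⧸ Ideal.span {s}))
    θbar.toRingHom (algebraMap C A) hcomp' RF adjF Rθbar adjθbar RC adjC
  obtain ⟨e4⟩ := nonempty_rightAdjoint_iso_extD_of_frob lam hlam RF adjF
  exact ⟨e1.app _ ≪≫ Rθbar.mapIso e2 ≪≫
    rightAdjointShiftIso θbar.toRingHom Rθbar adjθbar _ (-1) ≪≫
    (shiftFunctor (Dual.D A) (-1 : ℤ)).mapIso (Rθbar.mapIso (e4.app L).symm ≪≫ (e3.app L).symm)⟩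

end V

section Fin

open MvPolynomial

/-- `R[x_0, …, x_n]` is a polynomial ring in `x_0` over `R[x_1, …, x_n]` -/
lemma bijective_aeval_X_zero (R : Type u) [CommRing R] (n : ℕ) :
    letI : Algebra (MvPolynomial (Fin n) R) (MvPolynomial (Fin (n + 1)) R) :=
      (rename Fin.succ : MvPolynomial (Fin n) R →ₐ[R] MvPolynomial (Fin (n + 1)) R).toRingHom.toAlgebra
    Function.Bijective (Polynomial.aeval (X 0 : MvPolynomial (Fin (n + 1)) R) :
      Polynomial (MvPolynomial (Fin n) R) →ₐ[MvPolynomial (Fin n) R]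
        MvPolynomial (Fin (n + 1)) R) := by
  letI : Algebra (MvPolynomial (Fin n) R) (MvPolynomial (Fin (n + 1)) R) :=
    (rename Fin.succ : MvPolynomial (Fin n) R →ₐ[R] MvPolynomial (Fin (n + 1)) R).toRingHom.toAlgebra
  let E := finSuccEquiv R n
  have hC : ∀ c : MvPolynomial (Fin n) R, E (rename Fin.succ c) = Polynomial.C c := by
    intro c
    have h : (E.toAlgHom.comp (rename Fin.succ : MvPolynomial (Fin n) R →ₐ[R] _)) =
        (Algebra.ofId (MvPolynomial (Fin n) R) (Polynomial (MvPolynomial (Fin n) R))).restrictScalars R := by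
      apply MvPolynomial.algHom_ext
      intro j
      change E (rename Fin.succ (X j)) = Polynomial.C (X j)
      rw [rename_X]
      exact finSuccEquiv_X_succ
    exact AlgHom.congr_fun h c
  have hid : (E.toAlgHom.toRingHom.comp (Polynomial.aeval (X 0 : MvPolynomial (Fin (n + 1)) R) :
      Polynomial (MvPolynomial (Fin n) R) →ₐ[MvPolynomial (Fin n) R]
        MvPolynomial (Fin (n + 1)) R).toRingHom) = RingHom.id _ := by
    apply Polynomial.ringHom_ext
    · intro c
      change E (Polynomial.aeval (X 0 : MvPolynomial (Fin (n + 1)) R) (Polynomial.C c)) = Polynomial.C c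
      rw [Polynomial.aeval_C]
      exact hC c
    · change E (Polynomial.aeval (X 0 : MvPolynomial (Fin (n + 1)) R) Polynomial.X) = Polynomial.X
      rw [Polynomial.aeval_X]
      exact finSuccEquiv_X_zero
  have hid' : ∀ p, E (Polynomial.aeval (X 0 : MvPolynomial (Fin (n + 1)) R) p) = p := fun p =>
    congrArg (fun g : Polynomial (MvPolynomial (Fin n) R) →+* _ => g p) hid
  constructor
  · intro p q hpq
    rw [← hid' p, ← hid' q, hpq]
  · intro y
    refine ⟨E y, ?_⟩
    apply E.injective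
    rw [hid']

/-- **the finite case**: for `A` integral over `R` and any `θ : R[x_1..x_n] → A`,
`RHom_{R[x]}(A, K ⊗_R R[x]) ≅ RHom_R(A, K)[-n]` for every `K` in `D(R)` -/
theorem finiteCase (R A : Type u) [CommRing R] [CommRing A] [Algebra R A]
    (hA : ∀ a : A, IsIntegral R a) (R' : Dual.D R ⥤ Dual.D A)
    (adjR : DRing.restrictD (algebraMap R A) ⊣ R') (K : Dual.D R) (n : ℕ) :
    ∀ (θ : MvPolynomial (Fin n) R →ₐ[R] A) (Rθ : Dual.D (MvPolynomial (Fin n) R) ⥤ Dual.D A)
      (_ : DRing.restrictD θ.toRingHom ⊣ Rθ),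
      Nonempty (Rθ.obj ((extD R (MvPolynomial (Fin n) R)).obj K) ≅ (R'.obj K)⟦-(n : ℤ)⟧) := by
  induction n with
  | zero =>
    intro θ Rθ adjθ
    let σ : MvPolynomial (Fin 0) R →ₐ[R] R := (isEmptyAlgEquiv R (Fin 0)).toAlgHom
    have hcomp : θ.toRingHom = (algebraMap R A).comp σ.toRingHom := by
      apply MvPolynomial.ringHom_ext
      · intro r
        change θ (C r) = algebraMap R A (σ (C r))
        have h1 : θ (C r) = algebraMap R A r := θ.commutes r
        have h2 : σ (C r) = r := σ.commutes r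
        rw [h1, h2]
      · intro i
        exact i.elim0
    obtain ⟨Rσ, ⟨adjσ⟩⟩ := Groth.Agent.Lib.H6xCoext.exists_rightAdjoint σ.toRingHom
    obtain ⟨e1⟩ := nonempty_rightAdjoint_comp_iso σ.toRingHom (algebraMap R A) θ.toRingHom hcomp
      Rσ adjσ R' adjR Rθ adjθ
    have hX : Function.Bijective
        (aeval (X : Fin 0 → MvPolynomial (Fin 0) R) :
          MvPolynomial (Fin 0) R →ₐ[R] MvPolynomial (Fin 0) R) := by
      rw [MvPolynomial.aeval_X_left]
      exact Function.bijective_id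
    obtain ⟨e2⟩ := keyLemma R 0 (MvPolynomial (Fin 0) R) σ X hX Rσ adjσ K
    exact ⟨e1.app _ ≪≫ R'.mapIso e2 ≪≫ rightAdjointShiftIso (algebraMap R A) R' adjR K _⟩
  | succ n ih =>
    intro θ Rθ adjθ
    let ι : MvPolynomial (Fin n) R →ₐ[R] MvPolynomial (Fin (n + 1)) R := rename Fin.succ
    letI iCQ : Algebra (MvPolynomial (Fin n) R) (MvPolynomial (Fin (n + 1)) R) :=
      ι.toRingHom.toAlgebra
    haveI tRCQ : IsScalarTower R (MvPolynomial (Fin n) R) (MvPolynomial (Fin (n + 1)) R) :=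
      IsScalarTower.of_algebraMap_eq' ι.comp_algebraMap.symm
    let θ₀ : MvPolynomial (Fin n) R →ₐ[R] A := θ.comp ι
    letI iCA : Algebra (MvPolynomial (Fin n) R) A := θ₀.toRingHom.toAlgebra
    haveI tRCA : IsScalarTower R (MvPolynomial (Fin n) R) A :=
      IsScalarTower.of_algebraMap_eq' θ₀.comp_algebraMap.symm
    let θC : MvPolynomial (Fin (n + 1)) R →ₐ[MvPolynomial (Fin n) R] A :=
      { θ.toRingHom with commutes' := fun c => rfl }
    have ht := bijective_aeval_X_zero R n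
    haveI : Module.Free (MvPolynomial (Fin n) R) (MvPolynomial (Fin (n + 1)) R) :=
      Module.Free.of_equiv (AlgEquiv.ofBijective _ ht).toLinearEquiv
    have hint : IsIntegral (MvPolynomial (Fin n) R) (θC (X 0)) := (hA _).tower_top
    obtain ⟨RC, ⟨adjC⟩⟩ := Groth.Agent.Lib.H6xCoext.exists_rightAdjoint
      (algebraMap (MvPolynomial (Fin n) R) A)
    obtain ⟨e1⟩ := lemmaV (MvPolynomial (Fin n) R) (MvPolynomial (Fin (n + 1)) R) A (X 0) ht θC
      hint Rθ adjθ RC adjC ((extD R (MvPolynomial (Fin n) R)).obj K)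
    obtain ⟨e2⟩ := ih θ₀ RC adjC
    obtain ⟨e3⟩ := Groth.Agent.Lib.H6xGor.nonempty_extD_comp_iso R (MvPolynomial (Fin n) R)
      (MvPolynomial (Fin (n + 1)) R) K
    exact ⟨Rθ.mapIso e3.symm ≪≫ e1 ≪≫ (shiftFunctor (Dual.D A) (-1 : ℤ)).mapIso e2 ≪≫
      ((shiftFunctorAdd' (Dual.D A) (-(n : ℤ)) (-1) (-((n + 1 : ℕ) : ℤ))
        (by push_cast; ring)).app _).symm⟩

/-- **S1784**: for a finite ring map, the upper shriek is `RHom_R(A, -)` -/
theorem shriekVia_iso_rightAdjoint_of_finite (R A : Type u) [CommRing R] [CommRing A]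
    [Algebra R A] (n : ℕ) (ψ : MvPolynomial (Fin n) R →ₐ[R] A)
    [DRing.HasLBaseChange (algebraMap R (MvPolynomial (Fin n) R))]
    (Rψ : Dual.D (MvPolynomial (Fin n) R) ⥤ Dual.D A) (adj : DRing.restrictD ψ.toRingHom ⊣ Rψ)
    [Module.Finite R A] (R' : Dual.D R ⥤ Dual.D A)
    (adjR : DRing.restrictD (algebraMap R A) ⊣ R') (K : Dual.D R) :
    Nonempty (Dual2.shriekVia n Rψ K ≅ R'.obj K) := by
  obtain ⟨a⟩ := Groth.Agent.Lib.H6xPCDesc.nonempty_lbc_iso_extD
    (A := R) (B := MvPolynomial (Fin n) R) K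
  obtain ⟨e⟩ := finiteCase R A (fun a => Algebra.IsIntegral.isIntegral a) R' adjR K n ψ Rψ adj
  exact ⟨(shiftFunctor (Dual.D A) (n : ℤ)).mapIso (Rψ.mapIso a ≪≫ e) ≪≫
    (shiftFunctorCompIsoId (Dual.D A) (-(n : ℤ)) (n : ℤ) (by ring)).app _⟩

end Fin

end Groth.Agent.Lib.H6xShk
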