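import Mathlib
import Groth.Agent.Lib.H6xShtA
import Groth.Agent.Lib.H6xShkK
import Groth.Agent.Lib.H6xHasLDerRing
set_option backward.isDefEq.respectTransparency.types false

/-!
# helper6: base change of the algebraic upper shriek of a FLAT map along an arbitrary ring map

`shriekVia_baseChange_of_flat` (S1807): for `R → A` flat of finite type (`R` Noetherian), `R → R'`
any ring map, `A' = R' ⊗_R A` and any `K` in `D(R)`,
`(R → A)^!(K) ⊗ᴸ_A A' ≅ (R' → A')^!(K ⊗ᴸ_R R')`.
-/

set_option autoImplicit false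
set_option linter.style.haveILetI false
universe u

namespace Groth.Agent.Lib.H6xSht

open CategoryTheory CategoryTheory.Limits DerivedCategory TensorProduct MvPolynomial
open Groth.Agent.Lib.Helper1.Extend Groth.Agent.Lib.H6xFBC Groth.Agent.Lib.H6xShk
attribute [local instance] HasDerivedCategory.standard

section BC

attribute [local instance] MvPolynomial.algebraMvPolynomial Algebra.TensorProduct.rightAlgebra

/-- **S1807**: base change for the upper shriek of a flat map -/
theorem shriekVia_baseChange_of_flat (R R' A : Type u) [CommRing R] [CommRing R'] [CommRing A]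
    [IsNoetherianRing R] [Algebra R R'] [Algebra R A] [Module.Flat R A]
    (n : ℕ) (ψ : MvPolynomial (Fin n) R →ₐ[R] A) (hψ : Function.Surjective ψ)
    [DRing.HasLBaseChange (algebraMap R (MvPolynomial (Fin n) R))]
    (Rψ : Dual.D (MvPolynomial (Fin n) R) ⥤ Dual.D A) (adj : DRing.restrictD ψ.toRingHom ⊣ Rψ)
    (m : ℕ) (ψ' : MvPolynomial (Fin m) R' →ₐ[R'] (R' ⊗[R] A)) (hψ' : Function.Surjective ψ')
    [DRing.HasLBaseChange (algebraMap R' (MvPolynomial (Fin m) R'))]
    (Rψ' : Dual.D (MvPolynomial (Fin m) R') ⥤ Dual.D (R' ⊗[R] A))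
    (adj' : DRing.restrictD ψ'.toRingHom ⊣ Rψ')
    [DRing.HasLBaseChange (Algebra.TensorProduct.includeRight : A →ₐ[R] R' ⊗[R] A).toRingHom]
    [DRing.HasLBaseChange (algebraMap R R')] (K : Dual.D R) :
    Nonempty ((DRing.LBaseChange
        (Algebra.TensorProduct.includeRight : A →ₐ[R] R' ⊗[R] A).toRingHom).obj
          (Dual2.shriekVia n Rψ K) ≅
      Dual2.shriekVia m Rψ' ((DRing.LBaseChange (algebraMap R R')).obj K)) := by
  -- instances
  letI iPA : Algebra (MvPolynomial (Fin n) R) A := ψ.toRingHom.toAlgebra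
  haveI tRPA : IsScalarTower R (MvPolynomial (Fin n) R) A :=
    IsScalarTower.of_algebraMap_eq' ψ.comp_algebraMap.symm
  letI iP'A' : Algebra (MvPolynomial (Fin n) R') (R' ⊗[R] A) :=
    (bcPres R R' A n ψ).toRingHom.toAlgebra
  haveI tR'P'A' : IsScalarTower R' (MvPolynomial (Fin n) R') (R' ⊗[R] A) :=
    IsScalarTower.of_algebraMap_eq' (bcPres R R' A n ψ).comp_algebraMap.symm
  letI iPA' : Algebra (MvPolynomial (Fin n) R) (R' ⊗[R] A) :=
    ((algebraMap A (R' ⊗[R] A)).comp (algebraMap (MvPolynomial (Fin n) R) A)).toAlgebra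
  haveI tPAA' : IsScalarTower (MvPolynomial (Fin n) R) A (R' ⊗[R] A) :=
    IsScalarTower.of_algebraMap_eq' rfl
  haveI tPP'A' : IsScalarTower (MvPolynomial (Fin n) R) (MvPolynomial (Fin n) R') (R' ⊗[R] A) :=
    IsScalarTower.of_algebraMap_eq' (bcPres_comp_map R R' A n ψ)
  haveI tRP'A' : IsScalarTower R (MvPolynomial (Fin n) R') (R' ⊗[R] A) :=
    IsScalarTower.of_algebraMap_eq (fun r => by
      rw [IsScalarTower.algebraMap_apply R R' (R' ⊗[R] A),
        IsScalarTower.algebraMap_apply R R' (MvPolynomial (Fin n) R'),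
        ← IsScalarTower.algebraMap_apply R' (MvPolynomial (Fin n) R') (R' ⊗[R] A)])
  haveI hpo : Algebra.IsPushout (MvPolynomial (Fin n) R) A (MvPolynomial (Fin n) R') (R' ⊗[R] A) :=
    (Algebra.IsPushout.comp_iff R (MvPolynomial (Fin n) R) R' (MvPolynomial (Fin n) R')).1
      inferInstance
  -- perfectness and tor independence
  have hperf : DRing.IsPerfectModule (MvPolynomial (Fin n) R) A :=
    isPerfectModule_of_flat R A n hψ
  have htor : ∀ p : ℕ, 1 ≤ p →
      Subsingleton (DRing.Tor (MvPolynomial (Fin n) R) p A (MvPolynomial (Fin n) R')) :=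
    fun p hp => subsingleton_tor_of_isPushout R (MvPolynomial (Fin n) R) R'
      (MvPolynomial (Fin n) R') A p hp
  haveI : DRing.HasLBaseChange (algebraMap (MvPolynomial (Fin n) R) (MvPolynomial (Fin n) R')) :=
    Groth.Agent.Lib.H6xHasLDerRing.hasLBaseChange _
  haveI : DRing.HasLBaseChange (algebraMap R' (MvPolynomial (Fin n) R')) :=
    Groth.Agent.Lib.H6xHasLDerRing.hasLBaseChange _
  -- the base changed presentation
  obtain ⟨Rψ'', ⟨adjψ''⟩⟩ := Groth.Agent.Lib.H6xCoext.exists_rightAdjoint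
    (bcPres R R' A n ψ).toRingHom
  obtain ⟨e4⟩ := nonempty_lbc_rightAdjoint_iso_of_perfect (MvPolynomial (Fin n) R) A
    (MvPolynomial (Fin n) R') (R' ⊗[R] A) hperf htor Rψ adj Rψ'' adjψ''
    ((DRing.LBaseChange (algebraMap R (MvPolynomial (Fin n) R))).obj K)
  have hsq : (algebraMap (MvPolynomial (Fin n) R) (MvPolynomial (Fin n) R')).comp
      (algebraMap R (MvPolynomial (Fin n) R)) =
      (algebraMap R' (MvPolynomial (Fin n) R')).comp (algebraMap R R') := by
    rw [← IsScalarTower.algebraMap_eq, ← IsScalarTower.algebraMap_eq]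
  obtain ⟨e5⟩ := nonempty_lbc_comp_iso (algebraMap R (MvPolynomial (Fin n) R)) (algebraMap R R')
    (algebraMap (MvPolynomial (Fin n) R) (MvPolynomial (Fin n) R'))
    (algebraMap R' (MvPolynomial (Fin n) R')) hsq
  obtain ⟨a5⟩ := Groth.Agent.Lib.H6xPCDesc.nonempty_lbc_iso_extD
    (A := R') (B := MvPolynomial (Fin n) R') ((DRing.LBaseChange (algebraMap R R')).obj K)
  obtain ⟨a4⟩ := Groth.Agent.Lib.H6xPCDesc.nonempty_lbc_iso_extD
    (A := R') (B := MvPolynomial (Fin m) R') ((DRing.LBaseChange (algebraMap R R')).obj K)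
  have hX : ∀ k : ℕ, Function.Bijective
      (aeval (X : Fin k → MvPolynomial (Fin k) R') :
        MvPolynomial (Fin k) R' →ₐ[R'] MvPolynomial (Fin k) R') := by
    intro k
    rw [MvPolynomial.aeval_X_left]
    exact Function.bijective_id
  obtain ⟨e7⟩ := independence R' (R' ⊗[R] A) (MvPolynomial (Fin n) R')
    (MvPolynomial (Fin m) R') n X (hX n) m X (hX m) (bcPres R R' A n ψ)
    (bcPres_surjective R R' A n ψ hψ) Rψ'' adjψ'' ψ' hψ' Rψ' adj'
    ((DRing.LBaseChange (algebraMap R R')).obj K)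
  obtain ⟨s1⟩ := nonempty_lbc_shift_iso
    (Algebra.TensorProduct.includeRight : A →ₐ[R] R' ⊗[R] A).toRingHom
    (Rψ.obj ((DRing.LBaseChange (algebraMap R (MvPolynomial (Fin n) R))).obj K)) (n : ℤ)
  exact ⟨s1 ≪≫ (shiftFunctor (Dual.D (R' ⊗[R] A)) (n : ℤ)).mapIso
      (e4 ≪≫ Rψ''.mapIso (e5.app K ≪≫ a5)) ≪≫ e7 ≪≫
    (shiftFunctor (Dual.D (R' ⊗[R] A)) (m : ℤ)).mapIso (Rψ'.mapIso a4.symm)⟩

end BC

end Groth.Agent.Lib.H6xSht
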