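import Mathlib
import Groth.Agent.Lib.H6xShtB
import Groth.Agent.Lib.H6xShtD
import Groth.Agent.Lib.H6xShtE
import Groth.Agent.Lib.H6xShkM
import Groth.Agent.Lib.H6xShrB
import Groth.Agent.Lib.H6xLDD
import Groth.Agent.S6943
set_option backward.isDefEq.respectTransparency.types false

/-!
# helper6: the relative dualizing complex `ω_{A/R} = φ^!(R)` of a flat finite type map of Noetherian
rings is a relative dualizing complex (S1795)
-/

set_option autoImplicit false
set_option linter.style.haveILetI false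
set_option maxHeartbeats 400000
universe u

namespace Groth.Agent.Lib.H6xSht

open CategoryTheory CategoryTheory.Limits DerivedCategory TensorProduct MvPolynomial
open Groth.Agent.Lib.Helper1.Extend Groth.Agent.Lib.H6xFBC Groth.Agent.Lib.H6xShk
  Groth.Agent.Lib.Helper17.DCompare
attribute [local instance] HasDerivedCategory.standard

section Aux

/-- a perfect complex has bounded cohomology -/
lemma exists_bound_HD_of_isPerfect {P : Type u} [CommRing P] (X : Dual.D P)
    (h : DRing.IsPerfect P X) :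
    ∃ a b : ℤ, ∀ i : ℤ, (i < a ∨ b < i) → Subsingleton (Dual.HD P X i) := by
  obtain ⟨E, a, b, hab, -, ⟨e⟩⟩ := h
  refine ⟨a, b, fun i hi => ?_⟩
  have hz : IsZero (E.homology i) := ShortComplex.isZero_homology_of_isZero_X₂ _ (hab i hi)
  have hz2 : IsZero ((homologyFunctor (ModuleCat.{u} P) i).obj (Q.obj E)) :=
    hz.of_iso ((homologyFunctorFactors (ModuleCat.{u} P) i).app E)
  exact ModuleCat.subsingleton_of_isZero
    (hz2.of_iso ((homologyFunctor (ModuleCat.{u} P) i).mapIso e.symm))

/-- cohomology of a restricted object -/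
lemma subsingleton_HD_of_restrictD {P A : Type u} [CommRing P] [CommRing A] (ψ : P →+* A)
    (X : Dual.D A) (i : ℤ) (h : Subsingleton (Dual.HD P ((DRing.restrictD ψ).obj X) i)) :
    Subsingleton (Dual.HD A X i) := by
  have e := (homologyMapDIso (ModuleCat.restrictScalars.{u} ψ) X i).toLinearEquiv
  have h2 : Subsingleton ((ModuleCat.restrictScalars.{u} ψ).obj
      ((homologyFunctor (ModuleCat.{u} A) i).obj X)) := e.symm.toEquiv.subsingleton
  exact h2

/-- the derived base change of the unit -/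
theorem nonempty_lbc_inD_iso {R P : Type u} [CommRing R] [CommRing P] [Algebra R P]
    [Module.Flat R P] [DRing.HasLBaseChange (algebraMap R P)] :
    Nonempty ((DRing.LBaseChange (algebraMap R P)).obj (Dual.inD R R) ≅ Dual.inD P P) := by
  obtain ⟨a⟩ := Groth.Agent.Lib.H6xPCDesc.nonempty_lbc_iso_extD (A := R) (B := P) (Dual.inD R R)
  exact ⟨a ≪≫ extDInDIso (A := R) (B := P) R ≪≫
    (DerivedCategory.singleFunctor (ModuleCat.{u} P) 0).mapIso
      (TensorProduct.AlgebraTensorModule.rid R P P).toModuleIso⟩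

end Aux

section Main

variable (R A : Type u) [CommRing R] [CommRing A] [IsNoetherianRing R] [Algebra R A]
  [Module.Flat R A] (n : ℕ) (ψ : MvPolynomial (Fin n) R →ₐ[R] A) (hψ : Function.Surjective ψ)
  [DRing.HasLBaseChange (algebraMap R (MvPolynomial (Fin n) R))]
  (Rψ : Dual.D (MvPolynomial (Fin n) R) ⥤ Dual.D A) (adj : DRing.restrictD ψ.toRingHom ⊣ Rψ)

include hψ adj in
/-- `ω_{A/R}`, restricted to the polynomial ring, is perfect -/
theorem isPerfect_restrictD_shriekVia_self :
    DRing.IsPerfect (MvPolynomial (Fin n) R)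
      ((DRing.restrictD ψ.toRingHom).obj (Dual2.shriekVia n Rψ (Dual.inD R R))) := by
  letI iPA : Algebra (MvPolynomial (Fin n) R) A := ψ.toRingHom.toAlgebra
  haveI tRPA : IsScalarTower R (MvPolynomial (Fin n) R) A :=
    IsScalarTower.of_algebraMap_eq' ψ.comp_algebraMap.symm
  have hperf : DRing.IsPerfectModule (MvPolynomial (Fin n) R) A :=
    isPerfectModule_of_flat R A n hψ
  have hN : DRing.IsPerfect (MvPolynomial (Fin n) R)
      ((DRing.restrictD ψ.toRingHom).obj (DTen.unit A)) :=
    isPerfect_of_iso (Groth.Agent.Lib.H6xPF.NNIsoInD (MvPolynomial (Fin n) R) A).symm hperf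
  have h1 := isPerfect_restrictD_rightAdjoint_unit ψ.toRingHom Rψ adj hN
  obtain ⟨y⟩ := nonempty_lbc_inD_iso (R := R) (P := MvPolynomial (Fin n) R)
  let y' : (DRing.LBaseChange (algebraMap R (MvPolynomial (Fin n) R))).obj (Dual.inD R R) ≅
      DTen.unit (MvPolynomial (Fin n) R) :=
    y ≪≫ (Groth.Agent.Lib.H6xPCev.unitIsoInD (A := MvPolynomial (Fin n) R)).symm
  have h2 : DRing.IsPerfect (MvPolynomial (Fin n) R)
      ((DRing.restrictD ψ.toRingHom).obj (Rψ.obj
        ((DRing.LBaseChange (algebraMap R (MvPolynomial (Fin n) R))).obj (Dual.inD R R)))) :=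
    isPerfect_of_iso ((DRing.restrictD ψ.toRingHom).mapIso (Rψ.mapIso y'.symm)) h1
  exact isPerfect_of_iso (((DRing.restrictD ψ.toRingHom).commShiftIso (n : ℤ)).app _).symm
    (isPerfect_shift h2 (n : ℤ))

include hψ adj in
/-- `ω_{A/R}` is `R`-perfect -/
theorem isRelPerfect_shriekVia_self [IsNoetherianRing A] :
    Dual2.IsRelPerfect R A (Dual2.shriekVia n Rψ (Dual.inD R R)) := by
  have hP := isPerfect_restrictD_shriekVia_self R A n ψ hψ Rψ adj
  constructor
  · -- pseudo-coherence over `A`
    obtain ⟨a, b, hab⟩ := exists_bound_HD_of_isPerfect _ hP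
    have hb : ∃ b : ℤ, ∀ i : ℤ, b < i →
        Subsingleton (Dual.HD A (Dual2.shriekVia n Rψ (Dual.inD R R)) i) :=
      ⟨b, fun i hi => subsingleton_HD_of_restrictD ψ.toRingHom _ i (hab i (Or.inr hi))⟩
    have h0 : ∀ i : ℤ, i < 0 → Subsingleton (Dual.HD R (Dual.inD R R) i) := fun i hi =>
      Groth.Agent.Lib.H6xLD.subsingleton_HD_inD (A := R) R i (by omega)
    have hfin : ∀ i : ℤ, Module.Finite R (Dual.HD R (Dual.inD R R) i) := by
      intro i
      by_cases hi : i = 0
      · subst hi
        exact Module.Finite.equiv (Groth.Agent.Lib.H6xLD.HDInDZeroEquiv (A := R) R).symm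
      · haveI := Groth.Agent.Lib.H6xLD.subsingleton_HD_inD (A := R) R i hi
        infer_instance
    have hcoh := (Groth.Agent.Lib.H6xShr.shriekVia_bounded_below_and_coherent R A n ψ hψ Rψ adj
      (Dual.inD R R) 0 h0).2 hfin
    refine ((Groth.Agent.S6943.result A (fun I _ => Module.finitePresentation_of_finite A I) _
      hb 0).2).2 (fun i => ?_)
    haveI := hcoh i
    exact Module.finitePresentation_of_finite A _
  · -- finite tor dimension over `R`
    obtain ⟨E, a, b, hab, hE, ⟨e⟩⟩ := hP
    have hta : DRing.HasTorAmplitudeIn (MvPolynomial (Fin n) R) a b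
        ((DRing.restrictD ψ.toRingHom).obj (Dual2.shriekVia n Rψ (Dual.inD R R))) :=
      ⟨E, hab, fun i => by
        haveI := (hE i).2
        infer_instance, ⟨e⟩⟩
    have hB : DRing.HasTorAmplitudeIn R (-((0 : ℕ) : ℤ)) 0 (Dual.inD R (MvPolynomial (Fin n) R)) :=
      (Groth.Agent.Lib.Helper1.TorDim.hasTorDimLE_iff_hasTorAmp (MvPolynomial (Fin n) R) 0).1
        ((Groth.Agent.Lib.Helper1.TorDim.hasTorDimLE_zero_iff_flat (MvPolynomial (Fin n) R)).2
          inferInstance)
    have h3 := Groth.Agent.Lib.Helper1.TorDim.hasTorAmp_restrictD 0 hB _ a b hta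
    have hcomp : ψ.toRingHom.comp (algebraMap R (MvPolynomial (Fin n) R)) = algebraMap R A :=
      ψ.comp_algebraMap
    exact ⟨_, _, Groth.Agent.Lib.Helper1.Tor.hasTorAmp_of_iso
      ((restrictDComp (algebraMap R (MvPolynomial (Fin n) R)) ψ.toRingHom ≪≫
        restrictDCongr hcomp).app _) h3⟩

end Main

end Groth.Agent.Lib.H6xSht
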