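import Mathlib
import Groth.Agent.Lib.H6xPrjD
import Groth.Agent.Lib.H6xShtF
import Groth.Agent.Lib.H6xDTenDualB
set_option backward.isDefEq.respectTransparency.types false

/-!
# helper6: `φ^!(K) ≅ (K ⊗ᴸ_R A) ⊗ᴸ_A ω_{A/R}` for a flat finite type map of Noetherian rings
-/

set_option autoImplicit false
set_option linter.style.haveILetI false
set_option maxHeartbeats 800000
universe u
open CategoryTheory CategoryTheory.Limits MonoidalCategory
attribute [local instance] HasDerivedCategory.standard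

namespace Groth.Agent.Lib.H6xPrj

open DTen DerivedCategory Groth.Agent.Lib.Helper1.KF Groth.Agent.Lib.Helper1.DT
  Groth.Agent.Lib.H6xDTen Groth.Agent.Lib.H6xPF Groth.Agent.Lib.H6xTB

attribute [local instance] monoidalD

/-- `Rφ(M) ≅ Rφ(1) ⊗ᴸ L M` when `res 1` is perfect -/
theorem nonempty_rightAdjoint_iso_tensor {R R' : Type u} [CommRing R] [CommRing R'] (φ : R →+* R')
    [HasLTen R] [HasLTen₃ R] [IsSymMonoidal R] [HasLTen R'] [HasLTen₃ R'] [IsSymMonoidal R']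
    (hN : DRing.IsPerfect R (NN φ))
    {L : Dual.D R ⥤ Dual.D R'} (adjL : L ⊣ rD φ)
    {Rφ : Dual.D R ⥤ Dual.D R'} (adj : rD φ ⊣ Rφ) (M : Dual.D R) :
    Nonempty (tO (Rφ.obj (DTen.unit R)) (L.obj M) ≅ Rφ.obj M) := by
  haveI : HasResTen φ := hasResTen φ
  haveI : ResLegIso φ := resLegIso φ
  obtain ⟨D, ⟨hp⟩⟩ := exists_exactPairing_left_of_isPerfect _ hN
  letI := hp
  haveI := isIso_τM φ adjL adj D M
  exact ⟨asIso (τM φ adjL adj M)⟩

section Shriek

open TensorProduct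

/-- the upper shriek of a flat finite type map is `(K ⊗ᴸ_R A) ⊗ᴸ_A ω_{A/R}` -/
theorem shriekVia_iso_baseChange_tensor (R A : Type u) [CommRing R] [CommRing A]
    [IsNoetherianRing R] [Algebra R A] [Module.Flat R A] (n : ℕ)
    (ψ : MvPolynomial (Fin n) R →ₐ[R] A) (hψ : Function.Surjective ψ)
    [DRing.HasLBaseChange (algebraMap R (MvPolynomial (Fin n) R))]
    (Rψ : Dual.D (MvPolynomial (Fin n) R) ⥤ Dual.D A) (adj : DRing.restrictD ψ.toRingHom ⊣ Rψ)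
    (W : DRing.Cx A)
    (hW : Nonempty (DRing.toD W ≅ Dual2.shriekVia n Rψ (Dual.inD R R)))
    [DRing.HasLBaseChange (algebraMap R A)] [DRing.HasLTensorCx A W] (K : Dual.D R) :
    Nonempty (Dual2.shriekVia n Rψ K ≅
      (DRing.LTensorCx A W).obj ((DRing.LBaseChange (algebraMap R A)).obj K)) := by
  haveI : HasLTen (MvPolynomial (Fin n) R) := Groth.Agent.Lib.H6xUnc.hasLTen _
  haveI : HasLTen₃ (MvPolynomial (Fin n) R) := Groth.Agent.Lib.H6xUnc.hasLTen₃ _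
  haveI : IsSymMonoidal (MvPolynomial (Fin n) R) := Groth.Agent.Lib.H6xUnc.isSymMonoidal _
  haveI : HasLTen A := Groth.Agent.Lib.H6xUnc.hasLTen _
  haveI : HasLTen₃ A := Groth.Agent.Lib.H6xUnc.hasLTen₃ _
  haveI : IsSymMonoidal A := Groth.Agent.Lib.H6xUnc.isSymMonoidal _
  haveI : DRing.HasLBaseChange ψ.toRingHom := Groth.Agent.Lib.H6xHasLDerRing.hasLBaseChange _
  obtain ⟨adjL, -, -⟩ := Groth.Agent.Lib.H6xBC.exists_adj ψ.toRingHom
  -- perfectness of `A` over `P`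
  letI iPA : Algebra (MvPolynomial (Fin n) R) A := ψ.toRingHom.toAlgebra
  haveI tRPA : IsScalarTower R (MvPolynomial (Fin n) R) A :=
    IsScalarTower.of_algebraMap_eq' ψ.comp_algebraMap.symm
  have hperf := Groth.Agent.Lib.H6xSht.isPerfectModule_of_flat R A n
    (show Function.Surjective (algebraMap (MvPolynomial (Fin n) R) A) from hψ)
  have hN : DRing.IsPerfect (MvPolynomial (Fin n) R) (NN ψ.toRingHom) := by
    obtain ⟨E, a, b, hab, hE, ⟨e⟩⟩ := hperf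
    exact ⟨E, a, b, hab, hE, ⟨e ≪≫ (NNIsoInD (MvPolynomial (Fin n) R) A).symm⟩⟩
  -- the main isomorphism
  obtain ⟨e1⟩ := nonempty_rightAdjoint_iso_tensor ψ.toRingHom hN adjL adj
    ((DRing.LBaseChange (algebraMap R (MvPolynomial (Fin n) R))).obj K)
  obtain ⟨eW⟩ := hW
  obtain ⟨u1⟩ := Groth.Agent.Lib.H6xSht.nonempty_lbc_inD_iso (R := R) (P := MvPolynomial (Fin n) R)
  let u2 : DTen.unit (MvPolynomial (Fin n) R) ≅
      Dual.inD (MvPolynomial (Fin n) R) (MvPolynomial (Fin n) R) :=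
    Groth.Agent.Lib.H6xPCev.unitIsoInD
  let eω : (Rψ.obj (DTen.unit (MvPolynomial (Fin n) R)))⟦(n : ℤ)⟧ ≅ Q.obj W :=
    (shiftFunctor (Dual.D A) (n : ℤ)).mapIso (Rψ.mapIso (u2 ≪≫ u1.symm)) ≪≫ eW.symm
  obtain ⟨s⟩ := nonempty_tO_shift_left (Rψ.obj (DTen.unit (MvPolynomial (Fin n) R)))
    ((DRing.LBaseChange ψ.toRingHom).obj
      ((DRing.LBaseChange (algebraMap R (MvPolynomial (Fin n) R))).obj K)) (n : ℤ)
  have hcomp : algebraMap R A = ψ.toRingHom.comp (algebraMap R (MvPolynomial (Fin n) R)) :=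
    ψ.comp_algebraMap.symm
  obtain ⟨c⟩ := Groth.Agent.Lib.H6xSht.nonempty_lbc_comp
    (algebraMap R (MvPolynomial (Fin n) R)) ψ.toRingHom (algebraMap R A) hcomp
  obtain ⟨t⟩ := nonempty_LTensorCx_iso W ((DRing.LBaseChange (algebraMap R A)).obj K)
  exact ⟨(shiftFunctor (Dual.D A) (n : ℤ)).mapIso e1.symm ≪≫ s.symm ≪≫
    asIso (tH eω.hom (𝟙 _)) ≪≫ DTen.braiding _ _ ≪≫ asIso (tH (c.hom.app K) (𝟙 (Q.obj W))) ≪≫
    t.symm⟩

end Shriek

end Groth.Agent.Lib.H6xPrj
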