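import Groth.Agent.Lib.Helper20QuotAff

/-!
# Quotients by finite groups: transport along open immersions and gluing over a basis (helper6)
-/

set_option autoImplicit false
universe u
open CategoryTheory AlgebraicGeometry TopologicalSpace

namespace Groth.Agent.Lib.H6xProjQuot

open Groth.Agent.Lib.Helper20 SGA1

section transport

variable {X Y X' Y' : Scheme.{u}} {ι : Type u} (σ : ι → (X ⟶ X)) (p : X ⟶ Y)
  (σ' : ι → (X' ⟶ X')) (p' : X' ⟶ Y') (j : X' ⟶ X) (j' : Y' ⟶ Y)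
  [IsOpenImmersion j] [IsOpenImmersion j']

theorem appLE_image_top_bijective : Function.Bijective
    (j.appLE (j ''ᵁ ⊤) ⊤ (j.preimage_image_eq ⊤).ge).hom := by
  rw [← Scheme.Hom.appIso_hom']
  exact ConcreteCategory.bijective_of_isIso (j.appIso ⊤).hom

theorem quotAt_of_openImmersion (hp : j ≫ p = p' ≫ j') (hσ : ∀ i, j ≫ σ i = σ' i ≫ j)
    (h : QuotAt σ' p' ⊤ ⊤) : QuotAt σ p (j' ''ᵁ ⊤) (j ''ᵁ ⊤) := by
  obtain ⟨e', eσ', hinj, hrange⟩ := h
  have e : j ''ᵁ ⊤ ≤ p ⁻¹ᵁ (j' ''ᵁ ⊤) := by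
    rintro _ ⟨x, -, rfl⟩
    refine ⟨p'.base x, trivial, ?_⟩
    have := congrArg (fun f => f.base x) hp
    simpa using this.symm
  have eσ : ∀ i, j ''ᵁ ⊤ ≤ σ i ⁻¹ᵁ (j ''ᵁ ⊤) := by
    intro i
    rintro _ ⟨x, -, rfl⟩
    refine ⟨(σ' i).base x, trivial, ?_⟩
    have := congrArg (fun f => f.base x) (hσ i)
    simpa using this.symm
  refine ⟨e, eσ, ?_, ?_⟩
  · -- injectivity
    have h1 : p.appLE (j' ''ᵁ ⊤) (j ''ᵁ ⊤) e ≫ j.appLE (j ''ᵁ ⊤) ⊤ (j.preimage_image_eq ⊤).ge =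
        j'.appLE (j' ''ᵁ ⊤) ⊤ (j'.preimage_image_eq ⊤).ge ≫ p'.appLE ⊤ ⊤ e' := by
      rw [Scheme.Hom.appLE_comp_appLE, Scheme.Hom.appLE_comp_appLE]
      exact appLE_congr_hom hp _ _ _
    intro a b hab
    have h2 := congrArg (fun f => f.hom a) h1
    have h3 := congrArg (fun f => f.hom b) h1
    simp only [CommRingCat.hom_comp, RingHom.comp_apply] at h2 h3
    rw [hab, h3] at h2
    exact (appLE_image_top_bijective j').1 (hinj h2.symm)
  · intro s hs
    have h1 : p.appLE (j' ''ᵁ ⊤) (j ''ᵁ ⊤) e ≫ j.appLE (j ''ᵁ ⊤) ⊤ (j.preimage_image_eq ⊤).ge =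
        j'.appLE (j' ''ᵁ ⊤) ⊤ (j'.preimage_image_eq ⊤).ge ≫ p'.appLE ⊤ ⊤ e' := by
      rw [Scheme.Hom.appLE_comp_appLE, Scheme.Hom.appLE_comp_appLE]
      exact appLE_congr_hom hp _ _ _
    have h2 : ∀ i, (σ i).appLE (j ''ᵁ ⊤) (j ''ᵁ ⊤) (eσ i) ≫
        j.appLE (j ''ᵁ ⊤) ⊤ (j.preimage_image_eq ⊤).ge =
        j.appLE (j ''ᵁ ⊤) ⊤ (j.preimage_image_eq ⊤).ge ≫ (σ' i).appLE ⊤ ⊤ (eσ' i) := by
      intro i
      rw [Scheme.Hom.appLE_comp_appLE, Scheme.Hom.appLE_comp_appLE]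
      exact appLE_congr_hom (hσ i) _ _ _
    set α := (j.appLE (j ''ᵁ ⊤) ⊤ (j.preimage_image_eq ⊤).ge).hom with hα
    have h3 : ∀ i, ((σ' i).appLE ⊤ ⊤ (eσ' i)).hom (α s) = α s := by
      intro i
      have := congrArg (fun f => f.hom s) (h2 i)
      simp only [CommRingCat.hom_comp, RingHom.comp_apply] at this
      rw [← this, hs i]
    obtain ⟨t, ht⟩ := hrange (α s) h3
    obtain ⟨t', rfl⟩ := (appLE_image_top_bijective j').2 t
    refine ⟨t', ?_⟩
    apply (appLE_image_top_bijective j).1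
    have := congrArg (fun f => f.hom t') h1
    simp only [CommRingCat.hom_comp, RingHom.comp_apply] at this
    rw [this, ht]

end transport

section glue

variable {X Y : Scheme.{u}} {ι : Type u} {σ : ι → (X ⟶ X)} {p : X ⟶ Y}

/-- gluing the quotient conditions from a basis of opens (stable under pairwise intersections, as
far as the conditions go) to all opens. -/
theorem quotAt_of_basis (hσ : ∀ i, σ i ≫ p = p) (𝓑 : Set Y.Opens) (hB : Opens.IsBasis 𝓑)
    (hb : ∀ W ∈ 𝓑, QuotAt σ p W (p ⁻¹ᵁ W))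
    (hbb : ∀ W ∈ 𝓑, ∀ W' ∈ 𝓑, QuotAt σ p (W ⊓ W') (p ⁻¹ᵁ (W ⊓ W'))) (U : Y.Opens) :
    QuotAt σ p U (p ⁻¹ᵁ U) := by
  have eσ : ∀ (W : Y.Opens) (i : ι), p ⁻¹ᵁ W ≤ σ i ⁻¹ᵁ (p ⁻¹ᵁ W) := by
    intro W i
    rw [← Scheme.Hom.comp_preimage, hσ i]
  let J := {W : Y.Opens // W ∈ 𝓑 ∧ W ≤ U}
  let V : J → Y.Opens := fun j => j.1
  have hVU : ∀ j : J, V j ≤ U := fun j => j.2.2
  have hcover : U ≤ iSup V := by
    intro y hy
    obtain ⟨W, hW, hyW, hWU⟩ := Opens.isBasis_iff_nbhd.mp hB hy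
    exact Opens.mem_iSup.mpr ⟨⟨W, hW, hWU⟩, hyW⟩
  have hcover' : p ⁻¹ᵁ U ≤ iSup (fun j : J => p ⁻¹ᵁ V j) := by
    intro x hx
    obtain ⟨j, hj⟩ := Opens.mem_iSup.mp (hcover (show p.base x ∈ U from hx))
    exact Opens.mem_iSup.mpr ⟨j, hj⟩
  have hb' : ∀ j : J, QuotAt σ p (V j) (p ⁻¹ᵁ V j) := fun j => hb j.1 j.2.1
  have hbb' : ∀ j k : J, QuotAt σ p (V j ⊓ V k) (p ⁻¹ᵁ (V j ⊓ V k)) :=
    fun j k => hbb j.1 j.2.1 k.1 k.2.1
  have hres : ∀ (W W' : Y.Opens) (hWW' : W' ≤ W) (a : Γ(Y, W)),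
      (p.app W').hom ((Y.presheaf.map (homOfLE hWW').op).hom a) =
        (X.presheaf.map (homOfLE (p.preimage_mono hWW')).op).hom ((p.app W).hom a) := by
    intro W W' hWW' a
    exact congrArg (fun f => f.hom a) (p.naturality (homOfLE hWW').op)
  have hresσ : ∀ (W W' : Y.Opens) (hWW' : W' ≤ W) (i : ι) (t : Γ(X, p ⁻¹ᵁ W)),
      ((σ i).appLE _ _ (eσ W' i)).hom ((X.presheaf.map (homOfLE (p.preimage_mono hWW')).op).hom t) =
        (X.presheaf.map (homOfLE (p.preimage_mono hWW')).op).hom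
          (((σ i).appLE _ _ (eσ W i)).hom t) := by
    intro W W' hWW' i t
    have h1 : X.presheaf.map (homOfLE (p.preimage_mono hWW')).op ≫ (σ i).appLE _ _ (eσ W' i) =
        (σ i).appLE _ _ (eσ W i) ≫ X.presheaf.map (homOfLE (p.preimage_mono hWW')).op := by
      rw [Scheme.Hom.map_appLE, Scheme.Hom.appLE_map]
    exact congrArg (fun f => f.hom t) h1
  have happ : ∀ (W : Y.Opens) (hW : QuotAt σ p W (p ⁻¹ᵁ W)),
      Function.Injective (p.app W).hom ∧ ∀ s : Γ(X, p ⁻¹ᵁ W),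
        (∀ i, ((σ i).appLE _ _ (eσ W i)).hom s = s) → s ∈ Set.range (p.app W).hom := by
    rintro W ⟨e, eσ', hinj, hrange⟩
    rw [Scheme.Hom.app_eq_appLE]
    exact ⟨hinj, hrange⟩
  refine ⟨le_rfl, eσ U, ?_, ?_⟩
  · rw [Scheme.Hom.appLE_eq_app, injective_iff_map_eq_zero]
    intro s hs
    fapply Y.sheaf.eq_of_locally_eq' V U (fun j => homOfLE (hVU j)) hcover
    intro j
    change (Y.presheaf.map (homOfLE (hVU j)).op).hom s = (Y.presheaf.map (homOfLE (hVU j)).op).hom 0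
    rw [map_zero]
    apply (happ _ (hb' j)).1
    rw [map_zero, hres U (V j) (hVU j) s, hs, map_zero]
  · intro t ht
    rw [Scheme.Hom.appLE_eq_app]
    have h1 : ∀ j : J, ∃ s : Γ(Y, V j), (p.app (V j)).hom s =
        (X.presheaf.map (homOfLE (p.preimage_mono (hVU j))).op).hom t := by
      intro j
      apply (happ _ (hb' j)).2
      intro i
      rw [hresσ U (V j) (hVU j) i t, ht i]
    choose sf hsf using h1
    have hcompat : TopCat.Presheaf.IsCompatible Y.presheaf V sf := by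
      intro j k
      apply (happ _ (hbb' j k)).1
      change (p.app (V j ⊓ V k)).hom ((Y.presheaf.map (homOfLE inf_le_left).op).hom (sf j)) =
        (p.app (V j ⊓ V k)).hom ((Y.presheaf.map (homOfLE inf_le_right).op).hom (sf k))
      rw [hres (V j) (V j ⊓ V k) inf_le_left, hres (V k) (V j ⊓ V k) inf_le_right, hsf, hsf]
      change (X.presheaf.map _ ≫ X.presheaf.map _).hom t = (X.presheaf.map _ ≫ X.presheaf.map _).hom t
      rw [← X.presheaf.map_comp, ← X.presheaf.map_comp]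
      rfl
    obtain ⟨s, hs, -⟩ := Y.sheaf.existsUnique_gluing' V U (fun j => homOfLE (hVU j)) hcover sf hcompat
    refine ⟨s, ?_⟩
    fapply X.sheaf.eq_of_locally_eq' (fun j : J => p ⁻¹ᵁ V j) (p ⁻¹ᵁ U)
      (fun j => homOfLE (p.preimage_mono (hVU j))) hcover'
    intro j
    change (X.presheaf.map (homOfLE (p.preimage_mono (hVU j))).op).hom ((p.app U).hom s) =
      (X.presheaf.map (homOfLE (p.preimage_mono (hVU j))).op).hom t
    rw [← hres U (V j) (hVU j) s, ← hsf j]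
    congr 1
    exact hs j

/-- `IsQuot` from the quotient conditions on all opens. -/
theorem isQuot_of_quotAt {G : Type u} [Group G] (ρ : G →* Aut X)
    (haff : IsAffineHom p) (hinv : ∀ g : G, (ρ g).hom ≫ p = p)
    (hall : ∀ U : Y.Opens, QuotAt (fun g : G => (ρ g).hom) p U (p ⁻¹ᵁ U)) : IsQuot ρ p := by
  refine ⟨haff, hinv, fun U => ?_, fun U s => ⟨?_, ?_⟩⟩
  · obtain ⟨e, eσ, hinj, -⟩ := hall U
    rw [Scheme.Hom.appLE_eq_app] at hinj
    exact hinj
  · rintro ⟨a, rfl⟩ g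
    have := appLE_invariant (σ := fun g : G => (ρ g).hom) hinv U (p ⁻¹ᵁ U) le_rfl g
      (preimage_le_of_inv ρ p hinv g U) a
    rw [Scheme.Hom.appLE_eq_app] at this
    exact this
  · intro hs
    obtain ⟨e, eσ, -, hrange⟩ := hall U
    have := hrange s hs
    rw [Scheme.Hom.appLE_eq_app] at this
    exact this

end glue

section spec

/-- the quotient conditions at the top level for a map of affine schemes. -/
theorem quotAt_spec {ι : Type u} {R S : CommRingCat.{u}} (φ : R ⟶ S) (τ : ι → (S ⟶ S))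
    (hinj : Function.Injective φ.hom)
    (hrange : ∀ s : S, (∀ i, (τ i).hom s = s) → s ∈ Set.range φ.hom) :
    QuotAt (fun i => Spec.map (τ i)) (Spec.map φ) ⊤ ⊤ := by
  refine ⟨fun _ _ => trivial, fun _ _ _ => trivial, ?_, ?_⟩
  · rw [appLE_top_top]
    have h1 : (Spec.map φ).appTop =
        (Scheme.ΓSpecIso R).hom ≫ φ ≫ (Scheme.ΓSpecIso S).inv := by
      rw [← Category.assoc, ← Scheme.ΓSpecIso_naturality, Category.assoc, Iso.hom_inv_id,
        Category.comp_id]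
    rw [h1, CommRingCat.hom_comp, CommRingCat.hom_comp, RingHom.coe_comp, RingHom.coe_comp]
    exact ((ConcreteCategory.bijective_of_isIso (Scheme.ΓSpecIso S).inv).injective.comp
      hinj).comp (ConcreteCategory.bijective_of_isIso (Scheme.ΓSpecIso R).hom).injective
  · intro s hs
    rw [appLE_top_top]
    have hfix : ∀ i, (τ i).hom ((Scheme.ΓSpecIso S).hom.hom s) = (Scheme.ΓSpecIso S).hom.hom s := by
      intro i
      have h2 := hs i
      rw [appLE_top_top] at h2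
      have h3 := congrArg (fun f => f.hom s) (Scheme.ΓSpecIso_naturality (τ i))
      simp only [CommRingCat.hom_comp, RingHom.comp_apply] at h3
      change (Spec.map (τ i)).appTop.hom s = s at h2
      rw [h2] at h3
      exact h3.symm
    obtain ⟨b, hb⟩ := hrange _ hfix
    refine ⟨(Scheme.ΓSpecIso R).inv.hom b, ?_⟩
    have h4 := congrArg (fun f => f.hom b) (Scheme.ΓSpecIso_inv_naturality φ)
    simp only [CommRingCat.hom_comp, RingHom.comp_apply] at h4
    rw [← h4, hb]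
    exact congrArg (fun f => f.hom s) (Scheme.ΓSpecIso S).hom_inv_id

end spec

end Groth.Agent.Lib.H6xProjQuot
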