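import Mathlib

/-!
# Invariants of homogeneous localizations under a finite group (helper6)
-/

set_option autoImplicit false
universe u
open HomogeneousLocalization

namespace Groth.Agent.Lib.H6xProjQuot

section general

variable {A B : Type u} [CommRing A] [CommRing B] {σA σB : Type*}
  [SetLike σA A] [AddSubgroupClass σA A] [SetLike σB B] [AddSubgroupClass σB B]
  {𝒜 : ℕ → σA} {ℬ : ℕ → σB} [GradedRing 𝒜] [GradedRing ℬ]

/-- compatibility of `HomogeneousLocalization.map` with the map on ordinary localizations. -/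
theorem val_map (g : 𝒜 →+*ᵍ ℬ) {P : Submonoid A} {Q : Submonoid B} (h : P ≤ Q.comap g)
    (x : HomogeneousLocalization 𝒜 P) :
    (HomogeneousLocalization.map g h x).val =
      IsLocalization.map (Localization Q) g.toRingHom h x.val := by
  obtain ⟨c, rfl⟩ := x.mk_surjective
  rw [HomogeneousLocalization.map_mk, HomogeneousLocalization.val_mk,
    HomogeneousLocalization.val_mk, Localization.mk_eq_mk', Localization.mk_eq_mk',
    IsLocalization.map_mk']
  rfl

theorem algebraMap_comp_away_map (g : 𝒜 →+*ᵍ ℬ) (f : A) :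
    (algebraMap (Away ℬ (g f)) (Localization.Away (g f))).comp (Away.map g f) =
      (Localization.awayMap g.toRingHom f).comp
        (algebraMap (Away 𝒜 f) (Localization.Away f)) := by
  ext x
  simp only [RingHom.comp_apply]
  exact val_map g _ x

end general

section invariants

variable {R A : Type u} [CommRing R] [CommRing A] [Algebra R A] (𝒜 : ℕ → Submodule R A)
  [GradedAlgebra 𝒜]
  {G : Type u} [Group G] [MulSemiringAction G A]
  (hGdeg : ∀ (σ : G) (i : ℕ) (a : A), a ∈ 𝒜 i → σ • a ∈ 𝒜 i)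
  {C : Type u} [CommRing C] [Algebra R C] (𝒞 : ℕ → Submodule R C) [GradedAlgebra 𝒞]
  (ι : C →ₐ[R] A)
  (hιdeg : ∀ (i : ℕ) (a : A), a ∈ (𝒞 i).map ι.toLinearMap ↔ (a ∈ 𝒜 i ∧ ∀ σ : G, σ • a = a))

/-- `ι` as a graded ring hom -/
def gι : 𝒞 →+*ᵍ 𝒜 where
  toRingHom := ι.toRingHom
  map_mem {i x} hx := ((hιdeg i (ι x)).mp ⟨x, hx, rfl⟩).1

/-- the action of `σ` as a graded ring hom -/
def gσ (σ : G) : 𝒜 →+*ᵍ 𝒜 where
  toRingHom := MulSemiringAction.toRingHom G A σ
  map_mem {i x} hx := hGdeg σ i x hx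

theorem gι_apply (c : C) : gι 𝒜 𝒞 ι hιdeg c = ι c := rfl

theorem gσ_apply (σ : G) (a : A) : gσ 𝒜 hGdeg σ a = σ • a := rfl

include hιdeg in
theorem ι_fixed (σ : G) {n : ℕ} {c : C} (hc : c ∈ 𝒞 n) : σ • ι c = ι c :=
  ((hιdeg n (ι c)).mp ⟨c, hc, rfl⟩).2 σ

include hιdeg in
theorem ι_mem {n : ℕ} {c : C} (hc : c ∈ 𝒞 n) : ι c ∈ 𝒜 n :=
  ((hιdeg n (ι c)).mp ⟨c, hc, rfl⟩).1

/-- the endomorphism of `Away 𝒜 f` induced by `σ`, for invariant `f` -/
def thetaSigma (σ : G) (f : A) (hf : σ • f = f) : Away 𝒜 f →+* Away 𝒜 f :=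
  HomogeneousLocalization.map (gσ 𝒜 hGdeg σ) (by
    rintro _ ⟨n, rfl⟩
    exact ⟨n, by rw [map_pow, gσ_apply, hf]⟩)

theorem thetaSigma_mk (σ : G) (f : A) (hf : σ • f = f) {d : ℕ} (hfd : f ∈ 𝒜 d) (k : ℕ) (a : A)
    (ha : a ∈ 𝒜 (k • d)) :
    thetaSigma 𝒜 hGdeg σ f hf (Away.mk 𝒜 hfd k a ha) =
      Away.mk 𝒜 hfd k (σ • a) (hGdeg σ _ a ha) := by
  apply HomogeneousLocalization.val_injective
  unfold thetaSigma
  rw [Away.mk, HomogeneousLocalization.map_mk, HomogeneousLocalization.val_mk, Away.val_mk]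
  refine congrArg₂ Localization.mk rfl (Subtype.ext ?_)
  change σ • (f ^ k) = f ^ k
  rw [smul_pow', hf]

variable (hι : Function.Injective ι)

include hι in
theorem theta_injective {n : ℕ} (c : C) (hc : c ∈ 𝒞 n) :
    Function.Injective (Away.map (gι 𝒜 𝒞 ι hιdeg) c) := by
  rw [injective_iff_map_eq_zero]
  intro x hx
  obtain ⟨k, a, ha, rfl⟩ := Away.mk_surjective 𝒞 hc x
  rw [Away.map_mk] at hx
  have h1 := congrArg HomogeneousLocalization.val hx
  rw [Away.val_mk, HomogeneousLocalization.val_zero, ← Localization.mk_zero 1,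
    Localization.mk_eq_mk_iff, Localization.r_iff_exists] at h1
  obtain ⟨⟨_, m, rfl⟩, hm⟩ := h1
  simp only [OneMemClass.coe_one, one_mul, mul_zero] at hm
  rw [gι_apply, gι_apply, ← map_pow, ← map_mul, ← map_zero ι] at hm
  have h2 := hι hm
  apply HomogeneousLocalization.val_injective
  rw [Away.val_mk, HomogeneousLocalization.val_zero, ← Localization.mk_zero 1,
    Localization.mk_eq_mk_iff, Localization.r_iff_exists]
  refine ⟨⟨c ^ m, m, rfl⟩, ?_⟩
  simp only [OneMemClass.coe_one, one_mul, mul_zero]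
  exact h2

include hιdeg in
theorem theta_range [Finite G] {n : ℕ} (c : C) (hc : c ∈ 𝒞 n) (s : Away 𝒜 (ι c))
    (hs : ∀ σ : G, thetaSigma 𝒜 hGdeg σ (ι c) (ι_fixed 𝒜 𝒞 ι hιdeg σ hc) s = s) :
    s ∈ Set.range (Away.map (gι 𝒜 𝒞 ι hιdeg) c) := by
  classical
  have hfd : ι c ∈ 𝒜 n := ι_mem 𝒜 𝒞 ι hιdeg hc
  obtain ⟨k, a, ha, rfl⟩ := Away.mk_surjective 𝒜 hfd s
  have h1 : ∀ σ : G, ∃ m : ℕ, (ι c) ^ m * (σ • a) = (ι c) ^ m * a := by
    intro σ
    have h2 := hs σ
    rw [thetaSigma_mk] at h2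
    have h3 := congrArg HomogeneousLocalization.val h2
    rw [Away.val_mk, Away.val_mk, Localization.mk_eq_mk_iff, Localization.r_iff_exists] at h3
    obtain ⟨⟨_, m, rfl⟩, hm⟩ := h3
    refine ⟨m + k, ?_⟩
    simp only at hm
    rw [pow_add, mul_assoc, mul_assoc]
    exact hm
  choose m hm using h1
  haveI := Fintype.ofFinite G
  let M := Finset.univ.sup m
  have hM : ∀ σ : G, (ι c) ^ M * (σ • a) = (ι c) ^ M * a := by
    intro σ
    have hle : m σ ≤ M := Finset.le_sup (Finset.mem_univ σ)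
    obtain ⟨d, hd⟩ := Nat.exists_eq_add_of_le hle
    rw [hd, pow_add, mul_comm ((ι c) ^ m σ), mul_assoc, mul_assoc, hm σ]
  have ha' : (ι c) ^ M * a ∈ 𝒜 ((M + k) • n) := by
    rw [add_smul]
    exact SetLike.mul_mem_graded (SetLike.pow_mem_graded M hfd) ha
  have hinv : ∀ σ : G, σ • ((ι c) ^ M * a) = (ι c) ^ M * a := by
    intro σ
    rw [smul_mul', smul_pow', ι_fixed 𝒜 𝒞 ι hιdeg σ hc, hM σ]
  obtain ⟨c', hc', hc'a⟩ := (hιdeg ((M + k) • n) _).mpr ⟨ha', hinv⟩
  refine ⟨Away.mk 𝒞 hc (M + k) c' hc', ?_⟩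
  rw [Away.map_mk]
  apply HomogeneousLocalization.val_injective
  show Localization.mk (ι c') (⟨(ι c) ^ (M + k), M + k, rfl⟩ : Submonoid.powers (ι c)) =
    Localization.mk a (⟨(ι c) ^ k, k, rfl⟩ : Submonoid.powers (ι c))
  rw [Localization.mk_eq_mk_iff, Localization.r_iff_exists]
  refine ⟨1, ?_⟩
  simp only [OneMemClass.coe_one, one_mul]
  have : ι c' = (ι c) ^ M * a := hc'a
  rw [this]
  ring

end invariants

section cover

open DirectSum

variable {R A : Type u} [CommRing R] [CommRing A] [Algebra R A] (𝒜 : ℕ → Submodule R A)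
  [GradedAlgebra 𝒜]
  {G : Type u} [Group G] [MulSemiringAction G A]
  (hGdeg : ∀ (σ : G) (i : ℕ) (a : A), a ∈ 𝒜 i → σ • a ∈ 𝒜 i)

include hGdeg in
theorem smul_decompose (σ : G) (a : A) (i : ℕ) :
    σ • (decompose 𝒜 a i : A) = (decompose 𝒜 (σ • a) i : A) := by
  classical
  induction a using DirectSum.Decomposition.inductionOn 𝒜 with
  | zero => simp
  | @homogeneous j m =>
    have hm : σ • (m : A) ∈ 𝒜 j := hGdeg σ j m m.2
    by_cases hij : i = j
    · subst hij
      rw [decompose_of_mem_same 𝒜 m.2, decompose_of_mem_same 𝒜 hm]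
    · rw [decompose_of_mem_ne 𝒜 m.2 (Ne.symm hij), decompose_of_mem_ne 𝒜 hm (Ne.symm hij),
        smul_zero]
  | add m m' h h' =>
    rw [decompose_add, DirectSum.add_apply, Submodule.coe_add, smul_add, h, h', smul_add,
      decompose_add, DirectSum.add_apply, Submodule.coe_add]

include hGdeg in
/-- A homogeneous element of positive degree lies in every prime ideal containing all invariant
homogeneous elements of positive degree. -/
theorem mem_of_invariants_mem [Finite G] (P : Ideal A) [P.IsPrime]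
    (hP : ∀ (n : ℕ) (b : A), 0 < n → b ∈ 𝒜 n → (∀ σ : G, σ • b = b) → b ∈ P)
    {d : ℕ} (hd : 0 < d) {f : A} (hf : f ∈ 𝒜 d) : f ∈ P := by
  classical
  haveI := Fintype.ofFinite G
  set Q := MulSemiringAction.charpoly G f with hQ
  set N := Q.natDegree with hN
  have hmonic : Q.Monic := MulSemiringAction.monic_charpoly G f
  have heval : Q.eval f = 0 := MulSemiringAction.eval_charpoly G f
  rw [Polynomial.eval_eq_sum_range, Finset.sum_range_succ] at heval
  have hlead : Q.coeff N = 1 := hmonic.coeff_natDegree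
  rw [hlead, one_mul] at heval
  -- take the component of degree N * d
  have h1 := congrArg (GradedRing.proj 𝒜 (N * d)) heval
  rw [map_add, map_sum, map_zero] at h1
  have hfN : f ^ N ∈ 𝒜 (N * d) := by
    have := SetLike.pow_mem_graded N hf
    rwa [smul_eq_mul] at this
  rw [GradedRing.proj_apply 𝒜 (N * d) (f ^ N), decompose_of_mem_same 𝒜 hfN] at h1
  have h2 : f ^ N = - ∑ k ∈ Finset.range N, ((decompose 𝒜 (Q.coeff k * f ^ k)) (N * d) : A) := by
    rw [eq_neg_iff_add_eq_zero, add_comm]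
    rw [← h1]
    rfl
  apply Ideal.IsPrime.mem_of_pow_mem ‹P.IsPrime› N
  rw [h2]
  apply neg_mem
  refine Ideal.sum_mem _ fun k hk => ?_
  have hk' : k < N := Finset.mem_range.mp hk
  have hfk : f ^ k ∈ 𝒜 (k * d) := by
    have := SetLike.pow_mem_graded k hf
    rwa [smul_eq_mul] at this
  have h3 : ((decompose 𝒜 (Q.coeff k * f ^ k)) (N * d) : A) =
      (decompose 𝒜 (Q.coeff k) ((N - k) * d) : A) * f ^ k := by
    have h4 : N * d = (N - k) * d + k * d := by
      rw [← add_mul, Nat.sub_add_cancel hk'.le]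
    rw [h4]
    exact coe_decompose_mul_add_of_right_mem 𝒜 hfk
  rw [h3]
  apply Ideal.mul_mem_right
  apply hP ((N - k) * d) _ (Nat.mul_pos (Nat.sub_pos_of_lt hk') hd) (Submodule.coe_mem _)
  intro σ
  rw [smul_decompose 𝒜 hGdeg, MulSemiringAction.smul_coeff_charpoly]

end cover

end Groth.Agent.Lib.H6xProjQuot
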