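import Groth.Agent.Lib.H6xProjQuotA
import Groth.Agent.Lib.H6xProjQuotB

/-!
# `Proj B → Proj B^G` is a quotient by the finite group `G` (helper6)
-/

set_option autoImplicit false
universe u
open CategoryTheory CategoryTheory.Limits AlgebraicGeometry TopologicalSpace HomogeneousLocalization

namespace Groth.Agent.Lib.H6xProjQuot

open Groth.Agent.Lib.Helper20 SGA1

section setting

variable {R A : Type u} [CommRing R] [CommRing A] [Algebra R A] (𝒜 : ℕ → Submodule R A)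
  [GradedAlgebra 𝒜]
  {G : Type u} [Group G] [Finite G] [MulSemiringAction G A]
  (hGdeg : ∀ (σ : G) (i : ℕ) (a : A), a ∈ 𝒜 i → σ • a ∈ 𝒜 i)
  {C : Type u} [CommRing C] [Algebra R C] (𝒞 : ℕ → Submodule R C) [GradedAlgebra 𝒞]
  (ι : C →ₐ[R] A) (hι : Function.Injective ι)
  (hιdeg : ∀ (i : ℕ) (a : A), a ∈ (𝒞 i).map ι.toLinearMap ↔ (a ∈ 𝒜 i ∧ ∀ σ : G, σ • a = a))

include hGdeg hιdeg in
/-- the invariant basic opens cover `Proj 𝒜` -/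
theorem exists_mem_basicOpen (x : Proj 𝒜) :
    ∃ (n : ℕ) (_ : 0 < n) (c : C) (_ : c ∈ 𝒞 n), x ∈ Proj.basicOpen 𝒜 (ι c) := by
  classical
  by_contra H
  push Not at H
  apply x.not_irrelevant_le
  have hP : ∀ (n : ℕ) (b : A), 0 < n → b ∈ 𝒜 n → (∀ σ : G, σ • b = b) →
      b ∈ x.asHomogeneousIdeal.toIdeal := by
    intro n b hn hb hinv
    obtain ⟨c, hc, rfl⟩ := (hιdeg n b).mpr ⟨hb, hinv⟩
    have := H n hn c hc
    rw [Proj.mem_basicOpen, not_not] at this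
    exact this
  intro a ha
  rw [HomogeneousIdeal.mem_irrelevant_iff] at ha
  rw [← DirectSum.sum_support_decompose 𝒜 a]
  refine Ideal.sum_mem _ fun i _ => ?_
  by_cases hi : i = 0
  · subst hi
    rw [GradedRing.proj_apply] at ha
    rw [ha]
    exact Ideal.zero_mem _
  · exact mem_of_invariants_mem 𝒜 hGdeg x.asHomogeneousIdeal.toIdeal hP (Nat.pos_of_ne_zero hi)
      (Submodule.coe_mem _)

section charts

variable (ρ : G →* Aut (Proj 𝒜))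
  (hρ : ∀ (σ : G) (n : ℕ) (f : A) (hn : 0 < n) (hf : f ∈ 𝒜 n)
    (θ : CommRingCat.of (HomogeneousLocalization.Away 𝒜 f) ⟶
      CommRingCat.of (HomogeneousLocalization.Away 𝒜 (σ • f))),
    (algebraMap (HomogeneousLocalization.Away 𝒜 (σ • f)) (Localization.Away (σ • f))).comp θ.hom =
      (Localization.awayMap (MulSemiringAction.toRingHom G A σ) f).comp
        (algebraMap (HomogeneousLocalization.Away 𝒜 f) (Localization.Away f)) →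
    Proj.awayι 𝒜 (σ • f) (hGdeg σ n f hf) hn ≫ (ρ σ).inv = Spec.map θ ≫ Proj.awayι 𝒜 f hf hn)
  (π : Proj 𝒜 ⟶ Proj 𝒞)
  (hπ : ∀ (n : ℕ) (c : C) (hn : 0 < n) (hc : c ∈ 𝒞 n)
    (θ : CommRingCat.of (HomogeneousLocalization.Away 𝒞 c) ⟶
      CommRingCat.of (HomogeneousLocalization.Away 𝒜 (ι c))),
    (algebraMap (HomogeneousLocalization.Away 𝒜 (ι c)) (Localization.Away (ι c))).comp θ.hom =
      (Localization.awayMap ι.toRingHom c).comp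
        (algebraMap (HomogeneousLocalization.Away 𝒞 c) (Localization.Away c)) →
    Proj.awayι 𝒜 (ι c) ((hιdeg n (ι c)).mp (Submodule.mem_map_of_mem hc)).1 hn ≫ π =
      Spec.map θ ≫ Proj.awayι 𝒞 c hc hn)

/-- the chart map of `π` -/
def thetaPi (c : C) : Away 𝒞 c →+* Away 𝒜 (ι c) := Away.map (gι 𝒜 𝒞 ι hιdeg) c

include hρ in
theorem chart_rho_inv (σ : G) {n : ℕ} (hn : 0 < n) (f : A) (hf : f ∈ 𝒜 n) (hfix : σ • f = f) :
    Proj.awayι 𝒜 f hf hn ≫ (ρ σ).inv =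
      Spec.map (CommRingCat.ofHom (thetaSigma 𝒜 hGdeg σ f hfix)) ≫ Proj.awayι 𝒜 f hf hn := by
  have key : ∀ (f' : A) (e : σ • f = f') (hf' : f' ∈ 𝒜 n) (θ : Away 𝒜 f →+* Away 𝒜 f')
      (hle : Submonoid.powers f ≤ (Submonoid.powers f').comap (MulSemiringAction.toRingHom G A σ))
      (_ : ∀ x, (θ x).val = IsLocalization.map (Localization.Away f')
        (MulSemiringAction.toRingHom G A σ) hle x.val),
      Proj.awayι 𝒜 f' hf' hn ≫ (ρ σ).inv =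
        Spec.map (CommRingCat.ofHom θ) ≫ Proj.awayι 𝒜 f hf hn := by
    intro f' e
    subst e
    intro hf' θ hle hθ
    apply hρ σ n f hn hf (CommRingCat.ofHom θ)
    ext x
    exact hθ x
  exact key f hfix hf (thetaSigma 𝒜 hGdeg σ f hfix) _ (fun x => val_map _ _ x)

include hρ in
theorem chart_rho_hom (g : G) {n : ℕ} (hn : 0 < n) (f : A) (hf : f ∈ 𝒜 n) (hfix : ∀ σ : G, σ • f = f) :
    Proj.awayι 𝒜 f hf hn ≫ (ρ g).hom =
      Spec.map (CommRingCat.ofHom (thetaSigma 𝒜 hGdeg g⁻¹ f (hfix g⁻¹))) ≫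
        Proj.awayι 𝒜 f hf hn := by
  have h := chart_rho_inv 𝒜 hGdeg ρ hρ g⁻¹ hn f hf (hfix g⁻¹)
  have h2 : (ρ g⁻¹).inv = (ρ g).hom := by
    rw [map_inv]
    rfl
  rw [h2] at h
  exact h

include hπ in
theorem chart_pi {n : ℕ} (hn : 0 < n) (c : C) (hc : c ∈ 𝒞 n) :
    Proj.awayι 𝒜 (ι c) (ι_mem 𝒜 𝒞 ι hιdeg hc) hn ≫ π =
      Spec.map (CommRingCat.ofHom (thetaPi 𝒜 𝒞 ι hιdeg c)) ≫ Proj.awayι 𝒞 c hc hn := by
  apply hπ n c hn hc (CommRingCat.ofHom (thetaPi 𝒜 𝒞 ι hιdeg c))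
  exact algebraMap_comp_away_map (gι 𝒜 𝒞 ι hιdeg) c

end charts

section preimage

variable (π : Proj 𝒜 ⟶ Proj 𝒞)
  (hπ : ∀ (n : ℕ) (c : C) (hn : 0 < n) (hc : c ∈ 𝒞 n)
    (θ : CommRingCat.of (HomogeneousLocalization.Away 𝒞 c) ⟶
      CommRingCat.of (HomogeneousLocalization.Away 𝒜 (ι c))),
    (algebraMap (HomogeneousLocalization.Away 𝒜 (ι c)) (Localization.Away (ι c))).comp θ.hom =
      (Localization.awayMap ι.toRingHom c).comp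
        (algebraMap (HomogeneousLocalization.Away 𝒞 c) (Localization.Away c)) →
    Proj.awayι 𝒜 (ι c) ((hιdeg n (ι c)).mp (Submodule.mem_map_of_mem hc)).1 hn ≫ π =
      Spec.map θ ≫ Proj.awayι 𝒞 c hc hn)

theorem thetaPi_mk {n' : ℕ} (c' : C) (hc' : c' ∈ 𝒞 n') (k : ℕ) (a : C) (ha : a ∈ 𝒞 (k • n')) :
    thetaPi 𝒜 𝒞 ι hιdeg c' (Away.mk 𝒞 hc' k a ha) =
      Away.mk 𝒜 (ι_mem 𝒜 𝒞 ι hιdeg hc') k (ι a) (ι_mem 𝒜 𝒞 ι hιdeg ha) :=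
  Away.map_mk (gι 𝒜 𝒞 ι hιdeg) c' hc' k a ha

theorem thetaPi_isLocalizationElem {n n' : ℕ} (c c' : C) (hc : c ∈ 𝒞 n) (hc' : c' ∈ 𝒞 n') :
    thetaPi 𝒜 𝒞 ι hιdeg c' (Away.isLocalizationElem hc' hc) =
      Away.isLocalizationElem (ι_mem 𝒜 𝒞 ι hιdeg hc') (ι_mem 𝒜 𝒞 ι hιdeg hc) := by
  unfold Away.isLocalizationElem
  rw [thetaPi_mk]
  apply HomogeneousLocalization.val_injective
  rw [Away.val_mk, Away.val_mk]
  refine congrArg₂ Localization.mk ?_ rfl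
  rw [map_pow]

include hGdeg hπ in
theorem preimage_basicOpen {n : ℕ} (hn : 0 < n) (c : C) (hc : c ∈ 𝒞 n) :
    π ⁻¹ᵁ (Proj.basicOpen 𝒞 c) = Proj.basicOpen 𝒜 (ι c) := by
  apply le_antisymm
  · intro x hx
    obtain ⟨n', hn', c', hc', hxc'⟩ := exists_mem_basicOpen 𝒜 hGdeg 𝒞 ι hιdeg x
    rw [← Proj.opensRange_awayι 𝒜 (ι c') (ι_mem 𝒜 𝒞 ι hιdeg hc') hn'] at hxc'
    obtain ⟨x', rfl⟩ := hxc'
    have h1 : π.base ((Proj.awayι 𝒜 (ι c') (ι_mem 𝒜 𝒞 ι hιdeg hc') hn').base x') =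
        (Proj.awayι 𝒞 c' hc' hn').base
          ((Spec.map (CommRingCat.ofHom (thetaPi 𝒜 𝒞 ι hιdeg c'))).base x') := by
      have := congrArg (fun f => f.base x') (chart_pi 𝒜 𝒞 ι hιdeg π hπ hn' c' hc')
      simpa using this
    have h2 : (Spec.map (CommRingCat.ofHom (thetaPi 𝒜 𝒞 ι hιdeg c'))).base x' ∈
        Proj.awayι 𝒞 c' hc' hn' ⁻¹ᵁ Proj.basicOpen 𝒞 c := by
      show (Proj.awayι 𝒞 c' hc' hn').base _ ∈ Proj.basicOpen 𝒞 c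
      rw [← h1]
      exact hx
    rw [Proj.awayι_preimage_basicOpen 𝒞 hc' hn' hc hn] at h2
    have h3 : x' ∈ Proj.awayι 𝒜 (ι c') (ι_mem 𝒜 𝒞 ι hιdeg hc') hn' ⁻¹ᵁ
        Proj.basicOpen 𝒜 (ι c) := by
      rw [Proj.awayι_preimage_basicOpen 𝒜 (ι_mem 𝒜 𝒞 ι hιdeg hc') hn' (ι_mem 𝒜 𝒞 ι hιdeg hc) hn]
      have h4 : Away.isLocalizationElem hc' hc ∉
          ((Spec.map (CommRingCat.ofHom (thetaPi 𝒜 𝒞 ι hιdeg c'))).base x').asIdeal := h2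
      have h5 : thetaPi 𝒜 𝒞 ι hιdeg c' (Away.isLocalizationElem hc' hc) ∉ x'.asIdeal := h4
      rw [thetaPi_isLocalizationElem] at h5
      exact h5
    exact h3
  · intro x hx
    rw [← Proj.opensRange_awayι 𝒜 (ι c) (ι_mem 𝒜 𝒞 ι hιdeg hc) hn] at hx
    obtain ⟨x', rfl⟩ := hx
    have h1 : π.base ((Proj.awayι 𝒜 (ι c) (ι_mem 𝒜 𝒞 ι hιdeg hc) hn).base x') =
        (Proj.awayι 𝒞 c hc hn).base
          ((Spec.map (CommRingCat.ofHom (thetaPi 𝒜 𝒞 ι hιdeg c))).base x') := by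
      have := congrArg (fun f => f.base x') (chart_pi 𝒜 𝒞 ι hιdeg π hπ hn c hc)
      simpa using this
    show π.base _ ∈ Proj.basicOpen 𝒞 c
    rw [h1, ← Proj.opensRange_awayι 𝒞 c hc hn]
    exact ⟨_, rfl⟩

end preimage

section main

variable (ρ : G →* Aut (Proj 𝒜))
  (hρ : ∀ (σ : G) (n : ℕ) (f : A) (hn : 0 < n) (hf : f ∈ 𝒜 n)
    (θ : CommRingCat.of (HomogeneousLocalization.Away 𝒜 f) ⟶
      CommRingCat.of (HomogeneousLocalization.Away 𝒜 (σ • f))),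
    (algebraMap (HomogeneousLocalization.Away 𝒜 (σ • f)) (Localization.Away (σ • f))).comp θ.hom =
      (Localization.awayMap (MulSemiringAction.toRingHom G A σ) f).comp
        (algebraMap (HomogeneousLocalization.Away 𝒜 f) (Localization.Away f)) →
    Proj.awayι 𝒜 (σ • f) (hGdeg σ n f hf) hn ≫ (ρ σ).inv = Spec.map θ ≫ Proj.awayι 𝒜 f hf hn)
  (π : Proj 𝒜 ⟶ Proj 𝒞)
  (hπ : ∀ (n : ℕ) (c : C) (hn : 0 < n) (hc : c ∈ 𝒞 n)
    (θ : CommRingCat.of (HomogeneousLocalization.Away 𝒞 c) ⟶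
      CommRingCat.of (HomogeneousLocalization.Away 𝒜 (ι c))),
    (algebraMap (HomogeneousLocalization.Away 𝒜 (ι c)) (Localization.Away (ι c))).comp θ.hom =
      (Localization.awayMap ι.toRingHom c).comp
        (algebraMap (HomogeneousLocalization.Away 𝒞 c) (Localization.Away c)) →
    Proj.awayι 𝒜 (ι c) ((hιdeg n (ι c)).mp (Submodule.mem_map_of_mem hc)).1 hn ≫ π =
      Spec.map θ ≫ Proj.awayι 𝒞 c hc hn)

include hι hρ hπ in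
theorem quotAt_basicOpen' {n : ℕ} (hn : 0 < n) (c : C) (hc : c ∈ 𝒞 n) :
    QuotAt (fun g : G => (ρ g).hom) π (Proj.basicOpen 𝒞 c) (π ⁻¹ᵁ Proj.basicOpen 𝒞 c) := by
  have hfix : ∀ σ : G, σ • ι c = ι c := fun σ => ι_fixed 𝒜 𝒞 ι hιdeg σ hc
  have hspec : QuotAt
      (fun g : G => Spec.map (CommRingCat.ofHom (thetaSigma 𝒜 hGdeg g⁻¹ (ι c) (hfix g⁻¹))))
      (Spec.map (CommRingCat.ofHom (thetaPi 𝒜 𝒞 ι hιdeg c))) ⊤ ⊤ := by
    apply quotAt_spec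
    · exact theta_injective 𝒜 𝒞 ι hιdeg hι c hc
    · intro s hs
      apply theta_range 𝒜 hGdeg 𝒞 ι hιdeg c hc s
      intro σ
      have := hs σ⁻¹
      simp only [inv_inv] at this
      exact this
  have T := quotAt_of_openImmersion (fun g : G => (ρ g).hom) π
    (fun g : G => Spec.map (CommRingCat.ofHom (thetaSigma 𝒜 hGdeg g⁻¹ (ι c) (hfix g⁻¹))))
    (Spec.map (CommRingCat.ofHom (thetaPi 𝒜 𝒞 ι hιdeg c)))
    (Proj.awayι 𝒜 (ι c) (ι_mem 𝒜 𝒞 ι hιdeg hc) hn) (Proj.awayι 𝒞 c hc hn)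
    (chart_pi 𝒜 𝒞 ι hιdeg π hπ hn c hc)
    (fun g => chart_rho_hom 𝒜 hGdeg ρ hρ g hn (ι c) (ι_mem 𝒜 𝒞 ι hιdeg hc) hfix) hspec
  rw [Scheme.Hom.image_top_eq_opensRange, Scheme.Hom.image_top_eq_opensRange,
    Proj.opensRange_awayι, Proj.opensRange_awayι] at T
  rw [preimage_basicOpen 𝒜 hGdeg 𝒞 ι hιdeg π hπ hn c hc]
  exact T

include hGdeg in
theorem thetaSigma_comp_thetaPi (σ : G) {n : ℕ} (c : C) (hc : c ∈ 𝒞 n) :
    (thetaSigma 𝒜 hGdeg σ (ι c) (ι_fixed 𝒜 𝒞 ι hιdeg σ hc)).comp (thetaPi 𝒜 𝒞 ι hιdeg c) =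
      thetaPi 𝒜 𝒞 ι hιdeg c := by
  ext x
  obtain ⟨k, a, ha, rfl⟩ := Away.mk_surjective 𝒞 hc x
  rw [RingHom.comp_apply, thetaPi_mk, thetaSigma_mk]
  rw [Away.val_mk, Away.val_mk, ι_fixed 𝒜 𝒞 ι hιdeg σ ha]

include hρ hπ in
theorem rho_comp_pi (g : G) : (ρ g).hom ≫ π = π := by
  have hU : IsOpenCover (fun s : Σ' (n : ℕ) (c : C), 0 < n ∧ c ∈ 𝒞 n =>
      Proj.basicOpen 𝒜 (ι s.2.1)) := by
    apply IsOpenCover.mk
    rw [eq_top_iff]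
    intro x _
    obtain ⟨n, hn, c, hc, hx⟩ := exists_mem_basicOpen 𝒜 hGdeg 𝒞 ι hιdeg x
    exact Opens.mem_iSup.mpr ⟨⟨n, c, hn, hc⟩, hx⟩
  refine ((Proj 𝒜).openCoverOfIsOpenCover _ hU).hom_ext _ _ fun s => ?_
  obtain ⟨n, c, hn, hc⟩ := s
  have hfd : ι c ∈ 𝒜 n := ι_mem 𝒜 𝒞 ι hιdeg hc
  have hfix : ∀ σ : G, σ • ι c = ι c := fun σ => ι_fixed 𝒜 𝒞 ι hιdeg σ hc
  show (Proj.basicOpen 𝒜 (ι c)).ι ≫ (ρ g).hom ≫ π = (Proj.basicOpen 𝒜 (ι c)).ι ≫ π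
  have h1 : (Proj.basicOpen 𝒜 (ι c)).ι =
      (Proj.basicOpenIsoSpec 𝒜 (ι c) hfd hn).hom ≫ Proj.awayι 𝒜 (ι c) hfd hn := by
    rw [← Proj.basicOpenIsoSpec_inv_ι, Iso.hom_inv_id_assoc]
  rw [h1, Category.assoc, Category.assoc]
  congr 1
  rw [← Category.assoc, chart_rho_hom 𝒜 hGdeg ρ hρ g hn (ι c) hfd hfix, Category.assoc,
    chart_pi 𝒜 𝒞 ι hιdeg π hπ hn c hc, ← Category.assoc, ← Spec.map_comp, ← CommRingCat.ofHom_comp,
    thetaSigma_comp_thetaPi 𝒜 hGdeg 𝒞 ι hιdeg g⁻¹ c hc]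

omit [Finite G] in
theorem exists_pos_basicOpen (y : Proj 𝒞) :
    ∃ (n : ℕ) (_ : 0 < n) (c : C) (_ : c ∈ 𝒞 n), y ∈ Proj.basicOpen 𝒞 c := by
  classical
  by_contra H
  push Not at H
  apply y.not_irrelevant_le
  intro a ha
  rw [HomogeneousIdeal.mem_irrelevant_iff] at ha
  rw [← DirectSum.sum_support_decompose 𝒞 a]
  refine Ideal.sum_mem _ fun i _ => ?_
  by_cases hi : i = 0
  · subst hi
    rw [GradedRing.proj_apply] at ha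
    rw [ha]
    exact Ideal.zero_mem _
  · have := H i (Nat.pos_of_ne_zero hi) _ (Submodule.coe_mem (DirectSum.decompose 𝒞 a i))
    rw [Proj.mem_basicOpen, not_not] at this
    exact this

include hGdeg hπ in
theorem isAffineHom_pi : IsAffineHom π := by
  apply isAffineHom_of_forall_exists_isAffineOpen
  intro y
  obtain ⟨n, hn, c, hc, hy⟩ := exists_pos_basicOpen 𝒞 y
  refine ⟨Proj.basicOpen 𝒞 c, hy, Proj.isAffineOpen_basicOpen 𝒞 c hc hn, ?_⟩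
  rw [preimage_basicOpen 𝒜 hGdeg 𝒞 ι hιdeg π hπ hn c hc]
  exact Proj.isAffineOpen_basicOpen 𝒜 (ι c) (ι_mem 𝒜 𝒞 ι hιdeg hc) hn

omit [Finite G] in
theorem isBasis_pos_basicOpen :
    Opens.IsBasis {W : (Proj 𝒞).Opens | ∃ (n : ℕ) (_ : 0 < n) (c : C) (_ : c ∈ 𝒞 n),
      W = Proj.basicOpen 𝒞 c} := by
  rw [Opens.isBasis_iff_nbhd]
  intro U y hy
  obtain ⟨_, ⟨f, rfl⟩, hyf, hfU⟩ := Opens.isBasis_iff_nbhd.mp (Proj.isBasis_basicOpen 𝒞) hy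
  rw [Proj.basicOpen_eq_iSup_proj] at hyf
  obtain ⟨i, hyi⟩ := Opens.mem_iSup.mp hyf
  obtain ⟨n, hn, c, hc, hyc⟩ := exists_pos_basicOpen 𝒞 y
  refine ⟨Proj.basicOpen 𝒞 (GradedRing.proj 𝒞 i f * c),
    ⟨i + n, Nat.add_pos_right i hn, _, SetLike.mul_mem_graded (Submodule.coe_mem _) hc, rfl⟩, ?_, ?_⟩
  · rw [Proj.basicOpen_mul]
    exact ⟨hyi, hyc⟩
  · rw [Proj.basicOpen_mul]
    refine inf_le_left.trans (le_trans ?_ hfU)
    rw [Proj.basicOpen_eq_iSup_proj 𝒞 f]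
    exact le_iSup (fun i => Proj.basicOpen 𝒞 (GradedRing.proj 𝒞 i f)) i

include hι hρ hπ in
/-- **Main theorem**: `Proj 𝒜 → Proj 𝒞` is a quotient by `G`. -/
theorem isQuot_proj : SGA1.IsQuot ρ π := by
  have hinv := rho_comp_pi 𝒜 hGdeg 𝒞 ι hιdeg ρ hρ π hπ
  refine isQuot_of_quotAt ρ (isAffineHom_pi 𝒜 hGdeg 𝒞 ι hιdeg π hπ) hinv ?_
  apply quotAt_of_basis hinv _ (isBasis_pos_basicOpen 𝒞)
  · rintro W ⟨n, hn, c, hc, rfl⟩
    exact quotAt_basicOpen' 𝒜 hGdeg 𝒞 ι hι hιdeg ρ hρ π hπ hn c hc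
  · rintro W ⟨n, hn, c, hc, rfl⟩ W' ⟨n', hn', c', hc', rfl⟩
    rw [← Proj.basicOpen_mul]
    exact quotAt_basicOpen' 𝒜 hGdeg 𝒞 ι hι hιdeg ρ hρ π hπ (Nat.add_pos_left hn n') (c * c')
      (SetLike.mul_mem_graded hc hc')

end main

end setting

end Groth.Agent.Lib.H6xProjQuot
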