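import Mathlib
set_option backward.isDefEq.respectTransparency.types false

/-!
# helper6: modules killed by a maximal ideal
-/

set_option autoImplicit false
set_option linter.style.haveILetI false
universe u

namespace Groth.Agent.Lib.H6xPt

section Mod

variable {A : Type u} [CommRing A] (m : Ideal A) [hm : m.IsMaximal]

/-- a functional separating a nonzero vector, for a module killed by a maximal ideal -/
theorem exists_functional_ne_zero (V : Type u) [AddCommGroup V] [Module A V]
    (hV : ∀ a ∈ m, ∀ x : V, a • x = 0) (v : V) (hv : v ≠ 0) :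
    ∃ f : V →ₗ[A] A ⧸ m, f v ≠ 0 := by
  letI : Field (A ⧸ m) := Ideal.Quotient.field m
  have ht : Module.IsTorsionBySet A V (m : Set A) := fun x a => hV a a.2 x
  letI : Module (A ⧸ m) V := ht.module
  haveI : IsScalarTower A (A ⧸ m) V := ht.isScalarTower
  obtain ⟨f, hf, -⟩ := Submodule.exists_le_ker_of_notMem (K := A ⧸ m) (V := V)
    (p := ⊥) (v := v) (by simpa using hv)
  exact ⟨f.restrictScalars A, hf⟩

/-- the map `A/m → V`, `1 ↦ x`, for a module killed by `m` -/
noncomputable def toKilled (V : Type u) [AddCommGroup V] [Module A V]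
    (hV : ∀ a ∈ m, ∀ x : V, a • x = 0) (x : V) : A ⧸ m →ₗ[A] V :=
  Submodule.liftQ m (LinearMap.toSpanSingleton A V x) (fun a ha => by
    rw [LinearMap.mem_ker, LinearMap.toSpanSingleton_apply]
    exact hV a ha x)

lemma toKilled_mk (V : Type u) [AddCommGroup V] [Module A V]
    (hV : ∀ a ∈ m, ∀ x : V, a • x = 0) (x : V) (a : A) :
    toKilled m V hV x (Ideal.Quotient.mk m a) = a • x := by
  change Submodule.liftQ m (LinearMap.toSpanSingleton A V x) _ (Submodule.Quotient.mk a) = _
  rw [Submodule.liftQ_apply, LinearMap.toSpanSingleton_apply]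

lemma toKilled_injective (V : Type u) [AddCommGroup V] [Module A V]
    (hV : ∀ a ∈ m, ∀ x : V, a • x = 0) (x : V) (hx : x ≠ 0) :
    Function.Injective (toKilled m V hV x) := by
  rw [← LinearMap.ker_eq_bot, LinearMap.ker_eq_bot']
  intro y hy
  obtain ⟨a, rfl⟩ := Ideal.Quotient.mk_surjective y
  rw [toKilled_mk] at hy
  by_contra hne
  have ha : a ∉ m := fun h => hne (Ideal.Quotient.eq_zero_iff_mem.2 h)
  obtain ⟨b, hb⟩ := hm.exists_inv ha
  obtain ⟨c, hc, hbc⟩ := hb
  -- `b * a + c = 1` with `c ∈ m`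
  have h1 : x = (b * a + c) • x := by rw [hbc, one_smul]
  rw [add_smul, mul_smul, hy, smul_zero, hV c hc x, add_zero] at h1
  exact hx h1

/-- two nonzero modules killed by a maximal ideal admit a nonzero map -/
theorem exists_map_ne_zero (N N' : Type u) [AddCommGroup N] [Module A N] [AddCommGroup N']
    [Module A N'] [Nontrivial N] [Nontrivial N'] (hN : ∀ a ∈ m, ∀ x : N, a • x = 0)
    (hN' : ∀ a ∈ m, ∀ x : N', a • x = 0) : ∃ φ : N →ₗ[A] N', φ ≠ 0 := by
  obtain ⟨v, hv⟩ := exists_ne (0 : N)
  obtain ⟨x, hx⟩ := exists_ne (0 : N')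
  obtain ⟨f, hf⟩ := exists_functional_ne_zero m N hN v hv
  refine ⟨(toKilled m N' hN' x).comp f, fun h => ?_⟩
  have h1 : toKilled m N' hN' x (f v) = 0 := by
    have := LinearMap.congr_fun h v
    exact this
  exact hf (toKilled_injective m N' hN' x hx (h1.trans (map_zero _).symm))

/-- a nonzero module killed by a maximal ideal all of whose endomorphisms are scalars is `A/m` -/
theorem nonempty_linearEquiv_of_scalar_end (V : Type u) [AddCommGroup V] [Module A V]
    [Nontrivial V] (hV : ∀ a ∈ m, ∀ x : V, a • x = 0)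
    (hend : ∀ g : V →ₗ[A] V, ∃ c : A, ∀ w : V, g w = c • w) : Nonempty (V ≃ₗ[A] A ⧸ m) := by
  obtain ⟨v, hv⟩ := exists_ne (0 : V)
  obtain ⟨f, hf⟩ := exists_functional_ne_zero m V hV v hv
  obtain ⟨c, hc⟩ := hend ((toKilled m V hV v).comp f)
  have hinj := toKilled_injective m V hV v hv
  have hcm : c ∉ m := by
    intro hcm
    have h1 := hc v
    rw [hV c hcm v] at h1
    exact hf (hinj (h1.trans (map_zero _).symm))
  obtain ⟨b, d, hd, hbd⟩ := hm.exists_inv hcm
  have hsurj : Function.Surjective (toKilled m V hV v) := by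
    intro w
    refine ⟨b • f w, ?_⟩
    have h1 : w = (b * c + d) • w := by rw [hbd, one_smul]
    rw [add_smul, mul_smul, hV d hd w, add_zero, ← hc w] at h1
    rw [map_smul]
    exact h1.symm
  exact ⟨(LinearEquiv.ofBijective _ ⟨hinj, hsurj⟩).symm⟩

end Mod

end Groth.Agent.Lib.H6xPt
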