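import Mathlib
import Groth.Agent.Lib.H6xPtA
import Groth.Agent.Lib.H6xUqD
import Groth.Agent.Lib.H6xInvC
import Groth.Agent.Lib.H6xBidL
import Groth.Agent.S14388
set_option backward.isDefEq.respectTransparency.types false

/-!
# helper6: point objects of `D^b(A)`: `End(K) ≃ A/m` and no negative self-extensions imply
`K ≅ (A/m)[n]`
-/

set_option autoImplicit false
set_option linter.style.haveILetI false
universe u
open CategoryTheory CategoryTheory.Limits Pretriangulated
attribute [local instance] HasDerivedCategory.standard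

namespace Groth.Agent.Lib.H6xPt

open DerivedCategory Groth.Agent.S14388

section Bottom

variable {A : Type u} [CommRing A]

lemma exists_bottom_degree (X : Dual.D A)
    (hb : ∃ a : ℤ, ∀ i : ℤ, i < a → Subsingleton (Dual.HD A X i))
    (hne : ∃ i : ℤ, Nontrivial (Dual.HD A X i)) :
    ∃ p : ℤ, Nontrivial (Dual.HD A X p) ∧ ∀ i : ℤ, i < p → Subsingleton (Dual.HD A X i) := by
  obtain ⟨a, ha⟩ := hb
  obtain ⟨p, hp, hmin⟩ := Int.exists_least_of_bdd (P := fun i => Nontrivial (Dual.HD A X i))
    ⟨a, fun z hz => by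
      by_contra h
      haveI := ha z (not_le.1 h)
      exact not_subsingleton _ ‹_›⟩ hne
  refine ⟨p, hp, fun i hi => ?_⟩
  by_contra h
  rw [not_subsingleton_iff_nontrivial] at h
  have := hmin i h
  omega

/-- an object all of whose cohomology vanishes is zero -/
lemma isZero_of_forall_subsingleton_HD (X : Dual.D A)
    (h : ∀ i : ℤ, Subsingleton (Dual.HD A X i)) : IsZero X := by
  haveI : X.IsLE 0 := by
    rw [DerivedCategory.isLE_iff]
    intro i _
    haveI := h i
    exact ModuleCat.isZero_of_subsingleton _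
  haveI : X.IsGE 1 := by
    rw [DerivedCategory.isGE_iff]
    intro i _
    haveI := h i
    exact ModuleCat.isZero_of_subsingleton _
  rw [IsZero.iff_id_eq_zero]
  exact DerivedCategory.TStructure.t.zero_of_isLE_of_isGE (𝟙 X) 0 1 (by omega) inferInstance
    inferInstance

end Bottom


section Point

variable {A : Type u} [CommRing A] (m : Ideal A) [hm : m.IsMaximal] (K : Dual.D A)
  (hbdd : ∃ a b : ℤ, ∀ i : ℤ, (i < a ∨ b < i) → Subsingleton (Dual.HD A K i))
  (e : (K ⟶ K) ≃ₗ[A] A ⧸ m) (hneg : ∀ i : ℤ, i < 0 → Subsingleton (K ⟶ K⟦i⟧))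

include e in
lemma smul_id_eq_zero (x : A) (hx : x ∈ m) : x • 𝟙 K = 0 := by
  apply e.injective
  rw [map_smul, map_zero, Algebra.smul_def, Ideal.Quotient.algebraMap_eq,
    Ideal.Quotient.eq_zero_iff_mem.2 hx, zero_mul]

include e in
lemma smul_HD_eq_zero (x : A) (hx : x ∈ m) (i : ℤ) (y : Dual.HD A K i) : x • y = 0 := by
  obtain ⟨l⟩ := Groth.Agent.Lib.H6xBid.nonempty_hom_linearEquiv_HD K i
  obtain ⟨g, rfl⟩ := l.surjective y
  rw [← map_smul]
  have h1 : x • g = g ≫ (shiftFunctor (Dual.D A) i).map (x • 𝟙 K) := by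
    rw [Functor.map_smul, CategoryTheory.Functor.map_id, Linear.comp_smul, Category.comp_id]
  rw [h1, smul_id_eq_zero m K e x hx, Functor.map_zero, comp_zero, map_zero]

include e hm in
lemma exists_eq_smul_id (G : K ⟶ K) : ∃ c : A, G = c • 𝟙 K := by
  letI : Field (A ⧸ m) := Ideal.Quotient.field m
  have h1 : e (𝟙 K) ≠ 0 := by
    intro h
    have hid : 𝟙 K = 0 := e.injective (h.trans (map_zero e).symm)
    have hall : ∀ f : K ⟶ K, f = 0 := fun f => by rw [← Category.comp_id f, hid, comp_zero]
    obtain ⟨f, hf⟩ := e.surjective (1 : A ⧸ m)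
    rw [hall f, map_zero] at hf
    exact zero_ne_one hf
  obtain ⟨c, hc⟩ := Ideal.Quotient.mk_surjective (e G / e (𝟙 K))
  refine ⟨c, e.injective ?_⟩
  rw [map_smul, Algebra.smul_def, Ideal.Quotient.algebraMap_eq, hc, div_mul_cancel₀ _ h1]

include hbdd e hneg hm in
/-- **point objects** -/
theorem exists_iso_shift_residue : ∃ n : ℤ, Nonempty (K ≅ (Dual.inD A (A ⧸ m))⟦n⟧) := by
  obtain ⟨a₀, b₀, hab⟩ := hbdd
  have hne : ∃ i : ℤ, Nontrivial (Dual.HD A K i) := by
    by_contra h
    have h' : ∀ i : ℤ, Subsingleton (Dual.HD A K i) := fun i =>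
      not_nontrivial_iff_subsingleton.1 (fun hi => h ⟨i, hi⟩)
    have hz := isZero_of_forall_subsingleton_HD K h'
    haveI : Subsingleton (K ⟶ K) := ⟨fun f g => hz.eq_of_src f g⟩
    haveI : Nontrivial (A ⧸ m) := Ideal.Quotient.nontrivial_iff.2 hm.ne_top
    haveI : Subsingleton (A ⧸ m) := e.symm.toEquiv.subsingleton
    exact not_subsingleton (A ⧸ m) inferInstance
  obtain ⟨b, hb, hbmax⟩ := Groth.Agent.Lib.H6xInv.exists_top_degree K
    ⟨b₀, fun i hi => hab i (Or.inr hi)⟩ hne
  obtain ⟨a, ha, hamin⟩ := exists_bottom_degree K ⟨a₀, fun i hi => hab i (Or.inl hi)⟩ hne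
  have hle : a ≤ b := by
    by_contra h
    haveI := hbmax a (not_le.1 h)
    exact not_subsingleton (Dual.HD A K a) inferInstance
  have hkill : ∀ (i : ℤ) (x : A), x ∈ m → ∀ y : Dual.HD A K i, x • y = 0 := fun i x hx y =>
    smul_HD_eq_zero m K e x hx i y
  have hEq : a = b := by
    by_contra hne'
    have hlt : a < b := lt_of_le_of_ne hle hne'
    -- the top piece
    haveI hTle : ((tt.truncGE b).obj K).IsLE b := by
      rw [DerivedCategory.isLE_iff]
      intro i hi
      haveI := isIso_homology_truncGEπ b i (by omega) K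
      haveI := hbmax i hi
      have hz : IsZero ((homologyFunctor (ModuleCat.{u} A) i).obj K) :=
        ModuleCat.isZero_of_subsingleton _
      exact hz.of_iso
        (asIso ((homologyFunctor (ModuleCat.{u} A) i).map ((tt.truncGEπ b).app K))).symm
    haveI hTge : ((tt.truncGE b).obj K).IsGE b := inferInstance
    obtain ⟨N, ⟨eT⟩⟩ := exists_iso_singleFunctor_obj_of_isGE_of_isLE ((tt.truncGE b).obj K) b
    let p : K ⟶ (DerivedCategory.singleFunctor (ModuleCat.{u} A) b).obj N :=
      (tt.truncGEπ b).app K ≫ eT.hom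
    haveI hp : IsIso ((homologyFunctor (ModuleCat.{u} A) b).map p) := by
      haveI := isIso_homology_truncGEπ b b le_rfl K
      rw [Functor.map_comp]
      infer_instance
    let eN : N ≅ (homologyFunctor (ModuleCat.{u} A) b).obj K :=
      ((singleFunctorCompHomologyFunctorIso (ModuleCat.{u} A) b).app N).symm ≪≫
        (asIso ((homologyFunctor (ModuleCat.{u} A) b).map p)).symm
    -- the bottom piece
    haveI hT'le : ((tt.truncLT (a + 1)).obj K).IsLE a := inferInstance
    haveI hT'ge : ((tt.truncLT (a + 1)).obj K).IsGE a := by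
      rw [DerivedCategory.isGE_iff]
      intro i hi
      haveI := isIso_homology_truncLTι (a + 1) i (by omega) K
      haveI := hamin i hi
      have hz : IsZero ((homologyFunctor (ModuleCat.{u} A) i).obj K) :=
        ModuleCat.isZero_of_subsingleton _
      exact hz.of_iso
        (asIso ((homologyFunctor (ModuleCat.{u} A) i).map ((tt.truncLTι (a + 1)).app K)))
    obtain ⟨N', ⟨eT'⟩⟩ :=
      exists_iso_singleFunctor_obj_of_isGE_of_isLE ((tt.truncLT (a + 1)).obj K) a
    let ι : (DerivedCategory.singleFunctor (ModuleCat.{u} A) a).obj N' ⟶ K :=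
      eT'.inv ≫ (tt.truncLTι (a + 1)).app K
    haveI hι : IsIso ((homologyFunctor (ModuleCat.{u} A) a).map ι) := by
      haveI := isIso_homology_truncLTι (a + 1) a (by omega) K
      rw [Functor.map_comp]
      infer_instance
    let eN' : N' ≅ (homologyFunctor (ModuleCat.{u} A) a).obj K :=
      ((singleFunctorCompHomologyFunctorIso (ModuleCat.{u} A) a).app N').symm ≪≫
        asIso ((homologyFunctor (ModuleCat.{u} A) a).map ι)
    haveI : Nontrivial N := eN.toLinearEquiv.toEquiv.nontrivial
    haveI : Nontrivial N' := eN'.toLinearEquiv.toEquiv.nontrivial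
    have hN : ∀ x ∈ m, ∀ y : N, x • y = 0 := fun x hx y => by
      apply eN.toLinearEquiv.injective
      rw [map_smul, map_zero]
      exact hkill b x hx _
    have hN' : ∀ x ∈ m, ∀ y : N', x • y = 0 := fun x hx y => by
      apply eN'.toLinearEquiv.injective
      rw [map_smul, map_zero]
      exact hkill a x hx _
    obtain ⟨φ, hφ⟩ := exists_map_ne_zero m N N' hN hN'
    let σ : (DerivedCategory.singleFunctor (ModuleCat.{u} A) b).obj N' ≅
        ((DerivedCategory.singleFunctor (ModuleCat.{u} A) a).obj N')⟦a - b⟧ :=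
      (((DerivedCategory.singleFunctors (ModuleCat.{u} A)).shiftIso (a - b) b a
        (by omega)).app N').symm
    let c : K ⟶ K⟦a - b⟧ :=
      p ≫ (DerivedCategory.singleFunctor (ModuleCat.{u} A) b).map (ModuleCat.ofHom φ) ≫ σ.hom ≫
        (shiftFunctor (Dual.D A) (a - b)).map ι
    haveI := hneg (a - b) (by omega)
    have hc : c = 0 := Subsingleton.elim _ _
    haveI hι' : IsIso ((homologyFunctor (ModuleCat.{u} A) b).map
        ((shiftFunctor (Dual.D A) (a - b)).map ι)) := by
      have h1 := (NatIso.isIso_map_iff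
        ((homologyFunctor (ModuleCat.{u} A) 0).shiftIso (a - b) b a (by omega)) ι).2 hι
      exact h1
    have h3 : (homologyFunctor (ModuleCat.{u} A) b).map p ≫
        ((homologyFunctor (ModuleCat.{u} A) b).map
          ((DerivedCategory.singleFunctor (ModuleCat.{u} A) b).map (ModuleCat.ofHom φ)) ≫
        ((homologyFunctor (ModuleCat.{u} A) b).map σ.hom ≫
          (homologyFunctor (ModuleCat.{u} A) b).map
            ((shiftFunctor (Dual.D A) (a - b)).map ι))) = 0 := by
      have := congrArg (fun t => (homologyFunctor (ModuleCat.{u} A) b).map t) hc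
      simpa only [c, Functor.map_comp, Functor.map_zero] using this
    have h4 := (cancel_epi ((homologyFunctor (ModuleCat.{u} A) b).map p)).1
      (h3.trans comp_zero.symm)
    have h5 : (homologyFunctor (ModuleCat.{u} A) b).map
        ((DerivedCategory.singleFunctor (ModuleCat.{u} A) b).map (ModuleCat.ofHom φ)) = 0 :=
      (cancel_mono ((homologyFunctor (ModuleCat.{u} A) b).map σ.hom ≫
        (homologyFunctor (ModuleCat.{u} A) b).map
          ((shiftFunctor (Dual.D A) (a - b)).map ι))).1 (h4.trans zero_comp.symm)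
    have h6 := (singleFunctorCompHomologyFunctorIso (ModuleCat.{u} A) b).hom.naturality
      (ModuleCat.ofHom φ)
    rw [Functor.comp_map, h5, zero_comp] at h6
    have h7 : ModuleCat.ofHom φ = 0 :=
      (cancel_epi ((singleFunctorCompHomologyFunctorIso (ModuleCat.{u} A) b).hom.app N)).1
        (h6.symm.trans comp_zero.symm)
    exact hφ (congrArg ModuleCat.Hom.hom h7)
  subst hEq
  have h0 : ∀ j : ℤ, j ≠ a → Subsingleton (Dual.HD A K j) := fun j hj => by
    rcases lt_or_gt_of_ne hj with h | h
    · exact hamin j h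
    · exact hbmax j h
  obtain ⟨eK⟩ := Groth.Agent.Lib.H6xUq.nonempty_iso_shift_single_of_HD K a (-a) (by omega) h0
  have hend : ∀ g : Dual.HD A K a →ₗ[A] Dual.HD A K a, ∃ c : A, ∀ w, g w = c • w := by
    intro g
    let G : K ⟶ K := eK.hom ≫ (shiftFunctor (Dual.D A) (-a)).map
      ((DerivedCategory.singleFunctor (ModuleCat.{u} A) 0).map (ModuleCat.ofHom g)) ≫ eK.inv
    obtain ⟨c, hc⟩ := exists_eq_smul_id m K e G
    refine ⟨c, ?_⟩
    have h1 : (shiftFunctor (Dual.D A) (-a)).map
        ((DerivedCategory.singleFunctor (ModuleCat.{u} A) 0).map (ModuleCat.ofHom g)) =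
        c • 𝟙 _ := by
      have h2 : (shiftFunctor (Dual.D A) (-a)).map
          ((DerivedCategory.singleFunctor (ModuleCat.{u} A) 0).map (ModuleCat.ofHom g)) =
          eK.inv ≫ G ≫ eK.hom := by
        simp only [G, Category.assoc, Iso.inv_hom_id, Category.comp_id, Iso.inv_hom_id_assoc]
      rw [h2, hc, Linear.smul_comp, Linear.comp_smul, Category.id_comp, Iso.inv_hom_id]
    have h2 : (DerivedCategory.singleFunctor (ModuleCat.{u} A) 0).map (ModuleCat.ofHom g) =
        c • 𝟙 _ :=
      (shiftFunctor (Dual.D A) (-a)).map_injective (by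
        rw [h1, Functor.map_smul, CategoryTheory.Functor.map_id])
    have h3 : ModuleCat.ofHom g = c • 𝟙 _ :=
      (DerivedCategory.singleFunctor (ModuleCat.{u} A) 0).map_injective (by
        rw [h2, Functor.map_smul, CategoryTheory.Functor.map_id])
    intro w
    exact congrArg (fun t => t.hom w) h3
  obtain ⟨l⟩ := nonempty_linearEquiv_of_scalar_end m (Dual.HD A K a) (hkill a) hend
  exact ⟨-a, ⟨eK ≪≫ (shiftFunctor (Dual.D A) (-a)).mapIso
    ((DerivedCategory.singleFunctor (ModuleCat.{u} A) 0).mapIso l.toModuleIso)⟩⟩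

end Point

end Groth.Agent.Lib.H6xPt
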