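import Mathlib
import Groth.Prelude.Def_Wider
set_option backward.isDefEq.respectTransparency.types false

/-!
# helper6: fully faithful linear functors commuting with shifts induce linear equivalences on
shifted hom spaces
-/

set_option autoImplicit false
set_option linter.style.haveILetI false
universe u
open CategoryTheory CategoryTheory.Limits

namespace Groth.Agent.Lib.H6xPt

section Abstract

variable {C D : Type*} [Category C] [Category D] [Preadditive C] [Preadditive D]
  [HasShift C ℤ] [HasShift D ℤ] {A : Type*} [CommRing A] [Linear A C] [Linear A D]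
  (H : C ⥤ D) [H.CommShift ℤ] [H.Additive] [H.Linear A] (hH : H.FullyFaithful)

/-- `Hom(V, W⟦i⟧) ≃ₗ Hom(H V, (H W)⟦i⟧)` -/
noncomputable def homShiftEquiv (V W : C) (i : ℤ) :
    (V ⟶ W⟦i⟧) ≃ₗ[A] (H.obj V ⟶ (H.obj W)⟦i⟧) where
  toFun f := H.map f ≫ (H.commShiftIso i).hom.app W
  invFun g := hH.preimage (g ≫ (H.commShiftIso i).inv.app W)
  map_add' f g := by rw [Functor.map_add, Preadditive.add_comp]
  map_smul' a f := by rw [Functor.map_smul, Linear.smul_comp, RingHom.id_apply]
  left_inv f := by
    apply hH.map_injective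
    rw [hH.map_preimage, Category.assoc, Iso.hom_inv_id_app]
    exact Category.comp_id _
  right_inv g := by
    change H.map (hH.preimage (g ≫ (H.commShiftIso i).inv.app W)) ≫
      (H.commShiftIso i).hom.app W = g
    rw [hH.map_preimage, Category.assoc, Iso.inv_hom_id_app]
    exact Category.comp_id _

end Abstract


section Sub

attribute [local instance] HasDerivedCategory.standard

variable {A : Type u} [CommRing A] (P : ObjectProperty (Dual.D A)) [P.IsTriangulated]
  (F : P.FullSubcategory ⥤ P.FullSubcategory) [F.CommShift ℤ] [F.IsEquivalence] [F.Additive]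
  [F.Linear A]

/-- an `A`-linear shift-compatible autoequivalence of a triangulated subcategory of `D(A)` induces
linear equivalences on shifted hom spaces -/
noncomputable def homEquivOfEquivalence (V W : P.FullSubcategory) (i : ℤ) :
    (V.obj ⟶ W.obj⟦i⟧) ≃ₗ[A] ((F.obj V).obj ⟶ (F.obj W).obj⟦i⟧) :=
  (homShiftEquiv (A := A) P.ι P.fullyFaithfulι V W i).symm ≪≫ₗ
    homShiftEquiv (A := A) (F ⋙ P.ι)
      ((Functor.FullyFaithful.ofFullyFaithful F).comp P.fullyFaithfulι) V W i

/-- essential surjectivity -/
lemma exists_obj_iso (Y : Dual.D A) (hY : P Y) :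
    ∃ V : P.FullSubcategory, Nonempty ((F.obj V).obj ≅ Y) :=
  ⟨F.objPreimage ⟨Y, hY⟩, ⟨P.ι.mapIso (F.objObjPreimageIso ⟨Y, hY⟩)⟩⟩

end Sub

end Groth.Agent.Lib.H6xPt
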