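import Mathlib
import Groth.Agent.Lib.H6xPtB
import Groth.Agent.Lib.H6xPtC
import Groth.Agent.Lib.H6xLocN
import Groth.Agent.Lib.H6xLDD
set_option backward.isDefEq.respectTransparency.types false

/-!
# helper6: the image of `A[0]` under an `A`-linear triangulated autoequivalence of `D^b_{coh}(A)`:
maps to residue fields
-/

set_option autoImplicit false
set_option linter.style.haveILetI false
universe u
open CategoryTheory CategoryTheory.Limits Pretriangulated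
attribute [local instance] HasDerivedCategory.standard

namespace Groth.Agent.Lib.H6xPt

open DerivedCategory

section Res

variable {A : Type u} [CommRing A] (m : Ideal A) [hm : m.IsMaximal]

/-- `End_A(A/m) ≃ A/m` -/
noncomputable def endQuotEquiv : ((A ⧸ m) →ₗ[A] (A ⧸ m)) ≃ₗ[A] A ⧸ m where
  toFun f := f 1
  invFun y := toKilled m (A ⧸ m) (fun a ha x => by
    rw [Algebra.smul_def, Ideal.Quotient.algebraMap_eq, Ideal.Quotient.eq_zero_iff_mem.2 ha,
      zero_mul]) y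
  map_add' f g := rfl
  map_smul' a f := rfl
  left_inv f := by
    apply LinearMap.ext
    intro x
    obtain ⟨a, rfl⟩ := Ideal.Quotient.mk_surjective x
    rw [toKilled_mk]
    have h1 : (Ideal.Quotient.mk m a : A ⧸ m) = a • (1 : A ⧸ m) := by
      rw [Algebra.smul_def, Ideal.Quotient.algebraMap_eq, mul_one]
    rw [h1, map_smul]
  right_inv y := by
    change toKilled m (A ⧸ m) _ y (Ideal.Quotient.mk m 1) = y
    rw [toKilled_mk, one_smul]

/-- `End(κ_m[0]) ≃ A/m` -/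
noncomputable def endResidueEquiv :
    (Dual.inD A (A ⧸ m) ⟶ Dual.inD A (A ⧸ m)) ≃ₗ[A] A ⧸ m :=
  (LinearEquiv.ofBijective
    ({ toFun := fun f => (DerivedCategory.singleFunctor (ModuleCat.{u} A) 0).map f
       map_add' := fun f g => Functor.map_add _
       map_smul' := fun a f => Functor.map_smul _ _ _ } :
      (ModuleCat.of A (A ⧸ m) ⟶ ModuleCat.of A (A ⧸ m)) →ₗ[A]
        (Dual.inD A (A ⧸ m) ⟶ Dual.inD A (A ⧸ m)))
    ⟨fun f g h => (DerivedCategory.singleFunctor (ModuleCat.{u} A) 0).map_injective h,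
      fun f => (DerivedCategory.singleFunctor (ModuleCat.{u} A) 0).map_surjective f⟩).symm ≪≫ₗ
    ModuleCat.homLinearEquiv (S := A) ≪≫ₗ endQuotEquiv m

end Res


section Key

variable {A : Type u} [CommRing A] (P : ObjectProperty (Dual.D A)) [P.IsTriangulated]
  (hP : ∀ K : Dual.D A, P K ↔ ((∀ i : ℤ, Module.Finite A (Dual.HD A K i)) ∧
    ∃ a b : ℤ, ∀ i : ℤ, (i < a ∨ b < i) → Subsingleton (Dual.HD A K i)))
  (F : P.FullSubcategory ⥤ P.FullSubcategory) [F.CommShift ℤ] [F.IsEquivalence] [F.Additive]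
  [F.Linear A] (U : P.FullSubcategory) (eU : U.obj ≅ Dual.inD A A)
  (m : Ideal A) [hm : m.IsMaximal]

include hP in
lemma prop_residue : P (Dual.inD A (A ⧸ m)) := by
  refine (hP _).2 ⟨fun i => ?_, ⟨0, 0, fun i hi =>
    Groth.Agent.Lib.H6xLD.subsingleton_HD_inD (A ⧸ m) i (by omega)⟩⟩
  by_cases hi : i = 0
  · subst hi
    exact Module.Finite.equiv (Groth.Agent.Lib.H6xLD.HDInDZeroEquiv (A := A) (A ⧸ m)).symm
  · haveI := Groth.Agent.Lib.H6xLD.subsingleton_HD_inD (A := A) (A ⧸ m) i hi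
    infer_instance

include hP eU hm in
/-- the maps from `F(A[0])` to the shifts of a residue field: nonzero in exactly one degree, where
they form a one-dimensional space -/
theorem exists_degree_hom_residue :
    ∃ j : ℤ, (∀ i : ℤ, i ≠ -j →
        Subsingleton ((F.obj U).obj ⟶ (Dual.inD A (A ⧸ m))⟦i⟧)) ∧
      Nonempty (((F.obj U).obj ⟶ (Dual.inD A (A ⧸ m))⟦-j⟧) ≃ₗ[A] A ⧸ m) := by
  obtain ⟨V, ⟨eV⟩⟩ := exists_obj_iso P F _ (prop_residue P hP m)
  have key : ∀ i : ℤ, Nonempty ((V.obj ⟶ V.obj⟦i⟧) ≃ₗ[A]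
      (Dual.inD A (A ⧸ m) ⟶ (Dual.inD A (A ⧸ m))⟦i⟧)) := fun i =>
    ⟨homEquivOfEquivalence P F V V i ≪≫ₗ
      Linear.homCongr A eV ((shiftFunctor (Dual.D A) i).mapIso eV)⟩
  obtain ⟨k0⟩ := key 0
  let e : (V.obj ⟶ V.obj) ≃ₗ[A] A ⧸ m :=
    Linear.homCongr A (Iso.refl _) ((shiftFunctorZero (Dual.D A) ℤ).app V.obj).symm ≪≫ₗ k0 ≪≫ₗ
      Linear.homCongr A (Iso.refl _) ((shiftFunctorZero (Dual.D A) ℤ).app _) ≪≫ₗ
      endResidueEquiv m
  have hneg : ∀ i : ℤ, i < 0 → Subsingleton (V.obj ⟶ V.obj⟦i⟧) := fun i hi => by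
    obtain ⟨k⟩ := key i
    haveI := Groth.Agent.Lib.H6xLoc.subsingleton_hom_of_lt (Dual.inD A (A ⧸ m)) 0
      (fun j hj => Groth.Agent.Lib.H6xLD.subsingleton_HD_inD (A ⧸ m) j (by omega)) (A ⧸ m) i hi
    exact k.toEquiv.subsingleton
  obtain ⟨n, ⟨eVn⟩⟩ := exists_iso_shift_residue m V.obj ((hP V.obj).1 V.property).2 e hneg
  have hl : ∀ i k : ℤ, n + i = k → Nonempty (((F.obj U).obj ⟶ (Dual.inD A (A ⧸ m))⟦i⟧) ≃ₗ[A]
      Dual.HD A (Dual.inD A (A ⧸ m)) k) := fun i k hk => by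
    obtain ⟨l⟩ := Groth.Agent.Lib.H6xBid.nonempty_hom_linearEquiv_HD (Dual.inD A (A ⧸ m)) k
    exact ⟨Linear.homCongr A (Iso.refl _) ((shiftFunctor (Dual.D A) i).mapIso eV.symm) ≪≫ₗ
      (homEquivOfEquivalence P F U V i).symm ≪≫ₗ
      Linear.homCongr A eU ((shiftFunctor (Dual.D A) i).mapIso eVn ≪≫
        ((shiftFunctorAdd' (Dual.D A) n i k hk).app _).symm) ≪≫ₗ l⟩
  refine ⟨n, fun i hi => ?_, ?_⟩
  · obtain ⟨l⟩ := hl i (n + i) rfl
    haveI := Groth.Agent.Lib.H6xLD.subsingleton_HD_inD (A := A) (A ⧸ m) (n + i) (by omega)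
    exact l.toEquiv.subsingleton
  · obtain ⟨l⟩ := hl (-n) 0 (by omega)
    exact ⟨l ≪≫ₗ Groth.Agent.Lib.H6xLD.HDInDZeroEquiv (A := A) (A ⧸ m)⟩

end Key

end Groth.Agent.Lib.H6xPt
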