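import Mathlib
import Groth.Agent.Lib.H6xPtA
import Groth.Agent.Lib.H6xPExtB
import Groth.Agent.Lib.Helper1Fibres
set_option backward.isDefEq.respectTransparency.types false

/-!
# helper6: fibre exactness from vanishing of maps to the residue field
-/

set_option autoImplicit false
set_option linter.style.haveILetI false
universe u
open CategoryTheory CategoryTheory.Limits
attribute [local instance] HasDerivedCategory.standard

namespace Groth.Agent.Lib.H6xPt

section Alg

variable {A : Type u} [CommRing A] (m : Ideal A) [hm : m.IsMaximal]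

open TensorProduct

/-- duality over the residue field: if every functional `M₂ → A/m` killing the image of `d₁`
factors through `d₂`, then `A/m ⊗ M₁ → A/m ⊗ M₂ → A/m ⊗ M₃` is exact -/
theorem exact_lTensor_of_factor {M₁ M₂ M₃ : Type u} [AddCommGroup M₁] [Module A M₁]
    [AddCommGroup M₂] [Module A M₂] [AddCommGroup M₃] [Module A M₃]
    (d₁ : M₁ →ₗ[A] M₂) (d₂ : M₂ →ₗ[A] M₃) (hd : d₂ ∘ₗ d₁ = 0)
    (h : ∀ z : M₂ →ₗ[A] A ⧸ m, z ∘ₗ d₁ = 0 → ∃ g : M₃ →ₗ[A] A ⧸ m, g ∘ₗ d₂ = z) :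
    Function.Exact (d₁.lTensor (A ⧸ m)) (d₂.lTensor (A ⧸ m)) := by
  rw [LinearMap.exact_iff]
  apply le_antisymm
  · intro x hx
    rw [LinearMap.mem_ker] at hx
    by_contra hxr
    -- the quotient by the range, killed by `m`
    let R := LinearMap.range (d₁.lTensor (A ⧸ m))
    let V := ((A ⧸ m) ⊗[A] M₂) ⧸ R
    have hV : ∀ a ∈ m, ∀ v : V, a • v = 0 := by
      intro a ha v
      obtain ⟨y, rfl⟩ := Submodule.Quotient.mk_surjective R v
      rw [← Submodule.Quotient.mk_smul]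
      have : a • y = 0 := by
        induction y using TensorProduct.induction_on with
        | zero => rw [smul_zero]
        | tmul c f =>
          rw [TensorProduct.smul_tmul']
          have : a • c = 0 := by
            rw [Algebra.smul_def, Ideal.Quotient.algebraMap_eq,
              Ideal.Quotient.eq_zero_iff_mem.2 ha, zero_mul]
          rw [this, TensorProduct.zero_tmul]
        | add y₁ y₂ h₁ h₂ => rw [smul_add, h₁, h₂, add_zero]
      rw [this, Submodule.Quotient.mk_zero]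
    have hv : (Submodule.Quotient.mk x : V) ≠ 0 := by
      intro h0
      exact hxr ((Submodule.Quotient.mk_eq_zero R).1 h0)
    obtain ⟨ψ, hψ⟩ := exists_functional_ne_zero m V hV _ hv
    let z : M₂ →ₗ[A] A ⧸ m := ψ ∘ₗ R.mkQ ∘ₗ (TensorProduct.mk A (A ⧸ m) M₂ 1)
    have hz : z ∘ₗ d₁ = 0 := by
      apply LinearMap.ext
      intro f
      change ψ (Submodule.Quotient.mk ((1 : A ⧸ m) ⊗ₜ[A] d₁ f)) = 0
      have : (Submodule.Quotient.mk ((1 : A ⧸ m) ⊗ₜ[A] d₁ f) : V) = 0 := by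
        rw [Submodule.Quotient.mk_eq_zero]
        exact ⟨(1 : A ⧸ m) ⊗ₜ[A] f, rfl⟩
      rw [this, map_zero]
    obtain ⟨g, hg⟩ := h z hz
    -- `ĝ : A/m ⊗ M₃ → A/m`
    let ĝ : (A ⧸ m) ⊗[A] M₃ →ₗ[A] A ⧸ m :=
      LinearMap.mul' A (A ⧸ m) ∘ₗ (g.lTensor (A ⧸ m))
    have key : ψ ∘ₗ R.mkQ = ĝ ∘ₗ d₂.lTensor (A ⧸ m) := by
      apply TensorProduct.ext'
      intro c f
      obtain ⟨a, rfl⟩ := Ideal.Quotient.mk_surjective c
      have h1 : (Ideal.Quotient.mk m a) ⊗ₜ[A] f = a • ((1 : A ⧸ m) ⊗ₜ[A] f) := by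
        rw [TensorProduct.smul_tmul', Algebra.smul_def, Ideal.Quotient.algebraMap_eq, mul_one]
      have h2 : (Ideal.Quotient.mk m a) ⊗ₜ[A] (d₂ f) = a • ((1 : A ⧸ m) ⊗ₜ[A] (d₂ f)) := by
        rw [TensorProduct.smul_tmul', Algebra.smul_def, Ideal.Quotient.algebraMap_eq, mul_one]
      rw [LinearMap.comp_apply, LinearMap.comp_apply, LinearMap.lTensor_tmul, h1, h2, map_smul,
        map_smul, map_smul]
      congr 1
      change z f = LinearMap.mul' A (A ⧸ m) ((1 : A ⧸ m) ⊗ₜ[A] g (d₂ f))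
      rw [LinearMap.mul'_apply, one_mul, ← hg]
      rfl
    have h3 : ψ (Submodule.Quotient.mk x) = 0 := by
      have := LinearMap.congr_fun key x
      rw [LinearMap.comp_apply, LinearMap.comp_apply, hx, map_zero] at this
      exact this
    exact hψ h3
  · rintro _ ⟨y, rfl⟩
    rw [LinearMap.mem_ker, ← LinearMap.comp_apply, ← LinearMap.lTensor_comp, hd,
      LinearMap.lTensor_zero, LinearMap.zero_apply]

end Alg

section Chain

variable {A : Type u} [CommRing A] (m : Ideal A) [hm : m.IsMaximal]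

open Groth.Agent.Lib.Helper1.LDer Groth.Agent.Lib.Helper1.Tor Groth.Agent.Lib.Helper1.LocalCx
  Groth.Agent.Lib.Helper1.Extend

/-- a K-projective complex with no maps to `κ(m)[i]` in `D(A)` has exact fibre at `m` in
degree `-i` -/
theorem exactAt_bc_of_subsingleton_hom (F : DRing.Cx A) [F.IsKProjective] (i j : ℤ)
    (hij : j + i = 0)
    (h : Subsingleton (DerivedCategory.Q.obj F ⟶ (Dual.inD A (A ⧸ m))⟦i⟧)) :
    ((bcCx (Ideal.Quotient.mk m)).obj F).ExactAt j := by
  rw [exactAt_bc_iff_TC]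
  let eκ : (ModuleCat.restrictScalars.{u} (Ideal.Quotient.mk m)).obj
      (ModuleCat.of (A ⧸ m) (A ⧸ m)) ≅ ModuleCat.of A (A ⧸ m) :=
    (e₀ (A := A) (A ⧸ m)).toModuleIso
  rw [exactAt_TC_congr eκ, exactAt_TC_iff _ F (j - 1) j (j + 1) (by lia) rfl]
  refine exact_lTensor_of_factor m _ _ ?_ ?_
  · rw [← ModuleCat.hom_comp, F.d_comp_d]
    rfl
  · intro z hz
    have hz' : F.d (j - 1) j ≫ ModuleCat.ofHom z = 0 := by
      apply ModuleCat.hom_ext
      exact hz
    have h0 : Groth.Agent.Lib.H6xPExt.E F (ModuleCat.of A (A ⧸ m)) hij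
        (show j - 1 + 1 = j by lia) (ModuleCat.ofHom z) hz' = 0 := Subsingleton.elim _ _
    obtain ⟨g, hg⟩ := (Groth.Agent.Lib.H6xPExt.E_eq_zero_iff F (ModuleCat.of A (A ⧸ m)) hij
      (show j - 1 + 1 = j by lia) (show j + 1 = j + 1 from rfl) (ModuleCat.ofHom z) hz').1 h0
    refine ⟨g.hom, ?_⟩
    have := congrArg ModuleCat.Hom.hom hg
    exact this

end Chain

end Groth.Agent.Lib.H6xPt
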