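import Mathlib
import Groth.Agent.Lib.H6xPtB
import Groth.Agent.Lib.H6xPtE
import Groth.Agent.Lib.H6xLocL
import Groth.Agent.Lib.H6xLDD
import Groth.Agent.S5611
set_option backward.isDefEq.respectTransparency.types false

/-!
# helper6: perfectness from maps to residue fields
-/

set_option autoImplicit false
set_option linter.style.haveILetI false
universe u
open CategoryTheory CategoryTheory.Limits
attribute [local instance] HasDerivedCategory.standard

namespace Groth.Agent.Lib.H6xPt

open DerivedCategory Groth.Agent.Lib.Helper1.LDer Groth.Agent.Lib.Helper1.Tor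
  Groth.Agent.Lib.Helper1.LocalCx Groth.Agent.Lib.Helper1.Extend Groth.Agent.Lib.H6xLoc

section TA

variable {B : Type u} [CommRing B]

lemma subsingleton_HD_of_hasTorAmp (K : Dual.D B) (a b : ℤ)
    (h : DRing.HasTorAmplitudeIn B a b K) (i : ℤ) (hi : i < a ∨ b < i) :
    Subsingleton (Dual.HD B K i) := by
  obtain ⟨G, hG, -, ⟨e⟩⟩ := h
  have hz : IsZero (G.X i) := hG i hi
  have h1 : G.ExactAt i := by
    rw [HomologicalComplex.exactAt_iff]
    exact ShortComplex.exact_of_isZero_X₂ _ hz
  have h2 : IsZero (G.homology i) := h1.isZero_homology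
  haveI : Subsingleton (Dual.HD B (DRing.toD G) i) := ModuleCat.subsingleton_of_isZero
    (h2.of_iso ((homologyFunctorFactors (ModuleCat.{u} B) i).app G))
  exact ((homologyFunctor (ModuleCat.{u} B) i).mapIso e).symm.toLinearEquiv.toEquiv.subsingleton

end TA

section Loc

variable {A : Type u} [CommRing A] (m : Ideal A) [hm : m.IsMaximal]

omit hm in
lemma smul_id_residue_eq_zero (c : A) (hc : c ∈ m) (i : ℤ) :
    c • 𝟙 ((Dual.inD A (A ⧸ m))⟦i⟧) = 0 := by
  have h0 : c • 𝟙 (ModuleCat.of A (A ⧸ m)) = 0 := by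
    apply ModuleCat.hom_ext
    apply LinearMap.ext
    intro x
    change c • x = 0
    rw [Algebra.smul_def, Ideal.Quotient.algebraMap_eq, Ideal.Quotient.eq_zero_iff_mem.2 hc,
      zero_mul]
  have h1 : c • 𝟙 (Dual.inD A (A ⧸ m)) = 0 := by
    have := congrArg (DerivedCategory.singleFunctor (ModuleCat.{u} A) 0).map h0
    rw [Functor.map_smul, CategoryTheory.Functor.map_id, Functor.map_zero] at this
    exact this
  have := congrArg (shiftFunctor (Dual.D A) i).map h1
  rw [Functor.map_smul, CategoryTheory.Functor.map_id, Functor.map_zero] at this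
  exact this

/-- if the localization of `X` at `m` vanishes then `X` has no maps to `κ(m)[i]` -/
lemma subsingleton_hom_residue_of_isZero_loc (X : Dual.D A) (hX : DRing.IsPseudoCoherent' A X)
    (hz : IsZero ((LS m.primeCompl).obj X)) (i : ℤ) :
    Subsingleton (X ⟶ (Dual.inD A (A ⧸ m))⟦i⟧) := by
  refine ⟨fun f g => ?_⟩
  suffices h : ∀ f : X ⟶ (Dual.inD A (A ⧸ m))⟦i⟧, f = 0 by rw [h f, h g]
  intro f
  have hW : ∃ a : ℤ, ∀ i' : ℤ, i' < a →
      Subsingleton (Dual.HD A ((Dual.inD A (A ⧸ m))⟦i⟧) i') := by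
    refine ⟨-i, fun i' hi' => ?_⟩
    haveI := Groth.Agent.Lib.H6xLD.subsingleton_HD_inD (A := A) (A ⧸ m) (i + i') (by omega)
    exact (HDShiftEquiv (Dual.inD A (A ⧸ m)) i i' (i + i') rfl).toEquiv.subsingleton
  obtain ⟨s, hs⟩ := locHom_inj (S := m.primeCompl) X _ hX hW f (hz.eq_of_src _ _)
  have hsm : (s : A) ∉ m := s.2
  obtain ⟨b, c, hc, hbc⟩ := hm.exists_inv hsm
  have h1 : f = (b * (s : A) + c) • f := by rw [hbc, one_smul]
  have h2 : c • f = 0 := by
    have : c • f = f ≫ (c • 𝟙 _) := by rw [Linear.comp_smul, Category.comp_id]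
    rw [this, smul_id_residue_eq_zero m c hc i, comp_zero]
  rw [add_smul, mul_smul, hs, smul_zero, h2, add_zero] at h1
  exact h1

end Loc

section Perf

variable {A : Type u} [CommRing A] [IsNoetherianRing A]

/-- an object of `D^b_{coh}(A)` whose maps to each `κ(m)[i]` are concentrated in a single degree
(depending on `m`) is perfect -/
theorem isPerfect_of_hom_residue (X : Dual.D A)
    (hfin : ∀ i : ℤ, Module.Finite A (Dual.HD A X i))
    (hbdd : ∃ a b : ℤ, ∀ i : ℤ, (i < a ∨ b < i) → Subsingleton (Dual.HD A X i))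
    (h : ∀ (m : Ideal A) [m.IsMaximal], ∃ j : ℤ,
      (∀ i : ℤ, i ≠ -j → Subsingleton (X ⟶ (Dual.inD A (A ⧸ m))⟦i⟧)) ∧
        Nontrivial (X ⟶ (Dual.inD A (A ⧸ m))⟦-j⟧)) :
    DRing.IsPerfect A X := by
  obtain ⟨a, b, hab⟩ := hbdd
  have hX : DRing.IsPseudoCoherent' A X :=
    isPseudoCoherent'_of_finite X hfin ⟨b, fun i hi => hab i (Or.inr hi)⟩
  obtain ⟨F, bF, hFb, hFff, ⟨eF⟩⟩ := hX
  haveI : F.IsStrictlyLE bF := by
    rw [CochainComplex.isStrictlyLE_iff]
    exact fun i hi => hFb i hi
  haveI : ∀ n : ℤ, Projective (F.X n) := fun n => by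
    haveI := (hFff n).2
    exact (IsProjective.iff_projective (R := A) (P := F.X n)).1 inferInstance
  haveI : F.IsKProjective := CochainComplex.isKProjective_of_projective F bF
  -- transport of the hypotheses to `Q.obj F`
  have hsub : ∀ (m : Ideal A) [m.IsMaximal] (i : ℤ),
      Subsingleton (X ⟶ (Dual.inD A (A ⧸ m))⟦i⟧) →
        Subsingleton (DerivedCategory.Q.obj F ⟶ (Dual.inD A (A ⧸ m))⟦i⟧) := by
    intro m _ i hs
    refine ⟨fun f g => ?_⟩
    have := hs.elim (eF.inv ≫ f) (eF.inv ≫ g)
    exact (cancel_epi eF.inv).1 this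
  have key : ∀ (m : Ideal A) [m.IsMaximal] (i : ℤ), (i < a ∨ b < i) →
      ((bcCx (Ideal.Quotient.mk m)).obj F).ExactAt i := by
    intro m _ i hi
    obtain ⟨j, hj1, hj2⟩ := h m
    by_cases hij : i = j
    · subst hij
      exfalso
      have hex : ∀ i' : ℤ, i' ≠ i → ((bcCx (Ideal.Quotient.mk m)).obj F).ExactAt i' :=
        fun i' hi' => exactAt_bc_of_subsingleton_hom m F (-i') i' (by ring)
          (hsub m (-i') (hj1 (-i') (by omega)))
      have hloc : DRing.HasTorAmplitudeIn (Localization.AtPrime m) i i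
          (DRing.toD ((bcCx (algebraMap A (Localization.AtPrime m))).obj F)) :=
        hasTorAmp_of_exactAt_TC_residueField _ bF (vanishesAbove_bc _ F bF hFb)
          (termwiseFiniteFree_bc _ F hFff) i i
          (fun i' hi' => exactAt_TC_residueField_atPrime m F i' (hex i' (by omega)))
      have hz : IsZero ((LS m.primeCompl).obj X) := by
        apply isZero_of_forall_subsingleton_HD
        intro i'
        by_cases h' : i' = i
        · subst h'
          haveI := hab i' hi
          exact (localizedHDEquiv m.primeCompl X i').symm.toEquiv.subsingleton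
        · let e1 : (LS m.primeCompl).obj X ≅
              DRing.toD ((bcCx (algebraMap A (Localization.AtPrime m))).obj F) :=
            (LS m.primeCompl).mapIso eF.symm ≪≫
              mapQIso (ext A (Localization.AtPrime m)) F
          haveI := subsingleton_HD_of_hasTorAmp _ i i hloc i' (by omega)
          exact ((homologyFunctor (ModuleCat.{u} (Localization.AtPrime m)) i').mapIso
            e1).toLinearEquiv.toEquiv.subsingleton
      have hs := subsingleton_hom_residue_of_isZero_loc m X ⟨F, bF, hFb, hFff, ⟨eF⟩⟩ hz (-i)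
      exact not_subsingleton (X ⟶ (Dual.inD A (A ⧸ m))⟦-i⟧) hs
    · exact exactAt_bc_of_subsingleton_hom m F (-i) i (by ring)
        (hsub m (-i) (hj1 (-i) (by omega)))
  have hTA : DRing.HasTorAmplitudeIn A a b (DRing.toD F) :=
    hasTorAmp_of_fibres F bF hFb hFff a b (fun m _ i hi => key m i hi)
  have hTA' : DRing.HasTorAmplitudeIn A a b X := hasTorAmp_of_iso eF hTA
  have hpc : DRing.IsPseudoCoherent A (a - 1) X :=
    ((Groth.Agent.S6943.result A (fun I _ => Module.finitePresentation_of_finite A I) X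
      ⟨b, fun i hi => hab i (Or.inr hi)⟩ (a - 1)).1).2
      ⟨hfin (a - 1), fun i _ => by
        haveI := hfin i
        exact Module.finitePresentation_of_finite A _⟩
  exact Groth.Agent.S5611.isPerfect_of_pc_of_torAmp X a b hpc hTA'

end Perf

end Groth.Agent.Lib.H6xPt
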