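import Mathlib
import Groth.Agent.Lib.Helper4DVRDom

/-!
# Pointwise functions varying along discrete valuation rings: ring level (part A)

For a commutative ring `A`, a *pointwise function* is a family `φ p ∈ κ(p)` for all primes `p`.
`VariesDVR φ` says that for each DVR `R` and each ring map `g : A → R` there is `r ∈ R` whose values at
all primes `q` of `R` are the images of `φ (g⁻¹ q)`.

* `generic_val`: for a DVR `V ⊆ κ(p)` containing the image of `A`, the element `r` given by the
  hypothesis is `φ p`.
* `isIntegral_of_variesDVR`: `φ p` is integral over `A` (Noetherian).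
* `specialize`: if `a ∈ A` has value `φ p` at `p` and `p ≤ y` then `a` has value `φ y` at `y`.
-/

set_option autoImplicit false
universe u

namespace Groth.Agent.Lib.H6xPtFunA

open IsLocalRing Groth.Agent.Lib.Helper4.DVRDom

variable {A : Type u} [CommRing A]

/-- The DVR hypothesis at ring level. -/
def VariesDVR (φ : ∀ p : PrimeSpectrum A, p.asIdeal.ResidueField) : Prop :=
  ∀ (R : Type u) [CommRing R] [IsDomain R] [IsDiscreteValuationRing R] (g : A →+* R),
    ∃ r : R, ∀ q : PrimeSpectrum R,
      algebraMap R q.asIdeal.ResidueField r =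
        Ideal.ResidueField.map (q.comap g).asIdeal q.asIdeal g rfl (φ (q.comap g))

variable {φ : ∀ p : PrimeSpectrum A, p.asIdeal.ResidueField}

lemma VariesDVR.spec (h : VariesDVR φ) (R : Type u) [CommRing R] [IsDomain R]
    [IsDiscreteValuationRing R] (g : A →+* R) :
    ∃ r : R, ∀ (q : Ideal R) [q.IsPrime] (P : PrimeSpectrum A) (hP : P.asIdeal = q.comap g),
      algebraMap R q.ResidueField r = Ideal.ResidueField.map P.asIdeal q g hP (φ P) := by
  obtain ⟨r, hr⟩ := h R g
  refine ⟨r, fun q hq P hP => ?_⟩
  obtain rfl : P = (⟨q, hq⟩ : PrimeSpectrum R).comap g := PrimeSpectrum.ext hP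
  exact hr ⟨q, hq⟩

/-- Every element of the residue field at a prime is a quotient of images of elements of `A`. -/
lemma exists_div (p : Ideal A) [p.IsPrime] (z : p.ResidueField) :
    ∃ a b : A, algebraMap A p.ResidueField b ≠ 0 ∧
      z = algebraMap A p.ResidueField a / algebraMap A p.ResidueField b := by
  obtain ⟨x, y, hy, hxy⟩ := IsFractionRing.div_surjective (A := A ⧸ p) z
  obtain ⟨a, rfl⟩ := Ideal.Quotient.mk_surjective x
  obtain ⟨b, rfl⟩ := Ideal.Quotient.mk_surjective y
  rw [Ideal.algebraMap_quotient_residueField_mk, Ideal.algebraMap_quotient_residueField_mk] at hxy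
  have hb : algebraMap A p.ResidueField b ≠ 0 := by
    rw [← Ideal.algebraMap_quotient_residueField_mk]
    exact (map_ne_zero_iff _ (Ideal.injective_algebraMap_quotient_residueField _)).mpr
      (nonZeroDivisors.ne_zero hy)
  exact ⟨a, b, hb, hxy.symm⟩

section generic

variable (p : PrimeSpectrum A) (V : ValuationSubring p.asIdeal.ResidueField)
  (hV : ∀ a : A, algebraMap A p.asIdeal.ResidueField a ∈ V)

/-- The ring map `A → V`. -/
noncomputable def toV : A →+* V :=
  (algebraMap A p.asIdeal.ResidueField).codRestrict V hV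

@[simp] lemma coe_toV (a : A) : ((toV p V hV a : V) : p.asIdeal.ResidueField) =
    algebraMap A p.asIdeal.ResidueField a := rfl

lemma comap_bot_toV : p.asIdeal = (⊥ : Ideal V).comap (toV p V hV) := by
  ext x
  rw [Ideal.mem_comap, Ideal.mem_bot, ← Ideal.algebraMap_residueField_eq_zero, ← coe_toV p V hV x]
  constructor
  · intro h; exact Subtype.ext h
  · intro h; rw [h]; rfl

/-- The embedding `κ(0_V) → κ(p)`. -/
noncomputable def botToL : (⊥ : Ideal V).ResidueField →+* p.asIdeal.ResidueField :=
  Ideal.ResidueField.lift ⊥ V.subtype (by simp) (by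
    intro v hv
    have hv0 : v ≠ 0 := fun h => hv (by rw [h]; exact zero_mem _)
    show IsUnit (V.subtype v)
    exact IsUnit.mk0 _ (fun h => hv0 (Subtype.ext h)))

lemma botToL_algebraMap (v : V) : botToL p V (algebraMap V _ v) = (v : p.asIdeal.ResidueField) := by
  rw [botToL, Ideal.ResidueField.lift_algebraMap]; rfl

lemma botToL_comp_map :
    (botToL p V).comp (Ideal.ResidueField.map p.asIdeal ⊥ (toV p V hV) (comap_bot_toV p V hV)) =
      RingHom.id _ := by
  apply Ideal.ResidueField.ringHom_ext
  ext a
  simp only [RingHom.comp_apply, RingHom.id_apply]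
  rw [Ideal.ResidueField.map_algebraMap, botToL_algebraMap, coe_toV]

theorem generic_val (r : V)
    (hr : algebraMap V (⊥ : Ideal V).ResidueField r =
      Ideal.ResidueField.map p.asIdeal ⊥ (toV p V hV) (comap_bot_toV p V hV) (φ p)) :
    (r : p.asIdeal.ResidueField) = φ p := by
  have h1 := congrArg (botToL p V) hr
  rw [botToL_algebraMap] at h1
  rw [h1]
  exact congrFun (congrArg DFunLike.coe (botToL_comp_map p V hV)) (φ p)

end generic

/-- A DVR `V ⊆ κ(p)` containing the image of `A` contains `φ p`; moreover the witness `r` of the DVR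
hypothesis along `A → V` is `φ p`. -/
theorem exists_witness (h : VariesDVR φ) (p : PrimeSpectrum A)
    (V : ValuationSubring p.asIdeal.ResidueField) [IsDiscreteValuationRing V]
    (hV : ∀ a : A, algebraMap A p.asIdeal.ResidueField a ∈ V) :
    ∃ r : V, (r : p.asIdeal.ResidueField) = φ p ∧
      ∀ (q : Ideal V) [q.IsPrime] (P : PrimeSpectrum A) (hP : P.asIdeal = q.comap (toV p V hV)),
      algebraMap V q.ResidueField r =
        Ideal.ResidueField.map P.asIdeal q (toV p V hV) hP (φ P) := by
  obtain ⟨r, hr⟩ := h.spec V (toV p V hV)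
  exact ⟨r, generic_val p V hV r (hr ⊥ p (comap_bot_toV p V hV)), fun q _ P hP => hr q P hP⟩

theorem mem_dvr (h : VariesDVR φ) (p : PrimeSpectrum A)
    (V : ValuationSubring p.asIdeal.ResidueField) [IsDiscreteValuationRing V]
    (hV : ∀ a : A, algebraMap A p.asIdeal.ResidueField a ∈ V) : φ p ∈ V := by
  obtain ⟨r, hr, -⟩ := exists_witness h p V hV
  rw [← hr]; exact r.2

end Groth.Agent.Lib.H6xPtFunA
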