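import Mathlib
import Groth.Agent.Lib.H6xPtFunA

/-!
# Pointwise functions varying along DVRs: integrality and specialisation (part B)
-/

set_option autoImplicit false
universe u

namespace Groth.Agent.Lib.H6xPtFunA

open IsLocalRing Groth.Agent.Lib.Helper4.DVRDom Polynomial Algebra

variable {A : Type u} [CommRing A]
variable {φ : ∀ p : PrimeSpectrum A, p.asIdeal.ResidueField}

/-- The value of `φ` at each prime is integral over `A`. -/
theorem isIntegral_of_variesDVR [IsNoetherianRing A] (h : VariesDVR φ) (p : PrimeSpectrum A) :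
    IsIntegral A (φ p) := by
  by_contra hni
  have hx0 : φ p ≠ 0 := fun h0 => hni (h0 ▸ isIntegral_zero)
  haveI : Nontrivial A := ⟨⟨0, 1, fun h01 => p.2.ne_top (by
    rw [Ideal.eq_top_iff_one, ← h01]; exact zero_mem _)⟩⟩
  set x := φ p with hx
  let := invertibleOfNonzero (inv_ne_zero hx0)
  let B := A[x⁻¹]
  let xinv : B.toSubring := ⟨x⁻¹, subset_adjoin rfl⟩
  have hspan : Ideal.span {xinv} ≠ ⊤ := fun eq => hni <| by
    obtain ⟨P, hP, hPx⟩ := exists_aeval_invOf_eq_zero_of_idealMap_adjoin_sup_span_eq_top x⁻¹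
      (⊥ : Ideal A) bot_ne_top (top_unique <| eq.ge.trans le_sup_right)
    refine ⟨P, ?_, ?_⟩
    · rw [Ideal.mem_bot, sub_eq_zero] at hP
      exact hP
    · rw [← aeval_def]
      simpa using hPx
  have hfg : B.FG := ⟨{x⁻¹}, by simp [B]⟩
  have hft : Algebra.FiniteType A B := (Subalgebra.fg_iff_finiteType B).mp hfg
  have hBN : IsNoetherianRing B.toSubring := Algebra.FiniteType.isNoetherianRing A B
  have : FaithfulSMul B.toSubring p.asIdeal.ResidueField :=
    (faithfulSMul_iff_algebraMap_injective _ _).mpr Subtype.val_injective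
  have hF : IsFractionRing B.toSubring p.asIdeal.ResidueField :=
    IsFractionRing.of_field (R := B.toSubring) (K := p.asIdeal.ResidueField) fun z => by
      obtain ⟨a, b, hb, rfl⟩ := exists_div p.asIdeal z
      exact ⟨⟨_, B.algebraMap_mem a⟩, ⟨_, B.algebraMap_mem b⟩, rfl⟩
  have hxinv0 : xinv ≠ 0 := fun h0 => inv_ne_zero hx0 (congrArg Subtype.val h0)
  obtain ⟨V, hVd, hBV, hxV⟩ := exists_dvr_of_noetherian_subring B.toSubring xinv hxinv0 hspan
  have hxV' : x ∉ V := (V.inv_mem_nonunits_iff.mp hxV).resolve_left hx0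
  haveI := hVd
  exact hxV' (mem_dvr h p V fun a => hBV (B.algebraMap_mem a))

/-- Specialisation: if `a` has the value `φ p` at `p` and `p ≤ y`, then `a` has the value `φ y`
at `y`. -/
theorem specialize [IsNoetherianRing A] (h : VariesDVR φ) (p y : PrimeSpectrum A)
    (hpy : p.asIdeal ≤ y.asIdeal) (a : A) (ha : algebraMap A p.asIdeal.ResidueField a = φ p) :
    algebraMap A y.asIdeal.ResidueField a = φ y := by
  by_cases hyp : y = p
  · subst hyp; exact ha
  obtain ⟨t, hty, htp⟩ : ∃ t, t ∈ y.asIdeal ∧ t ∉ p.asIdeal := by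
    by_contra hcon
    push Not at hcon
    exact hyp (PrimeSpectrum.ext (le_antisymm hcon hpy))
  set L := p.asIdeal.ResidueField with hL
  let f : A →+* L := algebraMap A L
  let B₀ : Subring L := f.range
  have hker : RingHom.ker f.rangeRestrict = p.asIdeal := by
    ext z
    rw [RingHom.mem_ker, ← Ideal.algebraMap_residueField_eq_zero (I := p.asIdeal)]
    constructor
    · intro hz; exact congrArg Subtype.val hz
    · intro hz; exact Subtype.ext hz
  have hsurj : Function.Surjective f.rangeRestrict := f.rangeRestrict_surjective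
  let yb : Ideal B₀ := y.asIdeal.map f.rangeRestrict
  haveI hyb : yb.IsPrime := Ideal.map_isPrime_of_surjective hsurj (by rw [hker]; exact hpy)
  have hmemyb : ∀ z : A, f.rangeRestrict z ∈ yb ↔ z ∈ y.asIdeal := by
    intro z
    have h1 : (yb.comap f.rangeRestrict) = y.asIdeal := by
      rw [Ideal.comap_map_of_surjective _ hsurj, ← RingHom.ker_eq_comap_bot, hker]
      exact sup_eq_left.mpr hpy
    rw [← Ideal.mem_comap, h1]
  have : FaithfulSMul B₀ L := (faithfulSMul_iff_algebraMap_injective _ _).mpr Subtype.val_injective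
  have hF₀ : IsFractionRing B₀ L :=
    IsFractionRing.of_field (R := B₀) (K := L) fun z => by
      obtain ⟨a, b, hb, rfl⟩ := exists_div p.asIdeal z
      exact ⟨⟨_, a, rfl⟩, ⟨_, b, rfl⟩, rfl⟩
  let R' := LocalSubring.ofPrime B₀ yb
  have hBR' : B₀ ≤ R'.toSubring := LocalSubring.le_ofPrime B₀ yb
  have hN : IsNoetherianRing R'.toSubring :=
    IsLocalization.isNoetherianRing yb.primeCompl R'.toSubring inferInstance
  have hF : IsFractionRing R'.toSubring L := isFractionRing_of_le B₀ _ hBR'
  have hE : Algebra.EssFiniteType R'.toSubring L :=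
    Algebra.EssFiniteType.of_isLocalization L (nonZeroDivisors R'.toSubring)
  have hmax : ∀ z : A, algebraMap B₀ R'.toSubring (f.rangeRestrict z) ∈ maximalIdeal R'.toSubring ↔
      z ∈ y.asIdeal := by
    intro z
    rw [IsLocalization.AtPrime.to_map_mem_maximal_iff R'.toSubring yb, hmemyb]
  have hnf : ¬ IsField R'.toSubring := by
    intro hfld
    have h1 := (hmax t).mpr hty
    rw [IsLocalRing.isField_iff_maximalIdeal_eq.mp hfld, Ideal.mem_bot] at h1
    apply htp
    rw [← Ideal.algebraMap_residueField_eq_zero (I := p.asIdeal)]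
    exact congrArg Subtype.val h1
  obtain ⟨V, hVd, hRV, hmV⟩ := exists_dvr_dominating' (L := L) (R := R'.toSubring) hnf
  haveI := hVd
  have hV : ∀ z : A, algebraMap A L z ∈ V := fun z =>
    hRV (algebraMap B₀ R'.toSubring (f.rangeRestrict z))
  obtain ⟨r, hr, hrq⟩ := exists_witness h p V hV
  have hP : y.asIdeal = (maximalIdeal V).comap (toV p V hV) := by
    ext z
    rw [Ideal.mem_comap]
    constructor
    · intro hz
      have h1 := hmV _ ((hmax z).mpr hz)
      obtain ⟨h2, h3⟩ := V.mem_nonunits_iff_exists_mem_maximalIdeal.mp h1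
      exact h3
    · intro hz
      by_contra hzy
      have h1 : algebraMap B₀ R'.toSubring (f.rangeRestrict z) ∉ maximalIdeal R'.toSubring :=
        fun h' => hzy ((hmax z).mp h')
      rw [mem_maximalIdeal, mem_nonunits_iff, not_not] at h1
      obtain ⟨w, hw⟩ := isUnit_iff_exists_inv.mp h1
      have hwV : (w : L) ∈ V := hRV w
      have h2 : IsUnit (toV p V hV z) := by
        refine isUnit_iff_exists_inv.mpr ⟨⟨w, hwV⟩, Subtype.ext ?_⟩
        have h3 := congrArg (fun u : R'.toSubring => (u : L)) hw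
        exact h3
      exact (mem_maximalIdeal _).mp hz h2
  have h1 := hrq (maximalIdeal V) y hP
  have hra : r = toV p V hV a := Subtype.ext (by rw [hr, coe_toV, ha])
  rw [hra, ← Ideal.ResidueField.map_algebraMap y.asIdeal (maximalIdeal V) (toV p V hV) hP] at h1
  exact (Ideal.ResidueField.map y.asIdeal (maximalIdeal V) (toV p V hV) hP).injective h1

end Groth.Agent.Lib.H6xPtFunA
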