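import Mathlib
import Groth.Agent.Lib.H6xPtFunA

/-!
# Gluing integral elements of the residue fields at the minimal primes (part C)

For a reduced Noetherian ring `A` which is integrally closed in its total ring of fractions, any
family of elements `ξ p ∈ κ(p)` (`p` minimal) integral over `A` comes from a single `a ∈ A`.
-/

set_option autoImplicit false
universe u

namespace Groth.Agent.Lib.H6xPtFunC

open Polynomial Groth.Agent.Lib.H6xPtFunA

variable {A : Type u} [CommRing A]

/-- In a reduced ring, an element lying in all minimal primes is zero. -/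
lemma eq_zero_of_forall_mem_minimalPrimes [IsReduced A] {a : A}
    (h : ∀ P ∈ minimalPrimes A, a ∈ P) : a = 0 := by
  have h1 : a ∈ sInf (minimalPrimes A) := by
    rw [Ideal.mem_sInf]; exact fun {P} hP => h P hP
  rw [minimalPrimes, Ideal.sInf_minimalPrimes] at h1
  have h2 : (⊥ : Ideal A).radical = ⊥ := by
    have := nilradical_eq_zero A
    exact this
  rw [h2] at h1
  exact h1

lemma mem_nonZeroDivisors_of_forall_notMem [IsReduced A] {s : A}
    (h : ∀ P ∈ minimalPrimes A, s ∉ P) : s ∈ nonZeroDivisors A := by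
  rw [mem_nonZeroDivisors_iff_right]
  intro x hx
  apply eq_zero_of_forall_mem_minimalPrimes
  intro P hP
  have hPp : P.IsPrime := hP.1.1
  have h1 : x * s ∈ P := hx ▸ P.zero_mem
  exact (hPp.mem_or_mem h1).resolve_right (h P hP)

/-- For a minimal prime `p` of a Noetherian ring there is an element outside `p` lying in all other
minimal primes. -/
lemma exists_notMem_mem_others [IsNoetherianRing A] {p : Ideal A} (hp : p ∈ minimalPrimes A) :
    ∃ x : A, x ∉ p ∧ ∀ q ∈ minimalPrimes A, q ≠ p → x ∈ q := by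
  classical
  have hfin := minimalPrimes.finite_of_isNoetherianRing A
  let T : Finset (Ideal A) := hfin.toFinset.erase p
  have hpp : p.IsPrime := hp.1.1
  have hnot : ¬ (T.inf id ≤ p) := by
    intro hle
    obtain ⟨Q, hQT, hQp⟩ := (Ideal.IsPrime.inf_le' hpp).mp hle
    rw [Finset.mem_erase, Set.Finite.mem_toFinset] at hQT
    have h1 : p ≤ Q := hp.2 ⟨hQT.2.1.1, bot_le⟩ hQp
    exact hQT.1 (le_antisymm hQp h1)
  obtain ⟨x, hxT, hxp⟩ := SetLike.not_le_iff_exists.mp hnot
  refine ⟨x, hxp, fun q hq hqp => ?_⟩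
  have hqT : q ∈ T := by
    rw [Finset.mem_erase, Set.Finite.mem_toFinset]; exact ⟨hqp, hq⟩
  exact (Finset.inf_le hqT : T.inf id ≤ id q) hxT

theorem exists_global [IsReduced A] [IsNoetherianRing A] [IsIntegrallyClosed A]
    (ξ : ∀ p : PrimeSpectrum A, p.asIdeal.ResidueField)
    (hint : ∀ p : PrimeSpectrum A, p.asIdeal ∈ minimalPrimes A → IsIntegral A (ξ p)) :
    ∃ a : A, ∀ p : PrimeSpectrum A, p.asIdeal ∈ minimalPrimes A →
      algebraMap A p.asIdeal.ResidueField a = ξ p := by
  classical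
  let ι := {p : PrimeSpectrum A // p.asIdeal ∈ minimalPrimes A}
  haveI : Finite (minimalPrimes A) := (minimalPrimes.finite_of_isNoetherianRing A).to_subtype
  haveI : Finite ι := Finite.of_injective (fun i : ι => (⟨i.1.asIdeal, i.2⟩ : minimalPrimes A))
    (fun i j hij => Subtype.ext (PrimeSpectrum.ext (congrArg Subtype.val hij)))
  haveI : Fintype ι := Fintype.ofFinite ι
  have hx : ∀ i : ι, ∃ x : A, x ∉ i.1.asIdeal ∧ ∀ j : ι, j ≠ i → x ∈ j.1.asIdeal := by
    intro i
    obtain ⟨x, hx1, hx2⟩ := exists_notMem_mem_others i.2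
    exact ⟨x, hx1, fun j hji => hx2 _ j.2 (fun h => hji (Subtype.ext (PrimeSpectrum.ext h)))⟩
  choose x hx1 hx2 using hx
  have huv : ∀ i : ι, ∃ u v : A, algebraMap A i.1.asIdeal.ResidueField v ≠ 0 ∧
      ξ i.1 = algebraMap A i.1.asIdeal.ResidueField u / algebraMap A i.1.asIdeal.ResidueField v :=
    fun i => exists_div i.1.asIdeal (ξ i.1)
  choose u v hv huv using huv
  have hP : ∀ i : ι, ∃ P : A[X], P.Monic ∧ eval₂ (algebraMap A i.1.asIdeal.ResidueField) (ξ i.1) P = 0 :=
    fun i => hint i.1 i.2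
  choose P hPm hP0 using hP
  set s : A := ∑ i, x i * v i with hs
  set w : A := ∑ i, x i * u i with hw
  have key : ∀ (c : ι → A) (j : ι), algebraMap A j.1.asIdeal.ResidueField (∑ i, x i * c i) =
      algebraMap A j.1.asIdeal.ResidueField (x j) * algebraMap A j.1.asIdeal.ResidueField (c j) := by
    intro c j
    rw [map_sum, Finset.sum_eq_single j]
    · rw [map_mul]
    · intro i _ hij
      rw [map_mul, Ideal.algebraMap_residueField_eq_zero.mpr (hx2 i j (Ne.symm hij)), zero_mul]
    · intro h; exact absurd (Finset.mem_univ j) h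
  have hxne : ∀ j : ι, algebraMap A j.1.asIdeal.ResidueField (x j) ≠ 0 := fun j h0 =>
    hx1 j (Ideal.algebraMap_residueField_eq_zero.mp h0)
  have hsN : s ∈ nonZeroDivisors A := by
    apply mem_nonZeroDivisors_of_forall_notMem
    intro Q hQ hsQ
    obtain ⟨j, rfl⟩ : ∃ j : ι, j.1.asIdeal = Q := ⟨⟨⟨Q, hQ.1.1⟩, hQ⟩, rfl⟩
    have h1 : algebraMap A j.1.asIdeal.ResidueField s = 0 :=
      Ideal.algebraMap_residueField_eq_zero.mpr hsQ
    rw [hs, key v j] at h1
    exact mul_ne_zero (hxne j) (hv j) h1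
  let K := FractionRing A
  have hg : ∀ (j : ι) (y : nonZeroDivisors A), IsUnit (algebraMap A j.1.asIdeal.ResidueField y) := by
    intro j y
    apply IsUnit.mk0
    intro h0
    have h1 : (y : A) ∈ j.1.asIdeal := Ideal.algebraMap_residueField_eq_zero.mp h0
    exact Set.disjoint_left.mp (Ideal.disjoint_nonZeroDivisors_of_mem_minimalPrimes j.2) h1 y.2
  let ψ : ∀ j : ι, K →+* j.1.asIdeal.ResidueField := fun j =>
    IsLocalization.lift (M := nonZeroDivisors A) (S := K) (hg j)
  have hψ : ∀ (j : ι) (a : A), ψ j (algebraMap A K a) = algebraMap A j.1.asIdeal.ResidueField a :=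
    fun j a => IsLocalization.lift_eq (hg j) a
  have hinj : ∀ z : K, (∀ j, ψ j z = 0) → z = 0 := by
    intro z hz
    obtain ⟨a, t, rfl⟩ := IsLocalization.exists_mk'_eq (nonZeroDivisors A) z
    have ha : a = 0 := by
      apply eq_zero_of_forall_mem_minimalPrimes
      intro Q hQ
      obtain ⟨j, rfl⟩ : ∃ j : ι, j.1.asIdeal = Q := ⟨⟨⟨Q, hQ.1.1⟩, hQ⟩, rfl⟩
      have h1 := congrArg (ψ j) (IsLocalization.mk'_spec K a t)
      rw [map_mul, hz j, zero_mul, hψ] at h1
      exact Ideal.algebraMap_residueField_eq_zero.mp h1.symm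
    rw [ha, IsLocalization.mk'_zero]
  let η : K := IsLocalization.mk' K w ⟨s, hsN⟩
  have hη : ∀ j : ι, ψ j η = ξ j.1 := by
    intro j
    have h1 := congrArg (ψ j) (IsLocalization.mk'_spec K w ⟨s, hsN⟩)
    rw [map_mul, hψ, hψ] at h1
    change ψ j η * algebraMap A j.1.asIdeal.ResidueField s = _ at h1
    rw [hs, hw, key v j, key u j] at h1
    rw [huv j, eq_div_iff (hv j)]
    apply mul_left_cancel₀ (hxne j)
    rw [← h1]; ring
  let Q : A[X] := ∏ i, P i
  have hQm : Q.Monic := monic_prod_of_monic _ _ (fun i _ => hPm i)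
  have hQ0 : eval₂ (algebraMap A K) η Q = 0 := by
    apply hinj
    intro j
    rw [hom_eval₂, hη j]
    have h2 : (ψ j).comp (algebraMap A K) = algebraMap A j.1.asIdeal.ResidueField :=
      RingHom.ext (hψ j)
    rw [h2, eval₂_finsetProd]
    exact Finset.prod_eq_zero (Finset.mem_univ j) (hP0 j)
  obtain ⟨a, ha⟩ := IsIntegrallyClosed.isIntegral_iff.mp (⟨Q, hQm, hQ0⟩ : IsIntegral A η)
  refine ⟨a, fun p hp => ?_⟩
  have := hη ⟨p, hp⟩
  rw [← ha, hψ] at this
  exact this

end Groth.Agent.Lib.H6xPtFunC
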