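import Mathlib
import Groth.Prelude.Def_W4c1hilbchowincPtFun
import Groth.Agent.Lib.H6xPtFunB
import Groth.Agent.Lib.H6xPtFunC
import Groth.Agent.Lib.Helper20ResFld

/-!
# Pointwise functions varying along DVRs on `Spec A` (part D): the scheme-level statement
-/

set_option autoImplicit false
universe u

open CategoryTheory AlgebraicGeometry W4c1hilbchowinc

namespace Groth.Agent.Lib.H6xPtFunD

open Groth.Agent.Lib.H6xPtFunA Groth.Agent.Lib.H6xPtFunC

theorem ring_main {A : Type u} [CommRing A] [IsReduced A] [IsNoetherianRing A]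
    [IsIntegrallyClosed A] (φ : ∀ p : PrimeSpectrum A, p.asIdeal.ResidueField)
    (h : VariesDVR φ) :
    ∃ a : A, ∀ p : PrimeSpectrum A, algebraMap A p.asIdeal.ResidueField a = φ p := by
  obtain ⟨a, ha⟩ := exists_global φ (fun p _ => isIntegral_of_variesDVR h p)
  refine ⟨a, fun y => ?_⟩
  obtain ⟨P, hP, hPy⟩ := Ideal.exists_minimalPrimes_le (bot_le : ⊥ ≤ y.asIdeal)
  haveI : P.IsPrime := hP.1.1
  exact specialize h ⟨P, hP.1.1⟩ y hPy a (ha ⟨P, hP.1.1⟩ hP)

/-- Evaluating a global section of `Spec R` at a point, through `Spec.residueFieldIso`. -/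
lemma residueFieldIso_hom_Γevaluation (R : CommRingCat.{u}) (q : Spec R) (s : Γ(Spec R, ⊤)) :
    (Scheme.Spec.residueFieldIso R q).hom ((Spec R).Γevaluation q s) =
      algebraMap R q.asIdeal.ResidueField ((Scheme.ΓSpecIso R).hom s) := by
  have h := Scheme.Spec.algebraMap_residueFieldIso_inv R q
  have h2 : (Scheme.ΓSpecIso R).hom ≫ CommRingCat.ofHom (algebraMap R q.asIdeal.ResidueField) =
      (Spec R).Γevaluation q ≫ (Scheme.Spec.residueFieldIso R q).hom := by
    rw [← cancel_mono (Scheme.Spec.residueFieldIso R q).inv, Category.assoc, h]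
    simp only [Category.assoc, Iso.hom_inv_id, Category.comp_id, Iso.hom_inv_id_assoc]
    rfl
  exact (congr($h2 s)).symm

theorem main (A : Type u) [CommRing A] [IsReduced A] [IsNoetherianRing A] [IsIntegrallyClosed A]
    (f : PtFun (Spec (CommRingCat.of A))) (hf : f.VariesAlongDVR) :
    ∃! a : Γ(Spec (CommRingCat.of A), ⊤), PtFun.ofSection (Spec (CommRingCat.of A)) a = f := by
  let X : Scheme.{u} := Spec (CommRingCat.of A)
  let φ : ∀ p : PrimeSpectrum A, p.asIdeal.ResidueField := fun p =>
    (Scheme.Spec.residueFieldIso (CommRingCat.of A) p).hom (f p)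
  have hφ : VariesDVR φ := by
    intro R _ _ _ g
    let G : Spec (CommRingCat.of R) ⟶ X := Spec.map (CommRingCat.ofHom g)
    obtain ⟨s, hs⟩ := hf R G
    refine ⟨(Scheme.ΓSpecIso (CommRingCat.of R)).hom s, fun q => ?_⟩
    have h1 : (Spec (CommRingCat.of R)).Γevaluation q s = G.residueFieldMap q (f (G q)) :=
      congrFun hs q
    have h2 := residueFieldIso_hom_Γevaluation (CommRingCat.of R) q s
    have h3 := Groth.Agent.Lib.Helper20.ResFld.residueFieldMap_SpecMap (CommRingCat.ofHom g) q
    have h4 := congr($h3 (f (G q)))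
    rw [← h2, h1]
    exact h4
  obtain ⟨a, ha⟩ := ring_main φ hφ
  haveI : IsReduced X := inferInstanceAs (IsReduced (Spec (CommRingCat.of A)))
  have hzero : ∀ s : Γ(X, ⊤), (∀ p : X, X.Γevaluation p s = 0) → s = 0 := by
    intro s hs
    rw [← AlgebraicGeometry.basicOpen_eq_bot_iff, Scheme.basicOpen_eq_bot_iff_forall_evaluation_eq_zero]
    rintro ⟨p, hp⟩
    exact hs p
  refine ⟨(Scheme.ΓSpecIso (CommRingCat.of A)).inv a, ?_, ?_⟩
  · funext p
    show X.Γevaluation p ((Scheme.ΓSpecIso (CommRingCat.of A)).inv a) = f p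
    have hinj : Function.Injective (Scheme.Spec.residueFieldIso (CommRingCat.of A) p).hom :=
      (ConcreteCategory.bijective_of_isIso _).1
    apply hinj
    rw [residueFieldIso_hom_Γevaluation]
    have h5 : (Scheme.ΓSpecIso (CommRingCat.of A)).hom
        ((Scheme.ΓSpecIso (CommRingCat.of A)).inv a) = a := by
      change ((Scheme.ΓSpecIso (CommRingCat.of A)).inv ≫ (Scheme.ΓSpecIso (CommRingCat.of A)).hom) a = a
      rw [Iso.inv_hom_id]; rfl
    rw [h5]
    exact ha p
  · intro b hb
    rw [← sub_eq_zero]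
    apply hzero
    intro p
    rw [map_sub, sub_eq_zero]
    have h6 : X.Γevaluation p b = f p := congrFun hb p
    rw [h6]
    symm
    have hinj : Function.Injective (Scheme.Spec.residueFieldIso (CommRingCat.of A) p).hom :=
      (ConcreteCategory.bijective_of_isIso _).1
    apply hinj
    rw [residueFieldIso_hom_Γevaluation]
    have h5 : (Scheme.ΓSpecIso (CommRingCat.of A)).hom
        ((Scheme.ΓSpecIso (CommRingCat.of A)).inv a) = a := by
      change ((Scheme.ΓSpecIso (CommRingCat.of A)).inv ≫ (Scheme.ΓSpecIso (CommRingCat.of A)).hom) a = a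
      rw [Iso.inv_hom_id]; rfl
    rw [h5]
    exact ha p

end Groth.Agent.Lib.H6xPtFunD
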