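import Mathlib
import Groth.Agent.Lib.H6xPtFunA
import Groth.Agent.Lib.Helper19ComplDVR

/-!
# Pointwise functions: from complete DVRs to all DVRs (part E)
-/

set_option autoImplicit false
universe u

namespace Groth.Agent.Lib.H6xPtFunA

open IsLocalRing

variable {A : Type u} [CommRing A]

/-- Functoriality of `Ideal.ResidueField.map`. -/
lemma residueField_map_comp {R S : Type*} [CommRing R] [CommRing S] (g : A →+* R) (ι : R →+* S)
    (P : Ideal A) [P.IsPrime] (q : Ideal R) [q.IsPrime] (Q : Ideal S) [Q.IsPrime]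
    (hP : P = q.comap g) (hq : q = Q.comap ι) (hPQ : P = Q.comap (ι.comp g)) :
    Ideal.ResidueField.map P Q (ι.comp g) hPQ =
      (Ideal.ResidueField.map q Q ι hq).comp (Ideal.ResidueField.map P q g hP) := by
  apply Ideal.ResidueField.ringHom_ext
  ext a
  simp only [RingHom.comp_apply]
  rw [Ideal.ResidueField.map_algebraMap, Ideal.ResidueField.map_algebraMap,
    Ideal.ResidueField.map_algebraMap]
  rfl

/-- The complete-DVR hypothesis at ring level. -/
def VariesCDVR (φ : ∀ p : PrimeSpectrum A, p.asIdeal.ResidueField) : Prop :=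
  ∀ (R : Type u) [CommRing R] [IsDomain R] [IsDiscreteValuationRing R]
    [IsAdicComplete (maximalIdeal R) R] (g : A →+* R),
    ∃ r : R, ∀ q : PrimeSpectrum R,
      algebraMap R q.asIdeal.ResidueField r =
        Ideal.ResidueField.map (q.comap g).asIdeal q.asIdeal g rfl (φ (q.comap g))

variable {φ : ∀ p : PrimeSpectrum A, p.asIdeal.ResidueField}

lemma VariesCDVR.spec (h : VariesCDVR φ) (R : Type u) [CommRing R] [IsDomain R]
    [IsDiscreteValuationRing R] [IsAdicComplete (maximalIdeal R) R] (g : A →+* R) :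
    ∃ r : R, ∀ (q : Ideal R) [q.IsPrime] (P : PrimeSpectrum A) (hP : P.asIdeal = q.comap g),
      algebraMap R q.ResidueField r = Ideal.ResidueField.map P.asIdeal q g hP (φ P) := by
  obtain ⟨r, hr⟩ := h R g
  refine ⟨r, fun q hq P hP => ?_⟩
  obtain rfl : P = (⟨q, hq⟩ : PrimeSpectrum R).comap g := PrimeSpectrum.ext hP
  exact hr ⟨q, hq⟩

theorem VariesCDVR.variesDVR (h : VariesCDVR φ) : VariesDVR φ := by
  intro R _ _ _ g
  let S := AdicCompletion (maximalIdeal R) R
  obtain ⟨hdom, hdvr⟩ := (Groth.Agent.Lib.Helper19.isDiscreteValuationRing_iff_adicCompletion R).mp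
    ⟨inferInstance, inferInstance⟩
  let ι : R →+* S := algebraMap R S
  have hιinj : Function.Injective ι := AdicCompletion.of_injective (maximalIdeal R) R
  obtain ⟨r', hr'⟩ := h.spec S (ι.comp g)
  -- primes of `S` over the primes of `R`
  have hbot : (⊥ : Ideal R) = (⊥ : Ideal S).comap ι := by
    rw [← RingHom.ker_eq_comap_bot]
    exact ((RingHom.injective_iff_ker_eq_bot ι).mp hιinj).symm
  have hmax : maximalIdeal R = (maximalIdeal S).comap ι := by
    have h04 := (IsLocalRing.local_hom_TFAE (algebraMap R S)).out 0 4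
    exact (h04.mp (inferInstance : IsLocalHom (algebraMap R S))).symm
  -- the key transfer lemma
  have key : ∀ (r : R), ι r = r' → ∀ (q : Ideal R) [q.IsPrime] (Q : Ideal S) [Q.IsPrime]
      (hq : q = Q.comap ι), algebraMap R q.ResidueField r =
        Ideal.ResidueField.map (q.comap g) q g rfl
          (φ ⟨q.comap g, Ideal.comap_isPrime g q⟩) := by
    intro r hr q _ Q _ hq
    have hPQ : (q.comap g) = Q.comap (ι.comp g) := by rw [hq]; rfl
    have h1 := hr' Q ⟨q.comap g, Ideal.comap_isPrime g q⟩ hPQ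
    rw [residueField_map_comp g ι (q.comap g) q Q rfl hq hPQ, RingHom.comp_apply, ← hr,
      ← Ideal.ResidueField.map_algebraMap q Q ι hq] at h1
    exact (Ideal.ResidueField.map q Q ι hq).injective h1
  -- existence of `r`
  have hex : ∃ r : R, ι r = r' := by
    let P₀ : PrimeSpectrum A := ⟨(⊥ : Ideal R).comap g, Ideal.comap_isPrime g ⊥⟩
    have hPQ : P₀.asIdeal = (⊥ : Ideal S).comap (ι.comp g) := by
      show (⊥ : Ideal R).comap g = _
      rw [hbot]; rfl
    have h1 := hr' ⊥ P₀ hPQ
    rw [residueField_map_comp g ι P₀.asIdeal ⊥ ⊥ rfl hbot hPQ, RingHom.comp_apply] at h1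
    set ξ := Ideal.ResidueField.map P₀.asIdeal ⊥ g rfl (φ P₀) with hξ
    have hinjS : Function.Injective (algebraMap S (⊥ : Ideal S).ResidueField) :=
      IsFractionRing.injective S _
    by_cases hξ0 : ξ = 0
    · refine ⟨0, hinjS ?_⟩
      rw [h1, hξ0, map_zero, map_zero, map_zero]
    rcases ValuationRing.isInteger_or_isInteger R ξ with ⟨r, hr⟩ | ⟨s, hs⟩
    · refine ⟨r, hinjS ?_⟩
      rw [h1, ← hr]
      exact (Ideal.ResidueField.map_algebraMap ⊥ ⊥ ι hbot r).symm
    · have hs' : (algebraMap R (⊥ : Ideal R).ResidueField) s = ξ⁻¹ := hs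
      by_cases hsu : IsUnit s
      · obtain ⟨u, rfl⟩ := hsu
        refine ⟨((u⁻¹ : Rˣ) : R), hinjS ?_⟩
        rw [h1, ← Ideal.ResidueField.map_algebraMap ⊥ ⊥ ι hbot]
        congr 1
        have h2 : algebraMap R (⊥ : Ideal R).ResidueField (u : R) *
            algebraMap R (⊥ : Ideal R).ResidueField ((u⁻¹ : Rˣ) : R) = 1 := by
          rw [← map_mul, Units.mul_inv, map_one]
        rw [hs'] at h2
        field_simp at h2
        exact h2
      · exfalso
        apply hsu
        have h2 : algebraMap S (⊥ : Ideal S).ResidueField (r' * ι s) = 1 := by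
          rw [map_mul, h1, ← Ideal.ResidueField.map_algebraMap ⊥ ⊥ ι hbot, hs', ← map_mul,
            mul_inv_cancel₀ hξ0, map_one]
        have h3 : r' * ι s = 1 := hinjS (by rw [h2, map_one])
        have h4 : IsUnit (ι s) := isUnit_iff_exists_inv'.mpr ⟨r', h3⟩
        exact (inferInstance : IsLocalHom (algebraMap R S)).map_nonunit s h4
  obtain ⟨r, hr⟩ := hex
  refine ⟨r, fun q => ?_⟩
  rcases eq_or_ne q.asIdeal ⊥ with hq0 | hq0
  · have := key r hr q.asIdeal ⊥ (hq0.trans hbot)
    exact this
  · have hqm : q.asIdeal = maximalIdeal R :=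
      IsLocalRing.eq_maximalIdeal (Ring.DimensionLEOne.maximalOfPrime hq0 q.2)
    have := key r hr q.asIdeal (maximalIdeal S) (hqm.trans hmax)
    exact this

end Groth.Agent.Lib.H6xPtFunA
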