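import Mathlib
import Groth.Prelude.Def_HTop2

/-!
# Seminormal descent (part F)

Let `A ⊆ B` be an integral extension with `A` Noetherian and seminormal (in the sense that
`x^3 = y^2` forces `x = a^2`, `y = a^3` for a unique `a`) and `B` reduced. If `b ∈ B` is *pointwise from
`A`* (for each prime `p` of `A` there are `a₀, t ∈ A`, `t ∉ p` with `t b - a₀` in every prime of `B` over `p`)
then `b ∈ A`.
-/

set_option autoImplicit false
universe u

namespace Groth.Agent.Lib.H6xPtFunF

variable {A B : Type u} [CommRing A] [CommRing B] [Algebra A B]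

/-- Seminormality: `c^2, c^3 ∈ A` implies `c ∈ A` for `c` in a reduced extension ring. -/
lemma mem_range_of_sq_cube (hA : HTop.IsSeminormalRing A) [IsReduced B]
    (hinj : Function.Injective (algebraMap A B)) (c : B)
    (h2 : c ^ 2 ∈ (algebraMap A B).range) (h3 : c ^ 3 ∈ (algebraMap A B).range) :
    c ∈ (algebraMap A B).range := by
  obtain ⟨x, hx⟩ := h2
  obtain ⟨y, hy⟩ := h3
  have hxy : x ^ 3 = y ^ 2 := by
    apply hinj
    rw [map_pow, map_pow, hx, hy]; ring
  obtain ⟨a, ⟨ha2, ha3⟩, -⟩ := hA x y hxy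
  refine ⟨a, ?_⟩
  set α := algebraMap A B a with hα
  have e2 : α ^ 2 = c ^ 2 := by rw [hα, ← map_pow, ← ha2, hx]
  have e3 : α ^ 3 = c ^ 3 := by rw [hα, ← map_pow, ← ha3, hy]
  have hnil : (α - c) ^ 3 = 0 := by
    have h1 : α ^ 2 * c = c ^ 3 := by rw [e2]; ring
    have h2 : α * c ^ 2 = c ^ 3 := by rw [← e2, ← e3]; ring
    calc (α - c) ^ 3 = α ^ 3 - 3 * (α ^ 2 * c) + 3 * (α * c ^ 2) - c ^ 3 := by ring
      _ = 0 := by rw [e3, h1, h2]; ring
  have : α - c = 0 := IsReduced.eq_zero _ ⟨3, hnil⟩
  exact sub_eq_zero.mp this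

/-- A seminormal ring is reduced. -/
lemma isReduced_of_isSeminormalRing (hA : HTop.IsSeminormalRing A) : IsReduced A := by
  have hsq : ∀ a : A, a ^ 2 = 0 → a = 0 := by
    intro a ha
    obtain ⟨a', -, huniq⟩ := hA 0 0 (by ring)
    have h1 : a = a' := huniq a ⟨ha.symm, by rw [pow_succ, ha, zero_mul]⟩
    have h2 : (0 : A) = a' := huniq 0 ⟨by ring, by ring⟩
    rw [h1, ← h2]
  have key : ∀ n : ℕ, ∀ x : A, x ^ n = 0 → x = 0 := by
    intro n
    induction n using Nat.strong_induction_on with
    | _ n ih =>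
      intro x hn
      rcases Nat.lt_or_ge n 2 with h | h
      · interval_cases n
        · rw [pow_zero] at hn
          calc x = x * 1 := (mul_one x).symm
            _ = 0 := by rw [hn, mul_zero]
        · simpa using hn
      · have h1 : (x ^ (n - 1)) ^ 2 = 0 := by
          rw [← pow_mul]
          have : (n - 1) * 2 = n + (n - 2) := by omega
          rw [this, pow_add, hn, zero_mul]
        exact ih (n - 1) (by omega) x (hsq _ h1)
  exact ⟨fun x ⟨n, hn⟩ => key n x hn⟩

/-- If `z` lies in every prime containing `J` and disjoint from the submonoid `S₀`, then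
`s z^n ∈ J` for some `s ∈ S₀`. -/
lemma exists_mul_pow_mem {R : Type*} [CommRing R] (J : Ideal R) (S₀ : Submonoid R) (z : R)
    (h : ∀ q : Ideal R, q.IsPrime → J ≤ q → Disjoint (q : Set R) S₀ → z ∈ q) :
    ∃ s ∈ S₀, ∃ n : ℕ, s * z ^ n ∈ J := by
  by_contra hcon
  push Not at hcon
  let M : Submonoid R := S₀ ⊔ Submonoid.powers z
  have hdisj : Disjoint (J : Set R) M := by
    rw [Set.disjoint_left]
    intro m hmJ hmM
    obtain ⟨s, hs, y, ⟨n, rfl⟩, rfl⟩ := Submonoid.mem_sup.mp hmM
    exact hcon s hs n hmJ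
  obtain ⟨q, hq, hJq, hqM⟩ := Ideal.exists_le_prime_disjoint J M hdisj
  have hq0 : Disjoint (q : Set R) S₀ :=
    Set.disjoint_of_subset_right (fun x hx => (le_sup_left : S₀ ≤ M) hx) hqM
  have hz := h q hq hJq hq0
  exact Set.disjoint_left.mp hqM hz ((le_sup_right : Submonoid.powers z ≤ M) (Submonoid.mem_powers z))

section special

variable (A B)

/-- The conductor of `A` in `B`, as an ideal of `A`. -/
def cond : Ideal A where
  carrier := {a | ∀ c : B, algebraMap A B a * c ∈ (algebraMap A B).range}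
  zero_mem' := by
    intro c
    rw [map_zero, zero_mul]
    exact Subring.zero_mem _
  add_mem' := by
    intro a a' ha ha' c
    rw [map_add, add_mul]
    exact Subring.add_mem _ (ha c) (ha' c)
  smul_mem' := by
    intro r a ha c
    rw [smul_eq_mul, map_mul, mul_assoc]
    exact Subring.mul_mem _ ⟨r, rfl⟩ (ha c)

variable {A B}

lemma mem_cond {a : A} : a ∈ cond A B ↔ ∀ c : B, algebraMap A B a * c ∈ (algebraMap A B).range :=
  Iff.rfl

/-- The extension of the conductor to `B` consists of images of elements of the conductor. -/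
lemma exists_of_mem_map_cond {β : B} (hβ : β ∈ Ideal.map (algebraMap A B) (cond A B)) :
    ∃ a ∈ cond A B, algebraMap A B a = β := by
  rw [Ideal.map] at hβ
  induction hβ using Submodule.span_induction with
  | mem x hx =>
    obtain ⟨a, ha, rfl⟩ := hx
    exact ⟨a, ha, rfl⟩
  | zero => exact ⟨0, Ideal.zero_mem _, map_zero _⟩
  | add x y _ _ hx hy =>
    obtain ⟨a, ha, rfl⟩ := hx
    obtain ⟨a', ha', rfl⟩ := hy
    exact ⟨a + a', Ideal.add_mem _ ha ha', map_add _ _ _⟩
  | smul c x _ hx =>
    obtain ⟨a, ha, rfl⟩ := hx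
    obtain ⟨a', ha'⟩ := ha c
    refine ⟨a', ?_, ?_⟩
    · intro c'
      rw [ha', mul_assoc]
      exact ha (c * c')
    · rw [ha', smul_eq_mul, mul_comm]

variable [IsReduced B]

lemma mem_map_cond_of_sq (hA : HTop.IsSeminormalRing A)
    (hinj : Function.Injective (algebraMap A B)) (β : B)
    (h : β ^ 2 ∈ Ideal.map (algebraMap A B) (cond A B)) :
    β ∈ Ideal.map (algebraMap A B) (cond A B) := by
  obtain ⟨a, ha, hab⟩ := exists_of_mem_map_cond h
  have hall : ∀ t : B, β * t ∈ (algebraMap A B).range := by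
    intro t
    apply mem_range_of_sq_cube hA hinj
    · have : (β * t) ^ 2 = algebraMap A B a * t ^ 2 := by rw [hab]; ring
      rw [this]; exact ha _
    · have : (β * t) ^ 3 = algebraMap A B a * (β * t ^ 3) := by rw [hab]; ring
      rw [this]; exact ha _
  obtain ⟨a', ha'⟩ := hall 1
  rw [mul_one] at ha'
  rw [← ha']
  apply Ideal.mem_map_of_mem
  intro c
  rw [ha']
  exact hall c

lemma isRadical_map_cond (hA : HTop.IsSeminormalRing A)
    (hinj : Function.Injective (algebraMap A B)) :
    (Ideal.map (algebraMap A B) (cond A B)).IsRadical :=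
  (Ideal.isRadical_iff_pow_one_lt 2 one_lt_two).mpr (mem_map_cond_of_sq hA hinj)

lemma mem_cond_of_pow (hA : HTop.IsSeminormalRing A)
    (hinj : Function.Injective (algebraMap A B)) (x : A) (n : ℕ) (h : x ^ n ∈ cond A B) :
    x ∈ cond A B := by
  have h1 : (algebraMap A B x) ^ n ∈ Ideal.map (algebraMap A B) (cond A B) := by
    rw [← map_pow]; exact Ideal.mem_map_of_mem _ h
  have h2 := (isRadical_map_cond hA hinj) ⟨n, h1⟩
  obtain ⟨a, ha, hab⟩ := exists_of_mem_map_cond h2
  rwa [← hinj hab]

open Polynomial in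
theorem descent_adjoin [IsNoetherianRing A] (hA : HTop.IsSeminormalRing A)
    (hinj : Function.Injective (algebraMap A B)) (b : B) (hbint : IsIntegral A b)
    (hgen : Algebra.adjoin A {b} = ⊤)
    (hpt : ∀ p : Ideal A, p.IsPrime → ∃ a₀ t : A, t ∉ p ∧ ∀ Q : Ideal B, Q.IsPrime →
      Q.comap (algebraMap A B) = p → algebraMap A B t * b - algebraMap A B a₀ ∈ Q) :
    b ∈ (algebraMap A B).range := by
  by_contra hb
  have hc : cond A B ≠ ⊤ := by
    intro h
    have h1 : (1 : A) ∈ cond A B := by rw [h]; trivial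
    have := h1 b
    rw [map_one, one_mul] at this
    exact hb this
  obtain ⟨⟨p, hp⟩⟩ := Ideal.nonempty_minimalPrimes hc
  have hpp : p.IsPrime := hp.1.1
  have hcp : cond A B ≤ p := hp.1.2
  -- Fact 1
  have fact1 : ∀ x ∈ p, ∃ s, s ∉ p ∧ s * x ∈ cond A B := by
    intro x hx
    obtain ⟨s, hs, n, hsn⟩ := exists_mul_pow_mem (cond A B) p.primeCompl x (by
      intro q hq hcq hdisj
      have hqp : q ≤ p := by
        intro y hy
        by_contra hyp
        exact Set.disjoint_left.mp hdisj hy hyp
      exact hp.2 ⟨hq, hcq⟩ hqp hx)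
    refine ⟨s, hs, ?_⟩
    apply mem_cond_of_pow hA hinj _ (n + 1)
    have : (s * x) ^ (n + 1) = s ^ n * x * (s * x ^ n) := by ring
    rw [this]
    exact Ideal.mul_mem_left _ _ hsn
  have fact1' : ∃ s, s ∉ p ∧ ∀ x ∈ p, s * x ∈ cond A B := by
    classical
    obtain ⟨T, hT⟩ := (IsNoetherian.noetherian p : p.FG)
    let f : A → A := fun x => if h : x ∈ p then Classical.choose (fact1 x h) else 1
    have hf1 : ∀ x, f x ∉ p := by
      intro x
      by_cases h : x ∈ p
      · simp only [f, dif_pos h]; exact (Classical.choose_spec (fact1 x h)).1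
      · simp only [f, dif_neg h]; exact fun h1 => hpp.ne_top ((Ideal.eq_top_iff_one _).mpr h1)
    have hf2 : ∀ x ∈ p, f x * x ∈ cond A B := by
      intro x h
      simp only [f, dif_pos h]; exact (Classical.choose_spec (fact1 x h)).2
    refine ⟨∏ x ∈ T, f x, ?_, ?_⟩
    · intro h
      obtain ⟨x, _, hx⟩ := (hpp.prod_mem_iff).mp h
      exact hf1 x hx
    · intro y hy
      rw [← hT] at hy
      induction hy using Submodule.span_induction with
      | mem x hx =>
        have hxp : x ∈ p := by rw [← hT]; exact Submodule.subset_span hx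
        obtain ⟨k, hk⟩ := Finset.dvd_prod_of_mem f hx
        rw [hk]
        have : f x * k * x = k * (f x * x) := by ring
        rw [this]
        exact Ideal.mul_mem_left _ _ (hf2 x hxp)
      | zero => rw [mul_zero]; exact Ideal.zero_mem _
      | add x y _ _ hx hy => rw [mul_add]; exact Ideal.add_mem _ hx hy
      | smul c x _ hx =>
        rw [smul_eq_mul]
        have : (∏ x ∈ T, f x) * (c * x) = c * ((∏ x ∈ T, f x) * x) := by ring
        rw [this]; exact Ideal.mul_mem_left _ _ hx
  obtain ⟨s, hsp, hs⟩ := fact1'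
  -- Fact 2
  obtain ⟨a₀, t, htp, hz⟩ := hpt p hpp
  set z : B := algebraMap A B t * b - algebraMap A B a₀ with hzdef
  obtain ⟨σ, hσ, n, hσn⟩ := exists_mul_pow_mem (Ideal.map (algebraMap A B) p)
    (Submonoid.map (algebraMap A B : A →* B) p.primeCompl) z (by
      intro Q hQ hpQ hdisj
      apply hz Q hQ
      apply le_antisymm
      · intro x hx
        by_contra hxp
        exact Set.disjoint_left.mp hdisj hx ⟨x, hxp, rfl⟩
      · intro x hx
        exact hpQ (Ideal.mem_map_of_mem _ hx))
  obtain ⟨s₁, hs₁, rfl⟩ := hσ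
  have hs₁p : s₁ ∉ p := hs₁
  -- combine
  have h1 : ∀ y ∈ Ideal.map (algebraMap A B) p,
      algebraMap A B s * y ∈ Ideal.map (algebraMap A B) (cond A B) := by
    intro y hy
    rw [Ideal.map] at hy
    induction hy using Submodule.span_induction with
    | mem x hx =>
      obtain ⟨x', hx', rfl⟩ := hx
      rw [← map_mul]
      exact Ideal.mem_map_of_mem _ (hs x' hx')
    | zero => rw [mul_zero]; exact Ideal.zero_mem _
    | add x y _ _ hx hy => rw [mul_add]; exact Ideal.add_mem _ hx hy
    | smul c x _ hx =>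
      rw [smul_eq_mul]
      have : algebraMap A B s * (c * x) = c * (algebraMap A B s * x) := by ring
      rw [this]; exact Ideal.mul_mem_left _ _ hx
  have h2 := h1 _ hσn
  have h3 : (algebraMap A B (s * s₁) * z) ^ (n + 1) ∈ Ideal.map (algebraMap A B) (cond A B) := by
    have : (algebraMap A B (s * s₁) * z) ^ (n + 1) =
        (algebraMap A B (s * s₁) ^ n * z) *
          (algebraMap A B s * ((algebraMap A B : A →* B) s₁ * z ^ n)) := by
      rw [map_mul]
      show _ = (_ * z) * (algebraMap A B s * (algebraMap A B s₁ * z ^ n))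
      ring_nf
    rw [this]
    exact Ideal.mul_mem_left _ _ h2
  have h4 := (isRadical_map_cond hA hinj) ⟨n + 1, h3⟩
  obtain ⟨a₁, -, ha₁⟩ := exists_of_mem_map_cond h4
  -- `u b ∈ A` with `u ∉ p`
  set u : A := s * s₁ * t with hu
  have hup : u ∉ p := by
    intro h
    rcases hpp.mem_or_mem h with h | h
    · rcases hpp.mem_or_mem h with h | h
      · exact hsp h
      · exact hs₁p h
    · exact htp h
  have hub : algebraMap A B u * b = algebraMap A B (a₁ + s * s₁ * a₀) := by
    rw [map_add, ha₁, hzdef, hu]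
    simp only [map_mul]
    ring
  -- the integral equation
  obtain ⟨m, hm, hmb⟩ := hbint
  have hA1 : (1 : A) ≠ 0 := by
    intro h
    exact hpp.ne_top ((Ideal.eq_top_iff_one _).mpr (h ▸ p.zero_mem))
  have hm1 : m ≠ 1 := by
    intro h
    rw [h, eval₂_one] at hmb
    apply hA1
    apply hinj
    rw [map_one, map_zero, hmb]
  have hud : u ^ m.natDegree ∈ cond A B := by
    intro c
    have hc : c ∈ Algebra.adjoin A {b} := by rw [hgen]; trivial
    rw [Algebra.adjoin_singleton_eq_range_aeval] at hc
    obtain ⟨P, rfl⟩ := hc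
    have hdeg := natDegree_modByMonic_lt P hm hm1
    have hPR : aeval b P = aeval b (P %ₘ m) := by
      conv_lhs => rw [← modByMonic_add_div P m]
      rw [map_add, map_mul, aeval_def b m, hmb, zero_mul, add_zero]
    show algebraMap A B (u ^ m.natDegree) * (aeval b P) ∈ _
    rw [hPR, aeval_eq_sum_range' hdeg, Finset.mul_sum]
    apply Subring.sum_mem
    intro i hi
    rw [Finset.mem_range] at hi
    have : algebraMap A B (u ^ m.natDegree) * ((P %ₘ m).coeff i • b ^ i) =
        algebraMap A B ((P %ₘ m).coeff i * u ^ (m.natDegree - i)) * (algebraMap A B u * b) ^ i := by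
      rw [Algebra.smul_def, map_mul, map_pow, map_pow, mul_pow]
      have : algebraMap A B u ^ m.natDegree =
          algebraMap A B u ^ (m.natDegree - i) * algebraMap A B u ^ i := by
        rw [← pow_add]; congr 1; omega
      rw [this]; ring
    rw [this, hub, ← map_pow, ← map_mul]
    exact ⟨_, rfl⟩
  exact hup (hpp.mem_of_pow_mem _ (hcp hud))

end special

section general

theorem descent [IsNoetherianRing A] [IsReduced B] [Algebra.IsIntegral A B]
    (hA : HTop.IsSeminormalRing A)
    (hinj : Function.Injective (algebraMap A B)) (b : B)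
    (hpt : ∀ p : Ideal A, p.IsPrime → ∃ a₀ t : A, t ∉ p ∧ ∀ Q : Ideal B, Q.IsPrime →
      Q.comap (algebraMap A B) = p → algebraMap A B t * b - algebraMap A B a₀ ∈ Q) :
    b ∈ (algebraMap A B).range := by
  let C := Algebra.adjoin A {b}
  let b' : C := ⟨b, Algebra.subset_adjoin rfl⟩
  haveI : IsReduced C := isReduced_of_injective C.val Subtype.val_injective
  have hinjC : Function.Injective (algebraMap A C) := by
    intro x y h
    apply hinj
    exact congrArg Subtype.val h
  have hb' : IsIntegral A b' :=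
    (isIntegral_algHom_iff C.val Subtype.val_injective).mp (Algebra.IsIntegral.isIntegral b)
  have hgen : Algebra.adjoin A {b'} = ⊤ := by
    have h1 := Algebra.adjoin_adjoin_coe_preimage (R := A) (s := ({b} : Set B))
    have h2 : ((↑) : Algebra.adjoin A ({b} : Set B) → B) ⁻¹' ({b} : Set B) = {b'} := by
      ext x
      simp only [Set.mem_preimage, Set.mem_singleton_iff]
      constructor
      · intro h; exact Subtype.ext h
      · intro h; rw [h]
    rw [h2] at h1
    exact h1
  haveI : Algebra.IsIntegral C B := Algebra.IsIntegral.tower_top A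
  have hres := descent_adjoin hA hinjC b' hb' hgen (by
    intro p hp
    obtain ⟨a₀, t, ht, h⟩ := hpt p hp
    refine ⟨a₀, t, ht, fun Q' hQ' hQp => ?_⟩
    obtain ⟨Q, -, hQ, hQQ'⟩ := Ideal.exists_ideal_over_prime_of_isIntegral Q' (⊥ : Ideal B) (by
      intro x hx
      rw [Ideal.mem_comap, Ideal.mem_bot] at hx
      have : x = 0 := Subtype.ext hx
      rw [this]; exact Ideal.zero_mem _)
    have h1 := h Q hQ (by
      rw [← hQp, ← hQQ', Ideal.comap_comap]
      rfl)
    rw [← hQQ', Ideal.mem_comap]
    exact h1)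
  obtain ⟨a, ha⟩ := hres
  exact ⟨a, congrArg Subtype.val ha⟩

end general

end Groth.Agent.Lib.H6xPtFunF
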