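import Mathlib
import Groth.Agent.Lib.H6xPtFunD
import Groth.Agent.Lib.H6xPtFunE
import Groth.Agent.Lib.H6xPtFunF

/-!
# Pointwise functions on seminormal rings with finite normalisation (part G)
-/

set_option autoImplicit false
universe u

namespace Groth.Agent.Lib.H6xPtFunG

open Groth.Agent.Lib.H6xPtFunA Groth.Agent.Lib.H6xPtFunC Groth.Agent.Lib.H6xPtFunD
  Groth.Agent.Lib.H6xPtFunF

section normalization

variable (A : Type u) [CommRing A]

/-- The normalisation of `A` in its total ring of fractions. -/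
abbrev Nrm : Subalgebra A (FractionRing A) := integralClosure A (FractionRing A)

lemma isUnit_algebraMap_of_nzd {a : A} (ha : a ∈ nonZeroDivisors A) :
    IsUnit (algebraMap A (FractionRing A) a) :=
  IsLocalization.map_units (FractionRing A) (⟨a, ha⟩ : nonZeroDivisors A)

instance isFractionRing_nrm : IsFractionRing (Nrm A) (FractionRing A) := by
  have hinjA : Function.Injective (algebraMap A (FractionRing A)) :=
    IsFractionRing.injective A (FractionRing A)
  have hval : ∀ x : Nrm A, algebraMap (Nrm A) (FractionRing A) x = (x : FractionRing A) :=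
    fun _ => rfl
  refine ⟨?_, ?_, ?_⟩
  · rintro ⟨y, hy⟩
    obtain ⟨a, s, hz⟩ := IsLocalization.exists_mk'_eq (nonZeroDivisors A)
      (algebraMap (Nrm A) (FractionRing A) y)
    have hspec : algebraMap (Nrm A) (FractionRing A) y * algebraMap A (FractionRing A) s =
        algebraMap A (FractionRing A) a := by
      rw [← hz]; exact IsLocalization.mk'_spec _ a s
    have ha : a ∈ nonZeroDivisors A := by
      rw [mem_nonZeroDivisors_iff_right]
      intro t ht
      have h1 : (y : FractionRing A) * algebraMap A (FractionRing A) (s * t) = 0 := by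
        rw [map_mul, ← mul_assoc]
        have := hspec
        rw [hval] at this
        rw [this, ← map_mul, mul_comm, ht, map_zero]
      have h2 : y * algebraMap A (Nrm A) ((s : A) * t) = 0 := by
        apply Subtype.ext
        exact h1
      have h3 := (mem_nonZeroDivisors_iff_right.mp hy) _ (by rw [mul_comm]; exact h2)
      have h4 : (s : A) * t = 0 := by
        apply hinjA
        rw [map_zero]
        exact congrArg Subtype.val h3
      exact (mem_nonZeroDivisors_iff_right.mp s.2) _ (by rw [mul_comm]; exact h4)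
    have hu := isUnit_algebraMap_of_nzd A ha
    rw [← hspec] at hu
    exact isUnit_of_mul_isUnit_left hu
  · intro z
    obtain ⟨a, s, hz⟩ := IsLocalization.exists_mk'_eq (nonZeroDivisors A) z
    have hs : algebraMap A (Nrm A) s ∈ nonZeroDivisors (Nrm A) := by
      rw [mem_nonZeroDivisors_iff_right]
      intro c hc
      have h1 : (c : FractionRing A) * algebraMap A (FractionRing A) s = 0 :=
        congrArg Subtype.val hc
      have hu := isUnit_algebraMap_of_nzd A s.2
      have h2 : (c : FractionRing A) = 0 := by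
        rw [← hu.mul_left_eq_zero]; exact h1
      exact Subtype.ext h2
    refine ⟨(algebraMap A (Nrm A) a, ⟨algebraMap A (Nrm A) s, hs⟩), ?_⟩
    rw [← hz]
    exact IsLocalization.mk'_spec _ a s
  · intro x y h
    refine ⟨1, ?_⟩
    have : x = y := Subtype.ext h
    rw [this]

instance isIntegrallyClosed_nrm : IsIntegrallyClosed (Nrm A) :=
  (isIntegrallyClosed_iff_isIntegrallyClosedIn (FractionRing A)).mpr inferInstance

end normalization

theorem ring_main_sn {A : Type u} [CommRing A] [IsNoetherianRing A]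
    (hA : HTop.IsSeminormalRing A)
    (hfin : Module.Finite A (integralClosure A (FractionRing A)))
    (φ : ∀ p : PrimeSpectrum A, p.asIdeal.ResidueField) (h : VariesCDVR φ) :
    ∃ a : A, ∀ p : PrimeSpectrum A, algebraMap A p.asIdeal.ResidueField a = φ p := by
  haveI := isReduced_of_isSeminormalRing hA
  have hD : VariesDVR φ := h.variesDVR
  let ι : A →+* Nrm A := algebraMap A (Nrm A)
  haveI : IsNoetherianRing (Nrm A) := IsNoetherianRing.of_finite A (Nrm A)
  haveI : IsReduced (Nrm A) := isReduced_of_injective (Nrm A).val Subtype.val_injective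
  have hιinj : Function.Injective ι := fun x y hxy =>
    IsFractionRing.injective A (FractionRing A) (congrArg Subtype.val hxy)
  let φB : ∀ q : PrimeSpectrum (Nrm A), q.asIdeal.ResidueField := fun q =>
    Ideal.ResidueField.map (q.comap ι).asIdeal q.asIdeal ι rfl (φ (q.comap ι))
  have hφB : VariesDVR φB := by
    intro R _ _ _ g
    obtain ⟨r, hr⟩ := hD.spec R (g.comp ι)
    refine ⟨r, fun q => ?_⟩
    have hP : ((q.comap g).comap ι).asIdeal = q.asIdeal.comap (g.comp ι) := rfl
    rw [hr q.asIdeal ((q.comap g).comap ι) hP]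
    rw [residueField_map_comp ι g ((q.comap g).comap ι).asIdeal (q.comap g).asIdeal q.asIdeal
      rfl rfl hP]
    rfl
  obtain ⟨b, hb⟩ := ring_main φB hφB
  have hpt : ∀ p : Ideal A, p.IsPrime → ∃ a₀ t : A, t ∉ p ∧ ∀ Q : Ideal (Nrm A), Q.IsPrime →
      Q.comap (algebraMap A (Nrm A)) = p →
        algebraMap A (Nrm A) t * b - algebraMap A (Nrm A) a₀ ∈ Q := by
    intro p hp
    obtain ⟨a₀, t, ht, hξ⟩ := exists_div p (φ ⟨p, hp⟩)
    refine ⟨a₀, t, fun htp => ht (Ideal.algebraMap_residueField_eq_zero.mpr htp), ?_⟩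
    intro Q hQ hQp
    subst hQp
    rw [← Ideal.algebraMap_residueField_eq_zero, map_sub, map_mul, hb ⟨Q, hQ⟩]
    show _ * Ideal.ResidueField.map (Q.comap ι) Q ι rfl (φ ⟨Q.comap ι, _⟩) - _ = 0
    rw [hξ, map_div₀, Ideal.ResidueField.map_algebraMap, Ideal.ResidueField.map_algebraMap]
    have hne : algebraMap (Nrm A) Q.ResidueField (ι t) ≠ 0 := by
      rw [← Ideal.ResidueField.map_algebraMap (Q.comap ι) Q ι rfl]
      exact (map_ne_zero_iff _ (Ideal.ResidueField.map (Q.comap ι) Q ι rfl).injective).mpr ht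
    rw [mul_div_cancel₀ _ hne, sub_self]
  obtain ⟨a, ha⟩ := descent hA hιinj b hpt
  refine ⟨a, fun p => ?_⟩
  obtain ⟨Q, -, hQ, hQp⟩ := Ideal.exists_ideal_over_prime_of_isIntegral p.asIdeal
    (⊥ : Ideal (Nrm A)) (by
      intro x hx
      rw [Ideal.mem_comap, Ideal.mem_bot] at hx
      have : x = 0 := hιinj (by rw [hx, map_zero])
      rw [this]; exact Ideal.zero_mem _)
  obtain rfl : p = (⟨Q, hQ⟩ : PrimeSpectrum (Nrm A)).comap ι := PrimeSpectrum.ext hQp.symm
  have h1 := hb ⟨Q, hQ⟩
  rw [← ha] at h1
  have h2 : algebraMap (Nrm A) Q.ResidueField (ι a) =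
      Ideal.ResidueField.map (Q.comap ι) Q ι rfl
        (algebraMap A (Q.comap ι).ResidueField a) :=
    (Ideal.ResidueField.map_algebraMap (Q.comap ι) Q ι rfl a).symm
  have h3 : algebraMap (Nrm A) Q.ResidueField (ι a) = φB ⟨Q, hQ⟩ := h1
  rw [h2] at h3
  exact (Ideal.ResidueField.map (Q.comap ι) Q ι rfl).injective h3

open CategoryTheory AlgebraicGeometry W4c1hilbchowinc in
theorem main_sn (A : Type u) [CommRing A] [IsNoetherianRing A] (hA : HTop.IsSeminormalRing A)
    (hfin : Module.Finite A (integralClosure A (FractionRing A)))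
    (f : PtFun (Spec (CommRingCat.of A))) (hf : f.VariesAlongCompleteDVR) :
    ∃! a : Γ(Spec (CommRingCat.of A), ⊤), PtFun.ofSection (Spec (CommRingCat.of A)) a = f := by
  haveI := isReduced_of_isSeminormalRing hA
  let X : Scheme.{u} := Spec (CommRingCat.of A)
  let φ : ∀ p : PrimeSpectrum A, p.asIdeal.ResidueField := fun p =>
    (Scheme.Spec.residueFieldIso (CommRingCat.of A) p).hom (f p)
  have hφ : VariesCDVR φ := by
    intro R _ _ _ _ g
    let G : Spec (CommRingCat.of R) ⟶ X := Spec.map (CommRingCat.ofHom g)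
    obtain ⟨s, hs⟩ := hf R G
    refine ⟨(Scheme.ΓSpecIso (CommRingCat.of R)).hom s, fun q => ?_⟩
    have h1 : (Spec (CommRingCat.of R)).Γevaluation q s = G.residueFieldMap q (f (G q)) :=
      congrFun hs q
    have h2 := residueFieldIso_hom_Γevaluation (CommRingCat.of R) q s
    have h3 := Groth.Agent.Lib.Helper20.ResFld.residueFieldMap_SpecMap (CommRingCat.ofHom g) q
    have h4 := congr($h3 (f (G q)))
    rw [← h2, h1]
    exact h4
  obtain ⟨a, ha⟩ := ring_main_sn hA hfin φ hφ
  haveI : IsReduced X := inferInstanceAs (IsReduced (Spec (CommRingCat.of A)))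
  have hzero : ∀ s : Γ(X, ⊤), (∀ p : X, X.Γevaluation p s = 0) → s = 0 := by
    intro s hs
    rw [← AlgebraicGeometry.basicOpen_eq_bot_iff, Scheme.basicOpen_eq_bot_iff_forall_evaluation_eq_zero]
    rintro ⟨p, hp⟩
    exact hs p
  have hval : ∀ p : X, X.Γevaluation p ((Scheme.ΓSpecIso (CommRingCat.of A)).inv a) = f p := by
    intro p
    have hinj : Function.Injective (Scheme.Spec.residueFieldIso (CommRingCat.of A) p).hom :=
      (ConcreteCategory.bijective_of_isIso _).1
    apply hinj
    rw [residueFieldIso_hom_Γevaluation]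
    have h5 : (Scheme.ΓSpecIso (CommRingCat.of A)).hom
        ((Scheme.ΓSpecIso (CommRingCat.of A)).inv a) = a := by
      change ((Scheme.ΓSpecIso (CommRingCat.of A)).inv ≫ (Scheme.ΓSpecIso (CommRingCat.of A)).hom) a = a
      rw [Iso.inv_hom_id]; rfl
    rw [h5]
    exact ha p
  refine ⟨(Scheme.ΓSpecIso (CommRingCat.of A)).inv a, funext hval, ?_⟩
  intro b hb
  rw [← sub_eq_zero]
  apply hzero
  intro p
  rw [map_sub, sub_eq_zero, hval p]
  exact congrFun hb p

end Groth.Agent.Lib.H6xPtFunG
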