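import Mathlib
import Groth.Agent.Lib.H6xInvC
import Groth.Agent.Lib.H6xDTenDualA
import Groth.Agent.Lib.H6xDTenMonD
set_option backward.isDefEq.respectTransparency.types false

/-!
# helper6: a perfect object with `RHom(X, X) = A[0]` is invertible
-/

set_option autoImplicit false
set_option linter.style.haveILetI false
universe u
open CategoryTheory CategoryTheory.Limits MonoidalCategory Pretriangulated
attribute [local instance] HasDerivedCategory.standard

namespace Groth.Agent.Lib.H6xPt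

open DerivedCategory DTen Groth.Agent.Lib.H6xDTen Groth.Agent.Lib.H6xPCev Groth.Agent.Lib.H6xBrg

variable {A : Type u} [CommRing A] [HasLTen A] [HasLTen₃ A] [IsSymMonoidal A] [HasRHom A]

attribute [local instance] monoidalD

/-- a perfect object whose graded endomorphism ring is `A` in degree `0` is invertible -/
theorem isInvertible_of_isPerfect_of_end (X : Dual.D A) (hX : DRing.IsPerfect A X)
    (h0 : ∀ i : ℤ, i ≠ 0 → Subsingleton (X ⟶ X⟦i⟧))
    (e0 : (X ⟶ X⟦(0 : ℤ)⟧) ≃ₗ[A] A) : DTen.IsInvertible A X := by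
  obtain ⟨D, ⟨hD⟩⟩ := exists_exactPairing_of_isPerfect X hX
  letI := hD
  let u : RHomR A X ≅ tensorRight D :=
    (rhomAdjM X).rightAdjointUniq (tensorRightAdjunction X D)
  let e1 : (RHomR A X).obj X ≅ tO X D := u.app X
  have hH : ∀ j : ℤ, j ≠ 0 → Subsingleton (Dual.HD A ((RHomR A X).obj X) j) := fun j hj => by
    obtain ⟨l⟩ := nonempty_HD_RHom_linearEquiv X X j
    haveI := h0 j hj
    exact l.toEquiv.subsingleton
  obtain ⟨l0⟩ := nonempty_HD_RHom_linearEquiv X X 0
  obtain ⟨e2⟩ := Groth.Agent.Lib.H6xInv.nonempty_iso_shift_inD_of_HD ((RHomR A X).obj X) 0 0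
    (by omega) hH (l0 ≪≫ₗ e0)
  let e3 : tO X D ≅ DTen.unit A :=
    e1.symm ≪≫ e2 ≪≫ (shiftFunctorZero (Dual.D A) ℤ).app _ ≪≫ (unitIsoInD (A := A)).symm
  exact ⟨D, ⟨e3⟩, ⟨DTen.braiding X D ≪≫ e3⟩⟩

end Groth.Agent.Lib.H6xPt
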