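import Mathlib
import Groth.Prelude.Def_QCohCat
import Groth.Agent.Lib.H6xExtZeroSec
import Groth.Agent.Lib.Helper23QCohAbelian
import Groth.Agent.Lib.Helper23FinType2
import Groth.Agent.Lib.Helper2QCoh
import Groth.Agent.S9819
import Groth.Agent.S0484
set_option backward.isDefEq.respectTransparency.types false

/-!
# `QCoh(X)` for `X` quasi-compact quasi-separated: abelian, cocomplete, with a small separating
family; the special adjoint functor theorem (helper6)
-/

set_option autoImplicit false
set_option linter.style.haveILetI false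
universe u u'
open CategoryTheory CategoryTheory.Limits AlgebraicGeometry TopologicalSpace Opposite ZeroObject

namespace Groth.Agent.Lib.H6xQCohSAFT

open Groth.Agent.Lib.H6xExtZeroSec Groth.Agent.Lib.Helper23.QCohLocal

variable {X : Scheme.{u}}

section sections

/-- locally equal sections are equal -/
theorem section_ext_local (M : X.Modules) {U : X.Opens} (s t : Γ(M, U))
    (h : ∀ x ∈ U, ∃ (W : X.Opens) (hle : W ≤ U), x ∈ W ∧
      M.presheaf.map (homOfLE hle).op s = M.presheaf.map (homOfLE hle).op t) : s = t := by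
  refine TopCat.Sheaf.eq_of_locally_eq' ⟨M.presheaf, M.isSheaf⟩
    (fun W : {W : X.Opens // ∃ hle : W ≤ U,
      M.presheaf.map (homOfLE hle).op s = M.presheaf.map (homOfLE hle).op t} => W.1) U
    (fun W => homOfLE W.2.choose) ?_ s t (fun W => W.2.choose_spec)
  intro x hx
  obtain ⟨W, hle, hxW, hW⟩ := h x hx
  exact Opens.mem_iSup.mpr ⟨⟨W, hle, hW⟩, hxW⟩

theorem app_res {A B : X.Modules} (m : A ⟶ B) {W W' : X.Opens} (h : W' ≤ W) (s : Γ(A, W)) :
    m.app W' (A.presheaf.map (homOfLE h).op s) = B.presheaf.map (homOfLE h).op (m.app W s) :=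
  ConcreteCategory.congr_hom (m.mapPresheaf.naturality (homOfLE h).op) s

/-- a morphism out of a quasi-coherent module vanishing on the sections over an affine open `U`
vanishes on the sections over every open contained in `U` -/
theorem app_eq_zero_of_le {K N : X.Modules} [K.IsQuasicoherent] (g : K ⟶ N) {U : X.Opens}
    (hU : IsAffineOpen U) (h0 : ∀ t : Γ(K, U), g.app U t = 0) {W : X.Opens} (hW : W ≤ U)
    (t : Γ(K, W)) : g.app W t = 0 := by
  apply section_ext_local N
  intro x hxW
  obtain ⟨f, hf, hxf⟩ := hU.exists_basicOpen_le (V := W) ⟨x, hxW⟩ (hW hxW)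
  refine ⟨X.basicOpen f, hf, hxf, ?_⟩
  rw [map_zero, ← app_res]
  set tD := K.presheaf.map (homOfLE hf).op t with htD
  obtain ⟨n, t', ht'⟩ := Groth.Agent.Lib.Helper2.QCoh.exists_extension hU K f tD
  have h1 : g.app (X.basicOpen f) (K.presheaf.map (homOfLE (X.basicOpen_le f)).op t') = 0 := by
    rw [app_res, h0, map_zero]
  rw [ht', Scheme.Modules.Hom.app_smul] at h1
  have hu : IsUnit ((X.presheaf.map (homOfLE (X.basicOpen_le f)).op f) ^ n) :=
    (X.toRingedSpace.isUnit_res_basicOpen f).pow n
  obtain ⟨u, hu'⟩ := hu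
  rw [← hu'] at h1
  have h2 : ((↑u⁻¹ : Γ(X, X.basicOpen f)) * (↑u : Γ(X, X.basicOpen f))) •
      g.app (X.basicOpen f) tD = 0 := by
    rw [mul_smul, h1, smul_zero]
  rwa [Units.inv_mul, one_smul] at h2

/-- a morphism out of a quasi-coherent module vanishing on sections over an affine cover is zero -/
theorem eq_zero_of_cover {K N : X.Modules} [K.IsQuasicoherent] (g : K ⟶ N) {ι : Type*}
    (U : ι → X.Opens) (hU : ∀ i, IsAffineOpen (U i)) (hcov : ∀ x : X, ∃ i, x ∈ U i)
    (h0 : ∀ i (t : Γ(K, U i)), g.app (U i) t = 0) : g = 0 := by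
  apply hom_eq_zero_of_app
  intro W t
  apply section_ext_local N
  intro x hxW
  obtain ⟨i, hxi⟩ := hcov x
  refine ⟨W ⊓ U i, inf_le_left, ⟨hxW, hxi⟩, ?_⟩
  rw [map_zero, ← app_res]
  exact app_eq_zero_of_le g (hU i) (h0 i) inf_le_right _

end sections

section generators

/-- the finite coproducts of `j_! O_V`, `V` affine open -/
noncomputable abbrev Pobj (d : Σ n : ℕ, (Fin n → X.affineOpens)) : X.Modules :=
  ∐ fun k : Fin d.1 => CxOX.extZeroUnit (d.2 k).1.ι

/-- a quasi-coherent module of finite type on a quasi-compact scheme is a quotient of some `Pobj` -/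
theorem exists_epi_Pobj [CompactSpace X] (K : X.Modules) [K.IsQuasicoherent]
    [SheafOfModules.IsFiniteType (R := X.ringCatSheaf) K] :
    ∃ (d : Σ n : ℕ, (Fin n → X.affineOpens)) (φ : Pobj d ⟶ K), Epi φ := by
  classical
  -- a finite affine cover
  obtain ⟨c, hc⟩ := (isCompact_univ (X := X)).elim_finite_subcover
    (fun U : X.affineOpens => ((U : X.Opens) : Set X)) (fun U => U.1.2)
    (by
      intro x _
      have hx : x ∈ (⨆ U : X.affineOpens, (U : X.Opens)) := by
        rw [iSup_affineOpens_eq_top]; trivial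
      obtain ⟨U, hU⟩ := Opens.mem_iSup.1 hx
      exact Set.mem_iUnion.2 ⟨U, hU⟩)
  have hfin : ∀ U : X.affineOpens, ∃ T : Finset Γ(K, U.1),
      Submodule.span Γ(X, U.1) (T : Set Γ(K, U.1)) = ⊤ := by
    intro U
    have := Groth.Agent.Lib.Helper23.FinType.finite_of_isFiniteType K U.2
    exact Module.Finite.fg_top
  choose T hT using hfin
  let A : Type u := Σ U : c, (T U.1 : Finset Γ(K, U.1.1))
  let e : A ≃ Fin (Fintype.card A) := Fintype.equivFin A
  let V : Fin (Fintype.card A) → X.affineOpens := fun k => (e.symm k).1.1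
  let s : ∀ k, Γ(K, (V k).1) := fun k => (e.symm k).2.1
  let φ : Pobj ⟨Fintype.card A, V⟩ ⟶ K := Sigma.desc (fun k => secHom (V k).1 K (s k))
  refine ⟨⟨Fintype.card A, V⟩, φ, ?_⟩
  apply Preadditive.epi_of_cancel_zero
  intro N g hg
  have h1 : ∀ a : A, g.app a.1.1.1 a.2.1 = 0 := by
    intro a
    have h2 : Sigma.ι (fun k : Fin (Fintype.card A) => CxOX.extZeroUnit (V k).1.ι) (e a) ≫ φ ≫ g = 0 := by
      rw [hg, comp_zero]
    rw [Sigma.ι_desc_assoc] at h2
    change secHom (V (e a)).1 K (s (e a)) ≫ g = 0 at h2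
    rw [secHom_comp, ← secHom_zero (V (e a)).1 N] at h2
    have h3 := secHom_injective _ N h2
    have key : ∀ (b : A), b = a → g.app b.1.1.1 b.2.1 = 0 → g.app a.1.1.1 a.2.1 = 0 := by
      intro b hb h; subst hb; exact h
    exact key (e.symm (e a)) (e.symm_apply_apply a) h3
  refine eq_zero_of_cover g (fun U : c => (U.1 : X.Opens)) (fun U => U.1.2) ?_ ?_
  · intro x
    obtain ⟨U, hU⟩ := Set.mem_iUnion.1 (hc (Set.mem_univ x))
    obtain ⟨hUc, hxU⟩ := Set.mem_iUnion.1 hU
    exact ⟨⟨U, hUc⟩, hxU⟩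
  · intro U t
    have ht : t ∈ Submodule.span Γ(X, U.1.1) ((T U.1 : Finset Γ(K, U.1.1)) : Set Γ(K, U.1.1)) := by
      rw [hT]; trivial
    induction ht using Submodule.span_induction with
    | mem y hy => exact h1 ⟨U, ⟨y, hy⟩⟩
    | zero => exact map_zero _
    | add y z _ _ hy hz => rw [map_add, hy, hz, add_zero]
    | smul r y _ hy => rw [Scheme.Modules.Hom.app_smul, hy, smul_zero]

end generators

section category

variable (X)

instance : (QCohCat.isQCoh X).IsClosedUnderIsomorphisms where
  of_iso e h := (SheafOfModules.isQuasicoherent X.ringCatSheaf).prop_of_iso e h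

instance : (QCohCat.isQCoh X).ContainsZero where
  exists_zero := ⟨0, isZero_zero _, by
    have h : (cokernel (𝟙 (Coh.structureModule X))).IsQuasicoherent := by
      haveI : (Coh.structureModule X).IsQuasicoherent := inferInstance
      exact isQuasicoherent_cokernel _
    exact (SheafOfModules.isQuasicoherent X.ringCatSheaf).prop_of_iso
      ((isZero_cokernel_of_epi (𝟙 (Coh.structureModule X))).iso (isZero_zero _)) h⟩

instance : (QCohCat.isQCoh X).IsClosedUnderKernels where
  kernels_le := by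
    rintro _ ⟨f, k, hk, hf⟩
    rename_i A B
    haveI h1 : SheafOfModules.IsQuasicoherent (R := X.ringCatSheaf) A := hf.1
    haveI h2 : SheafOfModules.IsQuasicoherent (R := X.ringCatSheaf) B := hf.2
    exact (SheafOfModules.isQuasicoherent X.ringCatSheaf).prop_of_iso
      (IsLimit.conePointUniqueUpToIso (kernelIsKernel f) hk) (isQuasicoherent_kernel f)

instance : (QCohCat.isQCoh X).IsClosedUnderCokernels where
  cokernels_le := by
    rintro _ ⟨f, k, hk, hf⟩
    rename_i A B
    haveI h1 : SheafOfModules.IsQuasicoherent (R := X.ringCatSheaf) A := hf.1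
    haveI h2 : SheafOfModules.IsQuasicoherent (R := X.ringCatSheaf) B := hf.2
    exact (SheafOfModules.isQuasicoherent X.ringCatSheaf).prop_of_iso
      (IsColimit.coconePointUniqueUpToIso (cokernelIsCokernel f) hk) (isQuasicoherent_cokernel f)

instance (J : Type u) [SmallCategory J] : (QCohCat.isQCoh X).IsClosedUnderColimitsOfShape J :=
  ObjectProperty.IsClosedUnderColimitsOfShape.mk' (by
    rintro _ ⟨F, hF⟩
    exact isQuasicoherent_colimit F hF)

instance : (QCohCat.isQCoh X).IsClosedUnderFiniteProducts :=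
  ObjectProperty.IsClosedUnderFiniteProducts.of_isClosedUnderLimitsOfShape.{u}
    (fun J _ => ObjectProperty.IsClosedUnderLimitsOfShape.mk' (by
      rintro _ ⟨F, hF⟩
      have _ := Fintype.ofFinite J
      haveI := Abelian.hasFiniteBiproducts (C := X.Modules)
      let f : J → X.Modules := fun j => F.obj ⟨j⟩
      have h1 : (∐ f).IsQuasicoherent :=
        isQuasicoherent_colimit (Discrete.functor f) (fun j => hF ⟨j.as⟩)
      let e : ∐ f ≅ limit F :=
        (biproduct.isoCoproduct f).symm ≪≫ biproduct.isoProduct f ≪≫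
          (HasLimit.isoOfNatIso (Discrete.natIsoFunctor (F := F))).symm
      exact (SheafOfModules.isQuasicoherent X.ringCatSheaf).prop_of_iso e h1))

instance : HasColimitsOfSize.{u, u} (QCohCat.QCoh X) := ⟨fun J _ => inferInstance⟩

end category

section separating

variable (X)

/-- index type of the separating family -/
def Idx : Type (u + 1) :=
  Σ d : (Σ n : ℕ, (Fin n → X.affineOpens)),
    {S : Subobject (Pobj d) // QCohCat.isQCoh X (cokernel S.arrow)}

instance small_Idx : Small.{u} (Idx X) := by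
  haveI : IsGrothendieckAbelian.{u} X.Modules :=
    Groth.Agent.S0484.result (Opens.grothendieckTopology X) X.ringCatSheaf
  haveI : WellPowered.{u} X.Modules := IsGrothendieckAbelian.wellPowered _
  unfold Idx
  infer_instance

/-- the separating family -/
noncomputable def G (i : Idx X) : QCohCat.QCoh X := ⟨cokernel i.2.1.arrow, i.2.2⟩

variable {X}

theorem exists_iso_G [CompactSpace X] (K : X.Modules) [K.IsQuasicoherent]
    [SheafOfModules.IsFiniteType (R := X.ringCatSheaf) K] :
    ∃ i : Idx X, Nonempty ((G X i).obj ≅ K) := by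
  obtain ⟨d, φ, hφ⟩ := exists_epi_Pobj K
  let S : Subobject (Pobj d) := Subobject.mk (kernel.ι φ)
  have hS : S.arrow = (Subobject.underlyingIso (kernel.ι φ)).hom ≫ kernel.ι φ :=
    (Subobject.underlyingIso_hom_comp_eq_mk (kernel.ι φ)).symm
  let e1 : cokernel S.arrow ≅ cokernel (kernel.ι φ) :=
    cokernelIsoOfEq hS ≪≫ cokernelEpiComp _ _
  let e2 : cokernel (kernel.ι φ) ≅ K :=
    IsColimit.coconePointUniqueUpToIso (cokernelIsCokernel (kernel.ι φ))
      (Abelian.epiIsCokernelOfKernel (KernelFork.ofι (kernel.ι φ) (kernel.condition φ)) (kernelIsKernel φ))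
  have hq : QCohCat.isQCoh X (cokernel S.arrow) :=
    (SheafOfModules.isQuasicoherent X.ringCatSheaf).prop_of_iso (e1 ≪≫ e2).symm
      (inferInstance : K.IsQuasicoherent)
  exact ⟨⟨d, ⟨S, hq⟩⟩, ⟨e1 ≪≫ e2⟩⟩

theorem isSeparating_G [CompactSpace X] [QuasiSeparatedSpace X] :
    (ObjectProperty.ofObj (G X)).IsSeparating := by
  intro M M' f g h
  apply ObjectProperty.hom_ext
  haveI : M.obj.IsQuasicoherent := M.property
  have key : ∀ (U : X.affineOpens) (s : Γ(M.obj, U.1)), f.hom.app U.1 s = g.hom.app U.1 s := by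
    intro U s
    haveI : Coh.IsQCoh M.obj := M.property
    obtain ⟨K, i, hi, hKq, hKf, g0, hg0⟩ := Groth.Agent.S9819.result M.obj U s
    haveI : K.IsQuasicoherent := hKq
    haveI : SheafOfModules.IsFiniteType (R := X.ringCatSheaf) K := hKf
    obtain ⟨j, ⟨e⟩⟩ := exists_iso_G K
    have h1 := h (G X j) (ObjectProperty.ofObj_apply _ _)
      ((QCohCat.isQCoh X).homMk (e.hom ≫ i))
    have h2 : (e.hom ≫ i) ≫ f.hom = (e.hom ≫ i) ≫ g.hom := congrArg (fun φ => φ.hom) h1
    rw [Category.assoc, Category.assoc] at h2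
    have h3 : i ≫ f.hom = i ≫ g.hom := (cancel_epi e.hom).1 h2
    have h4 : (i ≫ f.hom).app U.1 g0 = (i ≫ g.hom).app U.1 g0 := by rw [h3]
    have h5 : i.app U.1 g0 = s := hg0
    rw [← h5]
    exact h4
  apply Scheme.Modules.hom_ext
  intro W
  ext t
  apply section_ext_local M'.obj
  intro x hxW
  obtain ⟨U, hU, hxU, hUW⟩ := (Opens.isBasis_iff_nbhd.1 X.isBasis_affineOpens) hxW
  refine ⟨U, hUW, hxU, ?_⟩
  rw [← app_res, ← app_res]
  exact key ⟨U, hU⟩ _

end separating

section SAFT

theorem isLeftAdjoint_of_preservesColimits (X : Scheme.{u}) [CompactSpace X] [QuasiSeparatedSpace X]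
    {A : Type u'} [Category.{u} A] (F : QCohCat.QCoh X ⥤ A) [PreservesColimitsOfSize.{u, u} F] :
    F.IsLeftAdjoint := by
  haveI : WellPowered.{u} (QCohCat.QCoh X) :=
    wellPowered_of_isDetecting (isSeparating_G (X := X)).isDetecting
  haveI : WellPowered.{u} (QCohCat.QCoh X)ᵒᵖ := inferInstance
  exact isLeftAdjoint_of_preservesColimits_of_isSeparating (isSeparating_G (X := X)) F

end SAFT

end Groth.Agent.Lib.H6xQCohSAFT
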