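import Mathlib
import Groth.Prelude.Def_Coh
import Groth.Prelude.Def_CxOX
import Groth.Agent.Lib.Helper23QCohAbelian
set_option backward.isDefEq.respectTransparency.types false

/-!
# Quasi-coherent modules supported off opens (helper6)

For `F` quasi-coherent with `F|_{U ∩ V} = 0` (`U` quasi-compact open in a quasi-separated scheme) the
kernel `A` of `F ⟶ j_{U*} j_U^* F` is quasi-coherent, vanishes on `U` and `F / A` vanishes on `V`.
-/

set_option autoImplicit false
set_option linter.style.haveILetI false
universe u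
open CategoryTheory CategoryTheory.Limits AlgebraicGeometry TopologicalSpace Opposite

namespace Groth.Agent.Lib.H6xQCohSupp

open Groth.Agent.Lib.Helper23.QCohLocal

variable {X : Scheme.{u}}

lemma subsingleton_sections_of_isZero {M : X.Modules} (h : IsZero M) (W : X.Opens) :
    Subsingleton Γ(M, W) := by
  refine ⟨fun a b => ?_⟩
  have h0 : (𝟙 M : M ⟶ M) = 0 := h.eq_of_src _ _
  have key : ∀ s : Γ(M, W), s = 0 := by
    intro s
    have h1 : (𝟙 M : M ⟶ M).app W s = (0 : M ⟶ M).app W s := by rw [h0]
    exact h1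
  rw [key a, key b]

lemma isZero_of_subsingleton_sections (M : X.Modules) (h : ∀ W : X.Opens, Subsingleton Γ(M, W)) :
    IsZero M := by
  rw [IsZero.iff_id_eq_zero]
  apply Scheme.Modules.hom_ext
  intro W
  ext s
  exact @Subsingleton.elim _ (h W) _ _

/-- if `F|_T = 0` then `F` has no nonzero sections over opens inside `T` -/
lemma subsingleton_sections_of_isZero_restrict (F : X.Modules) (T : X.Opens)
    (h : IsZero ((Scheme.Modules.restrictFunctor T.ι).obj F)) {W : X.Opens} (hW : W ≤ T) :
    Subsingleton Γ(F, W) := by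
  have h1 := subsingleton_sections_of_isZero h (T.ι ⁻¹ᵁ W)
  have h2 : T.ι ''ᵁ (T.ι ⁻¹ᵁ W) = W := by
    rw [Scheme.Hom.image_preimage_eq_opensRange_inf, Scheme.Opens.opensRange_ι]
    exact inf_eq_right.2 hW
  have h3 : Subsingleton Γ(F, T.ι ''ᵁ (T.ι ⁻¹ᵁ W)) := h1
  rw [h2] at h3
  exact h3

theorem exists_sub [QuasiSeparatedSpace X] (U V : X.Opens) [QuasiCompact U.ι]
    (F : X.Modules) [F.IsQuasicoherent]
    (h : IsZero ((Scheme.Modules.restrictFunctor (U ⊓ V).ι).obj F)) :
    ∃ (A : X.Modules) (i : A ⟶ F), Mono i ∧ A.IsQuasicoherent ∧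
      IsZero ((Scheme.Modules.restrictFunctor U.ι).obj A) ∧
      IsZero ((Scheme.Modules.restrictFunctor V.ι).obj (cokernel i)) := by
  let adj := Scheme.Modules.restrictAdjunction U.ι
  let η : F ⟶ (Scheme.Modules.pushforward U.ι).obj ((Scheme.Modules.restrictFunctor U.ι).obj F) :=
    adj.unit.app F
  haveI hq : ((Scheme.Modules.pushforward U.ι).obj
      ((Scheme.Modules.restrictFunctor U.ι).obj F)).IsQuasicoherent :=
    isQuasicoherent_pushforward U.ι _
  refine ⟨kernel η, kernel.ι η, inferInstance, isQuasicoherent_kernel η, ?_, ?_⟩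
  · -- the restriction of `η` to `U` is a split monomorphism
    have htri : (Scheme.Modules.restrictFunctor U.ι).map η ≫
        adj.counit.app ((Scheme.Modules.restrictFunctor U.ι).obj F) = 𝟙 _ :=
      adj.left_triangle_components F
    haveI : Mono ((Scheme.Modules.restrictFunctor U.ι).map η) := mono_of_mono_fac htri
    exact (isZero_kernel_of_mono ((Scheme.Modules.restrictFunctor U.ι).map η)).of_iso
      (PreservesKernel.iso (Scheme.Modules.restrictFunctor U.ι) η)
  · -- `F / A` embeds into `j_* j^* F`, which vanishes on `V`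
    let m : cokernel (kernel.ι η) ⟶ (Scheme.Modules.pushforward U.ι).obj
        ((Scheme.Modules.restrictFunctor U.ι).obj F) := Abelian.factorThruCoimage η
    haveI : Mono m := inferInstanceAs (Mono (Abelian.factorThruCoimage η))
    haveI : Mono ((Scheme.Modules.restrictFunctor V.ι).map m) := inferInstance
    refine IsZero.of_mono ((Scheme.Modules.restrictFunctor V.ι).map m) ?_
    apply isZero_of_subsingleton_sections
    intro W
    change Subsingleton Γ(F, U.ι ''ᵁ (U.ι ⁻¹ᵁ (V.ι ''ᵁ W)))
    apply subsingleton_sections_of_isZero_restrict F (U ⊓ V) h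
    rw [Scheme.Hom.image_preimage_eq_opensRange_inf, Scheme.Opens.opensRange_ι]
    refine inf_le_inf_left _ ?_
    intro x hx
    obtain ⟨y, -, rfl⟩ := hx
    exact y.2

end Groth.Agent.Lib.H6xQCohSupp
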