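import Mathlib
import Groth.Prelude.Def_DCoh2
import Groth.Agent.Lib.Helper17Hyp15
import Groth.Agent.Lib.Helper17DBrown1
import Groth.Agent.Lib.Helper16Restr
import Groth.Agent.S0007

/-!
# Objects of `D_QCoh(O_X)` are derived limits of their truncations (helper6)
-/

set_option autoImplicit false
set_option linter.style.haveILetI false

universe w u

open CategoryTheory CategoryTheory.Limits Opposite AlgebraicGeometry TopologicalSpace

namespace Groth.Agent.Lib.H6xQcTrunc

open Groth.Agent.Lib.Helper17.Hyp Groth.Agent.Lib.Helper21 Groth.Agent.Lib.Helper21.FreeAb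
  Groth.Agent.Lib.Helper21.TorsFree

variable {X : Scheme.{u}}

/-- affine vanishing, in the form of cohomology on the site of `X` over an affine open. -/
theorem subsingleton_HU_of_affine (W : X.Opens) (hW : IsAffineOpen W) (F : X.Modules)
    [F.IsQuasicoherent] (k : ℕ) (hk : 0 < k) :
    Subsingleton (CohTop.HU (Coh.toAb F) k W) := by
  obtain ⟨e⟩ := Groth.Agent.Lib.Helper16.Restr.nonempty_HU_equiv (X := X.carrier) W (Coh.toAb F) k
  haveI : IsAffine (W : Scheme.{u}) := hW
  haveI : (F.restrict W.ι).IsQuasicoherent :=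
    Scheme.Modules.isQuasicoherent_restrictFunctor W.ι F
  have h1 : Subsingleton (Coh.HH (W : Scheme.{u}) (F.restrict W.ι) k) :=
    Groth.Agent.S0007.result (W : Scheme.{u}) (F.restrict W.ι) k hk
  have h2 : Subsingleton (CohTop.H (CohTop.restr (Coh.toAb F) W) k) := h1
  exact e.toEquiv.subsingleton

/-- the free `O_X`-module on an open, as a functor to `X.Modules`. -/
noncomputable def frX (X : Scheme.{u}) : X.Opens ⥤ X.Modules := frModR X.ringCatSheaf

theorem locFr_frX (X : Scheme.{u}) : LocFr (Opens.grothendieckTopology X) (frX X) :=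
  locFr_frModR X.ringCatSheaf

instance isGrothendieckAbelian_modules' : IsGrothendieckAbelian.{u} X.Modules :=
  Groth.Agent.S0484.result (Opens.grothendieckTopology X) X.ringCatSheaf

theorem hasExt_modules : HasExt.{u} X.Modules :=
  letI := Groth.Agent.Lib.Helper17.DBrown.hasDerivedCategorySmall X.Modules
  hasExt_of_hasDerivedCategory _

theorem subsingleton_ext_frX_of_affine (W : X.Opens) (hW : IsAffineOpen W) (F : X.Modules)
    [F.IsQuasicoherent] (k : ℕ) (hk : 0 < k) :
    haveI := hasExt_modules (X := X)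
    Subsingleton (Abelian.Ext.{u} ((frX X).obj W) F k) := by
  haveI := hasExt_modules (X := X)
  haveI : HasExt.{u} (SheafOfModules.{u} X.ringCatSheaf) := hasExt_modules (X := X)
  obtain ⟨e⟩ := nonempty_ext_freeShR_iso X.ringCatSheaf
    (CohCx.freeSheaf (Opens.grothendieckTopology X) W) (TF_freeSheaf W) F k
  have h0 : Subsingleton (Abelian.Ext.{u} (CohCx.freeSheaf (Opens.grothendieckTopology X) W)
      ((SheafOfModules.toSheaf X.ringCatSheaf).obj F) k) :=
    subsingleton_HU_of_affine W hW F k hk
  exact @Equiv.subsingleton _ _ e.addCommGroupIsoToAddEquiv.toEquiv h0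

section

variable [HasDerivedCategory.{w} X.Modules]

theorem subsingleton_hom_frX_of_affine (W : X.Opens) (hW : IsAffineOpen W) (F : X.Modules)
    [F.IsQuasicoherent] (k : ℕ) (hk : 0 < k) :
    Subsingleton (dsgl ((frX X).obj W) ⟶
      ((DerivedCategory.singleFunctor X.Modules 0).obj F)⟦(k : ℤ)⟧) := by
  haveI := hasExt_modules (X := X)
  have h1 := subsingleton_ext_frX_of_affine W hW F k hk
  exact @Equiv.subsingleton _ _ (Abelian.Ext.homEquiv
    (X := (frX X).obj W) (Y := F) (n := k)).symm h1

/-- objects of `D_QCoh(O_X)` are derived limits of their truncations. -/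
theorem isRlimVia_truncTower_of_isQCohD (E : DerivedCategory X.Modules)
    (hE : ∀ i : ℤ, Coh.IsQCoh ((DerivedCategory.homologyFunctor X.Modules i).obj E))
    [HasProduct (CohCx.truncTower E)] :
    CohCx.IsRlimVia (CohCx.truncTower E) (CohCx.truncTowerMap E) E (CohCx.toTruncTower E) := by
  apply isRlimVia_truncTower_of_cofinal.{w, u} (fr := frX X) (locFr_frX X) E
  intro U
  -- affine opens contained in `U`
  refine ⟨fun V _ => IsAffineOpen V, ?_, fun V g hV => ?_⟩
  · intro x hx
    obtain ⟨V, hV, hxV, hVU⟩ :=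
      (Opens.isBasis_iff_nbhd.1 X.isBasis_affineOpens) hx
    exact ⟨V, homOfLE hVU, ⟨V, 𝟙 V, homOfLE hVU, hV, Category.id_comp _⟩, hxV⟩
  · refine ⟨fun _ => 0, fun T hT => ?_⟩
    refine ⟨fun W g' => IsAffineOpen W ∧ T g', fun W g' h => h.2, ?_, fun W g' hW m k hk => ?_⟩
    · intro x hx
      obtain ⟨V', f', hf', hxV'⟩ := hT x hx
      obtain ⟨W, hW, hxW, hWV'⟩ :=
        (Opens.isBasis_iff_nbhd.1 X.isBasis_affineOpens) hxV'
      refine ⟨W, homOfLE hWV' ≫ f', ⟨W, 𝟙 W, homOfLE hWV' ≫ f', ⟨hW, ?_⟩, Category.id_comp _⟩, hxW⟩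
      exact T.downward_closed hf' (homOfLE hWV')
    · haveI : ((DerivedCategory.homologyFunctor X.Modules (m - k)).obj E).IsQuasicoherent :=
        hE (m - k)
      have hk' : (0 : ℤ) < k := hk
      exact subsingleton_hom_frX_of_affine W hW.1 _ k (by exact_mod_cast hk')

end

end Groth.Agent.Lib.H6xQcTrunc
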