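import Groth.Agent.Lib.H6xQuotRadicial

set_option autoImplicit false
universe u

open CategoryTheory AlgebraicGeometry SGA1 Groth.Agent.Lib.Helper20

namespace Groth.Agent.Lib.H6xQuotClosedSub

open Groth.Agent.Lib.H6xQuotRadicial

theorem appLE_surjective {X Y : Scheme.{u}} (f : X ⟶ Y) [IsClosedImmersion f] (V : Y.Opens)
    (hV : IsAffineOpen V) (W : X.Opens) (e : W ≤ f ⁻¹ᵁ V) (e' : f ⁻¹ᵁ V ≤ W) :
    Function.Surjective (f.appLE V W e).hom := by
  obtain rfl : W = f ⁻¹ᵁ V := le_antisymm e e'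
  rw [Scheme.Hom.appLE_eq_app]
  exact Scheme.Hom.app_surjective f V hV

section

variable {X Y : Scheme.{u}} {G : Type u} [Group G] [Finite G]
  {ρ : G →* Aut X} {q : X ⟶ Y}

/-- a quotient morphism is integral. -/
theorem isIntegralHom_of_isQuot (hq : IsQuot ρ q) : IsIntegralHom q :=
  { isAffine_preimage := hq.affine.isAffine_preimage
    isIntegral_app := fun U _ => isIntegral_app hq U }

/-- a quotient morphism is surjective. -/
theorem surjective_of_isQuot' (hq : IsQuot ρ q) : Surjective q :=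
  ⟨surjective_of_isQuot hq⟩

end

section main

variable {X Y Z W : Scheme.{u}} {G : Type u} [Group G] [Finite G]
  {ρ : G →* Aut X} {q : X ⟶ Y} (hq : IsQuot ρ q)
  {ρZ : G →* Aut Z} {r : Z ⟶ W} (hr : IsQuot ρZ r)
  (i : Z ⟶ X) [IsClosedImmersion i] (hi : ∀ σ : G, (ρZ σ).hom ≫ i = i ≫ (ρ σ).hom)
  (m' : W ⟶ Y) (hm : r ≫ m' = i ≫ q)

include hq hr hm in
theorem isAffineOpen_preimage (V : Y.Opens) (hV : IsAffineOpen V) : IsAffineOpen (m' ⁻¹ᵁ V) := by
  have := hq.affine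
  apply isAffineOpen_of_isQuot hr
  have h1 : r ⁻¹ᵁ (m' ⁻¹ᵁ V) = i ⁻¹ᵁ (q ⁻¹ᵁ V) :=
    le_antisymm (preimage_le i m' hm V) (le_preimage i m' hm V)
  rw [h1]
  exact (hV.preimage q).preimage i

include hq hr hm in
theorem isAffineHom_of_closed : IsAffineHom m' :=
  ⟨fun V hV => isAffineOpen_preimage hq hr i m' hm V hV⟩

include hq hr hi hm in
theorem universallyInjective_of_closed : UniversallyInjective m' := by
  have := hq.affine
  apply universallyInjective_of_cover hq hr i hi m' hm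
  intro y
  obtain ⟨V, hV, hyV⟩ := exists_affine_nhd Y y
  refine ⟨V, hyV, isAffineOpen_preimage hq hr i m' hm V hV, ?_⟩
  exact appLE_surjective i (q ⁻¹ᵁ V) (hV.preimage q) _ _ (le_preimage i m' hm V)

include hq hr hm in
theorem isIntegralHom_of_closed : IsIntegralHom m' := by
  rw [IsIntegralHom.iff_universallyClosed_and_isAffineHom]
  refine ⟨?_, isAffineHom_of_closed hq hr i m' hm⟩
  have : IsIntegralHom q := isIntegralHom_of_isQuot hq
  have : Surjective r := surjective_of_isQuot' hr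
  have : UniversallyClosed (r ≫ m') := by rw [hm]; infer_instance
  exact UniversallyClosed.of_comp_surjective r m'

end main

section S13177

variable {X Y Z W : Scheme.{u}} {G : Type u} [Group G] [Finite G]

theorem universallyInjective_of_comp {A B C : Scheme.{u}} (f : A ⟶ B) (g : B ⟶ C)
    [UniversallyInjective (f ≫ g)] : UniversallyInjective f := by
  refine ((tfae_universallyInjective f).out 0 1).mpr ?_
  intro K _ g₁ g₂ hg
  have h : ∀ (K : Type u) [Field K],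
      Function.Injective (fun t : Spec (.of K) ⟶ A ↦ t ≫ (f ≫ g)) :=
    ((tfae_universallyInjective (f ≫ g)).out 0 1).mp ‹_›
  apply h K
  show g₁ ≫ f ≫ g = g₂ ≫ f ≫ g
  have hg' : g₁ ≫ f = g₂ ≫ f := hg
  rw [← Category.assoc, ← Category.assoc, hg']

theorem main (ρ : G →* Aut X) (q : X ⟶ Y) (hquot : SGA1.IsQuot ρ q)
    (i : Z ⟶ X) [IsClosedImmersion i] (ρZ : G →* Aut Z)
    (hρZ : ∀ σ : G, (ρZ σ).hom ≫ i = i ≫ (ρ σ).hom)
    (r : Z ⟶ W) (hr : SGA1.IsQuot ρZ r)
    (m : W ⟶ (i ≫ q).ker.subscheme) (hm : r ≫ m ≫ (i ≫ q).ker.subschemeι = i ≫ q) :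
    FlatMor.IsUnivHomeo m ∧ IsSchemeTheoreticallyDominant m := by
  have hqaff := hquot.affine
  have hqint : IsIntegralHom q := isIntegralHom_of_isQuot hquot
  have hint' : IsIntegralHom (m ≫ (i ≫ q).ker.subschemeι) :=
    isIntegralHom_of_closed hquot hr i _ hm
  have hinj' : UniversallyInjective (m ≫ (i ≫ q).ker.subschemeι) :=
    universallyInjective_of_closed hquot hr i hρZ _ hm
  have hint : IsIntegralHom m := IsIntegralHom.of_comp m (i ≫ q).ker.subschemeι
  have hinj : UniversallyInjective m := universallyInjective_of_comp m (i ≫ q).ker.subschemeι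
  have hrs : Function.Surjective r.base := surjective_of_isQuot hr
  -- the range of `i ≫ q` is closed
  have hclosed : IsClosed (Set.range (i ≫ q).base) := by
    have h1 : IsClosedMap (i ≫ q).base := by
      rw [Scheme.Hom.comp_base]
      exact (isClosedMap_of_isQuot hquot).comp i.isClosedEmbedding.isClosedMap
    exact h1.isClosed_range
  have hsurj : Function.Surjective m.base := by
    intro w'
    have h1 : (i ≫ q).ker.subschemeι.base w' ∈ Set.range (i ≫ q).base := by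
      have h2 : (i ≫ q).ker.subschemeι.base w' ∈ Set.range (i ≫ q).ker.subschemeι.base := ⟨w', rfl⟩
      rw [Scheme.IdealSheafData.range_subschemeι, Scheme.Hom.support_ker] at h2
      rwa [hclosed.closure_eq] at h2
    obtain ⟨z, hz⟩ := h1
    refine ⟨r.base z, ?_⟩
    apply (i ≫ q).ker.subschemeι.isEmbedding.injective
    rw [← hz]
    exact congrArg (fun φ : Z ⟶ Y => φ.base z) hm
  have hsurj' : Surjective m := ⟨hsurj⟩
  refine ⟨(Groth.Agent.S0415.result m).mpr ⟨hint, hinj, hsurj'⟩, ?_⟩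
  -- schematic dominance
  rw [isSchemeTheoreticallyDominant_iff]
  have hrm : r ≫ m = (i ≫ q).toImage := by
    rw [← cancel_mono (i ≫ q).imageι, Scheme.Hom.toImage_imageι, Category.assoc]
    exact hm
  apply Scheme.IdealSheafData.ext_of_iSup_eq_top
    (fun U : Y.affineOpens => (⟨(i ≫ q).ker.subschemeι ⁻¹ᵁ U.1,
      U.2.preimage (i ≫ q).ker.subschemeι⟩ : (i ≫ q).ker.subscheme.affineOpens))
  · rw [eq_top_iff]
    rintro x -
    obtain ⟨V, hV, hxV⟩ := exists_affine_nhd Y ((i ≫ q).ker.subschemeι.base x)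
    exact TopologicalSpace.Opens.mem_iSup.mpr ⟨⟨V, hV⟩, hxV⟩
  · intro U
    rw [Scheme.Hom.ker_apply, Scheme.IdealSheafData.ideal_bot, Pi.bot_apply]
    rw [RingHom.ker_eq_bot_iff_eq_zero]
    have hinj2 := (i ≫ q).toImage_app_injective U
    have e3 : (i ≫ q).toImage ⁻¹ᵁ ((i ≫ q).imageι ⁻¹ᵁ U.1) ≤
        r ⁻¹ᵁ (m ⁻¹ᵁ ((i ≫ q).imageι ⁻¹ᵁ U.1)) := by
      have h5 : r ⁻¹ᵁ (m ⁻¹ᵁ ((i ≫ q).imageι ⁻¹ᵁ U.1)) =
          (r ≫ m) ⁻¹ᵁ ((i ≫ q).imageι ⁻¹ᵁ U.1) := (Scheme.Hom.comp_preimage r m _).symm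
      rw [h5, hrm]
    have h3 : (i ≫ q).toImage.app ((i ≫ q).imageι ⁻¹ᵁ U.1) =
        m.app ((i ≫ q).imageι ⁻¹ᵁ U.1) ≫ r.appLE (m ⁻¹ᵁ ((i ≫ q).imageι ⁻¹ᵁ U.1))
          ((i ≫ q).toImage ⁻¹ᵁ ((i ≫ q).imageι ⁻¹ᵁ U.1)) e3 := by
      rw [Scheme.Hom.app_eq_appLE, Scheme.Hom.app_eq_appLE, Scheme.Hom.appLE_comp_appLE]
      exact appLE_congr_hom hrm.symm _ _ _
    intro x hx
    apply hinj2
    rw [h3]
    have hx' : (m.app ((i ≫ q).imageι ⁻¹ᵁ U.1)).hom x = 0 := hx
    exact congrArg (r.appLE _ _ e3).hom (hx'.trans (map_zero _).symm)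

end S13177

end Groth.Agent.Lib.H6xQuotClosedSub
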