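import Groth.Agent.Lib.H6xQuotRadicial2
import Groth.Agent.Lib.H6xQuotClosedSub
import Groth.Agent.S0415
import Mathlib.AlgebraicGeometry.Morphisms.Flat

set_option autoImplicit false
universe u

open CategoryTheory CategoryTheory.Limits AlgebraicGeometry SGA1 Groth.Agent.Lib.Helper20

namespace Groth.Agent.Lib.H6xQuotBaseChange

open TensorProduct in
theorem exists_sum_of_isPushout {R A B P : CommRingCat.{u}} {φ : R ⟶ A} {ψ : R ⟶ B}
    {a : A ⟶ P} {b : B ⟶ P} (H : IsPushout φ ψ a b) (p : P) :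
    ∃ (n : ℕ) (x : Fin n → A) (d : Fin n → B), p = ∑ i, a.hom (x i) * b.hom (d i) := by
  algebraize [φ.hom, ψ.hom]
  let e := ((CommRingCat.isPushout_tensorProduct R A B).isoIsPushout A B H).commRingCatIsoToRingEquiv
  obtain ⟨n, x, d, hxd⟩ := TensorProduct.exists_sum_tmul_eq (e.symm p)
  refine ⟨n, x, d, ?_⟩
  have h0 : p = e (e.symm p) := (e.apply_symm_apply p).symm
  rw [h0, hxd, map_sum]
  refine Finset.sum_congr rfl fun i _ => ?_
  have h1 : (x i ⊗ₜ[R] d i : A ⊗[R] B) = (x i ⊗ₜ[R] 1) * (1 ⊗ₜ[R] d i) := by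
    rw [Algebra.TensorProduct.tmul_mul_tmul, mul_one, one_mul]
  rw [h1, map_mul]
  have h2 : e (x i ⊗ₜ[R] 1) = a.hom (x i) :=
    congrArg (fun f : A ⟶ P => f.hom (x i))
      ((CommRingCat.isPushout_tensorProduct R A B).inl_isoIsPushout_hom A B H)
  have h3 : e (1 ⊗ₜ[R] d i) = b.hom (d i) :=
    congrArg (fun f : B ⟶ P => f.hom (d i))
      ((CommRingCat.isPushout_tensorProduct R A B).inr_isoIsPushout_hom A B H)
  rw [h2, h3]

theorem exists_affine_nhd_le (Z : Scheme.{u}) (z : Z) (U : Z.Opens) (hz : z ∈ U) :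
    ∃ W : Z.Opens, IsAffineOpen W ∧ z ∈ W ∧ W ≤ U := by
  obtain ⟨_, ⟨V, hV, rfl⟩, hy, hle⟩ :=
    (Z.isBasis_affineOpens).exists_subset_of_mem_open hz U.isOpen
  exact ⟨V, hV, hy, hle⟩

section main

variable {X Y S S' Y' : Scheme.{u}} {G : Type u} [Group G] [Finite G]
    (ρ : G →* Aut X) (f : X ⟶ S)
    (q : X ⟶ Y) (h : Y ⟶ S) (hq : q ≫ h = f) (hquot : SGA1.IsQuot ρ q)
    (g : S' ⟶ S)
    (ρ' : G →* Aut (pullback f g))
    (hρ' : ∀ σ : G, (ρ' σ).hom ≫ pullback.fst f g = pullback.fst f g ≫ (ρ σ).hom ∧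
      (ρ' σ).hom ≫ pullback.snd f g = pullback.snd f g)
    (r : pullback f g ⟶ Y') (hr : SGA1.IsQuot ρ' r)
    (m : Y' ⟶ pullback h g)
    (hm : r ≫ m = pullback.map f g h g q (𝟙 S') (𝟙 S)
      ((Category.comp_id f).trans hq.symm) ((Category.comp_id g).trans (Category.id_comp g).symm))

include hm in
theorem rm_fst : r ≫ m ≫ pullback.fst h g = pullback.fst f g ≫ q := by
  rw [← Category.assoc, hm, pullback.lift_fst]

include hm in
theorem rm_snd : r ≫ m ≫ pullback.snd h g = pullback.snd f g := by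
  rw [← Category.assoc, hm, pullback.lift_snd, Category.comp_id]

include hm in
theorem preimage_eq (V : Y.Opens) (T' : S'.Opens) :
    r ⁻¹ᵁ (m ⁻¹ᵁ ((pullback.fst h g) ⁻¹ᵁ V ⊓ (pullback.snd h g) ⁻¹ᵁ T')) =
      (pullback.fst f g) ⁻¹ᵁ (q ⁻¹ᵁ V) ⊓ (pullback.snd f g) ⁻¹ᵁ T' := by
  have h1 : r ⁻¹ᵁ (m ⁻¹ᵁ ((pullback.fst h g) ⁻¹ᵁ V)) = (pullback.fst f g) ⁻¹ᵁ (q ⁻¹ᵁ V) := by
    rw [← Scheme.Hom.comp_preimage, ← Scheme.Hom.comp_preimage, ← Scheme.Hom.comp_preimage,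
      Category.assoc, rm_fst f q h hq g r m hm]
  have h2 : r ⁻¹ᵁ (m ⁻¹ᵁ ((pullback.snd h g) ⁻¹ᵁ T')) = (pullback.snd f g) ⁻¹ᵁ T' := by
    rw [← Scheme.Hom.comp_preimage, ← Scheme.Hom.comp_preimage,
      Category.assoc, rm_snd f q h hq g r m hm]
  rw [Scheme.Hom.preimage_inf, Scheme.Hom.preimage_inf, h1, h2]

include hquot hr hm in
theorem cover_data (T : S.Opens) (hT : IsAffineOpen T) (V : Y.Opens) (hV : IsAffineOpen V)
    (hVT : V ≤ h ⁻¹ᵁ T) (T' : S'.Opens) (hT' : IsAffineOpen T') (hT'T : T' ≤ g ⁻¹ᵁ T) :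
    IsAffineOpen (m ⁻¹ᵁ ((pullback.fst h g) ⁻¹ᵁ V ⊓ (pullback.snd h g) ⁻¹ᵁ T')) ∧
      ∀ b : Γ(pullback f g, r ⁻¹ᵁ (m ⁻¹ᵁ ((pullback.fst h g) ⁻¹ᵁ V ⊓ (pullback.snd h g) ⁻¹ᵁ T'))),
        ∃ (n : ℕ) (x : Fin n → Γ(X, q ⁻¹ᵁ V))
        (d : Fin n → Γ(pullback h g, (pullback.fst h g) ⁻¹ᵁ V ⊓ (pullback.snd h g) ⁻¹ᵁ T')),
        b = ∑ i,
          ((pullback.fst f g).appLE (q ⁻¹ᵁ V)
            (r ⁻¹ᵁ (m ⁻¹ᵁ ((pullback.fst h g) ⁻¹ᵁ V ⊓ (pullback.snd h g) ⁻¹ᵁ T')))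
            (H6xQuotRadicial2.preimage_le (pullback.fst f g) m (pullback.fst h g)
              (rm_fst f q h hq g r m hm) V _ inf_le_left)).hom (x i) *
            (r.app (m ⁻¹ᵁ ((pullback.fst h g) ⁻¹ᵁ V ⊓ (pullback.snd h g) ⁻¹ᵁ T'))).hom
              ((m.app ((pullback.fst h g) ⁻¹ᵁ V ⊓ (pullback.snd h g) ⁻¹ᵁ T')).hom (d i)) := by
  have := hquot.affine
  have hUX : IsAffineOpen (q ⁻¹ᵁ V) := hV.preimage q
  have hUSX : q ⁻¹ᵁ V ≤ f ⁻¹ᵁ T := by
    have h1 : q ⁻¹ᵁ V ≤ q ⁻¹ᵁ (h ⁻¹ᵁ T) := Scheme.Hom.preimage_mono _ hVT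
    have h2 : q ⁻¹ᵁ (h ⁻¹ᵁ T) = f ⁻¹ᵁ T := by rw [← Scheme.Hom.comp_preimage, hq]
    exact h2 ▸ h1
  have hUY := preimage_eq f q h hq g r m hm V T'
  have H := IsPullback.of_hasPullback f g
  have hUYaff : IsAffineOpen
      (r ⁻¹ᵁ (m ⁻¹ᵁ ((pullback.fst h g) ⁻¹ᵁ V ⊓ (pullback.snd h g) ⁻¹ᵁ T'))) := by
    have : IsAffine T.toScheme := hT
    have : IsAffine T'.toScheme := hT'
    have : IsAffine (q ⁻¹ᵁ V).toScheme := hUX
    exact .of_isIso (Scheme.Hom.isPullback_resLE H hT'T hUSX hUY).isoPullback.hom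
  refine ⟨isAffineOpen_of_isQuot hr _ hUYaff, ?_⟩
  have hpo := (isIso_pushoutSection_iff H hT'T hUSX hUY).mp
    (isIso_pushoutSection_of_isAffineOpen H hT'T hUSX hUY hT hT' hUX)
  intro b
  obtain ⟨n, x, d, hb⟩ := exists_sum_of_isPushout hpo b
  refine ⟨n, x, fun i => ((pullback.snd h g).appLE T' _ inf_le_right).hom (d i), ?_⟩
  rw [hb]
  refine Finset.sum_congr rfl fun i _ => ?_
  congr 1
  have h1 : (pullback.snd h g).appLE T'
      ((pullback.fst h g) ⁻¹ᵁ V ⊓ (pullback.snd h g) ⁻¹ᵁ T') inf_le_right ≫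
      m.app _ ≫ r.app _ = (pullback.snd f g).appLE T'
        (r ⁻¹ᵁ (m ⁻¹ᵁ ((pullback.fst h g) ⁻¹ᵁ V ⊓ (pullback.snd h g) ⁻¹ᵁ T')))
        (by rw [hUY]; exact inf_le_right) := by
    rw [Scheme.Hom.app_eq_appLE, Scheme.Hom.app_eq_appLE,
      Scheme.Hom.appLE_comp_appLE, Scheme.Hom.appLE_comp_appLE]
    exact appLE_congr_hom (rm_snd f q h hq g r m hm) _ _ _
  exact (congrArg (fun φ => φ.hom (d i)) h1).symm

include hquot hr hρ' hm in
theorem universallyInjective_m : UniversallyInjective m := by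
  apply H6xQuotRadicial2.universallyInjective_of_cover hquot hr (pullback.fst f g)
    (fun σ => (hρ' σ).1) m (pullback.fst h g) (rm_fst f q h hq g r m hm)
  intro y'
  obtain ⟨T, hT, hsT⟩ := exists_affine_nhd S ((pullback.fst h g ≫ h).base (m.base y'))
  obtain ⟨V, hV, hyV, hVT⟩ := exists_affine_nhd_le Y ((pullback.fst h g).base (m.base y'))
    (h ⁻¹ᵁ T) hsT
  have hs' : (pullback.snd h g).base (m.base y') ∈ g ⁻¹ᵁ T := by
    have h1 : (pullback.snd h g ≫ g).base (m.base y') ∈ T := by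
      rw [← pullback.condition]; exact hsT
    exact h1
  obtain ⟨T', hT', hyT', hT'T⟩ := exists_affine_nhd_le S' ((pullback.snd h g).base (m.base y'))
    (g ⁻¹ᵁ T) hs'
  obtain ⟨haff, hgen⟩ := cover_data ρ f q h hq hquot g ρ' r hr m hm T hT V hV hVT T' hT' hT'T
  exact ⟨V, (pullback.fst h g) ⁻¹ᵁ V ⊓ (pullback.snd h g) ⁻¹ᵁ T', inf_le_left, ⟨hyV, hyT'⟩,
    haff, hgen⟩

include hquot hr hm in
theorem isAffineHom_m : IsAffineHom m := by
  apply isAffineHom_of_forall_exists_isAffineOpen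
  intro z
  obtain ⟨T, hT, hsT⟩ := exists_affine_nhd S ((pullback.fst h g ≫ h).base z)
  obtain ⟨V, hV, hyV, hVT⟩ := exists_affine_nhd_le Y ((pullback.fst h g).base z)
    (h ⁻¹ᵁ T) hsT
  have hs' : (pullback.snd h g).base z ∈ g ⁻¹ᵁ T := by
    have h1 : (pullback.snd h g ≫ g).base z ∈ T := by
      rw [← pullback.condition]; exact hsT
    exact h1
  obtain ⟨T', hT', hyT', hT'T⟩ := exists_affine_nhd_le S' ((pullback.snd h g).base z)
    (g ⁻¹ᵁ T) hs'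
  obtain ⟨haff, -⟩ := cover_data ρ f q h hq hquot g ρ' r hr m hm T hT V hV hVT T' hT' hT'T
  refine ⟨(pullback.fst h g) ⁻¹ᵁ V ⊓ (pullback.snd h g) ⁻¹ᵁ T', ⟨hyV, hyT'⟩, ?_, haff⟩
  have : IsAffine T.toScheme := hT
  have : IsAffine T'.toScheme := hT'
  have : IsAffine V.toScheme := hV
  exact .of_isIso (Scheme.Hom.isPullback_resLE (IsPullback.of_hasPullback h g) hT'T hVT
    rfl).isoPullback.hom

include hquot hr hρ' hm in
theorem main : FlatMor.IsUnivHomeo m := by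
  have hqint : IsIntegralHom q := H6xQuotClosedSub.isIntegralHom_of_isQuot hquot
  have hqsurj : Surjective q := H6xQuotClosedSub.surjective_of_isQuot' hquot
  have hrsurj : Surjective r := H6xQuotClosedSub.surjective_of_isQuot' hr
  have hint' : IsIntegralHom (r ≫ m) := by
    rw [hm]
    exact MorphismProperty.pullbackMap (P := @IsIntegralHom) hqint
      (inferInstanceAs (IsIntegralHom (𝟙 S'))) hq.symm (Category.id_comp g).symm
  have hsurj' : Surjective (r ≫ m) := by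
    rw [hm]
    exact MorphismProperty.pullbackMap (P := @Surjective) hqsurj
      (inferInstanceAs (Surjective (𝟙 S'))) hq.symm (Category.id_comp g).symm
  have haff := isAffineHom_m ρ f q h hq hquot g ρ' r hr m hm
  have hinj := universallyInjective_m ρ f q h hq hquot g ρ' hρ' r hr m hm
  have hsurj : Surjective m := Surjective.of_comp r m
  have hcl : UniversallyClosed m := UniversallyClosed.of_comp_surjective r m
  exact (Groth.Agent.S0415.result m).mpr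
    ⟨IsIntegralHom.iff_universallyClosed_and_isAffineHom.mpr ⟨hcl, haff⟩, hinj, hsurj⟩

end main

end Groth.Agent.Lib.H6xQuotBaseChange
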