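import Groth.Agent.Lib.H6xQuotClosedSub

set_option autoImplicit false
universe u

open CategoryTheory AlgebraicGeometry SGA1 Groth.Agent.Lib.Helper20

namespace Groth.Agent.Lib.H6xQuotImm

open Groth.Agent.Lib.H6xQuotRadicial Groth.Agent.Lib.H6xQuotClosedSub

section cover

variable {X Y Z W : Scheme.{u}} {G : Type u} [Group G] [Finite G]
  {ρ : G →* Aut X} {q : X ⟶ Y} (hq : IsQuot ρ q)
  {ρZ : G →* Aut Z} {r : Z ⟶ W} (hr : IsQuot ρZ r)
  (i : Z ⟶ X) (hi : ∀ σ : G, (ρZ σ).hom ≫ i = i ≫ (ρ σ).hom)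
  (m : W ⟶ Y) (hm : r ≫ m = i ≫ q)

include hq hr hi hm in
/-- variant of `universallyInjective_of_cover` asking for neighbourhoods of the points of the
image of `m` only. -/
theorem universallyInjective_of_cover'
    (H : ∀ w : W, ∃ V : Y.Opens, m.base w ∈ V ∧ IsAffineOpen (m ⁻¹ᵁ V) ∧
      Function.Surjective (i.appLE (q ⁻¹ᵁ V) (r ⁻¹ᵁ (m ⁻¹ᵁ V)) (preimage_le i m hm V)).hom) :
    UniversallyInjective m := by
  refine ((tfae_universallyInjective m).out 0 1).mpr ?_
  intro K _ g₁ g₂ hg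
  let t₀ : Spec (CommRingCat.of K) := IsLocalRing.closedPoint K
  obtain ⟨V, hyV, hV, hsurj⟩ := H (g₁.base t₀)
  exact point_ext hq hr i hi m hm V hV hsurj g₁ g₂ hg t₀ hyV

end cover

section imm

variable {X W : Scheme.{u}} (j : W ⟶ X) [IsImmersion j]

theorem appLE_surjective_of_app {A B : Scheme.{u}} (f : A ⟶ B) (V : B.Opens) (T : A.Opens)
    (e : T ≤ f ⁻¹ᵁ V) (e' : f ⁻¹ᵁ V ≤ T) (h : Function.Surjective (f.app V).hom) :
    Function.Surjective (f.appLE V T e).hom := by
  obtain rfl : T = f ⁻¹ᵁ V := le_antisymm e e'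
  rw [Scheme.Hom.appLE_eq_app]
  exact h

/-- over an affine open contained in the coborder of the range, an immersion behaves as a closed
immersion. -/
theorem affine_and_surjective_of_le_coborder (T : X.Opens) (hT : IsAffineOpen T)
    (hTC : T ≤ j.coborderRange) :
    IsAffineOpen (j ⁻¹ᵁ T) ∧ Function.Surjective (j.app T).hom := by
  let U' : j.coborderRange.toScheme.Opens := j.coborderRange.ι ⁻¹ᵁ T
  have hU' : j.coborderRange.ι ''ᵁ U' = T := by
    rw [Scheme.Hom.image_preimage_eq_opensRange_inf, Scheme.Opens.opensRange_ι]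
    exact inf_eq_right.mpr hTC
  have hU'aff : IsAffineOpen U' := hT.preimage_of_isOpenImmersion _ (by
    rw [Scheme.Opens.opensRange_ι]; exact hTC)
  rw [← hU']
  constructor
  · rw [← j.liftCoborder_preimage U']
    exact hU'aff.preimage j.liftCoborder
  · have h1 := Scheme.Hom.app_surjective j.liftCoborder U' hU'aff
    have h2 := liftCoborder_app j U'
    have h3 := (ConcreteCategory.bijective_of_isIso
        (W.presheaf.map (eqToHom (j.liftCoborder_preimage U')).op)).injective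
    intro y
    obtain ⟨x, hx⟩ := h1 ((W.presheaf.map (eqToHom (j.liftCoborder_preimage U')).op).hom y)
    refine ⟨x, ?_⟩
    apply h3
    have h4 := congrArg (fun f => f.hom x) h2
    exact h4.symm.trans hx

end imm

section main

variable {G : Type u} [Group G] [Finite G] {X XG W WG : Scheme.{u}}

theorem main (ρ : G →* Aut X) (p : X ⟶ XG) (hP : SGA1.IsQuot ρ p) (j : W ⟶ X) [IsImmersion j]
    (ρW : G →* Aut W) (hρW : ∀ g, (ρW g).hom ≫ j = j ≫ (ρ g).hom) (pW : W ⟶ WG)
    (hPW : SGA1.IsQuot ρW pW) (φ : WG ⟶ XG) (hφ : pW ≫ φ = j ≫ p) :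
    UniversallyInjective φ ∧ Set.range φ.base = p.base '' Set.range j.base := by
  have hpaff := hP.affine
  have hpWs : Function.Surjective pW.base := surjective_of_isQuot hPW
  constructor
  · apply universallyInjective_of_cover' hP hPW j hρW φ hφ
    intro w
    -- the closed set to avoid
    have hcl : IsClosed (p.base '' ((j.coborderRange : Set X)ᶜ)) :=
      isClosedMap_of_isQuot hP _ j.coborderRange.2.isClosed_compl
    have hnot : φ.base w ∉ p.base '' ((j.coborderRange : Set X)ᶜ) := by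
      rintro ⟨x, hxE, hx⟩
      obtain ⟨w', rfl⟩ := hpWs w
      have h1 : p.base (j.base w') = p.base x := by
        rw [hx]
        exact (congrArg (fun f : W ⟶ XG => f.base w') hφ).symm
      obtain ⟨g, hg⟩ := (fibre_iff_orbit hP _ _).mp h1
      have h2 : x ∈ Set.range j.base := by
        refine ⟨(ρW g).hom.base w', ?_⟩
        rw [← hg]
        exact congrArg (fun f : W ⟶ X => f.base w') (hρW g)
      exact hxE (subset_coborder h2)
    obtain ⟨V, hV, hwV, hVsub⟩ := TopologicalSpace.Opens.isBasis_iff_nbhd.mp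
      (XG.isBasis_affineOpens) (U := ⟨_, hcl.isOpen_compl⟩) hnot
    have hVaff : IsAffineOpen V := hV
    have hTC : p ⁻¹ᵁ V ≤ j.coborderRange := by
      intro x hx
      by_contra hxC
      exact hVsub hx ⟨x, hxC, rfl⟩
    obtain ⟨h1, h2⟩ := affine_and_surjective_of_le_coborder j (p ⁻¹ᵁ V) (hVaff.preimage p) hTC
    refine ⟨V, hwV, ?_, ?_⟩
    · apply isAffineOpen_of_isQuot hPW
      have h3 : pW ⁻¹ᵁ (φ ⁻¹ᵁ V) = j ⁻¹ᵁ (p ⁻¹ᵁ V) :=
        le_antisymm (preimage_le j φ hφ V) (le_preimage j φ hφ V)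
      rw [h3]
      exact h1
    · exact appLE_surjective_of_app j _ _ _ (le_preimage j φ hφ V) h2
  · ext y
    constructor
    · rintro ⟨w, rfl⟩
      obtain ⟨w', rfl⟩ := hpWs w
      refine ⟨j.base w', ⟨w', rfl⟩, ?_⟩
      exact (congrArg (fun f : W ⟶ XG => f.base w') hφ).symm
    · rintro ⟨_, ⟨w', rfl⟩, rfl⟩
      exact ⟨pW.base w', congrArg (fun f : W ⟶ XG => f.base w') hφ⟩

end main

end Groth.Agent.Lib.H6xQuotImm
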