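import Groth.Agent.Lib.H6xQuotRadicialAlg
import Groth.Agent.Lib.Helper20QuotRestrict
import Groth.Agent.Lib.Helper20QuotCat
import Groth.Agent.S0415

set_option autoImplicit false
universe u

open CategoryTheory AlgebraicGeometry SGA1 Groth.Agent.Lib.Helper20

namespace Groth.Agent.Lib.H6xQuotRadicial

section core

variable {X Y Z W : Scheme.{u}} {G : Type u} [Group G] [Finite G]
  {ρ : G →* Aut X} {q : X ⟶ Y} (hq : IsQuot ρ q)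
  {ρZ : G →* Aut Z} {r : Z ⟶ W} (hr : IsQuot ρZ r)
  (i : Z ⟶ X) (hi : ∀ σ : G, (ρZ σ).hom ≫ i = i ≫ (ρ σ).hom)
  (m : W ⟶ Y) (hm : r ≫ m = i ≫ q)

include hm in
theorem preimage_le (V : Y.Opens) : r ⁻¹ᵁ (m ⁻¹ᵁ V) ≤ i ⁻¹ᵁ (q ⁻¹ᵁ V) := by
  rw [← Scheme.Hom.comp_preimage, ← Scheme.Hom.comp_preimage, hm]

include hm in
theorem le_preimage (V : Y.Opens) : i ⁻¹ᵁ (q ⁻¹ᵁ V) ≤ r ⁻¹ᵁ (m ⁻¹ᵁ V) := by
  rw [← Scheme.Hom.comp_preimage, ← Scheme.Hom.comp_preimage, hm]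

include hq hr hi hm in
/-- ring-level statement: characters of `Γ(W, m⁻¹V)` are determined by their restriction to
`Γ(Y, V)`. -/
theorem char_ext (V : Y.Opens)
    (hsurj : Function.Surjective
      (i.appLE (q ⁻¹ᵁ V) (r ⁻¹ᵁ (m ⁻¹ᵁ V)) (preimage_le i m hm V)).hom)
    {K : Type u} [Field K] (χ₁ χ₂ : Γ(W, m ⁻¹ᵁ V) →+* K)
    (hχ : χ₁.comp (m.app V).hom = χ₂.comp (m.app V).hom) : χ₁ = χ₂ := by
  cases nonempty_fintype G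
  letI := (q.app V).hom.toAlgebra
  letI := sectionAction ρ q hq.inv V
  letI := sectionAction ρZ r hr.inv (m ⁻¹ᵁ V)
  have hI := isInvariant hq V
  refine H6xQuotRadicialAlg.radicial (G := G) (A0 := Γ(Y, V)) (A := Γ(X, q ⁻¹ᵁ V))
    (B := Γ(Z, r ⁻¹ᵁ (m ⁻¹ᵁ V))) (E := Γ(W, m ⁻¹ᵁ V)) (D := Γ(Y, V))
    (fun b hb => hI.isInvariant b hb)
    (i.appLE (q ⁻¹ᵁ V) (r ⁻¹ᵁ (m ⁻¹ᵁ V)) (preimage_le i m hm V)).hom ?_
    (r.app (m ⁻¹ᵁ V)).hom ?_ (RingHom.id _) (m.app V).hom ?_ (hr.injective _) ?_ χ₁ χ₂ hχ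
  · -- equivariance
    intro g x
    rw [sectionAction_smul, sectionAction_smul]
    unfold actHom
    have h1 : (ρ g⁻¹).hom.appLE (q ⁻¹ᵁ V) (q ⁻¹ᵁ V) (preimage_le_of_inv ρ q hq.inv g⁻¹ V) ≫
        i.appLE (q ⁻¹ᵁ V) (r ⁻¹ᵁ (m ⁻¹ᵁ V)) (preimage_le i m hm V) =
        i.appLE (q ⁻¹ᵁ V) (r ⁻¹ᵁ (m ⁻¹ᵁ V)) (preimage_le i m hm V) ≫
          (ρZ g⁻¹).hom.appLE (r ⁻¹ᵁ (m ⁻¹ᵁ V)) (r ⁻¹ᵁ (m ⁻¹ᵁ V))
            (preimage_le_of_inv ρZ r hr.inv g⁻¹ (m ⁻¹ᵁ V)) := by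
      rw [Scheme.Hom.appLE_comp_appLE, Scheme.Hom.appLE_comp_appLE]
      exact (appLE_congr_hom (hi g⁻¹) _ _ _).symm
    exact congrArg (fun f => f.hom x) h1
  · -- invariance of the range
    intro g c
    have h : (r.app (m ⁻¹ᵁ V)).hom c ∈ Set.range (r.app (m ⁻¹ᵁ V)).hom := ⟨c, rfl⟩
    rw [hr.range_iff] at h
    exact h g⁻¹
  · -- compatibility
    intro x
    have h1 : m.app V ≫ r.app (m ⁻¹ᵁ V) =
        q.app V ≫ i.appLE (q ⁻¹ᵁ V) (r ⁻¹ᵁ (m ⁻¹ᵁ V)) (preimage_le i m hm V) := by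
      rw [Scheme.Hom.app_eq_appLE, Scheme.Hom.app_eq_appLE, Scheme.Hom.app_eq_appLE,
        Scheme.Hom.appLE_comp_appLE, Scheme.Hom.appLE_comp_appLE]
      exact appLE_congr_hom hm _ _ _
    exact congrArg (fun f => f.hom x) h1
  · -- generation
    intro c
    obtain ⟨x, hx⟩ := hsurj ((r.app (m ⁻¹ᵁ V)).hom c)
    refine ⟨1, fun _ => x, fun _ => 1, ?_⟩
    simp only [Finset.univ_unique, Finset.sum_singleton, map_one, mul_one]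
    exact hx.symm

/-- two morphisms into `W` landing in an affine open and inducing the same map on its sections
are equal. -/
theorem eq_of_appLE_eq {T W : Scheme.{u}} (g₁ g₂ : T ⟶ W) (U : W.Opens) (hU : IsAffineOpen U)
    (e₁ : (⊤ : T.Opens) ≤ g₁ ⁻¹ᵁ U) (e₂ : (⊤ : T.Opens) ≤ g₂ ⁻¹ᵁ U)
    (h : g₁.appLE U ⊤ e₁ = g₂.appLE U ⊤ e₂) : g₁ = g₂ := by
  have h1 := ι_comp_eq_of_affine g₁ hU ⊤ e₁
  have h2 := ι_comp_eq_of_affine g₂ hU ⊤ e₂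
  rw [h] at h1
  have h3 : (⊤ : T.Opens).ι ≫ g₁ = (⊤ : T.Opens).ι ≫ g₂ := h1.trans h2.symm
  have : IsIso (⊤ : T.Opens).ι := inferInstanceAs (IsIso T.topIso.hom)
  exact (cancel_epi _).mp h3

include hq hr hi hm in
theorem point_ext (V : Y.Opens) (hV : IsAffineOpen (m ⁻¹ᵁ V))
    (hsurj : Function.Surjective
      (i.appLE (q ⁻¹ᵁ V) (r ⁻¹ᵁ (m ⁻¹ᵁ V)) (preimage_le i m hm V)).hom)
    {K : Type u} [Field K] (g₁ g₂ : Spec (CommRingCat.of K) ⟶ W) (hg : g₁ ≫ m = g₂ ≫ m)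
    (t₀ : Spec (CommRingCat.of K)) (ht₀ : (g₁ ≫ m).base t₀ ∈ V) : g₁ = g₂ := by
  have hsub : ∀ t : Spec (CommRingCat.of K), t = t₀ := fun t => Subsingleton.elim _ _
  have e₁ : (⊤ : (Spec (CommRingCat.of K)).Opens) ≤ g₁ ⁻¹ᵁ (m ⁻¹ᵁ V) := by
    intro t _
    rw [hsub t]
    exact ht₀
  have e₂ : (⊤ : (Spec (CommRingCat.of K)).Opens) ≤ g₂ ⁻¹ᵁ (m ⁻¹ᵁ V) := by
    intro t _
    rw [hsub t]
    have : (g₂ ≫ m).base t₀ ∈ V := by rw [← hg]; exact ht₀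
    exact this
  apply eq_of_appLE_eq g₁ g₂ (m ⁻¹ᵁ V) hV e₁ e₂
  let ε : Γ(Spec (CommRingCat.of K), ⊤) ≃+* K :=
    (Scheme.ΓSpecIso (CommRingCat.of K)).commRingCatIsoToRingEquiv
  have key := char_ext hq hr i hi m hm V hsurj
    (ε.toRingHom.comp (g₁.appLE (m ⁻¹ᵁ V) ⊤ e₁).hom)
    (ε.toRingHom.comp (g₂.appLE (m ⁻¹ᵁ V) ⊤ e₂).hom) ?_
  · apply CommRingCat.hom_ext
    ext x
    have := congrArg (fun f => ε.symm (f x)) key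
    simpa using this
  · rw [RingHom.comp_assoc, RingHom.comp_assoc]
    congr 1
    have h1 : m.app V ≫ g₁.appLE (m ⁻¹ᵁ V) ⊤ e₁ = m.app V ≫ g₂.appLE (m ⁻¹ᵁ V) ⊤ e₂ := by
      rw [Scheme.Hom.app_eq_appLE, Scheme.Hom.appLE_comp_appLE, Scheme.Hom.appLE_comp_appLE]
      exact appLE_congr_hom hg _ _ _
    exact congrArg CommRingCat.Hom.hom h1

include hq hr hi hm in
/-- `m` is universally injective as soon as `Y` is covered by opens `V` with `m⁻¹V` affine and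
`Γ(X, q⁻¹V) → Γ(Z, r⁻¹m⁻¹V)` surjective. -/
theorem universallyInjective_of_cover
    (H : ∀ y : Y, ∃ V : Y.Opens, y ∈ V ∧ IsAffineOpen (m ⁻¹ᵁ V) ∧
      Function.Surjective (i.appLE (q ⁻¹ᵁ V) (r ⁻¹ᵁ (m ⁻¹ᵁ V)) (preimage_le i m hm V)).hom) :
    UniversallyInjective m := by
  refine ((tfae_universallyInjective m).out 0 1).mpr ?_
  intro K _ g₁ g₂ hg
  let t₀ : Spec (CommRingCat.of K) := IsLocalRing.closedPoint K
  obtain ⟨V, hyV, hV, hsurj⟩ := H ((g₁ ≫ m).base t₀)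
  exact point_ext hq hr i hi m hm V hV hsurj g₁ g₂ hg t₀ hyV

end core

end Groth.Agent.Lib.H6xQuotRadicial
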