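import Groth.Agent.Lib.H6xQuotRadicial

set_option autoImplicit false
universe u

open CategoryTheory AlgebraicGeometry SGA1 Groth.Agent.Lib.Helper20

namespace Groth.Agent.Lib.H6xQuotRadicial2

open Groth.Agent.Lib.H6xQuotRadicial

section core

variable {X Y X' Y' Y₁ : Scheme.{u}} {G : Type u} [Group G] [Finite G]
  {ρ : G →* Aut X} {q : X ⟶ Y} (hq : IsQuot ρ q)
  {ρ' : G →* Aut X'} {r : X' ⟶ Y'} (hr : IsQuot ρ' r)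
  (π : X' ⟶ X) (hπ : ∀ σ : G, (ρ' σ).hom ≫ π = π ≫ (ρ σ).hom)
  (m : Y' ⟶ Y₁) (ψ : Y₁ ⟶ Y) (hm : r ≫ m ≫ ψ = π ≫ q)

include hm in
theorem preimage_le (V : Y.Opens) (Wo : Y₁.Opens) (hWo : Wo ≤ ψ ⁻¹ᵁ V) :
    r ⁻¹ᵁ (m ⁻¹ᵁ Wo) ≤ π ⁻¹ᵁ (q ⁻¹ᵁ V) := by
  have h1 : r ⁻¹ᵁ (m ⁻¹ᵁ Wo) ≤ r ⁻¹ᵁ (m ⁻¹ᵁ (ψ ⁻¹ᵁ V)) :=
    Scheme.Hom.preimage_mono _ (Scheme.Hom.preimage_mono _ hWo)
  refine h1.trans ?_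
  rw [← Scheme.Hom.comp_preimage, ← Scheme.Hom.comp_preimage, ← Scheme.Hom.comp_preimage,
    Category.assoc, hm]

include hq hr hπ hm in
theorem char_ext (V : Y.Opens) (Wo : Y₁.Opens) (hWo : Wo ≤ ψ ⁻¹ᵁ V)
    (hgen : ∀ b : Γ(X', r ⁻¹ᵁ (m ⁻¹ᵁ Wo)), ∃ (n : ℕ) (x : Fin n → Γ(X, q ⁻¹ᵁ V))
      (d : Fin n → Γ(Y₁, Wo)), b = ∑ i,
        (π.appLE (q ⁻¹ᵁ V) (r ⁻¹ᵁ (m ⁻¹ᵁ Wo)) (preimage_le π m ψ hm V Wo hWo)).hom (x i) *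
          (r.app (m ⁻¹ᵁ Wo)).hom ((m.app Wo).hom (d i)))
    {K : Type u} [Field K] (χ₁ χ₂ : Γ(Y', m ⁻¹ᵁ Wo) →+* K)
    (hχ : χ₁.comp (m.app Wo).hom = χ₂.comp (m.app Wo).hom) : χ₁ = χ₂ := by
  cases nonempty_fintype G
  letI := (q.app V).hom.toAlgebra
  letI := sectionAction ρ q hq.inv V
  letI := sectionAction ρ' r hr.inv (m ⁻¹ᵁ Wo)
  have hI := isInvariant hq V
  refine H6xQuotRadicialAlg.radicial (G := G) (A0 := Γ(Y, V)) (A := Γ(X, q ⁻¹ᵁ V))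
    (B := Γ(X', r ⁻¹ᵁ (m ⁻¹ᵁ Wo))) (E := Γ(Y', m ⁻¹ᵁ Wo)) (D := Γ(Y₁, Wo))
    (fun b hb => hI.isInvariant b hb)
    (π.appLE (q ⁻¹ᵁ V) (r ⁻¹ᵁ (m ⁻¹ᵁ Wo)) (preimage_le π m ψ hm V Wo hWo)).hom ?_
    (r.app (m ⁻¹ᵁ Wo)).hom ?_ (ψ.appLE V Wo hWo).hom (m.app Wo).hom ?_ (hr.injective _)
    (fun c => hgen _) χ₁ χ₂ hχ
  · -- equivariance
    intro g x
    rw [sectionAction_smul, sectionAction_smul]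
    unfold actHom
    have h1 : (ρ g⁻¹).hom.appLE (q ⁻¹ᵁ V) (q ⁻¹ᵁ V) (preimage_le_of_inv ρ q hq.inv g⁻¹ V) ≫
        π.appLE (q ⁻¹ᵁ V) (r ⁻¹ᵁ (m ⁻¹ᵁ Wo)) (preimage_le π m ψ hm V Wo hWo) =
        π.appLE (q ⁻¹ᵁ V) (r ⁻¹ᵁ (m ⁻¹ᵁ Wo)) (preimage_le π m ψ hm V Wo hWo) ≫
          (ρ' g⁻¹).hom.appLE (r ⁻¹ᵁ (m ⁻¹ᵁ Wo)) (r ⁻¹ᵁ (m ⁻¹ᵁ Wo))
            (preimage_le_of_inv ρ' r hr.inv g⁻¹ (m ⁻¹ᵁ Wo)) := by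
      rw [Scheme.Hom.appLE_comp_appLE, Scheme.Hom.appLE_comp_appLE]
      exact (appLE_congr_hom (hπ g⁻¹) _ _ _).symm
    exact congrArg (fun f => f.hom x) h1
  · -- invariance of the range
    intro g c
    have h : (r.app (m ⁻¹ᵁ Wo)).hom c ∈ Set.range (r.app (m ⁻¹ᵁ Wo)).hom := ⟨c, rfl⟩
    rw [hr.range_iff] at h
    exact h g⁻¹
  · -- compatibility
    intro x
    have h1 : ψ.appLE V Wo hWo ≫ m.app Wo ≫ r.app (m ⁻¹ᵁ Wo) =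
        q.app V ≫ π.appLE (q ⁻¹ᵁ V) (r ⁻¹ᵁ (m ⁻¹ᵁ Wo)) (preimage_le π m ψ hm V Wo hWo) := by
      rw [Scheme.Hom.app_eq_appLE, Scheme.Hom.app_eq_appLE, Scheme.Hom.app_eq_appLE,
        Scheme.Hom.appLE_comp_appLE, Scheme.Hom.appLE_comp_appLE, Scheme.Hom.appLE_comp_appLE]
      exact appLE_congr_hom hm _ _ _
    exact congrArg (fun f => f.hom x) h1

include hq hr hπ hm in
theorem point_ext (V : Y.Opens) (Wo : Y₁.Opens) (hWo : Wo ≤ ψ ⁻¹ᵁ V)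
    (hWaff : IsAffineOpen (m ⁻¹ᵁ Wo))
    (hgen : ∀ b : Γ(X', r ⁻¹ᵁ (m ⁻¹ᵁ Wo)), ∃ (n : ℕ) (x : Fin n → Γ(X, q ⁻¹ᵁ V))
      (d : Fin n → Γ(Y₁, Wo)), b = ∑ i,
        (π.appLE (q ⁻¹ᵁ V) (r ⁻¹ᵁ (m ⁻¹ᵁ Wo)) (preimage_le π m ψ hm V Wo hWo)).hom (x i) *
          (r.app (m ⁻¹ᵁ Wo)).hom ((m.app Wo).hom (d i)))
    {K : Type u} [Field K] (g₁ g₂ : Spec (CommRingCat.of K) ⟶ Y') (hg : g₁ ≫ m = g₂ ≫ m)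
    (t₀ : Spec (CommRingCat.of K)) (ht₀ : (g₁ ≫ m).base t₀ ∈ Wo) : g₁ = g₂ := by
  have hsub : ∀ t : Spec (CommRingCat.of K), t = t₀ := fun t => Subsingleton.elim _ _
  have e₁ : (⊤ : (Spec (CommRingCat.of K)).Opens) ≤ g₁ ⁻¹ᵁ (m ⁻¹ᵁ Wo) := by
    intro t _
    rw [hsub t]
    exact ht₀
  have e₂ : (⊤ : (Spec (CommRingCat.of K)).Opens) ≤ g₂ ⁻¹ᵁ (m ⁻¹ᵁ Wo) := by
    intro t _
    rw [hsub t]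
    have : (g₂ ≫ m).base t₀ ∈ Wo := by rw [← hg]; exact ht₀
    exact this
  apply eq_of_appLE_eq g₁ g₂ (m ⁻¹ᵁ Wo) hWaff e₁ e₂
  let ε : Γ(Spec (CommRingCat.of K), ⊤) ≃+* K :=
    (Scheme.ΓSpecIso (CommRingCat.of K)).commRingCatIsoToRingEquiv
  have key := char_ext hq hr π hπ m ψ hm V Wo hWo hgen
    (ε.toRingHom.comp (g₁.appLE (m ⁻¹ᵁ Wo) ⊤ e₁).hom)
    (ε.toRingHom.comp (g₂.appLE (m ⁻¹ᵁ Wo) ⊤ e₂).hom) ?_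
  · apply CommRingCat.hom_ext
    ext x
    have := congrArg (fun f => ε.symm (f x)) key
    simpa using this
  · rw [RingHom.comp_assoc, RingHom.comp_assoc]
    congr 1
    have h1 : m.app Wo ≫ g₁.appLE (m ⁻¹ᵁ Wo) ⊤ e₁ = m.app Wo ≫ g₂.appLE (m ⁻¹ᵁ Wo) ⊤ e₂ := by
      rw [Scheme.Hom.app_eq_appLE, Scheme.Hom.appLE_comp_appLE, Scheme.Hom.appLE_comp_appLE]
      exact appLE_congr_hom hg _ _ _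
    exact congrArg CommRingCat.Hom.hom h1

include hq hr hπ hm in
theorem universallyInjective_of_cover
    (H : ∀ y' : Y', ∃ (V : Y.Opens) (Wo : Y₁.Opens) (hWo : Wo ≤ ψ ⁻¹ᵁ V), m.base y' ∈ Wo ∧
      IsAffineOpen (m ⁻¹ᵁ Wo) ∧
      ∀ b : Γ(X', r ⁻¹ᵁ (m ⁻¹ᵁ Wo)), ∃ (n : ℕ) (x : Fin n → Γ(X, q ⁻¹ᵁ V))
        (d : Fin n → Γ(Y₁, Wo)), b = ∑ i,
          (π.appLE (q ⁻¹ᵁ V) (r ⁻¹ᵁ (m ⁻¹ᵁ Wo)) (preimage_le π m ψ hm V Wo hWo)).hom (x i) *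
            (r.app (m ⁻¹ᵁ Wo)).hom ((m.app Wo).hom (d i))) :
    UniversallyInjective m := by
  refine ((tfae_universallyInjective m).out 0 1).mpr ?_
  intro K _ g₁ g₂ hg
  let t₀ : Spec (CommRingCat.of K) := IsLocalRing.closedPoint K
  obtain ⟨V, Wo, hWo, hyW, hWaff, hgen⟩ := H (g₁.base t₀)
  exact point_ext hq hr π hπ m ψ hm V Wo hWo hWaff hgen g₁ g₂ hg t₀ hyW

end core

end Groth.Agent.Lib.H6xQuotRadicial2
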