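import Mathlib

set_option autoImplicit false

open Polynomial

namespace Groth.Agent.Lib.H6xQuotRadicialAlg

theorem eq_of_X_sub_C_pow_eq {K : Type*} [Field K] {x y : K} {n : ℕ}
    (h : (X - C x) ^ n = (X - C y) ^ n) (hn : n ≠ 0) : x = y := by
  have h1 := congrArg (Polynomial.eval x) h
  simp only [eval_pow, eval_sub, eval_X, eval_C, sub_self] at h1
  rw [zero_pow hn] at h1
  exact sub_eq_zero.mp (pow_eq_zero_iff hn |>.mp h1.symm)

section norm

variable {A0 A B E D : Type*} [CommRing A0] [CommRing A] [CommRing B] [CommRing E] [CommRing D]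
  {G : Type*} [Group G] [Algebra A0 A] [MulSemiringAction G A] [MulSemiringAction G B]
  (hinv : ∀ b : A, (∀ g : G, g • b = b) → b ∈ Set.range (algebraMap A0 A))
  (a : A →+* B) (ha : ∀ (g : G) (x : A), a (g • x) = g • a x)
  (γ : E →+* B) (hγG : ∀ (g : G) (c : E), g • γ c = γ c)
  (κ : A0 →+* D) (μ : D →+* E) (hcomm : ∀ x : A0, γ (μ (κ x)) = a (algebraMap A0 A x))

/-- the linear form `∑ (σ • x i) X_i`. -/
noncomputable def lin {n : ℕ} (x : Fin n → A) (σ : G) : MvPolynomial (Fin n) A :=
  ∑ i, MvPolynomial.C (σ • x i) * MvPolynomial.X i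

theorem map_lin {n : ℕ} (x : Fin n → A) (σ τ : G) :
    MvPolynomial.map (MulSemiringAction.toRingHom G A τ) (lin x σ) = lin x (τ * σ) := by
  unfold lin
  rw [map_sum]
  refine Finset.sum_congr rfl fun i _ => ?_
  rw [map_mul, MvPolynomial.map_C, MvPolynomial.map_X, MulSemiringAction.toRingHom_apply, mul_smul]

variable [Fintype G]

/-- the norm polynomial `∏_σ (T - ∑ (σ • x i) X_i)`. -/
noncomputable def normPoly {n : ℕ} (x : Fin n → A) : (MvPolynomial (Fin n) A)[X] :=
  ∏ σ : G, (X - C (lin x σ))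

theorem map_normPoly {n : ℕ} (x : Fin n → A) (τ : G) :
    (normPoly (G := G) x).map (MvPolynomial.map (MulSemiringAction.toRingHom G A τ)) =
      normPoly (G := G) x := by
  unfold normPoly
  rw [Polynomial.map_prod]
  have : ∀ σ : G, (X - C (lin x σ)).map (MvPolynomial.map (MulSemiringAction.toRingHom G A τ)) =
      X - C (lin x (τ * σ)) := by
    intro σ
    rw [Polynomial.map_sub, Polynomial.map_X, Polynomial.map_C, map_lin]
  simp only [this]
  exact Fintype.prod_equiv (Equiv.mulLeft τ) _ _ fun σ => rfl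

include hinv in
theorem normPoly_mem_lifts {n : ℕ} (x : Fin n → A) :
    normPoly (G := G) x ∈ Polynomial.lifts (MvPolynomial.map (σ := Fin n) (algebraMap A0 A)) := by
  rw [Polynomial.lifts_iff_coeff_lifts]
  intro k
  have : (normPoly (G := G) x).coeff k ∈
      Set.range (MvPolynomial.map (σ := Fin n) (algebraMap A0 A)) := by
    rw [MvPolynomial.mem_range_map_iff_coeffs_subset]
    intro y hy
    obtain ⟨m, -, rfl⟩ := MvPolynomial.mem_coeffs_iff.mp hy
    apply hinv
    intro τ
    have h1 := congrArg (fun p => (Polynomial.coeff p k).coeff m) (map_normPoly (G := G) x τ)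
    simp only [Polynomial.coeff_map, MvPolynomial.coeff_map,
      MulSemiringAction.toRingHom_apply] at h1
    exact h1
  exact this

include hinv ha hγG hcomm in
theorem exists_poly {n : ℕ} (x : Fin n → A) (d : Fin n → D)
    (hb : ∀ g : G, g • (∑ i, a (x i) * γ (μ (d i))) = ∑ i, a (x i) * γ (μ (d i))) :
    ∃ P : D[X], (P.map μ).map γ =
      (X - C (∑ i, a (x i) * γ (μ (d i)))) ^ Fintype.card G := by
  obtain ⟨F₀, hF₀⟩ := (Polynomial.mem_lifts _).mp (normPoly_mem_lifts (G := G) hinv x)
  let evD : MvPolynomial (Fin n) A0 →+* D := MvPolynomial.eval₂Hom κ d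
  let evB : MvPolynomial (Fin n) A →+* B := MvPolynomial.eval₂Hom a (fun i => γ (μ (d i)))
  have hcompat : (γ.comp μ).comp evD = evB.comp (MvPolynomial.map (algebraMap A0 A)) := by
    apply MvPolynomial.ringHom_ext
    · intro r
      simp only [RingHom.comp_apply, evD, evB, MvPolynomial.coe_eval₂Hom, MvPolynomial.eval₂_C,
        MvPolynomial.map_C]
      exact hcomm r
    · intro i
      simp only [RingHom.comp_apply, evD, evB, MvPolynomial.coe_eval₂Hom, MvPolynomial.eval₂_X,
        MvPolynomial.map_X]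
  have hlin : ∀ σ : G, evB (lin x σ) = ∑ i, a (x i) * γ (μ (d i)) := by
    intro σ
    unfold lin
    rw [map_sum, ← hb σ, Finset.smul_sum]
    refine Finset.sum_congr rfl fun i _ => ?_
    rw [map_mul]
    simp only [evB, MvPolynomial.coe_eval₂Hom, MvPolynomial.eval₂_C, MvPolynomial.eval₂_X]
    rw [smul_mul', ha, hγG]
  refine ⟨F₀.map evD, ?_⟩
  rw [Polynomial.map_map, Polynomial.map_map, hcompat, ← Polynomial.map_map, hF₀]
  unfold normPoly
  rw [Polynomial.map_prod]
  simp only [Polynomial.map_sub, Polynomial.map_X, Polynomial.map_C, hlin]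
  rw [Finset.prod_const, Finset.card_univ]

include hinv ha hγG hcomm in
/-- the abstract radicial lemma. -/
theorem radicial {K : Type*} [Field K] (hγ : Function.Injective γ)
    (hgen : ∀ c : E, ∃ (n : ℕ) (x : Fin n → A) (d : Fin n → D),
      γ c = ∑ i, a (x i) * γ (μ (d i)))
    (χ₁ χ₂ : E →+* K) (hχ : χ₁.comp μ = χ₂.comp μ) : χ₁ = χ₂ := by
  ext c
  obtain ⟨n, x, d, hc⟩ := hgen c
  have hb : ∀ g : G, g • (∑ i, a (x i) * γ (μ (d i))) = ∑ i, a (x i) * γ (μ (d i)) := by
    intro g; rw [← hc, hγG]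
  obtain ⟨P, hP⟩ := exists_poly (G := G) hinv a ha γ hγG κ μ hcomm x d hb
  rw [← hc] at hP
  have hP' : P.map μ = (X - C c) ^ Fintype.card G := by
    apply Polynomial.map_injective γ hγ
    rw [hP, Polynomial.map_pow, Polynomial.map_sub, Polynomial.map_X, Polynomial.map_C]
  have h1 : (X - C (χ₁ c)) ^ Fintype.card G = (X - C (χ₂ c)) ^ Fintype.card G := by
    have e1 := congrArg (Polynomial.map χ₁) hP'
    have e2 := congrArg (Polynomial.map χ₂) hP'
    rw [Polynomial.map_map, Polynomial.map_pow, Polynomial.map_sub, Polynomial.map_X,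
      Polynomial.map_C] at e1 e2
    rw [← e1, ← e2, hχ]
  exact eq_of_X_sub_C_pow_eq h1 Fintype.card_ne_zero

end norm

end Groth.Agent.Lib.H6xQuotRadicialAlg
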