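import Mathlib
import Groth.Prelude.Def_DCoh3
import Groth.Agent.Lib.H6xRpushTriB
import Groth.Agent.Lib.Helper23Bridge
import Groth.Agent.Lib.Helper1Devissage
set_option backward.isDefEq.respectTransparency.types false

/-!
# The cohomology of a total right derived functor on a module placed in degree `0`
is computed by `Functor.rightDerived`; cohomological bounds by dévissage (helper6)
-/

set_option autoImplicit false
set_option linter.style.haveILetI false
universe u
open CategoryTheory CategoryTheory.Limits AlgebraicGeometry TopologicalSpace Opposite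
  CategoryTheory.Pretriangulated

attribute [local instance] HasDerivedCategory.standard

namespace Groth.Agent.Lib.H6xRDBridge

open Groth.Agent.Lib.H6xMV Groth.Agent.Lib.H6xRpushTri DerivedCategory CochainComplex

section bridge

variable {X : Scheme.{u}} {A' : Type*} [Category A'] [Abelian A'] [HasDerivedCategory A']
  (G : X.Modules ⥤ A') [G.Additive]
  [(G.mapHomotopyCategory (ComplexShape.up ℤ) ⋙ DerivedCategory.Qh).HasRightDerivedFunctor
    (HomotopyCategory.quasiIso X.Modules (ComplexShape.up ℤ))]

/-- `RG(M[0]) ≅ Q(G(I^•))` for an injective resolution `I` of `M` -/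
noncomputable def rgSingleIso {M : X.Modules} (I : InjectiveResolution M) :
    (RG G).obj ((DerivedCategory.singleFunctor X.Modules 0).obj M) ≅
      DerivedCategory.Q.obj
        ((G.mapHomologicalComplex (ComplexShape.up ℤ)).obj I.cochainComplex) :=
  haveI : I.cochainComplex.IsKInjective := CochainComplex.isKInjective_of_injective _ 0
  haveI : IsIso (DerivedCategory.Q.map I.ι') := by
    rw [DerivedCategory.isIso_Q_map_iff_quasiIso]; infer_instance
  (RG G).mapIso ((DerivedCategory.singleFunctorIsoCompQ X.Modules 0).app M ≪≫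
    asIso (DerivedCategory.Q.map I.ι')) ≪≫ (rdIso G I.cochainComplex).symm

/-- the homology of `Q(G(I^•))` -/
noncomputable def homologyIso {M : X.Modules} (I : InjectiveResolution M) (i : ℤ) :
    (DerivedCategory.homologyFunctor A' i).obj
      ((RG G).obj ((DerivedCategory.singleFunctor X.Modules 0).obj M)) ≅
    (((G.mapHomologicalComplex (ComplexShape.up ℕ)).obj I.cocomplex).extend
      ComplexShape.embeddingUpNat).homology i :=
  (DerivedCategory.homologyFunctor A' i).mapIso (rgSingleIso G I) ≪≫
    (DerivedCategory.homologyFunctorFactors A' i).app _ ≪≫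
    (HomologicalComplex.homologyFunctor A' _ i).mapIso
      (Groth.Agent.Lib.Helper23Bridge.extendMapIso G I.cocomplex ComplexShape.embeddingUpNat)

theorem isZero_homology_RG_single_of_neg [HasInjectiveResolutions X.Modules] (M : X.Modules)
    (i : ℤ) (hi : i < 0) :
    IsZero ((DerivedCategory.homologyFunctor A' i).obj
      ((RG G).obj ((DerivedCategory.singleFunctor X.Modules 0).obj M))) := by
  let I : InjectiveResolution M := injectiveResolution M
  refine IsZero.of_iso ?_ (homologyIso G I i)
  rw [← HomologicalComplex.exactAt_iff_isZero_homology]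
  apply HomologicalComplex.extend_exactAt
  intro j hj
  change (j : ℤ) = i at hj
  omega

theorem nonempty_homology_RG_single_iso [HasInjectiveResolutions X.Modules] (M : X.Modules)
    (n : ℕ) :
    Nonempty ((DerivedCategory.homologyFunctor A' (n : ℤ)).obj
      ((RG G).obj ((DerivedCategory.singleFunctor X.Modules 0).obj M)) ≅
        (G.rightDerived n).obj M) := by
  let I : InjectiveResolution M := injectiveResolution M
  exact ⟨homologyIso G I n ≪≫
    HomologicalComplex.extendHomologyIso _ ComplexShape.embeddingUpNat (j := n) rfl ≪≫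
    (I.isoRightDerivedObj G n).symm⟩

end bridge

section bounds

variable {X : Scheme.{u}} {A' : Type*} [Category A'] [Abelian A'] [HasDerivedCategory A']
  (G : X.Modules ⥤ A') [G.Additive]
  [(G.mapHomotopyCategory (ComplexShape.up ℤ) ⋙ DerivedCategory.Qh).HasRightDerivedFunctor
    (HomotopyCategory.quasiIso X.Modules (ComplexShape.up ℤ))]

open ZeroObject

instance isKInjective_zero : (0 : CochainComplex X.Modules ℤ).IsKInjective where
  nonempty_homotopy_zero _ _ := ⟨Homotopy.ofEq ((isZero_zero _).eq_of_tgt _ _)⟩

theorem isZero_RG_of_isZero (K : DCoh.D X) (hK : IsZero K) : IsZero ((RG G).obj K) := by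
  have h0 : IsZero ((DerivedCategory.Q : _ ⥤ DCoh.D X).obj 0) :=
    Functor.map_isZero _ (isZero_zero _)
  have e : DerivedCategory.Q.obj (0 : CochainComplex X.Modules ℤ) ≅ K := h0.iso hK
  refine IsZero.of_iso ?_ ((RG G).mapIso e.symm ≪≫ (rdIso G 0).symm)
  exact Functor.map_isZero _ (Functor.map_isZero _ (isZero_zero _))

/-- cohomological amplitude of `RG` from the vanishing of `R^pG` on a class of modules -/
theorem isZero_homology_RG_of_bounds [HasInjectiveResolutions X.Modules] (R : X.Modules → Prop)
    (N : ℕ) (hG : ∀ M, R M → ∀ p : ℕ, N ≤ p → IsZero ((G.rightDerived p).obj M))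
    (E : DCoh.D X) (hE : ∀ i, R (DCoh.HD E i)) (a b : ℤ)
    (hab : ∀ i : ℤ, i < a ∨ b < i → IsZero (DCoh.HD E i)) (i : ℤ)
    (hi : i < a ∨ b + N - 1 < i) :
    IsZero ((DerivedCategory.homologyFunctor A' i).obj ((RG G).obj E)) := by
  let P : ObjectProperty (DerivedCategory X.Modules) := fun K =>
    ∀ i : ℤ, (i < a ∨ b + N - 1 < i) →
      IsZero ((DerivedCategory.homologyFunctor A' i).obj ((RG G).obj K))
  haveI : P.IsClosedUnderIsomorphisms := ⟨fun e h i hi =>
    IsZero.of_iso (h i hi) ((DerivedCategory.homologyFunctor A' i).mapIso ((RG G).mapIso e.symm))⟩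
  suffices h : P E from h i hi
  apply Groth.Agent.Lib.Helper1.Devissage.induction_homology' P ?_ ?_ E a b hab ?_
  · intro K hK i _
    exact Functor.map_isZero _ (isZero_RG_of_isZero G K hK)
  · intro T hT h1 h3 i hi
    obtain ⟨T', hT', ⟨e1⟩, ⟨e2⟩, ⟨e3⟩⟩ := exists_distTriang G T hT
    refine IsZero.of_iso ?_ ((DerivedCategory.homologyFunctor A' i).mapIso e2.symm)
    have hex := DerivedCategory.HomologySequence.exact₂ T' hT' i
    refine hex.isZero_X₂ ?_ ?_
    · exact (IsZero.of_iso (h1 i hi)
        ((DerivedCategory.homologyFunctor A' i).mapIso e1)).eq_of_src _ _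
    · exact (IsZero.of_iso (h3 i hi)
        ((DerivedCategory.homologyFunctor A' i).mapIso e3)).eq_of_tgt _ _
  · intro j hj1 hj2 i hi
    obtain ⟨M, hM⟩ : ∃ M : X.Modules, M = DCoh.HD E j := ⟨_, rfl⟩
    have hRM : R M := hM ▸ hE j
    change IsZero ((DerivedCategory.homologyFunctor A' i).obj
      ((RG G).obj ((DerivedCategory.singleFunctor X.Modules j).obj (DCoh.HD E j))))
    rw [← hM]
    let e0 : ((DerivedCategory.singleFunctor X.Modules 0).obj M)⟦-j⟧ ≅
        (DerivedCategory.singleFunctor X.Modules j).obj M :=
      ((DerivedCategory.singleFunctors X.Modules).shiftIso (-j) j 0 (by omega)).app M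
    obtain ⟨e1⟩ := nonempty_shift_iso G ((DerivedCategory.singleFunctor X.Modules 0).obj M) (-j)
    let e2 : (DerivedCategory.homologyFunctor A' i).obj
        (((RG G).obj ((DerivedCategory.singleFunctor X.Modules 0).obj M))⟦-j⟧) ≅
        (DerivedCategory.homologyFunctor A' (-j + i)).obj
          ((RG G).obj ((DerivedCategory.singleFunctor X.Modules 0).obj M)) :=
      ((DerivedCategory.homologyFunctor A' 0).shiftIso (-j) i (-j + i) rfl).app _
    refine IsZero.of_iso ?_ ((DerivedCategory.homologyFunctor A' i).mapIso
      ((RG G).mapIso e0.symm ≪≫ e1) ≪≫ e2)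
    by_cases hneg : -j + i < 0
    · exact isZero_homology_RG_single_of_neg G M _ hneg
    · obtain ⟨n, hn⟩ : ∃ n : ℕ, (n : ℤ) = -j + i := ⟨(-j + i).toNat, by omega⟩
      rw [← hn]
      obtain ⟨e3⟩ := nonempty_homology_RG_single_iso G M n
      exact IsZero.of_iso (hG M hRM n (by omega)) e3

end bounds

end Groth.Agent.Lib.H6xRDBridge
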