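import Mathlib
import Groth.Prelude.Def_DRing4
import Groth.Agent.Lib.Helper17KInjD5
import Groth.Agent.Lib.Helper16RestrInj
import Groth.Agent.Lib.H6xRGamD

/-!
# helper6: `RHom_A(M[0], -)` computed termwise on K-injective complexes, and
`RHom(A_f, RHom(A_g, K)) ≅ RHom(A_{fg}, K)`
-/

set_option autoImplicit false
universe u
open CategoryTheory CategoryTheory.Limits HomologicalComplex CochainComplex.HomComplex MonoidalCategory
  TensorProduct
attribute [local instance] HasDerivedCategory.standard

namespace Groth.Agent.Lib.H6xRHom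

open Groth.Agent.Lib.Helper17

variable {A : Type u} [CommRing A]

/-- the complex `M[0]` -/
noncomputable abbrev sg (M : ModuleCat.{u} A) : DRing.Cx A :=
  (CochainComplex.singleFunctor (ModuleCat.{u} A) 0).obj M

/-- cochains out of `M[0]` -/
noncomputable def cochEquiv (M : ModuleCat.{u} A) (L : DRing.Cx A) (i : ℤ) :
    Cochain (sg M) L i ≃ₗ[A] (M ⟶ L.X i) :=
  { Cochain.fromSingleEquiv (X := M) (K := L) (zero_add i) with
    map_smul' := fun a α => by
      have h : (a • α).v 0 i (zero_add i) = a • α.v 0 i (zero_add i) := Cochain.smul_v _ _ _ _ _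
      exact (congrArg (fun t => (HomologicalComplex.singleObjXSelf (ComplexShape.up ℤ) 0 M).inv ≫ t)
        h).trans (Linear.comp_smul _ _ _ _ _ _) }

lemma cochEquiv_symm_apply (M : ModuleCat.{u} A) (L : DRing.Cx A) (i : ℤ) (f : M ⟶ L.X i) :
    (cochEquiv M L i).symm f = Cochain.fromSingleMk f (zero_add i) := rfl

lemma cochEquiv_δ (M : ModuleCat.{u} A) (L : DRing.Cx A) (i j : ℤ)
    (α : Cochain (sg M) L i) :
    cochEquiv M L j (δ i j α) = cochEquiv M L i α ≫ L.d i j := by
  obtain ⟨f, rfl⟩ := (cochEquiv M L i).symm.surjective α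
  rw [LinearEquiv.apply_symm_apply, cochEquiv_symm_apply,
    Cochain.δ_fromSingleMk f (zero_add i) j j (zero_add j), ← cochEquiv_symm_apply,
    LinearEquiv.apply_symm_apply]

lemma cochEquiv_comp (M : ModuleCat.{u} A) {L L' : DRing.Cx A} (g : L ⟶ L') (i : ℤ)
    (α : Cochain (sg M) L i) :
    cochEquiv M L' i (α.comp (Cochain.ofHom g) (add_zero i)) = cochEquiv M L i α ≫ g.f i := by
  obtain ⟨f, rfl⟩ := (cochEquiv M L i).symm.surjective α
  rw [LinearEquiv.apply_symm_apply, cochEquiv_symm_apply,
    ← Cochain.fromSingleMk_postcomp f (zero_add i) g, ← cochEquiv_symm_apply,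
    LinearEquiv.apply_symm_apply]

/-- `Hom•(M[0], L) ≅ Hom(M, L^•)` -/
noncomputable def homCxSingleIso (M : ModuleCat.{u} A) (L : DRing.Cx A) :
    DRing.homCx (sg M) L ≅ ((ihom M).mapHomologicalComplex (ComplexShape.up ℤ)).obj L :=
  HomologicalComplex.Hom.isoOfComponents (fun i => (cochEquiv M L i).toModuleIso) (by
    intro i j _
    apply ModuleCat.hom_ext
    apply LinearMap.ext
    intro α
    exact (cochEquiv_δ M L i j α).symm)

noncomputable def homCxSingleNatIso (M : ModuleCat.{u} A) :
    DRing.homCxFunctor (sg M) ≅ (ihom M).mapHomologicalComplex (ComplexShape.up ℤ) :=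
  NatIso.ofComponents (fun L => homCxSingleIso M L) (by
    intro L L' g
    apply HomologicalComplex.hom_ext
    intro i
    apply ModuleCat.hom_ext
    apply LinearMap.ext
    intro α
    exact cochEquiv_comp M g i α)

instance (M : ModuleCat.{u} A) : (ihom M).Additive := (ihom.adjunction M).right_adjoint_additive

section

variable (M : ModuleCat.{u} A) [DRing.HasRHomCx (sg M)]

/-- the unit of `RHom(M[0], -)` transported to `Hom(M, -)` termwise -/
noncomputable def βH :
    (ihom M).mapHomologicalComplex (ComplexShape.up ℤ) ⋙ DerivedCategory.Q ⟶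
      DerivedCategory.Q ⋙ DRing.RHomCx (sg M) :=
  Functor.whiskerRight (homCxSingleNatIso M).inv DerivedCategory.Q ≫
    (DRing.homCxQ (sg M)).totalRightDerivedUnit DerivedCategory.Q
      (HomologicalComplex.quasiIso (ModuleCat.{u} A) (ComplexShape.up ℤ))

instance : (DRing.RHomCx (sg M)).IsRightDerivedFunctor (βH M)
    (HomologicalComplex.quasiIso (ModuleCat.{u} A) (ComplexShape.up ℤ)) := by
  rw [Functor.isRightDerivedFunctor_iff_isLeftKanExtension]
  refine (Functor.isLeftKanExtension_iff_of_iso₂
    ((DRing.homCxQ (sg M)).totalRightDerivedUnit DerivedCategory.Q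
      (HomologicalComplex.quasiIso (ModuleCat.{u} A) (ComplexShape.up ℤ))) (βH M)
    (Functor.isoWhiskerRight (homCxSingleNatIso M) DerivedCategory.Q) (Iso.refl _) ?_).1 ?_
  · ext L
    dsimp [βH]
    rw [Category.comp_id, ← Category.assoc, ← Functor.map_comp, Iso.hom_inv_id_app,
      CategoryTheory.Functor.map_id, Category.id_comp]
  · exact (Functor.isRightDerivedFunctor_iff_isLeftKanExtension _ _
      (HomologicalComplex.quasiIso (ModuleCat.{u} A) (ComplexShape.up ℤ))).1 inferInstance

lemma isIso_βH_app (J : DRing.Cx A) [J.IsKInjective] : IsIso ((βH M).app J) :=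
  KInj.isIso_app_of_isKInjective.{u} (ihom M) (DRing.RHomCx (sg M)) (βH M) J

end

lemma isKInjective_ihom (M : ModuleCat.{u} A) [Module.Flat A M] (J : DRing.Cx A) [J.IsKInjective] :
    CochainComplex.IsKInjective (((ihom M).mapHomologicalComplex (ComplexShape.up ℤ)).obj J) :=
  Groth.Agent.Lib.Helper16.RestrInj.isKInjective_map_of_adjunction (ihom.adjunction M) J

/-- `Hom(Y, Hom(X, -)) ≅ Hom(X ⊗ Y, -)` -/
noncomputable def ihomCompIso (X Y : ModuleCat.{u} A) : ihom X ⋙ ihom Y ≅ ihom (X ⊗ Y) :=
  (Adjunction.rightAdjointUniq ((ihom.adjunction (X ⊗ Y)).ofNatIsoLeft (tensorLeftTensor X Y))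
    ((ihom.adjunction Y).comp (ihom.adjunction X))).symm

noncomputable def ihomCongr {X X' : ModuleCat.{u} A} (e : X ≅ X') : ihom X ≅ ihom X' :=
  Adjunction.rightAdjointUniq ((ihom.adjunction X).ofNatIsoLeft ((tensoringLeft _).mapIso e))
    (ihom.adjunction X')

variable (f g : A)

noncomputable def awayTensorEquiv :
    (Localization.Away g ⊗[A] Localization.Away f) ≃ₗ[A] Localization.Away (f * g) := by
  haveI h1 : IsLocalization.Away (algebraMap A (Localization.Away g) f)
      (Localization.Away g ⊗[A] Localization.Away f) := IsLocalization.Away.tensor f (Localization.Away f)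
  haveI h2 : IsLocalization.Away (g * f) (Localization.Away g ⊗[A] Localization.Away f) :=
    IsLocalization.Away.mul' (Localization.Away g) _ g f
  haveI h3 : IsLocalization.Away (g * f) (Localization.Away (f * g)) := by
    rw [mul_comm g f]; infer_instance
  exact (IsLocalization.algEquiv (Submonoid.powers (g * f))
    (Localization.Away g ⊗[A] Localization.Away f) (Localization.Away (f * g))).toLinearEquiv

noncomputable def awayTensorIso :
    (ModuleCat.of A (Localization.Away g) ⊗ ModuleCat.of A (Localization.Away f) : ModuleCat.{u} A) ≅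
      ModuleCat.of A (Localization.Away (f * g)) :=
  (awayTensorEquiv f g).toModuleIso

noncomputable def ihomAwayIso :
    ihom (ModuleCat.of A (Localization.Away g)) ⋙ ihom (ModuleCat.of A (Localization.Away f)) ≅
      ihom (ModuleCat.of A (Localization.Away (f * g))) :=
  ihomCompIso _ _ ≪≫ ihomCongr (awayTensorIso f g)


section Main

open Groth.Agent.Lib.H6xRGam

theorem main (f g : A)
    [DRing.HasRHomCx (sg (ModuleCat.of A (Localization.Away f)))]
    [DRing.HasRHomCx (sg (ModuleCat.of A (Localization.Away g)))]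
    [DRing.HasRHomCx (sg (ModuleCat.of A (Localization.Away (f * g))))]
    (K : Dual.D A) :
    Nonempty ((DRing.RHomCx (sg (ModuleCat.of A (Localization.Away f)))).obj
        ((DRing.RHomCx (sg (ModuleCat.of A (Localization.Away g)))).obj K) ≅
      (DRing.RHomCx (sg (ModuleCat.of A (Localization.Away (f * g))))).obj K) := by
  obtain ⟨E, hE, -, ⟨e⟩⟩ := exists_kInj_iso K
  haveI := hE
  haveI : Module.Flat A (ModuleCat.of A (Localization.Away g)) :=
    IsLocalization.flat (Localization.Away g) (Submonoid.powers g)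
  haveI hEg := isKInjective_ihom (ModuleCat.of A (Localization.Away g)) E
  haveI := isIso_βH_app (ModuleCat.of A (Localization.Away g)) E
  haveI := isIso_βH_app (ModuleCat.of A (Localization.Away f))
    (((ihom (ModuleCat.of A (Localization.Away g))).mapHomologicalComplex (ComplexShape.up ℤ)).obj E)
  haveI := isIso_βH_app (ModuleCat.of A (Localization.Away (f * g))) E
  let i1 : (DRing.RHomCx (sg (ModuleCat.of A (Localization.Away g)))).obj K ≅
      DerivedCategory.Q.obj (((ihom (ModuleCat.of A (Localization.Away g))).mapHomologicalComplex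
        (ComplexShape.up ℤ)).obj E) :=
    (DRing.RHomCx (sg (ModuleCat.of A (Localization.Away g)))).mapIso e ≪≫
      (asIso ((βH (ModuleCat.of A (Localization.Away g))).app E)).symm
  let i2 := (asIso ((βH (ModuleCat.of A (Localization.Away f))).app
    (((ihom (ModuleCat.of A (Localization.Away g))).mapHomologicalComplex
      (ComplexShape.up ℤ)).obj E))).symm
  let i3 : ((ihom (ModuleCat.of A (Localization.Away f))).mapHomologicalComplex
        (ComplexShape.up ℤ)).obj
      (((ihom (ModuleCat.of A (Localization.Away g))).mapHomologicalComplex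
        (ComplexShape.up ℤ)).obj E) ≅
      ((ihom (ModuleCat.of A (Localization.Away (f * g)))).mapHomologicalComplex
        (ComplexShape.up ℤ)).obj E :=
    (NatIso.mapHomologicalComplex (ihomAwayIso f g) (ComplexShape.up ℤ)).app E
  let i4 := asIso ((βH (ModuleCat.of A (Localization.Away (f * g)))).app E) ≪≫
    (DRing.RHomCx (sg (ModuleCat.of A (Localization.Away (f * g))))).mapIso e.symm
  exact ⟨(DRing.RHomCx (sg (ModuleCat.of A (Localization.Away f)))).mapIso i1 ≪≫ i2 ≪≫
    DerivedCategory.Q.mapIso i3 ≪≫ i4⟩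

end Main

end Groth.Agent.Lib.H6xRHom
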