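import Mathlib
import Groth.Agent.Lib.H6xRdcB
import Groth.Agent.Lib.H6xRdcC
import Groth.Agent.Lib.H6xLDD
import Groth.Agent.Lib.H6xDTenDualB
import Groth.Agent.Lib.H6xUncB
set_option backward.isDefEq.respectTransparency.types false

/-!
# helper6: `RHom_B(A, B)` has endomorphism ring `A` and no self-maps of nonzero degree, for `A` a
perfect quotient of `B`
-/

set_option autoImplicit false
set_option linter.style.haveILetI false
set_option maxHeartbeats 400000
universe u
open CategoryTheory CategoryTheory.Limits MonoidalCategory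
attribute [local instance] HasDerivedCategory.standard

namespace Groth.Agent.Lib.H6xRdc

open DTen DerivedCategory Groth.Agent.Lib.H6xDTen Groth.Agent.Lib.H6xPF

attribute [local instance] monoidalD

theorem selfHom_rightAdjoint_unit (B A : Type u) [CommRing B] [CommRing A] [Algebra B A]
    (hs : Function.Surjective (algebraMap B A)) (hperf : DRing.IsPerfectModule B A)
    (Rψ : Dual.D B ⥤ Dual.D A) (adj : DRing.restrictD (algebraMap B A) ⊣ Rψ) :
    Function.Bijective (fun a : A => a • 𝟙 (Rψ.obj (DTen.unit B))) ∧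
      ∀ i : ℤ, i ≠ 0 → Subsingleton (Rψ.obj (DTen.unit B) ⟶ (Rψ.obj (DTen.unit B))⟦i⟧) := by
  haveI : HasLTen B := Groth.Agent.Lib.H6xUnc.hasLTen _
  haveI : HasLTen₃ B := Groth.Agent.Lib.H6xUnc.hasLTen₃ _
  haveI : IsSymMonoidal B := Groth.Agent.Lib.H6xUnc.isSymMonoidal _
  haveI : HasLTen A := Groth.Agent.Lib.H6xUnc.hasLTen _
  haveI : HasLTen₃ A := Groth.Agent.Lib.H6xUnc.hasLTen₃ _
  haveI : IsSymMonoidal A := Groth.Agent.Lib.H6xUnc.isSymMonoidal _
  have hN : DRing.IsPerfect B (NN (algebraMap B A)) := by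
    obtain ⟨E, a, b, hab, hE, ⟨e⟩⟩ := hperf
    exact ⟨E, a, b, hab, hE, ⟨e ≪≫ (NNIsoInD B A).symm⟩⟩
  obtain ⟨D, ⟨hp⟩⟩ := exists_exactPairing_left_of_isPerfect _ hN
  letI := hp
  let ν : NN (algebraMap B A) ≅ Dual.inD B A := NNIsoInD B A
  constructor
  · obtain ⟨e, he⟩ := exists_selfHomEquivHD (algebraMap B A) adj D 0
    let l : Dual.HD B (NN (algebraMap B A)) 0 ≃ₗ[B] A :=
      ((DerivedCategory.homologyFunctor (ModuleCat.{u} B) 0).mapIso ν).toLinearEquiv ≪≫ₗ
        Groth.Agent.Lib.H6xLD.HDInDZeroEquiv (A := B) A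
    let z : Rψ.obj (DTen.unit B) ≅ (Rψ.obj (DTen.unit B))⟦(0 : ℤ)⟧ :=
      ((shiftFunctorZero (Dual.D A) ℤ).app _).symm
    let Θ : (Rψ.obj (DTen.unit B) ⟶ Rψ.obj (DTen.unit B)) ≃ A :=
      (Iso.homToEquiv z).trans (e.trans l.toEquiv)
    refine bijective_smul_id_of_equiv _ Θ (fun a f => ?_)
    obtain ⟨p, rfl⟩ := hs a
    change l (e ((algebraMap B A p • f) ≫ z.hom)) = algebraMap B A p * l (e (f ≫ z.hom))
    rw [Linear.smul_comp, he, map_smul, Algebra.smul_def]
  · intro i hi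
    obtain ⟨e, -⟩ := exists_selfHomEquivHD (algebraMap B A) adj D i
    haveI : Subsingleton (Dual.HD B (Dual.inD B A) i) :=
      Groth.Agent.Lib.H6xLD.subsingleton_HD_inD (A := B) A i hi
    haveI : Subsingleton (Dual.HD B (NN (algebraMap B A)) i) :=
      ((DerivedCategory.homologyFunctor (ModuleCat.{u} B) i).mapIso ν).toLinearEquiv.toEquiv.subsingleton
    exact e.subsingleton

end Groth.Agent.Lib.H6xRdc
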