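import Mathlib
import Groth.Agent.Lib.H6xRdcD
import Groth.Agent.Lib.H6xShtF
import Groth.Agent.Lib.H6xShrA
import Groth.Agent.Lib.H6xBidG
import Groth.Agent.Lib.Helper1LBC
import Groth.Agent.Lib.Helper17DBrown3
import Groth.Agent.S11185
set_option backward.isDefEq.respectTransparency.types false

/-!
# helper6: the properties of `ω_{A/R} = φ^!(R)` for a flat finite type map of Noetherian rings (S1801)
-/

set_option autoImplicit false
set_option linter.style.haveILetI false
set_option maxHeartbeats 800000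
universe u
open CategoryTheory CategoryTheory.Limits
attribute [local instance] HasDerivedCategory.standard

namespace Groth.Agent.Lib.H6xRdc

open DerivedCategory TensorProduct Groth.Agent.Lib.H6xSht Groth.Agent.Lib.H6xShk

/-- the derived base change of the unit, along an arbitrary ring map -/
theorem nonempty_lbc_inD_iso' {R S : Type u} [CommRing R] [CommRing S] (φ : R →+* S)
    [DRing.HasLBaseChange φ] :
    Nonempty ((DRing.LBaseChange φ).obj (Dual.inD R R) ≅ Dual.inD S S) := by
  haveI : Projective (ModuleCat.of R R) := ModuleCat.projective_of_categoryTheory_projective _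
  let P : CochainComplex (ModuleCat.{u} R) ℤ :=
    (HomologicalComplex.single (ModuleCat.{u} R) (ComplexShape.up ℤ) 0).obj (ModuleCat.of R R)
  haveI : P.IsKProjective := Groth.Agent.Lib.Helper17.DBrown.isKProjective_single _ 0
  let e1 : Dual.inD R R ≅ Q.obj P :=
    (DerivedCategory.singleFunctorIsoCompQ (ModuleCat.{u} R) 0).app (ModuleCat.of R R)
  let e2 := Groth.Agent.Lib.Helper1.LDer.lbcIso φ P
  let e3 : (Groth.Agent.Lib.Helper1.LDer.bcCx φ).obj P ≅
      (HomologicalComplex.single (ModuleCat.{u} S) (ComplexShape.up ℤ) 0).obj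
        ((ModuleCat.extendScalars.{u, u, u} φ).obj (ModuleCat.of R R)) :=
    (HomologicalComplex.singleMapHomologicalComplex (ModuleCat.extendScalars.{u, u, u} φ)
      (ComplexShape.up ℤ) 0).app (ModuleCat.of R R)
  letI := φ.toAlgebra
  let e4 : (ModuleCat.extendScalars.{u, u, u} φ).obj (ModuleCat.of R R) ≅ ModuleCat.of S S :=
    ((Groth.Agent.Lib.Helper1.LDer.bcEquiv φ (ModuleCat.of R R)).trans
      (TensorProduct.AlgebraTensorModule.rid R S S)).toModuleIso
  let e5 : Q.obj ((HomologicalComplex.single (ModuleCat.{u} S) (ComplexShape.up ℤ) 0).obj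
      (ModuleCat.of S S)) ≅ Dual.inD S S :=
    ((DerivedCategory.singleFunctorIsoCompQ (ModuleCat.{u} S) 0).app (ModuleCat.of S S)).symm
  exact ⟨(DRing.LBaseChange φ).mapIso e1 ≪≫ e2 ≪≫ Q.mapIso e3 ≪≫
    Q.mapIso ((HomologicalComplex.single (ModuleCat.{u} S) (ComplexShape.up ℤ) 0).mapIso e4) ≪≫ e5⟩

/-- a field is its own dualizing complex -/
theorem isDualizing_inD_field (k : Type u) [Field k] : Dual.IsDualizing k (Dual.inD k k) := by
  refine Groth.Agent.S11185.result k (fun p => ?_) ?_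
  · infer_instance
  · rw [ringKrullDim_eq_zero_of_field]
    exact WithBot.coe_lt_coe.2 (WithTop.coe_lt_top 0)

section Main

variable (R A : Type u) [CommRing R] [CommRing A] [IsNoetherianRing R] [IsNoetherianRing A]
  [Algebra R A] [Module.Flat R A] (n : ℕ) (ψ : MvPolynomial (Fin n) R →ₐ[R] A)
  (hψ : Function.Surjective ψ) [DRing.HasLBaseChange (algebraMap R (MvPolynomial (Fin n) R))]
  (Rψ : Dual.D (MvPolynomial (Fin n) R) ⥤ Dual.D A) (adj : DRing.restrictD ψ.toRingHom ⊣ Rψ)

include hψ adj in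
/-- (c): `End(ω) = A` and `ω` has no self-maps of nonzero degree -/
theorem shriekVia_self_end :
    Function.Bijective (fun a : A => a • 𝟙 (Dual2.shriekVia n Rψ (Dual.inD R R))) ∧
      ∀ i : ℤ, i ≠ 0 → Subsingleton (Dual2.shriekVia n Rψ (Dual.inD R R) ⟶
        (Dual2.shriekVia n Rψ (Dual.inD R R))⟦i⟧) := by
  letI iPA : Algebra (MvPolynomial (Fin n) R) A := ψ.toRingHom.toAlgebra
  haveI tRPA : IsScalarTower R (MvPolynomial (Fin n) R) A :=
    IsScalarTower.of_algebraMap_eq' ψ.comp_algebraMap.symm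
  have hperf : DRing.IsPerfectModule (MvPolynomial (Fin n) R) A :=
    isPerfectModule_of_flat R A n hψ
  obtain ⟨hc1, hc2⟩ := selfHom_rightAdjoint_unit (MvPolynomial (Fin n) R) A
    (show Function.Surjective (algebraMap (MvPolynomial (Fin n) R) A) from hψ) hperf Rψ adj
  obtain ⟨y⟩ := nonempty_lbc_inD_iso (R := R) (P := MvPolynomial (Fin n) R)
  let y' : (DRing.LBaseChange (algebraMap R (MvPolynomial (Fin n) R))).obj (Dual.inD R R) ≅
      DTen.unit (MvPolynomial (Fin n) R) :=
    y ≪≫ (Groth.Agent.Lib.H6xPCev.unitIsoInD (A := MvPolynomial (Fin n) R)).symm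
  let e : Rψ.obj (DTen.unit (MvPolynomial (Fin n) R)) ≅
      Rψ.obj ((DRing.LBaseChange (algebraMap R (MvPolynomial (Fin n) R))).obj (Dual.inD R R)) :=
    Rψ.mapIso y'.symm
  constructor
  · exact bijective_smul_id_shift _ (n : ℤ) (bijective_smul_id_of_iso e hc1)
  · intro i hi
    exact subsingleton_hom_shift _ (n : ℤ) i
      (Groth.Agent.Lib.H6xBid.ext_self_subsingleton_of_iso e i (hc2 i hi))

include hψ adj in
/-- (d): the base change of `ω` to the fibre over a field point is dualizing -/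
theorem shriekVia_self_fibre_dualizing (k : Type u) [Field k] [Algebra R k]
    [DRing.HasLBaseChange (Algebra.TensorProduct.includeRight : A →ₐ[R] k ⊗[R] A).toRingHom] :
    Dual.IsDualizing (k ⊗[R] A)
      ((DRing.LBaseChange (Algebra.TensorProduct.includeRight : A →ₐ[R] k ⊗[R] A).toRingHom).obj
        (Dual2.shriekVia n Rψ (Dual.inD R R))) := by
  haveI : DRing.HasLBaseChange (algebraMap R k) :=
    Groth.Agent.Lib.H6xHasLDerRing.hasLBaseChange _
  haveI : DRing.HasLBaseChange (algebraMap k (MvPolynomial (Fin n) k)) :=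
    Groth.Agent.Lib.H6xHasLDerRing.hasLBaseChange _
  have hψ' := bcPres_surjective R k A n ψ hψ
  obtain ⟨Rψ', ⟨adj'⟩⟩ :=
    Groth.Agent.Lib.H6xCoext.exists_rightAdjoint (bcPres R k A n ψ).toRingHom
  obtain ⟨i1⟩ := shriekVia_baseChange_of_flat R k A n ψ hψ Rψ adj n (bcPres R k A n ψ) hψ'
    Rψ' adj' (Dual.inD R R)
  obtain ⟨i2⟩ := nonempty_lbc_inD_iso' (algebraMap R k)
  haveI : Algebra.FiniteType k (k ⊗[R] A) :=
    Algebra.FiniteType.of_surjective (bcPres R k A n ψ) hψ'
  haveI : IsNoetherianRing (k ⊗[R] A) := Algebra.FiniteType.isNoetherianRing k _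
  have hd := Groth.Agent.Lib.H6xShr.isDualizing_shriekVia k (k ⊗[R] A) n (bcPres R k A n ψ) hψ'
    Rψ' adj' (Dual.inD k k) (isDualizing_inD_field k)
  let i3 : Dual2.shriekVia n Rψ' (Dual.inD k k) ≅
      Dual2.shriekVia n Rψ' ((DRing.LBaseChange (algebraMap R k)).obj (Dual.inD R R)) :=
    (shiftFunctor (Dual.D (k ⊗[R] A)) (n : ℤ)).mapIso (Rψ'.mapIso
      ((DRing.LBaseChange (algebraMap k (MvPolynomial (Fin n) k))).mapIso i2.symm))
  exact Groth.Agent.Lib.H6xBid.isDualizing_of_iso (i3 ≪≫ i1.symm) hd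

include hψ adj in
/-- all the properties of `ω_{A/R}` for a flat finite type map -/
theorem shriekVia_self_properties_of_flat :
    (∃ a b : ℤ, ∀ i : ℤ, (i < a ∨ b < i) →
      Subsingleton (Dual.HD A (Dual2.shriekVia n Rψ (Dual.inD R R)) i)) ∧
    (∀ i : ℤ, Module.Finite A (Dual.HD A (Dual2.shriekVia n Rψ (Dual.inD R R)) i)) ∧
    DRing.HasFiniteTorDimCx R ((DRing.restrictD (algebraMap R A)).obj
      (Dual2.shriekVia n Rψ (Dual.inD R R))) ∧
    (Function.Bijective (fun a : A => a • 𝟙 (Dual2.shriekVia n Rψ (Dual.inD R R))) ∧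
      ∀ i : ℤ, i ≠ 0 → Subsingleton (Dual2.shriekVia n Rψ (Dual.inD R R) ⟶
        (Dual2.shriekVia n Rψ (Dual.inD R R))⟦i⟧)) ∧
    ∀ (k : Type u) [Field k] [Algebra R k]
      [DRing.HasLBaseChange (Algebra.TensorProduct.includeRight : A →ₐ[R] k ⊗[R] A).toRingHom],
      Dual.IsDualizing (k ⊗[R] A)
        ((DRing.LBaseChange (Algebra.TensorProduct.includeRight : A →ₐ[R] k ⊗[R] A).toRingHom).obj
          (Dual2.shriekVia n Rψ (Dual.inD R R))) := by
  have hP := isPerfect_restrictD_shriekVia_self R A n ψ hψ Rψ adj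
  refine ⟨?_, ?_, (isRelPerfect_shriekVia_self R A n ψ hψ Rψ adj).2,
    shriekVia_self_end R A n ψ hψ Rψ adj, fun k _ _ _ =>
      shriekVia_self_fibre_dualizing R A n ψ hψ Rψ adj k⟩
  · obtain ⟨a, b, hab⟩ := exists_bound_HD_of_isPerfect _ hP
    exact ⟨a, b, fun i hi => subsingleton_HD_of_restrictD ψ.toRingHom _ i (hab i hi)⟩
  · have h0 : ∀ i : ℤ, i < 0 → Subsingleton (Dual.HD R (Dual.inD R R) i) := fun i hi =>
      Groth.Agent.Lib.H6xLD.subsingleton_HD_inD (A := R) R i (by omega)
    have hfin : ∀ i : ℤ, Module.Finite R (Dual.HD R (Dual.inD R R) i) := by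
      intro i
      by_cases hi : i = 0
      · subst hi
        exact Module.Finite.equiv (Groth.Agent.Lib.H6xLD.HDInDZeroEquiv (A := R) R).symm
      · haveI := Groth.Agent.Lib.H6xLD.subsingleton_HD_inD (A := R) R i hi
        infer_instance
    exact (Groth.Agent.Lib.H6xShr.shriekVia_bounded_below_and_coherent R A n ψ hψ Rψ adj
      (Dual.inD R R) 0 h0).2 hfin

end Main

end Groth.Agent.Lib.H6xRdc
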