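import Mathlib
import Groth.Agent.Lib.H6xPerfSummC
import Groth.Agent.Lib.H6xFinPushB
import Groth.Agent.Lib.Helper23FinTypeLocal
import Groth.Agent.S6962
set_option backward.isDefEq.respectTransparency.types false

/-!
# On a regular locally Noetherian scheme, bounded complexes with coherent cohomology are perfect:
S1005 (helper6)
-/

set_option autoImplicit false
set_option linter.style.haveILetI false

universe u

open CategoryTheory CategoryTheory.Limits AlgebraicGeometry TopologicalSpace Opposite
  CategoryTheory.Pretriangulated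

attribute [local instance] HasDerivedCategory.standard

namespace Groth.Agent.Lib.H6xRegPerf

open DerivedCategory Groth.Agent.Lib.H6xPerfLoc Groth.Agent.Lib.H6xPerf23
  Groth.Agent.Lib.H6xPerfAff Groth.Agent.Lib.H6xPerfSumm

/-- the case of `Spec R` -/
theorem isPerfect_inD_of_isCoh_spec (R : CommRingCat.{u}) [IsNoetherianRing R]
    (hreg : ∀ p : PrimeSpectrum R, IsRegularLocalRing (Localization.AtPrime p.asIdeal))
    (F : (Spec R).Modules) (hF : Coh.IsCoh F) : DCoh.IsPerfect (DCoh.inD (Spec R) F) := by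
  haveI : F.IsQuasicoherent := hF.1
  haveI : IsIso F.fromTildeΓ := Scheme.Modules.isIso_fromTildeΓ_of_isQuasicoherent F
  obtain ⟨N, ⟨e⟩⟩ : ∃ N : ModuleCat.{u} R, Nonempty (tilde N ≅ F) := ⟨_, ⟨asIso F.fromTildeΓ⟩⟩
  have hft : SheafOfModules.IsFiniteType (R := (Spec R).ringCatSheaf) (tilde N) :=
    Groth.Agent.Lib.Helper23.FinType.isFiniteType_of_iso (hM := hF.2) e.symm
  have hfin : Module.Finite R N := (Groth.Agent.Lib.Helper23.FinType.isFiniteType_tilde_iff (R := R) N).1 hft
  have hperf : DRing.IsPerfectModule R N := (Groth.Agent.S6962.result R hreg N).2 hfin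
  haveI : PreservesFiniteLimits (tilde.functor R) := (Groth.Agent.S9498.aux R).1
  have h1 := isPerfect_tildeD_of_isPerfect R _ hperf
  exact isPerfect_of_iso
    (((tilde.functor R).mapDerivedCategorySingleFunctor 0).app N ≪≫
      (singleFunctor (Spec R).Modules 0).mapIso e) h1

theorem isPerfect_inD_of_isCoh (X : Scheme.{u}) [IsLocallyNoetherian X]
    (hreg : ∀ x : X, IsRegularLocalRing (X.presheaf.stalk x)) (F : X.Modules)
    (hF : Coh.IsCoh F) : DCoh.IsPerfect (DCoh.inD X F) := by
  refine isPerfect_of_local_perfect _ (fun x => ?_)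
  obtain ⟨W, hW, hxW, -⟩ := exists_isAffineOpen_mem_and_subset (x := x) (U := ⊤) trivial
  haveI : IsNoetherianRing Γ(X, W) := IsLocallyNoetherian.component_noetherian ⟨W, hW⟩
  have hregA : ∀ p : PrimeSpectrum Γ(X, W),
      IsRegularLocalRing (Localization.AtPrime p.asIdeal) := by
    intro p
    have hy : hW.fromSpec p ∈ W := by
      have : hW.fromSpec p ∈ Set.range hW.fromSpec.base := ⟨p, rfl⟩
      rwa [hW.range_fromSpec] at this
    letI alg : Algebra Γ(X, W) (X.presheaf.stalk (hW.fromSpec p)) :=
      TopCat.Presheaf.algebra_section_stalk X.presheaf ⟨hW.fromSpec p, hy⟩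
    haveI : IsLocalization p.asIdeal.primeCompl (X.presheaf.stalk (hW.fromSpec p)) :=
      hW.isLocalization_stalk' p hy
    haveI := hreg (hW.fromSpec p)
    exact IsRegularLocalRing.of_ringEquiv (IsLocalization.algEquiv p.asIdeal.primeCompl
      (X.presheaf.stalk (hW.fromSpec p)) (Localization.AtPrime p.asIdeal)).toRingEquiv
  haveI : F.IsQuasicoherent := hF.1
  haveI : SheafOfModules.IsFiniteType (R := X.ringCatSheaf) F := hF.2
  have hFg : Coh.IsCoh (F.restrict hW.fromSpec) :=
    ⟨inferInstance, Groth.Agent.Lib.Helper23.FinType.isFiniteType_restrict hW.fromSpec F⟩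
  refine ⟨Spec Γ(X, W), hW.fromSpec, inferInstance, ?_, ?_⟩
  · rw [hW.range_fromSpec]
    exact hxW
  · exact isPerfect_of_iso
      (((Scheme.Modules.restrictFunctor hW.fromSpec).mapDerivedCategorySingleFunctor 0).app F).symm
      (isPerfect_inD_of_isCoh_spec Γ(X, W) hregA _ hFg)

end Groth.Agent.Lib.H6xRegPerf
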