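import Mathlib
import Groth.Agent.Lib.H6xRegPerfA
import Groth.Agent.Lib.H6xPC4A
import Groth.Agent.Lib.R2H2PdSheaf
set_option backward.isDefEq.respectTransparency.types false

/-!
# On a regular locally Noetherian scheme, bounded complexes with coherent cohomology are perfect:
S1005, the induction (helper6)
-/

set_option autoImplicit false
set_option linter.style.haveILetI false

universe u

open CategoryTheory CategoryTheory.Limits AlgebraicGeometry TopologicalSpace Opposite
  CategoryTheory.Pretriangulated ZeroObject

attribute [local instance] HasDerivedCategory.standard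

namespace Groth.Agent.Lib.H6xRegPerf

open DerivedCategory Groth.Agent.Lib.H6xPerfLoc Groth.Agent.Lib.H6xPerf23
  Groth.Agent.Lib.H6xPerfAff Groth.Agent.Lib.H6xPerfSumm Groth.Agent.Lib.H6xPC3

variable {X : Scheme.{u}}

lemma isPerfect_of_isZero (K : DCoh.D X) (hK : IsZero K) : DCoh.IsPerfect K := by
  have h0 : IsZero ((Q : _ ⥤ DerivedCategory X.Modules).obj (0 : CochainComplex X.Modules ℤ)) :=
    Q.map_isZero (isZero_zero _)
  exact isPerfect_of_iso (h0.iso hK) (isPerfect_Q_of_isStrictlyPerfect _ (isStrictlyPerfect_zero X))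

variable [IsLocallyNoetherian X] (hreg : ∀ x : X, IsRegularLocalRing (X.presheaf.stalk x))

include hreg

lemma isPerfect_single_of_isCoh (A : X.Modules) (hA : Coh.IsCoh A) (n : ℤ) :
    DCoh.IsPerfect ((singleFunctor X.Modules n).obj A) :=
  isPerfect_of_iso
    (((DerivedCategory.singleFunctors X.Modules).shiftIso (-n) n 0 (by omega)).app A)
    (isPerfect_shift _ (isPerfect_inD_of_isCoh X hreg A hA) (-n))

theorem isPerfect_of_bounded_coh_aux (a : ℤ) :
    ∀ (k : ℕ) (E : DCoh.D X), E.IsGE a → E.IsLE (a - 1 + k) → DCoh.IsCohD E → DCoh.IsPerfect E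
  | 0 => fun E hGE hLE _ => by
      haveI := hGE
      haveI : E.IsLE (a - 1) := by simpa using hLE
      exact isPerfect_of_isZero E (TStructure.t.isZero E (a - 1) a (by omega))
  | k + 1 => fun E hGE hLE hcoh => by
      haveI := hGE
      obtain ⟨b, hb⟩ : ∃ b : ℤ, b = a + k := ⟨_, rfl⟩
      haveI : E.IsLE b := by
        rw [hb]
        convert hLE using 1
        push_cast; ring
      obtain ⟨X', Y', hX', hY', f, g, h, hT⟩ :=
        TStructure.t.exists_triangle E (b - 1) b (by omega)
      haveI : X'.IsLE (b - 1) := ⟨hX'⟩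
      haveI : Y'.IsGE b := ⟨hY'⟩
      let T := Triangle.mk f g h
      have hX'z : ∀ i : ℤ, b - 1 < i → IsZero ((homologyFunctor _ i).obj X') := fun i hi =>
        isZero_of_isLE X' (b - 1) i hi
      have hY'z : ∀ i : ℤ, i < b → IsZero ((homologyFunctor _ i).obj Y') := fun i hi =>
        isZero_of_isGE Y' b i hi
      have hEz : ∀ i : ℤ, b < i → IsZero ((homologyFunctor _ i).obj E) := fun i hi =>
        isZero_of_isLE E b i hi
      have hEz' : ∀ i : ℤ, i < a → IsZero ((homologyFunctor _ i).obj E) := fun i hi =>
        isZero_of_isGE E a i hi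
      have hiso : ∀ i : ℤ, i ≤ b - 1 → IsIso ((homologyFunctor _ i).map f) := by
        intro i hi
        haveI : Mono ((homologyFunctor _ i).map T.mor₁) :=
          (HomologySequence.mono_homologyMap_mor₁_iff T hT (i - 1) i (by omega)).2
            ((hY'z (i - 1) (by omega)).eq_of_src _ _)
        haveI : Epi ((homologyFunctor _ i).map T.mor₁) :=
          (HomologySequence.epi_homologyMap_mor₁_iff T hT i).2
            ((hY'z i (by omega)).eq_of_tgt _ _)
        exact isIso_of_mono_of_epi ((homologyFunctor _ i).map T.mor₁)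
      have hcohX' : DCoh.IsCohD X' := by
        intro i
        by_cases hib : i ≤ b - 1
        · haveI := hiso i hib
          exact Groth.Agent.Lib.R2H2.PdSheaf.isCoh_of_iso
            (asIso ((homologyFunctor _ i).map f)).symm (hcoh i)
        · exact isCoh_of_isZero _ (hX'z i (by omega))
      haveI : X'.IsGE a := by
        rw [isGE_iff]
        intro i hi
        by_cases hib : i ≤ b - 1
        · haveI := hiso i hib
          exact (hEz' i hi).of_iso (asIso ((homologyFunctor _ i).map f))
        · exact hX'z i (by omega)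
      have hX'p : DCoh.IsPerfect X' := by
        refine isPerfect_of_bounded_coh_aux a k X' inferInstance ?_ hcohX'
        convert (inferInstance : X'.IsLE (b - 1)) using 1
        omega
      haveI : Y'.IsLE b := by
        rw [isLE_iff]
        intro i hi
        exact (HomologySequence.exact₃ T hT i (i + 1) rfl).isZero_of_both_zeros
          ((hEz i hi).eq_of_src _ _) ((hX'z (i + 1) (by omega)).eq_of_tgt _ _)
      obtain ⟨A, ⟨eY⟩⟩ := exists_iso_singleFunctor_obj_of_isGE_of_isLE Y' b
      haveI : IsIso ((homologyFunctor _ b).map g) := by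
        haveI : Mono ((homologyFunctor _ b).map T.mor₂) :=
          (HomologySequence.mono_homologyMap_mor₂_iff T hT b).2
            ((hX'z b (by omega)).eq_of_src _ _)
        haveI : Epi ((homologyFunctor _ b).map T.mor₂) :=
          (HomologySequence.epi_homologyMap_mor₂_iff T hT b (b + 1) rfl).2
            ((hX'z (b + 1) (by omega)).eq_of_tgt _ _)
        exact isIso_of_mono_of_epi ((homologyFunctor _ b).map T.mor₂)
      have eA : DCoh.HD E b ≅ A :=
        asIso ((homologyFunctor _ b).map g) ≪≫ (homologyFunctor _ b).mapIso eY ≪≫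
          (singleFunctorCompHomologyFunctorIso X.Modules b).app A
      have hA : Coh.IsCoh A := Groth.Agent.Lib.R2H2.PdSheaf.isCoh_of_iso eA (hcoh b)
      have hY'p : DCoh.IsPerfect Y' :=
        isPerfect_of_iso eY.symm (isPerfect_single_of_isCoh hreg A hA b)
      exact (two_out_of_three T hT).2.1 hX'p hY'p

theorem isPerfect_of_bounded_coh (K : DCoh.D X) (a b : ℤ) [K.IsGE a] [K.IsLE b]
    (hK : DCoh.IsCohD K) : DCoh.IsPerfect K := by
  refine isPerfect_of_bounded_coh_aux hreg a (b - a + 1).toNat K inferInstance ?_ hK
  exact TStructure.t.isLE_of_le K b _ (by have := Int.self_le_toNat (b - a + 1); omega)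

end Groth.Agent.Lib.H6xRegPerf
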