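import Mathlib
import Groth.Agent.Lib.Helper1DT6
import Groth.Agent.Lib.Helper17KInjD5
set_option backward.isDefEq.respectTransparency.types false

/-!
# helper6: natural isomorphisms from K-projective complexes; homotopies and adjunctions

* `nonempty_natIso_of_kproj`: two functors out of `D(R)` which are isomorphic on the images of K-projective
  complexes, naturally with respect to chain maps, are isomorphic.
* `PresHtpy`: a functor between categories of complexes preserving the homotopy relation; adjunctions between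
  such functors have hom-equivalences compatible with homotopies.
-/

set_option autoImplicit false
set_option linter.style.haveILetI false
universe u
open CategoryTheory CategoryTheory.Limits MonoidalCategory HomologicalComplex
attribute [local instance] HasDerivedCategory.standard

namespace Groth.Agent.Lib.H6xRel

open DerivedCategory Groth.Agent.Lib.Helper1.DT Groth.Agent.Lib.Helper1.KF

section NatIso

variable {R : Type u} [CommRing R]

/-- two functors out of `D(R)` isomorphic on K-projective complexes, naturally in chain maps, are isomorphic -/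
theorem nonempty_natIso_of_kproj {𝒟 : Type*} [Category 𝒟] (F G : Dual.D R ⥤ 𝒟)
    (τ : ∀ (P : DRing.Cx R), P.IsKProjective → (F.obj (Q.obj P) ≅ G.obj (Q.obj P)))
    (nat : ∀ (P P' : DRing.Cx R) (hP : P.IsKProjective) (hP' : P'.IsKProjective) (f : P ⟶ P'),
      F.map (Q.map f) ≫ (τ P' hP').hom = (τ P hP).hom ≫ G.map (Q.map f)) :
    Nonempty (F ≅ G) := by
  have hex : ∀ K : Dual.D R, ∃ (P : DRing.Cx R), P.IsKProjective ∧ Nonempty (Q.obj P ≅ K) := fun K => by
    obtain ⟨P, hP, -, he⟩ := exists_kproj_iso K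
    exact ⟨P, hP, he⟩
  choose P hP he using hex
  let e : ∀ K, Q.obj (P K) ≅ K := fun K => (he K).some
  refine ⟨NatIso.ofComponents
    (fun K => F.mapIso (e K).symm ≪≫ τ (P K) (hP K) ≪≫ G.mapIso (e K)) ?_⟩
  intro K L f
  haveI := hP K
  obtain ⟨g, hg⟩ := Q_map_surjective (P K) (P L) ((e K).hom ≫ f ≫ (e L).inv)
  have h1 : F.map f ≫ F.map (e L).inv = F.map (e K).inv ≫ F.map (Q.map g) := by
    rw [← F.map_comp, ← F.map_comp, hg, Iso.inv_hom_id_assoc]
  have h2 : G.map (Q.map g) ≫ G.map (e L).hom = G.map (e K).hom ≫ G.map f := by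
    rw [← G.map_comp, ← G.map_comp, hg, Category.assoc, Category.assoc, Iso.inv_hom_id,
      Category.comp_id]
  dsimp
  have h3 := nat (P K) (P L) (hP K) (hP L) g
  rw [reassoc_of% h1, reassoc_of% h3, h2]
  simp only [Category.assoc]

end NatIso

section Htpy

variable {S S' S'' : Type u} [CommRing S] [CommRing S'] [CommRing S'']

/-- a functor between categories of complexes preserving the homotopy relation -/
def PresHtpy (F : DRing.Cx S ⥤ DRing.Cx S') : Prop :=
  ∀ ⦃X Y : DRing.Cx S⦄ (f g : X ⟶ Y), Homotopy f g → Nonempty (Homotopy (F.map f) (F.map g))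

lemma presHtpy_mapHomologicalComplex (F : ModuleCat.{u} S ⥤ ModuleCat.{u} S') [F.Additive] :
    PresHtpy (F.mapHomologicalComplex (ComplexShape.up ℤ)) :=
  fun _ _ _ _ h => ⟨F.mapHomotopy h⟩

lemma PresHtpy.comp {F : DRing.Cx S ⥤ DRing.Cx S'} {G : DRing.Cx S' ⥤ DRing.Cx S''}
    (hF : PresHtpy F) (hG : PresHtpy G) : PresHtpy (F ⋙ G) :=
  fun _ _ f g h => hG _ _ (hF f g h).some

lemma presHtpy_tensorRight (K : DRing.Cx S) : PresHtpy (tensorRight K) :=
  fun _ _ _ _ h =>
    ⟨mapBifunctorMapHomotopy₁ h (𝟙 K) (curriedTensor (ModuleCat.{u} S)) (ComplexShape.up ℤ)⟩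

lemma presHtpy_tensorLeft (K : DRing.Cx S) : PresHtpy (tensorLeft K) :=
  fun _ _ _ _ h =>
    ⟨mapBifunctorMapHomotopy₂ (𝟙 K) h (curriedTensor (ModuleCat.{u} S)) (ComplexShape.up ℤ)⟩

variable {L : DRing.Cx S ⥤ DRing.Cx S'} {Rr : DRing.Cx S' ⥤ DRing.Cx S} (adj : L ⊣ Rr)

include adj in
lemma homotopy_homEquiv (hR : PresHtpy Rr) {X : DRing.Cx S} {Y : DRing.Cx S'} {f f' : L.obj X ⟶ Y}
    (h : Homotopy f f') : Nonempty (Homotopy (adj.homEquiv X Y f) (adj.homEquiv X Y f')) := by
  rw [Adjunction.homEquiv_unit, Adjunction.homEquiv_unit]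
  exact ⟨(hR f f' h).some.compLeft _⟩

include adj in
lemma homotopy_homEquiv_symm (hL : PresHtpy L) {X : DRing.Cx S} {Y : DRing.Cx S'}
    {g g' : X ⟶ Rr.obj Y} (h : Homotopy g g') :
    Nonempty (Homotopy ((adj.homEquiv X Y).symm g) ((adj.homEquiv X Y).symm g')) := by
  rw [Adjunction.homEquiv_counit, Adjunction.homEquiv_counit]
  exact ⟨(hL g g' h).some.compRight _⟩

end Htpy

end Groth.Agent.Lib.H6xRel
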