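import Mathlib
import Groth.Agent.Lib.H6xRelDescB
set_option backward.isDefEq.respectTransparency.types false

/-!
# Relative pseudo-coherence is fppf local on the base, for objects with quasi-coherent cohomology
(helper6; S7228)
-/

set_option autoImplicit false
set_option linter.style.haveILetI false
set_option linter.unusedVariables false
set_option linter.unusedSectionVars false
universe u
open CategoryTheory CategoryTheory.Limits AlgebraicGeometry TensorProduct Opposite
attribute [local instance] HasDerivedCategory.standard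

namespace Groth.Agent.Lib.H6xRelDesc

open Groth.Agent.Lib.H6xChart

variable {X S : Scheme.{u}}

/-- descent along one flat morphism locally of finite presentation hitting the image point -/
theorem relPCLocal_of_fppf_point {S' X' : Scheme.{u}} (f : X ⟶ S) (f' : X' ⟶ S') (g' : X' ⟶ X)
    (g : S' ⟶ S) [LocallyOfFiniteType f] [LocallyOfFiniteType f'] [Flat g]
    [LocallyOfFinitePresentation g]
    (hc : IsPullback g' f' f g) [DCoh.HasLpull g'] (m : ℤ) (E : DCoh.D X)
    (hq : DCoh.IsQCohD E)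
    (hE : DerSch.IsPseudoCoherentRel f' m ((DCoh.Lpull g').obj E))
    (x : X) (t : S') (ht : g.base t = f.base x) :
    ∃ (U : X.affineOpens) (V : S.affineOpens) (h : (U : X.Opens) ≤ f ⁻¹ᵁ (V : S.Opens))
      (n : ℕ) (φ : MvPolynomial (Fin n) Γ(S, (V : S.Opens)) →+* Γ(X, (U : X.Opens))),
      x ∈ (U : X.Opens) ∧ DerSch.IsChart f (U : X.Opens) (V : S.Opens) h φ ∧
        DerSch.ChartPC m E (U : X.Opens) (V : S.Opens) φ := by
  obtain ⟨W, hsW⟩ := exists_affine_nhd (f.base x)
  obtain ⟨V', htV', hV'W⟩ := exists_affine_nhd_le g t (W : S.Opens) (by rw [ht]; exact hsW)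
  -- the image of `V'` is open
  have hopen : IsOpen (g.base '' ((V' : S'.Opens) : Set S')) :=
    g.isOpenMap _ (V' : S'.Opens).isOpen
  let O : S.Opens := ⟨g.base '' ((V' : S'.Opens) : Set S'), hopen⟩
  have hsO : f.base x ∈ O := ⟨t, htV', ht⟩
  -- a basic open of `W` inside `O`
  obtain ⟨r, hrO, hsr⟩ := W.2.exists_basicOpen_le (V := O) ⟨f.base x, hsO⟩ hsW
  let W₀ : S.affineOpens := ⟨S.basicOpen r, W.2.basicOpen r⟩
  let r' : Γ(S', (V' : S'.Opens)) := (g.appLE (W : S.Opens) (V' : S'.Opens) hV'W).hom r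
  let V'' : S'.affineOpens := ⟨S'.basicOpen r', V'.2.basicOpen r'⟩
  have hV''eq : (V'' : S'.Opens) = (V' : S'.Opens) ⊓ g ⁻¹ᵁ (S.basicOpen r) :=
    Scheme.basicOpen_appLE g (V' : S'.Opens) (W : S.Opens) hV'W r
  have hV''W₀ : (V'' : S'.Opens) ≤ g ⁻¹ᵁ (W₀ : S.Opens) := by
    rw [hV''eq]; exact inf_le_right
  obtain ⟨U, hxU, hUW₀⟩ := exists_affine_nhd_le f x (W₀ : S.Opens) hsr
  -- surjectivity of `V'' → W₀`
  have hsurj : ∀ p : PrimeSpectrum Γ(S, (W₀ : S.Opens)), ∃ (j : Fin 1)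
      (q : PrimeSpectrum Γ(S', (V'' : S'.Opens))),
      q.comap (g.appLE (W₀ : S.Opens) (V'' : S'.Opens) hV''W₀).hom = p := by
    intro p
    have hp : W₀.2.fromSpec p ∈ (W₀ : S.Opens) := by
      have : W₀.2.fromSpec p ∈ Set.range W₀.2.fromSpec := ⟨p, rfl⟩
      rw [W₀.2.range_fromSpec] at this
      exact this
    obtain ⟨v, hvV', hv⟩ := hrO hp
    have hvV'' : v ∈ (V'' : S'.Opens) := by
      rw [hV''eq]
      refine ⟨hvV', ?_⟩
      show g.base v ∈ S.basicOpen r
      rw [hv]; exact hp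
    obtain ⟨q, hq⟩ : v ∈ Set.range V''.2.fromSpec := by
      rw [V''.2.range_fromSpec]; exact hvV''
    refine ⟨0, q, ?_⟩
    show Spec.map (g.appLE (W₀ : S.Opens) (V'' : S'.Opens) hV''W₀) q = p
    apply W₀.2.fromSpec.isOpenEmbedding.injective
    rw [← Scheme.Hom.comp_apply, W₀.2.SpecMap_appLE_fromSpec g V''.2 hV''W₀,
      Scheme.Hom.comp_apply, hq, hv]
  obtain ⟨k, ψ, hψ, hpc⟩ := chartPC_of_descent f f' g' g hc m E hq hE U W₀ hUW₀
    (fun _ : Fin 1 => V'') (fun _ => hV''W₀) hsurj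
  exact ⟨U, W₀, hUW₀, k, ψ, hxU, hψ, hpc⟩

/-- **S7228** -/
theorem main_S7228 (f : X ⟶ S) [LocallyOfFiniteType f] {ι : Type u} (Si : ι → Scheme.{u})
    (h : ∀ i, Si i ⟶ S) [∀ i, Flat (h i)] [∀ i, LocallyOfFinitePresentation (h i)]
    (hcov : ∀ s : S, ∃ (i : ι) (t : Si i), (h i).base t = s)
    [∀ i, DCoh.HasLpull (pullback.fst f (h i))] (m : ℤ) (E : DCoh.D X)
    (hE : DCoh.IsQCohD E) :
    DerSch.IsPseudoCoherentRel f m E ↔
      ∀ i, DerSch.IsPseudoCoherentRel (pullback.snd f (h i)) m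
        ((DCoh.Lpull (pullback.fst f (h i))).obj E) := by
  constructor
  · intro hrel i
    exact rel_baseChange f (pullback.snd f (h i)) (pullback.fst f (h i)) (h i)
      (IsPullback.of_hasPullback f (h i)) m E hE hrel
  · intro hall
    rw [rel_iff_local]
    intro x
    obtain ⟨i, t, ht⟩ := hcov (f.base x)
    exact relPCLocal_of_fppf_point f (pullback.snd f (h i)) (pullback.fst f (h i)) (h i)
      (IsPullback.of_hasPullback f (h i)) m E hE (hall i) x t ht

end Groth.Agent.Lib.H6xRelDesc
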