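import Mathlib
import Groth.Agent.Lib.H6xRelA
import Groth.Agent.Lib.H6xRelD
import Groth.Agent.Lib.H6xCoextA
import Groth.Agent.Lib.H6xShkB
set_option backward.isDefEq.respectTransparency.types false

/-!
# helper6: `Hom_R(A, J) ≃ J ⊗ D` for K-injective `J` and `A ≃ E` perfect with dual `D`
-/

set_option autoImplicit false
set_option linter.style.haveILetI false
universe u
open CategoryTheory CategoryTheory.Limits MonoidalCategory HomologicalComplex TensorProduct
attribute [local instance] HasDerivedCategory.standard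

namespace Groth.Agent.Lib.H6xRel

open DTen DerivedCategory Groth.Agent.Lib.Helper1.KF Groth.Agent.Lib.Helper1.DT Groth.Agent.Lib.Helper17
  Groth.Agent.Lib.H6xCoext Groth.Agent.Lib.H6xShk

variable {R A : Type u} [CommRing R] [CommRing A] (φ : R →+* A)

/-- termwise coextension of scalars `Hom_R(A, -)` on complexes -/
noncomputable abbrev coextCx : DRing.Cx R ⥤ DRing.Cx A :=
  (Gc φ).mapHomologicalComplex (ComplexShape.up ℤ)

/-- the adjunction between termwise restriction and coextension of scalars -/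
noncomputable abbrev adjRC : resCx φ ⊣ coextCx φ :=
  SerreLoc.adjHC (adjFG φ) (ComplexShape.up ℤ)

/-- the functor `Hom_R(A, -)|_R` on complexes of `R`-modules -/
noncomputable abbrev TT : DRing.Cx R ⥤ DRing.Cx R := coextCx φ ⋙ resCx φ

/-- the adjunction `(A ⊗_R -)|_R ⊣ Hom_R(A, -)|_R` -/
noncomputable abbrev adjT : extCx φ ⋙ resCx φ ⊣ TT φ := (extResAdj φ).comp (adjRC φ)

lemma presHtpy_extRes : PresHtpy (extCx φ ⋙ resCx φ) :=
  (presHtpy_mapHomologicalComplex _).comp (presHtpy_mapHomologicalComplex _)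

lemma presHtpy_TT : PresHtpy (TT φ) :=
  (presHtpy_mapHomologicalComplex _).comp (presHtpy_mapHomologicalComplex _)

variable {E : DRing.Cx R} (D : DRing.Cx R) [ExactPairing E D] (e : E ⟶ sgl (resA φ))

/-- the evaluation `Hom_R(A, Y) ⊗ E ⟶ Y` -/
noncomputable def evE (Y : DRing.Cx R) : (TT φ).obj Y ⊗ E ⟶ Y :=
  etil φ e ((TT φ).obj Y) ≫ (adjT φ).counit.app Y

@[reassoc]
lemma evE_nat {Y Y' : DRing.Cx R} (f : Y ⟶ Y') :
    ((TT φ).map f ▷ E) ≫ evE φ e Y' = evE φ e Y ≫ f := by
  dsimp only [evE]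
  rw [etil_nat_assoc, Category.assoc]
  congr 1
  exact (adjT φ).counit.naturality f

/-- the pairing adjunction -/
noncomputable abbrev adjE : tensorRight E ⊣ tensorRight D := tensorRightAdjunction E D

/-- the comparison `Hom_R(A, Y) ⟶ Y ⊗ D` -/
noncomputable def kap (Y : DRing.Cx R) : (TT φ).obj Y ⟶ Y ⊗ D :=
  (adjE (E := E) D).homEquiv _ _ (evE φ e Y)

@[reassoc]
lemma kap_nat {Y Y' : DRing.Cx R} (f : Y ⟶ Y') :
    (TT φ).map f ≫ kap φ D e Y' = kap φ D e Y ≫ (f ▷ D) := by
  dsimp only [kap]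
  have h1 := (adjE (E := E) D).homEquiv_naturality_left ((TT φ).map f) (evE φ e Y')
  have h2 := (adjE (E := E) D).homEquiv_naturality_right (evE φ e Y) f
  rw [← h1]
  refine Eq.trans ?_ h2
  congr 1
  exact evE_nat φ e f

lemma comp_kap {S J : DRing.Cx R} (g : S ⟶ (TT φ).obj J) :
    g ≫ kap φ D e J =
      (adjE (E := E) D).homEquiv _ _ (etil φ e S ≫ ((adjT φ).homEquiv S J).symm g) := by
  dsimp only [kap]
  rw [← (adjE (E := E) D).homEquiv_naturality_left g (evE φ e J)]
  congr 1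
  dsimp only [evE]
  rw [Adjunction.homEquiv_counit]
  exact etil_nat_assoc φ e g _

/-- for a K-injective complex `J`, the comparison `Hom_R(A, J) ⟶ J ⊗ D` is a quasi-isomorphism -/
theorem quasiIso_kap [QuasiIso e] (J : DRing.Cx R) [J.IsKInjective] : QuasiIso (kap φ D e J) := by
  rw [← DerivedCategory.isIso_Q_map_iff_quasiIso]
  apply isIso_of_bijective_sg
  intro n
  have hSf : KFlat (Sg R n) := kflat_of_isKProjective (Sg R n)
  haveI hq : QuasiIso (etil φ e (Sg R n)) := quasiIso_etil φ e (Sg R n) hSf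
  haveI hqi : IsIso (Q.map (etil φ e (Sg R n))) :=
    (DerivedCategory.isIso_Q_map_iff_quasiIso (φ := etil φ e (Sg R n))).2 hq
  constructor
  · intro y₁ y₂ h
    obtain ⟨g₁, rfl⟩ := Q_map_surjective (Sg R n) _ y₁
    obtain ⟨g₂, rfl⟩ := Q_map_surjective (Sg R n) _ y₂
    have h' : Q.map (g₁ ≫ kap φ D e J) = Q.map (g₂ ≫ kap φ D e J) := by
      rw [Functor.map_comp, Functor.map_comp]
      exact h
    obtain ⟨H⟩ := Helper1.DT.homotopy_of_Q_map_eq (Sg R n) _ _ _ h'
    rw [comp_kap, comp_kap] at H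
    obtain ⟨H2⟩ := homotopy_homEquiv_symm (adjE (E := E) D) (presHtpy_tensorRight E) H
    rw [Equiv.symm_apply_apply, Equiv.symm_apply_apply] at H2
    have h3 : Q.map (((adjT φ).homEquiv (Sg R n) J).symm g₁) =
        Q.map (((adjT φ).homEquiv (Sg R n) J).symm g₂) := by
      rw [← cancel_epi (Q.map (etil φ e (Sg R n))), ← Functor.map_comp, ← Functor.map_comp]
      exact Q_map_eq_of_homotopy H2
    obtain ⟨H4⟩ := KInj.homotopy_of_Q_map_eq h3
    obtain ⟨H5⟩ := homotopy_homEquiv (adjT φ) (presHtpy_TT φ) H4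
    rw [Equiv.apply_symm_apply, Equiv.apply_symm_apply] at H5
    exact Q_map_eq_of_homotopy H5
  · intro y
    obtain ⟨f, rfl⟩ := Q_map_surjective (Sg R n) _ y
    obtain ⟨h, hh⟩ := KInj.exists_Q_map_eq (K := (extCx φ ⋙ resCx φ).obj (Sg R n)) (L := J)
      (inv (Q.map (etil φ e (Sg R n))) ≫
        Q.map (((adjE (E := E) D).homEquiv (Sg R n) J).symm f))
    refine ⟨Q.map ((adjT φ).homEquiv (Sg R n) J h), ?_⟩
    change Q.map ((adjT φ).homEquiv (Sg R n) J h) ≫ Q.map (kap φ D e J) = Q.map f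
    rw [← Functor.map_comp, comp_kap, Equiv.symm_apply_apply]
    have h1 : Q.map (etil φ e (Sg R n) ≫ h) =
        Q.map (((adjE (E := E) D).homEquiv (Sg R n) J).symm f) := by
      rw [Functor.map_comp, hh, IsIso.hom_inv_id_assoc]
    obtain ⟨H⟩ := KInj.homotopy_of_Q_map_eq h1
    obtain ⟨H2⟩ := homotopy_homEquiv (adjE (E := E) D) (presHtpy_tensorRight D) H
    rw [Equiv.apply_symm_apply] at H2
    exact Q_map_eq_of_homotopy H2

end Groth.Agent.Lib.H6xRel
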