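import Mathlib
import Groth.Agent.Lib.H6xRelE
set_option backward.isDefEq.respectTransparency.types false

/-!
# helper6: `RHom_R(A, K) ≅ K ⊗^L_R RHom_R(A, R)` for `A` perfect over `R`
-/

set_option autoImplicit false
set_option linter.style.haveILetI false
universe u
open CategoryTheory CategoryTheory.Limits MonoidalCategory HomologicalComplex TensorProduct
attribute [local instance] HasDerivedCategory.standard

namespace Groth.Agent.Lib.H6xRel

open DTen DerivedCategory Groth.Agent.Lib.Helper1.KF Groth.Agent.Lib.Helper1.DT Groth.Agent.Lib.Helper17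
  Groth.Agent.Lib.H6xCoext Groth.Agent.Lib.H6xShk

section Mon

variable {C : Type*} [Category C] [MonoidalCategory C]

lemma tensorRightHomEquiv_whiskerLeft (P X Z E D : C) [ExactPairing E D] (f : X ⊗ E ⟶ Z) :
    tensorRightHomEquiv (P ⊗ X) E D (P ⊗ Z) ((α_ P X E).hom ≫ P ◁ f) =
      (P ◁ tensorRightHomEquiv X E D Z f) ≫ (α_ P Z D).inv := by
  dsimp only [tensorRightHomEquiv, Equiv.coe_fn_mk]
  monoidal

end Mon

variable {R A : Type u} [CommRing R] [CommRing A] (φ : R →+* A)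

section Theta

variable (P N : DRing.Cx R)

/-- the `R`-linear map `((A ⊗_R P) ⊗_A Hom_R(A, N))|_R ⟶ P ⊗_R N` -/
noncomputable def sP : (resCx φ).obj ((extCx φ).obj P ⊗ (coextCx φ).obj N) ⟶ P ⊗ N :=
  (crossIso φ P ((coextCx φ).obj N)).inv ≫ (P ◁ (adjRC φ).counit.app N)

/-- the `A`-linear map `(A ⊗_R P) ⊗_A Hom_R(A, N) ⟶ Hom_R(A, P ⊗_R N)` -/
noncomputable def theta : (extCx φ).obj P ⊗ (coextCx φ).obj N ⟶ (coextCx φ).obj (P ⊗ N) :=
  (adjRC φ).homEquiv _ _ (sP φ P N)

lemma res_theta_counit :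
    (resCx φ).map (theta φ P N) ≫ (adjRC φ).counit.app (P ⊗ N) = sP φ P N := by
  have h := ((adjRC φ).homEquiv _ _).symm_apply_apply (sP φ P N)
  rw [Adjunction.homEquiv_counit] at h
  exact h

variable {P} in
lemma theta_nat {P' : DRing.Cx R} (f : P ⟶ P') :
    ((extCx φ).map f ▷ (coextCx φ).obj N) ≫ theta φ P' N =
      theta φ P N ≫ (coextCx φ).map (f ▷ N) := by
  dsimp only [theta]
  rw [← (adjRC φ).homEquiv_naturality_left, ← (adjRC φ).homEquiv_naturality_right]
  congr 1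
  dsimp only [sP]
  rw [← cancel_epi (crossIso φ P ((coextCx φ).obj N)).hom, ← crossIso_hom_nat₁_assoc,
    Iso.hom_inv_id_assoc, Category.assoc, Iso.hom_inv_id_assoc, whisker_exchange]

variable {E : DRing.Cx R} (D : DRing.Cx R) [ExactPairing E D] (e : E ⟶ sgl (resA φ))

lemma evE_eq (Y : DRing.Cx R) :
    evE φ e Y = (((TT φ).obj Y) ◁ e) ≫ actA φ ((coextCx φ).obj Y) ≫ (adjRC φ).counit.app Y := by
  dsimp only [evE, etil, actA]
  rw [Adjunction.comp_counit_app]
  simp only [Category.assoc]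
  rfl

omit [ExactPairing E D] in
@[reassoc]
lemma actA_nat {M M' : DRing.Cx A} (g : M ⟶ M') :
    ((resCx φ).map g ▷ sgl (resA φ)) ≫ actA φ M' = actA φ M ≫ (resCx φ).map g := by
  dsimp only [actA]
  rw [chi_hom_nat_assoc, Category.assoc, ← Functor.map_comp, ← Functor.map_comp]
  congr 2
  exact (extResAdj φ).counit.naturality g

/-- the key compatibility -/
lemma res_theta_evE :
    ((resCx φ).map (theta φ P N) ▷ E) ≫ evE φ e (P ⊗ N) =
      ((crossIso φ P ((coextCx φ).obj N)).inv ▷ E) ≫ (α_ P ((TT φ).obj N) E).hom ≫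
        (P ◁ evE φ e N) := by
  have h1 := crossIso_actA φ P ((coextCx φ).obj N)
  have h2 : actA φ ((extCx φ).obj P ⊗ (coextCx φ).obj N) ≫
      (crossIso φ P ((coextCx φ).obj N)).inv =
      ((crossIso φ P ((coextCx φ).obj N)).inv ▷ sgl (resA φ)) ≫
        (α_ P ((resCx φ).obj ((coextCx φ).obj N)) (sgl (resA φ))).hom ≫
          (P ◁ actA φ ((coextCx φ).obj N)) := by
    rw [← cancel_epi ((crossIso φ P ((coextCx φ).obj N)).hom ▷ sgl (resA φ)), reassoc_of% h1,
      Iso.hom_inv_id, Category.comp_id, ← comp_whiskerRight_assoc, Iso.hom_inv_id, id_whiskerRight,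
      Category.id_comp]
  rw [evE_eq, evE_eq]
  dsimp only [Functor.comp_obj]
  rw [← whisker_exchange_assoc, actA_nat_assoc, res_theta_counit]
  dsimp only [sP]
  rw [reassoc_of% h2, whisker_exchange_assoc, MonoidalCategory.whiskerLeft_comp,
    MonoidalCategory.whiskerLeft_comp, associator_naturality_right_assoc]

omit [CommRing A] in
lemma adjE_homEquiv (X Z : DRing.Cx R) (f : X ⊗ E ⟶ Z) :
    (adjE (E := E) D).homEquiv X Z f = tensorRightHomEquiv X E D Z f := by
  dsimp only [adjE, tensorRightAdjunction]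
  rw [Adjunction.mkOfHomEquiv_homEquiv]

lemma res_theta_kap :
    (resCx φ).map (theta φ P N) ≫ kap φ D e (P ⊗ N) =
      (crossIso φ P ((coextCx φ).obj N)).inv ≫ (P ◁ kap φ D e N) ≫ (α_ P N D).inv := by
  dsimp only [kap]
  have h1 := (adjE (E := E) D).homEquiv_naturality_left
    (show (resCx φ).obj ((extCx φ).obj P ⊗ (coextCx φ).obj N) ⟶ (TT φ).obj (P ⊗ N) from
      (resCx φ).map (theta φ P N)) (evE φ e (P ⊗ N))
  have h2 := (adjE (E := E) D).homEquiv_naturality_left
    (show (resCx φ).obj ((extCx φ).obj P ⊗ (coextCx φ).obj N) ⟶ P ⊗ (TT φ).obj N from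
      (crossIso φ P ((coextCx φ).obj N)).inv)
    ((α_ P ((TT φ).obj N) E).hom ≫ (P ◁ evE φ e N))
  have h3 := tensorRightHomEquiv_whiskerLeft P ((TT φ).obj N) N E D (evE φ e N)
  refine h1.symm.trans ?_
  have h4 := res_theta_evE φ P N e
  rw [show (tensorRight E).map ((resCx φ).map (theta φ P N)) =
    (resCx φ).map (theta φ P N) ▷ E from rfl, h4]
  refine h2.trans ?_
  congr 1
  rw [adjE_homEquiv, adjE_homEquiv]
  exact h3

/-- the map `(A ⊗_R P) ⊗_A Hom_R(A, N) ⟶ Hom_R(A, P ⊗_R N) ⟶ Hom_R(A, J)` is a quasi-isomorphism when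
`P` is K-flat, `N` and `J` are K-injective and `P ⊗_R N ⟶ J` is a quasi-isomorphism -/
theorem quasiIso_theta_comp [QuasiIso e] (hD : KFlat D) (hP : KFlat P) [N.IsKInjective]
    (J : DRing.Cx R) [J.IsKInjective] (z : P ⊗ N ⟶ J) [QuasiIso z] :
    QuasiIso (theta φ P N ≫ (coextCx φ).map z) := by
  have hkJ : QuasiIso (kap φ D e J) := quasiIso_kap φ D e J
  have hkN : QuasiIso (kap φ D e N) := quasiIso_kap φ D e N
  have h1 : QuasiIso (P ◁ kap φ D e N) := quasiIso_whiskerLeft_of_kflatL (f := kap φ D e N) P hP.kflatL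
  have h2 : QuasiIso (z ▷ D) := quasiIso_whiskerRight_of_kflat (f := z) D hD
  have hcomp : (resCx φ).map (theta φ P N ≫ (coextCx φ).map z) ≫ kap φ D e J =
      (crossIso φ P ((coextCx φ).obj N)).inv ≫ (P ◁ kap φ D e N) ≫ (α_ P N D).inv ≫ (z ▷ D) := by
    rw [Functor.map_comp, Category.assoc]
    have := kap_nat φ D e z
    dsimp only [Functor.comp_map] at this
    rw [this, ← Category.assoc, res_theta_kap]
    simp only [Category.assoc]
  have h3 : QuasiIso ((resCx φ).map (theta φ P N ≫ (coextCx φ).map z) ≫ kap φ D e J) := by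
    rw [hcomp]
    infer_instance
  have h4 : QuasiIso ((resCx φ).map (theta φ P N ≫ (coextCx φ).map z)) :=
    quasiIso_of_comp_right _ (kap φ D e J)
  exact (HomologicalComplex.quasiIso_map_iff_of_preservesHomology
    (theta φ P N ≫ (coextCx φ).map z) (ModuleCat.restrictScalars.{u} φ)).1 h4

end Theta

section Main

variable {E : DRing.Cx R} (D : DRing.Cx R) [ExactPairing E D] (e : E ⟶ sgl (resA φ))
  (RG : Dual.D R ⥤ Dual.D A)
  (β : coextCx φ ⋙ (Q : DRing.Cx A ⥤ Dual.D A) ⟶ (Q : DRing.Cx R ⥤ Dual.D R) ⋙ RG)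
  [RG.IsRightDerivedFunctor β (HomologicalComplex.quasiIso (ModuleCat.{u} R) (ComplexShape.up ℤ))]
  (N : DRing.Cx R) (j : 𝟙_ (DRing.Cx R) ⟶ N)

/-- `P ⟶ P ⊗ N` induced by `j : 𝟙 ⟶ N` -/
noncomputable def vP (P : DRing.Cx R) : P ⟶ P ⊗ N := (ρ_ P).inv ≫ (P ◁ j)

omit [CommRing A] in
@[reassoc]
lemma vP_nat {P P' : DRing.Cx R} (f : P ⟶ P') : f ≫ vP N j P' = vP N j P ≫ (f ▷ N) := by
  dsimp only [vP]
  simp only [Category.assoc]
  rw [rightUnitor_inv_naturality_assoc, whisker_exchange]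

omit [CommRing A] in
lemma quasiIso_vP [QuasiIso j] (P : DRing.Cx R) (hP : KFlat P) : QuasiIso (vP N j P) := by
  haveI : QuasiIso (P ◁ j) := quasiIso_whiskerLeft_of_kflatL (f := j) P hP.kflatL
  dsimp only [vP]
  infer_instance

lemma isIso_RG_map_vP [QuasiIso j] (P : DRing.Cx R) (hP : KFlat P) :
    IsIso (RG.map (Q.map (vP N j P))) := by
  haveI := quasiIso_vP N j P hP
  haveI : IsIso (Q.map (vP N j P)) :=
    (DerivedCategory.isIso_Q_map_iff_quasiIso (φ := vP N j P)).2 inferInstance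
  infer_instance

variable [HasLTenMix φ]

/-- the comparison map on a K-flat complex, before inverting `RG(Q(vP))` -/
noncomputable def tauPre (P : DRing.Cx R) :
    (LTenMix φ).obj (Q.obj P, Q.obj ((coextCx φ).obj N)) ⟶ RG.obj (Q.obj (P ⊗ N)) :=
  (εMix φ).app (P, (coextCx φ).obj N) ≫ Q.map (theta φ P N) ≫ β.app (P ⊗ N)

/-- the functor `K ↦ K ⊗^L_R Hom_R(A, N)` -/
noncomputable abbrev FF : Dual.D R ⥤ Dual.D A :=
  (Functor.curry.obj (LTenMix φ)).flip.obj (Q.obj ((coextCx φ).obj N))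

omit [RG.IsRightDerivedFunctor β (HomologicalComplex.quasiIso (ModuleCat.{u} R) (ComplexShape.up ℤ))] in
lemma tauPre_nat {P P' : DRing.Cx R} (f : P ⟶ P') :
    (FF φ N).map (Q.map f) ≫ tauPre φ RG β N P' =
      tauPre φ RG β N P ≫ RG.map (Q.map (f ▷ N)) := by
  dsimp only [tauPre]
  have h1 := (εMix φ).naturality (Prod.mkHom f (𝟙 ((coextCx φ).obj N)) :
    (P, (coextCx φ).obj N) ⟶ (P', (coextCx φ).obj N))
  have h2 : (FF φ N).map (Q.map f) =
      (QMix R A ⋙ LTenMix φ).map (Prod.mkHom f (𝟙 ((coextCx φ).obj N)) :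
        (P, (coextCx φ).obj N) ⟶ (P', (coextCx φ).obj N)) := by
    dsimp
    rw [CategoryTheory.Functor.map_id]
  have h3 : (mix₂ φ).map (Prod.mkHom f (𝟙 ((coextCx φ).obj N)) :
      (P, (coextCx φ).obj N) ⟶ (P', (coextCx φ).obj N)) =
      Q.map ((extCx φ).map f ▷ (coextCx φ).obj N) := by
    dsimp
    rw [MonoidalCategory.whiskerLeft_id, Category.comp_id]
  have h4 := β.naturality (f ▷ N)
  dsimp only [Functor.comp_map] at h4
  have h5 : Q.map ((extCx φ).map f ▷ (coextCx φ).obj N) ≫ Q.map (theta φ P' N) =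
      Q.map (theta φ P N) ≫ Q.map ((coextCx φ).map (f ▷ N)) := by
    rw [← Functor.map_comp, ← Functor.map_comp, theta_nat]
  calc (FF φ N).map (Q.map f) ≫ (εMix φ).app (P', (coextCx φ).obj N) ≫ Q.map (theta φ P' N) ≫
        β.app (P' ⊗ N)
      = ((QMix R A ⋙ LTenMix φ).map (Prod.mkHom f (𝟙 ((coextCx φ).obj N)) :
          (P, (coextCx φ).obj N) ⟶ (P', (coextCx φ).obj N)) ≫
          (εMix φ).app (P', (coextCx φ).obj N)) ≫ Q.map (theta φ P' N) ≫ β.app (P' ⊗ N) := by
        rw [h2, Category.assoc]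
    _ = ((εMix φ).app (P, (coextCx φ).obj N) ≫
          Q.map ((extCx φ).map f ▷ (coextCx φ).obj N)) ≫ Q.map (theta φ P' N) ≫ β.app (P' ⊗ N) := by
        rw [h1, h3]
    _ = (εMix φ).app (P, (coextCx φ).obj N) ≫ Q.map (theta φ P N) ≫
          Q.map ((coextCx φ).map (f ▷ N)) ≫ β.app (P' ⊗ N) := by
        rw [Category.assoc, reassoc_of% h5]
    _ = ((εMix φ).app (P, (coextCx φ).obj N) ≫ Q.map (theta φ P N) ≫ β.app (P ⊗ N)) ≫
          RG.map (Q.map (f ▷ N)) := by
        rw [h4]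
        simp only [Category.assoc]

include D e in
lemma isIso_tauPre [QuasiIso e] (hD : KFlat D) [N.IsKInjective] [QuasiIso j] (P : DRing.Cx R)
    [P.IsKProjective] : IsIso (tauPre φ RG β N P) := by
  have hP : KFlat P := kflat_of_isKProjective P
  haveI : IsIso ((εMix φ).app (P, (coextCx φ).obj N)) := isIso_εMix_of_isKProjective_left φ P _
  obtain ⟨J, i, hJ, hi, -, -⟩ := KInj.exists_kInjective_resolution (ModuleCat.{u} R) P
  haveI := hJ
  haveI := hi
  haveI hv := quasiIso_vP N j P hP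
  haveI hvi : IsIso (Q.map (vP N j P)) :=
    (DerivedCategory.isIso_Q_map_iff_quasiIso (φ := vP N j P)).2 hv
  haveI hii : IsIso (Q.map i) := (DerivedCategory.isIso_Q_map_iff_quasiIso (φ := i)).2 hi
  obtain ⟨z, hz⟩ := KInj.exists_Q_map_eq (K := P ⊗ N) (L := J) (inv (Q.map (vP N j P)) ≫ Q.map i)
  haveI hzi : IsIso (Q.map z) := by
    rw [hz]
    infer_instance
  haveI hzq : QuasiIso z := (DerivedCategory.isIso_Q_map_iff_quasiIso (φ := z)).1 hzi
  haveI hβJ : IsIso (β.app J) := KInj.isIso_app_of_isKInjective (Gc φ) RG β J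
  have hnat := β.naturality z
  dsimp only [Functor.comp_map] at hnat
  haveI hq := quasiIso_theta_comp φ P N D e hD hP J z
  haveI hqi : IsIso (Q.map (theta φ P N ≫ (coextCx φ).map z)) :=
    (DerivedCategory.isIso_Q_map_iff_quasiIso (φ := theta φ P N ≫ (coextCx φ).map z)).2 hq
  have h1 : Q.map (theta φ P N) ≫ β.app (P ⊗ N) =
      Q.map (theta φ P N ≫ (coextCx φ).map z) ≫ β.app J ≫ inv (RG.map (Q.map z)) := by
    rw [Functor.map_comp, Category.assoc, reassoc_of% hnat, IsIso.hom_inv_id, Category.comp_id]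
  dsimp only [tauPre]
  rw [h1]
  infer_instance

include D e β in
/-- `RG ≅ (- ⊗^L_R Hom_R(A, N))` where `N` is a K-injective resolution of `R` and `A ≃ E` has a dual `D` -/
theorem nonempty_RG_iso [QuasiIso e] (hD : KFlat D) [N.IsKInjective] [QuasiIso j] :
    Nonempty (RG ≅ FF φ N) := by
  have hvi : ∀ (P : DRing.Cx R), P.IsKProjective → IsIso (RG.map (Q.map (vP N j P))) :=
    fun P hP => isIso_RG_map_vP (RG := RG) (N := N) (j := j) P (kflat_of_isKProjective P)
  have hti : ∀ (P : DRing.Cx R), P.IsKProjective → IsIso (tauPre φ RG β N P) :=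
    fun P hP => isIso_tauPre (φ := φ) (D := D) (e := e) (RG := RG) (β := β) (N := N) (j := j) hD P
  obtain ⟨iso⟩ := nonempty_natIso_of_kproj (FF φ N) RG
    (fun P hP =>
      haveI := hvi P hP
      haveI := hti P hP
      asIso (tauPre φ RG β N P) ≪≫ (asIso (RG.map (Q.map (vP N j P)))).symm)
    (fun P P' hP hP' f => by
      haveI := hvi P hP
      haveI := hvi P' hP'
      dsimp only [Iso.trans_hom, asIso_hom, Iso.symm_hom, asIso_inv]
      rw [reassoc_of% (tauPre_nat φ RG β N f), Category.assoc]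
      congr 1
      rw [IsIso.eq_inv_comp, ← Category.assoc, IsIso.comp_inv_eq, ← Functor.map_comp,
        ← Functor.map_comp, ← Functor.map_comp, ← Functor.map_comp, vP_nat])
  exact ⟨iso.symm⟩

end Main

end Groth.Agent.Lib.H6xRel
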