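import Mathlib
import Groth.Agent.Lib.H6xRelF
import Groth.Agent.Lib.H6xGrDualD
set_option backward.isDefEq.respectTransparency.types false

/-!
# helper6: `RHom_R(A, -) ≅ - ⊗^L_R RHom_R(A, R)` for `A` perfect over `R` (final assembly)
-/

set_option autoImplicit false
set_option linter.style.haveILetI false
universe u
open CategoryTheory CategoryTheory.Limits MonoidalCategory HomologicalComplex TensorProduct
attribute [local instance] HasDerivedCategory.standard

namespace Groth.Agent.Lib.H6xRel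

open DTen DerivedCategory Groth.Agent.Lib.Helper1.KF Groth.Agent.Lib.Helper1.DT Groth.Agent.Lib.Helper17
  Groth.Agent.Lib.H6xCoext Groth.Agent.Lib.H6xShk

variable {R A : Type u} [CommRing R] [CommRing A] (φ : R →+* A)

/-- `A[0]|_R ≅ Q(A|_R[0])` -/
noncomputable def resUnitIso : (DRing.restrictD φ).obj (DTen.unit A) ≅ Q.obj (sgl (resA φ)) :=
  (resFactors φ).app (𝟙_ (DRing.Cx A)) ≪≫
    Q.mapIso ((HomologicalComplex.singleMapHomologicalComplex (ModuleCat.restrictScalars.{u} φ)
      (ComplexShape.up ℤ) 0).app (ModuleCat.of A A))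

/-- the core statement: for any right derived functor `RG` of coextension of scalars -/
theorem nonempty_iso_of_isPerfect [HasRHomRel φ] [HasLTenMix φ]
    (hA : DRing.IsPerfect R ((DRing.restrictD φ).obj (DTen.unit A))) :
    Nonempty (RHomRel φ ≅
      (Functor.curry.obj (LTenMix φ)).flip.obj ((RHomRel φ).obj (DTen.unit R))) := by
  obtain ⟨E, a, b, hab, hE, ⟨e0⟩⟩ := hA
  letI : ExactPairing E (H6xGrDual.dCx E) := H6xGrDual.dualExactPairing E a b hab hE
  have hD : KFlat (H6xGrDual.dCx E) :=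
    H6xGrDual.kflat_dCx E a (fun i hi => hab i (Or.inl hi)) hE
  haveI : E.IsKProjective := by
    haveI : E.IsStrictlyLE b := by
      rw [CochainComplex.isStrictlyLE_iff]
      intro i hi
      exact hab i (Or.inr hi)
    haveI : ∀ n, Projective (E.X n) := fun n => by
      haveI := (hE n).2
      infer_instance
    exact CochainComplex.isKProjective_of_projective E b
  obtain ⟨e, he⟩ := Q_map_surjective E (sgl (resA φ)) (e0.hom ≫ (resUnitIso φ).hom)
  haveI : IsIso (Q.map e) := by
    rw [he]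
    infer_instance
  haveI : QuasiIso e := (DerivedCategory.isIso_Q_map_iff_quasiIso (φ := e)).1 inferInstance
  obtain ⟨RG, β, hβ⟩ := exists_RG φ
  haveI := hβ
  let adjD : DRing.restrictD φ ⊣ RG := KInj.derivedAdjunction.{u} (Fr φ) (Gc φ) (adjFG φ) RG β
  let i1 : RHomRel φ ≅ RG := Adjunction.rightAdjointUniq (relAdj φ) adjD
  obtain ⟨N, j, hN, hj, -, -⟩ :=
    KInj.exists_kInjective_resolution (ModuleCat.{u} R) (𝟙_ (DRing.Cx R))
  haveI := hN
  haveI := hj
  obtain ⟨i2⟩ := nonempty_RG_iso φ (H6xGrDual.dCx E) e RG β N j hD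
  haveI : IsIso (Q.map j) := (DerivedCategory.isIso_Q_map_iff_quasiIso (φ := j)).2 hj
  haveI : IsIso (β.app N) := KInj.isIso_app_of_isKInjective (Gc φ) RG β N
  let i3 : (RHomRel φ).obj (DTen.unit R) ≅ Q.obj ((coextCx φ).obj N) :=
    i1.app _ ≪≫ RG.mapIso (asIso (Q.map j)) ≪≫ (asIso (β.app N)).symm
  exact ⟨i1 ≪≫ i2 ≪≫ ((Functor.curry.obj (LTenMix φ)).flip).mapIso i3.symm⟩

end Groth.Agent.Lib.H6xRel
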