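import Mathlib
set_option backward.isDefEq.respectTransparency.types false

/-!
# helper6: a two-term complex `[K^a ↪ K^b]` is quasi-isomorphic to its cokernel placed in degree `b`
-/

set_option autoImplicit false
set_option linter.style.haveILetI false
universe u
open CategoryTheory CategoryTheory.Limits HomologicalComplex

namespace Groth.Agent.Lib.H6xRel

section TwoTerm

variable {C : Type*} [Category C] [Abelian C] (K : CochainComplex C ℤ) (a b : ℤ) (hab : a + 1 = b)
  (hK : ∀ i : ℤ, i ≠ a → i ≠ b → IsZero (K.X i)) (M : C) (p : K.X b ⟶ M)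
  (w : K.d a b ≫ p = 0)

include hab hK w in
lemma twoTerm_d_comp (i : ℤ) (_ : (ComplexShape.up ℤ).Rel i b) : K.d i b ≫ p = 0 := by
  by_cases hi : i = a
  · subst hi
    exact w
  · have : ¬ (ComplexShape.up ℤ).Rel i b := by
      simp only [ComplexShape.up_Rel]
      omega
    rw [K.shape _ _ this, zero_comp]

/-- the map `K ⟶ M[-b]` -/
noncomputable def twoTermMap : K ⟶ (single C (ComplexShape.up ℤ) b).obj M :=
  mkHomToSingle p (twoTerm_d_comp K a b hab hK M p w)

lemma twoTermMap_f : (twoTermMap K a b hab hK M p w).f b =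
    p ≫ (singleObjXSelf (ComplexShape.up ℤ) b M).inv :=
  mkHomToSingle_f _ _

theorem quasiIso_twoTermMap [Mono (K.d a b)] [Epi p]
    (hex : (ShortComplex.mk (K.d a b) p w).Exact) :
    QuasiIso (twoTermMap K a b hab hK M p w) := by
  rw [quasiIso_iff]
  intro i
  by_cases hi : i = b
  · subst hi
    rw [quasiIsoAt_iff' _ a i (i + 1) (by simp; omega) (by simp)]
    have hz : IsZero (K.X (i + 1)) := hK _ (by omega) (by omega)
    rw [ShortComplex.quasiIso_iff_of_zeros' _ (hz.eq_of_tgt _ _)
      (single_obj_d (ComplexShape.up ℤ) i M a i) (single_obj_d (ComplexShape.up ℤ) i M i (i + 1))]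
    constructor
    · have hw : K.d a i ≫ (twoTermMap K a i hab hK M p w).f i = 0 := by
        rw [twoTermMap_f, reassoc_of% w, zero_comp]
      change (ShortComplex.mk (K.d a i) ((twoTermMap K a i hab hK M p w).f i) hw).Exact
      refine (ShortComplex.exact_iff_of_iso (S₁ := ShortComplex.mk (K.d a i) p w)
        (S₂ := ShortComplex.mk (K.d a i) ((twoTermMap K a i hab hK M p w).f i) hw)
        (ShortComplex.isoMk (Iso.refl _) (Iso.refl _)
        (singleObjXSelf (ComplexShape.up ℤ) i M).symm ?_ ?_)).1 hex
      · simp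
      · dsimp
        rw [twoTermMap_f, Category.id_comp]
    · change Epi ((twoTermMap K a i hab hK M p w).f i)
      rw [twoTermMap_f]
      infer_instance
  · rw [quasiIsoAt_iff_exactAt' _ _ (exactAt_single_obj _ _ _ _ hi)]
    by_cases hia : i = a
    · subst hia
      rw [K.exactAt_iff' (i - 1) i b (by simp) (by simp; omega)]
      have hz : IsZero (K.X (i - 1)) := hK _ (by omega) (by omega)
      rw [ShortComplex.exact_iff_mono _ (hz.eq_of_src _ _)]
      exact (inferInstance : Mono (K.d i b))
    · exact ShortComplex.exact_of_isZero_X₂ _ (hK i hia hi)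

end TwoTerm

end Groth.Agent.Lib.H6xRel
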