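import Mathlib
set_option backward.isDefEq.respectTransparency.types false

/-!
# helper6: `0 → R^∨ → I^∨ → N → 0` for an invertible ideal `I = ker(R ↠ A)` and `N = (A ⊗ I)^{-1}`
-/

set_option autoImplicit false
set_option linter.style.haveILetI false
universe u
open TensorProduct

namespace Groth.Agent.Lib.H6xRel

section ML

variable (R A : Type u) [CommRing R] [CommRing A] [Algebra R A]
  [Module.Invertible R (RingHom.ker (algebraMap R A))]
  (N : Type u) [AddCommGroup N] [Module A N]
  (e : (A ⊗[R] (RingHom.ker (algebraMap R A))) ⊗[A] N ≃ₗ[A] A)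

/-- `N ≃ Hom_R(I, A)` -/
noncomputable def psi : N ≃ₗ[A] ((RingHom.ker (algebraMap R A)) →ₗ[R] A) :=
  Module.Invertible.linearEquivDual
      (TensorProduct.comm A N (A ⊗[R] (RingHom.ker (algebraMap R A))) ≪≫ₗ e) ≪≫ₗ
    (LinearMap.liftBaseChangeEquiv A).symm

/-- the semilinear surjection `I^∨ → N` -/
noncomputable def pML :
    Module.Dual R (RingHom.ker (algebraMap R A)) →ₛₗ[algebraMap R A] N where
  toFun g := (psi R A N e).symm ((Algebra.linearMap R A) ∘ₗ g)
  map_add' g g' := by
    rw [LinearMap.comp_add, map_add]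
  map_smul' r g := by
    rw [LinearMap.comp_smul, ← algebraMap_smul A r ((Algebra.linearMap R A) ∘ₗ g), map_smul]

omit [Module.Invertible R (RingHom.ker (algebraMap R A))] in
lemma pML_apply (g : Module.Dual R (RingHom.ker (algebraMap R A))) :
    pML R A N e g = (psi R A N e).symm ((Algebra.linearMap R A) ∘ₗ g) := rfl

omit [Module.Invertible R (RingHom.ker (algebraMap R A))] in
lemma pML_eq_zero_iff (g : Module.Dual R (RingHom.ker (algebraMap R A))) :
    pML R A N e g = 0 ↔ ∀ x, g x ∈ RingHom.ker (algebraMap R A) := by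
  rw [pML_apply, LinearEquiv.map_eq_zero_iff]
  constructor
  · intro h x
    have := LinearMap.congr_fun h x
    exact (RingHom.mem_ker (f := algebraMap R A)).2 this
  · intro h
    ext x
    exact (RingHom.mem_ker (f := algebraMap R A)).1 (h x)

lemma forall_mem_ker_iff (g : Module.Dual R (RingHom.ker (algebraMap R A))) :
    (∀ x, g x ∈ RingHom.ker (algebraMap R A)) ↔
      g ∈ LinearMap.range (RingHom.ker (algebraMap R A)).subtype.dualMap := by
  constructor
  · intro h
    let g' : (RingHom.ker (algebraMap R A)) →ₗ[R] (RingHom.ker (algebraMap R A)) :=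
      LinearMap.codRestrict _ g h
    obtain ⟨r, hr⟩ := (Module.Invertible.toModuleEnd_bijective R
      (RingHom.ker (algebraMap R A))).2 g'
    refine ⟨r • LinearMap.id, ?_⟩
    ext x
    have := congrArg (fun f => ((f x : RingHom.ker (algebraMap R A)) : R)) hr
    exact this
  · rintro ⟨h, rfl⟩ x
    have : (RingHom.ker (algebraMap R A)).subtype.dualMap h x = (x : R) * h 1 := by
      change h (x : R) = _
      conv_lhs => rw [← mul_one (x : R), ← smul_eq_mul, map_smul, smul_eq_mul]
    rw [this]
    exact Ideal.mul_mem_right _ _ x.2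

lemma pML_exact :
    Function.Exact (RingHom.ker (algebraMap R A)).subtype.dualMap (pML R A N e) := by
  intro g
  rw [pML_eq_zero_iff, forall_mem_ker_iff]
  rfl

lemma pML_surjective (hφ : Function.Surjective (algebraMap R A)) :
    Function.Surjective (pML R A N e) := by
  intro n
  obtain ⟨g, hg⟩ := Module.projective_lifting_property (Algebra.linearMap R A)
    (psi R A N e n) hφ
  refine ⟨g, ?_⟩
  rw [pML_apply, hg, LinearEquiv.symm_apply_apply]

lemma dualMap_subtype_injective :
    Function.Injective (RingHom.ker (algebraMap R A)).subtype.dualMap := by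
  rw [← LinearMap.ker_eq_bot, LinearMap.ker_eq_bot']
  intro h hh
  have h1 : h 1 = 0 := by
    apply (inferInstance : FaithfulSMul R (RingHom.ker (algebraMap R A))).eq_of_smul_eq_smul
    intro x
    rw [zero_smul]
    apply Subtype.ext
    have := LinearMap.congr_fun hh x
    change h (x : R) = 0 at this
    rw [← mul_one (x : R), ← smul_eq_mul, map_smul, smul_eq_mul, mul_comm] at this
    exact this
  apply LinearMap.ext_ring
  rw [h1, LinearMap.zero_apply]

end ML

end Groth.Agent.Lib.H6xRel
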