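import Mathlib
import Groth.Agent.Lib.H6xRelG
import Groth.Agent.Lib.H6xRelH
import Groth.Agent.Lib.H6xRelI
import Groth.Agent.Lib.Helper1Restrict
set_option backward.isDefEq.respectTransparency.types false

/-!
# helper6: `RHom_R(A, -) ≅ - ⊗^L N[-1]` for `A = R/I`, `I` invertible
-/

set_option autoImplicit false
set_option linter.style.haveILetI false
universe u
open CategoryTheory CategoryTheory.Limits MonoidalCategory HomologicalComplex TensorProduct
attribute [local instance] HasDerivedCategory.standard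

namespace Groth.Agent.Lib.H6xRel

open DTen DerivedCategory Groth.Agent.Lib.Helper1.KF Groth.Agent.Lib.Helper1.DT Groth.Agent.Lib.Helper17
  Groth.Agent.Lib.H6xCoext Groth.Agent.Lib.H6xShk Groth.Agent.Lib.H6xGrDual

section Aux

variable {R : Type u} [CommRing R]

lemma dMap_id (M : ModuleCat.{u} R) : dMap (𝟙 M) = 𝟙 (dM M) := by
  ext φ x
  rfl

/-- `dMap` of an isomorphism -/
noncomputable def dMapIso {M M' : ModuleCat.{u} R} (i : M ≅ M') : dM M' ≅ dM M where
  hom := dMap i.hom
  inv := dMap i.inv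
  hom_inv_id := by rw [← dMap_comp, i.inv_hom_id, dMap_id]
  inv_hom_id := by rw [← dMap_comp, i.hom_inv_id, dMap_id]

/-- the negative of an isomorphism -/
noncomputable def negIso {C : Type*} [Category C] [Preadditive C] {X Y : C} (i : X ≅ Y) : X ≅ Y where
  hom := -i.hom
  inv := -i.inv
  hom_inv_id := by simp
  inv_hom_id := by simp

lemma isZero_dM {M : ModuleCat.{u} R} (h : IsZero M) : IsZero (dM M) := by
  haveI := ModuleCat.subsingleton_of_isZero h
  haveI : Subsingleton (Module.Dual R M) := ⟨fun f g => by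
    ext x
    rw [Subsingleton.elim x 0, map_zero, map_zero]⟩
  exact ModuleCat.isZero_of_subsingleton _

end Aux

section Cx

variable (R A : Type u) [CommRing R] [CommRing A] [Algebra R A]

/-- the inclusion `I ⟶ R` -/
noncomputable def incl : ModuleCat.of R (RingHom.ker (algebraMap R A)) ⟶ ModuleCat.of R R :=
  ModuleCat.ofHom (RingHom.ker (algebraMap R A)).subtype

lemma relNegOne : (ComplexShape.up ℤ).Rel (-1) 0 := by simp

/-- the resolution `[I → R]` of `A` -/
noncomputable def EE : DRing.Cx R := HomologicalComplex.double (incl R A) relNegOne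

noncomputable def iI : (EE R A).X (-1) ≅ ModuleCat.of R (RingHom.ker (algebraMap R A)) :=
  doubleXIso₀ _ _

noncomputable def iR : (EE R A).X 0 ≅ ModuleCat.of R R :=
  doubleXIso₁ _ _ (by decide)

lemma EE_d : (EE R A).d (-1) 0 = (iI R A).hom ≫ incl R A ≫ (iR R A).inv :=
  double_d _ _ _

lemma isZero_EE_X (i : ℤ) (h1 : i ≠ -1) (h0 : i ≠ 0) : IsZero ((EE R A).X i) :=
  isZero_double_X _ _ i h1 h0

lemma D_d : (dCx (EE R A)).d 0 1 = - dMap ((EE R A).d (-1) 0) := by
  rw [dCx_d]
  show (0 + 1 : ℤ).negOnePow • dMap ((EE R A).d (-1) 0) = _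
  simp

/-- the quotient map `R ⟶ A|_R` -/
noncomputable def piA : ModuleCat.of R R ⟶ resA (algebraMap R A) :=
  ModuleCat.semilinearMapAddEquiv (algebraMap R A) (ModuleCat.of R R) (ModuleCat.of A A)
    (algebraMap R A).toSemilinearMap

lemma piA_apply (r : R) : (piA R A).hom r = algebraMap R A r := rfl

lemma incl_piA : incl R A ≫ piA R A = 0 := by
  ext x
  exact (RingHom.mem_ker (f := algebraMap R A)).1 x.2

/-- the short exact sequence `0 → I → R → A → 0` -/
noncomputable def sE0 : ShortComplex (ModuleCat.{u} R) :=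
  ShortComplex.mk (incl R A) (piA R A) (incl_piA R A)

lemma sE0_shortExact (hφ : Function.Surjective (algebraMap R A)) : (sE0 R A).ShortExact where
  exact := by
    rw [ShortComplex.moduleCat_exact_iff]
    intro x hx
    exact ⟨⟨x, (RingHom.mem_ker (f := algebraMap R A)).2 hx⟩, rfl⟩
  mono_f := (ModuleCat.mono_iff_injective _).2 Subtype.val_injective
  epi_g := (ModuleCat.epi_iff_surjective _).2 hφ

/-- `E^0 → A` -/
noncomputable def pE : (EE R A).X 0 ⟶ resA (algebraMap R A) := (iR R A).hom ≫ piA R A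

lemma EE_d_pE : (EE R A).d (-1) 0 ≫ pE R A = 0 := by
  rw [EE_d, pE]
  simp only [Category.assoc, Iso.inv_hom_id_assoc, incl_piA, comp_zero]

/-- the short complex `E^{-1} → E^0 → A` -/
noncomputable def sE : ShortComplex (ModuleCat.{u} R) :=
  ShortComplex.mk ((EE R A).d (-1) 0) (pE R A) (EE_d_pE R A)

noncomputable def sEIso : sE0 R A ≅ sE R A :=
  ShortComplex.isoMk (iI R A).symm (iR R A).symm (Iso.refl _)
    (by
      dsimp [sE0, sE]
      rw [EE_d, Iso.inv_hom_id_assoc])
    (by
      dsimp [sE0, sE, pE]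
      rw [Iso.inv_hom_id_assoc, Category.comp_id])

lemma sE_shortExact (hφ : Function.Surjective (algebraMap R A)) : (sE R A).ShortExact :=
  ShortComplex.shortExact_of_iso (sEIso R A) (sE0_shortExact R A hφ)

/-- the augmentation `E ⟶ A[0]` -/
noncomputable def eMap : EE R A ⟶ sgl (resA (algebraMap R A)) :=
  twoTermMap (EE R A) (-1) 0 (by norm_num) (isZero_EE_X R A) (resA (algebraMap R A)) (pE R A)
    (EE_d_pE R A)

lemma quasiIso_eMap (hφ : Function.Surjective (algebraMap R A)) : QuasiIso (eMap R A) := by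
  have h := sE_shortExact R A hφ
  haveI : Mono ((EE R A).d (-1) 0) := h.mono_f
  haveI : Epi (pE R A) := h.epi_g
  exact quasiIso_twoTermMap (EE R A) (-1) 0 (by norm_num) (isZero_EE_X R A)
    (resA (algebraMap R A)) (pE R A) (EE_d_pE R A) h.exact

lemma vanishesOutside_EE : DRing.VanishesOutside (EE R A) (-1) 0 := by
  intro i hi
  exact isZero_EE_X R A i (by omega) (by omega)

lemma termwise_EE [Module.Invertible R (RingHom.ker (algebraMap R A))] :
    DRing.TermwiseFiniteProjective (EE R A) := by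
  intro i
  by_cases h1 : i = -1
  · subst h1
    exact ⟨Module.Finite.equiv (iI R A).symm.toLinearEquiv,
      Module.Projective.of_equiv (iI R A).symm.toLinearEquiv⟩
  · by_cases h0 : i = 0
    · subst h0
      exact ⟨Module.Finite.equiv (iR R A).symm.toLinearEquiv,
        Module.Projective.of_equiv (iR R A).symm.toLinearEquiv⟩
    · haveI : Subsingleton ((EE R A).X i) :=
        ModuleCat.subsingleton_of_isZero (isZero_EE_X R A i h1 h0)
      exact ⟨inferInstance, inferInstance⟩

section DSide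

variable [Module.Invertible R (RingHom.ker (algebraMap R A))]
  (N : Type u) [AddCommGroup N] [Module A N]
  (e : (A ⊗[R] (RingHom.ker (algebraMap R A))) ⊗[A] N ≃ₗ[A] A)

/-- `N` as an `R`-module -/
noncomputable abbrev NR : ModuleCat.{u} R :=
  (ModuleCat.restrictScalars.{u} (algebraMap R A)).obj (ModuleCat.of A N)

/-- `I^∨ ⟶ N` -/
noncomputable def pCat : dM (ModuleCat.of R (RingHom.ker (algebraMap R A))) ⟶ NR R A N :=
  ModuleCat.semilinearMapAddEquiv (algebraMap R A)
    (dM (ModuleCat.of R (RingHom.ker (algebraMap R A)))) (ModuleCat.of A N) (pML R A N e)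

omit [Module.Invertible R (RingHom.ker (algebraMap R A))] in
lemma pCat_apply (g : Module.Dual R (RingHom.ker (algebraMap R A))) :
    (pCat R A N e).hom g = pML R A N e g := rfl

lemma dMap_incl_pCat : dMap (incl R A) ≫ pCat R A N e = 0 := by
  ext h
  exact (pML_exact R A N e _).2 ⟨h, rfl⟩

/-- the short exact sequence `0 → R^∨ → I^∨ → N → 0` -/
noncomputable def sD0 : ShortComplex (ModuleCat.{u} R) :=
  ShortComplex.mk (dMap (incl R A)) (pCat R A N e) (dMap_incl_pCat R A N e)

lemma sD0_shortExact (hφ : Function.Surjective (algebraMap R A)) : (sD0 R A N e).ShortExact where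
  exact := by
    rw [ShortComplex.moduleCat_exact_iff]
    intro g hg
    exact (pML_exact R A N e g).1 hg
  mono_f := (ModuleCat.mono_iff_injective _).2 (dualMap_subtype_injective R A)
  epi_g := (ModuleCat.epi_iff_surjective _).2 (pML_surjective R A N e hφ)

/-- `D^1 → N` -/
noncomputable def pD : dM ((EE R A).X (-1)) ⟶ NR R A N := dMap (iI R A).inv ≫ pCat R A N e

/-- `D^0 → D^1` -/
noncomputable def dD : dM ((EE R A).X 0) ⟶ dM ((EE R A).X (-1)) := - dMap ((EE R A).d (-1) 0)

lemma dD_pD : dD R A ≫ pD R A N e = 0 := by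
  have h : dMap ((EE R A).d (-1) 0) ≫ pD R A N e = 0 := by
    rw [EE_d, pD, dMap_comp, dMap_comp, Category.assoc, Category.assoc,
      ← Category.assoc (dMap (iI R A).hom), ← dMap_comp, Iso.inv_hom_id, dMap_id, Category.id_comp,
      dMap_incl_pCat, comp_zero]
  rw [dD, Preadditive.neg_comp, h, neg_zero]

/-- the short complex `D^0 → D^1 → N` -/
noncomputable def sD : ShortComplex (ModuleCat.{u} R) :=
  ShortComplex.mk (dD R A) (pD R A N e) (dD_pD R A N e)

noncomputable def sDIso : sD0 R A N e ≅ sD R A N e :=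
  ShortComplex.isoMk (negIso (dMapIso (iR R A))) (dMapIso (iI R A)) (Iso.refl _)
    (by
      dsimp [sD0, sD, negIso, dMapIso, dD]
      rw [EE_d, Preadditive.neg_comp, Preadditive.comp_neg, neg_neg, ← dMap_comp,
        ← dMap_comp]
      simp only [Category.assoc, Iso.inv_hom_id, Category.comp_id])
    (by
      dsimp [sD0, sD, dMapIso, pD]
      rw [← Category.assoc, ← dMap_comp, Iso.inv_hom_id, dMap_id, Category.id_comp,
        Category.comp_id])

lemma sD_shortExact (hφ : Function.Surjective (algebraMap R A)) : (sD R A N e).ShortExact :=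
  ShortComplex.shortExact_of_iso (sDIso R A N e) (sD0_shortExact R A N e hφ)

omit [Module.Invertible R (RingHom.ker (algebraMap R A))] in
lemma isZero_D_X (i : ℤ) (h0 : i ≠ 0) (h1 : i ≠ 1) : IsZero ((dCx (EE R A)).X i) :=
  isZero_dM (isZero_EE_X R A (-i) (by omega) (by omega))

omit [Module.Invertible R (RingHom.ker (algebraMap R A))] in
lemma D_d' : (dCx (EE R A)).d 0 1 = dD R A := D_d R A

lemma D_d_pD : (dCx (EE R A)).d 0 1 ≫ pD R A N e = 0 := by
  rw [D_d']
  exact dD_pD R A N e

/-- the augmentation `D ⟶ N[-1]` -/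
noncomputable def qD :
    dCx (EE R A) ⟶ (HomologicalComplex.single (ModuleCat.{u} R) (ComplexShape.up ℤ) 1).obj (NR R A N) :=
  twoTermMap (dCx (EE R A)) 0 1 (by norm_num) (isZero_D_X R A) (NR R A N) (pD R A N e)
    (D_d_pD R A N e)

lemma quasiIso_qD (hφ : Function.Surjective (algebraMap R A)) : QuasiIso (qD R A N e) := by
  have h := sD_shortExact R A N e hφ
  haveI : Mono ((dCx (EE R A)).d 0 1) := by
    rw [D_d']
    exact h.mono_f
  haveI : Epi (show (dCx (EE R A)).X 1 ⟶ NR R A N from pD R A N e) := h.epi_g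
  refine quasiIso_twoTermMap (dCx (EE R A)) 0 1 (by norm_num) (isZero_D_X R A)
    (NR R A N) (pD R A N e) (D_d_pD R A N e) ?_
  have h1 : ∀ (d' : (dCx (EE R A)).X 0 ⟶ (dCx (EE R A)).X 1) (hd : d' = dD R A)
      (w : d' ≫ pD R A N e = 0), (ShortComplex.mk d' (pD R A N e) w).Exact := by
    intro d' hd w
    subst hd
    exact h.exact
  exact h1 _ (D_d' R A) _

end DSide

end Cx

section Lift

variable {R A : Type u} [CommRing R] [CommRing A] (φ : R →+* A)

/-- an `R`-linear isomorphism between `A`-modules is `A`-linear when `R → A` is surjective -/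
lemma nonempty_iso_of_restrict_iso (hφ : Function.Surjective φ) (Y Y' : ModuleCat.{u} A)
    (i : (ModuleCat.restrictScalars.{u} φ).obj Y ≅ (ModuleCat.restrictScalars.{u} φ).obj Y') :
    Nonempty (Y ≅ Y') := by
  refine ⟨LinearEquiv.toModuleIso (X₁ := Y) (X₂ := Y')
    { toFun := fun y => i.hom.hom y
      invFun := fun y' => i.inv.hom y'
      left_inv := fun y => congrArg (fun f => f.hom y) i.hom_inv_id
      right_inv := fun y' => congrArg (fun f => f.hom y') i.inv_hom_id
      map_add' := fun y y' => map_add i.hom.hom y y'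
      map_smul' := fun a y => by
        obtain ⟨r, rfl⟩ := hφ a
        exact i.hom.hom.map_smul r y }⟩

end Lift

section Main

variable (R A : Type u) [CommRing R] [CommRing A] [Algebra R A]
  (hφ : Function.Surjective (algebraMap R A))
  [Module.Invertible R (RingHom.ker (algebraMap R A))]
  (N : Type u) [AddCommGroup N] [Module A N]
  (e : (A ⊗[R] (RingHom.ker (algebraMap R A))) ⊗[A] N ≃ₗ[A] A)

include hφ e in
theorem main_invertible [HasRHomRel (algebraMap R A)] [HasLTenMix (algebraMap R A)] :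
    Nonempty (RHomRel (algebraMap R A) ≅
      (Functor.curry.obj (LTenMix (algebraMap R A))).flip.obj ((Dual.inD A N)⟦(-1 : ℤ)⟧)) := by
  have hab := vanishesOutside_EE R A
  have hE := termwise_EE R A
  letI : ExactPairing (EE R A) (dCx (EE R A)) := dualExactPairing (EE R A) (-1) 0 hab hE
  have hD : KFlat (dCx (EE R A)) := kflat_dCx (EE R A) (-1) (fun i hi => hab i (Or.inl hi)) hE
  haveI : QuasiIso (eMap R A) := quasiIso_eMap R A hφ
  obtain ⟨RG, β, hβ⟩ := exists_RG (algebraMap R A)
  haveI := hβ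
  let adjD : DRing.restrictD (algebraMap R A) ⊣ RG :=
    KInj.derivedAdjunction.{u} (Fr (algebraMap R A)) (Gc (algebraMap R A)) (adjFG (algebraMap R A)) RG β
  let i1 : RHomRel (algebraMap R A) ≅ RG :=
    Adjunction.rightAdjointUniq (relAdj (algebraMap R A)) adjD
  obtain ⟨J, j, hJ, hj, -, -⟩ :=
    KInj.exists_kInjective_resolution (ModuleCat.{u} R) (𝟙_ (DRing.Cx R))
  haveI := hJ
  haveI := hj
  obtain ⟨i2⟩ := nonempty_RG_iso (algebraMap R A) (dCx (EE R A)) (eMap R A) RG β J j hD
  haveI h1 : QuasiIso (kap (algebraMap R A) (dCx (EE R A)) (eMap R A) J) :=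
    quasiIso_kap (algebraMap R A) (dCx (EE R A)) (eMap R A) J
  haveI h2 : QuasiIso (j ▷ dCx (EE R A)) :=
    quasiIso_whiskerRight_of_kflat (f := j) (dCx (EE R A)) hD
  haveI h3 : QuasiIso (qD R A N e) := quasiIso_qD R A N e hφ
  haveI h1' : IsIso (Q.map (kap (algebraMap R A) (dCx (EE R A)) (eMap R A) J)) :=
    (DerivedCategory.isIso_Q_map_iff_quasiIso (φ := kap (algebraMap R A) (dCx (EE R A)) (eMap R A) J)).2 h1
  haveI h2' : IsIso (Q.map (j ▷ dCx (EE R A))) :=
    (DerivedCategory.isIso_Q_map_iff_quasiIso (φ := j ▷ dCx (EE R A))).2 h2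
  haveI h3' : IsIso (Q.map (qD R A N e)) :=
    (DerivedCategory.isIso_Q_map_iff_quasiIso (φ := qD R A N e)).2 h3
  let K : DRing.Cx A := (coextCx (algebraMap R A)).obj J
  let hres : (DRing.restrictD (algebraMap R A)).obj (Q.obj K) ≅
      (singleFunctor (ModuleCat.{u} R) 1).obj (NR R A N) :=
    (resFactors (algebraMap R A)).app K ≪≫
      asIso (Q.map (kap (algebraMap R A) (dCx (EE R A)) (eMap R A) J)) ≪≫
      (asIso (Q.map (j ▷ dCx (EE R A)))).symm ≪≫ Q.mapIso (λ_ (dCx (EE R A))) ≪≫
      asIso (Q.map (qD R A N e)) ≪≫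
      ((singleFunctorIsoCompQ (ModuleCat.{u} R) 1).app (NR R A N)).symm
  haveI : ((DRing.restrictD (algebraMap R A)).obj (Q.obj K)).IsLE 1 :=
    DerivedCategory.TStructure.t.isLE_of_iso hres.symm 1
  haveI : ((DRing.restrictD (algebraMap R A)).obj (Q.obj K)).IsGE 1 :=
    DerivedCategory.TStructure.t.isGE_of_iso hres.symm 1
  haveI : (Q.obj K).IsLE 1 :=
    (Groth.Agent.Lib.Helper1.Restrict.isLE_restrictD_iff (algebraMap R A) _ 1).1 inferInstance
  haveI : (Q.obj K).IsGE 1 :=
    (Groth.Agent.Lib.Helper1.Restrict.isGE_restrictD_iff (algebraMap R A) _ 1).1 inferInstance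
  obtain ⟨Y, ⟨iY⟩⟩ := exists_iso_singleFunctor_obj_of_isGE_of_isLE (Q.obj K) 1
  let i5 : (singleFunctor (ModuleCat.{u} R) 1).obj
        ((ModuleCat.restrictScalars.{u} (algebraMap R A)).obj Y) ≅
      (singleFunctor (ModuleCat.{u} R) 1).obj (NR R A N) :=
    (((ModuleCat.restrictScalars.{u} (algebraMap R A)).mapDerivedCategorySingleFunctor 1).app Y).symm ≪≫
      (DRing.restrictD (algebraMap R A)).mapIso iY.symm ≪≫ hres
  let i6 : (ModuleCat.restrictScalars.{u} (algebraMap R A)).obj Y ≅ NR R A N :=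
    (singleFunctor (ModuleCat.{u} R) 1).preimageIso i5
  obtain ⟨i7⟩ := nonempty_iso_of_restrict_iso (algebraMap R A) hφ Y (ModuleCat.of A N) i6
  let i8 : Q.obj K ≅ (Dual.inD A N)⟦(-1 : ℤ)⟧ :=
    iY ≪≫ (singleFunctor (ModuleCat.{u} A) 1).mapIso i7 ≪≫
      ((singleFunctors (ModuleCat.{u} A)).shiftIso (-1) 1 0 (by norm_num)).symm.app
        (ModuleCat.of A N)
  exact ⟨i1 ≪≫ i2 ≪≫ ((Functor.curry.obj (LTenMix (algebraMap R A))).flip).mapIso i8⟩

end Main

end Groth.Agent.Lib.H6xRel
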