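import Mathlib
import Groth.Agent.Lib.H6xRelTorAmpE
import Groth.Agent.S7037
import Groth.Agent.S6954
import Groth.Prelude.Def_DualSh
set_option backward.isDefEq.respectTransparency.types false

/-!
# S7102: `M ⊗^L E` is `R`-perfect for `E` perfect and `M` `R`-perfect (helper6)
-/

set_option autoImplicit false
set_option linter.style.haveILetI false

universe u

open CategoryTheory CategoryTheory.Limits HomologicalComplex MonoidalCategory

attribute [local instance] HasDerivedCategory.standard

namespace Groth.Agent.Lib.H6xRelTorAmp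

open DerivedCategory Groth.Agent.Lib.Helper1.KF Groth.Agent.Lib.Helper1.Tor
  Groth.Agent.Lib.Helper1.DT Groth.Agent.Lib.Helper1.TorO Groth.Agent.Lib.Helper1.KBC
  Groth.Agent.Lib.Helper1.TorL

/-- S7102 -/
theorem main_relPerfect (R A : Type u) [CommRing R] [CommRing A] [Algebra R A]
    (E : DRing.Cx A) (a b : ℤ)
    (hEb : DRing.VanishesOutside E a b) (hEp : DRing.TermwiseFiniteProjective E)
    [DRing.HasLTensorCx A E]
    (M : Dual.D A) (hM : Dual2.IsRelPerfect R A M) :
    Dual2.IsRelPerfect R A ((DRing.LTensorCx A E).obj M) := by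
  obtain ⟨hpc, c, d, hMt⟩ := hM
  have hEperf : DRing.IsPerfect A (DRing.toD E) := ⟨E, a, b, hEb, hEp, ⟨Iso.refl _⟩⟩
  refine ⟨Groth.Agent.S7037.result A M hpc E
    ((Groth.Agent.S6954.result A (DRing.toD E)).1 hEperf).1, a + c, b + d, ?_⟩
  obtain ⟨P, hP, -, ⟨e⟩⟩ := exists_kproj_iso M
  haveI := hP
  have hPK : KFlat P := kflat_of_isKProjective P
  obtain ⟨e1⟩ := nonempty_LTensorCx_iso E P hPK
  have hEf : DRing.TermwiseFlat E := fun i => by
    haveI := (hEp i).1
    haveI := (hEp i).2
    infer_instance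
  have hL : DRing.HasTorAmplitudeIn R c d (Q.obj ((resC (algebraMap R A)).obj P)) :=
    hasTorAmp_of_iso ((DRing.restrictD (algebraMap R A)).mapIso e.symm ≪≫
      (res (algebraMap R A)).mapDerivedCategoryFactors.app P) hMt
  have h := hasTorAmp_resC_tensor (algebraMap R A) E P a b c d hEb hEf hL
  refine hasTorAmp_of_iso ?_ h
  exact ((res (algebraMap R A)).mapDerivedCategoryFactors.app (E ⊗ P)).symm ≪≫
    (DRing.restrictD (algebraMap R A)).mapIso
      (Q.mapIso (swapIso E P) ≪≫ e1.symm ≪≫ (DRing.LTensorCx A E).mapIso e)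

end Groth.Agent.Lib.H6xRelTorAmp
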