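import Mathlib
import Groth.Agent.Lib.H6xRelTorAmpI
set_option backward.isDefEq.respectTransparency.types false

/-!
# Vanishing of the cohomology of `Lf^* M ⊗^L F` outside the relative tor amplitude (S6241, helper6)
-/

set_option autoImplicit false
set_option linter.style.haveILetI false

universe u

open CategoryTheory CategoryTheory.Limits AlgebraicGeometry HomologicalComplex TopologicalSpace
  Opposite MonoidalCategory

attribute [local instance] HasDerivedCategory.standard

namespace Groth.Agent.Lib.H6xRelTorAmpG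

open Groth.Agent.Lib.Helper1.BKF Groth.Agent.Lib.Helper1.CI Groth.Agent.Lib.Helper1.Sky
  Groth.Agent.Lib.Helper1.KBC Groth.Agent.Lib.H6xFlatAmpStalk Groth.Agent.Lib.H6xFlatAmpLocal
  Groth.Agent.Lib.Helper1.Tor Groth.Agent.Lib.H6xRelTorAmp Groth.Agent.Lib.H6xTorQc
  Groth.Agent.Lib.Helper1.KF Groth.Agent.Lib.Helper1.DT

variable {X Y : Scheme.{u}}

lemma quasiIso_stalkC_map (y : Y) {P G : CochainComplex Y.Modules ℤ} (q : P ⟶ G) [QuasiIso q] :
    QuasiIso ((stalkC y).map q) :=
  HomologicalComplex.quasiIso_map_of_preservesHomology q (stalkFun y)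

/-- the cohomology of `Lf^* M ⊗^L F` vanishes outside the relative tor amplitude of `F` -/
theorem isZero_HD_ltensor_Lpull (f : X ⟶ Y) (F : CochainComplex X.Modules ℤ) (m n : ℤ)
    (hF : DerSch.HasTorAmplitude f m n F) (M : Y.Modules)
    [DCoh.HasLpull f] [DCoh.HasLTensorCx F] (i : ℤ) (hi : i < m ∨ n < i) :
    IsZero (DCoh.HD ((DCoh.LTensorCx F).obj ((DCoh.Lpull f).obj (DCoh.inD Y M))) i) := by
  let G : CochainComplex Y.Modules ℤ :=
    (HomologicalComplex.single Y.Modules (ComplexShape.up ℤ) 0).obj M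
  obtain ⟨P, q, hP, -, hq, -⟩ := exists_kflat_flat_resolution (O := Y.sheaf) G
  have hP' : DCoh.IsKFlat P := hP
  have hqi : IsIso (DerivedCategory.Q.map q) := by
    rw [DerivedCategory.isIso_Q_map_iff_quasiIso]; exact hq
  have eP : DCoh.toD Y P ≅ DCoh.inD Y M :=
    @asIso _ _ _ _ (DerivedCategory.Q.map q) hqi ≪≫
      ((DerivedCategory.singleFunctorIsoCompQ Y.Modules 0).app M).symm
  haveI hI1 : ModSite.HasLTensorCx (O := X.sheaf) F := (inferInstance : DCoh.HasLTensorCx F)
  have i1 : (DCoh.LTensorCx F).obj (DerivedCategory.Q.obj ((pullC f).obj P)) ≅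
      DerivedCategory.Q.obj ((DCoh.tensorCx.obj ((pullC f).obj P)).obj F) :=
    lTensorCxIsoOfIsKFlat (O := X.sheaf) F ((pullC f).obj P)
      (Groth.Agent.S0960.isKFlat_pullC f P hP')
  have eK : (DCoh.LTensorCx F).obj ((DCoh.Lpull f).obj (DCoh.inD Y M)) ≅
      DerivedCategory.Q.obj ((DCoh.tensorCx.obj ((pullC f).obj P)).obj F) :=
    (DCoh.LTensorCx F).mapIso ((DCoh.Lpull f).mapIso eP.symm ≪≫ lpullIsoK f P hP') ≪≫ i1
  refine IsZero.of_iso ?_ ((DerivedCategory.homologyFunctor _ i).mapIso eK ≪≫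
    (DerivedCategory.homologyFunctorFactors _ i).app _)
  apply isZero_homology_of_forall_stalk
  intro x
  obtain ⟨e2⟩ := nonempty_stalkTotIso x ((pullC f).obj P) F
  have hPx : RKFlat ((stalkC (f.base x)).obj P) := rKFlat_stalk_of_isKFlat (f.base x) P hP
  have hPx' : KFlat ((stalkC (f.base x)).obj P) := fun L hL => hPx L hL
  have h1 := hasTorAmp_of_iso (DerivedCategory.Q.mapIso (stalkCxOverIso f x F)) (hF x)
  haveI : QuasiIso q := hq
  let π : (stalkC (f.base x)).obj P ⟶ sgl ((stalkFun (f.base x)).obj M) :=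
    (stalkC (f.base x)).map q ≫
      ((HomologicalComplex.singleMapHomologicalComplex (stalkFun (f.base x)) (ComplexShape.up ℤ)
        0).app M).hom
  haveI hq1 : QuasiIso ((stalkC (f.base x)).map q) := @quasiIso_stalkC_map _ (f.base x) _ _ q hq
  haveI : QuasiIso π := by
    dsimp only [π]
    exact quasiIso_comp _ _
  have key := isZero_homology_tensor_of_hasTorAmp _ m n h1 ((stalkFun (f.base x)).obj M)
    ((stalkC (f.base x)).obj P) hPx' π i hi
  obtain ⟨e3⟩ := nonempty_projIso' (f.stalkMap x).hom ((stalkC x).obj F)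
    ((stalkC (f.base x)).obj P)
  let e4 : (resC (f.stalkMap x).hom).obj
      ((extC (f.stalkMap x).hom).obj ((stalkC (f.base x)).obj P) ⊗ (stalkC x).obj F) ≅
      (resC (f.stalkMap x).hom).obj ((stalkC x).obj F) ⊗ (stalkC (f.base x)).obj P :=
    (resC (f.stalkMap x).hom).mapIso (swapIso _ _) ≪≫ e3
  have h2 : IsZero (((extC (f.stalkMap x).hom).obj ((stalkC (f.base x)).obj P) ⊗
      (stalkC x).obj F).homology i) := by
    rw [← isZero_homology_resC_iff (f.stalkMap x).hom]
    exact IsZero.of_iso key ((HomologicalComplex.homologyFunctor _ _ i).mapIso e4)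
  exact IsZero.of_iso h2 ((HomologicalComplex.homologyFunctor _ _ i).mapIso
    (e2 ≪≫ MonoidalCategory.whiskerRightIso (stalkPullCIso f x P) _))

/-- S6241 -/
theorem main_restrict (f : X ⟶ Y)
    (F : CochainComplex X.Modules ℤ) (m n : ℤ)
    (hF : DerSch.HasTorAmplitude f m n F) (V : Y.Opens) (M : (V : Scheme.{u}).Modules)
    [DCoh.HasLpull (f ∣_ V)] [DCoh.HasLTensorCx ((DCoh.restrictCx (f ⁻¹ᵁ V)).obj F)]
    (i : ℤ) (hi : i < m ∨ n < i) :
    IsZero (DCoh.HD ((DCoh.LTensorCx ((DCoh.restrictCx (f ⁻¹ᵁ V)).obj F)).obj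
      ((DCoh.Lpull (f ∣_ V)).obj (DCoh.inD (V : Scheme.{u}) M))) i) :=
  isZero_HD_ltensor_Lpull (f ∣_ V) _ m n (hasTorAmplitude_morphismRestrict f V F m n hF) M i hi

end Groth.Agent.Lib.H6xRelTorAmpG
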