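import Mathlib
import Groth.Agent.Lib.H6xRelTorLocC
import Groth.Agent.Lib.Helper1LBC
import Groth.Agent.Lib.Helper1DT2
set_option backward.isDefEq.respectTransparency.types false

/-!
# S6951: relative tor amplitude and faithfully flat base change (helper6)
-/

set_option autoImplicit false
set_option linter.style.haveILetI false

universe u v

open CategoryTheory CategoryTheory.Limits HomologicalComplex MonoidalCategory

attribute [local instance] HasDerivedCategory.standard

namespace Groth.Agent.Lib.H6xRelTorAmp

open DerivedCategory Groth.Agent.Lib.Helper1.KF Groth.Agent.Lib.Helper1.Tor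
  Groth.Agent.Lib.Helper1.DT Groth.Agent.Lib.Helper1.TorO Groth.Agent.Lib.Helper1.KBC
  Groth.Agent.Lib.Helper1.TorL

/-- S6951 -/
theorem main_ff {R A B : Type u}
    [CommRing R] [CommRing A] [CommRing B] [Algebra R A] [Algebra A B] [Algebra R B]
    [IsScalarTower R A B]
    [Module.FaithfullyFlat A B] [DRing.HasLBaseChange (algebraMap A B)] (K : Dual.D A) (a b : ℤ) :
    DRing.HasTorAmplitudeIn R a b ((DRing.restrictD (algebraMap R A)).obj K) ↔
      DRing.HasTorAmplitudeIn R a b ((DRing.restrictD (algebraMap R B)).obj
        ((DRing.LBaseChange (algebraMap A B)).obj K)) := by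
  obtain ⟨P, hP, -, ⟨e⟩⟩ := exists_kproj_iso K
  haveI := hP
  have e1 : (DRing.restrictD (algebraMap R A)).obj K ≅ Q.obj ((resC (algebraMap R A)).obj P) :=
    (DRing.restrictD (algebraMap R A)).mapIso e.symm ≪≫
      (res (algebraMap R A)).mapDerivedCategoryFactors.app P
  have e2 : (DRing.restrictD (algebraMap R B)).obj ((DRing.LBaseChange (algebraMap A B)).obj K) ≅
      Q.obj ((resC (algebraMap R B)).obj ((extC (algebraMap A B)).obj P)) :=
    (DRing.restrictD (algebraMap R B)).mapIso ((DRing.LBaseChange (algebraMap A B)).mapIso e.symm ≪≫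
      Groth.Agent.Lib.Helper1.LDer.lbcIso (algebraMap A B) P) ≪≫
      (res (algebraMap R B)).mapDerivedCategoryFactors.app _
  have hsq : (algebraMap R B).comp (RingHom.id R) = (algebraMap A B).comp (algebraMap R A) := by
    rw [RingHom.comp_id]
    exact IsScalarTower.algebraMap_eq R A B
  have hμ : (algebraMap A B).Flat := RingHom.flat_algebraMap_iff.2 inferInstance
  constructor
  · intro h
    refine hasTorAmp_of_iso e2.symm ?_
    exact hasTorAmp_resC_extC_of_square' (algebraMap R A) (RingHom.id R) (algebraMap A B)
      (algebraMap R B) hsq (RingHom.Flat.id R) hμ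
      (fun N => ⟨N, ⟨(ModuleCat.extendScalarsId.{u} R).app N⟩⟩) P a b (hasTorAmp_of_iso e1 h)
  · intro h
    refine hasTorAmp_of_iso e1.symm ?_
    refine hasTorAmp_resC_of_family (algebraMap R A) (J := Unit) (fun _ => R) (fun _ => B)
      (fun _ => RingHom.id R) (fun _ => algebraMap A B) (fun _ => algebraMap R B) (fun _ => hsq)
      (fun _ => RingHom.Flat.id R) (fun _ => hμ) (fun H hH => ?_) P a b
      (fun _ => hasTorAmp_of_iso e2 h)
    have h1 : Subsingleton (TensorProduct A B H) := subsingleton_tensor_of_isZero H (hH ())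
    have : Subsingleton H := Module.FaithfullyFlat.lTensor_reflects_triviality A B H
    exact ModuleCat.isZero_of_subsingleton H

end Groth.Agent.Lib.H6xRelTorAmp
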