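import Mathlib
import Groth.Prelude.Def_Flat

/-!
# Residue field degrees of finite universal homeomorphisms (helper6)
-/

set_option autoImplicit false
universe u

open CategoryTheory AlgebraicGeometry TopologicalSpace

namespace Groth.Agent.Lib.H6xResDeg

section Local

variable {X Y : Scheme.{u}} (f : X ⟶ Y)

/-- the residue field extension at a point of an affine morphism is spanned by the images of
module generators -/
theorem span_eval_eq_top [IsAffineHom f] (x : X) (U : Y.Opens) (hU : IsAffineOpen U)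
    (hx : f x ∈ U) {m : ℕ} (b : Fin m → Γ(X, f ⁻¹ᵁ U))
    (hb : ∀ b' : Γ(X, f ⁻¹ᵁ U), ∃ c : Fin m → Γ(Y, U), b' = ∑ i, (f.app U).hom (c i) * b i) :
    letI := (f.residueFieldMap x).hom.toAlgebra
    Submodule.span (Y.residueField (f x))
      (Set.range fun i => (X.evaluation (f ⁻¹ᵁ U) x hx).hom (b i)) = ⊤ := by
  letI := (f.residueFieldMap x).hom.toAlgebra
  set K := Y.residueField (f x)
  set L := X.residueField x
  set evA : Γ(Y, U) →+* K := (Y.evaluation U (f x) hx).hom with hevA
  set evB : Γ(X, f ⁻¹ᵁ U) →+* L := (X.evaluation (f ⁻¹ᵁ U) x hx).hom with hevB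
  have hnat : ∀ a, algebraMap K L (evA a) = evB ((f.app U).hom a) := fun a =>
    Scheme.evaluation_naturality_apply f x hx a
  set N : Submodule K L := Submodule.span K (Set.range fun i => evB (b i)) with hN
  -- step 1
  have h1 : ∀ b', evB b' ∈ N := by
    intro b'
    obtain ⟨c, rfl⟩ := hb b'
    rw [map_sum]
    refine Submodule.sum_mem _ fun i _ => ?_
    rw [map_mul, ← hnat, ← Algebra.smul_def]
    exact Submodule.smul_mem _ _ (Submodule.subset_span ⟨i, rfl⟩)
  -- step 2
  have h2 : ∀ b', ∀ n ∈ N, evB b' * n ∈ N := by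
    intro b' n hn
    induction hn using Submodule.span_induction with
    | mem y hy =>
      obtain ⟨i, rfl⟩ := hy
      simp only
      rw [← map_mul]
      exact h1 _
    | zero => simp
    | add y z _ _ hy hz => rw [mul_add]; exact Submodule.add_mem _ hy hz
    | smul c y _ hy => rw [mul_smul_comm]; exact Submodule.smul_mem _ _ hy
  -- step 3
  haveI : FiniteDimensional K N := FiniteDimensional.span_of_finite K (Set.finite_range _)
  have h3 : ∀ b', evB b' ≠ 0 → (evB b')⁻¹ ∈ N := by
    intro b' hb'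
    let μ : N →ₗ[K] N := (LinearMap.mulLeft K (evB b')).restrict (fun n hn => h2 b' n hn)
    have hinj : Function.Injective μ := by
      intro n n' hnn
      have := congrArg Subtype.val hnn
      simp only [μ, LinearMap.coe_restrict_apply, LinearMap.mulLeft_apply] at this
      exact Subtype.ext (mul_left_cancel₀ hb' this)
    have hsurj := LinearMap.injective_iff_surjective.mp hinj
    have one_mem : (1 : L) ∈ N := by
      have := h1 1
      rwa [map_one] at this
    obtain ⟨n, hn⟩ := hsurj ⟨1, one_mem⟩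
    have := congrArg Subtype.val hn
    simp only [μ, LinearMap.coe_restrict_apply, LinearMap.mulLeft_apply] at this
    have h4 : (evB b')⁻¹ = (n : L) := inv_eq_of_mul_eq_one_right this
    rw [h4]
    exact n.2
  -- step 4
  rw [eq_top_iff]
  intro l _
  have hV : IsAffineOpen (f ⁻¹ᵁ U) := hU.preimage f
  obtain ⟨r, rfl⟩ : ∃ r, (X.residue x).hom r = l := Ideal.Quotient.mk_surjective l
  letI : Algebra Γ(X, f ⁻¹ᵁ U) (X.presheaf.stalk x) :=
    TopCat.Presheaf.algebra_section_stalk X.presheaf ⟨x, hx⟩
  haveI := hV.isLocalization_stalk ⟨x, hx⟩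
  obtain ⟨⟨b', s⟩, hbs⟩ := IsLocalization.surj (hV.primeIdealOf ⟨x, hx⟩).asIdeal.primeCompl r
  have hs : IsUnit (algebraMap Γ(X, f ⁻¹ᵁ U) (X.presheaf.stalk x) s) :=
    IsLocalization.map_units _ s
  have hgerm : ∀ t, (X.residue x).hom (algebraMap Γ(X, f ⁻¹ᵁ U) (X.presheaf.stalk x) t) =
      evB t := fun t => rfl
  have h5 := congrArg (X.residue x).hom hbs
  rw [map_mul, hgerm, hgerm] at h5
  have hs0 : evB s ≠ 0 := by
    rw [← hgerm]
    exact (hs.map (X.residue x).hom).ne_zero
  have h6 : (X.residue x).hom r = evB b' * (evB s)⁻¹ := by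
    rw [← h5, mul_assoc, mul_inv_cancel₀ hs0, mul_one]
  rw [h6]
  exact h2 _ _ (h3 _ hs0)

end Local

section Global

theorem univHomeo_universallyInjective {X Y : Scheme.{u}} (p : X ⟶ Y)
    (hp : FlatMor.IsUnivHomeo p) : UniversallyInjective p := by
  rw [universallyInjective_eq]
  exact MorphismProperty.universally_mono (fun _ _ f hf => hf.injective) _ hp

theorem finrank_le_of_finite {X Y : Scheme.{u}} (f : X ⟶ Y) [IsFinite f] (U : Y.Opens)
    (hU : IsAffineOpen U) :
    ∃ m : ℕ, ∀ x : X, f x ∈ U →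
      letI := (f.residueFieldMap x).hom.toAlgebra
      Module.Finite (Y.residueField (f x)) (X.residueField x) ∧
        Module.finrank (Y.residueField (f x)) (X.residueField x) ≤ m := by
  have hfin := IsFinite.finite_app f U hU
  letI := (f.app U).hom.toAlgebra
  have hfin' : Module.Finite Γ(Y, U) Γ(X, f ⁻¹ᵁ U) := hfin
  obtain ⟨m, b, hb⟩ := Module.Finite.exists_fin (R := Γ(Y, U)) (M := Γ(X, f ⁻¹ᵁ U))
  refine ⟨m, fun x hx => ?_⟩
  have hb' : ∀ b' : Γ(X, f ⁻¹ᵁ U), ∃ c : Fin m → Γ(Y, U),
      b' = ∑ i, (f.app U).hom (c i) * b i := by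
    intro b'
    have : b' ∈ Submodule.span Γ(Y, U) (Set.range b) := hb ▸ Submodule.mem_top
    obtain ⟨c, hc⟩ := Submodule.mem_span_range_iff_exists_fun _ |>.mp this
    refine ⟨c, hc.symm.trans ?_⟩
    refine Finset.sum_congr rfl fun i _ => ?_
    rw [Algebra.smul_def, RingHom.algebraMap_toAlgebra]
  have htop := span_eval_eq_top f x U hU hx b hb'
  letI := (f.residueFieldMap x).hom.toAlgebra
  constructor
  · rw [Module.finite_def, ← htop]
    exact Submodule.fg_span (Set.finite_range _)
  · rw [← finrank_top (Y.residueField (f x)) (X.residueField x), ← htop]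
    exact (finrank_range_le_card _).trans (by simp)

theorem main {T' T : Scheme.{u}} (p : T' ⟶ T) [IsFinite p] (hp : FlatMor.IsUnivHomeo p)
    [CompactSpace T] :
    ∃ d : ℕ, 0 < d ∧ ∀ t' : T', ∃ e : ℕ,
      @Module.finrank (T.residueField (p t')) (T'.residueField t') _ _
          (p.residueFieldMap t').hom.toAlgebra.toModule =
        ringExpChar (T.residueField (p t')) ^ e ∧
      ringExpChar (T.residueField (p t')) ^ e ∣ d := by
  have hUI := univHomeo_universallyInjective p hp
  have hpi : ∀ x, (p.residueFieldMap x).hom.IsPurelyInseparable := by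
    have h02 : UniversallyInjective p ↔ (Function.Injective p ∧
        ∀ x, (p.residueFieldMap x).hom.IsPurelyInseparable) :=
      (tfae_universallyInjective p).out 0 2
    exact (h02.mp hUI).2
  have hloc : ∀ y : T, ∃ U : T.Opens, IsAffineOpen U ∧ y ∈ U := by
    intro y
    obtain ⟨U, hU, hyU, -⟩ := exists_isAffineOpen_mem_and_subset (x := y) (U := ⊤) trivial
    exact ⟨U, hU, hyU⟩
  choose U hUaff hyU using hloc
  choose m hm using fun y => finrank_le_of_finite p (U y) (hUaff y)
  obtain ⟨s, hs⟩ := CompactSpace.elim_nhds_subcover (fun y => ((U y : T.Opens) : Set T))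
    (fun y => (U y).isOpen.mem_nhds (hyU y))
  refine ⟨∏ y ∈ s, (m y).factorial, Finset.prod_pos fun y _ => Nat.factorial_pos _, fun t' => ?_⟩
  have hmem : p t' ∈ ⋃ y ∈ s, ((U y : T.Opens) : Set T) := hs ▸ Set.mem_univ _
  simp only [Set.mem_iUnion] at hmem
  obtain ⟨y, hys, hy⟩ := hmem
  obtain ⟨hfin, hle⟩ := hm y t' hy
  letI := (p.residueFieldMap t').hom.toAlgebra
  haveI : IsPurelyInseparable (T.residueField (p t')) (T'.residueField t') := hpi t'
  haveI : Module.Finite (T.residueField (p t')) (T'.residueField t') := hfin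
  obtain ⟨e, he⟩ := IsPurelyInseparable.finrank_eq_pow (F := T.residueField (p t'))
    (T'.residueField t') (ringExpChar (T.residueField (p t')))
  refine ⟨e, he, ?_⟩
  rw [← he]
  exact (Nat.dvd_factorial Module.finrank_pos hle).trans (Finset.dvd_prod_of_mem _ hys)

end Global

end Groth.Agent.Lib.H6xResDeg
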