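import Groth.Agent.Lib.R2H1EulerTensor
import Groth.Agent.Lib.Helper26ModRank
set_option backward.isDefEq.respectTransparency.types false

/-!
# Degree of a tensor product of finite locally free modules on a proper scheme of dimension <= 1 (S7637)

* `dd k X n m E V F` : the defect `χ(E ⊗ (V ⊗ F)) - n χ(V ⊗ F) - m χ(E ⊗ F) + n m χ(F)`;
  `dd_add`, `dd_congr`, `dd_push` (compatibility with pushforward along an affine morphism, via
  the projection formula), `euler_tensor_push`.
* `dd_eq_zero` : the defect vanishes for every coherent `F` (dévissage to integral closed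
  subschemes, then `s1557` / `s1558`).
* `s7637` : `deg (E ⊗ V) = n deg V + m deg E`.
-/

set_option autoImplicit false
set_option linter.style.haveILetI false
set_option linter.unusedSectionVars false
universe u v

open CategoryTheory CategoryTheory.Limits AlgebraicGeometry TopologicalSpace Opposite

namespace Groth.Agent.Lib.R2H1.DegTensor

section Part1

open Groth.Agent.Lib.Helper4.NormDelta Groth.Agent.Lib.Helper23.StalkLin
open Groth.Agent.Lib.R2H1.BirDeg Groth.Agent.Lib.R2H1.GenusLe Groth.Agent.Lib.R2H1.DegCartier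
  Groth.Agent.Lib.R2H1.EulerAdd Groth.Agent.Lib.R2H1.SkyDecomp Groth.Agent.Lib.R2H1.CurveEuler
  Groth.Agent.Lib.R2H1.CurveDegSec Groth.Agent.Lib.Helper21.Dual
  Groth.Agent.Lib.Helper21.ModTensor Groth.Agent.Lib.Helper21.ModTensor2
  Groth.Agent.Lib.Helper21.ModTensor5 Groth.Agent.Lib.R2H1.ZeroDimCoh
  Groth.Agent.Lib.R2H1.EulerTensor Groth.Agent.Lib.R2H1.ProjLF Groth.Agent.Lib.Helper1.PT

section Defs

variable (k : Type u) [Field k] (X : Scheme.{u}) [X.Over (Spec (CommRingCat.of k))]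
    [IsProper (X ↘ (Spec (CommRingCat.of k)))]

/-- the defect of `χ(E ⊗ V ⊗ F) - n χ(V ⊗ F) - m χ(E ⊗ F) + n m χ(F) = 0` -/
noncomputable def dd (n m : ℕ) (E V F : X.Modules) : ℤ :=
  Curv2.euler k X (CohB1.tensorMod E (CohB1.tensorMod V F)) -
    n * Curv2.euler k X (CohB1.tensorMod V F) - m * Curv2.euler k X (CohB1.tensorMod E F) +
    n * m * Curv2.euler k X F

theorem isFinLocFree_of_rank' {Z : Scheme.{u}} {n : ℕ} {E : Z.Modules}
    (hE : FlatMod.IsFinLocFreeOfRank n E) : FlatMod.IsFinLocFree E := fun x => by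
  obtain ⟨U, hx, e⟩ := hE x
  exact ⟨U, n, hx, e⟩

theorem isCoh_of_rank' {Z : Scheme.{u}} {n : ℕ} {E : Z.Modules}
    (hE : FlatMod.IsFinLocFreeOfRank n E) : Coh.IsCoh E :=
  Groth.Agent.Lib.R2H2.PnLocFree.isCoh_of_isFinLocFree E (isFinLocFree_of_rank' hE)

theorem euler_tensor_add {n : ℕ} (E : X.Modules) (hE : FlatMod.IsFinLocFreeOfRank n E)
    (S : ShortComplex X.Modules) (hS : S.ShortExact)
    (c₁ : Coh.IsCoh S.X₁) (c₂ : Coh.IsCoh S.X₂) (c₃ : Coh.IsCoh S.X₃) :
    (S.map (DCoh.tensorBi.obj E)).ShortExact ∧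
    Curv2.euler k X (CohB1.tensorMod E S.X₂) =
      Curv2.euler k X (CohB1.tensorMod E S.X₁) + Curv2.euler k X (CohB1.tensorMod E S.X₃) := by
  have hEf := isFinLocFree_of_rank' hE
  have hEc := isCoh_of_rank' hE
  have hfl := Groth.Agent.Lib.R2H2.PullLF.isFlat_of_isFinLocFree E hEf
  have t := Groth.Agent.Lib.R2Lead.TensorExact.shortExact_map_tensorBi E (fun x => hfl x) S hS
  have d₁ : Coh.IsCoh (S.map (DCoh.tensorBi.obj E)).X₁ := isCoh_tensorMod hEc c₁
  have d₂ : Coh.IsCoh (S.map (DCoh.tensorBi.obj E)).X₂ := isCoh_tensorMod hEc c₂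
  have d₃ : Coh.IsCoh (S.map (DCoh.tensorBi.obj E)).X₃ := isCoh_tensorMod hEc c₃
  have b₀ := s1524 k X _ t d₁ d₂ d₃
  exact ⟨t, b₀⟩

theorem dd_add (n m : ℕ) (E V : X.Modules) (hE : FlatMod.IsFinLocFreeOfRank n E)
    (hV : FlatMod.IsFinLocFreeOfRank m V)
    (S : ShortComplex X.Modules) (hS : S.ShortExact)
    (c₁ : Coh.IsCoh S.X₁) (c₂ : Coh.IsCoh S.X₂) (c₃ : Coh.IsCoh S.X₃) :
    dd k X n m E V S.X₂ = dd k X n m E V S.X₁ + dd k X n m E V S.X₃ := by
  have hVc := isCoh_of_rank' hV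
  have a := s1524 k X S hS c₁ c₂ c₃
  obtain ⟨tV, bV⟩ := euler_tensor_add k X V hV S hS c₁ c₂ c₃
  obtain ⟨-, bE⟩ := euler_tensor_add k X E hE S hS c₁ c₂ c₃
  have d₁ : Coh.IsCoh (S.map (DCoh.tensorBi.obj V)).X₁ := isCoh_tensorMod hVc c₁
  have d₂ : Coh.IsCoh (S.map (DCoh.tensorBi.obj V)).X₂ := isCoh_tensorMod hVc c₂
  have d₃ : Coh.IsCoh (S.map (DCoh.tensorBi.obj V)).X₃ := isCoh_tensorMod hVc c₃
  obtain ⟨-, bEV₀⟩ := euler_tensor_add k X E hE _ tV d₁ d₂ d₃
  have bEV : Curv2.euler k X (CohB1.tensorMod E (CohB1.tensorMod V S.X₂)) =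
      Curv2.euler k X (CohB1.tensorMod E (CohB1.tensorMod V S.X₁)) +
        Curv2.euler k X (CohB1.tensorMod E (CohB1.tensorMod V S.X₃)) := bEV₀
  unfold dd
  rw [a, bV, bE, bEV]
  ring

theorem dd_congr (n m : ℕ) (E V : X.Modules) {M N : X.Modules} (e : M ≅ N) :
    dd k X n m E V M = dd k X n m E V N := by
  have h1 : Curv2.euler k X (CohB1.tensorMod E M) = Curv2.euler k X (CohB1.tensorMod E N) :=
    euler_congr k ((DCoh.tensorBi.obj E).mapIso e)
  have h2 : Curv2.euler k X (CohB1.tensorMod V M) = Curv2.euler k X (CohB1.tensorMod V N) :=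
    euler_congr k ((DCoh.tensorBi.obj V).mapIso e)
  have h3 : Curv2.euler k X (CohB1.tensorMod E (CohB1.tensorMod V M)) =
      Curv2.euler k X (CohB1.tensorMod E (CohB1.tensorMod V N)) :=
    euler_congr k ((DCoh.tensorBi.obj E).mapIso ((DCoh.tensorBi.obj V).mapIso e))
  unfold dd
  rw [h1, h2, h3, euler_congr k e]

end Defs

section Push

variable (k : Type u) [Field k] {X W : Scheme.{u}} [X.Over (Spec (CommRingCat.of k))]
    [W.Over (Spec (CommRingCat.of k))]
    [IsProper (X ↘ (Spec (CommRingCat.of k)))] [IsProper (W ↘ (Spec (CommRingCat.of k)))]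

/-- `χ(X, E ⊗ i_* G) = χ(W, i^* E ⊗ G)` for an affine morphism `i` -/
theorem euler_tensor_push (i : W ⟶ X) [IsAffineHom i]
    (hi : i ≫ (X ↘ (Spec (CommRingCat.of k))) = W ↘ (Spec (CommRingCat.of k)))
    {n : ℕ} (E : X.Modules) (hE : FlatMod.IsFinLocFreeOfRank n E) (G : W.Modules)
    (hG : Coh.IsCoh G) :
    Curv2.euler k X (CohB1.tensorMod E ((psh i).obj G)) =
      Curv2.euler k W (CohB1.tensorMod ((plb i).obj E) G) := by
  have hEf := isFinLocFree_of_rank' hE
  haveI : E.IsQuasicoherent := (isCoh_of_rank' hE).1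
  have hE' : FlatMod.IsFinLocFreeOfRank n ((plb i).obj E) :=
    Groth.Agent.Lib.Helper26.ModRank.isFinLocFreeOfRank_pullback i E hE
  have e2 := euler_push k i hi (CohB1.tensorMod ((plb i).obj E) G)
    (isCoh_tensorMod (isCoh_of_rank' hE') hG).1
  have e3 : Curv2.euler k X ((psh i).obj (CohB1.tensorMod ((plb i).obj E) G)) =
      Curv2.euler k X (CohB1.tensorMod E ((psh i).obj G)) :=
    euler_congr k ((prjIso i E hEf).app G).symm
  rw [e2, e3]

end Push

end Part1

section Part2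


open Groth.Agent.Lib.Helper4.NormDelta Groth.Agent.Lib.Helper23.StalkLin
open Groth.Agent.Lib.R2H1.BirDeg Groth.Agent.Lib.R2H1.GenusLe Groth.Agent.Lib.R2H1.DegCartier
  Groth.Agent.Lib.R2H1.EulerAdd Groth.Agent.Lib.R2H1.SkyDecomp Groth.Agent.Lib.R2H1.CurveEuler
  Groth.Agent.Lib.R2H1.CurveDegSec Groth.Agent.Lib.Helper21.Dual
  Groth.Agent.Lib.Helper21.ModTensor Groth.Agent.Lib.Helper21.ModTensor2
  Groth.Agent.Lib.Helper21.ModTensor5 Groth.Agent.Lib.R2H1.ZeroDimCoh
  Groth.Agent.Lib.R2H1.EulerTensor Groth.Agent.Lib.R2H1.ProjLF Groth.Agent.Lib.Helper1.PT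

theorem eq_one_of_le_one_of_not_le_zero (d : WithBot ℕ∞) (h1 : d ≤ 1) (h0 : ¬ d ≤ 0) : d = 1 := by
  induction d using WithBot.recBotCoe with
  | bot => exact absurd bot_le h0
  | coe a =>
    have h1' : a ≤ 1 := by exact_mod_cast h1
    have h0' : a ≠ 0 := fun h => h0 (by rw [h]; rfl)
    have : a = 1 := le_antisymm h1' (ENat.one_le_iff_ne_zero.mpr h0')
    rw [this]
    rfl

section Push

variable (k : Type u) [Field k] {X W : Scheme.{u}} [X.Over (Spec (CommRingCat.of k))]
    [W.Over (Spec (CommRingCat.of k))]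
    [IsProper (X ↘ (Spec (CommRingCat.of k)))] [IsProper (W ↘ (Spec (CommRingCat.of k)))]

theorem dd_push (i : W ⟶ X) [IsAffineHom i]
    (hi : i ≫ (X ↘ (Spec (CommRingCat.of k))) = W ↘ (Spec (CommRingCat.of k)))
    {n m : ℕ} (E V : X.Modules) (hE : FlatMod.IsFinLocFreeOfRank n E)
    (hV : FlatMod.IsFinLocFreeOfRank m V) (G : W.Modules) (hG : Coh.IsCoh G) :
    dd k X n m E V ((psh i).obj G) = dd k W n m ((plb i).obj E) ((plb i).obj V) G := by
  haveI : V.IsQuasicoherent := (isCoh_of_rank' hV).1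
  have hV' : FlatMod.IsFinLocFreeOfRank m ((plb i).obj V) :=
    Groth.Agent.Lib.Helper26.ModRank.isFinLocFreeOfRank_pullback i V hV
  have hVG : Coh.IsCoh (CohB1.tensorMod ((plb i).obj V) G) := isCoh_tensorMod (isCoh_of_rank' hV') hG
  have h1 := euler_tensor_push k i hi V hV G hG
  have h2 := euler_tensor_push k i hi E hE G hG
  have h3 := euler_push k i hi G hG.1
  have h4 : Curv2.euler k X (CohB1.tensorMod E (CohB1.tensorMod V ((psh i).obj G))) =
      Curv2.euler k X (CohB1.tensorMod E ((psh i).obj (CohB1.tensorMod ((plb i).obj V) G))) :=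
    euler_congr k ((DCoh.tensorBi.obj E).mapIso ((prjIso i V (isFinLocFree_of_rank' hV)).app G))
  have h5 := euler_tensor_push k i hi E hE _ hVG
  unfold dd
  rw [h4, h5, h1, h2, ← h3]

end Push

section Integral

variable (k : Type u) [Field k] (W : Scheme.{u}) [W.Over (Spec (CommRingCat.of k))]
    [IsProper (W ↘ (Spec (CommRingCat.of k)))]

theorem dd_structure_of_dim_zero (hdim : topologicalKrullDim W ≤ 0) (n m : ℕ) (E V : W.Modules)
    (hE : FlatMod.IsFinLocFreeOfRank n E) (hV : FlatMod.IsFinLocFreeOfRank m V) :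
    dd k W n m E V (Coh.structureModule W) = 0 := by
  have hO := isCoh_structureModule W
  have hVO : Coh.IsCoh (CohB1.tensorMod V (Coh.structureModule W)) :=
    isCoh_tensorMod (isCoh_of_rank' hV) hO
  have hs : ∀ F : W.Modules, topologicalKrullDim (CohB1.support F) ≤ 0 := fun F =>
    (topologicalKrullDim_subspace_le W _).trans hdim
  have h1 : Curv2.euler k W (CohB1.tensorMod E (CohB1.tensorMod V (Coh.structureModule W))) =
      n * Curv2.euler k W (CohB1.tensorMod V (Coh.structureModule W)) :=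
    (euler_congr k (brdApp W.sheaf E (CohB1.tensorMod V (Coh.structureModule W)))).trans
      (s1558 k W (CohB1.tensorMod V (Coh.structureModule W)) hVO
        (hs (CohB1.tensorMod V (Coh.structureModule W))) n E hE)
  have h2 : Curv2.euler k W (CohB1.tensorMod E (Coh.structureModule W)) =
      n * Curv2.euler k W (Coh.structureModule W) :=
    (euler_congr k (brdApp W.sheaf E (Coh.structureModule W))).trans
      (s1558 k W (Coh.structureModule W) hO (hs (Coh.structureModule W)) n E hE)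
  have key : ∀ a b c d : ℤ, a = n * b → c = n * d → a - n * b - m * c + n * m * d = 0 := by
    intro a b c d h h'
    rw [h, h']
    ring
  exact key _ _ _ _ h1 h2

theorem dd_structure_of_dim_one [IsIntegral W] (hdim : topologicalKrullDim W = 1) (n m : ℕ)
    (E V : W.Modules)
    (hE : FlatMod.IsFinLocFreeOfRank n E) (hV : FlatMod.IsFinLocFreeOfRank m V) :
    dd k W n m E V (Coh.structureModule W) = 0 := by
  have hO := isCoh_structureModule W
  have hVO : Coh.IsCoh (CohB1.tensorMod V (Coh.structureModule W)) :=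
    isCoh_tensorMod (isCoh_of_rank' hV) hO
  have h57 := s1557 k W hdim n E hE _ hVO
  have hr : Module.finrank (W.presheaf.stalk (genericPoint W))
      ((CohB1.tensorMod V (Coh.structureModule W)).presheaf.stalk (genericPoint W)) = m :=
    (grk_congr (rU W.sheaf V)).trans (Groth.Agent.Lib.R2H4DegAdd.stalk_facts hV (genericPoint W)).2.2
  rw [hr] at h57
  have h2 : Curv2.euler k W (CohB1.tensorMod E (Coh.structureModule W)) = Curv2.euler k W E :=
    euler_congr k (rU W.sheaf E)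
  unfold dd
  rw [h57, h2]
  unfold Curv2.deg
  ring

end Integral

end Part2

section Part3


open Groth.Agent.Lib.Helper4.NormDelta Groth.Agent.Lib.Helper23.StalkLin
open Groth.Agent.Lib.R2H1.BirDeg Groth.Agent.Lib.R2H1.GenusLe Groth.Agent.Lib.R2H1.DegCartier
  Groth.Agent.Lib.R2H1.EulerAdd Groth.Agent.Lib.R2H1.SkyDecomp Groth.Agent.Lib.R2H1.CurveEuler
  Groth.Agent.Lib.R2H1.CurveDegSec Groth.Agent.Lib.Helper21.Dual
  Groth.Agent.Lib.Helper21.ModTensor Groth.Agent.Lib.Helper21.ModTensor2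
  Groth.Agent.Lib.Helper21.ModTensor5 Groth.Agent.Lib.R2H1.ZeroDimCoh
  Groth.Agent.Lib.R2H1.EulerTensor Groth.Agent.Lib.R2H1.ProjLF Groth.Agent.Lib.Helper1.PT

variable (k : Type u) [Field k] (X : Scheme.{u}) [X.Over (Spec (CommRingCat.of k))]
    [IsProper (X ↘ (Spec (CommRingCat.of k)))]

theorem dd_of_isZero (n m : ℕ) (E V : X.Modules) (hE : FlatMod.IsFinLocFreeOfRank n E)
    (hV : FlatMod.IsFinLocFreeOfRank m V) (M : X.Modules) (hM : IsZero M) :
    dd k X n m E V M = 0 := by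
  have cM := Groth.Agent.Lib.R2H2.KcohLoc.isCoh_of_isZero hM
  let S : ShortComplex X.Modules := ShortComplex.mk (𝟙 M) (0 : M ⟶ M) (by simp)
  have hS : S.ShortExact :=
    { exact := ShortComplex.exact_of_isZero_X₂ S hM
      mono_f := inferInstanceAs (Mono (𝟙 M))
      epi_g := ⟨fun {Z} a b _ => hM.eq_of_src a b⟩ }
  have h := dd_add k X n m E V hE hV S hS cM cM cM
  have h' : dd k X n m E V M = dd k X n m E V M + dd k X n m E V M := h
  omega

theorem dd_eq_zero (hdim : topologicalKrullDim X ≤ 1) (n m : ℕ) (E V : X.Modules)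
    (hE : FlatMod.IsFinLocFreeOfRank n E) (hV : FlatMod.IsFinLocFreeOfRank m V)
    (F : X.Modules) (hF : Coh.IsCoh F) : dd k X n m E V F = 0 := by
  haveI := isNoetherian_of_proper k X
  refine Groth.Agent.Lib.R2H2.DevC.devissage (fun F => dd k X n m E V F = 0)
    (dd_of_isZero k X n m E V hE hV) Set.univ
    isClosed_univ (fun s => s = 1) ?_ ?_ ?_ F hF (Set.subset_univ _)
  · intro S hS c₁ c₂ c₃ _
    have h := dd_add k X n m E V hE hV S hS c₁ c₂ c₃
    refine ⟨fun p₁ p₂ => ?_, fun p₁ p₃ => ?_, fun p₂ p₃ => ?_⟩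
    · have q₁ : dd k X n m E V S.X₁ = 0 := p₁
      have q₂ : dd k X n m E V S.X₂ = 0 := p₂
      show dd k X n m E V S.X₃ = 0
      omega
    · have q₁ : dd k X n m E V S.X₁ = 0 := p₁
      have q₃ : dd k X n m E V S.X₃ = 0 := p₃
      show dd k X n m E V S.X₂ = 0
      omega
    · have q₂ : dd k X n m E V S.X₂ = 0 := p₂
      have q₃ : dd k X n m E V S.X₃ = 0 := p₃
      show dd k X n m E V S.X₁ = 0
      omega
  · intro F s _ hs hp
    subst hs
    exact (dd_congr k X n m E V (Groth.Agent.Lib.R2H2.StalkPow.powOneIso F)).symm.trans hp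
  · intro Z hZ hirr _ y hy
    obtain ⟨W, i, hi, hW, hrange, hgen⟩ :=
      Groth.Agent.Lib.R2H2.DevD.exists_integral_closed Z hZ hirr y hy
    subst hgen
    have cG := Groth.Agent.Lib.R2H2.DevE.isCoh_pushO i
    have sG : CohB1.support ((Scheme.Modules.pushforward i).obj (Coh.structureModule W)) ⊆ Z :=
      hrange ▸ Groth.Agent.Lib.R2H2.DevE.support_push_subset i _
    letI : W.Over (Spec (CommRingCat.of k)) := ⟨i ≫ (X ↘ Spec (CommRingCat.of k))⟩
    haveI : IsProper (W ↘ Spec (CommRingCat.of k)) :=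
      inferInstanceAs (IsProper (i ≫ (X ↘ Spec (CommRingCat.of k))))
    have hdimW : topologicalKrullDim W ≤ 1 :=
      (Topology.IsInducing.topologicalKrullDim_le i.isClosedEmbedding.isInducing).trans hdim
    haveI : E.IsQuasicoherent := (isCoh_of_rank' hE).1
    haveI : V.IsQuasicoherent := (isCoh_of_rank' hV).1
    have hE' : FlatMod.IsFinLocFreeOfRank n ((plb i).obj E) :=
      Groth.Agent.Lib.Helper26.ModRank.isFinLocFreeOfRank_pullback i E hE
    have hV' : FlatMod.IsFinLocFreeOfRank m ((plb i).obj V) :=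
      Groth.Agent.Lib.Helper26.ModRank.isFinLocFreeOfRank_pullback i V hV
    have hPG : dd k X n m E V ((Scheme.Modules.pushforward i).obj (Coh.structureModule W)) = 0 := by
      have h1 := dd_push k i rfl E V hE hV (Coh.structureModule W) (isCoh_structureModule W)
      refine h1.trans ?_
      by_cases h0 : topologicalKrullDim W ≤ 0
      · exact dd_structure_of_dim_zero k W h0 n m _ _ hE' hV'
      · exact dd_structure_of_dim_one k W (eq_one_of_le_one_of_not_le_zero _ hdimW h0) n m _ _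
          hE' hV'
    refine ⟨_, cG, hPG, sG, ?_⟩
    intro N _ _ _ hk
    obtain ⟨eN⟩ := Groth.Agent.Lib.R2H2.DevI.nonempty_stalk_pushO_equiv' i
    obtain ⟨r, ⟨e⟩⟩ := Groth.Agent.Lib.R2H2.ResField.exists_equiv_pow_one N _ hk eN
    exact ⟨r, 1, rfl, ⟨LinearEquiv.funUnique (Fin 1) _ N ≪≫ₗ e⟩⟩

theorem s7637 (hdim : topologicalKrullDim X ≤ 1) (n m : ℕ) (E V : X.Modules)
    (hE : FlatMod.IsFinLocFreeOfRank n E) (hV : FlatMod.IsFinLocFreeOfRank m V) :
    Curv2.deg k X (CohB1.tensorMod E V) (n * m) =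
      n * Curv2.deg k X V m + m * Curv2.deg k X E n := by
  have h := dd_eq_zero k X hdim n m E V hE hV (Coh.structureModule X) (isCoh_structureModule X)
  have h1 : Curv2.euler k X (CohB1.tensorMod E (CohB1.tensorMod V (Coh.structureModule X))) =
      Curv2.euler k X (CohB1.tensorMod E V) :=
    euler_congr k ((DCoh.tensorBi.obj E).mapIso (rU X.sheaf V))
  have h2 : Curv2.euler k X (CohB1.tensorMod V (Coh.structureModule X)) = Curv2.euler k X V :=
    euler_congr k (rU X.sheaf V)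
  have h3 : Curv2.euler k X (CohB1.tensorMod E (Coh.structureModule X)) = Curv2.euler k X E :=
    euler_congr k (rU X.sheaf E)
  unfold dd at h
  rw [h1, h2, h3] at h
  unfold Curv2.deg
  push_cast
  linarith

end Part3

end Groth.Agent.Lib.R2H1.DegTensor
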