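import Mathlib
import Groth.Prelude
import Groth.Agent.Lib.R2H2HHLin
import Groth.Agent.Lib.Helper23PB
import Groth.Agent.Lib.Helper2LocFree
import Groth.Agent.Lib.Helper18FinFlat1
import Groth.Agent.S9705

set_option autoImplicit false
set_option linter.style.haveILetI false
universe u
open CategoryTheory Limits AlgebraicGeometry TopologicalSpace Opposite TensorProduct

namespace Groth.Agent.Lib.R2H4BCGlue

open Groth.Agent.Lib.R2H2.HHLin

/-- finrank is invariant under field extension of scalars -/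
theorem finrank_eq_of_bc {k k' V V' : Type*} [Field k] [Field k'] [Algebra k k']
    [AddCommGroup V] [Module k V] [AddCommGroup V'] [Module k' V']
    (e : Nonempty (k' ⊗[k] V ≃ₗ[k'] V')) : Module.finrank k' V' = Module.finrank k V := by
  obtain ⟨e⟩ := e
  rw [← e.finrank_eq, Module.finrank_baseChange]

/-- vanishing is invariant under field extension of scalars -/
theorem subsingleton_iff_of_bc {k k' V V' : Type*} [Field k] [Field k'] [Algebra k k']
    [AddCommGroup V] [Module k V] [AddCommGroup V'] [Module k' V']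
    (e : Nonempty (k' ⊗[k] V ≃ₗ[k'] V')) : Subsingleton V' ↔ Subsingleton V := by
  obtain ⟨e⟩ := e
  rw [← e.toEquiv.subsingleton_congr]
  constructor
  · intro h
    exact Module.FaithfullyFlat.lTensor_reflects_triviality k k' V
  · intro h
    infer_instance


/-- flat base change for coherent modules on proper schemes along a field extension (as a
hypothesis; to be discharged by the flat base change theorem) -/
def FieldBC : Prop :=
  ∀ (k : Type u) [Field k] (k' : Type u) [Field k'] [Algebra k k'] (X X' : Scheme.{u})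
    [X.Over (Spec (CommRingCat.of k))] [X'.Over (Spec (CommRingCat.of k'))]
    [IsProper (X ↘ Spec (CommRingCat.of k))] (g : X' ⟶ X)
    (_ : IsPullback g (X' ↘ Spec (CommRingCat.of k')) (X ↘ Spec (CommRingCat.of k))
      (Spec.map (CommRingCat.ofHom (algebraMap k k'))))
    (M : X.Modules) (_ : Coh.IsCoh M) (i : ℕ),
    Nonempty (k' ⊗[k] Coh.HH X M i ≃ₗ[k'] Coh.HH X' ((Scheme.Modules.pullback g).obj M) i)

section Geo

variable {k : Type u} [Field k] {k' : Type u} [Field k'] [Algebra k k']
  {X X' : Scheme.{u}} [X.Over (Spec (CommRingCat.of k))] [X'.Over (Spec (CommRingCat.of k'))]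

theorem bijective_HmapL_of_iso {Y : Scheme.{u}} {M N : Y.Modules} (e : M ≅ N) (i : ℕ) :
    Function.Bijective (HmapL e.hom i) := by
  refine Function.bijective_iff_has_inverse.2 ⟨HmapL e.inv i, fun x => ?_, fun x => ?_⟩
  · rw [← HmapL_comp, e.hom_inv_id, HmapL_id]
  · rw [← HmapL_comp, e.inv_hom_id, HmapL_id]

/-- isomorphic modules have linearly equivalent cohomology -/
noncomputable def HHEquivOfIso {M N : X'.Modules} (e : M ≅ N) (i : ℕ) :
    Coh.HH X' M i ≃ₗ[k'] Coh.HH X' N i :=
  LinearEquiv.ofBijective (HmapA k' e.hom i) (bijective_HmapL_of_iso e i)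

theorem euler_eq (g : X' ⟶ X) (F : X.Modules)
    (BC : ∀ i, Nonempty (k' ⊗[k] Coh.HH X F i ≃ₗ[k']
      Coh.HH X' ((Scheme.Modules.pullback g).obj F) i)) :
    Curv2.euler k' X' ((Scheme.Modules.pullback g).obj F) = Curv2.euler k X F := by
  unfold Curv2.euler
  refine finsum_congr fun i => ?_
  rw [finrank_eq_of_bc (BC i)]

theorem structure_bc (g : X' ⟶ X) (i : ℕ)
    (BC : Nonempty (k' ⊗[k] Coh.HH X (Coh.structureModule X) i ≃ₗ[k']
      Coh.HH X' ((Scheme.Modules.pullback g).obj (Coh.structureModule X)) i)) :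
    Nonempty (k' ⊗[k] Coh.HH X (Coh.structureModule X) i ≃ₗ[k']
      Coh.HH X' (Coh.structureModule X') i) := by
  obtain ⟨e⟩ := BC
  exact ⟨e.trans (HHEquivOfIso (Groth.Agent.Lib.Helper23.PB.pullbackUnitIso g) i)⟩

theorem euler_structure_eq (g : X' ⟶ X)
    (BC : ∀ i, Nonempty (k' ⊗[k] Coh.HH X (Coh.structureModule X) i ≃ₗ[k']
      Coh.HH X' ((Scheme.Modules.pullback g).obj (Coh.structureModule X)) i)) :
    Curv2.euler k' X' (Coh.structureModule X') = Curv2.euler k X (Coh.structureModule X) := by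
  unfold Curv2.euler
  refine finsum_congr fun i => ?_
  rw [finrank_eq_of_bc (structure_bc g i (BC i))]

end Geo

section Statements

theorem isCoh_structureModule (W : Scheme.{u}) : Coh.IsCoh (Coh.structureModule W) := by
  haveI : SheafOfModules.IsFinitePresentation (R := W.ringCatSheaf) (Coh.structureModule W) :=
    Groth.Agent.Helper18FinFlat.isFinitePresentation_structureModule W
  exact ⟨inferInstance, inferInstance⟩

theorem isCoh_of_rank {X : Scheme.{u}} {M : X.Modules} {r : ℕ}
    (h : FlatMod.IsFinLocFreeOfRank r M) : Coh.IsCoh M := by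
  have h' : FlatMod.IsFinLocFree M := fun x => by
    obtain ⟨U, hxU, e⟩ := h x
    exact ⟨U, r, hxU, e⟩
  haveI := Groth.Agent.Lib.Helper2.LocFree.isFP_of_isFinLocFree M h'
  exact ⟨inferInstance, inferInstance⟩

variable (H : FieldBC.{u})
include H

theorem s7673 (k : Type u) [Field k] (X : Scheme.{u}) [X.Over (Spec (CommRingCat.of k))]
    [IsProper (X ↘ (Spec (CommRingCat.of k)))]
    (k' : Type u) [Field k'] [Algebra k k'] (F : X.Modules) (hF : Coh.IsCoh F) :
    @Curv2.euler k' _ (Curv2.bc k X k') ⟨Curv2.bcSnd k X k'⟩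
        ((Scheme.Modules.pullback (Curv2.bcFst k X k')).obj F) = Curv2.euler k X F := by
  letI : (Curv2.bc k X k').Over (Spec (CommRingCat.of k')) := ⟨Curv2.bcSnd k X k'⟩
  exact euler_eq (Curv2.bcFst k X k') F (fun i => H k k' X (Curv2.bc k X k') (Curv2.bcFst k X k')
    (IsPullback.of_hasPullback _ _) F hF i)

theorem s7636 (k : Type u) [Field k] (X : Scheme.{u}) [X.Over (Spec (CommRingCat.of k))]
    [IsProper (X ↘ (Spec (CommRingCat.of k)))]
    (k' : Type u) [Field k'] [Algebra k k']
    (n : ℕ) (E : X.Modules) (hE : FlatMod.IsFinLocFreeOfRank n E) :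
    @Curv2.deg k' _ (Curv2.bc k X k') ⟨Curv2.bcSnd k X k'⟩
        ((Scheme.Modules.pullback (Curv2.bcFst k X k')).obj E) n = Curv2.deg k X E n := by
  letI : (Curv2.bc k X k').Over (Spec (CommRingCat.of k')) := ⟨Curv2.bcSnd k X k'⟩
  have hpb : IsPullback (Curv2.bcFst k X k') ((Curv2.bc k X k') ↘ Spec (CommRingCat.of k'))
      (X ↘ Spec (CommRingCat.of k)) (Spec.map (CommRingCat.ofHom (algebraMap k k'))) :=
    IsPullback.of_hasPullback _ _
  unfold Curv2.deg
  rw [euler_eq (Curv2.bcFst k X k') E (fun i => H k k' X _ _ hpb E (isCoh_of_rank hE) i),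
    euler_structure_eq (Curv2.bcFst k X k')
      (fun i => H k k' X _ _ hpb _ (isCoh_structureModule X) i)]

theorem s7690 (k : Type u) [Field k] (n : ℕ)
    (k' : Type u) [Field k'] [Algebra k k'] (F : (CohB1.ProjSpace n k).Modules) (hF : Coh.IsCoh F)
    (m : ℤ)
    (hT : ∀ d : ℤ, Coh.IsCoh (CohB1.tensorMod F (Twist.twistProjSpace n k d))) :
    Curv2.IsMRegular k n F m ↔
      ∀ i : ℕ, 1 ≤ i → i ≤ n →
        Subsingleton (Coh.HH (Curv2.bc k (CohB1.ProjSpace n k) k')
          ((Scheme.Modules.pullback (Curv2.bcFst k (CohB1.ProjSpace n k) k')).obj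
            (CohB1.tensorMod F (Twist.twistProjSpace n k (m - i)))) i) := by
  letI : (Curv2.bc k (CohB1.ProjSpace n k) k').Over (Spec (CommRingCat.of k')) :=
    ⟨Curv2.bcSnd k (CohB1.ProjSpace n k) k'⟩
  haveI : IsProper ((CohB1.ProjSpace n k) ↘ Spec (CommRingCat.of k)) :=
    Groth.Agent.S9705.isProper_projSpace_toSpec n k
  have hpb : IsPullback (Curv2.bcFst k (CohB1.ProjSpace n k) k')
      ((Curv2.bc k (CohB1.ProjSpace n k) k') ↘ Spec (CommRingCat.of k'))
      ((CohB1.ProjSpace n k) ↘ Spec (CommRingCat.of k))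
      (Spec.map (CommRingCat.ofHom (algebraMap k k'))) :=
    IsPullback.of_hasPullback _ _
  unfold Curv2.IsMRegular
  refine forall_congr' fun i => forall_congr' fun _ => forall_congr' fun _ => ?_
  exact (subsingleton_iff_of_bc (H k k' _ _ _ hpb _ (hT (m - i)) i)).symm

theorem s0223 (k : Type u) [Field k] (X : Scheme.{u}) [X.Over (Spec (CommRingCat.of k))]
    [IsProper (X ↘ Spec (CommRingCat.of k))]
    (h0 : Module.finrank k (Coh.HH X (Coh.structureModule X) 0) = 1)
    (k' : Type u) [Field k'] [Algebra k k'] (X' : Scheme.{u}) [X'.Over (Spec (CommRingCat.of k'))]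
    (g : X' ⟶ X)
    (hpb : IsPullback g (X' ↘ Spec (CommRingCat.of k')) (X ↘ Spec (CommRingCat.of k))
      (Spec.map (CommRingCat.ofHom (algebraMap k k')))) :
    Module.finrank k' (Coh.HH X' (Coh.structureModule X') 0) = 1 ∧
      Module.finrank k' (Coh.HH X' (Coh.structureModule X') 1) =
        Module.finrank k (Coh.HH X (Coh.structureModule X) 1) := by
  have key := fun i => finrank_eq_of_bc
    (structure_bc g i (H k k' X X' g hpb _ (isCoh_structureModule X) i))
  exact ⟨(key 0).trans h0, key 1⟩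

end Statements

end Groth.Agent.Lib.R2H4BCGlue
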