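import Mathlib
import Groth.Agent.Lib.Helper13FlatMV

/-!
# Base change maps on `Ext` groups along an exact functor (helper2, round 2)

`P : 𝒜 ⥤ 𝒜'` exact, `κ : P F ⟶ F'`.  For `z : Z' ⟶ P Z` we get `β z n : Ext Z F n →+ Ext Z' F' n`,
natural in `Z` (`β_precomp`), compatible with the connecting maps of short exact sequences
(`β_extClass`).  With ring actions `ρ : R →+* End F`, `ρ' : R' →+* End F'` compatible with `κ`, the
`Ext` groups become modules (`EM`), `β` is semilinear and induces `T z n : R' ⊗[R] Ext Z F n → Ext Z' F' n`.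
For `R → R'` flat and a morphism of short exact sequences `φ : S' ⟶ P S`, bijectivity of `T` for two
of the three terms (in all degrees) implies it for the third (`bij₃`, `bij₂`).
-/

set_option autoImplicit false
set_option linter.unusedSectionVars false

namespace Groth.Agent.Lib.R2H2.ExtBC

open CategoryTheory CategoryTheory.Limits Abelian TensorProduct Groth.Agent.Helper13FlatMV

universe w v v' u u'

variable {𝒜 : Type u} [Category.{v} 𝒜] [Abelian 𝒜] [HasExt.{w} 𝒜]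
  {𝒜' : Type u'} [Category.{v'} 𝒜'] [Abelian 𝒜'] [HasExt.{w} 𝒜']
  (P : 𝒜 ⥤ 𝒜') [P.Additive] [PreservesFiniteLimits P] [PreservesFiniteColimits P]
  {F : 𝒜} {F' : 𝒜'} (κ : P.obj F ⟶ F')

/-- the base change map on `Ext` groups -/
noncomputable def β {Z : 𝒜} {Z' : 𝒜'} (z : Z' ⟶ P.obj Z) (n : ℕ) :
    Ext.{w} Z F n →+ Ext.{w} Z' F' n :=
  ((Ext.mk₀ z).precomp F' (zero_add n)).comp
    (((Ext.mk₀ κ).postcomp (P.obj Z) (add_zero n)).comp (P.mapExtAddHom Z F n))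

lemma β_apply {Z : 𝒜} {Z' : 𝒜'} (z : Z' ⟶ P.obj Z) (n : ℕ) (x : Ext.{w} Z F n) :
    β P κ z n x =
      (Ext.mk₀ z).comp ((x.mapExactFunctor P).comp (Ext.mk₀ κ) (add_zero n)) (zero_add n) := rfl

lemma β_precomp {Z₁ Z₂ : 𝒜} {Z₁' Z₂' : 𝒜'} (a : Z₁ ⟶ Z₂) (a' : Z₁' ⟶ Z₂')
    (z₁ : Z₁' ⟶ P.obj Z₁) (z₂ : Z₂' ⟶ P.obj Z₂) (h : a' ≫ z₂ = z₁ ≫ P.map a) (n : ℕ)
    (x : Ext.{w} Z₂ F n) :
    β P κ z₁ n ((Ext.mk₀ a).comp x (zero_add n)) =
      (Ext.mk₀ a').comp (β P κ z₂ n x) (zero_add n) := by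
  rw [β_apply, β_apply, Ext.mapExactFunctor_comp, Ext.mapExactFunctor_mk₀,
    Ext.comp_assoc _ _ _ (zero_add n) (add_zero n) (by omega), Ext.mk₀_comp_mk₀_assoc,
    Ext.mk₀_comp_mk₀_assoc, h]

lemma β_extClass {S : ShortComplex 𝒜} (hS : S.ShortExact) {S' : ShortComplex 𝒜'}
    (hS' : S'.ShortExact) (φ : S' ⟶ S.map P) (n : ℕ) (x : Ext.{w} S.X₁ F n) :
    β P κ φ.τ₃ (n + 1) (hS.extClass.comp x (add_comm 1 n)) =
      hS'.extClass.comp (β P κ φ.τ₁ n x) (add_comm 1 n) := by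
  have hnat := ShortComplex.ShortExact.extClass_naturality hS' (hS.map_of_exact P) φ
  rw [β_apply, β_apply, Ext.mapExactFunctor_comp, Ext.mapExactFunctor_extClass,
    Ext.comp_assoc _ _ _ (add_comm 1 n) (add_zero n) (by omega),
    ← Ext.comp_assoc _ _ _ (zero_add 1) (add_comm 1 n) (by omega)]
  refine Eq.trans ?_ (Ext.comp_assoc _ _ _ (add_zero 1) (zero_add n) (by omega))
  exact congrArg (fun t => Ext.comp t ((x.mapExactFunctor P).comp (Ext.mk₀ κ) (add_zero n))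
    (add_comm 1 n)) hnat.symm

section Module

variable {R : Type w} [CommRing R] (ρ : R →+* End F)

/-- `Ext Z F n` with the `R`-module structure given by postcomposition with `ρ` -/
def EM (_ρ : R →+* End F) (Z : 𝒜) (n : ℕ) : Type w := Ext.{w} Z F n

noncomputable instance (Z : 𝒜) (n : ℕ) : AddCommGroup (EM ρ Z n) :=
  inferInstanceAs (AddCommGroup (Ext.{w} Z F n))

noncomputable instance (Z : 𝒜) (n : ℕ) : Module R (EM ρ Z n) where
  smul a x := (show Ext.{w} Z F n from x).comp (Ext.mk₀ (ρ a)) (add_zero n)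
  one_smul x := by
    change Ext.comp (show Ext.{w} Z F n from x) (Ext.mk₀ (ρ 1)) (add_zero n) = x
    rw [map_one, End.one_def]
    exact Ext.comp_mk₀_id _
  mul_smul a b x := by
    change Ext.comp (show Ext.{w} Z F n from x) (Ext.mk₀ (ρ (a * b))) (add_zero n) =
      Ext.comp (Ext.comp (show Ext.{w} Z F n from x) (Ext.mk₀ (ρ b)) (add_zero n))
        (Ext.mk₀ (ρ a)) (add_zero n)
    rw [map_mul, End.mul_def, ← Ext.mk₀_comp_mk₀, Ext.comp_assoc_of_third_deg_zero]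
  smul_zero a := by
    change Ext.comp (0 : Ext.{w} Z F n) (Ext.mk₀ (ρ a)) (add_zero n) = (0 : Ext.{w} Z F n)
    exact Ext.zero_comp Z n (Ext.mk₀ (ρ a)) n (add_zero n)
  smul_add a x y := by
    change Ext.comp ((show Ext.{w} Z F n from x) + (show Ext.{w} Z F n from y)) (Ext.mk₀ (ρ a))
      (add_zero n) = Ext.comp (show Ext.{w} Z F n from x) (Ext.mk₀ (ρ a)) (add_zero n) +
      Ext.comp (show Ext.{w} Z F n from y) (Ext.mk₀ (ρ a)) (add_zero n)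
    exact Ext.add_comp _ _ _ _
  add_smul a b x := by
    change Ext.comp (show Ext.{w} Z F n from x) (Ext.mk₀ (ρ (a + b))) (add_zero n) =
      Ext.comp (show Ext.{w} Z F n from x) (Ext.mk₀ (ρ a)) (add_zero n) +
      Ext.comp (show Ext.{w} Z F n from x) (Ext.mk₀ (ρ b)) (add_zero n)
    rw [map_add, Ext.mk₀_add, Ext.comp_add]
  zero_smul x := by
    change Ext.comp (show Ext.{w} Z F n from x) (Ext.mk₀ (ρ 0)) (add_zero n) =
      (0 : Ext.{w} Z F n)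
    rw [map_zero, Ext.mk₀_zero, Ext.comp_zero]

lemma EM_smul_def (Z : 𝒜) (n : ℕ) (a : R) (x : EM ρ Z n) :
    a • x = (show Ext.{w} Z F n from x).comp (Ext.mk₀ (ρ a)) (add_zero n) := rfl

/-- precomposition, as a linear map -/
noncomputable def pre {Z₁ Z₂ : 𝒜} (a : Z₁ ⟶ Z₂) (n : ℕ) : EM ρ Z₂ n →ₗ[R] EM ρ Z₁ n where
  toFun x := (Ext.mk₀ a).comp (show Ext.{w} Z₂ F n from x) (zero_add n)
  map_add' x y := Ext.comp_add _ _ _ _
  map_smul' r x := (Ext.comp_assoc _ _ _ (zero_add n) (add_zero n) (by omega)).symm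

lemma pre_apply {Z₁ Z₂ : 𝒜} (a : Z₁ ⟶ Z₂) (n : ℕ) (x : EM ρ Z₂ n) :
    pre ρ a n x = (Ext.mk₀ a).comp (show Ext.{w} Z₂ F n from x) (zero_add n) := rfl

/-- the connecting map, as a linear map -/
noncomputable def del {S : ShortComplex 𝒜} (hS : S.ShortExact) (n : ℕ) :
    EM ρ S.X₁ n →ₗ[R] EM ρ S.X₃ (n + 1) where
  toFun x := hS.extClass.comp (show Ext.{w} S.X₁ F n from x) (add_comm 1 n)
  map_add' x y := Ext.comp_add _ _ _ _
  map_smul' r x := (Ext.comp_assoc _ _ _ (add_comm 1 n) (add_zero n) (by omega)).symm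

lemma del_apply {S : ShortComplex 𝒜} (hS : S.ShortExact) (n : ℕ) (x : EM ρ S.X₁ n) :
    del ρ hS n x = hS.extClass.comp (show Ext.{w} S.X₁ F n from x) (add_comm 1 n) := rfl

variable {S : ShortComplex 𝒜} (hS : S.ShortExact)

include hS in
lemma exact₂ (n : ℕ) : Function.Exact (pre ρ S.g n) (pre ρ S.f n) := by
  intro x
  constructor
  · intro hx
    obtain ⟨y, hy⟩ := Ext.contravariant_sequence_exact₂ hS F (show Ext.{w} S.X₂ F n from x) hx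
    exact ⟨y, hy⟩
  · rintro ⟨y, rfl⟩
    change (Ext.mk₀ S.f).comp ((Ext.mk₀ S.g).comp (show Ext.{w} S.X₃ F n from y) (zero_add n))
      (zero_add n) = 0
    rw [Ext.mk₀_comp_mk₀_assoc, S.zero, Ext.mk₀_zero, Ext.zero_comp]

lemma exact₁ (n : ℕ) : Function.Exact (pre ρ S.f n) (del ρ hS n) := by
  intro x
  constructor
  · intro hx
    obtain ⟨y, hy⟩ := Ext.contravariant_sequence_exact₁ hS F (show Ext.{w} S.X₁ F n from x)
      (add_comm 1 n) hx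
    exact ⟨y, hy⟩
  · rintro ⟨y, rfl⟩
    change hS.extClass.comp ((Ext.mk₀ S.f).comp (show Ext.{w} S.X₂ F n from y) (zero_add n))
      (add_comm 1 n) = 0
    rw [← Ext.comp_assoc _ _ _ (add_zero 1) (zero_add n) (by omega), hS.extClass_comp,
      Ext.zero_comp]

lemma exact₃ (n : ℕ) : Function.Exact (del ρ hS n) (pre ρ S.g (n + 1)) := by
  intro x
  constructor
  · intro hx
    obtain ⟨y, hy⟩ := Ext.contravariant_sequence_exact₃ hS F (show Ext.{w} S.X₃ F (n + 1) from x)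
      hx (add_comm 1 n)
    exact ⟨y, hy⟩
  · rintro ⟨y, rfl⟩
    change (Ext.mk₀ S.g).comp (hS.extClass.comp (show Ext.{w} S.X₁ F n from y) (add_comm 1 n))
      (zero_add (n + 1)) = 0
    rw [← Ext.comp_assoc _ _ _ (zero_add 1) (add_comm 1 n) (by omega), hS.comp_extClass,
      Ext.zero_comp]

include hS in
lemma pre_g_injective : Function.Injective (pre ρ S.g 0) := by
  haveI : Epi S.g := hS.epi_g
  exact Ext.precomp_mk₀_injective_of_epi F S.g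

end Module

section Semilinear

variable {R R' : Type w} [CommRing R] [CommRing R'] [Algebra R R']
  (ρ : R →+* End F) (ρ' : R' →+* End F')
  (hκ : ∀ a : R, P.map (ρ a) ≫ κ = κ ≫ ρ' (algebraMap R R' a))

/-- `β` between the module types -/
noncomputable def βM {Z : 𝒜} {Z' : 𝒜'} (z : Z' ⟶ P.obj Z) (n : ℕ) : EM ρ Z n →+ EM ρ' Z' n :=
  β P κ z n

include hκ in
lemma βM_smul {Z : 𝒜} {Z' : 𝒜'} (z : Z' ⟶ P.obj Z) (n : ℕ) (a : R) (x : EM ρ Z n) :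
    βM P κ ρ ρ' z n (a • x) = algebraMap R R' a • βM P κ ρ ρ' z n x := by
  change β P κ z n (Ext.comp (show Ext.{w} Z F n from x) (Ext.mk₀ (ρ a)) (add_zero n)) =
    Ext.comp (β P κ z n (show Ext.{w} Z F n from x)) (Ext.mk₀ (ρ' (algebraMap R R' a)))
      (add_zero n)
  rw [β_apply, β_apply, Ext.mapExactFunctor_comp, Ext.mapExactFunctor_mk₀]
  simp only [Ext.comp_assoc_of_third_deg_zero, Ext.mk₀_comp_mk₀]
  rw [hκ]

/-- the base change comparison `R' ⊗[R] Ext Z F n → Ext Z' F' n` -/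
noncomputable def T {Z : 𝒜} {Z' : 𝒜'} (z : Z' ⟶ P.obj Z) (n : ℕ) :
    R' ⊗[R] EM ρ Z n →ₗ[R'] EM ρ' Z' n :=
  kap (βM P κ ρ ρ' z n) (βM_smul P κ ρ ρ' hκ z n)

lemma T_tmul {Z : 𝒜} {Z' : 𝒜'} (z : Z' ⟶ P.obj Z) (n : ℕ) (r' : R') (x : EM ρ Z n) :
    T P κ ρ ρ' hκ z n (r' ⊗ₜ[R] x) = r' • βM P κ ρ ρ' z n x := rfl

lemma T_pre {Z₁ Z₂ : 𝒜} {Z₁' Z₂' : 𝒜'} (a : Z₁ ⟶ Z₂) (a' : Z₁' ⟶ Z₂')
    (z₁ : Z₁' ⟶ P.obj Z₁) (z₂ : Z₂' ⟶ P.obj Z₂) (h : a' ≫ z₂ = z₁ ≫ P.map a) (n : ℕ)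
    (t : R' ⊗[R] EM ρ Z₂ n) :
    pre ρ' a' n (T P κ ρ ρ' hκ z₂ n t) = T P κ ρ ρ' hκ z₁ n ((pre ρ a n).lTensor R' t) :=
  kap_nat _ _ _ _ (pre ρ a n) (pre ρ' a' n) (fun x => (β_precomp P κ a a' z₁ z₂ h n x).symm) t

lemma T_del {S : ShortComplex 𝒜} (hS : S.ShortExact) {S' : ShortComplex 𝒜'}
    (hS' : S'.ShortExact) (φ : S' ⟶ S.map P) (n : ℕ) (t : R' ⊗[R] EM ρ S.X₁ n) :
    del ρ' hS' n (T P κ ρ ρ' hκ φ.τ₁ n t) =
      T P κ ρ ρ' hκ φ.τ₃ (n + 1) ((del ρ hS n).lTensor R' t) :=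
  kap_nat _ _ _ _ (del ρ hS n) (del ρ' hS' n) (fun x => (β_extClass P κ hS hS' φ n x).symm) t

variable [Module.Flat R R'] {S : ShortComplex 𝒜} (hS : S.ShortExact) {S' : ShortComplex 𝒜'}
  (hS' : S'.ShortExact) (φ : S' ⟶ S.map P)

include hS hS' in
/-- two-out-of-three: first and second terms imply the third -/
theorem bij₃ (h₁ : ∀ n, Function.Bijective (T P κ ρ ρ' hκ φ.τ₁ n))
    (h₂ : ∀ n, Function.Bijective (T P κ ρ ρ' hκ φ.τ₂ n)) (n : ℕ) :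
    Function.Bijective (T P κ ρ ρ' hκ φ.τ₃ n) := by
  have c₁ : S'.f ≫ φ.τ₂ = φ.τ₁ ≫ P.map S.f := φ.comm₁₂.symm
  have c₂ : S'.g ≫ φ.τ₃ = φ.τ₂ ≫ P.map S.g := φ.comm₂₃.symm
  cases n with
  | zero =>
    exact AddMonoidHom.bijective_of_bijective_of_injective_of_left_exact
      ((pre ρ S.g 0).lTensor R').toAddMonoidHom ((pre ρ S.f 0).lTensor R').toAddMonoidHom
      (pre ρ' S'.g 0).toAddMonoidHom (pre ρ' S'.f 0).toAddMonoidHom
      (T P κ ρ ρ' hκ φ.τ₃ 0).toAddMonoidHom (T P κ ρ ρ' hκ φ.τ₂ 0).toAddMonoidHom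
      (T P κ ρ ρ' hκ φ.τ₁ 0).toAddMonoidHom
      (AddMonoidHom.ext fun t => T_pre P κ ρ ρ' hκ S.g S'.g φ.τ₂ φ.τ₃ c₂ 0 t)
      (AddMonoidHom.ext fun t => T_pre P κ ρ ρ' hκ S.f S'.f φ.τ₁ φ.τ₂ c₁ 0 t)
      (Module.Flat.lTensor_exact R' (exact₂ ρ hS 0)) (exact₂ ρ' hS' 0)
      (h₂ 0) (h₁ 0).1
      (Module.Flat.lTensor_preserves_injective_linearMap _ (pre_g_injective ρ hS))
      (pre_g_injective ρ' hS')
  | succ n =>
    exact AddMonoidHom.bijective_of_surjective_of_bijective_of_bijective_of_injective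
      ((pre ρ S.f n).lTensor R').toAddMonoidHom ((del ρ hS n).lTensor R').toAddMonoidHom
      ((pre ρ S.g (n + 1)).lTensor R').toAddMonoidHom
      ((pre ρ S.f (n + 1)).lTensor R').toAddMonoidHom
      (pre ρ' S'.f n).toAddMonoidHom (del ρ' hS' n).toAddMonoidHom
      (pre ρ' S'.g (n + 1)).toAddMonoidHom (pre ρ' S'.f (n + 1)).toAddMonoidHom
      (T P κ ρ ρ' hκ φ.τ₂ n).toAddMonoidHom (T P κ ρ ρ' hκ φ.τ₁ n).toAddMonoidHom
      (T P κ ρ ρ' hκ φ.τ₃ (n + 1)).toAddMonoidHom (T P κ ρ ρ' hκ φ.τ₂ (n + 1)).toAddMonoidHom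
      (T P κ ρ ρ' hκ φ.τ₁ (n + 1)).toAddMonoidHom
      (AddMonoidHom.ext fun t => T_pre P κ ρ ρ' hκ S.f S'.f φ.τ₁ φ.τ₂ c₁ n t)
      (AddMonoidHom.ext fun t => T_del P κ ρ ρ' hκ hS hS' φ n t)
      (AddMonoidHom.ext fun t => T_pre P κ ρ ρ' hκ S.g S'.g φ.τ₂ φ.τ₃ c₂ (n + 1) t)
      (AddMonoidHom.ext fun t => T_pre P κ ρ ρ' hκ S.f S'.f φ.τ₁ φ.τ₂ c₁ (n + 1) t)
      (Module.Flat.lTensor_exact R' (exact₁ ρ hS n))
      (Module.Flat.lTensor_exact R' (exact₃ ρ hS n))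
      (Module.Flat.lTensor_exact R' (exact₂ ρ hS (n + 1)))
      (exact₁ ρ' hS' n) (exact₃ ρ' hS' n) (exact₂ ρ' hS' (n + 1))
      (h₂ n).2 (h₁ n) (h₂ (n + 1)) (h₁ (n + 1)).1

include hS hS' in
/-- two-out-of-three: first and third terms imply the second -/
theorem bij₂ (h₁ : ∀ n, Function.Bijective (T P κ ρ ρ' hκ φ.τ₁ n))
    (h₃ : ∀ n, Function.Bijective (T P κ ρ ρ' hκ φ.τ₃ n)) (n : ℕ) :
    Function.Bijective (T P κ ρ ρ' hκ φ.τ₂ n) := by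
  have c₁ : S'.f ≫ φ.τ₂ = φ.τ₁ ≫ P.map S.f := φ.comm₁₂.symm
  have c₂ : S'.g ≫ φ.τ₃ = φ.τ₂ ≫ P.map S.g := φ.comm₂₃.symm
  cases n with
  | zero =>
    constructor
    · rw [injective_iff_map_eq_zero]
      intro t ht
      have e1 : T P κ ρ ρ' hκ φ.τ₁ 0 ((pre ρ S.f 0).lTensor R' t) = 0 := by
        rw [← T_pre P κ ρ ρ' hκ S.f S'.f φ.τ₁ φ.τ₂ c₁ 0 t, ht, map_zero]
      have e2 : (pre ρ S.f 0).lTensor R' t = 0 :=
        (h₁ 0).1 (e1.trans (map_zero _).symm)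
      obtain ⟨s, rfl⟩ := (Module.Flat.lTensor_exact R' (exact₂ ρ hS 0) t).1 e2
      have e3 : pre ρ' S'.g 0 (T P κ ρ ρ' hκ φ.τ₃ 0 s) = 0 := by
        rw [T_pre P κ ρ ρ' hκ S.g S'.g φ.τ₂ φ.τ₃ c₂ 0 s, ht]
      have e4 : T P κ ρ ρ' hκ φ.τ₃ 0 s = 0 :=
        pre_g_injective ρ' hS' (e3.trans (map_zero _).symm)
      have e5 : s = 0 := (h₃ 0).1 (e4.trans (map_zero _).symm)
      rw [e5, map_zero]
    · exact AddMonoidHom.surjective_of_surjective_of_surjective_of_injective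
        ((pre ρ S.g 0).lTensor R').toAddMonoidHom ((pre ρ S.f 0).lTensor R').toAddMonoidHom
        ((del ρ hS 0).lTensor R').toAddMonoidHom
        (pre ρ' S'.g 0).toAddMonoidHom (pre ρ' S'.f 0).toAddMonoidHom (del ρ' hS' 0).toAddMonoidHom
        (T P κ ρ ρ' hκ φ.τ₃ 0).toAddMonoidHom (T P κ ρ ρ' hκ φ.τ₂ 0).toAddMonoidHom
        (T P κ ρ ρ' hκ φ.τ₁ 0).toAddMonoidHom (T P κ ρ ρ' hκ φ.τ₃ 1).toAddMonoidHom
        (AddMonoidHom.ext fun t => T_pre P κ ρ ρ' hκ S.g S'.g φ.τ₂ φ.τ₃ c₂ 0 t)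
        (AddMonoidHom.ext fun t => T_pre P κ ρ ρ' hκ S.f S'.f φ.τ₁ φ.τ₂ c₁ 0 t)
        (AddMonoidHom.ext fun t => T_del P κ ρ ρ' hκ hS hS' φ 0 t)
        (Module.Flat.lTensor_exact R' (exact₁ ρ hS 0))
        (exact₂ ρ' hS' 0) (exact₁ ρ' hS' 0)
        (h₃ 0).2 (h₁ 0).2 (h₃ 1).1
  | succ n =>
    exact AddMonoidHom.bijective_of_surjective_of_bijective_of_bijective_of_injective
      ((del ρ hS n).lTensor R').toAddMonoidHom ((pre ρ S.g (n + 1)).lTensor R').toAddMonoidHom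
      ((pre ρ S.f (n + 1)).lTensor R').toAddMonoidHom
      ((del ρ hS (n + 1)).lTensor R').toAddMonoidHom
      (del ρ' hS' n).toAddMonoidHom (pre ρ' S'.g (n + 1)).toAddMonoidHom
      (pre ρ' S'.f (n + 1)).toAddMonoidHom (del ρ' hS' (n + 1)).toAddMonoidHom
      (T P κ ρ ρ' hκ φ.τ₁ n).toAddMonoidHom (T P κ ρ ρ' hκ φ.τ₃ (n + 1)).toAddMonoidHom
      (T P κ ρ ρ' hκ φ.τ₂ (n + 1)).toAddMonoidHom (T P κ ρ ρ' hκ φ.τ₁ (n + 1)).toAddMonoidHom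
      (T P κ ρ ρ' hκ φ.τ₃ (n + 1 + 1)).toAddMonoidHom
      (AddMonoidHom.ext fun t => T_del P κ ρ ρ' hκ hS hS' φ n t)
      (AddMonoidHom.ext fun t => T_pre P κ ρ ρ' hκ S.g S'.g φ.τ₂ φ.τ₃ c₂ (n + 1) t)
      (AddMonoidHom.ext fun t => T_pre P κ ρ ρ' hκ S.f S'.f φ.τ₁ φ.τ₂ c₁ (n + 1) t)
      (AddMonoidHom.ext fun t => T_del P κ ρ ρ' hκ hS hS' φ (n + 1) t)
      (Module.Flat.lTensor_exact R' (exact₃ ρ hS n))
      (Module.Flat.lTensor_exact R' (exact₂ ρ hS (n + 1)))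
      (Module.Flat.lTensor_exact R' (exact₁ ρ hS (n + 1)))
      (exact₃ ρ' hS' n) (exact₂ ρ' hS' (n + 1)) (exact₁ ρ' hS' (n + 1))
      (h₁ n).2 (h₃ (n + 1)) (h₁ (n + 1)) (h₃ (n + 1 + 1)).1

/-- Mayer–Vietoris: the comparison maps are bijective on the fourth corner of a Mayer–Vietoris square as soon as
they are on the other three. -/
theorem bij_mv {A₁ A₂ A₃ A₄ : 𝒜} (a : A₁ ⟶ A₂) (b : A₁ ⟶ A₃) (c : A₂ ⟶ A₄) (d : A₃ ⟶ A₄)
    (w : biprod.lift a (-b) ≫ biprod.desc c d = 0)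
    (hT : (ShortComplex.mk (biprod.lift a (-b)) (biprod.desc c d) w).ShortExact)
    {A₁' A₂' A₃' A₄' : 𝒜'} (a' : A₁' ⟶ A₂') (b' : A₁' ⟶ A₃') (c' : A₂' ⟶ A₄') (d' : A₃' ⟶ A₄')
    (w' : biprod.lift a' (-b') ≫ biprod.desc c' d' = 0)
    (hT' : (ShortComplex.mk (biprod.lift a' (-b')) (biprod.desc c' d') w').ShortExact)
    (z₁ : A₁' ⟶ P.obj A₁) (z₂ : A₂' ⟶ P.obj A₂) (z₃ : A₃' ⟶ P.obj A₃) (z₄ : A₄' ⟶ P.obj A₄)
    (ha : a' ≫ z₂ = z₁ ≫ P.map a) (hb : b' ≫ z₃ = z₁ ≫ P.map b)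
    (hc : c' ≫ z₄ = z₂ ≫ P.map c) (hd : d' ≫ z₄ = z₃ ≫ P.map d)
    (h₁ : ∀ n, Function.Bijective (T P κ ρ ρ' hκ z₁ n))
    (h₂ : ∀ n, Function.Bijective (T P κ ρ ρ' hκ z₂ n))
    (h₃ : ∀ n, Function.Bijective (T P κ ρ ρ' hκ z₃ n)) (n : ℕ) :
    Function.Bijective (T P κ ρ ρ' hκ z₄ n) := by
  let τ : A₂' ⊞ A₃' ⟶ P.obj (A₂ ⊞ A₃) :=
    biprod.desc (z₂ ≫ P.map biprod.inl) (z₃ ≫ P.map biprod.inr)
  -- the split sequence
  let Ss : ShortComplex 𝒜 := ShortComplex.mk (biprod.inl : A₂ ⟶ A₂ ⊞ A₃) biprod.snd (by simp)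
  let Ss' : ShortComplex 𝒜' := ShortComplex.mk (biprod.inl : A₂' ⟶ A₂' ⊞ A₃') biprod.snd (by simp)
  have hSs : Ss.ShortExact := (ShortComplex.Splitting.ofHasBinaryBiproduct A₂ A₃).shortExact
  have hSs' : Ss'.ShortExact := (ShortComplex.Splitting.ofHasBinaryBiproduct A₂' A₃').shortExact
  let φs : Ss' ⟶ Ss.map P :=
    { τ₁ := z₂
      τ₂ := τ
      τ₃ := z₃
      comm₁₂ := by
        change z₂ ≫ P.map biprod.inl = biprod.inl ≫ τ
        rw [biprod.inl_desc]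
      comm₂₃ := by
        change τ ≫ P.map biprod.snd = biprod.snd ≫ z₃
        apply biprod.hom_ext'
        · rw [biprod.inl_desc_assoc, Category.assoc, ← P.map_comp, biprod.inl_snd, P.map_zero,
            comp_zero, biprod.inl_snd_assoc, zero_comp]
        · rw [biprod.inr_desc_assoc, Category.assoc, ← P.map_comp, biprod.inr_snd, P.map_id,
            Category.comp_id, biprod.inr_snd_assoc] }
  have hτ : ∀ n, Function.Bijective (T P κ ρ ρ' hκ τ n) :=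
    bij₂ P κ ρ ρ' hκ hSs hSs' φs h₂ h₃
  let φ : ShortComplex.mk (biprod.lift a' (-b')) (biprod.desc c' d') w' ⟶
      (ShortComplex.mk (biprod.lift a (-b)) (biprod.desc c d) w).map P :=
    { τ₁ := z₁
      τ₂ := τ
      τ₃ := z₄
      comm₁₂ := by
        change z₁ ≫ P.map (biprod.lift a (-b)) = biprod.lift a' (-b') ≫ τ
        rw [biprod.lift_desc, ← Category.assoc, ← Category.assoc, ha, Preadditive.neg_comp, hb,
          biprod.lift_eq, P.map_add, P.map_comp, P.map_comp, P.map_neg, Preadditive.comp_add]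
        simp only [Category.assoc, Preadditive.neg_comp, Preadditive.comp_neg]
      comm₂₃ := by
        change τ ≫ P.map (biprod.desc c d) = biprod.desc c' d' ≫ z₄
        apply biprod.hom_ext'
        · rw [biprod.inl_desc_assoc, Category.assoc, ← P.map_comp, biprod.inl_desc,
            biprod.inl_desc_assoc, hc]
        · rw [biprod.inr_desc_assoc, Category.assoc, ← P.map_comp, biprod.inr_desc,
            biprod.inr_desc_assoc, hd] }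
  exact bij₃ P κ ρ ρ' hκ hT hT' φ h₁ hτ n

end Semilinear

end Groth.Agent.Lib.R2H2.ExtBC
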