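import Mathlib
import Groth.Agent.Lib.R2H2ExtBC
import Groth.Agent.Lib.Helper23AffOpen4
import Groth.Agent.Lib.Helper23AffVanish7
import Groth.Agent.Lib.Helper20FormalPull
import Groth.Agent.Lib.Helper13QcqsBC
import Groth.Prelude.Def_CohPull

/-!
# Flat base change for the cohomology of quasi-coherent modules (helper2, round 2)

Namespace `Groth.Agent.Lib.R2H2.SheafBC`.

Setting: `A → B` a ring map, `f : X ⟶ Spec A`, `f' : X' ⟶ Spec B`, `g' : X' ⟶ X` with
`IsPullback g' f' f (Spec.map (A → B))`, `M` an `O_X`-module.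

* `z g W : ℤ_{g⁻¹W} ⟶ g⁻¹(ℤ_W)` (natural in `W`: `z_nat`), for a continuous map `g`.
* `rho f M : A →+* End (Coh.toAb M)`, `hκ` (the map `theta g' M : g'⁻¹M ⟶ g'^*M` is semilinear).
* `TT f f' g' h M W n : B ⊗[A] H^n(W, M) →ₗ[B] H^n(g'⁻¹W, g'^*M)` (cohomology over opens as Ext out of `ℤ_W`,
  module structure `ExtBC.EM`), `KB W` : all `TT W n` bijective.
* `KB_of_isAffineOpen` (affine `W`, `M` quasi-coherent), `KB_bot`, `KB_sup` (Mayer–Vietoris, `A → B` flat),
  `KB_of_isCompact` (`X` quasi-separated), `KB_top`.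
* `eH : H^n(⊤, M) ≃ₗ[A] Coh.HH X M n`.
* `flatBaseChangeEquiv : B ⊗[A] H^i(X, M) ≃ₗ[B] H^i(X', g'^*M)` for `X` qcqs, `A → B` flat, `M` quasi-coherent.
-/

set_option autoImplicit false
universe u
open CategoryTheory CategoryTheory.Limits Opposite TopologicalSpace Abelian AlgebraicGeometry TensorProduct

namespace Groth.Agent.Lib.R2H2.SheafBC

open Groth.Agent.Lib.Helper23.AffVanish Groth.Agent.Lib.R2H2.ExtBC Groth.Agent.Helper13FlatMV
  Groth.Agent.Helper13PullbackUnit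



section Top
variable {X' X : TopCat.{u}} (g : X' ⟶ X)

/-- the section of `g⁻¹(ℤ_W)` over `g⁻¹W` -/
noncomputable def zSec (W : Opens X) :
    ((CohPull.inv g).obj (ZU W)).obj.obj (op ((Opens.map g).obj W)) :=
  (((CohPull.invPushAdj g).unit.app (ZU W)).hom.app (op W)).hom (CohFree.gen (J X) W)

/-- the comparison `ℤ_{g⁻¹W} ⟶ g⁻¹(ℤ_W)` -/
noncomputable def z (W : Opens X) : ZU ((Opens.map g).obj W) ⟶ (CohPull.inv g).obj (ZU W) :=
  CohFree.ofSect (J X') _ _ (zSec g W)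

lemma evalGen_ofSect_comp {Y : TopCat.{u}} (U : Opens Y) {F G : CohTop.Ab Y} (s : F.obj.obj (op U))
    (ψ : F ⟶ G) :
    CohFree.evalGen (J Y) U G (CohFree.ofSect (J Y) U F s ≫ ψ) = (ψ.hom.app (op U)).hom s := by
  have := CohFree.evalGen_ofSect (J Y) U F s
  change (ψ.hom.app (op U)).hom (CohFree.evalGen (J Y) U F (CohFree.ofSect (J Y) U F s)) = _
  rw [this]

lemma unit_nat {F G : CohTop.Ab X} (φ : F ⟶ G) (W : Opens X) (s : F.obj.obj (op W)) :
    (((CohPull.inv g).map φ).hom.app (op ((Opens.map g).obj W))).hom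
      ((((CohPull.invPushAdj g).unit.app F).hom.app (op W)).hom s) =
    (((CohPull.invPushAdj g).unit.app G).hom.app (op W)).hom ((φ.hom.app (op W)).hom s) := by
  have h := (CohPull.invPushAdj g).unit.naturality φ
  have h2 := congrArg (fun t => (t.hom.app (op W)).hom s) h
  exact h2.symm

lemma evalGen_z_comp {F : CohTop.Ab X} {F' : CohTop.Ab X'} (κ : (CohPull.inv g).obj F ⟶ F')
    (W : Opens X) (φ : ZU W ⟶ F) :
    CohFree.evalGen (J X') ((Opens.map g).obj W) F' (z g W ≫ (CohPull.inv g).map φ ≫ κ) =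
      (κ.hom.app (op ((Opens.map g).obj W))).hom
        ((((CohPull.invPushAdj g).unit.app F).hom.app (op W)).hom (CohFree.evalGen (J X) W F φ)) := by
  rw [z, evalGen_ofSect_comp]
  change (κ.hom.app _).hom ((((CohPull.inv g).map φ).hom.app _).hom (zSec g W)) = _
  rw [zSec, unit_nat]
  rfl

lemma z_nat {W₁ W₂ : Opens X} (h : W₂ ≤ W₁) :
    CohCx.freeSheafMap (J X') (homOfLE ((Opens.map g).monotone h)) ≫ z g W₁ =
      z g W₂ ≫ (CohPull.inv g).map (CohCx.freeSheafMap (J X) (homOfLE h)) := by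
  apply (CohFree.homEquivSect (J X') _ _).injective
  rw [CohFree.homEquivSect_apply, CohFree.homEquivSect_apply, CohFree.evalGen_freeSheafMap_comp]
  have h2 := evalGen_z_comp g (𝟙 _) W₂ (CohCx.freeSheafMap (J X) (homOfLE h))
  rw [Category.comp_id] at h2
  rw [h2, z, CohFree.evalGen_ofSect, zSec]
  have h3 : CohFree.evalGen (J X) W₂ (ZU W₁) (CohCx.freeSheafMap (J X) (homOfLE h)) =
      ((ZU W₁).obj.map (homOfLE h).op).hom (CohFree.gen (J X) W₁) := CohFree.freeSheafMap_gen (J X) (homOfLE h)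
  rw [h3]
  have h4 := ((CohPull.invPushAdj g).unit.app (ZU W₁)).hom.naturality (homOfLE h).op
  have h5 := congrArg (fun t => t.hom (CohFree.gen (J X) W₁)) h4
  exact h5.symm

end Top




section Sch

variable {A : Type u} [CommRing A] {X : Scheme.{u}} (f : X ⟶ Spec (CommRingCat.of A)) (M : X.Modules)

/-- the action of `A` on the underlying abelian sheaf of an `O_X`-module -/
noncomputable def rho : A →+* End (Coh.toAb M) where
  toFun a := Coh.smulAb M (Coh.toGlobal f a)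
  map_one' := by rw [map_one, Coh.smulAb_one]; rfl
  map_mul' a b := by rw [map_mul, Coh.smulAb_mul]; rfl
  map_zero' := by rw [map_zero, Coh.smulAb_zero]
  map_add' a b := by rw [map_add, Coh.smulAb_add]

lemma rho_apply (a : A) : rho f M a = Coh.smulAb M (Coh.toGlobal f a) := rfl

lemma toSheaf_smulModΓ (r : Coh.Γtop X) :
    (SheafOfModules.toSheaf X.ringCatSheaf).map (Formal.smulModΓ M r) = Coh.smulAb M r := rfl

end Sch

section Sq

variable {A B : Type u} [CommRing A] [CommRing B] [Algebra A B] {X X' : Scheme.{u}}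
  (f : X ⟶ Spec (CommRingCat.of A)) (f' : X' ⟶ Spec (CommRingCat.of B)) (g' : X' ⟶ X)
  (hw : g' ≫ f = f' ≫ Spec.map (CommRingCat.ofHom (algebraMap A B))) (M : X.Modules)

include hw in
lemma toGlobal_algebraMap (a : A) :
    Coh.toGlobal f' (algebraMap A B a) = g'.appTop.hom (Coh.toGlobal f a) := by
  have h1 : (g' ≫ f).appTop = (f' ≫ Spec.map (CommRingCat.ofHom (algebraMap A B))).appTop := by rw [hw]
  rw [Scheme.Hom.comp_appTop, Scheme.Hom.comp_appTop] at h1
  have h2 := Scheme.ΓSpecIso_inv_naturality (CommRingCat.ofHom (algebraMap A B))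
  change f'.appTop.hom ((Scheme.ΓSpecIso (CommRingCat.of B)).inv.hom (algebraMap A B a)) =
    g'.appTop.hom (f.appTop.hom ((Scheme.ΓSpecIso (CommRingCat.of A)).inv.hom a))
  have h3 := congrArg (fun t => t.hom ((Scheme.ΓSpecIso (CommRingCat.of A)).inv.hom a)) h1
  have h4 := congrArg (fun t => f'.appTop.hom (t.hom a)) h2
  exact h4.trans h3.symm

lemma theta_smul (r : Coh.Γtop X) :
    (CohPull.inv g'.base).map (Coh.smulAb M r) ≫ CohPull.theta g' M =
      CohPull.theta g' M ≫ Coh.smulAb ((Scheme.Modules.pullback g').obj M) (g'.appTop.hom r) := by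
  rw [CohPull.theta, ← Adjunction.homEquiv_naturality_left_symm,
    ← Adjunction.homEquiv_naturality_right_symm]
  congr 1
  let adj := Scheme.Modules.pullbackPushforwardAdjunction g'
  have e1 : (SheafOfModules.toSheaf X.ringCatSheaf).map (Formal.smulModΓ M r) ≫
      (SheafOfModules.toSheaf X.ringCatSheaf).map (adj.unit.app M) =
      (SheafOfModules.toSheaf X.ringCatSheaf).map (Formal.smulModΓ M r ≫ adj.unit.app M) :=
    ((SheafOfModules.toSheaf X.ringCatSheaf).map_comp _ _).symm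
  have e2 : (SheafOfModules.toSheaf X.ringCatSheaf).map (Formal.smulModΓ M r ≫ adj.unit.app M) =
      (SheafOfModules.toSheaf X.ringCatSheaf).map (adj.unit.app M ≫ Formal.smulModΓ _ r) :=
    congrArg (SheafOfModules.toSheaf X.ringCatSheaf).map
      (Groth.Agent.S9530.smulModΓ_comp (adj.unit.app M) r)
  have e3 : (SheafOfModules.toSheaf X.ringCatSheaf).map (adj.unit.app M ≫ Formal.smulModΓ _ r) =
      (SheafOfModules.toSheaf X.ringCatSheaf).map (adj.unit.app M) ≫
        (SheafOfModules.toSheaf X.ringCatSheaf).map (Formal.smulModΓ _ r) :=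
    (SheafOfModules.toSheaf X.ringCatSheaf).map_comp _ _
  have e4 := Groth.Agent.Lib.Helper20.FormalPull.pushforward_map_smulModΓ g'
    ((Scheme.Modules.pullback g').obj M) r
  refine e1.trans (e2.trans (e3.trans ?_))
  exact congrArg (fun t => (SheafOfModules.toSheaf X.ringCatSheaf).map (adj.unit.app M) ≫
    (SheafOfModules.toSheaf X.ringCatSheaf).map t) e4.symm

include hw in
lemma hκ (a : A) :
    (CohPull.inv g'.base).map (rho f M a) ≫ CohPull.theta g' M =
      CohPull.theta g' M ≫ rho f' ((Scheme.Modules.pullback g').obj M) (algebraMap A B a) := by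
  rw [rho_apply, rho_apply, toGlobal_algebraMap f f' g' hw, theta_smul]

end Sq




section H0

variable {A : Type u} [CommRing A] {X : Scheme.{u}} (f : X ⟶ Spec (CommRingCat.of A)) (M : X.Modules)

/-- degree zero classes as sections -/
noncomputable def h0 (W : X.Opens) : EM (rho f M) (ZU W) 0 ≃+ (Coh.toAb M).obj.obj (op W) :=
  h0Equiv (Coh.toAb M) W

lemma h0_mk₀ (W : X.Opens) (φ : ZU W ⟶ Coh.toAb M) :
    h0 f M W (show EM (rho f M) (ZU W) 0 from Ext.mk₀ φ) = CohFree.evalGen (J X) W (Coh.toAb M) φ := by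
  change CohFree.evalGen (J X) W (Coh.toAb M) (Ext.addEquiv₀ (Ext.mk₀ φ)) = _
  rw [addEquiv₀_mk₀]

lemma h0_smul (W : X.Opens) (a : A) (x : EM (rho f M) (ZU W) 0) :
    h0 f M W (a • x) = (Coh.smulAb M (Coh.toGlobal f a)).hom.app (op W) (h0 f M W x) := by
  obtain ⟨φ, rfl⟩ := (Ext.mk₀_bijective _ _).2 (show Ext.{u} (ZU W) (Coh.toAb M) 0 from x)
  rw [EM_smul_def, Ext.mk₀_comp_mk₀]
  erw [h0_mk₀, h0_mk₀]
  rfl

end H0

section Base

variable {A B : Type u} [CommRing A] [CommRing B] [Algebra A B] {X X' : Scheme.{u}}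
  (f : X ⟶ Spec (CommRingCat.of A)) (f' : X' ⟶ Spec (CommRingCat.of B)) (g' : X' ⟶ X)
  (h : IsPullback g' f' f (Spec.map (CommRingCat.ofHom (algebraMap A B)))) (M : X.Modules)

/-- the comparison maps -/
noncomputable abbrev TT (W : X.Opens) (n : ℕ) :
    B ⊗[A] EM (rho f M) (ZU W) n →ₗ[B]
      EM (rho f' ((Scheme.Modules.pullback g').obj M)) (ZU (g' ⁻¹ᵁ W)) n :=
  T (CohPull.inv g'.base) (CohPull.theta g' M) (rho f M) (rho f' _) (hκ f f' g' h.w M)
    (z g'.base W) n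

/-- bijectivity of the comparison maps in all degrees over the open `W` -/
def KB (W : X.Opens) : Prop := ∀ n, Function.Bijective (TT f f' g' h M W n)

lemma theta_unit (W : X.Opens) (s : (Coh.toAb M).obj.obj (op W)) :
    ((CohPull.theta g' M).hom.app (op (g' ⁻¹ᵁ W))).hom
      ((((CohPull.invPushAdj g'.base).unit.app (Coh.toAb M)).hom.app (op W)).hom s) =
    ((Scheme.Modules.pullbackPushforwardAdjunction g').unit.app M).app W s := by
  have h1 : (CohPull.invPushAdj g'.base).homEquiv _ _ (CohPull.theta g' M) =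
      (SheafOfModules.toSheaf X.ringCatSheaf).map
        ((Scheme.Modules.pullbackPushforwardAdjunction g').unit.app M) :=
    Equiv.apply_symm_apply _ _
  rw [Adjunction.homEquiv_unit] at h1
  exact congrArg (fun t => (t.hom.app (op W)).hom s) h1

lemma h0_TT_one_tmul (W : X.Opens) (x : EM (rho f M) (ZU W) 0) :
    h0 f' ((Scheme.Modules.pullback g').obj M) (g' ⁻¹ᵁ W) (TT f f' g' h M W 0 ((1 : B) ⊗ₜ[A] x)) =
      ((Scheme.Modules.pullbackPushforwardAdjunction g').unit.app M).app W (h0 f M W x) := by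
  obtain ⟨φ, rfl⟩ := (Ext.mk₀_bijective _ _).2 (show Ext.{u} (ZU W) (Coh.toAb M) 0 from x)
  rw [T_tmul, one_smul]
  change h0 f' _ _ (β (CohPull.inv g'.base) (CohPull.theta g' M) (z g'.base W) 0 (Ext.mk₀ φ)) = _
  rw [β_apply, Ext.mapExactFunctor_mk₀, Ext.mk₀_comp_mk₀, Ext.mk₀_comp_mk₀]
  erw [h0_mk₀, h0_mk₀]
  rw [evalGen_z_comp]
  exact theta_unit g' M W _

end Base




section Base

variable {A B : Type u} [CommRing A] [CommRing B] [Algebra A B] {X X' : Scheme.{u}}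
  (f : X ⟶ Spec (CommRingCat.of A)) (f' : X' ⟶ Spec (CommRingCat.of B)) (g' : X' ⟶ X)
  (h : IsPullback g' f' f (Spec.map (CommRingCat.ofHom (algebraMap A B)))) (M : X.Modules)

/-- `A → Γ(X, W)` -/
noncomputable def bW (W : X.Opens) : A →+* Γ(X, W) := (Coh.resTop X (op W)).comp (Coh.toGlobal f)

include h in
lemma isAffineOpen_preimage {W : X.Opens} (hW : IsAffineOpen W) : IsAffineOpen (g' ⁻¹ᵁ W) := by
  haveI : IsAffineHom g' := MorphismProperty.of_isPullback h.flip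
    (inferInstance : IsAffineHom (Spec.map (CommRingCat.ofHom (algebraMap A B))))
  exact hW.preimage g'

lemma ofHom_bW (W : X.Opens) :
    CommRingCat.ofHom (bW f W) =
      (Scheme.ΓSpecIso (CommRingCat.of A)).inv ≫ f.appLE ⊤ W le_top := by
  rw [Scheme.Hom.appLE]
  rfl

include h in
lemma isPushout_sections {W : X.Opens} (hW : IsAffineOpen W) :
    IsPushout (CommRingCat.ofHom (algebraMap A B)) (CommRingCat.ofHom (bW f W))
      (CommRingCat.ofHom (bW f' (g' ⁻¹ᵁ W)))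
      (CommRingCat.ofHom (g'.appLE W (g' ⁻¹ᵁ W) le_rfl).hom) := by
  have hUY : g' ⁻¹ᵁ W = g' ⁻¹ᵁ W ⊓ f' ⁻¹ᵁ ⊤ := by simp
  have hiso := isIso_pushoutSection_of_isAffineOpen h (US := ⊤) (UT := ⊤) (UX := W)
    (le_top) (le_top) hUY (isAffineOpen_top _) (isAffineOpen_top _) hW
  have hpo := ((isIso_pushoutSection_iff h _ _ hUY).1 hiso).flip
  refine hpo.of_iso (Scheme.ΓSpecIso (CommRingCat.of A)) (Scheme.ΓSpecIso (CommRingCat.of B))
    (Iso.refl _) (Iso.refl _) ?_ ?_ ?_ ?_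
  · have := Scheme.ΓSpecIso_naturality (CommRingCat.ofHom (algebraMap A B))
    rw [← this]
    congr 1
  · rw [ofHom_bW, Iso.hom_inv_id_assoc]
    rfl
  · rw [ofHom_bW, Iso.hom_inv_id_assoc]
    rfl
  · rfl

include h in
theorem KB_of_isAffineOpen [M.IsQuasicoherent] {W : X.Opens} (hW : IsAffineOpen W) :
    KB f f' g' h M W := by
  have hW' := isAffineOpen_preimage f f' g' h hW
  haveI : ((Scheme.Modules.pullback g').obj M).IsQuasicoherent :=
    Groth.Agent.Lib.Helper2.PullbackSec.isQuasicoherent_pullback g' M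
  intro n
  cases n with
  | succ n =>
    haveI : Subsingleton (EM (rho f M) (ZU W) (n + 1)) := subsingleton_HE_of_isAffineOpen hW M n
    haveI : Subsingleton (EM (rho f' ((Scheme.Modules.pullback g').obj M)) (ZU (g' ⁻¹ᵁ W)) (n + 1)) :=
      subsingleton_HE_of_isAffineOpen hW' ((Scheme.Modules.pullback g').obj M) n
    exact ⟨fun a b _ => Subsingleton.elim _ _, fun y => ⟨0, Subsingleton.elim _ _⟩⟩
  | zero =>
    let e : EM (rho f M) (ZU W) 0 ≃+ Γ(M, W) := h0 f M W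
    let e' : EM (rho f' ((Scheme.Modules.pullback g').obj M)) (ZU (g' ⁻¹ᵁ W)) 0 ≃+
      Γ((Scheme.Modules.pullback g').obj M, g' ⁻¹ᵁ W) := h0 f' ((Scheme.Modules.pullback g').obj M) (g' ⁻¹ᵁ W)
    have he : ∀ (a : A) (x : EM (rho f M) (ZU W) 0), e (a • x) = (bW f W a : Γ(X, W)) • e x := by
      intro a x
      exact h0_smul f M W a x
    have he' : ∀ (b : B) (x : EM (rho f' ((Scheme.Modules.pullback g').obj M)) (ZU (g' ⁻¹ᵁ W)) 0),
        e' (b • x) = (bW f' (g' ⁻¹ᵁ W) b : Γ(X', g' ⁻¹ᵁ W)) • e' x := by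
      intro b x
      exact h0_smul f' _ _ b x
    have hes : ∀ (a : A) (m : Γ(M, W)), e.symm ((bW f W a : Γ(X, W)) • m) = a • e.symm m := by
      intro a m
      apply e.injective
      rw [he, AddEquiv.apply_symm_apply, AddEquiv.apply_symm_apply]
    have key := Groth.Agent.Helper13BCAlg.bijective_of_lifts (algebraMap A B) (bW f W)
      (g'.appLE W (g' ⁻¹ᵁ W) le_rfl).hom (bW f' (g' ⁻¹ᵁ W)) (isPushout_sections f f' g' h hW)
      (M := Γ(M, W)) (Q := B ⊗[A] EM (rho f M) (ZU W) 0)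
      (Q' := Γ((Scheme.Modules.pullback g').obj M, g' ⁻¹ᵁ W))
      ((oneTmul (R := A) (R' := B) (M := EM (rho f M) (ZU W) 0)).comp e.symm.toAddMonoidHom) ?_ ?_
      (unitSec g' M (le_rfl : g' ⁻¹ᵁ W ≤ g' ⁻¹ᵁ W)) (unitSec_smul g' M le_rfl) ?_
      (e'.toAddMonoidHom.comp (TT f f' g' h M W 0).toAddMonoidHom) ?_ ?_
    · constructor
      · intro x y hxy
        exact key.1 (congrArg e' hxy)
      · intro y
        obtain ⟨x, hx⟩ := key.2 (e' y)
        exact ⟨x, e'.injective hx⟩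
    · intro a m
      change oneTmul (R := A) (R' := B) (e.symm ((bW f W a : Γ(X, W)) • m)) = _
      rw [hes, oneTmul_smul]
      rfl
    · intro N _ _ l hl
      obtain ⟨l', hl', hu⟩ := existsUnique_of_oneTmul (R := A) (R' := B) (M := EM (rho f M) (ZU W) 0) N
        (l.comp e.toAddMonoidHom) (fun a x => by
          change l (e (a • x)) = _
          rw [he, hl]
          rfl)
      refine ⟨l', fun m => ?_, fun l'' hl'' => hu l'' (fun x => ?_)⟩
      · have := hl' (e.symm m)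
        change l' (oneTmul (e.symm m)) = l m
        rw [this]
        change l (e (e.symm m)) = l m
        rw [AddEquiv.apply_symm_apply]
      · have := hl'' (e x)
        change l'' (oneTmul (e.symm (e x))) = l (e x) at this
        rw [AddEquiv.symm_apply_apply] at this
        exact this
    · intro N _ _ l hl
      exact existsUnique_lift g' M hW hW' le_rfl N l hl
    · intro b q
      change e' (TT f f' g' h M W 0 (b • q)) = _
      rw [map_smul, he']
      rfl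
    · intro m
      change e' (TT f f' g' h M W 0 ((1 : B) ⊗ₜ[A] (e.symm m))) = _
      erw [h0_TT_one_tmul f f' g' h M W (e.symm m)]
      rw [unitSec_apply]
      change _ = ((Scheme.Modules.pullback g').obj M).presheaf.map (𝟙 _) _
      rw [CategoryTheory.Functor.map_id]
      change ((Scheme.Modules.pullbackPushforwardAdjunction g').unit.app M).app W (e (e.symm m)) = _
      rw [AddEquiv.apply_symm_apply]
      rfl

end Base




section Ind

variable {A B : Type u} [CommRing A] [CommRing B] [Algebra A B] {X X' : Scheme.{u}}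
  (f : X ⟶ Spec (CommRingCat.of A)) (f' : X' ⟶ Spec (CommRingCat.of B)) (g' : X' ⟶ X)
  (h : IsPullback g' f' f (Spec.map (CommRingCat.ofHom (algebraMap A B)))) (M : X.Modules)

theorem KB_bot : KB f f' g' h M ⊥ := by
  intro n
  haveI : Subsingleton (EM (rho f M) (ZU (⊥ : X.Opens)) n) :=
    ⟨fun a b => (HE_eq_zero_of_eq_bot (Coh.toAb M) n rfl a).trans
      (HE_eq_zero_of_eq_bot (Coh.toAb M) n rfl b).symm⟩
  haveI : Subsingleton (EM (rho f' ((Scheme.Modules.pullback g').obj M)) (ZU (g' ⁻¹ᵁ ⊥)) n) :=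
    ⟨fun a b => (HE_eq_zero_of_eq_bot (Coh.toAb _) n rfl a).trans
      (HE_eq_zero_of_eq_bot (Coh.toAb _) n rfl b).symm⟩
  exact ⟨fun a b _ => Subsingleton.elim _ _, fun y => ⟨0, Subsingleton.elim _ _⟩⟩

variable [Module.Flat A B]

theorem KB_sup {W₁ W₂ : X.Opens} (h₁ : KB f f' g' h M W₁) (h₂ : KB f f' g' h M W₂)
    (h₁₂ : KB f f' g' h M (W₁ ⊓ W₂)) : KB f f' g' h M (W₁ ⊔ W₂) := by
  intro n
  exact bij_mv (CohPull.inv g'.base) (CohPull.theta g' M) (rho f M) (rho f' _) (hκ f f' g' h.w M)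
    (CohCx.freeSheafMap (J X) (homOfLE (inf_le_left : W₁ ⊓ W₂ ≤ W₁)))
    (CohCx.freeSheafMap (J X) (homOfLE (inf_le_right : W₁ ⊓ W₂ ≤ W₂)))
    (CohCx.freeSheafMap (J X) (homOfLE (le_sup_left : W₁ ≤ W₁ ⊔ W₂)))
    (CohCx.freeSheafMap (J X) (homOfLE (le_sup_right : W₂ ≤ W₁ ⊔ W₂)))
    (mvSquare W₁ W₂ (W₁ ⊔ W₂) le_sup_left le_sup_right le_rfl).shortComplex.zero
    (mvSquare W₁ W₂ (W₁ ⊔ W₂) le_sup_left le_sup_right le_rfl).shortComplex_shortExact
    (CohCx.freeSheafMap (J X') (homOfLE (inf_le_left : g' ⁻¹ᵁ W₁ ⊓ g' ⁻¹ᵁ W₂ ≤ g' ⁻¹ᵁ W₁)))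
    (CohCx.freeSheafMap (J X') (homOfLE (inf_le_right : g' ⁻¹ᵁ W₁ ⊓ g' ⁻¹ᵁ W₂ ≤ g' ⁻¹ᵁ W₂)))
    (CohCx.freeSheafMap (J X') (homOfLE (le_sup_left : g' ⁻¹ᵁ W₁ ≤ g' ⁻¹ᵁ W₁ ⊔ g' ⁻¹ᵁ W₂)))
    (CohCx.freeSheafMap (J X') (homOfLE (le_sup_right : g' ⁻¹ᵁ W₂ ≤ g' ⁻¹ᵁ W₁ ⊔ g' ⁻¹ᵁ W₂)))
    (mvSquare (g' ⁻¹ᵁ W₁) (g' ⁻¹ᵁ W₂) (g' ⁻¹ᵁ W₁ ⊔ g' ⁻¹ᵁ W₂) le_sup_left le_sup_right
      le_rfl).shortComplex.zero
    (mvSquare (g' ⁻¹ᵁ W₁) (g' ⁻¹ᵁ W₂) (g' ⁻¹ᵁ W₁ ⊔ g' ⁻¹ᵁ W₂) le_sup_left le_sup_right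
      le_rfl).shortComplex_shortExact
    (z g'.base (W₁ ⊓ W₂)) (z g'.base W₁) (z g'.base W₂) (z g'.base (W₁ ⊔ W₂))
    (z_nat g'.base inf_le_left) (z_nat g'.base inf_le_right)
    (z_nat g'.base le_sup_left) (z_nat g'.base le_sup_right) h₁₂ h₁ h₂ n

theorem KB_of_list_class [M.IsQuasicoherent] (𝒞 : Set X.Opens) (hC : ∀ V ∈ 𝒞, IsAffineOpen V)
    (hCi : ∀ V ∈ 𝒞, ∀ W ∈ 𝒞, V ⊓ W ∈ 𝒞) :
    ∀ (l : List X.Opens), (∀ V ∈ l, V ∈ 𝒞) → KB f f' g' h M (supList l) := by
  suffices H : ∀ (k : ℕ) (l : List X.Opens), l.length = k → (∀ V ∈ l, V ∈ 𝒞) →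
      KB f f' g' h M (supList l) from fun l hl => H l.length l rfl hl
  intro k
  induction k with
  | zero =>
    intro l hk _
    have : l = [] := List.length_eq_zero_iff.1 hk
    subst this
    exact KB_bot f f' g' h M
  | succ k ih =>
    intro l hk hl
    obtain ⟨V, l, rfl⟩ : ∃ V l', l = V :: l' := by
      cases l with
      | nil => simp at hk
      | cons V l' => exact ⟨V, l', rfl⟩
    have hk' : l.length = k := by simpa using hk
    have hV : V ∈ 𝒞 := hl V List.mem_cons_self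
    have hl' : ∀ W ∈ l, W ∈ 𝒞 := fun W hW => hl W (List.mem_cons_of_mem _ hW)
    rw [supList_cons]
    refine KB_sup f f' g' h M (KB_of_isAffineOpen f f' g' h M (hC V hV)) (ih l hk' hl') ?_
    rw [inf_supList]
    apply ih (l.map (V ⊓ ·)) (by simpa using hk')
    intro W hW
    obtain ⟨W', hW', rfl⟩ := List.mem_map.1 hW
    exact hCi V hV W' (hl' W' hW')

theorem KB_of_isCompact_le_affine [M.IsQuasicoherent] {U : X.Opens} (hU : IsAffineOpen U)
    (W : X.Opens) (hWU : W ≤ U) (hW : IsCompact (W : Set X)) : KB f f' g' h M W := by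
  have hloc : ∀ x : W, ∃ r : Γ(X, U), X.basicOpen r ≤ W ∧ (x : X) ∈ X.basicOpen r :=
    fun x => hU.exists_basicOpen_le (V := W) x (hWU x.2)
  choose r hrW hxr using hloc
  obtain ⟨s, hs⟩ := hW.elim_finite_subcover (fun x : W => (X.basicOpen (r x) : Set X))
    (fun x => (X.basicOpen (r x)).2) (fun y hy => Set.mem_iUnion.2 ⟨⟨y, hy⟩, hxr ⟨y, hy⟩⟩)
  let l : List X.Opens := s.toList.map (fun x => X.basicOpen (r x))
  have hl : supList l = W := by
    apply le_antisymm
    · apply supList_le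
      intro V hV
      obtain ⟨x, _, rfl⟩ := List.mem_map.1 hV
      exact hrW x
    · intro y hy
      obtain ⟨x, hx⟩ := Set.mem_iUnion.1 (hs hy)
      obtain ⟨hxs, hyx⟩ := Set.mem_iUnion.1 hx
      exact le_supList_of_mem (List.mem_map.2 ⟨x, Finset.mem_toList.2 hxs, rfl⟩) hyx
  rw [← hl]
  refine KB_of_list_class f f' g' h M (Set.range (X.basicOpen : Γ(X, U) → X.Opens)) ?_ ?_ l ?_
  · rintro _ ⟨t, rfl⟩
    exact hU.basicOpen t
  · rintro _ ⟨t, rfl⟩ _ ⟨t', rfl⟩
    exact ⟨t * t', X.basicOpen_mul t t'⟩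
  · intro V hV
    obtain ⟨x, _, rfl⟩ := List.mem_map.1 hV
    exact ⟨r x, rfl⟩

theorem KB_of_isCompact [M.IsQuasicoherent] [QuasiSeparatedSpace X] (W : X.Opens)
    (hW : IsCompact (W : Set X)) : KB f f' g' h M W := by
  refine compact_open_induction_on (P := fun W : X.Opens => KB f f' g' h M W) W hW ?_ ?_
  · exact KB_bot f f' g' h M
  · rintro S hS U hSK
    have hSU : IsCompact ((S ⊓ U.1 : X.Opens) : Set X) :=
      QuasiSeparatedSpace.inter_isCompact _ _ S.2 hS U.1.2 U.2.isCompact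
    exact KB_sup f f' g' h M hSK (KB_of_isAffineOpen f f' g' h M U.2)
      (KB_of_isCompact_le_affine f f' g' h M U.2 (S ⊓ U.1) inf_le_right hSU)

theorem KB_top [M.IsQuasicoherent] [CompactSpace X] [QuasiSeparatedSpace X] :
    KB f f' g' h M ⊤ :=
  KB_of_isCompact f f' g' h M ⊤ isCompact_univ

end Ind




section Final

variable (A : Type u) [CommRing A] (X : Scheme.{u}) [X.Over (Spec (CommRingCat.of A))] (M : X.Modules)

/-- `H^n(⊤, M) ≃ H^n(X, M)`, linearly -/
noncomputable def eH (n : ℕ) :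
    EM (rho (X ↘ Spec (CommRingCat.of A)) M) (ZU (⊤ : X.Opens)) n ≃ₗ[A] Coh.HH X M n where
  toFun := HETopEquivH X (Coh.toAb M) n
  map_add' := map_add _
  map_smul' a x := by
    change (Ext.mk₀ (wTop X)).comp (Ext.comp (show Ext.{u} (ZU (⊤ : X.Opens)) (Coh.toAb M) n from x)
      (Ext.mk₀ (rho (X ↘ Spec (CommRingCat.of A)) M a)) (add_zero n)) (zero_add n) =
      Ext.comp ((Ext.mk₀ (wTop X)).comp (show Ext.{u} (ZU (⊤ : X.Opens)) (Coh.toAb M) n from x)
        (zero_add n)) (Ext.mk₀ (Coh.smulAb M (Coh.toGlobal (X ↘ Spec (CommRingCat.of A)) a)))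
        (add_zero n)
    rw [Ext.comp_assoc _ _ _ (zero_add n) (add_zero n) (by omega)]
    rfl
  invFun := (HETopEquivH X (Coh.toAb M) n).symm
  left_inv := (HETopEquivH X (Coh.toAb M) n).left_inv
  right_inv := (HETopEquivH X (Coh.toAb M) n).right_inv

end Final

section Main

variable (A B : Type u) [CommRing A] [CommRing B] [Algebra A B] [Module.Flat A B]
  (X X' : Scheme.{u}) [X.Over (Spec (CommRingCat.of A))] [X'.Over (Spec (CommRingCat.of B))]
  [CompactSpace X] [QuasiSeparatedSpace X] (g' : X' ⟶ X)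
  (h : IsPullback g' (X' ↘ Spec (CommRingCat.of B)) (X ↘ Spec (CommRingCat.of A))
    (Spec.map (CommRingCat.ofHom (algebraMap A B))))
  (M : X.Modules) [M.IsQuasicoherent]

/-- **Flat base change** over an affine base for quasi-compact quasi-separated schemes. -/
noncomputable def flatBaseChangeEquiv (i : ℕ) :
    B ⊗[A] Coh.HH X M i ≃ₗ[B] Coh.HH X' ((Scheme.Modules.pullback g').obj M) i :=
  (TensorProduct.AlgebraTensorModule.congr (LinearEquiv.refl B B) (eH A X M i)).symm ≪≫ₗ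
    (LinearEquiv.ofBijective (TT _ _ g' h M ⊤ i) (KB_top _ _ g' h M i)) ≪≫ₗ
    eH B X' ((Scheme.Modules.pullback g').obj M) i

end Main


end Groth.Agent.Lib.R2H2.SheafBC
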