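import Mathlib
import Groth.Prelude
import Groth.Agent.S0034
import Groth.Agent.Lib.R2H4BCGlue
import Groth.Agent.Lib.R2H2PnFinite
import Groth.Agent.Lib.Helper23TensorQCoh

set_option autoImplicit false
set_option linter.style.haveILetI false
universe u
open CategoryTheory Limits AlgebraicGeometry TopologicalSpace Opposite TensorProduct

namespace Groth.Agent.Lib.R2H4FieldBC

/-- flat base change of cohomology along a field extension (from helper2's S0034) -/
theorem fieldBC : Groth.Agent.Lib.R2H4BCGlue.FieldBC.{u} := by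
  intro k _ k' _ _ X X' _ _ _ g hpb M hM i
  haveI : CompactSpace X :=
    (quasiCompact_iff_compactSpace (X ↘ Spec (CommRingCat.of k))).mp inferInstance
  haveI : QuasiSeparatedSpace X :=
    (quasiSeparated_iff_quasiSeparatedSpace (X ↘ Spec (CommRingCat.of k))).mp inferInstance
  haveI : Coh.IsQCoh M := hM.1
  exact Groth.Agent.S0034.result k k' X X' g hpb M i


theorem isCoh_twist (k : Type u) [Field k] (n : ℕ) (E : (CohB1.ProjSpace n k).Modules)
    (hE : Coh.IsCoh E) (l : ℤ) :
    Coh.IsCoh (CohB1.tensorMod E (Twist.twistProjSpace n k l)) := by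
  have i1 : E.IsQuasicoherent := hE.1
  have i2 : SheafOfModules.IsFiniteType (R := (CohB1.ProjSpace n k).ringCatSheaf) E := hE.2
  have i3 : (Twist.twistProjSpace n k l).IsQuasicoherent :=
    Groth.Agent.Lib.R2H2.PnFinite.isQCoh_twist n k l
  have i4 : SheafOfModules.IsFiniteType (R := (CohB1.ProjSpace n k).ringCatSheaf)
      (Twist.twistProjSpace n k l) :=
    Groth.Agent.Lib.R2H2.PnFinite.isFiniteType_twist n k l
  exact ⟨Groth.Agent.Lib.Helper23.TensorQCoh.isQuasicoherent_tensorMod E _,
    Groth.Agent.Lib.Helper23.TensorQCoh.isFiniteType_tensorMod E _⟩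

end Groth.Agent.Lib.R2H4FieldBC
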