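import Mathlib
import Groth.Prelude
import Groth.Agent.Lib.R2H4BCGlue
import Groth.Agent.Lib.R2H4FieldBC
import Groth.Agent.Lib.Helper26FpqcMod
import Groth.Agent.Lib.Helper23RestrTensor
import Groth.Agent.Lib.Helper23PB
import Groth.Agent.Lib.Helper23TensorQCoh
import Groth.Agent.Lib.Helper23AmpleIso
import Groth.Agent.Lib.Helper23SecTw6
import Groth.Agent.Lib.Helper23SecTw3
import Groth.Agent.Lib.R2H2PnFinite
import Groth.Agent.Lib.Helper20FormalPull
import Groth.Agent.Lib.Helper2PullbackSec3

set_option autoImplicit false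
set_option linter.style.haveILetI false
universe u
open CategoryTheory Limits AlgebraicGeometry TopologicalSpace Opposite TensorProduct

namespace Groth.Agent.Lib.R2H4SSDescent

section General
variable {X Y : Scheme.{u}} (g : Y ⟶ X) [Flat g] [Surjective g]

theorem isZero_of_isZero_pullback (F : X.Modules)
    (h : IsZero ((Scheme.Modules.pullback g).obj F)) : IsZero F := by
  rw [IsZero.iff_id_eq_zero]
  refine Groth.Agent.Lib.Helper26.FpqcMod.eq_zero_of_family (fun _ : Unit => g) (fun y => ?_) _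
    (fun _ => ?_)
  · obtain ⟨x, hx⟩ := (inferInstance : Surjective g).surj y
    exact ⟨(), x, hx⟩
  · rw [CategoryTheory.Functor.map_id]
    exact h.eq_of_src _ _

theorem isIso_of_isIso_pullback {A B : X.Modules} (a : A ⟶ B)
    (h : IsIso ((Scheme.Modules.pullback g).map a)) : IsIso a := by
  refine Groth.Agent.Lib.Helper26.FpqcMod.isIso_of_family (fun _ : Unit => g) (fun y => ?_) a
    (fun _ => h)
  obtain ⟨x, hx⟩ := (inferInstance : Surjective g).surj y
  exact ⟨(), x, hx⟩

omit [Flat g] [Surjective g] in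
theorem isCoh_pullback (F : X.Modules) (hF : Coh.IsCoh F) :
    Coh.IsCoh ((Scheme.Modules.pullback g).obj F) := by
  haveI : F.IsQuasicoherent := hF.1
  haveI : SheafOfModules.IsFiniteType (R := X.ringCatSheaf) F := hF.2
  exact ⟨Groth.Agent.Lib.Helper2.PullbackSec.isQuasicoherent_pullback g F,
    Groth.Agent.Lib.Helper20.FormalPull.isFiniteType_pullback g F⟩

end General

section Field

open Groth.Agent.Lib.R2H4BCGlue

theorem isCoh_of_isInvertible {X : Scheme.{u}} (L : X.Modules) (hL : PicF.IsInvertible L) :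
    Coh.IsCoh L :=
  ⟨Groth.Agent.Lib.Helper23.SecTw.isQuasicoherent_of_isInvertible L hL,
    Groth.Agent.Lib.R2H2.PnFinite.isFiniteType_of_isInvertible L hL⟩

theorem isCoh_tensorMod {X : Scheme.{u}} (F G : X.Modules) (hF : Coh.IsCoh F) (hG : Coh.IsCoh G) :
    Coh.IsCoh (CohB1.tensorMod F G) := by
  have i1 : F.IsQuasicoherent := hF.1
  have i2 : SheafOfModules.IsFiniteType (R := X.ringCatSheaf) F := hF.2
  have i3 : G.IsQuasicoherent := hG.1
  have i4 : SheafOfModules.IsFiniteType (R := X.ringCatSheaf) G := hG.2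
  exact ⟨Groth.Agent.Lib.Helper23.TensorQCoh.isQuasicoherent_tensorMod F G,
    Groth.Agent.Lib.Helper23.TensorQCoh.isFiniteType_tensorMod F G⟩

theorem euler_eq_of_iso {k : Type u} [Field k] {X : Scheme.{u}} [X.Over (Spec (CommRingCat.of k))]
    {M N : X.Modules} (e : M ≅ N) : Curv2.euler k X M = Curv2.euler k X N := by
  unfold Curv2.euler
  refine finsum_congr fun i => ?_
  rw [(HHEquivOfIso (k' := k) e i).finrank_eq]

variable (k : Type u) [Field k] (X : Scheme.{u}) [X.Over (Spec (CommRingCat.of k))]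
  [IsProper (X ↘ Spec (CommRingCat.of k))] (K : Type u) [Field K] [Algebra k K]

instance flat_bcFst : Flat (Curv2.bcFst k X K) := by
  haveI : Flat (Spec.map (CommRingCat.ofHom (algebraMap k K))) := by
    rw [Flat.SpecMap_iff]
    exact (RingHom.flat_algebraMap_iff).mpr inferInstance
  exact MorphismProperty.pullback_fst (P := @Flat) _ _ inferInstance

instance surjective_bcFst : Surjective (Curv2.bcFst k X K) := by
  haveI : Surjective (Spec.map (CommRingCat.ofHom (algebraMap k K))) := by
    constructor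
    exact PrimeSpectrum.comap_surjective_of_faithfullyFlat
  exact MorphismProperty.pullback_fst (P := @Surjective) _ _ inferInstance

theorem isHilbPoly_bc (L F : X.Modules) (hL : PicF.IsInvertible L) (hF : Coh.IsCoh F) (P : Polynomial ℚ)
    (h : ShStab.IsHilbPoly k X L F P) :
    ShStab.IsHilbPoly K (Curv2.bc k X K) ((Scheme.Modules.pullback (Curv2.bcFst k X K)).obj L)
      ((Scheme.Modules.pullback (Curv2.bcFst k X K)).obj F) P := by
  intro m
  rw [← h m]
  congr 1
  obtain ⟨e1⟩ := Groth.Agent.Lib.Helper23.PB.nonempty_pullback_tensorPow_iso (Curv2.bcFst k X K) L hL m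
  have e : (Scheme.Modules.pullback (Curv2.bcFst k X K)).obj (ShStab.twist X L F m) ≅
      ShStab.twist (Curv2.bc k X K) ((Scheme.Modules.pullback (Curv2.bcFst k X K)).obj L)
        ((Scheme.Modules.pullback (Curv2.bcFst k X K)).obj F) m :=
    Groth.Agent.Lib.Helper23.RestrTensor.pullbackTensorIso F (CohB1.tensorPow L m) (Curv2.bcFst k X K) ≪≫
      Groth.Agent.Lib.Helper23.AmpleIso.tensorModIso (Iso.refl _) e1
  rw [← euler_eq_of_iso e]
  have hcoh : Coh.IsCoh (ShStab.twist X L F m) :=
    isCoh_tensorMod _ _ hF (isCoh_of_isInvertible _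
      (Groth.Agent.Lib.Helper23.SecTw.isInvertible_tensorPow hL m))
  exact euler_eq (Curv2.bcFst k X K) _ (fun i =>
    Groth.Agent.Lib.R2H4FieldBC.fieldBC k K X (Curv2.bc k X K) (Curv2.bcFst k X K)
      (IsPullback.of_hasPullback _ _) _ hcoh i)

theorem main (L : X.Modules) (hL : CohB1.IsAmple L) (d : ℕ) (E : X.Modules)
    (hE : Coh.IsCoh E) (hp : ShStab.IsPure X E d)
    (hK : ShStab.IsSemistable K (Curv2.bc k X K)
      ((Scheme.Modules.pullback (Curv2.bcFst k X K)).obj L)
      ((Scheme.Modules.pullback (Curv2.bcFst k X K)).obj E) d) :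
    ShStab.IsSemistable k X L E d := by
  obtain ⟨hcohK, hnzK, hpureK, hssK⟩ := hK
  refine ⟨hE, fun h0 => hnzK ((Scheme.Modules.pullback (Curv2.bcFst k X K)).map_isZero h0), hp, ?_⟩
  intro F ι hmono hF hFnz hniso pF pE hpF hpE
  haveI := hmono
  exact hssK ((Scheme.Modules.pullback (Curv2.bcFst k X K)).obj F)
    ((Scheme.Modules.pullback (Curv2.bcFst k X K)).map ι)
    (Groth.Agent.Lib.Helper26.FpqcMod.mono_pullback_of_flat (Curv2.bcFst k X K) ι)
    (isCoh_pullback (Curv2.bcFst k X K) F hF)
    (fun h => hFnz (isZero_of_isZero_pullback (Curv2.bcFst k X K) F h))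
    (fun h => hniso (isIso_of_isIso_pullback (Curv2.bcFst k X K) ι h)) pF pE
    (isHilbPoly_bc k X K L F hL.1 hF pF hpF) (isHilbPoly_bc k X K L E hL.1 hE pE hpE)

end Field

end Groth.Agent.Lib.R2H4SSDescent
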