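import Mathlib
import Groth.Prelude
import Groth.Agent.Lib.R2H1DegTensor
import Groth.Agent.Lib.Helper23LocGen
import Groth.Agent.Lib.Helper23AmpleIso
import Groth.Agent.Lib.Helper23SecTw6
import Groth.Agent.Lib.Helper23TensorUnit
import Groth.Agent.Lib.R2H4SSDescent

/-!
# Isomorphisms for iterated twists `Curv2.tensorPows` and additivity of their Euler characteristics
(helper4, round 2)
-/

set_option autoImplicit false
universe u
open CategoryTheory CategoryTheory.Limits AlgebraicGeometry

noncomputable section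

namespace Groth.Agent.Lib.R2H4TensorPows

section Isos

variable {X : Scheme.{u}}

/-- commutativity of the tensor product -/
def tComm (A B : X.Modules) : CohB1.tensorMod A B ≅ CohB1.tensorMod B A :=
  Groth.Agent.Lib.Helper21.ModTensor5.brdApp X.sheaf A B

/-- associativity -/
def tAssoc (F G H : X.Modules) :
    CohB1.tensorMod (CohB1.tensorMod F G) H ≅ CohB1.tensorMod F (CohB1.tensorMod G H) :=
  Groth.Agent.Lib.Helper23.LocGen.tensorAssoc F G H

/-- functoriality for isomorphisms -/
def tIso {M M' N N' : X.Modules} (e : M ≅ M') (e' : N ≅ N') :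
    CohB1.tensorMod M N ≅ CohB1.tensorMod M' N' :=
  Groth.Agent.Lib.Helper23.AmpleIso.tensorModIso e e'

/-- right unit -/
def rUnit (A : X.Modules) : CohB1.tensorMod A (Coh.structureModule X) ≅ A :=
  Groth.Agent.Lib.Helper21.Dual.rU X.sheaf A

/-- left unit -/
def lUnit (A : X.Modules) : CohB1.tensorMod (Coh.structureModule X) A ≅ A :=
  tComm _ _ ≪≫ rUnit A

/-- `(M ⊗ A) ⊗ P ≅ (M ⊗ P) ⊗ A` -/
def swapR (M A P : X.Modules) :
    CohB1.tensorMod (CohB1.tensorMod M A) P ≅ CohB1.tensorMod (CohB1.tensorMod M P) A :=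
  tAssoc M A P ≪≫ tIso (Iso.refl M) (tComm A P) ≪≫ (tAssoc M P A).symm

/-- `tensorPows` respects isomorphisms in the first variable -/
def powsIso {F G : X.Modules} (e : F ≅ G) :
    ∀ (r : ℕ) (L : Fin r → X.Modules) (n : Fin r → ℕ),
      Curv2.tensorPows F r L n ≅ Curv2.tensorPows G r L n
  | 0, _, _ => e
  | r + 1, L, n => tIso (powsIso e r (fun i => L i.castSucc) (fun i => n i.castSucc)) (Iso.refl _)

/-- a right tensor factor can be pulled out of `tensorPows` -/
def powsOut (G A : X.Modules) :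
    ∀ (r : ℕ) (L : Fin r → X.Modules) (n : Fin r → ℕ),
      Curv2.tensorPows (CohB1.tensorMod G A) r L n ≅ CohB1.tensorMod (Curv2.tensorPows G r L n) A
  | 0, _, _ => Iso.refl _
  | r + 1, L, n =>
    tIso (powsOut G A r (fun i => L i.castSucc) (fun i => n i.castSucc)) (Iso.refl _) ≪≫
      swapR _ _ _

/-- raising the `i`-th exponent by one is tensoring with `L i` -/
theorem nonempty_powsShift (F : X.Modules) :
    ∀ (r : ℕ) (L : Fin r → X.Modules) (n : Fin r → ℕ) (i : Fin r),
      Nonempty (Curv2.tensorPows F r L (n + Pi.single i 1) ≅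
        CohB1.tensorMod (Curv2.tensorPows F r L n) (L i))
  | 0, _, _, i => i.elim0
  | r + 1, L, n, i => by
    induction i using Fin.lastCases with
    | last =>
      have h1 : (fun j : Fin r => (n + Pi.single (Fin.last r) 1 : Fin (r + 1) → ℕ) j.castSucc) =
          fun j => n j.castSucc := by
        funext j
        simp [Fin.castSucc_ne_last]
      have h2 : (n + Pi.single (Fin.last r) 1 : Fin (r + 1) → ℕ) (Fin.last r) = n (Fin.last r) + 1 := by simp
      change Nonempty (CohB1.tensorMod (Curv2.tensorPows F r (fun j => L j.castSucc)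
        (fun j => (n + Pi.single (Fin.last r) 1 : Fin (r + 1) → ℕ) j.castSucc))
        (CohB1.tensorPow (L (Fin.last r)) ((n + Pi.single (Fin.last r) 1 : Fin (r + 1) → ℕ) (Fin.last r))) ≅ _)
      rw [h1, h2]
      exact ⟨(tAssoc _ _ _).symm⟩
    | cast j =>
      have h1 : (fun l : Fin r => (n + Pi.single j.castSucc 1 : Fin (r + 1) → ℕ) l.castSucc) =
          (fun l => n l.castSucc) + Pi.single j 1 := by
        funext l
        by_cases hl : l = j
        · subst hl; simp
        · have : l.castSucc ≠ j.castSucc := fun h => hl (Fin.castSucc_injective _ h)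
          simp [Pi.single_eq_of_ne hl, Pi.single_eq_of_ne this]
      have h2 : (n + Pi.single j.castSucc 1 : Fin (r + 1) → ℕ) (Fin.last r) = n (Fin.last r) := by
        simp [Fin.castSucc_ne_last j |>.symm]
      change Nonempty (CohB1.tensorMod (Curv2.tensorPows F r (fun j => L j.castSucc)
        (fun l => (n + Pi.single j.castSucc 1 : Fin (r + 1) → ℕ) l.castSucc))
        (CohB1.tensorPow (L (Fin.last r)) ((n + Pi.single j.castSucc 1 : Fin (r + 1) → ℕ) (Fin.last r))) ≅ _)
      rw [h1, h2]
      obtain ⟨e⟩ := nonempty_powsShift F r (fun j => L j.castSucc) (fun l => n l.castSucc) j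
      exact ⟨tIso e (Iso.refl _) ≪≫ swapR _ _ _⟩

/-- the iterated twist of `F` is `F` tensored with the iterated twist of the structure sheaf -/
def powsIsoTensor (F : X.Modules) (r : ℕ) (L : Fin r → X.Modules) (n : Fin r → ℕ) :
    Curv2.tensorPows F r L n ≅
      CohB1.tensorMod (Curv2.tensorPows (Coh.structureModule X) r L n) F :=
  powsIso (lUnit F).symm r L n ≪≫ powsOut (Coh.structureModule X) F r L n

theorem isInvertible_pows (E : X.Modules) (hE : PicF.IsInvertible E) :
    ∀ (r : ℕ) (L : Fin r → X.Modules) (_ : ∀ i, PicF.IsInvertible (L i)) (n : Fin r → ℕ),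
      PicF.IsInvertible (Curv2.tensorPows E r L n)
  | 0, _, _, _ => hE
  | r + 1, L, hL, n =>
    Groth.Agent.Lib.Helper23.SecTw.isInvertible_tensorMod
      (isInvertible_pows E hE r (fun i => L i.castSucc) (fun _ => hL _) (fun i => n i.castSucc))
      (Groth.Agent.Lib.Helper23.SecTw.isInvertible_tensorPow (hL _) _)

end Isos

section Euler

open Groth.Agent.Lib.R2H1.DegCartier Groth.Agent.Lib.R2H1.EulerAdd

variable (k : Type u) [Field k] (X : Scheme.{u}) [X.Over (Spec (CommRingCat.of k))]

/-- `n ↦ χ(F ⊗ L^n)` -/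
def fE (r : ℕ) (L : Fin r → X.Modules) (F : X.Modules) (n : Fin r → ℕ) : ℚ :=
  (Curv2.euler k X (Curv2.tensorPows F r L n) : ℚ)

variable {X}

theorem fE_congr (r : ℕ) (L : Fin r → X.Modules) {F G : X.Modules} (e : F ≅ G)
    (n : Fin r → ℕ) : fE k X r L F n = fE k X r L G n := by
  unfold fE
  rw [euler_congr k (powsIso e r L n)]

theorem fE_shift (r : ℕ) (L : Fin r → X.Modules) (G : X.Modules) (i : Fin r) (n : Fin r → ℕ) :
    fE k X r L (CohB1.tensorMod G (L i)) n = fE k X r L G (n + Pi.single i 1) := by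
  unfold fE
  obtain ⟨e⟩ := nonempty_powsShift G r L n i
  rw [euler_congr k (powsOut G (L i) r L n), euler_congr k e]

theorem fE_of_isZero (r : ℕ) (L : Fin r → X.Modules) (F : X.Modules) (hF : IsZero F)
    (n : Fin r → ℕ) : fE k X r L F n = 0 := by
  unfold fE
  have h1 : IsZero (CohB1.tensorMod (Curv2.tensorPows (Coh.structureModule X) r L n) F) :=
    (DCoh.tensorBi.obj (Curv2.tensorPows (Coh.structureModule X) r L n)).map_isZero hF
  have h2 : IsZero (Curv2.tensorPows F r L n) := h1.of_iso (powsIsoTensor F r L n)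
  have h3 : ∀ i : ℕ, Module.finrank k (Coh.HH X (Curv2.tensorPows F r L n) i) = 0 := by
    intro i
    have : Subsingleton (Coh.HH X (Curv2.tensorPows F r L n) i) :=
      Groth.Agent.Lib.R2H2.KoszulShift.subsingleton_HH_of_isZero h2 i
    exact Module.finrank_zero_of_subsingleton
  unfold Curv2.euler
  simp [h3]

variable [IsProper (X ↘ (Spec (CommRingCat.of k)))]

theorem fE_add (r : ℕ) (L : Fin r → X.Modules) (hL : ∀ i, PicF.IsInvertible (L i))
    (S : ShortComplex X.Modules) (hS : S.ShortExact)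
    (c₁ : Coh.IsCoh S.X₁) (c₂ : Coh.IsCoh S.X₂) (c₃ : Coh.IsCoh S.X₃) (n : Fin r → ℕ) :
    fE k X r L S.X₂ n = fE k X r L S.X₁ n + fE k X r L S.X₃ n := by
  set E := Curv2.tensorPows (Coh.structureModule X) r L n with hE
  have hEi : PicF.IsInvertible E :=
    isInvertible_pows _ (Groth.Agent.Lib.Helper23.TensorUnit.isInvertible_structureModule X)
      r L hL n
  have hEc : Coh.IsCoh E := Groth.Agent.Lib.R2H4SSDescent.isCoh_of_isInvertible E hEi
  have t := Groth.Agent.Lib.R2Lead.TensorExact.shortExact_map_tensorBi_of_isInvertible E hEi S hS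
  have d₁ : Coh.IsCoh (S.map (DCoh.tensorBi.obj E)).X₁ :=
    Groth.Agent.Lib.R2H4SSDescent.isCoh_tensorMod _ _ hEc c₁
  have d₂ : Coh.IsCoh (S.map (DCoh.tensorBi.obj E)).X₂ :=
    Groth.Agent.Lib.R2H4SSDescent.isCoh_tensorMod _ _ hEc c₂
  have d₃ : Coh.IsCoh (S.map (DCoh.tensorBi.obj E)).X₃ :=
    Groth.Agent.Lib.R2H4SSDescent.isCoh_tensorMod _ _ hEc c₃
  have b₀ := s1524 k X _ t d₁ d₂ d₃
  have b : Curv2.euler k X (CohB1.tensorMod E S.X₂) =
      Curv2.euler k X (CohB1.tensorMod E S.X₁) + Curv2.euler k X (CohB1.tensorMod E S.X₃) := b₀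
  unfold fE
  rw [euler_congr k (powsIsoTensor S.X₂ r L n), euler_congr k (powsIsoTensor S.X₁ r L n),
    euler_congr k (powsIsoTensor S.X₃ r L n), ← hE, b]
  push_cast
  rfl

end Euler

end Groth.Agent.Lib.R2H4TensorPows
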