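import Mathlib
import Groth.Prelude
import Groth.Agent.Lib.Helper21Dual12
import Groth.Agent.Lib.Helper21Dual9
import Groth.Agent.Lib.Helper21ExtShLocFree
import Groth.Agent.Lib.Helper21ModLocalIso
import Groth.Agent.Lib.R2H4TensorPows

/-!
# Every invertible module on a scheme has a tensor inverse (helper4, round 2)

`PicF.IsInvertible L` only says that `L` is locally trivial.  Using helper21's theory of duals of locally finite free
modules (`Helper21.Dual`: `dual E = Hom(E, O)`, the evaluation pairing `evStd`, perfect pairings restrict to perfect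
pairings, `thetaOf`), we show that for `L` locally free of rank one the evaluation `L^∨ ⊗ L ⟶ O` is an isomorphism and
`L^∨` is again locally trivial.  No hypothesis on the scheme.
-/

set_option autoImplicit false
set_option linter.style.haveILetI false
set_option linter.unusedSectionVars false
universe u
open CategoryTheory CategoryTheory.Limits MonoidalCategory Opposite AlgebraicGeometry

noncomputable section

namespace Groth.Agent.Lib.R2H4InvExists

open Groth.Agent.Lib.Helper21.ModTensor Groth.Agent.Lib.Helper21.ModTensor2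
  Groth.Agent.Lib.Helper21.ModTensor3 Groth.Agent.Lib.Helper21.ModTensor4
  Groth.Agent.Lib.Helper21.ModTensor5
  Groth.Agent.Lib.Helper21.ModTensor6 Groth.Agent.Lib.Helper21.ModRestr
  Groth.Agent.Lib.Helper21.LocFact Groth.Agent.Lib.Helper21.RestrExact
  Groth.Agent.Lib.Helper21.Dual

attribute [local instance] Groth.Agent.Lib.Helper21.ExtShDelta.hasSheafHom

section Abstract

variable {C : Type u} [SmallCategory C] {J : GrothendieckTopology C} {O : Sheaf J CommRingCat.{u}}

/-- a rank one free structure from an isomorphism -/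
def ffOfIsoUnit {A : Type*} [Category A] [Preadditive A] {U Q : A} (e : Q ≅ U) : FF U Q (Fin 1) where
  ι _ := e.inv
  π _ := e.hom
  ι_π_self _ := e.inv_hom_id
  ι_π_ne i j h := absurd (Subsingleton.elim i j) h
  sum := by
    rw [Fin.sum_univ_one]
    exact e.hom_inv_id

theorem isIso_ι_of_ff {A : Type*} [Category A] [Preadditive A] {U Q : A} (ff : FF U Q (Fin 1)) :
    IsIso (ff.ι 0) := by
  refine ⟨ff.π 0, ff.ι_π_self 0, ?_⟩
  have := ff.sum
  rwa [Fin.sum_univ_one] at this

/-- a perfect pairing with a free module of rank one is an isomorphism, and the other side is free of rank one -/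
theorem isIso_ev_of_ff {D E : ModSite.Mod O} (ff : FF (ModSite.unit O) E (Fin 1))
    (ev : ((ModSite.tensorBi O).obj D).obj E ⟶ ModSite.unit O)
    (hperf : IsIso ((ModSite.sheafHomAdj E).homEquiv D (ModSite.unit O) ev)) :
    IsIso ev ∧ Nonempty (D ≅ ModSite.unit O) := by
  haveI hι := isIso_ι_of_ff ff
  have hbij := bijective_thetaOf ff ev hperf
  haveI hθ : IsIso (thetaOf ff ev 0) := by
    apply isIso_of_yoneda_map_bijective
    intro T
    have h1 := hbij T
    have h2 : Function.Bijective (fun f : Fin 1 → (T ⟶ ModSite.unit O) => f 0) :=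
      ⟨fun f g h => funext (fun i => by rw [Subsingleton.elim i 0]; exact h),
        fun y => ⟨fun _ => y, rfl⟩⟩
    exact h2.comp h1
  have h3 := rU_thetaOf ff ev 0
  haveI : IsIso ((tL O D).map (ff.ι 0)) := inferInstance
  refine ⟨?_, ⟨asIso (thetaOf ff ev 0)⟩⟩
  have h4 : IsIso ((tL O D).map (ff.ι 0) ≫ ev) := by
    rw [← h3]
    infer_instance
  exact IsIso.of_isIso_comp_left ((tL O D).map (ff.ι 0)) ev

end Abstract

section Sch

variable {X : Scheme.{u}}

/-- a trivialization of `L` on `U` gives one of `L.over U` -/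
def overIsoUnit (L : X.Modules) (U : X.Opens)
    (e : L.restrict U.ι ≅ Coh.structureModule (↑U : Scheme.{u})) :
    (ModSite.restr X.sheaf U).obj L ≅ ModSite.unit (X.sheaf.over U) := by
  let Φ : SheafOfModules.{u} (X.ringCatSheaf.over U) ⥤ (↑U : Scheme.{u}).Modules :=
    (Scheme.Modules.overEquiv U).functor
  let i1 : Φ.obj ((SheafOfModules.overFunctor X.ringCatSheaf U).obj L) ≅ L.restrict U.ι :=
    (Scheme.Modules.overFunctorEquiv U).app L
  exact Φ.preimageIso (i1 ≪≫ e)

/-- a trivialization of `L.over U` gives one of `L` on `U` -/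
def restrictIsoOfOver (L : X.Modules) (U : X.Opens)
    (e : (ModSite.restr X.sheaf U).obj L ≅ ModSite.unit (X.sheaf.over U)) :
    L.restrict U.ι ≅ Coh.structureModule (↑U : Scheme.{u}) := by
  let Φ : SheafOfModules.{u} (X.ringCatSheaf.over U) ⥤ (↑U : Scheme.{u}).Modules :=
    (Scheme.Modules.overEquiv U).functor
  let i1 : Φ.obj ((SheafOfModules.overFunctor X.ringCatSheaf U).obj L) ≅ L.restrict U.ι :=
    (Scheme.Modules.overFunctorEquiv U).app L
  exact i1.symm ≪≫ Φ.mapIso e

theorem exists_inverse (L : X.Modules) (hL : PicF.IsInvertible L) :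
    ∃ L' : X.Modules, PicF.IsInvertible L' ∧
      Nonempty (CohB1.tensorMod L L' ≅ Coh.structureModule X) := by
  choose U hxU he using hL
  have hcov := coversTop_of_mem U hxU
  let D : X.Modules := dual (O := X.sheaf) L
  let ev := evStd (O := X.sheaf) L
  have hperf := hperf_std (O := X.sheaf) L
  have key : ∀ x : X, IsIso (evRes X.sheaf (U x) (D := D) (E := L) ev) ∧
      Nonempty ((ModSite.restr X.sheaf (U x)).obj D ≅ ModSite.unit (X.sheaf.over (U x))) := by
    intro x
    exact isIso_ev_of_ff (ffOfIsoUnit (overIsoUnit L (U x) (he x).some))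
      (evRes X.sheaf (U x) (D := D) (E := L) ev) (isIso_adjunct_evRes X.sheaf (U x) ev hperf)
  haveI hev : IsIso ev := by
    refine Groth.Agent.Lib.Helper21.ModLocalIso.isIso_of_isIso_restr X.sheaf U hcov ev (fun x => ?_)
    haveI := (key x).1
    have h : (ModSite.restr X.sheaf (U x)).map ev =
        (μP X.sheaf (U x) ((fgt X.sheaf).obj D) ((fgt X.sheaf).obj L)).hom ≫
          evRes X.sheaf (U x) (D := D) (E := L) ev := by
      unfold evRes
      exact (Iso.hom_inv_id_assoc _ _).symm
    rw [h]
    exact IsIso.comp_isIso' (Iso.isIso_hom _) (key x).1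
  refine ⟨D, fun x => ⟨U x, hxU x, ⟨restrictIsoOfOver D (U x) (key x).2.some⟩⟩, ⟨?_⟩⟩
  have e2 : ((ModSite.tensorBi X.sheaf).obj D).obj L ≅ ModSite.unit X.sheaf := @asIso _ _ _ _ ev hev
  exact Groth.Agent.Lib.R2H4TensorPows.tComm L D ≪≫ e2

end Sch

end Groth.Agent.Lib.R2H4InvExists
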