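import Mathlib
import Groth.Prelude.Def_PerfAux
import Groth.Prelude.Def_LCI2
import Groth.Agent.Lib.H6xResPropA
import Groth.Agent.Lib.R2H2AmpleRes
import Groth.Agent.Lib.R2H2FinGenQC
import Groth.Agent.Lib.R2H4InvExists
import Groth.Agent.Lib.Helper23RestrTensor
import Groth.Agent.Lib.Helper23Restr2
import Groth.Agent.Lib.Helper23SecTw7
import Groth.Agent.Lib.Helper23ModLocal
import Groth.Agent.Lib.Helper20ParaF4
set_option backward.isDefEq.respectTransparency.types false

/-!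
# Resolution property from a relatively ample invertible module (helper6)
-/

set_option autoImplicit false
set_option linter.style.haveILetI false
universe u
open CategoryTheory CategoryTheory.Limits AlgebraicGeometry TopologicalSpace Opposite

namespace Groth.Agent.Lib.H6xResProp

open Groth.Agent.Lib.Helper6 Groth.Agent.Lib.Helper23.SecTw Groth.Agent.Lib.Helper23.GenLocus
  Groth.Agent.Lib.Helper20.ParaFLib

variable {X Y : Scheme.{u}}

/-- If `q : O_U^k ⟶ N|_U` is an epimorphism and each of the `k` sections lifts along `ψ : P ⟶ N`,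
then `ψ|_U` is an epimorphism. -/
theorem epi_restrict_of_lifts {P N : X.Modules} (ψ : P ⟶ N) (U : X.Opens) {k : ℕ}
    (q : FlatMod.freeMod (↑U : Scheme.{u}) k ⟶ N.restrict U.ι) [Epi q]
    (h : ∀ a : Fin k, ∃ p : Γ(P, U.ι ''ᵁ ⊤), ψ.app (U.ι ''ᵁ ⊤) p =
      sv (Sigma.ι (fun _ : Fin k => Coh.structureModule (↑U : Scheme.{u})) a ≫ q) ⊤) :
    Epi ((Scheme.Modules.restrictFunctor U.ι).map ψ) := by
  choose p hp using h
  let r : FlatMod.freeMod (↑U : Scheme.{u}) k ⟶ P.restrict U.ι :=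
    Sigma.desc (fun a => secHom (P.restrict U.ι) (p a))
  have hfac : r ≫ (Scheme.Modules.restrictFunctor U.ι).map ψ = q := by
    refine Sigma.hom_ext _ _ (fun a => ?_)
    rw [Sigma.ι_desc_assoc]
    apply hom_ext_of_sv
    rw [sv_comp, sv_top_secHom, ← hp a]
    rfl
  exact epi_of_epi_fac hfac

/-- a relatively ample module makes `f` quasi-separated -/
theorem quasiSeparated_of_isRelAmple (f : X ⟶ Y) (L : X.Modules) (hL : RelAmple.IsRelAmple f L) :
    QuasiSeparated f := by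
  rw [HasAffineProperty.eq_targetAffineLocally (P := @QuasiSeparated)]
  intro V
  exact quasiSeparatedSpace_of_isAmple _ (hL.2 V)

/-- local finite generation of the twists on the preimage of an affine open -/
theorem exists_epi_restrict_twist (f : X ⟶ Y) (L : X.Modules) (hL : RelAmple.IsRelAmple f L)
    (F : X.Modules) [F.IsQuasicoherent] [SheafOfModules.IsFiniteType (R := X.ringCatSheaf) F]
    (V : Y.affineOpens) :
    ∃ n₀ : ℕ, ∀ n, n₀ ≤ n → ∃ (k : ℕ)
      (q : FlatMod.freeMod (↑(f ⁻¹ᵁ V.1) : Scheme.{u}) k ⟶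
        (CohB1.tensorMod F (CohB1.tensorPow L n)).restrict (f ⁻¹ᵁ V.1).ι), Epi q := by
  have hLinv : PicF.IsInvertible L := isInvertible_of_isRelAmple f L hL
  set U : X.Opens := f ⁻¹ᵁ V.1 with hU
  have hamp : CohB1.IsAmple (L.restrict U.ι) := hL.2 V
  haveI : (F.restrict U.ι).IsQuasicoherent :=
    Scheme.Modules.isQuasicoherent_restrictFunctor U.ι F
  haveI : SheafOfModules.IsFiniteType (R := (↑U : Scheme.{u}).ringCatSheaf) (F.restrict U.ι) :=
    Groth.Agent.Lib.Helper23.FinType.isFiniteType_restrict U.ι F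
  have hLn : ∀ n, PicF.IsInvertible (CohB1.tensorPow (L.restrict U.ι) n) := fun n =>
    isInvertible_tensorPow hamp.1 n
  have hq : ∀ n, (CohB1.tensorMod (F.restrict U.ι)
      (CohB1.tensorPow (L.restrict U.ι) n)).IsQuasicoherent := fun n => by
    haveI : (CohB1.tensorPow (L.restrict U.ι) n).IsQuasicoherent :=
      isQuasicoherent_of_isInvertible _ (hLn n)
    exact Groth.Agent.Lib.Helper23.TensorQCoh.isQuasicoherent_tensorMod _ _
  have hft : ∀ n, SheafOfModules.IsFiniteType (R := (↑U : Scheme.{u}).ringCatSheaf)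
      (CohB1.tensorMod (F.restrict U.ι) (CohB1.tensorPow (L.restrict U.ι) n)) := fun n => by
    haveI : (CohB1.tensorPow (L.restrict U.ι) n).IsQuasicoherent :=
      isQuasicoherent_of_isInvertible _ (hLn n)
    haveI : SheafOfModules.IsFiniteType (R := (↑U : Scheme.{u}).ringCatSheaf)
        (CohB1.tensorPow (L.restrict U.ι) n) :=
      Groth.Agent.Lib.R2H2.PnFinite.isFiniteType_of_isInvertible _ (hLn n)
    exact Groth.Agent.Lib.Helper23.TensorQCoh.isFiniteType_tensorMod _ _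
  obtain ⟨n₀, hn₀⟩ := Groth.Agent.Lib.R2H2.FinGenQC.exists_finite_epi_twist (L.restrict U.ι) hamp
    (F.restrict U.ι) hq hft
  refine ⟨n₀, fun n hn => ?_⟩
  obtain ⟨k, q, hqe⟩ := hn₀ n hn
  obtain ⟨Φ⟩ := Groth.Agent.Lib.Helper23.RestrTensor.nonempty_restrict_twist_iso F L hLinv U n
  haveI := hqe
  exact ⟨k, q ≫ Φ.inv, epi_comp _ _⟩

/-- **Resolution property from a relatively ample invertible module** (target qcqs with the
resolution property). -/
theorem hasResolutionProperty_of_isRelAmple (f : X ⟶ Y) [CompactSpace Y]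
    [QuasiSeparatedSpace Y] (hY : PerfAux.HasResolutionProperty Y) (L : X.Modules)
    (hL : RelAmple.IsRelAmple f L) : PerfAux.HasResolutionProperty X := by
  classical
  intro F hFq hFt
  haveI : F.IsQuasicoherent := hFq
  haveI : SheafOfModules.IsFiniteType (R := X.ringCatSheaf) F := hFt
  haveI : QuasiCompact f := hL.1
  haveI : QuasiSeparated f := quasiSeparated_of_isRelAmple f L hL
  have hLinv : PicF.IsInvertible L := isInvertible_of_isRelAmple f L hL
  -- a finite affine cover of `Y`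
  have hcov : (Set.univ : Set Y) ⊆ ⋃ V : Y.affineOpens, (V.1 : Set Y) := by
    intro y _
    obtain ⟨V, hV, hyV, -⟩ := exists_isAffineOpen_mem_and_subset (x := y) (U := ⊤) trivial
    exact Set.mem_iUnion.2 ⟨⟨V, hV⟩, hyV⟩
  obtain ⟨t, ht⟩ := isCompact_univ.elim_finite_subcover
    (fun V : Y.affineOpens => (V.1 : Set Y)) (fun V => V.1.2) hcov
  choose n₀ hn₀ using exists_epi_restrict_twist f L hL F
  set n : ℕ := t.sup n₀ with hn
  have hLn : PicF.IsInvertible (CohB1.tensorPow L n) := isInvertible_tensorPow hLinv n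
  haveI : (CohB1.tensorPow L n).IsQuasicoherent := isQuasicoherent_of_isInvertible _ hLn
  haveI : SheafOfModules.IsFiniteType (R := X.ringCatSheaf) (CohB1.tensorPow L n) :=
    Groth.Agent.Lib.R2H2.PnFinite.isFiniteType_of_isInvertible _ hLn
  set N : X.Modules := CohB1.tensorMod F (CohB1.tensorPow L n) with hN
  haveI : N.IsQuasicoherent := Groth.Agent.Lib.Helper23.TensorQCoh.isQuasicoherent_tensorMod F _
  choose k q hq using (fun V : t => hn₀ V.1 n (Finset.le_sup V.2))
  have hle : ∀ V : t, f ⁻¹ᵁ V.1.1 ≤ (f ⁻¹ᵁ V.1.1).ι ''ᵁ ⊤ := fun V => by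
    rw [Scheme.Opens.ι_image_top]
  have hle' : ∀ V : t, (f ⁻¹ᵁ V.1.1).ι ''ᵁ ⊤ ≤ f ⁻¹ᵁ V.1.1 := fun V => by
    rw [Scheme.Opens.ι_image_top]
  set K : Y.Modules := (Scheme.Modules.pushforward f).obj N with hK
  haveI : K.IsQuasicoherent :=
    Groth.Agent.Lib.Helper23.QCohLocal.isQuasicoherent_pushforward f N
  let m : ∀ V : t, Fin (k V) → Γ(N, f ⁻¹ᵁ V.1.1) := fun V a =>
    res N (hle V) (sv (Sigma.ι (fun _ : Fin (k V) =>
      Coh.structureModule (↑(f ⁻¹ᵁ V.1.1) : Scheme.{u})) a ≫ q V) ⊤)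
  let l : List (Σ U : Y.affineOpens, Γ(K, U.1)) :=
    t.attach.toList.flatMap (fun V => (List.finRange (k V)).map
      (fun a => (⟨V.1, m V a⟩ : Σ U : Y.affineOpens, Γ(K, U.1))))
  let a₀ : Σ U : Y.affineOpens, Γ(K, U.1) := ⟨⟨⊥, isAffineOpen_bot Y⟩, 0⟩
  obtain ⟨G, i, hi, hGq, hGt, hG⟩ := Groth.Agent.Lib.Helper23.FTsub.exists_ft_sub_list K a₀ l
  obtain ⟨E, π, hE, hπ⟩ := hY G hGq hGt
  haveI := hπ
  haveI : G.IsQuasicoherent := hGq
  haveI : E.IsQuasicoherent := isQuasicoherent_of_isFinLocFree E hE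
  have hPE : FlatMod.IsFinLocFree ((Scheme.Modules.pullback f).obj E) :=
    Groth.Agent.Lib.Helper1.Sky.isFinLocFree_pullback f E hE
  set φ : E ⟶ K := π ≫ i with hφ
  set ψ : (Scheme.Modules.pullback f).obj E ⟶ N :=
    ((Scheme.Modules.pullbackPushforwardAdjunction f).homEquiv E N).symm φ with hψ
  have hφψ : φ = (Scheme.Modules.pullbackPushforwardAdjunction f).unit.app E ≫
      (Scheme.Modules.pushforward f).map ψ := by
    have h1 := (Scheme.Modules.pullbackPushforwardAdjunction f).homEquiv_unit (X := E) (Y := N)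
      (f := ψ)
    rw [← h1, hψ, Equiv.apply_symm_apply]
  -- `ψ` is an epimorphism
  have hψepi : Epi ψ := by
    refine Groth.Agent.Lib.Helper23.ModLocal.epi_of_epi_restrict ψ
      (fun V : t => (↑(f ⁻¹ᵁ V.1.1) : Scheme.{u})) (fun V => (f ⁻¹ᵁ V.1.1).ι) ?_ (fun V => ?_)
    · intro x
      obtain ⟨V, hVt, hyV⟩ := Set.mem_iUnion₂.1 (ht (Set.mem_univ (f x)))
      exact ⟨⟨V, hVt⟩, ⟨x, hyV⟩, rfl⟩
    · haveI := hq V
      refine epi_restrict_of_lifts ψ (f ⁻¹ᵁ V.1.1) (q V) (fun a => ?_)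
      have hmem : (⟨V.1, m V a⟩ : Σ U : Y.affineOpens, Γ(K, U.1)) ∈ a₀ :: l := by
        refine List.mem_cons_of_mem _ ?_
        refine List.mem_flatMap.2 ⟨V, Finset.mem_toList.2 (Finset.mem_attach _ _), ?_⟩
        exact List.mem_map.2 ⟨a, List.mem_finRange a, rfl⟩
      obtain ⟨g, hg⟩ := hG _ hmem
      obtain ⟨e, he⟩ := Groth.Agent.Lib.Helper23.FinType.surjective_app_of_epi π V.1.2 g
      have h1 : φ.app V.1.1 e = m V a := by
        change i.app V.1.1 (π.app V.1.1 e) = m V a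
        rw [he]
        exact hg
      have h2 : ψ.app (f ⁻¹ᵁ V.1.1)
          (((Scheme.Modules.pullbackPushforwardAdjunction f).unit.app E).app V.1.1 e) = m V a := by
        rw [← h1, hφψ]
        rfl
      refine ⟨res _ (hle' V)
        (((Scheme.Modules.pullbackPushforwardAdjunction f).unit.app E).app V.1.1 e), ?_⟩
      have h3 : ψ.app ((f ⁻¹ᵁ V.1.1).ι ''ᵁ ⊤) (res _ (hle' V)
          (((Scheme.Modules.pullbackPushforwardAdjunction f).unit.app E).app V.1.1 e)) =
          res N (hle' V) (ψ.app (f ⁻¹ᵁ V.1.1)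
            (((Scheme.Modules.pullbackPushforwardAdjunction f).unit.app E).app V.1.1 e)) :=
        Groth.Agent.Lib.Helper23.Extend.app_map ψ (homOfLE (hle' V)) _
      rw [h3, h2]
      change res N (hle' V) (res N (hle V) _) = _
      rw [res_res]
      have h4 : ∀ (W : X.Opens) (s : Γ(N, W)), res N (le_refl W) s = s := fun W s => by
        change N.presheaf.map (𝟙 (op W)) s = s
        rw [N.presheaf.map_id]
        rfl
      exact h4 _ _
  -- untwist
  obtain ⟨N', hN', ⟨e⟩⟩ := Groth.Agent.Lib.R2H4InvExists.exists_inverse _ hLn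
  haveI := hψepi
  haveI := Groth.Agent.Lib.R2H2.AmpleRes.epi_twR_map N' hN' ψ
  have hfl : FlatMod.IsFinLocFree ((Groth.Agent.Lib.R2H2.PnSerre.twR N').obj
      ((Scheme.Modules.pullback f).obj E)) :=
    Groth.Agent.Lib.Helper1.FLF.isFinLocFree_tensor _ N' hPE
      (Groth.Agent.Lib.R2H2.ProjOverPush.isFinLocFree_of_isInvertible hN')
  exact ⟨_, (Groth.Agent.Lib.R2H2.PnSerre.twR N').map ψ ≫
    (Groth.Agent.Lib.R2H2.AmpleRes.cancelIso F (CohB1.tensorPow L n) N' e).hom, hfl, epi_comp _ _⟩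

end Groth.Agent.Lib.H6xResProp
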