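import Mathlib
import Groth.Agent.Lib.Helper21ModTensor3
import Groth.Agent.Lib.Helper1FLF1
import Groth.Agent.Lib.Helper1Sky9
set_option backward.isDefEq.respectTransparency.types false

/-!
# Resolution property from a relatively generating family (helper6; S14988)
-/

set_option autoImplicit false
set_option linter.style.haveILetI false

universe u

open CategoryTheory CategoryTheory.Limits AlgebraicGeometry

namespace Groth.Agent.Lib.H6xResProp

open Groth.Agent.Lib.Helper21.ModTensor3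

theorem rp_of_relGenerating {X Y : Scheme.{u}} (f : X ⟶ Y)
    (hY : ∀ N : Y.Modules, Coh.IsQCoh N →
      ∃ (κ : Type u) (V : κ → Y.Modules) (π : (∐ V) ⟶ N), (∀ k, FlatMod.IsFinLocFree (V k)) ∧ Epi π)
    {ι : Type u} (W : ι → X.Modules) (hW : ∀ i, FlatMod.IsFinLocFree (W i))
    (hf : ∀ M : X.Modules, Coh.IsQCoh M →
      ∃ (κ : Type u) (j : κ → ι) (N : κ → Y.Modules)
        (π : (∐ fun k => CohB1.tensorMod (W (j k)) ((Scheme.Modules.pullback f).obj (N k))) ⟶ M),
        (∀ k, Coh.IsQCoh (N k)) ∧ Epi π) :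
    ∀ M : X.Modules, Coh.IsQCoh M →
      ∃ (κ : Type u) (E : κ → X.Modules) (π : (∐ E) ⟶ M), (∀ k, FlatMod.IsFinLocFree (E k)) ∧ Epi π := by
  intro M hM
  obtain ⟨κ, j, N, π, hN, hπ⟩ := hf M hM
  choose κ' V ρ hV hρ using fun k => hY (N k) (hN k)
  let Ψ : ∀ k : κ, Y.Modules ⥤ X.Modules :=
    fun k => Scheme.Modules.pullback f ⋙ tL X.sheaf (W (j k))
  haveI : ∀ k, PreservesColimitsOfSize.{u, u} (Ψ k) := fun k => by
    haveI : PreservesColimitsOfSize.{u, u} (Scheme.Modules.pullback f) :=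
      (Scheme.Modules.pullbackPushforwardAdjunction f).leftAdjoint_preservesColimits
    haveI h2 : PreservesColimitsOfSize.{u, u} (tL X.sheaf (W (j k))) :=
      tL_preservesColimits X.sheaf (W (j k))
    exact @comp_preservesColimits _ _ _ _ _ _ (Scheme.Modules.pullback f)
      (tL X.sheaf (W (j k))) this h2
  let E : (Σ k : κ, κ' k) → X.Modules := fun p => (Ψ p.1).obj (V p.1 p.2)
  let T : κ → X.Modules :=
    fun k => CohB1.tensorMod (W (j k)) ((Scheme.Modules.pullback f).obj (N k))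
  let φ : ∀ p : (Σ k : κ, κ' k), E p ⟶ M := fun p =>
    (show (Ψ p.1).obj (V p.1 p.2) ⟶ T p.1 from
      (Ψ p.1).map (Sigma.ι (V p.1) p.2 ≫ ρ p.1)) ≫ Sigma.ι T p.1 ≫ π
  refine ⟨Σ k : κ, κ' k, E, Sigma.desc φ, fun p => ?_, ?_⟩
  · exact Groth.Agent.Lib.Helper1.FLF.isFinLocFree_tensor _ _ (hW _)
      (Groth.Agent.Lib.Helper1.Sky.isFinLocFree_pullback f _ (hV _ _))
  · apply Preadditive.epi_of_cancel_zero
    intro Z g hg
    haveI := hπ
    rw [← cancel_epi π, comp_zero]
    apply Sigma.hom_ext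
    intro k
    rw [comp_zero]
    haveI := hρ k
    haveI : PreservesColimitsOfSize.{0, 0} (Ψ k) := preservesColimitsOfSize_shrink.{0, u, 0, u} _
    let ρ' : (Ψ k).obj (∐ V k) ⟶ T k := (Ψ k).map (ρ k)
    haveI : Epi ρ' := inferInstanceAs (Epi ((Ψ k).map (ρ k)))
    have key : ρ' ≫ Sigma.ι T k ≫ π ≫ g = 0 := by
      apply (isColimitOfPreserves (Ψ k) (coproductIsCoproduct (V k))).hom_ext
      rintro ⟨l⟩
      have h1 := Sigma.ι_desc φ ⟨k, l⟩
      have h2 : Sigma.ι E ⟨k, l⟩ ≫ Sigma.desc φ ≫ g = 0 := by rw [hg, comp_zero]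
      rw [← Category.assoc, h1] at h2
      rw [comp_zero]
      dsimp only [φ] at h2
      rw [Functor.map_comp] at h2
      simp only [Category.assoc] at h2
      exact h2
    exact (cancel_epi ρ').1 (key.trans comp_zero.symm)

end Groth.Agent.Lib.H6xResProp
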