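import Groth.Prelude.Def_FSch5

set_option autoImplicit false
universe u

open CategoryTheory CategoryTheory.Limits AlgebraicGeometry TopologicalSpace Opposite

namespace Groth.Agent.Lib.H6xRestrictOpen

section general

variable {X Y : Scheme.{u}} (f : X ⟶ Y)

theorem isClosedImmersion_resLE [IsClosedImmersion f] (V : Y.Opens) (W : X.Opens)
    (e : W ≤ f ⁻¹ᵁ V) (e' : f ⁻¹ᵁ V ≤ W) : IsClosedImmersion (f.resLE V W e) := by
  obtain rfl : W = f ⁻¹ᵁ V := le_antisymm e e'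
  unfold Scheme.Hom.resLE
  rw [Scheme.homOfLE_rfl, Category.id_comp]
  exact IsZariskiLocalAtTarget.restrict ‹_› _

theorem ker_resLE_ideal [QuasiCompact f] (V : Y.Opens) (W : X.Opens)
    (e : W ≤ f ⁻¹ᵁ V) (e' : f ⁻¹ᵁ V ≤ W) (T : V.toScheme.affineOpens) :
    (f.resLE V W e).ker.ideal T = f.ker.ideal ⟨V.ι ''ᵁ T, T.2.image_of_isOpenImmersion _⟩ := by
  obtain rfl : W = f ⁻¹ᵁ V := le_antisymm e e'
  unfold Scheme.Hom.resLE
  rw [Scheme.homOfLE_rfl, Category.id_comp]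
  exact Scheme.ker_morphismRestrict_ideal f V T

theorem surjective_resLE (hf : Function.Surjective f.base) (V : Y.Opens) (W : X.Opens)
    (e : W ≤ f ⁻¹ᵁ V) (e' : f ⁻¹ᵁ V ≤ W) : Function.Surjective (f.resLE V W e).base := by
  rintro ⟨y, hy⟩
  obtain ⟨x, rfl⟩ := hf y
  refine ⟨⟨x, e' hy⟩, ?_⟩
  apply Subtype.ext
  have := congrArg (fun g : W.toScheme ⟶ Y => g.base ⟨x, e' hy⟩) (Scheme.Hom.resLE_comp_ι f e)
  exact this

end general

section sys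

open FSch

variable (𝔛 : FSch.Sys.{u}) (h : 𝔛.IsFormal) (U : (𝔛.X 0).Opens)

theorem isFormal_restrictOpen : (𝔛.restrictOpen h U).IsFormal := by
  intro n
  have hci : IsClosedImmersion (𝔛.ι n) := (h n).1
  exact ⟨isClosedImmersion_resLE (𝔛.ι n) _ _ (𝔛.lvU_le h n U) (𝔛.lvU_succ h n U).le,
    surjective_resLE (𝔛.ι n) (h n).2 _ _ (𝔛.lvU_le h n U) (𝔛.lvU_succ h n U).le⟩

theorem toX_preimage_lvU (n : ℕ) :
    (𝔛.toX n) ⁻¹ᵁ (𝔛.lvU h n U) = 𝔛.lvU h 0 U := by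
  change (Opens.map ((𝔛.toX n).base ≫ 𝔛.gInv h n)).obj U =
    (Opens.map ((𝔛.toX 0).base ≫ 𝔛.gInv h 0)).obj U
  rw [FSch.Sys.toX_base_gInv, FSch.Sys.toX_base_gInv]

theorem toX_restrictOpen (n : ℕ) :
    (𝔛.restrictOpen h U).toX n =
      ((𝔛.toX n).resLE (𝔛.lvU h n U) (𝔛.lvU h 0 U) (toX_preimage_lvU 𝔛 h U n).ge :
        (𝔛.restrictOpen h U).X 0 ⟶ (𝔛.restrictOpen h U).X n) := by
  have key := FSch.Hom.toX_comm (𝔛.restrictOpenι h U) n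
  have h2 := Scheme.Hom.resLE_comp_ι (𝔛.toX n) (toX_preimage_lvU 𝔛 h U n).ge
  exact (cancel_mono (𝔛.lvU h n U).ι).mp (key.trans h2.symm)

theorem isAdic_restrictOpen (hA : 𝔛.IsAdic) : (𝔛.restrictOpen h U).IsAdic := by
  intro n
  have hci : IsClosedImmersion (𝔛.ι n) := (h n).1
  have hci' := FSch.Sys.toX_isClosedImmersion 𝔛 h (n + 1)
  apply Scheme.IdealSheafData.ext
  funext T
  show ((𝔛.ι n).resLE (𝔛.lvU h (n + 1) U) (𝔛.lvU h n U) (𝔛.lvU_le h n U)).ker.ideal T =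
    ((𝔛.restrictOpen h U).toX (n + 1)).ker.ideal T ^ (n + 1)
  have e1 := ker_resLE_ideal (𝔛.ι n) _ _ (𝔛.lvU_le h n U) (𝔛.lvU_succ h n U).le T
  have e2 := ker_resLE_ideal (𝔛.toX (n + 1)) _ _ (toX_preimage_lvU 𝔛 h U (n + 1)).ge
    (toX_preimage_lvU 𝔛 h U (n + 1)).le T
  have e3 := congrArg (fun g : (𝔛.restrictOpen h U).X 0 ⟶ (𝔛.restrictOpen h U).X (n + 1) =>
    (Scheme.Hom.ker g).ideal T) (toX_restrictOpen 𝔛 h U (n + 1))
  let T' : (𝔛.lvU h (n + 1) U).toScheme.affineOpens := T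
  have e4 : (𝔛.ι n).ker.ideal ⟨(𝔛.lvU h (n + 1) U).ι ''ᵁ T'.1,
        T'.2.image_of_isOpenImmersion (𝔛.lvU h (n + 1) U).ι⟩ =
      (𝔛.toX (n + 1)).ker.ideal ⟨(𝔛.lvU h (n + 1) U).ι ''ᵁ T'.1,
        T'.2.image_of_isOpenImmersion (𝔛.lvU h (n + 1) U).ι⟩ ^ (n + 1) := by
    rw [hA n]; rfl
  exact e1.trans (e4.trans (congrArg (· ^ (n + 1)) (e3.trans e2).symm))

theorem main : (𝔛.restrictOpen h U).IsFormal ∧
    (𝔛.IsLocNoethFormal → (𝔛.restrictOpen h U).IsLocNoethFormal) ∧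
      (𝔛.IsLocNoethFormal → CompactSpace (𝔛.X 0) → CompactSpace ((𝔛.restrictOpen h U).X 0)) := by
  refine ⟨isFormal_restrictOpen 𝔛 h U, ?_, ?_⟩
  · rintro ⟨_, hA, hN⟩
    refine ⟨isFormal_restrictOpen 𝔛 h U, isAdic_restrictOpen 𝔛 h U hA, fun n => ?_⟩
    have := hN n
    show IsLocallyNoetherian (𝔛.lvU h n U).toScheme
    infer_instance
  · rintro ⟨_, _, hN⟩ hc
    have := hN 0
    have : IsNoetherian (𝔛.X 0) := {}
    show CompactSpace (𝔛.lvU h 0 U).toScheme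
    exact isCompact_iff_compactSpace.mp (TopologicalSpace.NoetherianSpace.isCompact _)

end sys

end Groth.Agent.Lib.H6xRestrictOpen
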