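import Mathlib
import Groth.Agent.Lib.H6xRpushQcB
import Groth.Agent.Lib.H6xSuppPushD
set_option backward.isDefEq.respectTransparency.types false

/-!
# `RΓ_Z` preserves quasi-coherent cohomology (complex-level form) (helper6)

For `ι : W ⟶ Y` a quasi-compact open immersion and `I` a K-injective complex with injective terms
and quasi-coherent cohomology: `Q (Γ_Z I)` has quasi-coherent cohomology, supported off `W`.
-/

set_option autoImplicit false
set_option linter.style.haveILetI false
universe u
open CategoryTheory CategoryTheory.Limits AlgebraicGeometry TopologicalSpace Opposite ZeroObject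

attribute [local instance] HasDerivedCategory.standard

namespace Groth.Agent.Lib.H6xRpushQc

open Groth.Agent.Lib.H6xMV Groth.Agent.Lib.Helper17.KInj Groth.Agent.Lib.H6xRpushRes
  Groth.Agent.Lib.H6xSuppPush Pretriangulated

variable {W Y : Scheme.{u}} (ι : W ⟶ Y) [IsOpenImmersion ι]

theorem isQCohD_Q_gammaZ [QuasiCompact ι] (I : CochainComplex Y.Modules ℤ) [I.IsKInjective]
    (hinj : ∀ n, Injective (I.X n)) (hI : DCoh.IsQCohD (DerivedCategory.Q.obj I)) :
    DCoh.IsQCohD (DerivedCategory.Q.obj
      (((DCoh.gammaZ ι).mapHomologicalComplex (ComplexShape.up ℤ)).obj I)) := by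
  let S : ShortComplex (CochainComplex Y.Modules ℤ) :=
    { X₁ := ((DCoh.gammaZ ι).mapHomologicalComplex (ComplexShape.up ℤ)).obj I
      X₂ := I
      X₃ := ((P ι).mapHomologicalComplex (ComplexShape.up ℤ)).obj I
      f := { f := fun n => (Groth.Agent.Lib.R2H3.LocCohQCoh.gι ι).app (I.X n)
             comm' := fun a b _ =>
               ((Groth.Agent.Lib.R2H3.LocCohQCoh.gι ι).naturality (I.d a b)).symm }
      g := { f := fun n => (Scheme.Modules.restrictAdjunction ι).unit.app (I.X n)
             comm' := fun a b _ =>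
               ((Scheme.Modules.restrictAdjunction ι).unit.naturality (I.d a b)).symm }
      zero := by
        apply HomologicalComplex.hom_ext
        intro n
        exact kernel.condition _ }
  have hS : S.ShortExact := by
    apply HomologicalComplex.shortExact_of_degreewise_shortExact
    intro n
    exact Groth.Agent.Lib.R2H3.LocCohQCoh.hex ι (I.X n) (hinj n)
  have hT := DerivedCategory.triangleOfSES_distinguished hS
  refine isQCohD_obj₁ _ hT hI ?_
  exact isQCohD_of_iso (pushResIso ι I (Iso.refl _)).symm
    (main ι _ (isQCohD_restrictD ι _ hI))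

theorem support_HD_Q_gammaZ (I : CochainComplex Y.Modules ℤ) (i : ℤ) :
    CohB1.support (DCoh.HD (DerivedCategory.Q.obj
      (((DCoh.gammaZ ι).mapHomologicalComplex (ComplexShape.up ℤ)).obj I)) i) ⊆
      (Set.range ι.base)ᶜ := by
  rintro x hx ⟨y, rfl⟩
  have e2' : (DCoh.restrictD ι).obj (DerivedCategory.Q.obj
      (((DCoh.gammaZ ι).mapHomologicalComplex (ComplexShape.up ℤ)).obj I)) ≅
      DerivedCategory.Q.obj
      (((Scheme.Modules.restrictFunctor ι).mapHomologicalComplex (ComplexShape.up ℤ)).obj
        (((DCoh.gammaZ ι).mapHomologicalComplex (ComplexShape.up ℤ)).obj I)) :=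
    (Scheme.Modules.restrictFunctor ι).mapDerivedCategoryFactors.app _
  have hz : IsZero ((DCoh.restrictD ι).obj (DerivedCategory.Q.obj
      (((DCoh.gammaZ ι).mapHomologicalComplex (ComplexShape.up ℤ)).obj I))) := by
    refine IsZero.of_iso (DerivedCategory.Q.map_isZero ?_) e2'
    rw [IsZero.iff_id_eq_zero]
    apply HomologicalComplex.hom_ext
    intro n
    exact (isZero_restrict_gammaZ ι (I.X n)).eq_of_src _ _
  obtain ⟨e2⟩ := nonempty_homology_mapDerivedCategory_iso
    (Scheme.Modules.restrictFunctor ι) (DerivedCategory.Q.obj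
      (((DCoh.gammaZ ι).mapHomologicalComplex (ComplexShape.up ℤ)).obj I)) i
  have hz2 : IsZero ((Scheme.Modules.restrictFunctor ι).obj
      (DCoh.HD (DerivedCategory.Q.obj
      (((DCoh.gammaZ ι).mapHomologicalComplex (ComplexShape.up ℤ)).obj I)) i)) :=
    IsZero.of_iso (Functor.map_isZero _ hz) e2.symm
  exact not_mem_support_of_isZero_restrict ι _ hz2 y hx

end Groth.Agent.Lib.H6xRpushQc
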