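import Groth.Agent.Lib.Helper17KInjD5

/-!
# Derived limits and right derived functors preserving products (helper6)

Variant of helper17's `exists_rlim_triangle`: instead of exact countable products in the target,
assume that the right derived functor preserves countable products (e.g. it is a right adjoint).
-/

set_option autoImplicit false

universe w w₁ w₂ w' v v' u u'

open CategoryTheory CategoryTheory.Limits HomologicalComplex MorphismProperty DerivedCategory
  CochainComplex Pretriangulated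

namespace Groth.Agent.Lib.H6xRlim

open Groth.Agent.Lib.Helper17.KInj Groth.Agent.Lib.Helper17.QProd

variable {A : Type u} [Category.{v} A] [Abelian A] [IsGrothendieckAbelian.{w} A]
  [HasDerivedCategory.{w₁} A]
  {B : Type u'} [Category.{v'} B] [Abelian B] [HasDerivedCategory.{w₂} B]
  (F : A ⥤ B) [F.Additive]
  (RF : DerivedCategory A ⥤ DerivedCategory B)
  (β : F.mapHomologicalComplex (ComplexShape.up ℤ) ⋙ DerivedCategory.Q ⟶
    DerivedCategory.Q ⋙ RF)
  [RF.IsRightDerivedFunctor β (HomologicalComplex.quasiIso A (ComplexShape.up ℤ))]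

include F β in
theorem exists_rlim_triangle' (K : ℕ → DerivedCategory A) (t : ∀ n, K (n + 1) ⟶ K n)
    (L : DerivedCategory A) [HasProduct K] [HasProduct fun n => RF.obj (K n)]
    [PreservesLimit (Discrete.functor K) RF]
    (a : L ⟶ ∏ᶜ K) (c : ∏ᶜ K ⟶ L⟦(1 : ℤ)⟧)
    (h : Triangle.mk a (Pi.lift fun n => Pi.π K n - Pi.π K (n + 1) ≫ t n) c ∈
      distTriang (DerivedCategory A)) :
    ∃ (a' : RF.obj L ⟶ ∏ᶜ fun n => RF.obj (K n))
      (c' : (∏ᶜ fun n => RF.obj (K n)) ⟶ (RF.obj L)⟦(1 : ℤ)⟧),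
      Triangle.mk a' (Pi.lift fun n => Pi.π (fun n => RF.obj (K n)) n -
        Pi.π (fun n => RF.obj (K n)) (n + 1) ≫ RF.map (t n)) c' ∈
        distTriang (DerivedCategory B) := by
  classical
  haveI : HasLimitsOfSize.{0, 0} A := hasLimitsOfSizeShrink.{0, 0, w, w} A
  haveI : HasLimitsOfShape (Discrete ℕ) A := inferInstance
  -- Step 1: K-injective representatives
  have hres : ∀ n, ∃ (I : CochainComplex A ℤ), I.IsKInjective ∧
      Nonempty ((Q : _ ⥤ DerivedCategory A).obj I ≅ K n) := fun n => by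
    obtain ⟨I, f, hI, hf, -, -⟩ := exists_kInjective_resolution.{w} A
      ((Q : _ ⥤ DerivedCategory A).objPreimage (K n))
    haveI := hf
    exact ⟨I, hI, ⟨(asIso (Q.map f)).symm ≪≫ Q.objObjPreimageIso (K n)⟩⟩
  choose I hI e₀ using hres
  haveI := hI
  obtain ⟨e, -⟩ : ∃ e' : ∀ n, (Q : _ ⥤ DerivedCategory A).obj (I n) ≅ K n, True :=
    ⟨fun n => (e₀ n).some, trivial⟩
  -- Step 2: transition maps
  choose τ hτ using fun n => exists_Q_map_eq ((e (n + 1)).hom ≫ t n ≫ (e n).inv)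
  -- Step 3: the map `1 - shift`
  obtain ⟨φ, hφ⟩ : ∃ φ : prodCx I ⟶ prodCx I,
      ∀ n, φ ≫ prodCxπ I n = prodCxπ I n - prodCxπ I (n + 1) ≫ τ n :=
    ⟨(isLimitProdCx I).lift (Fan.mk _ (fun n => prodCxπ I n - prodCxπ I (n + 1) ≫ τ n)),
      fun n => (isLimitProdCx I).fac _ ⟨n⟩⟩
  -- Step 4: the product in `D(A)`
  obtain ⟨eP, heP⟩ : ∃ eP : (Q : _ ⥤ DerivedCategory A).obj (prodCx I) ≅ ∏ᶜ K,
      ∀ n, eP.hom ≫ Pi.π K n = Q.map (prodCxπ I n) ≫ (e n).hom :=
    ⟨IsLimit.conePointsIsoOfNatIso (isLimitQProdCxOfIsKInjective I) (productIsProduct K)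
      (Discrete.natIso (fun ⟨n⟩ => e n)), fun n =>
      IsLimit.conePointsIsoOfNatIso_hom_comp (isLimitQProdCxOfIsKInjective I)
        (productIsProduct K) (Discrete.natIso (fun ⟨n⟩ => e n)) ⟨n⟩⟩
  have hψ : (Q : _ ⥤ DerivedCategory A).map φ ≫ eP.hom =
      eP.hom ≫ Pi.lift (fun n => Pi.π K n - Pi.π K (n + 1) ≫ t n) := by
    apply Pi.hom_ext
    intro n
    rw [Category.assoc, Category.assoc, Pi.lift_π, heP, ← Functor.map_comp_assoc, hφ,
      Functor.map_sub, Functor.map_comp, Preadditive.sub_comp, Preadditive.comp_sub, heP,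
      reassoc_of% (heP (n + 1)), Category.assoc, hτ]
    simp
  -- Step 5: `L` is the mapping cocone
  have hT₂ := DerivedCategory.mappingCocone_triangle_distinguished (C := A) φ
  obtain ⟨e', -, -⟩ := exists_iso_of_arrow_iso _ _ (rot_of_distTriang _ h)
    (rot_of_distTriang _ hT₂) (Arrow.isoMk eP.symm eP.symm (by
      dsimp
      rw [Iso.inv_comp_eq, ← Category.assoc, Iso.eq_comp_inv]
      exact hψ))
  obtain ⟨eL⟩ : Nonempty (L ≅ (Q : _ ⥤ DerivedCategory A).obj (mappingCocone φ)) :=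
    ⟨(CategoryTheory.shiftFunctor (DerivedCategory A) (1 : ℤ)).preimageIso (Triangle.π₃.mapIso e')⟩
  -- Step 6: the product in `D(B)` (via preservation of products by `RF`)
  haveI : ∀ n, IsIso (β.app (I n)) := fun n => isIso_app_of_isKInjective F RF β (I n)
  haveI : IsIso (β.app (prodCx I)) := isIso_app_of_isKInjective F RF β (prodCx I)
  obtain ⟨eP', heP'⟩ : ∃ eP' : (Q : _ ⥤ DerivedCategory B).obj
      ((F.mapHomologicalComplex (ComplexShape.up ℤ)).obj (prodCx I)) ≅
        ∏ᶜ (fun n => RF.obj (K n)),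
      ∀ n, eP'.hom ≫ Pi.π (fun n => RF.obj (K n)) n =
        Q.map ((F.mapHomologicalComplex (ComplexShape.up ℤ)).map (prodCxπ I n)) ≫
          β.app (I n) ≫ RF.map (e n).hom := by
    refine ⟨asIso (β.app (prodCx I)) ≪≫ RF.mapIso eP ≪≫ PreservesProduct.iso RF K, fun n => ?_⟩
    have nat : Q.map ((F.mapHomologicalComplex (ComplexShape.up ℤ)).map (prodCxπ I n)) ≫
        β.app (I n) = β.app (prodCx I) ≫ RF.map (Q.map (prodCxπ I n)) := β.naturality (prodCxπ I n)
    simp only [Iso.trans_hom, asIso_hom, Functor.mapIso_hom, PreservesProduct.iso_hom,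
      Category.assoc, piComparison_comp_π]
    rw [← Functor.map_comp, heP, Functor.map_comp, reassoc_of% nat]
  have hψ' : (Q : _ ⥤ DerivedCategory B).map
      ((F.mapHomologicalComplex (ComplexShape.up ℤ)).map φ) ≫ eP'.hom =
      eP'.hom ≫ Pi.lift (fun n => Pi.π (fun n => RF.obj (K n)) n -
        Pi.π (fun n => RF.obj (K n)) (n + 1) ≫ RF.map (t n)) := by
    apply Pi.hom_ext
    intro n
    have nat : Q.map ((F.mapHomologicalComplex (ComplexShape.up ℤ)).map (τ n)) ≫ β.app (I n) =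
        β.app (I (n + 1)) ≫ RF.map (Q.map (τ n)) := β.naturality (τ n)
    rw [Category.assoc, Category.assoc, Pi.lift_π, heP', ← Functor.map_comp_assoc,
      ← Functor.map_comp, hφ, Functor.map_sub, Functor.map_sub, Functor.map_comp,
      Functor.map_comp, Preadditive.sub_comp, Preadditive.comp_sub, heP',
      reassoc_of% (heP' (n + 1)), Category.assoc, reassoc_of% nat, hτ, ← Functor.map_comp,
      ← Functor.map_comp]
    simp
  -- Step 7: the distinguished triangle in `D(B)`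
  have hT₃ := DerivedCategory.mappingCocone_triangle_distinguished (C := B)
    ((F.mapHomologicalComplex (ComplexShape.up ℤ)).map φ)
  haveI : IsIso (β.app (mappingCocone φ)) := isIso_app_of_isKInjective F RF β _
  obtain ⟨κ⟩ : Nonempty ((F.mapHomologicalComplex (ComplexShape.up ℤ)).obj (mappingCocone φ) ≅
      mappingCocone ((F.mapHomologicalComplex (ComplexShape.up ℤ)).map φ)) :=
    ⟨((F.mapHomologicalComplex (ComplexShape.up ℤ)).commShiftIso (-1 : ℤ)).app (mappingCone φ) ≪≫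
      (CategoryTheory.shiftFunctor (CochainComplex B ℤ) (-1 : ℤ)).mapIso
        (mappingCone.mapHomologicalComplexIso φ F)⟩
  obtain ⟨θ⟩ : Nonempty (RF.obj L ≅ (Q : _ ⥤ DerivedCategory B).obj
      (mappingCocone ((F.mapHomologicalComplex (ComplexShape.up ℤ)).map φ))) :=
    ⟨RF.mapIso eL ≪≫ (asIso (β.app (mappingCocone φ))).symm ≪≫ Q.mapIso κ⟩
  obtain ⟨m₁, m₃, hT₃'⟩ : ∃ (m₁ : (Q : _ ⥤ DerivedCategory B).obj
      (mappingCocone ((F.mapHomologicalComplex (ComplexShape.up ℤ)).map φ)) ⟶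
        Q.obj ((F.mapHomologicalComplex (ComplexShape.up ℤ)).obj (prodCx I)))
      (m₃ : (Q : _ ⥤ DerivedCategory B).obj
        ((F.mapHomologicalComplex (ComplexShape.up ℤ)).obj (prodCx I)) ⟶
        ((Q : _ ⥤ DerivedCategory B).obj
          (mappingCocone ((F.mapHomologicalComplex (ComplexShape.up ℤ)).map φ)))⟦(1 : ℤ)⟧),
      Triangle.mk m₁ (Q.map ((F.mapHomologicalComplex (ComplexShape.up ℤ)).map φ)) m₃ ∈
        distTriang (DerivedCategory B) := ⟨_, _, hT₃⟩
  have hh : Pi.lift (fun n => Pi.π (fun n => RF.obj (K n)) n -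
        Pi.π (fun n => RF.obj (K n)) (n + 1) ≫ RF.map (t n)) ≫ eP'.inv =
      eP'.inv ≫ Q.map ((F.mapHomologicalComplex (ComplexShape.up ℤ)).map φ) := by
    rw [Iso.comp_inv_eq, Category.assoc, Iso.eq_inv_comp]
    exact hψ'.symm
  refine ⟨θ.hom ≫ m₁ ≫ eP'.hom, eP'.inv ≫ m₃ ≫ θ.inv⟦(1 : ℤ)⟧', ?_⟩
  refine isomorphic_distinguished _ hT₃' _ (Triangle.isoMk _ _ θ eP'.symm eP'.symm ?_ ?_ ?_)
  · exact (Category.assoc _ _ _).trans (congrArg (θ.hom ≫ ·) ((Category.assoc _ _ _).trans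
      ((congrArg (m₁ ≫ ·) eP'.hom_inv_id).trans (Category.comp_id _))))
  · exact hh
  · have h3 : (θ.inv⟦(1 : ℤ)⟧') ≫ (θ.hom⟦(1 : ℤ)⟧') = 𝟙 _ := by
      rw [← Functor.map_comp, Iso.inv_hom_id, CategoryTheory.Functor.map_id]
    exact (Category.assoc _ _ _).trans (congrArg (eP'.inv ≫ ·) ((Category.assoc _ _ _).trans
      ((congrArg (m₃ ≫ ·) h3).trans (Category.comp_id _))))


end Groth.Agent.Lib.H6xRlim
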