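import Mathlib
set_option backward.isDefEq.respectTransparency.types false

/-!
# Perfect composition pairings `Hom(P, M) × Hom(M, P) ⟶ End(P)` (helper6)

In a preadditive category, `PerfPair P M` says that every `End(P)`-linear map
`λ : Hom(P, M) ⟶ End(P)` (linear for precomposition) is of the form `s ↦ s ≫ φ` for a unique
`φ : M ⟶ P`.  Invariance under isomorphisms, fully faithful additive functors and morphisms
`M ⟶ M'` inducing bijections on `Hom(P, -)` and `Hom(-, P)`.
-/

set_option autoImplicit false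
set_option linter.style.haveILetI false
universe v v' u u'
open CategoryTheory CategoryTheory.Limits

namespace Groth.Agent.Lib.H6xSd

variable {C : Type u} [Category.{v} C] [Preadditive C]

/-- additive and linear for precomposition with endomorphisms of `P` -/
def IsLin {P M : C} (l : (P ⟶ M) → (P ⟶ P)) : Prop :=
  (∀ s s' : P ⟶ M, l (s + s') = l s + l s') ∧ ∀ (a : P ⟶ P) (s : P ⟶ M), l (a ≫ s) = a ≫ l s

/-- the composition pairing identifies `Hom(M, P)` with the `End(P)`-linear maps
`Hom(P, M) ⟶ End(P)` -/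
def PerfPair (P M : C) : Prop :=
  ∀ l : (P ⟶ M) → (P ⟶ P), IsLin l → ∃! φ : M ⟶ P, ∀ s : P ⟶ M, l s = s ≫ φ

lemma isLin_comp {P M : C} (φ : M ⟶ P) : IsLin (fun s : P ⟶ M => s ≫ φ) :=
  ⟨fun s s' => Preadditive.add_comp _ _ _ _ _ _, fun a s => Category.assoc _ _ _⟩

/-- transport along a morphism `α : M ⟶ M'` inducing bijections -/
lemma PerfPair.of_bijective {P M M' : C} (α : M ⟶ M')
    (h1 : Function.Bijective (fun φ : M' ⟶ P => α ≫ φ))
    (h2 : Function.Bijective (fun s : P ⟶ M => s ≫ α)) :
    PerfPair P M ↔ PerfPair P M' := by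
  constructor
  · intro h l hl
    -- l : Hom(P, M') → End P
    obtain ⟨φ, hφ, hu⟩ := h (fun s => l (s ≫ α))
      ⟨fun s s' => by
          change l ((s + s') ≫ α) = _
          rw [Preadditive.add_comp]; exact hl.1 _ _,
        fun a s => by
          change l ((a ≫ s) ≫ α) = _
          rw [Category.assoc]; exact hl.2 _ _⟩
    obtain ⟨φ', rfl⟩ := h1.2 φ
    refine ⟨φ', fun s' => ?_, fun ψ hψ => ?_⟩
    · obtain ⟨s, rfl⟩ := h2.2 s'
      have := hφ s
      simpa [Category.assoc] using this
    · apply h1.1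
      apply hu
      intro s
      change l (s ≫ α) = s ≫ α ≫ ψ
      rw [hψ, Category.assoc]
  · intro h l hl
    let e := Equiv.ofBijective _ h2
    obtain ⟨φ', hφ', hu⟩ := h (fun s' => l (e.symm s'))
      ⟨fun s s' => by
          obtain ⟨t, rfl⟩ := h2.2 s
          obtain ⟨t', rfl⟩ := h2.2 s'
          have h3 : e.symm (t ≫ α + t' ≫ α) = t + t' := by
            rw [Equiv.symm_apply_eq]
            change _ = (t + t') ≫ α
            rw [Preadditive.add_comp]
          have h4 : e.symm (t ≫ α) = t := by rw [Equiv.symm_apply_eq]; rfl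
          have h5 : e.symm (t' ≫ α) = t' := by rw [Equiv.symm_apply_eq]; rfl
          change l (e.symm (t ≫ α + t' ≫ α)) = l (e.symm (t ≫ α)) + l (e.symm (t' ≫ α))
          rw [h3, h4, h5]
          exact hl.1 _ _,
        fun a s => by
          obtain ⟨t, rfl⟩ := h2.2 s
          have h3 : e.symm (a ≫ t ≫ α) = a ≫ t := by
            rw [Equiv.symm_apply_eq]
            change _ = (a ≫ t) ≫ α
            rw [Category.assoc]
          have h4 : e.symm (t ≫ α) = t := by rw [Equiv.symm_apply_eq]; rfl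
          change l (e.symm (a ≫ t ≫ α)) = a ≫ l (e.symm (t ≫ α))
          rw [h3, h4]
          exact hl.2 _ _⟩
    refine ⟨α ≫ φ', fun s => ?_, fun ψ hψ => ?_⟩
    · have := hφ' (s ≫ α)
      have h4 : e.symm (s ≫ α) = s := by rw [Equiv.symm_apply_eq]; rfl
      change l (e.symm (s ≫ α)) = _ at this
      rw [h4] at this
      rw [this, Category.assoc]
    · obtain ⟨ψ', rfl⟩ := h1.2 ψ
      change α ≫ ψ' = α ≫ φ'
      congr 1
      apply hu
      intro s'
      obtain ⟨t, rfl⟩ := h2.2 s'
      have h4 : e.symm (t ≫ α) = t := by rw [Equiv.symm_apply_eq]; rfl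
      change l (e.symm (t ≫ α)) = _
      rw [h4, hψ]
      change t ≫ α ≫ ψ' = _
      rw [Category.assoc]

/-- invariance under isomorphisms of `M` -/
lemma PerfPair.of_iso {P M M' : C} (e : M ≅ M') (h : PerfPair P M) : PerfPair P M' := by
  refine (PerfPair.of_bijective e.hom ?_ ?_).1 h
  · exact ⟨fun a b hab => by simpa using hab, fun φ => ⟨e.inv ≫ φ, by simp⟩⟩
  · exact ⟨fun a b hab => by simpa using hab, fun φ => ⟨φ ≫ e.inv, by simp⟩⟩

/-- invariance under isomorphisms of `P` -/
lemma PerfPair.of_iso_left {P P' M : C} (e : P ≅ P') (h : PerfPair P M) : PerfPair P' M := by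
  intro l hl
  obtain ⟨φ, hφ, hu⟩ := h (fun s => e.hom ≫ l (e.inv ≫ s) ≫ e.inv)
    ⟨fun s s' => by
        change e.hom ≫ l (e.inv ≫ (s + s')) ≫ e.inv = _
        rw [Preadditive.comp_add, hl.1, Preadditive.add_comp, Preadditive.comp_add],
      fun a s => by
        change e.hom ≫ l (e.inv ≫ a ≫ s) ≫ e.inv = a ≫ e.hom ≫ l (e.inv ≫ s) ≫ e.inv
        have : e.inv ≫ a ≫ s = (e.inv ≫ a ≫ e.hom) ≫ (e.inv ≫ s) := by simp
        rw [this, hl.2]
        simp⟩
  refine ⟨φ ≫ e.hom, fun s => ?_, fun ψ hψ => ?_⟩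
  · have := hφ (e.hom ≫ s)
    change e.hom ≫ l (e.inv ≫ e.hom ≫ s) ≫ e.inv = _ at this
    rw [Iso.inv_hom_id_assoc] at this
    have h2 : l s = e.inv ≫ (e.hom ≫ l s ≫ e.inv) ≫ e.hom := by simp
    rw [h2, this]
    simp
  · have : ψ ≫ e.inv = φ := by
      apply hu
      intro s
      change e.hom ≫ l (e.inv ≫ s) ≫ e.inv = s ≫ ψ ≫ e.inv
      rw [hψ]
      simp
    rw [← this]
    simp

variable {D : Type u'} [Category.{v'} D] [Preadditive D]

/-- fully faithful additive functors preserve perfect pairings -/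
lemma PerfPair.map (F : C ⥤ D) [F.Additive] [F.Full] [F.Faithful] {P M : C}
    (h : PerfPair P M) : PerfPair (F.obj P) (F.obj M) := by
  intro l hl
  obtain ⟨φ, hφ, hu⟩ := h (fun s => F.preimage (l (F.map s)))
    ⟨fun s s' => by
        apply F.map_injective
        simp only [Functor.map_add, Functor.map_preimage]
        exact hl.1 _ _,
      fun a s => by
        apply F.map_injective
        simp only [Functor.map_comp, Functor.map_preimage]
        exact hl.2 _ _⟩
  refine ⟨F.map φ, fun s' => ?_, fun ψ hψ => ?_⟩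
  · obtain ⟨s, rfl⟩ := F.map_surjective s'
    have := congrArg F.map (hφ s)
    simp only [Functor.map_preimage, Functor.map_comp] at this
    exact this
  · obtain ⟨ψ', rfl⟩ := F.map_surjective ψ
    congr 1
    apply hu
    intro s
    apply F.map_injective
    simp only [Functor.map_preimage, Functor.map_comp]
    exact hψ _

end Groth.Agent.Lib.H6xSd
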