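import Mathlib
import Groth.Agent.Lib.H6xSdA
import Groth.Agent.Lib.H6xRpushTriA
set_option backward.isDefEq.respectTransparency.types false

/-!
# The composition pairing with `k[0]` in `D(k)` is perfect (helper6)

* `hom_eq_zero_of_injective`, `hom_eq_zero_of_projective`: vanishing of morphisms in the derived
  category to an injective / from a projective object placed in degree `0`.
* `perfPair_of_projective_injective`: reduction of `PerfPair (P[0]) V` to objects of the heart.
* `perfPair_field`: for a field `k` and any `V ∈ D(k)`, `PerfPair (k[0]) V`.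
-/

set_option autoImplicit false
set_option linter.style.haveILetI false
universe w v u
open CategoryTheory CategoryTheory.Limits Pretriangulated DerivedCategory

namespace Groth.Agent.Lib.H6xSd

section general

variable {A : Type u} [Category.{v} A] [Abelian A] [HasDerivedCategory.{w} A]

lemma exists_map_eq_of_isKProjective (K L : CochainComplex A ℤ) [K.IsKProjective]
    (a : DerivedCategory.Q.obj K ⟶ DerivedCategory.Q.obj L) :
    ∃ φ : K ⟶ L, DerivedCategory.Q.map φ = a := by
  obtain ⟨g, hg⟩ := (CochainComplex.IsKProjective.Qh_map_bijective K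
    ((HomotopyCategory.quotient _ _).obj L)).surjective
      ((DerivedCategory.quotientCompQhIso A).hom.app K ≫ a ≫
        (DerivedCategory.quotientCompQhIso A).inv.app L)
  obtain ⟨φ, rfl⟩ := (HomotopyCategory.quotient _ _).map_surjective g
  refine ⟨φ, ?_⟩
  have h := (DerivedCategory.quotientCompQhIso A).hom.naturality φ
  simp only [Functor.comp_map] at h
  rw [hg] at h
  simp only [Category.assoc, Iso.inv_hom_id_app, Category.comp_id] at h
  exact ((cancel_epi _).1 h).symm

/-- no morphisms from `D^{≥ 1}` to an injective object in degree `0` -/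
lemma hom_eq_zero_of_injective (I : A) [Injective I] (Z : DerivedCategory A) [Z.IsGE 1]
    (φ : Z ⟶ (DerivedCategory.singleFunctor A 0).obj I) : φ = 0 := by
  obtain ⟨C, hC, ⟨e⟩⟩ := exists_iso_Q_obj_of_isGE Z 1
  let L : CochainComplex A ℤ := (CochainComplex.singleFunctor A 0).obj I
  haveI : L.IsStrictlyGE 0 := inferInstanceAs (((CochainComplex.singleFunctor A 0).obj I).IsStrictlyGE 0)
  haveI : ∀ n : ℤ, Injective (L.X n) := by
    intro n
    by_cases hn : n = 0
    · subst hn
      exact Injective.of_iso (HomologicalComplex.singleObjXSelf (ComplexShape.up ℤ) 0 I).symm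
        inferInstance
    · haveI : IsZero (L.X n) := HomologicalComplex.isZero_single_obj_X _ _ _ _ hn
      exact Injective.of_iso (IsZero.iso (isZero_zero A) this) inferInstance
  haveI : L.IsKInjective := CochainComplex.isKInjective_of_injective L 0
  let e2 : (DerivedCategory.singleFunctor A 0).obj I ≅ DerivedCategory.Q.obj L :=
    (DerivedCategory.singleFunctorIsoCompQ A 0).app I
  obtain ⟨g, hg⟩ := Groth.Agent.Lib.H6xRpushTri.exists_map_eq_of_isKInjective C L
    (e.inv ≫ φ ≫ e2.hom)
  have hg0 : g = 0 := by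
    apply HomologicalComplex.hom_ext
    intro n
    by_cases hn : n = 0
    · subst hn
      exact (C.isZero_of_isStrictlyGE 1 0 (by omega)).eq_of_src _ _
    · exact (HomologicalComplex.isZero_single_obj_X (ComplexShape.up ℤ) 0 I n hn).eq_of_tgt _ _
  rw [hg0, Functor.map_zero] at hg
  have : e.inv ≫ φ ≫ e2.hom = 0 := hg.symm
  rw [← cancel_mono e2.hom, ← cancel_epi e.inv, this]
  simp

/-- no morphisms from a projective object in degree `0` to `D^{≤ -1}` -/
lemma hom_eq_zero_of_projective (P : A) [Projective P] (Z : DerivedCategory A) [Z.IsLE (-1)]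
    (φ : (DerivedCategory.singleFunctor A 0).obj P ⟶ Z) : φ = 0 := by
  obtain ⟨C, hC, ⟨e⟩⟩ := exists_iso_Q_obj_of_isLE Z (-1)
  let L : CochainComplex A ℤ := (CochainComplex.singleFunctor A 0).obj P
  haveI : L.IsStrictlyLE 0 := inferInstanceAs (((CochainComplex.singleFunctor A 0).obj P).IsStrictlyLE 0)
  haveI : ∀ n : ℤ, Projective (L.X n) := by
    intro n
    by_cases hn : n = 0
    · subst hn
      exact Projective.of_iso (HomologicalComplex.singleObjXSelf (ComplexShape.up ℤ) 0 P).symm
        inferInstance
    · haveI : IsZero (L.X n) := HomologicalComplex.isZero_single_obj_X _ _ _ _ hn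
      exact Projective.of_iso (IsZero.iso (isZero_zero A) this) inferInstance
  haveI : L.IsKProjective := CochainComplex.isKProjective_of_projective L 0
  let e2 : (DerivedCategory.singleFunctor A 0).obj P ≅ DerivedCategory.Q.obj L :=
    (DerivedCategory.singleFunctorIsoCompQ A 0).app P
  obtain ⟨g, hg⟩ := exists_map_eq_of_isKProjective L C (e2.inv ≫ φ ≫ e.hom)
  have hg0 : g = 0 := by
    apply HomologicalComplex.hom_ext
    intro n
    by_cases hn : n = 0
    · subst hn
      exact (C.isZero_of_isStrictlyLE (-1) 0 (by omega)).eq_of_tgt _ _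
    · exact (HomologicalComplex.isZero_single_obj_X (ComplexShape.up ℤ) 0 P n hn).eq_of_src _ _
  rw [hg0, Functor.map_zero] at hg
  have : e2.inv ≫ φ ≫ e.hom = 0 := hg.symm
  rw [← cancel_mono e.hom, ← cancel_epi e2.inv]
  simpa using this

open DerivedCategory.TStructure

variable (P : A) [Projective P] [Injective P]

omit [Projective P] [Injective P] in
lemma bijective_comp_truncLEι (V : DerivedCategory A) :
    Function.Bijective (fun s : (DerivedCategory.singleFunctor A 0).obj P ⟶ (t.truncLE 0).obj V =>
      s ≫ (t.truncLEι 0).app V) := by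
  constructor
  · intro s s' h
    exact t.to_truncLE_obj_ext h
  · intro s
    exact ⟨t.liftTruncLE s 0, t.liftTruncLE_ι s 0⟩

omit [Projective P] in
lemma bijective_truncLEι_comp (V : DerivedCategory A) :
    Function.Bijective (fun φ : V ⟶ (DerivedCategory.singleFunctor A 0).obj P =>
      (t.truncLEι 0).app V ≫ φ) := by
  have hT := t.triangleLEGT_distinguished 0 V
  haveI : ((t.truncGT 0).obj V).IsGE 1 := inferInstanceAs (t.IsGE ((t.truncGT 0).obj V) (0 + 1))
  constructor
  · intro φ φ' h
    have h0 : (t.truncLEι 0).app V ≫ (φ - φ') = 0 := by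
      rw [Preadditive.comp_sub]; exact sub_eq_zero.2 h
    obtain ⟨g, hg⟩ := Triangle.yoneda_exact₂ _ hT (φ - φ') h0
    have hg0 : g = 0 := hom_eq_zero_of_injective P ((t.truncGT 0).obj V) g
    rw [hg0, comp_zero] at hg
    exact sub_eq_zero.1 hg
  · intro ψ
    have hT' := inv_rot_of_distTriang _ hT
    haveI : ((t.truncGT 0).obj V)⟦(-1 : ℤ)⟧.IsGE 1 := by
      haveI : ((t.truncGT 0).obj V)⟦(-1 : ℤ)⟧.IsGE 2 := t.isGE_shift _ 1 (-1) 2 (by omega)
      exact t.isGE_of_ge _ 1 2 (by omega)
    obtain ⟨g, hg⟩ := Triangle.yoneda_exact₂ _ hT' ψ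
      (hom_eq_zero_of_injective P (((t.truncGT 0).obj V)⟦(-1 : ℤ)⟧) _)
    exact ⟨g, hg.symm⟩

omit [Projective P] [Injective P] in
lemma bijective_truncGEπ_comp (W : DerivedCategory A) :
    Function.Bijective (fun φ : (t.truncGE 0).obj W ⟶ (DerivedCategory.singleFunctor A 0).obj P =>
      (t.truncGEπ 0).app W ≫ φ) := by
  constructor
  · intro s s' h
    exact t.from_truncGE_obj_ext h
  · intro s
    exact ⟨t.descTruncGE s 0, t.π_descTruncGE s 0⟩

omit [Injective P] in
lemma bijective_comp_truncGEπ (W : DerivedCategory A) :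
    Function.Bijective (fun s : (DerivedCategory.singleFunctor A 0).obj P ⟶ W =>
      s ≫ (t.truncGEπ 0).app W) := by
  have hT := t.triangleLTGE_distinguished 0 W
  haveI : ((t.truncLT 0).obj W).IsLE (-1) := inferInstanceAs (t.IsLE ((t.truncLT 0).obj W) (0 - 1))
  constructor
  · intro s s' h
    have h0 : (s - s') ≫ (t.truncGEπ 0).app W = 0 := by
      rw [Preadditive.sub_comp]; exact sub_eq_zero.2 h
    obtain ⟨g, hg⟩ := Triangle.coyoneda_exact₂ _ hT (s - s') h0
    have hg0 : g = 0 := hom_eq_zero_of_projective P ((t.truncLT 0).obj W) g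
    rw [hg0, zero_comp] at hg
    exact sub_eq_zero.1 hg
  · intro s''
    haveI : ((t.truncLT 0).obj W)⟦(1 : ℤ)⟧.IsLE (-1) := by
      haveI : ((t.truncLT 0).obj W)⟦(1 : ℤ)⟧.IsLE (-2) := t.isLE_shift _ (-1) 1 (-2) (by omega)
      exact t.isLE_of_le _ (-2) (-1) (by omega)
    obtain ⟨g, hg⟩ := Triangle.coyoneda_exact₃ _ hT s''
      (hom_eq_zero_of_projective P (((t.truncLT 0).obj W)⟦(1 : ℤ)⟧) _)
    exact ⟨g, hg.symm⟩

/-- reduction of perfectness of the pairing to objects of the heart -/
theorem perfPair_of_heart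
    (hheart : ∀ Y : A, PerfPair ((DerivedCategory.singleFunctor A 0).obj P)
      ((DerivedCategory.singleFunctor A 0).obj Y)) (V : DerivedCategory A) :
    PerfPair ((DerivedCategory.singleFunctor A 0).obj P) V := by
  refine (PerfPair.of_bijective ((t.truncLEι 0).app V) (bijective_truncLEι_comp P V)
    (bijective_comp_truncLEι P V)).1 ?_
  refine (PerfPair.of_bijective ((t.truncGEπ 0).app ((t.truncLE 0).obj V))
    (bijective_truncGEπ_comp P _) (bijective_comp_truncGEπ P _)).2 ?_
  haveI : ((t.truncGE 0).obj ((t.truncLE 0).obj V)).IsGE 0 :=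
    inferInstanceAs (t.IsGE ((t.truncGE 0).obj ((t.truncLE 0).obj V)) 0)
  haveI : ((t.truncGE 0).obj ((t.truncLE 0).obj V)).IsLE 0 :=
    inferInstanceAs (t.IsLE ((t.truncGE 0).obj ((t.truncLE 0).obj V)) 0)
  obtain ⟨Y, ⟨e⟩⟩ := exists_iso_singleFunctor_obj_of_isGE_of_isLE
    ((t.truncGE 0).obj ((t.truncLE 0).obj V)) 0
  exact (hheart Y).of_iso e.symm

end general

section field

variable (k : Type u) [Field k]

/-- the morphism `k ⟶ H` with value `x` at `1` -/
noncomputable def sOf (H : ModuleCat.{u} k) (x : H) : ModuleCat.of k k ⟶ H :=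
  ModuleCat.ofHom (LinearMap.toSpanSingleton k H x)

lemma sOf_apply (H : ModuleCat.{u} k) (x : H) (a : k) : (sOf k H x).hom a = a • x := rfl

lemma eq_sOf (H : ModuleCat.{u} k) (s : ModuleCat.of k k ⟶ H) : s = sOf k H (s.hom (1 : k)) := by
  apply ModuleCat.hom_ext
  apply LinearMap.ext_ring
  rw [sOf_apply, one_smul]

/-- module level: `Hom_k(H, k) ≃ Hom_{End k}(Hom_k(k, H), End k)` -/
theorem perfPair_module (H : ModuleCat.{u} k) : PerfPair (ModuleCat.of k k) H := by
  intro l hl
  have hl0 : l 0 = 0 := by
    have := hl.1 0 0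
    rw [add_zero] at this
    exact left_eq_add.mp this
  let φ : H →ₗ[k] k :=
    { toFun := fun x => (l (sOf k H x)).hom (1 : k)
      map_add' := fun x y => by
        have h1 : sOf k H (x + y) = sOf k H x + sOf k H y := by
          apply ModuleCat.hom_ext
          apply LinearMap.ext_ring
          change (sOf k H (x + y)).hom 1 = (sOf k H x).hom 1 + (sOf k H y).hom 1
          rw [sOf_apply, sOf_apply, sOf_apply, one_smul, one_smul, one_smul]
        change (l (sOf k H (x + y))).hom 1 = (l (sOf k H x)).hom 1 + (l (sOf k H y)).hom 1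
        rw [h1, hl.1]
        rfl
      map_smul' := fun a x => by
        have h1 : sOf k H (a • x) = sOf k (ModuleCat.of k k) a ≫ sOf k H x := by
          apply ModuleCat.hom_ext
          apply LinearMap.ext_ring
          change (sOf k H (a • x)).hom 1 = (sOf k H x).hom ((sOf k (ModuleCat.of k k) a).hom 1)
          rw [sOf_apply, sOf_apply, sOf_apply, one_smul, one_smul]
        change (l (sOf k H (a • x))).hom 1 = a • (l (sOf k H x)).hom 1
        rw [h1, hl.2]
        change (l (sOf k H x)).hom ((sOf k (ModuleCat.of k k) a).hom 1) = _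
        rw [sOf_apply, one_smul]
        have : (a : k) = a • (1 : k) := by rw [smul_eq_mul, mul_one]
        conv_lhs => rw [this]
        exact (l (sOf k H x)).hom.map_smul a 1 }
  refine ⟨ModuleCat.ofHom φ, fun s => ?_, fun ψ hψ => ?_⟩
  · apply ModuleCat.hom_ext
    apply LinearMap.ext_ring
    change (l s).hom 1 = φ (s.hom 1)
    change _ = (l (sOf k H (s.hom 1))).hom 1
    rw [← eq_sOf]
  · apply ModuleCat.hom_ext
    apply LinearMap.ext
    intro x
    change ψ.hom x = (l (sOf k H x)).hom 1
    rw [hψ]
    change _ = ψ.hom ((sOf k H x).hom 1)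
    rw [sOf_apply, one_smul]

instance injective_self : Injective (ModuleCat.of k k) :=
  haveI : Module.Injective k k := Module.injective_of_isSemisimpleRing k k
  Module.injective_object_of_injective_module k k

instance projective_self' : Projective (ModuleCat.of k k) :=
  ModuleCat.projective_of_categoryTheory_projective _

variable [HasDerivedCategory.{w} (ModuleCat.{u} k)]

/-- the composition pairing with `k[0]` is perfect on all of `D(k)` -/
theorem perfPair_field (V : DerivedCategory (ModuleCat.{u} k)) :
    PerfPair ((DerivedCategory.singleFunctor (ModuleCat.{u} k) 0).obj (ModuleCat.of k k)) V :=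
  perfPair_of_heart (ModuleCat.of k k)
    (fun Y => (perfPair_module k Y).map (DerivedCategory.singleFunctor (ModuleCat.{u} k) 0)) V

end field

end Groth.Agent.Lib.H6xSd
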