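import Mathlib
import Groth.Prelude.Def_DCoh2
import Groth.Agent.Lib.H6xSdB
import Groth.Agent.Lib.H6xTildeE
import Groth.Agent.S9498
set_option backward.isDefEq.respectTransparency.types false

/-!
# The composition pairing with `O[0]` on `D_QCoh(Spec k)`, `k` a field, is perfect (helper6)
-/

set_option autoImplicit false
set_option linter.style.haveILetI false
universe u
open CategoryTheory CategoryTheory.Limits AlgebraicGeometry

attribute [local instance] HasDerivedCategory.standard

namespace Groth.Agent.Lib.H6xSd

variable (k : Type u) [Field k]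

theorem perfPair_spec_field (M : DCoh.D (Spec (CommRingCat.of k))) (hM : DCoh.IsQCohD M) :
    PerfPair (DCoh.inD (Spec (CommRingCat.of k))
      (Coh.structureModule (Spec (CommRingCat.of k)))) M := by
  haveI := (Groth.Agent.S9498.aux (CommRingCat.of k)).1
  haveI := (Groth.Agent.S9498.aux (CommRingCat.of k)).2
  have hadd : ∀ R : CommRingCat.{u}, (tilde.functor R).Additive := fun R => inferInstance
  haveI := hadd (CommRingCat.of k)
  obtain ⟨hfull, hfaith, hess⟩ := Groth.Agent.Lib.H6xTilde.main (CommRingCat.of k)
  obtain ⟨V, ⟨e⟩⟩ := (hess M).1 hM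
  haveI := hfull
  haveI := hfaith
  have h1 := (perfPair_field k V).map (DCoh.tildeD (CommRingCat.of k))
  have e0 : (DCoh.tildeD (CommRingCat.of k)).obj
      ((DerivedCategory.singleFunctor (ModuleCat.{u} k) 0).obj (ModuleCat.of k k)) ≅
      DCoh.inD (Spec (CommRingCat.of k)) (Coh.structureModule (Spec (CommRingCat.of k))) :=
    ((tilde.functor (CommRingCat.of k)).mapDerivedCategorySingleFunctor 0).app
      (ModuleCat.of k k) ≪≫
      (DerivedCategory.singleFunctor _ 0).mapIso (tildeSelf (R := CommRingCat.of k))
  exact (h1.of_iso e).of_iso_left e0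

end Groth.Agent.Lib.H6xSd
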