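/-
Additivity of the Euler characteristic of coherent sheaves along short exact sequences on proper schemes (S1524, S2420): alternating length sum along the long exact sequence, finiteness via Chow, vanishing via S0010.
-/
import Mathlib
import Groth.Prelude
import Groth.Agent.Lib.R2H2HHLin
import Groth.Agent.Lib.R2H2ProperFin
import Groth.Agent.S0010
import Groth.Agent.S0025

set_option autoImplicit false
set_option linter.style.haveILetI false
set_option linter.unusedSectionVars false
universe u v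

namespace Groth.Agent.Lib.R2H1.EulerAdd

section Part1

open CategoryTheory CategoryTheory.Limits AlgebraicGeometry TopologicalSpace Opposite

section Algebra

variable {A : Type*} [Ring A]

/-- integer-valued length of a module -/
noncomputable def len (A : Type*) [Ring A] (M : Type*) [AddCommGroup M] [Module A M] : ℤ :=
  ((Module.length A M).toNat : ℤ)

theorem len_of_subsingleton {M : Type*} [AddCommGroup M] [Module A M] [Subsingleton M] :
    len A M = 0 := by
  unfold len
  rw [Module.length_eq_zero]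
  rfl

theorem len_eq_ker_add_range {M M' : Type*} [AddCommGroup M] [Module A M] [AddCommGroup M']
    [Module A M'] (hM : IsFiniteLength A M) (φ : M →ₗ[A] M') :
    len A M = len A (LinearMap.ker φ) + len A (LinearMap.range φ) := by
  have hex : Function.Exact (LinearMap.ker φ).subtype φ.rangeRestrict := by
    rw [LinearMap.exact_iff, LinearMap.ker_rangeRestrict, Submodule.range_subtype]
  have h := Module.length_eq_add_of_exact (LinearMap.ker φ).subtype φ.rangeRestrict
    (Submodule.injective_subtype _) (LinearMap.surjective_rangeRestrict φ) hex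
  have htop : Module.length A M ≠ ⊤ := Module.length_ne_top_iff.2 hM
  have h1 : Module.length A (LinearMap.ker φ) ≠ ⊤ := by
    intro h'
    rw [h', top_add] at h
    exact htop h
  have h2 : Module.length A (LinearMap.range φ) ≠ ⊤ := by
    intro h'
    rw [h', add_top] at h
    exact htop h
  unfold len
  rw [h, ENat.toNat_add h1 h2]
  push_cast
  rfl

/-- additivity of the alternating sum of lengths along a long exact sequence -/
theorem alt_sum_len
    {H1 H2 H3 : ℕ → Type*} [∀ i, AddCommGroup (H1 i)] [∀ i, Module A (H1 i)]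
    [∀ i, AddCommGroup (H2 i)] [∀ i, Module A (H2 i)]
    [∀ i, AddCommGroup (H3 i)] [∀ i, Module A (H3 i)]
    (f : ∀ i, H1 i →ₗ[A] H2 i) (g : ∀ i, H2 i →ₗ[A] H3 i) (d : ∀ i, H3 i →ₗ[A] H1 (i + 1))
    (hf0 : Function.Injective (f 0))
    (hfg : ∀ i, Function.Exact (f i) (g i)) (hgd : ∀ i, Function.Exact (g i) (d i))
    (hdf : ∀ i, Function.Exact (d i) (f (i + 1)))
    (h1 : ∀ i, IsFiniteLength A (H1 i)) (h2 : ∀ i, IsFiniteLength A (H2 i))
    (h3 : ∀ i, IsFiniteLength A (H3 i))
    (N : ℕ) (hN : Subsingleton (H1 (N + 1))) :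
    (∑ i ∈ Finset.range (N + 1), (-1 : ℤ) ^ i * len A (H2 i)) =
      (∑ i ∈ Finset.range (N + 1), (-1 : ℤ) ^ i * len A (H1 i)) +
      (∑ i ∈ Finset.range (N + 1), (-1 : ℤ) ^ i * len A (H3 i)) := by
  let r : ℕ → ℤ := fun i => len A (LinearMap.range (f i))
  let s : ℕ → ℤ := fun i => len A (LinearMap.range (g i))
  let t : ℕ → ℤ := fun i => len A (LinearMap.range (d i))
  have e2 : ∀ i, len A (H2 i) = r i + s i := fun i => by
    rw [len_eq_ker_add_range (h2 i) (g i), LinearMap.exact_iff.1 (hfg i)]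
  have e3 : ∀ i, len A (H3 i) = s i + t i := fun i => by
    rw [len_eq_ker_add_range (h3 i) (d i), LinearMap.exact_iff.1 (hgd i)]
  have e1 : ∀ i, len A (H1 (i + 1)) = t i + r (i + 1) := fun i => by
    rw [len_eq_ker_add_range (h1 (i + 1)) (f (i + 1)), LinearMap.exact_iff.1 (hdf i)]
  have e0 : len A (H1 0) = r 0 := by
    rw [len_eq_ker_add_range (h1 0) (f 0)]
    haveI : Subsingleton (LinearMap.ker (f 0)) := by
      rw [LinearMap.ker_eq_bot.2 hf0]
      infer_instance
    rw [len_of_subsingleton, zero_add]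
  have htN : t N = 0 := by
    haveI : Subsingleton (LinearMap.range (d N)) :=
      ⟨fun a b => Subtype.ext (Subsingleton.elim _ _)⟩
    exact len_of_subsingleton
  have key : ∀ n, (∑ i ∈ Finset.range (n + 1),
      (-1 : ℤ) ^ i * (len A (H1 i) - len A (H2 i) + len A (H3 i))) = (-1) ^ n * t n := by
    intro n
    induction n with
    | zero =>
      simp only [zero_add, Finset.sum_range_one]
      rw [e0, e2, e3]
      ring
    | succ n ih =>
      rw [Finset.sum_range_succ, ih, e1, e2, e3]
      ring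
  have hk := key N
  rw [htN, mul_zero] at hk
  have hsum : (∑ i ∈ Finset.range (N + 1),
      (-1 : ℤ) ^ i * (len A (H1 i) - len A (H2 i) + len A (H3 i))) =
      (∑ i ∈ Finset.range (N + 1), (-1 : ℤ) ^ i * len A (H1 i)) -
      (∑ i ∈ Finset.range (N + 1), (-1 : ℤ) ^ i * len A (H2 i)) +
      (∑ i ∈ Finset.range (N + 1), (-1 : ℤ) ^ i * len A (H3 i)) := by
    simp only [mul_add, mul_sub, Finset.sum_add_distrib, Finset.sum_sub_distrib]
  rw [hsum] at hk
  linarith

end Algebra

section ExtGen

universe w v' u'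

variable {C : Type u'} [Category.{v'} C] [Abelian C] [HasExt.{w} C]

theorem comp_g_extClass {T : ShortComplex C} (hT : T.ShortExact) {W : C} {i : ℕ}
    (x : Abelian.Ext W T.X₂ i) :
    (x.comp (Abelian.Ext.mk₀ T.g) (add_zero i)).comp hT.extClass rfl = 0 := by
  rw [Abelian.Ext.comp_assoc_of_second_deg_zero, hT.comp_extClass, Abelian.Ext.comp_zero]

theorem extClass_comp_f {T : ShortComplex C} (hT : T.ShortExact) {W : C} {i : ℕ}
    (x : Abelian.Ext W T.X₃ i) :
    (x.comp hT.extClass rfl).comp (Abelian.Ext.mk₀ T.f) (add_zero (i + 1)) = 0 := by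
  rw [Abelian.Ext.comp_assoc_of_third_deg_zero, hT.extClass_comp, Abelian.Ext.comp_zero]

end ExtGen

section Cohom

open Groth.Agent.Lib.R2H2.HHLin Groth.Agent.Lib.Helper23.QCohLocal

variable {X : Scheme.{u}} (A : Type u) [CommRing A] [X.Over (Spec (CommRingCat.of A))]
  (S : ShortComplex X.Modules) (hS : S.ShortExact)

include hS in
theorem exact_fg (i : ℕ) : Function.Exact (HmapA A S.f i) (HmapA A S.g i) := by
  intro y
  constructor
  · intro hy
    obtain ⟨x, hx⟩ := exact₂ S hS i y hy
    exact ⟨x, hx⟩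
  · rintro ⟨x, rfl⟩
    show HmapL S.g i (HmapL S.f i x) = 0
    rw [← HmapL_comp, S.zero, HmapL_zero]

theorem exact_gd (i : ℕ) : Function.Exact (HmapA A S.g i) (deltaA A S hS i) := by
  intro y
  constructor
  · intro hy
    obtain ⟨x, hx⟩ := exact₃ S hS i y hy
    exact ⟨x, hx⟩
  · rintro ⟨x, rfl⟩
    exact comp_g_extClass (shortExact_toAbF S hS) x

theorem exact_df (i : ℕ) : Function.Exact (deltaA A S hS i) (HmapA A S.f (i + 1)) := by
  intro y
  constructor
  · intro hy
    obtain ⟨x, hx⟩ := exact₁ S hS i y hy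
    exact ⟨x, hx⟩
  · rintro ⟨x, rfl⟩
    exact extClass_comp_f (shortExact_toAbF S hS) x

include hS in
theorem injective_f_zero : Function.Injective (HmapA A S.f 0) := by
  intro a b hab
  have h : Abelian.Ext.addEquiv₀ (Sheaf.H.map (abMap S.f) 0 a) =
      Abelian.Ext.addEquiv₀ (Sheaf.H.map (abMap S.f) 0 b) := congrArg _ hab
  rw [Sheaf.H.addEquiv₀_map, Sheaf.H.addEquiv₀_map] at h
  haveI : Mono (abMap S.f) := (shortExact_toAbF S hS).mono_f
  exact Abelian.Ext.addEquiv₀.injective ((cancel_mono _).1 h)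

/-- cohomology of quasi-coherent modules vanishes in large degrees on a quasi-compact scheme
separated over an affine base -/
theorem exists_vanishing_bound (X : Scheme.{u}) {T : Scheme.{u}} (p : X ⟶ T) [IsSeparated p]
    [IsAffine T] [CompactSpace X] :
    ∃ N : ℕ, ∀ (M : X.Modules), Coh.IsQCoh M → ∀ n, N ≤ n → Subsingleton (Coh.HH X M n) := by
  haveI := Groth.Agent.Lib.R2H2.ProperFin.isAffineHom_diagonal_of_isSeparated p
  obtain ⟨ι, hfin, V, hcov, hV, -⟩ :=
    Groth.Agent.Lib.R2H2.ProperFin.exists_affine_cover_of_isSeparated p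
  obtain ⟨t, ⟨e⟩⟩ := Finite.exists_equiv_fin ι
  refine ⟨t, fun M hM n hn => ?_⟩
  haveI : Coh.IsQCoh M := hM
  refine Groth.Agent.S0010.result X t (fun i => V (e.symm i)) (fun i => hV _) ?_
    (fun V W hV hW => hV.inf hW) M n hn
  rw [eq_top_iff, ← hcov]
  exact iSup_le fun i => le_iSup_of_le (e i) (by rw [Equiv.symm_apply_apply])

end Cohom

section Main

open Groth.Agent.Lib.R2H2.HHLin

/-- finiteness of coherent cohomology on a proper scheme over a Noetherian ring -/
theorem finite_HH (A : Type u) [CommRing A] [IsNoetherianRing A] (X : Scheme.{u})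
    [X.Over (Spec (CommRingCat.of A))] [IsProper (X ↘ Spec (CommRingCat.of A))]
    (M : X.Modules) (hM : Coh.IsCoh M) (n : ℕ) : Module.Finite A (Coh.HH X M n) :=
  Groth.Agent.Lib.R2H2.ProperFin.finite_HH_of_chow A X (@Groth.Agent.S0025.result) M hM n

theorem isFiniteLength_of_finite (A : Type*) [CommRing A] [IsArtinianRing A] (M : Type*)
    [AddCommGroup M] [Module A M] [Module.Finite A M] : IsFiniteLength A M := by
  haveI : IsNoetherian A M := isNoetherian_of_isNoetherianRing_of_finite A M
  haveI : IsArtinian A M := inferInstance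
  exact Module.length_ne_top_iff.1 Module.length_ne_top

theorem s2420 (A : Type u) [CommRing A] [IsArtinianRing A]
    (X : Scheme.{u}) [X.Over (Spec (CommRingCat.of A))] [IsProper (X ↘ Spec (CommRingCat.of A))]
    (S : ShortComplex X.Modules) (hS : S.ShortExact) (h1 : Coh.IsCoh S.X₁) (h2 : Coh.IsCoh S.X₂)
    (h3 : Coh.IsCoh S.X₃) (N : ℕ)
    (hN : ∀ i : ℕ, N < i → Subsingleton (Coh.HH X S.X₁ i) ∧ Subsingleton (Coh.HH X S.X₂ i) ∧
      Subsingleton (Coh.HH X S.X₃ i)) :
    ((Finset.range (N + 1)).sum fun i => (-1 : ℤ) ^ i * ((Module.length A (Coh.HH X S.X₂ i)).toNat : ℤ)) =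
      ((Finset.range (N + 1)).sum fun i => (-1 : ℤ) ^ i * ((Module.length A (Coh.HH X S.X₁ i)).toNat : ℤ)) +
      ((Finset.range (N + 1)).sum fun i => (-1 : ℤ) ^ i * ((Module.length A (Coh.HH X S.X₃ i)).toNat : ℤ)) := by
  have hf : ∀ (M : X.Modules), Coh.IsCoh M → ∀ i, IsFiniteLength A (Coh.HH X M i) := fun M hM i => by
    haveI := finite_HH A X M hM i
    exact isFiniteLength_of_finite A _
  exact alt_sum_len (A := A) (H1 := fun i => Coh.HH X S.X₁ i) (H2 := fun i => Coh.HH X S.X₂ i)
    (H3 := fun i => Coh.HH X S.X₃ i)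
    (fun i => HmapA A S.f i) (fun i => HmapA A S.g i) (fun i => deltaA A S hS i)
    (injective_f_zero A S hS) (exact_fg A S hS) (exact_gd A S hS) (exact_df A S hS)
    (hf _ h1) (hf _ h2) (hf _ h3) N (hN (N + 1) (Nat.lt_succ_self N)).1

theorem s1524 (k : Type u) [Field k] (X : Scheme.{u}) [X.Over (Spec (CommRingCat.of k))]
    [IsProper (X ↘ (Spec (CommRingCat.of k)))]
    (S : ShortComplex X.Modules) (hS : S.ShortExact)
    (h₁ : Coh.IsCoh S.X₁) (h₂ : Coh.IsCoh S.X₂) (h₃ : Coh.IsCoh S.X₃) :
    Curv2.euler k X S.X₂ = Curv2.euler k X S.X₁ + Curv2.euler k X S.X₃ := by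
  haveI : CompactSpace X :=
    QuasiCompact.compactSpace_of_compactSpace (X ↘ Spec (CommRingCat.of k))
  obtain ⟨N, hN⟩ := exists_vanishing_bound X (X ↘ Spec (CommRingCat.of k))
  -- Euler characteristic as a finite sum of lengths
  have heul : ∀ (M : X.Modules), Coh.IsCoh M → Curv2.euler k X M =
      ∑ i ∈ Finset.range (N + 1), (-1 : ℤ) ^ i * len k (Coh.HH X M i) := by
    intro M hM
    unfold Curv2.euler
    rw [finsum_eq_sum_of_support_subset (s := Finset.range (N + 1))]
    · refine Finset.sum_congr rfl fun i _ => ?_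
      haveI := finite_HH k X M hM i
      unfold len
      rw [Module.length_eq_finrank, ENat.toNat_coe]
    · intro i hi
      by_contra hni
      rw [Finset.coe_range, Set.mem_Iio, not_lt] at hni
      haveI := hN M hM.1 i (by omega)
      apply hi
      show (-1 : ℤ) ^ i * (Module.finrank k (Coh.HH X M i) : ℤ) = 0
      rw [Module.finrank_zero_of_subsingleton]
      simp
  have hf : ∀ (M : X.Modules), Coh.IsCoh M → ∀ i, IsFiniteLength k (Coh.HH X M i) := fun M hM i => by
    haveI := finite_HH k X M hM i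
    exact isFiniteLength_of_finite k _
  rw [heul _ h₁, heul _ h₂, heul _ h₃]
  exact alt_sum_len (A := k) (H1 := fun i => Coh.HH X S.X₁ i) (H2 := fun i => Coh.HH X S.X₂ i)
    (H3 := fun i => Coh.HH X S.X₃ i)
    (fun i => HmapA k S.f i) (fun i => HmapA k S.g i) (fun i => deltaA k S hS i)
    (injective_f_zero k S hS) (exact_fg k S hS) (exact_gd k S hS) (exact_df k S hS)
    (hf _ h₁) (hf _ h₂) (hf _ h₃) N (hN _ h₁.1 (N + 1) (Nat.le_succ N))

end Main

end Part1

end Groth.Agent.Lib.R2H1.EulerAdd
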