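/-
Nonzero morphisms between invertible modules on an integral scheme: injective on sections (mono), local data (generators and multiplier function), cokernel has vanishing stalks on a nonempty open.
-/
import Mathlib
import Groth.Prelude
import Groth.Agent.S14808
import Groth.Agent.S5084
import Groth.Agent.Lib.Helper20WeakAss
import Groth.Agent.Lib.Helper23SectCmpLib

set_option autoImplicit false
set_option linter.style.haveILetI false
set_option linter.unusedSectionVars false
universe u v

namespace Groth.Agent.Lib.R2H1.InvHom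

section Part1

open CategoryTheory CategoryTheory.Limits AlgebraicGeometry TopologicalSpace Opposite
open Groth.Agent.S14808

variable {X : Scheme.{u}}

/-- restriction of sections of a module -/
noncomputable abbrev res (M : X.Modules) {V W : X.Opens} (h : W ≤ V) (m : Γ(M, V)) : Γ(M, W) :=
  M.presheaf.map (homOfLE h).op m

theorem res_res (M : X.Modules) {V W W' : X.Opens} (h : W ≤ V) (h' : W' ≤ W) (m : Γ(M, V)) :
    res M h' (res M h m) = res M (h'.trans h) m := by
  unfold res
  rw [← ConcreteCategory.comp_apply, ← Functor.map_comp]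
  rfl

theorem app_res {N L : X.Modules} (φ : N ⟶ L) {V W : X.Opens} (h : W ≤ V) (n : Γ(N, V)) :
    φ.app W (res N h n) = res L h (φ.app V n) :=
  app_map φ (homOfLE h) n

theorem res_smul (M : X.Modules) {V W : X.Opens} (h : W ≤ V) (r : Γ(X, V)) (m : Γ(M, V)) :
    res M h (r • m) = X.presheaf.map (homOfLE h).op r • res M h m :=
  Scheme.Modules.map_smul M (homOfLE h) r m

/-- a morphism into an invertible module on an integral scheme which vanishes on all small opens
inside a nonempty open vanishes. -/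
theorem eq_zero_of_local [IsIntegral X] {N L : X.Modules} (hL : PicF.IsInvertible L) (φ : N ⟶ L)
    (W : X.Opens) (hW : (W : Set X).Nonempty)
    (hzero : ∀ (W' : X.Opens), W' ≤ W → ∀ n : Γ(N, W'), φ.app W' n = 0) : φ = 0 := by
  refine Scheme.Modules.hom_ext _ _ fun V => ?_
  ext n
  change φ.app V n = 0
  by_cases hV : (V : Set X).Nonempty
  · have hne := inter_nonempty V W hV hW
    refine eq_zero_of_res_eq_zero L hL (homOfLE (inf_le_left : V ⊓ W ≤ V)) hne _ ?_
    have := app_res φ (inf_le_left : V ⊓ W ≤ V) n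
    unfold res at this
    rw [← this]
    exact hzero _ inf_le_right _
  · refine L.isSheaf.section_ext (U := op V) fun x hx => ?_
    exact absurd ⟨x, hx⟩ hV

theorem res_self (M : X.Modules) {V : X.Opens} (m : Γ(M, V)) : res M le_rfl m = m := by
  simp only [res]
  rw [show (homOfLE (le_refl V)).op = 𝟙 _ from rfl, CategoryTheory.Functor.map_id]
  rfl

/-- local data for a morphism of invertible modules: generators of both near `x` and the function
by which the morphism multiplies. -/
theorem exists_local_data {N L : X.Modules} (hN : PicF.IsInvertible N)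
    (hL : PicF.IsInvertible L) (φ : N ⟶ L) (x : X) :
    ∃ (W : X.Opens) (gN : Γ(N, W)) (gL : Γ(L, W)) (f : Γ(X, W)), x ∈ W ∧
      (∀ (W' : X.Opens) (h : W' ≤ W),
        Function.Bijective (fun r : Γ(X, W') => r • res N h gN)) ∧
      (∀ (W' : X.Opens) (h : W' ≤ W),
        Function.Bijective (fun r : Γ(X, W') => r • res L h gL)) ∧
      φ.app W gN = f • gL := by
  obtain ⟨W₁, t₁, hx₁, -, hb₁⟩ := Groth.Agent.Lib.Helper20.WeakAss.exists_local_generator' N hN x
  obtain ⟨W₂, t₂, hx₂, -, hb₂⟩ := Groth.Agent.Lib.Helper20.WeakAss.exists_local_generator' L hL x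
  have hbN : ∀ (W' : X.Opens) (h : W' ≤ W₁ ⊓ W₂),
      Function.Bijective (fun r : Γ(X, W') => r • res N h (res N inf_le_left t₁)) := by
    intro W' h
    have := hb₁ W' (h.trans inf_le_left)
    simp only [res_res]
    exact this
  have hbL : ∀ (W' : X.Opens) (h : W' ≤ W₁ ⊓ W₂),
      Function.Bijective (fun r : Γ(X, W') => r • res L h (res L inf_le_right t₂)) := by
    intro W' h
    have := hb₂ W' (h.trans inf_le_right)
    simp only [res_res]
    exact this
  obtain ⟨f, hf⟩ := (hbL (W₁ ⊓ W₂) le_rfl).2 (φ.app (W₁ ⊓ W₂) (res N inf_le_left t₁))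
  refine ⟨W₁ ⊓ W₂, res N inf_le_left t₁, res L inf_le_right t₂, f, ⟨hx₁, hx₂⟩, hbN, hbL, ?_⟩
  rw [← hf]
  simp only []
  rw [res_self]

/-- a nonzero morphism between invertible modules on an integral scheme is injective on sections. -/
theorem app_eq_zero_imp [IsIntegral X] {N L : X.Modules} (hN : PicF.IsInvertible N)
    (hL : PicF.IsInvertible L) (φ : N ⟶ L) (hφ : φ ≠ 0) (V : X.Opens) (m : Γ(N, V))
    (hm : φ.app V m = 0) : m = 0 := by
  refine N.isSheaf.section_ext (U := op V) fun x hx => ?_
  obtain ⟨W, gN, gL, f, hxW, hbN, hbL, hf⟩ := exists_local_data hN hL φ x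
  have hle : W ⊓ V ≤ W := inf_le_left
  refine ⟨W ⊓ V, inf_le_right, ⟨hxW, hx⟩, ?_⟩
  obtain ⟨a, ha⟩ := (hbN (W ⊓ V) hle).2 (res N inf_le_right m)
  simp only [] at ha
  haveI : Nonempty ↥((W ⊓ V : X.Opens) : Scheme.{u}) := ⟨⟨x, ⟨hxW, hx⟩⟩⟩
  haveI : IsDomain Γ(X, W ⊓ V) := IsIntegral.component_integral (W ⊓ V)
  -- the function by which φ multiplies on W ⊓ V
  set f' : Γ(X, W ⊓ V) := X.presheaf.map (homOfLE hle).op f with hf'
  have h1 : φ.app (W ⊓ V) (res N hle gN) = f' • res L hle gL := by
    rw [app_res, hf, res_smul]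
  have h2 : (a * f') • res L hle gL = (0 : Γ(X, W ⊓ V)) • res L hle gL := by
    rw [zero_smul, mul_smul, ← h1, ← Scheme.Modules.Hom.app_smul, ha, app_res, hm]
    exact map_zero _
  have h3 : a * f' = 0 := (hbL (W ⊓ V) hle).1 h2
  rcases mul_eq_zero.mp h3 with h0 | h0
  · change res N inf_le_right m = res N inf_le_right 0
    rw [← ha, h0, zero_smul]
    exact (map_zero _).symm
  · exfalso
    apply hφ
    refine eq_zero_of_local hL φ (W ⊓ V) ⟨x, ⟨hxW, hx⟩⟩ fun W' hW' n => ?_
    obtain ⟨b, hb⟩ := (hbN W' (hW'.trans hle)).2 n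
    simp only [] at hb
    rw [← hb, Scheme.Modules.Hom.app_smul]
    have h4 : res N (hW'.trans hle) gN = res N hW' (res N hle gN) := (res_res N hle hW' gN).symm
    rw [h4, app_res, h1, h0, zero_smul]
    have : res L hW' (0 : Γ(L, W ⊓ V)) = 0 := map_zero _
    rw [this, smul_zero]

theorem mono_of_ne_zero [IsIntegral X] {N L : X.Modules} (hN : PicF.IsInvertible N)
    (hL : PicF.IsInvertible L) (φ : N ⟶ L) (hφ : φ ≠ 0) : Mono φ := by
  refine Groth.Agent.S5084.mono_of_injective_app φ fun V a b hab => ?_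
  have : φ.app V (a - b) = 0 := by
    rw [map_sub, hab, sub_self]
  exact sub_eq_zero.mp (app_eq_zero_imp hN hL φ hφ V _ this)

theorem isUnit_res_of_le_basicOpen {W W' : X.Opens} (f : Γ(X, W)) (h : W' ≤ W)
    (hD : W' ≤ X.basicOpen f) : IsUnit (X.presheaf.map (homOfLE h).op f) := by
  have h1 := X.toRingedSpace.isUnit_res_basicOpen f
  have h2 := h1.map (X.presheaf.map (homOfLE hD).op).hom
  have h3 : (X.presheaf.map (homOfLE hD).op).hom
      ((X.presheaf.map (homOfLE (X.basicOpen_le f)).op).hom f) =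
      (X.presheaf.map (homOfLE h).op).hom f := by
    rw [← CommRingCat.comp_apply, ← CategoryTheory.Functor.map_comp]
    rfl
  rw [← h3]
  exact h2

/-- the cokernel of a nonzero morphism of invertible modules on an integral scheme has vanishing
stalks on a nonempty open. -/
theorem exists_open_stalk_cokernel [IsIntegral X] {N L : X.Modules} (hN : PicF.IsInvertible N)
    (hL : PicF.IsInvertible L) (φ : N ⟶ L) (hφ : φ ≠ 0) :
    ∃ D : X.Opens, (D : Set X).Nonempty ∧
      ∀ x ∈ D, Subsingleton ((cokernel φ).presheaf.stalk x) := by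
  obtain ⟨x₀⟩ := (inferInstance : Nonempty X)
  obtain ⟨W, gN, gL, f, hxW, hbN, hbL, hf⟩ := exists_local_data hN hL φ x₀
  have hf0 : f ≠ 0 := by
    rintro rfl
    apply hφ
    refine eq_zero_of_local hL φ W ⟨x₀, hxW⟩ fun W' hW' n => ?_
    obtain ⟨b, hb⟩ := (hbN W' hW').2 n
    simp only [] at hb
    rw [← hb, Scheme.Modules.Hom.app_smul, app_res, hf, zero_smul]
    have : res L hW' (0 : Γ(L, W)) = 0 := map_zero _
    rw [this, smul_zero]
  have hDW : X.basicOpen f ≤ W := X.basicOpen_le f
  refine ⟨X.basicOpen f, ?_, fun x hx => ?_⟩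
  · by_contra hne
    have : X.basicOpen f = ⊥ := by
      rw [← Opens.not_nonempty_iff_eq_bot]
      exact hne
    exact hf0 ((basicOpen_eq_bot_iff f).mp this)
  · refine subsingleton_of_forall_eq 0 fun z => ?_
    obtain ⟨V, hxV, q, rfl⟩ := (cokernel φ).presheaf.exists_germ_eq z
    obtain ⟨W', hW'V, hxW', l, hl⟩ :=
      Groth.Agent.Lib.Helper23.SectCmpLib.exists_local_lift (cokernel.π φ) V q x hxV
    -- shrink into the basic open
    have hle : W' ⊓ X.basicOpen f ≤ W' := inf_le_left
    have hleD : W' ⊓ X.basicOpen f ≤ X.basicOpen f := inf_le_right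
    have hleW : W' ⊓ X.basicOpen f ≤ W := hleD.trans hDW
    obtain ⟨c, hc⟩ := (hbL _ hleW).2 (res L hle l)
    simp only [] at hc
    obtain ⟨u, hu⟩ := (isUnit_res_of_le_basicOpen f hleW hleD).exists_left_inv
    have h1 : φ.app _ (res N hleW gN) = X.presheaf.map (homOfLE hleW).op f • res L hleW gL := by
      rw [app_res, hf, res_smul]
    have h2 : res L hle l = φ.app _ ((c * u) • res N hleW gN) := by
      rw [Scheme.Modules.Hom.app_smul, h1, ← mul_smul, mul_assoc, hu, mul_one, hc]
    have h3 : (cokernel.π φ).app _ (res L hle l) = 0 := by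
      rw [h2]
      have h4 : (φ ≫ cokernel.π φ).app (W' ⊓ X.basicOpen f) ((c * u) • res N hleW gN) = 0 := by
        rw [cokernel.condition]
        rfl
      exact h4
    rw [app_res, hl, res_res] at h3
    have h5 := TopCat.Presheaf.germ_res_apply (cokernel φ).presheaf
      (homOfLE (hle.trans hW'V)) x ⟨hxW', hx⟩ q
    rw [← h5]
    change (cokernel φ).presheaf.germ _ x _ (res (cokernel φ) (hle.trans hW'V) q) = 0
    rw [h3, map_zero]

end Part1

end Groth.Agent.Lib.R2H1.InvHom
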