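/-
Sheaves supported on a closed set of dimension 0 in a Noetherian space are flasque; vanishing of higher cohomology of coherent modules with 0-dimensional support (S1526).
-/
import Mathlib
import Groth.Prelude
import Groth.Agent.S0020
import Groth.Agent.Lib.Helper16Flasque

set_option autoImplicit false
set_option linter.style.haveILetI false
set_option linter.unusedSectionVars false
universe u v

namespace Groth.Agent.Lib.R2H1.ZeroDimCoh

section Part1

open CategoryTheory CategoryTheory.Limits AlgebraicGeometry TopologicalSpace Opposite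

section Top

/-- In a T0 space of Krull dimension `≤ 0`, points are closed. -/
theorem isClosed_singleton_of_dim_le_zero {Z : Type*} [TopologicalSpace Z] [T0Space Z]
    (h : topologicalKrullDim Z ≤ 0) (z : Z) : IsClosed ({z} : Set Z) := by
  have hmin := Order.krullDim_nonpos_iff_forall_isMin.mp h
  let T : IrreducibleCloseds Z := ⟨closure {z}, isIrreducible_singleton.closure, isClosed_closure⟩
  have : closure ({z} : Set Z) = {z} := by
    apply Set.Subset.antisymm _ subset_closure
    intro y hy
    let T' : IrreducibleCloseds Z :=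
      ⟨closure {y}, isIrreducible_singleton.closure, isClosed_closure⟩
    have hle : T' ≤ T := by
      show closure {y} ⊆ closure {z}
      exact closure_minimal (Set.singleton_subset_iff.mpr hy) isClosed_closure
    have hle' : T ≤ T' := hmin T hle
    have hz : z ∈ closure ({y} : Set Z) := hle' (subset_closure (Set.mem_singleton z))
    have h1 : y ⤳ z := specializes_iff_mem_closure.mpr hz
    have h2 : z ⤳ y := specializes_iff_mem_closure.mpr hy
    exact Set.mem_singleton_iff.mpr (h1.antisymm h2).eq
  rw [← this]
  exact isClosed_closure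

theorem finite_of_dim_le_zero {Z : Type*} [TopologicalSpace Z] [T0Space Z] [NoetherianSpace Z]
    (h : topologicalKrullDim Z ≤ 0) : Finite Z := by
  have hmax := Order.krullDim_nonpos_iff_forall_isMax.mp h
  have hfin : (irreducibleComponents Z).Finite := NoetherianSpace.finite_irreducibleComponents
  haveI := hfin.to_subtype
  have hmem : ∀ z : Z, ({z} : Set Z) ∈ irreducibleComponents Z := by
    intro z
    refine ⟨isIrreducible_singleton, fun s hs hzs => ?_⟩
    let T : IrreducibleCloseds Z :=
      ⟨{z}, isIrreducible_singleton, isClosed_singleton_of_dim_le_zero h z⟩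
    let T' : IrreducibleCloseds Z := ⟨closure s, hs.closure, isClosed_closure⟩
    have hle : T ≤ T' := by
      show ({z} : Set Z) ⊆ closure s
      exact hzs.trans subset_closure
    have hle' : T' ≤ T := hmax T hle
    exact subset_closure.trans hle'
  exact Finite.of_injective (fun z : Z => (⟨{z}, hmem z⟩ : irreducibleComponents Z))
    (fun a b hab => by
      have : ({a} : Set Z) = {b} := congrArg Subtype.val hab
      exact Set.singleton_eq_singleton_iff.mp this)

/-- In a Noetherian T0 space, every subset of a closed set of dimension `≤ 0` is closed. -/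
theorem isClosed_of_subset_of_dim_le_zero {X : Type*} [TopologicalSpace X] [T0Space X]
    [NoetherianSpace X] (Z : Set X) (hZ : IsClosed Z) (hdim : topologicalKrullDim Z ≤ 0)
    (C : Set X) (hC : C ⊆ Z) : IsClosed C := by
  haveI : Finite Z := finite_of_dim_le_zero hdim
  haveI : T1Space Z := ⟨fun z => isClosed_singleton_of_dim_le_zero hdim z⟩
  have h1 : IsClosed ((Subtype.val : Z → X) ⁻¹' C) := (Set.toFinite _).isClosed
  have h2 := hZ.isClosedEmbedding_subtypeVal.isClosedMap _ h1
  have : (Subtype.val : Z → X) '' ((Subtype.val : Z → X) ⁻¹' C) = C := by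
    rw [Set.image_preimage_eq_inter_range, Subtype.range_coe]
    exact Set.inter_eq_left.mpr hC
  rwa [this] at h2

variable {X : TopCat.{u}} (F : TopCat.Sheaf AddCommGrpCat.{u} X)

theorem subsingleton_sections_of_disjoint (Z : Set X)
    (hF : ∀ x, x ∉ Z → Subsingleton (F.presheaf.stalk x)) (O : Opens X)
    (hO : ∀ x, x ∈ O → x ∉ Z) : Subsingleton (F.1.obj (op O)) := by
  refine ⟨fun s t => ?_⟩
  apply TopCat.Presheaf.section_ext F O s t
  intro x hx
  haveI := hF x (hO x hx)
  exact Subsingleton.elim _ _

theorem isFlasque_of_support (Z : Set X) (hZ : ∀ C, C ⊆ Z → IsClosed C)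
    (hF : ∀ x, x ∉ Z → Subsingleton (F.presheaf.stalk x)) : TopCat.Sheaf.IsFlasque F := by
  refine ⟨fun {U V} i => ?_⟩
  rw [AddCommGrpCat.epi_iff_surjective]
  intro s
  have hVU : V.unop ≤ U.unop := i.unop.le
  let C : Set X := Z ∩ (V.unop : Set X)
  have hC : IsClosed C := hZ C Set.inter_subset_left
  let W : Opens X := U.unop ⊓ ⟨Cᶜ, hC.isOpen_compl⟩
  let cov : Bool → Opens X := fun b => match b with | true => V.unop | false => W
  let sf : ∀ b : Bool, ToType (F.1.obj (op (cov b))) := fun b =>
    match b with | true => s | false => 0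
  have hdisj : ∀ x, x ∈ V.unop ⊓ W → x ∉ Z := by
    intro x hx hxZ
    exact hx.2.2 ⟨hxZ, hx.1⟩
  have hdisj' : ∀ x, x ∈ W ⊓ V.unop → x ∉ Z := by
    intro x hx hxZ
    exact hx.1.2 ⟨hxZ, hx.2⟩
  have hcomp : TopCat.Presheaf.IsCompatible F.1 cov sf := by
    intro a b
    match a, b with
    | true, true => rfl
    | false, false => rfl
    | true, false =>
      haveI := subsingleton_sections_of_disjoint F Z hF (V.unop ⊓ W) hdisj
      exact Subsingleton.elim _ _
    | false, true =>
      haveI := subsingleton_sections_of_disjoint F Z hF (W ⊓ V.unop) hdisj'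
      exact Subsingleton.elim _ _
  have hle : ∀ b, cov b ≤ U.unop := fun b => by
    match b with
    | true => exact hVU
    | false => exact inf_le_left
  have hcover : U.unop ≤ iSup cov := by
    intro x hx
    by_cases hxV : x ∈ V.unop
    · exact (le_iSup cov true) hxV
    · refine (le_iSup cov false) ⟨hx, ?_⟩
      intro hxC
      exact hxV hxC.2
  obtain ⟨t, ht, -⟩ := F.existsUnique_gluing' cov U.unop (fun b => homOfLE (hle b)) hcover sf hcomp
  refine ⟨t, ?_⟩
  have h3 := ht true
  have h4 : i = (homOfLE (hle true)).op := Subsingleton.elim _ _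
  rw [h4]
  exact h3

end Top

section Sch

theorem isFlasque_toAb_of_dim_support_le_zero (X : Scheme.{u}) [IsNoetherian X]
    (F : X.Modules) (hF : Coh.IsCoh F) (hsupp : topologicalKrullDim (CohB1.support F) ≤ 0) :
    TopCat.Sheaf.IsFlasque (Coh.toAb F) := by
  have hcl : IsClosed (CohB1.support F) := Groth.Agent.S0020.result X F hF.2
  exact isFlasque_of_support (X := X.toTopCat) (Coh.toAb F) (CohB1.support F)
    (fun C hC => isClosed_of_subset_of_dim_le_zero _ hcl hsupp C hC)
    (fun x hx => not_not.mp hx)

theorem s1526 (k : Type u) [Field k] (X : Scheme.{u}) [X.Over (Spec (CommRingCat.of k))]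
    [IsProper (X ↘ (Spec (CommRingCat.of k)))]
    (F : X.Modules) (hF : Coh.IsCoh F) (hsupp : topologicalKrullDim (CohB1.support F) ≤ 0)
    (i : ℕ) (hi : 1 ≤ i) : Subsingleton (Coh.HH X F i) := by
  haveI : CompactSpace X :=
    QuasiCompact.compactSpace_of_compactSpace (X ↘ Spec (CommRingCat.of k))
  haveI : IsLocallyNoetherian X :=
    LocallyOfFiniteType.isLocallyNoetherian (X ↘ Spec (CommRingCat.of k))
  haveI : IsNoetherian X := {}
  haveI := isFlasque_toAb_of_dim_support_le_zero X F hF hsupp
  obtain ⟨n, rfl⟩ : ∃ n, i = n + 1 := ⟨i - 1, by omega⟩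
  exact Groth.Agent.Lib.Helper16.Flasque.H_subsingleton (X := X.toTopCat) (Coh.toAb F) n

end Sch

end Part1

end Groth.Agent.Lib.R2H1.ZeroDimCoh
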