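/-
Degrees of invertible modules on integral proper curves via sections (S1518-S1521): for a nonzero map N -> L of invertible modules, chi(L) = chi(N) + h^0(coker), and h^0(coker)=0 iff iso.
-/
import Mathlib
import Groth.Prelude
import Groth.Agent.Lib.R2H1InvHom
import Groth.Agent.Lib.R2H1EulerAdd
import Groth.Agent.Lib.R2H1ZeroDimCoh
import Groth.Agent.Lib.R2H2NilFilt
import Groth.Agent.Lib.Helper20ZClos20
import Groth.Agent.Lib.Helper27PnSections
import Groth.Agent.Lib.Helper23TensorUnit

set_option autoImplicit false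
set_option linter.style.haveILetI false
set_option linter.unusedSectionVars false
universe u v

namespace Groth.Agent.Lib.R2H1.CurveDegSec

section Part1

open CategoryTheory CategoryTheory.Limits AlgebraicGeometry TopologicalSpace Opposite
open Groth.Agent.Lib.R2H1.InvHom

section Top

theorem dim_le_zero_of_ne_univ {X : Type*} [TopologicalSpace X] [IrreducibleSpace X]
    (hdim : topologicalKrullDim X ≤ 1) (Z : Set X) (hZ : IsClosed Z) (hne : Z ≠ Set.univ) :
    topologicalKrullDim Z ≤ 0 := by
  refine Order.krullDim_nonpos_iff_forall_isMax.mpr fun a b hab => ?_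
  by_contra hba
  have hlt : a < b := lt_of_le_not_ge hab hba
  have hsm := IrreducibleCloseds.map_strictMono_of_isInducing
    (Topology.IsInducing.subtypeVal (t := Z))
  have hlt' := hsm hlt
  set b' := IrreducibleCloseds.map (Subtype.val : Z → X) continuous_subtype_val b with hb'
  rcases (Order.krullDim_le_one_iff.mp hdim) b' with hmin | hmax
  · exact absurd (hmin hlt'.le) (not_le_of_gt hlt')
  · let T : IrreducibleCloseds X := ⟨Set.univ, IrreducibleSpace.isIrreducible_univ X, isClosed_univ⟩
    have h1 : T ≤ b' := hmax (fun x _ => Set.mem_univ x)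
    apply hne
    rw [Set.eq_univ_iff_forall]
    intro x
    have hx : x ∈ (b' : Set X) := h1 (Set.mem_univ x)
    rw [hb', IrreducibleCloseds.coe_map] at hx
    refine closure_minimal ?_ hZ hx
    rintro _ ⟨y, -, rfl⟩
    exact y.2

end Top

section Main

open Groth.Agent.Lib.R2H1.EulerAdd Groth.Agent.Lib.R2H1.ZeroDimCoh

variable (k : Type u) [Field k] (X : Scheme.{u}) [X.Over (Spec (CommRingCat.of k))]
    [IsProper (X ↘ (Spec (CommRingCat.of k)))]

theorem isCoh_of_isInvertible {X : Scheme.{u}} (L : X.Modules) (hL : PicF.IsInvertible L) :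
    Coh.IsCoh L :=
  ⟨Groth.Agent.Lib.Helper20.WeakAss.isQuasicoherent_of_isInvertible L hL,
    Groth.Agent.Lib.Helper20.ZClosLib.isFiniteType_of_isInvertible L hL⟩

/-- the Euler characteristic of a coherent module with zero-dimensional support is `h^0`. -/
theorem euler_eq_h0 (Q : X.Modules) (hQ : Coh.IsCoh Q)
    (hsupp : topologicalKrullDim (CohB1.support Q) ≤ 0) :
    Curv2.euler k X Q = (Module.finrank k (Coh.HH X Q 0) : ℤ) := by
  unfold Curv2.euler
  rw [finsum_eq_single _ 0 (fun i hi => ?_)]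
  · simp
  · haveI := s1526 k X Q hQ hsupp i (Nat.one_le_iff_ne_zero.mpr hi)
    rw [Module.finrank_zero_of_subsingleton]
    simp

/-- a coherent module with zero-dimensional support and `h^0 = 0` has no sections. -/
theorem subsingleton_sections_of_h0 (Q : X.Modules) (hQ : Coh.IsCoh Q)
    (hsupp : topologicalKrullDim (CohB1.support Q) ≤ 0)
    (h0 : Module.finrank k (Coh.HH X Q 0) = 0) (U : X.Opens) : Subsingleton Γ(Q, U) := by
  haveI : CompactSpace X :=
    QuasiCompact.compactSpace_of_compactSpace (X ↘ Spec (CommRingCat.of k))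
  haveI : IsLocallyNoetherian X :=
    LocallyOfFiniteType.isLocallyNoetherian (X ↘ Spec (CommRingCat.of k))
  haveI : IsNoetherian X := {}
  haveI := finite_HH k X Q hQ 0
  haveI : Subsingleton (Coh.HH X Q 0) := Module.finrank_zero_iff.mp h0
  haveI : Subsingleton ((Coh.toAb Q).obj.obj (op (⊤ : Opens X))) :=
    (Groth.Agent.Lib.Helper27PnSections.hh0Equiv X Q).symm.toEquiv.subsingleton
  have hfl := isFlasque_toAb_of_dim_support_le_zero X Q hQ hsupp
  have hepi := hfl.epi (homOfLE (le_top : U ≤ ⊤)).op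
  rw [AddCommGrpCat.epi_iff_surjective] at hepi
  refine ⟨fun a b => ?_⟩
  obtain ⟨a', rfl⟩ := hepi a
  obtain ⟨b', rfl⟩ := hepi b
  rw [Subsingleton.elim a' b']

variable [IsIntegral X]

theorem main (hdim : topologicalKrullDim X = 1) (N L : X.Modules) (hN : PicF.IsInvertible N)
    (hL : PicF.IsInvertible L) (φ : N ⟶ L) (hφ : φ ≠ 0) :
    Curv2.euler k X L =
        Curv2.euler k X N + (Module.finrank k (Coh.HH X (cokernel φ) 0) : ℤ) ∧
      (Module.finrank k (Coh.HH X (cokernel φ) 0) = 0 → IsIso φ) := by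
  haveI : Mono φ := mono_of_ne_zero hN hL φ hφ
  have hNc := isCoh_of_isInvertible N hN
  have hLc := isCoh_of_isInvertible L hL
  have hQc : Coh.IsCoh (cokernel φ) := Groth.Agent.Lib.R2H2.NilFilt.isCoh_cokernel hNc hLc φ
  have hcl : IsClosed (CohB1.support (cokernel φ)) := Groth.Agent.S0020.result X _ hQc.2
  obtain ⟨D, ⟨x, hx⟩, hD⟩ := exists_open_stalk_cokernel hN hL φ hφ
  have hne : CohB1.support (cokernel φ) ≠ Set.univ := by
    intro h
    have : x ∈ CohB1.support (cokernel φ) := h ▸ Set.mem_univ x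
    exact this (hD x hx)
  have hsupp : topologicalKrullDim (CohB1.support (cokernel φ)) ≤ 0 :=
    dim_le_zero_of_ne_univ hdim.le _ hcl hne
  let S : ShortComplex X.Modules := ShortComplex.mk φ (cokernel.π φ) (cokernel.condition φ)
  have hS : S.ShortExact :=
    { exact := ShortComplex.exact_cokernel φ
      mono_f := inferInstanceAs (Mono φ)
      epi_g := inferInstanceAs (Epi (cokernel.π φ)) }
  refine ⟨?_, fun h0 => ?_⟩
  · have h := s1524 k X S hS hNc hLc hQc
    rw [euler_eq_h0 k X (cokernel φ) hQc hsupp] at h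
    exact h
  · have hzero : cokernel.π φ = 0 := by
      refine Scheme.Modules.hom_ext _ _ fun U => ?_
      ext l
      haveI := subsingleton_sections_of_h0 k X (cokernel φ) hQc hsupp h0 U
      exact Subsingleton.elim _ _
    haveI : Epi φ := Abelian.epi_of_cokernel_π_eq_zero φ hzero
    exact isIso_of_mono_of_epi φ

theorem deg_eq (hdim : topologicalKrullDim X = 1) (L : X.Modules) (hL : PicF.IsInvertible L)
    (s : Coh.structureModule X ⟶ L) (hs : s ≠ 0) :
    Curv2.deg k X L 1 = (Module.finrank k (Coh.HH X (cokernel s) 0) : ℤ) := by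
  have h := (main k X hdim _ L
    (Groth.Agent.Lib.Helper23.TensorUnit.isInvertible_structureModule X) hL s hs).1
  unfold Curv2.deg
  rw [h]
  push_cast
  ring

theorem s1518 (hdim : topologicalKrullDim X = 1)
    (L : X.Modules) (hL : PicF.IsInvertible L) (s : Coh.structureModule X ⟶ L) (hs : s ≠ 0) :
    0 ≤ Curv2.deg k X L 1 := by
  rw [deg_eq k X hdim L hL s hs]
  positivity

theorem isIso_of_deg_nonpos (hdim : topologicalKrullDim X = 1)
    (L : X.Modules) (hL : PicF.IsInvertible L) (s : Coh.structureModule X ⟶ L) (hs : s ≠ 0)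
    (hdeg : Curv2.deg k X L 1 ≤ 0) : IsIso s := by
  rw [deg_eq k X hdim L hL s hs] at hdeg
  have h0 : Module.finrank k (Coh.HH X (cokernel s) 0) = 0 := by omega
  exact (main k X hdim _ L
    (Groth.Agent.Lib.Helper23.TensorUnit.isInvertible_structureModule X) hL s hs).2 h0

theorem s1519 (hdim : topologicalKrullDim X = 1)
    (L : X.Modules) (hL : PicF.IsInvertible L) (s : Coh.structureModule X ⟶ L) (hs : s ≠ 0)
    (x : X) (hx : x ∉ CohB1.genLocus L s) :
    0 < Curv2.deg k X L 1 := by
  by_contra hcon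
  haveI := isIso_of_deg_nonpos k X hdim L hL s hs (not_lt.mp hcon)
  apply hx
  have hmem : (⊤ : X.Opens) ∈ {U : X.Opens | IsIso ((Scheme.Modules.restrictFunctor U.ι).map s)} := by
    show IsIso ((Scheme.Modules.restrictFunctor (⊤ : X.Opens).ι).map s)
    infer_instance
  exact (le_sSup hmem : (⊤ : X.Opens) ≤ CohB1.genLocus L s) (Opens.mem_top x)

theorem s1520 (hdim : topologicalKrullDim X = 1)
    (L : X.Modules) (hL : PicF.IsInvertible L) (s : Coh.structureModule X ⟶ L) (hs : s ≠ 0)
    (hdeg : Curv2.deg k X L 1 ≤ 0) :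
    Nonempty (L ≅ Coh.structureModule X) := by
  haveI := isIso_of_deg_nonpos k X hdim L hL s hs hdeg
  exact ⟨(asIso s).symm⟩

theorem s1521 (hdim : topologicalKrullDim X = 1)
    (N L : X.Modules) (hN : PicF.IsInvertible N) (hL : PicF.IsInvertible L) (φ : N ⟶ L)
    (hφ : φ ≠ 0) :
    Curv2.deg k X N 1 ≤ Curv2.deg k X L 1 ∧
      (Curv2.deg k X N 1 = Curv2.deg k X L 1 → IsIso φ) := by
  obtain ⟨h1, h2⟩ := main k X hdim N L hN hL φ hφ
  unfold Curv2.deg
  rw [h1]
  refine ⟨by linarith [Int.natCast_nonneg (Module.finrank k (Coh.HH X (cokernel φ) 0))],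
    fun h => h2 ?_⟩
  have : (Module.finrank k (Coh.HH X (cokernel φ) 0) : ℤ) = 0 := by linarith
  exact_mod_cast this

end Main

end Part1

end Groth.Agent.Lib.R2H1.CurveDegSec
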