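/-
Vanishing of H^p (p >= 2) of quasi-coherent modules on Noetherian schemes of dimension <= 1 separated over an affine base: affine open with zero-dimensional complement, unit F -> j_* j^* F has flasque kernel and cokernel, pushforward from the affine open is acyclic.
-/
import Mathlib
import Groth.Prelude
import Groth.Agent.Lib.Helper11Generic
import Groth.Agent.Lib.R2H1ZeroDimCoh
import Groth.Agent.Lib.R2H2ClosedPn
import Groth.Agent.Lib.R2H2HHLin
import Groth.Agent.Lib.Helper23SectCmpLib
import Groth.Agent.S0007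
import Groth.Agent.Lib.Helper20StalkExact
import Groth.Agent.Lib.R2H1InvHom

set_option autoImplicit false
set_option linter.style.haveILetI false
set_option linter.unusedSectionVars false
universe u v

namespace Groth.Agent.Lib.R2H1.CurveVanish

section Part1

open CategoryTheory CategoryTheory.Limits AlgebraicGeometry TopologicalSpace Opposite

section Top

/-- In a Noetherian scheme of dimension `≤ 1` there is an affine open whose complement has
dimension `≤ 0`. -/
theorem exists_affine_open_compl_dim_le_zero (X : Scheme.{u}) [IsNoetherian X]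
    (hdim : topologicalKrullDim X ≤ 1) :
    ∃ U : X.Opens, IsAffineOpen U ∧ topologicalKrullDim ↥((U : Set X)ᶜ) ≤ 0 := by
  classical
  let S : Set X := {y | closure ({y} : Set X) ∈ irreducibleComponents X}
  have hSfin : S.Finite := by
    have hfin : (irreducibleComponents X).Finite := NoetherianSpace.finite_irreducibleComponents
    refine Set.Finite.of_finite_image (f := fun y => closure ({y} : Set X))
      (hfin.subset ?_) ?_
    · rintro _ ⟨y, hy, rfl⟩
      exact hy
    · intro a _ b _ hab
      have h1 : a ⤳ b := specializes_iff_closure_subset.mpr (by simp only [] at hab; rw [hab])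
      have h2 : b ⤳ a := specializes_iff_closure_subset.mpr (by simp only [] at hab; rw [hab])
      exact (h1.antisymm h2).eq
  obtain ⟨U, hU1, hU2⟩ := Groth.Agent.Lib.Helper11.exists_disjoint_affine_nhds S hSfin
    (fun y hy => hy) ⊥ (by simp) (fun _ _ h => h)
  refine ⟨⨆ y ∈ S, U y, IsAffineOpen.biSup_of_disjoint hSfin (fun y hy => (hU1 y hy).1)
    (fun y hy z hz hne => hU2 y hy z hz hne), ?_⟩
  set U₀ : X.Opens := ⨆ y ∈ S, U y with hU₀
  refine Order.krullDim_nonpos_iff_forall_isMax.mpr fun a b hab => ?_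
  by_contra hba
  have hlt : a < b := lt_of_le_not_ge hab hba
  have hsm := IrreducibleCloseds.map_strictMono_of_isInducing
    (Topology.IsInducing.subtypeVal (t := ((U₀ : Set X)ᶜ)))
  have hlt' := hsm hlt
  set b' := IrreducibleCloseds.map (Subtype.val : ↥((U₀ : Set X)ᶜ) → X)
    continuous_subtype_val b with hb'
  have hb'sub : (b' : Set X) ⊆ (U₀ : Set X)ᶜ := by
    rw [hb', IrreducibleCloseds.coe_map]
    refine closure_minimal ?_ U₀.isOpen.isClosed_compl
    rintro _ ⟨y, -, rfl⟩
    exact y.2
  rcases (Order.krullDim_le_one_iff.mp hdim) b' with hmin | hmax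
  · exact absurd (hmin hlt'.le) (not_le_of_gt hlt')
  · have hcomp : (b' : Set X) ∈ irreducibleComponents X := by
      refine ⟨b'.isIrreducible, fun s hs hbs => ?_⟩
      let T : IrreducibleCloseds X := ⟨closure s, hs.closure, isClosed_closure⟩
      have h1 : b' ≤ T := hbs.trans subset_closure
      exact subset_closure.trans (hmax h1)
    obtain ⟨y, hy⟩ := QuasiSober.sober b'.isIrreducible b'.isClosed
    have hyS : y ∈ S := by
      show closure ({y} : Set X) ∈ irreducibleComponents X
      rw [hy.def]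
      exact hcomp
    have hyU : y ∈ U₀ := by
      rw [hU₀]
      simp only [Opens.mem_iSup]
      exact ⟨y, hyS, (hU1 y hyS).2.1⟩
    exact hb'sub hy.mem hyU

end Top

section Unit

variable {X : Scheme.{u}} (U : X.Opens) (F : X.Modules)

/-- the unit `F ⟶ j_* j^* F` for the inclusion of an open -/
noncomputable def eta : F ⟶ (Scheme.Modules.pushforward U.ι).obj (F.restrict U.ι) :=
  (Scheme.Modules.restrictAdjunction U.ι).unit.app F

theorem isIso_restrict_eta : IsIso ((Scheme.Modules.restrictFunctor U.ι).map (eta U F)) := by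
  have h := (Scheme.Modules.restrictAdjunction U.ι).left_triangle_components F
  haveI : IsIso ((Scheme.Modules.restrictFunctor U.ι).map (eta U F) ≫
      (Scheme.Modules.restrictAdjunction U.ι).counit.app
        ((Scheme.Modules.restrictFunctor U.ι).obj F)) := by
    unfold eta
    rw [h]
    infer_instance
  exact IsIso.of_isIso_comp_right _ ((Scheme.Modules.restrictAdjunction U.ι).counit.app
    ((Scheme.Modules.restrictFunctor U.ι).obj F))

theorem bijective_eta_app (V : (U : Scheme.{u}).Opens) :
    Function.Bijective ((eta U F).app (U.ι ''ᵁ V)) := by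
  haveI := isIso_restrict_eta U F
  have h : IsIso (((Scheme.Modules.restrictFunctor U.ι).map (eta U F)).app V) := inferInstance
  exact ConcreteCategory.bijective_of_isIso
    (((Scheme.Modules.restrictFunctor U.ι).map (eta U F)).app V)

open Groth.Agent.Lib.R2H1.InvHom

theorem stalk_subsingleton_of_sections (M : X.Modules) (x : X)
    (h : ∀ (W' : X.Opens), x ∈ W' → ∀ m : Γ(M, W'),
      ∃ (W : X.Opens) (hW : W ≤ W'), x ∈ W ∧ res M hW m = 0) :
    Subsingleton (M.presheaf.stalk x) := by
  refine subsingleton_of_forall_eq 0 fun z => ?_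
  obtain ⟨V, hxV, q, rfl⟩ := M.presheaf.exists_germ_eq z
  obtain ⟨W, hW, hxW, h0⟩ := h V hxV q
  have h5 := TopCat.Presheaf.germ_res_apply M.presheaf (homOfLE hW) x hxW q
  rw [← h5]
  change M.presheaf.germ _ x _ (res M hW q) = 0
  rw [h0, map_zero]

/-- a neighbourhood basis of `x ∈ U` by opens of the form `U.ι ''ᵁ V` -/
theorem exists_image_le (x : X) (hx : x ∈ U) (W' : X.Opens) (hxW' : x ∈ W') :
    ∃ V : (U : Scheme.{u}).Opens, U.ι ''ᵁ V ≤ W' ∧ x ∈ U.ι ''ᵁ V := by
  refine ⟨U.ι ⁻¹ᵁ W', ?_, ?_⟩
  · rw [Scheme.Hom.image_preimage_eq_opensRange_inf]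
    exact inf_le_right
  · rw [Scheme.Hom.image_preimage_eq_opensRange_inf, Scheme.Opens.opensRange_ι]
    exact ⟨hx, hxW'⟩

theorem stalk_kernel_subsingleton (x : X) (hx : x ∈ U) :
    Subsingleton ((kernel (eta U F)).presheaf.stalk x) := by
  refine stalk_subsingleton_of_sections _ x fun W' hxW' m => ?_
  obtain ⟨V, hV, hxV⟩ := exists_image_le U x hx W' hxW'
  refine ⟨U.ι ''ᵁ V, hV, hxV, ?_⟩
  apply Groth.Agent.Lib.Helper20.StalkExact.injective_app_of_mono (kernel.ι (eta U F))
  apply (bijective_eta_app U F V).1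
  have h1 : (kernel.ι (eta U F) ≫ eta U F).app (U.ι ''ᵁ V) (res _ hV m) = 0 := by
    rw [kernel.condition]
    rfl
  rw [map_zero, map_zero]
  exact h1

theorem stalk_cokernel_subsingleton (x : X) (hx : x ∈ U) :
    Subsingleton ((cokernel (eta U F)).presheaf.stalk x) := by
  refine stalk_subsingleton_of_sections _ x fun W' hxW' q => ?_
  obtain ⟨W₁, hW₁, hxW₁, a, ha⟩ :=
    Groth.Agent.Lib.Helper23.SectCmpLib.exists_local_lift (cokernel.π (eta U F)) W' q x hxW'
  obtain ⟨V, hV, hxV⟩ := exists_image_le U x hx W₁ hxW₁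
  refine ⟨U.ι ''ᵁ V, hV.trans hW₁, hxV, ?_⟩
  obtain ⟨b, hb⟩ := (bijective_eta_app U F V).2 (res _ hV a)
  have h1 : (eta U F ≫ cokernel.π (eta U F)).app (U.ι ''ᵁ V) b = 0 := by
    rw [cokernel.condition]
    rfl
  have h2 : (cokernel.π (eta U F)).app (U.ι ''ᵁ V) (res _ hV a) = 0 := by
    rw [← hb]
    exact h1
  rw [app_res] at h2
  have h3 : res (cokernel (eta U F)) (hV.trans hW₁) q =
      res (cokernel (eta U F)) hV (res (cokernel (eta U F)) hW₁ q) := (res_res _ hW₁ hV q).symm
  rw [h3]
  have h4 : (cokernel.π (eta U F)).app W₁ a = res (cokernel (eta U F)) hW₁ q := ha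
  rw [← h4]
  exact h2

end Unit

section Chase

open Groth.Agent.Lib.R2H2.HHLin

variable {X : Scheme.{u}} (S : ShortComplex X.Modules) (hS : S.ShortExact)

include hS in
theorem subsingleton_mid (i : ℕ) [Subsingleton (Coh.HH X S.X₁ i)]
    [Subsingleton (Coh.HH X S.X₃ i)] : Subsingleton (Coh.HH X S.X₂ i) := by
  refine subsingleton_of_forall_eq 0 fun x₂ => ?_
  obtain ⟨x₁, rfl⟩ := exact₂ S hS i x₂ (Subsingleton.elim _ _)
  rw [Subsingleton.elim x₁ 0, map_zero]

include hS in
theorem subsingleton_left (i : ℕ) [Subsingleton (Coh.HH X S.X₃ i)]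
    [Subsingleton (Coh.HH X S.X₂ (i + 1))] : Subsingleton (Coh.HH X S.X₁ (i + 1)) := by
  refine subsingleton_of_forall_eq 0 fun x₁ => ?_
  obtain ⟨x₃, rfl⟩ := exact₁ S hS i x₁ (Subsingleton.elim _ _)
  rw [Subsingleton.elim x₃ 0, map_zero]

end Chase

section Main

open Groth.Agent.Lib.R2H1.ZeroDimCoh

/-- **Vanishing of cohomology above degree one on Noetherian schemes of dimension at most one**
(separated over an affine base), for quasi-coherent modules. -/
theorem subsingleton_HH_of_dim_le_one (X : Scheme.{u}) [IsNoetherian X] {T : Scheme.{u}}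
    (g : X ⟶ T) [IsSeparated g] [IsAffine T]
    (hdim : topologicalKrullDim X ≤ 1) (F : X.Modules) (hF : Coh.IsQCoh F) (p : ℕ) (hp : 2 ≤ p) :
    Subsingleton (Coh.HH X F p) := by
  obtain ⟨n, rfl⟩ : ∃ n, p = n + 2 := ⟨p - 2, by omega⟩
  obtain ⟨U, hU, hZ⟩ := exists_affine_open_compl_dim_le_zero X hdim
  have hZc : IsClosed ((U : Set X)ᶜ) := U.isOpen.isClosed_compl
  have hsub : ∀ C : Set X, C ⊆ (U : Set X)ᶜ → IsClosed C := fun C hC =>
    isClosed_of_subset_of_dim_le_zero _ hZc hZ C hC
  have hmem : ∀ x : X, x ∉ (U : Set X)ᶜ → x ∈ U := fun x hx => not_not.mp hx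
  -- the unit, its kernel, image and cokernel
  let η := eta U F
  haveI flK : TopCat.Sheaf.IsFlasque (Coh.toAb (kernel η)) :=
    isFlasque_of_support (X := X.toTopCat) (Coh.toAb (kernel η)) _ hsub
      (fun x hx => stalk_kernel_subsingleton U F x (hmem x hx))
  haveI flC : TopCat.Sheaf.IsFlasque (Coh.toAb (cokernel η)) :=
    isFlasque_of_support (X := X.toTopCat) (Coh.toAb (cokernel η)) _ hsub
      (fun x hx => stalk_cokernel_subsingleton U F x (hmem x hx))
  haveI HK : Subsingleton (Coh.HH X (kernel η) (n + 2)) :=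
    Groth.Agent.Lib.Helper16.Flasque.H_subsingleton (X := X.toTopCat) (Coh.toAb (kernel η)) (n + 1)
  haveI HC : Subsingleton (Coh.HH X (cokernel η) (n + 1)) :=
    Groth.Agent.Lib.Helper16.Flasque.H_subsingleton (X := X.toTopCat) (Coh.toAb (cokernel η)) n
  -- the pushforward is acyclic
  haveI : IsAffine (U : Scheme.{u}) := hU
  haveI : IsAffineHom (U.ι ≫ g) := isAffineHom_of_isAffine _
  haveI : IsAffineHom U.ι := IsAffineHom.of_comp U.ι g
  haveI : (F.restrict U.ι).IsQuasicoherent :=
    Scheme.Modules.isQuasicoherent_restrictFunctor U.ι F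
  haveI HA : Subsingleton (Coh.HH X ((Scheme.Modules.pushforward U.ι).obj (F.restrict U.ι))
      (n + 2)) := by
    rw [← Groth.Agent.Lib.R2H2.ClosedPn.subsingleton_HH_push_iff U.ι (F.restrict U.ι)
      inferInstance (n + 2)]
    exact Groth.Agent.S0007.result (U : Scheme.{u}) (F.restrict U.ι) (n + 2) (by omega)
  -- image sequence
  let S₂ : ShortComplex X.Modules :=
    ShortComplex.mk (kernel.ι (cokernel.π η)) (cokernel.π η) (kernel.condition _)
  have hS₂ : S₂.ShortExact :=
    { exact := ShortComplex.exact_kernel (cokernel.π η)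
      mono_f := inferInstanceAs (Mono (kernel.ι (cokernel.π η)))
      epi_g := inferInstanceAs (Epi (cokernel.π η)) }
  haveI HI : Subsingleton (Coh.HH X (kernel (cokernel.π η)) (n + 2)) :=
    subsingleton_left S₂ hS₂ (n + 1)
  -- kernel sequence
  let q : F ⟶ kernel (cokernel.π η) := kernel.lift (cokernel.π η) η (cokernel.condition η)
  have hq : q ≫ kernel.ι (cokernel.π η) = η := kernel.lift_ι _ _ _
  haveI : Epi q := inferInstanceAs (Epi (Abelian.factorThruImage η))
  let S₁ : ShortComplex X.Modules := ShortComplex.mk (kernel.ι η) q (by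
    rw [← cancel_mono (kernel.ι (cokernel.π η)), Category.assoc, hq, kernel.condition, zero_comp])
  have hS₁ : S₁.ShortExact := by
    have hexact : S₁.Exact := by
      let φ : S₁ ⟶ ShortComplex.mk (kernel.ι η) η (kernel.condition _) :=
        { τ₁ := 𝟙 _, τ₂ := 𝟙 _, τ₃ := kernel.ι (cokernel.π η),
          comm₁₂ := by simp [S₁]
          comm₂₃ := by
            show 𝟙 _ ≫ η = q ≫ kernel.ι (cokernel.π η)
            rw [hq, Category.id_comp] }
      haveI : Epi φ.τ₁ := (inferInstance : Epi (𝟙 (kernel η)))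
      haveI : IsIso φ.τ₂ := (inferInstance : IsIso (𝟙 F))
      haveI : Mono φ.τ₃ := (inferInstance : Mono (kernel.ι (cokernel.π η)))
      rw [ShortComplex.exact_iff_of_epi_of_isIso_of_mono φ]
      exact ShortComplex.exact_kernel η
    haveI : Mono S₁.f := (inferInstance : Mono (kernel.ι η))
    haveI : Epi S₁.g := (inferInstance : Epi q)
    exact { exact := hexact }
  haveI : Subsingleton (Coh.HH X S₁.X₁ (n + 2)) := HK
  haveI : Subsingleton (Coh.HH X S₁.X₃ (n + 2)) := HI
  exact subsingleton_mid S₁ hS₁ (n + 2)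

end Main

end Part1

end Groth.Agent.Lib.R2H1.CurveVanish
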