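import Groth.Agent.Lib.Helper21Dual13
import Groth.Agent.Lib.Helper21Dual9
import Groth.Prelude.Def_KLin
import Groth.Prelude.Def_DCoh4

/-!
# Tensoring with a module is linear over the global functions (helper2, round 2)
-/

set_option autoImplicit false
set_option linter.unusedSectionVars false
universe u

namespace Groth.Agent.Lib.R2H2.TensorLin

open CategoryTheory CategoryTheory.Limits AlgebraicGeometry Opposite MonoidalCategory
open Groth.Agent.Lib.Helper21.ModTensor Groth.Agent.Lib.Helper21.ModTensor2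
  Groth.Agent.Lib.Helper21.ModTensor3 Groth.Agent.Lib.Helper21.Dual

variable {X : Scheme.{u}}

/-- `F ⊗ (r ·) = (r ·)` on `F ⊗ A` -/
theorem tensorBi_map_smulModΓ (F A : X.Modules) (r : Coh.Γtop X) :
    (DCoh.tensorBi.obj F).map (Formal.smulModΓ A r) =
      Formal.smulModΓ ((DCoh.tensorBi.obj F).obj A) r := by
  change (tL X.sheaf F).map (Formal.smulModΓ A r) = _
  rw [tL_map]
  apply shf_hom_ext
  have hnat := (adj X.sheaf).unit.naturality
    ((fgt X.sheaf).obj F ◁ (fgt X.sheaf).map (Formal.smulModΓ A r))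
  refine hnat.symm.trans ?_
  ext U : 1
  apply ModuleCat.MonoidalCategory.tensor_ext
  intro m n
  let P : PM X.sheaf := (fgt X.sheaf).obj F ⊗ (fgt X.sheaf).obj A
  let ρ : ↑((X.sheaf.obj ⋙ forget₂ CommRingCat RingCat).obj U) := Coh.resTop X U r
  have h1 : (ModuleCat.Hom.hom
        (((𝟭 (PM X.sheaf)).map ((fgt X.sheaf).obj F ◁ (fgt X.sheaf).map (Formal.smulModΓ A r)) ≫
              (adj X.sheaf).unit.app ((fgt X.sheaf).obj F ⊗ (fgt X.sheaf).obj A)).app
          U))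
      (m ⊗ₜ[↑((X.sheaf.obj ⋙ forget₂ CommRingCat RingCat).obj U)] n) =
      (ModuleCat.Hom.hom ((eta X.sheaf P).app U))
        (m ⊗ₜ[↑((X.sheaf.obj ⋙ forget₂ CommRingCat RingCat).obj U)] (ρ • n)) := rfl
  have h2 : (ModuleCat.Hom.hom
        ((eta X.sheaf ((fgt X.sheaf).obj F ⊗ (fgt X.sheaf).obj A) ≫
              (fgt X.sheaf).map (Formal.smulModΓ ((DCoh.tensorBi.obj F).obj A) r)).app
          U))
      (m ⊗ₜ[↑((X.sheaf.obj ⋙ forget₂ CommRingCat RingCat).obj U)] n) =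
      ρ • (ModuleCat.Hom.hom ((eta X.sheaf P).app U))
        (m ⊗ₜ[↑((X.sheaf.obj ⋙ forget₂ CommRingCat RingCat).obj U)] n) := rfl
  refine h1.trans (Eq.trans ?_ h2.symm)
  have h3 : m ⊗ₜ[↑((X.sheaf.obj ⋙ forget₂ CommRingCat RingCat).obj U)] (ρ • n) =
      ρ • (m ⊗ₜ[↑((X.sheaf.obj ⋙ forget₂ CommRingCat RingCat).obj U)] n) :=
    TensorProduct.tmul_smul ρ m n
  exact (congrArg (ModuleCat.Hom.hom ((eta X.sheaf P).app U)) h3).trans
    (map_smul (ModuleCat.Hom.hom ((eta X.sheaf P).app U)) ρ _)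

end Groth.Agent.Lib.R2H2.TensorLin
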