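import Groth.Agent.Lib.R2H2PnSplitType
import Groth.Agent.Lib.R2H2TensorLin

/-!
# A trivial-bundle criterion on `P^n_k` (helper2, round 2)

* `clsL`, `clsEquiv`: `Hom(O, M) ≃ₗ[k] H^0(X, M)`
* `twR_map_smul`
* `isZero_of_diagonal`: a coherent module on `P^n_k` with `H^i(E(l₀ - i)) = 0` for `0 ≤ i ≤ n` is zero
* `nonempty_iso_coprod_of_vanishing`: a coherent `G` with `H^i(G(m-i)) = 0` and
  `H^{i-1}(G(m-i)) = 0` for `1 ≤ i ≤ n` is `O(-m)^b`
-/

set_option autoImplicit false
set_option linter.style.haveILetI false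
universe u

namespace Groth.Agent.Lib.R2H2.PnBeilinson

open CategoryTheory CategoryTheory.Limits AlgebraicGeometry Opposite
open Groth.Agent.Lib.R2H2.HHLin Groth.Agent.Lib.R2H2.PnSerre
  Groth.Agent.Lib.R2H2.PnMumford Groth.Agent.Lib.R2H2.PnLinRes Groth.Agent.Lib.R2H2.PnGG
  Groth.Agent.Lib.R2H2.PnHorrocks Groth.Agent.Lib.R2H2.PnLocFree

section General

variable {k : Type u} [Field k] {X : Scheme.{u}} [X.Over (Spec (CommRingCat.of k))]

theorem smul_eq_comp_smulMod {M N : X.Modules} (a : k) (f : M ⟶ N) :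
    a • f = f ≫ Formal.smulMod k N a := by
  rw [KLin.smul_def]
  exact (KLin.comp_smulModΓ f _).symm

theorem cls_smul {M : X.Modules} (a : k) (σ : Coh.structureModule X ⟶ M) :
    cls (a • σ) = a • cls σ := by
  rw [smul_eq_comp_smulMod, ← cls_comp]
  rfl

theorem cls_add {M : X.Modules} (σ τ : Coh.structureModule X ⟶ M) :
    cls (σ + τ) = cls σ + cls τ := by
  unfold cls
  rw [Groth.Agent.Lib.Helper23.SecTw.sv_add]
  exact map_add (Groth.Agent.Lib.Helper27PnSections.hh0Equiv X M).symm _ _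

/-- the class map as a linear map -/
noncomputable def clsL (M : X.Modules) : (Coh.structureModule X ⟶ M) →ₗ[k] Coh.HH X M 0 where
  toFun := cls
  map_add' := cls_add
  map_smul' a σ := cls_smul a σ

theorem clsL_injective (M : X.Modules) : Function.Injective (clsL (k := k) M) := by
  rw [injective_iff_map_eq_zero]
  intro σ hσ
  exact eq_zero_of_cls σ hσ

/-- `Hom(O_X, M) ≃ₗ[k] H^0(X, M)` -/
noncomputable def clsEquiv (M : X.Modules) : (Coh.structureModule X ⟶ M) ≃ₗ[k] Coh.HH X M 0 :=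
  LinearEquiv.ofBijective (clsL M) ⟨clsL_injective M, cls_surjective M⟩

theorem twR_map_smulMod (L A : X.Modules) (a : k) :
    (twR L).map (Formal.smulMod k A a) = Formal.smulMod k ((twR L).obj A) a := by
  have h1 := (twIso L).hom.naturality (Formal.smulMod k A a)
  have h2 : (DCoh.tensorBi.obj L).map (Formal.smulMod k A a) =
      Formal.smulMod k ((DCoh.tensorBi.obj L).obj A) a :=
    Groth.Agent.Lib.R2H2.TensorLin.tensorBi_map_smulModΓ L A _
  rw [h2] at h1
  have h3 : (twIso L).hom.app A ≫ (twR L).map (Formal.smulMod k A a) =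
      (twIso L).hom.app A ≫ Formal.smulMod k ((twR L).obj A) a := by
    rw [← h1]
    exact (KLin.comp_smulModΓ _ _).symm
  exact (cancel_epi ((twIso L).hom.app A)).1 h3

theorem twR_map_smul (L : X.Modules) {A B : X.Modules} (a : k) (f : A ⟶ B) :
    (twR L).map (a • f) = a • (twR L).map f := by
  rw [KLin.smul_def, KLin.smul_def, Functor.map_comp, twR_map_smulMod]

end General


section Les

variable {X : Scheme.{u}} (S : ShortComplex X.Modules) (hS : S.ShortExact)

include hS

theorem subsingleton_X₃ (i : ℕ) (h₂ : Subsingleton (Coh.HH X S.X₂ i))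
    (h₁ : Subsingleton (Coh.HH X S.X₁ (i + 1))) : Subsingleton (Coh.HH X S.X₃ i) := by
  have h0 : ∀ x : Coh.HH X S.X₃ i, x = 0 := fun x => by
    obtain ⟨y, hy⟩ := exact₃ S hS i x (Subsingleton.elim _ _)
    rw [← hy, Subsingleton.elim y 0, map_zero]
  exact ⟨fun a b => (h0 a).trans (h0 b).symm⟩

theorem subsingleton_X₁_succ (i : ℕ) (h₃ : Subsingleton (Coh.HH X S.X₃ i))
    (h₂ : Subsingleton (Coh.HH X S.X₂ (i + 1))) : Subsingleton (Coh.HH X S.X₁ (i + 1)) :=
  @Function.Injective.subsingleton _ _ _ (injective_f_of_subsingleton S hS i h₃) h₂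

theorem subsingleton_X₁_succ_of_surjective (i : ℕ) (h : Function.Surjective (HmapL S.g i))
    (h₂ : Subsingleton (Coh.HH X S.X₂ (i + 1))) : Subsingleton (Coh.HH X S.X₁ (i + 1)) :=
  @Function.Injective.subsingleton _ _ _ (injective_f_of_surjective_g S hS i h) h₂

end Les

section Pn

variable (k : Type u) [Field k] (n : ℕ)

local notation "PX" => CohB1.ProjSpace n k

/-- a coherent module with vanishing cohomology along a diagonal is zero -/
theorem isZero_of_diagonal (E : (PX).Modules) (hE : Coh.IsCoh E) (l₀ : ℤ)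
    (h : ∀ i : ℕ, i ≤ n → Subsingleton (Coh.HH PX
      (CohB1.tensorMod E (Twist.twistProjSpace n k (l₀ - i))) i)) : IsZero E := by
  have hreg : ∀ i : ℕ, 1 ≤ i → i ≤ n → Subsingleton (Coh.HH PX
      (CohB1.tensorMod E (Twist.twistProjSpace n k (l₀ - i))) i) := fun i _ hin => h i hin
  have h0 : Subsingleton (Coh.HH PX (CohB1.tensorMod E (Twist.twistProjSpace n k l₀)) 0) := by
    have h1 := h 0 (Nat.zero_le n)
    have e : l₀ - ((0 : ℕ) : ℤ) = l₀ := by push_cast; ring
    rw [e] at h1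
    exact h1
  have hgg := globallyGenerated_of_regular n k E hE l₀ hreg
  have hid : 𝟙 (CohB1.tensorMod E (Twist.twistProjSpace n k l₀)) = 0 := by
    apply eq_zero_of_globallyGenerated hgg
    intro σ
    exact (Category.comp_id σ).trans (eq_zero_of_cls σ (Subsingleton.elim _ _))
  have hT := isEquivalence_twR n k l₀
  rw [IsZero.iff_id_eq_zero]
  apply (Tw n k l₀).map_injective
  exact ((Tw n k l₀).map_id E).trans (hid.trans ((Tw n k l₀).map_zero _ _).symm)

theorem isCoh_kernel {A B : (PX).Modules} (hA : Coh.IsCoh A) (hB : Coh.IsCoh B) (φ : A ⟶ B) :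
    Coh.IsCoh (kernel φ) := by
  have hAq : A.IsQuasicoherent := hA.1
  have hAf : SheafOfModules.IsFiniteType (R := (PX).ringCatSheaf) A := hA.2
  have hBq : B.IsQuasicoherent := hB.1
  have hKq : (kernel φ).IsQuasicoherent :=
    Groth.Agent.Lib.Helper23.QCohLocal.isQuasicoherent_kernel φ
  have hmono : Mono (kernel.ι φ) := inferInstance
  haveI : IsLocallyNoetherian PX := Groth.Agent.Lib.R2H2.PnFinite.isLocallyNoetherian_projSpace n k
  exact ⟨hKq, @Groth.Agent.Lib.Helper23.FinType.isFiniteType_of_mono PX _ _ _ (kernel.ι φ) hmono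
    hAq hAf hKq⟩

theorem isCoh_twistSheaf (d : ℤ) : Coh.IsCoh (Twist.twistProjSpace n k d) :=
  ⟨Groth.Agent.Lib.R2H2.PnFinite.isQCoh_twist n k d,
    Groth.Agent.Lib.R2H2.PnFinite.isFiniteType_twist n k d⟩

theorem isCoh_coprod_twist {r : ℕ} (d : Fin r → ℤ) :
    Coh.IsCoh (∐ fun j => Twist.twistProjSpace n k (d j)) := by
  have h1 : FlatMod.IsFinLocFreeOfRank r (∐ fun j => Twist.twistProjSpace n k (d j)) :=
    isFinLocFreeOfRank_sigma r _ (fun j => isInv n k (d j))
  exact isCoh_of_isFinLocFree _ (isFinLocFree_of_rank h1)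

/-- **a trivial-bundle criterion**: a coherent `G` on `P^n_k` with `H^i(G(m-i)) = 0` and
`H^{i-1}(G(m-i)) = 0` for `1 ≤ i ≤ n` is isomorphic to `O(-m)^b` -/
theorem nonempty_iso_coprod_of_vanishing (G : (PX).Modules) (hG : Coh.IsCoh G) (m : ℤ)
    (hreg : ∀ i : ℕ, 1 ≤ i → i ≤ n → Subsingleton (Coh.HH PX
      (CohB1.tensorMod G (Twist.twistProjSpace n k (m - i))) i))
    (hlow : ∀ i : ℕ, 1 ≤ i → i ≤ n → Subsingleton (Coh.HH PX
      (CohB1.tensorMod G (Twist.twistProjSpace n k (m - i))) (i - 1))) :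
    ∃ b : ℕ, Nonempty (G ≅ ∐ fun _ : Fin b => Twist.twistProjSpace n k (-m)) := by
  let T : (PX).Modules ⥤ (PX).Modules := Tw n k m
  have hT : T.IsEquivalence := isEquivalence_twR n k m
  have hcoh : Coh.IsCoh (T.obj G) := isCoh_twist k n G hG m
  have hfin : Module.Finite k (Coh.HH PX (T.obj G) 0) :=
    Groth.Agent.Lib.R2H2.PnFinite.finite_HH n k _ hcoh 0
  let b : ℕ := Module.finrank k (Coh.HH PX (T.obj G) 0)
  let x : Module.Basis (Fin b) k (Coh.HH PX (T.obj G) 0) := Module.finBasis k _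
  obtain ⟨e⟩ := Groth.Agent.Lib.R2Lead.KRR.nonempty_twistProjSpace_tensor_iso n k (-m) m
  obtain ⟨z⟩ := Groth.Agent.Lib.R2Lead.KRR.nonempty_twistProjSpace_zero_iso n k
  let w : T.obj (Twist.twistProjSpace n k (-m)) ≅ Coh.structureModule PX :=
    e ≪≫ eqToIso (by rw [neg_add_cancel]) ≪≫ z
  obtain ⟨φ, hφ⟩ := exists_desc T G (Twist.twistProjSpace n k (-m)) w b x (fun y => by
    refine ⟨fun j => Coh.toGlobal (PX ↘ Spec (CommRingCat.of k)) (x.repr y j), ?_⟩
    exact (x.sum_repr y).symm.trans (Finset.sum_congr rfl (fun j _ => rfl)))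
  have hgg := globallyGenerated_of_regular n k G hG m hreg
  have hep : Epi (T.map φ) := epi_of_surjective_H0 (T.map φ) hgg hφ
  have hepφ : Epi φ := T.epi_of_epi_map hep
  -- injectivity on `H^0` by a dimension count
  have hsrc : Module.finrank k (Coh.HH PX (T.obj (∐ fun _ : Fin b =>
      Twist.twistProjSpace n k (-m))) 0) = b := by
    have h1 := finrank_H0_split k n b (fun _ => -m) m
    rw [h1]
    have h2 : ∀ j : Fin b, Module.finrank k (Coh.HH PX ((Tw n k m).obj
        (Twist.twistProjSpace n k (-m))) 0) = 1 := fun _ => by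
      have h3 := gdim_self k n (-m)
      rw [neg_neg] at h3
      exact h3
    rw [Finset.sum_congr rfl (fun j _ => h2 j), Finset.sum_const, Finset.card_univ,
      Fintype.card_fin, smul_eq_mul, mul_one]
  have hAcoh : Coh.IsCoh (∐ fun _ : Fin b => Twist.twistProjSpace n k (-m)) :=
    isCoh_coprod_twist k n (fun _ => -m)
  have hfinA : Module.Finite k (Coh.HH PX (T.obj (∐ fun _ : Fin b =>
      Twist.twistProjSpace n k (-m))) 0) :=
    Groth.Agent.Lib.R2H2.PnFinite.finite_HH n k _ (isCoh_twist k n _ hAcoh m) 0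
  have hinj : Function.Injective (HmapL (T.map φ) 0) := by
    have h1 : Function.Injective (HmapA k (T.map φ) 0) ↔ Function.Surjective (HmapA k (T.map φ) 0) :=
      LinearMap.injective_iff_surjective_of_finrank_eq_finrank hsrc
    exact h1.2 hφ
  -- the kernel
  let S : ShortComplex (PX).Modules := ShortComplex.mk (kernel.ι φ) φ (kernel.condition φ)
  have hS : S.ShortExact :=
    { exact := ShortComplex.exact_kernel φ
      mono_f := equalizer.ι_mono
      epi_g := hepφ }
  have hN : Coh.IsCoh (kernel φ) := isCoh_kernel k n hAcoh hG φ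
  have hz : IsZero (kernel φ) := by
    apply isZero_of_diagonal k n (kernel φ) hN m
    intro i hin
    rcases Nat.eq_zero_or_pos i with hi0 | hipos
    · subst hi0
      have e0 : m - ((0 : ℕ) : ℤ) = m := by push_cast; ring
      rw [e0]
      have hS' : (S.map T).ShortExact := shortExact_map_twR _ (isInv n k m) S hS
      have hmono : Mono (T.map (kernel.ι φ)) := hS'.mono_f
      have h0 : ∀ y : Coh.HH PX (T.obj (kernel φ)) 0, y = 0 := fun y => by
        apply Groth.Agent.Lib.R2H2.DualExtGen.injective_HmapL_zero (T.map (kernel.ι φ))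
        apply hinj
        rw [← HmapL_comp, ← T.map_comp, kernel.condition, T.map_zero, HmapL_zero, map_zero,
          map_zero]
      exact ⟨fun a c => (h0 a).trans (h0 c).symm⟩
    · obtain ⟨i', rfl⟩ : ∃ i', i = i' + 1 := ⟨i - 1, by omega⟩
      have hS' : (S.map (Tw n k (m - ((i' + 1 : ℕ) : ℤ)))).ShortExact :=
        shortExact_map_twR _ (isInv n k _) S hS
      have h3 : Subsingleton (Coh.HH PX (S.map (Tw n k (m - ((i' + 1 : ℕ) : ℤ)))).X₃ i') := by
        have h4 := hlow (i' + 1) (by omega) hin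
        have e4 : i' + 1 - 1 = i' := by omega
        rw [e4] at h4
        exact h4
      have h2 : Subsingleton (Coh.HH PX (S.map (Tw n k (m - ((i' + 1 : ℕ) : ℤ)))).X₂ (i' + 1)) :=
        subsingleton_HH_twR_coprod n k b (-m) (m - ((i' + 1 : ℕ) : ℤ)) (i' + 1) (by omega) (by
          rintro ⟨h1, h2⟩
          omega)
      exact subsingleton_X₁_succ _ hS' i' h3 h2
  have hmonoφ : Mono φ := Preadditive.mono_of_kernel_zero (hz.eq_of_src _ _)
  haveI : IsIso φ := isIso_of_mono_of_epi φ
  exact ⟨b, ⟨(asIso φ).symm⟩⟩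

end Pn

end Groth.Agent.Lib.R2H2.PnBeilinson
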