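/-
Euler characteristic on proper schemes of dimension <= 1 over a field: chi = h^0 - h^1 (via vanishing of H^p, p >= 2); S6540 (genus 0, degree 0 invertible modules are trivial).
-/
import Mathlib
import Groth.Prelude
import Groth.Agent.Lib.R2H1CurveVanish
import Groth.Agent.Lib.R2H1CurveDegSec
import Groth.Agent.Lib.R2H2PnBeilinson

set_option autoImplicit false
set_option linter.style.haveILetI false
set_option linter.unusedSectionVars false
universe u v

namespace Groth.Agent.Lib.R2H1.CurveEuler

section Part1

open CategoryTheory CategoryTheory.Limits AlgebraicGeometry TopologicalSpace Opposite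
open Groth.Agent.Lib.R2H1.EulerAdd Groth.Agent.Lib.R2H1.CurveVanish
open Groth.Agent.Lib.R2H1.CurveDegSec

variable (k : Type u) [Field k] (X : Scheme.{u}) [X.Over (Spec (CommRingCat.of k))]
    [IsProper (X ↘ (Spec (CommRingCat.of k)))]

include k in
theorem isNoetherian_of_proper : IsNoetherian X := by
  haveI : CompactSpace X :=
    QuasiCompact.compactSpace_of_compactSpace (X ↘ Spec (CommRingCat.of k))
  haveI : IsLocallyNoetherian X :=
    LocallyOfFiniteType.isLocallyNoetherian (X ↘ Spec (CommRingCat.of k))
  exact {}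

include k in
/-- cohomology above degree one vanishes on proper schemes of dimension at most one -/
theorem subsingleton_HH_curve (hdim : topologicalKrullDim X ≤ 1) (F : X.Modules)
    (hF : Coh.IsQCoh F) (p : ℕ) (hp : 2 ≤ p) : Subsingleton (Coh.HH X F p) := by
  haveI := isNoetherian_of_proper k X
  exact subsingleton_HH_of_dim_le_one X (X ↘ Spec (CommRingCat.of k)) hdim F hF p hp

/-- `χ(F) = h^0(F) - h^1(F)` on proper schemes of dimension at most one -/
theorem euler_eq_h0_sub_h1 (hdim : topologicalKrullDim X ≤ 1) (F : X.Modules)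
    (hF : Coh.IsQCoh F) :
    Curv2.euler k X F = (Module.finrank k (Coh.HH X F 0) : ℤ) -
      (Module.finrank k (Coh.HH X F 1) : ℤ) := by
  unfold Curv2.euler
  have hsupp : (Function.support fun i : ℕ =>
      (-1 : ℤ) ^ i * (Module.finrank k (Coh.HH X F i) : ℤ)) ⊆ ((Finset.range 2 : Finset ℕ) : Set ℕ) := by
    intro i hi
    simp only [Finset.coe_range, Set.mem_Iio]
    by_contra hcon
    apply hi
    haveI := subsingleton_HH_curve k X hdim F hF i (by omega)
    simp [Module.finrank_zero_of_subsingleton]
  rw [finsum_eq_sum_of_support_subset _ hsupp, Finset.sum_range_succ, Finset.sum_range_one]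
  ring

variable [IsIntegral X]

theorem s6540 (hdim : topologicalKrullDim X = 1)
    (h0 : Module.finrank k (Coh.HH X (Coh.structureModule X) 0) = 1) (hg : Curv2.genus k X = 0)
    (L : X.Modules) (hL : PicF.IsInvertible L) (hdeg : Curv2.deg k X L 1 = 0) :
    Nonempty (L ≅ Coh.structureModule X) := by
  have hLc := isCoh_of_isInvertible L hL
  have hOc := isCoh_of_isInvertible _
    (Groth.Agent.Lib.Helper23.TensorUnit.isInvertible_structureModule X)
  have e1 := euler_eq_h0_sub_h1 k X hdim.le L hLc.1
  have e2 := euler_eq_h0_sub_h1 k X hdim.le (Coh.structureModule X) hOc.1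
  have hg' : Module.finrank k (Coh.HH X (Coh.structureModule X) 1) = 0 := hg
  have hdeg' := hdeg
  unfold Curv2.deg at hdeg'
  rw [e1, e2, h0, hg'] at hdeg'
  have hpos : 0 < Module.finrank k (Coh.HH X L 0) := by
    push_cast at hdeg'
    omega
  haveI := finite_HH k X L hLc 0
  obtain ⟨x, hx⟩ : ∃ x : Coh.HH X L 0, x ≠ 0 := by
    by_contra hcon
    push_neg at hcon
    haveI : Subsingleton (Coh.HH X L 0) := subsingleton_of_forall_eq 0 hcon
    rw [Module.finrank_zero_of_subsingleton] at hpos
    exact lt_irrefl _ hpos
  let s : Coh.structureModule X ⟶ L := (Groth.Agent.Lib.R2H2.PnBeilinson.clsEquiv (k := k) L).symm x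
  have hs : s ≠ 0 := by
    intro h
    apply hx
    have := congrArg (Groth.Agent.Lib.R2H2.PnBeilinson.clsEquiv (k := k) L) h
    rw [LinearEquiv.apply_symm_apply, map_zero] at this
    exact this
  exact s1520 k X hdim L hL s hs hdeg.le

end Part1

end Groth.Agent.Lib.R2H1.CurveEuler
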