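import Mathlib
import Groth.Agent.Lib.Helper6ValTop
import Groth.Agent.Lib.Helper8Conn

/-! Generic points of the irreducible components of a Noetherian sober space (helper4, round 2). -/
set_option autoImplicit false
set_option linter.style.haveILetI false
universe u
open TopologicalSpace Set

namespace Groth.Agent.Lib.R2H4GVGen

variable (α : Type u) [TopologicalSpace α] [NoetherianSpace α] [QuasiSober α]

theorem exists_generic_family :
    ∃ (n : ℕ) (ξ : Fin n → α),
      (∀ c c', ξ c ⤳ ξ c' → c = c') ∧
      (∀ c (V : Opens α), ξ c ∉ V → ∃ W : Opens α, ξ c ∈ W ∧ W ⊓ V = ⊥) ∧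
      (∀ W : Opens α, (∀ c, ξ c ∈ W) →
        topologicalKrullDim ((W : Set α)ᶜ : Set α) + 1 ≤ topologicalKrullDim α) := by
  have hfin : (irreducibleComponents α).Finite := NoetherianSpace.finite_irreducibleComponents
  have : Finite (irreducibleComponents α) := hfin.to_subtype
  obtain ⟨n, ⟨e'⟩⟩ := Finite.exists_equiv_fin (irreducibleComponents α)
  let e : Fin n ≃ irreducibleComponents α := e'.symm
  have hirr : ∀ c, IsIrreducible ((e c : Set α)) := fun c => (e c).2.1
  have hcl : ∀ c, IsClosed ((e c : Set α)) := fun c =>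
    isClosed_of_mem_irreducibleComponents _ (e c).2
  have hmax : ∀ c (T : Set α), IsIrreducible T → (e c : Set α) ⊆ T → T ⊆ (e c : Set α) :=
    fun c T hT h => (e c).2.2 hT h
  choose ξ hξ using fun c => QuasiSober.sober (hirr c) (hcl c)
  have hinj : ∀ c c', (e c : Set α) ⊆ (e c' : Set α) → c = c' := by
    intro c c' h
    have h2 := hmax c _ (hirr c') h
    exact e.injective (Subtype.ext (h.antisymm h2))
  have hmem : ∀ c c', ξ c ∈ (e c' : Set α) → c = c' := by
    intro c c' h
    apply hinj
    rw [← (hξ c).def]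
    exact (hcl c').closure_subset_iff.2 (singleton_subset_iff.2 h)
  have hcov : ∀ y : α, ∃ c, y ∈ (e c : Set α) := by
    intro y
    refine ⟨e.symm ⟨irreducibleComponent y, irreducibleComponent_mem_irreducibleComponents y⟩, ?_⟩
    rw [Equiv.apply_symm_apply]
    exact mem_irreducibleComponent
  refine ⟨n, ξ, ?_, ?_, ?_⟩
  · intro c c' h
    have h1 : closure ({ξ c'} : Set α) ⊆ closure {ξ c} := specializes_iff_closure_subset.1 h
    rw [(hξ c).def, (hξ c').def] at h1
    exact (hinj c' c h1).symm
  · intro c V hV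
    have hclosed : IsClosed (⋃ c' : {c' : Fin n // c' ≠ c}, (e c'.1 : Set α)) :=
      isClosed_iUnion_of_finite fun c' => hcl c'.1
    refine ⟨⟨(⋃ c' : {c' : Fin n // c' ≠ c}, (e c'.1 : Set α))ᶜ, hclosed.isOpen_compl⟩, ?_, ?_⟩
    · intro h
      obtain ⟨c', hc'⟩ := mem_iUnion.1 h
      exact c'.2 (hmem c c'.1 hc').symm
    · rw [eq_bot_iff]
      intro y hy
      exfalso
      obtain ⟨hyW, hyV⟩ := hy
      obtain ⟨c'', hc''⟩ := hcov y
      have hcc : c'' = c := by
        by_contra hne
        exact hyW (mem_iUnion.2 ⟨⟨c'', hne⟩, hc''⟩)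
      subst hcc
      exact hV (((hξ c'').mem_open_set_iff V.isOpen).2 ⟨y, hc'', hyV⟩)
  · intro W hW
    set Z : Set α := (W : Set α)ᶜ with hZ
    have hZcl : IsClosed Z := W.isOpen.isClosed_compl
    have h1 := Groth.Agent.Lib.Helper6.ValTop.dim_le_iSup_of_finite_closed_cover Z
      (fun c : Fin n => (e c : Set α)) hcl (fun y _ => mem_iUnion.2 (hcov y))
    have h2 : ∀ c, topologicalKrullDim ↥((e c : Set α) ∩ Z) + 1 ≤ topologicalKrullDim α := by
      intro c
      by_cases hne : ((e c : Set α) ∩ Z).Nonempty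
      · have hproper : (e c : Set α) ∩ Z ≠ (e c : Set α) := by
          intro h
          have : ξ c ∈ (e c : Set α) ∩ Z := by rw [h]; exact (hξ c).mem
          exact this.2 (hW c)
        have h3 := Groth.Agent.Lib.Helper8.Conn.dim_add_one_le_of_proper_closed (hirr c)
          ((hcl c).inter hZcl) inter_subset_left hproper hne
        exact h3.trans (Topology.IsInducing.subtypeVal).topologicalKrullDim_le
      · rw [not_nonempty_iff_eq_empty] at hne
        have hemp : IsEmpty ↥((e c : Set α) ∩ Z) := by rw [hne]; infer_instance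
        have : topologicalKrullDim ↥((e c : Set α) ∩ Z) = ⊥ := by
          unfold topologicalKrullDim
          rw [Order.krullDim_eq_bot_iff]
          exact ⟨fun T => hemp.elim T.2.1.nonempty.some⟩
        rw [this, WithBot.bot_add]
        exact bot_le
    by_cases hn : Nonempty (Fin n)
    · obtain ⟨c₀, hc₀⟩ := Finite.exists_max (fun c : Fin n => topologicalKrullDim ↥((e c : Set α) ∩ Z))
      have h3 : topologicalKrullDim ↥Z ≤ topologicalKrullDim ↥((e c₀ : Set α) ∩ Z) :=
        h1.trans (iSup_le hc₀)
      exact (add_le_add_left h3 1).trans (h2 c₀)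
    · have hemp : IsEmpty ↥Z := by
        refine ⟨fun z => ?_⟩
        obtain ⟨c, _⟩ := hcov z.1
        exact hn ⟨c⟩
      have : topologicalKrullDim ↥Z = ⊥ := by
        unfold topologicalKrullDim
        rw [Order.krullDim_eq_bot_iff]
        exact ⟨fun T => hemp.elim T.2.1.nonempty.some⟩
      rw [this, WithBot.bot_add]
      exact bot_le

end Groth.Agent.Lib.R2H4GVGen
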