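import Mathlib
import Groth.Prelude.Def_CohTop
import Groth.Agent.Lib.Helper16Flasque

/-! Skyscraper embedding of an abelian sheaf at finitely many points (helper4, round 2). -/
set_option autoImplicit false
set_option linter.style.haveILetI false
universe u
open CategoryTheory CategoryTheory.Limits TopologicalSpace Opposite TopCat

namespace Groth.Agent.Lib.R2H4GVSky

variable {X : TopCat.{u}}

/-- abelian sheaves, Mathlib's spelling -/
abbrev Sh (X : TopCat.{u}) := TopCat.Sheaf AddCommGrpCat.{u} X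

instance : HasFiniteBiproducts (Sh X) := Abelian.hasFiniteBiproducts

/-- the stalk functor on abelian sheaves -/
noncomputable abbrev stk (x : X) : Sh X ⥤ AddCommGrpCat.{u} :=
  TopCat.Sheaf.forget AddCommGrpCat.{u} X ⋙ TopCat.Presheaf.stalkFunctor AddCommGrpCat.{u} x

open scoped Classical in
/-- skyscraper sheaf -/
noncomputable abbrev sky (x : X) (A : AddCommGrpCat.{u}) : Sh X := skyscraperSheaf x A

open scoped Classical in
instance (x : X) (A : AddCommGrpCat.{u}) : TopCat.Sheaf.IsFlasque (sky x A) :=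
  isFlasque_skyscraperSheaf_of_hasZeroObject x A

open scoped Classical in
/-- the unit `F ⟶ sky x F_x` -/
noncomputable abbrev η (x : X) (F : Sh X) : F ⟶ sky x ((stk x).obj F) :=
  (stalkSkyscraperSheafAdjunction x).unit.app F

theorem isIso_map_unit {C D : Type*} [Category C] [Category D] {L : C ⥤ D} {R : D ⥤ C}
    (adj : L ⊣ R) (F : C) [IsIso (adj.counit.app (L.obj F))] : IsIso (L.map (adj.unit.app F)) := by
  have h := adj.left_triangle_components F
  refine ⟨⟨adj.counit.app (L.obj F), h, ?_⟩⟩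
  rw [← cancel_mono (adj.counit.app (L.obj F)), Category.assoc, h]
  simp

open scoped Classical in
instance isIso_stk_η (x : X) (F : Sh X) : IsIso ((stk x).map (η x F)) := by
  have hiso : IsIso ((stalkSkyscraperSheafAdjunction (C := AddCommGrpCat.{u}) x).counit.app
      ((stk x).obj F)) := by
    change IsIso (skyscraperPresheafStalkOfSpecializes x _ specializes_rfl).hom
    infer_instance
  exact isIso_map_unit (stalkSkyscraperSheafAdjunction (C := AddCommGrpCat.{u}) x) F

open scoped Classical in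
theorem isZero_stk_sky {x y : X} (h : ¬ x ⤳ y) (A : AddCommGrpCat.{u}) :
    IsZero ((stk y).obj (sky x A)) := by
  have hT : IsTerminal ((stk y).obj (sky x A)) :=
    skyscraperPresheafStalkOfNotSpecializesIsTerminal x A h
  exact IsZero.of_iso (isZero_zero _) (hT.uniqueUpToIso HasZeroObject.zeroIsTerminal)

/-- an additive functor kills a finite biproduct of objects it kills -/
theorem isZero_map_biproduct {C D : Type*} [Category C] [Category D] [Preadditive C] [Preadditive D]
    (Φ : C ⥤ D) [Φ.Additive] {ι : Type} [Fintype ι] (G : ι → C) [HasBiproduct G]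
    (h : ∀ c, IsZero (Φ.obj (G c))) : IsZero (Φ.obj (⨁ G)) := by
  rw [IsZero.iff_id_eq_zero, ← Φ.map_id]
  rw [← biproduct.total (f := G), Φ.map_sum]
  refine Finset.sum_eq_zero fun c _ => ?_
  rw [Φ.map_comp, (h c).eq_of_tgt (Φ.map (biproduct.π G c)) 0, zero_comp]


section Emb

variable {n : ℕ} (ξ : Fin n → X)

/-- the flasque-acyclic target -/
noncomputable abbrev tgt (F : Sh X) : Sh X := ⨁ fun c : Fin n => sky (ξ c) ((stk (ξ c)).obj F)

/-- the embedding-at-generic-points map -/
noncomputable abbrev emb (F : Sh X) : F ⟶ tgt ξ F := biproduct.lift fun c => η (ξ c) F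

theorem subsingleton_H_tgt (F : Sh X) (p : ℕ) : Subsingleton (CohTop.H (tgt ξ F) (p + 1)) := by
  let Φ : Sh X ⥤ AddCommGrpCat.{u} := Sheaf.functorH (Opens.grothendieckTopology X) (p + 1)
  have : Φ.Additive :=
    inferInstanceAs ((Sheaf.functorH (Opens.grothendieckTopology X) (p + 1)).Additive)
  have hz : IsZero (Φ.obj (tgt ξ F)) := by
    refine isZero_map_biproduct Φ _ fun c => ?_
    have hs : Subsingleton (CohTop.H (sky (ξ c) ((stk (ξ c)).obj F)) (p + 1)) :=
      Groth.Agent.Lib.Helper16.Flasque.H_subsingleton _ p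
    exact @AddCommGrpCat.isZero_of_subsingleton (Φ.obj (sky (ξ c) ((stk (ξ c)).obj F))) hs
  exact AddCommGrpCat.subsingleton_of_isZero hz

variable (h1 : ∀ c c', ξ c ⤳ ξ c' → c = c')

include h1 in
theorem isIso_stk_π (F : Sh X) (c₀ : Fin n) :
    IsIso ((stk (ξ c₀)).map (biproduct.π (fun c : Fin n => sky (ξ c) ((stk (ξ c)).obj F)) c₀)) := by
  set G := fun c : Fin n => sky (ξ c) ((stk (ξ c)).obj F) with hG
  set L := stk (ξ c₀) with hL
  have hz : ∀ c, c ≠ c₀ → L.map (biproduct.π G c ≫ biproduct.ι G c) = 0 := by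
    intro c hc
    have hzero : IsZero (L.obj (G c)) := isZero_stk_sky (fun h => hc (h1 c c₀ h)) _
    rw [L.map_comp, hzero.eq_of_tgt (L.map (biproduct.π G c)) 0, zero_comp]
  have htot : L.map (biproduct.π G c₀ ≫ biproduct.ι G c₀) = 𝟙 _ := by
    rw [← L.map_id, ← biproduct.total (f := G), L.map_sum]
    exact (Finset.sum_eq_single c₀ (fun c _ hc => hz c hc)
      (fun h => absurd (Finset.mem_univ _) h)).symm
  refine ⟨⟨L.map (biproduct.ι G c₀), ?_, ?_⟩⟩
  · rw [← L.map_comp]; exact htot
  · rw [← L.map_comp, biproduct.ι_π_self, L.map_id]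

include h1 in
theorem isIso_stk_emb (F : Sh X) (c₀ : Fin n) : IsIso ((stk (ξ c₀)).map (emb ξ F)) := by
  have := isIso_stk_π ξ h1 F c₀
  have h : (stk (ξ c₀)).map (emb ξ F) ≫
      (stk (ξ c₀)).map (biproduct.π (fun c : Fin n => sky (ξ c) ((stk (ξ c)).obj F)) c₀) =
      (stk (ξ c₀)).map (η (ξ c₀) F) := by
    rw [← Functor.map_comp, biproduct.lift_π]
  exact IsIso.of_isIso_fac_right h

include h1 in
theorem isZero_stk_kernel (F : Sh X) (c₀ : Fin n) :
    IsZero ((stk (ξ c₀)).obj (kernel (emb ξ F))) := by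
  have := isIso_stk_emb ξ h1 F c₀
  exact IsZero.of_iso (isZero_kernel_of_mono _) (PreservesKernel.iso (stk (ξ c₀)) (emb ξ F))

include h1 in
theorem isZero_stk_cokernel (F : Sh X) (c₀ : Fin n) :
    IsZero ((stk (ξ c₀)).obj (cokernel (emb ξ F))) := by
  have := isIso_stk_emb ξ h1 F c₀
  exact IsZero.of_iso (isZero_cokernel_of_epi _) (PreservesCokernel.iso (stk (ξ c₀)) (emb ξ F))

end Emb

end Groth.Agent.Lib.R2H4GVSky
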