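import Mathlib
import Groth.Prelude.Def_CohTop
import Groth.Agent.Lib.Helper9AlgSite

/-! Cohomology on a Noetherian space commutes with filtered colimits (helper4, round 2). -/
set_option autoImplicit false
set_option linter.style.haveILetI false
universe u
open CategoryTheory CategoryTheory.Limits TopologicalSpace Opposite

namespace Groth.Agent.Lib.R2H4GVColim

variable {X : TopCat.{u}}

theorem isQCSite_opens [NoetherianSpace X] (U : Opens X) :
    ToposFin.IsQCSite (Opens.grothendieckTopology X) U := by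
  intro S hS
  have hcompact : IsCompact (U : Set X) := NoetherianSpace.isCompact _
  let I := {V : Opens X // ∃ f : V ⟶ U, S f}
  have hcov : (U : Set X) ⊆ ⋃ i : I, ((i.1 : Opens X) : Set X) := by
    intro x hx
    obtain ⟨V, f, hf, hxV⟩ := hS x hx
    exact Set.mem_iUnion.2 ⟨⟨V, f, hf⟩, hxV⟩
  obtain ⟨t, ht⟩ := hcompact.elim_finite_subcover (fun i : I => ((i.1 : Opens X) : Set X))
    (fun i => i.1.isOpen) hcov
  let e := t.equivFin
  refine ⟨t.card, fun k => ((e.symm k : t) : I).1, fun k => ((e.symm k : t) : I).2.choose,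
    fun k => ((e.symm k : t) : I).2.choose_spec, ?_⟩
  intro x hx
  obtain ⟨i, hi⟩ := Set.mem_iUnion.1 (ht hx)
  obtain ⟨hit, hxi⟩ := Set.mem_iUnion.1 hi
  have hk : ((e.symm (e ⟨i, hit⟩) : t) : I) = i := by rw [Equiv.symm_apply_apply]
  refine ⟨((e.symm (e ⟨i, hit⟩) : t) : I).1, ((e.symm (e ⟨i, hit⟩) : t) : I).2.choose,
    Sieve.ofArrows_mk (fun k => ((e.symm k : t) : I).1)
      (fun k => ((e.symm k : t) : I).2.choose) (e ⟨i, hit⟩), ?_⟩
  rw [hk]
  exact hxi

theorem preservesColimitsOfShape_H [NoetherianSpace X] (Λ : Type u) [SmallCategory Λ]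
    [IsFiltered Λ] (q : ℕ) :
    PreservesColimitsOfShape Λ (Sheaf.functorH.{u, u, u, u} (Opens.grothendieckTopology X) q :
      Sheaf (Opens.grothendieckTopology X) AddCommGrpCat.{u} ⥤ AddCommGrpCat.{u}) := by
  refine Groth.Agent.Lib.Helper9.AlgSite.preservesColimitsOfShape_functorH'
    (fun U => isQCSite_opens U) (fun _ : PUnit.{1} => (⊤ : Opens X)) ?_ Λ q
  intro V
  refine ⟨⊤, (Opens.grothendieckTopology X).top_mem V, fun W f _ => ⟨PUnit.unit, ⟨homOfLE le_top⟩⟩⟩

theorem subsingleton_H_of_isColimit [NoetherianSpace X] {Λ : Type u} [SmallCategory Λ]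
    [IsFiltered Λ] (D : Λ ⥤ CohTop.Ab X) (c : Cocone D) (hc : IsColimit c) (q : ℕ)
    (h : ∀ l, Subsingleton (CohTop.H (D.obj l) q)) : Subsingleton (CohTop.H c.pt q) := by
  haveI := preservesColimitsOfShape_H (X := X) Λ q
  let Φ : CohTop.Ab X ⥤ AddCommGrpCat.{u} :=
    Sheaf.functorH.{u, u, u, u} (Opens.grothendieckTopology X) q
  have hc' : IsColimit (Φ.mapCocone c) := isColimitOfPreserves Φ hc
  have hz : IsZero (Φ.mapCocone c).pt := by
    rw [IsZero.iff_id_eq_zero]
    refine hc'.hom_ext fun l => ?_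
    have hl : IsZero ((D ⋙ Φ).obj l) :=
      @AddCommGrpCat.isZero_of_subsingleton ((D ⋙ Φ).obj l) (h l)
    exact hl.eq_of_src _ _
  exact AddCommGrpCat.subsingleton_of_isZero hz

end Groth.Agent.Lib.R2H4GVColim
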