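import Mathlib
import Groth.Prelude.Def_CohTop
import Groth.Prelude.Def_LocCohZ
import Groth.Agent.Lib.Helper16SectSupp
import Groth.Agent.Lib.R2H4GVColim

/-! A sheaf which is a directed union of subsheaves of sections with supports (helper4, round 2). -/
set_option autoImplicit false
set_option linter.style.haveILetI false
universe u
open CategoryTheory CategoryTheory.Limits TopologicalSpace Opposite

namespace Groth.Agent.Lib.R2H4GVUnion

open Groth.Agent.Lib.Helper16.ClosedEmb Groth.Agent.Lib.Helper16.SectSupp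

attribute [local instance] IsFiltered.isConnected

variable {X : TopCat.{u}} (K : CohTop.Ab X) {Λ : Type u} [Preorder Λ] (W : Λ → Opens X)
  (hW : Antitone W)

include hW in
theorem ι_comp_η {l l' : Λ} (h : l ≤ l') : ιΓ (W l) K ≫ ηJ (W l') K = 0 := by
  apply Sheaf.hom_ext
  ext V t
  change (ηJ (W l') K).hom.app V ((ιΓ (W l) K).hom.app V t) = 0
  obtain ⟨V⟩ := V
  rw [unit_eq_zero_iff]
  have h1 := (exists_sectSupp_iff (W l) K V ((ιΓ (W l) K).hom.app (op V) t)).1 ⟨t, rfl⟩
  have hle : V ⊓ W l' ≤ V ⊓ W l := inf_le_inf_left V (hW h)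
  have h2 : K.obj.map (homOfLE (inf_le_left : V ⊓ W l' ≤ V)).op ((ιΓ (W l) K).hom.app (op V) t) =
      K.obj.map (homOfLE hle).op
        (K.obj.map (homOfLE (inf_le_left : V ⊓ W l ≤ V)).op ((ιΓ (W l) K).hom.app (op V) t)) :=
    (map_map_apply K _ _ _ _).symm
  rw [h2, h1, map_zero]

/-- the diagram of subsheaves of sections with supports -/
noncomputable def D : Λ ⥤ CohTop.Ab X where
  obj l := (LocCohZ.sectSuppF (W l)).obj K
  map {l l'} f := kernel.lift (ηJ (W l') K) (ιΓ (W l) K) (ι_comp_η K W hW (leOfHom f))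
  map_id l := by
    rw [← cancel_mono (ιΓ (W l) K)]
    erw [kernel.lift_ι]
    simp
  map_comp {l l' l''} f g := by
    rw [← cancel_mono (ιΓ (W l'') K), Category.assoc]
    erw [kernel.lift_ι, kernel.lift_ι, kernel.lift_ι]

/-- the cocone with vertex `K` -/
noncomputable def cc : Cocone (D K W hW) where
  pt := K
  ι :=
    { app := fun l => ιΓ (W l) K
      naturality := fun l l' f => by
        dsimp [D]
        erw [kernel.lift_ι]
        simp }

variable [IsDirected Λ (· ≤ ·)] [Nonempty Λ]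

theorem mono_desc : Mono (colimit.desc (D K W hW) (cc K W hW)) := by
  let α : D K W hW ⟶ (Functor.const Λ).obj K :=
    { app := fun l => ιΓ (W l) K
      naturality := fun l l' f => (cc K W hW).ι.naturality f }
  have : ∀ l, Mono (α.app l) := fun l => mono_ιΓ (W l) K
  have := NatTrans.mono_of_mono_app α
  exact colim.map_mono' α (colimit.isColimit _) (isColimitConstCocone Λ K) _ (by
    intro l
    have h1 : colimit.ι (D K W hW) l ≫ colimit.desc (D K W hW) (cc K W hW) = ιΓ (W l) K :=
      colimit.ι_desc _ _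
    refine h1.trans ?_
    change ιΓ (W l) K = ιΓ (W l) K ≫ 𝟙 K
    rw [Category.comp_id])

omit [IsDirected Λ (· ≤ ·)] [Nonempty Λ] in
theorem epi_desc (hK : ∀ (V : Opens X) (s : K.obj.obj (op V)),
      ∃ l, K.obj.map (homOfLE (inf_le_left : V ⊓ W l ≤ V)).op s = 0) :
    Epi (colimit.desc (D K W hW) (cc K W hW)) := by
  rw [locSurj_iff]
  intro V t x hx
  obtain ⟨l, hl⟩ := hK V t
  obtain ⟨t', ht'⟩ := (exists_sectSupp_iff (W l) K V t).2 hl
  refine ⟨V, le_rfl, ⟨(colimit.ι (D K W hW) l).hom.app (op V) t', ?_⟩, hx⟩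
  have h1 : colimit.ι (D K W hW) l ≫ colimit.desc (D K W hW) (cc K W hW) = ιΓ (W l) K :=
    colimit.ι_desc _ _
  have h2 := congrArg (fun m => m.hom.app (op V) t') h1
  refine Eq.trans h2 (ht'.trans ?_)
  simp

include hW in
theorem subsingleton_H [NoetherianSpace X]
    (hK : ∀ (V : Opens X) (s : K.obj.obj (op V)),
      ∃ l, K.obj.map (homOfLE (inf_le_left : V ⊓ W l ≤ V)).op s = 0) (q : ℕ)
    (h : ∀ l, Subsingleton (CohTop.H ((LocCohZ.sectSuppF (W l)).obj K) q)) :
    Subsingleton (CohTop.H K q) := by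
  have h1 : Subsingleton (CohTop.H (colimit (D K W hW)) q) :=
    Groth.Agent.Lib.R2H4GVColim.subsingleton_H_of_isColimit (D K W hW) (colimit.cocone _)
      (colimit.isColimit _) q h
  have := mono_desc K W hW
  have := epi_desc K W hW hK
  have : IsIso (colimit.desc (D K W hW) (cc K W hW)) := isIso_of_mono_of_epi _
  let e := (Sheaf.functorH.{u, u, u, u} (Opens.grothendieckTopology X) q).mapIso
    (asIso (colimit.desc (D K W hW) (cc K W hW)))
  exact @Equiv.subsingleton _ _ (e.symm.addCommGroupIsoToAddEquiv.toEquiv) h1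

end Groth.Agent.Lib.R2H4GVUnion
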