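import Groth.Agent.Lib.R2H1DegTensor
import Groth.Agent.Lib.Helper10RatFunNoeth
import Groth.Agent.Lib.Helper10RedInd
import Groth.Agent.Lib.Helper23UnitStalk
set_option backward.isDefEq.respectTransparency.types false

/-!
# Degree as a sum over irreducible components (S1641)

For a proper scheme `X` of dimension `≤ 1` over a field and `E` finite locally free of rank `n`:
`χ(E ⊗ F) - n χ(F) = ∑_Z length(F_{ξ_Z}) · deg(E|_{Z_red})` over the one-dimensional irreducible
components (`dE_eq_Lam`), by dévissage.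

* `cI Z hZ` : the reduced induced ideal of an irreducible component; `range_cι`, `isReduced_cS`,
  `irreducibleSpace_cS`, `isIntegral_cS`, `cι_genericPoint`, `dim_cS`.
* `lenAt`, `length_ne_top`, `len_add`, `len_congr`, `degC`, `Lam`, `Lam_add`.
* `mem_irreducibleComponents_of_dim_one`, `dE`, `dE_pushO`, `deg_eq_zero_of_dim_zero`.
* `length_pushO_generic`, `prop_component`, `prop_other`, `dE_eq_Lam`, `s1641`.
-/

set_option autoImplicit false
set_option linter.style.haveILetI false
set_option linter.unusedSectionVars false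
universe u v

open CategoryTheory CategoryTheory.Limits AlgebraicGeometry TopologicalSpace Opposite

namespace Groth.Agent.Lib.R2H1.DegComponents

section Part1

open Groth.Agent.Lib.Helper10.RatFunNoeth

variable {X : Scheme.{u}} [IsNoetherian X] (Z : Set X) (hZ : Z ∈ irreducibleComponents (X : Type u))

/-- the reduced induced ideal of an irreducible component -/
noncomputable abbrev cI : X.IdealSheafData := (X.irreducibleComponentIdeal Z hZ).radical

theorem range_cι : Set.range ⇑(cI Z hZ).subschemeι = Z := by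
  rw [Scheme.IdealSheafData.range_subschemeι]
  rfl

theorem isReduced_cS : IsReduced (cI Z hZ).subscheme := by
  have h := Groth.Agent.Lib.Helper10.RedInd.isReduced_subscheme_vanishingIdeal
    (X.irreducibleComponentIdeal Z hZ).support
  rw [Scheme.IdealSheafData.vanishingIdeal_support] at h
  exact h

theorem irreducibleSpace_cS : IrreducibleSpace (cI Z hZ).subscheme := by
  have hrange := range_cι Z hZ
  have hirr : IsIrreducible (Set.range ⇑(cI Z hZ).subschemeι) := by rw [hrange]; exact hZ.1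
  have h1 : IrreducibleSpace (Set.range ⇑(cI Z hZ).subschemeι) := Subtype.irreducibleSpace hirr
  obtain ⟨y, hy⟩ := hirr.nonempty
  obtain ⟨z', -⟩ := hy
  have : Nonempty (cI Z hZ).subscheme := ⟨z'⟩
  exact ((cI Z hZ).subschemeι.isClosedEmbedding.isEmbedding.toHomeomorph.symm.symm.isOpenEmbedding).irreducibleSpace

theorem isIntegral_cS : IsIntegral (cI Z hZ).subscheme := by
  haveI := isReduced_cS Z hZ
  haveI := irreducibleSpace_cS Z hZ
  exact isIntegral_of_irreducibleSpace_of_isReduced _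

theorem cι_genericPoint :
    haveI := isIntegral_cS Z hZ
    (cI Z hZ).subschemeι (genericPoint (cI Z hZ).subscheme) = gp X ⟨Z, hZ⟩ := by
  haveI := isIntegral_cS Z hZ
  have hrange := range_cι Z hZ
  have h1 : IsGenericPoint ((cI Z hZ).subschemeι (genericPoint (cI Z hZ).subscheme)) Z := by
    change closure {(cI Z hZ).subschemeι (genericPoint (cI Z hZ).subscheme)} = Z
    rw [← Set.image_singleton, (cI Z hZ).subschemeι.isClosedEmbedding.closure_image_eq,
      (genericPoint_spec (cI Z hZ).subscheme).def, Set.image_univ, hrange]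
  have h2 : IsGenericPoint (gp X ⟨Z, hZ⟩) Z := closure_gp X ⟨Z, hZ⟩
  exact h1.eq h2

theorem dim_cS : topologicalKrullDim (cI Z hZ).subscheme = topologicalKrullDim Z := by
  have hrange := range_cι Z hZ
  have h1 := IsHomeomorph.topologicalKrullDim_eq _
    (cI Z hZ).subschemeι.isClosedEmbedding.isEmbedding.toHomeomorph.isHomeomorph
  rw [h1, hrange]

end Part1

section Part2


open Groth.Agent.Lib.Helper10.RatFunNoeth
open Groth.Agent.Lib.Helper4.NormDelta Groth.Agent.Lib.Helper23.StalkLin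

section Len

variable (X : Scheme.{u}) [IsNoetherian X]

/-- the length of a module at the generic point of an irreducible component -/
noncomputable def lenAt (Z : irreducibleComponents (X : Type u)) (F : X.Modules) : ℕ :=
  (Module.length (X.presheaf.stalk (gp X Z)) (F.presheaf.stalk (gp X Z))).toNat

theorem length_ne_top (Z : irreducibleComponents (X : Type u)) (F : X.Modules)
    (hF : Coh.IsCoh F) :
    Module.length (X.presheaf.stalk (gp X Z)) (F.presheaf.stalk (gp X Z)) ≠ ⊤ := by
  haveI := isArtinianRing_stalk X Z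
  haveI := Groth.Agent.Lib.R2H2.DevA.finite_stalk F hF (gp X Z)
  exact Module.length_ne_top

theorem len_add (Z : irreducibleComponents (X : Type u)) (S : ShortComplex X.Modules)
    (hS : S.ShortExact) (c₁ : Coh.IsCoh S.X₁) (c₃ : Coh.IsCoh S.X₃) :
    lenAt X Z S.X₂ = lenAt X Z S.X₁ + lenAt X Z S.X₃ := by
  haveI := hS.mono_f
  haveI := hS.epi_g
  have h := Module.length_eq_add_of_exact (stalkLin S.f (gp X Z)) (stalkLin S.g (gp X Z))
    (stalkLin_injective S.f _) (stalkLin_surjective S.g _) (stalkLin_exact S hS _)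
  unfold lenAt
  rw [h, ENat.toNat_add (length_ne_top X Z S.X₁ c₁) (length_ne_top X Z S.X₃ c₃)]

theorem len_congr (Z : irreducibleComponents (X : Type u)) {M N : X.Modules} (e : M ≅ N) :
    lenAt X Z M = lenAt X Z N := by
  unfold lenAt
  rw [(LinearEquiv.ofBijective (stalkLin e.hom (gp X Z))
    ⟨stalkLin_injective e.hom _, stalkLin_surjective e.hom _⟩).length_eq]

theorem len_eq_zero_of_not_mem_support (Z : irreducibleComponents (X : Type u)) (F : X.Modules)
    (h : gp X Z ∉ CohB1.support F) : lenAt X Z F = 0 := by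
  haveI : Subsingleton (F.presheaf.stalk (gp X Z)) := not_not.mp h
  unfold lenAt
  rw [Module.length_eq_zero]
  rfl

end Len

section Lam

variable (k : Type u) [Field k] (X : Scheme.{u}) [X.Over (Spec (CommRingCat.of k))]
    [IsProper (X ↘ (Spec (CommRingCat.of k)))] [IsNoetherian X]

/-- the degree of `E` on the reduced irreducible component `Z` -/
noncomputable def degC (n : ℕ) (E : X.Modules) (Z : irreducibleComponents (X : Type u)) : ℤ :=
  @Curv2.deg k _ (cI Z.1 Z.2).subscheme ⟨(cI Z.1 Z.2).subschemeι ≫ (X ↘ (Spec (CommRingCat.of k)))⟩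
    ((Scheme.Modules.pullback (cI Z.1 Z.2).subschemeι).obj E) n

noncomputable def term (n : ℕ) (E F : X.Modules) (Z : irreducibleComponents (X : Type u)) : ℤ :=
  if topologicalKrullDim (Z.1 : Set X) = 1 then (lenAt X Z F : ℤ) * degC k X n E Z else 0

noncomputable def Lam (n : ℕ) (E F : X.Modules) : ℤ :=
  ∑ᶠ Z : irreducibleComponents (X : Type u), term k X n E F Z

theorem Lam_add (n : ℕ) (E : X.Modules) (S : ShortComplex X.Modules)
    (hS : S.ShortExact) (c₁ : Coh.IsCoh S.X₁) (c₃ : Coh.IsCoh S.X₃) :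
    Lam k X n E S.X₂ = Lam k X n E S.X₁ + Lam k X n E S.X₃ := by
  unfold Lam
  rw [← finsum_add_distrib (Set.toFinite _) (Set.toFinite _)]
  refine finsum_congr fun Z => ?_
  unfold term
  split_ifs
  · rw [len_add X Z S hS c₁ c₃]
    push_cast
    ring
  · simp

theorem Lam_congr (n : ℕ) (E : X.Modules) {M N : X.Modules} (e : M ≅ N) :
    Lam k X n E M = Lam k X n E N := by
  unfold Lam
  refine finsum_congr fun Z => ?_
  unfold term
  rw [len_congr X Z e]

end Lam

end Part2

section Part3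


open Groth.Agent.Lib.Helper10.RatFunNoeth
open Groth.Agent.Lib.Helper4.NormDelta Groth.Agent.Lib.Helper23.StalkLin
open Groth.Agent.Lib.R2H1.DegTensor
open Groth.Agent.Lib.R2H1.BirDeg Groth.Agent.Lib.R2H1.GenusLe Groth.Agent.Lib.R2H1.DegCartier
  Groth.Agent.Lib.R2H1.EulerAdd Groth.Agent.Lib.R2H1.SkyDecomp Groth.Agent.Lib.R2H1.CurveEuler
  Groth.Agent.Lib.R2H1.CurveDegSec Groth.Agent.Lib.Helper21.Dual
  Groth.Agent.Lib.Helper21.ModTensor Groth.Agent.Lib.Helper21.ModTensor2
  Groth.Agent.Lib.Helper21.ModTensor5 Groth.Agent.Lib.R2H1.ZeroDimCoh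
  Groth.Agent.Lib.R2H1.EulerTensor Groth.Agent.Lib.R2H1.ProjLF Groth.Agent.Lib.Helper1.PT

section Top

variable {T : Type*} [TopologicalSpace T]

/-- in a space of dimension `≤ 1`, an irreducible closed subset of dimension `1` is an irreducible
component -/
theorem mem_irreducibleComponents_of_dim_one (hdim : topologicalKrullDim T ≤ 1) (Z₀ : Set T)
    (hcl : IsClosed Z₀) (hirr : IsIrreducible Z₀) (h1 : ¬ topologicalKrullDim Z₀ ≤ 0) :
    Z₀ ∈ irreducibleComponents T := by
  obtain ⟨Z, hZ, hsub⟩ := exists_mem_irreducibleComponents_subset_of_isIrreducible Z₀ hirr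
  suffices h : Z ⊆ Z₀ by
    rw [subset_antisymm hsub h]; exact hZ
  haveI : IrreducibleSpace Z := Subtype.irreducibleSpace hZ.1
  have hdZ : topologicalKrullDim Z ≤ 1 := (topologicalKrullDim_subspace_le T Z).trans hdim
  by_contra hcon
  have hne : (Subtype.val ⁻¹' Z₀ : Set Z) ≠ Set.univ := by
    intro hu
    apply hcon
    intro x hx
    have : (⟨x, hx⟩ : Z) ∈ (Subtype.val ⁻¹' Z₀ : Set Z) := hu ▸ Set.mem_univ _
    exact this
  have hd := dim_le_zero_of_ne_univ hdZ _ (hcl.preimage continuous_subtype_val) hne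
  apply h1
  refine le_trans ?_ hd
  let f : Z₀ → (Subtype.val ⁻¹' Z₀ : Set Z) := fun x => ⟨⟨x.1, hsub x.2⟩, x.2⟩
  have hf : Continuous f := by
    refine Continuous.subtype_mk (Continuous.subtype_mk continuous_subtype_val _) _
  have hind : Topology.IsInducing f := by
    refine Topology.IsInducing.of_comp hf
      (continuous_subtype_val.comp continuous_subtype_val) ?_
    exact Topology.IsInducing.subtypeVal
  exact Topology.IsInducing.topologicalKrullDim_le hind

end Top

section DE

variable (k : Type u) [Field k] (X : Scheme.{u}) [X.Over (Spec (CommRingCat.of k))]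
    [IsProper (X ↘ (Spec (CommRingCat.of k)))]

/-- `χ(E ⊗ F) - n χ(F)` -/
noncomputable def dE (n : ℕ) (E F : X.Modules) : ℤ :=
  Curv2.euler k X (CohB1.tensorMod E F) - n * Curv2.euler k X F

theorem dE_add (n : ℕ) (E : X.Modules) (hE : FlatMod.IsFinLocFreeOfRank n E)
    (S : ShortComplex X.Modules) (hS : S.ShortExact)
    (c₁ : Coh.IsCoh S.X₁) (c₂ : Coh.IsCoh S.X₂) (c₃ : Coh.IsCoh S.X₃) :
    dE k X n E S.X₂ = dE k X n E S.X₁ + dE k X n E S.X₃ := by
  have a := s1524 k X S hS c₁ c₂ c₃
  obtain ⟨-, b⟩ := euler_tensor_add k X E hE S hS c₁ c₂ c₃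
  unfold dE
  rw [a, b]
  ring

theorem dE_congr (n : ℕ) (E : X.Modules) {M N : X.Modules} (e : M ≅ N) :
    dE k X n E M = dE k X n E N := by
  have h1 : Curv2.euler k X (CohB1.tensorMod E M) = Curv2.euler k X (CohB1.tensorMod E N) :=
    euler_congr k ((DCoh.tensorBi.obj E).mapIso e)
  unfold dE
  rw [h1, euler_congr k e]

theorem dE_structure (n : ℕ) (E : X.Modules) :
    dE k X n E (Coh.structureModule X) = Curv2.deg k X E n := by
  have h2 : Curv2.euler k X (CohB1.tensorMod E (Coh.structureModule X)) = Curv2.euler k X E :=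
    euler_congr k (rU X.sheaf E)
  unfold dE Curv2.deg
  rw [h2]

end DE

section Push

variable (k : Type u) [Field k] {X W : Scheme.{u}} [X.Over (Spec (CommRingCat.of k))]
    [W.Over (Spec (CommRingCat.of k))]
    [IsProper (X ↘ (Spec (CommRingCat.of k)))] [IsProper (W ↘ (Spec (CommRingCat.of k)))]

theorem dE_pushO (i : W ⟶ X) [IsAffineHom i]
    (hi : i ≫ (X ↘ (Spec (CommRingCat.of k))) = W ↘ (Spec (CommRingCat.of k)))
    {n : ℕ} (E : X.Modules) (hE : FlatMod.IsFinLocFreeOfRank n E) :
    dE k X n E ((psh i).obj (Coh.structureModule W)) = Curv2.deg k W ((plb i).obj E) n := by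
  have h2 := euler_tensor_push k i hi E hE (Coh.structureModule W) (isCoh_structureModule W)
  have h3 := euler_push k i hi (Coh.structureModule W) (isCoh_structureModule W).1
  rw [← dE_structure]
  unfold dE
  rw [h2, ← h3]

theorem deg_eq_zero_of_dim_zero (hdim : topologicalKrullDim W ≤ 0) (n : ℕ) (E : W.Modules)
    (hE : FlatMod.IsFinLocFreeOfRank n E) : Curv2.deg k W E n = 0 := by
  have hO := isCoh_structureModule W
  have hs : topologicalKrullDim (CohB1.support (Coh.structureModule W)) ≤ 0 :=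
    (topologicalKrullDim_subspace_le W _).trans hdim
  have h2 : Curv2.euler k W (CohB1.tensorMod E (Coh.structureModule W)) =
      n * Curv2.euler k W (Coh.structureModule W) :=
    (euler_congr k (brdApp W.sheaf E (Coh.structureModule W))).trans
      (s1558 k W (Coh.structureModule W) hO hs n E hE)
  rw [← dE_structure]
  unfold dE
  rw [h2]
  ring

end Push

end Part3

section Part4


open Groth.Agent.Lib.Helper10.RatFunNoeth
open Groth.Agent.Lib.Helper4.NormDelta Groth.Agent.Lib.Helper23.StalkLin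
open Groth.Agent.Lib.R2H1.DegTensor
open Groth.Agent.Lib.R2H1.BirDeg Groth.Agent.Lib.R2H1.GenusLe Groth.Agent.Lib.R2H1.DegCartier
  Groth.Agent.Lib.R2H1.EulerAdd Groth.Agent.Lib.R2H1.SkyDecomp Groth.Agent.Lib.R2H1.CurveEuler
  Groth.Agent.Lib.R2H1.CurveDegSec Groth.Agent.Lib.Helper21.Dual
  Groth.Agent.Lib.Helper21.ModTensor Groth.Agent.Lib.Helper21.ModTensor2
  Groth.Agent.Lib.Helper21.ModTensor5 Groth.Agent.Lib.R2H1.ZeroDimCoh
  Groth.Agent.Lib.R2H1.EulerTensor Groth.Agent.Lib.R2H1.ProjLF Groth.Agent.Lib.Helper1.PT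

theorem length_stalk_congr {X : Scheme.{u}} (G : X.Modules) (y y' : X) (h : y = y') :
    Module.length (X.presheaf.stalk y) (G.presheaf.stalk y) =
      Module.length (X.presheaf.stalk y') (G.presheaf.stalk y') := by
  subst h
  rfl

/-- the stalk of `i_* O_W` at the image of the generic point has length one -/
theorem length_pushO_generic {X W : Scheme.{u}} (i : W ⟶ X) [IsClosedImmersion i] [IsIntegral W] :
    Module.length (X.presheaf.stalk (i (genericPoint W)))
      (((Scheme.Modules.pushforward i).obj (Coh.structureModule W)).presheaf.stalk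
        (i (genericPoint W))) = 1 := by
  obtain ⟨eN⟩ := Groth.Agent.Lib.R2H2.DevI.nonempty_stalk_pushO_equiv' i
  haveI : IsSimpleModule (X.presheaf.stalk (i (genericPoint W)))
      (((Scheme.Modules.pushforward i).obj (Coh.structureModule W)).presheaf.stalk
        (i (genericPoint W))) :=
    isSimpleModule_iff_quot_maximal.mpr
      ⟨IsLocalRing.maximalIdeal (X.presheaf.stalk (i (genericPoint W))), inferInstance, ⟨eN⟩⟩
  exact Module.length_eq_one _ _

variable (k : Type u) [Field k] (X : Scheme.{u}) [X.Over (Spec (CommRingCat.of k))]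
    [IsProper (X ↘ (Spec (CommRingCat.of k)))] [IsNoetherian X]

theorem prop_component (n : ℕ) (E : X.Modules) (hE : FlatMod.IsFinLocFreeOfRank n E)
    (Z₀ : irreducibleComponents (X : Type u)) (hd : topologicalKrullDim (Z₀.1 : Set X) = 1) :
    dE k X n E ((psh (cI Z₀.1 Z₀.2).subschemeι).obj (Coh.structureModule (cI Z₀.1 Z₀.2).subscheme)) =
      Lam k X n E
        ((psh (cI Z₀.1 Z₀.2).subschemeι).obj (Coh.structureModule (cI Z₀.1 Z₀.2).subscheme)) := by
  haveI := isIntegral_cS Z₀.1 Z₀.2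
  letI : (cI Z₀.1 Z₀.2).subscheme.Over (Spec (CommRingCat.of k)) :=
    ⟨(cI Z₀.1 Z₀.2).subschemeι ≫ (X ↘ Spec (CommRingCat.of k))⟩
  haveI : IsProper ((cI Z₀.1 Z₀.2).subscheme ↘ Spec (CommRingCat.of k)) :=
    inferInstanceAs (IsProper ((cI Z₀.1 Z₀.2).subschemeι ≫ (X ↘ Spec (CommRingCat.of k))))
  have h1 := dE_pushO k (cI Z₀.1 Z₀.2).subschemeι rfl E hE
  have hsupp : CohB1.support ((psh (cI Z₀.1 Z₀.2).subschemeι).obj
      (Coh.structureModule (cI Z₀.1 Z₀.2).subscheme)) ⊆ Z₀.1 :=
    (Groth.Agent.Lib.R2H2.DevE.support_push_subset (cI Z₀.1 Z₀.2).subschemeι _).trans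
      (range_cι Z₀.1 Z₀.2).le
  have hlen : lenAt X Z₀ ((psh (cI Z₀.1 Z₀.2).subschemeι).obj
      (Coh.structureModule (cI Z₀.1 Z₀.2).subscheme)) = 1 := by
    unfold lenAt
    rw [← length_stalk_congr _ _ _ (cι_genericPoint Z₀.1 Z₀.2),
      length_pushO_generic (cI Z₀.1 Z₀.2).subschemeι]
    rfl
  have h2 : Lam k X n E ((psh (cI Z₀.1 Z₀.2).subschemeι).obj
      (Coh.structureModule (cI Z₀.1 Z₀.2).subscheme)) = degC k X n E Z₀ := by
    unfold Lam
    rw [finsum_eq_single _ Z₀]
    · unfold term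
      rw [if_pos hd, hlen]
      simp
    · intro Z hZ
      unfold term
      split_ifs
      · rw [len_eq_zero_of_not_mem_support X Z _ (fun hmem => hZ (eq_of_gp_mem X (hsupp hmem)))]
        simp
      · rfl
  rw [h1, h2]
  rfl

theorem prop_other (hdim : topologicalKrullDim X ≤ 1) (n : ℕ) (E : X.Modules)
    (hE : FlatMod.IsFinLocFreeOfRank n E)
    (Z₀ : Set X) (hcl : IsClosed Z₀) (hirr : IsIrreducible Z₀)
    (hc : ¬ (Z₀ ∈ irreducibleComponents (X : Type u) ∧ topologicalKrullDim Z₀ = 1))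
    (W : Scheme.{u}) (i : W ⟶ X) [IsClosedImmersion i] [IsIntegral W]
    (hrange : Set.range ⇑i = Z₀) :
    dE k X n E ((psh i).obj (Coh.structureModule W)) =
      Lam k X n E ((psh i).obj (Coh.structureModule W)) := by
  letI : W.Over (Spec (CommRingCat.of k)) := ⟨i ≫ (X ↘ Spec (CommRingCat.of k))⟩
  haveI : IsProper (W ↘ Spec (CommRingCat.of k)) :=
    inferInstanceAs (IsProper (i ≫ (X ↘ Spec (CommRingCat.of k))))
  haveI : E.IsQuasicoherent := (isCoh_of_rank' hE).1
  have hE' : FlatMod.IsFinLocFreeOfRank n ((plb i).obj E) :=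
    Groth.Agent.Lib.Helper26.ModRank.isFinLocFreeOfRank_pullback i E hE
  have hmem : ∀ z : W, i z ∈ Z₀ := fun z => hrange ▸ ⟨z, rfl⟩
  have hWZ : topologicalKrullDim W ≤ topologicalKrullDim Z₀ :=
    Topology.IsInducing.topologicalKrullDim_le
      (f := Set.codRestrict (i : W → X) Z₀ hmem)
      (i.isClosedEmbedding.isInducing.codRestrict hmem)
  have hdZ : topologicalKrullDim Z₀ ≤ 1 := (topologicalKrullDim_subspace_le X Z₀).trans hdim
  have hZ0 : topologicalKrullDim Z₀ ≤ 0 := by
    by_contra h0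
    exact hc ⟨mem_irreducibleComponents_of_dim_one hdim Z₀ hcl hirr h0,
      eq_one_of_le_one_of_not_le_zero _ hdZ h0⟩
  have hW0 : topologicalKrullDim W ≤ 0 := hWZ.trans hZ0
  have h1 := dE_pushO k i rfl E hE
  have h2 := deg_eq_zero_of_dim_zero k hW0 n _ hE'
  have hsupp : CohB1.support ((psh i).obj (Coh.structureModule W)) ⊆ Z₀ :=
    (Groth.Agent.Lib.R2H2.DevE.support_push_subset i _).trans hrange.le
  have h3 : Lam k X n E ((psh i).obj (Coh.structureModule W)) = 0 := by
    unfold Lam
    refine finsum_eq_zero_of_forall_eq_zero fun Z => ?_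
    unfold term
    split_ifs with hd
    · rw [len_eq_zero_of_not_mem_support X Z _ ?_]
      · simp
      · intro hmemZ
        have hgZ : gp X Z ∈ Z₀ := hsupp hmemZ
        have hsub : Z.1 ⊆ Z₀ := by
          rw [← closure_gp X Z]
          exact closure_minimal (Set.singleton_subset_iff.mpr hgZ) hcl
        have heq : Z₀ = Z.1 := subset_antisymm (Z.2.2 hirr hsub) hsub
        exact hc ⟨heq ▸ Z.2, heq ▸ hd⟩
    · rfl
  rw [h1, h2, h3]

end Part4

section Part5


open Groth.Agent.Lib.Helper10.RatFunNoeth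
open Groth.Agent.Lib.Helper4.NormDelta Groth.Agent.Lib.Helper23.StalkLin
open Groth.Agent.Lib.R2H1.DegTensor
open Groth.Agent.Lib.R2H1.BirDeg Groth.Agent.Lib.R2H1.GenusLe Groth.Agent.Lib.R2H1.DegCartier
  Groth.Agent.Lib.R2H1.EulerAdd Groth.Agent.Lib.R2H1.SkyDecomp Groth.Agent.Lib.R2H1.CurveEuler
  Groth.Agent.Lib.R2H1.CurveDegSec Groth.Agent.Lib.Helper21.Dual
  Groth.Agent.Lib.Helper21.ModTensor Groth.Agent.Lib.Helper21.ModTensor2
  Groth.Agent.Lib.Helper21.ModTensor5 Groth.Agent.Lib.R2H1.ZeroDimCoh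
  Groth.Agent.Lib.R2H1.EulerTensor Groth.Agent.Lib.R2H1.ProjLF Groth.Agent.Lib.Helper1.PT

variable (k : Type u) [Field k] (X : Scheme.{u}) [X.Over (Spec (CommRingCat.of k))]
    [IsProper (X ↘ (Spec (CommRingCat.of k)))] [IsNoetherian X]

theorem dE_eq_Lam (hdim : topologicalKrullDim X ≤ 1) (n : ℕ) (E : X.Modules)
    (hE : FlatMod.IsFinLocFreeOfRank n E) (F : X.Modules) (hF : Coh.IsCoh F) :
    dE k X n E F = Lam k X n E F := by
  have h0 : ∀ M : X.Modules, IsZero M → dE k X n E M = Lam k X n E M := by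
    intro M hM
    have cM := Groth.Agent.Lib.R2H2.KcohLoc.isCoh_of_isZero hM
    let S : ShortComplex X.Modules := ShortComplex.mk (𝟙 M) (0 : M ⟶ M) (by simp)
    have hS : S.ShortExact :=
      { exact := ShortComplex.exact_of_isZero_X₂ S hM
        mono_f := inferInstanceAs (Mono (𝟙 M))
        epi_g := ⟨fun {Z} a b _ => hM.eq_of_src a b⟩ }
    have h1 : dE k X n E M = dE k X n E M + dE k X n E M := dE_add k X n E hE S hS cM cM cM
    have h2 : Lam k X n E M = Lam k X n E M + Lam k X n E M := Lam_add k X n E S hS cM cM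
    omega
  refine Groth.Agent.Lib.R2H2.DevC.devissage (fun F => dE k X n E F = Lam k X n E F) h0 Set.univ
    isClosed_univ (fun s => s = 1) ?_ ?_ ?_ F hF (Set.subset_univ _)
  · intro S hS c₁ c₂ c₃ _
    have h1 := dE_add k X n E hE S hS c₁ c₂ c₃
    have h2 := Lam_add k X n E S hS c₁ c₃
    refine ⟨fun p₁ p₂ => ?_, fun p₁ p₃ => ?_, fun p₂ p₃ => ?_⟩
    · have q₁ : dE k X n E S.X₁ = Lam k X n E S.X₁ := p₁
      have q₂ : dE k X n E S.X₂ = Lam k X n E S.X₂ := p₂
      show dE k X n E S.X₃ = Lam k X n E S.X₃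
      omega
    · have q₁ : dE k X n E S.X₁ = Lam k X n E S.X₁ := p₁
      have q₃ : dE k X n E S.X₃ = Lam k X n E S.X₃ := p₃
      show dE k X n E S.X₂ = Lam k X n E S.X₂
      omega
    · have q₂ : dE k X n E S.X₂ = Lam k X n E S.X₂ := p₂
      have q₃ : dE k X n E S.X₃ = Lam k X n E S.X₃ := p₃
      show dE k X n E S.X₁ = Lam k X n E S.X₁
      omega
  · intro F s _ hs hp
    subst hs
    show dE k X n E F = Lam k X n E F
    rw [← dE_congr k X n E (Groth.Agent.Lib.R2H2.StalkPow.powOneIso F),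
      ← Lam_congr k X n E (Groth.Agent.Lib.R2H2.StalkPow.powOneIso F)]
    exact hp
  · intro Z hZ hirr _ y hy
    by_cases hc : Z ∈ irreducibleComponents (X : Type u) ∧ topologicalKrullDim Z = 1
    · obtain ⟨hZc, hZd⟩ := hc
      haveI := isIntegral_cS Z hZc
      have hyg : y = (cI Z hZc).subschemeι (genericPoint (cI Z hZc).subscheme) := by
        have h1 : IsGenericPoint y Z := hy
        have h2 : IsGenericPoint (gp X ⟨Z, hZc⟩) Z := closure_gp X ⟨Z, hZc⟩
        rw [cι_genericPoint Z hZc]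
        exact h1.eq h2
      subst hyg
      have cG := Groth.Agent.Lib.R2H2.DevE.isCoh_pushO (cI Z hZc).subschemeι
      have sG : CohB1.support ((Scheme.Modules.pushforward (cI Z hZc).subschemeι).obj
          (Coh.structureModule (cI Z hZc).subscheme)) ⊆ Z :=
        (Groth.Agent.Lib.R2H2.DevE.support_push_subset (cI Z hZc).subschemeι _).trans
          (range_cι Z hZc).le
      refine ⟨_, cG, prop_component k X n E hE ⟨Z, hZc⟩ hZd, sG, ?_⟩
      intro N _ _ _ hk
      obtain ⟨eN⟩ := Groth.Agent.Lib.R2H2.DevI.nonempty_stalk_pushO_equiv' (cI Z hZc).subschemeι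
      obtain ⟨r, ⟨e⟩⟩ := Groth.Agent.Lib.R2H2.ResField.exists_equiv_pow_one N _ hk eN
      exact ⟨r, 1, rfl, ⟨LinearEquiv.funUnique (Fin 1) _ N ≪≫ₗ e⟩⟩
    · obtain ⟨W, i, hi, hW, hrange, hgen⟩ :=
        Groth.Agent.Lib.R2H2.DevD.exists_integral_closed Z hZ hirr y hy
      subst hgen
      have cG := Groth.Agent.Lib.R2H2.DevE.isCoh_pushO i
      have sG : CohB1.support ((Scheme.Modules.pushforward i).obj (Coh.structureModule W)) ⊆ Z :=
        (Groth.Agent.Lib.R2H2.DevE.support_push_subset i _).trans hrange.le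
      refine ⟨_, cG, prop_other k X hdim n E hE Z hZ hirr hc W i hrange, sG, ?_⟩
      intro N _ _ _ hk
      obtain ⟨eN⟩ := Groth.Agent.Lib.R2H2.DevI.nonempty_stalk_pushO_equiv' i
      obtain ⟨r, ⟨e⟩⟩ := Groth.Agent.Lib.R2H2.ResField.exists_equiv_pow_one N _ hk eN
      exact ⟨r, 1, rfl, ⟨LinearEquiv.funUnique (Fin 1) _ N ≪≫ₗ e⟩⟩

theorem s1641 (hdim : topologicalKrullDim X ≤ 1)
    (n : ℕ) (E : X.Modules) (hE : FlatMod.IsFinLocFreeOfRank n E) :
    Curv2.deg k X E n = ∑ᶠ Z : irreducibleComponents (X : Type u),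
      (if topologicalKrullDim (Z.1 : Set X) = 1 then
        ((Module.length (X.presheaf.stalk Z.2.1.genericPoint) (X.presheaf.stalk Z.2.1.genericPoint)).toNat : ℤ) *
          @Curv2.deg k _ (X.irreducibleComponentIdeal Z.1 Z.2).radical.subscheme ⟨(X.irreducibleComponentIdeal Z.1 Z.2).radical.subschemeι ≫ (X ↘ (Spec (CommRingCat.of k)))⟩ ((Scheme.Modules.pullback (X.irreducibleComponentIdeal Z.1 Z.2).radical.subschemeι).obj E) n
      else 0) := by
  have h := dE_eq_Lam k X hdim n E hE (Coh.structureModule X) (isCoh_structureModule X)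
  rw [dE_structure] at h
  rw [h]
  unfold Lam
  refine finsum_congr fun Z => ?_
  unfold term
  split_ifs
  · have hl : lenAt X Z (Coh.structureModule X) =
        (Module.length (X.presheaf.stalk Z.2.1.genericPoint)
          (X.presheaf.stalk Z.2.1.genericPoint)).toNat := by
      unfold lenAt
      rw [(Groth.Agent.Lib.Helper23.UnitStalk.unitStalkEquiv (gp X Z)).length_eq]
    rw [hl]
    rfl
  · rfl

end Part5

end Groth.Agent.Lib.R2H1.DegComponents
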