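/-
Bounds on dimensions of cohomology along a long exact sequence of coherent modules on a proper scheme over a field (S17630): splitting into short exact sequences of kernels, finrank inequalities from the long exact cohomology sequence.
-/
import Mathlib
import Groth.Prelude
import Groth.Agent.Lib.R2H1EulerAdd
import Groth.Agent.Lib.R2H2PdSheaf

set_option autoImplicit false
set_option linter.style.haveILetI false
set_option linter.unusedSectionVars false
universe u v

namespace Groth.Agent.Lib.R2H1.FinrankChain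

section Part1

open CategoryTheory CategoryTheory.Limits AlgebraicGeometry TopologicalSpace Opposite
open Groth.Agent.Lib.R2H2.HHLin Groth.Agent.Lib.R2H1.EulerAdd

section Alg

variable {k : Type*} [Field k] {U V W : Type*} [AddCommGroup U] [AddCommGroup V] [AddCommGroup W]
  [Module k U] [Module k V] [Module k W]

theorem finrank_le_of_exact [Module.Finite k U] [Module.Finite k V] [Module.Finite k W]
    (f : U →ₗ[k] V) (g : V →ₗ[k] W) (h : Function.Exact f g) :
    Module.finrank k V ≤ Module.finrank k U + Module.finrank k W := by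
  have h1 := LinearMap.finrank_range_add_finrank_ker g
  have h2 : Module.finrank k (LinearMap.range g) ≤ Module.finrank k W := Submodule.finrank_le _
  have h3 : LinearMap.ker g = LinearMap.range f := (LinearMap.exact_iff.mp h)
  have h4 : Module.finrank k (LinearMap.range f) ≤ Module.finrank k U := LinearMap.finrank_range_le f
  rw [h3] at h1
  omega

theorem sum_Icc_one_eq_sum_range (f : ℕ → ℤ) (n : ℕ) :
    ∑ j ∈ Finset.Icc 1 n, f j = ∑ t ∈ Finset.range n, f (t + 1) := by
  induction n with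
  | zero => simp
  | succ n ih =>
    rw [Finset.sum_Icc_succ_top (by omega), ih, Finset.sum_range_succ]

end Alg

section Main

variable (k : Type u) [Field k] (X : Scheme.{u})
    [X.Over (Spec (CommRingCat.of k))] [IsProper (X ↘ Spec (CommRingCat.of k))]

/-- `h^m` -/
noncomputable abbrev hh (M : X.Modules) (m : ℕ) : ℕ := Module.finrank k (Coh.HH X M m)

variable {X}

theorem hh_mid_le (S : ShortComplex X.Modules) (hS : S.ShortExact)
    (h₁ : Coh.IsCoh S.X₁) (h₂ : Coh.IsCoh S.X₂) (h₃ : Coh.IsCoh S.X₃) (m : ℕ) :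
    hh k X S.X₂ m ≤ hh k X S.X₁ m + hh k X S.X₃ m := by
  haveI := finite_HH k X S.X₁ h₁ m
  haveI := finite_HH k X S.X₂ h₂ m
  haveI := finite_HH k X S.X₃ h₃ m
  exact finrank_le_of_exact _ _ (exact_fg k S hS m)

theorem hh_left_succ_le (S : ShortComplex X.Modules) (hS : S.ShortExact)
    (h₁ : Coh.IsCoh S.X₁) (h₂ : Coh.IsCoh S.X₂) (h₃ : Coh.IsCoh S.X₃) (m : ℕ) :
    hh k X S.X₁ (m + 1) ≤ hh k X S.X₃ m + hh k X S.X₂ (m + 1) := by
  haveI := finite_HH k X S.X₁ h₁ (m + 1)
  haveI := finite_HH k X S.X₂ h₂ (m + 1)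
  haveI := finite_HH k X S.X₃ h₃ m
  exact finrank_le_of_exact _ _ (exact_df k S hS m)

theorem hh_left_zero_le (S : ShortComplex X.Modules) (hS : S.ShortExact)
    (h₁ : Coh.IsCoh S.X₁) (h₂ : Coh.IsCoh S.X₂) :
    hh k X S.X₁ 0 ≤ hh k X S.X₂ 0 := by
  haveI := finite_HH k X S.X₁ h₁ 0
  haveI := finite_HH k X S.X₂ h₂ 0
  exact LinearMap.finrank_le_finrank_of_injective (injective_f_zero k S hS)

end Main

section Cat

variable {𝒜 : Type*} [Category 𝒜] [Abelian 𝒜]
variable (C : ℕ → 𝒜) (d : ∀ j, C j ⟶ C (j + 1)) (hd : ∀ j, d j ≫ d (j + 1) = 0)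

noncomputable def lft (j : ℕ) : C j ⟶ kernel (d (j + 1)) := kernel.lift (d (j + 1)) (d j) (hd j)

theorem lft_ι (j : ℕ) : lft C d hd j ≫ kernel.ι (d (j + 1)) = d j := kernel.lift_ι _ _ _

noncomputable def T (j : ℕ) : ShortComplex 𝒜 :=
  ShortComplex.mk (kernel.ι (d j)) (lft C d hd j) (by
    rw [← cancel_mono (kernel.ι (d (j + 1))), Category.assoc, lft_ι, kernel.condition, zero_comp])

theorem T_shortExact (j : ℕ) (hex : (ShortComplex.mk (d j) (d (j + 1)) (hd j)).Exact) :
    (T C d hd j).ShortExact := by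
  have hepi : Epi (lft C d hd j) := hex.epi_kernelLift
  have hexact : (T C d hd j).Exact := by
    let φ : T C d hd j ⟶ ShortComplex.mk (kernel.ι (d j)) (d j) (kernel.condition _) :=
      { τ₁ := 𝟙 _, τ₂ := 𝟙 _, τ₃ := kernel.ι (d (j + 1)),
        comm₁₂ := by simp [T]
        comm₂₃ := by
          show 𝟙 _ ≫ d j = lft C d hd j ≫ kernel.ι (d (j + 1))
          rw [lft_ι, Category.id_comp] }
    haveI : Epi φ.τ₁ := (inferInstance : Epi (𝟙 (kernel (d j))))
    haveI : IsIso φ.τ₂ := (inferInstance : IsIso (𝟙 (C j)))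
    haveI : Mono φ.τ₃ := (inferInstance : Mono (kernel.ι (d (j + 1))))
    rw [ShortComplex.exact_iff_of_epi_of_isIso_of_mono φ]
    exact ShortComplex.exact_of_f_is_kernel _ (kernelIsKernel (d j))
  haveI : Mono (T C d hd j).f := (inferInstance : Mono (kernel.ι (d j)))
  haveI : Epi (T C d hd j).g := hepi
  exact { exact := hexact }

noncomputable def T0 : ShortComplex 𝒜 :=
  ShortComplex.mk (d 0) (lft C d hd 1) (by
    rw [← cancel_mono (kernel.ι (d (1 + 1))), Category.assoc, lft_ι, hd 0, zero_comp])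

theorem T0_shortExact [Mono (d 0)] (hex0 : (ShortComplex.mk (d 0) (d 1) (hd 0)).Exact)
    (hex1 : (ShortComplex.mk (d 1) (d (1 + 1)) (hd 1)).Exact) :
    (T0 C d hd).ShortExact := by
  have hepi : Epi (lft C d hd 1) := hex1.epi_kernelLift
  have hexact : (T0 C d hd).Exact := by
    let φ : T0 C d hd ⟶ ShortComplex.mk (d 0) (d 1) (hd 0) :=
      { τ₁ := 𝟙 _, τ₂ := 𝟙 _, τ₃ := kernel.ι (d (1 + 1)),
        comm₁₂ := by simp [T0]
        comm₂₃ := by
          show 𝟙 _ ≫ d 1 = lft C d hd 1 ≫ kernel.ι (d (1 + 1))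
          rw [lft_ι, Category.id_comp] }
    haveI : Epi φ.τ₁ := (inferInstance : Epi (𝟙 (C 0)))
    haveI : IsIso φ.τ₂ := (inferInstance : IsIso (𝟙 (C (0 + 1))))
    haveI : Mono φ.τ₃ := (inferInstance : Mono (kernel.ι (d (1 + 1))))
    rw [ShortComplex.exact_iff_of_epi_of_isIso_of_mono φ]
    exact hex0
  haveI : Mono (T0 C d hd).f := (inferInstance : Mono (d 0))
  haveI : Epi (T0 C d hd).g := hepi
  exact { exact := hexact }

end Cat

section Chain

variable (k : Type u) [Field k] (X : Scheme.{u})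
    [X.Over (Spec (CommRingCat.of k))] [IsProper (X ↘ Spec (CommRingCat.of k))]
    (C : ℕ → X.Modules) (hC : ∀ j, Coh.IsCoh (C j)) (d : ∀ j, C j ⟶ C (j + 1))
    (hd : ∀ j, d j ≫ d (j + 1) = 0)
    (hex : ∀ j, (ShortComplex.mk (d j) (d (j + 1)) (hd j)).Exact)

include hC hex in
theorem hh_Z_le [IsLocallyNoetherian X] (m : ℕ) : ∀ j, hh k X (kernel (d j)) m ≤
    ∑ t ∈ Finset.range (m + 1), hh k X (C (j + t)) (m - t) := by
  have hZ : ∀ j, Coh.IsCoh (kernel (d j)) := fun j =>
    Groth.Agent.Lib.R2H2.PdSheaf.isCoh_kernel (hC j) (hC (j + 1)) (d j)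
  induction m with
  | zero =>
    intro j
    rw [Finset.sum_range_one]
    exact hh_left_zero_le k (T C d hd j) (T_shortExact C d hd j (hex j)) (hZ j) (hC j)
  | succ m ih =>
    intro j
    have h1 := hh_left_succ_le k (T C d hd j) (T_shortExact C d hd j (hex j)) (hZ j) (hC j)
      (hZ (j + 1)) m
    have h2 := ih (j + 1)
    rw [Finset.sum_range_succ']
    have h3 : ∑ t ∈ Finset.range (m + 1), hh k X (C (j + (t + 1))) (m + 1 - (t + 1)) =
        ∑ t ∈ Finset.range (m + 1), hh k X (C (j + 1 + t)) (m - t) := by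
      refine Finset.sum_congr rfl (fun t _ => ?_)
      have e1 : j + (t + 1) = j + 1 + t := by omega
      have e2 : m + 1 - (t + 1) = m - t := by omega
      rw [e1, e2]
    rw [h3]
    have h4 : hh k X (T C d hd j).X₁ (m + 1) = hh k X (kernel (d j)) (m + 1) := rfl
    have h5 : hh k X (T C d hd j).X₃ m = hh k X (kernel (d (j + 1))) m := rfl
    have h6 : hh k X (T C d hd j).X₂ (m + 1) = hh k X (C (j + 0)) (m + 1 - 0) := rfl
    omega

theorem sum_reindex (i : ℕ) :
    ∑ j ∈ Finset.Icc 1 (i + 1), ((Module.finrank k (Coh.HH X (C (j + 1)) (i + 1 - j))) : ℤ) =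
      ((∑ t ∈ Finset.range (i + 1), hh k X (C (1 + 1 + t)) (i - t) : ℕ) : ℤ) := by
  rw [sum_Icc_one_eq_sum_range, Nat.cast_sum]
  refine Finset.sum_congr rfl (fun t _ => ?_)
  have e1 : t + 1 + 1 = 1 + 1 + t := by omega
  have e2 : i + 1 - (t + 1) = i - t := by omega
  rw [e1, e2]

include hC hex in
theorem s17630 [Mono (d 0)] (i : ℕ) :
    |(Module.finrank k (Coh.HH X (C 0) i) : ℤ) - (Module.finrank k (Coh.HH X (C 1) i) : ℤ)| ≤
      (Finset.Icc 1 (i + 1)).sum (fun j => ((Module.finrank k (Coh.HH X (C (j + 1)) (i + 1 - j))) : ℤ)) +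
        (Finset.Icc 1 i).sum (fun j => ((Module.finrank k (Coh.HH X (C (j + 1)) (i - j))) : ℤ)) := by
  haveI : IsLocallyNoetherian X :=
    LocallyOfFiniteType.isLocallyNoetherian (X ↘ Spec (CommRingCat.of k))
  have hZ : ∀ j, Coh.IsCoh (kernel (d j)) := fun j =>
    Groth.Agent.Lib.R2H2.PdSheaf.isCoh_kernel (hC j) (hC (j + 1)) (d j)
  have hT0 := T0_shortExact C d hd (hex 0) (hex 1)
  have hb := hh_mid_le k (T0 C d hd) hT0 (hC 0) (hC 1) (hZ (1 + 1)) i
  have hb' : hh k X (C 1) i ≤ hh k X (C 0) i + hh k X (kernel (d (1 + 1))) i := hb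
  have hz := hh_Z_le k X C hC d hd hex i (1 + 1)
  clear hb
  rw [sum_reindex k X C i]
  change |((hh k X (C 0) i : ℕ) : ℤ) - ((hh k X (C 1) i : ℕ) : ℤ)| ≤ _
  cases i with
  | zero =>
    have ha : hh k X (C 0) 0 ≤ hh k X (C 1) 0 := hh_left_zero_le k (T0 C d hd) hT0 (hC 0) (hC 1)
    rw [Finset.Icc_eq_empty (by omega), Finset.sum_empty, add_zero, abs_le]
    constructor <;> omega
  | succ i' =>
    have ha := hh_left_succ_le k (T0 C d hd) hT0 (hC 0) (hC 1) (hZ (1 + 1)) i'
    have ha' : hh k X (C 0) (i' + 1) ≤ hh k X (kernel (d (1 + 1))) i' + hh k X (C 1) (i' + 1) := ha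
    clear ha
    have hz' := hh_Z_le k X C hC d hd hex i' (1 + 1)
    rw [sum_reindex k X C i', abs_le]
    constructor <;> omega

end Chain

end Part1

end Groth.Agent.Lib.R2H1.FinrankChain
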