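/-
Genus inequality for finite generically-closed-immersion maps to proper schemes of dimension at most one (S1566): image sequences of a morphism, complement of a dense open in a Noetherian scheme of dim <= 1 has dim <= 0, h^1(G) <= h^1(F) for F -> G with cokernel vanishing on a dense open.
-/
import Mathlib
import Groth.Prelude
import Groth.Agent.Lib.R2H1CurveEuler
import Groth.Agent.Lib.R2H1FinrankChain
import Groth.Agent.Lib.R2H2AffPushLin
import Groth.Agent.Lib.R2H2ProperFin
import Groth.Agent.Lib.R2H2ProjOverPush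
import Groth.Agent.Lib.R2H2NilFilt
import Groth.Agent.Lib.R2H2PdSheaf
import Groth.Agent.Lib.Helper23TensorUnit
import Groth.Agent.S0019

set_option autoImplicit false
set_option linter.style.haveILetI false
set_option linter.unusedSectionVars false
universe u v

namespace Groth.Agent.Lib.R2H1.GenusLe

section Part1

open CategoryTheory CategoryTheory.Limits AlgebraicGeometry TopologicalSpace Opposite

section Img

variable {𝒜 : Type*} [Category 𝒜] [Abelian 𝒜] {F G : 𝒜} (η : F ⟶ G)

/-- `0 → im η → G → coker η → 0` -/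
noncomputable def imgS₂ : ShortComplex 𝒜 :=
  ShortComplex.mk (kernel.ι (cokernel.π η)) (cokernel.π η) (kernel.condition _)

theorem imgS₂_shortExact : (imgS₂ η).ShortExact :=
  { exact := ShortComplex.exact_kernel (cokernel.π η)
    mono_f := inferInstanceAs (Mono (kernel.ι (cokernel.π η)))
    epi_g := inferInstanceAs (Epi (cokernel.π η)) }

/-- `F → im η` -/
noncomputable def imgQ : F ⟶ kernel (cokernel.π η) :=
  kernel.lift (cokernel.π η) η (cokernel.condition η)

theorem imgQ_ι : imgQ η ≫ kernel.ι (cokernel.π η) = η := kernel.lift_ι _ _ _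

instance epi_imgQ : Epi (imgQ η) := inferInstanceAs (Epi (Abelian.factorThruImage η))

/-- `0 → ker η → F → im η → 0` -/
noncomputable def imgS₁ : ShortComplex 𝒜 :=
  ShortComplex.mk (kernel.ι η) (imgQ η) (by
    rw [← cancel_mono (kernel.ι (cokernel.π η)), Category.assoc, imgQ_ι, kernel.condition,
      zero_comp])

theorem imgS₁_shortExact : (imgS₁ η).ShortExact := by
  have hexact : (imgS₁ η).Exact := by
    let φ : imgS₁ η ⟶ ShortComplex.mk (kernel.ι η) η (kernel.condition _) :=
      { τ₁ := 𝟙 _, τ₂ := 𝟙 _, τ₃ := kernel.ι (cokernel.π η),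
        comm₁₂ := by simp [imgS₁]
        comm₂₃ := by
          show 𝟙 _ ≫ η = imgQ η ≫ kernel.ι (cokernel.π η)
          rw [imgQ_ι, Category.id_comp] }
    haveI : Epi φ.τ₁ := (inferInstance : Epi (𝟙 (kernel η)))
    haveI : IsIso φ.τ₂ := (inferInstance : IsIso (𝟙 F))
    haveI : Mono φ.τ₃ := (inferInstance : Mono (kernel.ι (cokernel.π η)))
    rw [ShortComplex.exact_iff_of_epi_of_isIso_of_mono φ]
    exact ShortComplex.exact_kernel η
  haveI : Mono (imgS₁ η).f := (inferInstance : Mono (kernel.ι η))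
  haveI : Epi (imgS₁ η).g := (inferInstance : Epi (imgQ η))
  exact { exact := hexact }

end Img

section Top

/-- In a Noetherian scheme of dimension `≤ 1` the complement of a dense open has
dimension `≤ 0`. -/
theorem dim_compl_le_zero_of_dense (X : Scheme.{u}) [IsNoetherian X]
    (hdim : topologicalKrullDim X ≤ 1) (U₀ : X.Opens) (hU : Dense (U₀ : Set X)) :
    topologicalKrullDim ↥((U₀ : Set X)ᶜ) ≤ 0 := by
  classical
  refine Order.krullDim_nonpos_iff_forall_isMax.mpr fun a b hab => ?_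
  by_contra hba
  have hlt : a < b := lt_of_le_not_ge hab hba
  have hsm := IrreducibleCloseds.map_strictMono_of_isInducing
    (Topology.IsInducing.subtypeVal (t := ((U₀ : Set X)ᶜ)))
  have hlt' := hsm hlt
  set b' := IrreducibleCloseds.map (Subtype.val : ↥((U₀ : Set X)ᶜ) → X)
    continuous_subtype_val b with hb'
  have hb'sub : (b' : Set X) ⊆ (U₀ : Set X)ᶜ := by
    rw [hb', IrreducibleCloseds.coe_map]
    refine closure_minimal ?_ U₀.isOpen.isClosed_compl
    rintro _ ⟨y, -, rfl⟩
    exact y.2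
  rcases (Order.krullDim_le_one_iff.mp hdim) b' with hmin | hmax
  · exact absurd (hmin hlt'.le) (not_le_of_gt hlt')
  · have hcomp : (b' : Set X) ∈ irreducibleComponents X := by
      refine ⟨b'.isIrreducible, fun s hs hbs => ?_⟩
      let T : IrreducibleCloseds X := ⟨closure s, hs.closure, isClosed_closure⟩
      have h1 : b' ≤ T := hbs.trans subset_closure
      exact subset_closure.trans (hmax h1)
    obtain ⟨o, ho, hne, hsub⟩ :=
      NoetherianSpace.exists_isOpen_nonempty_subset_irreducibleComponent (b' : Set X) hcomp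
    obtain ⟨z, hzo, hzU⟩ := hU.inter_open_nonempty o ho hne
    exact hb'sub (hsub hzo) hzU

end Top

section Coker

open Groth.Agent.Lib.R2H1.InvHom Groth.Agent.Lib.R2H1.CurveVanish
  Groth.Agent.Lib.R2H2.ProjOverPush

variable {X Y : Scheme.{u}} (f : Y ⟶ X) (U : X.Opens)

theorem surjective_app_of_closedImm [IsClosedImmersion (f ∣_ U)]
    (V : (U : Scheme.{u}).Opens) (hV : IsAffineOpen V) :
    Function.Surjective (f.app (U.ι ''ᵁ V)) := by
  intro b
  have h2 := morphismRestrict_app f U V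
  obtain ⟨a, ha⟩ := (f ∣_ U).app_surjective V hV
    ((Y.presheaf.map (eqToHom (image_morphismRestrict_preimage f U V)).op) b)
  refine ⟨a, ?_⟩
  rw [h2] at ha
  have hinj : Function.Injective
      (Y.presheaf.map (eqToHom (image_morphismRestrict_preimage f U V)).op) :=
    (ConcreteCategory.bijective_of_isIso _).1
  exact hinj ha

theorem stalk_cokernel_strToPush [IsClosedImmersion (f ∣_ U)] (x : X) (hx : x ∈ U) :
    Subsingleton ((cokernel (strToPush f)).presheaf.stalk x) := by
  refine stalk_subsingleton_of_sections _ x fun W' hxW' q => ?_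
  obtain ⟨W₁, hW₁, hxW₁, a, ha⟩ :=
    Groth.Agent.Lib.Helper23.SectCmpLib.exists_local_lift (cokernel.π (strToPush f)) W' q x hxW'
  have hx' : (⟨x, hx⟩ : (U : Scheme.{u})) ∈ U.ι ⁻¹ᵁ W₁ := hxW₁
  obtain ⟨_, ⟨V, hVaff, rfl⟩, hxV, hle⟩ :=
    (U : Scheme.{u}).isBasis_affineOpens.exists_subset_of_mem_open hx' (U.ι ⁻¹ᵁ W₁).isOpen
  have hV : U.ι ''ᵁ V ≤ W₁ := by
    refine le_trans (Scheme.Hom.image_mono _ hle) ?_
    rw [Scheme.Hom.image_preimage_eq_opensRange_inf]
    exact inf_le_right
  have hxV' : x ∈ U.ι ''ᵁ V := ⟨⟨x, hx⟩, hxV, rfl⟩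
  refine ⟨U.ι ''ᵁ V, hV.trans hW₁, hxV', ?_⟩
  obtain ⟨b, hb⟩ := surjective_app_of_closedImm f U V hVaff (res _ hV a)
  have h1 : (strToPush f ≫ cokernel.π (strToPush f)).app (U.ι ''ᵁ V) b = 0 := by
    rw [cokernel.condition]
    rfl
  have h2 : (cokernel.π (strToPush f)).app (U.ι ''ᵁ V) (res _ hV a) = 0 := by
    rw [← hb]
    exact h1
  rw [app_res] at h2
  have h3 : res (cokernel (strToPush f)) (hV.trans hW₁) q =
      res (cokernel (strToPush f)) hV (res (cokernel (strToPush f)) hW₁ q) :=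
    (res_res _ hW₁ hV q).symm
  rw [h3]
  have h4 : (cokernel.π (strToPush f)).app W₁ a = res (cokernel (strToPush f)) hW₁ q := ha
  rw [← h4]
  exact h2

end Coker

end Part1

section Part2

open CategoryTheory CategoryTheory.Limits AlgebraicGeometry TopologicalSpace Opposite

open Groth.Agent.Lib.R2H2.HHLin Groth.Agent.Lib.R2H1.EulerAdd Groth.Agent.Lib.R2H1.FinrankChain
  Groth.Agent.Lib.R2H1.CurveEuler Groth.Agent.Lib.R2H1.ZeroDimCoh
  Groth.Agent.Lib.R2H2.ProjOverPush

section Main

variable (k : Type u) [Field k] {X : Scheme.{u}}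
    [X.Over (Spec (CommRingCat.of k))] [IsProper (X ↘ Spec (CommRingCat.of k))]

/-- `h^m(X₃) ≤ h^m(X₂) + h^{m+1}(X₁)` -/
theorem hh_right_le (S : ShortComplex X.Modules) (hS : S.ShortExact)
    (h₁ : Coh.IsCoh S.X₁) (h₂ : Coh.IsCoh S.X₂) (h₃ : Coh.IsCoh S.X₃) (m : ℕ) :
    hh k X S.X₃ m ≤ hh k X S.X₂ m + hh k X S.X₁ (m + 1) := by
  haveI := finite_HH k X S.X₁ h₁ (m + 1)
  haveI := finite_HH k X S.X₂ h₂ m
  haveI := finite_HH k X S.X₃ h₃ m
  exact finrank_le_of_exact _ _ (exact_gd k S hS m)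

theorem isCoh_structureModule (W : Scheme.{u}) : Coh.IsCoh (Coh.structureModule W) :=
  Groth.Agent.Lib.R2H1.CurveDegSec.isCoh_of_isInvertible _
    (Groth.Agent.Lib.Helper23.TensorUnit.isInvertible_structureModule W)

/-- **`h^1(G) ≤ h^1(F)`** for a morphism `F ⟶ G` of coherent modules on a proper scheme of
dimension at most one whose cokernel has stalks vanishing on a dense open. -/
theorem hh_one_le_of_generic_epi (hdim : topologicalKrullDim X ≤ 1) {F G : X.Modules}
    (hF : Coh.IsCoh F) (hG : Coh.IsCoh G) (φ : F ⟶ G) (U : X.Opens) (hU : Dense (U : Set X))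
    (hφ : ∀ x ∈ U, Subsingleton ((cokernel φ).presheaf.stalk x)) :
    hh k X G 1 ≤ hh k X F 1 := by
  haveI := isNoetherian_of_proper k X
  have hZ := dim_compl_le_zero_of_dense X hdim U hU
  have hZc : IsClosed ((U : Set X)ᶜ) := U.isOpen.isClosed_compl
  have hsub : ∀ C : Set X, C ⊆ (U : Set X)ᶜ → IsClosed C := fun C hC =>
    isClosed_of_subset_of_dim_le_zero _ hZc hZ C hC
  have hmem : ∀ x : X, x ∉ (U : Set X)ᶜ → x ∈ U := fun x hx => not_not.mp hx
  haveI flC : TopCat.Sheaf.IsFlasque (Coh.toAb (cokernel φ)) :=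
    isFlasque_of_support (X := X.toTopCat) (Coh.toAb (cokernel φ)) _ hsub
      (fun x hx => hφ x (hmem x hx))
  haveI HC : Subsingleton (Coh.HH X (cokernel φ) 1) :=
    Groth.Agent.Lib.Helper16.Flasque.H_subsingleton (X := X.toTopCat) (Coh.toAb (cokernel φ)) 0
  have hC : Coh.IsCoh (cokernel φ) := Groth.Agent.Lib.R2H2.NilFilt.isCoh_cokernel hF hG φ
  have hK : Coh.IsCoh (kernel φ) := Groth.Agent.Lib.R2H2.PdSheaf.isCoh_kernel hF hG φ
  have hI : Coh.IsCoh (kernel (cokernel.π φ)) :=
    Groth.Agent.Lib.R2H2.PdSheaf.isCoh_kernel hG hC (cokernel.π φ)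
  haveI HK : Subsingleton (Coh.HH X (kernel φ) (1 + 1)) :=
    subsingleton_HH_curve k X hdim (kernel φ) hK.1 2 le_rfl
  have e1 : hh k X G 1 ≤ hh k X (kernel (cokernel.π φ)) 1 + hh k X (cokernel φ) 1 :=
    hh_mid_le k (imgS₂ φ) (imgS₂_shortExact φ) hI hG hC 1
  have e2 : hh k X (kernel (cokernel.π φ)) 1 ≤ hh k X F 1 + hh k X (kernel φ) (1 + 1) :=
    hh_right_le k (imgS₁ φ) (imgS₁_shortExact φ) hK hF hI 1
  have z1 : hh k X (cokernel φ) 1 = 0 := Module.finrank_zero_of_subsingleton
  have z2 : hh k X (kernel φ) (1 + 1) = 0 := Module.finrank_zero_of_subsingleton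
  omega

variable {Y : Scheme.{u}} [Y.Over (Spec (CommRingCat.of k))]

theorem genus_le (hdim : topologicalKrullDim X ≤ 1) (f : Y ⟶ X) [IsFinite f]
    (hf : f ≫ (X ↘ (Spec (CommRingCat.of k))) = Y ↘ (Spec (CommRingCat.of k)))
    (U : X.Opens) (hU : Dense (U : Set X)) (hfU : IsClosedImmersion (f ∣_ U)) :
    Curv2.genus k Y ≤ Curv2.genus k X := by
  haveI := isNoetherian_of_proper k X
  haveI : CompactSpace X :=
    QuasiCompact.compactSpace_of_compactSpace (X ↘ Spec (CommRingCat.of k))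
  obtain ⟨ι, hfin, V, hcov, hVa, hV⟩ :=
    Groth.Agent.Lib.R2H2.ProperFin.exists_affine_cover_of_isSeparated
      (X ↘ Spec (CommRingCat.of k))
  have hOY := isCoh_structureModule Y
  obtain ⟨e⟩ := Groth.Agent.Lib.R2H2.AffPushLin.exists_push_linear f V k hf hcov hV
    (Coh.structureModule Y) hOY.1 1
  have hA : Coh.IsCoh ((Scheme.Modules.pushforward f).obj (Coh.structureModule Y)) :=
    Groth.Agent.S0019.result f _ hOY
  have h1 := hh_one_le_of_generic_epi k hdim (isCoh_structureModule X) hA (strToPush f) U hU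
    (fun x hx => stalk_cokernel_strToPush f U x hx)
  have h2 : Curv2.genus k Y =
      hh k X ((Scheme.Modules.pushforward f).obj (Coh.structureModule Y)) 1 :=
    e.finrank_eq
  rw [h2]
  exact h1

end Main

end Part2

end Groth.Agent.Lib.R2H1.GenusLe
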