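import Groth.Agent.Lib.R2H2PnDualCoh
import Groth.Agent.Lib.R2H2CoprodCoh
import Groth.Agent.Lib.Helper27SerreGen4
import Groth.Agent.S0022

/-!
# `O(-n-1)` is a dualizing sheaf on `P^n_R` for all quasi-coherent modules (helper2, round 2)

`main R n` : for a Noetherian ring `R` there is an isomorphism `t : H^n(P^n_R, O(-n-1)) ≅ R` such
that for every quasi-coherent module `F` every linear form on `H^n(F)` is `t ∘ H^n(φ)` for a unique
`φ : F ⟶ O(-n-1)`.

Ingredients: every quasi-coherent module on `Proj` is a quotient of a (possibly infinite) coproduct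
of twisting sheaves (`exists_jointly_epi_tilde`); cohomology classes of such a coproduct are
finitely supported (`R2H2.CoprodCoh`); right exactness of `H^n` (S0022).
-/

set_option autoImplicit false
set_option linter.unusedSectionVars false
set_option linter.style.haveILetI false
universe u

open CategoryTheory CategoryTheory.Limits AlgebraicGeometry TopologicalSpace Opposite
  HomogeneousLocalization

namespace Groth.Agent.Lib.Helper27GrTildeSect

open Groth.Agent.Lib.Helper23.SecTw Groth.Agent.Lib.Helper6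

variable {R A : Type u} [CommRing R] [CommRing A] [Algebra R A] (𝒜 : ℕ → Submodule R A)
  [GradedAlgebra 𝒜]
variable (d : ℕ) {ι : Type} (G : ι → A) (hG : ∀ i, G i ∈ 𝒜 d)
  (hcov : ∀ y : Proj 𝒜, ∃ i, G i ∉ (show ProjectiveSpectrum 𝒜 from y).asHomogeneousIdeal)

include hG hcov in
/-- every quasi-coherent module on `Proj 𝒜` (covered by finitely many `D₊(G i)`, `G i ∈ 𝒜 d`,
`d > 0`) receives a jointly epimorphic family of morphisms from twisting sheaves -/
theorem exists_jointly_epi_tilde [Finite ι] (hd : 0 < d) (F : (Proj 𝒜).Modules)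
    [F.IsQuasicoherent] :
    ∃ (J : Type u) (k : J → ℤ) (Φ : ∀ j, GrTilde.tilde 𝒜 𝒜 (k j) ⟶ F),
      ∀ (Z : (Proj 𝒜).Modules) (g h : F ⟶ Z), (∀ j, Φ j ≫ g = Φ j ≫ h) → g = h := by
  classical
  haveI : CompactSpace (Proj 𝒜) := compactSpace_of_cover 𝒜 d G hG hcov hd
  have hW : ∀ i, IsAffineOpen (Proj.basicOpen 𝒜 (G i)) :=
    fun i => Proj.isAffineOpen_basicOpen 𝒜 (G i) (hG i) hd
  have hcov' : ∀ x : Proj 𝒜, ∃ i, x ∈ Proj.basicOpen 𝒜 (G i) := by
    intro x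
    obtain ⟨i, hi⟩ := hcov x
    exact ⟨i, (ProjectiveSpectrum.mem_basicOpen 𝒜 (G i) x).mpr hi⟩
  let J : Type u := Σ i : ι, ↑Γ(F, Proj.basicOpen 𝒜 (G i))
  have hJ : ∀ j : J, ∃ (k : ℤ) (Φ : GrTilde.tilde 𝒜 𝒜 k ⟶ F)
      (a : Γ(GrTilde.tilde 𝒜 𝒜 k, Proj.basicOpen 𝒜 (G j.1))),
      Φ.app (Proj.basicOpen 𝒜 (G j.1)) a = j.2 := by
    intro j
    obtain ⟨n₀, hn₀⟩ := exists_coc_ge 𝒜 d G hG hcov F j.1 j.2
    obtain ⟨b, hb, hbj⟩ := hn₀ n₀ le_rfl
    have hk : ((0 : ℕ) : ℤ) = ((n₀ * d : ℕ) : ℤ) + (-((n₀ * d : ℕ) : ℤ)) := by simp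
    obtain ⟨Φ, hΦ⟩ := exists_hom_of_coc 𝒜 d G hG hcov n₀ _ hk F b hb
    exact ⟨_, Φ, aSec 𝒜 d n₀ _ hk (hG j.1), (hΦ j.1).trans hbj⟩
  choose k Φ a hΦ using hJ
  refine ⟨J, k, Φ, fun Z g h hgh => ?_⟩
  refine Groth.Agent.Lib.Helper27EpiGen.hom_ext_of_affine_cover F Z
    (fun i => Proj.basicOpen 𝒜 (G i)) hW hcov' g h (fun i m => ?_)
  have h2 : ∀ q : F ⟶ Z, q.app (Proj.basicOpen 𝒜 (G i)) m =
      (Φ ⟨i, m⟩ ≫ q).app (Proj.basicOpen 𝒜 (G i)) (a ⟨i, m⟩) := by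
    intro q
    change _ = q.app _ ((Φ ⟨i, m⟩).app _ _)
    rw [hΦ ⟨i, m⟩]
  rw [h2 g, h2 h, hgh]

end Groth.Agent.Lib.Helper27GrTildeSect

namespace Groth.Agent.Lib.R2H2.PnDualQCoh

open MvPolynomial
open Groth.Agent.Lib.R2H2.HHLin Groth.Agent.Lib.R2H2.DualRep Groth.Agent.Lib.R2H2.PnFinite
  Groth.Agent.Lib.R2H2.LaurentPair Groth.Agent.Lib.R2H2.PnDual
  Groth.Agent.Lib.Helper23.QCohLocal Groth.Agent.Lib.R2H2.CoprodSec Groth.Agent.Lib.R2H2.CoprodCoh
  Groth.Agent.Lib.R2H2.PnCoh Groth.Agent.Lib.R2H2.ProjSec Groth.Agent.Lib.R2H2.Laurent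

section Abstract

variable {A : Type u} [CommRing A] {X : Scheme.{u}} [X.Over (Spec (CommRingCat.of A))]
variable {ω : X.Modules} {n : ℕ} {t : Coh.HH X ω n →ₗ[A] A}

/-- `Inj` passes to the target of a jointly epimorphic family -/
lemma inj_of_jointly_epi {F : X.Modules} {J : Type*} (G : J → X.Modules) (Φ : ∀ j, G j ⟶ F)
    (hΦ : ∀ (Z : X.Modules) (g h : F ⟶ Z), (∀ j, Φ j ≫ g = Φ j ≫ h) → g = h)
    (hG : ∀ j, Inj t (G j)) : Inj t F := by
  intro φ hφ
  have h0 : ∀ j, Φ j ≫ φ = 0 := fun j => hG j _ (fun x => by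
    rw [HmapL_comp]
    exact hφ _)
  exact hΦ ω φ 0 (fun j => by rw [h0 j, comp_zero])

/-- `Sur` for an arbitrary coproduct whose top cohomology classes are finitely supported -/
lemma sur_sigma {J : Type u} [DecidableEq J] (E : J → X.Modules) (hE : ∀ j, Sur t (E j))
    (hgen : ∀ x : Coh.HH X (∐ E) n, ∃ S : Finset J,
      x = ∑ j ∈ S, HmapL (Sigma.ι E j) n (HmapL (Sigma.π E j) n x)) : Sur t (∐ E) := by
  intro ψ
  have h1 : ∀ j, ∃ φ : E j ⟶ ω, ∀ y : Coh.HH X (E j) n,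
      ψ (HmapL (Sigma.ι E j) n y) = t (HmapL φ n y) := by
    intro j
    obtain ⟨φ, hφ⟩ := hE j (ψ ∘ₗ HmapA A (Sigma.ι E j) n)
    exact ⟨φ, fun y => hφ y⟩
  choose φ hφ using h1
  refine ⟨Sigma.desc φ, fun x => ?_⟩
  obtain ⟨S, hS⟩ := hgen x
  have h2 : ∀ j, HmapL (Sigma.desc φ) n (HmapL (Sigma.ι E j) n (HmapL (Sigma.π E j) n x)) =
      HmapL (φ j) n (HmapL (Sigma.π E j) n x) := by
    intro j
    rw [← HmapL_comp, Sigma.ι_desc]
  have h3 : ψ x = ∑ j ∈ S, ψ (HmapL (Sigma.ι E j) n (HmapL (Sigma.π E j) n x)) := by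
    conv_lhs => rw [hS]
    rw [map_sum]
  have h4 : t (HmapL (Sigma.desc φ) n x) =
      ∑ j ∈ S, t (HmapL (Sigma.desc φ) n (HmapL (Sigma.ι E j) n (HmapL (Sigma.π E j) n x))) := by
    conv_lhs => rw [hS]
    rw [map_sum, map_sum]
  rw [h3, h4]
  refine Finset.sum_congr rfl (fun j _ => ?_)
  rw [hφ, h2]

end Abstract

section Pn

variable (R : Type u) [CommRing R] (n : ℕ)

local notation "𝒫" => CohB1.polyGrading n R
local notation "PX" => CohB1.ProjSpace n R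

theorem exists_jointly_epi (F : (CohB1.ProjSpace n R).Modules) (hF : Coh.IsQCoh F) :
    ∃ (J : Type u) (k : J → ℤ) (Φ : ∀ j, Otw R n (k j) ⟶ F),
      ∀ (Z : (CohB1.ProjSpace n R).Modules) (g h : F ⟶ Z),
        (∀ j, Φ j ≫ g = Φ j ≫ h) → g = h := by
  exact @Groth.Agent.Lib.Helper27GrTildeSect.exists_jointly_epi_tilde _ _ _ _ _ 𝒫 _ 1 _
    (fun i : Fin (n + 1) => (X i : MvPolynomial (Fin (n + 1)) R)) (fun i => isHomogeneous_X R i)
    (Groth.Agent.Lib.Helper27PnSections.exists_X_not_mem n R) _ one_pos F hF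

variable {ω : (CohB1.ProjSpace n R).Modules}
  (t : Coh.HH (CohB1.ProjSpace n R) ω n →ₗ[R] R)
  (hTw : ∀ a : ℤ, Rep t (Otw R n a))

include hTw in
theorem inj_of_qcoh (F : (PX).Modules) (hF : Coh.IsQCoh F) : Inj t F := by
  obtain ⟨J, k, Φ, hΦ⟩ := exists_jointly_epi R n F hF
  exact inj_of_jointly_epi (fun j => Otw R n (k j)) Φ hΦ (fun j => (hTw (k j)).inj)

include hTw in
theorem sur_of_qcoh (F : (PX).Modules) (hF : Coh.IsQCoh F) : Sur t F := by
  classical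
  obtain ⟨J, k, Φ, hΦ⟩ := exists_jointly_epi R n F hF
  let E : J → (PX).Modules := fun j => Otw R n (k j)
  have hEq : ∀ j, (E j).IsQuasicoherent := fun j =>
    Groth.Agent.Lib.Helper27GrTildeSect.isQuasicoherent_tilde _ _ (k j)
  have hSq : (∐ E).IsQuasicoherent := isQuasicoherent_sigma E hEq
  let p : (∐ E) ⟶ F := Sigma.desc Φ
  have hp : Epi p := ⟨fun {Z} g h hgh => hΦ Z g h (fun j => by
    have := congrArg (fun t => Sigma.ι E j ≫ t) hgh
    simpa [p] using this)⟩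
  have hFq : F.IsQuasicoherent := hF
  have hKq : (kernel p).IsQuasicoherent := isQuasicoherent_kernel p
  let S : ShortComplex (PX).Modules := ShortComplex.mk (kernel.ι p) p (kernel.condition p)
  have hS : S.ShortExact :=
    { exact := ShortComplex.exact_kernel p
      mono_f := equalizer.ι_mono
      epi_g := hp }
  have h₁ : Inj t S.X₁ := inj_of_qcoh R n t hTw (kernel p) hKq
  have h₂ : Sur t S.X₂ := sur_sigma E (fun j => (hTw (k j)).sur)
    (fun x => exists_sum_HH E (Wp 𝒫 (Groth.Agent.Lib.R2H2.KoszulPoly.vars R n)) (iSup_Wp_vars R n)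
      (isAffineOpen_biInf_Wp 𝒫 (Groth.Agent.Lib.R2H2.KoszulPoly.vars R n) (hfs_vars R n)) hEq n x)
  have hsurj : Function.Surjective (HmapL S.g n) := by
    intro x
    have hq : Coh.IsQCoh (kernel p) := hKq
    have : Subsingleton (Coh.HH PX S.X₁ (n + 1)) :=
      Groth.Agent.S0022.result n R (kernel p) (n + 1) (by omega)
    exact exact₃ S hS n x (Subsingleton.elim _ _)
  haveI : Epi S.g := hp
  exact sur_of_exact S hS.exact h₁ h₂ hsurj

include hTw in
theorem rep_of_qcoh (F : (PX).Modules) (hF : Coh.IsQCoh F) : Rep t F :=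
  rep_of_inj_sur (inj_of_qcoh R n t hTw F hF) (sur_of_qcoh R n t hTw F hF)

end Pn

section Main

variable (R : Type u) [CommRing R] [IsNoetherianRing R] (n : ℕ)

local notation "PX" => CohB1.ProjSpace n R

theorem main_family (F : ℤ → (PX).Modules) (hF : F = fun d => Otw R n d) :
    ∃ t : Coh.HH PX (F (-((n : ℤ) + 1))) n ≃ₗ[R] R,
      ∀ M : (PX).Modules, Coh.IsQCoh M →
        Rep (t : Coh.HH PX (F (-((n : ℤ) + 1))) n →ₗ[R] R) M := by
  subst hF
  obtain ⟨t, ht⟩ := Groth.Agent.Lib.R2H2.PnDualCoh.main_twists R n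
  exact ⟨t, fun M hM => rep_of_qcoh R n _ ht M hM⟩

/-- **`O(-n-1)` is dualizing for quasi-coherent modules on `P^n_R`** -/
theorem main :
    ∃ t : Coh.HH PX (Twist.twistProjSpace n R (-((n : ℤ) + 1))) n ≃ₗ[R] R,
      ∀ M : (PX).Modules, Coh.IsQCoh M →
        Rep (t : Coh.HH PX (Twist.twistProjSpace n R (-((n : ℤ) + 1))) n →ₗ[R] R) M :=
  main_family R n (fun d => Twist.twistProjSpace n R d) (funext fun d => twist_eq R n d)

end Main

end Groth.Agent.Lib.R2H2.PnDualQCoh
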