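import Groth.Agent.Lib.R2H2PnMumford
import Groth.Agent.Lib.R2H2PnDualQCoh
import Groth.Agent.Lib.Helper23FinTypeLocal

/-!
# Horrocks' splitting criterion on `P^n_k` (helper2, round 2)

A coherent module on `P^n_k` with no intermediate cohomology (in all twists) and no sections in
very negative twists is a finite direct sum of twisting sheaves. The proof is by Castelnuovo–Mumford
regularity and top-degree Serre duality (no induction on `n`).
-/

set_option autoImplicit false
universe u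

namespace Groth.Agent.Lib.R2H2.PnHorrocks

open CategoryTheory CategoryTheory.Limits AlgebraicGeometry TopologicalSpace Opposite
  MonoidalCategory
open Groth.Agent.Lib.R2H2.HHLin Groth.Agent.Lib.R2H2.PnSerre Groth.Agent.Lib.R2H2.PnMulSurj
  Groth.Agent.Lib.R2H2.PnGG Groth.Agent.Lib.R2H2.PnLinRes Groth.Agent.Lib.R2H2.PnMumford
  Groth.Agent.Lib.R2H2.DualRep
open Groth.Agent.Lib.Helper6 Groth.Agent.Lib.Helper23.SecTw Groth.Agent.Lib.Helper23.GenLocus
open Groth.Agent.Lib.Helper27PnSections Groth.Agent.Lib.Helper23.QCohLocal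

attribute [local instance] Abelian.hasFiniteBiproducts

/-- `A ⊞ ∐ g ≅ ∐ (Fin.cases A g)` -/
theorem nonempty_iso_sigma_cons {C : Type*} [Category C] [Preadditive C] [HasBinaryBiproducts C]
    {r : ℕ} (A : C) (g : Fin r → C) [HasCoproduct g]
    [HasCoproduct (Fin.cases A g : Fin (r + 1) → C)] :
    Nonempty (A ⊞ ∐ g ≅ ∐ (Fin.cases A g : Fin (r + 1) → C)) := by
  let f : Fin (r + 1) → C := Fin.cases A g
  let i0 : A ⟶ ∐ f := Sigma.ι f 0
  let is : ∀ i : Fin r, g i ⟶ ∐ f := fun i => Sigma.ι f i.succ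
  let to_ : A ⊞ ∐ g ⟶ ∐ f := biprod.desc i0 (Sigma.desc is)
  let from_ : ∐ f ⟶ A ⊞ ∐ g :=
    Sigma.desc (fun j => Fin.cases (motive := fun j => f j ⟶ A ⊞ ∐ g) biprod.inl
      (fun i => Sigma.ι g i ≫ biprod.inr) j)
  have h0 : i0 ≫ from_ = biprod.inl := Sigma.ι_desc _ _
  have hs : ∀ i : Fin r, is i ≫ from_ = Sigma.ι g i ≫ biprod.inr := fun i => Sigma.ι_desc _ _
  refine ⟨⟨to_, from_, ?_, ?_⟩⟩
  · apply biprod.hom_ext'
    · change biprod.inl ≫ biprod.desc i0 (Sigma.desc is) ≫ from_ = biprod.inl ≫ 𝟙 _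
      rw [biprod.inl_desc_assoc, h0, Category.comp_id]
    · change biprod.inr ≫ biprod.desc i0 (Sigma.desc is) ≫ from_ = biprod.inr ≫ 𝟙 _
      rw [biprod.inr_desc_assoc, Category.comp_id]
      apply Sigma.hom_ext
      intro i
      rw [Sigma.ι_desc_assoc, hs]
  · apply Sigma.hom_ext
    intro j
    rw [Category.comp_id]
    refine Fin.cases ?_ (fun i => ?_) j
    · change i0 ≫ from_ ≫ to_ = i0
      rw [← Category.assoc, h0]
      exact biprod.inl_desc _ _
    · change is i ≫ from_ ≫ to_ = is i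
      rw [← Category.assoc, hs, Category.assoc]
      change Sigma.ι g i ≫ biprod.inr ≫ biprod.desc i0 (Sigma.desc is) = is i
      rw [biprod.inr_desc, Sigma.ι_desc]

section General

variable {X : Scheme.{u}}

theorem cls_injective (M : X.Modules) : Function.Injective (cls (M := M)) := by
  intro a b h
  apply hom_ext_of_sv
  have h1 := congrArg (hh0Equiv X M) h
  exact (AddEquiv.apply_symm_apply _ _).symm.trans (h1.trans (AddEquiv.apply_symm_apply _ _))

/-- a retract injects on cohomology -/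
theorem injective_HmapL_of_retract {K E : X.Modules} (ι : K ⟶ E) (ρ : E ⟶ K)
    (h : ι ≫ ρ = 𝟙 K) (i : ℕ) : Function.Injective (HmapL ι i) := by
  intro a b hab
  have h1 := congrArg (HmapL ρ i) hab
  rwa [← HmapL_comp, ← HmapL_comp, h, HmapL_id, HmapL_id] at h1

section EndUnit

variable (k : Type u) [Field k] [X.Over (Spec (CommRingCat.of k))]

/-- if `H^0(X, O)` is one-dimensional then every nonzero endomorphism of `O` is invertible -/
theorem isIso_of_ne_zero_of_finrank_one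
    (h1 : Module.finrank k (Coh.HH X (Coh.structureModule X) 0) = 1)
    (f : Coh.structureModule X ⟶ Coh.structureModule X) (hf : f ≠ 0) : IsIso f := by
  have hid : cls (𝟙 (Coh.structureModule X)) ≠ 0 := by
    intro h0
    have h2 : 𝟙 (Coh.structureModule X) = 0 := eq_zero_of_cls _ h0
    exact hf (by rw [← Category.comp_id f, h2, comp_zero])
  have hspan := (finrank_eq_one_iff_of_nonzero' _ hid).1 h1
  obtain ⟨c, hc⟩ := hspan (cls f)
  have hc0 : c ≠ 0 := by
    rintro rfl
    rw [zero_smul] at hc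
    exact hf (eq_zero_of_cls f hc.symm)
  obtain ⟨g, hg⟩ := cls_surjective _ (c⁻¹ • cls (𝟙 (Coh.structureModule X)))
  have hsm : ∀ (φ : Coh.structureModule X ⟶ Coh.structureModule X) (a : k)
      (x : Coh.HH X (Coh.structureModule X) 0), HmapL φ 0 (a • x) = a • HmapL φ 0 x :=
    fun φ a x => (HmapA k φ 0).map_smul a x
  refine ⟨g, ?_, ?_⟩
  · apply cls_injective
    rw [← cls_comp, ← hc, hsm, cls_comp, Category.id_comp, hg, smul_smul, mul_inv_cancel₀ hc0,
      one_smul]
  · apply cls_injective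
    rw [← cls_comp, hg, hsm, cls_comp, Category.id_comp, ← hc, smul_smul, inv_mul_cancel₀ hc0,
      one_smul]

end EndUnit

end General

section Pn

variable (k : Type u) [Field k] (n : ℕ)

local notation "PX" => CohB1.ProjSpace n k

/-- `H^0(P^n_k, O(d)) ≠ 0` for `d ≥ 0` -/
theorem nontrivial_H0_twist (d : ℕ) :
    Nontrivial (Coh.HH PX (Twist.twistProjSpace n k (d : ℤ)) 0) := by
  obtain ⟨e⟩ := nonempty_linearEquiv n k d
  have hmem : (MvPolynomial.X 0 ^ d : MvPolynomial (Fin (n + 1)) k) ∈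
      MvPolynomial.homogeneousSubmodule (Fin (n + 1)) k d :=
    MvPolynomial.isHomogeneous_X_pow 0 d
  have hne : (⟨MvPolynomial.X 0 ^ d, hmem⟩ :
      ↥(MvPolynomial.homogeneousSubmodule (Fin (n + 1)) k d)) ≠ 0 := by
    intro h0
    have h1 := congrArg Subtype.val h0
    exact pow_ne_zero d (MvPolynomial.X_ne_zero 0) h1
  have : Nontrivial ↥(MvPolynomial.homogeneousSubmodule (Fin (n + 1)) k d) :=
    ⟨⟨_, 0, hne⟩⟩
  exact e.toEquiv.nontrivial

theorem finrank_H0_structure :
    Module.finrank k (Coh.HH PX (Coh.structureModule PX) 0) = 1 := by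
  obtain ⟨e⟩ := nonempty_linearEquiv n k 0
  obtain ⟨z⟩ := Groth.Agent.Lib.R2Lead.KRR.nonempty_twistProjSpace_zero_iso n k
  have e0 : ((0 : ℕ) : ℤ) = 0 := Nat.cast_zero
  rw [e0] at e
  let e1 : Coh.HH PX (Twist.twistProjSpace n k 0) 0 ≃ₗ[k]
      Coh.HH PX (Coh.structureModule PX) 0 :=
    LinearEquiv.ofBijective (HmapA k z.hom 0) (bijective_HmapL_of_iso z 0)
  rw [← e1.finrank_eq, e.finrank_eq, MvPolynomial.homogeneousSubmodule_zero,
    Submodule.one_eq_span]
  exact finrank_span_singleton one_ne_zero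

/-- a nonzero endomorphism of `O` on `P^n_k` is invertible -/
theorem isIso_of_ne_zero (f : Coh.structureModule PX ⟶ Coh.structureModule PX) (hf : f ≠ 0) :
    IsIso f :=
  isIso_of_ne_zero_of_finrank_one k (finrank_H0_structure k n) f hf

/-- top Serre duality produces nonzero maps to `O(-n-1)` -/
theorem exists_hom_ne_zero (M : (PX).Modules) (hM : Coh.IsQCoh M)
    (h : ¬ Subsingleton (Coh.HH PX M n)) :
    ∃ φ : M ⟶ Twist.twistProjSpace n k (-((n : ℤ) + 1)), φ ≠ 0 := by
  obtain ⟨t, ht⟩ := Groth.Agent.Lib.R2H2.PnDualQCoh.main k n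
  have hnt : Nontrivial (Coh.HH PX M n) := not_subsingleton_iff_nontrivial.1 h
  obtain ⟨x, hx⟩ := exists_ne (0 : Coh.HH PX M n)
  obtain ⟨ψ, hψ⟩ := Module.Projective.exists_dual_ne_zero k hx
  obtain ⟨φ, hφ, -⟩ := ht M hM ψ
  refine ⟨φ, ?_⟩
  rintro rfl
  apply hψ
  rw [hφ x]
  have h0 : Sheaf.H.map ((SheafOfModules.toSheaf (PX).ringCatSheaf).map
      (0 : M ⟶ Twist.twistProjSpace n k (-((n : ℤ) + 1)))) n x = 0 :=
    HmapL_zero n x
  rw [h0, map_zero]

/-- untwisting: `E(m)(-m) ≅ E` -/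
theorem nonempty_untwist (E : (PX).Modules) (m : ℤ) :
    Nonempty ((Tw n k (-m)).obj ((Tw n k m).obj E) ≅ E) := by
  obtain ⟨θ⟩ := nonempty_thetaIso n k m (-m) 0 (add_neg_cancel m)
  obtain ⟨z⟩ := Groth.Agent.Lib.R2Lead.KRR.nonempty_twistProjSpace_zero_iso n k
  exact ⟨θ.app E ≪≫ (DCoh.tensorBi.obj E).mapIso z ≪≫
    Groth.Agent.Lib.Helper23.TensorUnit.tensorUnitIso E⟩

theorem isCoh_twist (E : (PX).Modules) (hE : Coh.IsCoh E) (l : ℤ) :
    Coh.IsCoh (CohB1.tensorMod E (Twist.twistProjSpace n k l)) := by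
  have i1 : E.IsQuasicoherent := hE.1
  have i2 : SheafOfModules.IsFiniteType (R := (PX).ringCatSheaf) E := hE.2
  have i3 : (Twist.twistProjSpace n k l).IsQuasicoherent :=
    Groth.Agent.Lib.R2H2.PnFinite.isQCoh_twist n k l
  have i4 : SheafOfModules.IsFiniteType (R := (PX).ringCatSheaf) (Twist.twistProjSpace n k l) :=
    Groth.Agent.Lib.R2H2.PnFinite.isFiniteType_twist n k l
  exact ⟨Groth.Agent.Lib.Helper23.TensorQCoh.isQuasicoherent_tensorMod E _,
    Groth.Agent.Lib.Helper23.TensorQCoh.isFiniteType_tensorMod E _⟩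

/-- **the splitting step**: if some top cohomology group of a twist of `E` is nonzero, a twisting
sheaf splits off. -/
theorem exists_split_step (E : (PX).Modules) (hE : Coh.IsCoh E)
    (hmid : ∀ (l : ℤ) (i : ℕ), 0 < i → i < n →
      Subsingleton (Coh.HH PX (CohB1.tensorMod E (Twist.twistProjSpace n k l)) i))
    (m₀ : ℤ) (htop : ∀ l : ℤ, m₀ - n ≤ l →
      Subsingleton (Coh.HH PX (CohB1.tensorMod E (Twist.twistProjSpace n k l)) n))
    (hex : ∃ l : ℤ, ¬ Subsingleton (Coh.HH PX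
      (CohB1.tensorMod E (Twist.twistProjSpace n k l)) n)) :
    ∃ (a : ℤ) (K : (PX).Modules), -m₀ ≤ a ∧ Coh.IsCoh K ∧
      Nonempty (E ≅ Twist.twistProjSpace n k a ⊞ K) := by
  classical
  obtain ⟨l, hl, hmax⟩ := Int.exists_greatest_of_bdd
    (P := fun l => ¬ Subsingleton (Coh.HH PX
      (CohB1.tensorMod E (Twist.twistProjSpace n k l)) n))
    ⟨m₀ - n - 1, fun z hz => by
      by_contra hlt
      push_neg at hlt
      exact hz (htop z (by omega))⟩ hex
  have hlb : l ≤ m₀ - n - 1 := by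
    by_contra hlt
    push_neg at hlt
    exact hl (htop l (by omega))
  have hvan : ∀ z : ℤ, l < z → Subsingleton (Coh.HH PX
      (CohB1.tensorMod E (Twist.twistProjSpace n k z)) n) := by
    intro z hz
    by_contra hns
    have := hmax z hns
    omega
  obtain ⟨m, hm⟩ : ∃ m : ℤ, m = l + n + 1 := ⟨_, rfl⟩
  have hreg : ∀ i : ℕ, 1 ≤ i → i ≤ n → Subsingleton (Coh.HH PX
      (CohB1.tensorMod E (Twist.twistProjSpace n k (m - i))) i) := by
    intro i hi1 hin
    by_cases hi : i = n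
    · rw [hi]
      exact hvan _ (by omega)
    · exact hmid _ i (by omega) (by omega)
  have hgg : Curv2.IsGloballyGenerated (CohB1.tensorMod E (Twist.twistProjSpace n k m)) :=
    globallyGenerated_of_regular n k E hE m hreg
  have hq : Coh.IsQCoh (CohB1.tensorMod E (Twist.twistProjSpace n k l)) :=
    (isCoh_twist k n E hE l).1
  obtain ⟨φ, hφ⟩ := exists_hom_ne_zero k n _ hq hl
  obtain ⟨θ⟩ := nonempty_thetaIso n k l ((n : ℤ) + 1) m (by omega)
  obtain ⟨e1⟩ := Groth.Agent.Lib.R2Lead.KRR.nonempty_twistProjSpace_tensor_iso n k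
    (-((n : ℤ) + 1)) ((n : ℤ) + 1)
  obtain ⟨z⟩ := Groth.Agent.Lib.R2Lead.KRR.nonempty_twistProjSpace_zero_iso n k
  let w : (Tw n k ((n : ℤ) + 1)).obj (Twist.twistProjSpace n k (-((n : ℤ) + 1))) ≅
      Coh.structureModule PX := e1 ≪≫ eqToIso (by rw [neg_add_cancel]) ≪≫ z
  have θE : (Tw n k ((n : ℤ) + 1)).obj ((Tw n k l).obj E) ≅ (Tw n k m).obj E := θ.app E
  let φ₁ : (Tw n k l).obj E ⟶ Twist.twistProjSpace n k (-((n : ℤ) + 1)) := φ
  let φ' : (Tw n k m).obj E ⟶ Coh.structureModule PX :=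
    θE.inv ≫ (Tw n k ((n : ℤ) + 1)).map φ₁ ≫ w.hom
  have hTeq := isEquivalence_twR n k ((n : ℤ) + 1)
  have hφ' : φ' ≠ 0 := by
    intro h0
    apply hφ
    have h1 : θE.hom ≫ φ' ≫ w.inv = (Tw n k ((n : ℤ) + 1)).map φ₁ := by
      simp only [φ', Category.assoc, Iso.hom_inv_id, Category.comp_id, Iso.hom_inv_id_assoc]
    have h2 : (Tw n k ((n : ℤ) + 1)).map φ₁ = 0 := by
      rw [← h1, h0, zero_comp, comp_zero]
    exact (Tw n k ((n : ℤ) + 1)).map_injective
      (h2.trans ((Tw n k ((n : ℤ) + 1)).map_zero _ _).symm)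
  have hσ : ∃ σ : Coh.structureModule PX ⟶ (Tw n k m).obj E, σ ≫ φ' ≠ 0 := by
    by_contra hno
    push_neg at hno
    exact hφ' (eq_zero_of_globallyGenerated hgg φ' hno)
  obtain ⟨σ, hσ⟩ := hσ
  have hiso : IsIso (σ ≫ φ') := isIso_of_ne_zero k n _ hσ
  let s : Coh.structureModule PX ⟶ (Tw n k m).obj E := inv (σ ≫ φ') ≫ σ
  have hs : s ≫ φ' = 𝟙 _ := by
    change (inv (σ ≫ φ') ≫ σ) ≫ φ' = 𝟙 _
    rw [Category.assoc, IsIso.inv_hom_id]
  have hepi : Epi φ' := (IsSplitEpi.mk' ⟨s, hs⟩).epi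
  let S : ShortComplex (PX).Modules := ShortComplex.mk (kernel.ι φ') φ' (kernel.condition φ')
  have hSex : S.Exact := ShortComplex.exact_kernel φ'
  have hmono : Mono S.f := equalizer.ι_mono
  let spl : S.Splitting := ShortComplex.Splitting.ofExactOfSection S hSex s hs hmono
  let e2 : (Tw n k m).obj E ≅ kernel φ' ⊞ Coh.structureModule PX := spl.isoBinaryBiproduct
  -- coherence of the kernel
  have hcm := isCoh_twist k n E hE m
  have j1 : ((Tw n k m).obj E).IsQuasicoherent := hcm.1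
  have j2 : SheafOfModules.IsFiniteType (R := (PX).ringCatSheaf) ((Tw n k m).obj E) := hcm.2
  have j3 : (Coh.structureModule PX).IsQuasicoherent :=
    Groth.Agent.Lib.Helper23.Serre.isQuasicoherent_structureModule' PX
  have j4 : (kernel φ').IsQuasicoherent := isQuasicoherent_kernel φ'
  have hrepi : Epi spl.r := (IsSplitEpi.mk' ⟨S.f, spl.f_r⟩).epi
  have j5 : SheafOfModules.IsFiniteType (R := (PX).ringCatSheaf) (kernel φ') :=
    @Groth.Agent.Lib.Helper23.FinType.isFiniteType_of_epi _ _ _ j1 j4 spl.r hrepi j2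
  have hK' : Coh.IsCoh (kernel φ') := ⟨j4, j5⟩
  -- untwist
  obtain ⟨u⟩ := nonempty_untwist k n E m
  have hpb : PreservesBinaryBiproducts (Tw n k (-m)) :=
    preservesBinaryBiproducts_of_preservesBiproducts _
  let e3 : E ≅ (Tw n k (-m)).obj (kernel φ') ⊞ (Tw n k (-m)).obj (Coh.structureModule PX) :=
    u.symm ≪≫ (Tw n k (-m)).mapIso e2 ≪≫ (Tw n k (-m)).mapBiprod _ _
  let e4 : (Tw n k (-m)).obj (Coh.structureModule PX) ≅ Twist.twistProjSpace n k (-m) :=
    Groth.Agent.Lib.Helper23.TensorUnit.unitTensorIso _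
  refine ⟨-m, (Tw n k (-m)).obj (kernel φ'), by omega, isCoh_twist k n _ hK' (-m), ⟨?_⟩⟩
  exact e3 ≪≫ biprod.mapIso (Iso.refl _) e4 ≪≫ biprod.braiding _ _

/-- if all top cohomology groups of all twists vanish (and the intermediate ones), and some twist
has no sections, then `E = 0` -/
theorem isZero_of_all_top_vanish (E : (PX).Modules) (hE : Coh.IsCoh E)
    (hmid : ∀ (l : ℤ) (i : ℕ), 0 < i → i < n →
      Subsingleton (Coh.HH PX (CohB1.tensorMod E (Twist.twistProjSpace n k l)) i))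
    (htop : ∀ l : ℤ, Subsingleton (Coh.HH PX
      (CohB1.tensorMod E (Twist.twistProjSpace n k l)) n))
    (l₀ : ℤ) (h0 : Subsingleton (Coh.HH PX
      (CohB1.tensorMod E (Twist.twistProjSpace n k l₀)) 0)) : IsZero E := by
  have hreg : ∀ i : ℕ, 1 ≤ i → i ≤ n → Subsingleton (Coh.HH PX
      (CohB1.tensorMod E (Twist.twistProjSpace n k (l₀ - i))) i) := by
    intro i hi1 hin
    by_cases hi : i = n
    · rw [hi]
      exact htop _
    · exact hmid _ i (by omega) (by omega)
  have hgg := globallyGenerated_of_regular n k E hE l₀ hreg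
  have hid : 𝟙 (CohB1.tensorMod E (Twist.twistProjSpace n k l₀)) = 0 := by
    apply eq_zero_of_globallyGenerated hgg
    intro σ
    exact (Category.comp_id σ).trans (eq_zero_of_cls σ (Subsingleton.elim _ _))
  have hT := isEquivalence_twR n k l₀
  rw [IsZero.iff_id_eq_zero]
  apply (Tw n k l₀).map_injective
  exact ((Tw n k l₀).map_id E).trans (hid.trans ((Tw n k l₀).map_zero _ _).symm)

theorem assemble (E K : (PX).Modules) (a : ℤ) (e : E ≅ Twist.twistProjSpace n k a ⊞ K) (r : ℕ)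
    (aj : Fin r → ℤ) (eK : K ≅ ∐ fun j => Twist.twistProjSpace n k (aj j)) :
    ∃ (r' : ℕ) (a' : Fin r' → ℤ), Nonempty (E ≅ ∐ fun j => Twist.twistProjSpace n k (a' j)) := by
  obtain ⟨e2⟩ := nonempty_iso_sigma_cons (Twist.twistProjSpace n k a)
    (fun j => Twist.twistProjSpace n k (aj j))
  refine ⟨r + 1, (Fin.cases a aj : Fin (r + 1) → ℤ), ⟨?_⟩⟩
  have hfun : (fun j : Fin (r + 1) => Twist.twistProjSpace n k
      ((Fin.cases a aj : Fin (r + 1) → ℤ) j)) =
      (Fin.cases (Twist.twistProjSpace n k a) (fun j => Twist.twistProjSpace n k (aj j)) :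
        Fin (r + 1) → (PX).Modules) := by
    funext j
    refine Fin.cases ?_ (fun i => ?_) j
    · rfl
    · rfl
  rw [hfun]
  exact e ≪≫ biprod.mapIso (Iso.refl _) eK ≪≫ e2

/-- cohomology of a twisted finite coproduct of twisting sheaves, varying twists -/
theorem subsingleton_HH_twR_coprod' (b : ℕ) (d : Fin b → ℤ) (e : ℤ) (i : ℕ)
    (h : ∀ j, ¬ (i = 0 ∧ 0 ≤ d j + e) ∧ ¬ (i = n ∧ d j + e ≤ -((n : ℤ) + 1))) :
    Subsingleton (Coh.HH PX ((twR (Twist.twistProjSpace n k e)).obj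
      (∐ fun j : Fin b => Twist.twistProjSpace n k (d j))) i) := by
  let f : Fin b → (PX).Modules := fun j => Twist.twistProjSpace n k (d j)
  let L : (PX).Modules := Twist.twistProjSpace n k e
  let e0 : (twR L).obj (∐ f) ≅ (twR L).obj (⨁ f) :=
    (twR L).mapIso (biproduct.isoCoproduct f).symm
  let e1 : (twR L).obj (⨁ f) ≅ ⨁ ((twR L).obj ∘ f) := (twR L).mapBiproduct f
  refine subsingleton_HH_of_iso (e0 ≪≫ e1).symm i (subsingleton_HH_biproduct _ i (fun j => ?_))
  obtain ⟨e2⟩ := Groth.Agent.Lib.R2Lead.KRR.nonempty_twistProjSpace_tensor_iso n k (d j) e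
  refine subsingleton_HH_of_iso e2.symm i ?_
  exact Groth.Agent.Lib.R2H2.PnTwEquiv.subsingleton_HH_twist n k (d j + e) i (h j).1 (h j).2

/-- the cohomological conditions hold for a direct sum of twisting sheaves -/
theorem cohomology_of_split (hn : 1 ≤ n) (E : (PX).Modules) (r : ℕ) (a : Fin r → ℤ)
    (e : E ≅ ∐ fun j => Twist.twistProjSpace n k (a j)) :
    (∃ l₀ : ℤ, ∀ l : ℤ, l ≤ l₀ → Subsingleton (Coh.HH PX
        (CohB1.tensorMod E (Twist.twistProjSpace n k l)) 0)) ∧
      ∀ (l : ℤ) (i : ℕ), 0 < i → i < n → Subsingleton (Coh.HH PX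
        (CohB1.tensorMod E (Twist.twistProjSpace n k l)) i) := by
  have key : ∀ (l : ℤ) (i : ℕ),
      (∀ j, ¬ (i = 0 ∧ 0 ≤ a j + l) ∧ ¬ (i = n ∧ a j + l ≤ -((n : ℤ) + 1))) →
      Subsingleton (Coh.HH PX (CohB1.tensorMod E (Twist.twistProjSpace n k l)) i) := by
    intro l i h
    exact subsingleton_HH_of_iso ((twR (Twist.twistProjSpace n k l)).mapIso e).symm i
      (subsingleton_HH_twR_coprod' k n r a l i h)
  constructor
  · refine ⟨-(1 + ∑ j, |a j|), fun l hl => key l 0 (fun j => ⟨?_, ?_⟩)⟩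
    · rintro ⟨-, h2⟩
      have h3 : |a j| ≤ ∑ j, |a j| :=
        Finset.single_le_sum (f := fun j => |a j|) (fun i _ => abs_nonneg (a i))
          (Finset.mem_univ j)
      have h4 := le_abs_self (a j)
      omega
    · rintro ⟨h1, -⟩
      omega
  · intro l i hi1 hi2
    refine key l i (fun j => ⟨?_, ?_⟩)
    · rintro ⟨h1, -⟩
      omega
    · rintro ⟨h1, -⟩
      omega

/-- the induction for Horrocks' criterion -/
theorem splits_aux (m₀ : ℤ) : ∀ (N : ℕ) (E : (PX).Modules), Coh.IsCoh E →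
    (∀ (l : ℤ) (i : ℕ), 0 < i → i < n →
      Subsingleton (Coh.HH PX (CohB1.tensorMod E (Twist.twistProjSpace n k l)) i)) →
    (∃ l₀ : ℤ, ∀ l : ℤ, l ≤ l₀ → Subsingleton (Coh.HH PX
      (CohB1.tensorMod E (Twist.twistProjSpace n k l)) 0)) →
    (∀ l : ℤ, m₀ - n ≤ l →
      Subsingleton (Coh.HH PX (CohB1.tensorMod E (Twist.twistProjSpace n k l)) n)) →
    Module.finrank k (Coh.HH PX (CohB1.tensorMod E (Twist.twistProjSpace n k m₀)) 0) = N →
    ∃ (r : ℕ) (a : Fin r → ℤ), Nonempty (E ≅ ∐ fun j => Twist.twistProjSpace n k (a j)) := by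
  intro N
  induction N using Nat.strong_induction_on with
  | _ N ih =>
    intro E hE hmid hneg htop hN
    by_cases hex : ∃ l : ℤ, ¬ Subsingleton (Coh.HH PX
        (CohB1.tensorMod E (Twist.twistProjSpace n k l)) n)
    · obtain ⟨a, K, ha, hK, ⟨e⟩⟩ := exists_split_step k n E hE hmid m₀ htop hex
      let ι : K ⟶ E := biprod.inr ≫ e.inv
      let ρ : E ⟶ K := e.hom ≫ biprod.snd
      have hιρ : ι ≫ ρ = 𝟙 K := by
        simp only [ι, ρ, Category.assoc, Iso.inv_hom_id_assoc, biprod.inr_snd]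
      have hinj : ∀ (l : ℤ) (i : ℕ), Function.Injective (HmapL ((Tw n k l).map ι) i) :=
        fun l i => injective_HmapL_of_retract _ ((Tw n k l).map ρ)
          (by rw [← Functor.map_comp, hιρ, CategoryTheory.Functor.map_id]) i
      have hmidK : ∀ (l : ℤ) (i : ℕ), 0 < i → i < n →
          Subsingleton (Coh.HH PX (CohB1.tensorMod K (Twist.twistProjSpace n k l)) i) :=
        fun l i h1 h2 => @Function.Injective.subsingleton _ _ _ (hinj l i) (hmid l i h1 h2)
      have hnegK : ∃ l₀ : ℤ, ∀ l : ℤ, l ≤ l₀ → Subsingleton (Coh.HH PX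
          (CohB1.tensorMod K (Twist.twistProjSpace n k l)) 0) := by
        obtain ⟨l₀, h⟩ := hneg
        exact ⟨l₀, fun l hl => @Function.Injective.subsingleton _ _ _ (hinj l 0) (h l hl)⟩
      have htopK : ∀ l : ℤ, m₀ - n ≤ l →
          Subsingleton (Coh.HH PX (CohB1.tensorMod K (Twist.twistProjSpace n k l)) n) :=
        fun l hl => @Function.Injective.subsingleton _ _ _ (hinj l n) (htop l hl)
      have hlt : Module.finrank k (Coh.HH PX
          (CohB1.tensorMod K (Twist.twistProjSpace n k m₀)) 0) < N := by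
        rw [← hN]
        have hfinE : Module.Finite k (Coh.HH PX ((Tw n k m₀).obj E) 0) :=
          Groth.Agent.Lib.R2H2.PnFinite.finite_HH n k _ (isCoh_twist k n E hE m₀) 0
        have hf : Function.Injective (HmapA k ((Tw n k m₀).map ι) 0) := hinj m₀ 0
        have hns : ¬ Function.Surjective (HmapA k ((Tw n k m₀).map ι) 0) := by
          intro hsurj
          obtain ⟨d, hd⟩ : ∃ d : ℕ, a + m₀ = d := ⟨(a + m₀).toNat, by omega⟩
          obtain ⟨e3⟩ := Groth.Agent.Lib.R2Lead.KRR.nonempty_twistProjSpace_tensor_iso n k a m₀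
          have hnt : Nontrivial (Coh.HH PX (CohB1.tensorMod (Twist.twistProjSpace n k a)
              (Twist.twistProjSpace n k m₀)) 0) := by
            have h5 := nontrivial_H0_twist k n d
            rw [← hd] at h5
            exact (LinearEquiv.ofBijective (HmapA k e3.hom 0)
              (bijective_HmapL_of_iso e3 0)).toEquiv.nontrivial
          let p : E ⟶ Twist.twistProjSpace n k a := e.hom ≫ biprod.fst
          let q : Twist.twistProjSpace n k a ⟶ E := biprod.inl ≫ e.inv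
          have hqp : q ≫ p = 𝟙 _ := by
            simp only [p, q, Category.assoc, Iso.inv_hom_id_assoc, biprod.inl_fst]
          have hιp : ι ≫ p = 0 := by
            simp only [ι, p, Category.assoc, Iso.inv_hom_id_assoc, biprod.inr_fst]
          obtain ⟨x, hx⟩ := exists_ne (0 : Coh.HH PX (CohB1.tensorMod
            (Twist.twistProjSpace n k a) (Twist.twistProjSpace n k m₀)) 0)
          apply hx
          obtain ⟨y, hy⟩ := hsurj (HmapL ((Tw n k m₀).map q) 0 x)
          have h1 : HmapL ((Tw n k m₀).map p) 0 (HmapL ((Tw n k m₀).map q) 0 x) = x := by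
            rw [← HmapL_comp, ← Functor.map_comp, hqp, CategoryTheory.Functor.map_id, HmapL_id]
          have h2 : HmapL ((Tw n k m₀).map p) 0 (HmapL ((Tw n k m₀).map ι) 0 y) = 0 := by
            rw [← HmapL_comp, ← Functor.map_comp, hιp, Functor.map_zero, HmapL_zero]
          rw [← h1, ← hy]
          exact h2
        have h2 : LinearMap.range (HmapA k ((Tw n k m₀).map ι) 0) ≠ ⊤ :=
          fun h => hns (LinearMap.range_eq_top.1 h)
        have h3 := Submodule.finrank_lt h2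
        rwa [LinearMap.finrank_range_of_inj hf] at h3
      obtain ⟨r, aj, ⟨eK⟩⟩ := ih _ hlt K hK hmidK hnegK htopK rfl
      exact assemble k n E K a e r aj eK
    · push_neg at hex
      obtain ⟨l₀, hl₀⟩ := hneg
      have hz : IsZero E := isZero_of_all_top_vanish k n E hE hmid hex l₀ (hl₀ l₀ le_rfl)
      have hz' : IsZero (∐ fun j : Fin 0 => Twist.twistProjSpace n k (Fin.elim0 j)) := by
        rw [IsZero.iff_id_eq_zero]
        apply Sigma.hom_ext
        intro j
        exact Fin.elim0 j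
      exact ⟨0, Fin.elim0, ⟨hz.iso hz'⟩⟩

/-- **Horrocks' splitting criterion** -/
theorem horrocks (hn : 1 ≤ n) (E : (PX).Modules) (hE : Coh.IsCoh E) :
    (∃ (r : ℕ) (a : Fin r → ℤ), Nonempty (E ≅ ∐ fun j => Twist.twistProjSpace n k (a j))) ↔
      ((∃ l₀ : ℤ, ∀ l : ℤ, l ≤ l₀ → Subsingleton (Coh.HH PX
          (CohB1.tensorMod E (Twist.twistProjSpace n k l)) 0)) ∧
        ∀ (l : ℤ) (i : ℕ), 0 < i → i < n → Subsingleton (Coh.HH PX
          (CohB1.tensorMod E (Twist.twistProjSpace n k l)) i)) := by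
  constructor
  · rintro ⟨r, a, ⟨e⟩⟩
    exact cohomology_of_split k n hn E r a e
  · rintro ⟨hneg, hmid⟩
    obtain ⟨d₀, hd₀⟩ := serre_vanishing n k E hE n (by omega)
    exact splits_aux k n (d₀ + n) _ E hE hmid hneg (fun l hl => hd₀ l (by omega)) rfl

end Pn

end Groth.Agent.Lib.R2H2.PnHorrocks
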