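import Groth.Agent.Lib.Helper21Dual12
import Groth.Agent.Lib.Helper21Dual9
import Groth.Agent.Lib.Helper2LocFree
import Groth.Agent.Lib.Helper2RankLoc
import Groth.Agent.Lib.R2H2PnHorrocks

/-!
# Finite locally free modules on `P^n_k` (helper2, round 2)

* `isFinLocFree_of_isLocFF`, `isFinLocFree_dual`, `isCoh_of_isFinLocFree`
* `exists_hom_unit_twist_eq_zero`, `exists_H0_vanishing`: `H^0(E(l)) = 0` for `l ≪ 0`, `E` finite locally
  free on `P^n_k`, `n ≥ 1` (via the dual bundle and top Serre duality)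
* `isFinLocFreeOfRank_sigma`, `rank_unique`
* `exists_perm_antitone`, `eq_of_sum_eq` (combinatorics of splitting types)
* `HHBiproductEquiv`, `finrank_HH_coprod`
-/

set_option autoImplicit false
set_option linter.style.haveILetI false
universe u

namespace Groth.Agent.Lib.R2H2.PnLocFree

section PartA


open CategoryTheory CategoryTheory.Limits AlgebraicGeometry Opposite
open Groth.Agent.Lib.Helper21.Dual Groth.Agent.Lib.Helper21.LocFact

attribute [local instance] Groth.Agent.Lib.Helper21.ExtShDelta.hasSheafHom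

variable {X : Scheme.{u}}

/-- a finite free structure gives an isomorphism with the coproduct -/
noncomputable def ffIso {A : Type*} [Category A] [Preadditive A] {U Q : A} {I : Type} [Fintype I]
    [HasCoproduct (fun _ : I => U)] (ff : FF U Q I) : Q ≅ ∐ fun _ : I => U where
  hom := ∑ i, ff.π i ≫ Sigma.ι (fun _ : I => U) i
  inv := Sigma.desc ff.ι
  hom_inv_id := by
    rw [Preadditive.sum_comp]
    have h : ∀ i, (ff.π i ≫ Sigma.ι (fun _ : I => U) i) ≫ Sigma.desc ff.ι = ff.π i ≫ ff.ι i := by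
      intro i
      rw [Category.assoc, Sigma.ι_desc]
    rw [Finset.sum_congr rfl (fun i _ => h i), ff.sum]
  inv_hom_id := by
    apply Sigma.hom_ext
    intro j
    rw [← Category.assoc, Sigma.ι_desc, Preadditive.comp_sum, Category.comp_id,
      Finset.sum_eq_single j]
    · rw [← Category.assoc, ff.ι_π_self, Category.id_comp]
    · intro i _ hi
      rw [← Category.assoc, ff.ι_π_ne j i (Ne.symm hi), zero_comp]
    · intro h
      exact absurd (Finset.mem_univ j) h

/-- a trivialization of `L.over U` gives one of `L|_U`. -/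
noncomputable def restrictIsoFreeOfOver (L : X.Modules) (U : X.Opens) (n : ℕ)
    (e : (SheafOfModules.overFunctor X.ringCatSheaf U).obj L ≅
      ∐ fun _ : Fin n => SheafOfModules.unit.{u} (X.ringCatSheaf.over U)) :
    L.restrict U.ι ≅ FlatMod.freeMod (↑U) n := by
  let Φ : SheafOfModules.{u} (X.ringCatSheaf.over U) ⥤ (↑U : Scheme.{u}).Modules :=
    (Scheme.Modules.overEquiv U).functor
  let i1 : Φ.obj ((SheafOfModules.overFunctor X.ringCatSheaf U).obj L) ≅ L.restrict U.ι :=
    (Scheme.Modules.overFunctorEquiv U).app L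
  let i3 : Φ.obj (∐ fun _ : Fin n => SheafOfModules.unit.{u} (X.ringCatSheaf.over U)) ≅
      ∐ fun _ : Fin n => Φ.obj (SheafOfModules.unit.{u} (X.ringCatSheaf.over U)) :=
    PreservesCoproduct.iso Φ _
  let i4 : (∐ fun _ : Fin n => Φ.obj (SheafOfModules.unit.{u} (X.ringCatSheaf.over U))) ≅
      FlatMod.freeMod (↑U) n :=
    Sigma.mapIso (fun _ => Iso.refl _)
  exact i1.symm ≪≫ Φ.mapIso e ≪≫ i3 ≪≫ i4

theorem isFinLocFree_of_isLocFF (L : ModSite.Mod X.sheaf) (hL : IsLocFF (O := X.sheaf) L) :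
    FlatMod.IsFinLocFree L := by
  obtain ⟨K, U, hU, h⟩ := hL
  intro x
  have h1 := hU ⊤
  rw [Opens.mem_grothendieckTopology] at h1
  obtain ⟨V, f, ⟨k, ⟨g⟩⟩, hxV⟩ := h1 x trivial
  obtain ⟨I, hI, ⟨ff⟩⟩ := h k
  have hxU : x ∈ U k := leOfHom g hxV
  let eI : I ≃ Fin (Fintype.card I) := Fintype.equivFin I
  let e1 : (ModSite.restr X.sheaf (U k)).obj L ≅
      ∐ fun _ : I => ModSite.unit (X.sheaf.over (U k)) := ffIso ff
  let e2 : (∐ fun _ : I => ModSite.unit (X.sheaf.over (U k))) ≅
      ∐ fun _ : Fin (Fintype.card I) => ModSite.unit (X.sheaf.over (U k)) :=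
    Sigma.whiskerEquiv (f := fun _ : I => ModSite.unit (X.sheaf.over (U k)))
      (g := fun _ : Fin (Fintype.card I) => ModSite.unit (X.sheaf.over (U k))) eI
      (fun _ => Iso.refl _)
  exact ⟨U k, Fintype.card I, hxU, ⟨restrictIsoFreeOfOver L (U k) _ (e1 ≪≫ e2)⟩⟩

theorem isFinLocFree_dual (E : X.Modules) (hE : FlatMod.IsFinLocFree E) :
    FlatMod.IsFinLocFree (dual (O := X.sheaf) E) :=
  isFinLocFree_of_isLocFF _ (isLocFF_dual (O := X.sheaf) E (isLocFF_of_isFinLocFree E hE))

theorem isCoh_of_isFinLocFree (E : X.Modules) (hE : FlatMod.IsFinLocFree E) : Coh.IsCoh E := by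
  haveI := Groth.Agent.Lib.Helper2.LocFree.isFP_of_isFinLocFree E hE
  exact ⟨inferInstance, inferInstance⟩


end PartA

section PartB


open CategoryTheory CategoryTheory.Limits AlgebraicGeometry Opposite
open Groth.Agent.Lib.Helper21.Dual Groth.Agent.Lib.Helper21.LocFact
  Groth.Agent.Lib.Helper21.ModTensor3 Groth.Agent.Lib.Helper21.ModTensor5
  Groth.Agent.Lib.Helper21.ModTensor7
  Groth.Agent.Lib.R2H2.HHLin Groth.Agent.Lib.R2H2.DualRep Groth.Agent.Lib.R2H2.PnSerre
  Groth.Agent.Lib.R2H2.PnMumford Groth.Agent.Lib.R2H2.PnLinRes Groth.Agent.Lib.R2H2.PnGG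
  Groth.Agent.Lib.R2H2.PnHorrocks

attribute [local instance] Groth.Agent.Lib.Helper21.ExtShDelta.hasSheafHom

section Pn

variable (k : Type u) [Field k] (n : ℕ)

local notation "PX" => CohB1.ProjSpace n k

/-- sections of very negative twists of a finite locally free module vanish -/
theorem exists_hom_unit_twist_eq_zero (E : (PX).Modules) (hE : FlatMod.IsFinLocFree E)
    (hn : 1 ≤ n) :
    ∃ l₀ : ℤ, ∀ l : ℤ, l ≤ l₀ →
      ∀ σ : Coh.structureModule PX ⟶ CohB1.tensorMod E (Twist.twistProjSpace n k l), σ = 0 := by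
  let D : (PX).Modules := dual (O := (PX).sheaf) E
  have hD : Coh.IsCoh D := isCoh_of_isFinLocFree D (isFinLocFree_dual E hE)
  let M : (PX).Modules := (tR (PX).sheaf D).obj (Coh.structureModule PX)
  have eM : M ≅ D := (tLUnitIso (PX).sheaf).app D
  have hM : Coh.IsCoh M := by
    have i1 : D.IsQuasicoherent := hD.1
    have i2 : SheafOfModules.IsFiniteType (R := (PX).ringCatSheaf) D := hD.2
    exact ⟨Groth.Agent.Lib.Helper23.TensorQCoh.isQuasicoherent_of_iso eM.symm,
      Groth.Agent.Lib.Helper23.FinType.isFiniteType_of_iso eM.symm⟩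
  obtain ⟨d₀, hd₀⟩ := serre_vanishing n k M hM n (by omega)
  obtain ⟨t, ht⟩ := Groth.Agent.Lib.R2H2.PnDualQCoh.main k n
  refine ⟨-d₀ - n - 1, fun l hl σ => ?_⟩
  let L : (PX).Modules := Twist.twistProjSpace n k l
  let m : ℤ := -l - n - 1
  have hm : d₀ ≤ m := by simp only [m]; omega
  have hsub : Subsingleton (Coh.HH PX ((Tw n k m).obj M) n) := hd₀ m hm
  have adj : tR (PX).sheaf D ⊣ tR (PX).sheaf E :=
    dualAdjSw (O := (PX).sheaf) E (isLocFF_of_isFinLocFree E hE)
  -- step 1: braiding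
  let σ₁ : Coh.structureModule PX ⟶ (tR (PX).sheaf E).obj L :=
    σ ≫ (brdApp (PX).sheaf E L).hom
  -- step 2: adjunction
  let σ₂ : M ⟶ L := (adj.homEquiv _ _).symm σ₁
  -- step 3: twist
  obtain ⟨e⟩ := Groth.Agent.Lib.R2Lead.KRR.nonempty_twistProjSpace_tensor_iso n k l m
  have hlm : l + m = -((n : ℤ) + 1) := by simp only [m]; ring
  let e' : (Tw n k m).obj L ≅ Twist.twistProjSpace n k (-((n : ℤ) + 1)) :=
    e ≪≫ eqToIso (by rw [hlm])
  let σ₄ : (Tw n k m).obj M ⟶ Twist.twistProjSpace n k (-((n : ℤ) + 1)) :=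
    (Tw n k m).map σ₂ ≫ e'.hom
  have hMq : Coh.IsQCoh ((Tw n k m).obj M) := (isCoh_twist k n M hM m).1
  have h4 : σ₄ = 0 := by
    refine (ht _ hMq).inj σ₄ (fun x => ?_)
    rw [Subsingleton.elim x 0, map_zero, map_zero]
  have h3 : (Tw n k m).map σ₂ = 0 := by
    have h : (Tw n k m).map σ₂ ≫ e'.hom = 0 := h4
    rw [← cancel_mono e'.hom, h, zero_comp]
  have h2 : σ₂ = 0 := by
    haveI := isEquivalence_twR n k m
    apply (Tw n k m).map_injective
    rw [h3, Functor.map_zero]
  have h1 : σ₁ = 0 := by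
    have h : σ₁ = (adj.homEquiv _ _) σ₂ := (Equiv.apply_symm_apply _ _).symm
    rw [h, h2, Adjunction.homEquiv_unit]
    have hz : (twR E).map (0 : M ⟶ L) = 0 := Functor.map_zero _ _ _
    exact (congrArg (adj.unit.app (Coh.structureModule PX) ≫ ·) hz).trans comp_zero
  let b : CohB1.tensorMod E L ≅ (twR E).obj L := brdApp (PX).sheaf E L
  have h0 : σ ≫ b.hom = 0 := h1
  calc σ = σ ≫ b.hom ≫ b.inv := by rw [b.hom_inv_id, Category.comp_id]
    _ = (σ ≫ b.hom) ≫ b.inv := (Category.assoc _ _ _).symm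
    _ = 0 := by rw [h0, zero_comp]

theorem exists_H0_vanishing (E : (PX).Modules) (hE : FlatMod.IsFinLocFree E) (hn : 1 ≤ n) :
    ∃ l₀ : ℤ, ∀ l : ℤ, l ≤ l₀ →
      Subsingleton (Coh.HH PX (CohB1.tensorMod E (Twist.twistProjSpace n k l)) 0) := by
  obtain ⟨l₀, h⟩ := exists_hom_unit_twist_eq_zero k n E hE hn
  refine ⟨l₀, fun l hl => ⟨fun x y => ?_⟩⟩
  obtain ⟨σ, rfl⟩ := cls_surjective _ x
  obtain ⟨τ, rfl⟩ := cls_surjective _ y
  rw [h l hl σ, h l hl τ]

end Pn


end PartB

section PartC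


open CategoryTheory CategoryTheory.Limits AlgebraicGeometry Opposite
open Groth.Agent.Lib.R2H2.HHLin

section Rank

variable {X : Scheme.{u}}

/-- a module free over `U` is free over every smaller open -/
lemma nonempty_restrict_iso_freeMod_of_le (M : X.Modules) {U U' : X.Opens} (h : U' ≤ U) {n : ℕ}
    (e : M.restrict U.ι ≅ FlatMod.freeMod (↑U) n) :
    Nonempty (M.restrict U'.ι ≅ FlatMod.freeMod (↑U') n) := by
  let j : (U' : Scheme.{u}) ⟶ U := X.homOfLE h
  have hj : j ≫ U.ι = U'.ι := X.homOfLE_ι h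
  exact ⟨(Scheme.Modules.restrictFunctorCongr hj.symm).app M ≪≫
    (Scheme.Modules.restrictFunctorComp j U.ι).app M ≪≫
    (Scheme.Modules.restrictFunctor j).mapIso e ≪≫
    Groth.Agent.Lib.Helper20.LocFree.restrictFreeMod j n⟩

/-- a finite coproduct of invertible modules is locally free of the expected rank -/
theorem isFinLocFreeOfRank_sigma (r : ℕ) (L : Fin r → X.Modules)
    (hL : ∀ j, PicF.IsInvertible (L j)) : FlatMod.IsFinLocFreeOfRank r (∐ L) := by
  intro x
  choose U hxU e using fun j => hL j x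
  let V : X.Opens := ⨅ j, U j
  have hxV : x ∈ V := by
    have h : ((⨅ j, U j : X.Opens) : Set X) = ⋂ j, (U j : Set X) := TopologicalSpace.Opens.coe_iInf U
    change x ∈ ((⨅ j, U j : X.Opens) : Set X)
    rw [h]
    exact Set.mem_iInter.2 hxU
  have e' : ∀ j, Nonempty ((L j).restrict V.ι ≅ Coh.structureModule (↑V : Scheme.{u})) := by
    intro j
    have e1 : (L j).restrict (U j).ι ≅ FlatMod.freeMod (↑(U j)) 1 :=
      (e j).some ≪≫ (Limits.coproductUniqueIso
        (fun _ : Fin 1 => Coh.structureModule (↑(U j) : Scheme.{u}))).symm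
    obtain ⟨e2⟩ := nonempty_restrict_iso_freeMod_of_le (L j)
      (iInf_le U j : V ≤ U j) e1
    exact ⟨e2 ≪≫ Limits.coproductUniqueIso
      (fun _ : Fin 1 => Coh.structureModule (↑V : Scheme.{u}))⟩
  refine ⟨V, hxV, ⟨?_⟩⟩
  let F := Scheme.Modules.restrictFunctor V.ι
  let i1 : F.obj (∐ L) ≅ ∐ fun j => F.obj (L j) := PreservesCoproduct.iso F L
  let i2 : (∐ fun j => F.obj (L j)) ≅ FlatMod.freeMod (↑V) r :=
    Sigma.mapIso (fun j => (e' j).some)
  exact i1 ≪≫ i2

/-- the rank of a finite locally free quasi-coherent module on a nonempty scheme is unique -/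
theorem rank_unique [Nonempty X] (E : X.Modules) [E.IsQuasicoherent] {r r' : ℕ}
    (h : FlatMod.IsFinLocFreeOfRank r E) (h' : FlatMod.IsFinLocFreeOfRank r' E) : r = r' := by
  obtain ⟨x⟩ := (inferInstance : Nonempty X)
  obtain ⟨W, hxW, ⟨e⟩⟩ := h x
  obtain ⟨W', hxW', ⟨e'⟩⟩ := h' x
  have h1 := (Groth.Agent.Lib.Helper2.RankLoc.fibreRank_eq_of_restrict_iso_freeMod W.ι E e
    ⟨x, hxW⟩).2
  have h2 := (Groth.Agent.Lib.Helper2.RankLoc.fibreRank_eq_of_restrict_iso_freeMod W'.ι E e'
    ⟨x, hxW'⟩).2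
  exact h1.symm.trans h2

end Rank

section Sorting

/-- every finite integer sequence can be rearranged to be non-increasing -/
theorem exists_perm_antitone {r : ℕ} (a : Fin r → ℤ) :
    ∃ σ : Equiv.Perm (Fin r), Antitone (a ∘ σ) := by
  refine ⟨Tuple.sort (fun j => -a j), fun i j hij => ?_⟩
  have h := Tuple.monotone_sort (fun j => -a j) hij
  simp only [Function.comp_apply] at h ⊢
  omega

/-- the combinatorial heart of the uniqueness of the splitting type -/
theorem eq_of_sum_eq {r : ℕ} (g : ℤ → ℤ → ℕ) (hneg : ∀ a l : ℤ, a + l < 0 → g a l = 0)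
    (hone : ∀ a : ℤ, g a (-a) = 1) (d d' : Fin r → ℤ) (hd : Antitone d) (hd' : Antitone d')
    (h : ∀ l : ℤ, ∑ i, g (d i) l = ∑ i, g (d' i) l) : d = d' := by
  by_contra hne
  have hex : ∃ j : Fin r, d j ≠ d' j := by
    by_contra hcon
    push_neg at hcon
    exact hne (funext hcon)
  -- the first index at which the sequences differ
  have key : ∀ (d d' : Fin r → ℤ), Antitone d → Antitone d' →
      (∀ l : ℤ, ∑ i, g (d i) l = ∑ i, g (d' i) l) →
      ∀ j : Fin r, (∀ i : Fin r, i < j → d i = d' i) → d' j < d j → False := by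
    intro d d' hd hd' h j hj hlt
    have hle : ∀ i : Fin r, g (d' i) (-d j) ≤ g (d i) (-d j) := by
      intro i
      by_cases hij : i < j
      · rw [hj i hij]
      · have h1 : d' i ≤ d' j := hd' (not_lt.1 hij)
        rw [hneg (d' i) (-d j) (by omega)]
        exact Nat.zero_le _
    have hlt' : g (d' j) (-d j) < g (d j) (-d j) := by
      rw [hneg (d' j) (-d j) (by omega), hone]
      exact Nat.zero_lt_one
    have := Finset.sum_lt_sum (fun i _ => hle i) ⟨j, Finset.mem_univ j, hlt'⟩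
    rw [h (-d j)] at this
    exact lt_irrefl _ this
  classical
  let S : Finset (Fin r) := Finset.univ.filter (fun j => d j ≠ d' j)
  have hS : S.Nonempty := by
    obtain ⟨j, hj⟩ := hex
    exact ⟨j, Finset.mem_filter.2 ⟨Finset.mem_univ j, hj⟩⟩
  let j := S.min' hS
  have hjS : j ∈ S := Finset.min'_mem S hS
  have hj : d j ≠ d' j := (Finset.mem_filter.1 hjS).2
  have hmin : ∀ i : Fin r, i < j → d i = d' i := by
    intro i hij
    by_contra hcon
    have hiS : i ∈ S := Finset.mem_filter.2 ⟨Finset.mem_univ i, hcon⟩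
    exact absurd (Finset.min'_le S i hiS) (not_le.2 hij)
  rcases lt_or_gt_of_ne hj with hlt | hgt
  · exact key d' d hd' hd (fun l => (h l).symm) j (fun i hi => (hmin i hi).symm) hlt
  · exact key d d' hd hd' h j hmin hgt

end Sorting

section Finrank

variable {k : Type u} [Field k] {X : Scheme.{u}} [X.Over (Spec (CommRingCat.of k))]

attribute [local instance] Abelian.hasFiniteBiproducts

/-- cohomology of a finite biproduct, linearly -/
noncomputable def HHBiproductEquiv {r : ℕ} (f : Fin r → X.Modules) (i : ℕ) :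
    Coh.HH X (⨁ f) i ≃ₗ[k] (∀ j, Coh.HH X (f j) i) where
  toFun x j := HmapA k (biproduct.π f j) i x
  map_add' x y := by
    funext j
    exact map_add _ x y
  map_smul' a x := by
    funext j
    exact map_smul (HmapA k (biproduct.π f j) i) a x
  invFun y := ∑ j, HmapA k (biproduct.ι f j) i (y j)
  left_inv x := by
    have h1 : ∀ j, HmapA k (biproduct.ι f j) i (HmapA k (biproduct.π f j) i x) =
        HmapL (biproduct.π f j ≫ biproduct.ι f j) i x := by
      intro j
      exact (HmapL_comp _ _ i x).symm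
    change ∑ j, HmapA k (biproduct.ι f j) i (HmapA k (biproduct.π f j) i x) = x
    rw [Finset.sum_congr rfl (fun j _ => h1 j), ← HmapL_sum, biproduct.total, HmapL_id]
  right_inv y := by
    funext j
    change HmapA k (biproduct.π f j) i (∑ j', HmapA k (biproduct.ι f j') i (y j')) = y j
    rw [map_sum, Finset.sum_eq_single j]
    · have h1 : HmapA k (biproduct.π f j) i (HmapA k (biproduct.ι f j) i (y j)) =
          HmapL (biproduct.ι f j ≫ biproduct.π f j) i (y j) := (HmapL_comp _ _ i _).symm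
      rw [h1, biproduct.ι_π_self, HmapL_id]
    · intro j' _ hj'
      have h1 : HmapA k (biproduct.π f j) i (HmapA k (biproduct.ι f j') i (y j')) =
          HmapL (biproduct.ι f j' ≫ biproduct.π f j) i (y j') := (HmapL_comp _ _ i _).symm
      rw [h1, biproduct.ι_π_ne f hj', HmapL_zero]
    · intro h
      exact absurd (Finset.mem_univ j) h

theorem finrank_HH_coprod {r : ℕ} (f : Fin r → X.Modules) (i : ℕ)
    (hfin : ∀ j, Module.Finite k (Coh.HH X (f j) i)) :
    Module.finrank k (Coh.HH X (∐ f) i) = ∑ j, Module.finrank k (Coh.HH X (f j) i) := by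
  let e0 : Coh.HH X (∐ f) i ≃ₗ[k] Coh.HH X (⨁ f) i :=
    LinearEquiv.ofBijective (HmapA k (biproduct.isoCoproduct f).inv i)
      (Groth.Agent.Lib.R2H2.PnMumford.bijective_HmapL_of_iso (biproduct.isoCoproduct f).symm i)
  rw [e0.finrank_eq, (HHBiproductEquiv (k := k) f i).finrank_eq, Module.finrank_pi_fintype]

end Finrank


end PartC

end Groth.Agent.Lib.R2H2.PnLocFree
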