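/-
Modules supported on a finite set of closed points decompose as a direct sum of their local parts j_* j^* G; tensoring with a finite locally free module of rank n multiplies the Euler characteristic by n (S1558).
-/
import Mathlib
import Groth.Prelude
import Groth.Agent.Lib.R2H1GenusLe
import Groth.Agent.Lib.Helper21ModTensor7
import Groth.Agent.Lib.Helper23RestrTensor
import Groth.Agent.Lib.R2H2PnLocFree
import Groth.Agent.Lib.Helper1FLF1

set_option autoImplicit false
set_option linter.style.haveILetI false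
set_option linter.unusedSectionVars false
universe u v

namespace Groth.Agent.Lib.R2H1.SkyDecomp

section Part1

open CategoryTheory CategoryTheory.Limits AlgebraicGeometry TopologicalSpace Opposite
open Groth.Agent.Lib.R2H1.ZeroDimCoh

section Top

variable {X : TopCat.{u}} (F : TopCat.Sheaf AddCommGrpCat.{u} X)

/-- sections of a sheaf supported on a closed set `Z` over `V` are the product of sections over
opens `W j ≤ V` covering `Z ∩ V` whose pairwise intersections avoid `Z` -/
theorem bijective_restrict_pi {r : ℕ} (Z : Set X) (hZ : IsClosed Z)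
    (hF : ∀ x, x ∉ Z → Subsingleton (F.presheaf.stalk x)) (V : Opens X)
    (W : Fin r → Opens X) (hW : ∀ j, W j ≤ V)
    (h1 : ∀ x ∈ V, x ∈ Z → ∃ j, x ∈ W j)
    (h2 : ∀ i j, i ≠ j → ∀ x, x ∈ W i → x ∈ W j → x ∉ Z) :
    Function.Bijective (fun (s : F.1.obj (op V)) (j : Fin r) =>
      F.1.map (homOfLE (hW j)).op s) := by
  constructor
  · intro s t hst
    apply TopCat.Presheaf.section_ext F V s t
    intro x hx
    by_cases hxZ : x ∈ Z
    · obtain ⟨j, hj⟩ := h1 x hx hxZ
      have e1 := TopCat.Presheaf.germ_res_apply F.presheaf (homOfLE (hW j)) x hj s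
      have e2 := TopCat.Presheaf.germ_res_apply F.presheaf (homOfLE (hW j)) x hj t
      rw [← e1, ← e2]
      exact congrArg _ (congrFun hst j)
    · haveI := hF x hxZ
      exact Subsingleton.elim _ _
  · intro t
    let W₀ : Opens X := V ⊓ ⟨Zᶜ, hZ.isOpen_compl⟩
    let cov : Option (Fin r) → Opens X := fun b => match b with | none => W₀ | some j => W j
    let sf : ∀ b : Option (Fin r), ToType (F.1.obj (op (cov b))) := fun b =>
      match b with | none => 0 | some j => t j
    have hcomp : TopCat.Presheaf.IsCompatible F.1 cov sf := by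
      intro a b
      match a, b with
      | none, none => rfl
      | none, some j =>
        haveI := subsingleton_sections_of_disjoint F Z hF (W₀ ⊓ W j) (fun x hx => hx.1.2)
        exact Subsingleton.elim _ _
      | some i, none =>
        haveI := subsingleton_sections_of_disjoint F Z hF (W i ⊓ W₀) (fun x hx => hx.2.2)
        exact Subsingleton.elim _ _
      | some i, some j =>
        by_cases hij : i = j
        · subst hij
          rfl
        · haveI := subsingleton_sections_of_disjoint F Z hF (W i ⊓ W j)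
            (fun x hx => h2 i j hij x hx.1 hx.2)
          exact Subsingleton.elim _ _
    have hle : ∀ b, cov b ≤ V := fun b => by
      match b with
      | none => exact inf_le_left
      | some j => exact hW j
    have hcover : V ≤ iSup cov := by
      intro x hx
      by_cases hxZ : x ∈ Z
      · obtain ⟨j, hj⟩ := h1 x hx hxZ
        exact (le_iSup cov (some j)) hj
      · exact (le_iSup cov none) ⟨hx, hxZ⟩
    obtain ⟨s, hs, -⟩ := F.existsUnique_gluing' cov V (fun b => homOfLE (hle b)) hcover sf hcomp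
    refine ⟨s, funext fun j => ?_⟩
    exact hs (some j)

end Top

end Part1

section Part2

open CategoryTheory CategoryTheory.Limits AlgebraicGeometry TopologicalSpace Opposite
open Groth.Agent.Lib.R2H1.ZeroDimCoh Groth.Agent.Lib.R2H1.CurveVanish

section Mod

variable {X : Scheme.{u}}

attribute [local instance] Abelian.hasFiniteBiproducts

theorem sum_app {M N : X.Modules} {ι : Type*} (s : Finset ι) (φ : ι → (M ⟶ N)) (V : X.Opens)
    (m : Γ(M, V)) : (∑ j ∈ s, φ j).app V m = ∑ j ∈ s, (φ j).app V m := by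
  classical
  induction s using Finset.induction_on with
  | empty =>
    rw [Finset.sum_empty, Finset.sum_empty]
    rfl
  | insert a s ha ih =>
    rw [Finset.sum_insert ha, Finset.sum_insert ha, ← ih]
    rfl

/-- the part of `G` near `U`: `j_* j^* G` -/
noncomputable def part (G : X.Modules) (U : X.Opens) : X.Modules :=
  (Scheme.Modules.pushforward U.ι).obj (G.restrict U.ι)

/-- the comparison map `G ⟶ ⨁ j_* j^* G` -/
noncomputable def Phi {r : ℕ} (G : X.Modules) (U : Fin r → X.Opens) :
    G ⟶ ⨁ (fun j => part G (U j)) :=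
  biproduct.lift (fun j => eta (U j) G)

theorem isIso_Phi {r : ℕ} (G : X.Modules) (Z : Set X) (hZ : IsClosed Z)
    (hG : ∀ x, x ∉ Z → Subsingleton (G.presheaf.stalk x)) (U : Fin r → X.Opens)
    (h1 : ∀ x, x ∈ Z → ∃ j, x ∈ U j)
    (h2 : ∀ i j, i ≠ j → ∀ x, x ∈ U i → x ∈ U j → x ∉ Z) : IsIso (Phi G U) := by
  rw [Scheme.Modules.Hom.isIso_iff_isIso_app]
  intro V
  rw [ConcreteCategory.isIso_iff_bijective]
  let W : Fin r → X.Opens := fun j => (U j).ι ''ᵁ ((U j).ι ⁻¹ᵁ V)
  have hW : ∀ j, W j ≤ V := fun j => (U j).ι.image_preimage_le V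
  have hWeq : ∀ j, W j = U j ⊓ V := fun j => by
    change (U j).ι ''ᵁ ((U j).ι ⁻¹ᵁ V) = U j ⊓ V
    rw [Scheme.Hom.image_preimage_eq_opensRange_inf, Scheme.Opens.opensRange_ι]
  have key := bijective_restrict_pi (X := X.toTopCat) (Coh.toAb G) Z hZ hG V W hW
    (fun x hx hxZ => by
      obtain ⟨j, hj⟩ := h1 x hxZ
      refine ⟨j, ?_⟩
      rw [hWeq j]
      exact ⟨hj, hx⟩)
    (fun i j hij x hxi hxj => by
      rw [hWeq i] at hxi
      rw [hWeq j] at hxj
      exact h2 i j hij x hxi.1 hxj.1)
  have hπ : ∀ (j : Fin r) (s : Γ(G, V)),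
      (biproduct.π (fun j => part G (U j)) j).app V ((Phi G U).app V s) =
        (eta (U j) G).app V s := by
    intro j s
    have : Phi G U ≫ biproduct.π (fun j => part G (U j)) j = eta (U j) G :=
      biproduct.lift_π _ _
    rw [← this]
    rfl
  have hdec : ∀ t : Γ(⨁ (fun j => part G (U j)), V),
      t = ∑ j, (biproduct.ι (fun j => part G (U j)) j).app V
        ((biproduct.π (fun j => part G (U j)) j).app V t) := by
    intro t
    have h := biproduct.total (f := fun j => part G (U j))
    have h' := sum_app Finset.univ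
      (fun j => biproduct.π (fun j => part G (U j)) j ≫ biproduct.ι (fun j => part G (U j)) j) V t
    rw [h] at h'
    exact h'
  constructor
  · intro s s' hss
    apply key.1
    funext j
    have e1 := hπ j s
    have e2 := hπ j s'
    rw [hss] at e1
    exact e1.symm.trans e2
  · intro t
    obtain ⟨s, hs⟩ := key.2 (fun j => (biproduct.π (fun j => part G (U j)) j).app V t)
    refine ⟨s, ?_⟩
    rw [hdec ((Phi G U).app V s), hdec t]
    refine Finset.sum_congr rfl fun j _ => ?_
    congr 1
    rw [hπ j s]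
    exact congrFun hs j

end Mod

end Part2

section Part3

open CategoryTheory CategoryTheory.Limits AlgebraicGeometry TopologicalSpace Opposite
open Groth.Agent.Lib.R2H1.ZeroDimCoh Groth.Agent.Lib.R2H1.CurveVanish

open Groth.Agent.Lib.Helper21.ModTensor Groth.Agent.Lib.Helper21.ModTensor2
open Groth.Agent.Lib.Helper21.ModTensor5 Groth.Agent.Lib.Helper21.ModTensor6
open Groth.Agent.Lib.Helper21.ModTensor7 Groth.Agent.Lib.Helper21.ModTensor3

section Site

variable {C : Type u} [SmallCategory C] {J : GrothendieckTopology C} (O : Sheaf J CommRingCat.{u})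

theorem isZero_tensor_of_isZero (A B : ModSite.Mod O) (h : IsZero A) :
    IsZero (((ModSite.tensorBi O).obj A).obj B) :=
  (tR O B).map_isZero h

/-- `M ⊗ O^n ≅ M^n` -/
noncomputable def tensorFreeIso (M : ModSite.Mod O) (n : ℕ) :
    ((ModSite.tensorBi O).obj M).obj (∐ fun _ : Fin n => ModSite.unit O) ≅
      ∐ fun _ : Fin n => M :=
  PreservesCoproduct.iso (tL O M) (fun _ : Fin n => ModSite.unit O) ≪≫
    Sigma.mapIso (fun _ => ((brd O).app M).app (ModSite.unit O) ≪≫ (tLUnitIso O).app M)

end Site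

section Sch

variable {X : Scheme.{u}}

theorem subsingleton_sections_of_isZero {M : X.Modules} (h : IsZero M) (W : X.Opens) :
    Subsingleton Γ(M, W) := by
  refine subsingleton_of_forall_eq 0 fun s => ?_
  have h1 : (𝟙 M : M ⟶ M) = 0 := h.eq_of_src _ _
  have h2 : (𝟙 M : M ⟶ M).app W s = (0 : M ⟶ M).app W s := by rw [h1]
  exact h2

theorem isZero_of_subsingleton_sections {M : X.Modules} (h : ∀ W : X.Opens, Subsingleton Γ(M, W)) :
    IsZero M := by
  rw [IsZero.iff_id_eq_zero]
  refine Scheme.Modules.hom_ext _ _ fun W => ?_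
  ext s
  haveI := h W
  exact Subsingleton.elim _ _

/-- the tensor product vanishes where the first factor does -/
theorem stalk_tensor_subsingleton (F E : X.Modules) (Z : Set X) (hZ : IsClosed Z)
    (hF : ∀ x, x ∉ Z → Subsingleton (F.presheaf.stalk x)) (y : X) (hy : y ∉ Z) :
    Subsingleton ((CohB1.tensorMod F E).presheaf.stalk y) := by
  let V : X.Opens := ⟨Zᶜ, hZ.isOpen_compl⟩
  have hFV : IsZero (F.restrict V.ι) := by
    apply isZero_of_subsingleton_sections
    intro W
    exact subsingleton_sections_of_disjoint (X := X.toTopCat) (Coh.toAb F) Z hF (V.ι ''ᵁ W)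
      (fun x hx => by
        obtain ⟨w, -, rfl⟩ := hx
        exact w.2)
  have hT : IsZero ((CohB1.tensorMod F E).restrict V.ι) :=
    (isZero_tensor_of_isZero (V : Scheme.{u}).sheaf (F.restrict V.ι) (E.restrict V.ι) hFV).of_iso
      (Groth.Agent.Lib.Helper23.RestrTensor.restrictTensorIso F E V.ι)
  refine stalk_subsingleton_of_sections _ y fun W' hyW' m => ?_
  obtain ⟨W, hW, hyW⟩ := exists_image_le V y hy W' hyW'
  refine ⟨V.ι ''ᵁ W, hW, hyW, ?_⟩
  haveI : Subsingleton Γ((CohB1.tensorMod F E).restrict V.ι, W) :=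
    subsingleton_sections_of_isZero hT W
  haveI : Subsingleton Γ(CohB1.tensorMod F E, V.ι ''ᵁ W) := this
  exact Subsingleton.elim _ _

attribute [local instance] Abelian.hasFiniteBiproducts

/-- `(F ⊗ E)|_U ≅ (F|_U)^n` when `E|_U` is free of rank `n` -/
noncomputable def restrictTensorFreeIso (F E : X.Modules) (U : X.Opens) (n : ℕ)
    (e : E.restrict U.ι ≅ FlatMod.freeMod (↑U) n) :
    (CohB1.tensorMod F E).restrict U.ι ≅ ⨁ (fun _ : Fin n => F.restrict U.ι) :=
  Groth.Agent.Lib.Helper23.RestrTensor.restrictTensorIso F E U.ι ≪≫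
    PicGrp.tensorModIso (Iso.refl _) e ≪≫
    tensorFreeIso (U : Scheme.{u}).sheaf (F.restrict U.ι) n ≪≫
    (biproduct.isoCoproduct _).symm

/-- `j_* j^* (F ⊗ E) ≅ (j_* j^* F)^n` when `E|_U` is free of rank `n` -/
noncomputable def partTensorIso (F E : X.Modules) (U : X.Opens) (n : ℕ)
    (e : E.restrict U.ι ≅ FlatMod.freeMod (↑U) n) :
    part (CohB1.tensorMod F E) U ≅ ⨁ (fun _ : Fin n => part F U) :=
  (Scheme.Modules.pushforward U.ι).mapIso (restrictTensorFreeIso F E U n e) ≪≫
    (Scheme.Modules.pushforward U.ι).mapBiproduct (fun _ : Fin n => F.restrict U.ι)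

end Sch

end Part3

section Part4

open CategoryTheory CategoryTheory.Limits AlgebraicGeometry TopologicalSpace Opposite
open Groth.Agent.Lib.R2H1.ZeroDimCoh Groth.Agent.Lib.R2H1.CurveVanish

open Groth.Agent.Lib.R2H2.HHLin Groth.Agent.Lib.R2H1.EulerAdd Groth.Agent.Lib.R2H1.FinrankChain
  Groth.Agent.Lib.R2H1.CurveEuler Groth.Agent.Lib.R2H2.PnLocFree

section Fin

variable (k : Type u) [Field k] {X : Scheme.{u}} [X.Over (Spec (CommRingCat.of k))]

attribute [local instance] Abelian.hasFiniteBiproducts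

theorem finrank_HH_biproduct {r : ℕ} (f : Fin r → X.Modules) (i : ℕ)
    (hfin : ∀ j, Module.Finite k (Coh.HH X (f j) i)) :
    Module.finrank k (Coh.HH X (⨁ f) i) = ∑ j, Module.finrank k (Coh.HH X (f j) i) := by
  rw [(HHBiproductEquiv (k := k) f i).finrank_eq, Module.finrank_pi_fintype]

theorem finite_HH_of_biproduct {r : ℕ} (f : Fin r → X.Modules) (i : ℕ)
    (h : Module.Finite k (Coh.HH X (⨁ f) i)) (j : Fin r) :
    Module.Finite k (Coh.HH X (f j) i) := by
  haveI : Module.Finite k (∀ j, Coh.HH X (f j) i) :=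
    Module.Finite.equiv (HHBiproductEquiv (k := k) f i)
  exact Module.Finite.of_surjective (LinearMap.proj (R := k) (φ := fun j => Coh.HH X (f j) i) j)
    (Function.surjective_eval j)

theorem finite_HH_biproduct {r : ℕ} (f : Fin r → X.Modules) (i : ℕ)
    (hfin : ∀ j, Module.Finite k (Coh.HH X (f j) i)) :
    Module.Finite k (Coh.HH X (⨁ f) i) :=
  Module.Finite.equiv (HHBiproductEquiv (k := k) f i).symm

/-- isomorphic modules have linearly equivalent cohomology -/
noncomputable def HHEquivOfIso {M N : X.Modules} (e : M ≅ N) (i : ℕ) :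
    Coh.HH X M i ≃ₗ[k] Coh.HH X N i :=
  LinearEquiv.ofBijective (HmapA k e.hom i)
    (Groth.Agent.Lib.R2H2.PnMumford.bijective_HmapL_of_iso e i)

end Fin

end Part4

section Part5

open CategoryTheory CategoryTheory.Limits AlgebraicGeometry TopologicalSpace Opposite
open Groth.Agent.Lib.R2H1.ZeroDimCoh Groth.Agent.Lib.R2H1.CurveVanish

open Groth.Agent.Lib.R2H2.HHLin Groth.Agent.Lib.R2H1.EulerAdd Groth.Agent.Lib.R2H1.FinrankChain
  Groth.Agent.Lib.R2H1.CurveEuler Groth.Agent.Lib.R2H2.PnLocFree Groth.Agent.Lib.Helper1.FLF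

section Main

variable (k : Type u) [Field k] (X : Scheme.{u}) [X.Over (Spec (CommRingCat.of k))]
    [IsProper (X ↘ Spec (CommRingCat.of k))]

attribute [local instance] Abelian.hasFiniteBiproducts

/-- `χ = h^0` if higher cohomology vanishes -/
theorem euler_eq_h0_of_vanish (G : X.Modules) (h : ∀ i, 1 ≤ i → Subsingleton (Coh.HH X G i)) :
    Curv2.euler k X G = (Module.finrank k (Coh.HH X G 0) : ℤ) := by
  unfold Curv2.euler
  rw [finsum_eq_single _ 0 (fun i hi => ?_)]
  · simp
  · haveI := h i (Nat.one_le_iff_ne_zero.mpr hi)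
    rw [Module.finrank_zero_of_subsingleton]
    simp

theorem s1558 (F : X.Modules) (hF : Coh.IsCoh F)
    (hsupp : topologicalKrullDim (CohB1.support F) ≤ 0)
    (n : ℕ) (E : X.Modules) (hE : FlatMod.IsFinLocFreeOfRank n E) :
    Curv2.euler k X (CohB1.tensorMod F E) = n * Curv2.euler k X F := by
  haveI := isNoetherian_of_proper k X
  have hcl : IsClosed (CohB1.support F) := Groth.Agent.S0020.result X F hF.2
  have hsub : ∀ C : Set X, C ⊆ CohB1.support F → IsClosed C := fun C hC =>
    isClosed_of_subset_of_dim_le_zero _ hcl hsupp C hC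
  have hFst : ∀ x, x ∉ CohB1.support F → Subsingleton (F.presheaf.stalk x) :=
    fun x hx => not_not.mp hx
  have hTst : ∀ x, x ∉ CohB1.support F →
      Subsingleton ((CohB1.tensorMod F E).presheaf.stalk x) :=
    fun x hx => stalk_tensor_subsingleton F E _ hcl hFst x hx
  haveI : Finite (CohB1.support F) := finite_of_dim_le_zero hsupp
  -- enumeration of the support
  let z : Fin (Nat.card (CohB1.support F)) ≃ CohB1.support F :=
    (Finite.equivFin (CohB1.support F)).symm
  -- neighbourhoods
  have hchoose : ∀ j : Fin (Nat.card (CohB1.support F)), ∃ U : X.Opens, (z j).1 ∈ U ∧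
      (∀ x ∈ CohB1.support F, x ∈ U → x = (z j).1) ∧
      Nonempty (E.restrict U.ι ≅ FlatMod.freeMod (↑U) n) := by
    intro j
    obtain ⟨U₀, hxU₀, ⟨e₀⟩⟩ := hE (z j).1
    have hC : IsClosed (CohB1.support F \ {(z j).1}) := hsub _ Set.diff_subset
    refine ⟨U₀ ⊓ ⟨(CohB1.support F \ {(z j).1})ᶜ, hC.isOpen_compl⟩,
      ⟨hxU₀, fun h => h.2 rfl⟩, fun x hxZ hxU => ?_,
      Groth.Agent.Lib.Helper1.FLF.nonempty_restrict_iso_freeMod_of_le E inf_le_left e₀⟩
    by_contra hne
    exact hxU.2 ⟨hxZ, hne⟩
  choose U hU1 hU2 hU3 using hchoose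
  have h1 : ∀ x, x ∈ CohB1.support F → ∃ j, x ∈ U j := fun x hx => by
    refine ⟨z.symm ⟨x, hx⟩, ?_⟩
    have := hU1 (z.symm ⟨x, hx⟩)
    rwa [Equiv.apply_symm_apply] at this
  have h2 : ∀ i j, i ≠ j → ∀ x, x ∈ U i → x ∈ U j → x ∉ CohB1.support F := by
    intro i j hij x hxi hxj hxZ
    have e1 := hU2 i x hxZ hxi
    have e2 := hU2 j x hxZ hxj
    exact hij (z.injective (Subtype.ext (e1.symm.trans e2)))
  haveI isoF := isIso_Phi F _ hcl hFst U h1 h2
  haveI isoT := isIso_Phi (CohB1.tensorMod F E) _ hcl hTst U h1 h2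
  -- Euler characteristics are `h^0`
  have hvT : ∀ i, 1 ≤ i → Subsingleton (Coh.HH X (CohB1.tensorMod F E) i) := by
    intro i hi
    haveI : TopCat.Sheaf.IsFlasque (Coh.toAb (CohB1.tensorMod F E)) :=
      isFlasque_of_support (X := X.toTopCat) _ _ hsub hTst
    obtain ⟨m, rfl⟩ : ∃ m, i = m + 1 := ⟨i - 1, by omega⟩
    exact Groth.Agent.Lib.Helper16.Flasque.H_subsingleton (X := X.toTopCat) _ m
  rw [euler_eq_h0_of_vanish k X _ hvT,
    Groth.Agent.Lib.R2H1.CurveDegSec.euler_eq_h0 k X F hF hsupp]
  -- finite-dimensionality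
  have finF : Module.Finite k (Coh.HH X F 0) := finite_HH k X F hF 0
  have finB : Module.Finite k (Coh.HH X (⨁ fun j => part F (U j)) 0) :=
    Module.Finite.equiv (HHEquivOfIso k (asIso (Phi F U)) 0)
  have finP : ∀ j, Module.Finite k (Coh.HH X (part F (U j)) 0) :=
    finite_HH_of_biproduct k _ 0 finB
  have eF : Module.finrank k (Coh.HH X F 0) =
      ∑ j, Module.finrank k (Coh.HH X (part F (U j)) 0) := by
    rw [(HHEquivOfIso k (asIso (Phi F U)) 0).finrank_eq, finrank_HH_biproduct k _ 0 finP]
  have ePT : ∀ j, Module.finrank k (Coh.HH X (part (CohB1.tensorMod F E) (U j)) 0) =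
      n * Module.finrank k (Coh.HH X (part F (U j)) 0) := by
    intro j
    rw [(HHEquivOfIso k (partTensorIso F E (U j) n (hU3 j).some) 0).finrank_eq,
      finrank_HH_biproduct k _ 0 (fun _ => finP j)]
    simp
  have finPT : ∀ j, Module.Finite k (Coh.HH X (part (CohB1.tensorMod F E) (U j)) 0) := by
    intro j
    haveI := finite_HH_biproduct k (fun _ : Fin n => part F (U j)) 0 (fun _ => finP j)
    exact Module.Finite.equiv (HHEquivOfIso k (partTensorIso F E (U j) n (hU3 j).some) 0).symm
  have eT : Module.finrank k (Coh.HH X (CohB1.tensorMod F E) 0) =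
      ∑ j, Module.finrank k (Coh.HH X (part (CohB1.tensorMod F E) (U j)) 0) := by
    rw [(HHEquivOfIso k (asIso (Phi (CohB1.tensorMod F E) U)) 0).finrank_eq,
      finrank_HH_biproduct k _ 0 finPT]
  rw [eT, eF]
  push_cast
  rw [Finset.mul_sum]
  refine Finset.sum_congr rfl fun j _ => ?_
  rw [ePT j]
  push_cast
  rfl

end Main

end Part5

end Groth.Agent.Lib.R2H1.SkyDecomp
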