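/-
Degree of a twist by an effective Cartier divisor on a proper scheme of dimension at most one (S1604): ideal sequence, tensoring with a locally free module, support of an effective Cartier divisor is zero-dimensional, divisor finite over the field.
-/
import Mathlib
import Groth.Prelude
import Groth.Agent.Lib.R2H1SkyDecomp
import Groth.Agent.Lib.R2H2PullLF
import Groth.Agent.Lib.R2LeadTensorExact
import Groth.Agent.Lib.Helper21Dual5
import Groth.Agent.Lib.Helper23Serre
import Groth.Agent.Lib.Helper23QAffSec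
import Groth.Agent.Lib.R2H2PdSheaf
import Groth.Agent.Lib.R2H2NilFilt
import Groth.Agent.S0019

set_option autoImplicit false
set_option linter.style.haveILetI false
set_option linter.unusedSectionVars false
universe u v

namespace Groth.Agent.Lib.R2H1.DegCartier

section Part1

open CategoryTheory CategoryTheory.Limits AlgebraicGeometry TopologicalSpace Opposite
open Groth.Agent.Lib.R2H1.ZeroDimCoh Groth.Agent.Lib.R2H1.CurveVanish
open Groth.Agent.Lib.R2H1.SkyDecomp
open Groth.Agent.Lib.R2H2.HHLin Groth.Agent.Lib.R2H1.EulerAdd Groth.Agent.Lib.R2H1.FinrankChain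
  Groth.Agent.Lib.R2H1.CurveEuler
open Groth.Agent.Lib.Helper21.ModTensor Groth.Agent.Lib.Helper21.ModTensor2
open Groth.Agent.Lib.Helper21.ModTensor5 Groth.Agent.Lib.Helper21.ModTensor6
open Groth.Agent.Lib.Helper21.ModTensor7 Groth.Agent.Lib.Helper21.ModTensor3

section Gen

variable {X : Scheme.{u}}

/-- in a short exact sequence with coherent first two terms the third is coherent -/
theorem isCoh_X₃ (S : ShortComplex X.Modules) (hS : S.ShortExact) (h₁ : Coh.IsCoh S.X₁)
    (h₂ : Coh.IsCoh S.X₂) : Coh.IsCoh S.X₃ := by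
  have e : cokernel S.f ≅ S.X₃ :=
    (cokernelIsCokernel S.f).coconePointUniqueUpToIso hS.gIsCokernel
  exact Groth.Agent.Lib.R2H2.PdSheaf.isCoh_of_iso e
    (Groth.Agent.Lib.R2H2.NilFilt.isCoh_cokernel h₁ h₂ S.f)

variable (k : Type u) [Field k] [X.Over (Spec (CommRingCat.of k))]

theorem euler_congr {M N : X.Modules} (e : M ≅ N) : Curv2.euler k X M = Curv2.euler k X N := by
  unfold Curv2.euler
  refine finsum_congr fun i => ?_
  rw [(HHEquivOfIso k e i).finrank_eq]

end Gen

section Ideal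

variable {X : Scheme.{u}} (D : X.IdealSheafData)

theorem toSubscheme_app (W : X.Opens) (a : Γ(X, W)) :
    (ClSub.toSubscheme D).app W a = D.subschemeι.app W a := rfl

instance epi_toSubscheme : Epi (ClSub.toSubscheme D) := by
  apply Groth.Agent.Lib.Helper23.Serre.epi_of_locally_surjective
  intro V t x hx
  obtain ⟨_, ⟨V', hV', rfl⟩, hxV', hle⟩ :=
    X.isBasis_affineOpens.exists_subset_of_mem_open hx V.isOpen
  refine ⟨V', hle, hxV', ?_⟩
  obtain ⟨a, ha⟩ := D.subschemeι.app_surjective V' hV'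
    (((Scheme.Modules.pushforward D.subschemeι).obj
      (Coh.structureModule D.subscheme)).presheaf.map (homOfLE hle).op t)
  exact ⟨a, ha⟩

/-- `0 → I → O_X → O_X / I → 0` -/
noncomputable def idealSeq : ShortComplex X.Modules :=
  ShortComplex.mk (ClSub.idealModι D) (ClSub.toSubscheme D) (kernel.condition _)

theorem idealSeq_shortExact : (idealSeq D).ShortExact :=
  { exact := ShortComplex.exact_kernel (ClSub.toSubscheme D)
    mono_f := inferInstanceAs (Mono (kernel.ι (ClSub.toSubscheme D)))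
    epi_g := inferInstanceAs (Epi (ClSub.toSubscheme D)) }

end Ideal

end Part1

section Part2

open CategoryTheory CategoryTheory.Limits AlgebraicGeometry TopologicalSpace Opposite
open Groth.Agent.Lib.R2H1.ZeroDimCoh Groth.Agent.Lib.R2H1.CurveVanish
open Groth.Agent.Lib.R2H1.SkyDecomp
open Groth.Agent.Lib.R2H2.HHLin Groth.Agent.Lib.R2H1.EulerAdd Groth.Agent.Lib.R2H1.FinrankChain
  Groth.Agent.Lib.R2H1.CurveEuler
open Groth.Agent.Lib.Helper21.ModTensor Groth.Agent.Lib.Helper21.ModTensor2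
open Groth.Agent.Lib.Helper21.ModTensor5 Groth.Agent.Lib.Helper21.ModTensor6
open Groth.Agent.Lib.Helper21.ModTensor7 Groth.Agent.Lib.Helper21.ModTensor3

section Tensor

variable (k : Type u) [Field k] (X : Scheme.{u}) [X.Over (Spec (CommRingCat.of k))]
    [IsProper (X ↘ Spec (CommRingCat.of k))]

theorem euler_tensor_ideal (D : X.IdealSheafData) (n : ℕ) (G : X.Modules)
    (hG : FlatMod.IsFinLocFreeOfRank n G) (hQ : Coh.IsCoh (ClSub.quotMod D))
    (hsupp : topologicalKrullDim (CohB1.support (ClSub.quotMod D)) ≤ 0)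
    (h₁ : Coh.IsCoh (CohB1.tensorMod G (ClSub.idealMod D))) :
    Curv2.euler k X G = Curv2.euler k X (CohB1.tensorMod G (ClSub.idealMod D)) +
      n * Curv2.euler k X (ClSub.quotMod D) := by
  have hGf : FlatMod.IsFinLocFree G := fun x => by
    obtain ⟨U, hx, e⟩ := hG x
    exact ⟨U, n, hx, e⟩
  have hGc : Coh.IsCoh G := Groth.Agent.Lib.R2H2.PnLocFree.isCoh_of_isFinLocFree G hGf
  have hfl := Groth.Agent.Lib.R2H2.PullLF.isFlat_of_isFinLocFree G hGf
  have hS := Groth.Agent.Lib.R2Lead.TensorExact.shortExact_map_tensorBi G (fun x => hfl x)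
    (idealSeq D) (idealSeq_shortExact D)
  have c₂ : Coh.IsCoh ((idealSeq D).map (DCoh.tensorBi.obj G)).X₂ :=
    Groth.Agent.Lib.R2H2.PdSheaf.isCoh_of_iso (Groth.Agent.Lib.Helper21.Dual.rU X.sheaf G).symm hGc
  have c₁ : Coh.IsCoh ((idealSeq D).map (DCoh.tensorBi.obj G)).X₁ := h₁
  have c₃ := isCoh_X₃ _ hS c₁ c₂
  have h := s1524 k X _ hS c₁ c₂ c₃
  have e₂ : Curv2.euler k X ((idealSeq D).map (DCoh.tensorBi.obj G)).X₂ = Curv2.euler k X G :=
    euler_congr k (Groth.Agent.Lib.Helper21.Dual.rU X.sheaf G)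
  have e₃ : Curv2.euler k X ((idealSeq D).map (DCoh.tensorBi.obj G)).X₃ =
      Curv2.euler k X (CohB1.tensorMod (ClSub.quotMod D) G) :=
    euler_congr k (brdApp X.sheaf G (ClSub.quotMod D))
  rw [e₂, e₃, s1558 k X _ hQ hsupp n G hG] at h
  exact h

end Tensor

end Part2

section Part3

open CategoryTheory CategoryTheory.Limits AlgebraicGeometry TopologicalSpace Opposite
open Groth.Agent.Lib.R2H1.SkyDecomp
open Groth.Agent.Lib.Helper21.ModTensor Groth.Agent.Lib.Helper21.ModTensor2
open Groth.Agent.Lib.Helper21.ModTensor5 Groth.Agent.Lib.Helper21.ModTensor6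
open Groth.Agent.Lib.Helper21.ModTensor7 Groth.Agent.Lib.Helper21.ModTensor3

section LF

variable {X : Scheme.{u}}

/-- the tensor product of a finite locally free module of rank `n` with an invertible module is
finite locally free of rank `n` -/
theorem isFinLocFreeOfRank_tensor_invertible (n : ℕ) (E L : X.Modules)
    (hE : FlatMod.IsFinLocFreeOfRank n E) (hL : PicF.IsInvertible L) :
    FlatMod.IsFinLocFreeOfRank n (CohB1.tensorMod E L) := by
  intro x
  obtain ⟨U₁, hx₁, ⟨e₁⟩⟩ := hE x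
  obtain ⟨U₂, hx₂, ⟨e₂⟩⟩ :=
    Groth.Agent.Lib.Helper23.SecTw.isFinLocFreeOfRank_one_of_isInvertible L hL x
  obtain ⟨a⟩ := Groth.Agent.Lib.Helper1.FLF.nonempty_restrict_iso_freeMod_of_le E
    (inf_le_left : U₁ ⊓ U₂ ≤ U₁) e₁
  obtain ⟨b⟩ := Groth.Agent.Lib.Helper1.FLF.nonempty_restrict_iso_freeMod_of_le L
    (inf_le_right : U₁ ⊓ U₂ ≤ U₂) e₂
  refine ⟨U₁ ⊓ U₂, ⟨hx₁, hx₂⟩, ⟨?_⟩⟩
  exact Groth.Agent.Lib.Helper23.RestrTensor.restrictTensorIso E L (U₁ ⊓ U₂).ι ≪≫
    PicGrp.tensorModIso (Iso.refl _) b ≪≫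
    tensorFreeIso ((U₁ ⊓ U₂ : X.Opens) : Scheme.{u}).sheaf (E.restrict (U₁ ⊓ U₂).ι) 1 ≪≫
    Limits.coproductUniqueIso (fun _ : Fin 1 => E.restrict (U₁ ⊓ U₂).ι) ≪≫ a

/-- `(E ⊗ L) ⊗ I ≅ E` when `L ⊗ I ≅ O_X` -/
noncomputable def tensorInvIso (E L I : X.Modules)
    (e : CohB1.tensorMod L I ≅ Coh.structureModule X) :
    CohB1.tensorMod (CohB1.tensorMod E L) I ≅ E :=
  (tLTensorIso X.sheaf E L).app I ≪≫ (tL X.sheaf E).mapIso e ≪≫
    Groth.Agent.Lib.Helper21.Dual.rU X.sheaf E

end LF

end Part3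

section Part4

open CategoryTheory CategoryTheory.Limits AlgebraicGeometry TopologicalSpace Opposite
open Groth.Agent.Lib.R2H1.ZeroDimCoh Groth.Agent.Lib.R2H1.CurveVanish
open Groth.Agent.Lib.R2H1.SkyDecomp

section Geo

variable {X : Scheme.{u}} (D : X.IdealSheafData)

theorem dense_compl_support (hD : BlowUp.IsEffCartierIdeal D) :
    Dense ((D.support : Set X)ᶜ) := by
  rw [dense_iff_inter_open]
  rintro W hW ⟨x, hxW⟩
  obtain ⟨U, hxU, f, hf, hfI⟩ := hD x
  obtain ⟨g, hgW, hxg⟩ := U.2.exists_basicOpen_le (V := (⟨W, hW⟩ : X.Opens) ⊓ U.1)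
    ⟨x, hxW, hxU⟩ hxU
  by_contra hcon
  have hbot : X.basicOpen (f * g) = ⊥ := by
    by_contra hne
    obtain ⟨y, hy⟩ := (Opens.ne_bot_iff_nonempty _).1 hne
    rw [Scheme.basicOpen_mul] at hy
    have hyW := hgW hy.2
    apply hcon
    refine ⟨y, hyW.1, fun hys => ?_⟩
    have hys' : y ∈ D.support := hys
    rw [Scheme.IdealSheafData.mem_support_iff_of_mem (U := U) hyW.2, hfI,
      Scheme.mem_zeroLocus_iff] at hys'
    exact hys' f (Ideal.subset_span (Set.mem_singleton f)) hy.1
  obtain ⟨m, hm⟩ :=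
    (Scheme.isNilpotent_iff_basicOpen_eq_bot_of_isCompact U.2.isCompact (f * g)).mpr hbot
  rw [mul_pow, mul_comm] at hm
  have hfm : f ^ m ∈ nonZeroDivisors Γ(X, U.1) := pow_mem hf m
  have hgm : g ^ m = 0 := (mul_right_mem_nonZeroDivisors_eq_zero_iff hfm).mp hm
  have hgbot : X.basicOpen g = ⊥ := X.basicOpen_eq_bot_of_isNilpotent U.1 g ⟨m, hgm⟩
  rw [hgbot] at hxg
  exact hxg

theorem dim_support_le_zero [IsNoetherian X] (hdim : topologicalKrullDim X ≤ 1)
    (hD : BlowUp.IsEffCartierIdeal D) : topologicalKrullDim (D.support : Set X) ≤ 0 := by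
  have h := Groth.Agent.Lib.R2H1.GenusLe.dim_compl_le_zero_of_dense X hdim
    ⟨(D.support : Set X)ᶜ, D.support.isClosed.isOpen_compl⟩ (dense_compl_support D hD)
  have e : (((⟨(D.support : Set X)ᶜ, D.support.isClosed.isOpen_compl⟩ : X.Opens) : Set X)ᶜ) =
      (D.support : Set X) := compl_compl _
  rw [e] at h
  exact h

theorem subsingleton_sections_of_isEmpty {Z : Scheme.{u}} (M : Z.Modules) (O : Z.Opens)
    (h : ∀ z, z ∉ O) : Subsingleton Γ(M, O) :=
  ⟨fun s t => TopCat.Presheaf.section_ext (X := Z.toTopCat) (Coh.toAb M) O s t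
    (fun z hz => absurd hz (h z))⟩

theorem stalk_quotMod_subsingleton (y : X) (hy : y ∉ D.support) :
    Subsingleton ((ClSub.quotMod D).presheaf.stalk y) := by
  refine stalk_subsingleton_of_sections _ y fun W' hyW' m => ?_
  let W₀ : X.Opens := ⟨(D.support : Set X)ᶜ, D.support.isClosed.isOpen_compl⟩
  refine ⟨W' ⊓ W₀, inf_le_left, ⟨hyW', hy⟩, ?_⟩
  haveI : Subsingleton Γ(Coh.structureModule D.subscheme, D.subschemeι ⁻¹ᵁ (W' ⊓ W₀)) :=
    subsingleton_sections_of_isEmpty _ _ (fun z hz => by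
      have h1 : D.subschemeι z ∈ (D.support : Set X) := by
        rw [← Scheme.IdealSheafData.range_subschemeι]
        exact ⟨z, rfl⟩
      exact hz.2 h1)
  haveI : Subsingleton Γ(ClSub.quotMod D, W' ⊓ W₀) := this
  exact Subsingleton.elim _ _

theorem support_quotMod_subset : CohB1.support (ClSub.quotMod D) ⊆ (D.support : Set X) := by
  intro y hy
  by_contra hcon
  exact hy (stalk_quotMod_subsingleton D y hcon)

theorem dim_support_quotMod_le_zero [IsNoetherian X] (hdim : topologicalKrullDim X ≤ 1)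
    (hD : BlowUp.IsEffCartierIdeal D) :
    topologicalKrullDim (CohB1.support (ClSub.quotMod D)) ≤ 0 :=
  le_trans (Topology.IsInducing.topologicalKrullDim_le
    (Topology.IsEmbedding.inclusion (support_quotMod_subset D)).isInducing)
    (dim_support_le_zero D hdim hD)

end Geo

end Part4

section Part5

open CategoryTheory CategoryTheory.Limits AlgebraicGeometry TopologicalSpace Opposite
open Groth.Agent.Lib.R2H1.ZeroDimCoh Groth.Agent.Lib.R2H1.CurveVanish
open Groth.Agent.Lib.R2H1.SkyDecomp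
open Groth.Agent.Lib.R2H1.CurveEuler

section Main

variable (k : Type u) [Field k] (X : Scheme.{u}) [X.Over (Spec (CommRingCat.of k))]
    [IsProper (X ↘ Spec (CommRingCat.of k))]

theorem isFinite_subscheme (hdim : topologicalKrullDim X ≤ 1)
    (D : X.IdealSheafData) (hD : BlowUp.IsEffCartierIdeal D) :
    IsFinite (D.subschemeι ≫ (X ↘ (Spec (CommRingCat.of k)))) := by
  haveI := isNoetherian_of_proper k X
  haveI : Finite ↥(D.support : Set X) := finite_of_dim_le_zero (dim_support_le_zero D hdim hD)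
  haveI : Finite D.subscheme := by
    refine Finite.of_injective
      (fun z => (⟨D.subschemeι z, by
        rw [← Scheme.IdealSheafData.range_subschemeι]
        exact ⟨z, rfl⟩⟩ : ↥(D.support : Set X))) ?_
    intro a b hab
    exact D.subschemeι.isEmbedding.injective (congrArg Subtype.val hab)
  haveI : LocallyQuasiFinite (D.subschemeι ≫ (X ↘ (Spec (CommRingCat.of k)))) := by
    rw [locallyQuasiFinite_iff_finite_preimage_singleton]
    intro s
    exact Set.toFinite _
  exact IsFinite.of_isProper_of_locallyQuasiFinite _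

theorem s1604 (hdim : topologicalKrullDim X ≤ 1)
    (D : X.IdealSheafData) (hD : BlowUp.IsEffCartierIdeal D)
    (L : X.Modules) (hL : PicF.IsInvertible L) (hLD : ClSub.IsInverseOf L (ClSub.idealMod D))
    (n : ℕ) (E : X.Modules) (hE : FlatMod.IsFinLocFreeOfRank n E) :
    IsFinite (D.subschemeι ≫ (X ↘ (Spec (CommRingCat.of k)))) ∧
      Curv2.deg k X (CohB1.tensorMod E L) n =
        n * Module.finrank k (Coh.HH X (ClSub.quotMod D) 0) + Curv2.deg k X E n := by
  refine ⟨isFinite_subscheme k X hdim D hD, ?_⟩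
  haveI := isNoetherian_of_proper k X
  have hQ : Coh.IsCoh (ClSub.quotMod D) :=
    Groth.Agent.S0019.result D.subschemeι _
      (Groth.Agent.Lib.R2H1.GenusLe.isCoh_structureModule D.subscheme)
  have hsuppQ := dim_support_quotMod_le_zero D hdim hD
  have hG := isFinLocFreeOfRank_tensor_invertible n E L hE hL
  obtain ⟨e₀⟩ := hLD
  have e := tensorInvIso E L (ClSub.idealMod D) e₀
  have hEf : FlatMod.IsFinLocFree E := fun x => by
    obtain ⟨U, hx, i⟩ := hE x
    exact ⟨U, n, hx, i⟩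
  have hEc : Coh.IsCoh E := Groth.Agent.Lib.R2H2.PnLocFree.isCoh_of_isFinLocFree E hEf
  have h₁ : Coh.IsCoh (CohB1.tensorMod (CohB1.tensorMod E L) (ClSub.idealMod D)) :=
    Groth.Agent.Lib.R2H2.PdSheaf.isCoh_of_iso e.symm hEc
  have main := euler_tensor_ideal k X D n (CohB1.tensorMod E L) hG hQ hsuppQ h₁
  rw [euler_congr k e, Groth.Agent.Lib.R2H1.CurveDegSec.euler_eq_h0 k X _ hQ hsuppQ] at main
  unfold Curv2.deg
  rw [main]
  ring

end Main

end Part5

end Groth.Agent.Lib.R2H1.DegCartier
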