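import Groth.Agent.Lib.R2H2DevD
import Groth.Agent.Lib.R2H2ClosedPn
import Groth.Agent.Lib.Helper18FinFlat1
set_option backward.isDefEq.respectTransparency.types false

/-!
# Dévissage of coherent modules, part E: direct images along closed immersions (helper2, round 2)

* `killed_push` : `i_* M` is killed by the kernel ideal of `i`.
* `support_push_subset` : the support of `i_* M` is contained in the (closed) range of `i`.
* `nontrivial_stalk_push` : for an embedding `i`, `M_z ≠ 0` implies `(i_* M)_{i z} ≠ 0`.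
* `nonempty_stalk_pushO_equiv` : for a closed immersion `i`, if the stalk of `i_* O_Z` at a point
  `y` of the range of `i` is killed by the maximal ideal, it is the residue field.
* `isCoh_pushO`.
-/

set_option autoImplicit false
set_option linter.style.haveILetI false
universe u

open CategoryTheory CategoryTheory.Limits AlgebraicGeometry TopologicalSpace

namespace Groth.Agent.Lib.R2H2.DevE

open Groth.Agent.Lib.R2H2.DevA Groth.Agent.Lib.Helper2.QCoh

variable {Z X : Scheme.{u}} (i : Z ⟶ X)

theorem push_smul (M : Z.Modules) (U : X.Opens) (a : Γ(X, U))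
    (m : Γ((Scheme.Modules.pushforward i).obj M, U)) :
    a • m = ((i.app U).hom a • (show Γ(M, i ⁻¹ᵁ U) from m) : Γ(M, i ⁻¹ᵁ U)) := rfl

theorem killed_push [QuasiCompact i] (M : Z.Modules) :
    ClSub.KilledByIdeal i.ker ((Scheme.Modules.pushforward i).obj M) := by
  intro U a ha m
  rw [Scheme.Hom.ker_apply, RingHom.mem_ker] at ha
  change ((i.app U.1).hom a • (show Γ(M, i ⁻¹ᵁ U.1) from m) : Γ(M, i ⁻¹ᵁ U.1)) = 0
  rw [ha, zero_smul]

theorem support_push_subset [IsClosedImmersion i] (M : Z.Modules) :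
    CohB1.support ((Scheme.Modules.pushforward i).obj M) ⊆ Set.range ⇑i := by
  intro x hx
  by_contra hxr
  let U : X.Opens := ⟨(Set.range ⇑i)ᶜ, i.isClosedEmbedding.isClosed_range.isOpen_compl⟩
  have h0 : IsZero ((Scheme.Modules.restrictFunctor U.ι).obj
      ((Scheme.Modules.pushforward i).obj M)) := by
    refine Groth.Agent.Lib.R2H2.KcohLoc.isZero_restrict_push i U.ι (fun z y h => ?_) M
    have hy : U.ι y ∈ (U : Set X) := y.2
    exact hy ⟨z, h⟩
  exact not_mem_support_of_isZero_restrict_opens U _ h0 x hxr hx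

theorem nontrivial_stalk_push (hi : Topology.IsEmbedding i) (M : Z.Modules) (z : Z)
    (h : Nontrivial (M.presheaf.stalk z)) :
    Nontrivial (((Scheme.Modules.pushforward i).obj M).presheaf.stalk (i z)) := by
  by_contra hne
  rw [not_nontrivial_iff_subsingleton] at hne
  have : Subsingleton (M.presheaf.stalk z) := by
    refine ⟨fun a b => ?_⟩
    have key : ∀ c : M.presheaf.stalk z, c = 0 := by
      intro c
      obtain ⟨V, hzV, s, rfl⟩ := M.presheaf.exists_germ_eq c
      obtain ⟨U', hU', hUV⟩ := (hi.isOpen_iff).1 V.2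
      let U : X.Opens := ⟨U', hU'⟩
      have hVU : V = i ⁻¹ᵁ U := Opens.ext hUV.symm
      subst hVU
      have hizU : i z ∈ U := hzV
      let s' : Γ((Scheme.Modules.pushforward i).obj M, U) := s
      have h0 : ((Scheme.Modules.pushforward i).obj M).presheaf.germ U (i z) hizU s' =
          ((Scheme.Modules.pushforward i).obj M).presheaf.germ U (i z) hizU 0 :=
        Subsingleton.elim _ _
      obtain ⟨W, hW, iU, iV, hres⟩ :=
        ((Scheme.Modules.pushforward i).obj M).presheaf.germ_eq (i z) hizU hizU s' 0 h0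
      rw [map_zero] at hres
      have hzW : z ∈ i ⁻¹ᵁ W := hW
      have hle : i ⁻¹ᵁ W ≤ i ⁻¹ᵁ U := fun w hw => iU.le hw
      have hres' : M.presheaf.map (homOfLE hle).op s = 0 := hres
      rw [← TopCat.Presheaf.germ_res_apply M.presheaf (homOfLE hle) z hzW s, hres', map_zero]
    rw [key a, key b]
  exact not_nontrivial_iff_subsingleton.2 this h

/-- the stalk of `i_* O_Z` at a point of `Z` is the residue field, when killed by the maximal
ideal -/
theorem nonempty_stalk_pushO_equiv [IsClosedImmersion i] (z : Z)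
    (hk : ∀ a ∈ IsLocalRing.maximalIdeal (X.presheaf.stalk (i z)),
      ∀ g : ((Scheme.Modules.pushforward i).obj (Coh.structureModule Z)).presheaf.stalk (i z),
        a • g = 0) :
    Nonempty (((Scheme.Modules.pushforward i).obj (Coh.structureModule Z)).presheaf.stalk (i z)
      ≃ₗ[X.presheaf.stalk (i z)] IsLocalRing.ResidueField (X.presheaf.stalk (i z))) := by
  set G := (Scheme.Modules.pushforward i).obj (Coh.structureModule Z) with hG
  set y := i z with hy
  -- the section `1`
  let one : ∀ U : X.Opens, Γ(G, U) := fun U => (show Γ(Z, i ⁻¹ᵁ U) from 1)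
  have hone_res : ∀ {U V : X.Opens} (h : V ≤ U), G.presheaf.map (homOfLE h).op (one U) = one V := by
    intro U V h
    exact map_one (Z.presheaf.map (homOfLE (show i ⁻¹ᵁ V ≤ i ⁻¹ᵁ U from fun w hw => h hw)).op).hom
  let g₁ := G.presheaf.germ ⊤ y (Opens.mem_top y) (one ⊤)
  have hg₁ : ∀ (U : X.Opens) (hyU : y ∈ U), G.presheaf.germ U y hyU (one U) = g₁ := by
    intro U hyU
    rw [← hone_res (le_top : U ≤ ⊤)]
    exact TopCat.Presheaf.germ_res_apply G.presheaf (homOfLE le_top) y hyU (one ⊤)
  -- cyclic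
  have hcyc : ∀ g : G.presheaf.stalk y, ∃ a : X.presheaf.stalk y, a • g₁ = g := by
    intro g
    obtain ⟨U, hyU, t, rfl⟩ := G.presheaf.exists_germ_eq g
    obtain ⟨W, hW, hyW, hWU⟩ := exists_isAffineOpen_mem_and_subset (x := y) (U := U) hyU
    have hWU' : W ≤ U := hWU
    obtain ⟨a', ha'⟩ := i.app_surjective W hW
      (show Γ(Z, i ⁻¹ᵁ W) from G.presheaf.map (homOfLE hWU').op t)
    refine ⟨X.presheaf.germ W y hyW a', ?_⟩
    rw [← hg₁ W hyW, ← germ_smul,
      ← TopCat.Presheaf.germ_res_apply G.presheaf (homOfLE hWU') y hyW t]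
    congr 1
    change ((i.app W).hom a' * (1 : Γ(Z, i ⁻¹ᵁ W)) : Γ(Z, i ⁻¹ᵁ W)) = _
    rw [mul_one]
    exact ha'
  -- nonzero
  have hne : g₁ ≠ 0 := by
    intro h0
    have h0' : G.presheaf.germ ⊤ y (Opens.mem_top y) (one ⊤) =
        G.presheaf.germ ⊤ y (Opens.mem_top y) 0 := by
      rw [map_zero]; exact h0
    obtain ⟨W, hW, iU, iV, hres⟩ := G.presheaf.germ_eq y (Opens.mem_top y) (Opens.mem_top y)
      (one ⊤) 0 h0'
    rw [map_zero] at hres
    have h1 : one W = 0 := by rw [← hone_res (iU.le)]; exact hres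
    haveI : Nonempty (i ⁻¹ᵁ W) := ⟨⟨z, hW⟩⟩
    exact one_ne_zero (α := Γ(Z, i ⁻¹ᵁ W)) h1
  -- the linear algebra
  let f : X.presheaf.stalk y →ₗ[X.presheaf.stalk y] G.presheaf.stalk y :=
    LinearMap.toSpanSingleton _ _ g₁
  have hf : Function.Surjective f := fun g => by
    obtain ⟨a, ha⟩ := hcyc g
    exact ⟨a, ha⟩
  have hker : LinearMap.ker f = IsLocalRing.maximalIdeal (X.presheaf.stalk y) := by
    apply le_antisymm
    · refine IsLocalRing.le_maximalIdeal ?_
      intro htop
      have : (1 : X.presheaf.stalk y) ∈ LinearMap.ker f := by rw [htop]; trivial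
      rw [LinearMap.mem_ker] at this
      apply hne
      simpa [f] using this
    · intro a ha
      rw [LinearMap.mem_ker]
      exact hk a ha g₁
  exact ⟨(f.quotKerEquivOfSurjective hf).symm ≪≫ₗ Submodule.quotEquivOfEq _ _ hker⟩

theorem isCoh_pushO [IsClosedImmersion i] :
    Coh.IsCoh ((Scheme.Modules.pushforward i).obj (Coh.structureModule Z)) := by
  haveI : SheafOfModules.IsFinitePresentation (R := Z.ringCatSheaf) (Coh.structureModule Z) :=
    Groth.Agent.Helper18FinFlat.isFinitePresentation_structureModule Z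
  exact Groth.Agent.Lib.R2H2.ClosedPn.isCoh_push i _ ⟨inferInstance, inferInstance⟩

end Groth.Agent.Lib.R2H2.DevE
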