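import Mathlib

/-!
# Numerical polynomials in several variables (helper4, round 2)

A function `f : ℕ^σ → ℚ` all of whose first differences `n ↦ f (n + e_i) - f n` are given by
polynomials all of whose monomials have degree `< d` is itself given by a polynomial all of whose
monomials have degree `< d + 1` (`isPolyLT_of_diff`).
-/

set_option autoImplicit false
open MvPolynomial Finset

namespace Groth.Agent.Lib.R2H4NumPoly

variable {σ : Type*} [DecidableEq σ]

/-- evaluation at a point of `ℕ^σ` -/
noncomputable def ev (n : σ → ℕ) (P : MvPolynomial σ ℚ) : ℚ :=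
  MvPolynomial.eval (fun i => (n i : ℚ)) P

/-- all monomials have degree `< d` -/
def DegLT (d : ℕ) (P : MvPolynomial σ ℚ) : Prop := ∀ m ∈ P.support, (m.sum fun _ e => e) < d

/-- `g` is given by a polynomial all of whose monomials have degree `< d` -/
def IsPolyLT (d : ℕ) (g : (σ → ℕ) → ℚ) : Prop :=
  ∃ P : MvPolynomial σ ℚ, DegLT d P ∧ ∀ n, g n = ev n P

omit [DecidableEq σ] in
theorem degLT_zero (d : ℕ) : DegLT d (0 : MvPolynomial σ ℚ) := by
  intro m hm
  simp at hm

theorem DegLT.add {d : ℕ} {P Q : MvPolynomial σ ℚ} (hP : DegLT d P) (hQ : DegLT d Q) :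
    DegLT d (P + Q) := by
  intro m hm
  rcases Finset.mem_union.1 (MvPolynomial.support_add hm) with h | h
  · exact hP m h
  · exact hQ m h

omit [DecidableEq σ] in
theorem DegLT.neg {d : ℕ} {P : MvPolynomial σ ℚ} (hP : DegLT d P) : DegLT d (-P) := by
  intro m hm
  rw [MvPolynomial.support_neg] at hm
  exact hP m hm

theorem DegLT.sub {d : ℕ} {P Q : MvPolynomial σ ℚ} (hP : DegLT d P) (hQ : DegLT d Q) :
    DegLT d (P - Q) := by
  rw [sub_eq_add_neg]
  exact hP.add hQ.neg

omit [DecidableEq σ] in
theorem DegLT.mono {d d' : ℕ} (h : d ≤ d') {P : MvPolynomial σ ℚ} (hP : DegLT d P) :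
    DegLT d' P := fun m hm => lt_of_lt_of_le (hP m hm) h

omit [DecidableEq σ] in
theorem degLT_of_totalDegree_lt {d : ℕ} {P : MvPolynomial σ ℚ} (h : P.totalDegree < d) :
    DegLT d P := fun _ hm => lt_of_le_of_lt (MvPolynomial.le_totalDegree hm) h

omit [DecidableEq σ] in
theorem DegLT.totalDegree_le {d : ℕ} {P : MvPolynomial σ ℚ} (h : DegLT (d + 1) P) :
    P.totalDegree ≤ d := by
  unfold MvPolynomial.totalDegree
  exact Finset.sup_le fun m hm => Nat.lt_succ_iff.1 (h m hm)

theorem sum_finset {ι : Type*} (s : Finset ι) (d : ℕ) (F : ι → MvPolynomial σ ℚ)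
    (h : ∀ a ∈ s, DegLT d (F a)) : DegLT d (∑ a ∈ s, F a) := by
  classical
  induction s using Finset.induction_on with
  | empty => simpa using degLT_zero d
  | insert a s ha ih =>
    rw [Finset.sum_insert ha]
    exact (h a (Finset.mem_insert_self a s)).add
      (ih fun b hb => h b (Finset.mem_insert_of_mem hb))

omit [DecidableEq σ] in
theorem isPolyLT_zero (d : ℕ) : IsPolyLT d (fun _ : σ → ℕ => (0 : ℚ)) :=
  ⟨0, degLT_zero d, fun n => by simp [ev]⟩

theorem IsPolyLT.add {d : ℕ} {g h : (σ → ℕ) → ℚ} (hg : IsPolyLT d g) (hh : IsPolyLT d h) :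
    IsPolyLT d (fun n => g n + h n) := by
  obtain ⟨P, hP, hPg⟩ := hg
  obtain ⟨Q, hQ, hQh⟩ := hh
  exact ⟨P + Q, hP.add hQ, fun n => by simp [ev, hPg n, hQh n]⟩

theorem IsPolyLT.sub {d : ℕ} {g h : (σ → ℕ) → ℚ} (hg : IsPolyLT d g) (hh : IsPolyLT d h) :
    IsPolyLT d (fun n => g n - h n) := by
  obtain ⟨P, hP, hPg⟩ := hg
  obtain ⟨Q, hQ, hQh⟩ := hh
  exact ⟨P - Q, hP.sub hQ, fun n => by simp [ev, hPg n, hQh n]⟩

omit [DecidableEq σ] in
theorem IsPolyLT.congr {d : ℕ} {g h : (σ → ℕ) → ℚ} (hg : IsPolyLT d g) (e : ∀ n, h n = g n) :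
    IsPolyLT d h := by
  obtain ⟨P, hP, hPg⟩ := hg
  exact ⟨P, hP, fun n => (e n).trans (hPg n)⟩

omit [DecidableEq σ] in
theorem IsPolyLT.mono {d d' : ℕ} (h : d ≤ d') {g : (σ → ℕ) → ℚ} (hg : IsPolyLT d g) :
    IsPolyLT d' g := by
  obtain ⟨P, hP, hPg⟩ := hg
  exact ⟨P, hP.mono h, hPg⟩

omit [DecidableEq σ] in
theorem isPolyLT_const (d : ℕ) (c : ℚ) : IsPolyLT (d + 1) (fun _ : σ → ℕ => c) := by
  refine ⟨C c, ?_, fun n => by simp [ev]⟩
  apply degLT_of_totalDegree_lt
  rw [MvPolynomial.totalDegree_C]
  exact Nat.succ_pos d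

/-- summation of a monomial along the `i`-th coordinate -/
theorem exists_sum_monomial (i : σ) (m : σ →₀ ℕ) (c : ℚ) :
    ∃ R : MvPolynomial σ ℚ, R.totalDegree ≤ (m.sum fun _ e => e) + 1 ∧
      ∀ v : σ → ℕ, ev v R = ∑ j ∈ range (v i), ev (Function.update v i j) (monomial m c) := by
  set p := m i with hp
  refine ⟨C c * monomial (m.erase i) 1 * ∑ t ∈ range (p + 1),
    C (bernoulli t * ((p + 1).choose t) / (p + 1)) * X i ^ (p + 1 - t), ?_, ?_⟩
  · have hdeg : ((m.erase i).sum fun _ e => e) + p = m.sum fun _ e => e := by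
      have := Finsupp.add_sum_erase' m i (fun _ e => e) (fun _ => rfl)
      rw [← this, hp]
      exact add_comm _ _
    refine (MvPolynomial.totalDegree_mul _ _).trans ?_
    have h1 : (C c * monomial (m.erase i) (1 : ℚ)).totalDegree ≤ (m.erase i).sum fun _ e => e := by
      refine (MvPolynomial.totalDegree_mul _ _).trans ?_
      rw [MvPolynomial.totalDegree_C, zero_add,
        MvPolynomial.totalDegree_monomial _ (one_ne_zero)]
    have h2 : (∑ t ∈ range (p + 1),
        C (bernoulli t * ((p + 1).choose t) / (p + 1)) * (X i : MvPolynomial σ ℚ) ^ (p + 1 - t)).totalDegree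
        ≤ p + 1 := by
      refine MvPolynomial.totalDegree_finsetSum_le fun t _ => ?_
      refine (MvPolynomial.totalDegree_mul _ _).trans ?_
      rw [MvPolynomial.totalDegree_C, zero_add, MvPolynomial.totalDegree_X_pow]
      exact Nat.sub_le _ _
    omega
  · intro v
    have hprod : ∀ j : ℕ, ev (Function.update v i j) (monomial m c) =
        c * ((j : ℚ) ^ p * (m.erase i).prod fun l e => (v l : ℚ) ^ e) := by
      intro j
      unfold ev
      rw [MvPolynomial.eval_monomial]
      congr 1
      rw [← Finsupp.mul_prod_erase' m i (fun l e => ((Function.update v i j l : ℕ) : ℚ) ^ e)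
        (fun _ => pow_zero _)]
      congr 1
      · simp [hp]
      · refine Finsupp.prod_congr fun l hl => ?_
        have hli : l ≠ i := by
          intro h
          rw [Finsupp.support_erase, h] at hl
          exact (Finset.notMem_erase i _) hl
        rw [Function.update_of_ne hli]
    simp_rw [hprod]
    rw [← Finset.mul_sum, ← Finset.sum_mul, sum_range_pow]
    unfold ev
    simp only [map_mul, map_sum, map_pow, MvPolynomial.eval_C, MvPolynomial.eval_X,
      MvPolynomial.eval_monomial, one_mul]
    rw [mul_assoc, mul_comm ((m.erase i).prod _)]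
    congr 2
    refine Finset.sum_congr rfl fun t _ => ?_
    ring

/-- summation of a polynomial along the `i`-th coordinate -/
theorem exists_sum (i : σ) (d : ℕ) (Q : MvPolynomial σ ℚ) (hQ : DegLT d Q) :
    ∃ R : MvPolynomial σ ℚ, DegLT (d + 1) R ∧
      ∀ v : σ → ℕ, ev v R = ∑ j ∈ range (v i), ev (Function.update v i j) Q := by
  choose R hR1 hR2 using fun m : σ →₀ ℕ => exists_sum_monomial i m (MvPolynomial.coeff m Q)
  refine ⟨∑ m ∈ Q.support, R m, ?_, ?_⟩
  · refine sum_finset _ _ _ fun m hm => ?_
    apply degLT_of_totalDegree_lt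
    exact lt_of_le_of_lt (hR1 m) (Nat.succ_lt_succ (hQ m hm))
  · intro v
    unfold ev at hR2 ⊢
    rw [map_sum]
    simp_rw [hR2]
    rw [Finset.sum_comm]
    refine Finset.sum_congr rfl fun j _ => ?_
    rw [← map_sum]
    congr 1
    exact (MvPolynomial.support_sum_monomial_coeff Q)

/-- zero out the coordinates outside `s` -/
def mask (s : Finset σ) (n : σ → ℕ) : σ → ℕ := fun l => if l ∈ s then n l else 0

/-- evaluation at a masked point is again polynomial -/
theorem exists_mask (s : Finset σ) (d : ℕ) (R : MvPolynomial σ ℚ) (hR : DegLT d R) :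
    ∃ R' : MvPolynomial σ ℚ, DegLT d R' ∧ ∀ n : σ → ℕ, ev n R' = ev (mask s n) R := by
  classical
  refine ⟨∑ m ∈ R.support.filter (fun m => m.support ⊆ s), monomial m (coeff m R), ?_, ?_⟩
  · refine sum_finset _ _ _ fun m hm => ?_
    intro m' hm'
    have := MvPolynomial.support_monomial_subset hm'
    rw [Finset.mem_singleton] at this
    subst this
    exact hR m' (Finset.mem_filter.1 hm).1
  · intro n
    unfold ev
    rw [map_sum, MvPolynomial.eval_eq, Finset.sum_filter]
    refine Finset.sum_congr rfl fun m _ => ?_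
    split_ifs with h
    · rw [MvPolynomial.eval_monomial]
      congr 1
      rw [Finsupp.prod]
      refine Finset.prod_congr rfl fun l hl => ?_
      simp [mask, h hl]
    · obtain ⟨l, hl, hls⟩ := Finset.not_subset.1 h
      have : (∏ i ∈ m.support, ((mask s n i : ℕ) : ℚ) ^ m i) = 0 := by
        refine Finset.prod_eq_zero hl ?_
        have : m l ≠ 0 := Finsupp.mem_support_iff.1 hl
        simp [mask, hls, this]
      rw [this, mul_zero]

/-- **a function on `ℕ^σ` whose first differences are polynomials of degree `< d` is a polynomial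
of degree `< d + 1`** -/
theorem isPolyLT_of_diff [Fintype σ] (d : ℕ) (f : (σ → ℕ) → ℚ)
    (h : ∀ i, IsPolyLT d (fun n => f (n + Pi.single i 1) - f n)) : IsPolyLT (d + 1) f := by
  classical
  have key : ∀ t : Finset σ, IsPolyLT (d + 1) (fun n => f (mask t n)) := by
    intro t
    induction t using Finset.induction_on with
    | empty =>
      have h0 : ∀ n : σ → ℕ, mask ∅ n = 0 := fun n => by
        funext l
        simp [mask]
      exact (isPolyLT_const d (f 0)).congr fun n => by rw [h0]
    | insert i t hi ih =>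
      obtain ⟨Q, hQ, hQf⟩ := h i
      obtain ⟨R, hR, hRs⟩ := exists_sum i d Q hQ
      obtain ⟨R', hR', hRm⟩ := exists_mask (insert i t) (d + 1) R hR
      have h2 : IsPolyLT (d + 1) (fun n => ev n R') := ⟨R', hR', fun _ => rfl⟩
      refine (ih.add h2).congr fun n => ?_
      rw [hRm, hRs]
      -- telescoping
      have hmi : mask (insert i t) n i = n i := by simp [mask]
      have hupd : ∀ j : ℕ, Function.update (mask (insert i t) n) i j =
          Function.update (mask t n) i j := by
        intro j
        funext l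
        by_cases hl : l = i
        · subst hl; simp
        · rw [Function.update_of_ne hl, Function.update_of_ne hl]
          simp [mask, hl]
      have htel : ∀ N : ℕ, f (Function.update (mask t n) i N) =
          f (mask t n) + ∑ j ∈ range N, ev (Function.update (mask t n) i j) Q := by
        intro N
        induction N with
        | zero =>
          have : Function.update (mask t n) i 0 = mask t n := by
            funext l
            by_cases hl : l = i
            · subst hl; simp [mask, hi]
            · rw [Function.update_of_ne hl]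
          simp [this]
        | succ N ihN =>
          rw [Finset.sum_range_succ, ← add_assoc, ← ihN, ← hQf]
          have : Function.update (mask t n) i (N + 1) =
              Function.update (mask t n) i N + Pi.single i 1 := by
            funext l
            by_cases hl : l = i
            · subst hl; simp
            · simp [Function.update_of_ne hl, Pi.single_eq_of_ne hl]
          rw [this]
          ring
      have h3 : mask (insert i t) n = Function.update (mask t n) i (n i) := by
        funext l
        by_cases hl : l = i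
        · subst hl; simp [mask]
        · rw [Function.update_of_ne hl]
          simp [mask, hl]
      rw [hmi]
      simp_rw [hupd]
      rw [h3]
      exact htel (n i)
  have hu : ∀ n : σ → ℕ, mask Finset.univ n = n := fun n => by
    funext l
    simp [mask]
  exact (key Finset.univ).congr fun n => by rw [hu]

/-- a function on `ℕ^σ` whose first differences all vanish is constant (the case `d = 0`) -/
theorem degLT_zero_iff {P : MvPolynomial σ ℚ} : DegLT 0 P ↔ P = 0 := by
  constructor
  · intro h
    by_contra hne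
    obtain ⟨m, hm⟩ := Finset.nonempty_of_ne_empty
      (fun he => hne (MvPolynomial.support_eq_empty.1 he))
    exact Nat.not_lt_zero _ (h m hm)
  · rintro rfl
    exact degLT_zero 0



section Coeff

variable [Fintype σ]

/-- the `0/1` vector of a subset -/
def ind (t : Finset σ) : σ → ℕ := fun i => if i ∈ t then 1 else 0

theorem alt_sum_monomial (m : σ →₀ ℕ) :
    ∑ t : Finset σ, (-1 : ℚ) ^ (Fintype.card σ - t.card) * ∏ i, ((ind t i : ℕ) : ℚ) ^ m i =
      if ∀ i, m i ≠ 0 then 1 else 0 := by
  have h := Finset.prod_add (fun _ : σ => (1 : ℚ)) (fun i => -(0 : ℚ) ^ (m i)) Finset.univ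
  have hL : ∏ i : σ, ((1 : ℚ) + -(0 : ℚ) ^ (m i)) = if ∀ i, m i ≠ 0 then 1 else 0 := by
    split_ifs with hall
    · refine Finset.prod_eq_one fun i _ => ?_
      rw [zero_pow (hall i)]
      ring
    · push Not at hall
      obtain ⟨i, hi⟩ := hall
      refine Finset.prod_eq_zero (Finset.mem_univ i) ?_
      rw [hi, pow_zero]
      ring
  rw [← hL, h, Finset.powerset_univ]
  refine Finset.sum_congr rfl fun t _ => ?_
  rw [Finset.prod_const_one, one_mul, Finset.prod_neg, ← Finset.compl_eq_univ_sdiff,
    Finset.card_compl]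
  congr 1
  rw [← Finset.prod_mul_prod_compl t]
  have h1 : ∏ i ∈ t, ((ind t i : ℕ) : ℚ) ^ m i = 1 := by
    refine Finset.prod_eq_one fun i hi => ?_
    simp [ind, hi]
  have h2 : ∏ i ∈ tᶜ, ((ind t i : ℕ) : ℚ) ^ m i = ∏ i ∈ tᶜ, (0 : ℚ) ^ m i := by
    refine Finset.prod_congr rfl fun i hi => ?_
    have : i ∉ t := Finset.mem_compl.1 hi
    simp [ind, this]
  rw [h1, h2, one_mul]

/-- the coefficient of `x_1 ⋯ x_d` of a polynomial of total degree at most `d = card σ` is the
alternating sum of its values at the `0/1` vectors -/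
theorem coeff_ones_eq (P : MvPolynomial σ ℚ) (hdeg : P.totalDegree ≤ Fintype.card σ) :
    coeff (Finsupp.equivFunOnFinite.symm fun _ : σ => 1) P =
      ∑ t : Finset σ, (-1 : ℚ) ^ (Fintype.card σ - t.card) * ev (ind t) P := by
  classical
  unfold ev
  simp_rw [MvPolynomial.eval_eq', Finset.mul_sum]
  rw [Finset.sum_comm]
  have h1 : ∀ m ∈ P.support, ∑ t : Finset σ, (-1 : ℚ) ^ (Fintype.card σ - t.card) *
      (coeff m P * ∏ i, ((ind t i : ℕ) : ℚ) ^ m i) =
      coeff m P * (if ∀ i, m i ≠ 0 then 1 else 0) := by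
    intro m _
    rw [← alt_sum_monomial m, Finset.mul_sum]
    refine Finset.sum_congr rfl fun t _ => ?_
    ring
  rw [Finset.sum_congr rfl h1]
  set o : σ →₀ ℕ := Finsupp.equivFunOnFinite.symm fun _ : σ => 1 with ho
  have ho1 : ∀ i, o i = 1 := fun i => rfl
  have h2 : ∀ m ∈ P.support, m ≠ o → coeff m P * (if ∀ i, m i ≠ 0 then (1 : ℚ) else 0) = 0 := by
    intro m hm hne
    rw [if_neg, mul_zero]
    intro hall
    apply hne
    -- all exponents are at least one and their sum is at most card σ
    have hsum : (m.sum fun _ e => e) ≤ Fintype.card σ :=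
      (MvPolynomial.le_totalDegree hm).trans hdeg
    rw [Finsupp.sum_fintype _ _ (fun _ => rfl)] at hsum
    have hge : ∀ i, 1 ≤ m i := fun i => Nat.one_le_iff_ne_zero.2 (hall i)
    have hcard : Fintype.card σ = ∑ _i : σ, 1 := by simp
    ext i
    rw [ho1]
    by_contra hi
    have hi2 : 2 ≤ m i := by
      have := hge i
      omega
    have : ∑ j : σ, 1 < ∑ j : σ, m j :=
      Finset.sum_lt_sum (fun j _ => hge j) ⟨i, Finset.mem_univ i, by omega⟩
    omega
  by_cases hmem : o ∈ P.support
  · rw [Finset.sum_eq_single_of_mem o hmem h2, if_pos (fun i => by rw [ho1]; exact one_ne_zero),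
      mul_one]
  · rw [Finset.sum_eq_zero fun m hm => h2 m hm (fun h => hmem (h ▸ hm))]
    exact MvPolynomial.notMem_support_iff.1 hmem

/-- a polynomial of total degree `≤ card σ` taking integer values at all `0/1` vectors has an
integral coefficient at `x_1 ⋯ x_d` -/
theorem exists_int_coeff_ones (P : MvPolynomial σ ℚ) (hdeg : P.totalDegree ≤ Fintype.card σ)
    (hint : ∀ n : σ → ℕ, ∃ z : ℤ, ev n P = (z : ℚ)) :
    ∃ z : ℤ, coeff (Finsupp.equivFunOnFinite.symm fun _ : σ => 1) P = (z : ℚ) := by
  classical
  choose z hz using hint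
  refine ⟨∑ t : Finset σ, (-1 : ℤ) ^ (Fintype.card σ - t.card) * z (ind t), ?_⟩
  rw [coeff_ones_eq P hdeg]
  push_cast
  refine Finset.sum_congr rfl fun t _ => ?_
  rw [hz]

omit [DecidableEq σ] [Fintype σ] in
/-- two polynomials agreeing on `ℕ^σ` are equal -/
theorem eq_of_ev_eq (P Q : MvPolynomial σ ℚ) (h : ∀ n : σ → ℕ, ev n P = ev n Q) : P = Q := by
  refine MvPolynomial.funext_set (fun _ : σ => Set.range (Nat.cast : ℕ → ℚ))
    (fun _ => Set.infinite_range_of_injective Nat.cast_injective) ?_
  intro x hx
  have hx' : ∀ i, ∃ n : ℕ, (n : ℚ) = x i := fun i => hx i (Set.mem_univ i)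
  choose n hn using hx'
  have : x = fun i => (n i : ℚ) := funext fun i => (hn i).symm
  rw [this]
  exact h n

end Coeff

end Groth.Agent.Lib.R2H4NumPoly
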