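import Mathlib
import Groth.Prelude
import Groth.Agent.Lib.R2H4NumPoly
import Groth.Agent.Lib.R2H4TensorPows
import Groth.Agent.Lib.R2H2DevC
import Groth.Agent.Lib.R2H2DevD
import Groth.Agent.Lib.R2H2DevE
import Groth.Agent.Lib.R2H2DevI
import Groth.Agent.Lib.R2H2ResField
import Groth.Agent.Lib.Helper8Conn
import Groth.Agent.Lib.Helper7TopDim
import Groth.Agent.Lib.H6xSuppPushD
import Groth.Agent.Lib.Helper23RestrTensor
import Groth.Agent.Lib.Helper23QCohAbelian
import Groth.Agent.S0020

/-!
# Snapper's theorem (helper4, round 2)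

For a coherent module `F` on a proper scheme over a field and invertible modules `L_1, …, L_r`,
the function `n ↦ χ(F ⊗ L_1^{n_1} ⊗ ⋯ ⊗ L_r^{n_r})` on `ℕ^r` is a polynomial of total degree
`≤ dim Supp F`.
-/

set_option autoImplicit false
universe u
open CategoryTheory CategoryTheory.Limits AlgebraicGeometry TopologicalSpace

noncomputable section

namespace Groth.Agent.Lib.R2H4Snapper

open Groth.Agent.Lib.R2H4NumPoly Groth.Agent.Lib.R2H4TensorPows
open Groth.Agent.Lib.R2H2.DevA

section Local

variable {X : Scheme.{u}}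

/-- near any point, tensoring with an invertible module does nothing -/
theorem exists_restrict_tensor_iso (G A : X.Modules) (hA : PicF.IsInvertible A) (x : X) :
    ∃ U : X.Opens, x ∈ U ∧
      Nonempty ((Scheme.Modules.restrictFunctor U.ι).obj (CohB1.tensorMod G A) ≅
        (Scheme.Modules.restrictFunctor U.ι).obj G) := by
  obtain ⟨U, hx, ⟨e⟩⟩ := hA x
  refine ⟨U, hx, ⟨?_⟩⟩
  exact Groth.Agent.Lib.Helper23.RestrTensor.restrictTensorIso G A U.ι ≪≫
    tIso (Iso.refl _) e ≪≫ rUnit _

theorem support_tensor_subset (G A : X.Modules) (hA : PicF.IsInvertible A) :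
    CohB1.support (CohB1.tensorMod G A) ⊆ CohB1.support G := by
  intro x hx
  obtain ⟨U, hxU, ⟨e⟩⟩ := exists_restrict_tensor_iso G A hA x
  have h1 := (Groth.Agent.Lib.H6xSuppPush.mem_support_restrict_iff U.ι (CohB1.tensorMod G A)
    ⟨x, hxU⟩).2 hx
  rw [Groth.Agent.Lib.H6xSuppPush.support_eq_of_iso e] at h1
  exact (Groth.Agent.Lib.H6xSuppPush.mem_support_restrict_iff U.ι G ⟨x, hxU⟩).1 h1

attribute [local instance] Groth.Agent.Lib.Helper23.QCohLocal.restrictFunctor_isRightAdjoint

theorem support_kernel_subset {H N : X.Modules} (p : H ⟶ N) (U : X.Opens)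
    (hiso : IsIso ((Scheme.Modules.restrictFunctor U.ι).map p)) :
    CohB1.support (kernel p) ⊆ CohB1.support H \ (U : Set X) := by
  intro x hx
  refine ⟨support_subset_of_mono (kernel.ι p) hx, fun hxU => ?_⟩
  have h1 := (Groth.Agent.Lib.H6xSuppPush.mem_support_restrict_iff U.ι (kernel p)
    ⟨x, hxU⟩).2 hx
  have hz : IsZero ((Scheme.Modules.restrictFunctor U.ι).obj (kernel p)) :=
    IsZero.of_iso (isZero_kernel_of_mono ((Scheme.Modules.restrictFunctor U.ι).map p))
      (PreservesKernel.iso (Scheme.Modules.restrictFunctor U.ι) p)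
  rw [support_of_isZero hz] at h1
  exact h1

theorem support_cokernel_subset {H N : X.Modules} (p : H ⟶ N) (U : X.Opens)
    (hiso : IsIso ((Scheme.Modules.restrictFunctor U.ι).map p)) :
    CohB1.support (cokernel p) ⊆ CohB1.support N \ (U : Set X) := by
  intro x hx
  refine ⟨support_subset_of_epi (cokernel.π p) hx, fun hxU => ?_⟩
  have h1 := (Groth.Agent.Lib.H6xSuppPush.mem_support_restrict_iff U.ι (cokernel p)
    ⟨x, hxU⟩).2 hx
  have hz : IsZero ((Scheme.Modules.restrictFunctor U.ι).obj (cokernel p)) :=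
    IsZero.of_iso (isZero_cokernel_of_epi ((Scheme.Modules.restrictFunctor U.ι).map p))
      (PreservesCokernel.iso (Scheme.Modules.restrictFunctor U.ι) p)
  rw [support_of_isZero hz] at h1
  exact h1

end Local

section Dim

theorem le_of_lt_succ' (b : WithBot ℕ∞) (d : ℕ) (h : b < ((d + 1 : ℕ) : WithBot ℕ∞)) :
    b ≤ ((d : ℕ) : WithBot ℕ∞) := by
  induction b using WithBot.recBotCoe with
  | bot => exact bot_le
  | coe b =>
    induction b using ENat.recTopCoe with
    | top =>
      exfalso
      have : ((⊤ : ℕ∞) : WithBot ℕ∞) < (((d + 1 : ℕ) : ℕ∞) : WithBot ℕ∞) := h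
      rw [WithBot.coe_lt_coe] at this
      exact absurd this (not_lt.2 le_top)
    | coe m =>
      have h' : (((m : ℕ) : ℕ∞) : WithBot ℕ∞) < (((d + 1 : ℕ) : ℕ∞) : WithBot ℕ∞) := h
      rw [WithBot.coe_lt_coe, Nat.cast_lt] at h'
      have : (((m : ℕ) : ℕ∞) : WithBot ℕ∞) ≤ (((d : ℕ) : ℕ∞) : WithBot ℕ∞) := by
        rw [WithBot.coe_le_coe, Nat.cast_le]
        omega
      exact this

end Dim

section Main

open Groth.Agent.Lib.R2H1.DegCartier Groth.Agent.Lib.R2H1.EulerAdd

variable (k : Type u) [Field k] {X : Scheme.{u}} [X.Over (Spec (CommRingCat.of k))]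
  [IsProper (X ↘ (Spec (CommRingCat.of k)))]

/-- four-term additivity: `χ(N) = χ(H) - χ(ker p) + χ(coker p)` for the twisted Euler
characteristics -/
theorem fE_four [IsLocallyNoetherian X] (r : ℕ) (L : Fin r → X.Modules)
    (hL : ∀ i, PicF.IsInvertible (L i))
    {H N : X.Modules} (hH : Coh.IsCoh H) (hN : Coh.IsCoh N) (p : H ⟶ N) (n : Fin r → ℕ) :
    fE k X r L N n = fE k X r L H n - fE k X r L (kernel p) n + fE k X r L (cokernel p) n := by
  have cK : Coh.IsCoh (kernel p) := Groth.Agent.Lib.R2H2.PdSheaf.isCoh_kernel hH hN p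
  have cC : Coh.IsCoh (cokernel p) := Groth.Agent.Lib.R2H2.NilFilt.isCoh_cokernel hH hN p
  have cI : Coh.IsCoh (Abelian.image p) :=
    Groth.Agent.Lib.R2H2.PdSheaf.isCoh_kernel hN cC (cokernel.π p)
  let S₁ : ShortComplex X.Modules :=
    ShortComplex.mk (kernel.ι p) (Abelian.factorThruImage p) (by
      rw [← cancel_mono (Abelian.image.ι p), Category.assoc, Abelian.image.fac,
        kernel.condition, zero_comp])
  have hS₁ : S₁.ShortExact :=
    Groth.Agent.Lib.R2H2.PdSheaf.shortExact_of_factor (kernel.ι p) p (kernel.condition p)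
      (kernelIsKernel p) (Abelian.factorThruImage p) (Abelian.image.ι p)
      (Abelian.image.fac p) _
  let S₂ : ShortComplex X.Modules :=
    ShortComplex.mk (Abelian.image.ι p) (cokernel.π p) (kernel.condition (cokernel.π p))
  have hS₂ : S₂.ShortExact :=
    { exact := ShortComplex.exact_kernel (cokernel.π p)
      mono_f := inferInstanceAs (Mono (kernel.ι (cokernel.π p)))
      epi_g := inferInstanceAs (Epi (cokernel.π p)) }
  have h₁ : fE k X r L H n = fE k X r L (kernel p) n + fE k X r L (Abelian.image p) n :=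
    fE_add k r L hL S₁ hS₁ cK hH cI n
  have h₂ : fE k X r L N n = fE k X r L (Abelian.image p) n + fE k X r L (cokernel p) n :=
    fE_add k r L hL S₂ hS₂ cI hN cC n
  rw [h₁, h₂]
  ring

/-- **Snapper's theorem**, in the form: if `dim Supp F < d` then `n ↦ χ(F ⊗ L^n)` is given by
a polynomial all of whose monomials have degree `< d`. -/
theorem main (r : ℕ) (L : Fin r → X.Modules) (hL : ∀ i, PicF.IsInvertible (L i)) :
    ∀ (d : ℕ) (F : X.Modules), Coh.IsCoh F →
      topologicalKrullDim (CohB1.support F) < ((d : ℕ) : WithBot ℕ∞) →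
      IsPolyLT d (fE k X r L F) := by
  have := Groth.Agent.Lib.R2H1.CurveEuler.isNoetherian_of_proper k X
  intro d
  induction d with
  | zero =>
    intro F _ hdim
    have hempty : CohB1.support F ⊆ ∅ := by
      intro x hx
      have : Nonempty (CohB1.support F) := ⟨⟨x, hx⟩⟩
      have h0 := Groth.Agent.Lib.Helper7.TopDim.topologicalKrullDim_nonneg
        (X := (CohB1.support F))
      exact absurd (lt_of_le_of_lt h0 hdim) (lt_irrefl _)
    have hz := isZero_of_support_subset_empty F hempty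
    exact (isPolyLT_zero 0).congr fun n => fE_of_isZero k r L F hz n
  | succ d ih =>
    intro F hF hdim
    have hcl : IsClosed (CohB1.support F) := Groth.Agent.S0020.result X F hF.2
    refine Groth.Agent.Lib.R2H2.DevC.devissage (fun F => IsPolyLT (d + 1) (fE k X r L F))
      (fun M hM => (isPolyLT_zero (d + 1)).congr fun n => fE_of_isZero k r L M hM n)
      (CohB1.support F) hcl (fun s => s = 1) ?_ ?_ ?_ F hF subset_rfl
    · intro S hS c₁ c₂ c₃ _
      have h := fE_add k r L hL S hS c₁ c₂ c₃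
      refine ⟨fun p₁ p₂ => ?_, fun p₁ p₃ => ?_, fun p₂ p₃ => ?_⟩
      · exact (IsPolyLT.sub p₂ p₁).congr fun n => by rw [h n]; ring
      · exact (IsPolyLT.add p₁ p₃).congr fun n => h n
      · exact (IsPolyLT.sub p₂ p₃).congr fun n => by rw [h n]; ring
    · intro F s _ hs hp
      subst hs
      exact hp.congr fun n =>
        (fE_congr k r L (Groth.Agent.Lib.R2H2.StalkPow.powOneIso F) n).symm
    · intro Z hZ hirr hZF y hy
      obtain ⟨W, i, hi, hW, hrange, hgen⟩ :=
        Groth.Agent.Lib.R2H2.DevD.exists_integral_closed Z hZ hirr y hy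
      subst hgen
      set G := (Scheme.Modules.pushforward i).obj (Coh.structureModule W) with hG
      have cG : Coh.IsCoh G := Groth.Agent.Lib.R2H2.DevE.isCoh_pushO i
      have sG : CohB1.support G ⊆ Z := hrange ▸ Groth.Agent.Lib.R2H2.DevE.support_push_subset i _
      have hdimZ : topologicalKrullDim Z ≤ ((d : ℕ) : WithBot ℕ∞) :=
        le_of_lt_succ' _ _ (lt_of_le_of_lt (Groth.Agent.Lib.Helper8.Conn.dim_mono hZF) hdim)
      have hyZ : i (genericPoint W) ∈ Z := hy ▸ subset_closure rfl
      have hPG : IsPolyLT (d + 1) (fE k X r L G) := by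
        refine isPolyLT_of_diff d _ fun j => ?_
        set M := CohB1.tensorMod G (L j) with hM
        have cM : Coh.IsCoh M := Groth.Agent.Lib.R2H4SSDescent.isCoh_tensorMod _ _ cG
          (Groth.Agent.Lib.R2H4SSDescent.isCoh_of_isInvertible _ (hL j))
        have sM : CohB1.support M ⊆ Z := (support_tensor_subset G (L j) (hL j)).trans sG
        obtain ⟨U, hyU, ⟨e⟩⟩ := exists_restrict_tensor_iso G (L j) (hL j) (i (genericPoint W))
        obtain ⟨H, ψ, hψ, cH, hp₁, hp₂⟩ :=
          Groth.Agent.Lib.R2H2.DevB.exists_graph' U.ι G M cG cM e.symm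
        have sH : CohB1.support H ⊆ Z :=
          (support_subset_of_mono ψ).trans ((support_biprod G M).trans (Set.union_subset sG sM))
        -- the bound on the dimension of proper closed subsets
        have hsmall : ∀ T : X.Modules, Coh.IsCoh T → CohB1.support T ⊆ Z \ (U : Set X) →
            IsPolyLT d (fE k X r L T) := by
          intro T cT sT
          refine ih T cT ?_
          have hclZU : IsClosed (Z \ (U : Set X)) := hZ.sdiff U.2
          have hne : Z \ (U : Set X) ≠ Z := fun h => by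
            have : i (genericPoint W) ∈ Z \ (U : Set X) := by rw [h]; exact hyZ
            exact this.2 hyU
          have hfin : topologicalKrullDim Z < ⊤ := by
            refine lt_of_le_of_lt hdimZ ?_
            change (((d : ℕ) : ℕ∞) : WithBot ℕ∞) < ((⊤ : ℕ∞) : WithBot ℕ∞)
            exact WithBot.coe_lt_coe.2 (ENat.natCast_lt_top d)
          have h1 := Groth.Agent.Lib.Helper8.Conn.dim_lt_of_proper_closed hirr hclZU
            Set.sdiff_subset hne hfin
          exact lt_of_le_of_lt (Groth.Agent.Lib.Helper8.Conn.dim_mono sT) (lt_of_lt_of_le h1 hdimZ)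
        have k₁ := hsmall (kernel (ψ ≫ biprod.fst))
          (Groth.Agent.Lib.R2H2.PdSheaf.isCoh_kernel cH cG _)
          ((support_kernel_subset _ U hp₁).trans (Set.sdiff_subset_sdiff_left sH))
        have c₁ := hsmall (cokernel (ψ ≫ biprod.fst))
          (Groth.Agent.Lib.R2H2.NilFilt.isCoh_cokernel cH cG _)
          ((support_cokernel_subset _ U hp₁).trans (Set.sdiff_subset_sdiff_left sG))
        have k₂ := hsmall (kernel (ψ ≫ biprod.snd))
          (Groth.Agent.Lib.R2H2.PdSheaf.isCoh_kernel cH cM _)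
          ((support_kernel_subset _ U hp₂).trans (Set.sdiff_subset_sdiff_left sH))
        have c₂ := hsmall (cokernel (ψ ≫ biprod.snd))
          (Groth.Agent.Lib.R2H2.NilFilt.isCoh_cokernel cH cM _)
          ((support_cokernel_subset _ U hp₂).trans (Set.sdiff_subset_sdiff_left sM))
        refine ((c₂.sub k₂).sub (c₁.sub k₁)).congr fun n => ?_
        rw [← fE_shift k r L G j n, fE_four k r L hL cH cG (ψ ≫ biprod.fst) n,
          fE_four k r L hL cH cM (ψ ≫ biprod.snd) n]
        ring
      refine ⟨G, cG, hPG, sG, ?_⟩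
      intro N _ _ _ hk
      obtain ⟨eN⟩ := Groth.Agent.Lib.R2H2.DevI.nonempty_stalk_pushO_equiv' i
      obtain ⟨r', ⟨e⟩⟩ := Groth.Agent.Lib.R2H2.ResField.exists_equiv_pow_one N _ hk eN
      exact ⟨r', 1, rfl, ⟨LinearEquiv.funUnique (Fin 1) _ N ≪≫ₗ e⟩⟩

/-- Snapper's theorem in the form of statement S1528 -/
theorem s1528 (F : X.Modules) (hF : Coh.IsCoh F) (d : ℕ)
    (hsupp : topologicalKrullDim (CohB1.support F) ≤ d)
    (r : ℕ) (L : Fin r → X.Modules) (hL : ∀ i, PicF.IsInvertible (L i)) :
    ∃ P : MvPolynomial (Fin r) ℚ, P.totalDegree ≤ d ∧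
      ∀ n : Fin r → ℕ, (Curv2.euler k X (Curv2.tensorPows F r L n) : ℚ) =
        MvPolynomial.eval (fun i => (n i : ℚ)) P := by
  have hlt : topologicalKrullDim (CohB1.support F) < ((d + 1 : ℕ) : WithBot ℕ∞) := by
    refine lt_of_le_of_lt hsupp ?_
    have : ((d : ℕ) : WithBot ℕ∞) < ((d + 1 : ℕ) : WithBot ℕ∞) := by
      change (((d : ℕ) : ℕ∞) : WithBot ℕ∞) < (((d + 1 : ℕ) : ℕ∞) : WithBot ℕ∞)
      rw [WithBot.coe_lt_coe, Nat.cast_lt]
      exact Nat.lt_succ_self d
    exact this
  obtain ⟨P, hP, hPf⟩ := main k r L hL (d + 1) F hF hlt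
  exact ⟨P, hP.totalDegree_le, fun n => hPf n⟩

end Main

end Groth.Agent.Lib.R2H4Snapper
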