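import Mathlib
import Groth.Prelude
import Groth.Agent.Lib.R2H4Snapper
import Groth.Agent.Lib.R2H1DegCartier

/-!
# Corollaries of Snapper's theorem (helper4, round 2)

* `s7685` : the intersection number `(L_1 ⋯ L_d · Z)` is an integer.
-/

set_option autoImplicit false
universe u
open CategoryTheory CategoryTheory.Limits AlgebraicGeometry TopologicalSpace

noncomputable section

namespace Groth.Agent.Lib.R2H4SnapperCor

open Groth.Agent.Lib.R2H4NumPoly Groth.Agent.Lib.R2H4TensorPows Groth.Agent.Lib.R2H4Snapper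

variable (k : Type u) [Field k] {X : Scheme.{u}} [X.Over (Spec (CommRingCat.of k))]
  [IsProper (X ↘ (Spec (CommRingCat.of k)))]

include k in
theorem isCoh_quotMod (D : X.IdealSheafData) : Coh.IsCoh (ClSub.quotMod D) := by
  have := Groth.Agent.Lib.R2H1.CurveEuler.isNoetherian_of_proper k X
  exact Groth.Agent.S0019.result D.subschemeι _
    (Groth.Agent.Lib.R2H1.GenusLe.isCoh_structureModule D.subscheme)

/-- any polynomial computing `n ↦ χ(F ⊗ L^n)` on `ℕ^r` has total degree `≤ dim Supp F` -/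
theorem totalDegree_le_of_eval (F : X.Modules) (hF : Coh.IsCoh F) (d : ℕ)
    (hsupp : topologicalKrullDim (CohB1.support F) ≤ d)
    (r : ℕ) (L : Fin r → X.Modules) (hL : ∀ i, PicF.IsInvertible (L i))
    (P : MvPolynomial (Fin r) ℚ)
    (hP : ∀ n : Fin r → ℕ, (Curv2.euler k X (Curv2.tensorPows F r L n) : ℚ) =
      MvPolynomial.eval (fun i => (n i : ℚ)) P) : P.totalDegree ≤ d := by
  obtain ⟨P₀, hdeg, hP₀⟩ := s1528 k F hF d hsupp r L hL
  have : P = P₀ := eq_of_ev_eq P P₀ fun n => by
    unfold ev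
    rw [← hP n, ← hP₀ n]
  rw [this]
  exact hdeg

theorem s7685 (D : X.IdealSheafData) (d : ℕ) (hD : topologicalKrullDim (D.support : Set X) = d)
    (L : Fin d → X.Modules) (hL : ∀ i, PicF.IsInvertible (L i)) (P : MvPolynomial (Fin d) ℚ)
    (hP : ∀ n : Fin d → ℕ, (Curv2.euler k X (Curv2.tensorPows (ClSub.quotMod D) d L n) : ℚ) =
      MvPolynomial.eval (fun i => (n i : ℚ)) P) :
    ∃ z : ℤ, MvPolynomial.coeff (Finsupp.equivFunOnFinite.symm fun _ : Fin d => 1) P = (z : ℚ) := by
  have hsupp : topologicalKrullDim (CohB1.support (ClSub.quotMod D)) ≤ d :=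
    (Groth.Agent.Lib.Helper8.Conn.dim_mono
      (Groth.Agent.Lib.R2H1.DegCartier.support_quotMod_subset D)).trans hD.le
  have hdeg := totalDegree_le_of_eval k _ (isCoh_quotMod k D) d hsupp d L hL P hP
  refine exists_int_coeff_ones P (by simpa using hdeg) fun n => ?_
  exact ⟨Curv2.euler k X (Curv2.tensorPows (ClSub.quotMod D) d L n), (hP n).symm⟩

end Groth.Agent.Lib.R2H4SnapperCor
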