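import Mathlib
import Groth.Prelude
import Groth.Agent.Lib.R2H4SnapperCor
import Groth.Agent.Lib.R2H1DegComponents
import Groth.Agent.Lib.Helper23StalkLin
import Groth.Agent.Lib.Helper10RedInd

/-!
# The refined form of Snapper's theorem (helper4, round 2)

`χ(F ⊗ L^n) - Σ_ξ length(F_ξ) χ(O_{Z_ξ} ⊗ L^n)`, the sum over the points `ξ` with
`dim closure{ξ} = d`, is a polynomial all of whose monomials have degree `< d`, for `F` coherent
with `dim Supp F ≤ d`.
-/

set_option autoImplicit false
universe u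
open CategoryTheory CategoryTheory.Limits AlgebraicGeometry TopologicalSpace

noncomputable section

namespace Groth.Agent.Lib.R2H4SnapperRef

open Groth.Agent.Lib.R2H4NumPoly Groth.Agent.Lib.R2H4TensorPows Groth.Agent.Lib.R2H4Snapper
  Groth.Agent.Lib.R2H4SnapperCor
open Groth.Agent.Lib.R2H2.DevA
open Groth.Agent.Lib.Helper4.NormDelta Groth.Agent.Lib.Helper23.StalkLin

section Gen

variable {X : Scheme.{u}}

/-- the ideal of the reduced closed subscheme with generic point `ξ` -/
abbrev zI (ξ : X) : X.IdealSheafData :=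
  Scheme.IdealSheafData.vanishingIdeal (⟨closure ({ξ} : Set X), isClosed_closure⟩ : Closeds X)

theorem range_zι (ξ : X) : Set.range ⇑(zI ξ).subschemeι = closure ({ξ} : Set X) := by
  rw [Scheme.IdealSheafData.range_subschemeι, Scheme.IdealSheafData.coe_support_vanishingIdeal]
  rfl

theorem isIntegral_zS (ξ : X) : IsIntegral (zI ξ).subscheme := by
  have hrange := range_zι ξ
  have hred : IsReduced (zI ξ).subscheme :=
    Groth.Agent.Lib.Helper10.RedInd.isReduced_subscheme_vanishingIdeal _
  obtain ⟨z', hz'⟩ : ξ ∈ Set.range ⇑(zI ξ).subschemeι := by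
    rw [hrange]; exact subset_closure rfl
  have hirr : IsIrreducible (closure ({ξ} : Set X)) := isIrreducible_singleton.closure
  have hirrS : IrreducibleSpace (zI ξ).subscheme := by
    have h1 : IrreducibleSpace (Set.range ⇑(zI ξ).subschemeι) :=
      Subtype.irreducibleSpace (hrange ▸ hirr)
    have : Nonempty (zI ξ).subscheme := ⟨z'⟩
    exact ((zI ξ).subschemeι.isClosedEmbedding.isEmbedding.toHomeomorph.symm.symm.isOpenEmbedding).irreducibleSpace
  exact isIntegral_of_irreducibleSpace_of_isReduced _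

theorem zι_genericPoint (ξ : X) :
    haveI := isIntegral_zS ξ
    (zI ξ).subschemeι (genericPoint (zI ξ).subscheme) = ξ := by
  have := isIntegral_zS ξ
  have h1 : IsGenericPoint ((zI ξ).subschemeι (genericPoint (zI ξ).subscheme))
      (closure ({ξ} : Set X)) := by
    change closure {(zI ξ).subschemeι (genericPoint (zI ξ).subscheme)} = closure ({ξ} : Set X)
    rw [← Set.image_singleton, (zI ξ).subschemeι.isClosedEmbedding.closure_image_eq,
      (genericPoint_spec (zI ξ).subscheme).def, Set.image_univ, range_zι]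
  have h2 : IsGenericPoint ξ (closure ({ξ} : Set X)) := rfl
  exact h1.eq h2

theorem support_quotMod_zI (ξ : X) : CohB1.support (ClSub.quotMod (zI ξ)) ⊆ closure ({ξ} : Set X) := by
  refine (Groth.Agent.Lib.R2H1.DegCartier.support_quotMod_subset (zI ξ)).trans ?_
  rw [Scheme.IdealSheafData.coe_support_vanishingIdeal]
  rfl

/-- the length of the stalk -/
def lenE (F : X.Modules) (ξ : X) : ℕ∞ := Module.length (X.presheaf.stalk ξ) (F.presheaf.stalk ξ)

theorem lenE_add (S : ShortComplex X.Modules) (hS : S.ShortExact) (ξ : X) :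
    lenE S.X₂ ξ = lenE S.X₁ ξ + lenE S.X₃ ξ := by
  haveI := hS.mono_f
  haveI := hS.epi_g
  exact Module.length_eq_add_of_exact (stalkLin S.f ξ) (stalkLin S.g ξ)
    (stalkLin_injective S.f _) (stalkLin_surjective S.g _) (stalkLin_exact S hS _)

theorem lenE_congr {M N : X.Modules} (e : M ≅ N) (ξ : X) : lenE M ξ = lenE N ξ :=
  (LinearEquiv.ofBijective (stalkLin e.hom ξ)
    ⟨stalkLin_injective e.hom _, stalkLin_surjective e.hom _⟩).length_eq

theorem lenE_eq_zero (F : X.Modules) (ξ : X) (h : ξ ∉ CohB1.support F) : lenE F ξ = 0 := by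
  haveI : Subsingleton (F.presheaf.stalk ξ) := not_not.mp h
  unfold lenE
  rw [Module.length_eq_zero_iff]
  infer_instance

theorem lenE_quotMod_zI (ξ : X) : lenE (ClSub.quotMod (zI ξ)) ξ = 1 := by
  haveI := isIntegral_zS ξ
  have h := Groth.Agent.Lib.R2H1.DegComponents.length_pushO_generic (zI ξ).subschemeι
  unfold lenE
  rw [Groth.Agent.Lib.R2H1.DegComponents.length_stalk_congr _ _ _ (zι_genericPoint ξ).symm]
  exact h

variable (d : ℕ)

/-- the length of the stalk at the points whose closure has dimension `d`, zero elsewhere -/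
def lam (F : X.Modules) (ξ : X) : ℕ∞ :=
  if topologicalKrullDim (closure ({ξ} : Set X)) = ((d : ℕ) : WithBot ℕ∞) then lenE F ξ else 0

theorem lam_add (S : ShortComplex X.Modules) (hS : S.ShortExact) (ξ : X) :
    lam d S.X₂ ξ = lam d S.X₁ ξ + lam d S.X₃ ξ := by
  unfold lam
  split_ifs
  · exact lenE_add S hS ξ
  · simp

theorem lam_congr {M N : X.Modules} (e : M ≅ N) (ξ : X) : lam d M ξ = lam d N ξ := by
  unfold lam
  rw [lenE_congr e ξ]

/-- finiteness condition: finitely many points of dimension `d` in the support, with stalks of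
finite length -/
def Cfin (F : X.Modules) : Prop :=
  (Function.support (lam d F)).Finite ∧ ∀ ξ, lam d F ξ ≠ ⊤

theorem cfin_iff (S : ShortComplex X.Modules) (hS : S.ShortExact) :
    Cfin d S.X₂ ↔ Cfin d S.X₁ ∧ Cfin d S.X₃ := by
  have hsupp : Function.support (lam d S.X₂) =
      Function.support (lam d S.X₁) ∪ Function.support (lam d S.X₃) := by
    ext ξ
    simp only [Function.mem_support, Set.mem_union, ne_eq, lam_add d S hS ξ, add_eq_zero,
      not_and_or]
  constructor
  · rintro ⟨h1, h2⟩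
    refine ⟨⟨h1.subset (hsupp ▸ Set.subset_union_left), fun ξ hξ => h2 ξ ?_⟩,
      ⟨h1.subset (hsupp ▸ Set.subset_union_right), fun ξ hξ => h2 ξ ?_⟩⟩
    · rw [lam_add d S hS ξ, hξ, top_add]
    · rw [lam_add d S hS ξ, hξ, add_top]
  · rintro ⟨⟨h1, h2⟩, ⟨h3, h4⟩⟩
    refine ⟨hsupp ▸ h1.union h3, fun ξ => ?_⟩
    rw [lam_add d S hS ξ]
    exact WithTop.add_ne_top.2 ⟨h2 ξ, h4 ξ⟩

theorem cfin_congr {M N : X.Modules} (e : M ≅ N) (h : Cfin d M) : Cfin d N := by
  have : lam d N = lam d M := funext fun ξ => (lam_congr d e ξ).symm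
  unfold Cfin
  rw [this]
  exact h

theorem cfin_of_isZero (M : X.Modules) (hM : IsZero M) : Cfin d M := by
  have : lam d M = fun _ => 0 := by
    funext ξ
    unfold lam
    split_ifs
    · apply lenE_eq_zero
      rw [support_of_isZero hM]
      exact Set.notMem_empty ξ
    · rfl
  unfold Cfin
  rw [this]
  exact ⟨by simp, fun _ => ENat.zero_ne_top⟩

end Gen

section Main

open Groth.Agent.Lib.R2H1.DegCartier Groth.Agent.Lib.R2H1.EulerAdd

variable (k : Type u) [Field k] {X : Scheme.{u}} [X.Over (Spec (CommRingCat.of k))]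
  [IsProper (X ↘ (Spec (CommRingCat.of k)))]

variable (d r : ℕ) (L : Fin r → X.Modules)

/-- the main term -/
def MT (F : X.Modules) (n : Fin r → ℕ) : ℚ :=
  ∑ᶠ ξ : X, ((lam d F ξ).toNat : ℚ) * fE k X r L (ClSub.quotMod (zI ξ)) n

theorem MT_congr {M N : X.Modules} (e : M ≅ N) (n : Fin r → ℕ) :
    MT k d r L M n = MT k d r L N n := by
  unfold MT
  refine finsum_congr fun ξ => ?_
  rw [lam_congr d e ξ]

theorem MT_add (S : ShortComplex X.Modules) (hS : S.ShortExact) (h₁ : Cfin d S.X₁)
    (h₃ : Cfin d S.X₃) (n : Fin r → ℕ) :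
    MT k d r L S.X₂ n = MT k d r L S.X₁ n + MT k d r L S.X₃ n := by
  unfold MT
  have hf : ∀ (F : X.Modules), Cfin d F → Function.HasFiniteSupport
      (fun ξ : X => ((lam d F ξ).toNat : ℚ) * fE k X r L (ClSub.quotMod (zI ξ)) n) := by
    intro F hF
    refine hF.1.subset fun ξ hξ => ?_
    rw [Function.mem_support] at hξ ⊢
    intro h0
    apply hξ
    rw [h0]
    simp
  rw [← finsum_add_distrib (hf _ h₁) (hf _ h₃)]
  refine finsum_congr fun ξ => ?_
  rw [lam_add d S hS ξ, ENat.toNat_add (h₁.2 ξ) (h₃.2 ξ)]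
  push_cast
  ring

theorem MT_of_isZero (M : X.Modules) (hM : IsZero M) (n : Fin r → ℕ) : MT k d r L M n = 0 := by
  unfold MT
  refine finsum_eq_zero_of_forall_eq_zero fun ξ => ?_
  have : lam d M ξ = 0 := by
    unfold lam
    split_ifs
    · apply lenE_eq_zero
      rw [support_of_isZero hM]
      exact Set.notMem_empty ξ
    · rfl
  rw [this]
  simp

/-- the property proved by dévissage -/
def PP (F : X.Modules) : Prop :=
  Cfin d F ∧ IsPolyLT d (fun n => fE k X r L F n - MT k d r L F n)

variable {r L}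

/-- the module `O_{Z_y}` satisfies the property -/
theorem PP_quotMod (hL : ∀ i, PicF.IsInvertible (L i)) (y : X)
    (hdim : topologicalKrullDim (closure ({y} : Set X)) ≤ ((d : ℕ) : WithBot ℕ∞)) :
    PP k d r L (ClSub.quotMod (zI y)) := by
  have := Groth.Agent.Lib.R2H1.CurveEuler.isNoetherian_of_proper k X
  set G := ClSub.quotMod (zI y) with hG
  have cG : Coh.IsCoh G := isCoh_quotMod k (zI y)
  have sG : CohB1.support G ⊆ closure ({y} : Set X) := support_quotMod_zI y
  -- points of dimension `d` in the support are equal to `y`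
  have hpt : ∀ ξ : X, lam d G ξ ≠ 0 →
      topologicalKrullDim (closure ({y} : Set X)) = ((d : ℕ) : WithBot ℕ∞) ∧ ξ = y := by
    intro ξ hξ
    unfold lam at hξ
    split_ifs at hξ with hdξ
    swap
    · exact absurd rfl hξ
    have hmem : ξ ∈ CohB1.support G := by
      by_contra hcon
      exact hξ (lenE_eq_zero G ξ hcon)
    have hsub : closure ({ξ} : Set X) ⊆ closure ({y} : Set X) :=
      isClosed_closure.closure_subset_iff.2 (Set.singleton_subset_iff.2 (sG hmem))
    have hle := Groth.Agent.Lib.Helper8.Conn.dim_mono hsub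
    rw [hdξ] at hle
    have heq : topologicalKrullDim (closure ({y} : Set X)) = ((d : ℕ) : WithBot ℕ∞) :=
      le_antisymm hdim hle
    refine ⟨heq, ?_⟩
    by_contra hne
    have hne' : closure ({ξ} : Set X) ≠ closure ({y} : Set X) := fun h =>
      hne ((inseparable_iff_closure_eq.2 h).eq)
    have hfin : topologicalKrullDim (closure ({y} : Set X)) < ⊤ := by
      rw [heq]
      change (((d : ℕ) : ℕ∞) : WithBot ℕ∞) < ((⊤ : ℕ∞) : WithBot ℕ∞)
      exact WithBot.coe_lt_coe.2 (ENat.natCast_lt_top d)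
    have hlt := Groth.Agent.Lib.Helper8.Conn.dim_lt_of_proper_closed
      (isIrreducible_singleton.closure) isClosed_closure hsub hne' hfin
    rw [hdξ, heq] at hlt
    exact lt_irrefl _ hlt
  by_cases hd : topologicalKrullDim (closure ({y} : Set X)) = ((d : ℕ) : WithBot ℕ∞)
  · -- the main term is the single term at `y`
    have hlamy : lam d G y = 1 := by
      unfold lam
      rw [if_pos hd]
      exact lenE_quotMod_zI y
    have hsupp : Function.support (lam d G) ⊆ {y} := fun ξ hξ => (hpt ξ hξ).2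
    refine ⟨⟨(Set.finite_singleton y).subset hsupp, fun ξ => ?_⟩, ?_⟩
    · by_cases hξ : lam d G ξ = 0
      · rw [hξ]; exact ENat.zero_ne_top
      · rw [(hpt ξ hξ).2, hlamy]; exact ENat.one_ne_top
    · refine (isPolyLT_zero d).congr fun n => ?_
      unfold MT
      rw [finsum_eq_single _ y, hlamy]
      · simp only [ENat.toNat_one, Nat.cast_one, one_mul]
        exact sub_self _
      · intro ξ hξ
        have : lam d G ξ = 0 := by
          by_contra h
          exact hξ (hpt ξ h).2
        rw [this]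
        simp
  · have hzero : ∀ ξ, lam d G ξ = 0 := fun ξ => by
      by_contra h
      exact hd (hpt ξ h).1
    have hlt : topologicalKrullDim (CohB1.support G) < ((d : ℕ) : WithBot ℕ∞) :=
      lt_of_le_of_lt (Groth.Agent.Lib.Helper8.Conn.dim_mono sG) (lt_of_le_of_ne hdim hd)
    refine ⟨⟨?_, fun ξ => by rw [hzero ξ]; exact ENat.zero_ne_top⟩, ?_⟩
    · have : lam d G = fun _ => 0 := funext hzero
      rw [this]
      simp
    · refine (main k r L hL d G cG hlt).congr fun n => ?_
      unfold MT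
      rw [finsum_eq_zero_of_forall_eq_zero fun ξ => by rw [hzero ξ]; simp]
      ring

/-- **refined Snapper** -/
theorem refined (hL : ∀ i, PicF.IsInvertible (L i)) (F : X.Modules) (hF : Coh.IsCoh F)
    (hdim : topologicalKrullDim (CohB1.support F) ≤ ((d : ℕ) : WithBot ℕ∞)) :
    PP k d r L F := by
  have := Groth.Agent.Lib.R2H1.CurveEuler.isNoetherian_of_proper k X
  have hcl : IsClosed (CohB1.support F) := Groth.Agent.S0020.result X F hF.2
  refine Groth.Agent.Lib.R2H2.DevC.devissage (fun F => PP k d r L F)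
    (fun M hM => ⟨cfin_of_isZero d M hM, (isPolyLT_zero d).congr fun n => by
      rw [fE_of_isZero k r L M hM n, MT_of_isZero k d r L M hM n]; ring⟩)
    (CohB1.support F) hcl (fun s => s = 1) ?_ ?_ ?_ F hF subset_rfl
  · intro S hS c₁ c₂ c₃ _
    have hfE := fE_add k r L hL S hS c₁ c₂ c₃
    have hC := cfin_iff d S hS
    refine ⟨fun p₁ p₂ => ?_, fun p₁ p₃ => ?_, fun p₂ p₃ => ?_⟩
    · have h3 := (hC.1 p₂.1).2
      refine ⟨h3, (IsPolyLT.sub p₂.2 p₁.2).congr fun n => ?_⟩
      rw [hfE n, MT_add k d r L S hS p₁.1 h3 n]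
      ring
    · refine ⟨hC.2 ⟨p₁.1, p₃.1⟩, (IsPolyLT.add p₁.2 p₃.2).congr fun n => ?_⟩
      rw [hfE n, MT_add k d r L S hS p₁.1 p₃.1 n]
      ring
    · have h1 := (hC.1 p₂.1).1
      refine ⟨h1, (IsPolyLT.sub p₂.2 p₃.2).congr fun n => ?_⟩
      rw [hfE n, MT_add k d r L S hS h1 p₃.1 n]
      ring
  · intro F s _ hs hp
    subst hs
    have e := Groth.Agent.Lib.R2H2.StalkPow.powOneIso F
    exact ⟨cfin_congr d e hp.1, hp.2.congr fun n => by
      rw [fE_congr k r L e n, MT_congr k d r L e n]⟩
  · intro Z hZ hirr hZF y hy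
    have hdimZ : topologicalKrullDim (closure ({y} : Set X)) ≤ ((d : ℕ) : WithBot ℕ∞) := by
      rw [hy]
      exact (Groth.Agent.Lib.Helper8.Conn.dim_mono hZF).trans hdim
    haveI := isIntegral_zS y
    refine ⟨ClSub.quotMod (zI y), isCoh_quotMod k (zI y), PP_quotMod k d hL y hdimZ,
      hy ▸ support_quotMod_zI y, ?_⟩
    intro N _ _ _ hk
    have hgp := zι_genericPoint y
    obtain ⟨eN⟩ := Groth.Agent.Lib.R2H2.DevI.nonempty_stalk_pushO_equiv' (zI y).subschemeι
    rw [hgp] at eN
    obtain ⟨r', ⟨e⟩⟩ := Groth.Agent.Lib.R2H2.ResField.exists_equiv_pow_one N _ hk eN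
    exact ⟨r', 1, rfl, ⟨LinearEquiv.funUnique (Fin 1) _ N ≪≫ₗ e⟩⟩

end Main

section Statements

open Groth.Agent.Lib.R2H1.DegCartier Groth.Agent.Lib.R2H1.EulerAdd

variable (k : Type u) [Field k] {X : Scheme.{u}} [X.Over (Spec (CommRingCat.of k))]
  [IsProper (X ↘ (Spec (CommRingCat.of k)))]

/-- pullback commutes with iterated twists of the structure sheaf -/
theorem nonempty_pullback_pows_iso {Y : Scheme.{u}} (f : Y ⟶ X) :
    ∀ (r : ℕ) (L : Fin r → X.Modules) (_ : ∀ i, PicF.IsInvertible (L i)) (n : Fin r → ℕ),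
      Nonempty ((Scheme.Modules.pullback f).obj (Curv2.tensorPows (Coh.structureModule X) r L n) ≅
        Curv2.tensorPows (Coh.structureModule Y) r (fun i => (Scheme.Modules.pullback f).obj (L i)) n)
  | 0, _, _, _ => ⟨Groth.Agent.Lib.Helper23.PB.pullbackUnitIso f⟩
  | r + 1, L, hL, n => by
    obtain ⟨e⟩ := nonempty_pullback_pows_iso f r (fun i => L i.castSucc) (fun _ => hL _)
      (fun i => n i.castSucc)
    obtain ⟨τ⟩ := Groth.Agent.Lib.Helper23.PB.nonempty_pullback_tensorPow_iso f (L (Fin.last r))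
      (hL _) (n (Fin.last r))
    exact ⟨Groth.Agent.Lib.Helper23.RestrTensor.pullbackTensorIso _ _ f ≪≫ tIso e τ⟩

/-- projection formula for the twisted Euler characteristics of `O_X / I` -/
theorem fE_quotMod_eq (D : X.IdealSheafData) (r : ℕ) (L : Fin r → X.Modules)
    (hL : ∀ i, PicF.IsInvertible (L i)) (n : Fin r → ℕ) :
    Curv2.euler k X (Curv2.tensorPows (ClSub.quotMod D) r L n) =
      @Curv2.euler k _ D.subscheme ⟨D.subschemeι ≫ (X ↘ (Spec (CommRingCat.of k)))⟩
        (Curv2.tensorPows (Coh.structureModule D.subscheme) r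
          (fun i => (Scheme.Modules.pullback D.subschemeι).obj (L i)) n) := by
  letI : D.subscheme.Over (Spec (CommRingCat.of k)) :=
    ⟨D.subschemeι ≫ (X ↘ Spec (CommRingCat.of k))⟩
  haveI : IsProper (D.subscheme ↘ Spec (CommRingCat.of k)) :=
    inferInstanceAs (IsProper (D.subschemeι ≫ (X ↘ Spec (CommRingCat.of k))))
  set E := Curv2.tensorPows (Coh.structureModule X) r L n with hE
  have hEi : PicF.IsInvertible E :=
    isInvertible_pows _ (Groth.Agent.Lib.Helper23.TensorUnit.isInvertible_structureModule X)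
      r L hL n
  have h1 := Groth.Agent.Lib.Helper23.SecTw.isFinLocFreeOfRank_one_of_isInvertible _ hEi
  have hO := Groth.Agent.Lib.R2H1.GenusLe.isCoh_structureModule D.subscheme
  have e1 := euler_congr k (powsIsoTensor (ClSub.quotMod D) r L n)
  have e2 := Groth.Agent.Lib.R2H1.DegTensor.euler_tensor_push k D.subschemeι rfl E h1
    (Coh.structureModule D.subscheme) hO
  have e3 : Curv2.euler k D.subscheme (CohB1.tensorMod
      ((Scheme.Modules.pullback D.subschemeι).obj E) (Coh.structureModule D.subscheme)) =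
      Curv2.euler k D.subscheme ((Scheme.Modules.pullback D.subschemeι).obj E) :=
    euler_congr k (rUnit _)
  obtain ⟨τ⟩ := nonempty_pullback_pows_iso D.subschemeι r L hL n
  have e4 := euler_congr k τ
  rw [e1]
  exact e2.trans (e3.trans e4)

/-- the degree of the monomial `x_1 ⋯ x_d` -/
theorem ones_sum (d : ℕ) :
    ((Finsupp.equivFunOnFinite.symm fun _ : Fin d => 1 : Fin d →₀ ℕ).sum fun _ e => e) = d := by
  rw [Finsupp.sum_fintype _ _ (fun _ => rfl)]
  simp

theorem coeff_ones_eq_zero_of_degLT (d : ℕ) (R : MvPolynomial (Fin d) ℚ) (hR : DegLT d R) :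
    MvPolynomial.coeff (Finsupp.equivFunOnFinite.symm fun _ : Fin d => 1) R = 0 := by
  by_contra h
  have hmem := MvPolynomial.mem_support_iff.2 h
  have := hR _ hmem
  rw [ones_sum] at this
  exact lt_irrefl _ this

theorem s7686 (D : X.IdealSheafData) (d : ℕ) (hD : topologicalKrullDim (D.support : Set X) = d)
    (L : Fin d → X.Modules) (hL : ∀ i, PicF.IsInvertible (L i)) (P : MvPolynomial (Fin d) ℚ)
    (hP : ∀ n : Fin d → ℕ, (Curv2.euler k X (Curv2.tensorPows (ClSub.quotMod D) d L n) : ℚ) =
      MvPolynomial.eval (fun i => (n i : ℚ)) P)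
    (Q : X → MvPolynomial (Fin d) ℚ)
    (hQ : ∀ ξ : X, topologicalKrullDim (closure ({ξ} : Set X)) = (d : WithBot ℕ∞) →
      ∀ n : Fin d → ℕ, (Curv2.euler k X (Curv2.tensorPows (ClSub.quotMod
        (Scheme.IdealSheafData.vanishingIdeal
          (⟨closure ({ξ} : Set X), isClosed_closure⟩ : TopologicalSpace.Closeds X))) d L n) : ℚ) =
        MvPolynomial.eval (fun i => (n i : ℚ)) (Q ξ)) :
    MvPolynomial.coeff (Finsupp.equivFunOnFinite.symm fun _ : Fin d => 1) P =
      ∑ᶠ ξ : X, (if topologicalKrullDim (closure ({ξ} : Set X)) = (d : WithBot ℕ∞) then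
        ((Module.length (X.presheaf.stalk ξ) ((ClSub.quotMod D).presheaf.stalk ξ)).toNat : ℚ) *
          MvPolynomial.coeff (Finsupp.equivFunOnFinite.symm fun _ : Fin d => 1) (Q ξ) else 0) := by
  classical
  set F := ClSub.quotMod D with hF
  have hsupp : topologicalKrullDim (CohB1.support F) ≤ ((d : ℕ) : WithBot ℕ∞) :=
    (Groth.Agent.Lib.Helper8.Conn.dim_mono (support_quotMod_subset D)).trans hD.le
  obtain ⟨⟨hfin, htop⟩, R, hR, hRf⟩ := refined k d hL F (isCoh_quotMod k D) hsupp
  set T := hfin.toFinset with hT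
  have hlamQ : ∀ ξ ∈ T, ∀ n : Fin d → ℕ,
      fE k X d L (ClSub.quotMod (zI ξ)) n = ev n (Q ξ) := by
    intro ξ hξ n
    have hne : lam d F ξ ≠ 0 := by
      have := (Set.Finite.mem_toFinset hfin).1 hξ
      exact this
    have hdim : topologicalKrullDim (closure ({ξ} : Set X)) = ((d : ℕ) : WithBot ℕ∞) := by
      by_contra hcon
      apply hne
      unfold lam
      rw [if_neg hcon]
    exact hQ ξ hdim n
  have hMT : ∀ n : Fin d → ℕ, MT k d d L F n =
      ∑ ξ ∈ T, ((lam d F ξ).toNat : ℚ) * ev n (Q ξ) := by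
    intro n
    unfold MT
    rw [finsum_eq_sum_of_support_subset (s := T)]
    · exact Finset.sum_congr rfl fun ξ hξ => by rw [hlamQ ξ hξ n]
    · intro ξ hξ
      rw [Function.mem_support] at hξ
      rw [Finset.mem_coe, hT, Set.Finite.mem_toFinset, Function.mem_support]
      intro h0
      apply hξ
      rw [h0]
      simp
  have hPeq : P = ∑ ξ ∈ T, MvPolynomial.C ((lam d F ξ).toNat : ℚ) * Q ξ + R := by
    refine eq_of_ev_eq _ _ fun n => ?_
    have h1 : ev n P = fE k X d L F n := (hP n).symm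
    have h2 := hRf n
    simp only at h2
    rw [h1]
    unfold ev at h2 ⊢
    rw [map_add, map_sum]
    simp only [map_mul, MvPolynomial.eval_C]
    have h3 := hMT n
    unfold ev at h3
    rw [← h3, ← h2]
    ring
  rw [hPeq, MvPolynomial.coeff_add, coeff_ones_eq_zero_of_degLT d R hR, add_zero,
    MvPolynomial.coeff_sum]
  simp only [MvPolynomial.coeff_C_mul]
  rw [finsum_eq_sum_of_support_subset (s := T)]
  · refine Finset.sum_congr rfl fun ξ hξ => ?_
    have hne : lam d F ξ ≠ 0 := (Set.Finite.mem_toFinset hfin).1 hξ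
    have hdim : topologicalKrullDim (closure ({ξ} : Set X)) = ((d : ℕ) : WithBot ℕ∞) := by
      by_contra hcon
      apply hne
      unfold lam
      rw [if_neg hcon]
    rw [if_pos hdim]
    unfold lam lenE
    rw [if_pos hdim]
  · intro ξ hξ
    rw [Function.mem_support] at hξ
    rw [Finset.mem_coe, hT, Set.Finite.mem_toFinset, Function.mem_support]
    intro h0
    apply hξ
    unfold lam at h0
    split_ifs at h0 with hdim
    · rw [if_pos hdim]
      unfold lenE at h0
      rw [h0]
      simp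
    · rw [if_neg hdim]

theorem s7650 (F : X.Modules) (hF : Coh.IsCoh F) (d : ℕ)
    (hd : topologicalKrullDim (CohB1.support F) = d)
    (r : ℕ) (L : Fin r → X.Modules) (hL : ∀ i, PicF.IsInvertible (L i)) :
    ∃ P : MvPolynomial (Fin r) ℚ, (∀ m ∈ P.support, (m.sum fun _ e => e) < d) ∧
      ∀ n : Fin r → ℕ,
        (Curv2.euler k X (Curv2.tensorPows F r L n) : ℚ) -
          ∑ᶠ ξ : X, (if topologicalKrullDim (closure ({ξ} : Set X)) = (d : WithBot ℕ∞) then
            ((Module.length (X.presheaf.stalk ξ) (F.presheaf.stalk ξ)).toNat : ℚ) *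
              (@Curv2.euler k _
                (Scheme.IdealSheafData.vanishingIdeal (⟨closure ({ξ} : Set X), isClosed_closure⟩ : TopologicalSpace.Closeds X)).subscheme
                ⟨(Scheme.IdealSheafData.vanishingIdeal (⟨closure ({ξ} : Set X), isClosed_closure⟩ : TopologicalSpace.Closeds X)).subschemeι ≫ (X ↘ (Spec (CommRingCat.of k)))⟩
                (Curv2.tensorPows
                  (Coh.structureModule (Scheme.IdealSheafData.vanishingIdeal (⟨closure ({ξ} : Set X), isClosed_closure⟩ : TopologicalSpace.Closeds X)).subscheme)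
                  r (fun i => (Scheme.Modules.pullback
                    (Scheme.IdealSheafData.vanishingIdeal (⟨closure ({ξ} : Set X), isClosed_closure⟩ : TopologicalSpace.Closeds X)).subschemeι).obj (L i)) n) : ℚ)
            else 0)
          = MvPolynomial.eval (fun i => (n i : ℚ)) P := by
  obtain ⟨-, R, hR, hRf⟩ := refined k d hL F hF hd.le
  refine ⟨R, hR, fun n => ?_⟩
  have h2 := hRf n
  simp only at h2
  rw [← show ev n R = MvPolynomial.eval (fun i => (n i : ℚ)) R from rfl, ← h2]
  unfold MT fE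
  congr 1
  refine finsum_congr fun ξ => ?_
  rw [← fE_quotMod_eq k (zI ξ) r L hL n]
  unfold lam lenE
  split_ifs <;> simp

end Statements

end Groth.Agent.Lib.R2H4SnapperRef
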