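import Mathlib
import Groth.Prelude
import Groth.Agent.Lib.R2H4SnapperRef
import Groth.Agent.Lib.Helper6ValTop

/-!
# Intersection with an effective Cartier divisor (helper4, round 2)

* `dim_support_le` : an effective Cartier divisor on a Noetherian scheme of dimension `≤ e + 1`
  has support of dimension `≤ e`.
* `nonempty_powsHead` : `tensorPows F (r+1) L n ≅ tensorPows (F ⊗ L_0^{n_0}) r (L ∘ succ) (n ∘ succ)`.
* `alt_sum_split` : the alternating sum over subsets of `Fin (e+1)` split along `0 ∈ t`.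
* `s7648` : `(L_0 ⋯ L_e · X) = (L_1 ⋯ L_e · D)` for `L_0 ≅ O_X(D)`.
-/

set_option autoImplicit false
universe u
open CategoryTheory CategoryTheory.Limits AlgebraicGeometry TopologicalSpace

noncomputable section

namespace Groth.Agent.Lib.R2H4SnapperCartier

open Groth.Agent.Lib.R2H4NumPoly Groth.Agent.Lib.R2H4TensorPows Groth.Agent.Lib.R2H4Snapper
  Groth.Agent.Lib.R2H4SnapperCor Groth.Agent.Lib.R2H4SnapperRef

section Dim

variable {X : Scheme.{u}}

/-- every point is a specialization of a point in the complement of an effective Cartier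
divisor -/
theorem exists_specializes_notMem_support (D : X.IdealSheafData)
    (hD : BlowUp.IsEffCartierIdeal D) (s : X) : ∃ ξ : X, ξ ∉ D.support ∧ ξ ⤳ s := by
  obtain ⟨V, hsV, t, ht, hIt⟩ := hD s
  set p := V.2.primeIdealOf ⟨s, hsV⟩ with hp
  obtain ⟨q, hq, hqp⟩ := Ideal.exists_minimalPrimes_le (I := (⊥ : Ideal Γ(X, V.1)))
    (J := p.asIdeal) bot_le
  have : q.IsPrime := hq.1.1
  have htq : t ∉ q := by
    intro h
    exact (Ideal.disjoint_nonZeroDivisors_of_mem_minimalPrimes hq).le_bot ⟨h, ht⟩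
  have h1 : V.2.fromSpec ⟨q, inferInstance⟩ ∈ X.basicOpen t := by
    change (⟨q, inferInstance⟩ : PrimeSpectrum _) ∈ V.2.fromSpec ⁻¹ᵁ (X.basicOpen t)
    rw [V.2.fromSpec_preimage_basicOpen]
    exact htq
  refine ⟨V.2.fromSpec ⟨q, inferInstance⟩, ?_, ?_⟩
  · intro hys
    have hyV : V.2.fromSpec ⟨q, inferInstance⟩ ∈ V.1 := X.basicOpen_le t h1
    rw [Scheme.IdealSheafData.mem_support_iff_of_mem (U := V) hyV, hIt,
      Scheme.mem_zeroLocus_iff] at hys
    exact hys t (Ideal.subset_span (Set.mem_singleton t)) h1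
  · have h1 : (⟨q, inferInstance⟩ : PrimeSpectrum Γ(X, V.1)) ⤳ p :=
      (PrimeSpectrum.le_iff_specializes _ _).mp hqp
    have h2 := h1.map V.2.fromSpec.continuous
    rw [hp, V.2.fromSpec_primeIdealOf] at h2
    exact h2

theorem le_of_add_one_le (b : WithBot ℕ∞) (d : ℕ)
    (h : b + 1 ≤ ((d + 1 : ℕ) : WithBot ℕ∞)) : b ≤ ((d : ℕ) : WithBot ℕ∞) := by
  induction b using WithBot.recBotCoe with
  | bot => exact bot_le
  | coe b =>
    induction b using ENat.recTopCoe with
    | top =>
      exfalso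
      have h' : ((⊤ : ℕ∞) : WithBot ℕ∞) + ((1 : ℕ∞) : WithBot ℕ∞) ≤
          (((d + 1 : ℕ) : ℕ∞) : WithBot ℕ∞) := h
      rw [← WithBot.coe_add, WithBot.coe_le_coe, top_add] at h'
      exact absurd h' (not_le.2 (ENat.natCast_lt_top _))
    | coe m =>
      have h' : (((m : ℕ) : ℕ∞) : WithBot ℕ∞) + ((1 : ℕ∞) : WithBot ℕ∞) ≤
          (((d + 1 : ℕ) : ℕ∞) : WithBot ℕ∞) := h
      rw [← WithBot.coe_add, WithBot.coe_le_coe] at h'
      have h'' : ((m + 1 : ℕ) : ℕ∞) ≤ ((d + 1 : ℕ) : ℕ∞) := by
        push_cast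
        exact h'
      rw [Nat.cast_le] at h''
      have : (((m : ℕ) : ℕ∞) : WithBot ℕ∞) ≤ (((d : ℕ) : ℕ∞) : WithBot ℕ∞) := by
        rw [WithBot.coe_le_coe, Nat.cast_le]
        omega
      exact this

/-- the support of an effective Cartier divisor has dimension at most `dim X - 1` -/
theorem dim_support_le [IsNoetherian X] (e : ℕ)
    (hX : topologicalKrullDim X ≤ ((e + 1 : ℕ) : WithBot ℕ∞))
    (D : X.IdealSheafData) (hD : BlowUp.IsEffCartierIdeal D) :
    topologicalKrullDim (D.support : Set X) ≤ ((e : ℕ) : WithBot ℕ∞) := by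
  obtain ⟨S, hSfin, hSirr, hS⟩ :=
    NoetherianSpace.exists_finite_set_closeds_irreducible
      (⟨(D.support : Set X), D.support.isClosed⟩ : Closeds X)
  have : Finite S := hSfin
  have hle : ∀ i : S, ((i : Closeds X) : Set X) ⊆ (D.support : Set X) := by
    intro i x hx
    have h1 : (i : Closeds X) ≤ sSup S := le_sSup i.2
    have h2 : x ∈ ((sSup S : Closeds X) : Set X) := h1 hx
    rw [← hS] at h2
    exact h2
  have hcov : (D.support : Set X) ⊆ ⋃ i : S, ((i : Closeds X) : Set X) := by
    intro x hx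
    have h2 : x ∈ ((sSup S : Closeds X) : Set X) := by
      rw [← hS]; exact hx
    rw [Closeds.coe_sSup, IsClosed.closure_eq] at h2
    · obtain ⟨t, ⟨c, hc, rfl⟩, hxt⟩ := h2
      exact Set.mem_iUnion.2 ⟨⟨c, hc⟩, hxt⟩
    · rw [Set.sUnion_image]
      exact hSfin.isClosed_biUnion fun c _ => c.isClosed
  refine (Groth.Agent.Lib.Helper6.ValTop.dim_le_iSup_of_finite_closed_cover _ _
    (fun i : S => (i : Closeds X).isClosed) hcov).trans (iSup_le fun i => ?_)
  rw [Set.inter_eq_left.2 (hle i)]
  set Z : Set X := ((i : Closeds X) : Set X) with hZ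
  have hZirr : IsIrreducible Z := hSirr i i.2
  have hZcl : IsClosed Z := (i : Closeds X).isClosed
  obtain ⟨η, hη⟩ := QuasiSober.sober hZirr hZcl
  have hηZ : η ∈ Z := hη.mem
  obtain ⟨ξ, hξD, hξη⟩ := exists_specializes_notMem_support D hD η
  have hsub : Z ⊆ closure ({ξ} : Set X) := by
    rw [← hη.def]
    exact hξη.closure_subset
  have hne : Z ≠ closure ({ξ} : Set X) := by
    intro h
    have : ξ ∈ Z := h ▸ subset_closure rfl
    exact hξD (hle i this)
  have h1 := Groth.Agent.Lib.Helper8.Conn.dim_add_one_le_of_proper_closed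
    (isIrreducible_singleton.closure) hZcl hsub hne ⟨η, hηZ⟩
  have h2 : topologicalKrullDim (closure ({ξ} : Set X)) ≤ topologicalKrullDim X :=
    (Topology.IsInducing.subtypeVal).topologicalKrullDim_le
  have h3 : topologicalKrullDim Z + 1 ≤ ((e + 1 : ℕ) : WithBot ℕ∞) := h1.trans (h2.trans hX)
  exact le_of_add_one_le _ _ h3

end Dim

section Head

variable {X : Scheme.{u}}

/-- the first factor can be absorbed into the base module -/
theorem nonempty_powsHead (F : X.Modules) :
    ∀ (r : ℕ) (L : Fin (r + 1) → X.Modules) (n : Fin (r + 1) → ℕ),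
      Nonempty (Curv2.tensorPows F (r + 1) L n ≅
        Curv2.tensorPows (CohB1.tensorMod F (CohB1.tensorPow (L 0) (n 0))) r
          (fun j => L j.succ) (fun j => n j.succ))
  | 0, L, n => ⟨Iso.refl _⟩
  | r + 1, L, n => by
    obtain ⟨e⟩ := nonempty_powsHead F r (fun j => L j.castSucc) (fun j => n j.castSucc)
    exact ⟨tIso e (Iso.refl _)⟩

end Head

section Comb

theorem sum_split (e : ℕ) (F : Finset (Fin (e + 1)) → ℚ) :
    ∑ t : Finset (Fin (e + 1)), F t =
      ∑ s : Finset (Fin e), (F (s.image Fin.succ) + F (insert 0 (s.image Fin.succ))) := by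
  classical
  have hu : (Finset.univ : Finset (Fin (e + 1))) =
      insert 0 ((Finset.univ : Finset (Fin e)).image Fin.succ) := by
    ext i
    simp only [Finset.mem_univ, Finset.mem_insert, Finset.mem_image, true_and, true_iff]
    induction i using Fin.cases with
    | zero => exact Or.inl rfl
    | succ j => exact Or.inr ⟨j, rfl⟩
  have h0 : (0 : Fin (e + 1)) ∉ (Finset.univ : Finset (Fin e)).image Fin.succ := by
    simp
  rw [← Finset.powerset_univ, hu, Finset.sum_powerset_insert h0, Finset.powerset_image,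
    Finset.sum_image, Finset.sum_image, Finset.powerset_univ, ← Finset.sum_add_distrib]
  · intro a _ b _ hab
    exact Finset.image_injective (Fin.succ_injective e) hab
  · intro a _ b _ hab
    exact Finset.image_injective (Fin.succ_injective e) hab

theorem ind_image_succ (e : ℕ) (s : Finset (Fin e)) :
    ind (s.image Fin.succ) = (Fin.cons 0 (ind s) : Fin (e + 1) → ℕ) := by
  funext i
  induction i using Fin.cases with
  | zero => simp [ind, Fin.succ_ne_zero]
  | succ j => simp [ind, Fin.succ_inj]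

theorem ind_insert_image_succ (e : ℕ) (s : Finset (Fin e)) :
    ind (insert 0 (s.image Fin.succ)) = (Fin.cons 1 (ind s) : Fin (e + 1) → ℕ) := by
  funext i
  induction i using Fin.cases with
  | zero => simp [ind]
  | succ j => simp [ind, Fin.succ_inj]

/-- splitting the alternating sum over the subsets of `Fin (e + 1)` according to `0 ∈ t` -/
theorem alt_sum_split (e : ℕ) (φ : (Fin (e + 1) → ℕ) → ℚ) :
    ∑ t : Finset (Fin (e + 1)), (-1 : ℚ) ^ (Fintype.card (Fin (e + 1)) - t.card) * φ (ind t) =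
      ∑ s : Finset (Fin e), (-1 : ℚ) ^ (Fintype.card (Fin e) - s.card) *
        (φ (Fin.cons 1 (ind s)) - φ (Fin.cons 0 (ind s))) := by
  classical
  rw [sum_split]
  refine Finset.sum_congr rfl fun s _ => ?_
  have hc : s.card ≤ e := by
    have := Finset.card_le_univ s
    simpa using this
  have h1 : (s.image Fin.succ).card = s.card :=
    Finset.card_image_of_injective s (Fin.succ_injective e)
  have h2 : (insert 0 (s.image Fin.succ)).card = s.card + 1 := by
    rw [Finset.card_insert_of_notMem (by simp [Fin.succ_ne_zero]), h1]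
  rw [h1, h2, ind_image_succ, ind_insert_image_succ, Fintype.card_fin, Fintype.card_fin]
  have h3 : e + 1 - s.card = (e - s.card) + 1 := by omega
  have h4 : e + 1 - (s.card + 1) = e - s.card := by omega
  rw [h3, h4, pow_succ]
  ring

end Comb

section Main

open Groth.Agent.Lib.R2H1.DegCartier

variable (k : Type u) [Field k] {X : Scheme.{u}} [X.Over (Spec (CommRingCat.of k))]
  [IsProper (X ↘ (Spec (CommRingCat.of k)))]

theorem s7648 (e : ℕ) (hX : topologicalKrullDim X = e + 1) (D : X.IdealSheafData)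
    (hD : FGA.IsEffCartier D)
    (L : Fin (e + 1) → X.Modules) (hL : ∀ j, PicF.IsInvertible (L j))
    (hLD : ClSub.IsInverseOf (L 0) (ClSub.idealMod D))
    (P : MvPolynomial (Fin (e + 1)) ℚ) (Q : MvPolynomial (Fin e) ℚ)
    (hP : ∀ n : Fin (e + 1) → ℕ, (Curv2.euler k X (Curv2.tensorPows (Coh.structureModule X)
      (e + 1) L n) : ℚ) = MvPolynomial.eval (fun i => (n i : ℚ)) P)
    (hQ : ∀ n : Fin e → ℕ, (Curv2.euler k X (Curv2.tensorPows (ClSub.quotMod D) e
      (fun j => L j.succ) n) : ℚ) = MvPolynomial.eval (fun i => (n i : ℚ)) Q) :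
    MvPolynomial.coeff (Finsupp.equivFunOnFinite.symm fun _ : Fin (e + 1) => 1) P =
      MvPolynomial.coeff (Finsupp.equivFunOnFinite.symm fun _ : Fin e => 1) Q := by
  classical
  have := Groth.Agent.Lib.R2H1.CurveEuler.isNoetherian_of_proper k X
  have hX' : topologicalKrullDim X ≤ ((e + 1 : ℕ) : WithBot ℕ∞) := by
    rw [hX]
    push_cast
    exact le_rfl
  have hdimD : topologicalKrullDim (D.support : Set X) ≤ ((e : ℕ) : WithBot ℕ∞) :=
    dim_support_le e hX' D hD
  have cO : Coh.IsCoh (Coh.structureModule X) :=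
    Groth.Agent.Lib.R2H1.GenusLe.isCoh_structureModule X
  have cQ : Coh.IsCoh (ClSub.quotMod D) := isCoh_quotMod k D
  have cI : Coh.IsCoh (ClSub.idealMod D) :=
    Groth.Agent.Lib.R2H2.PdSheaf.isCoh_kernel cO cQ (ClSub.toSubscheme D)
  have hsuppD : topologicalKrullDim (CohB1.support (ClSub.quotMod D)) ≤ ((e : ℕ) : WithBot ℕ∞) :=
    (Groth.Agent.Lib.Helper8.Conn.dim_mono (support_quotMod_subset D)).trans hdimD
  have hsuppO : topologicalKrullDim (CohB1.support (Coh.structureModule X)) ≤
      ((e + 1 : ℕ) : WithBot ℕ∞) :=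
    (Topology.IsInducing.subtypeVal.topologicalKrullDim_le).trans hX'
  -- the three functions
  set f := fE k X (e + 1) L (Coh.structureModule X) with hf
  set G := fE k X (e + 1) L (ClSub.quotMod D) with hG
  set g := fE k X e (fun j => L j.succ) (ClSub.quotMod D) with hg
  have hPf : ∀ n, ev n P = f n := fun n => (hP n).symm
  have hQg : ∀ n, ev n Q = g n := fun n => (hQ n).symm
  obtain ⟨R, hRdeg, hR⟩ := s1528 k (ClSub.quotMod D) cQ e hsuppD (e + 1) L hL
  have hRG : ∀ n, ev n R = G n := fun n => (hR n).symm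
  have hPdeg : P.totalDegree ≤ e + 1 :=
    totalDegree_le_of_eval k _ cO (e + 1) hsuppO (e + 1) L hL P hP
  have hQdeg : Q.totalDegree ≤ e :=
    totalDegree_le_of_eval k _ cQ e hsuppD e (fun j => L j.succ) (fun j => hL _) Q hQ
  -- the difference equation
  have hdiff : ∀ n : Fin (e + 1) → ℕ, f (n + Pi.single 0 1) = f n + G (n + Pi.single 0 1) := by
    intro n
    have h1 := fE_add k (e + 1) L hL (idealSeq D) (idealSeq_shortExact D) cI cO cQ
      (n + Pi.single 0 1)
    have h2 : fE k X (e + 1) L (ClSub.idealMod D) (n + Pi.single 0 1) = f n := by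
      rw [← fE_shift k (e + 1) L (ClSub.idealMod D) 0 n]
      obtain ⟨i⟩ := hLD
      exact fE_congr k (e + 1) L (tComm _ _ ≪≫ i) n
    change f (n + Pi.single 0 1) = fE k X (e + 1) L (ClSub.idealMod D) (n + Pi.single 0 1) +
      G (n + Pi.single 0 1) at h1
    rw [h1, h2]
  have hcons : ∀ m : Fin e → ℕ, (Fin.cons 1 m : Fin (e + 1) → ℕ) =
      (Fin.cons 0 m : Fin (e + 1) → ℕ) + Pi.single 0 1 := by
    intro m
    funext i
    induction i using Fin.cases with
    | zero => simp
    | succ j => simp [Fin.succ_ne_zero]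
  -- restriction to the first exponent zero
  have hG0 : ∀ m : Fin e → ℕ, G (Fin.cons 0 m) = g m := by
    intro m
    obtain ⟨i⟩ := nonempty_powsHead (ClSub.quotMod D) e L (Fin.cons 0 m)
    simp only [Fin.cons_zero, Fin.cons_succ] at i
    rw [hG, hg]
    unfold fE
    rw [euler_congr k i]
    exact congrArg _ (euler_congr k (powsIso (rUnit (ClSub.quotMod D)) e _ m))
  -- assemble
  have hRdeg' : R.totalDegree ≤ Fintype.card (Fin (e + 1)) := by
    rw [Fintype.card_fin]; omega
  have hR0 : MvPolynomial.coeff (Finsupp.equivFunOnFinite.symm fun _ : Fin (e + 1) => 1) R = 0 :=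
    coeff_ones_eq_zero_of_degLT (e + 1) R (degLT_of_totalDegree_lt (by omega))
  rw [coeff_ones_eq R hRdeg'] at hR0
  simp_rw [hRG] at hR0
  rw [alt_sum_split e G] at hR0
  rw [coeff_ones_eq P (by rw [Fintype.card_fin]; exact hPdeg),
    coeff_ones_eq Q (by rw [Fintype.card_fin]; exact hQdeg)]
  simp_rw [hPf, hQg]
  rw [alt_sum_split e f]
  have hkey : ∀ s : Finset (Fin e), f (Fin.cons 1 (ind s)) - f (Fin.cons 0 (ind s)) =
      G (Fin.cons 1 (ind s)) := by
    intro s
    rw [hcons, hdiff]
    ring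
  simp_rw [hkey]
  simp_rw [hG0, mul_sub, Finset.sum_sub_distrib] at hR0
  linarith

end Main

end Groth.Agent.Lib.R2H4SnapperCartier
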