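import Mathlib
import Groth.Prelude.Def_CohTop
import Groth.Prelude.Def_LocCohZ
import Groth.Agent.Lib.Helper16SectSupp
import Groth.Agent.Lib.R2H4SnapperCartier
import Groth.Agent.Lib.R2H4GVSky
import Groth.Agent.Lib.R2H4GVUnion
import Groth.Agent.Lib.R2H4GVGen

/-! Grothendieck vanishing on Noetherian sober spaces (helper4, round 2). -/
set_option autoImplicit false
set_option linter.style.haveILetI false
universe u
open CategoryTheory CategoryTheory.Limits TopologicalSpace Opposite Abelian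

namespace Groth.Agent.Lib.R2H4GV

open Groth.Agent.Lib.Helper16.ClosedEmb Groth.Agent.Lib.Helper16.SectSupp
  Groth.Agent.Lib.R2H4GVSky

variable {X : TopCat.{u}}

section LES

variable (S : ShortComplex (CohTop.Ab X)) (hS : S.ShortExact)

include hS in
theorem subsingleton_H_X₂ (p : ℕ) (h1 : Subsingleton (CohTop.H S.X₁ p))
    (h3 : Subsingleton (CohTop.H S.X₃ p)) : Subsingleton (CohTop.H S.X₂ p) := by
  refine subsingleton_of_forall_eq 0 fun x => ?_
  obtain ⟨x₁, hx₁⟩ := Ext.covariant_sequence_exact₂ _ hS x (Subsingleton.elim _ _)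
  rw [← hx₁, Subsingleton.elim x₁ 0, Ext.zero_comp]

include hS in
theorem subsingleton_H_X₁ (p : ℕ) (h3 : Subsingleton (CohTop.H S.X₃ p))
    (h2 : Subsingleton (CohTop.H S.X₂ (p + 1))) : Subsingleton (CohTop.H S.X₁ (p + 1)) := by
  refine subsingleton_of_forall_eq 0 fun x => ?_
  obtain ⟨x₃, hx₃⟩ := Ext.covariant_sequence_exact₁ _ hS x (Subsingleton.elim _ _) rfl
  rw [← hx₃, Subsingleton.elim x₃ 0, Ext.zero_comp]

end LES

section Vanish

variable {n : ℕ} (ξ : Fin n → X)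
  (h2 : ∀ c (V : Opens X), ξ c ∉ V → ∃ W : Opens X, ξ c ∈ W ∧ W ⊓ V = ⊥)

include h2 in
theorem exists_open_vanishing (K : CohTop.Ab X) (hz : ∀ c, IsZero ((stk (ξ c)).obj K))
    (V : Opens X) (s : K.obj.obj (op V)) :
    ∃ W : Opens X, (∀ c, ξ c ∈ W) ∧
      K.obj.map (homOfLE (inf_le_left : V ⊓ W ≤ V)).op s = 0 := by
  have key : ∀ c, ∃ Wc : Opens X, ξ c ∈ Wc ∧
      K.obj.map (homOfLE (inf_le_left : V ⊓ Wc ≤ V)).op s = 0 := by
    intro c
    by_cases hc : ξ c ∈ V
    · have hsub : Subsingleton (ToType ((stk (ξ c)).obj K)) :=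
        AddCommGrpCat.subsingleton_of_isZero (hz c)
      have hg : TopCat.Presheaf.germ K.obj V (ξ c) hc s =
          TopCat.Presheaf.germ K.obj V (ξ c) hc 0 := @Subsingleton.elim _ hsub _ _
      obtain ⟨W', hW', iU, iV, hres⟩ := TopCat.Presheaf.germ_eq K.obj (ξ c) hc hc s 0 hg
      refine ⟨W', hW', ?_⟩
      have hle : V ⊓ W' ≤ W' := inf_le_right
      have h1 : K.obj.map (homOfLE (inf_le_left : V ⊓ W' ≤ V)).op s =
          K.obj.map (homOfLE hle).op (K.obj.map iU.op s) := (map_map_apply K _ _ _ _).symm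
      rw [h1, hres, map_zero, map_zero]
    · obtain ⟨Wc, hWc, hbot⟩ := h2 c V hc
      refine ⟨Wc, hWc, ?_⟩
      have hsub : Subsingleton (ToType (K.obj.obj (op (V ⊓ Wc)))) :=
        subsingleton_of_eq_bot K (by rw [inf_comm]; exact hbot)
      exact @Subsingleton.elim _ hsub _ _
  choose Wc hWc hres using key
  refine ⟨⨆ c, Wc c, fun c => Opens.mem_iSup.2 ⟨c, hWc c⟩, ?_⟩
  have hcov : V ⊓ ⨆ c, Wc c ≤ ⨆ c, V ⊓ Wc c := by rw [inf_iSup_eq]
  refine TopCat.Sheaf.eq_of_locally_eq' K (fun c => V ⊓ Wc c) (V ⊓ ⨆ c, Wc c)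
    (fun c => homOfLE (inf_le_inf_left V (le_iSup Wc c))) hcov _ _ fun c => ?_
  rw [map_zero]
  refine Eq.trans ?_ (hres c)
  exact map_map_apply K _ _ _ _

end Vanish


section Support

/-- the statement of Grothendieck vanishing at level `m`: all Noetherian sober spaces of dimension
`< m` have no cohomology in degrees `≥ m`. -/
def GVStatement (m : ℕ) : Prop :=
  ∀ (Z : TopCat.{u}) [NoetherianSpace Z] [QuasiSober Z],
    topologicalKrullDim Z + 1 ≤ ((m : ℕ) : WithBot ℕ∞) →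
    ∀ (G : CohTop.Ab Z) (q : ℕ), m ≤ q → Subsingleton (CohTop.H G q)

variable [NoetherianSpace X] [QuasiSober X] {n : ℕ} (ξ : Fin n → X)
  (h2 : ∀ c (V : Opens X), ξ c ∉ V → ∃ W : Opens X, ξ c ∈ W ∧ W ⊓ V = ⊥)
  (h3 : ∀ W : Opens X, (∀ c, ξ c ∈ W) →
    topologicalKrullDim ((W : Set X)ᶜ : Set X) + 1 ≤ topologicalKrullDim X)

include h3 in
theorem subsingleton_H_sectSupp (m : ℕ) (IH : GVStatement.{u} m)
    (hdim : topologicalKrullDim X + 1 ≤ ((m + 1 : ℕ) : WithBot ℕ∞))
    (K : CohTop.Ab X) (U : Opens X) (hU : ∀ c, ξ c ∈ U) (q : ℕ) (hq : m ≤ q) :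
    Subsingleton (CohTop.H ((LocCohZ.sectSuppF U).obj K) q) := by
  have hSZ : SZ U (CohCx.sectSupp U K) := sz_sectSupp U K
  have : QuasiSober (TopCat.of ((U : Set X)ᶜ : Set X)) :=
    (hiZ U).quasiSober
  have : NoetherianSpace (TopCat.of ((U : Set X)ᶜ : Set X)) :=
    (inferInstance : NoetherianSpace ((U : Set X)ᶜ : Set X))
  have hdimZ : topologicalKrullDim (TopCat.of ((U : Set X)ᶜ : Set X)) + 1 ≤
      ((m : ℕ) : WithBot ℕ∞) := by
    apply Groth.Agent.Lib.R2H4SnapperCartier.le_of_add_one_le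
    exact (add_le_add_left (h3 U hU) 1).trans hdim
  have hZ : Subsingleton (CohTop.H (toZ U (CohCx.sectSupp U K) hSZ) q) :=
    IH (TopCat.of ((U : Set X)ᶜ : Set X)) hdimZ _ q hq
  obtain ⟨e⟩ := nonempty_H_push (iZ U) (hiZ U) (toZ U (CohCx.sectSupp U K) hSZ) q
  have hpush : Subsingleton (CohTop.H ((CohTop.push (iZ U)).obj (toZ U (CohCx.sectSupp U K) hSZ)) q) :=
    @Equiv.subsingleton _ _ e.symm.toEquiv hZ
  let e' := (Sheaf.functorH.{u, u, u, u} (Opens.grothendieckTopology X) q).mapIso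
    (asIso (θ U (CohCx.sectSupp U K) hSZ))
  exact @Equiv.subsingleton _ _ (e'.symm.addCommGroupIsoToAddEquiv.toEquiv) hpush

include h2 h3 in
theorem subsingleton_H_of_stalks_zero (m : ℕ) (IH : GVStatement.{u} m)
    (hdim : topologicalKrullDim X + 1 ≤ ((m + 1 : ℕ) : WithBot ℕ∞))
    (K : CohTop.Ab X) (hz : ∀ c, IsZero ((stk (ξ c)).obj K)) (q : ℕ) (hq : m ≤ q) :
    Subsingleton (CohTop.H K q) := by
  let Λ := OrderDual {W : Opens X // ∀ c, ξ c ∈ W}
  have : Nonempty Λ := ⟨OrderDual.toDual ⟨⊤, fun _ => trivial⟩⟩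
  have : IsDirected Λ (· ≤ ·) := ⟨fun a b =>
    ⟨OrderDual.toDual ⟨(OrderDual.ofDual a).1 ⊓ (OrderDual.ofDual b).1,
      fun c => ⟨(OrderDual.ofDual a).2 c, (OrderDual.ofDual b).2 c⟩⟩,
      (inf_le_left : (OrderDual.ofDual a).1 ⊓ (OrderDual.ofDual b).1 ≤ (OrderDual.ofDual a).1),
      (inf_le_right : (OrderDual.ofDual a).1 ⊓ (OrderDual.ofDual b).1 ≤ (OrderDual.ofDual b).1)⟩⟩
  let Wf : Λ → Opens X := fun l => (OrderDual.ofDual l).1
  have hWf : Antitone Wf := fun a b hab => hab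
  refine Groth.Agent.Lib.R2H4GVUnion.subsingleton_H K Wf hWf ?_ q ?_
  · intro V s
    obtain ⟨W, hW, hs⟩ := exists_open_vanishing ξ h2 K hz V s
    exact ⟨OrderDual.toDual ⟨W, hW⟩, hs⟩
  · intro l
    exact subsingleton_H_sectSupp ξ h3 m IH hdim K (Wf l) (OrderDual.ofDual l).2 q hq

end Support


section Main

theorem isEmpty_of_dim (Z : Type u) [TopologicalSpace Z]
    (h : topologicalKrullDim Z + 1 ≤ ((0 : ℕ) : WithBot ℕ∞)) : IsEmpty Z := by
  have hbot : topologicalKrullDim Z = ⊥ := by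
    by_contra hne
    obtain ⟨b, hb⟩ := WithBot.ne_bot_iff_exists.1 hne
    rw [← hb] at h
    have h' : ((b + 1 : ℕ∞) : WithBot ℕ∞) ≤ ((0 : ℕ∞) : WithBot ℕ∞) := by
      simpa using h
    rw [WithBot.coe_le_coe] at h'
    simp at h'
  unfold topologicalKrullDim at hbot
  rw [Order.krullDim_eq_bot_iff] at hbot
  exact ⟨fun z => hbot.elim ⟨closure {z}, isIrreducible_singleton.closure, isClosed_closure⟩⟩

theorem gv_zero : GVStatement.{u} 0 := by
  intro Z _ _ hdim G q _
  haveI := isEmpty_of_dim Z hdim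
  have hz : IsZero G :=
    (TopCat.Sheaf.isZero_iff_stalkFunctor_obj_isZero (C := AddCommGrpCat.{u}) G).2
      fun x => isEmptyElim x
  exact Sheaf.subsingleton_H_of_isZero hz q

theorem gv_succ (m : ℕ) (IH : GVStatement.{u} m) : GVStatement.{u} (m + 1) := by
  intro Z _ _ hdim F p hp
  obtain ⟨n, ξ, h1, h2, h3⟩ := Groth.Agent.Lib.R2H4GVGen.exists_generic_family Z
  obtain ⟨p', rfl⟩ : ∃ p', p = p' + 1 := ⟨p - 1, by omega⟩
  have hp' : m ≤ p' := by omega
  let u : F ⟶ tgt ξ F := emb ξ F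
  -- the two short exact sequences
  let S2 : ShortComplex (CohTop.Ab Z) :=
    ShortComplex.mk (Abelian.image.ι u) (cokernel.π u) (kernel.condition _)
  have hS2 : S2.ShortExact :=
    { exact := ShortComplex.exact_kernel (cokernel.π u)
      mono_f := by dsimp [S2]; infer_instance
      epi_g := by dsimp [S2]; infer_instance }
  have hzero : kernel.ι u ≫ Abelian.factorThruImage u = 0 := by
    rw [← cancel_mono (Abelian.image.ι u), Category.assoc, Abelian.image.fac, kernel.condition,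
      zero_comp]
  let S1 : ShortComplex (CohTop.Ab Z) :=
    ShortComplex.mk (kernel.ι u) (Abelian.factorThruImage u) hzero
  have hS1 : S1.ShortExact :=
    { exact := ShortComplex.exact_of_f_is_kernel _
        (isKernelOfComp (Abelian.image.ι u) u (kernelIsKernel u) hzero (Abelian.image.fac u))
      mono_f := by dsimp [S1]; infer_instance
      epi_g := by dsimp [S1]; infer_instance }
  have hK : Subsingleton (CohTop.H (kernel u) (p' + 1)) :=
    subsingleton_H_of_stalks_zero ξ h2 h3 m IH hdim (kernel u)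
      (fun c => isZero_stk_kernel ξ h1 F c) (p' + 1) (by omega)
  have hQ : Subsingleton (CohTop.H (cokernel u) p') :=
    subsingleton_H_of_stalks_zero ξ h2 h3 m IH hdim (cokernel u)
      (fun c => isZero_stk_cokernel ξ h1 F c) p' hp'
  have hG : Subsingleton (CohTop.H (tgt ξ F) (p' + 1)) := subsingleton_H_tgt ξ F p'
  have hI : Subsingleton (CohTop.H (Abelian.image u) (p' + 1)) :=
    subsingleton_H_X₁ S2 hS2 p' hQ hG
  exact subsingleton_H_X₂ S1 hS1 (p' + 1) hK hI

theorem gv : ∀ m : ℕ, GVStatement.{u} m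
  | 0 => gv_zero
  | m + 1 => gv_succ m (gv m)

/-- **Grothendieck vanishing** on Noetherian sober spaces. -/
theorem grothendieck_vanishing (Z : TopCat.{u}) [NoetherianSpace Z] [QuasiSober Z] (d : ℕ)
    (hd : topologicalKrullDim Z ≤ d) (F : CohTop.Ab Z) (p : ℕ) (hp : d < p) :
    Subsingleton (CohTop.H F p) := by
  refine gv (d + 1) Z ?_ F p hp
  have := add_le_add_left hd 1
  simpa using this

end Main

end Groth.Agent.Lib.R2H4GV
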