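import Mathlib
import Groth.Prelude.Def_Coh
import Groth.Prelude.Def_FGA
import Groth.Agent.Lib.R2H4GV
import Groth.Agent.Lib.R2H1CurveEuler

/-! Grothendieck vanishing for modules on Noetherian schemes; truncated Euler characteristics
(helper4, round 2). -/
set_option autoImplicit false
set_option linter.style.haveILetI false
universe u
open CategoryTheory CategoryTheory.Limits TopologicalSpace AlgebraicGeometry

namespace Groth.Agent.Lib.R2H4GVSch

/-- **Grothendieck vanishing** for `O_X`-modules on a Noetherian scheme. -/
theorem subsingleton_HH (X : Scheme.{u}) [NoetherianSpace X] (d : ℕ)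
    (hd : topologicalKrullDim X ≤ d) (M : X.Modules) (p : ℕ) (hp : d < p) :
    Subsingleton (Coh.HH X M p) := by
  have h1 : NoetherianSpace X.toTopCat := ‹NoetherianSpace X›
  have h2 : QuasiSober X.toTopCat := (inferInstance : QuasiSober X)
  exact Groth.Agent.Lib.R2H4GV.grothendieck_vanishing X.toTopCat d hd (Coh.toAb M) p hp

variable (k : Type u) [Field k] (X : Scheme.{u}) [X.Over (Spec (CommRingCat.of k))]
  [IsProper (X ↘ Spec (CommRingCat.of k))]

/-- the truncated Euler characteristic is the Euler characteristic. -/
theorem eulerCharLE_eq_euler (d : ℕ) (hd : topologicalKrullDim X ≤ d) (F : X.Modules) :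
    FGA.eulerCharLE k X F d = Curv2.euler k X F := by
  have := Groth.Agent.Lib.R2H1.CurveEuler.isNoetherian_of_proper k X
  unfold FGA.eulerCharLE Curv2.euler
  symm
  apply finsum_eq_sum_of_support_subset
  intro i hi
  rw [Function.mem_support] at hi
  rw [Finset.coe_range, Set.mem_Iio]
  by_contra hlt
  apply hi
  have := subsingleton_HH X d hd F i (by omega)
  rw [Module.finrank_zero_of_subsingleton]
  simp

end Groth.Agent.Lib.R2H4GVSch
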