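import Mathlib
import Groth.Prelude.Def_DCoh3
import Groth.Agent.Lib.H6xRpushTriC
import Groth.Agent.Lib.H6xRDBridge
import Groth.Agent.Lib.R2H2ProperCoh
import Groth.Agent.Lib.R2H4GVSch
import Groth.Agent.Lib.R2H3RpushRestrict
import Groth.Agent.S14388
set_option backward.isDefEq.respectTransparency.types false

/-!
# The sharp cohomological bound for `Rf_*` on `D_QCoh` over an affine base (helper6)

For `f : X ⟶ S` quasi-compact quasi-separated with `S` affine and `X` a Noetherian space of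
dimension `≤ n`: `Rf_*` maps `D_QCoh^{≤ a}(X)` into `D^{≤ a + n}(S)` (unbounded complexes allowed).
-/

set_option autoImplicit false
set_option linter.style.haveILetI false
universe u
open CategoryTheory CategoryTheory.Limits AlgebraicGeometry TopologicalSpace Opposite
  CategoryTheory.Pretriangulated

attribute [local instance] HasDerivedCategory.standard

namespace Groth.Agent.Lib.H6xSd

open Groth.Agent.Lib.H6xRpushQc Groth.Agent.Lib.H6xRpushTri Groth.Agent.Lib.H6xQcTrunc
  DerivedCategory Groth.Agent.S14388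

variable {X S : Scheme.{u}} (f : X ⟶ S) [DCoh.HasRpush f]

/-- truncations `τ_{≥ c}` preserve `D_QCoh` -/
lemma isQCohD_truncGE (E : DCoh.D X) (hE : DCoh.IsQCohD E) (c : ℤ) :
    DCoh.IsQCohD ((tt.truncGE c).obj E) := by
  intro i
  by_cases hi : c ≤ i
  · haveI := isIso_homology_truncGEπ c i hi E
    exact isQCoh_of_iso (asIso ((homologyFunctor _ i).map ((tt.truncGEπ c).app E))) (hE i)
  · exact isQCoh_of_isZero _ (isZero_of_isGE ((tt.truncGE c).obj E) c i (by omega))

/-- truncations `τ_{< c}` preserve `D_QCoh` -/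
lemma isQCohD_truncLT (E : DCoh.D X) (hE : DCoh.IsQCohD E) (c : ℤ) :
    DCoh.IsQCohD ((tt.truncLT c).obj E) := by
  intro i
  by_cases hi : i < c
  · haveI := isIso_homology_truncLTι c i hi E
    exact isQCoh_of_iso (asIso ((homologyFunctor _ i).map ((tt.truncLTι c).app E))).symm (hE i)
  · exact isQCoh_of_isZero _ (isZero_of_isLE ((tt.truncLT c).obj E) (c - 1) i (by omega))

theorem isLE_Rpush_of_dim [QuasiCompact f] [QuasiSeparated f] [IsAffine S] [NoetherianSpace X]
    (n : ℕ) (hn : topologicalKrullDim X ≤ n) (E : DCoh.D X) (hE : DCoh.IsQCohD E) (a : ℤ)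
    [E.IsLE a] : ((DCoh.Rpush f).obj E).IsLE (a + n) := by
  haveI := Groth.Agent.Lib.R2H3.RpushRestrict.hasInjectiveResolutions_modules X
  have hmod : ∀ M : X.Modules, Coh.IsQCoh M → ∀ p : ℕ, n + 1 ≤ p →
      IsZero ((Coh.Rpush f p).obj M) := by
    intro M hM p hp
    haveI : M.IsQuasicoherent := hM
    exact Groth.Agent.Lib.R2H2.ProperCoh.isZero_Rpush_of_subsingleton_HH f M p
      (Groth.Agent.Lib.R2H4GVSch.subsingleton_HH X n hn M p (by omega))
  obtain ⟨N, hN⟩ := main_bd f
  obtain ⟨c, hc⟩ : ∃ c : ℤ, c = a - |N| := ⟨_, rfl⟩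
  have hT := tt.triangleLTGE_distinguished c E
  have hq₁ := isQCohD_truncLT E hE c
  have hq₂ := isQCohD_truncGE E hE c
  haveI : ((tt.truncLT c).obj E).IsLE (c - 1) :=
    inferInstanceAs (tt.IsLE ((tt.truncLT c).obj E) (c - 1))
  haveI h₁ := isLE_Rpush_of_bd f hN ((tt.truncLT c).obj E) hq₁ (c - 1)
  haveI : ((tt.truncGE c).obj E).IsLE a :=
    inferInstanceAs (tt.IsLE ((tt.truncGE c).obj E) a)
  obtain ⟨T', hT', ⟨e₁⟩, ⟨e₂⟩, ⟨e₃⟩⟩ := exists_distTriang_Rpush f _ hT
  rw [isLE_iff]
  intro i hi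
  refine IsZero.of_iso ?_ ((homologyFunctor _ i).mapIso e₂.symm)
  refine (HomologySequence.exact₂ T' hT' i).isZero_X₂ ?_ ?_
  · refine (IsZero.of_iso ?_ ((homologyFunctor _ i).mapIso e₁)).eq_of_src _ _
    exact isZero_of_isLE ((DCoh.Rpush f).obj ((tt.truncLT c).obj E)) (N + (c - 1) - 1) i
      (by have := le_abs_self N; omega)
  · refine (IsZero.of_iso ?_ ((homologyFunctor _ i).mapIso e₃)).eq_of_tgt _ _
    exact Groth.Agent.Lib.H6xRDBridge.isZero_homology_RG_of_bounds
      (Scheme.Modules.pushforward f) (fun M => Coh.IsQCoh M) (n + 1) hmod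
      ((tt.truncGE c).obj E) hq₂ c a
      (fun j hj => by
        rcases hj with hj | hj
        · exact isZero_of_isGE ((tt.truncGE c).obj E) c j hj
        · exact isZero_of_isLE ((tt.truncGE c).obj E) a j hj) i (Or.inr (by push_cast; omega))

end Groth.Agent.Lib.H6xSd
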