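import Mathlib
import Groth.Prelude.Def_DDual2
import Groth.Agent.Lib.H6xSdD
set_option backward.isDefEq.respectTransparency.types false

/-!
# The dualizing complex `a(O_Y)` lives in degrees `≥ -n` (helper6)

If `Rf_*` maps `D_QCoh^{≤ a}(X)` to `D^{≤ a + n}(Y)` and `OY ∈ D^{≥ 0}`, then the value of the
right adjoint `a` of `Rf_*` on `OY` lies in `D^{≥ -n}`.
-/

set_option autoImplicit false
set_option linter.style.haveILetI false
universe u
open CategoryTheory CategoryTheory.Limits AlgebraicGeometry TopologicalSpace Opposite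
  CategoryTheory.Pretriangulated

attribute [local instance] HasDerivedCategory.standard

namespace Groth.Agent.Lib.H6xSd

open DerivedCategory Groth.Agent.S14388

variable {X Y : Scheme.{u}} (f : X ⟶ Y) [DCoh.HasRpush f] (h : DCoh.RpushPreservesQCoh f)
  [DCoh.HasShriek f h]

theorem isGE_dualizingCx (OY : DCoh.DQCoh Y) [OY.obj.IsGE 0] (n : ℤ)
    (hbd : ∀ (E : DCoh.D X), DCoh.IsQCohD E → ∀ a : ℤ, E.IsLE a →
      ((DCoh.Rpush f).obj E).IsLE (a + n)) :
    (DCoh.dualizingCx f h OY).IsGE (-n) := by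
  set K := (DCoh.shriek f h).obj OY with hK
  let L : DCoh.DQCoh X := ⟨(tt.truncLT (-n)).obj K.obj, isQCohD_truncLT K.obj K.property (-n)⟩
  let ι : L ⟶ K := ObjectProperty.homMk ((tt.truncLTι (-n)).app K.obj)
  haveI : L.obj.IsLE (-n - 1) := inferInstanceAs (tt.IsLE ((tt.truncLT (-n)).obj K.obj) (-n - 1))
  haveI h1 : ((DCoh.Rpush f).obj L.obj).IsLE (-n - 1 + n) := hbd L.obj L.property (-n - 1) inferInstance
  haveI : Subsingleton ((DCoh.RpushQ f h).obj L ⟶ OY) := by
    refine ⟨fun a b => ?_⟩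
    apply ObjectProperty.hom_ext
    have ha : a.hom = 0 := tt.zero_of_isLE_of_isGE a.hom (-n - 1 + n) 0 (by omega) h1 inferInstance
    have hb : b.hom = 0 := tt.zero_of_isLE_of_isGE b.hom (-n - 1 + n) 0 (by omega) h1 inferInstance
    rw [ha, hb]
  haveI : Subsingleton (L ⟶ K) := ((DCoh.shriekAdj f h).homEquiv L OY).symm.subsingleton
  have hι : ι = 0 := Subsingleton.elim _ _
  have hι' : (tt.truncLTι (-n)).app K.obj = 0 := congrArg (fun g => g.hom) hι
  change K.obj.IsGE (-n)
  rw [isGE_iff]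
  intro j hj
  haveI := isIso_homology_truncLTι (-n) j hj K.obj
  have h2 : (homologyFunctor _ j).map ((tt.truncLTι (-n)).app K.obj) = 0 := by
    rw [hι', Functor.map_zero]
  exact IsZero.of_epi_eq_zero _ h2

end Groth.Agent.Lib.H6xSd
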