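import Mathlib
import Groth.Prelude.Def_DDual2
import Groth.Prelude.Def_KLin
import Groth.Agent.Lib.H6xDerAdjB
import Groth.Agent.Lib.Helper1Sky5
set_option backward.isDefEq.respectTransparency.types false

/-!
# `Rf_*` is additive and linear over the base (helper6)
-/

set_option autoImplicit false
set_option linter.style.haveILetI false
universe u
open CategoryTheory CategoryTheory.Limits AlgebraicGeometry

attribute [local instance] HasDerivedCategory.standard

namespace Groth.Agent.Lib.H6xSd

open Groth.Agent.Lib.H6xRpushRes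

section add

variable {X Y : Scheme.{u}} (f : X ⟶ Y) [DCoh.HasRpush f]

/-- `Rf_*` is a right adjoint, hence additive -/
instance additive_Rpush : (DCoh.Rpush f).Additive := by
  haveI := Groth.Agent.Lib.Helper1.Sky.hasLpull f
  have adj := Groth.Agent.Lib.H6xDerAdj.derAdjLR f
  haveI := adj.rightAdjoint_preservesLimits
  haveI := preservesBinaryBiproducts_of_preservesBinaryProducts (DCoh.Rpush f)
  exact Functor.additive_of_preservesBinaryBiproducts _

end add

section lin

variable {A : Type u} [CommRing A] {X Y : Scheme.{u}} [X.Over (Spec (CommRingCat.of A))]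
  [Y.Over (Spec (CommRingCat.of A))] (f : X ⟶ Y) [f.IsOver (Spec (CommRingCat.of A))]
  [DCoh.HasRpush f]

theorem Rpush_map_smul_id (a : A) (E : DCoh.D X) :
    (DCoh.Rpush f).map (a • 𝟙 E) = a • 𝟙 ((DCoh.Rpush f).obj E) := by
  let τ₁ : DCoh.Rpush f ⟶ DCoh.Rpush f :=
    { app := fun E => (DCoh.Rpush f).map (a • 𝟙 E)
      naturality := fun E E' φ => by
        rw [← Functor.map_comp, ← Functor.map_comp, Linear.comp_smul, Linear.smul_comp,
          Category.comp_id, Category.id_comp] }
  let τ₂ : DCoh.Rpush f ⟶ DCoh.Rpush f :=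
    { app := fun E => a • 𝟙 ((DCoh.Rpush f).obj E)
      naturality := fun E E' φ => by
        rw [Linear.comp_smul, Linear.smul_comp, Category.comp_id, Category.id_comp] }
  have key : τ₁ = τ₂ := by
    apply Functor.rightDerived_ext (DCoh.Rpush f) (βf f)
      (HomologicalComplex.quasiIso X.Modules (ComplexShape.up ℤ))
    ext C
    simp only [NatTrans.comp_app, Functor.whiskerLeft_app]
    change (βf f).app C ≫ (DCoh.Rpush f).map (a • 𝟙 (DerivedCategory.Q.obj C)) =
      (βf f).app C ≫ (a • 𝟙 _)
    have h1 : (a • 𝟙 (DerivedCategory.Q.obj C) : DerivedCategory.Q.obj C ⟶ _) =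
        DerivedCategory.Q.map (a • 𝟙 C) := by
      rw [Functor.map_smul, CategoryTheory.Functor.map_id]
    rw [h1]
    have h2 := (βf f).naturality (a • 𝟙 C)
    simp only [Functor.comp_map] at h2
    rw [← h2]
    have h3 : ((Scheme.Modules.pushforward f).mapHomologicalComplex (ComplexShape.up ℤ)).map
        (a • 𝟙 C) = a • 𝟙 _ := by
      rw [Functor.map_smul, CategoryTheory.Functor.map_id]
    rw [h3, Functor.map_smul, CategoryTheory.Functor.map_id, Linear.smul_comp, Linear.comp_smul]
    erw [Category.id_comp, Category.comp_id]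
  exact congrArg (fun τ => τ.app E) key

instance linear_Rpush : (DCoh.Rpush f).Linear A where
  map_smul {E E'} φ a := by
    have h : a • φ = (a • 𝟙 E) ≫ φ := by rw [Linear.smul_comp, Category.id_comp]
    rw [h, Functor.map_comp, Rpush_map_smul_id, Linear.smul_comp, Category.id_comp]

end lin

end Groth.Agent.Lib.H6xSd
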