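import Mathlib
import Groth.Prelude.Def_DDual2
import Groth.Prelude.Def_KLin
import Groth.Agent.Lib.H6xSdF
import Groth.Agent.Lib.H6xGamAcE
import Groth.Agent.Lib.Helper23PB
import Groth.Agent.Lib.Helper1Sky11
set_option backward.isDefEq.respectTransparency.types false

/-!
# `Hom(O_X[0], E) ≃ Hom(O_Y[0], Rf_* E)` (helper6)
-/

set_option autoImplicit false
set_option linter.style.haveILetI false
universe u
open CategoryTheory CategoryTheory.Limits AlgebraicGeometry

attribute [local instance] HasDerivedCategory.standard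

namespace Groth.Agent.Lib.H6xSd

open Groth.Agent.Lib.H6xGamAc Groth.Agent.Lib.Helper1.Sky

section general

variable {X Y : Scheme.{u}} (f : X ⟶ Y) [DCoh.HasRpush f]

/-- `Lf^* O_Y[0] ≅ O_X[0]` -/
noncomputable def lpullUnitIso [DCoh.HasLpull f] :
    (DCoh.Lpull f).obj (DCoh.inD Y (Coh.structureModule Y)) ≅
      DCoh.inD X (Coh.structureModule X) :=
  haveI := isIso_lpullNat_app f (PO Y 0) (kffs_PO 0)
  (DCoh.Lpull f).mapIso ((DerivedCategory.singleFunctorIsoCompQ Y.Modules 0).app
    (Coh.structureModule Y)) ≪≫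
  asIso ((lpullNat f).app (PO Y 0)) ≪≫
  DerivedCategory.Q.mapIso
    ((HomologicalComplex.singleMapHomologicalComplex (Scheme.Modules.pullback f)
      (ComplexShape.up ℤ) 0).app (Coh.structureModule Y) ≪≫
    (HomologicalComplex.single X.Modules (ComplexShape.up ℤ) 0).mapIso
      (Groth.Agent.Lib.Helper23.PB.pullbackUnitIso f)) ≪≫
  ((DerivedCategory.singleFunctorIsoCompQ X.Modules 0).app (Coh.structureModule X)).symm

/-- the unit `O_Y[0] ⟶ Rf_* O_X[0]` -/
noncomputable def unitO : DCoh.inD Y (Coh.structureModule Y) ⟶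
    (DCoh.Rpush f).obj (DCoh.inD X (Coh.structureModule X)) :=
  haveI := hasLpull f
  (Groth.Agent.Lib.H6xDerAdj.derAdjLR f).unit.app _ ≫ (DCoh.Rpush f).map (lpullUnitIso f).hom

/-- `s ↦ (O_Y ⟶ Rf_* O_X ⟶ Rf_* E)` is bijective -/
theorem bijective_unitO_comp (E : DCoh.D X) :
    Function.Bijective (fun s : DCoh.inD X (Coh.structureModule X) ⟶ E =>
      unitO f ≫ (DCoh.Rpush f).map s) := by
  haveI := hasLpull f
  have h1 : (fun s : DCoh.inD X (Coh.structureModule X) ⟶ E =>
      unitO f ≫ (DCoh.Rpush f).map s) =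
      (fun s' => (Groth.Agent.Lib.H6xDerAdj.derAdjLR f).homEquiv _ _ s') ∘
        (fun s => (lpullUnitIso f).hom ≫ s) := by
    funext s
    simp only [Function.comp_apply, unitO, Adjunction.homEquiv_unit, Functor.map_comp,
      Category.assoc]
    rfl
  rw [h1]
  refine Function.Bijective.comp (Equiv.bijective _) ?_
  exact ⟨fun a b hab => by simpa using hab, fun φ => ⟨(lpullUnitIso f).inv ≫ φ, by simp⟩⟩

variable (h : DCoh.RpushPreservesQCoh f) [DCoh.HasShriek f h] (OY : DCoh.DQCoh Y)

/-- the trace `Rf_* a(OY) ⟶ OY` in `D(Y)` -/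
noncomputable def trD : (DCoh.Rpush f).obj (DCoh.dualizingCx f h OY) ⟶ OY.obj :=
  ((DCoh.trace f h).app OY).hom

/-- the adjunction `Rf_* ⊣ a` in terms of `D(X)` and `D(Y)` -/
theorem bijective_map_comp_trD (E : DCoh.D X) (hE : DCoh.IsQCohD E) :
    Function.Bijective (fun φ : E ⟶ DCoh.dualizingCx f h OY =>
      (DCoh.Rpush f).map φ ≫ trD f h OY) := by
  let E' : DCoh.DQCoh X := ⟨E, hE⟩
  let e := (DCoh.shriekAdj f h).homEquiv E' OY
  have h1 : (fun φ : E ⟶ DCoh.dualizingCx f h OY => (DCoh.Rpush f).map φ ≫ trD f h OY) =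
      (fun ψ : (DCoh.RpushQ f h).obj E' ⟶ OY => ψ.hom) ∘ e.symm ∘
        (fun φ : E ⟶ DCoh.dualizingCx f h OY =>
          (ObjectProperty.homMk φ : E' ⟶ (DCoh.shriek f h).obj OY)) := by
    funext φ
    simp only [Function.comp_apply, e, Adjunction.homEquiv_counit]
    rfl
  rw [h1]
  refine Function.Bijective.comp ?_ (Function.Bijective.comp e.symm.bijective ?_)
  · exact ⟨fun a b hab => ObjectProperty.hom_ext _ hab, fun ψ => ⟨ObjectProperty.homMk ψ, rfl⟩⟩
  · exact ⟨fun a b hab => congrArg (fun g => g.hom) hab, ObjectProperty.homMk_surjective⟩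

end general

section field

attribute [local instance 2000] CategoryTheory.instOverClass

variable (k : Type u) [Field k]

/-- the global function attached to a scalar, on `Spec k` -/
lemma toGam_smul_id (a : k) :
    toGam _ (a • 𝟙 (Coh.structureModule (Spec (CommRingCat.of k)))) =
      (Scheme.ΓSpecIso (CommRingCat.of k)).inv.hom a := by
  have h := KLin.smul_app_apply (A := k) (X := Spec (CommRingCat.of k)) a
    (𝟙 (Coh.structureModule (Spec (CommRingCat.of k)))) ⊤
    (1 : (Spec (CommRingCat.of k)).ringCatSheaf.obj.obj (Opposite.op ⊤))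
  refine Eq.trans (show toGam _ _ = _ from h) ?_
  rw [Scheme.Modules.Hom.id_app]
  have h2 : (Spec (CommRingCat.of k)).presheaf.map
      (homOfLE (le_top : (⊤ : (Spec (CommRingCat.of k)).Opens) ≤ ⊤)).op = 𝟙 _ :=
    (Spec (CommRingCat.of k)).presheaf.map_id _
  rw [h2]
  have h3 : Coh.toGlobal (Spec (CommRingCat.of k) ↘ Spec (CommRingCat.of k)) a =
      (Scheme.ΓSpecIso (CommRingCat.of k)).inv.hom a := by
    have h4 : (Spec (CommRingCat.of k) ↘ Spec (CommRingCat.of k)) = 𝟙 _ := rfl
    unfold Coh.toGlobal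
    rw [h4, Scheme.Hom.id_appTop]
    rfl
  rw [h3]
  change (Scheme.ΓSpecIso (CommRingCat.of k)).inv.hom a * 1 = _
  rw [mul_one]

/-- every endomorphism of `O[0]` in `D(Spec k)` is a scalar -/
theorem end_eq_smul (a' : DCoh.inD (Spec (CommRingCat.of k))
      (Coh.structureModule (Spec (CommRingCat.of k))) ⟶
      DCoh.inD (Spec (CommRingCat.of k)) (Coh.structureModule (Spec (CommRingCat.of k)))) :
    ∃ a : k, a' = a • 𝟙 _ := by
  obtain ⟨b, rfl⟩ := (DerivedCategory.singleFunctor (Spec (CommRingCat.of k)).Modules 0).map_surjective a'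
  refine ⟨(Scheme.ΓSpecIso (CommRingCat.of k)).hom.hom (toGam _ b), ?_⟩
  have hb : b = ((Scheme.ΓSpecIso (CommRingCat.of k)).hom.hom (toGam _ b)) • 𝟙 _ := by
    apply toGam_injective
    rw [toGam_smul_id]
    change _ = ((Scheme.ΓSpecIso (CommRingCat.of k)).hom ≫
      (Scheme.ΓSpecIso (CommRingCat.of k)).inv).hom (toGam _ b)
    rw [Iso.hom_inv_id]
    rfl
  conv_lhs => rw [hb]
  rw [Functor.map_smul, CategoryTheory.Functor.map_id]

theorem smul_id_injective : Function.Injective (fun a : k =>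
    a • 𝟙 (DCoh.inD (Spec (CommRingCat.of k)) (Coh.structureModule (Spec (CommRingCat.of k))))) := by
  intro a b hab
  have h1 : (DerivedCategory.singleFunctor (Spec (CommRingCat.of k)).Modules 0).map
      (a • 𝟙 (Coh.structureModule (Spec (CommRingCat.of k)))) =
      (DerivedCategory.singleFunctor (Spec (CommRingCat.of k)).Modules 0).map
      (b • 𝟙 (Coh.structureModule (Spec (CommRingCat.of k)))) := by
    rw [Functor.map_smul, Functor.map_smul, CategoryTheory.Functor.map_id]
    exact hab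
  have h2 := (DerivedCategory.singleFunctor (Spec (CommRingCat.of k)).Modules 0).map_injective h1
  have h3 := congrArg (toGam _) h2
  rw [toGam_smul_id, toGam_smul_id] at h3
  have h4 := congrArg (Scheme.ΓSpecIso (CommRingCat.of k)).hom.hom h3
  change ((Scheme.ΓSpecIso (CommRingCat.of k)).inv ≫
      (Scheme.ΓSpecIso (CommRingCat.of k)).hom).hom a =
    ((Scheme.ΓSpecIso (CommRingCat.of k)).inv ≫
      (Scheme.ΓSpecIso (CommRingCat.of k)).hom).hom b at h4
  rw [Iso.inv_hom_id] at h4
  exact h4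

/-- `k ≃ End(O[0])` -/
noncomputable def endEquiv : k ≃ₗ[k] (DCoh.inD (Spec (CommRingCat.of k))
      (Coh.structureModule (Spec (CommRingCat.of k))) ⟶
      DCoh.inD (Spec (CommRingCat.of k)) (Coh.structureModule (Spec (CommRingCat.of k)))) :=
  LinearEquiv.ofBijective (LinearMap.toSpanSingleton k _ (𝟙 _))
    ⟨smul_id_injective k, fun a' => by
      obtain ⟨a, rfl⟩ := end_eq_smul k a'
      exact ⟨a, rfl⟩⟩

lemma endEquiv_apply (a : k) : endEquiv k a = a • 𝟙 _ := rfl

end field

end Groth.Agent.Lib.H6xSd
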