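import Mathlib
import Groth.Prelude.Def_DDual2
import Groth.Prelude.Def_KLin
import Groth.Agent.Lib.H6xSdC
import Groth.Agent.Lib.H6xSdG
set_option backward.isDefEq.respectTransparency.types false

/-!
# Duality on `D_QCoh(X)` for `X` over a field, in derived form (helper6)

For `f : X ⟶ Spec k` and `K = a(O_{Spec k})` (the value of the right adjoint of `Rf_*` on
`D_QCoh`): there is a `k`-linear form `traceD` on `Hom(O_X[0], K)` such that for every
`E ∈ D_QCoh(X)` the pairing `Hom(O_X[0], E) × Hom(E, K) ⟶ k`, `(s, φ) ↦ traceD (s ≫ φ)`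
identifies `Hom(E, K)` with the `k`-linear dual of `Hom(O_X[0], E)`.
-/

set_option autoImplicit false
set_option linter.style.haveILetI false
universe u
open CategoryTheory CategoryTheory.Limits AlgebraicGeometry

attribute [local instance] HasDerivedCategory.standard
attribute [local instance 2000] CategoryTheory.instOverClass

namespace Groth.Agent.Lib.H6xSd

variable (k : Type u) [Field k] (X : Scheme.{u}) [X.Over (Spec (CommRingCat.of k))]
  [DCoh.HasRpush (X ↘ Spec (CommRingCat.of k))]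
  (h : DCoh.RpushPreservesQCoh (X ↘ Spec (CommRingCat.of k)))
  [DCoh.HasShriek (X ↘ Spec (CommRingCat.of k)) h]
  (OY : DCoh.DQCoh (Spec (CommRingCat.of k)))
  (eO : OY.obj ≅ DCoh.inD (Spec (CommRingCat.of k))
    (Coh.structureModule (Spec (CommRingCat.of k))))

/-- `s ↦ (O_Y ⟶ Rf_* O_X ⟶ Rf_* E)`, as a linear map -/
noncomputable def thetaL (E : DCoh.D X) :
    (DCoh.inD X (Coh.structureModule X) ⟶ E) →ₗ[k]
      (DCoh.inD (Spec (CommRingCat.of k)) (Coh.structureModule (Spec (CommRingCat.of k))) ⟶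
        (DCoh.Rpush (X ↘ Spec (CommRingCat.of k))).obj E) where
  toFun s := unitO (X ↘ Spec (CommRingCat.of k)) ≫ (DCoh.Rpush (X ↘ Spec (CommRingCat.of k))).map s
  map_add' s s' := by rw [Functor.map_add, Preadditive.comp_add]
  map_smul' a s := by
    rw [Functor.map_smul, Linear.comp_smul]
    rfl

lemma thetaL_apply (E : DCoh.D X) (s : DCoh.inD X (Coh.structureModule X) ⟶ E) :
    thetaL k X E s = unitO (X ↘ Spec (CommRingCat.of k)) ≫
      (DCoh.Rpush (X ↘ Spec (CommRingCat.of k))).map s := rfl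

lemma thetaL_comp {E E' : DCoh.D X} (s : DCoh.inD X (Coh.structureModule X) ⟶ E) (φ : E ⟶ E') :
    thetaL k X E' (s ≫ φ) = thetaL k X E s ≫ (DCoh.Rpush (X ↘ Spec (CommRingCat.of k))).map φ := by
  rw [thetaL_apply, thetaL_apply, Functor.map_comp, Category.assoc]

lemma thetaL_bijective (E : DCoh.D X) : Function.Bijective (thetaL k X E) :=
  bijective_unitO_comp (X ↘ Spec (CommRingCat.of k)) E

/-- the `End(O_Y[0])`-valued trace form -/
noncomputable def traceEnd :
    (DCoh.inD X (Coh.structureModule X) ⟶ DCoh.dualizingCx (X ↘ Spec (CommRingCat.of k)) h OY) →ₗ[k]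
      (DCoh.inD (Spec (CommRingCat.of k)) (Coh.structureModule (Spec (CommRingCat.of k))) ⟶
        DCoh.inD (Spec (CommRingCat.of k)) (Coh.structureModule (Spec (CommRingCat.of k)))) where
  toFun σ := thetaL k X _ σ ≫ trD (X ↘ Spec (CommRingCat.of k)) h OY ≫ eO.hom
  map_add' σ σ' := by rw [map_add, Preadditive.add_comp]
  map_smul' a σ := by
    rw [map_smul, Linear.smul_comp]
    rfl

/-- the trace form `Hom(O_X[0], K) ⟶ k` -/
noncomputable def traceD :
    (DCoh.inD X (Coh.structureModule X) ⟶ DCoh.dualizingCx (X ↘ Spec (CommRingCat.of k)) h OY) →ₗ[k] k :=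
  (endEquiv k).symm.toLinearMap ∘ₗ traceEnd k X h OY eO

lemma endEquiv_traceD (σ : DCoh.inD X (Coh.structureModule X) ⟶
    DCoh.dualizingCx (X ↘ Spec (CommRingCat.of k)) h OY) :
    endEquiv k (traceD k X h OY eO σ) =
      thetaL k X _ σ ≫ trD (X ↘ Spec (CommRingCat.of k)) h OY ≫ eO.hom :=
  (endEquiv k).apply_symm_apply _

/-- **duality in derived form** -/
theorem existsUnique_traceD (E : DCoh.D X) (hE : DCoh.IsQCohD E)
    (l : (DCoh.inD X (Coh.structureModule X) ⟶ E) →ₗ[k] k) :
    ∃! φ : E ⟶ DCoh.dualizingCx (X ↘ Spec (CommRingCat.of k)) h OY,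
      ∀ s, l s = traceD k X h OY eO (s ≫ φ) := by
  have hM : DCoh.IsQCohD ((DCoh.Rpush (X ↘ Spec (CommRingCat.of k))).obj E) := h E hE
  have hPP := perfPair_spec_field k _ hM
  let θ := LinearEquiv.ofBijective (thetaL k X E) (thetaL_bijective k X E)
  let l' : (DCoh.inD (Spec (CommRingCat.of k)) (Coh.structureModule (Spec (CommRingCat.of k))) ⟶
      (DCoh.Rpush (X ↘ Spec (CommRingCat.of k))).obj E) →
      (DCoh.inD (Spec (CommRingCat.of k)) (Coh.structureModule (Spec (CommRingCat.of k))) ⟶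
        DCoh.inD (Spec (CommRingCat.of k)) (Coh.structureModule (Spec (CommRingCat.of k)))) :=
    fun s' => endEquiv k (l (θ.symm s'))
  have hl' : IsLin l' := by
    refine ⟨fun s s' => ?_, fun a' s' => ?_⟩
    · change endEquiv k (l (θ.symm (s + s'))) = endEquiv k (l (θ.symm s)) + endEquiv k (l (θ.symm s'))
      rw [map_add, map_add, map_add]
    · obtain ⟨a, rfl⟩ := end_eq_smul k a'
      change endEquiv k (l (θ.symm ((a • 𝟙 _) ≫ s'))) = (a • 𝟙 _) ≫ endEquiv k (l (θ.symm s'))
      rw [Linear.smul_comp, Category.id_comp, map_smul, map_smul, map_smul, Linear.smul_comp,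
        Category.id_comp]
  obtain ⟨ψ, hψ, hu⟩ := hPP l' hl'
  let Ξ := Equiv.ofBijective _ (bijective_map_comp_trD (X ↘ Spec (CommRingCat.of k)) h OY E hE)
  have hΞ : ∀ φ, Ξ φ = (DCoh.Rpush (X ↘ Spec (CommRingCat.of k))).map φ ≫
      trD (X ↘ Spec (CommRingCat.of k)) h OY := fun φ => rfl
  have key : ∀ (φ : E ⟶ DCoh.dualizingCx (X ↘ Spec (CommRingCat.of k)) h OY) s,
      endEquiv k (traceD k X h OY eO (s ≫ φ)) = thetaL k X E s ≫ Ξ φ ≫ eO.hom := by
    intro φ s
    rw [endEquiv_traceD, thetaL_comp, hΞ, Category.assoc, Category.assoc]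
  refine ⟨Ξ.symm (ψ ≫ eO.inv), fun s => ?_, fun φ' hφ' => ?_⟩
  · apply (endEquiv k).injective
    rw [key, Equiv.apply_symm_apply, Category.assoc, Iso.inv_hom_id, Category.comp_id]
    have := hψ (thetaL k X E s)
    rw [← this]
    change _ = endEquiv k (l (θ.symm (θ s)))
    rw [LinearEquiv.symm_apply_apply]
  · have h1 : Ξ φ' ≫ eO.hom = ψ := by
      apply hu
      intro s'
      obtain ⟨s, rfl⟩ := (thetaL_bijective k X E).2 s'
      change endEquiv k (l (θ.symm (θ s))) = _
      rw [LinearEquiv.symm_apply_apply, hφ' s, key]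
    rw [Equiv.eq_symm_apply, ← h1, Category.assoc, Iso.hom_inv_id, Category.comp_id]

end Groth.Agent.Lib.H6xSd
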