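import Mathlib
import Groth.Agent.S14388
set_option backward.isDefEq.respectTransparency.types false

/-!
# Morphisms from an object of the heart into an object of `D^{≥ m}` (helper6)

For `K ∈ D^{≥ m}(A)` there are bijections `Hom_A(F, H^m K) ≃ Hom_{D(A)}(F[-m], K)`, natural in `F`;
hence (Yoneda) a morphism `c : (H^m K)[-m] ⟶ K` such that `φ ↦ φ[-m] ≫ c` is bijective.
-/

set_option autoImplicit false
set_option linter.style.haveILetI false
universe w v u
open CategoryTheory CategoryTheory.Limits Pretriangulated DerivedCategory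

namespace Groth.Agent.Lib.H6xSd

open Groth.Agent.S14388

variable {A : Type u} [Category.{v} A] [Abelian A] [HasDerivedCategory.{w} A]

theorem exists_heart_map (K : DerivedCategory A) (m : ℤ) [K.IsGE m] :
    ∃ c : (DerivedCategory.singleFunctor A m).obj ((homologyFunctor A m).obj K) ⟶ K,
      ∀ F : A, Function.Bijective (fun φ : F ⟶ (homologyFunctor A m).obj K =>
        (DerivedCategory.singleFunctor A m).map φ ≫ c) := by
  set L := (tt.truncLT (m + 1)).obj K with hL
  set ι := (tt.truncLTι (m + 1)).app K with hι
  haveI : L.IsLE m := by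
    have : tt.IsLE ((tt.truncLT (m + 1)).obj K) (m + 1 - 1) := inferInstance
    rw [show m + 1 - 1 = m by omega] at this
    exact this
  haveI : L.IsGE m := inferInstanceAs (tt.IsGE ((tt.truncLT (m + 1)).obj K) m)
  obtain ⟨Y, ⟨e⟩⟩ := exists_iso_singleFunctor_obj_of_isGE_of_isLE L m
  haveI := isIso_homology_truncLTι (m + 1) m (by omega) K
  let eω : (homologyFunctor A m).obj K ≅ Y :=
    (asIso ((homologyFunctor A m).map ι)).symm ≪≫ (homologyFunctor A m).mapIso e ≪≫
      (singleFunctorCompHomologyFunctorIso A m).app Y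
  refine ⟨(DerivedCategory.singleFunctor A m).map eω.hom ≫ e.inv ≫ ι, fun F => ?_⟩
  have h1 : (fun φ : F ⟶ (homologyFunctor A m).obj K =>
      (DerivedCategory.singleFunctor A m).map φ ≫
        (DerivedCategory.singleFunctor A m).map eω.hom ≫ e.inv ≫ ι) =
      (fun x : (DerivedCategory.singleFunctor A m).obj F ⟶ L => x ≫ ι) ∘
      (fun y : (DerivedCategory.singleFunctor A m).obj F ⟶
        (DerivedCategory.singleFunctor A m).obj Y => y ≫ e.inv) ∘
      (fun z : F ⟶ Y => (DerivedCategory.singleFunctor A m).map z) ∘
      (fun φ : F ⟶ (homologyFunctor A m).obj K => φ ≫ eω.hom) := by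
    funext φ
    simp only [Function.comp_apply, Functor.map_comp, Category.assoc]
  rw [h1]
  refine Function.Bijective.comp ?_ (Function.Bijective.comp ?_ (Function.Bijective.comp ?_ ?_))
  · haveI : tt.IsLE ((DerivedCategory.singleFunctor A m).obj F) (m + 1 - 1) := by
      rw [show m + 1 - 1 = m by omega]
      exact inferInstanceAs (((DerivedCategory.singleFunctor A m).obj F).IsLE m)
    haveI : tt.IsLE ((DerivedCategory.singleFunctor A m).obj F) m :=
      inferInstanceAs (((DerivedCategory.singleFunctor A m).obj F).IsLE m)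
    constructor
    · intro x x' hx
      exact tt.to_truncLT_obj_ext hx
    · intro x
      exact ⟨tt.liftTruncLT x m (m + 1) rfl, tt.liftTruncLT_ι x m (m + 1) rfl⟩
  · exact ⟨fun a b hab => by simpa using hab, fun y => ⟨y ≫ e.hom, by simp⟩⟩
  · exact ⟨fun a b hab => (DerivedCategory.singleFunctor A m).map_injective hab,
      fun y => (DerivedCategory.singleFunctor A m).map_surjective y⟩
  · exact ⟨fun a b hab => by simpa using hab, fun y => ⟨y ≫ eω.inv, by simp⟩⟩

end Groth.Agent.Lib.H6xSd
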