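import Groth.Agent.Lib.R2H2HHLin

/-!
# Representing linear forms on top cohomology: formal properties (helper2, round 2)

For `X` over `Spec A`, a module `ω` and a linear form `t : H^n(X, ω) → A`:
`Inj t F` : `φ ↦ t ∘ H^n(φ)` is injective on `Hom(F, ω)`;
`Sur t F` : it is surjective onto `Hom_A(H^n(X, F), A)`;
`Rep t F` : both (in the `∃!` form).
Stability under isomorphisms, finite biproducts, quotients (`inj_of_epi`) and right exact sequences
(`sur_of_exact`).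
-/

set_option autoImplicit false
set_option linter.unusedSectionVars false
universe u

namespace Groth.Agent.Lib.R2H2.DualRep

open CategoryTheory CategoryTheory.Limits AlgebraicGeometry Opposite
open Groth.Agent.Lib.R2H2.HHLin

attribute [local instance] Abelian.hasFiniteBiproducts

variable {A : Type u} [CommRing A] {X : Scheme.{u}} [X.Over (Spec (CommRingCat.of A))]
variable {ω : X.Modules} {n : ℕ} (t : Coh.HH X ω n →ₗ[A] A)

/-- `φ ↦ t ∘ H^n(φ)` is injective on `Hom(F, ω)` -/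
def Inj (F : X.Modules) : Prop :=
  ∀ φ : F ⟶ ω, (∀ x : Coh.HH X F n, t (HmapL φ n x) = 0) → φ = 0

/-- `φ ↦ t ∘ H^n(φ)` is surjective onto the linear forms on `H^n(X, F)` -/
def Sur (F : X.Modules) : Prop :=
  ∀ ψ : Coh.HH X F n →ₗ[A] A, ∃ φ : F ⟶ ω, ∀ x : Coh.HH X F n, ψ x = t (HmapL φ n x)

/-- the `∃!` form -/
def Rep (F : X.Modules) : Prop :=
  ∀ ψ : Coh.HH X F n →ₗ[A] A, ∃! φ : F ⟶ ω, ∀ x : Coh.HH X F n,
    ψ x = t (Sheaf.H.map ((SheafOfModules.toSheaf X.ringCatSheaf).map φ) n x)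

lemma HmapL_sub {M N : X.Modules} (φ ψ : M ⟶ N) (i : ℕ) (x : Coh.HH X M i) :
    HmapL (φ - ψ) i x = HmapL φ i x - HmapL ψ i x := by
  have h := HmapL_add (φ - ψ) ψ i x
  rw [sub_add_cancel] at h
  rw [h, add_sub_cancel_right]

variable {t}

lemma Rep.inj {F : X.Modules} (h : Rep t F) : Inj t F := by
  intro φ hφ
  obtain ⟨φ0, -, hu⟩ := h 0
  have h1 : φ = φ0 := hu φ (fun x => by
    rw [LinearMap.zero_apply]
    exact (hφ x).symm)
  have h2 : (0 : F ⟶ ω) = φ0 := hu 0 (fun x => by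
    rw [LinearMap.zero_apply]
    have : Sheaf.H.map ((SheafOfModules.toSheaf X.ringCatSheaf).map (0 : F ⟶ ω)) n x = 0 :=
      HmapL_zero n x
    rw [this, map_zero])
  rw [h1, ← h2]

lemma Rep.sur {F : X.Modules} (h : Rep t F) : Sur t F := by
  intro ψ
  obtain ⟨φ, hφ, -⟩ := h ψ
  exact ⟨φ, hφ⟩

lemma rep_of_inj_sur {F : X.Modules} (hi : Inj t F) (hs : Sur t F) : Rep t F := by
  intro ψ
  obtain ⟨φ, hφ⟩ := hs ψ
  refine ⟨φ, hφ, ?_⟩
  intro φ' hφ'
  have h0 : φ' - φ = 0 := hi _ (fun x => by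
    rw [HmapL_sub, map_sub]
    have h1 : ψ x = t (HmapL φ' n x) := hφ' x
    have h2 : ψ x = t (HmapL φ n x) := hφ x
    rw [← h1, ← h2, sub_self])
  exact sub_eq_zero.mp h0

lemma inj_of_epi {E F : X.Modules} (π : E ⟶ F) [Epi π] (hE : Inj t E) : Inj t F := by
  intro φ hφ
  have h0 : π ≫ φ = 0 := hE _ (fun x => by
    rw [HmapL_comp]
    exact hφ _)
  exact (cancel_epi π).1 (by rw [h0, comp_zero])

lemma inj_of_iso {E F : X.Modules} (e : E ≅ F) (hE : Inj t E) : Inj t F :=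
  inj_of_epi e.hom hE

lemma sur_of_iso {E F : X.Modules} (e : E ≅ F) (hE : Sur t E) : Sur t F := by
  intro ψ
  obtain ⟨φ, hφ⟩ := hE (ψ ∘ₗ HmapA A e.hom n)
  refine ⟨e.inv ≫ φ, fun x => ?_⟩
  have h1 := hφ (HmapL e.inv n x)
  rw [LinearMap.comp_apply, HmapA_apply, ← HmapL_comp, e.inv_hom_id, HmapL_id] at h1
  rw [HmapL_comp]
  exact h1

lemma rep_of_iso {E F : X.Modules} (e : E ≅ F) (hE : Rep t E) : Rep t F :=
  rep_of_inj_sur (inj_of_iso e hE.inj) (sur_of_iso e hE.sur)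

lemma inj_biproduct {r : ℕ} (f : Fin r → X.Modules) (hf : ∀ j, Inj t (f j)) :
    Inj t (⨁ f) := by
  intro φ hφ
  apply biproduct.hom_ext'
  intro j
  rw [comp_zero]
  exact hf j _ (fun x => by
    rw [HmapL_comp]
    exact hφ _)

lemma sur_biproduct {r : ℕ} (f : Fin r → X.Modules) (hf : ∀ j, Sur t (f j)) :
    Sur t (⨁ f) := by
  intro ψ
  choose φ hφ using fun j => hf j (ψ ∘ₗ HmapA A (biproduct.ι f j) n)
  refine ⟨biproduct.desc φ, fun x => ?_⟩
  have hx : x = ∑ j : Fin r, HmapL (biproduct.ι f j) n (HmapL (biproduct.π f j) n x) := by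
    have h1 : HmapL (∑ j : Fin r, biproduct.π f j ≫ biproduct.ι f j) n x = x := by
      rw [biproduct.total, HmapL_id]
    rw [HmapL_sum] at h1
    exact h1.symm.trans (Finset.sum_congr rfl (fun j _ => HmapL_comp _ _ n x))
  have hd : HmapL (biproduct.desc φ) n x =
      ∑ j : Fin r, HmapL (φ j) n (HmapL (biproduct.π f j) n x) := by
    rw [biproduct.desc_eq, HmapL_sum]
    exact Finset.sum_congr rfl (fun j _ => HmapL_comp _ _ n x)
  rw [hd, map_sum]
  conv_lhs => rw [hx]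
  rw [map_sum]
  refine Finset.sum_congr rfl (fun j _ => ?_)
  exact hφ j (HmapL (biproduct.π f j) n x)

lemma rep_biproduct {r : ℕ} (f : Fin r → X.Modules) (hf : ∀ j, Rep t (f j)) :
    Rep t (⨁ f) :=
  rep_of_inj_sur (inj_biproduct f fun j => (hf j).inj) (sur_biproduct f fun j => (hf j).sur)

/-- right exactness: if `X₁ → X₂ → X₃ → 0` is exact, `Inj` holds for `X₁`, `Sur` for `X₂` and
`H^n(X₂) → H^n(X₃)` is surjective, then `Sur` holds for `X₃` -/
lemma sur_of_exact (S : ShortComplex X.Modules) (hS : S.Exact) [Epi S.g]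
    (h₁ : Inj t S.X₁) (h₂ : Sur t S.X₂) (hsurj : Function.Surjective (HmapL S.g n)) :
    Sur t S.X₃ := by
  intro ψ
  obtain ⟨φ', hφ'⟩ := h₂ (ψ ∘ₗ HmapA A S.g n)
  have h0 : S.f ≫ φ' = 0 := h₁ _ (fun x => by
    rw [HmapL_comp, ← hφ', LinearMap.comp_apply, HmapA_apply, ← HmapL_comp, S.zero, HmapL_zero,
      map_zero])
  refine ⟨hS.desc φ' h0, fun x => ?_⟩
  obtain ⟨y, rfl⟩ := hsurj x
  rw [← HmapL_comp, hS.g_desc]
  exact hφ' y

end Groth.Agent.Lib.R2H2.DualRep
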