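import Groth.Agent.Lib.R2H2AdjExt
import Groth.Agent.Lib.Helper21ModCoh
import Groth.Agent.S0485

/-!
# `Ext^n_O(O, M) ≅ H^n(M)` by an explicit map natural in `M` (helper2, round 2)
-/

set_option autoImplicit false
set_option linter.unusedSectionVars false
universe u

namespace Groth.Agent.Lib.R2H2.ExtUnitNat

open CategoryTheory CategoryTheory.Limits Abelian Opposite
open Groth.Agent.Lib.Helper21.FreeAb Groth.Agent.Lib.Helper21.TorsFree
  Groth.Agent.Lib.R2H2.AdjExt

variable {C : Type u} [SmallCategory C] {J : GrothendieckTopology C} (R : Sheaf J RingCat.{u})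
  [HasExt.{u} (SheafOfModules.{u} R)]

instance : PreservesFiniteLimits (SheafOfModules.toSheaf.{u} R) := by
  have : PreservesLimitsOfSize.{0, 0} (SheafOfModules.toSheaf.{u} R) :=
    (freeShRAdj R).rightAdjoint_preservesLimits
  infer_instance

/-- the comparison map `Ext^n_O(O, M) → H^n(M)` -/
noncomputable def extUnitMap (M : SheafOfModules.{u} R) (n : ℕ)
    (x : Ext.{u} (SheafOfModules.unit R) M n) :
    Sheaf.H.{u} ((SheafOfModules.toSheaf R).obj M) n :=
  adjExt (freeShRAdj R) (Zc (J := J)) M n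
    ((Ext.mk₀ (freeShRZcIso R).hom).comp x (zero_add n))

lemma extUnitMap_add (M : SheafOfModules.{u} R) (n : ℕ)
    (x y : Ext.{u} (SheafOfModules.unit R) M n) :
    extUnitMap R M n (x + y) = extUnitMap R M n x + extUnitMap R M n y := by
  unfold extUnitMap
  rw [Ext.comp_add, adjExt_add]

lemma extUnitMap_comp_mk₀ {M M' : SheafOfModules.{u} R} (n : ℕ)
    (x : Ext.{u} (SheafOfModules.unit R) M n) (g : M ⟶ M') :
    extUnitMap R M' n (x.comp (Ext.mk₀ g) (add_zero n)) =
      Sheaf.H.map ((SheafOfModules.toSheaf R).map g) n (extUnitMap R M n x) := by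
  unfold extUnitMap
  rw [← Ext.comp_assoc_of_third_deg_zero, adjExt_comp_mk₀]
  rfl

theorem extUnitMap_bijective (M : SheafOfModules.{u} R) (n : ℕ) :
    Function.Bijective (extUnitMap R M n) := by
  have : EnoughInjectives (SheafOfModules.{u} R) := Groth.Agent.S0485.result J R
  have h1 := adjExt_bijective (freeShRAdj R) (Zc (J := J))
    (fun I hI p y => ext_toSheaf_eq_zero R I p _ TF_Zc y) n M
  have h2 : Function.Bijective
      (fun x : Ext.{u} (SheafOfModules.unit R) M n =>
        (Ext.mk₀ (freeShRZcIso R).hom).comp x (zero_add n)) := by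
    refine Function.bijective_iff_has_inverse.mpr
      ⟨fun y => (Ext.mk₀ (freeShRZcIso R).inv).comp y (zero_add n), ?_, ?_⟩
    · intro x
      change (Ext.mk₀ (freeShRZcIso R).inv).comp
        ((Ext.mk₀ (freeShRZcIso R).hom).comp x (zero_add n)) (zero_add n) = x
      rw [Ext.mk₀_comp_mk₀_assoc, Iso.inv_hom_id, Ext.mk₀_id_comp]
    · intro y
      change (Ext.mk₀ (freeShRZcIso R).hom).comp
        ((Ext.mk₀ (freeShRZcIso R).inv).comp y (zero_add n)) (zero_add n) = y
      rw [Ext.mk₀_comp_mk₀_assoc, Iso.hom_inv_id, Ext.mk₀_id_comp]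
  exact h1.comp h2

end Groth.Agent.Lib.R2H2.ExtUnitNat
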