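import Groth.Agent.Lib.R2H2TensorLin
import Groth.Agent.Lib.R2H2ExtUnitNat
import Groth.Agent.Lib.R2H2HHLin
import Groth.Agent.Lib.Helper2LocFree

/-!
# `Ext^n(F, B) ≅ H^n(Hom(F, B))` linearly, for `F` finite locally free (helper2, round 2)
-/

set_option autoImplicit false
set_option linter.unusedSectionVars false
universe u

namespace Groth.Agent.Lib.R2H2.SheafHomExt

open CategoryTheory CategoryTheory.Limits AlgebraicGeometry Opposite MonoidalCategory Abelian
open Groth.Agent.Lib.Helper21.ModTensor Groth.Agent.Lib.Helper21.ModTensor2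
  Groth.Agent.Lib.Helper21.ModTensor3 Groth.Agent.Lib.Helper21.ModTensor5
  Groth.Agent.Lib.Helper21.Dual
  Groth.Agent.Lib.R2H2.AdjExt Groth.Agent.Lib.R2H2.ExtUnitNat Groth.Agent.Lib.R2H2.TensorLin
  Groth.Agent.Lib.R2H2.HHLin

attribute [local instance] Groth.Agent.Lib.Helper21.ExtShDelta.hasSheafHom

variable {k : Type u} [CommRing k] {X : Scheme.{u}} [X.Over (Spec (CommRingCat.of k))]

section Lin

theorem tensorBi_map_smul (F A : X.Modules) (a : k) :
    (DCoh.tensorBi.obj F).map (a • 𝟙 A) = a • 𝟙 ((DCoh.tensorBi.obj F).obj A) := by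
  rw [KLin.smul_id, KLin.smul_id]
  exact tensorBi_map_smulModΓ F A _

theorem sheafHom_map_smul (F : X.Modules) [DCoh.HasSheafHom F] (B : X.Modules) (a : k) :
    (DCoh.sheafHom F).map (a • 𝟙 B) = a • 𝟙 ((DCoh.sheafHom F).obj B) := by
  apply ((DCoh.sheafHomAdj F).homEquiv _ _).symm.injective
  rw [Adjunction.homEquiv_counit, Adjunction.homEquiv_counit, tensorBi_map_smul]
  have hn : (DCoh.tensorBi.obj F).map ((DCoh.sheafHom F).map (a • 𝟙 B)) ≫
      (DCoh.sheafHomAdj F).counit.app B = (DCoh.sheafHomAdj F).counit.app B ≫ (a • 𝟙 B) :=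
    (DCoh.sheafHomAdj F).counit.naturality (a • 𝟙 B)
  rw [hn, Linear.comp_smul, Linear.smul_comp]
  exact congrArg (a • ·) ((Category.comp_id _).trans (Category.id_comp _).symm)

end Lin

variable [HasExt.{u} X.Modules]

section Unit

/-- the linear comparison `Ext^n(O_X, M) ≅ H^n(X, M)` -/
noncomputable def extUnitFun (M : X.Modules) (n : ℕ) (x : Ext (Coh.structureModule X) M n) :
    Coh.HH X M n :=
  @extUnitMap _ _ (Opens.grothendieckTopology X) X.ringCatSheaf ‹HasExt.{u} X.Modules› M n x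

lemma extUnitFun_add (M : X.Modules) (n : ℕ) (x y : Ext (Coh.structureModule X) M n) :
    extUnitFun M n (x + y) = extUnitFun M n x + extUnitFun M n y :=
  @extUnitMap_add _ _ (Opens.grothendieckTopology X) X.ringCatSheaf ‹HasExt.{u} X.Modules› M n x y

lemma extUnitFun_comp_mk₀ {M M' : X.Modules} (n : ℕ) (x : Ext (Coh.structureModule X) M n)
    (g : M ⟶ M') :
    extUnitFun M' n (x.comp (Ext.mk₀ g) (add_zero n)) = HmapL g n (extUnitFun M n x) :=
  @extUnitMap_comp_mk₀ _ _ (Opens.grothendieckTopology X) X.ringCatSheaf ‹HasExt.{u} X.Modules›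
    M M' n x g

lemma extUnitFun_bijective (M : X.Modules) (n : ℕ) : Function.Bijective (extUnitFun M n) :=
  @extUnitMap_bijective _ _ (Opens.grothendieckTopology X) X.ringCatSheaf ‹HasExt.{u} X.Modules›
    M n

lemma extUnitFun_smul (M : X.Modules) (n : ℕ) (a : k) (x : Ext (Coh.structureModule X) M n) :
    extUnitFun M n (a • x) = a • extUnitFun M n x := by
  rw [Ext.smul_eq_comp_mk₀, extUnitFun_comp_mk₀, KLin.smul_id]
  rfl

/-- `Ext^n(O_X, M) ≃ₗ[k] H^n(X, M)` -/
noncomputable def extUnitEquiv (M : X.Modules) (n : ℕ) :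
    Ext (Coh.structureModule X) M n ≃ₗ[k] Coh.HH X M n :=
  LinearEquiv.ofBijective
    { toFun := extUnitFun M n
      map_add' := extUnitFun_add M n
      map_smul' := fun a x => extUnitFun_smul M n a x }
    (extUnitFun_bijective M n)

end Unit

section SheafHom

theorem preservesFiniteColimits_tR' (N : ModSite.Mod X.sheaf) :
    PreservesFiniteColimits (tR X.sheaf N) := inferInstance

variable (F : X.Modules) [DCoh.HasSheafHom F]

/-- the sheaf Hom of the prelude (right adjoint of `F ⊗ -`) is the sheaf Hom of `ModSite` (right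
adjoint of `- ⊗ F`) -/
noncomputable def sheafHomIso : DCoh.sheafHom F ≅ ModSite.sheafHom (O := X.sheaf) F :=
  (DCoh.sheafHomAdj F).rightAdjointUniq
    ((ModSite.sheafHomAdj (O := X.sheaf) F).ofNatIsoLeft ((brd X.sheaf).app F).symm)

variable (hF : FlatMod.IsFinLocFree F)

/-- for `F` finite locally free, the sheaf Hom is `- ⊗ F^∨` -/
noncomputable def sheafHomIsoTensor : DCoh.sheafHom F ≅ tR X.sheaf (dual (O := X.sheaf) F) :=
  sheafHomIso F ≪≫ (cIso (O := X.sheaf) F (isLocFF_of_isFinLocFree F hF)).symm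

include hF in
theorem preservesFiniteColimits_sheafHom : PreservesFiniteColimits (DCoh.sheafHom F) := by
  have h : PreservesFiniteColimits (tR X.sheaf (dual (O := X.sheaf) F)) :=
    preservesFiniteColimits_tR' _
  exact @preservesFiniteColimits_of_natIso _ _ _ _ _ _ (sheafHomIsoTensor F hF).symm h

include hF in
theorem injective_sheafHom_obj (I : X.Modules) (hI : Injective I) :
    Injective ((DCoh.sheafHom F).obj I) := by
  have h1 : (tR X.sheaf (dual (O := X.sheaf) F)).PreservesInjectiveObjects :=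
    preservesInjectiveObjects_tR_dual (O := X.sheaf) F (isLocFF_of_isFinLocFree F hF)
  have h2 : Injective ((tR X.sheaf (dual (O := X.sheaf) F)).obj I) :=
    Functor.injective_obj_of_injective _ hI
  exact Injective.of_iso ((sheafHomIsoTensor F hF).app I).symm h2

instance : (DCoh.sheafHom F).Additive := (DCoh.sheafHomAdj F).right_adjoint_additive

instance : PreservesFiniteLimits (DCoh.sheafHom F) := by
  have : PreservesLimitsOfSize.{0, 0} (DCoh.sheafHom F) :=
    (DCoh.sheafHomAdj F).rightAdjoint_preservesLimits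
  infer_instance

include hF in
/-- **`Ext^n(F ⊗ A, B) ≃ₗ[k] Ext^n(A, Hom(F, B))`** for `F` finite locally free -/
theorem nonempty_ext_adj (A B : X.Modules) (n : ℕ) :
    Nonempty (Ext ((DCoh.tensorBi.obj F).obj A) B n ≃ₗ[k] Ext A ((DCoh.sheafHom F).obj B) n) := by
  haveI := preservesFiniteColimits_sheafHom F hF
  haveI : EnoughInjectives X.Modules :=
    Groth.Agent.S0485.result (Opens.grothendieckTopology X) X.ringCatSheaf
  have hb := adjExt_bijective (DCoh.sheafHomAdj F) A (fun I hI p y => by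
    haveI := injective_sheafHom_obj F hF I hI
    exact Ext.eq_zero_of_injective y) n B
  refine ⟨LinearEquiv.ofBijective
    { toFun := adjExt (DCoh.sheafHomAdj F) A B n
      map_add' := adjExt_add (DCoh.sheafHomAdj F) A B n
      map_smul' := fun a x => ?_ } hb⟩
  change adjExt (DCoh.sheafHomAdj F) A B n (a • x) = a • adjExt (DCoh.sheafHomAdj F) A B n x
  rw [Ext.smul_eq_comp_mk₀, adjExt_comp_mk₀, sheafHom_map_smul, ← Ext.smul_eq_comp_mk₀]

include hF in
/-- **`Ext^n(F, B) ≃ₗ[k] H^n(X, Hom(F, B))`** for `F` finite locally free -/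
theorem nonempty_ext_HH (B : X.Modules) (n : ℕ) :
    Nonempty (Ext F B n ≃ₗ[k] Coh.HH X ((DCoh.sheafHom F).obj B) n) := by
  obtain ⟨e3⟩ := nonempty_ext_adj (k := k) F hF (Coh.structureModule X) B n
  let ρ : (DCoh.tensorBi.obj F).obj (Coh.structureModule X) ≅ F := rU (O := X.sheaf) F
  have hbij : Function.Bijective
      (Ext.precompOfLinear (Ext.mk₀ ρ.hom) k B (zero_add n)) := by
    refine Function.bijective_iff_has_inverse.mpr
      ⟨fun y => (Ext.mk₀ ρ.inv).comp y (zero_add n), ?_, ?_⟩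
    · intro x
      change (Ext.mk₀ ρ.inv).comp ((Ext.mk₀ ρ.hom).comp x (zero_add n)) (zero_add n) = x
      rw [Ext.mk₀_comp_mk₀_assoc, Iso.inv_hom_id, Ext.mk₀_id_comp]
    · intro y
      change (Ext.mk₀ ρ.hom).comp ((Ext.mk₀ ρ.inv).comp y (zero_add n)) (zero_add n) = y
      rw [Ext.mk₀_comp_mk₀_assoc, Iso.hom_inv_id, Ext.mk₀_id_comp]
  exact ⟨(LinearEquiv.ofBijective _ hbij).trans (e3.trans (extUnitEquiv _ n))⟩

end SheafHom

end Groth.Agent.Lib.R2H2.SheafHomExt
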