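import Mathlib
import Groth.Prelude.Def_DDual2
import Groth.Prelude.Def_KLin
import Groth.Agent.Lib.H6xSdE
import Groth.Agent.Lib.H6xSdH
import Groth.Agent.Lib.H6xSdI
import Groth.Agent.Lib.R2H2SheafHomExt
import Groth.Agent.Lib.R2H2DualRep
import Groth.Agent.Lib.R2H1CurveEuler
set_option backward.isDefEq.respectTransparency.types false

/-!
# The dualizing module `H^{-n}(a(O_{Spec k}))` represents `F ↦ H^n(X, F)^*` (helper6)
-/

set_option autoImplicit false
set_option linter.style.haveILetI false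
universe u
open CategoryTheory CategoryTheory.Limits AlgebraicGeometry Abelian

attribute [local instance] HasDerivedCategory.standard

namespace Groth.Agent.Lib.H6xSd

open Groth.Agent.Lib.R2H2.SheafHomExt Groth.Agent.Lib.R2H2.HHLin Groth.Agent.Lib.R2H2.DualRep
  Groth.Agent.Lib.H6xQcTrunc

section HH

variable (k : Type u) [Field k] (X : Scheme.{u}) [X.Over (Spec (CommRingCat.of k))]

/-- `Hom_{D(X)}(O_X[0], F[n]) ≃ H^n(X, F)`, `k`-linearly -/
noncomputable def gammaEquiv (F : X.Modules) (n : ℕ) :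
    (DCoh.inD X (Coh.structureModule X) ⟶
      ((DerivedCategory.singleFunctor X.Modules 0).obj F)⟦(n : ℤ)⟧) ≃ₗ[k] Coh.HH X F n :=
  haveI := hasExt_modules (X := X)
  (Ext.homLinearEquiv (R := k) (X := Coh.structureModule X) (Y := F) (n := n)).symm ≪≫ₗ
    extUnitEquiv (k := k) F n

lemma gammaEquiv_comp {F F' : X.Modules} (g : F ⟶ F') (n : ℕ)
    (s : DCoh.inD X (Coh.structureModule X) ⟶
      ((DerivedCategory.singleFunctor X.Modules 0).obj F)⟦(n : ℤ)⟧) :
    gammaEquiv k X F' n (s ≫ ((DerivedCategory.singleFunctor X.Modules 0).map g)⟦(n : ℤ)⟧') =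
      HmapL g n (gammaEquiv k X F n s) := by
  haveI := hasExt_modules (X := X)
  obtain ⟨x, rfl⟩ := (Ext.homLinearEquiv (R := k) (X := Coh.structureModule X) (Y := F)
    (n := n)).surjective s
  have h1 : (Ext.homLinearEquiv (R := k) (X := Coh.structureModule X) (Y := F) (n := n)) x ≫
      ((DerivedCategory.singleFunctor X.Modules 0).map g)⟦(n : ℤ)⟧' =
      (Ext.homLinearEquiv (R := k) (X := Coh.structureModule X) (Y := F') (n := n))
        (x.comp (Ext.mk₀ g) (add_zero n)) := by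
    change x.hom ≫ _ = (x.comp (Ext.mk₀ g) (add_zero n)).hom
    rw [Ext.comp_hom, Ext.mk₀_hom, ShiftedHom.comp_mk₀]
  rw [h1]
  change extUnitEquiv (k := k) F' n ((Ext.homLinearEquiv (R := k)).symm
      ((Ext.homLinearEquiv (R := k)) (x.comp (Ext.mk₀ g) (add_zero n)))) =
    HmapL g n (extUnitEquiv (k := k) F n ((Ext.homLinearEquiv (R := k)).symm
      ((Ext.homLinearEquiv (R := k)) x)))
  rw [LinearEquiv.symm_apply_apply, LinearEquiv.symm_apply_apply]
  exact extUnitFun_comp_mk₀ n x g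

end HH

section main

variable (k : Type u) [Field k] (X : Scheme.{u}) [X.Over (Spec (CommRingCat.of k))]
  [DCoh.HasRpush (X ↘ Spec (CommRingCat.of k))]
  (h : DCoh.RpushPreservesQCoh (X ↘ Spec (CommRingCat.of k)))
  [DCoh.HasShriek (X ↘ Spec (CommRingCat.of k)) h]
  (OY : DCoh.DQCoh (Spec (CommRingCat.of k)))

/-- the cohomology sheaves of the dualizing complex are quasi-coherent -/
theorem isQCoh_dualizingMod (m : ℕ) :
    Coh.IsQCoh (DCoh.dualizingMod (X ↘ Spec (CommRingCat.of k)) h OY m) :=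
  ((DCoh.shriek (X ↘ Spec (CommRingCat.of k)) h).obj OY).property _

variable [IsProper (X ↘ Spec (CommRingCat.of k))]
  (hOY : Nonempty (OY.obj ≅ DCoh.inD (Spec (CommRingCat.of k))
    (Coh.structureModule (Spec (CommRingCat.of k)))))
  (n : ℕ) (hn : topologicalKrullDim X ≤ n)

include hOY hn in
/-- **(A)** the dualizing complex of a proper `k`-scheme of dimension `≤ n` lives in degrees
`≥ -n` -/
theorem isGE_dualizingCx_of_proper :
    (DCoh.dualizingCx (X ↘ Spec (CommRingCat.of k)) h OY).IsGE (-(n : ℤ)) := by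
  obtain ⟨eO⟩ := hOY
  haveI : OY.obj.IsGE 0 := DerivedCategory.TStructure.t.isGE_of_iso eO.symm 0
  haveI := Groth.Agent.Lib.R2H1.CurveEuler.isNoetherian_of_proper k X
  exact isGE_dualizingCx (X ↘ Spec (CommRingCat.of k)) h OY (n : ℤ)
    (fun E hE a _ => isLE_Rpush_of_dim (X ↘ Spec (CommRingCat.of k)) n hn E hE a)

include hOY hn in
theorem isZero_HD_dualizingCx (i : ℤ) (hi : i < -(n : ℤ)) :
    IsZero (DCoh.HD (DCoh.dualizingCx (X ↘ Spec (CommRingCat.of k)) h OY) i) := by
  haveI := isGE_dualizingCx_of_proper k X h OY hOY n hn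
  exact DerivedCategory.isZero_of_isGE _ (-(n : ℤ)) i hi

include hOY hn in
/-- **(B)** the dualizing module represents `F ↦ H^n(X, F)^*` on quasi-coherent modules -/
theorem exists_rep :
    ∃ t : Coh.HH X (DCoh.dualizingMod (X ↘ Spec (CommRingCat.of k)) h OY n) n →ₗ[k] k,
      ∀ F : X.Modules, Coh.IsQCoh F → Rep t F := by
  haveI := isGE_dualizingCx_of_proper k X h OY hOY n hn
  obtain ⟨eO⟩ := hOY
  set K := DCoh.dualizingCx (X ↘ Spec (CommRingCat.of k)) h OY with hK
  set ω := DCoh.dualizingMod (X ↘ Spec (CommRingCat.of k)) h OY n with hω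
  obtain ⟨c, hc⟩ := exists_heart_map K (-(n : ℤ))
  let σ := (DerivedCategory.singleFunctors X.Modules).shiftIso (n : ℤ) (-(n : ℤ)) 0 (by omega)
  let c' : ((DerivedCategory.singleFunctor X.Modules 0).obj ω)⟦(n : ℤ)⟧ ⟶ K := σ.hom.app ω ≫ c
  have hΦ : ∀ F : X.Modules, Function.Bijective (fun φ' : F ⟶ ω =>
      ((DerivedCategory.singleFunctor X.Modules 0).map φ')⟦(n : ℤ)⟧' ≫ c') := by
    intro F
    have h1 : (fun φ' : F ⟶ ω =>
        ((DerivedCategory.singleFunctor X.Modules 0).map φ')⟦(n : ℤ)⟧' ≫ c') =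
        (fun y => σ.hom.app F ≫ y) ∘ (fun φ' : F ⟶ ω =>
          (DerivedCategory.singleFunctor X.Modules (-(n : ℤ))).map φ' ≫ c) := by
      funext φ'
      have := σ.hom.naturality φ'
      simp only [Functor.comp_map] at this
      simp only [Function.comp_apply, c']
      rw [← Category.assoc, ← Category.assoc, this]
    rw [h1]
    refine Function.Bijective.comp ?_ (hc F)
    exact ⟨fun a b hab => by simpa using hab, fun y => ⟨σ.inv.app F ≫ y, by simp⟩⟩
  let t : Coh.HH X ω n →ₗ[k] k :=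
    traceD k X h OY eO ∘ₗ Linear.rightComp k _ c' ∘ₗ (gammaEquiv k X ω n).symm.toLinearMap
  refine ⟨t, fun F hF ψ => ?_⟩
  have hE : DCoh.IsQCohD (((DerivedCategory.singleFunctor X.Modules 0).obj F)⟦(n : ℤ)⟧) :=
    fun i => isQCoh_of_iso (((DerivedCategory.homologyFunctor X.Modules 0).shiftIso (n : ℤ) i
      ((n : ℤ) + i) rfl).app _).symm (isQCohD_single F hF _)
  have key : ∀ (φ' : F ⟶ ω) (x : Coh.HH X F n),
      t (Sheaf.H.map ((SheafOfModules.toSheaf X.ringCatSheaf).map φ') n x) =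
        traceD k X h OY eO ((gammaEquiv k X F n).symm x ≫
          ((DerivedCategory.singleFunctor X.Modules 0).map φ')⟦(n : ℤ)⟧' ≫ c') := by
    intro φ' x
    have h2 := gammaEquiv_comp k X φ' n ((gammaEquiv k X F n).symm x)
    rw [LinearEquiv.apply_symm_apply] at h2
    change traceD k X h OY eO ((gammaEquiv k X ω n).symm (HmapL φ' n x) ≫ c') = _
    rw [← h2, LinearEquiv.symm_apply_apply, Category.assoc]
  obtain ⟨φ, hφ, hu⟩ := existsUnique_traceD k X h OY eO _ hE
    (ψ ∘ₗ (gammaEquiv k X F n).toLinearMap)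
  obtain ⟨φ', rfl⟩ := (hΦ F).2 φ
  refine ⟨φ', fun x => ?_, fun φ'' hφ'' => ?_⟩
  · rw [key]
    have := hφ ((gammaEquiv k X F n).symm x)
    rw [LinearMap.comp_apply, LinearEquiv.coe_coe, LinearEquiv.apply_symm_apply] at this
    exact this
  · apply (hΦ F).1
    apply hu
    intro s
    have := hφ'' (gammaEquiv k X F n s)
    rw [key, LinearEquiv.symm_apply_apply] at this
    exact this

end main

end Groth.Agent.Lib.H6xSd
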