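import Mathlib
import Groth.Prelude.Def_DDual2
import Groth.Prelude.Def_KLin
import Groth.Agent.Lib.H6xSdJ
set_option backward.isDefEq.respectTransparency.types false

/-!
# Variants of the duality bridge under a cohomological-dimension hypothesis (helper6)

* `isLE_Rpush_of_hvan`: `f : X ⟶ S` quasi-compact quasi-separated, `S` affine, and
  `H^p(X, M) = 0` for `p > n` and all quasi-coherent `M`: `Rf_*` maps `D_QCoh^{≤ a}` to `D^{≤ a+n}`.
* `exists_rep_of_isGE`: representability of `F ↦ H^n(X, F)^*` by `H^{-n}(a(O))` whenever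
  `a(O) ∈ D^{≥ -n}`.
* `isGE_dualizingCx_of_hvan`, `exists_rep_of_hvan`.
-/

set_option autoImplicit false
set_option linter.style.haveILetI false
universe u
open CategoryTheory CategoryTheory.Limits AlgebraicGeometry Abelian

attribute [local instance] HasDerivedCategory.standard

namespace Groth.Agent.Lib.H6xSd

open Groth.Agent.Lib.R2H2.SheafHomExt Groth.Agent.Lib.R2H2.HHLin Groth.Agent.Lib.R2H2.DualRep
  Groth.Agent.Lib.H6xQcTrunc Groth.Agent.Lib.H6xRpushQc Groth.Agent.Lib.H6xRpushTri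
  DerivedCategory Groth.Agent.S14388

section bound

variable {X S : Scheme.{u}} (f : X ⟶ S) [DCoh.HasRpush f]

theorem isLE_Rpush_of_hvan [QuasiCompact f] [QuasiSeparated f] [IsAffine S]
    (n : ℕ) (hvan : ∀ M : X.Modules, Coh.IsQCoh M → ∀ p : ℕ, n < p → Subsingleton (Coh.HH X M p))
    (E : DCoh.D X) (hE : DCoh.IsQCohD E) (a : ℤ)
    [E.IsLE a] : ((DCoh.Rpush f).obj E).IsLE (a + n) := by
  haveI := Groth.Agent.Lib.R2H3.RpushRestrict.hasInjectiveResolutions_modules X
  have hmod : ∀ M : X.Modules, Coh.IsQCoh M → ∀ p : ℕ, n + 1 ≤ p →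
      IsZero ((Coh.Rpush f p).obj M) := by
    intro M hM p hp
    haveI : M.IsQuasicoherent := hM
    exact Groth.Agent.Lib.R2H2.ProperCoh.isZero_Rpush_of_subsingleton_HH f M p
      (hvan M hM p (by omega))
  obtain ⟨N, hN⟩ := main_bd f
  obtain ⟨c, hc⟩ : ∃ c : ℤ, c = a - |N| := ⟨_, rfl⟩
  have hT := tt.triangleLTGE_distinguished c E
  have hq₁ := isQCohD_truncLT E hE c
  have hq₂ := isQCohD_truncGE E hE c
  haveI : ((tt.truncLT c).obj E).IsLE (c - 1) :=
    inferInstanceAs (tt.IsLE ((tt.truncLT c).obj E) (c - 1))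
  haveI h₁ := isLE_Rpush_of_bd f hN ((tt.truncLT c).obj E) hq₁ (c - 1)
  haveI : ((tt.truncGE c).obj E).IsLE a :=
    inferInstanceAs (tt.IsLE ((tt.truncGE c).obj E) a)
  obtain ⟨T', hT', ⟨e₁⟩, ⟨e₂⟩, ⟨e₃⟩⟩ := exists_distTriang_Rpush f _ hT
  rw [isLE_iff]
  intro i hi
  refine IsZero.of_iso ?_ ((homologyFunctor _ i).mapIso e₂.symm)
  refine (HomologySequence.exact₂ T' hT' i).isZero_X₂ ?_ ?_
  · refine (IsZero.of_iso ?_ ((homologyFunctor _ i).mapIso e₁)).eq_of_src _ _
    exact isZero_of_isLE ((DCoh.Rpush f).obj ((tt.truncLT c).obj E)) (N + (c - 1) - 1) i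
      (by have := le_abs_self N; omega)
  · refine (IsZero.of_iso ?_ ((homologyFunctor _ i).mapIso e₃)).eq_of_tgt _ _
    exact Groth.Agent.Lib.H6xRDBridge.isZero_homology_RG_of_bounds
      (Scheme.Modules.pushforward f) (fun M => Coh.IsQCoh M) (n + 1) hmod
      ((tt.truncGE c).obj E) hq₂ c a
      (fun j hj => by
        rcases hj with hj | hj
        · exact isZero_of_isGE ((tt.truncGE c).obj E) c j hj
        · exact isZero_of_isLE ((tt.truncGE c).obj E) a j hj) i (Or.inr (by push_cast; omega))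

end bound

section main

variable (k : Type u) [Field k] (X : Scheme.{u}) [X.Over (Spec (CommRingCat.of k))]
  [DCoh.HasRpush (X ↘ Spec (CommRingCat.of k))]
  (h : DCoh.RpushPreservesQCoh (X ↘ Spec (CommRingCat.of k)))
  [DCoh.HasShriek (X ↘ Spec (CommRingCat.of k)) h]
  (OY : DCoh.DQCoh (Spec (CommRingCat.of k)))
  (hOY : Nonempty (OY.obj ≅ DCoh.inD (Spec (CommRingCat.of k))
    (Coh.structureModule (Spec (CommRingCat.of k)))))
  (n : ℕ)

include hOY in
/-- representability of `F ↦ H^n(X, F)^*` whenever the dualizing complex lives in degrees `≥ -n` -/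
theorem exists_rep_of_isGE
    [(DCoh.dualizingCx (X ↘ Spec (CommRingCat.of k)) h OY).IsGE (-(n : ℤ))] :
    ∃ t : Coh.HH X (DCoh.dualizingMod (X ↘ Spec (CommRingCat.of k)) h OY n) n →ₗ[k] k,
      ∀ F : X.Modules, Coh.IsQCoh F → Rep t F := by
  obtain ⟨eO⟩ := hOY
  set K := DCoh.dualizingCx (X ↘ Spec (CommRingCat.of k)) h OY with hK
  set ω := DCoh.dualizingMod (X ↘ Spec (CommRingCat.of k)) h OY n with hω
  obtain ⟨c, hc⟩ := exists_heart_map K (-(n : ℤ))
  let σ := (DerivedCategory.singleFunctors X.Modules).shiftIso (n : ℤ) (-(n : ℤ)) 0 (by omega)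
  let c' : ((DerivedCategory.singleFunctor X.Modules 0).obj ω)⟦(n : ℤ)⟧ ⟶ K := σ.hom.app ω ≫ c
  have hΦ : ∀ F : X.Modules, Function.Bijective (fun φ' : F ⟶ ω =>
      ((DerivedCategory.singleFunctor X.Modules 0).map φ')⟦(n : ℤ)⟧' ≫ c') := by
    intro F
    have h1 : (fun φ' : F ⟶ ω =>
        ((DerivedCategory.singleFunctor X.Modules 0).map φ')⟦(n : ℤ)⟧' ≫ c') =
        (fun y => σ.hom.app F ≫ y) ∘ (fun φ' : F ⟶ ω =>
          (DerivedCategory.singleFunctor X.Modules (-(n : ℤ))).map φ' ≫ c) := by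
      funext φ'
      have := σ.hom.naturality φ'
      simp only [Functor.comp_map] at this
      simp only [Function.comp_apply, c']
      rw [← Category.assoc, ← Category.assoc, this]
    rw [h1]
    refine Function.Bijective.comp ?_ (hc F)
    exact ⟨fun a b hab => by simpa using hab, fun y => ⟨σ.inv.app F ≫ y, by simp⟩⟩
  let t : Coh.HH X ω n →ₗ[k] k :=
    traceD k X h OY eO ∘ₗ Linear.rightComp k _ c' ∘ₗ (gammaEquiv k X ω n).symm.toLinearMap
  refine ⟨t, fun F hF ψ => ?_⟩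
  have hE : DCoh.IsQCohD (((DerivedCategory.singleFunctor X.Modules 0).obj F)⟦(n : ℤ)⟧) :=
    fun i => isQCoh_of_iso (((DerivedCategory.homologyFunctor X.Modules 0).shiftIso (n : ℤ) i
      ((n : ℤ) + i) rfl).app _).symm (isQCohD_single F hF _)
  have key : ∀ (φ' : F ⟶ ω) (x : Coh.HH X F n),
      t (Sheaf.H.map ((SheafOfModules.toSheaf X.ringCatSheaf).map φ') n x) =
        traceD k X h OY eO ((gammaEquiv k X F n).symm x ≫
          ((DerivedCategory.singleFunctor X.Modules 0).map φ')⟦(n : ℤ)⟧' ≫ c') := by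
    intro φ' x
    have h2 := gammaEquiv_comp k X φ' n ((gammaEquiv k X F n).symm x)
    rw [LinearEquiv.apply_symm_apply] at h2
    change traceD k X h OY eO ((gammaEquiv k X ω n).symm (HmapL φ' n x) ≫ c') = _
    rw [← h2, LinearEquiv.symm_apply_apply, Category.assoc]
  obtain ⟨φ, hφ, hu⟩ := existsUnique_traceD k X h OY eO _ hE
    (ψ ∘ₗ (gammaEquiv k X F n).toLinearMap)
  obtain ⟨φ', rfl⟩ := (hΦ F).2 φ
  refine ⟨φ', fun x => ?_, fun φ'' hφ'' => ?_⟩
  · rw [key]
    have := hφ ((gammaEquiv k X F n).symm x)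
    rw [LinearMap.comp_apply, LinearEquiv.coe_coe, LinearEquiv.apply_symm_apply] at this
    exact this
  · apply (hΦ F).1
    apply hu
    intro s
    have := hφ'' (gammaEquiv k X F n s)
    rw [key, LinearEquiv.symm_apply_apply] at this
    exact this


variable [QuasiCompact (X ↘ Spec (CommRingCat.of k))] [QuasiSeparated (X ↘ Spec (CommRingCat.of k))]
  (hvan : ∀ M : X.Modules, Coh.IsQCoh M → ∀ p : ℕ, n < p → Subsingleton (Coh.HH X M p))

include hOY hvan in
theorem isGE_dualizingCx_of_hvan :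
    (DCoh.dualizingCx (X ↘ Spec (CommRingCat.of k)) h OY).IsGE (-(n : ℤ)) := by
  obtain ⟨eO⟩ := hOY
  haveI : OY.obj.IsGE 0 := DerivedCategory.TStructure.t.isGE_of_iso eO.symm 0
  exact isGE_dualizingCx (X ↘ Spec (CommRingCat.of k)) h OY (n : ℤ)
    (fun E hE a _ => isLE_Rpush_of_hvan (X ↘ Spec (CommRingCat.of k)) n hvan E hE a)

include hOY hvan in
theorem exists_rep_of_hvan :
    ∃ t : Coh.HH X (DCoh.dualizingMod (X ↘ Spec (CommRingCat.of k)) h OY n) n →ₗ[k] k,
      ∀ F : X.Modules, Coh.IsQCoh F → Rep t F := by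
  haveI := isGE_dualizingCx_of_hvan k X h OY hOY n hvan
  exact exists_rep_of_isGE k X h OY hOY n

end main

end Groth.Agent.Lib.H6xSd
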