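import Mathlib
import Groth.Prelude.Def_GrSeg

set_option autoImplicit false
universe u
open scoped TensorProduct
open DirectSum

namespace Groth.Agent.Lib.R2Lead.SegreFG

/-- **Dickson's lemma**: every subset of `ι → ℕ` (`ι` finite) has a finite subset below every
element. -/
theorem dickson {ι : Type*} [Finite ι] (s : Set (ι → ℕ)) :
    ∃ t : Finset (ι → ℕ), (↑t : Set (ι → ℕ)) ⊆ s ∧ ∀ x ∈ s, ∃ y ∈ t, y ≤ x := by
  classical
  let m : Set (ι → ℕ) := {x | Minimal (· ∈ s) x}
  have hanti : IsAntichain (· ≤ ·) m := setOf_minimal_antichain _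
  have hpwo : m.IsPWO := Set.isPWO_of_wellQuasiOrderedLE m
  have hfin : m.Finite := hanti.finite_of_partiallyWellOrderedOn hpwo
  refine ⟨hfin.toFinset, ?_, ?_⟩
  · intro x hx
    rw [Set.Finite.coe_toFinset] at hx
    exact hx.prop
  · intro x hx
    obtain ⟨y, hyx, hy⟩ := exists_minimal_le_of_wellFoundedLT (· ∈ s) x hx
    exact ⟨y, by rw [Set.Finite.mem_toFinset]; exact hy, hyx⟩

section Gens

variable (k : Type u) [Field k] {R : Type u} [CommRing R] [Algebra k R] (𝒜 : ℤ → Submodule k R)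
  [GradedAlgebra 𝒜]

/-- homogeneous algebra generators -/
theorem exists_homog_alg_gens [Algebra.FiniteType k R] :
    ∃ (I : Type u) (_ : Fintype I) (r : I → R) (d : I → ℤ),
      (∀ i, r i ∈ 𝒜 (d i)) ∧ Algebra.adjoin k (Set.range r) = ⊤ := by
  classical
  obtain ⟨F, hF⟩ := Algebra.FiniteType.out (R := k) (A := R)
  let I := Σ (x : F), (DirectSum.decompose 𝒜 x.1).support
  refine ⟨I, inferInstance, fun i => ((DirectSum.decompose 𝒜) i.1.1 i.2.1 : R), fun i => i.2.1,
    fun i => (DirectSum.decompose 𝒜 i.1.1 i.2.1).2, ?_⟩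
  rw [← top_le_iff, ← hF, Algebra.adjoin_le_iff]
  intro s hs
  rw [← DirectSum.sum_support_decompose 𝒜 s]
  exact sum_mem fun n hn => Algebra.subset_adjoin ⟨⟨⟨s, hs⟩, n, hn⟩, rfl⟩

variable {k}

/-- monomials in the generators -/
noncomputable def mono {I : Type u} [Fintype I] (r : I → R) (α : I → ℕ) : R := ∏ i, r i ^ α i

/-- degree of a monomial -/
def mdeg {I : Type u} [Fintype I] (d : I → ℤ) (α : I → ℕ) : ℤ := ∑ i, (α i : ℤ) * d i

theorem mono_mem {I : Type u} [Fintype I] (r : I → R) (d : I → ℤ) (hr : ∀ i, r i ∈ 𝒜 (d i))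
    (α : I → ℕ) : mono r α ∈ 𝒜 (mdeg d α) := by
  classical
  unfold mono mdeg
  refine SetLike.prod_mem_graded (A := 𝒜) (fun i => (α i : ℤ) * d i) (fun i => r i ^ α i) ?_
  intro i _
  have := SetLike.pow_mem_graded (A := 𝒜) (α i) (hr i)
  rwa [nsmul_eq_mul] at this

theorem mono_add {I : Type u} [Fintype I] (r : I → R) (α β : I → ℕ) :
    mono r (α + β) = mono r α * mono r β := by
  unfold mono
  rw [← Finset.prod_mul_distrib]
  exact Finset.prod_congr rfl fun i _ => pow_add _ _ _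

theorem mdeg_add {I : Type u} [Fintype I] (d : I → ℤ) (α β : I → ℕ) :
    mdeg d (α + β) = mdeg d α + mdeg d β := by
  unfold mdeg
  rw [← Finset.sum_add_distrib]
  exact Finset.sum_congr rfl fun i _ => by push_cast [Pi.add_apply]; ring

/-- every element is a `k`-combination of monomials -/
theorem mem_span_mono {I : Type u} [Fintype I] (r : I → R)
    (hr : Algebra.adjoin k (Set.range r) = ⊤) (x : R) :
    x ∈ Submodule.span k (Set.range (mono r)) := by
  classical
  have hx : x ∈ Algebra.adjoin k (Set.range r) := hr ▸ Algebra.mem_top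
  rw [Algebra.adjoin_range_eq_range_aeval] at hx
  obtain ⟨P, rfl⟩ := hx
  show MvPolynomial.aeval r P ∈ _
  induction P using MvPolynomial.induction_on' with
  | monomial α c =>
    rw [MvPolynomial.aeval_monomial]
    rw [← Algebra.smul_def]
    refine Submodule.smul_mem _ _ (Submodule.subset_span ⟨α, ?_⟩)
    unfold mono
    rw [Finsupp.prod_fintype _ _ (fun i => pow_zero _)]
  | add P Q hP hQ =>
    rw [map_add]
    exact add_mem hP hQ

end Gens

section ModGens

variable {k : Type u} [Field k] {R : Type u} [CommRing R] [Algebra k R] (𝒜 : ℤ → Submodule k R)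
  [GradedAlgebra 𝒜] {M : Type u} [AddCommGroup M] [Module R M] [Module k M] [IsScalarTower k R M]
  (ℳ : ℤ → AddSubgroup M) [DirectSum.Decomposition ℳ] [SetLike.GradedSMul 𝒜 ℳ]

/-- homogeneous module generators -/
theorem exists_homog_mod_gens [Module.Finite R M] :
    ∃ (I : Type u) (_ : Fintype I) (m : I → M) (u : I → ℤ),
      (∀ i, m i ∈ ℳ (u i)) ∧ Submodule.span R (Set.range m) = ⊤ := by
  classical
  obtain ⟨F, hF⟩ := Module.Finite.fg_top (R := R) (M := M)
  let I := Σ (x : F), (DirectSum.decompose ℳ x.1).support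
  refine ⟨I, inferInstance, fun i => ((DirectSum.decompose ℳ) i.1.1 i.2.1 : M), fun i => i.2.1,
    fun i => (DirectSum.decompose ℳ i.1.1 i.2.1).2, ?_⟩
  rw [← top_le_iff, ← hF, Submodule.span_le]
  intro s hs
  rw [← DirectSum.sum_support_decompose ℳ s]
  exact sum_mem fun n hn => Submodule.subset_span ⟨⟨⟨s, hs⟩, n, hn⟩, rfl⟩

include 𝒜 in
theorem smul_mem_piece (c : k) {x : M} {e : ℤ} (hx : x ∈ ℳ e) : c • x ∈ ℳ e := by
  rw [← algebraMap_smul R c x]
  have h0 : algebraMap k R c ∈ 𝒜 0 := SetLike.algebraMap_mem_graded 𝒜 c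
  have := SetLike.GradedSMul.smul_mem h0 hx
  rwa [vadd_eq_add, zero_add] at this

include 𝒜 in
theorem decompose_smul (c : k) (x : M) (n : ℤ) :
    ((DirectSum.decompose ℳ (c • x)) n : M) = c • ((DirectSum.decompose ℳ x) n : M) := by
  classical
  induction x using DirectSum.Decomposition.inductionOn ℳ with
  | zero => simp
  | homogeneous x =>
    obtain ⟨x, hx⟩ := x
    rename_i e
    have hcx : c • x ∈ ℳ e := smul_mem_piece 𝒜 ℳ c hx
    by_cases hne : n = e
    · subst hne
      rw [DirectSum.decompose_of_mem_same ℳ hcx, DirectSum.decompose_of_mem_same ℳ hx]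
    · rw [DirectSum.decompose_of_mem_ne ℳ hcx (Ne.symm hne),
        DirectSum.decompose_of_mem_ne ℳ hx (Ne.symm hne), smul_zero]
  | add x y hx hy =>
    rw [smul_add, DirectSum.decompose_add, DirectSum.decompose_add]
    simp only [DirectSum.add_apply, AddSubgroup.coe_add]
    rw [hx, hy, smul_add]

/-- the spanning set of the degree `n` piece -/
def pieceGens {I J : Type u} [Fintype I] (r : I → R) (d : I → ℤ) (m : J → M) (u : J → ℤ) (n : ℤ) :
    Set M :=
  {y | ∃ (α : I → ℕ) (j : J), mdeg d α + u j = n ∧ y = mono r α • m j}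

theorem mono_smul_mem {I J : Type u} [Fintype I] (r : I → R) (d : I → ℤ)
    (hr : ∀ i, r i ∈ 𝒜 (d i)) (m : J → M) (u : J → ℤ) (hm : ∀ j, m j ∈ ℳ (u j))
    (α : I → ℕ) (j : J) : mono r α • m j ∈ ℳ (mdeg d α + u j) := by
  have := SetLike.GradedSMul.smul_mem (mono_mem 𝒜 r d hr α) (hm j)
  rwa [vadd_eq_add] at this

theorem piece_le_span {I J : Type u} [Fintype I] [Fintype J] (r : I → R) (d : I → ℤ)
    (hr : ∀ i, r i ∈ 𝒜 (d i)) (hrtop : Algebra.adjoin k (Set.range r) = ⊤)
    (m : J → M) (u : J → ℤ) (hm : ∀ j, m j ∈ ℳ (u j))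
    (hmtop : Submodule.span R (Set.range m) = ⊤) (n : ℤ) (x : M) (hx : x ∈ ℳ n) :
    x ∈ Submodule.span k (pieceGens r d m u n) := by
  classical
  -- every element is a `k`-combination of `mono r α • m j`
  have hall : ∀ y : M, y ∈ Submodule.span k {z | ∃ (α : I → ℕ) (j : J), z = mono r α • m j} := by
    intro y
    have hy : y ∈ Submodule.span R (Set.range m) := hmtop ▸ Submodule.mem_top
    rw [Submodule.mem_span_range_iff_exists_fun] at hy
    obtain ⟨a, rfl⟩ := hy
    refine Submodule.sum_mem _ fun j _ => ?_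
    have ha := mem_span_mono r hrtop (a j)
    refine Submodule.span_induction (p := fun b _ => b • m j ∈
      Submodule.span k {z | ∃ (α : I → ℕ) (j : J), z = mono r α • m j}) ?_ ?_ ?_ ?_ ha
    · rintro _ ⟨α, rfl⟩
      exact Submodule.subset_span ⟨α, j, rfl⟩
    · rw [zero_smul]; exact zero_mem _
    · intro b b' _ _ hb hb'
      rw [add_smul]; exact add_mem hb hb'
    · intro c b _ hb
      rw [smul_assoc]; exact Submodule.smul_mem _ _ hb
  -- project to degree `n`
  have hproj : ∀ y : M, y ∈ Submodule.span k {z | ∃ (α : I → ℕ) (j : J), z = mono r α • m j} →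
      ((DirectSum.decompose ℳ y) n : M) ∈ Submodule.span k (pieceGens r d m u n) := by
    intro y hy
    induction hy using Submodule.span_induction with
    | mem z hz =>
      obtain ⟨α, j, rfl⟩ := hz
      have hmem := mono_smul_mem 𝒜 ℳ r d hr m u hm α j
      by_cases hne : mdeg d α + u j = n
      · subst hne
        rw [DirectSum.decompose_of_mem_same ℳ hmem]
        exact Submodule.subset_span ⟨α, j, rfl, rfl⟩
      · rw [DirectSum.decompose_of_mem_ne ℳ hmem hne]
        exact zero_mem _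
    | zero => simp
    | add y z _ _ hy hz =>
      rw [DirectSum.decompose_add]
      simp only [DirectSum.add_apply, AddSubgroup.coe_add]
      exact add_mem hy hz
    | smul c y _ hy =>
      rw [decompose_smul 𝒜 ℳ]
      exact Submodule.smul_mem _ _ hy
  have := hproj x (hall x)
  rwa [DirectSum.decompose_of_mem_same ℳ hx] at this

end ModGens

section Main

variable (k : Type u) [Field k] (R : Type u) [CommRing R] [Algebra k R] (𝒜 : ℤ → Submodule k R)
  [GradedAlgebra 𝒜] [Algebra.FiniteType k R] (S : Type u) [CommRing S] [Algebra k S]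
  (ℬ : ℤ → Submodule k S) [GradedAlgebra ℬ] [Algebra.FiniteType k S] (T : Type u) [CommRing T]
  [Algebra k T] (𝒯 : ℤ → Submodule k T) [GradedAlgebra 𝒯] (ψ : T →ₐ[k] TensorProduct k R S)
  (hT : GrSeg.IsSegreRing 𝒜 ℬ 𝒯 ψ) (M : Type u) [AddCommGroup M] [Module R M] [Module k M]
  [IsScalarTower k R M] (ℳ : ℤ → AddSubgroup M) [DirectSum.Decomposition ℳ]
  [SetLike.GradedSMul 𝒜 ℳ] [Module.Finite R M] (N : Type u) [AddCommGroup N] [Module S N]
  [Module k N] [IsScalarTower k S N] (𝒩 : ℤ → AddSubgroup N) [DirectSum.Decomposition 𝒩]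
  [SetLike.GradedSMul ℬ 𝒩] [Module.Finite S N] (P : Type u) [AddCommGroup P] [Module T P]
  [Module k P] [IsScalarTower k T P] (𝒬 : ℤ → AddSubgroup P) [DirectSum.Decomposition 𝒬]
  (φ : P →ₗ[k] TensorProduct k M N) (hP : GrSeg.IsSegreMod ψ ℳ 𝒩 𝒬 φ)

include hT hP in
theorem main : Module.Finite T P := by
  classical
  obtain ⟨I, _, r, d, hr, hrtop⟩ := exists_homog_alg_gens k 𝒜
  obtain ⟨J, _, s, e, hs, hstop⟩ := exists_homog_alg_gens k ℬ
  obtain ⟨I', _, m, u, hm, hmtop⟩ := exists_homog_mod_gens (R := R) ℳ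
  obtain ⟨J', _, n', v, hn, hntop⟩ := exists_homog_mod_gens (R := S) 𝒩
  -- solution sets
  let Sol : I' → J' → Set ((I ⊕ J) → ℕ) := fun i' j' =>
    {γ | mdeg d (γ ∘ Sum.inl) + u i' = mdeg e (γ ∘ Sum.inr) + v j'}
  choose t ht_sub ht_le using fun i' j' => dickson (Sol i' j')
  -- the candidate generators
  let z : (i' : I') → (j' : J') → ((I ⊕ J) → ℕ) → TensorProduct k M N := fun i' j' γ =>
    (mono r (γ ∘ Sum.inl) • m i') ⊗ₜ[k] (mono s (γ ∘ Sum.inr) • n' j')
  have hz : ∀ i' j' γ, γ ∈ Sol i' j' → ∃ p : P, φ p = z i' j' γ := by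
    intro i' j' γ hγ
    have h1 := mono_smul_mem 𝒜 ℳ r d hr m u hm (γ ∘ Sum.inl) i'
    have h2 := mono_smul_mem ℬ 𝒩 s e hs n' v hn (γ ∘ Sum.inr) j'
    rw [← (show mdeg d (γ ∘ Sum.inl) + u i' = mdeg e (γ ∘ Sum.inr) + v j' from hγ)] at h2
    have hmem : z i' j' γ ∈ (GrSeg.segrePiece k ℳ 𝒩 (mdeg d (γ ∘ Sum.inl) + u i') :
        Set (TensorProduct k M N)) :=
      Submodule.subset_span ⟨_, h1, _, h2, rfl⟩
    rw [← hP.image_piece] at hmem
    obtain ⟨p, _, hp⟩ := hmem
    exact ⟨p, hp⟩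
  choose gen hgen using hz
  -- index type of generators
  let Idx := Σ (ij : I' × J'), ↥(t ij.1 ij.2)
  let G : Idx → P := fun x => gen x.1.1 x.1.2 x.2.1 (ht_sub _ _ x.2.2)
  refine ⟨⟨Finset.univ.image G, ?_⟩⟩
  rw [Finset.coe_image, Finset.coe_univ, Set.image_univ, eq_top_iff]
  -- the `k`-submodule generated over `T`
  let W : Submodule k P := (Submodule.span T (Set.range G)).restrictScalars k
  -- key: the generators of the Segre pieces lie in `φ W`
  have hkey : ∀ (n : ℤ) (y : M) (y' : N), y ∈ pieceGens r d m u n → y' ∈ pieceGens s e n' v n →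
      y ⊗ₜ[k] y' ∈ W.map φ := by
    rintro n _ _ ⟨α, i', hα, rfl⟩ ⟨β, j', hβ, rfl⟩
    let γ : (I ⊕ J) → ℕ := Sum.elim α β
    have hγ : γ ∈ Sol i' j' := by
      show mdeg d (γ ∘ Sum.inl) + u i' = mdeg e (γ ∘ Sum.inr) + v j'
      simp only [γ, Sum.elim_comp_inl, Sum.elim_comp_inr]
      rw [hα, hβ]
    obtain ⟨γ', hγ't, hγ'le⟩ := ht_le i' j' γ hγ
    have hγ'S : γ' ∈ Sol i' j' := ht_sub i' j' hγ't
    let δ : (I ⊕ J) → ℕ := γ - γ'
    have hδ : δ + γ' = γ := tsub_add_cancel_of_le hγ'le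
    have hαeq : α = (δ ∘ Sum.inl) + (γ' ∘ Sum.inl) := by
      funext i
      have := congrFun hδ (Sum.inl i)
      simpa [γ] using this.symm
    have hβeq : β = (δ ∘ Sum.inr) + (γ' ∘ Sum.inr) := by
      funext j
      have := congrFun hδ (Sum.inr j)
      simpa [γ] using this.symm
    -- degrees of `δ`
    have hdeg : mdeg d (δ ∘ Sum.inl) = mdeg e (δ ∘ Sum.inr) := by
      have h1 : mdeg d (γ' ∘ Sum.inl) + u i' = mdeg e (γ' ∘ Sum.inr) + v j' := hγ'S
      have h2 : mdeg d α + u i' = mdeg e β + v j' := by rw [hα, hβ]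
      rw [hαeq, hβeq, mdeg_add, mdeg_add] at h2
      linarith
    -- the element of `T`
    have hρ : (mono r (δ ∘ Sum.inl)) ⊗ₜ[k] (mono s (δ ∘ Sum.inr)) ∈
        GrSeg.segrePiece k 𝒜 ℬ (mdeg d (δ ∘ Sum.inl)) := by
      refine Submodule.subset_span ⟨_, mono_mem 𝒜 r d hr _, _, ?_, rfl⟩
      rw [hdeg]
      exact mono_mem ℬ s e hs _
    rw [← hT.2] at hρ
    obtain ⟨τ, _, hτ⟩ := hρ
    refine ⟨τ • G ⟨(i', j'), ⟨γ', hγ't⟩⟩, ?_, ?_⟩
    · exact Submodule.smul_mem _ _ (Submodule.subset_span (Set.mem_range_self _))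
    · rw [hP.map_smul]
      show GrSeg.act k R S M N (ψ τ) (φ (gen i' j' γ' _)) = _
      rw [hgen]
      have hτ' : ψ τ = (mono r (δ ∘ Sum.inl)) ⊗ₜ[k] (mono s (δ ∘ Sum.inr)) := hτ
      rw [hτ']
      show GrSeg.act k R S M N _ ((mono r (γ' ∘ Sum.inl) • m i') ⊗ₜ[k]
        (mono s (γ' ∘ Sum.inr) • n' j')) = _
      rw [GrSeg.act_tmul, smul_smul, smul_smul, ← mono_add, ← mono_add, ← hαeq, ← hβeq]
  -- every homogeneous element lies in the span
  have hhom : ∀ (n : ℤ) (p : P), p ∈ 𝒬 n → p ∈ W := by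
    intro n p hp
    have hφp : φ p ∈ (GrSeg.segrePiece k ℳ 𝒩 n : Set (TensorProduct k M N)) := by
      rw [← hP.image_piece]; exact ⟨p, hp, rfl⟩
    have hle : GrSeg.segrePiece k ℳ 𝒩 n ≤ W.map φ := by
      unfold GrSeg.segrePiece
      rw [Submodule.span_le]
      rintro _ ⟨a, ha, b, hb, rfl⟩
      have ha' := piece_le_span 𝒜 ℳ r d hr hrtop m u hm hmtop n a ha
      have hb' := piece_le_span ℬ 𝒩 s e hs hstop n' v hn hntop n b hb
      have h2 : a ⊗ₜ[k] b ∈ Submodule.map₂ (TensorProduct.mk k M N)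
          (Submodule.span k (pieceGens r d m u n)) (Submodule.span k (pieceGens s e n' v n)) :=
        Submodule.apply_mem_map₂ _ ha' hb'
      rw [Submodule.map₂_span_span] at h2
      refine (Submodule.span_le.mpr ?_) h2
      rintro _ ⟨y, hy, y', hy', rfl⟩
      exact hkey n y y' hy hy'
    obtain ⟨p', hp'W, hp'⟩ := hle hφp
    rw [← hP.injective hp']
    exact hp'W
  intro p hp0
  clear hp0
  show p ∈ W
  induction p using DirectSum.Decomposition.inductionOn 𝒬 with
  | zero => exact zero_mem _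
  | homogeneous p => exact hhom _ p.1 p.2
  | add p q hp hq => exact add_mem hp hq

end Main

end Groth.Agent.Lib.R2Lead.SegreFG
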