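/-
Segre products of graded modules: the graded action, and the Cohen–Macaulay criterion / depth
formula via the Künneth formula for graded local cohomology.
-/
import Mathlib
import Groth.Agent.Lib.H6xModCMC
import Groth.Agent.Lib.H6xGrFT
import Groth.Agent.Lib.R2H7SegVan
import Groth.Agent.Lib.R2H7SegCM
import Groth.Agent.Lib.R2LeadSegreFG

set_option autoImplicit false
open DirectSum
open scoped TensorProduct

noncomputable section

namespace Groth.Agent.Lib.H6xSegMod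

open Groth.Agent.Lib.R2H7.GrBdry Groth.Agent.Lib.R2H7.SegConv

universe u

section gsmul

variable {k : Type u} [Field k] {R S T : Type u} [CommRing R] [CommRing S] [CommRing T]
  [Algebra k R] [Algebra k S] [Algebra k T]
  (𝒜 : ℤ → Submodule k R) [GradedAlgebra 𝒜] (ℬ : ℤ → Submodule k S) [GradedAlgebra ℬ]
  (𝒯 : ℤ → Submodule k T) [GradedAlgebra 𝒯] (ψ : T →ₐ[k] R ⊗[k] S)
  {M N P : Type u} [AddCommGroup M] [Module R M] [Module k M] [IsScalarTower k R M]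
  [AddCommGroup N] [Module S N] [Module k N] [IsScalarTower k S N]
  [AddCommGroup P] [Module T P] [Module k P] [IsScalarTower k T P]
  {τM τN τQ : Type u} [SetLike τM M] [AddSubgroupClass τM M] [SetLike τN N]
  [AddSubgroupClass τN N] [SetLike τQ P] [AddSubgroupClass τQ P]
  (ℳ : ℤ → τM) (𝒩 : ℤ → τN) (𝒬 : ℤ → τQ) [DirectSum.Decomposition 𝒬]
  [SetLike.GradedSMul 𝒜 ℳ] [SetLike.GradedSMul ℬ 𝒩] (φ : P →ₗ[k] M ⊗[k] N)

theorem act_mem_segrePiece {i j : ℤ} {z : R ⊗[k] S} (hz : z ∈ GrSeg.segrePiece k 𝒜 ℬ i)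
    {w : M ⊗[k] N} (hw : w ∈ GrSeg.segrePiece k ℳ 𝒩 j) :
    GrSeg.act k R S M N z w ∈ GrSeg.segrePiece k ℳ 𝒩 (i + j) := by
  unfold GrSeg.segrePiece at hz hw
  induction hz using Submodule.span_induction with
  | mem z hz =>
    obtain ⟨a, ha, b, hb, rfl⟩ := hz
    induction hw using Submodule.span_induction with
    | mem w hw =>
      obtain ⟨x, hx, y, hy, rfl⟩ := hw
      rw [GrSeg.act_tmul]
      refine Submodule.subset_span ⟨a • x, ?_, b • y, ?_, rfl⟩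
      · have := SetLike.GradedSMul.smul_mem (A := 𝒜) (B := ℳ) ha hx
        rwa [vadd_eq_add] at this
      · have := SetLike.GradedSMul.smul_mem (A := ℬ) (B := 𝒩) hb hy
        rwa [vadd_eq_add] at this
    | zero => rw [map_zero]; exact zero_mem _
    | add w w' _ _ hw hw' => rw [map_add]; exact add_mem hw hw'
    | smul c w _ hw => rw [map_smul]; exact Submodule.smul_mem _ c hw
  | zero => rw [map_zero, LinearMap.zero_apply]; exact zero_mem _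
  | add z z' _ _ hz hz' => rw [map_add, LinearMap.add_apply]; exact add_mem hz hz'
  | smul c z _ hz => rw [map_smul, LinearMap.smul_apply]; exact Submodule.smul_mem _ c hz

/-- A Segre module is a graded module over the Segre product ring. -/
theorem gradedSMul_of_isSegreMod (hT : GrSeg.IsSegreRing 𝒜 ℬ 𝒯 ψ)
    (hP : GrSeg.IsSegreMod ψ ℳ 𝒩 𝒬 φ) : SetLike.GradedSMul 𝒯 𝒬 := by
  refine ⟨?_⟩
  intro i j t p ht hp
  rw [vadd_eq_add]
  have h1 : ψ t ∈ GrSeg.segrePiece k 𝒜 ℬ i := by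
    rw [← hT.2 i]
    exact ⟨t, ht, rfl⟩
  have h2 : φ p ∈ GrSeg.segrePiece k ℳ 𝒩 j := by
    have : φ p ∈ φ '' (𝒬 j : Set P) := ⟨p, hp, rfl⟩
    rw [hP.image_piece j] at this
    exact this
  have h3 : φ (t • p) ∈ (GrSeg.segrePiece k ℳ 𝒩 (i + j) : Set (M ⊗[k] N)) := by
    rw [hP.map_smul]
    exact act_mem_segrePiece 𝒜 ℬ ℳ 𝒩 h1 h2
  rw [← hP.image_piece (i + j)] at h3
  obtain ⟨p', hp', hpp'⟩ := h3
  rw [← hP.injective hpp']
  exact hp'

end gsmul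

/-! ### Vanishing for Cohen–Macaulay graded modules -/

section cmvan

variable {k : Type u} [Field k] {R : Type u} [CommRing R] [Algebra k R]
  (𝒜 : ℤ → Submodule k R) [GradedAlgebra 𝒜]
  (hpos : ∀ n : ℤ, n < 0 → 𝒜 n = ⊥) (h0 : 𝒜 0 = Submodule.span k {(1 : R)})
  [Algebra.FiniteType k R]
  (mR : HomogeneousIdeal 𝒜)
  (hmR : mR.toIdeal = Ideal.span (⋃ n ∈ Set.Ioi (0 : ℤ), (𝒜 n : Set R)))
  {M : Type u} [AddCommGroup M] [Module R M] {τ : Type u} [SetLike τ M] [AddSubgroupClass τ M]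
  (ℳ : ℤ → τ) [DirectSum.Decomposition ℳ] [SetLike.GradedSMul 𝒜 ℳ] [Module.Finite R M]
  (EM : GrLC.StarInjRes 𝒜 ℳ)

theorem nontrivial_of_supportDim {A : Type u} [CommRing A] {L : Type u} [AddCommGroup L]
    [Module A L] (r : ℕ) (h : Module.supportDim A L = (r : WithBot ℕ∞)) : Nontrivial L := by
  rw [← Module.supportDim_ne_bot_iff_nontrivial A, h]
  exact WithBot.coe_ne_bot

include hpos h0 hmR in
/-- The graded local cohomology of a Cohen–Macaulay graded module of dimension `r` is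
concentrated in degree `r`. -/
theorem hcomp_eq_bot_of_cm (r : ℕ) (hd : Module.supportDim R M = (r : WithBot ℕ∞))
    (hcm : ∀ (q : Ideal R) [q.IsPrime], Subsingleton (LocalizedModule q.primeCompl M) ∨
      LocCoh.IsCohenMacaulayModule (Localization.AtPrime q) (LocalizedModule q.primeCompl M))
    (i : ℕ) (hi : i ≠ r) (d : ℤ) : EM.Hcomp mR i d = ⊥ := by
  haveI : Nontrivial M := nontrivial_of_supportDim r hd
  haveI : Nontrivial R := Module.nontrivial R M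
  haveI : IsNoetherianRing R := Algebra.FiniteType.isNoetherianRing k R
  rcases lt_or_gt_of_ne hi with h | h
  · exact (Groth.Agent.Lib.H6xModCMC.cm_iff_hcomp 𝒜 hpos h0 mR hmR ℳ EM r hd).mp hcm i h d
  · exact Groth.Agent.Lib.H6xModCMC.hcomp_eq_bot_of_supportDim_lt 𝒜 mR ℳ EM i
      (by rw [hd]; exact_mod_cast h) d

end cmvan

/-! ### The criteria for Segre products of modules -/

section kcond

variable {R : Type u} [CommRing R] {σ : Type u} [SetLike σ R] [AddSubgroupClass σ R]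
  {𝒜 : ℤ → σ} [GradedRing 𝒜] {S : Type u} [CommRing S] {σ' : Type u} [SetLike σ' S]
  [AddSubgroupClass σ' S] {ℬ : ℤ → σ'} [GradedRing ℬ]
  (mR : HomogeneousIdeal 𝒜) (mS : HomogeneousIdeal ℬ)
  {M : Type u} [AddCommGroup M] [Module R M] {ℳ : ℤ → AddSubgroup M}
  [DirectSum.Decomposition ℳ] [SetLike.GradedSMul 𝒜 ℳ] (EM : GrLC.StarInjRes 𝒜 ℳ)
  {N : Type u} [AddCommGroup N] [Module S N] {𝒩 : ℤ → AddSubgroup N}
  [DirectSum.Decomposition 𝒩] [SetLike.GradedSMul ℬ 𝒩] (EN : GrLC.StarInjRes ℬ 𝒩)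

/-- The vanishing condition of the Künneth formula in cohomological degree `q` and degree `d`. -/
def KCond (q : ℕ) (d : ℤ) : Prop :=
  ((∀ x ∈ ℳ d, x = 0) ∨ EN.Hcomp mS q d = ⊥) ∧
    (EM.Hcomp mR q d = ⊥ ∨ ∀ y ∈ 𝒩 d, y = 0) ∧
    ∀ i ∈ Finset.range (q + 2), EM.Hcomp mR i d = ⊥ ∨ EN.Hcomp mS (q + 1 - i) d = ⊥

end kcond

section main

variable (k : Type u) [Field k] (R : Type u) [CommRing R] [Algebra k R]
  (𝒜 : ℤ → Submodule k R) [GradedAlgebra 𝒜]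
  (hposR : ∀ n : ℤ, n < 0 → 𝒜 n = ⊥) (h0R : 𝒜 0 = Submodule.span k {(1 : R)})
  [Algebra.FiniteType k R] (S : Type u) [CommRing S] [Algebra k S]
  (ℬ : ℤ → Submodule k S) [GradedAlgebra ℬ] (hposS : ∀ n : ℤ, n < 0 → ℬ n = ⊥)
  (h0S : ℬ 0 = Submodule.span k {(1 : S)}) [Algebra.FiniteType k S] (T : Type u) [CommRing T]
  [Algebra k T] (𝒯 : ℤ → Submodule k T) [GradedAlgebra 𝒯] (ψ : T →ₐ[k] TensorProduct k R S)
  (hT : GrSeg.IsSegreRing 𝒜 ℬ 𝒯 ψ) (mR : HomogeneousIdeal 𝒜)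
  (hmR : mR.toIdeal = Ideal.span (⋃ n ∈ Set.Ioi (0 : ℤ), (𝒜 n : Set R)))
  (mS : HomogeneousIdeal ℬ)
  (hmS : mS.toIdeal = Ideal.span (⋃ n ∈ Set.Ioi (0 : ℤ), (ℬ n : Set S)))
  (M : Type u) [AddCommGroup M] [Module R M] [Module k M] [IsScalarTower k R M]
  (ℳ : ℤ → AddSubgroup M) [DirectSum.Decomposition ℳ] [SetLike.GradedSMul 𝒜 ℳ]
  [Module.Finite R M] (EM : GrLC.StarInjRes 𝒜 ℳ)
  (N : Type u) [AddCommGroup N] [Module S N] [Module k N] [IsScalarTower k S N]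
  (𝒩 : ℤ → AddSubgroup N) [DirectSum.Decomposition 𝒩] [SetLike.GradedSMul ℬ 𝒩]
  [Module.Finite S N] (EN : GrLC.StarInjRes ℬ 𝒩)
  (P : Type u) [AddCommGroup P] [Module T P] [Module k P] [IsScalarTower k T P]
  (𝒬 : ℤ → AddSubgroup P) [DirectSum.Decomposition 𝒬]
  (φ : P →ₗ[k] TensorProduct k M N) (hP : GrSeg.IsSegreMod ψ ℳ 𝒩 𝒬 φ)

include hposR h0R hposS h0S hT hmR hmS hP in
/-- Cohen–Macaulay criterion for a Segre product of graded modules. -/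
theorem segre_mod_cm_iff [Nontrivial R] [Nontrivial S] [Nontrivial P]
    (hM0 : ∀ d : ℤ, EM.Hcomp mR 0 d = ⊥) (hN0 : ∀ d : ℤ, EN.Hcomp mS 0 d = ⊥)
    (δ : ℕ) (hδ : Module.supportDim T P = (δ : WithBot ℕ∞)) :
    (∀ (q : Ideal T) [q.IsPrime], Subsingleton (LocalizedModule q.primeCompl P) ∨
      LocCoh.IsCohenMacaulayModule (Localization.AtPrime q) (LocalizedModule q.primeCompl P)) ↔
      ∀ q < δ, ∀ d : ℤ, KCond mR mS EM EN q d := by
  haveI hgs := gradedSMul_of_isSegreMod 𝒜 ℬ 𝒯 ψ ℳ 𝒩 𝒬 φ hT hP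
  haveI : Module.Finite T P :=
    Groth.Agent.Lib.R2Lead.SegreFG.main k R 𝒜 S ℬ T 𝒯 ψ hT M ℳ N 𝒩 P 𝒬 φ hP
  haveI : IsNoetherianRing T :=
    Groth.Agent.S18646.result k R 𝒜 hposR h0R S ℬ hposS h0S T 𝒯 ψ hT.1 hT.2
  haveI : Nontrivial T := (algebraMap_T_injective (R := R) (S := S) ψ).nontrivial
  have hposT : ∀ n : ℤ, n < 0 → 𝒯 n = ⊥ := by
    intro n hn
    have h := Groth.Agent.Lib.R2H7.SegVan.pos_toAS_T 𝒜 ℬ 𝒯 ψ hposR hT n hn
    rw [Submodule.eq_bot_iff]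
    intro x hx
    have hx' : x ∈ toAS 𝒯 n := hx
    rw [h] at hx'
    exact AddSubgroup.mem_bot.mp hx'
  have h0T : 𝒯 0 = Submodule.span k {(1 : T)} := by
    apply le_antisymm
    · intro t ht
      obtain ⟨c, hc⟩ := zero_toAS_T 𝒜 ℬ 𝒯 ψ h0R h0S hT t ht
      rw [Submodule.mem_span_singleton]
      exact ⟨c, by rw [← hc, Algebra.algebraMap_eq_smul_one]⟩
    · rw [Submodule.span_le]
      intro x hx
      rw [Set.mem_singleton_iff] at hx
      rw [hx]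
      exact SetLike.GradedOne.one_mem
  haveI : Algebra.FiniteType k T :=
    Groth.Agent.Lib.H6xGrFT.finiteType_of_isNoetherianRing 𝒯 hposT h0T
  obtain ⟨EP⟩ := Groth.Agent.Lib.R2H7.SegCM.exists_res_conv 𝒯 𝒬
  rw [Groth.Agent.Lib.H6xModCMC.cm_iff_hcomp 𝒯 hposT h0T (Groth.Agent.Lib.R2H7.SegCM.irrIdeal 𝒯)
    (Groth.Agent.Lib.R2H7.SegCM.irrIdeal_toIdeal 𝒯) 𝒬 EP δ hδ]
  refine forall_congr' fun q => imp_congr_right fun _ => forall_congr' fun d => ?_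
  exact Groth.Agent.Lib.R2H7.SegVan.segre_vanishing k R 𝒜 hposR h0R S ℬ hposS h0S T 𝒯 ψ hT
    mR hmR mS hmS (Groth.Agent.Lib.R2H7.SegCM.irrIdeal 𝒯)
    (Groth.Agent.Lib.R2H7.SegCM.irrIdeal_toIdeal 𝒯) ℳ EM 𝒩 EN 𝒬 φ hP EP hM0 hN0 q d

include hposR h0R hposS h0S hT hmR hmS hP in
/-- The depth of a Segre product of graded modules. -/
theorem segre_mod_depth_iff [Nontrivial R] [Nontrivial S] [Nontrivial P]
    (hM0 : ∀ d : ℤ, EM.Hcomp mR 0 d = ⊥) (hN0 : ∀ d : ℤ, EN.Hcomp mS 0 d = ⊥)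
    (mT : HomogeneousIdeal 𝒯)
    (hmT : mT.toIdeal = Ideal.span (⋃ n ∈ Set.Ioi (0 : ℤ), (𝒯 n : Set T))) (n : ℕ) :
    LocCoh.idealDepth mT.toIdeal P = (n : ℕ∞) ↔
      (∀ q < n, ∀ d : ℤ, KCond mR mS EM EN q d) ∧
        ∃ d : ℤ, ¬ KCond mR mS EM EN n d := by
  haveI hgs := gradedSMul_of_isSegreMod 𝒜 ℬ 𝒯 ψ ℳ 𝒩 𝒬 φ hT hP
  haveI : Module.Finite T P :=
    Groth.Agent.Lib.R2Lead.SegreFG.main k R 𝒜 S ℬ T 𝒯 ψ hT M ℳ N 𝒩 P 𝒬 φ hP
  haveI : IsNoetherianRing T :=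
    Groth.Agent.S18646.result k R 𝒜 hposR h0R S ℬ hposS h0S T 𝒯 ψ hT.1 hT.2
  haveI : Nontrivial T := (algebraMap_T_injective (R := R) (S := S) ψ).nontrivial
  have hposT : ∀ n : ℤ, n < 0 → 𝒯 n = ⊥ := by
    intro n hn
    have h := Groth.Agent.Lib.R2H7.SegVan.pos_toAS_T 𝒜 ℬ 𝒯 ψ hposR hT n hn
    rw [Submodule.eq_bot_iff]
    intro x hx
    have hx' : x ∈ toAS 𝒯 n := hx
    rw [h] at hx'
    exact AddSubgroup.mem_bot.mp hx'
  have h0T : 𝒯 0 = Submodule.span k {(1 : T)} := by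
    apply le_antisymm
    · intro t ht
      obtain ⟨c, hc⟩ := zero_toAS_T 𝒜 ℬ 𝒯 ψ h0R h0S hT t ht
      rw [Submodule.mem_span_singleton]
      exact ⟨c, by rw [← hc, Algebra.algebraMap_eq_smul_one]⟩
    · rw [Submodule.span_le]
      intro x hx
      rw [Set.mem_singleton_iff] at hx
      rw [hx]
      exact SetLike.GradedOne.one_mem
  obtain ⟨EP⟩ := Groth.Agent.Lib.R2H7.SegCM.exists_res_conv 𝒯 𝒬
  rw [Groth.Agent.Lib.H6xModCMC.idealDepth_eq_iff_hcomp 𝒯 hposT h0T mT hmT 𝒬 EP n]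
  have key := fun q d => Groth.Agent.Lib.R2H7.SegVan.segre_vanishing k R 𝒜 hposR h0R S ℬ hposS h0S
    T 𝒯 ψ hT mR hmR mS hmS mT hmT ℳ EM 𝒩 EN 𝒬 φ hP EP hM0 hN0 q d
  refine and_congr ?_ ?_
  · refine forall_congr' fun q => imp_congr_right fun _ => forall_congr' fun d => ?_
    exact key q d
  · refine exists_congr fun d => ?_
    exact not_congr (key n d)

end main

end Groth.Agent.Lib.H6xSegMod
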