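/-
The long exact sequence of graded local cohomology for a regular homogeneous element, on whole
modules: for `x ∈ R_e ∩ a` regular on `X` and `N = X/xX`, when `H^i_a(X) = 0` there is an
injective `R`-linear connecting map `δ : H^i_a(N) → H^{i+1}_a(X)`, lowering degrees by `e`, whose
image is the kernel of multiplication by `x`.  Also the vanishing of `H^{i+1}_a(X)` when
`H^i_a(N) = 0`, and of `H^0_a(X)`.
-/
import Mathlib
import Groth.Agent.Lib.R2H7GrAcycW

set_option autoImplicit false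
open DirectSum

noncomputable section

namespace Groth.Agent.Lib.R2H7.GrRegStep

open Groth.Agent.Lib.Helper29GrCompare Groth.Agent.Lib.Helper29GrHom
  Groth.Agent.Lib.Helper29GrGam Groth.Agent.Lib.R2H7.GrDer Groth.Agent.Lib.R2H7.GrOps
  Groth.Agent.Lib.R2H7.GrLES Groth.Agent.Lib.R2H7.GrH Groth.Agent.Lib.R2H7.GrTors
  Groth.Agent.Lib.R2H7.GrAcyc Groth.Agent.Lib.R2H7.GrFun Groth.Agent.Lib.R2H7.GrAcycW

universe u

variable {R : Type u} [CommRing R] {𝒜 : ℤ → AddSubgroup R} [GradedRing 𝒜]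
variable (a : HomogeneousIdeal 𝒜)

/-! ### The image of the connecting homomorphism -/

section range

variable {X' X X'' : GrLC.GMod.{u} 𝒜} {S : GSES X' X X''}
  {E' : GrLC.StarInjRes 𝒜 X'.gr} {E'' : GrLC.StarInjRes 𝒜 X''.gr} (D : HData S E' E'')

theorem mk_mem_range_deltaW {i : ℕ} (p : ↥(E'.cocyc a (i + 1)))
    (hp : ((p.1, 0) : (E'.X (i + 1)).carrier × (E''.X (i + 1)).carrier) ∈
      (horse D).cobdy a (i + 1)) :
    (Submodule.Quotient.mk p : E'.H a (i + 1)) ∈ LinearMap.range (deltaW a D i) := by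
  obtain ⟨w, hwg, hwe⟩ := hp
  have hwe' : hd D i w = ((p.1, 0) : (E'.X (i + 1)).carrier × (E''.X (i + 1)).carrier) := hwe
  rw [hd_apply, Prod.mk.injEq] at hwe'
  obtain ⟨h1, h2⟩ := hwe'
  have hwg' := (mem_gam_prod (X := E'.X i) (Y := E''.X i) a.toIdeal).mp hwg
  have hw2 : w.2 ∈ E''.cocyc a i := ⟨hwg'.2, h2⟩
  refine ⟨Submodule.Quotient.mk ⟨w.2, hw2⟩, ?_⟩
  rw [deltaW_mk]
  refine (Submodule.Quotient.eq _).mpr ?_
  show D.τ i w.2 - p.1 ∈ E'.cobdy a (i + 1)
  refine ⟨-w.1, neg_mem hwg'.1, ?_⟩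
  show E'.d i (-w.1) = D.τ i w.2 - p.1
  rw [map_neg, ← h1]
  abel

theorem mem_range_deltaW_of_inl_eq_zero {i : ℕ} (ξ : E'.H a (i + 1))
    (h : mapHW a (horseInl D) (i + 1) ξ = 0) : ξ ∈ LinearMap.range (deltaW a D i) := by
  obtain ⟨p, rfl⟩ := Submodule.Quotient.mk_surjective _ ξ
  rw [mapHW_mk] at h
  have h0 := (Submodule.Quotient.mk_eq_zero _).mp h
  exact mk_mem_range_deltaW a D p h0

end range

/-! ### The sequence of a regular element -/

section reg

variable {X N : GrLC.GMod.{u} 𝒜} (e : ℤ) {x : R} (hx : x ∈ 𝒜 e)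
  (π : X.carrier →ₗ[R] N.carrier) (hπ : GrLC.IsGrHom X.gr N.gr π) (hs : Function.Surjective π)
  (hker : LinearMap.ker π = LinearMap.range (x • (LinearMap.id : X.carrier →ₗ[R] X.carrier)))
  (hreg : ∀ m : X.carrier, x • m = 0 → m = 0)

/-- `0 → X(-e) → X → N → 0`. -/
def sesReg : GSES (shiftG X (-e)) X N where
  f := mulG X e x
  g := π
  f_gr := mulG_grHom hx
  g_gr := hπ
  f_inj := (injective_iff_map_eq_zero (mulG X e x)).mpr (fun m hm => hreg m hm)
  g_surj := hs
  exact := hker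

theorem mapHW_mulCMap (E : GrLC.StarInjRes 𝒜 X.gr) (i : ℕ) (ξ : E.H a (i + 1)) :
    mapHW a (mulCMap hx E) (i + 1) ξ = x • ξ := by
  obtain ⟨z, rfl⟩ := Submodule.Quotient.mk_surjective _ ξ
  rfl

include hx hπ hs hker in
theorem vanX_succ_of_quot_all [IsNoetherianRing R] (hxa : x ∈ a.toIdeal)
    (hK : ∀ m : X.carrier, x • m = 0 → m ∈ GrLC.gam a.toIdeal X.carrier) (i : ℕ)
    (h : ∀ g, VanX a N i g) : ∀ g, VanX a X (i + 1) g := by
  obtain ⟨E⟩ := exists_res X
  intro g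
  rw [vanX_iff a E]
  refine van_of_forall_inj a hx E hxa (i + 1) Set.univ (fun _ _ => Set.mem_univ _) ?_ g
    (Set.mem_univ _)
  intro j _ z hz hzg hc
  refine inj_of_hinjX a hx (hinjX_mul_succ a e hx π hπ hs hker hK (h (j + e))) E z hz ?_ hc
  have e' : j + e + -e = j := by ring
  rw [e']
  exact hzg

include hreg in
theorem vanX_zero_of_regular (hxa : x ∈ a.toIdeal) (g : ℤ) : VanX a X 0 g := by
  rw [vanX_zero_iff]
  intro m hm _
  obtain ⟨n, hn⟩ := hm
  have key : ∀ k : ℕ, x ^ k • m = 0 → m = 0 := by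
    intro k
    induction k with
    | zero =>
      intro h
      rwa [pow_zero, one_smul] at h
    | succ k ih =>
      intro h
      apply ih
      apply hreg
      rw [smul_smul, ← pow_succ']
      exact h
  exact key n (hn _ (Ideal.pow_mem_pow hxa n))

include hx hπ hs hker hreg in
/-- The connecting homomorphism of a regular element. -/
theorem exists_delta [IsNoetherianRing R] (E : GrLC.StarInjRes 𝒜 X.gr)
    (F : GrLC.StarInjRes 𝒜 N.gr) (i : ℕ) (hvX : ∀ g, VanX a X i g) :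
    ∃ δ : F.H a i →ₗ[R] E.H a (i + 1), Function.Injective δ ∧
      (∀ (g : ℤ) (ξ : F.H a i), ξ ∈ F.Hgr a i g → δ ξ ∈ E.Hgr a (i + 1) (g + -e)) ∧
      (∀ η : E.H a (i + 1), x • η = 0 → η ∈ LinearMap.range δ) := by
  obtain ⟨D⟩ := exists_hdata (sesReg e hx π hπ hs hker hreg) (shiftRes E (-e)) F
  obtain ⟨p⟩ := exists_cmap E (horse D) LinearMap.id isGrHom_id
  obtain ⟨p'⟩ := exists_cmap (horse D) E LinearMap.id isGrHom_id
  refine ⟨deltaW a D i, ?_, ?_, ?_⟩
  · exact deltaW_injective a D (fun zz hzz => vanW_of_vanX a (horse D) i hvX zz hzz)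
  · intro g ξ hξ
    obtain ⟨z, hz, hzeq⟩ := deltaW_mem_hgr a D hξ
    exact ⟨z, hz, hzeq⟩
  · intro η hη
    have h1 : mapHW a (mulCMap hx E) (i + 1) =
        mapHW a p' (i + 1) ∘ₗ mapHW a (horseInl D) (i + 1) := by
      rw [← mapHW_comp]
      exact mapHW_eq a _ _ (fun _ => rfl) (i + 1)
    have h2 : mapHW a p (i + 1) ∘ₗ mapHW a p' (i + 1) = LinearMap.id := by
      rw [← mapHW_comp, ← mapHW_id a (E := horse D) (i + 1)]
      exact mapHW_eq a _ _ (fun _ => rfl) (i + 1)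
    have h3 : mapHW a p' (i + 1) (mapHW a (horseInl D) (i + 1) η) = 0 := by
      rw [← LinearMap.comp_apply, ← h1, mapHW_mulCMap]
      exact hη
    have h4 : mapHW a (horseInl D) (i + 1) η = 0 := by
      have := congrArg (mapHW a p (i + 1)) h3
      rwa [← LinearMap.comp_apply, h2, LinearMap.id_apply, map_zero] at this
    exact mem_range_deltaW_of_inl_eq_zero a D η h4

end reg

end Groth.Agent.Lib.R2H7.GrRegStep
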