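/-
The "socle package" of a graded local cohomology module and its propagation along a regular
homogeneous element.  `Pack a X i d` says: `H^j_a(X) = 0` for `j ≠ i`; the piece `H^i_a(X)_{-d}` is
generated over `R_0` by one nonzero element; and every nonzero homogeneous element of `H^i_a(X)`
has a nonzero homogeneous multiple in degree `-d`.  If `x ∈ R_e ∩ a` (`e > 0`) is regular on `X`
then `Pack a (X/xX) i d` implies `Pack a X (i+1) (d+e)`.  The base case: `R/m` for `m = R_+`.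
-/
import Mathlib
import Groth.Agent.Lib.R2H7GrRegStep
import Groth.Agent.Lib.R2H7GrCanFin

set_option autoImplicit false
open DirectSum

noncomputable section

namespace Groth.Agent.Lib.R2H7.GrSocle

open Groth.Agent.Lib.Helper29GrCompare Groth.Agent.Lib.Helper29GrHom
  Groth.Agent.Lib.Helper29GrGam Groth.Agent.Lib.R2H7.GrDer Groth.Agent.Lib.R2H7.GrOps
  Groth.Agent.Lib.R2H7.GrLES Groth.Agent.Lib.R2H7.GrTors
  Groth.Agent.Lib.R2H7.GrFun Groth.Agent.Lib.R2H7.GrAcycW Groth.Agent.Lib.R2H7.GrRegStep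
  Groth.Agent.Lib.R2H7.GrCanFin

universe u

variable {R : Type u} [CommRing R] {𝒜 : ℤ → AddSubgroup R} [GradedRing 𝒜] [IsNoetherianRing R]
variable (a : HomogeneousIdeal 𝒜)

/-! ### Basic facts on the graded structure of `H^i_a(X)` -/

section basics

variable {X : GrLC.GMod.{u} 𝒜} (E : GrLC.StarInjRes 𝒜 X.gr) (i : ℕ)

theorem hgr_indep : iSupIndep (E.Hgr a i) :=
  (Groth.Agent.S13225.result R 𝒜 a X.carrier X.gr E i).addSubgroup_iSupIndep

/-- A nonzero homogeneous element has only one degree. -/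
theorem eq_of_mem_hgr {h : E.H a i} {α β : ℤ} (hα : h ∈ E.Hgr a i α) (hβ : h ∈ E.Hgr a i β)
    (hne : h ≠ 0) : α = β := by
  by_contra hαβ
  apply hne
  have h1 := DirectSum.decompose_of_mem_ne (E.Hgr a i) hα hαβ
  have h2 := DirectSum.decompose_of_mem_same (E.Hgr a i) hβ
  rw [← h2, h1]

/-- Every class is killed by a power of an element of `a`. -/
theorem exists_pow_smul_eq_zero {x : R} (hxa : x ∈ a.toIdeal) (h : E.H a i) :
    ∃ n : ℕ, x ^ n • h = 0 := by
  obtain ⟨z, rfl⟩ := Submodule.Quotient.mk_surjective _ h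
  obtain ⟨n, hn⟩ := z.2.1
  refine ⟨n, ?_⟩
  have h0 : x ^ n • z = 0 := Subtype.ext (hn _ (Ideal.pow_mem_pow hxa n))
  rw [← Submodule.Quotient.mk_smul, h0, Submodule.Quotient.mk_zero]

end basics

/-- An injective map lowering degrees by `e` reflects degrees. -/
theorem reflect {N X : GrLC.GMod.{u} 𝒜} (F : GrLC.StarInjRes 𝒜 N.gr)
    (E : GrLC.StarInjRes 𝒜 X.gr) (i j : ℕ) (e : ℤ) (δ : F.H a i →ₗ[R] E.H a j)
    (hinj : Function.Injective δ)
    (hgr : ∀ (g : ℤ) (ξ : F.H a i), ξ ∈ F.Hgr a i g → δ ξ ∈ E.Hgr a j (g + -e))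
    {g : ℤ} {ξ : F.H a i} (h : δ ξ ∈ E.Hgr a j (g + -e)) : ξ ∈ F.Hgr a i g := by
  classical
  have hind : iSupIndep (fun g : ℤ => E.Hgr a j (g + -e)) :=
    (hgr_indep a E j).comp (add_left_injective (-e))
  have hspan : ∀ y : F.H a i, ∃ (s : Finset ℤ) (c : ℤ → F.H a i),
      (∀ g, c g ∈ F.Hgr a i g) ∧ y = ∑ g ∈ s, c g := by
    intro y
    exact ⟨(decompose (F.Hgr a i) y).support, fun g => ((decompose (F.Hgr a i) y) g : F.H a i),
      fun g => SetLike.coe_mem _, (DirectSum.sum_support_decompose (F.Hgr a i) y).symm⟩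
  exact mem_of_map_mem (F.Hgr a i) (fun g : ℤ => E.Hgr a j (g + -e))
    (δ : F.H a i →+ E.H a j) hinj (fun g x hx => hgr g x hx) hspan hind h

/-- The socle package. -/
structure Pack (X : GrLC.GMod.{u} 𝒜) (i : ℕ) (d : ℤ) : Prop where
  van : ∀ i' : ℕ, i' ≠ i → ∀ g : ℤ, VanX a X i' g
  gen : ∀ E : GrLC.StarInjRes 𝒜 X.gr, ∃ η : E.H a i, η ∈ E.Hgr a i (-d) ∧ η ≠ 0 ∧
    ∀ h ∈ E.Hgr a i (-d), ∃ c ∈ 𝒜 0, h = c • η
  ess : ∀ (E : GrLC.StarInjRes 𝒜 X.gr) (s : ℤ) (h : E.H a i), h ∈ E.Hgr a i s → h ≠ 0 →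
    ∃ (u : ℤ) (r : R), r ∈ 𝒜 u ∧ r • h ≠ 0 ∧ r • h ∈ E.Hgr a i (-d)

/-! ### Propagation along a regular element -/

theorem pack_step (hpos : ∀ n : ℤ, n < 0 → 𝒜 n = ⊥) {X N : GrLC.GMod.{u} 𝒜} (e : ℤ)
    (he : 0 < e) {x : R} (hx : x ∈ 𝒜 e) (hxa : x ∈ a.toIdeal)
    (π : X.carrier →ₗ[R] N.carrier) (hπ : GrLC.IsGrHom X.gr N.gr π)
    (hs : Function.Surjective π)
    (hker : LinearMap.ker π = LinearMap.range (x • (LinearMap.id : X.carrier →ₗ[R] X.carrier)))
    (hreg : ∀ m : X.carrier, x • m = 0 → m = 0) (i : ℕ) (d : ℤ) (hN : Pack a N i d) :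
    Pack a X (i + 1) (d + e) := by
  classical
  have hvan : ∀ i' : ℕ, i' ≠ i + 1 → ∀ g : ℤ, VanX a X i' g := by
    intro i' hi' g
    cases i' with
    | zero => exact vanX_zero_of_regular a hreg hxa g
    | succ k =>
      have hk : k ≠ i := fun h => hi' (by rw [h])
      exact vanX_succ_of_quot_all a e hx π hπ hs hker hxa
        (fun m hm => by rw [hreg m hm]; exact zero_mem _) k (hN.van k hk) g
  obtain ⟨F⟩ := exists_res N
  have hvi : ∀ g, VanX a X i g := hvan i (Nat.ne_of_lt (Nat.lt_succ_self i))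
  have hess : ∀ (E : GrLC.StarInjRes 𝒜 X.gr) (s : ℤ) (h : E.H a (i + 1)),
      h ∈ E.Hgr a (i + 1) s → h ≠ 0 →
      ∃ (u : ℤ) (r : R), r ∈ 𝒜 u ∧ r • h ≠ 0 ∧ r • h ∈ E.Hgr a (i + 1) (-(d + e)) := by
    intro E s h hh hne
    obtain ⟨δ, hδinj, hδgr, hδrange⟩ := exists_delta a e hx π hπ hs hker hreg E F i hvi
    have hex := exists_pow_smul_eq_zero a E (i + 1) hxa h
    obtain ⟨n, hn, hmin⟩ : ∃ n : ℕ, x ^ n • h = 0 ∧ ∀ k < n, x ^ k • h ≠ 0 :=
      ⟨Nat.find hex, Nat.find_spec hex, fun k hk => Nat.find_min hex hk⟩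
    have hn0 : n ≠ 0 := by
      intro h0
      rw [h0, pow_zero, one_smul] at hn
      exact hne hn
    obtain ⟨t, ht⟩ := Nat.exists_eq_succ_of_ne_zero hn0
    have h1ne : x ^ t • h ≠ 0 := hmin t (by omega)
    have h1x : x • (x ^ t • h) = 0 := by
      rw [smul_smul, ← pow_succ']
      rw [ht] at hn
      exact hn
    have h1mem : x ^ t • h ∈ E.Hgr a (i + 1) (t • e + s) :=
      smul_mem_hgr E a (i + 1) (SetLike.pow_mem_graded t hx) hh
    obtain ⟨g, hg⟩ := hδrange _ h1x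
    have hgmem : g ∈ F.Hgr a i (t • e + s + e) := by
      refine reflect a F E i (i + 1) e δ hδinj hδgr ?_
      rw [hg]
      have e1 : t • e + s + e + -e = t • e + s := by ring
      rw [e1]
      exact h1mem
    have hgne : g ≠ 0 := by
      intro h0
      apply h1ne
      rw [← hg, h0, map_zero]
    obtain ⟨u, r, hr, hrne, hrmem⟩ := hN.ess F _ g hgmem hgne
    refine ⟨u + t • e, r * x ^ t,
      SetLike.mul_mem_graded hr (SetLike.pow_mem_graded t hx), ?_, ?_⟩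
    · rw [mul_smul, ← hg, ← map_smul]
      intro h0
      exact hrne (hδinj (by rw [h0, map_zero]))
    · rw [mul_smul, ← hg, ← map_smul]
      have := hδgr _ _ hrmem
      have e1 : -d + -e = -(d + e) := by ring
      rwa [e1] at this
  refine ⟨hvan, ?_, hess⟩
  intro E
  obtain ⟨δ, hδinj, hδgr, hδrange⟩ := exists_delta a e hx π hπ hs hker hreg E F i hvi
  obtain ⟨η₀, hη₀mem, hη₀ne, hη₀gen⟩ := hN.gen F
  have e1 : -d + -e = -(d + e) := by ring
  refine ⟨δ η₀, ?_, ?_, ?_⟩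
  · have := hδgr _ _ hη₀mem
    rwa [e1] at this
  · intro h0
    exact hη₀ne (hδinj (by rw [h0, map_zero]))
  · intro h hh
    have hx0 : x • h = 0 := by
      by_contra hne
      have hmem : x • h ∈ E.Hgr a (i + 1) (e + -(d + e)) := smul_mem_hgr E a (i + 1) hx hh
      obtain ⟨u, r, hr, hrne, hrmem⟩ := hess E _ (x • h) hmem hne
      have hmem2 : r • (x • h) ∈ E.Hgr a (i + 1) (u + (e + -(d + e))) :=
        smul_mem_hgr E a (i + 1) hr hmem
      have hdeg := eq_of_mem_hgr a E (i + 1) hmem2 hrmem hrne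
      have hu : u < 0 := by omega
      have hr0 : r = 0 := by
        have h1 : r ∈ (⊥ : AddSubgroup R) := by
          rw [← hpos u hu]
          exact hr
        exact AddSubgroup.mem_bot.mp h1
      apply hrne
      rw [hr0, zero_smul]
    obtain ⟨g, hg⟩ := hδrange h hx0
    have hgmem : g ∈ F.Hgr a i (-d) := by
      refine reflect a F E i (i + 1) e δ hδinj hδgr ?_
      rw [hg, e1]
      exact hh
    obtain ⟨c, hc, hgc⟩ := hη₀gen g hgmem
    refine ⟨c, hc, ?_⟩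
    rw [← hg, hgc, map_smul]

/-! ### The base case -/

theorem pack_base (hpos : ∀ n : ℤ, n < 0 → 𝒜 n = ⊥) (m : HomogeneousIdeal 𝒜)
    (hmsp : m.toIdeal = Ideal.span (⋃ n ∈ Set.Ioi (0 : ℤ), (𝒜 n : Set R)))
    (hne : (1 : R) ∉ m.toIdeal) (X : GrLC.GMod.{u} 𝒜) (π : R →ₗ[R] X.carrier)
    (hπ : GrLC.IsGrHom 𝒜 X.gr π) (hs : Function.Surjective π)
    (hker : LinearMap.ker π = m.toIdeal) : Pack m X 0 0 := by
  classical
  have hT : ∀ y : X.carrier, y ∈ GrLC.gam m.toIdeal X.carrier := by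
    intro y
    obtain ⟨r, rfl⟩ := hs y
    refine ⟨1, fun r' hr' => ?_⟩
    rw [pow_one] at hr'
    rw [← map_smul, smul_eq_mul]
    have h1 : r' * r ∈ LinearMap.ker π := by
      rw [hker]
      exact Ideal.mul_mem_right _ _ hr'
    exact h1
  have hlift : ∀ (s : ℤ) (y : X.carrier), y ∈ X.gr s → ∃ r ∈ 𝒜 s, π r = y := by
    intro s y hy
    obtain ⟨r, rfl⟩ := hs y
    refine ⟨((decompose 𝒜 r) s : R), SetLike.coe_mem _, ?_⟩
    rw [← decompose_map X.gr 𝒜 π hπ r s, DirectSum.decompose_of_mem_same X.gr hy]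
  have hrep : ∀ (E : GrLC.StarInjRes 𝒜 X.gr) (s : ℤ) (h : E.H m 0), h ∈ E.Hgr m 0 s →
      ∃ y : ↥(GrLC.gam m.toIdeal X.carrier), y.1 ∈ X.gr s ∧ gamToH0 m E y = h := by
    intro E s h hh
    obtain ⟨y, rfl⟩ := (gamToH0_bijective m E).2 h
    refine ⟨y, ?_, rfl⟩
    obtain ⟨z, hz, hzeq⟩ := hh
    have h1 : z - epsZ0 m E y ∈ (E.cobdy m 0).comap (E.cocyc m 0).subtype :=
      (Submodule.Quotient.eq _).mp hzeq
    have h2 : (z : (E.X 0).carrier) - E.ε y.1 = 0 := (Submodule.mem_bot R).mp h1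
    have h3 : E.ε y.1 = z.1 := (sub_eq_zero.mp h2).symm
    exact mem_gr_of_map_mem E.ε E.ε_grHom E.ε_injective (by rw [h3]; exact hz)
  have hmemH : ∀ (E : GrLC.StarInjRes 𝒜 X.gr) (s : ℤ)
      (y : ↥(GrLC.gam m.toIdeal X.carrier)), y.1 ∈ X.gr s → gamToH0 m E y ∈ E.Hgr m 0 s := by
    intro E s y hy
    exact ⟨epsZ0 m E y, E.ε_grHom s y.1 hy, rfl⟩
  refine ⟨fun i' hi' g => vanX_of_torsion m X hT i' (Nat.pos_of_ne_zero hi') g, ?_, ?_⟩
  · intro E
    have hy1 : π 1 ∈ X.gr 0 := hπ 0 1 SetLike.GradedOne.one_mem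
    refine ⟨gamToH0 m E ⟨π 1, hT _⟩, ?_, ?_, ?_⟩
    · rw [neg_zero]
      exact hmemH E 0 ⟨π 1, hT _⟩ hy1
    · intro h0
      have h1 : (⟨π 1, hT _⟩ : ↥(GrLC.gam m.toIdeal X.carrier)) = 0 :=
        (gamToH0_bijective m E).1 (by rw [h0, map_zero])
      have h2 : π 1 = 0 := congrArg Subtype.val h1
      apply hne
      rw [← hker]
      exact h2
    · intro h hh
      rw [neg_zero] at hh
      obtain ⟨y, hy, rfl⟩ := hrep E 0 h hh
      obtain ⟨r, hr, hry⟩ := hlift 0 y.1 hy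
      refine ⟨r, hr, ?_⟩
      rw [← map_smul]
      congr 1
      apply Subtype.ext
      show y.1 = r • π 1
      rw [← hry, ← map_smul, smul_eq_mul, mul_one]
  · intro E s h hh hne'
    obtain ⟨y, hy, rfl⟩ := hrep E s h hh
    obtain ⟨r, hr, hry⟩ := hlift s y.1 hy
    have hs0 : s = 0 := by
      by_contra hs0
      apply hne'
      have hr0 : π r = 0 := by
        rcases lt_or_gt_of_ne hs0 with hlt | hgt
        · have h1 : r ∈ (⊥ : AddSubgroup R) := by
            rw [← hpos s hlt]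
            exact hr
          rw [AddSubgroup.mem_bot.mp h1, map_zero]
        · have h1 : r ∈ LinearMap.ker π := by
            rw [hker, hmsp]
            exact Ideal.subset_span (Set.mem_iUnion₂.mpr ⟨s, hgt, hr⟩)
          exact h1
      have h2 : y = 0 := Subtype.ext (by rw [← hry, hr0]; rfl)
      rw [h2, map_zero]
    subst hs0
    refine ⟨0, 1, SetLike.GradedOne.one_mem, ?_, ?_⟩
    · rw [one_smul]
      exact hne'
    · rw [one_smul, neg_zero]
      exact hh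

end Groth.Agent.Lib.R2H7.GrSocle
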