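/-
The weighted polynomial ring `P = k[X_1, …, X_N]`, `deg X_i = w_i > 0`, graded by additive
subgroups: negative pieces vanish, the degree zero piece is the field of constants, and the top
local cohomology `H^N_m(P)` at the irrelevant ideal carries the socle package
(`R2H7GrSocle.Pack`) in degree `-(w_1 + ⋯ + w_N)`.  The latter is obtained by descending along the
regular sequence `X_1, …, X_N`: `P/(X_1, …, X_j)` has the package at cohomological degree `N - j`
with socle degree `-(w_{j+1} + ⋯ + w_N)`.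
-/
import Mathlib
import Groth.Agent.Lib.R2H7GrSocle
import Groth.Agent.Lib.R2H7GrBdry
import Groth.Agent.Lib.Helper13Syzygy

set_option autoImplicit false
open DirectSum

noncomputable section

namespace Groth.Agent.Lib.R2H7.GrWPoly

open Groth.Agent.Lib.Helper29GrEss Groth.Agent.Lib.R2H7.GrBdry Groth.Agent.Lib.R2H7.GrOps
  Groth.Agent.Lib.R2H7.GrSocle Groth.Agent.Lib.R2H7.GrTors Groth.Agent.Helper13Syzygy

universe u

/-! ### One step of the descent, over an arbitrary graded ring -/

section step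

variable {R : Type u} [CommRing R] {𝒜 : ℤ → AddSubgroup R} [GradedRing 𝒜] [IsNoetherianRing R]

theorem pack_quot_step (hpos : ∀ n : ℤ, n < 0 → 𝒜 n = ⊥) (m : HomogeneousIdeal 𝒜)
    (Ij Ij' : Ideal R) (x : R) (e : ℤ) (he : 0 < e) (hx : x ∈ 𝒜 e) (hxa : x ∈ m.toIdeal)
    (hsucc : Ij' = Ij ⊔ Ideal.span {x}) (hmem : ∀ p : R, x * p ∈ Ij → p ∈ Ij) (t : ℕ) (d : ℤ)
    (ih : ∀ (Y' : GrLC.GMod.{u} 𝒜) (π' : R →ₗ[R] Y'.carrier), GrLC.IsGrHom 𝒜 Y'.gr π' →
      Function.Surjective π' → LinearMap.ker π' = Ij' → Pack m Y' t d)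
    (Y : GrLC.GMod.{u} 𝒜) (π : R →ₗ[R] Y.carrier) (hπ : GrLC.IsGrHom 𝒜 Y.gr π)
    (hs : Function.Surjective π) (hker : LinearMap.ker π = Ij) : Pack m Y (t + 1) (d + e) := by
  have hreg : ∀ y : Y.carrier, x • y = 0 → y = 0 := by
    intro y hy
    obtain ⟨p, rfl⟩ := hs y
    have h1 : x * p ∈ LinearMap.ker π := by
      rw [LinearMap.mem_ker, ← smul_eq_mul, map_smul]
      exact hy
    rw [hker] at h1
    have h2 : p ∈ Ij := hmem p h1
    rw [← hker] at h2
    exact h2
  have hhom : (LinearMap.range (x • (LinearMap.id : Y.carrier →ₗ[R] Y.carrier))).IsHomogeneous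
      Y.gr :=
    range_isHomogeneous Y.gr (shiftG Y (-e)).gr (mulG Y e x) (mulG_grHom hx)
  have hπ₁ : GrLC.IsGrHom Y.gr (quotG Y _ hhom).gr
      (LinearMap.range (x • (LinearMap.id : Y.carrier →ₗ[R] Y.carrier))).mkQ :=
    mkQ_grHom Y _ hhom
  have hs₁ : Function.Surjective
      (LinearMap.range (x • (LinearMap.id : Y.carrier →ₗ[R] Y.carrier))).mkQ :=
    Submodule.mkQ_surjective _
  have hker₁ : LinearMap.ker
      (LinearMap.range (x • (LinearMap.id : Y.carrier →ₗ[R] Y.carrier))).mkQ =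
      LinearMap.range (x • (LinearMap.id : Y.carrier →ₗ[R] Y.carrier)) :=
    Submodule.ker_mkQ _
  have hπ' : GrLC.IsGrHom 𝒜 (quotG Y _ hhom).gr
      ((LinearMap.range (x • (LinearMap.id : Y.carrier →ₗ[R] Y.carrier))).mkQ ∘ₗ π) :=
    fun g r hr => hπ₁ g _ (hπ g r hr)
  have hs' : Function.Surjective
      ((LinearMap.range (x • (LinearMap.id : Y.carrier →ₗ[R] Y.carrier))).mkQ ∘ₗ π) :=
    hs₁.comp hs
  have hker' : LinearMap.ker
      ((LinearMap.range (x • (LinearMap.id : Y.carrier →ₗ[R] Y.carrier))).mkQ ∘ₗ π) = Ij' := by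
    ext p
    rw [LinearMap.mem_ker, LinearMap.comp_apply, ← LinearMap.mem_ker, hker₁, hsucc,
      Submodule.mem_sup]
    constructor
    · rintro ⟨y, hy⟩
      obtain ⟨q, rfl⟩ := hs y
      have hy' : x • π q = π p := hy
      have h1 : p - x * q ∈ LinearMap.ker π := by
        rw [LinearMap.mem_ker, map_sub, ← smul_eq_mul, map_smul, sub_eq_zero]
        exact hy'.symm
      rw [hker] at h1
      exact ⟨p - x * q, h1, x * q, Ideal.mem_span_singleton'.mpr ⟨q, mul_comm q x⟩, by ring⟩
    · rintro ⟨a, ha, b, hb, rfl⟩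
      obtain ⟨q, rfl⟩ := Ideal.mem_span_singleton'.mp hb
      refine ⟨π q, ?_⟩
      show x • π q = π (a + q * x)
      have ha0 : π a = 0 := by
        rw [← hker] at ha
        exact ha
      rw [map_add, ha0, zero_add, ← map_smul, smul_eq_mul, mul_comm]
  have hN := ih (quotG Y _ hhom) _ hπ' hs' hker'
  exact pack_step m hpos e he hx hxa _ hπ₁ hs₁ hker₁ hreg t d hN

end step

/-! ### Weights -/

variable (k : Type u) [Field k] (N : ℕ) (w : Fin N → ℤ)

theorem weight_nonneg (hw : ∀ i, 0 < w i) (d : Fin N →₀ ℕ) : 0 ≤ Finsupp.weight w d := by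
  rw [Finsupp.weight_eq_sum]
  exact Finset.sum_nonneg (fun i _ => nsmul_nonneg (hw i).le _)

theorem eq_zero_of_weight_eq_zero (hw : ∀ i, 0 < w i) (d : Fin N →₀ ℕ)
    (h : Finsupp.weight w d = 0) : d = 0 := by
  refine Finsupp.ext (fun i => ?_)
  rw [Finsupp.zero_apply]
  by_contra hne
  have h1 : w i ≤ Finsupp.weight w d := Finsupp.le_weight_of_ne_zero (fun s => (hw s).le) hne
  rw [h] at h1
  exact absurd (hw i) (not_lt.mpr h1)

/-! ### The pieces -/

theorem X_mem (i : Fin N) : (MvPolynomial.X i : MvPolynomial (Fin N) k) ∈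
    toAS (MvPolynomial.weightedHomogeneousSubmodule k w) (w i) :=
  MvPolynomial.isWeightedHomogeneous_X k w i

theorem hpos (hw : ∀ i, 0 < w i) (n : ℤ) (hn : n < 0) :
    toAS (MvPolynomial.weightedHomogeneousSubmodule k w) n = ⊥ := by
  rw [eq_bot_iff]
  intro p hp
  have hp' : MvPolynomial.IsWeightedHomogeneous w p n := hp
  refine AddSubgroup.mem_bot.mpr ?_
  refine MvPolynomial.ext _ _ (fun d => ?_)
  rw [MvPolynomial.coeff_zero]
  by_contra hne
  have h1 := hp' hne
  have h2 := weight_nonneg N w hw d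
  omega

theorem eq_C_of_mem_zero (hw : ∀ i, 0 < w i) (p : MvPolynomial (Fin N) k)
    (hp : p ∈ toAS (MvPolynomial.weightedHomogeneousSubmodule k w) 0) :
    p = MvPolynomial.C (MvPolynomial.coeff 0 p) := by
  classical
  have hp' : MvPolynomial.IsWeightedHomogeneous w p 0 := hp
  refine MvPolynomial.ext _ _ (fun d => ?_)
  rw [MvPolynomial.coeff_C]
  by_cases hd : 0 = d
  · subst hd
    rw [if_pos rfl]
  · rw [if_neg hd]
    by_contra hne
    exact hd (eq_zero_of_weight_eq_zero N w hw d (hp' hne)).symm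

/-! ### The degree zero part -/

variable [GradedRing (MvPolynomial.weightedHomogeneousSubmodule k w)]

/-- The constants, as a ring homomorphism onto the degree zero part. -/
def tauW : k →+* ↥(GrLC.deg0 (toAS (MvPolynomial.weightedHomogeneousSubmodule k w))) where
  toFun c := ⟨MvPolynomial.C c, MvPolynomial.isWeightedHomogeneous_C w c⟩
  map_one' := Subtype.ext (map_one _)
  map_mul' x y := Subtype.ext (map_mul _ x y)
  map_zero' := Subtype.ext (map_zero _)
  map_add' x y := Subtype.ext (map_add _ x y)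

theorem tauW_surjective (hw : ∀ i, 0 < w i) : Function.Surjective (tauW k N w) := by
  rintro ⟨p, hp⟩
  exact ⟨MvPolynomial.coeff 0 p, Subtype.ext (eq_C_of_mem_zero k N w hw p hp).symm⟩

theorem isField_deg0 (hw : ∀ i, 0 < w i) :
    IsField (GrLC.deg0 (toAS (MvPolynomial.weightedHomogeneousSubmodule k w))) := by
  have hinj : Function.Injective (tauW k N w) := (tauW k N w).injective
  exact MulEquiv.isField (Field.toIsField k)
    (RingEquiv.ofBijective (tauW k N w) ⟨hinj, tauW_surjective k N w hw⟩).symm.toMulEquiv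

/-! ### The irrelevant ideal -/

variable (m : HomogeneousIdeal (toAS (MvPolynomial.weightedHomogeneousSubmodule k w)))

theorem X_mem_m (hw : ∀ i, 0 < w i)
    (hmsp : m.toIdeal = Ideal.span (⋃ n ∈ Set.Ioi (0 : ℤ),
      (toAS (MvPolynomial.weightedHomogeneousSubmodule k w) n : Set (MvPolynomial (Fin N) k))))
    (i : Fin N) : (MvPolynomial.X i : MvPolynomial (Fin N) k) ∈ m.toIdeal := by
  rw [hmsp]
  exact Ideal.subset_span (Set.mem_iUnion₂.mpr ⟨w i, hw i, X_mem k N w i⟩)

theorem I_top_eq_m (hw : ∀ i, 0 < w i)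
    (hmsp : m.toIdeal = Ideal.span (⋃ n ∈ Set.Ioi (0 : ℤ),
      (toAS (MvPolynomial.weightedHomogeneousSubmodule k w) n : Set (MvPolynomial (Fin N) k))))
    (hne : (1 : MvPolynomial (Fin N) k) ∉ m.toIdeal) : I k N N = m.toIdeal := by
  have hmax : (I k N N).IsMaximal := by
    rw [I_top_eq_irrel, Groth.Agent.Helper13FreeRes.irrel_stdGr_eq_ker]
    exact RingHom.ker_isMaximal_of_surjective _
      (fun c => ⟨MvPolynomial.C c, MvPolynomial.constantCoeff_C _ c⟩)
  refine hmax.eq_of_le ?_ ?_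
  · intro h
    apply hne
    rw [h]
    exact Submodule.mem_top
  · unfold I
    rw [Ideal.span_le]
    rintro _ ⟨l, _, rfl⟩
    exact X_mem_m k N w m hw hmsp l

/-! ### The degrees -/

/-- `w_j + ⋯ + w_{N-1}`. -/
def dsum (j : ℕ) : ℤ := ∑ i ∈ (Finset.univ : Finset (Fin N)).filter (fun i => j ≤ i.val), w i

theorem dsum_top : dsum N w N = 0 := by
  unfold dsum
  exact Finset.sum_eq_zero
    (fun i hi => absurd (Finset.mem_filter.mp hi).2 (not_le.mpr i.isLt))

theorem dsum_zero : dsum N w 0 = ∑ i, w i := by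
  unfold dsum
  rw [Finset.sum_filter]
  exact Finset.sum_congr rfl (fun i _ => if_pos (Nat.zero_le _))

theorem dsum_succ (j : ℕ) (hj : j < N) : dsum N w j = dsum N w (j + 1) + w ⟨j, hj⟩ := by
  unfold dsum
  rw [Finset.sum_filter, Finset.sum_filter]
  have h1 : ∀ i : Fin N, (if j ≤ i.val then w i else 0) =
      (if j + 1 ≤ i.val then w i else 0) + (if i = ⟨j, hj⟩ then w i else 0) := by
    intro i
    by_cases h : i = ⟨j, hj⟩
    · subst h
      simp
    · have hval : i.val ≠ j := fun h' => h (Fin.ext h')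
      by_cases h2 : j ≤ i.val
      · rw [if_pos h2, if_pos (by omega), if_neg h, add_zero]
      · rw [if_neg h2, if_neg (by omega), if_neg h, add_zero]
  rw [Finset.sum_congr rfl (fun i _ => h1 i), Finset.sum_add_distrib,
    Finset.sum_ite_eq' Finset.univ (⟨j, hj⟩ : Fin N) w, if_pos (Finset.mem_univ _)]

/-! ### The descent -/

theorem pack_quot (hw : ∀ i, 0 < w i)
    (hmsp : m.toIdeal = Ideal.span (⋃ n ∈ Set.Ioi (0 : ℤ),
      (toAS (MvPolynomial.weightedHomogeneousSubmodule k w) n : Set (MvPolynomial (Fin N) k))))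
    (hne : (1 : MvPolynomial (Fin N) k) ∉ m.toIdeal) :
    ∀ (t j : ℕ), j + t = N →
      ∀ (Y : GrLC.GMod.{u} (toAS (MvPolynomial.weightedHomogeneousSubmodule k w)))
        (π : MvPolynomial (Fin N) k →ₗ[MvPolynomial (Fin N) k] Y.carrier),
        GrLC.IsGrHom (toAS (MvPolynomial.weightedHomogeneousSubmodule k w)) Y.gr π →
        Function.Surjective π → LinearMap.ker π = I k N j → Pack m Y t (dsum N w j) := by
  intro t
  induction t with
  | zero =>
    intro j hj Y π hπ hs hker
    have hjN : j = N := by omega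
    rw [hjN] at hker ⊢
    rw [dsum_top]
    exact pack_base (hpos k N w hw) m hmsp hne Y π hπ hs
      (hker.trans (I_top_eq_m k N w m hw hmsp hne))
  | succ t ih =>
    intro j hjt Y π hπ hs hker
    have hj : j < N := by omega
    rw [dsum_succ N w j hj]
    exact pack_quot_step (hpos k N w hw) m (I k N j) (I k N (j + 1))
      (MvPolynomial.X ⟨j, hj⟩) (w ⟨j, hj⟩) (hw _) (X_mem k N w _) (X_mem_m k N w m hw hmsp _)
      (I_succ k N j hj) (mem_I_of_X_mul_mem k N j hj) t (dsum N w (j + 1))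
      (ih (j + 1) (by omega)) Y π hπ hs hker

/-- The socle package of the weighted polynomial ring itself. -/
theorem pack_self (hw : ∀ i, 0 < w i)
    (hmsp : m.toIdeal = Ideal.span (⋃ n ∈ Set.Ioi (0 : ℤ),
      (toAS (MvPolynomial.weightedHomogeneousSubmodule k w) n : Set (MvPolynomial (Fin N) k))))
    (hne : (1 : MvPolynomial (Fin N) k) ∉ m.toIdeal) :
    Pack m (GrLC.GMod.of (toAS (MvPolynomial.weightedHomogeneousSubmodule k w))
      (MvPolynomial (Fin N) k) (toAS (MvPolynomial.weightedHomogeneousSubmodule k w))) N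
      (∑ i, w i) := by
  have h := pack_quot k N w m hw hmsp hne N 0 (by omega)
    (GrLC.GMod.of (toAS (MvPolynomial.weightedHomogeneousSubmodule k w))
      (MvPolynomial (Fin N) k) (toAS (MvPolynomial.weightedHomogeneousSubmodule k w)))
    LinearMap.id (fun _ _ hr => hr) (fun y => ⟨y, rfl⟩)
    (by rw [I_zero]; exact LinearMap.ker_id)
  rw [dsum_zero] at h
  exact h

end Groth.Agent.Lib.R2H7.GrWPoly
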