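/-
The standard graded polynomial ring `k[X_1, …, X_r]` (graded by the weighted homogeneous
submodules with all weights `1`): basic facts and the graded local cohomology at the irrelevant
ideal: `H^i = 0` for `i ≠ r` and `H^r_g ≠ 0` iff `g ≤ -r`.
-/
import Mathlib
import Groth.Agent.Lib.R2H7GrWPoly
import Groth.Agent.Lib.R2H7GrTop
import Groth.Agent.Lib.R2H7GrVerGor
import Groth.Agent.Lib.R2H7GrCanFin
import Groth.Agent.Lib.Helper28PolyCM

set_option autoImplicit false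
open DirectSum
attribute [local instance] MvPolynomial.weightedGradedAlgebra

noncomputable section

namespace Groth.Agent.Lib.H6xSegPolyA

open Groth.Agent.Lib.R2H7.GrDer Groth.Agent.Lib.R2H7.GrTop Groth.Agent.Lib.R2H7.GrBdry
  Groth.Agent.Lib.R2H7.GrSocle Groth.Agent.Lib.R2H7.GrCanFin

universe u

variable (k : Type u) [Field k] (r : ℕ)

/-- The standard grading of the polynomial ring. -/
abbrev sgr : ℤ → Submodule k (MvPolynomial (Fin r) k) :=
  MvPolynomial.weightedHomogeneousSubmodule k (fun _ : Fin r => (1 : ℤ))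

theorem one_pos' : ∀ i : Fin r, 0 < (fun _ : Fin r => (1 : ℤ)) i := fun _ => zero_lt_one

theorem hpos (n : ℤ) (hn : n < 0) : sgr k r n = ⊥ := by
  have h := Groth.Agent.Lib.R2H7.GrWPoly.hpos k r (fun _ : Fin r => (1 : ℤ)) (one_pos' r) n hn
  rw [Submodule.eq_bot_iff]
  intro x hx
  have hx' : x ∈ toAS (sgr k r) n := hx
  rw [h] at hx'
  exact AddSubgroup.mem_bot.mp hx'

theorem h0 : sgr k r 0 = Submodule.span k {(1 : MvPolynomial (Fin r) k)} := by
  apply le_antisymm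
  · intro p hp
    have h := Groth.Agent.Lib.R2H7.GrWPoly.eq_C_of_mem_zero k r (fun _ : Fin r => (1 : ℤ))
      (one_pos' r) p hp
    rw [Submodule.mem_span_singleton]
    refine ⟨MvPolynomial.coeff 0 p, ?_⟩
    rw [h, MvPolynomial.coeff_C, if_pos rfl, ← MvPolynomial.algebraMap_eq,
      Algebra.algebraMap_eq_smul_one]
  · rw [Submodule.span_le]
    intro x hx
    rw [Set.mem_singleton_iff] at hx
    rw [hx]
    exact SetLike.GradedOne.one_mem

theorem dim : ringKrullDim (MvPolynomial (Fin r) k) = (r : WithBot ℕ∞) := by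
  rw [MvPolynomial.ringKrullDim_of_isNoetherianRing, ringKrullDim_eq_zero_of_field]
  simp

/-- Nonzero elements in every non-negative degree. -/
theorem exists_ne_zero_mem (hr : 1 ≤ r) (n : ℤ) (hn : 0 ≤ n) :
    ∃ x ∈ sgr k r n, x ≠ 0 := by
  obtain ⟨m, rfl⟩ := Int.eq_ofNat_of_zero_le hn
  refine ⟨(MvPolynomial.X (⟨0, hr⟩ : Fin r)) ^ m, ?_, pow_ne_zero _ (MvPolynomial.X_ne_zero _)⟩
  have h1 := (MvPolynomial.isWeightedHomogeneous_X k (fun _ : Fin r => (1 : ℤ))
    (⟨0, hr⟩ : Fin r)).pow m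
  have h2 : m • (1 : ℤ) = (m : ℤ) := by simp
  rw [h2] at h1
  exact h1

theorem piece_forall_eq_zero_iff (hr : 1 ≤ r) (n : ℤ) :
    (∀ x ∈ sgr k r n, x = 0) ↔ n < 0 := by
  constructor
  · intro h
    by_contra hn
    rw [not_lt] at hn
    obtain ⟨x, hx, hx0⟩ := exists_ne_zero_mem k r hr n hn
    exact hx0 (h x hx)
  · intro hn x hx
    rw [hpos k r n hn, Submodule.mem_bot] at hx
    exact hx

/-! ### Local cohomology -/

variable (m : HomogeneousIdeal (toAS (sgr k r)))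
  (hmsp : m.toIdeal = Ideal.span (⋃ n ∈ Set.Ioi (0 : ℤ),
    (toAS (sgr k r) n : Set (MvPolynomial (Fin r) k))))

/-- The polynomial ring as a graded module over itself. -/
abbrev X₀ : GrLC.GMod.{u} (toAS (sgr k r)) :=
  GrLC.GMod.of (toAS (sgr k r)) (MvPolynomial (Fin r) k) (toAS (sgr k r))

include hmsp in
theorem one_notMem : (1 : MvPolynomial (Fin r) k) ∉ m.toIdeal := by
  intro h
  have h1 : (Groth.Agent.Lib.R2H7.GrVerGor.irr (toAS (sgr k r))).toIdeal = m.toIdeal := by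
    rw [hmsp]
    rfl
  have h2 := Groth.Agent.Lib.R2H7.GrVerGor.irr_ne_top
    (Groth.Agent.Lib.R2H7.GrWPoly.hpos k r (fun _ : Fin r => (1 : ℤ)) (one_pos' r))
    (Groth.Agent.Lib.R2H7.GrWPoly.isField_deg0 k r (fun _ : Fin r => (1 : ℤ)) (one_pos' r))
  apply h2
  rw [h1]
  exact (Ideal.eq_top_iff_one _).mpr h

include hmsp in
theorem pack : Pack m (X₀ k r) r (r : ℤ) := by
  have h := Groth.Agent.Lib.R2H7.GrWPoly.pack_self k r (fun _ : Fin r => (1 : ℤ)) m (one_pos' r)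
    hmsp (one_notMem k r m hmsp)
  have h2 : (∑ _i : Fin r, (1 : ℤ)) = (r : ℤ) := by simp
  rw [h2] at h
  exact h

include hmsp in
theorem vanX_of_ne (i : ℕ) (hi : i ≠ r) (g : ℤ) : VanX m (X₀ k r) i g :=
  (pack k r m hmsp).van i hi g

include hmsp in
theorem m_eq_span_one :
    m.toIdeal = Ideal.span ((toAS (sgr k r) 1 : AddSubgroup _) : Set (MvPolynomial (Fin r) k)) := by
  apply le_antisymm
  · rw [← Groth.Agent.Lib.R2H7.GrWPoly.I_top_eq_m k r (fun _ : Fin r => (1 : ℤ)) m (one_pos' r)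
      hmsp (one_notMem k r m hmsp)]
    unfold Groth.Agent.Helper13Syzygy.I
    rw [Ideal.span_le]
    rintro _ ⟨l, _, rfl⟩
    exact Ideal.subset_span
      (Groth.Agent.Lib.R2H7.GrWPoly.X_mem k r (fun _ : Fin r => (1 : ℤ)) l)
  · rw [Ideal.span_le, hmsp]
    intro x hx
    exact Ideal.subset_span (Set.mem_iUnion₂.mpr ⟨1, Set.mem_Ioi.mpr zero_lt_one, hx⟩)

include hmsp in
/-- The top local cohomology of the polynomial ring lives exactly in degrees `≤ -r`. -/
theorem vanX_top_iff (hr : 1 ≤ r) (g : ℤ) : VanX m (X₀ k r) r g ↔ -(r : ℤ) < g := by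
  classical
  have hP := pack k r m hmsp
  obtain ⟨E⟩ := exists_res (X₀ k r)
  constructor
  · intro h
    by_contra hle
    rw [not_lt] at hle
    have h1 : VanX m (X₀ k r) r (-(r : ℤ)) :=
      vanX_top_of_le m (m_eq_span_one k r m hmsp) r hr (dim k r) (X₀ k r) g _ hle h
    obtain ⟨η, hη, hη0, -⟩ := hP.gen E
    have h2 : E.Hgr m r (-(r : ℤ)) = ⊥ :=
      (Groth.Agent.Lib.R2H7.GrGen.hgr_eq_bot_iff' m (X₀ k r).gr E r _).mpr h1
    rw [h2] at hη
    exact hη0 (AddSubgroup.mem_bot.mp hη)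
  · intro hg
    refine (Groth.Agent.Lib.R2H7.GrGen.hgr_eq_bot_iff' m (X₀ k r).gr E r g).mp ?_
    rw [eq_bot_iff]
    intro h hh
    rw [AddSubgroup.mem_bot]
    by_contra hne
    obtain ⟨u, ρ, hρ, hρh, hρmem⟩ := hP.ess E g h hh hne
    have h3 : ρ • h ∈ E.Hgr m r (u + g) := smul_mem_hgr E m r hρ hh
    have h4 : u + g = -(r : ℤ) := eq_of_mem_hgr m E r h3 hρmem hρh
    have hu : 0 ≤ u := by
      by_contra hneg
      rw [not_le] at hneg
      have h5 := Groth.Agent.Lib.R2H7.GrWPoly.hpos k r (fun _ : Fin r => (1 : ℤ)) (one_pos' r) u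
        hneg
      rw [h5] at hρ
      rw [AddSubgroup.mem_bot.mp hρ, zero_smul] at hρh
      exact hρh rfl
    omega

end Groth.Agent.Lib.H6xSegPolyA
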