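/-
Shifts `R(a)` of the standard graded polynomial ring as graded modules: pieces, graded local
cohomology, and the Künneth vanishing condition for `R(a) # S(b)` in arithmetic form.
-/
import Mathlib
import Groth.Agent.Lib.H6xSegPolyA
import Groth.Agent.Lib.H6xSegMod
import Groth.Agent.Lib.Helper29GrShift
import Groth.Agent.Lib.R2H7GrAinv

set_option autoImplicit false
open DirectSum
open scoped TensorProduct
attribute [local instance] MvPolynomial.weightedGradedAlgebra

noncomputable section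

namespace Groth.Agent.Lib.H6xSegPolyB

open Groth.Agent.Lib.R2H7.GrDer Groth.Agent.Lib.R2H7.GrTop Groth.Agent.Lib.R2H7.GrBdry
  Groth.Agent.Lib.R2H7.GrOps Groth.Agent.Lib.H6xSegPolyA Groth.Agent.Lib.Helper29GrShift
  Groth.Agent.Lib.H6xSegMod

universe u

variable (k : Type u) [Field k] (r : ℕ) (a : ℤ)

/-- The pieces of the shifted module `R(a)`, as additive subgroups. -/
abbrev shM : ℤ → AddSubgroup (MvPolynomial (Fin r) k) := shiftGr (toAS (sgr k r)) a

instance instDec : DirectSum.Decomposition (shM k r a) := shiftDecomposition (toAS (sgr k r)) a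

instance instGSMul : SetLike.GradedSMul (sgr k r) (shM k r a) :=
  ⟨by
    intro i j x y hx hy
    have h := (shift_gradedSMul (toAS (sgr k r)) (toAS (sgr k r)) a).smul_mem
      (i := i) (j := j) (show x ∈ toAS (sgr k r) i from hx) hy
    exact h⟩

theorem mem_shM (d : ℤ) (x : MvPolynomial (Fin r) k) : x ∈ shM k r a d ↔ x ∈ sgr k r (d + a) :=
  Iff.rfl

theorem shM_forall_eq_zero_iff (hr : 1 ≤ r) (d : ℤ) :
    (∀ x ∈ shM k r a d, x = 0) ↔ d + a < 0 :=
  piece_forall_eq_zero_iff k r hr (d + a)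

variable (mR : HomogeneousIdeal (sgr k r))
  (hmR : mR.toIdeal = Ideal.span (⋃ n ∈ Set.Ioi (0 : ℤ),
    (sgr k r n : Set (MvPolynomial (Fin r) k))))

include hmR in
/-- The graded local cohomology of `R(a)`. -/
theorem hcomp_eq_bot_iff' (hr : 1 ≤ r) (E : GrLC.StarInjRes (sgr k r) (shM k r a)) (i : ℕ)
    (d : ℤ) : E.Hcomp mR i d = ⊥ ↔ (i ≠ r ∨ -(r : ℤ) < d + a) := by
  rw [hcomp_eq_bot_iff_vanX (sgr k r) (shM k r a) E mR i d]
  have e1 : VanX (convIdeal (sgr k r) mR) (toGMod (sgr k r) (shM k r a)) i d ↔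
      VanX (convIdeal (sgr k r) mR) (shiftG (X₀ k r) a) i d := by
    refine Groth.Agent.Lib.R2H7.GrAinv.vanX_iff_of_bijective (convIdeal (sgr k r) mR)
      (X := toGMod (sgr k r) (shM k r a)) (N := shiftG (X₀ k r) a)
      (LinearMap.id : MvPolynomial (Fin r) k →ₗ[MvPolynomial (Fin r) k] MvPolynomial (Fin r) k)
      ?_ ?_ ?_ i d
    · intro g x hx
      exact hx
    · intro y
      exact ⟨y, rfl⟩
    · exact LinearMap.ker_id
  rw [e1, vanX_shift]
  by_cases hi : i = r
  · subst hi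
    rw [vanX_top_iff k i (convIdeal (sgr k i) mR) hmR hr (d + a)]
    constructor
    · intro h
      exact Or.inr h
    · rintro (h | h)
      · exact absurd rfl h
      · exact h
  · constructor
    · intro _
      exact Or.inl hi
    · intro _
      exact vanX_of_ne k r (convIdeal (sgr k r) mR) hmR i hi (d + a)

/-! ### The Künneth condition in arithmetic form -/

/-- The arithmetic form of the Künneth vanishing condition for `R(a) # S(b)`. -/
def Cpoly (r s : ℕ) (a b : ℤ) (q : ℕ) (d : ℤ) : Prop :=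
  ¬ (q = s ∧ 0 ≤ d + a ∧ d + b ≤ -(s : ℤ)) ∧ ¬ (q = r ∧ d + a ≤ -(r : ℤ) ∧ 0 ≤ d + b) ∧
    ¬ (q + 1 = r + s ∧ d + a ≤ -(r : ℤ) ∧ d + b ≤ -(s : ℤ))

section two

variable (s : ℕ) (b : ℤ) (mS : HomogeneousIdeal (sgr k s))
  (hmS : mS.toIdeal = Ideal.span (⋃ n ∈ Set.Ioi (0 : ℤ),
    (sgr k s n : Set (MvPolynomial (Fin s) k))))
  (EM : GrLC.StarInjRes (sgr k r) (shM k r a)) (EN : GrLC.StarInjRes (sgr k s) (shM k s b))

include hmR hmS in
theorem kcond_iff (hr : 1 ≤ r) (hs : 1 ≤ s) (q : ℕ) (d : ℤ) :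
    KCond mR mS EM EN q d ↔ Cpoly r s a b q d := by
  unfold KCond Cpoly
  have h3 : (∀ i ∈ Finset.range (q + 2),
      EM.Hcomp mR i d = ⊥ ∨ EN.Hcomp mS (q + 1 - i) d = ⊥) ↔
      ¬ (q + 1 = r + s ∧ d + a ≤ -(r : ℤ) ∧ d + b ≤ -(s : ℤ)) := by
    constructor
    · rintro h ⟨h1, h2, h3⟩
      have h4 := h r (Finset.mem_range.mpr (by omega))
      rw [hcomp_eq_bot_iff' k r a mR hmR hr EM r d,
        hcomp_eq_bot_iff' k s b mS hmS hs EN (q + 1 - r) d] at h4
      omega
    · intro h i hi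
      rw [Finset.mem_range] at hi
      rw [hcomp_eq_bot_iff' k r a mR hmR hr EM i d,
        hcomp_eq_bot_iff' k s b mS hmS hs EN (q + 1 - i) d]
      omega
  rw [h3, shM_forall_eq_zero_iff k r a hr d, shM_forall_eq_zero_iff k s b hs d,
    hcomp_eq_bot_iff' k r a mR hmR hr EM q d, hcomp_eq_bot_iff' k s b mS hmS hs EN q d]
  omega

end two

end Groth.Agent.Lib.H6xSegPolyB
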