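import Mathlib
import Groth.Agent.Lib.Helper22GrAvoid
import Groth.Agent.Lib.Helper4HilbFunB
import Groth.Agent.Lib.Helper5IntDim
import Groth.Agent.Lib.Helper14FTDim

set_option autoImplicit false
set_option linter.style.haveILetI false
set_option linter.unusedSectionVars false
universe u v w

namespace Groth.Agent.Lib.H9Segre

-- ===== from SG1 =====
section SecSG1
open DirectSum
variable {k : Type*} [Field k] {R : Type*} [CommRing R] [Algebra k R]
  (𝒜 : ℕ → Submodule k R) [GradedAlgebra 𝒜]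

/-- the irrelevant ideal -/
noncomputable abbrev irr : Ideal R := (HomogeneousIdeal.irrelevant 𝒜).toIdeal

theorem mem_irr_iff (a : R) : a ∈ irr 𝒜 ↔ (decompose 𝒜 a 0 : R) = 0 := by
  show a ∈ HomogeneousIdeal.irrelevant 𝒜 ↔ _
  rw [HomogeneousIdeal.mem_irrelevant_iff, GradedRing.proj_apply]

theorem mem_irr_of_mem {d : ℕ} (hd : 0 < d) {a : R} (ha : a ∈ 𝒜 d) : a ∈ irr 𝒜 := by
  rw [mem_irr_iff, decompose_of_mem_ne 𝒜 ha (Nat.pos_iff_ne_zero.mp hd)]

variable (h0 : ∀ a ∈ 𝒜 0, ∃ c : k, a = algebraMap k R c)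
include h0

theorem le_irr_of_isHomogeneous (I : Ideal R) (hI : I.IsHomogeneous 𝒜) (hne : I ≠ ⊤) :
    I ≤ irr 𝒜 := by
  intro x hx
  rw [mem_irr_iff]
  have h1 : (decompose 𝒜 x 0 : R) ∈ I := hI 0 hx
  obtain ⟨c, hc⟩ := h0 _ (decompose 𝒜 x 0).2
  by_contra hne0
  have hc0 : c ≠ 0 := by
    rintro rfl
    rw [map_zero] at hc
    exact hne0 hc
  apply hne
  rw [Ideal.eq_top_iff_one]
  have : (1 : R) = algebraMap k R c⁻¹ * (decompose 𝒜 x 0 : R) := by
    rw [hc, ← map_mul, inv_mul_cancel₀ hc0, map_one]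
  rw [this]
  exact Ideal.mul_mem_left _ _ h1

theorem irr_isMaximal [Nontrivial R] : (irr 𝒜).IsMaximal := by
  rw [Ideal.isMaximal_iff]
  refine ⟨?_, ?_⟩
  · rw [mem_irr_iff, decompose_of_mem_same 𝒜 (SetLike.one_mem_graded 𝒜)]
    exact one_ne_zero
  · intro J x hJ hx hxJ
    rw [mem_irr_iff] at hx
    obtain ⟨c, hc⟩ := h0 _ (decompose 𝒜 x 0).2
    have hc0 : c ≠ 0 := by
      rintro rfl
      rw [map_zero] at hc
      exact hx hc
    have h1 : x - (decompose 𝒜 x 0 : R) ∈ irr 𝒜 := by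
      rw [mem_irr_iff, decompose_sub, DFinsupp.sub_apply, AddSubgroupClass.coe_sub,
        decompose_coe, DirectSum.of_eq_same, sub_self]
    have h2 : (decompose 𝒜 x 0 : R) ∈ J := by
      have := J.sub_mem hxJ (hJ h1)
      rwa [sub_sub_cancel] at this
    have : (1 : R) = algebraMap k R c⁻¹ * (decompose 𝒜 x 0 : R) := by
      rw [hc, ← map_mul, inv_mul_cancel₀ hc0, map_one]
    rw [this]
    exact Ideal.mul_mem_left _ _ h2

/-- base case: dimension zero -/
theorem irr_le_radical_of_dim_le_zero [Nontrivial R] (J : Ideal R) (hJ : J.IsHomogeneous 𝒜)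
    (hdim : ringKrullDim (R ⧸ J) ≤ 0) : irr 𝒜 ≤ J.radical := by
  rw [hJ.radical_eq]
  refine le_sInf ?_
  rintro Q ⟨hQh, hJQ, hQp⟩
  haveI := hQp
  haveI : (irr 𝒜).IsPrime := (irr_isMaximal 𝒜 h0).isPrime
  have hle : Q ≤ irr 𝒜 := le_irr_of_isHomogeneous 𝒜 h0 Q hQh hQp.ne_top
  rw [Groth.Agent.Lib.Helper4.HilbFun.eq_of_le_of_dim_le_zero J hdim Q (irr 𝒜) hJQ hle]

/-- existence of a homogeneous system of parameters (relative to a homogeneous ideal) -/
theorem exists_hsop [Nontrivial R] [IsNoetherianRing R] : ∀ (n : ℕ) (J : Ideal R),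
    J.IsHomogeneous 𝒜 → ringKrullDim (R ⧸ J) ≤ (n : WithBot ℕ∞) →
    ∃ (x : Fin n → R) (d : Fin n → ℕ), (∀ i, 0 < d i ∧ x i ∈ 𝒜 (d i)) ∧
      irr 𝒜 ≤ (J ⊔ Ideal.span (Set.range x)).radical := by
  intro n
  induction n with
  | zero =>
    intro J hJ hdim
    refine ⟨Fin.elim0, Fin.elim0, fun i => i.elim0, ?_⟩
    have : Set.range (Fin.elim0 : Fin 0 → R) = ∅ := Set.range_eq_empty _
    rw [this, Ideal.span_empty, sup_bot_eq]
    exact irr_le_radical_of_dim_le_zero 𝒜 h0 J hJ (by exact_mod_cast hdim)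
  | succ n ih =>
    intro J hJ hdim
    classical
    have hfin : (J.minimalPrimes).Finite := Ideal.finite_minimalPrimes_of_isNoetherianRing R J
    set P : Finset (Ideal R) := hfin.toFinset.filter (fun p => ¬ p.IsMaximal) with hP
    have hP' : ∀ p ∈ P, p.IsPrime ∧ ¬ irr 𝒜 ≤ p := by
      intro p hp
      rw [hP, Finset.mem_filter, Set.Finite.mem_toFinset] at hp
      refine ⟨hp.1.1.1, fun hle => hp.2 ?_⟩
      have := (irr_isMaximal 𝒜 h0).eq_of_le hp.1.1.1.ne_top hle
      rw [← this]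
      exact irr_isMaximal 𝒜 h0
    obtain ⟨x, d, hd, hxd, -, hxP⟩ :=
      Groth.Agent.Lib.Helper22.GrAvoid.exists_homogeneous_avoid 𝒜 (irr 𝒜)
        (HomogeneousIdeal.irrelevant 𝒜).isHomogeneous le_rfl P hP'
    have hdrop : ringKrullDim (R ⧸ (J ⊔ Ideal.span {x})) ≤ (n : WithBot ℕ∞) := by
      refine Groth.Agent.Lib.Helper4.HilbFun.dim_quotient_sup_span_le J x n hdim ?_
      intro p hp
      by_cases hmax : p.IsMaximal
      · exact Or.inr hmax
      · left
        apply hxP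
        rw [hP, Finset.mem_filter, Set.Finite.mem_toFinset]
        exact ⟨hp, hmax⟩
    have hJ' : (J ⊔ Ideal.span {x}).IsHomogeneous 𝒜 := by
      refine hJ.sup (Ideal.homogeneous_span 𝒜 _ ?_)
      rintro y hy
      rw [Set.mem_singleton_iff] at hy
      rw [hy]
      exact ⟨d, hxd⟩
    obtain ⟨x', d', hx', hrad⟩ := ih _ hJ' hdrop
    refine ⟨Fin.cons x x', Fin.cons d d', ?_, ?_⟩
    · intro i
      refine Fin.cases ?_ (fun j => ?_) i
      · simp only [Fin.cons_zero]; exact ⟨hd, hxd⟩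
      · simp only [Fin.cons_succ]; exact hx' j
    · have : Set.range (Fin.cons x x' : Fin (n + 1) → R) = insert x (Set.range x') :=
        Fin.range_cons x x'
      rw [this, Ideal.span_insert, ← sup_assoc]
      exact hrad

end SecSG1

-- ===== from SG2 =====
section SecSG2
open DirectSum
variable {k : Type*} [Field k] {R : Type*} [CommRing R] [Algebra k R]
  (𝒜 : ℕ → Submodule k R) [GradedAlgebra 𝒜]
  (h0 : ∀ a ∈ 𝒜 0, ∃ c : k, a = algebraMap k R c)
include h0

theorem finite_quotient [IsNoetherianRing R] [Algebra.FiniteType k R] (I : Ideal R)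
    (hrad : irr 𝒜 ≤ I.radical) : Module.Finite k (R ⧸ I) := by
  obtain ⟨N, hN⟩ := Ideal.exists_pow_le_of_le_radical_of_fg hrad (IsNoetherian.noetherian _)
  haveI : Algebra.IsIntegral k (R ⧸ I) := by
    refine ⟨fun q => ?_⟩
    obtain ⟨a, rfl⟩ := Ideal.Quotient.mk_surjective q
    obtain ⟨c, hc⟩ := h0 _ (decompose 𝒜 a 0).2
    have h1 : a - (decompose 𝒜 a 0 : R) ∈ irr 𝒜 := by
      rw [mem_irr_iff, decompose_sub, DFinsupp.sub_apply, AddSubgroupClass.coe_sub,
        decompose_coe, DirectSum.of_eq_same, sub_self]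
    have h2 : (a - (decompose 𝒜 a 0 : R)) ^ (N + 1) ∈ I := by
      apply hN
      rw [pow_succ]
      exact Ideal.mul_mem_right _ _ (Ideal.pow_mem_pow h1 N)
    have h3 : IsIntegral k (Ideal.Quotient.mk I (a - (decompose 𝒜 a 0 : R))) := by
      refine IsIntegral.of_pow (Nat.succ_pos N) ?_
      rw [← map_pow, Ideal.Quotient.eq_zero_iff_mem.mpr h2]
      exact isIntegral_zero
    have h4 : IsIntegral k (Ideal.Quotient.mk I (decompose 𝒜 a 0 : R)) := by
      rw [hc]
      exact isIntegral_algebraMap (x := c)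
    have : Ideal.Quotient.mk I a = Ideal.Quotient.mk I (a - (decompose 𝒜 a 0 : R)) +
        Ideal.Quotient.mk I (decompose 𝒜 a 0 : R) := by
      rw [← map_add, sub_add_cancel]
    rw [this]
    exact h3.add h4
  exact Algebra.IsIntegral.finite

theorem finite_aeval [IsNoetherianRing R] [Algebra.FiniteType k R] {r : ℕ} (x : Fin r → R)
    (D : ℕ) (hD : 0 < D) (hx : ∀ i, x i ∈ 𝒜 D)
    (hrad : irr 𝒜 ≤ (Ideal.span (Set.range x)).radical) :
    (MvPolynomial.aeval x : MvPolynomial (Fin r) k →ₐ[k] R).toRingHom.Finite := by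
  classical
  set I := Ideal.span (Set.range x) with hI
  haveI := finite_quotient 𝒜 h0 I hrad
  obtain ⟨t, ht⟩ := (Module.Finite.fg_top : (⊤ : Submodule k (R ⧸ I)).FG)
  choose a ha using fun q : R ⧸ I => Ideal.Quotient.mk_surjective q
  letI alg : Algebra (MvPolynomial (Fin r) k) R := (MvPolynomial.aeval x).toRingHom.toAlgebra
  haveI : IsScalarTower k (MvPolynomial (Fin r) k) R :=
    IsScalarTower.of_algebraMap_eq fun c => ((MvPolynomial.aeval x).commutes c).symm
  have hsmul : ∀ (p : MvPolynomial (Fin r) k) (b : R), p • b = MvPolynomial.aeval x p * b :=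
    fun p b => rfl
  set S₀ : Finset R := t.biUnion (fun q => (decompose 𝒜 (a q)).support.image
    (fun n => (decompose 𝒜 (a q) n : R))) with hS₀
  set W : Submodule (MvPolynomial (Fin r) k) R := Submodule.span _ (S₀ : Set R) with hW
  have hcomp : ∀ (q : R ⧸ I), q ∈ t → ∀ n, (decompose 𝒜 (a q) n : R) ∈ W := by
    intro q hq n
    by_cases hn : n ∈ (decompose 𝒜 (a q)).support
    · apply Submodule.subset_span
      rw [hS₀, Finset.coe_biUnion, Set.mem_iUnion₂]
      exact ⟨q, hq, Finset.mem_coe.mpr (Finset.mem_image.mpr ⟨n, hn, rfl⟩)⟩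
    · rw [DFinsupp.notMem_support_iff] at hn
      rw [hn]
      exact zero_mem _
  have key : ∀ n, ∀ b ∈ 𝒜 n, b ∈ W := by
    intro n
    induction n using Nat.strong_induction_on with
    | _ n ih =>
      intro b hb
      have hmem : Ideal.Quotient.mk I b ∈ Submodule.span k (t : Set (R ⧸ I)) := by
        rw [ht]; trivial
      rw [Submodule.mem_span_finset] at hmem
      obtain ⟨c, -, hc⟩ := hmem
      have h1 : b - ∑ q ∈ t, c q • a q ∈ I := by
        rw [← Ideal.Quotient.eq_zero_iff_mem, map_sub, map_sum, sub_eq_zero]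
        rw [← hc]
        refine Finset.sum_congr rfl fun q _ => ?_
        have : Ideal.Quotient.mk I (c q • a q) = c q • Ideal.Quotient.mk I (a q) :=
          map_smul (Ideal.Quotient.mkₐ k I) (c q) (a q)
        rw [this, ha q]
      obtain ⟨ρ, hρ⟩ := Ideal.mem_span_range_iff_exists_fun.mp
        (show b - ∑ q ∈ t, c q • a q ∈ Ideal.span (Set.range x) from h1)
      have h2 : b = ∑ q ∈ t, c q • a q + ∑ i, ρ i * x i := by rw [hρ]; ring
      have h3 : b = (decompose 𝒜 b n : R) := by rw [decompose_of_mem_same 𝒜 hb]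
      rw [h3, h2, decompose_add, DFinsupp.add_apply, AddMemClass.coe_add, decompose_sum,
        decompose_sum, DFinsupp.finset_sum_apply, DFinsupp.finset_sum_apply,
        AddSubmonoidClass.coe_finset_sum, AddSubmonoidClass.coe_finset_sum]
      refine W.add_mem (W.sum_mem fun q hq => ?_) (W.sum_mem fun i _ => ?_)
      · rw [decompose_smul, DFinsupp.smul_apply, Submodule.coe_smul]
        have := W.smul_mem (MvPolynomial.C (c q)) (hcomp q hq n)
        rw [hsmul, MvPolynomial.aeval_C, ← Algebra.smul_def] at this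
        exact this
      · by_cases hDn : D ≤ n
        · rw [coe_decompose_mul_of_right_mem_of_le 𝒜 (hx i) hDn]
          have hlt : n - D < n := Nat.sub_lt (lt_of_lt_of_le hD hDn) hD
          have := W.smul_mem (MvPolynomial.X i) (ih (n - D) hlt _ (decompose 𝒜 (ρ i) (n - D)).2)
          rw [hsmul, MvPolynomial.aeval_X, mul_comm] at this
          exact this
        · rw [coe_decompose_mul_of_right_mem_of_not_le 𝒜 (hx i) hDn]
          exact zero_mem _
  have htop : W = ⊤ := by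
    rw [eq_top_iff]
    intro b _
    rw [← DirectSum.sum_support_decompose 𝒜 b]
    exact W.sum_mem fun n _ => key n _ (decompose 𝒜 b n).2
  show Module.Finite (MvPolynomial (Fin r) k) R
  exact ⟨⟨S₀, htop⟩⟩

end SecSG2

-- ===== from SG3 =====
section SecSG3
open DirectSum
variable {k : Type*} [Field k] {R : Type*} [CommRing R] [Algebra k R]
  (𝒜 : ℕ → Submodule k R) [GradedAlgebra 𝒜]

omit [GradedAlgebra 𝒜] in
theorem radical_span_pow {r : ℕ} (x : Fin r → R) (e : Fin r → ℕ) :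
    (Ideal.span (Set.range x)).radical ≤
      (Ideal.span (Set.range fun i => x i ^ e i)).radical := by
  rw [Ideal.radical_le_radical_iff, Ideal.span_le]
  rintro _ ⟨i, rfl⟩
  exact ⟨e i, Ideal.subset_span ⟨i, rfl⟩⟩

variable (h0 : ∀ a ∈ 𝒜 0, ∃ c : k, a = algebraMap k R c)
include h0

theorem exists_hsop_same_degree [Nontrivial R] [IsNoetherianRing R] (r : ℕ)
    (hr : ringKrullDim R ≤ (r : WithBot ℕ∞)) :
    ∃ (D : ℕ) (x : Fin r → R), 0 < D ∧ (∀ i, x i ∈ 𝒜 D) ∧
      irr 𝒜 ≤ (Ideal.span (Set.range x)).radical := by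
  have hdim : ringKrullDim (R ⧸ (⊥ : Ideal R)) ≤ (r : WithBot ℕ∞) := by
    rw [ringKrullDim_eq_of_ringEquiv (RingEquiv.quotientBot R)]
    exact hr
  obtain ⟨x, d, hxd, hrad⟩ := exists_hsop 𝒜 h0 r ⊥ (Ideal.IsHomogeneous.bot 𝒜) hdim
  rw [bot_sup_eq] at hrad
  refine ⟨∏ i, d i, fun i => x i ^ ((∏ j, d j) / d i), ?_, ?_, ?_⟩
  · exact Finset.prod_pos fun i _ => (hxd i).1
  · intro i
    have h1 := SetLike.pow_mem_graded ((∏ j, d j) / d i) (hxd i).2
    have h2 : ((∏ j, d j) / d i) • d i = ∏ j, d j := by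
      rw [smul_eq_mul]
      exact Nat.div_mul_cancel (Finset.dvd_prod_of_mem d (Finset.mem_univ i))
    rwa [h2] at h1
  · exact hrad.trans (radical_span_pow x _)

theorem hsop_pow {r : ℕ} (x : Fin r → R) (D : ℕ) (hx : ∀ i, x i ∈ 𝒜 D)
    (hrad : irr 𝒜 ≤ (Ideal.span (Set.range x)).radical) (e : ℕ) :
    (∀ i, x i ^ e ∈ 𝒜 (D * e)) ∧
      irr 𝒜 ≤ (Ideal.span (Set.range fun i => x i ^ e)).radical := by
  refine ⟨fun i => ?_, hrad.trans (radical_span_pow x _)⟩
  have h1 := SetLike.pow_mem_graded e (hx i)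
  rwa [smul_eq_mul, mul_comm] at h1

omit h0 [GradedAlgebra 𝒜] in
theorem injective_of_dim {r : ℕ} (x : Fin r → R)
    (hfin : (MvPolynomial.aeval x : MvPolynomial (Fin r) k →ₐ[k] R).toRingHom.Finite)
    (hr : ringKrullDim R = (r : WithBot ℕ∞)) :
    Function.Injective (MvPolynomial.aeval x : MvPolynomial (Fin r) k →ₐ[k] R) := by
  set f : MvPolynomial (Fin r) k →+* R :=
    (MvPolynomial.aeval x : MvPolynomial (Fin r) k →ₐ[k] R).toRingHom with hf
  have hint : f.IsIntegral := hfin.to_isIntegral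
  have h1 := Groth.Agent.Lib.Helper5.ringKrullDim_eq_ringKrullDim_quotient_ker_of_isIntegral f hint
  show Function.Injective f
  rw [RingHom.injective_iff_ker_eq_bot]
  by_contra hne
  obtain ⟨p, hp, hp0⟩ := Submodule.exists_mem_ne_zero_of_ne_bot hne
  have hnzd : p ∈ nonZeroDivisors (MvPolynomial (Fin r) k) := mem_nonZeroDivisors_of_ne_zero hp0
  have h2 := ringKrullDim_succ_le_of_surjective (Ideal.Quotient.mk (RingHom.ker f))
    Ideal.Quotient.mk_surjective hnzd (Ideal.Quotient.eq_zero_iff_mem.mpr hp)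
  have hP : ringKrullDim (MvPolynomial (Fin r) k) = (r : WithBot ℕ∞) := by
    rw [MvPolynomial.ringKrullDim_of_isNoetherianRing, ringKrullDim_eq_zero_of_field]
    simp
  rw [← h1, hr, hP] at h2
  have h4 : ((r + 1 : ℕ) : WithBot ℕ∞) ≤ ((r : ℕ) : WithBot ℕ∞) := by exact_mod_cast h2
  have h5 : r + 1 ≤ r := by exact_mod_cast h4
  omega

end SecSG3

-- ===== from SG4 =====
section SecSG4
open DirectSum TensorProduct
variable {k : Type*} [Field k] {R : Type*} [CommRing R] [Algebra k R]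
  (𝒜 : ℕ → Submodule k R) [GradedAlgebra 𝒜]
  {S : Type*} [CommRing S] [Algebra k S] (ℬ : ℕ → Submodule k S) [GradedAlgebra ℬ]

/-- component maps -/
noncomputable def phi (n : ℕ) : 𝒜 n →ₗ[k] S →ₗ[k] R ⊗[k] S :=
  ((TensorProduct.mk k R S).compl₂ (GradedAlgebra.proj ℬ n)).comp (𝒜 n).subtype

noncomputable def beta : R →ₗ[k] S →ₗ[k] R ⊗[k] S :=
  (DirectSum.toModule k ℕ _ (phi 𝒜 ℬ)).comp (DirectSum.decomposeLinearEquiv 𝒜).toLinearMap

/-- the projection onto the diagonal part `⊕ₙ 𝒜ₙ ⊗ ℬₙ` -/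
noncomputable def pi0 : R ⊗[k] S →ₗ[k] R ⊗[k] S := TensorProduct.lift (beta 𝒜 ℬ)

theorem pi0_tmul_of_mem {n : ℕ} {a : R} (ha : a ∈ 𝒜 n) (b : S) :
    pi0 𝒜 ℬ (a ⊗ₜ[k] b) = a ⊗ₜ[k] (decompose ℬ b n : S) := by
  unfold pi0 beta
  rw [TensorProduct.lift.tmul, LinearMap.comp_apply, LinearEquiv.coe_coe,
    DirectSum.decomposeLinearEquiv_apply, decompose_of_mem 𝒜 ha, ← DirectSum.lof_eq_of k,
    DirectSum.toModule_lof]
  rfl

theorem pi0_tmul_of_mem_of_mem {n m : ℕ} {a : R} (ha : a ∈ 𝒜 n) {b : S} (hb : b ∈ ℬ m) :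
    pi0 𝒜 ℬ (a ⊗ₜ[k] b) = if m = n then a ⊗ₜ[k] b else 0 := by
  rw [pi0_tmul_of_mem 𝒜 ℬ ha]
  split_ifs with h
  · subst h
    rw [decompose_of_mem_same ℬ hb]
  · rw [decompose_of_mem_ne ℬ hb h, TensorProduct.tmul_zero]

theorem pi0_one : pi0 𝒜 ℬ (1 : R ⊗[k] S) = 1 := by
  rw [Algebra.TensorProduct.one_def, pi0_tmul_of_mem 𝒜 ℬ (SetLike.one_mem_graded 𝒜),
    decompose_of_mem_same ℬ (SetLike.one_mem_graded ℬ)]

theorem pi0_mul_tmul {m : ℕ} {a' : R} (ha' : a' ∈ 𝒜 m) {b' : S} (hb' : b' ∈ ℬ m)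
    (g : R ⊗[k] S) : pi0 𝒜 ℬ (a' ⊗ₜ[k] b' * g) = a' ⊗ₜ[k] b' * pi0 𝒜 ℬ g := by
  induction g using TensorProduct.induction_on with
  | zero => simp
  | add g₁ g₂ h₁ h₂ => rw [mul_add, map_add, h₁, h₂, map_add, mul_add]
  | tmul a b =>
    induction a using DirectSum.Decomposition.inductionOn 𝒜 with
    | zero => simp
    | add a₁ a₂ h₁ h₂ => rw [TensorProduct.add_tmul, mul_add, map_add, h₁, h₂, map_add, mul_add]
    | @homogeneous n a =>
      rw [Algebra.TensorProduct.tmul_mul_tmul,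
        pi0_tmul_of_mem 𝒜 ℬ (SetLike.mul_mem_graded ha' a.2),
        pi0_tmul_of_mem 𝒜 ℬ a.2, Algebra.TensorProduct.tmul_mul_tmul,
        coe_decompose_mul_add_of_left_mem ℬ hb']

/-- the diagonal part, as a submodule -/
def diag : Submodule k (R ⊗[k] S) :=
  Submodule.span k {z | ∃ (n : ℕ) (a : R) (b : S), a ∈ 𝒜 n ∧ b ∈ ℬ n ∧ z = a ⊗ₜ[k] b}

theorem pi0_mul_of_mem_diag {z : R ⊗[k] S} (hz : z ∈ diag 𝒜 ℬ) (g : R ⊗[k] S) :
    pi0 𝒜 ℬ (z * g) = z * pi0 𝒜 ℬ g := by
  unfold diag at hz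
  induction hz using Submodule.span_induction with
  | mem z hz =>
    obtain ⟨n, a, b, ha, hb, rfl⟩ := hz
    exact pi0_mul_tmul 𝒜 ℬ ha hb g
  | zero => simp
  | add z₁ z₂ _ _ h₁ h₂ => rw [add_mul, map_add, h₁, h₂, add_mul]
  | smul c z _ h => rw [smul_mul_assoc, map_smul, h, smul_mul_assoc]

theorem pi0_pow_mul_of_mem_diag {z : R ⊗[k] S} (hz : z ∈ diag 𝒜 ℬ) (l : ℕ) (g : R ⊗[k] S) :
    pi0 𝒜 ℬ (z ^ l * g) = z ^ l * pi0 𝒜 ℬ g := by
  induction l generalizing g with
  | zero => simp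
  | succ l ih => rw [pow_succ, mul_assoc, ih, pi0_mul_of_mem_diag 𝒜 ℬ hz, mul_assoc]

end SecSG4

-- ===== from SG5 =====
section SecSG5
open DirectSum TensorProduct Polynomial
/-- integrality descends through a "projection" -/
theorem proj_integral {k : Type*} [CommRing k] {G : Type*} [CommRing G] [Algebra k G]
    (H C : Subalgebra k G) (π : G →ₗ[k] G) (z : G)
    (ha : ∀ (l : ℕ) (g : G), π (z ^ l * g) = z ^ l * π g) (hb : π 1 = 1)
    (hc : ∀ h ∈ H, π h ∈ C) (hz : IsIntegral H z) : IsIntegral C z := by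
  obtain ⟨p, hmon, hp⟩ := hz
  set N := p.natDegree with hN
  rw [Polynomial.eval₂_eq_sum_range] at hp
  have h1 : ∑ i ∈ Finset.range (N + 1), z ^ i * π (p.coeff i : G) = 0 := by
    have := congrArg π hp
    rw [map_sum, map_zero] at this
    rw [← this]
    refine Finset.sum_congr rfl fun i _ => ?_
    rw [← ha]
    congr 1
    rw [mul_comm]
    rfl
  -- the new polynomial
  let c : ℕ → C := fun i => ⟨π (p.coeff i : G), hc _ (p.coeff i).2⟩
  have hcN : c N = 1 := by
    apply Subtype.ext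
    show π ((p.coeff N : H) : G) = 1
    have : p.coeff N = 1 := hmon
    rw [this]
    exact hb
  refine ⟨X ^ N + ∑ i ∈ Finset.range N, Polynomial.C (c i) * X ^ i, ?_, ?_⟩
  · nontriviality C
    apply Polynomial.monic_X_pow_add
    refine lt_of_le_of_lt (Polynomial.degree_sum_le _ _) ?_
    refine (Finset.sup_lt_iff (WithBot.bot_lt_coe N)).mpr fun i hi => ?_
    refine lt_of_le_of_lt (Polynomial.degree_C_mul_X_pow_le i (c i)) ?_
    exact WithBot.coe_lt_coe.mpr (Finset.mem_range.mp hi)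
  · rw [Polynomial.eval₂_add, Polynomial.eval₂_X_pow, Polynomial.eval₂_finsetSum]
    rw [Finset.sum_range_succ] at h1
    have h2 : π ((p.coeff N : H) : G) = 1 := congrArg Subtype.val hcN
    rw [h2, mul_one] at h1
    rw [← h1, add_comm]
    congr 1
    refine Finset.sum_congr rfl fun i _ => ?_
    rw [Polynomial.eval₂_mul, Polynomial.eval₂_C, Polynomial.eval₂_X_pow, mul_comm]
    rfl

end SecSG5

-- ===== from SG6 =====
section SecSG6
open DirectSum TensorProduct Polynomial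
variable {k : Type*} [Field k] {R : Type*} [CommRing R] [Algebra k R]
  (𝒜 : ℕ → Submodule k R) [GradedAlgebra 𝒜]
  {S : Type*} [CommRing S] [Algebra k S] (ℬ : ℕ → Submodule k S) [GradedAlgebra ℬ]
  {r s : ℕ} (x : Fin r → R) (y : Fin s → S)

variable (k) in
/-- span of the `x i` -/
def Mx : Submodule k R := Submodule.span k (Set.range x)

variable (k) in
/-- the Segre subalgebra generated by `x i ⊗ y j` -/
def Cseg : Subalgebra k (R ⊗[k] S) :=
  Algebra.adjoin k {z | ∃ i j, z = x i ⊗ₜ[k] y j}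

theorem tmul_mem_Cseg_one {m : R} (hm : m ∈ Mx k x) {m' : S} (hm' : m' ∈ Mx k y) :
    m ⊗ₜ[k] m' ∈ Cseg k x y := by
  unfold Mx at hm hm'
  induction hm using Submodule.span_induction with
  | mem m hm =>
    obtain ⟨i, rfl⟩ := hm
    induction hm' using Submodule.span_induction with
    | mem m' hm' =>
      obtain ⟨j, rfl⟩ := hm'
      exact Algebra.subset_adjoin ⟨i, j, rfl⟩
    | zero => rw [TensorProduct.tmul_zero]; exact zero_mem _
    | add a b _ _ h₁ h₂ => rw [TensorProduct.tmul_add]; exact add_mem h₁ h₂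
    | smul c a _ h => rw [TensorProduct.tmul_smul]; exact Subalgebra.smul_mem _ h c
  | zero => rw [TensorProduct.zero_tmul]; exact zero_mem _
  | add a b _ _ h₁ h₂ => rw [TensorProduct.add_tmul]; exact add_mem h₁ h₂
  | smul c a _ h => rw [← TensorProduct.smul_tmul']; exact Subalgebra.smul_mem _ h c

theorem tmul_mem_Cseg : ∀ (n : ℕ) {u : R} (_ : u ∈ Mx k x ^ n) {v : S} (_ : v ∈ Mx k y ^ n),
    u ⊗ₜ[k] v ∈ Cseg k x y := by
  intro n
  induction n with
  | zero =>
    intro u hu v hv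
    rw [pow_zero, Submodule.mem_one] at hu hv
    obtain ⟨c, rfl⟩ := hu
    obtain ⟨c', rfl⟩ := hv
    rw [Algebra.algebraMap_eq_smul_one, Algebra.algebraMap_eq_smul_one, ← TensorProduct.smul_tmul',
      TensorProduct.tmul_smul]
    exact Subalgebra.smul_mem _ (Subalgebra.smul_mem _ (one_mem _) c') c
  | succ n ih =>
    intro u hu v hv
    rw [pow_succ'] at hu hv
    refine Submodule.mul_induction_on hu (fun m hm u' hu' => ?_) (fun a b h₁ h₂ => ?_)
    · refine Submodule.mul_induction_on hv (fun m' hm' v' hv' => ?_) (fun a b h₁ h₂ => ?_)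
      · have : (m * u') ⊗ₜ[k] (m' * v') = m ⊗ₜ[k] m' * u' ⊗ₜ[k] v' := by
          rw [Algebra.TensorProduct.tmul_mul_tmul]
        rw [this]
        exact mul_mem (tmul_mem_Cseg_one x y hm hm') (ih hu' hv')
      · rw [TensorProduct.tmul_add]; exact add_mem h₁ h₂
    · rw [TensorProduct.add_tmul]; exact add_mem h₁ h₂

variable {x} in
theorem Mx_pow_le {D : ℕ} (hx : ∀ i, x i ∈ 𝒜 D) (n : ℕ) : Mx k x ^ n ≤ 𝒜 (D * n) := by
  induction n with
  | zero =>
    rw [pow_zero, mul_zero, Submodule.one_le]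
    exact SetLike.one_mem_graded 𝒜
  | succ n ih =>
    rw [pow_succ', Submodule.mul_le]
    intro m hm u hu
    have hm' : m ∈ 𝒜 D := by
      have : Mx k x ≤ 𝒜 D := Submodule.span_le.mpr (by rintro _ ⟨i, rfl⟩; exact hx i)
      exact this hm
    have := SetLike.mul_mem_graded hm' (ih hu)
    have e : D * (n + 1) = D + D * n := by ring
    rw [e]; exact this

variable (k) in
/-- the subalgebra generated by the `x i ⊗ 1` and `1 ⊗ y j`, as a span -/
def Q : Submodule k (R ⊗[k] S) :=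
  Submodule.span k {z | ∃ (n l : ℕ) (u : R) (v : S), u ∈ Mx k x ^ n ∧ v ∈ Mx k y ^ l ∧ z = u ⊗ₜ[k] v}

theorem one_mem_Q : (1 : R ⊗[k] S) ∈ Q k x y :=
  Submodule.subset_span ⟨0, 0, 1, 1, by rw [pow_zero]; exact Submodule.mem_one.mpr ⟨1, map_one _⟩,
    by rw [pow_zero]; exact Submodule.mem_one.mpr ⟨1, map_one _⟩, rfl⟩

theorem mul_mem_Q {g h : R ⊗[k] S} (hg : g ∈ Q k x y) (hh : h ∈ Q k x y) : g * h ∈ Q k x y := by
  have : Q k x y * Q k x y ≤ Q k x y := by
    unfold Q
    rw [Submodule.span_mul_span, Submodule.span_le]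
    rintro _ ⟨_, ⟨n, l, u, v, hu, hv, rfl⟩, _, ⟨n', l', u', v', hu', hv', rfl⟩, rfl⟩
    apply Submodule.subset_span
    refine ⟨n + n', l + l', u * u', v * v', ?_, ?_, ?_⟩
    · rw [pow_add]; exact Submodule.mul_mem_mul hu hu'
    · rw [pow_add]; exact Submodule.mul_mem_mul hv hv'
    · show u ⊗ₜ[k] v * u' ⊗ₜ[k] v' = _
      rw [Algebra.TensorProduct.tmul_mul_tmul]
  exact this (Submodule.mul_mem_mul hg hh)

variable (k) in
/-- `Q` as a subalgebra -/
def H : Subalgebra k (R ⊗[k] S) :=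
  (Q k x y).toSubalgebra (one_mem_Q x y) (fun _ _ => mul_mem_Q x y)

theorem mem_H_iff {g : R ⊗[k] S} : g ∈ H k x y ↔ g ∈ Q k x y := Iff.rfl

theorem pi0_mem_Cseg {D : ℕ} (hD : 0 < D) (hx : ∀ i, x i ∈ 𝒜 D) (hy : ∀ j, y j ∈ ℬ D)
    {h : R ⊗[k] S} (hh : h ∈ H k x y) : pi0 𝒜 ℬ h ∈ Cseg k x y := by
  rw [mem_H_iff] at hh
  unfold Q at hh
  induction hh using Submodule.span_induction with
  | mem z hz =>
    obtain ⟨n, l, u, v, hu, hv, rfl⟩ := hz
    rw [pi0_tmul_of_mem_of_mem 𝒜 ℬ (Mx_pow_le 𝒜 hx n hu) (Mx_pow_le ℬ hy l hv)]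
    split_ifs with hnl
    · have : l = n := Nat.eq_of_mul_eq_mul_left hD hnl
      subst this
      exact tmul_mem_Cseg x y l hu hv
    · exact zero_mem _
  | zero => rw [map_zero]; exact zero_mem _
  | add a b _ _ h₁ h₂ => rw [map_add]; exact add_mem h₁ h₂
  | smul c a _ h => rw [map_smul]; exact Subalgebra.smul_mem _ h c

end SecSG6

-- ===== from SG7 =====
section SecSG7
open DirectSum TensorProduct Polynomial
theorem int_transfer {k : Type*} [CommRing k] {P R G : Type*} [CommRing P] [CommRing R]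
    [CommRing G] [Algebra k P] [Algebra k R] [Algebra k G] (H : Subalgebra k G)
    (ψ : P →ₐ[k] G) (hψ : ∀ p, ψ p ∈ H) (f : P →ₐ[k] R) (ι : R →ₐ[k] G)
    (hcomp : ∀ p, ι (f p) = ψ p) {a : R} (ha : f.toRingHom.IsIntegralElem a) :
    IsIntegral H (ι a) := by
  obtain ⟨p, hmon, hp⟩ := ha
  let ψ' : P →ₐ[k] H := ψ.codRestrict H hψ
  refine ⟨p.map ψ'.toRingHom, hmon.map _, ?_⟩
  rw [Polynomial.eval₂_map]
  have h1 : (algebraMap H G).comp ψ'.toRingHom = ι.toRingHom.comp f.toRingHom := by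
    ext q
    show ψ q = ι (f q)
    rw [hcomp]
  rw [h1]
  have h2 := Polynomial.hom_eval₂ p f.toRingHom ι.toRingHom a
  rw [hp, map_zero] at h2
  exact h2.symm

variable {k : Type*} [Field k] {R : Type*} [CommRing R] [Algebra k R]
  (𝒜 : ℕ → Submodule k R) [GradedAlgebra 𝒜]
  {S : Type*} [CommRing S] [Algebra k S] (ℬ : ℕ → Submodule k S) [GradedAlgebra ℬ]
  {r s : ℕ} (x : Fin r → R) (y : Fin s → S)

theorem x_tmul_one_mem_H (i : Fin r) : x i ⊗ₜ[k] (1 : S) ∈ H k x y := by
  rw [mem_H_iff]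
  refine Submodule.subset_span ⟨1, 0, x i, 1, ?_, ?_, rfl⟩
  · rw [pow_one]; exact Submodule.subset_span ⟨i, rfl⟩
  · rw [pow_zero]; exact Submodule.mem_one.mpr ⟨1, map_one _⟩

theorem one_tmul_y_mem_H (j : Fin s) : (1 : R) ⊗ₜ[k] y j ∈ H k x y := by
  rw [mem_H_iff]
  refine Submodule.subset_span ⟨0, 1, 1, y j, ?_, ?_, rfl⟩
  · rw [pow_zero]; exact Submodule.mem_one.mpr ⟨1, map_one _⟩
  · rw [pow_one]; exact Submodule.subset_span ⟨j, rfl⟩

theorem isIntegral_H
    (hfx : (MvPolynomial.aeval x : MvPolynomial (Fin r) k →ₐ[k] R).toRingHom.IsIntegral)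
    (hfy : (MvPolynomial.aeval y : MvPolynomial (Fin s) k →ₐ[k] S).toRingHom.IsIntegral)
    (g : R ⊗[k] S) : IsIntegral (H k x y) g := by
  have hleft : ∀ a : R, IsIntegral (H k x y) (a ⊗ₜ[k] (1 : S)) := by
    intro a
    have := int_transfer (H k x y)
      (MvPolynomial.aeval (fun i => x i ⊗ₜ[k] (1 : S)) : MvPolynomial (Fin r) k →ₐ[k] R ⊗[k] S)
      ?_ (MvPolynomial.aeval x) (Algebra.TensorProduct.includeLeft : R →ₐ[k] R ⊗[k] S) ?_ (hfx a)
    · exact this
    · intro p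
      induction p using MvPolynomial.induction_on with
      | C c => rw [MvPolynomial.aeval_C]; exact Subalgebra.algebraMap_mem _ c
      | add p q hp hq => rw [map_add]; exact add_mem hp hq
      | mul_X p i hp =>
        rw [map_mul, MvPolynomial.aeval_X]
        exact mul_mem hp (x_tmul_one_mem_H x y i)
    · intro p
      have : (Algebra.TensorProduct.includeLeft : R →ₐ[k] R ⊗[k] S).comp (MvPolynomial.aeval x) =
          MvPolynomial.aeval (fun i => x i ⊗ₜ[k] (1 : S)) := by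
        apply MvPolynomial.algHom_ext
        intro i
        simp
      rw [← this]
      rfl
  have hright : ∀ b : S, IsIntegral (H k x y) ((1 : R) ⊗ₜ[k] b) := by
    intro b
    have := int_transfer (H k x y)
      (MvPolynomial.aeval (fun j => (1 : R) ⊗ₜ[k] y j) : MvPolynomial (Fin s) k →ₐ[k] R ⊗[k] S)
      ?_ (MvPolynomial.aeval y) (Algebra.TensorProduct.includeRight : S →ₐ[k] R ⊗[k] S) ?_ (hfy b)
    · exact this
    · intro p
      induction p using MvPolynomial.induction_on with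
      | C c => rw [MvPolynomial.aeval_C]; exact Subalgebra.algebraMap_mem _ c
      | add p q hp hq => rw [map_add]; exact add_mem hp hq
      | mul_X p i hp =>
        rw [map_mul, MvPolynomial.aeval_X]
        exact mul_mem hp (one_tmul_y_mem_H x y i)
    · intro p
      have : (Algebra.TensorProduct.includeRight : S →ₐ[k] R ⊗[k] S).comp (MvPolynomial.aeval y) =
          MvPolynomial.aeval (fun j => (1 : R) ⊗ₜ[k] y j) := by
        apply MvPolynomial.algHom_ext
        intro i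
        simp
      rw [← this]
      rfl
  induction g using TensorProduct.induction_on with
  | zero => exact isIntegral_zero
  | add g₁ g₂ h₁ h₂ => exact h₁.add h₂
  | tmul a b =>
    have : a ⊗ₜ[k] b = a ⊗ₜ[k] (1 : S) * (1 : R) ⊗ₜ[k] b := by
      rw [Algebra.TensorProduct.tmul_mul_tmul, mul_one, one_mul]
    rw [this]
    exact (hleft a).mul (hright b)

theorem isIntegral_Cseg_of_mem_diag {D : ℕ} (hD : 0 < D) (hx : ∀ i, x i ∈ 𝒜 D)
    (hy : ∀ j, y j ∈ ℬ D)
    (hfx : (MvPolynomial.aeval x : MvPolynomial (Fin r) k →ₐ[k] R).toRingHom.IsIntegral)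
    (hfy : (MvPolynomial.aeval y : MvPolynomial (Fin s) k →ₐ[k] S).toRingHom.IsIntegral)
    {z : R ⊗[k] S} (hz : z ∈ diag 𝒜 ℬ) : IsIntegral (Cseg k x y) z :=
  proj_integral (H k x y) (Cseg k x y) (pi0 𝒜 ℬ) z (pi0_pow_mul_of_mem_diag 𝒜 ℬ hz)
    (pi0_one 𝒜 ℬ) (fun _ hh => pi0_mem_Cseg 𝒜 ℬ x y hD hx hy hh) (isIntegral_H x y hfx hfy z)

end SecSG7

-- ===== from SG8 =====
section SecSG8
open MvPolynomial
variable (k : Type u) [Field k] (r' s' : ℕ)

/-- the ambient polynomial ring -/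
abbrev P := MvPolynomial (Fin (r' + 1) ⊕ Fin (s' + 1)) k

/-- generators of the Segre ring of polynomial rings -/
def gens : Set (P k r' s') := {z | ∃ i j, z = X (Sum.inl i) * X (Sum.inr j)}

/-- the Segre ring of two polynomial rings -/
noncomputable def C' : Subalgebra k (P k r' s') := Algebra.adjoin k (gens k r' s')

/-- index type of the transcendence basis -/
abbrev ι := Fin (r' + 1) ⊕ Fin s'

/-- the transcendence basis -/
noncomputable def w : ι r' s' → P k r' s' :=
  Sum.elim (fun i => X (Sum.inl i) * X (Sum.inr 0)) (fun j => X (Sum.inl 0) * X (Sum.inr j.succ))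

theorem w_mem (l : ι r' s') : w k r' s' l ∈ C' k r' s' := by
  rcases l with i | j
  · exact Algebra.subset_adjoin ⟨i, 0, rfl⟩
  · exact Algebra.subset_adjoin ⟨0, j.succ, rfl⟩

theorem w_algebraicIndependent : AlgebraicIndependent k (w k r' s') := by
  let K := FractionRing (MvPolynomial (ι r' s') k)
  let ζ : ι r' s' → K := fun l => algebraMap (MvPolynomial (ι r' s') k) K (X l)
  have hζ : AlgebraicIndependent k ζ :=
    (MvPolynomial.algebraicIndependent_X (ι r' s') k).map'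
      (f := IsScalarTower.toAlgHom k (MvPolynomial (ι r' s') k) K)
      (IsFractionRing.injective (MvPolynomial (ι r' s') k) K)
  let θ : P k r' s' →ₐ[k] K := aeval (Sum.elim (fun i => ζ (Sum.inl i))
    (Fin.cases 1 (fun j => ζ (Sum.inr j) / ζ (Sum.inl 0))))
  apply AlgebraicIndependent.of_comp θ
  have h0 : ζ (Sum.inl 0) ≠ 0 := by
    intro h
    have := (IsFractionRing.injective (MvPolynomial (ι r' s') k) K) (h.trans (map_zero _).symm)
    exact MvPolynomial.X_ne_zero _ this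
  have : θ ∘ w k r' s' = ζ := by
    funext l
    rcases l with i | j
    · simp [θ, w]
    · simp only [Function.comp_apply, w, Sum.elim_inr, map_mul, θ, aeval_X, Sum.elim_inl,
        Fin.cases_succ]
      exact mul_div_cancel₀ _ h0
  rw [this]
  exact hζ

end SecSG8

-- ===== from SG9 =====
section SecSG9
open MvPolynomial
/-- abstract dimension computation via a transcendence basis -/
theorem ringKrullDim_of_transcendence_basis (k : Type u) [Field k] (Cd : Type u) [CommRing Cd]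
    [IsDomain Cd] [Algebra k Cd] [Algebra.FiniteType k Cd] (ι : Type) [Fintype ι]
    (wC : ι → Cd) (hind : AlgebraicIndependent k wC) (gen : Set Cd)
    (hgen : Algebra.adjoin k gen = ⊤)
    (halg : ∀ c ∈ gen, ∃ a' b' : MvPolynomial ι k, aeval wC b' ≠ 0 ∧
      c * aeval wC b' = aeval wC a') :
    ringKrullDim Cd = ((Fintype.card ι : ℕ) : WithBot ℕ∞) := by
  obtain ⟨n, htr, hdim, -⟩ := Groth.Agent.Lib.Helper14.FTDim.exists_dim k Cd
  rw [hdim]
  let gW : MvPolynomial ι k →ₐ[k] Cd := aeval wC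
  have hginj : Function.Injective gW := hind
  letI algWC : Algebra (MvPolynomial ι k) Cd := gW.toRingHom.toAlgebra
  haveI : IsScalarTower k (MvPolynomial ι k) Cd :=
    IsScalarTower.of_algebraMap_eq fun c => (gW.commutes c).symm
  haveI : IsScalarTower (MvPolynomial ι k) Cd (FractionRing Cd) := inferInstance
  haveI : IsScalarTower k (MvPolynomial ι k) (FractionRing Cd) := by
    refine IsScalarTower.of_algebraMap_eq fun c => ?_
    rw [IsScalarTower.algebraMap_apply (MvPolynomial ι k) Cd (FractionRing Cd),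
      IsScalarTower.algebraMap_apply k Cd (FractionRing Cd)]
    congr 1
    exact (gW.commutes c).symm
  have hinjF : Function.Injective (algebraMap Cd (FractionRing Cd)) := IsFractionRing.injective _ _
  haveI : FaithfulSMul (MvPolynomial ι k) (FractionRing Cd) := by
    rw [faithfulSMul_iff_algebraMap_injective,
      IsScalarTower.algebraMap_eq (MvPolynomial ι k) Cd (FractionRing Cd)]
    exact hinjF.comp hginj
  have himg : ∀ p : MvPolynomial ι k,
      IsAlgebraic (MvPolynomial ι k) (algebraMap Cd (FractionRing Cd) (gW p)) := by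
    intro p
    have : algebraMap Cd (FractionRing Cd) (gW p) =
        algebraMap (MvPolynomial ι k) (FractionRing Cd) p := by
      rw [IsScalarTower.algebraMap_apply (MvPolynomial ι k) Cd (FractionRing Cd)]
      rfl
    rw [this]
    exact isAlgebraic_algebraMap _
  have hC : ∀ c : Cd, IsAlgebraic (MvPolynomial ι k) (algebraMap Cd (FractionRing Cd) c) := by
    intro c
    have hc : c ∈ Algebra.adjoin k gen := by rw [hgen]; trivial
    induction hc using Algebra.adjoin_induction with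
    | mem z hz =>
      obtain ⟨a', b', hb0, hrel⟩ := halg z hz
      have hb0' : algebraMap Cd (FractionRing Cd) (gW b') ≠ 0 := by
        intro h
        exact hb0 (hinjF (h.trans (map_zero _).symm))
      have h2 := congrArg (algebraMap Cd (FractionRing Cd)) hrel
      rw [map_mul] at h2
      have h3 : algebraMap Cd (FractionRing Cd) z =
          algebraMap Cd (FractionRing Cd) (gW a') *
            (algebraMap Cd (FractionRing Cd) (gW b'))⁻¹ := by
        rw [← h2, mul_assoc, mul_inv_cancel₀ hb0', mul_one]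
      rw [h3]
      exact (himg a').mul (himg b').inv
    | algebraMap c =>
      have : algebraMap k Cd c = gW (algebraMap k _ c) := (gW.commutes c).symm
      rw [this]
      exact himg _
    | add a b _ _ h₁ h₂ => rw [map_add]; exact h₁.add h₂
    | mul a b _ _ h₁ h₂ => rw [map_mul]; exact h₁.mul h₂
  haveI : Algebra.IsAlgebraic (MvPolynomial ι k) (FractionRing Cd) := by
    refine ⟨fun f => ?_⟩
    obtain ⟨a, b, -, rfl⟩ := IsFractionRing.div_surjective (A := Cd) f
    rw [div_eq_mul_inv]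
    exact (hC a).mul (hC b).inv
  have h1 := trdeg_add_eq k (MvPolynomial ι k) (A := FractionRing Cd)
  rw [trdeg_eq_zero (R := MvPolynomial ι k) (A := FractionRing Cd), add_zero,
    MvPolynomial.trdeg_of_isDomain, htr] at h1
  have h2 : (n : Cardinal) = ((Fintype.card ι : ℕ) : Cardinal) := by
    rw [← h1]
    simp [Cardinal.mk_fintype]
  have h3 : n = Fintype.card ι := by exact_mod_cast h2
  rw [h3]

end SecSG9

-- ===== from SG10 =====
section SecSG10
open MvPolynomial
variable (k : Type u) [Field k] (r' s' : ℕ)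

theorem gens_finite : (gens k r' s').Finite := by
  have : gens k r' s' = Set.range (fun p : Fin (r' + 1) × Fin (s' + 1) =>
      (X (Sum.inl p.1) * X (Sum.inr p.2) : P k r' s')) := by
    ext z
    constructor
    · rintro ⟨i, j, rfl⟩; exact ⟨(i, j), rfl⟩
    · rintro ⟨⟨i, j⟩, rfl⟩; exact ⟨i, j, rfl⟩
  rw [this]
  exact Set.finite_range _

scoped instance : Algebra.FiniteType k (C' k r' s') := by
  rw [← Subalgebra.fg_iff_finiteType]
  have := Subalgebra.fg_adjoin_finset (R := k) (gens_finite k r' s').toFinset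
  rwa [Set.Finite.coe_toFinset] at this

theorem ringKrullDim_C' :
    ringKrullDim (C' k r' s') = ((r' + 1 + s' : ℕ) : WithBot ℕ∞) := by
  let wC : ι r' s' → C' k r' s' := fun l => ⟨w k r' s' l, w_mem k r' s' l⟩
  have hind : AlgebraicIndependent k wC := by
    apply AlgebraicIndependent.of_comp (C' k r' s').val
    exact w_algebraicIndependent k r' s'
  have hval : ∀ p : MvPolynomial (ι r' s') k,
      ((aeval wC p : C' k r' s') : P k r' s') = aeval (w k r' s') p := by
    intro p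
    have : (C' k r' s').val.comp (aeval wC) = aeval (w k r' s') := by
      apply MvPolynomial.algHom_ext
      intro l
      simp [wC]
    rw [← this]
    rfl
  have h := ringKrullDim_of_transcendence_basis k (C' k r' s') (ι r' s') wC hind
    (((↑) : C' k r' s' → P k r' s') ⁻¹' (gens k r' s')) Algebra.adjoin_adjoin_coe_preimage ?_
  · rw [h]
    congr 2
    simp [Fintype.card_sum]
  · rintro ⟨c, hc⟩ ⟨i, j, hcij⟩
    simp only at hcij
    rcases Fin.eq_zero_or_eq_succ j with rfl | ⟨j', rfl⟩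
    all_goals subst hcij
    · refine ⟨X (Sum.inl i), 1, ?_, ?_⟩
      · rw [map_one]; exact one_ne_zero
      · rw [map_one, mul_one, aeval_X]
        rfl
    · refine ⟨X (Sum.inl i) * X (Sum.inr j'), X (Sum.inl 0), ?_, ?_⟩
      · rw [aeval_X]
        intro h0
        have h2 : w k r' s' (Sum.inl 0) = 0 := congrArg Subtype.val h0
        simp [w] at h2
      · rw [aeval_X, map_mul, aeval_X, aeval_X]
        apply Subtype.ext
        show X (Sum.inl i) * X (Sum.inr j'.succ) * w k r' s' (Sum.inl 0) =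
          w k r' s' (Sum.inl i) * w k r' s' (Sum.inr j')
        simp only [w, Sum.elim_inl, Sum.elim_inr]
        ring

end SecSG10

-- ===== from SG11 =====
section SecSG11
open MvPolynomial TensorProduct
variable {k : Type u} [Field k] {R : Type u} [CommRing R] [Algebra k R]
  {S : Type u} [CommRing S] [Algebra k S] {r' s' : ℕ}
  (x : Fin (r' + 1) → R) (y : Fin (s' + 1) → S)

variable (k) in
/-- the comparison map from the polynomial ring -/
noncomputable def Phi : P k r' s' →ₐ[k] R ⊗[k] S :=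
  aeval (Sum.elim (fun i => x i ⊗ₜ[k] (1 : S)) (fun j => (1 : R) ⊗ₜ[k] y j))

theorem Phi_comp :
    (Phi k x y).comp (MvPolynomial.tensorEquivSum k (Fin (r' + 1)) (Fin (s' + 1)) k).toAlgHom =
      Algebra.TensorProduct.map (aeval x) (aeval y) := by
  apply Algebra.TensorProduct.ext
  · apply MvPolynomial.algHom_ext
    intro i
    simp [Phi]
  · apply MvPolynomial.algHom_ext
    intro j
    simp [Phi]

theorem Phi_injective
    (hx : Function.Injective (aeval x : MvPolynomial (Fin (r' + 1)) k →ₐ[k] R))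
    (hy : Function.Injective (aeval y : MvPolynomial (Fin (s' + 1)) k →ₐ[k] S)) :
    Function.Injective (Phi k x y) := by
  have h1 : Function.Injective (Algebra.TensorProduct.map (aeval x : _ →ₐ[k] R)
      (aeval y : _ →ₐ[k] S)) := by
    have := TensorProduct.map_injective_of_flat_flat
      (aeval x : MvPolynomial (Fin (r' + 1)) k →ₐ[k] R).toLinearMap
      (aeval y : MvPolynomial (Fin (s' + 1)) k →ₐ[k] S).toLinearMap hx hy
    exact this
  rw [← Phi_comp] at h1
  have h2 : Function.Injective ((Phi k x y) ∘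
      (MvPolynomial.tensorEquivSum k (Fin (r' + 1)) (Fin (s' + 1)) k)) := h1
  exact (Function.Injective.of_comp_iff'
    _ (MvPolynomial.tensorEquivSum k (Fin (r' + 1)) (Fin (s' + 1)) k).bijective).mp h2

theorem Cseg_eq_map : Cseg k x y = (C' k r' s').map (Phi k x y) := by
  unfold Cseg C'
  rw [AlgHom.map_adjoin]
  congr 1
  ext z
  constructor
  · rintro ⟨i, j, rfl⟩
    refine ⟨X (Sum.inl i) * X (Sum.inr j), ⟨i, j, rfl⟩, ?_⟩
    simp [Phi]
  · rintro ⟨_, ⟨i, j, rfl⟩, rfl⟩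
    refine ⟨i, j, ?_⟩
    simp [Phi]

theorem ringKrullDim_Cseg
    (hx : Function.Injective (aeval x : MvPolynomial (Fin (r' + 1)) k →ₐ[k] R))
    (hy : Function.Injective (aeval y : MvPolynomial (Fin (s' + 1)) k →ₐ[k] S)) :
    ringKrullDim (Cseg k x y) = ((r' + 1 + s' : ℕ) : WithBot ℕ∞) := by
  rw [← ringKrullDim_C' k r' s']
  have e1 : C' k r' s' ≃ₐ[k] (C' k r' s').map (Phi k x y) :=
    Subalgebra.equivMapOfInjective _ _ (Phi_injective x y hx hy)
  have e2 : Cseg k x y ≃ₐ[k] (C' k r' s').map (Phi k x y) :=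
    Subalgebra.equivOfEq _ _ (Cseg_eq_map x y)
  exact ringKrullDim_eq_of_ringEquiv (e2.trans e1.symm).toRingEquiv

end SecSG11

-- ===== from SG12 =====
section SecSG12
open MvPolynomial TensorProduct DirectSum
variable {k : Type u} [Field k] {R : Type u} [CommRing R] [Algebra k R]
  (𝒜 : ℕ → Submodule k R) [GradedAlgebra 𝒜]
  {S : Type u} [CommRing S] [Algebra k S] (ℬ : ℕ → Submodule k S) [GradedAlgebra ℬ]

omit [GradedAlgebra 𝒜] [GradedAlgebra ℬ] in
theorem tmul_mem_diag {n : ℕ} {a : R} (ha : a ∈ 𝒜 n) {b : S} (hb : b ∈ ℬ n) :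
    a ⊗ₜ[k] b ∈ diag 𝒜 ℬ :=
  Submodule.subset_span ⟨n, a, b, ha, hb, rfl⟩

theorem nat_main
    (h0R : ∀ a ∈ 𝒜 0, ∃ c : k, a = algebraMap k R c)
    (h0S : ∀ b ∈ ℬ 0, ∃ c : k, b = algebraMap k S c)
    [Algebra.FiniteType k R] [Algebra.FiniteType k S]
    (T : Type u) [CommRing T] [Algebra k T] (ψ : T →ₐ[k] R ⊗[k] S)
    (hψ : Function.Injective ψ)
    (hrange : ∀ z : R ⊗[k] S, z ∈ ψ.range ↔ z ∈ diag 𝒜 ℬ)
    (r s : ℕ) (hr : ringKrullDim R = r) (hs : ringKrullDim S = s) (h1r : 1 ≤ r) (h1s : 1 ≤ s) :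
    ringKrullDim T = ((r + s - 1 : ℕ) : WithBot ℕ∞) := by
  haveI : Nontrivial R := by
    by_contra hne
    rw [not_nontrivial_iff_subsingleton] at hne
    rw [ringKrullDim_eq_bot_of_subsingleton] at hr
    exact WithBot.bot_ne_coe hr
  haveI : Nontrivial S := by
    by_contra hne
    rw [not_nontrivial_iff_subsingleton] at hne
    rw [ringKrullDim_eq_bot_of_subsingleton] at hs
    exact WithBot.bot_ne_coe hs
  haveI : IsNoetherianRing R := Algebra.FiniteType.isNoetherianRing k R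
  haveI : IsNoetherianRing S := Algebra.FiniteType.isNoetherianRing k S
  obtain ⟨r', rfl⟩ : ∃ r', r = r' + 1 := ⟨r - 1, by omega⟩
  obtain ⟨s', rfl⟩ : ∃ s', s = s' + 1 := ⟨s - 1, by omega⟩
  obtain ⟨D₁, x₁, hD₁, hx₁, hradx₁⟩ := exists_hsop_same_degree 𝒜 h0R (r' + 1) hr.le
  obtain ⟨D₂, y₁, hD₂, hy₁, hrady₁⟩ := exists_hsop_same_degree ℬ h0S (s' + 1) hs.le
  obtain ⟨hx, hradx⟩ := hsop_pow 𝒜 h0R x₁ D₁ hx₁ hradx₁ D₂
  obtain ⟨hy, hrady⟩ := hsop_pow ℬ h0S y₁ D₂ hy₁ hrady₁ D₁
  rw [mul_comm D₂ D₁] at hy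
  have hD : 0 < D₁ * D₂ := Nat.mul_pos hD₁ hD₂
  set x : Fin (r' + 1) → R := fun i => x₁ i ^ D₂ with hxdef
  set y : Fin (s' + 1) → S := fun j => y₁ j ^ D₁ with hydef
  have hfx := finite_aeval 𝒜 h0R x (D₁ * D₂) hD hx hradx
  have hfy := finite_aeval ℬ h0S y (D₁ * D₂) hD hy hrady
  have hix := injective_of_dim x hfx hr
  have hiy := injective_of_dim y hfy hs
  have hdimC := ringKrullDim_Cseg x y hix hiy
  -- the range of ψ
  have hle : Cseg k x y ≤ ψ.range := by
    unfold Cseg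
    rw [Algebra.adjoin_le_iff]
    rintro _ ⟨i, j, rfl⟩
    exact (hrange _).mpr (tmul_mem_diag 𝒜 ℬ (hx i) (hy j))
  letI algCB : Algebra (Cseg k x y) ψ.range := (Subalgebra.inclusion hle).toRingHom.toAlgebra
  haveI : IsScalarTower (Cseg k x y) ψ.range (R ⊗[k] S) :=
    IsScalarTower.of_algebraMap_eq fun _ => rfl
  have hinjB : Function.Injective (algebraMap ψ.range (R ⊗[k] S)) := Subtype.val_injective
  haveI : Algebra.IsIntegral (Cseg k x y) ψ.range := by
    refine ⟨fun b => ?_⟩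
    rw [← isIntegral_algebraMap_iff hinjB]
    exact isIntegral_Cseg_of_mem_diag 𝒜 ℬ x y hD hx hy hfx.to_isIntegral hfy.to_isIntegral
      ((hrange _).mp b.2)
  have hinjCB : Function.Injective (algebraMap (Cseg k x y) ψ.range) :=
    Subalgebra.inclusion_injective hle
  have h1 := Groth.Agent.Lib.Helper5.ringKrullDim_eq_of_isIntegral_of_injective
    (Cseg k x y) ψ.range hinjCB
  have h2 : ringKrullDim T = ringKrullDim ψ.range :=
    ringKrullDim_eq_of_ringEquiv (AlgEquiv.ofInjective ψ hψ).toRingEquiv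
  rw [h2, h1, hdimC]
  congr 2

end SecSG12

-- ===== from SG13 =====
section SecSG13
open TensorProduct DirectSum
section natGrading

variable {k : Type u} [Field k] {R : Type u} [CommRing R] [Algebra k R]
  (𝒜 : ℤ → Submodule k R)

/-- restriction of a ℤ-grading to ℕ -/
def natGr : ℕ → Submodule k R := fun n => 𝒜 (n : ℤ)

variable [GradedAlgebra 𝒜] (hpos : ∀ n : ℤ, n < 0 → 𝒜 n = ⊥)

include hpos in
theorem natGr_isInternal : DirectSum.IsInternal (natGr 𝒜) := by
  rw [DirectSum.isInternal_submodule_iff_iSupIndep_and_iSup_eq_top]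
  refine ⟨(DirectSum.Decomposition.isInternal 𝒜).submodule_iSupIndep.comp Nat.cast_injective, ?_⟩
  have h1 := (DirectSum.Decomposition.isInternal 𝒜).submodule_iSup_eq_top
  rw [eq_top_iff, ← h1]
  refine iSup_le fun i => ?_
  by_cases hi : i < 0
  · rw [hpos i hi]; exact bot_le
  · obtain ⟨m, rfl⟩ := Int.eq_ofNat_of_zero_le (not_lt.mp hi)
    exact le_iSup (natGr 𝒜) m

/-- the ℕ-graded algebra structure -/
@[instance_reducible]
noncomputable def natGrGradedAlgebra : GradedAlgebra (natGr 𝒜) :=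
  { one_mem := by
      change (1 : R) ∈ 𝒜 ((0 : ℕ) : ℤ)
      rw [Nat.cast_zero]
      exact SetLike.GradedOne.one_mem
    mul_mem := by
      intro i j a b ha hb
      change a * b ∈ 𝒜 ((i + j : ℕ) : ℤ)
      rw [Nat.cast_add]
      exact SetLike.GradedMul.mul_mem ha hb
    toDecomposition := (natGr_isInternal 𝒜 hpos).chooseDecomposition }

omit [GradedAlgebra 𝒜] in
theorem natGr_h0 (h0 : 𝒜 0 = Submodule.span k {(1 : R)}) :
    ∀ a ∈ natGr 𝒜 0, ∃ c : k, a = algebraMap k R c := by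
  intro a ha
  change a ∈ 𝒜 ((0 : ℕ) : ℤ) at ha
  rw [Nat.cast_zero, h0] at ha
  obtain ⟨c, rfl⟩ := Submodule.mem_span_singleton.mp ha
  exact ⟨c, (Algebra.algebraMap_eq_smul_one c).symm⟩

end natGrading

theorem hrange_of_hdeg {k : Type u} [Field k] {R : Type u} [CommRing R] [Algebra k R]
    (𝒜 : ℤ → Submodule k R) (hposR : ∀ n : ℤ, n < 0 → 𝒜 n = ⊥)
    {S : Type u} [CommRing S] [Algebra k S] (ℬ : ℤ → Submodule k S)
    {T : Type u} [CommRing T] [Algebra k T] (𝒯 : ℤ → Submodule k T) [GradedAlgebra 𝒯]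
    (ψ : T →ₐ[k] R ⊗[k] S)
    (hdegT : ∀ n : ℤ, (𝒯 n).map ψ.toLinearMap =
      Submodule.span k {x : R ⊗[k] S | ∃ a ∈ 𝒜 n, ∃ b ∈ ℬ n, x = a ⊗ₜ[k] b}) :
    ∀ z : R ⊗[k] S, z ∈ ψ.range ↔ z ∈ diag (natGr 𝒜) (natGr ℬ) := by
  have hle : ∀ n : ℤ, (𝒯 n).map ψ.toLinearMap ≤ diag (natGr 𝒜) (natGr ℬ) := by
    intro n
    rw [hdegT n]
    apply Submodule.span_le.mpr
    rintro _ ⟨a, ha, b, hb, rfl⟩
    by_cases hn : n < 0
    · rw [hposR n hn] at ha
      have ha0 : a = 0 := (Submodule.mem_bot k).mp ha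
      rw [ha0, TensorProduct.zero_tmul]
      exact Submodule.zero_mem _
    · obtain ⟨m, rfl⟩ := Int.eq_ofNat_of_zero_le (not_lt.mp hn)
      exact tmul_mem_diag (natGr 𝒜) (natGr ℬ) (n := m) ha hb
  intro z
  classical
  constructor
  · rintro ⟨t, rfl⟩
    rw [← DirectSum.sum_support_decompose 𝒯 t, map_sum]
    refine Submodule.sum_mem _ fun i _ => hle i ?_
    exact Submodule.mem_map_of_mem (SetLike.coe_mem _)
  · intro hz
    have hle2 : diag (natGr 𝒜) (natGr ℬ) ≤ Subalgebra.toSubmodule ψ.range := by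
      apply Submodule.span_le.mpr
      rintro _ ⟨n, a, b, ha, hb, rfl⟩
      have h1 : a ⊗ₜ[k] b ∈ (𝒯 (n : ℤ)).map ψ.toLinearMap := by
        rw [hdegT]
        exact Submodule.subset_span ⟨a, ha, b, hb, rfl⟩
      obtain ⟨t, _, ht⟩ := h1
      exact ⟨t, ht⟩
    exact hle2 hz

theorem main (k : Type u) [Field k] (R : Type u) [CommRing R] [Algebra k R]
    (𝒜 : ℤ → Submodule k R) [GradedAlgebra 𝒜] (hposR : ∀ n : ℤ, n < 0 → 𝒜 n = ⊥)
    (h0R : 𝒜 0 = Submodule.span k {(1 : R)}) [Algebra.FiniteType k R]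
    (S : Type u) [CommRing S] [Algebra k S] (ℬ : ℤ → Submodule k S) [GradedAlgebra ℬ]
    (hposS : ∀ n : ℤ, n < 0 → ℬ n = ⊥) (h0S : ℬ 0 = Submodule.span k {(1 : S)})
    [Algebra.FiniteType k S] (T : Type u) [CommRing T] [Algebra k T]
    (𝒯 : ℤ → Submodule k T) [GradedAlgebra 𝒯] (ψ : T →ₐ[k] TensorProduct k R S)
    (hψ : Function.Injective ψ)
    (hdegT : ∀ n : ℤ, (𝒯 n).map ψ.toLinearMap =
      Submodule.span k {x : TensorProduct k R S | ∃ a ∈ 𝒜 n, ∃ b ∈ ℬ n, x = a ⊗ₜ[k] b})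
    (r s : ℕ) (hr : ringKrullDim R = r) (hs : ringKrullDim S = s) (h1r : 1 ≤ r) (h1s : 1 ≤ s) :
    ringKrullDim T = ((r + s - 1 : ℕ) : WithBot ℕ∞) := by
  letI := natGrGradedAlgebra 𝒜 hposR
  letI := natGrGradedAlgebra ℬ hposS
  exact nat_main (natGr 𝒜) (natGr ℬ) (natGr_h0 𝒜 h0R) (natGr_h0 ℬ h0S) T ψ hψ
    (hrange_of_hdeg 𝒜 hposR ℬ 𝒯 ψ hdegT) r s hr hs h1r h1s

end SecSG13


end Groth.Agent.Lib.H9Segre
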