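import Mathlib
import Groth.Agent.Lib.H9Segre
import Groth.Agent.Lib.Helper13GradedQuot
import Groth.Agent.Lib.R2LeadSegreFG

set_option autoImplicit false
set_option linter.style.haveILetI false
set_option linter.unusedSectionVars false
universe u v w

namespace Groth.Agent.Lib.H9SegreMod

-- ===== from SM1 =====
section SecSM1
open TensorProduct DirectSum Groth.Agent.Lib.H9Segre Groth.Agent.Helper13GradedQuot
variable {k : Type u} [Field k] {R : Type u} [CommRing R] [Algebra k R]
  {S : Type u} [CommRing S] [Algebra k S]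

/-- the quotient map on the tensor product -/
noncomputable abbrev piQ (I : Ideal R) (J : Ideal S) : R ⊗[k] S →ₐ[k] (R ⧸ I) ⊗[k] (S ⧸ J) :=
  Algebra.TensorProduct.map (Ideal.Quotient.mkₐ k I) (Ideal.Quotient.mkₐ k J)

theorem piQ_tmul (I : Ideal R) (J : Ideal S) (a : R) (b : S) :
    piQ (k := k) I J (a ⊗ₜ[k] b) = Ideal.Quotient.mk I a ⊗ₜ[k] Ideal.Quotient.mk J b := rfl

variable (𝒜 : ℕ → Submodule k R) [GradedAlgebra 𝒜] (ℬ : ℕ → Submodule k S) [GradedAlgebra ℬ]

theorem piQ_mem_diag (I : Ideal R) (J : Ideal S) {z : R ⊗[k] S} (hz : z ∈ diag 𝒜 ℬ) :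
    piQ (k := k) I J z ∈ diag (qgr 𝒜 I) (qgr ℬ J) := by
  unfold diag at hz
  induction hz using Submodule.span_induction with
  | mem z hz =>
    obtain ⟨n, a, b, ha, hb, rfl⟩ := hz
    rw [piQ_tmul]
    exact tmul_mem_diag (qgr 𝒜 I) (qgr ℬ J) (n := n) (mk_mem_qgr 𝒜 I ha) (mk_mem_qgr ℬ J hb)
  | zero => rw [map_zero]; exact Submodule.zero_mem _
  | add x y _ _ hx hy => rw [map_add]; exact Submodule.add_mem _ hx hy
  | smul c x _ hx => rw [map_smul]; exact Submodule.smul_mem _ c hx

theorem quot_main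
    (h0R : ∀ a ∈ 𝒜 0, ∃ c : k, a = algebraMap k R c)
    (h0S : ∀ b ∈ ℬ 0, ∃ c : k, b = algebraMap k S c)
    [Algebra.FiniteType k R] [Algebra.FiniteType k S]
    (T : Type u) [CommRing T] [Algebra k T] (ψ : T →ₐ[k] R ⊗[k] S)
    (hrange : ∀ z : R ⊗[k] S, z ∈ ψ.range ↔ z ∈ diag 𝒜 ℬ)
    (I : Ideal R) (hI : I.IsHomogeneous 𝒜) (J : Ideal S) (hJ : J.IsHomogeneous ℬ)
    (r s : ℕ) (hr : ringKrullDim (R ⧸ I) = r) (hs : ringKrullDim (S ⧸ J) = s)
    (h1r : 1 ≤ r) (h1s : 1 ≤ s) :
    ringKrullDim (T ⧸ RingHom.ker ((piQ (k := k) I J).comp ψ)) =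
      ((r + s - 1 : ℕ) : WithBot ℕ∞) := by
  letI := gradedAlgebraQuot 𝒜 I hI
  letI := gradedAlgebraQuot ℬ J hJ
  refine nat_main (qgr 𝒜 I) (qgr ℬ J) ?_ ?_ (T ⧸ RingHom.ker ((piQ (k := k) I J).comp ψ))
    (Ideal.kerLiftAlg ((piQ (k := k) I J).comp ψ)) (Ideal.kerLiftAlg_injective _) ?_
    r s hr hs h1r h1s
  · rintro _ ⟨a, ha, rfl⟩
    obtain ⟨c, rfl⟩ := h0R a ha
    exact ⟨c, rfl⟩
  · rintro _ ⟨b, hb, rfl⟩
    obtain ⟨c, rfl⟩ := h0S b hb
    exact ⟨c, rfl⟩
  · intro z
    constructor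
    · rintro ⟨t, rfl⟩
      obtain ⟨t, rfl⟩ := Ideal.Quotient.mk_surjective t
      change Ideal.kerLiftAlg ((piQ (k := k) I J).comp ψ) (Ideal.Quotient.mk _ t) ∈ _
      rw [Ideal.kerLiftAlg_mk]
      exact piQ_mem_diag 𝒜 ℬ I J ((hrange (ψ t)).mp ⟨t, rfl⟩)
    · intro hz
      have hle : diag (qgr 𝒜 I) (qgr ℬ J) ≤
          Subalgebra.toSubmodule (Ideal.kerLiftAlg ((piQ (k := k) I J).comp ψ)).range := by
        apply Submodule.span_le.mpr
        rintro _ ⟨n, _, _, ⟨a, ha, rfl⟩, ⟨b, hb, rfl⟩, rfl⟩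
        obtain ⟨t, ht⟩ := (hrange (a ⊗ₜ[k] b)).mpr (tmul_mem_diag 𝒜 ℬ (n := n) ha hb)
        refine ⟨Ideal.Quotient.mk _ t, ?_⟩
        change Ideal.kerLiftAlg ((piQ (k := k) I J).comp ψ) (Ideal.Quotient.mk _ t) = _
        rw [Ideal.kerLiftAlg_mk]
        change piQ (k := k) I J (ψ t) = _
        have ht' : ψ t = a ⊗ₜ[k] b := ht
        rw [ht']
        rfl
      exact hle hz

end SecSM1

-- ===== from SM2 =====
section SecSM2
open DirectSum Groth.Agent.Lib.H9Segre
section annElt

variable {R : Type*} [CommRing R] {M : Type*} [AddCommGroup M] [Module R M]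

/-- the annihilator of an element -/
def annElt (m : M) : Ideal R := LinearMap.ker (LinearMap.toSpanSingleton R M m)

theorem mem_annElt {m : M} {a : R} : a ∈ annElt m ↔ a • m = 0 := by
  unfold annElt
  rw [LinearMap.mem_ker, LinearMap.toSpanSingleton_apply]

theorem annihilator_le_annElt (m : M) : Module.annihilator R M ≤ annElt (R := R) m := by
  intro a ha
  rw [mem_annElt]
  exact Module.mem_annihilator.mp ha m

theorem annElt_le_annElt_smul (r : R) (m : M) : annElt (R := R) m ≤ annElt (r • m) := by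
  intro a ha
  rw [mem_annElt] at ha ⊢
  rw [smul_comm, ha, smul_zero]

theorem annihilator_eq_inf {ι : Type*} [Fintype ι] (m : ι → M)
    (hm : Submodule.span R (Set.range m) = ⊤) :
    Module.annihilator R M = Finset.univ.inf (fun i => annElt (R := R) (m i)) := by
  apply le_antisymm
  · apply Finset.le_inf
    intro i _
    exact annihilator_le_annElt (m i)
  · intro a ha
    rw [Module.mem_annihilator]
    intro x
    have hx : x ∈ Submodule.span R (Set.range m) := by rw [hm]; trivial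
    induction hx using Submodule.span_induction with
    | mem x hx =>
      obtain ⟨i, rfl⟩ := hx
      have h1 : a ∈ annElt (R := R) (m i) :=
        (Finset.inf_le (f := fun i => annElt (R := R) (m i)) (Finset.mem_univ i)) ha
      exact mem_annElt.mp h1
    | zero => rw [smul_zero]
    | add x y _ _ hx hy => rw [smul_add, hx, hy, add_zero]
    | smul c x _ hx => rw [smul_comm, hx, smul_zero]

end annElt

section Homog

variable {k : Type u} [Field k] {R : Type u} [CommRing R] [Algebra k R]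
  (𝒜 : ℤ → Submodule k R) [GradedAlgebra 𝒜] (hpos : ∀ n : ℤ, n < 0 → 𝒜 n = ⊥)
  {M : Type u} [AddCommGroup M] [Module R M]
  (ℳ : ℤ → AddSubgroup M) [DirectSum.Decomposition ℳ] [SetLike.GradedSMul 𝒜 ℳ]

theorem annElt_isHomogeneous {d : ℤ} {m : M} (hm : m ∈ ℳ d) :
    letI := natGrGradedAlgebra 𝒜 hpos
    (annElt (R := R) m).IsHomogeneous (natGr 𝒜) := by
  letI := natGrGradedAlgebra 𝒜 hpos
  classical
  intro i a ha
  rw [mem_annElt] at ha ⊢
  have hmem : ∀ j : ℕ, ((decompose (natGr 𝒜) a j : R) • m) ∈ ℳ ((j : ℤ) + d) := by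
    intro j
    have h1 : (decompose (natGr 𝒜) a j : R) ∈ 𝒜 (j : ℤ) := (decompose (natGr 𝒜) a j).2
    have h2 := SetLike.GradedSMul.smul_mem h1 hm
    rwa [vadd_eq_add] at h2
  have hsum : ∑ j ∈ (decompose (natGr 𝒜) a).support, (decompose (natGr 𝒜) a j : R) • m = 0 := by
    rw [← Finset.sum_smul, DirectSum.sum_support_decompose (natGr 𝒜) a]
    exact ha
  have h3 := congrArg (fun x => (decompose ℳ x ((i : ℤ) + d) : M)) hsum
  simp only [decompose_zero, DirectSum.zero_apply, ZeroMemClass.coe_zero] at h3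
  rw [DirectSum.decompose_sum, DFinsupp.finsetSum_apply, AddSubmonoidClass.coe_finsetSum,
    Finset.sum_eq_single i] at h3
  · rwa [DirectSum.decompose_of_mem_same ℳ (hmem i)] at h3
  · intro j _ hji
    have hne : (j : ℤ) + d ≠ (i : ℤ) + d := by
      intro h
      apply hji
      exact_mod_cast add_right_cancel h
    rw [DirectSum.decompose_of_mem_ne ℳ (hmem j) hne]
  · intro hi
    have h0 : (decompose (natGr 𝒜) a i : R) = 0 := by
      have := DFinsupp.notMem_support_iff.mp hi
      rw [this]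
      rfl
    rw [h0, zero_smul, decompose_zero]
    rfl

include ℳ in
theorem annihilator_isHomogeneous :
    letI := natGrGradedAlgebra 𝒜 hpos
    (Module.annihilator R M).IsHomogeneous (natGr 𝒜) := by
  letI := natGrGradedAlgebra 𝒜 hpos
  classical
  intro i a ha
  rw [Module.mem_annihilator] at ha ⊢
  intro x
  rw [← DirectSum.sum_support_decompose ℳ x, Finset.smul_sum]
  refine Finset.sum_eq_zero fun j _ => ?_
  have h1 : a ∈ annElt (R := R) ((decompose ℳ x j : M)) := mem_annElt.mpr (ha _)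
  exact mem_annElt.mp (annElt_isHomogeneous 𝒜 hpos ℳ (decompose ℳ x j).2 i h1)

end Homog

end SecSM2

-- ===== from SM3 =====
section SecSM3
open DirectSum
theorem exists_prime_bottom {R : Type*} [CommRing R] (I : Ideal R) (n : ℕ)
    (h : (n : WithBot ℕ∞) ≤ ringKrullDim (R ⧸ I)) :
    ∃ 𝔭 : Ideal R, 𝔭.IsPrime ∧ I ≤ 𝔭 ∧
      (∀ I' : Ideal R, I' ≤ 𝔭 → (n : WithBot ℕ∞) ≤ ringKrullDim (R ⧸ I')) ∧
      (0 < n → ∃ 𝔮 : Ideal R, 𝔮.IsPrime ∧ 𝔭 < 𝔮) := by
  rw [ringKrullDim_quotient, Order.le_krullDim_iff] at h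
  obtain ⟨l, hl⟩ := h
  have hmono : ∀ j : Fin (l.length + 1), (l ⟨0, Nat.succ_pos _⟩).1.asIdeal ≤ (l j).1.asIdeal := by
    intro j
    have h1 : l ⟨0, Nat.succ_pos _⟩ ≤ l j := l.monotone (Fin.zero_le j)
    exact h1
  refine ⟨(l ⟨0, Nat.succ_pos _⟩).1.asIdeal, (l ⟨0, Nat.succ_pos _⟩).1.isPrime, ?_, ?_, ?_⟩
  · have := (l ⟨0, Nat.succ_pos _⟩).2
    rw [PrimeSpectrum.mem_zeroLocus] at this
    exact this
  · intro I' hI'
    rw [ringKrullDim_quotient, Order.le_krullDim_iff]
    refine ⟨{ length := l.length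
              toFun := fun j => ⟨(l j).1, ?_⟩
              step := fun j => l.step j }, hl⟩
    rw [PrimeSpectrum.mem_zeroLocus]
    exact hI'.trans (hmono j)
  · intro hn
    have h1 : 1 < l.length + 1 := by omega
    refine ⟨(l ⟨1, h1⟩).1.asIdeal, (l ⟨1, h1⟩).1.isPrime, ?_⟩
    have h2 : l ⟨0, Nat.succ_pos _⟩ < l ⟨1, h1⟩ := l.strictMono (by simp [Fin.lt_def])
    exact h2

theorem exists_gen_dim {R : Type*} [CommRing R] {M : Type*} [AddCommGroup M] [Module R M]
    [Module.Finite R M] {ι : Type*} [Fintype ι] (m : ι → M)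
    (hm : Submodule.span R (Set.range m) = ⊤) (d : ℕ) (hd : Module.supportDim R M = d) :
    ∃ i, ringKrullDim (R ⧸ annElt (R := R) (m i)) = d := by
  rw [Module.supportDim_eq_ringKrullDim_quotient_annihilator] at hd
  obtain ⟨𝔭, h𝔭, hle, hall, -⟩ := exists_prime_bottom _ d hd.ge
  rw [annihilator_eq_inf m hm] at hle
  obtain ⟨i, -, hi⟩ := h𝔭.inf_le'.mp hle
  refine ⟨i, le_antisymm ?_ (hall _ hi)⟩
  rw [← hd]
  exact ringKrullDim_le_of_surjective (Ideal.Quotient.factor (annihilator_le_annElt (m i)))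
    (Ideal.Quotient.factor_surjective _)

section Shift

variable {k : Type u} [Field k] {R : Type u} [CommRing R] [Algebra k R]
  (𝒜 : ℤ → Submodule k R) [GradedAlgebra 𝒜]

theorem mem_of_decompose_zero (𝔭 : Ideal R) (hall : ∀ j : ℤ, j ≠ 0 → ∀ a ∈ 𝒜 j, a ∈ 𝔭)
    (z : R) (hz : (decompose 𝒜 z 0 : R) = 0) : z ∈ 𝔭 := by
  classical
  rw [← DirectSum.sum_support_decompose 𝒜 z]
  refine Ideal.sum_mem _ fun j _ => ?_
  by_cases hj : j = 0
  · subst hj
    rw [hz]
    exact Ideal.zero_mem _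
  · exact hall j hj _ (decompose 𝒜 z j).2

theorem exists_shift (hpos : ∀ n : ℤ, n < 0 → 𝒜 n = ⊥) (h0 : 𝒜 0 = Submodule.span k {(1 : R)})
    (hstd : Ideal.span (⋃ n ∈ Set.Ioi (0 : ℤ), (𝒜 n : Set R)) =
      Ideal.span ((𝒜 1 : Submodule k R) : Set R))
    {M : Type*} [AddCommGroup M] [Module R M] (m : M) (d : ℕ) (hd1 : 1 ≤ d)
    (hd : ringKrullDim (R ⧸ annElt (R := R) m) = d) (e : ℕ) :
    ∃ r ∈ 𝒜 (e : ℤ), ringKrullDim (R ⧸ annElt (R := R) (r • m)) = d := by
  obtain ⟨𝔭, h𝔭, hle, hall, hq⟩ := exists_prime_bottom _ d hd.ge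
  obtain ⟨𝔮, h𝔮, hlt⟩ := hq (by omega)
  have hex : ∃ r ∈ 𝒜 (e : ℤ), r ∉ 𝔭 := by
    by_contra hcon
    have hcon' : ∀ r ∈ 𝒜 (e : ℤ), r ∈ 𝔭 := by
      intro r hr
      by_contra hr'
      exact hcon ⟨r, hr, hr'⟩
    have h1 : ∀ a ∈ 𝒜 1, a ∈ 𝔭 := by
      intro a ha
      have h2 : a ^ e ∈ 𝒜 (e • (1 : ℤ)) := SetLike.pow_mem_graded e ha
      rw [nsmul_eq_mul, mul_one] at h2
      exact h𝔭.mem_of_pow_mem e (hcon' _ h2)
    have h3 : Ideal.span (⋃ n ∈ Set.Ioi (0 : ℤ), (𝒜 n : Set R)) ≤ 𝔭 := by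
      rw [hstd, Ideal.span_le]
      exact h1
    have h4 : ∀ j : ℤ, j ≠ 0 → ∀ a ∈ 𝒜 j, a ∈ 𝔭 := by
      intro j hj a ha
      rcases lt_or_gt_of_ne hj with hneg | hpos'
      · rw [hpos j hneg, Submodule.mem_bot] at ha
        rw [ha]
        exact Ideal.zero_mem _
      · apply h3
        apply Ideal.subset_span
        simp only [Set.mem_iUnion, Set.mem_Ioi]
        exact ⟨j, hpos', ha⟩
    -- every element of `𝔮` lies in `𝔭`
    have h5 : 𝔮 ≤ 𝔭 := by
      intro x hx
      have hx0 : (decompose 𝒜 x 0 : R) ∈ 𝒜 0 := (decompose 𝒜 x 0).2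
      have hz : x - (decompose 𝒜 x 0 : R) ∈ 𝔭 := by
        apply mem_of_decompose_zero 𝒜 𝔭 h4
        rw [decompose_sub, DFinsupp.sub_apply, AddSubgroupClass.coe_sub,
          decompose_coe, DirectSum.of_eq_same, sub_self]
      have h6 : (decompose 𝒜 x 0 : R) ∈ 𝔮 := by
        have := 𝔮.sub_mem hx (hlt.le hz)
        rwa [sub_sub_cancel] at this
      have hx0' : (decompose 𝒜 x 0 : R) ∈ Submodule.span k {(1 : R)} := h0 ▸ hx0
      obtain ⟨c, hc⟩ := Submodule.mem_span_singleton.mp hx0'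
      have hc0 : c = 0 := by
        by_contra hc0
        apply h𝔮.ne_top
        rw [Ideal.eq_top_iff_one]
        have : (1 : R) = c⁻¹ • (decompose 𝒜 x 0 : R) := by
          rw [← hc, smul_smul, inv_mul_cancel₀ hc0, one_smul]
        rw [this, Algebra.smul_def]
        exact Ideal.mul_mem_left _ _ h6
      rw [hc0, zero_smul] at hc
      rw [← hc, sub_zero] at hz
      exact hz
    exact absurd (lt_of_lt_of_le hlt h5) (lt_irrefl _)
  obtain ⟨r, hr, hr𝔭⟩ := hex
  refine ⟨r, hr, le_antisymm ?_ (hall _ ?_)⟩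
  · rw [← hd]
    exact ringKrullDim_le_of_surjective (Ideal.Quotient.factor (annElt_le_annElt_smul r m))
      (Ideal.Quotient.factor_surjective _)
  · intro s hs
    rw [mem_annElt, smul_smul] at hs
    have h1 : s * r ∈ 𝔭 := hle (mem_annElt.mpr hs)
    exact (h𝔭.mem_or_mem h1).resolve_right hr𝔭

end Shift

theorem one_le_of_not_isArtinian {R : Type*} [CommRing R] [IsNoetherianRing R] {M : Type*}
    [AddCommGroup M] [Module R M] [Module.Finite R M] (d : ℕ)
    (hd : Module.supportDim R M = d) (hA : ¬ IsArtinian R M) : 1 ≤ d := by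
  by_contra hlt
  have hd0 : d = 0 := by omega
  subst hd0
  apply hA
  rw [Module.supportDim_eq_ringKrullDim_quotient_annihilator] at hd
  haveI : Ring.KrullDimLE 0 (R ⧸ Module.annihilator R M) := by
    rw [Ring.krullDimLE_iff]
    exact hd.le
  haveI : IsArtinianRing (R ⧸ Module.annihilator R M) :=
    isArtinianRing_iff_isNoetherianRing_krullDimLE_zero.mpr ⟨inferInstance, inferInstance⟩
  letI := Module.quotientAnnihilator (R := R) (M := M)
  haveI : IsScalarTower R (R ⧸ Module.annihilator R M) M :=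
    (Module.isTorsionBySet_annihilator R M).isScalarTower
  haveI : Module.Finite (R ⧸ Module.annihilator R M) M :=
    Module.Finite.of_restrictScalars_finite R (R ⧸ Module.annihilator R M) M
  haveI : IsArtinian (R ⧸ Module.annihilator R M) M := inferInstance
  exact isArtinian_of_surjective_algebraMap (R := R ⧸ Module.annihilator R M) (S := R)
    Ideal.Quotient.mk_surjective

end SecSM3

-- ===== from SM4 =====
section SecSM4
open TensorProduct DirectSum
section KerLemma

variable {k : Type*} [CommRing k] {N P₁ P₂ N' P₁' P₂' : Type*}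
  [AddCommGroup N] [Module k N] [AddCommGroup P₁] [Module k P₁] [AddCommGroup P₂] [Module k P₂]
  [AddCommGroup N'] [Module k N'] [AddCommGroup P₁'] [Module k P₁'] [AddCommGroup P₂'] [Module k P₂']

theorem ker_map_eq_of_ker_eq (g₁ : N →ₗ[k] P₁) (g₂ : N →ₗ[k] P₂) (g₁' : N' →ₗ[k] P₁')
    (g₂' : N' →ₗ[k] P₂') (h1 : Function.Surjective g₁) (h2 : Function.Surjective g₂)
    (h1' : Function.Surjective g₁') (h2' : Function.Surjective g₂')
    (hk : LinearMap.ker g₁ = LinearMap.ker g₂) (hk' : LinearMap.ker g₁' = LinearMap.ker g₂') :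
    LinearMap.ker (TensorProduct.map g₁ g₁') = LinearMap.ker (TensorProduct.map g₂ g₂') := by
  have e1 : Function.Exact (LinearMap.ker g₁).subtype g₁ :=
    LinearMap.exact_iff.mpr (by rw [Submodule.range_subtype])
  have e2 : Function.Exact (LinearMap.ker g₁).subtype g₂ :=
    LinearMap.exact_iff.mpr (by rw [Submodule.range_subtype, hk])
  have e1' : Function.Exact (LinearMap.ker g₁').subtype g₁' :=
    LinearMap.exact_iff.mpr (by rw [Submodule.range_subtype])
  have e2' : Function.Exact (LinearMap.ker g₁').subtype g₂' :=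
    LinearMap.exact_iff.mpr (by rw [Submodule.range_subtype, hk'])
  rw [TensorProduct.map_ker e1 h1 e1' h1', TensorProduct.map_ker e2 h2 e2' h2']

end KerLemma

variable {k : Type u} [Field k] {R : Type u} [CommRing R] [Algebra k R]
  {S : Type u} [CommRing S] [Algebra k S]
  {M : Type u} [AddCommGroup M] [Module R M] [Module k M] [IsScalarTower k R M]
  {N : Type u} [AddCommGroup N] [Module S N] [Module k N] [IsScalarTower k S N]

theorem exact_subtype_mk (I : Ideal R) :
    Function.Exact (I.restrictScalars k).subtype (Ideal.Quotient.mkₐ k I).toLinearMap := by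
  intro a
  constructor
  · intro h
    exact ⟨⟨a, Ideal.Quotient.eq_zero_iff_mem.mp h⟩, rfl⟩
  · rintro ⟨⟨a, ha⟩, rfl⟩
    exact Ideal.Quotient.eq_zero_iff_mem.mpr ha

theorem mk_surjective' (I : Ideal R) :
    Function.Surjective (Ideal.Quotient.mkₐ k I).toLinearMap :=
  Ideal.Quotient.mk_surjective

theorem piQ_apply (I : Ideal R) (J : Ideal S) (z : R ⊗[k] S) :
    piQ (k := k) I J z =
      TensorProduct.map (Ideal.Quotient.mkₐ k I).toLinearMap (Ideal.Quotient.mkₐ k J).toLinearMap z :=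
  rfl

theorem act_eq_zero_of_piQ_eq_zero (I : Ideal R) (J : Ideal S)
    (hI : ∀ a ∈ I, ∀ x : M, a • x = 0) (hJ : ∀ b ∈ J, ∀ y : N, b • y = 0)
    (z : R ⊗[k] S) (hz : piQ (k := k) I J z = 0) : GrSeg.act k R S M N z = 0 := by
  have h1 : ∀ u, GrSeg.act k R S M N (LinearMap.lTensor R (J.restrictScalars k).subtype u) = 0 := by
    intro u
    induction u using TensorProduct.induction_on with
    | zero => simp
    | tmul r j =>
      rw [LinearMap.lTensor_tmul]
      apply TensorProduct.ext'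
      intro x y
      rw [Submodule.subtype_apply, GrSeg.act_tmul, hJ j.1 j.2 y, tmul_zero]
      rfl
    | add a b ha hb => rw [map_add, map_add, ha, hb, add_zero]
  have h2 : ∀ v, GrSeg.act k R S M N (LinearMap.rTensor S (I.restrictScalars k).subtype v) = 0 := by
    intro v
    induction v using TensorProduct.induction_on with
    | zero => simp
    | tmul i s =>
      rw [LinearMap.rTensor_tmul]
      apply TensorProduct.ext'
      intro x y
      rw [Submodule.subtype_apply, GrSeg.act_tmul, hI i.1 i.2 x, zero_tmul]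
      rfl
    | add a b ha hb => rw [map_add, map_add, ha, hb, add_zero]
  rw [piQ_apply] at hz
  have hker : z ∈ LinearMap.ker (TensorProduct.map (Ideal.Quotient.mkₐ k I).toLinearMap
      (Ideal.Quotient.mkₐ k J).toLinearMap) := hz
  rw [TensorProduct.map_ker (exact_subtype_mk I) (mk_surjective' I) (exact_subtype_mk J)
    (mk_surjective' J)] at hker
  obtain ⟨_, ⟨u, rfl⟩, _, ⟨v, rfl⟩, rfl⟩ := Submodule.mem_sup.mp hker
  rw [map_add, h1, h2, add_zero]

/-- scalar multiplication on a fixed element, as a `k`-linear map -/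
noncomputable def rho (m : M) : R →ₗ[k] M := (LinearMap.toSpanSingleton R M m).restrictScalars k

theorem rho_apply (m : M) (r : R) : rho (k := k) m r = r • m := by
  unfold rho
  rw [LinearMap.restrictScalars_apply, LinearMap.toSpanSingleton_apply]

theorem ker_rho (m : M) : LinearMap.ker (rho (k := k) (R := R) m) = (annElt (R := R) m).restrictScalars k := by
  ext a
  rw [LinearMap.mem_ker, rho_apply, Submodule.restrictScalars_mem, mem_annElt]

theorem ker_mk (I : Ideal R) :
    LinearMap.ker (Ideal.Quotient.mkₐ k I).toLinearMap = I.restrictScalars k := by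
  ext a
  rw [LinearMap.mem_ker, Submodule.restrictScalars_mem]
  exact Ideal.Quotient.eq_zero_iff_mem

theorem act_tmul_eq_map (m : M) (n : N) (z : R ⊗[k] S) :
    GrSeg.act k R S M N z (m ⊗ₜ[k] n) = TensorProduct.map (rho (k := k) m) (rho (k := k) n) z := by
  induction z using TensorProduct.induction_on with
  | zero => simp
  | tmul r s => rw [GrSeg.act_tmul, TensorProduct.map_tmul, rho_apply, rho_apply]
  | add a b ha hb => rw [map_add, map_add, LinearMap.add_apply, ha, hb]

theorem piQ_eq_zero_of_act_eq_zero (m : M) (n : N) (z : R ⊗[k] S)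
    (hz : GrSeg.act k R S M N z (m ⊗ₜ[k] n) = 0) :
    piQ (k := k) (annElt (R := R) m) (annElt (R := S) n) z = 0 := by
  rw [act_tmul_eq_map] at hz
  have hfac : TensorProduct.map (rho (k := k) (R := R) m) (rho (k := k) (R := S) n) =
      (TensorProduct.map (LinearMap.range (rho (k := k) (R := R) m)).subtype
        (LinearMap.range (rho (k := k) (R := S) n)).subtype).comp
      (TensorProduct.map (rho (k := k) (R := R) m).rangeRestrict
        (rho (k := k) (R := S) n).rangeRestrict) := by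
    apply TensorProduct.ext'
    intro r s
    rfl
  rw [hfac, LinearMap.comp_apply] at hz
  have hinj : Function.Injective (TensorProduct.map
      (LinearMap.range (rho (k := k) (R := R) m)).subtype
      (LinearMap.range (rho (k := k) (R := S) n)).subtype) :=
    TensorProduct.map_injective_of_flat_flat _ _ (Submodule.injective_subtype _)
      (Submodule.injective_subtype _)
  have hz' : z ∈ LinearMap.ker (TensorProduct.map (rho (k := k) (R := R) m).rangeRestrict
      (rho (k := k) (R := S) n).rangeRestrict) := by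
    rw [LinearMap.mem_ker]
    apply hinj
    rw [hz, map_zero]
  rw [ker_map_eq_of_ker_eq (rho (k := k) (R := R) m).rangeRestrict
    (Ideal.Quotient.mkₐ k (annElt (R := R) m)).toLinearMap
    (rho (k := k) (R := S) n).rangeRestrict
    (Ideal.Quotient.mkₐ k (annElt (R := S) n)).toLinearMap
    (LinearMap.surjective_rangeRestrict _) (mk_surjective' _)
    (LinearMap.surjective_rangeRestrict _) (mk_surjective' _)
    (by rw [LinearMap.ker_rangeRestrict, ker_rho, ker_mk])
    (by rw [LinearMap.ker_rangeRestrict, ker_rho, ker_mk])] at hz'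
  rw [piQ_apply]
  exact hz'

end SecSM4

-- ===== from SM5 =====
section SecSM5
open TensorProduct DirectSum Groth.Agent.Lib.H9Segre
theorem main (k : Type u) [Field k] (R : Type u) [CommRing R] [Algebra k R]
    (𝒜 : ℤ → Submodule k R) [GradedAlgebra 𝒜] (hposR : ∀ n : ℤ, n < 0 → 𝒜 n = ⊥)
    (h0R : 𝒜 0 = Submodule.span k {(1 : R)}) [Algebra.FiniteType k R]
    (S : Type u) [CommRing S] [Algebra k S] (ℬ : ℤ → Submodule k S) [GradedAlgebra ℬ]
    (hposS : ∀ n : ℤ, n < 0 → ℬ n = ⊥) (h0S : ℬ 0 = Submodule.span k {(1 : S)})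
    [Algebra.FiniteType k S] (T : Type u) [CommRing T] [Algebra k T]
    (𝒯 : ℤ → Submodule k T) [GradedAlgebra 𝒯] (ψ : T →ₐ[k] TensorProduct k R S)
    (hT : GrSeg.IsSegreRing 𝒜 ℬ 𝒯 ψ)
    (hstdR : Ideal.span (⋃ n ∈ Set.Ioi (0 : ℤ), (𝒜 n : Set R)) =
      Ideal.span ((𝒜 1 : Submodule k R) : Set R))
    (hstdS : Ideal.span (⋃ n ∈ Set.Ioi (0 : ℤ), (ℬ n : Set S)) =
      Ideal.span ((ℬ 1 : Submodule k S) : Set S))
    (M : Type u) [AddCommGroup M] [Module R M] [Module k M] [IsScalarTower k R M]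
    (ℳ : ℤ → AddSubgroup M) [DirectSum.Decomposition ℳ] [SetLike.GradedSMul 𝒜 ℳ]
    [Module.Finite R M] (N : Type u) [AddCommGroup N] [Module S N] [Module k N]
    [IsScalarTower k S N] (𝒩 : ℤ → AddSubgroup N) [DirectSum.Decomposition 𝒩]
    [SetLike.GradedSMul ℬ 𝒩] [Module.Finite S N] (P : Type u) [AddCommGroup P] [Module T P]
    [Module k P] [IsScalarTower k T P] (𝒬 : ℤ → AddSubgroup P) [DirectSum.Decomposition 𝒬]
    (φ : P →ₗ[k] TensorProduct k M N) (hP : GrSeg.IsSegreMod ψ ℳ 𝒩 𝒬 φ) (dM dN : ℕ)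
    (hdM : Module.supportDim R M = dM) (hdN : Module.supportDim S N = dN)
    (hMA : ¬ IsArtinian R M) (hNA : ¬ IsArtinian S N) :
    Module.supportDim T P = ((dM + dN - 1 : ℕ) : WithBot ℕ∞) := by
  classical
  haveI : IsNoetherianRing R := Algebra.FiniteType.isNoetherianRing k R
  haveI : IsNoetherianRing S := Algebra.FiniteType.isNoetherianRing k S
  haveI hfin : Module.Finite T P :=
    Groth.Agent.Lib.R2Lead.SegreFG.main k R 𝒜 S ℬ T 𝒯 ψ hT M ℳ N 𝒩 P 𝒬 φ hP
  have h1M : 1 ≤ dM := one_le_of_not_isArtinian dM hdM hMA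
  have h1N : 1 ≤ dN := one_le_of_not_isArtinian dN hdN hNA
  letI gR := natGrGradedAlgebra 𝒜 hposR
  letI gS := natGrGradedAlgebra ℬ hposS
  have hrange := hrange_of_hdeg 𝒜 hposR ℬ 𝒯 ψ hT.2
  have h0R' := natGr_h0 𝒜 h0R
  have h0S' := natGr_h0 ℬ h0S
  -- upper bound
  have hupper : Module.supportDim T P ≤ ((dM + dN - 1 : ℕ) : WithBot ℕ∞) := by
    rw [Module.supportDim_eq_ringKrullDim_quotient_annihilator]
    have hI := annihilator_isHomogeneous 𝒜 hposR (M := M) ℳ
    have hJ := annihilator_isHomogeneous ℬ hposS (M := N) 𝒩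
    have hdimI : ringKrullDim (R ⧸ Module.annihilator R M) = dM := by
      rw [← Module.supportDim_eq_ringKrullDim_quotient_annihilator]; exact hdM
    have hdimJ : ringKrullDim (S ⧸ Module.annihilator S N) = dN := by
      rw [← Module.supportDim_eq_ringKrullDim_quotient_annihilator]; exact hdN
    have hK := quot_main (natGr 𝒜) (natGr ℬ) h0R' h0S' T ψ hrange _ hI _ hJ dM dN hdimI hdimJ
      h1M h1N
    rw [← hK]
    have hle : RingHom.ker ((piQ (k := k) (Module.annihilator R M)
        (Module.annihilator S N)).comp ψ) ≤ Module.annihilator T P := by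
      intro t ht
      rw [RingHom.mem_ker] at ht
      rw [Module.mem_annihilator]
      intro p
      apply hP.injective
      rw [hP.map_smul, map_zero,
        act_eq_zero_of_piQ_eq_zero (M := M) (N := N) _ _
          (fun a ha x => Module.mem_annihilator.mp ha x)
          (fun b hb y => Module.mem_annihilator.mp hb y) (ψ t) ht]
      rfl
    exact ringKrullDim_le_of_surjective (Ideal.Quotient.factor hle)
      (Ideal.Quotient.factor_surjective _)
  -- lower bound
  have hlower : ((dM + dN - 1 : ℕ) : WithBot ℕ∞) ≤ Module.supportDim T P := by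
    obtain ⟨ιM, _, m, u, hm, hmtop⟩ :=
      Groth.Agent.Lib.R2Lead.SegreFG.exists_homog_mod_gens (R := R) ℳ
    obtain ⟨i, hi⟩ := exists_gen_dim m hmtop dM hdM
    obtain ⟨ιN, _, n, v, hn, hntop⟩ :=
      Groth.Agent.Lib.R2Lead.SegreFG.exists_homog_mod_gens (R := S) 𝒩
    obtain ⟨j, hj⟩ := exists_gen_dim n hntop dN hdN
    have hdeg : (((v j - u i).toNat : ℕ) : ℤ) + u i = (((u i - v j).toNat : ℕ) : ℤ) + v j := by
      omega
    obtain ⟨r, hr, hrdim⟩ := exists_shift 𝒜 hposR h0R hstdR (m i) dM h1M hi (v j - u i).toNat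
    obtain ⟨s, hs, hsdim⟩ := exists_shift ℬ hposS h0S hstdS (n j) dN h1N hj (u i - v j).toNat
    have hm' : r • m i ∈ ℳ ((((v j - u i).toNat : ℕ) : ℤ) + u i) := by
      have := SetLike.GradedSMul.smul_mem hr (hm i)
      rwa [vadd_eq_add] at this
    have hn' : s • n j ∈ 𝒩 ((((v j - u i).toNat : ℕ) : ℤ) + u i) := by
      rw [hdeg]
      have := SetLike.GradedSMul.smul_mem hs (hn j)
      rwa [vadd_eq_add] at this
    have hmem : (r • m i) ⊗ₜ[k] (s • n j) ∈
        (GrSeg.segrePiece k ℳ 𝒩 ((((v j - u i).toNat : ℕ) : ℤ) + u i) :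
          Set (TensorProduct k M N)) :=
      Submodule.subset_span ⟨_, hm', _, hn', rfl⟩
    rw [← hP.image_piece] at hmem
    obtain ⟨p, -, hp⟩ := hmem
    have hI' := annElt_isHomogeneous 𝒜 hposR ℳ hm'
    have hJ' := annElt_isHomogeneous ℬ hposS 𝒩 hn'
    have hK := quot_main (natGr 𝒜) (natGr ℬ) h0R' h0S' T ψ hrange _ hI' _ hJ' dM dN hrdim hsdim
      h1M h1N
    rw [← hK]
    have hle' : Module.annihilator T (Submodule.span T {p}) ≤
        RingHom.ker ((piQ (k := k) (annElt (R := R) (r • m i))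
          (annElt (R := S) (s • n j))).comp ψ) := by
      intro t ht
      rw [Module.mem_annihilator] at ht
      have h1 : t • p = 0 := by
        have := ht ⟨p, Submodule.mem_span_singleton_self p⟩
        exact congrArg Subtype.val this
      rw [RingHom.mem_ker]
      change piQ (k := k) _ _ (ψ t) = 0
      apply piQ_eq_zero_of_act_eq_zero
      rw [← hp, ← hP.map_smul, h1, map_zero]
    calc ringKrullDim (T ⧸ RingHom.ker ((piQ (k := k) (annElt (R := R) (r • m i))
          (annElt (R := S) (s • n j))).comp ψ))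
        ≤ ringKrullDim (T ⧸ Module.annihilator T (Submodule.span T {p})) :=
          ringKrullDim_le_of_surjective (Ideal.Quotient.factor hle')
            (Ideal.Quotient.factor_surjective _)
      _ = Module.supportDim T (Submodule.span T {p}) :=
          (Module.supportDim_eq_ringKrullDim_quotient_annihilator _ _).symm
      _ ≤ Module.supportDim T P :=
          Module.supportDim_le_of_injective (Submodule.subtype _) (Submodule.injective_subtype _)
  exact le_antisymm hupper hlower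

end SecSM5


end Groth.Agent.Lib.H9SegreMod
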