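import Mathlib
import Groth.Agent.Lib.H9SegreMod
import Groth.Agent.Lib.H9Segre
import Groth.Agent.Lib.Helper28FGDim
import Groth.Agent.Lib.Helper28DepthCM

set_option autoImplicit false
set_option linter.style.haveILetI false
set_option linter.unusedSectionVars false
universe u v w

namespace Groth.Agent.Lib.H9SegreCM

-- ===== from SM6 =====
section SecSM6
open DirectSum Groth.Agent.Lib.H9Segre Groth.Agent.Lib.H9SegreMod
section

variable {k : Type u} [Field k] {R : Type u} [CommRing R] [Algebra k R]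
  (𝒜 : ℕ → Submodule k R) [GradedAlgebra 𝒜]

theorem isHomogeneous_of_mem_minimalPrimes (I : Ideal R) (hI : I.IsHomogeneous 𝒜) {q : Ideal R}
    (hq : q ∈ I.minimalPrimes) : q.IsHomogeneous 𝒜 := by
  have hqp : q.IsPrime := hq.1.1
  have hcore : (q.homogeneousCore 𝒜).toIdeal.IsPrime := hqp.homogeneousCore
  have hle : I ≤ (q.homogeneousCore 𝒜).toIdeal := by
    rw [← hI.toIdeal_homogeneousCore_eq_self]
    exact Ideal.homogeneousCore_mono 𝒜 hq.1.2
  have h2 : q ≤ (q.homogeneousCore 𝒜).toIdeal :=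
    hq.2 ⟨hcore, hle⟩ (Ideal.toIdeal_homogeneousCore_le 𝒜 q)
  have h3 : (q.homogeneousCore 𝒜).toIdeal = q :=
    le_antisymm (Ideal.toIdeal_homogeneousCore_le 𝒜 q) h2
  rw [← h3]
  exact (q.homogeneousCore 𝒜).isHomogeneous

variable (h0 : ∀ a ∈ 𝒜 0, ∃ c : k, a = algebraMap k R c)
include h0

theorem natCast_le_height_irr [Algebra.FiniteType k R] [Nontrivial R]
    {L : Type*} [AddCommGroup L] [Module R L] [Module.Finite R L]
    (hAnn : (Module.annihilator R L).IsHomogeneous 𝒜)
    (hm : (⟨irr 𝒜, (irr_isMaximal 𝒜 h0).isPrime⟩ : PrimeSpectrum R) ∈ Module.support R L)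
    (n : ℕ) (hn : (n : WithBot ℕ∞) ≤ ringKrullDim (R ⧸ Module.annihilator R L)) :
    (n : ℕ∞) ≤ Order.height (⟨⟨irr 𝒜, (irr_isMaximal 𝒜 h0).isPrime⟩, hm⟩ : Module.support R L) := by
  haveI hmax : (irr 𝒜).IsMaximal := irr_isMaximal 𝒜 h0
  obtain ⟨𝔮, h𝔮, hle, hall, -⟩ := exists_prime_bottom _ n hn
  obtain ⟨𝔮₀, h𝔮₀min, h𝔮₀le⟩ := Ideal.exists_minimalPrimes_le hle
  haveI h𝔮₀p : 𝔮₀.IsPrime := h𝔮₀min.1.1
  have hn0 : (n : WithBot ℕ∞) ≤ ringKrullDim (R ⧸ 𝔮₀) := hall 𝔮₀ h𝔮₀le
  have hhom := isHomogeneous_of_mem_minimalPrimes 𝒜 _ hAnn h𝔮₀min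
  have hle𝔪 : 𝔮₀ ≤ irr 𝒜 := le_irr_of_isHomogeneous 𝒜 h0 𝔮₀ hhom h𝔮₀p.ne_top
  haveI hM' : ((irr 𝒜).map (Ideal.Quotient.mk 𝔮₀)).IsMaximal :=
    Ideal.IsMaximal.map_of_surjective_of_ker_le Ideal.Quotient.mk_surjective
      (by rwa [Ideal.mk_ker])
  have hb := Groth.Agent.Lib.Helper28.height_eq_ringKrullDim_quotient_of_isMaximal_of_finiteType
    k R 𝔮₀ ((irr 𝒜).map (Ideal.Quotient.mk 𝔮₀))
  have hn1 : (n : ℕ∞) ≤ ((irr 𝒜).map (Ideal.Quotient.mk 𝔮₀)).height := by
    rw [← hb] at hn0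
    exact_mod_cast hn0
  have hM'p : ((irr 𝒜).map (Ideal.Quotient.mk 𝔮₀)).IsPrime := hM'.isPrime
  have hn2 := PrimeSpectrum.height_eq_orderHeight
    (⟨(irr 𝒜).map (Ideal.Quotient.mk 𝔮₀), hM'p⟩ : PrimeSpectrum (R ⧸ 𝔮₀))
  change ((irr 𝒜).map (Ideal.Quotient.mk 𝔮₀)).height = _ at hn2
  rw [hn2] at hn1
  -- strictly monotone map into the support
  have hmemsupp : ∀ p : PrimeSpectrum (R ⧸ 𝔮₀),
      PrimeSpectrum.comap (Ideal.Quotient.mk 𝔮₀) p ∈ Module.support R L := by
    intro p
    rw [Module.mem_support_iff_of_finite]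
    refine h𝔮₀min.1.2.trans ?_
    intro x hx
    change Ideal.Quotient.mk 𝔮₀ x ∈ p.asIdeal
    rw [Ideal.Quotient.eq_zero_iff_mem.mpr hx]
    exact Ideal.zero_mem _
  let g : PrimeSpectrum (R ⧸ 𝔮₀) → Module.support R L := fun p =>
    ⟨PrimeSpectrum.comap (Ideal.Quotient.mk 𝔮₀) p, hmemsupp p⟩
  have hg : StrictMono g := by
    intro a b hab
    exact RingHom.strictMono_comap_of_surjective Ideal.Quotient.mk_surjective hab
  have h3 := Order.height_le_height_apply_of_strictMono g hg
    (⟨(irr 𝒜).map (Ideal.Quotient.mk 𝔮₀), hM'p⟩ : PrimeSpectrum (R ⧸ 𝔮₀))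
  have h4 : g ⟨(irr 𝒜).map (Ideal.Quotient.mk 𝔮₀), hM'p⟩ =
      (⟨⟨irr 𝒜, (irr_isMaximal 𝒜 h0).isPrime⟩, hm⟩ : Module.support R L) := by
    apply Subtype.ext
    apply PrimeSpectrum.ext
    change ((irr 𝒜).map (Ideal.Quotient.mk 𝔮₀)).comap (Ideal.Quotient.mk 𝔮₀) = irr 𝒜
    rw [Ideal.comap_map_of_surjective _ Ideal.Quotient.mk_surjective, ← RingHom.ker_eq_comap_bot,
      Ideal.mk_ker]
    exact sup_eq_left.mpr hle𝔪
  rw [h4] at h3
  exact hn1.trans h3

theorem supportDim_le_height_irr [Algebra.FiniteType k R] [Nontrivial R]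
    {L : Type*} [AddCommGroup L] [Module R L] [Module.Finite R L]
    (hAnn : (Module.annihilator R L).IsHomogeneous 𝒜)
    (hm : (⟨irr 𝒜, (irr_isMaximal 𝒜 h0).isPrime⟩ : PrimeSpectrum R) ∈ Module.support R L) :
    Module.supportDim R L ≤
      ((Order.height (⟨⟨irr 𝒜, (irr_isMaximal 𝒜 h0).isPrime⟩, hm⟩ : Module.support R L) : ℕ∞) :
        WithBot ℕ∞) := by
  rw [Module.supportDim_eq_ringKrullDim_quotient_annihilator]
  by_cases hb : ringKrullDim (R ⧸ Module.annihilator R L) = ⊥
  · rw [hb]; exact bot_le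
  · obtain ⟨d, hd⟩ := WithBot.ne_bot_iff_exists.mp hb
    rw [← hd, WithBot.coe_le_coe, ← ENat.forall_natCast_le_iff_le]
    intro n hn
    apply natCast_le_height_irr 𝒜 h0 hAnn hm n
    rw [← hd]
    exact_mod_cast hn

end

section Unmixed

variable {k : Type u} [Field k] {R : Type u} [CommRing R] [Algebra k R]
  (𝒜 : ℕ → Submodule k R) [GradedAlgebra 𝒜]
  (h0 : ∀ a ∈ 𝒜 0, ∃ c : k, a = algebraMap k R c)

include h0 in
theorem dim_annElt_eq [Algebra.FiniteType k R]
    {M : Type u} [AddCommGroup M] [Module R M] [Module.Finite R M]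
    (hAnnM : (Module.annihilator R M).IsHomogeneous 𝒜)
    (hMcm : ∀ (q : Ideal R) [q.IsPrime], Subsingleton (LocalizedModule q.primeCompl M) ∨
      LocCoh.IsCohenMacaulayModule (Localization.AtPrime q) (LocalizedModule q.primeCompl M))
    (r : ℕ) (hr : Module.supportDim R M = r)
    (m : M) (hm0 : m ≠ 0) (hAnnm : (annElt (R := R) m).IsHomogeneous 𝒜) :
    ringKrullDim (R ⧸ annElt (R := R) m) = r := by
  haveI : IsNoetherianRing R := Algebra.FiniteType.isNoetherianRing k R
  haveI : Nontrivial M := ⟨m, 0, hm0⟩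
  haveI : Nontrivial R := Module.nontrivial R M
  haveI hmax : (irr 𝒜).IsMaximal := irr_isMaximal 𝒜 h0
  haveI h𝔪p : (irr 𝒜).IsPrime := hmax.isPrime
  have hAnnL : Module.annihilator R (Submodule.span R {m}) = annElt (R := R) m :=
    Ideal.ext fun a => (Submodule.mem_annihilator_span_singleton m a).trans mem_annElt.symm
  haveI : Nontrivial (Submodule.span R {m}) :=
    ⟨⟨m, Submodule.mem_span_singleton_self m⟩, 0, fun h => hm0 (congrArg Subtype.val h)⟩
  have hne : annElt (R := R) m ≠ ⊤ := by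
    intro h
    have h1 : (1 : R) ∈ annElt (R := R) m := h ▸ Submodule.mem_top
    rw [mem_annElt, one_smul] at h1
    exact hm0 h1
  have hle : annElt (R := R) m ≤ irr 𝒜 := le_irr_of_isHomogeneous 𝒜 h0 _ hAnnm hne
  have hmL : (⟨irr 𝒜, h𝔪p⟩ : PrimeSpectrum R) ∈ Module.support R (Submodule.span R {m}) := by
    rw [Module.mem_support_iff_of_finite, hAnnL]
    exact hle
  have hmM : (⟨irr 𝒜, h𝔪p⟩ : PrimeSpectrum R) ∈ Module.support R M := by
    rw [Module.mem_support_iff_of_finite]
    exact (annihilator_le_annElt m).trans hle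
  -- (G) for `L` and `M`
  have hGL : Module.supportDim (Localization.AtPrime (irr 𝒜))
      (LocalizedModule (irr 𝒜).primeCompl (Submodule.span R {m})) ≤
      Module.supportDim R (Submodule.span R {m}) := by
    rw [Groth.Agent.Lib.Helper28.supportDim_localization_eq_height (irr 𝒜) _ hmL]
    exact Order.height_le_krullDim _
  have hGM' : Module.supportDim R M ≤ Module.supportDim (Localization.AtPrime (irr 𝒜))
      (LocalizedModule (irr 𝒜).primeCompl M) := by
    rw [Groth.Agent.Lib.Helper28.supportDim_localization_eq_height (irr 𝒜) _ hmM]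
    exact supportDim_le_height_irr 𝒜 h0 hAnnM hmM
  -- Cohen–Macaulay at the irrelevant ideal
  have hcm : LocCoh.IsCohenMacaulayModule (Localization.AtPrime (irr 𝒜))
      (LocalizedModule (irr 𝒜).primeCompl M) := by
    refine (hMcm (irr 𝒜)).resolve_left ?_
    rw [not_subsingleton_iff_nontrivial]
    exact Module.mem_support_iff.mp hmM
  -- the localized inclusion
  have hinj : Function.Injective (LocalizedModule.map (irr 𝒜).primeCompl
      (Submodule.span R {m}).subtype) :=
    (IsLocalizedModule.map_injective_iff_localizedModuleMap_injective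
      (LocalizedModule.mkLinearMap (irr 𝒜).primeCompl (Submodule.span R {m}))
      (LocalizedModule.mkLinearMap (irr 𝒜).primeCompl M)).mp
      (IsLocalizedModule.map_injective (irr 𝒜).primeCompl _ _ _ (Submodule.injective_subtype _))
  haveI : Nontrivial (LocalizedModule (irr 𝒜).primeCompl (Submodule.span R {m})) :=
    Module.mem_support_iff.mp hmL
  obtain ⟨𝔭', h𝔭'⟩ := associatedPrimes.nonempty (Localization.AtPrime (irr 𝒜))
    (LocalizedModule (irr 𝒜).primeCompl (Submodule.span R {m}))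
  have h𝔭'M : 𝔭' ∈ associatedPrimes (Localization.AtPrime (irr 𝒜))
      (LocalizedModule (irr 𝒜).primeCompl M) := associatedPrimes.subset_of_injective hinj h𝔭'
  have hunm := Groth.Agent.Lib.Helper28.ringKrullDim_quotient_eq_supportDim_of_isCohenMacaulayModule
    hcm h𝔭'M
  have hsupp := Groth.Agent.Lib.Helper28.ringKrullDim_quotient_le_supportDim
    (Groth.Agent.Lib.Helper28.mem_support_of_mem_associatedPrimes h𝔭')
  -- assemble
  apply le_antisymm
  · rw [← hr, Module.supportDim_eq_ringKrullDim_quotient_annihilator]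
    exact ringKrullDim_le_of_surjective (Ideal.Quotient.factor (annihilator_le_annElt m))
      (Ideal.Quotient.factor_surjective _)
  · rw [← hAnnL, ← Module.supportDim_eq_ringKrullDim_quotient_annihilator, ← hr]
    calc Module.supportDim R M
        ≤ Module.supportDim (Localization.AtPrime (irr 𝒜))
            (LocalizedModule (irr 𝒜).primeCompl M) := hGM'
      _ = ringKrullDim (Localization.AtPrime (irr 𝒜) ⧸ 𝔭') := hunm.symm
      _ ≤ Module.supportDim (Localization.AtPrime (irr 𝒜))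
            (LocalizedModule (irr 𝒜).primeCompl (Submodule.span R {m})) := hsupp
      _ ≤ Module.supportDim R (Submodule.span R {m}) := hGL

end Unmixed

end SecSM6

-- ===== from SM7 =====
section SecSM7
open TensorProduct DirectSum Groth.Agent.Lib.H9Segre Groth.Agent.Lib.H9SegreMod
theorem main2 (k : Type u) [Field k] (R : Type u) [CommRing R] [Algebra k R]
    (𝒜 : ℤ → Submodule k R) [GradedAlgebra 𝒜] (hposR : ∀ n : ℤ, n < 0 → 𝒜 n = ⊥)
    (h0R : 𝒜 0 = Submodule.span k {(1 : R)}) [Algebra.FiniteType k R]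
    (S : Type u) [CommRing S] [Algebra k S] (ℬ : ℤ → Submodule k S) [GradedAlgebra ℬ]
    (hposS : ∀ n : ℤ, n < 0 → ℬ n = ⊥) (h0S : ℬ 0 = Submodule.span k {(1 : S)})
    [Algebra.FiniteType k S] (T : Type u) [CommRing T] [Algebra k T]
    (𝒯 : ℤ → Submodule k T) [GradedAlgebra 𝒯] (ψ : T →ₐ[k] TensorProduct k R S)
    (hT : GrSeg.IsSegreRing 𝒜 ℬ 𝒯 ψ)
    (M : Type u) [AddCommGroup M] [Module R M] [Module k M] [IsScalarTower k R M]
    (ℳ : ℤ → AddSubgroup M) [DirectSum.Decomposition ℳ] [SetLike.GradedSMul 𝒜 ℳ]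
    [Module.Finite R M] (N : Type u) [AddCommGroup N] [Module S N] [Module k N]
    [IsScalarTower k S N] (𝒩 : ℤ → AddSubgroup N) [DirectSum.Decomposition 𝒩]
    [SetLike.GradedSMul ℬ 𝒩] [Module.Finite S N] (P : Type u) [AddCommGroup P] [Module T P]
    [Module k P] [IsScalarTower k T P] (𝒬 : ℤ → AddSubgroup P) [DirectSum.Decomposition 𝒬]
    (φ : P →ₗ[k] TensorProduct k M N) (hP : GrSeg.IsSegreMod ψ ℳ 𝒩 𝒬 φ) (r s : ℕ)
    (h1r : 1 ≤ r) (h1s : 1 ≤ s)
    (hdM : Module.supportDim R M = r) (hdN : Module.supportDim S N = s)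
    (hMcm : ∀ (q : Ideal R) [q.IsPrime], Subsingleton (LocalizedModule q.primeCompl M) ∨
      LocCoh.IsCohenMacaulayModule (Localization.AtPrime q) (LocalizedModule q.primeCompl M))
    (hNcm : ∀ (q : Ideal S) [q.IsPrime], Subsingleton (LocalizedModule q.primeCompl N) ∨
      LocCoh.IsCohenMacaulayModule (Localization.AtPrime q) (LocalizedModule q.primeCompl N)) :
    Module.supportDim T P = ((r + s - 1 : ℕ) : WithBot ℕ∞) ∨ Subsingleton P := by
  classical
  by_cases hsub : Subsingleton P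
  · exact Or.inr hsub
  left
  rw [not_subsingleton_iff_nontrivial] at hsub
  haveI : IsNoetherianRing R := Algebra.FiniteType.isNoetherianRing k R
  haveI : IsNoetherianRing S := Algebra.FiniteType.isNoetherianRing k S
  haveI hfin : Module.Finite T P :=
    Groth.Agent.Lib.R2Lead.SegreFG.main k R 𝒜 S ℬ T 𝒯 ψ hT M ℳ N 𝒩 P 𝒬 φ hP
  letI gR := natGrGradedAlgebra 𝒜 hposR
  letI gS := natGrGradedAlgebra ℬ hposS
  have hrange := hrange_of_hdeg 𝒜 hposR ℬ 𝒯 ψ hT.2
  have h0R' := natGr_h0 𝒜 h0R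
  have h0S' := natGr_h0 ℬ h0S
  have hI := annihilator_isHomogeneous 𝒜 hposR (M := M) ℳ
  have hJ := annihilator_isHomogeneous ℬ hposS (M := N) 𝒩
  -- upper bound
  have hupper : Module.supportDim T P ≤ ((r + s - 1 : ℕ) : WithBot ℕ∞) := by
    rw [Module.supportDim_eq_ringKrullDim_quotient_annihilator]
    have hdimI : ringKrullDim (R ⧸ Module.annihilator R M) = r := by
      rw [← Module.supportDim_eq_ringKrullDim_quotient_annihilator]; exact hdM
    have hdimJ : ringKrullDim (S ⧸ Module.annihilator S N) = s := by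
      rw [← Module.supportDim_eq_ringKrullDim_quotient_annihilator]; exact hdN
    have hK := quot_main (natGr 𝒜) (natGr ℬ) h0R' h0S' T ψ hrange _ hI _ hJ r s hdimI hdimJ
      h1r h1s
    rw [← hK]
    have hle : RingHom.ker ((piQ (k := k) (Module.annihilator R M)
        (Module.annihilator S N)).comp ψ) ≤ Module.annihilator T P := by
      intro t ht
      rw [RingHom.mem_ker] at ht
      rw [Module.mem_annihilator]
      intro p
      apply hP.injective
      rw [hP.map_smul, map_zero,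
        act_eq_zero_of_piQ_eq_zero (M := M) (N := N) _ _
          (fun a ha x => Module.mem_annihilator.mp ha x)
          (fun b hb y => Module.mem_annihilator.mp hb y) (ψ t) ht]
      rfl
    exact ringKrullDim_le_of_surjective (Ideal.Quotient.factor hle)
      (Ideal.Quotient.factor_surjective _)
  -- lower bound
  have hlower : ((r + s - 1 : ℕ) : WithBot ℕ∞) ≤ Module.supportDim T P := by
    obtain ⟨p₀, hp₀⟩ := exists_ne (0 : P)
    have hex : ∃ d, (decompose 𝒬 p₀ d : P) ≠ 0 := by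
      by_contra hcon
      apply hp₀
      rw [← DirectSum.sum_support_decompose 𝒬 p₀]
      refine Finset.sum_eq_zero fun d _ => ?_
      by_contra hd
      exact hcon ⟨d, hd⟩
    obtain ⟨d, hd⟩ := hex
    have hφd : φ (decompose 𝒬 p₀ d : P) ≠ 0 := by
      intro h
      apply hd
      apply hP.injective
      rw [h, map_zero]
    have hmem0 : φ (decompose 𝒬 p₀ d : P) ∈
        (GrSeg.segrePiece k ℳ 𝒩 d : Set (TensorProduct k M N)) := by
      rw [← hP.image_piece]
      exact ⟨_, (decompose 𝒬 p₀ d).2, rfl⟩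
    have hex2 : ∃ a ∈ ℳ d, ∃ b ∈ 𝒩 d, a ⊗ₜ[k] b ≠ (0 : TensorProduct k M N) := by
      by_contra hcon
      apply hφd
      have hle : GrSeg.segrePiece k ℳ 𝒩 d ≤ (⊥ : Submodule k (TensorProduct k M N)) := by
        apply Submodule.span_le.mpr
        rintro _ ⟨a, ha, b, hb, rfl⟩
        rw [SetLike.mem_coe, Submodule.mem_bot]
        by_contra hab
        exact hcon ⟨a, ha, b, hb, hab⟩
      exact (Submodule.mem_bot k).mp (hle hmem0)
    obtain ⟨a, ha, b, hb, hab⟩ := hex2
    have ha0 : a ≠ 0 := by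
      rintro rfl
      exact hab (zero_tmul _ _)
    have hb0 : b ≠ 0 := by
      rintro rfl
      exact hab (tmul_zero _ _)
    have hmem : a ⊗ₜ[k] b ∈ (GrSeg.segrePiece k ℳ 𝒩 d : Set (TensorProduct k M N)) :=
      Submodule.subset_span ⟨_, ha, _, hb, rfl⟩
    rw [← hP.image_piece] at hmem
    obtain ⟨p, -, hp⟩ := hmem
    have hI' := annElt_isHomogeneous 𝒜 hposR ℳ ha
    have hJ' := annElt_isHomogeneous ℬ hposS 𝒩 hb
    have hrdim := dim_annElt_eq (natGr 𝒜) h0R' hI hMcm r hdM a ha0 hI'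
    have hsdim := dim_annElt_eq (natGr ℬ) h0S' hJ hNcm s hdN b hb0 hJ'
    have hK := quot_main (natGr 𝒜) (natGr ℬ) h0R' h0S' T ψ hrange _ hI' _ hJ' r s hrdim hsdim
      h1r h1s
    rw [← hK]
    have hle' : Module.annihilator T (Submodule.span T {p}) ≤
        RingHom.ker ((piQ (k := k) (annElt (R := R) a) (annElt (R := S) b)).comp ψ) := by
      intro t ht
      rw [Module.mem_annihilator] at ht
      have h1 : t • p = 0 := by
        have := ht ⟨p, Submodule.mem_span_singleton_self p⟩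
        exact congrArg Subtype.val this
      rw [RingHom.mem_ker]
      change piQ (k := k) _ _ (ψ t) = 0
      apply piQ_eq_zero_of_act_eq_zero
      rw [← hp, ← hP.map_smul, h1, map_zero]
    calc ringKrullDim (T ⧸ RingHom.ker ((piQ (k := k) (annElt (R := R) a)
          (annElt (R := S) b)).comp ψ))
        ≤ ringKrullDim (T ⧸ Module.annihilator T (Submodule.span T {p})) :=
          ringKrullDim_le_of_surjective (Ideal.Quotient.factor hle')
            (Ideal.Quotient.factor_surjective _)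
      _ = Module.supportDim T (Submodule.span T {p}) :=
          (Module.supportDim_eq_ringKrullDim_quotient_annihilator _ _).symm
      _ ≤ Module.supportDim T P :=
          Module.supportDim_le_of_injective (Submodule.subtype _) (Submodule.injective_subtype _)
  exact le_antisymm hupper hlower

end SecSM7


end Groth.Agent.Lib.H9SegreCM
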