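/-
The Segre product `R(a) # S(b)` of shifted polynomial rings: Cohen–Macaulayness and depth in
arithmetic form.
-/
import Mathlib
import Groth.Agent.Lib.H6xSegPolyB
import Groth.Agent.Lib.R2H7SegCM
import Groth.Agent.S19754
import Groth.Agent.Lib.Helper28PolyCM
import Groth.Agent.Lib.Helper28Unmixed

set_option autoImplicit false
open DirectSum
open scoped TensorProduct
attribute [local instance] MvPolynomial.weightedGradedAlgebra

noncomputable section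

namespace Groth.Agent.Lib.H6xSegPolyC

open Groth.Agent.Lib.R2H7.GrDer Groth.Agent.Lib.R2H7.GrTop Groth.Agent.Lib.R2H7.GrBdry
  Groth.Agent.Lib.R2H7.GrOps Groth.Agent.Lib.H6xSegPolyA Groth.Agent.Lib.Helper29GrShift
  Groth.Agent.Lib.H6xSegMod Groth.Agent.Lib.H6xSegPolyB

universe u

variable (k : Type u) [Field k] (r s : ℕ) (T : Type u) [CommRing T] [Algebra k T]
  (𝒯 : ℤ → Submodule k T) [GradedAlgebra 𝒯]
  (ψ : T →ₐ[k] TensorProduct k (MvPolynomial (Fin r) k) (MvPolynomial (Fin s) k))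
  (hT : GrSeg.IsSegreRing (sgr k r) (sgr k s) 𝒯 ψ)
  (a b : ℤ) (P : Type u) [AddCommGroup P] [Module T P] [Module k P] [IsScalarTower k T P]
  (𝒬 : ℤ → AddSubgroup P) [DirectSum.Decomposition 𝒬]
  (φ : P →ₗ[k] TensorProduct k (MvPolynomial (Fin r) k) (MvPolynomial (Fin s) k))
  (hP : GrSeg.IsSegreMod ψ (fun n : ℤ => sgr k r (n + a)) (fun n : ℤ => sgr k s (n + b)) 𝒬 φ)

include hP in
theorem isSegreMod_shM : GrSeg.IsSegreMod ψ (shM k r a) (shM k s b) 𝒬 φ :=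
  ⟨hP.injective, fun n => (hP.image_piece n).trans rfl, hP.map_smul⟩

include hP in
/-- The Segre product of shifted polynomial rings is nonzero. -/
theorem nontrivial_P (hr : 1 ≤ r) (hs : 1 ≤ s) : Nontrivial P := by
  classical
  obtain ⟨d, hda, hdb⟩ : ∃ d : ℤ, 0 ≤ d + a ∧ 0 ≤ d + b := ⟨max (-a) (-b), by omega, by omega⟩
  obtain ⟨na, hna⟩ := Int.eq_ofNat_of_zero_le hda
  obtain ⟨nb, hnb⟩ := Int.eq_ofNat_of_zero_le hdb
  set x : MvPolynomial (Fin r) k := (MvPolynomial.X (⟨0, hr⟩ : Fin r)) ^ na with hx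
  set y : MvPolynomial (Fin s) k := (MvPolynomial.X (⟨0, hs⟩ : Fin s)) ^ nb with hy
  have hxm : x ∈ sgr k r (d + a) := by
    have h1 := (MvPolynomial.isWeightedHomogeneous_X k (fun _ : Fin r => (1 : ℤ))
      (⟨0, hr⟩ : Fin r)).pow na
    have h2 : na • (1 : ℤ) = d + a := by rw [hna]; simp
    rw [h2] at h1
    exact h1
  have hym : y ∈ sgr k s (d + b) := by
    have h1 := (MvPolynomial.isWeightedHomogeneous_X k (fun _ : Fin s => (1 : ℤ))
      (⟨0, hs⟩ : Fin s)).pow nb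
    have h2 : nb • (1 : ℤ) = d + b := by rw [hnb]; simp
    rw [h2] at h1
    exact h1
  have hmem : x ⊗ₜ[k] y ∈ (GrSeg.segrePiece k (fun n : ℤ => sgr k r (n + a))
      (fun n : ℤ => sgr k s (n + b)) d : Set _) :=
    Submodule.subset_span ⟨x, hxm, y, hym, rfl⟩
  rw [← hP.image_piece d] at hmem
  obtain ⟨p, -, hp⟩ := hmem
  refine ⟨⟨p, 0, ?_⟩⟩
  intro hp0
  rw [hp0, map_zero] at hp
  have h3 := congrArg (Algebra.TensorProduct.productMap
    (MvPolynomial.aeval (fun _ : Fin r => (1 : k))) (MvPolynomial.aeval (fun _ : Fin s => (1 : k))))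
    hp
  rw [map_zero, Algebra.TensorProduct.productMap_apply_tmul, hx, hy, map_pow, map_pow,
    MvPolynomial.aeval_X, MvPolynomial.aeval_X, one_pow, one_pow, one_mul] at h3
  exact zero_ne_one h3

theorem cmRing_poly : LocCoh.IsCohenMacaulayRing (MvPolynomial (Fin r) k) := by
  haveI := Groth.Agent.Lib.Helper28.isCohenMacaulayRing_of_field k
  exact Groth.Agent.Lib.Helper28.isCohenMacaulayRing_mvPolynomial_fin r

include hT hP in
/-- The dimension of `R(a) # S(b)`. -/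
theorem supportDim_P (hr : 1 ≤ r) (hs : 1 ≤ s) :
    Module.supportDim T P = ((r + s - 1 : ℕ) : WithBot ℕ∞) := by
  haveI := nontrivial_P k r s T ψ a b P 𝒬 φ hP hr hs
  haveI := cmRing_poly k r
  haveI := cmRing_poly k s
  have hP' := isSegreMod_shM k r s T ψ a b P 𝒬 φ hP
  have hdM : Module.supportDim (MvPolynomial (Fin r) k) (MvPolynomial (Fin r) k) =
      (r : WithBot ℕ∞) := by
    rw [Module.supportDim_self_eq_ringKrullDim, dim k r]
  have hdN : Module.supportDim (MvPolynomial (Fin s) k) (MvPolynomial (Fin s) k) =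
      (s : WithBot ℕ∞) := by
    rw [Module.supportDim_self_eq_ringKrullDim, dim k s]
  rcases Groth.Agent.S19754.result k (MvPolynomial (Fin r) k) (sgr k r) (hpos k r) (h0 k r)
    (MvPolynomial (Fin s) k) (sgr k s) (hpos k s) (h0 k s) T 𝒯 ψ hT
    (MvPolynomial (Fin r) k) (shM k r a) (MvPolynomial (Fin s) k) (shM k s b) P 𝒬 φ hP' r s hr hs
    hdM hdN (fun q _ => Groth.Agent.Lib.R2H7.SegCM.cmModule_self q)
    (fun q _ => Groth.Agent.Lib.R2H7.SegCM.cmModule_self q) with h | h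
  · exact h
  · exact absurd h (not_subsingleton P)

section main

variable (mT : HomogeneousIdeal 𝒯)
  (hmT : mT.toIdeal = Ideal.span (⋃ n ∈ Set.Ioi (0 : ℤ), (𝒯 n : Set T)))

include hT hP in
/-- Cohen–Macaulay criterion for `R(a) # S(b)` in arithmetic form. -/
theorem poly_segre_cm_iff (hr : 1 ≤ r) (hs : 1 ≤ s) :
    (∀ (q : Ideal T) [q.IsPrime], Subsingleton (LocalizedModule q.primeCompl P) ∨
      LocCoh.IsCohenMacaulayModule (Localization.AtPrime q) (LocalizedModule q.primeCompl P)) ↔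
      ∀ q < r + s - 1, ∀ d : ℤ, Cpoly r s a b q d := by
  haveI := nontrivial_P k r s T ψ a b P 𝒬 φ hP hr hs
  have hP' := isSegreMod_shM k r s T ψ a b P 𝒬 φ hP
  obtain ⟨EM⟩ := Groth.Agent.Lib.R2H7.SegCM.exists_res_conv (sgr k r) (shM k r a)
  obtain ⟨EN⟩ := Groth.Agent.Lib.R2H7.SegCM.exists_res_conv (sgr k s) (shM k s b)
  have hM0 : ∀ d : ℤ, EM.Hcomp (Groth.Agent.Lib.R2H7.SegCM.irrIdeal (sgr k r)) 0 d = ⊥ := by
    intro d
    rw [hcomp_eq_bot_iff' k r a _ (Groth.Agent.Lib.R2H7.SegCM.irrIdeal_toIdeal (sgr k r)) hr EM 0 d]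
    left
    omega
  have hN0 : ∀ d : ℤ, EN.Hcomp (Groth.Agent.Lib.R2H7.SegCM.irrIdeal (sgr k s)) 0 d = ⊥ := by
    intro d
    rw [hcomp_eq_bot_iff' k s b _ (Groth.Agent.Lib.R2H7.SegCM.irrIdeal_toIdeal (sgr k s)) hs EN 0 d]
    left
    omega
  rw [segre_mod_cm_iff k (MvPolynomial (Fin r) k) (sgr k r) (hpos k r) (h0 k r)
    (MvPolynomial (Fin s) k) (sgr k s) (hpos k s) (h0 k s) T 𝒯 ψ hT
    (Groth.Agent.Lib.R2H7.SegCM.irrIdeal (sgr k r))
    (Groth.Agent.Lib.R2H7.SegCM.irrIdeal_toIdeal (sgr k r))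
    (Groth.Agent.Lib.R2H7.SegCM.irrIdeal (sgr k s))
    (Groth.Agent.Lib.R2H7.SegCM.irrIdeal_toIdeal (sgr k s))
    (MvPolynomial (Fin r) k) (shM k r a) EM (MvPolynomial (Fin s) k) (shM k s b) EN P 𝒬 φ hP'
    hM0 hN0 (r + s - 1) (supportDim_P k r s T 𝒯 ψ hT a b P 𝒬 φ hP hr hs)]
  constructor
  · intro h q hq d
    exact (kcond_iff k r a _ (Groth.Agent.Lib.R2H7.SegCM.irrIdeal_toIdeal (sgr k r)) s b _
      (Groth.Agent.Lib.R2H7.SegCM.irrIdeal_toIdeal (sgr k s)) EM EN hr hs q d).mp (h q hq d)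
  · intro h q hq d
    exact (kcond_iff k r a _ (Groth.Agent.Lib.R2H7.SegCM.irrIdeal_toIdeal (sgr k r)) s b _
      (Groth.Agent.Lib.R2H7.SegCM.irrIdeal_toIdeal (sgr k s)) EM EN hr hs q d).mpr (h q hq d)

include hT hP hmT in
/-- The depth of `R(a) # S(b)` in arithmetic form. -/
theorem poly_segre_depth_iff (hr : 1 ≤ r) (hs : 1 ≤ s) (n : ℕ) :
    LocCoh.idealDepth mT.toIdeal P = (n : ℕ∞) ↔
      (∀ q < n, ∀ d : ℤ, Cpoly r s a b q d) ∧ ∃ d : ℤ, ¬ Cpoly r s a b n d := by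
  haveI := nontrivial_P k r s T ψ a b P 𝒬 φ hP hr hs
  have hP' := isSegreMod_shM k r s T ψ a b P 𝒬 φ hP
  obtain ⟨EM⟩ := Groth.Agent.Lib.R2H7.SegCM.exists_res_conv (sgr k r) (shM k r a)
  obtain ⟨EN⟩ := Groth.Agent.Lib.R2H7.SegCM.exists_res_conv (sgr k s) (shM k s b)
  have hM0 : ∀ d : ℤ, EM.Hcomp (Groth.Agent.Lib.R2H7.SegCM.irrIdeal (sgr k r)) 0 d = ⊥ := by
    intro d
    rw [hcomp_eq_bot_iff' k r a _ (Groth.Agent.Lib.R2H7.SegCM.irrIdeal_toIdeal (sgr k r)) hr EM 0 d]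
    left
    omega
  have hN0 : ∀ d : ℤ, EN.Hcomp (Groth.Agent.Lib.R2H7.SegCM.irrIdeal (sgr k s)) 0 d = ⊥ := by
    intro d
    rw [hcomp_eq_bot_iff' k s b _ (Groth.Agent.Lib.R2H7.SegCM.irrIdeal_toIdeal (sgr k s)) hs EN 0 d]
    left
    omega
  rw [segre_mod_depth_iff k (MvPolynomial (Fin r) k) (sgr k r) (hpos k r) (h0 k r)
    (MvPolynomial (Fin s) k) (sgr k s) (hpos k s) (h0 k s) T 𝒯 ψ hT
    (Groth.Agent.Lib.R2H7.SegCM.irrIdeal (sgr k r))
    (Groth.Agent.Lib.R2H7.SegCM.irrIdeal_toIdeal (sgr k r))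
    (Groth.Agent.Lib.R2H7.SegCM.irrIdeal (sgr k s))
    (Groth.Agent.Lib.R2H7.SegCM.irrIdeal_toIdeal (sgr k s))
    (MvPolynomial (Fin r) k) (shM k r a) EM (MvPolynomial (Fin s) k) (shM k s b) EN P 𝒬 φ hP'
    hM0 hN0 mT hmT n]
  have key : ∀ q d, KCond (Groth.Agent.Lib.R2H7.SegCM.irrIdeal (sgr k r))
      (Groth.Agent.Lib.R2H7.SegCM.irrIdeal (sgr k s)) EM EN q d ↔ Cpoly r s a b q d := fun q d =>
    kcond_iff k r a _ (Groth.Agent.Lib.R2H7.SegCM.irrIdeal_toIdeal (sgr k r)) s b _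
      (Groth.Agent.Lib.R2H7.SegCM.irrIdeal_toIdeal (sgr k s)) EM EN hr hs q d
  constructor
  · rintro ⟨h1, d, h2⟩
    exact ⟨fun q hq d => (key q d).mp (h1 q hq d), d, fun h => h2 ((key n d).mpr h)⟩
  · rintro ⟨h1, d, h2⟩
    exact ⟨fun q hq d => (key q d).mpr (h1 q hq d), d, fun h => h2 ((key n d).mp h)⟩

end main

end Groth.Agent.Lib.H6xSegPolyC
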