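import Groth.Prelude.Def_W4c1hilbchowincPtFun
import Groth.Prelude.Def_HTop2
import Mathlib

set_option autoImplicit false
universe u

open CategoryTheory AlgebraicGeometry W4c1hilbchowinc

namespace Groth.Agent.Lib.H6xSeminormalConv

/-- In a field, `r^2 = u` and `r^3 = v` force `r = v / u` (with the convention `v / 0 = 0`). -/
lemma field_eq_div {F : Type*} [Field F] {r u v : F} (h2 : u = r ^ 2) (h3 : v = r ^ 3) :
    r = v / u := by
  subst h2 h3
  by_cases hr : r = 0
  · subst hr; simp
  · field_simp

/-- In an integrally closed domain, `x^3 = y^2` has a solution `x = r^2`, `y = r^3`. -/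
lemma exists_sq_cube {R : Type*} [CommRing R] [IsDomain R] [IsIntegrallyClosed R]
    {x y : R} (h : x ^ 3 = y ^ 2) : ∃ r : R, x = r ^ 2 ∧ y = r ^ 3 := by
  by_cases hx : x = 0
  · subst hx
    have : y = 0 := by
      have : y ^ 2 = 0 := by rw [← h]; ring
      exact pow_eq_zero_iff (two_ne_zero) |>.mp this
    exact ⟨0, by simp, by simp [this]⟩
  · let K := FractionRing R
    have hxK : algebraMap R K x ≠ 0 := by
      simpa using (IsFractionRing.injective R K).ne hx
    set q : K := algebraMap R K y / algebraMap R K x with hq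
    have hq2 : q ^ 2 = algebraMap R K x := by
      rw [hq, div_pow, ← map_pow, ← h, map_pow, div_eq_iff (pow_ne_zero 2 hxK)]
      ring
    have hint : IsIntegral R q := by
      refine ⟨Polynomial.X ^ 2 - Polynomial.C x, ?_, ?_⟩
      · exact Polynomial.monic_X_pow_sub_C x (two_ne_zero)
      · simp [hq2]
    obtain ⟨r, hr⟩ := IsIntegrallyClosed.isIntegral_iff.mp hint
    refine ⟨r, ?_, ?_⟩
    · apply IsFractionRing.injective R K
      rw [map_pow, hr, hq2]
    · apply IsFractionRing.injective R K
      rw [map_pow, hr, pow_succ, hq2, hq, mul_div_cancel₀ _ hxK]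

theorem main (A : Type u) [CommRing A] [IsReduced A]
    (h : ∀ f : PtFun (Spec (CommRingCat.of A)), f.VariesAlongDVR →
      ∃! a : Γ(Spec (CommRingCat.of A), ⊤), PtFun.ofSection (Spec (CommRingCat.of A)) a = f) :
    HTop.IsSeminormalRing A := by
  intro x y hxy
  let X : Scheme.{u} := Spec (CommRingCat.of A)
  let e : A ≃+* Γ(X, ⊤) := (Scheme.ΓSpecIso (CommRingCat.of A)).commRingCatIsoToRingEquiv.symm
  let f : PtFun X := fun p => X.Γevaluation p (e y) / X.Γevaluation p (e x)
  have hf : f.VariesAlongDVR := by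
    intro R _ _ _ g
    let Y : Scheme.{u} := Spec (CommRingCat.of R)
    let eR : R ≃+* Γ(Y, ⊤) := (Scheme.ΓSpecIso (CommRingCat.of R)).commRingCatIsoToRingEquiv.symm
    have h32 : (eR.symm (g.appTop (e x))) ^ 3 = (eR.symm (g.appTop (e y))) ^ 2 := by
      rw [← map_pow, ← map_pow, ← map_pow, ← map_pow, ← map_pow, ← map_pow, hxy]
    obtain ⟨r, hr2, hr3⟩ := exists_sq_cube h32
    refine ⟨eR r, ?_⟩
    funext q
    show Y.Γevaluation q (eR r) = g.residueFieldMap q (f (g q))
    simp only [f]
    rw [map_div₀, Scheme.Γevaluation_naturality_apply, Scheme.Γevaluation_naturality_apply]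
    apply field_eq_div
    · rw [← map_pow, ← map_pow, ← hr2, RingEquiv.apply_symm_apply]
    · rw [← map_pow, ← map_pow, ← hr3, RingEquiv.apply_symm_apply]
  obtain ⟨a, ha, hau⟩ := h f hf
  have hval : ∀ p : X, X.Γevaluation p a = X.Γevaluation p (e y) / X.Γevaluation p (e x) :=
    fun p => congrFun ha p
  haveI : IsReduced X := inferInstanceAs (IsReduced (Spec (CommRingCat.of A)))
  have hzero : ∀ s : Γ(X, ⊤), (∀ p : X, X.Γevaluation p s = 0) → s = 0 := by
    intro s hs
    rw [← AlgebraicGeometry.basicOpen_eq_bot_iff, Scheme.basicOpen_eq_bot_iff_forall_evaluation_eq_zero]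
    rintro ⟨p, hp⟩
    exact hs p
  have hE : e x ^ 3 = e y ^ 2 := by rw [← map_pow, ← map_pow, hxy]
  have hfld : ∀ {F : Type u} [Field F] (u v : F), u ^ 3 = v ^ 2 →
      u = (v / u) ^ 2 ∧ v = (v / u) ^ 3 := by
    intro F _ u v huv
    by_cases hu : u = 0
    · subst hu
      have : v = 0 := by
        have : v ^ 2 = 0 := by rw [← huv]; ring
        exact pow_eq_zero_iff (two_ne_zero) |>.mp this
      simp [this]
    · constructor
      · rw [div_pow, ← huv, eq_div_iff (pow_ne_zero 2 hu)]; ring
      · rw [div_pow, eq_div_iff (pow_ne_zero 3 hu)]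
        calc v * u ^ 3 = v * v ^ 2 := by rw [huv]
          _ = v ^ 3 := by ring
  have h2 : e x = a ^ 2 := by
    rw [← sub_eq_zero]
    apply hzero
    intro p
    rw [map_sub, map_pow, hval p, sub_eq_zero]
    exact (hfld _ _ (by rw [← map_pow, hE, map_pow])).1
  have h3 : e y = a ^ 3 := by
    rw [← sub_eq_zero]
    apply hzero
    intro p
    rw [map_sub, map_pow, hval p, sub_eq_zero]
    exact (hfld _ _ (by rw [← map_pow, hE, map_pow])).2
  refine ⟨e.symm a, ⟨?_, ?_⟩, ?_⟩
  · apply e.injective; rw [map_pow, e.apply_symm_apply, h2]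
  · apply e.injective; rw [map_pow, e.apply_symm_apply, h3]
  · rintro b ⟨hb2, hb3⟩
    have : e b = a := by
      apply hau
      funext p
      show X.Γevaluation p (e b) = f p
      simp only [f]
      apply field_eq_div
      · rw [← map_pow, ← map_pow, ← hb2]
      · rw [← map_pow, ← map_pow, ← hb3]
    rw [← this, e.symm_apply_apply]

end Groth.Agent.Lib.H6xSeminormalConv
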