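import Mathlib
import Groth.Agent.Lib.H6xShkM
import Groth.Agent.Lib.H6xGorA
import Groth.Agent.Lib.H6xLocE
import Groth.Agent.S1782
set_option backward.isDefEq.respectTransparency.types false

/-!
# Normalized dualizing complexes and the upper shriek (helper6)

For `R` local Noetherian with normalized dualizing complex `ω`, `R → A` of finite type and `m` a
maximal ideal of `A` over the maximal ideal of `R`: `Ext^i_A(A/m, φ^!(ω)) = 0` for `i ≠ 0`
(`subsingleton_hom_quot_shriekVia`), and `φ^!(ω)_m` is a normalized dualizing complex (S1789).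
-/

set_option autoImplicit false
set_option linter.style.haveILetI false
universe u

namespace Groth.Agent.Lib.H6xShk

open CategoryTheory CategoryTheory.Limits DerivedCategory TensorProduct
open Groth.Agent.Lib.Helper1.Extend Groth.Agent.Lib.H6xFBC
attribute [local instance] HasDerivedCategory.standard

section Res

/-- maps out of a finite dimensional vector space over the residue field vanish if those out of the
residue field do -/
lemma subsingleton_hom_of_finite_residue (R : Type u) [CommRing R] [IsLocalRing R] (V : Type u)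
    [AddCommGroup V] [Module R V] [Module (IsLocalRing.ResidueField R) V]
    [IsScalarTower R (IsLocalRing.ResidueField R) V]
    [Module.Finite (IsLocalRing.ResidueField R) V] (Y : Dual.D R)
    (h : Subsingleton (Dual.inD R (IsLocalRing.ResidueField R) ⟶ Y)) :
    Subsingleton (Dual.inD R V ⟶ Y) := by
  classical
  let k := IsLocalRing.ResidueField R
  let b := Module.finBasis k V
  let ι : Fin (Module.finrank k V) → (ModuleCat.of R k ⟶ ModuleCat.of R V) := fun j =>
    ModuleCat.ofHom ((LinearMap.toSpanSingleton k V (b j)).restrictScalars R)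
  let p : Fin (Module.finrank k V) → (ModuleCat.of R V ⟶ ModuleCat.of R k) := fun j =>
    ModuleCat.ofHom ((b.coord j).restrictScalars R)
  have hid : 𝟙 (ModuleCat.of R V) = ∑ j, p j ≫ ι j := by
    apply ModuleCat.hom_ext
    apply LinearMap.ext
    intro v
    rw [ModuleCat.hom_sum]
    change v = (∑ j, (p j ≫ ι j).hom) v
    rw [LinearMap.sum_apply]
    change v = ∑ j, (b.repr v j) • b j
    exact (b.sum_repr v).symm
  refine ⟨fun f g => ?_⟩
  suffices H : ∀ f : Dual.inD R V ⟶ Y, f = 0 by rw [H f, H g]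
  intro f
  have h1 : f = (DerivedCategory.singleFunctor (ModuleCat.{u} R) 0).map (𝟙 (ModuleCat.of R V)) ≫ f := by
    rw [CategoryTheory.Functor.map_id, Category.id_comp]
  rw [h1, hid, Functor.map_sum, Preadditive.sum_comp]
  apply Finset.sum_eq_zero
  intro j _
  rw [Functor.map_comp, Category.assoc]
  have h2 : (DerivedCategory.singleFunctor (ModuleCat.{u} R) 0).map (ι j) ≫ f = 0 :=
    Subsingleton.elim _ _
  rw [h2, Limits.comp_zero]

end Res

section Norm

open MvPolynomial Groth.Agent.Lib.H6xCoext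

/-- `Ext^i_A(A/m, φ^!(ω)) = 0` for `i ≠ 0`, `ω` normalized, `m` maximal over the maximal ideal -/
theorem subsingleton_hom_quot_shriekVia (R A : Type u) [CommRing R] [CommRing A]
    [IsNoetherianRing R] [Algebra R A] (n : ℕ) (ψ : MvPolynomial (Fin n) R →ₐ[R] A)
    (hψ : Function.Surjective ψ) [DRing.HasLBaseChange (algebraMap R (MvPolynomial (Fin n) R))]
    (Rψ : Dual.D (MvPolynomial (Fin n) R) ⥤ Dual.D A) (adj : DRing.restrictD ψ.toRingHom ⊣ Rψ)
    [IsLocalRing R] (m : Ideal A) [hmax : m.IsMaximal]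
    (hm : m.comap (algebraMap R A) = IsLocalRing.maximalIdeal R) (ω : Dual.D R)
    (hn : Dual.IsNormalized R ω) (i : ℤ) (hi : i ≠ 0) :
    Subsingleton (Dual.inD A (A ⧸ m) ⟶ (Dual2.shriekVia n Rψ ω)⟦i⟧) := by
  letI : Field (A ⧸ m) := Ideal.Quotient.field m
  -- the residue field extension is finite
  have hle : IsLocalRing.maximalIdeal R ≤ m.comap (algebraMap R A) := hm.ge
  letI iKK : Algebra (IsLocalRing.ResidueField R) (A ⧸ m) :=
    (Ideal.quotientMap m (algebraMap R A) hle).toAlgebra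
  haveI tRKK : IsScalarTower R (IsLocalRing.ResidueField R) (A ⧸ m) :=
    IsScalarTower.of_algebraMap_eq (fun r => rfl)
  haveI : Algebra.FiniteType R A := Algebra.FiniteType.of_surjective ψ hψ
  haveI : Algebra.FiniteType R (A ⧸ m) :=
    Algebra.FiniteType.of_surjective (Ideal.Quotient.mkₐ R m) (Ideal.Quotient.mkₐ_surjective R m)
  haveI : Algebra.FiniteType (IsLocalRing.ResidueField R) (A ⧸ m) :=
    Algebra.FiniteType.of_restrictScalars_finiteType R _ _
  haveI : Module.Finite (IsLocalRing.ResidueField R) (A ⧸ m) :=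
    finite_of_finite_type_of_isJacobsonRing _ _
  haveI : Module.Finite R (A ⧸ m) := Module.Finite.trans (IsLocalRing.ResidueField R) (A ⧸ m)
  -- right adjoints
  let π : A →ₐ[R] (A ⧸ m) := Ideal.Quotient.mkₐ R m
  let θ : MvPolynomial (Fin n) R →ₐ[R] (A ⧸ m) := π.comp ψ
  obtain ⟨Rπ, ⟨adjπ⟩⟩ := exists_rightAdjoint π.toRingHom
  obtain ⟨Rθ, ⟨adjθ⟩⟩ := exists_rightAdjoint θ.toRingHom
  obtain ⟨R', ⟨adjR'⟩⟩ := exists_rightAdjoint (algebraMap R (A ⧸ m))
  obtain ⟨e1⟩ := nonempty_rightAdjoint_comp_iso ψ.toRingHom π.toRingHom θ.toRingHom rfl Rψ adj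
    Rπ adjπ Rθ adjθ
  obtain ⟨e2⟩ := finiteCase R (A ⧸ m) (fun a => Algebra.IsIntegral.isIntegral a) R' adjR' ω n θ
    Rθ adjθ
  obtain ⟨a⟩ := Groth.Agent.Lib.H6xPCDesc.nonempty_lbc_iso_extD
    (A := R) (B := MvPolynomial (Fin n) R) ω
  -- `Rπ (φ^! ω [i]) ≅ R' (ω[i])`
  let E := (extD R (MvPolynomial (Fin n) R)).obj ω
  let w1 : Rπ.obj (Dual2.shriekVia n Rψ ω) ≅ R'.obj ω :=
    Rπ.mapIso ((shiftFunctor (Dual.D A) (n : ℤ)).mapIso (Rψ.mapIso a)) ≪≫
      rightAdjointShiftIso π.toRingHom Rπ adjπ (Rψ.obj E) (n : ℤ) ≪≫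
      (shiftFunctor (Dual.D (A ⧸ m)) (n : ℤ)).mapIso ((e1.app E).symm ≪≫ e2) ≪≫
      (shiftFunctorCompIsoId (Dual.D (A ⧸ m)) (-(n : ℤ)) (n : ℤ) (by ring)).app _
  let w2 : Rπ.obj ((Dual2.shriekVia n Rψ ω)⟦i⟧) ≅ R'.obj (ω⟦i⟧) :=
    rightAdjointShiftIso π.toRingHom Rπ adjπ _ i ≪≫
      (shiftFunctor (Dual.D (A ⧸ m)) i).mapIso w1 ≪≫
      (rightAdjointShiftIso (algebraMap R (A ⧸ m)) R' adjR' ω i).symm
  -- the chain of bijections
  have h0 : Subsingleton (Dual.inD R (A ⧸ m) ⟶ ω⟦i⟧) :=
    subsingleton_hom_of_finite_residue R (A ⧸ m) (ω⟦i⟧) (hn i hi)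
  let eq1 : (Dual.inD A (A ⧸ m) ⟶ (Dual2.shriekVia n Rψ ω)⟦i⟧) ≃
      (Dual.inD R (A ⧸ m) ⟶ ω⟦i⟧) :=
    ((singleIso (A := A) (B := A ⧸ m)).homFromEquiv).symm.trans
      ((adjπ.homEquiv _ _).trans ((w2.homToEquiv).trans
        ((adjR'.homEquiv _ _).symm.trans ((singleIso (A := R) (B := A ⧸ m)).homFromEquiv))))
  exact eq1.subsingleton

/-- **S1789**: the localization at `m` of `φ^!(ω)` is a normalized dualizing complex -/
theorem isNormalized_shriekVia_localization (R A : Type u) [CommRing R] [CommRing A]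
    [IsNoetherianRing R] [IsNoetherianRing A] [Algebra R A] (n : ℕ)
    (ψ : MvPolynomial (Fin n) R →ₐ[R] A) (hψ : Function.Surjective ψ)
    [DRing.HasLBaseChange (algebraMap R (MvPolynomial (Fin n) R))]
    (Rψ : Dual.D (MvPolynomial (Fin n) R) ⥤ Dual.D A) (adj : DRing.restrictD ψ.toRingHom ⊣ Rψ)
    [IsLocalRing R] (m : Ideal A) [hmax : m.IsMaximal]
    (hm : m.comap (algebraMap R A) = IsLocalRing.maximalIdeal R) (ω : Dual.D R)
    (hω : Dual.IsDualizing R ω) (hn : Dual.IsNormalized R ω)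
    [DRing.HasLBaseChange (algebraMap A (Localization.AtPrime m))] :
    Dual.IsDualizing (Localization.AtPrime m)
        ((DRing.LBaseChange (algebraMap A (Localization.AtPrime m))).obj
          (Dual2.shriekVia n Rψ ω)) ∧
      Dual.IsNormalized (Localization.AtPrime m)
        ((DRing.LBaseChange (algebraMap A (Localization.AtPrime m))).obj
          (Dual2.shriekVia n Rψ ω)) := by
  have hW : Dual.IsDualizing A (Dual2.shriekVia n Rψ ω) :=
    Groth.Agent.S1782.result R A n ψ hψ Rψ adj ω hω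
  refine ⟨Groth.Agent.Lib.H6xLoc.isDualizing_LBaseChange_localization m.primeCompl _ hW, ?_⟩
  intro i hi
  obtain ⟨e⟩ := Groth.Agent.Lib.H6xPCDesc.nonempty_lbc_iso_extD
    (A := A) (B := Localization.AtPrime m) (Dual2.shriekVia n Rψ ω)
  set W := Dual2.shriekVia n Rψ ω with hWdef
  haveI h0 : Subsingleton (Dual.inD A (A ⧸ m) ⟶ W⟦i⟧) :=
    subsingleton_hom_quot_shriekVia R A n ψ hψ Rψ adj m hm ω hn i hi
  have hX : DRing.IsPseudoCoherent' A (Dual.inD A (A ⧸ m)) :=
    (Groth.Agent.S6942.result A 0 W (A ⧸ m)).2.2 inferInstance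
  have hBC := isBC_extDMapSL (B := Localization.AtPrime m) (Dual.inD A (A ⧸ m)) (W⟦i⟧) hX
    (Groth.Agent.Lib.H6xLoc.boundedBelow_shift W hW i)
  haveI hT : Subsingleton ((extD A (Localization.AtPrime m)).obj (Dual.inD A (A ⧸ m)) ⟶
      (extD A (Localization.AtPrime m)).obj (W⟦i⟧)) := hBC.subsingleton
  -- identify source and target
  let c : (extD A (Localization.AtPrime m)).obj (W⟦i⟧) ≅
      ((DRing.LBaseChange (algebraMap A (Localization.AtPrime m))).obj W)⟦i⟧ :=
    ((extD A (Localization.AtPrime m)).commShiftIso i).app W ≪≫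
      (shiftFunctor (Dual.D (Localization.AtPrime m)) i).mapIso e.symm
  have hmax' : m.map (algebraMap A (Localization.AtPrime m)) =
      IsLocalRing.maximalIdeal (Localization.AtPrime m) :=
    Localization.AtPrime.map_eq_maximalIdeal
  let ε : (extD A (Localization.AtPrime m)).obj (Dual.inD A (A ⧸ m)) ≅
      Dual.inD (Localization.AtPrime m) (IsLocalRing.ResidueField (Localization.AtPrime m)) :=
    extDInDIso (A := A) (B := Localization.AtPrime m) (A ⧸ m) ≪≫
      (DerivedCategory.singleFunctor (ModuleCat.{u} (Localization.AtPrime m)) 0).mapIso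
        (Groth.Agent.Lib.H6xFBC.tensorQuotEquiv m
          (IsLocalRing.maximalIdeal (Localization.AtPrime m)) hmax').toModuleIso
  exact ((ε.homFromEquiv).symm.trans (c.homToEquiv).symm).subsingleton

end Norm

end Groth.Agent.Lib.H6xShk
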