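import Mathlib
import Groth.Agent.Lib.H6xShkN
set_option backward.isDefEq.respectTransparency.types false

/-!
# The upper shriek of a flat epimorphism (helper6)

`flatEpi_shriek`: for a flat epimorphism `B' → B` (e.g. an open immersion of affine schemes)
presented as `χ : B'[z_1..z_m] ↠ B`, any right adjoint `Rχ` of restriction along `χ` satisfies
`Rχ(L ⊗ B'[z]) ≅ (L ⊗_{B'} B)[-m]` on bounded below `L`.
-/

set_option autoImplicit false
set_option linter.style.haveILetI false
universe u

namespace Groth.Agent.Lib.H6xShk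

open CategoryTheory CategoryTheory.Limits DerivedCategory TensorProduct MvPolynomial
open Groth.Agent.Lib.Helper1.Extend Groth.Agent.Lib.H6xFBC
attribute [local instance] HasDerivedCategory.standard

section OI

/-- extension of scalars along the identity -/
noncomputable def extDSelfIso (B : Type u) [CommRing B] : extD B B ≅ 𝟭 (Dual.D B) :=
  mapDerivedCategoryIsoId (ext B B) (ModuleCat.extendScalarsId.{u} B)

/-- an epimorphic algebra is its own pushout -/
lemma isPushout_of_isEpi (R S : Type u) [CommRing R] [CommRing S] [Algebra R S]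
    [Algebra.IsEpi R S] : Algebra.IsPushout R S S S :=
  ⟨IsBaseChange.of_equiv (TensorProduct.lid' R S S) (fun x => by
    rw [TensorProduct.lid'_apply_tmul, one_smul]
    rfl)⟩

attribute [local instance] MvPolynomial.algebraMvPolynomial

/-- **the upper shriek of a flat epimorphism** (e.g. an open immersion of affine schemes), on
bounded below complexes: `RHom_{B'[z]}(B, L ⊗ B'[z]) ≅ (L ⊗_{B'} B)[-m]` -/
theorem flatEpi_shriek (B' B : Type u) [CommRing B'] [CommRing B] [IsNoetherianRing B']
    [Algebra B' B] [Module.Flat B' B] [Algebra.IsEpi B' B] (m : ℕ)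
    (χ : MvPolynomial (Fin m) B' →ₐ[B'] B) (hχ : Function.Surjective χ)
    (Rχ : Dual.D (MvPolynomial (Fin m) B') ⥤ Dual.D B)
    (adjχ : DRing.restrictD χ.toRingHom ⊣ Rχ) (L : Dual.D B') (c : ℤ)
    (hL : ∀ i : ℤ, i < c → Subsingleton (Dual.HD B' L i)) :
    Nonempty (Rχ.obj ((extD B' (MvPolynomial (Fin m) B')).obj L) ≅
      ((extD B' B).obj L)⟦-(m : ℤ)⟧) := by
  haveI fPP' : Module.Flat (MvPolynomial (Fin m) B') (MvPolynomial (Fin m) B) :=
    Module.Flat.isBaseChange (R := B') (M := B) (S := MvPolynomial (Fin m) B')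
      (MvPolynomial (Fin m) B)
      (Algebra.IsPushout.out (R := B') (S := MvPolynomial (Fin m) B') (R' := B)
        (S' := MvPolynomial (Fin m) B))
  haveI fB'P' : Module.Flat B' (MvPolynomial (Fin m) B) :=
    Module.Flat.trans B' B (MvPolynomial (Fin m) B)
  -- the retraction `σ : B[z] → B`
  let σ : MvPolynomial (Fin m) B →ₐ[B] B := aeval (fun j => χ (X j))
  letI iPB : Algebra (MvPolynomial (Fin m) B') B := χ.toRingHom.toAlgebra
  haveI tB'PB : IsScalarTower B' (MvPolynomial (Fin m) B') B :=
    IsScalarTower.of_algebraMap_eq' χ.comp_algebraMap.symm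
  letI iP'B : Algebra (MvPolynomial (Fin m) B) B := σ.toRingHom.toAlgebra
  haveI tBP'B : IsScalarTower B (MvPolynomial (Fin m) B) B :=
    IsScalarTower.of_algebraMap_eq' σ.comp_algebraMap.symm
  have hsq : χ.toRingHom = σ.toRingHom.comp (MvPolynomial.map (algebraMap B' B)) := by
    apply MvPolynomial.ringHom_ext
    · intro b
      change χ (C b) = σ (MvPolynomial.map (algebraMap B' B) (C b))
      rw [MvPolynomial.map_C]
      have h1 : χ (C b) = algebraMap B' B b := χ.commutes b
      have h2 : σ (C (algebraMap B' B b)) = algebraMap B B (algebraMap B' B b) := σ.commutes _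
      rw [h1, h2]
      rfl
    · intro j
      change χ (X j) = σ (MvPolynomial.map (algebraMap B' B) (X j))
      rw [MvPolynomial.map_X]
      exact (aeval_X (R := B) (fun j => χ (X j)) j).symm
  haveI tPP'B : IsScalarTower (MvPolynomial (Fin m) B') (MvPolynomial (Fin m) B) B :=
    IsScalarTower.of_algebraMap_eq' hsq
  haveI tB'P'B : IsScalarTower B' (MvPolynomial (Fin m) B) B :=
    IsScalarTower.of_algebraMap_eq (fun r => by
      change algebraMap B' B r = σ (algebraMap B' (MvPolynomial (Fin m) B) r)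
      rw [IsScalarTower.algebraMap_apply B' B (MvPolynomial (Fin m) B) r]
      exact (σ.commutes _).symm)
  haveI hpo0 : Algebra.IsPushout B' B B B := isPushout_of_isEpi B' B
  haveI t1 : IsScalarTower (MvPolynomial (Fin m) B') B B := IsScalarTower.right
  haveI t2 : IsScalarTower B' B B := IsScalarTower.right
  haveI t3 : Algebra.IsPushout B' (MvPolynomial (Fin m) B') B (MvPolynomial (Fin m) B) :=
    inferInstance
  have hpo : Algebra.IsPushout (MvPolynomial (Fin m) B') B (MvPolynomial (Fin m) B) B := by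
    have := (Algebra.IsPushout.comp_iff (T := B) (T' := B) B' (MvPolynomial (Fin m) B') B
      (MvPolynomial (Fin m) B))
    exact this.1 hpo0
  haveI hpo' : Algebra.IsPushout (MvPolynomial (Fin m) B') (MvPolynomial (Fin m) B) B B :=
    hpo.symm
  haveI : Module.Finite (MvPolynomial (Fin m) B') B :=
    Module.Finite.of_surjective (Algebra.linearMap (MvPolynomial (Fin m) B') B) hχ
  have hB : DRing.IsPseudoCoherentModule' (MvPolynomial (Fin m) B') B :=
    (Groth.Agent.S6942.result (MvPolynomial (Fin m) B') 0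
      ((extD B' (MvPolynomial (Fin m) B')).obj L) B).2.2 inferInstance
  obtain ⟨Rσ, ⟨adjσ⟩⟩ := Groth.Agent.Lib.H6xCoext.exists_rightAdjoint σ.toRingHom
  -- C3
  obtain ⟨e4⟩ := nonempty_extD_rightAdjoint_iso (MvPolynomial (Fin m) B')
    (MvPolynomial (Fin m) B) B B Rχ adjχ Rσ adjσ
    ((extD B' (MvPolynomial (Fin m) B')).obj L) hB ⟨c, subsingleton_HD_extD L c hL⟩
  obtain ⟨e5⟩ := Groth.Agent.Lib.H6xGor.nonempty_extD_comp_iso B' (MvPolynomial (Fin m) B')
    (MvPolynomial (Fin m) B) L
  obtain ⟨e6⟩ := Groth.Agent.Lib.H6xGor.nonempty_extD_comp_iso B' B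
    (MvPolynomial (Fin m) B) L
  have hX : Function.Bijective
      (aeval (X : Fin m → MvPolynomial (Fin m) B) :
        MvPolynomial (Fin m) B →ₐ[B] MvPolynomial (Fin m) B) := by
    rw [MvPolynomial.aeval_X_left]
    exact Function.bijective_id
  obtain ⟨e7⟩ := keyLemma B m (MvPolynomial (Fin m) B) σ X hX Rσ adjσ ((extD B' B).obj L)
  exact ⟨((extDSelfIso B).app _).symm ≪≫ e4 ≪≫ Rσ.mapIso (e5 ≪≫ e6.symm) ≪≫ e7⟩

end OI

end Groth.Agent.Lib.H6xShk
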