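import Mathlib
import Groth.Agent.Lib.H6xShkO
set_option backward.isDefEq.respectTransparency.types false

/-!
# `H^0` of the upper shriek of a quasi-finite map `A → B' → B` (helper6)

* `omegaLinearEquiv`: `Hom_{D(B')}(B', RHom_A(B', A)) ≃ Hom_A(B', A)`, `B'`-linearly (for any right
  adjoint of restriction of scalars);
* `nonempty_HD_zero_rightAdjoint_linearEquiv_omega`: `H^0(RHom_A(B', A)) ≃ Hom_A(B', A)`;
* `HD_zero_shriekVia_omega` (S8953): `H^0(φ^! A) ≃ B ⊗_{B'} Hom_A(B', A)` for `A → B'` finite and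
  `Spec B → Spec B'` an open immersion.
-/

set_option autoImplicit false
set_option linter.style.haveILetI false
universe u

namespace Groth.Agent.Lib.H6xShk

open CategoryTheory CategoryTheory.Limits DerivedCategory TensorProduct MvPolynomial
open Groth.Agent.Lib.Helper1.Extend Groth.Agent.Lib.H6xFBC Groth.Agent.Lib.H6xCoext
attribute [local instance] HasDerivedCategory.standard

section Omega

variable {A B' : Type u} [CommRing A] [CommRing B'] [Algebra A B']

/-- multiplication by `b` on `B'[0]` over `A` -/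
noncomputable def mulSingle (b : B') : Dual.inD A B' ⟶ Dual.inD A B' :=
  (DerivedCategory.singleFunctor (ModuleCat.{u} A) 0).map
    (ModuleCat.ofHom (LinearMap.mulLeft A b))

lemma restrictSelf_smul (b : B') :
    (ModuleCat.restrictScalars.{u} (algebraMap A B')).map (b • 𝟙 (ModuleCat.of B' B')) ≫
      (restrictSelfIso (A := A) (B := B')).hom =
    (restrictSelfIso (A := A) (B := B')).hom ≫ ModuleCat.ofHom (LinearMap.mulLeft A b) := by
  apply ModuleCat.hom_ext
  apply LinearMap.ext
  intro x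
  rfl

lemma singleIso_inv_restrictD_smul (b : B') :
    (singleIso (A := A) (B := B')).inv ≫
        (DRing.restrictD (algebraMap A B')).map (b • 𝟙 (Dual.inD B' B')) =
      mulSingle b ≫ (singleIso (A := A) (B := B')).inv := by
  have h0 : b • 𝟙 (Dual.inD B' B') =
      (DerivedCategory.singleFunctor (ModuleCat.{u} B') 0).map (b • 𝟙 (ModuleCat.of B' B')) := by
    rw [Functor.map_smul, CategoryTheory.Functor.map_id]
  rw [Iso.inv_comp_eq, ← Category.assoc, Iso.eq_comp_inv, h0]
  unfold singleIso mulSingle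
  have hnat := ((ModuleCat.restrictScalars.{u} (algebraMap A B')).mapDerivedCategorySingleFunctor
    0).hom.naturality (b • 𝟙 (ModuleCat.of B' B'))
  simp only [Functor.comp_map] at hnat
  simp only [Iso.trans_hom, Iso.app_hom, Functor.mapIso_hom, Category.assoc]
  rw [← Category.assoc, hnat, Category.assoc, ← Functor.map_comp, ← Functor.map_comp,
    restrictSelf_smul]

/-- the `A`-linear map attached to `B'[0] ⟶ A[0]` -/
noncomputable def preO (h : Dual.inD A B' ⟶ Dual.inD A A) : B' →ₗ[A] A :=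
  ((DerivedCategory.singleFunctor (ModuleCat.{u} A) 0).preimage h).hom

lemma map_preO (h : Dual.inD A B' ⟶ Dual.inD A A) :
    (DerivedCategory.singleFunctor (ModuleCat.{u} A) 0).map
      (ModuleCat.ofHom (X := ModuleCat.of A B') (Y := ModuleCat.of A A) (preO h)) = h := by
  unfold preO
  rw [ModuleCat.ofHom_hom, Functor.map_preimage]

lemma preO_map (φ : B' →ₗ[A] A) :
    preO ((DerivedCategory.singleFunctor (ModuleCat.{u} A) 0).map
      (ModuleCat.ofHom (X := ModuleCat.of A B') (Y := ModuleCat.of A A) φ)) = φ := by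
  unfold preO
  rw [Functor.preimage_map]
  rfl

lemma preO_injective : Function.Injective (preO (A := A) (B' := B')) := by
  intro h h' hh
  rw [← map_preO h, ← map_preO h', hh]

lemma preO_add (h h' : Dual.inD A B' ⟶ Dual.inD A A) : preO (h + h') = preO h + preO h' := by
  have h1 : (DerivedCategory.singleFunctor (ModuleCat.{u} A) 0).map
      (ModuleCat.ofHom (X := ModuleCat.of A B') (Y := ModuleCat.of A A) (preO h + preO h')) =
      h + h' := by
    rw [ModuleCat.ofHom_add, Functor.map_add, map_preO, map_preO]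
  rw [← h1, preO_map]

lemma preO_mulSingle_comp (b : B') (h : Dual.inD A B' ⟶ Dual.inD A A) :
    preO (mulSingle b ≫ h) = preO h ∘ₗ LinearMap.mulLeft A b := by
  have h1 : (DerivedCategory.singleFunctor (ModuleCat.{u} A) 0).map
      (ModuleCat.ofHom (X := ModuleCat.of A B') (Y := ModuleCat.of A A)
        (preO h ∘ₗ LinearMap.mulLeft A b)) = mulSingle b ≫ h := by
    have h2 : ModuleCat.ofHom (X := ModuleCat.of A B') (Y := ModuleCat.of A A)
        (preO h ∘ₗ LinearMap.mulLeft A b) =
        ModuleCat.ofHom (X := ModuleCat.of A B') (Y := ModuleCat.of A B')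
          (LinearMap.mulLeft A b) ≫
        ModuleCat.ofHom (X := ModuleCat.of A B') (Y := ModuleCat.of A A) (preO h) := rfl
    rw [h2, Functor.map_comp, map_preO]
    rfl
  rw [← h1, preO_map]

variable (R' : Dual.D A ⥤ Dual.D B') (adj : DRing.restrictD (algebraMap A B') ⊣ R')

/-- the functional attached to a morphism `B'[0] ⟶ RHom_A(B', A)` -/
noncomputable def toOmega (f : Dual.inD B' B' ⟶ R'.obj (Dual.inD A A)) : Disc.Omega A B' :=
  ⟨preO ((singleIso (A := A) (B := B')).inv ≫ (adj.homEquiv _ _).symm f)⟩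

/-- the morphism `B'[0] ⟶ RHom_A(B', A)` attached to a functional -/
noncomputable def ofOmega (φ : Disc.Omega A B') : Dual.inD B' B' ⟶ R'.obj (Dual.inD A A) :=
  adj.homEquiv _ _ ((singleIso (A := A) (B := B')).hom ≫
    (DerivedCategory.singleFunctor (ModuleCat.{u} A) 0).map
      (ModuleCat.ofHom (X := ModuleCat.of A B') (Y := ModuleCat.of A A) φ.toLinearMap))

lemma ofOmega_toOmega (f : Dual.inD B' B' ⟶ R'.obj (Dual.inD A A)) :
    ofOmega R' adj (toOmega R' adj f) = f := by
  unfold ofOmega toOmega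
  rw [map_preO, Iso.hom_inv_id_assoc, Equiv.apply_symm_apply]

lemma toOmega_ofOmega (φ : Disc.Omega A B') :
    toOmega R' adj (ofOmega R' adj φ) = φ := by
  unfold ofOmega toOmega
  rw [Equiv.symm_apply_apply, Iso.inv_hom_id_assoc, preO_map]

lemma toOmega_add (f g : Dual.inD B' B' ⟶ R'.obj (Dual.inD A A)) :
    toOmega R' adj (f + g) = toOmega R' adj f + toOmega R' adj g := by
  apply Disc.Omega.toLinearMap_injective
  change preO _ = preO _ + preO _
  rw [adj.homAddEquiv_symm_add, Preadditive.comp_add, preO_add]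

lemma toOmega_smul (b : B') (f : Dual.inD B' B' ⟶ R'.obj (Dual.inD A A)) :
    toOmega R' adj (b • f) = b • toOmega R' adj f := by
  apply Disc.Omega.toLinearMap_injective
  have h1 : b • f = (b • 𝟙 (Dual.inD B' B')) ≫ f := by
    rw [Linear.smul_comp, Category.id_comp]
  change preO _ = preO _ ∘ₗ LinearMap.mulLeft A b
  rw [← preO_mulSingle_comp, h1, Adjunction.homEquiv_naturality_left_symm, ← Category.assoc,
    singleIso_inv_restrictD_smul, Category.assoc]

/-- `Hom(B'[0], RHom_A(B', A)) ≃ Hom_A(B', A)`, `B'`-linearly -/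
noncomputable def omegaLinearEquiv :
    (Dual.inD B' B' ⟶ R'.obj (Dual.inD A A)) ≃ₗ[B'] Disc.Omega A B' where
  toFun := toOmega R' adj
  invFun := ofOmega R' adj
  left_inv := ofOmega_toOmega R' adj
  right_inv := toOmega_ofOmega R' adj
  map_add' := toOmega_add R' adj
  map_smul' := toOmega_smul R' adj

include adj in
/-- `H^0(RHom_A(B', A)) ≅ Hom_A(B', A)`, `B'`-linearly -/
theorem nonempty_HD_zero_rightAdjoint_linearEquiv_omega :
    Nonempty (Dual.HD B' (R'.obj (Dual.inD A A)) 0 ≃ₗ[B'] Disc.Omega A B') := by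
  obtain ⟨e⟩ := Groth.Agent.Lib.H6xBid.nonempty_hom_linearEquiv_HD (R'.obj (Dual.inD A A)) 0
  let e0 : (Dual.inD B' B' ⟶ (R'.obj (Dual.inD A A))⟦(0 : ℤ)⟧) ≃ₗ[B']
      (Dual.inD B' B' ⟶ R'.obj (Dual.inD A A)) :=
    { toFun := fun g => g ≫ (shiftFunctorZero (Dual.D B') ℤ).hom.app _
      invFun := fun g => g ≫ (shiftFunctorZero (Dual.D B') ℤ).inv.app _
      left_inv := fun g => by
        change (g ≫ _) ≫ _ = g
        rw [Category.assoc, Iso.hom_inv_id_app]
        exact Category.comp_id _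
      right_inv := fun g => by
        change (g ≫ _) ≫ _ = g
        rw [Category.assoc, Iso.inv_hom_id_app]
        exact Category.comp_id _
      map_add' := fun g g' => Preadditive.add_comp _ _ _ g g' _
      map_smul' := fun a g => Linear.smul_comp _ _ _ a g _ }
  exact ⟨e.symm ≪≫ₗ e0 ≪≫ₗ omegaLinearEquiv R' adj⟩

end Omega

section Main

open AlgebraicGeometry

/-- **S8953**: `H^0(φ^! A) ≅ Hom_A(B', A) ⊗_{B'} B` for `A → B' → B` finite followed by an open
immersion -/
theorem HD_zero_shriekVia_omega (A B B' : Type u) [CommRing A] [CommRing B] [CommRing B']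
    [IsNoetherianRing A] [IsNoetherianRing B] [Algebra A B] [Algebra A B'] [Algebra B' B]
    [IsScalarTower A B' B] [Module.Finite A B']
    (hopen : IsOpenImmersion (Spec.map (CommRingCat.ofHom (algebraMap B' B)))) (n : ℕ)
    (ψ : MvPolynomial (Fin n) A →ₐ[A] B) (hψ : Function.Surjective ψ)
    [DRing.HasLBaseChange (algebraMap A (MvPolynomial (Fin n) A))]
    (Rψ : Dual.D (MvPolynomial (Fin n) A) ⥤ Dual.D B) (adj : DRing.restrictD ψ.toRingHom ⊣ Rψ) :
    Nonempty (Dual.HD B (Dual2.shriekVia n Rψ (Dual.inD A A)) 0 ≃ₗ[B]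
      (B ⊗[B'] Disc.Omega A B')) := by
  -- flat, epi, noetherian
  have hflat : (algebraMap B' B).Flat := by
    have : Flat (Spec.map (CommRingCat.ofHom (algebraMap B' B))) := inferInstance
    exact Flat.SpecMap_iff.mp this
  haveI : Module.Flat B' B := RingHom.flat_algebraMap_iff.mp hflat
  haveI hepi : Algebra.IsEpi B' B := by
    rw [← CommRingCat.epi_iff_epi]
    have hm : Mono (Spec.map (CommRingCat.ofHom (algebraMap B' B))) := inferInstance
    have hm' : Mono (CommRingCat.ofHom (algebraMap B' B)).op :=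
      Scheme.Spec.mono_of_mono_map hm
    exact unop_epi_of_mono (CommRingCat.ofHom (algebraMap B' B)).op
  haveI : IsNoetherianRing B' := IsNoetherianRing.of_finite A B'
  -- presentations
  obtain ⟨k, ψ', hψ'⟩ := Algebra.FiniteType.iff_quotient_mvPolynomial''.1
    (inferInstance : Algebra.FiniteType A B')
  haveI : Algebra.FiniteType A B := Algebra.FiniteType.of_surjective ψ hψ
  haveI : Algebra.FiniteType B' B := Algebra.FiniteType.of_restrictScalars_finiteType A B' B
  obtain ⟨m, χ, hχ⟩ := Algebra.FiniteType.iff_quotient_mvPolynomial''.1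
    (inferInstance : Algebra.FiniteType B' B)
  haveI := Groth.Agent.Lib.H6xHasLDerRing.hasLBaseChange
    (algebraMap A (MvPolynomial (Fin k) A))
  haveI := Groth.Agent.Lib.H6xHasLDerRing.hasLBaseChange
    (algebraMap B' (MvPolynomial (Fin m) B'))
  obtain ⟨Rψ', ⟨adjψ'⟩⟩ := exists_rightAdjoint ψ'.toRingHom
  obtain ⟨Rχ, ⟨adjχ⟩⟩ := exists_rightAdjoint χ.toRingHom
  obtain ⟨R', ⟨adjR'⟩⟩ := exists_rightAdjoint (algebraMap A B')
  have hK : ∀ i : ℤ, i < 0 → Subsingleton (Dual.HD A (Dual.inD A A) i) := fun i hi =>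
    ModuleCat.subsingleton_of_isZero (isZero_of_isGE (Dual.inD A A) 0 i hi)
  obtain ⟨e1⟩ := shriekVia_comp A B' B k ψ' hψ' Rψ' adjψ' m χ hχ Rχ adjχ n ψ hψ Rψ adj
    (Dual.inD A A) 0 hK
  obtain ⟨e2⟩ := shriekVia_iso_rightAdjoint_of_finite A B' k ψ' Rψ' adjψ' R' adjR' (Dual.inD A A)
  have hW : ∀ i : ℤ, i < 0 → Subsingleton (Dual.HD B' (R'.obj (Dual.inD A A)) i) := fun i hi =>
    Groth.Agent.Lib.H6xShr.subsingleton_HD_rightAdjoint R' adjR' (Dual.inD A A) 0 hK i hi
  obtain ⟨a⟩ := Groth.Agent.Lib.H6xPCDesc.nonempty_lbc_iso_extD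
    (A := B') (B := MvPolynomial (Fin m) B') (R'.obj (Dual.inD A A))
  obtain ⟨e3⟩ := flatEpi_shriek B' B m χ hχ Rχ adjχ (R'.obj (Dual.inD A A)) 0 hW
  let e4 : Dual2.shriekVia n Rψ (Dual.inD A A) ≅ (extD B' B).obj (R'.obj (Dual.inD A A)) :=
    e1 ≪≫ (shiftFunctor (Dual.D B) (m : ℤ)).mapIso
      (Rχ.mapIso ((DRing.LBaseChange (algebraMap B' (MvPolynomial (Fin m) B'))).mapIso e2 ≪≫ a)
        ≪≫ e3) ≪≫
      (shiftFunctorCompIsoId (Dual.D B) (-(m : ℤ)) (m : ℤ) (by ring)).app _
  obtain ⟨eΩ⟩ := nonempty_HD_zero_rightAdjoint_linearEquiv_omega R' adjR'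
  exact ⟨((DerivedCategory.homologyFunctor (ModuleCat.{u} B) 0).mapIso e4).toLinearEquiv ≪≫ₗ
    (homologyMapDIso (ext B' B) (R'.obj (Dual.inD A A)) 0).toLinearEquiv ≪≫ₗ
    extEquiv (A := B') (B := B) (Dual.HD B' (R'.obj (Dual.inD A A)) 0) ≪≫ₗ
    LinearEquiv.baseChange B' B _ _ eΩ⟩

end Main

end Groth.Agent.Lib.H6xShk
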