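import Mathlib

/-!
# Universal finite opens, ring level I (helper3)

A finitely presented quasi-finite algebra `A → B` admits a *finite and finitely presented*
`A`-algebra `C` with a map `C → B` which is an open immersion on spectra, in the explicit form:
finitely many `g ∈ C` whose images generate the unit ideal of `B` and with `C_g → B_g` bijective.
-/

set_option autoImplicit false
set_option linter.style.haveILetI false
universe u

namespace Groth.Agent.Lib.R2H3.UFOpenA

variable {A B : Type u} [CommRing A] [CommRing B] [Algebra A B]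

/-- The kernel of a map `ψ : P → B` of finitely presented algebras which becomes surjective after
inverting `h` is, up to powers of `h`, generated by finitely many elements of the kernel. -/
theorem exists_finset_ker {P : Type u} [CommRing P] [Algebra A P] [Algebra.FinitePresentation A P]
    [Algebra.FinitePresentation A B] (ψ : P →ₐ[A] B) (h : P)
    (hsurj : ∀ b : B, ∃ (p : P) (n : ℕ), ψ p = ψ h ^ n * b) :
    ∃ F : Finset P, (∀ p ∈ F, ψ p = 0) ∧
      ∀ p, ψ p = 0 → ∃ n : ℕ, h ^ n * p ∈ Ideal.span (F : Set P) := by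
  classical
  let Ph := Localization.Away h
  let Bh := Localization.Away (ψ h)
  let ψh : Ph →ₐ[A] Bh := Localization.awayMapₐ ψ h
  have hψh : ∀ p : P, ψh (algebraMap P Ph p) = algebraMap B Bh (ψ p) := by
    intro p
    show IsLocalization.Away.mapₐ _ _ ψ h (algebraMap P Ph p) = _
    rw [IsLocalization.Away.mapₐ_apply]
    exact IsLocalization.map_eq _ _
  have hs : Function.Surjective ψh := by
    have : Function.Surjective (Localization.awayMap ψ.toRingHom h) := by
      rw [Localization.awayMap_surjective_iff]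
      intro b
      obtain ⟨p, n, hp⟩ := hsurj b
      exact ⟨p, n, hp⟩
    intro x
    obtain ⟨y, hy⟩ := this x
    refine ⟨y, ?_⟩
    rw [← hy]
    exact IsLocalization.Away.mapₐ_apply _ _ ψ h y
  haveI : Algebra.FinitePresentation P Ph := IsLocalization.Away.finitePresentation h
  haveI : Algebra.FinitePresentation A Ph := Algebra.FinitePresentation.trans A P Ph
  haveI : Algebra.FinitePresentation B Bh := IsLocalization.Away.finitePresentation (ψ h)
  haveI : Algebra.FinitePresentation A Bh := Algebra.FinitePresentation.trans A B Bh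
  obtain ⟨W, hW⟩ := Algebra.FinitePresentation.ker_fG_of_surjective ψh hs
  have hWmem : ∀ w ∈ W, ψh w = 0 := by
    intro w hw
    have : w ∈ RingHom.ker ψh.toRingHom := by
      rw [← hW]; exact Ideal.subset_span hw
    exact this
  have hdata : ∀ w : Ph, ∃ (p : P) (n : ℕ), w * algebraMap P Ph h ^ n = algebraMap P Ph p := by
    intro w
    obtain ⟨n, p, hp⟩ := IsLocalization.Away.surj h w
    exact ⟨p, n, hp⟩
  choose pw nw hpw using hdata
  have hk : ∀ w : Ph, ∃ k : ℕ, w ∈ W → ψ h ^ k * ψ (pw w) = 0 := by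
    intro w
    by_cases hw : w ∈ W
    · have h1 : algebraMap B Bh (ψ (pw w)) = 0 := by
        rw [← hψh, ← hpw, map_mul, hWmem w hw, zero_mul]
      rw [IsLocalization.map_eq_zero_iff (Submonoid.powers (ψ h))] at h1
      obtain ⟨⟨_, k, rfl⟩, hk⟩ := h1
      exact ⟨k, fun _ => hk⟩
    · exact ⟨0, fun h' => absurd h' hw⟩
  choose kw hkw using hk
  refine ⟨W.image (fun w => h ^ kw w * pw w), ?_, ?_⟩
  · intro p hp
    obtain ⟨w, hw, rfl⟩ := Finset.mem_image.mp hp
    rw [map_mul, map_pow]
    exact hkw w hw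
  · intro p hp
    have hunit : IsUnit (algebraMap P Ph h) := IsLocalization.Away.algebraMap_isUnit h
    have hle : Ideal.span (W : Set Ph) ≤
        Ideal.map (algebraMap P Ph) (Ideal.span ((W.image (fun w => h ^ kw w * pw w) : Finset P) :
          Set P)) := by
      rw [Ideal.span_le]
      intro w hw
      have h1 : algebraMap P Ph (h ^ kw w * pw w) ∈ Ideal.map (algebraMap P Ph)
          (Ideal.span ((W.image (fun w => h ^ kw w * pw w) : Finset P) : Set P)) :=
        Ideal.mem_map_of_mem _ (Ideal.subset_span (Finset.mem_coe.mpr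
          (Finset.mem_image.mpr ⟨w, hw, rfl⟩)))
      rw [map_mul, ← hpw, map_pow] at h1
      have hu : IsUnit (algebraMap P Ph h ^ kw w * algebraMap P Ph h ^ nw w) :=
        (hunit.pow _).mul (hunit.pow _)
      have h2 : algebraMap P Ph h ^ kw w * (w * algebraMap P Ph h ^ nw w) =
          w * (algebraMap P Ph h ^ kw w * algebraMap P Ph h ^ nw w) := by ring
      rw [h2] at h1
      exact (Ideal.mul_unit_mem_iff_mem _ hu).mp h1
    have hmem : algebraMap P Ph p ∈ Ideal.span (W : Set Ph) := by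
      rw [hW]
      show ψh (algebraMap P Ph p) = 0
      rw [hψh, hp, map_zero]
    have h3 := hle hmem
    rw [IsLocalization.mem_map_algebraMap_iff (Submonoid.powers h)] at h3
    obtain ⟨⟨⟨i, hi⟩, ⟨_, a, rfl⟩⟩, hx⟩ := h3
    simp only at hx
    rw [← map_mul] at hx
    obtain ⟨b, hb⟩ := IsLocalization.Away.exists_of_eq h hx
    refine ⟨b + a, ?_⟩
    have : h ^ (b + a) * p = h ^ b * i := by
      rw [pow_add, mul_assoc, ← hb]; ring
    rw [this]
    exact Ideal.mul_mem_left _ _ hi

/-- **Finite, finitely presented model of a quasi-finite algebra.** -/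
theorem exists_finite_model [Algebra.FinitePresentation A B] [Algebra.QuasiFinite A B] :
    ∃ (C : Type u) (_ : CommRing C) (_ : Algebra A C), Module.Finite A C ∧
      Algebra.FinitePresentation A C ∧ ∃ (φ : C →ₐ[A] B) (s : Finset C),
        Ideal.span (φ '' (s : Set C)) = ⊤ ∧
        ∀ g ∈ s, Function.Bijective (Localization.awayMap (φ : C →+* B) g) := by
  classical
  -- Step 1: the elements given by Zariski's main theorem generate the unit ideal
  let R₀ : Set B := {r | IsIntegral A r ∧ ∀ x : B, ∃ m : ℕ, IsIntegral A (r ^ m * x)}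
  have hR₀ : Ideal.span R₀ = ⊤ := by
    by_contra hne
    obtain ⟨𝔪, h𝔪, hle⟩ := Ideal.exists_le_maximal _ hne
    haveI : 𝔪.IsPrime := h𝔪.isPrime
    have hZ : Algebra.ZariskisMainProperty A 𝔪 := Algebra.ZariskisMainProperty.of_finiteType 𝔪
    obtain ⟨r, hr𝔪, hr, hr'⟩ := Algebra.zariskisMainProperty_iff.mp hZ
    exact hr𝔪 (hle (Ideal.subset_span ⟨hr, hr'⟩))
  obtain ⟨t, htR₀, ht⟩ := (Ideal.span_eq_top_iff_finite _).mp hR₀
  obtain ⟨sB, hsB⟩ := (inferInstance : Algebra.FiniteType A B).out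
  have hm : ∀ (r x : B), ∃ m : ℕ, r ∈ t → IsIntegral A (r ^ m * x) := by
    intro r x
    by_cases hr : r ∈ t
    · obtain ⟨m, hm⟩ := (htR₀ hr).2 x
      exact ⟨m, fun _ => hm⟩
    · exact ⟨0, fun h => absurd h hr⟩
  choose m hm using hm
  let G : Finset B := t ∪ (t ×ˢ sB).image (fun rx => rx.1 ^ m rx.1 rx.2 * rx.2)
  have hGint : ∀ γ ∈ G, IsIntegral A γ := by
    intro γ hγ
    rcases Finset.mem_union.mp hγ with h | h
    · exact (htR₀ h).1
    · obtain ⟨⟨r, x⟩, hrx, rfl⟩ := Finset.mem_image.mp h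
      exact hm r x (Finset.mem_product.mp hrx).1
  let G' := {γ // γ ∈ G}
  let P := MvPolynomial G' A
  let ψ : P →ₐ[A] B := MvPolynomial.aeval (fun γ : G' => γ.1)
  have hψX : ∀ γ : G', ψ (MvPolynomial.X γ) = γ.1 := fun γ => MvPolynomial.aeval_X _ γ
  have htG : ∀ r ∈ t, r ∈ G := fun r hr => Finset.mem_union_left _ hr
  let hX : B → P := fun r => if hr : r ∈ G then MvPolynomial.X ⟨r, hr⟩ else 0
  have hhX : ∀ r ∈ t, ψ (hX r) = r := by
    intro r hr
    simp only [hX, dif_pos (htG r hr)]
    exact hψX _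
  -- surjectivity up to powers of `r`
  have hsurj : ∀ r ∈ t, ∀ b : B, ∃ (p : P) (n : ℕ), ψ p = ψ (hX r) ^ n * b := by
    intro r hr b
    rw [hhX r hr]
    have hb : b ∈ Algebra.adjoin A (sB : Set B) := by rw [hsB]; exact Algebra.mem_top
    induction hb using Algebra.adjoin_induction with
    | mem x hx =>
      have hmem : r ^ m r x * x ∈ G :=
        Finset.mem_union_right _ (Finset.mem_image.mpr ⟨(r, x), Finset.mem_product.mpr ⟨hr, hx⟩, rfl⟩)
      exact ⟨MvPolynomial.X ⟨_, hmem⟩, m r x, hψX _⟩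
    | algebraMap a =>
      exact ⟨algebraMap A P a, 0, by simp⟩
    | add x y _ _ hx hy =>
      obtain ⟨p₁, n₁, h₁⟩ := hx
      obtain ⟨p₂, n₂, h₂⟩ := hy
      refine ⟨hX r ^ n₂ * p₁ + hX r ^ n₁ * p₂, n₁ + n₂, ?_⟩
      rw [map_add, map_mul, map_mul, map_pow, map_pow, hhX r hr, h₁, h₂]
      ring
    | mul x y _ _ hx hy =>
      obtain ⟨p₁, n₁, h₁⟩ := hx
      obtain ⟨p₂, n₂, h₂⟩ := hy
      refine ⟨p₁ * p₂, n₁ + n₂, ?_⟩
      rw [map_mul, h₁, h₂]
      ring
  -- the finitely many relations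
  have hF : ∀ r : B, ∃ F : Finset P, r ∈ t → (∀ p ∈ F, ψ p = 0) ∧
      ∀ p, ψ p = 0 → ∃ n : ℕ, hX r ^ n * p ∈ Ideal.span (F : Set P) := by
    intro r
    by_cases hr : r ∈ t
    · obtain ⟨F, hF1, hF2⟩ := exists_finset_ker ψ (hX r) (hsurj r hr)
      exact ⟨F, fun _ => ⟨hF1, hF2⟩⟩
    · exact ⟨∅, fun h => absurd h hr⟩
  choose F hF using hF
  have hq : ∀ γ : G', ∃ q : Polynomial A, q.Monic ∧ Polynomial.aeval γ.1 q = 0 := by
    intro γ
    obtain ⟨q, hq, hq'⟩ := hGint γ.1 γ.2
    exact ⟨q, hq, by rw [Polynomial.aeval_def]; exact hq'⟩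
  choose q hqm hq0 using hq
  let μ : G' → P := fun γ => Polynomial.aeval (MvPolynomial.X γ : P) (q γ)
  have hμ : ∀ γ, ψ (μ γ) = 0 := by
    intro γ
    show ψ (Polynomial.aeval (MvPolynomial.X γ : P) (q γ)) = 0
    rw [← Polynomial.aeval_algHom_apply, hψX, hq0]
  let FF : Finset P := Finset.univ.image μ ∪ t.biUnion F
  let K : Ideal P := Ideal.span (FF : Set P)
  have hK : ∀ p ∈ K, ψ p = 0 := by
    intro p hp
    have : K ≤ RingHom.ker (ψ : P →+* B) := by
      rw [Ideal.span_le]
      intro x hx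
      rcases Finset.mem_union.mp (Finset.mem_coe.mp hx) with h | h
      · obtain ⟨γ, -, rfl⟩ := Finset.mem_image.mp h
        exact hμ γ
      · obtain ⟨r, hr, hxr⟩ := Finset.mem_biUnion.mp h
        exact (hF r hr).1 x hxr
    exact this hp
  let C := P ⧸ K
  let φ : C →ₐ[A] B := Ideal.Quotient.liftₐ K ψ hK
  have hφ : ∀ p : P, φ (Ideal.Quotient.mk K p) = ψ p := fun p => Ideal.Quotient.liftₐ_apply K ψ hK _
  refine ⟨C, inferInstance, inferInstance, ?_, ?_, φ, t.image (fun r => Ideal.Quotient.mk K (hX r)),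
    ?_, ?_⟩
  · -- finite
    have hgen : Algebra.adjoin A (Set.range fun γ : G' => (Ideal.Quotient.mk K (MvPolynomial.X γ) : C)) =
        ⊤ := by
      have h1 : (Algebra.adjoin A (Set.range (MvPolynomial.X : G' → P))).map (Ideal.Quotient.mkₐ A K) =
          ⊤ := by
        rw [MvPolynomial.adjoin_range_X, Algebra.map_top]
        exact (AlgHom.range_eq_top _).mpr (Ideal.Quotient.mkₐ_surjective A K)
      rw [AlgHom.map_adjoin, ← Set.range_comp] at h1
      exact h1
    have hint : ∀ x ∈ Set.range fun γ : G' => (Ideal.Quotient.mk K (MvPolynomial.X γ) : C),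
        IsIntegral A x := by
      rintro _ ⟨γ, rfl⟩
      refine ⟨q γ, hqm γ, ?_⟩
      rw [← Polynomial.aeval_def]
      have : Polynomial.aeval ((Ideal.Quotient.mkₐ A K) (MvPolynomial.X γ)) (q γ) =
          (Ideal.Quotient.mkₐ A K) (μ γ) := Polynomial.aeval_algHom_apply _ _ _
      have h0 : (Ideal.Quotient.mkₐ A K) (μ γ) = 0 := by
        show Ideal.Quotient.mk K (μ γ) = 0
        rw [Ideal.Quotient.eq_zero_iff_mem]
        exact Ideal.subset_span (Finset.mem_coe.mpr (Finset.mem_union_left _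
          (Finset.mem_image.mpr ⟨γ, Finset.mem_univ _, rfl⟩)))
      rw [← h0, ← this]
      rfl
    have hfg := fg_adjoin_of_finite (Set.finite_range _) hint
    rw [hgen, Algebra.top_toSubmodule] at hfg
    exact ⟨hfg⟩
  · exact Algebra.FinitePresentation.quotient ⟨FF, rfl⟩
  · have : (φ '' ((t.image (fun r => Ideal.Quotient.mk K (hX r)) : Finset C) : Set C)) = (t : Set B) := by
      ext b
      simp only [Finset.coe_image, Set.mem_image, Finset.mem_coe]
      constructor
      · rintro ⟨_, ⟨r, hr, rfl⟩, rfl⟩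
        rw [hφ, hhX r hr]; exact hr
      · intro hb
        exact ⟨_, ⟨b, hb, rfl⟩, by rw [hφ, hhX b hb]⟩
    rw [this, ht]
  · intro g hg
    obtain ⟨r, hr, rfl⟩ := Finset.mem_image.mp hg
    constructor
    · rw [Localization.awayMap_injective_iff]
      intro c hc
      obtain ⟨p, rfl⟩ := Ideal.Quotient.mk_surjective c
      have hp : ψ p = 0 := by rw [← hφ]; exact hc
      obtain ⟨n, hn⟩ := (hF r hr).2 p hp
      refine ⟨n, ?_⟩
      rw [← map_pow, ← map_mul, Ideal.Quotient.eq_zero_iff_mem]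
      refine Ideal.span_mono ?_ hn
      intro x hx
      exact Finset.mem_coe.mpr (Finset.mem_union_right _ (Finset.mem_biUnion.mpr ⟨r, hr, hx⟩))
    · rw [Localization.awayMap_surjective_iff]
      intro b
      obtain ⟨p, n, hp⟩ := hsurj r hr b
      refine ⟨Ideal.Quotient.mk K p, n, ?_⟩
      show φ (Ideal.Quotient.mk K p) = φ (Ideal.Quotient.mk K (hX r)) ^ n * b
      rw [hφ, hφ, hp]

end Groth.Agent.Lib.R2H3.UFOpenA
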