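import Mathlib
import Groth.Agent.Lib.H5bGQGlue

/-!
# Universal finite opens, scheme level I (helper3)

* `isOpenImmersion_SpecMap_of_awayMap` : `Spec B → Spec C` is an open immersion when finitely many
  `g ∈ C` generate the unit ideal of `B` and `C_g → B_g` is bijective; its range is `⋃ D(g)`.
* clopen subsets of affine schemes and idempotents.
-/

set_option autoImplicit false
set_option linter.style.haveILetI false
universe u

open CategoryTheory CategoryTheory.Limits AlgebraicGeometry TopologicalSpace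

namespace Groth.Agent.Lib.R2H3.UFOpenC

section ring

variable {C B : Type u} [CommRing C] [CommRing B] (φ : C →+* B) (s : Finset C)

theorem exists_notMem_of_span (hs : Ideal.span (φ '' (s : Set C)) = ⊤) (x : PrimeSpectrum B) :
    ∃ g ∈ s, φ g ∉ x.asIdeal := by
  by_contra hcon
  push Not at hcon
  have : Ideal.span (φ '' (s : Set C)) ≤ x.asIdeal := by
    rw [Ideal.span_le]
    rintro _ ⟨g, hg, rfl⟩
    exact hcon g hg
  rw [hs] at this
  exact x.2.ne_top (top_le_iff.mp this)

theorem comap_injective_of_awayMap (hs : Ideal.span (φ '' (s : Set C)) = ⊤)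
    (h : ∀ g ∈ s, Function.Surjective (Localization.awayMap φ g)) :
    Function.Injective (PrimeSpectrum.comap φ) := by
  have key : ∀ x y : PrimeSpectrum B, PrimeSpectrum.comap φ x = PrimeSpectrum.comap φ y →
      x.asIdeal ≤ y.asIdeal := by
    intro x y hxy b hb
    obtain ⟨g, hg, hgx⟩ := exists_notMem_of_span φ s hs x
    have hgy : φ g ∉ y.asIdeal := by
      intro hgy
      have : g ∈ (PrimeSpectrum.comap φ y).asIdeal := hgy
      rw [← hxy] at this
      exact hgx this
    obtain ⟨c, m, hc⟩ := (Localization.awayMap_surjective_iff.mp (h g hg)) b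
    have h1 : c ∈ (PrimeSpectrum.comap φ x).asIdeal := by
      show φ c ∈ x.asIdeal
      rw [hc]
      exact Ideal.mul_mem_left _ _ hb
    rw [hxy] at h1
    have h2 : φ g ^ m * b ∈ y.asIdeal := by rw [← hc]; exact h1
    rcases y.2.mem_or_mem h2 with h3 | h3
    · exact absurd (y.2.mem_of_pow_mem _ h3) hgy
    · exact h3
  intro x y hxy
  exact PrimeSpectrum.ext (le_antisymm (key x y hxy) (key y x hxy.symm))

theorem awayMap_comp_algebraMap (g : C) :
    (Localization.awayMap φ g).comp (algebraMap C (Localization.Away g)) =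
      (algebraMap B (Localization.Away (φ g))).comp φ :=
  IsLocalization.map_comp _

theorem isOpenImmersion_SpecMap_of_awayMap (hs : Ideal.span (φ '' (s : Set C)) = ⊤)
    (h : ∀ g ∈ s, Function.Bijective (Localization.awayMap φ g)) :
    IsOpenImmersion (Spec.map (CommRingCat.ofHom φ)) := by
  refine Groth.Agent.Lib.H5bGQ.isOpenImmersion_of_local _ ?_ ?_
  · exact comap_injective_of_awayMap φ s hs fun g hg => (h g hg).2
  · intro x
    obtain ⟨g, hg, hgx⟩ := exists_notMem_of_span φ s hs x
    refine ⟨Spec (CommRingCat.of (Localization.Away (φ g))),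
      Spec.map (CommRingCat.ofHom (algebraMap B (Localization.Away (φ g)))), inferInstance, ?_, ?_⟩
    · have := PrimeSpectrum.localization_away_comap_range (Localization.Away (φ g)) (φ g)
      show x ∈ Set.range (PrimeSpectrum.comap (algebraMap B (Localization.Away (φ g))))
      rw [this]
      exact hgx
    · have e : Spec.map (CommRingCat.ofHom (algebraMap B (Localization.Away (φ g)))) ≫
          Spec.map (CommRingCat.ofHom φ) =
          Spec.map (CommRingCat.ofHom (Localization.awayMap φ g)) ≫
            Spec.map (CommRingCat.ofHom (algebraMap C (Localization.Away g))) := by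
        rw [← Spec.map_comp, ← Spec.map_comp, ← CommRingCat.ofHom_comp, ← CommRingCat.ofHom_comp,
          awayMap_comp_algebraMap]
      rw [e]
      haveI : IsIso (CommRingCat.ofHom (Localization.awayMap φ g)) :=
        (ConcreteCategory.isIso_iff_bijective _).mpr (h g hg)
      infer_instance

theorem range_SpecMap_of_awayMap (hs : Ideal.span (φ '' (s : Set C)) = ⊤)
    (h : ∀ g ∈ s, Function.Bijective (Localization.awayMap φ g)) :
    Set.range (PrimeSpectrum.comap φ) = ⋃ g ∈ s, (PrimeSpectrum.basicOpen g : Set (PrimeSpectrum C)) := by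
  ext y
  simp only [Set.mem_range, Set.mem_iUnion, SetLike.mem_coe, PrimeSpectrum.mem_basicOpen]
  constructor
  · rintro ⟨x, rfl⟩
    obtain ⟨g, hg, hgx⟩ := exists_notMem_of_span φ s hs x
    exact ⟨g, hg, hgx⟩
  · rintro ⟨g, hg, hgy⟩
    have h1 : y ∈ Set.range (PrimeSpectrum.comap (algebraMap C (Localization.Away g))) := by
      rw [PrimeSpectrum.localization_away_comap_range (Localization.Away g) g]
      exact hgy
    obtain ⟨y', rfl⟩ := h1
    let e : Localization.Away g ≃+* Localization.Away (φ g) := RingEquiv.ofBijective _ (h g hg)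
    let x' : PrimeSpectrum (Localization.Away (φ g)) := PrimeSpectrum.comap e.symm.toRingHom y'
    have hx' : PrimeSpectrum.comap (Localization.awayMap φ g) x' = y' := by
      show PrimeSpectrum.comap e.toRingHom (PrimeSpectrum.comap e.symm.toRingHom y') = y'
      rw [← PrimeSpectrum.comap_comp_apply]
      have : e.symm.toRingHom.comp e.toRingHom = RingHom.id _ := by
        ext z; simp
      rw [this]; rfl
    refine ⟨PrimeSpectrum.comap (algebraMap B (Localization.Away (φ g))) x', ?_⟩
    rw [← PrimeSpectrum.comap_comp_apply, ← awayMap_comp_algebraMap, PrimeSpectrum.comap_comp_apply,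
      hx']

end ring

section affine

variable {S : Scheme.{u}} [IsAffine S]

theorem mem_basicOpen_iff (r : Γ(S, ⊤)) (x : S) :
    x ∈ S.basicOpen r ↔ r ∉ (show PrimeSpectrum Γ(S, ⊤) from S.isoSpec.hom x).asIdeal := by
  rw [← Scheme.map_PrimeSpectrum_basicOpen_of_affine]
  rfl

theorem exists_point (p : PrimeSpectrum Γ(S, ⊤)) :
    ∃ x : S, (show PrimeSpectrum Γ(S, ⊤) from S.isoSpec.hom x) = p := by
  refine ⟨S.isoSpec.inv (show ↥(Spec Γ(S, ⊤)) from p), ?_⟩
  show S.isoSpec.hom (S.isoSpec.inv (show ↥(Spec Γ(S, ⊤)) from p)) = p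
  rw [← Scheme.Hom.comp_apply, Iso.inv_hom_id]
  rfl

theorem exists_idem_of_isClopen (Z : S.Opens) (hZ : IsClosed (Z : Set S)) :
    ∃ e : Γ(S, ⊤), e * e = e ∧ S.basicOpen e = Z := by
  let hh : S ≃ₜ ↥(Spec Γ(S, ⊤)) := S.isoSpec.hom.homeomorph
  have hcl : IsClopen (hh '' (Z : Set S)) :=
    ⟨(hh.isClosed_image).mpr hZ, (hh.isOpen_image).mpr Z.2⟩
  obtain ⟨e, he, hZe⟩ := PrimeSpectrum.isClopen_iff.mp hcl
  refine ⟨e, he, ?_⟩
  ext x
  rw [SetLike.mem_coe, mem_basicOpen_iff]
  have h1 : hh x ∈ hh '' (Z : Set S) ↔ x ∈ (Z : Set S) := hh.injective.mem_set_image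
  rw [← h1, hZe]
  rfl

theorem mem_span_of_basicOpen_le (e : Γ(S, ⊤)) (he : e * e = e) (hs : Finset Γ(S, ⊤))
    (hle : S.basicOpen e ≤ ⨆ h ∈ hs, S.basicOpen h) : e ∈ Ideal.span (hs : Set Γ(S, ⊤)) := by
  have hrad : e ∈ (Ideal.span (hs : Set Γ(S, ⊤))).radical := by
    rw [← PrimeSpectrum.vanishingIdeal_zeroLocus_eq_radical, PrimeSpectrum.mem_vanishingIdeal]
    intro p hp
    by_contra hep
    obtain ⟨x, hx⟩ := exists_point (S := S) p
    have hxe : x ∈ S.basicOpen e := by
      rw [mem_basicOpen_iff, hx]; exact hep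
    have := hle hxe
    simp only [Opens.mem_iSup] at this
    obtain ⟨h, hh, hxh⟩ := this
    rw [mem_basicOpen_iff, hx] at hxh
    rw [PrimeSpectrum.mem_zeroLocus] at hp
    exact hxh (hp (Ideal.subset_span hh))
  obtain ⟨n, hn⟩ := hrad
  cases n with
  | zero =>
    rw [pow_zero] at hn
    rw [← mul_one e]
    exact Ideal.mul_mem_left _ _ hn
  | succ n =>
    have hid : IsIdempotentElem e := he
    rwa [hid.pow_succ_eq] at hn

theorem basicOpen_le_of_mem_span (e : Γ(S, ⊤)) (hs : Finset Γ(S, ⊤))
    (he : e ∈ Ideal.span (hs : Set Γ(S, ⊤))) : S.basicOpen e ≤ ⨆ h ∈ hs, S.basicOpen h := by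
  intro x hx
  rw [mem_basicOpen_iff] at hx
  simp only [Opens.mem_iSup]
  by_contra hcon
  push Not at hcon
  apply hx
  have : Ideal.span (hs : Set Γ(S, ⊤)) ≤
      (show PrimeSpectrum Γ(S, ⊤) from S.isoSpec.hom x).asIdeal := by
    rw [Ideal.span_le]
    intro h hh
    have := hcon h hh
    rw [mem_basicOpen_iff, not_not] at this
    exact this
  exact this he

theorem isClosed_basicOpen_of_idem (e : Γ(S, ⊤)) (he : e * e = e) :
    IsClosed (S.basicOpen e : Set S) := by
  have : (S.basicOpen e : Set S) = (S.basicOpen (1 - e) : Set S)ᶜ := by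
    ext x
    rw [Set.mem_compl_iff, SetLike.mem_coe, SetLike.mem_coe, mem_basicOpen_iff, mem_basicOpen_iff,
      not_not]
    set p := (show PrimeSpectrum Γ(S, ⊤) from S.isoSpec.hom x)
    constructor
    · intro h
      have h0 : e * (1 - e) ∈ p.asIdeal := by
        rw [mul_sub, mul_one, he, sub_self]; exact zero_mem _
      exact (p.2.mem_or_mem h0).resolve_left h
    · intro h h'
      have : (1 : Γ(S, ⊤)) ∈ p.asIdeal := by
        have := add_mem h' h
        rwa [add_sub_cancel] at this
      exact p.2.ne_top ((Ideal.eq_top_iff_one _).mpr this)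
  rw [this]
  exact (S.basicOpen (1 - e)).2.isClosed_compl

end affine

end Groth.Agent.Lib.R2H3.UFOpenC
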