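import Mathlib
import Groth.Agent.Lib.H6xShkP
import Groth.Agent.Lib.R2H3UFOpenA
import Groth.Agent.Lib.R2H3UFOpenC
import Groth.Agent.Lib.Helper4FibDimF
set_option backward.isDefEq.respectTransparency.types false

/-!
# Vanishing of the relative dualizing complex below the fibre dimension (helper6)

* `subsingleton_HD_shriekVia`: explicit lower bound for the cohomology of `φ^! K`;
* `shriekVia_flatEpi`: `(R → A → B)^! K ≅ (R → A)^! K ⊗_A B` for `A → B` a flat epimorphism of finite
  type (e.g. a principal localization) and `K` bounded below;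
* `subsingleton_HD_shriekVia_of_finite_over_poly`: `H^j((R → C)^! R) = 0` for `j < -d` when `C` is
  finite over `R[y_1..y_d]`;
* `subsingleton_HD_extD_shriekVia_of_quasiFinite`: the same after a flat epimorphism `A → B` with
  `B` quasi-finite over `R[y_1..y_d]` (Zariski's main theorem);
* `HD_shriekVia_self_vanishing_below_fibre_dim` (S1785).
-/

set_option autoImplicit false
set_option linter.style.haveILetI false
universe u

namespace Groth.Agent.Lib.H6xShk

open CategoryTheory CategoryTheory.Limits DerivedCategory TensorProduct MvPolynomial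
open Groth.Agent.Lib.Helper1.Extend Groth.Agent.Lib.H6xFBC Groth.Agent.Lib.H6xCoext
attribute [local instance] HasDerivedCategory.standard

section Bound

/-- explicit lower bound for the cohomology of the upper shriek -/
theorem subsingleton_HD_shriekVia (R A : Type u) [CommRing R] [CommRing A] [Algebra R A] (n : ℕ)
    (ψ : MvPolynomial (Fin n) R →ₐ[R] A)
    [DRing.HasLBaseChange (algebraMap R (MvPolynomial (Fin n) R))]
    (Rψ : Dual.D (MvPolynomial (Fin n) R) ⥤ Dual.D A)
    (adj : DRing.restrictD ψ.toRingHom ⊣ Rψ) (K : Dual.D R) (a : ℤ)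
    (hKa : ∀ i : ℤ, i < a → Subsingleton (Dual.HD R K i)) (i : ℤ) (hi : i < a - n) :
    Subsingleton (Dual.HD A (Dual2.shriekVia n Rψ K) i) := by
  letI : Algebra (MvPolynomial (Fin n) R) A := ψ.toRingHom.toAlgebra
  obtain ⟨e0⟩ := Groth.Agent.Lib.H6xPCDesc.nonempty_lbc_iso_extD
    (A := R) (B := MvPolynomial (Fin n) R) K
  have hYa : ∀ j : ℤ, j < a → Subsingleton (Dual.HD (MvPolynomial (Fin n) R)
      ((DRing.LBaseChange (algebraMap R (MvPolynomial (Fin n) R))).obj K) j) := by
    intro j hj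
    haveI := subsingleton_HD_extD (B := MvPolynomial (Fin n) R) K a hKa j hj
    exact ((DerivedCategory.homologyFunctor (ModuleCat.{u} (MvPolynomial (Fin n) R)) j).mapIso
      e0).toLinearEquiv.toEquiv.subsingleton
  haveI := Groth.Agent.Lib.H6xShr.subsingleton_HD_rightAdjoint Rψ adj _ a hYa ((n : ℤ) + i)
    (by omega)
  exact (Groth.Agent.Lib.H6xLoc.HDShiftEquiv (Rψ.obj _) (n : ℤ) i ((n : ℤ) + i)
    rfl).toEquiv.subsingleton

end Bound

section FlatEpi

/-- **upper shriek along a flat epimorphism of finite type** (e.g. a principal localization), for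
bounded below complexes: `(R → A → B)^! K ≅ (R → A)^! K ⊗_A B` -/
theorem shriekVia_flatEpi (R A B : Type u) [CommRing R] [CommRing A] [CommRing B]
    [IsNoetherianRing R] [IsNoetherianRing A] [Algebra R A] [Algebra R B] [Algebra A B]
    [IsScalarTower R A B] [Module.Flat A B] [Algebra.IsEpi A B] [Algebra.FiniteType A B]
    (n : ℕ) (ψ : MvPolynomial (Fin n) R →ₐ[R] A) (hψ : Function.Surjective ψ)
    [DRing.HasLBaseChange (algebraMap R (MvPolynomial (Fin n) R))]
    (Rψ : Dual.D (MvPolynomial (Fin n) R) ⥤ Dual.D A) (adj : DRing.restrictD ψ.toRingHom ⊣ Rψ)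
    (k : ℕ) (θ : MvPolynomial (Fin k) R →ₐ[R] B) (hθ : Function.Surjective θ)
    [DRing.HasLBaseChange (algebraMap R (MvPolynomial (Fin k) R))]
    (Rθ : Dual.D (MvPolynomial (Fin k) R) ⥤ Dual.D B) (adjθ : DRing.restrictD θ.toRingHom ⊣ Rθ)
    (K : Dual.D R) (c : ℤ) (hK : ∀ i : ℤ, i < c → Subsingleton (Dual.HD R K i)) :
    Nonempty (Dual2.shriekVia k Rθ K ≅ (extD A B).obj (Dual2.shriekVia n Rψ K)) := by
  obtain ⟨m, χ, hχ⟩ := Algebra.FiniteType.iff_quotient_mvPolynomial''.1
    (inferInstance : Algebra.FiniteType A B)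
  haveI := Groth.Agent.Lib.H6xHasLDerRing.hasLBaseChange
    (algebraMap A (MvPolynomial (Fin m) A))
  obtain ⟨Rχ, ⟨adjχ⟩⟩ := exists_rightAdjoint χ.toRingHom
  obtain ⟨e1⟩ := shriekVia_comp R A B n ψ hψ Rψ adj m χ hχ Rχ adjχ k θ hθ Rθ adjθ K c hK
  have hW : ∀ i : ℤ, i < c - n → Subsingleton (Dual.HD A (Dual2.shriekVia n Rψ K) i) :=
    fun i hi => subsingleton_HD_shriekVia R A n ψ Rψ adj K c hK i hi
  obtain ⟨a⟩ := Groth.Agent.Lib.H6xPCDesc.nonempty_lbc_iso_extD
    (A := A) (B := MvPolynomial (Fin m) A) (Dual2.shriekVia n Rψ K)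
  obtain ⟨e3⟩ := flatEpi_shriek A B m χ hχ Rχ adjχ (Dual2.shriekVia n Rψ K) (c - n) hW
  exact ⟨e1 ≪≫ (shiftFunctor (Dual.D B) (m : ℤ)).mapIso (Rχ.mapIso a ≪≫ e3) ≪≫
    (shiftFunctorCompIsoId (Dual.D B) (-(m : ℤ)) (m : ℤ) (by ring)).app _⟩

end FlatEpi

section FinPoly

/-- for `C` finite over `R[y_1..y_d]`, `H^j((R → C)^! R) = 0` for `j < -d` -/
theorem subsingleton_HD_shriekVia_of_finite_over_poly (R C : Type u) [CommRing R] [CommRing C]
    [IsNoetherianRing R] (d : ℕ) [Algebra (MvPolynomial (Fin d) R) C] [Algebra R C]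
    [IsScalarTower R (MvPolynomial (Fin d) R) C] [Module.Finite (MvPolynomial (Fin d) R) C]
    (e : ℕ) (θ : MvPolynomial (Fin e) R →ₐ[R] C) (hθ : Function.Surjective θ)
    [DRing.HasLBaseChange (algebraMap R (MvPolynomial (Fin e) R))]
    (Rθ : Dual.D (MvPolynomial (Fin e) R) ⥤ Dual.D C) (adjθ : DRing.restrictD θ.toRingHom ⊣ Rθ)
    (j : ℤ) (hj : j < -(d : ℤ)) :
    Subsingleton (Dual.HD C (Dual2.shriekVia e Rθ (Dual.inD R R)) j) := by
  have hK : ∀ i : ℤ, i < 0 → Subsingleton (Dual.HD R (Dual.inD R R) i) := fun i hi =>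
    ModuleCat.subsingleton_of_isZero (isZero_of_isGE (Dual.inD R R) 0 i hi)
  haveI := Groth.Agent.Lib.H6xHasLDerRing.hasLBaseChange
    (algebraMap R (MvPolynomial (Fin d) R))
  let ψ₁ : MvPolynomial (Fin d) R →ₐ[R] MvPolynomial (Fin d) R := AlgHom.id R _
  have hψ₁ : Function.Surjective ψ₁ := Function.surjective_id
  obtain ⟨R₁, ⟨adj₁⟩⟩ := exists_rightAdjoint ψ₁.toRingHom
  obtain ⟨m, χ, hχ⟩ := Algebra.FiniteType.iff_quotient_mvPolynomial''.1
    (inferInstance : Algebra.FiniteType (MvPolynomial (Fin d) R) C)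
  haveI := Groth.Agent.Lib.H6xHasLDerRing.hasLBaseChange
    (algebraMap (MvPolynomial (Fin d) R) (MvPolynomial (Fin m) (MvPolynomial (Fin d) R)))
  obtain ⟨Rχ, ⟨adjχ⟩⟩ := exists_rightAdjoint χ.toRingHom
  obtain ⟨R', ⟨adjR'⟩⟩ := exists_rightAdjoint (algebraMap (MvPolynomial (Fin d) R) C)
  obtain ⟨e1⟩ := shriekVia_comp R (MvPolynomial (Fin d) R) C d ψ₁ hψ₁ R₁ adj₁ m χ hχ Rχ adjχ
    e θ hθ Rθ adjθ (Dual.inD R R) 0 hK
  obtain ⟨e2⟩ := shriekVia_iso_rightAdjoint_of_finite (MvPolynomial (Fin d) R) C m χ Rχ adjχ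
    R' adjR' (Dual2.shriekVia d R₁ (Dual.inD R R))
  have hW : ∀ i : ℤ, i < -(d : ℤ) → Subsingleton (Dual.HD (MvPolynomial (Fin d) R)
      (Dual2.shriekVia d R₁ (Dual.inD R R)) i) := fun i hi =>
    subsingleton_HD_shriekVia R (MvPolynomial (Fin d) R) d ψ₁ R₁ adj₁ (Dual.inD R R) 0 hK i
      (by omega)
  haveI := Groth.Agent.Lib.H6xShr.subsingleton_HD_rightAdjoint R' adjR'
    (Dual2.shriekVia d R₁ (Dual.inD R R)) (-(d : ℤ)) hW j hj
  exact ((DerivedCategory.homologyFunctor (ModuleCat.{u} C) j).mapIso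
    (e1 ≪≫ e2)).toLinearEquiv.toEquiv.subsingleton

end FinPoly

section QF

open AlgebraicGeometry

/-- an open immersion of affine schemes is a flat epimorphism of rings -/
lemma flat_and_isEpi_of_isOpenImmersion (C B : Type u) [CommRing C] [CommRing B] [Algebra C B]
    (hopen : IsOpenImmersion (Spec.map (CommRingCat.ofHom (algebraMap C B)))) :
    Module.Flat C B ∧ Algebra.IsEpi C B := by
  have hflat : (algebraMap C B).Flat := by
    have : Flat (Spec.map (CommRingCat.ofHom (algebraMap C B))) := inferInstance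
    exact Flat.SpecMap_iff.mp this
  refine ⟨RingHom.flat_algebraMap_iff.mp hflat, ?_⟩
  rw [← CommRingCat.epi_iff_epi]
  have hm : Mono (Spec.map (CommRingCat.ofHom (algebraMap C B))) := inferInstance
  have hm' : Mono (CommRingCat.ofHom (algebraMap C B)).op :=
    Scheme.Spec.mono_of_mono_map hm
  exact unop_epi_of_mono (CommRingCat.ofHom (algebraMap C B)).op

/-- **vanishing below the fibre dimension, local form**: if `B` is a flat epimorphic `A`-algebra of
finite type which is quasi-finite over `R[y_1..y_d]`, then `H^j((R → A)^! R) ⊗_A B = 0` for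
`j < -d` -/
theorem subsingleton_HD_extD_shriekVia_of_quasiFinite (R A : Type u) [CommRing R] [CommRing A]
    [IsNoetherianRing R] [IsNoetherianRing A] [Algebra R A]
    (n : ℕ) (ψ : MvPolynomial (Fin n) R →ₐ[R] A) (hψ : Function.Surjective ψ)
    [DRing.HasLBaseChange (algebraMap R (MvPolynomial (Fin n) R))]
    (Rψ : Dual.D (MvPolynomial (Fin n) R) ⥤ Dual.D A) (adj : DRing.restrictD ψ.toRingHom ⊣ Rψ)
    (B : Type u) [CommRing B] [Algebra A B] [Algebra R B] [IsScalarTower R A B]
    [Module.Flat A B] [Algebra.IsEpi A B] [Algebra.FiniteType A B]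
    (d : ℕ) (φ : MvPolynomial (Fin d) R →ₐ[R] B) (hφ : φ.toRingHom.QuasiFinite)
    (hφft : φ.toRingHom.FiniteType) (j : ℤ) (hj : j < -(d : ℤ)) :
    Subsingleton (Dual.HD B ((extD A B).obj (Dual2.shriekVia n Rψ (Dual.inD R R))) j) := by
  have hK : ∀ i : ℤ, i < 0 → Subsingleton (Dual.HD R (Dual.inD R R) i) := fun i hi =>
    ModuleCat.subsingleton_of_isZero (isZero_of_isGE (Dual.inD R R) 0 i hi)
  letI iPB : Algebra (MvPolynomial (Fin d) R) B := φ.toRingHom.toAlgebra
  haveI tRPB : IsScalarTower R (MvPolynomial (Fin d) R) B :=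
    IsScalarTower.of_algebraMap_eq' φ.comp_algebraMap.symm
  haveI : Algebra.FiniteType (MvPolynomial (Fin d) R) B := hφft
  haveI : Algebra.FinitePresentation (MvPolynomial (Fin d) R) B :=
    Algebra.FinitePresentation.of_finiteType.mp inferInstance
  haveI : Algebra.QuasiFinite (MvPolynomial (Fin d) R) B := hφ
  obtain ⟨C, iC, iPC, hfin, hfp, φ', s, hs, hbij⟩ :=
    Groth.Agent.Lib.R2H3.UFOpenA.exists_finite_model (A := MvPolynomial (Fin d) R) (B := B)
  letI iCB : Algebra C B := φ'.toRingHom.toAlgebra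
  haveI tPCB : IsScalarTower (MvPolynomial (Fin d) R) C B :=
    IsScalarTower.of_algebraMap_eq' φ'.comp_algebraMap.symm
  letI iRC : Algebra R C :=
    ((algebraMap (MvPolynomial (Fin d) R) C).comp (algebraMap R (MvPolynomial (Fin d) R))).toAlgebra
  haveI tRPC : IsScalarTower R (MvPolynomial (Fin d) R) C := IsScalarTower.of_algebraMap_eq' rfl
  haveI tRCB : IsScalarTower R C B := IsScalarTower.of_algebraMap_eq (fun r => by
    change algebraMap R B r = φ' (algebraMap (MvPolynomial (Fin d) R) C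
      (algebraMap R (MvPolynomial (Fin d) R) r))
    rw [φ'.commutes]
    exact IsScalarTower.algebraMap_apply R (MvPolynomial (Fin d) R) B r)
  have hopen : IsOpenImmersion (Spec.map (CommRingCat.ofHom (algebraMap C B))) :=
    Groth.Agent.Lib.R2H3.UFOpenC.isOpenImmersion_SpecMap_of_awayMap φ'.toRingHom s hs hbij
  obtain ⟨hfl, hep⟩ := flat_and_isEpi_of_isOpenImmersion C B hopen
  haveI := hfl
  haveI := hep
  haveI := hfin
  haveI : IsNoetherianRing C := IsNoetherianRing.of_finite (MvPolynomial (Fin d) R) C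
  haveI : Algebra.FiniteType C B :=
    Algebra.FiniteType.of_restrictScalars_finiteType (MvPolynomial (Fin d) R) C B
  haveI : Algebra.FiniteType R A := Algebra.FiniteType.of_surjective ψ hψ
  haveI : Algebra.FiniteType R B := Algebra.FiniteType.trans (inferInstance :
    Algebra.FiniteType R A) inferInstance
  haveI : Algebra.FiniteType R C := Algebra.FiniteType.trans (inferInstance :
    Algebra.FiniteType R (MvPolynomial (Fin d) R)) inferInstance
  obtain ⟨k, θ, hθ⟩ := Algebra.FiniteType.iff_quotient_mvPolynomial''.1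
    (inferInstance : Algebra.FiniteType R B)
  obtain ⟨e, θC, hθC⟩ := Algebra.FiniteType.iff_quotient_mvPolynomial''.1
    (inferInstance : Algebra.FiniteType R C)
  haveI := Groth.Agent.Lib.H6xHasLDerRing.hasLBaseChange
    (algebraMap R (MvPolynomial (Fin k) R))
  haveI := Groth.Agent.Lib.H6xHasLDerRing.hasLBaseChange
    (algebraMap R (MvPolynomial (Fin e) R))
  obtain ⟨Rθ, ⟨adjθ⟩⟩ := exists_rightAdjoint θ.toRingHom
  obtain ⟨RθC, ⟨adjθC⟩⟩ := exists_rightAdjoint θC.toRingHom
  obtain ⟨e1⟩ := shriekVia_flatEpi R A B n ψ hψ Rψ adj k θ hθ Rθ adjθ (Dual.inD R R) 0 hK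
  obtain ⟨e2⟩ := shriekVia_flatEpi R C B e θC hθC RθC adjθC k θ hθ Rθ adjθ (Dual.inD R R) 0 hK
  have hW : ∀ i : ℤ, i < -(d : ℤ) →
      Subsingleton (Dual.HD C (Dual2.shriekVia e RθC (Dual.inD R R)) i) := fun i hi =>
    subsingleton_HD_shriekVia_of_finite_over_poly R C d e θC hθC RθC adjθC i hi
  haveI := subsingleton_HD_extD (B := B) (Dual2.shriekVia e RθC (Dual.inD R R)) (-(d : ℤ)) hW j hj
  exact ((DerivedCategory.homologyFunctor (ModuleCat.{u} B) j).mapIso
    (e1.symm ≪≫ e2)).toLinearEquiv.toEquiv.subsingleton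

/-- if `M ⊗_A A_g = 0` and `g ∉ q` then `M_q = 0` -/
lemma subsingleton_localizedModule_of_away {A : Type u} [CommRing A] (M : Type u) [AddCommGroup M]
    [Module A M] (g : A) (q : Ideal A) [q.IsPrime] (hg : g ∉ q)
    (h : Subsingleton (Localization.Away g ⊗[A] M)) :
    Subsingleton (LocalizedModule q.primeCompl M) := by
  haveI : IsLocalizedModule (Submonoid.powers g) (TensorProduct.mk A (Localization.Away g) M 1) :=
    (isLocalizedModule_iff_isBaseChange (Submonoid.powers g) (Localization.Away g) _).mpr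
      (TensorProduct.isBaseChange A M (Localization.Away g))
  refine ⟨fun x y => ?_⟩
  have hz : ∀ z : LocalizedModule q.primeCompl M, z = 0 := by
    intro z
    induction z using LocalizedModule.induction_on with
    | h m s =>
      have h0 : TensorProduct.mk A (Localization.Away g) M 1 m = 0 := Subsingleton.elim _ _
      obtain ⟨c, hc⟩ := (IsLocalizedModule.eq_zero_iff (Submonoid.powers g)
        (TensorProduct.mk A (Localization.Away g) M 1)).mp h0
      obtain ⟨k, hk⟩ := c.2
      rw [← LocalizedModule.zero_mk s, LocalizedModule.mk_eq]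
      refine ⟨⟨g ^ k, ?_⟩, ?_⟩
      · intro hgk
        exact hg (‹q.IsPrime›.mem_of_pow_mem k hgk)
      · rw [smul_zero, smul_zero]
        have hc' : (g ^ k) • m = 0 := by
          have hk' : g ^ k = (c : A) := hk
          rw [hk']
          exact hc
        change (g ^ k) • s • m = 0
        rw [smul_comm, hc', smul_zero]
  rw [hz x, hz y]

open Groth.Agent.Lib.Helper4.FibDim in
/-- **S1785**: `H^i(ω_{A/R})_q ≠ 0` implies `-d ≤ i` for `d` the local dimension of the fibre at
`q` -/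
theorem HD_shriekVia_self_vanishing_below_fibre_dim (R A : Type u) [CommRing R] [CommRing A]
    [IsNoetherianRing R] [IsNoetherianRing A] [Algebra R A] (n : ℕ)
    (ψ : MvPolynomial (Fin n) R →ₐ[R] A) (hψ : Function.Surjective ψ)
    [DRing.HasLBaseChange (algebraMap R (MvPolynomial (Fin n) R))]
    (Rψ : Dual.D (MvPolynomial (Fin n) R) ⥤ Dual.D A) (adj : DRing.restrictD ψ.toRingHom ⊣ Rψ)
    (q : PrimeSpectrum A) (d : ℕ)
    (hd : FlatMor.fibreDimAt (AlgebraicGeometry.Spec.map
      (CommRingCat.ofHom (algebraMap R A))) q = d) (i : ℤ)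
    (h : Nontrivial (LocalizedModule q.asIdeal.primeCompl
      (Dual.HD A (Dual2.shriekVia n Rψ (Dual.inD R R)) i))) : -(d : ℤ) ≤ i := by
  by_contra hlt
  rw [not_le] at hlt
  haveI : Algebra.FiniteType R A := Algebra.FiniteType.of_surjective ψ hψ
  have hd' : fibLD (PrimeSpectrum.comap (algebraMap R A)) q ≤ (d : WithBot ℕ∞) := by
    have h1 := fibreDimAt_eq_fibLD (AlgebraicGeometry.Spec.map
      (CommRingCat.ofHom (algebraMap R A))) q
    rw [hd] at h1
    exact le_of_eq h1.symm
  rw [fibLD_comap_eq] at hd'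
  set p := PrimeSpectrum.comap (algebraMap R A) q with hp
  set Q := PrimeSpectrum.preimageHomeomorphFiber R A p ⟨q, rfl⟩ with hQ
  obtain ⟨g, hg, φ, hφft, hφ⟩ := exists_quasiFinite_away p.asIdeal Q d hd'
  have hQq : PrimeSpectrum.comap Algebra.TensorProduct.includeRight.toRingHom Q = q :=
    comap_includeRight_preimageHomeomorphFiber p.asIdeal ⟨q, rfl⟩
  have hgq : g ∉ q.asIdeal := by rw [← hQq]; exact hg
  obtain ⟨hfl, hep⟩ := flat_and_isEpi_of_isOpenImmersion A (Localization.Away g) inferInstance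
  haveI := hfl
  haveI := hep
  haveI hs := subsingleton_HD_extD_shriekVia_of_quasiFinite R A n ψ hψ Rψ adj
    (Localization.Away g) d φ hφ hφft i hlt
  let e : Dual.HD (Localization.Away g)
      ((extD A (Localization.Away g)).obj (Dual2.shriekVia n Rψ (Dual.inD R R))) i ≃ₗ[Localization.Away g]
      Localization.Away g ⊗[A] Dual.HD A (Dual2.shriekVia n Rψ (Dual.inD R R)) i :=
    (homologyMapDIso (ext A (Localization.Away g))
      (Dual2.shriekVia n Rψ (Dual.inD R R)) i).toLinearEquiv ≪≫ₗ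
    extEquiv (A := A) (B := Localization.Away g) (Dual.HD A (Dual2.shriekVia n Rψ (Dual.inD R R)) i)
  haveI : Subsingleton (Localization.Away g ⊗[A]
      Dual.HD A (Dual2.shriekVia n Rψ (Dual.inD R R)) i) := e.symm.toEquiv.subsingleton
  haveI := subsingleton_localizedModule_of_away
    (Dual.HD A (Dual2.shriekVia n Rψ (Dual.inD R R)) i) g q.asIdeal hgq inferInstance
  exact not_subsingleton _ ‹Subsingleton (LocalizedModule q.asIdeal.primeCompl
    (Dual.HD A (Dual2.shriekVia n Rψ (Dual.inD R R)) i))›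

end QF

end Groth.Agent.Lib.H6xShk
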