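import Mathlib
import Groth.Agent.Lib.H6xShkQ
set_option backward.isDefEq.respectTransparency.types false

/-!
# `RHom_Q(Q/t, Q) ≅ (Q/t)[-1]` for a nonzerodivisor `t` (helper6)

* `torsionFree_inD`: `t` is injective on `Hom(Q[-n], Q[0])`;
* `nonempty_rightAdjoint_inD_iso_of_nonZeroDivisor`: any right adjoint `G` of restriction of scalars
  along `Q → Q/t` satisfies `G(Q[0]) ≅ (Q/t)[-1]`;
* `nonempty_rightAdjoint_inD_iso_of_ringEquiv`: transfer along a ring isomorphism;
* `nonempty_rightAdjoint_inD_iso_of_ker_span`: the same for any surjection `Q → B` with kernel `(t)`.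
-/

set_option autoImplicit false
set_option linter.style.haveILetI false
universe u

namespace Groth.Agent.Lib.H6xShk

open CategoryTheory CategoryTheory.Limits HomologicalComplex DerivedCategory Pretriangulated
  TensorProduct
open Groth.Agent.Lib.Helper1.Extend Groth.Agent.Lib.H6xCoext
attribute [local instance] HasDerivedCategory.standard

section NZD

variable {Q₀ : Type u} [CommRing Q₀] (t : Q₀)

lemma smul_cm (E : DRing.Cx Q₀) (n : ℤ) (e : E.X n) (he : (E.d n (n + 1)).hom e = 0) :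
    t • cm E e he = cm E (t • e) (by rw [map_smul, he, smul_zero]) := by
  apply HomologicalComplex.from_single_hom_ext
  apply hom_ext_one
  rw [cm_f_one]
  change t • ((cm E e he).f n).hom (one Q₀ n) = t • e
  rw [cm_f_one]

/-- `t` is injective on `Hom(Q[-n], Q[0])` for a nonzerodivisor `t` -/
lemma torsionFree_inD (ht : t ∈ nonZeroDivisors Q₀) (n : ℤ)
    (x : Q.obj (Sg Q₀ n) ⟶ Dual.inD Q₀ Q₀) (hx : t • x = 0) : x = 0 := by
  let j : Dual.inD Q₀ Q₀ ≅ Q.obj (Sg Q₀ 0) :=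
    (singleFunctorIsoCompQ (ModuleCat.{u} Q₀) 0).app (ModuleCat.of Q₀ Q₀)
  rw [← cancel_mono j.hom, Limits.zero_comp]
  have hx' : t • (x ≫ j.hom) = 0 := by
    rw [← Linear.smul_comp, hx, Limits.zero_comp]
  obtain ⟨e, he, hxe⟩ := exists_Q_map_cm (Sg Q₀ 0) (x ≫ j.hom)
  rw [← hxe] at hx' ⊢
  rw [← Functor.map_smul, smul_cm, Q_map_cm_eq_zero_iff] at hx'
  obtain ⟨e', he'⟩ := hx'
  have h0 : t • e = 0 := by
    rw [← he', HomologicalComplex.single_obj_d]
    rfl
  have he0 : e = 0 := by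
    by_cases hn : n = 0
    · subst hn
      let ι := (HomologicalComplex.singleObjXSelf (ComplexShape.up ℤ) 0 (ModuleCat.of Q₀ Q₀))
      have h1 : t * ι.hom.hom e = 0 := by
        have := congrArg ι.hom.hom h0
        rw [map_smul, map_zero] at this
        exact this
      have h2 : ι.hom.hom e = 0 := by
        rw [mul_comm] at h1
        exact (mem_nonZeroDivisors_iff_right.mp ht) _ h1
      have h3 := congrArg ι.inv.hom h2
      rw [← ModuleCat.comp_apply, Iso.hom_inv_id, map_zero] at h3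
      exact h3
    · haveI := ModuleCat.subsingleton_of_isZero
        (HomologicalComplex.isZero_single_obj_X (ComplexShape.up ℤ) 0 (ModuleCat.of Q₀ Q₀) n hn)
      exact Subsingleton.elim _ _
  rw [Q_map_cm_eq_zero_iff]
  exact ⟨0, by rw [map_zero, he0]⟩

/-- the short complex `0 → Q --t--> Q → Q/t → 0` of `Q`-modules -/
noncomputable def sesT : ShortComplex (ModuleCat.{u} Q₀) :=
  ShortComplex.mk (ModuleCat.ofHom (X := ModuleCat.of Q₀ Q₀) (Y := ModuleCat.of Q₀ Q₀)
      (mt (B := Q₀) t))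
    (ModuleCat.ofHom (X := ModuleCat.of Q₀ Q₀) (Y := ModuleCat.of Q₀ (Qt t)) (πB (B := Q₀) t)) (by
      apply ModuleCat.hom_ext
      apply LinearMap.ext
      intro q
      exact (exact_mt_πB (B := Q₀) t _).2 ⟨q, rfl⟩)

lemma sesT_shortExact (ht : t ∈ nonZeroDivisors Q₀) : (sesT t).ShortExact := by
  refine ShortComplex.ShortExact.mk' ?_ ?_ ?_
  · rw [ShortComplex.moduleCat_exact_iff]
    intro x hx
    exact (exact_mt_πB (B := Q₀) t x).1 hx
  · refine (ModuleCat.mono_iff_injective _).2 ?_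
    change Function.Injective (mt (B := Q₀) t)
    intro x y hxy
    have h1 : t * x = t * y := hxy
    have h2 : (x - y) * t = 0 := by
      rw [mul_comm, mul_sub, h1, sub_self]
    exact sub_eq_zero.1 ((mem_nonZeroDivisors_iff_right.mp ht) _ h2)
  · refine (ModuleCat.epi_iff_surjective _).2 ?_
    exact πB_surjective (B := Q₀) t

lemma sesT_f : (DerivedCategory.singleFunctor (ModuleCat.{u} Q₀) 0).map (sesT t).f =
    t • 𝟙 (Dual.inD Q₀ Q₀) := by
  have h : ModuleCat.ofHom (X := ModuleCat.of Q₀ Q₀) (Y := ModuleCat.of Q₀ Q₀) (mt (B := Q₀) t) =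
      t • 𝟙 (ModuleCat.of Q₀ Q₀) := by
    apply ModuleCat.hom_ext
    apply LinearMap.ext
    intro q
    rfl
  change (DerivedCategory.singleFunctor (ModuleCat.{u} Q₀) 0).map
    (ModuleCat.ofHom (X := ModuleCat.of Q₀ Q₀) (Y := ModuleCat.of Q₀ Q₀) (mt (B := Q₀) t)) = _
  rw [h, Functor.map_smul, CategoryTheory.Functor.map_id]

variable (ht : t ∈ nonZeroDivisors Q₀) (G : Dual.D Q₀ ⥤ Dual.D (Qt t))
  (adj : DRing.restrictD (qm t) ⊣ G)

include ht adj in
/-- **`RHom_Q(Q/t, Q) ≅ (Q/t)[-1]`** for a nonzerodivisor `t` -/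
theorem nonempty_rightAdjoint_inD_iso_of_nonZeroDivisor :
    Nonempty (G.obj (Dual.inD Q₀ Q₀) ≅ (Dual.inD (Qt t) (Qt t))⟦(-1 : ℤ)⟧) := by
  have hS := sesT_shortExact t ht
  have hT := hS.singleTriangle_distinguished
  let σ : (DRing.restrictD (qm t)).obj (Dual.inD (Qt t) (Qt t)) ≅ Dual.inD Q₀ (Qt t) :=
    singleIso (A := Q₀) (B := Qt t)
  have hT₁ : Triangle.mk (t • 𝟙 (Dual.inD Q₀ Q₀))
      ((DerivedCategory.singleFunctor (ModuleCat.{u} Q₀) 0).map (sesT t).g ≫ σ.inv)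
      (σ.hom ≫ hS.singleδ) ∈ distTriang _ := by
    refine isomorphic_distinguished _ hT _ ?_
    refine Triangle.isoMk _ _ (Iso.refl _) (Iso.refl _) σ ?_ ?_ ?_
    · exact (Category.comp_id (t • 𝟙 (Dual.inD Q₀ Q₀))).trans
        ((sesT_f t).symm.trans (Category.id_comp _).symm)
    · exact (Category.assoc _ _ _).trans
        ((congrArg (fun z => (DerivedCategory.singleFunctor (ModuleCat.{u} Q₀) 0).map (sesT t).g ≫ z)
          σ.inv_hom_id).trans ((Category.comp_id _).trans (Category.id_comp _).symm))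
    · exact (congrArg (fun z => (σ.hom ≫ hS.singleδ) ≫ z)
        ((shiftFunctor (Dual.D Q₀) (1 : ℤ)).map_id _)).trans (Category.comp_id _)
  obtain ⟨e⟩ := nonempty_shift_iso_rightAdjoint t ht G adj (Dual.inD Q₀ Q₀)
    (torsionFree_inD t ht) (Dual.inD (Qt t) (Qt t)) _ _ hT₁
  exact ⟨e.symm⟩

end NZD

section Transfer

/-- a right adjoint of restriction of scalars along a ring isomorphism `e : B₁ ≃ B₂` sends `B₁[0]` to
`B₂[0]` -/
theorem nonempty_rightAdjoint_inD_iso_of_ringEquiv {B₁ B₂ : Type u} [CommRing B₁] [CommRing B₂]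
    (e : B₁ ≃+* B₂) (G : Dual.D B₁ ⥤ Dual.D B₂) (adj : DRing.restrictD e.toRingHom ⊣ G) :
    Nonempty (G.obj (Dual.inD B₁ B₁) ≅ Dual.inD B₂ B₂) := by
  have h1 : e.toRingHom.comp e.symm.toRingHom = RingHom.id B₂ := by
    ext b
    exact e.apply_symm_apply b
  have h2 : e.symm.toRingHom.comp e.toRingHom = RingHom.id B₁ := by
    ext b
    exact e.symm_apply_apply b
  obtain ⟨i⟩ := nonempty_iso_rightAdjoint_restrictD_of_inverse e.symm.toRingHom e.toRingHom h1 h2
    G adj (Dual.inD B₂ B₂)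
  letI : Algebra B₁ B₂ := e.toRingHom.toAlgebra
  let σ : (DRing.restrictD e.toRingHom).obj (Dual.inD B₂ B₂) ≅ Dual.inD B₁ B₂ :=
    singleIso (A := B₁) (B := B₂)
  let el : B₂ ≃ₗ[B₁] B₁ :=
    { toFun := e.symm
      invFun := e
      left_inv := e.apply_symm_apply
      right_inv := e.symm_apply_apply
      map_add' := map_add e.symm
      map_smul' := fun b x => by
        change e.symm (e b * x) = b * e.symm x
        rw [map_mul, e.symm_apply_apply] }
  let τ : Dual.inD B₁ B₂ ≅ Dual.inD B₁ B₁ :=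
    (DerivedCategory.singleFunctor (ModuleCat.{u} B₁) 0).mapIso el.toModuleIso
  exact ⟨G.mapIso (σ ≪≫ τ).symm ≪≫ i⟩

/-- **`RHom_Q(B, Q) ≅ B[-1]`** for `Q → B` surjective with kernel generated by a nonzerodivisor -/
theorem nonempty_rightAdjoint_inD_iso_of_ker_span {Q₁ B : Type u} [CommRing Q₁] [CommRing B]
    (φ : Q₁ →+* B) (hφ : Function.Surjective φ) (t : Q₁) (ht : t ∈ nonZeroDivisors Q₁)
    (hker : RingHom.ker φ = Ideal.span {t}) (G : Dual.D Q₁ ⥤ Dual.D B)
    (adj : DRing.restrictD φ ⊣ G) :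
    Nonempty (G.obj (Dual.inD Q₁ Q₁) ≅ (Dual.inD B B)⟦(-1 : ℤ)⟧) := by
  let e : Qt t ≃+* B :=
    (Ideal.quotEquivOfEq hker.symm).trans (RingHom.quotientKerEquivOfSurjective hφ)
  have he : φ = e.toRingHom.comp (qm t) := by
    ext q
    rfl
  obtain ⟨Gt, ⟨adjt⟩⟩ := exists_rightAdjoint (qm t)
  obtain ⟨Ge, ⟨adje⟩⟩ := exists_rightAdjoint e.toRingHom
  obtain ⟨c⟩ := nonempty_rightAdjoint_comp_iso (qm t) e.toRingHom φ he Gt adjt Ge adje G adj
  obtain ⟨i1⟩ := nonempty_rightAdjoint_inD_iso_of_nonZeroDivisor t ht Gt adjt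
  obtain ⟨i2⟩ := nonempty_rightAdjoint_inD_iso_of_ringEquiv e Ge adje
  exact ⟨c.app _ ≪≫ Ge.mapIso i1 ≪≫ rightAdjointShiftIso e.toRingHom Ge adje _ (-1 : ℤ) ≪≫
    (shiftFunctor (Dual.D B) (-1 : ℤ)).mapIso i2⟩

end Transfer

end Groth.Agent.Lib.H6xShk
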