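import Mathlib
import Groth.Agent.Lib.H6xShkR
import Groth.Agent.Lib.H6xKzTails
set_option backward.isDefEq.respectTransparency.types false

/-!
# The relative dualizing complex of a local complete intersection is invertible (helper6)

* `nonempty_rightAdjoint_inD_iso_of_tails`: `RHom_Q(B, Q) ≅ B[-c]` for `Q → B` surjective with kernel
  generated by a sequence of length `c` all of whose tails are Koszul-regular;
* `nonempty_extD_rightAdjoint_inD_iso_of_tails`: localized form, via flat base change for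
  `RHom_P(A, -)`;
* `shriekVia_self_invertible_of_isLCI` (S1828).
-/

set_option autoImplicit false
set_option linter.style.haveILetI false
universe u

namespace Groth.Agent.Lib.H6xShk

open CategoryTheory CategoryTheory.Limits HomologicalComplex DerivedCategory Pretriangulated
  TensorProduct
open Groth.Agent.Lib.Helper1.Extend Groth.Agent.Lib.H6xCoext Groth.Agent.Lib.H6xKzTails
attribute [local instance] HasDerivedCategory.standard

section Main

variable {Q₀ : Type u} [CommRing Q₀]

/-- **`RHom_Q(B, Q) ≅ B[-c]`** for `Q → B` surjective with kernel generated by a sequence of length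
`c` all of whose tails are Koszul-regular -/
theorem nonempty_rightAdjoint_inD_iso_of_tails :
    ∀ (l : List Q₀), Tails Q₀ l → ∀ (B : Type u) [CommRing B] (φ : Q₀ →+* B),
      Function.Surjective φ → RingHom.ker φ = Ideal.ofList l →
      ∀ (G : Dual.D Q₀ ⥤ Dual.D B) (_ : DRing.restrictD φ ⊣ G),
      Nonempty (G.obj (Dual.inD Q₀ Q₀) ≅ (Dual.inD B B)⟦-(l.length : ℤ)⟧)
  | [], _, B, _, φ, hφ, hker, G, adj => by
    rw [Ideal.ofList_nil] at hker
    have hinj : Function.Injective φ := (RingHom.injective_iff_ker_eq_bot φ).mpr hker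
    let e : Q₀ ≃+* B := RingEquiv.ofBijective φ ⟨hinj, hφ⟩
    have he : e.toRingHom = φ := by
      ext q
      rfl
    have adj' : DRing.restrictD e.toRingHom ⊣ G := by
      rw [he]
      exact adj
    obtain ⟨i⟩ := nonempty_rightAdjoint_inD_iso_of_ringEquiv e G adj'
    exact ⟨i ≪≫ ((shiftFunctorZero' (Dual.D B) (-(([] : List Q₀).length : ℤ))
      (by simp)).app _).symm⟩
  | t :: l, hT, B, _, φ, hφ, hker, G, adj => by
    have hKl : LCI.IsKoszulRegularSeq Q₀ l := hT.2.head
    let π : Q₀ →+* Q₀ ⧸ Ideal.ofList l := Ideal.Quotient.mk (Ideal.ofList l)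
    have hπ : Function.Surjective π := Ideal.Quotient.mk_surjective
    obtain ⟨G₁, ⟨adj₁⟩⟩ := exists_rightAdjoint π
    obtain ⟨i₁⟩ := nonempty_rightAdjoint_inD_iso_of_tails l hT.2 (Q₀ ⧸ Ideal.ofList l) π hπ
      Ideal.mk_ker G₁ adj₁
    have hreg1 : LCI.IsKoszulRegularSeq (Q₀ ⧸ Ideal.ofList l) ([t].map π) :=
      Groth.Agent.Lib.R2H3.KzQuot.isKoszulRegularSeq_quot_of_append l [t] hKl hT.1
    have ht : π t ∈ nonZeroDivisors (Q₀ ⧸ Ideal.ofList l) :=
      mem_nonZeroDivisors_of_isKoszulRegularSeq_singleton (π t) hreg1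
    have hle : Ideal.ofList l ≤ RingHom.ker φ := by
      rw [hker, Ideal.ofList_cons]
      exact le_sup_right
    let φ₁ : Q₀ ⧸ Ideal.ofList l →+* B := Ideal.Quotient.lift (Ideal.ofList l) φ
      (fun x hx => hle hx)
    have hφ₁π : φ = φ₁.comp π := by
      ext q
      rfl
    have hφ₁ : Function.Surjective φ₁ := by
      intro b
      obtain ⟨q, rfl⟩ := hφ b
      exact ⟨π q, rfl⟩
    have hker₁ : RingHom.ker φ₁ = Ideal.span {π t} := by
      have h1 := Ideal.ker_quotient_lift (I := Ideal.ofList l) φ hle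
      rw [hker, Ideal.ofList_cons, Ideal.map_sup, Ideal.map_span, Set.image_singleton,
        Ideal.map_quotient_self, sup_bot_eq] at h1
      exact h1
    obtain ⟨G₂, ⟨adj₂⟩⟩ := exists_rightAdjoint φ₁
    obtain ⟨i₂⟩ := nonempty_rightAdjoint_inD_iso_of_ker_span φ₁ hφ₁ (π t) ht hker₁ G₂ adj₂
    obtain ⟨c⟩ := nonempty_rightAdjoint_comp_iso π φ₁ φ hφ₁π G₁ adj₁ G₂ adj₂ G adj
    exact ⟨c.app _ ≪≫ G₂.mapIso i₁ ≪≫ rightAdjointShiftIso φ₁ G₂ adj₂ _ (-(l.length : ℤ)) ≪≫
      (shiftFunctor (Dual.D B) (-(l.length : ℤ))).mapIso i₂ ≪≫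
      ((shiftFunctorAdd' (Dual.D B) (-1 : ℤ) (-(l.length : ℤ)) (-((t :: l).length : ℤ))
        (by rw [List.length_cons]; push_cast; ring)).app _).symm⟩

end Main

section Loc

open MvPolynomial

/-- flat extension of scalars of the ring itself -/
noncomputable def extDInDSelfIso (A B : Type u) [CommRing A] [CommRing B] [Algebra A B]
    [Module.Flat A B] : (extD A B).obj (Dual.inD A A) ≅ Dual.inD B B :=
  extDInDIso (A := A) (B := B) A ≪≫ (DerivedCategory.singleFunctor (ModuleCat.{u} B) 0).mapIso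
    (TensorProduct.AlgebraTensorModule.rid A B B).toModuleIso

/-- **localized form**: if the kernel of `f₀ : P → A` is generated, after inverting `s`, by a
sequence with Koszul-regular tails, then `RHom_P(A, P) ⊗_A A_{f₀ s} ≅ A_{f₀ s}[-c]` -/
theorem nonempty_extD_rightAdjoint_inD_iso_of_tails (P A : Type u) [CommRing P] [CommRing A]
    [IsNoetherianRing P] (f₀ : P →+* A) (hf₀ : Function.Surjective f₀)
    (Rf₀ : Dual.D P ⥤ Dual.D A) (adj₀ : DRing.restrictD f₀ ⊣ Rf₀) (s : P)
    (l : List (Localization.Away s)) (hT : Tails (Localization.Away s) l)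
    (hl : (RingHom.ker f₀).map (algebraMap P (Localization.Away s)) = Ideal.ofList l) :
    Nonempty ((extD A (Localization.Away (f₀ s))).obj (Rf₀.obj (Dual.inD P P)) ≅
      (Dual.inD (Localization.Away (f₀ s)) (Localization.Away (f₀ s)))⟦-(l.length : ℤ)⟧) := by
  letI iPA : Algebra P A := f₀.toAlgebra
  haveI hloc : IsLocalization ((Submonoid.powers s).map f₀) (Localization.Away (f₀ s)) := by
    rw [Submonoid.map_powers]
    exact (inferInstance : IsLocalization.Away (f₀ s) (Localization.Away (f₀ s)))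
  let φ' : Localization.Away s →+* Localization.Away (f₀ s) :=
    IsLocalization.map (M := Submonoid.powers s) (T := (Submonoid.powers s).map f₀)
      (Localization.Away (f₀ s)) f₀ (Submonoid.le_comap_map _)
  have hφ' : Function.Surjective φ' :=
    IsLocalization.map_surjective_of_surjective (Submonoid.powers s) (Localization.Away s)
      (Localization.Away (f₀ s)) hf₀
  have hker' : RingHom.ker φ' = Ideal.ofList l := by
    rw [← hl]
    exact IsLocalization.ker_map (S := Localization.Away s) (Localization.Away (f₀ s)) f₀ rfl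
  letI iP'A' : Algebra (Localization.Away s) (Localization.Away (f₀ s)) := φ'.toAlgebra
  haveI t2 : IsScalarTower P (Localization.Away s) (Localization.Away (f₀ s)) :=
    IsScalarTower.of_algebraMap_eq' (by
      rw [IsScalarTower.algebraMap_eq P A (Localization.Away (f₀ s))]
      exact (IsLocalization.map_comp _).symm)
  haveI hloc' : IsLocalization (Algebra.algebraMapSubmonoid A (Submonoid.powers s))
      (Localization.Away (f₀ s)) := hloc
  haveI hpo : Algebra.IsPushout P A (Localization.Away s) (Localization.Away (f₀ s)) :=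
    Algebra.isPushout_of_isLocalization (Submonoid.powers s) (Localization.Away s) A
      (Localization.Away (f₀ s))
  haveI hpo' : Algebra.IsPushout P (Localization.Away s) A (Localization.Away (f₀ s)) := hpo.symm
  haveI : Module.Finite P A := Module.Finite.of_surjective (Algebra.linearMap P A) hf₀
  have hB : DRing.IsPseudoCoherentModule' P A :=
    (Groth.Agent.S6942.result P 0 (Dual.inD P P) A).2.2 inferInstance
  have hL : ∀ i : ℤ, i < 0 → Subsingleton (Dual.HD P (Dual.inD P P) i) := fun i hi =>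
    ModuleCat.subsingleton_of_isZero (isZero_of_isGE (Dual.inD P P) 0 i hi)
  obtain ⟨G', ⟨adj'⟩⟩ := exists_rightAdjoint φ'
  obtain ⟨e1⟩ := nonempty_extD_rightAdjoint_iso P (Localization.Away s) A
    (Localization.Away (f₀ s)) Rf₀ adj₀ G' adj' (Dual.inD P P) hB ⟨0, hL⟩
  obtain ⟨e2⟩ := nonempty_rightAdjoint_inD_iso_of_tails l hT (Localization.Away (f₀ s)) φ' hφ'
    hker' G' adj'
  exact ⟨e1 ≪≫ G'.mapIso (extDInDSelfIso P (Localization.Away s)) ≪≫ e2⟩

/-- **S1828**: the relative dualizing complex of a local complete intersection ring map is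
invertible -/
theorem shriekVia_self_invertible_of_isLCI (R A : Type u) [CommRing R] [CommRing A]
    [IsNoetherianRing R] [IsNoetherianRing A] [Algebra R A] (hl : LCI.IsLCI R A) (n : ℕ)
    (ψ : MvPolynomial (Fin n) R →ₐ[R] A) (hψ : Function.Surjective ψ)
    [DRing.HasLBaseChange (algebraMap R (MvPolynomial (Fin n) R))]
    (Rψ : Dual.D (MvPolynomial (Fin n) R) ⥤ Dual.D A) (adj : DRing.restrictD ψ.toRingHom ⊣ Rψ)
    [hL : ∀ f : A, DRing.HasLBaseChange (algebraMap A (Localization.Away f))]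
    (q : PrimeSpectrum A) :
    ∃ (f : A) (_ : f ∉ q.asIdeal) (m : ℤ),
      Nonempty ((DRing.LBaseChange (algebraMap A (Localization.Away f))).obj
        (Dual2.shriekVia n Rψ (Dual.inD R R)) ≅
          (Dual.inD (Localization.Away f) (Localization.Away f))⟦m⟧) := by
  obtain ⟨-, n₀, f₀, hf₀, hI⟩ := hl
  let 𝔮 : Ideal (MvPolynomial (Fin n₀) R) := q.asIdeal.comap f₀.toRingHom
  haveI h𝔮 : 𝔮.IsPrime := Ideal.comap_isPrime _ _
  have hI𝔮 : RingHom.ker f₀.toRingHom ≤ 𝔮 := by
    intro x hx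
    change f₀.toRingHom x ∈ q.asIdeal
    rw [RingHom.mem_ker.mp hx]
    exact zero_mem _
  obtain ⟨g, hg, l₀, hl₀K, hl₀I⟩ := hI ⟨𝔮, h𝔮⟩ hI𝔮
  have hg' : g ∉ 𝔮 := hg
  have hdisj : Disjoint (Submonoid.powers g : Set (MvPolynomial (Fin n₀) R)) (𝔮 : Set _) := by
    rw [Set.disjoint_left]
    rintro x ⟨j, rfl⟩ hx
    exact hg' (h𝔮.mem_of_pow_mem j hx)
  haveI hp : (𝔮.map (algebraMap (MvPolynomial (Fin n₀) R) (Localization.Away g))).IsPrime :=
    IsLocalization.isPrime_of_isPrime_disjoint (Submonoid.powers g) _ 𝔮 h𝔮 hdisj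
  have hmem : ∀ x ∈ l₀, x ∈ 𝔮.map (algebraMap (MvPolynomial (Fin n₀) R) (Localization.Away g)) := by
    intro x hx
    apply Ideal.map_mono hI𝔮
    rw [hl₀I]
    exact Ideal.subset_span hx
  obtain ⟨h, hh, hT⟩ := exists_tails
    (𝔮.map (algebraMap (MvPolynomial (Fin n₀) R) (Localization.Away g))) l₀ hl₀K hmem
  obtain ⟨k, a, ha⟩ := IsLocalization.Away.surj g h
  have ha𝔮 : a ∉ 𝔮 := by
    intro ha'
    have h1 : algebraMap (MvPolynomial (Fin n₀) R) (Localization.Away g) a ∈
        𝔮.map (algebraMap _ _) := Ideal.mem_map_of_mem _ ha'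
    rw [← ha] at h1
    rcases hp.mem_or_mem h1 with h2 | h2
    · exact hh h2
    · apply hp.ne_top
      apply Ideal.eq_top_of_isUnit_mem _ h2
      exact (IsLocalization.Away.algebraMap_isUnit g).pow k
  have hs : g * a ∉ 𝔮 := fun h' => (h𝔮.mem_or_mem h').elim hg' ha𝔮
  have hus : IsUnit (algebraMap (MvPolynomial (Fin n₀) R) (Localization.Away (g * a)) (g * a)) :=
    IsLocalization.Away.algebraMap_isUnit (g * a)
  rw [map_mul] at hus
  have hug : IsUnit (algebraMap (MvPolynomial (Fin n₀) R) (Localization.Away (g * a)) g) :=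
    isUnit_of_mul_isUnit_left hus
  have hua : IsUnit (algebraMap (MvPolynomial (Fin n₀) R) (Localization.Away (g * a)) a) :=
    isUnit_of_mul_isUnit_right hus
  obtain ⟨φg, hφg1, hφg2⟩ := exists_lift_away g (Localization.Away (g * a)) hug
  letI : Algebra (Localization.Away g) (Localization.Away (g * a)) := φg.toAlgebra
  haveI : Module.Flat (Localization.Away g) (Localization.Away (g * a)) := hφg2
  have hφga : φg (algebraMap (MvPolynomial (Fin n₀) R) (Localization.Away g) a) =
      algebraMap (MvPolynomial (Fin n₀) R) (Localization.Away (g * a)) a := by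
    rw [← hφg1]
    rfl
  have huh : IsUnit (algebraMap (Localization.Away g) (Localization.Away (g * a)) h) := by
    have h1 : φg h * φg (algebraMap _ _ g) ^ k = φg (algebraMap _ _ a) := by
      rw [← map_pow, ← map_mul, ha]
    rw [hφga] at h1
    exact isUnit_of_mul_isUnit_left (h1 ▸ hua)
  have hT' := hT (Localization.Away (g * a)) huh
  have hl' : (RingHom.ker f₀.toRingHom).map
      (algebraMap (MvPolynomial (Fin n₀) R) (Localization.Away (g * a))) =
      Ideal.ofList (l₀.map (algebraMap (Localization.Away g) (Localization.Away (g * a)))) := by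
    rw [← hφg1, ← Ideal.map_map, hl₀I]
    exact Ideal.map_ofList φg l₀
  obtain ⟨Rf₀, ⟨adj₀⟩⟩ := exists_rightAdjoint f₀.toRingHom
  obtain ⟨e1⟩ := nonempty_extD_rightAdjoint_inD_iso_of_tails (MvPolynomial (Fin n₀) R) A
    f₀.toRingHom hf₀ Rf₀ adj₀ (g * a) _ hT' hl'
  haveI := Groth.Agent.Lib.H6xHasLDerRing.hasLBaseChange
    (algebraMap R (MvPolynomial (Fin n₀) R))
  obtain ⟨e2⟩ := shriekVia_independent R A n ψ hψ Rψ adj n₀ f₀ hf₀ Rf₀ adj₀ (Dual.inD R R)
  obtain ⟨a1⟩ := Groth.Agent.Lib.H6xPCDesc.nonempty_lbc_iso_extD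
    (A := A) (B := Localization.Away (f₀.toRingHom (g * a)))
    (Dual2.shriekVia n Rψ (Dual.inD R R))
  obtain ⟨a2⟩ := Groth.Agent.Lib.H6xPCDesc.nonempty_lbc_iso_extD
    (A := R) (B := MvPolynomial (Fin n₀) R) (Dual.inD R R)
  let r : Dual2.shriekVia n₀ Rf₀ (Dual.inD R R) ≅
      (Rf₀.obj (Dual.inD (MvPolynomial (Fin n₀) R) (MvPolynomial (Fin n₀) R)))⟦(n₀ : ℤ)⟧ :=
    (shiftFunctor (Dual.D A) (n₀ : ℤ)).mapIso
      (Rf₀.mapIso (a2 ≪≫ extDInDSelfIso R (MvPolynomial (Fin n₀) R)))
  refine ⟨f₀.toRingHom (g * a), hs, -((l₀.map (algebraMap (Localization.Away g)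
    (Localization.Away (g * a)))).length : ℤ) + (n₀ : ℤ), ⟨?_⟩⟩
  exact a1 ≪≫ (extD A (Localization.Away (f₀.toRingHom (g * a)))).mapIso (e2 ≪≫ r) ≪≫
    ((extD A (Localization.Away (f₀.toRingHom (g * a)))).commShiftIso (n₀ : ℤ)).app _ ≪≫
    (shiftFunctor (Dual.D (Localization.Away (f₀.toRingHom (g * a)))) (n₀ : ℤ)).mapIso e1 ≪≫
    ((shiftFunctorAdd' (Dual.D (Localization.Away (f₀.toRingHom (g * a))))
      (-((l₀.map (algebraMap (Localization.Away g) (Localization.Away (g * a)))).length : ℤ))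
      (n₀ : ℤ) _ rfl).app _).symm

end Loc

end Groth.Agent.Lib.H6xShk
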