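import Mathlib
import Groth.Prelude.Def_FlatCA
import Groth.Agent.Lib.H6xJF

/-!
# Standard shrinking of a complete dévissage: data and rings (helper6)
-/

set_option autoImplicit false
universe u

namespace Groth.Agent.Lib.H6xShrDev

open Groth.Agent.Lib

variable {R S : Type u} [CommRing R] [CommRing S] [Algebra R S] {N : Type u} [AddCommGroup N]
  [Module S N] {p : Ideal R} [p.IsPrime]

/-- the elements defining a standard shrinking of a complete dévissage. -/
structure ShrinkData (𝒟 : FlatCA.CompleteDevissage R S N p) where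
  /-- the element of the base -/
  g : R
  /-- the element of `S`, up to the factor `g` -/
  s : S
  /-- the elements of the smooth algebras, up to the factor `g` -/
  c : ∀ i, 𝒟.B i
  chain0 : algebraMap (𝒟.B 0) (𝒟.A 0) (c 0) = algebraMap S (𝒟.A 0) s
  chain : ∀ i, i + 1 < 𝒟.n →
    algebraMap (𝒟.B (i + 1)) (𝒟.A (i + 1)) (c (i + 1)) = algebraMap (𝒟.B i) (𝒟.A (i + 1)) (c i)

namespace ShrinkData

variable {𝒟 : FlatCA.CompleteDevissage R S N p} (D : ShrinkData 𝒟)

/-- the element of `S` -/
def hX : S := D.s * algebraMap R S D.g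

/-- the elements of the `B i` -/
def b (i : ℕ) : 𝒟.B i := D.c i * algebraMap R (𝒟.B i) D.g

/-- the elements of the `A i` -/
def a : (i : ℕ) → 𝒟.A i
  | 0 => algebraMap S (𝒟.A 0) D.hX
  | (i + 1) => algebraMap (𝒟.B i) (𝒟.A (i + 1)) (D.b i)

lemma a_zero : D.a 0 = algebraMap S (𝒟.A 0) D.hX := rfl
lemma a_succ (i : ℕ) : D.a (i + 1) = algebraMap (𝒟.B i) (𝒟.A (i + 1)) (D.b i) := rfl

lemma map_b_eq_a (i : ℕ) (h : i < 𝒟.n) : algebraMap (𝒟.B i) (𝒟.A i) (D.b i) = D.a i := by
  cases i with
  | zero =>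
    rw [a_zero, b, hX, map_mul, map_mul, D.chain0, ← IsScalarTower.algebraMap_apply R (𝒟.B 0) (𝒟.A 0),
      ← IsScalarTower.algebraMap_apply R S (𝒟.A 0)]
  | succ i =>
    rw [a_succ, b, b, map_mul, map_mul, D.chain i h,
      ← IsScalarTower.algebraMap_apply R (𝒟.B (i + 1)) (𝒟.A (i + 1)),
      ← IsScalarTower.algebraMap_apply R (𝒟.B i) (𝒟.A (i + 1))]

/-- `a i` is a multiple of the image of `g`. -/
lemma g_dvd_a (i : ℕ) : algebraMap R (𝒟.A i) D.g ∣ D.a i := by
  cases i with
  | zero =>
    rw [a_zero, hX, map_mul, ← IsScalarTower.algebraMap_apply R S (𝒟.A 0)]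
    exact Dvd.intro_left _ rfl
  | succ i =>
    rw [a_succ, b, map_mul, ← IsScalarTower.algebraMap_apply R (𝒟.B i) (𝒟.A (i + 1))]
    exact Dvd.intro_left _ rfl

/-- the shrunken base -/
abbrev R' : Type u := Localization.Away D.g
/-- the shrunken algebra -/
abbrev S' : Type u := Localization.Away D.hX
/-- the honest localizations of the `A i` -/
abbrev gA (i : ℕ) : Type u := Localization.Away (D.a i)
/-- the honest localizations of the `B i` -/
abbrev gB (i : ℕ) : Type u := Localization.Away (D.b i)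
/-- the localized modules -/
abbrev gM (i : ℕ) : Type u := LocalizedModule (Submonoid.powers (D.a i)) (𝒟.M i)

end ShrinkData

/-- an element dividing `y` becomes a unit in the localization away from `y`. -/
lemma isUnit_of_dvd {A : Type u} [CommRing A] {x y : A} (h : x ∣ y) :
    IsUnit (algebraMap A (Localization.Away y) x) := by
  obtain ⟨z, rfl⟩ := h
  have := IsLocalization.Away.algebraMap_isUnit (S := Localization.Away (x * z)) (x * z)
  rw [map_mul] at this
  exact isUnit_of_mul_isUnit_left this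

lemma isUnit_of_dvd' {R₀ A : Type u} [CommRing R₀] [CommRing A] [Algebra R₀ A] {x : R₀} {y : A}
    (h : algebraMap R₀ A x ∣ y) : IsUnit (algebraMap R₀ (Localization.Away y) x) := by
  rw [IsScalarTower.algebraMap_apply R₀ A (Localization.Away y)]
  exact isUnit_of_dvd h

namespace ShrinkData

variable {𝒟 : FlatCA.CompleteDevissage R S N p} (D : ShrinkData 𝒟)

lemma isUnit_g_S' : IsUnit (algebraMap R D.S' D.g) :=
  isUnit_of_dvd' (Dvd.intro_left _ rfl)

lemma isUnit_g_gB (i : ℕ) : IsUnit (algebraMap R (D.gB i) D.g) :=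
  isUnit_of_dvd' (Dvd.intro_left _ rfl)

lemma isUnit_g_gA (i : ℕ) : IsUnit (algebraMap R (D.gA i) D.g) :=
  isUnit_of_dvd' (D.g_dvd_a i)

noncomputable instance algR'S' : Algebra D.R' D.S' :=
  (IsLocalization.Away.lift D.g D.isUnit_g_S').toAlgebra
instance : IsScalarTower R D.R' D.S' :=
  .of_algebraMap_eq fun r => (IsLocalization.Away.lift_eq D.g D.isUnit_g_S' r).symm

noncomputable instance algR'gB (i : ℕ) : Algebra D.R' (D.gB i) :=
  (IsLocalization.Away.lift D.g (D.isUnit_g_gB i)).toAlgebra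
instance (i : ℕ) : IsScalarTower R D.R' (D.gB i) :=
  .of_algebraMap_eq fun r => (IsLocalization.Away.lift_eq D.g (D.isUnit_g_gB i) r).symm

noncomputable instance algR'gA (i : ℕ) : Algebra D.R' (D.gA i) :=
  (IsLocalization.Away.lift D.g (D.isUnit_g_gA i)).toAlgebra
instance (i : ℕ) : IsScalarTower R D.R' (D.gA i) :=
  .of_algebraMap_eq fun r => (IsLocalization.Away.lift_eq D.g (D.isUnit_g_gA i) r).symm

/-- two `R`-compatible ring maps out of `R'` agree. -/
lemma algHom_R'_ext {Z : Type u} [CommRing Z] [Algebra R Z] [Algebra D.R' Z] [IsScalarTower R D.R' Z]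
    (f : D.R' →+* Z) (hf : ∀ r : R, f (algebraMap R D.R' r) = algebraMap R Z r) :
    f = algebraMap D.R' Z := by
  apply IsLocalization.ringHom_ext (Submonoid.powers D.g)
  ext r
  simp only [RingHom.comp_apply]
  rw [hf, ← IsScalarTower.algebraMap_apply]

end ShrinkData

end Groth.Agent.Lib.H6xShrDev
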