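import Mathlib
import Groth.Prelude.Def_FlatCA
import Groth.Agent.Lib.H6xShrDev1

/-!
# Standard shrinking of a complete dévissage: junk-fixed rings and maps (helper6)
-/

set_option autoImplicit false
universe u

namespace Groth.Agent.Lib.H6xShrDev

open Groth.Agent.Lib

variable {R S : Type u} [CommRing R] [CommRing S] [Algebra R S] {N : Type u} [AddCommGroup N]
  [Module S N] {p : Ideal R} [p.IsPrime]

namespace ShrinkData

variable {𝒟 : FlatCA.CompleteDevissage R S N p} (D : ShrinkData 𝒟)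

section LiftAway

variable {X Z : Type u} [CommRing X] [CommRing Z] [Algebra R X] [Algebra R Z] [Algebra X Z]
  [IsScalarTower R X Z] (x : X) [Algebra D.R' (Localization.Away x)]
  [IsScalarTower R D.R' (Localization.Away x)] [Algebra D.R' Z] [IsScalarTower R D.R' Z]

/-- lifting a map out of a localization, as a map of `R'`-algebras. -/
noncomputable def liftAway (h : IsUnit (algebraMap X Z x)) : Localization.Away x →ₐ[D.R'] Z :=
  { IsLocalization.Away.lift x h with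
    commutes' := fun r => by
      have := D.algHom_R'_ext ((IsLocalization.Away.lift x h).comp
        (algebraMap D.R' (Localization.Away x))) (fun r => by
          rw [RingHom.comp_apply, ← IsScalarTower.algebraMap_apply R D.R' (Localization.Away x),
            IsScalarTower.algebraMap_apply R X (Localization.Away x), IsLocalization.Away.lift_eq,
            ← IsScalarTower.algebraMap_apply R X Z])
      exact RingHom.congr_fun this r }

lemma liftAway_algebraMap (h : IsUnit (algebraMap X Z x)) (y : X) :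
    D.liftAway x h (algebraMap X (Localization.Away x) y) = algebraMap X Z y :=
  IsLocalization.Away.lift_eq x h y

end LiftAway

lemma isUnit_b_gA' (i : ℕ) : IsUnit (algebraMap (𝒟.B i) (D.gA (i + 1)) (D.b i)) := by
  rw [IsScalarTower.algebraMap_apply (𝒟.B i) (𝒟.A (i + 1)) (D.gA (i + 1))]
  exact IsLocalization.Away.algebraMap_isUnit (D.a (i + 1))

lemma isUnit_b_gA (i : ℕ) (h : i < 𝒟.n) : IsUnit (algebraMap (𝒟.B i) (D.gA i) (D.b i)) := by
  rw [IsScalarTower.algebraMap_apply (𝒟.B i) (𝒟.A i) (D.gA i), D.map_b_eq_a i h]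
  exact IsLocalization.Away.algebraMap_isUnit (D.a i)

lemma isUnit_hX_gA : IsUnit (algebraMap S (D.gA 0) D.hX) := by
  rw [IsScalarTower.algebraMap_apply S (𝒟.A 0) (D.gA 0)]
  exact IsLocalization.Away.algebraMap_isUnit (D.a 0)

/-- `B_i[1/b_i] → A_{i+1}[1/a_{i+1}]` -/
noncomputable def toA'₀ (i : ℕ) : D.gB i →ₐ[D.R'] D.gA (i + 1) :=
  D.liftAway (D.b i) (D.isUnit_b_gA' i)

/-- `B_i[1/b_i] → A_i[1/a_i]` for good `i` -/
noncomputable def toA₀ (i : ℕ) (h : i < 𝒟.n) : D.gB i →ₐ[D.R'] D.gA i :=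
  D.liftAway (D.b i) (D.isUnit_b_gA i h)

/-- `S[1/hX] → A_0[1/a_0]` -/
noncomputable def toS₀ : D.S' →ₐ[D.R'] D.gA 0 :=
  D.liftAway D.hX D.isUnit_hX_gA

/-- the junk-fixed smooth algebras: `B_i[1/b_i]` for `i < n`, `R'` otherwise. -/
abbrev T (i : ℕ) : Type u := H6xJF.Q (D.gB i) D.R' (i < 𝒟.n)

/-- the junk-fixed rings `A'_i`: `A_i[1/a_i]` for `i < n`, `T (i-1)` otherwise. -/
abbrev TA (i : ℕ) : Type u := H6xJF.Q (D.gA i) (D.T (i - 1)) (i < 𝒟.n)

/-- quotient map onto `T i` -/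
noncomputable abbrev mkT (i : ℕ) : D.gB i × D.R' →ₐ[D.R'] D.T i := H6xJF.mk D.R' _ _ _
/-- quotient map onto `TA i` -/
noncomputable abbrev mkTA (i : ℕ) : D.gA i × D.T (i - 1) →ₐ[D.R'] D.TA i := H6xJF.mk D.R' _ _ _

open Classical in
/-- the honest map `T i → A_i[1/a_i]` -/
noncomputable def ρ0 (i : ℕ) : D.T i →ₐ[D.R'] D.gA i :=
  H6xJF.lift D.R' _ _ _
    (if h : i < 𝒟.n then (D.toA₀ i h).comp (AlgHom.fst D.R' _ _)
      else (Algebra.ofId D.R' (D.gA i)).comp (AlgHom.snd D.R' _ _))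
    (by
      intro x hx
      by_cases h : i < 𝒟.n
      · rw [H6xJF.mem_K_pos _ _ h] at hx
        simp [dif_pos h, hx]
      · rw [H6xJF.mem_K_neg _ _ h] at hx
        simp [dif_neg h, hx])

open Classical in
/-- the honest map `T i → A_{i+1}[1/a_{i+1}]` -/
noncomputable def ρ1 (i : ℕ) : D.T i →ₐ[D.R'] D.gA (i + 1) :=
  H6xJF.lift D.R' _ _ _
    (if i < 𝒟.n then (D.toA'₀ i).comp (AlgHom.fst D.R' _ _)
      else (Algebra.ofId D.R' (D.gA (i + 1))).comp (AlgHom.snd D.R' _ _))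
    (by
      intro x hx
      by_cases h : i < 𝒟.n
      · rw [H6xJF.mem_K_pos _ _ h] at hx
        simp [if_pos h, hx]
      · rw [H6xJF.mem_K_neg _ _ h] at hx
        simp [if_neg h, hx])

lemma ρ0_mk_good (i : ℕ) (h : i < 𝒟.n) (x : D.gB i × D.R') :
    D.ρ0 i (D.mkT i x) = D.toA₀ i h x.1 := by
  rw [ρ0, H6xJF.lift_mk, dif_pos h]
  rfl

lemma ρ1_mk_good (i : ℕ) (h : i < 𝒟.n) (x : D.gB i × D.R') :
    D.ρ1 i (D.mkT i x) = D.toA'₀ i x.1 := by
  rw [ρ1, H6xJF.lift_mk, if_pos h]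
  rfl

open Classical in
/-- the map on representatives `B'_i → A'_i` -/
noncomputable def φA (i : ℕ) : D.gB i × D.R' →ₐ[D.R'] D.TA i :=
  (D.mkTA i).comp (AlgHom.prod
    (if h : i < 𝒟.n then (D.toA₀ i h).comp (AlgHom.fst D.R' _ _)
      else (Algebra.ofId D.R' (D.gA i)).comp (AlgHom.snd D.R' _ _))
    ((Algebra.ofId D.R' (D.T (i - 1))).comp (AlgHom.snd D.R' _ _)))

lemma φA_K (i : ℕ) : ∀ x ∈ H6xJF.K (D.gB i) D.R' (i < 𝒟.n), D.φA i x = 0 := by
  intro x hx
  unfold φA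
  rw [AlgHom.comp_apply, H6xJF.mk_eq_zero_iff]
  by_cases h : i < 𝒟.n
  · rw [H6xJF.mem_K_pos _ _ h] at hx
    rw [H6xJF.mem_K_pos _ _ h]
    simp [dif_pos h, hx]
  · rw [H6xJF.mem_K_neg _ _ h] at hx
    rw [H6xJF.mem_K_neg _ _ h]
    simp [hx]

/-- `B'_i → A'_i` -/
noncomputable def toA (i : ℕ) : D.T i →ₐ[D.R'] D.TA i := H6xJF.lift D.R' _ _ _ (D.φA i) (D.φA_K i)

/-- the map on representatives `B'_i → A'_{i+1}` -/
noncomputable def φA' (i : ℕ) : D.gB i × D.R' →ₐ[D.R'] D.TA (i + 1) :=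
  (D.mkTA (i + 1)).comp (AlgHom.prod ((D.toA'₀ i).comp (AlgHom.fst D.R' _ _)) (D.mkT i))

lemma φA'_K (i : ℕ) : ∀ x ∈ H6xJF.K (D.gB i) D.R' (i < 𝒟.n), D.φA' i x = 0 := by
  intro x hx
  unfold φA'
  rw [AlgHom.comp_apply, H6xJF.mk_eq_zero_iff]
  have h0 : D.mkT i x = 0 := (H6xJF.mk_eq_zero_iff D.R' _ _ _ x).mpr hx
  by_cases h : i < 𝒟.n
  · rw [H6xJF.mem_K_pos _ _ h] at hx
    by_cases h' : i + 1 < 𝒟.n
    · rw [H6xJF.mem_K_pos _ _ h']
      simp [hx]
    · rw [H6xJF.mem_K_neg _ _ h']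
      simpa using h0
  · have h' : ¬ i + 1 < 𝒟.n := by omega
    rw [H6xJF.mem_K_neg _ _ h']
    simpa using h0

/-- `B'_i → A'_{i+1}` -/
noncomputable def toA' (i : ℕ) : D.T i →ₐ[D.R'] D.TA (i + 1) :=
  H6xJF.lift D.R' _ _ _ (D.φA' i) (D.φA'_K i)

lemma toA_mk (i : ℕ) (x : D.gB i × D.R') : D.toA i (D.mkT i x) = D.φA i x := rfl
lemma toA'_mk (i : ℕ) (x : D.gB i × D.R') : D.toA' i (D.mkT i x) = D.φA' i x := rfl

open Classical in
/-- the map `A'_i → A_i[1/a_i]` through which `A'_i` acts on the localized module. -/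
noncomputable def σ : (i : ℕ) → D.TA i →ₐ[D.R'] D.gA i
  | 0 => H6xJF.lift D.R' _ _ _
      (if 0 < 𝒟.n then AlgHom.fst D.R' _ _ else (D.ρ0 0).comp (AlgHom.snd D.R' _ _))
      (by
        intro x hx
        by_cases h : 0 < 𝒟.n
        · rw [H6xJF.mem_K_pos _ _ h] at hx
          simp [if_pos h, hx]
        · rw [H6xJF.mem_K_neg _ _ h] at hx
          simp [if_neg h, hx])
  | (i + 1) => H6xJF.lift D.R' _ _ _
      (if i + 1 < 𝒟.n then AlgHom.fst D.R' _ _ else (D.ρ1 i).comp (AlgHom.snd D.R' _ _))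
      (by
        intro x hx
        by_cases h : i + 1 < 𝒟.n
        · rw [H6xJF.mem_K_pos _ _ h] at hx
          simp [if_pos h, hx]
        · rw [H6xJF.mem_K_neg _ _ h] at hx
          simp [if_neg h, hx])

lemma σ_mk_good (i : ℕ) (h : i < 𝒟.n) (x : D.gA i × D.T (i - 1)) :
    D.σ i (D.mkTA i x) = x.1 := by
  cases i with
  | zero =>
    rw [σ, H6xJF.lift_mk, if_pos h]
    rfl
  | succ i =>
    rw [σ, H6xJF.lift_mk, if_pos h]
    rfl

end ShrinkData

end Groth.Agent.Lib.H6xShrDev
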