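import Mathlib
import Groth.Prelude.Def_FlatCA
import Groth.Agent.Lib.H6xShrDev2

/-!
# Standard shrinking of a complete dévissage: instances (helper6)
-/

set_option autoImplicit false
universe u

namespace Groth.Agent.Lib.H6xShrDev

open Groth.Agent.Lib

variable {R S : Type u} [CommRing R] [CommRing S] [Algebra R S] {N : Type u} [AddCommGroup N]
  [Module S N] {p : Ideal R} [p.IsPrime]

namespace ShrinkData

variable {𝒟 : FlatCA.CompleteDevissage R S N p} (D : ShrinkData 𝒟)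

noncomputable instance algRT (i : ℕ) : Algebra R (D.T i) :=
  ((algebraMap D.R' (D.T i)).comp (algebraMap R D.R')).toAlgebra
instance (i : ℕ) : IsScalarTower R D.R' (D.T i) := .of_algebraMap_eq fun _ => rfl

noncomputable instance algRTA (i : ℕ) : Algebra R (D.TA i) :=
  ((algebraMap D.R' (D.TA i)).comp (algebraMap R D.R')).toAlgebra
instance (i : ℕ) : IsScalarTower R D.R' (D.TA i) := .of_algebraMap_eq fun _ => rfl

noncomputable instance algTTA (i : ℕ) : Algebra (D.T i) (D.TA i) := (D.toA i).toRingHom.toAlgebra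
instance (i : ℕ) : IsScalarTower D.R' (D.T i) (D.TA i) :=
  .of_algebraMap_eq fun r => ((D.toA i).commutes r).symm

noncomputable instance algTTA' (i : ℕ) : Algebra (D.T i) (D.TA (i + 1)) :=
  (D.toA' i).toRingHom.toAlgebra
instance (i : ℕ) : IsScalarTower D.R' (D.T i) (D.TA (i + 1)) :=
  .of_algebraMap_eq fun r => ((D.toA' i).commutes r).symm

lemma algebraMap_T_TA (i : ℕ) (t : D.T i) : algebraMap (D.T i) (D.TA i) t = D.toA i t := rfl
lemma algebraMap_T_TA' (i : ℕ) (t : D.T i) : algebraMap (D.T i) (D.TA (i + 1)) t = D.toA' i t :=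
  rfl

/-- `A'_i` acts on the localized module through `σ`. -/
noncomputable instance modTAgM (i : ℕ) : Module (D.TA i) (D.gM i) :=
  Module.compHom (D.gM i) (D.σ i).toRingHom

lemma smul_TA_gM (i : ℕ) (t : D.TA i) (m : D.gM i) : t • m = D.σ i t • m := rfl

noncomputable instance modTgM (i : ℕ) : Module (D.T i) (D.gM i) :=
  Module.compHom (D.gM i) (algebraMap (D.T i) (D.TA i))
instance (i : ℕ) : IsScalarTower (D.T i) (D.TA i) (D.gM i) :=
  .of_algebraMap_smul fun _ _ => rfl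

noncomputable instance modR'gM (i : ℕ) : Module D.R' (D.gM i) :=
  Module.compHom (D.gM i) (algebraMap D.R' (D.T i))
instance (i : ℕ) : IsScalarTower D.R' (D.T i) (D.gM i) :=
  .of_algebraMap_smul fun _ _ => rfl

noncomputable instance modTgM' (i : ℕ) : Module (D.T i) (D.gM (i + 1)) :=
  Module.compHom (D.gM (i + 1)) (algebraMap (D.T i) (D.TA (i + 1)))
instance (i : ℕ) : IsScalarTower (D.T i) (D.TA (i + 1)) (D.gM (i + 1)) :=
  .of_algebraMap_smul fun _ _ => rfl

/-- the localization maps of the modules -/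
noncomputable abbrev gMap (i : ℕ) : 𝒟.M i →ₗ[𝒟.A i] D.gM i :=
  LocalizedModule.mkLinearMap (Submonoid.powers (D.a i)) (𝒟.M i)

/-- the maps `α'` -/
noncomputable def α' (i : ℕ) : (Fin (𝒟.r i) → D.T i) →ₗ[D.T i] D.gM i :=
  Fintype.linearCombination (D.T i) (fun j => D.gMap i (𝒟.α i (Pi.single j 1)))

lemma α'_single (i : ℕ) (j : Fin (𝒟.r i)) :
    D.α' i (Pi.single j 1) = D.gMap i (𝒟.α i (Pi.single j 1)) := by
  rw [α', Fintype.linearCombination_apply_single, one_smul]

section Good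

variable (i : ℕ) [hi : Fact (i < 𝒟.n)]

/-- for good `i`, `B'_i` is `B_i[1/b_i]` -/
noncomputable def eGood : D.T i ≃ₐ[D.R'] D.gB i := H6xJF.eFst D.R' _ _ hi.out
/-- for good `i`, `A'_i` is `A_i[1/a_i]` -/
noncomputable def eGoodA : D.TA i ≃ₐ[D.R'] D.gA i := H6xJF.eFst D.R' _ _ hi.out

lemma eGood_mk (x : D.gB i × D.R') : D.eGood i (D.mkT i x) = x.1 := rfl
lemma eGoodA_mk (x : D.gA i × D.T (i - 1)) : D.eGoodA i (D.mkTA i x) = x.1 := rfl
lemma eGood_symm (x : D.gB i) (r : D.R') : (D.eGood i).symm x = D.mkT i (x, r) :=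
  H6xJF.eFst_symm D.R' _ _ hi.out x r
lemma eGoodA_symm (x : D.gA i) (t : D.T (i - 1)) : (D.eGoodA i).symm x = D.mkTA i (x, t) :=
  H6xJF.eFst_symm D.R' _ _ hi.out x t

noncomputable instance algBT : Algebra (𝒟.B i) (D.T i) :=
  (((D.eGood i).symm : D.gB i →+* D.T i).comp (algebraMap (𝒟.B i) (D.gB i))).toAlgebra

lemma algebraMap_B_T (x : 𝒟.B i) (r : D.R') :
    algebraMap (𝒟.B i) (D.T i) x = D.mkT i (algebraMap (𝒟.B i) (D.gB i) x, r) :=
  D.eGood_symm i _ r

instance : IsScalarTower R (𝒟.B i) (D.T i) := .of_algebraMap_eq fun r => by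
  change algebraMap D.R' (D.T i) (algebraMap R D.R' r) =
    (D.eGood i).symm (algebraMap (𝒟.B i) (D.gB i) (algebraMap R (𝒟.B i) r))
  rw [← IsScalarTower.algebraMap_apply R (𝒟.B i) (D.gB i),
    IsScalarTower.algebraMap_apply R D.R' (D.gB i), AlgEquiv.commutes]

instance : IsLocalization.Away (D.b i) (D.T i) :=
  IsLocalization.isLocalization_of_algEquiv (Submonoid.powers (D.b i))
    ({ (D.eGood i).symm.toRingEquiv with commutes' := fun _ => rfl } : D.gB i ≃ₐ[𝒟.B i] D.T i)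

noncomputable instance algATA : Algebra (𝒟.A i) (D.TA i) :=
  (((D.eGoodA i).symm : D.gA i →+* D.TA i).comp (algebraMap (𝒟.A i) (D.gA i))).toAlgebra

lemma algebraMap_A_TA (x : 𝒟.A i) (t : D.T (i - 1)) :
    algebraMap (𝒟.A i) (D.TA i) x = D.mkTA i (algebraMap (𝒟.A i) (D.gA i) x, t) :=
  D.eGoodA_symm i _ t

instance : IsScalarTower R (𝒟.A i) (D.TA i) := .of_algebraMap_eq fun r => by
  change algebraMap D.R' (D.TA i) (algebraMap R D.R' r) =
    (D.eGoodA i).symm (algebraMap (𝒟.A i) (D.gA i) (algebraMap R (𝒟.A i) r))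
  rw [← IsScalarTower.algebraMap_apply R (𝒟.A i) (D.gA i),
    IsScalarTower.algebraMap_apply R D.R' (D.gA i), AlgEquiv.commutes]

instance : IsLocalization.Away (D.a i) (D.TA i) :=
  IsLocalization.isLocalization_of_algEquiv (Submonoid.powers (D.a i))
    ({ (D.eGoodA i).symm.toRingEquiv with commutes' := fun _ => rfl } : D.gA i ≃ₐ[𝒟.A i] D.TA i)

instance : IsScalarTower (𝒟.A i) (D.TA i) (D.gM i) := .of_algebraMap_smul fun x m => by
  rw [smul_TA_gM, D.algebraMap_A_TA i x 0, D.σ_mk_good i hi.out, algebraMap_smul]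

/-- `B_i → A'_i` through `B'_i` -/
noncomputable instance algBTA : Algebra (𝒟.B i) (D.TA i) :=
  ((algebraMap (D.T i) (D.TA i)).comp (algebraMap (𝒟.B i) (D.T i))).toAlgebra
instance : IsScalarTower (𝒟.B i) (D.T i) (D.TA i) := .of_algebraMap_eq fun _ => rfl

instance : IsScalarTower (𝒟.B i) (𝒟.A i) (D.TA i) := .of_algebraMap_eq fun x => by
  change D.toA i (algebraMap (𝒟.B i) (D.T i) x) = _
  rw [D.algebraMap_B_T i x 0, toA_mk, φA, AlgHom.comp_apply, D.algebraMap_A_TA i _ 0]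
  congr 1
  ext
  · simp only [AlgHom.prod_apply, dif_pos hi.out, AlgHom.comp_apply, AlgHom.fst_apply]
    rw [toA₀, liftAway_algebraMap, ← IsScalarTower.algebraMap_apply]
  · simp

/-- `B_i → A'_{i+1}` through `B'_i` -/
noncomputable instance algBTA' : Algebra (𝒟.B i) (D.TA (i + 1)) :=
  ((algebraMap (D.T i) (D.TA (i + 1))).comp (algebraMap (𝒟.B i) (D.T i))).toAlgebra
instance : IsScalarTower (𝒟.B i) (D.T i) (D.TA (i + 1)) := .of_algebraMap_eq fun _ => rfl

instance : IsScalarTower (𝒟.B i) (D.T i) (D.gM i) := .of_algebraMap_smul fun x m => by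
  rw [← algebraMap_smul (D.TA i) (algebraMap (𝒟.B i) (D.T i) x) m,
    ← IsScalarTower.algebraMap_apply (𝒟.B i) (D.T i) (D.TA i),
    IsScalarTower.algebraMap_apply (𝒟.B i) (𝒟.A i) (D.TA i), algebraMap_smul, algebraMap_smul]

end Good

section Good1

variable (i : ℕ) [hi : Fact (i < 𝒟.n)] [hi1 : Fact (i + 1 < 𝒟.n)]

instance : IsScalarTower (𝒟.B i) (𝒟.A (i + 1)) (D.TA (i + 1)) := .of_algebraMap_eq fun x => by
  change D.toA' i (algebraMap (𝒟.B i) (D.T i) x) = _
  rw [D.algebraMap_B_T i x 0, toA'_mk, φA', AlgHom.comp_apply,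
    D.algebraMap_A_TA (i + 1) _ (D.mkT i (algebraMap (𝒟.B i) (D.gB i) x, 0))]
  congr 1
  ext
  · simp only [AlgHom.prod_apply, AlgHom.comp_apply, AlgHom.fst_apply]
    rw [toA'₀, liftAway_algebraMap, ← IsScalarTower.algebraMap_apply]
  · rfl

instance : IsScalarTower (𝒟.B i) (D.T i) (D.gM (i + 1)) := .of_algebraMap_smul fun x m => by
  rw [← algebraMap_smul (D.TA (i + 1)) (algebraMap (𝒟.B i) (D.T i) x) m,
    ← IsScalarTower.algebraMap_apply (𝒟.B i) (D.T i) (D.TA (i + 1)),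
    IsScalarTower.algebraMap_apply (𝒟.B i) (𝒟.A (i + 1)) (D.TA (i + 1)), algebraMap_smul,
    algebraMap_smul]

end Good1

section SPart

instance factPos : Fact (0 < 𝒟.n) := ⟨𝒟.pos⟩

noncomputable instance algS'TA : Algebra D.S' (D.TA 0) :=
  (((D.eGoodA 0).symm : D.gA 0 →+* D.TA 0).comp (D.toS₀ : D.S' →+* D.gA 0)).toAlgebra

lemma algebraMap_S'_TA (x : D.S') :
    algebraMap D.S' (D.TA 0) x = (D.eGoodA 0).symm (D.toS₀ x) := rfl

instance : IsScalarTower D.R' D.S' (D.TA 0) := .of_algebraMap_eq fun r => by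
  rw [algebraMap_S'_TA, AlgHom.commutes, AlgEquiv.commutes]

noncomputable instance algSTA : Algebra S (D.TA 0) :=
  ((algebraMap (𝒟.A 0) (D.TA 0)).comp (algebraMap S (𝒟.A 0))).toAlgebra
instance : IsScalarTower S (𝒟.A 0) (D.TA 0) := .of_algebraMap_eq fun _ => rfl

instance : IsScalarTower S D.S' (D.TA 0) := .of_algebraMap_eq fun x => by
  rw [algebraMap_S'_TA, toS₀, liftAway_algebraMap,
    IsScalarTower.algebraMap_apply S (𝒟.A 0) (D.gA 0)]
  rfl

noncomputable instance modS'gM : Module D.S' (D.gM 0) :=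
  Module.compHom (D.gM 0) (algebraMap D.S' (D.TA 0))
instance : IsScalarTower D.S' (D.TA 0) (D.gM 0) := .of_algebraMap_smul fun _ _ => rfl

instance : IsScalarTower S D.S' (D.gM 0) := .of_algebraMap_smul fun x m => by
  rw [← algebraMap_smul (D.TA 0) (algebraMap S D.S' x) m,
    ← IsScalarTower.algebraMap_apply S D.S' (D.TA 0),
    IsScalarTower.algebraMap_apply S (𝒟.A 0) (D.TA 0), algebraMap_smul, algebraMap_smul]

end SPart

end ShrinkData

end Groth.Agent.Lib.H6xShrDev
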