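import Mathlib
import Groth.Prelude.Def_FlatCA
import Groth.Agent.Lib.H6xFibIso

/-!
# Supports and local dimension under localization away from an element (helper6)
-/

set_option autoImplicit false
universe u
open TensorProduct

namespace Groth.Agent.Lib.H6xShrinkA

section Generic

variable {A A' M M' : Type*} [CommRing A] [CommRing A'] [Algebra A A'] (t : A)
  [IsLocalization.Away t A'] [AddCommGroup M] [Module A M] [AddCommGroup M'] [Module A M']
  [Module A' M'] [IsScalarTower A A' M'] (F : M →ₗ[A] M') [IsLocalizedModule (Submonoid.powers t) F]

include t in
theorem powers_notMem (P' : PrimeSpectrum A') (s : Submonoid.powers t) :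
    algebraMap A A' (s : A) ∉ P'.asIdeal := fun h =>
  P'.isPrime.ne_top (Ideal.eq_top_of_isUnit_mem _ h (IsLocalization.map_units A' s))

include t F in
theorem mem_support_iff_comap_away (P' : PrimeSpectrum A') :
    P' ∈ Module.support A' M' ↔ PrimeSpectrum.comap (algebraMap A A') P' ∈ Module.support A M := by
  rw [Module.mem_support_iff', Module.mem_support_iff']
  constructor
  · rintro ⟨m', hm'⟩
    obtain ⟨⟨m, s⟩, hs⟩ := IsLocalizedModule.surj (Submonoid.powers t) F m'
    refine ⟨m, fun r hr h0 => ?_⟩
    have hr' : algebraMap A A' r ∉ P'.asIdeal := hr
    have h1 : algebraMap A A' r * algebraMap A A' (s : A) ∉ P'.asIdeal := fun h =>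
      (P'.isPrime.mem_or_mem h).elim hr' (powers_notMem t P' s)
    apply hm' _ h1
    rw [mul_smul, algebraMap_smul A' (s : A) m']
    change algebraMap A A' r • (s • m') = 0
    rw [hs, algebraMap_smul, ← map_smul, h0, map_zero]
  · rintro ⟨m, hm⟩
    refine ⟨F m, fun r' hr' h0 => ?_⟩
    obtain ⟨⟨r, s⟩, hrs⟩ := IsLocalization.surj (Submonoid.powers t) r'
    have h2 : F (r • m) = 0 := by
      rw [map_smul, ← algebraMap_smul A' r (F m), ← hrs, mul_comm, mul_smul, h0, smul_zero]
    obtain ⟨c, hc⟩ := (IsLocalizedModule.eq_zero_iff (Submonoid.powers t) F).mp h2
    have h3 : c.1 * r ∉ (PrimeSpectrum.comap (algebraMap A A') P').asIdeal := by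
      change algebraMap A A' (c.1 * r) ∉ P'.asIdeal
      rw [map_mul, ← hrs]
      intro h
      rcases P'.isPrime.mem_or_mem h with h | h
      · exact powers_notMem t P' c h
      · rcases P'.isPrime.mem_or_mem h with h | h
        · exact hr' h
        · exact powers_notMem t P' s h
    apply hm _ h3
    rw [mul_smul]
    exact hc

variable (A') in
/-- the map of supports induced by a localization away from an element. -/
def supportMap : Module.support A' M' → Module.support A M := fun x =>
  ⟨PrimeSpectrum.comap (algebraMap A A') x.1, (mem_support_iff_comap_away t F x.1).mp x.2⟩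

variable (A') in
include t F in
theorem supportMap_isOpenEmbedding : Topology.IsOpenEmbedding (supportMap A' t F) := by
  have h0 : Topology.IsOpenEmbedding (PrimeSpectrum.comap (algebraMap A A')) :=
    PrimeSpectrum.localization_away_isOpenEmbedding A' t
  have h1 := Set.restrictPreimage_isOpenEmbedding (Module.support A M) h0
  have hset : (PrimeSpectrum.comap (algebraMap A A')) ⁻¹' (Module.support A M) =
      Module.support A' M' := by
    ext x
    exact (mem_support_iff_comap_away t F x).symm
  have h2 : Topology.IsOpenEmbedding (Homeomorph.setCongr hset.symm) :=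
    (Homeomorph.setCongr hset.symm).isOpenEmbedding
  exact h1.comp h2

variable (A') in
include t F in
theorem localDim_supportMap (x : Module.support A' M') :
    FlatMor.localDim (Module.support A' M') x =
      FlatMor.localDim (Module.support A M) (supportMap A' t F x) :=
  Groth.Agent.Lib.H6xFibIso.localDim_eq_of_isOpenEmbedding (supportMap_isOpenEmbedding A' t F) x

variable (A') in
include t F in
theorem topologicalKrullDim_support_le :
    topologicalKrullDim (Module.support A' M') ≤ topologicalKrullDim (Module.support A M) :=
  (supportMap_isOpenEmbedding A' t F).isInducing.topologicalKrullDim_le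

end Generic

section Dim

variable {A M : Type*} [CommRing A] [AddCommGroup M] [Module A M] [Module.Finite A M]

theorem topologicalKrullDim_support_eq_supportDim :
    topologicalKrullDim (Module.support A M) = Module.supportDim A M := by
  rw [Module.supportDim_eq_ringKrullDim_quotient_annihilator,
    ← PrimeSpectrum.topologicalKrullDim_eq_ringKrullDim]
  have hsurj : Function.Surjective (Ideal.Quotient.mk (Module.annihilator A M)) :=
    Ideal.Quotient.mk_surjective
  have hemb := PrimeSpectrum.isClosedEmbedding_comap_of_surjective _ _ hsurj
  have hrange : Set.range (PrimeSpectrum.comap (Ideal.Quotient.mk (Module.annihilator A M))) =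
      Module.support A M := by
    rw [_root_.range_comap_of_surjective _ _ hsurj, Ideal.mk_ker,
      Module.support_eq_zeroLocus]
  let e1 := hemb.isEmbedding.toHomeomorph
  let e2 := Homeomorph.setCongr hrange
  exact (IsHomeomorph.topologicalKrullDim_eq _ (e1.trans e2).isHomeomorph).symm

end Dim

section Generic2

variable {A A' M M' : Type*} [CommRing A] [CommRing A'] [Algebra A A'] (t : A)
  [IsLocalization.Away t A'] [AddCommGroup M] [Module A M] [AddCommGroup M'] [Module A M']
  [Module A' M'] [IsScalarTower A A' M'] (F : M →ₗ[A] M') [IsLocalizedModule (Submonoid.powers t) F]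
  [Module.Finite A M] [Module.Finite A' M']

variable (A') in
include t F in
/-- if the local dimension at a point of the image equals the dimension of the support, the
dimension of the support does not change. -/
theorem supportDim_eq_of_localDim (x : Module.support A' M')
    (h : FlatMor.localDim (Module.support A M) (supportMap A' t F x) = Module.supportDim A M) :
    Module.supportDim A' M' = Module.supportDim A M := by
  apply le_antisymm
  · rw [← topologicalKrullDim_support_eq_supportDim, ← topologicalKrullDim_support_eq_supportDim]
    exact topologicalKrullDim_support_le A' t F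
  · rw [← h, ← localDim_supportMap A' t F x, ← topologicalKrullDim_support_eq_supportDim]
    exact Groth.Agent.Lib.Helper7.TopDim.localDim_le_dim x

end Generic2

end Groth.Agent.Lib.H6xShrinkA
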