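import Mathlib
import Groth.Prelude.Def_FlatCA
import Groth.Agent.Lib.H6xShrinkA

/-!
# Fibre modules under localization of the algebra (same base) (helper6)
-/

set_option autoImplicit false
universe u
open TensorProduct

namespace Groth.Agent.Lib.H6xShrinkB

section Generic

variable (R S S' k A A' : Type u) [CommRing R] [CommRing S] [CommRing S'] [CommRing k]
  [CommRing A] [CommRing A']
  [Algebra R S] [Algebra R S'] [Algebra S S'] [IsScalarTower R S S'] (hX : S)
  [IsLocalization.Away hX S'] [Algebra R k]
  [Algebra k A] [Algebra S A] [Algebra R A] [IsScalarTower R k A] [IsScalarTower R S A]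
  [Algebra.IsPushout R k S A]
  [Algebra k A'] [Algebra S' A'] [Algebra R A'] [IsScalarTower R k A'] [IsScalarTower R S' A']
  [Algebra.IsPushout R k S' A']
  (N N' M M' : Type u) [AddCommGroup N] [Module S N] [Module.Finite S N] [AddCommGroup N']
  [Module S' N'] [Module S N'] [IsScalarTower S S' N']
  [AddCommGroup M] [Module A M] [Module S M]
  [AddCommGroup M'] [Module A' M'] [Module S' M']
  (f : N →ₗ[S] N') [IsLocalizedModule (Submonoid.powers hX) f]

include R k N N' f in
/-- Localizing the algebra `S` away from `hX` (same base `R`): the fibre module changes by the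
localization away from the image of `hX`; support dimension and local dimension are preserved at
points where the local dimension is the dimension. -/
theorem fiber_away (hT1 : IsScalarTower S A M) (hT2 : IsScalarTower S' A' M')
    (i : N →ₗ[S] M) (hi : IsBaseChange A i) (i' : N' →ₗ[S'] M') (hi' : IsBaseChange A' i')
    (q : Ideal S) (d : WithBot ℕ∞)
    (ξ : PrimeSpectrum A) (hξ : ξ ∈ Module.support A M)
    (hξq : ξ.asIdeal = q.map (algebraMap S A)) (hXξ : algebraMap S A hX ∉ ξ.asIdeal)
    (hd : FlatMor.localDim (Module.support A M) ⟨ξ, hξ⟩ = d) (hdim : Module.supportDim A M = d) :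
    Module.supportDim A' M' = d ∧
    ∃ (ξ' : PrimeSpectrum A') (hξ' : ξ' ∈ Module.support A' M'),
      ξ'.asIdeal = (q.map (algebraMap S S')).map (algebraMap S' A') ∧
      FlatMor.localDim (Module.support A' M') ⟨ξ', hξ'⟩ = d := by
  letI aSA' : Algebra S A' := ((algebraMap S' A').comp (algebraMap S S')).toAlgebra
  haveI : IsScalarTower S S' A' := .of_algebraMap_eq fun _ => rfl
  haveI : IsScalarTower R S A' := .of_algebraMap_eq fun x => by
    rw [IsScalarTower.algebraMap_apply R S' A', IsScalarTower.algebraMap_apply R S S',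
      ← IsScalarTower.algebraMap_apply S S' A']
  let φ : A →ₐ[R] A' := Algebra.pushoutDesc A (IsScalarTower.toAlgHom R k A')
    (IsScalarTower.toAlgHom R S A') (fun _ _ => mul_comm _ _)
  have hφl : ∀ x : k, φ (algebraMap k A x) = algebraMap k A' x := fun x =>
    Algebra.pushoutDesc_left A (IsScalarTower.toAlgHom R k A')
      (IsScalarTower.toAlgHom R S A') (fun _ _ => mul_comm _ _) x
  have hφr : ∀ s : S, φ (algebraMap S A s) = algebraMap S A' s := fun x =>
    Algebra.pushoutDesc_right A (IsScalarTower.toAlgHom R k A')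
      (IsScalarTower.toAlgHom R S A') (fun _ _ => mul_comm _ _) x
  letI aAA' : Algebra A A' := φ.toRingHom.toAlgebra
  haveI : IsScalarTower k A A' := .of_algebraMap_eq fun x => (hφl x).symm
  haveI : IsScalarTower S A A' := .of_algebraMap_eq fun x => (hφr x).symm
  haveI : IsScalarTower R A A' := .of_algebraMap_eq fun x => (φ.commutes x).symm
  haveI hP0 : Algebra.IsPushout R S k A := Algebra.IsPushout.symm inferInstance
  have hP1 : Algebra.IsPushout R S' k A' := Algebra.IsPushout.symm inferInstance
  have hP2 : Algebra.IsPushout S S' A A' := (Algebra.IsPushout.comp_iff R S k A).mp hP1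
  haveI hloc : IsLocalization.Away (algebraMap S A hX) A' := by
    have h := (Algebra.isLocalization_iff_isPushout (Submonoid.powers hX) S' (T := A)
      (B := A')).mpr hP2.symm
    rwa [Algebra.algebraMapSubmonoid_powers] at h
  -- module structures on `M'`
  letI mSM' : Module S M' := Module.compHom M' (algebraMap S S')
  haveI : IsScalarTower S S' M' := .of_algebraMap_smul fun _ _ => rfl
  haveI : IsScalarTower S A' M' := .of_algebraMap_smul fun s x => by
    rw [IsScalarTower.algebraMap_apply S S' A', algebraMap_smul, algebraMap_smul]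
  letI mAM' : Module A M' := Module.compHom M' (algebraMap A A')
  haveI : IsScalarTower A A' M' := .of_algebraMap_smul fun _ _ => rfl
  haveI : IsScalarTower S A M' := .of_algebraMap_smul fun s x => by
    rw [← algebraMap_smul A' (algebraMap S A s) x, ← IsScalarTower.algebraMap_apply S A A',
      algebraMap_smul]
  have hf : IsBaseChange S' f :=
    (isLocalizedModule_iff_isBaseChange (Submonoid.powers hX) S' f).mp inferInstance
  have hc : IsBaseChange A' ((i'.restrictScalars S).comp f) := IsBaseChange.comp hf hi'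
  let F : M →ₗ[A] M' := hi.lift ((i'.restrictScalars S).comp f)
  have hF : IsBaseChange A' F := by
    refine IsBaseChange.of_comp hi ?_
    have : (F.restrictScalars S).comp i = (i'.restrictScalars S).comp f := hi.lift_comp _
    rw [this]
    exact hc
  haveI hFloc : IsLocalizedModule (Submonoid.powers (algebraMap S A hX)) F :=
    (isLocalizedModule_iff_isBaseChange (Submonoid.powers (algebraMap S A hX)) A' F).mpr hF
  haveI : Module.Finite A M := Module.Finite.equiv hi.equiv
  haveI : Module.Finite S' N' := Module.Finite.equiv hf.equiv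
  haveI : Module.Finite A' M' := Module.Finite.equiv hi'.equiv
  -- the prime
  have hdisj : Disjoint (Submonoid.powers (algebraMap S A hX) : Set A) (ξ.asIdeal : Set A) := by
    rw [Ideal.disjoint_powers_iff_notMem _ ξ.isPrime.isRadical]
    exact hXξ
  let ξ' : PrimeSpectrum A' := ⟨ξ.asIdeal.map (algebraMap A A'),
    IsLocalization.isPrime_of_isPrime_disjoint (Submonoid.powers (algebraMap S A hX)) A'
      ξ.asIdeal ξ.isPrime hdisj⟩
  have hcomap : PrimeSpectrum.comap (algebraMap A A') ξ' = ξ := by
    apply PrimeSpectrum.ext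
    exact IsLocalization.under_map_of_isPrime_disjoint (Submonoid.powers (algebraMap S A hX)) A'
      ξ.isPrime hdisj
  have hξ' : ξ' ∈ Module.support A' M' := by
    rw [Groth.Agent.Lib.H6xShrinkA.mem_support_iff_comap_away (algebraMap S A hX) F ξ', hcomap]
    exact hξ
  have hsm : Groth.Agent.Lib.H6xShrinkA.supportMap A' (algebraMap S A hX) F ⟨ξ', hξ'⟩ = ⟨ξ, hξ⟩ :=
    Subtype.ext hcomap
  refine ⟨?_, ξ', hξ', ?_, ?_⟩
  · rw [← hdim]
    apply Groth.Agent.Lib.H6xShrinkA.supportDim_eq_of_localDim A' (algebraMap S A hX) F ⟨ξ', hξ'⟩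
    rw [hsm, hd, hdim]
  · change ξ.asIdeal.map (algebraMap A A') = _
    rw [hξq, Ideal.map_map, Ideal.map_map]
    congr 1
    ext s
    simp only [RingHom.comp_apply]
    rw [← IsScalarTower.algebraMap_apply S A A', IsScalarTower.algebraMap_apply S S' A']
  · rw [Groth.Agent.Lib.H6xShrinkA.localDim_supportMap A' (algebraMap S A hX) F ⟨ξ', hξ'⟩, hsm, hd]

end Generic

section Concrete

attribute [local instance] Algebra.TensorProduct.rightAlgebra

variable (R S : Type u) [CommRing R] [CommRing S] [Algebra R S] (p : Ideal R) [p.IsPrime]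
  (S' : Type u) [CommRing S'] [Algebra S S'] [Algebra R S'] [IsScalarTower R S S'] (hX : S)
  [IsLocalization.Away hX S']
  (N N' : Type u) [AddCommGroup N] [Module S N]
  [Module.Finite S N] [AddCommGroup N'] [Module S' N']
  [Module S N'] [IsScalarTower S S' N']
  (f : N →ₗ[S] N') [IsLocalizedModule (Submonoid.powers hX) f]
  (q : Ideal S) [q.IsPrime] [q.LiesOver p]

include f in
theorem fiber_away_concrete (hq : hX ∉ q) (d : WithBot ℕ∞)
    (h1 : ∃ (ξ : PrimeSpectrum (p.Fiber S))
      (hξ : ξ ∈ Module.support (p.Fiber S) (FlatCA.fiberMod p S N)),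
      ξ.asIdeal = FlatCA.fiberIdeal p q ∧
      FlatMor.localDim (Module.support (p.Fiber S) (FlatCA.fiberMod p S N)) ⟨ξ, hξ⟩ = d)
    (hdim : Module.supportDim (p.Fiber S) (FlatCA.fiberMod p S N) = d) :
    Module.supportDim (p.Fiber S') (FlatCA.fiberMod p S' N') = d ∧
    ∃ (ξ' : PrimeSpectrum (p.Fiber S'))
      (hξ' : ξ' ∈ Module.support (p.Fiber S') (FlatCA.fiberMod p S' N')),
      ξ'.asIdeal = FlatCA.fiberIdeal p (q.map (algebraMap S S')) ∧
      FlatMor.localDim (Module.support (p.Fiber S') (FlatCA.fiberMod p S' N')) ⟨ξ', hξ'⟩ = d := by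
  obtain ⟨ξ, hξ, hξq, hd⟩ := h1
  haveI hT1 : IsScalarTower S (p.Fiber S) (FlatCA.fiberMod p S N) :=
    inferInstanceAs (IsScalarTower S (p.Fiber S) ((p.Fiber S) ⊗[S] N))
  letI : Module S' (FlatCA.fiberMod p S' N') :=
    inferInstanceAs (Module S' ((p.Fiber S') ⊗[S'] N'))
  haveI hT2 : IsScalarTower S' (p.Fiber S') (FlatCA.fiberMod p S' N') :=
    inferInstanceAs (IsScalarTower S' (p.Fiber S') ((p.Fiber S') ⊗[S'] N'))
  have hXξ : algebraMap S (p.Fiber S) hX ∉ ξ.asIdeal := by
    intro hmem
    apply hq
    rw [← Groth.Agent.Lib.H6xFibIso.comap_fiberIdeal R S p q, ← hξq]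
    exact hmem
  exact fiber_away R S S' p.ResidueField (p.Fiber S) (p.Fiber S') hX N N'
    (FlatCA.fiberMod p S N) (FlatCA.fiberMod p S' N') f hT1 hT2
    (FlatCA.toFiberMod p S N) (TensorProduct.isBaseChange S N (p.Fiber S))
    (FlatCA.toFiberMod p S' N') (TensorProduct.isBaseChange S' N' (p.Fiber S'))
    q d ξ hξ hξq hXξ hd hdim

end Concrete

end Groth.Agent.Lib.H6xShrinkB
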