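import Mathlib
import Groth.Prelude.Def_FlatCA
import Groth.Agent.Lib.H6xFibIso
import Groth.Agent.Lib.H6xShrinkB

/-!
# Localizing the base away from an element (helper6)
-/

set_option autoImplicit false
universe u
open TensorProduct

namespace Groth.Agent.Lib.H6xShrinkC

section Loc

variable {R : Type u} [CommRing R] (g : R) (R' : Type u) [CommRing R'] [Algebra R R']
  [IsLocalization.Away g R'] (p : Ideal R) [p.IsPrime]

include g in
theorem disjoint_powers (hg : g ∉ p) : Disjoint (Submonoid.powers g : Set R) (p : Set R) :=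
  (Ideal.disjoint_powers_iff_notMem _ (Ideal.IsPrime.isRadical inferInstance)).mpr hg

include g in
theorem isPrime_map (hg : g ∉ p) : (p.map (algebraMap R R')).IsPrime :=
  IsLocalization.isPrime_of_isPrime_disjoint (Submonoid.powers g) R' p inferInstance
    (disjoint_powers g p hg)

include g in
theorem comap_map (hg : g ∉ p) : (p.map (algebraMap R R')).comap (algebraMap R R') = p :=
  IsLocalization.under_map_of_isPrime_disjoint (Submonoid.powers g) R' inferInstance
    (disjoint_powers g p hg)

include g in
theorem liesOver_map (hg : g ∉ p) : (p.map (algebraMap R R')).LiesOver p :=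
  ⟨(comap_map g R' p hg).symm⟩

omit [p.IsPrime] in
include g in
theorem eq_map_of_comap (P' : Ideal R') (h : P'.comap (algebraMap R R') = p) :
    P' = p.map (algebraMap R R') := by
  rw [← h, IsLocalization.map_under (Submonoid.powers g) R' P']

include g in
theorem residueField_bijective (p' : Ideal R') [p'.IsPrime] [p'.LiesOver p] :
    Function.Bijective (Ideal.ResidueField.mapₐ p p' (Algebra.ofId R R') (p'.over_def p)) :=
  (RingHom.surjectiveOnStalks_of_isLocalization (M := Submonoid.powers g)
    R').residueFieldMap_bijective p p' (p'.over_def p)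

include g in
theorem residueField_map_bijective (p' : Ideal R') [p'.IsPrime] (h : p = p'.comap (algebraMap R R')) :
    Function.Bijective (Ideal.ResidueField.map p p' (algebraMap R R') h) :=
  (RingHom.surjectiveOnStalks_of_isLocalization (M := Submonoid.powers g)
    R').residueFieldMap_bijective p p' h

end Loc

section BaseLoc

attribute [local instance] Algebra.TensorProduct.rightAlgebra

variable (R : Type u) [CommRing R] (g : R) (R' : Type u) [CommRing R'] [Algebra R R']
  [IsLocalization.Away g R'] (p : Ideal R) [p.IsPrime] (p' : Ideal R') [p'.IsPrime] [p'.LiesOver p]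
  (S' : Type u) [CommRing S'] [Algebra R S'] [Algebra R' S'] [IsScalarTower R R' S']
  [Algebra.FiniteType R S']
  (N' : Type u) [AddCommGroup N'] [Module S' N'] [Module.Finite S' N']
  (q' : Ideal S') [q'.IsPrime] [q'.LiesOver p] [q'.LiesOver p']

omit [Algebra.FiniteType R S'] in
include g in
theorem isPushout_self : Algebra.IsPushout R R' S' S' := by
  haveI : IsLocalization (Algebra.algebraMapSubmonoid S' (Submonoid.powers g)) S' := by
    apply IsLocalization.of_le_isUnit
    rintro _ ⟨x, hx, rfl⟩
    have : IsUnit (algebraMap R R' x) := IsLocalization.map_units R' (⟨x, hx⟩ : Submonoid.powers g)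
    rw [IsScalarTower.algebraMap_apply R R' S']
    exact this.map _
  exact (Algebra.isPushout_of_isLocalization (Submonoid.powers g) R' S' S').symm

include g in
/-- localizing the base away from `g ∉ p` does not change the fibre data over `p`. -/
theorem fiber_baseLoc (d : WithBot ℕ∞)
    (hdim : Module.supportDim (p.Fiber S') (FlatCA.fiberMod p S' N') = d)
    (h1 : ∃ (ξ : PrimeSpectrum (p.Fiber S'))
      (hξ : ξ ∈ Module.support (p.Fiber S') (FlatCA.fiberMod p S' N')),
      ξ.asIdeal = FlatCA.fiberIdeal p q' ∧
      FlatMor.localDim (Module.support (p.Fiber S') (FlatCA.fiberMod p S' N')) ⟨ξ, hξ⟩ = d) :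
    Module.supportDim (p'.Fiber S') (FlatCA.fiberMod p' S' N') = d ∧
    ∃ (ξ' : PrimeSpectrum (p'.Fiber S'))
      (hξ' : ξ' ∈ Module.support (p'.Fiber S') (FlatCA.fiberMod p' S' N')),
      ξ'.asIdeal = FlatCA.fiberIdeal p' q' ∧
      FlatMor.localDim (Module.support (p'.Fiber S') (FlatCA.fiberMod p' S' N')) ⟨ξ', hξ'⟩ = d := by
  haveI hpo : Algebra.IsPushout R R' S' S' := isPushout_self R g R' S'
  have hκ := residueField_bijective g R' p p'
  letI : Module R N' := Module.compHom N' (algebraMap R S')
  haveI : IsScalarTower R S' N' := .of_algebraMap_smul fun _ _ => rfl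
  letI : Module R' N' := Module.compHom N' (algebraMap R' S')
  haveI : IsScalarTower R' S' N' := .of_algebraMap_smul fun _ _ => rfl
  haveI : q'.LiesOver q' := ⟨by simp [Ideal.under]⟩
  have hid : IsBaseChange S' (LinearEquiv.refl S' N').toLinearMap := IsBaseChange.ofEquiv _
  refine ⟨?_, ?_⟩
  · letI : Algebra p.ResidueField p'.ResidueField :=
      (Ideal.ResidueField.mapₐ p p' (Algebra.ofId R R') (p'.over_def p)).toRingHom.toAlgebra
    haveI : IsScalarTower R p.ResidueField p'.ResidueField := .of_algebraMap_eq fun x =>
      ((Ideal.ResidueField.mapₐ p p' (Algebra.ofId R R') (p'.over_def p)).commutes x).symm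
    haveI : IsScalarTower S' (p.Fiber S') (FlatCA.fiberMod p S' N') :=
      inferInstanceAs (IsScalarTower S' (p.Fiber S') ((p.Fiber S') ⊗[S'] N'))
    letI : Module S' (FlatCA.fiberMod p' S' N') :=
      inferInstanceAs (Module S' ((p'.Fiber S') ⊗[S'] N'))
    haveI : IsScalarTower S' (p'.Fiber S') (FlatCA.fiberMod p' S' N') :=
      inferInstanceAs (IsScalarTower S' (p'.Fiber S') ((p'.Fiber S') ⊗[S'] N'))
    rw [← hdim]
    exact Groth.Agent.Lib.H6xFibDim.supportDim_fiber_eq R S' R' S' p.ResidueField p'.ResidueField
      (p.Fiber S') (p'.Fiber S') N' N' (FlatCA.fiberMod p S' N') (FlatCA.fiberMod p' S' N')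
      (LinearEquiv.refl S' N').toLinearMap hid
      (FlatCA.toFiberMod p S' N') (TensorProduct.isBaseChange S' N' (p.Fiber S'))
      (FlatCA.toFiberMod p' S' N') (TensorProduct.isBaseChange S' N' (p'.Fiber S'))
  · exact Groth.Agent.Lib.H6xFibIso.exists_localDim_fiber R S' p R' p' S' hκ N' N'
      (LinearEquiv.refl S' N').toLinearMap hid
      q' q' d h1

end BaseLoc

section PT

variable (R D : Type u) [CommRing R] [CommRing D] [Algebra R D] (p : Ideal R) [p.IsPrime]
  (R' : Type u) [CommRing R'] [Algebra R R'] (p' : Ideal R') [p'.IsPrime] [p'.LiesOver p]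
  (D' : Type u) [CommRing D'] [Algebra R' D'] [Algebra R D'] [Algebra D D'] [IsScalarTower R R' D']
  [IsScalarTower R D D']

/-- purely transcendental residue field extensions transfer along maps inducing isomorphisms on
the residue fields. -/
theorem purelyTranscendental_of_bijective
    (hκ : Function.Bijective (Ideal.ResidueField.mapₐ p p' (Algebra.ofId R R') (p'.over_def p)))
    (y : Ideal D) [y.IsPrime] [y.LiesOver p] (y' : Ideal D') [y'.IsPrime] [y'.LiesOver y]
    [y'.LiesOver p']
    (hc : Function.Bijective (Ideal.ResidueField.map y y' (algebraMap D D') (y'.over_def y)))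
    (h : FlatCA.PurelyTranscendental p y) : FlatCA.PurelyTranscendental p' y' := by
  let c := Ideal.ResidueField.map y y' (algebraMap D D') (y'.over_def y)
  obtain ⟨ι, x, hx, hx2⟩ := h
  refine ⟨ι, c ∘ x, ?_⟩
  letI i1 : Algebra p.ResidueField y.ResidueField :=
    (Ideal.ResidueField.mapₐ p y (Algebra.ofId R D) (y.over_def p)).toRingHom.toAlgebra
  letI i2 : Algebra p'.ResidueField y'.ResidueField :=
    (Ideal.ResidueField.mapₐ p' y' (Algebra.ofId R' D') (y'.over_def p')).toRingHom.toAlgebra
  refine Groth.Agent.Lib.H6xFibIso.transcendence_transport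
    (Ideal.ResidueField.mapₐ p p' (Algebra.ofId R R') (p'.over_def p)).toRingHom hκ c hc ?_ x hx hx2
  intro a0
  have : c.comp (Ideal.ResidueField.mapₐ p y (Algebra.ofId R D) (y.over_def p)).toRingHom =
      ((Ideal.ResidueField.mapₐ p' y' (Algebra.ofId R' D') (y'.over_def p')).toRingHom).comp
        (Ideal.ResidueField.mapₐ p p' (Algebra.ofId R R') (p'.over_def p)).toRingHom := by
    apply Ideal.ResidueField.ringHom_ext
    ext r
    simp only [RingHom.comp_apply, c, AlgHom.toRingHom_eq_coe, RingHom.coe_coe,
      Ideal.ResidueField.mapₐ_apply, Ideal.ResidueField.map_algebraMap]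
    congr 1
    simp only [Algebra.ofId_apply]
    rw [← IsScalarTower.algebraMap_apply, ← IsScalarTower.algebraMap_apply]
  exact RingHom.congr_fun this a0

end PT

end Groth.Agent.Lib.H6xShrinkC
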