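import Mathlib
import Groth.Prelude.Def_FlatCA

/-!
# Ring-level parts of a standard shrinking (helper6)
-/

set_option autoImplicit false
universe u
open TensorProduct

namespace Groth.Agent.Lib.H6xShrinkD1

section A

variable (S C : Type u) [CommRing S] [CommRing C] [Algebra S C]
  (hX : S) (hZ : C)
  (S' C' : Type u) [CommRing S'] [CommRing C'] [Algebra S S'] [IsLocalization.Away hX S']
  [Algebra C C'] [IsLocalization.Away hZ C'] [Algebra S C'] [IsScalarTower S C C'] [Algebra S' C']
  [IsScalarTower S S' C']

include hX hZ in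
theorem isPushout_away (ha : algebraMap S C hX = hZ) : Algebra.IsPushout S S' C C' := by
  haveI : IsLocalization (Algebra.algebraMapSubmonoid C (Submonoid.powers hX)) C' := by
    rw [Algebra.algebraMapSubmonoid_powers, ha]
    infer_instance
  exact (Algebra.isPushout_of_isLocalization (Submonoid.powers hX) S' C C').symm

include hX hZ in
theorem finite_away (ha : algebraMap S C hX = hZ) [Module.Finite S C] : Module.Finite S' C' := by
  haveI := isPushout_away S C hX hZ S' C' ha
  exact Module.Finite.equiv (Algebra.IsPushout.equiv S S' C C').toLinearEquiv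

include hX hZ in
theorem finitePresentation_away (ha : algebraMap S C hX = hZ) [Algebra.FinitePresentation S C] :
    Algebra.FinitePresentation S' C' := by
  haveI := isPushout_away S C hX hZ S' C' ha
  exact Algebra.FinitePresentation.equiv (Algebra.IsPushout.equiv S S' C C')

include hX hZ in
theorem surjective_away (ha : algebraMap S C hX = hZ)
    (hsurj : Function.Surjective (algebraMap S C)) : Function.Surjective (algebraMap S' C') := by
  haveI hSC' := isPushout_away S C hX hZ S' C' ha
  intro x
  have hb : IsBaseChange S' (IsScalarTower.toAlgHom S C C').toLinearMap := hSC'.out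
  refine hb.inductionOn x _ ⟨0, by simp⟩ ?_ ?_ ?_
  · intro c
    obtain ⟨s, rfl⟩ := hsurj c
    refine ⟨algebraMap S S' s, ?_⟩
    change _ = algebraMap C C' (algebraMap S C s)
    rw [← IsScalarTower.algebraMap_apply, ← IsScalarTower.algebraMap_apply]
  · rintro s' _ ⟨y, rfl⟩
    exact ⟨s' * y, by rw [map_mul, Algebra.smul_def]⟩
  · rintro _ _ ⟨y, rfl⟩ ⟨z, rfl⟩
    exact ⟨y + z, map_add _ _ _⟩

variable (N G N' G' : Type u) [AddCommGroup N] [Module S N] [AddCommGroup G] [Module C G]
  [Module S G] [IsScalarTower S C G]
  [AddCommGroup N'] [Module S N'] [Module S' N'] [IsScalarTower S S' N']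
  [AddCommGroup G'] [Module C G'] [Module C' G'] [IsScalarTower C C' G'] [Module S' G']
  [IsScalarTower S' C' G']
  (f : N →ₗ[S] N') [IsLocalizedModule (Submonoid.powers hX) f]
  (fG : G →ₗ[C] G') [IsLocalizedModule (Submonoid.powers hZ) fG]

include hX hZ f fG C' in
theorem equiv_away (ha : algebraMap S C hX = hZ) (e : N ≃ₗ[S] G) : Nonempty (N' ≃ₗ[S'] G') := by
  haveI hSC' := isPushout_away S C hX hZ S' C' ha
  have hf : IsBaseChange S' f :=
    (isLocalizedModule_iff_isBaseChange (Submonoid.powers hX) S' f).mp inferInstance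
  have hg : IsBaseChange C' fG :=
    (isLocalizedModule_iff_isBaseChange (Submonoid.powers hZ) C' fG).mp inferInstance
  exact ⟨hf.equiv.symm ≪≫ₗ
      (TensorProduct.AlgebraTensorModule.congr (LinearEquiv.refl S' S') e) ≪≫ₗ
      (Algebra.IsPushout.cancelBaseChange S S' C C' G).symm ≪≫ₗ
      (hg.equiv.restrictScalars S')⟩

include hZ fG in
omit [Algebra S C] [IsLocalization.Away hX S'] [Algebra S C'] [IsScalarTower S C C']
  [IsScalarTower S S' C'] [Module S G] [IsScalarTower S C G] [Algebra S' C'] [Module S' G']
  [IsScalarTower S' C' G'] [Algebra S S'] in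
theorem finite_module_away [Module.Finite C G] : Module.Finite C' G' := by
  have hg : IsBaseChange C' fG :=
    (isLocalizedModule_iff_isBaseChange (Submonoid.powers hZ) C' fG).mp inferInstance
  exact Module.Finite.equiv hg.equiv

end A

end Groth.Agent.Lib.H6xShrinkD1
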