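import Mathlib
import Groth.Prelude.Def_FlatCA

/-!
# Smoothness and geometric irreducibility under standard shrinking (helper6)
-/

set_option autoImplicit false
universe u
open AlgebraicGeometry CategoryTheory Limits

namespace Groth.Agent.Lib.H6xShrinkD2

variable (R D R' D' : Type u) [CommRing R] [CommRing D] [CommRing R'] [CommRing D']
  [Algebra R D] [Algebra R R'] [Algebra R' D'] [Algebra R D'] [Algebra D D']
  [IsScalarTower R R' D'] [IsScalarTower R D D'] (g : R) [IsLocalization.Away g R'] (hY : D)
  [IsLocalization.Away hY D'] (n : ℕ)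

include g hY in
theorem smooth_geomIrred_shrink
    (hsm : FlatCA.SmoothRelDim n R D) (hirr : FlatCA.GeomIrredFibres R D)
    (hsurj : Function.Surjective (PrimeSpectrum.comap (algebraMap R' D'))) :
    FlatCA.SmoothRelDim n R' D' ∧ FlatCA.GeomIrredFibres R' D' := by
  let π := Spec.map (CommRingCat.ofHom (algebraMap R D))
  let j := Spec.map (CommRingCat.ofHom (algebraMap R R'))
  let i := Spec.map (CommRingCat.ofHom (algebraMap D D'))
  let f' := Spec.map (CommRingCat.ofHom (algebraMap R' D'))
  have hcomm : i ≫ π = f' ≫ j := by
    simp only [i, π, f', j, ← Spec.map_comp, ← CommRingCat.ofHom_comp]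
    congr 2
    ext r
    simp only [RingHom.comp_apply]
    rw [← IsScalarTower.algebraMap_apply, ← IsScalarTower.algebraMap_apply]
  haveI : IsOpenImmersion j := IsOpenImmersion.of_isLocalization g
  haveI : IsOpenImmersion i := IsOpenImmersion.of_isLocalization hY
  let l : Spec (CommRingCat.of D') ⟶ pullback π j := pullback.lift i f' hcomm
  have hl1 : l ≫ pullback.fst π j = i := pullback.lift_fst _ _ _
  have hl2 : l ≫ pullback.snd π j = f' := pullback.lift_snd _ _ _
  haveI : IsOpenImmersion (l ≫ pullback.fst π j) := by rw [hl1]; infer_instance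
  haveI : IsOpenImmersion l := IsOpenImmersion.of_comp l (pullback.fst π j)
  haveI hsm' : SmoothOfRelativeDimension n π := hsm
  haveI hirr' : GeometricallyIrreducible π := hirr
  haveI : SmoothOfRelativeDimension n (pullback.snd π j) := by
    haveI := smoothOfRelativeDimension_isStableUnderBaseChange n
    exact MorphismProperty.pullback_snd (P := @SmoothOfRelativeDimension n) π j hsm'
  haveI : Surjective (l ≫ pullback.snd π j) := by
    rw [hl2]
    exact ⟨hsurj⟩
  refine ⟨?_, ?_⟩
  · change SmoothOfRelativeDimension n f'
    rw [← hl2]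
    have := smoothOfRelativeDimension_comp (n := 0) (m := n) (f := l) (pullback.snd π j)
    rwa [zero_add] at this
  · change GeometricallyIrreducible f'
    rw [← hl2]
    infer_instance

include g hY in
theorem smoothRelDim_shrink (hsm : FlatCA.SmoothRelDim n R D) : FlatCA.SmoothRelDim n R' D' := by
  let π := Spec.map (CommRingCat.ofHom (algebraMap R D))
  let j := Spec.map (CommRingCat.ofHom (algebraMap R R'))
  let i := Spec.map (CommRingCat.ofHom (algebraMap D D'))
  let f' := Spec.map (CommRingCat.ofHom (algebraMap R' D'))
  have hcomm : i ≫ π = f' ≫ j := by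
    simp only [i, π, f', j, ← Spec.map_comp, ← CommRingCat.ofHom_comp]
    congr 2
    ext r
    simp only [RingHom.comp_apply]
    rw [← IsScalarTower.algebraMap_apply, ← IsScalarTower.algebraMap_apply]
  haveI : IsOpenImmersion j := IsOpenImmersion.of_isLocalization g
  haveI : IsOpenImmersion i := IsOpenImmersion.of_isLocalization hY
  let l : Spec (CommRingCat.of D') ⟶ pullback π j := pullback.lift i f' hcomm
  have hl1 : l ≫ pullback.fst π j = i := pullback.lift_fst _ _ _
  have hl2 : l ≫ pullback.snd π j = f' := pullback.lift_snd _ _ _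
  haveI : IsOpenImmersion (l ≫ pullback.fst π j) := by rw [hl1]; infer_instance
  haveI : IsOpenImmersion l := IsOpenImmersion.of_comp l (pullback.fst π j)
  haveI hsm' : SmoothOfRelativeDimension n π := hsm
  haveI : SmoothOfRelativeDimension n (pullback.snd π j) := by
    haveI := smoothOfRelativeDimension_isStableUnderBaseChange n
    exact MorphismProperty.pullback_snd (P := @SmoothOfRelativeDimension n) π j hsm'
  change SmoothOfRelativeDimension n f'
  rw [← hl2]
  have := smoothOfRelativeDimension_comp (n := 0) (m := n) (f := l) (pullback.snd π j)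
  rwa [zero_add] at this

include g hY in
theorem geomIrred_shrink (hirr : FlatCA.GeomIrredFibres R D)
    (hsurj : Function.Surjective (PrimeSpectrum.comap (algebraMap R' D'))) :
    FlatCA.GeomIrredFibres R' D' := by
  let π := Spec.map (CommRingCat.ofHom (algebraMap R D))
  let j := Spec.map (CommRingCat.ofHom (algebraMap R R'))
  let i := Spec.map (CommRingCat.ofHom (algebraMap D D'))
  let f' := Spec.map (CommRingCat.ofHom (algebraMap R' D'))
  have hcomm : i ≫ π = f' ≫ j := by
    simp only [i, π, f', j, ← Spec.map_comp, ← CommRingCat.ofHom_comp]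
    congr 2
    ext r
    simp only [RingHom.comp_apply]
    rw [← IsScalarTower.algebraMap_apply, ← IsScalarTower.algebraMap_apply]
  haveI : IsOpenImmersion j := IsOpenImmersion.of_isLocalization g
  haveI : IsOpenImmersion i := IsOpenImmersion.of_isLocalization hY
  let l : Spec (CommRingCat.of D') ⟶ pullback π j := pullback.lift i f' hcomm
  have hl1 : l ≫ pullback.fst π j = i := pullback.lift_fst _ _ _
  have hl2 : l ≫ pullback.snd π j = f' := pullback.lift_snd _ _ _
  haveI : IsOpenImmersion (l ≫ pullback.fst π j) := by rw [hl1]; infer_instance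
  haveI : IsOpenImmersion l := IsOpenImmersion.of_comp l (pullback.fst π j)
  haveI hirr' : GeometricallyIrreducible π := hirr
  haveI : Surjective (l ≫ pullback.snd π j) := by
    rw [hl2]
    exact ⟨hsurj⟩
  change GeometricallyIrreducible f'
  rw [← hl2]
  infer_instance

end Groth.Agent.Lib.H6xShrinkD2
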