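import Mathlib
import Groth.Prelude.Def_FlatCA
import Groth.Agent.Lib.H6xShrDev3
import Groth.Agent.Lib.H6xShrinkC
import Groth.Agent.Lib.H6xShrinkD1
import Groth.Agent.Lib.H6xShrinkD2
import Groth.Agent.Lib.H6xDevBC

/-!
# Standard shrinking of a complete dévissage: properties at the genuine indices (helper6)
-/

set_option autoImplicit false
universe u

namespace Groth.Agent.Lib.H6xShrDev

open Groth.Agent.Lib

variable {R S : Type u} [CommRing R] [CommRing S] [Algebra R S] {N : Type u} [AddCommGroup N]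
  [Module S N] {p : Ideal R} [p.IsPrime]

namespace ShrinkData

variable {𝒟 : FlatCA.CompleteDevissage R S N p} (D : ShrinkData 𝒟)

section Good

variable (i : ℕ) [hi : Fact (i < 𝒟.n)]

include hi in
lemma good_finiteBA : Module.Finite (D.T i) (D.TA i) := by
  haveI := 𝒟.finiteBA i hi.out
  exact H6xShrinkD1.finite_away (𝒟.B i) (𝒟.A i) (D.b i) (D.a i) (D.T i) (D.TA i)
    (D.map_b_eq_a i hi.out)

include hi in
lemma good_smooth : Algebra.Smooth D.R' (D.T i) := by
  haveI := 𝒟.smooth i hi.out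
  haveI : Algebra.Etale (𝒟.B i) (D.T i) := Algebra.Etale.of_isLocalizationAway (D.b i)
  haveI : Algebra.Smooth (𝒟.B i) (D.T i) := ⟨inferInstance, inferInstance⟩
  haveI : Algebra.Smooth R (D.T i) := Algebra.Smooth.comp R (𝒟.B i) (D.T i)
  haveI := H6xShrinkC.isPushout_self R D.g D.R' (D.T i)
  exact H6xDevBC.smooth_of_isPushout R D.R' (D.T i) (D.T i)

include hi in
lemma good_geomIrred (hsurj : Function.Surjective (PrimeSpectrum.comap (algebraMap D.R' (D.T i)))) :
    FlatCA.GeomIrredFibres D.R' (D.T i) :=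
  H6xShrinkD2.geomIrred_shrink R (𝒟.B i) D.R' (D.T i) D.g (D.b i) (𝒟.geomIrred i hi.out) hsurj

lemma map_map_eq :
    (p.map (algebraMap R D.R')).map (algebraMap D.R' (D.T i)) =
      (p.map (algebraMap R (𝒟.B i))).map (algebraMap (𝒟.B i) (D.T i)) := by
  rw [Ideal.map_map, Ideal.map_map, ← IsScalarTower.algebraMap_eq, ← IsScalarTower.algebraMap_eq]

include hi in
lemma good_prime (hb : D.b i ∉ p.map (algebraMap R (𝒟.B i))) :
    ((p.map (algebraMap R D.R')).map (algebraMap D.R' (D.T i))).IsPrime := by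
  rw [D.map_map_eq i]
  exact H6xShrinkC.isPrime_map (D.b i) (D.T i) _ hb

include hi in
lemma good_liesOver (hb : D.b i ∉ p.map (algebraMap R (𝒟.B i))) :
    ((p.map (algebraMap R D.R')).map (algebraMap D.R' (D.T i))).LiesOver
      (p.map (algebraMap R (𝒟.B i))) := by
  rw [D.map_map_eq i]
  exact H6xShrinkC.liesOver_map (D.b i) (D.T i) _ hb

include hi in
lemma good_finiteM : Module.Finite (D.TA i) (D.gM i) := by
  haveI := 𝒟.finiteM i hi.out
  exact H6xShrinkD1.finite_module_away (𝒟.A i) (D.a i) (D.TA i) (𝒟.M i) (D.gM i) (D.gMap i)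

include hi in
lemma good_isLocalizedModule :
    IsLocalizedModule (Submonoid.powers (D.b i)) ((D.gMap i).restrictScalars (𝒟.B i)) := by
  haveI : IsLocalizedModule (Submonoid.powers (algebraMap (𝒟.B i) (𝒟.A i) (D.b i))) (D.gMap i) := by
    rw [D.map_b_eq_a i hi.out]
    infer_instance
  exact IsLocalizedModule.restrictScalars_powers (D.b i) (D.gMap i)

include hi in
lemma good_isBaseChange : IsBaseChange (D.T i) ((D.gMap i).restrictScalars (𝒟.B i)) := by
  haveI := D.good_isLocalizedModule i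
  exact (isLocalizedModule_iff_isBaseChange (Submonoid.powers (D.b i)) (D.T i) _).mp inferInstance

include hi in
lemma good_range :
    LinearMap.range (D.α' i) =
      Submodule.span (D.T i) ((D.gMap i) '' (LinearMap.range (𝒟.α i) : Set (𝒟.M i))) :=
  H6xDevBC.range_eq_span_image ((D.gMap i).restrictScalars (𝒟.B i))
    (𝒟.r i) (𝒟.α i) (D.α' i) (D.α'_single i)

include hi in
lemma good_surjective (hs : Function.Surjective (𝒟.α i)) : Function.Surjective (D.α' i) :=
  H6xDevBC.surjective_of_surjective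
    ((D.gMap i).restrictScalars (𝒟.B i)) (D.good_isBaseChange i) (𝒟.r i) (𝒟.α i)
    (D.α' i) (D.α'_single i) hs

include hi in
lemma good_fibre (hb : D.b i ∉ p.map (algebraMap R (𝒟.B i)))
    [hq' : ((p.map (algebraMap R D.R')).map (algebraMap D.R' (D.T i))).IsPrime] :
    Function.Bijective ((D.α' i).baseChange
      ((p.map (algebraMap R D.R')).map (algebraMap D.R' (D.T i))).ResidueField) := by
  haveI := D.good_liesOver i hb
  exact H6xDevBC.fibre_bijective_baseChange
    ((D.gMap i).restrictScalars (𝒟.B i)) (D.good_isBaseChange i) (𝒟.r i) (𝒟.α i)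
    (D.α' i) (D.α'_single i) (p.map (algebraMap R (𝒟.B i)))
    ((p.map (algebraMap R D.R')).map (algebraMap D.R' (D.T i))) (𝒟.fibreIso i hi.out)

end Good

section Good1

variable (i : ℕ) [hi : Fact (i < 𝒟.n)] [hi1 : Fact (i + 1 < 𝒟.n)]

include hi hi1 in
lemma good_surjBA' : Function.Surjective (algebraMap (D.T i) (D.TA (i + 1))) :=
  H6xShrinkD1.surjective_away (𝒟.B i) (𝒟.A (i + 1)) (D.b i) (D.a (i + 1)) (D.T i) (D.TA (i + 1))
    rfl (𝒟.surjBA' i hi1.out)

include hi hi1 in
lemma good_fpBA' : Algebra.FinitePresentation (D.T i) (D.TA (i + 1)) := by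
  haveI := 𝒟.fpBA' i hi1.out
  exact H6xShrinkD1.finitePresentation_away (𝒟.B i) (𝒟.A (i + 1)) (D.b i) (D.a (i + 1)) (D.T i)
    (D.TA (i + 1)) rfl

include hi hi1 in
lemma good_isBaseChange' :
    IsBaseChange (D.T i) ((D.gMap (i + 1)).restrictScalars (𝒟.B i)) := by
  haveI : IsLocalizedModule (Submonoid.powers (algebraMap (𝒟.B i) (𝒟.A (i + 1)) (D.b i)))
      (D.gMap (i + 1)) := by
    rw [← D.a_succ i]
    infer_instance
  haveI := IsLocalizedModule.restrictScalars_powers (D.b i) (D.gMap (i + 1))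
  exact (isLocalizedModule_iff_isBaseChange (Submonoid.powers (D.b i)) (D.T i) _).mp inferInstance

include hi hi1 in
lemma good_coker :
    Nonempty ((D.gM i ⧸ LinearMap.range (D.α' i)) ≃ₗ[D.T i] D.gM (i + 1)) := by
  obtain ⟨e⟩ := H6xDevBC.nonempty_coker_equiv
    ((D.gMap i).restrictScalars (𝒟.B i)) (D.good_isBaseChange i)
    ((D.gMap (i + 1)).restrictScalars (𝒟.B i)) (D.good_isBaseChange' i)
    (LinearMap.range (𝒟.α i)) (𝒟.isoCoker i hi1.out)
  exact ⟨(Submodule.quotEquivOfEq _ _ (D.good_range i)).trans e⟩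

end Good1

end ShrinkData

end Groth.Agent.Lib.H6xShrDev
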