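import Mathlib
import Groth.Prelude.Def_FlatCA
import Groth.Agent.Lib.H6xShrDev4

/-!
# Standard shrinking of a complete dévissage: the shrunken dévissage (helper6)
-/

set_option autoImplicit false
universe u

namespace Groth.Agent.Lib.H6xShrDev

open Groth.Agent.Lib

variable {R S : Type u} [CommRing R] [CommRing S] [Algebra R S] {N : Type u} [AddCommGroup N]
  [Module S N] {p : Ideal R} [p.IsPrime]

namespace ShrinkData

variable {𝒟 : FlatCA.CompleteDevissage R S N p} (D : ShrinkData 𝒟)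

/-- for junk `i`, `B'_i` is `R'` -/
noncomputable def eJunk (i : ℕ) (h : ¬ i < 𝒟.n) : D.T i ≃ₐ[D.R'] D.R' := H6xJF.eSnd D.R' _ _ h

/-- for junk `i`, `A'_i` is `B'_{i-1}` -/
noncomputable def eJunkA (i : ℕ) (h : ¬ i < 𝒟.n) : D.TA i ≃ₐ[D.R'] D.T (i - 1) :=
  H6xJF.eSnd D.R' _ _ h

lemma junk_prime (i : ℕ) (h : ¬ i < 𝒟.n) (p' : Ideal D.R') [p'.IsPrime] :
    (p'.map (algebraMap D.R' (D.T i))).IsPrime := by
  have : p'.map (algebraMap D.R' (D.T i)) =
      p'.comap ((D.eJunk i h : D.T i ≃+* D.R') : D.T i →+* D.R') := by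
    have h1 : algebraMap D.R' (D.T i) =
        (((D.eJunk i h : D.T i ≃+* D.R').symm : D.R' ≃+* D.T i) : D.R' →+* D.T i) := by
      ext r
      change _ = (D.eJunk i h).symm r
      rw [← (D.eJunk i h).symm.commutes r]
      rfl
    rw [h1]
    exact Ideal.map_comap_of_equiv _
  rw [this]
  exact Ideal.comap_isPrime _ _

lemma prime_all (hb : ∀ i, i < 𝒟.n → D.b i ∉ p.map (algebraMap R (𝒟.B i)))
    [(p.map (algebraMap R D.R')).IsPrime] (i : ℕ) :
    ((p.map (algebraMap R D.R')).map (algebraMap D.R' (D.T i))).IsPrime := by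
  by_cases h : i < 𝒟.n
  · haveI : Fact (i < 𝒟.n) := ⟨h⟩
    exact D.good_prime i (hb i h)
  · exact D.junk_prime i h _

section SPart

lemma s_surj : Function.Surjective (algebraMap D.S' (D.TA 0)) :=
  H6xShrinkD1.surjective_away S (𝒟.A 0) D.hX (D.a 0) D.S' (D.TA 0) rfl 𝒟.surjSA

lemma s_fp : Algebra.FinitePresentation D.S' (D.TA 0) := by
  haveI := 𝒟.fpSA
  exact H6xShrinkD1.finitePresentation_away S (𝒟.A 0) D.hX (D.a 0) D.S' (D.TA 0) rfl

/-- the localized module of `N` -/
abbrev N' : Type u := LocalizedModule (Submonoid.powers D.hX) N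

instance isLoc_gMap0 :
    IsLocalizedModule (Submonoid.powers D.hX) ((D.gMap 0).restrictScalars S) := by
  haveI : IsLocalizedModule (Submonoid.powers (algebraMap S (𝒟.A 0) D.hX)) (D.gMap 0) := by
    rw [← D.a_zero]
    infer_instance
  exact IsLocalizedModule.restrictScalars_powers D.hX (D.gMap 0)

/-- the identification `N[1/hX] ≅ M_0[1/a_0]` -/
noncomputable def isoN' : D.N' ≃ₗ[D.S'] D.gM 0 :=
  (IsLocalizedModule.linearEquiv (Submonoid.powers D.hX)
    (LocalizedModule.mkLinearMap (Submonoid.powers D.hX) N)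
    (((D.gMap 0).restrictScalars S).comp 𝒟.isoN.toLinearMap)).extendScalarsOfIsLocalization
      (Submonoid.powers D.hX) D.S'

lemma isoN'_apply (x : N) :
    D.isoN' (LocalizedModule.mkLinearMap (Submonoid.powers D.hX) N x) = D.gMap 0 (𝒟.isoN x) := by
  unfold isoN'
  rw [LinearEquiv.extendScalarsOfIsLocalization_apply, IsLocalizedModule.linearEquiv_apply]
  rfl

end SPart

section Assemble

variable (hb : ∀ i, i < 𝒟.n → D.b i ∉ p.map (algebraMap R (𝒟.B i)))
  (hsurj : ∀ i, i < 𝒟.n → Function.Surjective (PrimeSpectrum.comap (algebraMap D.R' (D.T i))))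
  [hp' : (p.map (algebraMap R D.R')).IsPrime]

/-- the shrunken dévissage -/
noncomputable def dev' :
    FlatCA.CompleteDevissage D.R' D.S' D.N' (p.map (algebraMap R D.R')) where
  n := 𝒟.n
  pos := 𝒟.pos
  A := D.TA
  B := D.T
  M := D.gM
  r := 𝒟.r
  cA := fun i => inferInstance
  cB := fun i => inferInstance
  aRA := fun i => inferInstance
  aRB := fun i => inferInstance
  aBA := fun i => D.algTTA i
  tRBA := fun i => inferInstance
  aSA := D.algS'TA
  tRSA := inferInstance
  aBA' := fun i => D.algTTA' i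
  tRBA' := fun i => inferInstance
  gM := fun i => inferInstance
  mAM := fun i => D.modTAgM i
  mBM := fun i => D.modTgM i
  tBAM := fun i => inferInstance
  mRM := fun i => D.modR'gM i
  tRBM := fun i => inferInstance
  mSM := D.modS'gM
  tSAM := inferInstance
  mB'M := fun i => D.modTgM' i
  tB'AM := fun i => inferInstance
  hp := fun i => D.prime_all hb i
  α := D.α'
  surjSA := D.s_surj
  fpSA := D.s_fp
  surjBA' := fun i h => by
    haveI : Fact (i < 𝒟.n) := ⟨by omega⟩
    haveI : Fact (i + 1 < 𝒟.n) := ⟨h⟩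
    exact D.good_surjBA' i
  fpBA' := fun i h => by
    haveI : Fact (i < 𝒟.n) := ⟨by omega⟩
    haveI : Fact (i + 1 < 𝒟.n) := ⟨h⟩
    exact D.good_fpBA' i
  finiteBA := fun i h => by
    haveI : Fact (i < 𝒟.n) := ⟨h⟩
    exact D.good_finiteBA i
  smooth := fun i h => by
    haveI : Fact (i < 𝒟.n) := ⟨h⟩
    exact D.good_smooth i
  geomIrred := fun i h => by
    haveI : Fact (i < 𝒟.n) := ⟨h⟩
    exact D.good_geomIrred i (hsurj i h)
  finiteM := fun i h => by
    haveI : Fact (i < 𝒟.n) := ⟨h⟩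
    exact D.good_finiteM i
  isoN := D.isoN'
  isoCoker := fun i h => by
    haveI : Fact (i < 𝒟.n) := ⟨by omega⟩
    haveI : Fact (i + 1 < 𝒟.n) := ⟨h⟩
    exact Classical.choice (D.good_coker i)
  fibreIso := fun i h => by
    haveI : Fact (i < 𝒟.n) := ⟨h⟩
    exact D.good_fibre i (hb i h) (hq' := D.prime_all hb i)
  cokerLast := by
    haveI : Fact (𝒟.n - 1 < 𝒟.n) := ⟨by have := 𝒟.pos; omega⟩
    exact D.good_surjective (𝒟.n - 1) 𝒟.cokerLast

end Assemble

end ShrinkData

end Groth.Agent.Lib.H6xShrDev
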