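import Mathlib
import Groth.Prelude.Def_FlatCA
import Groth.Agent.Lib.H6xShrinkC

/-!
# Lying-over bookkeeping for a standard shrinking (helper6)
-/

set_option autoImplicit false
universe u

namespace Groth.Agent.Lib.H6xShrinkD4

open Groth.Agent.Lib.H6xShrinkC

variable (A B A' B' : Type u) [CommRing A] [CommRing B] [CommRing A'] [CommRing B']
  [Algebra A B] [Algebra A A'] [Algebra B B'] [Algebra A' B'] [Algebra A B']
  [IsScalarTower A A' B'] [IsScalarTower A B B'] (a : A) [IsLocalization.Away a A'] (b : B)
  [IsLocalization.Away b B']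

omit [IsLocalization.Away a A'] [IsLocalization.Away b B'] in
theorem comap_comap_eq (I : Ideal B') :
    (I.comap (algebraMap A' B')).comap (algebraMap A A') =
      (I.comap (algebraMap B B')).comap (algebraMap A B) := by
  rw [Ideal.comap_comap, Ideal.comap_comap]
  congr 1
  ext r
  simp only [RingHom.comp_apply]
  rw [← IsScalarTower.algebraMap_apply, ← IsScalarTower.algebraMap_apply]

include a b in
theorem liesOver_map_map (P : Ideal A) (Q : Ideal B) [Q.IsPrime] [Q.LiesOver P] (hb : b ∉ Q) :
    (Q.map (algebraMap B B')).LiesOver (P.map (algebraMap A A')) := by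
  constructor
  apply (eq_map_of_comap a A' P _ ?_).symm
  change ((Q.map (algebraMap B B')).comap (algebraMap A' B')).comap (algebraMap A A') = P
  rw [comap_comap_eq A B A' B', comap_map b B' Q hb]
  exact (Q.over_def P).symm

include a b in
theorem unique_over_map (y : Ideal A) [y.IsPrime] (z : Ideal B) (ha : a ∉ y)
    (h3 : ∀ (z₁ : Ideal B) [z₁.IsPrime], z₁.LiesOver y → z₁ = z)
    (z₂ : Ideal B') [z₂.IsPrime] (h : z₂.LiesOver (y.map (algebraMap A A'))) :
    z₂ = z.map (algebraMap B B') := by
  haveI : (z₂.comap (algebraMap B B')).IsPrime := Ideal.comap_isPrime _ _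
  have h1 : (z₂.comap (algebraMap B B')).LiesOver y := by
    constructor
    change y = (z₂.comap (algebraMap B B')).comap (algebraMap A B)
    rw [← comap_comap_eq A B A' B']
    have : z₂.comap (algebraMap A' B') = y.map (algebraMap A A') := (h.over).symm
    rw [this, comap_map a A' y ha]
  have h2 := h3 _ h1
  exact eq_map_of_comap b B' z z₂ h2

end Groth.Agent.Lib.H6xShrinkD4
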