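import Mathlib
import Groth.Prelude.Def_FlatCA
import Groth.Agent.Lib.H6xShrDev5
import Groth.Agent.Lib.H6xShrinkD4
import Groth.Agent.Lib.H6xShrinkF

/-!
# Standard shrinking of a complete dévissage: the points (helper6)
-/

set_option autoImplicit false
universe u

namespace Groth.Agent.Lib.H6xShrDev

open Groth.Agent.Lib

variable {R S : Type u} [CommRing R] [CommRing S] [Algebra R S] {N : Type u} [AddCommGroup N]
  [Module S N] {p : Ideal R} [p.IsPrime]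

namespace ShrinkData

variable {𝒟 : FlatCA.CompleteDevissage R S N p} (D : ShrinkData 𝒟)
  {q : Ideal S} [q.IsPrime] (𝒜 : FlatCA.CompleteDevissageAt R S N p q 𝒟)

/-- the extended prime of the base -/
abbrev p' : Ideal D.R' := p.map (algebraMap R D.R')
/-- the extended prime of the algebra -/
abbrev q' (q : Ideal S) : Ideal D.S' := q.map (algebraMap S D.S')

section Elems

variable (hbq : ∀ i, i < 𝒟.n → D.b i ∉ 𝒜.qB i)

include hbq in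
lemma hb_of_hbq : ∀ i, i < 𝒟.n → D.b i ∉ p.map (algebraMap R (𝒟.B i)) := fun i h hmem =>
  hbq i h (by
    have : p.map (algebraMap R (𝒟.B i)) ≤ 𝒜.qB i := by
      rw [Ideal.map_le_iff_le_comap]
      exact ((𝒜.overB i).over).le
    exact this hmem)

include hbq in
lemma ha_of_hbq : ∀ i, i < 𝒟.n → D.a i ∉ 𝒜.qA i := fun i h hmem =>
  hbq i h (by
    rw [(𝒜.overA i).over]
    change algebraMap (𝒟.B i) (𝒟.A i) (D.b i) ∈ 𝒜.qA i
    rw [D.map_b_eq_a i h]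
    exact hmem)

include hbq in
lemma hX_of_hbq : D.hX ∉ q := fun hmem =>
  D.ha_of_hbq 𝒜 hbq 0 𝒟.pos (by
    rw [D.a_zero]
    have := 𝒜.q0
    rw [← this] at hmem
    exact hmem)

end Elems

section Junk

variable (i : ℕ) (h : ¬ i < 𝒟.n) (P : Ideal D.R')

/-- junk prime of `B'_i` -/
noncomputable def junkQB : Ideal (D.T i) := P.comap ((D.eJunk i h : D.T i ≃+* D.R') : D.T i →+* D.R')

lemma junkQB_prime [P.IsPrime] : (D.junkQB i h P).IsPrime := Ideal.comap_isPrime _ _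

lemma junkQB_liesOver : (D.junkQB i h P).LiesOver P := by
  constructor
  change P = (P.comap _).comap (algebraMap D.R' (D.T i))
  rw [Ideal.comap_comap]
  have : (((D.eJunk i h : D.T i ≃+* D.R') : D.T i →+* D.R')).comp (algebraMap D.R' (D.T i)) =
      RingHom.id _ := by
    ext r
    exact (D.eJunk i h).commutes r
  rw [this, Ideal.comap_id]

/-- junk prime of `A'_i` -/
noncomputable def junkQA (Q : Ideal (D.T (i - 1))) : Ideal (D.TA i) :=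
  Q.comap ((D.eJunkA i h : D.TA i ≃+* D.T (i - 1)) : D.TA i →+* D.T (i - 1))

lemma junkQA_prime (Q : Ideal (D.T (i - 1))) [Q.IsPrime] : (D.junkQA i h Q).IsPrime :=
  Ideal.comap_isPrime _ _

lemma junk_eq (x : D.T i) : x = algebraMap D.R' (D.T i) (D.eJunk i h x) := by
  rw [← (D.eJunk i h).symm.commutes]
  simp

lemma junkQA_liesOver (Q : Ideal (D.T (i - 1))) [hQ : Q.LiesOver P] :
    (D.junkQA i h Q).LiesOver (D.junkQB i h P) := by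
  constructor
  change D.junkQB i h P = (Q.comap _).comap (algebraMap (D.T i) (D.TA i))
  rw [Ideal.comap_comap]
  have key : (((D.eJunkA i h : D.TA i ≃+* D.T (i - 1)) : D.TA i →+* D.T (i - 1))).comp
      (algebraMap (D.T i) (D.TA i)) =
      (algebraMap D.R' (D.T (i - 1))).comp
        ((D.eJunk i h : D.T i ≃+* D.R') : D.T i →+* D.R') := by
    ext x
    simp only [RingHom.comp_apply]
    conv_lhs => rw [D.junk_eq i h x]
    rw [← IsScalarTower.algebraMap_apply D.R' (D.T i) (D.TA i)]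
    exact (D.eJunkA i h).commutes _
  rw [key, ← Ideal.comap_comap]
  have : Q.comap (algebraMap D.R' (D.T (i - 1))) = P := (hQ.over).symm
  rw [this]
  rfl

end Junk

attribute [local instance] FlatCA.CompleteDevissageAt.hqB FlatCA.CompleteDevissageAt.hqA
  FlatCA.CompleteDevissageAt.overB FlatCA.CompleteDevissageAt.overA

section GoodPrimes

variable (hg : D.g ∉ p) (hbq : ∀ i, i < 𝒟.n → D.b i ∉ 𝒜.qB i) (i : ℕ) [hi : Fact (i < 𝒟.n)]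

include hbq in
lemma goodQB_prime : ((𝒜.qB i).map (algebraMap (𝒟.B i) (D.T i))).IsPrime :=
  H6xShrinkC.isPrime_map (D.b i) (D.T i) (𝒜.qB i) (hbq i hi.out)

include hbq in
lemma goodQB_liesOver : ((𝒜.qB i).map (algebraMap (𝒟.B i) (D.T i))).LiesOver (𝒜.qB i) :=
  H6xShrinkC.liesOver_map (D.b i) (D.T i) (𝒜.qB i) (hbq i hi.out)

include hbq in
lemma goodQB_liesOver' : ((𝒜.qB i).map (algebraMap (𝒟.B i) (D.T i))).LiesOver D.p' :=
  H6xShrinkD4.liesOver_map_map R (𝒟.B i) D.R' (D.T i) D.g (D.b i) p (𝒜.qB i) (hbq i hi.out)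

include hbq in
lemma goodQA_prime : ((𝒜.qA i).map (algebraMap (𝒟.A i) (D.TA i))).IsPrime :=
  H6xShrinkC.isPrime_map (D.a i) (D.TA i) (𝒜.qA i) (D.ha_of_hbq 𝒜 hbq i hi.out)

include hbq in
lemma goodQA_liesOver : ((𝒜.qA i).map (algebraMap (𝒟.A i) (D.TA i))).LiesOver (𝒜.qA i) :=
  H6xShrinkC.liesOver_map (D.a i) (D.TA i) (𝒜.qA i) (D.ha_of_hbq 𝒜 hbq i hi.out)

include hbq in
lemma goodQA_liesOver' : ((𝒜.qA i).map (algebraMap (𝒟.A i) (D.TA i))).LiesOver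
    ((𝒜.qB i).map (algebraMap (𝒟.B i) (D.T i))) :=
  H6xShrinkD4.liesOver_map_map (𝒟.B i) (𝒟.A i) (D.T i) (D.TA i) (D.b i) (D.a i) (𝒜.qB i) (𝒜.qA i)
    (D.ha_of_hbq 𝒜 hbq i hi.out)

end GoodPrimes

section Points

/-- the points of the shrunken smooth algebras -/
noncomputable def qB' (i : ℕ) : Ideal (D.T i) :=
  if h : i < 𝒟.n then
    (haveI : Fact (i < 𝒟.n) := ⟨h⟩; (𝒜.qB i).map (algebraMap (𝒟.B i) (D.T i)))
  else D.junkQB i h D.p'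

/-- the points of the shrunken rings carrying the modules -/
noncomputable def qA' (i : ℕ) : Ideal (D.TA i) :=
  if h : i < 𝒟.n then
    (haveI : Fact (i < 𝒟.n) := ⟨h⟩; (𝒜.qA i).map (algebraMap (𝒟.A i) (D.TA i)))
  else D.junkQA i h (D.qB' 𝒜 (i - 1))

lemma qB'_good (i : ℕ) [hi : Fact (i < 𝒟.n)] :
    D.qB' 𝒜 i = (𝒜.qB i).map (algebraMap (𝒟.B i) (D.T i)) := by
  rw [qB', dif_pos hi.out]

lemma qA'_good (i : ℕ) [hi : Fact (i < 𝒟.n)] :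
    D.qA' 𝒜 i = (𝒜.qA i).map (algebraMap (𝒟.A i) (D.TA i)) := by
  rw [qA', dif_pos hi.out]

lemma qB'_junk (i : ℕ) (h : ¬ i < 𝒟.n) : D.qB' 𝒜 i = D.junkQB i h D.p' := by
  rw [qB', dif_neg h]

lemma qA'_junk (i : ℕ) (h : ¬ i < 𝒟.n) : D.qA' 𝒜 i = D.junkQA i h (D.qB' 𝒜 (i - 1)) := by
  rw [qA', dif_neg h]

variable (hbq : ∀ i, i < 𝒟.n → D.b i ∉ 𝒜.qB i) [hp' : D.p'.IsPrime]

include hbq in
lemma qB'_prime (i : ℕ) : (D.qB' 𝒜 i).IsPrime := by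
  by_cases h : i < 𝒟.n
  · haveI : Fact (i < 𝒟.n) := ⟨h⟩
    rw [qB'_good]
    exact D.goodQB_prime 𝒜 hbq i
  · rw [D.qB'_junk 𝒜 i h]
    exact D.junkQB_prime i h _

omit hp' in
include hbq in
lemma qB'_liesOver (i : ℕ) : (D.qB' 𝒜 i).LiesOver D.p' := by
  by_cases h : i < 𝒟.n
  · haveI : Fact (i < 𝒟.n) := ⟨h⟩
    rw [qB'_good]
    exact D.goodQB_liesOver' 𝒜 hbq i
  · rw [D.qB'_junk 𝒜 i h]
    exact D.junkQB_liesOver i h _

include hbq in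
lemma qA'_prime (i : ℕ) : (D.qA' 𝒜 i).IsPrime := by
  by_cases h : i < 𝒟.n
  · haveI : Fact (i < 𝒟.n) := ⟨h⟩
    rw [qA'_good]
    exact D.goodQA_prime 𝒜 hbq i
  · rw [D.qA'_junk 𝒜 i h]
    haveI := D.qB'_prime 𝒜 hbq (i - 1)
    exact D.junkQA_prime i h _

omit hp' in
include hbq in
lemma qA'_liesOver (i : ℕ) : (D.qA' 𝒜 i).LiesOver (D.qB' 𝒜 i) := by
  by_cases h : i < 𝒟.n
  · haveI : Fact (i < 𝒟.n) := ⟨h⟩
    rw [qA'_good, qB'_good]
    exact D.goodQA_liesOver' 𝒜 hbq i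
  · rw [D.qA'_junk 𝒜 i h, D.qB'_junk 𝒜 i h]
    haveI := D.qB'_liesOver 𝒜 hbq (i - 1)
    exact D.junkQA_liesOver i h D.p' _

end Points

section Fields

variable (hg : D.g ∉ p) (hbq : ∀ i, i < 𝒟.n → D.b i ∉ 𝒜.qB i) [hp' : D.p'.IsPrime]
  (i : ℕ) [hi : Fact (i < 𝒟.n)]

include hg hbq in
lemma at_pureTrans [(D.qB' 𝒜 i).IsPrime] [(D.qB' 𝒜 i).LiesOver D.p'] :
    FlatCA.PurelyTranscendental D.p' (D.qB' 𝒜 i) := by
  haveI : D.p'.LiesOver p := H6xShrinkC.liesOver_map D.g D.R' p hg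
  haveI : (D.qB' 𝒜 i).LiesOver (𝒜.qB i) := by
    rw [qB'_good]
    exact D.goodQB_liesOver 𝒜 hbq i
  have hκ := H6xShrinkC.residueField_bijective D.g D.R' p D.p'
  have hc := H6xShrinkC.residueField_map_bijective (D.b i) (D.T i) (𝒜.qB i) (D.qB' 𝒜 i)
    ((D.qB' 𝒜 i).over_def (𝒜.qB i))
  exact H6xShrinkC.purelyTranscendental_of_bijective R (𝒟.B i) p D.R' D.p' (D.T i) hκ (𝒜.qB i)
    (D.qB' 𝒜 i) hc (𝒜.pureTrans i hi.out)

include hbq in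
omit hp' in
lemma at_uniq (Q : Ideal (D.TA i)) (hQp : Q.IsPrime) (hQ : Q.LiesOver (D.qB' 𝒜 i)) :
    Q = D.qA' 𝒜 i := by
  haveI := hQp
  rw [qA'_good]
  rw [qB'_good] at hQ
  exact H6xShrinkD4.unique_over_map (𝒟.B i) (𝒟.A i) (D.T i) (D.TA i) (D.b i) (D.a i) (𝒜.qB i)
    (𝒜.qA i) (hbq i hi.out) (fun z₁ _ hz => 𝒜.uniq i hi.out z₁ hz) Q hQ

omit hp' in
lemma at_relDim : FlatCA.SmoothRelDim (𝒜.d i) D.R' (D.T i) :=
  H6xShrinkD2.smoothRelDim_shrink R (𝒟.B i) D.R' (D.T i) D.g (D.b i) (𝒜.d i) (𝒜.relDim i hi.out)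

end Fields

section Fields2

variable (hbq : ∀ i, i < 𝒟.n → D.b i ∉ 𝒜.qB i)

lemma cc {X Y Z : Type u} [CommRing X] [CommRing Y] [CommRing Z] [Algebra X Y] [Algebra Y Z]
    [Algebra X Z] [IsScalarTower X Y Z] (P : Ideal Z) :
    (P.comap (algebraMap Y Z)).comap (algebraMap X Y) = P.comap (algebraMap X Z) := by
  rw [Ideal.comap_comap, ← IsScalarTower.algebraMap_eq]

include hbq in
lemma at_q0 : (D.qA' 𝒜 0).comap (algebraMap D.S' (D.TA 0)) = D.q' q := by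
  apply H6xShrinkC.eq_map_of_comap D.hX D.S' q
  rw [cc, ← cc (Y := 𝒟.A 0), qA'_good,
    H6xShrinkC.comap_map (D.a 0) (D.TA 0) (𝒜.qA 0) (D.ha_of_hbq 𝒜 hbq 0 𝒟.pos)]
  exact 𝒜.q0

include hbq in
lemma at_qStep (i : ℕ) (h : i + 1 < 𝒟.n) :
    (D.qA' 𝒜 (i + 1)).comap (algebraMap (D.T i) (D.TA (i + 1))) = D.qB' 𝒜 i := by
  haveI : Fact (i < 𝒟.n) := ⟨by omega⟩
  haveI : Fact (i + 1 < 𝒟.n) := ⟨h⟩
  rw [qB'_good]
  apply H6xShrinkC.eq_map_of_comap (D.b i) (D.T i) (𝒜.qB i)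
  rw [cc, ← cc (Y := 𝒟.A (i + 1)), qA'_good,
    H6xShrinkC.comap_map (D.a (i + 1)) (D.TA (i + 1)) (𝒜.qA (i + 1))
      (D.ha_of_hbq 𝒜 hbq (i + 1) h)]
  exact 𝒜.qStep i h

end Fields2

section LocDim

variable (hg : D.g ∉ p) (hbq : ∀ i, i < 𝒟.n → D.b i ∉ 𝒜.qB i) [hp' : D.p'.IsPrime]
  (i : ℕ) [hi : Fact (i < 𝒟.n)]

include hg hbq in
lemma at_locDim [(D.qB' 𝒜 i).IsPrime] [(D.qB' 𝒜 i).LiesOver D.p'] :
    ∃ (x : PrimeSpectrum (D.p'.Fiber (D.T i)))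
      (hx : x ∈ Module.support (D.p'.Fiber (D.T i)) (FlatCA.fiberMod D.p' (D.T i) (D.gM i))),
      x.asIdeal = FlatCA.fiberIdeal D.p' (D.qB' 𝒜 i) ∧
      FlatMor.localDim (Module.support (D.p'.Fiber (D.T i))
        (FlatCA.fiberMod D.p' (D.T i) (D.gM i))) ⟨x, hx⟩ = 𝒜.d i := by
  haveI : D.p'.LiesOver p := H6xShrinkC.liesOver_map D.g D.R' p hg
  haveI : (D.qB' 𝒜 i).LiesOver p := Ideal.LiesOver.trans (D.qB' 𝒜 i) D.p' p
  haveI := D.good_isLocalizedModule i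
  have h1 := H6xShrinkF.fiber_away_loc_concrete R (𝒟.B i) p (D.T i) (D.b i) (𝒟.M i) (D.gM i)
    ((D.gMap i).restrictScalars (𝒟.B i)) (𝒜.qB i) (hbq i hi.out) (𝒜.d i) (𝒜.locDim i hi.out)
  rw [← qB'_good] at h1
  exact H6xShrinkF.fiber_baseLoc_loc R D.g D.R' p D.p' (D.T i) (D.gM i) (D.qB' 𝒜 i) (𝒜.d i) h1

end LocDim

section AssembleAt

variable (hg : D.g ∉ p) (hbq : ∀ i, i < 𝒟.n → D.b i ∉ 𝒜.qB i)
  (hsurj : ∀ i, i < 𝒟.n → Function.Surjective (PrimeSpectrum.comap (algebraMap D.R' (D.T i))))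
  [hp' : D.p'.IsPrime] [hq' : (D.q' q).IsPrime]

/-- the shrunken dévissage at the extended prime -/
noncomputable def at' :
    FlatCA.CompleteDevissageAt D.R' D.S' D.N' D.p' (D.q' q)
      (D.dev' (D.hb_of_hbq 𝒜 hbq) hsurj) where
  qB := D.qB' 𝒜
  qA := D.qA' 𝒜
  hqB := D.qB'_prime 𝒜 hbq
  hqA := D.qA'_prime 𝒜 hbq
  overB := D.qB'_liesOver 𝒜 hbq
  overA := D.qA'_liesOver 𝒜 hbq
  pureTrans := fun i h => by
    haveI : Fact (i < 𝒟.n) := ⟨h⟩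
    haveI := D.qB'_prime 𝒜 hbq i
    haveI := D.qB'_liesOver 𝒜 hbq i
    exact D.at_pureTrans 𝒜 hg hbq i
  uniq := fun i h Q hQp hQ => by
    haveI : Fact (i < 𝒟.n) := ⟨h⟩
    exact D.at_uniq 𝒜 hbq i Q hQp hQ
  q0 := D.at_q0 𝒜 hbq
  qStep := fun i h => D.at_qStep 𝒜 hbq i h
  d := 𝒜.d
  relDim := fun i h => by
    haveI : Fact (i < 𝒟.n) := ⟨h⟩
    exact D.at_relDim 𝒜 i
  locDim := fun i h => by
    haveI : Fact (i < 𝒟.n) := ⟨h⟩
    haveI := D.qB'_prime 𝒜 hbq i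
    haveI := D.qB'_liesOver 𝒜 hbq i
    exact D.at_locDim 𝒜 hg hbq i

end AssembleAt

end ShrinkData

end Groth.Agent.Lib.H6xShrDev
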