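import Mathlib
import Groth.Prelude.Def_FlatCA
import Groth.Agent.Lib.H6xShrDev6

/-!
# Standard shrinking of a complete dévissage: packaging (helper6)
-/

set_option autoImplicit false
universe u

namespace Groth.Agent.Lib.H6xShrDev

open Groth.Agent.Lib

variable {R S : Type u} [CommRing R] [CommRing S] [Algebra R S] {N : Type u} [AddCommGroup N]
  [Module S N] {p : Ideal R} [p.IsPrime]

namespace ShrinkData

variable {𝒟 : FlatCA.CompleteDevissage R S N p} (D : ShrinkData 𝒟)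
  {q : Ideal S} [q.IsPrime] (𝒜 : FlatCA.CompleteDevissageAt R S N p q 𝒟)

noncomputable instance modR'N' : Module D.R' D.N' := Module.compHom D.N' (algebraMap D.R' D.S')
instance : IsScalarTower D.R' D.S' D.N' := .of_algebraMap_smul fun _ _ => rfl

attribute [local instance] FlatCA.CompleteDevissageAt.hqB FlatCA.CompleteDevissageAt.hqA
  FlatCA.CompleteDevissageAt.overB FlatCA.CompleteDevissageAt.overA

theorem main (hg : D.g ∉ p) (hbq : ∀ i, i < 𝒟.n → D.b i ∉ 𝒜.qB i)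
    (hsurj : ∀ i, i < 𝒟.n → Function.Surjective (PrimeSpectrum.comap (algebraMap D.R' (D.T i)))) :
    ∃ (_ : Algebra (Localization.Away D.g) (Localization.Away D.hX)) (_ : IsScalarTower R (Localization.Away D.g) (Localization.Away D.hX))
        (_ : Module (Localization.Away D.g) (LocalizedModule (Submonoid.powers D.hX) N)) (_ : IsScalarTower (Localization.Away D.g) (Localization.Away D.hX) (LocalizedModule (Submonoid.powers D.hX) N))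
        (_ : (Ideal.map (algebraMap R (Localization.Away D.g)) p).IsPrime) (_ : (Ideal.map (algebraMap S (Localization.Away D.hX)) q).IsPrime)
        (𝒟' : FlatCA.CompleteDevissage (Localization.Away D.g) (Localization.Away D.hX) (LocalizedModule (Submonoid.powers D.hX) N) (Ideal.map (algebraMap R (Localization.Away D.g)) p))
        (𝒜' : FlatCA.CompleteDevissageAt (Localization.Away D.g) (Localization.Away D.hX) (LocalizedModule (Submonoid.powers D.hX) N) (Ideal.map (algebraMap R (Localization.Away D.g)) p) (Ideal.map (algebraMap S (Localization.Away D.hX)) q) 𝒟')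
        (a : ∀ i : Fin 𝒟.n, 𝒟.A i) (b : ∀ i : Fin 𝒟.n, 𝒟.B i)
      (aA : ∀ i : Fin 𝒟.n, Algebra (𝒟.A i) (𝒟'.A i)) (rA : ∀ i : Fin 𝒟.n, Algebra R (𝒟'.A i))
      (_t1 : ∀ i : Fin 𝒟.n, IsScalarTower R (Localization.Away D.g) (𝒟'.A i)) (_t2 : ∀ i : Fin 𝒟.n, IsScalarTower R (𝒟.A i) (𝒟'.A i))
      (aB : ∀ i : Fin 𝒟.n, Algebra (𝒟.B i) (𝒟'.B i)) (rB : ∀ i : Fin 𝒟.n, Algebra R (𝒟'.B i))
      (_t3 : ∀ i : Fin 𝒟.n, IsScalarTower R (Localization.Away D.g) (𝒟'.B i)) (_t4 : ∀ i : Fin 𝒟.n, IsScalarTower R (𝒟.B i) (𝒟'.B i))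
      (bA : ∀ i : Fin 𝒟.n, Algebra (𝒟.B i) (𝒟'.A i)) (_t5 : ∀ i : Fin 𝒟.n, IsScalarTower (𝒟.B i) (𝒟.A i) (𝒟'.A i))
      (_t6 : ∀ i : Fin 𝒟.n, IsScalarTower (𝒟.B i) (𝒟'.B i) (𝒟'.A i))
      (bA' : ∀ i : Fin 𝒟.n, Algebra (𝒟.B i) (𝒟'.A (i + 1)))
      (_t7 : ∀ i : Fin 𝒟.n, IsScalarTower (𝒟.B i) (𝒟'.B i) (𝒟'.A (i + 1)))
      (sA : Algebra S (𝒟'.A 0)) (_t8 : IsScalarTower S (Localization.Away D.hX) (𝒟'.A 0))
      (mA : ∀ i : Fin 𝒟.n, Module (𝒟.A i) (𝒟'.M i)) (_t9 : ∀ i : Fin 𝒟.n, IsScalarTower (𝒟.A i) (𝒟'.A i) (𝒟'.M i))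
      (gM : ∀ i : Fin 𝒟.n, 𝒟.M i →ₗ[𝒟.A i] 𝒟'.M i),
        𝒟'.n = 𝒟.n ∧ 𝒟'.r = 𝒟.r ∧ 𝒜'.d = 𝒜.d ∧
        (letI := aA ⟨0, 𝒟.pos⟩; IsScalarTower S (𝒟.A 0) (𝒟'.A 0)) ∧
      (∀ x : N, 𝒟'.isoN (LocalizedModule.mkLinearMap (Submonoid.powers D.hX) N x) = gM ⟨0, 𝒟.pos⟩ (𝒟.isoN x)) ∧
      (∀ (i : Fin 𝒟.n) (h : (i : ℕ) + 1 < 𝒟.n),
        letI := aA ⟨i + 1, h⟩; IsScalarTower (𝒟.B i) (𝒟.A (i + 1)) (𝒟'.A (i + 1))) ∧
        b ⟨𝒟.n - 1, Nat.sub_one_lt_of_lt 𝒟.pos⟩ = D.c (𝒟.n - 1) * algebraMap R (𝒟.B (𝒟.n - 1)) D.g ∧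
        ∀ i : Fin 𝒟.n,
          a i ∉ 𝒜.qA i ∧ b i ∉ 𝒜.qB i ∧
          IsLocalization.Away (a i) (𝒟'.A i) ∧ IsLocalization.Away (b i) (𝒟'.B i) ∧
          IsLocalizedModule (Submonoid.powers (a i)) (gM i) ∧
          (𝒜'.qA i).LiesOver (𝒜.qA i) ∧ (𝒜'.qB i).LiesOver (𝒜.qB i) ∧
          LinearMap.range (𝒟'.α i) =
            Submodule.span (𝒟'.B i) ((gM i) '' (LinearMap.range (𝒟.α i) : Set (𝒟.M i))) := by
  haveI hp' : D.p'.IsPrime := H6xShrinkC.isPrime_map D.g D.R' p hg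
  haveI hq' : (D.q' q).IsPrime := H6xShrinkC.isPrime_map D.hX D.S' q (D.hX_of_hbq 𝒜 hbq)
  refine ⟨D.algR'S', inferInstance, D.modR'N', inferInstance, hp', hq',
    D.dev' (D.hb_of_hbq 𝒜 hbq) hsurj, D.at' 𝒜 hg hbq hsurj,
    fun i => D.a i, fun i => D.b i,
    fun i => @algATA _ _ _ _ _ _ _ _ _ _ _ D i ⟨i.2⟩,
    fun i => D.algRTA i,
    fun i => (inferInstance : IsScalarTower R D.R' (D.TA i)),
    fun i => haveI : Fact ((i : ℕ) < 𝒟.n) := ⟨i.2⟩;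
      (inferInstance : IsScalarTower R (𝒟.A i) (D.TA i)),
    fun i => @algBT _ _ _ _ _ _ _ _ _ _ _ D i ⟨i.2⟩,
    fun i => D.algRT i,
    fun i => (inferInstance : IsScalarTower R D.R' (D.T i)),
    fun i => haveI : Fact ((i : ℕ) < 𝒟.n) := ⟨i.2⟩;
      (inferInstance : IsScalarTower R (𝒟.B i) (D.T i)),
    fun i => @algBTA _ _ _ _ _ _ _ _ _ _ _ D i ⟨i.2⟩,
    fun i => haveI : Fact ((i : ℕ) < 𝒟.n) := ⟨i.2⟩;
      (inferInstance : IsScalarTower (𝒟.B i) (𝒟.A i) (D.TA i)),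
    fun i => haveI : Fact ((i : ℕ) < 𝒟.n) := ⟨i.2⟩;
      (inferInstance : IsScalarTower (𝒟.B i) (D.T i) (D.TA i)),
    fun i => @algBTA' _ _ _ _ _ _ _ _ _ _ _ D i ⟨i.2⟩,
    fun i => haveI : Fact ((i : ℕ) < 𝒟.n) := ⟨i.2⟩;
      (inferInstance : IsScalarTower (𝒟.B i) (D.T i) (D.TA (i + 1))),
    D.algSTA,
    (inferInstance : IsScalarTower S D.S' (D.TA 0)),
    fun i => (inferInstance : Module (𝒟.A i) (D.gM i)),
    fun i => haveI : Fact ((i : ℕ) < 𝒟.n) := ⟨i.2⟩;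
      (inferInstance : IsScalarTower (𝒟.A i) (D.TA i) (D.gM i)),
    fun i => D.gMap i,
    rfl, rfl, rfl, ?_, ?_, ?_, rfl, ?_⟩
  · exact (inferInstance : IsScalarTower S (𝒟.A 0) (D.TA 0))
  · intro x
    exact D.isoN'_apply x
  · intro i h
    haveI : Fact ((i : ℕ) < 𝒟.n) := ⟨i.2⟩
    haveI : Fact ((i : ℕ) + 1 < 𝒟.n) := ⟨h⟩
    exact (inferInstance : IsScalarTower (𝒟.B i) (𝒟.A (i + 1)) (D.TA (i + 1)))
  · intro i
    haveI : Fact ((i : ℕ) < 𝒟.n) := ⟨i.2⟩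
    refine ⟨D.ha_of_hbq 𝒜 hbq i i.2, hbq i i.2, ?_, ?_, ?_, ?_, ?_, ?_⟩
    · exact (inferInstance : IsLocalization.Away (D.a i) (D.TA i))
    · exact (inferInstance : IsLocalization.Away (D.b i) (D.T i))
    · exact (inferInstance : IsLocalizedModule (Submonoid.powers (D.a i)) (D.gMap i))
    · change (D.qA' 𝒜 i).LiesOver (𝒜.qA i)
      rw [qA'_good]
      exact D.goodQA_liesOver 𝒜 hbq i
    · change (D.qB' 𝒜 i).LiesOver (𝒜.qB i)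
      rw [qB'_good]
      exact D.goodQB_liesOver 𝒜 hbq i
    · exact D.good_range i

end ShrinkData

end Groth.Agent.Lib.H6xShrDev
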