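import Mathlib
import Groth.Prelude.Def_FlatCA
import Groth.Agent.Lib.H6xShrinkB
import Groth.Agent.Lib.H6xShrinkC
import Groth.Agent.Lib.H6xShrinkD1
import Groth.Agent.Lib.H6xShrinkD2
import Groth.Agent.Lib.H6xShrinkD4

/-!
# Standard shrinking of a one-step dévissage: abstract form (helper6)
-/

set_option autoImplicit false
universe u

namespace Groth.Agent.Lib.H6xShrinkD

open Groth.Agent.Lib.H6xShrinkC Groth.Agent.Lib.H6xShrinkD1 Groth.Agent.Lib.H6xShrinkD4

theorem shrink_abstract
    (R S : Type u) [CommRing R] [CommRing S] [Algebra R S] [Algebra.FiniteType R S]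
    (N : Type u) [AddCommGroup N] [Module S N] [Module R N] [IsScalarTower R S N]
    [Module.Finite S N]
    (p : Ideal R) [p.IsPrime] (q : Ideal S) [q.IsPrime] [q.LiesOver p]
    (C D G : Type u) [CommRing C] [CommRing D] [Algebra S C] [Algebra R C] [IsScalarTower R S C]
    [Algebra R D] [Algebra D C] [IsScalarTower R D C] [AddCommGroup G] [Module C G] [Module S G]
    [IsScalarTower S C G] (n : ℕ)
    (h : FlatCA.IsOneStepDevissage R S N p C D G n)
    (z : Ideal C) [z.IsPrime] (y : Ideal D) [y.IsPrime] [z.LiesOver q] [z.LiesOver y] [y.LiesOver p]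
    (h1 : ∃ (ξ : PrimeSpectrum (p.Fiber S))
      (hξ : ξ ∈ Module.support (p.Fiber S) (FlatCA.fiberMod p S N)),
      ξ.asIdeal = FlatCA.fiberIdeal p q ∧
      FlatMor.localDim (Module.support (p.Fiber S) (FlatCA.fiberMod p S N)) ⟨ξ, hξ⟩ = n)
    (h3 : ∀ (z₁ : Ideal C) [z₁.IsPrime], z₁.LiesOver y → z₁ = z)
    (h4 : FlatCA.PurelyTranscendental p y)
    (g : R) (hX : S) (hZ : C) (hY : D) (hg : g ∉ p) (hhX : hX ∉ q) (hhZ : hZ ∉ z) (hhY : hY ∉ y)
    (ha : algebraMap S C hX = hZ) (hb : algebraMap D C hY = hZ)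
    (R' S' C' D' : Type u) [CommRing R'] [CommRing S'] [CommRing C'] [CommRing D']
    [Algebra R R'] [IsLocalization.Away g R']
    [Algebra S S'] [IsLocalization.Away hX S'] [Algebra R S'] [IsScalarTower R S S']
    [Algebra C C'] [IsLocalization.Away hZ C'] [Algebra R C'] [IsScalarTower R C C']
    [Algebra S C'] [IsScalarTower S C C']
    [Algebra D D'] [IsLocalization.Away hY D'] [Algebra R D'] [IsScalarTower R D D']
    [Algebra D C'] [IsScalarTower D C C']
    [Algebra R' S'] [IsScalarTower R R' S'] [Algebra R' C'] [IsScalarTower R R' C']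
    [Algebra R' D'] [IsScalarTower R R' D']
    [Algebra S' C'] [IsScalarTower S S' C'] [IsScalarTower R' S' C']
    [Algebra D' C'] [IsScalarTower D D' C'] [IsScalarTower R' D' C']
    (N' : Type u) [AddCommGroup N'] [Module S N'] [Module S' N'] [IsScalarTower S S' N']
    [Module R' N'] [IsScalarTower R' S' N']
    (f : N →ₗ[S] N') [IsLocalizedModule (Submonoid.powers hX) f]
    (G' : Type u) [AddCommGroup G'] [Module C G'] [Module C' G'] [IsScalarTower C C' G']
    [Module S' G'] [IsScalarTower S' C' G']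
    (fG : G →ₗ[C] G') [IsLocalizedModule (Submonoid.powers hZ) fG]
    (hsurj : Function.Surjective (PrimeSpectrum.comap (algebraMap R' D')))
    [hp' : (p.map (algebraMap R R')).IsPrime] [hy' : (y.map (algebraMap D D')).IsPrime]
    [hy'p' : (y.map (algebraMap D D')).LiesOver (p.map (algebraMap R R'))] :
    FlatCA.IsOneStepDevissage R' S' N' (p.map (algebraMap R R')) C' D' G' n ∧
    (∃ (ξ : PrimeSpectrum ((p.map (algebraMap R R')).Fiber S'))
        (hξ : ξ ∈ Module.support ((p.map (algebraMap R R')).Fiber S')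
          (FlatCA.fiberMod (p.map (algebraMap R R')) S' N')),
      ξ.asIdeal = FlatCA.fiberIdeal (p.map (algebraMap R R')) (q.map (algebraMap S S')) ∧
      FlatMor.localDim (Module.support ((p.map (algebraMap R R')).Fiber S')
        (FlatCA.fiberMod (p.map (algebraMap R R')) S' N')) ⟨ξ, hξ⟩ = n) ∧
    (z.map (algebraMap C C')).LiesOver (q.map (algebraMap S S')) ∧
    (z.map (algebraMap C C')).LiesOver (y.map (algebraMap D D')) ∧
    (∀ (z₂ : Ideal C') [z₂.IsPrime], z₂.LiesOver (y.map (algebraMap D D')) →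
      z₂ = z.map (algebraMap C C')) ∧
    FlatCA.PurelyTranscendental (p.map (algebraMap R R')) (y.map (algebraMap D D')) := by
  obtain ⟨⟨e⟩, hsurjSC, hfp, hfinDC, hfinCG, hsm, hirr, hdim⟩ := h
  haveI := hfp
  haveI := hfinDC
  haveI := hfinCG
  -- primes
  haveI hpl : (p.map (algebraMap R R')).LiesOver p := liesOver_map g R' p hg
  haveI hq' : (q.map (algebraMap S S')).IsPrime := isPrime_map hX S' q hhX
  haveI hql : (q.map (algebraMap S S')).LiesOver q := liesOver_map hX S' q hhX
  haveI hqp' : (q.map (algebraMap S S')).LiesOver (p.map (algebraMap R R')) :=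
    liesOver_map_map R S R' S' g hX p q hhX
  haveI hqp : (q.map (algebraMap S S')).LiesOver p := by
    constructor
    change p = ((q.map (algebraMap S S')).comap (algebraMap R S'))
    have : algebraMap R S' = (algebraMap S S').comp (algebraMap R S) :=
      IsScalarTower.algebraMap_eq R S S'
    rw [this, ← Ideal.comap_comap, comap_map hX S' q hhX]
    exact q.over_def p
  haveI hyl : (y.map (algebraMap D D')).LiesOver y := liesOver_map hY D' y hhY
  -- finiteness
  haveI : Algebra.FinitePresentation S S' := IsLocalization.Away.finitePresentation hX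
  haveI : Algebra.FiniteType R S' := Algebra.FiniteType.trans (S := S) inferInstance inferInstance
  haveI : Module.Finite S' N' := Module.Finite.of_isLocalizedModule (Submonoid.powers hX) f
  -- the fibre data
  have hA := Groth.Agent.Lib.H6xShrinkB.fiber_away_concrete R S p S' hX N N' f q hhX n h1 hdim
  have hB := fiber_baseLoc R g R' p (p.map (algebraMap R R')) S' N' (q.map (algebraMap S S')) n
    hA.1 hA.2
  have hSD := Groth.Agent.Lib.H6xShrinkD2.smooth_geomIrred_shrink R D R' D' g hY n hsm hirr hsurj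
  refine ⟨⟨?_, ?_, ?_, ?_, ?_, hSD.1, hSD.2, hB.1⟩, hB.2, ?_, ?_, ?_, ?_⟩
  · exact equiv_away S C hX hZ S' C' N G N' G' f fG ha e
  · exact surjective_away S C hX hZ S' C' ha hsurjSC
  · exact finitePresentation_away S C hX hZ S' C' ha
  · exact finite_away D C hY hZ D' C' hb
  · exact finite_module_away C hZ C' G G' fG
  · exact liesOver_map_map S C S' C' hX hZ q z hhZ
  · exact liesOver_map_map D C D' C' hY hZ y z hhZ
  · intro z₂ _ hz₂
    exact unique_over_map D C D' C' hY hZ y z hhY h3 z₂ hz₂
  · exact purelyTranscendental_of_bijective R D p R' (p.map (algebraMap R R')) D'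
      (residueField_bijective g R' p _) y (y.map (algebraMap D D'))
      (residueField_map_bijective hY D' y _ _) h4

end Groth.Agent.Lib.H6xShrinkD
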