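import Mathlib
import Groth.Prelude.Def_FlatCA
import Groth.Agent.Lib.H6xShrinkD

/-!
# Standard shrinking of a one-step dévissage: concrete form (helper6)
-/

set_option autoImplicit false
universe u
open AlgebraicGeometry

namespace Groth.Agent.Lib.H6xShrinkE

theorem exists_basic_subset_image (R D : Type u) [CommRing R] [CommRing D] [Algebra R D] (n : ℕ)
    (hsm : FlatCA.SmoothRelDim n R D) (p : Ideal R) [p.IsPrime] (y : Ideal D) [y.IsPrime]
    [y.LiesOver p] (w : D) (hw : w ∉ y) :
    ∃ g : R, g ∉ p ∧ ∀ P : PrimeSpectrum R, g ∉ P.asIdeal →
      ∃ Q : PrimeSpectrum D, w ∉ Q.asIdeal ∧ Q.asIdeal.comap (algebraMap R D) = P.asIdeal := by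
  have hS : Algebra.Smooth R D := by
    have h1 : Smooth (Spec.map (CommRingCat.ofHom (algebraMap R D))) :=
      SmoothOfRelativeDimension.smooth n _
    rw [HasRingHomProperty.Spec_iff (P := @Smooth)] at h1
    exact RingHom.smooth_algebraMap.mp h1
  haveI := hS
  haveI : Algebra.FinitePresentation R D := Algebra.Smooth.finitePresentation
  have hopen := PrimeSpectrum.isOpenMap_comap_of_hasGoingDown_of_finitePresentation (R := R) (S := D)
  have hU : IsOpen (PrimeSpectrum.comap (algebraMap R D) '' (PrimeSpectrum.basicOpen w : Set _)) :=
    hopen _ (PrimeSpectrum.basicOpen w).isOpen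
  have hpU : (⟨p, inferInstance⟩ : PrimeSpectrum R) ∈
      (PrimeSpectrum.comap (algebraMap R D) '' (PrimeSpectrum.basicOpen w : Set _)) :=
    ⟨⟨y, inferInstance⟩, hw, PrimeSpectrum.ext (y.over_def p).symm⟩
  obtain ⟨_, ⟨g, rfl⟩, hpg, hgU⟩ :=
    PrimeSpectrum.isTopologicalBasis_basic_opens.exists_subset_of_mem_open hpU hU
  refine ⟨g, hpg, fun P hP => ?_⟩
  obtain ⟨Q, hQw, hQ⟩ := hgU hP
  exact ⟨Q, hQw, congrArg PrimeSpectrum.asIdeal hQ⟩

open Groth.Agent.Lib.H6xShrinkC Groth.Agent.Lib.H6xShrinkD4 in
theorem shrink_concrete
    (R S : Type u) [CommRing R] [CommRing S] [Algebra R S] [Algebra.FiniteType R S]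
    (N : Type u) [AddCommGroup N] [Module S N] [Module R N] [IsScalarTower R S N] [Module.Finite S N]
    (p : Ideal R) [p.IsPrime] (q : Ideal S) [q.IsPrime] [q.LiesOver p]
    (C D G : Type u) [CommRing C] [CommRing D] [Algebra S C] [Algebra R C] [IsScalarTower R S C]
    [Algebra R D] [Algebra D C] [IsScalarTower R D C] [AddCommGroup G] [Module C G] [Module S G]
    [IsScalarTower S C G] (n : ℕ)
    (h : FlatCA.IsOneStepDevissage R S N p C D G n)
    (z : Ideal C) [z.IsPrime] (y : Ideal D) [y.IsPrime] [z.LiesOver q] [z.LiesOver y] [y.LiesOver p]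
    (h1 : ∃ (ξ : PrimeSpectrum (p.Fiber S)) (hξ : ξ ∈ Module.support (p.Fiber S) (FlatCA.fiberMod p S N)),
      ξ.asIdeal = FlatCA.fiberIdeal p q ∧
      FlatMor.localDim (Module.support (p.Fiber S) (FlatCA.fiberMod p S N)) ⟨ξ, hξ⟩ = n)
    (h3 : ∀ (z₁ : Ideal C) [z₁.IsPrime], z₁.LiesOver y → z₁ = z)
    (h4 : FlatCA.PurelyTranscendental p y)
    (w : D) (hw : w ∉ y) (s : S) (hs : algebraMap S C s = algebraMap D C w) :
    ∃ g : R, g ∉ p ∧ ∀ (hX : S) (hZ : C) (hY : D), hX = s * algebraMap R S g →
      hZ = algebraMap S C hX → hY = w * algebraMap R D g →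
      hX ∉ q ∧ hZ ∉ z ∧ hY ∉ y ∧ IsUnit (algebraMap S (Localization.Away hX) s) ∧
      ∃ (_ : Algebra (Localization.Away g) (Localization.Away hX)) (_ : IsScalarTower R (Localization.Away g) (Localization.Away hX))
        (_ : Algebra (Localization.Away g) (Localization.Away hZ)) (_ : IsScalarTower R (Localization.Away g) (Localization.Away hZ))
        (_ : Algebra (Localization.Away g) (Localization.Away hY)) (_ : IsScalarTower R (Localization.Away g) (Localization.Away hY))
        (_ : Algebra (Localization.Away hX) (Localization.Away hZ)) (_ : IsScalarTower S (Localization.Away hX) (Localization.Away hZ))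
        (_ : IsScalarTower (Localization.Away g) (Localization.Away hX) (Localization.Away hZ))
        (_ : Algebra (Localization.Away hY) (Localization.Away hZ)) (_ : IsScalarTower D (Localization.Away hY) (Localization.Away hZ))
        (_ : IsScalarTower (Localization.Away g) (Localization.Away hY) (Localization.Away hZ))
        (_ : Module (Localization.Away g) (LocalizedModule (Submonoid.powers hX) N)) (_ : IsScalarTower (Localization.Away g) (Localization.Away hX) (LocalizedModule (Submonoid.powers hX) N))
        (_ : Module (Localization.Away hX) (LocalizedModule (Submonoid.powers hZ) G)) (_ : IsScalarTower (Localization.Away hX) (Localization.Away hZ) (LocalizedModule (Submonoid.powers hZ) G))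
        (_ : (Ideal.map (algebraMap R (Localization.Away g)) p).IsPrime) (_ : (Ideal.map (algebraMap D (Localization.Away hY)) y).IsPrime) (_ : (Ideal.map (algebraMap D (Localization.Away hY)) y).LiesOver (Ideal.map (algebraMap R (Localization.Away g)) p)),
        FlatCA.IsOneStepDevissage (Localization.Away g) (Localization.Away hX) (LocalizedModule (Submonoid.powers hX) N) (Ideal.map (algebraMap R (Localization.Away g)) p) (Localization.Away hZ) (Localization.Away hY) (LocalizedModule (Submonoid.powers hZ) G) n ∧
        (∃ (ξ : PrimeSpectrum ((Ideal.map (algebraMap R (Localization.Away g)) p).Fiber (Localization.Away hX)))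
            (hξ : ξ ∈ Module.support ((Ideal.map (algebraMap R (Localization.Away g)) p).Fiber (Localization.Away hX)) (FlatCA.fiberMod (Ideal.map (algebraMap R (Localization.Away g)) p) (Localization.Away hX) (LocalizedModule (Submonoid.powers hX) N))),
          ξ.asIdeal = FlatCA.fiberIdeal (Ideal.map (algebraMap R (Localization.Away g)) p) (Ideal.map (algebraMap S (Localization.Away hX)) q) ∧
          FlatMor.localDim (Module.support ((Ideal.map (algebraMap R (Localization.Away g)) p).Fiber (Localization.Away hX)) (FlatCA.fiberMod (Ideal.map (algebraMap R (Localization.Away g)) p) (Localization.Away hX) (LocalizedModule (Submonoid.powers hX) N))) ⟨ξ, hξ⟩ = n) ∧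
        (Ideal.map (algebraMap C (Localization.Away hZ)) z).LiesOver (Ideal.map (algebraMap S (Localization.Away hX)) q) ∧ (Ideal.map (algebraMap C (Localization.Away hZ)) z).LiesOver (Ideal.map (algebraMap D (Localization.Away hY)) y) ∧
        (∀ (z₂ : Ideal (Localization.Away hZ)) [z₂.IsPrime], z₂.LiesOver (Ideal.map (algebraMap D (Localization.Away hY)) y) → z₂ = Ideal.map (algebraMap C (Localization.Away hZ)) z) ∧
        FlatCA.PurelyTranscendental (Ideal.map (algebraMap R (Localization.Away g)) p) (Ideal.map (algebraMap D (Localization.Away hY)) y) := by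
  have hsm : FlatCA.SmoothRelDim n R D := h.2.2.2.2.2.1
  obtain ⟨g, hg, hgU⟩ := exists_basic_subset_image R D n hsm p y w hw
  refine ⟨g, hg, ?_⟩
  intro hX hZ hY ehX ehZ ehY
  -- membership facts
  have hgC : algebraMap R C g ∉ z := by
    intro hmem
    apply hg
    have e1 : p = (z.comap (algebraMap S C)).comap (algebraMap R S) := by
      have := z.over_def q
      rw [Ideal.under_def] at this
      rw [← this]
      exact q.over_def p
    rw [e1, Ideal.mem_comap, Ideal.mem_comap, ← IsScalarTower.algebraMap_apply]
    exact hmem
  have hwC : algebraMap D C w ∉ z := by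
    intro hmem
    apply hw
    rw [z.over_def y, Ideal.under_def, Ideal.mem_comap]
    exact hmem
  have hZeq : hZ = algebraMap D C w * algebraMap R C g := by
    rw [ehZ, ehX, map_mul, hs, ← IsScalarTower.algebraMap_apply R S C]
  have hhZ : hZ ∉ z := by
    rw [hZeq]
    intro hm
    rcases Ideal.IsPrime.mem_or_mem inferInstance hm with hm | hm
    · exact hwC hm
    · exact hgC hm
  have ha : algebraMap S C hX = hZ := ehZ.symm
  have hhX : hX ∉ q := by
    intro hm
    apply hhZ
    rw [z.over_def q, Ideal.under_def, Ideal.mem_comap, ha] at hm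
    exact hm
  have hgD : algebraMap R D g ∉ y := by
    intro hm
    apply hg
    rw [y.over_def p, Ideal.under_def, Ideal.mem_comap]
    exact hm
  have hhY : hY ∉ y := by
    rw [ehY]
    intro hm
    rcases Ideal.IsPrime.mem_or_mem inferInstance hm with hm | hm
    · exact hw hm
    · exact hgD hm
  have hb : algebraMap D C hY = hZ := by
    rw [ehY, map_mul, ← IsScalarTower.algebraMap_apply R D C, hZeq]
  -- units
  have hXu : IsUnit (algebraMap S (Localization.Away hX) hX) :=
    IsLocalization.Away.algebraMap_isUnit hX
  have hZu : IsUnit (algebraMap C (Localization.Away hZ) hZ) :=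
    IsLocalization.Away.algebraMap_isUnit hZ
  have hYu : IsUnit (algebraMap D (Localization.Away hY) hY) :=
    IsLocalization.Away.algebraMap_isUnit hY
  have hsu : IsUnit (algebraMap S (Localization.Away hX) s) ∧
      IsUnit (algebraMap S (Localization.Away hX) (algebraMap R S g)) := by
    have e : algebraMap S (Localization.Away hX) hX = algebraMap S (Localization.Away hX) s *
        algebraMap S (Localization.Away hX) (algebraMap R S g) := by
      rw [← map_mul]
      exact congrArg (algebraMap S (Localization.Away hX)) ehX
    rw [e, IsUnit.mul_iff] at hXu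
    exact hXu
  have u1 : IsUnit (algebraMap R (Localization.Away hX) g) := by
    rw [IsScalarTower.algebraMap_apply R S (Localization.Away hX)]
    exact hsu.2
  have u2 : IsUnit (algebraMap R (Localization.Away hZ) g) := by
    rw [IsScalarTower.algebraMap_apply R C (Localization.Away hZ)]
    have e : algebraMap C (Localization.Away hZ) hZ =
        algebraMap C (Localization.Away hZ) (algebraMap D C w) *
        algebraMap C (Localization.Away hZ) (algebraMap R C g) := by
      rw [← map_mul]
      exact congrArg (algebraMap C (Localization.Away hZ)) hZeq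
    have hZu' := hZu
    rw [e, IsUnit.mul_iff] at hZu'
    exact hZu'.2
  have u3 : IsUnit (algebraMap R (Localization.Away hY) g) := by
    rw [IsScalarTower.algebraMap_apply R D (Localization.Away hY)]
    have e : algebraMap D (Localization.Away hY) hY = algebraMap D (Localization.Away hY) w *
        algebraMap D (Localization.Away hY) (algebraMap R D g) := by
      rw [← map_mul]
      exact congrArg (algebraMap D (Localization.Away hY)) ehY
    have hYu' := hYu
    rw [e, IsUnit.mul_iff] at hYu'
    exact hYu'.2
  have u4 : IsUnit (algebraMap S (Localization.Away hZ) hX) := by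
    rw [IsScalarTower.algebraMap_apply S C (Localization.Away hZ), ha]
    exact hZu
  have u5 : IsUnit (algebraMap D (Localization.Away hZ) hY) := by
    rw [IsScalarTower.algebraMap_apply D C (Localization.Away hZ), hb]
    exact hZu
  -- algebra structures
  letI aR'S' : Algebra (Localization.Away g) (Localization.Away hX) :=
    (IsLocalization.Away.lift g u1).toAlgebra
  haveI tR'S' : IsScalarTower R (Localization.Away g) (Localization.Away hX) :=
    .of_algebraMap_eq fun r => (IsLocalization.Away.lift_eq g u1 r).symm
  letI aR'C' : Algebra (Localization.Away g) (Localization.Away hZ) :=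
    (IsLocalization.Away.lift g u2).toAlgebra
  haveI tR'C' : IsScalarTower R (Localization.Away g) (Localization.Away hZ) :=
    .of_algebraMap_eq fun r => (IsLocalization.Away.lift_eq g u2 r).symm
  letI aR'D' : Algebra (Localization.Away g) (Localization.Away hY) :=
    (IsLocalization.Away.lift g u3).toAlgebra
  haveI tR'D' : IsScalarTower R (Localization.Away g) (Localization.Away hY) :=
    .of_algebraMap_eq fun r => (IsLocalization.Away.lift_eq g u3 r).symm
  letI aS'C' : Algebra (Localization.Away hX) (Localization.Away hZ) :=
    (IsLocalization.Away.lift hX u4).toAlgebra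
  haveI tSS'C' : IsScalarTower S (Localization.Away hX) (Localization.Away hZ) :=
    .of_algebraMap_eq fun r => (IsLocalization.Away.lift_eq hX u4 r).symm
  haveI tR'S'C' : IsScalarTower (Localization.Away g) (Localization.Away hX)
      (Localization.Away hZ) := by
    apply IsScalarTower.of_algebraMap_eq'
    apply IsLocalization.ringHom_ext (Submonoid.powers g)
    ext r
    simp only [RingHom.comp_apply]
    rw [← IsScalarTower.algebraMap_apply R (Localization.Away g) (Localization.Away hZ),
      ← IsScalarTower.algebraMap_apply R (Localization.Away g) (Localization.Away hX),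
      IsScalarTower.algebraMap_apply R S (Localization.Away hX),
      ← IsScalarTower.algebraMap_apply S (Localization.Away hX) (Localization.Away hZ),
      ← IsScalarTower.algebraMap_apply R S (Localization.Away hZ)]
  letI aD'C' : Algebra (Localization.Away hY) (Localization.Away hZ) :=
    (IsLocalization.Away.lift hY u5).toAlgebra
  haveI tDD'C' : IsScalarTower D (Localization.Away hY) (Localization.Away hZ) :=
    .of_algebraMap_eq fun r => (IsLocalization.Away.lift_eq hY u5 r).symm
  haveI tR'D'C' : IsScalarTower (Localization.Away g) (Localization.Away hY)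
      (Localization.Away hZ) := by
    apply IsScalarTower.of_algebraMap_eq'
    apply IsLocalization.ringHom_ext (Submonoid.powers g)
    ext r
    simp only [RingHom.comp_apply]
    rw [← IsScalarTower.algebraMap_apply R (Localization.Away g) (Localization.Away hZ),
      ← IsScalarTower.algebraMap_apply R (Localization.Away g) (Localization.Away hY),
      IsScalarTower.algebraMap_apply R D (Localization.Away hY),
      ← IsScalarTower.algebraMap_apply D (Localization.Away hY) (Localization.Away hZ),
      ← IsScalarTower.algebraMap_apply R D (Localization.Away hZ)]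
  letI mR'N' : Module (Localization.Away g) (LocalizedModule (Submonoid.powers hX) N) :=
    Module.compHom _ (algebraMap (Localization.Away g) (Localization.Away hX))
  haveI tmR'N' : IsScalarTower (Localization.Away g) (Localization.Away hX)
      (LocalizedModule (Submonoid.powers hX) N) := .of_algebraMap_smul fun _ _ => rfl
  letI mS'G' : Module (Localization.Away hX) (LocalizedModule (Submonoid.powers hZ) G) :=
    Module.compHom _ (algebraMap (Localization.Away hX) (Localization.Away hZ))
  haveI tmS'G' : IsScalarTower (Localization.Away hX) (Localization.Away hZ)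
      (LocalizedModule (Submonoid.powers hZ) G) := .of_algebraMap_smul fun _ _ => rfl
  haveI hp' : (Ideal.map (algebraMap R (Localization.Away g)) p).IsPrime :=
    isPrime_map g (Localization.Away g) p hg
  haveI hy' : (Ideal.map (algebraMap D (Localization.Away hY)) y).IsPrime :=
    isPrime_map hY (Localization.Away hY) y hhY
  haveI hy'p' : (Ideal.map (algebraMap D (Localization.Away hY)) y).LiesOver
      (Ideal.map (algebraMap R (Localization.Away g)) p) :=
    liesOver_map_map R D (Localization.Away g) (Localization.Away hY) g hY p y hhY
  -- surjectivity on spectra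
  have hsurj : Function.Surjective
      (PrimeSpectrum.comap (algebraMap (Localization.Away g) (Localization.Away hY))) := by
    intro P'
    have hgP : g ∉ (PrimeSpectrum.comap (algebraMap R (Localization.Away g)) P').asIdeal := by
      intro hm
      exact P'.isPrime.ne_top (Ideal.eq_top_of_isUnit_mem _ hm
        (IsLocalization.Away.algebraMap_isUnit g))
    obtain ⟨Q, hQw, hQ⟩ := hgU _ hgP
    have hYQ : hY ∉ Q.asIdeal := by
      rw [ehY]
      intro hm
      rcases Q.isPrime.mem_or_mem hm with hm | hm
      · exact hQw hm
      · apply hgP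
        rw [← hQ]
        exact hm
    haveI := Q.isPrime
    refine ⟨⟨Q.asIdeal.map (algebraMap D (Localization.Away hY)),
      isPrime_map hY (Localization.Away hY) Q.asIdeal hYQ⟩, ?_⟩
    apply PrimeSpectrum.ext
    have e1 := eq_map_of_comap g (Localization.Away g)
      (PrimeSpectrum.comap (algebraMap R (Localization.Away g)) P').asIdeal P'.asIdeal rfl
    rw [e1]
    apply eq_map_of_comap g (Localization.Away g)
    change ((Q.asIdeal.map (algebraMap D (Localization.Away hY))).comap
      (algebraMap (Localization.Away g) (Localization.Away hY))).comap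
      (algebraMap R (Localization.Away g)) = _
    rw [comap_comap_eq R D (Localization.Away g) (Localization.Away hY),
      comap_map hY (Localization.Away hY) Q.asIdeal hYQ, hQ]
  refine ⟨hhX, hhZ, hhY, hsu.1, aR'S', tR'S', aR'C', tR'C', aR'D', tR'D', aS'C', tSS'C', tR'S'C',
    aD'C', tDD'C', tR'D'C', mR'N', tmR'N', mS'G', tmS'G', hp', hy', hy'p', ?_⟩
  exact Groth.Agent.Lib.H6xShrinkD.shrink_abstract R S N p q C D G n h z y h1 h3 h4 g hX hZ hY hg
    hhX hhZ hhY ha hb (Localization.Away g) (Localization.Away hX) (Localization.Away hZ)
    (Localization.Away hY) (LocalizedModule (Submonoid.powers hX) N)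
    (LocalizedModule.mkLinearMap (Submonoid.powers hX) N)
    (LocalizedModule (Submonoid.powers hZ) G)
    (LocalizedModule.mkLinearMap (Submonoid.powers hZ) G) hsurj

end Groth.Agent.Lib.H6xShrinkE
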