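import Mathlib
import Groth.Prelude.Def_FlatCA
import Groth.Agent.Lib.H6xShrDev7
import Groth.Agent.Lib.H6xShrinkE

/-!
# Standard shrinking of a complete dévissage: choice of the elements (helper6)
-/

set_option autoImplicit false
universe u

namespace Groth.Agent.Lib.H6xShrDev

open Groth.Agent.Lib

section Rec

/-- downward recursion along a family of types indexed by the naturals. -/
theorem down_rec {X : ℕ → Type u} (c₀ : ∀ i, X i) (m : ℕ) (P : ∀ i, X i → Prop)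
    (Rel : ∀ i, X i → X (i + 1) → Prop)
    (hstep : ∀ i, i < m → ∀ y : X (i + 1), P (i + 1) y → ∃ x : X i, P i x ∧ Rel i x y)
    (w : X m) (hw : P m w) :
    ∃ c : ∀ i, X i, c m = w ∧ (∀ i, i ≤ m → P i (c i)) ∧
      ∀ i, i < m → Rel i (c i) (c (i + 1)) := by
  suffices H : ∀ j, ∃ c : ∀ i, X i, c m = w ∧ (∀ i, m - j ≤ i → i ≤ m → P i (c i)) ∧
      ∀ i, m - j ≤ i → i < m → Rel i (c i) (c (i + 1)) by
    obtain ⟨c, h1, h2, h3⟩ := H m
    exact ⟨c, h1, fun i hi => h2 i (by omega) hi, fun i hi => h3 i (by omega) hi⟩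
  intro j
  induction j with
  | zero =>
    refine ⟨Function.update c₀ m w, Function.update_self .., ?_, ?_⟩
    · intro i h1 h2
      obtain rfl : i = m := by omega
      rw [Function.update_self]
      exact hw
    · intro i h1 h2
      omega
  | succ j ih =>
    obtain ⟨c, h1, h2, h3⟩ := ih
    by_cases hj : m - j = 0
    · exact ⟨c, h1, fun i hi => h2 i (by omega), fun i hi => h3 i (by omega)⟩
    · obtain ⟨i₀, hi₀⟩ := Nat.exists_eq_succ_of_ne_zero hj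
      obtain ⟨x, hx1, hx2⟩ := hstep i₀ (by omega) (c (i₀ + 1))
        (h2 (i₀ + 1) (by omega) (by omega))
      refine ⟨Function.update c i₀ x, ?_, ?_, ?_⟩
      · rw [Function.update_of_ne (by omega)]
        exact h1
      · intro i hi1 hi2
        by_cases e : i = i₀
        · subst e
          rw [Function.update_self]
          exact hx1
        · rw [Function.update_of_ne e]
          exact h2 i (by omega) hi2
      · intro i hi1 hi2
        by_cases e : i = i₀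
        · subst e
          rw [Function.update_self, Function.update_of_ne (by omega)]
          exact hx2
        · rw [Function.update_of_ne e, Function.update_of_ne (by omega)]
          exact h3 i (by omega) hi2

/-- upward recursion along a family of types indexed by the naturals. -/
theorem up_rec {X : ℕ → Type u} (c₀ : ∀ i, X i) (m : ℕ) (P : ∀ i, X i → Prop)
    (Rel : ∀ i, X i → X (i + 1) → Prop)
    (hstep : ∀ i, i < m → ∀ x : X i, P i x → ∃ y : X (i + 1), P (i + 1) y ∧ Rel i x y)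
    (w : X 0) (hw : P 0 w) :
    ∃ c : ∀ i, X i, c 0 = w ∧ (∀ i, i ≤ m → P i (c i)) ∧
      ∀ i, i < m → Rel i (c i) (c (i + 1)) := by
  suffices H : ∀ j, ∃ c : ∀ i, X i, c 0 = w ∧ (∀ i, i ≤ j → i ≤ m → P i (c i)) ∧
      ∀ i, i < j → i < m → Rel i (c i) (c (i + 1)) by
    obtain ⟨c, h1, h2, h3⟩ := H m
    exact ⟨c, h1, fun i hi => h2 i hi hi, fun i hi => h3 i hi hi⟩
  intro j
  induction j with
  | zero =>
    refine ⟨Function.update c₀ 0 w, Function.update_self .., ?_, ?_⟩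
    · intro i h1 h2
      obtain rfl : i = 0 := by omega
      rw [Function.update_self]
      exact hw
    · intro i h1 h2
      omega
  | succ j ih =>
    obtain ⟨c, h1, h2, h3⟩ := ih
    by_cases hj : j < m
    · obtain ⟨y, hy1, hy2⟩ := hstep j hj (c j) (h2 j le_rfl hj.le)
      refine ⟨Function.update c (j + 1) y, ?_, ?_, ?_⟩
      · rw [Function.update_of_ne (by omega)]
        exact h1
      · intro i hi1 hi2
        by_cases e : i = j + 1
        · subst e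
          rw [Function.update_self]
          exact hy1
        · rw [Function.update_of_ne e]
          exact h2 i (by omega) hi2
      · intro i hi1 hi2
        by_cases e : i = j
        · subst e
          rw [Function.update_self, Function.update_of_ne (by omega)]
          exact hy2
        · rw [Function.update_of_ne (by omega), Function.update_of_ne (by omega)]
          exact h3 i (by omega) hi2
    · exact ⟨c, h1, fun i hi1 hi2 => h2 i (by omega) hi2, fun i hi1 hi2 => h3 i (by omega) hi2⟩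

end Rec

/-- for a finite extension with a unique prime over a given prime, every element outside that
prime has a multiple coming from the base, outside the base prime. -/
theorem exists_notMem_mul {B A : Type u} [CommRing B] [CommRing A] [Algebra B A]
    [Module.Finite B A] (P : Ideal B) [P.IsPrime] (Q : Ideal A)
    (huniq : ∀ (Q' : Ideal A) [Q'.IsPrime], Q'.LiesOver P → Q' = Q) (v : A) (hv : v ∉ Q) :
    ∃ y : B, y ∉ P ∧ ∃ a : A, algebraMap B A y = v * a := by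
  by_contra hcon
  have hle : (Ideal.span {v}).comap (algebraMap B A) ≤ P := by
    intro w hw
    by_contra hwy
    apply hcon
    refine ⟨w, hwy, ?_⟩
    rw [Ideal.mem_comap, Ideal.mem_span_singleton'] at hw
    obtain ⟨c, hc⟩ := hw
    exact ⟨c, by rw [← hc, mul_comm]⟩
  haveI : Algebra.IsIntegral B A := Algebra.IsIntegral.of_finite B A
  obtain ⟨Q', hQ', hQ'p, hQ'y⟩ := Ideal.exists_ideal_over_prime_of_isIntegral P
    (Ideal.span {v}) hle
  have hQz : Q' = Q := huniq Q' ⟨hQ'y.symm⟩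
  apply hv
  rw [← hQz]
  exact hQ' (Ideal.subset_span rfl)

section Steps

variable {R S : Type u} [CommRing R] [CommRing S] [Algebra R S] {N : Type u} [AddCommGroup N]
  [Module S N] {p : Ideal R} [p.IsPrime]
  {𝒟 : FlatCA.CompleteDevissage R S N p}
  {q : Ideal S} [q.IsPrime] (𝒜 : FlatCA.CompleteDevissageAt R S N p q 𝒟)

attribute [local instance] FlatCA.CompleteDevissageAt.hqB FlatCA.CompleteDevissageAt.hqA
  FlatCA.CompleteDevissageAt.overB FlatCA.CompleteDevissageAt.overA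

lemma mem_qB_iff (i : ℕ) (x : 𝒟.B i) :
    x ∈ 𝒜.qB i ↔ algebraMap (𝒟.B i) (𝒟.A i) x ∈ 𝒜.qA i := by
  rw [(𝒜.overA i).over]
  rfl

lemma mem_qB_iff' (i : ℕ) (h : i + 1 < 𝒟.n) (x : 𝒟.B i) :
    x ∈ 𝒜.qB i ↔ algebraMap (𝒟.B i) (𝒟.A (i + 1)) x ∈ 𝒜.qA (i + 1) := by
  rw [← 𝒜.qStep i h]
  rfl

lemma mem_q_iff (x : S) : x ∈ q ↔ algebraMap S (𝒟.A 0) x ∈ 𝒜.qA 0 := by
  conv_lhs => rw [← 𝒜.q0]
  rfl

/-- lifting step with divisibility. -/
lemma lift_step (i : ℕ) (h : i + 1 < 𝒟.n) (wi : 𝒟.B i) (wi1 : 𝒟.B (i + 1))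
    (hw : ∃ a, algebraMap (𝒟.B (i + 1)) (𝒟.A (i + 1)) wi1 =
      algebraMap (𝒟.B i) (𝒟.A (i + 1)) wi * a)
    (y : 𝒟.B (i + 1)) (hy : y ∉ 𝒜.qB (i + 1)) (hdvd : wi1 ∣ y) :
    ∃ x : 𝒟.B i, (x ∉ 𝒜.qB i ∧ wi ∣ x) ∧
      algebraMap (𝒟.B (i + 1)) (𝒟.A (i + 1)) y = algebraMap (𝒟.B i) (𝒟.A (i + 1)) x := by
  obtain ⟨a, ha⟩ := hw
  obtain ⟨t, rfl⟩ := hdvd
  obtain ⟨b'', hb''⟩ := 𝒟.surjBA' i h (a * algebraMap (𝒟.B (i + 1)) (𝒟.A (i + 1)) t)
  have e : algebraMap (𝒟.B (i + 1)) (𝒟.A (i + 1)) (wi1 * t) =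
      algebraMap (𝒟.B i) (𝒟.A (i + 1)) (wi * b'') := by
    rw [map_mul, map_mul, ha, hb'', mul_assoc]
  refine ⟨wi * b'', ⟨?_, Dvd.intro _ rfl⟩, e⟩
  rw [mem_qB_iff' 𝒜 i h, ← e, ← mem_qB_iff 𝒜 (i + 1)]
  exact hy

/-- going-up step. -/
lemma up_step (i : ℕ) (h : i + 1 < 𝒟.n) (x : 𝒟.B i) (hx : x ∉ 𝒜.qB i) :
    ∃ y : 𝒟.B (i + 1), y ∉ 𝒜.qB (i + 1) ∧ ∃ a,
      algebraMap (𝒟.B (i + 1)) (𝒟.A (i + 1)) y = algebraMap (𝒟.B i) (𝒟.A (i + 1)) x * a := by
  haveI := 𝒟.finiteBA (i + 1) h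
  rw [mem_qB_iff' 𝒜 i h] at hx
  exact exists_notMem_mul (𝒜.qB (i + 1)) (𝒜.qA (i + 1))
    (fun Q' _ hQ' => 𝒜.uniq (i + 1) h Q' hQ') _ hx

/-- going-up base step. -/
lemma up_base (u : S) (hu : u ∉ q) :
    ∃ y : 𝒟.B 0, y ∉ 𝒜.qB 0 ∧ ∃ a,
      algebraMap (𝒟.B 0) (𝒟.A 0) y = algebraMap S (𝒟.A 0) u * a := by
  haveI := 𝒟.finiteBA 0 𝒟.pos
  rw [mem_q_iff 𝒜] at hu
  exact exists_notMem_mul (𝒜.qB 0) (𝒜.qA 0)
    (fun Q' _ hQ' => 𝒜.uniq 0 𝒟.pos Q' hQ') _ hu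

end Steps

section Exists

variable {R S : Type u} [CommRing R] [CommRing S] [Algebra R S] {N : Type u} [AddCommGroup N]
  [Module S N] {p : Ideal R} [p.IsPrime]
  {𝒟 : FlatCA.CompleteDevissage R S N p}
  {q : Ideal S} [q.IsPrime] (𝒜 : FlatCA.CompleteDevissageAt R S N p q 𝒟)

attribute [local instance] FlatCA.CompleteDevissageAt.hqB FlatCA.CompleteDevissageAt.hqA
  FlatCA.CompleteDevissageAt.overB FlatCA.CompleteDevissageAt.overA

open H6xShrinkC H6xShrinkD4 in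
/-- surjectivity on spectra of the shrunken smooth algebras over the shrunken base. -/
lemma ShrinkData.surj_of (D : ShrinkData 𝒟) (i : ℕ) [hi : Fact (i < 𝒟.n)]
    (hU : ∀ P : PrimeSpectrum R, D.g ∉ P.asIdeal →
      ∃ Q : PrimeSpectrum (𝒟.B i), D.c i ∉ Q.asIdeal ∧
        Q.asIdeal.comap (algebraMap R (𝒟.B i)) = P.asIdeal) :
    Function.Surjective (PrimeSpectrum.comap (algebraMap D.R' (D.T i))) := by
  intro P'
  have hgP : D.g ∉ (PrimeSpectrum.comap (algebraMap R D.R') P').asIdeal := by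
    intro hm
    exact P'.isPrime.ne_top (Ideal.eq_top_of_isUnit_mem _ hm
      (IsLocalization.Away.algebraMap_isUnit D.g))
  obtain ⟨Q, hQw, hQ⟩ := hU _ hgP
  have hYQ : D.b i ∉ Q.asIdeal := by
    intro hm
    rcases Q.isPrime.mem_or_mem hm with hm | hm
    · exact hQw hm
    · apply hgP
      rw [← hQ]
      exact hm
  haveI := Q.isPrime
  refine ⟨⟨Q.asIdeal.map (algebraMap (𝒟.B i) (D.T i)),
    isPrime_map (D.b i) (D.T i) Q.asIdeal hYQ⟩, ?_⟩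
  apply PrimeSpectrum.ext
  have e1 := eq_map_of_comap D.g D.R'
    (PrimeSpectrum.comap (algebraMap R D.R') P').asIdeal P'.asIdeal rfl
  rw [e1]
  apply eq_map_of_comap D.g D.R'
  change ((Q.asIdeal.map (algebraMap (𝒟.B i) (D.T i))).comap
    (algebraMap D.R' (D.T i))).comap (algebraMap R D.R') = _
  rw [comap_comap_eq R (𝒟.B i) D.R' (D.T i), comap_map (D.b i) (D.T i) Q.asIdeal hYQ, hQ]

theorem exists_shrinkData_of_chain (c : ∀ i, 𝒟.B i) (s : S)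
    (chain0 : algebraMap (𝒟.B 0) (𝒟.A 0) (c 0) = algebraMap S (𝒟.A 0) s)
    (chain : ∀ i, i + 1 < 𝒟.n → algebraMap (𝒟.B (i + 1)) (𝒟.A (i + 1)) (c (i + 1)) =
      algebraMap (𝒟.B i) (𝒟.A (i + 1)) (c i))
    (hc : ∀ i, i < 𝒟.n → c i ∉ 𝒜.qB i) :
    ∃ D : ShrinkData 𝒟, D.c = c ∧ D.s = s ∧ D.g ∉ p ∧ (∀ i, i < 𝒟.n → D.b i ∉ 𝒜.qB i) ∧
      ∀ i, i < 𝒟.n →
        Function.Surjective (PrimeSpectrum.comap (algebraMap D.R' (D.T i))) := by
  have hex : ∀ i, ∃ gi : R, gi ∉ p ∧ (i < 𝒟.n → ∀ P : PrimeSpectrum R, gi ∉ P.asIdeal →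
      ∃ Q : PrimeSpectrum (𝒟.B i), c i ∉ Q.asIdeal ∧
        Q.asIdeal.comap (algebraMap R (𝒟.B i)) = P.asIdeal) := by
    intro i
    by_cases h : i < 𝒟.n
    · obtain ⟨gi, h1, h2⟩ := H6xShrinkE.exists_basic_subset_image R (𝒟.B i) (𝒜.d i)
        (𝒜.relDim i h) p (𝒜.qB i) (c i) (hc i h)
      exact ⟨gi, h1, fun _ => h2⟩
    · exact ⟨1, (Ideal.ne_top_iff_one p).mp (Ideal.IsPrime.ne_top inferInstance),
        fun h' => absurd h' h⟩
  choose gi h1 h2 using hex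
  have hg : ∏ i ∈ Finset.range 𝒟.n, gi i ∉ p := by
    rw [Ideal.IsPrime.prod_mem_iff]
    rintro ⟨i, -, hi⟩
    exact h1 i hi
  let D : ShrinkData 𝒟 := ⟨∏ i ∈ Finset.range 𝒟.n, gi i, s, c, chain0, chain⟩
  refine ⟨D, rfl, rfl, hg, ?_, ?_⟩
  · intro i hi hm
    rcases Ideal.IsPrime.mem_or_mem inferInstance hm with hm | hm
    · exact hc i hi hm
    · apply hg
      have hmem : ∀ x : R, algebraMap R (𝒟.B i) x ∈ 𝒜.qB i → x ∈ p := fun x hx => by
        have := (𝒜.overB i).over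
        rw [this]
        exact hx
      exact hmem _ hm
  · intro i hi
    haveI : Fact (i < 𝒟.n) := ⟨hi⟩
    apply D.surj_of i
    intro P hP
    apply h2 i hi P
    intro hm
    apply hP
    obtain ⟨t, ht⟩ := Finset.dvd_prod_of_mem gi (Finset.mem_range.mpr hi)
    change ∏ i ∈ Finset.range 𝒟.n, gi i ∈ P.asIdeal
    rw [ht]
    exact Ideal.mul_mem_right _ _ hm

theorem exists_shrinkData_last (w : 𝒟.B (𝒟.n - 1)) (hw : w ∉ 𝒜.qB (𝒟.n - 1)) :
    ∃ D : ShrinkData 𝒟, D.c (𝒟.n - 1) = w ∧ D.g ∉ p ∧ (∀ i, i < 𝒟.n → D.b i ∉ 𝒜.qB i) ∧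
      ∀ i, i < 𝒟.n →
        Function.Surjective (PrimeSpectrum.comap (algebraMap D.R' (D.T i))) := by
  have hpos := 𝒟.pos
  obtain ⟨c, hc0, hcP, hcR⟩ := down_rec (X := 𝒟.B) (fun _ => 1) (𝒟.n - 1)
    (fun i x => x ∉ 𝒜.qB i)
    (fun i x y => algebraMap (𝒟.B (i + 1)) (𝒟.A (i + 1)) y = algebraMap (𝒟.B i) (𝒟.A (i + 1)) x)
    (fun i hi y hy => by
      obtain ⟨x, ⟨hx, -⟩, e⟩ := lift_step 𝒜 i (by omega) 1 1 ⟨1, by simp⟩ y hy (one_dvd _)
      exact ⟨x, hx, e⟩) w hw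
  obtain ⟨s, hs⟩ := 𝒟.surjSA (algebraMap (𝒟.B 0) (𝒟.A 0) (c 0))
  obtain ⟨D, hDc, -, hg, hbq, hsurj⟩ := exists_shrinkData_of_chain 𝒜 c s hs.symm
    (fun i h => hcR i (by omega)) (fun i h => hcP i (by omega))
  exact ⟨D, by rw [hDc]; exact hc0, hg, hbq, hsurj⟩

theorem exists_shrinkData_unit (u : S) (hu : u ∉ q) :
    ∃ D : ShrinkData 𝒟, u ∣ D.s ∧ D.g ∉ p ∧ (∀ i, i < 𝒟.n → D.b i ∉ 𝒜.qB i) ∧
      ∀ i, i < 𝒟.n →
        Function.Surjective (PrimeSpectrum.comap (algebraMap D.R' (D.T i))) := by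
  have hpos := 𝒟.pos
  obtain ⟨w₀, hw₀, a₀, ha₀⟩ := up_base 𝒜 u hu
  obtain ⟨w, hw0, hwP, hwR⟩ := up_rec (X := 𝒟.B) (fun _ => 1) (𝒟.n - 1)
    (fun i x => x ∉ 𝒜.qB i)
    (fun i x y => ∃ a, algebraMap (𝒟.B (i + 1)) (𝒟.A (i + 1)) y =
      algebraMap (𝒟.B i) (𝒟.A (i + 1)) x * a)
    (fun i hi x hx => up_step 𝒜 i (by omega) x hx) w₀ hw₀
  obtain ⟨c, -, hcP, hcR⟩ := down_rec (X := 𝒟.B) (fun _ => 1) (𝒟.n - 1)
    (fun i x => x ∉ 𝒜.qB i ∧ w i ∣ x)
    (fun i x y => algebraMap (𝒟.B (i + 1)) (𝒟.A (i + 1)) y = algebraMap (𝒟.B i) (𝒟.A (i + 1)) x)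
    (fun i hi y hy => lift_step 𝒜 i (by omega) (w i) (w (i + 1)) (hwR i hi) y hy.1 hy.2)
    (w (𝒟.n - 1)) ⟨hwP (𝒟.n - 1) le_rfl, dvd_rfl⟩
  obtain ⟨-, t, ht⟩ := hcP 0 (Nat.zero_le _)
  obtain ⟨s'', hs''⟩ := 𝒟.surjSA (a₀ * algebraMap (𝒟.B 0) (𝒟.A 0) t)
  have chain0 : algebraMap (𝒟.B 0) (𝒟.A 0) (c 0) = algebraMap S (𝒟.A 0) (u * s'') := by
    rw [ht, map_mul, hw0, ha₀, map_mul, hs'', mul_assoc]
  obtain ⟨D, -, hDs, hg, hbq, hsurj⟩ := exists_shrinkData_of_chain 𝒜 c (u * s'') chain0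
    (fun i h => hcR i (by omega)) (fun i h => (hcP i (by omega)).1)
  exact ⟨D, by rw [hDs]; exact Dvd.intro _ rfl, hg, hbq, hsurj⟩

end Exists

end Groth.Agent.Lib.H6xShrDev
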