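import Mathlib
import Groth.Agent.Lib.H6xShtA
import Groth.Agent.Lib.H6xShkO
import Groth.Agent.Lib.H6xHasLDerRing
set_option backward.isDefEq.respectTransparency.types false

/-!
# helper6: the upper shriek of a flat epimorphism, without boundedness

* `flatEpi_shriek'`: `RHom_{B'[z]}(B, L ⊗ B'[z]) ≅ (L ⊗_{B'} B)[-m]` for EVERY `L` in `D(B')`;
* `shriekVia_openImmersion` (S8943): `φ^!(K) ≅ K ⊗ᴸ_R R'` for `Spec R' → Spec R` an open immersion.
-/

set_option autoImplicit false
set_option linter.style.haveILetI false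
universe u

namespace Groth.Agent.Lib.H6xSht

open CategoryTheory CategoryTheory.Limits DerivedCategory TensorProduct MvPolynomial
open Groth.Agent.Lib.Helper1.Extend Groth.Agent.Lib.H6xFBC Groth.Agent.Lib.H6xShk
attribute [local instance] HasDerivedCategory.standard

section OI

attribute [local instance] MvPolynomial.algebraMvPolynomial

/-- **the upper shriek of a flat epimorphism**, on all complexes:
`RHom_{B'[z]}(B, L ⊗ B'[z]) ≅ (L ⊗_{B'} B)[-m]` -/
theorem flatEpi_shriek' (B' B : Type u) [CommRing B'] [CommRing B] [IsNoetherianRing B']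
    [Algebra B' B] [Module.Flat B' B] [Algebra.IsEpi B' B] (m : ℕ)
    (χ : MvPolynomial (Fin m) B' →ₐ[B'] B) (hχ : Function.Surjective χ)
    (Rχ : Dual.D (MvPolynomial (Fin m) B') ⥤ Dual.D B)
    (adjχ : DRing.restrictD χ.toRingHom ⊣ Rχ) (L : Dual.D B') :
    Nonempty (Rχ.obj ((extD B' (MvPolynomial (Fin m) B')).obj L) ≅
      ((extD B' B).obj L)⟦-(m : ℤ)⟧) := by
  haveI fPP' : Module.Flat (MvPolynomial (Fin m) B') (MvPolynomial (Fin m) B) :=
    Module.Flat.isBaseChange (R := B') (M := B) (S := MvPolynomial (Fin m) B')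
      (MvPolynomial (Fin m) B)
      (Algebra.IsPushout.out (R := B') (S := MvPolynomial (Fin m) B') (R' := B)
        (S' := MvPolynomial (Fin m) B))
  haveI fB'P' : Module.Flat B' (MvPolynomial (Fin m) B) :=
    Module.Flat.trans B' B (MvPolynomial (Fin m) B)
  -- the retraction `σ : B[z] → B`
  let σ : MvPolynomial (Fin m) B →ₐ[B] B := aeval (fun j => χ (X j))
  letI iPB : Algebra (MvPolynomial (Fin m) B') B := χ.toRingHom.toAlgebra
  haveI tB'PB : IsScalarTower B' (MvPolynomial (Fin m) B') B :=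
    IsScalarTower.of_algebraMap_eq' χ.comp_algebraMap.symm
  letI iP'B : Algebra (MvPolynomial (Fin m) B) B := σ.toRingHom.toAlgebra
  haveI tBP'B : IsScalarTower B (MvPolynomial (Fin m) B) B :=
    IsScalarTower.of_algebraMap_eq' σ.comp_algebraMap.symm
  have hsq : χ.toRingHom = σ.toRingHom.comp (MvPolynomial.map (algebraMap B' B)) := by
    apply MvPolynomial.ringHom_ext
    · intro b
      change χ (C b) = σ (MvPolynomial.map (algebraMap B' B) (C b))
      rw [MvPolynomial.map_C]
      have h1 : χ (C b) = algebraMap B' B b := χ.commutes b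
      have h2 : σ (C (algebraMap B' B b)) = algebraMap B B (algebraMap B' B b) := σ.commutes _
      rw [h1, h2]
      rfl
    · intro j
      change χ (X j) = σ (MvPolynomial.map (algebraMap B' B) (X j))
      rw [MvPolynomial.map_X]
      exact (aeval_X (R := B) (fun j => χ (X j)) j).symm
  haveI tPP'B : IsScalarTower (MvPolynomial (Fin m) B') (MvPolynomial (Fin m) B) B :=
    IsScalarTower.of_algebraMap_eq' hsq
  haveI tB'P'B : IsScalarTower B' (MvPolynomial (Fin m) B) B :=
    IsScalarTower.of_algebraMap_eq (fun r => by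
      change algebraMap B' B r = σ (algebraMap B' (MvPolynomial (Fin m) B) r)
      rw [IsScalarTower.algebraMap_apply B' B (MvPolynomial (Fin m) B) r]
      exact (σ.commutes _).symm)
  haveI hpo0 : Algebra.IsPushout B' B B B := isPushout_of_isEpi B' B
  haveI t1 : IsScalarTower (MvPolynomial (Fin m) B') B B := IsScalarTower.right
  haveI t2 : IsScalarTower B' B B := IsScalarTower.right
  haveI t3 : Algebra.IsPushout B' (MvPolynomial (Fin m) B') B (MvPolynomial (Fin m) B) :=
    inferInstance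
  haveI hpo : Algebra.IsPushout (MvPolynomial (Fin m) B') B (MvPolynomial (Fin m) B) B := by
    have := (Algebra.IsPushout.comp_iff (T := B) (T' := B) B' (MvPolynomial (Fin m) B') B
      (MvPolynomial (Fin m) B))
    exact this.1 hpo0
  -- perfectness and tor independence
  have hperf : DRing.IsPerfectModule (MvPolynomial (Fin m) B') B :=
    isPerfectModule_of_flat B' B m hχ
  have htor := fun (p : ℕ) (hp : 1 ≤ p) =>
    subsingleton_tor_of_isPushout B' (MvPolynomial (Fin m) B') B
      (MvPolynomial (Fin m) B) B p hp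
  haveI : DRing.HasLBaseChange (algebraMap (MvPolynomial (Fin m) B') (MvPolynomial (Fin m) B)) :=
    Groth.Agent.Lib.H6xHasLDerRing.hasLBaseChange _
  haveI : DRing.HasLBaseChange (algebraMap B B) :=
    Groth.Agent.Lib.H6xHasLDerRing.hasLBaseChange _
  obtain ⟨Rσ, ⟨adjσ⟩⟩ := Groth.Agent.Lib.H6xCoext.exists_rightAdjoint σ.toRingHom
  obtain ⟨e4'⟩ := nonempty_lbc_rightAdjoint_iso_of_perfect (MvPolynomial (Fin m) B') B
    (MvPolynomial (Fin m) B) B hperf htor Rχ adjχ Rσ adjσ
    ((extD B' (MvPolynomial (Fin m) B')).obj L)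
  obtain ⟨b1⟩ := Groth.Agent.Lib.H6xPCDesc.nonempty_lbc_iso_extD (A := B) (B := B)
    (Rχ.obj ((extD B' (MvPolynomial (Fin m) B')).obj L))
  obtain ⟨b2⟩ := Groth.Agent.Lib.H6xPCDesc.nonempty_lbc_iso_extD
    (A := MvPolynomial (Fin m) B') (B := MvPolynomial (Fin m) B)
    ((extD B' (MvPolynomial (Fin m) B')).obj L)
  let e4 : (extD B B).obj (Rχ.obj ((extD B' (MvPolynomial (Fin m) B')).obj L)) ≅
      Rσ.obj ((extD (MvPolynomial (Fin m) B') (MvPolynomial (Fin m) B)).obj
        ((extD B' (MvPolynomial (Fin m) B')).obj L)) :=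
    b1.symm ≪≫ e4' ≪≫ Rσ.mapIso b2
  obtain ⟨e5⟩ := Groth.Agent.Lib.H6xGor.nonempty_extD_comp_iso B' (MvPolynomial (Fin m) B')
    (MvPolynomial (Fin m) B) L
  obtain ⟨e6⟩ := Groth.Agent.Lib.H6xGor.nonempty_extD_comp_iso B' B
    (MvPolynomial (Fin m) B) L
  have hX : Function.Bijective
      (aeval (X : Fin m → MvPolynomial (Fin m) B) :
        MvPolynomial (Fin m) B →ₐ[B] MvPolynomial (Fin m) B) := by
    rw [MvPolynomial.aeval_X_left]
    exact Function.bijective_id
  obtain ⟨e7⟩ := keyLemma B m (MvPolynomial (Fin m) B) σ X hX Rσ adjσ ((extD B' B).obj L)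
  exact ⟨((extDSelfIso B).app _).symm ≪≫ e4 ≪≫ Rσ.mapIso (e5 ≪≫ e6.symm) ≪≫ e7⟩

end OI

section Main

open AlgebraicGeometry

/-- **S8943**: the upper shriek of an open immersion is the derived base change -/
theorem shriekVia_openImmersion (R R' : Type u) [CommRing R] [CommRing R'] [IsNoetherianRing R]
    [Algebra R R']
    (hopen : IsOpenImmersion (Spec.map (CommRingCat.ofHom (algebraMap R R')))) (n : ℕ)
    (ψ : MvPolynomial (Fin n) R →ₐ[R] R') (hψ : Function.Surjective ψ)
    [DRing.HasLBaseChange (algebraMap R (MvPolynomial (Fin n) R))]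
    (Rψ : Dual.D (MvPolynomial (Fin n) R) ⥤ Dual.D R') (adj : DRing.restrictD ψ.toRingHom ⊣ Rψ)
    [DRing.HasLBaseChange (algebraMap R R')] (K : Dual.D R) :
    Nonempty (Dual2.shriekVia n Rψ K ≅ (DRing.LBaseChange (algebraMap R R')).obj K) := by
  have hflat : (algebraMap R R').Flat := by
    have : Flat (Spec.map (CommRingCat.ofHom (algebraMap R R'))) := inferInstance
    exact Flat.SpecMap_iff.mp this
  haveI : Module.Flat R R' := RingHom.flat_algebraMap_iff.mp hflat
  haveI hepi : Algebra.IsEpi R R' := by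
    rw [← CommRingCat.epi_iff_epi]
    have hm : Mono (Spec.map (CommRingCat.ofHom (algebraMap R R'))) := inferInstance
    have hm' : Mono (CommRingCat.ofHom (algebraMap R R')).op :=
      Scheme.Spec.mono_of_mono_map hm
    exact unop_epi_of_mono (CommRingCat.ofHom (algebraMap R R')).op
  obtain ⟨a⟩ := Groth.Agent.Lib.H6xPCDesc.nonempty_lbc_iso_extD
    (A := R) (B := MvPolynomial (Fin n) R) K
  obtain ⟨b⟩ := Groth.Agent.Lib.H6xPCDesc.nonempty_lbc_iso_extD (A := R) (B := R') K
  obtain ⟨e3⟩ := flatEpi_shriek' R R' n ψ hψ Rψ adj K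
  exact ⟨(shiftFunctor (Dual.D R') (n : ℤ)).mapIso (Rψ.mapIso a ≪≫ e3) ≪≫
    (shiftFunctorCompIsoId (Dual.D R') (-(n : ℤ)) (n : ℤ) (by ring)).app _ ≪≫ b.symm⟩

end Main

end Groth.Agent.Lib.H6xSht
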