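import Mathlib
import Groth.Agent.Lib.H6xShtF
import Groth.Agent.Lib.H6xShkJ
set_option backward.isDefEq.respectTransparency.types false

/-!
# helper6: `ω_{A/R}` is a relative dualizing complex (S1795), the diagonal part
-/

set_option autoImplicit false
set_option linter.style.haveILetI false
set_option maxHeartbeats 400000
universe u

namespace Groth.Agent.Lib.H6xSht

open CategoryTheory CategoryTheory.Limits DerivedCategory TensorProduct MvPolynomial
open Groth.Agent.Lib.Helper1.Extend Groth.Agent.Lib.H6xFBC Groth.Agent.Lib.H6xShk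
attribute [local instance] HasDerivedCategory.standard

section Swap

variable (R A : Type u) [CommRing R] [CommRing A] [Algebra R A]

/-- the swap of `A ⊗_R A` as a ring map -/
noncomputable def swapHom : A ⊗[R] A →+* A ⊗[R] A :=
  (Algebra.TensorProduct.comm R A A : A ⊗[R] A ≃ₐ[R] A ⊗[R] A).toAlgHom.toRingHom

lemma swapHom_tmul (a b : A) : swapHom R A (a ⊗ₜ[R] b) = b ⊗ₜ[R] a := rfl

lemma swapHom_comp_includeLeft :
    (swapHom R A).comp (Algebra.TensorProduct.includeLeftRingHom : A →+* A ⊗[R] A) =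
      (Algebra.TensorProduct.includeRight : A →ₐ[R] A ⊗[R] A).toRingHom := by
  ext a
  rfl

lemma swapHom_comp_swapHom : (swapHom R A).comp (swapHom R A) = RingHom.id _ := by
  apply RingHom.ext
  intro x
  induction x using TensorProduct.induction_on with
  | zero => simp
  | tmul a b => rfl
  | add x y hx hy => rw [map_add, hx, hy, map_add]

lemma lmul_comp_swapHom :
    (Algebra.TensorProduct.lmul' R (S := A)).toRingHom.comp (swapHom R A) =
      (Algebra.TensorProduct.lmul' R (S := A)).toRingHom := by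
  apply RingHom.ext
  intro x
  induction x using TensorProduct.induction_on with
  | zero => simp
  | tmul a b =>
    change Algebra.TensorProduct.lmul' R (b ⊗ₜ[R] a) = Algebra.TensorProduct.lmul' R (a ⊗ₜ[R] b)
    rw [Algebra.TensorProduct.lmul'_apply_tmul, Algebra.TensorProduct.lmul'_apply_tmul, mul_comm]
  | add x y hx hy => rw [map_add, hx, hy, map_add]

end Swap

section Main

/-- **S1795**: `ω_{A/R} = φ^!(R)` is a relative dualizing complex for `R → A` flat of finite type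
between Noetherian rings -/
theorem shriekVia_self_isRelDualizing (R A : Type u) [CommRing R] [CommRing A]
    [IsNoetherianRing R] [IsNoetherianRing A] [Algebra R A] [Module.Flat R A]
    [Algebra.FiniteType R A] (n : ℕ) (ψ : MvPolynomial (Fin n) R →ₐ[R] A)
    (hψ : Function.Surjective ψ) [DRing.HasLBaseChange (algebraMap R (MvPolynomial (Fin n) R))]
    (Rψ : Dual.D (MvPolynomial (Fin n) R) ⥤ Dual.D A) (adj : DRing.restrictD ψ.toRingHom ⊣ Rψ)
    [DRing.HasLBaseChange (Algebra.TensorProduct.includeLeftRingHom : A →+* TensorProduct R A A)]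
    (Rμ : Dual.D (TensorProduct R A A) ⥤ Dual.D A)
    (adjμ : DRing.restrictD (Algebra.TensorProduct.lmul' R (S := A)).toRingHom ⊣ Rμ) :
    Dual2.IsRelDualizing R A Rμ (Dual2.shriekVia n Rψ (Dual.inD R R)) := by
  refine ⟨isRelPerfect_shriekVia_self R A n ψ hψ Rψ adj, ?_⟩
  -- instances
  haveI : DRing.HasLBaseChange
      (Algebra.TensorProduct.includeRight : A →ₐ[R] A ⊗[R] A).toRingHom :=
    Groth.Agent.Lib.H6xHasLDerRing.hasLBaseChange _
  haveI : DRing.HasLBaseChange (algebraMap R A) := Groth.Agent.Lib.H6xHasLDerRing.hasLBaseChange _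
  -- swap
  obtain ⟨e1⟩ := nonempty_rightAdjoint_lbc_swap
    (Algebra.TensorProduct.includeLeftRingHom : A →+* A ⊗[R] A)
    (Algebra.TensorProduct.includeRight : A →ₐ[R] A ⊗[R] A).toRingHom (swapHom R A)
    (Algebra.TensorProduct.lmul' R (S := A)).toRingHom (swapHom_comp_includeLeft R A)
    (swapHom_comp_swapHom R A) (lmul_comp_swapHom R A) Rμ adjμ
    (Dual2.shriekVia n Rψ (Dual.inD R R))
  -- a presentation of `A ⊗ A` over `A` (left structure)
  obtain ⟨m, ψ', hψ'⟩ := Algebra.FiniteType.iff_quotient_mvPolynomial''.1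
    (inferInstance : Algebra.FiniteType A (A ⊗[R] A))
  haveI : DRing.HasLBaseChange (algebraMap A (MvPolynomial (Fin m) A)) :=
    Groth.Agent.Lib.H6xHasLDerRing.hasLBaseChange _
  obtain ⟨Rψ', ⟨adjψ'⟩⟩ := Groth.Agent.Lib.H6xCoext.exists_rightAdjoint ψ'.toRingHom
  obtain ⟨e2⟩ := shriekVia_baseChange_of_flat R A A n ψ hψ Rψ adj m ψ' hψ' Rψ' adjψ'
    (Dual.inD R R)
  obtain ⟨y⟩ := nonempty_lbc_inD_iso (R := R) (P := A)
  let e3 : Dual2.shriekVia m Rψ' ((DRing.LBaseChange (algebraMap R A)).obj (Dual.inD R R)) ≅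
      Dual2.shriekVia m Rψ' (Dual.inD A A) :=
    (shiftFunctor (Dual.D (A ⊗[R] A)) (m : ℤ)).mapIso (Rψ'.mapIso
      ((DRing.LBaseChange (algebraMap A (MvPolynomial (Fin m) A))).mapIso y))
  -- the multiplication map
  letI iμ : Algebra (A ⊗[R] A) A := (Algebra.TensorProduct.lmul' R (S := A)).toRingHom.toAlgebra
  haveI tow : IsScalarTower A (A ⊗[R] A) A := IsScalarTower.of_algebraMap_eq (fun a => by
    change a = Algebra.TensorProduct.lmul' R (a ⊗ₜ[R] (1 : A))
    rw [Algebra.TensorProduct.lmul'_apply_tmul, mul_one])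
  have hμsurj : Function.Surjective (algebraMap (A ⊗[R] A) A) := fun a =>
    ⟨a ⊗ₜ[R] 1, by
      change Algebra.TensorProduct.lmul' R (a ⊗ₜ[R] (1 : A)) = a
      rw [Algebra.TensorProduct.lmul'_apply_tmul, mul_one]⟩
  haveI : Module.Finite (A ⊗[R] A) A :=
    Module.Finite.of_surjective (Algebra.linearMap (A ⊗[R] A) A) hμsurj
  haveI : Algebra.FiniteType (A ⊗[R] A) A := inferInstance
  obtain ⟨k, χ, hχ⟩ := Algebra.FiniteType.iff_quotient_mvPolynomial''.1
    (inferInstance : Algebra.FiniteType (A ⊗[R] A) A)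
  haveI : DRing.HasLBaseChange (algebraMap (A ⊗[R] A) (MvPolynomial (Fin k) (A ⊗[R] A))) :=
    Groth.Agent.Lib.H6xHasLDerRing.hasLBaseChange _
  obtain ⟨Rχ, ⟨adjχ⟩⟩ := Groth.Agent.Lib.H6xCoext.exists_rightAdjoint χ.toRingHom
  obtain ⟨e4⟩ := shriekVia_iso_rightAdjoint_of_finite (A ⊗[R] A) A k χ Rχ adjχ Rμ adjμ
    (Dual2.shriekVia m Rψ' (Dual.inD A A))
  -- the identity of `A`
  obtain ⟨l, θ, hθ⟩ := Algebra.FiniteType.iff_quotient_mvPolynomial''.1
    (inferInstance : Algebra.FiniteType A A)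
  haveI : DRing.HasLBaseChange (algebraMap A (MvPolynomial (Fin l) A)) :=
    Groth.Agent.Lib.H6xHasLDerRing.hasLBaseChange _
  obtain ⟨Rθ, ⟨adjθ⟩⟩ := Groth.Agent.Lib.H6xCoext.exists_rightAdjoint θ.toRingHom
  have h0 : ∀ i : ℤ, i < 0 → Subsingleton (Dual.HD A (Dual.inD A A) i) := fun i hi =>
    Groth.Agent.Lib.H6xLD.subsingleton_HD_inD (A := A) A i (by omega)
  obtain ⟨e5⟩ := shriekVia_comp A (A ⊗[R] A) A m ψ' hψ' Rψ' adjψ' k χ hχ Rχ adjχ l θ hθ Rθ adjθ
    (Dual.inD A A) 0 h0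
  let adjId : DRing.restrictD (algebraMap A A) ⊣ 𝟭 (Dual.D A) :=
    (Adjunction.id (C := Dual.D A)).ofNatIsoLeft (restrictDId (A := A)).symm
  obtain ⟨e6⟩ := shriekVia_iso_rightAdjoint_of_finite A A l θ Rθ adjθ (𝟭 (Dual.D A)) adjId
    (Dual.inD A A)
  exact ⟨e1 ≪≫ Rμ.mapIso (e2 ≪≫ e3) ≪≫ e4.symm ≪≫ e5.symm ≪≫ e6⟩

end Main

end Groth.Agent.Lib.H6xSht
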