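import Mathlib
import Groth.Agent.Lib.Helper1Extend
set_option backward.isDefEq.respectTransparency.types false

/-!
# Descending a bounded complex of finite free modules along a localization (helper6)
-/

set_option autoImplicit false
set_option linter.style.haveILetI false

universe u

open CategoryTheory CategoryTheory.Limits TensorProduct

namespace Groth.Agent.Lib.H6xSpread

variable {A R : Type u} [CommRing A] [CommRing R] [Algebra A R] (S : Submonoid A)
  [IsLocalization S R]

include S in
/-- descent of a bounded family of composable matrices with zero products along a localization,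
up to a unit -/
theorem exists_matrices (r : ℤ → ℕ) (a b : ℤ) (hr : ∀ i : ℤ, (i < a ∨ b < i) → r i = 0)
    (D : ∀ i : ℤ, Matrix (Fin (r (i + 1))) (Fin (r i)) R)
    (hD : ∀ i : ℤ, D (i + 1) * D i = 0) :
    ∃ (u : Rˣ) (N : ∀ i : ℤ, Matrix (Fin (r (i + 1))) (Fin (r i)) A),
      (∀ i : ℤ, N (i + 1) * N i = 0) ∧
      ∀ i : ℤ, (N i).map (algebraMap A R) = (u : R) • D i := by
  classical
  -- step 1: clear denominators
  let ι := Σ i : ↥(Finset.Icc a b), Fin (r (i.1 + 1)) × Fin (r i.1)
  obtain ⟨s, hs⟩ := IsLocalization.exist_integer_multiples_of_finite S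
    (fun j : ι => D j.1.1 j.2.1 j.2.2)
  choose N₀ hN₀ using hs
  let N' : ∀ i : ℤ, Matrix (Fin (r (i + 1))) (Fin (r i)) A := fun i k l =>
    if h : i ∈ Finset.Icc a b then N₀ ⟨⟨i, h⟩, (k, l)⟩ else 0
  have hN' : ∀ (i : ℤ) (k : Fin (r (i + 1))) (l : Fin (r i)),
      algebraMap A R (N' i k l) = (s : A) • D i k l := by
    intro i k l
    by_cases h : i ∈ Finset.Icc a b
    · simp only [N', dif_pos h]
      exact hN₀ ⟨⟨i, h⟩, (k, l)⟩
    · exfalso
      rw [Finset.mem_Icc, not_and_or, not_le, not_le] at h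
      rcases h with h | h
      · have := hr i (Or.inl h)
        rw [this] at l
        exact l.elim0
      · have := hr (i + 1) (Or.inr (by omega))
        rw [this] at k
        exact k.elim0
  -- step 2: kill the products
  have hP : ∀ (i : ℤ) (k : Fin (r (i + 1 + 1))) (l : Fin (r i)),
      algebraMap A R ((N' (i + 1) * N' i) k l) = 0 := by
    intro i k l
    have h1 : (D (i + 1) * D i) k l = 0 := by rw [hD]; rfl
    rw [Matrix.mul_apply] at h1 ⊢
    rw [map_sum]
    have h2 : ∀ x, algebraMap A R (N' (i + 1) k x * N' i x l) =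
        ((s : A) • (1 : R)) * ((s : A) • (1 : R)) * (D (i + 1) k x * D i x l) := by
      intro x
      rw [map_mul, hN', hN', Algebra.smul_def, Algebra.smul_def, Algebra.smul_def, mul_one]
      ring
    simp only [h2]
    rw [← Finset.mul_sum, h1, mul_zero]
  let ι₂ := Σ i : ↥(Finset.Icc a b), Fin (r (i.1 + 1 + 1)) × Fin (r i.1)
  have hex : ∀ j : ι₂, ∃ m : S, (m : A) * (N' (j.1.1 + 1) * N' j.1.1) j.2.1 j.2.2 = 0 :=
    fun j => (IsLocalization.map_eq_zero_iff S R _).1 (hP j.1.1 j.2.1 j.2.2)
  choose tt htt using hex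
  let t : S := ∏ j : ι₂, tt j
  have ht : ∀ (i : ℤ) (k : Fin (r (i + 1 + 1))) (l : Fin (r i)),
      (t : A) * (N' (i + 1) * N' i) k l = 0 := by
    intro i k l
    by_cases h : i ∈ Finset.Icc a b
    · have hdvd : (tt ⟨⟨i, h⟩, (k, l)⟩ : A) ∣ (t : A) := by
        have : tt ⟨⟨i, h⟩, (k, l)⟩ ∣ t := Finset.dvd_prod_of_mem _ (Finset.mem_univ _)
        obtain ⟨c, hc⟩ := this
        exact ⟨(c : A), by rw [hc]; rfl⟩
      obtain ⟨c, hc⟩ := hdvd
      rw [hc, mul_comm _ c, mul_assoc]
      have := htt ⟨⟨i, h⟩, (k, l)⟩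
      rw [this, mul_zero]
    · exfalso
      rw [Finset.mem_Icc, not_and_or, not_le, not_le] at h
      rcases h with h | h
      · have := hr i (Or.inl h)
        rw [this] at l
        exact l.elim0
      · have := hr (i + 1 + 1) (Or.inr (by omega))
        rw [this] at k
        exact k.elim0
  have hu : IsUnit (algebraMap A R ((t : A) * (s : A))) :=
    IsLocalization.map_units R (⟨(t : A) * (s : A), S.mul_mem t.2 s.2⟩ : S)
  refine ⟨hu.unit, fun i => (t : A) • N' i, fun i => ?_, fun i => ?_⟩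
  · ext k l
    rw [Matrix.smul_mul, Matrix.mul_smul, Matrix.smul_apply, Matrix.smul_apply, smul_eq_mul,
      smul_eq_mul, ht, mul_zero]
    rfl
  · ext k l
    have h1 : ((hu.unit : Rˣ) : R) = algebraMap A R (t : A) * algebraMap A R (s : A) := by
      rw [IsUnit.unit_spec, map_mul]
    change algebraMap A R ((t : A) * N' i k l) = (hu.unit : R) * D i k l
    rw [h1, map_mul, hN', Algebra.smul_def]
    ring

end Groth.Agent.Lib.H6xSpread

namespace Groth.Agent.Lib.H6xSpread

open Groth.Agent.Lib.Helper1.Extend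

variable {A R : Type u} [CommRing A] [CommRing R] [Algebra A R]

/-- the complex of finite free modules given by a family of matrices -/
noncomputable def matCx (r : ℤ → ℕ) (N : ∀ i : ℤ, Matrix (Fin (r (i + 1))) (Fin (r i)) A)
    (hN : ∀ i : ℤ, N (i + 1) * N i = 0) : CochainComplex (ModuleCat.{u} A) ℤ :=
  CochainComplex.of (fun i => ModuleCat.of A (Fin (r i) → A))
    (fun i => ModuleCat.ofHom (Matrix.toLin' (N i)))
    (fun i => by
      rw [← ModuleCat.ofHom_comp, ← Matrix.toLin'_mul, hN, map_zero]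
      rfl)

/-- naturality of `extEquiv` -/
lemma extEquiv_map_symm' {X Y : ModuleCat.{u} A} (f : X ⟶ Y) (s : R ⊗[A] X) :
    extEquiv (A := A) (B := R) Y (((ext A R).map f).hom
      ((extEquiv (A := A) (B := R) X).symm s)) = (f.hom.baseChange R) s := by
  induction s using TensorProduct.induction_on with
  | zero => simp
  | tmul b x => rfl
  | add a b ha hb => simp only [map_add, ha, hb]

lemma extEquiv_map' {X Y : ModuleCat.{u} A} (f : X ⟶ Y) (t : (ext A R).obj X) :
    extEquiv (A := A) (B := R) Y (((ext A R).map f).hom t) =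
      (f.hom.baseChange R) (extEquiv (A := A) (B := R) X t) := by
  have := extEquiv_map_symm' (R := R) f (extEquiv (A := A) (B := R) X t)
  rwa [LinearEquiv.symm_apply_apply] at this

/-- the comparison in each degree, on the honest tensor product -/
noncomputable def ψ' (n : ℕ) {M : Type u} [AddCommGroup M] [Module R M]
    (bs : Module.Basis (Fin n) R M) : R ⊗[A] (Fin n → A) ≃ₗ[R] M :=
  (TensorProduct.piScalarRight A R R (Fin n)).trans bs.equivFun.symm

lemma equivFun_ψ'_tmul (n : ℕ) {M : Type u} [AddCommGroup M] [Module R M]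
    (bs : Module.Basis (Fin n) R M) (x : R) (v : Fin n → A) :
    bs.equivFun (ψ' (A := A) n bs (x ⊗ₜ[A] v)) = fun l => v l • x := by
  unfold ψ'
  rw [LinearEquiv.trans_apply, LinearEquiv.apply_symm_apply,
    TensorProduct.piScalarRight_apply, TensorProduct.piScalarRightHom_tmul]

lemma ψ'_square (n m : ℕ) (Nmat : Matrix (Fin m) (Fin n) A) {M M' : Type u} [AddCommGroup M]
    [Module R M] [AddCommGroup M'] [Module R M'] (bs : Module.Basis (Fin n) R M)
    (bs' : Module.Basis (Fin m) R M') (f : M →ₗ[R] M')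
    (h : LinearMap.toMatrix bs bs' f = Nmat.map (algebraMap A R))
    (s : R ⊗[A] (Fin n → A)) :
    f (ψ' (A := A) n bs s) = ψ' (A := A) m bs' ((Matrix.toLin' Nmat).baseChange R s) := by
  apply bs'.equivFun.injective
  induction s using TensorProduct.induction_on with
  | zero => simp
  | tmul x v =>
    rw [LinearMap.baseChange_tmul, equivFun_ψ'_tmul]
    have h2 := LinearMap.toMatrix_mulVec_repr bs bs' f (ψ' (A := A) n bs (x ⊗ₜ[A] v))
    have h3 : (bs.repr (ψ' (A := A) n bs (x ⊗ₜ[A] v)) : Fin n → R) =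
        fun l => v l • x := equivFun_ψ'_tmul (A := A) n bs x v
    rw [h3, h] at h2
    rw [Module.Basis.equivFun_apply, ← h2]
    ext k
    simp only [Matrix.mulVec, dotProduct, Matrix.map_apply, Matrix.toLin'_apply, Algebra.smul_def,
      map_sum, map_mul, Finset.sum_mul]
    refine Finset.sum_congr rfl (fun l _ => ?_)
    ring
  | add x y hx hy =>
    simp only [map_add, hx, hy]

/-- the comparison in each degree -/
noncomputable def ψlin (n : ℕ) {M : Type u} [AddCommGroup M] [Module R M]
    (bs : Module.Basis (Fin n) R M) :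
    ((ext A R).obj (ModuleCat.of A (Fin n → A))) ≃ₗ[R] M :=
  (extEquiv (A := A) (B := R) (Fin n → A)).trans (ψ' n bs)

lemma ψlin_square (n m : ℕ) (Nmat : Matrix (Fin m) (Fin n) A) {M M' : Type u} [AddCommGroup M]
    [Module R M] [AddCommGroup M'] [Module R M'] (bs : Module.Basis (Fin n) R M)
    (bs' : Module.Basis (Fin m) R M') (f : M →ₗ[R] M')
    (h : LinearMap.toMatrix bs bs' f = Nmat.map (algebraMap A R))
    (x : ((ext A R).obj (ModuleCat.of A (Fin n → A)))) :
    f (ψlin (A := A) n bs x) =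
      ψlin (A := A) m bs' (((ext A R).map (ModuleCat.ofHom (Matrix.toLin' Nmat))).hom x) := by
  unfold ψlin
  rw [LinearEquiv.trans_apply, LinearEquiv.trans_apply]
  have := extEquiv_map' (R := R) (ModuleCat.ofHom (Matrix.toLin' Nmat)) x
  rw [this]
  exact ψ'_square n m Nmat bs bs' f h _

theorem nonempty_iso_of_toMatrix (r : ℤ → ℕ)
    (N : ∀ i : ℤ, Matrix (Fin (r (i + 1))) (Fin (r i)) A)
    (hN : ∀ i : ℤ, N (i + 1) * N i = 0) (E : CochainComplex (ModuleCat.{u} R) ℤ)
    (bs : ∀ i : ℤ, Module.Basis (Fin (r i)) R (E.X i))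
    (h : ∀ i : ℤ, LinearMap.toMatrix (bs i) (bs (i + 1)) (E.d i (i + 1)).hom =
      (N i).map (algebraMap A R)) :
    Nonempty (((ext A R).mapHomologicalComplex (ComplexShape.up ℤ)).obj (matCx r N hN) ≅ E) := by
  refine ⟨HomologicalComplex.Hom.isoOfComponents
    (fun i => (ψlin (A := A) (r i) (bs i)).toModuleIso) ?_⟩
  rintro i j (rfl : i + 1 = j)
  have hd : (matCx r N hN).d i (i + 1) = ModuleCat.ofHom (Matrix.toLin' (N i)) := by
    simp [matCx]
  ext x
  have := ψlin_square (A := A) (r i) (r (i + 1)) (N i) (bs i) (bs (i + 1)) (E.d i (i + 1)).hom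
    (h i) x
  rw [← hd] at this
  exact this

end Groth.Agent.Lib.H6xSpread

namespace Groth.Agent.Lib.H6xSpread

open Groth.Agent.Lib.Helper1.Extend

variable {A R : Type u} [CommRing A] [CommRing R] [Algebra A R] (S : Submonoid A)
  [IsLocalization S R] [Nontrivial R]

include S in
/-- a bounded complex of finite free modules over a localization descends -/
theorem exists_descent (E : DRing.Cx R) (a b : ℤ) (hE : DRing.VanishesOutside E a b)
    (hfree : DRing.TermwiseFiniteFree E) :
    ∃ C : DRing.Cx A, DRing.VanishesOutside C a b ∧ DRing.TermwiseFiniteFree C ∧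
      Nonempty ((extCx A R).obj C ≅ E) := by
  classical
  haveI : ∀ i, Module.Finite R (E.X i) := fun i => (hfree i).1
  haveI : ∀ i, Module.Free R (E.X i) := fun i => (hfree i).2
  let r : ℤ → ℕ := fun i => Module.finrank R (E.X i)
  have hr : ∀ i : ℤ, (i < a ∨ b < i) → r i = 0 := by
    intro i hi
    haveI : Subsingleton (E.X i) := ModuleCat.subsingleton_of_isZero (hE i hi)
    exact Module.finrank_zero_of_subsingleton
  let bs₀ : ∀ i : ℤ, Module.Basis (Fin (r i)) R (E.X i) := fun i => Module.finBasis R (E.X i)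
  let D : ∀ i : ℤ, Matrix (Fin (r (i + 1))) (Fin (r i)) R := fun i =>
    LinearMap.toMatrix (bs₀ i) (bs₀ (i + 1)) (E.d i (i + 1)).hom
  have hD : ∀ i : ℤ, D (i + 1) * D i = 0 := by
    intro i
    rw [← LinearMap.toMatrix_comp, ← ModuleCat.hom_comp, HomologicalComplex.d_comp_d]
    simp
  obtain ⟨u, N, hN, hNu⟩ := exists_matrices S r a b hr D hD
  let bs : ∀ i : ℤ, Module.Basis (Fin (r i)) R (E.X i) := fun i =>
    (bs₀ i).unitsSMul (fun _ => u ^ (-i))
  have hbs : ∀ i : ℤ, LinearMap.toMatrix (bs i) (bs (i + 1)) (E.d i (i + 1)).hom =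
      (N i).map (algebraMap A R) := by
    intro i
    rw [hNu]
    ext k l
    have hDi : D i k l = (bs₀ (i + 1)).repr ((E.d i (i + 1)).hom ((bs₀ i) l)) k :=
      LinearMap.toMatrix_apply _ _ _ _ _
    rw [LinearMap.toMatrix_apply, Module.Basis.repr_unitsSMul, Module.Basis.unitsSMul_apply]
    change (u ^ (-(i + 1)))⁻¹ • ((bs₀ (i + 1)).repr ((E.d i (i + 1)).hom (u ^ (-i) • (bs₀ i) l))) k =
      (u : R) * D i k l
    rw [hDi, Units.smul_def, Units.smul_def, map_smul, map_smul]
    simp only [Finsupp.smul_apply, smul_eq_mul]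
    have : ((u ^ (-(i + 1)))⁻¹ : Rˣ) * u ^ (-i) = u := by
      rw [← zpow_neg, ← zpow_add]
      simp
    rw [← mul_assoc, ← Units.val_mul, this]
  obtain ⟨e⟩ := nonempty_iso_of_toMatrix r N hN E bs hbs
  refine ⟨matCx r N hN, fun i hi => ?_, fun i => ?_, ⟨e⟩⟩
  · have h0 := hr i hi
    haveI : Subsingleton ((matCx r N hN).X i) := by
      change Subsingleton (Fin (r i) → A)
      rw [h0]
      infer_instance
    exact ModuleCat.isZero_of_subsingleton _
  · change Module.Finite A (Fin (r i) → A) ∧ Module.Free A (Fin (r i) → A)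
    exact ⟨inferInstance, inferInstance⟩

end Groth.Agent.Lib.H6xSpread
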