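import Mathlib
import Groth.Agent.Lib.H6xSpreadA
import Groth.Agent.Lib.H6xRelTorPush
import Groth.Agent.Lib.H6xRelTorLocE
import Groth.Agent.Lib.H6xPerfAffE
import Groth.Agent.Lib.H6xPerfSummB
import Groth.Agent.Lib.Helper1KBC5
set_option backward.isDefEq.respectTransparency.types false

/-!
# A perfect complex over a local ring of a scheme spreads out (helper6, S6196)
-/

set_option autoImplicit false
set_option linter.style.haveILetI false

universe u

open CategoryTheory CategoryTheory.Limits AlgebraicGeometry HomologicalComplex TopologicalSpace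
  Opposite MonoidalCategory

attribute [local instance] HasDerivedCategory.standard

namespace Groth.Agent.Lib.H6xSpread

open Groth.Agent.Lib.Helper1.BKF Groth.Agent.Lib.Helper1.CI Groth.Agent.Lib.Helper1.Sky
  Groth.Agent.Lib.Helper1.KBC Groth.Agent.Lib.H6xPushStalk Groth.Agent.Lib.H6xRelTorAmpG
  Groth.Agent.Lib.H6xRelTorAmp Groth.Agent.Lib.Helper1.Extend

section Ring

variable {A R R' : Type u} [CommRing A] [CommRing R] [CommRing R']

/-- restriction along a ring isomorphism is extension along its inverse -/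
noncomputable def restrictExtendIso (e : R ≃+* R') :
    ModuleCat.restrictScalars.{u} e.toRingHom ≅
      ModuleCat.extendScalars.{u, u, u} (e.symm : R' →+* R) :=
  Adjunction.leftAdjointUniq (ModuleCat.restrictScalarsEquivalenceOfRingEquiv e).toAdjunction
    (ModuleCat.extendRestrictScalarsAdj.{u, u, u} (e.symm : R' →+* R))

/-- extension followed by restriction along an isomorphism -/
noncomputable def extResIso (ψ : A →+* R') (e : R ≃+* R') :
    ModuleCat.extendScalars.{u, u, u} ψ ⋙ ModuleCat.restrictScalars.{u} e.toRingHom ≅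
      ModuleCat.extendScalars.{u, u, u} ((e.symm : R' →+* R).comp ψ) :=
  Functor.isoWhiskerLeft _ (restrictExtendIso e) ≪≫
    (ModuleCat.extendScalarsComp ψ (e.symm : R' →+* R)).symm

end Ring

variable {X : Scheme.{u}}

/-- S6196 -/
theorem main (x : X) (P : Dual.D ((X.presheaf.stalk x) : Type u))
    (hP : DRing.IsPerfect ((X.presheaf.stalk x) : Type u) P) :
    ∃ (U : X.Opens) (F' : CochainComplex X.Modules ℤ), x ∈ U ∧
      DCoh.IsPerfect (DerivedCategory.Q.obj ((DCoh.restrictCx U).obj F')) ∧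
      Nonempty (DRing.toD (((DerSch.stalkFunctor X x).mapHomologicalComplex
        (ComplexShape.up ℤ)).obj F') ≅ P) := by
  obtain ⟨W, hW, hxW, -⟩ := exists_isAffineOpen_mem_and_subset (x := x) (U := ⊤) trivial
  have hxr : x ∈ Set.range hW.fromSpec.base := by rw [hW.range_fromSpec]; exact hxW
  obtain ⟨p, rfl⟩ := hxr
  obtain ⟨E, a, b, hE, hPf, ⟨eP⟩⟩ := hP
  haveI : IsIso (hW.fromSpec.stalkMap p) := inferInstance
  let e : (X.presheaf.stalk (hW.fromSpec.base p)) ≃+* ((Spec Γ(X, W)).presheaf.stalk p) :=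
    (asIso (hW.fromSpec.stalkMap p)).commRingCatIsoToRingEquiv
  let φ' : Γ(X, W) →+* X.presheaf.stalk (hW.fromSpec.base p) :=
    (e.symm : _ →+* _).comp (toOx Γ(X, W) p)
  letI alg : Algebra Γ(X, W) (X.presheaf.stalk (hW.fromSpec.base p)) := φ'.toAlgebra
  haveI hloc : IsLocalization (toPS Γ(X, W) p).asIdeal.primeCompl
      (X.presheaf.stalk (hW.fromSpec.base p)) := by
    letI alg' : Algebra Γ(X, W) (Ox p) := (toOx Γ(X, W) p).toAlgebra
    haveI : IsLocalization.AtPrime (Ox p) (toPS Γ(X, W) p).asIdeal := isLocalization_toOx Γ(X, W) p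
    exact IsLocalization.isLocalization_of_algEquiv (toPS Γ(X, W) p).asIdeal.primeCompl
      ({ e.symm with commutes' := fun _ => rfl } :
        (Ox p) ≃ₐ[Γ(X, W)] (X.presheaf.stalk (hW.fromSpec.base p)))
  have hfree : DRing.TermwiseFiniteFree E := fun i => by
    haveI := (hPf i).1
    haveI := (hPf i).2
    exact ⟨inferInstance, Module.free_of_flat_of_isLocalRing⟩
  obtain ⟨C, hC, hCf, ⟨eC⟩⟩ :=
    exists_descent (toPS Γ(X, W) p).asIdeal.primeCompl E a b hE hfree
  haveI := (Groth.Agent.S9498.aux Γ(X, W)).1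
  let G := ((tilde.functor Γ(X, W)).mapHomologicalComplex (ComplexShape.up ℤ)).obj C
  let F' := ((Scheme.Modules.pushforward hW.fromSpec).mapHomologicalComplex
    (ComplexShape.up ℤ)).obj G
  refine ⟨W, F', hxW, ?_, ?_⟩
  · refine Groth.Agent.Lib.H6xPerfSumm.isPerfect_of_local_perfect _ (fun y => ?_)
    refine ⟨Spec Γ(X, W), hW.isoSpec.inv, inferInstance, ⟨hW.isoSpec.hom.base y, ?_⟩, ?_⟩
    · rw [← Scheme.Hom.comp_apply, Iso.hom_inv_id]
      rfl
    obtain ⟨c⟩ := Groth.Agent.Lib.H6xPerf23.nonempty_restrictD_comp hW.isoSpec.inv W.ι hW.fromSpec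
      hW.isoSpec_inv_ι (DerivedCategory.Q.obj F')
    have i1 : (DCoh.restrictD W.ι).obj (DerivedCategory.Q.obj F') ≅
        DerivedCategory.Q.obj ((DCoh.restrictCx W).obj F') :=
      (Scheme.Modules.restrictFunctor W.ι).mapDerivedCategoryFactors.app F'
    have i2 : (DCoh.restrictD hW.fromSpec).obj (DerivedCategory.Q.obj F') ≅
        DerivedCategory.Q.obj (((Scheme.Modules.restrictFunctor hW.fromSpec).mapHomologicalComplex
          (ComplexShape.up ℤ)).obj F') :=
      (Scheme.Modules.restrictFunctor hW.fromSpec).mapDerivedCategoryFactors.app F'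
    have i3 : ((Scheme.Modules.restrictFunctor hW.fromSpec).mapHomologicalComplex
        (ComplexShape.up ℤ)).obj F' ≅ G :=
      HomologicalComplex.Hom.isoOfComponents
        (fun i => (Scheme.Modules.restrictFunctorAdjCounitIso hW.fromSpec).app (G.X i))
        (fun i j _ => ((Scheme.Modules.restrictFunctorAdjCounitIso hW.fromSpec).hom.naturality
          (G.d i j)).symm)
    have hG : DCoh.IsStrictlyPerfect G :=
      Groth.Agent.Lib.H6xTildePC.isStrictlyPerfect_tilde Γ(X, W) C a b hC
        (fun i => ⟨(hCf i).1, by haveI := (hCf i).2; infer_instance⟩)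
    exact Groth.Agent.Lib.H6xPerf23.isPerfect_of_iso
      (DerivedCategory.Q.mapIso i3.symm ≪≫ i2.symm ≪≫ c ≪≫
        (DCoh.restrictD hW.isoSpec.inv).mapIso i1)
      (Groth.Agent.Lib.H6xPerfAff.isPerfect_Q_of_isStrictlyPerfect G hG)
  · have i1 : ((DerSch.stalkFunctor X (hW.fromSpec.base p)).mapHomologicalComplex
        (ComplexShape.up ℤ)).obj F' ≅ (stalkC (hW.fromSpec.base p)).obj F' :=
      (NatIso.mapHomologicalComplex (stalkFunctorIso (hW.fromSpec.base p))
        (ComplexShape.up ℤ)).app F'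
    have i2 := stalkPushCIso hW.fromSpec hW.fromSpec.isOpenEmbedding.isInducing p G
    have i3 : (stalkC p).obj G ≅ (extC (toOx Γ(X, W) p)).obj C :=
      HomologicalComplex.Hom.isoOfComponents (fun i => (tildeStalkIso Γ(X, W) p).app (C.X i))
        (fun i j _ => ((tildeStalkIso Γ(X, W) p).hom.naturality (C.d i j)).symm)
    have i4 : (resC e.toRingHom).obj ((extC (toOx Γ(X, W) p)).obj C) ≅ (extC φ').obj C :=
      HomologicalComplex.Hom.isoOfComponents
        (fun i => (extResIso (toOx Γ(X, W) p) e).app (C.X i))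
        (fun i j _ => ((extResIso (toOx Γ(X, W) p) e).hom.naturality (C.d i j)).symm)
    exact ⟨DerivedCategory.Q.mapIso (i1 ≪≫ i2 ≪≫ (resC e.toRingHom).mapIso i3 ≪≫ i4 ≪≫ eC) ≪≫ eP⟩

end Groth.Agent.Lib.H6xSpread
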