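import Groth.Agent.Lib.Helper19Functor
import Groth.Agent.Lib.Helper19FibreProd
import Mathlib.LinearAlgebra.Dual.Lemmas

set_option autoImplicit false
universe u v

open CategoryTheory ArtFun ArtFun.Art

namespace Groth.Agent.Lib.H6xSqZeroCmp

open Groth.Agent.Lib.Helper19

variable {Λ : Type u} {k : Type u} [CommRing Λ] [Field k] [Algebra Λ k]

section Alg

variable {E : Art Λ k} (σ : base Λ k ⟶ E)

/-- The section as a ring hom `k →+* E`. -/
def secHom : k →+* E where
  toFun a := σ.toAlgHom a
  map_one' := map_one σ.toAlgHom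
  map_mul' a b := map_mul σ.toAlgHom a b
  map_zero' := map_zero σ.toAlgHom
  map_add' a b := map_add σ.toAlgHom a b

lemma res_secHom (a : k) : E.res (secHom σ a) = a := by
  have := Art.res_app σ a
  exact this

lemma secHom_algebraMap (r : Λ) : secHom σ (algebraMap Λ k r) = algebraMap Λ E r :=
  σ.toAlgHom.commutes r

lemma sub_sec_mem (e : E) : e - secHom σ (E.res e) ∈ IsLocalRing.maximalIdeal E := by
  rw [Art.mem_maximalIdeal_iff, map_sub, res_secHom, sub_self]

lemma mul_eq_zero_of_mem (hE : IsLocalRing.maximalIdeal E ^ 2 = ⊥) {x y : E}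
    (hx : x ∈ IsLocalRing.maximalIdeal E) (hy : y ∈ IsLocalRing.maximalIdeal E) : x * y = 0 := by
  have : x * y ∈ IsLocalRing.maximalIdeal E ^ 2 := by
    rw [pow_two]; exact Ideal.mul_mem_mul hx hy
  rwa [hE, Ideal.mem_bot] at this

/-- A functional `φ : E → k`, `k`-linear through the section, vanishing on the section and with `φ t = 1`. -/
theorem exists_functional {t : E} (ht0 : t ≠ 0) (ht : t ∈ IsLocalRing.maximalIdeal E) :
    ∃ φ : E →+ k, (∀ a e, φ (secHom σ a * e) = a * φ e) ∧ (∀ a, φ (secHom σ a) = 0) ∧ φ t = 1 := by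
  letI : Module k E := Module.compHom E (secHom σ)
  have hsmul : ∀ (a : k) (e : E), a • e = secHom σ a * e := fun _ _ => rfl
  obtain ⟨f, hf⟩ := Module.Projective.exists_dual_eq_one k ht0
  have hrest : E.res t = 0 := (Art.mem_maximalIdeal_iff E t).1 ht
  refine ⟨⟨⟨fun e => f (e - secHom σ (E.res e)), ?_⟩, ?_⟩, ?_, ?_, ?_⟩
  · simp
  · intro x y
    change f (x + y - secHom σ (E.res (x + y))) = f (x - secHom σ (E.res x)) + f (y - secHom σ (E.res y))
    rw [← map_add]
    congr 1
    rw [map_add, map_add]; ring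
  · intro a e
    change f (secHom σ a * e - secHom σ (E.res (secHom σ a * e))) = a * f (e - secHom σ (E.res e))
    rw [map_mul, res_secHom, map_mul, ← mul_sub, ← hsmul, map_smul, smul_eq_mul]
  · intro a
    change f (secHom σ a - secHom σ (E.res (secHom σ a))) = 0
    rw [res_secHom, sub_self, map_zero]
  · change f (t - secHom σ (E.res t)) = 1
    rw [hrest, map_zero, sub_zero, hf]

/-- The map `E → k[ε]`, `e ↦ (res e, φ e)`, for a functional `φ` as in `exists_functional`. -/
def toDual (hE : IsLocalRing.maximalIdeal E ^ 2 = ⊥) (φ : E →+ k)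
    (h1 : ∀ a e, φ (secHom σ a * e) = a * φ e) (h2 : ∀ a, φ (secHom σ a) = 0) : E ⟶ dual Λ k :=
  ⟨{ toFun := fun e => ((E.res e, φ e) : TrivSqZeroExt k k)
     map_one' := TrivSqZeroExt.ext (map_one E.res) (by
       change φ 1 = 0
       rw [← map_one (secHom σ), h2])
     map_mul' := fun x y => TrivSqZeroExt.ext (map_mul E.res x y) (by
       change φ (x * y) = E.res x • φ y + MulOpposite.op (E.res y) • φ x
       rw [op_smul_eq_smul, smul_eq_mul, smul_eq_mul]
       have hx : x = secHom σ (E.res x) + (x - secHom σ (E.res x)) := by ring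
       have hy : y = secHom σ (E.res y) + (y - secHom σ (E.res y)) := by ring
       have hxy : x * y = secHom σ (E.res x) * y + secHom σ (E.res y) * (x - secHom σ (E.res x)) := by
         have := mul_eq_zero_of_mem hE (sub_sec_mem σ x) (sub_sec_mem σ y)
         linear_combination this
       rw [hxy, map_add, h1, h1, map_sub, h2, sub_zero])
     map_zero' := TrivSqZeroExt.ext (map_zero E.res) (map_zero φ)
     map_add' := fun x y => TrivSqZeroExt.ext (map_add E.res x y) (map_add φ x y)
     commutes' := fun r => TrivSqZeroExt.ext (by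
         change E.res (algebraMap Λ E r) = (algebraMap Λ (TrivSqZeroExt k k) r).fst
         rw [TrivSqZeroExt.algebraMap_eq_inl', TrivSqZeroExt.fst_inl, AlgHom.commutes]) (by
         change φ (algebraMap Λ E r) = (algebraMap Λ (TrivSqZeroExt k k) r).snd
         rw [TrivSqZeroExt.algebraMap_eq_inl', TrivSqZeroExt.snd_inl, ← secHom_algebraMap σ, h2]) },
    AlgHom.ext fun _ => rfl⟩

lemma toDual_fst (hE : IsLocalRing.maximalIdeal E ^ 2 = ⊥) (φ : E →+ k)
    (h1 : ∀ a e, φ (secHom σ a * e) = a * φ e) (h2 : ∀ a, φ (secHom σ a) = 0) (e : E) :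
    TrivSqZeroExt.fst (toDual σ hE φ h1 h2 e) = E.res e := rfl

lemma toDual_snd (hE : IsLocalRing.maximalIdeal E ^ 2 = ⊥) (φ : E →+ k)
    (h1 : ∀ a e, φ (secHom σ a * e) = a * φ e) (h2 : ∀ a, φ (secHom σ a) = 0) (e : E) :
    TrivSqZeroExt.snd (toDual σ hE φ h1 h2 e) = φ e := rfl

lemma span_le_max {t : E} (ht : t ∈ IsLocalRing.maximalIdeal E) :
    Ideal.span {t} ≤ IsLocalRing.maximalIdeal E := by
  rw [Ideal.span_le]
  intro x hx
  rw [Set.mem_singleton_iff] at hx
  rw [hx]; exact ht

/-- `E` is the fibre product of `E/(t)` and `k[ε]` over `k`. -/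
theorem isFibreProd_toDual (hE : IsLocalRing.maximalIdeal E ^ 2 = ⊥) (φ : E →+ k)
    (h1 : ∀ a e, φ (secHom σ a * e) = a * φ e) (h2 : ∀ a, φ (secHom σ a) = 0)
    {t : E} (ht : t ∈ IsLocalRing.maximalIdeal E) (h3 : φ t = 1) :
    IsFibreProd (quotMk E (Ideal.span {t}) (span_le_max ht)) (toDual σ hE φ h1 h2)
      (toBase _) (toBase _) where
  w := (eq_toBase _).trans (eq_toBase _).symm
  inj e₁ e₂ he he' := by
    have hmem : e₁ - e₂ ∈ Ideal.span {t} := by
      rw [← quotMk_eq_zero_iff E _ (span_le_max ht)]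
      have := hom_map_sub (quotMk E (Ideal.span {t}) (span_le_max ht)) e₁ e₂
      rw [this, he, sub_self]
    obtain ⟨c, hc⟩ := Ideal.mem_span_singleton'.1 hmem
    have hφ : φ e₁ = φ e₂ := by
      have := congrArg TrivSqZeroExt.snd he'
      exact this
    have hct : c * t = secHom σ (E.res c) * t := by
      have := mul_eq_zero_of_mem hE (sub_sec_mem σ c) ht
      linear_combination this
    have hres : E.res c = 0 := by
      have h4 : φ (c * t) = 0 := by rw [hc, map_sub, hφ, sub_self]
      rw [hct, h1, h3, mul_one] at h4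
      exact h4
    have hc0 : c * t = 0 := by
      rw [hct, hres, map_zero, zero_mul]
    rw [hc0] at hc
    exact (sub_eq_zero.1 hc.symm)
  surj e' d hd := by
    obtain ⟨e₀, rfl⟩ := quotMk_surjective E (Ideal.span {t}) (span_le_max ht) e'
    have hd' : E.res e₀ = TrivSqZeroExt.fst d := by
      have h5 : (quot E (Ideal.span {t}) (span_le_max ht)).res
          (quotMk E (Ideal.span {t}) (span_le_max ht) e₀) = TrivSqZeroExt.fst d := hd
      rwa [Art.res_app] at h5
    have hrest : E.res t = 0 := (Art.mem_maximalIdeal_iff E t).1 ht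
    refine ⟨e₀ + secHom σ (TrivSqZeroExt.snd d - φ e₀) * t, ?_, ?_⟩
    · rw [hom_map_add]
      have : quotMk E (Ideal.span {t}) (span_le_max ht) (secHom σ (TrivSqZeroExt.snd d - φ e₀) * t) = 0 := by
        rw [quotMk_eq_zero_iff]
        exact Ideal.mul_mem_left _ _ (Ideal.subset_span rfl)
      rw [this, add_zero]
    · apply TrivSqZeroExt.ext
      · rw [toDual_fst, map_add, map_mul, hrest, mul_zero, add_zero, hd']
      · rw [toDual_snd, map_add, h1, h3, mul_one]; ring

end Alg

section Step

variable [Module.Finite Λ k] {F : Art Λ k ⥤ Type v}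

omit [Module.Finite Λ k] in
/-- If `toBase E` is bijective then the comparison map of `A ×_k E` is bijective. -/
theorem cmp_bijective_of_toBase_bijective {E : Art Λ k} (hb : Function.Bijective (toBase E))
    {B A : Art Λ k} (p' : B ⟶ A) (p'' : B ⟶ E)
    (h : IsFibreProd p' p'' (toBase A) (toBase E)) : Function.Bijective (cmp F h) := by
  haveI : IsIso (toBase E) := isIso_of_bijective _ hb
  haveI : IsIso p' := isIso_of_bijective p' (fibreProd_fst_bijective_of_bijective h hb)
  constructor
  · rw [cmp_injective_iff]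
    intro z z' e1 _
    have := congrArg (F.map (inv p')) e1
    rwa [map_inv_map, map_inv_map] at this
  · rw [cmp_surjective_iff]
    intro x' x'' hx
    refine ⟨F.map (inv p') x', map_map_inv F p' x', ?_⟩
    have e1 : inv p' ≫ p'' = toBase A ≫ inv (toBase E) := by
      rw [IsIso.inv_comp_eq, ← Category.assoc, IsIso.eq_comp_inv, h.w]
    rw [← map_comp_apply', e1, map_comp_apply', hx, map_inv_map]

/-- The inductive step: if `E = E' ×_k k[ε]` and the comparison maps for `E'` are bijective, so are those for `E`. -/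
theorem cmp_bijective_step (hF : Heps F) {E E' : Art Λ k} (q : E ⟶ E') (ψ : E ⟶ dual Λ k)
    (hfp : IsFibreProd q ψ (toBase E') (toBase (dual Λ k)))
    (IH : ∀ ⦃B A : Art Λ k⦄ (p' : B ⟶ A) (p'' : B ⟶ E')
      (h : IsFibreProd p' p'' (toBase A) (toBase E')), Function.Bijective (cmp F h))
    {B A : Art Λ k} (p' : B ⟶ A) (p'' : B ⟶ E)
    (h : IsFibreProd p' p'' (toBase A) (toBase E)) : Function.Bijective (cmp F h) := by
  have hsE' : Function.Surjective (toBase E') := E'.res_surjective
  have hD := isFibreProd_pullbackObj (toBase A) (toBase E') hsE'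
  set D := pullbackObj (toBase A) (toBase E') hsE'
  set d' := pullbackObjFst (toBase A) (toBase E') hsE'
  set d'' := pullbackObjSnd (toBase A) (toBase E') hsE'
  have w : p' ≫ toBase A = (p'' ≫ q) ≫ toBase E' := (eq_toBase _).trans (eq_toBase _).symm
  set l := fibreProdLift hD p' (p'' ≫ q) w
  have hl1 : l ≫ d' = p' := fibreProdLift_fst hD _ _ w
  have hl2 : l ≫ d'' = p'' ≫ q := fibreProdLift_snd hD _ _ w
  have hl1' : ∀ b, d' (l b) = p' b := fun b => by rw [← hl1]; rfl
  have hl2' : ∀ b, d'' (l b) = q (p'' b) := fun b => by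
    have := congrArg (fun f : B ⟶ E' => f b) hl2
    exact this
  have hB : IsFibreProd l (p'' ≫ ψ) (toBase D) (toBase (dual Λ k)) :=
    { w := (eq_toBase _).trans (eq_toBase _).symm
      inj := fun b₁ b₂ e1 e2 => by
        apply h.inj
        · rw [← hl1', ← hl1', e1]
        · apply hfp.inj
          · rw [← hl2', ← hl2', e1]
          · exact e2
      surj := fun d x hdx => by
        have e0 : (toBase E') (d'' d) = (toBase (dual Λ k)) x := by
          rw [← hD.w_apply]
          have : (d' ≫ toBase A) = toBase D := eq_toBase _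
          rw [← hdx, ← this]; rfl
        obtain ⟨e, he1, he2⟩ := hfp.surj (d'' d) x e0
        have e1 : (toBase A) (d' d) = (toBase E) e := by
          rw [hD.w_apply, ← he1]
          have : (q ≫ toBase E') = toBase E := eq_toBase _
          rw [← this]; rfl
        obtain ⟨b, hb1, hb2⟩ := h.surj (d' d) e e1
        refine ⟨b, hD.inj _ _ ?_ ?_, ?_⟩
        · rw [hl1', hb1]
        · rw [hl2', hb2, he1]
        · change ψ (p'' b) = x
          rw [hb2, he2] }
  have hbB := hF l (p'' ≫ ψ) hB
  have hbD := IH d' d'' hD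
  have hbE := hF q ψ hfp
  constructor
  · rw [cmp_injective_iff]
    intro z z' e1 e2
    apply (cmp_injective_iff F hB).1 hbB.1 z z'
    · apply (cmp_injective_iff F hD).1 hbD.1
      · rw [← map_comp_apply', ← map_comp_apply', hl1, e1]
      · rw [← map_comp_apply', ← map_comp_apply', hl2, map_comp_apply', map_comp_apply', e2]
    · rw [map_comp_apply', map_comp_apply', e2]
  · rw [cmp_surjective_iff]
    intro x y hxy
    have hq : q ≫ toBase E' = toBase E := eq_toBase _
    have hψ : ψ ≫ toBase (dual Λ k) = toBase E := eq_toBase _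
    have hd'A : d' ≫ toBase A = toBase D := eq_toBase _
    have hx1 : F.map (toBase A) x = F.map (toBase E') (F.map q y) := by
      rw [← map_comp_apply', hq, hxy]
    obtain ⟨wD, hw1, hw2⟩ := (cmp_surjective_iff F hD).1 hbD.2 x (F.map q y) hx1
    have hx2 : F.map (toBase D) wD = F.map (toBase (dual Λ k)) (F.map ψ y) := by
      rw [← map_comp_apply', hψ, ← hxy, ← hw1, ← map_comp_apply', hd'A]
    obtain ⟨z, hz1, hz2⟩ := (cmp_surjective_iff F hB).1 hbB.2 wD (F.map ψ y) hx2
    refine ⟨z, ?_, ?_⟩
    · rw [← hl1, map_comp_apply', hz1, hw1]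
    · apply (cmp_injective_iff F hfp).1 hbE.1
      · rw [← map_comp_apply', ← hl2, map_comp_apply', hz1, hw2]
      · rw [← map_comp_apply', hz2]

end Step

section Induction

variable [Module.Finite Λ k] {F : Art Λ k ⥤ Type v}

omit [Module.Finite Λ k] in
lemma toBase_bijective_of_max_eq_bot {E : Art Λ k} (h : IsLocalRing.maximalIdeal E = ⊥) :
    Function.Bijective (toBase E) := by
  refine ⟨?_, E.res_surjective⟩
  intro x y hxy
  have h1 : E.res (x - y) = 0 := by
    have : E.res x = E.res y := hxy
    rw [map_sub, this, sub_self]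
  have h2 : x - y ∈ IsLocalRing.maximalIdeal E := (Art.mem_maximalIdeal_iff E _).2 h1
  rw [h, Ideal.mem_bot] at h2
  exact sub_eq_zero.1 h2

omit [Module.Finite Λ k] in
lemma maximalIdeal_quot (E : Art Λ k) (K : Ideal E) (hK : K ≤ IsLocalRing.maximalIdeal E) :
    IsLocalRing.maximalIdeal (quot E K hK) =
      Ideal.map (quotMk E K hK).toAlgHom (IsLocalRing.maximalIdeal E) := by
  apply le_antisymm
  · intro y hy
    obtain ⟨b, hb, rfl⟩ := exists_mem_maximalIdeal_of_quot E K hK y hy
    exact Ideal.mem_map_of_mem _ hb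
  · rw [Ideal.map_le_iff_le_comap]
    intro b hb
    rw [Ideal.mem_comap]
    rw [Art.mem_maximalIdeal_iff] at hb ⊢
    have := Art.res_app (quotMk E K hK) b
    rw [← hb, ← this]

theorem cmp_bijective_aux (hF : Heps F) (n : ℕ) :
    ∀ (E : Art Λ k) (σ : base Λ k ⟶ E) (hE : IsLocalRing.maximalIdeal E ^ 2 = ⊥)
      (s : Finset E), s.card ≤ n → Ideal.span (s : Set E) = IsLocalRing.maximalIdeal E →
      ∀ ⦃B A : Art Λ k⦄ (p' : B ⟶ A) (p'' : B ⟶ E)
        (h : IsFibreProd p' p'' (toBase A) (toBase E)), Function.Bijective (cmp F h) := by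
  classical
  induction n with
  | zero =>
    intro E σ hE s hs hspan B A p' p'' h
    have hs0 : s = ∅ := Finset.card_eq_zero.1 (Nat.le_zero.1 hs)
    have hm : IsLocalRing.maximalIdeal E = ⊥ := by
      rw [← hspan, hs0]; simp
    exact cmp_bijective_of_toBase_bijective (toBase_bijective_of_max_eq_bot hm) p' p'' h
  | succ n ih =>
    intro E σ hE s hs hspan B A p' p'' h
    by_cases hm : IsLocalRing.maximalIdeal E = ⊥
    · exact cmp_bijective_of_toBase_bijective (toBase_bijective_of_max_eq_bot hm) p' p'' h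
    · have hex : ∃ t ∈ s, t ≠ 0 := by
        by_contra hcon
        push Not at hcon
        apply hm
        rw [← hspan, Ideal.span_eq_bot]
        intro x hx
        exact hcon x hx
      obtain ⟨t, hts, ht0⟩ := hex
      have ht : t ∈ IsLocalRing.maximalIdeal E := by
        rw [← hspan]; exact Ideal.subset_span hts
      obtain ⟨φ, h1, h2, h3⟩ := exists_functional σ ht0 ht
      have hfp := isFibreProd_toDual σ hE φ h1 h2 ht h3
      set K := Ideal.span {t}
      set q := quotMk E K (span_le_max ht)
      refine cmp_bijective_step hF q (toDual σ hE φ h1 h2) hfp ?_ p' p'' h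
      have hmax' := maximalIdeal_quot E K (span_le_max ht)
      refine ih (quot E K (span_le_max ht)) (σ ≫ q) ?_ ((s.erase t).image q) ?_ ?_
      · rw [hmax', ← Ideal.map_pow, hE, Ideal.map_bot]
      · refine (Finset.card_image_le).trans ?_
        rw [Finset.card_erase_of_mem hts]
        omega
      · rw [hmax', ← hspan, Ideal.map_span]
        have hs' : (s : Set E) = insert t ((s.erase t : Finset E) : Set E) := by
          rw [← Finset.coe_insert, Finset.insert_erase hts]
        rw [hs', Set.image_insert_eq]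
        have hqt : q.toAlgHom t = 0 := by
          have := (quotMk_eq_zero_iff E K (span_le_max ht) t).2 (Ideal.subset_span rfl)
          exact this
        rw [hqt, Ideal.span_insert_zero, Finset.coe_image]

/-- Main theorem: under `Heps`, comparison maps for `A ×_k E` with `E` a split square-zero extension of `k`
are bijective. -/
theorem cmp_bijective [IsNoetherianRing Λ] (hF : Heps F) {E : Art Λ k} (σ : base Λ k ⟶ E)
    (hE : IsLocalRing.maximalIdeal E ^ 2 = ⊥) ⦃B A : Art Λ k⦄ (p' : B ⟶ A) (p'' : B ⟶ E)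
    (h : IsFibreProd p' p'' (toBase A) (toBase E)) : Function.Bijective (cmp F h) := by
  haveI : IsNoetherianRing E := inferInstance
  obtain ⟨s, hs⟩ := (isNoetherianRing_iff_ideal_fg E).1 inferInstance (IsLocalRing.maximalIdeal E)
  exact cmp_bijective_aux hF s.card E σ hE s le_rfl hs p' p'' h

end Induction

end Groth.Agent.Lib.H6xSqZeroCmp
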