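import Mathlib
import Groth.Agent.Lib.H6xSuppPushD
import Groth.Prelude.Def_DDual2
set_option backward.isDefEq.respectTransparency.types false

/-!
# `Rj_*` and `j^*` between supported complexes on `X` and on a compactification (helper6)
-/

set_option autoImplicit false
set_option linter.style.haveILetI false
universe u
open CategoryTheory CategoryTheory.Limits AlgebraicGeometry TopologicalSpace Opposite ZeroObject

attribute [local instance] HasDerivedCategory.standard

namespace Groth.Agent.Lib.H6xSuppPush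

open Groth.Agent.Lib.H6xMV

variable {X Xbar : Scheme.{u}} (j : X ⟶ Xbar) [IsOpenImmersion j] (U : X.Opens) (U' T : Xbar.Opens)
  (hU' : (U' : Set Xbar) = (closure (j.base '' ((U : Set X)ᶜ)))ᶜ)
  (hT : (T : Set Xbar) = (U' : Set Xbar) ∪ Set.range j.base)
  [DCoh.HasRpush j] [CxOX.HasRgammaZ T.ι]

include hU' in
theorem part_a1 (F : DCoh.D X) (hF : CxOX.IsSuppD U.ι F) :
    CxOX.IsSuppD U'.ι ((DCoh.Rpush j).obj F) := by
  intro i
  have h := support_HD_Rpush' j U' ((U : Set X)ᶜ) (fun w hw => by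
    have h1 : (j ⁻¹ᵁ U').ι.base w ∈ ((j ⁻¹ᵁ U' : X.Opens) : Set X) := by
      rw [← Scheme.Opens.range_ι]; exact ⟨w, rfl⟩
    have h2 : j.base ((j ⁻¹ᵁ U').ι.base w) ∈ (U' : Set Xbar) := h1
    rw [hU'] at h2
    exact h2 (subset_closure ⟨_, hw, rfl⟩)) F (fun i => by
      have := hF i
      rwa [Scheme.Opens.range_ι] at this) i
  rwa [Scheme.Opens.range_ι]

include hT in
lemma range_subset_T : Set.range j.base ⊆ Set.range T.ι.base := by
  rw [Scheme.Opens.range_ι, hT]
  exact Set.subset_union_right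

/-- the factorisation of `j` through `T` -/
noncomputable def j' : X ⟶ (T : Scheme.{u}) :=
  IsOpenImmersion.lift T.ι j (range_subset_T j U' T hT)

lemma j'_fac : j' j U' T hT ≫ T.ι = j := IsOpenImmersion.lift_fac _ _ _

instance : IsOpenImmersion (j' j U' T hT) := by
  haveI : IsOpenImmersion (j' j U' T hT ≫ T.ι) := by rw [j'_fac]; infer_instance
  exact IsOpenImmersion.of_comp (j' j U' T hT) T.ι

include hT in
theorem part_a2 (F : DCoh.D X) :
    IsZero ((CxOX.RgammaZ T.ι).obj ((DCoh.Rpush j).obj F)) := by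
  obtain ⟨e⟩ := nonempty_Rpush_comp_iso_of_flat (j' j U' T hT) T.ι j (j'_fac j U' T hT) F
  exact IsZero.of_iso (isZero_RgammaZ_Rpush T.ι _) ((CxOX.RgammaZ T.ι).mapIso e)

include hU' hT in
theorem part_c1 (adj : DCoh.restrictD j ⊣ DCoh.Rpush j) (G : DCoh.D Xbar)
    (hG : CxOX.IsSuppD U'.ι G) (hz : IsZero ((CxOX.RgammaZ T.ι).obj G)) :
    IsIso (adj.unit.app G) := by
  obtain ⟨e1⟩ := nonempty_iso_Rpush_of_isZero_RgammaZ T.ι G hz
  let T₀ : Set (T : Scheme.{u}) := T.ι.base ⁻¹' (closure (j.base '' ((U : Set X)ᶜ)))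
  have hT₀ : IsClosed T₀ := isClosed_closure.preimage T.ι.base.hom.continuous
  have hsub : T₀ ⊆ Set.range (j' j U' T hT).base := by
    intro t ht
    have h1 : T.ι.base t ∈ (T : Set Xbar) := by
      rw [← Scheme.Opens.range_ι]; exact ⟨t, rfl⟩
    rw [hT, hU'] at h1
    rcases h1 with h1 | ⟨x, hx⟩
    · exact absurd ht h1
    · refine ⟨x, ?_⟩
      apply T.ι.isOpenEmbedding.injective
      rw [← hx, ← Scheme.Hom.comp_apply, j'_fac]
  have hsupp : ∀ i : ℤ, CohB1.support (DCoh.HD ((DCoh.restrictD T.ι).obj G) i) ⊆ T₀ := by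
    intro i t ht
    rw [mem_support_HD_restrictD_iff] at ht
    have h2 := hG i ht
    rw [Scheme.Opens.range_ι, hU', compl_compl] at h2
    exact h2
  obtain ⟨e2⟩ := part1' (j' j U' T hT) T₀ hT₀ hsub _ hsupp
  obtain ⟨e3⟩ := nonempty_Rpush_comp_iso_of_flat (j' j U' T hT) T.ι j (j'_fac j U' T hT)
    ((DCoh.restrictD (j' j U' T hT)).obj ((DCoh.restrictD T.ι).obj G))
  exact isIso_unit_app_of_iso j adj (e1 ≪≫ (DCoh.Rpush T.ι).mapIso e2 ≪≫ e3.symm)

theorem part_c2 (G : DCoh.D Xbar) (hG : DCoh.IsQCohD G) :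
    DCoh.IsQCohD ((DCoh.restrictD j).obj G) := by
  intro i
  obtain ⟨e2⟩ := nonempty_homology_mapDerivedCategory_iso
    (Scheme.Modules.restrictFunctor j) G i
  haveI : (DCoh.HD G i).IsQuasicoherent := hG i
  exact (SheafOfModules.isQuasicoherent.{u} X.ringCatSheaf).prop_of_iso e2.symm
    (inferInstanceAs (((Scheme.Modules.restrictFunctor j).obj (DCoh.HD G i)).IsQuasicoherent))

include hU' in
theorem part_c3 (G : DCoh.D Xbar) (hG : CxOX.IsSuppD U'.ι G) :
    CxOX.IsSuppD U.ι ((DCoh.restrictD j).obj G) := by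
  intro i x hx
  rw [mem_support_HD_restrictD_iff] at hx
  have h2 := hG i hx
  rw [Scheme.Opens.range_ι, hU', compl_compl] at h2
  rw [Scheme.Opens.range_ι]
  have h3 : x ∈ closure ((U : Set X)ᶜ) := by
    rw [j.isOpenEmbedding.isInducing.closure_eq_preimage_closure_image]
    exact h2
  rwa [U.isOpen.isClosed_compl.closure_eq] at h3

end Groth.Agent.Lib.H6xSuppPush
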