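import Mathlib

set_option autoImplicit false

/-! Algebraic preliminaries for T-points on cubic surfaces:
* polynomial functions of one parameter (`PolyFun`);
* homogeneous polynomials of degree one evaluate linearly;
* the two minors detecting `q ∣ c` for a binary quadric `q` and a binary cubic `c`, and their
  vanishing when `x₀ q + c` is a product of three linear forms. -/

namespace Groth.Agent.Lib.H6xTPoint

open MvPolynomial

section polyfun

variable {K : Type*} [Field K]

/-- `φ` is a polynomial function of one variable. -/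
def PolyFun (φ : K → K) : Prop := ∃ P : Polynomial K, ∀ τ, φ τ = P.eval τ

theorem PolyFun.const (c : K) : PolyFun (fun _ : K => c) := ⟨Polynomial.C c, fun τ => by simp⟩

theorem PolyFun.id : PolyFun (fun τ : K => τ) := ⟨Polynomial.X, fun τ => by simp⟩

theorem PolyFun.add {φ ψ : K → K} (h1 : PolyFun φ) (h2 : PolyFun ψ) :
    PolyFun (fun τ => φ τ + ψ τ) := by
  obtain ⟨P, hP⟩ := h1
  obtain ⟨R, hR⟩ := h2
  exact ⟨P + R, fun τ => by simp only [hP, hR, Polynomial.eval_add]⟩

theorem PolyFun.mul {φ ψ : K → K} (h1 : PolyFun φ) (h2 : PolyFun ψ) :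
    PolyFun (fun τ => φ τ * ψ τ) := by
  obtain ⟨P, hP⟩ := h1
  obtain ⟨R, hR⟩ := h2
  exact ⟨P * R, fun τ => by simp only [hP, hR, Polynomial.eval_mul]⟩

theorem PolyFun.neg {φ : K → K} (h1 : PolyFun φ) : PolyFun (fun τ => - φ τ) := by
  obtain ⟨P, hP⟩ := h1
  exact ⟨-P, fun τ => by simp only [hP, Polynomial.eval_neg]⟩

theorem PolyFun.sub {φ ψ : K → K} (h1 : PolyFun φ) (h2 : PolyFun ψ) :
    PolyFun (fun τ => φ τ - ψ τ) := by
  obtain ⟨P, hP⟩ := h1
  obtain ⟨R, hR⟩ := h2
  exact ⟨P - R, fun τ => by simp only [hP, hR, Polynomial.eval_sub]⟩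

theorem PolyFun.pow {φ : K → K} (h1 : PolyFun φ) (n : ℕ) : PolyFun (fun τ => φ τ ^ n) := by
  obtain ⟨P, hP⟩ := h1
  exact ⟨P ^ n, fun τ => by simp only [hP, Polynomial.eval_pow]⟩

theorem PolyFun.congr {φ ψ : K → K} (h1 : PolyFun φ) (h : ∀ τ, ψ τ = φ τ) : PolyFun ψ := by
  obtain ⟨P, hP⟩ := h1
  exact ⟨P, fun τ => by rw [h, hP]⟩

theorem PolyFun.sum {ι : Type*} (s : Finset ι) {φ : ι → K → K} (h : ∀ i ∈ s, PolyFun (φ i)) :
    PolyFun (fun τ => ∑ i ∈ s, φ i τ) := by
  classical
  induction s using Finset.induction_on with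
  | empty => simpa using PolyFun.const (0 : K)
  | insert i s hi ih =>
    have h1 := h i (Finset.mem_insert_self i s)
    have h2 := ih fun j hj => h j (Finset.mem_insert_of_mem hj)
    have := h1.add h2
    exact this.congr fun τ => Finset.sum_insert hi

/-- evaluating a multivariate polynomial along a polynomial curve. -/
theorem PolyFun.mvEval {σ : Type*} (P : MvPolynomial σ K) {g : σ → K → K}
    (hg : ∀ i, PolyFun (g i)) : PolyFun (fun τ => eval (fun i => g i τ) P) := by
  choose G hG using hg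
  refine ⟨aeval G P, fun τ => ?_⟩
  have h1 : (fun i => g i τ) = fun i => (G i).eval τ := funext fun i => hG i τ
  show eval (fun i => g i τ) P = _
  rw [h1]
  have h2 : (Polynomial.evalRingHom τ).comp (aeval G).toRingHom =
      (eval fun i => (G i).eval τ) := by
    apply MvPolynomial.ringHom_ext
    · intro c; simp
    · intro i; simp
  have := congrArg (fun φ : MvPolynomial σ K →+* K => φ P) h2
  simpa using this.symm

theorem PolyFun.eq_zero_of_infinite {φ : K → K} (h1 : PolyFun φ) (S : Set K) (hS : S.Infinite)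
    (h : ∀ τ ∈ S, φ τ = 0) : ∀ τ, φ τ = 0 := by
  obtain ⟨P, hP⟩ := h1
  have hP0 : P = 0 := by
    apply Polynomial.eq_zero_of_infinite_isRoot
    refine hS.mono fun τ hτ => ?_
    show P.IsRoot τ
    rw [Polynomial.IsRoot, ← hP, h τ hτ]
  intro τ
  rw [hP, hP0, Polynomial.eval_zero]

/-- polynomial curves in `σ → K`. -/
def PolyVec {σ : Type*} (h : K → σ → K) : Prop := ∀ i, PolyFun (fun τ => h τ i)

theorem PolyVec.const {σ : Type*} (v : σ → K) : PolyVec (fun _ : K => v) :=
  fun i => PolyFun.const (v i)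

theorem PolyVec.add {σ : Type*} {h g : K → σ → K} (h1 : PolyVec h) (h2 : PolyVec g) :
    PolyVec (fun τ => h τ + g τ) := fun i => (h1 i).add (h2 i)

theorem PolyVec.sub {σ : Type*} {h g : K → σ → K} (h1 : PolyVec h) (h2 : PolyVec g) :
    PolyVec (fun τ => h τ - g τ) := fun i => (h1 i).sub (h2 i)

theorem PolyVec.smul {σ : Type*} {φ : K → K} {g : K → σ → K} (h1 : PolyFun φ) (h2 : PolyVec g) :
    PolyVec (fun τ => φ τ • g τ) := fun i => h1.mul (h2 i)

theorem PolyFun.mvEval' {σ : Type*} (P : MvPolynomial σ K) {g : K → σ → K}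
    (hg : PolyVec g) : PolyFun (fun τ => eval (g τ) P) :=
  PolyFun.mvEval P hg

end polyfun

section linear

variable {K : Type*} [Field K]

/-- a homogeneous polynomial of degree one evaluates linearly. -/
theorem exists_linear_of_isHomogeneous_one {σ : Type*} [Fintype σ] (L : MvPolynomial σ K)
    (hL : L.IsHomogeneous 1) : ∃ l : (σ → K) →ₗ[K] K, ∀ u, eval u L = l u := by
  have h1 : L ∈ homogeneousSubmodule σ K 1 := hL
  rw [homogeneousSubmodule_one_eq_span_X] at h1
  obtain ⟨c, hc⟩ := (Submodule.mem_span_range_iff_exists_fun K).mp h1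
  refine ⟨∑ i, c i • LinearMap.proj i, fun u => ?_⟩
  rw [← hc]
  simp [smul_eval]

end linear

section minors

variable {K : Type*} [Field K]

/-- minor (columns 0,2,3) of the matrix with rows `x q`, `y q`, `c`. -/
def minorA (q0 q1 q2 c0 c2 c3 : K) : K := q0 * q1 * c3 - q0 * q2 * c2 + q2 ^ 2 * c0

/-- minor (columns 1,2,3) of the matrix with rows `x q`, `y q`, `c`. -/
def minorB (q0 q1 q2 c1 c2 c3 : K) : K :=
  q1 ^ 2 * c3 - q1 * q2 * c2 - q0 * q2 * c3 + q2 ^ 2 * c1

theorem minors_aux (α1 β1 γ1 α2 β2 γ2 β3 γ3 q0 q1 q2 c0 c1 c2 c3 : K)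
    (e210 : α1 * α2 * β3 = 0) (e201 : α1 * α2 * γ3 = 0)
    (e120 : q0 = α1 * β2 * β3 + β1 * α2 * β3)
    (e111 : q1 = α1 * (β2 * γ3 + γ2 * β3) + α2 * (β1 * γ3 + γ1 * β3))
    (e102 : q2 = α1 * γ2 * γ3 + α2 * γ1 * γ3)
    (e030 : c0 = β1 * β2 * β3)
    (e021 : c1 = β1 * β2 * γ3 + β1 * γ2 * β3 + γ1 * β2 * β3)
    (e012 : c2 = β1 * γ2 * γ3 + γ1 * β2 * γ3 + γ1 * γ2 * β3)
    (e003 : c3 = γ1 * γ2 * γ3) :
    minorA q0 q1 q2 c0 c2 c3 = 0 ∧ minorB q0 q1 q2 c1 c2 c3 = 0 := by
  subst e120 e111 e102 e030 e021 e012 e003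
  unfold minorA minorB
  by_cases h12 : α1 * α2 = 0
  · rcases mul_eq_zero.mp h12 with h | h
    · subst h
      constructor <;> ring
    · subst h
      constructor <;> ring
  · have hb : β3 = 0 := (mul_eq_zero.mp e210).resolve_left h12
    have hc : γ3 = 0 := (mul_eq_zero.mp e201).resolve_left h12
    subst hb hc
    constructor <;> ring

theorem minors_of_factorization [CharZero K] (q0 q1 q2 c0 c1 c2 c3 α1 β1 γ1 α2 β2 γ2 α3 β3 γ3 : K)
    (h : ∀ x0 x y : K, x0 * (q0 * x ^ 2 + q1 * x * y + q2 * y ^ 2) +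
      (c0 * x ^ 3 + c1 * x ^ 2 * y + c2 * x * y ^ 2 + c3 * y ^ 3) =
      (α1 * x0 + β1 * x + γ1 * y) * (α2 * x0 + β2 * x + γ2 * y) * (α3 * x0 + β3 * x + γ3 * y)) :
    minorA q0 q1 q2 c0 c2 c3 = 0 ∧ minorB q0 q1 q2 c1 c2 c3 = 0 := by
  have e300 : α1 * α2 * α3 = 0 := by linear_combination (-1 : K) * h 1 0 0
  have e210 : α1 * α2 * β3 + α1 * β2 * α3 + β1 * α2 * α3 = 0 := by
    linear_combination h 0 1 0 - (1 / 2 : K) * h 1 1 0 + (1 / 2 : K) * h 1 (-1) 0
  have e201 : α1 * α2 * γ3 + α1 * γ2 * α3 + γ1 * α2 * α3 = 0 := by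
    linear_combination h 0 0 1 - (1 / 2 : K) * h 1 0 1 + (1 / 2 : K) * h 1 0 (-1)
  have e120 : q0 = α1 * β2 * β3 + β1 * α2 * β3 + β1 * β2 * α3 := by
    linear_combination (-1 : K) * h 1 0 0 + (1 / 2 : K) * h 1 1 0 + (1 / 2 : K) * h 1 (-1) 0
  have e111 : q1 = α1 * (β2 * γ3 + γ2 * β3) + α2 * (β1 * γ3 + γ1 * β3) +
      α3 * (β1 * γ2 + γ1 * β2) := by
    linear_combination h 1 0 0 + h 0 1 0 + h 0 0 1 - h 1 1 0 - h 1 0 1 - h 0 1 1 + h 1 1 1
  have e102 : q2 = α1 * γ2 * γ3 + γ1 * α2 * γ3 + γ1 * γ2 * α3 := by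
    linear_combination (-1 : K) * h 1 0 0 + (1 / 2 : K) * h 1 0 1 + (1 / 2 : K) * h 1 0 (-1)
  have e030 : c0 = β1 * β2 * β3 := by linear_combination h 0 1 0
  have e021 : c1 = β1 * β2 * γ3 + β1 * γ2 * β3 + γ1 * β2 * β3 := by
    linear_combination (-1 : K) * h 0 0 1 + (1 / 2 : K) * h 0 1 1 - (1 / 2 : K) * h 0 1 (-1)
  have e012 : c2 = β1 * γ2 * γ3 + γ1 * β2 * γ3 + γ1 * γ2 * β3 := by
    linear_combination (-1 : K) * h 0 1 0 + (1 / 2 : K) * h 0 1 1 + (1 / 2 : K) * h 0 1 (-1)
  have e003 : c3 = γ1 * γ2 * γ3 := by linear_combination h 0 0 1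
  rcases mul_eq_zero.mp e300 with h12 | h3
  · rcases mul_eq_zero.mp h12 with h1 | h2
    · subst h1
      exact minors_aux α2 β2 γ2 α3 β3 γ3 β1 γ1 q0 q1 q2 c0 c1 c2 c3
        (by linear_combination e210) (by linear_combination e201)
        (by linear_combination e120) (by linear_combination e111) (by linear_combination e102)
        (by linear_combination e030) (by linear_combination e021) (by linear_combination e012)
        (by linear_combination e003)
    · subst h2
      exact minors_aux α1 β1 γ1 α3 β3 γ3 β2 γ2 q0 q1 q2 c0 c1 c2 c3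
        (by linear_combination e210) (by linear_combination e201)
        (by linear_combination e120) (by linear_combination e111) (by linear_combination e102)
        (by linear_combination e030) (by linear_combination e021) (by linear_combination e012)
        (by linear_combination e003)
  · subst h3
    exact minors_aux α1 β1 γ1 α2 β2 γ2 β3 γ3 q0 q1 q2 c0 c1 c2 c3
      (by linear_combination e210) (by linear_combination e201)
      (by linear_combination e120) (by linear_combination e111) (by linear_combination e102)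
      (by linear_combination e030) (by linear_combination e021) (by linear_combination e012)
      (by linear_combination e003)

end minors

end Groth.Agent.Lib.H6xTPoint
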