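import Groth.Agent.Lib.H6xTPointA
import Groth.Agent.Lib.H6xCubicPolarB

set_option autoImplicit false

/-! T-points of cubic surfaces: the T-point condition is cut out by polynomial equations in the
point (`Phi_eq_zero_of_tp`), hence T-points on a polynomial curve through a non-T-point are
finite in number (`finite_family`). -/

namespace Groth.Agent.Lib.H6xTPoint

open MvPolynomial Groth.Agent.Lib.H6xCubicForm Groth.Agent.Lib.H6xNodalCubic
  Groth.Agent.Lib.H6xCubicSing Groth.Agent.Lib.H6xCubicPolar Module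

section frame

variable {K : Type*} [Field K] [CharZero K]
  (f : MvPolynomial (Fin 4) K) (hf : f.IsHomogeneous 3)

include hf in
/-- the cubic restricted to a plane through a point `b` of the surface, contained in the
tangent plane at `b`. -/
theorem restrict_expansion (b : Fin 4 → K) (hFb : eval b f = 0) (u1 u2 : Fin 4 → K)
    (h1 : D f b u1 = 0) (h2 : D f b u2 = 0) (x0 x y : K) :
    eval (x0 • b + (x • u1 + y • u2)) f =
      x0 * (Q f b u1 * x ^ 2 + B f b u1 u2 * x * y + Q f b u2 * y ^ 2) +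
      (eval u1 f * x ^ 3 + D f u1 u2 * x ^ 2 * y + D f u2 u1 * x * y ^ 2 + eval u2 f * y ^ 3) := by
  have hD : D f b (x • u1 + y • u2) = 0 := by
    rw [D_add_right, D_smul_right, D_smul_right, h1, h2]; ring
  rw [taylor f hf b hFb, hD, Q_add f hf, Q_smul f hf, Q_smul f hf, B_smul_left, B_smul_right,
    eval_add hf, eval_smul hf, eval_smul hf, D_smul_left hf, D_smul_right, D_smul_left hf,
    D_smul_right]
  ring

variable (e1 e2 e3 : Fin 4 → K)

/-- first tangent vector at `b`, polynomial in `b` -/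
noncomputable def w1 (b : Fin 4 → K) : Fin 4 → K := D f b e3 • e1 + (-D f b e1) • e3

/-- second tangent vector at `b`, polynomial in `b` -/
noncomputable def w2 (b : Fin 4 → K) : Fin 4 → K := D f b e3 • e2 + (-D f b e2) • e3

theorem D_w1 (b : Fin 4 → K) : D f b (w1 f e1 e3 b) = 0 := by
  rw [w1, D_add_right, D_smul_right, D_smul_right]; ring

theorem D_w2 (b : Fin 4 → K) : D f b (w2 f e2 e3 b) = 0 := by
  rw [w2, D_add_right, D_smul_right, D_smul_right]; ring

/-- first polynomial condition for T-points -/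
noncomputable def PhiA (b : Fin 4 → K) : K :=
  minorA (Q f b (w1 f e1 e3 b)) (B f b (w1 f e1 e3 b) (w2 f e2 e3 b)) (Q f b (w2 f e2 e3 b))
    (eval (w1 f e1 e3 b) f) (D f (w2 f e2 e3 b) (w1 f e1 e3 b)) (eval (w2 f e2 e3 b) f)

/-- second polynomial condition for T-points -/
noncomputable def PhiB (b : Fin 4 → K) : K :=
  minorB (Q f b (w1 f e1 e3 b)) (B f b (w1 f e1 e3 b) (w2 f e2 e3 b)) (Q f b (w2 f e2 e3 b))
    (D f (w1 f e1 e3 b) (w2 f e2 e3 b)) (D f (w2 f e2 e3 b) (w1 f e1 e3 b))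
    (eval (w2 f e2 e3 b) f)

include hf in
/-- at a T-point both polynomial conditions hold. -/
theorem Phi_eq_zero_of_tp (b : Fin 4 → K) (hFb : eval b f = 0)
    (L₁ L₂ L₃ : MvPolynomial (Fin 4) K) (hL1 : L₁.IsHomogeneous 1) (hL2 : L₂.IsHomogeneous 1)
    (hL3 : L₃.IsHomogeneous 1)
    (hmem : f - L₁ * L₂ * L₃ ∈ Ideal.span {linpoly (Dlin f b)}) :
    PhiA f e1 e2 e3 b = 0 ∧ PhiB f e1 e2 e3 b = 0 := by
  obtain ⟨l1, hl1⟩ := exists_linear_of_isHomogeneous_one L₁ hL1
  obtain ⟨l2, hl2⟩ := exists_linear_of_isHomogeneous_one L₂ hL2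
  obtain ⟨l3, hl3⟩ := exists_linear_of_isHomogeneous_one L₃ hL3
  obtain ⟨g, hg⟩ := Ideal.mem_span_singleton.mp hmem
  have hev : ∀ u, D f b u = 0 → eval u f = l1 u * l2 u * l3 u := by
    intro u hu
    have := congrArg (eval u) hg
    rw [map_sub, map_mul, map_mul, map_mul, eval_linpoly, hl1, hl2, hl3] at this
    have hu' : Dlin f b u = 0 := hu
    rw [hu', zero_mul] at this
    linear_combination this
  have hbb : D f b b = 0 := by rw [D_self hf, hFb, mul_zero]
  unfold PhiA PhiB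
  apply minors_of_factorization _ _ _ _ _ _ _ (l1 b) (l1 (w1 f e1 e3 b)) (l1 (w2 f e2 e3 b))
    (l2 b) (l2 (w1 f e1 e3 b)) (l2 (w2 f e2 e3 b)) (l3 b) (l3 (w1 f e1 e3 b))
    (l3 (w2 f e2 e3 b))
  intro x0 x y
  rw [← restrict_expansion f hf b hFb _ _ (D_w1 f e1 e3 b) (D_w2 f e2 e3 b)]
  have hD : D f b (x0 • b + (x • w1 f e1 e3 b + y • w2 f e2 e3 b)) = 0 := by
    rw [D_add_right, D_add_right, D_smul_right, D_smul_right, D_smul_right, hbb, D_w1, D_w2]
    ring
  rw [hev _ hD]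
  simp only [map_add, map_smul, smul_eq_mul]
  ring

section poly

variable {f}

theorem polyFun_D {x v : K → Fin 4 → K} (hx : PolyVec x) (hv : PolyVec v) :
    PolyFun (fun τ => D f (x τ) (v τ)) := by
  unfold D
  exact PolyFun.sum _ fun i _ => (hv i).mul (PolyFun.mvEval' _ hx)

theorem polyFun_T {x y w : K → Fin 4 → K} (hx : PolyVec x) (hy : PolyVec y) (hw : PolyVec w) :
    PolyFun (fun τ => T f (x τ) (y τ) (w τ)) := by
  unfold T
  exact PolyFun.sum _ fun i _ => PolyFun.sum _ fun j _ =>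
    ((hy i).mul (hw j)).mul (PolyFun.mvEval' _ hx)

theorem polyVec_w1 {h : K → Fin 4 → K} (hh : PolyVec h) :
    PolyVec (fun τ => w1 f e1 e3 (h τ)) := by
  unfold w1
  exact PolyVec.add (PolyVec.smul (polyFun_D hh (PolyVec.const e3)) (PolyVec.const e1))
    (PolyVec.smul (polyFun_D hh (PolyVec.const e1)).neg (PolyVec.const e3))

theorem polyVec_w2 {h : K → Fin 4 → K} (hh : PolyVec h) :
    PolyVec (fun τ => w2 f e2 e3 (h τ)) := by
  unfold w2
  exact PolyVec.add (PolyVec.smul (polyFun_D hh (PolyVec.const e3)) (PolyVec.const e2))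
    (PolyVec.smul (polyFun_D hh (PolyVec.const e2)).neg (PolyVec.const e3))

theorem polyFun_PhiA {h : K → Fin 4 → K} (hh : PolyVec h) :
    PolyFun (fun τ => PhiA f e1 e2 e3 (h τ)) := by
  have p1 := polyVec_w1 (f := f) e1 e3 hh
  have p2 := polyVec_w2 (f := f) e2 e3 hh
  unfold PhiA minorA Q B
  exact (((polyFun_D p1 hh).mul (polyFun_T hh p1 p2)).mul (PolyFun.mvEval' f p2)).sub
    (((polyFun_D p1 hh).mul (polyFun_D p2 hh)).mul (polyFun_D p2 p1)) |>.add
    (((polyFun_D p2 hh).pow 2).mul (PolyFun.mvEval' f p1))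

theorem polyFun_PhiB {h : K → Fin 4 → K} (hh : PolyVec h) :
    PolyFun (fun τ => PhiB f e1 e2 e3 (h τ)) := by
  have p1 := polyVec_w1 (f := f) e1 e3 hh
  have p2 := polyVec_w2 (f := f) e2 e3 hh
  unfold PhiB minorB Q B
  exact (((((polyFun_T hh p1 p2).pow 2).mul (PolyFun.mvEval' f p2)).sub
    (((polyFun_T hh p1 p2).mul (polyFun_D p2 hh)).mul (polyFun_D p2 p1))).sub
    (((polyFun_D p1 hh).mul (polyFun_D p2 hh)).mul (PolyFun.mvEval' f p2))).add
    (((polyFun_D p2 hh).pow 2).mul (polyFun_D p1 p2))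

end poly

/-- T-points on a polynomial curve through a point `a` where the polynomial conditions fail
are finite in number. -/
theorem finite_family (a : Fin 4 → K) (hna : ¬ (PhiA f e1 e2 e3 a = 0 ∧ PhiB f e1 e2 e3 a = 0))
    (tp : (Fin 4 → K) → Prop)
    (htp : ∀ b, tp b → PhiA f e1 e2 e3 b = 0 ∧ PhiB f e1 e2 e3 b = 0)
    (h : K → Fin 4 → K) (hh : PolyVec h) (τ0 : K) (h0 : h τ0 = a) :
    Set.Finite {U : Submodule K (Fin 4 → K) | finrank K U = 1 ∧ (∀ b ∈ U, b ≠ 0 → tp b) ∧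
      ∃ τ, h τ ≠ 0 ∧ h τ ∈ U} := by
  have hS : Set.Finite {τ : K | h τ ≠ 0 ∧ tp (h τ)} := by
    by_contra hinf
    have hinf' : Set.Infinite {τ : K | h τ ≠ 0 ∧ tp (h τ)} := hinf
    apply hna
    rw [← h0]
    exact ⟨(polyFun_PhiA e1 e2 e3 hh).eq_zero_of_infinite _ hinf'
        (fun τ hτ => (htp _ hτ.2).1) τ0,
      (polyFun_PhiB e1 e2 e3 hh).eq_zero_of_infinite _ hinf'
        (fun τ hτ => (htp _ hτ.2).2) τ0⟩
  refine (hS.image fun τ => Submodule.span K {h τ}).subset ?_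
  rintro U ⟨hU1, hUtp, τ, hτ0, hτU⟩
  refine ⟨τ, ⟨hτ0, hUtp _ hτU hτ0⟩, ?_⟩
  show Submodule.span K {h τ} = U
  have hle : Submodule.span K {h τ} ≤ U := by
    rw [Submodule.span_le]
    rintro z rfl
    exact hτU
  haveI : FiniteDimensional K U := Module.finite_of_finrank_eq_succ hU1
  exact Submodule.eq_of_le_of_finrank_eq hle (by rw [finrank_span_singleton hτ0, hU1])

end frame

end Groth.Agent.Lib.H6xTPoint
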