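import Groth.Agent.Lib.Helper19Tangent
import Mathlib.Algebra.Group.MinimalAxioms
import Mathlib.Algebra.Module.MinimalAxioms

/-!
helper6: construction of the vector space structure on the tangent space `F(k[ε])` of a functor of
Artin rings satisfying `H0` and `Heps`.
-/

set_option autoImplicit false
universe u v

open CategoryTheory ArtFun ArtFun.Art

namespace Groth.Agent.Lib.H6xTangentStr

open Groth.Agent.Lib.Helper19

section Objects

variable (Λ : Type u) (k : Type u) [CommRing Λ] [Field k] [Algebra Λ k]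

/-- `k[ε₁, ε₂, ε₃]`. -/
def dual3 : Art Λ k :=
  { carrier := TrivSqZeroExt k ((k × k) × k)
    isLocalRing := isLocalRing_tsze k ((k × k) × k)
    isArtinianRing := isArtinianRing_tsze k ((k × k) × k)
    res := TrivSqZeroExt.fstHom Λ k ((k × k) × k)
    res_surjective := fun a => ⟨TrivSqZeroExt.inl a, rfl⟩ }

variable {Λ k}

def q₁₂ : dual3 Λ k ⟶ dual2 Λ k := ⟨tszeMap (LinearMap.fst k (k × k) k), AlgHom.ext fun _ => rfl⟩

def q₃ : dual3 Λ k ⟶ dual Λ k := ⟨tszeMap (LinearMap.snd k (k × k) k), AlgHom.ext fun _ => rfl⟩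

def q₂₃ : dual3 Λ k ⟶ dual2 Λ k :=
  ⟨tszeMap ((LinearMap.snd k k k ∘ₗ LinearMap.fst k (k × k) k).prod (LinearMap.snd k (k × k) k)),
    AlgHom.ext fun _ => rfl⟩

def aMap : dual3 Λ k ⟶ dual2 Λ k :=
  ⟨tszeMap (((LinearMap.fst k k k + LinearMap.snd k k k) ∘ₗ LinearMap.fst k (k × k) k).prod
    (LinearMap.snd k (k × k) k)), AlgHom.ext fun _ => rfl⟩

def bMap : dual3 Λ k ⟶ dual2 Λ k :=
  ⟨tszeMap ((LinearMap.fst k k k ∘ₗ LinearMap.fst k (k × k) k).prod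
    ((LinearMap.snd k k k ∘ₗ LinearMap.fst k (k × k) k) + LinearMap.snd k (k × k) k)),
    AlgHom.ext fun _ => rfl⟩

def swapMap : dual2 Λ k ⟶ dual2 Λ k :=
  ⟨tszeMap ((LinearMap.snd k k k).prod (LinearMap.fst k k k)), AlgHom.ext fun _ => rfl⟩

def i₂ : dual Λ k ⟶ dual2 Λ k := ⟨tszeMap (LinearMap.inr k k k), AlgHom.ext fun _ => rfl⟩

def δMap : dual Λ k ⟶ dual2 Λ k :=
  ⟨tszeMap ((LinearMap.id : k →ₗ[k] k).prod (-(LinearMap.id : k →ₗ[k] k))), AlgHom.ext fun _ => rfl⟩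

def scale₂ (c : k) : dual2 Λ k ⟶ dual2 Λ k :=
  ⟨tszeMap (c • (LinearMap.id : (k × k) →ₗ[k] (k × k))), AlgHom.ext fun _ => rfl⟩

def γMap (c d : k) : dual Λ k ⟶ dual2 Λ k :=
  ⟨tszeMap ((c • (LinearMap.id : k →ₗ[k] k)).prod (d • (LinearMap.id : k →ₗ[k] k))),
    AlgHom.ext fun _ => rfl⟩

theorem isFibreProd_dual3 :
    IsFibreProd (q₁₂ : dual3 Λ k ⟶ _) q₃ (toBase (dual2 Λ k)) (toBase (dual Λ k)) where
  w := by rw [eq_toBase (q₁₂ ≫ toBase _), eq_toBase (q₃ ≫ toBase _)]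
  inj b₁ b₂ h₁ h₂ := by
    have e₁ : b₁.fst = b₂.fst := by have e := congrArg TrivSqZeroExt.fst h₁; exact e
    have e₂ : b₁.snd.1 = b₂.snd.1 := by have e := congrArg TrivSqZeroExt.snd h₁; exact e
    have e₃ : b₁.snd.2 = b₂.snd.2 := by have e := congrArg TrivSqZeroExt.snd h₂; exact e
    exact TrivSqZeroExt.ext e₁ (Prod.ext e₂ e₃)
  surj a' a'' h := by
    have h' : a'.fst = a''.fst := h
    exact ⟨(a'.fst, (a'.snd, a''.snd)), TrivSqZeroExt.ext rfl rfl, TrivSqZeroExt.ext h' rfl⟩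

/-! Identities between the morphisms. -/

theorem swap_pr₁ : (swapMap : dual2 Λ k ⟶ _) ≫ pr₁ = pr₂ :=
  Art.hom_ext (AlgHom.ext fun _ => TrivSqZeroExt.ext rfl rfl)

theorem swap_pr₂ : (swapMap : dual2 Λ k ⟶ _) ≫ pr₂ = pr₁ :=
  Art.hom_ext (AlgHom.ext fun _ => TrivSqZeroExt.ext rfl rfl)

theorem swap_plus : (swapMap : dual2 Λ k ⟶ _) ≫ plus = plus :=
  Art.hom_ext (AlgHom.ext fun x => TrivSqZeroExt.ext rfl (add_comm x.snd.2 x.snd.1))

theorem i₂_pr₁ : (i₂ : dual Λ k ⟶ _) ≫ pr₁ = toBase _ ≫ baseToDual :=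
  Art.hom_ext (AlgHom.ext fun _ => TrivSqZeroExt.ext rfl rfl)

theorem i₂_pr₂ : (i₂ : dual Λ k ⟶ _) ≫ pr₂ = 𝟙 _ :=
  Art.hom_ext (AlgHom.ext fun _ => TrivSqZeroExt.ext rfl rfl)

theorem i₂_plus : (i₂ : dual Λ k ⟶ _) ≫ plus = 𝟙 _ :=
  Art.hom_ext (AlgHom.ext fun x => TrivSqZeroExt.ext rfl (zero_add x.snd))

theorem δ_pr₁ : (δMap : dual Λ k ⟶ _) ≫ pr₁ = 𝟙 _ :=
  Art.hom_ext (AlgHom.ext fun _ => TrivSqZeroExt.ext rfl rfl)

theorem δ_pr₂ : (δMap : dual Λ k ⟶ _) ≫ pr₂ = scale (-1) :=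
  Art.hom_ext (AlgHom.ext fun x => TrivSqZeroExt.ext rfl (by
    change -x.snd = (-1 : k) • x.snd
    simp))

theorem δ_plus : (δMap : dual Λ k ⟶ _) ≫ plus = toBase _ ≫ baseToDual :=
  Art.hom_ext (AlgHom.ext fun x => TrivSqZeroExt.ext rfl (by
    change x.snd + -x.snd = 0
    simp))

theorem a_pr₁ : (aMap : dual3 Λ k ⟶ _) ≫ pr₁ = q₁₂ ≫ plus :=
  Art.hom_ext (AlgHom.ext fun _ => TrivSqZeroExt.ext rfl rfl)

theorem a_pr₂ : (aMap : dual3 Λ k ⟶ _) ≫ pr₂ = q₃ :=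
  Art.hom_ext (AlgHom.ext fun _ => TrivSqZeroExt.ext rfl rfl)

theorem b_pr₁ : (bMap : dual3 Λ k ⟶ _) ≫ pr₁ = q₁₂ ≫ pr₁ :=
  Art.hom_ext (AlgHom.ext fun _ => TrivSqZeroExt.ext rfl rfl)

theorem b_pr₂ : (bMap : dual3 Λ k ⟶ _) ≫ pr₂ = q₂₃ ≫ plus :=
  Art.hom_ext (AlgHom.ext fun _ => TrivSqZeroExt.ext rfl rfl)

theorem q₂₃_pr₁ : (q₂₃ : dual3 Λ k ⟶ _) ≫ pr₁ = q₁₂ ≫ pr₂ :=
  Art.hom_ext (AlgHom.ext fun _ => TrivSqZeroExt.ext rfl rfl)

theorem q₂₃_pr₂ : (q₂₃ : dual3 Λ k ⟶ _) ≫ pr₂ = q₃ :=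
  Art.hom_ext (AlgHom.ext fun _ => TrivSqZeroExt.ext rfl rfl)

theorem a_plus_eq_b_plus : (aMap : dual3 Λ k ⟶ _) ≫ plus = bMap ≫ plus :=
  Art.hom_ext (AlgHom.ext fun x => TrivSqZeroExt.ext rfl
    (add_assoc x.snd.1.1 x.snd.1.2 x.snd.2))

theorem scale₂_pr₁ (c : k) : (scale₂ c : dual2 Λ k ⟶ _) ≫ pr₁ = pr₁ ≫ scale c :=
  Art.hom_ext (AlgHom.ext fun _ => TrivSqZeroExt.ext rfl rfl)

theorem scale₂_pr₂ (c : k) : (scale₂ c : dual2 Λ k ⟶ _) ≫ pr₂ = pr₂ ≫ scale c :=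
  Art.hom_ext (AlgHom.ext fun _ => TrivSqZeroExt.ext rfl rfl)

theorem scale₂_plus (c : k) : (scale₂ c : dual2 Λ k ⟶ _) ≫ plus = plus ≫ scale c :=
  Art.hom_ext (AlgHom.ext fun x => TrivSqZeroExt.ext rfl (by
    change c • x.snd.1 + c • x.snd.2 = c • (x.snd.1 + x.snd.2)
    rw [smul_add]))

theorem γ_pr₁ (c d : k) : (γMap c d : dual Λ k ⟶ _) ≫ pr₁ = scale c :=
  Art.hom_ext (AlgHom.ext fun _ => TrivSqZeroExt.ext rfl rfl)

theorem γ_pr₂ (c d : k) : (γMap c d : dual Λ k ⟶ _) ≫ pr₂ = scale d :=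
  Art.hom_ext (AlgHom.ext fun _ => TrivSqZeroExt.ext rfl rfl)

theorem γ_plus (c d : k) : (γMap c d : dual Λ k ⟶ _) ≫ plus = scale (c + d) :=
  Art.hom_ext (AlgHom.ext fun x => TrivSqZeroExt.ext rfl (by
    change c • x.snd + d • x.snd = (c + d) • x.snd
    rw [add_smul]))

theorem scale_one : (scale (1 : k) : dual Λ k ⟶ _) = 𝟙 _ :=
  Art.hom_ext (AlgHom.ext fun x => TrivSqZeroExt.ext rfl (by
    change (1 : k) • x.snd = x.snd
    rw [one_smul]))

theorem scale_mul (c d : k) : (scale (c * d) : dual Λ k ⟶ _) = scale d ≫ scale c :=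
  Art.hom_ext (AlgHom.ext fun x => TrivSqZeroExt.ext rfl (by
    change (c * d) • x.snd = c • (d • x.snd)
    rw [mul_smul]))

end Objects

section Str

variable {Λ : Type u} {k : Type u} [CommRing Λ] [Field k] [Algebra Λ k]
variable {F : Art Λ k ⥤ Type v} (h0 : H0 F) (h2 : Heps F)

/-- The element of `F(k[ε₁, ε₂])` with prescribed projections. -/
noncomputable def pair (x y : F.obj (dual Λ k)) : F.obj (dual2 Λ k) :=
  Classical.choose (exists_dual2_of_pair h0 h2 x y)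

theorem pair_pr₁ (x y : F.obj (dual Λ k)) : F.map pr₁ (pair h0 h2 x y) = x :=
  (Classical.choose_spec (exists_dual2_of_pair h0 h2 x y)).1

theorem pair_pr₂ (x y : F.obj (dual Λ k)) : F.map pr₂ (pair h0 h2 x y) = y :=
  (Classical.choose_spec (exists_dual2_of_pair h0 h2 x y)).2

include h2 in
theorem dual2_ext (z z' : F.obj (dual2 Λ k)) (e₁ : F.map pr₁ z = F.map pr₁ z')
    (e₂ : F.map pr₂ z = F.map pr₂ z') : z = z' :=
  (cmp_injective_iff F isFibreProd_dual2).1 (h2 pr₁ pr₂ isFibreProd_dual2).1 z z' e₁ e₂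

theorem eq_pair (z : F.obj (dual2 Λ k)) (x y : F.obj (dual Λ k)) (e₁ : F.map pr₁ z = x)
    (e₂ : F.map pr₂ z = y) : z = pair h0 h2 x y :=
  dual2_ext h2 _ _ (by rw [e₁, pair_pr₁]) (by rw [e₂, pair_pr₂])

/-- addition -/
noncomputable def tadd (x y : F.obj (dual Λ k)) : F.obj (dual Λ k) := F.map plus (pair h0 h2 x y)

/-- zero -/
noncomputable def tzero : F.obj (dual Λ k) := F.map baseToDual h0.1.some

include h0 in
theorem map_toBase_baseToDual (x : F.obj (dual Λ k)) :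
    F.map (toBase _ ≫ baseToDual) x = tzero h0 := by
  rw [map_comp_apply']
  congr 1
  exact h0_elim h0 _ _

theorem tadd_comm (x y : F.obj (dual Λ k)) : tadd h0 h2 x y = tadd h0 h2 y x := by
  have e : F.map swapMap (pair h0 h2 x y) = pair h0 h2 y x :=
    eq_pair h0 h2 _ _ _ (by rw [← map_comp_apply', swap_pr₁, pair_pr₂])
      (by rw [← map_comp_apply', swap_pr₂, pair_pr₁])
  unfold tadd
  rw [← e, ← map_comp_apply', swap_plus]

theorem tzero_add (x : F.obj (dual Λ k)) : tadd h0 h2 (tzero h0) x = x := by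
  have e : F.map i₂ x = pair h0 h2 (tzero h0) x :=
    eq_pair h0 h2 _ _ _ (by rw [← map_comp_apply', i₂_pr₁, map_toBase_baseToDual])
      (by rw [← map_comp_apply', i₂_pr₂, map_id_apply'])
  unfold tadd
  rw [← e, ← map_comp_apply', i₂_plus, map_id_apply']

theorem tneg_add (x : F.obj (dual Λ k)) :
    tadd h0 h2 (F.map (scale (-1)) x) x = tzero h0 := by
  rw [tadd_comm]
  have e : F.map δMap x = pair h0 h2 x (F.map (scale (-1)) x) :=
    eq_pair h0 h2 _ _ _ (by rw [← map_comp_apply', δ_pr₁, map_id_apply'])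
      (by rw [← map_comp_apply', δ_pr₂])
  unfold tadd
  rw [← e, ← map_comp_apply', δ_plus, map_toBase_baseToDual]

theorem tadd_assoc (x y z : F.obj (dual Λ k)) :
    tadd h0 h2 (tadd h0 h2 x y) z = tadd h0 h2 x (tadd h0 h2 y z) := by
  obtain ⟨w, hw1, hw2⟩ := (cmp_surjective_iff F isFibreProd_dual3).1
    (h2 q₁₂ q₃ isFibreProd_dual3).2 (pair h0 h2 x y) z (h0_elim h0 _ _)
  have e23 : F.map q₂₃ w = pair h0 h2 y z :=
    eq_pair h0 h2 _ _ _ (by rw [← map_comp_apply', q₂₃_pr₁, map_comp_apply', hw1, pair_pr₂])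
      (by rw [← map_comp_apply', q₂₃_pr₂, hw2])
  have ea : F.map aMap w = pair h0 h2 (tadd h0 h2 x y) z :=
    eq_pair h0 h2 _ _ _ (by rw [← map_comp_apply', a_pr₁, map_comp_apply', hw1]; rfl)
      (by rw [← map_comp_apply', a_pr₂, hw2])
  have eb : F.map bMap w = pair h0 h2 x (tadd h0 h2 y z) :=
    eq_pair h0 h2 _ _ _ (by rw [← map_comp_apply', b_pr₁, map_comp_apply', hw1, pair_pr₁])
      (by rw [← map_comp_apply', b_pr₂, map_comp_apply', e23]; rfl)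
  calc tadd h0 h2 (tadd h0 h2 x y) z = F.map plus (F.map aMap w) := by rw [ea]; rfl
    _ = F.map plus (F.map bMap w) := by
      rw [← map_comp_apply', ← map_comp_apply', a_plus_eq_b_plus]
    _ = tadd h0 h2 x (tadd h0 h2 y z) := by rw [eb]; rfl

theorem tsmul_add (c : k) (x y : F.obj (dual Λ k)) :
    F.map (scale c) (tadd h0 h2 x y) =
      tadd h0 h2 (F.map (scale c) x) (F.map (scale c) y) := by
  have e : F.map (scale₂ c) (pair h0 h2 x y) =
      pair h0 h2 (F.map (scale c) x) (F.map (scale c) y) :=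
    eq_pair h0 h2 _ _ _ (by rw [← map_comp_apply', scale₂_pr₁, map_comp_apply', pair_pr₁])
      (by rw [← map_comp_apply', scale₂_pr₂, map_comp_apply', pair_pr₂])
  unfold tadd
  rw [← e, ← map_comp_apply', ← map_comp_apply', scale₂_plus]

theorem tadd_smul (c d : k) (x : F.obj (dual Λ k)) :
    F.map (scale (c + d)) x = tadd h0 h2 (F.map (scale c) x) (F.map (scale d) x) := by
  have e : F.map (γMap c d) x = pair h0 h2 (F.map (scale c) x) (F.map (scale d) x) :=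
    eq_pair h0 h2 _ _ _ (by rw [← map_comp_apply', γ_pr₁]) (by rw [← map_comp_apply', γ_pr₂])
  unfold tadd
  rw [← e, ← map_comp_apply', γ_plus]

/-- The tangent space structure. -/
noncomputable def tangentStr : TangentStr F := by
  letI iAdd : Add (F.obj (dual Λ k)) := ⟨tadd h0 h2⟩
  letI iZero : Zero (F.obj (dual Λ k)) := ⟨tzero h0⟩
  letI iNeg : Neg (F.obj (dual Λ k)) := ⟨fun x => F.map (scale (-1)) x⟩
  letI iG : AddGroup (F.obj (dual Λ k)) :=
    AddGroup.ofLeftAxioms (tadd_assoc h0 h2) (tzero_add h0 h2) (tneg_add h0 h2)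
  letI iCG : AddCommGroup (F.obj (dual Λ k)) := { iG with add_comm := tadd_comm h0 h2 }
  letI iSMul : SMul k (F.obj (dual Λ k)) := ⟨fun c x => F.map (scale c) x⟩
  letI iM : Module k (F.obj (dual Λ k)) :=
    Module.ofMinimalAxioms (tsmul_add h0 h2) (fun c d x => tadd_smul h0 h2 c d x)
      (fun c d x => by
        change F.map (scale (c * d)) x = F.map (scale c) (F.map (scale d) x)
        rw [scale_mul, map_comp_apply'])
      (fun x => by
        change F.map (scale 1) x = x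
        rw [scale_one, map_id_apply'])
  exact
    { addCommGroup := iCG
      module := iM
      smul_eq := fun c x => rfl
      add_eq := fun z => by
        change tadd h0 h2 (F.map pr₁ z) (F.map pr₂ z) = F.map plus z
        unfold tadd
        rw [← eq_pair h0 h2 z _ _ rfl rfl] }

end Str

end Groth.Agent.Lib.H6xTangentStr
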