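import Mathlib
import Groth.Agent.Lib.Helper1BKF17
import Groth.Agent.Lib.Helper1LDer4
import Groth.Agent.Lib.Helper1CI1
import Groth.Agent.Lib.H6xDerAdjA
set_option backward.isDefEq.respectTransparency.types false

/-!
# `(A ⊗^L K) ⊗^L L ≅ A ⊗^L (K ⊗ L)` for `L` K-flat, on a ringed site (helper6)

* `HomologicalComplex.mapBifunctorAssociator_hom_naturality₁` : naturality in the first variable of
  the associator of total complexes;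
* `assocNat` : the natural isomorphism `(P ⊗ K) ⊗ L ≅ P ⊗ (K ⊗ L)`;
* `nonempty_LTensorCx_comp_iso` : `LTensorCx K ⋙ LTensorCx L ≅ LTensorCx (K ⊗ L)` for `L` K-flat.
-/

set_option autoImplicit false
set_option linter.style.haveILetI false
universe u
open CategoryTheory Category Limits

namespace HomologicalComplex

variable {C₁ C₂ C₁₂ C₂₃ C₃ C₄ : Type*}
  [Category C₁] [Category C₂] [Category C₃] [Category C₄] [Category C₁₂] [Category C₂₃]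
  [HasZeroMorphisms C₁] [HasZeroMorphisms C₂] [HasZeroMorphisms C₃]
  [Preadditive C₁₂] [Preadditive C₂₃] [Preadditive C₄]
  {F₁₂ : C₁ ⥤ C₂ ⥤ C₁₂} {G : C₁₂ ⥤ C₃ ⥤ C₄}
  {F : C₁ ⥤ C₂₃ ⥤ C₄} {G₂₃ : C₂ ⥤ C₃ ⥤ C₂₃}
  [F₁₂.PreservesZeroMorphisms] [∀ (X₁ : C₁), (F₁₂.obj X₁).PreservesZeroMorphisms]
  [G.Additive] [∀ (X₁₂ : C₁₂), (G.obj X₁₂).PreservesZeroMorphisms]
  [G₂₃.PreservesZeroMorphisms] [∀ (X₂ : C₂), (G₂₃.obj X₂).PreservesZeroMorphisms]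
  [F.PreservesZeroMorphisms] [∀ (X₁ : C₁), (F.obj X₁).Additive]
  (associator : bifunctorComp₁₂ F₁₂ G ≅ bifunctorComp₂₃ F G₂₃)
  {ι₁ ι₂ ι₃ ι₁₂ ι₂₃ ι₄ : Type*}
  [DecidableEq ι₄]
  {c₁ : ComplexShape ι₁} {c₂ : ComplexShape ι₂} {c₃ : ComplexShape ι₃}
  {K₁ L₁ : HomologicalComplex C₁ c₁} (f₁ : K₁ ⟶ L₁)
  (K₂ : HomologicalComplex C₂ c₂) (K₃ : HomologicalComplex C₃ c₃)
  (c₁₂ : ComplexShape ι₁₂) (c₂₃ : ComplexShape ι₂₃) (c₄ : ComplexShape ι₄)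
  [TotalComplexShape c₁ c₂ c₁₂] [TotalComplexShape c₁₂ c₃ c₄]
  [TotalComplexShape c₂ c₃ c₂₃] [TotalComplexShape c₁ c₂₃ c₄]
  [HasMapBifunctor K₁ K₂ F₁₂ c₁₂] [HasMapBifunctor K₂ K₃ G₂₃ c₂₃]
  [HasMapBifunctor L₁ K₂ F₁₂ c₁₂]
  [ComplexShape.Associative c₁ c₂ c₃ c₁₂ c₂₃ c₄]
  [DecidableEq ι₁₂] [DecidableEq ι₂₃]
  [HasMapBifunctor (mapBifunctor K₁ K₂ F₁₂ c₁₂) K₃ G c₄]
  [HasMapBifunctor K₁ (mapBifunctor K₂ K₃ G₂₃ c₂₃) F c₄]
  [HasGoodTrifunctor₁₂Obj F₁₂ G K₁ K₂ K₃ c₁₂ c₄]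
  [HasGoodTrifunctor₂₃Obj F G₂₃ K₁ K₂ K₃ c₁₂ c₂₃ c₄]
  [HasMapBifunctor (mapBifunctor L₁ K₂ F₁₂ c₁₂) K₃ G c₄]
  [HasMapBifunctor L₁ (mapBifunctor K₂ K₃ G₂₃ c₂₃) F c₄]
  [HasGoodTrifunctor₁₂Obj F₁₂ G L₁ K₂ K₃ c₁₂ c₄]
  [HasGoodTrifunctor₂₃Obj F G₂₃ L₁ K₂ K₃ c₁₂ c₂₃ c₄]

lemma mapBifunctorAssociator_hom_naturality₁ :
    mapBifunctorMap (mapBifunctorMap f₁ (𝟙 K₂) F₁₂ c₁₂) (𝟙 K₃) G c₄ ≫
      (mapBifunctorAssociator associator L₁ K₂ K₃ c₁₂ c₂₃ c₄).hom =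
    (mapBifunctorAssociator associator K₁ K₂ K₃ c₁₂ c₂₃ c₄).hom ≫
      mapBifunctorMap f₁ (𝟙 (mapBifunctor K₂ K₃ G₂₃ c₂₃)) F c₄ := by
  ext j : 1
  apply mapBifunctor₁₂.hom_ext
  intro i₁ i₂ i₃ h
  have hA1 : (mapBifunctorAssociator associator K₁ K₂ K₃ c₁₂ c₂₃ c₄).hom.f j =
      (mapBifunctorAssociatorX associator K₁ K₂ K₃ c₁₂ c₂₃ c₄ j).hom := rfl
  have hA2 : (mapBifunctorAssociator associator L₁ K₂ K₃ c₁₂ c₂₃ c₄).hom.f j =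
      (mapBifunctorAssociatorX associator L₁ K₂ K₃ c₁₂ c₂₃ c₄ j).hom := rfl
  rw [comp_f, comp_f, hA1, hA2]
  have hL : mapBifunctor₁₂.ι F₁₂ G K₁ K₂ K₃ c₁₂ c₄ i₁ i₂ i₃ j h ≫
      (mapBifunctorMap (mapBifunctorMap f₁ (𝟙 K₂) F₁₂ c₁₂) (𝟙 K₃) G c₄).f j =
      (G.map ((F₁₂.map (f₁.f i₁)).app (K₂.X i₂))).app (K₃.X i₃) ≫
        mapBifunctor₁₂.ι F₁₂ G L₁ K₂ K₃ c₁₂ c₄ i₁ i₂ i₃ j h := by
    rw [mapBifunctor₁₂.ι_eq F₁₂ G K₁ K₂ K₃ c₁₂ c₄ i₁ i₂ i₃ _ j rfl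
        (by rw [← h]; rfl),
      mapBifunctor₁₂.ι_eq F₁₂ G L₁ K₂ K₃ c₁₂ c₄ i₁ i₂ i₃ _ j rfl
        (by rw [← h]; rfl),
      assoc, ι_mapBifunctorMap, ← NatTrans.comp_app_assoc, ← G.map_comp,
      ι_mapBifunctorMap]
    simp
  have hR : mapBifunctor₂₃.ι F G₂₃ K₁ K₂ K₃ c₁₂ c₂₃ c₄ i₁ i₂ i₃ j h ≫
      (mapBifunctorMap f₁ (𝟙 (mapBifunctor K₂ K₃ G₂₃ c₂₃)) F c₄).f j =
      (F.map (f₁.f i₁)).app ((G₂₃.obj (K₂.X i₂)).obj (K₃.X i₃)) ≫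
        mapBifunctor₂₃.ι F G₂₃ L₁ K₂ K₃ c₁₂ c₂₃ c₄ i₁ i₂ i₃ j h := by
    rw [mapBifunctor₂₃.ι_eq F G₂₃ K₁ K₂ K₃ c₁₂ c₂₃ c₄ i₁ i₂ i₃ _ j rfl
        (by rw [← h, ← ComplexShape.assoc c₁ c₂ c₃ c₁₂ c₂₃ c₄]; rfl),
      mapBifunctor₂₃.ι_eq F G₂₃ L₁ K₂ K₃ c₁₂ c₂₃ c₄ i₁ i₂ i₃ _ j rfl
        (by rw [← h, ← ComplexShape.assoc c₁ c₂ c₃ c₁₂ c₂₃ c₄]; rfl),
      assoc, ι_mapBifunctorMap]
    simp
  have hN := congr_app (congr_app (associator.hom.naturality (f₁.f i₁)) (K₂.X i₂)) (K₃.X i₃)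
  dsimp at hN
  rw [reassoc_of% hL, ι_mapBifunctorAssociatorX_hom, ι_mapBifunctorAssociatorX_hom_assoc]
  erw [hR]
  erw [reassoc_of% hN]
  rfl

end HomologicalComplex

attribute [local instance] HasDerivedCategory.standard

namespace Groth.Agent.Lib.H6xTensAssoc

open HomologicalComplex Groth.Agent.Lib.Helper1.BKF

variable {C : Type u} [SmallCategory C] {J : GrothendieckTopology C} {O : Sheaf J CommRingCat.{u}}
  (K L : CochainComplex (ModSite.Mod O) ℤ)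

/-- the natural isomorphism `(P ⊗ K) ⊗ L ≅ P ⊗ (K ⊗ L)` -/
noncomputable def assocNat :
    (ModSite.tensorCx O).flip.obj K ⋙ (ModSite.tensorCx O).flip.obj L ≅
      (ModSite.tensorCx O).flip.obj (((ModSite.tensorCx O).obj K).obj L) :=
  NatIso.ofComponents (fun P => totAssoc P K L)
    (fun {P P'} f => mapBifunctorAssociator_hom_naturality₁ (assocT O) f K L
      (ComplexShape.up ℤ) (ComplexShape.up ℤ) (ComplexShape.up ℤ))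

section derived

variable [ModSite.HasLTensorCx K] [ModSite.HasLTensorCx L]
  [ModSite.HasLTensorCx (((ModSite.tensorCx O).obj K).obj L)]

/-- the counit of the derived tensor product -/
noncomputable abbrev αc (E : CochainComplex (ModSite.Mod O) ℤ) [ModSite.HasLTensorCx E] :
    DerivedCategory.Q ⋙ ModSite.LTensorCx E ⟶ ModSite.tensorCxQ E :=
  (ModSite.tensorCxQ E).totalLeftDerivedCounit DerivedCategory.Q
    (HomologicalComplex.quasiIso (ModSite.Mod O) (ComplexShape.up ℤ))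

omit [ModSite.HasLTensorCx K] [ModSite.HasLTensorCx (((ModSite.tensorCx O).obj K).obj L)] in
/-- for `L` K-flat, `- ⊗^L L` is computed termwise on every complex -/
lemma isIso_αc_of_isKFlat (hL : ModSite.IsKFlat L) (M : CochainComplex (ModSite.Mod O) ℤ) :
    IsIso ((αc L).app M) :=
  Groth.Agent.Lib.Helper1.CI.isIso_counit_app
    (HomologicalComplex.quasiIso (ModSite.Mod O) (ComplexShape.up ℤ)) DerivedCategory.Q
    (ModSite.tensorCxQ L) (ModSite.LTensorCx L) (αc L) (fun _ => True)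
    (𝟭 _) (𝟙 _) (fun _ => trivial)
    (fun X => (HomologicalComplex.quasiIso (ModSite.Mod O) (ComplexShape.up ℤ)).id_mem X)
    (fun f _ _ hf => inverts_tensorCxQ_of_isKFlat L hL f hf) M trivial

/-- the comparison `((P ⊗^L K) ⊗^L L) ⟶ P ⊗ (K ⊗ L)` -/
noncomputable def εc : DerivedCategory.Q ⋙ (ModSite.LTensorCx K ⋙ ModSite.LTensorCx L) ⟶
    ModSite.tensorCxQ (((ModSite.tensorCx O).obj K).obj L) :=
  (Functor.associator _ _ _).inv ≫ Functor.whiskerRight (αc K) (ModSite.LTensorCx L) ≫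
    (Functor.associator _ _ _).hom ≫ Functor.whiskerLeft ((ModSite.tensorCx O).flip.obj K) (αc L) ≫
    (Functor.associator _ _ _).inv ≫ Functor.whiskerRight (assocNat K L).hom DerivedCategory.Q

lemma isLeftDerivedFunctor_comp (hL : ModSite.IsKFlat L) :
    (ModSite.LTensorCx K ⋙ ModSite.LTensorCx L).IsLeftDerivedFunctor (εc K L)
      (HomologicalComplex.quasiIso (ModSite.Mod O) (ComplexShape.up ℤ)) := by
  obtain ⟨R, ψ, hR⟩ := exists_functorial_kflat_flat_resolution O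
  refine Groth.Agent.Lib.H6xDerAdj.isLeftDerivedFunctor_of_resolution _ _ _ _ _ R ψ
    (fun G => (hR G).2.2.1) (fun G => ?_)
  haveI : IsIso ((αc K).app (R.obj G)) := isIso_counit_of_isKFlat K _ (αc K) (R.obj G) (hR G).1
  haveI := isIso_αc_of_isKFlat L hL (((ModSite.tensorCx O).obj (R.obj G)).obj K)
  dsimp [εc]
  simp only [Category.id_comp]
  infer_instance

/-- `(- ⊗^L K) ⊗^L L ≅ - ⊗^L (K ⊗ L)` for `L` K-flat -/
theorem nonempty_LTensorCx_comp_iso (hL : ModSite.IsKFlat L) :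
    Nonempty (ModSite.LTensorCx K ⋙ ModSite.LTensorCx L ≅
      ModSite.LTensorCx (((ModSite.tensorCx O).obj K).obj L)) := by
  haveI := isLeftDerivedFunctor_comp K L hL
  exact ⟨Functor.leftDerivedUnique _ _ (εc K L)
    (αc (((ModSite.tensorCx O).obj K).obj L))
    (HomologicalComplex.quasiIso (ModSite.Mod O) (ComplexShape.up ℤ))⟩

end derived

end Groth.Agent.Lib.H6xTensAssoc
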