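import Mathlib
import Groth.Agent.Lib.H6xTorSpreadA
import Groth.Agent.Lib.H6xRelTorLocE
import Groth.Agent.Lib.H6xPerfFlatPCB
import Groth.Agent.Lib.H6xTildePCA
import Groth.Agent.Lib.H6xSuppPushB
import Groth.Agent.S2066
set_option backward.isDefEq.respectTransparency.types false

/-!
# Tor amplitude of the stalks of a pseudo-coherent complex spreads out (helper6)
-/

set_option autoImplicit false
set_option linter.style.haveILetI false

universe u

open CategoryTheory CategoryTheory.Limits AlgebraicGeometry HomologicalComplex TopologicalSpace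
  Opposite MonoidalCategory

attribute [local instance] HasDerivedCategory.standard

namespace Groth.Agent.Lib.H6xTorSpread

open Groth.Agent.Lib.Helper1.BKF Groth.Agent.Lib.Helper1.CI Groth.Agent.Lib.Helper1.Sky
  Groth.Agent.Lib.Helper1.KBC Groth.Agent.Lib.H6xFlatAmpStalk Groth.Agent.Lib.H6xFlatAmpLocal
  Groth.Agent.Lib.Helper1.Tor Groth.Agent.Lib.H6xRelTorAmp Groth.Agent.Lib.H6xRelTorAmpG
  DerivedCategory

section Affine

variable (A : CommRingCat.{u})

/-- the cokernel of a map between finite free modules is finitely presented -/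
lemma finitePresentation_opcycles (P : DRing.Cx A) (hP : DRing.TermwiseFiniteFree P) (a : ℤ) :
    Module.FinitePresentation A (P.opcycles a) := by
  haveI : Module.Finite A (P.X a) := (hP a).1
  haveI : Module.Free A (P.X a) := (hP a).2
  haveI : Module.Finite A (P.X (a - 1)) := (hP (a - 1)).1
  refine Module.finitePresentation_of_free_of_surjective (P.pOpcycles a).hom
    ((ModuleCat.epi_iff_surjective (P.pOpcycles a)).1 inferInstance) ?_
  rw [(LinearMap.exact_iff.1 (fexact_d_pOpcycles P a))]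
  rw [LinearMap.range_eq_map]
  exact Submodule.FG.map _ Module.Finite.fg_top

/-- the affine case -/
theorem key_affine [PreservesFiniteLimits (tilde.functor A)]
    (G : CochainComplex (Spec A).Modules ℤ) (M : Dual.D A)
    (eG : DCoh.toD (Spec A) G ≅ (DCoh.tildeD A).obj M)
    (hM : DRing.IsPseudoCoherent' A M) (c : ℤ) (hc : M.IsGE c)
    (p : Spec A) (a0 b0 : ℤ)
    (hp : DRing.HasTorAmplitudeIn (Ox p) a0 b0 (Q.obj ((stalkC p).obj G))) :
    ∃ (O : (Spec A).Opens) (a b : ℤ), p ∈ O ∧ ∀ q : Spec A, q ∈ O →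
      DRing.HasTorAmplitudeIn (Ox q) a b (Q.obj ((stalkC q).obj G)) := by
  obtain ⟨P, d, hPb, hPff, ⟨eP⟩⟩ := hM
  have eG' : DCoh.toD (Spec A) G ≅ DCoh.toD (Spec A)
      (((tilde.functor A).mapHomologicalComplex (ComplexShape.up ℤ)).obj P) :=
    eG ≪≫ (DCoh.tildeD A).mapIso eP.symm ≪≫ (tilde.functor A).mapDerivedCategoryFactors.app P
  have key : ∀ q : Spec A, Nonempty (Q.obj ((stalkC q).obj G) ≅
      Q.obj ((extC (toOx A q)).obj P)) := fun q => by
    obtain ⟨e2⟩ := nonempty_Q_stalkC_iso q _ _ eG'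
    exact ⟨e2 ≪≫ Q.mapIso (stalkTildeCIso A q P)⟩
  have hPf : DRing.TermwiseFlat P := fun i => by
    haveI : Module.Free A (P.X i) := (hPff i).2
    infer_instance
  have hlow : ∀ i : ℤ, i < min a0 c → P.ExactAt i := fun i hi => by
    rw [HomologicalComplex.exactAt_iff_isZero_homology]
    have h1 : IsZero ((DerivedCategory.homologyFunctor _ i).obj M) :=
      DerivedCategory.isZero_of_isGE M c i (lt_of_lt_of_le hi (min_le_right _ _))
    exact IsZero.of_iso h1 (((DerivedCategory.homologyFunctorFactors _ i).app P).symm ≪≫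
      (DerivedCategory.homologyFunctor _ i).mapIso eP)
  haveI : Module.FinitePresentation A (P.opcycles (min a0 c)) :=
    finitePresentation_opcycles A P hPff _
  have hfree : ∀ q : Spec A, toPS A q ∈ Module.freeLocus A (P.opcycles (min a0 c)) ↔
      Module.Flat (Ox q) ((ext (toOx A q)).obj (P.opcycles (min a0 c))) := fun q => by
    letI : Algebra A (Ox q) := (toOx A q).toAlgebra
    haveI : IsLocalization.AtPrime (Ox q) (toPS A q).asIdeal := isLocalization_toOx A q
    rw [Module.mem_freeLocus_iff_tensor (toPS A q) (Ox q)]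
    constructor
    · intro h
      exact @Module.Flat.of_free (Ox q) (TensorProduct A (Ox q) (P.opcycles (min a0 c))) _ _ _ h
    · intro h
      haveI : Module.Flat (Ox q) (TensorProduct A (Ox q) (P.opcycles (min a0 c))) := h
      exact Module.free_of_flat_of_isLocalRing
  refine ⟨⟨{q : Spec A | toPS A q ∈ Module.freeLocus A (P.opcycles (min a0 c))},
    Module.isOpen_freeLocus⟩, min a0 c, d, ?_, fun q hq => ?_⟩
  · show toPS A p ∈ Module.freeLocus A (P.opcycles (min a0 c))
    rw [hfree]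
    obtain ⟨e⟩ := key p
    exact flat_ext_opcycles_of_hasTorAmp (toOx A p) (toOx_flat A p) P d hPb hPf (min a0 c) b0
      (hasTorAmp_mono (min_le_left _ _) le_rfl (hasTorAmp_of_iso e hp))
  · obtain ⟨e⟩ := key q
    have hq' : toPS A q ∈ Module.freeLocus A (P.opcycles (min a0 c)) := hq
    rw [hfree] at hq'
    exact hasTorAmp_of_iso e.symm (hasTorAmp_extC_of_flat_opcycles (toOx A q) (toOx_flat A q) P d
      hPb hPf (min a0 c) hlow hq')

end Affine

section Sch

variable {X Z : Scheme.{u}}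

/-- stalkwise tor amplitude passes to the pullback along an open immersion -/
theorem hasTorAmp_stalk_pullC_of (g : Z ⟶ X) [IsOpenImmersion g]
    (F : CochainComplex X.Modules ℤ) (a b : ℤ) (z : Z)
    (h : DRing.HasTorAmplitudeIn (Ox (g.base z)) a b (Q.obj ((stalkC (g.base z)).obj F))) :
    DRing.HasTorAmplitudeIn (Ox z) a b (Q.obj ((stalkC z).obj ((pullC g).obj F))) := by
  haveI : IsIso (g.stalkMap z) := inferInstance
  have hbij : Function.Bijective (g.stalkMap z).hom :=
    ConcreteCategory.bijective_of_isIso (g.stalkMap z)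
  have hflat : (g.stalkMap z).hom.Flat := by
    letI : Algebra (Ox (g.base z)) (Ox z) := (g.stalkMap z).hom.toAlgebra
    let e : Ox (g.base z) ≃ₗ[Ox (g.base z)] Ox z :=
      LinearEquiv.ofBijective (Algebra.linearMap (Ox (g.base z)) (Ox z)) hbij
    exact Module.Flat.of_linearEquiv e.symm
  have h1 := hasTorAmp_extC_of_flat (g.stalkMap z).hom hflat _ a b h
  exact hasTorAmp_of_iso (Q.mapIso (stalkPullCIso g z F)).symm h1

/-- the restriction of `toD F` along an open immersion is the termwise pullback -/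
noncomputable def restrictDPullCIso (g : Z ⟶ X) [IsOpenImmersion g]
    (F : CochainComplex X.Modules ℤ) :
    (DCoh.restrictD g).obj (DCoh.toD X F) ≅ DCoh.toD Z ((pullC g).obj F) :=
  (Scheme.Modules.restrictFunctor g).mapDerivedCategoryFactors.app F ≪≫
    Q.mapIso ((NatIso.mapHomologicalComplex (Scheme.Modules.restrictFunctorIsoPullback g)
      (ComplexShape.up ℤ)).app F)

lemma isGE_restrictD (g : Z ⟶ X) [IsOpenImmersion g] (E : DCoh.D X) (c : ℤ)
    (hE : E.IsGE c) : ((DCoh.restrictD g).obj E).IsGE c := by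
  rw [DerivedCategory.isGE_iff]
  intro i hi
  obtain ⟨e2⟩ := Groth.Agent.Lib.H6xSuppPush.nonempty_homology_mapDerivedCategory_iso
    (Scheme.Modules.restrictFunctor g) E i
  exact IsZero.of_iso (Functor.map_isZero _ (DerivedCategory.isZero_of_isGE E c i hi)) e2

lemma isGE_of_isGE_tildeD (R : CommRingCat.{u}) [PreservesFiniteLimits (tilde.functor R)]
    (M : DerivedCategory (ModuleCat.{u} R)) (c : ℤ)
    (h : ((DCoh.tildeD R).obj M).IsGE c) : M.IsGE c := by
  rw [DerivedCategory.isGE_iff]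
  intro i hi
  refine Groth.Agent.Lib.H6xRpushQc.isZero_of_isZero_tilde R _ (IsZero.of_iso
    (DerivedCategory.isZero_of_isGE ((DCoh.tildeD R).obj M) c i hi)
    ((Groth.Agent.Lib.H6xPC3.mapDerivedCategoryHomologyIso (tilde.functor R) i).app M).symm)

/-- tor amplitude of the stalks of a pseudo-coherent complex with cohomology bounded below
spreads out -/
theorem key (F : CochainComplex X.Modules ℤ)
    (hpc : ∀ m : ℤ, DCoh.IsPseudoCoherentD m (DCoh.toD X F)) (c : ℤ)
    (hc : (DCoh.toD X F).IsGE c) (x : X) (a0 b0 : ℤ)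
    (hx : DRing.HasTorAmplitudeIn (Ox x) a0 b0 (Q.obj ((stalkC x).obj F))) :
    ∃ (V : X.Opens) (a b : ℤ), x ∈ V ∧ ∀ y : X, y ∈ V →
      DRing.HasTorAmplitudeIn (Ox y) a b (Q.obj ((stalkC y).obj F)) := by
  obtain ⟨W, hW, hxW, -⟩ := exists_isAffineOpen_mem_and_subset (x := x) (U := ⊤) trivial
  have hxr : x ∈ Set.range hW.fromSpec.base := by rw [hW.range_fromSpec]; exact hxW
  obtain ⟨p, rfl⟩ := hxr
  haveI := (Groth.Agent.S9498.aux Γ(X, W)).1
  have hq : DCoh.IsQCohD (DCoh.toD X F) := fun i =>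
    (Groth.Agent.Lib.H6xPCoh.qcoh_cohomology_of_pseudoCoherent (i - 1) _ (hpc (i - 1))).1 i
      (by omega)
  have hqW := Groth.Agent.Lib.H6xRpushQc.isQCohD_restrictD hW.fromSpec _ hq
  obtain ⟨M, ⟨eM⟩⟩ := ((Groth.Agent.Lib.H6xTilde.main Γ(X, W)).2.2 _).1 hqW
  have hMpc : ∀ m : ℤ, DRing.IsPseudoCoherent Γ(X, W) m M := fun m => by
    refine (Groth.Agent.Lib.H6xTildePC.pc_tildeD_iff Γ(X, W) M m).1
      (Groth.Agent.Lib.H6xPC3.isPseudoCoherentD_of_iso eM.symm ?_)
    have h2 := hpc m
    rw [Groth.Agent.Lib.H6xPC3.isPseudoCoherentD_iff_pcAt] at h2 ⊢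
    exact fun z => Groth.Agent.Lib.H6xPC3.PCAt.restrict hW.fromSpec z (h2 _)
  have hMpc' : DRing.IsPseudoCoherent' Γ(X, W) M := (Groth.Agent.S2066.result M).1.1 hMpc
  have hMge : M.IsGE c := by
    haveI := isGE_restrictD hW.fromSpec _ c hc
    exact isGE_of_isGE_tildeD Γ(X, W) M c (DerivedCategory.TStructure.t.isGE_of_iso eM.symm c)
  have eG : DCoh.toD (Spec Γ(X, W)) ((pullC hW.fromSpec).obj F) ≅
      (DCoh.tildeD Γ(X, W)).obj M := (restrictDPullCIso hW.fromSpec F).symm ≪≫ eM.symm
  obtain ⟨O, a, b, hpO, hO⟩ := key_affine Γ(X, W) ((pullC hW.fromSpec).obj F) M eG hMpc' c hMge p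
    a0 b0 (hasTorAmp_stalk_pullC_of hW.fromSpec F a0 b0 p hx)
  refine ⟨hW.fromSpec ''ᵁ O, a, b, ⟨p, hpO, rfl⟩, ?_⟩
  rintro _ ⟨q, hq, rfl⟩
  exact hasTorAmp_stalk_of_pullC hW.fromSpec F a b q (hO q hq)

end Sch

end Groth.Agent.Lib.H6xTorSpread
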