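import Mathlib
import Groth.Agent.Lib.H6xTorSpreadB
import Groth.Agent.S5612
set_option backward.isDefEq.respectTransparency.types false

/-!
# S6194: on a scheme whose local rings have all modules of finite tor dimension, bounded
pseudo-coherent complexes are perfect (helper6)
-/

set_option autoImplicit false
set_option linter.style.haveILetI false

universe u

open CategoryTheory CategoryTheory.Limits AlgebraicGeometry HomologicalComplex TopologicalSpace
  Opposite MonoidalCategory

attribute [local instance] HasDerivedCategory.standard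

namespace Groth.Agent.Lib.H6xTorSpread

open Groth.Agent.Lib.Helper1.BKF Groth.Agent.Lib.Helper1.CI Groth.Agent.Lib.Helper1.Sky
  Groth.Agent.Lib.Helper1.KBC Groth.Agent.Lib.H6xFlatAmpStalk Groth.Agent.Lib.H6xFlatAmpLocal
  Groth.Agent.Lib.Helper1.Tor Groth.Agent.Lib.H6xRelTorAmp Groth.Agent.Lib.H6xRelTorAmpG
  DerivedCategory

variable {X : Scheme.{u}}

/-- the cohomology of the complex of stalks -/
lemma isZero_homology_stalkC (F : CochainComplex X.Modules ℤ) (x : X) (i : ℤ)
    (h : IsZero (F.homology i)) : IsZero (((stalkC x).obj F).homology i) :=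
  IsZero.of_iso ((stalkFun x).map_isZero h) ((F.sc i).mapHomologyIso (stalkFun x))

/-- S6194 -/
theorem main_pc_iff_perfect
    (hX : ∀ (x : X) (M : Type u) [AddCommGroup M] [Module (X.presheaf.stalk x) M],
      DRing.HasFiniteTorDim (X.presheaf.stalk x) M)
    (F : CochainComplex X.Modules ℤ) (c d : ℤ) [(DCoh.toD X F).IsGE c] [(DCoh.toD X F).IsLE d] :
    (∀ m : ℤ, DCoh.IsPseudoCoherentD m (DCoh.toD X F)) ↔ DCoh.IsPerfect (DCoh.toD X F) := by
  rw [Groth.Agent.Lib.H6xPerfFlatPC.main_iff]
  refine ⟨fun hpc => ⟨hpc, fun x => ?_⟩, fun h => h.1⟩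
  have hFz : ∀ i : ℤ, (i < c ∨ d < i) → IsZero (F.homology i) := fun i hi => by
    refine IsZero.of_iso ?_ ((DerivedCategory.homologyFunctorFactors X.Modules i).app F).symm
    rcases hi with hi | hi
    · exact DerivedCategory.isZero_of_isGE (DCoh.toD X F) c i hi
    · exact DerivedCategory.isZero_of_isLE (DCoh.toD X F) d i hi
  have hx : ∃ a0 b0 : ℤ, DRing.HasTorAmplitudeIn (Ox x) a0 b0 (Q.obj ((stalkC x).obj F)) := by
    refine ((Groth.Agent.S5612.result (A := Ox x) (hX x) (Q.obj ((stalkC x).obj F))).1).2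
      ⟨c, d, fun i hi => ?_⟩
    refine ModuleCat.subsingleton_of_isZero (IsZero.of_iso (isZero_homology_stalkC F x i (hFz i hi))
      ((DerivedCategory.homologyFunctorFactors _ i).app _))
  obtain ⟨a0, b0, hx⟩ := hx
  obtain ⟨V, a, b, hxV, hV⟩ := key F hpc c inferInstance x a0 b0 hx
  refine ⟨V, a, b, hxV, fun F' ⟨e⟩ => ?_⟩
  apply hasFlatAmplitudeIn_of_stalk
  intro y
  apply hasTorAmp_stalk_restrictCx
  obtain ⟨e1⟩ := nonempty_Q_stalkC_iso (V.ι.base y) _ _ e
  exact hasTorAmp_of_iso e1.symm (hV _ y.2)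

end Groth.Agent.Lib.H6xTorSpread
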