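import Groth.Agent.Lib.H6xTernaryQuad

set_option autoImplicit false

/-! A line on a smooth cubic surface: the residual conic in a plane through the line. -/

namespace Groth.Agent.Lib.H6xTritangent

open MvPolynomial Module Matrix Groth.Agent.Lib.H6xCubicForm Groth.Agent.Lib.H6xNodalCubic
  Groth.Agent.Lib.H6xTernaryQuad

section setting

variable {k : Type*} [Field k] [CharZero k]
  (f : MvPolynomial (Fin 4) k) (hf : f.IsHomogeneous 3) (a b : Fin 4 → k)
  (hL : ∀ s t : k, eval (s • a + t • b) f = 0)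

include hL in
theorem F_a : eval a f = 0 := by simpa using hL 1 0

include hL in
theorem F_b : eval b f = 0 := by simpa using hL 0 1

include hf hL in
theorem D_ab : D f a b = 0 ∧ D f b a = 0 := by
  have h1 := hL 1 1
  have h2 := hL 1 (-1)
  simp only [one_smul] at h1 h2
  rw [eval_add hf, F_a f a b hL, F_b f a b hL] at h1
  rw [eval_add hf, F_a f a b hL, eval_smul hf, F_b f a b hL, D_smul_right, D_smul_left hf] at h2
  have h3 : (2 : k) * D f a b = 0 := by linear_combination h1 - h2
  have h4 : (2 : k) * D f b a = 0 := by linear_combination h1 + h2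
  exact ⟨(mul_eq_zero.mp h3).resolve_left two_ne_zero,
    (mul_eq_zero.mp h4).resolve_left two_ne_zero⟩

include hf hL in
theorem D_aa : D f a a = 0 := by rw [D_self hf, F_a f a b hL, mul_zero]

include hf hL in
theorem D_bb : D f b b = 0 := by rw [D_self hf, F_b f a b hL, mul_zero]

/-- Gram matrix of (twice) the residual conic in the plane `⟨a, b, w⟩`. -/
noncomputable def Mw (w : Fin 4 → k) : Matrix (Fin 3) (Fin 3) k :=
  !![2 * D f a w, T f a b w, D f w a;
     T f a b w, 2 * D f b w, D f w b;
     D f w a, D f w b, 2 * eval w f]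

/-- coordinates on the plane `⟨a, b, w⟩`. -/
def iota (w : Fin 4 → k) (u : Fin 3 → k) : Fin 4 → k := u 0 • a + u 1 • b + u 2 • w

theorem Mw_symm (w : Fin 4 → k) : (Mw f a b w).IsSymm := by
  apply Matrix.IsSymm.ext
  intro i j
  fin_cases i <;> fin_cases j <;> rfl

theorem mulVec_Mw (w : Fin 4 → k) (u : Fin 3 → k) :
    (Mw f a b w *ᵥ u) 0 = 2 * D f a w * u 0 + T f a b w * u 1 + D f w a * u 2 ∧
    (Mw f a b w *ᵥ u) 1 = T f a b w * u 0 + 2 * D f b w * u 1 + D f w b * u 2 ∧
    (Mw f a b w *ᵥ u) 2 = D f w a * u 0 + D f w b * u 1 + 2 * eval w f * u 2 := by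
  simp [Mw, Matrix.mulVec, dotProduct, Fin.sum_univ_three]

theorem Qf_Mw (w : Fin 4 → k) (u : Fin 3 → k) :
    Qf (Mw f a b w) u = 2 * (u 0 ^ 2 * D f a w + u 1 ^ 2 * D f b w + u 0 * u 1 * T f a b w +
      u 0 * u 2 * D f w a + u 1 * u 2 * D f w b + u 2 ^ 2 * eval w f) := by
  obtain ⟨h0, h1, h2⟩ := mulVec_Mw f a b w u
  simp only [Qf, bM, dotProduct, Fin.sum_univ_three, h0, h1, h2]
  ring

include hf in
theorem D_iota (w : Fin 4 → k) (u : Fin 3 → k) (z : Fin 4 → k) :
    D f (iota a b w u) z = u 0 ^ 2 * D f a z + u 1 ^ 2 * D f b z + u 2 ^ 2 * D f w z +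
      u 0 * u 1 * T f a b z + u 0 * u 2 * T f a w z + u 1 * u 2 * T f b w z := by
  rw [iota, D_three hf]
  simp only [D_smul_left hf, T_smul_left hf, T_smul_mid]
  ring

include hf hL in
theorem F_iota (w : Fin 4 → k) (u : Fin 3 → k) :
    2 * eval (iota a b w u) f = u 2 * Qf (Mw f a b w) u := by
  obtain ⟨hab, hba⟩ := D_ab f hf a b hL
  rw [Qf_Mw, iota, eval_three hf]
  simp only [eval_smul hf, D_smul_left hf, D_smul_right, T_smul_left hf, T_smul_mid,
    T_smul_right, F_a f a b hL, F_b f a b hL, hab, hba]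
  ring

include hf hL in
theorem D_iota_a (w : Fin 4 → k) (u : Fin 3 → k) :
    D f (iota a b w u) a = u 2 * (Mw f a b w *ᵥ u) 0 := by
  obtain ⟨hab, hba⟩ := D_ab f hf a b hL
  have t1 : T f a b a = 0 := by rw [T_self'' hf, hab, mul_zero]
  have t2 : T f a w a = 2 * D f a w := T_self'' hf _ _
  have t3 : T f b w a = T f a b w := by rw [T_symm23 hf, T_symm12 hf]
  rw [D_iota f hf a b, (mulVec_Mw f a b w u).1, D_aa f hf a b hL, hba, t1, t2, t3]
  ring

include hf hL in
theorem D_iota_b (w : Fin 4 → k) (u : Fin 3 → k) :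
    D f (iota a b w u) b = u 2 * (Mw f a b w *ᵥ u) 1 := by
  obtain ⟨hab, hba⟩ := D_ab f hf a b hL
  have t1 : T f a b b = 0 := by rw [T_self' hf, hba, mul_zero]
  have t2 : T f a w b = T f a b w := T_symm23 hf _ _ _
  have t3 : T f b w b = 2 * D f b w := T_self'' hf _ _
  rw [D_iota f hf a b, (mulVec_Mw f a b w u).2.1, D_bb f hf a b hL, hab, t1, t2, t3]
  ring

include hf hL in
theorem D_iota_w (w : Fin 4 → k) (u : Fin 3 → k) :
    2 * D f (iota a b w u) w = Qf (Mw f a b w) u + 2 * (u 2 * (Mw f a b w *ᵥ u) 2) := by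
  have t1 : T f a w w = 2 * D f w a := T_self' hf _ _
  have t2 : T f b w w = 2 * D f w b := T_self' hf _ _
  rw [D_iota f hf a b, (mulVec_Mw f a b w u).2.2, Qf_Mw, D_self hf, t1, t2]
  ring

include hf hL in
/-- a radical vector of the residual conic gives a point where the plane is "doubly tangent". -/
theorem D_iota_of_rad (w : Fin 4 → k) (n : Fin 3 → k) (hn : Mw f a b w *ᵥ n = 0) :
    eval (iota a b w n) f = 0 ∧ D f (iota a b w n) a = 0 ∧ D f (iota a b w n) b = 0 ∧
      D f (iota a b w n) w = 0 := by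
  have hQ : Qf (Mw f a b w) n = 0 := bM_eq_zero_of_mulVec _ n n hn
  refine ⟨?_, ?_, ?_, ?_⟩
  · have h := F_iota f hf a b hL w n
    rw [hQ, mul_zero] at h
    exact (mul_eq_zero.mp h).resolve_left two_ne_zero
  · rw [D_iota_a f hf a b hL, hn]; simp
  · rw [D_iota_b f hf a b hL, hn]; simp
  · have h := D_iota_w f hf a b hL w n
    rw [hQ, hn] at h
    simp at h
    exact h

section smooth

variable [IsAlgClosed k]
  (hsm : ∀ v : Fin 4 → k, v ≠ 0 → eval v f = 0 → ∃ i : Fin 4, eval v (pderiv i f) ≠ 0)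

include hf hsm in
/-- **double line lemma**: a smooth cubic surface has no plane tangent along a whole line. -/
theorem double_line (y1 y2 z : Fin 4 → k) (h1 : y1 ≠ 0) (h2 : y2 ∉ Submodule.span k {y1})
    (h3 : z ∉ Submodule.span k {y1, y2})
    (hF : ∀ s t : k, eval (s • y1 + t • y2) f = 0)
    (hD : ∀ s t : k, D f (s • y1 + t • y2) y1 = 0 ∧ D f (s • y1 + t • y2) y2 = 0 ∧
      D f (s • y1 + t • y2) z = 0) : False := by
  obtain ⟨d, hd⟩ := exists_not_mem_span3 (k := k) (V := Fin 4 → k) (by simp) y1 y2 z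
  have htop := span_four_eq_top (k := k) (by simp) h1 h2 h3 hd
  obtain ⟨s, t, hst, hz⟩ := exists_binary_zero (D f y1 d) (T f y1 y2 d) (D f y2 d)
  have hDd : D f (s • y1 + t • y2) d = 0 := by
    rw [D_add_left hf, D_smul_left hf, D_smul_left hf, T_smul_left hf, T_smul_mid]
    linear_combination hz
  have hy0 : s • y1 + t • y2 ≠ 0 := by
    intro h0
    by_cases ht : t = 0
    · subst ht
      simp only [zero_smul, add_zero, smul_eq_zero] at h0
      rcases h0 with h0 | h0
      · exact hst.elim (fun h => h h0) (fun h => h rfl)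
      · exact h1 h0
    · apply h2
      have : y2 = (-(t⁻¹ * s)) • y1 := by
        have h4 : t • y2 = -(s • y1) := by
          rw [eq_neg_iff_add_eq_zero, add_comm]; exact h0
        calc y2 = t⁻¹ • (t • y2) := by rw [smul_smul, inv_mul_cancel₀ ht, one_smul]
          _ = _ := by rw [h4, smul_neg, smul_smul, neg_smul]
      rw [this]
      exact Submodule.smul_mem _ _ (Submodule.mem_span_singleton_self y1)
  obtain ⟨hD1, hD2, hD3⟩ := hD s t
  have hker : LinearMap.ker (Dlin f (s • y1 + t • y2)) = ⊤ := by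
    rw [eq_top_iff, ← htop, Submodule.span_le]
    intro x hx
    simp only [Set.mem_insert_iff, Set.mem_singleton_iff] at hx
    show D f (s • y1 + t • y2) x = 0
    rcases hx with h | h | h | h <;> rw [h] <;> assumption
  obtain ⟨i, hi⟩ := hsm _ hy0 (hF s t)
  apply hi
  rw [← Dlin_single]
  have : Pi.single i (1 : k) ∈ LinearMap.ker (Dlin f (s • y1 + t • y2)) := by
    rw [hker]; trivial
  exact this

variable (ha : a ≠ 0) (hb : b ∉ Submodule.span k {a})

include hf hL hsm ha hb in
/-- the residual conic is never divisible by the equation of the line. -/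
theorem Qf_line_ne_zero (w : Fin 4 → k) (hw : w ∉ Submodule.span k {a, b}) :
    ¬ (D f a w = 0 ∧ D f b w = 0 ∧ T f a b w = 0) := by
  rintro ⟨h1, h2, h3⟩
  obtain ⟨hab, hba⟩ := D_ab f hf a b hL
  have t1 : T f a b a = 0 := by rw [T_self'' hf, hab, mul_zero]
  have t2 : T f a b b = 0 := by rw [T_self' hf, hba, mul_zero]
  refine double_line f hf hsm a b w ha hb hw hL ?_
  intro s t
  refine ⟨?_, ?_, ?_⟩ <;>
    rw [D_add_left hf, D_smul_left hf, D_smul_left hf, T_smul_left hf, T_smul_mid]
  · rw [D_aa f hf a b hL, hba, t1]; ring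
  · rw [hab, D_bb f hf a b hL, t2]; ring
  · rw [h1, h2, h3]; ring

theorem iota_add (w : Fin 4 → k) (u v : Fin 3 → k) :
    iota a b w (u + v) = iota a b w u + iota a b w v := by
  simp only [iota, Pi.add_apply, add_smul]
  abel

theorem iota_smul (w : Fin 4 → k) (c : k) (u : Fin 3 → k) :
    iota a b w (c • u) = c • iota a b w u := by
  simp only [iota, Pi.smul_apply, smul_eq_mul, mul_smul, smul_add]

theorem iota_sub (w : Fin 4 → k) (u v : Fin 3 → k) :
    iota a b w (u - v) = iota a b w u - iota a b w v := by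
  simp only [iota, Pi.sub_apply, sub_smul]
  abel

include ha hb in
theorem iota_injective (w : Fin 4 → k) (hw : w ∉ Submodule.span k {a, b}) (u : Fin 3 → k)
    (hu : iota a b w u = 0) : u = 0 := by
  have h2 : u 2 = 0 := by
    by_contra h
    apply hw
    have : w = (-((u 2)⁻¹ * u 0)) • a + (-((u 2)⁻¹ * u 1)) • b := by
      have h1 : u 2 • w = -(u 0 • a + u 1 • b) := by
        rw [eq_neg_iff_add_eq_zero, add_comm]; exact hu
      calc w = (u 2)⁻¹ • (u 2 • w) := by rw [smul_smul, inv_mul_cancel₀ h, one_smul]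
        _ = _ := by rw [h1, smul_neg, smul_add, smul_smul, smul_smul, neg_add, neg_smul, neg_smul]
    rw [this]
    exact Submodule.add_mem _ (Submodule.smul_mem _ _ (Submodule.subset_span (by simp)))
      (Submodule.smul_mem _ _ (Submodule.subset_span (by simp)))
  have h1 : u 1 = 0 := by
    by_contra h
    apply hb
    have : b = (-((u 1)⁻¹ * u 0)) • a := by
      have h3 : u 1 • b = -(u 0 • a) := by
        rw [iota, h2, zero_smul, add_zero] at hu
        rw [eq_neg_iff_add_eq_zero, add_comm]; exact hu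
      calc b = (u 1)⁻¹ • (u 1 • b) := by rw [smul_smul, inv_mul_cancel₀ h, one_smul]
        _ = _ := by rw [h3, smul_neg, smul_smul, neg_smul]
    rw [this]
    exact Submodule.smul_mem _ _ (Submodule.mem_span_singleton_self a)
  have h0 : u 0 = 0 := by
    rw [iota, h2, h1, zero_smul, zero_smul, add_zero, add_zero] at hu
    exact (smul_eq_zero.mp hu).resolve_right ha
  ext i
  fin_cases i <;> assumption

include hf hL hsm ha hb in
/-- the radical of the residual conic is at most one-dimensional. -/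
theorem rad_unique (w : Fin 4 → k) (hw : w ∉ Submodule.span k {a, b}) (n m : Fin 3 → k)
    (hn0 : n ≠ 0) (hn : Mw f a b w *ᵥ n = 0) (hm : Mw f a b w *ᵥ m = 0) :
    m ∈ Submodule.span k {n} := by
  by_contra hmn
  -- the plane `⟨a, b, w⟩` would be tangent along the line `ι⟨n, m⟩`
  have hrad : ∀ s t : k, Mw f a b w *ᵥ (s • n + t • m) = 0 := by
    intro s t
    rw [Matrix.mulVec_add, Matrix.mulVec_smul, Matrix.mulVec_smul, hn, hm]
    simp
  have hy1 : iota a b w n ≠ 0 := fun h => hn0 (iota_injective a b ha hb w hw n h)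
  have hy2 : iota a b w m ∉ Submodule.span k {iota a b w n} := by
    intro hmem
    obtain ⟨c, hc⟩ := Submodule.mem_span_singleton.mp hmem
    apply hmn
    have : m - c • n = 0 := by
      apply iota_injective a b ha hb w hw
      rw [iota_sub, iota_smul, hc, sub_self]
    rw [sub_eq_zero] at this
    rw [this]
    exact Submodule.smul_mem _ _ (Submodule.mem_span_singleton_self n)
  have hcomb : ∀ s t : k, s • iota a b w n + t • iota a b w m = iota a b w (s • n + t • m) := by
    intro s t
    rw [iota_add, iota_smul, iota_smul]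
  -- a third vector of the plane outside the line
  obtain ⟨u3, hu3⟩ := exists_not_mem_span2 (k := k) (V := Fin 3 → k) (by simp) n m
  have hz : iota a b w u3 ∉ Submodule.span k {iota a b w n, iota a b w m} := by
    intro hmem
    obtain ⟨s, t, hst⟩ := Submodule.mem_span_pair.mp hmem
    apply hu3
    have : u3 - (s • n + t • m) = 0 := by
      apply iota_injective a b ha hb w hw
      rw [iota_sub, ← hcomb, hst, sub_self]
    rw [sub_eq_zero] at this
    rw [this]
    exact Submodule.add_mem _ (Submodule.smul_mem _ _ (Submodule.subset_span (by simp)))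
      (Submodule.smul_mem _ _ (Submodule.subset_span (by simp)))
  refine double_line f hf hsm _ _ _ hy1 hy2 hz ?_ ?_
  · intro s t
    rw [hcomb]
    exact (D_iota_of_rad f hf a b hL w _ (hrad s t)).1
  · intro s t
    rw [hcomb]
    obtain ⟨-, hDa, hDb, hDw⟩ := D_iota_of_rad f hf a b hL w _ (hrad s t)
    have hgen : ∀ v : Fin 3 → k, D f (iota a b w (s • n + t • m)) (iota a b w v) = 0 := by
      intro v
      have hv : iota a b w v = v 0 • a + v 1 • b + v 2 • w := rfl
      rw [hv, D_add_right, D_add_right, D_smul_right, D_smul_right, D_smul_right, hDa, hDb, hDw]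
      ring
    exact ⟨hgen n, hgen m, hgen u3⟩

end smooth

end setting

end Groth.Agent.Lib.H6xTritangent
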