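import Groth.Agent.Lib.H6xTritangentA

set_option autoImplicit false

/-! A plane through a line of a smooth cubic surface contains two further lines iff its residual
conic is degenerate. -/

namespace Groth.Agent.Lib.H6xTritangent

open MvPolynomial Module Matrix Groth.Agent.Lib.H6xCubicForm Groth.Agent.Lib.H6xNodalCubic
  Groth.Agent.Lib.H6xTernaryQuad

section setting

variable {k : Type*} [Field k] [CharZero k] [IsAlgClosed k]
  (f : MvPolynomial (Fin 4) k) (hf : f.IsHomogeneous 3) (a b : Fin 4 → k)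
  (hL : ∀ s t : k, eval (s • a + t • b) f = 0)

/-- `iota` as a linear map -/
def iotaL (w : Fin 4 → k) : (Fin 3 → k) →ₗ[k] (Fin 4 → k) where
  toFun := iota a b w
  map_add' := iota_add a b w
  map_smul' c u := by rw [iota_smul]; rfl

theorem iotaL_apply (w : Fin 4 → k) (u : Fin 3 → k) : iotaL a b w u = iota a b w u := rfl

theorem range_iotaL (w : Fin 4 → k) :
    LinearMap.range (iotaL a b w) = Submodule.span k {a, b, w} := by
  apply le_antisymm
  · rintro _ ⟨u, rfl⟩
    rw [iotaL_apply, iota]
    exact Submodule.add_mem _ (Submodule.add_mem _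
      (Submodule.smul_mem _ _ (Submodule.subset_span (by simp)))
      (Submodule.smul_mem _ _ (Submodule.subset_span (by simp))))
      (Submodule.smul_mem _ _ (Submodule.subset_span (by simp)))
  · rw [Submodule.span_le]
    intro z hz
    simp only [Set.mem_insert_iff, Set.mem_singleton_iff] at hz
    rcases hz with h | h | h <;> rw [h]
    · exact ⟨![1, 0, 0], by simp [iotaL_apply, iota]⟩
    · exact ⟨![0, 1, 0], by simp [iotaL_apply, iota]⟩
    · exact ⟨![0, 0, 1], by simp [iotaL_apply, iota]⟩

variable (ha : a ≠ 0) (hb : b ∉ Submodule.span k {a})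

include ha hb in
theorem iotaL_injective (w : Fin 4 → k) (hw : w ∉ Submodule.span k {a, b}) :
    Function.Injective (iotaL a b w) := by
  rw [← LinearMap.ker_eq_bot, LinearMap.ker_eq_bot']
  intro u hu
  exact iota_injective a b ha hb w hw u hu

include ha hb in
theorem finrank_map_iotaL (w : Fin 4 → k) (hw : w ∉ Submodule.span k {a, b})
    (U : Submodule k (Fin 3 → k)) : finrank k (U.map (iotaL a b w)) = finrank k U :=
  (LinearEquiv.finrank_eq
    (Submodule.equivMapOfInjective _ (iotaL_injective a b ha hb w hw) U)).symm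

variable
  (hsm : ∀ v : Fin 4 → k, v ≠ 0 → eval v f = 0 → ∃ i : Fin 4, eval v (pderiv i f) ≠ 0)

include hf hL ha hb in
/-- a further line in the plane forces the residual conic to be degenerate. -/
theorem det_eq_zero_of_line (w : Fin 4 → k) (hw : w ∉ Submodule.span k {a, b})
    (L' : Submodule k (Fin 4 → k)) (hL'2 : finrank k L' = 2)
    (hL'H : L' ≤ Submodule.span k {a, b, w}) (hL'ne : L' ≠ Submodule.span k {a, b})
    (hL'F : ∀ u ∈ L', eval u f = 0) : (Mw f a b w).det = 0 := by
  have hmap : (L'.comap (iotaL a b w)).map (iotaL a b w) = L' :=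
    Submodule.map_comap_eq_of_le (by rw [range_iotaL]; exact hL'H)
  have hfin : finrank k (L'.comap (iotaL a b w)) = 2 := by
    rw [← finrank_map_iotaL a b ha hb w hw, hmap, hL'2]
  -- some vector of the plane `U'` has nonzero last coordinate
  obtain ⟨u0, hu0U, hu02⟩ : ∃ u0 ∈ L'.comap (iotaL a b w), u0 2 ≠ 0 := by
    by_contra hcon
    push Not at hcon
    apply hL'ne
    have hle : L' ≤ Submodule.span k {a, b} := by
      rw [← hmap]
      rintro _ ⟨u, hu, rfl⟩
      rw [iotaL_apply, iota, hcon u hu, zero_smul, add_zero]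
      exact Submodule.add_mem _ (Submodule.smul_mem _ _ (Submodule.subset_span (by simp)))
        (Submodule.smul_mem _ _ (Submodule.subset_span (by simp)))
    exact Submodule.eq_of_le_of_finrank_eq hle
      (by rw [hL'2, finrank_span_pair_eq_two ha hb])
  have hprod : ∀ u ∈ L'.comap (iotaL a b w), u 2 * Qf (Mw f a b w) u = 0 := by
    intro u hu
    have h : eval (iota a b w u) f = 0 := hL'F _ hu
    rw [← F_iota f hf a b hL, h, mul_zero]
  have hQ0 : Qf (Mw f a b w) u0 = 0 := (mul_eq_zero.mp (hprod u0 hu0U)).resolve_left hu02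
  have hQ : ∀ u ∈ L'.comap (iotaL a b w), Qf (Mw f a b w) u = 0 := by
    intro u hu
    by_cases hu2 : u 2 = 0
    · have h1 := hprod _ (Submodule.add_mem _ hu hu0U)
      have h2 := hprod _ (Submodule.add_mem _ hu (Submodule.smul_mem _ (-1 : k) hu0U))
      have e1 : (u + u0) 2 ≠ 0 := by simp [hu2, hu02]
      have e2 : (u + (-1 : k) • u0) 2 ≠ 0 := by simp [hu2, hu02]
      have h1' := (mul_eq_zero.mp h1).resolve_left e1
      have h2' := (mul_eq_zero.mp h2).resolve_left e2
      rw [Qf_add _ (Mw_symm f a b w), hQ0] at h1'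
      rw [Qf_add _ (Mw_symm f a b w), Qf_smul, hQ0, bM_smul_right] at h2'
      have : (2 : k) * Qf (Mw f a b w) u = 0 := by linear_combination h1' + h2'
      exact (mul_eq_zero.mp this).resolve_left two_ne_zero
    · exact (mul_eq_zero.mp (hprod u hu)).resolve_left hu2
  exact det_eq_zero_of_isotropic_plane _ (Mw_symm f a b w) _ hfin hQ

include hf hL ha hb hsm in
/-- a degenerate residual conic splits into two further lines. -/
theorem exists_lines_of_det_eq_zero (w : Fin 4 → k) (hw : w ∉ Submodule.span k {a, b})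
    (hdet : (Mw f a b w).det = 0) :
    ∃ L' L'' : Submodule k (Fin 4 → k), finrank k L' = 2 ∧ finrank k L'' = 2 ∧
      L' ≠ Submodule.span k {a, b} ∧ L'' ≠ Submodule.span k {a, b} ∧ L' ≠ L'' ∧
      L' ≤ Submodule.span k {a, b, w} ∧ L'' ≤ Submodule.span k {a, b, w} ∧
      (∀ u ∈ L', eval u f = 0) ∧ (∀ u ∈ L'', eval u f = 0) := by
  obtain ⟨n, hn0, hn⟩ := Matrix.exists_mulVec_eq_zero_iff.mpr hdet
  have hrad : ∀ m, Mw f a b w *ᵥ m = 0 → m ∈ Submodule.span k {n} := fun m hm =>
    rad_unique f hf a b hL hsm ha hb w hw n m hn0 hn hm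
  obtain ⟨U1, U2, hU1, hU2, hne, hQ1, hQ2⟩ :=
    exists_two_isotropic_planes _ (Mw_symm f a b w) n hn0 hn hrad
  have hinj := iotaL_injective a b ha hb w hw
  -- an isotropic plane is never the line itself
  have hnotL : ∀ U : Submodule k (Fin 3 → k), (∀ u ∈ U, Qf (Mw f a b w) u = 0) →
      U.map (iotaL a b w) ≠ Submodule.span k {a, b} := by
    intro U hQ heq
    have hmem : ∀ u : Fin 3 → k, u 2 = 0 → u ∈ U := by
      intro u hu2
      have h1 : iotaL a b w u ∈ U.map (iotaL a b w) := by
        rw [heq, iotaL_apply, iota, hu2, zero_smul, add_zero]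
        exact Submodule.add_mem _ (Submodule.smul_mem _ _ (Submodule.subset_span (by simp)))
          (Submodule.smul_mem _ _ (Submodule.subset_span (by simp)))
      obtain ⟨u', hu', he⟩ := h1
      rwa [← hinj he]
    apply Qf_line_ne_zero f hf a b hL hsm ha hb w hw
    have h1 := hQ _ (hmem ![1, 0, 0] (by simp))
    have h2 := hQ _ (hmem ![0, 1, 0] (by simp))
    have h3 := hQ _ (hmem ![1, 1, 0] (by simp))
    rw [Qf_Mw] at h1 h2 h3
    simp at h1 h2 h3
    refine ⟨h1, h2, ?_⟩
    rw [h1, h2] at h3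
    simpa using h3
  have hF : ∀ U : Submodule k (Fin 3 → k), (∀ u ∈ U, Qf (Mw f a b w) u = 0) →
      ∀ x ∈ U.map (iotaL a b w), eval x f = 0 := by
    rintro U hQ _ ⟨u, hu, rfl⟩
    have h := F_iota f hf a b hL w u
    rw [hQ u hu, mul_zero] at h
    exact (mul_eq_zero.mp h).resolve_left two_ne_zero
  have hle : ∀ U : Submodule k (Fin 3 → k),
      U.map (iotaL a b w) ≤ Submodule.span k {a, b, w} := by
    intro U
    rw [← range_iotaL]
    exact LinearMap.map_le_range
  refine ⟨U1.map (iotaL a b w), U2.map (iotaL a b w), ?_, ?_, hnotL U1 hQ1, hnotL U2 hQ2, ?_,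
    hle U1, hle U2, hF U1 hQ1, hF U2 hQ2⟩
  · rw [finrank_map_iotaL a b ha hb w hw, hU1]
  · rw [finrank_map_iotaL a b ha hb w hw, hU2]
  · intro heq
    exact hne (Submodule.map_injective_of_injective hinj heq)

end setting

end Groth.Agent.Lib.H6xTritangent
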