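import Groth.Agent.Lib.H6xTritangentB
import Groth.Agent.Lib.H6xSimpleRoot

set_option autoImplicit false

/-! The discriminant quintic of the pencil of planes through a line of a smooth cubic surface. -/

namespace Groth.Agent.Lib.H6xTritangent

open MvPolynomial Module Matrix Groth.Agent.Lib.H6xCubicForm Groth.Agent.Lib.H6xNodalCubic
  Groth.Agent.Lib.H6xTernaryQuad

section setting

variable {k : Type*} [Field k] [CharZero k] [IsAlgClosed k]
  (f : MvPolynomial (Fin 4) k) (hf : f.IsHomogeneous 3) (a b : Fin 4 → k)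
  (hL : ∀ s t : k, eval (s • a + t • b) f = 0)
  (c d : Fin 4 → k)

/-- entries of `Mw (c + X d)` as polynomials -/
noncomputable def p00 : Polynomial k :=
  Polynomial.C (2 * D f a c) + Polynomial.C (2 * D f a d) * Polynomial.X
noncomputable def p11 : Polynomial k :=
  Polynomial.C (2 * D f b c) + Polynomial.C (2 * D f b d) * Polynomial.X
noncomputable def p01 : Polynomial k :=
  Polynomial.C (T f a b c) + Polynomial.C (T f a b d) * Polynomial.X
noncomputable def p02 : Polynomial k :=
  Polynomial.C (D f c a) + Polynomial.C (T f c d a) * Polynomial.X +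
    Polynomial.C (D f d a) * Polynomial.X ^ 2
noncomputable def p12 : Polynomial k :=
  Polynomial.C (D f c b) + Polynomial.C (T f c d b) * Polynomial.X +
    Polynomial.C (D f d b) * Polynomial.X ^ 2
noncomputable def p22 : Polynomial k :=
  Polynomial.C (2 * eval c f) + Polynomial.C (2 * D f c d) * Polynomial.X +
    Polynomial.C (2 * D f d c) * Polynomial.X ^ 2 + Polynomial.C (2 * eval d f) * Polynomial.X ^ 3

/-- the Gram matrix of the residual conic of the plane `⟨a, b, c + X d⟩` -/
noncomputable def Mpoly : Matrix (Fin 3) (Fin 3) (Polynomial k) :=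
  !![p00 f a c d, p01 f a b c d, p02 f a c d;
     p01 f a b c d, p11 f b c d, p12 f b c d;
     p02 f a c d, p12 f b c d, p22 f c d]

theorem Mpoly_symm : (Mpoly f a b c d).IsSymm := by
  apply Matrix.IsSymm.ext
  intro i j
  fin_cases i <;> fin_cases j <;> rfl

include hf in
theorem Mpoly_eval (μ : k) :
    (Mpoly f a b c d).map (Polynomial.eval μ) = Mw f a b (c + μ • d) := by
  have e1 : D f (c + μ • d) a = D f c a + T f c d a * μ + D f d a * μ ^ 2 := by
    rw [D_add_left hf, D_smul_left hf, T_smul_mid]; ring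
  have e2 : D f (c + μ • d) b = D f c b + T f c d b * μ + D f d b * μ ^ 2 := by
    rw [D_add_left hf, D_smul_left hf, T_smul_mid]; ring
  have e3 : eval (c + μ • d) f = eval c f + D f c d * μ + D f d c * μ ^ 2 + eval d f * μ ^ 3 := by
    rw [eval_add hf, eval_smul hf, D_smul_left hf, D_smul_right]; ring
  ext i j
  fin_cases i <;> fin_cases j <;>
    simp [Mpoly, Mw, p00, p01, p02, p11, p12, p22, D_add_right, D_smul_right, T_add_right,
      T_smul_right, e1, e2, e3] <;> ring

/-- the discriminant polynomial of the pencil -/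
noncomputable def Delta : Polynomial k := (Mpoly f a b c d).det

include hf in
theorem Delta_eval (μ : k) :
    Polynomial.eval μ (Delta f a b c d) = (Mw f a b (c + μ • d)).det := by
  rw [← Mpoly_eval f hf a b c d μ]
  exact RingHom.map_det (Polynomial.evalRingHom μ) (Mpoly f a b c d)

theorem coeff_mul3 (p q r : Polynomial k) (m n l : ℕ) (hp : p.natDegree ≤ m)
    (hq : q.natDegree ≤ n) (hr : r.natDegree ≤ l) :
    (p * q * r).coeff (m + n + l) = p.coeff m * q.coeff n * r.coeff l := by
  rw [Polynomial.coeff_mul_add_eq_of_natDegree_le (Polynomial.natDegree_mul_le_of_le hp hq) hr,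
    Polynomial.coeff_mul_add_eq_of_natDegree_le hp hq]

theorem natDegree_mul3 (p q r : Polynomial k) (m n l : ℕ) (hp : p.natDegree ≤ m)
    (hq : q.natDegree ≤ n) (hr : r.natDegree ≤ l) :
    (p * q * r).natDegree ≤ m + n + l :=
  Polynomial.natDegree_mul_le_of_le (Polynomial.natDegree_mul_le_of_le hp hq) hr

theorem natDegree_p00 : (p00 f a c d).natDegree ≤ 1 := by unfold p00; compute_degree
theorem natDegree_p11 : (p11 f b c d).natDegree ≤ 1 := by unfold p11; compute_degree
theorem natDegree_p01 : (p01 f a b c d).natDegree ≤ 1 := by unfold p01; compute_degree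
theorem natDegree_p02 : (p02 f a c d).natDegree ≤ 2 := by unfold p02; compute_degree
theorem natDegree_p12 : (p12 f b c d).natDegree ≤ 2 := by unfold p12; compute_degree
theorem natDegree_p22 : (p22 f c d).natDegree ≤ 3 := by unfold p22; compute_degree

theorem coeff_p00 : (p00 f a c d).coeff 1 = 2 * D f a d := by simp [p00]
theorem coeff_p11 : (p11 f b c d).coeff 1 = 2 * D f b d := by simp [p11]
theorem coeff_p01 : (p01 f a b c d).coeff 1 = T f a b d := by simp [p01]
theorem coeff_p02 : (p02 f a c d).coeff 2 = D f d a := by simp [p02]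
theorem coeff_p12 : (p12 f b c d).coeff 2 = D f d b := by simp [p12]
theorem coeff_p22 : (p22 f c d).coeff 3 = 2 * eval d f := by
  simp [p22, mul_assoc, Polynomial.coeff_C_mul, Polynomial.coeff_X_pow]

theorem Delta_expand : Delta f a b c d =
    p00 f a c d * p11 f b c d * p22 f c d - p00 f a c d * p12 f b c d * p12 f b c d -
    p01 f a b c d * p01 f a b c d * p22 f c d + p01 f a b c d * p12 f b c d * p02 f a c d +
    p02 f a c d * p01 f a b c d * p12 f b c d - p02 f a c d * p11 f b c d * p02 f a c d := by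
  rw [Delta, Matrix.det_fin_three]
  simp [Mpoly]

theorem natDegree_Delta : (Delta f a b c d).natDegree ≤ 5 := by
  rw [Delta_expand]
  have h00 := natDegree_p00 f a c d
  have h11 := natDegree_p11 f b c d
  have h01 := natDegree_p01 f a b c d
  have h02 := natDegree_p02 f a c d
  have h12 := natDegree_p12 f b c d
  have h22 := natDegree_p22 f c d
  have hsub : ∀ p q : Polynomial k, p.natDegree ≤ 5 → q.natDegree ≤ 5 → (p - q).natDegree ≤ 5 :=
    fun p q hp hq => (Polynomial.natDegree_sub_le p q).trans (max_le hp hq)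
  refine hsub _ _ (Polynomial.natDegree_add_le_of_degree_le
    (Polynomial.natDegree_add_le_of_degree_le (hsub _ _ (hsub _ _ ?_ ?_) ?_) ?_) ?_) ?_
  · exact natDegree_mul3 _ _ _ 1 1 3 h00 h11 h22
  · exact natDegree_mul3 _ _ _ 1 2 2 h00 h12 h12
  · exact natDegree_mul3 _ _ _ 1 1 3 h01 h01 h22
  · exact natDegree_mul3 _ _ _ 1 2 2 h01 h12 h02
  · exact natDegree_mul3 _ _ _ 2 1 2 h02 h01 h12
  · exact natDegree_mul3 _ _ _ 2 1 2 h02 h11 h02

theorem coeff_Delta : (Delta f a b c d).coeff 5 = (Mw f a b d).det := by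
  have h00 := natDegree_p00 f a c d
  have h11 := natDegree_p11 f b c d
  have h01 := natDegree_p01 f a b c d
  have h02 := natDegree_p02 f a c d
  have h12 := natDegree_p12 f b c d
  have h22 := natDegree_p22 f c d
  rw [Delta_expand]
  simp only [Polynomial.coeff_sub, Polynomial.coeff_add]
  rw [coeff_mul3 _ _ _ 1 1 3 h00 h11 h22, coeff_mul3 _ _ _ 1 2 2 h00 h12 h12,
    coeff_mul3 _ _ _ 1 1 3 h01 h01 h22, coeff_mul3 _ _ _ 1 2 2 h01 h12 h02,
    coeff_mul3 _ _ _ 2 1 2 h02 h01 h12, coeff_mul3 _ _ _ 2 1 2 h02 h11 h02,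
    coeff_p00, coeff_p11, coeff_p01, coeff_p02, coeff_p12, coeff_p22,
    Matrix.det_fin_three]
  simp [Mw]

theorem natDegree_Delta_eq (hd : (Mw f a b d).det ≠ 0) : (Delta f a b c d).natDegree = 5 :=
  Polynomial.natDegree_eq_of_le_of_coeff_ne_zero (natDegree_Delta f a b c d)
    (by rw [coeff_Delta]; exact hd)

section simple

variable (ha : a ≠ 0) (hb : b ∉ Submodule.span k {a}) (hc : c ∉ Submodule.span k {a, b})
  (hd : d ∉ Submodule.span k {a, b, c})
  (hsm : ∀ v : Fin 4 → k, v ≠ 0 → eval v f = 0 → ∃ i : Fin 4, eval v (pderiv i f) ≠ 0)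

include hc hd in
theorem pencil_not_mem (μ : k) : c + μ • d ∉ Submodule.span k {a, b} := by
  intro hmem
  obtain ⟨s, t, hst⟩ := Submodule.mem_span_pair.mp hmem
  by_cases hμ : μ = 0
  · apply hc
    rw [hμ, zero_smul, add_zero] at hst
    rw [← hst]
    exact Submodule.add_mem _ (Submodule.smul_mem _ _ (Submodule.subset_span (by simp)))
      (Submodule.smul_mem _ _ (Submodule.subset_span (by simp)))
  · apply hd
    have h1 : μ • d = s • a + t • b - c := by rw [hst]; abel
    have h2 : d = μ⁻¹ • (s • a + t • b - c) := by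
      rw [← h1, smul_smul, inv_mul_cancel₀ hμ, one_smul]
    rw [h2]
    refine Submodule.smul_mem _ _ (Submodule.sub_mem _ (Submodule.add_mem _
      (Submodule.smul_mem _ _ (Submodule.subset_span (by simp)))
      (Submodule.smul_mem _ _ (Submodule.subset_span (by simp))))
      (Submodule.subset_span (by simp)))

include hc hd in
theorem pencil_not_mem' (μ : k) : d ∉ Submodule.span k {a, b, c + μ • d} := by
  intro hmem
  obtain ⟨s, t, r, hstr⟩ := Submodule.mem_span_triple.mp hmem
  have h1 : (1 - r * μ) • d = s • a + t • b + r • c := by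
    have h2 : d - (r * μ) • d = s • a + t • b + r • c := by
      conv_lhs => arg 1; rw [← hstr]
      rw [smul_add, smul_smul]; abel
    rw [sub_smul, one_smul, h2]
  by_cases h : 1 - r * μ = 0
  · have hr : r ≠ 0 := by
      rintro rfl
      simp at h
    rw [h, zero_smul] at h1
    apply hc
    have h2 : r • c = -(s • a + t • b) := by
      rw [eq_neg_iff_add_eq_zero, add_comm]; exact h1.symm
    have h3 : c = r⁻¹ • (-(s • a + t • b)) := by
      rw [← h2, smul_smul, inv_mul_cancel₀ hr, one_smul]
    rw [h3]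
    exact Submodule.smul_mem _ _ (Submodule.neg_mem _ (Submodule.add_mem _
      (Submodule.smul_mem _ _ (Submodule.subset_span (by simp)))
      (Submodule.smul_mem _ _ (Submodule.subset_span (by simp)))))
  · apply hd
    have h2 : d = (1 - r * μ)⁻¹ • (s • a + t • b + r • c) := by
      rw [← h1, smul_smul, inv_mul_cancel₀ h, one_smul]
    rw [h2]
    exact Submodule.smul_mem _ _ (Submodule.add_mem _ (Submodule.add_mem _
      (Submodule.smul_mem _ _ (Submodule.subset_span (by simp)))
      (Submodule.smul_mem _ _ (Submodule.subset_span (by simp))))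
      (Submodule.smul_mem _ _ (Submodule.subset_span (by simp))))

include hf in
theorem psi_deriv (μ₀ : k) (n : Fin 3 → k) :
    Polynomial.eval μ₀ (Polynomial.derivative
      (∑ i, ∑ j, Polynomial.C (n i) * Mpoly f a b c d i j * Polynomial.C (n j))) =
    2 * D f (iota a b (c + μ₀ • d) n) d := by
  have e1 : D f (c + μ₀ • d) d = D f c d + 2 * μ₀ * D f d c + 3 * μ₀ ^ 2 * eval d f := by
    rw [D_add_left hf, D_smul_left hf, T_smul_mid, D_self hf, T_self' hf]; ring
  have e2 : T f a (c + μ₀ • d) d = T f c d a + 2 * μ₀ * D f d a := by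
    rw [T_add_mid, T_smul_mid, T_self' hf, T_symm23 hf c d a, T_symm12 hf c a d]; ring
  have e3 : T f b (c + μ₀ • d) d = T f c d b + 2 * μ₀ * D f d b := by
    rw [T_add_mid, T_smul_mid, T_self' hf, T_symm23 hf c d b, T_symm12 hf c b d]; ring
  rw [D_iota f hf a b, e1, e2, e3]
  simp only [Fin.sum_univ_three]
  simp [Mpoly, p00, p01, p02, p11, p12, p22, Polynomial.derivative_mul, Polynomial.derivative_pow]
  ring

include hf hL ha hb hc hd hsm in
/-- every root of the discriminant quintic is simple. -/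
theorem Delta_simple_root (μ₀ : k) (h0 : Polynomial.eval μ₀ (Delta f a b c d) = 0) :
    Polynomial.eval μ₀ (Polynomial.derivative (Delta f a b c d)) ≠ 0 := by
  have hw₀ := pencil_not_mem a b c d hc hd μ₀
  have hdw := pencil_not_mem' a b c d hc hd μ₀
  have hdet : (Mw f a b (c + μ₀ • d)).det = 0 := by rw [← Delta_eval f hf]; exact h0
  obtain ⟨n, hn0, hn⟩ := Matrix.exists_mulVec_eq_zero_iff.mpr hdet
  have hrad : ∀ m, Mw f a b (c + μ₀ • d) *ᵥ m = 0 → m ∈ Submodule.span k {n} := fun m hm =>
    rad_unique f hf a b hL hsm ha hb _ hw₀ n m hn0 hn hm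
  refine Groth.Agent.Lib.H6xSimpleRoot.simple_root (Mpoly f a b c d) (Mpoly_symm f a b c d) μ₀ n
    hn0 (by rw [Mpoly_eval f hf]; exact hn) (by rw [Mpoly_eval f hf]; exact hrad) ?_
  rw [psi_deriv f hf a b c d μ₀ n]
  intro hzero
  have hDd : D f (iota a b (c + μ₀ • d) n) d = 0 :=
    (mul_eq_zero.mp hzero).resolve_left two_ne_zero
  obtain ⟨hF, hDa, hDb, hDw⟩ := D_iota_of_rad f hf a b hL _ n hn
  have hP0 : iota a b (c + μ₀ • d) n ≠ 0 := fun h => hn0 (iota_injective a b ha hb _ hw₀ n h)
  have htop := span_four_eq_top (k := k) (V := Fin 4 → k) (by simp) ha hb hw₀ hdw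
  have hker : LinearMap.ker (Dlin f (iota a b (c + μ₀ • d) n)) = ⊤ := by
    rw [eq_top_iff, ← htop, Submodule.span_le]
    intro x hx
    simp only [Set.mem_insert_iff, Set.mem_singleton_iff] at hx
    show D f (iota a b (c + μ₀ • d) n) x = 0
    rcases hx with h | h | h | h <;> rw [h] <;> assumption
  obtain ⟨i, hi⟩ := hsm _ hP0 hF
  apply hi
  rw [← Dlin_single]
  have : Pi.single i (1 : k) ∈ LinearMap.ker (Dlin f (iota a b (c + μ₀ • d) n)) := by
    rw [hker]; trivial
  exact this

end simple

end setting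

end Groth.Agent.Lib.H6xTritangent
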