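import Groth.Agent.Lib.H6xTritangentC
import Groth.Agent.Lib.H6xNodalCubicC

set_option autoImplicit false

/-! Exactly five tritangent planes through a line of a smooth cubic surface. -/

namespace Groth.Agent.Lib.H6xTritangent

open MvPolynomial Module Matrix Groth.Agent.Lib.H6xCubicForm Groth.Agent.Lib.H6xNodalCubic
  Groth.Agent.Lib.H6xTernaryQuad

section counting

variable {k : Type*} [Field k] [CharZero k] [IsAlgClosed k]

theorem card_roots_five (g : Polynomial k) (hdeg : g.natDegree = 5)
    (hsimple : ∀ a, g.eval a = 0 → g.derivative.eval a ≠ 0) :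
    {μ : k | g.eval μ = 0}.ncard = 5 := by
  classical
  have hg0 : g ≠ 0 := by rintro rfl; simp at hdeg
  have hcard : g.roots.card = 5 := by
    rw [← (IsAlgClosed.splits g).natDegree_eq_card_roots, hdeg]
  have hnodup : g.roots.Nodup := by
    rw [Multiset.nodup_iff_count_le_one]
    intro x
    rw [Polynomial.count_roots]
    by_contra hcon
    push Not at hcon
    obtain ⟨h1, h2⟩ := (Polynomial.one_lt_rootMultiplicity_iff_isRoot hg0).mp hcon
    exact hsimple x h1 h2
  have hfin : g.roots.toFinset.card = 5 := by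
    rw [Multiset.toFinset_card_of_nodup hnodup, hcard]
  have hset : {μ : k | g.eval μ = 0} = ↑g.roots.toFinset := by
    ext μ
    simp [Polynomial.mem_roots hg0, Polynomial.IsRoot]
  rw [hset, Set.ncard_coe_finset, hfin]

theorem finrank_span_triple (a b w : Fin 4 → k) (ha : a ≠ 0) (hb : b ∉ Submodule.span k {a})
    (hw : w ∉ Submodule.span k {a, b}) : finrank k (Submodule.span k {a, b, w}) = 3 := by
  rw [← range_iotaL, LinearMap.finrank_range_of_inj (iotaL_injective a b ha hb w hw)]
  simp

theorem not_mem_swap (a b c d : Fin 4 → k) (hd : d ∉ Submodule.span k {a, b})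
    (hc : c ∉ Submodule.span k {a, b, d}) : d ∉ Submodule.span k {a, b, c} := by
  intro hmem
  obtain ⟨s, t, r, h⟩ := Submodule.mem_span_triple.mp hmem
  by_cases hr : r = 0
  · apply hd
    rw [hr, zero_smul, add_zero] at h
    rw [← h]
    exact Submodule.add_mem _ (Submodule.smul_mem _ _ (Submodule.subset_span (by simp)))
      (Submodule.smul_mem _ _ (Submodule.subset_span (by simp)))
  · apply hc
    have h1 : r • c = d - (s • a + t • b) := by rw [← h]; abel
    have h2 : c = r⁻¹ • (d - (s • a + t • b)) := by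
      rw [← h1, smul_smul, inv_mul_cancel₀ hr, one_smul]
    rw [h2]
    exact Submodule.smul_mem _ _ (Submodule.sub_mem _ (Submodule.subset_span (by simp))
      (Submodule.add_mem _ (Submodule.smul_mem _ _ (Submodule.subset_span (by simp)))
      (Submodule.smul_mem _ _ (Submodule.subset_span (by simp)))))

theorem pencil_injective (a b c d : Fin 4 → k) (hc : c ∉ Submodule.span k {a, b})
    (hd : d ∉ Submodule.span k {a, b, c}) :
    Function.Injective (fun μ : k => Submodule.span k {a, b, c + μ • d}) := by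
  intro μ ν h
  by_contra hne
  apply pencil_not_mem' a b c d hc hd μ
  have h1 : c + ν • d ∈ Submodule.span k {a, b, c + μ • d} := by
    show c + ν • d ∈ (fun μ : k => Submodule.span k {a, b, c + μ • d}) μ
    rw [h]
    exact Submodule.subset_span (by simp)
  have h2 : c + μ • d ∈ Submodule.span k {a, b, c + μ • d} := Submodule.subset_span (by simp)
  have h3 : (ν - μ) • d ∈ Submodule.span k {a, b, c + μ • d} := by
    have : (ν - μ) • d = (c + ν • d) - (c + μ • d) := by rw [sub_smul]; abel
    rw [this]
    exact Submodule.sub_mem _ h1 h2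
  have hνμ : ν - μ ≠ 0 := fun h0 => hne (sub_eq_zero.mp h0).symm
  have h4 : (ν - μ)⁻¹ • ((ν - μ) • d) = d := by rw [smul_smul, inv_mul_cancel₀ hνμ, one_smul]
  have h5 := Submodule.smul_mem _ (ν - μ)⁻¹ h3
  rwa [h4] at h5

theorem main (f : MvPolynomial (Fin 4) k) (hf : f.IsHomogeneous 3)
    (hsm : ∀ v : Fin 4 → k, v ≠ 0 → eval v f = 0 → ∃ i : Fin 4, eval v (pderiv i f) ≠ 0)
    (L : Submodule k (Fin 4 → k)) (hL2 : finrank k L = 2) (hLS : ∀ u ∈ L, eval u f = 0) :
    {H : Submodule k (Fin 4 → k) | finrank k H = 3 ∧ L ≤ H ∧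
      ∃ L' L'' : Submodule k (Fin 4 → k), finrank k L' = 2 ∧ finrank k L'' = 2 ∧
        L' ≠ L ∧ L'' ≠ L ∧ L' ≠ L'' ∧ L' ≤ H ∧ L'' ≤ H ∧
        (∀ u ∈ L', eval u f = 0) ∧ (∀ u ∈ L'', eval u f = 0)}.ncard = 5 := by
  obtain ⟨a, haL, ha⟩ := exists_mem_ne_zero_of_finrank_two L hL2
  obtain ⟨b, hbL, hb, hLab⟩ := exists_span_pair L hL2 a haL ha
  have hL : ∀ s t : k, eval (s • a + t • b) f = 0 := fun s t =>
    hLS _ (L.add_mem (L.smul_mem _ haL) (L.smul_mem _ hbL))
  subst hLab
  -- a first frame
  obtain ⟨c, hc0⟩ := exists_not_mem_span3 (k := k) (V := Fin 4 → k) (by simp) a b 0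
  have hc : c ∉ Submodule.span k {a, b} := fun h =>
    hc0 (Submodule.span_mono (by intro z hz; simp at hz ⊢; tauto) h)
  obtain ⟨d, hd⟩ := exists_not_mem_span3 (k := k) (V := Fin 4 → k) (by simp) a b c
  have hΔ0 : Delta f a b c d ≠ 0 := by
    intro h
    apply Delta_simple_root f hf a b hL c d ha hb hc hd hsm 0 (by rw [h]; simp)
    rw [h]; simp
  obtain ⟨μ₁, hμ₁⟩ : ∃ μ₁, Polynomial.eval μ₁ (Delta f a b c d) ≠ 0 := by
    by_contra hcon
    push Not at hcon
    apply hΔ0
    apply Polynomial.funext
    intro x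
    rw [hcon x]; simp
  rw [Delta_eval f hf] at hμ₁
  -- a frame whose plane at infinity is not tritangent
  obtain ⟨d', hd'def⟩ : ∃ d', d' = c + μ₁ • d := ⟨_, rfl⟩
  rw [← hd'def] at hμ₁
  have hd'ab : d' ∉ Submodule.span k {a, b} := by
    rw [hd'def]; exact pencil_not_mem a b c d hc hd μ₁
  obtain ⟨c', hc'⟩ := exists_not_mem_span3 (k := k) (V := Fin 4 → k) (by simp) a b d'
  have hc'ab : c' ∉ Submodule.span k {a, b} := fun h =>
    hc' (Submodule.span_mono (by intro z hz; simp at hz ⊢; tauto) h)
  have hd' : d' ∉ Submodule.span k {a, b, c'} := not_mem_swap a b c' d' hd'ab hc'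
  have hdeg := natDegree_Delta_eq f a b c' d' hμ₁
  have hsimple : ∀ μ, Polynomial.eval μ (Delta f a b c' d') = 0 →
      Polynomial.eval μ (Polynomial.derivative (Delta f a b c' d')) ≠ 0 := fun μ h =>
    Delta_simple_root f hf a b hL c' d' ha hb hc'ab hd' hsm μ h
  have hcard := card_roots_five _ hdeg hsimple
  have hinj := pencil_injective a b c' d' hc'ab hd'
  have hS : {H : Submodule k (Fin 4 → k) | finrank k H = 3 ∧ Submodule.span k {a, b} ≤ H ∧
      ∃ L' L'' : Submodule k (Fin 4 → k), finrank k L' = 2 ∧ finrank k L'' = 2 ∧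
        L' ≠ Submodule.span k {a, b} ∧ L'' ≠ Submodule.span k {a, b} ∧ L' ≠ L'' ∧ L' ≤ H ∧
        L'' ≤ H ∧ (∀ u ∈ L', eval u f = 0) ∧ (∀ u ∈ L'', eval u f = 0)} =
      (fun μ : k => Submodule.span k {a, b, c' + μ • d'}) ''
        {μ : k | Polynomial.eval μ (Delta f a b c' d') = 0} := by
    ext H
    constructor
    · rintro ⟨hH3, hLH, L', L'', hL'2, hL''2, hL'ne, hL''ne, hne, hL'H, hL''H, hL'F, hL''F⟩
      have haH : a ∈ H := hLH (Submodule.subset_span (by simp))
      have hbH : b ∈ H := hLH (Submodule.subset_span (by simp))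
      obtain ⟨w, hwH, hw⟩ : ∃ w ∈ H, w ∉ Submodule.span k {a, b} := by
        by_contra hcon
        push Not at hcon
        have hle : H ≤ Submodule.span k {a, b} := fun x hx => hcon x hx
        have := Submodule.finrank_mono hle
        rw [hH3, hL2] at this
        omega
      have htop := span_four_eq_top (k := k) (V := Fin 4 → k) (by simp) ha hb hc'ab hd'
      have hwtop : w ∈ Submodule.span k {a, b, c', d'} := by rw [htop]; trivial
      obtain ⟨α, z, hz, hwz⟩ := Submodule.mem_span_insert.mp hwtop
      obtain ⟨β, s, t, hz'⟩ := Submodule.mem_span_triple.mp hz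
      have hw'H : s • c' + t • d' ∈ H := by
        have : s • c' + t • d' = w - α • a - β • b := by rw [hwz, ← hz']; abel
        rw [this]
        exact H.sub_mem (H.sub_mem hwH (H.smul_mem _ haH)) (H.smul_mem _ hbH)
      have hfinal : ∀ w' : Fin 4 → k, w' ∈ H → w' ∉ Submodule.span k {a, b} →
          Submodule.span k {a, b, w'} = H ∧ (Mw f a b w').det = 0 := by
        intro w' hw'H hw'
        have heq : Submodule.span k {a, b, w'} = H := by
          apply Submodule.eq_of_le_of_finrank_eq
          · rw [Submodule.span_le]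
            intro x hx
            simp only [Set.mem_insert_iff, Set.mem_singleton_iff] at hx
            rcases hx with h | h | h <;> rw [h] <;> assumption
          · rw [finrank_span_triple a b w' ha hb hw', hH3]
        refine ⟨heq, ?_⟩
        exact det_eq_zero_of_line f hf a b hL ha hb w' hw' L' hL'2 (by rw [heq]; exact hL'H)
          hL'ne hL'F
      by_cases hs : s = 0
      · exfalso
        have ht : t ≠ 0 := by
          rintro rfl
          apply hw
          rw [hwz, ← hz', hs, zero_smul, zero_smul, add_zero, add_zero]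
          exact Submodule.add_mem _ (Submodule.smul_mem _ _ (Submodule.subset_span (by simp)))
            (Submodule.smul_mem _ _ (Submodule.subset_span (by simp)))
        have hd'H : d' ∈ H := by
          have : d' = t⁻¹ • (s • c' + t • d') := by
            rw [hs, zero_smul, zero_add, smul_smul, inv_mul_cancel₀ ht, one_smul]
          rw [this]
          exact H.smul_mem _ hw'H
        exact hμ₁ (hfinal d' hd'H hd'ab).2
      · have hwH' : c' + (s⁻¹ * t) • d' ∈ H := by
          have : c' + (s⁻¹ * t) • d' = s⁻¹ • (s • c' + t • d') := by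
            rw [smul_add, smul_smul, smul_smul, inv_mul_cancel₀ hs, one_smul]
          rw [this]
          exact H.smul_mem _ hw'H
        obtain ⟨h1, h2⟩ := hfinal _ hwH' (pencil_not_mem a b c' d' hc'ab hd' _)
        refine ⟨s⁻¹ * t, ?_, h1⟩
        show Polynomial.eval (s⁻¹ * t) (Delta f a b c' d') = 0
        rw [Delta_eval f hf]
        exact h2
    · rintro ⟨μ, hμ, rfl⟩
      have hw := pencil_not_mem a b c' d' hc'ab hd' μ
      refine ⟨finrank_span_triple a b _ ha hb hw,
        Submodule.span_mono (by intro z hz; simp at hz ⊢; tauto), ?_⟩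
      have hμ' : Polynomial.eval μ (Delta f a b c' d') = 0 := hμ
      rw [Delta_eval f hf] at hμ'
      exact exists_lines_of_det_eq_zero f hf a b hL ha hb hsm _ hw hμ'
  rw [hS, Set.ncard_image_of_injective _ hinj, hcard]

end counting

end Groth.Agent.Lib.H6xTritangent
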