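import Mathlib
import Groth.Agent.Lib.H6xTwC
import Groth.Agent.Lib.H6xBrgF
import Groth.Agent.Lib.H6xBrgC
import Groth.Agent.Lib.H6xLDD
set_option backward.isDefEq.respectTransparency.types false

/-!
# helper6: uniqueness of the invertible twist and shift of a dualizing complex
-/

set_option autoImplicit false
set_option linter.style.haveILetI false
universe u
open CategoryTheory CategoryTheory.Limits MonoidalCategory HomologicalComplex Pretriangulated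
attribute [local instance] HasDerivedCategory.standard

namespace Groth.Agent.Lib.H6xTw

open DerivedCategory DTen Groth.Agent.Lib.H6xDTen Groth.Agent.Lib.Helper1.KF Groth.Agent.Lib.Helper1.DT
  Groth.Agent.Lib.H6xPCev Groth.Agent.Lib.H6xBrg

variable {A : Type u} [CommRing A]

lemma isPerfect_inD_of_finite_projective (Q₀ : Type u) [AddCommGroup Q₀] [Module A Q₀]
    [Module.Finite A Q₀] [Module.Projective A Q₀] : DRing.IsPerfect A (Dual.inD A Q₀) := by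
  refine ⟨sgl (ModuleCat.of A Q₀), 0, 0, fun i hi => ?_, fun i => ?_, ⟨Iso.refl _⟩⟩
  · exact isZero_single_obj_X (ComplexShape.up ℤ) 0 _ i (by omega)
  · by_cases hq : i = 0
    · subst hq
      let l := (HomologicalComplex.singleObjXSelf (ComplexShape.up ℤ) 0
        (ModuleCat.of A Q₀)).toLinearEquiv
      exact ⟨Module.Finite.equiv l.symm, Module.Projective.of_equiv l.symm⟩
    · haveI := ModuleCat.subsingleton_of_isZero
        (isZero_single_obj_X (ComplexShape.up ℤ) 0 (ModuleCat.of A Q₀) i hq)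
      exact ⟨inferInstance, inferInstance⟩

variable [HasLTen A] [HasLTen₃ A] [IsSymMonoidal A] [HasRHom A]

attribute [local instance] monoidalD

/-- `RHom(ω, ω ⊗ᴸ W) ≅ W` for a perfect `W` when `A ≅ RHom(ω, ω)` -/
theorem nonempty_rhom_self_twist_iso (ω W : Dual.D A) [IsIso (cU ω)] (hW : DRing.IsPerfect A W) :
    Nonempty ((RHomR A ω).obj (tO ω W) ≅ W) := by
  obtain ⟨W', ⟨hp⟩⟩ := exists_exactPairing_of_isPerfect W hW
  letI := hp
  haveI := isIso_evalTen_of_exactPairing_left W W' ω ω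
  exact ⟨(RHomR A ω).mapIso (DTen.braiding W ω) ≪≫ (asIso (evalTen W ω ω)).symm ≪≫
    (LTen₂ A).mapIso (Iso.prod (Iso.refl W) (asIso (cU ω)).symm) ≪≫ DTen.rightUnitor W⟩

section Unique

variable (P P' : Type u) [AddCommGroup P] [Module A P] [Module.Invertible A P]
  [AddCommGroup P'] [Module A P'] [Module.Invertible A P']

/-- cancelling the twist by `P`: from `(ω ⊗ P)[n] ≅ (ω ⊗ P')[n']` to `ω[n] ≅ (ω ⊗ (P^∨ ⊗ P'))[n']` -/
theorem nonempty_cancel_twist (ω : Dual.D A) (n n' : ℤ)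
    (ψ : (tO ω (Dual.inD A P))⟦n⟧ ≅ (tO ω (Dual.inD A P'))⟦n'⟧) :
    Nonempty (ω⟦n⟧ ≅ (tO ω (Dual.inD A (TensorProduct A (Module.Dual A P) P')))⟦n'⟧) := by
  obtain ⟨a1⟩ := Groth.Agent.Lib.H6xPrj.nonempty_tO_shift_left (tO ω (Dual.inD A P))
    (Dual.inD A (Module.Dual A P)) n
  obtain ⟨b1⟩ := Groth.Agent.Lib.H6xPrj.nonempty_tO_shift_left (tO ω (Dual.inD A P'))
    (Dual.inD A (Module.Dual A P)) n'
  let a2 : (tO (tO ω (Dual.inD A P)) (Dual.inD A (Module.Dual A P)))⟦n⟧ ≅ ω⟦n⟧ :=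
    (shiftFunctor (Dual.D A) n).mapIso (θ (Dual.inD A P) (Dual.inD A (Module.Dual A P)) (eP P) ω)
  let b2 : tO (tO ω (Dual.inD A P')) (Dual.inD A (Module.Dual A P)) ≅
      tO ω (tO (Dual.inD A P') (Dual.inD A (Module.Dual A P))) :=
    DTen.associator ω (Dual.inD A P') (Dual.inD A (Module.Dual A P))
  let b3 : tO (Dual.inD A P') (Dual.inD A (Module.Dual A P)) ≅
      Dual.inD A (TensorProduct A (Module.Dual A P) P') :=
    tOInDIso (ModuleCat.of A P') (ModuleCat.of A (Module.Dual A P))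
  exact ⟨a2.symm ≪≫ a1.symm ≪≫
    (LTen₂ A).mapIso (Iso.prod ψ (Iso.refl (Dual.inD A (Module.Dual A P)))) ≪≫ b1 ≪≫
    (shiftFunctor (Dual.D A) n').mapIso (b2 ≪≫ (LTen₂ A).mapIso (Iso.prod (Iso.refl ω) b3))⟩

/-- `A[n] ≅ Q₀[n']` forces `n = n'` and `Q₀ ≅ A` -/
theorem eq_and_linearEquiv_of_shift_iso [Nontrivial A] (Q₀ : Type u) [AddCommGroup Q₀] [Module A Q₀]
    (n n' : ℤ) (κ : (Dual.inD A A)⟦n⟧ ≅ (Dual.inD A Q₀)⟦n'⟧) :
    n = n' ∧ Nonempty (A ≃ₗ[A] Q₀) := by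
  let h1 : (homologyFunctor (ModuleCat.{u} A) (-n)).obj ((Dual.inD A A)⟦n⟧) ≅
      (homologyFunctor (ModuleCat.{u} A) 0).obj (Dual.inD A A) :=
    ((homologyFunctor (ModuleCat.{u} A) 0).shiftIso n (-n) 0 (by omega)).app _
  have key : ∀ m : ℤ, m = n' + -n → Nonempty (Dual.HD A (Dual.inD A A) 0 ≃ₗ[A]
      Dual.HD A (Dual.inD A Q₀) m) := by
    rintro m rfl
    exact ⟨(h1.symm ≪≫ (homologyFunctor (ModuleCat.{u} A) (-n)).mapIso κ ≪≫
      ((homologyFunctor (ModuleCat.{u} A) 0).shiftIso n' (-n) (n' + -n) rfl).app _).toLinearEquiv⟩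
  have hm : n' + -n = 0 := by
    by_contra h
    obtain ⟨l⟩ := key _ rfl
    haveI := Groth.Agent.Lib.H6xLD.subsingleton_HD_inD (A := A) Q₀ (n' + -n) h
    haveI : Subsingleton A :=
      ((Groth.Agent.Lib.H6xLD.HDInDZeroEquiv (A := A) A).symm ≪≫ₗ l).toEquiv.subsingleton
    exact not_subsingleton A ‹_›
  obtain ⟨l⟩ := key 0 hm.symm
  exact ⟨by omega, ⟨(Groth.Agent.Lib.H6xLD.HDInDZeroEquiv (A := A) A).symm ≪≫ₗ l ≪≫ₗ
    Groth.Agent.Lib.H6xLD.HDInDZeroEquiv (A := A) Q₀⟩⟩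

/-- **uniqueness of twist and shift** -/
theorem twist_unique [Nontrivial A] (ω : Dual.D A) (hω : Dual.IsDualizing A ω) (n n' : ℤ)
    (ψ : (tO ω (Dual.inD A P))⟦n⟧ ≅ (tO ω (Dual.inD A P'))⟦n'⟧) :
    n = n' ∧ Nonempty (P ≃ₗ[A] P') := by
  haveI := isIso_cU ω hω
  obtain ⟨χ⟩ := nonempty_cancel_twist P P' ω n n' ψ
  obtain ⟨c1⟩ := nonempty_rhom_shift_iso ω ω n
  obtain ⟨c2⟩ := nonempty_rhom_shift_iso ω
    (tO ω (Dual.inD A (TensorProduct A (Module.Dual A P) P'))) n'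
  obtain ⟨c3⟩ := nonempty_rhom_self_twist_iso ω
    (Dual.inD A (TensorProduct A (Module.Dual A P) P'))
    (isPerfect_inD_of_finite_projective _)
  let κ : (Dual.inD A A)⟦n⟧ ≅ (Dual.inD A (TensorProduct A (Module.Dual A P) P'))⟦n'⟧ :=
    (shiftFunctor (Dual.D A) n).mapIso ((unitIsoInD (A := A)).symm ≪≫ asIso (cU ω)) ≪≫ c1.symm ≪≫
      (RHomR A ω).mapIso χ ≪≫ c2 ≪≫ (shiftFunctor (Dual.D A) n').mapIso c3
  obtain ⟨hn, ⟨l⟩⟩ := eq_and_linearEquiv_of_shift_iso _ n n' κ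
  refine ⟨hn, ⟨?_⟩⟩
  let e0 : TensorProduct A P (Module.Dual A P) ≃ₗ[A] A :=
    TensorProduct.comm A P (Module.Dual A P) ≪≫ₗ Module.Invertible.linearEquiv A P
  exact (TensorProduct.rid A P).symm ≪≫ₗ (LinearEquiv.lTensor P l) ≪≫ₗ
    Module.Invertible.leftCancelEquiv P' e0

end Unique

end Groth.Agent.Lib.H6xTw
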