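import Mathlib

/-!
# The divisor class group of a Noetherian UFD vanishes (helper6)
-/

set_option autoImplicit false
open CategoryTheory AlgebraicGeometry TopologicalSpace
universe u

namespace Groth.Agent.Lib.H6xUFDClass

section RingTheory

variable {A : Type u} [CommRing A] [IsDomain A] [IsNoetherianRing A] [UniqueFactorizationMonoid A]

lemma exists_prime_span_eq (P : Ideal A) [P.IsPrime] (h : P.height = 1) :
    ∃ π : A, Prime π ∧ Ideal.span {π} = P := by
  have hne : P ≠ ⊥ := by
    rintro rfl
    rw [Ideal.height_bot] at h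
    exact zero_ne_one h
  obtain ⟨π, hπP, hπ⟩ := Ideal.IsPrime.exists_mem_prime_of_ne_bot ‹_› hne
  haveI : (Ideal.span {π}).IsPrime := (Ideal.span_singleton_prime hπ.ne_zero).mpr hπ
  have hle : Ideal.span {π} ≤ P := (Ideal.span_singleton_le_iff_mem _).mpr hπP
  have hbot : (⊥ : Ideal A) < Ideal.span {π} :=
    bot_lt_iff_ne_bot.mpr (by simpa using hπ.ne_zero)
  have h1 : (⊥ : Ideal A).height < (Ideal.span {π}).height :=
    Ideal.height_strict_mono_of_isPrime_of_isPrime hbot
  have h2 : P.height ≤ (Ideal.span {π}).height := by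
    rw [h]
    exact Order.one_le_iff_pos.mpr (lt_of_le_of_lt bot_le h1)
  exact ⟨π, hπ, Ideal.eq_of_le_of_height_le _ hle h2⟩

omit [IsDomain A] [UniqueFactorizationMonoid A] in
lemma eq_of_le_of_height_one (P Q : Ideal A) [P.IsPrime] [Q.IsPrime] (hP : P.height = 1)
    (hQ : Q.height = 1) (h : P ≤ Q) : P = Q :=
  Ideal.eq_of_le_of_height_le _ h (by rw [hP, hQ])

end RingTheory

section Sch

variable (A : Type u) [CommRing A] [IsDomain A] [IsNoetherianRing A]

/-- the affine scheme -/
noncomputable abbrev XA : Scheme.{u} := Spec (CommRingCat.of A)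
/-- its function field -/
noncomputable abbrev KA : Type u := (XA A).functionField

/-- `A → K(X)` -/
noncomputable def iota : A →+* KA A := (StructureSheaf.toStalk A (genericPoint (XA A))).hom
/-- `A → O_{X,y}` -/
noncomputable def tau (y : XA A) : A →+* (XA A).presheaf.stalk y := (StructureSheaf.toStalk A y).hom

omit [IsNoetherianRing A] in
lemma kappa_tau (y : XA A) (a : A) :
    algebraMap ((XA A).presheaf.stalk y) (KA A) (tau A y a) = iota A a := by
  have hs : genericPoint (XA A) ⤳ y := (genericPoint_spec (XA A)).specializes trivial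
  have h := StructureSheaf.toStalk_stalkSpecializes (R := A) hs
  have h2 := congrArg (fun f => f.hom a) h
  exact h2

omit [IsNoetherianRing A] in
lemma iota_injective : Function.Injective (iota A) := by
  letI : Algebra A (KA A) := (iota A).toAlgebra
  haveI : IsFractionRing A (KA A) := by
    have := functionField_isFractionRing_of_affine (CommRingCat.of A)
    exact this
  exact IsFractionRing.injective A (KA A)

omit [IsNoetherianRing A] in
lemma tau_injective (y : XA A) : Function.Injective (tau A y) := by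
  intro a b h
  apply iota_injective A
  rw [← kappa_tau A y a, ← kappa_tau A y b, h]

omit [IsNoetherianRing A] [IsDomain A] in
lemma isUnit_tau_iff (y : XA A) (a : A) : IsUnit (tau A y a) ↔ a ∉ y.asIdeal := by
  letI : Algebra A ((XA A).presheaf.stalk y) := StructureSheaf.stalkAlgebra A y
  haveI : IsLocalization.AtPrime ((XA A).presheaf.stalk y) y.asIdeal :=
    StructureSheaf.IsLocalization.to_stalk A y
  exact IsLocalization.AtPrime.isUnit_to_map_iff ((XA A).presheaf.stalk y) y.asIdeal a

omit [IsNoetherianRing A] [IsDomain A] in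
lemma maximalIdeal_eq_map (y : XA A) :
    IsLocalRing.maximalIdeal ((XA A).presheaf.stalk y) = Ideal.map (tau A y) y.asIdeal := by
  letI : Algebra A ((XA A).presheaf.stalk y) := StructureSheaf.stalkAlgebra A y
  haveI : IsLocalization.AtPrime ((XA A).presheaf.stalk y) y.asIdeal :=
    StructureSheaf.IsLocalization.to_stalk A y
  exact (IsLocalization.AtPrime.map_eq_maximalIdeal y.asIdeal ((XA A).presheaf.stalk y)).symm

lemma ordHom_of_not_mem (y : XA A) (hy : Order.coheight y = 1) (a : A) (ha : a ∉ y.asIdeal) :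
    Scheme.ordHom y hy (iota A a) = 1 := by
  rw [← kappa_tau A y a]
  haveI : Ring.KrullDimLE 1 ((XA A).presheaf.stalk y) := krullDimLE_of_coheight_le hy.le
  exact Ring.ordFrac_of_isUnit ((isUnit_tau_iff A y a).mpr ha)

lemma ordHom_of_span_eq (y : XA A) (hy : Order.coheight y = 1) (π : A) (hπ0 : π ≠ 0)
    (hπ : Ideal.span {π} = y.asIdeal) :
    Scheme.ordHom y hy (iota A π) = WithZero.exp 1 := by
  rw [← kappa_tau A y π]
  have hmax : IsLocalRing.maximalIdeal ((XA A).presheaf.stalk y) = Ideal.span {tau A y π} := by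
    rw [maximalIdeal_eq_map, ← hπ, Ideal.map_span, Set.image_singleton]
  have hne : tau A y π ≠ 0 := fun h => hπ0 (tau_injective A y (h.trans (map_zero _).symm))
  have hnf : ¬ IsField ((XA A).presheaf.stalk y) := by
    rw [IsLocalRing.isField_iff_maximalIdeal_eq, hmax]
    simpa using hne
  haveI : IsDiscreteValuationRing ((XA A).presheaf.stalk y) := by
    have h := (IsDiscreteValuationRing.TFAE ((XA A).presheaf.stalk y) hnf).out 0 4
    rw [h, hmax]
    exact ⟨⟨_, rfl⟩⟩
  have hirr : Irreducible (tau A y π) :=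
    (IsDiscreteValuationRing.irreducible_iff_uniformizer _).mpr hmax
  exact Ring.ordFrac_irreducible hirr

theorem main [UniqueFactorizationMonoid A] (D : XA A → ℤ)
    (hD : ∀ x, Order.coheight x ≠ 1 → D x = 0) (hfin : {x | D x ≠ 0}.Finite) :
    ∃ f : KA A, f ≠ 0 ∧ ∀ x : XA A, Order.coheight x = 1 → Scheme.ord f x = D x := by
  classical
  have hht : ∀ x : XA A, Order.coheight x = 1 → x.asIdeal.height = 1 := fun x hx => by
    rw [idealHeight_eq_coheight (CommRingCat.of A) x, hx]
  have hex : ∀ x : XA A, Order.coheight x = 1 →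
      ∃ π : A, Prime π ∧ Ideal.span {π} = x.asIdeal := fun x hx =>
    exists_prime_span_eq x.asIdeal (hht x hx)
  let π : XA A → A := fun x =>
    if hx : Order.coheight x = 1 then Classical.choose (hex x hx) else 1
  have hπ : ∀ x (hx : Order.coheight x = 1), Prime (π x) ∧ Ideal.span {π x} = x.asIdeal := by
    intro x hx
    simp only [π, dif_pos hx]
    exact Classical.choose_spec (hex x hx)
  have hπ0 : ∀ x, π x ≠ 0 := by
    intro x
    by_cases hx : Order.coheight x = 1
    · exact (hπ x hx).1.ne_zero
    · simp only [π, dif_neg hx]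
      exact one_ne_zero
  have hι0 : ∀ x, iota A (π x) ≠ 0 := fun x =>
    (map_ne_zero_iff _ (iota_injective A)).mpr (hπ0 x)
  let f : KA A := ∏ x ∈ hfin.toFinset, (iota A (π x)) ^ (D x)
  have hf0 : f ≠ 0 := Finset.prod_ne_zero_iff.mpr (fun x _ => zpow_ne_zero _ (hι0 x))
  refine ⟨f, hf0, ?_⟩
  intro y hy
  rw [Scheme.ord_eq_iff hy hf0]
  change Scheme.ordHom y hy (∏ x ∈ hfin.toFinset, (iota A (π x)) ^ (D x)) = _
  rw [map_prod]
  simp only [map_zpow₀]
  have hfac : ∀ x ∈ hfin.toFinset, (Scheme.ordHom y hy (iota A (π x))) ^ (D x) =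
      if x = y then (WithZero.exp (1 : ℤ)) ^ (D y) else 1 := by
    intro x hx
    have hDx : D x ≠ 0 := by simpa using hx
    have hcx : Order.coheight x = 1 := by
      by_contra h
      exact hDx (hD x h)
    by_cases hxy : x = y
    · subst hxy
      rw [if_pos rfl, ordHom_of_span_eq A x hy (π x) (hπ0 x) (hπ x hcx).2]
    · rw [if_neg hxy, ordHom_of_not_mem A y hy (π x), one_zpow]
      intro hmem
      apply hxy
      have hle : x.asIdeal ≤ y.asIdeal := by
        rw [← (hπ x hcx).2]
        exact (Ideal.span_singleton_le_iff_mem _).mpr hmem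
      have := eq_of_le_of_height_one x.asIdeal y.asIdeal (hht x hcx) (hht y hy) hle
      exact PrimeSpectrum.ext this
  rw [Finset.prod_congr rfl hfac, Finset.prod_ite_eq']
  by_cases hyD : y ∈ hfin.toFinset
  · rw [if_pos hyD, ← WithZero.exp_zsmul, smul_eq_mul, mul_one]
    rfl
  · rw [if_neg hyD]
    have : D y = 0 := by simpa using hyD
    rw [this]
    rfl

end Sch

end Groth.Agent.Lib.H6xUFDClass
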