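/-
H6xUnramIntModel (helper6): a finitely presented formally unramified `R`-algebra `S` descends to a
finite type `ℤ`-subalgebra `R₀ ⊆ R`: there is a finitely presented formally unramified
`R₀`-algebra `S₀` with `R ⊗[R₀] S₀ ≃ₐ[R] S`.
-/
import Mathlib
import Groth.Agent.Lib.Helper14UnramModel

set_option autoImplicit false
universe u

namespace Groth.Agent.Lib.H6xUnramIntModel

open TensorProduct MvPolynomial Groth.Agent.Lib.Helper14.UnramModel

theorem main (R : Type u) [CommRing R] (S : Type u) [CommRing S]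
    [Algebra R S] [Algebra.FinitePresentation R S] [Algebra.FormallyUnramified R S] :
    ∃ (R₀ : Type u) (_ : CommRing R₀) (_ : Algebra.FiniteType ℤ R₀) (S₀ : Type u) (_ : CommRing S₀)
      (_ : Algebra R₀ S₀) (_ : Algebra.FinitePresentation R₀ S₀) (_ : Algebra.FormallyUnramified R₀ S₀)
      (_ : Algebra R₀ R), Nonempty (R ⊗[R₀] S₀ ≃ₐ[R] S) := by
  classical
  let P := Algebra.Presentation.ofFinitePresentation R S
  set n := Algebra.Presentation.ofFinitePresentationVars R S with hn
  set m := Algebra.Presentation.ofFinitePresentationRels R S with hm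
  letI : Algebra (MvPolynomial (Fin n) R) S := inferInstanceAs (Algebra P.Ring S)
  haveI : IsScalarTower R (MvPolynomial (Fin n) R) S := inferInstanceAs (IsScalarTower R P.Ring S)
  have hsurj : Function.Surjective (algebraMap (MvPolynomial (Fin n) R) S) :=
    P.algebraMap_surjective
  have hker : RingHom.ker (algebraMap (MvPolynomial (Fin n) R) S) =
      Ideal.span (Set.range P.relation) := P.span_range_relation_eq_ker.symm
  choose h hmem hpd using exists_ker_pderiv (R := R) (S := S) (n := n) hsurj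
  have hpd' : ∀ i k, pderiv k (X i - h i) ∈ Ideal.span (Set.range P.relation) := by
    intro i k
    rw [← hker, RingHom.mem_ker]
    exact hpd i k
  have hmem' : ∀ i, h i ∈ Ideal.span (Set.range P.relation) := by
    intro i
    rw [← hker]
    exact hmem i
  simp_rw [Ideal.mem_span_range_iff_exists_fun] at hpd' hmem'
  choose a ha using hmem'
  choose b hb using hpd'
  -- the coefficient set
  let T : Set R := P.coeffs ∪ (⋃ i, ⋃ j, ((a i j).coeffs : Set R)) ∪
    (⋃ i, ⋃ k, ⋃ j, ((b i k j).coeffs : Set R))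
  have hT : T.Finite := by
    refine Set.Finite.union (Set.Finite.union P.finite_coeffs ?_) ?_
    · exact Set.finite_iUnion fun _ => Set.finite_iUnion fun _ => Finset.finite_toSet _
    · exact Set.finite_iUnion fun _ => Set.finite_iUnion fun _ => Set.finite_iUnion fun _ =>
        Finset.finite_toSet _
  let R₀ : Subalgebra ℤ R := Algebra.adjoin ℤ T
  have hR₀ : Algebra.FiniteType ℤ R₀ := Algebra.FiniteType.adjoin_of_finite hT
  have hsub : T ⊆ Set.range (algebraMap R₀ R) := by
    intro x hx
    exact ⟨⟨x, Algebra.subset_adjoin hx⟩, rfl⟩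
  have : P.HasCoeffs R₀ := ⟨fun x hx => hsub (Or.inl (Or.inl hx))⟩
  have hinj : Function.Injective (MvPolynomial.map (σ := Fin n) (algebraMap R₀ R)) :=
    MvPolynomial.map_injective _ Subtype.val_injective
  have ha₀ : ∀ i j, a i j ∈ Set.range (MvPolynomial.map (algebraMap R₀ R)) := by
    intro i j
    rw [MvPolynomial.mem_range_map_iff_coeffs_subset]
    intro c hc
    exact hsub (Or.inl (Or.inr (Set.mem_iUnion.2 ⟨i, Set.mem_iUnion.2 ⟨j, hc⟩⟩)))
  have hb₀ : ∀ i k j, b i k j ∈ Set.range (MvPolynomial.map (algebraMap R₀ R)) := by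
    intro i k j
    rw [MvPolynomial.mem_range_map_iff_coeffs_subset]
    intro c hc
    exact hsub (Or.inr (Set.mem_iUnion.2 ⟨i, Set.mem_iUnion.2 ⟨k, Set.mem_iUnion.2 ⟨j, hc⟩⟩⟩))
  choose a₀ haa using ha₀
  choose b₀ hbb using hb₀
  let I₀ : Ideal (MvPolynomial (Fin n) R₀) := Ideal.span (Set.range (P.relationOfHasCoeffs R₀))
  let h₀ : Fin n → MvPolynomial (Fin n) R₀ := fun i => ∑ j, a₀ i j * P.relationOfHasCoeffs R₀ j
  have hh₀ : ∀ i, MvPolynomial.map (algebraMap R₀ R) (h₀ i) = h i := by
    intro i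
    simp only [h₀, map_sum, map_mul, haa, P.map_relationOfHasCoeffs]
    exact ha i
  have hI : ∀ i, h₀ i ∈ I₀ := by
    intro i
    refine Ideal.sum_mem _ fun j _ => Ideal.mul_mem_left _ _ (Ideal.subset_span ⟨j, rfl⟩)
  have hI' : ∀ i k, pderiv k (X i - h₀ i) ∈ I₀ := by
    intro i k
    have : pderiv k (X i - h₀ i) = ∑ j, b₀ i k j * P.relationOfHasCoeffs R₀ j := by
      apply hinj
      rw [← MvPolynomial.pderiv_map, map_sub, MvPolynomial.map_X, hh₀]
      simp only [map_sum, map_mul, hbb, P.map_relationOfHasCoeffs]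
      exact (hb i k).symm
    rw [this]
    refine Ideal.sum_mem _ fun j _ => Ideal.mul_mem_left _ _ (Ideal.subset_span ⟨j, rfl⟩)
  have hunr : Algebra.FormallyUnramified R₀ (P.ModelOfHasCoeffs R₀) :=
    formallyUnramified_quotient I₀ h₀ hI hI'
  exact ⟨R₀, inferInstance, hR₀, P.ModelOfHasCoeffs R₀, inferInstance, inferInstance,
    inferInstance, hunr, inferInstance, ⟨P.tensorModelOfHasCoeffsEquiv R₀⟩⟩

end Groth.Agent.Lib.H6xUnramIntModel
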