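import Mathlib

/-!
# Descent of linear retractions along faithfully flat maps (helper6)

* `mem_range_of_baseChange`: solvability of a linear system descends along a faithfully flat map.
* `exists_linearMap_of_faithfullyFlat`: for `P` Noetherian, `M` a finite `P`-module, `A` a
  `P`-algebra and `B` a faithfully flat `A`-algebra: a `P`-linear `w : M → B` with `w m₀ = 1`
  yields a `P`-linear `v : M → A` with `v m₀ = 1`.
-/

set_option autoImplicit false

open TensorProduct

namespace Groth.Agent.Lib.H6xW2Desc

theorem mem_range_of_baseChange {A B X Q : Type*} [CommRing A] [CommRing B] [Algebra A B]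
    [Module.FaithfullyFlat A B] [AddCommGroup X] [Module A X] [AddCommGroup Q] [Module A Q]
    (L : X →ₗ[A] Q) (y : Q)
    (h : (1 : B) ⊗ₜ[A] y ∈ LinearMap.range (L.baseChange B)) : y ∈ LinearMap.range L := by
  have h0 : (LinearMap.range L).mkQ y = 0 := by
    apply Module.FaithfullyFlat.tensorProduct_mk_injective (A := A) (B := B)
      (Q ⧸ LinearMap.range L)
    rw [map_zero, TensorProduct.mk_apply]
    obtain ⟨z, hz⟩ := h
    have h1 : ((LinearMap.range L).mkQ.baseChange B) ((1 : B) ⊗ₜ[A] y) =
        (1 : B) ⊗ₜ[A] ((LinearMap.range L).mkQ y) := LinearMap.baseChange_tmul _ _ _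
    rw [← h1, ← hz, ← LinearMap.comp_apply, ← LinearMap.baseChange_comp]
    have h2 : (LinearMap.range L).mkQ ∘ₗ L = 0 := by
      ext x
      simp
    rw [h2, LinearMap.baseChange_zero, LinearMap.zero_apply]
  exact (Submodule.Quotient.mk_eq_zero _).mp h0

theorem exists_linearMap_of_faithfullyFlat
    {P : Type*} [CommRing P] [IsNoetherianRing P]
    {A B : Type*} [CommRing A] [CommRing B] [Algebra P A] [Algebra A B] [Algebra P B]
    [IsScalarTower P A B] [Module.FaithfullyFlat A B]
    {M : Type*} [AddCommGroup M] [Module P M] [Module.Finite P M] (m₀ : M)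
    (w : M →ₗ[P] B) (hw : w m₀ = 1) : ∃ v : M →ₗ[P] A, v m₀ = 1 := by
  classical
  obtain ⟨s, Λ, hΛ⟩ := Module.Finite.exists_fin' P M
  have hfg : (LinearMap.ker Λ).FG := IsNoetherian.noetherian _
  obtain ⟨r, σ, hσ⟩ := Submodule.fg_iff_exists_fin_generating_family.mp hfg
  obtain ⟨c, hc⟩ := hΛ m₀
  -- the coefficient family
  let coef : Option (Fin r) → Fin s → P := fun o => o.elim c σ
  have hcoef_none : Λ (coef none) = m₀ := hc
  have hcoef_some : ∀ j, Λ (coef (some j)) = 0 := by
    intro j
    have : σ j ∈ LinearMap.ker Λ := by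
      rw [← hσ]
      exact Submodule.subset_span ⟨j, rfl⟩
    exact this
  let Mat : Matrix (Option (Fin r)) (Fin s) A := fun o i => algebraMap P A (coef o i)
  let L : (Fin s → A) →ₗ[A] (Option (Fin r) → A) := Matrix.mulVecLin Mat
  let y : Option (Fin r) → A := Pi.single none 1
  have hy : y ∈ LinearMap.range L := by
    apply mem_range_of_baseChange (B := B) L y
    refine ⟨∑ i, (w (Λ (Pi.single i 1))) ⊗ₜ[A] (Pi.single i (1 : A) : Fin s → A), ?_⟩
    apply (TensorProduct.piScalarRight A B B (Option (Fin r))).injective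
    rw [map_sum, map_sum]
    funext o
    simp only [LinearMap.baseChange_tmul, TensorProduct.piScalarRight_apply,
      TensorProduct.piScalarRightHom_tmul, Finset.sum_apply]
    have h1 : ∀ i, L (Pi.single i (1 : A)) o = algebraMap P A (coef o i) := by
      intro i
      simp [L, Mat, Matrix.mulVec_single]
    have h2 : ∑ i, L (Pi.single i (1 : A)) o • w (Λ (Pi.single i 1)) = w (Λ (coef o)) := by
      have h3 : coef o = ∑ i, coef o i • (Pi.single i (1 : P) : Fin s → P) := by
        funext j
        simp [Finset.sum_apply, Pi.single_apply]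
      conv_rhs => rw [h3]
      rw [map_sum, map_sum]
      refine Finset.sum_congr rfl fun i _ => ?_
      rw [h1, map_smul, map_smul, algebraMap_smul]
    rw [h2]
    cases o with
    | none =>
      rw [hcoef_none, hw]
      simp [y]
    | some j =>
      rw [hcoef_some, map_zero]
      simp [y]
  obtain ⟨n, hn⟩ := hy
  let vt : (Fin s → P) →ₗ[P] A := Fintype.linearCombination P n
  have hvt : ∀ o, vt (coef o) = y o := by
    intro o
    rw [← hn]
    simp only [vt, Fintype.linearCombination_apply, L, Matrix.mulVecLin_apply, Matrix.mulVec,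
      dotProduct, Mat, Algebra.smul_def]
  have hker : LinearMap.ker Λ ≤ LinearMap.ker vt := by
    rw [← hσ, Submodule.span_le]
    rintro _ ⟨j, rfl⟩
    have := hvt (some j)
    simpa [y, coef] using this
  refine ⟨((LinearMap.ker Λ).liftQ vt hker) ∘ₗ
    (Λ.quotKerEquivOfSurjective hΛ).symm.toLinearMap, ?_⟩
  have h4 : (Λ.quotKerEquivOfSurjective hΛ).symm m₀ = Submodule.Quotient.mk c := by
    rw [LinearEquiv.symm_apply_eq, ← hc]
    rfl
  rw [LinearMap.comp_apply, LinearEquiv.coe_coe, h4, Submodule.liftQ_apply]
  have := hvt none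
  simpa [y, coef] using this

end Groth.Agent.Lib.H6xW2Desc
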