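import Mathlib
import Groth.Agent.Lib.Helper5W2Lift
import Groth.Agent.Lib.H9FrobEt155
import Groth.Agent.Lib.H6xW2DescA

/-!
# Flat liftings over `W₂(k)` descend along faithfully flat maps (helper6)

For a surjection `P → A` of `W₂(k)`-algebras with kernel `K`, a `P`-linear map `v : K → A` with
`v p = 1` gives the flat lifting `P/ker v` of `A`; conversely a flat lifting `B'` of a faithfully
flat `A`-algebra `B` and a map `P → B'` over `A → B` give a `P`-linear map `K → B` with `p ↦ 1`,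
which descends to `A` when `P` is Noetherian.
-/

set_option autoImplicit false
universe u

namespace Groth.Agent.Lib.H6xW2Desc

open Groth.Agent.Lib.Helper5 Groth.Agent.Lib.Helper5.W2Lift MvPolynomial

variable {p : ℕ} [hp : Fact p.Prime] {k : Type u} [Field k] [CharP k p] [PerfectRing k p]

theorem isNoetherianRing_W2 : IsNoetherianRing (FrobAlg.W2 p k) := by
  haveI := W2.isLocalRing p k
  rw [isNoetherianRing_iff_ideal_fg]
  intro I
  by_cases h1 : I = ⊤
  · rw [h1]
    exact ⟨{1}, by simp⟩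
  by_cases h0 : I = ⊥
  · rw [h0]
    exact Submodule.fg_bot
  have hle : I ≤ Ideal.span {((p : ℕ) : FrobAlg.W2 p k)} := by
    rw [← W2.maximalIdeal_eq]
    exact IsLocalRing.le_maximalIdeal h1
  have hI : I = Ideal.span {((p : ℕ) : FrobAlg.W2 p k)} := by
    refine le_antisymm hle ?_
    obtain ⟨x, hx, hx0⟩ := Submodule.exists_mem_ne_zero_of_ne_bot h0
    obtain ⟨u, rfl⟩ := Ideal.mem_span_singleton'.mp (hle hx)
    have hu : IsUnit u := by
      by_contra hnu
      have hmem : u ∈ IsLocalRing.maximalIdeal (FrobAlg.W2 p k) :=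
        (IsLocalRing.mem_maximalIdeal u).mpr hnu
      rw [W2.maximalIdeal_eq] at hmem
      obtain ⟨t, rfl⟩ := Ideal.mem_span_singleton'.mp hmem
      apply hx0
      rw [mul_assoc, W2.p_sq_eq_zero, mul_zero]
    rw [Ideal.span_singleton_le_iff_mem]
    have h2 := I.mul_mem_left (↑hu.unit⁻¹ : FrobAlg.W2 p k) hx
    rwa [← mul_assoc, IsUnit.val_inv_mul, one_mul] at h2
  rw [hI]
  exact Submodule.fg_span_singleton _

section Spl

variable {A : Type u} [CommRing A] [Algebra k A] {P : Type u} [CommRing P] [Algebra P A]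
  (ιP : FrobAlg.W2 p k →+* P)
  (hsurj : Function.Surjective (algebraMap P A))
  (hcomm : (algebraMap P A).comp ιP = (algebraMap k A).comp (FrobAlg.res p k))
  (v : RingHom.ker (algebraMap P A) →ₗ[P] A)

/-- the ideal of `P` cut out by a linear form on the kernel -/
def J : Ideal P := Submodule.map (RingHom.ker (algebraMap P A)).subtype (LinearMap.ker v)

theorem mem_J (f : P) : f ∈ J v ↔ ∃ h : f ∈ RingHom.ker (algebraMap P A), v ⟨f, h⟩ = 0 := by
  constructor
  · rintro ⟨⟨f', hf'⟩, hv, rfl⟩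
    exact ⟨hf', hv⟩
  · rintro ⟨h, hv⟩
    exact ⟨⟨f, h⟩, hv, rfl⟩

theorem J_le : J v ≤ RingHom.ker (algebraMap P A) := by
  intro f hf
  obtain ⟨h, -⟩ := (mem_J v f).mp hf
  exact h

/-- the reduction map of the lifting `P/J` -/
noncomputable def πJ : P ⧸ J v →+* A := Ideal.Quotient.lift (J v) (algebraMap P A) (J_le v)

theorem πJ_mk (f : P) : πJ v (Ideal.Quotient.mk _ f) = algebraMap P A f := rfl

include hsurj hcomm in
theorem isLift_of_linearMap
    (hp1 : ∀ h : ((p : ℕ) : P) ∈ RingHom.ker (algebraMap P A), v ⟨((p : ℕ) : P), h⟩ = 1) :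
    FrobAlg.IsLift p k A (P ⧸ J v) ((Ideal.Quotient.mk (J v)).comp ιP) (πJ v) := by
  have hpK : ((p : ℕ) : P) ∈ RingHom.ker (algebraMap P A) := by
    rw [RingHom.mem_ker, map_natCast, ← map_natCast (algebraMap k A), CharP.cast_eq_zero, map_zero]
  have hvp := hp1 hpK
  refine isLift_of ?_ ?_ ?_ ?_
  · intro a
    obtain ⟨f, rfl⟩ := hsurj a
    exact ⟨Ideal.Quotient.mk _ f, rfl⟩
  · ext w
    exact RingHom.congr_fun hcomm w
  · intro b hb
    obtain ⟨f, rfl⟩ := Ideal.Quotient.mk_surjective b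
    rw [πJ_mk] at hb
    have hfK : f ∈ RingHom.ker (algebraMap P A) := hb
    obtain ⟨f', hf'⟩ := hsurj (v ⟨f, hfK⟩)
    refine ⟨Ideal.Quotient.mk _ f', ?_⟩
    rw [← map_natCast (Ideal.Quotient.mk (J v)), ← map_mul, Ideal.Quotient.eq, mem_J]
    have hmem : f - ((p : ℕ) : P) * f' ∈ RingHom.ker (algebraMap P A) :=
      Ideal.sub_mem _ hfK (Ideal.mul_mem_right _ _ hpK)
    refine ⟨hmem, ?_⟩
    have h1 : (⟨f - ((p : ℕ) : P) * f', hmem⟩ : RingHom.ker (algebraMap P A)) =
        ⟨f, hfK⟩ - f' • ⟨((p : ℕ) : P), hpK⟩ := by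
      apply Subtype.ext
      simp [mul_comm]
    rw [h1, map_sub, map_smul, hvp, Algebra.smul_def, mul_one, hf', sub_self]
  · intro b hb
    obtain ⟨f, rfl⟩ := Ideal.Quotient.mk_surjective b
    rw [← map_natCast (Ideal.Quotient.mk (J v)), ← map_mul, Ideal.Quotient.eq_zero_iff_mem,
      mem_J] at hb
    obtain ⟨h, hv⟩ := hb
    have h1 : (⟨((p : ℕ) : P) * f, h⟩ : RingHom.ker (algebraMap P A)) =
        f • ⟨((p : ℕ) : P), hpK⟩ := by
      apply Subtype.ext
      simp [mul_comm]
    rw [h1, map_smul, hvp, Algebra.smul_def, mul_one] at hv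
    rw [πJ_mk]
    exact hv

end Spl

section FromLift

variable {A B : Type u} [CommRing A] [CommRing B] [Algebra k A] [Algebra k B] [Algebra A B]
  {P : Type u} [CommRing P] [Algebra P A] [Algebra P B] [IsScalarTower P A B]
  {B' : Type u} [CommRing B'] {ιB : FrobAlg.W2 p k →+* B'} {πB : B' →+* B}
  (hB : FrobAlg.IsLift p k B B' ιB πB)
  (ψ : P →+* B') (hψ : πB.comp ψ = algebraMap P B)

include hψ in
theorem πB_ψ_eq_zero (f : RingHom.ker (algebraMap P A)) : πB (ψ f.1) = 0 := by
  have h1 : πB (ψ f.1) = algebraMap P B f.1 := RingHom.congr_fun hψ f.1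
  rw [h1, IsScalarTower.algebraMap_apply P A B, (RingHom.mem_ker).mp f.2, map_zero]

/-- the function underlying `wOf` -/
noncomputable def wFun (f : RingHom.ker (algebraMap P A)) : B :=
  (exists_mu_eq hB (πB_ψ_eq_zero ψ hψ f)).choose

theorem mu_wFun (f : RingHom.ker (algebraMap P A)) : mu hB (wFun hB ψ hψ f) = ψ f.1 :=
  (exists_mu_eq hB (πB_ψ_eq_zero ψ hψ f)).choose_spec

/-- the linear form `K → B` attached to a map to a lifting of `B` -/
noncomputable def wOf : RingHom.ker (algebraMap P A) →ₗ[P] B where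
  toFun := wFun hB ψ hψ
  map_add' f g := by
    apply mu_injective hB
    rw [mu_add, mu_wFun, mu_wFun, mu_wFun]
    simp
  map_smul' c f := by
    apply mu_injective hB
    have h1 : πB (ψ c) = algebraMap P B c := RingHom.congr_fun hψ c
    rw [RingHom.id_apply, Algebra.smul_def, ← h1, ← mul_mu, mu_wFun, mu_wFun]
    simp

theorem mu_wOf (f : RingHom.ker (algebraMap P A)) : mu hB (wOf hB ψ hψ f) = ψ f.1 :=
  mu_wFun hB ψ hψ f

theorem wOf_p (h : ((p : ℕ) : P) ∈ RingHom.ker (algebraMap P A)) :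
    wOf hB ψ hψ ⟨((p : ℕ) : P), h⟩ = 1 := by
  apply mu_injective hB
  rw [mu_wOf, map_natCast]
  have := mu_pi hB (1 : B')
  rw [map_one, mul_one] at this
  exact this.symm

end FromLift

end Groth.Agent.Lib.H6xW2Desc
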