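import Mathlib
import Groth.Agent.Lib.H6xW2DescB

/-!
# Flat liftings over `W₂(k)` descend along faithfully flat maps: the main theorem (helper6)
-/

set_option autoImplicit false
universe u

namespace Groth.Agent.Lib.H6xW2Desc

open Groth.Agent.Lib.Helper5 Groth.Agent.Lib.Helper5.W2Lift MvPolynomial

section Pres

variable (p : ℕ) [hp : Fact p.Prime] (k : Type u) [Field k] [CharP k p] [PerfectRing k p]
  (A : Type u) [CommRing A] [Algebra k A] (σ : Finset A)

/-- the polynomial ring over `W₂(k)` on the finite set `σ ⊆ A` -/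
abbrev P₁ : Type u := MvPolynomial σ (FrobAlg.W2 p k)

/-- evaluation `W₂(k)[σ] → A` -/
noncomputable def ρ₁ : P₁ p k A σ →+* A :=
  MvPolynomial.eval₂Hom ((algebraMap k A).comp (FrobAlg.res p k)) (fun i => (i : A))

/-- the polynomials whose value in `A` is a unit -/
noncomputable def Sg : Submonoid (P₁ p k A σ) := (IsUnit.submonoid A).comap (ρ₁ p k A σ)

/-- the localized polynomial ring -/
abbrev PP : Type u := Localization (Sg p k A σ)

theorem isUnit_ρ₁ (y : Sg p k A σ) : IsUnit (ρ₁ p k A σ y) := (IsUnit.mem_submonoid_iff _).mp y.2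

/-- the evaluation map on the localization -/
noncomputable def ρ : PP p k A σ →+* A :=
  IsLocalization.lift (M := Sg p k A σ) (g := ρ₁ p k A σ) (isUnit_ρ₁ p k A σ)

theorem ρ_algebraMap (f : P₁ p k A σ) :
    ρ p k A σ (algebraMap (P₁ p k A σ) (PP p k A σ) f) = ρ₁ p k A σ f :=
  IsLocalization.lift_eq _ _

omit [CharP k p] [PerfectRing k p] in
theorem res_surjective : Function.Surjective (FrobAlg.res p k) := by
  intro a
  refine ⟨TruncatedWittVector.mk p ![a, 0], ?_⟩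
  rw [FrobAlg.res_apply, TruncatedWittVector.coeff_mk]
  rfl

omit [CharP k p] [PerfectRing k p] in
theorem exists_ρ₁_eq (t : A) (ht : t ∈ Algebra.adjoin k (σ : Set A)) :
    ∃ g : P₁ p k A σ, ρ₁ p k A σ g = t := by
  induction ht using Algebra.adjoin_induction with
  | mem x hx =>
    refine ⟨X ⟨x, hx⟩, ?_⟩
    simp [ρ₁]
  | algebraMap c =>
    obtain ⟨w, rfl⟩ := res_surjective p k c
    refine ⟨C w, ?_⟩
    simp [ρ₁]
  | add x y _ _ hx hy =>
    obtain ⟨f, rfl⟩ := hx
    obtain ⟨g, rfl⟩ := hy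
    exact ⟨f + g, map_add _ _ _⟩
  | mul x y _ _ hx hy =>
    obtain ⟨f, rfl⟩ := hx
    obtain ⟨g, rfl⟩ := hy
    exact ⟨f * g, map_mul _ _ _⟩

theorem ρ_surjective
    (hσ : ∀ s : A, ∃ t ∈ Algebra.adjoin k (σ : Set A),
      IsUnit t ∧ s * t ∈ Algebra.adjoin k (σ : Set A)) :
    Function.Surjective (ρ p k A σ) := by
  intro a
  obtain ⟨t, ht, htu, hat⟩ := hσ a
  obtain ⟨g, hg⟩ := exists_ρ₁_eq p k A σ t ht
  obtain ⟨f, hf⟩ := exists_ρ₁_eq p k A σ (a * t) hat
  have hgS : g ∈ Sg p k A σ := by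
    change ρ₁ p k A σ g ∈ IsUnit.submonoid A
    rw [hg]
    exact htu
  refine ⟨IsLocalization.mk' (PP p k A σ) f ⟨g, hgS⟩, ?_⟩
  rw [ρ, IsLocalization.lift_mk'_spec, hf, hg, mul_comm]

/-- the structure map `W₂(k) → PP` -/
noncomputable def ιP : FrobAlg.W2 p k →+* PP p k A σ :=
  (algebraMap (P₁ p k A σ) (PP p k A σ)).comp C

theorem ρ_comp_ιP :
    (ρ p k A σ).comp (ιP p k A σ) = (algebraMap k A).comp (FrobAlg.res p k) := by
  refine RingHom.ext fun w => ?_
  rw [RingHom.comp_apply, ιP, RingHom.comp_apply, ρ_algebraMap, ρ₁, MvPolynomial.coe_eval₂Hom,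
    MvPolynomial.eval₂_C]

theorem isNoetherianRing_PP : IsNoetherianRing (PP p k A σ) := by
  haveI : IsNoetherianRing (FrobAlg.W2 p k) := isNoetherianRing_W2
  haveI : IsNoetherianRing (P₁ p k A σ) := MvPolynomial.isNoetherianRing
  exact IsLocalization.isNoetherianRing (Sg p k A σ) (PP p k A σ) inferInstance

variable {p k A}
variable {B : Type u} [CommRing B] [Algebra k B] [Algebra A B] [IsScalarTower k A B]
  {B' : Type u} [CommRing B'] {ιB : FrobAlg.W2 p k →+* B'} {πB : B' →+* B}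
  (hB : FrobAlg.IsLift p k B B' ιB πB)

/-- a lift `W₂(k)[σ] → B'` of `W₂(k)[σ] → A → B` -/
noncomputable def ψ₁ : P₁ p k A σ →+* B' :=
  MvPolynomial.eval₂Hom ιB (fun i => (hB.surj (algebraMap A B (i : A))).choose)

omit [PerfectRing k p] in
theorem πB_ψ₁ : πB.comp (ψ₁ σ hB) = (algebraMap A B).comp (ρ₁ p k A σ) := by
  apply MvPolynomial.ringHom_ext
  · intro w
    have h1 : πB (ιB w) = algebraMap k B (FrobAlg.res p k w) := RingHom.congr_fun hB.comm w
    simp only [RingHom.comp_apply, ψ₁, ρ₁, MvPolynomial.coe_eval₂Hom, MvPolynomial.eval₂_C, h1]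
    rw [← IsScalarTower.algebraMap_apply]
  · intro i
    simp only [RingHom.comp_apply, ψ₁, ρ₁, MvPolynomial.coe_eval₂Hom, MvPolynomial.eval₂_X]
    exact (hB.surj (algebraMap A B (i : A))).choose_spec

include hB in
theorem ker_πB_sq : RingHom.ker πB ^ 2 = ⊥ := by
  rw [W2Lift.ker_eq hB, Ideal.span_singleton_pow, Ideal.span_singleton_eq_bot, pow_two]
  exact W2Lift.p_mul_p hB

theorem isUnit_ψ₁ (y : Sg p k A σ) : IsUnit (ψ₁ σ hB y) := by
  apply Groth.Agent.Lib.H9FrobEt155.isUnit_of_map_of_ker_sq πB hB.surj (ker_πB_sq hB)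
  have h1 : πB (ψ₁ σ hB y) = algebraMap A B (ρ₁ p k A σ y) := RingHom.congr_fun (πB_ψ₁ σ hB) y
  rw [h1]
  exact (isUnit_ρ₁ p k A σ y).map _

/-- a lift `PP → B'` of `PP → A → B` -/
noncomputable def ψ : PP p k A σ →+* B' :=
  IsLocalization.lift (M := Sg p k A σ) (g := ψ₁ σ hB) (isUnit_ψ₁ σ hB)

theorem πB_ψ : πB.comp (ψ σ hB) = (algebraMap A B).comp (ρ p k A σ) := by
  apply IsLocalization.ringHom_ext (Sg p k A σ)
  ext f
  · change πB (ψ σ hB (algebraMap _ _ (C f))) = algebraMap A B (ρ p k A σ (algebraMap _ _ (C f)))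
    rw [ρ_algebraMap, ψ, IsLocalization.lift_eq]
    exact RingHom.congr_fun (πB_ψ₁ σ hB) _
  · change πB (ψ σ hB (algebraMap _ _ (X f))) = algebraMap A B (ρ p k A σ (algebraMap _ _ (X f)))
    rw [ρ_algebraMap, ψ, IsLocalization.lift_eq]
    exact RingHom.congr_fun (πB_ψ₁ σ hB) _

end Pres

/-- Flat liftability over `W₂(k)` descends along faithfully flat maps from essentially finite type
`k`-algebras. -/
theorem isW2Liftable_of_faithfullyFlat
    (p : ℕ) [Fact p.Prime] (k : Type u) [Field k] [CharP k p] [PerfectRing k p]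
    (A B : Type u) [CommRing A] [CommRing B] [Algebra k A] [Algebra.EssFiniteType k A]
    [Algebra A B] [Module.FaithfullyFlat A B] [Algebra k B] [IsScalarTower k A B]
    (hB : FrobAlg.IsW2Liftable p k B) : FrobAlg.IsW2Liftable p k A := by
  obtain ⟨B', _, ιB, πB, hB'⟩ := hB
  obtain ⟨σ, hσ⟩ := (Algebra.essFiniteType_iff k A).mp inferInstance
  letI : Algebra (PP p k A σ) A := (ρ p k A σ).toAlgebra
  letI : Algebra (PP p k A σ) B := ((algebraMap A B).comp (ρ p k A σ)).toAlgebra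
  haveI : IsScalarTower (PP p k A σ) A B := IsScalarTower.of_algebraMap_eq fun _ => rfl
  haveI : IsNoetherianRing (PP p k A σ) := isNoetherianRing_PP p k A σ
  haveI : Module.Finite (PP p k A σ) (RingHom.ker (algebraMap (PP p k A σ) A)) :=
    Module.Finite.iff_fg.mpr (IsNoetherian.noetherian _)
  have hψ : πB.comp (ψ σ hB') = algebraMap (PP p k A σ) B := πB_ψ σ hB'
  have hpK : ((p : ℕ) : PP p k A σ) ∈ RingHom.ker (algebraMap (PP p k A σ) A) := by
    rw [RingHom.mem_ker, map_natCast, ← map_natCast (algebraMap k A), CharP.cast_eq_zero,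
      map_zero]
  obtain ⟨v, hv⟩ := exists_linearMap_of_faithfullyFlat (P := PP p k A σ) (A := A) (B := B)
    (⟨((p : ℕ) : PP p k A σ), hpK⟩ : RingHom.ker (algebraMap (PP p k A σ) A))
    (wOf hB' (ψ σ hB') hψ) (wOf_p hB' (ψ σ hB') hψ hpK)
  exact ⟨PP p k A σ ⧸ J v, inferInstance, _, πJ v,
    isLift_of_linearMap (ιP p k A σ) (ρ_surjective p k A σ hσ) (ρ_comp_ιP p k A σ) v
      (fun _ => hv)⟩

end Groth.Agent.Lib.H6xW2Desc
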