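import Mathlib
import Groth.Agent.Lib.Helper5RLR
import Groth.Agent.Lib.Helper10Weier

/-!
# Regularity of the affine Weierstrass scheme over a DVR (a₃, a₄, a₆ ∈ m, a₆ ∉ m², Δ ≠ 0)
-/

set_option autoImplicit false
universe u
open IsLocalRing

namespace Groth.Agent.Lib.H6xWeierReg

section general

variable {S : Type u} [CommRing S]

/-- Localization of a hypersurface quotient of a regular ring at a prime where the equation is
not in the square of the maximal ideal. -/
theorem isRegularLocalRing_quot_localization [IsRegularRing S] (f : S)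
    (P : Ideal (S ⧸ Ideal.span ({f} : Set S))) [P.IsPrime]
    (hf : ∀ s : S, s ∉ P.comap (Ideal.Quotient.mk (Ideal.span ({f} : Set S))) →
      s * f ∉ (P.comap (Ideal.Quotient.mk (Ideal.span ({f} : Set S)))) ^ 2) :
    IsRegularLocalRing (Localization.AtPrime P) := by
  let I : Ideal S := Ideal.span ({f} : Set S)
  let Q : Ideal S := P.comap (Ideal.Quotient.mk I)
  have hQprime : Q.IsPrime := Ideal.comap_isPrime _ _
  let SQ := Localization.AtPrime Q
  have hfQ : f ∈ Q := by
    change Ideal.Quotient.mk I f ∈ P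
    have : Ideal.Quotient.mk I f = 0 :=
      Ideal.Quotient.eq_zero_iff_mem.mpr (Ideal.subset_span rfl)
    rw [this]; exact P.zero_mem
  set x : SQ := algebraMap S SQ f with hx
  have hxm : x ∈ maximalIdeal SQ := by
    rw [← Localization.AtPrime.map_eq_maximalIdeal]
    exact Ideal.mem_map_of_mem _ hfQ
  have hxm2 : x ∉ maximalIdeal SQ ^ 2 := by
    rw [← Localization.AtPrime.map_eq_maximalIdeal, ← Ideal.map_pow]
    intro hmem
    rw [hx, IsLocalization.algebraMap_mem_map_algebraMap_iff Q.primeCompl] at hmem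
    obtain ⟨m, hm, hmf⟩ := hmem
    exact hf m hm hmf
  have hne : Ideal.span ({x} : Set SQ) ≠ ⊤ := by
    intro htop
    have : (1 : SQ) ∈ maximalIdeal SQ := by
      have h1 : (1 : SQ) ∈ Ideal.span ({x} : Set SQ) := htop ▸ Submodule.mem_top
      exact (Ideal.span_le.mpr (by simpa using hxm)) h1
    exact (Ideal.ne_top_iff_one _).mp (IsLocalRing.maximalIdeal.isMaximal SQ).ne_top this
  have : Nontrivial (SQ ⧸ Ideal.span ({x} : Set SQ)) := Ideal.Quotient.nontrivial_iff.mpr hne
  have : IsLocalRing (SQ ⧸ Ideal.span ({x} : Set SQ)) :=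
    IsLocalRing.of_surjective' (Ideal.Quotient.mk _) Ideal.Quotient.mk_surjective
  have hreg := (Groth.Agent.Lib.Helper5.isRegularLocalRing_quotient_span_singleton hxm hxm2).1
  have hmap : I.map (algebraMap S SQ) = Ideal.span ({x} : Set SQ) := by
    change (Ideal.span ({f} : Set S)).map (algebraMap S SQ) = _
    rw [Ideal.map_span, Set.image_singleton]
  have hmon : Algebra.algebraMapSubmonoid (S ⧸ I) Q.primeCompl = P.primeCompl := by
    ext y
    constructor
    · rintro ⟨s, hs, rfl⟩
      exact hs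
    · intro hy
      obtain ⟨s, rfl⟩ := Ideal.Quotient.mk_surjective y
      exact ⟨s, hy, rfl⟩
  have hloc : IsLocalization.AtPrime (SQ ⧸ I.map (algebraMap S SQ)) P := by
    change IsLocalization P.primeCompl _
    rw [← hmon]
    infer_instance
  have hreg' : IsRegularLocalRing (SQ ⧸ I.map (algebraMap S SQ)) := by
    rw [hmap]; exact hreg
  exact IsRegularLocalRing.of_ringEquiv
    (IsLocalization.algEquiv P.primeCompl (SQ ⧸ I.map (algebraMap S SQ))
      (Localization.AtPrime P)).toRingEquiv

end general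

section weier

open Polynomial WeierstrassCurve.Affine
open scoped Polynomial.Bivariate

variable {R : Type u} [CommRing R]

/-- additive maps satisfying the Leibniz rule send `Q²` into `Q`. -/
lemma leibniz_mem {S : Type u} [CommRing S] (D : S → S) (hadd : ∀ a b, D (a + b) = D a + D b)
    (hmul : ∀ a b, D (a * b) = D a * b + a * D b) (Q : Ideal S) {g : S} (hg : g ∈ Q ^ 2) :
    D g ∈ Q := by
  rw [pow_two] at hg
  refine Submodule.mul_induction_on hg (fun a ha b hb => ?_) (fun x y hx hy => ?_)
  · rw [hmul]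
    exact Q.add_mem (Q.mul_mem_left _ hb) (Q.mul_mem_right _ ha)
  · rw [hadd]
    exact Q.add_mem hx hy

/-- the partial derivative with respect to the inner variable. -/
noncomputable def dX (g : R[X][Y]) : R[X][Y] := Bivariate.swap (derivative (Bivariate.swap g))

lemma dX_add (a b : R[X][Y]) : dX (a + b) = dX a + dX b := by
  simp only [dX, map_add]

lemma dX_mul (a b : R[X][Y]) : dX (a * b) = dX a * b + a * dX b := by
  simp only [dX, map_mul, derivative_mul, map_add, Bivariate.swap_swap_apply]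

lemma derivative_polynomial (W : WeierstrassCurve.Affine R) :
    derivative W.polynomial = W.polynomialY := by
  rw [WeierstrassCurve.Affine.polynomial, WeierstrassCurve.Affine.polynomialY]
  simp only [derivative_add, derivative_sub, derivative_mul, derivative_C, derivative_X_pow,
    derivative_X, zero_mul, zero_add, mul_one, sub_zero]
  simp only [map_ofNat, Nat.cast_ofNat, Nat.add_one_sub_one, pow_one]

lemma dX_polynomial (W : WeierstrassCurve.Affine R) :
    dX W.polynomial = W.polynomialX := by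
  rw [dX, WeierstrassCurve.Affine.polynomial, WeierstrassCurve.Affine.polynomialX]
  simp only [map_add, map_sub, map_mul, map_pow, Bivariate.swap_Y, Bivariate.swap_C,
    Polynomial.map_add, Polynomial.map_mul, Polynomial.map_pow, Polynomial.map_C, Polynomial.map_X]
  simp only [derivative_add, derivative_sub, derivative_mul, derivative_C, derivative_X_pow,
    derivative_X, derivative_pow, zero_mul, zero_add, mul_one, sub_zero, mul_zero, add_zero]
  simp only [map_add, map_sub, map_mul, map_pow, Bivariate.swap_Y, Bivariate.swap_C_C,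
    Bivariate.swap_X, map_ofNat, map_natCast, Nat.cast_ofNat]
  simp only [map_zero, zero_add, add_zero, Nat.add_one_sub_one, pow_one,
    show (3 - 1 : ℕ) = 2 from rfl, show (2 - 1 : ℕ) = 1 from rfl]
  ring

/-- if `W_X`, `W_Y`, `W` all lie in a prime `Q`, then the discriminant does. -/
lemma C_C_Δ_mem (W : WeierstrassCurve.Affine R) (Q : Ideal R[X][Y]) [Q.IsPrime]
    (hf : W.polynomial ∈ Q) (hfX : W.polynomialX ∈ Q) (hfY : W.polynomialY ∈ Q) :
    (C (C W.Δ) : R[X][Y]) ∈ Q := by
  let D := R[X][Y] ⧸ Q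
  let φ : R →+* D := (Ideal.Quotient.mk Q).comp ((C : R[X] →+* R[X][Y]).comp C)
  let x0 : D := Ideal.Quotient.mk Q (C X)
  let y0 : D := Ideal.Quotient.mk Q Y
  let ψ : R[X][Y] →+* D := (evalEvalRingHom x0 y0).comp (mapRingHom (mapRingHom φ))
  have hψ : ψ = Ideal.Quotient.mk Q := by
    refine Polynomial.ringHom_ext' (Polynomial.ringHom_ext' (RingHom.ext fun r => ?_) ?_) ?_
    · simp [ψ, φ, evalEvalRingHom, evalEval]
    · simp [ψ, x0, evalEvalRingHom, evalEval]
    · simp [ψ, y0, evalEvalRingHom, evalEval]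
  have hψ' : ∀ g : R[X][Y], (g.map (mapRingHom φ)).evalEval x0 y0 = Ideal.Quotient.mk Q g := by
    intro g
    rw [← hψ]; rfl
  have heq : (WeierstrassCurve.map W φ).toAffine.Equation x0 y0 := by
    rw [WeierstrassCurve.Affine.Equation, WeierstrassCurve.Affine.map_polynomial, hψ']
    exact Ideal.Quotient.eq_zero_iff_mem.mpr hf
  have hns : ¬ (WeierstrassCurve.map W φ).toAffine.Nonsingular x0 y0 := by
    rintro ⟨-, h | h⟩
    · apply h
      rw [WeierstrassCurve.Affine.map_polynomialX, hψ']
      exact Ideal.Quotient.eq_zero_iff_mem.mpr hfX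
    · apply h
      rw [WeierstrassCurve.Affine.map_polynomialY, hψ']
      exact Ideal.Quotient.eq_zero_iff_mem.mpr hfY
  have hΔ0 : WeierstrassCurve.Δ (WeierstrassCurve.map W φ) = (0 : D) := by
    by_contra hne
    exact hns ((WeierstrassCurve.Affine.equation_iff_nonsingular_of_Δ_ne_zero hne).mp heq)
  rw [WeierstrassCurve.map_Δ] at hΔ0
  exact Ideal.Quotient.eq_zero_iff_mem.mp hΔ0

variable [IsDomain R] [IsDiscreteValuationRing R]

/-- at a prime `Q` where `W ∈ Q_Q²`, the prime `Q` is the origin of the special fibre. -/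
theorem mem_of_mul_mem_sq (W : WeierstrassCurve.Affine R) (hΔ : W.Δ ≠ 0)
    (h3 : W.a₃ ∈ maximalIdeal R) (h4 : W.a₄ ∈ maximalIdeal R) (h6 : W.a₆ ∈ maximalIdeal R)
    (Q : Ideal R[X][Y]) [Q.IsPrime] (hfQ : W.polynomial ∈ Q) (s : R[X][Y]) (hs : s ∉ Q)
    (hsf : s * W.polynomial ∈ Q ^ 2) :
    (∀ r ∈ maximalIdeal R, (C (C r) : R[X][Y]) ∈ Q) ∧ (C X : R[X][Y]) ∈ Q ∧
      (Y : R[X][Y]) ∈ Q := by
  have hY : W.polynomialY ∈ Q := by
    have h := leibniz_mem (fun g : R[X][Y] => derivative g) (fun a b => derivative_add)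
      (fun a b => derivative_mul) Q hsf
    simp only [derivative_mul] at h
    have h2 : s * derivative W.polynomial ∈ Q := by
      have := Q.sub_mem h (Q.mul_mem_left (derivative s) hfQ)
      simpa using this
    rw [derivative_polynomial] at h2
    exact (Ideal.IsPrime.mem_or_mem ‹_› h2).resolve_left hs
  have hX : W.polynomialX ∈ Q := by
    have h := leibniz_mem (fun g : R[X][Y] => dX g) dX_add dX_mul Q hsf
    simp only [dX_mul] at h
    have h2 : s * dX W.polynomial ∈ Q := by
      have := Q.sub_mem h (Q.mul_mem_left (dX s) hfQ)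
      simpa using this
    rw [dX_polynomial] at h2
    exact (Ideal.IsPrime.mem_or_mem ‹_› h2).resolve_left hs
  have hΔQ := C_C_Δ_mem W Q hfQ hX hY
  let q0 : Ideal R := Q.comap ((C : R[X] →+* R[X][Y]).comp C)
  have hq0 : q0.IsPrime := Ideal.comap_isPrime _ _
  have hq0ne : q0 ≠ ⊥ := by
    intro h
    have h1 : W.Δ ∈ q0 := hΔQ
    rw [h] at h1
    exact hΔ (by simpa using h1)
  have hq0max : q0 = maximalIdeal R :=
    IsLocalRing.eq_maximalIdeal (Ideal.IsPrime.isMaximal hq0 hq0ne)
  have hm : ∀ r ∈ maximalIdeal R, (C (C r) : R[X][Y]) ∈ Q := by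
    intro r hr
    have : r ∈ q0 := hq0max ▸ hr
    exact this
  have hX3 : (C X : R[X][Y]) ^ 3 ∈ Q := by
    have e : (C X : R[X][Y]) ^ 3 = 2 * W.polynomial - (C X * W.polynomialX + Y * W.polynomialY)
        - C (C W.a₃) * Y + C (C W.a₄) * C X + 2 * C (C W.a₆) := by
      rw [WeierstrassCurve.Affine.polynomial, WeierstrassCurve.Affine.polynomialX,
        WeierstrassCurve.Affine.polynomialY]
      simp only [map_add, map_mul, map_pow, map_ofNat]
      ring
    rw [e]
    exact Q.add_mem (Q.add_mem (Q.sub_mem (Q.sub_mem (Q.mul_mem_left _ hfQ)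
      (Q.add_mem (Q.mul_mem_left _ hX) (Q.mul_mem_left _ hY))) (Q.mul_mem_right _ (hm _ h3)))
      (Q.mul_mem_right _ (hm _ h4))) (Q.mul_mem_left _ (hm _ h6))
  have hXQ : (C X : R[X][Y]) ∈ Q := Ideal.IsPrime.mem_of_pow_mem ‹_› 3 hX3
  have hY2 : (Y : R[X][Y]) ^ 2 ∈ Q := by
    have e : (Y : R[X][Y]) ^ 2 = W.polynomial - C (C W.a₁) * Y * C X - C (C W.a₃) * Y
        + (C X ^ 2 + C (C W.a₂) * C X + C (C W.a₄)) * C X + C (C W.a₆) := by
      rw [WeierstrassCurve.Affine.polynomial]
      simp only [map_add, map_mul, map_pow]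
      ring
    rw [e]
    exact Q.add_mem (Q.add_mem (Q.sub_mem (Q.sub_mem hfQ (Q.mul_mem_left _ hXQ))
      (Q.mul_mem_right _ (hm _ h3))) (Q.mul_mem_left _ hXQ)) (hm _ h6)
  exact ⟨hm, hXQ, Ideal.IsPrime.mem_of_pow_mem ‹_› 2 hY2⟩

/-- S11104: the affine Weierstrass scheme is regular. -/
theorem main_all (W : WeierstrassCurve.Affine R) (hΔ : W.Δ ≠ 0)
    (h3 : W.a₃ ∈ maximalIdeal R) (h4 : W.a₄ ∈ maximalIdeal R)
    (h6 : W.a₆ ∈ maximalIdeal R) (h6' : W.a₆ ∉ maximalIdeal R ^ 2)
    (P : Ideal W.CoordinateRing) [hPprime : P.IsPrime] :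
    IsRegularLocalRing (Localization.AtPrime P) := by
  by_cases hcase : (∀ r ∈ maximalIdeal R, algebraMap R W.CoordinateRing r ∈ P) ∧
      CoordinateRing.mk W (C X) ∈ P ∧ CoordinateRing.mk W Y ∈ P
  · obtain ⟨hP, hx, hy⟩ := hcase
    have hJP : Ideal.span {CoordinateRing.mk W (C X), CoordinateRing.mk W Y} ≤ P := by
      rw [Ideal.span_le]
      rintro _ (rfl | rfl)
      · exact hx
      · exact hy
    have hmax : P.IsMaximal := by
      refine Ideal.isMaximal_iff.mpr
        ⟨(Ideal.ne_top_iff_one P).mp (Ideal.IsPrime.ne_top ‹_›), fun J a hPJ haP haJ => ?_⟩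
      obtain ⟨r, hr⟩ := Groth.Agent.Lib.Helper10.Weier.exists_decomp W a
      have hrP : algebraMap R W.CoordinateRing r ∉ P := by
        intro h
        apply haP
        have := P.add_mem (hJP hr) h
        simpa using this
      have hru : IsUnit r := by
        by_contra h
        exact hrP (hP r ((mem_maximalIdeal r).mpr h))
      have hrJ : algebraMap R W.CoordinateRing r ∈ J := by
        have := J.sub_mem haJ (hPJ (hJP hr))
        simpa using this
      have := Ideal.eq_top_of_isUnit_mem J hrJ (hru.map _)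
      rw [this]; exact Submodule.mem_top
    exact Groth.Agent.Lib.Helper10.Weier.main h6 h6' P hP hx hy
  · have hreg : IsRegularRing R[X][Y] := inferInstance
    refine @isRegularLocalRing_quot_localization R[X][Y] _ hreg W.polynomial P hPprime ?_
    intro s hs hsf
    apply hcase
    have hfQ : W.polynomial ∈ P.comap (Ideal.Quotient.mk (Ideal.span ({W.polynomial} : Set R[X][Y]))) := by
      change Ideal.Quotient.mk _ W.polynomial ∈ P
      have : Ideal.Quotient.mk (Ideal.span ({W.polynomial} : Set R[X][Y])) W.polynomial = 0 :=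
        Ideal.Quotient.eq_zero_iff_mem.mpr (Ideal.subset_span rfl)
      rw [this]; exact P.zero_mem
    obtain ⟨hm, hx, hy⟩ := mem_of_mul_mem_sq W hΔ h3 h4 h6
      (P.comap (Ideal.Quotient.mk (Ideal.span ({W.polynomial} : Set R[X][Y])))) hfQ s hs hsf
    exact ⟨fun r hr => hm r hr, hx, hy⟩

end weier

end Groth.Agent.Lib.H6xWeierReg
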