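import Mathlib

/-!
# Witt vector addition on nilpotent coefficients (helper6)

The Witt addition polynomial `S_n` equals `X_{0,n} + X_{1,n}` plus a polynomial all of whose
monomials have total degree `≥ p`.  Over a quotient of a valuation ring, elements with `x^p = 0`
are such that any monomial of degree `≥ p` in them vanishes.
-/

set_option autoImplicit false
open MvPolynomial Finset

namespace Groth.Agent.Lib.H6xWittAddNil

section Poly

variable (p : ℕ) [hp : Fact p.Prime]

lemma mem_idealOfVars_of_constantCoeff {σ K : Type*} [CommRing K] (f : MvPolynomial σ K)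
    (h : constantCoeff f = 0) : f ∈ idealOfVars σ K := by
  have := (mem_pow_idealOfVars_iff (σ := σ) (R := K) 1 f).mpr (by
    intro x hx
    by_contra hlt
    have hx0 : x = 0 := by
      have hd : Finsupp.degree x = 0 := by omega
      exact (Finsupp.degree_eq_zero_iff x).mp hd
    subst hx0
    rw [mem_support_iff] at hx
    exact hx h)
  rwa [pow_one] at this

/-- the rational structure polynomial of addition -/
noncomputable abbrev SQ (n : ℕ) : MvPolynomial (Fin 2 × ℕ) ℚ :=
  wittStructureRat p (X 0 + X 1 : MvPolynomial (Fin 2) ℚ) n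

lemma SQ_mem (n : ℕ) : SQ p n ∈ idealOfVars (Fin 2 × ℕ) ℚ := by
  apply mem_idealOfVars_of_constantCoeff
  apply constantCoeff_wittStructureRat
  simp

lemma pow_le_of_lt {n i : ℕ} (hi : i < n) : p ≤ p ^ (n - i) := by
  calc p = p ^ 1 := (pow_one p).symm
    _ ≤ p ^ (n - i) := Nat.pow_le_pow_right hp.out.pos (by omega)

lemma key_identity (n : ℕ) :
    C ((p : ℚ) ^ n) * (SQ p n - X (0, n) - X (1, n)) =
      ∑ i ∈ range n, C ((p : ℚ) ^ i) *
        (X (0, i) ^ p ^ (n - i) + X (1, i) ^ p ^ (n - i) - SQ p i ^ p ^ (n - i)) := by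
  have h := wittStructureRat_rec_aux p (X 0 + X 1 : MvPolynomial (Fin 2) ℚ) n
  have hb : bind₁ (fun b => rename (fun i => (b, i)) (wittPolynomial p ℚ n))
      (X 0 + X 1 : MvPolynomial (Fin 2) ℚ) =
      ∑ i ∈ range (n + 1), C ((p : ℚ) ^ i) *
        (X (0, i) ^ p ^ (n - i) + X (1, i) ^ p ^ (n - i)) := by
    rw [map_add, bind₁_X_right, bind₁_X_right, wittPolynomial_eq_sum_C_mul_X_pow, map_sum,
      map_sum, ← sum_add_distrib]
    apply sum_congr rfl
    intro i _
    simp only [map_mul, map_pow, rename_C, rename_X]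
    ring
  rw [hb, sum_range_succ, Nat.sub_self, pow_zero, pow_one, pow_one] at h
  have h' : C ((p : ℚ) ^ n) * SQ p n = (∑ i ∈ range n, C ((p : ℚ) ^ i) *
      (X (0, i) ^ p ^ (n - i) + X (1, i) ^ p ^ (n - i))) + C ((p : ℚ) ^ n) * (X (0, n) + X (1, n)) -
      ∑ i ∈ range n, C ((p : ℚ) ^ i) * SQ p i ^ p ^ (n - i) := by
    rw [mul_comm]; exact h
  have e1 : C ((p : ℚ) ^ n) * (SQ p n - X (0, n) - X (1, n)) =
      C ((p : ℚ) ^ n) * SQ p n - C ((p : ℚ) ^ n) * (X (0, n) + X (1, n)) := by ring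
  rw [e1, h']
  have e2 : ∀ i, C ((p : ℚ) ^ i) *
        (X (0, i) ^ p ^ (n - i) + X (1, i) ^ p ^ (n - i) - SQ p i ^ p ^ (n - i)) =
      C ((p : ℚ) ^ i) * (X (0, i) ^ p ^ (n - i) + X (1, i) ^ p ^ (n - i)) -
        C ((p : ℚ) ^ i) * SQ p i ^ p ^ (n - i) := fun i => by ring
  simp only [e2, sum_sub_distrib]
  ring

lemma SQ_sub_mem (n : ℕ) :
    SQ p n - X (0, n) - X (1, n) ∈ idealOfVars (Fin 2 × ℕ) ℚ ^ p := by
  have hmem : C ((p : ℚ) ^ n) * (SQ p n - X (0, n) - X (1, n)) ∈
      idealOfVars (Fin 2 × ℕ) ℚ ^ p := by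
    rw [key_identity]
    apply Ideal.sum_mem
    intro i hi
    rw [mem_range] at hi
    apply Ideal.mul_mem_left
    have hle := pow_le_of_lt p hi
    have hX : ∀ b : Fin 2, (X (b, i) : MvPolynomial (Fin 2 × ℕ) ℚ) ^ p ^ (n - i) ∈
        idealOfVars (Fin 2 × ℕ) ℚ ^ p := fun b =>
      Ideal.pow_le_pow_right hle (Ideal.pow_mem_pow (Ideal.subset_span (Set.mem_range_self (b, i))) _)
    have hS : SQ p i ^ p ^ (n - i) ∈ idealOfVars (Fin 2 × ℕ) ℚ ^ p :=
      Ideal.pow_le_pow_right hle (Ideal.pow_mem_pow (SQ_mem p i) _)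
    exact Ideal.sub_mem _ (Ideal.add_mem _ (hX 0) (hX 1)) hS
  have hne : ((p : ℚ) ^ n) ≠ 0 := pow_ne_zero _ (Nat.cast_ne_zero.mpr hp.out.ne_zero)
  have := Ideal.mul_mem_left _ (C (((p : ℚ) ^ n)⁻¹)) hmem
  rwa [← mul_assoc, ← C_mul, inv_mul_cancel₀ hne, C_1, one_mul] at this

/-- the lower part of the Witt addition polynomial -/
noncomputable def T (n : ℕ) : MvPolynomial (Fin 2 × ℕ) ℤ :=
  WittVector.wittAdd p n - X (0, n) - X (1, n)

theorem T_mem (n : ℕ) : T p n ∈ idealOfVars (Fin 2 × ℕ) ℤ ^ p := by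
  rw [mem_pow_idealOfVars_iff]
  have h := (mem_pow_idealOfVars_iff p _).mp (SQ_sub_mem p n)
  have hmap : MvPolynomial.map (Int.castRingHom ℚ) (T p n) = SQ p n - X (0, n) - X (1, n) := by
    unfold T WittVector.wittAdd
    rw [map_sub, map_sub, map_wittStructureInt, map_X, map_X, map_add, map_X, map_X]
  intro x hx
  apply h x
  rw [← hmap, support_map_of_injective _ Int.cast_injective]
  exact hx

end Poly

section Val

variable {R : Type*} [CommRing R] [IsDomain R] [ValuationRing R]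

lemma exists_dvd_all {σ : Type*} (s : Finset σ) (hs : s.Nonempty) (r : σ → R) :
    ∃ i₀ ∈ s, ∀ i ∈ s, r i₀ ∣ r i := by
  induction hs using Finset.Nonempty.cons_induction with
  | singleton a => exact ⟨a, mem_singleton_self a, fun i hi => by rw [mem_singleton.mp hi]⟩
  | cons a s ha hs ih =>
    obtain ⟨i₀, hi₀, h⟩ := ih
    rcases ValuationRing.dvd_total (r a) (r i₀) with h1 | h1
    · refine ⟨a, mem_cons_self a s, fun i hi => ?_⟩
      rcases mem_cons.mp hi with rfl | hi
      · exact dvd_rfl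
      · exact h1.trans (h i hi)
    · refine ⟨i₀, mem_cons.mpr (Or.inr hi₀), fun i hi => ?_⟩
      rcases mem_cons.mp hi with rfl | hi
      · exact h1
      · exact h i hi

lemma monomial_mem {σ : Type*} (lam : R) (p : ℕ) (hp : 0 < p) (d : σ →₀ ℕ)
    (hd : p ≤ Finsupp.degree d) (r : σ → R) (hr : ∀ i, r i ^ p ∈ Ideal.span {lam}) :
    ∏ i ∈ d.support, r i ^ d i ∈ Ideal.span {lam} := by
  have hne : d.support.Nonempty := by
    rw [Finset.nonempty_iff_ne_empty]
    intro h
    rw [Finsupp.degree_apply, h, sum_empty] at hd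
    omega
  obtain ⟨i₀, hi₀, h⟩ := exists_dvd_all d.support hne r
  have h1 : ∏ i ∈ d.support, r i₀ ^ d i ∣ ∏ i ∈ d.support, r i ^ d i :=
    Finset.prod_dvd_prod_of_dvd _ _ (fun i hi => pow_dvd_pow_of_dvd (h i hi) _)
  rw [prod_pow_eq_pow_sum, ← Finsupp.degree_apply] at h1
  have h2 : r i₀ ^ p ∣ r i₀ ^ Finsupp.degree d := pow_dvd_pow _ hd
  simp only [Ideal.mem_span_singleton] at hr ⊢
  exact ((hr i₀).trans h2).trans h1

end Val

section Main

open WittVector

theorem main (R : Type*) [CommRing R] [IsDomain R]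
    [IsDiscreteValuationRing R] (p : ℕ) [hp : Fact p.Prime] (lam : R) (hlam : lam ∣ (p : R))
    (a b : WittVector p (R ⧸ Ideal.span {lam})) (ha : WittVector.frobenius a = 0)
    (hb : WittVector.frobenius b = 0) (n : ℕ) : (a + b).coeff n = a.coeff n + b.coeff n := by
  by_cases hsub : Subsingleton (R ⧸ Ideal.span {lam})
  · exact Subsingleton.elim _ _
  rw [not_subsingleton_iff_nontrivial] at hsub
  have hp0 : ((p : ℕ) : R ⧸ Ideal.span {lam}) = 0 := by
    have : ((p : R) : R) ∈ Ideal.span {lam} := Ideal.mem_span_singleton.mpr hlam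
    have h := Ideal.Quotient.eq_zero_iff_mem.mpr this
    rwa [map_natCast] at h
  haveI : CharP (R ⧸ Ideal.span {lam}) p := by
    have h1 := ringChar.dvd hp0
    have h2 : ringChar (R ⧸ Ideal.span {lam}) ≠ 1 := CharP.ringChar_ne_one
    have h3 : ringChar (R ⧸ Ideal.span {lam}) = p :=
      ((Nat.dvd_prime hp.out).mp h1).resolve_left h2
    rw [← h3]
    exact ringChar.charP _
  have ha' : ∀ k, a.coeff k ^ p = 0 := fun k => by
    rw [← WittVector.coeff_frobenius_charP, ha, WittVector.zero_coeff]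
  have hb' : ∀ k, b.coeff k ^ p = 0 := fun k => by
    rw [← WittVector.coeff_frobenius_charP, hb, WittVector.zero_coeff]
  rw [WittVector.add_coeff]
  unfold WittVector.peval
  set x : Fin 2 × ℕ → R ⧸ Ideal.span {lam} := Function.uncurry ![a.coeff, b.coeff] with hx
  have hxp : ∀ v, x v ^ p = 0 := by
    rintro ⟨i, k⟩
    fin_cases i
    · exact ha' k
    · exact hb' k
  have hdecomp : WittVector.wittAdd p n = T p n + X (0, n) + X (1, n) := by
    unfold T; ring
  rw [hdecomp, map_add, map_add, aeval_X, aeval_X]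
  have hT : ∀ (alg : Algebra ℤ (R ⧸ Ideal.span {lam})),
      @aeval ℤ (R ⧸ Ideal.span {lam}) (Fin 2 × ℕ) _ _ alg x (T p n) = 0 := by
    intro alg
    rw [aeval_def, eval₂_eq]
    apply Finset.sum_eq_zero
    intro d hd
    have hdeg := (mem_pow_idealOfVars_iff p _).mp (T_mem p n) d hd
    let r : Fin 2 × ℕ → R := fun v => Function.surjInv Ideal.Quotient.mk_surjective (x v)
    have hr : ∀ v, Ideal.Quotient.mk (Ideal.span {lam}) (r v) = x v := fun v =>
      Function.surjInv_eq Ideal.Quotient.mk_surjective (x v)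
    have hrp : ∀ v, r v ^ p ∈ Ideal.span {lam} := fun v => by
      rw [← Ideal.Quotient.eq_zero_iff_mem, map_pow, hr, hxp]
    have hm := monomial_mem lam p hp.out.pos d hdeg r hrp
    rw [← Ideal.Quotient.eq_zero_iff_mem, map_prod] at hm
    simp only [map_pow, hr] at hm
    rw [hm, mul_zero]
  rw [hT, zero_add]
  rfl

end Main

end Groth.Agent.Lib.H6xWittAddNil
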