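import Mathlib
import Groth.Agent.Lib.H6xPointCount
import Groth.Prelude.Def_W4c1zetahwZeta

set_option autoImplicit false

/-! Points of a scheme of finite type over a finite field with values in a finite extension:
`#X(k') = ∑_{e ∣ [k':k]} e · #{closed points of degree e}`. -/

namespace Groth.Agent.Lib.H6xZetaPts

open CategoryTheory AlgebraicGeometry Groth.Agent.Lib.H6xPointCount

universe u

section alg

theorem finite_algHom (k A B : Type*) [CommRing k] [CommRing A] [Algebra k A] [CommRing B]
    [Algebra k B] [Algebra.FiniteType k A] [Finite B] : Finite (A →ₐ[k] B) := by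
  obtain ⟨s, hs⟩ := (Algebra.FiniteType.out : (⊤ : Subalgebra k A).FG)
  let Φ : (A →ₐ[k] B) → (s → B) := fun φ a => φ a.1
  have hΦ : Function.Injective Φ := by
    intro φ₁ φ₂ h
    apply AlgHom.ext_of_adjoin_eq_top hs
    intro a ha
    exact congrFun h ⟨a, Finset.mem_coe.mp ha⟩
  exact Finite.of_injective Φ hΦ

theorem card_subtype_sigma {α : Type*} {β : α → Type*} (q : (Σ a, β a) → Prop) (D : Finset α)
    (hD : ∀ t, q t → t.1 ∈ D) [∀ a, Finite {b : β a // q ⟨a, b⟩}] :
    Nat.card {t // q t} = ∑ a ∈ D, Nat.card {b : β a // q ⟨a, b⟩} := by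
  have e : {t // q t} ≃ Σ a : D, {b : β a.1 // q ⟨a.1, b⟩} :=
    { toFun := fun t => ⟨⟨t.1.1, hD _ t.2⟩, ⟨t.1.2, t.2⟩⟩
      invFun := fun s => ⟨⟨s.1.1, s.2.1⟩, s.2.2⟩
      left_inv := fun t => rfl
      right_inv := fun s => rfl }
  rw [Nat.card_congr e, Nat.card_sigma,
    Finset.sum_coe_sort D (fun a => Nat.card {b : β a // q ⟨a, b⟩})]

end alg

variable {k : Type u} [Field k] {X : Scheme.{u}} (f : X ⟶ Spec (CommRingCat.of k))

section finite

theorem finite_HomU [LocallyOfFiniteType f] (U : X.Opens) (hU : IsAffineOpen U) (k' : Type u)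
    [Field k'] [Algebra k k'] [Finite k'] : Finite (HomU f U k') := by
  letI : Algebra k Γ(X, U) := (kToΓ f U).toAlgebra
  haveI : Algebra.FiniteType k Γ(X, U) := finiteType_kToΓ f U hU
  haveI := finite_algHom k Γ(X, U) k'
  let Θ : HomU f U k' → (Γ(X, U) →ₐ[k] k') := fun ψ =>
    { (ψ.1 : Γ(X, U) →+* k') with
      commutes' := fun x => by
        have := congrArg (fun φ : k →+* k' => φ x) ψ.2
        exact this }
  have hΘ : Function.Injective Θ := by
    intro ψ₁ ψ₂ h
    apply Subtype.ext
    ext x
    exact congrArg (fun φ : Γ(X, U) →ₐ[k] k' => φ x) h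
  exact Finite.of_injective Θ hΘ

theorem finite_Pts [LocallyOfFiniteType f] [QuasiCompact f] (k' : Type u)
    [Field k'] [Algebra k k'] [Finite k'] : Finite (Pts f k') := by
  classical
  haveI : CompactSpace X := QuasiCompact.compactSpace_of_compactSpace f
  obtain ⟨s, hsfin, hs⟩ := (isCompact_iff_finite_and_eq_biUnion_affineOpens
    (U := (⊤ : X.Opens))).mp (by simpa using isCompact_univ)
  haveI : Fintype s := hsfin.fintype
  have hcover : ∀ g : Pts f k', ∃ U : s, g.pt ∈ ((U.1 : X.affineOpens) : X.Opens) := by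
    intro g
    have hmem : g.pt ∈ (⊤ : X.Opens) := trivial
    rw [hs] at hmem
    simp only [TopologicalSpace.Opens.mem_iSup] at hmem
    obtain ⟨i, hi, hmem⟩ := hmem
    exact ⟨⟨i, hi⟩, hmem⟩
  choose Ug hUg using hcover
  let Ψ : Pts f k' → Σ U : s, HomU f ((U.1 : X.affineOpens) : X.Opens) k' :=
    fun g => ⟨Ug g, g.toHomU _ (hUg g)⟩
  have hΨ : Function.Injective Ψ := by
    intro g₁ g₂ h
    have h1 : Ug g₁ = Ug g₂ := congrArg Sigma.fst h
    have h2 : HEq (g₁.toHomU _ (hUg g₁)) (g₂.toHomU _ (hUg g₂)) := (Sigma.mk.inj_iff.mp h).2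
    have gen : ∀ (U₁ U₂ : s) (hU : U₁ = U₂) (h₁ : g₁.pt ∈ ((U₁.1 : X.affineOpens) : X.Opens))
        (h₂ : g₂.pt ∈ ((U₂.1 : X.affineOpens) : X.Opens)),
        HEq (g₁.toHomU _ h₁) (g₂.toHomU _ h₂) → g₁ = g₂ := by
      intro U₁ U₂ hU h₁ h₂ hh
      subst hU
      exact Pts.ext_of_toHomU g₁ g₂ _ U₁.1.2 h₁ h₂ (congrArg Subtype.val (eq_of_heq hh))
    exact gen _ _ h1 _ _ h2
  haveI : ∀ U : s, Finite (HomU f ((U.1 : X.affineOpens) : X.Opens) k') := fun U =>
    finite_HomU f _ U.1.2 k'
  exact Finite.of_injective Ψ hΨ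

end finite

section residue

/-- the canonical map `k → κ(y)` for a point `y` of `Spec k` -/
noncomputable def baseι (y : Spec (CommRingCat.of k)) :
    CommRingCat.of k ⟶ (Spec (CommRingCat.of k)).residueField y :=
  CommRingCat.ofHom (algebraMap k y.asIdeal.ResidueField) ≫
    (Scheme.Spec.residueFieldIso (CommRingCat.of k) y).inv

theorem baseι_bijective (y : Spec (CommRingCat.of k)) : Function.Bijective (baseι y).hom := by
  have h1 : Function.Bijective (algebraMap k y.asIdeal.ResidueField) :=
    (Ideal.algEquivResidueFieldOfField y.asIdeal).bijective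
  have h2 : Function.Bijective (Scheme.Spec.residueFieldIso (CommRingCat.of k) y).inv.hom :=
    ConcreteCategory.bijective_of_isIso _
  have := h2.comp h1
  convert this using 1
  rw [baseι, CommRingCat.hom_comp, RingHom.coe_comp]
  rfl

theorem SpecMap_baseι (y : Spec (CommRingCat.of k)) :
    Spec.map (baseι y) = (Spec (CommRingCat.of k)).fromSpecResidueField y := by
  rw [baseι, Spec.map_comp]
  exact Scheme.Spec.map_residueFieldIso_inv_eq_fromSpecResidueField _ y

/-- the structure map `k → κ(x)` -/
noncomputable def ψ (x : X) : CommRingCat.of k ⟶ X.residueField x :=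
  baseι (f.base x) ≫ f.residueFieldMap x

theorem SpecMap_ψ (x : X) : Spec.map (ψ f x) = X.fromSpecResidueField x ≫ f := by
  rw [ψ, Spec.map_comp, SpecMap_baseι]
  exact Scheme.Hom.SpecMap_residueFieldMap_fromSpecResidueField f x

/-- the `k`-algebra structure of `κ(x)` -/
@[reducible] noncomputable def algK (x : X) : Algebra k (X.residueField x) := (ψ f x).hom.toAlgebra

theorem residueDegree_eq (x : X) :
    EGA4loc.residueDegree f x =
      @Module.finrank k (X.residueField x) _ _ (algK f x).toModule := by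
  letI a1 : Algebra ((Spec (CommRingCat.of k)).residueField (f.base x)) (X.residueField x) :=
    (f.residueFieldMap x).hom.toAlgebra
  letI a2 : Algebra k (X.residueField x) := algK f x
  show Module.finrank ((Spec (CommRingCat.of k)).residueField (f.base x)) (X.residueField x) =
    Module.finrank k (X.residueField x)
  symm
  exact Algebra.finrank_eq_of_equiv_equiv
    (RingEquiv.ofBijective (baseι (f.base x)).hom (baseι_bijective _)) (RingEquiv.refl _)
    (by ext c; rfl)

theorem isClosed_of_residueDegree_ne_zero [LocallyOfFiniteType f] (x : X)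
    (h : EGA4loc.residueDegree f x ≠ 0) : IsClosed ({x} : Set X) := by
  haveI : JacobsonSpace X := LocallyOfFiniteType.jacobsonSpace f
  rw [isClosed_singleton_iff_locallyOfFiniteType]
  rw [residueDegree_eq] at h
  letI := algK f x
  haveI : Module.Finite k (X.residueField x) := Module.finite_of_finrank_pos (Nat.pos_of_ne_zero h)
  have h0 : (ψ f x).hom.Finite := ‹Module.Finite k (X.residueField x)›
  have h1 : LocallyOfFiniteType (Spec.map (ψ f x)) := by
    rw [HasRingHomProperty.Spec_iff (P := @LocallyOfFiniteType)]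
    exact h0.finiteType
  rw [SpecMap_ψ] at h1
  exact locallyOfFiniteType_of_comp (X.fromSpecResidueField x) f

end residue

section count

variable (k' : Type u) [Field k'] [Algebra k k']

/-- compatibility with the structure maps -/
def Q (t : Σ x : X, (X.residueField x ⟶ CommRingCat.of k')) : Prop :=
  ψ f t.1 ≫ t.2 = CommRingCat.ofHom (algebraMap k k')

theorem Q_iff (t : Σ x : X, (X.residueField x ⟶ CommRingCat.of k')) :
    ((Scheme.SpecToEquivOfField k' X).symm t ≫ f =
      Spec.map (CommRingCat.ofHom (algebraMap k k'))) ↔ Q f k' t := by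
  rw [Q, ← Spec.map_inj, Spec.map_comp, SpecMap_ψ]
  simp only [Scheme.SpecToEquivOfField_symm_apply, Category.assoc]

/-- points as pairs (point, embedding of the residue field) -/
noncomputable def ptsEquiv :
    Pts f k' ≃ {t : Σ x : X, (X.residueField x ⟶ CommRingCat.of k') // Q f k' t} :=
  (Scheme.SpecToEquivOfField k' X).subtypeEquiv (fun g => by
    rw [← Q_iff, Equiv.symm_apply_apply])

theorem card_fibre [Finite k'] (x : X) :
    Nat.card {φ : X.residueField x ⟶ CommRingCat.of k' // Q f k' ⟨x, φ⟩} =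
      if EGA4loc.residueDegree f x ∣ Module.finrank k k' then EGA4loc.residueDegree f x
      else 0 := by
  letI := algK f x
  have e : {φ : X.residueField x ⟶ CommRingCat.of k' // Q f k' ⟨x, φ⟩} ≃
      (X.residueField x →ₐ[k] k') :=
    { toFun := fun φ =>
        { (φ.1.hom : X.residueField x →+* k') with
          commutes' := fun c => congrArg (fun m : CommRingCat.of k ⟶ CommRingCat.of k' =>
            m.hom c) φ.2 }
      invFun := fun a => ⟨CommRingCat.ofHom a.toRingHom, by
        apply CommRingCat.hom_ext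
        ext c
        exact a.commutes c⟩
      left_inv := fun φ => rfl
      right_inv := fun a => rfl }
  rw [Nat.card_congr e, residueDegree_eq]
  split_ifs with h
  · exact FiniteField.natCard_algHom_of_finrank_dvd h
  · haveI : IsEmpty (X.residueField x →ₐ[k] k') :=
      ⟨fun φ => h (FiniteField.nonempty_algHom_iff_finrank_dvd.mp ⟨φ⟩)⟩
    exact Nat.card_of_isEmpty

variable [Finite k']

theorem pointCount_eq_sum [LocallyOfFiniteType f] [QuasiCompact f] :
    ∃ D : Finset X, (∀ x, x ∈ D ↔ EGA4loc.residueDegree f x ∣ Module.finrank k k') ∧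
      SgaExt.pointCount f k' = ∑ x ∈ D, EGA4loc.residueDegree f x := by
  classical
  haveI : Module.Finite k k' := Module.Finite.of_finite
  have hr : 0 < Module.finrank k k' := Module.finrank_pos
  haveI := finite_Pts f k'
  haveI : Finite {t : Σ x : X, (X.residueField x ⟶ CommRingCat.of k') // Q f k' t} :=
    Finite.of_equiv _ (ptsEquiv f k')
  haveI : Fintype {t : Σ x : X, (X.residueField x ⟶ CommRingCat.of k') // Q f k' t} :=
    Fintype.ofFinite _
  obtain ⟨D, hDdef⟩ : ∃ D : Finset X, D = Finset.univ.image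
      (fun t : {t : Σ x : X, (X.residueField x ⟶ CommRingCat.of k') // Q f k' t} => t.1.1) :=
    ⟨_, rfl⟩
  have hD : ∀ t : Σ x : X, (X.residueField x ⟶ CommRingCat.of k'), Q f k' t → t.1 ∈ D := by
    intro t ht
    rw [hDdef]
    exact Finset.mem_image.mpr ⟨⟨t, ht⟩, Finset.mem_univ _, rfl⟩
  have hfib : ∀ x : X, Finite {φ : X.residueField x ⟶ CommRingCat.of k' // Q f k' ⟨x, φ⟩} := by
    intro x
    refine Finite.of_injective (fun φ => (⟨⟨x, φ.1⟩, φ.2⟩ :
      {t : Σ x : X, (X.residueField x ⟶ CommRingCat.of k') // Q f k' t})) ?_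
    intro a b h
    have h1 := congrArg Subtype.val h
    exact Subtype.ext (eq_of_heq (Sigma.mk.inj_iff.mp h1).2)
  have h1 : SgaExt.pointCount f k' = ∑ x ∈ D,
      (if EGA4loc.residueDegree f x ∣ Module.finrank k k' then EGA4loc.residueDegree f x
        else 0) := by
    show Nat.card (Pts f k') = _
    rw [Nat.card_congr (ptsEquiv f k'), card_subtype_sigma _ D hD]
    exact Finset.sum_congr rfl fun x _ => card_fibre f k' x
  have hDmem : ∀ x, x ∈ D ↔ EGA4loc.residueDegree f x ∣ Module.finrank k k' := by
    intro x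
    constructor
    · intro hx
      rw [hDdef] at hx
      obtain ⟨t, _, rfl⟩ := Finset.mem_image.mp hx
      by_contra hnd
      have hc := card_fibre f k' t.1.1
      rw [if_neg hnd] at hc
      rcases Nat.card_eq_zero.mp hc with hemp | hinf
      · exact hemp.false ⟨t.1.2, t.2⟩
      · exact hinf.false
    · intro hx
      have hc := card_fibre f k' x
      rw [if_pos hx] at hc
      have hpos : 0 < EGA4loc.residueDegree f x := Nat.pos_of_dvd_of_pos hx hr
      have hne : Nat.card {φ : X.residueField x ⟶ CommRingCat.of k' // Q f k' ⟨x, φ⟩} ≠ 0 := by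
        omega
      obtain ⟨φ⟩ := (Nat.card_ne_zero.mp hne).1
      exact hD ⟨x, φ.1⟩ φ.2
  refine ⟨D, hDmem, ?_⟩
  rw [h1]
  exact Finset.sum_congr rfl (fun x hx => if_pos ((hDmem x).mp hx))

/-- the number of `k'`-points in terms of closed points -/
theorem pointCount_eq_nPts [LocallyOfFiniteType f] [QuasiCompact f] :
    SgaExt.pointCount f k' = Zeta.nPts f (Module.finrank k k') := by
  classical
  haveI : Module.Finite k k' := Module.Finite.of_finite
  have hr : 0 < Module.finrank k k' := Module.finrank_pos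
  obtain ⟨D, hDmem, h1⟩ := pointCount_eq_sum f k'
  have h2 : ∀ e ∈ (Module.finrank k k').divisors,
      Zeta.degCount f e = (D.filter fun x => EGA4loc.residueDegree f x = e).card := by
    intro e he
    have hepos : 0 < e := Nat.pos_of_mem_divisors he
    have hedvd : e ∣ Module.finrank k k' := Nat.dvd_of_mem_divisors he
    rw [Zeta.degCount, ← Nat.card_eq_finsetCard]
    apply Nat.card_congr
    exact Equiv.subtypeEquivRight (fun x => by
      rw [Finset.mem_filter, hDmem]
      constructor
      · rintro ⟨_, hx⟩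
        exact ⟨hx ▸ hedvd, hx⟩
      · rintro ⟨_, hx⟩
        exact ⟨isClosed_of_residueDegree_ne_zero f x (by omega), hx⟩)
  rw [h1, Zeta.nPts]
  have h3 : ∑ e ∈ (Module.finrank k k').divisors, e * Zeta.degCount f e =
      ∑ e ∈ (Module.finrank k k').divisors,
        e * (D.filter fun x => EGA4loc.residueDegree f x = e).card :=
    Finset.sum_congr rfl (fun e he => by rw [h2 e he])
  rw [h3, ← Finset.sum_fiberwise_of_maps_to (s := D) (t := (Module.finrank k k').divisors)
    (g := fun x => EGA4loc.residueDegree f x) (fun x hx =>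
      Nat.mem_divisors.mpr ⟨(hDmem x).mp hx, hr.ne'⟩) (fun x => EGA4loc.residueDegree f x)]
  refine Finset.sum_congr rfl fun e _ => ?_
  rw [Finset.sum_congr rfl (fun x hx => (Finset.mem_filter.mp hx).2), Finset.sum_const,
    smul_eq_mul, mul_comm]

end count

end Groth.Agent.Lib.H6xZetaPts
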