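import Mathlib
import Groth.Agent.Lib.H6xZetaPts
import Groth.Agent.Lib.Helper27LogDeriv

set_option autoImplicit false

/-! Additivity of the counts of closed points for a closed-open decomposition, and
multiplicativity of the zeta function. -/

namespace Groth.Agent.Lib.H6xZetaPts

open CategoryTheory AlgebraicGeometry Groth.Agent.Lib.H6xPointCount

universe u

/-- finite fields have extensions of every positive degree, in the same universe -/
theorem exists_ext (k : Type u) [Field k] [Finite k] (m : ℕ) (hm : 0 < m) :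
    ∃ (K : Type u) (_ : Field K) (_ : Algebra k K) (_ : Finite K), Module.finrank k K = m := by
  obtain ⟨p, hp⟩ := CharP.exists k
  haveI : Fact p.Prime := ⟨CharP.char_is_prime k p⟩
  haveI : NeZero m := ⟨hm.ne'⟩
  refine ⟨ULift.{u} (FiniteField.Extension k p m), inferInstance, inferInstance, inferInstance, ?_⟩
  exact (ULift.moduleEquiv (R := k) (M := FiniteField.Extension k p m)).finrank_eq.trans
    (FiniteField.finrank_extension k p m)

variable {k : Type u} [Field k] {X : Scheme.{u}} (f : X ⟶ Spec (CommRingCat.of k))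

theorem ψ_comp {Y : Scheme.{u}} (g : Y ⟶ X) (y : Y) :
    ψ (g ≫ f) y = ψ f (g.base y) ≫ g.residueFieldMap y := by
  apply Spec.map_injective
  rw [SpecMap_ψ, Spec.map_comp, SpecMap_ψ]
  exact (Scheme.Hom.SpecMap_residueFieldMap_fromSpecResidueField_assoc g y f).symm

theorem residueFieldMap_bijective {Y : Scheme.{u}} (g : Y ⟶ X) [SurjectiveOnStalks g] (y : Y) :
    Function.Bijective (g.residueFieldMap y).hom := by
  refine ⟨(g.residueFieldMap y).hom.injective, ?_⟩
  have h1 : Function.Surjective (g.stalkMap y).hom := g.stalkMap_surjective y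
  have h2 : Function.Surjective (Y.residue y).hom := IsLocalRing.residue_surjective
  have h3 := Scheme.residue_residueFieldMap g y
  intro z
  obtain ⟨w, rfl⟩ := h2 z
  obtain ⟨v, rfl⟩ := h1 w
  refine ⟨(X.residue (g.base y)).hom v, ?_⟩
  exact congrArg (fun m => m.hom v) h3

theorem residueDegree_comp {Y : Scheme.{u}} (g : Y ⟶ X) [SurjectiveOnStalks g] (y : Y) :
    EGA4loc.residueDegree (g ≫ f) y = EGA4loc.residueDegree f (g.base y) := by
  rw [residueDegree_eq, residueDegree_eq]
  letI := algK (g ≫ f) y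
  letI := algK f (g.base y)
  symm
  exact Algebra.finrank_eq_of_equiv_equiv (RingEquiv.refl k)
    (RingEquiv.ofBijective (g.residueFieldMap y).hom (residueFieldMap_bijective g y)) (by
      ext c
      have := congrArg (fun m => m.hom c) (ψ_comp f g y)
      exact this)

theorem degCount_eq [LocallyOfFiniteType f] (e : ℕ) (he : 0 < e) :
    Zeta.degCount f e = Nat.card {x : X // EGA4loc.residueDegree f x = e} := by
  rw [Zeta.degCount]
  apply Nat.card_congr
  exact Equiv.subtypeEquivRight (fun x => ⟨fun h => h.2, fun h =>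
    ⟨isClosed_of_residueDegree_ne_zero f x (by omega), h⟩⟩)

theorem finite_degree_eq [Finite k] [LocallyOfFiniteType f] [QuasiCompact f] (e : ℕ)
    (he : 0 < e) : Finite {x : X // EGA4loc.residueDegree f x = e} := by
  obtain ⟨K, _, _, _, hK⟩ := exists_ext k e he
  obtain ⟨D, hD, _⟩ := pointCount_eq_sum f K
  have hsub : {x : X | EGA4loc.residueDegree f x = e} ⊆ ↑D := by
    intro x hx
    rw [Finset.mem_coe, hD, hK]
    exact (show EGA4loc.residueDegree f x = e from hx) ▸ dvd_rfl
  exact (D.finite_toSet.subset hsub).to_subtype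

theorem degCount_add {Y : Scheme.{u}} [Finite k] [LocallyOfFiniteType f] [QuasiCompact f]
    (U : X.Opens) (i : Y ⟶ X) [IsClosedImmersion i] (hY : Set.range i.base = (U : Set X)ᶜ)
    (e : ℕ) (he : 0 < e) :
    Zeta.degCount f e = Zeta.degCount (i ≫ f) e + Zeta.degCount (U.ι ≫ f) e := by
  rw [degCount_eq f e he, degCount_eq (i ≫ f) e he, degCount_eq (U.ι ≫ f) e he]
  haveI := finite_degree_eq f e he
  let Φ : {y : Y // EGA4loc.residueDegree (i ≫ f) y = e} ⊕
      {u : U.toScheme // EGA4loc.residueDegree (U.ι ≫ f) u = e} →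
      {x : X // EGA4loc.residueDegree f x = e} :=
    Sum.elim (fun y => ⟨i.base y.1, by rw [← residueDegree_comp f i y.1]; exact y.2⟩)
      (fun u => ⟨U.ι.base u.1, by rw [← residueDegree_comp f U.ι u.1]; exact u.2⟩)
  have hιU : ∀ u : U.toScheme, U.ι.base u ∈ U := fun u => by
    have : U.ι.base u ∈ Set.range U.ι.base := ⟨u, rfl⟩
    rwa [Scheme.Opens.range_ι] at this
  have hiU : ∀ y : Y, i.base y ∉ U := fun y => by
    have : i.base y ∈ Set.range i.base := ⟨y, rfl⟩
    rw [hY] at this
    exact this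
  have hΦ : Function.Bijective Φ := by
    constructor
    · rintro (a | a) (b | b) h
      · have h1 : i.base a.1 = i.base b.1 := Subtype.ext_iff.mp h
        have h2 : a.1 = b.1 := i.isClosedEmbedding.injective h1
        exact congrArg Sum.inl (Subtype.ext h2)
      · exfalso
        have h1 : i.base a.1 = U.ι.base b.1 := Subtype.ext_iff.mp h
        exact hiU a.1 (h1 ▸ hιU b.1)
      · exfalso
        have h1 : U.ι.base a.1 = i.base b.1 := Subtype.ext_iff.mp h
        exact hiU b.1 (h1 ▸ hιU a.1)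
      · have h1 : (Φ (Sum.inr a)).1 = (Φ (Sum.inr b)).1 := by rw [h]
        have h2 : a.1 = b.1 := U.ι.isOpenEmbedding.injective h1
        exact congrArg Sum.inr (Subtype.ext h2)
    · rintro ⟨x, hx⟩
      by_cases hxU : x ∈ U
      · have hxr : x ∈ Set.range U.ι.base := by rw [Scheme.Opens.range_ι]; exact hxU
        obtain ⟨u, rfl⟩ := hxr
        exact ⟨Sum.inr ⟨u, by rw [residueDegree_comp f U.ι u]; exact hx⟩, rfl⟩
      · have hxr : x ∈ Set.range i.base := by rw [hY]; exact hxU
        obtain ⟨y, rfl⟩ := hxr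
        exact ⟨Sum.inl ⟨y, by rw [residueDegree_comp f i y]; exact hx⟩, rfl⟩
  haveI : Finite ({y : Y // EGA4loc.residueDegree (i ≫ f) y = e} ⊕
      {u : U.toScheme // EGA4loc.residueDegree (U.ι ≫ f) u = e}) := Finite.of_injective Φ hΦ.1
  haveI : Finite {y : Y // EGA4loc.residueDegree (i ≫ f) y = e} :=
    Finite.of_injective (Sum.inl (β := {u : U.toScheme //
      EGA4loc.residueDegree (U.ι ≫ f) u = e})) Sum.inl_injective
  haveI : Finite {u : U.toScheme // EGA4loc.residueDegree (U.ι ≫ f) u = e} :=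
    Finite.of_injective (Sum.inr (α := {y : Y // EGA4loc.residueDegree (i ≫ f) y = e}))
      Sum.inr_injective
  rw [← Nat.card_congr (Equiv.ofBijective Φ hΦ), Nat.card_sum]

section zeta

variable {Y Z : Scheme.{u}} (g : Y ⟶ Spec (CommRingCat.of k)) (h : Z ⟶ Spec (CommRingCat.of k))

theorem constantCoeff_logZeta : PowerSeries.constantCoeff (Zeta.logZeta f) = 0 := by
  rw [← PowerSeries.coeff_zero_eq_constantCoeff_apply, Zeta.logZeta, PowerSeries.coeff_mk]
  simp

theorem zetaFun_eq_mul_of_nPts_add (hn : ∀ m, Zeta.nPts f m = Zeta.nPts g m + Zeta.nPts h m) :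
    Zeta.zetaFun f = Zeta.zetaFun g * Zeta.zetaFun h := by
  have hlog : Zeta.logZeta f = Zeta.logZeta g + Zeta.logZeta h := by
    ext m
    simp only [Zeta.logZeta, PowerSeries.coeff_mk, map_add, hn m, Nat.cast_add, add_div]
  have h1 := Groth.Agent.Lib.Helper27LogDeriv.LD.exp_subst _ (constantCoeff_logZeta f)
  have h2 := Groth.Agent.Lib.Helper27LogDeriv.LD.exp_subst _ (constantCoeff_logZeta g)
  have h3 := Groth.Agent.Lib.Helper27LogDeriv.LD.exp_subst _ (constantCoeff_logZeta h)
  have h4 := h2.mul h3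
  rw [← map_add, ← hlog] at h4
  apply Groth.Agent.Lib.Helper27LogDeriv.LD.unique h1 h4
  rw [PowerSeries.coeff_mul]
  simp only [Finset.Nat.antidiagonal_zero, Finset.sum_singleton]
  have e1 := Groth.Agent.Lib.Helper27LogDeriv.coeff_zero_exp_subst _ (constantCoeff_logZeta f)
  have e2 := Groth.Agent.Lib.Helper27LogDeriv.coeff_zero_exp_subst _ (constantCoeff_logZeta g)
  have e3 := Groth.Agent.Lib.Helper27LogDeriv.coeff_zero_exp_subst _ (constantCoeff_logZeta h)
  show PowerSeries.coeff 0 (Zeta.zetaFun f) =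
    PowerSeries.coeff 0 (Zeta.zetaFun g) * PowerSeries.coeff 0 (Zeta.zetaFun h)
  rw [Zeta.zetaFun, Zeta.zetaFun, Zeta.zetaFun, e1, e2, e3, mul_one]

end zeta

end Groth.Agent.Lib.H6xZetaPts
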