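import Mathlib
import Groth.Agent.Lib.H6xZetaPts2
import Groth.Agent.Lib.H6xEulerSum
import Groth.Prelude.Def_W4c1zetahwZeta

set_option autoImplicit false

/-! The Dirichlet series of effective 0-cycles on a scheme of finite type over a finite field
converges absolutely and does not vanish for `Re s > dim`. -/

namespace Groth.Agent.Lib.H6xZetaAbs

open CategoryTheory AlgebraicGeometry Groth.Agent.Lib.H6xPointCount Groth.Agent.Lib.H6xZetaPts
  Groth.Agent.Lib.H6xEulerSum

universe u

variable {k : Type u} [Field k] {X : Scheme.{u}} (f : X ⟶ Spec (CommRingCat.of k))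

theorem residueDegree_pos_of_isClosed [LocallyOfFiniteType f] (x : X)
    (hx : IsClosed ({x} : Set X)) : 0 < EGA4loc.residueDegree f x := by
  haveI : JacobsonSpace X := LocallyOfFiniteType.jacobsonSpace f
  haveI h1 : LocallyOfFiniteType (X.fromSpecResidueField x) :=
    isClosed_singleton_iff_locallyOfFiniteType.mp hx
  have h2 : LocallyOfFiniteType (Spec.map (ψ f x)) := by
    rw [SpecMap_ψ]
    infer_instance
  rw [HasRingHomProperty.Spec_iff (P := @LocallyOfFiniteType)] at h2
  rw [residueDegree_eq]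
  letI := algK f x
  haveI : Algebra.FiniteType k (X.residueField x) := h2
  haveI : Module.Finite k (X.residueField x) := finite_of_finite_type_of_isJacobsonRing k _
  exact Module.finrank_pos

theorem card_residueField [LocallyOfFiniteType f] (x : X) (hx : IsClosed ({x} : Set X)) :
    Nat.card (X.residueField x) = Nat.card k ^ EGA4loc.residueDegree f x := by
  have hpos := residueDegree_pos_of_isClosed f x hx
  rw [residueDegree_eq] at hpos ⊢
  letI := algK f x
  haveI : Module.Finite k (X.residueField x) := Module.finite_of_finrank_pos hpos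
  exact Module.natCard_eq_pow_finrank

theorem card_le [Finite k] [LocallyOfFiniteType f] [QuasiCompact f] (r : ℕ)
    (hr : topologicalKrullDim X ≤ r) :
    ∃ c : ℕ, ∀ e, 0 < e → ∀ T : Finset X,
      (∀ x ∈ T, IsClosed ({x} : Set X) ∧ EGA4loc.residueDegree f x = e) →
      T.card ≤ c * Nat.card k ^ (r * e) := by
  obtain ⟨c, hc⟩ := Groth.Agent.Lib.H6xPointCount.main f r hr
  refine ⟨c, fun e he T hT => ?_⟩
  obtain ⟨K, _, _, _, hK⟩ := exists_ext k e he
  obtain ⟨D, hD, hsum⟩ := pointCount_eq_sum f K
  have hsub : T ⊆ D := by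
    intro x hx
    rw [hD, hK, (hT x hx).2]
  have h1 := hc K
  rw [hK, hsum] at h1
  calc T.card = ∑ x ∈ T, 1 := by simp
    _ ≤ ∑ x ∈ T, EGA4loc.residueDegree f x :=
        Finset.sum_le_sum fun x hx => by rw [(hT x hx).2]; exact he
    _ ≤ ∑ x ∈ D, EGA4loc.residueDegree f x :=
        Finset.sum_le_sum_of_subset_of_nonneg hsub fun _ _ _ => Nat.zero_le _
    _ ≤ _ := h1

theorem main [Finite k] [LocallyOfFiniteType f] [QuasiCompact f] (r : ℕ)
    (hr : topologicalKrullDim X ≤ r) :
    LSeries.abscissaOfAbsConv (Zeta.arithCoeff X) ≤ (r : ℝ) ∧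
      ∀ s : ℂ, (r : ℝ) < s.re → LSeries (Zeta.arithCoeff X) s ≠ 0 := by
  obtain ⟨c, hc⟩ := card_le f r hr
  have hq : 2 ≤ Nat.card k := by
    haveI : Fintype k := Fintype.ofFinite k
    rw [Nat.card_eq_fintype_card]
    exact Fintype.one_lt_card
  have key : ∀ s : ℂ, (r : ℝ) < s.re →
      LSeriesSummable (Zeta.arithCoeff X) s ∧ LSeries (Zeta.arithCoeff X) s ≠ 0 := fun s hs =>
    euler_main (fun x : X => EGA4loc.residueDegree f x) (fun x : X => Nat.card (X.residueField x))
      (fun x : X => IsClosed ({x} : Set X)) (Nat.card k) c r hq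
      (fun x hx => card_residueField f x hx) (fun x hx => residueDegree_pos_of_isClosed f x hx)
      hc s hs
  refine ⟨?_, fun s hs => (key s hs).2⟩
  apply LSeries.abscissaOfAbsConv_le_of_forall_lt_LSeriesSummable
  intro y hy
  exact (key (y : ℂ) (by simpa using hy)).1

end Groth.Agent.Lib.H6xZetaAbs
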