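import Mathlib
import Groth.Agent.Lib.H6xPointCountZ2
import Groth.Agent.Lib.H6xEulerSum2
import Groth.Prelude.Def_W4c1zetahwZeta

set_option autoImplicit false

/-! The Dirichlet series of effective 0-cycles on a scheme of finite type over `ℤ` converges
absolutely and does not vanish for `Re s > dim`. -/

namespace Groth.Agent.Lib.H6xZetaAbsZ

open CategoryTheory AlgebraicGeometry Groth.Agent.Lib.H6xPointCountZ Groth.Agent.Lib.H6xEulerSum

universe u

theorem isJacobsonRing_ulift : IsJacobsonRing (ULift.{u} ℤ) := by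
  haveI := isJacobsonRing_int
  exact isJacobsonRing_of_surjective ⟨(ULift.ringEquiv.symm : ℤ ≃+* ULift.{u} ℤ).toRingHom,
    (ULift.ringEquiv.symm : ℤ ≃+* ULift.{u} ℤ).surjective⟩

variable {X : Scheme.{u}} (f : X ⟶ Spec (CommRingCat.of (ULift.{u} ℤ)))

/-- residue fields at closed points are finite -/
theorem finite_residueField [LocallyOfFiniteType f] (x : X) (hx : IsClosed ({x} : Set X)) :
    Finite (X.residueField x) := by
  haveI := isJacobsonRing_ulift.{u}
  haveI : JacobsonSpace X := LocallyOfFiniteType.jacobsonSpace f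
  haveI h1 : LocallyOfFiniteType (X.fromSpecResidueField x) :=
    isClosed_singleton_iff_locallyOfFiniteType.mp hx
  have h2 : LocallyOfFiniteType (X.fromSpecResidueField x ≫ f) := inferInstance
  obtain ⟨φ, hφ⟩ := Spec.map_surjective (X.fromSpecResidueField x ≫ f)
  rw [← hφ, HasRingHomProperty.Spec_iff (P := @LocallyOfFiniteType)] at h2
  have h3 : (algebraMap ℤ (X.residueField x)).FiniteType := by
    have h4 : φ.hom.comp (ULift.ringEquiv.symm : ℤ ≃+* ULift.{u} ℤ).toRingHom =
        algebraMap ℤ (X.residueField x) := Subsingleton.elim _ _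
    rw [← h4]
    exact h2.comp (RingHom.FiniteType.of_surjective _
      (ULift.ringEquiv.symm : ℤ ≃+* ULift.{u} ℤ).surjective)
  haveI : Algebra.FiniteType ℤ (X.residueField x) := RingHom.finiteType_algebraMap.mp h3
  haveI := isJacobsonRing_int
  haveI : Module.Finite ℤ (X.residueField x) := finite_of_finite_type_of_isJacobsonRing ℤ _
  have hchar : ∃ n : ℤ, n ≠ 0 ∧ ((n : ℤ) : X.residueField x) = 0 := by
    by_contra hcon
    push Not at hcon
    have hinj : Function.Injective (algebraMap ℤ (X.residueField x)) := by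
      rw [injective_iff_map_eq_zero]
      intro n hn
      by_contra hne
      exact hcon n hne (by simpa using hn)
    exact Int.not_isField (isField_of_isIntegral_of_isField hinj (Field.toIsField _))
  obtain ⟨n, hn0, hn⟩ := hchar
  apply Module.finite_of_fg_torsion
  intro y
  refine ⟨⟨n, mem_nonZeroDivisors_of_ne_zero hn0⟩, ?_⟩
  show n • y = 0
  rw [zsmul_eq_mul, hn, zero_mul]

theorem card_residueField_eq [LocallyOfFiniteType f] (x : X) (hx : IsClosed ({x} : Set X)) :
    ∃ p m, p.Prime ∧ 1 ≤ m ∧ Nat.card (X.residueField x) = p ^ m := by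
  haveI := finite_residueField f x hx
  haveI : Fintype (X.residueField x) := Fintype.ofFinite _
  obtain ⟨p, _, n, hp, hn⟩ := FiniteField.card' (X.residueField x)
  exact ⟨p, n, hp, n.2, by rw [Nat.card_eq_fintype_card, hn]⟩

omit f in
theorem pt_comp (x : X) (F : Type u) [Field F] (φ : X.residueField x →+* F) :
    pt (Spec.map (CommRingCat.ofHom φ) ≫ X.fromSpecResidueField x) = x := by
  show (Spec.map (CommRingCat.ofHom φ) ≫ X.fromSpecResidueField x).base _ = x
  rw [Scheme.Hom.comp_base]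
  exact Scheme.fromSpecResidueField_apply x _

omit f in
theorem card_le_hom_aux (T : Finset X) (F : Type u) [Field F]
    (hiso : ∀ x : T, Nonempty (X.residueField x.1 →+* F))
    [Finite (Spec (CommRingCat.of F) ⟶ X)] :
    T.card ≤ Nat.card (Spec (CommRingCat.of F) ⟶ X) := by
  let G : T → (Spec (CommRingCat.of F) ⟶ X) := fun x =>
    Spec.map (CommRingCat.ofHom (hiso x).some) ≫ X.fromSpecResidueField x.1
  have hG : Function.Injective G := by
    intro x y h
    have h1 : ∀ z : T, pt (G z) = z.1 := fun z => pt_comp z.1 F (hiso z).some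
    apply Subtype.ext
    rw [← h1 x, ← h1 y, h]
  calc T.card = Nat.card T := (Nat.card_eq_finsetCard T).symm
    _ ≤ Nat.card (Spec (CommRingCat.of F) ⟶ X) := Nat.card_le_card_of_injective G hG

theorem card_le_hom [LocallyOfFiniteType f] (T : Finset X) (p m : ℕ)
    (hT : ∀ x ∈ T, IsClosed ({x} : Set X) ∧ Nat.card (X.residueField x) = p ^ m) :
    T = ∅ ∨ ∃ (F : Type u) (_ : Field F), Nat.card F = p ^ m ∧
      (Finite (Spec (CommRingCat.of F) ⟶ X) →
        T.card ≤ Nat.card (Spec (CommRingCat.of F) ⟶ X)) := by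
  rcases T.eq_empty_or_nonempty with h | ⟨x₀, hx₀⟩
  · left
    exact h
  right
  obtain ⟨F, hFdef⟩ : ∃ F : Type u, F = (X.residueField x₀ : Type u) := ⟨_, rfl⟩
  obtain ⟨instF, e₀⟩ : ∃ (_ : Field F), Nonempty (X.residueField x₀ ≃+* F) := by
    subst hFdef
    exact ⟨inferInstance, ⟨RingEquiv.refl _⟩⟩
  obtain ⟨e₀⟩ := e₀
  have hcardF : Nat.card F = p ^ m := by
    rw [← (hT x₀ hx₀).2]
    exact Nat.card_congr e₀.symm.toEquiv
  refine ⟨F, instF, hcardF, fun hfin => ?_⟩
  have hiso : ∀ x : T, Nonempty (X.residueField x.1 →+* F) := by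
    intro x
    haveI := finite_residueField f x.1 (hT x.1 x.2).1
    haveI : Finite F := Nat.finite_of_card_ne_zero (by
      rw [hcardF, ← (hT x.1 x.2).2]
      exact Nat.card_pos.ne')
    haveI : Fintype (X.residueField x.1) := Fintype.ofFinite _
    haveI : Fintype F := Fintype.ofFinite _
    exact ⟨(FiniteField.ringEquivOfCardEq (by
      rw [← Nat.card_eq_fintype_card, ← Nat.card_eq_fintype_card, (hT x.1 x.2).2,
        hcardF])).toRingHom⟩
  exact card_le_hom_aux T F hiso

theorem main [LocallyOfFiniteType f] [QuasiCompact f] (r : ℕ)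
    (hr : topologicalKrullDim X ≤ r) :
    LSeries.abscissaOfAbsConv (Zeta.arithCoeff X) ≤ (r : ℝ) ∧
      ∀ s : ℂ, (r : ℝ) < s.re → LSeries (Zeta.arithCoeff X) s ≠ 0 := by
  obtain ⟨C, p₀, hC⟩ := Groth.Agent.Lib.H6xPointCountZ.main f r hr
  have hpp : ∀ x : X, IsClosed ({x} : Set X) →
      ∃ p m, p.Prime ∧ 1 ≤ m ∧ Nat.card (X.residueField x) = p ^ m := card_residueField_eq f
  have hcount : ∀ p m, p.Prime → 1 ≤ m → ∀ T : Finset X,
      (∀ x ∈ T, IsClosed ({x} : Set X) ∧ Nat.card (X.residueField x) = p ^ m) →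
      (p₀ ≤ p → T.card * p ^ m ≤ C * p ^ (m * r)) ∧ T.card ≤ C * p ^ (m * r) := by
    intro p m hp hm T hT
    rcases card_le_hom f T p m hT with h | ⟨F, _, hF, hle⟩
    · subst h
      simp
    · obtain ⟨hfin, h1, h2⟩ := hC p m hp hm F hF
      have h3 := hle hfin
      exact ⟨fun hp₀ => (Nat.mul_le_mul_right _ h3).trans (h1 hp₀), h3.trans h2⟩
  have hN2 : ∀ x : X, IsClosed ({x} : Set X) → 2 ≤ Nat.card (X.residueField x) := by
    intro x hx
    obtain ⟨p, m, hp, hm, h⟩ := hpp x hx
    rw [h]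
    calc 2 ≤ p := hp.two_le
      _ = p ^ 1 := (pow_one p).symm
      _ ≤ p ^ m := Nat.pow_le_pow_right hp.pos hm
  have key : ∀ s : ℂ, (r : ℝ) < s.re →
      LSeriesSummable (Zeta.arithCoeff X) s ∧ LSeries (Zeta.arithCoeff X) s ≠ 0 := fun s hs =>
    euler_main' (fun x : X => Nat.card (X.residueField x)) (fun x : X => IsClosed ({x} : Set X))
      hN2 s (lt_of_le_of_lt (Nat.cast_nonneg r) hs)
      (summable_arith _ _ C p₀ r hpp hcount s.re hs)
  refine ⟨?_, fun s hs => (key s hs).2⟩
  apply LSeries.abscissaOfAbsConv_le_of_forall_lt_LSeriesSummable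
  intro y hy
  exact (key (y : ℂ) (by simpa using hy)).1

end Groth.Agent.Lib.H6xZetaAbsZ
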