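import Mathlib
import Groth.Agent.Lib.H6xZetaPts2

set_option autoImplicit false

/-! Zeta function of a base change to a finite extension of the finite base field. -/

namespace Groth.Agent.Lib.H6xZetaPts

open CategoryTheory AlgebraicGeometry Groth.Agent.Lib.H6xPointCount
open Groth.Agent.Lib.Helper27LogDeriv

universe u

section ps

open PowerSeries

variable {K : Type*} [Field K] [CharZero K]

theorem LD.unique' {F G S : K⟦X⟧} (hF : LD F S) (hG : LD G S) (h0 : coeff 0 F = coeff 0 G) :
    F = G := by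
  ext n
  induction n using Nat.strong_induction_on with
  | _ n ih =>
    cases n with
    | zero => exact h0
    | succ n =>
      have h1 := hF.coeff_succ n
      have h2 := hG.coeff_succ n
      have h3 : ∑ p ∈ Finset.HasAntidiagonal.antidiagonal n, coeff p.1 F * coeff p.2 S =
          ∑ p ∈ Finset.HasAntidiagonal.antidiagonal n, coeff p.1 G * coeff p.2 S := by
        refine Finset.sum_congr rfl (fun p hp => ?_)
        rw [ih p.1 (by have := Finset.HasAntidiagonal.mem_antidiagonal.mp hp; omega)]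
      have h4 : ((n : K) + 1) ≠ 0 := Nat.cast_add_one_ne_zero n
      rw [← h3, ← h1] at h2
      exact (mul_right_cancel₀ h4 h2).symm

variable [Algebra ℚ K]

theorem LD.exp_subst' (L : K⟦X⟧) (hL : constantCoeff L = 0) :
    LD ((PowerSeries.exp K).subst L) (d⁄dX K L) := by
  unfold LD
  rw [derivative_subst (HasSubst.of_constantCoeff_zero' hL), derivative_exp]

theorem coeff_zero_exp_subst' (L : K⟦X⟧) (hL : constantCoeff L = 0) :
    coeff 0 ((PowerSeries.exp K).subst L) = 1 := by
  rw [coeff_subst' (HasSubst.of_constantCoeff_zero' hL), finsum_eq_single _ 0]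
  · simp
  · intro n hn
    rw [coeff_zero_eq_constantCoeff_apply, map_pow, hL, zero_pow hn, smul_zero]

theorem exp_subst_add (L₁ L₂ : K⟦X⟧) (h₁ : constantCoeff L₁ = 0) (h₂ : constantCoeff L₂ = 0) :
    (PowerSeries.exp K).subst (L₁ + L₂) =
      (PowerSeries.exp K).subst L₁ * (PowerSeries.exp K).subst L₂ := by
  have h12 : constantCoeff (L₁ + L₂) = 0 := by rw [map_add, h₁, h₂, add_zero]
  have e1 := LD.exp_subst' (L₁ + L₂) h12
  have e2 := (LD.exp_subst' L₁ h₁).mul (LD.exp_subst' L₂ h₂)
  rw [← map_add] at e2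
  apply LD.unique' e1 e2
  rw [coeff_mul]
  simp only [Finset.Nat.antidiagonal_zero, Finset.sum_singleton]
  rw [coeff_zero_exp_subst' _ h12, coeff_zero_exp_subst' _ h₁, coeff_zero_exp_subst' _ h₂, mul_one]

theorem exp_subst_zero : (PowerSeries.exp K).subst (0 : K⟦X⟧) = 1 := by
  have e1 := LD.exp_subst' (0 : K⟦X⟧) (map_zero _)
  rw [map_zero] at e1
  exact LD.unique' e1 LD.one (by rw [coeff_zero_exp_subst' _ (map_zero _), coeff_one, if_pos rfl])

theorem exp_subst_sum {ι : Type*} (s : Finset ι) (L : ι → K⟦X⟧)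
    (h : ∀ i ∈ s, constantCoeff (L i) = 0) :
    (PowerSeries.exp K).subst (∑ i ∈ s, L i) = ∏ i ∈ s, (PowerSeries.exp K).subst (L i) := by
  classical
  induction s using Finset.induction_on with
  | empty => rw [Finset.sum_empty, Finset.prod_empty, exp_subst_zero]
  | insert a s ha ih =>
    rw [Finset.sum_insert ha, Finset.prod_insert ha, exp_subst_add _ _
      (h a (Finset.mem_insert_self a s)), ih (fun i hi => h i (Finset.mem_insert_of_mem hi))]
    rw [map_sum]
    exact Finset.sum_eq_zero fun i hi => h i (Finset.mem_insert_of_mem hi)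

theorem rescale_exp_subst (c : K) (L : K⟦X⟧) (hL : constantCoeff L = 0) :
    rescale c ((PowerSeries.exp K).subst L) = (PowerSeries.exp K).subst (rescale c L) := by
  rw [rescale_eq_subst, rescale_eq_subst,
    subst_comp_subst_apply (HasSubst.of_constantCoeff_zero' hL) (HasSubst.smul_X' c)]

theorem subst_X_pow_exp_subst (r : ℕ) (hr : r ≠ 0) (L : K⟦X⟧) (hL : constantCoeff L = 0) :
    subst (X ^ r : K⟦X⟧) ((PowerSeries.exp K).subst L) =
      (PowerSeries.exp K).subst (subst (X ^ r : K⟦X⟧) L) := by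
  rw [subst_comp_subst_apply (HasSubst.of_constantCoeff_zero' hL) (HasSubst.X_pow hr)]

theorem map_exp_subst (L : ℚ⟦X⟧) (hL : constantCoeff L = 0) :
    map (algebraMap ℚ K) ((PowerSeries.exp ℚ).subst L) =
      (PowerSeries.exp K).subst (map (algebraMap ℚ K) L) := by
  calc map (algebraMap ℚ K) ((PowerSeries.exp ℚ).subst L)
      = (map (algebraMap ℚ K) (PowerSeries.exp ℚ)).subst (map (algebraMap ℚ K) L) :=
        map_subst (HasSubst.of_constantCoeff_zero' hL) _
    _ = _ := by rw [map_exp]

theorem sum_pow_primitiveRoot {ξ : K} {r : ℕ} (hξ : IsPrimitiveRoot ξ r) (n : ℕ) :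
    ∑ i ∈ Finset.range r, (ξ ^ i) ^ n = if r ∣ n then (r : K) else 0 := by
  have h1 : ∀ i, (ξ ^ i) ^ n = (ξ ^ n) ^ i := fun i => by rw [← pow_mul, ← pow_mul, mul_comm]
  simp only [h1]
  split_ifs with h
  · rw [(hξ.pow_eq_one_iff_dvd n).mpr h]
    simp
  · have hne : ξ ^ n ≠ 1 := fun h' => h ((hξ.pow_eq_one_iff_dvd n).mp h')
    have h2 := geom_sum_mul (ξ ^ n) r
    rw [← pow_mul, mul_comm n r, pow_mul, hξ.pow_eq_one, one_pow, sub_self] at h2
    exact (mul_eq_zero.mp h2).resolve_right (sub_ne_zero.mpr hne)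

end ps

section bc

open Limits

variable {k : Type u} [Field k] {X : Scheme.{u}} (f : X ⟶ Spec (CommRingCat.of k))
  (k' : Type u) [Field k'] [Algebra k k']

/-- points of the base change -/
noncomputable def ptsBaseChange (K : Type u) [Field K] [Algebra k' K] [Algebra k K]
    [IsScalarTower k k' K] :
    Pts (pullback.snd f (Spec.map (CommRingCat.ofHom (algebraMap k k')))) K ≃ Pts f K where
  toFun g := Subtype.mk (g.1 ≫ pullback.fst f _) (by
    rw [Category.assoc, pullback.condition, ← Category.assoc, g.2, ← Spec.map_comp,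
      ← CommRingCat.ofHom_comp, ← IsScalarTower.algebraMap_eq])
  invFun g := Subtype.mk (pullback.lift g.1 (Spec.map (CommRingCat.ofHom (algebraMap k' K))) (by
    rw [g.2, ← Spec.map_comp, ← CommRingCat.ofHom_comp, ← IsScalarTower.algebraMap_eq]))
    (pullback.lift_snd _ _ _)
  left_inv g := by
    apply Subtype.ext
    apply pullback.hom_ext
    · exact pullback.lift_fst _ _ _
    · rw [pullback.lift_snd]
      exact g.2.symm
  right_inv g := by
    apply Subtype.ext
    exact pullback.lift_fst _ _ _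

theorem nPts_baseChange [Finite k'] [LocallyOfFiniteType f] [QuasiCompact f] (j : ℕ) :
    Zeta.nPts (pullback.snd f (Spec.map (CommRingCat.ofHom (algebraMap k k')))) j =
      Zeta.nPts f (Module.finrank k k' * j) := by
  rcases Nat.eq_zero_or_pos j with rfl | hj
  · simp [Zeta.nPts]
  obtain ⟨K, hKf, hKa, hKfin, hK⟩ := exists_ext k' j hj
  letI : Algebra k K := ((algebraMap k' K).comp (algebraMap k k')).toAlgebra
  haveI : IsScalarTower k k' K := IsScalarTower.of_algebraMap_eq (fun _ => rfl)
  have h1 := pointCount_eq_nPts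
    (pullback.snd f (Spec.map (CommRingCat.ofHom (algebraMap k k')))) K
  have h2 := pointCount_eq_nPts f K
  rw [hK] at h1
  have h3 : Module.finrank k K = Module.finrank k k' * j := by
    rw [← hK, Module.finrank_mul_finrank]
  rw [h3] at h2
  rw [← h1, ← h2]
  exact Nat.card_congr (ptsBaseChange f k' K)

open PowerSeries in
theorem zeta_baseChange [Finite k'] [LocallyOfFiniteType f] [QuasiCompact f] (ξ : ℂ)
    (hξ : IsPrimitiveRoot ξ (Module.finrank k k')) :
    PowerSeries.subst ((PowerSeries.X : PowerSeries ℂ) ^ Module.finrank k k')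
        (PowerSeries.map (algebraMap ℚ ℂ) (Zeta.zetaFun
          (pullback.snd f (Spec.map (CommRingCat.ofHom (algebraMap k k')))))) =
      ∏ i ∈ Finset.range (Module.finrank k k'),
        PowerSeries.rescale (ξ ^ i) (PowerSeries.map (algebraMap ℚ ℂ) (Zeta.zetaFun f)) := by
  haveI : Module.Finite k k' := Module.Finite.of_finite
  have hr : Module.finrank k k' ≠ 0 := Module.finrank_pos.ne'
  have hnP := nPts_baseChange f k'
  obtain ⟨r, hrdef⟩ : ∃ r, r = Module.finrank k k' := ⟨_, rfl⟩
  rw [← hrdef] at hr hξ hnP ⊢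
  obtain ⟨f', hf'⟩ : ∃ f', f' = pullback.snd f (Spec.map (CommRingCat.ofHom (algebraMap k k'))) :=
    ⟨_, rfl⟩
  rw [← hf'] at hnP ⊢
  have hL := constantCoeff_logZeta f
  have hL' := constantCoeff_logZeta f'
  have hmL : constantCoeff (map (algebraMap ℚ ℂ) (Zeta.logZeta f)) = 0 := by
    rw [← coeff_zero_eq_constantCoeff_apply, coeff_map, coeff_zero_eq_constantCoeff_apply, hL,
      map_zero]
  have hmL' : constantCoeff (map (algebraMap ℚ ℂ) (Zeta.logZeta f')) = 0 := by
    rw [← coeff_zero_eq_constantCoeff_apply, coeff_map, coeff_zero_eq_constantCoeff_apply, hL',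
      map_zero]
  have hresc : ∀ c : ℂ, constantCoeff (rescale c (map (algebraMap ℚ ℂ) (Zeta.logZeta f))) = 0 := by
    intro c
    rw [← coeff_zero_eq_constantCoeff_apply, coeff_rescale, coeff_zero_eq_constantCoeff_apply, hmL,
      mul_zero]
  rw [Zeta.zetaFun, Zeta.zetaFun, map_exp_subst _ hL', map_exp_subst _ hL,
    subst_X_pow_exp_subst r hr _ hmL',
    Finset.prod_congr rfl (fun i _ => rescale_exp_subst (ξ ^ i) _ hmL),
    ← exp_subst_sum _ _ (fun i _ => hresc (ξ ^ i))]
  congr 1
  ext n
  rw [coeff_subst_X_pow hr, map_sum]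
  simp only [coeff_rescale, coeff_map, Zeta.logZeta, coeff_mk]
  rw [← Finset.sum_mul, sum_pow_primitiveRoot hξ n]
  split_ifs with h
  · obtain ⟨j, rfl⟩ := h
    rw [Nat.mul_div_cancel_left j (Nat.pos_of_ne_zero hr), hnP j]
    simp only [map_div₀, map_natCast, Nat.cast_mul, map_mul, Algebra.algebraMap_self, RingHom.id_apply]
    rcases Nat.eq_zero_or_pos j with rfl | hj
    · simp
    · have hj' : (j : ℂ) ≠ 0 := Nat.cast_ne_zero.mpr hj.ne'
      have hr' : (r : ℂ) ≠ 0 := Nat.cast_ne_zero.mpr hr
      field_simp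
      try ring
  · simp

end bc

end Groth.Agent.Lib.H6xZetaPts
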