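import Mathlib
import Groth.Agent.Lib.H6xZetaPts3

set_option autoImplicit false

/-! Zeta functions: finite partitions by immersed subschemes. -/

namespace Groth.Agent.Lib.H6xZetaPts

open CategoryTheory AlgebraicGeometry Groth.Agent.Lib.H6xPointCount

universe u

variable {k : Type u} [Field k] {X : Scheme.{u}} (f : X ⟶ Spec (CommRingCat.of k))

theorem degCount_sum [Finite k] [LocallyOfFiniteType f] [QuasiCompact f]
    {ι : Type u} [Fintype ι] (Y : ι → Scheme.{u}) (g : ∀ i, Y i ⟶ X) [∀ i, IsImmersion (g i)]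
    (hpart : ∀ x : X, IsClosed ({x} : Set X) → ∃! i, x ∈ Set.range (g i).base)
    (e : ℕ) (he : 0 < e) :
    Zeta.degCount f e = ∑ i, Zeta.degCount (g i ≫ f) e := by
  rw [degCount_eq f e he]
  have hrw : ∀ i, Zeta.degCount (g i ≫ f) e =
      Nat.card {y : Y i // EGA4loc.residueDegree (g i ≫ f) y = e} :=
    fun i => degCount_eq (g i ≫ f) e he
  rw [Finset.sum_congr rfl fun i _ => hrw i]
  haveI := finite_degree_eq f e he
  let Φ : (Σ i, {y : Y i // EGA4loc.residueDegree (g i ≫ f) y = e}) →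
      {x : X // EGA4loc.residueDegree f x = e} :=
    fun p => ⟨(g p.1).base p.2.1, by
      rw [← residueDegree_comp f (g p.1) p.2.1]
      exact p.2.2⟩
  have hΦ : Function.Bijective Φ := by
    constructor
    · rintro ⟨i, y, hy⟩ ⟨j, z, hz⟩ h
      have h1 : (g i).base y = (g j).base z := Subtype.ext_iff.mp h
      have hcl : IsClosed ({(g i).base y} : Set X) :=
        isClosed_of_residueDegree_ne_zero f _ (by
          rw [← residueDegree_comp f (g i) y, hy]
          omega)
      obtain ⟨i₀, -, huniq⟩ := hpart _ hcl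
      have hi : i = i₀ := huniq i ⟨y, rfl⟩
      have hj : j = i₀ := huniq j ⟨z, h1.symm⟩
      have hij : i = j := hi.trans hj.symm
      subst hij
      have hyz : y = z := (g i).isEmbedding.injective h1
      subst hyz
      rfl
    · rintro ⟨x, hx⟩
      have hcl : IsClosed ({x} : Set X) := isClosed_of_residueDegree_ne_zero f x (by omega)
      obtain ⟨i, ⟨y, rfl⟩, -⟩ := hpart x hcl
      exact ⟨⟨i, y, by
        rw [residueDegree_comp f (g i) y]
        exact hx⟩, rfl⟩
  haveI : Finite (Σ i, {y : Y i // EGA4loc.residueDegree (g i ≫ f) y = e}) :=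
    Finite.of_injective Φ hΦ.1
  haveI : ∀ i, Finite {y : Y i // EGA4loc.residueDegree (g i ≫ f) y = e} := fun i =>
    Finite.of_injective
      (fun y => (⟨i, y⟩ : Σ i, {y : Y i // EGA4loc.residueDegree (g i ≫ f) y = e}))
      (fun a b h => eq_of_heq (Sigma.mk.inj_iff.mp h).2)
  rw [← Nat.card_congr (Equiv.ofBijective Φ hΦ), Nat.card_sigma]

theorem zetaFun_eq_prod_of_nPts_sum {ι : Type*} [Fintype ι] {Y : ι → Scheme.{u}}
    (h : ∀ i, Y i ⟶ Spec (CommRingCat.of k))
    (hn : ∀ m, Zeta.nPts f m = ∑ i, Zeta.nPts (h i) m) :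
    Zeta.zetaFun f = ∏ i, Zeta.zetaFun (h i) := by
  have hlog : Zeta.logZeta f = ∑ i, Zeta.logZeta (h i) := by
    ext m
    simp only [Zeta.logZeta, PowerSeries.coeff_mk, map_sum, hn m, Nat.cast_sum, Finset.sum_div]
  rw [Zeta.zetaFun, hlog, exp_subst_sum _ _ (fun i _ => constantCoeff_logZeta (h i))]
  rfl

theorem zetaFun_eq_prod_of_partition [Finite k] [LocallyOfFiniteType f] [QuasiCompact f]
    {ι : Type u} [Fintype ι] (Y : ι → Scheme.{u}) (g : ∀ i, Y i ⟶ X) [∀ i, IsImmersion (g i)]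
    (hpart : ∀ x : X, IsClosed ({x} : Set X) → ∃! i, x ∈ Set.range (g i).base) :
    Zeta.zetaFun f = ∏ i, Zeta.zetaFun (g i ≫ f) := by
  apply zetaFun_eq_prod_of_nPts_sum f (fun i => g i ≫ f)
  intro m
  simp only [Zeta.nPts]
  rw [Finset.sum_comm]
  apply Finset.sum_congr rfl
  intro e he
  have he0 : 0 < e := Nat.pos_of_mem_divisors he
  rw [degCount_sum f Y g hpart e he0, Finset.mul_sum]

end Groth.Agent.Lib.H6xZetaPts
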