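import Mathlib
import Groth.Agent.Lib.H6xZetaPts3

set_option autoImplicit false

/-! Zeta function of the affine line over a scheme of finite type over a finite field. -/

namespace Groth.Agent.Lib.H6xZetaPts

open CategoryTheory AlgebraicGeometry Groth.Agent.Lib.H6xPointCount

universe u

variable {k : Type u} [Field k] {X : Scheme.{u}} (f : X ⟶ Spec (CommRingCat.of k))

/-- points of the affine line over `X` -/
noncomputable def ptsAffineLine (K : Type u) [Field K] [Algebra k K] :
    Pts ((𝔸(PUnit.{u + 1}; X) ↘ X) ≫ f) K ≃ Pts f K × K where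
  toFun g := (Subtype.mk (g.1 ≫ (𝔸(PUnit.{u + 1}; X) ↘ X)) (by
      rw [Category.assoc]
      exact g.2),
    (Scheme.ΓSpecIso (CommRingCat.of K)).hom.hom
      (g.1.appTop (AffineSpace.coord X PUnit.unit)))
  invFun p := Subtype.mk
    (AffineSpace.homOfVector p.1.1 (fun _ => (Scheme.ΓSpecIso (CommRingCat.of K)).inv.hom p.2)) (by
      rw [← Category.assoc, AffineSpace.homOfVector_over]
      exact p.1.2)
  left_inv g := by
    apply Subtype.ext
    apply AffineSpace.hom_ext
    · exact AffineSpace.homOfVector_over _ _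
    · intro i
      rw [AffineSpace.homOfVector_appTop_coord]
      show (Scheme.ΓSpecIso (CommRingCat.of K)).inv.hom
        ((Scheme.ΓSpecIso (CommRingCat.of K)).hom.hom _) = _
      rw [← RingHom.comp_apply, ← CommRingCat.hom_comp, Iso.hom_inv_id]
      rfl
  right_inv p := by
    apply Prod.ext
    · apply Subtype.ext
      exact AffineSpace.homOfVector_over _ _
    · show (Scheme.ΓSpecIso (CommRingCat.of K)).hom.hom
        ((AffineSpace.homOfVector p.1.1 _).appTop (AffineSpace.coord X PUnit.unit)) = p.2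
      rw [AffineSpace.homOfVector_appTop_coord, ← RingHom.comp_apply, ← CommRingCat.hom_comp,
        Iso.inv_hom_id]
      rfl

theorem nPts_affineLine [Finite k] [LocallyOfFiniteType f] [QuasiCompact f] (m : ℕ) :
    Zeta.nPts ((𝔸(PUnit.{u + 1}; X) ↘ X) ≫ f) m = Nat.card k ^ m * Zeta.nPts f m := by
  rcases Nat.eq_zero_or_pos m with rfl | hm
  · simp [Zeta.nPts]
  obtain ⟨K, hKf, hKa, hKfin, hK⟩ := exists_ext k m hm
  have h1 := pointCount_eq_nPts ((𝔸(PUnit.{u + 1}; X) ↘ X) ≫ f) K
  have h2 := pointCount_eq_nPts f K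
  rw [hK] at h1 h2
  rw [← h1, ← h2]
  haveI : Module.Finite k K := Module.Finite.of_finite
  have h3 : Nat.card K = Nat.card k ^ m := by
    rw [← hK]
    exact Module.natCard_eq_pow_finrank
  show Nat.card (Pts ((𝔸(PUnit.{u + 1}; X) ↘ X) ≫ f) K) = Nat.card k ^ m * Nat.card (Pts f K)
  rw [Nat.card_congr (ptsAffineLine f K), Nat.card_prod, h3, mul_comm]

theorem zetaFun_affineLine [Finite k] [LocallyOfFiniteType f] [QuasiCompact f] :
    Zeta.zetaFun ((𝔸(PUnit.{u + 1}; X) ↘ X) ≫ f) =
      PowerSeries.rescale (Nat.card k : ℚ) (Zeta.zetaFun f) := by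
  have hlog : Zeta.logZeta ((𝔸(PUnit.{u + 1}; X) ↘ X) ≫ f) =
      PowerSeries.rescale (Nat.card k : ℚ) (Zeta.logZeta f) := by
    ext m
    rw [PowerSeries.coeff_rescale]
    simp only [Zeta.logZeta, PowerSeries.coeff_mk, nPts_affineLine f m]
    push_cast
    ring
  rw [Zeta.zetaFun, hlog, Zeta.zetaFun, rescale_exp_subst _ _ (constantCoeff_logZeta f)]

end Groth.Agent.Lib.H6xZetaPts
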