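import Mathlib
import Groth.Prelude.Def_HTop2
import Groth.Agent.Lib.Helper20AWN
import Groth.Agent.Lib.Helper20AWNRing
import Groth.Agent.Lib.Helper11SN

/-!
# Functoriality of the absolute weak normalization of rings and compatibility with localization
-/

set_option autoImplicit false
universe u

namespace Groth.Agent.Lib.H9AWN

open AlgebraicGeometry CategoryTheory TensorProduct
open Groth.Agent.Lib.Helper20.AWN

/-- Base change of `UH`. -/
theorem UH_includeRight {R A B : Type u} [CommRing R] [CommRing A] [CommRing B]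
    [Algebra R A] [Algebra R B] (h : UH (algebraMap R A)) :
    UH (Algebra.TensorProduct.includeRight.toRingHom : B →+* A ⊗[R] B) := by
  rw [← isUnivHomeo_iff_UH] at h ⊢
  have sq := isPullback_SpecMap_of_isPushout _ _ _ _ (CommRingCat.isPushout_tensorProduct R A B)
  unfold FlatMor.IsUnivHomeo at h ⊢
  exact MorphismProperty.of_isPullback sq h

section awnMap

variable {A B C : Type u} [CommRing A] [CommRing B] [CommRing C]

theorem existsUnique_awnMap (f : A →+* B) :
    ∃! g : awn A →+* awn B, g.comp (toAwn A) = (toAwn B).comp f := by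
  letI := (toAwn A).toAlgebra
  letI := f.toAlgebra
  have hψ : UH (Algebra.TensorProduct.includeRight.toRingHom : B →+* awn A ⊗[A] B) :=
    UH_includeRight (R := A) (A := awn A) (B := B) (UH_toAwn A)
  obtain ⟨χ, hχ, hχu⟩ := (isRingAWN_toAwn B).2 (awn A ⊗[A] B) _ ((isUnivHomeo_iff_UH _).mpr hψ)
  have hχ' : ∀ b : B, χ ((1 : awn A) ⊗ₜ[A] b) = toAwn B b := fun b => RingHom.congr_fun hχ b
  refine ⟨χ.comp (Algebra.TensorProduct.includeLeftRingHom : awn A →+* awn A ⊗[A] B), ?_, ?_⟩
  · refine RingHom.ext fun a => ?_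
    show χ ((toAwn A a) ⊗ₜ[A] (1 : B)) = toAwn B (f a)
    rw [← hχ' (f a)]
    congr 1
    have h1 : (toAwn A a) ⊗ₜ[A] (1 : B) = (a • (1 : awn A)) ⊗ₜ[A] (1 : B) := by
      rw [Algebra.smul_def, mul_one]; rfl
    have h2 : (1 : awn A) ⊗ₜ[A] (f a) = (1 : awn A) ⊗ₜ[A] (a • (1 : B)) := by
      rw [Algebra.smul_def, mul_one]; rfl
    rw [h1, h2, TensorProduct.smul_tmul]
  · intro g hg
    -- the induced map on the tensor product
    letI : Algebra A (awn B) := ((toAwn B).comp f).toAlgebra
    let gA : awn A →ₐ[A] awn B :=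
      { g with commutes' := fun a => RingHom.congr_fun hg a }
    let tB : B →ₐ[A] awn B := { toAwn B with commutes' := fun a => rfl }
    let G : awn A ⊗[A] B →ₐ[A] awn B := Algebra.TensorProduct.productMap gA tB
    have hG : G.toRingHom.comp (Algebra.TensorProduct.includeRight.toRingHom : B →+* awn A ⊗[A] B)
        = toAwn B := by
      refine RingHom.ext fun b => ?_
      show G ((1 : awn A) ⊗ₜ[A] b) = toAwn B b
      simp [G, tB]
    have := hχu G.toRingHom hG
    refine RingHom.ext fun y => ?_
    have h3 : G.toRingHom (y ⊗ₜ[A] (1 : B)) = g y := by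
      show G (y ⊗ₜ[A] (1 : B)) = g y
      simp [G, gA]
    rw [← h3, this]
    rfl

/-- The functorial map on absolute weak normalizations. -/
noncomputable def awnMap (f : A →+* B) : awn A →+* awn B := (existsUnique_awnMap f).choose

theorem awnMap_comp_toAwn (f : A →+* B) : (awnMap f).comp (toAwn A) = (toAwn B).comp f :=
  (existsUnique_awnMap f).choose_spec.1

theorem awnMap_apply_toAwn (f : A →+* B) (a : A) : awnMap f (toAwn A a) = toAwn B (f a) :=
  RingHom.congr_fun (awnMap_comp_toAwn f) a

theorem awnMap_unique (f : A →+* B) (g : awn A →+* awn B)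
    (hg : g.comp (toAwn A) = (toAwn B).comp f) : g = awnMap f :=
  (existsUnique_awnMap f).choose_spec.2 g hg

theorem awnMap_id : awnMap (RingHom.id A) = RingHom.id (awn A) :=
  (awnMap_unique (RingHom.id A) (RingHom.id (awn A))
    (by rw [RingHom.id_comp, RingHom.comp_id])).symm

theorem awnMap_comp (f : A →+* B) (g : B →+* C) :
    awnMap (g.comp f) = (awnMap g).comp (awnMap f) := by
  symm
  apply awnMap_unique
  rw [RingHom.comp_assoc, awnMap_comp_toAwn, ← RingHom.comp_assoc, awnMap_comp_toAwn,
    RingHom.comp_assoc]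

end awnMap

section localization

variable {A A' : Type u} [CommRing A] [CommRing A']

/-- The absolute weak normalization commutes with localization away from an element. -/
theorem isLocalization_awnMap (ρ : A →+* A') (f : A)
    (h : @IsLocalization.Away A _ f A' _ ρ.toAlgebra) :
    @IsLocalization.Away (awn A) _ (toAwn A f) (awn A') _ (awnMap ρ).toAlgebra := by
  letI : Algebra A (awn A) := (toAwn A).toAlgebra
  letI : Algebra A A' := ρ.toAlgebra
  haveI : IsLocalization.Away f A' := h
  haveI hloc : IsLocalization (Algebra.algebraMapSubmonoid (awn A) (Submonoid.powers f))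
      (awn A ⊗[A] A') := IsLocalization.tensor (S := awn A) A' (Submonoid.powers f)
  have hsub : Algebra.algebraMapSubmonoid (awn A) (Submonoid.powers f) =
      Submonoid.powers (toAwn A f) := by
    rw [Algebra.algebraMapSubmonoid, Submonoid.map_powers]
    rfl
  haveI hloc' : IsLocalization.Away (toAwn A f) (awn A ⊗[A] A') := by
    unfold IsLocalization.Away
    rw [← hsub]
    exact hloc
  have hCawn : HTop.IsAWNRing (awn A ⊗[A] A') :=
    Groth.Agent.Lib.Helper11.isAWNRing_away (toAwn A f)
      (isAWNRing_of_isRingAWN (toAwn A) (isRingAWN_toAwn A))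
  have hψ : UH (Algebra.TensorProduct.includeRight.toRingHom : A' →+* awn A ⊗[A] A') :=
    UH_includeRight (R := A) (A := awn A) (B := A') (UH_toAwn A)
  obtain ⟨χ, hχ, -⟩ := (isRingAWN_toAwn A').2 (awn A ⊗[A] A') _ ((isUnivHomeo_iff_UH _).mpr hψ)
  have hχ' : ∀ b : A', χ ((1 : awn A) ⊗ₜ[A] b) = toAwn A' b := fun b => RingHom.congr_fun hχ b
  have hχUH : UH χ := UH_of_comp_of_UH _ χ hψ (by rw [hχ]; exact UH_toAwn A')
  haveI : IsReduced (awn A') := isReduced_of_isRingAWN (toAwn A') (isRingAWN_toAwn A')
  have hbij := bijective_of_UH_of_isAWNRing χ hχUH hCawn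
  have hmap : awnMap ρ =
      χ.comp (Algebra.TensorProduct.includeLeftRingHom : awn A →+* awn A ⊗[A] A') := by
    symm
    apply awnMap_unique
    refine RingHom.ext fun a => ?_
    show χ ((toAwn A a) ⊗ₜ[A] (1 : A')) = toAwn A' (ρ a)
    rw [← hχ' (ρ a)]
    congr 1
    have h1 : (toAwn A a) ⊗ₜ[A] (1 : A') = (a • (1 : awn A)) ⊗ₜ[A] (1 : A') := by
      rw [Algebra.smul_def, mul_one]; rfl
    have h2 : (1 : awn A) ⊗ₜ[A] (ρ a) = (1 : awn A) ⊗ₜ[A] (a • (1 : A')) := by
      rw [Algebra.smul_def, mul_one]; rfl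
    rw [h1, h2, TensorProduct.smul_tmul]
  letI : Algebra (awn A) (awn A') := (awnMap ρ).toAlgebra
  let e : (awn A ⊗[A] A') ≃ₐ[awn A] awn A' :=
    { RingEquiv.ofBijective χ hbij with
      commutes' := fun y => by
        show χ (y ⊗ₜ[A] (1 : A')) = awnMap ρ y
        rw [hmap]
        rfl }
  exact IsLocalization.isLocalization_of_algEquiv (Submonoid.powers (toAwn A f)) e

end localization

end Groth.Agent.Lib.H9AWN
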