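import Mathlib
import Groth.Prelude.Def_HTop2
import Groth.Agent.Lib.H9AWNFun
import Groth.Agent.S0415

/-!
# Gluing the absolute weak normalizations of the affine opens of a scheme
-/

set_option autoImplicit false
universe u

namespace Groth.Agent.Lib.H9AWN

open AlgebraicGeometry CategoryTheory Limits
open Groth.Agent.Lib.Helper20.AWN
open AlgebraicGeometry.Scheme AlgebraicGeometry.Scheme.AffineZariskiSite

variable (X : Scheme.{u})

variable {X} in
/-- Restriction maps between affine opens, as ring homomorphisms. -/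
noncomputable def resMap {U V : X.AffineZariskiSite} (i : U ⟶ V) :
    Γ(X, V.toOpens) →+* Γ(X, U.toOpens) :=
  (X.presheaf.map ((toOpensFunctor X).map i).op).hom

variable {X} in
theorem resMap_id (U : X.AffineZariskiSite) : resMap (𝟙 U) = RingHom.id _ := by
  have h : ((toOpensFunctor X).map (𝟙 U)).op = 𝟙 _ := rfl
  unfold resMap
  rw [h, X.presheaf.map_id]
  rfl

variable {X} in
theorem resMap_comp {U V W : X.AffineZariskiSite} (i : U ⟶ V) (j : V ⟶ W) :
    resMap (i ≫ j) = (resMap i).comp (resMap j) := by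
  have h : ((toOpensFunctor X).map (i ≫ j)).op =
      ((toOpensFunctor X).map j).op ≫ ((toOpensFunctor X).map i).op := rfl
  unfold resMap
  rw [h, X.presheaf.map_comp]
  rfl

/-- The presheaf `U ↦ Γ(X, U)^awn` on the affine opens of `X`. -/
noncomputable def awnDiagram : X.AffineZariskiSiteᵒᵖ ⥤ CommRingCat.{u} where
  obj U := .of (awn Γ(X, U.unop.toOpens))
  map {U V} i := CommRingCat.ofHom (awnMap (resMap i.unop))
  map_id U := by
    have : (𝟙 U : U ⟶ U).unop = 𝟙 U.unop := rfl
    rw [this, resMap_id, awnMap_id]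
    rfl
  map_comp {U V W} i j := by
    have : (i ≫ j).unop = j.unop ≫ i.unop := rfl
    rw [this, resMap_comp, awnMap_comp, CommRingCat.ofHom_comp]

/-- The structure map `𝒪_X ⟶ awnDiagram`. -/
noncomputable def awnDiagramMap : (toOpensFunctor X).op ⋙ X.presheaf ⟶ awnDiagram X where
  app U := CommRingCat.ofHom (toAwn Γ(X, U.unop.toOpens))
  naturality {U V} i := by
    ext x
    exact (awnMap_apply_toAwn (resMap i.unop) x).symm

theorem coequifibered_awnDiagramMap : (awnDiagramMap X).Coequifibered := by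
  refine coequifibered_iff_forall_isLocalizationAway.mpr fun U r => ?_
  exact isLocalization_awnMap (X.presheaf.map (homOfLE (X.basicOpen_le r)).op).hom r
    (U.2.isLocalization_basicOpen r)

/-! ### generic lemmas -/

theorem isAWNRing_of_ringEquiv {A B : Type u} [CommRing A] [CommRing B] (e : A ≃+* B)
    (h : HTop.IsAWNRing A) : HTop.IsAWNRing B := by
  refine ⟨?_, ?_⟩
  · intro x y hxy
    obtain ⟨a, ⟨h2, h3⟩, hu⟩ := h.1 (e.symm x) (e.symm y) (by rw [← map_pow, ← map_pow, hxy])
    refine ⟨e a, ⟨by rw [← map_pow, ← h2, e.apply_symm_apply],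
      by rw [← map_pow, ← h3, e.apply_symm_apply]⟩, fun b ⟨hb2, hb3⟩ => ?_⟩
    have := hu (e.symm b) ⟨by rw [← map_pow, ← hb2], by rw [← map_pow, ← hb3]⟩
    rw [← this, e.apply_symm_apply]
  · intro p hp x y hxy
    obtain ⟨a, ⟨h2, h3⟩, hu⟩ := h.2 p hp (e.symm x) (e.symm y) (by
      rw [← map_pow, ← hxy, map_mul, map_pow, map_natCast])
    refine ⟨e a, ⟨by rw [← map_pow, ← h2, e.apply_symm_apply],
      by rw [← map_natCast e, ← map_mul, ← h3, e.apply_symm_apply]⟩, fun b ⟨hb2, hb3⟩ => ?_⟩
    have := hu (e.symm b) ⟨by rw [← map_pow, ← hb2], by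
      rw [hb3, map_mul, map_natCast]⟩
    rw [← this, e.apply_symm_apply]

theorem isAWN_Spec (R : CommRingCat.{u}) (h : HTop.IsAWNRing R) : HTop.IsAWN (Spec R) := by
  intro x
  refine ⟨⟨⊤, isAffineOpen_top _⟩, trivial, ?_⟩
  exact isAWNRing_of_ringEquiv (Scheme.ΓSpecIso R).symm.commRingCatIsoToRingEquiv h

theorem isAWN_of_openCover {X' : Scheme.{u}} (𝒰 : X'.OpenCover)
    (h : ∀ i, HTop.IsAWN (𝒰.X i)) : HTop.IsAWN X' := by
  intro x
  obtain ⟨i, y, rfl⟩ := 𝒰.exists_eq x
  obtain ⟨V, hyV, hV⟩ := h i y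
  refine ⟨⟨(𝒰.f i) ''ᵁ V.1, V.2.image_of_isOpenImmersion _⟩, ⟨y, hyV, rfl⟩, ?_⟩
  exact isAWNRing_of_ringEquiv ((𝒰.f i).appIso V.1).symm.commRingCatIsoToRingEquiv hV

/-- universal homeomorphisms are local on the target -/
theorem isUnivHomeo_of_forall_exists_restrict {X Y : Scheme.{u}} (f : X ⟶ Y)
    (H : ∀ y : Y, ∃ U : Y.Opens, y ∈ U ∧ FlatMor.IsUnivHomeo (f ∣_ U)) :
    FlatMor.IsUnivHomeo f := by
  rw [Groth.Agent.S0415.result]
  refine ⟨?_, ?_, ?_⟩
  · apply IsZariskiLocalAtTarget.of_forall_exists_morphismRestrict (P := @IsIntegralHom)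
    intro y
    obtain ⟨U, hy, hU⟩ := H y
    exact ⟨U, hy, ((Groth.Agent.S0415.result _).mp hU).1⟩
  · apply IsZariskiLocalAtTarget.of_forall_exists_morphismRestrict (P := @UniversallyInjective)
    intro y
    obtain ⟨U, hy, hU⟩ := H y
    exact ⟨U, hy, ((Groth.Agent.S0415.result _).mp hU).2.1⟩
  · apply IsZariskiLocalAtTarget.of_forall_exists_morphismRestrict (P := @Surjective)
    intro y
    obtain ⟨U, hy, hU⟩ := H y
    exact ⟨U, hy, ((Groth.Agent.S0415.result _).mp hU).2.2⟩

/-! ### the glued scheme -/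

/-- The relative gluing data. -/
noncomputable def awnGlueData := relativeGluingData (coequifibered_awnDiagramMap X)

instance : ((awnGlueData X).functor ⋙ Scheme.forget).IsLocallyDirected :=
  Cover.RelativeGluingData.instIsLocallyDirectedI₀CompFunctorForgetOfIsThin ..

/-- The absolute weak normalization of a scheme. -/
noncomputable def awnScheme : Scheme.{u} := (awnGlueData X).glued

/-- The structure morphism. -/
noncomputable def awnToBase : awnScheme X ⟶ X := (awnGlueData X).toBase

theorem isUnivHomeo_awnToBase : FlatMor.IsUnivHomeo (awnToBase X) := by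
  apply isUnivHomeo_of_forall_exists_restrict
  intro y
  obtain ⟨_, ⟨U, hU, rfl⟩, hyU, -⟩ :=
    X.isBasis_affineOpens.exists_subset_of_mem_open (Set.mem_univ y) isOpen_univ
  refine ⟨U, hyU, ?_⟩
  let U' : X.AffineZariskiSite := ⟨U, hU⟩
  have sq1 := (awnGlueData X).isPullback_natTrans_ι_toBase U'
  have sq2 := isPullback_morphismRestrict (awnToBase X) U
  -- the local model is a universal homeomorphism
  have h1 : FlatMor.IsUnivHomeo ((awnGlueData X).natTrans.app U') := by
    have h0 : FlatMor.IsUnivHomeo (Spec.map ((awnDiagramMap X).app (.op U'))) :=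
      (isRingAWN_toAwn Γ(X, U)).1
    have : (awnGlueData X).natTrans.app U' =
        Spec.map ((awnDiagramMap X).app (.op U')) ≫ (restrictIsoSpec X).inv.app U' := rfl
    rw [this]
    unfold FlatMor.IsUnivHomeo at h0 ⊢
    exact (MorphismProperty.cancel_right_of_respectsIso _ _ _).mpr h0
  have sq1' : IsPullback ((awnGlueData X).natTrans.app U')
      (colimit.ι (awnGlueData X).functor U') (Scheme.Opens.ι U) (awnToBase X) := sq1
  have he : (sq2.isoIsPullback _ _ sq1').hom ≫ (awnGlueData X).natTrans.app U' =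
      awnToBase X ∣_ U := sq2.isoIsPullback_hom_fst _ _ sq1'
  rw [← he]
  unfold FlatMor.IsUnivHomeo at h1 ⊢
  exact (MorphismProperty.cancel_left_of_respectsIso _ _ _).mpr h1

theorem isAWN_awnScheme : HTop.IsAWN (awnScheme X) := by
  apply isAWN_of_openCover (awnGlueData X).cover
  intro U
  exact isAWN_Spec _ (isAWNRing_of_isRingAWN (toAwn Γ(X, U.toOpens)) (isRingAWN_toAwn _))

end Groth.Agent.Lib.H9AWN
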