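import Mathlib
import Groth.Prelude.Def_HTop2
import Groth.Agent.Lib.H9AWNGlue
import Groth.Agent.Lib.Helper20PerfSch
import Groth.Agent.Lib.Helper6Reduced
import Groth.Agent.S7420
import Groth.Agent.S7421

/-!
# Absolutely weakly normal schemes: key lemma, lifting, and the absolute weak normalization
-/

set_option autoImplicit false
universe u

namespace Groth.Agent.Lib.H9AWN

open AlgebraicGeometry CategoryTheory Limits
open Groth.Agent.Lib.Helper20.AWN

theorem isSeminormal_of_isAWN {X : Scheme.{u}} (hX : HTop.IsAWN X) : HTop.IsSeminormal X := by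
  intro x
  obtain ⟨U, hxU, hU⟩ := hX x
  exact ⟨U, hxU, hU.1⟩

theorem isReduced_of_isAWN {X : Scheme.{u}} (hX : HTop.IsAWN X) : IsReduced X :=
  (Groth.Agent.S7421.result).2 X (isSeminormal_of_isAWN hX)

/-- Key lemma: a universal homeomorphism from a reduced scheme onto an absolutely weakly normal
scheme is an isomorphism. -/
theorem isIso_of_isReduced {Y X : Scheme.{u}} (π : Y ⟶ X) [IsReduced Y]
    (hπ : FlatMor.IsUnivHomeo π) (hX : HTop.IsAWN X) : IsIso π := by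
  obtain ⟨hint, hinj, hsurj⟩ := (Groth.Agent.S0415.result π).mp hπ
  haveI : IsAffineHom π := inferInstance
  rw [← MorphismProperty.isomorphisms.iff]
  apply IsZariskiLocalAtTarget.of_forall_exists_morphismRestrict
  intro x
  obtain ⟨U, hxU, hUawn⟩ := hX x
  refine ⟨U.1, hxU, ?_⟩
  rw [MorphismProperty.isomorphisms.iff, isIso_morphismRestrict_iff_isIso_app π U.2]
  have h1 := Groth.Agent.Lib.Helper20.PerfSch.isUnivHomeo_SpecMap_app π hπ U.1 U.2
  have h1' : UH (π.app U.1).hom := (isUnivHomeo_iff_UH _).mp h1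
  have hb := bijective_of_UH_of_isAWNRing (π.app U.1).hom h1' hUawn
  exact (ConcreteCategory.isIso_iff_bijective (π.app U.1)).mpr hb

theorem exists_section {Y X : Scheme.{u}} (π : Y ⟶ X)
    (hπ : FlatMor.IsUnivHomeo π) (hX : HTop.IsAWN X) :
    ∃ s : X ⟶ Y, s ≫ π = 𝟙 X := by
  let ι := Y.nilradical.subschemeι
  haveI : Surjective ι := ⟨by
    rw [← Set.range_eq_univ]
    exact Groth.Agent.Lib.Helper6.range_nilradical_subschemeι Y⟩
  obtain ⟨hint, hinj, hsurj⟩ := (Groth.Agent.S0415.result π).mp hπ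
  have hcomp : FlatMor.IsUnivHomeo (ι ≫ π) :=
    (Groth.Agent.S0415.result (ι ≫ π)).mpr ⟨inferInstance,
      MorphismProperty.comp_mem (W := @UniversallyInjective) _ _ inferInstance hinj,
      inferInstance⟩
  haveI : IsReduced Y.nilradical.subscheme :=
    Groth.Agent.Lib.Helper6.isReduced_nilradical_subscheme Y
  haveI := isIso_of_isReduced (ι ≫ π) hcomp hX
  exact ⟨inv (ι ≫ π) ≫ ι, by rw [Category.assoc, IsIso.inv_hom_id]⟩

/-- If `π : Y ⟶ T` is a universal homeomorphism and `W` is an absolutely weakly normal scheme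
over `T`, then there is a unique `T`-morphism `W ⟶ Y`. -/
theorem existsUnique_lift {Y T W : Scheme.{u}} (π : Y ⟶ T) (hπ : FlatMor.IsUnivHomeo π)
    (hW : HTop.IsAWN W) (μ : W ⟶ T) :
    ∃! h : W ⟶ Y, h ≫ π = μ := by
  have sq : IsPullback (pullback.snd μ π) (pullback.fst μ π) π μ :=
    (IsPullback.of_hasPullback μ π).flip
  have h1' : FlatMor.IsUnivHomeo (pullback.fst μ π) := by
    unfold FlatMor.IsUnivHomeo at hπ ⊢
    exact MorphismProperty.of_isPullback sq hπ
  obtain ⟨σ, hσ⟩ := exists_section (pullback.fst μ π) h1' hW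
  have hex : (σ ≫ pullback.snd μ π) ≫ π = μ := by
    rw [Category.assoc, ← pullback.condition, ← Category.assoc, hσ, Category.id_comp]
  refine ⟨σ ≫ pullback.snd μ π, hex, fun h' hh' => ?_⟩
  obtain ⟨hint, hinj, hsurj⟩ := (Groth.Agent.S0415.result π).mp hπ
  haveI : IsReduced W := isReduced_of_isAWN hW
  have hK := ((tfae_universallyInjective π).out 0 1).mp hinj
  refine ext_of_fromSpecResidueField_eq h' (σ ≫ pullback.snd μ π) π Set.univ dense_univ
    (fun w _ => ?_) (hh'.trans hex.symm)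
  apply hK (W.residueField w)
  show (W.fromSpecResidueField w ≫ h') ≫ π = (W.fromSpecResidueField w ≫ σ ≫ pullback.snd μ π) ≫ π
  rw [Category.assoc, Category.assoc, hh', hex]

theorem isAWN_of_isOpenImmersion {W X : Scheme.{u}} (j : W ⟶ X) [IsOpenImmersion j]
    (hX : HTop.IsAWN X) : HTop.IsAWN W := by
  have hall := (Groth.Agent.S7420.result X).2.mp hX
  intro w
  obtain ⟨_, ⟨V, hV, rfl⟩, hwV, -⟩ :=
    W.isBasis_affineOpens.exists_subset_of_mem_open (Set.mem_univ w) isOpen_univ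
  refine ⟨⟨V, hV⟩, hwV, ?_⟩
  have hjV : IsAffineOpen (j ''ᵁ V) := hV.image_of_isOpenImmersion j
  exact isAWNRing_of_ringEquiv (j.appIso V).commRingCatIsoToRingEquiv (hall ⟨j ''ᵁ V, hjV⟩)

/-- Existence of the absolute weak normalization. -/
theorem exists_isAWNormalization (X : Scheme.{u}) :
    ∃ (X' : Scheme.{u}) (ν : X' ⟶ X), HTop.IsAWNormalization ν ∧ HTop.IsAWN X' :=
  ⟨awnScheme X, awnToBase X, ⟨isUnivHomeo_awnToBase X, fun _ π hπ =>
    existsUnique_lift π hπ (isAWN_awnScheme X) (awnToBase X)⟩, isAWN_awnScheme X⟩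

/-- Two absolute weak normalizations are isomorphic. -/
theorem exists_iso_of_isAWNormalization {X X₁ X₂ : Scheme.{u}} (ν₁ : X₁ ⟶ X) (ν₂ : X₂ ⟶ X)
    (h₁ : HTop.IsAWNormalization ν₁) (h₂ : HTop.IsAWNormalization ν₂) :
    ∃ e : X₁ ≅ X₂, e.hom ≫ ν₂ = ν₁ := by
  obtain ⟨a, ha, -⟩ := h₁.2 X₂ ν₂ h₂.1
  obtain ⟨b, hb, -⟩ := h₂.2 X₁ ν₁ h₁.1
  obtain ⟨c, -, hc⟩ := h₁.2 X₁ ν₁ h₁.1
  obtain ⟨d, -, hd⟩ := h₂.2 X₂ ν₂ h₂.1
  refine ⟨⟨a, b, ?_, ?_⟩, ha⟩
  · rw [hc (a ≫ b) (by show (a ≫ b) ≫ ν₁ = ν₁; rw [Category.assoc, hb, ha]),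
      hc (𝟙 _) (Category.id_comp _)]
  · rw [hd (b ≫ a) (by show (b ≫ a) ≫ ν₂ = ν₂; rw [Category.assoc, ha, hb]),
      hd (𝟙 _) (Category.id_comp _)]

/-- The source of an absolute weak normalization is absolutely weakly normal. -/
theorem isAWN_of_isAWNormalization {X X' : Scheme.{u}} (ν : X' ⟶ X)
    (hν : HTop.IsAWNormalization ν) : HTop.IsAWN X' := by
  obtain ⟨X₀, ν₀, h₀, hX₀⟩ := exists_isAWNormalization X
  obtain ⟨e, -⟩ := exists_iso_of_isAWNormalization ν ν₀ hν h₀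
  exact isAWN_of_isOpenImmersion e.hom hX₀

end Groth.Agent.Lib.H9AWN
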