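import Mathlib
import Groth.Agent.S0002
import Groth.Agent.Lib.R2H2PnFinite

set_option autoImplicit false
universe u
open CategoryTheory CategoryTheory.Limits AlgebraicGeometry TopologicalSpace Opposite

namespace Groth.Agent.Lib.H9NormFin

open CategoryTheory CategoryTheory.Limits AlgebraicGeometry

variable {X S : Scheme.{u}} (f : X ⟶ S)

/-- integral closure in a finite algebra over a Noetherian ring is finite -/
theorem finite_algebraMap_integralClosure {R B : Type u} [CommRing R] [CommRing B] [Algebra R B]
    [IsNoetherianRing R] [Module.Finite R B] :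
    (algebraMap R (integralClosure R B)).Finite := by
  rw [RingHom.finite_algebraMap]
  haveI : IsNoetherian R B := isNoetherian_of_isNoetherianRing_of_finite R B
  exact Module.Finite.of_injective (integralClosure R B).val.toLinearMap Subtype.val_injective

set_option backward.isDefEq.respectTransparency false in
theorem isFinite_fromNormalization_of_finite_app [QuasiCompact f] [QuasiSeparated f]
    [IsLocallyNoetherian S] (H : ∀ U : S.affineOpens, (f.app U.1).hom.Finite) :
    IsFinite f.fromNormalization := by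
  rw [IsZariskiLocalAtTarget.iff_of_iSup_eq_top (P := @IsFinite) _
    (iSup_affineOpens_eq_top _)]
  intro U
  let e := IsOpenImmersion.isoOfRangeEq (f.fromNormalization ⁻¹ᵁ U).ι (f.normalizationOpenCover.f U)
      (by simpa using congr($(f.fromNormalization_preimage U).1))
  rw [← MorphismProperty.cancel_left_of_respectsIso @IsFinite e.inv,
    ← MorphismProperty.cancel_right_of_respectsIso @IsFinite _ U.2.isoSpec.hom]
  have : (f.normalizationDiagramMap.app (.op U)).hom.Finite := by
    let := (f.app U).hom.toAlgebra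
    haveI : IsNoetherianRing Γ(S, U) := IsLocallyNoetherian.component_noetherian U
    haveI : Module.Finite Γ(S, U) Γ(X, f ⁻¹ᵁ U) := H U
    change (algebraMap Γ(S, U) (integralClosure Γ(S, U) Γ(X, f ⁻¹ᵁ U))).Finite
    exact finite_algebraMap_integralClosure
  convert! (IsFinite.SpecMap_iff _).mpr this
  rw [← cancel_mono U.2.fromSpec]
  simp [IsAffineOpen.isoSpec_hom, e, Scheme.Hom.ι_fromNormalization]



open CategoryTheory CategoryTheory.Limits AlgebraicGeometry TopologicalSpace Opposite



/-- `H^0(X, M) ≃+ M(X)`. -/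
noncomputable def hh0Equiv (X : Scheme.{u}) (M : X.Modules) :
    Coh.HH X M 0 ≃+ (Coh.toAb M).obj.obj (op (⊤ : Opens X)) :=
  Sheaf.H.equiv₀ (Coh.toAb M) Limits.isTerminalTop

theorem hh0Equiv_smul (X : Scheme.{u}) (M : X.Modules) (r : Coh.Γtop X) (x : Coh.HH X M 0) :
    hh0Equiv X M (r • x) = (Coh.smulAb M r).hom.app (op ⊤) (hh0Equiv X M x) := by
  change Sheaf.H.equiv₀ _ _ (Sheaf.H.map (Coh.smulAb M r) 0 x) = _
  rw [← Sheaf.H.equiv₀_naturality]
  rfl

theorem resTop_top (X : Scheme.{u}) (r : Coh.Γtop X) : Coh.resTop X (op ⊤) r = r := by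
  change (X.ringCatSheaf.obj.map (𝟙 (op ⊤))).hom r = r
  rw [CategoryTheory.Functor.map_id]
  rfl

/-- global functions of a proper scheme over a Noetherian ring form a finite module -/
theorem finite_toGlobal (A : Type u) [CommRing A] [IsNoetherianRing A]
    (p : X ⟶ Spec (CommRingCat.of A)) [IsProper p] :
    ((p.appTop).hom.comp (Scheme.ΓSpecIso (CommRingCat.of A)).inv.hom).Finite := by
  letI : X.Over (Spec (CommRingCat.of A)) := ⟨p⟩
  haveI : IsProper (X ↘ Spec (CommRingCat.of A)) := ‹IsProper p›
  have hcoh : Coh.IsCoh (Coh.structureModule X) :=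
    ⟨Groth.Agent.Lib.Helper23.Serre.isQuasicoherent_structureModule' X,
      Groth.Agent.Lib.R2H2.PnFinite.isFiniteType_structureModule X⟩
  have hfin : Module.Finite A (Coh.HH X (Coh.structureModule X) 0) :=
    Groth.Agent.S0002.result A X (Coh.structureModule X) hcoh 0
  letI : Algebra A Γ(X, ⊤) :=
    ((p.appTop).hom.comp (Scheme.ΓSpecIso (CommRingCat.of A)).inv.hom).toAlgebra
  change Module.Finite A Γ(X, ⊤)
  let e0 := hh0Equiv X (Coh.structureModule X)
  let φ : Coh.HH X (Coh.structureModule X) 0 →ₗ[A] Γ(X, ⊤) :=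
    { toFun := fun x => (e0 x : Coh.Γtop X)
      map_add' := fun x y => map_add e0 x y
      map_smul' := fun a x => by
        have h1 : e0 (a • x) = e0 ((Coh.toGlobal p a) • x) := rfl
        rw [h1, hh0Equiv_smul, Coh.smulAb_app, resTop_top]
        rfl }
  refine Module.Finite.of_surjective φ ?_
  intro y
  exact ⟨e0.symm y, e0.apply_symm_apply y⟩

/-- `f.appTop` is finite for `f` proper with affine Noetherian target -/
theorem finite_appTop_of_isProper [IsAffine S] [IsNoetherianRing Γ(S, ⊤)] [IsProper f] :
    (f.appTop).hom.Finite := by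
  let p : X ⟶ Spec (CommRingCat.of Γ(S, ⊤)) := f ≫ S.isoSpec.hom
  haveI : IsProper p := inferInstanceAs (IsProper (f ≫ S.isoSpec.hom))
  have h := finite_toGlobal (X := X) Γ(S, ⊤) p
  have h2 : (p.appTop).hom.comp (Scheme.ΓSpecIso (CommRingCat.of Γ(S, ⊤))).inv.hom =
      (f.appTop).hom := by
    have h3 : p.appTop = S.isoSpec.hom.appTop ≫ f.appTop := Scheme.Hom.comp_appTop _ _
    rw [h3]
    have h4 : (Scheme.ΓSpecIso (CommRingCat.of Γ(S, ⊤))).inv ≫ S.isoSpec.hom.appTop = 𝟙 _ := by
      rw [Scheme.isoSpec_hom, Scheme.toSpecΓ_appTop]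
      exact Iso.inv_hom_id _
    ext a
    change f.appTop.hom (((Scheme.ΓSpecIso (CommRingCat.of Γ(S, ⊤))).inv ≫
      S.isoSpec.hom.appTop).hom a) = f.appTop.hom a
    rw [h4]
    rfl
  rw [← h2]
  exact h

/-- reduce `f.app U` to the restriction -/
theorem finite_app_of_restrict (U : S.Opens) (h : ((f ∣_ U).appTop).hom.Finite) :
    (f.app U).hom.Finite := by
  rw [morphismRestrict_appTop] at h
  have h1 := (RingHom.finite_respectsIso.cancel_right_isIso _ _).mp h
  have e : U.ι ''ᵁ ⊤ = U := by simp
  rw [Scheme.Hom.app_eq f e.symm]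
  refine (RingHom.finite_respectsIso.cancel_left_isIso _ _).mpr ?_
  exact (RingHom.finite_respectsIso.cancel_right_isIso _ _).mpr h1

theorem finite_app_of_isProper [IsProper f] [IsLocallyNoetherian S] (U : S.affineOpens) :
    (f.app U.1).hom.Finite := by
  apply finite_app_of_restrict
  haveI : IsAffine (U.1 : Scheme.{u}) := U.2
  haveI : IsNoetherianRing Γ(S, U.1) := IsLocallyNoetherian.component_noetherian U
  haveI : IsNoetherianRing Γ((U.1 : Scheme.{u}), ⊤) := by
    have e : U.1.ι ''ᵁ ⊤ = U.1 := by simp
    exact isNoetherianRing_of_ringEquiv _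
      (S.presheaf.mapIso (eqToIso e).op).commRingCatIsoToRingEquiv
  exact finite_appTop_of_isProper (f ∣_ U.1)



/-- **S1297**: the normalization of a locally Noetherian scheme in a proper scheme over it is
finite. -/
theorem main [IsProper f] [IsLocallyNoetherian S] : IsFinite f.fromNormalization :=
  isFinite_fromNormalization_of_finite_app f (fun U => finite_app_of_isProper f U)

end Groth.Agent.Lib.H9NormFin
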