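import Mathlib

/-! helper9 (Mathlib only): `C α` (integral closure of `Aₚ` in a field `K` as a subring), `αC`, `βC`, `exists_maximal_over` (lying over: for `A → B` integral, `B ↪ K`, every prime of `B` over `𝔭` is the contraction of a maximal ideal of the integral closure of `A_𝔭` in `K`). -/

set_option autoImplicit false
universe u

namespace Groth.Agent.Lib.H9CardAlg

variable {A B Aₚ K : Type*} [CommRing A] [CommRing B] [CommRing Aₚ] [Field K]
  (𝔭 : Ideal A) [𝔭.IsPrime] [Algebra A Aₚ] [IsLocalization.AtPrime Aₚ 𝔭]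
  (ψ : A →+* B) (α : Aₚ →+* K) (β : B →+* K)

/-- the integral closure of `Aₚ` in `K` (via `α`) as a subring -/
def C : Subring K :=
  letI := α.toAlgebra
  (integralClosure Aₚ K).toSubring

theorem mem_C (x : K) : x ∈ C α ↔ α.IsIntegralElem x := Iff.rfl

/-- the structure map `Aₚ → C` -/
def αC : Aₚ →+* C α :=
  α.codRestrict (C α) (fun a => by
    rw [mem_C]
    exact α.isIntegralElem_map)

theorem αC_isIntegral : (αC α).IsIntegral := by
  intro c
  obtain ⟨p, hp, hpc⟩ := (mem_C α c.1).mp c.2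
  refine ⟨p, hp, ?_⟩
  apply Subtype.ext
  have h1 : ((C α).subtype.comp (αC α)) = α := rfl
  have := Polynomial.hom_eval₂ p (αC α) (C α).subtype c
  rw [h1] at this
  change (C α).subtype (Polynomial.eval₂ (αC α) c p) = 0
  rw [this]
  exact hpc

variable (hψ : ψ.IsIntegral) (hcomm : β.comp ψ = α.comp (algebraMap A Aₚ))

include hψ hcomm in
theorem β_mem (b : B) : β b ∈ C α := by
  rw [mem_C]
  obtain ⟨p, hp, hpb⟩ := hψ b
  refine ⟨p.map (algebraMap A Aₚ), hp.map _, ?_⟩
  rw [Polynomial.eval₂_map, ← hcomm, ← Polynomial.hom_eval₂, hpb, map_zero]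

/-- `B → C` -/
def βC : B →+* C α := β.codRestrict (C α) (β_mem ψ α β hψ hcomm)

theorem βC_comp : (βC ψ α β hψ hcomm).comp ψ = (αC α).comp (algebraMap A Aₚ) := by
  ext a
  exact RingHom.congr_fun hcomm a


include 𝔭 in
/-- **lying over**: every prime of `B` over `𝔭` is the contraction of a maximal ideal of the
integral closure `C` of `Aₚ` in `K`. -/
theorem exists_maximal_over (hβ : Function.Injective β) (𝔮 : Ideal B) [𝔮.IsPrime]
    (h𝔮 : 𝔮.comap ψ = 𝔭) :
    ∃ 𝔫 : Ideal (C α), 𝔫.IsMaximal ∧ 𝔫.comap (βC ψ α β hψ hcomm) = 𝔮 := by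
  classical
  let M : Submonoid A := 𝔭.primeCompl
  let M' : Submonoid B := M.map ψ
  let B' := Localization M'
  have hunits : ∀ m : M', IsUnit (βC ψ α β hψ hcomm (m : B)) := by
    rintro ⟨m, a, ha, rfl⟩
    have h1 : βC ψ α β hψ hcomm (ψ a) = αC α (algebraMap A Aₚ a) :=
      RingHom.congr_fun (βC_comp ψ α β hψ hcomm) a
    change IsUnit (βC ψ α β hψ hcomm (ψ a))
    rw [h1]
    exact (IsLocalization.map_units Aₚ (⟨a, ha⟩ : M)).map (αC α)
  let lam : B' →+* C α := IsLocalization.lift (M := M') (S := B') hunits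
  have hlam : ∀ b, lam (algebraMap B B' b) = βC ψ α β hψ hcomm b := fun b =>
    IsLocalization.lift_eq hunits b
  let ι : Aₚ →+* B' := IsLocalization.map (M := M) (T := M') B' ψ (Submonoid.le_comap_map M)
  have hι : ∀ a, ι (algebraMap A Aₚ a) = algebraMap B B' (ψ a) := fun a =>
    IsLocalization.map_eq (Submonoid.le_comap_map M) a
  have hlamι : lam.comp ι = αC α := by
    apply IsLocalization.ringHom_ext M
    ext a
    change (lam (ι (algebraMap A Aₚ a)) : K) = _
    rw [hι, hlam]
    exact RingHom.congr_fun hcomm a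
  have hlamint : lam.IsIntegral := by
    have : (lam.comp ι).IsIntegral := by rw [hlamι]; exact αC_isIntegral α
    exact RingHom.IsIntegral.tower_top ι lam this
  have hβCinj : Function.Injective (βC ψ α β hψ hcomm) := by
    intro x y hxy
    exact hβ (congrArg Subtype.val hxy)
  have hlaminj : Function.Injective lam := by
    rw [IsLocalization.lift_injective_iff]
    intro x y
    constructor
    · intro h
      rw [← hlam, ← hlam, h]
    · intro h
      rw [hβCinj h]
  have hdisj : Disjoint (M' : Set B) (𝔮 : Set B) := by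
    rw [Set.disjoint_left]
    rintro _ ⟨a, ha, rfl⟩ haq
    have : a ∈ 𝔮.comap ψ := haq
    rw [h𝔮] at this
    exact ha this
  let 𝔮' : Ideal B' := 𝔮.map (algebraMap B B')
  haveI h𝔮'p : 𝔮'.IsPrime := IsLocalization.isPrime_of_isPrime_disjoint M' B' 𝔮 inferInstance hdisj
  have h𝔮'c : 𝔮'.comap (algebraMap B B') = 𝔮 :=
    IsLocalization.under_map_of_isPrime_disjoint M' B' inferInstance hdisj
  -- lying over along `lam`
  letI : Algebra B' (C α) := lam.toAlgebra
  haveI : Algebra.IsIntegral B' (C α) := ⟨hlamint⟩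
  obtain ⟨𝔫, -, h𝔫p, h𝔫c⟩ := Ideal.exists_ideal_over_prime_of_isIntegral 𝔮' (⊥ : Ideal (C α)) (by
    have : (⊥ : Ideal (C α)).comap (algebraMap B' (C α)) = ⊥ := by
      rw [← RingHom.ker_eq_comap_bot]
      exact (RingHom.injective_iff_ker_eq_bot _).mp hlaminj
    rw [this]
    exact bot_le)
  have h𝔫c' : 𝔫.comap lam = 𝔮' := h𝔫c
  refine ⟨𝔫, ?_, ?_⟩
  · -- maximality
    haveI : IsLocalRing Aₚ := IsLocalization.AtPrime.isLocalRing Aₚ 𝔭
    have hP : 𝔫.comap (αC α) = IsLocalRing.maximalIdeal Aₚ := by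
      rw [← hlamι, ← Ideal.comap_comap, h𝔫c']
      have h1 : ((𝔮'.comap ι).comap (algebraMap A Aₚ)) = 𝔭 := by
        rw [Ideal.comap_comap]
        have : ι.comp (algebraMap A Aₚ) = (algebraMap B B').comp ψ := by
          ext a; exact hι a
        rw [this, ← Ideal.comap_comap, h𝔮'c, h𝔮]
      have h2 : (IsLocalRing.maximalIdeal Aₚ).comap (algebraMap A Aₚ) = 𝔭 :=
        IsLocalization.AtPrime.under_maximalIdeal Aₚ 𝔭
      have h3 := IsLocalization.map_under M Aₚ (𝔮'.comap ι)
      have h4 := IsLocalization.map_under M Aₚ (IsLocalRing.maximalIdeal Aₚ)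
      rw [Ideal.under_def] at h3 h4
      rw [← h3, ← h4, h1, h2]
    exact Ideal.isMaximal_of_isIntegral_of_isMaximal_comap' (αC α) (αC_isIntegral α) 𝔫
      (hP ▸ inferInstance)
  · have : βC ψ α β hψ hcomm = lam.comp (algebraMap B B') := by
      ext b
      exact congrArg Subtype.val (hlam b).symm
    rw [this, ← Ideal.comap_comap, h𝔫c', h𝔮'c]

end Groth.Agent.Lib.H9CardAlg
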