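import Mathlib

/-! helper9: algebra for S7856 (geometric connectedness of proper schemes over a field): `TrivIdem`, `PI k R` (elementwise purely inseparable mod nilpotents), `trivIdem_tensor` (PI ⇒ `R ⊗[k] K` has only trivial idempotents), `cond_of_trivIdem` (finite `k`-algebra all of whose field base changes have trivial idempotents is local, zero-dimensional and PI). -/

set_option autoImplicit false
universe u

namespace Groth.Agent.Lib.H9SteinAlg

open TensorProduct

/-- only trivial idempotents -/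
def TrivIdem (A : Type*) [CommRing A] : Prop := ∀ e : A, IsIdempotentElem e → e = 0 ∨ e = 1

theorem TrivIdem.of_ringEquiv {A B : Type*} [CommRing A] [CommRing B] (e : A ≃+* B)
    (h : TrivIdem A) : TrivIdem B := by
  intro b hb
  have h1 : IsIdempotentElem (e.symm b) := hb.map e.symm
  rcases h _ h1 with h2 | h2
  · left
    have := congrArg e h2
    simpa using this
  · right
    have := congrArg e h2
    simpa using this

/-- an Artinian ring with only trivial idempotents has at most one prime ideal -/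
theorem prime_unique_of_trivIdem {A : Type*} [CommRing A] [IsArtinianRing A] (h : TrivIdem A)
    (p p' : Ideal A) [p.IsPrime] [hp' : p'.IsPrime] : p = p' := by
  by_contra hne
  obtain ⟨r, hr, hri, hrq⟩ := IsArtinianRing.exists_not_mem_forall_mem_of_ne p
  rcases h r hri with h0 | h1
  · exact hr (h0 ▸ p.zero_mem)
  · have := hrq p' hp' (Ne.symm hne)
    rw [h1] at this
    exact hp'.ne_top ((Ideal.eq_top_iff_one _).mpr this)

theorem isLocalRing_of_trivIdem {A : Type*} [CommRing A] [IsArtinianRing A] [Nontrivial A]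
    (h : TrivIdem A) : IsLocalRing A := by
  refine IsLocalRing.of_unique_max_ideal ?_
  obtain ⟨m, hm⟩ := Ideal.exists_maximal A
  refine ⟨m, hm, fun m' hm' => ?_⟩
  haveI := hm.isPrime
  haveI := (hm' : m'.IsMaximal).isPrime
  exact prime_unique_of_trivIdem h m' m

section

variable (k : Type u) [Field k] (R : Type u) [CommRing R] [Algebra k R]

/-- the elementwise purely-inseparable condition -/
def PI : Prop :=
  ∀ a : R, ∃ (n : ℕ) (c : k), IsNilpotent (a ^ (ringExpChar k ^ n) - algebraMap k R c)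

variable {k R}
variable (K : Type u) [Field K] [Algebra k K]

theorem isNilpotent_tmul {a : R} (ha : IsNilpotent a) (c : K) : IsNilpotent (a ⊗ₜ[k] c) := by
  obtain ⟨m, hm⟩ := ha
  refine ⟨m, ?_⟩
  rw [Algebra.TensorProduct.tmul_pow, hm, zero_tmul]

theorem exists_pow_sub_nilpotent [Nontrivial (R ⊗[k] K)] (h : PI k R) (z : R ⊗[k] K) :
    ∃ (n : ℕ) (d : K), IsNilpotent (z ^ (ringExpChar k ^ n) - (1 : R) ⊗ₜ[k] d) := by
  obtain ⟨q, hq⟩ : ∃ q, q = ringExpChar k := ⟨_, rfl⟩
  rw [← hq]
  haveI : ExpChar k q := hq ▸ ringExpChar.expChar k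
  haveI : ExpChar (R ⊗[k] K) q :=
    expChar_of_injective_algebraMap (algebraMap k (R ⊗[k] K)).injective q
  haveI : ExpChar K q := expChar_of_injective_algebraMap (algebraMap k K).injective q
  -- persistence
  have key : ∀ (z : R ⊗[k] K) (n : ℕ) (d : K), IsNilpotent (z ^ (q ^ n) - (1 : R) ⊗ₜ[k] d) →
      ∀ m, IsNilpotent (z ^ (q ^ (n + m)) - (1 : R) ⊗ₜ[k] (d ^ (q ^ m))) := by
    intro z n d hn m
    have h1 : z ^ (q ^ (n + m)) - (1 : R) ⊗ₜ[k] (d ^ (q ^ m)) =
        (z ^ (q ^ n) - (1 : R) ⊗ₜ[k] d) ^ (q ^ m) := by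
      rw [sub_pow_expChar_pow, ← pow_mul, ← pow_add, Algebra.TensorProduct.tmul_pow, one_pow]
    rw [h1]
    exact hn.pow_of_pos (pow_pos (expChar_pos k q) m).ne'
  induction z using TensorProduct.induction_on with
  | zero =>
    refine ⟨0, 0, ?_⟩
    rw [pow_zero, pow_one, tmul_zero, sub_zero]
    exact IsNilpotent.zero
  | tmul a c =>
    obtain ⟨n, c', hc'⟩ := h a
    rw [← hq] at hc'
    refine ⟨n, algebraMap k K c' * c ^ (q ^ n), ?_⟩
    have h1 : (a ⊗ₜ[k] c) ^ (q ^ n) - (1 : R) ⊗ₜ[k] (algebraMap k K c' * c ^ (q ^ n)) =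
        (a ^ (q ^ n) - algebraMap k R c') ⊗ₜ[k] (c ^ (q ^ n)) := by
      rw [Algebra.TensorProduct.tmul_pow, sub_tmul]
      congr 1
      rw [Algebra.algebraMap_eq_smul_one, Algebra.algebraMap_eq_smul_one, smul_tmul, smul_mul_assoc,
        one_mul]
    rw [h1]
    exact isNilpotent_tmul K hc' _
  | add z₁ z₂ h₁ h₂ =>
    obtain ⟨n₁, d₁, hd₁⟩ := h₁
    obtain ⟨n₂, d₂, hd₂⟩ := h₂
    have e₁ := key z₁ n₁ d₁ hd₁ n₂
    have e₂ := key z₂ n₂ d₂ hd₂ n₁
    rw [add_comm n₂ n₁] at e₂
    refine ⟨n₁ + n₂, d₁ ^ (q ^ n₂) + d₂ ^ (q ^ n₁), ?_⟩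
    have h1 : (z₁ + z₂) ^ (q ^ (n₁ + n₂)) - (1 : R) ⊗ₜ[k] (d₁ ^ (q ^ n₂) + d₂ ^ (q ^ n₁)) =
        (z₁ ^ (q ^ (n₁ + n₂)) - (1 : R) ⊗ₜ[k] (d₁ ^ (q ^ n₂))) +
        (z₂ ^ (q ^ (n₁ + n₂)) - (1 : R) ⊗ₜ[k] (d₂ ^ (q ^ n₁))) := by
      rw [add_pow_expChar_pow, tmul_add]
      ring
    rw [h1]
    exact (Commute.all _ _).isNilpotent_add e₁ e₂

theorem nontrivial_tensor [Nontrivial R] : Nontrivial (R ⊗[k] K) := by
  have hinj : Function.Injective (Algebra.TensorProduct.includeLeft : R →ₐ[k] R ⊗[k] K) :=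
    Algebra.TensorProduct.includeLeft_injective (S := k) (algebraMap k K).injective
  exact hinj.nontrivial

/-- **A1**: the condition implies that `R ⊗ K` is nontrivial with only trivial idempotents -/
theorem trivIdem_tensor [Nontrivial R] (h : PI k R) : TrivIdem (R ⊗[k] K) := by
  haveI := nontrivial_tensor (k := k) (R := R) K
  intro e he
  obtain ⟨n, d, hd⟩ := exists_pow_sub_nilpotent K h e
  have hpos : ringExpChar k ^ n ≠ 0 := (pow_pos (expChar_pos k (ringExpChar k)) n).ne'
  have hen : e ^ (ringExpChar k ^ n) = e := he.pow_eq hpos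
  rw [hen] at hd
  by_cases hd0 : d = 0
  · left
    rw [hd0, tmul_zero, sub_zero] at hd
    obtain ⟨m, hm⟩ := hd
    by_cases hm0 : m = 0
    · rw [hm0, pow_zero] at hm
      exact absurd hm one_ne_zero
    · rw [he.pow_eq hm0] at hm
      exact hm
  · right
    have hu : IsUnit ((1 : R) ⊗ₜ[k] d) := by
      refine IsUnit.of_mul_eq_one ((1 : R) ⊗ₜ[k] d⁻¹) ?_
      rw [Algebra.TensorProduct.tmul_mul_tmul, one_mul, mul_inv_cancel₀ hd0]
      rfl
    have hue : IsUnit e := by
      have : e = (e - (1 : R) ⊗ₜ[k] d) + (1 : R) ⊗ₜ[k] d := by ring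
      rw [this]
      exact hd.isUnit_add_right_of_commute hu (Commute.all _ _)
    have h2 : e * e = e * 1 := by rw [he.eq, mul_one]
    exact hue.mul_left_cancel h2

end

section A2

variable {k : Type u} [Field k] {R : Type u} [CommRing R] [Algebra k R]

theorem isArtinianRing_tensor [Module.Finite k R] (K : Type u) [Field K] [Algebra k K] :
    IsArtinianRing (R ⊗[k] K) := by
  haveI : IsArtinianRing (K ⊗[k] R) := IsArtinianRing.of_finite K (K ⊗[k] R)
  exact (Algebra.TensorProduct.comm k K R).surjective.isArtinianRing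

/-- two distinct `k`-algebra maps `R → K` give two distinct primes of `R ⊗ K` -/
theorem ker_productMap_ne (K : Type u) [Field K] [Algebra k K] (φ ψ : R →ₐ[k] K) (h : φ ≠ ψ) :
    RingHom.ker (Algebra.TensorProduct.productMap φ (AlgHom.id k K)) ≠
      RingHom.ker (Algebra.TensorProduct.productMap ψ (AlgHom.id k K)) := by
  intro heq
  apply h
  ext r
  have hz : r ⊗ₜ[k] (1 : K) - (1 : R) ⊗ₜ[k] (φ r) ∈
      RingHom.ker (Algebra.TensorProduct.productMap φ (AlgHom.id k K)) := by
    rw [RingHom.mem_ker, map_sub, Algebra.TensorProduct.productMap_apply_tmul,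
      Algebra.TensorProduct.productMap_apply_tmul]
    simp
  rw [heq, RingHom.mem_ker, map_sub, Algebra.TensorProduct.productMap_apply_tmul,
    Algebra.TensorProduct.productMap_apply_tmul] at hz
  simp only [map_one, mul_one, AlgHom.coe_id, id_eq, one_mul] at hz
  exact (sub_eq_zero.mp hz).symm

/-- **A2** -/
theorem cond_of_trivIdem [Module.Finite k R]
    (h : ∀ (K : Type u) [Field K] [Algebra k K], Nontrivial (R ⊗[k] K) ∧ TrivIdem (R ⊗[k] K)) :
    IsLocalRing R ∧ ringKrullDim R = 0 ∧ PI k R := by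
  haveI : IsArtinianRing R := IsArtinianRing.of_finite k R
  obtain ⟨hnt, hti⟩ := h k
  have e0 : R ⊗[k] k ≃+* R := (Algebra.TensorProduct.rid k k R).toRingEquiv
  haveI : Nontrivial R := e0.injective.nontrivial
  have hR : TrivIdem R := hti.of_ringEquiv e0
  haveI hloc : IsLocalRing R := isLocalRing_of_trivIdem hR
  refine ⟨hloc, ?_, ?_⟩
  · exact ringKrullDimZero_iff_ringKrullDim_eq_zero.mp inferInstance
  · -- the residue field is purely inseparable over `k`
    let κ := IsLocalRing.ResidueField R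
    haveI : Module.Finite k κ :=
      Module.Finite.of_surjective (IsScalarTower.toAlgHom k R κ).toLinearMap
        IsLocalRing.residue_surjective
    have hpi : IsPurelyInseparable k κ := by
      rw [isPurelyInseparable_iff_finSepDegree_eq_one]
      by_contra hne
      let K := AlgebraicClosure κ
      haveI : Finite (Field.Emb k κ) := inferInstance
      haveI : Nonempty (Field.Emb k κ) := ⟨IsScalarTower.toAlgHom k κ K⟩
      have hcard : 1 < Nat.card (Field.Emb k κ) := by
        have h1 : 0 < Nat.card (Field.Emb k κ) := Nat.card_pos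
        have h2 : Nat.card (Field.Emb k κ) ≠ 1 := hne
        omega
      obtain ⟨σ, τ, hστ⟩ := Finite.one_lt_card_iff_nontrivial.mp hcard
      let φ : R →ₐ[k] K := (σ : κ →ₐ[k] K).comp (IsScalarTower.toAlgHom k R κ)
      let ψ : R →ₐ[k] K := (τ : κ →ₐ[k] K).comp (IsScalarTower.toAlgHom k R κ)
      have hφψ : φ ≠ ψ := by
        intro heq
        apply hστ
        apply AlgHom.ext
        intro x
        obtain ⟨r, rfl⟩ := IsLocalRing.residue_surjective x
        exact AlgHom.congr_fun heq r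
      obtain ⟨_, htiK⟩ := h K
      haveI := isArtinianRing_tensor (k := k) (R := R) K
      haveI : (RingHom.ker (Algebra.TensorProduct.productMap φ (AlgHom.id k K))).IsPrime :=
        RingHom.ker_isPrime _
      haveI : (RingHom.ker (Algebra.TensorProduct.productMap ψ (AlgHom.id k K))).IsPrime :=
        RingHom.ker_isPrime _
      exact ker_productMap_ne K φ ψ hφψ (prime_unique_of_trivIdem htiK _ _)
    intro a
    obtain ⟨n, c, hc⟩ := IsPurelyInseparable.pow_mem k (ringExpChar k) (IsLocalRing.residue R a)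
    refine ⟨n, c, ?_⟩
    have hm : a ^ (ringExpChar k ^ n) - algebraMap k R c ∈ IsLocalRing.maximalIdeal R := by
      rw [← IsLocalRing.residue_eq_zero_iff, map_sub, map_pow, ← hc]
      exact sub_eq_zero.mpr rfl
    have hnil : IsNilpotent (IsLocalRing.maximalIdeal R) := by
      have := IsArtinianRing.isNilpotent_jacobson_bot (R := R)
      rwa [IsLocalRing.jacobson_eq_maximalIdeal ⊥ bot_ne_top] at this
    obtain ⟨N, hN⟩ := hnil
    refine ⟨N, ?_⟩
    have := Ideal.pow_mem_pow hm N
    rwa [hN, Ideal.zero_eq_bot, Ideal.mem_bot] at this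

end A2

end Groth.Agent.Lib.H9SteinAlg
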