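import Mathlib
import Groth.Agent.Lib.Helper12AffineDescent
import Groth.Agent.Lib.H9NormFin
import Groth.Agent.Lib.H9SteinAlg

/-! helper9: S7856. `connectedSpace_iff_trivIdem` (a scheme is connected iff nonempty with only trivial idempotent global sections), `nonempty_tensorEquiv` (Γ(X) ⊗[k] K ≃+* Γ(X_K) for X qcqs over a field k), `main` (proper X/k is geometrically connected iff Γ(X) is local, zero-dimensional with purely inseparable residue field). -/

set_option autoImplicit false
universe u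

namespace Groth.Agent.Lib.H9SteinConn

open Groth.Agent.Lib.H9SteinAlg

open CategoryTheory CategoryTheory.Limits AlgebraicGeometry TopologicalSpace Opposite TensorProduct

section idem

/-- An idempotent in a local ring is `0` or `1`. -/
theorem idem_local {R : Type*} [CommRing R] [IsLocalRing R] {e : R} (he : IsIdempotentElem e) :
    e = 0 ∨ e = 1 := by
  have h : e * (1 - e) = 0 := by rw [mul_sub, mul_one, he.eq, sub_self]
  rcases IsLocalRing.isUnit_or_isUnit_one_sub_self e with hu | hu
  · right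
    have := hu.mul_right_eq_zero.mp h
    exact (sub_eq_zero.mp this).symm
  · left
    exact hu.mul_left_eq_zero.mp h

variable {Y : Scheme.{u}}

theorem germ_eq_one {U : Y.Opens} {e : Γ(Y, U)} (he : IsIdempotentElem e) (y : Y) (hy : y ∈ U)
    (hmem : y ∈ Y.basicOpen e) : Y.presheaf.germ U y hy e = 1 := by
  have hu : IsUnit (Y.presheaf.germ U y hy e) := (Y.mem_basicOpen e y hy).mp hmem
  have hi : IsIdempotentElem (Y.presheaf.germ U y hy e) := he.map _
  rcases idem_local hi with h | h
  · rw [h] at hu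
    exact absurd hu not_isUnit_zero
  · exact h

theorem germ_eq_zero {U : Y.Opens} {e : Γ(Y, U)} (he : IsIdempotentElem e) (y : Y) (hy : y ∈ U)
    (hmem : y ∉ Y.basicOpen e) : Y.presheaf.germ U y hy e = 0 := by
  have hu : ¬ IsUnit (Y.presheaf.germ U y hy e) := fun h => hmem ((Y.mem_basicOpen e y hy).mpr h)
  have hi : IsIdempotentElem (Y.presheaf.germ U y hy e) := he.map _
  rcases idem_local hi with h | h
  · exact h
  · rw [h] at hu
    exact absurd isUnit_one hu

/-- Idempotent sections with the same basic open are equal. -/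
theorem idem_ext {U : Y.Opens} {e₁ e₂ : Γ(Y, U)} (h₁ : IsIdempotentElem e₁)
    (h₂ : IsIdempotentElem e₂) (h : Y.basicOpen e₁ = Y.basicOpen e₂) : e₁ = e₂ := by
  refine TopCat.Presheaf.section_ext Y.sheaf U e₁ e₂ ?_
  intro y hy
  by_cases hm : y ∈ Y.basicOpen e₁
  · have e1 := germ_eq_one h₁ y hy hm
    have e2 := germ_eq_one h₂ y hy (h ▸ hm)
    exact e1.trans e2.symm
  · have e1 := germ_eq_zero h₁ y hy hm
    have e2 := germ_eq_zero h₂ y hy (h ▸ hm)
    exact e1.trans e2.symm

/-- The basic open of an idempotent global section is clopen. -/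
theorem isClopen_basicOpen {e : Γ(Y, ⊤)} (he : IsIdempotentElem e) :
    IsClopen ((Y.basicOpen e : Y.Opens) : Set Y) := by
  refine ⟨?_, (Y.basicOpen e).isOpen⟩
  have hc : ((Y.basicOpen e : Y.Opens) : Set Y)ᶜ = ((Y.basicOpen (1 - e) : Y.Opens) : Set Y) := by
    ext y
    simp only [Set.mem_compl_iff, SetLike.mem_coe]
    constructor
    · intro hy
      have h0 := germ_eq_zero he y (Opens.mem_top y) hy
      rw [Y.mem_basicOpen (U := ⊤) (1 - e) y (Opens.mem_top y), map_sub, map_one, h0, sub_zero]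
      exact isUnit_one
    · intro hy hy'
      have h1 := germ_eq_one he y (Opens.mem_top y) hy'
      rw [Y.mem_basicOpen (U := ⊤) (1 - e) y (Opens.mem_top y), map_sub, map_one, h1, sub_self] at hy
      exact not_isUnit_zero hy
  rw [← isOpen_compl_iff, hc]
  exact (Y.basicOpen (1 - e)).isOpen

/-- A clopen subset of a scheme is the basic open of an idempotent global section. -/
theorem exists_idem_of_isClopen (U : Set Y) (hU : IsClopen U) :
    ∃ e : Γ(Y, ⊤), IsIdempotentElem e ∧ ((Y.basicOpen e : Y.Opens) : Set Y) = U := by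
  let U₁ : Y.Opens := ⟨U, hU.isOpen⟩
  let U₂ : Y.Opens := ⟨Uᶜ, hU.compl.isOpen⟩
  have hdisj : U₁ ⊓ U₂ = ⊥ := by
    ext y
    simp [U₁, U₂]
  have hsup : (⊤ : Y.Opens) = U₁ ⊔ U₂ := by
    ext y
    simp [U₁, U₂, em]
  let ε := (Y.sheaf.isProductOfDisjoint U₁ U₂ hdisj).conePointUniqueUpToIso
      (CommRingCat.prodFanIsLimit _ _)
  let s : Γ(Y, U₁ ⊔ U₂) := ε.inv ((1, 0) : Γ(Y, U₁) × Γ(Y, U₂))
  have hs1 : Y.presheaf.map (homOfLE (le_sup_left : U₁ ≤ U₁ ⊔ U₂)).op s = 1 := by
    have := IsLimit.conePointUniqueUpToIso_inv_comp (Y.sheaf.isProductOfDisjoint U₁ U₂ hdisj)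
      (CommRingCat.prodFanIsLimit _ _) ⟨WalkingPair.left⟩
    have h2 := congrArg (fun φ => φ.hom ((1, 0) : Γ(Y, U₁) × Γ(Y, U₂))) this
    exact h2
  have hs2 : Y.presheaf.map (homOfLE (le_sup_right : U₂ ≤ U₁ ⊔ U₂)).op s = 0 := by
    have := IsLimit.conePointUniqueUpToIso_inv_comp (Y.sheaf.isProductOfDisjoint U₁ U₂ hdisj)
      (CommRingCat.prodFanIsLimit _ _) ⟨WalkingPair.right⟩
    have h2 := congrArg (fun φ => φ.hom ((1, 0) : Γ(Y, U₁) × Γ(Y, U₂))) this
    exact h2
  have hsi : IsIdempotentElem s := by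
    have h0 : IsIdempotentElem ((1, 0) : Γ(Y, U₁) × Γ(Y, U₂)) := by
      change ((1, 0) : Γ(Y, U₁) × Γ(Y, U₂)) * (1, 0) = (1, 0)
      simp
    exact h0.map ε.inv.hom
  refine ⟨Y.presheaf.map (homOfLE (le_of_eq hsup)).op s, hsi.map _, ?_⟩
  rw [Scheme.basicOpen_res]
  ext y
  simp only [Opens.coe_inf, Opens.coe_top, Set.univ_inter, SetLike.mem_coe]
  by_cases hy : y ∈ U
  · have hy1 : y ∈ U₁ := hy
    have hy' : y ∈ U₁ ⊔ U₂ := le_sup_left (a := U₁) hy1
    rw [Y.mem_basicOpen s y hy']
    have hg := TopCat.Presheaf.germ_res_apply Y.presheaf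
      (homOfLE (le_sup_left : U₁ ≤ U₁ ⊔ U₂)) y hy1 s
    rw [hs1, map_one] at hg
    simp only [hy, iff_true]
    rw [← hg]
    exact isUnit_one
  · have hy2 : y ∈ U₂ := hy
    have hy' : y ∈ U₁ ⊔ U₂ := le_sup_right (a := U₁) hy2
    rw [Y.mem_basicOpen s y hy']
    have hg := TopCat.Presheaf.germ_res_apply Y.presheaf
      (homOfLE (le_sup_right : U₂ ≤ U₁ ⊔ U₂)) y hy2 s
    rw [hs2, map_zero] at hg
    simp only [hy, iff_false]
    rw [← hg]
    exact not_isUnit_zero

/-- **B1**: a scheme is connected iff it is nonempty and has only trivial idempotent global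
sections. -/
theorem connectedSpace_iff_trivIdem (Z : Scheme.{u}) :
    ConnectedSpace Z ↔ Nonempty Z ∧ TrivIdem Γ(Z, ⊤) := by
  rw [connectedSpace_iff_clopen]
  refine and_congr_right fun hne => ?_
  constructor
  · intro h e he
    rcases h _ (isClopen_basicOpen he) with h0 | h1
    · left
      refine idem_ext he (IsIdempotentElem.zero) ?_
      rw [Scheme.basicOpen_zero]
      exact Opens.ext h0
    · right
      refine idem_ext he (IsIdempotentElem.one) ?_
      have : Z.basicOpen (1 : Γ(Z, ⊤)) = ⊤ := Z.basicOpen_of_isUnit isUnit_one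
      rw [this]
      exact Opens.ext h1
  · intro h s hs
    obtain ⟨e, he, rfl⟩ := exists_idem_of_isClopen s hs
    rcases h e he with h0 | h1
    · left
      rw [h0, Scheme.basicOpen_zero]
      rfl
    · right
      have : Z.basicOpen (1 : Γ(Z, ⊤)) = ⊤ := Z.basicOpen_of_isUnit isUnit_one
      rw [h1, this]
      rfl

theorem nontrivial_of_nonempty (Z : Scheme.{u}) [Nonempty Z] : Nontrivial Γ(Z, ⊤) := by
  obtain ⟨z⟩ := ‹Nonempty Z›
  exact (Z.presheaf.germ ⊤ z (Opens.mem_top z)).hom.domain_nontrivial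

theorem nonempty_of_nontrivial (Z : Scheme.{u}) [Nontrivial Γ(Z, ⊤)] : Nonempty Z := by
  by_contra h
  rw [not_nonempty_iff] at h
  exact not_subsingleton Γ(Z, ⊤) inferInstance

end idem


section tensor

variable (k : Type u) [Field k] {X : Scheme.{u}} (f : X ⟶ Spec (CommRingCat.of k))

/-- the `k`-algebra structure on global sections -/
noncomputable abbrev algΓ : Algebra k Γ(X, ⊤) :=
  (f.appTop.hom.comp (Scheme.ΓSpecIso (CommRingCat.of k)).inv.hom).toAlgebra

variable (K : Type u) [Field K] [Algebra k K]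

instance flat_specMap : Flat (Spec.map (CommRingCat.ofHom (algebraMap k K))) := by
  rw [Flat.SpecMap_iff]
  change (algebraMap k K).Flat
  rw [RingHom.flat_algebraMap_iff]
  infer_instance

/-- **B2**: flat base change of global sections along a field extension -/
theorem nonempty_tensorEquiv [CompactSpace X] [QuasiSeparatedSpace X] :
    letI := algΓ k f
    Nonempty (Γ(X, ⊤) ⊗[k] K ≃+*
      Γ(pullback f (Spec.map (CommRingCat.ofHom (algebraMap k K))), ⊤)) := by
  letI := algΓ k f
  let g := Spec.map (CommRingCat.ofHom (algebraMap k K))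
  have H : IsPullback (pullback.fst f g) (pullback.snd f g) f g := IsPullback.of_hasPullback f g
  have hpo := Groth.Agent.Lib.Helper12.isPushout_appTop H
  have hpo' : IsPushout (CommRingCat.ofHom (algebraMap k Γ(X, ⊤)))
      (CommRingCat.ofHom (algebraMap k K)) (pullback.fst f g).appTop
      ((Scheme.ΓSpecIso (CommRingCat.of K)).inv ≫ (pullback.snd f g).appTop) := by
    refine IsPushout.of_iso hpo (Scheme.ΓSpecIso (CommRingCat.of k)) (Iso.refl _)
      (Scheme.ΓSpecIso (CommRingCat.of K)) (Iso.refl _) ?_ ?_ ?_ ?_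
    · ext a
      change f.appTop.hom a = f.appTop.hom ((Scheme.ΓSpecIso (CommRingCat.of k)).inv.hom
        ((Scheme.ΓSpecIso (CommRingCat.of k)).hom.hom a))
      congr 1
      exact (congrArg (fun φ => φ.hom a) (Scheme.ΓSpecIso (CommRingCat.of k)).hom_inv_id).symm
    · exact Scheme.ΓSpecIso_naturality (CommRingCat.ofHom (algebraMap k K))
    · simp
    · simp
  exact ⟨((CommRingCat.isPushout_tensorProduct k Γ(X, ⊤) K).isoIsPushout _ _
    hpo').commRingCatIsoToRingEquiv⟩

end tensor




theorem main (k : Type u) [Field k] {X : Scheme.{u}}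
    (f : X ⟶ Spec (CommRingCat.of k)) [IsProper f] :
    GeometricallyConnected f ↔
      (IsLocalRing Γ(X, ⊤) ∧ ringKrullDim Γ(X, ⊤) = 0 ∧
        ∀ a : Γ(X, ⊤), ∃ (n : ℕ) (c : k),
          IsNilpotent (a ^ (ringExpChar k ^ n) -
            f.appTop.hom ((Scheme.ΓSpecIso (CommRingCat.of k)).inv.hom c))) := by
  letI := algΓ k f
  haveI : CompactSpace X := (quasiCompact_iff_compactSpace f).mp inferInstance
  haveI : QuasiSeparatedSpace X := (quasiSeparated_iff_quasiSeparatedSpace f).mp inferInstance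
  haveI : Module.Finite k Γ(X, ⊤) := Groth.Agent.Lib.H9NormFin.finite_toGlobal k f
  rw [geometricallyConnected_iff, geometrically_iff_of_commRing_of_isClosedUnderIsomorphisms]
  constructor
  · intro h
    have := cond_of_trivIdem (k := k) (R := Γ(X, ⊤)) (fun K _ _ => by
      obtain ⟨e⟩ := nonempty_tensorEquiv k f K
      have hc := h K
      obtain ⟨hne, hti⟩ := (connectedSpace_iff_trivIdem _).mp hc
      haveI := hne
      haveI := nontrivial_of_nonempty (pullback f (Spec.map (CommRingCat.ofHom (algebraMap k K))))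
      exact ⟨e.symm.injective.nontrivial, hti.of_ringEquiv e.symm⟩)
    exact this
  · rintro ⟨hloc, hdim, hpi⟩ K _ _
    obtain ⟨e⟩ := nonempty_tensorEquiv k f K
    haveI := hloc
    haveI : Nontrivial (Γ(X, ⊤) ⊗[k] K) := nontrivial_tensor K
    rw [connectedSpace_iff_trivIdem]
    haveI : Nontrivial Γ(pullback f (Spec.map (CommRingCat.ofHom (algebraMap k K))), ⊤) :=
      e.injective.nontrivial
    exact ⟨nonempty_of_nontrivial _, (trivIdem_tensor K hpi).of_ringEquiv e⟩


end Groth.Agent.Lib.H9SteinConn
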