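import Mathlib

/-! helper9: sections of O_X-modules: `res`, `res_app`, `ext_two` (2-cover separation), `exists_cut` (glue a section on U₁ with 0 on U₂ when the module vanishes on U₁ ⊓ U₂), `Kills`, `eq_zero_of_le_basicOpen`, `eq_zero_of_cover` (a module killed by functions whose basic opens cover W has no sections on W). -/

set_option autoImplicit false
universe u

namespace Groth.Agent.Lib.H9ZarCut

open CategoryTheory CategoryTheory.Limits AlgebraicGeometry TopologicalSpace Opposite

variable {X : Scheme.{u}} (M : X.Modules)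

/-- the underlying sheaf of abelian groups -/
noncomputable abbrev sh : TopCat.Sheaf Ab X := ⟨M.presheaf, M.isSheaf⟩

/-- restriction of sections -/
noncomputable abbrev res {U V : X.Opens} (h : U ≤ V) (s : Γ(M, V)) : Γ(M, U) :=
  M.presheaf.map (homOfLE h).op s

theorem res_res {U V W : X.Opens} (h : U ≤ V) (h' : V ≤ W) (s : Γ(M, W)) :
    res M h (res M h' s) = res M (h.trans h') s := by
  change (M.presheaf.map (homOfLE h').op ≫ M.presheaf.map (homOfLE h).op) s = _
  rw [← Functor.map_comp]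
  rfl

theorem res_zero {U V : X.Opens} (h : U ≤ V) : res M h (0 : Γ(M, V)) = 0 := map_zero _

theorem res_app {M N : X.Modules} (φ : M ⟶ N) {U V : X.Opens} (h : U ≤ V) (s : Γ(M, V)) :
    res N h (φ.app V s) = φ.app U (res M h s) := by
  have := φ.mapPresheaf.naturality (homOfLE h).op
  exact (congrArg (fun ψ => ψ s) this).symm

theorem res_smul {U V : X.Opens} (h : U ≤ V) (r : Γ(X, V)) (s : Γ(M, V)) :
    res M h (r • s) = X.presheaf.map (homOfLE h).op r • res M h s :=
  M.map_smul (homOfLE h) r s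

/-- sections agreeing on a two-element cover agree -/
theorem ext_two {U₁ U₂ : X.Opens} (hcov : U₁ ⊔ U₂ = ⊤) (s t : Γ(M, ⊤))
    (h₁ : res M (le_top : U₁ ≤ ⊤) s = res M le_top t)
    (h₂ : res M (le_top : U₂ ≤ ⊤) s = res M le_top t) : s = t :=
  (sh M).eq_of_locally_eq₂ (homOfLE le_top) (homOfLE le_top) (le_of_eq hcov.symm) s t h₁ h₂

section cut

variable (U₁ U₂ : X.Opens) (hcov : U₁ ⊔ U₂ = ⊤) (hvan : ∀ s : Γ(M, U₁ ⊓ U₂), s = 0)

include hcov hvan in
/-- gluing `s` on `U₁` with `0` on `U₂` when `M` vanishes on the overlap -/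
theorem exists_cut (s : Γ(M, U₁)) :
    ∃ t : Γ(M, ⊤), res M le_top t = s ∧ res M (le_top : U₂ ≤ ⊤) t = 0 := by
  let U : Bool → X.Opens := fun b => if b then U₁ else U₂
  let sf : ∀ b : Bool, Γ(M, U b) := fun b => match b with
    | true => s
    | false => 0
  have hcomp : TopCat.Presheaf.IsCompatible M.presheaf U sf := by
    intro i j
    match i, j with
    | true, true => rfl
    | false, false => rfl
    | true, false => exact (hvan _).trans (hvan _).symm
    | false, true =>
      have e : U₂ ⊓ U₁ = U₁ ⊓ U₂ := inf_comm _ _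
      have hv' : ∀ s : Γ(M, U₂ ⊓ U₁), s = 0 := by
        rw [e]
        exact hvan
      exact (hv' _).trans (hv' _).symm
  have hle : (⊤ : X.Opens) ≤ iSup U := by
    rw [← hcov]
    refine sup_le ?_ ?_
    · exact le_iSup U true
    · exact le_iSup U false
  obtain ⟨t, ht, -⟩ := (sh M).existsUnique_gluing' U ⊤ (fun b => homOfLE le_top) hle sf hcomp
  exact ⟨t, ht true, ht false⟩

end cut


section kill

/-- the global function `r` acts as zero on `M` -/
def Kills (r : Γ(X, ⊤)) : Prop :=
  ∀ (U : X.Opens) (s : Γ(M, U)), X.presheaf.map (homOfLE (le_top : U ≤ ⊤)).op r • s = 0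

theorem eq_zero_of_le_basicOpen (r : Γ(X, ⊤)) (hr : Kills M r) (W : X.Opens)
    (hW : W ≤ X.basicOpen r) (s : Γ(M, W)) : s = 0 := by
  have hu : IsUnit (X.presheaf.map (homOfLE (le_top : W ≤ ⊤)).op r) := by
    have h1 := X.toRingedSpace.isUnit_res_basicOpen r
    have h2 := h1.map (X.presheaf.map (homOfLE hW).op).hom
    have e : (X.presheaf.map (homOfLE hW).op).hom
        ((X.presheaf.map (homOfLE (X.toRingedSpace.basicOpen_le r)).op).hom r) =
        (X.presheaf.map (homOfLE (le_top : W ≤ ⊤)).op).hom r := by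
      change (X.presheaf.map (homOfLE (X.toRingedSpace.basicOpen_le r)).op ≫
        X.presheaf.map (homOfLE hW).op).hom r = _
      rw [← Functor.map_comp]
      rfl
    rw [← e]
    exact h2
  obtain ⟨u, hu'⟩ := hu
  have h0 := hr W s
  rw [← hu'] at h0
  have := congrArg (fun z => (↑u⁻¹ : Γ(X, W)) • z) h0
  simp only [smul_zero] at this
  rwa [← mul_smul, Units.inv_mul, one_smul] at this

theorem eq_zero_of_cover (R : Set Γ(X, ⊤)) (hR : ∀ r ∈ R, Kills M r) (W : X.Opens)
    (hW : ∀ x ∈ W, ∃ r ∈ R, x ∈ X.basicOpen r) (s : Γ(M, W)) : s = 0 := by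
  let U : R → X.Opens := fun r => W ⊓ X.basicOpen r.1
  have hle : W ≤ iSup U := by
    intro x hx
    obtain ⟨r, hr, hxr⟩ := hW x hx
    exact Opens.mem_iSup.mpr ⟨⟨r, hr⟩, hx, hxr⟩
  refine (sh M).eq_of_locally_eq' U W (fun r => homOfLE inf_le_left) hle s 0 ?_
  intro r
  rw [map_zero]
  exact eq_zero_of_le_basicOpen M r.1 (hR r.1 r.2) (U r) inf_le_right _

end kill

end Groth.Agent.Lib.H9ZarCut
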