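import Mathlib
import Groth.Prelude.Def_Formal
import Groth.Agent.Lib.H9ZarCut

/-! helper9: `Formal.modPow I n M` is killed by `I^n` (`kills_modPow`), `mem_basicOpen_toGlobal`, `modPow_eq_zero_of_disjoint` (sections of M/I^nM vanish on opens disjoint from the preimage of V(I)). -/

set_option autoImplicit false
universe u

namespace Groth.Agent.Lib.H9ZarModPow

open CategoryTheory CategoryTheory.Limits AlgebraicGeometry TopologicalSpace Opposite
open Groth.Agent.Lib.H9ZarCut

variable {A : Type u} [CommRing A] {X : Scheme.{u}} [X.Over (Spec (CommRingCat.of A))]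

theorem smulModΓ_comp {M N : X.Modules} (φ : M ⟶ N) (r : Coh.Γtop X) :
    Formal.smulModΓ M r ≫ φ = φ ≫ Formal.smulModΓ N r := by
  apply Scheme.Modules.hom_ext
  intro U
  ext m
  exact Scheme.Modules.Hom.app_smul φ _ m

theorem smulMod_comp {M N : X.Modules} (φ : M ⟶ N) (a : A) :
    Formal.smulMod A M a ≫ φ = φ ≫ Formal.smulMod A N a :=
  smulModΓ_comp φ _

theorem smulMod_app (M : X.Modules) (a : A) (U : X.Opens) (s : Γ(M, U)) :
    (Formal.smulMod A M a).app U s =
      X.presheaf.map (homOfLE (le_top : U ≤ ⊤)).op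
        (Coh.toGlobal (X ↘ Spec (CommRingCat.of A)) a) • s := rfl

/-- `M / J M` is killed by `J` -/
theorem smulMod_cokernel_eq_zero (J : Ideal A) (M : X.Modules) (a : A) (ha : a ∈ J) :
    Formal.smulMod A (cokernel (Formal.smulFamily J M)) a = 0 := by
  haveI : Epi (cokernel.π (Formal.smulFamily J M)) := inferInstance
  rw [← cancel_epi (cokernel.π (Formal.smulFamily J M)), comp_zero, ← smulMod_comp]
  have e : Formal.smulMod A M a = Sigma.ι (fun _ : J => M) ⟨a, ha⟩ ≫ Formal.smulFamily J M := by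
    simp [Formal.smulFamily]
  rw [e, Category.assoc, cokernel.condition, comp_zero]

theorem kills_modPow (I : Ideal A) (n : ℕ) (M : X.Modules) (a : A) (ha : a ∈ I ^ n) :
    Kills (Formal.modPow I n M) (Coh.toGlobal (X ↘ Spec (CommRingCat.of A)) a) := by
  intro U s
  have h : Formal.smulMod A (Formal.modPow I n M) a = 0 :=
    smulMod_cokernel_eq_zero (I ^ n) M a ha
  rw [← smulMod_app, h]
  rfl

theorem mem_basicOpen_toGlobal (a : A) (x : X) :
    x ∈ X.basicOpen (Coh.toGlobal (X ↘ Spec (CommRingCat.of A)) a) ↔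
      a ∉ ((X ↘ Spec (CommRingCat.of A)).base x).asIdeal := by
  have h0 := basicOpen_eq_of_affine (R := CommRingCat.of A) a
  have h1 : X.basicOpen (Coh.toGlobal (X ↘ Spec (CommRingCat.of A)) a) =
      (X ↘ Spec (CommRingCat.of A)) ⁻¹ᵁ
        ((Spec (CommRingCat.of A)).basicOpen ((Scheme.ΓSpecIso (CommRingCat.of A)).inv a)) := by
    rw [Scheme.preimage_basicOpen_top]
    rfl
  rw [h1, h0]
  rfl

/-- sections of `M / I^n M` vanish away from `V(I)` -/
theorem modPow_eq_zero_of_disjoint (I : Ideal A) (n : ℕ) (M : X.Modules) (W : X.Opens)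
    (hW : ∀ x ∈ W, ¬ I ≤ ((X ↘ Spec (CommRingCat.of A)).base x).asIdeal)
    (s : Γ(Formal.modPow I n M, W)) : s = 0 := by
  refine eq_zero_of_cover _ (Coh.toGlobal (X ↘ Spec (CommRingCat.of A)) '' ((I ^ n : Ideal A) : Set A)) ?_ W ?_ s
  · rintro _ ⟨a, ha, rfl⟩
    exact kills_modPow I n M a ha
  · intro x hx
    have h1 : ¬ I ^ n ≤ ((X ↘ Spec (CommRingCat.of A)).base x).asIdeal := fun h =>
      hW x hx (Ideal.IsPrime.le_of_pow_le h)
    obtain ⟨a, ha, hax⟩ := SetLike.not_le_iff_exists.mp h1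
    exact ⟨_, ⟨a, ha, rfl⟩, (mem_basicOpen_toGlobal a x).mpr hax⟩

end Groth.Agent.Lib.H9ZarModPow
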