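import Mathlib
import Groth.Agent.S0003
import Groth.Agent.Lib.H9NormFin
import Groth.Prelude.Def_ClSub2
import Groth.Agent.Lib.H9ZarModPow

/-! helper9: idempotent lifting via the theorem on formal functions (S0003): for X proper over Noetherian I-adically complete A, opens U₁ ∪ U₂ = X with U₁ ∩ U₂ disjoint from V(I): `exists_t`, `idem_of_t`, `ψ : O/I → j_*O_T`, `exists_idem` (an idempotent global function t with D(t) ⊇ j(T) ∩ U₁ and D(t) ∩ j(T) ∩ U₂ = ∅ for any j : T → X killed by I). Also `h0`, `h0_natural`, `toO`. -/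

set_option autoImplicit false
universe u

namespace Groth.Agent.Lib.H9ZarLift

open CategoryTheory CategoryTheory.Limits AlgebraicGeometry TopologicalSpace Opposite
open Groth.Agent.Lib.H9ZarCut Groth.Agent.Lib.H9ZarModPow

section h0

variable {X : Scheme.{u}}

/-- `H^0(X, M) ≃+ Γ(M, ⊤)` -/
noncomputable def h0 (M : X.Modules) : Coh.HH X M 0 ≃+ Γ(M, ⊤) :=
  Groth.Agent.Lib.H9NormFin.hh0Equiv X M

theorem h0_natural {M N : X.Modules} (φ : M ⟶ N) (x : Coh.HH X M 0) :
    h0 N (Sheaf.H.map ((SheafOfModules.toSheaf _).map φ) 0 x) = φ.app ⊤ (h0 M x) := by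
  change Sheaf.H.equiv₀ _ _ (Sheaf.H.map _ 0 x) = _
  rw [← Sheaf.H.equiv₀_naturality]
  rfl

end h0

section lift

variable {X : Scheme.{u}}

/-- a function, viewed as a section of the structure sheaf as a module -/
def toO {U : X.Opens} (s : Γ(X, U)) : Γ(Coh.structureModule X, U) := s

theorem res_toO {U V : X.Opens} (h : U ≤ V) (z : Γ(X, V)) :
    res (Coh.structureModule X) h (toO z) = toO (X.presheaf.map (homOfLE h).op z) := rfl

theorem smul_toO {U : X.Opens} (r s : Γ(X, U)) : r • toO s = toO (r * s) := rfl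

theorem toO_sub {U : X.Opens} (r s : Γ(X, U)) : toO (r - s) = toO r - toO s := rfl

theorem toO_zero {U : X.Opens} : toO (0 : Γ(X, U)) = 0 := rfl

variable (A : Type u) [CommRing A] [IsNoetherianRing A] (I : Ideal A) [IsAdicComplete I A]
  (X : Scheme.{u}) [X.Over (Spec (CommRingCat.of A))] [IsProper (X ↘ Spec (CommRingCat.of A))]
  (U₁ U₂ : X.Opens) (hcov : U₁ ⊔ U₂ = ⊤)
  (hdisj : ∀ x ∈ U₁ ⊓ U₂, ¬ I ≤ ((X ↘ Spec (CommRingCat.of A)).base x).asIdeal)

/-- the structure sheaf as a module -/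
local notation "𝒪" => Coh.structureModule X

/-- the projection `O → O/I^(n+1)` -/
local notation "π" => fun n : ℕ => Formal.modPowπ I (n + 1) (Coh.structureModule X)

theorem isCoh_structureModule : Coh.IsCoh (Coh.structureModule X) :=
  ⟨Groth.Agent.Lib.Helper23.Serre.isQuasicoherent_structureModule' X,
    Groth.Agent.Lib.R2H2.PnFinite.isFiniteType_structureModule X⟩

/-- the defining property of the lift `t` -/
def IsLift (t : Γ(X, ⊤)) : Prop :=
  ∀ n : ℕ, res _ (le_top : U₁ ≤ ⊤) ((π n).app ⊤ (toO t)) = (π n).app U₁ (toO (1 : Γ(X, U₁))) ∧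
    res _ (le_top : U₂ ≤ ⊤) ((π n).app ⊤ (toO t)) = 0

include hcov hdisj in
/-- there is a global function `t` whose image in every `O/I^(n+1)` is `1` on `U₁`, `0` on `U₂` -/
theorem exists_t : ∃ t : Γ(X, ⊤), IsLift A I X U₁ U₂ t := by
  have hex : ∀ n : ℕ, ∃ e : Γ(Formal.modPow I (n + 1) 𝒪, ⊤),
      res _ (le_top : U₁ ≤ ⊤) e = (π n).app U₁ (toO (1 : Γ(X, U₁))) ∧
      res _ (le_top : U₂ ≤ ⊤) e = 0 := fun n =>
    exists_cut (Formal.modPow I (n + 1) 𝒪) U₁ U₂ hcov
      (fun s => modPow_eq_zero_of_disjoint I (n + 1) 𝒪 (U₁ ⊓ U₂) hdisj s) _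
  choose e he₁ he₂ using hex
  have hcompat : ∀ n, (Formal.modPowTrans I (n + 1) 𝒪).app ⊤ (e (n + 1)) = e n := by
    intro n
    refine ext_two _ hcov _ _ ?_ ?_
    · rw [res_app, he₁, he₁]
      have := congrArg (fun φ => φ.app U₁ (toO (1 : Γ(X, U₁))))
        (Formal.modPowπ_trans I (n + 1) 𝒪)
      exact this
    · rw [res_app, he₂, he₂, map_zero]
  let x : ∀ n, Formal.HHmodPow I 𝒪 0 n := fun n => (h0 _).symm (e n)
  have hx : x ∈ Formal.HHlim I 𝒪 0 := by
    intro n
    apply (h0 _).injective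
    change h0 _ (Sheaf.H.map _ 0 (x (n + 1))) = _
    rw [h0_natural]
    simp only [x, AddEquiv.apply_symm_apply]
    exact hcompat n
  obtain ⟨y, hy⟩ := (Groth.Agent.S0003.result A I X 𝒪 (isCoh_structureModule X) 0).2 ⟨x, hx⟩
  refine ⟨h0 _ y, fun n => ?_⟩
  have h1 : Formal.toHHmodPow I 𝒪 0 n y = x n := congrFun (congrArg Subtype.val hy) n
  have h2 : (π n).app ⊤ (h0 _ y) = e n := by
    rw [← h0_natural]
    change h0 _ (Formal.toHHmodPow I 𝒪 0 n y) = _
    rw [h1]
    simp only [x, AddEquiv.apply_symm_apply]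
  change res _ (le_top : U₁ ≤ ⊤) ((π n).app ⊤ (h0 _ y)) = _ ∧
    res _ (le_top : U₂ ≤ ⊤) ((π n).app ⊤ (h0 _ y)) = 0
  rw [h2]
  exact ⟨he₁ n, he₂ n⟩

include hcov in
/-- such a `t` is idempotent, by injectivity in the theorem on formal functions -/
theorem idem_of_t (t : Γ(X, ⊤)) (ht : IsLift A I X U₁ U₂ t) : IsIdempotentElem t := by
  let z : Γ(X, ⊤) := t * t - t
  have hz : ∀ n : ℕ, (π n).app ⊤ (toO z) = 0 := by
    intro n
    refine ext_two _ hcov _ _ ?_ ?_
    · rw [res_app, res_zero]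
      let t₁ : Γ(X, U₁) := X.presheaf.map (homOfLE (le_top : U₁ ≤ ⊤)).op t
      have e1 : res 𝒪 (le_top : U₁ ≤ ⊤) (toO z) = t₁ • toO (t₁ - 1) := by
        rw [res_toO, smul_toO]
        congr 1
        change (X.presheaf.map (homOfLE (le_top : U₁ ≤ ⊤)).op).hom (t * t - t) = t₁ * (t₁ - 1)
        rw [map_sub, map_mul]
        ring
      have e2 : (π n).app U₁ (toO t₁) = (π n).app U₁ (toO (1 : Γ(X, U₁))) := by
        rw [← (ht n).1, res_app, res_toO]
      rw [e1, Scheme.Modules.Hom.app_smul, toO_sub, map_sub, e2, sub_self, smul_zero]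
    · rw [res_app, res_zero]
      let t₂ : Γ(X, U₂) := X.presheaf.map (homOfLE (le_top : U₂ ≤ ⊤)).op t
      have e1 : res 𝒪 (le_top : U₂ ≤ ⊤) (toO z) = (t₂ - 1) • toO t₂ := by
        rw [res_toO, smul_toO]
        congr 1
        change (X.presheaf.map (homOfLE (le_top : U₂ ≤ ⊤)).op).hom (t * t - t) = (t₂ - 1) * t₂
        rw [map_sub, map_mul]
        ring
      have e2 : (π n).app U₂ (toO t₂) = 0 := by
        rw [← (ht n).2, res_app, res_toO]
      rw [e1, Scheme.Modules.Hom.app_smul, e2, smul_zero]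
  have hinj := (Groth.Agent.S0003.result A I X 𝒪 (isCoh_structureModule X) 0).1
  have h0z : (h0 𝒪).symm (toO z) = 0 := by
    apply hinj
    rw [map_zero]
    apply Subtype.ext
    funext n
    apply (h0 _).injective
    change h0 _ (Formal.toHHmodPow I 𝒪 0 n ((h0 𝒪).symm (toO z))) = h0 _ 0
    rw [map_zero]
    have := h0_natural (π n) ((h0 𝒪).symm (toO z))
    rw [AddEquiv.apply_symm_apply] at this
    exact this.trans (hz n)
  have hz0 : toO z = 0 := by
    have := congrArg (h0 𝒪) h0z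
    rwa [AddEquiv.apply_symm_apply, map_zero] at this
  have hz1 : z = 0 := hz0
  exact sub_eq_zero.mp hz1


section fibre

variable {T : Scheme.{u}} (j : T ⟶ X)
  (hj : ∀ a ∈ I, j.appTop.hom (Coh.toGlobal (X ↘ Spec (CommRingCat.of A)) a) = 0)

theorem unitToPush_app (U : X.Opens) (s : Γ(X, U)) :
    (ClSub.unitToPush j).app U (toO s) = toO ((j.app U).hom s) := rfl

include hj in
theorem smulFamily_unitToPush :
    Formal.smulFamily (I ^ 1) 𝒪 ≫ ClSub.unitToPush j = 0 := by
  apply Sigma.hom_ext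
  intro a
  have ha : (a : A) ∈ I := by
    have h1 : (a : A) ∈ I ^ 1 := a.2
    have h2 : I ^ 1 ≤ I := le_of_eq (pow_one I)
    exact h2 h1
  have e : Sigma.ι (fun _ : ↥(I ^ 1) => 𝒪) a ≫ Formal.smulFamily (I ^ 1) 𝒪 =
      Formal.smulMod A 𝒪 (a : A) := by
    simp [Formal.smulFamily]
  rw [comp_zero, ← Category.assoc, e]
  apply Scheme.Modules.hom_ext
  intro U
  ext s'
  let s : Γ(X, U) := s'
  change (j.app U).hom (X.presheaf.map (homOfLE (le_top : U ≤ ⊤)).op
    (Coh.toGlobal (X ↘ Spec (CommRingCat.of A)) (a : A)) * s) = 0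
  rw [map_mul]
  have hnat := congrArg (fun φ => φ.hom (Coh.toGlobal (X ↘ Spec (CommRingCat.of A)) (a : A)))
    (j.naturality (homOfLE (le_top : U ≤ ⊤)).op)
  simp only [CommRingCat.hom_comp, RingHom.coe_comp, Function.comp_apply] at hnat
  have h3 : (j.app ⊤).hom (Coh.toGlobal (X ↘ Spec (CommRingCat.of A)) (a : A)) = 0 := hj a ha
  erw [hnat, h3, map_zero, zero_mul]

/-- the map `O/I → j_* O_T` -/
noncomputable def ψ : Formal.modPow I 1 𝒪 ⟶
    (Scheme.Modules.pushforward j).obj (Coh.structureModule T) :=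
  cokernel.desc _ (ClSub.unitToPush j) (smulFamily_unitToPush A I X j hj)

theorem π_ψ : Formal.modPowπ I 1 𝒪 ≫ ψ A I X j hj = ClSub.unitToPush j :=
  cokernel.π_desc _ _ _


include hj in
theorem app_eq_of_π_eq (U : X.Opens) (s s' : Γ(X, U))
    (h : (Formal.modPowπ I 1 𝒪).app U (toO s) = (Formal.modPowπ I 1 𝒪).app U (toO s')) :
    (j.app U).hom s = (j.app U).hom s' := by
  have h1 := congrArg (fun z => (ψ A I X j hj).app U z) h
  have e : ∀ r : Γ(X, U), (ψ A I X j hj).app U ((Formal.modPowπ I 1 𝒪).app U (toO r)) =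
      toO ((j.app U).hom r) := by
    intro r
    have := congrArg (fun φ => φ.app U (toO r)) (π_ψ A I X j hj)
    exact this
  simp only [e] at h1
  exact h1

include hcov hdisj hj in
/-- **idempotent lifting**: a decomposition of `V(I)`-part of `X` into two closed pieces
(complements of `U₂`, `U₁`) is cut out by an idempotent global function. -/
theorem exists_idem :
    ∃ t : Γ(X, ⊤), IsIdempotentElem t ∧
      (∀ x₀ : T, j.base x₀ ∈ U₁ → j.base x₀ ∈ X.basicOpen t) ∧
      (∀ x₀ : T, j.base x₀ ∈ U₂ → j.base x₀ ∉ X.basicOpen t) := by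
  obtain ⟨t, ht⟩ := exists_t A I X U₁ U₂ hcov hdisj
  refine ⟨t, idem_of_t A I X U₁ U₂ hcov t ht, ?_, ?_⟩
  · intro x₀ hx
    have h1 : (j.app U₁).hom (X.presheaf.map (homOfLE (le_top : U₁ ≤ ⊤)).op t) =
        (j.app U₁).hom 1 := by
      apply app_eq_of_π_eq A I X j hj
      have := (ht 0).1
      rw [res_app, res_toO] at this
      exact this
    rw [map_one] at h1
    have hnat := congrArg (fun φ => φ.hom t) (j.naturality (homOfLE (le_top : U₁ ≤ ⊤)).op)
    simp only [CommRingCat.hom_comp, RingHom.coe_comp, Function.comp_apply] at hnat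
    have h2 : T.presheaf.map (homOfLE (le_top : j ⁻¹ᵁ U₁ ≤ ⊤)).op (j.appTop.hom t) = 1 :=
      hnat.symm.trans h1
    have h3 := Scheme.basicOpen_res T (j.appTop.hom t) (homOfLE (le_top : j ⁻¹ᵁ U₁ ≤ ⊤)).op
    rw [h2, Scheme.basicOpen_of_isUnit _ isUnit_one] at h3
    have hx' : x₀ ∈ j ⁻¹ᵁ U₁ := hx
    rw [h3] at hx'
    have h4 : x₀ ∈ T.basicOpen (j.appTop.hom t) := hx'.2
    rw [← Scheme.preimage_basicOpen_top] at h4
    exact h4
  · intro x₀ hx hmem
    have h1 : (j.app U₂).hom (X.presheaf.map (homOfLE (le_top : U₂ ≤ ⊤)).op t) =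
        (j.app U₂).hom 0 := by
      apply app_eq_of_π_eq A I X j hj
      have := (ht 0).2
      rw [res_app, res_toO] at this
      rw [this]
      exact (map_zero _).symm
    rw [map_zero] at h1
    have hnat := congrArg (fun φ => φ.hom t) (j.naturality (homOfLE (le_top : U₂ ≤ ⊤)).op)
    simp only [CommRingCat.hom_comp, RingHom.coe_comp, Function.comp_apply] at hnat
    have h2 : T.presheaf.map (homOfLE (le_top : j ⁻¹ᵁ U₂ ≤ ⊤)).op (j.appTop.hom t) = 0 :=
      hnat.symm.trans h1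
    have h3 := Scheme.basicOpen_res T (j.appTop.hom t) (homOfLE (le_top : j ⁻¹ᵁ U₂ ≤ ⊤)).op
    rw [h2, Scheme.basicOpen_zero] at h3
    have h4 : x₀ ∈ T.basicOpen (j.appTop.hom t) := by
      rw [← Scheme.preimage_basicOpen_top]
      exact hmem
    have h5 : x₀ ∈ (j ⁻¹ᵁ U₂) ⊓ T.basicOpen (j.appTop.hom t) := ⟨hx, h4⟩
    rw [← h3] at h5
    exact h5

end fibre

end lift

end Groth.Agent.Lib.H9ZarLift
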