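import Mathlib
import Groth.Agent.Lib.Helper14LocNoeth
import Groth.Agent.Lib.H9SteinConn
import Groth.Agent.Lib.H9ZarLift

/-! helper9: S13506: `bijective_connectedComponentsMap` (topological criterion), `range_ι`, `exists_mem_of_isClosed` (closed subsets meet the closed fibre, A complete), `exists_clopen_lift` (clopens of X ×_A A/I lift to clopens of X), `main` (π₀(X₀) → π₀(X) bijective). -/

set_option autoImplicit false
universe u

namespace Groth.Agent.Lib.H9ZarConn

open CategoryTheory CategoryTheory.Limits AlgebraicGeometry TopologicalSpace Opposite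
open Groth.Agent.Lib.H9ZarCut Groth.Agent.Lib.H9ZarModPow Groth.Agent.Lib.H9ZarLift

theorem bijective_connectedComponentsMap {T X : Type*} [TopologicalSpace T] [TopologicalSpace X]
    (i : T → X) (hi : Continuous i)
    (hopen : ∀ x₀ : T, IsOpen (connectedComponent x₀))
    (ha : ∀ C : Set X, IsClosed C → C.Nonempty → ∃ x₀, i x₀ ∈ C)
    (hb : ∀ V : Set T, IsClopen V → ∃ U : Set X, IsClopen U ∧ i ⁻¹' U = V) :
    Function.Bijective hi.connectedComponentsMap := by
  constructor
  · intro c₁ c₂ h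
    obtain ⟨x₀, rfl⟩ := ConnectedComponents.surjective_coe c₁
    obtain ⟨y₀, rfl⟩ := ConnectedComponents.surjective_coe c₂
    rw [Continuous.connectedComponentsMap_mk, Continuous.connectedComponentsMap_mk,
      ConnectedComponents.coe_eq_coe'] at h
    rw [ConnectedComponents.coe_eq_coe']
    obtain ⟨U, hU, hUV⟩ := hb (connectedComponent y₀) ⟨isClosed_connectedComponent, hopen y₀⟩
    have hy : i y₀ ∈ U := by
      have : y₀ ∈ i ⁻¹' U := hUV ▸ mem_connectedComponent
      exact this
    have hsub : connectedComponent (i y₀) ⊆ U := hU.connectedComponent_subset hy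
    have hx : x₀ ∈ i ⁻¹' U := hsub h
    rw [hUV] at hx
    exact hx
  · intro c
    obtain ⟨x, rfl⟩ := ConnectedComponents.surjective_coe c
    obtain ⟨x₀, hx₀⟩ := ha (connectedComponent x) isClosed_connectedComponent
      ⟨x, mem_connectedComponent⟩
    refine ⟨(x₀ : ConnectedComponents T), ?_⟩
    rw [Continuous.connectedComponentsMap_mk, ConnectedComponents.coe_eq_coe']
    exact hx₀


section main

variable (A : Type u) [CommRing A] [IsNoetherianRing A] (I : Ideal A) [IsAdicComplete I A]
  {X : Scheme.{u}} (f : X ⟶ Spec (CommRingCat.of A)) [IsProper f]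

/-- the closed fibre `X ×_A A/I → X` -/
local notation "ι" => pullback.fst f (Spec.map (CommRingCat.ofHom (Ideal.Quotient.mk I)))

theorem range_ι : Set.range (ι).base = {x | I ≤ (f.base x).asIdeal} := by
  have h1 := Scheme.Pullback.range_fst f (Spec.map (CommRingCat.ofHom (Ideal.Quotient.mk I)))
  have h2 : Set.range (Spec.map (CommRingCat.ofHom (Ideal.Quotient.mk I))).base =
      PrimeSpectrum.zeroLocus (I : Set A) := by
    have := range_comap_of_surjective (A ⧸ I) (Ideal.Quotient.mk I)
      Ideal.Quotient.mk_surjective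
    rw [Ideal.mk_ker] at this
    exact this
  ext x
  have : x ∈ Set.range (ι).base ↔ f.base x ∈ Set.range
      (Spec.map (CommRingCat.ofHom (Ideal.Quotient.mk I))).base := by
    have := congrArg (fun S => x ∈ S) h1
    exact iff_of_eq this
  rw [this, h2]
  rfl

theorem hj_ι : ∀ a ∈ I, (ι).appTop.hom (Coh.toGlobal f a) = 0 := by
  intro a ha
  have hc := pullback.condition (f := f) (g := Spec.map (CommRingCat.ofHom (Ideal.Quotient.mk I)))
  have h1 : (ι).appTop.hom (Coh.toGlobal f a) =
      ((ι) ≫ f).appTop.hom ((Scheme.ΓSpecIso (CommRingCat.of A)).inv.hom a) := by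
    rw [Scheme.Hom.comp_appTop]
    rfl
  rw [h1, hc, Scheme.Hom.comp_appTop]
  have h2 := congrArg (fun φ => φ.hom a)
    (Scheme.ΓSpecIso_inv_naturality (CommRingCat.ofHom (Ideal.Quotient.mk I)))
  simp only [CommRingCat.hom_comp, RingHom.coe_comp, Function.comp_apply] at h2
  change (pullback.snd f (Spec.map (CommRingCat.ofHom (Ideal.Quotient.mk I)))).appTop.hom
    ((Spec.map (CommRingCat.ofHom (Ideal.Quotient.mk I))).appTop.hom
      ((Scheme.ΓSpecIso (CommRingCat.of A)).inv.hom a)) = 0
  erw [← h2]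
  have h3 : (CommRingCat.ofHom (Ideal.Quotient.mk I)).hom a = 0 :=
    Ideal.Quotient.eq_zero_iff_mem.mpr ha
  erw [h3, map_zero, map_zero]

/-- every nonempty closed subset of `X` meets the closed fibre -/
theorem exists_mem_of_isClosed (C : Set X) (hC : IsClosed C) (hne : C.Nonempty) :
    ∃ x₀, (ι).base x₀ ∈ C := by
  have hcl : IsClosed (f.base '' C) := f.isClosedMap C hC
  obtain ⟨J, hJ⟩ := (PrimeSpectrum.isClosed_iff_zeroLocus_ideal _).mp hcl
  have hJne : J ≠ ⊤ := by
    rintro rfl
    rw [PrimeSpectrum.zeroLocus_empty_iff_eq_top.mpr rfl] at hJ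
    obtain ⟨x, hx⟩ := hne
    have : f.base x ∈ f.base '' C := ⟨x, hx, rfl⟩
    rw [hJ] at this
    exact this
  obtain ⟨m, hm, hJm⟩ := Ideal.exists_le_maximal J hJne
  have hmem : (⟨m, hm.isPrime⟩ : PrimeSpectrum A) ∈ f.base '' C := by
    rw [hJ]
    exact hJm
  obtain ⟨x, hxC, hxm⟩ := hmem
  have hI : I ≤ (f.base x).asIdeal := by
    rw [hxm]
    exact (IsAdicComplete.le_jacobson_bot I).trans (sInf_le ⟨bot_le, hm⟩)
  have : x ∈ Set.range (ι).base := by
    rw [range_ι]
    exact hI
  obtain ⟨x₀, rfl⟩ := this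
  exact ⟨x₀, hxC⟩


/-- clopen subsets of the closed fibre lift to clopen subsets of `X` -/
theorem exists_clopen_lift
    (V : Set ↥(pullback f (Spec.map (CommRingCat.ofHom (Ideal.Quotient.mk I))))) (hV : IsClopen V) :
    ∃ U : Set X, IsClopen U ∧ (ι).base ⁻¹' U = V := by
  letI : X.Over (Spec (CommRingCat.of A)) := ⟨f⟩
  haveI : IsProper (X ↘ Spec (CommRingCat.of A)) := ‹IsProper f›
  haveI : IsClosedImmersion (Spec.map (CommRingCat.ofHom (Ideal.Quotient.mk I))) :=
    IsClosedImmersion.spec_of_surjective _ Ideal.Quotient.mk_surjective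
  have hemb := (ι).isClosedEmbedding
  have hinj : Function.Injective (ι).base := hemb.injective
  let U₁ : X.Opens := ⟨((ι).base '' Vᶜ)ᶜ, (hemb.isClosedMap _ hV.compl.1).isOpen_compl⟩
  let U₂ : X.Opens := ⟨((ι).base '' V)ᶜ, (hemb.isClosedMap _ hV.1).isOpen_compl⟩
  have hcov : U₁ ⊔ U₂ = ⊤ := by
    ext x
    simp only [Opens.coe_sup, Opens.coe_top, Set.mem_univ, iff_true]
    by_contra hx
    rw [Set.mem_union, not_or] at hx
    obtain ⟨h1, h2⟩ := hx
    have h1' : x ∈ (ι).base '' Vᶜ := not_not.mp h1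
    have h2' : x ∈ (ι).base '' V := not_not.mp h2
    obtain ⟨a, ha, rfl⟩ := h1'
    obtain ⟨b, hb, hab⟩ := h2'
    exact ha (hinj hab ▸ hb)
  have hdisj : ∀ x ∈ U₁ ⊓ U₂, ¬ I ≤ ((X ↘ Spec (CommRingCat.of A)).base x).asIdeal := by
    rintro x ⟨hx1, hx2⟩ hI
    have : x ∈ Set.range (ι).base := by
      rw [range_ι]
      exact hI
    obtain ⟨a, rfl⟩ := this
    by_cases ha : a ∈ V
    · exact hx2 ⟨a, ha, rfl⟩
    · exact hx1 ⟨a, ha, rfl⟩
  obtain ⟨t, ht, h1, h2⟩ := exists_idem A I X U₁ U₂ hcov hdisj (ι) (hj_ι A I f)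
  refine ⟨(X.basicOpen t : Set X), Groth.Agent.Lib.H9SteinConn.isClopen_basicOpen ht, ?_⟩
  ext a
  simp only [Set.mem_preimage, SetLike.mem_coe]
  constructor
  · intro ha
    by_contra haV
    refine h2 a ?_ ha
    rintro ⟨b, hb, hab⟩
    exact haV (hinj hab ▸ hb)
  · intro ha
    refine h1 a ?_
    rintro ⟨b, hb, hab⟩
    exact hb (hinj hab ▸ ha)

theorem main :
    Function.Bijective (Continuous.connectedComponentsMap (ι).continuous) := by
  haveI : IsLocallyNoetherian (pullback f (Spec.map (CommRingCat.ofHom (Ideal.Quotient.mk I)))) :=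
    LocallyOfFiniteType.isLocallyNoetherian
      (pullback.snd f (Spec.map (CommRingCat.ofHom (Ideal.Quotient.mk I))))
  haveI : CompactSpace ↥(pullback f (Spec.map (CommRingCat.ofHom (Ideal.Quotient.mk I)))) :=
    (quasiCompact_iff_compactSpace
      (pullback.snd f (Spec.map (CommRingCat.ofHom (Ideal.Quotient.mk I))))).mp inferInstance
  haveI : IsNoetherian (pullback f (Spec.map (CommRingCat.ofHom (Ideal.Quotient.mk I)))) := {}
  exact bijective_connectedComponentsMap _ _
    (fun x₀ => Groth.Agent.Lib.Helper14.isOpen_connectedComponent_of_noetherianSpace x₀)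
    (exists_mem_of_isClosed A I f) (exists_clopen_lift A I f)

end main

end Groth.Agent.Lib.H9ZarConn
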