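import Mathlib
import Groth.Agent.Lib.H9ZarConn
import Groth.Agent.Lib.Helper12AffineDescent

/-! helper9: `connectedSpace_of_bijective_connectedComponentsMap`, `isIso_appTop_snd` (flat base change of f_*O=O to Spec C), `connectedSpace_pullback_residue` (complete local form of Zariski connectedness: closed fibre over a flat complete local Spec C → Y is connected). -/

set_option autoImplicit false
universe u

namespace Groth.Agent.Lib.H9ZarLocalA

open CategoryTheory CategoryTheory.Limits AlgebraicGeometry TopologicalSpace Opposite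
open Groth.Agent.Lib.H9SteinAlg Groth.Agent.Lib.H9SteinConn

theorem connectedSpace_of_bijective_connectedComponentsMap {T X : Type*} [TopologicalSpace T]
    [TopologicalSpace X] (i : T → X) (hi : Continuous i)
    (hb : Function.Bijective hi.connectedComponentsMap) [ConnectedSpace X] : ConnectedSpace T := by
  obtain ⟨x⟩ := (inferInstance : Nonempty X)
  obtain ⟨c, hc⟩ := hb.2 (x : ConnectedComponents X)
  obtain ⟨x₀, rfl⟩ := ConnectedComponents.surjective_coe c
  rw [connectedSpace_iff_connectedComponent]
  refine ⟨x₀, Set.eq_univ_of_forall fun y₀ => ?_⟩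
  have h1 : hi.connectedComponentsMap (y₀ : ConnectedComponents T) =
      hi.connectedComponentsMap (x₀ : ConnectedComponents T) := by
    rw [Continuous.connectedComponentsMap_mk, Continuous.connectedComponentsMap_mk,
      ConnectedComponents.coe_eq_coe']
    rw [(preconnectedSpace_iff_connectedComponent.mp inferInstance) (i x₀)]
    exact Set.mem_univ _
  have h2 := hb.1 h1
  rwa [ConnectedComponents.coe_eq_coe'] at h2

/-- a ring isomorphic to a local ring has a connected spectrum-like behaviour: only trivial
idempotents -/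
theorem trivIdem_of_isLocalRing (R : Type*) [CommRing R] [IsLocalRing R] : TrivIdem R :=
  fun _ he => idem_local he

section P

variable {X Y : Scheme.{u}} (f : X ⟶ Y) [IsProper f]
  (C : Type u) [CommRing C] [IsNoetherianRing C] [IsLocalRing C]
  [IsAdicComplete (IsLocalRing.maximalIdeal C) C]
  (h : Spec (CommRingCat.of C) ⟶ Y) [Flat h]
  (U : Y.Opens) (hU : IsAffineOpen U) (hfU : IsIso (f.app U))
  (hhU : Set.range h.base ⊆ U)

include hU hfU hhU in
/-- global functions of the base change of `f` to a flat `Spec C` over which `f_* O = O` -/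
theorem isIso_appTop_snd : IsIso (pullback.snd f h).appTop := by
  haveI : IsAffine (U : Scheme.{u}) := hU
  -- factor `h` through `U`
  let h' : Spec (CommRingCat.of C) ⟶ (U : Scheme.{u}) :=
    IsOpenImmersion.lift U.ι h (by rw [Scheme.Opens.range_ι]; exact hhU)
  have hh' : h' ≫ U.ι = h := IsOpenImmersion.lift_fac _ _ _
  haveI : Flat h' := MorphismProperty.of_postcomp (W := @Flat) (W' := @IsOpenImmersion) h' U.ι
    inferInstance (by rw [hh']; infer_instance)
  -- the left square
  have hbig : IsPullback (pullback.fst f h) (pullback.snd f h) f (h' ≫ U.ι) := by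
    rw [hh']
    exact IsPullback.of_hasPullback f h
  have hright := isPullback_morphismRestrict f U
  let k : pullback f h ⟶ (f ⁻¹ᵁ U : Scheme.{u}) :=
    hright.lift (pullback.snd f h ≫ h') (pullback.fst f h) (by
      rw [Category.assoc, hh']
      exact pullback.condition.symm)
  have hk1 : k ≫ (f ∣_ U) = pullback.snd f h ≫ h' := hright.lift_fst _ _ _
  have hk2 : k ≫ (f ⁻¹ᵁ U).ι = pullback.fst f h := hright.lift_snd _ _ _
  have hleft : IsPullback k (pullback.snd f h) (f ∣_ U) h' := by
    refine IsPullback.of_right ?_ hk1 hright.flip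
    rw [hk2]
    exact hbig
  haveI : CompactSpace ↥(f ⁻¹ᵁ U : Scheme.{u}) :=
    (quasiCompact_iff_compactSpace (f ∣_ U)).mp inferInstance
  haveI : QuasiSeparatedSpace ↥(f ⁻¹ᵁ U : Scheme.{u}) :=
    (quasiSeparated_iff_quasiSeparatedSpace (f ∣_ U)).mp inferInstance
  have hpo := Groth.Agent.Lib.Helper12.isPushout_appTop hleft
  haveI : IsIso (f ∣_ U).appTop := by
    rw [morphismRestrict_appTop]
    have e : U.ι ''ᵁ ⊤ = U := by simp
    haveI h1 : IsIso (f.app (U.ι ''ᵁ ⊤)) := by
      rw [e]
      exact hfU
    haveI h2 : IsIso (X.presheaf.map (eqToHom (image_morphismRestrict_preimage f U ⊤)).op) :=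
      inferInstance
    exact @IsIso.comp_isIso _ _ _ _ _ _ _ h1 h2
  exact hpo.isIso_inr_of_isIso


include hU hfU hhU in
/-- **Zariski connectedness, complete local form**: the fibre of `f` over the closed point of a
flat complete local `Spec C → Y` is connected. -/
theorem connectedSpace_pullback_residue :
    ConnectedSpace ↥(pullback f
      (Spec.map (CommRingCat.ofHom (Ideal.Quotient.mk (IsLocalRing.maximalIdeal C))) ≫ h)) := by
  haveI hiso := isIso_appTop_snd f C h U hU hfU hhU
  let e₁ : Γ(Spec (CommRingCat.of C), ⊤) ≃+* Γ(pullback f h, ⊤) :=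
    (asIso (pullback.snd f h).appTop).commRingCatIsoToRingEquiv
  let e₂ : Γ(Spec (CommRingCat.of C), ⊤) ≃+* C :=
    (Scheme.ΓSpecIso (CommRingCat.of C)).commRingCatIsoToRingEquiv
  haveI : IsLocalRing Γ(pullback f h, ⊤) := (e₂.symm.trans e₁).isLocalRing
  haveI : ConnectedSpace ↥(pullback f h) := by
    rw [connectedSpace_iff_trivIdem]
    exact ⟨nonempty_of_nontrivial _, trivIdem_of_isLocalRing _⟩
  have hb := Groth.Agent.Lib.H9ZarConn.main C (IsLocalRing.maximalIdeal C) (pullback.snd f h)
  haveI := connectedSpace_of_bijective_connectedComponentsMap _ _ hb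
  rw [← (pullbackLeftPullbackSndIso f h
    (Spec.map (CommRingCat.ofHom (Ideal.Quotient.mk (IsLocalRing.maximalIdeal C))))).hom.homeomorph.connectedSpace_iff]
  infer_instance

end P

end Groth.Agent.Lib.H9ZarLocalA
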