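import Mathlib
import Groth.Agent.Lib.Helper19ComplNoeth
import Groth.Agent.Lib.H9ZarLocalA

/-! helper9: `flat_fromSpecStalk`, `connectedSpace_pullback_of_surjective`, `surjective_specMap_field`, `connectedSpace_pullback_of_local` (fibre over the residue field of any flat Noetherian local O_{Y,y}-algebra is connected), `connectedSpace_fiber` (Zariski: f proper, Y loc. Noetherian, f_*O_X=O_Y on affine opens ⇒ fibres connected). -/

set_option autoImplicit false
universe u

namespace Groth.Agent.Lib.H9ZarLocal

open CategoryTheory CategoryTheory.Limits AlgebraicGeometry TopologicalSpace Opposite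
open Groth.Agent.Lib.H9ZarLocalA

theorem flat_fromSpecStalk (X : Scheme.{u}) (x : X) : Flat (X.fromSpecStalk x) := by
  obtain ⟨_, ⟨U, hU, rfl⟩, hxU, -⟩ :=
    X.isBasis_affineOpens.exists_subset_of_mem_open (Set.mem_univ x) isOpen_univ
  rw [← hU.fromSpecStalk_eq_fromSpecStalk hxU]
  unfold IsAffineOpen.fromSpecStalk
  have : Flat (Spec.map (X.presheaf.germ U x hxU)) := by
    rw [Flat.SpecMap_iff]
    let _ := TopCat.Presheaf.algebra_section_stalk X.presheaf (⟨x, hxU⟩ : U)
    have := hU.isLocalization_stalk ⟨x, hxU⟩
    exact IsLocalization.flat (X.presheaf.stalk x) (hU.primeIdealOf ⟨x, hxU⟩).asIdeal.primeCompl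
  infer_instance

/-- connectedness descends along a surjective change of the test point -/
theorem connectedSpace_pullback_of_surjective {X Y Z Z' : Scheme.{u}} (f : X ⟶ Y) (y : Z ⟶ Y)
    (g : Z' ⟶ Z) [Surjective g] [ConnectedSpace ↥(pullback f (g ≫ y))] :
    ConnectedSpace ↥(pullback f y) := by
  let φ : pullback f (g ≫ y) ⟶ pullback f y :=
    (pullbackLeftPullbackSndIso f y g).inv ≫ pullback.fst (pullback.snd f y) g
  have hs : Function.Surjective φ.base := by
    have h1 : Function.Surjective (pullback.fst (pullback.snd f y) g).base :=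
      (pullback.fst (pullback.snd f y) g).surjective
    have h2 : Function.Surjective (pullbackLeftPullbackSndIso f y g).inv.base :=
      (pullbackLeftPullbackSndIso f y g).inv.surjective
    rw [Scheme.Hom.comp_base]
    exact h1.comp h2
  exact hs.connectedSpace φ.continuous

instance surjective_specMap_field {K L : Type u} [Field K] [Field L] (ρ : K →+* L) :
    Surjective (Spec.map (CommRingCat.ofHom ρ)) := by
  constructor
  intro x
  haveI : Unique (PrimeSpectrum K) := inferInstance
  haveI : Unique (PrimeSpectrum L) := inferInstance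
  exact ⟨(default : PrimeSpectrum L), Subsingleton.elim (α := PrimeSpectrum K) _ _⟩


section fibre

variable {X Y : Scheme.{u}} (f : X ⟶ Y) [IsProper f] [IsLocallyNoetherian Y]
  (hf : ∀ U : Y.Opens, IsAffineOpen U → IsIso (f.app U))

include hf in
/-- the general step: for a local flat `A`-algebra `B` (`A = O_{Y,y}`) which is Noetherian local,
the fibre of `f` over the residue field of the completion of `B` is connected. -/
theorem connectedSpace_pullback_of_local (y : Y) (B : Type u) [CommRing B] [IsLocalRing B]
    [IsNoetherianRing B] (φ : Y.presheaf.stalk y →+* B) (hφ : φ.Flat) :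
    ConnectedSpace ↥(pullback f
      (Spec.map (CommRingCat.ofHom (IsLocalRing.residue B)) ≫ Spec.map (CommRingCat.ofHom φ) ≫
        Y.fromSpecStalk y)) := by
  let C := AdicCompletion (IsLocalRing.maximalIdeal B) B
  haveI : IsNoetherianRing C :=
    Groth.Agent.Lib.Helper19.isNoetherianRing_adicCompletion (IsLocalRing.maximalIdeal B)
  haveI := flat_fromSpecStalk Y y
  haveI : Flat (Spec.map (CommRingCat.ofHom φ)) := by
    rw [Flat.SpecMap_iff]
    exact hφ
  haveI : Flat (Spec.map (CommRingCat.ofHom (algebraMap B C))) := by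
    rw [Flat.SpecMap_iff]
    change (algebraMap B C).Flat
    rw [RingHom.flat_algebraMap_iff]
    infer_instance
  let h : Spec (CommRingCat.of C) ⟶ Y :=
    Spec.map (CommRingCat.ofHom (algebraMap B C)) ≫ Spec.map (CommRingCat.ofHom φ) ≫
      Y.fromSpecStalk y
  haveI : Flat h := inferInstance
  obtain ⟨_, ⟨U, hU, rfl⟩, hyU, -⟩ :=
    Y.isBasis_affineOpens.exists_subset_of_mem_open (Set.mem_univ y) isOpen_univ
  have hhU : Set.range h.base ⊆ U := by
    rintro _ ⟨z, rfl⟩
    have h1 : h.base z ∈ Set.range (Y.fromSpecStalk y).base := by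
      refine ⟨(Spec.map (CommRingCat.ofHom φ)).base
        ((Spec.map (CommRingCat.ofHom (algebraMap B C))).base z), ?_⟩
      rfl
    rw [Scheme.range_fromSpecStalk] at h1
    exact h1.mem_open U.2 hyU
  haveI := connectedSpace_pullback_residue f C h U hU (hf U hU) hhU
  -- compare residue fields
  let ρ : IsLocalRing.ResidueField B →+* C ⧸ IsLocalRing.maximalIdeal C :=
    IsLocalRing.ResidueField.map (algebraMap B C)
  have hcomp : Spec.map (CommRingCat.ofHom (Ideal.Quotient.mk (IsLocalRing.maximalIdeal C))) ≫ h =
      Spec.map (CommRingCat.ofHom ρ) ≫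
        (Spec.map (CommRingCat.ofHom (IsLocalRing.residue B)) ≫ Spec.map (CommRingCat.ofHom φ) ≫
          Y.fromSpecStalk y) := by
    simp only [h, ← Category.assoc, ← Spec.map_comp]
    rfl
  rw [hcomp] at this
  exact connectedSpace_pullback_of_surjective f _ (Spec.map (CommRingCat.ofHom ρ))

include hf in
/-- **Zariski's connectedness theorem** (connected fibres) -/
theorem connectedSpace_fiber (y : Y) : ConnectedSpace ↥(f.fiber y) := by
  have := connectedSpace_pullback_of_local f hf y (Y.presheaf.stalk y) (RingHom.id _)
    (RingHom.Flat.id _)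
  have e : Spec.map (CommRingCat.ofHom (RingHom.id (Y.presheaf.stalk y))) = 𝟙 _ := by
    exact Spec.map_id _
  rw [e, Category.id_comp] at this
  exact this

end fibre

end Groth.Agent.Lib.H9ZarLocal
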