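import Mathlib
import Groth.Agent.Lib.H9ZarLocal

/-! helper9: `connectedSpace_fiber_of_nhd` — Zariski connectedness needing `IsIso (f.app U)` for a single affine open neighbourhood `U` of `y` only. -/

set_option autoImplicit false
universe u

namespace Groth.Agent.Lib.H9ZarLocalU

open CategoryTheory CategoryTheory.Limits AlgebraicGeometry TopologicalSpace Opposite
open Groth.Agent.Lib.H9ZarLocalA Groth.Agent.Lib.H9ZarLocal

section fibre

variable {X Y : Scheme.{u}} (f : X ⟶ Y) [IsProper f] [IsLocallyNoetherian Y]

/-- the general step with a single affine neighbourhood `U` of `y` over which `f_* O = O`. -/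
theorem connectedSpace_pullback_of_local_of_nhd (y : Y) (U : Y.Opens) (hU : IsAffineOpen U)
    (hyU : y ∈ U) (hfU : IsIso (f.app U)) (B : Type u) [CommRing B] [IsLocalRing B]
    [IsNoetherianRing B] (φ : Y.presheaf.stalk y →+* B) (hφ : φ.Flat) :
    ConnectedSpace ↥(pullback f
      (Spec.map (CommRingCat.ofHom (IsLocalRing.residue B)) ≫ Spec.map (CommRingCat.ofHom φ) ≫
        Y.fromSpecStalk y)) := by
  let C := AdicCompletion (IsLocalRing.maximalIdeal B) B
  haveI : IsNoetherianRing C :=
    Groth.Agent.Lib.Helper19.isNoetherianRing_adicCompletion (IsLocalRing.maximalIdeal B)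
  haveI := flat_fromSpecStalk Y y
  haveI : Flat (Spec.map (CommRingCat.ofHom φ)) := by
    rw [Flat.SpecMap_iff]
    exact hφ
  haveI : Flat (Spec.map (CommRingCat.ofHom (algebraMap B C))) := by
    rw [Flat.SpecMap_iff]
    change (algebraMap B C).Flat
    rw [RingHom.flat_algebraMap_iff]
    infer_instance
  let h : Spec (CommRingCat.of C) ⟶ Y :=
    Spec.map (CommRingCat.ofHom (algebraMap B C)) ≫ Spec.map (CommRingCat.ofHom φ) ≫
      Y.fromSpecStalk y
  haveI : Flat h := inferInstance
  have hhU : Set.range h.base ⊆ U := by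
    rintro _ ⟨z, rfl⟩
    have h1 : h.base z ∈ Set.range (Y.fromSpecStalk y).base := by
      refine ⟨(Spec.map (CommRingCat.ofHom φ)).base
        ((Spec.map (CommRingCat.ofHom (algebraMap B C))).base z), ?_⟩
      rfl
    rw [Scheme.range_fromSpecStalk] at h1
    exact h1.mem_open U.2 hyU
  haveI := connectedSpace_pullback_residue f C h U hU hfU hhU
  -- compare residue fields
  let ρ : IsLocalRing.ResidueField B →+* C ⧸ IsLocalRing.maximalIdeal C :=
    IsLocalRing.ResidueField.map (algebraMap B C)
  have hcomp : Spec.map (CommRingCat.ofHom (Ideal.Quotient.mk (IsLocalRing.maximalIdeal C))) ≫ h =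
      Spec.map (CommRingCat.ofHom ρ) ≫
        (Spec.map (CommRingCat.ofHom (IsLocalRing.residue B)) ≫ Spec.map (CommRingCat.ofHom φ) ≫
          Y.fromSpecStalk y) := by
    simp only [h, ← Category.assoc, ← Spec.map_comp]
    rfl
  rw [hcomp] at this
  exact connectedSpace_pullback_of_surjective f _ (Spec.map (CommRingCat.ofHom ρ))

/-- **Zariski's connectedness theorem** (connected fibres), one-neighbourhood form -/
theorem connectedSpace_fiber_of_nhd (y : Y) (U : Y.Opens) (hU : IsAffineOpen U)
    (hyU : y ∈ U) (hfU : IsIso (f.app U)) : ConnectedSpace ↥(f.fiber y) := by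
  have := connectedSpace_pullback_of_local_of_nhd f y U hU hyU hfU (Y.presheaf.stalk y)
    (RingHom.id _) (RingHom.Flat.id _)
  have e : Spec.map (CommRingCat.ofHom (RingHom.id (Y.presheaf.stalk y))) = 𝟙 _ := by
    exact Spec.map_id _
  rw [e, Category.id_comp] at this
  exact this

end fibre

end Groth.Agent.Lib.H9ZarLocalU
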