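import Mathlib
import Groth.Agent.Lib.H9NormFin
import Groth.Agent.Lib.H9ZarLocalU
import Groth.Prelude.Def_ega3

/-! helper9: Stein factorisation of a proper `f : X ⟶ Y`, `Y` loc. Noetherian, via `f.normalization`: `isFinite_fromNormalization`, `isLocallyNoetherian_normalization`, `isProper_toNormalization`, `isIso_toNormalization_app`, `connectedSpace_fiber_toNormalization`, `surjective_toNormalization`, `main` (= S4463: components of fibres ↔ points of the finite fibre of `Y'`). -/

set_option autoImplicit false
universe u

namespace Groth.Agent.Lib.H9SteinFib

open CategoryTheory CategoryTheory.Limits AlgebraicGeometry TopologicalSpace Opposite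

variable {X Y : Scheme.{u}} (f : X ⟶ Y) [IsProper f] [IsLocallyNoetherian Y]

theorem isFinite_fromNormalization : IsFinite f.fromNormalization :=
  Groth.Agent.Lib.H9NormFin.main f

theorem isLocallyNoetherian_normalization : IsLocallyNoetherian f.normalization := by
  haveI := isFinite_fromNormalization f
  exact LocallyOfFiniteType.isLocallyNoetherian f.fromNormalization

theorem isProper_toNormalization : IsProper f.toNormalization := by
  haveI := isFinite_fromNormalization f
  have h : IsProper (f.toNormalization ≫ f.fromNormalization) := by
    rw [Scheme.Hom.toNormalization_fromNormalization]; infer_instance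
  exact IsProper.of_comp f.toNormalization f.fromNormalization

theorem isIso_toNormalization_app (U : Y.Opens) (hU : IsAffineOpen U) :
    IsIso (f.toNormalization.app (f.fromNormalization ⁻¹ᵁ U)) := by
  have key := f.toNormalization_app_preimage ⟨U, hU⟩
  dsimp only at key
  rw [key]
  letI := (f.app U).hom.toAlgebra
  have hfin : (f.app U).hom.Finite := Groth.Agent.Lib.H9NormFin.finite_app_of_isProper f ⟨U, hU⟩
  haveI : Module.Finite Γ(Y, U) Γ(X, f ⁻¹ᵁ U) := hfin
  haveI : Algebra.IsIntegral Γ(Y, U) Γ(X, f ⁻¹ᵁ U) := inferInstance
  have htop : integralClosure Γ(Y, U) Γ(X, f ⁻¹ᵁ U) = ⊤ :=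
    integralClosure_eq_top_iff.mpr inferInstance
  have h2 : IsIso (CommRingCat.ofHom (integralClosure Γ(Y, U) Γ(X, f ⁻¹ᵁ U)).val.toRingHom) := by
    rw [ConcreteCategory.isIso_iff_bijective]
    refine ⟨Subtype.val_injective, fun t => ⟨⟨t, ?_⟩, rfl⟩⟩
    rw [htop]; trivial
  refine @IsIso.comp_isIso _ _ _ _ _ _ _ inferInstance ?_
  exact @IsIso.comp_isIso _ _ _ _ _ _ _ h2 inferInstance


/-- fibres of the first Stein factor are connected -/
theorem connectedSpace_fiber_toNormalization (y' : f.normalization) :
    ConnectedSpace ↥(f.toNormalization.fiber y') := by
  haveI := isProper_toNormalization f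
  haveI := isLocallyNoetherian_normalization f
  haveI := isFinite_fromNormalization f
  obtain ⟨_, ⟨U, hU, rfl⟩, hyU, -⟩ :=
    Y.isBasis_affineOpens.exists_subset_of_mem_open (Set.mem_univ (f.fromNormalization.base y'))
      isOpen_univ
  exact Groth.Agent.Lib.H9ZarLocalU.connectedSpace_fiber_of_nhd f.toNormalization y'
    (f.fromNormalization ⁻¹ᵁ U) (hU.preimage f.fromNormalization) hyU
    (isIso_toNormalization_app f U hU)

theorem surjective_toNormalization : Function.Surjective f.toNormalization.base := by
  haveI := isProper_toNormalization f
  have hcl : IsClosedMap f.toNormalization.base := f.toNormalization.isClosedMap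
  have hd : DenseRange f.toNormalization.base := f.toNormalization.denseRange
  have h1 : IsClosed (Set.range f.toNormalization.base) := hcl.isClosed_range
  rw [← Set.range_eq_univ, ← h1.closure_eq]
  exact hd.closure_range


/-- the fibre map of Stein factorisation -/
noncomputable abbrev φ (y : Y) : f.fiber y ⟶ f.fromNormalization.fiber y :=
  CohIII.fiberMapOver f.toNormalization f f.fromNormalization
    f.toNormalization_fromNormalization y

theorem φ_fiberι (y : Y) :
    φ f y ≫ f.fromNormalization.fiberι y = f.fiberι y ≫ f.toNormalization := by
  exact pullback.lift_fst _ _ _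

theorem φ_fiberι_apply (y : Y) (x : ↥(f.fiber y)) :
    (f.fromNormalization.fiberι y).base ((φ f y).base x) =
      f.toNormalization.base ((f.fiberι y).base x) := by
  have := congrArg (fun g => g.base x) (φ_fiberι f y)
  simpa using this

theorem main (y : Y) :
    Finite ↥(f.fromNormalization.fiber y) ∧
    Function.Surjective (φ f y).base ∧
    ∀ x x' : ↥(f.fiber y),
      (φ f y).base x = (φ f y).base x' ↔ connectedComponent x = connectedComponent x' := by
  haveI := isFinite_fromNormalization f
  haveI : IsArtinianScheme (f.fromNormalization.fiber y) := inferInstance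
  have hinj : Function.Injective (f.fromNormalization.fiberι y).base :=
    (f.fromNormalization.fiberι y).isEmbedding.injective
  have hinjX : Function.Injective (f.fiberι y).base := (f.fiberι y).isEmbedding.injective
  -- points of the fibre of `g` lie over `y`
  have hover : ∀ z : ↥(f.fromNormalization.fiber y),
      f.fromNormalization.base ((f.fromNormalization.fiberι y).base z) = y := by
    intro z
    have : (f.fromNormalization.fiberι y).base z ∈ Set.range (f.fromNormalization.fiberι y).base :=
      ⟨z, rfl⟩
    rw [Scheme.Hom.range_fiberι] at this
    exact this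
  -- lifting points of `X` over a point of the fibre of `g`
  have hlift : ∀ (z : ↥(f.fromNormalization.fiber y)) (x0 : X),
      f.toNormalization.base x0 = (f.fromNormalization.fiberι y).base z →
      ∃ x : ↥(f.fiber y), (f.fiberι y).base x = x0 ∧ (φ f y).base x = z := by
    intro z x0 hx0
    have hfx0 : f.base x0 = y := by
      have h1 : f.base x0 = f.fromNormalization.base (f.toNormalization.base x0) := by
        conv_lhs => rw [← f.toNormalization_fromNormalization]
        rfl
      rw [h1, hx0, hover]
    have hx0r : x0 ∈ Set.range (f.fiberι y).base := by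
      rw [Scheme.Hom.range_fiberι]; exact hfx0
    obtain ⟨x, rfl⟩ := hx0r
    refine ⟨x, rfl, hinj ?_⟩
    rw [φ_fiberι_apply, hx0]
  refine ⟨inferInstance, ?_, ?_⟩
  · intro z
    obtain ⟨x0, hx0⟩ := surjective_toNormalization f ((f.fromNormalization.fiberι y).base z)
    obtain ⟨x, -, hx⟩ := hlift z x0 hx0
    exact ⟨x, hx⟩
  · intro x x'
    constructor
    · intro hxx'
      -- the fibre of `φ` through `x` is preconnected
      set z := (φ f y).base x with hz
      set y' := (f.fromNormalization.fiberι y).base z with hy'
      let S : Set ↥(f.fiber y) := (φ f y).base ⁻¹' {z}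
      have himg : (f.fiberι y).base '' S = Set.range (f.toNormalization.fiberι y').base := by
        rw [Scheme.Hom.range_fiberι]
        ext x0
        constructor
        · rintro ⟨a, ha, rfl⟩
          change f.toNormalization.base ((f.fiberι y).base a) = y'
          rw [← φ_fiberι_apply, hy']
          congr 1
        · intro hx0
          obtain ⟨a, ha, haz⟩ := hlift z x0 hx0
          exact ⟨a, haz, ha⟩
      haveI := connectedSpace_fiber_toNormalization f y'
      have hpre : _root_.IsPreconnected ((f.fiberι y).base '' S) := by
        rw [himg]
        exact isPreconnected_range (f.toNormalization.fiberι y').continuous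
      have hS : _root_.IsPreconnected S :=
        (f.fiberι y).isEmbedding.isInducing.isPreconnected_image.mp hpre
      have hxS : x ∈ S := rfl
      have hx'S : x' ∈ S := hxx'.symm
      have h1 := hS.subset_connectedComponent hxS hx'S
      exact connectedComponent_eq h1
    · intro hcc
      haveI : DiscreteTopology ↥(f.fromNormalization.fiber y) := inferInstance
      have h1 : (φ f y).base x' ∈ (φ f y).base '' connectedComponent x := by
        refine ⟨x', ?_, rfl⟩
        rw [hcc]; exact mem_connectedComponent
      have h2 := (φ f y).continuous.image_connectedComponent_subset x h1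
      rw [connectedComponent_eq_singleton] at h2
      exact h2.symm

end Groth.Agent.Lib.H9SteinFib
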