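import Mathlib
import Groth.Agent.Lib.H9SteinFib
import Groth.Agent.Lib.H9CardAlg

/-! helper9: `β` (Γ(Y', g⁻¹W) → K(X)), `exists_maximal` (points of the Stein factor `Y'` over `y` come from maximal ideals of the integral closure of `O_{Y,y}` in `K(X)`), `main` (= S2421: #π₀(X_y) ≤ #MaxSpec of that integral closure). -/

set_option autoImplicit false
universe u

namespace Groth.Agent.Lib.H9CardFib

open CategoryTheory CategoryTheory.Limits AlgebraicGeometry TopologicalSpace Opposite
open Groth.Agent.Lib.H9SteinFib Groth.Agent.Lib.H9CardAlg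

variable {X Y : Scheme.{u}} [IsIntegral X] (f : X ⟶ Y) [IsProper f] [IsLocallyNoetherian Y]

section setup

variable (y : Y) (h : f.base (genericPoint X) ⤳ y) (W : Y.Opens) (hW : IsAffineOpen W)
  (hyW : y ∈ W)

include h hyW in
theorem gen_mem : genericPoint X ∈ f.toNormalization ⁻¹ᵁ (f.fromNormalization ⁻¹ᵁ W) := by
  change f.fromNormalization.base (f.toNormalization.base (genericPoint X)) ∈ W
  have : f.fromNormalization.base (f.toNormalization.base (genericPoint X)) =
      f.base (genericPoint X) := by
    conv_rhs => rw [← f.toNormalization_fromNormalization]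
    rfl
  rw [this]
  exact h.mem_open W.2 hyW

/-- `Γ(Y', g⁻¹W) → K(X)` -/
noncomputable def β : Γ(f.normalization, f.fromNormalization ⁻¹ᵁ W) →+* X.functionField :=
  (X.presheaf.germ _ (genericPoint X) (gen_mem f y h W hyW)).hom.comp
    (f.toNormalization.app (f.fromNormalization ⁻¹ᵁ W)).hom

include hW in
theorem β_injective : Function.Injective (β f y h W hyW) := by
  haveI := isIso_toNormalization_app f W hW
  have h1 : Function.Injective (f.toNormalization.app (f.fromNormalization ⁻¹ᵁ W)).hom :=
    ((ConcreteCategory.isIso_iff_bijective _).mp inferInstance).1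
  have h2 : Function.Injective
      (X.presheaf.germ _ (genericPoint X) (gen_mem f y h W hyW)).hom :=
    germ_injective_of_isIntegral X (genericPoint X) _
  exact h2.comp h1

theorem β_comm :
    letI := TopCat.Presheaf.algebra_section_stalk Y.presheaf (⟨y, hyW⟩ : W)
    (β f y h W hyW).comp (f.fromNormalization.app W).hom =
      (CohIII.stalkToFunctionField f y h).comp
        (algebraMap Γ(Y, W) (Y.presheaf.stalk y)) := by
  letI := TopCat.Presheaf.algebra_section_stalk Y.presheaf (⟨y, hyW⟩ : W)
  ext a
  have hfW : f.base (genericPoint X) ∈ W := h.mem_open W.2 hyW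
  change (X.presheaf.germ _ (genericPoint X) _).hom
      ((f.toNormalization.app (f.fromNormalization ⁻¹ᵁ W)).hom
        ((f.fromNormalization.app W).hom a)) =
    (f.stalkMap (genericPoint X)).hom ((Y.presheaf.stalkSpecializes h).hom
      ((Y.presheaf.germ W y hyW).hom a))
  have e1 : (Y.presheaf.stalkSpecializes h).hom ((Y.presheaf.germ W y hyW).hom a) =
      (Y.presheaf.germ W (f.base (genericPoint X)) hfW).hom a :=
    TopCat.Presheaf.germ_stalkSpecializes_apply _ _ _ _
  rw [e1]
  have e2 := Scheme.Hom.germ_stalkMap_apply f W (genericPoint X) hfW a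
  rw [e2]
  have e3 := Scheme.Hom.congr_app f.toNormalization_fromNormalization W
  rw [Scheme.Hom.comp_app] at e3
  have e4 : (f.toNormalization.app (f.fromNormalization ⁻¹ᵁ W)).hom
      ((f.fromNormalization.app W).hom a) = _ := congrArg (fun φ => φ.hom a) e3
  rw [e4]
  exact TopCat.Presheaf.germ_res_apply _ _ _ _ _


include hW in
/-- every point of `Y'` over `y` comes from a maximal ideal of the integral closure -/
theorem exists_maximal (y' : f.normalization) (hy' : f.fromNormalization.base y' = y) :
    ∃ 𝔫 : Ideal (CohIII.integralClosureStalk f y h), 𝔫.IsMaximal ∧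
      ∀ b : Γ(f.normalization, f.fromNormalization ⁻¹ᵁ W),
        b ∈ ((hW.preimage f.fromNormalization).primeIdealOf
          ⟨y', show y' ∈ f.fromNormalization ⁻¹ᵁ W from by
            change f.fromNormalization.base y' ∈ W; rw [hy']; exact hyW⟩).asIdeal ↔
        ∃ c : CohIII.integralClosureStalk f y h, c ∈ 𝔫 ∧ (c : X.functionField) = β f y h W hyW b := by
  haveI := isFinite_fromNormalization f
  letI := TopCat.Presheaf.algebra_section_stalk Y.presheaf (⟨y, hyW⟩ : W)
  haveI : IsLocalization.AtPrime (Y.presheaf.stalk y) (hW.primeIdealOf ⟨y, hyW⟩).asIdeal :=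
    hW.isLocalization_stalk ⟨y, hyW⟩
  have hy'V : y' ∈ f.fromNormalization ⁻¹ᵁ W := by
    change f.fromNormalization.base y' ∈ W; rw [hy']; exact hyW
  have hψ : (f.fromNormalization.app W).hom.IsIntegral :=
    f.fromNormalization.isIntegral_app W hW
  have hq : ((hW.preimage f.fromNormalization).primeIdealOf ⟨y', hy'V⟩).asIdeal.comap
      (f.fromNormalization.app W).hom = (hW.primeIdealOf ⟨y, hyW⟩).asIdeal := by
    have h1 := IsAffineOpen.comap_primeIdealOf_appLE (f := f.fromNormalization) W hW
      (f.fromNormalization ⁻¹ᵁ W) (hW.preimage f.fromNormalization) le_rfl hy'V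
    have h2 : hW.primeIdealOf ⟨f.fromNormalization.base y', hy'V⟩ = hW.primeIdealOf ⟨y, hyW⟩ := by
      congr 1
      exact Subtype.ext hy'
    rw [← h2, ← h1, PrimeSpectrum.comap_asIdeal, Scheme.Hom.appLE]
    have : f.fromNormalization.app W ≫
        f.normalization.presheaf.map (homOfLE (le_refl (f.fromNormalization ⁻¹ᵁ W))).op =
        f.fromNormalization.app W := by
      rw [show (homOfLE (le_refl (f.fromNormalization ⁻¹ᵁ W))) = 𝟙 _ from rfl, op_id,
        CategoryTheory.Functor.map_id, Category.comp_id]
    rw [this]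
  obtain ⟨𝔫, h𝔫m, h𝔫c⟩ := exists_maximal_over (hW.primeIdealOf ⟨y, hyW⟩).asIdeal
    (f.fromNormalization.app W).hom (CohIII.stalkToFunctionField f y h) (β f y h W hyW)
    hψ (β_comm f y h W hyW) (β_injective f y h W hW hyW)
    ((hW.preimage f.fromNormalization).primeIdealOf ⟨y', hy'V⟩).asIdeal hq
  refine ⟨𝔫, h𝔫m, fun b => ?_⟩
  rw [← h𝔫c]
  constructor
  · intro hb
    exact ⟨_, hb, rfl⟩
  · rintro ⟨c, hc, hcb⟩
    have : c = βC (f.fromNormalization.app W).hom (CohIII.stalkToFunctionField f y h)
        (β f y h W hyW) hψ (β_comm f y h W hyW) b := Subtype.ext hcb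
    rw [Ideal.mem_comap, ← this]
    exact hc

end setup


/-- **S2421** -/
theorem main (y : Y) (h : f.base (genericPoint X) ⤳ y) :
    Cardinal.mk (_root_.ConnectedComponents (f.fiber y)) ≤
      Cardinal.mk (MaximalSpectrum (CohIII.integralClosureStalk f y h)) := by
  haveI := isFinite_fromNormalization f
  haveI : IsArtinianScheme (f.fromNormalization.fiber y) := inferInstance
  haveI : DiscreteTopology ↥(f.fromNormalization.fiber y) := inferInstance
  obtain ⟨-, -, hcc⟩ := Groth.Agent.Lib.H9SteinFib.main f y
  -- first injection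
  let ι₁ : _root_.ConnectedComponents (f.fiber y) → ↥(f.fromNormalization.fiber y) :=
    (φ f y).continuous.connectedComponentsLift
  have hι₁ : Function.Injective ι₁ := by
    intro c₁ c₂ hc
    obtain ⟨x₁, rfl⟩ := ConnectedComponents.surjective_coe c₁
    obtain ⟨x₂, rfl⟩ := ConnectedComponents.surjective_coe c₂
    have h1 : (φ f y).base x₁ = (φ f y).base x₂ := by
      have e1 := (φ f y).continuous.connectedComponentsLift_apply_coe x₁
      have e2 := (φ f y).continuous.connectedComponentsLift_apply_coe x₂
      exact e1.symm.trans (hc.trans e2)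
    exact ConnectedComponents.coe_eq_coe.mpr ((hcc x₁ x₂).mp h1)
  -- second injection
  obtain ⟨_, ⟨W, hW, rfl⟩, hyW, -⟩ :=
    Y.isBasis_affineOpens.exists_subset_of_mem_open (Set.mem_univ y) isOpen_univ
  have hyW : y ∈ W := hyW
  have hover : ∀ z : ↥(f.fromNormalization.fiber y),
      f.fromNormalization.base ((f.fromNormalization.fiberι y).base z) = y := by
    intro z
    have : (f.fromNormalization.fiberι y).base z ∈ Set.range (f.fromNormalization.fiberι y).base :=
      ⟨z, rfl⟩
    rw [Scheme.Hom.range_fiberι] at this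
    exact this
  choose 𝔫 h𝔫m h𝔫 using fun z : ↥(f.fromNormalization.fiber y) =>
    exists_maximal f y h W hW hyW ((f.fromNormalization.fiberι y).base z) (hover z)
  let ι₂ : ↥(f.fromNormalization.fiber y) → MaximalSpectrum (CohIII.integralClosureStalk f y h) :=
    fun z => ⟨𝔫 z, h𝔫m z⟩
  have hι₂ : Function.Injective ι₂ := by
    intro z₁ z₂ hz
    have hn : 𝔫 z₁ = 𝔫 z₂ := congrArg MaximalSpectrum.asIdeal hz
    have hV := hW.preimage f.fromNormalization
    have hmem : ∀ z : ↥(f.fromNormalization.fiber y),
        (f.fromNormalization.fiberι y).base z ∈ f.fromNormalization ⁻¹ᵁ W := by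
      intro z
      change f.fromNormalization.base _ ∈ W
      rw [hover]; exact hyW
    have hq : hV.primeIdealOf ⟨(f.fromNormalization.fiberι y).base z₁, hmem z₁⟩ =
        hV.primeIdealOf ⟨(f.fromNormalization.fiberι y).base z₂, hmem z₂⟩ := by
      apply PrimeSpectrum.ext
      ext b
      rw [h𝔫 z₁ b, h𝔫 z₂ b, hn]
    have h1 := hV.fromSpec_primeIdealOf ⟨(f.fromNormalization.fiberι y).base z₁, hmem z₁⟩
    have h2 := hV.fromSpec_primeIdealOf ⟨(f.fromNormalization.fiberι y).base z₂, hmem z₂⟩
    rw [hq] at h1
    have h3 : (f.fromNormalization.fiberι y).base z₁ = (f.fromNormalization.fiberι y).base z₂ :=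
      h1.symm.trans h2
    exact (f.fromNormalization.fiberι y).isEmbedding.injective h3
  exact (Cardinal.mk_le_of_injective hι₁).trans (Cardinal.mk_le_of_injective hι₂)

end Groth.Agent.Lib.H9CardFib
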