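import Mathlib
import Groth.Agent.Lib.H9CardAlg

/-! helper9 (Mathlib + H9CardAlg): `subsingleton_maximalSpectrum_C` — if the normalization of the domain `A` (as `integralClosure (A ⧸ nilradical A) (FractionRing _)`) is local and every element of the integral closure `C` of `A` in a field `L` has a positive power in `Frac A`, then `C` has at most one maximal ideal. -/

set_option autoImplicit false
universe u

namespace Groth.Agent.Lib.H9UniAlg

open Groth.Agent.Lib.H9CardAlg

variable {A L : Type u} [CommRing A] [IsDomain A] [Field L] (α : A →+* L)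

/-- if the integral closure `N` of `A_red` in its fraction field is local and every element of the
integral closure `C` of `A` in `L` has a power in `Frac A`, then `C` has at most one maximal
ideal. -/
theorem subsingleton_maximalSpectrum_C (hα : Function.Injective α)
    [IsDomain (A ⧸ nilradical A)]
    (hN : IsLocalRing (integralClosure (A ⧸ nilradical A) (FractionRing (A ⧸ nilradical A))))
    (hrad : ∀ c : L, α.IsIntegralElem c → ∃ (n : ℕ) (a b : A), 0 < n ∧ b ≠ 0 ∧ c ^ n * α b = α a) :
    Subsingleton (MaximalSpectrum (C α)) := by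
  classical
  let R := A ⧸ nilradical A
  let π : A →+* R := Ideal.Quotient.mk _
  have hnil : nilradical A = ⊥ := nilradical_eq_zero A
  have hπinj : Function.Injective π := by
    rw [RingHom.injective_iff_ker_eq_bot, Ideal.mk_ker, hnil]
  let αbar : R →+* L := Ideal.Quotient.lift (nilradical A) α (fun a ha => by
    rw [hnil] at ha
    rw [(Ideal.mem_bot.mp ha), map_zero])
  have hαbar : ∀ a, αbar (π a) = α a := fun a => Ideal.Quotient.lift_mk _ _ _
  have hαbarinj : Function.Injective αbar := by
    rw [injective_iff_map_eq_zero]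
    intro r hr
    obtain ⟨a, rfl⟩ := Ideal.Quotient.mk_surjective r
    have : α a = 0 := by rw [← hαbar]; exact hr
    have : a = 0 := hα (by rw [this, map_zero])
    rw [this, map_zero]
  let F := FractionRing R
  let Φ : F →+* L := IsFractionRing.lift hαbarinj
  have hΦ : ∀ r, Φ (algebraMap R F r) = αbar r := fun r => IsFractionRing.lift_algebraMap hαbarinj r
  have hΦinj : Function.Injective Φ := Φ.injective
  let N := integralClosure R F
  -- integrality transfer
  have hint : ∀ (t : F) (x : L), Φ t = x → (α.IsIntegralElem x ↔ IsIntegral R t) := by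
    intro t x htx
    constructor
    · rintro ⟨P, hP, hPx⟩
      refine ⟨P.map π, hP.map π, ?_⟩
      apply hΦinj
      rw [map_zero, Polynomial.hom_eval₂, Polynomial.eval₂_map, htx]
      have : (Φ.comp (algebraMap R F)).comp π = α := by
        ext a; change Φ (algebraMap R F (π a)) = α a; rw [hΦ, hαbar]
      rw [this]
      exact hPx
    · rintro ⟨P, hP, hPt⟩
      obtain ⟨P', hP'map, -, hP'monic⟩ :=
        Polynomial.lifts_and_degree_eq_and_monic
          ((Polynomial.mem_lifts P).mpr (Polynomial.map_surjective π Ideal.Quotient.mk_surjective P)) hP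
      refine ⟨P', hP'monic, ?_⟩
      have h1 := congrArg Φ hPt
      rw [map_zero, Polynomial.hom_eval₂, htx, ← hP'map, Polynomial.eval₂_map] at h1
      have : (Φ.comp (algebraMap R F)).comp π = α := by
        ext a; change Φ (algebraMap R F (π a)) = α a; rw [hΦ, hαbar]
      rw [this] at h1
      exact h1
  -- `N → C`
  let ΦN : N →+* C α := (Φ.comp N.val.toRingHom).codRestrict (C α) (fun n => by
    rw [mem_C]
    exact (hint n.1 _ rfl).mpr n.2)
  have hΦN : ∀ n : N, ((ΦN n : C α) : L) = Φ n.1 := fun n => rfl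
  -- every element of `C` has a power in the image of `N`
  have hpow : ∀ c : C α, ∃ (n : ℕ) (t : N), 0 < n ∧ ΦN t = c ^ n := by
    intro c
    obtain ⟨n, a, b, hn, hb, hab⟩ := hrad c.1 ((mem_C α c.1).mp c.2)
    have hπb : algebraMap R F (π b) ≠ 0 := by
      intro h0
      have : π b = 0 := (IsFractionRing.injective R F) (by rw [h0, map_zero])
      exact hb (hπinj (by rw [this, map_zero]))
    let t : F := algebraMap R F (π a) / algebraMap R F (π b)
    have hαb : α b ≠ 0 := fun h0 => hb (hα (by rw [h0, map_zero]))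
    have hΦt : Φ t = c.1 ^ n := by
      change Φ (algebraMap R F (π a) / algebraMap R F (π b)) = _
      rw [map_div₀, hΦ, hΦ, hαbar, hαbar, ← hab, mul_div_assoc, div_self hαb, mul_one]
    have htN : t ∈ N := by
      change IsIntegral R t
      rw [← hint t (c.1 ^ n) hΦt]
      have : (c ^ n : C α).1 ∈ C α := (c ^ n).2
      exact (mem_C α _).mp this
    refine ⟨n, ⟨t, htN⟩, hn, Subtype.ext ?_⟩
    rw [hΦN]
    exact hΦt
  -- `ΦN` is integral
  have hΦNint : ΦN.IsIntegral := by
    have hcomp : ΦN.comp ((algebraMap R N).comp π) = αC α := by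
      ext a
      change Φ (algebraMap R F (π a)) = α a
      rw [hΦ, hαbar]
    have : (ΦN.comp ((algebraMap R N).comp π)).IsIntegral := by
      rw [hcomp]; exact αC_isIntegral α
    exact RingHom.IsIntegral.tower_top _ _ this
  haveI := hN
  constructor
  intro 𝔫₁ 𝔫₂
  have key : ∀ (𝔪 𝔪' : MaximalSpectrum (C α)), 𝔪.asIdeal ≤ 𝔪'.asIdeal := by
    intro 𝔪 𝔪' c hc
    haveI := 𝔪.isMaximal
    haveI := 𝔪'.isMaximal
    have h1 : (𝔪.asIdeal.comap ΦN).IsMaximal :=
      Ideal.isMaximal_comap_of_isIntegral_of_isMaximal' ΦN hΦNint 𝔪.asIdeal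
    have h2 : (𝔪'.asIdeal.comap ΦN).IsMaximal :=
      Ideal.isMaximal_comap_of_isIntegral_of_isMaximal' ΦN hΦNint 𝔪'.asIdeal
    have e1 := IsLocalRing.eq_maximalIdeal h1
    have e2 := IsLocalRing.eq_maximalIdeal h2
    obtain ⟨n, t, hpos, ht⟩ := hpow c
    have h3 : t ∈ 𝔪.asIdeal.comap ΦN := by
      rw [Ideal.mem_comap, ht]
      exact Ideal.pow_mem_of_mem _ hc n hpos
    rw [e1, ← e2, Ideal.mem_comap, ht] at h3
    exact 𝔪'.isMaximal.isPrime.mem_of_pow_mem n h3
  exact MaximalSpectrum.ext (le_antisymm (key 𝔫₁ 𝔫₂) (key 𝔫₂ 𝔫₁))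

end Groth.Agent.Lib.H9UniAlg
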