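import Mathlib
import Groth.Agent.Lib.H9CardFib
import Groth.Agent.Lib.H9UniAlg
import Groth.Prelude.Def_CAlg2

/-! helper9: `stalkToFunctionField_comp`, `stalkToFunctionField_injective`, `mem_range_of_specializes`, `nonempty_fiber`, `connectedSpace_of_card_le_one`, `main` (= S4464: proper dominant, K(X)/K(Y) algebraic part purely inseparable, y unibranch ⇒ X_y connected). -/

set_option autoImplicit false
universe u

namespace Groth.Agent.Lib.H9UniFib

open CategoryTheory CategoryTheory.Limits AlgebraicGeometry TopologicalSpace Opposite
open Groth.Agent.Lib.H9CardAlg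

variable {X Y : Scheme.{u}} [IsIntegral X] [IsIntegral Y] (f : X ⟶ Y)

theorem stalkToFunctionField_comp (y : Y) (hdom : f.base (genericPoint X) ⤳ genericPoint Y) :
    CohIII.stalkToFunctionField f y (hdom.trans (genericPoint_specializes y)) =
      (CohIII.stalkToFunctionField f (genericPoint Y) hdom).comp
        (algebraMap (Y.presheaf.stalk y) Y.functionField) := by
  unfold CohIII.stalkToFunctionField
  rw [RingHom.comp_assoc]
  congr 1
  rw [RingHom.algebraMap_toAlgebra, ← CommRingCat.hom_comp]
  congr 1
  exact (TopCat.Presheaf.stalkSpecializes_comp _ _ _).symm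

theorem stalkToFunctionField_injective (y : Y)
    (hdom : f.base (genericPoint X) ⤳ genericPoint Y) :
    Function.Injective
      (CohIII.stalkToFunctionField f y (hdom.trans (genericPoint_specializes y))) := by
  rw [stalkToFunctionField_comp]
  have h1 : Function.Injective (algebraMap (Y.presheaf.stalk y) Y.functionField) :=
    IsFractionRing.injective _ _
  have h2 : Function.Injective (CohIII.stalkToFunctionField f (genericPoint Y) hdom) :=
    RingHom.injective (R := Y.functionField) _
  exact h2.comp h1


/-- a proper dominant morphism of integral schemes is surjective -/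
theorem mem_range_of_specializes [IsProper f] (y : Y) (h : f.base (genericPoint X) ⤳ y) :
    y ∈ Set.range f.base := by
  have hcl : IsClosed (Set.range f.base) := f.isClosedMap.isClosed_range
  exact h.mem_closed hcl ⟨_, rfl⟩

theorem nonempty_fiber [IsProper f] (y : Y) (h : f.base (genericPoint X) ⤳ y) :
    Nonempty ↥(f.fiber y) := by
  obtain ⟨x₀, hx₀⟩ := mem_range_of_specializes f y h
  have : x₀ ∈ Set.range (f.fiberι y).base := by
    rw [Scheme.Hom.range_fiberι]; exact hx₀
  obtain ⟨x, -⟩ := this
  exact ⟨x⟩

theorem connectedSpace_of_card_le_one {T : Type*} [TopologicalSpace T] [Nonempty T]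
    (h : Subsingleton (_root_.ConnectedComponents T)) : ConnectedSpace T := by
  haveI : PreconnectedSpace T := by
    rw [preconnectedSpace_iff_connectedComponent]
    intro x
    apply Set.eq_univ_of_forall
    intro x'
    have : (x' : _root_.ConnectedComponents T) = x := Subsingleton.elim _ _
    rw [ConnectedComponents.coe_eq_coe'] at this
    exact this
  exact ⟨inferInstance⟩

/-- **S4464** -/
theorem main [IsProper f] [IsLocallyNoetherian Y]
    (hdom : f.base (genericPoint X) ⤳ genericPoint Y)
    (hrad : ∀ x : X.functionField,
      (∃ q : Polynomial Y.functionField, q ≠ 0 ∧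
        Polynomial.eval₂ (CohIII.stalkToFunctionField f (genericPoint Y) hdom) x q = 0) →
      ∃ e : ℕ, x ^ (ringExpChar X.functionField ^ e) ∈
        Set.range (CohIII.stalkToFunctionField f (genericPoint Y) hdom))
    (y : Y) (hy : CAlg2.IsUnibranch (Y.presheaf.stalk y)) :
    ConnectedSpace ↥(f.fiber y) := by
  have h : f.base (genericPoint X) ⤳ y := hdom.trans (genericPoint_specializes y)
  haveI := nonempty_fiber f y h
  apply connectedSpace_of_card_le_one
  obtain ⟨hdomain, hloc⟩ := hy
  haveI : IsDomain (Y.presheaf.stalk y ⧸ nilradical (Y.presheaf.stalk y)) := hdomain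
  have hsub : Subsingleton (MaximalSpectrum (C (CohIII.stalkToFunctionField f y h))) := by
    refine Groth.Agent.Lib.H9UniAlg.subsingleton_maximalSpectrum_C
      (CohIII.stalkToFunctionField f y h) (stalkToFunctionField_injective f y hdom) hloc ?_
    intro c hc
    obtain ⟨P, hP, hPc⟩ := hc
    have hcomp := stalkToFunctionField_comp f y hdom
    obtain ⟨e, k, hk⟩ := hrad c ⟨P.map (algebraMap (Y.presheaf.stalk y) Y.functionField),
      (hP.map _).ne_zero, by
        rw [Polynomial.eval₂_map, ← hcomp]
        exact hPc⟩
    obtain ⟨a, b, hb, hab⟩ := IsFractionRing.div_surjective (A := Y.presheaf.stalk y) k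
    refine ⟨ringExpChar X.functionField ^ e, a, b, ?_, nonZeroDivisors.ne_zero hb, ?_⟩
    · apply pow_pos
      exact lt_of_lt_of_le Nat.one_pos (le_max_right _ _)
    · have hb' : algebraMap (Y.presheaf.stalk y) Y.functionField b ≠ 0 := by
        intro h0
        exact nonZeroDivisors.ne_zero hb
          ((IsFractionRing.injective (Y.presheaf.stalk y) Y.functionField) (by rw [h0, map_zero]))
      change c ^ _ * (CohIII.stalkToFunctionField f y (hdom.trans (genericPoint_specializes y))) b =
        (CohIII.stalkToFunctionField f y (hdom.trans (genericPoint_specializes y))) a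
      rw [hcomp, RingHom.comp_apply, RingHom.comp_apply, ← hk, ← map_mul, ← hab,
        div_mul_cancel₀ _ hb']
  have hle := Groth.Agent.Lib.H9CardFib.main f y h
  have h1 : Cardinal.mk (MaximalSpectrum (CohIII.integralClosureStalk f y h)) ≤ 1 :=
    Cardinal.le_one_iff_subsingleton.mpr hsub
  exact Cardinal.le_one_iff_subsingleton.mp (hle.trans h1)

end Groth.Agent.Lib.H9UniFib
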