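import Mathlib
import Groth.Agent.Lib.H9UniFib
import Groth.Agent.Lib.H9NormFin

/-! helper9: `app_injective` (dominant morphism of integral schemes: O_Y(V) → O_X(f⁻¹V) injective for all opens), `germ_app`, `exists_mul_mem_range`, `exists_denominator` (K(Y) algebraically closed in K(X), y normal, W affine ∋ y: a single s with y ∈ D(s) and Γ(X,f⁻¹W)·s ⊆ image of Γ(Y,W)). -/

set_option autoImplicit false
universe u

namespace Groth.Agent.Lib.H9AlgClA

open CategoryTheory CategoryTheory.Limits AlgebraicGeometry TopologicalSpace Opposite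
open Groth.Agent.Lib.H9UniFib

variable {X Y : Scheme.{u}} [IsIntegral X] [IsIntegral Y] (f : X ⟶ Y)
  (hdom : f.base (genericPoint X) ⤳ genericPoint Y)

include hdom in
/-- **Lemma A**: `O_Y(V) → O_X(f⁻¹V)` is injective for a dominant morphism of integral schemes -/
theorem app_injective (V : Y.Opens) : Function.Injective (f.app V).hom := by
  rcases V.1.eq_empty_or_nonempty with h | h
  · have hV0 : V = ⊥ := SetLike.ext' h
    subst hV0
    exact Function.injective_of_subsingleton _
  · have hηV : genericPoint Y ∈ V :=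
      ((genericPoint_spec Y).mem_open_set_iff V.isOpen).mpr (by simpa using h)
    have hfV : f.base (genericPoint X) ∈ V := hdom.mem_open V.2 hηV
    rw [injective_iff_map_eq_zero]
    intro s hs
    have h1 := Scheme.Hom.germ_stalkMap_apply f V (genericPoint X) hfV s
    rw [show (f.app V) s = 0 from hs, map_zero] at h1
    have h2 : (Y.presheaf.stalkSpecializes hdom).hom ((Y.presheaf.germ V (genericPoint Y) hηV).hom s) =
        (Y.presheaf.germ V (f.base (genericPoint X)) hfV).hom s :=
      TopCat.Presheaf.germ_stalkSpecializes_apply _ _ _ _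
    have h3 : (CohIII.stalkToFunctionField f (genericPoint Y) hdom)
        ((Y.presheaf.germ V (genericPoint Y) hηV).hom s) = 0 := by
      change (f.stalkMap (genericPoint X)).hom ((Y.presheaf.stalkSpecializes hdom).hom _) = 0
      rw [h2]
      exact h1
    have h4 : (Y.presheaf.germ V (genericPoint Y) hηV).hom s = 0 := by
      apply RingHom.injective (R := Y.functionField)
        (CohIII.stalkToFunctionField f (genericPoint Y) hdom)
      rw [h3, map_zero]
    exact germ_injective_of_isIntegral Y (genericPoint Y) hηV (by rw [h4, map_zero])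


section B

variable (halg : ∀ x : X.functionField,
      (∃ q : Polynomial Y.functionField, q ≠ 0 ∧
        Polynomial.eval₂ (CohIII.stalkToFunctionField f (genericPoint Y) hdom) x q = 0) →
      x ∈ Set.range (CohIII.stalkToFunctionField f (genericPoint Y) hdom))
  (y : Y) (hy : IsIntegrallyClosed (Y.presheaf.stalk y)) (W : Y.Opens) (hW : IsAffineOpen W)
  (hyW : y ∈ W)

include hdom hyW in
theorem gen_mem : genericPoint X ∈ f ⁻¹ᵁ W :=
  (hdom.trans (genericPoint_specializes y)).mem_open W.2 hyW

/-- compatibility of germs at the generic point with `stalkToFunctionField` -/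
theorem germ_app (a : Γ(Y, W)) :
    (X.presheaf.germ (f ⁻¹ᵁ W) (genericPoint X) (gen_mem f hdom y W hyW)).hom
      ((f.app W).hom a) =
    (CohIII.stalkToFunctionField f y (hdom.trans (genericPoint_specializes y)))
      ((Y.presheaf.germ W y hyW).hom a) := by
  have hfW : f.base (genericPoint X) ∈ W := gen_mem f hdom y W hyW
  change _ = (f.stalkMap (genericPoint X)).hom ((Y.presheaf.stalkSpecializes _).hom
      ((Y.presheaf.germ W y hyW).hom a))
  have e1 : (Y.presheaf.stalkSpecializes (hdom.trans (genericPoint_specializes y))).hom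
      ((Y.presheaf.germ W y hyW).hom a) =
      (Y.presheaf.germ W (f.base (genericPoint X)) hfW).hom a :=
    TopCat.Presheaf.germ_stalkSpecializes_apply _ _ _ _
  rw [e1]
  exact (Scheme.Hom.germ_stalkMap_apply f W (genericPoint X) hfW a).symm

include halg hy hW hyW in
/-- **Lemma B** (one element) -/
theorem exists_mul_mem_range (b : Γ(X, f ⁻¹ᵁ W)) (hb : (f.app W).hom.IsIntegralElem b) :
    ∃ s : Γ(Y, W), y ∈ Y.basicOpen s ∧ ∃ a : Γ(Y, W),
      b * (f.app W).hom s = (f.app W).hom a := by
  let αy := CohIII.stalkToFunctionField f y (hdom.trans (genericPoint_specializes y))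
  let αη := CohIII.stalkToFunctionField f (genericPoint Y) hdom
  let β := (X.presheaf.germ (f ⁻¹ᵁ W) (genericPoint X) (gen_mem f hdom y W hyW)).hom
  let gy := (Y.presheaf.germ W y hyW).hom
  have hβψ : ∀ a, β ((f.app W).hom a) = αy (gy a) := germ_app f hdom y W hyW
  have hcomp : αy = αη.comp (algebraMap (Y.presheaf.stalk y) Y.functionField) :=
    stalkToFunctionField_comp f y hdom
  have hαηinj : Function.Injective αη := RingHom.injective (R := Y.functionField) αη
  obtain ⟨P, hP, hPb⟩ := hb
  -- `β b` is a root of `P` pushed to `O_{Y,y}`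
  have h1 : Polynomial.eval₂ αy (β b) (P.map gy) = 0 := by
    rw [Polynomial.eval₂_map]
    have : αy.comp gy = β.comp (f.app W).hom := by
      ext a; exact (hβψ a).symm
    rw [this, ← Polynomial.hom_eval₂, hPb, map_zero]
  -- algebraic over `K(Y)`, hence in `K(Y)`
  obtain ⟨k, hk⟩ := halg (β b) ⟨(P.map gy).map (algebraMap (Y.presheaf.stalk y) Y.functionField),
    ((hP.map gy).map _).ne_zero, by
      rw [Polynomial.eval₂_map, ← hcomp]; exact h1⟩
  -- `k` is integral over `O_{Y,y}`
  have hkint : IsIntegral (Y.presheaf.stalk y) k := by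
    refine ⟨P.map gy, hP.map gy, ?_⟩
    apply hαηinj
    rw [map_zero, Polynomial.hom_eval₂, hk, ← hcomp]
    exact h1
  obtain ⟨a', ha'⟩ := IsIntegrallyClosed.isIntegral_iff.mp hkint
  -- write `a'` as a fraction
  letI := TopCat.Presheaf.algebra_section_stalk Y.presheaf (⟨y, hyW⟩ : W)
  haveI : IsLocalization.AtPrime (Y.presheaf.stalk y) (hW.primeIdealOf ⟨y, hyW⟩).asIdeal :=
    hW.isLocalization_stalk ⟨y, hyW⟩
  obtain ⟨⟨a, s⟩, has⟩ := IsLocalization.surj (hW.primeIdealOf ⟨y, hyW⟩).asIdeal.primeCompl a'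
  have has' : a' * gy s.1 = gy a := has
  refine ⟨s.1, ?_, a, ?_⟩
  · rw [Scheme.mem_basicOpen Y s.1 y hyW]
    exact IsLocalization.map_units (Y.presheaf.stalk y) s
  · apply germ_injective_of_isIntegral X (genericPoint X) (gen_mem f hdom y W hyW)
    change β (b * (f.app W).hom s.1) = β ((f.app W).hom a)
    rw [map_mul, hβψ, hβψ, ← has', map_mul, ← hk, ← ha', hcomp]
    rfl


include halg hy hW hyW in
/-- **Lemma B**: a single denominator works for all of `Γ(X, f⁻¹W)` -/
theorem exists_denominator [IsProper f] [IsLocallyNoetherian Y] :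
    ∃ s : Γ(Y, W), y ∈ Y.basicOpen s ∧ ∀ b : Γ(X, f ⁻¹ᵁ W), ∃ a : Γ(Y, W),
      b * (f.app W).hom s = (f.app W).hom a := by
  classical
  have hfin : (f.app W).hom.Finite := Groth.Agent.Lib.H9NormFin.finite_app_of_isProper f ⟨W, hW⟩
  have hint : ∀ b, (f.app W).hom.IsIntegralElem b := fun b => hfin.to_isIntegral b
  choose sfun hs afun ha using fun b =>
    exists_mul_mem_range f hdom halg y hy W hW hyW b (hint b)
  letI := (f.app W).hom.toAlgebra
  have hfin' : Module.Finite Γ(Y, W) Γ(X, f ⁻¹ᵁ W) := hfin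
  obtain ⟨S, hS⟩ := Module.finite_def.mp hfin'
  let s : Γ(Y, W) := ∏ b ∈ S, sfun b
  refine ⟨s, ?_, ?_⟩
  · rw [Scheme.mem_basicOpen Y s y hyW, map_prod]
    refine Finset.prod_induction _ IsUnit (fun _ _ => IsUnit.mul) isUnit_one (fun b _ => ?_)
    exact (Scheme.mem_basicOpen Y (sfun b) y hyW).mp (hs b)
  · let N : Submodule Γ(Y, W) Γ(X, f ⁻¹ᵁ W) :=
      { carrier := {b | ∃ a : Γ(Y, W), b * (f.app W).hom s = (f.app W).hom a}
        add_mem' := by
          rintro b₁ b₂ ⟨a₁, h₁⟩ ⟨a₂, h₂⟩
          exact ⟨a₁ + a₂, by rw [add_mul, h₁, h₂, map_add]⟩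
        zero_mem' := ⟨0, by rw [zero_mul, map_zero]⟩
        smul_mem' := by
          rintro c b ⟨a, h⟩
          refine ⟨c * a, ?_⟩
          rw [Algebra.smul_def, map_mul, ← h, mul_assoc]
          rfl }
    have hSN : (S : Set Γ(X, f ⁻¹ᵁ W)) ⊆ N := by
      intro b₀ hb₀
      refine ⟨afun b₀ * ∏ b ∈ S.erase b₀, sfun b, ?_⟩
      have : s = sfun b₀ * ∏ b ∈ S.erase b₀, sfun b := (Finset.mul_prod_erase S sfun hb₀).symm
      rw [this, map_mul, ← mul_assoc, ha b₀, map_mul]
    have : (⊤ : Submodule Γ(Y, W) Γ(X, f ⁻¹ᵁ W)) ≤ N := by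
      rw [← hS]
      exact Submodule.span_le.mpr hSN
    intro b
    exact this (Submodule.mem_top : b ∈ ⊤)

end B

end Groth.Agent.Lib.H9AlgClA
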