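import Mathlib
import Groth.Agent.Lib.H9AlgClA

/-! helper9: `exists_eq_pow_mul`, `app_basicOpen_surjective`, `cSh` (the comorphism as a morphism of sheaves), `app_bijective`, `isIso_app` (given a denominator s as in H9AlgClA and injectivity on all opens: f.app V iso for every open V ≤ D(s); iso on a basis ⇒ iso on all opens via Mathlib's `app_surjective_of_injective_of_locally_surjective`). -/

set_option autoImplicit false
universe u

namespace Groth.Agent.Lib.H9AlgClB

open CategoryTheory CategoryTheory.Limits AlgebraicGeometry TopologicalSpace Opposite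

variable {X Y : Scheme.{u}} (f : X ⟶ Y)

/-- sections over an open which *equals* a basic open of a qcqs open are fractions -/
theorem exists_eq_pow_mul (Ω V'' : X.Opens) (hΩ : IsCompact Ω.1) (hΩ' : IsQuasiSeparated Ω.1)
    (g : Γ(X, Ω)) (e : V'' = X.basicOpen g) (hle : V'' ≤ Ω) (t : Γ(X, V'')) :
    ∃ (n : ℕ) (b : Γ(X, Ω)), X.presheaf.map (homOfLE hle).op b =
      (X.presheaf.map (homOfLE hle).op g) ^ n * t := by
  subst e
  obtain ⟨n, b, hb⟩ := exists_eq_pow_mul_of_isCompact_of_isQuasiSeparated X Ω hΩ hΩ' g t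
  exact ⟨n, b, hb⟩

section C

variable [QuasiCompact f] [QuasiSeparated f] (W : Y.Opens) (hW : IsAffineOpen W) (s : Γ(Y, W))
  (hs : ∀ b : Γ(X, f ⁻¹ᵁ W), ∃ a : Γ(Y, W), b * (f.app W).hom s = (f.app W).hom a)

include hW hs in
/-- **Lemma C** -/
theorem app_basicOpen_surjective (r : Γ(Y, W)) (hle : Y.basicOpen r ≤ Y.basicOpen s) :
    Function.Surjective (f.app (Y.basicOpen r)).hom := by
  intro t
  have hVW : Y.basicOpen r ≤ W := Y.basicOpen_le r
  have hVW' : f ⁻¹ᵁ Y.basicOpen r ≤ f ⁻¹ᵁ W := f.preimage_mono hVW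
  obtain ⟨n, b, hb⟩ := exists_eq_pow_mul (f ⁻¹ᵁ W) (f ⁻¹ᵁ Y.basicOpen r)
    (f.isCompact_preimage hW.isCompact) (f.isQuasiSeparated_preimage hW.isQuasiSeparated)
    ((f.app W).hom r) (Scheme.preimage_basicOpen f r) hVW' t
  obtain ⟨a, ha⟩ := hs b
  -- restrictions to `V = D(r)`
  let ρY := (Y.presheaf.map (homOfLE hVW).op).hom
  let ρX := (X.presheaf.map (homOfLE hVW').op).hom
  have hnat : ∀ c : Γ(Y, W), (f.app (Y.basicOpen r)).hom (ρY c) = ρX ((f.app W).hom c) := by
    intro c
    have := f.naturality (homOfLE hVW).op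
    exact congrArg (fun φ => φ.hom c) this
  -- units
  have hur : IsUnit (ρY r) := Y.toRingedSpace.isUnit_res_basicOpen r
  have hus : IsUnit (ρY s) := by
    have h1 : IsUnit ((Y.presheaf.map (homOfLE (Y.basicOpen_le s)).op).hom s) :=
      Y.toRingedSpace.isUnit_res_basicOpen s
    have h2 := h1.map (Y.presheaf.map (homOfLE hle).op).hom
    have e : (Y.presheaf.map (homOfLE hle).op).hom
        ((Y.presheaf.map (homOfLE (Y.basicOpen_le s)).op).hom s) = ρY s := by
      change (Y.presheaf.map (homOfLE (Y.basicOpen_le s)).op ≫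
        Y.presheaf.map (homOfLE hle).op).hom s = _
      rw [← Functor.map_comp]
      rfl
    rwa [e] at h2
  have hu : IsUnit (ρY s * ρY r ^ n) := hus.mul (hur.pow n)
  obtain ⟨u, hu'⟩ := hu
  refine ⟨ρY a * ↑u⁻¹, ?_⟩
  have hfu : IsUnit ((f.app (Y.basicOpen r)).hom (u : Γ(Y, Y.basicOpen r))) :=
    u.isUnit.map (f.app (Y.basicOpen r)).hom
  apply hfu.mul_left_injective
  change (f.app (Y.basicOpen r)).hom (ρY a * ↑u⁻¹) * (f.app (Y.basicOpen r)).hom ↑u =
    t * (f.app (Y.basicOpen r)).hom ↑u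
  rw [← map_mul, mul_assoc, Units.inv_mul, mul_one, hnat, ← ha, map_mul, hb, hu', map_mul,
    map_pow, hnat, hnat]
  ring

end C


/-- the comorphism as a morphism of sheaves -/
noncomputable def cSh : Y.sheaf ⟶ (TopCat.Sheaf.pushforward CommRingCat f.base).obj X.sheaf :=
  ⟨f.c⟩

section D

variable [QuasiCompact f] [QuasiSeparated f] (W : Y.Opens) (hW : IsAffineOpen W) (s : Γ(Y, W))
  (hs : ∀ b : Γ(X, f ⁻¹ᵁ W), ∃ a : Γ(Y, W), b * (f.app W).hom s = (f.app W).hom a)
  (hinj : ∀ V : Y.Opens, Function.Injective (f.app V).hom)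

include hW hs hinj in
/-- `O_Y(V) → O_X(f⁻¹V)` is bijective for every open `V ≤ D(s)` -/
theorem app_bijective (V : Y.Opens) (hV : V ≤ Y.basicOpen s) :
    Function.Bijective (f.app V).hom := by
  refine ⟨hinj V, ?_⟩
  have hstalk : ∀ x ∈ V, Function.Injective
      ((TopCat.Presheaf.stalkFunctor CommRingCat x).map (cSh f).hom) := fun x _ =>
    TopCat.Presheaf.stalkFunctor_map_injective_of_app_injective (f := (cSh f).hom)
      (fun U => hinj U) x
  refine TopCat.Presheaf.app_surjective_of_injective_of_locally_surjective (cSh f) V hstalk ?_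
  intro t x hx
  have hxW : x ∈ W := Y.basicOpen_le s (hV hx)
  obtain ⟨r, hrV, hxr⟩ := hW.exists_basicOpen_le (V := V) ⟨x, hx⟩ hxW
  obtain ⟨c, hc⟩ := app_basicOpen_surjective f W hW s hs r (hrV.trans hV)
    ((X.presheaf.map (homOfLE (f.preimage_mono hrV)).op).hom t)
  exact ⟨Y.basicOpen r, hxr, homOfLE hrV, c, hc⟩

include hW hs hinj in
theorem isIso_app (V : Y.Opens) (hV : V ≤ Y.basicOpen s) : IsIso (f.app V) :=
  (ConcreteCategory.isIso_iff_bijective _).mpr (app_bijective f W hW s hs hinj V hV)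

end D

end Groth.Agent.Lib.H9AlgClB
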