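import Groth.Agent.Lib.R2H2CoRep
set_option backward.isDefEq.respectTransparency.types false

/-!
# Left exact `T_p` is corepresentable: main statements (helper2, round 2)
-/

set_option autoImplicit false
set_option linter.unusedSectionVars false
set_option linter.style.haveILetI false
universe u
open CategoryTheory CategoryTheory.Limits MonoidalCategory TensorProduct Opposite

noncomputable section

namespace Groth.Agent.Lib.R2H2.CoRep

variable {A : Type u} [CommRing A] {ι : Type} {c : ComplexShape ι}

instance preservesMono_linearCoyoneda (Q : ModuleCat.{u} A) :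
    ((linearCoyoneda A (ModuleCat.{u} A)).obj (op Q)).PreservesMonomorphisms where
  preserves f hf := by
    rw [ModuleCat.mono_iff_injective]
    intro g g' hgg'
    exact (cancel_mono f).1 hgg'

theorem projective_of_finite_flat [IsNoetherianRing A] (W : Type u) [AddCommGroup W] [Module A W]
    [Module.Finite A W] [Module.Flat A W] : Module.Projective A W := by
  haveI : Module.FinitePresentation A W := Module.finitePresentation_of_finite A W
  exact Module.Flat.projective_of_finitePresentation

/-- **Hartshorne III.12.4** -/
theorem exists_corep [IsNoetherianRing A] (P : HomologicalComplex (ModuleCat.{u} A) c)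
    (hP : ∀ i, Module.Finite A (P.X i) ∧ Module.Flat A (P.X i)) (p : ι)
    (h : (CohIII.TFun P p).PreservesMonomorphisms) :
    ∃ Q : ModuleCat.{u} A, Module.Finite A Q ∧
      Nonempty (CohIII.TFun P p ≅ (linearCoyoneda A (ModuleCat.{u} A)).obj (op Q)) := by
  haveI := (hP (c.next p)).1
  haveI := (hP (c.next p)).2
  haveI := (hP p).1
  haveI : Module.Finite A (P.opcycles p) := Groth.Agent.Lib.Helper3.finite_opcycles P p
  haveI : Module.Flat A (P.opcycles p) := by
    rw [Module.Flat.iff_lTensor_preserves_injective_linearMap]
    intro N N' _ _ _ _ f hf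
    haveI : Mono (ModuleCat.ofHom f) := (ModuleCat.mono_iff_injective _).2 hf
    have := Groth.Agent.Lib.Helper3.mono_whiskerLeft_opcycles P p inferInstance (ModuleCat.ofHom f)
      (h.preserves _)
    exact (ModuleCat.mono_iff_injective _).1 this
  haveI : Module.Projective A (P.opcycles p) := projective_of_finite_flat _
  haveI : Module.Projective A (P.X (c.next p)) := projective_of_finite_flat _
  refine ⟨Qmod P p, ?_, ⟨corepIso P p⟩⟩
  show Module.Finite A (Qt P p)
  infer_instance

theorem finite_of_corep [IsNoetherianRing A] (P : HomologicalComplex (ModuleCat.{u} A) c)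
    (hP : ∀ i, Module.Finite A (P.X i) ∧ Module.Flat A (P.X i)) (p : ι)
    (Q' : ModuleCat.{u} A)
    (e : CohIII.TFun P p ≅ (linearCoyoneda A (ModuleCat.{u} A)).obj (op Q')) :
    Module.Finite A Q' := by
  have hm : (CohIII.TFun P p).PreservesMonomorphisms :=
    (Functor.PreservesMonomorphisms.iso_iff e).2 inferInstance
  obtain ⟨Q, hQ, ⟨e'⟩⟩ := exists_corep P hP p hm
  have i1 : op Q' ≅ op Q := (linearCoyoneda A (ModuleCat.{u} A)).preimageIso (e.symm ≪≫ e')
  exact Module.Finite.equiv i1.unop.toLinearEquiv

end Groth.Agent.Lib.R2H2.CoRep
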