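import Mathlib
import Groth.Agent.Lib.R2H2CoRepMain
import Groth.Agent.Lib.Helper3FlatCxRank
set_option backward.isDefEq.respectTransparency.types false

/-! helper9: T-functor of a complex of finite free modules with T_1 ≡ 0: `preservesMono_of_isZero`, `flat_opcycles`, `finitePresentation_opcycles`, structure `Hyp`, `Hyp.αE : T_0(M) ≃ₗ Hom(C, M)` (C = helper2's Qt), `Hyp.homologyEquiv : H_0(K) ≃ₗ Hom(C, B)`, `Hyp.finitePresentation_Qt`. -/

set_option autoImplicit false
set_option linter.unusedSectionVars false
universe u
open CategoryTheory CategoryTheory.Limits MonoidalCategory TensorProduct Opposite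

noncomputable section

namespace Groth.Agent.Lib.H9CbA

open Groth.Agent.Lib.R2H2.CoRep

variable {B : Type u} [CommRing B] (K : ChainComplex (ModuleCat.{u} B) ℤ)

/-- if `T_{p+1}` vanishes identically then `T_p` preserves monomorphisms -/
theorem preservesMono_of_isZero (hfl : ∀ i, Module.Flat B (K.X i)) (p q : ℤ) (hpq : q + 1 = p)
    (hv : ∀ M : ModuleCat.{u} B, IsZero ((CohIII.TFun K p).obj M)) :
    (CohIII.TFun K q).PreservesMonomorphisms where
  preserves {M' M} φ hφ := by
    let S : ShortComplex (ModuleCat.{u} B) := ShortComplex.mk φ (cokernel.π φ) (cokernel.condition φ)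
    have hS : S.ShortExact :=
      { exact := ShortComplex.exact_of_g_is_cokernel _ (cokernelIsCokernel φ)
        mono_f := hφ
        epi_g := inferInstanceAs (Epi (cokernel.π φ)) }
    exact Groth.Agent.Lib.Helper3.mono_T_map_of_epi K hfl S hS p q hpq ((hv _).epi _)

/-- opcycles are flat when `T_p` preserves monomorphisms -/
theorem flat_opcycles (p : ℤ) (hfl : Module.Flat B (K.X ((ComplexShape.down ℤ).next p)))
    (h : (CohIII.TFun K p).PreservesMonomorphisms) : Module.Flat B (K.opcycles p) := by
  rw [Module.Flat.iff_lTensor_preserves_injective_linearMap]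
  intro N N' _ _ _ _ f hf
  haveI : Mono (ModuleCat.ofHom f) := (ModuleCat.mono_iff_injective _).2 hf
  have := Groth.Agent.Lib.Helper3.mono_whiskerLeft_opcycles K p hfl (ModuleCat.ofHom f)
    (h.preserves _)
  exact (ModuleCat.mono_iff_injective _).1 this

/-- opcycles of a complex of finite free modules are finitely presented -/
theorem finitePresentation_opcycles (hK : ∀ i, Module.Finite B (K.X i) ∧ Module.Free B (K.X i))
    (p : ℤ) : Module.FinitePresentation B (K.opcycles p) := by
  haveI := (hK p).1
  haveI := (hK p).2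
  haveI := (hK (p + 1)).1
  haveI : Module.FinitePresentation B (K.X p) := Module.finitePresentation_of_projective B _
  have e := Groth.Agent.Lib.Helper3.quotRangeEquivOpcycles K (p + 1) p rfl
  haveI : Module.FinitePresentation B (K.X p ⧸ LinearMap.range (K.d (p + 1) p).hom) := by
    refine Module.finitePresentation_of_surjective (LinearMap.range (K.d (p + 1) p).hom).mkQ
      (Submodule.mkQ_surjective _) ?_
    rw [Submodule.ker_mkQ, LinearMap.range_eq_map]
    exact Submodule.FG.map _ Module.Finite.fg_top
  exact Module.FinitePresentation.of_equiv e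

end Groth.Agent.Lib.H9CbA

noncomputable section

namespace Groth.Agent.Lib.H9CbA

open Groth.Agent.Lib.R2H2.CoRep

variable {B : Type u} [CommRing B] (K : ChainComplex (ModuleCat.{u} B) ℤ)

/-- the standing hypotheses: finite free terms, `T_1 ≡ 0` -/
structure Hyp : Prop where
  ff : ∀ i, Module.Finite B (K.X i) ∧ Module.Free B (K.X i)
  vanish : ∀ M : ModuleCat.{u} B, IsZero ((CohIII.TFun K 1).obj M)

variable {K}

theorem Hyp.flat (h : Hyp K) (i : ℤ) : Module.Flat B (K.X i) := by
  haveI := (h.ff i).2
  infer_instance

theorem Hyp.preservesMono (h : Hyp K) : (CohIII.TFun K 0).PreservesMonomorphisms :=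
  preservesMono_of_isZero K h.flat 1 0 (by norm_num) h.vanish

theorem Hyp.finite_opc (h : Hyp K) : Module.Finite B (K.opcycles 0) := by
  haveI := (h.ff 0).1
  exact Groth.Agent.Lib.Helper3.finite_opcycles K 0

theorem Hyp.projective_opc (h : Hyp K) : Module.Projective B (K.opcycles 0) := by
  haveI := finitePresentation_opcycles K h.ff 0
  haveI := flat_opcycles K 0 (h.flat _) h.preservesMono
  exact Module.Flat.projective_of_finitePresentation

theorem Hyp.finite_next (h : Hyp K) : Module.Finite B (K.X ((ComplexShape.down ℤ).next 0)) :=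
  (h.ff _).1

theorem Hyp.projective_next (h : Hyp K) :
    Module.Projective B (K.X ((ComplexShape.down ℤ).next 0)) := by
  haveI := (h.ff ((ComplexShape.down ℤ).next 0)).2
  infer_instance

/-- the corepresenting module is finitely presented -/
theorem Hyp.finitePresentation_Qt (h : Hyp K) : Module.FinitePresentation B (Qt K 0) := by
  haveI := h.finite_opc
  haveI := h.projective_opc
  haveI := h.finite_next
  haveI := h.projective_next
  haveI : Module.FinitePresentation B (Module.Dual B (K.opcycles 0)) :=
    Module.finitePresentation_of_projective B _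
  refine Module.finitePresentation_of_surjective (LinearMap.range (δd K 0)).mkQ
    (Submodule.mkQ_surjective _) ?_
  rw [Submodule.ker_mkQ, LinearMap.range_eq_map]
  exact Submodule.FG.map _ Module.Finite.fg_top

/-- `T_0(M) ≃ Hom(C, M)` -/
def Hyp.αE (h : Hyp K) (M : ModuleCat.{u} B) : CohIII.T K 0 M ≃ₗ[B] (Qt K 0 →ₗ[B] M) :=
  haveI := h.finite_opc
  haveI := h.projective_opc
  haveI := h.finite_next
  haveI := h.projective_next
  LinearEquiv.ofBijective (αlin K 0 M) (αlin_bijective K 0 M)

theorem Hyp.αE_apply (h : Hyp K) (M : ModuleCat.{u} B) (t : CohIII.T K 0 M) :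
    h.αE M t = αlin K 0 M t := rfl

/-- `H_0(K) ≃ Hom(C, B)` -/
def Hyp.homologyEquiv (h : Hyp K) : K.homology 0 ≃ₗ[B] (Qt K 0 →ₗ[B] B) :=
  (Groth.Agent.Lib.Helper3.TUnitIso K 0).toLinearEquiv.symm ≪≫ₗ h.αE (ModuleCat.of B B)

end Groth.Agent.Lib.H9CbA
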