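import Mathlib
import Groth.Prelude.Def_Formal2
import Groth.Agent.Lib.R2H2SheafBC
import Groth.Agent.Lib.R2H2FormalFn
import Groth.Agent.Lib.R2H2CoprodCoh
import Groth.Agent.Lib.R2H2PushModPow
import Groth.Agent.Lib.R2H2PnFinite
import Groth.Agent.Lib.Helper23FinTypeLocal
import Groth.Agent.Lib.Helper20StalkExact
import Groth.Agent.Lib.R2H2ProjOverPush
import Groth.Agent.Lib.Helper2FlatOver

/-!
# Flat dévissage for `F / J F` over a local base (helper2, round 2)

`modJ J F = F / J F` for an ideal `J` of the base ring, its sections over affine opens, the short exact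
sequence `0 → F/𝔪F → F/JF → F/(J + a)F → 0` for flat `F` (`(J : a) = 𝔪`), and the consequences for
cohomology: vanishing of `H^q(F/JF)` and surjectivity of transition maps.
-/

set_option autoImplicit false
set_option linter.unusedSectionVars false
universe u
open CategoryTheory CategoryTheory.Limits AlgebraicGeometry TopologicalSpace Opposite

noncomputable section

namespace Groth.Agent.Lib.R2H2.FlatDev

open Groth.Agent.Lib.R2H2.SheafBC

variable {A : Type u} [CommRing A] {X : Scheme.{u}} [X.Over (Spec (CommRingCat.of A))]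

/-- `M / J M` -/
def modJ (J : Ideal A) (M : X.Modules) : X.Modules := cokernel (Formal.smulFamily J M)

def πJ (J : Ideal A) (M : X.Modules) : M ⟶ modJ J M := cokernel.π (Formal.smulFamily J M)

instance (J : Ideal A) (M : X.Modules) : Epi (πJ J M) := inferInstanceAs (Epi (cokernel.π _))

theorem modPow_eq (I : Ideal A) (n : ℕ) (M : X.Modules) : Formal.modPow I n M = modJ (I ^ n) M := rfl

theorem smulMod_app (M : X.Modules) (a : A) (U : X.Opens) (x : Γ(M, U)) :
    (Formal.smulMod A M a).app U x = (bW (X ↘ Spec (CommRingCat.of A)) U a : Γ(X, U)) • x := rfl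

theorem smulMod_eq_ι (J : Ideal A) (M : X.Modules) (a : A) (ha : a ∈ J) :
    Formal.smulMod A M a = Sigma.ι (fun _ : J => M) ⟨a, ha⟩ ≫ Formal.smulFamily J M := by
  rw [Formal.smulFamily, Sigma.ι_desc]

theorem smulMod_πJ (J : Ideal A) (M : X.Modules) (a : A) (ha : a ∈ J) :
    Formal.smulMod A M a ≫ πJ J M = 0 := by
  rw [smulMod_eq_ι J M a ha, Category.assoc]
  have h2 : Formal.smulFamily J M ≫ πJ J M = 0 := cokernel.condition _
  rw [h2, comp_zero]

/-- `M/JM → M/J'M` for `J ≤ J'` -/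
def modLE {J J' : Ideal A} (h : J ≤ J') (M : X.Modules) : modJ J M ⟶ modJ J' M :=
  cokernel.desc _ (πJ J' M) (Formal.smulFamily_π_of_le h M)

@[reassoc]
theorem πJ_modLE {J J' : Ideal A} (h : J ≤ J') (M : X.Modules) :
    πJ J M ≫ modLE h M = πJ J' M := cokernel.π_desc _ _ _

instance {J J' : Ideal A} (h : J ≤ J') (M : X.Modules) : Epi (modLE h M) :=
  epi_of_epi_fac (πJ_modLE h M)

theorem modLE_comp {J J' J'' : Ideal A} (h : J ≤ J') (h' : J' ≤ J'') (M : X.Modules) :
    modLE h M ≫ modLE h' M = modLE (h.trans h') M := by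
  rw [← cancel_epi (πJ J M), πJ_modLE_assoc, πJ_modLE, πJ_modLE]

theorem modLE_refl (J : Ideal A) (M : X.Modules) : modLE (le_refl J) M = 𝟙 _ := by
  rw [← cancel_epi (πJ J M), πJ_modLE, Category.comp_id]

theorem modPowTrans_eq (I : Ideal A) (n : ℕ) (M : X.Modules) :
    Formal.modPowTrans I n M = modLE (Ideal.pow_le_pow_right (Nat.le_succ n)) M := rfl

instance isQuasicoherent_modJ (J : Ideal A) (M : X.Modules) [M.IsQuasicoherent] :
    (modJ J M).IsQuasicoherent := by
  classical
  haveI : (∐ fun _ : ↥J => M).IsQuasicoherent :=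
    Groth.Agent.Lib.R2H2.CoprodCoh.isQuasicoherent_sigma (fun _ : ↥J => M)
      (fun _ => inferInstance)
  exact Groth.Agent.Lib.Helper23.QCohLocal.isQuasicoherent_cokernel _

theorem πJ_app_surjective (J : Ideal A) (M : X.Modules) [M.IsQuasicoherent] {U : X.Opens}
    (hU : IsAffineOpen U) : Function.Surjective ((πJ J M).app U) :=
  Groth.Agent.Lib.Helper23.FinType.surjective_app_of_epi (πJ J M) hU

/-- the `J`-multiples among the sections over `U` -/
def JS (J : Ideal A) (M : X.Modules) (U : X.Opens) : Submodule Γ(X, U) Γ(M, U) :=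
  (J.map (bW (X ↘ Spec (CommRingCat.of A)) U)) • ⊤

theorem πJ_app_eq_zero_of_mem (J : Ideal A) (M : X.Modules) (U : X.Opens) (x : Γ(M, U))
    (hx : x ∈ JS J M U) : (πJ J M).app U x = 0 := by
  let K : Submodule Γ(X, U) Γ(M, U) :=
    { carrier := {y | (πJ J M).app U y = 0}
      add_mem' := fun {y z} hy hz => by
        change (πJ J M).app U (y + z) = 0
        rw [map_add, hy, hz, add_zero]
      zero_mem' := map_zero _
      smul_mem' := fun r y hy => by
        change (πJ J M).app U (r • y) = 0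
        rw [Scheme.Modules.Hom.app_smul, hy, smul_zero] }
  suffices h : JS J M U ≤ K from h hx
  unfold JS
  rw [Submodule.smul_le]
  intro r hr y _
  suffices key : ∀ y : Γ(M, U), r • y ∈ K from key y
  unfold Ideal.map at hr
  refine Submodule.span_induction (p := fun r _ => ∀ y : Γ(M, U), r • y ∈ K) ?_ ?_ ?_ ?_ hr
  · rintro _ ⟨a, ha, rfl⟩ y
    change (πJ J M).app U ((bW (X ↘ Spec (CommRingCat.of A)) U a : Γ(X, U)) • y) = 0
    rw [← smulMod_app]
    change (Formal.smulMod A M a ≫ πJ J M).app U y = 0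
    rw [smulMod_πJ J M a ha]
    rfl
  · intro y
    rw [zero_smul]
    exact K.zero_mem
  · intro r s _ _ hr hs y
    rw [add_smul]
    exact K.add_mem (hr y) (hs y)
  · intro s r _ hr y
    rw [smul_eq_mul, mul_comm, mul_smul]
    exact hr _

theorem mem_of_πJ_app_eq_zero (J : Ideal A) (M : X.Modules) [M.IsQuasicoherent] {U : X.Opens}
    (hU : IsAffineOpen U) (x : Γ(M, U)) (hx : (πJ J M).app U x = 0) : x ∈ JS J M U := by
  classical
  haveI hq : (∐ fun _ : ↥J => M).IsQuasicoherent :=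
    Groth.Agent.Lib.R2H2.CoprodCoh.isQuasicoherent_sigma (fun _ : ↥J => M)
      (fun _ => inferInstance)
  let S : ShortComplex X.Modules := ShortComplex.mk (kernel.ι (πJ J M)) (πJ J M) (kernel.condition _)
  have hS : S.ShortExact :=
    { exact := ShortComplex.exact_kernel _
      mono_f := inferInstanceAs (Mono (kernel.ι _))
      epi_g := inferInstanceAs (Epi (πJ J M)) }
  obtain ⟨r, hr⟩ := Groth.Agent.Lib.Helper20.StalkExact.exists_app_eq_of_exact S hS U x hx
  haveI : (kernel (πJ J M)).IsQuasicoherent :=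
    Groth.Agent.Lib.Helper23.QCohLocal.isQuasicoherent_kernel _
  let e : (∐ fun _ : ↥J => M) ⟶ kernel (πJ J M) := Abelian.factorThruImage (Formal.smulFamily J M)
  haveI : Epi e := inferInstanceAs (Epi (Abelian.factorThruImage (Formal.smulFamily J M)))
  have he : e ≫ kernel.ι (πJ J M) = Formal.smulFamily J M :=
    Abelian.image.fac (Formal.smulFamily J M)
  obtain ⟨t, ht⟩ := Groth.Agent.Lib.Helper23.FinType.surjective_app_of_epi e hU r
  obtain ⟨T, hT⟩ := Groth.Agent.Lib.R2H2.CoprodSec.exists_eS_eq (fun _ : ↥J => M) hU.isCompact t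
  have hx' : x = (Groth.Agent.Lib.R2H2.CoprodSec.eS (fun _ : ↥J => M) T ≫ Formal.smulFamily J M).app U t := by
    change x = (Formal.smulFamily J M).app U ((Groth.Agent.Lib.R2H2.CoprodSec.eS (fun _ : ↥J => M) T).app U t)
    rw [hT, ← he]
    change x = (kernel.ι (πJ J M)).app U (e.app U t)
    rw [ht]
    exact hr.symm
  rw [hx']
  unfold Groth.Agent.Lib.R2H2.CoprodSec.eS
  rw [Preadditive.sum_comp, Groth.Agent.Lib.R2H2.PnFinite.sum_app]
  refine Submodule.sum_mem _ (fun j _ => ?_)
  rw [Category.assoc, ← smulMod_eq_ι J M j.1 j.2]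
  change (Formal.smulMod A M j.1).app U ((Sigma.π (fun _ : ↥J => M) j).app U t) ∈ _
  rw [smulMod_app]
  exact Submodule.smul_mem_smul (Ideal.mem_map_of_mem _ j.2) Submodule.mem_top


section Alg

open TensorProduct

/-- for a flat module `M`: `(J M : a) = (J : a) M` -/
theorem mem_smul_top_of_flat {A M : Type*} [CommRing A] [AddCommGroup M] [Module A M] [Module.Flat A M]
    (J J' : Ideal A) (a : A) (h1 : ∀ b : A, a * b ∈ J → b ∈ J') (h2 : ∀ b ∈ J', a * b ∈ J)
    (x : M) (h : a • x ∈ J • (⊤ : Submodule A M)) : x ∈ J' • (⊤ : Submodule A M) := by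
  let φ : A ⧸ J' →ₗ[A] A ⧸ J := Submodule.mapQ J' J (LinearMap.mulLeft A a) (fun b hb => h2 b hb)
  have hφ : Function.Injective φ := by
    rw [← LinearMap.ker_eq_bot, LinearMap.ker_eq_bot']
    intro y hy
    obtain ⟨b, rfl⟩ := Submodule.Quotient.mk_surjective _ y
    rw [Submodule.mapQ_apply] at hy
    rw [Submodule.Quotient.mk_eq_zero] at hy ⊢
    exact h1 b hy
  have hinj := Module.Flat.rTensor_preserves_injective_linearMap (M := M) φ hφ
  have hφ1 : φ (1 : A ⧸ J') = Ideal.Quotient.mk J a := by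
    change φ (Submodule.Quotient.mk (1 : A)) = _
    rw [Submodule.mapQ_apply]
    change Submodule.Quotient.mk (a * 1) = _
    rw [mul_one]
    rfl
  have e1 : φ.rTensor M ((1 : A ⧸ J') ⊗ₜ[A] x) = 0 := by
    rw [LinearMap.rTensor_tmul, hφ1]
    apply (quotTensorEquivQuotSMul M J).injective
    rw [map_zero, quotTensorEquivQuotSMul_mk_tmul, Submodule.Quotient.mk_eq_zero]
    exact h
  have e2 : (1 : A ⧸ J') ⊗ₜ[A] x = 0 := hinj (e1.trans (map_zero _).symm)
  have e3 := congrArg (quotTensorEquivQuotSMul M J') e2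
  rw [quotTensorEquivQuotSMul_mk_one_tmul, map_zero, Submodule.Quotient.mk_eq_zero] at e3
  exact e3


/-- flatness transfers along a bijective ring map -/
theorem flat_compHom_of_bijective {A R N : Type*} [CommRing A] [CommRing R] [AddCommGroup N]
    [Module R N] [Module.Flat R N] (e : A →+* R) (he : Function.Bijective e) :
    @Module.Flat A N _ _ (Module.compHom N e) := by
  letI : Algebra A R := e.toAlgebra
  letI : Module A N := Module.compHom N e
  haveI : IsScalarTower A R N := ⟨fun a r n => by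
    change (e a * r) • n = e a • (r • n)
    rw [mul_smul]⟩
  haveI : Module.Flat A R := by
    let E : A ≃ₗ[A] R := LinearEquiv.ofBijective (Algebra.linearMap A R) he
    exact Module.Flat.of_linearEquiv E.symm
  exact Module.Flat.trans A R N

/-- `J N` computed over `A` or over `R` -/
theorem mem_map_smul_top_iff {A R N : Type*} [CommRing A] [CommRing R] [AddCommGroup N]
    [Module R N] (b : A →+* R) (J : Ideal A) (x : N) :
    x ∈ (J.map b) • (⊤ : Submodule R N) ↔
      x ∈ @HSMul.hSMul (Ideal A) (@Submodule A N _ _ (Module.compHom N b))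
        (@Submodule A N _ _ (Module.compHom N b)) _ J (⊤ : @Submodule A N _ _ (Module.compHom N b)) := by
  letI : Module A N := Module.compHom N b
  constructor
  · intro hx
    refine Submodule.smul_induction_on hx ?_ ?_
    · intro r hr y _
      suffices key : ∀ y : N, r • y ∈ (J • (⊤ : Submodule A N)) from key y
      unfold Ideal.map at hr
      refine Submodule.span_induction (p := fun r _ => ∀ y : N, r • y ∈ (J • (⊤ : Submodule A N)))
        ?_ ?_ ?_ ?_ hr
      · rintro _ ⟨a, ha, rfl⟩ y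
        exact Submodule.smul_mem_smul (show a ∈ J from ha) (Submodule.mem_top : y ∈ (⊤ : Submodule A N))
      · intro y
        rw [zero_smul]
        exact Submodule.zero_mem _
      · intro r s _ _ hr hs y
        rw [add_smul]
        exact Submodule.add_mem _ (hr y) (hs y)
      · intro s r _ hr y
        rw [smul_eq_mul, mul_comm, mul_smul]
        exact hr _
    · intro y z hy hz
      exact Submodule.add_mem _ hy hz
  · intro hx
    refine Submodule.smul_induction_on hx ?_ ?_
    · intro a ha y _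
      exact Submodule.smul_mem_smul (Ideal.mem_map_of_mem b ha) (Submodule.mem_top : y ∈ (⊤ : Submodule R N))
    · intro y z hy hz
      exact Submodule.add_mem _ hy hz

end Alg

section Colon

variable (A) in
/-- the consequence of flatness over `A` of the sections over `U` that we use -/
def ColonProp (F : X.Modules) (U : X.Opens) : Prop :=
  ∀ (J J' : Ideal A) (a : A), (∀ b : A, a * b ∈ J → b ∈ J') → (∀ b ∈ J', a * b ∈ J) →
    ∀ x : Γ(F, U), (bW (X ↘ Spec (CommRingCat.of A)) U a : Γ(X, U)) • x ∈ JS J F U → x ∈ JS J' F U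

theorem colonProp_of_flat (F : X.Modules) (U : X.Opens)
    (hfl : @Module.Flat A Γ(F, U) _ _
      (Module.compHom Γ(F, U) (bW (X ↘ Spec (CommRingCat.of A)) U))) : ColonProp A F U := by
  intro J J' a h1 h2 x hx
  letI : Module A Γ(F, U) := Module.compHom Γ(F, U) (bW (X ↘ Spec (CommRingCat.of A)) U)
  haveI : Module.Flat A Γ(F, U) := hfl
  unfold JS at hx ⊢
  rw [mem_map_smul_top_iff] at hx ⊢
  exact mem_smul_top_of_flat J J' a h1 h2 x hx

theorem flat_sections (F : X.Modules) [F.IsQuasicoherent]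
    (hfl : FlatMod.IsFlatOver (X ↘ Spec (CommRingCat.of A)) F) {U : X.Opens} (hU : IsAffineOpen U) :
    @Module.Flat A Γ(F, U) _ _
      (Module.compHom Γ(F, U) (bW (X ↘ Spec (CommRingCat.of A)) U)) := by
  have e : U ≤ (X ↘ Spec (CommRingCat.of A)) ⁻¹ᵁ ⊤ := le_top
  have h1 := Groth.Agent.Lib.Helper2.FlatOver.flat_sections_of_isFlatOverAt
    (X ↘ Spec (CommRingCat.of A)) F hU (isAffineOpen_top _) e (fun x _ => hfl x)
  have hbij : Function.Bijective (Scheme.ΓSpecIso (CommRingCat.of A)).inv.hom :=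
    ConcreteCategory.bijective_of_isIso (Scheme.ΓSpecIso (CommRingCat.of A)).inv
  have h2 := @flat_compHom_of_bijective A Γ(Spec (CommRingCat.of A), ⊤) Γ(F, U) _ _ _
    (Module.compHom Γ(F, U) ((X ↘ Spec (CommRingCat.of A)).appLE ⊤ U e).hom) h1
    (Scheme.ΓSpecIso (CommRingCat.of A)).inv.hom hbij
  exact h2

theorem colonProp (F : X.Modules) [F.IsQuasicoherent]
    (hfl : FlatMod.IsFlatOver (X ↘ Spec (CommRingCat.of A)) F) {U : X.Opens} (hU : IsAffineOpen U) :
    ColonProp A F U := colonProp_of_flat F U (flat_sections F hfl hU)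

end Colon


section Ses

variable (F : X.Modules) (𝔪 J : Ideal A) (a : A) (h2 : ∀ b ∈ 𝔪, a * b ∈ J)

/-- `J + (a)` -/
abbrev Ja (J : Ideal A) (a : A) : Ideal A := J ⊔ Ideal.span {a}

theorem le_Ja (J : Ideal A) (a : A) : J ≤ Ja J a := le_sup_left

theorem mem_Ja (J : Ideal A) (a : A) : a ∈ Ja J a :=
  Ideal.mem_sup_right (Ideal.subset_span (Set.mem_singleton a))

include h2 in
theorem smulFamily_abar : Formal.smulFamily 𝔪 F ≫ Formal.smulMod A F a ≫ πJ J F = 0 := by
  apply Sigma.hom_ext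
  intro b
  rw [comp_zero, ← Category.assoc, ← smulMod_eq_ι 𝔪 F b.1 b.2, ← Category.assoc,
    ← CohIII.smulMod_mul]
  exact smulMod_πJ J F (a * b.1) (h2 b.1 b.2)

/-- multiplication by `a` as a map `F/𝔪F → F/JF` -/
def abar : modJ 𝔪 F ⟶ modJ J F :=
  cokernel.desc _ (Formal.smulMod A F a ≫ πJ J F) (smulFamily_abar F 𝔪 J a h2)

@[reassoc]
theorem π_abar : πJ 𝔪 F ≫ abar F 𝔪 J a h2 = Formal.smulMod A F a ≫ πJ J F :=
  cokernel.π_desc _ _ _

theorem abar_modLE : abar F 𝔪 J a h2 ≫ modLE (le_Ja J a) F = 0 := by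
  rw [← cancel_epi (πJ 𝔪 F), π_abar_assoc, πJ_modLE, comp_zero]
  exact smulMod_πJ (Ja J a) F a (mem_Ja J a)

/-- `F/𝔪F → ker (F/JF → F/(J+a)F)` -/
def abar' : modJ 𝔪 F ⟶ kernel (modLE (le_Ja J a) F) :=
  kernel.lift _ (abar F 𝔪 J a h2) (abar_modLE F 𝔪 J a h2)

@[reassoc]
theorem abar'_ι : abar' F 𝔪 J a h2 ≫ kernel.ι (modLE (le_Ja J a) F) = abar F 𝔪 J a h2 :=
  kernel.lift_ι _ _ _

theorem abar_app_π (U : X.Opens) (x : Γ(F, U)) :
    (abar F 𝔪 J a h2).app U ((πJ 𝔪 F).app U x) =
      (πJ J F).app U ((bW (X ↘ Spec (CommRingCat.of A)) U a : Γ(X, U)) • x) := by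
  change (πJ 𝔪 F ≫ abar F 𝔪 J a h2).app U x = _
  rw [π_abar]
  rfl

theorem mem_JS_Ja (U : X.Opens) (x : Γ(F, U)) (hx : x ∈ JS (Ja J a) F U) :
    ∃ x₁ ∈ JS J F U, ∃ x' : Γ(F, U),
      x = x₁ + (bW (X ↘ Spec (CommRingCat.of A)) U a : Γ(X, U)) • x' := by
  unfold JS Ja at hx
  rw [Ideal.map_sup, Submodule.sup_smul, Ideal.map_span, Set.image_singleton,
    Submodule.ideal_span_singleton_smul] at hx
  obtain ⟨x₁, hx₁, x₂, hx₂, rfl⟩ := Submodule.mem_sup.1 hx
  obtain ⟨x', _, rfl⟩ := (Submodule.mem_smul_pointwise_iff_exists _ _ _).1 hx₂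
  exact ⟨x₁, hx₁, x', rfl⟩

variable [F.IsQuasicoherent] (hcp : ∀ U : X.Opens, IsAffineOpen U → ColonProp A F U)
  (h1 : ∀ b : A, a * b ∈ J → b ∈ 𝔪)

include hcp h1 in
theorem isIso_abar' : IsIso (abar' F 𝔪 J a h2) := by
  refine Groth.Agent.Lib.R2H2.ProjOverPush.isIso_of_bijective_on_affines _ (fun U hU => ?_)
  have hιinj : Function.Injective ((kernel.ι (modLE (le_Ja J a) F)).app U) :=
    Groth.Agent.Lib.Helper20.StalkExact.injective_app_of_mono _ U
  have hι : ∀ y : Γ(modJ 𝔪 F, U), (kernel.ι (modLE (le_Ja J a) F)).app U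
      ((abar' F 𝔪 J a h2).app U y) = (abar F 𝔪 J a h2).app U y := by
    intro y
    change (abar' F 𝔪 J a h2 ≫ kernel.ι (modLE (le_Ja J a) F)).app U y = _
    rw [abar'_ι]
  constructor
  · intro y y' hyy'
    obtain ⟨x, rfl⟩ := πJ_app_surjective 𝔪 F hU y
    obtain ⟨x', rfl⟩ := πJ_app_surjective 𝔪 F hU y'
    have e1 := congrArg ((kernel.ι (modLE (le_Ja J a) F)).app U) hyy'
    rw [hι, hι, abar_app_π, abar_app_π] at e1
    have e2 : (πJ J F).app U ((bW (X ↘ Spec (CommRingCat.of A)) U a : Γ(X, U)) • (x - x')) = 0 := by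
      rw [smul_sub, map_sub, e1, sub_self]
    have e3 := mem_of_πJ_app_eq_zero J F hU _ e2
    have e4 := hcp U hU J 𝔪 a h1 h2 (x - x') e3
    have e5 := πJ_app_eq_zero_of_mem 𝔪 F U _ e4
    rw [map_sub, sub_eq_zero] at e5
    exact e5
  · intro k
    obtain ⟨x, hx⟩ := πJ_app_surjective J F hU ((kernel.ι (modLE (le_Ja J a) F)).app U k)
    have e1 : (πJ (Ja J a) F).app U x = 0 := by
      rw [← πJ_modLE (le_Ja J a) F]
      change (modLE (le_Ja J a) F).app U ((πJ J F).app U x) = 0
      rw [hx]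
      change (kernel.ι (modLE (le_Ja J a) F) ≫ modLE (le_Ja J a) F).app U k = 0
      rw [kernel.condition]
      rfl
    obtain ⟨x₁, hx₁, x', rfl⟩ := mem_JS_Ja F J a U x (mem_of_πJ_app_eq_zero (Ja J a) F hU x e1)
    refine ⟨(πJ 𝔪 F).app U x', hιinj ?_⟩
    rw [hι, abar_app_π, ← hx, map_add, πJ_app_eq_zero_of_mem J F U x₁ hx₁, zero_add]

/-- the short exact sequence `0 → K → F/JF → F/(J+a)F → 0` -/
def ses : ShortComplex X.Modules :=
  ShortComplex.mk (kernel.ι (modLE (le_Ja J a) F)) (modLE (le_Ja J a) F) (kernel.condition _)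

theorem ses_shortExact : (ses F J a).ShortExact where
  exact := ShortComplex.exact_kernel _
  mono_f := inferInstanceAs (Mono (kernel.ι _))
  epi_g := inferInstanceAs (Epi (modLE (le_Ja J a) F))

open Groth.Agent.Lib.R2H2.HHLin in
include hcp h1 h2 in
/-- the cohomology of the kernel vanishes when that of `F/𝔪F` does -/
theorem subsingleton_HH_kernel (q : ℕ) (hq : Subsingleton (Coh.HH X (modJ 𝔪 F) q)) :
    Subsingleton (Coh.HH X (kernel (modLE (le_Ja J a) F)) q) := by
  haveI := isIso_abar' F 𝔪 J a h2 hcp h1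
  refine ⟨fun y y' => ?_⟩
  have hy : ∀ y : Coh.HH X (kernel (modLE (le_Ja J a) F)) q,
      y = HmapL (abar' F 𝔪 J a h2) q (HmapL (inv (abar' F 𝔪 J a h2)) q y) := by
    intro y
    rw [← HmapL_comp, IsIso.inv_hom_id, HmapL_id]
  exact (hy y).trans ((congrArg (HmapL (abar' F 𝔪 J a h2) q) (Subsingleton.elim _ _)).trans
    (hy y').symm)

end Ses


section Coh

open Groth.Agent.Lib.R2H2.HHLin

theorem isZero_modJ_top (F : X.Modules) : IsZero (modJ (⊤ : Ideal A) F) := by
  have h : πJ (⊤ : Ideal A) F = 0 := by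
    have := smulMod_πJ (⊤ : Ideal A) F 1 trivial
    rwa [Groth.Agent.Lib.R2H2.IdealMul.smulMod_one, Category.id_comp] at this
  exact IsZero.of_epi_eq_zero _ h

theorem subsingleton_HH_of_isZero {M : X.Modules} (h : IsZero M) (q : ℕ) :
    Subsingleton (Coh.HH X M q) := by
  have hx : ∀ x : Coh.HH X M q, x = 0 := fun x => by
    rw [← HmapL_id M q x, h.eq_of_src (𝟙 M) 0, HmapL_zero]
  exact ⟨fun x y => by rw [hx x, hx y]⟩

theorem mem_maximalIdeal_of_mul_mem [IsLocalRing A] (J : Ideal A) (a : A) (ha : a ∉ J) (b : A)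
    (hb : a * b ∈ J) : b ∈ IsLocalRing.maximalIdeal A := by
  by_contra hb'
  obtain ⟨u, rfl⟩ := IsLocalRing.notMem_maximalIdeal.1 hb'
  apply ha
  have := J.mul_mem_right (↑u⁻¹ : A) hb
  rwa [mul_assoc, Units.mul_inv, mul_one] at this

variable [IsNoetherianRing A] [IsLocalRing A] (F : X.Modules) [F.IsQuasicoherent]
  (hcp : ∀ U : X.Opens, IsAffineOpen U → ColonProp A F U)

include hcp in
/-- `H^q(F/𝔪F) = 0 ⇒ H^q(F/JF) = 0` for every `𝔪`-primary `J` -/
theorem subsingleton_HH_modJ (q : ℕ)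
    (hq : Subsingleton (Coh.HH X (modJ (IsLocalRing.maximalIdeal A) F) q)) :
    ∀ J : Ideal A, (∃ N : ℕ, IsLocalRing.maximalIdeal A ^ N ≤ J) →
      Subsingleton (Coh.HH X (modJ J F) q) := by
  intro J
  induction J using IsNoetherian.induction with
  | hgt J ih =>
    intro hex
    by_cases hJ : J = ⊤
    · subst hJ
      exact subsingleton_HH_of_isZero (isZero_modJ_top F) q
    · classical
      have hN₀ : IsLocalRing.maximalIdeal A ^ (Nat.find hex) ≤ J := Nat.find_spec hex
      have hpos : Nat.find hex ≠ 0 := by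
        intro h0
        rw [h0, pow_zero, Ideal.one_eq_top, top_le_iff] at hN₀
        exact hJ hN₀
      obtain ⟨k, hk⟩ := Nat.exists_eq_succ_of_ne_zero hpos
      have hk' : ¬ IsLocalRing.maximalIdeal A ^ k ≤ J := Nat.find_min hex (by omega)
      obtain ⟨a, ha, haJ⟩ := SetLike.not_le_iff_exists.1 hk'
      have h2 : ∀ b ∈ IsLocalRing.maximalIdeal A, a * b ∈ J := fun b hb => hN₀ (by
        rw [hk, pow_succ]
        exact Ideal.mul_mem_mul ha hb)
      have h1 := mem_maximalIdeal_of_mul_mem J a haJ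
      have hlt : J < Ja J a := lt_of_le_of_ne (le_Ja J a) (fun h => haJ (h ▸ mem_Ja J a))
      haveI : Subsingleton (Coh.HH X (ses F J a).X₃ q) :=
        ih (Ja J a) hlt ⟨Nat.find hex, hN₀.trans (le_Ja J a)⟩
      haveI : Subsingleton (Coh.HH X (ses F J a).X₁ q) :=
        subsingleton_HH_kernel F (IsLocalRing.maximalIdeal A) J a h2 hcp h1 q hq
      have hx : ∀ x : Coh.HH X (modJ J F) q, x = 0 := fun x => by
        obtain ⟨x₁, hx₁⟩ := exact₂ (ses F J a) (ses_shortExact F J a) q x (Subsingleton.elim _ _)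
        rw [← hx₁, Subsingleton.elim x₁ 0]
        exact map_zero _
      exact ⟨fun x y => by rw [hx x, hx y]⟩

include hcp in
/-- `H^{q+1}(F/𝔪F) = 0 ⇒ H^q(F/JF) → H^q(F/J'F)` surjective when `𝔪 J' ≤ J ≤ J'` -/
theorem surjective_HmapL_modLE (q : ℕ)
    (hq : Subsingleton (Coh.HH X (modJ (IsLocalRing.maximalIdeal A) F) (q + 1))) (J' : Ideal A) :
    ∀ (J : Ideal A) (h : J ≤ J'), IsLocalRing.maximalIdeal A * J' ≤ J →
      Function.Surjective (HmapL (modLE h F) q) := by
  intro J
  induction J using IsNoetherian.induction with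
  | hgt J ih =>
    intro h hm
    by_cases hJ : J = J'
    · subst hJ
      intro x
      exact ⟨x, by rw [modLE_refl, HmapL_id]⟩
    · obtain ⟨a, ha, haJ⟩ := SetLike.exists_of_lt (lt_of_le_of_ne h hJ)
      have h2 : ∀ b ∈ IsLocalRing.maximalIdeal A, a * b ∈ J := fun b hb => hm (by
        rw [mul_comm a b]
        exact Ideal.mul_mem_mul hb ha)
      have h1 := mem_maximalIdeal_of_mul_mem J a haJ
      have hlt : J < Ja J a := lt_of_le_of_ne (le_Ja J a) (fun h => haJ (h ▸ mem_Ja J a))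
      have hle : Ja J a ≤ J' := sup_le h ((Ideal.span_singleton_le_iff_mem _).2 ha)
      have ih' := ih (Ja J a) hlt hle (hm.trans (le_Ja J a))
      haveI : Subsingleton (Coh.HH X (ses F J a).X₁ (q + 1)) :=
        subsingleton_HH_kernel F (IsLocalRing.maximalIdeal A) J a h2 hcp h1 (q + 1) hq
      intro x
      obtain ⟨x₁, hx₁⟩ := ih' x
      obtain ⟨x₂, hx₂⟩ := exact₃ (ses F J a) (ses_shortExact F J a) q x₁ (Subsingleton.elim _ _)
      refine ⟨x₂, ?_⟩
      rw [← modLE_comp (le_Ja J a) hle F, HmapL_comp]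
      change HmapL (modLE hle F) q (HmapL (ses F J a).g q x₂) = x
      rw [hx₂, hx₁]

end Coh


section Final

open Groth.Agent.Lib.R2H2.HHLin Groth.Agent.Lib.R2H2.ReesCoh Groth.Agent.Lib.R2H2.FormalFn

variable [IsNoetherianRing A] [IsLocalRing A] (F : X.Modules) [F.IsQuasicoherent]
  (hcp : ∀ U : X.Opens, IsAffineOpen U → ColonProp A F U)

include hcp in
/-- all `H^q(X, F/𝔪^{k+1}F)` vanish when `H^q(X, F/𝔪F)` does -/
theorem subsingleton_HHmodPow (q : ℕ)
    (hq : Subsingleton (Coh.HH X (modJ (IsLocalRing.maximalIdeal A) F) q)) (k : ℕ) :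
    Subsingleton (Formal.HHmodPow (IsLocalRing.maximalIdeal A) F q k) :=
  subsingleton_HH_modJ F hcp q hq (IsLocalRing.maximalIdeal A ^ (k + 1)) ⟨k + 1, le_rfl⟩

include hcp in
/-- the transition maps are surjective when `H^{q+1}(X, F/𝔪F)` vanishes -/
theorem HHmodPowTrans_surjective (q : ℕ)
    (hq : Subsingleton (Coh.HH X (modJ (IsLocalRing.maximalIdeal A) F) (q + 1))) (k : ℕ) :
    Function.Surjective (Formal.HHmodPowTrans (IsLocalRing.maximalIdeal A) F q k) :=
  surjective_HmapL_modLE F hcp q hq (IsLocalRing.maximalIdeal A ^ (k + 1))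
    (IsLocalRing.maximalIdeal A ^ (k + 1 + 1)) (Ideal.pow_le_pow_right (Nat.le_succ (k + 1)))
    (le_of_eq (pow_succ' (IsLocalRing.maximalIdeal A) (k + 1)).symm)

end Final

section Lim

variable (I : Ideal A) (F : X.Modules) (p : ℕ)

/-- the limit vanishes when all the terms do -/
theorem HHlim_eq_bot (h : ∀ k, Subsingleton (Formal.HHmodPow I F p k)) :
    Formal.HHlim I F p = ⊥ := by
  rw [eq_bot_iff]
  intro y _
  rw [AddSubgroup.mem_bot]
  funext k
  haveI := h k
  exact Subsingleton.elim _ _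

open Groth.Agent.Lib.R2H2.HHLin Groth.Agent.Lib.R2H2.ReesCoh Groth.Agent.Lib.R2H2.FormalFn

theorem surjective_completion_map
    (hs : ∀ k, Function.Surjective (Formal.HHmodPowTrans I F p k)) {n k : ℕ} (h : n ≤ k) :
    Function.Surjective (Hm ((Formal.completion I F).map (homOfLE h).op) p) := by
  induction k, h using Nat.le_induction with
  | base =>
    have h1 : (homOfLE (le_refl n)).op = 𝟙 (op n) := rfl
    rw [h1]
    intro x
    exact ⟨x, (congrArg (fun φ => Hm φ p x) ((Formal.completion I F).map_id (op n))).trans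
      (Hm_id _ p x)⟩
  | succ k hk ih =>
    have e : (homOfLE (hk.trans (Nat.le_succ k))).op =
        (homOfLE (Nat.le_add_right k 1)).op ≫ (homOfLE hk).op := rfl
    rw [e, Functor.map_comp]
    intro x
    obtain ⟨x₁, hx₁⟩ := ih x
    obtain ⟨x₂, hx₂⟩ := hs k x₁
    refine ⟨x₂, ?_⟩
    rw [Hm_comp]
    refine Eq.trans ?_ hx₁
    exact congrArg (Hm ((Formal.completion I F).map (homOfLE hk).op) p)
      ((congrArg (fun φ => Hm φ p x₂) (completion_map_succ I X F k)).trans hx₂)

/-- surjective transition maps ⇒ `H^p(X, F) → H^p(X, F/I^{n+1}F)` surjective (formal functions) -/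
theorem surjective_toHHmodPow [IsNoetherianRing A] [IsProper (X ↘ Spec (CommRingCat.of A))]
    (hF : Coh.IsCoh F) (hs : ∀ k, Function.Surjective (Formal.HHmodPowTrans I F p k)) (n : ℕ) :
    Function.Surjective (Formal.toHHmodPow I F p n) := by
  obtain ⟨c, hc⟩ := range_eq I X F p hF
  have h1 := hc n (n + c) (Nat.le_add_right n c) le_rfl
  intro z
  have h2 : z ∈ Set.range (Hm ((Formal.completion I F).map
      (homOfLE (Nat.le_add_right n c)).op) p) :=
    surjective_completion_map I F p hs (Nat.le_add_right n c) z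
  rw [h1] at h2
  exact h2

end Lim

end Groth.Agent.Lib.R2H2.FlatDev
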