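import Mathlib

/-!
# Additive functors from `A`-modules to abelian groups are `A`-linear endofunctors (helper2, round 2)

For a commutative ring `A` and an additive functor `G : ModuleCat A ⥤ AddCommGrpCat`, the group `G M`
is an `A`-module through `a ↦ G (a • 𝟙 M)`.

* `liftA G : ModuleCat A ⥤ ModuleCat A` (additive, `A`-linear), `liftForget : liftA G ⋙ forget₂ ≅ G`,
  `liftNat α : liftA G ⟶ liftA G'`, `liftIso`.
* `liftCx 𝒦 : ModuleCat A ⥤ HomologicalComplex (ModuleCat A) c` for an additive
  `𝒦 : ModuleCat A ⥤ HomologicalComplex AddCommGrpCat c`, `liftCxForget`, and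
  `liftCxHomologyIso : liftCx 𝒦 ⋙ homologyFunctor i ⋙ forget₂ ≅ 𝒦 ⋙ homologyFunctor i`.
* `mapHomologyNatIso F : F.mapHomologicalComplex c ⋙ homologyFunctor i ≅ homologyFunctor i ⋙ F` for
  a functor preserving homology.
-/

set_option autoImplicit false
universe u
open CategoryTheory CategoryTheory.Limits

noncomputable section

namespace Groth.Agent.Lib.R2H2.LiftA

variable {A : Type u} [CommRing A]

lemma smul_id_comp {M N : ModuleCat.{u} A} (a : A) (g : M ⟶ N) :
    (a • 𝟙 M) ≫ g = g ≫ (a • 𝟙 N) := by
  rw [Linear.smul_comp, Linear.comp_smul, Category.id_comp, Category.comp_id]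

section Single

variable (G : ModuleCat.{u} A ⥤ AddCommGrpCat.{u}) [G.Additive]

/-- the action of `A` on `G M` by functoriality -/
def actHom (M : ModuleCat.{u} A) : A →+* AddMonoid.End (G.obj M) where
  toFun a := (G.map (a • 𝟙 M)).hom
  map_one' := by
    rw [one_smul, G.map_id]
    rfl
  map_mul' a b := by
    have h : (a * b) • 𝟙 M = (b • 𝟙 M) ≫ (a • 𝟙 M) := by
      rw [Linear.smul_comp, Linear.comp_smul, Category.id_comp, smul_smul, mul_comm]
    rw [h, G.map_comp]
    rfl
  map_zero' := by
    rw [zero_smul, G.map_zero]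
    rfl
  map_add' a b := by
    rw [add_smul, G.map_add]
    rfl

/-- the `A`-module structure on `G M` -/
@[reducible] def modG (M : ModuleCat.{u} A) : Module A (G.obj M) :=
  Module.compHom (G.obj M) (actHom G M)

/-- `G M` as an `A`-module -/
def liftObj (M : ModuleCat.{u} A) : ModuleCat.{u} A :=
  letI := modG G M
  ModuleCat.of A (G.obj M)

lemma smul_def (M : ModuleCat.{u} A) (a : A) (x : liftObj G M) :
    a • x = (G.map (a • 𝟙 M)).hom (show G.obj M from x) := rfl

/-- `G g` as an `A`-linear map -/
def liftMap {M N : ModuleCat.{u} A} (g : M ⟶ N) : liftObj G M ⟶ liftObj G N :=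
  letI := modG G M
  letI := modG G N
  ModuleCat.ofHom
    { toFun := fun x => (G.map g).hom x
      map_add' := fun x y => map_add (G.map g).hom x y
      map_smul' := fun a x => by
        have h : G.map (a • 𝟙 M) ≫ G.map g = G.map g ≫ G.map (a • 𝟙 N) := by
          rw [← G.map_comp, ← G.map_comp, smul_id_comp]
        exact ConcreteCategory.congr_hom h x }

lemma liftMap_apply {M N : ModuleCat.{u} A} (g : M ⟶ N) (x : liftObj G M) :
    (liftMap G g).hom x = (G.map g).hom (show G.obj M from x) := rfl

/-- the `A`-linear lift of an additive functor to abelian groups -/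
def liftA : ModuleCat.{u} A ⥤ ModuleCat.{u} A where
  obj := liftObj G
  map g := liftMap G g
  map_id M := by
    ext x
    show (G.map (𝟙 M)).hom x = x
    rw [G.map_id]
    rfl
  map_comp g h := by
    ext x
    show (G.map (g ≫ h)).hom x = (G.map h).hom ((G.map g).hom x)
    rw [G.map_comp]
    rfl

lemma liftA_map_apply {M N : ModuleCat.{u} A} (g : M ⟶ N) (x : (liftA G).obj M) :
    ((liftA G).map g).hom x = (G.map g).hom (show G.obj M from x) := rfl

instance : (liftA G).Additive where
  map_add {M N f g} := by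
    ext x
    show (G.map (f + g)).hom x = (G.map f).hom x + (G.map g).hom x
    rw [G.map_add]
    rfl

instance : (liftA G).Linear A where
  map_smul {M N} f a := by
    ext x
    show (G.map (a • f)).hom x = (G.map (a • 𝟙 N)).hom ((G.map f).hom x)
    have h : a • f = f ≫ (a • 𝟙 N) := by rw [Linear.comp_smul, Category.comp_id]
    rw [h, G.map_comp]
    rfl

/-- forgetting the module structure gives back `G` -/
def liftForget : liftA G ⋙ forget₂ (ModuleCat.{u} A) AddCommGrpCat.{u} ≅ G :=
  NatIso.ofComponents (fun M => (AddEquiv.refl (G.obj M)).toAddCommGrpIso)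
    (fun {M N} g => by
      ext x
      rfl)

end Single

section Nat

variable {G G' : ModuleCat.{u} A ⥤ AddCommGrpCat.{u}} [G.Additive] [G'.Additive]

/-- a natural transformation is automatically `A`-linear -/
def liftNat (α : G ⟶ G') : liftA G ⟶ liftA G' where
  app M :=
    letI := modG G M
    letI := modG G' M
    ModuleCat.ofHom
      { toFun := fun x => (α.app M).hom x
        map_add' := fun x y => map_add (α.app M).hom x y
        map_smul' := fun a x =>
          ConcreteCategory.congr_hom (α.naturality (a • 𝟙 M)) x }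
  naturality M N g := by
    ext x
    exact ConcreteCategory.congr_hom (α.naturality g) x

lemma liftNat_app_apply (α : G ⟶ G') (M : ModuleCat.{u} A) (x : (liftA G).obj M) :
    ((liftNat α).app M).hom x = (α.app M).hom (show G.obj M from x) := rfl

lemma liftNat_id : liftNat (𝟙 G) = 𝟙 (liftA G) := by
  ext M x
  rfl

lemma liftNat_comp {G'' : ModuleCat.{u} A ⥤ AddCommGrpCat.{u}} [G''.Additive] (α : G ⟶ G')
    (β : G' ⟶ G'') : liftNat (α ≫ β) = liftNat α ≫ liftNat β := by
  ext M x
  rfl

/-- the lift of a natural isomorphism -/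
def liftIso (e : G ≅ G') : liftA G ≅ liftA G' where
  hom := liftNat e.hom
  inv := liftNat e.inv
  hom_inv_id := by rw [← liftNat_comp, e.hom_inv_id, liftNat_id]
  inv_hom_id := by rw [← liftNat_comp, e.inv_hom_id, liftNat_id]

end Nat

section MapHomology

variable {C D : Type*} [Category C] [Category D] [Abelian C] [Abelian D] (F : C ⥤ D) [F.Additive]
  [F.PreservesHomology] {ι : Type*} (c : ComplexShape ι)

/-- a functor preserving homology commutes with the homology of complexes, naturally -/
def mapHomologyNatIso (i : ι) :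
    F.mapHomologicalComplex c ⋙ HomologicalComplex.homologyFunctor D c i ≅
      HomologicalComplex.homologyFunctor C c i ⋙ F :=
  NatIso.ofComponents (fun K => (K.sc i).mapHomologyIso F)
    (fun {K L} φ => ShortComplex.mapHomologyIso_hom_naturality
      ((HomologicalComplex.shortComplexFunctor C c i).map φ) F)

end MapHomology

section Cx

variable {ι : Type*} {c : ComplexShape ι}
  (𝒦 : ModuleCat.{u} A ⥤ HomologicalComplex AddCommGrpCat.{u} c) [𝒦.Additive]

/-- the degree `i` part of a complex-valued functor -/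
abbrev ev (i : ι) : ModuleCat.{u} A ⥤ AddCommGrpCat.{u} :=
  𝒦 ⋙ HomologicalComplex.eval AddCommGrpCat.{u} c i

/-- the differential as a natural transformation -/
def dNat (i j : ι) : ev 𝒦 i ⟶ ev 𝒦 j where
  app M := (𝒦.obj M).d i j
  naturality M N g := (𝒦.map g).comm i j

/-- the lifted complex -/
def liftCxObj (M : ModuleCat.{u} A) : HomologicalComplex (ModuleCat.{u} A) c where
  X i := (liftA (ev 𝒦 i)).obj M
  d i j := (liftNat (dNat 𝒦 i j)).app M
  shape i j h := by
    ext x
    show ((𝒦.obj M).d i j).hom x = 0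
    rw [(𝒦.obj M).shape i j h]
    rfl
  d_comp_d' i j k _ _ := by
    ext x
    exact ConcreteCategory.congr_hom ((𝒦.obj M).d_comp_d i j k) x

/-- the `A`-linear lift of a complex-valued additive functor -/
def liftCx : ModuleCat.{u} A ⥤ HomologicalComplex (ModuleCat.{u} A) c where
  obj := liftCxObj 𝒦
  map g :=
    { f := fun i => (liftA (ev 𝒦 i)).map g
      comm' := fun i j _ => (liftNat (dNat 𝒦 i j)).naturality g }
  map_id M := by
    ext i : 1
    exact (liftA (ev 𝒦 i)).map_id M
  map_comp g h := by
    ext i : 1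
    exact (liftA (ev 𝒦 i)).map_comp g h

lemma liftCx_obj_X (M : ModuleCat.{u} A) (i : ι) :
    ((liftCx 𝒦).obj M).X i = (liftA (ev 𝒦 i)).obj M := rfl

lemma liftCx_obj_d (M : ModuleCat.{u} A) (i j : ι) :
    ((liftCx 𝒦).obj M).d i j = (liftNat (dNat 𝒦 i j)).app M := rfl

lemma liftCx_map_f {M N : ModuleCat.{u} A} (g : M ⟶ N) (i : ι) :
    ((liftCx 𝒦).map g).f i = (liftA (ev 𝒦 i)).map g := rfl

/-- forgetting the module structures gives back `𝒦` -/
def liftCxForget :
    liftCx 𝒦 ⋙ (forget₂ (ModuleCat.{u} A) AddCommGrpCat.{u}).mapHomologicalComplex c ≅ 𝒦 :=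
  NatIso.ofComponents
    (fun M => HomologicalComplex.Hom.isoOfComponents
      (fun i => (liftForget (ev 𝒦 i)).app M)
      (fun i j _ => by
        ext x
        rfl))
    (fun {M N} g => by
      ext i x
      rfl)

/-- homology of the lifted complex, after forgetting the module structure -/
def liftCxHomologyIso (i : ι) :
    liftCx 𝒦 ⋙ HomologicalComplex.homologyFunctor (ModuleCat.{u} A) c i ⋙
        forget₂ (ModuleCat.{u} A) AddCommGrpCat.{u} ≅
      𝒦 ⋙ HomologicalComplex.homologyFunctor AddCommGrpCat.{u} c i :=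
  (Functor.isoWhiskerLeft (liftCx 𝒦)
      (mapHomologyNatIso (forget₂ (ModuleCat.{u} A) AddCommGrpCat.{u}) c i).symm) ≪≫
    (Functor.associator _ _ _).symm ≪≫
    Functor.isoWhiskerRight (liftCxForget 𝒦) _

end Cx

end Groth.Agent.Lib.R2H2.LiftA
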