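import Mathlib
import Groth.Prelude.Def_ega3
import Groth.Agent.Lib.Helper16TensorCmp2
import Groth.Agent.Lib.R2H2LiftA

/-!
# Eilenberg–Watts for complex-valued functors (helper2, round 2)

* `tM_natT`: the Eilenberg–Watts comparison map `T(A) ⊗ M → T(M)` is natural in `T`.
* `tensorFun P : M ↦ P ⊗ M` as a functor to complexes; `TFunIso : CohIII.TFun P p ≅ tensorFun P ⋙ H_p`.
* `ewIso`: for an additive `𝒦 : ModuleCat A ⥤ HomologicalComplex AddCommGrpCat c` whose degreewise parts are
  right exact and commute with coproducts, `tensorFun (𝒦̃ A) ≅ 𝒦̃` (`𝒦̃ = liftCx 𝒦`), and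
  `ewHomologyIso : TFun (𝒦̃ A) i ⋙ forget₂ ≅ 𝒦 ⋙ H_i`.
* `preservesColimitsOfShape_liftA`, `bijective_tM_liftA`.
-/

set_option autoImplicit false
universe u
open CategoryTheory CategoryTheory.Limits MonoidalCategory

noncomputable section

namespace Groth.Agent.Lib.R2H2.EWCx

open Groth.Agent.Lib.Helper16.TensorCmp Groth.Agent.Lib.R2H2.LiftA

variable {A : Type u} [CommRing A]

section NatT

variable {T T' : ModuleCat.{u} A ⥤ ModuleCat.{u} A} [T.Additive] [T.Linear A] [T'.Additive]
  [T'.Linear A]

/-- naturality of the Eilenberg–Watts map in the functor -/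
lemma tM_natT (α : T ⟶ T') (M : ModuleCat.{u} A)
    (z : TensorProduct A (T.obj (ModuleCat.of A A)) M) :
    (α.app M).hom (tM T M z) =
      tM T' M (LinearMap.rTensor M (α.app (ModuleCat.of A A)).hom z) := by
  induction z using TensorProduct.induction_on with
  | zero => simp
  | tmul y x =>
    rw [tM_tmul, LinearMap.rTensor_tmul, tM_tmul]
    exact ConcreteCategory.congr_hom (α.naturality (θ x)) y
  | add a b ha hb => simp only [map_add, ha, hb]

end NatT

section TensorFun

variable {ι : Type} {c : ComplexShape ι}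

/-- `M ↦ P ⊗ M` as a functor to complexes -/
def tensorFun (P : HomologicalComplex (ModuleCat.{u} A) c) :
    ModuleCat.{u} A ⥤ HomologicalComplex (ModuleCat.{u} A) c where
  obj M := CohIII.tensorObj P M
  map g := CohIII.tensorMap P g
  map_id M := by
    have h : (tensoringRight (ModuleCat.{u} A)).map (𝟙 M) = 𝟙 _ :=
      (tensoringRight (ModuleCat.{u} A)).map_id M
    unfold CohIII.tensorMap
    rw [h, NatTrans.mapHomologicalComplex_id]
    rfl
  map_comp g h := by
    have e : (tensoringRight (ModuleCat.{u} A)).map (g ≫ h) =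
        (tensoringRight _).map g ≫ (tensoringRight _).map h :=
      (tensoringRight (ModuleCat.{u} A)).map_comp g h
    unfold CohIII.tensorMap
    rw [e, NatTrans.mapHomologicalComplex_comp, NatTrans.comp_app]

/-- the frozen `TFun` is `tensorFun` followed by homology -/
def TFunIso (P : HomologicalComplex (ModuleCat.{u} A) c) (p : ι) :
    CohIII.TFun P p ≅ tensorFun P ⋙ HomologicalComplex.homologyFunctor _ c p :=
  NatIso.ofComponents (fun M => Iso.refl _) (fun {M N} g => by
    exact (Category.comp_id _).trans (Category.id_comp _).symm)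

end TensorFun

section Preserves

variable (G : ModuleCat.{u} A ⥤ AddCommGrpCat.{u}) [G.Additive]

lemma preservesColimitsOfShape_liftA (J : Type*) [Category J] [PreservesColimitsOfShape J G]
    [HasColimitsOfShape J AddCommGrpCat.{u}] :
    PreservesColimitsOfShape J (liftA G) := by
  haveI : PreservesColimitsOfShape J
      (liftA G ⋙ forget₂ (ModuleCat.{u} A) AddCommGrpCat.{u}) :=
    preservesColimitsOfShape_of_natIso (liftForget G).symm
  exact preservesColimitsOfShape_of_reflects_of_preserves (liftA G)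
    (forget₂ (ModuleCat.{u} A) AddCommGrpCat.{u})

lemma preservesFiniteColimits_liftA [PreservesFiniteColimits G] :
    PreservesFiniteColimits (liftA G) :=
  ⟨fun J _ _ => preservesColimitsOfShape_liftA G J⟩

/-- **Eilenberg–Watts** for the lift of a right exact, coproduct preserving functor -/
theorem bijective_tM_liftA [PreservesFiniteColimits G]
    [∀ J : Type u, PreservesColimitsOfShape (Discrete J) G] (M : ModuleCat.{u} A) :
    Function.Bijective (tM (liftA G) M) := by
  haveI := preservesFiniteColimits_liftA G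
  haveI : ∀ J : Type u, PreservesColimitsOfShape (Discrete J) (liftA G) :=
    fun J => preservesColimitsOfShape_liftA G (Discrete J)
  exact ⟨tM_injective_of_pfc (liftA G) M, tM_surjective_of_pfc (liftA G) M⟩

end Preserves

section Main

variable {ι : Type} {c : ComplexShape ι}
  (𝒦 : ModuleCat.{u} A ⥤ HomologicalComplex AddCommGrpCat.{u} c) [𝒦.Additive]

/-- the complex of `A`-modules `𝒦(A)` -/
abbrev unitCx : HomologicalComplex (ModuleCat.{u} A) c := (liftCx 𝒦).obj (ModuleCat.of A A)

variable (h : ∀ (i : ι) (M : ModuleCat.{u} A), Function.Bijective (tM (liftA (ev 𝒦 i)) M))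

/-- the Eilenberg–Watts isomorphism of complexes `𝒦(A) ⊗ M ≅ 𝒦(M)` -/
def ewIsoApp (M : ModuleCat.{u} A) : (tensorFun (unitCx 𝒦)).obj M ≅ (liftCx 𝒦).obj M :=
  HomologicalComplex.Hom.isoOfComponents
    (fun i => (isoTensorLeft (liftA (ev 𝒦 i)) (h i)).app M)
    (fun i j _ => by
      ext z
      exact tM_natT (liftNat (dNat 𝒦 i j)) M z)

/-- the Eilenberg–Watts isomorphism, as a natural isomorphism -/
def ewIso : tensorFun (unitCx 𝒦) ≅ liftCx 𝒦 :=
  NatIso.ofComponents (ewIsoApp 𝒦 h) (fun {M N} g => by
    ext i : 1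
    exact (isoTensorLeft (liftA (ev 𝒦 i)) (h i)).hom.naturality g)

/-- the resulting description of the homology functors -/
def ewHomologyIso (i : ι) :
    CohIII.TFun (unitCx 𝒦) i ⋙ forget₂ (ModuleCat.{u} A) AddCommGrpCat.{u} ≅
      𝒦 ⋙ HomologicalComplex.homologyFunctor AddCommGrpCat.{u} c i :=
  Functor.isoWhiskerRight (TFunIso (unitCx 𝒦) i ≪≫
      Functor.isoWhiskerRight (ewIso 𝒦 h) (HomologicalComplex.homologyFunctor _ c i)) _ ≪≫
    Functor.associator _ _ _ ≪≫ liftCxHomologyIso 𝒦 i

end Main

end Groth.Agent.Lib.R2H2.EWCx
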