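import Mathlib
import Groth.Agent.Lib.Helper17HOne1

/-!
# Mumford's lemma: a complex with finitely generated homology over a Noetherian ring is
quasi-isomorphic to a complex of finitely generated free modules (helper2, round 2)

* `Stg`, `Link`, `exists_next`: the inductive step.
* `exists_quasiIso_nat`: for an `ℕ`-indexed chain complex `P` with finitely generated homology
  (elementwise form `FinHom`), a quasi-isomorphism `Q ⟶ P` with all `Q_n` finitely generated free.
-/

set_option autoImplicit false
universe u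
open CategoryTheory CategoryTheory.Limits

noncomputable section

namespace Groth.Agent.Lib.R2H2.Mumford

variable {A : Type u} [CommRing A] (P : ChainComplex (ModuleCat.{u} A) ℕ)

/-- elementwise finite generation of the homology in degree `n` -/
def FinHom (n : ℕ) : Prop :=
  ∃ (s : ℕ) (c : Fin s → P.X n), (∀ l m, P.d n m (c l) = 0) ∧
    ∀ x : P.X n, (∀ m, P.d n m x = 0) →
      ∃ (a : Fin s → A) (b : P.X (n + 1)), x = ∑ l, a l • c l + P.d (n + 1) n b

/-- the data in degree `n` -/
structure Stg (n : ℕ) where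
  Q : ModuleCat.{u} A
  fin : Module.Finite A Q
  free : Module.Free A Q
  u : Q ⟶ P.X n
  Z : Submodule A Q
  hZ : ∀ z ∈ Z, ∀ m, P.d n m (u z) = 0
  hsurj : ∀ x : P.X n, (∀ m, P.d n m x = 0) →
    ∃ z ∈ Z, ∃ b : P.X (n + 1), u z = x + P.d (n + 1) n b

/-- the data linking degrees `n` and `n + 1` -/
structure Link {n : ℕ} (s : Stg P n) (t : Stg P (n + 1)) where
  d : t.Q ⟶ s.Q
  comm : ∀ x, s.u (d x) = P.d (n + 1) n (t.u x)
  hZ : ∀ x, x ∈ t.Z ↔ d x = 0
  hrange : ∀ z : s.Q, (∃ x, d x = z) ↔ (z ∈ s.Z ∧ ∃ b, s.u z = P.d (n + 1) n b)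

variable {P}

section Constr

variable {ι : Type} [Fintype ι] {M : Type u} [AddCommGroup M] [Module A M]

/-- the linear map `A^ι → M` with prescribed values on the standard basis -/
def con (f : ι → M) : (ι → A) →ₗ[A] M := Fintype.linearCombination A f

theorem con_apply (f : ι → M) (x : ι → A) : con f x = ∑ i, x i • f i := rfl

theorem con_range (f : ι → M) :
    LinearMap.range (con (A := A) f) = Submodule.span A (Set.range f) :=
  Fintype.range_linearCombination A f

end Constr

section Step

variable [IsNoetherianRing A]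

/-- the inductive step -/
theorem exists_next {n : ℕ} (s : Stg P n) (hfin : FinHom P (n + 1)) :
    ∃ t : Stg P (n + 1), Nonempty (Link P s t) := by
  classical
  haveI := s.fin
  haveI : IsNoetherian A s.Q := isNoetherian_of_isNoetherianRing_of_finite A s.Q
  -- the cycles whose image is a boundary
  let K : Submodule A s.Q := s.Z ⊓ (LinearMap.range (P.d (n + 1) n).hom).comap s.u.hom
  obtain ⟨r, k, hk⟩ := (Submodule.fg_iff_exists_fin_generating_family).1
    (IsNoetherian.noetherian K)
  have hkK : ∀ j, k j ∈ K := fun j => by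
    rw [← hk]
    exact Submodule.subset_span ⟨j, rfl⟩
  have hp : ∀ j, ∃ p : P.X (n + 1), P.d (n + 1) n p = s.u (k j) := fun j => (hkK j).2
  choose p hp using hp
  obtain ⟨s', c, hc, hgen⟩ := hfin
  let dd : (Fin r ⊕ Fin s' → A) →ₗ[A] s.Q := con (Sum.elim k (fun _ => 0))
  let uu : (Fin r ⊕ Fin s' → A) →ₗ[A] P.X (n + 1) := con (Sum.elim p c)
  have hcomm : ∀ x, s.u (dd x) = P.d (n + 1) n (uu x) := by
    intro x
    change s.u (con (Sum.elim k (fun _ => 0)) x) = P.d (n + 1) n (con (Sum.elim p c) x)
    rw [con_apply, con_apply, map_sum, map_sum]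
    refine Finset.sum_congr rfl (fun i _ => ?_)
    rw [map_smul, map_smul]
    congr 1
    cases i with
    | inl j => exact (hp j).symm
    | inr l =>
      change s.u 0 = P.d (n + 1) n (c l)
      rw [map_zero, hc l n]
  have hrange : LinearMap.range dd = K := by
    change LinearMap.range (con (Sum.elim k (fun _ => 0))) = K
    rw [con_range, ← hk]
    apply le_antisymm
    · rw [Submodule.span_le]
      rintro _ ⟨i, rfl⟩
      cases i with
      | inl j => exact Submodule.subset_span ⟨j, rfl⟩
      | inr l => exact Submodule.zero_mem _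
    · rw [Submodule.span_le]
      rintro _ ⟨j, rfl⟩
      exact Submodule.subset_span ⟨Sum.inl j, rfl⟩
  let t : Stg P (n + 1) :=
    { Q := ModuleCat.of A (Fin r ⊕ Fin s' → A)
      fin := inferInstanceAs (Module.Finite A (Fin r ⊕ Fin s' → A))
      free := inferInstanceAs (Module.Free A (Fin r ⊕ Fin s' → A))
      u := ModuleCat.ofHom uu
      Z := LinearMap.ker dd
      hZ := by
        intro z hz m
        by_cases hm : m = n
        · subst hm
          change P.d (m + 1) m (uu z) = 0
          rw [← hcomm, LinearMap.mem_ker.1 hz, map_zero]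
        · have : ¬ (ComplexShape.down ℕ).Rel (n + 1) m := fun h => hm (by
            have : m + 1 = n + 1 := h
            omega)
          rw [P.shape _ _ this]
          rfl
      hsurj := by
        intro x hx
        obtain ⟨a, b, hab⟩ := hgen x hx
        refine ⟨Sum.elim 0 a, ?_, -b, ?_⟩
        · rw [LinearMap.mem_ker]
          change con (Sum.elim k (fun _ => 0)) (Sum.elim 0 a) = 0
          rw [con_apply, Fintype.sum_sum_type]
          simp
        · change con (Sum.elim p c) (Sum.elim 0 a) = _
          rw [con_apply, Fintype.sum_sum_type, hab, map_neg]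
          simp }
  refine ⟨t, ⟨{ d := ModuleCat.ofHom dd, comm := hcomm, hZ := fun x => LinearMap.mem_ker, hrange := ?_ }⟩⟩
  intro z
  have h1 : (∃ x, dd x = z) ↔ z ∈ K := by
    rw [← hrange]
    rfl
  refine h1.trans ?_
  constructor
  · rintro ⟨hz, b, hb⟩
    exact ⟨hz, b, hb.symm⟩
  · rintro ⟨hz, b, hb⟩
    exact ⟨hz, b, hb.symm⟩

/-- the initial stage -/
theorem exists_zero (hfin : FinHom P 0) : ∃ s : Stg P 0, s.Z = ⊤ := by
  classical
  obtain ⟨s', c, hc, hgen⟩ := hfin
  have hd0 : ∀ (m : ℕ) (x : P.X 0), P.d 0 m x = 0 := by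
    intro m x
    have : ¬ (ComplexShape.down ℕ).Rel 0 m := fun h => by
      have : m + 1 = 0 := h
      omega
    rw [P.shape _ _ this]
    rfl
  exact ⟨{ Q := ModuleCat.of A (Fin s' → A)
           fin := inferInstanceAs (Module.Finite A (Fin s' → A))
           free := inferInstanceAs (Module.Free A (Fin s' → A))
           u := ModuleCat.ofHom (con c)
           Z := ⊤
           hZ := fun z _ m => hd0 m _
           hsurj := by
            intro x hx
            obtain ⟨a, b, hab⟩ := hgen x hx
            refine ⟨a, trivial, -b, ?_⟩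
            change con c a = _
            rw [con_apply, hab, map_neg]
            abel }, rfl⟩

end Step

section Main

variable [IsNoetherianRing A] (hfin : ∀ n, FinHom P n)

/-- the stages -/
def stage : ∀ n : ℕ, Stg P n
  | 0 => (exists_zero (hfin 0)).choose
  | n + 1 => (exists_next (stage n) (hfin (n + 1))).choose

theorem stage_zero_Z : (stage hfin 0).Z = ⊤ := (exists_zero (hfin 0)).choose_spec

/-- the links -/
def link (n : ℕ) : Link P (stage hfin n) (stage hfin (n + 1)) :=
  (exists_next (stage hfin n) (hfin (n + 1))).choose_spec.some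

theorem link_comp (n : ℕ) : (link hfin (n + 1)).d ≫ (link hfin n).d = 0 := by
  ext x
  change (link hfin n).d ((link hfin (n + 1)).d x) = 0
  rw [← (link hfin n).hZ]
  exact (((link hfin (n + 1)).hrange _).1 ⟨x, rfl⟩).1

/-- the complex of finitely generated free modules -/
def Qc : ChainComplex (ModuleCat.{u} A) ℕ :=
  ChainComplex.of (fun n => (stage hfin n).Q) (fun n => (link hfin n).d) (link_comp hfin)

theorem Qc_d (n : ℕ) : (Qc hfin).d (n + 1) n = (link hfin n).d := by
  unfold Qc
  exact ChainComplex.of_d (fun n => (stage hfin n).Q) (fun n => (link hfin n).d) n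

/-- the quasi-isomorphism -/
def uc : Qc hfin ⟶ P where
  f n := (stage hfin n).u
  comm' i j hij := by
    have hij' : j + 1 = i := hij
    subst hij'
    rw [Qc_d]
    ext x
    exact ((link hfin j).comm x).symm

theorem quasiIso_uc : QuasiIso (uc hfin) := by
  refine ⟨fun n => ?_⟩
  cases n with
  | zero =>
    rw [ChainComplex.quasiIsoAt₀_iff]
    refine Groth.Agent.Lib.Helper17.HOne.quasiIso_of_elements _ ?_ ?_
    · intro x₂ _
      have hx : ∀ m, P.d 0 m x₂ = 0 := by
        intro m
        have : ¬ (ComplexShape.down ℕ).Rel 0 m := fun h => by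
          have : m + 1 = 0 := h
          omega
        rw [P.shape _ _ this]
        rfl
      obtain ⟨z, -, b, hb⟩ := (stage hfin 0).hsurj x₂ hx
      refine ⟨z, ?_, b, hb⟩
      have : ¬ (ComplexShape.down ℕ).Rel 0 0 := fun h => by
        have : 0 + 1 = 0 := h
        omega
      change (Qc hfin).d 0 0 z = 0
      rw [(Qc hfin).shape _ _ this]
      rfl
    · intro x₁ _ ⟨y, hy⟩
      have hz : (show ↑(stage hfin 0).Q from x₁) ∈ (stage hfin 0).Z := by
        rw [stage_zero_Z]
        trivial
      obtain ⟨x, hx⟩ := ((link hfin 0).hrange x₁).2 ⟨hz, y, hy⟩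
      refine ⟨x, ?_⟩
      change (Qc hfin).d 1 0 x = x₁
      rw [Qc_d]
      exact hx
  | succ n =>
    rw [quasiIsoAt_iff' _ (n + 1 + 1) (n + 1) n (by simp) (by simp)]
    refine Groth.Agent.Lib.Helper17.HOne.quasiIso_of_elements _ ?_ ?_
    · intro x₂ hx₂
      have hx : ∀ m, P.d (n + 1) m x₂ = 0 := by
        intro m
        by_cases hm : m = n
        · subst hm
          exact hx₂
        · have : ¬ (ComplexShape.down ℕ).Rel (n + 1) m := fun h => hm (by
            have : m + 1 = n + 1 := h
            omega)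
          rw [P.shape _ _ this]
          rfl
      obtain ⟨z, hz, b, hb⟩ := (stage hfin (n + 1)).hsurj x₂ hx
      refine ⟨z, ?_, b, hb⟩
      change (Qc hfin).d (n + 1) n z = 0
      rw [Qc_d]
      exact ((link hfin n).hZ z).1 hz
    · intro x₁ hx₁ ⟨y, hy⟩
      have hz : (show ↑(stage hfin (n + 1)).Q from x₁) ∈ (stage hfin (n + 1)).Z := by
        have h0 : (Qc hfin).d (n + 1) n x₁ = 0 := hx₁
        rw [Qc_d] at h0
        exact ((link hfin n).hZ x₁).2 h0
      obtain ⟨x, hx⟩ := ((link hfin (n + 1)).hrange x₁).2 ⟨hz, y, hy⟩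
      refine ⟨x, ?_⟩
      change (Qc hfin).d (n + 1 + 1) (n + 1) x = x₁
      rw [Qc_d]
      exact hx

end Main

section Fin

/-- a short complex of modules with finitely generated homology: elementwise form -/
theorem exists_generators_of_finite (S : ShortComplex (ModuleCat.{u} A))
    (h : Module.Finite A S.homology) :
    ∃ (s : ℕ) (c : Fin s → S.X₂), (∀ l, S.g (c l) = 0) ∧
      ∀ x : S.X₂, S.g x = 0 → ∃ (a : Fin s → A) (b : S.X₁), x = ∑ l, a l • c l + S.f b := by
  haveI : Module.Finite A (LinearMap.ker S.g.hom ⧸ LinearMap.range S.moduleCatToCycles) :=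
    Module.Finite.equiv S.moduleCatHomologyIso.toLinearEquiv
  obtain ⟨s, g, hg⟩ := (Submodule.fg_iff_exists_fin_generating_family).1
    (Module.Finite.fg_top (R := A)
      (M := LinearMap.ker S.g.hom ⧸ LinearMap.range S.moduleCatToCycles))
  have hlift : ∀ l, ∃ z : LinearMap.ker S.g.hom,
      (LinearMap.range S.moduleCatToCycles).mkQ z = g l :=
    fun l => Submodule.mkQ_surjective _ (g l)
  choose z hz using hlift
  refine ⟨s, fun l => (z l).1, fun l => (z l).2, fun x hx => ?_⟩
  have hmem : (LinearMap.range S.moduleCatToCycles).mkQ ⟨x, hx⟩ ∈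
      Submodule.span A (Set.range g) := by
    rw [hg]
    trivial
  obtain ⟨a, ha⟩ := (Submodule.mem_span_range_iff_exists_fun A).1 hmem
  have h0 : (LinearMap.range S.moduleCatToCycles).mkQ (⟨x, hx⟩ - ∑ l, a l • z l) = 0 := by
    rw [map_sub, map_sum, ← ha, sub_eq_zero]
    refine Finset.sum_congr rfl (fun l _ => ?_)
    rw [map_smul, hz]
  rw [Submodule.mkQ_apply, Submodule.Quotient.mk_eq_zero] at h0
  obtain ⟨b, hb⟩ := h0
  refine ⟨a, b, ?_⟩
  have h1 := congrArg Subtype.val hb
  have h2 : S.f b = x - ∑ l, a l • (z l).1 := by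
    rw [show S.f b = (S.moduleCatToCycles b).1 from rfl, h1]
    simp
  rw [h2]
  abel

theorem finHom_of_finite (n : ℕ) (h : Module.Finite A (P.homology n)) : FinHom P n := by
  have hS : Module.Finite A (P.sc' (n + 1) n ((ComplexShape.down ℕ).next n)).homology :=
    Module.Finite.equiv
      (P.homologyIsoSc' (n + 1) n ((ComplexShape.down ℕ).next n) (by simp) rfl).toLinearEquiv
  obtain ⟨s, c, hc, hgen⟩ := exists_generators_of_finite _ hS
  have key : ∀ x : P.X n, (P.d n ((ComplexShape.down ℕ).next n) x = 0) ↔ ∀ m, P.d n m x = 0 := by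
    intro x
    refine ⟨fun hx m => ?_, fun hx => hx _⟩
    by_cases hm : (ComplexShape.down ℕ).Rel n m
    · rw [(ComplexShape.down ℕ).next_eq' hm] at hx
      exact hx
    · rw [P.shape _ _ hm]
      rfl
  refine ⟨s, c, fun l m => (key (c l)).1 (hc l) m, fun x hx => ?_⟩
  exact hgen x ((key x).2 hx)

end Fin

/-- **Mumford's lemma**, for `ℕ`-indexed chain complexes -/
theorem exists_quasiIso_nat [IsNoetherianRing A] (P : ChainComplex (ModuleCat.{u} A) ℕ)
    (hP : ∀ n, Module.Finite A (P.homology n)) :
    ∃ (Q : ChainComplex (ModuleCat.{u} A) ℕ) (u : Q ⟶ P),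
      (∀ n, Module.Finite A (Q.X n) ∧ Module.Free A (Q.X n)) ∧ QuasiIso u :=
  ⟨Qc (fun n => finHom_of_finite n (hP n)), uc _,
    fun n => ⟨(stage _ n).fin, (stage _ n).free⟩, quasiIso_uc _⟩

end Groth.Agent.Lib.R2H2.Mumford
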