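import Mathlib
import Groth.Agent.Lib.R2H2Mumford

/-!
# Mumford's lemma for `ℤ`-indexed chain complexes bounded below in homology (helper2, round 2)

* `embDown d : (ComplexShape.down ℕ).Embedding (ComplexShape.down ℤ)`, `n ↦ d + n`.
* `exists_quasiIso_int`: a `ℤ`-indexed chain complex with finitely generated homology, zero below
  degree `d`, receives a quasi-isomorphism from a complex of finitely generated free modules that is
  zero below degree `d`.
-/

set_option autoImplicit false
universe u
open CategoryTheory CategoryTheory.Limits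

noncomputable section

namespace Groth.Agent.Lib.R2H2.MumfordZ

/-- the embedding `n ↦ d + n` of `down ℕ` into `down ℤ` -/
def embDown (d : ℤ) : (ComplexShape.down ℕ).Embedding (ComplexShape.down ℤ) :=
  ComplexShape.Embedding.mk' _ _ (fun n => d + n)
    (fun a b h => by have h' : d + (a : ℤ) = d + (b : ℤ) := h; omega)
    (by intro i j; simp only [ComplexShape.down_Rel]; omega)

@[simp] lemma embDown_f (d : ℤ) (n : ℕ) : (embDown d).f n = d + n := rfl

instance (d : ℤ) : (embDown d).IsRelIff := by dsimp [embDown]; infer_instance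

instance (d : ℤ) : (embDown d).IsTruncLE where
  mem_prev {i' k} h := ⟨k + 1, by
    have h' : (d + (k : ℤ)) + 1 = i' := h
    show d + ((k + 1 : ℕ) : ℤ) = i'
    push_cast
    omega⟩

lemma notMem_range_embDown_iff (d n : ℤ) :
    (∀ i : ℕ, (embDown d).f i ≠ n) ↔ n < d := by
  constructor
  · intro h
    by_contra hn
    exact h (n - d).natAbs (by show d + ((n - d).natAbs : ℤ) = n; omega)
  · intro h i
    show d + (i : ℤ) ≠ n
    omega

variable {A : Type u} [CommRing A]

lemma finite_free_of_isZero (M : ModuleCat.{u} A) (h : IsZero M) :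
    Module.Finite A M ∧ Module.Free A M := by
  haveI : Subsingleton M := ModuleCat.subsingleton_of_isZero h
  exact ⟨inferInstance, inferInstance⟩

/-- **Mumford's lemma**, for `ℤ`-indexed chain complexes -/
theorem exists_quasiIso_int [IsNoetherianRing A]
    (P : ChainComplex (ModuleCat.{u} A) ℤ) (hP : ∀ i, Module.Finite A (P.homology i)) (d : ℤ)
    (hd : ∀ i < d, IsZero (P.homology i)) :
    ∃ (Q : ChainComplex (ModuleCat.{u} A) ℤ) (u : Q ⟶ P),
      (∀ i, Module.Finite A (Q.X i) ∧ Module.Free A (Q.X i)) ∧ (∀ i < d, IsZero (Q.X i)) ∧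
        QuasiIso u := by
  classical
  let e := embDown d
  let P' : ChainComplex (ModuleCat.{u} A) ℕ := P.truncLE' e
  have hsupp : P.IsSupported e := ⟨fun i' hi' => by
    rw [HomologicalComplex.exactAt_iff_isZero_homology]
    exact hd i' ((notMem_range_embDown_iff d i').1 hi')⟩
  have hq1 : QuasiIso (P.ιTruncLE e) := (P.quasiIso_ιTruncLE_iff_isSupported e).2 hsupp
  have hP' : ∀ n, Module.Finite A (P'.homology n) := by
    intro n
    have i1 : P'.homology n ≅ (P'.extend e).homology (e.f n) :=
      (P'.extendHomologyIso e (j := n) rfl).symm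
    have i2 : (P'.extend e).homology (e.f n) ≅ (P.truncLE e).homology (e.f n) :=
      (HomologicalComplex.homologyFunctor _ _ (e.f n)).mapIso (P.truncLEIso e).symm
    have i3 : (P.truncLE e).homology (e.f n) ≅ P.homology (e.f n) :=
      asIso (HomologicalComplex.homologyMap (P.ιTruncLE e) (e.f n))
    haveI := hP (e.f n)
    exact Module.Finite.equiv (i1 ≪≫ i2 ≪≫ i3).symm.toLinearEquiv
  obtain ⟨Q₀, u₀, hQ₀, hu₀⟩ := Mumford.exists_quasiIso_nat P' hP'
  refine ⟨Q₀.extend e, HomologicalComplex.extendMap u₀ e ≫ (P.truncLEIso e).inv ≫ P.ιTruncLE e,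
    ?_, ?_, ?_⟩
  · intro i
    by_cases hi : ∃ n, e.f n = i
    · obtain ⟨n, hn⟩ := hi
      obtain ⟨h1, h2⟩ := hQ₀ n
      have iso := (Q₀.extendXIso e hn).symm.toLinearEquiv
      exact ⟨Module.Finite.equiv iso, Module.Free.of_equiv iso⟩
    · exact finite_free_of_isZero _ (Q₀.isZero_extend_X e i (by simpa using hi))
  · intro i hi
    exact Q₀.isZero_extend_X e i ((notMem_range_embDown_iff d i).2 hi)
  · haveI : QuasiIso (HomologicalComplex.extendMap u₀ e) :=
      (HomologicalComplex.quasiIso_extendMap_iff u₀ e).2 hu₀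
    infer_instance

end Groth.Agent.Lib.R2H2.MumfordZ
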