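import Mathlib
import Groth.Prelude.Def_ega3
import Groth.Agent.Lib.Helper3FlatCx
import Groth.Agent.Lib.Helper16TensorCmp2

/-!
# Quasi-isomorphisms of flat complexes stay quasi-isomorphisms after tensoring (helper2, round 2)

`quasiIso_tensorMapL`: `u : K ⟶ L` a quasi-isomorphism of `ℤ`-indexed chain complexes of flat
`A`-modules such that `H_i(K ⊗ M) = H_i(L ⊗ M) = 0` for all `i < d` and all `M`.  Then `u ⊗ M` is a
quasi-isomorphism for every `A`-module `M`.  (No boundedness on the other side is needed: descending
induction along free presentations.)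
-/

set_option autoImplicit false
universe u
open CategoryTheory CategoryTheory.Limits MonoidalCategory

noncomputable section

namespace Groth.Agent.Lib.R2H2.TensorQis

open Groth.Agent.Lib.Helper3

variable {A : Type u} [CommRing A] {ι : Type} {c : ComplexShape ι}

/-- the map `K ⊗ M ⟶ L ⊗ M` induced by `u : K ⟶ L` -/
abbrev tensorMapL {K L : HomologicalComplex (ModuleCat.{u} A) c} (u : K ⟶ L)
    (M : ModuleCat.{u} A) : CohIII.tensorObj K M ⟶ CohIII.tensorObj L M :=
  ((tensorRight M).mapHomologicalComplex c).map u

lemma tensorMapL_f {K L : HomologicalComplex (ModuleCat.{u} A) c} (u : K ⟶ L)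
    (M : ModuleCat.{u} A) (i : ι) : (tensorMapL u M).f i = u.f i ▷ M := rfl

/-- naturality of `tensorMapL` in the module -/
lemma tensorMapL_comm {K L : HomologicalComplex (ModuleCat.{u} A) c} (u : K ⟶ L)
    {M N : ModuleCat.{u} A} (g : M ⟶ N) :
    tensorMapL u M ≫ CohIII.tensorMap L g = CohIII.tensorMap K g ≫ tensorMapL u N := by
  ext i : 1
  show (u.f i ▷ M) ≫ (L.X i ◁ g) = (K.X i ◁ g) ≫ (u.f i ▷ N)
  exact (whisker_exchange (u.f i) g).symm

/-- the morphism of short complexes of complexes `K ⊗ S ⟶ L ⊗ S` -/
def tensorSCMap {K L : HomologicalComplex (ModuleCat.{u} A) c} (u : K ⟶ L)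
    (S : ShortComplex (ModuleCat.{u} A)) : tensorSC K S ⟶ tensorSC L S where
  τ₁ := tensorMapL u S.X₁
  τ₂ := tensorMapL u S.X₂
  τ₃ := tensorMapL u S.X₃
  comm₁₂ := tensorMapL_comm u S.f
  comm₂₃ := tensorMapL_comm u S.g

instance preservesHomology_tensorRight (M : ModuleCat.{u} A) [Module.Flat A M] :
    (tensorRight M).PreservesHomology := by
  haveI : PreservesFiniteColimits (tensorRight M) :=
    preservesFiniteColimits_of_natIso (BraidedCategory.tensorLeftIsoTensorRight M)
  exact ⟨fun _ => inferInstance, fun _ => inferInstance⟩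

lemma quasiIso_tensorMapL_of_flat {K L : HomologicalComplex (ModuleCat.{u} A) c} (u : K ⟶ L)
    [QuasiIso u] (M : ModuleCat.{u} A) [Module.Flat A M] : QuasiIso (tensorMapL u M) := by
  unfold tensorMapL
  infer_instance

/-- **tensoring a quasi-isomorphism of flat complexes** -/
theorem quasiIso_tensorMapL {K L : ChainComplex (ModuleCat.{u} A) ℤ} (u : K ⟶ L) [QuasiIso u]
    (hK : ∀ i, Module.Flat A (K.X i)) (hL : ∀ i, Module.Flat A (L.X i)) (d : ℤ)
    (hvK : ∀ (M : ModuleCat.{u} A) (i : ℤ), i < d → IsZero ((CohIII.tensorObj K M).homology i))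
    (hvL : ∀ (M : ModuleCat.{u} A) (i : ℤ), i < d → IsZero ((CohIII.tensorObj L M).homology i))
    (M : ModuleCat.{u} A) : QuasiIso (tensorMapL u M) := by
  have key : ∀ (n : ℕ) (i : ℤ), i < d + n → ∀ M : ModuleCat.{u} A,
      IsIso (HomologicalComplex.homologyMap (tensorMapL u M) i) := by
    intro n
    induction n with
    | zero =>
      intro i hi M
      have hi' : i < d := by simpa using hi
      exact ⟨⟨0, (hvK M i hi').eq_of_src _ _, (hvL M i hi').eq_of_src _ _⟩⟩
    | succ n ih =>
      intro i hi
      by_cases hlt : i < d + n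
      · exact ih i hlt
      have hi0 : i = d + n := by push_cast at hi; omega
      -- the data for a module
      have hdata : ∀ M : ModuleCat.{u} A, ∃ (S : ShortComplex (ModuleCat.{u} A)),
          S.ShortExact ∧ Module.Flat A S.X₂ ∧ S.X₃ = M := by
        intro M
        let p := Groth.Agent.Lib.Helper16.TensorCmp.freeCover M
        haveI hp : Epi p := (ModuleCat.epi_iff_surjective _).2
          (Groth.Agent.Lib.Helper16.TensorCmp.freeCover_surjective M)
        let S := ShortComplex.kernelSequence p
        haveI : Epi S.g := hp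
        refine ⟨S, ⟨ShortComplex.kernelSequence_exact p⟩, ?_, rfl⟩
        show Module.Flat A (M →₀ A)
        infer_instance
      have hrel : ∀ j, (ComplexShape.down ℤ).Rel i j → j < d + n := by
        intro j hj
        have : j + 1 = i := hj
        omega
      have hepi : ∀ M : ModuleCat.{u} A,
          Epi (HomologicalComplex.homologyMap (tensorMapL u M) i) := by
        intro M
        obtain ⟨S, hS, hfl, rfl⟩ := hdata M
        haveI := hfl
        haveI hq : QuasiIso (tensorMapL u S.X₂) := quasiIso_tensorMapL_of_flat u S.X₂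
        have hS₁ := tensorSC_shortExact K hK S hS
        have hS₂ := tensorSC_shortExact L hL S hS
        refine HomologicalComplex.HomologySequence.epi_homologyMap_τ₃ (tensorSCMap u S) hS₁ hS₂ i
          ?_ ?_ ?_
        · show Epi (HomologicalComplex.homologyMap (tensorMapL u S.X₂) i)
          infer_instance
        · intro j hj
          haveI := ih j (hrel j hj) S.X₁
          show Epi (HomologicalComplex.homologyMap (tensorMapL u S.X₁) j)
          infer_instance
        · intro j hj
          show Mono (HomologicalComplex.homologyMap (tensorMapL u S.X₂) j)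
          infer_instance
      intro M
      obtain ⟨S, hS, hfl, rfl⟩ := hdata M
      haveI := hfl
      haveI hq : QuasiIso (tensorMapL u S.X₂) := quasiIso_tensorMapL_of_flat u S.X₂
      have hS₁ := tensorSC_shortExact K hK S hS
      have hS₂ := tensorSC_shortExact L hL S hS
      haveI hm : Mono (HomologicalComplex.homologyMap (tensorMapL u S.X₃) i) := by
        refine HomologicalComplex.HomologySequence.mono_homologyMap_τ₃ (tensorSCMap u S) hS₁ hS₂ i
          ?_ ?_ ?_
        · exact hepi S.X₁
        · show Mono (HomologicalComplex.homologyMap (tensorMapL u S.X₂) i)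
          infer_instance
        · intro j hj
          haveI := ih j (hrel j hj) S.X₁
          show Mono (HomologicalComplex.homologyMap (tensorMapL u S.X₁) j)
          infer_instance
      haveI := hepi S.X₃
      exact isIso_of_mono_of_epi _
  rw [quasiIso_iff]
  intro i
  rw [quasiIsoAt_iff_isIso_homologyMap]
  by_cases hi : i < d
  · exact key 0 i (by simpa using hi) M
  · refine key ((i - d).toNat + 1) i ?_ M
    push_cast
    have : ((i - d).toNat : ℤ) = i - d := Int.toNat_of_nonneg (by omega)
    omega

end Groth.Agent.Lib.R2H2.TensorQis
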