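import Mathlib
import Groth.Prelude.Def_ega3
import Groth.Agent.Lib.R2H2EWCx
import Groth.Agent.Lib.R2H2TensorQis
import Groth.Agent.Lib.R2H2MumfordZ
import Groth.Agent.Lib.Helper3FlatCx

/-!
# Grothendieck's complex for a complex-valued functor on modules (helper2, round 2)

`exists_complex`: `A` Noetherian, `𝒦 : ModuleCat A ⥤ ChainComplex AddCommGrpCat ℤ` additive, degreewise
right exact and commuting with coproducts, with `𝒦(A)` degreewise flat and with finitely generated
homology (for the functorial `A`-module structures), and `H_i(𝒦 M) = 0` for `i < d` and all `M`.  Then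
there is a complex `Q` of finitely generated free `A`-modules, zero below `d`, with
`H_i(Q ⊗ M) ≅ H_i(𝒦 M)` naturally in `M`.
-/

set_option autoImplicit false
universe u
open CategoryTheory CategoryTheory.Limits MonoidalCategory

noncomputable section

namespace Groth.Agent.Lib.R2H2.GAlg

open Groth.Agent.Lib.R2H2.LiftA Groth.Agent.Lib.R2H2.EWCx Groth.Agent.Lib.R2H2.TensorQis
  Groth.Agent.Lib.Helper3

variable {A : Type u} [CommRing A]

section Linear

variable {ι : Type*} {c : ComplexShape ι}

lemma homologyMap_smul {K L : HomologicalComplex (ModuleCat.{u} A) c} (φ : K ⟶ L) (a : A) (i : ι) :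
    HomologicalComplex.homologyMap (a • φ) i = a • HomologicalComplex.homologyMap φ i := by
  have h : (HomologicalComplex.shortComplexFunctor (ModuleCat.{u} A) c i).map (a • φ) =
      a • (HomologicalComplex.shortComplexFunctor (ModuleCat.{u} A) c i).map φ := by
    ext <;> rfl
  show ShortComplex.homologyMap
    ((HomologicalComplex.shortComplexFunctor (ModuleCat.{u} A) c i).map (a • φ)) = _
  rw [h]
  exact ShortComplex.homologyMap_smul _ _

instance homologyFunctor_linear (i : ι) :
    (HomologicalComplex.homologyFunctor (ModuleCat.{u} A) c i).Linear A where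
  map_smul φ a := homologyMap_smul φ a i

variable (𝒦 : ModuleCat.{u} A ⥤ HomologicalComplex AddCommGrpCat.{u} c) [𝒦.Additive]

instance : (liftCx 𝒦).Additive where
  map_add {M N f g} := by
    ext i : 1
    exact (liftA (ev 𝒦 i)).map_add

instance : (liftCx 𝒦).Linear A where
  map_smul {M N} f a := by
    ext i : 1
    exact Functor.Linear.map_smul (F := liftA (ev 𝒦 i)) f a

end Linear

section LiftForget

variable (T : ModuleCat.{u} A ⥤ ModuleCat.{u} A) [T.Additive] [T.Linear A]

/-- for an `A`-linear functor, the functorial module structure is the given one -/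
def liftAForget : liftA (T ⋙ forget₂ (ModuleCat.{u} A) AddCommGrpCat.{u}) ≅ T :=
  NatIso.ofComponents (fun M =>
    letI := modG (T ⋙ forget₂ (ModuleCat.{u} A) AddCommGrpCat.{u}) M
    LinearEquiv.toModuleIso
      (X₁ := ((T ⋙ forget₂ (ModuleCat.{u} A) AddCommGrpCat.{u}).obj M : Type u))
      (X₂ := T.obj M)
      { toFun := fun x => x
        invFun := fun x => x
        left_inv := fun _ => rfl
        right_inv := fun _ => rfl
        map_add' := fun _ _ => rfl
        map_smul' := fun a x => by
          have h : T.map (a • 𝟙 M) = a • 𝟙 (T.obj M) := by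
            rw [Functor.Linear.map_smul (F := T), T.map_id]
          exact congrArg (fun φ : T.obj M ⟶ T.obj M => φ.hom x) h })
    (fun {M N} g => by
      ext x
      rfl)

end LiftForget

section Main

variable [IsNoetherianRing A]
  (𝒦 : ModuleCat.{u} A ⥤ ChainComplex AddCommGrpCat.{u} ℤ) [𝒦.Additive]

/-- the homology of `𝒦(A)`, with its functorial module structure -/
def homologyUnitIso (i : ℤ) :
    (unitCx 𝒦).homology i ≅
      (liftA (𝒦 ⋙ HomologicalComplex.homologyFunctor AddCommGrpCat.{u} _ i)).obj
        (ModuleCat.of A A) :=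
  ((liftAForget (liftCx 𝒦 ⋙ HomologicalComplex.homologyFunctor (ModuleCat.{u} A) _ i)).symm.app
      (ModuleCat.of A A)) ≪≫
    (liftIso (liftCxHomologyIso 𝒦 i)).app (ModuleCat.of A A)

/-- **Grothendieck's complex** -/
theorem exists_complex
    (h1 : ∀ i, PreservesFiniteColimits (ev 𝒦 i))
    (h2 : ∀ (i : ℤ) (J : Type u), PreservesColimitsOfShape (Discrete J) (ev 𝒦 i))
    (hflat : ∀ i, Module.Flat A ((liftA (ev 𝒦 i)).obj (ModuleCat.of A A)))
    (hfin : ∀ i, Module.Finite A
      ((liftA (𝒦 ⋙ HomologicalComplex.homologyFunctor AddCommGrpCat.{u} _ i)).obj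
        (ModuleCat.of A A)))
    (d : ℤ) (hd : ∀ (M : ModuleCat.{u} A) (i : ℤ), i < d → IsZero ((𝒦.obj M).homology i)) :
    ∃ Q : ChainComplex (ModuleCat.{u} A) ℤ,
      (∀ i, Module.Finite A (Q.X i) ∧ Module.Free A (Q.X i)) ∧ (∀ i < d, IsZero (Q.X i)) ∧
      ∀ i : ℤ, Nonempty (CohIII.TFun Q i ⋙ forget₂ (ModuleCat.{u} A) AddCommGrpCat.{u} ≅
        𝒦 ⋙ HomologicalComplex.homologyFunctor AddCommGrpCat.{u} _ i) := by
  have hb : ∀ (i : ℤ) (M : ModuleCat.{u} A),
      Function.Bijective (Groth.Agent.Lib.Helper16.TensorCmp.tM (liftA (ev 𝒦 i)) M) := by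
    intro i M
    haveI := h1 i
    haveI := h2 i
    exact bijective_tM_liftA (ev 𝒦 i) M
  let C := unitCx 𝒦
  -- vanishing for `C`
  have hvC : ∀ (M : ModuleCat.{u} A) (i : ℤ), i < d →
      IsZero ((CohIII.tensorObj C M).homology i) := by
    intro M i hi
    have e := (ewHomologyIso 𝒦 hb i).app M
    have hz : IsZero ((forget₂ (ModuleCat.{u} A) AddCommGrpCat.{u}).obj
        ((CohIII.tensorObj C M).homology i)) := (hd M i hi).of_iso e
    haveI : Subsingleton ((CohIII.tensorObj C M).homology i) :=
      AddCommGrpCat.subsingleton_of_isZero hz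
    exact ModuleCat.isZero_of_subsingleton _
  have hCfin : ∀ i, Module.Finite A (C.homology i) := by
    intro i
    haveI := hfin i
    exact Module.Finite.equiv (homologyUnitIso 𝒦 i).symm.toLinearEquiv
  have hCzero : ∀ i < d, IsZero (C.homology i) := by
    intro i hi
    exact (hvC (ModuleCat.of A A) i hi).of_iso (TUnitIso C i).symm
  obtain ⟨Q, u, hQ, hQz, hu⟩ := Groth.Agent.Lib.R2H2.MumfordZ.exists_quasiIso_int C hCfin d hCzero
  haveI := hu
  refine ⟨Q, hQ, hQz, fun i => ?_⟩
  have hQflat : ∀ i, Module.Flat A (Q.X i) := fun i => by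
    haveI := (hQ i).2
    infer_instance
  have hvQ : ∀ (M : ModuleCat.{u} A) (i : ℤ), i < d →
      IsZero ((CohIII.tensorObj Q M).homology i) := by
    intro M i hi
    have hz : IsZero ((CohIII.tensorObj Q M).X i) := (tensorRight M).map_isZero (hQz i hi)
    exact (HomologicalComplex.exactAt_iff_isZero_homology _ _).1
      (ShortComplex.exact_of_isZero_X₂ _ hz)
  have hq : ∀ M : ModuleCat.{u} A, QuasiIso (tensorMapL u M) :=
    fun M => quasiIso_tensorMapL u hQflat hflat d hvQ hvC M
  -- the natural isomorphism `TFun Q i ≅ TFun C i`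
  let e1 : CohIII.TFun Q i ≅ CohIII.TFun C i :=
    NatIso.ofComponents
      (fun M => @asIso _ _ _ _ (HomologicalComplex.homologyMap (tensorMapL u M) i)
        ((quasiIsoAt_iff_isIso_homologyMap _ _).1 ((quasiIso_iff _).1 (hq M) i)))
      (fun {M N} g => by
        show HomologicalComplex.homologyMap (CohIII.tensorMap Q g) i ≫
            HomologicalComplex.homologyMap (tensorMapL u N) i =
          HomologicalComplex.homologyMap (tensorMapL u M) i ≫
            HomologicalComplex.homologyMap (CohIII.tensorMap C g) i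
        rw [← HomologicalComplex.homologyMap_comp, ← HomologicalComplex.homologyMap_comp,
          tensorMapL_comm])
  exact ⟨Functor.isoWhiskerRight e1 _ ≪≫ ewHomologyIso 𝒦 hb i⟩

end Main

end Groth.Agent.Lib.R2H2.GAlg
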