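import Mathlib
import Groth.Prelude.Def_ega3
import Groth.Agent.Lib.R2H2GAlg

/-!
# Grothendieck's complex for a cochain-complex-valued functor (helper2, round 2)

`exists_complex_nat`: the version of `GAlg.exists_complex` for an additive functor
`𝒢 : ModuleCat A ⥤ CochainComplex AddCommGrpCat ℕ` (re-indexed through `n ↦ -n`).
-/

set_option autoImplicit false
universe u
open CategoryTheory CategoryTheory.Limits

noncomputable section

namespace Groth.Agent.Lib.R2H2.GAlgN

open Groth.Agent.Lib.R2H2.LiftA Groth.Agent.Lib.R2H2.EWCx Groth.Agent.Lib.R2H2.GAlg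

/-- the embedding `n ↦ -n` of `up ℕ` into `down ℤ` -/
def embNeg : (ComplexShape.up ℕ).Embedding (ComplexShape.down ℤ) :=
  ComplexShape.Embedding.mk' _ _ (fun n => -(n : ℤ))
    (fun a b h => by have h' : -(a : ℤ) = -(b : ℤ) := h; omega)
    (by intro i j; simp only [ComplexShape.up_Rel, ComplexShape.down_Rel]; omega)

@[simp] lemma embNeg_f (n : ℕ) : embNeg.f n = -(n : ℤ) := rfl

instance : embNeg.IsRelIff := by dsimp [embNeg]; infer_instance

lemma not_mem_range_embNeg (i : ℤ) (hi : ¬ ∃ n, embNeg.f n = i) : 0 < i := by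
  by_contra h
  exact hi ⟨(-i).toNat, by show -((-i).toNat : ℤ) = i; omega⟩

variable {A : Type u} [CommRing A]
  (𝒢 : ModuleCat.{u} A ⥤ CochainComplex AddCommGrpCat.{u} ℕ) [𝒢.Additive]

/-- the `ℤ`-indexed chain complex version -/
abbrev ext : ModuleCat.{u} A ⥤ ChainComplex AddCommGrpCat.{u} ℤ :=
  𝒢 ⋙ embNeg.extendFunctor AddCommGrpCat.{u}

/-- the degree `-n` part of the extension is the degree `n` part -/
def evIso (n : ℕ) :
    ev (ext 𝒢) (-(n : ℤ)) ≅ 𝒢 ⋙ HomologicalComplex.eval AddCommGrpCat.{u} _ n :=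
  NatIso.ofComponents (fun M => (𝒢.obj M).extendXIso embNeg
      (show embNeg.f n = -(n : ℤ) from rfl))
    (fun {M N} g => by
      have h := HomologicalComplex.extendMap_f (𝒢.map g) embNeg
        (show embNeg.f n = -(n : ℤ) from rfl)
      show (HomologicalComplex.extendMap (𝒢.map g) embNeg).f (-(n : ℤ)) ≫
          ((𝒢.obj N).extendXIso embNeg (show embNeg.f n = -(n : ℤ) from rfl)).hom =
        ((𝒢.obj M).extendXIso embNeg (show embNeg.f n = -(n : ℤ) from rfl)).hom ≫ (𝒢.map g).f n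
      rw [h, Category.assoc, Category.assoc, Iso.inv_hom_id, Category.comp_id])

lemma isZero_ev (i : ℤ) (hi : ¬ ∃ n, embNeg.f n = i) (M : ModuleCat.{u} A) :
    IsZero ((ev (ext 𝒢) i).obj M) :=
  (𝒢.obj M).isZero_extend_X embNeg i (by simpa using hi)

/-- homology in degree `-n` of the extension is the homology in degree `n` -/
def homologyIso (n : ℕ) :
    ext 𝒢 ⋙ HomologicalComplex.homologyFunctor AddCommGrpCat.{u} _ (-(n : ℤ)) ≅
      𝒢 ⋙ HomologicalComplex.homologyFunctor AddCommGrpCat.{u} _ n :=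
  NatIso.ofComponents (fun M => (𝒢.obj M).extendHomologyIso embNeg (j := n) rfl)
    (fun {M N} g =>
      HomologicalComplex.extendHomologyIso_hom_naturality (𝒢.map g) embNeg (j := n) rfl)

lemma isZero_homology (i : ℤ) (hi : ¬ ∃ n, embNeg.f n = i) (M : ModuleCat.{u} A) :
    IsZero (((ext 𝒢).obj M).homology i) :=
  (HomologicalComplex.exactAt_iff_isZero_homology _ _).1
    ((𝒢.obj M).extend_exactAt embNeg i (by simpa using hi))

/-- **Grothendieck's complex**, for a cochain-complex-valued functor, with vanishing of `T_i`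
for `i > 0` -/
theorem exists_complex_nat' [IsNoetherianRing A]
    (h1 : ∀ n : ℕ, PreservesFiniteColimits (𝒢 ⋙ HomologicalComplex.eval AddCommGrpCat.{u} _ n))
    (h2 : ∀ (n : ℕ) (J : Type u), PreservesColimitsOfShape (Discrete J)
      (𝒢 ⋙ HomologicalComplex.eval AddCommGrpCat.{u} _ n))
    (hflat : ∀ n : ℕ, Module.Flat A
      ((liftA (𝒢 ⋙ HomologicalComplex.eval AddCommGrpCat.{u} _ n)).obj (ModuleCat.of A A)))
    (hfin : ∀ n : ℕ, Module.Finite A
      ((liftA (𝒢 ⋙ HomologicalComplex.homologyFunctor AddCommGrpCat.{u} _ n)).obj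
        (ModuleCat.of A A)))
    (b : ℕ) (hb : ∀ (M : ModuleCat.{u} A) (p : ℕ), b ≤ p → IsZero ((𝒢.obj M).homology p)) :
    ∃ Q : ChainComplex (ModuleCat.{u} A) ℤ,
      (∀ i, Module.Finite A (Q.X i) ∧ Module.Free A (Q.X i)) ∧
      (∀ i : ℤ, i < 1 - (b : ℤ) → IsZero (Q.X i)) ∧
      (∀ i : ℤ, 0 < i → ∀ M : ModuleCat.{u} A, IsZero ((CohIII.TFun Q i).obj M)) ∧
      ∀ p : ℕ, Nonempty
        (CohIII.TFun Q (-(p : ℤ)) ⋙ forget₂ (ModuleCat.{u} A) AddCommGrpCat.{u} ≅
          𝒢 ⋙ HomologicalComplex.homologyFunctor AddCommGrpCat.{u} _ p) := by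
  have hzeroF : ∀ i : ℤ, (¬ ∃ n, embNeg.f n = i) → IsZero (ev (ext 𝒢) i) :=
    fun i hi => Functor.isZero _ (fun M => isZero_ev 𝒢 i hi M)
  obtain ⟨Q, hQ, hQz, hQi⟩ := exists_complex (ext 𝒢)
    (by
      intro i
      by_cases hi : ∃ n, embNeg.f n = i
      · obtain ⟨n, rfl⟩ := hi
        haveI := h1 n
        exact preservesFiniteColimits_of_natIso (evIso 𝒢 n).symm
      · exact ⟨fun J _ _ => Functor.preservesColimitsOfShape_of_isZero _ (hzeroF i hi) J⟩)
    (by
      intro i J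
      by_cases hi : ∃ n, embNeg.f n = i
      · obtain ⟨n, rfl⟩ := hi
        haveI := h2 n J
        exact preservesColimitsOfShape_of_natIso (evIso 𝒢 n).symm
      · exact Functor.preservesColimitsOfShape_of_isZero _ (hzeroF i hi) _)
    (by
      intro i
      by_cases hi : ∃ n, embNeg.f n = i
      · obtain ⟨n, rfl⟩ := hi
        haveI := hflat n
        exact Module.Flat.of_linearEquiv
          ((liftIso (evIso 𝒢 n)).app (ModuleCat.of A A)).toLinearEquiv
      · haveI : Subsingleton ((liftA (ev (ext 𝒢) i)).obj (ModuleCat.of A A)) :=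
          AddCommGrpCat.subsingleton_of_isZero (isZero_ev 𝒢 i hi (ModuleCat.of A A))
        infer_instance)
    (by
      intro i
      by_cases hi : ∃ n, embNeg.f n = i
      · obtain ⟨n, rfl⟩ := hi
        haveI := hfin n
        exact Module.Finite.equiv
          ((liftIso (homologyIso 𝒢 n)).app (ModuleCat.of A A)).symm.toLinearEquiv
      · haveI : Subsingleton
            ((liftA (ext 𝒢 ⋙ HomologicalComplex.homologyFunctor AddCommGrpCat.{u} _ i)).obj
              (ModuleCat.of A A)) :=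
          AddCommGrpCat.subsingleton_of_isZero (isZero_homology 𝒢 i hi (ModuleCat.of A A))
        infer_instance)
    (1 - (b : ℤ))
    (by
      intro M i hi'
      by_cases hi : ∃ n, embNeg.f n = i
      · obtain ⟨n, rfl⟩ := hi
        have hn : b ≤ n := by
          have : -(n : ℤ) < 1 - (b : ℤ) := hi'
          omega
        exact (hb M n hn).of_iso ((homologyIso 𝒢 n).app M)
      · exact isZero_homology 𝒢 i hi M)
  refine ⟨Q, hQ, hQz, fun i hi M => ?_, fun p => ?_⟩
  · obtain ⟨e⟩ := hQi i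
    have hn : ¬ ∃ n, embNeg.f n = i := by
      rintro ⟨n, hn⟩
      have : -(n : ℤ) = i := hn
      omega
    have hz : IsZero ((forget₂ (ModuleCat.{u} A) AddCommGrpCat.{u}).obj ((CohIII.TFun Q i).obj M)) :=
      (isZero_homology 𝒢 i hn M).of_iso (e.app M)
    haveI : Subsingleton ((CohIII.TFun Q i).obj M) := AddCommGrpCat.subsingleton_of_isZero hz
    exact ModuleCat.isZero_of_subsingleton _
  · obtain ⟨e⟩ := hQi (-(p : ℤ))
    exact ⟨e ≪≫ homologyIso 𝒢 p⟩

/-- **Grothendieck's complex**, for a cochain-complex-valued functor -/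
theorem exists_complex_nat [IsNoetherianRing A]
    (h1 : ∀ n : ℕ, PreservesFiniteColimits (𝒢 ⋙ HomologicalComplex.eval AddCommGrpCat.{u} _ n))
    (h2 : ∀ (n : ℕ) (J : Type u), PreservesColimitsOfShape (Discrete J)
      (𝒢 ⋙ HomologicalComplex.eval AddCommGrpCat.{u} _ n))
    (hflat : ∀ n : ℕ, Module.Flat A
      ((liftA (𝒢 ⋙ HomologicalComplex.eval AddCommGrpCat.{u} _ n)).obj (ModuleCat.of A A)))
    (hfin : ∀ n : ℕ, Module.Finite A
      ((liftA (𝒢 ⋙ HomologicalComplex.homologyFunctor AddCommGrpCat.{u} _ n)).obj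
        (ModuleCat.of A A)))
    (b : ℕ) (hb : ∀ (M : ModuleCat.{u} A) (p : ℕ), b ≤ p → IsZero ((𝒢.obj M).homology p)) :
    ∃ Q : ChainComplex (ModuleCat.{u} A) ℤ,
      (∀ i, Module.Finite A (Q.X i) ∧ Module.Free A (Q.X i)) ∧
      (∀ i : ℤ, i < 1 - (b : ℤ) → IsZero (Q.X i)) ∧
      ∀ p : ℕ, Nonempty
        (CohIII.TFun Q (-(p : ℤ)) ⋙ forget₂ (ModuleCat.{u} A) AddCommGrpCat.{u} ≅
          𝒢 ⋙ HomologicalComplex.homologyFunctor AddCommGrpCat.{u} _ p) := by
  obtain ⟨Q, hQ, hQz, -, hQi⟩ := exists_complex_nat' 𝒢 h1 h2 hflat hfin b hb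
  exact ⟨Q, hQ, hQz, hQi⟩

end Groth.Agent.Lib.R2H2.GAlgN
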