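import Groth.Agent.Lib.R2H2PsiA
import Groth.Agent.Lib.R2H2CechFun
import Groth.Agent.Lib.R2H2GAlgN
import Groth.Agent.Lib.R2H2FlatDev
import Groth.Agent.Lib.R2H2ReesAR
import Groth.Agent.Lib.R2H2PdSheaf
import Groth.Agent.S0002
import Groth.Agent.S0016
set_option backward.isDefEq.respectTransparency.types false

/-!
# The Čech complex of `M ↦ f^*(M~) ⊗ F` (helper2, round 2)

`𝒢 = Ψ ⋙ cechF U : ModuleCat A ⥤ CochainComplex AddCommGrpCat ℕ` and the hypotheses of
`GAlgN.exists_complex_nat` for it.
-/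

set_option autoImplicit false
set_option linter.unusedSectionVars false
set_option linter.style.haveILetI false
universe u
open CategoryTheory CategoryTheory.Limits AlgebraicGeometry TopologicalSpace Opposite

noncomputable section

namespace Groth.Agent.Lib.R2H2.PsiCech

open Groth.Agent.Lib.Helper16.CechLow Groth.Agent.Lib.R2H2.CechCmp Groth.Agent.Lib.R2H2.CechFun
  Groth.Agent.Lib.R2H2.PsiA Groth.Agent.Lib.R2H2.LiftA

variable (A : Type u) [CommRing A] {X : Scheme.{u}} [X.Over (Spec (CommRingCat.of A))]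
  (F : X.Modules) {ι : Type u} (U : ι → X.Opens)

/-- the Čech complex of `Ψ M`, as a functor of `M` -/
def cechPsi : ModuleCat.{u} A ⥤ CochainComplex AddCommGrpCat.{u} ℕ :=
  CohIII.tensorAFunctor A F ⋙ cechF U

instance : (cechPsi A F U).Additive := by
  unfold cechPsi
  infer_instance

/-- its degree `n` part -/
abbrev cechPsiDeg (n : ℕ) : ModuleCat.{u} A ⥤ AddCommGrpCat.{u} :=
  cechPsi A F U ⋙ HomologicalComplex.eval AddCommGrpCat.{u} _ n

lemma pr_map {M N : ModuleCat.{u} A} (g : M ⟶ N) (n : ℕ) (x : Fin (n + 1) → ι)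
    (c : (cechPsiDeg A F U n).obj M) :
    pr U ((CohIII.tensorAFunctor A F).obj N).presheaf n x ((cechPsiDeg A F U n).map g c) =
      ((CohIII.tensorAFunctor A F).map g).app (Ux U x)
        (pr U ((CohIII.tensorAFunctor A F).obj M).presheaf n x c) :=
  map_pr_apply U (toPre.map ((CohIII.tensorAFunctor A F).map g)) n x c

section RightExact

variable [F.IsQuasicoherent]
  (hU : ∀ s : Finset ι, s.Nonempty → IsAffineOpen (⨅ i ∈ s, U i))

include hU in
theorem preservesFiniteColimits_deg (n : ℕ) : PreservesFiniteColimits (cechPsiDeg A F U n) := by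
  rw [Functor.preservesFiniteColimits_iff_forall_exact_map_and_epi]
  intro S hS
  have hpf : PreservesFiniteColimits (CohIII.tensorAFunctor A F) := inferInstance
  obtain ⟨hex, hepi⟩ := (Functor.preservesFiniteColimits_iff_forall_exact_map_and_epi
    (CohIII.tensorAFunctor A F)).1 hpf S hS
  haveI := hepi
  haveI := isQuasicoherent_obj A F S.X₁
  haveI := isQuasicoherent_obj A F S.X₂
  haveI := isQuasicoherent_obj A F S.X₃
  constructor
  · rw [ShortComplex.ab_exact_iff]
    intro c hc
    exact exists_lift_deg U (toPre.map ((CohIII.tensorAFunctor A F).map S.f))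
      (toPre.map ((CohIII.tensorAFunctor A F).map S.g)) n
      (fun x s hs => exists_app_eq_of_exact_epi ((CohIII.tensorAFunctor A F).map S.f)
        ((CohIII.tensorAFunctor A F).map S.g) _ hex (isAffineOpen_Ux U hU x) s hs) c hc
  · rw [AddCommGrpCat.epi_iff_surjective]
    exact surjective_deg U (toPre.map ((CohIII.tensorAFunctor A F).map S.g)) n
      (fun x => Groth.Agent.Lib.Helper23.FinType.surjective_app_of_epi
        ((CohIII.tensorAFunctor A F).map S.g) (isAffineOpen_Ux U hU x))

end RightExact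

section Coprod

lemma π_eq_sigmaComparison {C D : Type*} [Category C] [Category D] [Preadditive C] [Preadditive D]
    (Φ : C ⥤ D) [Φ.Additive] {J : Type*} [DecidableEq J] (f : J → C) [HasCoproduct f]
    [HasCoproduct (fun j => Φ.obj (f j))] (j : J) :
    Sigma.π (fun j => Φ.obj (f j)) j = sigmaComparison Φ f ≫ Φ.map (Sigma.π f j) := by
  apply Sigma.hom_ext
  intro k
  rw [ι_comp_sigmaComparison_assoc, ← Φ.map_comp]
  by_cases h : k = j
  · subst h
    rw [Sigma.ι_π_eq_id, Sigma.ι_π_eq_id, Φ.map_id]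
  · rw [Sigma.ι_π_of_ne _ h, Sigma.ι_π_of_ne _ h, Φ.map_zero]

lemma eS_comp_sigmaComparison {J : Type u} [DecidableEq J] (f : J → ModuleCat.{u} A)
    (S : Finset J) :
    Groth.Agent.Lib.R2H2.CoprodSec.eS (fun j => (CohIII.tensorAFunctor A F).obj (f j)) S ≫
        sigmaComparison (CohIII.tensorAFunctor A F) f =
      sigmaComparison (CohIII.tensorAFunctor A F) f ≫
        (CohIII.tensorAFunctor A F).map (Groth.Agent.Lib.R2H2.CoprodCrit.eS f S) := by
  unfold Groth.Agent.Lib.R2H2.CoprodSec.eS Groth.Agent.Lib.R2H2.CoprodCrit.eS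
  rw [Preadditive.sum_comp, Functor.map_sum, Preadditive.comp_sum]
  refine Finset.sum_congr rfl (fun j _ => ?_)
  rw [Category.assoc, ι_comp_sigmaComparison, π_eq_sigmaComparison, Category.assoc,
    Functor.map_comp]

variable [Finite ι] (hU : ∀ s : Finset ι, s.Nonempty → IsAffineOpen (⨅ i ∈ s, U i))

include hU in
theorem preservesCoproducts_deg (n : ℕ) (J : Type u) :
    PreservesColimitsOfShape (Discrete J) (cechPsiDeg A F U n) := by
  classical
  haveI := Fintype.ofFinite ι
  apply Groth.Agent.Lib.R2H2.CoprodCrit.preservesColimitsOfShape_discrete_of_finSupp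
  intro f y
  let E : J → X.Modules := fun j => (CohIII.tensorAFunctor A F).obj (f j)
  let σ := sigmaComparison (CohIII.tensorAFunctor A F) f
  haveI : IsIso σ := inferInstanceAs (IsIso (sigmaComparison (CohIII.tensorAFunctor A F) f))
  let t : ∀ x : Fin (n + 1) → ι, Γ((CohIII.tensorAFunctor A F).obj (∐ f), Ux U x) :=
    fun x => pr U ((CohIII.tensorAFunctor A F).obj (∐ f)).presheaf n x y
  let t' : ∀ x : Fin (n + 1) → ι, Γ(∐ E, Ux U x) := fun x => (inv σ).app (Ux U x) (t x)
  have ht' : ∀ x, σ.app (Ux U x) (t' x) = t x := by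
    intro x
    show (inv σ ≫ σ).app (Ux U x) (t x) = t x
    rw [IsIso.inv_hom_id]
    rfl
  have hx : ∀ x : Fin (n + 1) → ι, ∃ S : Finset J,
      (Groth.Agent.Lib.R2H2.CoprodSec.eS E S).app (Ux U x) (t' x) = t' x :=
    fun x => Groth.Agent.Lib.R2H2.CoprodSec.exists_eS_eq E
      (Groth.Agent.Lib.R2H2.CoprodCoh.isCompact_Ux U hU x) (t' x)
  choose Sx hSx using hx
  refine ⟨Finset.univ.biUnion Sx, ?_⟩
  apply elt_ext U ((CohIII.tensorAFunctor A F).obj (∐ f)).presheaf n
  intro x
  refine (pr_map A F U (Groth.Agent.Lib.R2H2.CoprodCrit.eS f (Finset.univ.biUnion Sx)) n x y).trans ?_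
  show ((CohIII.tensorAFunctor A F).map
    (Groth.Agent.Lib.R2H2.CoprodCrit.eS f (Finset.univ.biUnion Sx))).app (Ux U x) (t x) = t x
  have h1 := Groth.Agent.Lib.R2H2.CoprodSec.app_eS_of_subset (E := E)
    (Finset.subset_biUnion_of_mem Sx (Finset.mem_univ x)) (t' x) (hSx x)
  rw [← ht' x]
  show (σ ≫ (CohIII.tensorAFunctor A F).map
    (Groth.Agent.Lib.R2H2.CoprodCrit.eS f (Finset.univ.biUnion Sx))).app (Ux U x) (t' x) = _
  rw [← eS_comp_sigmaComparison A F f (Finset.univ.biUnion Sx)]
  show σ.app (Ux U x) ((Groth.Agent.Lib.R2H2.CoprodSec.eS E (Finset.univ.biUnion Sx)).app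
    (Ux U x) (t' x)) = _
  rw [h1]

end Coprod

section Flat

open Groth.Agent.Lib.R2H2.SheafBC Groth.Agent.Lib.R2H2.FlatDev

/-- sections over `V` as an `A`-module -/
def secA (M : X.Modules) (V : X.Opens) : ModuleCat.{u} A :=
  letI : Module A Γ(M, V) := Module.compHom Γ(M, V) (bW (X ↘ Spec (CommRingCat.of A)) V)
  ModuleCat.of A Γ(M, V)

lemma secA_smul (M : X.Modules) (V : X.Opens) (a : A) (s : secA A M V) :
    a • s = ((bW (X ↘ Spec (CommRingCat.of A)) V a : Γ(X, V)) • (show Γ(M, V) from s) :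
      Γ(M, V)) := rfl

/-- an isomorphism of modules induces an `A`-linear equivalence on sections -/
def secAEquiv {M N : X.Modules} (e : M ≅ N) (V : X.Opens) : secA A M V ≃ₗ[A] secA A N V where
  toFun s := e.hom.app V (show Γ(M, V) from s)
  invFun s := e.inv.app V (show Γ(N, V) from s)
  map_add' s s' := map_add (e.hom.app V).hom _ _
  map_smul' a s := Scheme.Modules.Hom.app_smul e.hom _ _
  left_inv s := by
    show (e.hom ≫ e.inv).app V (show Γ(M, V) from s) = s
    rw [e.hom_inv_id]
    rfl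
  right_inv s := by
    show (e.inv ≫ e.hom).app V (show Γ(N, V) from s) = s
    rw [e.inv_hom_id]
    rfl

theorem flat_secA [F.IsQuasicoherent]
    (hfl : FlatMod.IsFlatOver (X ↘ Spec (CommRingCat.of A)) F) {V : X.Opens}
    (hV : IsAffineOpen V) : Module.Flat A (secA A F V) :=
  flat_sections F hfl hV

variable [Finite ι] [F.IsQuasicoherent]
  (hU : ∀ s : Finset ι, s.Nonempty → IsAffineOpen (⨅ i ∈ s, U i))

/-- the projections of the degree `n` part of the Čech complex of `Ψ A`, as an `A`-linear map -/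
def prLin (n : ℕ) :
    (liftA (cechPsiDeg A F U n)).obj (ModuleCat.of A A) →ₗ[A]
      ∀ x : Fin (n + 1) → ι, secA A ((CohIII.tensorAFunctor A F).obj (ModuleCat.of A A)) (Ux U x) where
  toFun c := fun x =>
    pr U ((CohIII.tensorAFunctor A F).obj (ModuleCat.of A A)).presheaf n x
      (show (cechPsiDeg A F U n).obj (ModuleCat.of A A) from c)
  map_add' c c' := by
    funext x
    exact map_add (pr U ((CohIII.tensorAFunctor A F).obj (ModuleCat.of A A)).presheaf n x).hom _ _
  map_smul' a c := by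
    funext x
    refine (pr_map A F U (a • 𝟙 (ModuleCat.of A A)) n x _).trans ?_
    rw [map_smul_id]
    rfl

lemma prLin_bijective (n : ℕ) : Function.Bijective (prLin A F U n) := by
  constructor
  · intro c c' h
    apply elt_ext U ((CohIII.tensorAFunctor A F).obj (ModuleCat.of A A)).presheaf n
    intro x
    exact congrFun h x
  · intro t
    refine ⟨mkElt U ((CohIII.tensorAFunctor A F).obj (ModuleCat.of A A)).presheaf n t, ?_⟩
    funext x
    exact pr_mkElt U _ n t x

include hU in
theorem flat_deg (hfl : FlatMod.IsFlatOver (X ↘ Spec (CommRingCat.of A)) F) (n : ℕ) :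
    Module.Flat A ((liftA (cechPsiDeg A F U n)).obj (ModuleCat.of A A)) := by
  classical
  haveI := Fintype.ofFinite ι
  haveI : ∀ x : Fin (n + 1) → ι, Module.Flat A
      (secA A ((CohIII.tensorAFunctor A F).obj (ModuleCat.of A A)) (Ux U x)) := fun x => by
    haveI := flat_secA A F hfl (isAffineOpen_Ux U hU x)
    exact Module.Flat.of_linearEquiv (secAEquiv A (objUnitIso A F) (Ux U x))
  haveI : Module.Flat A (∀ x : Fin (n + 1) → ι,
      secA A ((CohIII.tensorAFunctor A F).obj (ModuleCat.of A A)) (Ux U x)) :=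
    Module.Flat.of_linearEquiv (DirectSum.linearEquivFunOnFintype A (Fin (n + 1) → ι)
      (fun x => secA A ((CohIII.tensorAFunctor A F).obj (ModuleCat.of A A)) (Ux U x))).symm
  exact Module.Flat.of_linearEquiv
    (LinearEquiv.ofBijective (prLin A F U n) (prLin_bijective A F U n))

end Flat

section Coh

variable [Finite ι] [F.IsQuasicoherent] (hcov : ⨆ i, U i = ⊤)
  (hU : ∀ s : Finset ι, s.Nonempty → IsAffineOpen (⨅ i ∈ s, U i))

instance additive_HAb (p : ℕ) : (CohIII.HAb X p).Additive where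
  map_add {M N f g} := by
    ext x
    exact Groth.Agent.Lib.R2H2.HHLin.HmapL_add f g p x

instance additive_PsiHAb (p : ℕ) : (CohIII.tensorAFunctor A F ⋙ CohIII.HAb X p).Additive := by
  haveI := additive_HAb (X := X) p
  infer_instance

include hcov hU in
/-- Čech cohomology of `Ψ M` is sheaf cohomology, naturally in `M` -/
theorem nonempty_natIso (p : ℕ) :
    Nonempty (cechPsi A F U ⋙ HomologicalComplex.homologyFunctor AddCommGrpCat.{u} _ p ≅
      CohIII.tensorAFunctor A F ⋙ CohIII.HAb X p) := by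
  obtain ⟨e, he⟩ := Groth.Agent.Lib.R2H2.LerayNat2.exists_natural_family X U hcov hU p
  have hq : ∀ M : ModuleCat.{u} A, Coh.IsQCoh ((CohIII.tensorAFunctor A F).obj M) :=
    fun M => isQuasicoherent_obj A F M
  refine ⟨NatIso.ofComponents (fun M => (e _ (hq M)).toAddCommGrpIso) (fun {M N} g => ?_)⟩
  ext z
  exact he _ _ (hq M) (hq N)
    ((SheafOfModules.toSheaf X.ringCatSheaf).map ((CohIII.tensorAFunctor A F).map g)) z

/-- the functorial `A`-module structure on `H^p(X, Ψ M)` is the standard one -/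
def liftHAbEquiv (M : ModuleCat.{u} A) (p : ℕ) :
    (liftA (CohIII.tensorAFunctor A F ⋙ CohIII.HAb X p)).obj M ≃ₗ[A]
      Coh.HH X ((CohIII.tensorAFunctor A F).obj M) p where
  toFun x := x
  invFun x := x
  left_inv _ := rfl
  right_inv _ := rfl
  map_add' _ _ := rfl
  map_smul' a x := by
    have h : (CohIII.tensorAFunctor A F).map (a • 𝟙 M) =
        Formal.smulMod A ((CohIII.tensorAFunctor A F).obj M) a := map_smul_id A F M a
    have h2 : ((CohIII.HAb X p).map ((CohIII.tensorAFunctor A F).map (a • 𝟙 M))).hom x =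
        ((CohIII.HAb X p).map (Formal.smulMod A ((CohIII.tensorAFunctor A F).obj M) a)).hom x := by
      rw [h]
    exact h2

end Coh

end Groth.Agent.Lib.R2H2.PsiCech
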