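import Mathlib
import Groth.Agent.Lib.R2H2SheafBC
import Groth.Agent.Lib.R2H2PsiCech
import Groth.Agent.Lib.R2H3PullUnit
set_option backward.isDefEq.respectTransparency.types false

/-!
# Affine base change, part 1: sections of a pull-back over an affine open (helper2, round 2)

Setting: `A → B` a ring map, `X` over `Spec A`, `X'` over `Spec B`, `g' : X' ⟶ X` with
`IsPullback g' (X' ↘ Spec B) (X ↘ Spec A) (Spec.map (A → B))`, `F` a quasi-coherent `O_X`-module.

* `sigma g' F V : B ⊗[A] Γ(F, V) →+ Γ(g'^*F, g'⁻¹V)`, `b ⊗ m ↦ b • unit(m)`; `sigma_tmul`, `sigma_smul`,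
  `sigma_res` (compatibility with restriction) and `sigma_bijective` (for `V` affine).
-/

set_option autoImplicit false
set_option linter.unusedSectionVars false
set_option linter.style.haveILetI false
universe u
open CategoryTheory CategoryTheory.Limits AlgebraicGeometry TopologicalSpace Opposite TensorProduct

noncomputable section

namespace Groth.Agent.Lib.R2H2.ABC

open Groth.Agent.Lib.R2H2.SheafBC Groth.Agent.Lib.R2H2.PsiCech Groth.Agent.Helper13PullbackUnit
  Groth.Agent.Helper13FlatMV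

variable {A B : Type u} [CommRing A] [CommRing B] [Algebra A B] {X X' : Scheme.{u}}
  [X.Over (Spec (CommRingCat.of A))] [X'.Over (Spec (CommRingCat.of B))] (g' : X' ⟶ X)
  (F : X.Modules)

/-- the structure map `A → Γ(X, V)` -/
abbrev bA (V : X.Opens) : A →+* Γ(X, V) := bW (X ↘ Spec (CommRingCat.of A)) V

lemma bA_res {V₁ V₂ : X.Opens} (hle : V₂ ≤ V₁) (a : A) :
    X.presheaf.map (homOfLE hle).op (bA (A := A) V₁ a) = bA (A := A) V₂ a :=
  Coh.resTop_comp (op V₁) (op V₂) (homOfLE hle).op _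


section Sq

variable (hw : g' ≫ (X ↘ Spec (CommRingCat.of A)) =
  (X' ↘ Spec (CommRingCat.of B)) ≫ Spec.map (CommRingCat.ofHom (algebraMap A B)))

include hw in
lemma appLE_bA {V : X.Opens} {V' : X'.Opens} (hle : V' ≤ g' ⁻¹ᵁ V) (a : A) :
    (g'.appLE V V' hle).hom (bA (A := A) V a) = bA (A := B) V' (algebraMap A B a) := by
  have h1 := toGlobal_algebraMap (X ↘ Spec (CommRingCat.of A)) (X' ↘ Spec (CommRingCat.of B)) g' hw a
  change _ = (Coh.resTop X' (op V')) (Coh.toGlobal (X' ↘ Spec (CommRingCat.of B)) (algebraMap A B a))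
  rw [h1]
  have h2 : X.presheaf.map (homOfLE (le_top : V ≤ ⊤)).op ≫ g'.appLE V V' hle =
      g'.appTop ≫ X'.presheaf.map (homOfLE (le_top : V' ≤ ⊤)).op := by
    rw [Scheme.Hom.map_appLE]
    rw [Scheme.Hom.appTop, Scheme.Hom.appLE]
    rfl
  exact congrArg (fun t => t.hom (Coh.toGlobal (X ↘ Spec (CommRingCat.of A)) a)) h2

end Sq


section Sigma

variable (hw : g' ≫ (X ↘ Spec (CommRingCat.of A)) =
  (X' ↘ Spec (CommRingCat.of B)) ≫ Spec.map (CommRingCat.ofHom (algebraMap A B)))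

/-- the pulled back module -/
abbrev F' : X'.Modules := (Scheme.Modules.pullback g').obj F

/-- `(b, m) ↦ b • unit(m)` -/
def sigmaBil (V : X.Opens) : B →+ Γ(F, V) →+ Γ(F' g' F, g' ⁻¹ᵁ V) :=
  AddMonoidHom.mk' (fun b => AddMonoidHom.mk'
    (fun m => (bA (A := B) (g' ⁻¹ᵁ V) b : Γ(X', g' ⁻¹ᵁ V)) • unitSec g' F (le_refl (g' ⁻¹ᵁ V)) m)
    (fun m m' => by rw [map_add, smul_add]))
    (fun b b' => by
      ext m
      show (bA (A := B) (g' ⁻¹ᵁ V) (b + b') : Γ(X', g' ⁻¹ᵁ V)) • unitSec g' F (le_refl (g' ⁻¹ᵁ V)) m =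
        (bA (A := B) (g' ⁻¹ᵁ V) b : Γ(X', g' ⁻¹ᵁ V)) • unitSec g' F (le_refl (g' ⁻¹ᵁ V)) m +
        (bA (A := B) (g' ⁻¹ᵁ V) b' : Γ(X', g' ⁻¹ᵁ V)) • unitSec g' F (le_refl (g' ⁻¹ᵁ V)) m
      rw [map_add, add_smul])

lemma sigmaBil_apply (V : X.Opens) (b : B) (m : Γ(F, V)) :
    sigmaBil g' F V b m =
      (bA (A := B) (g' ⁻¹ᵁ V) b : Γ(X', g' ⁻¹ᵁ V)) • unitSec g' F (le_refl (g' ⁻¹ᵁ V)) m := rfl

include hw in
lemma sigmaBil_balanced (V : X.Opens) (a : A) (b : B) (m : secA A F V) :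
    sigmaBil g' F V (a • b) m = sigmaBil g' F V b (a • m) := by
  rw [sigmaBil_apply, sigmaBil_apply, secA_smul, unitSec_smul, appLE_bA g' hw, smul_smul,
    Algebra.smul_def, map_mul, mul_comm]

/-- `B ⊗[A] Γ(F, V) →+ Γ(g'^*F, g'⁻¹V)` -/
def sigma (V : X.Opens) : B ⊗[A] (secA A F V) →+ Γ(F' g' F, g' ⁻¹ᵁ V) :=
  TensorProduct.liftAddHom (sigmaBil g' F V) (fun a b m => sigmaBil_balanced g' F hw V a b m)

lemma sigma_tmul (V : X.Opens) (b : B) (m : secA A F V) :
    sigma g' F hw V (b ⊗ₜ[A] m) =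
      (bA (A := B) (g' ⁻¹ᵁ V) b : Γ(X', g' ⁻¹ᵁ V)) •
        unitSec g' F (le_refl (g' ⁻¹ᵁ V)) (show Γ(F, V) from m) := rfl

lemma sigma_smul (V : X.Opens) (b : B) (t : B ⊗[A] (secA A F V)) :
    sigma g' F hw V (b • t) =
      (bA (A := B) (g' ⁻¹ᵁ V) b : Γ(X', g' ⁻¹ᵁ V)) • sigma g' F hw V t := by
  induction t using TensorProduct.induction_on with
  | zero => rw [smul_zero, map_zero, smul_zero]
  | tmul b' m =>
    rw [TensorProduct.smul_tmul', sigma_tmul, sigma_tmul, smul_eq_mul, map_mul, mul_smul]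
  | add x y hx hy => rw [smul_add, map_add, map_add, smul_add, hx, hy]

end Sigma


section Res

/-- restriction of sections is `A`-linear -/
def resA (M : X.Modules) {V₁ V₂ : X.Opens} (hle : V₂ ≤ V₁) : secA A M V₁ →ₗ[A] secA A M V₂ where
  toFun m := M.presheaf.map (homOfLE hle).op (show Γ(M, V₁) from m)
  map_add' m m' := map_add (M.presheaf.map (homOfLE hle).op).hom _ _
  map_smul' a m := by
    show M.presheaf.map (homOfLE hle).op
      ((bA (A := A) V₁ a : Γ(X, V₁)) • (show Γ(M, V₁) from m)) = _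
    rw [Scheme.Modules.map_smul, bA_res]
    rfl

lemma resA_apply (M : X.Modules) {V₁ V₂ : X.Opens} (hle : V₂ ≤ V₁) (m : secA A M V₁) :
    resA (A := A) M hle m = M.presheaf.map (homOfLE hle).op (show Γ(M, V₁) from m) := rfl

/-- `unitSec` commutes with restriction -/
lemma unitSec_res {Y Z : Scheme.{u}} (p : Y ⟶ Z) (G : Z.Modules) {V₁ V₂ : Z.Opens} {U₁ U₂ : Y.Opens}
    (hV : V₂ ≤ V₁) (hU : U₂ ≤ U₁) (h₁ : U₁ ≤ p ⁻¹ᵁ V₁) (h₂ : U₂ ≤ p ⁻¹ᵁ V₂) (m : Γ(G, V₁)) :
    ((Scheme.Modules.pullback p).obj G).presheaf.map (homOfLE hU).op (unitSec p G h₁ m) =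
      unitSec p G h₂ (G.presheaf.map (homOfLE hV).op m) := by
  rw [unitSec_apply, unitSec_apply]
  have h3 := Groth.Agent.Lib.R2H3.PullUnit.app_res
    ((Scheme.Modules.pullbackPushforwardAdjunction p).unit.app G) hV m
  refine Eq.trans ?_ (congrArg
    (fun t => ((Scheme.Modules.pullback p).obj G).presheaf.map (homOfLE h₂).op t) h3.symm)
  change (((Scheme.Modules.pullback p).obj G).presheaf.map (homOfLE h₁).op ≫
    ((Scheme.Modules.pullback p).obj G).presheaf.map (homOfLE hU).op) _ =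
    (((Scheme.Modules.pullback p).obj G).presheaf.map (homOfLE (p.preimage_mono hV)).op ≫
      ((Scheme.Modules.pullback p).obj G).presheaf.map (homOfLE h₂).op) _
  rw [← Functor.map_comp, ← Functor.map_comp]
  rfl

end Res


section Main

variable (hw : g' ≫ (X ↘ Spec (CommRingCat.of A)) =
  (X' ↘ Spec (CommRingCat.of B)) ≫ Spec.map (CommRingCat.ofHom (algebraMap A B)))

lemma sigma_res {V₁ V₂ : X.Opens} (hle : V₂ ≤ V₁) (t : B ⊗[A] (secA A F V₁)) :
    (F' g' F).presheaf.map (homOfLE (g'.preimage_mono hle)).op (sigma g' F hw V₁ t) =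
      sigma g' F hw V₂ (LinearMap.lTensor B (resA (A := A) F hle) t) := by
  induction t using TensorProduct.induction_on with
  | zero => rw [map_zero, map_zero, map_zero, map_zero]
  | tmul b m =>
    rw [LinearMap.lTensor_tmul, sigma_tmul, sigma_tmul, Scheme.Modules.map_smul, bA_res,
      unitSec_res g' F hle (g'.preimage_mono hle) le_rfl le_rfl]
    rfl
  | add x y hx hy => rw [map_add, map_add, map_add, map_add, hx, hy]

variable (h : IsPullback g' (X' ↘ Spec (CommRingCat.of B)) (X ↘ Spec (CommRingCat.of A))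
  (Spec.map (CommRingCat.ofHom (algebraMap A B))))

include h in
theorem sigma_bijective [F.IsQuasicoherent] {V : X.Opens} (hV : IsAffineOpen V) :
    Function.Bijective (sigma g' F h.w V) := by
  have hV' := isAffineOpen_preimage (X ↘ Spec (CommRingCat.of A)) (X' ↘ Spec (CommRingCat.of B)) g' h hV
  refine Groth.Agent.Helper13BCAlg.bijective_of_lifts (algebraMap A B) (bA (A := A) V)
    (g'.appLE V (g' ⁻¹ᵁ V) le_rfl).hom (bA (A := B) (g' ⁻¹ᵁ V))
    (isPushout_sections (X ↘ Spec (CommRingCat.of A)) (X' ↘ Spec (CommRingCat.of B)) g' h hV)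
    (M := Γ(F, V)) (Q := B ⊗[A] (secA A F V)) (Q' := Γ(F' g' F, g' ⁻¹ᵁ V))
    (oneTmul (R := A) (R' := B) (M := secA A F V)) ?_ ?_
    (unitSec g' F (le_rfl : g' ⁻¹ᵁ V ≤ g' ⁻¹ᵁ V)) (unitSec_smul g' F le_rfl) ?_
    (sigma g' F h.w V) (sigma_smul g' F h.w V) ?_
  · intro a m
    exact oneTmul_smul (R := A) (R' := B) (M := secA A F V) a m
  · intro N _ _ l hl
    exact existsUnique_of_oneTmul (R := A) (R' := B) (M := secA A F V) N l hl
  · intro N _ _ l hl
    exact existsUnique_lift g' F hV hV' le_rfl N l hl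
  · intro m
    show sigma g' F h.w V ((1 : B) ⊗ₜ[A] m) = _
    rw [sigma_tmul, map_one, one_smul]

end Main

end Groth.Agent.Lib.R2H2.ABC
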