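import Mathlib
import Groth.Agent.Lib.R2H2PsiCech
import Groth.Agent.Lib.R2H2EWCx
set_option backward.isDefEq.respectTransparency.types false

/-!
# Affine base change, part 2: Eilenberg–Watts for sections over an affine open (helper2, round 2)

`GV A F V : M ↦ Γ(f^*(M~) ⊗ F, V)` as a functor `ModuleCat A ⥤ AddCommGrpCat`; for `V` affine and `F`
quasi-coherent it is right exact and commutes with coproducts, hence
`tM (liftA (GV A F V)) M : Γ(Ψ A, V) ⊗[A] M → Γ(Ψ M, V)` is bijective (`bijective_tM_GV`).
-/

set_option autoImplicit false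
set_option linter.unusedSectionVars false
set_option linter.style.haveILetI false
universe u
open CategoryTheory CategoryTheory.Limits AlgebraicGeometry TopologicalSpace Opposite

noncomputable section

namespace Groth.Agent.Lib.R2H2.ABC

open Groth.Agent.Lib.R2H2.CechFun Groth.Agent.Lib.R2H2.PsiA Groth.Agent.Lib.R2H2.LiftA
  Groth.Agent.Lib.R2H2.PsiCech Groth.Agent.Lib.Helper16.TensorCmp

variable (A : Type u) [CommRing A] {X : Scheme.{u}} [X.Over (Spec (CommRingCat.of A))]
  (F : X.Modules) (V : X.Opens)

/-- sections over `V`, as a functor to abelian groups -/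
def secFun : X.Modules ⥤ AddCommGrpCat.{u} := toPre ⋙ (evaluation _ _).obj (op V)

instance : (secFun (X := X) V).Additive := by
  unfold secFun
  infer_instance

lemma secFun_map_apply {M N : X.Modules} (φ : M ⟶ N) (s : Γ(M, V)) :
    ((secFun V).map φ).hom s = φ.app V s := rfl

/-- `M ↦ Γ(Ψ M, V)` -/
def GV : ModuleCat.{u} A ⥤ AddCommGrpCat.{u} := CohIII.tensorAFunctor A F ⋙ secFun V

instance : (GV A F V).Additive := by
  unfold GV
  infer_instance

lemma GV_map_apply {M N : ModuleCat.{u} A} (g : M ⟶ N) (s : Γ((CohIII.tensorAFunctor A F).obj M, V)) :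
    ((GV A F V).map g).hom s = ((CohIII.tensorAFunctor A F).map g).app V s := rfl

variable [F.IsQuasicoherent] {V}

theorem preservesFiniteColimits_GV (hV : IsAffineOpen V) : PreservesFiniteColimits (GV A F V) := by
  rw [Functor.preservesFiniteColimits_iff_forall_exact_map_and_epi]
  intro S hS
  have hpf : PreservesFiniteColimits (CohIII.tensorAFunctor A F) := inferInstance
  obtain ⟨hex, hepi⟩ := (Functor.preservesFiniteColimits_iff_forall_exact_map_and_epi
    (CohIII.tensorAFunctor A F)).1 hpf S hS
  haveI := hepi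
  haveI := isQuasicoherent_obj A F S.X₁
  haveI := isQuasicoherent_obj A F S.X₂
  haveI := isQuasicoherent_obj A F S.X₃
  constructor
  · rw [ShortComplex.ab_exact_iff]
    intro c hc
    exact exists_app_eq_of_exact_epi ((CohIII.tensorAFunctor A F).map S.f)
        ((CohIII.tensorAFunctor A F).map S.g) _ hex hV c hc
  · rw [AddCommGrpCat.epi_iff_surjective]
    exact Groth.Agent.Lib.Helper23.FinType.surjective_app_of_epi
        ((CohIII.tensorAFunctor A F).map S.g) hV

theorem preservesCoproducts_GV (hV : IsAffineOpen V) (J : Type u) :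
    PreservesColimitsOfShape (Discrete J) (GV A F V) := by
  classical
  apply Groth.Agent.Lib.R2H2.CoprodCrit.preservesColimitsOfShape_discrete_of_finSupp
  intro f y
  let E : J → X.Modules := fun j => (CohIII.tensorAFunctor A F).obj (f j)
  let σ := sigmaComparison (CohIII.tensorAFunctor A F) f
  haveI : IsIso σ := inferInstanceAs (IsIso (sigmaComparison (CohIII.tensorAFunctor A F) f))
  let t : Γ((CohIII.tensorAFunctor A F).obj (∐ f), V) := y
  let t' : Γ(∐ E, V) := (inv σ).app V t
  have ht' : σ.app V t' = t := by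
    show (inv σ ≫ σ).app V t = t
    rw [IsIso.inv_hom_id]
    rfl
  obtain ⟨S, hS⟩ := Groth.Agent.Lib.R2H2.CoprodSec.exists_eS_eq E hV.isCompact t'
  refine ⟨S, ?_⟩
  show ((CohIII.tensorAFunctor A F).map (Groth.Agent.Lib.R2H2.CoprodCrit.eS f S)).app V t = t
  rw [← ht']
  show (σ ≫ (CohIII.tensorAFunctor A F).map (Groth.Agent.Lib.R2H2.CoprodCrit.eS f S)).app V t' = _
  rw [← eS_comp_sigmaComparison A F f S]
  show σ.app V ((Groth.Agent.Lib.R2H2.CoprodSec.eS E S).app V t') = _
  rw [hS]

/-- **Eilenberg–Watts** for sections over an affine open -/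
theorem bijective_tM_GV (hV : IsAffineOpen V) (M : ModuleCat.{u} A) :
    Function.Bijective (tM (liftA (GV A F V)) M) := by
  haveI := preservesFiniteColimits_GV A F hV
  haveI : ∀ J : Type u, PreservesColimitsOfShape (Discrete J) (GV A F V) :=
    fun J => preservesCoproducts_GV A F hV J
  exact Groth.Agent.Lib.R2H2.EWCx.bijective_tM_liftA (GV A F V) M

end Groth.Agent.Lib.R2H2.ABC
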