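import Mathlib
import Groth.Agent.Lib.R2H2ABC1
import Groth.Agent.Lib.R2H2ABC2
set_option backward.isDefEq.respectTransparency.types false

/-!
# Affine base change, part 3: the comparison on affine opens (helper2, round 2)

* `delta A B F V : B ⊗[A] Γ(F, V) →ₗ[A] Γ(Ψ_A(B), V)` (Eilenberg–Watts), bijective for `V` affine;
* `eps g' F h hV : Γ(Ψ_A(B), V) ≃+ Γ(Ψ_B(B), g'⁻¹V)` for `V` affine, with `eps_res` (compatibility with
  restriction) and `eps_mulB` (compatibility with the two actions of `B`).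
-/

set_option autoImplicit false
set_option linter.unusedSectionVars false
set_option linter.style.haveILetI false
universe u
open CategoryTheory CategoryTheory.Limits AlgebraicGeometry TopologicalSpace Opposite TensorProduct

noncomputable section

namespace Groth.Agent.Lib.R2H2.ABC

open Groth.Agent.Lib.R2H2.CechFun Groth.Agent.Lib.R2H2.PsiA Groth.Agent.Lib.R2H2.LiftA
  Groth.Agent.Lib.R2H2.PsiCech Groth.Agent.Lib.Helper16.TensorCmp Groth.Agent.Lib.R2H2.SheafBC
  Groth.Agent.Helper13PullbackUnit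

section OneSide

variable (A : Type u) [CommRing A] {X : Scheme.{u}} [X.Over (Spec (CommRingCat.of A))]
  (F : X.Modules)

lemma smulMod_app (N : X.Modules) (a : A) (V : X.Opens) (s : Γ(N, V)) :
    (Formal.smulMod A N a).app V s = (bA (A := A) V a : Γ(X, V)) • s := rfl

/-- the functorial `A`-module structure on `Γ(Ψ M, V)` is the standard one -/
def liftSecEquiv (M : ModuleCat.{u} A) (V : X.Opens) :
    (liftA (GV A F V)).obj M ≃ₗ[A] secA A ((CohIII.tensorAFunctor A F).obj M) V where
  toFun x := x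
  invFun x := x
  left_inv _ := rfl
  right_inv _ := rfl
  map_add' _ _ := rfl
  map_smul' a x := by
    show ((CohIII.tensorAFunctor A F).map (a • 𝟙 M)).app V _ = _
    rw [map_smul_id]
    rfl

/-- `Γ(F, V) ≃ Γ(Ψ A, V)` -/
def uAlin (V : X.Opens) : secA A F V ≃ₗ[A] (liftA (GV A F V)).obj (ModuleCat.of A A) :=
  (secAEquiv A (objUnitIso A F) V).symm ≪≫ₗ (liftSecEquiv A F (ModuleCat.of A A) V).symm

lemma uAlin_apply (V : X.Opens) (m : secA A F V) :
    uAlin A F V m = (objUnitIso A F).inv.app V (show Γ(F, V) from m) := rfl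

end OneSide

section BA

variable (A B : Type u) [CommRing A] [CommRing B] [Algebra A B]

/-- `B` as an `A`-module (restriction of scalars) -/
abbrev BA : ModuleCat.{u} A := (ModuleCat.restrictScalars (algebraMap A B)).obj (ModuleCat.of B B)

/-- the identity `B ≃ B_A` -/
def idB : B ≃ₗ[A] BA A B where
  toFun b := b
  invFun b := b
  left_inv _ := rfl
  right_inv _ := rfl
  map_add' _ _ := rfl
  map_smul' a b := Algebra.smul_def a b

/-- multiplication by `b` on `B_A` -/
def mulB (b : B) : BA A B ⟶ BA A B :=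
  (ModuleCat.restrictScalars (algebraMap A B)).map (b • 𝟙 (ModuleCat.of B B))

lemma mulB_apply (b : B) (x : BA A B) : (mulB A B b).hom x = idB A B (b * (idB A B).symm x) := rfl

end BA

section Delta

variable (A B : Type u) [CommRing A] [CommRing B] [Algebra A B] {X : Scheme.{u}}
  [X.Over (Spec (CommRingCat.of A))] (F : X.Modules)

/-- the Eilenberg–Watts map `B ⊗[A] Γ(F, V) → Γ(Ψ_A(B), V)` -/
def delta (V : X.Opens) : B ⊗[A] (secA A F V) →ₗ[A] (liftA (GV A F V)).obj (BA A B) :=
  (tM (liftA (GV A F V)) (BA A B)) ∘ₗ (TensorProduct.comm A _ _).toLinearMap ∘ₗ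
    (TensorProduct.congr (idB A B) (uAlin A F V)).toLinearMap

lemma delta_tmul (V : X.Opens) (b : B) (m : secA A F V) :
    delta A B F V (b ⊗ₜ[A] m) =
      ((CohIII.tensorAFunctor A F).map (θ (idB A B b))).app V
        ((objUnitIso A F).inv.app V (show Γ(F, V) from m)) := rfl

theorem delta_bijective [F.IsQuasicoherent] {V : X.Opens} (hV : IsAffineOpen V) :
    Function.Bijective (delta A B F V) := by
  unfold delta
  exact (bijective_tM_GV A F hV (BA A B)).comp
    ((TensorProduct.comm A _ _).bijective.comp (TensorProduct.congr (idB A B) (uAlin A F V)).bijective)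

lemma delta_res {V₁ V₂ : X.Opens} (hle : V₂ ≤ V₁) (t : B ⊗[A] (secA A F V₁)) :
    ((CohIII.tensorAFunctor A F).obj (BA A B)).presheaf.map (homOfLE hle).op
        (show Γ((CohIII.tensorAFunctor A F).obj (BA A B), V₁) from delta A B F V₁ t) =
      delta A B F V₂ (LinearMap.lTensor B (resA (A := A) F hle) t) := by
  induction t using TensorProduct.induction_on with
  | zero =>
    rw [map_zero, map_zero, map_zero]
    exact map_zero _
  | tmul b m =>
    rw [LinearMap.lTensor_tmul, delta_tmul, delta_tmul]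
    rw [← Groth.Agent.Lib.R2H3.PullUnit.app_res, ← Groth.Agent.Lib.R2H3.PullUnit.app_res]
    rfl
  | add x y hx hy =>
    rw [map_add, map_add, map_add, ← hx, ← hy]
    exact map_add _ _ _

lemma delta_mulB (V : X.Opens) (b : B) (t : B ⊗[A] (secA A F V)) :
    ((CohIII.tensorAFunctor A F).map (mulB A B b)).app V
        (show Γ((CohIII.tensorAFunctor A F).obj (BA A B), V) from delta A B F V t) =
      delta A B F V (b • t) := by
  induction t using TensorProduct.induction_on with
  | zero =>
    rw [smul_zero, map_zero]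
    exact map_zero _
  | tmul b' m =>
    rw [TensorProduct.smul_tmul', delta_tmul, delta_tmul]
    show ((CohIII.tensorAFunctor A F).map (θ (idB A B b')) ≫
      (CohIII.tensorAFunctor A F).map (mulB A B b)).app V _ = _
    rw [← Functor.map_comp, θ_comp]
    rfl
  | add x y hx hy =>
    rw [smul_add, map_add, map_add, ← hx, ← hy]
    exact map_add _ _ _

end Delta


section Eps

variable {A B : Type u} [CommRing A] [CommRing B] [Algebra A B] {X X' : Scheme.{u}}
  [X.Over (Spec (CommRingCat.of A))] [X'.Over (Spec (CommRingCat.of B))] (g' : X' ⟶ X)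
  (h : IsPullback g' (X' ↘ Spec (CommRingCat.of B)) (X ↘ Spec (CommRingCat.of A))
    (Spec.map (CommRingCat.ofHom (algebraMap A B))))
  (F : X.Modules) [F.IsQuasicoherent]

variable (A B) in
/-- `Ψ_A(B_A)` -/
abbrev PsiAB : X.Modules := (CohIII.tensorAFunctor A F).obj (BA A B)

variable (B) in
/-- `Ψ_B(B)` for the pulled back module -/
abbrev PsiBB : X'.Modules := (CohIII.tensorAFunctor B (F' g' F)).obj (ModuleCat.of B B)

variable (B) in
/-- `Γ(g'^*F, V') ≃ Γ(Ψ_B(B), V')` -/
def uB (V' : X'.Opens) : Γ(F' g' F, V') ≃+ Γ(PsiBB B g' F, V') :=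
  (secAEquiv B (objUnitIso B (F' g' F)) V').symm.toAddEquiv

lemma uB_apply (V' : X'.Opens) (s : Γ(F' g' F, V')) :
    uB B g' F V' s = (objUnitIso B (F' g' F)).inv.app V' s := rfl

/-- the comparison `Γ(Ψ_A(B), V) ≃ Γ(Ψ_B(B), g'⁻¹V)` over an affine open -/
def eps {V : X.Opens} (hV : IsAffineOpen V) : Γ(PsiAB A B F, V) ≃+ Γ(PsiBB B g' F, g' ⁻¹ᵁ V) :=
  ((AddEquiv.ofBijective (delta A B F V).toAddMonoidHom (delta_bijective A B F hV)).symm.trans
    (AddEquiv.ofBijective (sigma g' F h.w V) (sigma_bijective g' F h hV))).trans (uB B g' F (g' ⁻¹ᵁ V))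

lemma eps_delta {V : X.Opens} (hV : IsAffineOpen V) (t : B ⊗[A] (secA A F V)) :
    eps g' h F hV (delta A B F V t) = uB B g' F (g' ⁻¹ᵁ V) (sigma g' F h.w V t) := by
  have h1 : (AddEquiv.ofBijective (delta A B F V).toAddMonoidHom (delta_bijective A B F hV)).symm
      (delta A B F V t) = t :=
    (AddEquiv.ofBijective (delta A B F V).toAddMonoidHom (delta_bijective A B F hV)).symm_apply_apply t
  show uB B g' F (g' ⁻¹ᵁ V) (sigma g' F h.w V
    ((AddEquiv.ofBijective (delta A B F V).toAddMonoidHom (delta_bijective A B F hV)).symm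
      (delta A B F V t))) = _
  rw [h1]

lemma eps_res {V₁ V₂ : X.Opens} (hV₁ : IsAffineOpen V₁) (hV₂ : IsAffineOpen V₂) (hle : V₂ ≤ V₁)
    (s : Γ(PsiAB A B F, V₁)) :
    (PsiBB B g' F).presheaf.map (homOfLE (g'.preimage_mono hle)).op (eps g' h F hV₁ s) =
      eps g' h F hV₂ ((PsiAB A B F).presheaf.map (homOfLE hle).op s) := by
  obtain ⟨t, rfl⟩ := (delta_bijective A B F hV₁).2 s
  rw [eps_delta, delta_res, eps_delta, uB_apply, uB_apply,
    ← Groth.Agent.Lib.R2H3.PullUnit.app_res, sigma_res]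

lemma eps_mulB {V : X.Opens} (hV : IsAffineOpen V) (b : B)
    (s : Γ(PsiAB A B F, V)) :
    eps g' h F hV (((CohIII.tensorAFunctor A F).map (mulB A B b)).app V s) =
      ((CohIII.tensorAFunctor B (F' g' F)).map (b • 𝟙 (ModuleCat.of B B))).app (g' ⁻¹ᵁ V)
        (eps g' h F hV s) := by
  obtain ⟨t, rfl⟩ := (delta_bijective A B F hV).2 s
  rw [delta_mulB, eps_delta, eps_delta, sigma_smul, map_smul_id, smulMod_app, uB_apply, uB_apply,
    Scheme.Modules.Hom.app_smul]

end Eps

end Groth.Agent.Lib.R2H2.ABC
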