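import Mathlib
import Groth.Agent.Lib.R2H2ABC3
set_option backward.isDefEq.respectTransparency.types false

/-!
# Affine base change, part 4: general lemmas on lifted complexes (helper2, round 2)

* `unitCxIso`: an isomorphism `𝒦(R) ≅ 𝒦'(R)` of complexes of abelian groups commuting with the actions of `R`
  induces an isomorphism `unitCx 𝒦 ≅ unitCx 𝒦'` of complexes of `R`-modules.
* `TFunCongr`: `P ≅ P'` induces `TFun P p ≅ TFun P' p`.
* `natIso_of_unitCxIso`: for two complex valued functors satisfying Eilenberg–Watts degreewise, an isomorphism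
  of their unit complexes induces a natural isomorphism of their homology functors.
-/

set_option autoImplicit false
set_option linter.unusedSectionVars false
set_option linter.style.haveILetI false
universe u
open CategoryTheory CategoryTheory.Limits

noncomputable section

namespace Groth.Agent.Lib.R2H2.ABC

open Groth.Agent.Lib.R2H2.LiftA Groth.Agent.Lib.Helper16.TensorCmp Groth.Agent.Lib.R2H2.EWCx

section Lift

variable {R : Type u} [CommRing R] {κ : Type} {c : ComplexShape κ}
  (𝒦 𝒦' : ModuleCat.{u} R ⥤ HomologicalComplex AddCommGrpCat.{u} c) [𝒦.Additive] [𝒦'.Additive]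

/-- an equivariant isomorphism of the values at `R` lifts to the unit complexes -/
def unitCxIso (φ : 𝒦.obj (ModuleCat.of R R) ≅ 𝒦'.obj (ModuleCat.of R R))
    (hφ : ∀ r : R, 𝒦.map (r • 𝟙 (ModuleCat.of R R)) ≫ φ.hom = φ.hom ≫ 𝒦'.map (r • 𝟙 (ModuleCat.of R R))) :
    unitCx 𝒦 ≅ unitCx 𝒦' :=
  HomologicalComplex.Hom.isoOfComponents
    (fun i => LinearEquiv.toModuleIso
      (show ((unitCx 𝒦).X i) ≃ₗ[R] ((unitCx 𝒦').X i) from
      { toFun := fun x => (φ.hom.f i).hom x
        invFun := fun x => (φ.inv.f i).hom x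
        map_add' := fun x y => map_add (φ.hom.f i).hom x y
        map_smul' := fun r x => by
          have h1 := congrArg (fun t : 𝒦.obj (ModuleCat.of R R) ⟶ 𝒦'.obj (ModuleCat.of R R) =>
            (ConcreteCategory.hom (t.f i)) x) (hφ r)
          exact h1
        left_inv := fun x => by
          have h1 := congrArg (fun t : 𝒦.obj (ModuleCat.of R R) ⟶ 𝒦.obj (ModuleCat.of R R) =>
            (ConcreteCategory.hom (t.f i)) x) φ.hom_inv_id
          exact h1
        right_inv := fun x => by
          have h1 := congrArg (fun t : 𝒦'.obj (ModuleCat.of R R) ⟶ 𝒦'.obj (ModuleCat.of R R) =>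
            (ConcreteCategory.hom (t.f i)) x) φ.inv_hom_id
          exact h1 }))
    (fun i j _ => by
      ext x
      exact ConcreteCategory.congr_hom (φ.hom.comm i j) x)

end Lift

section Congr

variable {R : Type u} [CommRing R] {κ : Type} {c : ComplexShape κ}
  {P P' : HomologicalComplex (ModuleCat.{u} R) c}

/-- `tensorFun` of isomorphic complexes -/
def tensorFunCongr (e : P ≅ P') : tensorFun P ≅ tensorFun P' :=
  NatIso.ofComponents
    (fun M => ((MonoidalCategory.tensorRight M).mapHomologicalComplex c).mapIso e)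
    (fun {M N} g =>
      (NatTrans.mapHomologicalComplex_naturality (c := c)
        ((MonoidalCategory.tensoringRight (ModuleCat.{u} R)).map g) e.hom).symm)

/-- `TFun` of isomorphic complexes -/
def TFunCongr (e : P ≅ P') (p : κ) : CohIII.TFun P p ≅ CohIII.TFun P' p :=
  TFunIso P p ≪≫ Functor.isoWhiskerRight (tensorFunCongr e) _ ≪≫ (TFunIso P' p).symm

end Congr

section Main

variable {R : Type u} [CommRing R] {κ : Type} {c : ComplexShape κ}
  (𝒦 𝒦' : ModuleCat.{u} R ⥤ HomologicalComplex AddCommGrpCat.{u} c) [𝒦.Additive] [𝒦'.Additive]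
  (h : ∀ (i : κ) (M : ModuleCat.{u} R), Function.Bijective (tM (liftA (ev 𝒦 i)) M))
  (h' : ∀ (i : κ) (M : ModuleCat.{u} R), Function.Bijective (tM (liftA (ev 𝒦' i)) M))

/-- Eilenberg–Watts: an isomorphism of unit complexes induces an isomorphism of homology functors -/
def natIso_of_unitCxIso (e : unitCx 𝒦 ≅ unitCx 𝒦') (i : κ) :
    𝒦 ⋙ HomologicalComplex.homologyFunctor AddCommGrpCat.{u} c i ≅
      𝒦' ⋙ HomologicalComplex.homologyFunctor AddCommGrpCat.{u} c i :=
  (ewHomologyIso 𝒦 h i).symm ≪≫
    Functor.isoWhiskerRight (TFunCongr e i) (forget₂ (ModuleCat.{u} R) AddCommGrpCat.{u}) ≪≫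
    ewHomologyIso 𝒦' h' i

end Main

end Groth.Agent.Lib.R2H2.ABC
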