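import Mathlib
import Groth.Agent.Lib.R2H2ABC4
import Groth.Agent.Lib.R2H2GAlg
set_option backward.isDefEq.respectTransparency.types false

/-!
# `M' ↦ H_p(P ⊗_A M'_A)` is `M' ↦ H_p(P_B ⊗_B M')` (helper2, round 2)

For a ring map `A → B` and a complex `P` of `A`-modules:
`nonempty_TFun_bcCx_iso : Nonempty (restrictScalars ⋙ TFun P p ⋙ forget₂ ≅ TFun (bcCx φ P) p ⋙ forget₂)`.
-/

set_option autoImplicit false
set_option linter.unusedSectionVars false
set_option linter.style.haveILetI false
universe u
open CategoryTheory CategoryTheory.Limits MonoidalCategory TensorProduct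

noncomputable section

namespace Groth.Agent.Lib.R2H2.BcTFun

open Groth.Agent.Lib.R2H2.LiftA Groth.Agent.Lib.Helper16.TensorCmp Groth.Agent.Lib.R2H2.EWCx
  Groth.Agent.Lib.R2H2.ABC

variable {A B : Type u} [CommRing A] [CommRing B] [Algebra A B] {κ : Type} {c : ComplexShape κ}
  (P : HomologicalComplex (ModuleCat.{u} A) c)

instance tensorFun_additive : (tensorFun P).Additive where
  map_add {M N f g} := by
    ext i : 1
    show P.X i ◁ (f + g) = P.X i ◁ f + P.X i ◁ g
    exact MonoidalPreadditive.whiskerLeft_add _ _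

instance tensorFun_linear : (tensorFun P).Linear A where
  map_smul {M N} f a := by
    ext i : 1
    show P.X i ◁ (a • f) = a • (P.X i ◁ f)
    exact MonoidalLinear.whiskerLeft_smul _ _ _

instance TFun_additive (p : κ) : (CohIII.TFun P p).Additive where
  map_add {M N f g} := by
    show HomologicalComplex.homologyMap ((tensorFun P).map (f + g)) p = _
    rw [Functor.map_add, HomologicalComplex.homologyMap_add]
    rfl

instance TFun_linear (p : κ) : (CohIII.TFun P p).Linear A where
  map_smul {M N} f a := by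
    show HomologicalComplex.homologyMap ((tensorFun P).map (a • f)) p = _
    rw [Functor.Linear.map_smul, Groth.Agent.Lib.R2H2.GAlg.homologyMap_smul]
    rfl

variable (B) in
/-- `M' ↦ P ⊗_A M'_A`, as a functor to complexes of abelian groups -/
def K1 : ModuleCat.{u} B ⥤ HomologicalComplex AddCommGrpCat.{u} c :=
  ModuleCat.restrictScalars (algebraMap A B) ⋙ tensorFun P ⋙
    (forget₂ (ModuleCat.{u} A) AddCommGrpCat.{u}).mapHomologicalComplex c

instance : (K1 B P).Additive := by
  unfold K1
  infer_instance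


/-- the degree `i` part of `K1` -/
def evIso (i : κ) : ev (K1 B P) i ≅
    ModuleCat.restrictScalars.{u} (algebraMap A B) ⋙ tensorLeft (P.X i) ⋙
      forget₂ (ModuleCat.{u} A) AddCommGrpCat.{u} :=
  NatIso.ofComponents (fun M => Iso.refl _) (fun {M N} g => by
    exact (Category.comp_id _).trans (Category.id_comp _).symm)

lemma bijective_tM_K1 (i : κ) (M : ModuleCat.{u} B) :
    Function.Bijective (tM (liftA (ev (K1 B P) i)) M) := by
  haveI : PreservesColimitsOfSize.{u, u} (tensorLeft (P.X i)) :=
    (ihom.adjunction (P.X i)).leftAdjoint_preservesColimits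
  haveI : ∀ J : Type u, PreservesColimitsOfShape (Discrete J)
      (ModuleCat.restrictScalars.{u} (algebraMap A B)) := fun J =>
    ⟨fun {K} => ModuleCat.preservesColimit_restrictScalars (algebraMap A B) K⟩
  haveI : PreservesFiniteColimits (ev (K1 B P) i) :=
    preservesFiniteColimits_of_natIso (evIso P i).symm
  haveI : ∀ J : Type u, PreservesColimitsOfShape (Discrete J) (ev (K1 B P) i) := fun J =>
    preservesColimitsOfShape_of_natIso (evIso P i).symm
  exact bijective_tM_liftA (ev (K1 B P) i) M


/-- the underlying type of `(unitCx (K1 B P)).X i` -/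
lemma unitCx_X_smul (i : κ) (b : B) (z : (unitCx (K1 B P)).X i) :
    b • z = (LinearMap.lTensor (P.X i) (mulB A B b).hom
      (show (P.X i) ⊗[A] (BA A B) from z) : (P.X i) ⊗[A] (BA A B)) := rfl

/-- `B ⊗_A P_i`, the degree `i` part of the base changed complex -/
abbrev EX (i : κ) : ModuleCat.{u} B := (ModuleCat.extendScalars (algebraMap A B)).obj (P.X i)

/-- `comm` as a map into `EX` -/
def commE (i : κ) : (P.X i) ⊗[A] (BA A B) →+ EX (B := B) P i :=
  (TensorProduct.comm A (P.X i) (BA A B)).toLinearMap.toAddMonoidHom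

lemma commE_tmul (i : κ) (x : P.X i) (b : BA A B) :
    commE P i (x ⊗ₜ[A] b) = (b ⊗ₜ[A] x : (BA A B) ⊗[A] (P.X i)) := rfl

lemma commE_smul (i : κ) (b : B) (t : (P.X i) ⊗[A] (BA A B)) :
    commE P i (LinearMap.lTensor (P.X i) (mulB A B b).hom t) = b • commE P i t := by
  induction t using TensorProduct.induction_on with
  | zero => rw [map_zero, map_zero, smul_zero]
  | tmul x b' => rfl
  | add t t' ht ht' => rw [map_add, map_add, ht, ht', map_add, smul_add]

/-- the degreewise comparison `P_i ⊗_A B ≃ B ⊗_A P_i` -/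
def unitEquiv (i : κ) :
    (unitCx (K1 B P)).X i ≃ₗ[B] (CohIII.bcCx (algebraMap A B) P).X i where
  toFun z := commE P i (show (P.X i) ⊗[A] (BA A B) from z)
  invFun w := (TensorProduct.comm A (P.X i) (BA A B)).symm (show (BA A B) ⊗[A] (P.X i) from w)
  map_add' z z' := map_add (commE P i) _ _
  map_smul' b z := by
    rw [unitCx_X_smul]
    exact commE_smul P i b _
  left_inv z := (TensorProduct.comm A (P.X i) (BA A B)).symm_apply_apply _
  right_inv w := (TensorProduct.comm A (P.X i) (BA A B)).apply_symm_apply _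


lemma commE_d (i j : κ) (t : (P.X i) ⊗[A] (BA A B)) :
    ((ModuleCat.extendScalars (algebraMap A B)).map (P.d i j)).hom (commE P i t) =
      commE P j (LinearMap.rTensor (BA A B) (P.d i j).hom t) := by
  induction t using TensorProduct.induction_on with
  | zero => rw [map_zero, map_zero, map_zero, map_zero]
  | tmul x b' => rfl
  | add t t' ht ht' => rw [map_add, map_add, ht, ht', map_add, map_add]

variable (B) in
/-- the unit complex of `K1` is the base changed complex -/
def unitCxBcIso : unitCx (K1 B P) ≅ CohIII.bcCx (algebraMap A B) P :=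
  HomologicalComplex.Hom.isoOfComponents (fun i => (unitEquiv P i).toModuleIso)
    (fun i j _ => by
      ext z
      exact commE_d P i j (show (P.X i) ⊗[A] (BA A B) from z))


variable (B) in
/-- **`M' ↦ H_p(P ⊗_A M'_A)` is `M' ↦ H_p(P_B ⊗_B M')`**, naturally in the `B`-module `M'` -/
def TFunBcIso (p : κ) :
    ModuleCat.restrictScalars.{u} (algebraMap A B) ⋙ CohIII.TFun P p ⋙
        forget₂ (ModuleCat.{u} A) AddCommGrpCat.{u} ≅
      CohIII.TFun (CohIII.bcCx (algebraMap A B) P) p ⋙ forget₂ (ModuleCat.{u} B) AddCommGrpCat.{u} :=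
  have e1 : ModuleCat.restrictScalars.{u} (algebraMap A B) ⋙ CohIII.TFun P p ⋙
        forget₂ (ModuleCat.{u} A) AddCommGrpCat.{u} ≅
      K1 B P ⋙ HomologicalComplex.homologyFunctor AddCommGrpCat.{u} c p :=
    Functor.isoWhiskerLeft (ModuleCat.restrictScalars.{u} (algebraMap A B))
      (Functor.isoWhiskerRight (TFunIso P p) (forget₂ (ModuleCat.{u} A) AddCommGrpCat.{u}) ≪≫
        Functor.associator _ _ _ ≪≫
        Functor.isoWhiskerLeft (tensorFun P)
          (mapHomologyNatIso (forget₂ (ModuleCat.{u} A) AddCommGrpCat.{u}) c p).symm)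
  e1 ≪≫ (ewHomologyIso (K1 B P) (bijective_tM_K1 P) p).symm ≪≫
    Functor.isoWhiskerRight (TFunCongr (unitCxBcIso B P) p)
      (forget₂ (ModuleCat.{u} B) AddCommGrpCat.{u})

end Groth.Agent.Lib.R2H2.BcTFun
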