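import Mathlib
import Groth.Agent.Lib.H9CbA
import Groth.Agent.Lib.R2H2BcTFun
set_option backward.isDefEq.respectTransparency.types false

/-! helper9: `αlin_nat` (naturality of helper2's αlin), `finrank_fibre_Qt`: for any field κ over B, dim_κ (κ ⊗ C) = dim_κ H_0(K ⊗_B κ) (C the corepresenting module of T_0). -/

set_option autoImplicit false
set_option linter.unusedSectionVars false
universe u
open CategoryTheory CategoryTheory.Limits MonoidalCategory TensorProduct Opposite

noncomputable section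

namespace Groth.Agent.Lib.H9CbB

open Groth.Agent.Lib.R2H2.CoRep Groth.Agent.Lib.R2H2.LiftA Groth.Agent.Lib.R2H2.BcTFun
  Groth.Agent.Lib.R2H2.GAlg Groth.Agent.Lib.H9CbA

variable {B : Type u} [CommRing B] (K : ChainComplex (ModuleCat.{u} B) ℤ)

/-- naturality of `αlin` -/
theorem αlin_nat [Module.Finite B (K.opcycles 0)] [Module.Projective B (K.opcycles 0)]
    [Module.Finite B (K.X ((ComplexShape.down ℤ).next 0))]
    [Module.Projective B (K.X ((ComplexShape.down ℤ).next 0))]
    {M N : ModuleCat.{u} B} (f : M ⟶ N) (t : CohIII.T K 0 M) :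
    αlin K 0 N (((CohIII.TFun K 0).map f).hom t) = f.hom ∘ₗ αlin K 0 M t := by
  have h1 := (corepIso K 0).hom.naturality f
  have h2 := congrArg (fun g => (g.hom t).hom) h1
  exact h2

variable (κ : Type u) [Field κ] [Algebra B κ]

/-- `κ` as a `B`-module through restriction of scalars -/
abbrev κB : ModuleCat.{u} B :=
  (ModuleCat.restrictScalars.{u} (algebraMap B κ)).obj (ModuleCat.of κ κ)

/-- the identity `κB → κ` as a `B`-linear equivalence -/
def idκ : (κB (B := B) κ) ≃ₗ[B] κ where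
  toFun x := x
  invFun x := x
  left_inv _ := rfl
  right_inv _ := rfl
  map_add' _ _ := rfl
  map_smul' b x := by
    have h := ModuleCat.restrictScalars.smul_def (algebraMap B κ) (M := ModuleCat.of κ κ) b x
    refine h.trans ?_
    exact algebraMap_smul κ b (show κ from x)

/-- the functor `M ↦ T_0(M_B)` on `κ`-modules, to abelian groups -/
abbrev G : ModuleCat.{u} κ ⥤ AddCommGrpCat.{u} :=
  ModuleCat.restrictScalars.{u} (algebraMap B κ) ⋙ CohIII.TFun K 0 ⋙
    forget₂ (ModuleCat.{u} B) AddCommGrpCat.{u}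

theorem finrank_liftA :
    Module.finrank κ ((liftA (G K κ)).obj (ModuleCat.of κ κ)) =
      Module.finrank κ ((CohIII.bcCx (algebraMap B κ) K).homology 0) := by
  let ε₁ := ((liftIso (TFunBcIso κ K 0)).app (ModuleCat.of κ κ)).toLinearEquiv
  let ε₂ := ((liftAForget (CohIII.TFun (CohIII.bcCx (algebraMap B κ) K) 0)).app
    (ModuleCat.of κ κ)).toLinearEquiv
  let ε₃ := (Groth.Agent.Lib.Helper3.TUnitIso (CohIII.bcCx (algebraMap B κ) K) 0).toLinearEquiv
  exact (ε₁ ≪≫ₗ ε₂ ≪≫ₗ ε₃).finrank_eq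

end Groth.Agent.Lib.H9CbB

noncomputable section

namespace Groth.Agent.Lib.H9CbB

open Groth.Agent.Lib.R2H2.CoRep Groth.Agent.Lib.R2H2.LiftA Groth.Agent.Lib.R2H2.BcTFun
  Groth.Agent.Lib.R2H2.GAlg Groth.Agent.Lib.H9CbA

variable {B : Type u} [CommRing B] {K : ChainComplex (ModuleCat.{u} B) ℤ} (h : Hyp K)
variable (κ : Type u) [Field κ] [Algebra B κ]

/-- `T_0(κ_B) ≃ Hom_B(C, κ)`, `κ`-linearly -/
def Ψ : (liftA (G K κ)).obj (ModuleCat.of κ κ) ≃ₗ[κ] (Qt K 0 →ₗ[B] κ) :=
  haveI := h.finite_opc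
  haveI := h.projective_opc
  haveI := h.finite_next
  haveI := h.projective_next
  { toFun := fun t => (idκ (B := B) κ).toLinearMap ∘ₗ αlin K 0 (κB κ) (show CohIII.T K 0 (κB κ) from t)
    invFun := fun g => (h.αE (κB κ)).symm ((idκ (B := B) κ).symm.toLinearMap ∘ₗ g)
    left_inv := fun t => by
      show (h.αE (κB κ)).symm ((idκ (B := B) κ).symm.toLinearMap ∘ₗ
        ((idκ (B := B) κ).toLinearMap ∘ₗ αlin K 0 (κB κ) (show CohIII.T K 0 (κB κ) from t))) = t
      have : (idκ (B := B) κ).symm.toLinearMap ∘ₗ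
          ((idκ (B := B) κ).toLinearMap ∘ₗ αlin K 0 (κB κ) (show CohIII.T K 0 (κB κ) from t)) =
          h.αE (κB κ) (show CohIII.T K 0 (κB κ) from t) := by
        ext c
        rfl
      rw [this, LinearEquiv.symm_apply_apply]
    right_inv := fun g => by
      show (idκ (B := B) κ).toLinearMap ∘ₗ αlin K 0 (κB κ)
        ((h.αE (κB κ)).symm ((idκ (B := B) κ).symm.toLinearMap ∘ₗ g)) = g
      have : αlin K 0 (κB κ) ((h.αE (κB κ)).symm ((idκ (B := B) κ).symm.toLinearMap ∘ₗ g)) =
          (idκ (B := B) κ).symm.toLinearMap ∘ₗ g :=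
        (h.αE (κB κ)).apply_symm_apply _
      rw [this]
      ext c
      rfl
    map_add' := fun t t' => by
      show (idκ (B := B) κ).toLinearMap ∘ₗ αlin K 0 (κB κ)
        ((show CohIII.T K 0 (κB κ) from t) + (show CohIII.T K 0 (κB κ) from t')) = _
      rw [map_add, LinearMap.comp_add]
    map_smul' := fun x t => by
      apply LinearMap.ext
      intro c
      have h1 : (x • t : (liftA (G K κ)).obj (ModuleCat.of κ κ)) =
          (((CohIII.TFun K 0).map ((ModuleCat.restrictScalars.{u} (algebraMap B κ)).map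
            (x • 𝟙 (ModuleCat.of κ κ)))).hom (show CohIII.T K 0 (κB κ) from t)) := rfl
      show (idκ (B := B) κ) (αlin K 0 (κB κ) (show CohIII.T K 0 (κB κ) from (x • t)) c) =
        x • (idκ (B := B) κ) (αlin K 0 (κB κ) (show CohIII.T K 0 (κB κ) from t) c)
      rw [h1, αlin_nat]
      rfl }

include h in
theorem finrank_fibre_Qt :
    Module.finrank κ (κ ⊗[B] Qt K 0) =
      Module.finrank κ ((CohIII.bcCx (algebraMap B κ) K).homology 0) := by
  haveI := h.finitePresentation_Qt
  rw [← finrank_liftA, (Ψ h κ).finrank_eq,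
    (LinearMap.liftBaseChangeEquiv (R := B) (M := Qt K 0) (N := κ) κ).finrank_eq]
  exact (Subspace.dual_finrank_eq (K := κ) (V := κ ⊗[B] Qt K 0)).symm

end Groth.Agent.Lib.H9CbB
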