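import Mathlib

/-! helper9: commutative algebra for S0980: `eq_zero_of_smul_localized` (localization of a faithful finite module is faithful), `nonempty_linearEquiv_localized` (faithful finite module with 1-dimensional fibre at a prime is free of rank one there), `projective_of_faithful_of_fibre`. -/

set_option autoImplicit false
universe u
open TensorProduct

namespace Groth.Agent.Lib.H9CbC

variable {B : Type u} [CommRing B] (C : Type u) [AddCommGroup C] [Module B C]

/-- the localization of a faithful finite module is faithful -/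
theorem eq_zero_of_smul_localized [Module.Finite B C]
    (hfaith : ∀ a : B, (∀ x : C, a • x = 0) → a = 0)
    (S : Submonoid B) (r : Localization S) (hr : ∀ m : LocalizedModule S C, r • m = 0) : r = 0 := by
  obtain ⟨⟨a, s⟩, rfl⟩ := IsLocalization.mk'_surjective S r
  have h1 : ∀ x : C, LocalizedModule.mkLinearMap S C (a • x) = 0 := by
    intro x
    have h2 := hr (LocalizedModule.mkLinearMap S C x)
    have h3 : (algebraMap B (Localization S) (s : B)) •
        (IsLocalization.mk' (Localization S) a s • LocalizedModule.mkLinearMap S C x) = 0 := by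
      rw [h2, smul_zero]
    rw [smul_smul, IsLocalization.mk'_spec', algebraMap_smul, ← map_smul] at h3
    exact h3
  have h4 : (LocalizedModule.mkLinearMap S C).comp (a • (LinearMap.id : C →ₗ[B] C)) =
      (LocalizedModule.mkLinearMap S C).comp (0 : C →ₗ[B] C) := by
    ext x
    simpa using h1 x
  obtain ⟨t, ht⟩ := Module.Finite.exists_smul_of_comp_eq_of_isLocalizedModule S
    (LocalizedModule.mkLinearMap S C) _ _ h4
  have h5 : (t : B) * a = 0 := by
    apply hfaith
    intro x
    have := LinearMap.congr_fun ht x
    simpa [mul_smul, Submonoid.smul_def] using this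
  rw [IsLocalization.mk'_eq_zero_iff]
  exact ⟨t, h5⟩




/-- a faithful finite module with one-dimensional fibre at the prime `𝔭` is free of rank one at `𝔭` -/
theorem nonempty_linearEquiv_localized [Module.Finite B C]
    (hfaith : ∀ a : B, (∀ x : C, a • x = 0) → a = 0) (𝔭 : Ideal B) [𝔭.IsPrime]
    (hdim : Module.finrank 𝔭.ResidueField (𝔭.ResidueField ⊗[B] C) = 1) :
    Nonempty (Localization.AtPrime 𝔭 ≃ₗ[Localization.AtPrime 𝔭] LocalizedModule 𝔭.primeCompl C) := by
  let R := Localization.AtPrime 𝔭
  let M := LocalizedModule 𝔭.primeCompl C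
  let k := 𝔭.ResidueField
  let e : k ⊗[R] M ≃ₗ[k] k ⊗[B] C :=
    (AlgebraTensorModule.congr (LinearEquiv.refl k k)
      (LocalizedModule.equivTensorProduct 𝔭.primeCompl C)) ≪≫ₗ
    AlgebraTensorModule.cancelBaseChange B R k k C
  have hd : Module.finrank k (k ⊗[R] M) = 1 := by rw [e.finrank_eq]; exact hdim
  -- a vector with nonzero class
  have hex : ∃ m : M, (1 : k) ⊗ₜ[R] m ≠ 0 := by
    by_contra hcon
    push Not at hcon
    have h1 : (⊤ : Submodule R M).map (TensorProduct.mk R k M 1) = ⊤ :=
      IsLocalRing.map_tensorProduct_mk_eq_top.mpr rfl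
    have h2 : (⊤ : Submodule R M).map (TensorProduct.mk R k M 1) = ⊥ := by
      rw [eq_bot_iff]
      rintro _ ⟨m, -, rfl⟩
      simpa using hcon m
    have h3 : (⊤ : Submodule R (k ⊗[R] M)) = ⊥ := h1.symm.trans h2
    have h4 : Subsingleton (k ⊗[R] M) := by
      constructor
      intro a b
      have ha : a ∈ (⊥ : Submodule R (k ⊗[R] M)) := h3 ▸ Submodule.mem_top
      have hb : b ∈ (⊥ : Submodule R (k ⊗[R] M)) := h3 ▸ Submodule.mem_top
      rw [Submodule.mem_bot] at ha hb
      rw [ha, hb]
    have := Module.finrank_zero_of_subsingleton (R := k) (M := k ⊗[R] M)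
    omega
  obtain ⟨m, hm⟩ := hex
  have hspan : Submodule.span R (Set.range (fun _ : Unit => m)) = ⊤ :=
    IsLocalRing.span_eq_top_of_tmul_eq_basis (fun _ : Unit => m)
      (FiniteDimensional.basisSingleton Unit hd ((1 : k) ⊗ₜ[R] m) hm) (fun i => by simp)
  let φ : R →ₗ[R] M := LinearMap.toSpanSingleton R M m
  have hsurj : Function.Surjective φ := by
    intro x
    have hx : x ∈ Submodule.span R (Set.range (fun _ : Unit => m)) := hspan ▸ Submodule.mem_top
    rw [Set.range_const, Submodule.mem_span_singleton] at hx
    obtain ⟨r, rfl⟩ := hx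
    exact ⟨r, rfl⟩
  have hinj : Function.Injective φ := by
    rw [injective_iff_map_eq_zero]
    intro r hr
    apply eq_zero_of_smul_localized C hfaith 𝔭.primeCompl r
    intro x
    obtain ⟨r', rfl⟩ := hsurj x
    show r • (r' • m) = 0
    rw [smul_comm]
    have : r • m = 0 := hr
    rw [this, smul_zero]
  exact ⟨LinearEquiv.ofBijective φ ⟨hinj, hsurj⟩⟩

/-- a finitely presented faithful module with one-dimensional fibres at all maximal ideals
is projective -/
theorem projective_of_faithful_of_fibre [Module.FinitePresentation B C]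
    (hfaith : ∀ a : B, (∀ x : C, a • x = 0) → a = 0)
    (hdim : ∀ (𝔪 : Ideal B) [𝔪.IsMaximal],
      Module.finrank 𝔪.ResidueField (𝔪.ResidueField ⊗[B] C) = 1) :
    Module.Projective B C := by
  apply Module.projective_of_localization_maximal
  intro I hI
  obtain ⟨e⟩ := nonempty_linearEquiv_localized C hfaith I (hdim I)
  exact Module.Projective.of_equiv e

end Groth.Agent.Lib.H9CbC
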