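import Mathlib
import Groth.Agent.Lib.H9CbB
import Groth.Agent.Lib.H9CbC
import Groth.Agent.Lib.Helper3FlatCxBT
set_option backward.isDefEq.respectTransparency.types false

/-! helper9: `preservesEpi_of_projective`, `flat_opcycles_neg_one`, `core`: the algebra core of cohomology-and-base-change in degree 0 over an arbitrary ring B: a B-algebra Γ with injective structure map, Γ ≃ₗ H_0(K), K finite free with T_1 ≡ 0 and dRank K 0 ≡ 1 ⇒ B → Γ bijective. -/

set_option autoImplicit false
set_option linter.unusedSectionVars false
universe u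
open CategoryTheory CategoryTheory.Limits MonoidalCategory TensorProduct Opposite

noncomputable section

namespace Groth.Agent.Lib.H9CbD

open Groth.Agent.Lib.R2H2.CoRep Groth.Agent.Lib.H9CbA Groth.Agent.Lib.H9CbB
  Groth.Agent.Lib.H9CbC

variable {B : Type u} [CommRing B] {K : ChainComplex (ModuleCat.{u} B) ℤ} (h : Hyp K)

include h in
/-- if the corepresenting module is projective then `T_0` preserves epimorphisms -/
theorem preservesEpi_of_projective [Module.Projective B (Qt K 0)] :
    (CohIII.TFun K 0).PreservesEpimorphisms where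
  preserves {M N} g hg := by
    haveI := h.finite_opc
    haveI := h.projective_opc
    haveI := h.finite_next
    haveI := h.projective_next
    rw [ModuleCat.epi_iff_surjective]
    intro t
    have hgs : Function.Surjective g.hom := (ModuleCat.epi_iff_surjective g).mp hg
    obtain ⟨l, hl⟩ := Module.projective_lifting_property g.hom (h.αE N t) hgs
    refine ⟨(h.αE M).symm l, ?_⟩
    apply (h.αE N).injective
    rw [h.αE_apply, αlin_nat, ← h.αE_apply, LinearEquiv.apply_symm_apply]
    exact hl

include h in
/-- if `T_0` preserves epimorphisms then the next opcycles are flat -/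
theorem flat_opcycles_neg_one (he : (CohIII.TFun K 0).PreservesEpimorphisms) :
    Module.Flat B (K.opcycles (-1)) := by
  apply flat_opcycles K (-1) (h.flat _)
  constructor
  intro M' M φ hφ
  let S : ShortComplex (ModuleCat.{u} B) := ShortComplex.mk φ (cokernel.π φ) (cokernel.condition φ)
  have hS : S.ShortExact :=
    { exact := ShortComplex.exact_of_g_is_cokernel _ (cokernelIsCokernel φ)
      mono_f := hφ
      epi_g := inferInstanceAs (Epi (cokernel.π φ)) }
  exact Groth.Agent.Lib.Helper3.mono_T_map_of_epi K h.flat S hS 0 (-1) (by simp)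
    (he.preserves S.g)

end Groth.Agent.Lib.H9CbD

noncomputable section

namespace Groth.Agent.Lib.H9CbD

open Groth.Agent.Lib.R2H2.CoRep Groth.Agent.Lib.H9CbA Groth.Agent.Lib.H9CbB
  Groth.Agent.Lib.H9CbC Groth.Agent.S2380

variable {B : Type u} [CommRing B] {K : ChainComplex (ModuleCat.{u} B) ℤ} (h : Hyp K)

include h in
/-- **the algebra core**: a `B`-algebra `Γ` with injective structure map which is `H_0` of a
complex of finite free modules with `T_1 ≡ 0` and all fibre ranks of `T_0` equal to one is `B` -/
theorem core (hr : ∀ q : PrimeSpectrum B, CohIII.dRank K 0 q = 1)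
    (Γ : Type u) [CommRing Γ] [Algebra B Γ] (hinj : Function.Injective (algebraMap B Γ))
    (e : Γ ≃ₗ[B] K.homology 0) : Function.Bijective (algebraMap B Γ) := by
  haveI := h.finitePresentation_Qt
  let E : Γ ≃ₗ[B] (Qt K 0 →ₗ[B] B) := e ≪≫ₗ h.homologyEquiv
  -- faithfulness
  have hfaith : ∀ a : B, (∀ x : Qt K 0, a • x = 0) → a = 0 := by
    intro a ha
    apply hinj
    rw [map_zero]
    apply E.injective
    rw [map_zero, Algebra.algebraMap_eq_smul_one, map_smul]
    apply LinearMap.ext
    intro c
    rw [LinearMap.smul_apply, ← map_smul, ha, map_zero, LinearMap.zero_apply]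
  -- fibre dimensions
  have hdim : ∀ (𝔪 : Ideal B) [𝔪.IsMaximal],
      Module.finrank 𝔪.ResidueField (𝔪.ResidueField ⊗[B] Qt K 0) = 1 := by
    intro 𝔪 _
    rw [finrank_fibre_Qt h 𝔪.ResidueField]
    exact hr ⟨𝔪, inferInstance⟩
  haveI : Module.Projective B (Qt K 0) := projective_of_faithful_of_fibre _ hfaith hdim
  -- exactness
  haveI : Module.Flat B (K.opcycles (0 - 1)) :=
    flat_opcycles_neg_one h (preservesEpi_of_projective h)
  haveI : Module.Flat B (K.X (0 - 1)) := h.flat _
  have hfd : ∀ x : PrimeSpectrum B, fd (K.homology 0) x = 1 := fun x => by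
    rw [← Groth.Agent.Lib.Helper3.dRank_eq_fd_homology K 0 x]
    exact hr x
  -- `Γ` is finite projective of rank one
  haveI : Module.Finite B Γ := Module.Finite.equiv E.symm
  haveI : Module.Projective B Γ := Module.Projective.of_equiv E.symm
  apply Module.algebraMap_bijective_of_rankAtStalk
  funext p
  rw [Module.rankAtStalk_eq, Pi.one_apply]
  have := Groth.Agent.Lib.Helper3.fd_congr e p
  rw [hfd p] at this
  exact this

end Groth.Agent.Lib.H9CbD
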