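import Groth.Agent.Lib.R2H2PsiCech
import Groth.Agent.Lib.R2H2ProperFin
import Groth.Agent.Lib.R2H2ReesCoh
set_option backward.isDefEq.respectTransparency.types false

/-!
# Grothendieck's complex for `T^p(M) = H^p(X, f^*(M~) ⊗ F)` (helper2, round 2)

`bridge`: `A` Noetherian, `X` proper over `Spec A`, `F` coherent and flat over `A`. There is a bounded
complex `Q` of finite free `A`-modules with `H_{-p}(Q ⊗ M) ≅ H^p(X, Ψ M)` naturally in `M`.
-/

set_option autoImplicit false
set_option linter.unusedSectionVars false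
set_option linter.style.haveILetI false
universe u
open CategoryTheory CategoryTheory.Limits AlgebraicGeometry TopologicalSpace Opposite

noncomputable section

namespace Groth.Agent.Lib.R2H2.Bridge

open Groth.Agent.Lib.R2H2.PsiA Groth.Agent.Lib.R2H2.LiftA Groth.Agent.Lib.R2H2.PsiCech
  Groth.Agent.Lib.R2H2.GAlgN

/-- **Grothendieck's complex** for the cohomology of a flat coherent sheaf on a proper scheme,
with the vanishing of `T_i` for `i > 0` -/
theorem bridge' (A : Type u) [CommRing A] [IsNoetherianRing A] (X : Scheme.{u})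
    [X.Over (Spec (CommRingCat.of A))] [IsProper (X ↘ Spec (CommRingCat.of A))]
    (F : X.Modules) (hF : Coh.IsCoh F)
    (hfl : FlatMod.IsFlatOver (X ↘ Spec (CommRingCat.of A)) F) :
    ∃ (Q : ChainComplex (ModuleCat.{u} A) ℤ) (b : ℕ),
      (∀ i, Module.Finite A (Q.X i) ∧ Module.Free A (Q.X i)) ∧
      (∀ i : ℤ, i < 1 - (b : ℤ) → IsZero (Q.X i)) ∧
      (∀ i : ℤ, 0 < i → ∀ M : ModuleCat.{u} A, IsZero ((CohIII.TFun Q i).obj M)) ∧
      ∀ p : ℕ, Nonempty
        (CohIII.TFun Q (-(p : ℤ)) ⋙ forget₂ (ModuleCat.{u} A) AddCommGrpCat.{u} ≅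
          CohIII.tensorAFunctor A F ⋙ CohIII.HAb X p) := by
  haveI : F.IsQuasicoherent := hF.1
  haveI : CompactSpace X :=
    QuasiCompact.compactSpace_of_compactSpace (X ↘ Spec (CommRingCat.of A))
  haveI : QuasiSeparatedSpace X :=
    quasiSeparatedSpace_of_quasiSeparated (X ↘ Spec (CommRingCat.of A))
  obtain ⟨ι, hfin, V, hcov, _, hV⟩ :=
    Groth.Agent.Lib.R2H2.ProperFin.exists_affine_cover_of_isSeparated
      (X ↘ Spec (CommRingCat.of A))
  have hU := Groth.Agent.Lib.R2H2.ReesCoh.isAffineOpen_biInf_of_fin X V hV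
  obtain ⟨b, hb⟩ := Groth.Agent.S0016.result X
  have η : ∀ p : ℕ, (cechPsi A F V ⋙ HomologicalComplex.homologyFunctor AddCommGrpCat.{u} _ p ≅
      CohIII.tensorAFunctor A F ⋙ CohIII.HAb X p) :=
    fun p => (nonempty_natIso A F V hcov hU p).some
  obtain ⟨Q, hQ, hQz, hQv, hQi⟩ := exists_complex_nat' (cechPsi A F V)
    (fun n => preservesFiniteColimits_deg A F V hU n)
    (fun n J => preservesCoproducts_deg A F V hU n J)
    (fun n => flat_deg A F V hU hfl n)
    (fun n => by
      haveI : Module.Finite A (Coh.HH X ((CohIII.tensorAFunctor A F).obj (ModuleCat.of A A)) n) :=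
        Groth.Agent.S0002.result A X _
          (Groth.Agent.Lib.R2H2.PdSheaf.isCoh_of_iso (objUnitIso A F).symm hF) n
      exact Module.Finite.equiv
        (((liftIso (η n)).app (ModuleCat.of A A)).toLinearEquiv ≪≫ₗ
          liftHAbEquiv A F (ModuleCat.of A A) n).symm)
    b
    (fun M p hp => by
      haveI : Subsingleton (Coh.HH X ((CohIII.tensorAFunctor A F).obj M) p) :=
        hb _ (isQuasicoherent_obj A F M) p hp
      have hz : IsZero ((CohIII.tensorAFunctor A F ⋙ CohIII.HAb X p).obj M) :=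
        AddCommGrpCat.isZero_of_subsingleton
          (AddCommGrpCat.of (Coh.HH X ((CohIII.tensorAFunctor A F).obj M) p))
      exact IsZero.of_iso hz ((η p).app M))
  exact ⟨Q, b, hQ, hQz, hQv, fun p => ⟨(hQi p).some ≪≫ η p⟩⟩

/-- **Grothendieck's complex** for the cohomology of a flat coherent sheaf on a proper scheme -/
theorem bridge (A : Type u) [CommRing A] [IsNoetherianRing A] (X : Scheme.{u})
    [X.Over (Spec (CommRingCat.of A))] [IsProper (X ↘ Spec (CommRingCat.of A))]
    (F : X.Modules) (hF : Coh.IsCoh F)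
    (hfl : FlatMod.IsFlatOver (X ↘ Spec (CommRingCat.of A)) F) :
    ∃ (Q : ChainComplex (ModuleCat.{u} A) ℤ) (b : ℕ),
      (∀ i, Module.Finite A (Q.X i) ∧ Module.Free A (Q.X i)) ∧
      (∀ i : ℤ, i < 1 - (b : ℤ) → IsZero (Q.X i)) ∧
      ∀ p : ℕ, Nonempty
        (CohIII.TFun Q (-(p : ℤ)) ⋙ forget₂ (ModuleCat.{u} A) AddCommGrpCat.{u} ≅
          CohIII.tensorAFunctor A F ⋙ CohIII.HAb X p) := by
  obtain ⟨Q, b, hQ, hQz, -, hQi⟩ := bridge' A X F hF hfl
  exact ⟨Q, b, hQ, hQz, hQi⟩

end Groth.Agent.Lib.R2H2.Bridge
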