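import Mathlib
import Groth.Agent.Lib.R2H2ABC4
import Groth.Agent.Lib.R2H2ProperFin
import Groth.Agent.Lib.R2H2ReesCoh
set_option backward.isDefEq.respectTransparency.types false

/-!
# Affine base change, part 5: the Čech complexes (helper2, round 2)
-/

set_option autoImplicit false
set_option linter.unusedSectionVars false
set_option linter.style.haveILetI false
universe u
open CategoryTheory CategoryTheory.Limits AlgebraicGeometry TopologicalSpace Opposite

noncomputable section

namespace Groth.Agent.Lib.R2H2.ABC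

open Groth.Agent.Lib.Helper16.CechLow Groth.Agent.Lib.R2H2.CechCmp Groth.Agent.Lib.R2H2.CechFun
  Groth.Agent.Lib.R2H2.PsiA Groth.Agent.Lib.R2H2.LiftA Groth.Agent.Lib.R2H2.PsiCech
  Groth.Agent.Lib.R2H2.SheafBC Groth.Agent.Lib.R2H2.EWCx

section Opens

variable {X X' : Scheme.{u}} (g' : X' ⟶ X) {ι : Type u} (U : ι → X.Opens)

/-- the pulled back family of opens -/
abbrev U' : ι → X'.Opens := fun i => g' ⁻¹ᵁ U i

lemma Ux_eq_biInf [DecidableEq ι] {n : ℕ} (a : Fin (n + 1) → ι) :
    (Ux U a : X.Opens) = ⨅ i ∈ Finset.image a Finset.univ, U i := by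
  apply le_antisymm
  · refine le_iInf₂ fun i hi => ?_
    obtain ⟨k, -, rfl⟩ := Finset.mem_image.1 hi
    exact Groth.Agent.Lib.R2H2.CechOpens.Ux_le U a k
  · refine Groth.Agent.Lib.R2H2.CechOpens.le_Ux U a _ (fun k => ?_)
    exact iInf₂_le (a k) (Finset.mem_image.2 ⟨k, Finset.mem_univ k, rfl⟩)

lemma biInf_preimage [DecidableEq ι] (t : Finset ι) :
    (⨅ i ∈ t, U' g' U i) = g' ⁻¹ᵁ (⨅ i ∈ t, U i) := by
  induction t using Finset.induction_on with
  | empty => simp
  | insert a t _ ih =>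
    rw [Finset.iInf_insert, Finset.iInf_insert, ih, Scheme.Hom.preimage_inf]

lemma Ux_preimage {n : ℕ} (a : Fin (n + 1) → ι) :
    g' ⁻¹ᵁ (Ux U a : X.Opens) = (Ux (U' g' U) a : X'.Opens) := by
  classical
  rw [Ux_eq_biInf U a, Ux_eq_biInf (U' g' U) a, biInf_preimage]

lemma iSup_U' (hcov : ⨆ i, U i = ⊤) : ⨆ i, U' g' U i = ⊤ := by
  rw [← Scheme.Hom.preimage_iSup, hcov]
  rfl

end Opens


section Cx

variable {A B : Type u} [CommRing A] [CommRing B] [Algebra A B] {X X' : Scheme.{u}}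
  [X.Over (Spec (CommRingCat.of A))] [X'.Over (Spec (CommRingCat.of B))] (g' : X' ⟶ X)
  (h : IsPullback g' (X' ↘ Spec (CommRingCat.of B)) (X ↘ Spec (CommRingCat.of A))
    (Spec.map (CommRingCat.ofHom (algebraMap A B))))
  (F : X.Modules) [F.IsQuasicoherent] {ι : Type u} (U : ι → X.Opens)
  (hU : ∀ s : Finset ι, s.Nonempty → IsAffineOpen (⨅ i ∈ s, U i))

include h hU in
lemma isAffineOpen_biInf_U' (s : Finset ι) (hs : s.Nonempty) :
    IsAffineOpen (⨅ i ∈ s, U' g' U i) := by
  classical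
  rw [biInf_preimage]
  exact isAffineOpen_preimage (X ↘ Spec (CommRingCat.of A)) (X' ↘ Spec (CommRingCat.of B)) g' h
    (hU s hs)

/-- the termwise comparison -/
def eIso (n : ℕ) (x : Fin (n + 1) → ι) :
    (PsiAB A B F).presheaf.obj (op (Ux U x)) ≅ (PsiBB B g' F).presheaf.obj (op (Ux (U' g' U) x)) :=
  (eps g' h F (isAffineOpen_Ux U hU x)).toAddCommGrpIso ≪≫
    (PsiBB B g' F).presheaf.mapIso (eqToIso (congrArg op (Ux_preimage g' U x)))

lemma eIso_hom_apply (n : ℕ) (x : Fin (n + 1) → ι) (s : Γ(PsiAB A B F, Ux U x)) :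
    (eIso g' h F U hU n x).hom s =
      (PsiBB B g' F).presheaf.map (eqToHom (congrArg op (Ux_preimage g' U x)))
        (eps g' h F (isAffineOpen_Ux U hU x) s) := rfl

lemma eIso_comm (n : ℕ) (x : Fin (n + 2) → ι) (i : Fin (n + 2)) :
    (PsiAB A B F).presheaf.map (face U x i).op ≫ (eIso g' h F U hU (n + 1) x).hom =
      (eIso g' h F U hU n (x ∘ Fin.succAbove i)).hom ≫
        (PsiBB B g' F).presheaf.map (face (U' g' U) x i).op := by
  ext s
  have hle : (Ux U x : X.Opens) ≤ Ux U (x ∘ Fin.succAbove i) := leOfHom (face U x i)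
  have hf : (face U x i).op = (homOfLE hle).op := Subsingleton.elim _ _
  show (eIso g' h F U hU (n + 1) x).hom ((PsiAB A B F).presheaf.map (face U x i).op s) =
    (PsiBB B g' F).presheaf.map (face (U' g' U) x i).op ((eIso g' h F U hU n (x ∘ Fin.succAbove i)).hom s)
  rw [eIso_hom_apply, eIso_hom_apply, hf,
    ← eps_res g' h F (isAffineOpen_Ux U hU (x ∘ Fin.succAbove i)) (isAffineOpen_Ux U hU x) hle s]
  show ((PsiBB B g' F).presheaf.map _ ≫ (PsiBB B g' F).presheaf.map _) _ =
    ((PsiBB B g' F).presheaf.map _ ≫ (PsiBB B g' F).presheaf.map _) _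
  rw [← Functor.map_comp, ← Functor.map_comp]
  congr 2

/-- the comparison of Čech complexes -/
def phi : CK U (PsiAB A B F).presheaf ≅ CK (U' g' U) (PsiBB B g' F).presheaf :=
  cechIso U (U' g' U) (PsiAB A B F).presheaf (PsiBB B g' F).presheaf (eIso g' h F U hU)
    (eIso_comm g' h F U hU)

lemma pr_phi (n : ℕ) (x : Fin (n + 1) → ι) (c : (CK U (PsiAB A B F).presheaf).X n) :
    pr (U' g' U) (PsiBB B g' F).presheaf n x ((phi g' h F U hU).hom.f n c) =
      (eIso g' h F U hU n x).hom (pr U (PsiAB A B F).presheaf n x c) :=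
  ConcreteCategory.congr_hom (cmpMap_pr U (U' g' U) (PsiAB A B F).presheaf (PsiBB B g' F).presheaf
    (fun n x => (eIso g' h F U hU n x).hom) n x) c

end Cx


section Fun

variable {A B : Type u} [CommRing A] [CommRing B] [Algebra A B] {X X' : Scheme.{u}}
  [X.Over (Spec (CommRingCat.of A))] [X'.Over (Spec (CommRingCat.of B))] (g' : X' ⟶ X)
  (h : IsPullback g' (X' ↘ Spec (CommRingCat.of B)) (X ↘ Spec (CommRingCat.of A))
    (Spec.map (CommRingCat.ofHom (algebraMap A B))))
  (F : X.Modules) [F.IsQuasicoherent] {ι : Type u} (U : ι → X.Opens)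
  (hU : ∀ s : Finset ι, s.Nonempty → IsAffineOpen (⨅ i ∈ s, U i))

variable (B) in
/-- `M' ↦ Č(U', Ψ_B M')` -/
abbrev KB' : ModuleCat.{u} B ⥤ CochainComplex AddCommGrpCat.{u} ℕ :=
  cechPsi B (F' g' F) (U' g' U)

variable (A B) in
/-- `M' ↦ Č(U, Ψ_A (M'_A))` -/
def KA : ModuleCat.{u} B ⥤ CochainComplex AddCommGrpCat.{u} ℕ :=
  ModuleCat.restrictScalars (algebraMap A B) ⋙ cechPsi A F U

instance : (KA A B F U).Additive := by
  unfold KA
  infer_instance

lemma phi_equivariant (b : B) :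
    (KA A B F U).map (b • 𝟙 (ModuleCat.of B B)) ≫ (phi g' h F U hU).hom =
      (phi g' h F U hU).hom ≫ (KB' B g' F U).map (b • 𝟙 (ModuleCat.of B B)) := by
  ext n c
  apply elt_ext (U' g' U) (PsiBB B g' F).presheaf n
  intro x
  show pr (U' g' U) (PsiBB B g' F).presheaf n x ((phi g' h F U hU).hom.f n
      ((cechPsiDeg A F U n).map (mulB A B b) c)) =
    pr (U' g' U) (PsiBB B g' F).presheaf n x ((cechPsiDeg B (F' g' F) (U' g' U) n).map
      (b • 𝟙 (ModuleCat.of B B)) ((phi g' h F U hU).hom.f n c))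
  rw [pr_phi, pr_map A F U (mulB A B b) n x c, pr_map B (F' g' F) (U' g' U), pr_phi,
    eIso_hom_apply, eIso_hom_apply, eps_mulB]
  exact (ConcreteCategory.congr_hom ((toPre.map ((CohIII.tensorAFunctor B (F' g' F)).map
    (b • 𝟙 (ModuleCat.of B B)))).naturality
      (eqToHom (congrArg op (Ux_preimage g' U x)))) _).symm

/-- the comparison of the unit complexes -/
def unitIso : unitCx (KA A B F U) ≅ unitCx (KB' B g' F U) :=
  unitCxIso (KA A B F U) (KB' B g' F U) (phi g' h F U hU) (phi_equivariant g' h F U hU)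

end Fun


section Final

variable {A B : Type u} [CommRing A] [CommRing B] [Algebra A B] {X X' : Scheme.{u}}
  [X.Over (Spec (CommRingCat.of A))] [X'.Over (Spec (CommRingCat.of B))] (g' : X' ⟶ X)
  (h : IsPullback g' (X' ↘ Spec (CommRingCat.of B)) (X ↘ Spec (CommRingCat.of A))
    (Spec.map (CommRingCat.ofHom (algebraMap A B))))
  (F : X.Modules) [F.IsQuasicoherent] {ι : Type u} [Finite ι] (U : ι → X.Opens)
  (hcov : ⨆ i, U i = ⊤)
  (hU : ∀ s : Finset ι, s.Nonempty → IsAffineOpen (⨅ i ∈ s, U i))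

include hU in
lemma bijective_tM_KA (i : ℕ) (M : ModuleCat.{u} B) :
    Function.Bijective (Groth.Agent.Lib.Helper16.TensorCmp.tM (liftA (ev (KA A B F U) i)) M) := by
  haveI := preservesFiniteColimits_deg A F U hU i
  haveI : ∀ J : Type u, PreservesColimitsOfShape (Discrete J) (cechPsiDeg A F U i) :=
    fun J => preservesCoproducts_deg A F U hU i J
  haveI : PreservesFiniteColimits (ev (KA A B F U) i) :=
    inferInstanceAs (PreservesFiniteColimits
      (ModuleCat.restrictScalars (algebraMap A B) ⋙ cechPsiDeg A F U i))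
  haveI : ∀ J : Type u, PreservesColimitsOfShape (Discrete J)
      (ModuleCat.restrictScalars.{u} (algebraMap A B)) := fun J =>
    ⟨fun {K} => ModuleCat.preservesColimit_restrictScalars (algebraMap A B) K⟩
  haveI : ∀ J : Type u, PreservesColimitsOfShape (Discrete J) (ev (KA A B F U) i) := fun J =>
    (comp_preservesColimitsOfShape (ModuleCat.restrictScalars.{u} (algebraMap A B))
      (cechPsiDeg A F U i) : PreservesColimitsOfShape (Discrete J)
        (ModuleCat.restrictScalars.{u} (algebraMap A B) ⋙ cechPsiDeg A F U i))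
  exact bijective_tM_liftA (ev (KA A B F U) i) M

include h hU in
lemma bijective_tM_KB' (i : ℕ) (M : ModuleCat.{u} B) :
    Function.Bijective (Groth.Agent.Lib.Helper16.TensorCmp.tM (liftA (ev (KB' B g' F U) i)) M) := by
  haveI : (F' g' F).IsQuasicoherent :=
    Groth.Agent.Lib.Helper2.PullbackSec.isQuasicoherent_pullback g' F
  have hU' := isAffineOpen_biInf_U' g' h U hU
  haveI := preservesFiniteColimits_deg B (F' g' F) (U' g' U) hU' i
  haveI : ∀ J : Type u, PreservesColimitsOfShape (Discrete J)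
      (cechPsiDeg B (F' g' F) (U' g' U) i) :=
    fun J => preservesCoproducts_deg B (F' g' F) (U' g' U) hU' i J
  exact bijective_tM_liftA (cechPsiDeg B (F' g' F) (U' g' U) i) M

include h hcov hU in
/-- **Affine base change** for `M' ↦ H^p(X', f'^*(M'~) ⊗ g'^*F)`: it is
`M' ↦ H^p(X, f^*(M'_A~) ⊗ F)`, naturally in the `B`-module `M'`. -/
theorem nonempty_natIso_baseChange (p : ℕ) :
    Nonempty (CohIII.tensorAFunctor B (F' g' F) ⋙ CohIII.HAb X' p ≅
      ModuleCat.restrictScalars (algebraMap A B) ⋙ CohIII.tensorAFunctor A F ⋙ CohIII.HAb X p) := by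
  haveI : (F' g' F).IsQuasicoherent :=
    Groth.Agent.Lib.Helper2.PullbackSec.isQuasicoherent_pullback g' F
  have hU' := isAffineOpen_biInf_U' g' h U hU
  obtain ⟨e1⟩ := nonempty_natIso B (F' g' F) (U' g' U) (iSup_U' g' U hcov) hU' p
  obtain ⟨e2⟩ := nonempty_natIso A F U hcov hU p
  let e3 := natIso_of_unitCxIso (KA A B F U) (KB' B g' F U) (bijective_tM_KA F U hU)
    (bijective_tM_KB' g' h F U hU) (unitIso g' h F U hU) p
  exact ⟨e1.symm ≪≫ e3.symm ≪≫
    Functor.associator _ _ _ ≪≫ Functor.isoWhiskerLeft (ModuleCat.restrictScalars (algebraMap A B)) e2⟩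

end Final


section Sep

variable {A B : Type u} [CommRing A] [CommRing B] [Algebra A B] {X X' : Scheme.{u}}
  [X.Over (Spec (CommRingCat.of A))] [X'.Over (Spec (CommRingCat.of B))] (g' : X' ⟶ X)
  (h : IsPullback g' (X' ↘ Spec (CommRingCat.of B)) (X ↘ Spec (CommRingCat.of A))
    (Spec.map (CommRingCat.ofHom (algebraMap A B))))
  (F : X.Modules) [F.IsQuasicoherent]

include h in
/-- **Affine base change**, for `X` separated and quasi-compact over `Spec A` -/
theorem nonempty_natIso_baseChange_of_isSeparated [IsSeparated (X ↘ Spec (CommRingCat.of A))]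
    [CompactSpace X] (p : ℕ) :
    Nonempty (CohIII.tensorAFunctor B (F' g' F) ⋙ CohIII.HAb X' p ≅
      ModuleCat.restrictScalars (algebraMap A B) ⋙ CohIII.tensorAFunctor A F ⋙ CohIII.HAb X p) := by
  obtain ⟨ι, hfin, V, hcov, _, hV⟩ :=
    Groth.Agent.Lib.R2H2.ProperFin.exists_affine_cover_of_isSeparated
      (X ↘ Spec (CommRingCat.of A))
  have hU := Groth.Agent.Lib.R2H2.ReesCoh.isAffineOpen_biInf_of_fin X V hV
  exact nonempty_natIso_baseChange g' h F V hcov hU p

end Sep

end Groth.Agent.Lib.R2H2.ABC
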