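import Mathlib
import Groth.Agent.Lib.R2H2ABC5
import Groth.Agent.Lib.R2H2BcTFun
import Groth.Agent.Lib.R2H2GAlg
import Groth.Agent.Lib.Helper3FlatCx
import Groth.Agent.Lib.Helper3FlatCxBT
import Groth.Agent.Lib.R2H2HHLin
import Groth.Agent.S2440
set_option backward.isDefEq.respectTransparency.types false

/-!
# Base change of a Grothendieck complex, fibre ranks (helper2, round 2)

Setting: `A → B` a ring map, `X` separated quasi-compact over `Spec A`, `X' = X ×_A B`, `F` quasi-coherent,
`Q` a complex of `A`-modules with `e : TFun Q k ⋙ forget₂ ≅ tensorAFunctor A F ⋙ HAb X p`.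

* `nonempty_bridge_baseChange`: `TFun (bcCx Q) k ⋙ forget₂ ≅ tensorAFunctor B (g'^*F) ⋙ HAb X' p`;
* `nonempty_HH_linearEquiv`: `H^p(X', g'^*F) ≃ₗ[B] H_k(Q ⊗_A B)`;
* `finrank_HH_eq_dRank`: for `B` a field and `Q` flat, `dim_B H^p(X', g'^*F) = dRank Q k (ker (A → B))`.
-/

set_option autoImplicit false
set_option linter.unusedSectionVars false
set_option linter.style.haveILetI false
universe u
open CategoryTheory CategoryTheory.Limits AlgebraicGeometry TopologicalSpace Opposite

noncomputable section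

namespace Groth.Agent.Lib.R2H2.FibRank

open Groth.Agent.Lib.R2H2.LiftA Groth.Agent.Lib.R2H2.PsiA Groth.Agent.Lib.R2H2.PsiCech
  Groth.Agent.Lib.R2H2.ABC Groth.Agent.Lib.R2H2.BcTFun Groth.Agent.Lib.R2H2.GAlg
  Groth.Agent.Lib.R2H2.HHLin

section General

variable {A B : Type u} [CommRing A] [CommRing B] [Algebra A B] {X X' : Scheme.{u}}
  [X.Over (Spec (CommRingCat.of A))] [X'.Over (Spec (CommRingCat.of B))] (g' : X' ⟶ X)
  (h : IsPullback g' (X' ↘ Spec (CommRingCat.of B)) (X ↘ Spec (CommRingCat.of A))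
    (Spec.map (CommRingCat.ofHom (algebraMap A B))))
  (F : X.Modules) [F.IsQuasicoherent] [IsSeparated (X ↘ Spec (CommRingCat.of A))] [CompactSpace X]
  {κ : Type} {c : ComplexShape κ} (Q : HomologicalComplex (ModuleCat.{u} A) c) (k : κ) (p : ℕ)
  (e : CohIII.TFun Q k ⋙ forget₂ (ModuleCat.{u} A) AddCommGrpCat.{u} ≅
    CohIII.tensorAFunctor A F ⋙ CohIII.HAb X p)

include h e in
/-- the base change of a Grothendieck complex is a Grothendieck complex of the base change -/
theorem nonempty_bridge_baseChange :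
    Nonempty (CohIII.TFun (CohIII.bcCx (algebraMap A B) Q) k ⋙
        forget₂ (ModuleCat.{u} B) AddCommGrpCat.{u} ≅
      CohIII.tensorAFunctor B (F' g' F) ⋙ CohIII.HAb X' p) := by
  obtain ⟨a⟩ := nonempty_natIso_baseChange_of_isSeparated g' h F p
  exact ⟨(TFunBcIso B Q k).symm ≪≫
    Functor.isoWhiskerLeft (ModuleCat.restrictScalars.{u} (algebraMap A B)) e ≪≫ a.symm⟩

/-- cohomology of isomorphic modules, linearly over the base ring -/
def HHLinEquiv {M N : X'.Modules} (ε : M ≅ N) (p : ℕ) : Coh.HH X' M p ≃ₗ[B] Coh.HH X' N p where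
  toFun := HmapL ε.hom p
  invFun := HmapL ε.inv p
  map_add' := map_add _
  map_smul' b x := (HmapL ε.hom p).map_smul (Coh.toGlobal (X' ↘ Spec (CommRingCat.of B)) b) x
  left_inv x := by rw [← HmapL_comp, ε.hom_inv_id, HmapL_id]
  right_inv x := by rw [← HmapL_comp, ε.inv_hom_id, HmapL_id]

include h e in
theorem nonempty_HH_linearEquiv :
    Nonempty (Coh.HH X' (F' g' F) p ≃ₗ[B] (CohIII.bcCx (algebraMap A B) Q).homology k) := by
  obtain ⟨n⟩ := nonempty_bridge_baseChange g' h F Q k p e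
  let e1 : Coh.HH X' (F' g' F) p ≃ₗ[B]
      Coh.HH X' ((CohIII.tensorAFunctor B (F' g' F)).obj (ModuleCat.of B B)) p :=
    HHLinEquiv (objUnitIso B (F' g' F)).symm p
  let e2 := (liftHAbEquiv B (F' g' F) (ModuleCat.of B B) p).symm
  let e3 := ((liftIso n).app (ModuleCat.of B B)).symm.toLinearEquiv
  let e4 := ((liftAForget (CohIII.TFun (CohIII.bcCx (algebraMap A B) Q) k)).app
    (ModuleCat.of B B)).toLinearEquiv
  let e5 := (Groth.Agent.Lib.Helper3.TUnitIso (CohIII.bcCx (algebraMap A B) Q) k).toLinearEquiv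
  exact ⟨e1 ≪≫ₗ e2 ≪≫ₗ e3 ≪≫ₗ e4 ≪≫ₗ e5⟩

end General


section Field

variable {A B : Type u} [CommRing A] [Field B] [Algebra A B] {X X' : Scheme.{u}}
  [X.Over (Spec (CommRingCat.of A))] [X'.Over (Spec (CommRingCat.of B))] (g' : X' ⟶ X)
  (h : IsPullback g' (X' ↘ Spec (CommRingCat.of B)) (X ↘ Spec (CommRingCat.of A))
    (Spec.map (CommRingCat.ofHom (algebraMap A B))))
  (F : X.Modules) [F.IsQuasicoherent] [IsSeparated (X ↘ Spec (CommRingCat.of A))] [CompactSpace X]
  (Q : ChainComplex (ModuleCat.{u} A) ℤ) (hQ : ∀ i, Module.Flat A (Q.X i)) (k : ℤ) (p : ℕ)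
  (e : CohIII.TFun Q k ⋙ forget₂ (ModuleCat.{u} A) AddCommGrpCat.{u} ≅
    CohIII.tensorAFunctor A F ⋙ CohIII.HAb X p)

include h hQ e in
/-- the dimension of the cohomology of the base change to a field is the rank function of the complex -/
theorem finrank_HH_eq_dRank (x' : PrimeSpectrum B) :
    Module.finrank B (Coh.HH X' (F' g' F) p) =
      CohIII.dRank Q k (PrimeSpectrum.comap (algebraMap A B) x') := by
  obtain ⟨l⟩ := nonempty_HH_linearEquiv g' h F Q k p e
  rw [l.finrank_eq, ← Groth.Agent.S2440.result Q hQ k x',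
    Groth.Agent.Lib.Helper3.dRank_eq_fd_homology, Groth.Agent.Lib.Helper3.fd_of_free]

end Field


section Fibre

variable (A : Type u) [CommRing A]

/-- `A → κ(q)` for a point `q` of `Spec A` -/
def psi (q : ↥(Spec (CommRingCat.of A))) :
    CommRingCat.of A ⟶ (Spec (CommRingCat.of A)).residueField q :=
  StructureSheaf.toStalk (CommRingCat.of A) q ≫ (Spec (CommRingCat.of A)).residue q

theorem SpecMap_psi (q : ↥(Spec (CommRingCat.of A))) :
    Spec.map (psi A q) = (Spec (CommRingCat.of A)).fromSpecResidueField q := by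
  unfold psi Scheme.fromSpecResidueField
  rw [Spec.map_comp, Spec.fromSpecStalk_eq']
  rfl

/-- the `A`-algebra structure on the residue field of a point -/
@[reducible] def algκ (q : ↥(Spec (CommRingCat.of A))) :
    @Algebra A ((Spec (CommRingCat.of A)).residueField q) _
      ((Spec (CommRingCat.of A)).residueField q).commRing.toCommSemiring.toSemiring :=
  (psi A q).hom.toAlgebra

variable {A} {X : Scheme.{u}} [X.Over (Spec (CommRingCat.of A))]
  (F : X.Modules) [F.IsQuasicoherent] [IsSeparated (X ↘ Spec (CommRingCat.of A))] [CompactSpace X]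
  (Q : ChainComplex (ModuleCat.{u} A) ℤ) (hQ : ∀ i, Module.Flat A (Q.X i)) (k : ℤ) (p : ℕ)
  (e : CohIII.TFun Q k ⋙ forget₂ (ModuleCat.{u} A) AddCommGrpCat.{u} ≅
    CohIII.tensorAFunctor A F ⋙ CohIII.HAb X p)

include hQ e in
/-- **fibre ranks are the rank function of a Grothendieck complex** -/
theorem fiberRank_eq_dRank (q : ↥(Spec (CommRingCat.of A))) :
    CohIII.fiberRank (X ↘ Spec (CommRingCat.of A)) F p q = CohIII.dRank Q k q := by
  have hpb : IsPullback ((X ↘ Spec (CommRingCat.of A)).fiberι q)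
      ((X ↘ Spec (CommRingCat.of A)).fiberToSpecResidueField q)
      (X ↘ Spec (CommRingCat.of A)) (Spec.map (psi A q)) :=
    (congrArg (IsPullback ((X ↘ Spec (CommRingCat.of A)).fiberι q)
      ((X ↘ Spec (CommRingCat.of A)).fiberToSpecResidueField q)
      (X ↘ Spec (CommRingCat.of A))) (SpecMap_psi A q)).mpr (IsPullback.of_hasPullback _ _)
  have x' : PrimeSpectrum ((Spec (CommRingCat.of A)).residueField q) := ⟨⊥, Ideal.isPrime_bot⟩
  have hx' : PrimeSpectrum.comap (psi A q).hom x' = q := by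
    have h1 := Scheme.fromSpecResidueField_apply q x'
    rw [← SpecMap_psi] at h1
    exact h1
  have key := @finrank_HH_eq_dRank A ((Spec (CommRingCat.of A)).residueField q) _ inferInstance
    (algκ A q) X ((X ↘ Spec (CommRingCat.of A)).fiber q) _
    (CohIII.fiberOver (X ↘ Spec (CommRingCat.of A)) q)
    ((X ↘ Spec (CommRingCat.of A)).fiberι q) hpb F _ _ _ Q hQ k p e x'
  exact key.trans (congrArg (CohIII.dRank Q k) hx')

end Fibre

end Groth.Agent.Lib.R2H2.FibRank
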