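import Mathlib
import Groth.Agent.Lib.H9CbD
import Groth.Agent.Lib.R2H2Bridge
import Groth.Agent.Lib.R2H2FibRank
set_option backward.isDefEq.respectTransparency.types false

/-! helper9: `hyp_bcCx`: the base change of a complex with finite free terms and T_1 ≡ 0 has the same properties. -/

set_option autoImplicit false
set_option linter.unusedSectionVars false
universe u
open CategoryTheory CategoryTheory.Limits AlgebraicGeometry TopologicalSpace Opposite

noncomputable section

namespace Groth.Agent.Lib.H9CbE

open Groth.Agent.Lib.H9CbA Groth.Agent.Lib.R2H2.BcTFun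

variable {A B : Type u} [CommRing A] [CommRing B] [Algebra A B]

/-- the base change of a complex with the standing hypotheses has them -/
theorem hyp_bcCx (Q : ChainComplex (ModuleCat.{u} A) ℤ)
    (hQ : ∀ i, Module.Finite A (Q.X i) ∧ Module.Free A (Q.X i))
    (hQv : ∀ M : ModuleCat.{u} A, IsZero ((CohIII.TFun Q 1).obj M)) :
    Hyp (CohIII.bcCx (algebraMap A B) Q) where
  ff i := by
    haveI := (hQ i).1
    haveI := (hQ i).2
    exact ⟨Module.Finite.equiv (Groth.Agent.S2380.bridge A B (Q.X i)).symm,
      Module.Free.of_equiv (Groth.Agent.S2380.bridge A B (Q.X i)).symm⟩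
  vanish M := by
    have e := (TFunBcIso B Q 1).app M
    have hz : IsZero ((ModuleCat.restrictScalars.{u} (algebraMap A B) ⋙ CohIII.TFun Q 1 ⋙
        forget₂ (ModuleCat.{u} A) AddCommGrpCat.{u}).obj M) := by
      show IsZero ((forget₂ (ModuleCat.{u} A) AddCommGrpCat.{u}).obj
        ((CohIII.TFun Q 1).obj ((ModuleCat.restrictScalars.{u} (algebraMap A B)).obj M)))
      exact Functor.map_isZero _ (hQv _)
    have hz' := hz.of_iso e.symm
    haveI : Subsingleton ((CohIII.TFun (CohIII.bcCx (algebraMap A B) Q) 1).obj M) := by
      have := AddCommGrpCat.subsingleton_of_isZero hz'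
      exact this
    exact ModuleCat.isZero_of_subsingleton _

end Groth.Agent.Lib.H9CbE
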