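import Mathlib
import Groth.Agent.Lib.R2H2FlatDev

/-! helper9: S2393 part 1: `σ F e J a` (image of a•e in H⁰(F/JF)), `TJ F e J` (A → H⁰(F/JF) surjective with kernel ⊆ J), `tJ_top`, `tJ_of_tJ_maximalIdeal` (dévissage: T(𝔪) ⇒ T(J) for all 𝔪-primary J, A Noetherian local, F A-flat with ColonProp). -/

set_option autoImplicit false
set_option linter.unusedSectionVars false
universe u

noncomputable section

namespace Groth.Agent.Lib.H9Pfb1

open CategoryTheory CategoryTheory.Limits AlgebraicGeometry TopologicalSpace Opposite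
open Groth.Agent.Lib.R2H2.FlatDev Groth.Agent.Lib.R2H2.SheafBC

variable {A : Type u} [CommRing A] {X : Scheme.{u}} [X.Over (Spec (CommRingCat.of A))]
  (F : X.Modules) (e : Γ(F, ⊤))

/-- `a ↦ a • e` in `Γ(X, F/JF)` -/
def σ (J : Ideal A) (a : A) : Γ(modJ J F, ⊤) :=
  (πJ J F).app ⊤ ((bW (X ↘ Spec (CommRingCat.of A)) ⊤ a : Γ(X, ⊤)) • e)

theorem σ_add (J : Ideal A) (a b : A) : σ F e J (a + b) = σ F e J a + σ F e J b := by
  unfold σ
  rw [map_add, add_smul, map_add]

theorem σ_modLE {J J' : Ideal A} (h : J ≤ J') (a : A) :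
    (modLE h F).app ⊤ (σ F e J a) = σ F e J' a := by
  unfold σ
  change (πJ J F ≫ modLE h F).app ⊤ _ = _
  rw [πJ_modLE]

theorem σ_of_mem (J : Ideal A) (b : A) (hb : b ∈ J) : σ F e J b = 0 := by
  unfold σ
  apply πJ_app_eq_zero_of_mem
  exact Submodule.smul_mem_smul (Ideal.mem_map_of_mem _ hb) Submodule.mem_top

theorem σ_abar (𝔪 J : Ideal A) (a : A) (h2 : ∀ b ∈ 𝔪, a * b ∈ J) (b' : A) :
    (abar F 𝔪 J a h2).app ⊤ (σ F e 𝔪 b') = σ F e J (a * b') := by
  unfold σ
  rw [abar_app_π, map_mul, mul_smul]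


section T

variable [IsNoetherianRing A] [IsLocalRing A] [F.IsQuasicoherent]
  (hcp : ∀ U : X.Opens, IsAffineOpen U → ColonProp A F U)

/-- the statement `T(J)`: `A/J → Γ(X, F/JF)`, `a ↦ a • e` is bijective -/
def TJ (J : Ideal A) : Prop :=
  (∀ z : Γ(modJ J F, ⊤), ∃ a : A, σ F e J a = z) ∧ (∀ a : A, σ F e J a = 0 → a ∈ J)

theorem tJ_top : TJ F e (⊤ : Ideal A) := by
  have hz : IsZero (modJ (⊤ : Ideal A) F) := isZero_modJ_top F
  have h0 : ∀ z : Γ(modJ (⊤ : Ideal A) F, ⊤), z = 0 := by
    intro z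
    have h1 : (𝟙 (modJ (⊤ : Ideal A) F)) = 0 := hz.eq_of_src _ _
    have h2 : Scheme.Modules.Hom.app (𝟙 (modJ (⊤ : Ideal A) F)) ⊤ z = z := rfl
    rw [← h2, h1]
    rfl
  exact ⟨fun z => ⟨0, (h0 _).trans (h0 z).symm⟩, fun a _ => trivial⟩

include hcp in
/-- **socle induction**: `T(𝔪) ⇒ T(J)` for every `𝔪`-primary `J` -/
theorem tJ_of_tJ_maximalIdeal (hm : TJ F e (IsLocalRing.maximalIdeal A)) :
    ∀ J : Ideal A, (∃ N : ℕ, IsLocalRing.maximalIdeal A ^ N ≤ J) → TJ F e J := by
  intro J
  induction J using IsNoetherian.induction with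
  | hgt J ih =>
    intro hex
    by_cases hJ : J = ⊤
    · subst hJ
      exact tJ_top F e
    · classical
      have hN₀ : IsLocalRing.maximalIdeal A ^ (Nat.find hex) ≤ J := Nat.find_spec hex
      have hpos : Nat.find hex ≠ 0 := by
        intro h0
        rw [h0, pow_zero, Ideal.one_eq_top, top_le_iff] at hN₀
        exact hJ hN₀
      obtain ⟨k, hk⟩ := Nat.exists_eq_succ_of_ne_zero hpos
      have hk' : ¬ IsLocalRing.maximalIdeal A ^ k ≤ J := Nat.find_min hex (by omega)
      obtain ⟨a, ha, haJ⟩ := SetLike.not_le_iff_exists.1 hk'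
      have h2 : ∀ b ∈ IsLocalRing.maximalIdeal A, a * b ∈ J := fun b hb => hN₀ (by
        rw [hk, pow_succ]
        exact Ideal.mul_mem_mul ha hb)
      have h1 := mem_maximalIdeal_of_mul_mem J a haJ
      have hlt : J < Ja J a := lt_of_le_of_ne (le_Ja J a) (fun h => haJ (h ▸ mem_Ja J a))
      have ih' : TJ F e (Ja J a) := ih (Ja J a) hlt ⟨Nat.find hex, hN₀.trans (le_Ja J a)⟩
      haveI := isIso_abar' F (IsLocalRing.maximalIdeal A) J a h2 hcp h1
      have hιinj : Function.Injective ((kernel.ι (modLE (le_Ja J a) F)).app ⊤) :=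
        Groth.Agent.Lib.Helper20.StalkExact.injective_app_of_mono _ ⊤
      have hι : ∀ y : Γ(modJ (IsLocalRing.maximalIdeal A) F, ⊤),
          (kernel.ι (modLE (le_Ja J a) F)).app ⊤
            ((abar' F (IsLocalRing.maximalIdeal A) J a h2).app ⊤ y) =
          (abar F (IsLocalRing.maximalIdeal A) J a h2).app ⊤ y := by
        intro y
        change (abar' F (IsLocalRing.maximalIdeal A) J a h2 ≫
          kernel.ι (modLE (le_Ja J a) F)).app ⊤ y = _
        rw [abar'_ι]
      have habar'inj : Function.Injective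
          ((abar' F (IsLocalRing.maximalIdeal A) J a h2).app ⊤) := by
        intro y y' hyy'
        have h3 : ∀ y : Γ(modJ (IsLocalRing.maximalIdeal A) F, ⊤),
            (inv (abar' F (IsLocalRing.maximalIdeal A) J a h2)).app ⊤
              ((abar' F (IsLocalRing.maximalIdeal A) J a h2).app ⊤ y) = y := by
          intro y
          change (abar' F (IsLocalRing.maximalIdeal A) J a h2 ≫
            inv (abar' F (IsLocalRing.maximalIdeal A) J a h2)).app ⊤ y = y
          rw [IsIso.hom_inv_id]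
          rfl
        rw [← h3 y, ← h3 y', hyy']
      have habar'surj : Function.Surjective
          ((abar' F (IsLocalRing.maximalIdeal A) J a h2).app ⊤) := by
        intro r
        refine ⟨(inv (abar' F (IsLocalRing.maximalIdeal A) J a h2)).app ⊤ r, ?_⟩
        change (inv (abar' F (IsLocalRing.maximalIdeal A) J a h2) ≫
          abar' F (IsLocalRing.maximalIdeal A) J a h2).app ⊤ r = r
        rw [IsIso.inv_hom_id]
        rfl
      constructor
      · -- surjectivity
        intro z
        obtain ⟨b, hb⟩ := ih'.1 ((modLE (le_Ja J a) F).app ⊤ z)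
        have hz : (ses F J a).g.app ⊤ (z - σ F e J b) = 0 := by
          change (modLE (le_Ja J a) F).app ⊤ (z - σ F e J b) = 0
          rw [map_sub, σ_modLE, hb, sub_self]
        obtain ⟨r, hr⟩ := Groth.Agent.Lib.Helper20.StalkExact.exists_app_eq_of_exact
          (ses F J a) (ses_shortExact F J a) ⊤ _ hz
        obtain ⟨w, hw⟩ := habar'surj r
        obtain ⟨b', hb'⟩ := hm.1 w
        refine ⟨b + a * b', ?_⟩
        rw [σ_add, ← σ_abar F e (IsLocalRing.maximalIdeal A) J a h2 b', hb', ← hι, hw]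
        have hr' : (kernel.ι (modLE (le_Ja J a) F)).app ⊤ r = z - σ F e J b := hr
        rw [hr']
        abel
      · -- kernel
        intro b hb
        have hb1 : σ F e (Ja J a) b = 0 := by
          rw [← σ_modLE F e (le_Ja J a), hb, map_zero]
        have hb2 := ih'.2 b hb1
        obtain ⟨j, hj, t, ht, rfl⟩ := Submodule.mem_sup.1 hb2
        obtain ⟨b', rfl⟩ := Ideal.mem_span_singleton'.1 ht
        rw [σ_add, σ_of_mem F e J j hj, zero_add, mul_comm,
          ← σ_abar F e (IsLocalRing.maximalIdeal A) J a h2 b', ← hι] at hb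
        have h4 : (abar' F (IsLocalRing.maximalIdeal A) J a h2).app ⊤
            (σ F e (IsLocalRing.maximalIdeal A) b') = 0 :=
          hιinj (hb.trans (map_zero _).symm)
        have h5 : σ F e (IsLocalRing.maximalIdeal A) b' = 0 :=
          habar'inj (h4.trans (map_zero _).symm)
        have h6 := hm.2 b' h5
        exact J.add_mem hj (by rw [mul_comm]; exact h2 b' h6)

end T

end Groth.Agent.Lib.H9Pfb1
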