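import Mathlib
import Groth.Agent.Lib.H9Pfb1
import Groth.Agent.Lib.H9ZarLift
import Groth.Agent.S0002

/-! helper9: S2393 part 2: `h0_smul`, `h0_πJ`, `bijective_of_tJ` (X proper over Noetherian local A, F coherent, T(J) for all 𝔪-primary J ⇒ A → H⁰(X,F), a ↦ a•e bijective; formal functions `R2H2FormalFn.ker_subset` + Nakayama + Krull). -/

set_option autoImplicit false
set_option linter.unusedSectionVars false
universe u

noncomputable section

namespace Groth.Agent.Lib.H9Pfb2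

open CategoryTheory CategoryTheory.Limits AlgebraicGeometry TopologicalSpace Opposite
open Groth.Agent.Lib.R2H2.FlatDev Groth.Agent.Lib.R2H2.SheafBC Groth.Agent.Lib.H9Pfb1
open Groth.Agent.Lib.R2H2.HHLin Groth.Agent.Lib.R2H2.ReesCoh Groth.Agent.Lib.R2H2.FormalFn
open Groth.Agent.Lib.H9ZarLift

variable {A : Type u} [CommRing A] {X : Scheme.{u}} [X.Over (Spec (CommRingCat.of A))]
  (F : X.Modules) (e : Γ(F, ⊤))

/-- `h0` is compatible with the `A`-action -/
theorem h0_smul (a : A) (x : Coh.HH X F 0) :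
    h0 F (a • x) = (bW (X ↘ Spec (CommRingCat.of A)) ⊤ a : Γ(X, ⊤)) • h0 F x := by
  have h1 : h0 F (a • x) =
      h0 F ((Coh.toGlobal (X ↘ Spec (CommRingCat.of A)) a) • x) := rfl
  rw [h1]
  change Groth.Agent.Lib.H9NormFin.hh0Equiv X F _ = _
  rw [Groth.Agent.Lib.H9NormFin.hh0Equiv_smul, Coh.smulAb_app]
  rfl

/-- `h0` and the maps `F → F/JF` -/
theorem h0_πJ (J : Ideal A) (x : Coh.HH X F 0) :
    h0 (modJ J F) (Hm (πJ J F) 0 x) = (πJ J F).app ⊤ (h0 F x) :=
  h0_natural (πJ J F) x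


section H

variable [IsNoetherianRing A] [IsLocalRing A] [IsProper (X ↘ Spec (CommRingCat.of A))]

/-- **Claim H**: if `A/J → Γ(X, F/JF)`, `a ↦ a • e`, is bijective for all `𝔪`-primary `J`, then
`A → Γ(X, F)`, `a ↦ a • e`, is bijective. -/
theorem bijective_of_tJ (hF : Coh.IsCoh F)
    (hT : ∀ J : Ideal A, (∃ N : ℕ, IsLocalRing.maximalIdeal A ^ N ≤ J) → TJ F e J) :
    Function.Bijective
      (fun a : A => (bW (X ↘ Spec (CommRingCat.of A)) ⊤ a : Γ(X, ⊤)) • e) := by
  set 𝔪 := IsLocalRing.maximalIdeal A with h𝔪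
  haveI : F.IsQuasicoherent := hF.1
  constructor
  · -- injectivity by Krull's intersection theorem
    intro a a' haa'
    have h1 : ∀ n : ℕ, a - a' ∈ 𝔪 ^ n := by
      intro n
      apply (hT (𝔪 ^ n) ⟨n, le_rfl⟩).2
      unfold σ
      have : (bW (X ↘ Spec (CommRingCat.of A)) ⊤ (a - a') : Γ(X, ⊤)) • e = 0 := by
        rw [map_sub, sub_smul]
        exact sub_eq_zero.2 haa'
      rw [this, map_zero]
    have h2 : a - a' ∈ (⨅ n : ℕ, 𝔪 ^ n : Ideal A) := by
      rw [Ideal.mem_iInf]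
      exact h1
    rw [Ideal.iInf_pow_eq_bot_of_isLocalRing 𝔪 (IsLocalRing.maximalIdeal.isMaximal A).ne_top] at h2
    exact sub_eq_zero.1 h2
  · -- surjectivity by Nakayama
    haveI : Module.Finite A (Coh.HH X F 0) := Groth.Agent.S0002.result A X F hF 0
    obtain ⟨c, hc⟩ := ker_subset 𝔪 X F 0 hF
    set ε : Coh.HH X F 0 := (h0 F).symm e with hε
    have hεe : h0 F ε = e := AddEquiv.apply_symm_apply _ _
    have key : (⊤ : Submodule A (Coh.HH X F 0)) ≤ Submodule.span A {ε} := by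
      apply Submodule.le_of_le_smul_of_le_jacobson_bot (I := 𝔪) Module.Finite.fg_top
        (IsLocalRing.maximalIdeal_le_jacobson _)
      intro x _
      obtain ⟨b, hb⟩ := (hT (𝔪 ^ (c + 1 + 1)) ⟨c + 1 + 1, le_rfl⟩).1
        ((πJ (𝔪 ^ (c + 1 + 1)) F).app ⊤ (h0 F x))
      have hker : x - b • ε ∈ ((Formal.toHHmodPow 𝔪 F 0 (c + 1)).ker : Set (Coh.HH X F 0)) := by
        change Formal.toHHmodPow 𝔪 F 0 (c + 1) (x - b • ε) = 0
        apply (h0 (Formal.modPow 𝔪 (c + 1 + 1) F)).injective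
        rw [map_zero]
        change h0 (modJ (𝔪 ^ (c + 1 + 1)) F) (Hm (πJ (𝔪 ^ (c + 1 + 1)) F) 0 (x - b • ε)) = 0
        rw [h0_πJ, map_sub, h0_smul, hεe, map_sub, ← hb]
        unfold σ
        exact sub_self _
      have h3 := hc (c + 1) (by omega) hker
      have h4 : c + 1 - c = 1 := by omega
      rw [h4, pow_one] at h3
      have h5 : x = b • ε + (x - b • ε) := by abel
      rw [h5]
      exact Submodule.add_mem _
        (Submodule.mem_sup_left (Submodule.smul_mem _ b (Submodule.mem_span_singleton_self ε)))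
        (Submodule.mem_sup_right h3)
    intro s
    have hs : (h0 F).symm s ∈ Submodule.span A {ε} := key Submodule.mem_top
    obtain ⟨a, ha⟩ := Submodule.mem_span_singleton.1 hs
    refine ⟨a, ?_⟩
    change (bW (X ↘ Spec (CommRingCat.of A)) ⊤ a : Γ(X, ⊤)) • e = s
    rw [← hεe, ← h0_smul, ha, AddEquiv.apply_symm_apply]

end H

end Groth.Agent.Lib.H9Pfb2
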