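import Groth.Agent.Lib.R2H2KoszulTop

/-!
# Vanishing of all direct-limit Koszul cohomology forces the unit ideal (helper2, round 2)

`span_eq_top_of_subsingleton`: if `koszulHLim fs A i = 0` for all `i` (for the ring `A` itself as a
module), then `f_1, …, f_r` generate the unit ideal.  The proof is by descending induction:
`DiesAt fs M j` (every class of degree `j` dies under some transition map) holds for all modules
once it holds for `A` in all degrees, using the long exact sequences (`diesAt_right`, `diesAt_mid`),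
induction on the number of generators (`diesAt_of_fg`) and the reduction to finitely generated
submodules (`exists_fg_lift`); finally `H^0(A/I) = A/I`.
-/

set_option autoImplicit false
universe u

namespace Groth.Agent.Lib.R2H2.KoszulVanish

open CategoryTheory CategoryTheory.Limits CochainComplex CohIII
open Groth.Agent.Lib.Helper21 Groth.Agent.Lib.R2H2.KoszulLow Groth.Agent.Lib.R2H2.KoszulLim

variable {A : Type u} [CommRing A]

section Comp

theorem koszulMap_comp {M N P : ModuleCat.{u} A} (g : M ⟶ N) (h : N ⟶ P) :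
    ∀ l : List A, koszulMap g l ≫ koszulMap h l = koszulMap (g ≫ h) l
  | [] => ((HomologicalComplex.single (ModuleCat.{u} A) (ComplexShape.up ℤ) 0).map_comp g h).symm
  | f :: l => by
      have ih := koszulMap_comp g h l
      rw [koszulMap_cons, koszulMap_cons, koszulMap_cons]
      refine (mappingCone.map_comp _ _ _ _ _ _ _ _ _).symm.trans ?_
      apply cone_map_congr
      · exact ih
      · exact ih

lemma koszulMap_comp_apply {M N P : ModuleCat.{u} A} (g : M ⟶ N) (h : N ⟶ P) (l : List A) (j : ℤ)
    (x : (koszulCx M l).X j) :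
    ((koszulMap h l).f j).hom (((koszulMap g l).f j).hom x) = ((koszulMap (g ≫ h) l).f j).hom x := by
  rw [← koszulMap_comp g h l]
  rfl

end Comp

variable (fs : List A)

/-- every cohomology class of degree `j` dies under some transition map -/
def DiesAt (M : ModuleCat.{u} A) (j : ℤ) : Prop :=
  ∀ (n : ℕ) (w : (koszulCx M (fs.map (· ^ n))).homology j), ∃ m, ∃ h : n ≤ m,
    (HomologicalComplex.homologyMap (koszulTrans M n m h fs) j).hom w = 0

theorem subsingleton_koszulHLim_iff (M : ModuleCat.{u} A) (q : ℕ) :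
    Subsingleton (koszulHLim fs M q) ↔ DiesAt fs M ((q : ℤ) - fs.length) := by
  have : DirectedSystem (fun n : ℕ => (koszulHPow fs M q n : Type u))
      (fun i j h => (HomologicalComplex.homologyMap (koszulTrans M i j h fs)
        ((q : ℤ) - fs.length)).hom) :=
    ⟨fun i x => trH_self fs M _ i x, fun k j i hij hjk x => trH_trH fs M _ i j k hij hjk x⟩
  constructor
  · intro h n w
    have h0 : Module.DirectLimit.of A ℕ (fun n : ℕ => (koszulHPow fs M q n : Type u))
        (fun n m h => (HomologicalComplex.homologyMap (koszulTrans M n m h fs)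
          ((q : ℤ) - fs.length)).hom) n w = 0 := @Subsingleton.elim _ h _ _
    obtain ⟨m, hm, h1⟩ := Module.DirectLimit.of.zero_exact h0
    exact ⟨m, hm, h1⟩
  · intro h
    have key : ∀ z : Module.DirectLimit (fun n : ℕ => (koszulHPow fs M q n : Type u))
        (fun n m h => (HomologicalComplex.homologyMap (koszulTrans M n m h fs)
          ((q : ℤ) - fs.length)).hom), z = 0 := by
      intro z
      obtain ⟨n, w, rfl⟩ := Module.DirectLimit.exists_of z
      obtain ⟨m, hm, h1⟩ := h n w
      rw [← Module.DirectLimit.of_f (hij := hm), h1, map_zero]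
    exact ⟨fun x y => (key x).trans (key y).symm⟩

theorem diesAt_of_subsingleton (M : ModuleCat.{u} A) (j : ℤ)
    (h : ∀ n : ℕ, Subsingleton ((koszulCx M (fs.map (· ^ n))).homology j)) : DiesAt fs M j := by
  intro n w
  refine ⟨n, le_rfl, ?_⟩
  have := h n
  rw [Subsingleton.elim w 0, map_zero]

theorem diesAt_of_pos (M : ModuleCat.{u} A) (j : ℤ) (hj : 0 < j) : DiesAt fs M j :=
  diesAt_of_subsingleton fs M j (fun _ => ModuleCat.subsingleton_of_isZero
    (isZero_homology_of_isZero_X _ j (isZero_koszulCx_X_pos M _ j hj)))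

theorem diesAt_of_lt (M : ModuleCat.{u} A) (j : ℤ) (hj : j < -(fs.length : ℤ)) : DiesAt fs M j :=
  diesAt_of_subsingleton fs M j (fun n => ModuleCat.subsingleton_of_isZero
    (isZero_homology_of_isZero_X _ j (isZero_koszulCx_X_neg M _ j (by simpa using hj))))

theorem diesAt_of_subsingleton_module (N : Type u) [AddCommGroup N] [Module A N] [Subsingleton N]
    (j : ℤ) : DiesAt fs (ModuleCat.of A N) j :=
  diesAt_of_subsingleton fs _ j (fun n => ModuleCat.subsingleton_of_isZero
    (GoodK.of_subsingleton fs N n j))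

section Shift

variable {M₁ M₂ M₃ : ModuleCat.{u} A} (a : M₁ ⟶ M₂) (b : M₂ ⟶ M₃)
  (ha : Function.Injective a.hom) (hb : Function.Surjective b.hom)
  (hab : Function.Exact a.hom b.hom)

include ha hb hab

theorem diesAt_right (j : ℤ) (h2 : DiesAt fs M₂ j) (h1 : DiesAt fs M₁ (j + 1)) :
    DiesAt fs M₃ j := by
  intro n w
  have hS := sesK_shortExact fs a b ha hb hab
  obtain ⟨m, hnm, h0⟩ := h1 n (((hS n).δ j (j + 1) rfl).hom w)
  have hnat := HomologicalComplex.HomologySequence.δ_naturality
    (sesKHom fs a b hab n m hnm) (hS n) (hS m) j (j + 1) rfl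
  have h3 : (HomologicalComplex.homologyMap (koszulTrans M₁ n m hnm fs) (j + 1)).hom
      (((hS n).δ j (j + 1) rfl).hom w) = ((hS m).δ j (j + 1) rfl).hom
        ((HomologicalComplex.homologyMap (koszulTrans M₃ n m hnm fs) j).hom w) :=
    congr($(hnat).hom w)
  have h4 : ((hS m).δ j (j + 1) rfl).hom
      ((HomologicalComplex.homologyMap (koszulTrans M₃ n m hnm fs) j).hom w) = 0 := by
    rw [← h3]
    exact h0
  have hex := (hS m).homology_exact₃ j (j + 1) rfl
  rw [ShortComplex.ShortExact.moduleCat_exact_iff_function_exact] at hex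
  obtain ⟨x, hx⟩ := (hex _).mp h4
  obtain ⟨m', hmm', h5⟩ := h2 m x
  refine ⟨m', hnm.trans hmm', ?_⟩
  have e := LinearMap.congr_fun (homologyMap_koszulMap_trans fs j b m m' hmm') x
  rw [LinearMap.comp_apply, LinearMap.comp_apply, h5, map_zero] at e
  rw [← trH_trH fs M₃ j n m m' hnm hmm' w, ← hx]
  exact e.symm

theorem diesAt_mid (j : ℤ) (h1 : DiesAt fs M₁ j) (h3 : DiesAt fs M₃ j) : DiesAt fs M₂ j := by
  intro n w
  have hS := sesK_shortExact fs a b ha hb hab
  obtain ⟨m, hnm, h0⟩ := h3 n
    ((HomologicalComplex.homologyMap (koszulMap b (fs.map (· ^ n))) j).hom w)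
  have e := LinearMap.congr_fun (homologyMap_koszulMap_trans fs j b n m hnm) w
  rw [LinearMap.comp_apply, LinearMap.comp_apply, h0] at e
  have hex := (hS m).homology_exact₂ j
  rw [ShortComplex.ShortExact.moduleCat_exact_iff_function_exact] at hex
  obtain ⟨x, hx⟩ := (hex _).mp e
  obtain ⟨m', hmm', h5⟩ := h1 m x
  refine ⟨m', hnm.trans hmm', ?_⟩
  have e' := LinearMap.congr_fun (homologyMap_koszulMap_trans fs j a m m' hmm') x
  rw [LinearMap.comp_apply, LinearMap.comp_apply, h5, map_zero] at e'
  rw [← trH_trH fs M₂ j n m m' hnm hmm' w, ← hx]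
  exact e'.symm

end Shift

section FG

/-- induction on the number of generators -/
theorem diesAt_of_fg (j : ℤ) (hA : DiesAt fs (ModuleCat.of A A) j)
    (hnext : ∀ (N : Type u) [AddCommGroup N] [Module A N], DiesAt fs (ModuleCat.of A N) (j + 1)) :
    ∀ (s : ℕ) (N : Type u) [AddCommGroup N] [Module A N] (g : Fin s → N),
      Submodule.span A (Set.range g) = ⊤ → DiesAt fs (ModuleCat.of A N) j
  | 0, N, _, _, g, hg => by
    have h1 : Set.range g = ∅ := Set.range_eq_empty g
    rw [h1, Submodule.span_empty] at hg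
    have : Subsingleton N := by
      refine ⟨fun x y => ?_⟩
      have hx : x ∈ (⊥ : Submodule A N) := hg ▸ Submodule.mem_top
      have hy : y ∈ (⊥ : Submodule A N) := hg ▸ Submodule.mem_top
      rw [Submodule.mem_bot] at hx hy
      rw [hx, hy]
    exact diesAt_of_subsingleton_module fs N j
  | s + 1, N, _, _, g, hg => by
    let N'' : Submodule A N := Submodule.span A (Set.range (Fin.tail g))
    -- the submodule generated by the tail
    have h1 : DiesAt fs (ModuleCat.of A N'') j := by
      refine diesAt_of_fg j hA hnext s N''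
        (fun i => ⟨g i.succ, Submodule.subset_span ⟨i, rfl⟩⟩) ?_
      apply Submodule.map_injective_of_injective N''.injective_subtype
      rw [Submodule.map_span, Submodule.map_subtype_top, ← Set.range_comp]
      rfl
    -- the cyclic quotient
    let x0 : N ⧸ N'' := Submodule.Quotient.mk (g 0)
    let πA : A →ₗ[A] N ⧸ N'' := LinearMap.toSpanSingleton A (N ⧸ N'') x0
    have hπ : Function.Surjective πA := by
      have h2 : Submodule.span A (Set.range g) ≤ (LinearMap.range πA).comap N''.mkQ := by
        rw [Submodule.span_le]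
        rintro _ ⟨i, rfl⟩
        refine Fin.cases ?_ (fun i => ?_) i
        · exact ⟨1, by
            change (1 : A) • x0 = _
            rw [one_smul]
            rfl⟩
        · refine ⟨0, ?_⟩
          rw [map_zero]
          symm
          change N''.mkQ (g i.succ) = 0
          rw [Submodule.mkQ_apply, Submodule.Quotient.mk_eq_zero]
          exact Submodule.subset_span ⟨i, rfl⟩
      rw [hg] at h2
      intro q
      obtain ⟨y, rfl⟩ := Submodule.mkQ_surjective N'' q
      exact h2 Submodule.mem_top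
    have h3 : DiesAt fs (ModuleCat.of A (N ⧸ N'')) j :=
      diesAt_right fs (ModuleCat.ofHom (LinearMap.ker πA).subtype) (ModuleCat.ofHom πA)
        (LinearMap.ker πA).injective_subtype hπ (LinearMap.exact_subtype_ker_map πA) j hA
        (hnext (LinearMap.ker πA))
    exact diesAt_mid fs (ModuleCat.ofHom N''.subtype) (ModuleCat.ofHom N''.mkQ)
      N''.injective_subtype (Submodule.mkQ_surjective N'') (LinearMap.exact_subtype_mkQ N'') j h1 h3

/-- every element of a Koszul complex comes from a finitely generated submodule -/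
theorem exists_fg_lift (N : Type u) [AddCommGroup N] [Module A N] : ∀ (l : List A) (j : ℤ)
    (z : (koszulCx (ModuleCat.of A N) l).X j),
    ∃ (N' : Submodule A N), N'.FG ∧ ∃ z' : (koszulCx (ModuleCat.of A N') l).X j,
      ((koszulMap (ModuleCat.ofHom N'.subtype) l).f j).hom z' = z
  | [], j, z => by
    by_cases hj : j = 0
    · subst hj
      let eN := HomologicalComplex.singleObjXSelf (ComplexShape.up ℤ) 0 (ModuleCat.of A N)
      let m : N := eN.hom.hom z
      let N' : Submodule A N := Submodule.span A {m}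
      let eN' := HomologicalComplex.singleObjXSelf (ComplexShape.up ℤ) 0 (ModuleCat.of A N')
      refine ⟨N', Submodule.fg_span_singleton m,
        eN'.inv.hom ⟨m, Submodule.mem_span_singleton_self m⟩, ?_⟩
      change (((HomologicalComplex.single (ModuleCat.{u} A) (ComplexShape.up ℤ) 0).map
        (ModuleCat.ofHom N'.subtype)).f 0).hom _ = z
      rw [HomologicalComplex.single_map_f_self, conj_coe]
      change eN.inv.hom (N'.subtype (eN'.hom.hom (eN'.inv.hom ⟨m, _⟩))) = z
      have h1 : eN'.hom.hom (eN'.inv.hom ⟨m, Submodule.mem_span_singleton_self m⟩) =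
          ⟨m, Submodule.mem_span_singleton_self m⟩ := (iso_inv_bij eN').1.eq_iff.1 (by
        have := congr($(eN'.hom_inv_id).hom (eN'.inv.hom ⟨m, Submodule.mem_span_singleton_self m⟩))
        exact this)
      rw [h1]
      change eN.inv.hom (eN.hom.hom z) = z
      exact congr($(eN.hom_inv_id).hom z)
    · have h0 := ModuleCat.subsingleton_of_isZero
        (HomologicalComplex.isZero_single_obj_X (ComplexShape.up ℤ) 0 (ModuleCat.of A N) j hj)
      refine ⟨⊥, Submodule.fg_bot, 0, ?_⟩
      rw [map_zero]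
      exact @Subsingleton.elim _ h0 _ _
  | f :: l, j, z => by
    obtain ⟨N₁, hN₁, u', hu'⟩ := exists_fg_lift N l (j + 1)
      (cf (f • 𝟙 (koszulCx (ModuleCat.of A N) l)) j (j + 1) rfl z)
    obtain ⟨N₂, hN₂, v', hv'⟩ := exists_fg_lift N l j
      (cs (f • 𝟙 (koszulCx (ModuleCat.of A N) l)) j z)
    let N' : Submodule A N := N₁ ⊔ N₂
    let ι₁ : ModuleCat.of A N₁ ⟶ ModuleCat.of A N' :=
      ModuleCat.ofHom (Submodule.inclusion (le_sup_left : N₁ ≤ N'))
    let ι₂ : ModuleCat.of A N₂ ⟶ ModuleCat.of A N' :=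
      ModuleCat.ofHom (Submodule.inclusion (le_sup_right : N₂ ≤ N'))
    have hι₁ : ι₁ ≫ ModuleCat.ofHom N'.subtype = ModuleCat.ofHom N₁.subtype := rfl
    have hι₂ : ι₂ ≫ ModuleCat.ofHom N'.subtype = ModuleCat.ofHom N₂.subtype := rfl
    let u'' := ((koszulMap ι₁ l).f (j + 1)).hom u'
    let v'' := ((koszulMap ι₂ l).f j).hom v'
    refine ⟨N', hN₁.sup hN₂,
      ci (f • 𝟙 (koszulCx (ModuleCat.of A N') l)) j (j + 1) rfl u'' +
        cr (f • 𝟙 (koszulCx (ModuleCat.of A N') l)) j v'', ?_⟩
    apply cone_ext (f • 𝟙 (koszulCx (ModuleCat.of A N) l)) j (j + 1) rfl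
    · change cf _ j (j + 1) rfl (((mappingCone.map (f • 𝟙 (koszulCx (ModuleCat.of A N') l))
        (f • 𝟙 (koszulCx (ModuleCat.of A N) l)) (koszulMap (ModuleCat.ofHom N'.subtype) l)
        (koszulMap (ModuleCat.ofHom N'.subtype) l) _).f j).hom _) = _
      rw [cf_map, map_add, cf_ci, cf_cr, add_zero]
      change ((koszulMap (ModuleCat.ofHom N'.subtype) l).f (j + 1)).hom
        (((koszulMap ι₁ l).f (j + 1)).hom u') = _
      rw [koszulMap_comp_apply, hι₁]
      exact hu'
    · change cs _ j (((mappingCone.map (f • 𝟙 (koszulCx (ModuleCat.of A N') l))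
        (f • 𝟙 (koszulCx (ModuleCat.of A N) l)) (koszulMap (ModuleCat.ofHom N'.subtype) l)
        (koszulMap (ModuleCat.ofHom N'.subtype) l) _).f j).hom _) = _
      rw [cs_map, map_add, cs_ci, cs_cr, zero_add]
      change ((koszulMap (ModuleCat.ofHom N'.subtype) l).f j).hom
        (((koszulMap ι₂ l).f j).hom v') = _
      rw [koszulMap_comp_apply, hι₂]
      exact hv'

/-- reduction to finitely generated modules -/
theorem diesAt_all (j : ℤ) (hA : DiesAt fs (ModuleCat.of A A) j)
    (hnext : ∀ (N : Type u) [AddCommGroup N] [Module A N], DiesAt fs (ModuleCat.of A N) (j + 1))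
    (N : Type u) [AddCommGroup N] [Module A N] : DiesAt fs (ModuleCat.of A N) j := by
  intro n w
  obtain ⟨z, rfl⟩ := cls_surjective _ j (j + 1) rfl w
  obtain ⟨N', hN', z', hz'⟩ := exists_fg_lift N (fs.map (· ^ n)) j z.1
  let ι : ModuleCat.of A N' ⟶ ModuleCat.of A N := ModuleCat.ofHom N'.subtype
  -- `z'` is a cocycle
  have hz'cyc : z' ∈ LinearMap.ker ((koszulCx (ModuleCat.of A N') (fs.map (· ^ n))).d j (j + 1)).hom := by
    rw [LinearMap.mem_ker]
    apply koszulMap_f_injective ι N'.injective_subtype (fs.map (· ^ n)) (j + 1)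
    rw [map_zero]
    have hc := (koszulMap ι (fs.map (· ^ n))).comm j (j + 1)
    have hc' : ((koszulMap ι (fs.map (· ^ n))).f (j + 1)).hom
        (((koszulCx (ModuleCat.of A N') (fs.map (· ^ n))).d j (j + 1)).hom z') =
        ((koszulCx (ModuleCat.of A N) (fs.map (· ^ n))).d j (j + 1)).hom
          (((koszulMap ι (fs.map (· ^ n))).f j).hom z') := congr($(hc).hom z').symm
    rw [hc', hz']
    exact LinearMap.mem_ker.mp z.2
  -- generators
  obtain ⟨s, g, hg⟩ := Submodule.fg_iff_exists_fin_generating_family.1 hN'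
  have hgmem : ∀ i, g i ∈ N' := fun i => hg ▸ Submodule.subset_span ⟨i, rfl⟩
  have hdies : DiesAt fs (ModuleCat.of A N') j := by
    refine diesAt_of_fg fs j hA hnext s N' (fun i => ⟨g i, hgmem i⟩) ?_
    apply Submodule.map_injective_of_injective N'.injective_subtype
    rw [Submodule.map_span, Submodule.map_subtype_top, ← Set.range_comp]
    exact hg
  obtain ⟨m, hnm, h0⟩ := hdies n (cls _ j (j + 1) rfl ⟨z', hz'cyc⟩)
  refine ⟨m, hnm, ?_⟩
  have hw : cls _ j (j + 1) rfl z =
      (HomologicalComplex.homologyMap (koszulMap ι (fs.map (· ^ n))) j).hom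
        (cls _ j (j + 1) rfl ⟨z', hz'cyc⟩) := by
    rw [homologyMap_cls]
    congr 1
    exact Subtype.ext hz'.symm
  have e := LinearMap.congr_fun (homologyMap_koszulMap_trans fs j ι n m hnm)
    (cls _ j (j + 1) rfl ⟨z', hz'cyc⟩)
  rw [LinearMap.comp_apply, LinearMap.comp_apply, h0, map_zero] at e
  rw [hw]
  exact e.symm

end FG

section Main

/-- if all the direct-limit Koszul cohomology groups of the ring vanish, the elements generate the
unit ideal -/
theorem span_eq_top_of_subsingleton
    (h : ∀ i : ℕ, Subsingleton (koszulHLim fs (ModuleCat.of A A) i)) :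
    Ideal.span {x | x ∈ fs} = ⊤ := by
  have hA : ∀ j : ℤ, DiesAt fs (ModuleCat.of A A) j := by
    intro j
    rcases lt_or_ge 0 j with hj | hj
    · exact diesAt_of_pos fs _ j hj
    rcases lt_or_ge j (-(fs.length : ℤ)) with hj' | hj'
    · exact diesAt_of_lt fs _ j hj'
    have e : (((j + fs.length).toNat : ℕ) : ℤ) - fs.length = j := by
      rw [Int.toNat_of_nonneg (by omega)]
      ring
    have := (subsingleton_koszulHLim_iff fs (ModuleCat.of A A) (j + fs.length).toNat).1 (h _)
    rwa [e] at this
  have hall : ∀ (k : ℕ) (N : Type u) [AddCommGroup N] [Module A N],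
      DiesAt fs (ModuleCat.of A N) (1 - (k : ℤ)) := by
    intro k
    induction k with
    | zero =>
      intro N _ _
      exact diesAt_of_pos fs _ _ (by simp)
    | succ k ih =>
      intro N _ _
      have e : (1 - ((k + 1 : ℕ) : ℤ)) + 1 = 1 - (k : ℤ) := by push_cast; ring
      refine diesAt_all fs _ (hA _) (fun N' _ _ => ?_) N
      rw [e]
      exact ih N'
  let I : Ideal A := Ideal.span {x | x ∈ fs}
  have h0 : DiesAt fs (ModuleCat.of A (A ⧸ I)) (((0 : ℕ) : ℤ) - fs.length) := by
    have e : ((0 : ℕ) : ℤ) - fs.length = 1 - ((fs.length + 1 : ℕ) : ℤ) := by push_cast; ring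
    rw [e]
    exact hall (fs.length + 1) (A ⧸ I)
  have h1 : Subsingleton (koszulHLim fs (ModuleCat.of A (A ⧸ I)) 0) :=
    (subsingleton_koszulHLim_iff fs _ 0).2 h0
  obtain ⟨e⟩ := koszulHLim_zero fs (ModuleCat.of A (A ⧸ I))
    (0 : (ModuleCat.of A (A ⧸ I)) →ₗ[A] (A ⧸ I)) (by
      intro m
      refine ⟨fun _ i => ⟨1, ?_⟩, fun _ => rfl⟩
      obtain ⟨a, rfl⟩ := Ideal.Quotient.mk_surjective m
      rw [pow_one]
      change Ideal.Quotient.mk I (fs.get i * a) = 0
      rw [Ideal.Quotient.eq_zero_iff_mem]
      exact I.mul_mem_right a (Ideal.subset_span (List.get_mem fs i)))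
  have h2 : Subsingleton (A ⧸ I) := by
    refine ⟨fun x y => ?_⟩
    have hx : (⟨x, rfl⟩ : LinearMap.ker (0 : (ModuleCat.of A (A ⧸ I)) →ₗ[A] (A ⧸ I))) =
        ⟨y, rfl⟩ := e.injective (Subsingleton.elim _ _)
    exact congrArg Subtype.val hx
  exact Ideal.Quotient.subsingleton_iff.1 h2

end Main

end Groth.Agent.Lib.R2H2.KoszulVanish
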