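import Groth.Agent.Lib.R2H2KoszulLow
import Groth.Agent.Lib.Helper6QCohQcqs

/-!
# Kernel and cokernel of `Γ(X, F) → Γ(U, F)` for `U` a union of basic opens (helper2, round 2)

For a quasi-coherent module `F` on a quasi-compact separated scheme `X` and global functions
`f_1, …, f_r`, with `U = ⋃ X_{f_i}`: the kernel (resp. cokernel) of `Γ(X, F) → Γ(U, F)` is the
direct-limit Koszul cohomology `H^0((f), M)` (resp. `H^1((f), M)`).
-/

namespace Groth.Agent.Lib.R2H2.KoszulGeom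

open CategoryTheory AlgebraicGeometry TopologicalSpace Opposite Groth.Agent.Lib.Helper6
open Groth.Agent.Lib.R2H2.KoszulLow

universe u

variable {X : Scheme.{u}} (F : X.Modules)

/-- a section over an open inside `X_f` killed by a power of `f` vanishes -/
theorem eq_zero_of_pow_smul_eq_zero {W : X.Opens} (f : Γ(X, ⊤)) (hW : W ≤ X.basicOpen f)
    (s : Γ(F, W)) (n : ℕ) (h : (resf (le_top : W ≤ ⊤) f) ^ n • s = 0) : s = 0 := by
  have hu : IsUnit (resf (le_top : W ≤ ⊤) f) := by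
    have h1 : IsUnit (resf (X.basicOpen_le f) f) := X.toRingedSpace.isUnit_res_basicOpen f
    have h2 := h1.map (X.presheaf.map (homOfLE hW).op).hom
    have h3 : (X.presheaf.map (homOfLE hW).op).hom (resf (X.basicOpen_le f) f) =
        resf (le_top : W ≤ ⊤) f := resf_resf (X.basicOpen_le f) hW f
    rw [h3] at h2
    exact h2
  have hu' := hu.pow n
  rw [← smul_zero ((resf (le_top : W ≤ ⊤) f) ^ n)] at h
  exact (hu'.smul_left_cancel).mp h

/-- separation for a cover -/
theorem eq_of_res_eq {ι : Type*} (V : ι → X.Opens) (U : X.Opens) (hVU : ∀ i, V i ≤ U)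
    (hcov : U ≤ ⨆ i, V i) (s t : Γ(F, U)) (h : ∀ i, res F (hVU i) s = res F (hVU i) t) : s = t :=
  (modSheaf F).eq_of_locally_eq' V U (fun i => homOfLE (hVU i)) hcov s t h

/-- gluing for a cover -/
theorem exists_glue {ι : Type*} (V : ι → X.Opens) (U : X.Opens) (hVU : ∀ i, V i ≤ U)
    (hcov : U ≤ ⨆ i, V i) (sf : ∀ i, Γ(F, V i))
    (hcompat : ∀ i j, res F (inf_le_left : V i ⊓ V j ≤ V i) (sf i) =
      res F (inf_le_right : V i ⊓ V j ≤ V j) (sf j)) :
    ∃ s : Γ(F, U), ∀ i, res F (hVU i) s = sf i := by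
  obtain ⟨s, hs, -⟩ := (modSheaf F).existsUnique_gluing' V U (fun i => homOfLE (hVU i)) hcov sf
    (fun i j => hcompat i j)
  exact ⟨s, hs⟩

lemma inv_smul_aux {B P : Type*} [CommRing B] [AddCommGroup P] [Module B P] (a a' b b' : B)
    (ha : a' * a = 1) (hb : b' * b = 1) (x' y' : P) (h : b • x' = a • y') :
    a' • x' = b' • y' := by
  calc a' • x' = (a' * (b' * b)) • x' := by rw [hb, mul_one]
    _ = (a' * b') • (b • x') := by rw [smul_smul, mul_assoc]
    _ = (a' * b') • (a • y') := by rw [h]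
    _ = (b' * (a' * a)) • y' := by rw [smul_smul]; congr 1; ring
    _ = b' • y' := by rw [ha, mul_one]

variable (fs : List Γ(X, ⊤))

/-- the union of the basic opens -/
def UU : X.Opens := ⨆ i : Fin fs.length, X.basicOpen (fs.get i)

lemma le_UU (i : Fin fs.length) : X.basicOpen (fs.get i) ≤ UU fs :=
  le_iSup (fun i : Fin fs.length => X.basicOpen (fs.get i)) i

lemma isCompact_UU [CompactSpace X] : IsCompact (UU fs : Set X) := by
  have : ((UU fs : X.Opens) : Set X) = ⋃ i : Fin fs.length, (X.basicOpen (fs.get i) : Set X) := by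
    simp [UU]
  rw [this]
  exact isCompact_iUnion (fun i => isCompact_basicOpen X (U := ⊤) CompactSpace.isCompact_univ _)

/-- sections over the union, as a module over the global functions -/
def SecU : Type u := Γ(F, UU fs)

noncomputable instance : AddCommGroup (SecU F fs) := inferInstanceAs (AddCommGroup Γ(F, UU fs))

noncomputable instance : Module Γ(X, ⊤) (SecU F fs) :=
  Module.compHom Γ(F, UU fs) (X.presheaf.map (homOfLE (le_top : UU fs ≤ ⊤)).op).hom

/-- the underlying section -/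
def SecU.val (s : SecU F fs) : Γ(F, UU fs) := s

/-- a section as an element of the module -/
def SecU.mk (s : Γ(F, UU fs)) : SecU F fs := s

lemma SecU.smul_val (a : Γ(X, ⊤)) (s : SecU F fs) :
    (a • s).val = resf (le_top : UU fs ≤ ⊤) a • s.val := rfl

lemma SecU.ext {s t : SecU F fs} (h : s.val = t.val) : s = t := h

/-- the restriction map, as a linear map -/
noncomputable def rho : (F.val.obj (op ⊤)) →ₗ[Γ(X, ⊤)] SecU F fs where
  toFun s := SecU.mk F fs (res F (le_top : UU fs ≤ ⊤) s)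
  map_add' s t := map_add (F.presheaf.map (homOfLE (le_top : UU fs ≤ ⊤)).op).hom s t
  map_smul' a s := res_smul F (le_top : UU fs ≤ ⊤) a s

lemma rho_val (m : F.val.obj (op ⊤)) : (rho F fs m).val = res F (le_top : UU fs ≤ ⊤) m := rfl

/-- vanishing over the union is detected by powers -/
theorem val_eq_zero_of_pow_smul (s : Γ(F, UU fs))
    (h : ∀ i : Fin fs.length, ∃ n : ℕ, (resf (le_top : UU fs ≤ ⊤) (fs.get i)) ^ n • s = 0) :
    s = 0 := by
  refine eq_of_res_eq F (fun i : Fin fs.length => X.basicOpen (fs.get i)) (UU fs) (le_UU fs)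
    le_rfl s 0 (fun i => ?_)
  obtain ⟨n, hn⟩ := h i
  rw [res_zero]
  refine eq_zero_of_pow_smul_eq_zero F (fs.get i) le_rfl _ n ?_
  have h1 := congrArg (res F (le_UU fs i)) hn
  rw [res_smul, resf_pow, resf_resf, res_zero] at h1
  exact h1

theorem hker [CompactSpace X] [F.IsQuasicoherent] (m : F.val.obj (op ⊤)) :
    rho F fs m = 0 ↔ ∀ i : Fin fs.length, ∃ n : ℕ, fs.get i ^ n • m = 0 := by
  constructor
  · intro h i
    have h0 : res F (le_top : UU fs ≤ ⊤) m = 0 := h
    have h1 : res F (le_top : X.basicOpen (fs.get i) ≤ ⊤) m = 0 := by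
      rw [← res_res F (le_top : UU fs ≤ ⊤) (le_UU fs i), h0, res_zero]
    obtain ⟨n, -, hn⟩ := exists_pow_smul_eq_zero_top_of_compactSpace X (fs.get i) F m h1
    exact ⟨n, hn⟩
  · intro h
    apply SecU.ext
    rw [rho_val]
    refine val_eq_zero_of_pow_smul F fs _ (fun i => ?_)
    obtain ⟨n, hn⟩ := h i
    refine ⟨n, ?_⟩
    let m' : Γ(F, ⊤) := m
    have hn' : (fs.get i ^ n : Γ(X, ⊤)) • m' = 0 := hn
    have h1 := congrArg (res F (le_top : UU fs ≤ ⊤)) hn'
    rw [res_smul, resf_pow, res_zero] at h1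
    exact h1

theorem htf (s : SecU F fs) (h : ∀ i : Fin fs.length, ∃ n : ℕ, fs.get i ^ n • s = 0) : s = 0 := by
  apply SecU.ext
  refine val_eq_zero_of_pow_smul F fs _ (fun i => ?_)
  obtain ⟨n, hn⟩ := h i
  refine ⟨n, ?_⟩
  have h1 := congrArg (SecU.val F fs) hn
  rw [SecU.smul_val, resf_pow] at h1
  exact h1

theorem hext [CompactSpace X] [QuasiSeparatedSpace X] [F.IsQuasicoherent] (s : SecU F fs)
    (i : Fin fs.length) : ∃ (n : ℕ) (m : F.val.obj (op ⊤)), fs.get i ^ n • s = rho F fs m := by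
  set f := fs.get i with hf
  set fU : Γ(X, UU fs) := resf (le_top : UU fs ≤ ⊤) f with hfU
  obtain ⟨n, -, m, hm⟩ := exists_extension_top_of_qcqs X f F (res F (le_UU fs i) s.val)
  -- the difference vanishes on `X_f`
  have hle : X.basicOpen fU ≤ X.basicOpen f := by
    rw [hfU, Scheme.basicOpen_res]
    exact inf_le_right
  have hd : res F (X.basicOpen_le fU) (res F (le_top : UU fs ≤ ⊤) m - fU ^ n • s.val) = 0 := by
    have e1 : res F (X.basicOpen_le fU) (res F (le_top : UU fs ≤ ⊤) m - fU ^ n • s.val) =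
        res F hle (res F (le_UU fs i) (res F (le_top : UU fs ≤ ⊤) m - fU ^ n • s.val)) := by
      rw [res_res]
    have e3 : resf (le_UU fs i) fU = resf (le_top : X.basicOpen f ≤ ⊤) f := resf_resf _ _ f
    rw [e1, res_sub, res_res, res_smul, resf_pow, e3, hm, sub_self, res_zero]
  obtain ⟨k, hk⟩ := exists_pow_smul_eq_zero_of_isCompact F (U := UU fs) (isCompact_UU fs) fU _ hd
  refine ⟨k + n, (f ^ k : Γ(X, ⊤)) • m, ?_⟩
  apply SecU.ext
  rw [SecU.smul_val, rho_val, resf_pow, ← hfU]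
  rw [smul_sub, sub_eq_zero] at hk
  have e2 : res F (le_top : UU fs ≤ ⊤) ((f ^ k : Γ(X, ⊤)) • (m : Γ(F, ⊤))) =
      fU ^ k • res F (le_top : UU fs ≤ ⊤) m := by
    rw [res_smul, resf_pow]
  rw [pow_add, mul_smul]
  exact hk.symm.trans e2.symm

theorem hglue (n : ℕ) (u : Fin fs.length → F.val.obj (op ⊤))
    (hu : ∀ i j, fs.get i ^ n • u j = fs.get j ^ n • u i) :
    ∃ s : SecU F fs, ∀ i, fs.get i ^ n • s = rho F fs (u i) := by
  -- inverses of the `f_i` on `X_{f_i}`
  have hunit : ∀ i : Fin fs.length, ∃ gi : Γ(X, X.basicOpen (fs.get i)),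
      gi * resf (le_top : X.basicOpen (fs.get i) ≤ ⊤) (fs.get i) = 1 := by
    intro i
    have h1 : IsUnit (resf (X.basicOpen_le (fs.get i)) (fs.get i)) :=
      X.toRingedSpace.isUnit_res_basicOpen (fs.get i)
    obtain ⟨b, hb⟩ := h1.exists_left_inv
    exact ⟨b, hb⟩
  choose gi hgi using hunit
  let V : Fin fs.length → X.Opens := fun i => X.basicOpen (fs.get i)
  let uu : ∀ i, Γ(F, ⊤) := fun i => u i
  -- the hypothesis restricted to an open
  have hures : ∀ (W : X.Opens) (i j : Fin fs.length),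
      (resf (le_top : W ≤ ⊤) (fs.get i)) ^ n • res F (le_top : W ≤ ⊤) (uu j) =
      (resf (le_top : W ≤ ⊤) (fs.get j)) ^ n • res F (le_top : W ≤ ⊤) (uu i) := by
    intro W i j
    have h1 : res F (le_top : W ≤ ⊤) ((fs.get i ^ n : Γ(X, ⊤)) • uu j) =
        res F (le_top : W ≤ ⊤) ((fs.get j ^ n : Γ(X, ⊤)) • uu i) := congrArg _ (hu i j)
    rw [res_smul, res_smul, resf_pow, resf_pow] at h1
    exact h1
  let sf : ∀ i, Γ(F, V i) := fun i => gi i ^ n • res F (le_top : V i ≤ ⊤) (uu i)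
  have hcompat : ∀ i j, res F (inf_le_left : V i ⊓ V j ≤ V i) (sf i) =
      res F (inf_le_right : V i ⊓ V j ≤ V j) (sf j) := by
    intro i j
    change res F _ (gi i ^ n • res F (le_top : V i ≤ ⊤) (uu i)) =
      res F _ (gi j ^ n • res F (le_top : V j ≤ ⊤) (uu j))
    rw [res_smul, res_smul, res_res, res_res, resf_pow, resf_pow]
    refine inv_smul_aux ((resf (le_top : V i ⊓ V j ≤ ⊤) (fs.get i)) ^ n) _
      ((resf (le_top : V i ⊓ V j ≤ ⊤) (fs.get j)) ^ n) _ ?_ ?_ _ _ (hures _ j i)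
    · rw [← mul_pow, ← resf_resf (le_top : V i ≤ ⊤) (inf_le_left : V i ⊓ V j ≤ V i),
        ← map_mul, hgi i, map_one, one_pow]
    · rw [← mul_pow, ← resf_resf (le_top : V j ≤ ⊤) (inf_le_right : V i ⊓ V j ≤ V j),
        ← map_mul, hgi j, map_one, one_pow]
  obtain ⟨s, hs⟩ := exists_glue F V (UU fs) (le_UU fs) le_rfl sf hcompat
  refine ⟨SecU.mk F fs s, fun i => ?_⟩
  apply SecU.ext
  rw [SecU.smul_val, rho_val, resf_pow]
  refine eq_of_res_eq F V (UU fs) (le_UU fs) le_rfl _ _ (fun j => ?_)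
  rw [res_smul, resf_pow, resf_resf, res_res]
  change _ • res F (le_UU fs j) s = _
  rw [hs j]
  change (resf (le_top : V j ≤ ⊤) (fs.get i)) ^ n • (gi j ^ n • res F (le_top : V j ≤ ⊤) (uu j)) =
    res F (le_top : V j ≤ ⊤) (uu i)
  rw [smul_comm, hures (V j) i j, smul_smul, ← mul_pow, hgi j, one_pow, one_smul]

theorem main [CompactSpace X] [QuasiSeparatedSpace X] [F.IsQuasicoherent] :
    Nonempty (LinearMap.ker (rho F fs) ≃ₗ[Γ(X, ⊤)]
      CohIII.koszulHLim fs (ModuleCat.of Γ(X, ⊤) (F.val.obj (op ⊤))) 0) ∧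
    Nonempty ((SecU F fs ⧸ LinearMap.range (rho F fs)) ≃ₗ[Γ(X, ⊤)]
      CohIII.koszulHLim fs (ModuleCat.of Γ(X, ⊤) (F.val.obj (op ⊤))) 1) :=
  ⟨koszulHLim_zero fs (ModuleCat.of Γ(X, ⊤) (F.val.obj (op ⊤))) (rho F fs) (hker F fs),
    koszulHLim_one fs (ModuleCat.of Γ(X, ⊤) (F.val.obj (op ⊤))) (rho F fs) (hker F fs) (htf F fs)
      (hext F fs) (hglue F fs)⟩


section Convert

/-- the kernel of a linear map, as an additive subgroup -/
noncomputable def kerAddEquiv {A M N : Type*} [Ring A] [AddCommGroup M] [AddCommGroup N]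
    [Module A M] [Module A N] (ρ : M →ₗ[A] N) : ρ.toAddMonoidHom.ker ≃+ LinearMap.ker ρ where
  toFun x := ⟨x.1, x.2⟩
  invFun x := ⟨x.1, x.2⟩
  left_inv _ := rfl
  right_inv _ := rfl
  map_add' _ _ := rfl

/-- the cokernel of a linear map, as a quotient by an additive subgroup -/
noncomputable def cokerAddEquiv {A M N : Type*} [Ring A] [AddCommGroup M] [AddCommGroup N]
    [Module A M] [Module A N] (ρ : M →ₗ[A] N) :
    (N ⧸ ρ.toAddMonoidHom.range) ≃+ (N ⧸ LinearMap.range ρ) :=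
  (QuotientAddGroup.quotientAddEquivOfEq (LinearMap.range_toAddSubgroup ρ).symm).trans
    (AddEquiv.refl _)

theorem main' [CompactSpace X] [QuasiSeparatedSpace X] [F.IsQuasicoherent] :
    Nonempty (((Coh.toAb F).obj.map (homOfLE (le_top :
        (⨆ i : Fin fs.length, X.basicOpen (fs.get i)) ≤ ⊤)).op).hom.ker ≃+
      CohIII.koszulHLim fs (ModuleCat.of Γ(X, ⊤) (F.val.obj (op ⊤))) 0) ∧
    Nonempty (↑((Coh.toAb F).obj.obj (op (⨆ i : Fin fs.length, X.basicOpen (fs.get i)))) ⧸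
        ((Coh.toAb F).obj.map (homOfLE (le_top :
          (⨆ i : Fin fs.length, X.basicOpen (fs.get i)) ≤ ⊤)).op).hom.range ≃+
      CohIII.koszulHLim fs (ModuleCat.of Γ(X, ⊤) (F.val.obj (op ⊤))) 1) := by
  obtain ⟨⟨e0⟩, ⟨e1⟩⟩ := main F fs
  exact ⟨⟨(kerAddEquiv (rho F fs)).trans e0.toAddEquiv⟩,
    ⟨(cokerAddEquiv (rho F fs)).trans e1.toAddEquiv⟩⟩

end Convert

end Groth.Agent.Lib.R2H2.KoszulGeom
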