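import Groth.Agent.S2439
import Groth.Agent.S2442
import Groth.Agent.Lib.R2H2KoszulVanish
import Groth.Agent.Lib.Helper16Restr
import Groth.Agent.Lib.Helper23AffOpen2
import Groth.Agent.Lib.Helper23AffVanish7
import Groth.Agent.Lib.Helper23Serre
import Mathlib.AlgebraicGeometry.QuasiAffine

/-!
# Serre's criterion for quasi-affine schemes (helper2, round 2)

* `exists_list`: a quasi-affine scheme is covered by finitely many affine basic opens `X_f`;
* `subsingleton_HHon_of_eq_top`: `H^q(U, F|_U) = 0` if `U = ⊤` and `H^q(X, F) = 0`;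
* `isAffine_of_vanishing`: quasi-affine + `H^p(X, O_X) = 0` for `p > 0` implies affine.
-/

set_option autoImplicit false
universe u

namespace Groth.Agent.Lib.R2H2.QAffine

open CategoryTheory CategoryTheory.Limits Opposite TopologicalSpace AlgebraicGeometry
open Groth.Agent.Lib.Helper23.AffVanish

/-- a quasi-affine scheme is covered by finitely many affine basic opens of global functions -/
theorem exists_list (X : Scheme.{u}) [X.IsQuasiAffine] :
    ∃ fs : List Γ(X, ⊤), (∀ i : Fin fs.length, IsAffineOpen (X.basicOpen (fs.get i))) ∧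
      (⨆ i : Fin fs.length, X.basicOpen (fs.get i)) = ⊤ := by
  have hB := Scheme.IsQuasiAffine.isBasis_basicOpen X
  have h1 : ∀ x : X, ∃ r : Γ(X, ⊤), IsAffineOpen (X.basicOpen r) ∧ x ∈ X.basicOpen r := by
    intro x
    obtain ⟨_, ⟨r, hr, rfl⟩, hx, -⟩ :=
      Opens.isBasis_iff_nbhd.mp hB (U := ⊤) (x := x) trivial
    exact ⟨r, hr, hx⟩
  choose r hr hx using h1
  obtain ⟨t, ht⟩ := isCompact_univ.elim_finite_subcover
    (fun x : X => ((X.basicOpen (r x) : X.Opens) : Set X))
    (fun x => (X.basicOpen (r x)).2) (fun x _ => Set.mem_iUnion.mpr ⟨x, hx x⟩)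
  refine ⟨t.toList.map r, ?_, ?_⟩
  · intro i
    have hmem : (t.toList.map r).get i ∈ t.toList.map r := List.get_mem _ _
    obtain ⟨x, -, hxe⟩ := List.mem_map.mp hmem
    rw [← hxe]
    exact hr x
  · apply top_unique
    intro y _
    have hy := ht (Set.mem_univ y)
    simp only [Set.mem_iUnion] at hy
    obtain ⟨x, hxt, hy⟩ := hy
    have hmem : r x ∈ t.toList.map r :=
      List.mem_map.mpr ⟨x, Finset.mem_toList.mpr hxt, rfl⟩
    obtain ⟨i, hi⟩ := List.get_of_mem hmem
    refine Opens.mem_iSup.mpr ⟨i, ?_⟩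
    rw [hi]
    exact hy

/-- cohomology of the restriction to the whole space -/
theorem subsingleton_HHon_of_eq_top (X : Scheme.{u}) (F : X.Modules) (U : X.Opens) (hU : U = ⊤)
    (q : ℕ) (h : Subsingleton (Coh.HH X F q)) : Subsingleton (Coh.HHon X F U q) := by
  subst hU
  obtain ⟨e2⟩ := Groth.Agent.Lib.Helper16.Restr.nonempty_HU_equiv (X := X.carrier)
    (⊤ : X.Opens) (Coh.toAb F) q
  let e2' : CohTop.HU (X := X.carrier) (Coh.toAb F) q ⊤ ≃+ Coh.HHon X F ⊤ q := e2
  let e3 : CohTop.HU (X := X.carrier) (Coh.toAb F) q ⊤ ≃+ Coh.HH X F q :=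
    HETopEquivH X.carrier (Coh.toAb F) q
  exact (e2'.symm.trans e3).toEquiv.subsingleton

/-- restriction along `U ≤ ⊤` with `U = ⊤` is bijective -/
theorem map_bijective_of_eq_top {X : TopCat.{u}} (P : (Opens X)ᵒᵖ ⥤ Ab.{u}) (U : Opens X)
    (hU : U = ⊤) : Function.Bijective (P.map (homOfLE (le_top : U ≤ ⊤)).op).hom := by
  subst hU
  have h0 : (homOfLE (le_top : (⊤ : Opens X) ≤ ⊤)) = 𝟙 _ := Subsingleton.elim _ _
  rw [h0, op_id, P.map_id]
  exact Function.bijective_id

/-- **Serre's criterion for quasi-affine schemes.** -/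
theorem isAffine_of_vanishing (X : Scheme.{u}) [X.IsQuasiAffine]
    (h : ∀ p : ℕ, 0 < p → Subsingleton (Coh.HH X (Coh.structureModule X) p)) : IsAffine X := by
  obtain ⟨fs, haff, hcov⟩ := exists_list X
  have hF : Coh.IsQCoh (Coh.structureModule X) :=
    Groth.Agent.Lib.Helper23.Serre.isQuasicoherent_structureModule' X
  have hbij := map_bijective_of_eq_top (X := X.carrier) (Coh.toAb (Coh.structureModule X)).obj
    (⨆ i : Fin fs.length, X.basicOpen (fs.get i)) hcov
  have key : ∀ i : ℕ, Subsingleton (CohIII.koszulHLim fs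
      (ModuleCat.of Γ(X, ⊤) ((Coh.structureModule X).val.obj (op ⊤))) i) := by
    intro i
    match i with
    | 0 =>
      obtain ⟨e⟩ := (Groth.Agent.S2442.result X fs (Coh.structureModule X)).1
      have : Subsingleton ((Coh.toAb (Coh.structureModule X)).obj.map (homOfLE
          (le_top : (⨆ i : Fin fs.length, X.basicOpen (fs.get i)) ≤ ⊤)).op).hom.ker := by
        refine ⟨fun a b => Subtype.ext (hbij.1 ?_)⟩
        rw [a.2, b.2]
      exact e.symm.toEquiv.subsingleton
    | 1 =>
      obtain ⟨e⟩ := (Groth.Agent.S2442.result X fs (Coh.structureModule X)).2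
      have : Subsingleton (↑((Coh.toAb (Coh.structureModule X)).obj.obj
          (op (⨆ i : Fin fs.length, X.basicOpen (fs.get i)))) ⧸
          ((Coh.toAb (Coh.structureModule X)).obj.map (homOfLE
          (le_top : (⨆ i : Fin fs.length, X.basicOpen (fs.get i)) ≤ ⊤)).op).hom.range) := by
        rw [QuotientAddGroup.subsingleton_iff]
        exact AddMonoidHom.range_eq_top.mpr hbij.2
      exact e.symm.toEquiv.subsingleton
    | q + 2 =>
      obtain ⟨e⟩ := Groth.Agent.S2439.result X fs haff (Coh.structureModule X) (q + 1) (by omega)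
      have := subsingleton_HHon_of_eq_top X (Coh.structureModule X) _ hcov (q + 1)
        (h (q + 1) (by omega))
      exact e.symm.toEquiv.subsingleton
  have hspan : Ideal.span {x : Γ(X, ⊤) | x ∈ fs} = ⊤ :=
    Groth.Agent.Lib.R2H2.KoszulVanish.span_eq_top_of_subsingleton fs key
  refine isAffine_of_isAffineOpen_basicOpen {x : Γ(X, ⊤) | x ∈ fs} hspan ?_
  intro g hg
  obtain ⟨i, hi⟩ := List.get_of_mem hg
  rw [← hi]
  exact haff i

end Groth.Agent.Lib.R2H2.QAffine
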