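import Groth.Agent.Lib.R2H2LocPunct
import Groth.Agent.Lib.R2H2QAffine

/-!
# Cohomological dimension one implies affine complement (helper2, round 2)

* `extEquivOfIso`, `HH_addEquiv_of_iso`: cohomology of isomorphic modules;
* `subsingleton_H_of_radical_eq_bot`: `H^i_I(M) = 0` for `i > 0` when `I` is nilpotent;
* `main`: for `A` Noetherian with `cd(A, I) = 1`, `Spec A ∖ V(I)` is nonempty and affine.
-/

set_option autoImplicit false
universe u

namespace Groth.Agent.Lib.R2H2.CdOne

open CategoryTheory CategoryTheory.Limits Opposite TopologicalSpace AlgebraicGeometry Abelian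

section Ext

variable {C : Type*} [Category C] [Abelian C] [HasExt C]

/-- `Ext` in the second variable along an isomorphism -/
noncomputable def extEquivOfIso {X Y Y' : C} (e : Y ≅ Y') (n : ℕ) : Ext X Y n ≃+ Ext X Y' n where
  toFun x := x.comp (Ext.mk₀ e.hom) (add_zero n)
  invFun y := y.comp (Ext.mk₀ e.inv) (add_zero n)
  left_inv x := by
    change (x.comp (Ext.mk₀ e.hom) (add_zero n)).comp (Ext.mk₀ e.inv) (add_zero n) = x
    rw [Ext.comp_assoc_of_third_deg_zero, Ext.mk₀_comp_mk₀, e.hom_inv_id, Ext.comp_mk₀_id]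
  right_inv y := by
    change (y.comp (Ext.mk₀ e.inv) (add_zero n)).comp (Ext.mk₀ e.hom) (add_zero n) = y
    rw [Ext.comp_assoc_of_third_deg_zero, Ext.mk₀_comp_mk₀, e.inv_hom_id, Ext.comp_mk₀_id]
  map_add' x y := Ext.add_comp x y _ _

end Ext

/-- cohomology of isomorphic modules -/
noncomputable def HH_addEquiv_of_iso {X : Scheme.{u}} {M N : X.Modules} (e : M ≅ N) (n : ℕ) :
    Coh.HH X M n ≃+ Coh.HH X N n :=
  extEquivOfIso ((SheafOfModules.toSheaf X.ringCatSheaf).mapIso e) n

section Nilpotent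

variable (A : Type u) [CommRing A] [IsNoetherianRing A]

theorem subsingleton_H_bot (M : Type u) [AddCommGroup M] [Module A M] (i : ℕ) (hi : 0 < i) :
    Subsingleton (LocCoh.H (⊥ : Ideal A) i M) := by
  obtain ⟨e⟩ := Groth.Agent.Lib.R2H2.KoszulDelta.nonempty_linearEquiv ([] : List A) M i
  have h0 : Ideal.span {a : A | a ∈ ([] : List A)} = ⊥ := by simp
  rw [h0] at e
  have : Subsingleton (CohIII.koszulHLim ([] : List A) (ModuleCat.of A M) i) := by
    rw [Groth.Agent.Lib.R2H2.KoszulVanish.subsingleton_koszulHLim_iff]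
    exact Groth.Agent.Lib.R2H2.KoszulVanish.diesAt_of_pos [] _ _ (by simpa using hi)
  exact e.toEquiv.subsingleton

theorem subsingleton_H_of_radical_eq (I : Ideal A) (hI : I.radical = (⊥ : Ideal A).radical)
    (M : Type u) [AddCommGroup M] [Module A M] (i : ℕ) (hi : 0 < i) :
    Subsingleton (LocCoh.H I i M) := by
  have := subsingleton_H_bot A M i hi
  exact (((localCohomology.isoOfSameRadical hI i).app (ModuleCat.of A M)).toLinearEquiv).toEquiv.subsingleton

end Nilpotent

section Main

variable (A : Type u) [CommRing A] [IsNoetherianRing A] (I : Ideal A)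

theorem nonempty_puncturedOpen (h0 : ¬ LocCoh.CdLE A I 0) :
    Nonempty (↑(LocCoh.puncturedOpen A I) : Scheme.{u}) := by
  by_contra hne
  apply h0
  intro M _ _ i hi
  refine subsingleton_H_of_radical_eq A I ?_ M i hi
  apply le_antisymm
  · -- every prime contains `I`
    rw [Ideal.radical_eq_sInf (⊥ : Ideal A)]
    refine le_sInf fun P hP => ?_
    have hP' : P.IsPrime := hP.2
    rw [hP'.radical_le_iff]
    by_contra hIP
    apply hne
    let x : PrimeSpectrum A := ⟨P, hP'⟩
    have hx : x ∈ (PrimeSpectrum.zeroLocus (R := A) (I : Set A))ᶜ := fun hz => hIP hz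
    exact ⟨⟨x, hx⟩⟩
  · exact Ideal.radical_mono bot_le

theorem isAffine_puncturedOpen (h1 : LocCoh.CdLE A I 1) :
    IsAffine (↑(LocCoh.puncturedOpen A I) : Scheme.{u}) := by
  let X : Scheme.{u} := Spec (CommRingCat.of A)
  let U : X.Opens := LocCoh.puncturedOpen A I
  let U' : Set (PrimeSpectrum A) := U.1
  have hc : CompactSpace (↑U : Scheme.{u}) :=
    isCompact_iff_compactSpace.mp
      ((inferInstance : NoetherianSpace (PrimeSpectrum A)).isCompact U')
  have hqa : (↑U : Scheme.{u}).IsQuasiAffine := Scheme.IsQuasiAffine.of_isImmersion U.ι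
  refine Groth.Agent.Lib.R2H2.QAffine.isAffine_of_vanishing (↑U : Scheme.{u}) ?_
  intro p hp
  obtain ⟨e⟩ := Groth.Agent.Lib.R2H2.LocPunct.main A I A p hp
  have hsub : Subsingleton (LocCoh.H I (p + 1) A) := h1 A (p + 1) (by omega)
  have hsub2 : Subsingleton (Coh.HH (↑U)
      ((AlgebraicGeometry.tilde (R := CommRingCat.of A) (ModuleCat.of A A)).restrict U.ι) p) :=
    e.toEquiv.subsingleton
  let e2 : (AlgebraicGeometry.tilde (R := CommRingCat.of A) (ModuleCat.of A A)).restrict U.ι ≅
      Coh.structureModule (↑U : Scheme.{u}) :=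
    Scheme.Modules.restrictUnitIso U.ι
  exact (HH_addEquiv_of_iso e2 p).symm.toEquiv.subsingleton

theorem main (h1 : LocCoh.CdLE A I 1) (h0 : ¬ LocCoh.CdLE A I 0) :
    Nonempty (↑(LocCoh.puncturedOpen A I) : Scheme.{u}) ∧
      IsAffine (↑(LocCoh.puncturedOpen A I) : Scheme.{u}) :=
  ⟨nonempty_puncturedOpen A I h0, isAffine_puncturedOpen A I h1⟩

end Main

end Groth.Agent.Lib.R2H2.CdOne
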