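import Mathlib
import Groth.Agent.Lib.R2H2FlatDev
import Groth.Agent.Lib.R2H2CdOne

/-!
# Cohomology of `F / I F` as cohomology of the closed fibre (helper2, round 2)

For `X` over `Spec A`, a surjection `A → B` with kernel `I` and the base change `g' : X' → X`
(`X' = X ×_A Spec B`): the unit `M → g'_* g'^* M` induces an isomorphism `M / I M ≅ g'_* g'^* M` for
quasi-coherent `M`, hence `H^q(X, M / I M) ≃ H^q(X', g'^* M)`.
-/

set_option autoImplicit false
set_option linter.unusedSectionVars false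
universe u
open CategoryTheory CategoryTheory.Limits AlgebraicGeometry TopologicalSpace Opposite

noncomputable section

namespace Groth.Agent.Lib.R2H2.FibreCoh

open Groth.Agent.Lib.R2H2.SheafBC Groth.Agent.Lib.R2H2.FlatDev Groth.Agent.Lib.R2H2.ExtBC
  Groth.Agent.Lib.Helper23.AffVanish

section Alg

open TensorProduct

theorem exists_one_tmul {A B E : Type*} [CommRing A] [CommRing B] [Algebra A B] [AddCommGroup E]
    [Module A E] (hsurj : Function.Surjective (algebraMap A B)) (t : B ⊗[A] E) :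
    ∃ x : E, t = (1 : B) ⊗ₜ[A] x := by
  induction t using TensorProduct.induction_on with
  | zero => exact ⟨0, (tmul_zero _ _).symm⟩
  | tmul b x =>
    obtain ⟨a, rfl⟩ := hsurj b
    refine ⟨a • x, ?_⟩
    rw [Algebra.algebraMap_eq_smul_one, smul_tmul]
  | add t t' ht ht' =>
    obtain ⟨x, rfl⟩ := ht
    obtain ⟨x', rfl⟩ := ht'
    exact ⟨x + x', (tmul_add _ _ _).symm⟩

theorem mem_smul_top_of_one_tmul_eq_zero {A B E : Type*} [CommRing A] [CommRing B] [Algebra A B]
    [AddCommGroup E] [Module A E] (hsurj : Function.Surjective (algebraMap A B)) (I : Ideal A)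
    (hI : ∀ a : A, algebraMap A B a = 0 → a ∈ I) (x : E) (h : (1 : B) ⊗ₜ[A] x = 0) :
    x ∈ I • (⊤ : Submodule A E) := by
  -- `B ≃ A / ker`
  let e : (A ⧸ RingHom.ker (Algebra.ofId A B)) ≃ₗ[A] B :=
    (Ideal.quotientKerAlgEquivOfSurjective (f := Algebra.ofId A B) hsurj).toLinearEquiv
  have he1 : e.symm 1 = 1 := by
    rw [LinearEquiv.symm_apply_eq]
    exact (map_one (Ideal.quotientKerAlgEquivOfSurjective (f := Algebra.ofId A B) hsurj)).symm
  have h1 : (1 : A ⧸ RingHom.ker (Algebra.ofId A B)) ⊗ₜ[A] x = 0 := by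
    have := congrArg (e.symm.toLinearMap.rTensor E) h
    rwa [LinearMap.rTensor_tmul, map_zero, LinearEquiv.coe_coe, he1] at this
  have h2 := congrArg (quotTensorEquivQuotSMul E (RingHom.ker (Algebra.ofId A B))) h1
  rw [quotTensorEquivQuotSMul_mk_one_tmul, map_zero, Submodule.Quotient.mk_eq_zero] at h2
  have hle : RingHom.ker (Algebra.ofId A B) ≤ I := fun a ha => hI a ha
  exact Submodule.smul_mono_left hle h2

end Alg

section Unit

variable {A B : Type u} [CommRing A] [CommRing B] [Algebra A B] {X X' : Scheme.{u}}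
  [X.Over (Spec (CommRingCat.of A))] (f' : X' ⟶ Spec (CommRingCat.of B)) (g' : X' ⟶ X)
  (h : IsPullback g' f' (X ↘ Spec (CommRingCat.of A))
    (Spec.map (CommRingCat.ofHom (algebraMap A B))))
  (M : X.Modules)

/-- the unit `M → g'_* g'^* M` -/
abbrev un : M ⟶ (Scheme.Modules.pushforward g').obj ((Scheme.Modules.pullback g').obj M) :=
  (Scheme.Modules.pullbackPushforwardAdjunction g').unit.app M

theorem smulModΓ_zero {Y : Scheme.{u}} (N : Y.Modules) : Formal.smulModΓ N 0 = 0 := by
  apply Scheme.Modules.hom_ext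
  intro U
  ext m
  change (show Γ(Y, U) from Coh.resTop Y (op U) 0) • (show Γ(N, U) from m) = 0
  have : (show Γ(Y, U) from Coh.resTop Y (op U) 0) = 0 := map_zero (Coh.resTop Y (op U))
  rw [this, zero_smul]

include h in
theorem smulMod_un (a : A) (ha : algebraMap A B a = 0) : Formal.smulMod A M a ≫ un g' M = 0 := by
  unfold Formal.smulMod
  rw [Groth.Agent.S9530.smulModΓ_comp,
    ← Groth.Agent.Lib.Helper20.FormalPull.pushforward_map_smulModΓ g',
    ← toGlobal_algebraMap (X ↘ Spec (CommRingCat.of A)) f' g' h.w, ha, map_zero, smulModΓ_zero,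
    Functor.map_zero, comp_zero]

include h in
theorem smulFamily_un (I : Ideal A) (hI : ∀ a ∈ I, algebraMap A B a = 0) :
    Formal.smulFamily I M ≫ un g' M = 0 :=
  (Groth.Agent.S9530.smulFamily_comp_eq_zero_iff _).2 (fun a ha => smulMod_un f' g' h M a (hI a ha))

/-- `M / I M → g'_* g'^* M` -/
def ubar (I : Ideal A) (hI : ∀ a ∈ I, algebraMap A B a = 0) :
    modJ I M ⟶ (Scheme.Modules.pushforward g').obj ((Scheme.Modules.pullback g').obj M) :=
  cokernel.desc _ (un g' M) (smulFamily_un f' g' h M I hI)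

@[reassoc]
theorem π_ubar (I : Ideal A) (hI : ∀ a ∈ I, algebraMap A B a = 0) :
    πJ I M ≫ ubar f' g' h M I hI = un g' M := cokernel.π_desc _ _ _

include h in
theorem isClosedImmersion_of_surjective (hsurj : Function.Surjective (algebraMap A B)) :
    IsClosedImmersion g' := by
  haveI : IsClosedImmersion (Spec.map (CommRingCat.ofHom (algebraMap A B))) :=
    IsClosedImmersion.spec_of_surjective _ hsurj
  exact MorphismProperty.of_isPullback h.flip
    (inferInstance : IsClosedImmersion (Spec.map (CommRingCat.ofHom (algebraMap A B))))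

variable [M.IsQuasicoherent]

include h in
/-- over an affine open, the unit is surjective on sections when `A → B` is surjective -/
theorem un_app_surjective (hsurj : Function.Surjective (algebraMap A B)) {U : X.Opens}
    (hU : IsAffineOpen U) : Function.Surjective ((un g' M).app U) := by
  have hK := KB_of_isAffineOpen (X ↘ Spec (CommRingCat.of A)) f' g' h M hU 0
  intro y
  let e' := h0 f' ((Scheme.Modules.pullback g').obj M) (g' ⁻¹ᵁ U)
  obtain ⟨t, ht⟩ := hK.2 (e'.symm y)
  obtain ⟨x, rfl⟩ := exists_one_tmul hsurj t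
  refine ⟨h0 (X ↘ Spec (CommRingCat.of A)) M U x, ?_⟩
  have := h0_TT_one_tmul (X ↘ Spec (CommRingCat.of A)) f' g' h M U x
  rw [ht] at this
  rw [← this]
  exact e'.apply_symm_apply y

include h in
/-- over an affine open, the kernel of the unit on sections is `I Γ(M, U)` -/
theorem mem_JS_of_un_app_eq_zero (hsurj : Function.Surjective (algebraMap A B)) (I : Ideal A)
    (hI : ∀ a : A, algebraMap A B a = 0 → a ∈ I) {U : X.Opens} (hU : IsAffineOpen U)
    (m : Γ(M, U)) (hm : (un g' M).app U m = 0) : m ∈ JS I M U := by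
  have hK := KB_of_isAffineOpen (X ↘ Spec (CommRingCat.of A)) f' g' h M hU 0
  let e : EM (rho (X ↘ Spec (CommRingCat.of A)) M) (ZU U) 0 ≃+ Γ(M, U) :=
    h0 (X ↘ Spec (CommRingCat.of A)) M U
  let e' : EM (rho f' ((Scheme.Modules.pullback g').obj M)) (ZU (g' ⁻¹ᵁ U)) 0 ≃+
      Γ((Scheme.Modules.pullback g').obj M, g' ⁻¹ᵁ U) :=
    h0 f' ((Scheme.Modules.pullback g').obj M) (g' ⁻¹ᵁ U)
  obtain ⟨x, rfl⟩ : ∃ x, e x = m := ⟨e.symm m, e.apply_symm_apply m⟩
  have h1 := h0_TT_one_tmul (X ↘ Spec (CommRingCat.of A)) f' g' h M U x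
  have h2 : TT (X ↘ Spec (CommRingCat.of A)) f' g' h M U 0 ((1 : B) ⊗ₜ[A] x) = 0 := by
    apply e'.injective
    rw [map_zero]
    exact h1.trans hm
  have h3 : (1 : B) ⊗ₜ[A] x = 0 := hK.1 (h2.trans (map_zero _).symm)
  have h4 := mem_smul_top_of_one_tmul_eq_zero hsurj I hI x h3
  refine Submodule.smul_induction_on h4 ?_ ?_
  · intro a ha y _
    have : e (a • y) = (bW (X ↘ Spec (CommRingCat.of A)) U a : Γ(X, U)) • e y :=
      h0_smul (X ↘ Spec (CommRingCat.of A)) M U a y
    rw [this]
    exact Submodule.smul_mem_smul (Ideal.mem_map_of_mem _ ha) Submodule.mem_top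
  · intro y z hy hz
    rw [map_add]
    exact Submodule.add_mem _ hy hz

include h in
theorem isIso_ubar (hsurj : Function.Surjective (algebraMap A B)) (I : Ideal A)
    (hI : ∀ a ∈ I, algebraMap A B a = 0) (hI' : ∀ a : A, algebraMap A B a = 0 → a ∈ I) :
    IsIso (ubar f' g' h M I hI) := by
  refine Groth.Agent.Lib.R2H2.ProjOverPush.isIso_of_bijective_on_affines _ (fun U hU => ?_)
  have hu : ∀ m : Γ(M, U), (ubar f' g' h M I hI).app U ((πJ I M).app U m) = (un g' M).app U m := by
    intro m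
    change (πJ I M ≫ ubar f' g' h M I hI).app U m = _
    rw [π_ubar]
  constructor
  · intro y y' hyy'
    obtain ⟨m, rfl⟩ := πJ_app_surjective I M hU y
    obtain ⟨m', rfl⟩ := πJ_app_surjective I M hU y'
    rw [hu, hu] at hyy'
    have e1 : (un g' M).app U (m - m') = 0 := by rw [map_sub, hyy', sub_self]
    have e2 := πJ_app_eq_zero_of_mem I M U _ (mem_JS_of_un_app_eq_zero f' g' h M hsurj I hI' hU _ e1)
    rw [map_sub, sub_eq_zero] at e2
    exact e2
  · intro y
    obtain ⟨m, rfl⟩ := un_app_surjective f' g' h M hsurj hU y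
    exact ⟨(πJ I M).app U m, hu m⟩

end Unit

section Coh

open Groth.Agent.Lib.R2H2.HHLin Groth.Agent.Lib.R2H2.ReesCoh

variable {A B : Type u} [CommRing A] [CommRing B] [Algebra A B] {X X' : Scheme.{u}}
  [X.Over (Spec (CommRingCat.of A))] (f' : X' ⟶ Spec (CommRingCat.of B)) (g' : X' ⟶ X)
  (h : IsPullback g' f' (X ↘ Spec (CommRingCat.of A))
    (Spec.map (CommRingCat.ofHom (algebraMap A B))))
  (M : X.Modules) [M.IsQuasicoherent]

include h in
/-- `H^q(X', g'^* M) = 0 ⇒ H^q(X, M / I M) = 0` -/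
theorem subsingleton_HH_modJ_of_fibre (hsurj : Function.Surjective (algebraMap A B)) (I : Ideal A)
    (hI : ∀ a ∈ I, algebraMap A B a = 0) (hI' : ∀ a : A, algebraMap A B a = 0 → a ∈ I) (q : ℕ)
    (hq : Subsingleton (Coh.HH X' ((Scheme.Modules.pullback g').obj M) q)) :
    Subsingleton (Coh.HH X (modJ I M) q) := by
  haveI := isClosedImmersion_of_surjective f' g' h hsurj
  haveI := isIso_ubar f' g' h M hsurj I hI hI'
  haveI : ((Scheme.Modules.pullback g').obj M).IsQuasicoherent :=
    Groth.Agent.Lib.Helper2.PullbackSec.isQuasicoherent_pullback g' M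
  have hedge := Groth.Agent.Lib.R2H2.PushModPow.edge_bijective g' q ((Scheme.Modules.pullback g').obj M)
  have hinj : Function.Injective (Hm (ubar f' g' h M I hI) q) := by
    intro x y hxy
    have := congrArg (Hm (inv (ubar f' g' h M I hI)) q) hxy
    rwa [← Hm_comp, ← Hm_comp, IsIso.hom_inv_id, Hm_id, Hm_id] at this
  exact (hedge.1.comp hinj).subsingleton

end Coh

end Groth.Agent.Lib.R2H2.FibreCoh
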