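import Mathlib
import Groth.Agent.Lib.H9Pfb2
import Groth.Agent.Lib.R2H2FibreCoh
import Groth.Agent.Lib.R2H3PnChart

/-! helper9: S2393 part 3: `bijective_app_of_isIso`, `one X`, `Φ`, `Φ_σ`, `tJ_of_fibre` (A → B surjective with kernel I, X' = X ×_A B, B → Γ(X',O) bijective ⇒ TJ (structureModule X) 1 I). -/

set_option autoImplicit false
set_option linter.unusedSectionVars false
universe u

noncomputable section

namespace Groth.Agent.Lib.H9Pfb3

open CategoryTheory CategoryTheory.Limits AlgebraicGeometry TopologicalSpace Opposite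
open Groth.Agent.Lib.R2H2.FlatDev Groth.Agent.Lib.R2H2.SheafBC Groth.Agent.Lib.H9Pfb1
open Groth.Agent.Lib.R2H2.FibreCoh Groth.Agent.Lib.R2H3.PnChart

theorem bijective_app_of_isIso {Y : Scheme.{u}} {M N : Y.Modules} (φ : M ⟶ N) [IsIso φ]
    (U : Y.Opens) : Function.Bijective (φ.app U) := by
  refine Function.bijective_iff_has_inverse.2 ⟨(inv φ).app U, fun x => ?_, fun x => ?_⟩
  · change (φ ≫ inv φ).app U x = x
    rw [IsIso.hom_inv_id]
    rfl
  · change (inv φ ≫ φ).app U x = x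
    rw [IsIso.inv_hom_id]
    rfl

/-- the unit section of the structure module -/
def one (X : Scheme.{u}) : Γ(Coh.structureModule X, ⊤) := (1 : Γ(X, ⊤))

variable {A B : Type u} [CommRing A] [CommRing B] [Algebra A B] {X X' : Scheme.{u}}
  [X.Over (Spec (CommRingCat.of A))] (f' : X' ⟶ Spec (CommRingCat.of B)) (g' : X' ⟶ X)
  (h : IsPullback g' f' (X ↘ Spec (CommRingCat.of A))
    (Spec.map (CommRingCat.ofHom (algebraMap A B))))

/-- the comparison `Γ(X, O/IO) → Γ(X', O)` -/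
def Φ (I : Ideal A) (hI : ∀ a ∈ I, algebraMap A B a = 0)
    (z : Γ(modJ I (Coh.structureModule X), ⊤)) : Γ(X', g' ⁻¹ᵁ ⊤) :=
  (pullbackUnitHom g').app (g' ⁻¹ᵁ ⊤) ((ubar f' g' h (Coh.structureModule X) I hI).app ⊤ z)

theorem Φ_σ (I : Ideal A) (hI : ∀ a ∈ I, algebraMap A B a = 0) (a : A) :
    Φ f' g' h I hI (σ (Coh.structureModule X) (one X) I a) =
      Coh.toGlobal f' (algebraMap A B a) := by
  unfold Φ σ
  have h1 : (ubar f' g' h (Coh.structureModule X) I hI).app ⊤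
      ((πJ I (Coh.structureModule X)).app ⊤
        ((bW (X ↘ Spec (CommRingCat.of A)) ⊤ a : Γ(X, ⊤)) • one X)) =
      (un g' (Coh.structureModule X)).app ⊤
        ((bW (X ↘ Spec (CommRingCat.of A)) ⊤ a : Γ(X, ⊤)) • one X) := by
    change (πJ I (Coh.structureModule X) ≫ ubar f' g' h (Coh.structureModule X) I hI).app ⊤ _ = _
    rw [π_ubar]
  rw [h1]
  have h2 : ((bW (X ↘ Spec (CommRingCat.of A)) ⊤ a : Γ(X, ⊤)) • one X) =
      OmegaSh.strSect X ⊤ (bW (X ↘ Spec (CommRingCat.of A)) ⊤ a) := by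
    change (bW (X ↘ Spec (CommRingCat.of A)) ⊤ a : Γ(X, ⊤)) * (1 : Γ(X, ⊤)) = _
    rw [mul_one]
    rfl
  rw [h2]
  have h3 := pullbackUnitHom_pullSect g' ⊤ (bW (X ↘ Spec (CommRingCat.of A)) ⊤ a)
  refine h3.trans ?_
  rw [toGlobal_algebraMap (X ↘ Spec (CommRingCat.of A)) f' g' h.w]
  change g'.appTop.hom (Coh.resTop X (op ⊤) (Coh.toGlobal (X ↘ Spec (CommRingCat.of A)) a)) = _
  rw [Groth.Agent.Lib.H9NormFin.resTop_top]


include h in
/-- `T(I)` from `B ≃ Γ(X', O)`, `X' = X ×_A B`, `B = A/I` -/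
theorem tJ_of_fibre (hsurj : Function.Surjective (algebraMap A B)) (I : Ideal A)
    (hI : ∀ a ∈ I, algebraMap A B a = 0) (hI' : ∀ a : A, algebraMap A B a = 0 → a ∈ I)
    (hκ : Function.Bijective (Coh.toGlobal f')) :
    TJ (Coh.structureModule X) (one X) I := by
  haveI : (Coh.structureModule X).IsQuasicoherent :=
    Groth.Agent.Lib.Helper23.Serre.isQuasicoherent_structureModule' X
  haveI := isIso_ubar f' g' h (Coh.structureModule X) hsurj I hI hI'
  have hΦ : Function.Injective (Φ f' g' h I hI) := by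
    intro z z' hzz'
    unfold Φ at hzz'
    have h1 := (bijective_app_of_isIso (pullbackUnitHom g') (g' ⁻¹ᵁ ⊤)).1 hzz'
    exact (bijective_app_of_isIso (ubar f' g' h (Coh.structureModule X) I hI) ⊤).1 h1
  constructor
  · intro z
    obtain ⟨b, hb⟩ := hκ.2 (Φ f' g' h I hI z)
    obtain ⟨a, rfl⟩ := hsurj b
    refine ⟨a, hΦ ?_⟩
    rw [Φ_σ]
    exact hb
  · intro a ha
    apply hI'
    apply hκ.1
    rw [← Φ_σ f' g' h I hI a, ha, map_zero]
    unfold Φ
    rw [map_zero]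
    exact map_zero ((pullbackUnitHom g').app (g' ⁻¹ᵁ ⊤)).hom

end Groth.Agent.Lib.H9Pfb3
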