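import Mathlib
import Groth.Prelude.Def_Coh
import Groth.Prelude.Def_DeltaF
import Groth.Prelude.Def_RDerDelta
import Groth.Agent.Lib.R2H2HHLin
import Groth.Agent.Lib.Helper23ModAbBridge
import Groth.Agent.Lib.Helper23AffVanish7
import Groth.Agent.S6773
import Groth.Agent.S6774
import Groth.Agent.S14349
import Groth.Agent.S16463
import Groth.Agent.S16465
import Groth.Agent.S0484
import Groth.Agent.Lib.R2H3LerayDeg
import Groth.Agent.Lib.R2H3RpushQCohGen
import Groth.Agent.Lib.R2H3ModLocBridge
import Groth.Agent.Lib.Helper16Flasque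
import Groth.Agent.Lib.Helper21DerPost

/-!
# Cohomology of `O_X`-modules as derived functors of global sections, linearly (helper2, round 2)

Namespace `Groth.Agent.Lib.R2H2.GammaDer`.

* `HF X n : X.Modules ⥤ ModuleCat Γ(X, O_X)`, `M ↦ H^n(X, M)` (the prelude's `Coh.HH` with its module structure);
  `HΔ X` the cohomological `δ`-functor (prelude `DeltaF.CohDeltaFunctor`), `HΔ_isEffaceable`, `HΔ_isUniversal`.
* `ΓF X : X.Modules ⥤ ModuleCat Γ(X, O_X)` global sections; `e0 : (HΔ X).F 0 ≅ ΓF X`.
* `nonempty_rightDerived_ΓF_iso`: `R^n Γ(X, -) (M) ≅ H^n(X, M)` as modules over `Γ(X, O_X)`.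
* `topHom f`, `pushΓIso f : f_* ⋙ ΓF S ≅ ΓF X ⋙ restrictScalars`.
* `nonempty_sections_Rpush_iso`: for `f : X ⟶ S` qcqs, `S` affine, `M` quasi-coherent,
  `Γ(S, R^n f_* M) ≅ H^n(X, M)` as modules over `Γ(S, O_S)`.
-/

set_option autoImplicit false
universe u
open CategoryTheory CategoryTheory.Limits Opposite TopologicalSpace Abelian AlgebraicGeometry

namespace Groth.Agent.Lib.R2H2.GammaDer

open Groth.Agent.Lib.R2H2.HHLin Groth.Agent.Lib.Helper23.QCohLocal Groth.Agent.Lib.Helper23.AffVanish
  Groth.Agent.Lib.R2H3.LerayDeg Groth.Agent.Lib.Helper21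

section A



variable (X : Scheme.{u})

/-- cohomology in degree `n` as a functor to modules over the global functions -/
noncomputable def HF (n : ℕ) : X.Modules ⥤ ModuleCat.{u} (Coh.Γtop X) where
  obj M := ModuleCat.of (Coh.Γtop X) (Coh.HH X M n)
  map φ := ModuleCat.ofHom (HmapL φ n)
  map_id M := by
    apply ModuleCat.hom_ext
    apply LinearMap.ext
    intro x
    exact HmapL_id M n x
  map_comp φ ψ := by
    apply ModuleCat.hom_ext
    apply LinearMap.ext
    intro x
    exact HmapL_comp φ ψ n x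

instance (n : ℕ) : (HF X n).Additive where
  map_add {M N φ ψ} := by
    apply ModuleCat.hom_ext
    apply LinearMap.ext
    intro x
    exact HmapL_add φ ψ n x

lemma HF_map_apply {M N : X.Modules} (φ : M ⟶ N) (n : ℕ) (x : Coh.HH X M n) :
    ((HF X n).map φ).hom x = Sheaf.H.map (abMap φ) n x := rfl

/-- the connecting morphisms -/
noncomputable def HFδ (S : ShortComplex X.Modules) (hS : S.ShortExact) (n₀ n₁ : ℕ) (h : n₀ + 1 = n₁) :
    (HF X n₀).obj S.X₃ ⟶ (HF X n₁).obj S.X₁ :=
  ModuleCat.ofHom ((LinearEquiv.cast (R := Coh.Γtop X) (M := fun k => Coh.HH X S.X₁ k) h).toLinearMap.comp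
    (deltaL S hS n₀))

lemma HFδ_apply (S : ShortComplex X.Modules) (hS : S.ShortExact) (n₀ : ℕ) (x : Coh.HH X S.X₃ n₀) :
    (HFδ X S hS n₀ (n₀ + 1) rfl).hom x = x.comp (shortExact_toAbF S hS).extClass rfl := rfl

/-- the `δ`-functor of cohomology of `O_X`-modules, with values in modules over the global functions -/
noncomputable def HΔ : DeltaF.CohDeltaFunctor X.Modules (ModuleCat.{u} (Coh.Γtop X)) ℕ where
  F n := HF X n
  additive n := inferInstance
  δ := HFδ X
  δ_natural {S S'} hS hS' φ n₀ n₁ h := by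
    subst h
    apply ModuleCat.hom_ext
    apply LinearMap.ext
    intro (x : Coh.HH X S.X₃ n₀)
    change (x.comp (Ext.mk₀ (abMap φ.τ₃)) (add_zero n₀)).comp
        (shortExact_toAbF S' hS').extClass rfl =
      (x.comp (shortExact_toAbF S hS).extClass rfl).comp (Ext.mk₀ (abMap φ.τ₁))
        (add_zero (n₀ + 1))
    have hn := ShortComplex.ShortExact.extClass_naturality (shortExact_toAbF S hS)
      (shortExact_toAbF S' hS') ((toAbF X).mapShortComplex.map φ)
    rw [Ext.comp_assoc _ _ _ (add_zero n₀) (zero_add 1) (by omega),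
      Ext.comp_assoc _ _ _ rfl (add_zero 1) (by omega)]
    congr 1
    exact hn.symm
  exact₂ S hS n := by
    rw [ShortComplex.moduleCat_exact_iff]
    intro x₂ hx₂
    exact exact₂ S hS n x₂ hx₂
  comp_δ S hS n₀ n₁ h := by
    subst h
    apply ModuleCat.hom_ext
    apply LinearMap.ext
    intro (x : Coh.HH X S.X₂ n₀)
    change (x.comp (Ext.mk₀ (abMap S.g)) (add_zero n₀)).comp
        (shortExact_toAbF S hS).extClass rfl = 0
    rw [Ext.comp_assoc _ _ _ (add_zero n₀) (zero_add 1) (by omega)]
    have := (shortExact_toAbF S hS).comp_extClass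
    erw [this, Ext.comp_zero]
  exact₃ S hS n₀ n₁ h := by
    subst h
    rw [ShortComplex.moduleCat_exact_iff]
    intro x₃ hx₃
    exact exact₃ S hS n₀ x₃ hx₃
  δ_comp S hS n₀ n₁ h := by
    subst h
    apply ModuleCat.hom_ext
    apply LinearMap.ext
    intro (x : Coh.HH X S.X₃ n₀)
    change (x.comp (shortExact_toAbF S hS).extClass rfl).comp (Ext.mk₀ (abMap S.f))
        (add_zero (n₀ + 1)) = 0
    rw [Ext.comp_assoc _ _ _ rfl (add_zero 1) (by omega)]
    have := (shortExact_toAbF S hS).extClass_comp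
    erw [this, Ext.comp_zero]
  exact₁ S hS n₀ n₁ h := by
    subst h
    rw [ShortComplex.moduleCat_exact_iff]
    intro x₁ hx₁
    exact exact₁ S hS n₀ x₁ hx₁





instance enoughInjectives : EnoughInjectives X.Modules := by
  have := Groth.Agent.S0484.result (Opens.grothendieckTopology X) X.ringCatSheaf
  exact inferInstanceAs (EnoughInjectives (SheafOfModules.{u} X.ringCatSheaf))

theorem subsingleton_HH_of_injective (I : X.Modules) [Injective I] (n : ℕ) :
    Subsingleton (Coh.HH X I (n + 1)) := by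
  haveI := Groth.Agent.Lib.Helper23.ModAbBridge.subsingleton_HE_of_injective I ⊤ n
  exact (HETopEquivH X.carrier (Coh.toAb I) (n + 1)).symm.subsingleton

theorem HΔ_isEffaceable : (HΔ X).IsEffaceable := by
  rw [Groth.Agent.S14349.result]
  intro n I hI
  haveI h : Subsingleton ↑(((HΔ X).F (n + 1)).obj I) := subsingleton_HH_of_injective X I n
  exact ModuleCat.isZero_of_subsingleton _

theorem HΔ_isUniversal : (HΔ X).IsUniversal :=
  Groth.Agent.S6773.result _ (HΔ_isEffaceable X)

/-- global sections, as modules over the global functions -/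
noncomputable def ΓF : X.Modules ⥤ ModuleCat.{u} (Coh.Γtop X) :=
  SheafOfModules.evaluation X.ringCatSheaf (op ⊤)

instance : (ΓF X).Additive :=
  inferInstanceAs (SheafOfModules.forget X.ringCatSheaf ⋙
    PresheafOfModules.evaluation X.ringCatSheaf.obj (op ⊤)).Additive

instance : PreservesFiniteLimits (ΓF X) :=
  inferInstanceAs (PreservesFiniteLimits (SheafOfModules.evaluation X.ringCatSheaf (op ⊤)))

lemma resTop_top (r : Coh.Γtop X) : Coh.resTop X (op ⊤) r = r := by
  change (X.ringCatSheaf.obj.map (𝟙 (op ⊤))).hom r = r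
  rw [X.ringCatSheaf.obj.map_id]
  rfl

/-- degree zero cohomology is global sections, linearly -/
noncomputable def e0Lin (M : X.Modules) : Coh.HH X M 0 ≃ₗ[Coh.Γtop X] ((ΓF X).obj M) where
  toFun := Sheaf.H.equiv₀ (Coh.toAb M) isTerminalTop
  map_add' := map_add _
  map_smul' r x := by
    have h := Sheaf.H.equiv₀_naturality (T := (⊤ : X.Opens)) isTerminalTop (Coh.smulAb M r) x
    change Sheaf.H.equiv₀ (Coh.toAb M) isTerminalTop (Sheaf.H.map (Coh.smulAb M r) 0 x) = _
    rw [← h]
    erw [Coh.smulAb_app]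
    rw [resTop_top]
    rfl
  invFun := (Sheaf.H.equiv₀ (Coh.toAb M) isTerminalTop).symm
  left_inv := (Sheaf.H.equiv₀ (Coh.toAb M) isTerminalTop).left_inv
  right_inv := (Sheaf.H.equiv₀ (Coh.toAb M) isTerminalTop).right_inv

/-- the degree zero part of the cohomology `δ`-functor is the global sections functor -/
noncomputable def e0 : (HΔ X).F 0 ≅ ΓF X :=
  NatIso.ofComponents (fun M => (e0Lin X M).toModuleIso) (by
    intro M N φ
    apply ModuleCat.hom_ext
    apply LinearMap.ext
    intro (x : Coh.HH X M 0)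
    exact (Sheaf.H.equiv₀_naturality (T := (⊤ : X.Opens)) isTerminalTop (abMap φ) x).symm)

/-- the right derived functors of the global sections functor (with values in modules over the global
functions) are the cohomology modules -/
theorem nonempty_rightDerived_ΓF_iso (M : X.Modules) (n : ℕ) :
    Nonempty (((ΓF X).rightDerived n).obj M ≅ ModuleCat.of (Coh.Γtop X) (Coh.HH X M n)) := by
  obtain ⟨Δ⟩ := Groth.Agent.S16463.result (ΓF X)
  have hU := Groth.Agent.S16465.result (ΓF X) Δ
  let e : (HΔ X).F 0 ≅ Δ.toCohDeltaFunctor.F 0 :=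
    e0 X ≪≫ (Functor.rightDerivedZeroIsoSelf (ΓF X)).symm
  obtain ⟨φ, -, -⟩ := Groth.Agent.S6774.result (HΔ X) Δ.toCohDeltaFunctor (HΔ_isUniversal X) hU e
  refine ⟨{ hom := (φ.inv.app n).app M, inv := (φ.hom.app n).app M, hom_inv_id := ?_, inv_hom_id := ?_ }⟩
  · have h := congrArg (fun t => (DeltaF.CohDeltaFunctor.Hom.app t n).app M) φ.inv_hom_id
    exact h
  · have h := congrArg (fun t => (DeltaF.CohDeltaFunctor.Hom.app t n).app M) φ.hom_inv_id
    exact h


end A

section B



variable {X S : Scheme.{u}} (f : X ⟶ S)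

/-- the ring map on global functions -/
noncomputable def topHom : Coh.Γtop S →+* Coh.Γtop X := (f.toRingCatSheafHom.hom.app (op ⊤)).hom

lemma topHom_apply (r : Coh.Γtop S) : topHom f r = f.appTop.hom r := rfl

/-- global sections of the pushforward -/
noncomputable def pushΓIso :
    Scheme.Modules.pushforward f ⋙ ΓF S ≅ ΓF X ⋙ ModuleCat.restrictScalars (topHom f) :=
  Iso.refl _

theorem isZero_rightDerived_ΓF_of_subsingleton (N : S.Modules) (n : ℕ)
    (h : Subsingleton (Coh.HH S N n)) : IsZero (((ΓF S).rightDerived n).obj N) := by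
  obtain ⟨e⟩ := nonempty_rightDerived_ΓF_iso S N n
  haveI : Subsingleton ↑(ModuleCat.of (Coh.Γtop S) (Coh.HH S N n)) := h
  exact IsZero.of_iso (ModuleCat.isZero_of_subsingleton _) e

theorem gAcyc_push_of_injective (I : X.Modules) [Injective I] :
    GAcyc (ΓF S) ((Scheme.Modules.pushforward f).obj I) := by
  intro p
  apply isZero_rightDerived_ΓF_of_subsingleton
  haveI : TopCat.Sheaf.IsFlasque (Coh.toAb I) :=
    Groth.Agent.Lib.R2H3.ModLocBridge.isFlasque_toAb_of_injective I
  haveI : TopCat.Sheaf.IsFlasque (Coh.toAb ((Scheme.Modules.pushforward f).obj I)) :=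
    TopCat.Sheaf.IsFlasque.pushforward_isFlasque (Coh.toAb I) f.base
  exact Groth.Agent.Lib.Helper16.Flasque.H_subsingleton _ p

theorem gAcyc_of_isQuasicoherent [IsAffine S] (N : S.Modules) [N.IsQuasicoherent] :
    GAcyc (ΓF S) N := by
  intro p
  apply isZero_rightDerived_ΓF_of_subsingleton
  exact subsingleton_HH N (p + 1) (Nat.succ_pos p)

/-- **Cohomology and higher direct images over an affine base**: for `f : X ⟶ S` quasi-compact and
quasi-separated, `S` affine and `M` quasi-coherent, the global sections of `R^n f_* M` are `H^n(X, M)`, as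
modules over `Γ(S, O_S)`. -/
theorem nonempty_sections_Rpush_iso [QuasiCompact f] [QuasiSeparated f] [IsAffine S]
    [HasInjectiveResolutions X.Modules] (M : X.Modules) [M.IsQuasicoherent] (n : ℕ) :
    Nonempty ((ΓF S).obj ((Coh.Rpush f n).obj M) ≅
      (ModuleCat.restrictScalars (topHom f)).obj (ModuleCat.of (Coh.Γtop X) (Coh.HH X M n))) := by
  have hI : ∀ I : X.Modules, Injective I → GAcyc (ΓF S) ((Scheme.Modules.pushforward f).obj I) :=
    fun I hI => gAcyc_push_of_injective f I
  have hX : ∀ b : ℕ, GAcyc (ΓF S) (((Scheme.Modules.pushforward f).rightDerived b).obj M) := by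
    intro b
    haveI : ((Coh.Rpush f b).obj M).IsQuasicoherent :=
      Groth.Agent.Lib.R2H3.RpushQCohGen.isQuasicoherent_Rpush_of_qcqs f M b
    exact gAcyc_of_isQuasicoherent ((Coh.Rpush f b).obj M)
  obtain ⟨e1⟩ := nonempty_rightDerived_comp_iso_of_acyclic (G := ΓF S)
    (Scheme.Modules.pushforward f) hI M hX n
  let e2 := (DerPost.natIsoRightDerived (pushΓIso f) n).app M
  haveI : (ModuleCat.restrictScalars.{u} (topHom f)).PreservesHomology :=
    Functor.preservesHomology_of_preservesMonos_and_cokernels _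
  let e3 := (DerPost.postIso (ΓF X) (ModuleCat.restrictScalars (topHom f)) n).app M
  obtain ⟨e4⟩ := nonempty_rightDerived_ΓF_iso X M n
  exact ⟨e1.symm ≪≫ e2 ≪≫ e3 ≪≫ (ModuleCat.restrictScalars (topHom f)).mapIso e4⟩


end B

end Groth.Agent.Lib.R2H2.GammaDer
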