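import Mathlib
import Groth.Agent.Lib.R2H2SheafBC
import Groth.Agent.Lib.R2H2GammaDer
import Groth.Agent.Lib.R2H3RpushRestrict
import Groth.Agent.Lib.Helper2FlatOver
import Groth.Agent.S0002
import Groth.Agent.S0059
import Groth.Prelude.Def_FlatMod2
import Groth.Prelude.Def_Formal

/-!
# Stalks of higher direct images and base change to the local ring (helper2, round 2)

Namespace `Groth.Agent.Lib.R2H2.StalkBC`.

* `sV f V : f⁻¹V ⟶ Spec Γ(Y, V)`, `isPullback_sV`, `g₁` (lift of `g : X₁ ⟶ X` to `f⁻¹V` for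
  `X₁ = X ×_Y Spec O_{Y,y}`), `isPullback_g₁`.
* `j₁`, `j₁_smul`, `toGlobal_sV`.
* `exists_sections_equiv`: `Γ(V, R^p f_* F) ≃ H^p(f⁻¹V, F)` linearly over `Γ(Y, V)` (`V` affine, `f` qcqs, `F` qcoh).
* `nonempty_tensor_equiv_stalk`: `O_{Y,y} ⊗_{Γ(Y,V)} H^p(f⁻¹V, F) ≃ₗ (R^p f_* F)_y`.
* `HHequivOfIso`, `pullRestrictIso`.
* `main`: the statement of S4467 (stalk of `R^p f_* F` finite, its completion is `lim H^p(X₁, F₁/m^k F₁)`).
-/

set_option autoImplicit false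
universe u
open CategoryTheory CategoryTheory.Limits Opposite TopologicalSpace Abelian AlgebraicGeometry TensorProduct

namespace Groth.Agent.Lib.R2H2.StalkBC

open Groth.Agent.Lib.R2H2.GammaDer Groth.Agent.Lib.Helper2.FlatOver Groth.Agent.Lib.R2H2.HHLin


section Geom

variable {X Y : Scheme.{u}} (f : X ⟶ Y) {V : Y.Opens} (hV : IsAffineOpen V)

/-- the structure morphism of `f⁻¹V` over `Spec Γ(Y, V)` -/
noncomputable def sV (V : Y.Opens) : (f ⁻¹ᵁ V).toScheme ⟶ Spec (CommRingCat.of Γ(Y, V)) :=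
  f ∣_ V ≫ V.toSpecΓ

include hV in
lemma isPullback_sV : IsPullback (f ⁻¹ᵁ V).ι (sV f V) f hV.fromSpec := by
  refine (isPullback_morphismRestrict f V).flip.of_iso (Iso.refl _) (Iso.refl _) hV.isoSpec (Iso.refl _)
    ?_ ?_ ?_ ?_
  · simp
  · simp [sV, IsAffineOpen.isoSpec_hom]
  · simp
  · simp

variable {y : Y} (hyV : y ∈ V)

lemma fromSpecStalk_eq :
    Y.fromSpecStalk y = Spec.map (Y.presheaf.germ V y hyV) ≫ hV.fromSpec :=
  (hV.fromSpecStalk_eq_fromSpecStalk hyV).symm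

variable {X₁ : Scheme.{u}} (g : X₁ ⟶ X) (π : X₁ ⟶ Spec (CommRingCat.of (Y.presheaf.stalk y)))
  (hsq : IsPullback g π f (Y.fromSpecStalk y))

include hsq in
lemma cone_w : g ≫ f = (π ≫ Spec.map (Y.presheaf.germ V y hyV)) ≫ hV.fromSpec := by
  rw [hsq.w, fromSpecStalk_eq hV hyV, Category.assoc]

/-- the lift of `g` to `f⁻¹V` -/
noncomputable def g₁ : X₁ ⟶ (f ⁻¹ᵁ V).toScheme :=
  (isPullback_sV f hV).lift g (π ≫ Spec.map (Y.presheaf.germ V y hyV)) (cone_w f hV hyV g π hsq)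

lemma g₁_ι : g₁ f hV hyV g π hsq ≫ (f ⁻¹ᵁ V).ι = g := (isPullback_sV f hV).lift_fst _ _ _

lemma g₁_sV : g₁ f hV hyV g π hsq ≫ sV f V = π ≫ Spec.map (Y.presheaf.germ V y hyV) :=
  (isPullback_sV f hV).lift_snd _ _ _

lemma isPullback_g₁ :
    IsPullback (g₁ f hV hyV g π hsq) π (sV f V) (Spec.map (Y.presheaf.germ V y hyV)) := by
  refine IsPullback.of_right ?_ (g₁_sV f hV hyV g π hsq) (isPullback_sV f hV)
  rw [g₁_ι, ← fromSpecStalk_eq hV hyV]
  exact hsq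

end Geom




section Mod

variable {Y : Scheme.{u}} (N : Y.Modules) (V : Y.Opens)

/-- sections over `V` as global sections of the restriction -/
noncomputable def j₁ : Γ(N, V) ≃+ ((ΓF V.toScheme).obj (N.restrict V.ι)) :=
  (N.presheaf.mapIso (eqToIso V.ι_image_top).op).addCommGroupIsoToAddEquiv

lemma j₁_smul (a : Γ(Y, V)) (m : Γ(N, V)) :
    j₁ N V (a • m) = (show Coh.Γtop V.toScheme from V.topIso.inv a) • j₁ N V m := by
  change N.presheaf.map (eqToHom V.ι_image_top).op (a • m) = _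
  rw [Scheme.Modules.map_smul]
  have h : ∀ (r : Coh.Γtop V.toScheme) (x : ((ΓF V.toScheme).obj (N.restrict V.ι))),
      r • x = (show Γ(Y, V.ι ''ᵁ ⊤) from (V.ι.appIso ⊤).inv.hom r) •
        (show Γ(N, V.ι ''ᵁ ⊤) from x) := fun r x => rfl
  rw [h]
  have h2 : (V.ι.appIso ⊤).inv.hom (V.topIso.inv a) = Y.presheaf.map (eqToHom V.ι_image_top).op a := by
    rw [Scheme.Opens.ι_appIso]
    rfl
  erw [h2]
  rfl

end Mod

section Ring

variable {X Y : Scheme.{u}} (f : X ⟶ Y) (V : Y.Opens)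

lemma toGlobal_sV (a : Γ(Y, V)) :
    Coh.toGlobal (sV f V) a = topHom (f ∣_ V) (show Coh.Γtop V.toScheme from V.topIso.inv a) := by
  change (sV f V).appTop.hom ((Scheme.ΓSpecIso (CommRingCat.of Γ(Y, V))).inv.hom a) =
    (f ∣_ V).appTop.hom (V.topIso.inv.hom a)
  have h1 : (sV f V).appTop = V.toSpecΓ.appTop ≫ (f ∣_ V).appTop := Scheme.Hom.comp_appTop _ _
  have h2 := Scheme.Opens.toSpecΓ_appTop V
  have h3 : (Scheme.ΓSpecIso (CommRingCat.of Γ(Y, V))).inv ≫ (sV f V).appTop =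
      V.topIso.inv ≫ (f ∣_ V).appTop := by
    rw [h1, h2, Category.assoc]
    exact Iso.inv_hom_id_assoc (Scheme.ΓSpecIso Γ(Y, V)) _
  exact congrArg (fun t => t.hom a) h3

end Ring

section Psi

variable {X Y : Scheme.{u}} (f : X ⟶ Y) [QuasiCompact f] [QuasiSeparated f]
  [HasInjectiveResolutions X.Modules] (F : X.Modules) [F.IsQuasicoherent] (p : ℕ)
  {V : Y.Opens} (hV : IsAffineOpen V)

include hV in
/-- sections of `R^p f_* F` over an affine open `V` are `H^p(f⁻¹V, F)`, linearly over `Γ(Y, V)` -/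
theorem exists_sections_equiv :
    letI : (f ⁻¹ᵁ V).toScheme.Over (Spec (CommRingCat.of Γ(Y, V))) := ⟨sV f V⟩
    ∃ ψ : Γ((Coh.Rpush f p).obj F, V) ≃+ Coh.HH (f ⁻¹ᵁ V).toScheme (F.restrict (f ⁻¹ᵁ V).ι) p,
      ∀ (a : Γ(Y, V)) (m : Γ((Coh.Rpush f p).obj F, V)), ψ (a • m) = a • ψ m := by
  letI : (f ⁻¹ᵁ V).toScheme.Over (Spec (CommRingCat.of Γ(Y, V))) := ⟨sV f V⟩
  haveI := Groth.Agent.Lib.R2H3.RpushRestrict.hasInjectiveResolutions_modules (f ⁻¹ᵁ V).toScheme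
  obtain ⟨e2⟩ := Groth.Agent.Lib.R2H3.RpushRestrict.nonempty_Rpush_restrict_iso f V F p
  haveI : IsAffine V.toScheme := hV
  haveI : QuasiCompact (f ∣_ V) :=
    MorphismProperty.of_isPullback (isPullback_morphismRestrict f V).flip inferInstance
  haveI : QuasiSeparated (f ∣_ V) :=
    MorphismProperty.of_isPullback (isPullback_morphismRestrict f V).flip inferInstance
  haveI : (F.restrict (f ⁻¹ᵁ V).ι).IsQuasicoherent := inferInstance
  obtain ⟨e3⟩ := nonempty_sections_Rpush_iso (f ∣_ V) (F.restrict (f ⁻¹ᵁ V).ι) p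
  let L := ((ΓF V.toScheme).mapIso e2 ≪≫ e3).toLinearEquiv
  refine ⟨(j₁ _ V).trans L.toAddEquiv, fun a m => ?_⟩
  change L (j₁ _ V (a • m)) = _
  rw [j₁_smul, map_smul]
  change topHom (f ∣_ V) (show Coh.Γtop V.toScheme from V.topIso.inv a) •
    (show Coh.HH (f ⁻¹ᵁ V).toScheme (F.restrict (f ⁻¹ᵁ V).ι) p from L (j₁ _ V m)) =
    Coh.toGlobal (sV f V) a •
      (show Coh.HH (f ⁻¹ᵁ V).toScheme (F.restrict (f ⁻¹ᵁ V).ι) p from L (j₁ _ V m))
  rw [toGlobal_sV]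

end Psi




section Stalk

variable {X Y : Scheme.{u}} (f : X ⟶ Y) [QuasiCompact f] [QuasiSeparated f]
  [HasInjectiveResolutions X.Modules] (F : X.Modules) [F.IsQuasicoherent] (p : ℕ)
  {V : Y.Opens} (hV : IsAffineOpen V) {y : Y} (hyV : y ∈ V)

include hV in
/-- the stalk of `R^p f_* F` at `y` is the base change of `H^p(f⁻¹V, F)` to the local ring -/
theorem nonempty_tensor_equiv_stalk :
    letI : (f ⁻¹ᵁ V).toScheme.Over (Spec (CommRingCat.of Γ(Y, V))) := ⟨sV f V⟩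
    letI : Algebra Γ(Y, V) (Y.presheaf.stalk y) := (Y.presheaf.germ V y hyV).hom.toAlgebra
    Nonempty ((Y.presheaf.stalk y) ⊗[Γ(Y, V)]
        Coh.HH (f ⁻¹ᵁ V).toScheme (F.restrict (f ⁻¹ᵁ V).ι) p ≃ₗ[Y.presheaf.stalk y]
      ((Coh.Rpush f p).obj F).presheaf.stalk y) := by
  letI : (f ⁻¹ᵁ V).toScheme.Over (Spec (CommRingCat.of Γ(Y, V))) := ⟨sV f V⟩
  letI : Algebra Γ(Y, V) (Y.presheaf.stalk y) := (Y.presheaf.germ V y hyV).hom.toAlgebra
  obtain ⟨ψ, hψ⟩ := exists_sections_equiv f F p hV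
  haveI : ((Coh.Rpush f p).obj F).IsQuasicoherent :=
    Groth.Agent.Lib.R2H3.RpushQCohGen.isQuasicoherent_Rpush_of_qcqs f F p
  letI := moduleStalkSections ((Coh.Rpush f p).obj F) V y hyV
  haveI hloc := isLocalizedModule_germ hV ((Coh.Rpush f p).obj F) y hyV
  let ψL : Γ((Coh.Rpush f p).obj F, V) ≃ₗ[Γ(Y, V)]
      Coh.HH (f ⁻¹ᵁ V).toScheme (F.restrict (f ⁻¹ᵁ V).ι) p :=
    { ψ with map_smul' := fun a m => hψ a m }
  haveI : IsScalarTower Γ(Y, V) (Y.presheaf.stalk y) (((Coh.Rpush f p).obj F).presheaf.stalk y) :=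
    IsScalarTower.of_algebraMap_smul (fun r x => rfl)
  haveI : IsLocalization.AtPrime (Y.presheaf.stalk y) (hV.primeIdealOf ⟨y, hyV⟩).asIdeal :=
    hV.isLocalization_stalk ⟨y, hyV⟩
  haveI : IsLocalizedModule (hV.primeIdealOf ⟨y, hyV⟩).asIdeal.primeCompl
      ((germₗ ((Coh.Rpush f p).obj F) V y hyV).comp ψL.symm.toLinearMap) :=
    IsLocalizedModule.of_linearEquiv_right _ _ ψL.symm
  exact ⟨(IsLocalizedModule.isBaseChange (hV.primeIdealOf ⟨y, hyV⟩).asIdeal.primeCompl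
    (Y.presheaf.stalk y) ((germₗ ((Coh.Rpush f p).obj F) V y hyV).comp ψL.symm.toLinearMap)).equiv⟩

end Stalk




section Iso

variable (B : Type u) [CommRing B] {X₁ : Scheme.{u}} [X₁.Over (Spec (CommRingCat.of B))]

/-- an isomorphism of modules induces a linear equivalence on cohomology -/
noncomputable def HHequivOfIso {M N : X₁.Modules} (θ : M ≅ N) (p : ℕ) :
    Coh.HH X₁ M p ≃ₗ[B] Coh.HH X₁ N p where
  toFun := HmapA B θ.hom p
  map_add' := map_add _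
  map_smul' := map_smul _
  invFun := HmapA B θ.inv p
  left_inv x := by
    change HmapL θ.inv p (HmapL θ.hom p x) = x
    rw [← HmapL_comp, θ.hom_inv_id, HmapL_id]
  right_inv x := by
    change HmapL θ.hom p (HmapL θ.inv p x) = x
    rw [← HmapL_comp, θ.inv_hom_id, HmapL_id]

end Iso

section Pull

variable {X X₁ : Scheme.{u}} (W : X.Opens) (g₁ : X₁ ⟶ W.toScheme) (g : X₁ ⟶ X) (hg : g₁ ≫ W.ι = g)
  (F : X.Modules)

/-- pulling back the restriction along the lift is pulling back -/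
noncomputable def pullRestrictIso :
    (Scheme.Modules.pullback g₁).obj (F.restrict W.ι) ≅ (Scheme.Modules.pullback g).obj F :=
  (Scheme.Modules.pullback g₁).mapIso ((Scheme.Modules.restrictFunctorIsoPullback W.ι).app F) ≪≫
    (Scheme.Modules.pullbackComp g₁ W.ι).app F ≪≫
    (Scheme.Modules.pullbackCongr hg).app F

end Pull

section Main

open Groth.Agent.Lib.R2H2.SheafBC

theorem main {X Y : Scheme.{u}} (f : X ⟶ Y)
    [IsProper f] [IsLocallyNoetherian Y] [CategoryTheory.HasInjectiveResolutions X.Modules]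
    (F : X.Modules) (hF : Coh.IsCoh F) (y : Y) (p : ℕ)
    (X₁ : Scheme.{u}) [X₁.Over (Spec (CommRingCat.of (Y.presheaf.stalk y)))] (g : X₁ ⟶ X)
    (hsq : IsPullback g (X₁ ↘ Spec (CommRingCat.of (Y.presheaf.stalk y))) f (Y.fromSpecStalk y)) :
    Module.Finite (Y.presheaf.stalk y) (((Coh.Rpush f p).obj F).presheaf.stalk y) ∧
    Nonempty (AdicCompletion (IsLocalRing.maximalIdeal (Y.presheaf.stalk y))
        (((Coh.Rpush f p).obj F).presheaf.stalk y) ≃+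
      Formal.HHlim (IsLocalRing.maximalIdeal (Y.presheaf.stalk y)) ((Scheme.Modules.pullback g).obj F) p) := by
  haveI : F.IsQuasicoherent := hF.1
  haveI : SheafOfModules.IsFiniteType (R := X.ringCatSheaf) F := hF.2
  obtain ⟨V, hV, hyV⟩ : ∃ V : Y.Opens, IsAffineOpen V ∧ y ∈ V := by
    obtain ⟨_, ⟨V, hV, rfl⟩, hyV, -⟩ := Y.isBasis_affineOpens.exists_subset_of_mem_open
      (Set.mem_univ y) isOpen_univ
    exact ⟨V, hV, hyV⟩
  letI : (f ⁻¹ᵁ V).toScheme.Over (Spec (CommRingCat.of Γ(Y, V))) := ⟨sV f V⟩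
  letI : Algebra Γ(Y, V) (Y.presheaf.stalk y) := (Y.presheaf.germ V y hyV).hom.toAlgebra
  obtain ⟨e₁⟩ := nonempty_tensor_equiv_stalk f F p hV hyV
  -- flatness
  haveI : IsLocalization.AtPrime (Y.presheaf.stalk y) (hV.primeIdealOf ⟨y, hyV⟩).asIdeal :=
    hV.isLocalization_stalk ⟨y, hyV⟩
  haveI : Module.Flat Γ(Y, V) (Y.presheaf.stalk y) :=
    IsLocalization.flat _ (hV.primeIdealOf ⟨y, hyV⟩).asIdeal.primeCompl
  -- topology of `f⁻¹V`
  haveI : IsAffine V.toScheme := hV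
  haveI : QuasiCompact (f ∣_ V) :=
    MorphismProperty.of_isPullback (isPullback_morphismRestrict f V).flip inferInstance
  haveI : QuasiSeparated (f ∣_ V) :=
    MorphismProperty.of_isPullback (isPullback_morphismRestrict f V).flip inferInstance
  haveI : CompactSpace (f ⁻¹ᵁ V).toScheme := QuasiCompact.compactSpace_of_compactSpace (f ∣_ V)
  haveI : QuasiSeparatedSpace (f ⁻¹ᵁ V).toScheme := quasiSeparatedSpace_of_quasiSeparated (f ∣_ V)
  haveI : (F.restrict (f ⁻¹ᵁ V).ι).IsQuasicoherent := inferInstance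
  -- the cartesian square
  have hpb := isPullback_g₁ f hV hyV g (X₁ ↘ Spec (CommRingCat.of (Y.presheaf.stalk y))) hsq
  let e₂ := flatBaseChangeEquiv Γ(Y, V) (Y.presheaf.stalk y) (f ⁻¹ᵁ V).toScheme X₁
    (g₁ f hV hyV g (X₁ ↘ Spec (CommRingCat.of (Y.presheaf.stalk y))) hsq) hpb
    (F.restrict (f ⁻¹ᵁ V).ι) p
  let θ := pullRestrictIso (f ⁻¹ᵁ V) (g₁ f hV hyV g (X₁ ↘ Spec (CommRingCat.of (Y.presheaf.stalk y))) hsq)
    g (g₁_ι f hV hyV g _ hsq) F
  let e₃ := HHequivOfIso (Y.presheaf.stalk y) θ p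
  let e : Coh.HH X₁ ((Scheme.Modules.pullback g).obj F) p ≃ₗ[Y.presheaf.stalk y]
      ((Coh.Rpush f p).obj F).presheaf.stalk y := e₃.symm ≪≫ₗ e₂.symm ≪≫ₗ e₁
  -- finiteness and formal functions on `X₁`
  haveI : IsProper (X₁ ↘ Spec (CommRingCat.of (Y.presheaf.stalk y))) :=
    MorphismProperty.of_isPullback hsq inferInstance
  have hcoh : Coh.IsCoh ((Scheme.Modules.pullback g).obj F) :=
    ⟨Groth.Agent.Lib.Helper2.PullbackSec.isQuasicoherent_pullback g F,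
      Groth.Agent.Lib.Helper20.FormalPull.isFiniteType_pullback g F⟩
  haveI hfin := Groth.Agent.S0002.result (Y.presheaf.stalk y) X₁ _ hcoh p
  refine ⟨Module.Finite.equiv e, ?_⟩
  obtain ⟨e₅⟩ := Groth.Agent.S0059.result (Y.presheaf.stalk y)
    (IsLocalRing.maximalIdeal (Y.presheaf.stalk y)) X₁ _ hcoh p
  exact ⟨(AdicCompletion.congr (IsLocalRing.maximalIdeal (Y.presheaf.stalk y))
    e.symm).toAddEquiv.trans e₅⟩

end Main


end Groth.Agent.Lib.R2H2.StalkBC
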