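import Groth.Agent.Lib.R2H2DevJ
set_option backward.isDefEq.respectTransparency.types false

/-!
# Dévissage of coherent modules, part K: isomorphisms over opens (helper2, round 2)

* `isZero_restrict_of_support`, `isIso_restrict_of_support` : a map whose kernel and cokernel have
  support disjoint from `D` is an isomorphism over `D`; `support_kernel_cokernel_of_isIso_restrict`
  (converse); `isIso_restrict_of_le`.
* `exists_isIso_restrict_of_stalk` : a map of coherent modules which is bijective on the stalk at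
  `ξ` is an isomorphism over an open neighbourhood of `ξ`.
* `powMap φ r : pow A r ⟶ pow B r`, monomorphic / isomorphic over `D` when `φ` is.
* `powMap_comp_eq_zero`.
* `isZero_idealMul_of_killed`, `idealMulι_comp_eq_zero`.
-/

set_option autoImplicit false
set_option linter.style.haveILetI false
universe u

open CategoryTheory CategoryTheory.Limits AlgebraicGeometry TopologicalSpace

namespace Groth.Agent.Lib.R2H2.DevK

open Groth.Agent.Lib.R2H2.StalkPow Groth.Agent.Lib.R2H2.DevA Groth.Agent.Lib.R2H2.NilFilt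

variable {X : Scheme.{u}}

theorem isZero_restrict_of_support (D : X.Opens) (M : X.Modules)
    (h : ∀ x ∈ D, x ∉ CohB1.support M) :
    IsZero ((Scheme.Modules.restrictFunctor D.ι).obj M) := by
  refine Groth.Agent.Lib.Helper23.ModLocal.isZero_of_forall_eq_zero (fun V s => ?_)
  have hdis : ∀ x ∈ D.ι ''ᵁ V, x ∉ CohB1.support M := by
    rintro x ⟨y, -, rfl⟩
    exact h _ y.2
  exact Groth.Agent.Lib.Helper23.Support.eq_zero_of_disjoint_support M (D.ι ''ᵁ V) hdis
    (show Γ(M, D.ι ''ᵁ V) from s)

theorem isIso_restrict_of_support (D : X.Opens) {A B : X.Modules} (p : A ⟶ B)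
    (hK : ∀ x ∈ D, x ∉ CohB1.support (kernel p)) (hC : ∀ x ∈ D, x ∉ CohB1.support (cokernel p)) :
    IsIso ((Scheme.Modules.restrictFunctor D.ι).map p) := by
  haveI : PreservesColimitsOfSize.{0, 0} (Scheme.Modules.restrictFunctor D.ι) :=
    (Scheme.Modules.restrictAdjunction D.ι).leftAdjoint_preservesColimits
  have hK0 : IsZero (kernel ((Scheme.Modules.restrictFunctor D.ι).map p)) :=
    IsZero.of_iso (isZero_restrict_of_support D _ hK)
      (PreservesKernel.iso (Scheme.Modules.restrictFunctor D.ι) p).symm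
  have hC0 : IsZero (cokernel ((Scheme.Modules.restrictFunctor D.ι).map p)) :=
    IsZero.of_iso (isZero_restrict_of_support D _ hC)
      (PreservesCokernel.iso (Scheme.Modules.restrictFunctor D.ι) p).symm
  haveI : Mono ((Scheme.Modules.restrictFunctor D.ι).map p) :=
    Preadditive.mono_of_isZero_kernel _ hK0
  haveI : Epi ((Scheme.Modules.restrictFunctor D.ι).map p) :=
    Preadditive.epi_of_isZero_cokernel _ hC0
  exact isIso_of_mono_of_epi _

theorem support_kernel_cokernel_of_isIso_restrict (D : X.Opens) {A B : X.Modules} (p : A ⟶ B)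
    [IsIso ((Scheme.Modules.restrictFunctor D.ι).map p)] :
    (∀ x ∈ D, x ∉ CohB1.support (kernel p)) ∧ (∀ x ∈ D, x ∉ CohB1.support (cokernel p)) := by
  haveI : PreservesColimitsOfSize.{0, 0} (Scheme.Modules.restrictFunctor D.ι) :=
    (Scheme.Modules.restrictAdjunction D.ι).leftAdjoint_preservesColimits
  have hK0 : IsZero ((Scheme.Modules.restrictFunctor D.ι).obj (kernel p)) :=
    IsZero.of_iso (isZero_kernel_of_mono _)
      (PreservesKernel.iso (Scheme.Modules.restrictFunctor D.ι) p)
  have hC0 : IsZero ((Scheme.Modules.restrictFunctor D.ι).obj (cokernel p)) :=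
    IsZero.of_iso (isZero_cokernel_of_epi _)
      (PreservesCokernel.iso (Scheme.Modules.restrictFunctor D.ι) p)
  exact ⟨fun x hx => not_mem_support_of_isZero_restrict_opens D _ hK0 x hx,
    fun x hx => not_mem_support_of_isZero_restrict_opens D _ hC0 x hx⟩

theorem isIso_restrict_of_le {D D' : X.Opens} (h : D' ≤ D) {A B : X.Modules} (p : A ⟶ B)
    [IsIso ((Scheme.Modules.restrictFunctor D.ι).map p)] :
    IsIso ((Scheme.Modules.restrictFunctor D'.ι).map p) := by
  obtain ⟨h1, h2⟩ := support_kernel_cokernel_of_isIso_restrict D p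
  exact isIso_restrict_of_support D' p (fun x hx => h1 x (h hx)) (fun x hx => h2 x (h hx))

/-- a map of coherent modules which is bijective on the stalk at `ξ` is an isomorphism near `ξ` -/
theorem exists_isIso_restrict_of_stalk [IsNoetherian X] {A B : X.Modules} (cA : Coh.IsCoh A)
    (cB : Coh.IsCoh B) (φ : A ⟶ B) (ξ : X) (hφ : Function.Bijective (stalkLin φ ξ)) :
    ∃ D : X.Opens, ξ ∈ D ∧ IsIso ((Scheme.Modules.restrictFunctor D.ι).map φ) := by
  have cK : Coh.IsCoh (kernel φ) := Groth.Agent.Lib.R2H2.PdSheaf.isCoh_kernel cA cB φ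
  have cC : Coh.IsCoh (cokernel φ) := isCoh_cokernel cA cB φ
  haveI : SheafOfModules.IsFiniteType (R := X.ringCatSheaf) (kernel φ) := cK.2
  haveI : SheafOfModules.IsFiniteType (R := X.ringCatSheaf) (cokernel φ) := cC.2
  have hKξ : Subsingleton ((kernel φ).presheaf.stalk ξ) := by
    have hinj : Function.Injective (stalkLin (kernel.ι φ) ξ) :=
      TopCat.Presheaf.stalkFunctor_map_injective_of_app_injective
        (f := Scheme.Modules.Hom.mapPresheaf (kernel.ι φ))
        (fun U => Groth.Agent.Lib.Helper20.StalkExact.injective_app_of_mono (kernel.ι φ) U) ξ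
    refine ⟨fun a b => ?_⟩
    apply hinj
    apply hφ.1
    rw [stalkLin_comp_apply, stalkLin_comp_apply, kernel.condition, stalkLin_zero]
    rfl
  have hCξ : Subsingleton ((cokernel φ).presheaf.stalk ξ) := by
    refine ⟨fun a b => ?_⟩
    have key : ∀ c : (cokernel φ).presheaf.stalk ξ, c = 0 := by
      intro c
      obtain ⟨c', rfl⟩ := Groth.Agent.Lib.Helper4.ModEpi.exists_germ_eq_of_epi (cokernel.π φ) ξ c
      obtain ⟨c'', rfl⟩ := hφ.2 c'
      have := stalkLin_comp_apply φ (cokernel.π φ) ξ c''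
      rw [cokernel.condition, stalkLin_zero] at this
      exact this
    rw [key a, key b]
  obtain ⟨V₁, hξ₁, hV₁⟩ :=
    Groth.Agent.Lib.Helper20.SuppClosed.exists_opens_subsingleton_stalk (hM := cK.2) _ ξ hKξ
  obtain ⟨V₂, hξ₂, hV₂⟩ :=
    Groth.Agent.Lib.Helper20.SuppClosed.exists_opens_subsingleton_stalk (hM := cC.2) _ ξ hCξ
  refine ⟨V₁ ⊓ V₂, ⟨hξ₁, hξ₂⟩, isIso_restrict_of_support _ φ (fun x hx h => h (hV₁ x hx.1))
    (fun x hx h => h (hV₂ x hx.2))⟩

/-! ### functoriality of `pow` -/

/-- the map induced on powers -/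
noncomputable def powMap {A B : X.Modules} (φ : A ⟶ B) : ∀ r : ℕ, pow A r ⟶ pow B r
  | 0 => 0
  | r + 1 => eqToHom (pow_succ A r) ≫ biprod.map φ (powMap φ r) ≫ eqToHom (pow_succ B r).symm

theorem powMap_succ {A B : X.Modules} (φ : A ⟶ B) (r : ℕ) :
    powMap φ (r + 1) =
      eqToHom (pow_succ A r) ≫ biprod.map φ (powMap φ r) ≫ eqToHom (pow_succ B r).symm := by
  rw [powMap]

instance mono_powMap {A B : X.Modules} (φ : A ⟶ B) [Mono φ] : ∀ r : ℕ, Mono (powMap φ r)
  | 0 => ⟨fun u v _ => (isZero_pow_zero A).eq_of_tgt u v⟩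
  | r + 1 => by
    haveI := mono_powMap φ r
    rw [powMap_succ]
    infer_instance

theorem isIso_map_biprod_map {C D : Type*} [Category C] [Category D] [Preadditive C]
    [Preadditive D] [HasBinaryBiproducts C] (R : C ⥤ D) [R.Additive] {A A' B B' : C}
    (f : A ⟶ A') (g : B ⟶ B') [IsIso (R.map f)] [IsIso (R.map g)] :
    IsIso (R.map (biprod.map f g)) := by
  refine ⟨R.map biprod.fst ≫ inv (R.map f) ≫ R.map biprod.inl +
    R.map biprod.snd ≫ inv (R.map g) ≫ R.map biprod.inr, ?_, ?_⟩
  · rw [Preadditive.comp_add, ← R.map_comp_assoc, ← R.map_comp_assoc, biprod.map_fst,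
      biprod.map_snd, R.map_comp, R.map_comp, Category.assoc, Category.assoc,
      IsIso.hom_inv_id_assoc, IsIso.hom_inv_id_assoc, ← R.map_comp, ← R.map_comp, ← R.map_add,
      biprod.total, R.map_id]
  · rw [Preadditive.add_comp, Category.assoc, Category.assoc, Category.assoc, Category.assoc,
      ← R.map_comp, ← R.map_comp, biprod.inl_map, biprod.inr_map, R.map_comp, R.map_comp,
      IsIso.inv_hom_id_assoc, IsIso.inv_hom_id_assoc, ← R.map_comp, ← R.map_comp, ← R.map_add,
      biprod.total, R.map_id]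

theorem isIso_restrict_powMap (D : X.Opens) {A B : X.Modules} (φ : A ⟶ B)
    [IsIso ((Scheme.Modules.restrictFunctor D.ι).map φ)] :
    ∀ r : ℕ, IsIso ((Scheme.Modules.restrictFunctor D.ι).map (powMap φ r))
  | 0 => by
    have h1 : IsZero ((Scheme.Modules.restrictFunctor D.ι).obj (pow A 0)) :=
      (Scheme.Modules.restrictFunctor D.ι).map_isZero (isZero_pow_zero A)
    have h2 : IsZero ((Scheme.Modules.restrictFunctor D.ι).obj (pow B 0)) :=
      (Scheme.Modules.restrictFunctor D.ι).map_isZero (isZero_pow_zero B)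
    exact ⟨0, h1.eq_of_src _ _, h2.eq_of_src _ _⟩
  | r + 1 => by
    haveI := isIso_restrict_powMap D φ r
    haveI : (Scheme.Modules.restrictFunctor D.ι).Additive :=
      Groth.Agent.Lib.Helper26.ModSec.restrictFunctor_additive D.ι
    haveI := isIso_map_biprod_map (Scheme.Modules.restrictFunctor D.ι) φ (powMap φ r)
    rw [powMap_succ, Functor.map_comp, Functor.map_comp]
    infer_instance

/-- a map out of `pow B r` composed with `powMap φ r` vanishes if `φ` kills all maps from `B` -/
theorem powMap_comp_eq_zero {A B C : X.Modules} (φ : A ⟶ B)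
    (hφ : ∀ u : B ⟶ C, φ ≫ u = 0) : ∀ (r : ℕ) (g : pow B r ⟶ C), powMap φ r ≫ g = 0
  | 0, g => (isZero_pow_zero A).eq_of_src _ _
  | r + 1, g => by
    rw [powMap_succ, ← cancel_epi (eqToHom (pow_succ A r).symm)]
    simp only [Category.assoc, eqToHom_trans_assoc, eqToHom_refl, Category.id_comp, comp_zero]
    apply biprod.hom_ext'
    · rw [biprod.inl_map_assoc, comp_zero]
      exact hφ _
    · rw [biprod.inr_map_assoc, comp_zero]
      exact powMap_comp_eq_zero φ hφ r _

/-! ### `J · C = 0` when `J` kills `C` -/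

theorem isZero_idealMul_of_killed (J : X.IdealSheafData) (C : X.Modules) [C.IsQuasicoherent]
    (hk : ClSub.KilledByIdeal J C) : IsZero ((Dual3.idealMul J).obj C) := by
  have hkill : ∀ (U : X.affineOpens) (r : Γ(X, U.1)), r ∈ J.subschemeι.ker.ideal U →
      ∀ m : Γ(C, U.1), r • m = 0 := by
    intro U r hr m
    rw [Scheme.IdealSheafData.ker_subschemeι] at hr
    exact (killed_iff _ _).1 hk U r hr m
  haveI : IsIso ((Scheme.Modules.pullbackPushforwardAdjunction J.subschemeι).unit.app C) :=
    Groth.Agent.S0786.isIso_unit_closedImmersion J.subschemeι C hkill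
  exact isZero_kernel_of_mono _

theorem idealMulι_comp_eq_zero (J : X.IdealSheafData) {G C : X.Modules} [C.IsQuasicoherent]
    (hk : ClSub.KilledByIdeal J C) (u : G ⟶ C) : Dual3.idealMulι J G ≫ u = 0 := by
  rw [← Dual3.idealMul_map_ι,
    (isZero_idealMul_of_killed J C hk).eq_of_tgt ((Dual3.idealMul J).map u) 0, zero_comp]

end Groth.Agent.Lib.R2H2.DevK
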