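import Mathlib
import Groth.Agent.Lib.R2H2DevK
set_option backward.isDefEq.respectTransparency.types false

/-!
# Stalk-local properties of coherent modules on a locally Noetherian scheme (helper4, run 2)
-/

set_option autoImplicit false
set_option linter.style.haveILetI false
universe u

open CategoryTheory CategoryTheory.Limits AlgebraicGeometry TopologicalSpace

namespace Groth.Agent.Lib.R2H4CohStalkLocal

open Groth.Agent.Lib.R2H2.DevK Groth.Agent.Lib.R2H2.DevA Groth.Agent.Lib.R2H2.NilFilt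
  Groth.Agent.Lib.R2H2.StalkPow

variable {X : Scheme.{u}}

theorem exists_isZero_restrict (F : X.Modules) (hF : Coh.IsCoh F) (x : X)
    (h : Subsingleton (F.presheaf.stalk x)) :
    ∃ U : X.Opens, x ∈ U ∧ IsZero ((Scheme.Modules.restrictFunctor U.ι).obj F) := by
  obtain ⟨V, hxV, hV⟩ :=
    Groth.Agent.Lib.Helper20.SuppClosed.exists_opens_subsingleton_stalk (hM := hF.2) F x h
  exact ⟨V, hxV, isZero_restrict_of_support V F (fun y hy hy' => hy' (hV y hy))⟩

theorem subsingleton_stalk_kernel {A B : X.Modules} (φ : A ⟶ B) (ξ : X)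
    (hφ : Function.Injective (stalkLin φ ξ)) : Subsingleton ((kernel φ).presheaf.stalk ξ) := by
  have hinj : Function.Injective (stalkLin (kernel.ι φ) ξ) :=
    TopCat.Presheaf.stalkFunctor_map_injective_of_app_injective
      (f := Scheme.Modules.Hom.mapPresheaf (kernel.ι φ))
      (fun U => Groth.Agent.Lib.Helper20.StalkExact.injective_app_of_mono (kernel.ι φ) U) ξ
  refine ⟨fun a b => ?_⟩
  apply hinj
  apply hφ
  rw [stalkLin_comp_apply, stalkLin_comp_apply, kernel.condition, stalkLin_zero]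
  rfl

theorem exists_mono_restrict [IsLocallyNoetherian X] {A B : X.Modules} (cA : Coh.IsCoh A)
    (cB : Coh.IsCoh B) (φ : A ⟶ B) (ξ : X) (hφ : Function.Injective (stalkLin φ ξ)) :
    ∃ D : X.Opens, ξ ∈ D ∧ Mono ((Scheme.Modules.restrictFunctor D.ι).map φ) := by
  have cK : Coh.IsCoh (kernel φ) := Groth.Agent.Lib.R2H2.PdSheaf.isCoh_kernel cA cB φ
  obtain ⟨V, hξ, hV⟩ := exists_isZero_restrict (kernel φ) cK ξ (subsingleton_stalk_kernel φ ξ hφ)
  refine ⟨V, hξ, ?_⟩
  have hK0 : IsZero (kernel ((Scheme.Modules.restrictFunctor V.ι).map φ)) :=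
    IsZero.of_iso hV (PreservesKernel.iso (Scheme.Modules.restrictFunctor V.ι) φ).symm
  exact Preadditive.mono_of_isZero_kernel _ hK0

theorem exists_isIso_restrict [IsLocallyNoetherian X] {A B : X.Modules} (cA : Coh.IsCoh A)
    (cB : Coh.IsCoh B) (φ : A ⟶ B) (ξ : X) (hφ : Function.Bijective (stalkLin φ ξ)) :
    ∃ D : X.Opens, ξ ∈ D ∧ IsIso ((Scheme.Modules.restrictFunctor D.ι).map φ) := by
  have cK : Coh.IsCoh (kernel φ) := Groth.Agent.Lib.R2H2.PdSheaf.isCoh_kernel cA cB φ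
  have cC : Coh.IsCoh (cokernel φ) := isCoh_cokernel cA cB φ
  have hKξ := subsingleton_stalk_kernel φ ξ hφ.1
  have hCξ : Subsingleton ((cokernel φ).presheaf.stalk ξ) := by
    refine ⟨fun a b => ?_⟩
    have key : ∀ c : (cokernel φ).presheaf.stalk ξ, c = 0 := by
      intro c
      obtain ⟨c', rfl⟩ := Groth.Agent.Lib.Helper4.ModEpi.exists_germ_eq_of_epi (cokernel.π φ) ξ c
      obtain ⟨c'', rfl⟩ := hφ.2 c'
      have := stalkLin_comp_apply φ (cokernel.π φ) ξ c''
      rw [cokernel.condition, stalkLin_zero] at this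
      exact this
    rw [key a, key b]
  obtain ⟨V₁, hξ₁, hV₁⟩ :=
    Groth.Agent.Lib.Helper20.SuppClosed.exists_opens_subsingleton_stalk (hM := cK.2) _ ξ hKξ
  obtain ⟨V₂, hξ₂, hV₂⟩ :=
    Groth.Agent.Lib.Helper20.SuppClosed.exists_opens_subsingleton_stalk (hM := cC.2) _ ξ hCξ
  refine ⟨V₁ ⊓ V₂, ⟨hξ₁, hξ₂⟩, isIso_restrict_of_support _ φ (fun x hx h => h (hV₁ x hx.1))
    (fun x hx h => h (hV₂ x hx.2))⟩

theorem main (X : Scheme.{u}) [IsLocallyNoetherian X]
    (F G : X.Modules) (hF : Coh.IsCoh F) (hG : Coh.IsCoh G) (φ : G ⟶ F) (x : X) :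
    (Subsingleton ↑(F.presheaf.stalk x) →
      ∃ U : X.Opens, x ∈ U ∧ IsZero ((Scheme.Modules.restrictFunctor U.ι).obj F)) ∧
    (Function.Injective ((TopCat.Presheaf.stalkFunctor _ x).map φ.mapPresheaf).hom →
      ∃ U : X.Opens, x ∈ U ∧ Mono ((Scheme.Modules.restrictFunctor U.ι).map φ)) ∧
    (Function.Bijective ((TopCat.Presheaf.stalkFunctor _ x).map φ.mapPresheaf).hom →
      ∃ U : X.Opens, x ∈ U ∧ IsIso ((Scheme.Modules.restrictFunctor U.ι).map φ)) :=
  ⟨fun h => exists_isZero_restrict F hF x h,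
    fun h => exists_mono_restrict hG hF φ x h,
    fun h => exists_isIso_restrict hG hF φ x h⟩

end Groth.Agent.Lib.R2H4CohStalkLocal
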