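import Mathlib
import Groth.Agent.Lib.R2H2FibreCoh
import Groth.Agent.Lib.Helper2PullbackSec3
import Groth.Agent.S7844

/-!
# Vanishing of `R^n f_* F` near a point from vanishing on the fibre (helper2, round 2)

`main`: `f : X → Y` proper, `Y` locally Noetherian, `F` coherent flat over `Y`, `H^n(X_y, F_y) = 0`
⇒ `R^n f_* F` vanishes near `y` (statement `S2385`).
-/

set_option autoImplicit false
set_option linter.unusedSectionVars false
universe u
open CategoryTheory CategoryTheory.Limits AlgebraicGeometry TopologicalSpace Opposite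

noncomputable section

namespace Groth.Agent.Lib.R2H2.FibreVanish

open Groth.Agent.Lib.R2H2.FlatDev Groth.Agent.Lib.R2H2.FibreCoh

variable {X Y : Scheme.{u}} (f : X ⟶ Y) (y : Y)

/-- `X₁ = X ×_Y Spec O_{Y,y}` -/
abbrev X₁ : Scheme.{u} := pullback f (Y.fromSpecStalk y)

/-- the projection `X₁ → X` -/
abbrev g₁ : X₁ f y ⟶ X := pullback.fst f (Y.fromSpecStalk y)

/-- the projection `X₁ → Spec O_{Y,y}` -/
abbrev f₁ : X₁ f y ⟶ Spec (CommRingCat.of (Y.presheaf.stalk y)) := pullback.snd f (Y.fromSpecStalk y)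

theorem isPullback₁ : IsPullback (g₁ f y) (f₁ f y) f (Y.fromSpecStalk y) :=
  IsPullback.of_hasPullback f (Y.fromSpecStalk y)

/-- the fibre maps to `X₁` -/
def g₀ : f.fiber y ⟶ X₁ f y :=
  pullback.lift (f.fiberι y) (f.fiberToSpecResidueField y ≫ Spec.map (Y.residue y)) (by
    rw [Category.assoc]
    exact f.fiber_fac y)

theorem g₀_g₁ : g₀ f y ≫ g₁ f y = f.fiberι y := pullback.lift_fst _ _ _

theorem g₀_f₁ : g₀ f y ≫ f₁ f y = f.fiberToSpecResidueField y ≫ Spec.map (Y.residue y) :=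
  pullback.lift_snd _ _ _

theorem isPullback₀ :
    IsPullback (g₀ f y) (f.fiberToSpecResidueField y) (f₁ f y) (Spec.map (Y.residue y)) := by
  refine IsPullback.of_right ?_ (g₀_f₁ f y) (isPullback₁ f y)
  rw [g₀_g₁]
  exact IsPullback.of_hasPullback f (Y.fromSpecResidueField y)


section Main

variable [IsProper f] [IsLocallyNoetherian Y] [HasInjectiveResolutions X.Modules]

/-- `S2385` -/
theorem main (F : X.Modules) (hF : Coh.IsCoh F) (hfl : FlatMod.IsFlatOver f F) (n : ℕ)
    (hvan : Subsingleton (CohIII.fiberH f F y n)) :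
    ∃ U : Y.Opens, y ∈ U ∧ IsZero (((Coh.Rpush f n).obj F).restrict U.ι) := by
  letI : (X₁ f y).Over (Spec (CommRingCat.of (Y.presheaf.stalk y))) := ⟨f₁ f y⟩
  haveI : F.IsQuasicoherent := hF.1
  haveI : ((Scheme.Modules.pullback (g₁ f y)).obj F).IsQuasicoherent :=
    Groth.Agent.Lib.Helper2.PullbackSec.isQuasicoherent_pullback _ F
  have hfl₁ : FlatMod.IsFlatOver (X₁ f y ↘ Spec (CommRingCat.of (Y.presheaf.stalk y)))
      ((Scheme.Modules.pullback (g₁ f y)).obj F) := fun x' =>
    Groth.Agent.Lib.Helper2.PullbackSec.isFlatOverAt_pullback_of_isPullback (isPullback₁ f y) F x'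
      (hfl _)
  have hcp : ∀ U : (X₁ f y).Opens, IsAffineOpen U →
      ColonProp (Y.presheaf.stalk y) ((Scheme.Modules.pullback (g₁ f y)).obj F) U :=
    fun U hU => colonProp _ hfl₁ hU
  have e : (Scheme.Modules.pullback (g₀ f y)).obj ((Scheme.Modules.pullback (g₁ f y)).obj F) ≅
      CohIII.fiberMod f F y :=
    (Scheme.Modules.pullbackComp (g₀ f y) (g₁ f y)).app F ≪≫
      (Scheme.Modules.pullbackCongr (g₀_g₁ f y)).app F
  haveI := hvan
  have h0 : Subsingleton (Coh.HH (f.fiber y)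
      ((Scheme.Modules.pullback (g₀ f y)).obj ((Scheme.Modules.pullback (g₁ f y)).obj F)) n) :=
    (Groth.Agent.Lib.R2H2.CdOne.HH_addEquiv_of_iso e n).toEquiv.subsingleton
  have hq : Subsingleton (Coh.HH (X₁ f y)
      (modJ (IsLocalRing.maximalIdeal (Y.presheaf.stalk y))
        ((Scheme.Modules.pullback (g₁ f y)).obj F)) n) :=
    subsingleton_HH_modJ_of_fibre (A := Y.presheaf.stalk y)
      (B := IsLocalRing.ResidueField (Y.presheaf.stalk y))
      (f.fiberToSpecResidueField y) (g₀ f y) (isPullback₀ f y) _ Ideal.Quotient.mk_surjective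
      (IsLocalRing.maximalIdeal (Y.presheaf.stalk y))
      (fun a ha => Ideal.Quotient.eq_zero_iff_mem.2 ha)
      (fun a ha => Ideal.Quotient.eq_zero_iff_mem.1 ha) n h0
  have hlim := HHlim_eq_bot (IsLocalRing.maximalIdeal (Y.presheaf.stalk y))
    ((Scheme.Modules.pullback (g₁ f y)).obj F) n (subsingleton_HHmodPow _ hcp n hq)
  exact Groth.Agent.S7844.result f F hF y n (X₁ f y) (g₁ f y) (isPullback₁ f y) hlim

end Main

end Groth.Agent.Lib.R2H2.FibreVanish
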