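import Mathlib
import Groth.Agent.Lib.H9Pfb3
import Groth.Agent.Lib.R2H2FibreVanish
import Groth.Agent.Lib.R2H3SchemDense

/-! helper9: S2393 part 4: `bijective_toGlobal_f₁` (proper flat f over loc. Noetherian Y, κ(y) → Γ(X_y,O) bijective ⇒ O_{Y,y} → Γ(X ×_Y Spec O_{Y,y}, O) bijective). -/

set_option autoImplicit false
set_option linter.unusedSectionVars false
universe u

noncomputable section

namespace Groth.Agent.Lib.H9Pfb4

open CategoryTheory CategoryTheory.Limits AlgebraicGeometry TopologicalSpace Opposite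
open Groth.Agent.Lib.R2H2.FlatDev Groth.Agent.Lib.R2H2.SheafBC Groth.Agent.Lib.H9Pfb1
open Groth.Agent.Lib.R2H2.FibreCoh Groth.Agent.Lib.R2H2.FibreVanish
open Groth.Agent.Lib.H9Pfb2 Groth.Agent.Lib.H9Pfb3

variable {X Y : Scheme.{u}} (f : X ⟶ Y) (y : Y)

/-- **local form**: `O_{Y,y} → Γ(X ×_Y Spec O_{Y,y}, O)` is bijective -/
theorem bijective_toGlobal_f₁ [IsProper f] [Flat f] [IsLocallyNoetherian Y]
    (hy : Function.Bijective (algebraMap (Y.residueField y) Γ(f.fiber y, ⊤))) :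
    Function.Bijective (Coh.toGlobal (f₁ f y)) := by
  letI : (X₁ f y).Over (Spec (CommRingCat.of (Y.presheaf.stalk y))) := ⟨f₁ f y⟩
  haveI : IsProper (X₁ f y ↘ Spec (CommRingCat.of (Y.presheaf.stalk y))) :=
    inferInstanceAs (IsProper (pullback.snd f (Y.fromSpecStalk y)))
  haveI : Flat (X₁ f y ↘ Spec (CommRingCat.of (Y.presheaf.stalk y))) :=
    inferInstanceAs (Flat (pullback.snd f (Y.fromSpecStalk y)))
  haveI hqc : (Coh.structureModule (X₁ f y)).IsQuasicoherent :=
    Groth.Agent.Lib.Helper23.Serre.isQuasicoherent_structureModule' _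
  have hcoh : Coh.IsCoh (Coh.structureModule (X₁ f y)) :=
    ⟨hqc, Groth.Agent.Lib.R2H2.PnFinite.isFiniteType_structureModule _⟩
  have hfl : FlatMod.IsFlatOver (X₁ f y ↘ Spec (CommRingCat.of (Y.presheaf.stalk y)))
      (Coh.structureModule (X₁ f y)) :=
    Groth.Agent.Lib.R2H3.SchemDense.isFlatOver_structureModule _
  have hcp : ∀ U : (X₁ f y).Opens, IsAffineOpen U →
      ColonProp (Y.presheaf.stalk y) (Coh.structureModule (X₁ f y)) U :=
    fun U hU => colonProp _ hfl hU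
  have hm : TJ (Coh.structureModule (X₁ f y)) (one (X₁ f y))
      (IsLocalRing.maximalIdeal (Y.presheaf.stalk y)) :=
    tJ_of_fibre (A := Y.presheaf.stalk y) (B := IsLocalRing.ResidueField (Y.presheaf.stalk y))
      (f.fiberToSpecResidueField y) (g₀ f y) (isPullback₀ f y) Ideal.Quotient.mk_surjective
      (IsLocalRing.maximalIdeal (Y.presheaf.stalk y))
      (fun a ha => Ideal.Quotient.eq_zero_iff_mem.2 ha)
      (fun a ha => Ideal.Quotient.eq_zero_iff_mem.1 ha) hy
  have hT := tJ_of_tJ_maximalIdeal (Coh.structureModule (X₁ f y)) (one (X₁ f y)) hcp hm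
  have hbij := bijective_of_tJ (Coh.structureModule (X₁ f y)) (one (X₁ f y)) hcoh hT
  have heq : (fun a : Y.presheaf.stalk y =>
      (bW (X₁ f y ↘ Spec (CommRingCat.of (Y.presheaf.stalk y))) ⊤ a : Γ(X₁ f y, ⊤)) •
        one (X₁ f y)) = fun a => Coh.toGlobal (f₁ f y) a := by
    funext a
    change (bW (f₁ f y) ⊤ a : Γ(X₁ f y, ⊤)) * (1 : Γ(X₁ f y, ⊤)) = _
    rw [mul_one]
    change Coh.resTop _ (op ⊤) (Coh.toGlobal (f₁ f y) a) = _
    rw [Groth.Agent.Lib.H9NormFin.resTop_top]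
  rw [heq] at hbij
  exact hbij

end Groth.Agent.Lib.H9Pfb4
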