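import Mathlib

/-! helper9: S2393 part 5 (pure algebra): `exists_denominator` (T finite over R, P = T ⊗_R R_p, R_p → P surjective ⇒ ∃ s ∉ p with T·s ⊆ image of R). -/

set_option autoImplicit false
universe u

namespace Groth.Agent.Lib.H9Pfb5

/-- **spreading out surjectivity**: `T` finite over `R`, `P = T ⊗_R R_p` and `R_p → P` bijective ⇒
there is `s ∉ p` with `s • T ⊆ image of R`. -/
theorem exists_denominator (R T A' P : Type u) [CommRing R] [CommRing T] [CommRing A'] [CommRing P]
    [Algebra R T] [Algebra R A'] [Algebra T P] [Algebra A' P] [Algebra R P]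
    [IsScalarTower R T P] [IsScalarTower R A' P] (p : Ideal R) [p.IsPrime]
    [IsLocalization.AtPrime A' p] [Algebra.IsPushout R T A' P] [Module.Finite R T]
    (hbij : Function.Surjective (algebraMap A' P)) :
    ∃ s : R, s ∉ p ∧ ∀ c : T, ∃ a : R, c * algebraMap R T s = algebraMap R T a := by
  classical
  haveI : IsLocalization (Algebra.algebraMapSubmonoid T p.primeCompl) P :=
    (Algebra.isLocalization_iff_isPushout p.primeCompl A').mpr inferInstance
  -- pointwise denominators
  have hpt : ∀ c : T, ∃ s : R, s ∉ p ∧ ∃ a : R, c * algebraMap R T s = algebraMap R T a := by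
    intro c
    obtain ⟨a', ha'⟩ := hbij (algebraMap T P c)
    obtain ⟨⟨b, t⟩, hbt⟩ := IsLocalization.surj p.primeCompl a'
    have h1 : algebraMap T P (c * algebraMap R T t.1) = algebraMap T P (algebraMap R T b) := by
      rw [map_mul, ← ha', ← IsScalarTower.algebraMap_apply R T P, ← IsScalarTower.algebraMap_apply R T P,
        IsScalarTower.algebraMap_apply R A' P, IsScalarTower.algebraMap_apply R A' P b, ← map_mul]
      exact congrArg _ hbt
    obtain ⟨⟨m, hm⟩, hm'⟩ := (IsLocalization.eq_iff_exists
      (Algebra.algebraMapSubmonoid T p.primeCompl) P).mp h1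
    obtain ⟨t', ht', rfl⟩ := hm
    refine ⟨t.1 * t', ?_, b * t', ?_⟩
    · exact p.primeCompl.mul_mem t.2 ht'
    · simp only at hm'
      rw [map_mul, map_mul, ← mul_assoc, mul_comm (algebraMap R T b)]
      rw [mul_comm _ (algebraMap R T t'), ← hm']
  choose sc hsc ac hac using hpt
  obtain ⟨S, hS⟩ := (Module.Finite.fg_top : (⊤ : Submodule R T).FG)
  refine ⟨∏ c ∈ S, sc c, ?_, ?_⟩
  · intro hmem
    obtain ⟨c, _, hc⟩ := (Ideal.IsPrime.prod_mem_iff).mp hmem
    exact hsc c hc
  · let N : Submodule R T :=
      { carrier := {c | ∃ a : R, c * algebraMap R T (∏ c ∈ S, sc c) = algebraMap R T a}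
        add_mem' := by
          rintro c c' ⟨a, ha⟩ ⟨a', ha'⟩
          exact ⟨a + a', by rw [add_mul, ha, ha', map_add]⟩
        zero_mem' := ⟨0, by rw [zero_mul, map_zero]⟩
        smul_mem' := by
          rintro r c ⟨a, ha⟩
          exact ⟨r * a, by rw [Algebra.smul_def, mul_assoc, ha, map_mul]⟩ }
    have hSN : (S : Set T) ⊆ N := by
      intro c hc
      refine ⟨ac c * ∏ c' ∈ S.erase c, sc c', ?_⟩
      rw [← Finset.mul_prod_erase S sc hc, map_mul, ← mul_assoc, hac c, map_mul]
    have hN : N = ⊤ := by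
      rw [eq_top_iff, ← hS]
      exact Submodule.span_le.mpr hSN
    intro c
    have : c ∈ N := by rw [hN]; trivial
    exact this

end Groth.Agent.Lib.H9Pfb5
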