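import Mathlib
import Groth.Agent.Lib.H9Pfb4
import Groth.Agent.Lib.H9Pfb5
import Groth.Agent.Lib.H9NormFin
import Groth.Agent.Lib.H9ZarLocal

/-! helper9: S2393 part 6: `range_fromSpecStalk_subset`, `isPushout_stalk` (flat base change of sections: Γ(X ×_Y Spec O_{Y,y}) = Γ(X,f⁻¹U) ⊗_{Γ(Y,U)} O_{Y,y} as an IsPushout square in CommRingCat, U affine ∋ y, f qcqs). -/

set_option autoImplicit false
set_option linter.unusedSectionVars false
universe u

noncomputable section

namespace Groth.Agent.Lib.H9Pfb6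

open CategoryTheory CategoryTheory.Limits AlgebraicGeometry TopologicalSpace Opposite
open Groth.Agent.Lib.R2H2.FibreVanish Groth.Agent.Lib.H9Pfb4 Groth.Agent.Lib.H9Pfb5

variable {X Y : Scheme.{u}} (f : X ⟶ Y) (y : Y)

theorem range_fromSpecStalk_subset (U : Y.Opens) (hyU : y ∈ U) :
    (⊤ : (Spec (Y.presheaf.stalk y)).Opens) ≤ Y.fromSpecStalk y ⁻¹ᵁ U := by
  intro z _
  change (Y.fromSpecStalk y) z ∈ U
  have h1 : (Y.fromSpecStalk y) z ⤳ y := by
    have := Scheme.range_fromSpecStalk (X := Y) (x := y)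
    have hz : (Y.fromSpecStalk y) z ∈ Set.range (Y.fromSpecStalk y) := ⟨z, rfl⟩
    rw [this] at hz
    exact hz
  exact h1.mem_open U.2 hyU

/-- flat base change of sections to the local ring -/
theorem isPushout_stalk [QuasiCompact f] [QuasiSeparated f] (U : Y.Opens) (hU : IsAffineOpen U)
    (hyU : y ∈ U) :
    IsPushout (f.app U) (Y.presheaf.germ U y hyU)
      ((g₁ f y).appLE (f ⁻¹ᵁ U) ⊤ (by
        intro z _
        change f ((g₁ f y) z) ∈ U
        rw [← Scheme.Hom.comp_apply, (isPullback₁ f y).w, Scheme.Hom.comp_apply]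
        exact range_fromSpecStalk_subset y U hyU (Set.mem_univ ((f₁ f y) z))))
      ((Scheme.ΓSpecIso (Y.presheaf.stalk y)).inv ≫ (f₁ f y).appTop) := by
  haveI : Flat (Y.fromSpecStalk y) := Groth.Agent.Lib.H9ZarLocal.flat_fromSpecStalk Y y
  have hUST := range_fromSpecStalk_subset y U hyU
  have hUY : (⊤ : (X₁ f y).Opens) = g₁ f y ⁻¹ᵁ (f ⁻¹ᵁ U) ⊓ f₁ f y ⁻¹ᵁ ⊤ := by
    apply le_antisymm _ le_top
    intro z _
    refine ⟨?_, trivial⟩
    change f ((g₁ f y) z) ∈ U
    rw [← Scheme.Hom.comp_apply, (isPullback₁ f y).w, Scheme.Hom.comp_apply]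
    exact hUST (Set.mem_univ _)
  have hiso := isIso_pushoutSection_of_isQuasiSeparated_of_flat_right (isPullback₁ f y)
    (US := U) (UT := ⊤) (UX := f ⁻¹ᵁ U) hUST le_rfl hUY hU (isAffineOpen_top _)
    (f.isCompact_preimage hU.isCompact) (f.isQuasiSeparated_preimage hU.isQuasiSeparated)
  have hpo := (isIso_pushoutSection_iff (isPullback₁ f y) hUST le_rfl hUY).mp hiso
  refine IsPushout.of_iso hpo (Iso.refl _) (Iso.refl _) (Scheme.ΓSpecIso (Y.presheaf.stalk y))
    (Iso.refl _) ?_ ?_ ?_ ?_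
  · simp only [Iso.refl_hom, Category.id_comp, Category.comp_id]
    exact (Scheme.Hom.app_eq_appLE f).symm
  · simp only [Iso.refl_hom, Category.id_comp]
    rw [Scheme.Hom.appLE, Scheme.fromSpecStalk_app hyU]
    simp only [Category.assoc]
    have key : (Spec (Y.presheaf.stalk y)).presheaf.map
        (homOfLE (le_top : Y.fromSpecStalk y ⁻¹ᵁ U ≤ ⊤)).op ≫
        (Spec (Y.presheaf.stalk y)).presheaf.map (homOfLE hUST).op = 𝟙 _ := by
      rw [← Functor.map_comp]
      exact (congrArg _ (Subsingleton.elim _ _)).trans (CategoryTheory.Functor.map_id _ _)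
    have key' : (Spec (Y.presheaf.stalk y)).presheaf.map
        (homOfLE (le_top : Y.fromSpecStalk y ⁻¹ᵁ U ≤ ⊤)).op ≫
        (Spec (Y.presheaf.stalk y)).presheaf.map (homOfLE hUST).op ≫
          (Scheme.ΓSpecIso (Y.presheaf.stalk y)).hom = (Scheme.ΓSpecIso (Y.presheaf.stalk y)).hom := by
      rw [← Category.assoc, key, Category.id_comp]
    refine (congrArg (fun t => Y.presheaf.germ U y hyU ≫
      (Scheme.ΓSpecIso (Y.presheaf.stalk y)).inv ≫ t) key').trans ?_
    rw [Iso.inv_hom_id, Category.comp_id]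
  · simp only [Iso.refl_hom, Category.id_comp, Category.comp_id]
  · simp only [Iso.refl_hom, Category.comp_id, Iso.hom_inv_id_assoc]
    exact Groth.Agent.Lib.Helper12.appLE_top_top _ _

end Groth.Agent.Lib.H9Pfb6
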