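import Mathlib
import Groth.Agent.Lib.H9Pfb6

/-! helper9: S2393 part 7: `exists_section` (proper flat f, loc. Noetherian Y, κ(y) ≅ Γ(X_y,O), U affine ∋ y ⇒ ∃ s ∈ Γ(Y,U) with y ∈ D(s) and Γ(X,f⁻¹U)·s ⊆ image of Γ(Y,U)). -/

set_option autoImplicit false
set_option linter.unusedSectionVars false
universe u

noncomputable section

namespace Groth.Agent.Lib.H9Pfb7

open CategoryTheory CategoryTheory.Limits AlgebraicGeometry TopologicalSpace Opposite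
open Groth.Agent.Lib.R2H2.FibreVanish Groth.Agent.Lib.H9Pfb4 Groth.Agent.Lib.H9Pfb5
  Groth.Agent.Lib.H9Pfb6

variable {X Y : Scheme.{u}} (f : X ⟶ Y) (y : Y)

theorem exists_section [IsProper f] [Flat f] [IsLocallyNoetherian Y]
    (hy : Function.Bijective (algebraMap (Y.residueField y) Γ(f.fiber y, ⊤)))
    (U : Y.Opens) (hU : IsAffineOpen U) (hyU : y ∈ U) :
    ∃ s : Γ(Y, U), y ∈ Y.basicOpen s ∧
      ∀ c : Γ(X, f ⁻¹ᵁ U), ∃ a : Γ(Y, U), c * (f.app U).hom s = (f.app U).hom a := by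
  have hpo := isPushout_stalk f y U hU hyU
  have hbij := bijective_toGlobal_f₁ f y hy
  generalize_proofs hle at hpo
  letI iRT : Algebra Γ(Y, U) Γ(X, f ⁻¹ᵁ U) := (f.app U).hom.toAlgebra
  letI iRA : Algebra Γ(Y, U) (Y.presheaf.stalk y) := (Y.presheaf.germ U y hyU).hom.toAlgebra
  letI iTP : Algebra Γ(X, f ⁻¹ᵁ U) Γ(X₁ f y, ⊤) := ((g₁ f y).appLE (f ⁻¹ᵁ U) ⊤ hle).hom.toAlgebra
  letI iAP : Algebra (Y.presheaf.stalk y) Γ(X₁ f y, ⊤) := (Coh.toGlobal (f₁ f y)).toAlgebra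
  letI iRP : Algebra Γ(Y, U) Γ(X₁ f y, ⊤) :=
    (((g₁ f y).appLE (f ⁻¹ᵁ U) ⊤ hle).hom.comp (f.app U).hom).toAlgebra
  haveI : IsScalarTower Γ(Y, U) Γ(X, f ⁻¹ᵁ U) Γ(X₁ f y, ⊤) := IsScalarTower.of_algebraMap_eq' rfl
  haveI : IsScalarTower Γ(Y, U) (Y.presheaf.stalk y) Γ(X₁ f y, ⊤) := by
    apply IsScalarTower.of_algebraMap_eq'
    have := congrArg CommRingCat.Hom.hom hpo.w
    exact this
  haveI hP : Algebra.IsPushout Γ(Y, U) Γ(X, f ⁻¹ᵁ U) (Y.presheaf.stalk y) Γ(X₁ f y, ⊤) :=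
    CommRingCat.isPushout_iff_isPushout.mp hpo
  haveI : Module.Finite Γ(Y, U) Γ(X, f ⁻¹ᵁ U) :=
    Groth.Agent.Lib.H9NormFin.finite_app_of_isProper f ⟨U, hU⟩
  haveI hloc : IsLocalization.AtPrime (Y.presheaf.stalk y) (hU.primeIdealOf ⟨y, hyU⟩).asIdeal :=
    hU.isLocalization_stalk ⟨y, hyU⟩
  obtain ⟨s, hs, hc⟩ := exists_denominator Γ(Y, U) Γ(X, f ⁻¹ᵁ U) (Y.presheaf.stalk y) Γ(X₁ f y, ⊤)
    (hU.primeIdealOf ⟨y, hyU⟩).asIdeal hbij.2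
  refine ⟨s, ?_, hc⟩
  rw [Scheme.mem_basicOpen _ _ _ hyU]
  exact IsLocalization.map_units (M := (hU.primeIdealOf ⟨y, hyU⟩).asIdeal.primeCompl)
    (Y.presheaf.stalk y) ⟨s, hs⟩

end Groth.Agent.Lib.H9Pfb7
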