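import Mathlib
import Groth.Agent.Lib.H9Pfb7
import Groth.Agent.Lib.H9SteinConn
import Groth.Agent.Lib.H9AlgClB

/-! helper9: S2393 part 8: `app_injective_of_flat_of_le_range` (flat f: O_Y(V) → O_X(f⁻¹V) injective for V ⊆ image f), `exists_open_le_range`, `stalkFunctor_map_injective_of_app_injective_le` (local version of Mathlib lemma), `app_bijective`/`isIso_app` (local-injectivity version of H9AlgClB), `main` (= S2393). -/

set_option autoImplicit false
set_option linter.unusedSectionVars false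
universe u

noncomputable section

namespace Groth.Agent.Lib.H9Pfb8

open CategoryTheory CategoryTheory.Limits AlgebraicGeometry TopologicalSpace Opposite
open Groth.Agent.Lib.H9AlgClB

variable {X Y : Scheme.{u}} (f : X ⟶ Y) (y : Y)

/-- for a flat morphism, `O_Y(V) → O_X(f⁻¹V)` is injective for every open `V` contained in the image -/
theorem app_injective_of_flat_of_le_range [Flat f] (V : Y.Opens) (hV : ∀ y ∈ V, ∃ x, f x = y) :
    Function.Injective (f.app V).hom := by
  rw [injective_iff_map_eq_zero]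
  intro a ha
  have hstalk : ∀ x : X, Function.Injective (f.stalkMap x).hom := by
    intro x
    algebraize [(f.stalkMap x).hom]
    have : Module.FaithfullyFlat (Y.presheaf.stalk (f x)) (X.presheaf.stalk x) :=
      @Module.FaithfullyFlat.of_flat_of_isLocalHom _ _ _ _ _ _ _
        (Flat.stalkMap f x) (f.toLRSHom.prop x)
    exact ‹RingHom.FaithfullyFlat _›.injective
  have key : ∀ x : X, ∀ hx : f x ∈ V, (Y.presheaf.germ V (f x) hx).hom a = 0 := by
    intro x hx
    apply hstalk x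
    rw [map_zero]
    have := Scheme.Hom.germ_stalkMap_apply f V x hx a
    rw [this, ha, map_zero]
  apply TopCat.Presheaf.section_ext Y.sheaf V
  intro y hy
  obtain ⟨x, rfl⟩ := hV y hy
  exact (key x hy).trans (map_zero (Y.presheaf.germ V (f x) hy).hom).symm

/-- the fibre is nonempty and `f` is open: an open neighbourhood inside the image -/
theorem exists_open_le_range [IsProper f] [Flat f] [IsLocallyNoetherian Y]
    (hy : Function.Bijective (algebraMap (Y.residueField y) Γ(f.fiber y, ⊤))) :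
    ∃ W : Y.Opens, y ∈ W ∧ ∀ y' ∈ W, ∃ x, f x = y' := by
  haveI : LocallyOfFinitePresentation f :=
    LocallyOfFinitePresentation.iff_locallyOfFiniteType.mpr inferInstance
  have hopen : IsOpen (Set.range f) := f.isOpenMap.isOpen_range
  refine ⟨⟨Set.range f, hopen⟩, ?_, fun y' hy' => hy'⟩
  haveI : Nontrivial Γ(f.fiber y, ⊤) := hy.1.nontrivial
  obtain ⟨z⟩ := Groth.Agent.Lib.H9SteinConn.nonempty_of_nontrivial (f.fiber y)
  have hz : f.fiberι y z ∈ f ⁻¹' {y} := by
    rw [← Scheme.Hom.range_fiberι]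
    exact ⟨z, rfl⟩
  exact ⟨f.fiberι y z, hz⟩

/-- local version of Mathlib's `stalkFunctor_map_injective_of_app_injective` -/
theorem stalkFunctor_map_injective_of_app_injective_le {T : TopCat.{u}}
    {F G : TopCat.Presheaf CommRingCat.{u} T} {φ : F ⟶ G} (W₁ : Opens T)
    (h : ∀ U : Opens T, U ≤ W₁ → Function.Injective (φ.app (op U))) (x : T) (hx : x ∈ W₁) :
    Function.Injective ((TopCat.Presheaf.stalkFunctor CommRingCat x).map φ) := fun s t hst => by
  rcases TopCat.Presheaf.exists_germ_eq F s with ⟨U₁, hxU₁, s, rfl⟩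
  rcases TopCat.Presheaf.exists_germ_eq F t with ⟨U₂, hxU₂, t, rfl⟩
  rw [TopCat.Presheaf.stalkFunctor_map_germ_apply, TopCat.Presheaf.stalkFunctor_map_germ_apply] at hst
  obtain ⟨W, hxW, iWU₁, iWU₂, heq⟩ := G.germ_eq x hxU₁ hxU₂ _ _ hst
  let j₁ : W ⊓ W₁ ⟶ U₁ := homOfLE (inf_le_left : W ⊓ W₁ ≤ W) ≫ iWU₁
  let j₂ : W ⊓ W₁ ⟶ U₂ := homOfLE (inf_le_left : W ⊓ W₁ ≤ W) ≫ iWU₂
  have e₁ : G.map j₁.op = G.map iWU₁.op ≫ G.map (homOfLE (inf_le_left : W ⊓ W₁ ≤ W)).op := by
    rw [← G.map_comp]; rfl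
  have e₂ : G.map j₂.op = G.map iWU₂.op ≫ G.map (homOfLE (inf_le_left : W ⊓ W₁ ≤ W)).op := by
    rw [← G.map_comp]; rfl
  have heq' : G.map j₁.op (φ.app (op U₁) s) = G.map j₂.op (φ.app (op U₂) t) := by
    rw [e₁, e₂, ConcreteCategory.comp_apply, ConcreteCategory.comp_apply, heq]
  rw [← ConcreteCategory.comp_apply, ← ConcreteCategory.comp_apply, ← φ.naturality, ← φ.naturality,
    ConcreteCategory.comp_apply, ConcreteCategory.comp_apply] at heq'
  replace heq' := h (W ⊓ W₁) inf_le_right heq'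
  have hxW' : x ∈ W ⊓ W₁ := ⟨hxW, hx⟩
  convert! congr_arg (F.germ _ x hxW') heq' using 1
  exacts [(F.germ_res_apply j₁ x hxW' s).symm, (F.germ_res_apply j₂ x hxW' t).symm]

section D

variable [QuasiCompact f] [QuasiSeparated f] (W : Y.Opens) (hW : IsAffineOpen W) (s : Γ(Y, W))
  (hs : ∀ b : Γ(X, f ⁻¹ᵁ W), ∃ a : Γ(Y, W), b * (f.app W).hom s = (f.app W).hom a)
  (hinj : ∀ V : Y.Opens, V ≤ W → Function.Injective (f.app V).hom)

include hW hs hinj in
/-- `O_Y(V) → O_X(f⁻¹V)` is bijective for every open `V ≤ D(s)` -/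
theorem app_bijective (V : Y.Opens) (hV : V ≤ Y.basicOpen s) :
    Function.Bijective (f.app V).hom := by
  have hVW : V ≤ W := hV.trans (Y.basicOpen_le s)
  refine ⟨hinj V hVW, ?_⟩
  have hstalk : ∀ x ∈ V, Function.Injective
      ((TopCat.Presheaf.stalkFunctor CommRingCat x).map (cSh f).hom) := fun x hx =>
    stalkFunctor_map_injective_of_app_injective_le (φ := (cSh f).hom) W
      (fun U hU => hinj U hU) x (hVW hx)
  refine TopCat.Presheaf.app_surjective_of_injective_of_locally_surjective (cSh f) V hstalk ?_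
  intro t x hx
  have hxW : x ∈ W := Y.basicOpen_le s (hV hx)
  obtain ⟨r, hrV, hxr⟩ := hW.exists_basicOpen_le (V := V) ⟨x, hx⟩ hxW
  obtain ⟨c, hc⟩ := app_basicOpen_surjective f W hW s hs r (hrV.trans hV)
    ((X.presheaf.map (homOfLE (f.preimage_mono hrV)).op).hom t)
  exact ⟨Y.basicOpen r, hxr, homOfLE hrV, c, hc⟩

include hW hs hinj in
theorem isIso_app (V : Y.Opens) (hV : V ≤ Y.basicOpen s) : IsIso (f.app V) :=
  (ConcreteCategory.isIso_iff_bijective _).mpr (app_bijective f W hW s hs hinj V hV)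

end D

/-- **S2393** -/
theorem main [IsProper f] [Flat f] [IsLocallyNoetherian Y]
    (hy : Function.Bijective (algebraMap (Y.residueField y) Γ(f.fiber y, ⊤))) :
    ∃ U : Y.Opens, y ∈ U ∧ ∀ V : Y.Opens, V ≤ U → IsIso (f.app V) := by
  obtain ⟨W₀, hyW₀, hW₀⟩ := exists_open_le_range f y hy
  obtain ⟨_, ⟨W, hW : IsAffineOpen W, rfl⟩, hyW, hWW₀⟩ :=
    Y.isBasis_affineOpens.exists_subset_of_mem_open hyW₀ W₀.2
  obtain ⟨s, hys, hs⟩ := Groth.Agent.Lib.H9Pfb7.exists_section f y hy W hW hyW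
  refine ⟨Y.basicOpen s, hys, fun V hV => ?_⟩
  exact isIso_app f W hW s hs
    (fun V' hV' => app_injective_of_flat_of_le_range f V' (fun y' hy' => hW₀ y' (hWW₀ (hV' hy')))) V hV

end Groth.Agent.Lib.H9Pfb8
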