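import Mathlib
import Groth.Agent.Lib.H9SteinConn

/-! helper9: `hh0LinearEquiv` (H^0(X,O_X) ≃ₗ[k] Γ(X,⊤)), `finrank_global_eq_one` (proper, geometrically reduced and connected over a field ⇒ global functions are the constants), `main` = S1536. -/

set_option autoImplicit false
universe u

namespace Groth.Agent.Lib.H9SteinH0

open CategoryTheory CategoryTheory.Limits AlgebraicGeometry TopologicalSpace Opposite TensorProduct
open Groth.Agent.Lib.H9SteinAlg Groth.Agent.Lib.H9SteinConn Groth.Agent.Lib.H9NormFin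

/-- `H^0(X, O_X) ≃ₗ[k] Γ(X, ⊤)` for `X` over `Spec k`. -/
noncomputable def hh0LinearEquiv (k : Type u) [Field k] (X : Scheme.{u})
    [X.Over (Spec (CommRingCat.of k))] :
    letI := algΓ k (X ↘ Spec (CommRingCat.of k))
    Coh.HH X (Coh.structureModule X) 0 ≃ₗ[k] Γ(X, ⊤) := by
  letI := algΓ k (X ↘ Spec (CommRingCat.of k))
  let e0 := hh0Equiv X (Coh.structureModule X)
  exact
    { toFun := fun x => (e0 x : Coh.Γtop X)
      invFun := fun y => e0.symm y
      left_inv := fun x => e0.symm_apply_apply x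
      right_inv := fun y => e0.apply_symm_apply y
      map_add' := fun x y => map_add e0 x y
      map_smul' := fun a x => by
        have h1 : e0 (a • x) = e0 ((Coh.toGlobal (X ↘ Spec (CommRingCat.of k)) a) • x) := rfl
        rw [h1, hh0Equiv_smul, Coh.smulAb_app, resTop_top]
        rfl }

/-- global functions on a proper geometrically reduced and geometrically connected `k`-scheme
are the constants -/
theorem finrank_global_eq_one (k : Type u) [Field k] {X : Scheme.{u}}
    (f : X ⟶ Spec (CommRingCat.of k)) [IsProper f] [GeometricallyReduced f]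
    [GeometricallyConnected f] :
    letI := algΓ k f
    Module.finrank k Γ(X, ⊤) = 1 := by
  letI := algΓ k f
  haveI : CompactSpace X := (quasiCompact_iff_compactSpace f).mp inferInstance
  haveI : QuasiSeparatedSpace X := (quasiSeparated_iff_quasiSeparatedSpace f).mp inferInstance
  haveI : Module.Finite k Γ(X, ⊤) := finite_toGlobal k f
  let K := AlgebraicClosure k
  obtain ⟨e⟩ := nonempty_tensorEquiv k f K
  let XK := pullback f (Spec.map (CommRingCat.ofHom (algebraMap k K)))
  haveI hred : IsReduced XK :=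
    pullback_of_geometrically (GeometricallyReduced.geometrically_isReduced (f := f)) K _
  haveI hconn : ConnectedSpace XK :=
    pullback_of_geometrically (GeometricallyConnected.geometrically_connectedSpace (f := f)) K _
  let e' : K ⊗[k] Γ(X, ⊤) ≃+* Γ(XK, ⊤) :=
    (Algebra.TensorProduct.comm k K Γ(X, ⊤)).toRingEquiv.trans e
  obtain ⟨hne, hti⟩ := (connectedSpace_iff_trivIdem XK).mp hconn
  haveI := hne
  haveI := nontrivial_of_nonempty XK
  haveI : Nontrivial (K ⊗[k] Γ(X, ⊤)) := e'.symm.injective.nontrivial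
  haveI : IsReduced (K ⊗[k] Γ(X, ⊤)) := isReduced_of_injective e'.toRingHom e'.injective
  have hti' : TrivIdem (K ⊗[k] Γ(X, ⊤)) := hti.of_ringEquiv e'.symm
  haveI : IsArtinianRing (K ⊗[k] Γ(X, ⊤)) := IsArtinianRing.of_finite K (K ⊗[k] Γ(X, ⊤))
  haveI : IsLocalRing (K ⊗[k] Γ(X, ⊤)) := isLocalRing_of_trivIdem hti'
  have hfield : IsField (K ⊗[k] Γ(X, ⊤)) := IsArtinianRing.isField_of_isReduced_of_isLocalRing _
  haveI : IsDomain (K ⊗[k] Γ(X, ⊤)) := hfield.isDomain
  haveI : Algebra.IsIntegral K (K ⊗[k] Γ(X, ⊤)) := Algebra.IsIntegral.of_finite K _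
  have hbij : Function.Bijective (algebraMap K (K ⊗[k] Γ(X, ⊤))) :=
    IsAlgClosed.algebraMap_bijective_of_isIntegral
  have h1 : Module.finrank K (K ⊗[k] Γ(X, ⊤)) = 1 := by
    have := (LinearEquiv.ofBijective (Algebra.linearMap K (K ⊗[k] Γ(X, ⊤))) hbij).finrank_eq
    rw [← this, Module.finrank_self]
  rw [← Module.finrank_baseChange (R := K) (S := k) (M' := Γ(X, ⊤))]
  exact h1

theorem main (k : Type u) [Field k] (X : Scheme.{u}) [X.Over (Spec (CommRingCat.of k))]
    [IsProper (X ↘ (Spec (CommRingCat.of k)))]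
    [GeometricallyReduced (X ↘ (Spec (CommRingCat.of k)))]
    [GeometricallyConnected (X ↘ (Spec (CommRingCat.of k)))] :
    Module.finrank k (Coh.HH X (Coh.structureModule X) 0) = 1 := by
  letI := algΓ k (X ↘ Spec (CommRingCat.of k))
  rw [(hh0LinearEquiv k X).finrank_eq]
  exact finrank_global_eq_one k (X ↘ Spec (CommRingCat.of k))

end Groth.Agent.Lib.H9SteinH0
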