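import Mathlib
import Groth.Agent.Lib.H9CbE
import Groth.Agent.Lib.H9Pfb8
import Groth.Agent.Lib.H9SteinH0
import Groth.Agent.Lib.Helper23PB
import Groth.Agent.Lib.R2H3SchemDense
import Groth.Agent.Lib.Helper20PullbackAff
set_option backward.isDefEq.respectTransparency.types false

/-! helper9: `hh0LinearEquiv` (H^0(X,O) ≃ₗ[B] Γ(X,⊤) over any ring B), `fiberRank_eq_one`, `bijective_appTop` (Lemma L: X'/B base change of proper flat X/A, A Noetherian, all fibres of X'→Spec B with Γ = κ ⇒ B = Γ(X',O)). -/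

set_option autoImplicit false
set_option linter.unusedSectionVars false
universe u
open CategoryTheory CategoryTheory.Limits AlgebraicGeometry TopologicalSpace Opposite

noncomputable section

namespace Groth.Agent.Lib.H9CbF

open Groth.Agent.Lib.H9CbA Groth.Agent.Lib.H9CbE Groth.Agent.Lib.R2H2.FibRank
  Groth.Agent.Lib.R2H2.ABC Groth.Agent.Lib.H9NormFin

/-- the `B`-algebra structure on global sections -/
abbrev algΓ (B : Type u) [CommRing B] {X : Scheme.{u}} (f : X ⟶ Spec (CommRingCat.of B)) :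
    Algebra B Γ(X, ⊤) :=
  (f.appTop.hom.comp (Scheme.ΓSpecIso (CommRingCat.of B)).inv.hom).toAlgebra

/-- `H^0(X, O_X) ≃ₗ[B] Γ(X, ⊤)` for `X` over `Spec B`. -/
def hh0LinearEquiv (B : Type u) [CommRing B] (X : Scheme.{u})
    [X.Over (Spec (CommRingCat.of B))] :
    letI := algΓ B (X ↘ Spec (CommRingCat.of B))
    Coh.HH X (Coh.structureModule X) 0 ≃ₗ[B] Γ(X, ⊤) := by
  letI := algΓ B (X ↘ Spec (CommRingCat.of B))
  let e0 := hh0Equiv X (Coh.structureModule X)
  exact
    { toFun := fun x => (e0 x : Coh.Γtop X)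
      invFun := fun y => e0.symm y
      left_inv := fun x => e0.symm_apply_apply x
      right_inv := fun y => e0.apply_symm_apply y
      map_add' := fun x y => map_add e0 x y
      map_smul' := fun a x => by
        have h1 : e0 (a • x) = e0 ((Coh.toGlobal (X ↘ Spec (CommRingCat.of B)) a) • x) := rfl
        rw [h1, hh0Equiv_smul, Coh.smulAb_app, resTop_top]
        rfl }

end Groth.Agent.Lib.H9CbF

noncomputable section

namespace Groth.Agent.Lib.H9CbF

open Groth.Agent.Lib.H9CbA Groth.Agent.Lib.H9CbE Groth.Agent.Lib.R2H2.FibRank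
  Groth.Agent.Lib.R2H2.ABC Groth.Agent.Lib.H9NormFin


/-- the fibre rank in degree `0` of a module isomorphic to the structure sheaf is one when the
global functions of the fibre are the residue field -/
theorem fiberRank_eq_one {X S : Scheme.{u}} (f : X ⟶ S) (M : X.Modules)
    (ε : M ≅ Coh.structureModule X) (q : S)
    (hq : Function.Bijective (f.fiberToSpecResidueField q).appTop.hom) :
    CohIII.fiberRank f M 0 q = 1 := by
  unfold CohIII.fiberRank
  letI := CohIII.fiberOver f q
  letI := algΓ (S.residueField q) (f.fiberToSpecResidueField q)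
  let ε' : CohIII.fiberMod f M q ≅ Coh.structureModule (f.fiber q) :=
    (Scheme.Modules.pullback (f.fiberι q)).mapIso ε ≪≫
      Groth.Agent.Lib.Helper23.PB.pullbackUnitIso (f.fiberι q)
  have l1 : CohIII.fiberH f M q 0 ≃ₗ[S.residueField q]
      Coh.HH (f.fiber q) (Coh.structureModule (f.fiber q)) 0 := HHLinEquiv ε' 0
  have l2 := hh0LinearEquiv (S.residueField q) (f.fiber q)
  have hb : Function.Bijective (algebraMap (S.residueField q) Γ(f.fiber q, ⊤)) := by
    have h1 : Function.Bijective (Scheme.ΓSpecIso (S.residueField q)).inv.hom :=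
      ConcreteCategory.bijective_of_isIso _
    exact hq.comp h1
  have l3 : (S.residueField q) ≃ₗ[S.residueField q] Γ(f.fiber q, ⊤) :=
    LinearEquiv.ofBijective (Algebra.linearMap _ _) hb
  exact (l1.finrank_eq.trans l2.finrank_eq).trans
    (l3.finrank_eq.symm.trans (Module.finrank_self _))

end Groth.Agent.Lib.H9CbF

noncomputable section

namespace Groth.Agent.Lib.H9CbF

open Groth.Agent.Lib.H9CbA Groth.Agent.Lib.H9CbE Groth.Agent.Lib.R2H2.FibRank
  Groth.Agent.Lib.R2H2.ABC Groth.Agent.Lib.H9NormFin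

variable {A B : Type u} [CommRing A] [IsNoetherianRing A] [CommRing B] [Algebra A B]
  {X X' : Scheme.{u}} [X.Over (Spec (CommRingCat.of A))] [X'.Over (Spec (CommRingCat.of B))]
  [IsProper (X ↘ Spec (CommRingCat.of A))] [Flat (X ↘ Spec (CommRingCat.of A))]
  (g' : X' ⟶ X)
  (h : IsPullback g' (X' ↘ Spec (CommRingCat.of B)) (X ↘ Spec (CommRingCat.of A))
    (Spec.map (CommRingCat.ofHom (algebraMap A B))))

include h in
/-- **Lemma L**: for the base change `X'/B` of a proper flat scheme over a Noetherian ring `A`,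
if all fibres of `X' → Spec B` have only constant global functions then `B = Γ(X', O)`. -/
theorem bijective_appTop
    (hfib : ∀ q : ↥(Spec (CommRingCat.of B)), Function.Bijective
      ((X' ↘ Spec (CommRingCat.of B)).fiberToSpecResidueField q).appTop.hom) :
    Function.Bijective (X' ↘ Spec (CommRingCat.of B)).appTop.hom := by
  let F := Coh.structureModule X
  have hF : Coh.IsCoh F :=
    ⟨Groth.Agent.Lib.Helper23.Serre.isQuasicoherent_structureModule' X,
      Groth.Agent.Lib.R2H2.PnFinite.isFiniteType_structureModule X⟩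
  have hfl : FlatMod.IsFlatOver (X ↘ Spec (CommRingCat.of A)) F :=
    Groth.Agent.Lib.R2H3.SchemDense.isFlatOver_structureModule _
  obtain ⟨Q, b, hQ, hQz, hQv, hQi⟩ := Groth.Agent.Lib.R2H2.Bridge.bridge' A X F hF hfl
  haveI : F.IsQuasicoherent := hF.1
  haveI : CompactSpace X :=
    QuasiCompact.compactSpace_of_compactSpace (X ↘ Spec (CommRingCat.of A))
  have e₀ : CohIII.TFun Q 0 ⋙ forget₂ (ModuleCat.{u} A) AddCommGrpCat.{u} ≅
      CohIII.tensorAFunctor A F ⋙ CohIII.HAb X 0 := (hQi 0).some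
  let K := CohIII.bcCx (algebraMap A B) Q
  have hK : Hyp K := hyp_bcCx Q hQ (hQv 1 one_pos)
  -- properties of the base change
  haveI : IsProper (X' ↘ Spec (CommRingCat.of B)) :=
    MorphismProperty.of_isPullback h inferInstance
  haveI : Flat (X' ↘ Spec (CommRingCat.of B)) :=
    MorphismProperty.of_isPullback h inferInstance
  haveI : CompactSpace X' :=
    QuasiCompact.compactSpace_of_compactSpace (X' ↘ Spec (CommRingCat.of B))
  obtain ⟨e'⟩ := nonempty_bridge_baseChange g' h F Q 0 0 e₀
  -- ranks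
  haveI : (F' g' F).IsQuasicoherent := inferInstance
  haveI : IsSeparated (X' ↘ Spec (CommRingCat.of B)) := inferInstance
  have hrk : ∀ q : ↥(Spec (CommRingCat.of B)),
      CohIII.fiberRank (X' ↘ Spec (CommRingCat.of B)) (F' g' F) 0 q =
        CohIII.dRank (CohIII.bcCx (algebraMap A B) Q) 0 q :=
    fun q => fiberRank_eq_dRank (A := B) (X := X') (F' g' F)
      (CohIII.bcCx (algebraMap A B) Q) (fun i => hK.flat i) 0 0 e' q
  have hfr : ∀ q : ↥(Spec (CommRingCat.of B)),
      CohIII.fiberRank (X' ↘ Spec (CommRingCat.of B)) (F' g' F) 0 q = 1 := fun q =>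
    fiberRank_eq_one (X' ↘ Spec (CommRingCat.of B)) (F' g' F)
      (Groth.Agent.Lib.Helper23.PB.pullbackUnitIso g') q (hfib q)
  have hr : ∀ q : PrimeSpectrum B, CohIII.dRank K 0 q = 1 := fun q =>
    (hrk q).symm.trans (hfr q)
  -- the comparison
  obtain ⟨l⟩ := nonempty_HH_linearEquiv g' h F Q 0 0 e₀
  letI := algΓ B (X' ↘ Spec (CommRingCat.of B))
  let E : Γ(X', ⊤) ≃ₗ[B] K.homology 0 :=
    (hh0LinearEquiv B X').symm ≪≫ₗ
      (HHLinEquiv (Groth.Agent.Lib.Helper23.PB.pullbackUnitIso g') 0).symm ≪≫ₗ l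
  -- injectivity
  have hsurj : ∀ q : ↥(Spec (CommRingCat.of B)), ∃ x, (X' ↘ Spec (CommRingCat.of B)) x = q := by
    intro q
    haveI : Nontrivial Γ((X' ↘ Spec (CommRingCat.of B)).fiber q, ⊤) := by
      have h1 : Function.Bijective (Scheme.ΓSpecIso ((Spec (CommRingCat.of B)).residueField q)).inv.hom :=
        ConcreteCategory.bijective_of_isIso _
      exact ((hfib q).comp h1).injective.nontrivial
    obtain ⟨z⟩ := Groth.Agent.Lib.H9SteinConn.nonempty_of_nontrivial
      ((X' ↘ Spec (CommRingCat.of B)).fiber q)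
    have hz : (X' ↘ Spec (CommRingCat.of B)).fiberι q z ∈
        (X' ↘ Spec (CommRingCat.of B)) ⁻¹' {q} := by
      rw [← (X' ↘ Spec (CommRingCat.of B)).range_fiberι q]
      exact Set.mem_range_self z
    exact ⟨(X' ↘ Spec (CommRingCat.of B)).fiberι q z, hz⟩
  have hinj0 : Function.Injective (X' ↘ Spec (CommRingCat.of B)).appTop.hom :=
    Groth.Agent.Lib.H9Pfb8.app_injective_of_flat_of_le_range _ ⊤ (fun q _ => hsurj q)
  have h1 : Function.Bijective (Scheme.ΓSpecIso (CommRingCat.of B)).inv.hom :=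
    ConcreteCategory.bijective_of_isIso _
  have hinj : Function.Injective (algebraMap B Γ(X', ⊤)) := hinj0.comp h1.injective
  have hbij := Groth.Agent.Lib.H9CbD.core hK hr Γ(X', ⊤) hinj E
  have h2 : (X' ↘ Spec (CommRingCat.of B)).appTop.hom =
      (algebraMap B Γ(X', ⊤)).comp (Scheme.ΓSpecIso (CommRingCat.of B)).hom.hom := by
    ext x
    show _ = (X' ↘ Spec (CommRingCat.of B)).appTop.hom
      ((Scheme.ΓSpecIso (CommRingCat.of B)).inv.hom ((Scheme.ΓSpecIso (CommRingCat.of B)).hom.hom x))
    congr 1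
    exact (ConcreteCategory.congr_hom (Scheme.ΓSpecIso (CommRingCat.of B)).hom_inv_id x).symm
  rw [h2]
  exact hbij.comp (ConcreteCategory.bijective_of_isIso (Scheme.ΓSpecIso (CommRingCat.of B)).hom)

end Groth.Agent.Lib.H9CbF
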