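import Mathlib
import Groth.Agent.Lib.H9CbF
import Groth.Agent.Lib.Helper12AffineDescent
set_option backward.isDefEq.respectTransparency.types false

/-! helper9: `flat_specMap_field`, `isIso_fiber_appTop_of_isPullback` (the condition Γ(fibre) = κ is stable under base change), `isIso_appTop_of_model` (Lemma M: affine target, affine Noetherian model). -/

set_option autoImplicit false
set_option linter.unusedSectionVars false
universe u
open CategoryTheory CategoryTheory.Limits AlgebraicGeometry TopologicalSpace Opposite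

noncomputable section

namespace Groth.Agent.Lib.H9CbG

/-- `Spec` of a homomorphism of fields is flat -/
theorem flat_specMap_field {k K : CommRingCat.{u}} [hk : Fact (IsField k)] (φ : k ⟶ K) :
    Flat (Spec.map φ) := by
  letI : Field k := hk.out.toField
  rw [Flat.SpecMap_iff]
  algebraize [φ.hom]
  change (algebraMap k K).Flat
  rw [RingHom.flat_algebraMap_iff]
  infer_instance

/-- **transfer of the fibre condition along a base change** -/
theorem isIso_fiber_appTop_of_isPullback {P X Y Z : Scheme.{u}} {fst : P ⟶ X} {snd : P ⟶ Y}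
    {f : X ⟶ Z} {g : Y ⟶ Z} (h : IsPullback fst snd f g) [QuasiCompact f] [QuasiSeparated f]
    (y : Y) (hy : IsIso (f.fiberToSpecResidueField (g y)).appTop) :
    IsIso (snd.fiberToSpecResidueField y).appTop := by
  have H := isPullback_fiberToSpecResidueField_of_isPullback h y
  haveI : Flat (Spec.map (g.residueFieldMap y)) := by
    haveI : Fact (IsField (Z.residueField (g y))) := ⟨Field.toIsField _⟩
    exact flat_specMap_field _
  haveI : QuasiSeparated (f.fiberToSpecResidueField (g y)) :=
    inferInstanceAs (QuasiSeparated (pullback.snd f (Z.fromSpecResidueField (g y))))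
  haveI : QuasiSeparatedSpace (f.fiber (g y)) :=
    quasiSeparatedSpace_of_quasiSeparated (f.fiberToSpecResidueField (g y))
  haveI : QuasiSeparatedSpace ↥(pullback f (Z.fromSpecResidueField (g y))) :=
    ‹QuasiSeparatedSpace (f.fiber (g y))›
  haveI : CompactSpace ↥(pullback f (Z.fromSpecResidueField (g y))) :=
    inferInstanceAs (CompactSpace (f.fiber (g y)))
  have hpo := Groth.Agent.Lib.Helper12.isPushout_appTop H
  exact hpo.isIso_inr_of_isIso hy

end Groth.Agent.Lib.H9CbG

noncomputable section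

namespace Groth.Agent.Lib.H9CbG

/-- **Lemma M**: a base change, to an affine scheme, of a proper flat morphism over an affine
Noetherian scheme, with all fibres having only constant functions, has `Γ(T) = Γ(X')`. -/
theorem isIso_appTop_of_model {X' T X₀ S₀ : Scheme.{u}} (f' : X' ⟶ T) [IsAffine T]
    (f₀ : X₀ ⟶ S₀) [IsProper f₀] [Flat f₀] [IsAffine S₀] [IsNoetherianRing Γ(S₀, ⊤)]
    (g : T ⟶ S₀) (g' : X' ⟶ X₀) (sq : IsPullback g' f' f₀ g)
    (hfib : ∀ t : T, IsIso (f'.fiberToSpecResidueField t).appTop) : IsIso f'.appTop := by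
  letI : Algebra Γ(S₀, ⊤) Γ(T, ⊤) := g.appTop.hom.toAlgebra
  letI : X₀.Over (Spec (CommRingCat.of Γ(S₀, ⊤))) := ⟨f₀ ≫ S₀.isoSpec.hom⟩
  letI : X'.Over (Spec (CommRingCat.of Γ(T, ⊤))) := ⟨f' ≫ T.isoSpec.hom⟩
  haveI : IsProper (X₀ ↘ Spec (CommRingCat.of Γ(S₀, ⊤))) :=
    inferInstanceAs (IsProper (f₀ ≫ S₀.isoSpec.hom))
  haveI : Flat (X₀ ↘ Spec (CommRingCat.of Γ(S₀, ⊤))) :=
    inferInstanceAs (Flat (f₀ ≫ S₀.isoSpec.hom))
  haveI : IsProper f' := MorphismProperty.of_isPullback sq inferInstance
  have hiso : IsPullback g T.isoSpec.hom S₀.isoSpec.hom (Spec.map g.appTop) :=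
    IsPullback.of_vert_isIso ⟨(Scheme.isoSpec_hom_naturality g).symm⟩
  have h : IsPullback g' (X' ↘ Spec (CommRingCat.of Γ(T, ⊤)))
      (X₀ ↘ Spec (CommRingCat.of Γ(S₀, ⊤)))
      (Spec.map (CommRingCat.ofHom (algebraMap Γ(S₀, ⊤) Γ(T, ⊤)))) := sq.paste_vert hiso
  have hfib' : ∀ q : ↥(Spec (CommRingCat.of Γ(T, ⊤))), Function.Bijective
      ((X' ↘ Spec (CommRingCat.of Γ(T, ⊤))).fiberToSpecResidueField q).appTop.hom := by
    intro q
    have sq2 : IsPullback (𝟙 X') (f' ≫ T.isoSpec.hom) f' T.isoSpec.inv :=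
      IsPullback.of_horiz_isIso ⟨by simp⟩
    haveI := isIso_fiber_appTop_of_isPullback sq2 q (hfib _)
    exact ConcreteCategory.bijective_of_isIso
      ((f' ≫ T.isoSpec.hom).fiberToSpecResidueField q).appTop
  have hb := Groth.Agent.Lib.H9CbF.bijective_appTop g' h hfib'
  have h1 : (X' ↘ Spec (CommRingCat.of Γ(T, ⊤))).appTop = T.isoSpec.hom.appTop ≫ f'.appTop :=
    Scheme.Hom.comp_appTop _ _
  rw [h1] at hb
  haveI : IsIso T.isoSpec.hom.appTop := by
    haveI : IsIso (T.isoSpec.hom) := Iso.isIso_hom _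
    exact (inferInstance : IsIso ((T.isoSpec.hom).app ⊤))
  have h3 : Function.Bijective f'.appTop.hom := by
    have : f'.appTop.hom = (T.isoSpec.hom.appTop ≫ f'.appTop).hom ∘
        (inv T.isoSpec.hom.appTop).hom := by
      ext x
      simp
    rw [this]
    exact hb.comp (ConcreteCategory.bijective_of_isIso (inv T.isoSpec.hom.appTop))
  exact (ConcreteCategory.isIso_iff_bijective _).mpr h3

end Groth.Agent.Lib.H9CbG
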