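import Mathlib
import Groth.Prelude
import Groth.Agent.S0590
import Groth.Agent.S0591
import Groth.Agent.S2074
import Groth.Agent.S2075
import Groth.Agent.Lib.Helper22NA4

/-!
# Noetherian approximation of proper flat morphisms of finite presentation (helper4, round 2)

`exists_proper_flat_model`: a proper flat morphism locally of finite presentation `f : X ⟶ S` with `S`
quasi-compact and quasi-separated is the base change of a proper flat morphism locally of finite presentation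
`f₀ : X₀ ⟶ S₀` with `S₀` Noetherian (quasi-compact and locally of finite type over `ℤ`).

Assembled from `S0590` (approximation of the base), `S0591` (descent of finitely presented morphisms),
`S2074` (descent of properness), `S2075` (descent of flatness).
-/

set_option autoImplicit false
universe u
open CategoryTheory CategoryTheory.Limits AlgebraicGeometry TopologicalSpace

namespace Groth.Agent.Lib.R2H4NoethApprox

section stage

variable {J : Type u} [SmallCategory J] (D : J ⥤ Scheme.{u})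

/-- if the base change of `f₀` to some stage `i` has a base-change-stable property, so does the base change
to any later stage. -/
theorem prop_snd_of_stage (P : MorphismProperty Scheme.{u}) [P.IsStableUnderBaseChange]
    [P.RespectsIso] {i₀ : J} {X₀ : Scheme.{u}} (f₀ : X₀ ⟶ D.obj i₀)
    {i : J} (φ : i ⟶ i₀) {Xi Yi : Scheme.{u}} (fi : Xi ⟶ Yi) (gi : Yi ⟶ D.obj i)
    (pY : Yi ⟶ D.obj i₀) (pX : Xi ⟶ X₀)
    (h1 : IsPullback pY gi (𝟙 (D.obj i₀)) (D.map φ)) (h2 : IsPullback pX fi f₀ pY) (hP : P fi)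
    {j : J} (ψ : j ⟶ i) : P (pullback.snd f₀ (D.map (ψ ≫ φ))) := by
  haveI : IsIso gi := h1.isIso_snd_of_isIso
  have hP' : P (fi ≫ gi) := (P.cancel_right_of_respectsIso fi gi).2 hP
  have hR : IsPullback pX (fi ≫ gi) (f₀ ≫ 𝟙 _) (D.map φ) := h2.paste_vert h1
  rw [Category.comp_id] at hR
  rw [D.map_comp]
  have big := IsPullback.of_hasPullback f₀ (D.map ψ ≫ D.map φ)
  let l : pullback f₀ (D.map ψ ≫ D.map φ) ⟶ Xi :=
    hR.lift (pullback.fst _ _) (pullback.snd _ _ ≫ D.map ψ) (by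
      rw [Category.assoc]; exact pullback.condition)
  have t : IsPullback (l ≫ pX) (pullback.snd f₀ (D.map ψ ≫ D.map φ)) f₀
      (D.map ψ ≫ D.map φ) := by
    rw [hR.lift_fst]; exact big
  have sq : IsPullback l (pullback.snd f₀ (D.map ψ ≫ D.map φ)) (fi ≫ gi) (D.map ψ) :=
    IsPullback.of_right t (hR.lift_snd _ _ _) hR
  exact P.of_isPullback sq hP'

end stage

theorem exists_proper_flat_model {X S : Scheme.{u}} (f : X ⟶ S) [IsProper f] [Flat f]
    [LocallyOfFinitePresentation f] [CompactSpace S] [QuasiSeparatedSpace S] :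
    ∃ (X₀ S₀ : Scheme.{u}) (f₀ : X₀ ⟶ S₀) (g : S ⟶ S₀) (g' : X ⟶ X₀),
      IsPullback g' f f₀ g ∧ IsNoetherian S₀ ∧ IsProper f₀ ∧ Flat f₀ ∧
        LocallyOfFinitePresentation f₀ := by
  obtain ⟨I, _, _, _, D, c, hc, hAff, hD, ⟨e⟩⟩ := Groth.Agent.S0590.result S
  haveI : ∀ (i j : Iᵒᵖ) (a : i ⟶ j), IsAffineHom (D.map a) := hAff
  haveI : ∀ i, CompactSpace (D.obj i) := fun i => (hD i).1
  haveI : ∀ i, LocallyOfFiniteType (IsTerminal.from specULiftZIsTerminal (D.obj i)) :=
    fun i => (hD i).2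
  haveI : ∀ i, QuasiSeparatedSpace (D.obj i) := fun i =>
    Groth.Agent.Lib.Helper22.NA4.quasiSeparatedSpace_of_lft _
  haveI : ∀ i, IsLocallyNoetherian (D.obj i) := fun i =>
    Groth.Agent.Lib.Helper22.NA4.isLocallyNoetherian_of_lft _
  haveI : IsCofiltered Iᵒᵖ := inferInstance
  -- the morphism to the limit
  let f' : X ⟶ c.pt := f ≫ e.inv
  haveI : IsProper f' := inferInstanceAs (IsProper (f ≫ e.inv))
  haveI : Flat f' := inferInstanceAs (Flat (f ≫ e.inv))
  haveI : LocallyOfFinitePresentation f' :=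
    inferInstanceAs (LocallyOfFinitePresentation (f ≫ e.inv))
  obtain ⟨i₀, X₀, f₀, g₁, hlfp, hqc, hqs, hpb⟩ := Groth.Agent.S0591.result D c hc X f'
  haveI := hlfp
  haveI := hqc
  haveI := hqs
  haveI : CompactSpace X₀ := QuasiCompact.compactSpace_of_compactSpace f₀
  haveI : QuasiSeparatedSpace X₀ := quasiSeparatedSpace_of_quasiSeparated f₀
  have hY : IsPullback (c.π.app i₀) (𝟙 c.pt) (𝟙 (D.obj i₀)) (c.π.app i₀) := IsPullback.id_vert _
  obtain ⟨i, φ, Xi, Yi, fi, gi, pY, pX, h1, h2, hprop⟩ :=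
    Groth.Agent.S2074.result D c hc i₀ f₀ (𝟙 (D.obj i₀)) f' (𝟙 c.pt) (c.π.app i₀) g₁ hY hpb
  obtain ⟨i', φ', Xi', Yi', fi', gi', pY', pX', h1', h2', hflat⟩ :=
    Groth.Agent.S2075.result D c hc i₀ f₀ (𝟙 (D.obj i₀)) f' (𝟙 c.pt) (c.π.app i₀) g₁ hY hpb
  -- a common later stage
  obtain ⟨j, ψ, ψ', -⟩ := IsCofilteredOrEmpty.cone_objs i i'
  have hψ : ψ ≫ φ = ψ' ≫ φ' := Subsingleton.elim _ _
  have hP : IsProper (pullback.snd f₀ (D.map (ψ ≫ φ))) :=
    prop_snd_of_stage D @IsProper f₀ φ fi gi pY pX h1 h2 hprop ψ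
  have hF : Flat (pullback.snd f₀ (D.map (ψ ≫ φ))) := by
    rw [hψ]
    exact prop_snd_of_stage D @Flat f₀ φ' fi' gi' pY' pX' h1' h2' hflat ψ'
  have hL : LocallyOfFinitePresentation (pullback.snd f₀ (D.map (ψ ≫ φ))) := inferInstance
  have hN : IsNoetherian (D.obj j) := { }
  -- the pullback square
  have hw : c.π.app j ≫ D.map (ψ ≫ φ) = c.π.app i₀ := c.w (ψ ≫ φ)
  have big : IsPullback g₁ f' f₀ (c.π.app j ≫ D.map (ψ ≫ φ)) := by rw [hw]; exact hpb
  have hR := IsPullback.of_hasPullback f₀ (D.map (ψ ≫ φ))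
  let l : X ⟶ pullback f₀ (D.map (ψ ≫ φ)) :=
    hR.lift g₁ (f' ≫ c.π.app j) (by rw [Category.assoc]; exact big.w)
  have t : IsPullback (l ≫ pullback.fst f₀ (D.map (ψ ≫ φ))) f' f₀
      (c.π.app j ≫ D.map (ψ ≫ φ)) := by
    rw [hR.lift_fst]; exact big
  have sq : IsPullback l f' (pullback.snd f₀ (D.map (ψ ≫ φ))) (c.π.app j) :=
    IsPullback.of_right t (hR.lift_snd _ _ _) hR
  have hiso : IsPullback (𝟙 X) f f' e.inv := IsPullback.of_horiz_isIso ⟨by simp [f']⟩
  have sq' := hiso.paste_horiz sq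
  rw [Category.id_comp] at sq'
  exact ⟨_, _, pullback.snd f₀ (D.map (ψ ≫ φ)), e.inv ≫ c.π.app j, l, sq', hN, hP, hF, hL⟩

end Groth.Agent.Lib.R2H4NoethApprox
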