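import Mathlib
import Groth.Agent.Lib.H9CbG
import Groth.Agent.Lib.R2H4NoethApprox
import Groth.Agent.Lib.H9AlgClB
set_option backward.isDefEq.respectTransparency.types false

/-! helper9: `exists_nhd_affine`, `isIso_app_of_local` (gluing: flat surjective f with f.app V iso for small affine V ⇒ iso for all V), `exists_preimage`, `main` (= S0980: proper flat lfp over ANY base with Γ(X_s,O)=κ(s) for all s ⇒ O_S = f_*O_X). -/

set_option autoImplicit false
set_option linter.unusedSectionVars false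
universe u
open CategoryTheory CategoryTheory.Limits AlgebraicGeometry TopologicalSpace Opposite

noncomputable section

namespace Groth.Agent.Lib.H9CbH

open Groth.Agent.Lib.H9CbG Groth.Agent.Lib.H9AlgClB

/-- **(T2)** over an affine base: near every point, `f.app V` is an isomorphism for affine `V` -/
theorem exists_nhd_affine {X S : Scheme.{u}} (f : X ⟶ S) [IsProper f] [Flat f]
    [LocallyOfFinitePresentation f] [IsAffine S]
    (h : ∀ s : S, IsIso (f.fiberToSpecResidueField s).appTop) (s : S) :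
    ∃ U : S.Opens, s ∈ U ∧ ∀ V : S.Opens, IsAffineOpen V → V ≤ U → IsIso (f.app V) := by
  obtain ⟨X₀, S₀, f₀, g, g', sq, hN, hP, hFl, -⟩ :=
    Groth.Agent.Lib.R2H4NoethApprox.exists_proper_flat_model f
  obtain ⟨_, ⟨W₀, hW₀ : IsAffineOpen W₀, rfl⟩, hsW₀, -⟩ :=
    S₀.isBasis_affineOpens.exists_subset_of_mem_open (Set.mem_univ (g s)) isOpen_univ
  refine ⟨g ⁻¹ᵁ W₀, hsW₀, fun V hV hVU => ?_⟩
  -- the restricted square
  have sqr := Scheme.Hom.isPullback_resLE sq (US := W₀) (UT := V) (UX := f₀ ⁻¹ᵁ W₀)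
    hVU le_rfl (UY := f ⁻¹ᵁ V) (by
      rw [← Scheme.Hom.comp_preimage, sq.w, Scheme.Hom.comp_preimage]
      exact (inf_eq_right.mpr (f.preimage_mono hVU)).symm)
  haveI : IsAffine (↑V : Scheme.{u}) := hV
  haveI : IsAffine (↑W₀ : Scheme.{u}) := hW₀
  haveI : IsNoetherianRing Γ((↑W₀ : Scheme.{u}), ⊤) := by
    haveI : IsLocallyNoetherian S₀ := inferInstance
    haveI : IsNoetherianRing Γ(S₀, W₀) := IsLocallyNoetherian.component_noetherian ⟨W₀, hW₀⟩
    exact isNoetherianRing_of_ringEquiv _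
      ((Scheme.Opens.topIso (X := S₀) W₀).commRingCatIsoToRingEquiv).symm
  have e1 : f₀.resLE W₀ (f₀ ⁻¹ᵁ W₀) le_rfl = f₀ ∣_ W₀ := by
    simp [Scheme.Hom.resLE]
  have e2 : f.resLE V (f ⁻¹ᵁ V) le_rfl = f ∣_ V := by
    simp [Scheme.Hom.resLE]
  rw [e1, e2] at sqr
  haveI : IsProper (f₀ ∣_ W₀) := inferInstance
  haveI : Flat (f₀ ∣_ W₀) := inferInstance
  -- fibres of the restriction
  have hfibV : ∀ t : (↑V : Scheme.{u}), IsIso ((f ∣_ V).fiberToSpecResidueField t).appTop := by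
    intro t
    exact isIso_fiber_appTop_of_isPullback (isPullback_morphismRestrict f V).flip t (h _)
  have key := isIso_appTop_of_model (f ∣_ V) (f₀ ∣_ W₀) _ _ sqr hfibV
  -- back to `f.app V`
  have e3 := arrowResLEAppIso f V (f ⁻¹ᵁ V) le_rfl
  rw [e2] at e3
  have h4 : IsIso (Arrow.mk ((f ∣_ V).appTop)).hom := key
  have h5 : IsIso (Arrow.mk (f.appLE V (f ⁻¹ᵁ V) le_rfl)).hom :=
    (MorphismProperty.isomorphisms CommRingCat).arrow_mk_iso_iff e3 |>.mp h4
  have h6 : f.appLE V (f ⁻¹ᵁ V) le_rfl = f.app V := Scheme.Hom.appLE_eq_app _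
  rw [← h6]
  exact h5

end Groth.Agent.Lib.H9CbH

noncomputable section

namespace Groth.Agent.Lib.H9CbH

open Groth.Agent.Lib.H9CbG Groth.Agent.Lib.H9AlgClB

/-- **(T3)** gluing: a flat surjective morphism with `f.app V` an isomorphism for all small
affine opens `V` has `f.app V` an isomorphism for every open `V` -/
theorem isIso_app_of_local {X S : Scheme.{u}} (f : X ⟶ S) [Flat f] (hsurj : ∀ s : S, ∃ x, f x = s)
    (hloc : ∀ s : S, ∃ U : S.Opens, s ∈ U ∧
      ∀ V : S.Opens, IsAffineOpen V → V ≤ U → IsIso (f.app V))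
    (V : S.Opens) : IsIso (f.app V) := by
  have hinj : ∀ V : S.Opens, Function.Injective (f.app V).hom := fun V =>
    Groth.Agent.Lib.H9Pfb8.app_injective_of_flat_of_le_range f V (fun y _ => hsurj y)
  rw [ConcreteCategory.isIso_iff_bijective]
  refine ⟨hinj V, ?_⟩
  have hstalk : ∀ x ∈ V, Function.Injective
      ((TopCat.Presheaf.stalkFunctor CommRingCat x).map (cSh f).hom) := fun x _ =>
    TopCat.Presheaf.stalkFunctor_map_injective_of_app_injective (f := (cSh f).hom)
      (fun U => hinj U) x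
  refine TopCat.Presheaf.app_surjective_of_injective_of_locally_surjective (cSh f) V hstalk ?_
  intro t x hx
  obtain ⟨U, hxU, hU⟩ := hloc x
  obtain ⟨_, ⟨V', hV' : IsAffineOpen V', rfl⟩, hxV', hV'le⟩ :=
    S.isBasis_affineOpens.exists_subset_of_mem_open (show x ∈ ((V ⊓ U : S.Opens) : Set S) from
      ⟨hx, hxU⟩) (V ⊓ U).2
  have hV'V : V' ≤ V := fun y hy => (hV'le hy).1
  have hV'U : V' ≤ U := fun y hy => (hV'le hy).2
  haveI := hU V' hV' hV'U
  obtain ⟨c, hc⟩ := (ConcreteCategory.bijective_of_isIso (f.app V')).2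
    ((X.presheaf.map (homOfLE (f.preimage_mono hV'V)).op).hom t)
  exact ⟨V', hxV', homOfLE hV'V, c, hc⟩

end Groth.Agent.Lib.H9CbH

noncomputable section

namespace Groth.Agent.Lib.H9CbH

open Groth.Agent.Lib.H9CbG Groth.Agent.Lib.H9AlgClB

/-- the fibres are nonempty when their global functions are the residue field -/
theorem exists_preimage {X S : Scheme.{u}} (f : X ⟶ S)
    (h : ∀ s : S, IsIso (f.fiberToSpecResidueField s).appTop) (s : S) : ∃ x, f x = s := by
  haveI := h s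
  haveI : Nontrivial Γ(f.fiber s, ⊤) :=
    ((ConcreteCategory.bijective_of_isIso (f.fiberToSpecResidueField s).appTop).injective).nontrivial
  obtain ⟨z⟩ := Groth.Agent.Lib.H9SteinConn.nonempty_of_nontrivial (f.fiber s)
  have hz : f.fiberι s z ∈ f ⁻¹' {s} := by
    rw [← f.range_fiberι s]
    exact Set.mem_range_self z
  exact ⟨f.fiberι s z, hz⟩

/-- **S0980** -/
theorem main {X S : Scheme.{u}} (f : X ⟶ S) [IsProper f] [Flat f] [LocallyOfFinitePresentation f]
    (h : ∀ s : S, IsIso (f.fiberToSpecResidueField s).appTop) (V : S.Opens) : IsIso (f.app V) := by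
  refine isIso_app_of_local f (exists_preimage f h) (fun s => ?_) V
  obtain ⟨_, ⟨W', hW' : IsAffineOpen W', rfl⟩, hsW, -⟩ :=
    S.isBasis_affineOpens.exists_subset_of_mem_open (Set.mem_univ s) isOpen_univ
  obtain ⟨W, hWW'⟩ : ∃ W : S.Opens, W = W' := ⟨W', rfl⟩
  subst hWW'
  have hW : IsAffineOpen W := hW'
  refine ⟨W, hsW, fun V _ hVW => ?_⟩
  haveI : IsAffine (↑W : Scheme.{u}) := hW
  have hfibW : ∀ t : (↑W : Scheme.{u}), IsIso ((f ∣_ W).fiberToSpecResidueField t).appTop :=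
    fun t => isIso_fiber_appTop_of_isPullback (isPullback_morphismRestrict f W).flip t (h _)
  have hWall : ∀ V₁ : (↑W : Scheme.{u}).Opens, IsIso ((f ∣_ W).app V₁) :=
    isIso_app_of_local (f ∣_ W) (exists_preimage (f ∣_ W) hfibW)
      (fun t => exists_nhd_affine (f ∣_ W) hfibW t)
  have h1 := hWall (W.ι ⁻¹ᵁ V)
  rw [morphismRestrict_app] at h1
  have h2 : IsIso (f.app (W.ι ''ᵁ W.ι ⁻¹ᵁ V)) := by
    exact @IsIso.of_isIso_comp_right _ _ _ _ _ (f.app (W.ι ''ᵁ W.ι ⁻¹ᵁ V))
      (X.presheaf.map (eqToHom (image_morphismRestrict_preimage f W (W.ι ⁻¹ᵁ V))).op)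
      inferInstance h1
  have h3 : W.ι ''ᵁ W.ι ⁻¹ᵁ V = V := by
    rw [Scheme.Hom.image_preimage_eq_opensRange_inf, Scheme.Opens.opensRange_ι]
    exact inf_eq_right.mpr hVW
  rw [h3] at h2
  exact h2

end Groth.Agent.Lib.H9CbH
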