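import Mathlib
import Groth.Agent.Lib.H9CbH
import Groth.Agent.Lib.H9SteinH0
set_option backward.isDefEq.respectTransparency.types false

/-! helper9: `finrank_global_eq_one`/`isIso_appTop_of_algClosure` (proper k-scheme reduced and connected over the algebraic closure has Γ = k), `isIso_fiber_appTop`, `main` (= S0981). -/

set_option autoImplicit false
set_option linter.unusedSectionVars false
universe u

noncomputable section

namespace Groth.Agent.Lib.H9CbI

open CategoryTheory CategoryTheory.Limits AlgebraicGeometry TopologicalSpace Opposite TensorProduct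
open Groth.Agent.Lib.H9SteinAlg Groth.Agent.Lib.H9SteinConn Groth.Agent.Lib.H9NormFin

/-- global functions on a proper `k`-scheme which is reduced and connected over the algebraic
closure are the constants -/
theorem finrank_global_eq_one (k : Type u) [Field k] {X : Scheme.{u}}
    (f : X ⟶ Spec (CommRingCat.of k)) [IsProper f]
    (hred : IsReduced (pullback f (Spec.map (CommRingCat.ofHom
      (algebraMap k (AlgebraicClosure k))))))
    (hconn : ConnectedSpace ↥(pullback f (Spec.map (CommRingCat.ofHom
      (algebraMap k (AlgebraicClosure k)))))) :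
    letI := algΓ k f
    Module.finrank k Γ(X, ⊤) = 1 := by
  letI := algΓ k f
  haveI : CompactSpace X := (quasiCompact_iff_compactSpace f).mp inferInstance
  haveI : QuasiSeparatedSpace X := (quasiSeparated_iff_quasiSeparatedSpace f).mp inferInstance
  haveI : Module.Finite k Γ(X, ⊤) := finite_toGlobal k f
  let K := AlgebraicClosure k
  obtain ⟨e⟩ := nonempty_tensorEquiv k f K
  let XK := pullback f (Spec.map (CommRingCat.ofHom (algebraMap k K)))
  let e' : K ⊗[k] Γ(X, ⊤) ≃+* Γ(XK, ⊤) :=
    (Algebra.TensorProduct.comm k K Γ(X, ⊤)).toRingEquiv.trans e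
  obtain ⟨hne, hti⟩ := (connectedSpace_iff_trivIdem XK).mp hconn
  haveI := hne
  haveI := nontrivial_of_nonempty XK
  haveI : Nontrivial (K ⊗[k] Γ(X, ⊤)) := e'.symm.injective.nontrivial
  haveI : IsReduced (K ⊗[k] Γ(X, ⊤)) := isReduced_of_injective e'.toRingHom e'.injective
  have hti' : TrivIdem (K ⊗[k] Γ(X, ⊤)) := hti.of_ringEquiv e'.symm
  haveI : IsArtinianRing (K ⊗[k] Γ(X, ⊤)) := IsArtinianRing.of_finite K (K ⊗[k] Γ(X, ⊤))
  haveI : IsLocalRing (K ⊗[k] Γ(X, ⊤)) := isLocalRing_of_trivIdem hti'
  have hfield : IsField (K ⊗[k] Γ(X, ⊤)) := IsArtinianRing.isField_of_isReduced_of_isLocalRing _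
  haveI : IsDomain (K ⊗[k] Γ(X, ⊤)) := hfield.isDomain
  haveI : Algebra.IsIntegral K (K ⊗[k] Γ(X, ⊤)) := Algebra.IsIntegral.of_finite K _
  have hbij : Function.Bijective (algebraMap K (K ⊗[k] Γ(X, ⊤))) :=
    IsAlgClosed.algebraMap_bijective_of_isIntegral
  have h1 : Module.finrank K (K ⊗[k] Γ(X, ⊤)) = 1 := by
    have := (LinearEquiv.ofBijective (Algebra.linearMap K (K ⊗[k] Γ(X, ⊤))) hbij).finrank_eq
    rw [← this, Module.finrank_self]
  rw [← Module.finrank_baseChange (R := K) (S := k) (M' := Γ(X, ⊤))]
  exact h1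

/-- `k → Γ(C, O)` is an isomorphism for a proper `k`-scheme which is reduced and connected over
the algebraic closure -/
theorem isIso_appTop_of_algClosure (k : Type u) [Field k] {C : Scheme.{u}}
    (f : C ⟶ Spec (CommRingCat.of k)) [IsProper f]
    (hred : IsReduced (pullback f (Spec.map (CommRingCat.ofHom
      (algebraMap k (AlgebraicClosure k))))))
    (hconn : ConnectedSpace ↥(pullback f (Spec.map (CommRingCat.ofHom
      (algebraMap k (AlgebraicClosure k)))))) : IsIso f.appTop := by
  letI := algΓ k f
  have h := finrank_global_eq_one k f hred hconn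
  haveI : Module.Finite k Γ(C, ⊤) := finite_toGlobal k f
  haveI : Nontrivial Γ(C, ⊤) := by
    by_contra hn
    rw [not_nontrivial_iff_subsingleton] at hn
    have : Module.finrank k Γ(C, ⊤) = 0 := Module.finrank_zero_of_subsingleton
    omega
  have hbt : (⊥ : Subalgebra k Γ(C, ⊤)) = ⊤ := Subalgebra.bot_eq_top_of_finrank_eq_one h
  have hsurj : Function.Surjective (algebraMap k Γ(C, ⊤)) := by
    intro a
    have : a ∈ (⊥ : Subalgebra k Γ(C, ⊤)) := hbt ▸ Algebra.mem_top
    exact Algebra.mem_bot.mp this
  have hbij : Function.Bijective (algebraMap k Γ(C, ⊤)) :=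
    ⟨(algebraMap k Γ(C, ⊤)).injective, hsurj⟩
  have h2 : Function.Bijective (Scheme.ΓSpecIso (CommRingCat.of k)).hom.hom :=
    (ConcreteCategory.isIso_iff_bijective _).mp inferInstance
  have h3 : f.appTop.hom = (algebraMap k Γ(C, ⊤)).comp (Scheme.ΓSpecIso (CommRingCat.of k)).hom.hom := by
    ext a
    change _ = f.appTop.hom ((Scheme.ΓSpecIso (CommRingCat.of k)).inv.hom
      ((Scheme.ΓSpecIso (CommRingCat.of k)).hom.hom a))
    congr 1
    exact (congrArg (fun ψ => ψ.hom a) (Scheme.ΓSpecIso (CommRingCat.of k)).hom_inv_id).symm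
  have h4 : Function.Bijective f.appTop.hom := by
    rw [h3]; exact hbij.comp h2
  exact (ConcreteCategory.isIso_iff_bijective _).mpr h4

end Groth.Agent.Lib.H9CbI

noncomputable section

namespace Groth.Agent.Lib.H9CbI

open CategoryTheory CategoryTheory.Limits AlgebraicGeometry TopologicalSpace Opposite

/-- the fibre condition from the geometric fibres -/
theorem isIso_fiber_appTop {X S : Scheme.{u}} (f : X ⟶ S) [IsProper f]
    (h : ∀ (K : Type u) [Field K] [IsAlgClosed K] (g : Spec (CommRingCat.of K) ⟶ S),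
      IsReduced (pullback f g) ∧ ConnectedSpace ↥(pullback f g)) (s : S) :
    IsIso (f.fiberToSpecResidueField s).appTop := by
  let k : Type u := S.residueField s
  let K := AlgebraicClosure k
  let φ : Spec (CommRingCat.of K) ⟶ Spec (S.residueField s) :=
    Spec.map (CommRingCat.ofHom (algebraMap k K))
  obtain ⟨hred, hconn⟩ := h K (φ ≫ S.fromSpecResidueField s)
  let e : pullback (f.fiberToSpecResidueField s) φ ≅ pullback f (φ ≫ S.fromSpecResidueField s) :=
    pullbackLeftPullbackSndIso f (S.fromSpecResidueField s) φ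
  haveI : IsProper (f.fiberToSpecResidueField s) :=
    inferInstanceAs (IsProper (pullback.snd f (S.fromSpecResidueField s)))
  have hred' : IsReduced (pullback (f.fiberToSpecResidueField s) φ) :=
    isReduced_of_isOpenImmersion e.hom
  have hconn' : ConnectedSpace ↥(pullback (f.fiberToSpecResidueField s) φ) :=
    (Scheme.homeoOfIso e).symm.surjective.connectedSpace (Scheme.homeoOfIso e).symm.continuous
  exact isIso_appTop_of_algClosure k (f.fiberToSpecResidueField s) hred' hconn'

/-- **S0981** -/
theorem main {X S : Scheme.{u}} (f : X ⟶ S) [IsProper f] [Flat f] [LocallyOfFinitePresentation f]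
    (h : ∀ (K : Type u) [Field K] [IsAlgClosed K] (g : Spec (CommRingCat.of K) ⟶ S),
      IsReduced (pullback f g) ∧ ConnectedSpace ↥(pullback f g)) (V : S.Opens) :
    IsIso (f.app V) :=
  Groth.Agent.Lib.H9CbH.main f (isIso_fiber_appTop f h) V

end Groth.Agent.Lib.H9CbI
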