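import Mathlib
import Groth.Agent.Lib.H9CbI

/-! helper9: rigidity lemma over an arbitrary base (S7783). -/
set_option autoImplicit false

universe u
open CategoryTheory CategoryTheory.Limits AlgebraicGeometry

namespace Groth.Agent.Lib.H9RigA

/-- A morphism to an affine scheme factors through any morphism inducing an iso on global
sections. -/
theorem exists_factor_of_isIso_appTop {P Q V : Scheme.{u}} [IsAffine V] (a : P ⟶ Q)
    [IsIso a.appTop] (b : P ⟶ V) : ∃ c : Q ⟶ V, a ≫ c = b := by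
  refine ⟨Q.toSpecΓ ≫ Spec.map (b.appTop ≫ inv a.appTop) ≫ V.isoSpec.inv, ?_⟩
  rw [Scheme.toSpecΓ_naturality_assoc, ← Spec.map_comp_assoc, Category.assoc, IsIso.inv_hom_id,
    Category.comp_id, ← Scheme.toSpecΓ_naturality_assoc]
  simp [Scheme.isoSpec]

set_option backward.isDefEq.respectTransparency false in
theorem isIso_appTop_restrict {X T : Scheme.{u}} (g : X ⟶ T) (hg : ∀ V : T.Opens, IsIso (g.app V))
    (W : T.Opens) : IsIso (g ∣_ W).appTop := by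
  rw [morphismRestrict_appTop]
  haveI := hg (W.ι ''ᵁ ⊤)
  infer_instance

/-- local factorization -/
theorem local_factor {X T Y : Scheme.{u}} (g : X ⟶ T) [IsProper g]
    (hg : ∀ V : T.Opens, IsIso (g.app V)) (f : X ⟶ Y) (t : T) (y : Y)
    (ht : ∀ x, g x = t → f x = y) :
    ∃ W : T.Opens, t ∈ W ∧ ∃ k : (W : Scheme.{u}) ⟶ Y, (g ⁻¹ᵁ W).ι ≫ f = (g ∣_ W) ≫ k := by
  obtain ⟨_, ⟨(V : Y.Opens), hV, rfl⟩, hyV, -⟩ :=
    (Y.isBasis_affineOpens).exists_subset_of_mem_open (Set.mem_univ y) isOpen_univ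
  have hZ : IsClosed (g '' ((f ⁻¹ᵁ V : X.Opens) : Set X)ᶜ) :=
    g.isClosedMap _ (f ⁻¹ᵁ V).2.isClosed_compl
  let W : T.Opens := ⟨(g '' ((f ⁻¹ᵁ V : X.Opens) : Set X)ᶜ)ᶜ, hZ.isOpen_compl⟩
  have htW : t ∈ W := by
    rintro ⟨x, hx, hxt⟩
    exact hx (by show f x ∈ V; rw [ht x hxt]; exact hyV)
  have hWV : g ⁻¹ᵁ W ≤ f ⁻¹ᵁ V := by
    intro x hx
    by_contra hx'
    exact hx ⟨x, hx', rfl⟩
  refine ⟨W, htW, ?_⟩
  have hr : Set.range ((g ⁻¹ᵁ W).ι ≫ f) ⊆ Set.range V.ι := by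
    rintro _ ⟨x, rfl⟩
    rw [Scheme.Opens.range_ι]
    exact hWV x.2
  let f₀ : (g ⁻¹ᵁ W : Scheme.{u}) ⟶ V := IsOpenImmersion.lift V.ι ((g ⁻¹ᵁ W).ι ≫ f) hr
  haveI : IsAffine (V : Scheme.{u}) := hV
  haveI := isIso_appTop_restrict g hg W
  obtain ⟨c, hc⟩ := exists_factor_of_isIso_appTop (g ∣_ W) f₀
  refine ⟨c ≫ V.ι, ?_⟩
  rw [← Category.assoc, hc, IsOpenImmersion.lift_fac]


section main

variable {S T X Y : Scheme.{u}} (g : X ⟶ T) (f : X ⟶ Y)

/-- the opens of `T` over which the two composites `X ×_T X ⇉ X ⟶ Y` agree -/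
def good : Set T.Opens :=
  {W | ((pullback.fst g g ≫ g) ⁻¹ᵁ W).ι ≫ pullback.fst g g ≫ f =
    ((pullback.fst g g ≫ g) ⁻¹ᵁ W).ι ≫ pullback.snd g g ≫ f}

theorem good_of_factor (W : T.Opens) (k : (W : Scheme.{u}) ⟶ Y)
    (hk : (g ⁻¹ᵁ W).ι ≫ f = (g ∣_ W) ≫ k) : W ∈ good g f := by
  show _ = _
  set U := (pullback.fst g g ≫ g) ⁻¹ᵁ W with hU
  have hr₁ : Set.range (U.ι ≫ pullback.fst g g) ⊆ Set.range (g ⁻¹ᵁ W).ι := by
    rintro _ ⟨d, rfl⟩
    rw [Scheme.Opens.range_ι]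
    exact d.2
  have hr₂ : Set.range (U.ι ≫ pullback.snd g g) ⊆ Set.range (g ⁻¹ᵁ W).ι := by
    rintro _ ⟨d, rfl⟩
    rw [Scheme.Opens.range_ι]
    have := d.2
    show g ((U.ι ≫ pullback.snd g g) d) ∈ W
    rw [← Scheme.Hom.comp_apply, Category.assoc, ← pullback.condition]
    exact d.2
  let l₁ := IsOpenImmersion.lift (g ⁻¹ᵁ W).ι (U.ι ≫ pullback.fst g g) hr₁
  let l₂ := IsOpenImmersion.lift (g ⁻¹ᵁ W).ι (U.ι ≫ pullback.snd g g) hr₂
  have h₁ : l₁ ≫ (g ⁻¹ᵁ W).ι = U.ι ≫ pullback.fst g g := IsOpenImmersion.lift_fac _ _ _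
  have h₂ : l₂ ≫ (g ⁻¹ᵁ W).ι = U.ι ≫ pullback.snd g g := IsOpenImmersion.lift_fac _ _ _
  have h₁₂ : l₁ ≫ (g ∣_ W) = l₂ ≫ (g ∣_ W) := by
    rw [← cancel_mono W.ι, Category.assoc, Category.assoc, morphismRestrict_ι, reassoc_of% h₁,
      reassoc_of% h₂, pullback.condition]
  rw [← reassoc_of% h₁, ← reassoc_of% h₂, hk, reassoc_of% h₁₂]


variable (p : T ⟶ S) (q : Y ⟶ S) (hf : f ≫ q = g ≫ p)

/-- the first composite as a morphism over `S` -/
noncomputable def aO : Over.mk (pullback.fst g g ≫ g ≫ p) ⟶ Over.mk q :=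
  Over.homMk (pullback.fst g g ≫ f) (by simp [hf])

/-- the second composite as a morphism over `S` -/
noncomputable def bO : Over.mk (pullback.fst g g ≫ g ≫ p) ⟶ Over.mk q :=
  Over.homMk (pullback.snd g g ≫ f) (by simp [hf, pullback.condition_assoc])

/-- the (closed) locus where the two composites agree -/
def E : Set ↥(pullback g g) := Set.range (equalizer.ι (aO g f p q hf) (bO g f p q hf)).left

theorem isClosed_E [IsSeparated q] : IsClosed (E g f p q hf) := by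
  haveI : IsSeparated (Over.mk q).hom := ‹_›
  exact (equalizer.ι (aO g f p q hf) (bO g f p q hf)).left.isClosedEmbedding.isClosed_range

theorem apply_eq_of_mem_E (d : ↥(pullback g g)) (hd : d ∈ E g f p q hf) :
    f (pullback.fst g g d) = f (pullback.snd g g d) := by
  obtain ⟨e, rfl⟩ := hd
  have := congr($(equalizer.condition (aO g f p q hf) (bO g f p q hf)).left)
  rw [Over.comp_left, Over.comp_left] at this
  have h2 := congr($(this) e)
  exact h2

theorem mem_E_of_good (W : T.Opens) (hW : W ∈ good g f) (d : ↥(pullback g g))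
    (hd : (pullback.fst g g ≫ g) d ∈ W) : d ∈ E g f p q hf := by
  set U := (pullback.fst g g ≫ g) ⁻¹ᵁ W with hU
  let UO : Over S := Over.mk (U.ι ≫ pullback.fst g g ≫ g ≫ p)
  let i : UO ⟶ Over.mk (pullback.fst g g ≫ g ≫ p) := Over.homMk U.ι rfl
  have hi : i ≫ aO g f p q hf = i ≫ bO g f p q hf := by
    ext1
    exact hW
  have : (equalizer.lift i hi ≫ equalizer.ι _ _).left = U.ι := by
    rw [equalizer.lift_ι]
    rfl
  rw [Over.comp_left] at this
  refine ⟨(equalizer.lift i hi).left ⟨d, hd⟩, ?_⟩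
  rw [← Scheme.Hom.comp_apply, this]
  rfl


/-- `O_T → g_* O_X` is an isomorphism for `g` proper flat lfp with geometrically reduced and
geometrically connected fibres. -/
theorem isIso_app [IsProper g] [Flat g] [LocallyOfFinitePresentation g]
    [GeometricallyConnected g] [GeometricallyReduced g] (V : T.Opens) : IsIso (g.app V) :=
  Groth.Agent.Lib.H9CbI.main g (fun K _ _ σ =>
    ⟨pullback_of_geometrically (GeometricallyReduced.geometrically_isReduced (f := g)) K σ,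
      pullback_of_geometrically (GeometricallyConnected.geometrically_connectedSpace (f := g)) K σ⟩)
    V

/-- two maps into `X ×_T X` landing over the union of the good opens equalise `f` -/
theorem eq_of_forall_mem_sSup_good {Z : Scheme.{u}} (d : Z ⟶ pullback g g)
    (hd : ∀ z, (d ≫ pullback.fst g g ≫ g) z ∈ sSup (good g f)) :
    d ≫ pullback.fst g g ≫ f = d ≫ pullback.snd g g ≫ f := by
  set h := pullback.fst g g ≫ g with hh
  have hcov : TopologicalSpace.IsOpenCover (fun W₀ : good g f => (d ≫ h) ⁻¹ᵁ W₀.1) := by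
    refine top_le_iff.mp ?_
    intro z _
    obtain ⟨W₀, hW₀, htW₀⟩ := TopologicalSpace.Opens.mem_sSup.mp (hd z)
    exact TopologicalSpace.Opens.mem_iSup.mpr ⟨⟨W₀, hW₀⟩, htW₀⟩
  refine (Z.openCoverOfIsOpenCover _ hcov).hom_ext _ _ fun W₀ => ?_
  have hr : Set.range (((d ≫ h) ⁻¹ᵁ W₀.1).ι ≫ d) ⊆ Set.range (h ⁻¹ᵁ W₀.1).ι := by
    rintro _ ⟨z, rfl⟩
    rw [Scheme.Opens.range_ι]
    exact z.2
  let l := IsOpenImmersion.lift (h ⁻¹ᵁ W₀.1).ι (((d ≫ h) ⁻¹ᵁ W₀.1).ι ≫ d) hr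
  have hl : l ≫ (h ⁻¹ᵁ W₀.1).ι = ((d ≫ h) ⁻¹ᵁ W₀.1).ι ≫ d := IsOpenImmersion.lift_fac _ _ _
  show ((d ≫ h) ⁻¹ᵁ W₀.1).ι ≫ d ≫ _ = ((d ≫ h) ⁻¹ᵁ W₀.1).ι ≫ d ≫ _
  rw [← reassoc_of% hl, ← reassoc_of% hl]
  congr 1
  exact W₀.2

/-- with a section `σ` of `g`, over the good locus `f` is `g ≫ σ ≫ f` -/
theorem eq_comp_section_of_mem_sSup_good {Z : Scheme.{u}} (a : Z ⟶ X) (σ : T ⟶ X)
    (hσ : σ ≫ g = 𝟙 T) (ha : ∀ z, (a ≫ g) z ∈ sSup (good g f)) :
    a ≫ f = a ≫ g ≫ σ ≫ f := by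
  have hc : a ≫ g = (a ≫ g ≫ σ) ≫ g := by simp [hσ]
  have := eq_of_forall_mem_sSup_good g f (pullback.lift a (a ≫ g ≫ σ) hc) (fun z => by
    rw [pullback.lift_fst_assoc]
    exact ha z)
  rw [pullback.lift_fst_assoc, pullback.lift_snd_assoc] at this
  simpa using this

include hf in
/-- **Rigidity lemma**, in terms of the good locus: it is closed and contains every `t` over
which `f` is set-theoretically constant. -/
theorem rigidity_good [IsSeparated q] [IsProper g] [Flat g] [LocallyOfFinitePresentation g]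
    [GeometricallyConnected g] [GeometricallyReduced g] :
    IsClosed ((sSup (good g f) : T.Opens) : Set T) ∧
      ∀ t : T, (f '' (g ⁻¹' {t})).Subsingleton → t ∈ sSup (good g f) := by
  have hg : ∀ V : T.Opens, IsIso (g.app V) := isIso_app g
  have claim1 : ∀ (t' : T), (f '' (g ⁻¹' {t'})).Subsingleton → ∃ W₀ ∈ good g f, t' ∈ W₀ := by
    intro t' ht'
    obtain ⟨x₀, hx₀⟩ := g.surjective t'
    obtain ⟨W₀, htW, k, hk⟩ := local_factor g hg f t' (f x₀)
      (fun x hx => ht' ⟨x, hx, rfl⟩ ⟨x₀, hx₀, rfl⟩)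
    exact ⟨W₀, good_of_factor g f W₀ k hk, htW⟩
  set h := pullback.fst g g ≫ g with hh
  let W : T.Opens := sSup (good g f)
  have hWeq : (W : Set T) = (h '' (E g f p q hf)ᶜ)ᶜ := by
    ext t'
    constructor
    · intro ht'
      obtain ⟨W₀, hW₀, htW₀⟩ := TopologicalSpace.Opens.mem_sSup.mp ht'
      rintro ⟨d, hd, rfl⟩
      exact hd (mem_E_of_good g f p q hf W₀ hW₀ d htW₀)
    · intro ht'
      have hE : ∀ d, h d = t' → d ∈ E g f p q hf := by
        intro d hd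
        by_contra hd'
        exact ht' ⟨d, hd', hd⟩
      obtain ⟨W₀, hW₀, htW₀⟩ := claim1 t' (by
        rintro _ ⟨x₁, hx₁, rfl⟩ _ ⟨x₂, hx₂, rfl⟩
        obtain ⟨d, hd₁, hd₂⟩ := Scheme.Pullback.exists_preimage_pullback (f := g) (g := g) x₁ x₂
          (hx₁.trans hx₂.symm)
        have := apply_eq_of_mem_E g f p q hf d (hE d (by
          rw [hh, Scheme.Hom.comp_apply, hd₁]; exact hx₁))
        rwa [hd₁, hd₂] at this)
      exact TopologicalSpace.Opens.mem_sSup.mpr ⟨W₀, hW₀, htW₀⟩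
  refine ⟨?_, fun t ht => ?_⟩
  · show IsClosed (W : Set T)
    rw [hWeq]
    exact (h.isOpenMap _ (isClosed_E g f p q hf).isOpen_compl).isClosed_compl
  · obtain ⟨W₀, hW₀, htW₀⟩ := claim1 t ht
    exact TopologicalSpace.Opens.mem_sSup.mpr ⟨W₀, hW₀, htW₀⟩

include hf in
/-- **Rigidity lemma** (S7783). -/
theorem rigidity [IsSeparated q] [IsProper g] [Flat g] [LocallyOfFinitePresentation g]
    [GeometricallyConnected g] [GeometricallyReduced g] (t : T)
    (ht : (f '' (g ⁻¹' {t})).Subsingleton) :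
    ∃ W : T.Opens, IsClosed (W : Set T) ∧ t ∈ W ∧ ∃ k : (W : Scheme.{u}) ⟶ Y,
      (g ⁻¹ᵁ W).ι ≫ f = (g ∣_ W) ≫ k := by
  obtain ⟨hcl, hmem⟩ := rigidity_good g f p q hf
  set W : T.Opens := sSup (good g f) with hW
  refine ⟨W, hcl, hmem t ht, ?_⟩
  have key : ∀ {Z : Scheme.{u}} (a b : Z ⟶ (g ⁻¹ᵁ W : Scheme.{u})),
      a ≫ (g ∣_ W) = b ≫ (g ∣_ W) → a ≫ (g ⁻¹ᵁ W).ι ≫ f = b ≫ (g ⁻¹ᵁ W).ι ≫ f := by
    intro Z a b hab
    have hab' : (a ≫ (g ⁻¹ᵁ W).ι) ≫ g = (b ≫ (g ⁻¹ᵁ W).ι) ≫ g := by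
      rw [Category.assoc, Category.assoc, ← morphismRestrict_ι, reassoc_of% hab]
    have := eq_of_forall_mem_sSup_good g f (pullback.lift _ _ hab') (fun z => by
      rw [pullback.lift_fst_assoc, Category.assoc, Scheme.Hom.comp_apply, Scheme.Hom.comp_apply]
      exact (a z).2)
    rw [pullback.lift_fst_assoc, pullback.lift_snd_assoc] at this
    simpa using this
  exact ⟨EffectiveEpi.desc (g ∣_ W) ((g ⁻¹ᵁ W).ι ≫ f) key, (EffectiveEpi.fac _ _ _).symm⟩

include hf in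
/-- global form of rigidity with a section: if every point of `T` lies in every clopen
neighbourhood of some point over which `f` is constant, then `f = g ≫ σ ≫ f`. -/
theorem eq_comp_section [IsSeparated q] [IsProper g] [Flat g] [LocallyOfFinitePresentation g]
    [GeometricallyConnected g] [GeometricallyReduced g] (σ : T ⟶ X) (hσ : σ ≫ g = 𝟙 T)
    (H : ∀ x' : T, ∃ t : T, (f '' (g ⁻¹' {t})).Subsingleton ∧
      ∀ W : Set T, IsClopen W → t ∈ W → x' ∈ W) :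
    f = g ≫ σ ≫ f := by
  obtain ⟨hcl, hmem⟩ := rigidity_good g f p q hf
  have := eq_comp_section_of_mem_sSup_good g f (𝟙 X) σ hσ (fun z => by
    obtain ⟨t, ht, hW⟩ := H ((𝟙 X ≫ g) z)
    exact hW _ ⟨hcl, (sSup (good g f)).2⟩ (hmem t ht))
  simpa using this

end main

end Groth.Agent.Lib.H9RigA
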