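import Mathlib
import Groth.Agent.Lib.H9RigA

/-! helper9: rigidity over the base `S` for abelian schemes (towards S7793, S7794). -/
set_option autoImplicit false

universe u
open CategoryTheory CategoryTheory.Limits MonoidalCategory CartesianMonoidalCategory MonObj GrpObj
  AlgebraicGeometry

namespace Groth.Agent.Lib.H9RigD

open Groth.Agent.Lib.H9RigA

variable {S : Scheme.{u}}

/-- rigidity over the base: if `φ` is constant on the fibre of `X` over `s`, then on a clopen
neighbourhood of `s` it factors through the section `e`. -/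
theorem eq_on_clopen (X Y : Over S) [IsProper X.hom] [Flat X.hom]
    [LocallyOfFinitePresentation X.hom] [GeometricallyReduced X.hom]
    [GeometricallyConnected X.hom] [IsSeparated Y.hom] (e : 𝟙_ (Over S) ⟶ X) (φ : X ⟶ Y)
    (s : S) (hs : (φ.left '' (X.hom ⁻¹' {s})).Subsingleton) :
    ∃ W : S.Opens, IsClosed (W : Set S) ∧ s ∈ W ∧
      (X.hom ⁻¹ᵁ W).ι ≫ φ.left = (X.hom ⁻¹ᵁ W).ι ≫ X.hom ≫ e.left ≫ φ.left := by
  have hf : φ.left ≫ Y.hom = X.hom ≫ 𝟙 S := by rw [Over.w φ, Category.comp_id]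
  obtain ⟨hcl, hmem⟩ := rigidity_good X.hom φ.left (𝟙 S) Y.hom hf
  refine ⟨sSup (good X.hom φ.left), hcl, hmem s hs, ?_⟩
  exact eq_comp_section_of_mem_sSup_good X.hom φ.left _ e.left (Over.w e) (fun z => z.2)

/-- global version -/
theorem eq_toUnit_comp (X Y : Over S) [IsProper X.hom] [Flat X.hom]
    [LocallyOfFinitePresentation X.hom] [GeometricallyReduced X.hom]
    [GeometricallyConnected X.hom] [IsSeparated Y.hom] (e : 𝟙_ (Over S) ⟶ X) (φ : X ⟶ Y)
    (H : ∀ s : S, (φ.left '' (X.hom ⁻¹' {s})).Subsingleton) :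
    φ = toUnit X ≫ e ≫ φ := by
  have hf : φ.left ≫ Y.hom = X.hom ≫ 𝟙 S := by rw [Over.w φ, Category.comp_id]
  obtain ⟨hcl, hmem⟩ := rigidity_good X.hom φ.left (𝟙 S) Y.hom hf
  ext1
  have := eq_comp_section_of_mem_sSup_good X.hom φ.left (𝟙 _) e.left (Over.w e)
    (fun z => hmem _ (H _))
  simpa using this


theorem comp_div_eq_one_iff {X Y Z : Over S} [GrpObj Y] (j : Z ⟶ X) (f g : X ⟶ Y) :
    j ≫ (f / g) = 1 ↔ j ≫ f = j ≫ g := by
  rw [GrpObj.comp_div, div_eq_one]

/-- **S7794** -/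
theorem agree_on_clopen (X : Over S) [GrpObj X] [IsProper X.hom] [Flat X.hom]
    [LocallyOfFinitePresentation X.hom] [GeometricallyReduced X.hom]
    [GeometricallyConnected X.hom] (Y : Over S) [GrpObj Y] [IsSeparated Y.hom]
    (f g : X ⟶ Y) [IsMonHom f] [IsMonHom g] (s : S)
    (hs : X.hom.fiberι s ≫ f.left = X.hom.fiberι s ≫ g.left) :
    ∃ W : S.Opens, IsClosed (W : Set S) ∧ s ∈ W ∧
      (X.hom ⁻¹ᵁ W).ι ≫ f.left = (X.hom ⁻¹ᵁ W).ι ≫ g.left := by
  set φ : X ⟶ Y := f / g with hφ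
  have hsub : (φ.left '' (X.hom ⁻¹' {s})).Subsingleton := by
    let F : Over S := Over.mk (X.hom.fiberι s ≫ X.hom)
    let i : F ⟶ X := Over.homMk (X.hom.fiberι s) rfl
    have hi : i ≫ f = i ≫ g := by
      ext1
      exact hs
    have hi' : i ≫ φ = 1 := (comp_div_eq_one_iff i f g).mpr hi
    have key : ∀ x ∈ X.hom ⁻¹' {s}, φ.left x = η[Y].left s := by
      intro x hx
      rw [← Scheme.Hom.range_fiberι] at hx
      obtain ⟨w, rfl⟩ := hx
      have h1 : X.hom.fiberι s ≫ φ.left = (X.hom.fiberι s ≫ X.hom) ≫ η[Y].left :=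
        congr($(hi').left)
      rw [← Scheme.Hom.comp_apply, h1, Scheme.Hom.comp_apply]
      congr 1
      have : X.hom.fiberι s w ∈ X.hom ⁻¹' {s} := by
        rw [← Scheme.Hom.range_fiberι]; exact ⟨w, rfl⟩
      exact this
    rintro _ ⟨x₁, hx₁, rfl⟩ _ ⟨x₂, hx₂, rfl⟩
    rw [key x₁ hx₁, key x₂ hx₂]
  obtain ⟨W, hcl, hsW, hW⟩ := eq_on_clopen X Y η[X] φ s hsub
  refine ⟨W, hcl, hsW, ?_⟩
  have hη : η[X] ≫ φ = 1 := (comp_div_eq_one_iff η[X] f g).mpr (by
    rw [IsMonHom.one_hom f, IsMonHom.one_hom g])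
  let Z : Over S := Over.mk ((X.hom ⁻¹ᵁ W).ι ≫ X.hom)
  let j : Z ⟶ X := Over.homMk (X.hom ⁻¹ᵁ W).ι rfl
  have hj : j ≫ φ = 1 := by
    ext1
    have h2 : η[X].left ≫ φ.left = η[Y].left := by
      have := congr($(hη).left)
      simpa [Hom.one_def] using this
    show (X.hom ⁻¹ᵁ W).ι ≫ φ.left = ((X.hom ⁻¹ᵁ W).ι ≫ X.hom) ≫ η[Y].left
    rw [hW, h2, Category.assoc]
  exact congr($((comp_div_eq_one_iff j f g).mp hj).left)


theorem subsingleton_of_isPreconnected_of_isDiscrete {α : Type*} [TopologicalSpace α]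
    {A F : Set α} (hA : IsPreconnected A) (hAF : A ⊆ F) (hF : IsDiscrete F) : A.Subsingleton := by
  have hd : DiscreteTopology A := (hF.mono hAF).to_subtype
  have := @PreconnectedSpace.trivial_of_discrete _ _ (Subtype.preconnectedSpace hA) hd
  exact Set.subsingleton_coe A |>.mp this

/-- an isogeny is an epimorphism -/
theorem epi_of_flat_surjective {X Y : Over S} (f : X ⟶ Y) [QuasiCompact f.left] [Flat f.left]
    [Surjective f.left] : Epi f := by
  haveI : Epi ((Over.forget S).map f) := by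
    show Epi f.left
    infer_instance
  exact (Over.forget S).epi_of_epi_map inferInstance

/-- **S7793 (2)**: an isogeny can be cancelled on the left among homomorphisms from an
abelian scheme. -/
theorem isogeny_cancel_left (X Y Z : Over S) [GrpObj X] [IsSeparated X.hom] [GrpObj Y]
    [GrpObj Z] [IsProper Z.hom] [Flat Z.hom] [LocallyOfFinitePresentation Z.hom]
    [GeometricallyReduced Z.hom] [GeometricallyConnected Z.hom]
    (f : X ⟶ Y) [IsMonHom f] [LocallyQuasiFinite f.left]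
    (h₁ h₂ : Z ⟶ X) [IsMonHom h₁] [IsMonHom h₂] (h : h₁ ≫ f = h₂ ≫ f) : h₁ = h₂ := by
  set d : Z ⟶ X := h₁ / h₂ with hd
  have hdf : d ≫ f = 1 := by
    rw [hd, GrpObj.div_comp, h, div_self']
  have H : ∀ s : S, (d.left '' (Z.hom ⁻¹' {s})).Subsingleton := by
    intro s
    refine subsingleton_of_isPreconnected_of_isDiscrete
      ((Z.hom.isConnected_preimage_singleton s).isPreconnected.image _
        d.left.continuous.continuousOn) ?_
      (f.left.isDiscrete_preimage_singleton (η[Y].left s))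
    rintro _ ⟨z, hz, rfl⟩
    show f.left (d.left z) = η[Y].left s
    have h1 : d.left ≫ f.left = Z.hom ≫ η[Y].left := congr($(hdf).left)
    rw [← Scheme.Hom.comp_apply, h1, Scheme.Hom.comp_apply]
    congr 1
  have h3 := eq_toUnit_comp Z X η[Z] d H
  have hη : η[Z] ≫ d = 1 := (comp_div_eq_one_iff η[Z] h₁ h₂).mpr (by
    rw [IsMonHom.one_hom h₁, IsMonHom.one_hom h₂])
  rw [hη, MonObj.comp_one] at h3
  exact div_eq_one.mp h3

end Groth.Agent.Lib.H9RigD
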