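import Mathlib
import Groth.Agent.Lib.H9RigD

/-! helper9: rigidity over a field with a geometric base point (S18368). -/
set_option autoImplicit false

universe u
open CategoryTheory CategoryTheory.Limits MonoidalCategory CartesianMonoidalCategory
  AlgebraicGeometry

namespace Groth.Agent.Lib.H9RigE

open Groth.Agent.Lib.H9RigA Groth.Agent.Lib.H9RigD

theorem geometricallyConnected_of_geometricallyIrreducible {X S : Scheme.{u}} (f : X ⟶ S)
    [GeometricallyIrreducible f] : GeometricallyConnected f :=
  ⟨fun K _ y Z fst snd h => by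
    haveI : IrreducibleSpace Z :=
      GeometricallyIrreducible.geometrically_irreducibleSpace (f := f) y fst snd h
    infer_instance⟩

/-- global factorisation when everything is good -/
theorem exists_factor_of_forall_mem {X T Y : Scheme.{u}} (g : X ⟶ T) [Flat g] [Surjective g]
    [QuasiCompact g] (f : X ⟶ Y) (H : ∀ t : T, t ∈ sSup (good g f)) :
    ∃ k : T ⟶ Y, f = g ≫ k := by
  have key : ∀ {Z : Scheme.{u}} (a b : Z ⟶ X), a ≫ g = b ≫ g → a ≫ f = b ≫ f := by
    intro Z a b hab
    have := eq_of_forall_mem_sSup_good g f (pullback.lift a b hab) (fun z => H _)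
    rwa [pullback.lift_fst_assoc, pullback.lift_snd_assoc] at this
  exact ⟨EffectiveEpi.desc g f key, (EffectiveEpi.fac _ _ _).symm⟩

variable {S : Scheme.{u}}

/-- the square of `X ◁ y₀` is a pullback -/
theorem isPullback_whiskerLeft (X : Over S) {K Y : Over S} (y₀ : K ⟶ Y) :
    IsPullback (X ◁ y₀).left (snd X K).left (snd X Y).left y₀.left := by
  have h1 : (X ◁ y₀).left ≫ (fst X Y).left = (fst X K).left := by
    rw [← Over.comp_left, whiskerLeft_fst]
  have h2 : (X ◁ y₀).left ≫ (snd X Y).left = (snd X K).left ≫ y₀.left := by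
    rw [← Over.comp_left, whiskerLeft_snd, Over.comp_left]
  refine IsPullback.of_right (h₁₂ := (fst X Y).left) (h₂₂ := Y.hom) (v₁₃ := X.hom) ?_ h2
    (IsPullback.of_hasPullback X.hom Y.hom)
  rw [h1, Over.w y₀]
  exact IsPullback.of_hasPullback X.hom K.hom


/-- **S18368** (general form): rigidity for `f : X ⊗ Y ⟶ Z` over a connected `Y` with a
point `y₀ : K ⟶ Y` from a one-point scheme along which `f` is constant. -/
theorem existsUnique_factor (X Y Z K : Over S) [IsProper X.hom] [Flat X.hom]
    [LocallyOfFinitePresentation X.hom] [GeometricallyReduced X.hom]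
    [GeometricallyConnected X.hom] [ConnectedSpace Y.left] [IsSeparated Z.hom]
    [Subsingleton K.left] [Nonempty K.left]
    (f : X ⊗ Y ⟶ Z) (y₀ : K ⟶ Y) (z₀ : K ⟶ Z) (h : (X ◁ y₀) ≫ f = snd X K ≫ z₀) :
    ∃! g : Y ⟶ Z, f = snd X Y ≫ g := by
  obtain ⟨pt⟩ := (inferInstance : Nonempty K.left)
  have hf : f.left ≫ Z.hom = pullback.snd X.hom Y.hom ≫ Y.hom :=
    (Over.w f).trans (Over.w (snd X Y)).symm
  obtain ⟨hcl, hmem⟩ := rigidity_good (pullback.snd X.hom Y.hom) f.left Y.hom Z.hom hf
  have hsub : (f.left '' (pullback.snd X.hom Y.hom ⁻¹' {y₀.left pt})).Subsingleton := by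
    have key : ∀ z : ↥(X ⊗ Y).left, (snd X Y).left z = y₀.left pt →
        f.left z = z₀.left pt := by
      intro z hz
      have hp := isPullback_whiskerLeft X y₀
      obtain ⟨w, hw₁, hw₂⟩ := Scheme.Pullback.exists_preimage_pullback (f := (snd X Y).left)
        (g := y₀.left) z pt hz
      have hz' : (X ◁ y₀).left (hp.isoPullback.inv w) = z := by
        rw [← Scheme.Hom.comp_apply, hp.isoPullback_inv_fst, hw₁]
      rw [← hz', ← Scheme.Hom.comp_apply, ← Over.comp_left, h, Over.comp_left,
        Scheme.Hom.comp_apply]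
      congr 1
      exact Subsingleton.elim _ _
    rintro _ ⟨z₁, hz₁, rfl⟩ _ ⟨z₂, hz₂, rfl⟩
    exact (key z₁ hz₁).trans (key z₂ hz₂).symm
  have htop : ∀ t : Y.left, t ∈ sSup (good (pullback.snd X.hom Y.hom) f.left) := by
    have hclopen : IsClopen ((sSup (good (pullback.snd X.hom Y.hom) f.left) : Y.left.Opens) :
        Set Y.left) := ⟨hcl, (sSup (good (pullback.snd X.hom Y.hom) f.left)).2⟩
    have := hclopen.eq_univ ⟨_, hmem _ hsub⟩
    intro t
    show t ∈ ((sSup (good (pullback.snd X.hom Y.hom) f.left) : Y.left.Opens) : Set Y.left)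
    rw [this]
    trivial
  obtain ⟨k, hk⟩ := exists_factor_of_forall_mem (pullback.snd X.hom Y.hom) f.left htop
  haveI : Epi (snd X Y) := by
    haveI : QuasiCompact (snd X Y).left := by
      show QuasiCompact (pullback.snd X.hom Y.hom); infer_instance
    haveI : Flat (snd X Y).left := by
      show Flat (pullback.snd X.hom Y.hom); infer_instance
    haveI : Surjective (snd X Y).left := by
      show Surjective (pullback.snd X.hom Y.hom); infer_instance
    exact epi_of_flat_surjective (snd X Y)
  have hkS : k ≫ Z.hom = Y.hom := by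
    rw [← cancel_epi (pullback.snd X.hom Y.hom), ← Category.assoc, ← hk, hf]
  refine ⟨Over.homMk k hkS, ?_, fun g' hg' => ?_⟩
  · ext1
    exact hk
  · rw [← cancel_epi (snd X Y), ← hg']
    ext1
    exact hk

end Groth.Agent.Lib.H9RigE
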