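import Mathlib
import Groth.Agent.Lib.H9RigE

/-! helper9: the collapsed locus of a morphism on a proper family (S14667, S14666). -/
set_option autoImplicit false

universe u
open CategoryTheory CategoryTheory.Limits AlgebraicGeometry

namespace Groth.Agent.Lib.H9RigG

open Groth.Agent.Lib.H9RigA Groth.Agent.Lib.H9RigE

variable {S T X Y : Scheme.{u}} (g : X ⟶ T) (f : X ⟶ Y) (p : T ⟶ S) (q : Y ⟶ S)
  (hf : f ≫ q = g ≫ p)

include hf in
theorem subsingleton_of_mem_sSup_good (t : T) (ht : t ∈ sSup (good g f)) :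
    (f '' (g ⁻¹' {t})).Subsingleton := by
  obtain ⟨W₀, hW₀, htW₀⟩ := TopologicalSpace.Opens.mem_sSup.mp ht
  rintro _ ⟨x₁, hx₁, rfl⟩ _ ⟨x₂, hx₂, rfl⟩
  obtain ⟨d, hd₁, hd₂⟩ := Scheme.Pullback.exists_preimage_pullback (f := g) (g := g) x₁ x₂
    (hx₁.trans hx₂.symm)
  have := apply_eq_of_mem_E g f p q hf d (mem_E_of_good g f p q hf W₀ hW₀ d (by
    rw [Scheme.Hom.comp_apply, hd₁, hx₁]; exact htW₀))
  rwa [hd₁, hd₂] at this

include hf in
/-- the collapsed locus is the good locus -/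
theorem setOf_collapsed_eq [IsSeparated q] [IsProper g] [Flat g] [LocallyOfFinitePresentation g]
    [GeometricallyConnected g] [GeometricallyReduced g] :
    {s : T | ∃ y : Y, ∀ x : X, g x = s → f x = y} = ((sSup (good g f) : T.Opens) : Set T) := by
  obtain ⟨-, hmem⟩ := rigidity_good g f p q hf
  ext s
  constructor
  · rintro ⟨y, hy⟩
    refine hmem s ?_
    rintro _ ⟨x₁, hx₁, rfl⟩ _ ⟨x₂, hx₂, rfl⟩
    rw [hy x₁ hx₁, hy x₂ hx₂]
  · intro hs
    have hsub := subsingleton_of_mem_sSup_good g f p q hf s hs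
    obtain ⟨x₀, hx₀⟩ := g.surjective s
    exact ⟨f x₀, fun x hx => hsub ⟨x, hx, rfl⟩ ⟨x₀, hx₀, rfl⟩⟩

/-- **S14667** -/
theorem isClopen_collapsed {X Y S : Scheme.{u}} [IsLocallyNoetherian S]
    (ξ : X ⟶ S) [IsProper ξ] [Flat ξ] [GeometricallyIntegral ξ]
    (v : Y ⟶ S) [IsSeparated v] (f : X ⟶ Y) (hf : f ≫ v = ξ) :
    IsClosed {s : ↥S | ∃ y : ↥Y, ∀ x : ↥X, ξ.base x = s → f.base x = y} ∧
      IsOpen {s : ↥S | ∃ y : ↥Y, ∀ x : ↥X, ξ.base x = s → f.base x = y} := by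
  haveI : GeometricallyConnected ξ := geometricallyConnected_of_geometricallyIrreducible ξ
  have hf' : f ≫ v = ξ ≫ 𝟙 S := by rw [hf, Category.comp_id]
  have h := setOf_collapsed_eq ξ f (𝟙 S) v hf'
  have h' : {s : ↥S | ∃ y : ↥Y, ∀ x : ↥X, ξ.base x = s → f.base x = y} =
      ((sSup (good ξ f) : S.Opens) : Set S) := h
  rw [h']
  exact ⟨(rigidity_good ξ f (𝟙 S) v hf').1, (sSup (good ξ f)).2⟩

end Groth.Agent.Lib.H9RigG
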