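import Mathlib
import Groth.Agent.Lib.H9RigG

/-! helper9: the collapsed locus without flatness (S14666). -/
set_option autoImplicit false

universe u
open CategoryTheory CategoryTheory.Limits AlgebraicGeometry

namespace Groth.Agent.Lib.H9RigH

open Groth.Agent.Lib.H9RigA

set_option backward.isDefEq.respectTransparency false in
theorem injective_appTop_restrict {P Q : Scheme.{u}} (g : P ⟶ Q)
    (hg : ∀ V : Q.Opens, Function.Injective (g.app V).hom) (W : Q.Opens) :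
    Function.Injective (g ∣_ W).appTop.hom := by
  rw [morphismRestrict_appTop]
  have h2 : Function.Injective
      (P.presheaf.map (eqToHom (image_morphismRestrict_preimage g W ⊤)).op).hom :=
    ((ConcreteCategory.isIso_iff_bijective _).mp inferInstance).1
  exact h2.comp (hg _)

/-- a surjective morphism with injective comorphisms is an epimorphism of schemes -/
theorem eq_of_comp_eq {P Q Y : Scheme.{u}} (g : P ⟶ Q) [Surjective g]
    (hg : ∀ V : Q.Opens, Function.Injective (g.app V).hom) (a b : Q ⟶ Y)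
    (h : g ≫ a = g ≫ b) : a = b := by
  have hbase : ∀ t : Q, a t = b t := by
    intro t
    obtain ⟨x, rfl⟩ := g.surjective t
    rw [← Scheme.Hom.comp_apply, ← Scheme.Hom.comp_apply, h]
  have hcov : TopologicalSpace.IsOpenCover (fun V : Y.affineOpens => a ⁻¹ᵁ V.1) := by
    refine top_le_iff.mp ?_
    intro t _
    obtain ⟨_, ⟨V, hV, rfl⟩, htV, -⟩ :=
      (Y.isBasis_affineOpens).exists_subset_of_mem_open (Set.mem_univ (a t)) isOpen_univ
    exact TopologicalSpace.Opens.mem_iSup.mpr ⟨⟨V, hV⟩, htV⟩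
  refine (Q.openCoverOfIsOpenCover _ hcov).hom_ext _ _ fun V => ?_
  set W : Q.Opens := a ⁻¹ᵁ V.1 with hW
  show W.ι ≫ a = W.ι ≫ b
  have hra : Set.range (W.ι ≫ a) ⊆ Set.range V.1.ι := by
    rintro _ ⟨t, rfl⟩
    rw [Scheme.Opens.range_ι]
    exact t.2
  have hrb : Set.range (W.ι ≫ b) ⊆ Set.range V.1.ι := by
    rintro _ ⟨t, rfl⟩
    rw [Scheme.Opens.range_ι, Scheme.Hom.comp_apply, ← hbase]
    exact t.2
  let aV := IsOpenImmersion.lift V.1.ι (W.ι ≫ a) hra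
  let bV := IsOpenImmersion.lift V.1.ι (W.ι ≫ b) hrb
  have haV : aV ≫ V.1.ι = W.ι ≫ a := IsOpenImmersion.lift_fac _ _ _
  have hbV : bV ≫ V.1.ι = W.ι ≫ b := IsOpenImmersion.lift_fac _ _ _
  haveI : IsAffine (V.1 : Scheme.{u}) := V.2
  have hab : aV = bV := by
    apply ext_of_isAffine
    have h1 : (g ∣_ W) ≫ aV = (g ∣_ W) ≫ bV := by
      rw [← cancel_mono V.1.ι, Category.assoc, Category.assoc, haV, hbV,
        ← Category.assoc, ← Category.assoc, morphismRestrict_ι, Category.assoc, Category.assoc, h]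
    have h2 := congr(($h1).appTop)
    rw [Scheme.Hom.comp_appTop, Scheme.Hom.comp_appTop] at h2
    ext z
    exact injective_appTop_restrict g hg W congr($(h2).hom z)
  rw [← haV, ← hbV, hab]


section collapsed

variable {X Y S : Scheme.{u}} (ξ : X ⟶ S) (f : X ⟶ Y)

/-- a factorisation of `f` through `ξ` over the open `W` -/
def Fact (W : S.Opens) (k : (W : Scheme.{u}) ⟶ Y) : Prop :=
  (ξ ⁻¹ᵁ W).ι ≫ f = (ξ ∣_ W) ≫ k

variable {ξ f}

theorem Fact.comp_eq {W : S.Opens} {k : (W : Scheme.{u}) ⟶ Y} (h : Fact ξ f W k)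
    {P : Scheme.{u}} (a : P ⟶ X) (c : P ⟶ W) (hac : a ≫ ξ = c ≫ W.ι) : a ≫ f = c ≫ k := by
  have hr : Set.range a ⊆ Set.range (ξ ⁻¹ᵁ W).ι := by
    rintro _ ⟨z, rfl⟩
    rw [Scheme.Opens.range_ι]
    show ξ (a z) ∈ W
    rw [← Scheme.Hom.comp_apply, hac, Scheme.Hom.comp_apply]
    exact (c z).2
  let l := IsOpenImmersion.lift (ξ ⁻¹ᵁ W).ι a hr
  have hl : l ≫ (ξ ⁻¹ᵁ W).ι = a := IsOpenImmersion.lift_fac _ _ _
  have hl2 : l ≫ (ξ ∣_ W) = c := by
    rw [← cancel_mono W.ι, Category.assoc, morphismRestrict_ι, reassoc_of% hl, hac]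
  rw [← hl, Category.assoc, h, reassoc_of% hl2]

theorem Fact.apply_eq {W : S.Opens} {k : (W : Scheme.{u}) ⟶ Y} (h : Fact ξ f W k)
    (x : X) (hx : ξ x ∈ W) : f x = k ⟨ξ x, hx⟩ := by
  have h1 := congr($(h) ⟨x, hx⟩)
  rw [Scheme.Hom.comp_apply, Scheme.Hom.comp_apply] at h1
  have h2 : (ξ ∣_ W) ⟨x, hx⟩ = ⟨ξ x, hx⟩ := by
    apply Subtype.ext
    have := congr($(morphismRestrict_ι ξ W) ⟨x, hx⟩)
    rw [Scheme.Hom.comp_apply, Scheme.Hom.comp_apply] at this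
    exact this
  rw [h2] at h1
  exact h1

variable [Surjective ξ] (hξ : ∀ V : S.Opens, Function.Injective (ξ.app V).hom)

include hξ in
theorem Fact.unique {W₁ W₂ : S.Opens} {k₁ : (W₁ : Scheme.{u}) ⟶ Y} {k₂ : (W₂ : Scheme.{u}) ⟶ Y}
    (h₁ : Fact ξ f W₁ k₁) (h₂ : Fact ξ f W₂ k₂) {P : Scheme.{u}} (c₁ : P ⟶ W₁) (c₂ : P ⟶ W₂)
    (hc : c₁ ≫ W₁.ι = c₂ ≫ W₂.ι) : c₁ ≫ k₁ = c₂ ≫ k₂ := by
  set W : S.Opens := W₁ ⊓ W₂ with hW
  have e₁ : (ξ ⁻¹ᵁ W).ι ≫ f = ((ξ ∣_ W) ≫ S.homOfLE inf_le_left) ≫ k₁ :=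
    h₁.comp_eq _ _ (by rw [Category.assoc, Scheme.homOfLE_ι, morphismRestrict_ι])
  have e₂ : (ξ ⁻¹ᵁ W).ι ≫ f = ((ξ ∣_ W) ≫ S.homOfLE inf_le_right) ≫ k₂ :=
    h₂.comp_eq _ _ (by rw [Category.assoc, Scheme.homOfLE_ι, morphismRestrict_ι])
  haveI : Surjective (ξ ∣_ W) :=
    MorphismProperty.of_isPullback (P := @Surjective) (isPullback_morphismRestrict ξ W).flip
      inferInstance
  have hinj : ∀ V : (W : Scheme.{u}).Opens, Function.Injective ((ξ ∣_ W).app V).hom := by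
    intro V
    rw [morphismRestrict_app]
    have h2 : Function.Injective
        (X.presheaf.map (eqToHom (image_morphismRestrict_preimage ξ W V)).op).hom :=
      ((ConcreteCategory.isIso_iff_bijective _).mp inferInstance).1
    exact h2.comp (hξ _)
  have key : S.homOfLE inf_le_left ≫ k₁ = S.homOfLE inf_le_right ≫ k₂ :=
    eq_of_comp_eq (ξ ∣_ W) hinj _ _ (by rw [← Category.assoc, ← e₁, e₂, Category.assoc])
  have hr : Set.range (c₁ ≫ W₁.ι) ⊆ Set.range W.ι := by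
    rintro _ ⟨z, rfl⟩
    rw [Scheme.Opens.range_ι]
    refine ⟨?_, ?_⟩
    · rw [Scheme.Hom.comp_apply]; exact (c₁ z).2
    · rw [hc, Scheme.Hom.comp_apply]; exact (c₂ z).2
  let c₀ := IsOpenImmersion.lift W.ι (c₁ ≫ W₁.ι) hr
  have hc₀ : c₀ ≫ W.ι = c₁ ≫ W₁.ι := IsOpenImmersion.lift_fac _ _ _
  have hc₁ : c₁ = c₀ ≫ S.homOfLE inf_le_left := by
    rw [← cancel_mono W₁.ι, Category.assoc, Scheme.homOfLE_ι, hc₀]
  have hc₂ : c₂ = c₀ ≫ S.homOfLE inf_le_right := by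
    rw [← cancel_mono W₂.ι, Category.assoc, Scheme.homOfLE_ι, hc₀, hc]
  rw [hc₁, hc₂, Category.assoc, Category.assoc, key]


end collapsed

/-- **S14666** -/
theorem collapsed_main {X Y S : Scheme.{u}}
    (ξ : X ⟶ S) [IsProper ξ] [Surjective ξ]
    (h0 : ∀ U : S.Opens, Function.Bijective (ξ.app U).hom)
    (v : Y ⟶ S) (f : X ⟶ Y) (hf : f ≫ v = ξ) :
    IsOpen {s : ↥S | ∃ y : ↥Y, ∀ x : ↥X, ξ.base x = s → f.base x = y} ∧
    ∀ (T : Scheme.{u}) (τ : T ⟶ S),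
      ((∃ r : T ⟶ Y, r ≫ v = τ ∧ pullback.fst ξ τ ≫ f = pullback.snd ξ τ ≫ r) ↔
        ∀ t : ↥T, τ.base t ∈ {s : ↥S | ∃ y : ↥Y, ∀ x : ↥X, ξ.base x = s → f.base x = y}) := by
  have hg : ∀ V : S.Opens, IsIso (ξ.app V) := fun V =>
    (ConcreteCategory.isIso_iff_bijective _).mpr (h0 V)
  have hξ : ∀ V : S.Opens, Function.Injective (ξ.app V).hom := fun V => (h0 V).1
  -- local factorisations
  have hloc : ∀ s : S, (∃ y : Y, ∀ x : X, ξ x = s → f x = y) →
      ∃ (W : S.Opens) (k : (W : Scheme.{u}) ⟶ Y), s ∈ W ∧ Fact ξ f W k := by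
    rintro s ⟨y, hy⟩
    obtain ⟨W, hsW, k, hk⟩ := local_factor ξ hg f s y hy
    exact ⟨W, k, hsW, hk⟩
  have hsub : ∀ (W : S.Opens) (k : (W : Scheme.{u}) ⟶ Y), Fact ξ f W k →
      (W : Set S) ⊆ {s : ↥S | ∃ y : ↥Y, ∀ x : ↥X, ξ.base x = s → f.base x = y} := by
    intro W k hk s hs
    refine ⟨k ⟨s, hs⟩, fun x hx => ?_⟩
    have hx' : ξ x ∈ W := by
      have : ξ x = s := hx
      rw [this]; exact hs
    have := hk.apply_eq x hx'
    have hx2 : (⟨ξ x, hx'⟩ : W) = ⟨s, hs⟩ := Subtype.ext hx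
    rw [hx2] at this
    exact this
  refine ⟨?_, fun T τ => ⟨?_, ?_⟩⟩
  · rw [isOpen_iff_forall_mem_open]
    intro s hs
    obtain ⟨W, k, hsW, hk⟩ := hloc s hs
    exact ⟨W, hsub W k hk, W.2, hsW⟩
  · rintro ⟨r, hrv, hr⟩ t
    refine ⟨r t, fun x hx => ?_⟩
    obtain ⟨z, hz₁, hz₂⟩ := Scheme.Pullback.exists_preimage_pullback (f := ξ) (g := τ) x t hx
    have := congr($(hr) z)
    rw [Scheme.Hom.comp_apply, Scheme.Hom.comp_apply, hz₁, hz₂] at this
    exact this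
  · intro hT
    choose W k hW hk using fun t : T => hloc (τ t) (hT t)
    have hcov : TopologicalSpace.IsOpenCover (fun t : T => τ ⁻¹ᵁ W t) := by
      refine top_le_iff.mp ?_
      intro t _
      exact TopologicalSpace.Opens.mem_iSup.mpr ⟨t, hW t⟩
    let 𝒰 := T.openCoverOfIsOpenCover _ hcov
    have hv : ∀ t : T, k t ≫ v = (W t).ι := by
      intro t
      haveI : Surjective (ξ ∣_ W t) :=
        MorphismProperty.of_isPullback (P := @Surjective)
          (isPullback_morphismRestrict ξ (W t)).flip inferInstance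
      have hinj : ∀ V : (W t : Scheme.{u}).Opens,
          Function.Injective ((ξ ∣_ W t).app V).hom := by
        intro V
        rw [morphismRestrict_app]
        have h2 : Function.Injective
            (X.presheaf.map (eqToHom (image_morphismRestrict_preimage ξ (W t) V)).op).hom :=
          ((ConcreteCategory.isIso_iff_bijective _).mp inferInstance).1
        exact h2.comp (hξ _)
      refine eq_of_comp_eq (ξ ∣_ W t) hinj _ _ ?_
      rw [← Category.assoc, ← (hk t), Category.assoc, hf, morphismRestrict_ι]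
    let r : T ⟶ Y := 𝒰.glueMorphisms (fun t => (τ ∣_ W t) ≫ k t) (by
      intro t t'
      show pullback.fst (τ ⁻¹ᵁ W t).ι (τ ⁻¹ᵁ W t').ι ≫ (τ ∣_ W t) ≫ k t =
        pullback.snd (τ ⁻¹ᵁ W t).ι (τ ⁻¹ᵁ W t').ι ≫ (τ ∣_ W t') ≫ k t'
      rw [← Category.assoc, ← Category.assoc]
      refine Fact.unique hξ (hk t) (hk t') _ _ ?_
      rw [Category.assoc, Category.assoc, morphismRestrict_ι, morphismRestrict_ι,
        pullback.condition_assoc])
    have hr : ∀ t : T, (τ ⁻¹ᵁ W t).ι ≫ r = (τ ∣_ W t) ≫ k t := fun t =>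
      𝒰.ι_glueMorphisms _ _ t
    refine ⟨r, ?_, ?_⟩
    · refine 𝒰.hom_ext _ _ fun t => ?_
      show (τ ⁻¹ᵁ W t).ι ≫ r ≫ v = (τ ⁻¹ᵁ W t).ι ≫ τ
      rw [reassoc_of% (hr t), hv, morphismRestrict_ι]
    · have hcov' : TopologicalSpace.IsOpenCover
          (fun t : T => (pullback.snd ξ τ) ⁻¹ᵁ (τ ⁻¹ᵁ W t)) := by
        refine top_le_iff.mp ?_
        intro z _
        exact TopologicalSpace.Opens.mem_iSup.mpr ⟨pullback.snd ξ τ z, hW _⟩
      refine ((pullback ξ τ).openCoverOfIsOpenCover _ hcov').hom_ext _ _ fun t => ?_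
      set Q : (pullback ξ τ).Opens := (pullback.snd ξ τ) ⁻¹ᵁ (τ ⁻¹ᵁ W t) with hQ
      show Q.ι ≫ pullback.fst ξ τ ≫ f = Q.ι ≫ pullback.snd ξ τ ≫ r
      have hrl : Set.range (Q.ι ≫ pullback.snd ξ τ) ⊆ Set.range (τ ⁻¹ᵁ W t).ι := by
        rintro _ ⟨z, rfl⟩
        rw [Scheme.Opens.range_ι]
        exact z.2
      let l := IsOpenImmersion.lift (τ ⁻¹ᵁ W t).ι (Q.ι ≫ pullback.snd ξ τ) hrl
      have hl : l ≫ (τ ⁻¹ᵁ W t).ι = Q.ι ≫ pullback.snd ξ τ := IsOpenImmersion.lift_fac _ _ _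
      rw [← reassoc_of% hl, hr t, ← Category.assoc, ← Category.assoc]
      refine (hk t).comp_eq _ _ ?_
      rw [Category.assoc, Category.assoc, morphismRestrict_ι, reassoc_of% hl, pullback.condition]

end Groth.Agent.Lib.H9RigH
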