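import Mathlib
import Groth.Agent.Lib.H9AlgClB
import Groth.Agent.Lib.H9RigH

/-! helper9: `O_Y ≅ f_* O_X` is local, stable under flat base change, implies surjectivity for closed
maps; global factorisation of maps collapsed on all fibres. -/
set_option autoImplicit false
set_option linter.unusedSectionVars false
set_option linter.style.haveILetI false
universe u
open CategoryTheory CategoryTheory.Limits AlgebraicGeometry TopologicalSpace Opposite

namespace Groth.Agent.Lib.H9FlatBC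

open Groth.Agent.Lib.H9AlgClB

/-- gluing: if `f.app V` is an isomorphism for all small affine opens `V` then it is one for every
open `V` (no flatness needed) -/
theorem isIso_app_of_local {X S : Scheme.{u}} (f : X ⟶ S)
    (hloc : ∀ s : S, ∃ U : S.Opens, s ∈ U ∧
      ∀ V : S.Opens, IsAffineOpen V → V ≤ U → IsIso (f.app V))
    (V : S.Opens) : IsIso (f.app V) := by
  have hinj : ∀ V : S.Opens, Function.Injective (f.app V).hom := by
    intro V
    rw [injective_iff_map_eq_zero]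
    intro a ha
    refine TopCat.Presheaf.section_ext S.sheaf V a 0 ?_
    intro x hx
    obtain ⟨U, hxU, hU⟩ := hloc x
    obtain ⟨_, ⟨V', hV' : IsAffineOpen V', rfl⟩, hxV', hV'le⟩ :=
      S.isBasis_affineOpens.exists_subset_of_mem_open (show x ∈ ((V ⊓ U : S.Opens) : Set S) from
        ⟨hx, hxU⟩) (V ⊓ U).2
    have hV'V : V' ≤ V := fun y hy => (hV'le hy).1
    have hV'U : V' ≤ U := fun y hy => (hV'le hy).2
    haveI := hU V' hV' hV'U
    have h1 : (f.app V').hom ((S.presheaf.map (homOfLE hV'V).op).hom a) = 0 := by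
      have hnat := congr(($(f.naturality (homOfLE hV'V).op)).hom a)
      rw [CommRingCat.comp_apply, CommRingCat.comp_apply] at hnat
      rw [hnat, ha, map_zero]
    have h2 : (S.presheaf.map (homOfLE hV'V).op).hom a = 0 :=
      (ConcreteCategory.bijective_of_isIso (f.app V')).1 (by rw [h1, map_zero])
    have h3 := congr((S.presheaf.germ V' x hxV').hom $h2)
    rw [map_zero] at h3
    rw [map_zero]
    exact (TopCat.Presheaf.germ_res_apply S.presheaf (homOfLE hV'V) x hxV' a).symm.trans h3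
  rw [ConcreteCategory.isIso_iff_bijective]
  refine ⟨hinj V, ?_⟩
  have hstalk : ∀ x ∈ V, Function.Injective
      ((TopCat.Presheaf.stalkFunctor CommRingCat x).map (cSh f).hom) := fun x _ =>
    TopCat.Presheaf.stalkFunctor_map_injective_of_app_injective (f := (cSh f).hom)
      (fun U => hinj U) x
  refine TopCat.Presheaf.app_surjective_of_injective_of_locally_surjective (cSh f) V hstalk ?_
  intro t x hx
  obtain ⟨U, hxU, hU⟩ := hloc x
  obtain ⟨_, ⟨V', hV' : IsAffineOpen V', rfl⟩, hxV', hV'le⟩ :=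
    S.isBasis_affineOpens.exists_subset_of_mem_open (show x ∈ ((V ⊓ U : S.Opens) : Set S) from
      ⟨hx, hxU⟩) (V ⊓ U).2
  have hV'V : V' ≤ V := fun y hy => (hV'le hy).1
  have hV'U : V' ≤ U := fun y hy => (hV'le hy).2
  haveI := hU V' hV' hV'U
  obtain ⟨c, hc⟩ := (ConcreteCategory.bijective_of_isIso (f.app V')).2
    ((X.presheaf.map (homOfLE (f.preimage_mono hV'V)).op).hom t)
  exact ⟨V', hxV', homOfLE hV'V, c, hc⟩

/-- `O_Y ≅ f_* O_X` is stable under flat base change (for `f` qcqs). -/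
theorem isIso_app_baseChange {X Y X' Y' : Scheme.{u}} {f : X ⟶ Y} {g : Y' ⟶ Y} {f' : X' ⟶ Y'}
    {g' : X' ⟶ X} (H : IsPullback g' f' f g) [Flat g] [QuasiCompact f] [QuasiSeparated f]
    (hf : ∀ U : Y.Opens, IsIso (f.app U)) (V : Y'.Opens) : IsIso (f'.app V) := by
  refine isIso_app_of_local f' (fun s => ?_) V
  obtain ⟨_, ⟨U, hU : IsAffineOpen U, rfl⟩, hsU, -⟩ :=
    Y.isBasis_affineOpens.exists_subset_of_mem_open (Set.mem_univ (g s)) isOpen_univ
  refine ⟨g ⁻¹ᵁ U, hsU, fun V hV hVU => ?_⟩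
  have hUX : IsCompact ((f ⁻¹ᵁ U : X.Opens) : Set X) := f.isCompact_preimage hU.isCompact
  have hUX' : IsQuasiSeparated ((f ⁻¹ᵁ U : X.Opens) : Set X) :=
    f.isQuasiSeparated_preimage hU.isQuasiSeparated
  have hiso := isIso_pushoutSection_of_isQuasiSeparated_of_flat_right H (US := U) (UT := V)
    (UX := f ⁻¹ᵁ U) (UY := g' ⁻¹ᵁ (f ⁻¹ᵁ U) ⊓ f' ⁻¹ᵁ V) hVU le_rfl rfl hU hV hUX hUX'
  haveI : IsIso (f.appLE U (f ⁻¹ᵁ U) le_rfl) := by
    rw [Scheme.Hom.appLE_eq_app]; exact hf U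
  have hinr : IsIso (pushout.inr (f.appLE U (f ⁻¹ᵁ U) le_rfl) (g.appLE U V hVU)) :=
    inferInstance
  have hle : g' ⁻¹ᵁ (f ⁻¹ᵁ U) ⊓ f' ⁻¹ᵁ V ≤ f' ⁻¹ᵁ V := inf_le_right
  have hcomp : pushout.inr (f.appLE U (f ⁻¹ᵁ U) le_rfl) (g.appLE U V hVU) ≫
      pushoutSection H (US := U) (UT := V) (UX := f ⁻¹ᵁ U)
        (UY := g' ⁻¹ᵁ (f ⁻¹ᵁ U) ⊓ f' ⁻¹ᵁ V) hVU le_rfl rfl =
      f'.appLE V (g' ⁻¹ᵁ (f ⁻¹ᵁ U) ⊓ f' ⁻¹ᵁ V) hle := by
    rw [pushoutSection, pushout.inr_desc]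
  have h1 : IsIso (f'.appLE V (g' ⁻¹ᵁ (f ⁻¹ᵁ U) ⊓ f' ⁻¹ᵁ V) hle) := by
    rw [← hcomp]; infer_instance
  have heq : g' ⁻¹ᵁ (f ⁻¹ᵁ U) ⊓ f' ⁻¹ᵁ V = f' ⁻¹ᵁ V := by
    apply le_antisymm hle
    refine le_inf ?_ le_rfl
    intro x hx
    change f (g' x) ∈ U
    rw [← Scheme.Hom.comp_apply, H.w, Scheme.Hom.comp_apply]
    exact hVU hx
  have h2 : f'.appLE V (g' ⁻¹ᵁ (f ⁻¹ᵁ U) ⊓ f' ⁻¹ᵁ V) hle =
      f'.app V ≫ X'.presheaf.map (homOfLE hle).op := rfl
  rw [h2] at h1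
  haveI : IsIso (X'.presheaf.map (homOfLE hle).op) := by
    have : (homOfLE hle) = eqToHom heq := Subsingleton.elim _ _
    rw [this]
    infer_instance
  exact IsIso.of_isIso_comp_right (f'.app V) (X'.presheaf.map (homOfLE hle).op)

/-- a closed map with `O_Y ≅ f_* O_X` is surjective -/
theorem surjective_of_isIso_app {X Y : Scheme.{u}} (f : X ⟶ Y) (hcl : IsClosedMap f)
    (hf : ∀ U : Y.Opens, IsIso (f.app U)) : Function.Surjective f := by
  by_contra hns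
  let U : Y.Opens := ⟨(Set.range f)ᶜ, hcl.isClosed_range.isOpen_compl⟩
  obtain ⟨y, hy⟩ : ∃ y, y ∈ U := by
    by_contra h
    push_neg at h
    apply hns
    intro y
    by_contra hy
    exact h y hy
  have hbot : f ⁻¹ᵁ U = ⊥ := by
    ext x
    simp only [Opens.coe_bot, Set.mem_empty_iff_false, iff_false]
    intro hx
    exact hx ⟨x, rfl⟩
  haveI := hf U
  have hsub : Subsingleton Γ(X, f ⁻¹ᵁ U) := by rw [hbot]; infer_instance
  have hsubY : Subsingleton Γ(Y, U) :=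
    (ConcreteCategory.bijective_of_isIso (f.app U)).1.subsingleton
  have h01 : (1 : Γ(Y, U)) = 0 := Subsingleton.elim _ _
  have h2 := congr((Y.presheaf.germ U y hy).hom $h01)
  rw [map_one, map_zero] at h2
  exact one_ne_zero h2

open Groth.Agent.Lib.H9RigA Groth.Agent.Lib.H9RigH in
/-- a morphism which is (set-theoretically) constant on the fibres of a proper surjective `ξ` with
`O_S ≅ ξ_* O_X` factors through `ξ`. -/
theorem exists_factor_of_collapsed {X Y S : Scheme.{u}} (ξ : X ⟶ S) [IsProper ξ] [Surjective ξ]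
    (hg : ∀ V : S.Opens, IsIso (ξ.app V)) (f : X ⟶ Y)
    (hc : ∀ x x' : X, ξ x = ξ x' → f x = f x') : ∃ r : S ⟶ Y, ξ ≫ r = f := by
  have hξ : ∀ V : S.Opens, Function.Injective (ξ.app V).hom := fun V =>
    (ConcreteCategory.bijective_of_isIso (ξ.app V)).1
  have hloc : ∀ s : S, ∃ (W : S.Opens) (k : (W : Scheme.{u}) ⟶ Y), s ∈ W ∧ Fact ξ f W k := by
    intro s
    obtain ⟨x₀, hx₀⟩ := ξ.surjective s
    obtain ⟨W, hsW, k, hk⟩ := local_factor ξ hg f s (f x₀)
      (fun x hx => hc x x₀ (hx.trans hx₀.symm))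
    exact ⟨W, k, hsW, hk⟩
  choose W k hW hk using hloc
  have hcov : IsOpenCover W :=
    top_le_iff.mp (fun s _ => Opens.mem_iSup.mpr ⟨s, hW s⟩)
  let 𝒰 := S.openCoverOfIsOpenCover _ hcov
  let r : S ⟶ Y := 𝒰.glueMorphisms (fun s => k s) (by
    intro s s'
    show pullback.fst (W s).ι (W s').ι ≫ k s = pullback.snd (W s).ι (W s').ι ≫ k s'
    exact Fact.unique hξ (hk s) (hk s') _ _ pullback.condition)
  have hr : ∀ s, (W s).ι ≫ r = k s := fun s => 𝒰.ι_glueMorphisms _ _ s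
  refine ⟨r, ?_⟩
  have hcov' : IsOpenCover (fun s => ξ ⁻¹ᵁ W s) :=
    top_le_iff.mp (fun x _ => Opens.mem_iSup.mpr ⟨ξ x, hW (ξ x)⟩)
  refine (X.openCoverOfIsOpenCover _ hcov').hom_ext _ _ fun s => ?_
  show (ξ ⁻¹ᵁ W s).ι ≫ ξ ≫ r = (ξ ⁻¹ᵁ W s).ι ≫ f
  rw [← morphismRestrict_ι_assoc, hr, hk s]

end Groth.Agent.Lib.H9FlatBC
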