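import Mathlib
import Groth.Prelude.Def_AlgGrp
import Groth.Agent.Lib.H9FlatBC
import Groth.Agent.Lib.H9RigE

/-! helper9: descent of actions along proper `f` with `O_Y ≅ f_* O_X` (S17473). -/
set_option autoImplicit false
set_option linter.unusedSectionVars false
set_option linter.style.haveILetI false
universe u
open CategoryTheory CategoryTheory.Limits MonoidalCategory CartesianMonoidalCategory MonObj GrpObj
  AlgebraicGeometry

namespace Groth.Agent.Lib.H9ActDesc

open Groth.Agent.Lib.H9FlatBC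

variable {k : Type u} [Field k] {X Y : Over (Spec (CommRingCat.of k))} (f : X ⟶ Y)

section whisker

variable [IsProper f.left] (hf : ∀ U : Y.left.Opens, IsIso (f.left.app U))
  (Z : Over (Spec (CommRingCat.of k)))

theorem isPullback_whisker :
    IsPullback (snd Z X).left (Z ◁ f).left f.left (snd Z Y).left :=
  (Groth.Agent.Lib.H9RigE.isPullback_whiskerLeft Z f).flip

instance isProper_whisker : IsProper (Z ◁ f).left :=
  MorphismProperty.of_isPullback (P := @IsProper) (isPullback_whisker f Z) inferInstance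

include hf in
theorem isIso_app_whisker (V : (Z ⊗ Y).left.Opens) : IsIso ((Z ◁ f).left.app V) := by
  haveI : Flat Z.hom := inferInstance
  haveI : Flat (snd Z Y).left := by
    change Flat (pullback.snd Z.hom Y.hom)
    infer_instance
  exact isIso_app_baseChange (isPullback_whisker f Z) hf V

include hf in
theorem surjective_whisker : Surjective (Z ◁ f).left :=
  ⟨surjective_of_isIso_app _ (Z ◁ f).left.isClosedMap (isIso_app_whisker f hf Z)⟩

include hf in
theorem epi_whisker : Epi (Z ◁ f) := by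
  haveI := surjective_whisker f hf Z
  constructor
  intro W u v huv
  ext1
  refine Groth.Agent.Lib.H9RigH.eq_of_comp_eq (Z ◁ f).left (fun V =>
    haveI := isIso_app_whisker f hf Z V
    (ConcreteCategory.bijective_of_isIso ((Z ◁ f).left.app V)).1) _ _ ?_
  rw [← Over.comp_left, ← Over.comp_left, huv]

end whisker

section main

variable {G : Over (Spec (CommRingCat.of k))} [GrpObj G] [IsProper f.left]
  (hf : ∀ U : Y.left.Opens, IsIso (f.left.app U)) (a : AlgGrp.Action G X)

include hf in
/-- (iii) ⇒ (i) -/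
theorem exists_action_of_collapsed
    (h3 : ∀ p q : ↥(G ⊗ X).left, (G ◁ f).left.base p = (G ◁ f).left.base q →
      (a.act ≫ f).left.base p = (a.act ≫ f).left.base q) :
    ∃ b : AlgGrp.Action G Y, (G ◁ f) ≫ b.act = a.act ≫ f := by
  haveI := surjective_whisker f hf G
  obtain ⟨r, hr⟩ := exists_factor_of_collapsed (G ◁ f).left (isIso_app_whisker f hf G)
    (a.act ≫ f).left h3
  have hw : r ≫ Y.hom = (G ⊗ Y).hom := by
    refine Groth.Agent.Lib.H9RigH.eq_of_comp_eq (G ◁ f).left (fun V =>
      haveI := isIso_app_whisker f hf G V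
      (ConcreteCategory.bijective_of_isIso ((G ◁ f).left.app V)).1) _ _ ?_
    rw [reassoc_of% hr, Over.w, Over.w]
  let h : G ⊗ Y ⟶ Y := Over.homMk r hw
  have hh : (G ◁ f) ≫ h = a.act ≫ f := by
    ext1
    exact hr
  haveI := epi_whisker f hf (𝟙_ (Over (Spec (CommRingCat.of k))))
  haveI := epi_whisker f hf (G ⊗ G)
  refine ⟨⟨h, ?_, ?_⟩, hh⟩
  · rw [← cancel_epi (𝟙_ (Over (Spec (CommRingCat.of k))) ◁ f), whisker_exchange_assoc, hh,
      reassoc_of% a.one_act, leftUnitor_naturality]
  · rw [← cancel_epi ((G ⊗ G) ◁ f), whisker_exchange_assoc, hh, reassoc_of% a.mul_act,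
      associator_naturality_right_assoc, ← whiskerLeft_comp_assoc, hh, whiskerLeft_comp_assoc,
      hh]

theorem main17473 (k : Type u) [Field k]
    (G X Y : Over (Spec (CommRingCat.of k))) [GrpObj G] [LocallyOfFiniteType G.hom]
    [IsSeparated X.hom] [IsSeparated Y.hom]
    (f : X ⟶ Y) [IsProper f.left] (hf : ∀ U : Y.left.Opens, IsIso (f.left.app U))
    (a : AlgGrp.Action G X) :
    [∃ b : AlgGrp.Action G Y, (G ◁ f) ≫ b.act = a.act ≫ f,
      ∀ (T : Over (Spec (CommRingCat.of k))) (g : T ⟶ G) (x₁ x₂ : T ⟶ X),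
        x₁ ≫ f = x₂ ≫ f → lift g x₁ ≫ a.act ≫ f = lift g x₂ ≫ a.act ≫ f,
      ∀ p q : ↥(G ⊗ X).left, (G ◁ f).left.base p = (G ◁ f).left.base q →
        (a.act ≫ f).left.base p = (a.act ≫ f).left.base q].TFAE := by
  tfae_have 1 → 2 := by
    rintro ⟨b, hb⟩ T g x₁ x₂ hx
    rw [← hb, ← Category.assoc, ← Category.assoc, lift_whiskerLeft, lift_whiskerLeft, hx]
  tfae_have 2 → 3 := by
    intro h2 p q hpq
    set π := (G ◁ f).left with hπ
    obtain ⟨z, hz₁, hz₂⟩ := Scheme.Pullback.exists_preimage_pullback (f := π) (g := π) p q hpq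
    let T : Over (Spec (CommRingCat.of k)) := Over.mk (pullback.fst π π ≫ (G ⊗ X).hom)
    let pr₁ : T ⟶ G ⊗ X := Over.homMk (pullback.fst π π) rfl
    let pr₂ : T ⟶ G ⊗ X := Over.homMk (pullback.snd π π) (by
      change pullback.snd π π ≫ (G ⊗ X).hom = pullback.fst π π ≫ (G ⊗ X).hom
      rw [← Over.w (G ◁ f), ← hπ, ← pullback.condition_assoc])
    have hpr : pr₁ ≫ (G ◁ f) = pr₂ ≫ (G ◁ f) := by
      apply Over.OverMorphism.ext
      exact pullback.condition (f := π) (g := π)
    have e1 : pr₁ = lift (pr₁ ≫ fst G X) (pr₁ ≫ snd G X) := by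
      apply CartesianMonoidalCategory.hom_ext <;> simp
    have e2 : pr₂ = lift (pr₁ ≫ fst G X) (pr₂ ≫ snd G X) := by
      apply CartesianMonoidalCategory.hom_ext
      · rw [lift_fst, ← whiskerLeft_fst G f, ← Category.assoc, ← hpr, Category.assoc,
          whiskerLeft_fst]
      · rw [lift_snd]
    have hx : (pr₁ ≫ snd G X) ≫ f = (pr₂ ≫ snd G X) ≫ f := by
      rw [Category.assoc, Category.assoc, ← whiskerLeft_snd, ← Category.assoc, hpr,
        Category.assoc]
    have key := h2 T (pr₁ ≫ fst G X) (pr₁ ≫ snd G X) (pr₂ ≫ snd G X) hx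
    rw [← e1, ← e2] at key
    have key' := congr(($key).left z)
    rw [Over.comp_left, Over.comp_left, Scheme.Hom.comp_apply, Scheme.Hom.comp_apply] at key'
    change (a.act ≫ f).left (pullback.fst π π z) = (a.act ≫ f).left (pullback.snd π π z) at key'
    rw [hz₁, hz₂] at key'
    exact key'
  tfae_have 3 → 1 := exists_action_of_collapsed f hf a
  tfae_finish

end main

end Groth.Agent.Lib.H9ActDesc
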