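import Mathlib

set_option autoImplicit false
set_option linter.unusedSectionVars false
set_option linter.unusedVariables false
set_option linter.style.haveILetI false
universe u v

namespace Groth.Agent.Lib.H9Acyclic

namespace ACY
section

open RingTheory.Sequence

variable {R : Type u} [CommRing R]

lemma mk_eq_zero_iff {M : Type v} [AddCommGroup M] [Module R M] (x : R) (w : M) :
    (Submodule.Quotient.mk w : QuotSMulTop x M) = 0 ↔ ∃ w' : M, x • w' = w := by
  rw [Submodule.Quotient.mk_eq_zero, Submodule.mem_smul_pointwise_iff_exists]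
  constructor
  · rintro ⟨b, -, hb⟩
    exact ⟨b, hb⟩
  · rintro ⟨b, hb⟩
    exact ⟨b, trivial, hb⟩

/-- the acyclicity lemma (Peskine–Szpiro), elementary form -/
theorem acyclic (S : Set R) :
    ∀ (e : ℕ) (rs : List R), rs.length = e → (∀ x ∈ rs, x ∈ S) →
    ∀ (F : ℕ → Type v) [∀ j, AddCommGroup (F j)] [∀ j, Module R (F j)]
      (d : ∀ j, F (j + 1) →ₗ[R] F j),
      d e = 0 → (∀ j, j < e → d j ∘ₗ d (j + 1) = 0) →
      (∀ j, IsWeaklyRegular (F j) rs) →
      (∀ j, j < e → ∀ z ∈ LinearMap.ker (d j), ∀ y ∈ S,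
        ∃ N : ℕ, y ^ N • z ∈ LinearMap.range (d (j + 1))) →
      ∀ j, j < e → LinearMap.ker (d j) ≤ LinearMap.range (d (j + 1)) := by
  intro e
  induction e with
  | zero =>
    intro rs _ _ F _ _ d _ _ _ _ j hj
    omega
  | succ e ih =>
    intro rs hlen hS F _ _ d hde hcx hreg htor
    obtain ⟨x, rs', rfl⟩ := List.exists_cons_of_length_eq_add_one hlen
    have hxS : x ∈ S := hS x (List.mem_cons_self ..)
    have hregx : ∀ j, IsSMulRegular (F j) x :=
      fun j => ((isWeaklyRegular_cons_iff _ _ _).mp (hreg j)).1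
    have hreg' : ∀ j, IsWeaklyRegular (QuotSMulTop x (F j)) rs' :=
      fun j => ((isWeaklyRegular_cons_iff _ _ _).mp (hreg j)).2
    have hdd : ∀ j, j < e + 1 → ∀ w, d j (d (j + 1) w) = 0 := by
      intro j hj w
      have := hcx j hj
      exact LinearMap.congr_fun this w
    have IH := ih rs' (by simpa using hlen) (fun y hy => hS y (List.mem_cons_of_mem _ hy))
      (fun j => QuotSMulTop x (F (j + 1))) (fun j => QuotSMulTop.map x (d (j + 1)))
      (by
        show QuotSMulTop.map x (d (e + 1)) = 0
        rw [hde, map_zero])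
      (by
        intro j hj
        show QuotSMulTop.map x (d (j + 1)) ∘ₗ QuotSMulTop.map x (d (j + 1 + 1)) = 0
        rw [← QuotSMulTop.map_comp, hcx (j + 1) (by omega), map_zero])
      (fun j => hreg' (j + 1))
      (by
        intro j hj zb hzb y hy
        obtain ⟨w, rfl⟩ := Submodule.Quotient.mk_surjective _ zb
        rw [LinearMap.mem_ker] at hzb
        change (Submodule.Quotient.mk (d (j + 1) w) : QuotSMulTop x (F (j + 1))) = 0 at hzb
        rw [mk_eq_zero_iff] at hzb
        obtain ⟨z', hz'⟩ := hzb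
        have hz'k : d j z' = 0 := by
          apply hregx j
          show x • d j z' = x • 0
          rw [smul_zero, ← map_smul, hz', hdd j (by omega)]
        obtain ⟨N, u, hu⟩ := htor j (by omega) z' (LinearMap.mem_ker.mpr hz'k) y hy
        have hv : y ^ N • w - x • u ∈ LinearMap.ker (d (j + 1)) := by
          rw [LinearMap.mem_ker, map_sub, map_smul, map_smul, hu, ← hz', smul_comm, sub_self]
        obtain ⟨N', u', hu'⟩ := htor (j + 1) (by omega) _ hv y hy
        refine ⟨N' + N, Submodule.Quotient.mk u', ?_⟩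
        show (Submodule.Quotient.mk (d (j + 1 + 1) u') : QuotSMulTop x (F (j + 1 + 1))) =
          y ^ (N' + N) • Submodule.Quotient.mk w
        rw [hu', ← Submodule.Quotient.mk_smul, eq_comm, ← sub_eq_zero, ← Submodule.Quotient.mk_sub,
          mk_eq_zero_iff]
        refine ⟨y ^ N' • u, ?_⟩
        rw [pow_add, mul_smul, smul_sub, smul_comm x]
        abel)
    -- key claim
    have claimA : ∀ j, j < e + 1 → ∀ z₁ ∈ LinearMap.ker (d j),
        x • z₁ ∈ LinearMap.range (d (j + 1)) → z₁ ∈ LinearMap.range (d (j + 1)) := by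
      intro j hj z₁ hz₁ hxz
      obtain ⟨w, hw⟩ := hxz
      by_cases hje : j = e
      · subst hje
        rw [hde, LinearMap.zero_apply] at hw
        have : z₁ = 0 := by
          apply hregx (j + 1)
          show x • z₁ = x • 0
          rw [smul_zero, ← hw]
        rw [this]
        exact Submodule.zero_mem _
      · have hj' : j < e := by omega
        have hwk : (Submodule.Quotient.mk w : QuotSMulTop x (F (j + 1 + 1))) ∈
            LinearMap.ker (QuotSMulTop.map x (d (j + 1))) := by
          rw [LinearMap.mem_ker]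
          show (Submodule.Quotient.mk (d (j + 1) w) : QuotSMulTop x (F (j + 1))) = 0
          rw [mk_eq_zero_iff]
          exact ⟨z₁, hw.symm⟩
        obtain ⟨vb, hvb⟩ := IH j hj' hwk
        obtain ⟨v, rfl⟩ := Submodule.Quotient.mk_surjective _ vb
        change (Submodule.Quotient.mk (d (j + 1 + 1) v) : QuotSMulTop x (F (j + 1 + 1))) =
          Submodule.Quotient.mk w at hvb
        rw [eq_comm, ← sub_eq_zero, ← Submodule.Quotient.mk_sub, mk_eq_zero_iff] at hvb
        obtain ⟨w', hw'⟩ := hvb
        refine ⟨w', ?_⟩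
        apply hregx (j + 1)
        show x • d (j + 1) w' = x • z₁
        rw [← map_smul, hw', map_sub, hdd (j + 1) (by omega), sub_zero, hw]
    intro j hj z hz
    obtain ⟨N, hN⟩ := htor j hj z hz x hxS
    induction N with
    | zero => simpa using hN
    | succ N ihN =>
      apply ihN
      apply claimA j hj
      · rw [LinearMap.mem_ker, map_smul, LinearMap.mem_ker.mp hz, smul_zero]
      · rw [← mul_smul, ← pow_succ']
        exact hN

end
end ACY

namespace ACY
section

open RingTheory.Sequence Matrix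

variable {R : Type u} [CommRing R]

/-- exactness on the punctured spectrum gives power torsion homology -/
lemma torsion_of_loc [IsLocalRing R] {a b c : ℕ} (P : Matrix (Fin a) (Fin b) R)
    (Q : Matrix (Fin b) (Fin c) R)
    (hloc : ∀ (p : Ideal R) [p.IsPrime], p ≠ IsLocalRing.maximalIdeal R →
      LinearMap.ker ((P.map (algebraMap R (Localization.AtPrime p))).mulVecLin) ≤
        LinearMap.range ((Q.map (algebraMap R (Localization.AtPrime p))).mulVecLin))
    (z : Fin b → R) (hz : z ∈ LinearMap.ker P.mulVecLin)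
    (y : R) (hy : y ∈ IsLocalRing.maximalIdeal R) :
    ∃ N : ℕ, y ^ N • z ∈ LinearMap.range Q.mulVecLin := by
  classical
  let J : Ideal R := (LinearMap.range Q.mulVecLin).comap (LinearMap.toSpanSingleton R _ z)
  have hJ : ∀ r : R, r ∈ J ↔ r • z ∈ LinearMap.range Q.mulVecLin := by
    intro r
    show r ∈ Submodule.comap (LinearMap.toSpanSingleton R (Fin b → R) z)
      (LinearMap.range Q.mulVecLin) ↔ _
    rw [Submodule.mem_comap, LinearMap.toSpanSingleton_apply]
  suffices h : y ∈ J.radical by
    obtain ⟨N, hN⟩ := h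
    exact ⟨N, (hJ _).mp hN⟩
  rw [Ideal.radical_eq_sInf, Ideal.mem_sInf]
  rintro K ⟨hJK, hK⟩
  by_cases hKm : K = IsLocalRing.maximalIdeal R
  · rw [hKm]
    exact hy
  · exfalso
    haveI := hK
    set alg := algebraMap R (Localization.AtPrime K) with halg
    have hzp : (fun i => alg (z i)) ∈
        LinearMap.ker ((P.map alg).mulVecLin) := by
      rw [LinearMap.mem_ker, Matrix.mulVecLin_apply]
      funext i
      have := RingHom.map_mulVec alg P z i
      rw [Function.comp_def] at this
      rw [← this]
      have hz' : P *ᵥ z = 0 := by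
        rw [LinearMap.mem_ker, Matrix.mulVecLin_apply] at hz
        exact hz
      rw [hz']
      simp
    obtain ⟨wp, hwp⟩ := hloc K hKm hzp
    rw [Matrix.mulVecLin_apply] at hwp
    obtain ⟨t, ht⟩ := IsLocalization.exist_integer_multiples_of_finite K.primeCompl wp
    choose w hw using ht
    have h1 : ∀ i, alg ((Q *ᵥ w) i - (t : R) * z i) = 0 := by
      intro i
      rw [map_sub, map_mul, RingHom.map_mulVec alg Q w i]
      have h2 : (alg ∘ w) = (t : R) • wp := by
        funext l
        exact hw l
      rw [h2, Matrix.mulVec_smul, hwp, Pi.smul_apply, Algebra.smul_def, sub_self]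
    have h3 : ∀ i, ∃ s : K.primeCompl, (s : R) * ((Q *ᵥ w) i - (t : R) * z i) = 0 :=
      fun i => (IsLocalization.map_eq_zero_iff K.primeCompl _ _).mp (h1 i)
    choose s hs using h3
    let s0 : K.primeCompl := ∏ i, s i
    have hs0 : ∀ i, (s0 : R) * ((Q *ᵥ w) i - (t : R) * z i) = 0 := by
      intro i
      have hdvd : ((s i : K.primeCompl) : R) ∣ (s0 : R) := by
        show ((s i : K.primeCompl) : R) ∣ ((∏ i, s i : K.primeCompl) : R)
        rw [Submonoid.coe_finsetProd]
        exact Finset.dvd_prod_of_mem (fun i => ((s i : K.primeCompl) : R)) (Finset.mem_univ i)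
      obtain ⟨c', hc'⟩ := hdvd
      rw [hc', mul_comm _ c', mul_assoc, hs i, mul_zero]
    have h4 : ((s0 : R) * (t : R)) ∈ J := by
      rw [hJ]
      refine ⟨(s0 : R) • w, ?_⟩
      rw [Matrix.mulVecLin_apply, Matrix.mulVec_smul]
      funext i
      have := hs0 i
      rw [mul_sub, sub_eq_zero] at this
      rw [Pi.smul_apply, Pi.smul_apply, smul_eq_mul, smul_eq_mul, this, mul_assoc]
    exact (s0 * t).2 (hJK h4)

end
end ACY

namespace ACY
section

open RingTheory.Sequence Matrix

lemma weaklyRegular_pi {R : Type u} [CommRing R] (rs : List R) (h : IsWeaklyRegular R rs) (m : ℕ) :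
    IsWeaklyRegular (Fin m → R) rs := by
  have h1 : IsWeaklyRegular (TensorProduct R R (Fin m → R)) rs :=
    IsWeaklyRegular.isWeaklyRegular_rTensor (M₂ := Fin m → R) h
  exact ((TensorProduct.lid R (Fin m → R)).isWeaklyRegular_congr rs).mp h1

theorem thm128 {R : Type u} [CommRing R] [IsLocalRing R] [IsNoetherianRing R]
    (e : ℕ) (he : 1 ≤ e) (n : ℕ → ℕ) (A : (i : ℕ) → Matrix (Fin (n i)) (Fin (n (i + 1))) R)
    (hA : ∀ i, i + 2 ≤ e → A i * A (i + 1) = 0)
    (rs : List R) (hlen : rs.length = e) (hmem : ∀ x ∈ rs, x ∈ IsLocalRing.maximalIdeal R)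
    (hreg : RingTheory.Sequence.IsRegular R rs)
    (hloc : ∀ (p : Ideal R) [p.IsPrime], p ≠ IsLocalRing.maximalIdeal R →
      LinearMap.ker ((A (e - 1)).map (algebraMap R (Localization.AtPrime p))).mulVecLin = ⊥ ∧
        ∀ i, i + 2 ≤ e →
          LinearMap.ker ((A i).map (algebraMap R (Localization.AtPrime p))).mulVecLin =
            LinearMap.range ((A (i + 1)).map (algebraMap R (Localization.AtPrime p))).mulVecLin) :
    LinearMap.ker (A (e - 1)).mulVecLin = ⊥ ∧
      ∀ i, i + 2 ≤ e → LinearMap.ker (A i).mulVecLin = LinearMap.range (A (i + 1)).mulVecLin := by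
  classical
  let A' : (i : ℕ) → Matrix (Fin (n i)) (Fin (n (i + 1))) R := fun i => if i < e then A i else 0
  have hA'pos : ∀ i, i < e → A' i = A i := fun i hi => if_pos hi
  have hA'neg : ∀ i, ¬ i < e → A' i = 0 := fun i hi => if_neg hi
  have key := acyclic (R := R) (S := (IsLocalRing.maximalIdeal R : Set R)) e rs hlen hmem
    (fun j => Fin (n j) → R) (fun j => (A' j).mulVecLin)
    (by
      show (A' e).mulVecLin = 0
      rw [hA'neg e (lt_irrefl e), Matrix.mulVecLin_zero])
    (by
      intro j hj
      show (A' j).mulVecLin ∘ₗ (A' (j + 1)).mulVecLin = 0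
      rw [← Matrix.mulVecLin_mul]
      by_cases hj1 : j + 1 < e
      · rw [hA'pos j hj, hA'pos (j + 1) hj1, hA j (by omega), Matrix.mulVecLin_zero]
      · rw [hA'neg (j + 1) hj1, Matrix.mul_zero, Matrix.mulVecLin_zero])
    (fun j => weaklyRegular_pi rs hreg.toIsWeaklyRegular (n j))
    (by
      intro j hj z hz y hy
      refine torsion_of_loc (A' j) (A' (j + 1)) ?_ z hz y hy
      intro p _ hp
      by_cases hj1 : j + 1 < e
      · rw [hA'pos j hj, hA'pos (j + 1) hj1]
        exact ((hloc p hp).2 j (by omega)).le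
      · have hje : j = e - 1 := by omega
        subst hje
        rw [hA'pos (e - 1) hj, (hloc p hp).1]
        exact bot_le)
  constructor
  · rw [eq_bot_iff]
    intro z hz
    have h1 := key (e - 1) (by omega)
    have hz' : z ∈ LinearMap.ker (A' (e - 1)).mulVecLin := by
      rw [hA'pos (e - 1) (by omega)]
      exact hz
    have h2 := h1 hz'
    have h3 : (A' (e - 1 + 1)).mulVecLin = 0 := by
      rw [hA'neg (e - 1 + 1) (by omega), Matrix.mulVecLin_zero]
    change z ∈ LinearMap.range (A' (e - 1 + 1)).mulVecLin at h2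
    rw [h3, LinearMap.range_zero] at h2
    exact h2
  · intro i hi
    apply le_antisymm
    · have h1 := key i (by omega)
      intro z hz
      have hz' : z ∈ LinearMap.ker (A' i).mulVecLin := by
        rw [hA'pos i (by omega)]
        exact hz
      have h2 := h1 hz'
      change z ∈ LinearMap.range (A' (i + 1)).mulVecLin at h2
      rw [hA'pos (i + 1) (by omega)] at h2
      exact h2
    · rintro _ ⟨w, rfl⟩
      rw [LinearMap.mem_ker, ← LinearMap.comp_apply, ← Matrix.mulVecLin_mul, hA i hi,
        Matrix.mulVecLin_zero, LinearMap.zero_apply]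

end
end ACY

end Groth.Agent.Lib.H9Acyclic
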