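import Mathlib
import Groth.Prelude.Def_BlowUp2
import Groth.Prelude.Def_CurvBase
import Groth.Agent.Lib.Helper20EffCartier

set_option autoImplicit false
universe u
open nonZeroDivisors CategoryTheory AlgebraicGeometry TopologicalSpace Opposite
open Groth.Agent.Lib.Helper20.EffCartier

namespace Groth.Agent.Lib.H9AffBlow

section alg
variable {A B : Type u} [CommRing A] [CommRing B] [Algebra A B]
variable (hinj : Function.Injective (algebraMap A B)) (I : Ideal A)
variable (hIB : (Ideal.map (algebraMap A B) I : Set B) ⊆ algebraMap A B '' (I : Set A))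
variable (f : B) (hf : f ∈ nonZeroDivisors B) (hgen : Ideal.map (algebraMap A B) I = Ideal.span {f})

include hIB hgen in
theorem exists_num (b : B) : ∃ x ∈ I, algebraMap A B x = f * b := by
  have : f * b ∈ (Ideal.map (algebraMap A B) I : Set B) := by
    rw [hgen]
    exact Ideal.mul_mem_right _ _ (Ideal.subset_span rfl)
  obtain ⟨x, hx, hxe⟩ := hIB this
  exact ⟨x, hx, hxe⟩

include hinj hIB hgen in
theorem mul_mem (a₀ : A) (ha₀ : algebraMap A B a₀ = f) :
    I * I ≤ Ideal.span {a₀} * I := by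
  rw [Ideal.mul_le]
  intro x hx y hy
  have hx' : algebraMap A B x ∈ Ideal.span {f} := by
    rw [← hgen]; exact Ideal.mem_map_of_mem _ hx
  obtain ⟨b, hb⟩ := Ideal.mem_span_singleton'.1 hx'
  -- b * f = φ x
  have : b * algebraMap A B y ∈ (Ideal.map (algebraMap A B) I : Set B) :=
    Ideal.mul_mem_left _ _ (Ideal.mem_map_of_mem _ hy)
  obtain ⟨z, hz, hze⟩ := hIB this
  have : x * y = a₀ * z := by
    apply hinj
    rw [map_mul, map_mul, ha₀, hze, ← hb]
    ring
  rw [this]
  exact Ideal.mul_mem_mul (Ideal.subset_span rfl) hz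

include hinj hIB hgen in
/-- any ring map making `I` principal generated by a nonzerodivisor makes `a₀` such a generator. -/
theorem map_eq_span (a₀ : A) (ha₀I : a₀ ∈ I) (ha₀ : algebraMap A B a₀ = f)
    {C : Type u} [CommRing C] (ψ : A →+* C) (c : C) (hc : c ∈ C⁰)
    (hIc : Ideal.map ψ I = Ideal.span {c}) :
    ψ a₀ ∈ C⁰ ∧ Ideal.map ψ I = Ideal.span {ψ a₀} := by
  have h1 := Ideal.map_mono (f := ψ) (mul_mem hinj I hIB f hgen a₀ ha₀)
  rw [Ideal.map_mul, Ideal.map_mul, Ideal.map_span, Set.image_singleton, hIc,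
    Ideal.span_singleton_mul_span_singleton, Ideal.span_singleton_mul_span_singleton,
    Ideal.span_singleton_le_span_singleton] at h1
  obtain ⟨v, hv⟩ := h1
  have h2 : ψ a₀ ∈ Ideal.span {c} := by rw [← hIc]; exact Ideal.mem_map_of_mem _ ha₀I
  obtain ⟨w, hw⟩ := Ideal.mem_span_singleton'.1 h2
  -- c * c = ψ a₀ * c * v ; ψ a₀ = w * c
  have h3 : c = ψ a₀ * v := by
    have : c * c = (ψ a₀ * v) * c := by rw [hv]; ring
    exact (mul_cancel_right_mem_nonZeroDivisors hc).1 this
  have h4 : w * v = 1 := by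
    have : (w * v) * c = 1 * c := by
      rw [one_mul]
      nth_rw 2 [h3]
      rw [← hw]; ring
    exact (mul_cancel_right_mem_nonZeroDivisors hc).1 this
  have hu : IsUnit v := IsUnit.of_mul_eq_one _ (by rw [mul_comm]; exact h4)
  refine ⟨?_, ?_⟩
  · have : ψ a₀ = c * w := by rw [← hw]; ring
    rw [this]
    exact Submonoid.mul_mem _ hc (IsUnit.mem_nonZeroDivisors (IsUnit.of_mul_eq_one _ h4))
  · rw [hIc]
    apply le_antisymm
    · rw [Ideal.span_singleton_le_span_singleton]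
      exact ⟨v, h3⟩
    · rw [Ideal.span_singleton_le_span_singleton]
      exact ⟨w, by rw [← hw]; ring⟩

include hinj hIB hgen in
theorem existsUnique_lift (a₀ : A) (ha₀ : algebraMap A B a₀ = f)
    {C : Type u} [CommRing C] (ψ : A →+* C) (hnzd : ψ a₀ ∈ C⁰)
    (hsub : ∀ x ∈ I, ψ a₀ ∣ ψ x) :
    ∃! χ : B →+* C, χ.comp (algebraMap A B) = ψ := by
  choose num hnumI hnum using exists_num I hIB f hgen
  choose q hq using fun b : B => hsub (num b) (hnumI b)
  have cancel : ∀ {x y : C}, ψ a₀ * x = ψ a₀ * y → x = y := fun h =>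
    (mul_cancel_left_mem_nonZeroDivisors hnzd).1 h
  have hq1 : q 1 = 1 := by
    apply cancel
    rw [← hq, mul_one]
    congr 1
    apply hinj
    rw [hnum, ha₀, mul_one]
  have hqmul : ∀ b b', q (b * b') = q b * q b' := by
    intro b b'
    apply cancel
    apply cancel
    have : ψ a₀ * (ψ a₀ * q (b * b')) = (ψ a₀ * q b) * (ψ a₀ * q b') := by
      rw [← hq, ← hq, ← hq, ← map_mul, ← map_mul]
      congr 1
      apply hinj
      rw [map_mul, map_mul, hnum, hnum, hnum, ha₀]
      ring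
    rw [this]; ring
  have hqadd : ∀ b b', q (b + b') = q b + q b' := by
    intro b b'
    apply cancel
    rw [mul_add, ← hq, ← hq, ← hq, ← map_add]
    congr 1
    apply hinj
    rw [map_add, hnum, hnum, hnum]
    ring
  have hq0 : q 0 = 0 := by
    apply cancel
    rw [← hq, mul_zero]
    have : num 0 = 0 := by
      apply hinj
      rw [hnum, mul_zero, map_zero]
    rw [this, map_zero]
  let χ : B →+* C :=
    { toFun := q
      map_one' := hq1
      map_mul' := hqmul
      map_zero' := hq0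
      map_add' := hqadd }
  refine ⟨χ, ?_, ?_⟩
  · ext x
    change q (algebraMap A B x) = ψ x
    apply cancel
    rw [← hq, ← map_mul]
    congr 1
    apply hinj
    rw [hnum, map_mul, ha₀]
  · intro χ' hχ'
    ext b
    change χ' b = q b
    apply cancel
    rw [← hq]
    have h1 : ψ a₀ = χ' f := by
      rw [← hχ', RingHom.comp_apply, ha₀]
    have h2 : ψ (num b) = χ' (f * b) := by
      rw [← hχ', RingHom.comp_apply, hnum]
    rw [h1, h2, map_mul]

end alg



section sec2
variable {Y : Scheme.{u}} (J : Y.IdealSheafData) (s : Γ(Y, ⊤))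

/-- restriction of a global section. -/
noncomputable abbrev res (O : Y.Opens) : Γ(Y, ⊤) →+* Γ(Y, O) :=
  (Y.presheaf.map (homOfLE (le_top : O ≤ ⊤)).op).hom

theorem res_res {O O' : Y.Opens} (h : O' ≤ O) (t : Γ(Y, ⊤)) :
    (Y.presheaf.map (homOfLE h).op).hom (res O t) = res O' t := by
  simp only [res]
  rw [← CommRingCat.comp_apply, ← Functor.map_comp]
  rfl

/-- `s` is a regular generator of `J` on the affine open `U`. -/
def Good (U : Y.Opens) (hU : IsAffineOpen U) : Prop :=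
  res U s ∈ Γ(Y, U)⁰ ∧ J.ideal ⟨U, hU⟩ = Ideal.span {res U s}

theorem good_basicOpen {U : Y.Opens} (hU : IsAffineOpen U) (h : Good J s U hU) (r : Γ(Y, U)) :
    Good J s (Y.basicOpen r) (hU.basicOpen r) := by
  have e : res (Y.basicOpen r) s = (Y.presheaf.map (homOfLE (Y.basicOpen_le r)).op).hom (res U s) :=
    (res_res (Y.basicOpen_le r) s).symm
  refine ⟨?_, ?_⟩
  · have inst := hU.isLocalization_basicOpen r
    have h1 : (Y.presheaf.map (homOfLE (Y.basicOpen_le r)).op).hom = algebraMap _ _ := rfl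
    rw [e, h1]
    exact IsLocalization.map_nonZeroDivisors_le (.powers r) _ (Submonoid.mem_map_of_mem _ h.1)
  · have h2 := J.map_ideal_basicOpen ⟨U, hU⟩ r
    rw [h.2, Ideal.map_span, Set.image_singleton] at h2
    rw [e]
    exact h2.symm

variable (hyp : ∀ y : Y, ∃ (U : Y.Opens) (hU : IsAffineOpen U), y ∈ U ∧ Good J s U hU)

include hyp in
theorem exists_good_le (y : Y) (O : Y.Opens) (hy : y ∈ O) :
    ∃ (U : Y.Opens) (hU : IsAffineOpen U), y ∈ U ∧ U ≤ O ∧ Good J s U hU := by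
  obtain ⟨U', hU', hyU', hg⟩ := hyp y
  obtain ⟨r, hrO, hyr⟩ := hU'.exists_basicOpen_le ⟨y, hy⟩ hyU'
  exact ⟨Y.basicOpen r, hU'.basicOpen r, hyr, hrO, good_basicOpen J s hU' hg r⟩

include hyp in
theorem res_mem_nonZeroDivisors (O : Y.Opens) : res O s ∈ Γ(Y, O)⁰ := by
  rw [mem_nonZeroDivisors_iff_right]
  intro t ht
  have key : ∀ y : O, ∃ (U : Y.Opens) (hU : IsAffineOpen U), y.1 ∈ U ∧ U ≤ O ∧ Good J s U hU :=
    fun y => exists_good_le J s hyp y.1 O y.2
  choose U hU hyU hUO hg using key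
  refine TopCat.Sheaf.eq_of_locally_eq' Y.sheaf U O (fun y => homOfLE (hUO y)) ?_ t 0 (fun y => ?_)
  · intro x hx
    exact Opens.mem_iSup.2 ⟨⟨x, hx⟩, hyU _⟩
  · have h1 := congrArg (Y.presheaf.map (homOfLE (hUO y)).op).hom ht
    rw [map_mul, res_res, map_zero] at h1
    have := (mem_nonZeroDivisors_iff_right.1 (hg y).1) _ h1
    rw [map_zero]
    exact this

include hyp in
theorem exists_mul_eq (t : Γ(Y, ⊤))
    (ht : ∀ (U : Y.Opens) (hU : IsAffineOpen U), res U t ∈ J.ideal ⟨U, hU⟩) :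
    ∃ q : Γ(Y, ⊤), s * q = t := by
  choose U hU hyU hg using hyp
  have hq : ∀ y, ∃ q : Γ(Y, U y), res (U y) s * q = res (U y) t := by
    intro y
    have := ht (U y) (hU y)
    rw [(hg y).2] at this
    obtain ⟨q, hq⟩ := Ideal.mem_span_singleton'.1 this
    exact ⟨q, by rw [mul_comm]; exact hq⟩
  choose q hq using hq
  have hyp' : ∀ y : Y, ∃ (U : Y.Opens) (hU : IsAffineOpen U), y ∈ U ∧ Good J s U hU :=
    fun y => ⟨U y, hU y, hyU y, hg y⟩
  have hcov : (⊤ : Y.Opens) ≤ ⨆ y, U y := fun y _ => Opens.mem_iSup.2 ⟨y, hyU y⟩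
  have hcompat : TopCat.Presheaf.IsCompatible Y.presheaf U q := by
    intro y y'
    have hn := res_mem_nonZeroDivisors J s hyp' (U y ⊓ U y')
    apply (mul_cancel_left_mem_nonZeroDivisors hn).1
    have e1 := congrArg (Y.presheaf.map (homOfLE (inf_le_left : U y ⊓ U y' ≤ U y)).op).hom (hq y)
    have e2 := congrArg (Y.presheaf.map (homOfLE (inf_le_right : U y ⊓ U y' ≤ U y')).op).hom (hq y')
    rw [map_mul, res_res, res_res] at e1 e2
    exact e1.trans e2.symm
  obtain ⟨q0, hq0, -⟩ := Y.sheaf.existsUnique_gluing' U ⊤ (fun y => homOfLE le_top) hcov q hcompat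
  let q1 : Γ(Y, ⊤) := q0
  have hq1 : ∀ y, res (U y) q1 = q y := hq0
  refine ⟨q1, ?_⟩
  refine TopCat.Sheaf.eq_of_locally_eq' Y.sheaf U ⊤ (fun y => homOfLE le_top) hcov (s * q1) t
    (fun y => ?_)
  change res (U y) (s * q1) = res (U y) t
  rw [map_mul, hq1, hq]



end sec2

variable {A : Type u} [CommRing A] (I : Ideal A)

/-- the ring map `A → Γ(Y, ⊤)` of a morphism `Y ⟶ Spec A`. -/
noncomputable def gmap {Y : Scheme.{u}} (g : Y ⟶ Spec (CommRingCat.of A)) : A →+* Γ(Y, ⊤) :=
  g.appTop.hom.comp (Scheme.ΓSpecIso (CommRingCat.of A)).inv.hom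

theorem ideal_comap_eq {Y : Scheme.{u}} (g : Y ⟶ Spec (CommRingCat.of A)) (U : Y.Opens)
    (hU : IsAffineOpen U) :
    ((Curv2.idealSheaf A I).comap g).ideal ⟨U, hU⟩ = Ideal.map ((res U).comp (gmap g)) I := by
  rw [ideal_comap_eq_map g _ hU (isAffineOpen_top _) le_top]
  simp only [Curv2.idealSheaf, Scheme.IdealSheafData.ofIdealTop_ideal]
  rw [Ideal.map_map, Ideal.map_map]
  congr 1

theorem res_top {Y : Scheme.{u}} (t : Γ(Y, ⊤)) : res (⊤ : Y.Opens) t = t := by
  have : Y.presheaf.map (homOfLE (le_refl (⊤ : Y.Opens))).op = 𝟙 _ :=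
    CategoryTheory.Functor.map_id _ _
  change (Y.presheaf.map (homOfLE (le_refl (⊤ : Y.Opens))).op).hom t = t
  rw [this]
  rfl

section main
variable {B : Type u} [CommRing B] [Algebra A B]

/-- General lifting criterion: if `A → B` has the universal property of an affine blow-up chart with
respect to `(I, a₀)` and `g^* a₀` is locally a regular generator of `g⁻¹ I`, then `g` lifts uniquely
to `Spec B`. -/
theorem existsUnique_lift_of_UP (a₀ : A)
    (UP : ∀ (C : Type u) [CommRing C] (ψ : A →+* C), ψ a₀ ∈ C⁰ → (∀ x ∈ I, ψ a₀ ∣ ψ x) →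
      ∃! χ : B →+* C, χ.comp (algebraMap A B) = ψ)
    {Y : Scheme.{u}} (g : Y ⟶ Spec (CommRingCat.of A))
    (hyp : ∀ y : Y, ∃ (U : Y.Opens) (hU : IsAffineOpen U), y ∈ U ∧
      Good ((Curv2.idealSheaf A I).comap g) (gmap g a₀) U hU) :
    ∃! h : Y ⟶ Spec (CommRingCat.of B),
      h ≫ Spec.map (CommRingCat.ofHom (algebraMap A B)) = g := by
  set J := (Curv2.idealSheaf A I).comap g with hJ
  set ψ := gmap g with hψ
  set s : Γ(Y, ⊤) := ψ a₀ with hs
  have hnzd : ψ a₀ ∈ Γ(Y, ⊤)⁰ := by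
    have := res_mem_nonZeroDivisors J s hyp ⊤
    rwa [res_top] at this
  have hsub : ∀ x ∈ I, ψ a₀ ∣ ψ x := by
    intro x hx
    obtain ⟨q, hq⟩ := exists_mul_eq J s hyp (ψ x) (fun U hU => by
      rw [hJ, ideal_comap_eq I g U hU]
      exact Ideal.mem_map_of_mem ((res U).comp ψ) hx)
    exact ⟨q, hq.symm⟩
  obtain ⟨χ, hχ, hχu⟩ := UP _ ψ hnzd hsub
  have hχ' : CommRingCat.ofHom (algebraMap A B) ≫ CommRingCat.ofHom χ =
      (Scheme.ΓSpecIso (CommRingCat.of A)).inv ≫ g.appTop := by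
    ext x
    exact congrArg (fun t => t x) hχ
  refine ⟨Y.toSpecΓ ≫ Spec.map (CommRingCat.ofHom χ), ?_, ?_⟩
  · dsimp only
    rw [Category.assoc, ← Spec.map_comp, hχ']
    apply ext_of_isAffine
    simp [Scheme.toSpecΓ_appTop, Scheme.ΓSpecIso_naturality]
  · intro h' hh'
    apply ext_of_isAffine
    let χ' : B →+* Γ(Y, ⊤) := h'.appTop.hom.comp (Scheme.ΓSpecIso (CommRingCat.of B)).inv.hom
    have e1 : χ'.comp (algebraMap A B) = ψ := by
      have := congrArg (fun t => (Scheme.ΓSpecIso (CommRingCat.of A)).inv ≫ Scheme.Hom.appTop t) hh'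
      simp only [Scheme.Hom.comp_appTop] at this
      rw [← Category.assoc, ← Scheme.ΓSpecIso_inv_naturality, Category.assoc] at this
      ext x
      exact congrArg (fun t => t.hom x) this
    have e2 : χ' = χ := hχu χ' e1
    have e3 : h'.appTop = (Scheme.ΓSpecIso (CommRingCat.of B)).hom ≫ CommRingCat.ofHom χ := by
      rw [← e2]
      ext x
      simp [χ']
    rw [e3]
    simp [Scheme.toSpecΓ_appTop, Scheme.ΓSpecIso_naturality]

variable (hinj : Function.Injective (algebraMap A B))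
variable (hIB : (Ideal.map (algebraMap A B) I : Set B) ⊆ algebraMap A B '' (I : Set A))
variable (f : B) (hgen : Ideal.map (algebraMap A B) I = Ideal.span {f})

include hinj hIB hgen in
theorem existsUnique_lift_scheme {Y : Scheme.{u}} (g : Y ⟶ Spec (CommRingCat.of A))
    (hg : BlowUp.IsEffCartierIdeal ((Curv2.idealSheaf A I).comap g)) :
    ∃! h : Y ⟶ Spec (CommRingCat.of B),
      h ≫ Spec.map (CommRingCat.ofHom (algebraMap A B)) = g := by
  obtain ⟨a₀, ha₀I, ha₀⟩ : ∃ a₀ ∈ I, algebraMap A B a₀ = f := by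
    obtain ⟨x, hx, hxe⟩ := exists_num I hIB f hgen 1
    exact ⟨x, hx, by rw [hxe, mul_one]⟩
  refine existsUnique_lift_of_UP I a₀
    (fun C _ ψ h1 h2 => existsUnique_lift hinj I hIB f hgen a₀ ha₀ ψ h1 h2) g ?_
  intro y
  obtain ⟨U, hyU, c, hc, hIc⟩ := hg y
  have e := ideal_comap_eq I g U.1 U.2
  have hIc' : Ideal.map ((res U.1).comp (gmap g)) I = Ideal.span {c} := by
    rw [← e]; exact hIc
  obtain ⟨h1, h2⟩ := map_eq_span hinj I hIB f hgen a₀ ha₀I ha₀ ((res U.1).comp (gmap g)) c hc hIc'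
  refine ⟨U.1, U.2, hyU, h1, ?_⟩
  rw [e, h2]
  rfl

end main

theorem gmap_SpecMap {B : Type u} [CommRing B] (φ : A →+* B) :
    gmap (Spec.map (CommRingCat.ofHom φ)) =
      (Scheme.ΓSpecIso (CommRingCat.of B)).inv.hom.comp φ := by
  have := Scheme.ΓSpecIso_inv_naturality (CommRingCat.ofHom φ)
  ext x
  exact (congrArg (fun t => t.hom x) this).symm

section main2
variable {B : Type u} [CommRing B] [Algebra A B]
variable (f : B) (hf : f ∈ nonZeroDivisors B) (hgen : Ideal.map (algebraMap A B) I = Ideal.span {f})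

include hf hgen in
theorem isEffCartier_comap_SpecMap :
    BlowUp.IsEffCartierIdeal
      ((Curv2.idealSheaf A I).comap (Spec.map (CommRingCat.ofHom (algebraMap A B)))) := by
  intro x
  refine ⟨⟨⊤, isAffineOpen_top _⟩, trivial,
    (Scheme.ΓSpecIso (CommRingCat.of B)).inv.hom f, ?_, ?_⟩
  · have h := MulEquivClass.map_nonZeroDivisors
      (Scheme.ΓSpecIso (CommRingCat.of B)).symm.commRingCatIsoToRingEquiv
    rw [← h]
    exact Submonoid.mem_map_of_mem _ hf
  · rw [ideal_comap_eq I _ ⊤ (isAffineOpen_top _), gmap_SpecMap]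
    have e : (res (⊤ : (Spec (CommRingCat.of B)).Opens)).comp
        ((Scheme.ΓSpecIso (CommRingCat.of B)).inv.hom.comp (algebraMap A B)) =
        (Scheme.ΓSpecIso (CommRingCat.of B)).inv.hom.comp (algebraMap A B) := by
      ext y
      rw [RingHom.comp_apply]
      exact res_top _
    rw [e, ← Ideal.map_map, hgen, Ideal.map_span, Set.image_singleton]

end main2


end Groth.Agent.Lib.H9AffBlow
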