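import Mathlib
import Groth.Prelude.Def_BlowUp2
import Groth.Prelude.Def_CurvBase
import Groth.Agent.Lib.H9AffBlow

set_option autoImplicit false
universe u
open nonZeroDivisors CategoryTheory AlgebraicGeometry TopologicalSpace Opposite
open Groth.Agent.Lib.H9AffBlow
open Groth.Agent.Lib.Helper20.EffCartier

namespace Groth.Agent.Lib.H9AffBlow2

section alg4
variable (A : Type u) [CommRing A] (I : Ideal A) (a : A)

local notation "R" => (BlowUp.affineAlgebra A I a)

/-- the generator `x / a` of the affine blow-up algebra. -/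
noncomputable def gen (x : A) (hx : x ∈ I) : R :=
  ⟨IsLocalization.mk' (Localization.Away a) x ⟨a, Submonoid.mem_powers a⟩,
    Algebra.subset_adjoin ⟨x, hx, rfl⟩⟩

theorem a_mul_gen (x : A) (hx : x ∈ I) :
    algebraMap A R a * gen A I a x hx = algebraMap A R x := by
  apply Subtype.ext
  change algebraMap A (Localization.Away a) a * IsLocalization.mk' (Localization.Away a) x
    ⟨a, Submonoid.mem_powers a⟩ = algebraMap A (Localization.Away a) x
  rw [mul_comm]
  exact IsLocalization.mk'_spec (Localization.Away a) x ⟨a, Submonoid.mem_powers a⟩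

theorem a_mem_nonZeroDivisors : algebraMap A R a ∈ (↥R)⁰ := by
  rw [mem_nonZeroDivisors_iff_right]
  intro t ht
  have h1 : (t : Localization.Away a) * algebraMap A (Localization.Away a) a = 0 :=
    congrArg Subtype.val ht
  have hu : IsUnit (algebraMap A (Localization.Away a) a) :=
    IsLocalization.Away.algebraMap_isUnit a
  apply Subtype.ext
  exact (hu.mul_left_eq_zero).1 h1

theorem affineAlgebra_map_eq_span (ha : a ∈ I) :
    Ideal.map (algebraMap A R) I = Ideal.span {algebraMap A R a} := by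
  apply le_antisymm
  · rw [Ideal.map_le_iff_le_comap]
    intro x hx
    rw [Ideal.mem_comap, ← a_mul_gen A I a x hx]
    exact Ideal.mul_mem_right _ _ (Ideal.subset_span rfl)
  · rw [Ideal.span_singleton_le_iff_mem]
    exact Ideal.mem_map_of_mem _ ha

theorem exists_pow_mul (r : R) : ∃ (n : ℕ) (y : A), r * algebraMap A R a ^ n = algebraMap A R y := by
  obtain ⟨n, y, h⟩ := IsLocalization.Away.surj a (r : Localization.Away a)
  exact ⟨n, y, Subtype.ext h⟩

theorem affineAlgebra_existsUnique_lift {C : Type u} [CommRing C] (ψ : A →+* C) (hnzd : ψ a ∈ C⁰)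
    (hsub : ∀ x ∈ I, ψ a ∣ ψ x) :
    ∃! χ : R →+* C, χ.comp (algebraMap A R) = ψ := by
  let C' := Localization.Away (ψ a)
  let ι : C →+* C' := algebraMap C C'
  have hι : Function.Injective ι :=
    IsLocalization.injective C' ((Submonoid.powers_le (P := C⁰)).2 hnzd)
  have hu : IsUnit (ι (ψ a)) := IsLocalization.Away.algebraMap_isUnit (ψ a)
  let θ : Localization.Away a →+* C' := IsLocalization.Away.lift a (g := ι.comp ψ) hu
  have hθ : ∀ x : A, θ (algebraMap A (Localization.Away a) x) = ι (ψ x) := fun x =>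
    IsLocalization.Away.lift_eq a hu x
  have hmem : ∀ r : Localization.Away a, r ∈ R → θ r ∈ ι.range := by
    intro r hr
    refine Algebra.adjoin_induction (p := fun y _ => θ y ∈ ι.range) ?_ ?_ ?_ ?_ hr
    · rintro y ⟨x, hx, rfl⟩
      obtain ⟨d, hd⟩ := hsub x hx
      refine ⟨d, ?_⟩
      have h1 : θ (IsLocalization.mk' (Localization.Away a) x ⟨a, Submonoid.mem_powers a⟩) *
          ι (ψ a) = ι (ψ x) := by
        rw [← hθ, ← hθ, ← map_mul]
        congr 1
        exact IsLocalization.mk'_spec (Localization.Away a) x ⟨a, Submonoid.mem_powers a⟩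
      apply hu.mul_left_injective
      change ι d * ι (ψ a) = _ * ι (ψ a)
      rw [h1, hd, map_mul]
      ring
    · intro x
      exact ⟨ψ x, (hθ x).symm⟩
    · intro x y _ _ hx hy
      rw [map_add]
      exact Subring.add_mem _ hx hy
    · intro x y _ _ hx hy
      rw [map_mul]
      exact Subring.mul_mem _ hx hy
  choose q hq using fun r : R => hmem r.1 r.2
  have cancel : ∀ {x y : C}, ι x = ι y → x = y := fun h => hι h
  let χ : R →+* C :=
    { toFun := q
      map_one' := by apply cancel; rw [hq, map_one]; exact map_one θ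
      map_mul' := fun r r' => by
        apply cancel; rw [hq, map_mul, hq, hq]; exact map_mul θ _ _
      map_zero' := by apply cancel; rw [hq, map_zero]; exact map_zero θ
      map_add' := fun r r' => by
        apply cancel; rw [hq, map_add, hq, hq]; exact map_add θ _ _ }
  refine ⟨χ, ?_, ?_⟩
  · ext x
    apply cancel
    change ι (q (algebraMap A R x)) = ι (ψ x)
    rw [hq]
    exact hθ x
  · intro χ' hχ'
    ext r
    obtain ⟨n, y, hy⟩ := exists_pow_mul A I a r
    have hn : ψ a ^ n ∈ C⁰ := pow_mem hnzd n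
    apply (mul_cancel_right_mem_nonZeroDivisors hn).1
    have e1 : ∀ χ'' : R →+* C, χ''.comp (algebraMap A R) = ψ → χ'' r * ψ a ^ n = ψ y := by
      intro χ'' h
      have h2 : ∀ z, χ'' (algebraMap A R z) = ψ z := fun z => congrArg (fun t => t z) h
      rw [← h2 a, ← map_pow, ← map_mul, hy, h2]
    have hχ : χ.comp (algebraMap A R) = ψ := by
      ext x
      apply cancel
      change ι (q (algebraMap A R x)) = ι (ψ x)
      rw [hq]
      exact hθ x
    rw [e1 χ' hχ', e1 χ hχ]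



end alg4

section gen
variable {Y : Scheme.{u}} (J : Y.IdealSheafData) (s : Γ(Y, ⊤))

theorem good_of_unit_mul {U : Y.Opens} (hU : IsAffineOpen U) (c w : Γ(Y, U)) (hc : c ∈ Γ(Y, U)⁰)
    (hI : J.ideal ⟨U, hU⟩ = Ideal.span {c}) (hs : res U s = w * c) :
    Good J s (Y.basicOpen w) (hU.basicOpen w) := by
  set ρ := (Y.presheaf.map (homOfLE (Y.basicOpen_le w)).op).hom with hρ
  have e : res (Y.basicOpen w) s = ρ w * ρ c := by
    rw [← map_mul, ← hs]
    exact (res_res (Y.basicOpen_le w) s).symm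
  have hu : IsUnit (ρ w) := RingedSpace.isUnit_res_basicOpen _ w
  have hρc : ρ c ∈ Γ(Y, Y.basicOpen w)⁰ := by
    have inst := hU.isLocalization_basicOpen w
    have h1 : ρ = algebraMap _ _ := rfl
    rw [h1]
    exact IsLocalization.map_nonZeroDivisors_le (.powers w) _ (Submonoid.mem_map_of_mem _ hc)
  have h2 := J.map_ideal_basicOpen ⟨U, hU⟩ w
  rw [hI, Ideal.map_span, Set.image_singleton] at h2
  refine ⟨?_, ?_⟩
  · rw [e]
    exact Submonoid.mul_mem _ (IsUnit.mem_nonZeroDivisors hu) hρc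
  · rw [e, Ideal.span_singleton_mul_left_unit hu]
    exact h2.symm

/-- the open locus where `s` is a regular generator of `J`. -/
def goodOpen : Y.Opens :=
  ⨆ (U : {U : Y.Opens // ∃ hU : IsAffineOpen U, Good J s U hU}), U.1

theorem mem_goodOpen {y : Y} :
    y ∈ goodOpen J s ↔ ∃ (U : Y.Opens) (hU : IsAffineOpen U), y ∈ U ∧ Good J s U hU := by
  simp only [goodOpen, Opens.mem_iSup, Subtype.exists, exists_prop]
  constructor
  · rintro ⟨U, ⟨hU, hg⟩, hy⟩
    exact ⟨U, hU, hy, hg⟩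
  · rintro ⟨U, hU, hy, hg⟩
    exact ⟨U, ⟨hU, hg⟩, hy⟩

theorem le_goodOpen {U : Y.Opens} (hU : IsAffineOpen U) (hg : Good J s U hU) : U ≤ goodOpen J s :=
  fun _ hy => (mem_goodOpen J s).2 ⟨U, hU, hy, hg⟩

end gen

section spec
variable {A : Type u} [CommRing A] (I : Ideal A)

/-- at every point of a scheme over `Spec A` on which `I` becomes effective Cartier, some `a ∈ I`
is a local regular generator. -/
theorem exists_good_nbhd {X' : Scheme.{u}} (b : X' ⟶ Spec (CommRingCat.of A))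
    (hJ : BlowUp.IsEffCartierIdeal ((Curv2.idealSheaf A I).comap b)) (x' : X') :
    ∃ a ∈ I, x' ∈ goodOpen ((Curv2.idealSheaf A I).comap b) (gmap b a) := by
  obtain ⟨U, hxU, c, hc, hIc⟩ := hJ x'
  set ψ := (res U.1).comp (gmap b) with hψ
  have e : Ideal.map ψ I = Ideal.span {c} := by
    rw [← ideal_comap_eq I b U.1 U.2]; exact hIc
  let p : Ideal Γ(X', U.1) :=
    (IsLocalRing.maximalIdeal (X'.presheaf.stalk x')).comap (X'.presheaf.germ U.1 x' hxU).hom
  have hp : ∀ r, r ∈ p ↔ x' ∉ X'.basicOpen r := by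
    intro r
    rw [Scheme.mem_basicOpen _ _ _ hxU]
    rfl
  have key : ∃ a ∈ I, ψ a ∉ Ideal.span {c} * p := by
    by_contra hcon
    push Not at hcon
    have h1 : Ideal.map ψ I ≤ Ideal.span {c} * p := by
      rw [Ideal.map_le_iff_le_comap]
      exact fun a ha => hcon a ha
    rw [e] at h1
    have h2 : c ∈ Ideal.span {c} * p := h1 (Ideal.subset_span rfl)
    obtain ⟨m, hm, hcm⟩ := Ideal.mem_span_singleton_mul.1 h2
    have h3 : m = 1 := by
      have : c * m = c * 1 := by rw [hcm, mul_one]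
      exact (mul_cancel_left_mem_nonZeroDivisors hc).1 this
    rw [h3, hp] at hm
    apply hm
    rw [Scheme.basicOpen_one]
    exact hxU
  obtain ⟨a, ha, hna⟩ := key
  have h4 : ψ a ∈ Ideal.span {c} := by rw [← e]; exact Ideal.mem_map_of_mem _ ha
  obtain ⟨w, hw⟩ := Ideal.mem_span_singleton'.1 h4
  have hwp : w ∉ p := by
    intro hwp
    apply hna
    rw [← hw, mul_comm w c]
    exact Ideal.mul_mem_mul (Ideal.subset_span rfl) hwp
  rw [hp, not_not] at hwp
  refine ⟨a, ha, ?_⟩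
  have hg := good_of_unit_mul ((Curv2.idealSheaf A I).comap b) (gmap b a) U.2 c w hc hIc hw.symm
  exact le_goodOpen _ _ _ hg hwp

end spec

section transfer
variable {A : Type u} [CommRing A] (I : Ideal A)

theorem gmap_comp {Y Z : Scheme.{u}} (k : Y ⟶ Z) (b : Z ⟶ Spec (CommRingCat.of A)) :
    gmap (k ≫ b) = k.appTop.hom.comp (gmap b) := by
  ext x
  simp [gmap]

theorem res_appTop {Y Z : Scheme.{u}} (k : Y ⟶ Z) (U : Z.Opens) (W : Y.Opens) (hWU : W ≤ k ⁻¹ᵁ U)
    (t : Γ(Z, ⊤)) : res W (k.appTop.hom t) = (k.appLE U W hWU).hom (res U t) := by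
  have h := Scheme.Hom.map_appLE k hWU (homOfLE (le_top : U ≤ ⊤)).op
  have h2 : k.appLE ⊤ W (hWU.trans ((Opens.map k.base).map (homOfLE (le_top : U ≤ ⊤))).le) =
      k.appTop ≫ Y.presheaf.map (homOfLE (le_top : W ≤ ⊤)).op := rfl
  rw [h2] at h
  exact (congrArg (fun φ => φ.hom t) h).symm

theorem good_comap_of_bijective {Y Z : Scheme.{u}} (k : Y ⟶ Z) (b : Z ⟶ Spec (CommRingCat.of A))
    (a : A) (U : Z.Opens) (hU : IsAffineOpen U) (W : Y.Opens) (hW : IsAffineOpen W)
    (hWU : W ≤ k ⁻¹ᵁ U) (hbij : Function.Bijective (k.appLE U W hWU).hom)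
    (h : Good ((Curv2.idealSheaf A I).comap b) (gmap b a) U hU) :
    Good ((Curv2.idealSheaf A I).comap (k ≫ b)) (gmap (k ≫ b) a) W hW := by
  let ε : Γ(Z, U) ≃+* Γ(Y, W) := RingEquiv.ofBijective (k.appLE U W hWU).hom hbij
  have e1 : res W (gmap (k ≫ b) a) = ε (res U (gmap b a)) := by
    rw [gmap_comp, RingHom.comp_apply, res_appTop k U W hWU]
    rfl
  refine ⟨?_, ?_⟩
  · rw [e1, ← MulEquivClass.map_nonZeroDivisors ε]
    exact Submonoid.mem_map_of_mem _ h.1
  · rw [Scheme.IdealSheafData.comap_comp, ideal_comap_eq_map k _ hW hU hWU, h.2, Ideal.map_span,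
      Set.image_singleton, e1]
    rfl

end transfer

section main
variable (A : Type u) [CommRing A] (I : Ideal A)

theorem isEffCartier_of_good {Y : Scheme.{u}} (J : Y.IdealSheafData) (s : Γ(Y, ⊤))
    (hyp : ∀ y : Y, ∃ (U : Y.Opens) (hU : IsAffineOpen U), y ∈ U ∧ Good J s U hU) :
    BlowUp.IsEffCartierIdeal J := by
  intro y
  obtain ⟨U, hU, hy, hg⟩ := hyp y
  exact ⟨⟨U, hU⟩, hy, res U s, hg.1, hg.2⟩

theorem good_top_SpecMap {B : Type u} [CommRing B] [Algebra A B] (a₀ : A)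
    (hnz : algebraMap A B a₀ ∈ B⁰)
    (hgen : Ideal.map (algebraMap A B) I = Ideal.span {algebraMap A B a₀}) :
    Good ((Curv2.idealSheaf A I).comap (Spec.map (CommRingCat.ofHom (algebraMap A B))))
      (gmap (Spec.map (CommRingCat.ofHom (algebraMap A B))) a₀) ⊤ (isAffineOpen_top _) := by
  have e0 : res ⊤ (gmap (Spec.map (CommRingCat.ofHom (algebraMap A B))) a₀) =
      (Scheme.ΓSpecIso (CommRingCat.of B)).inv.hom (algebraMap A B a₀) := by
    rw [res_top, gmap_SpecMap]
    rfl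
  refine ⟨?_, ?_⟩
  · rw [e0]
    have h := MulEquivClass.map_nonZeroDivisors
      (Scheme.ΓSpecIso (CommRingCat.of B)).symm.commRingCatIsoToRingEquiv
    rw [← h]
    exact Submonoid.mem_map_of_mem _ hnz
  · rw [e0, ideal_comap_eq I _ ⊤ (isAffineOpen_top _), gmap_SpecMap]
    have e : (res (⊤ : (Spec (CommRingCat.of B)).Opens)).comp
        ((Scheme.ΓSpecIso (CommRingCat.of B)).inv.hom.comp (algebraMap A B)) =
        (Scheme.ΓSpecIso (CommRingCat.of B)).inv.hom.comp (algebraMap A B) := by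
      ext y
      rw [RingHom.comp_apply]
      exact res_top _
    rw [e, ← Ideal.map_map, hgen, Ideal.map_span, Set.image_singleton]

theorem main {X' : Scheme.{u}} (b : X' ⟶ Spec (CommRingCat.of A))
    (hb : BlowUp.IsBlowUp b (Curv2.idealSheaf A I)) (x' : X') :
    ∃ (a : A) (_ : a ∈ I) (V : X'.Opens)
      (e : (V : Scheme.{u}) ≅ Spec (CommRingCat.of ↥(BlowUp.affineAlgebra A I a))),
      x' ∈ V ∧ e.hom ≫ Spec.map (CommRingCat.ofHom
        (algebraMap A ↥(BlowUp.affineAlgebra A I a))) = V.ι ≫ b := by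
  obtain ⟨a, ha, hx'⟩ := exists_good_nbhd I b hb.1 x'
  set 𝓘 := Curv2.idealSheaf A I with h𝓘
  set J := 𝓘.comap b with hJ
  set V := goodOpen J (gmap b a) with hV
  let T : Scheme.{u} := Spec (CommRingCat.of ↥(BlowUp.affineAlgebra A I a))
  let π : T ⟶ Spec (CommRingCat.of A) :=
    Spec.map (CommRingCat.ofHom (algebraMap A ↥(BlowUp.affineAlgebra A I a)))
  have UP : ∀ (C : Type u) [CommRing C] (ψ : A →+* C), ψ a ∈ C⁰ → (∀ x ∈ I, ψ a ∣ ψ x) →
      ∃! χ : ↥(BlowUp.affineAlgebra A I a) →+* C,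
        χ.comp (algebraMap A ↥(BlowUp.affineAlgebra A I a)) = ψ :=
    fun C _ ψ h1 h2 => affineAlgebra_existsUnique_lift A I a ψ h1 h2
  have hypV : ∀ y : V.toScheme, ∃ (U : V.toScheme.Opens) (hU : IsAffineOpen U), y ∈ U ∧
      Good (𝓘.comap (V.ι ≫ b)) (gmap (V.ι ≫ b) a) U hU := by
    intro y
    obtain ⟨U, hU, hyU, hg⟩ := (mem_goodOpen J (gmap b a)).1 y.2
    have hUV : U ≤ V := le_goodOpen _ _ hU hg
    have hUV' : U ≤ V.ι.opensRange := by rw [Scheme.Opens.opensRange_ι]; exact hUV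
    have haff : IsAffineOpen (V.ι ⁻¹ᵁ U) := hU.preimage_of_isOpenImmersion V.ι hUV'
    refine ⟨V.ι ⁻¹ᵁ U, haff, hyU,
      good_comap_of_bijective I V.ι b a U hU (V.ι ⁻¹ᵁ U) haff le_rfl ?_ hg⟩
    rw [Scheme.Hom.appLE_eq_app]
    have : IsIso (V.ι.app U) := Scheme.Hom.isIso_app V.ι U hUV'
    exact ConcreteCategory.bijective_of_isIso (V.ι.app U)
  obtain ⟨h, hh, -⟩ := existsUnique_lift_of_UP I a UP (V.ι ≫ b) hypV
  have hypT : ∀ z : T, ∃ (W : T.Opens) (hW : IsAffineOpen W), z ∈ W ∧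
      Good (𝓘.comap π) (gmap π a) W hW := fun z =>
    ⟨⊤, isAffineOpen_top _, trivial, good_top_SpecMap A I a
      (a_mem_nonZeroDivisors A I a) (affineAlgebra_map_eq_span A I a ha)⟩
  have hT : BlowUp.IsEffCartierIdeal (𝓘.comap π) := isEffCartier_of_good _ _ hypT
  obtain ⟨κ, hκ, -⟩ := hb.2 T π hT
  have hκV : ∀ z : T, κ z ∈ V := by
    intro z
    obtain ⟨U, hyU, c, hc, hIc⟩ := hb.1 (κ z)
    have e : Ideal.map ((res U.1).comp (gmap b)) I = Ideal.span {c} := by
      rw [← ideal_comap_eq I b U.1 U.2]; exact hIc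
    have h4 : ((res U.1).comp (gmap b)) a ∈ Ideal.span {c} := by
      rw [← e]; exact Ideal.mem_map_of_mem _ ha
    obtain ⟨w, hw⟩ := Ideal.mem_span_singleton'.1 h4
    have hg := good_of_unit_mul J (gmap b a) U.2 c w hc hIc hw.symm
    refine le_goodOpen _ _ _ hg ?_
    obtain ⟨W, hW, hzW, hWU, hgW⟩ :=
      exists_good_le (𝓘.comap π) (gmap π a) hypT z (κ ⁻¹ᵁ U.1) hyU
    set κW := (κ.appLE U.1 W hWU).hom with hκW
    have ht : res W (gmap π a) = κW w * κW c := by
      rw [← map_mul, hw]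
      have : gmap π = gmap (κ ≫ b) := by rw [hκ]
      rw [this, gmap_comp, RingHom.comp_apply, res_appTop κ U.1 W hWU]
      rfl
    have hid : (𝓘.comap π).ideal ⟨W, hW⟩ = Ideal.span {κW c} := by
      rw [← hκ, Scheme.IdealSheafData.comap_comp, ideal_comap_eq_map κ _ hW U.2 hWU, hIc,
        Ideal.map_span, Set.image_singleton]
    obtain ⟨hnz, hsp⟩ := hgW
    rw [ht] at hnz hsp
    have hc' : κW c ∈ Ideal.span {κW w * κW c} := by
      rw [← hsp, hid]; exact Ideal.subset_span rfl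
    obtain ⟨v, hv⟩ := Ideal.mem_span_singleton'.1 hc'
    have hcnz : κW c ∈ Γ(T, W)⁰ := by
      rw [mem_nonZeroDivisors_iff_right]
      intro x hx
      apply (mem_nonZeroDivisors_iff_right.1 hnz) x
      rw [mul_comm (κW w), ← mul_assoc, hx, zero_mul]
    have huv : v * κW w = 1 := by
      apply (mul_cancel_right_mem_nonZeroDivisors hcnz).1
      rw [one_mul, mul_assoc]
      exact hv
    have hunit : IsUnit (κW w) := IsUnit.of_mul_eq_one _ (by rw [mul_comm]; exact huv)
    have hbo := Scheme.basicOpen_appLE κ W U.1 hWU w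
    rw [Scheme.basicOpen_of_isUnit _ hunit] at hbo
    have hz : z ∈ W ⊓ κ ⁻¹ᵁ (X'.basicOpen w) := hbo ▸ hzW
    exact hz.2
  have hrange : Set.range κ ⊆ Set.range V.ι := by
    rintro _ ⟨z, rfl⟩
    rw [Scheme.Opens.range_ι]
    exact hκV z
  let κ' : T ⟶ V := IsOpenImmersion.lift V.ι κ hrange
  have hκ' : κ' ≫ V.ι = κ := IsOpenImmersion.lift_fac _ _ _
  have h1 : h ≫ κ' = 𝟙 _ := by
    rw [← cancel_mono V.ι, Category.assoc, hκ', Category.id_comp]
    have hVeff : BlowUp.IsEffCartierIdeal (𝓘.comap (V.ι ≫ b)) := isEffCartier_of_good _ _ hypV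
    obtain ⟨k₀, -, hk₀⟩ := hb.2 V (V.ι ≫ b) hVeff
    rw [hk₀ (h ≫ κ) (by dsimp only; rw [Category.assoc, hκ, hh]), hk₀ V.ι rfl]
  have h2 : κ' ≫ h = 𝟙 _ := by
    obtain ⟨k₁, -, hk₁⟩ := existsUnique_lift_of_UP I a UP π hypT
    rw [hk₁ (κ' ≫ h) (by dsimp only; rw [Category.assoc, hh, ← Category.assoc, hκ', hκ]),
      hk₁ (𝟙 _) (Category.id_comp _)]
  exact ⟨a, ha, V, ⟨h, κ', h1, h2⟩, hx', hh⟩

end main


end Groth.Agent.Lib.H9AffBlow2
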