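import Mathlib
import Groth.Prelude.Def_CohB1
import Groth.Agent.S9705
import Groth.Agent.Lib.Helper27PnChart
import Groth.Agent.Lib.Helper13ProjBC2

set_option autoImplicit false
universe u
open CategoryTheory CategoryTheory.Limits AlgebraicGeometry MvPolynomial HomogeneousLocalization
open Groth.Agent.Lib.Helper27PnChart

namespace Groth.Agent.Lib.H9AffFactor

open CategoryTheory CategoryTheory.Limits AlgebraicGeometry MvPolynomial HomogeneousLocalization
open Groth.Agent.Lib.Helper27PnChart

section Smooth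

variable (n : ℕ) (R : Type u) [CommRing R]

/-- the structure map into the chart ring is the chart composed with `C` -/
theorem fromZero_comp_algebraMap (i : Fin (n + 1)) :
    (HomogeneousLocalization.fromZeroRingHom (CohB1.polyGrading n R)
        (Submonoid.powers (MvPolynomial.X i))).comp
      (algebraMap R (CohB1.polyGrading n R 0)) =
      (chart n R i).comp (C : R →+* MvPolynomial {j : Fin (n + 1) // j ≠ i} R) := by
  ext r
  unfold chart
  rw [RingHom.comp_apply, RingHom.comp_apply, MvPolynomial.eval₂Hom_C, RingHom.comp_apply]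

theorem smooth_ringHom (i : Fin (n + 1)) :
    ((HomogeneousLocalization.fromZeroRingHom (CohB1.polyGrading n R)
        (Submonoid.powers (MvPolynomial.X i))).comp
      (algebraMap R (CohB1.polyGrading n R 0))).Smooth := by
  rw [fromZero_comp_algebraMap]
  refine RingHom.Smooth.comp ?_ (RingHom.Smooth.of_bijective (chart_bijective n R i))
  have h2 : (C : R →+* MvPolynomial {j : Fin (n + 1) // j ≠ i} R) =
      algebraMap R (MvPolynomial {j : Fin (n + 1) // j ≠ i} R) := rfl
  rw [h2, RingHom.smooth_algebraMap]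
  exact ⟨inferInstance, inferInstance⟩

theorem smooth_toSpec' : @Smooth (Proj (CohB1.polyGrading n R)) _
    (Proj.toSpecZero (CohB1.polyGrading n R) ≫
      Spec.map (CommRingCat.ofHom (algebraMap R (CohB1.polyGrading n R 0)))) := by
  rw [IsZariskiLocalAtSource.iff_of_iSup_eq_top (P := @Smooth) _ (iSup_basicOpen_X n R)]
  intro i
  rw [← MorphismProperty.cancel_left_of_respectsIso (P := @Smooth)
    (Proj.basicOpenIsoSpec (CohB1.polyGrading n R) (X i) (X_mem_one n R i) Nat.one_pos).inv,
    ← Category.assoc, ← Proj.awayι, ← Category.assoc, Proj.awayι_toSpecZero, ← Spec.map_comp,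
    ← CommRingCat.ofHom_comp, HasRingHomProperty.Spec_iff (P := @Smooth)]
  exact smooth_ringHom n R i

theorem smooth_toSpec : Smooth (CohB1.ProjSpace.toSpec n R) := smooth_toSpec' n R

theorem smooth_toBase (T : Scheme.{u}) : Smooth (CohB1.ProjSpaceOver.toBase n T) := by
  unfold CohB1.ProjSpaceOver.toBase
  exact MorphismProperty.pullback_snd (P := @Smooth) _ _ (smooth_toSpec n (ULift.{u} ℤ))

end Smooth

section Chart

variable (n : ℕ) (R : Type u) [CommRing R]

/-- A finite type `R`-algebra `B` admits, for some `n`, a closed immersion into `ℙⁿ_R` composed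
with an open immersion: more precisely a morphism `Spec B ⟶ ℙⁿ_R` over `Spec R` that is an
immersion. -/
theorem exists_immersion_projSpace {B : Type u} [CommRing B] (φ : R →+* B) (hφ : φ.FiniteType) :
    ∃ (n : ℕ) (c : Spec (CommRingCat.of B) ⟶ Proj (CohB1.polyGrading n R)),
      IsImmersion c ∧ c ≫ (Proj.toSpecZero (CohB1.polyGrading n R) ≫
        Spec.map (CommRingCat.ofHom (algebraMap R (CohB1.polyGrading n R 0)))) =
        Spec.map (CommRingCat.ofHom φ) := by
  algebraize [φ]
  obtain ⟨n, ψ, hψ⟩ := Algebra.FiniteType.iff_quotient_mvPolynomial''.mp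
    (show Algebra.FiniteType R B from inferInstance)
  -- reindex the variables by `{j : Fin (n+1) // j ≠ 0}`
  let e : Fin n ≃ {j : Fin (n + 1) // j ≠ 0} :=
    ⟨fun k => ⟨k.succ, Fin.succ_ne_zero k⟩, fun j => j.1.pred j.2,
      fun k => by simp, fun j => by ext; simp⟩
  let ψ' : MvPolynomial {j : Fin (n + 1) // j ≠ 0} R →ₐ[R] B :=
    ψ.comp (MvPolynomial.rename e.symm)
  have hψ' : Function.Surjective ψ' := by
    intro b
    obtain ⟨p, rfl⟩ := hψ b
    refine ⟨MvPolynomial.rename e p, ?_⟩
    simp only [ψ', AlgHom.comp_apply]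
    rw [MvPolynomial.rename_rename]
    simp
  let θ : Away (CohB1.polyGrading n R) (X (0 : Fin (n + 1))) →+* B :=
    (ψ' : MvPolynomial {j : Fin (n + 1) // j ≠ 0} R →+* B).comp (back n R 0)
  have hθ : Function.Surjective θ := by
    intro b
    obtain ⟨p, rfl⟩ := hψ' b
    refine ⟨chart n R 0 p, ?_⟩
    simp only [θ, RingHom.comp_apply]
    rw [back_chart]
    rfl
  have hθφ : θ.comp ((HomogeneousLocalization.fromZeroRingHom (CohB1.polyGrading n R)
        (Submonoid.powers (MvPolynomial.X (0 : Fin (n + 1))))).comp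
      (algebraMap R (CohB1.polyGrading n R 0))) = φ := by
    rw [fromZero_comp_algebraMap]
    ext r
    simp only [θ, RingHom.comp_apply]
    rw [back_chart]
    change ψ' (algebraMap R _ r) = _
    rw [AlgHom.commutes]
    rfl
  refine ⟨n, Spec.map (CommRingCat.ofHom θ) ≫
    Proj.awayι (CohB1.polyGrading n R) (X 0) (X_mem_one n R 0) Nat.one_pos, ?_, ?_⟩
  · haveI : IsClosedImmersion (Spec.map (CommRingCat.ofHom θ)) :=
      IsClosedImmersion.spec_of_surjective _ hθ
    haveI : IsOpenImmersion (Proj.awayι (CohB1.polyGrading n R) (X 0) (X_mem_one n R 0)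
      Nat.one_pos) := inferInstance
    exact MorphismProperty.comp_mem (W := @IsImmersion) _ _ inferInstance inferInstance
  · rw [Category.assoc, Proj.awayι_toSpecZero_assoc,
      ← Spec.map_comp, ← Spec.map_comp, ← CommRingCat.ofHom_comp, ← CommRingCat.ofHom_comp,
      hθφ]

end Chart

section Over
/- The morphism `ℙʳ_R ⟶ ℙʳ_Y` over `j : Spec R ⟶ Y` (copied, with lighter imports, from helper2's
`R2H2ProjOver`). -/

open scoped HomogeneousIdeal

section Poly

variable (r : ℕ) (R' R : Type u) [CommRing R'] [CommRing R] [Algebra R' R]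
attribute [local instance] MvPolynomial.algebraMvPolynomial

theorem isPushout_poly : IsPushout (CommRingCat.ofHom (algebraMap R' R))
    (CommRingCat.ofHom (algebraMap R' (MvPolynomial (Fin (r + 1)) R')))
    (CommRingCat.ofHom (algebraMap R (MvPolynomial (Fin (r + 1)) R)))
    (CommRingCat.ofHom (algebraMap (MvPolynomial (Fin (r + 1)) R')
      (MvPolynomial (Fin (r + 1)) R))) :=
  CommRingCat.isPushout_of_isPushout _ _ _ _

/-- the graded base change map `R'[x] → R[x]` -/
noncomputable def phi : CohB1.polyGrading r R' →+*ᵍ CohB1.polyGrading r R where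
  toRingHom := algebraMap (MvPolynomial (Fin (r + 1)) R') (MvPolynomial (Fin (r + 1)) R)
  map_mem := fun {i x} hx => by
    have h1 : x.IsHomogeneous i := (MvPolynomial.mem_homogeneousSubmodule _ _).mp hx
    exact (MvPolynomial.mem_homogeneousSubmodule _ _).mpr (h1.map (algebraMap R' R))

theorem irrelevant_le_map :
    (CohB1.polyGrading r R)₊ ≤ ((CohB1.polyGrading r R')₊).map (phi r R' R) :=
  Groth.Agent.Helper13ProjBC.irrelevant_le_map_cat (isPushout_poly r R' R) (phi r R' R)
    (fun _ => rfl) (fun a => (MvPolynomial.mem_homogeneousSubmodule _ _).mpr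
      (MvPolynomial.isHomogeneous_C _ a))

theorem isPullback_phi :
    IsPullback (Proj.map (phi r R' R) (irrelevant_le_map r R' R)) (CohB1.ProjSpace.toSpec r R)
      (CohB1.ProjSpace.toSpec r R') (Spec.map (CommRingCat.ofHom (algebraMap R' R))) :=
  Groth.Agent.Helper13ProjBC.isPullback_proj_cat (isPushout_poly r R' R) (phi r R' R)
    (fun _ => rfl) (irrelevant_le_map r R' R)
    (CommRingCat.ofHom (algebraMap R' (CohB1.polyGrading r R' 0))) (fun _ => rfl)
    (CommRingCat.ofHom (algebraMap R (CohB1.polyGrading r R 0))) (fun _ => rfl)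

end Poly

variable (r : ℕ) (R : Type u) [CommRing R]

/-- `R` as an algebra over (a universe lift of) `ℤ` -/
@[instance_reducible] noncomputable def algZ : Algebra (ULift.{u} ℤ) R :=
  ((Int.castRingHom R).comp (ULift.ringEquiv : ULift.{u} ℤ ≃+* ℤ).toRingHom).toAlgebra

attribute [local instance] algZ

variable {Y : Scheme.{u}} (j : Spec (CommRingCat.of R) ⟶ Y)

theorem a_comm :
    Proj.map (phi r (ULift.{u} ℤ) R) (irrelevant_le_map r (ULift.{u} ℤ) R) ≫
      CohB1.ProjSpace.toSpec r (ULift.{u} ℤ) =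
    (CohB1.ProjSpace.toSpec r R ≫ j) ≫ specULiftZIsTerminal.from Y := by
  rw [(isPullback_phi r (ULift.{u} ℤ) R).w, Category.assoc]
  congr 1
  exact specULiftZIsTerminal.hom_ext _ _

/-- the canonical morphism `P^r_R ⟶ P^r_Y` over `j : Spec R ⟶ Y` -/
noncomputable def a : CohB1.ProjSpace r R ⟶ CohB1.ProjSpaceOver r Y :=
  pullback.lift (Proj.map (phi r (ULift.{u} ℤ) R) (irrelevant_le_map r (ULift.{u} ℤ) R))
    (CohB1.ProjSpace.toSpec r R ≫ j) (a_comm r R j)

theorem a_fst : a r R j ≫ pullback.fst (CohB1.ProjSpace.toSpec r (ULift.{u} ℤ))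
    (specULiftZIsTerminal.from Y) =
    Proj.map (phi r (ULift.{u} ℤ) R) (irrelevant_le_map r (ULift.{u} ℤ) R) :=
  pullback.lift_fst _ _ _

theorem a_toBase : a r R j ≫ CohB1.ProjSpaceOver.toBase r Y = CohB1.ProjSpace.toSpec r R ≫ j :=
  pullback.lift_snd _ _ _

theorem isPullback_a :
    IsPullback (a r R j) (CohB1.ProjSpace.toSpec r R) (CohB1.ProjSpaceOver.toBase r Y) j := by
  have hbig : IsPullback (a r R j ≫ pullback.fst (CohB1.ProjSpace.toSpec r (ULift.{u} ℤ))
      (specULiftZIsTerminal.from Y)) (CohB1.ProjSpace.toSpec r R)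
      (CohB1.ProjSpace.toSpec r (ULift.{u} ℤ)) (j ≫ specULiftZIsTerminal.from Y) := by
    rw [a_fst]
    have h2 : j ≫ specULiftZIsTerminal.from Y =
        Spec.map (CommRingCat.ofHom (algebraMap (ULift.{u} ℤ) R)) :=
      specULiftZIsTerminal.hom_ext _ _
    rw [h2]
    exact isPullback_phi r (ULift.{u} ℤ) R
  exact IsPullback.of_right hbig (a_toBase r R j)
    (IsPullback.of_hasPullback (CohB1.ProjSpace.toSpec r (ULift.{u} ℤ))
      (specULiftZIsTerminal.from Y))

instance isOpenImmersion_a [IsOpenImmersion j] : IsOpenImmersion (a r R j) :=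
  MorphismProperty.of_isPullback (P := @IsOpenImmersion) (isPullback_a r R j).flip inferInstance

end Over

section Main

theorem main {X Y : Scheme.{u}}
    [IsNoetherian X] [IsNoetherian Y] (f : X ⟶ Y) [LocallyOfFiniteType f]
    (U : X.Opens) (hU : IsAffineOpen U) (V : Y.Opens) (hV : IsAffineOpen V) (hUV : U ≤ f ⁻¹ᵁ V) :
    ∃ (W P : Scheme.{u}) (g : (U : Scheme.{u}) ⟶ W) (h : W ⟶ P) (k : P ⟶ Y),
      IsOpenImmersion g ∧ IsClosedImmersion h ∧ Smooth k ∧ IsProper k ∧ g ≫ h ≫ k = U.ι ≫ f := by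
  have hφ : (f.appLE V U hUV).hom.FiniteType := f.finiteType_appLE hV hU hUV
  obtain ⟨n, c₀, hc₀, hcomp₀⟩ := exists_immersion_projSpace Γ(Y, V) (f.appLE V U hUV).hom hφ
  obtain ⟨c, hc, hcomp⟩ : ∃ c : Spec (CommRingCat.of Γ(X, U)) ⟶ CohB1.ProjSpace n Γ(Y, V),
      IsImmersion c ∧ c ≫ CohB1.ProjSpace.toSpec n Γ(Y, V) =
        Spec.map (CommRingCat.ofHom (f.appLE V U hUV).hom) := ⟨c₀, hc₀, hcomp₀⟩
  haveI : IsOpenImmersion hV.fromSpec := hV.isOpenImmersion_fromSpec
  let i : (U : Scheme.{u}) ⟶ CohB1.ProjSpaceOver n Y :=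
    hU.isoSpec.hom ≫ c ≫ a n Γ(Y, V) hV.fromSpec
  have hi : i ≫ CohB1.ProjSpaceOver.toBase n Y = U.ι ≫ f := by
    simp only [i, Category.assoc]
    rw [a_toBase, reassoc_of% hcomp]
    change hU.isoSpec.hom ≫ Spec.map (f.appLE V U hUV) ≫ hV.fromSpec = _
    rw [IsAffineOpen.SpecMap_appLE_fromSpec f hV hU hUV, ← Category.assoc]
    congr 1
    exact hU.isoSpec_hom_fromSpec
  haveI : IsImmersion i := by
    haveI : IsImmersion (a n Γ(Y, V) hV.fromSpec) := inferInstance
    haveI : IsImmersion (c ≫ a n Γ(Y, V) hV.fromSpec) :=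
      MorphismProperty.comp_mem (W := @IsImmersion) _ _ hc inferInstance
    exact MorphismProperty.comp_mem (W := @IsImmersion) _ _ inferInstance inferInstance
  haveI : IsNoetherianRing Γ(X, U) := IsLocallyNoetherian.component_noetherian ⟨U, hU⟩
  haveI : TopologicalSpace.NoetherianSpace (U : Scheme.{u}) := noetherianSpace_of_isAffineOpen U hU
  haveI : QuasiCompact i := inferInstance
  obtain ⟨W, g₁, g₂, hg₁, hg₂, hg⟩ := IsImmersion.isImmersion_iff_exists_of_quasiCompact.mp
    (inferInstance : IsImmersion i)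
  refine ⟨W, CohB1.ProjSpaceOver n Y, g₁, g₂, CohB1.ProjSpaceOver.toBase n Y, hg₁, hg₂,
    smooth_toBase n Y, Groth.Agent.S9705.isProper_toBase n Y, ?_⟩
  rw [← Category.assoc, hg, hi]

end Main


end Groth.Agent.Lib.H9AffFactor
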