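import Mathlib
import Groth.Agent.Lib.Helper4PunctAffine3

/-! Opens with affine inclusion containing a dense open of a Noetherian scheme: exists_maximal_point (maximal points of closed subsets of Noetherian sober T0 spaces), exists_strict_generization (point outside a dense open is not maximal), compl_eq_sUnion (complement of affine-inclusion open V ⊇ U is a union of irreducible pieces of Uᶜ, via codim ≤ 1), isAffineHom_inf, main = S13043 (helper9). -/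

set_option autoImplicit false
set_option linter.style.haveILetI false
set_option linter.unusedSimpArgs false
set_option linter.unusedVariables false
universe u

namespace Groth.Agent.Lib.H9AffIncl

open CategoryTheory AlgebraicGeometry TopologicalSpace Topology

-- ===== part AffIncl =====
section

/-- maximal points of a closed subset of a Noetherian sober T0 space -/
theorem exists_maximal_point {X : Type*} [TopologicalSpace X] [NoetherianSpace X] [QuasiSober X] [T0Space X]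
    {C : Set X} (hC : IsClosed C) {z : X} (hz : z ∈ C) :
    ∃ ξ ∈ C, ξ ⤳ z ∧ ∀ η ∈ C, η ⤳ ξ → η = ξ := by
  obtain ⟨𝒮, h𝒮f, h𝒮c, h𝒮i, h𝒮U⟩ := NoetherianSpace.exists_finite_set_isClosed_irreducible hC
  have hz' : z ∈ ⋃₀ 𝒮 := h𝒮U ▸ hz
  obtain ⟨T₀, hT₀, hzT₀⟩ := hz'
  obtain ⟨T, hT⟩ := (h𝒮f.subset (fun T (h : T ∈ {T | T ∈ 𝒮 ∧ z ∈ T}) => h.1)).exists_maximal
    ⟨T₀, hT₀, hzT₀⟩
  obtain ⟨⟨hT𝒮, hzT⟩, hTmax⟩ := hT
  obtain ⟨ξ, hξ⟩ := QuasiSober.sober (h𝒮i T hT𝒮) (h𝒮c T hT𝒮)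
  have hξT : ξ ∈ T := hξ.mem
  have hTC : T ⊆ C := by rw [h𝒮U]; exact Set.subset_sUnion_of_mem hT𝒮
  refine ⟨ξ, hTC hξT, hξ.specializes hzT, fun η hηC hηξ => ?_⟩
  have hcl : closure ({η} : Set X) ⊆ ⋃₀ 𝒮 := by
    rw [← h𝒮U]
    exact hC.closure_subset_iff.mpr (Set.singleton_subset_iff.mpr hηC)
  lift 𝒮 to Finset (Set X) using h𝒮f
  obtain ⟨T', hT'𝒮, hηT'⟩ := isIrreducible_iff_sUnion_isClosed.1
    (isIrreducible_singleton.closure) 𝒮 h𝒮c hcl
  have hξT' : ξ ∈ T' := hηT' (specializes_iff_mem_closure.mp hηξ)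
  have hTT' : T ⊆ T' := by
    rw [← hξ.def]
    exact (h𝒮c T' hT'𝒮).closure_subset_iff.mpr (Set.singleton_subset_iff.mpr hξT')
  have hT'T : T' ⊆ T := hTmax ⟨hT'𝒮, hTT' hzT⟩ hTT'
  have hηT : η ∈ T := hT'T (hηT' (subset_closure rfl))
  have hξη : ξ ⤳ η := hξ.specializes hηT
  exact ((hξη.antisymm hηξ).eq).symm

end

-- ===== part AffIncl2 =====
section

/-- a point outside a dense open of a Noetherian scheme has a strict generization -/
theorem exists_strict_generization {S : Scheme.{u}} [IsNoetherian S] (U : S.Opens)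
    (hU : Dense (U : Set S)) {ζ : S} (hζ : ζ ∉ U) : ∃ η : S, η ⤳ ζ ∧ η ≠ ζ := by
  obtain ⟨η, -, hηζ, hηmax⟩ := exists_maximal_point (X := S) isClosed_univ (Set.mem_univ ζ)
  refine ⟨η, hηζ, ?_⟩
  rintro rfl
  apply hζ
  obtain ⟨𝒮, h𝒮f, h𝒮c, h𝒮i, h𝒮U⟩ :=
    NoetherianSpace.exists_finite_set_isClosed_irreducible (α := S) isClosed_univ
  have hDc : IsClosed (⋃₀ {T | T ∈ 𝒮 ∧ η ∉ T}) := by
    rw [Set.sUnion_eq_biUnion]
    exact Set.Finite.isClosed_biUnion (h𝒮f.subset (fun T (h : T ∈ {T | T ∈ 𝒮 ∧ η ∉ T}) => h.1))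
      (fun T h => h𝒮c T h.1)
  have hηO : η ∈ (⋃₀ {T | T ∈ 𝒮 ∧ η ∉ T})ᶜ := by
    rintro ⟨T, ⟨-, hT⟩, hηT⟩
    exact hT hηT
  obtain ⟨y, hyO, hyU⟩ := hU.inter_open_nonempty _ hDc.isOpen_compl ⟨η, hηO⟩
  have hy : y ∈ ⋃₀ 𝒮 := h𝒮U ▸ Set.mem_univ y
  obtain ⟨T, hT𝒮, hyT⟩ := hy
  have hηT : η ∈ T := by
    by_contra h
    exact hyO ⟨T, ⟨hT𝒮, h⟩, hyT⟩
  obtain ⟨η', hη'⟩ := QuasiSober.sober (h𝒮i T hT𝒮) (h𝒮c T hT𝒮)
  have h1 : η' = η := hηmax η' (Set.mem_univ _) (hη'.specializes hηT)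
  subst h1
  exact (hη'.specializes hyT).mem_open U.isOpen hyU

theorem compl_eq_sUnion {S : Scheme.{u}} [IsNoetherian S] (U V : S.Opens) (hU : Dense (U : Set S))
    (hUV : U ≤ V) [IsAffineHom V.ι] (𝒮 : Set (Set S)) (h𝒮c : ∀ T ∈ 𝒮, IsClosed T)
    (h𝒮i : ∀ T ∈ 𝒮, IsIrreducible T) (h𝒮U : (U : Set S)ᶜ = ⋃₀ 𝒮) :
    (V : Set S)ᶜ = ⋃₀ {T | T ∈ 𝒮 ∧ T ⊆ (V : Set S)ᶜ} := by
  apply Set.Subset.antisymm
  · intro z hz
    obtain ⟨ξ, hξV, hξz, hξmax⟩ := exists_maximal_point (X := S) V.isOpen.isClosed_compl hz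
    have hdim : ringKrullDim (S.presheaf.stalk ξ) ≤ 1 :=
      Groth.Agent.Lib.Helper4.PunctAffine.ringKrullDim_stalk_le_one_of_isAffineHom S V ξ hξV
        (fun η hη hηξ => hξmax η hη hηξ)
    rw [ringKrullDim_stalk_eq_coheight] at hdim
    have hξU : ξ ∈ (U : Set S)ᶜ := fun h => hξV (hUV h)
    rw [h𝒮U] at hξU
    obtain ⟨T, hT𝒮, hξT⟩ := hξU
    obtain ⟨ζ, hζ⟩ := QuasiSober.sober (h𝒮i T hT𝒮) (h𝒮c T hT𝒮)
    have hζξ : ζ ⤳ ξ := hζ.specializes hξT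
    have hζU : ζ ∉ U := by
      have : ζ ∈ ⋃₀ 𝒮 := ⟨T, hT𝒮, hζ.mem⟩
      rw [← h𝒮U] at this
      exact this
    have hζeq : ζ = ξ := by
      by_contra hne
      obtain ⟨η, hηζ, hηne⟩ := exists_strict_generization U hU hζU
      have h1 : ξ < ζ := by
        refine lt_of_le_not_ge hζξ (fun h => hne ?_)
        exact (Specializes.antisymm hζξ h).eq
      have h2 : ζ < η := by
        refine lt_of_le_not_ge hηζ (fun h => hηne ?_)
        exact (Specializes.antisymm hηζ h).eq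
      have h3 := Order.coheight_add_one_le h1
      have h4 := Order.coheight_add_one_le h2
      have h5 : (2 : ℕ∞) ≤ Order.coheight ξ := by
        calc (2 : ℕ∞) = 0 + 1 + 1 := by norm_num
          _ ≤ Order.coheight η + 1 + 1 := by gcongr; exact zero_le
          _ ≤ Order.coheight ζ + 1 := by gcongr
          _ ≤ Order.coheight ξ := h3
      have h6 : ((2 : ℕ∞) : WithBot ℕ∞) ≤ 1 := le_trans (by exact_mod_cast h5) hdim
      norm_cast at h6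
    subst hζeq
    have hTV : T ⊆ (V : Set S)ᶜ := by
      rw [← hζ.def]
      exact V.isOpen.isClosed_compl.closure_subset_iff.mpr (Set.singleton_subset_iff.mpr hξV)
    refine ⟨T, ⟨hT𝒮, hTV⟩, ?_⟩
    rw [← hζ.def]
    exact specializes_iff_mem_closure.mp hξz
  · rintro z ⟨T, ⟨-, hTV⟩, hzT⟩
    exact hTV hzT

theorem isAffineHom_inf {S : Scheme.{u}} (V₁ V₂ : S.Opens) [IsAffineHom V₁.ι] [IsAffineHom V₂.ι] :
    IsAffineHom (V₁ ⊓ V₂).ι := by
  have h1 : IsAffineHom (S.homOfLE (inf_le_right : V₁ ⊓ V₂ ≤ V₂)) :=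
    MorphismProperty.of_isPullback (P := @IsAffineHom) (isPullback_opens_inf V₁ V₂) inferInstance
  rw [← S.homOfLE_ι (inf_le_right : V₁ ⊓ V₂ ≤ V₂)]
  infer_instance

end

-- ===== part AffIncl3 =====
section

theorem main (S : Scheme.{u}) [IsNoetherian S] (U : S.Opens) (hU : Dense (U : Set S)) :
    Set.Finite {V : S.Opens | U ≤ V ∧ IsAffineHom V.ι} ∧
      ∃ V₀ : S.Opens, (U ≤ V₀ ∧ IsAffineHom V₀.ι) ∧
        ∀ V : S.Opens, U ≤ V → IsAffineHom V.ι → V₀ ≤ V := by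
  obtain ⟨𝒮, h𝒮f, h𝒮c, h𝒮i, h𝒮U⟩ :=
    NoetherianSpace.exists_finite_set_isClosed_irreducible (α := S) U.isOpen.isClosed_compl
  have hfin : Set.Finite {V : S.Opens | U ≤ V ∧ IsAffineHom V.ι} := by
    refine Set.Finite.of_injOn (f := fun V : S.Opens => {T | T ∈ 𝒮 ∧ T ⊆ (V : Set S)ᶜ})
      (t := {𝒯 | 𝒯 ⊆ 𝒮}) (fun V _ T hT => hT.1) ?_ h𝒮f.finite_subsets
    rintro V₁ ⟨h1, h1'⟩ V₂ ⟨h2, h2'⟩ h12
    have e1 := compl_eq_sUnion U V₁ hU h1 𝒮 h𝒮c h𝒮i h𝒮U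
    have e2 := compl_eq_sUnion U V₂ hU h2 𝒮 h𝒮c h𝒮i h𝒮U
    simp only at h12
    rw [h12, ← e2] at e1
    exact SetLike.coe_injective (compl_injective e1)
  refine ⟨hfin, sInf {V : S.Opens | U ≤ V ∧ IsAffineHom V.ι}, ⟨le_sInf fun V hV => hV.1, ?_⟩,
    fun V h1 h2 => sInf_le ⟨h1, h2⟩⟩
  have key : ∀ 𝒜 : Set S.Opens, 𝒜.Finite → (∀ V ∈ 𝒜, IsAffineHom V.ι) → IsAffineHom (sInf 𝒜).ι := by
    intro 𝒜 h𝒜
    induction 𝒜, h𝒜 using Set.Finite.induction_on with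
    | empty =>
      intro _
      rw [sInf_empty]
      haveI : IsIso (⊤ : S.Opens).ι := by
        rw [← Scheme.topIso_hom]
        infer_instance
      infer_instance
    | insert _ _ ih =>
      intro h
      rw [sInf_insert]
      haveI := h _ (Set.mem_insert _ _)
      haveI := ih (fun V hV => h V (Set.mem_insert_of_mem _ hV))
      exact isAffineHom_inf _ _
  exact key _ hfin (fun V hV => hV.2)

end

end Groth.Agent.Lib.H9AffIncl
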