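import Mathlib
import Groth.Agent.Lib.H9SteinAlg

/-! helper9: `ker_productMap_ne'`, `cond_of_trivIdem_adjoinRoot` (finite k-algebra R with R and all R ⊗ k[X]/(g) having only trivial idempotents is local, zero-dimensional with purely inseparable residue field). -/

set_option autoImplicit false
universe u

namespace Groth.Agent.Lib.H9ZarAlgA

open TensorProduct Polynomial
open Groth.Agent.Lib.H9SteinAlg

variable {k : Type u} [Field k] {R : Type u} [CommRing R] [Algebra k R]

/-- two `k`-algebra maps into a field `Ω`, together with a common `k`-embedding of `K`, which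
differ on an element of the form `r ⊗ 1 - 1 ⊗ c`, give distinct primes of `R ⊗ K` -/
theorem ker_productMap_ne' (K Ω : Type u) [Field K] [Algebra k K] [Field Ω] [Algebra k Ω]
    (φ ψ : R →ₐ[k] Ω) (ι₀ : K →ₐ[k] Ω) (r : R) (c : K) (h1 : φ r = ι₀ c) (h2 : ψ r ≠ ι₀ c) :
    RingHom.ker (Algebra.TensorProduct.productMap φ ι₀) ≠
      RingHom.ker (Algebra.TensorProduct.productMap ψ ι₀) := by
  intro heq
  have hz : r ⊗ₜ[k] (1 : K) - (1 : R) ⊗ₜ[k] c ∈
      RingHom.ker (Algebra.TensorProduct.productMap φ ι₀) := by
    rw [RingHom.mem_ker, map_sub, Algebra.TensorProduct.productMap_apply_tmul,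
      Algebra.TensorProduct.productMap_apply_tmul]
    simp [h1]
  rw [heq, RingHom.mem_ker, map_sub, Algebra.TensorProduct.productMap_apply_tmul,
    Algebra.TensorProduct.productMap_apply_tmul] at hz
  simp only [map_one, mul_one, one_mul] at hz
  exact h2 (sub_eq_zero.mp hz)

/-- **A2'**: it suffices to test simple extensions `k[X]/(g)` -/
theorem cond_of_trivIdem_adjoinRoot [Module.Finite k R] (h0 : Nontrivial R) (h0' : TrivIdem R)
    (h : ∀ (g : k[X]) (hg : Irreducible g), g.Monic →
      letI : Fact (Irreducible g) := ⟨hg⟩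
      TrivIdem (R ⊗[k] AdjoinRoot g)) :
    IsLocalRing R ∧ ringKrullDim R = 0 ∧ PI k R := by
  haveI : IsArtinianRing R := IsArtinianRing.of_finite k R
  haveI hloc : IsLocalRing R := isLocalRing_of_trivIdem h0'
  refine ⟨hloc, ?_, ?_⟩
  · exact ringKrullDimZero_iff_ringKrullDim_eq_zero.mp inferInstance
  · let κ := IsLocalRing.ResidueField R
    haveI : Module.Finite k κ :=
      Module.Finite.of_surjective (IsScalarTower.toAlgHom k R κ).toLinearMap
        IsLocalRing.residue_surjective
    have hpi : IsPurelyInseparable k κ := by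
      rw [isPurelyInseparable_iff_finSepDegree_eq_one]
      by_contra hne
      let Ω := AlgebraicClosure κ
      haveI : Finite (Field.Emb k κ) := inferInstance
      haveI : Nonempty (Field.Emb k κ) := ⟨IsScalarTower.toAlgHom k κ Ω⟩
      have hcard : 1 < Nat.card (Field.Emb k κ) := by
        have h1 : 0 < Nat.card (Field.Emb k κ) := Nat.card_pos
        have h2 : Nat.card (Field.Emb k κ) ≠ 1 := hne
        omega
      obtain ⟨σ, τ, hστ⟩ := Finite.one_lt_card_iff_nontrivial.mp hcard
      -- an element on which they differ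
      have hx : ∃ x : κ, (σ : κ →ₐ[k] Ω) x ≠ (τ : κ →ₐ[k] Ω) x := by
        by_contra hcon
        push Not at hcon
        exact hστ (AlgHom.ext hcon)
      obtain ⟨x, hx⟩ := hx
      obtain ⟨r, rfl⟩ := IsLocalRing.residue_surjective x
      let g := minpoly k (IsLocalRing.residue R r)
      have hint : IsIntegral k (IsLocalRing.residue R r) := Algebra.IsIntegral.isIntegral _
      have hirr : Irreducible g := minpoly.irreducible hint
      have hmon : g.Monic := minpoly.monic hint
      haveI : Fact (Irreducible g) := ⟨hirr⟩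
      have htiK := h g hirr hmon
      let ι₀ : AdjoinRoot g →ₐ[k] Ω :=
        AdjoinRoot.liftAlgHom g (Algebra.ofId k Ω) ((σ : κ →ₐ[k] Ω) (IsLocalRing.residue R r)) (by
          have := minpoly.aeval k (IsLocalRing.residue R r)
          have h2 := congrArg (σ : κ →ₐ[k] Ω) this
          rw [map_zero, ← Polynomial.aeval_algHom_apply] at h2
          exact h2)
      let φ : R →ₐ[k] Ω := (σ : κ →ₐ[k] Ω).comp (IsScalarTower.toAlgHom k R κ)
      let ψ : R →ₐ[k] Ω := (τ : κ →ₐ[k] Ω).comp (IsScalarTower.toAlgHom k R κ)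
      have hι : ι₀ (AdjoinRoot.root g) = (σ : κ →ₐ[k] Ω) (IsLocalRing.residue R r) := by
        simp [ι₀]
      haveI : Module.Finite k (AdjoinRoot g) :=
        (AdjoinRoot.powerBasis hirr.ne_zero).finite
      haveI := isArtinianRing_tensor (k := k) (R := R) (AdjoinRoot g)
      haveI : (RingHom.ker (Algebra.TensorProduct.productMap φ ι₀)).IsPrime :=
        RingHom.ker_isPrime _
      haveI : (RingHom.ker (Algebra.TensorProduct.productMap ψ ι₀)).IsPrime :=
        RingHom.ker_isPrime _
      refine ker_productMap_ne' (AdjoinRoot g) Ω φ ψ ι₀ r (AdjoinRoot.root g) ?_ ?_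
        (prime_unique_of_trivIdem htiK _ _)
      · rw [hι]
        rfl
      · rw [hι]
        exact fun heq => hx heq.symm
    intro a
    obtain ⟨n, c, hc⟩ := IsPurelyInseparable.pow_mem k (ringExpChar k) (IsLocalRing.residue R a)
    refine ⟨n, c, ?_⟩
    have hm : a ^ (ringExpChar k ^ n) - algebraMap k R c ∈ IsLocalRing.maximalIdeal R := by
      rw [← IsLocalRing.residue_eq_zero_iff, map_sub, map_pow, ← hc]
      exact sub_eq_zero.mpr rfl
    have hnil : IsNilpotent (IsLocalRing.maximalIdeal R) := by
      have := IsArtinianRing.isNilpotent_jacobson_bot (R := R)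
      rwa [IsLocalRing.jacobson_eq_maximalIdeal ⊥ bot_ne_top] at this
    obtain ⟨N, hN⟩ := hnil
    refine ⟨N, ?_⟩
    have := Ideal.pow_mem_pow hm N
    rwa [hN, Ideal.zero_eq_bot, Ideal.mem_bot] at this

end Groth.Agent.Lib.H9ZarAlgA
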