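import Mathlib

/-! helper9: `isLocalRing_adjoinRoot` (A local, G monic with irreducible reduction ⇒ A[X]/(G) local, local hom), `exists_local_adjoinRoot` (flat local Noetherian extension realizing a simple residue field extension). -/

set_option autoImplicit false
universe u

namespace Groth.Agent.Lib.H9ZarAlgB

open Polynomial

variable (A : Type u) [CommRing A] [IsLocalRing A]

theorem isLocalRing_adjoinRoot (G : A[X]) (hG : G.Monic)
    (hirr : Irreducible (G.map (Ideal.Quotient.mk (IsLocalRing.maximalIdeal A)))) :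
    ∃ _ : IsLocalRing (AdjoinRoot G), IsLocalHom (AdjoinRoot.of G) := by
  let I := IsLocalRing.maximalIdeal A
  letI : Field (A ⧸ I) := Ideal.Quotient.field I
  let M : Ideal (AdjoinRoot G) := I.map (AdjoinRoot.of G)
  haveI : Module.Finite A (AdjoinRoot G) := (AdjoinRoot.powerBasis' hG).finite
  haveI : Algebra.IsIntegral A (AdjoinRoot G) := Algebra.IsIntegral.of_finite A _
  have hmax : (Ideal.span ({G.map (Ideal.Quotient.mk I)} : Set (A ⧸ I)[X])).IsMaximal :=
    PrincipalIdealRing.isMaximal_of_irreducible hirr
  have hM : M.IsMaximal := by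
    have e := AdjoinRoot.quotAdjoinRootEquivQuotPolynomialQuot I G
    have hf : IsField ((A ⧸ I)[X] ⧸ Ideal.span ({G.map (Ideal.Quotient.mk I)} : Set (A ⧸ I)[X])) :=
      (Ideal.Quotient.maximal_ideal_iff_isField_quotient _).mp hmax
    have hf' : IsField (AdjoinRoot G ⧸ M) := e.toMulEquiv.isField hf
    exact (Ideal.Quotient.maximal_ideal_iff_isField_quotient _).mpr hf'
  have hloc : IsLocalRing (AdjoinRoot G) := by
    refine IsLocalRing.of_unique_max_ideal ⟨M, hM, fun N hN => ?_⟩
    have hN' : N.IsMaximal := hN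
    have hc : (N.comap (algebraMap A (AdjoinRoot G))).IsMaximal :=
      Ideal.isMaximal_comap_of_isIntegral_of_isMaximal N
    have hc' : N.comap (algebraMap A (AdjoinRoot G)) = I := IsLocalRing.eq_maximalIdeal hc
    have hle : M ≤ N := by
      rw [Ideal.map_le_iff_le_comap]
      exact le_of_eq hc'.symm
    exact (hM.eq_of_le hN'.ne_top hle).symm
  refine ⟨hloc, ?_⟩
  refine ((IsLocalRing.local_hom_TFAE (AdjoinRoot.of G)).out 2 0).mp ?_
  exact le_of_eq (IsLocalRing.eq_maximalIdeal hM)

/-- a flat local Noetherian extension of `A` whose residue field contains a root of a given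
irreducible polynomial over the residue field -/
theorem exists_local_adjoinRoot [IsNoetherianRing A]
    (g : (IsLocalRing.ResidueField A)[X]) (hg : Irreducible g) (hm : g.Monic) :
    ∃ (B : Type u) (_ : CommRing B) (_ : IsLocalRing B) (_ : IsNoetherianRing B) (φ : A →+* B),
      φ.Flat ∧
      ∃ θ : (letI : Fact (Irreducible g) := ⟨hg⟩; AdjoinRoot g) →+* IsLocalRing.ResidueField B,
        θ.comp ((AdjoinRoot.of g).comp (IsLocalRing.residue A)) =
          (IsLocalRing.residue B).comp φ := by
  letI : Fact (Irreducible g) := ⟨hg⟩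
  obtain ⟨G, hGg, -, hG⟩ := Polynomial.lifts_and_natDegree_eq_and_monic
    (Polynomial.mem_lifts_of_surjective (f := IsLocalRing.residue A)
      IsLocalRing.residue_surjective g) hm
  have hirr : Irreducible (G.map (Ideal.Quotient.mk (IsLocalRing.maximalIdeal A))) := by
    have : G.map (Ideal.Quotient.mk (IsLocalRing.maximalIdeal A)) = g := hGg
    rw [this]
    exact hg
  obtain ⟨hloc, hlh⟩ := isLocalRing_adjoinRoot A G hG hirr
  haveI := hloc
  haveI := hlh
  haveI : Module.Finite A (AdjoinRoot G) := (AdjoinRoot.powerBasis' hG).finite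
  haveI : Module.Free A (AdjoinRoot G) := .of_basis (AdjoinRoot.powerBasis' hG).basis
  haveI : IsNoetherianRing (AdjoinRoot G) := IsNoetherianRing.of_finite A _
  refine ⟨AdjoinRoot G, inferInstance, hloc, inferInstance, AdjoinRoot.of G, ?_, ?_⟩
  · change (algebraMap A (AdjoinRoot G)).Flat
    rw [RingHom.flat_algebraMap_iff]
    infer_instance
  · let ρ : IsLocalRing.ResidueField A →+* IsLocalRing.ResidueField (AdjoinRoot G) :=
      IsLocalRing.ResidueField.map (AdjoinRoot.of G)
    have hroot : g.eval₂ ρ (IsLocalRing.residue (AdjoinRoot G) (AdjoinRoot.root G)) = 0 := by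
      rw [← hGg, Polynomial.eval₂_map]
      have h1 : ρ.comp (IsLocalRing.residue A) =
          (IsLocalRing.residue (AdjoinRoot G)).comp (AdjoinRoot.of G) := by
        ext a
        exact IsLocalRing.ResidueField.map_residue _ a
      rw [h1, ← Polynomial.hom_eval₂, AdjoinRoot.eval₂_root, map_zero]
    refine ⟨AdjoinRoot.lift ρ _ hroot, ?_⟩
    ext a
    simp only [RingHom.comp_apply, AdjoinRoot.lift_of]
    exact IsLocalRing.ResidueField.map_residue _ a

end Groth.Agent.Lib.H9ZarAlgB
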