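import Mathlib
import Groth.Agent.Lib.H9ZarLocal
import Groth.Agent.Lib.H9ZarLocalU
import Groth.Agent.Lib.H9ZarAlgA
import Groth.Agent.Lib.H9ZarAlgB

/-! helper9: one-neighbourhood versions of H9ZarGeom: `geometricallyConnected_fiber` (y ∈ U affine, IsIso (f.app U) ⇒ the fibre over y is geometrically connected). -/

set_option autoImplicit false
universe u

namespace Groth.Agent.Lib.H9ZarGeomU

open CategoryTheory CategoryTheory.Limits AlgebraicGeometry TopologicalSpace Opposite TensorProduct
  Polynomial
open Groth.Agent.Lib.H9SteinAlg Groth.Agent.Lib.H9SteinConn Groth.Agent.Lib.H9NormFin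
open Groth.Agent.Lib.H9ZarLocalA Groth.Agent.Lib.H9ZarLocal Groth.Agent.Lib.H9ZarAlgA
  Groth.Agent.Lib.H9ZarAlgB

variable {X Y : Scheme.{u}} (f : X ⟶ Y) [IsProper f] [IsLocallyNoetherian Y]
  (y : Y) (U : Y.Opens) (hU : IsAffineOpen U) (hyU : y ∈ U) (hfU : IsIso (f.app U))

include hU hyU hfU in
/-- the fibre over a simple extension of the residue field is connected -/
theorem connectedSpace_pullback_adjoinRoot
    (g : (IsLocalRing.ResidueField (Y.presheaf.stalk y))[X]) (hg : Irreducible g) (hm : g.Monic) :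
    letI : Fact (Irreducible g) := ⟨hg⟩
    ConnectedSpace ↥(pullback f
      (Spec.map (CommRingCat.ofHom (AdjoinRoot.of g)) ≫ Y.fromSpecResidueField y)) := by
  letI : Fact (Irreducible g) := ⟨hg⟩
  obtain ⟨B, _, _, _, φ, hφ, θ, hθ⟩ := exists_local_adjoinRoot (Y.presheaf.stalk y) g hg hm
  haveI := Groth.Agent.Lib.H9ZarLocalU.connectedSpace_pullback_of_local_of_nhd f y U hU hyU hfU B φ hφ
  have hcomp : Spec.map (CommRingCat.ofHom (IsLocalRing.residue B)) ≫
      Spec.map (CommRingCat.ofHom φ) ≫ Y.fromSpecStalk y =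
      Spec.map (CommRingCat.ofHom θ) ≫
        (Spec.map (CommRingCat.ofHom (AdjoinRoot.of g)) ≫ Y.fromSpecResidueField y) := by
    have h1 : CommRingCat.ofHom φ ≫ CommRingCat.ofHom (IsLocalRing.residue B) =
        Y.residue y ≫ CommRingCat.ofHom (AdjoinRoot.of g) ≫ CommRingCat.ofHom θ := by
      ext a
      exact (congrArg (fun ψ => ψ a) hθ).symm
    rw [Scheme.fromSpecResidueField, ← Category.assoc, ← Spec.map_comp, h1, Spec.map_comp,
      Spec.map_comp]
    simp only [Category.assoc]
    rfl
  rw [hcomp] at this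
  exact connectedSpace_pullback_of_surjective f _ (Spec.map (CommRingCat.ofHom θ))


include hU hyU hfU in
/-- **Zariski's connectedness theorem**: `f_* O_X = O_Y` and `f` proper over a locally Noetherian
base imply that `f` is geometrically connected. -/
theorem geometricallyConnected_fiber :
    GeometricallyConnected (f.fiberToSpecResidueField y) := by
  let k := IsLocalRing.ResidueField (Y.presheaf.stalk y)
  let fy : f.fiber y ⟶ Spec (CommRingCat.of k) := f.fiberToSpecResidueField y
  haveI : IsProper fy :=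
    inferInstanceAs (IsProper (pullback.snd f (Y.fromSpecResidueField y)))
  change GeometricallyConnected fy
  letI := algΓ k fy
  haveI : CompactSpace ↥(f.fiber y) := (quasiCompact_iff_compactSpace fy).mp inferInstance
  haveI : QuasiSeparatedSpace ↥(f.fiber y) :=
    (quasiSeparated_iff_quasiSeparatedSpace fy).mp inferInstance
  haveI : Module.Finite k Γ(f.fiber y, ⊤) := finite_toGlobal k fy
  haveI hconn : ConnectedSpace ↥(f.fiber y) := Groth.Agent.Lib.H9ZarLocalU.connectedSpace_fiber_of_nhd f y U hU hyU hfU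
  obtain ⟨hne, hti⟩ := (connectedSpace_iff_trivIdem (f.fiber y)).mp hconn
  haveI := hne
  rw [Groth.Agent.Lib.H9SteinConn.main k fy]
  refine cond_of_trivIdem_adjoinRoot (k := k) (R := Γ(f.fiber y, ⊤))
    (nontrivial_of_nonempty (f.fiber y)) hti ?_
  intro g hg hm
  letI : Fact (Irreducible g) := ⟨hg⟩
  obtain ⟨e⟩ := nonempty_tensorEquiv k fy (AdjoinRoot g)
  haveI h1 := connectedSpace_pullback_adjoinRoot f y U hU hyU hfU g hg hm
  haveI h2 : ConnectedSpace ↥(pullback fy
      (Spec.map (CommRingCat.ofHom (algebraMap k (AdjoinRoot g))))) := by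
    change ConnectedSpace ↥(pullback (pullback.snd f (Y.fromSpecResidueField y))
      (Spec.map (CommRingCat.ofHom (AdjoinRoot.of g))))
    rw [(pullbackLeftPullbackSndIso f (Y.fromSpecResidueField y)
      (Spec.map (CommRingCat.ofHom (AdjoinRoot.of g)))).hom.homeomorph.connectedSpace_iff]
    exact h1
  exact ((connectedSpace_iff_trivIdem _).mp h2).2.of_ringEquiv e.symm

end Groth.Agent.Lib.H9ZarGeomU
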