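import Mathlib
import Groth.Agent.Lib.H9AlgClB
import Groth.Agent.Lib.H9ZarGeomU

/-! helper9: `main` (= S4480: K(Y) algebraically closed in K(X), y normal ⇒ f_*O_X = O_Y near y and X_y geometrically connected). -/

set_option autoImplicit false
universe u

namespace Groth.Agent.Lib.H9AlgClC

open CategoryTheory CategoryTheory.Limits AlgebraicGeometry TopologicalSpace Opposite

/-- **S4480** -/
theorem main {X Y : Scheme.{u}}
    [IsIntegral X] [IsIntegral Y] [IsLocallyNoetherian Y] (f : X ⟶ Y) [IsProper f]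
    (hdom : f.base (genericPoint X) ⤳ genericPoint Y)
    (halg : ∀ x : X.functionField,
      (∃ q : Polynomial Y.functionField, q ≠ 0 ∧
        Polynomial.eval₂ (CohIII.stalkToFunctionField f (genericPoint Y) hdom) x q = 0) →
      x ∈ Set.range (CohIII.stalkToFunctionField f (genericPoint Y) hdom))
    (y : Y) (hy : IsIntegrallyClosed (Y.presheaf.stalk y)) :
    GeometricallyConnected (f.fiberToSpecResidueField y) ∧
      ∃ U : Y.Opens, y ∈ U ∧ ∀ V : Y.Opens, V ≤ U → IsIso (f.app V) := by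
  obtain ⟨_, ⟨W, hW, rfl⟩, hyW, -⟩ :=
    Y.isBasis_affineOpens.exists_subset_of_mem_open (Set.mem_univ y) isOpen_univ
  have hyW : y ∈ W := hyW
  obtain ⟨s, hys, hs⟩ :=
    Groth.Agent.Lib.H9AlgClA.exists_denominator f hdom halg y hy W hW hyW
  have hinj := Groth.Agent.Lib.H9AlgClA.app_injective f hdom
  have hiso : ∀ V : Y.Opens, V ≤ Y.basicOpen s → IsIso (f.app V) :=
    Groth.Agent.Lib.H9AlgClB.isIso_app f W hW s hs hinj
  refine ⟨?_, Y.basicOpen s, hys, hiso⟩
  exact Groth.Agent.Lib.H9ZarGeomU.geometricallyConnected_fiber f y (Y.basicOpen s)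
    (hW.basicOpen s) hys (hiso _ le_rfl)

end Groth.Agent.Lib.H9AlgClC
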