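import Mathlib
import Groth.Agent.S1968
import Groth.Agent.S1969
import Groth.Agent.Lib.Helper14WEFlat

set_option autoImplicit false

open TensorProduct

universe u

namespace Groth.Agent.Lib.R2LeadWEIntCl

section P4

/-- A ring all of whose local rings are valuation rings is integrally closed in any localization
at nonzerodivisors. -/
theorem exists_of_isIntegral_of_valuation_local (C : Type u) [CommRing C]
    (hC : ∀ (p : Ideal C) [p.IsPrime], ∃ _ : IsDomain (Localization.AtPrime p),
      ValuationRing (Localization.AtPrime p))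
    (M : Submonoid C) (hM : M ≤ nonZeroDivisors C) (E : Type u) [CommRing E] [Algebra C E]
    [IsLocalization M E] (z : E) (hz : IsIntegral C z) : ∃ c, algebraMap C E c = z := by
  obtain ⟨c, s, rfl⟩ := IsLocalization.exists_mk'_eq M z
  let 𝔠 : Ideal C := Submodule.comap (LinearMap.toSpanSingleton C E (IsLocalization.mk' E c s))
    (LinearMap.range (Algebra.linearMap C E))
  have h𝔠 : ∀ t, t ∈ 𝔠 ↔ ∃ c', algebraMap C E c' = algebraMap C E t * IsLocalization.mk' E c s := by
    intro t
    show (∃ c', Algebra.linearMap C E c' = t • IsLocalization.mk' E c s) ↔ _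
    simp only [Algebra.linearMap_apply, Algebra.smul_def]
  by_cases htop : 𝔠 = ⊤
  · have h1 : (1 : C) ∈ 𝔠 := by rw [htop]; trivial
    obtain ⟨c', hc'⟩ := (h𝔠 1).mp h1
    exact ⟨c', by rw [hc', map_one, one_mul]⟩
  exfalso
  obtain ⟨𝔮, h𝔮max, h𝔮⟩ := Ideal.exists_le_maximal 𝔠 htop
  haveI : 𝔮.IsPrime := h𝔮max.isPrime
  obtain ⟨hdom, hval⟩ := hC 𝔮
  let W := Localization.AtPrime 𝔮
  let F := FractionRing W
  let ρ : C →+* F := (algebraMap W F).comp (algebraMap C W)
  have hunits : ∀ y : M, IsUnit (ρ y) := by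
    intro y
    have h1 : algebraMap C W y ∈ nonZeroDivisors W :=
      IsLocalization.map_nonZeroDivisors_le 𝔮.primeCompl W
        (Submonoid.mem_map_of_mem _ (hM y.2))
    have h2 : algebraMap W F (algebraMap C W y) ≠ 0 :=
      IsFractionRing.to_map_ne_zero_of_mem_nonZeroDivisors h1
    exact h2.isUnit
  let φ : E →+* F := IsLocalization.lift (M := M) (g := ρ) hunits
  have hφ : ∀ x, φ (algebraMap C E x) = ρ x := fun x => IsLocalization.lift_eq _ x
  have hint : IsIntegral W (φ (IsLocalization.mk' E c s)) := by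
    refine IsIntegral.map_of_comp_eq (algebraMap C W) φ ?_ hz
    apply RingHom.ext
    intro x
    show algebraMap W F (algebraMap C W x) = φ (algebraMap C E x)
    rw [hφ]
    rfl
  obtain ⟨w, hw⟩ := IsIntegrallyClosed.algebraMap_eq_of_integral hint
  obtain ⟨a, t, rfl⟩ := IsLocalization.exists_mk'_eq 𝔮.primeCompl w
  -- relations in `F`
  have e1 : φ (IsLocalization.mk' E c s) * ρ s = ρ c := by
    rw [← hφ, ← map_mul, IsLocalization.mk'_spec, hφ]
  have e2 : algebraMap W F (IsLocalization.mk' W a t) * ρ t = ρ a := by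
    show algebraMap W F (IsLocalization.mk' W a t) * algebraMap W F (algebraMap C W t) =
      algebraMap W F (algebraMap C W a)
    rw [← map_mul, IsLocalization.mk'_spec]
  have e3 : ρ (c * t - a * s) = 0 := by
    rw [map_sub, map_mul, map_mul, ← e1, ← e2, hw]
    ring
  have e4 : algebraMap C W (c * t - a * s) = 0 :=
    (IsFractionRing.injective W F) (by rw [map_zero]; exact e3)
  obtain ⟨u, hu⟩ := (IsLocalization.map_eq_zero_iff 𝔮.primeCompl W _).mp e4
  have hmem : (u : C) * t ∈ 𝔠 := by
    rw [h𝔠]
    refine ⟨u * a, ?_⟩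
    have hs : IsUnit (algebraMap C E s) := IsLocalization.map_units E s
    apply hs.mul_right_cancel
    rw [mul_assoc, IsLocalization.mk'_spec, ← map_mul, ← map_mul]
    congr 1
    have : (u : C) * (c * t - a * s) = 0 := hu
    linear_combination -this
  have h2 := h𝔮 hmem
  rcases h𝔮max.isPrime.mem_or_mem h2 with h3 | h3
  · exact u.2 h3
  · exact t.2 h3

end P4

section P3

/-- weak dimension at most one ascends along weakly étale maps (in the form: local rings are
valuation rings). -/
theorem valuation_local_of_weaklyEtale (V C : Type u) [CommRing V] [CommRing C] [Algebra V C]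
    [Algebra.WeaklyEtale V C] (hV : ∀ I : Ideal V, Module.Flat V I) :
    ∀ (p : Ideal C) [p.IsPrime], ∃ _ : IsDomain (Localization.AtPrime p),
      ValuationRing (Localization.AtPrime p) := by
  have h3 := ((Groth.Agent.S1969.result V).out 0 2).mp hV
  have hC1 : ∀ I : Ideal C, Module.Flat C I := by
    intro I
    haveI : Module.Flat V (I.restrictScalars V) := h3 C inferInstance (I.restrictScalars V)
    haveI : Module.Flat V I :=
      Module.Flat.of_linearEquiv (R := V) (M := I.restrictScalars V) (N := I)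
        (LinearEquiv.refl V _)
    exact Groth.Agent.Lib.Helper14.WEFlat.flat_of_flat_of_weaklyEtale V C I
  exact ((Groth.Agent.S1969.result C).out 0 3).mp hC1

end P3

theorem algebraMapSubmonoid_le_of_flat (V C : Type*) [CommRing V] [CommRing C] [Algebra V C]
    [Module.Flat V C] :
    Algebra.algebraMapSubmonoid C (nonZeroDivisors V) ≤ nonZeroDivisors C := by
  rintro _ ⟨v, hv, rfl⟩
  have hreg : IsSMulRegular C v := Module.Flat.isSMulRegular_of_nonZeroDivisors hv
  rw [mem_nonZeroDivisors_iff_right]
  intro z hz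
  apply hreg
  show v • z = v • (0 : C)
  rw [smul_zero, Algebra.smul_def, mul_comm]
  exact hz

section P12

variable (A : Type u) [CommRing A] [IsDomain A] [IsIntegrallyClosed A]
  (K : Type u) [Field K] [Algebra A K] [IsFractionRing A K]

/-- valuation subrings of `K` containing `A` -/
def JJ : Type u := {v : ValuationSubring K // ∀ a : A, algebraMap A K a ∈ v}

noncomputable instance (j : JJ A K) : Algebra A j.1 :=
  (RingHom.codRestrict (algebraMap A K) j.1 (fun a => j.2 a)).toAlgebra

instance (j : JJ A K) : IsScalarTower A j.1 K :=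
  IsScalarTower.of_algebraMap_eq (fun _ => rfl)

/-- an element lying in all valuation rings containing `A` lies in `A`. -/
theorem mem_range_of_forall_mem (x : K) (hx : ∀ j : JJ A K, x ∈ j.1) :
    ∃ a, algebraMap A K a = x := by
  by_contra hcon
  let R : Subring K := (algebraMap A K).range
  haveI : IsIntegrallyClosedIn R K := by
    rw [Subring.isIntegrallyClosedIn_iff]
    intro y hy
    have hy' : IsIntegral A y := by
      letI : Algebra A R := (algebraMap A K).rangeRestrict.toAlgebra
      haveI : IsScalarTower A R K := IsScalarTower.of_algebraMap_eq (fun _ => rfl)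
      haveI : Algebra.IsIntegral A R :=
        Algebra.isIntegral_of_surjective (algebraMap A K).rangeRestrict_surjective
      exact isIntegral_trans y hy
    obtain ⟨a, ha⟩ := IsIntegrallyClosed.algebraMap_eq_of_integral hy'
    exact ⟨a, ha⟩
  have hxR : x ∉ R := fun ⟨a, ha⟩ => hcon ⟨a, ha⟩
  obtain ⟨v, hv1, hv2⟩ := Subring.exists_le_valuationSubring_of_isIntegrallyClosedIn hxR
  exact hv2 (hx ⟨v, fun a => hv1 ⟨a, rfl⟩⟩)

end P12

section P2

variable (A : Type u) [CommRing A] [IsDomain A] [IsIntegrallyClosed A]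
  (K : Type u) [Field K] [Algebra A K] [IsFractionRing A K]

/-- product of valuation rings -/
abbrev VV : Type u := ∀ j : JJ A K, j.1
/-- product of fraction fields -/
abbrev LL : Type u := JJ A K → K

/-- `A → K × V` -/
noncomputable def ff : A →ₗ[A] (K × VV A K) :=
  (Algebra.linearMap A K).prod (Algebra.linearMap A (VV A K))

/-- `K → L` -/
noncomputable def constL : K →ₗ[A] LL A K := LinearMap.pi (fun _ => LinearMap.id)

/-- `V → L` -/
noncomputable def psiL : VV A K →ₗ[A] LL A K :=
  (IsScalarTower.toAlgHom A (VV A K) (LL A K)).toLinearMap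

/-- `K × V → L` -/
noncomputable def gg : (K × VV A K) →ₗ[A] LL A K :=
  (constL A K).comp (LinearMap.fst A K _) - (psiL A K).comp (LinearMap.snd A K _)

theorem gg_apply (k : K) (v : VV A K) (j : JJ A K) : gg A K (k, v) j = k - (v j : K) := rfl

theorem exact_ff_gg : Function.Exact (ff A K) (gg A K) := by
  intro y
  constructor
  · intro hy
    obtain ⟨k, v⟩ := y
    have h1 : ∀ j : JJ A K, k = (v j : K) := by
      intro j
      have := congr_fun hy j
      rw [gg_apply] at this
      exact sub_eq_zero.mp this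
    obtain ⟨a, ha⟩ := mem_range_of_forall_mem A K k (fun j => by rw [h1 j]; exact (v j).2)
    refine ⟨a, ?_⟩
    refine Prod.ext ha ?_
    funext j
    apply Subtype.ext
    show algebraMap A K a = (v j : K)
    rw [ha, h1 j]
  · rintro ⟨a, rfl⟩
    funext j
    show gg A K (algebraMap A K a, algebraMap A (VV A K) a) j = 0
    rw [gg_apply]
    exact sub_self _

end P2

section main

variable (A : Type u) [CommRing A] [IsDomain A] [IsIntegrallyClosed A]
  (K : Type u) [Field K] [Algebra A K] [IsFractionRing A K]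
  (B : Type u) [CommRing B] [Algebra A B] [Algebra.WeaklyEtale A B]

set_option maxHeartbeats 1000000 in
theorem main_right (x : K ⊗[A] B)
    (hx : (Algebra.TensorProduct.includeRight : B →ₐ[A] K ⊗[A] B).toRingHom.IsIntegralElem x) :
    ∃ b : B, (1 : K) ⊗ₜ[A] b = x := by
  obtain ⟨hVflat, hVloc⟩ :=
    Groth.Agent.S1968.result (fun j : JJ A K => (j.1 : Type u)) (fun _ => K)
  have hCval := valuation_local_of_weaklyEtale (VV A K) (VV A K ⊗[A] B) hVflat
  let ψ : VV A K →ₐ[A] LL A K := IsScalarTower.toAlgHom A (VV A K) (LL A K)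
  let ν : VV A K ⊗[A] B →ₐ[A] LL A K ⊗[A] B := Algebra.TensorProduct.map ψ (AlgHom.id A B)
  let κ : K ⊗[A] B →ₐ[A] LL A K ⊗[A] B :=
    Algebra.TensorProduct.map (Pi.constAlgHom A (JJ A K) K) (AlgHom.id A B)
  letI algCE : Algebra (VV A K ⊗[A] B) (LL A K ⊗[A] B) := ν.toRingHom.toAlgebra
  haveI : IsScalarTower (VV A K) (VV A K ⊗[A] B) (LL A K ⊗[A] B) :=
    IsScalarTower.of_algebraMap_eq (R := VV A K) (S := VV A K ⊗[A] B) (A := LL A K ⊗[A] B)
      (fun v => rfl)
  haveI : IsLocalization (Algebra.algebraMapSubmonoid (VV A K ⊗[A] B) (nonZeroDivisors (VV A K)))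
      (LL A K ⊗[A] B) :=
    IsLocalization.tensorProduct_tensorProduct A B (nonZeroDivisors (VV A K)) (LL A K) (by
      apply RingHom.ext
      intro b
      rfl)
  have hM : Algebra.algebraMapSubmonoid (VV A K ⊗[A] B) (nonZeroDivisors (VV A K)) ≤
      nonZeroDivisors (VV A K ⊗[A] B) := by
    exact algebraMapSubmonoid_le_of_flat (VV A K) (VV A K ⊗[A] B)
  -- integrality of `κ x` over `C`
  have hint : IsIntegral (VV A K ⊗[A] B) (κ x) := by
    obtain ⟨p, hp, hpx⟩ := hx
    refine ⟨p.map (Algebra.TensorProduct.includeRight : B →ₐ[A] VV A K ⊗[A] B).toRingHom,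
      hp.map _, ?_⟩
    rw [Polynomial.eval₂_map]
    have hcomp : (algebraMap (VV A K ⊗[A] B) (LL A K ⊗[A] B)).comp
        (Algebra.TensorProduct.includeRight : B →ₐ[A] VV A K ⊗[A] B).toRingHom =
        κ.toRingHom.comp (Algebra.TensorProduct.includeRight : B →ₐ[A] K ⊗[A] B).toRingHom := by
      apply RingHom.ext
      intro b
      rfl
    rw [hcomp]
    have h3 := Polynomial.hom_eval₂ p
      (Algebra.TensorProduct.includeRight : B →ₐ[A] K ⊗[A] B).toRingHom κ.toRingHom x
    rw [hpx, map_zero] at h3
    exact h3.symm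
  obtain ⟨c, hc⟩ := exists_of_isIntegral_of_valuation_local (VV A K ⊗[A] B) hCval _ hM
    (LL A K ⊗[A] B) (κ x) hint
  have hc' : ν c = κ x := hc
  -- the pullback square
  have hex := Module.Flat.rTensor_exact B (exact_ff_gg A K)
  let w : (K × VV A K) ⊗[A] B :=
    (LinearMap.inl A K (VV A K)).rTensor B x + (LinearMap.inr A K (VV A K)).rTensor B c
  have hκ : ∀ y : K ⊗[A] B, ((gg A K).comp (LinearMap.inl A K (VV A K))).rTensor B y = κ y := by
    intro y
    induction y using TensorProduct.induction_on with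
    | zero => simp
    | add y z hy hz => rw [map_add, map_add, hy, hz]
    | tmul k b =>
      show (gg A K (k, 0)) ⊗ₜ[A] b = (Pi.constAlgHom A (JJ A K) K k) ⊗ₜ[A] b
      congr 1
      funext j
      rw [gg_apply]
      show k - ((0 : j.1) : K) = k
      simp
  have hν : ∀ y : VV A K ⊗[A] B,
      ((gg A K).comp (LinearMap.inr A K (VV A K))).rTensor B y = - ν y := by
    intro y
    induction y using TensorProduct.induction_on with
    | zero => simp
    | add y z hy hz => rw [map_add, map_add, hy, hz, neg_add]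
    | tmul v b =>
      show (gg A K (0, v)) ⊗ₜ[A] b = - ((ψ v) ⊗ₜ[A] b)
      rw [← TensorProduct.neg_tmul]
      congr 1
      funext j
      rw [gg_apply]
      show (0 : K) - (v j : K) = - (v j : K)
      simp
  have hw : (gg A K).rTensor B w = 0 := by
    show (gg A K).rTensor B ((LinearMap.inl A K (VV A K)).rTensor B x +
      (LinearMap.inr A K (VV A K)).rTensor B c) = 0
    rw [map_add, ← LinearMap.comp_apply, ← LinearMap.comp_apply, ← LinearMap.rTensor_comp,
      ← LinearMap.rTensor_comp, hκ, hν, hc', add_neg_cancel]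
  obtain ⟨y, hy⟩ := (hex w).mp hw
  refine ⟨TensorProduct.lid A B y, ?_⟩
  have h1 : (LinearMap.fst A K (VV A K)).rTensor B w = x := by
    show (LinearMap.fst A K (VV A K)).rTensor B ((LinearMap.inl A K (VV A K)).rTensor B x +
      (LinearMap.inr A K (VV A K)).rTensor B c) = x
    rw [map_add, ← LinearMap.comp_apply, ← LinearMap.comp_apply, ← LinearMap.rTensor_comp,
      ← LinearMap.rTensor_comp, LinearMap.fst_comp_inl, LinearMap.fst_comp_inr,
      LinearMap.rTensor_id, LinearMap.rTensor_zero]
    simp
  rw [← h1, ← hy, ← LinearMap.comp_apply, ← LinearMap.rTensor_comp]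
  have h2 : (LinearMap.fst A K (VV A K)).comp (ff A K) = Algebra.linearMap A K := rfl
  rw [h2]
  obtain ⟨b, rfl⟩ := (TensorProduct.lid A B).symm.surjective y
  rw [LinearEquiv.apply_symm_apply]
  show (1 : K) ⊗ₜ[A] b = (Algebra.linearMap A K).rTensor B ((1 : A) ⊗ₜ[A] b)
  rw [LinearMap.rTensor_tmul, Algebra.linearMap_apply, map_one]

theorem main : IsIntegrallyClosedIn B (B ⊗[A] K) := by
  rw [isIntegrallyClosedIn_iff]
  refine ⟨?_, ?_⟩
  · have h1 : Function.Injective ((Algebra.linearMap A K).lTensor B) :=
      Module.Flat.lTensor_preserves_injective_linearMap _ (IsFractionRing.injective A K)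
    intro b b' hbb'
    have h2 : (Algebra.linearMap A K).lTensor B (b ⊗ₜ[A] (1 : A)) =
        (Algebra.linearMap A K).lTensor B (b' ⊗ₜ[A] (1 : A)) := by
      rw [LinearMap.lTensor_tmul, LinearMap.lTensor_tmul, Algebra.linearMap_apply, map_one]
      exact hbb'
    have h3 := congr(TensorProduct.rid A B $(h1 h2))
    simpa using h3
  · intro x hx
    have hx' : (Algebra.TensorProduct.includeRight : B →ₐ[A] K ⊗[A] B).toRingHom.IsIntegralElem
        (Algebra.TensorProduct.comm A B K x) := by
      obtain ⟨p, hp, hpx⟩ := hx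
      refine ⟨p, hp, ?_⟩
      have h3 := Polynomial.hom_eval₂ p (algebraMap B (B ⊗[A] K))
        (Algebra.TensorProduct.comm A B K).toAlgHom.toRingHom x
      rw [hpx, map_zero] at h3
      rw [h3]
      congr 1
    obtain ⟨b, hb⟩ := main_right A K B _ hx'
    refine ⟨b, ?_⟩
    apply (Algebra.TensorProduct.comm A B K).injective
    rw [← hb]
    rfl

end main

end Groth.Agent.Lib.R2LeadWEIntCl
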