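import Mathlib
import Groth.Prelude.Def_Pi1
import Groth.Agent.Lib.R2LeadWEIntCl
import Groth.Agent.Lib.Helper14WEField
import Groth.Agent.S1412

set_option autoImplicit false

open TensorProduct IsLocalRing

universe u

namespace Groth.Agent.Lib.R2LeadWENormal

section field

/-- a weakly étale algebra over a field is von Neumann regular -/
theorem exists_eq_sq_mul (K F : Type*) [Field K] [CommRing F] [Algebra K F]
    [Algebra.WeaklyEtale K F] (x : F) : ∃ y : F, x = x * x * y := by
  let 𝔞 : Ideal F := (Ideal.span {x}).annihilator ⊔ Ideal.span {x}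
  have htop : 𝔞 = ⊤ := by
    by_contra hne
    obtain ⟨m, hm, hle⟩ := Ideal.exists_le_maximal 𝔞 hne
    have hx : x ∈ m := hle (Ideal.mem_sup_right (Ideal.subset_span rfl))
    obtain ⟨b, hb, hbx⟩ := Groth.Agent.Lib.Helper14.WEField.exists_not_mem_mul_eq_zero K F m
      hm.ne_top hx
    apply hb
    apply hle
    apply Ideal.mem_sup_left
    rw [Submodule.mem_annihilator_span_singleton]
    exact hbx
  have h1 : (1 : F) ∈ 𝔞 := by rw [htop]; trivial
  obtain ⟨a, ha, z, hz, haz⟩ := Submodule.mem_sup.mp h1
  obtain ⟨y, rfl⟩ := Ideal.mem_span_singleton'.mp hz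
  rw [Submodule.mem_annihilator_span_singleton] at ha
  refine ⟨y, ?_⟩
  have ha' : a * x = 0 := ha
  calc x = (a + y * x) * x := by rw [haz, one_mul]
    _ = x * x * y := by rw [add_mul, ha', zero_add]; ring

/-- a nontrivial weakly étale algebra over a field with only trivial idempotents is a field -/
theorem isField_of_idempotents (K F : Type*) [Field K] [CommRing F] [Nontrivial F] [Algebra K F]
    [Algebra.WeaklyEtale K F] (h : ∀ e : F, e * e = e → e = 0 ∨ e = 1) : IsField F := by
  refine ⟨exists_pair_ne F, mul_comm, ?_⟩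
  intro x hx
  obtain ⟨y, hy⟩ := exists_eq_sq_mul K F x
  have he : (x * y) * (x * y) = x * y := by
    calc (x * y) * (x * y) = (x * x * y) * y := by ring
      _ = x * y := by rw [← hy]
  rcases h (x * y) he with h0 | h1
  · exfalso
    apply hx
    rw [hy, mul_assoc, h0, mul_zero]
  · exact ⟨y, h1⟩

end field

section ring

attribute [local instance] Algebra.TensorProduct.rightAlgebra in
theorem isDomain_and_isIntegrallyClosed (A : Type u) [CommRing A] [IsDomain A]
    [IsIntegrallyClosed A] (B : Type u) [CommRing B] [IsLocalRing B] [Algebra A B]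
    [Algebra.WeaklyEtale A B] : IsDomain B ∧ IsIntegrallyClosed B := by
  have hinj : Function.Injective
      (Algebra.TensorProduct.includeRight : B →ₐ[A] FractionRing A ⊗[A] B) := by
    have h1 : Function.Injective ((Algebra.linearMap A (FractionRing A)).rTensor B) :=
      Module.Flat.rTensor_preserves_injective_linearMap _
        (IsFractionRing.injective A (FractionRing A))
    intro b b' hbb'
    have h2 : (Algebra.linearMap A (FractionRing A)).rTensor B ((1 : A) ⊗ₜ[A] b) =
        (Algebra.linearMap A (FractionRing A)).rTensor B ((1 : A) ⊗ₜ[A] b') := by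
      rw [LinearMap.rTensor_tmul, LinearMap.rTensor_tmul, Algebra.linearMap_apply, map_one]
      exact hbb'
    have h3 := congr(TensorProduct.lid A B $(h1 h2))
    simpa using h3
  haveI : Nontrivial (FractionRing A ⊗[A] B) := hinj.nontrivial
  have hidem : ∀ e : FractionRing A ⊗[A] B, e * e = e → e = 0 ∨ e = 1 := by
    intro e he
    have hint : (Algebra.TensorProduct.includeRight :
        B →ₐ[A] FractionRing A ⊗[A] B).toRingHom.IsIntegralElem e := by
      refine ⟨Polynomial.X ^ 2 - Polynomial.X, Polynomial.monic_X_pow_sub (by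
        rw [Polynomial.degree_X]; norm_num), ?_⟩
      rw [Polynomial.eval₂_sub, Polynomial.eval₂_X_pow, Polynomial.eval₂_X, pow_two, he, sub_self]
    obtain ⟨b, hb⟩ := Groth.Agent.Lib.R2LeadWEIntCl.main_right A (FractionRing A) B e hint
    rcases IsLocalRing.isUnit_or_isUnit_one_sub_self b with hu | hu
    · right
      have hxu : IsUnit e := by
        rw [← hb]
        exact hu.map (Algebra.TensorProduct.includeRight : B →ₐ[A] FractionRing A ⊗[A] B)
      exact hxu.mul_left_cancel (by rw [he, mul_one])
    · left
      have hxu : IsUnit (1 - e) := by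
        rw [← hb]
        have := hu.map (Algebra.TensorProduct.includeRight : B →ₐ[A] FractionRing A ⊗[A] B)
        rwa [map_sub, map_one] at this
      have h1 : 1 - e = 1 := hxu.mul_left_cancel (by
        rw [mul_one]
        ring_nf
        rw [pow_two, he]
        ring)
      exact sub_eq_self.mp h1
  have hF : IsField (FractionRing A ⊗[A] B) := isField_of_idempotents (FractionRing A) _ hidem
  haveI : IsDomain (FractionRing A ⊗[A] B) := hF.isDomain
  haveI : IsDomain B :=
    hinj.isDomain (Algebra.TensorProduct.includeRight : B →ₐ[A] FractionRing A ⊗[A] B).toRingHom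
  refine ⟨inferInstance, ?_⟩
  haveI hloc : IsLocalization (Algebra.algebraMapSubmonoid B (nonZeroDivisors A))
      (FractionRing A ⊗[A] B) := inferInstance
  haveI : IsFractionRing B (FractionRing A ⊗[A] B) := by
    refine IsLocalization.of_le (M := Algebra.algebraMapSubmonoid B (nonZeroDivisors A))
      (nonZeroDivisors B) ?_ ?_
    · rintro _ ⟨a, ha, rfl⟩
      rw [mem_nonZeroDivisors_iff_ne_zero]
      intro h0
      have h1 : (Algebra.TensorProduct.includeRight : B →ₐ[A] FractionRing A ⊗[A] B)
          (algebraMap A B a) = 0 := by rw [h0, map_zero]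
      rw [AlgHom.commutes] at h1
      have h2 : IsUnit (algebraMap A (FractionRing A ⊗[A] B) a) := by
        rw [IsScalarTower.algebraMap_apply A (FractionRing A) (FractionRing A ⊗[A] B)]
        exact (IsLocalization.map_units (FractionRing A) ⟨a, ha⟩).map _
      rw [h1] at h2
      exact not_isUnit_zero h2
    · intro r hr
      have hr0 : r ≠ 0 := nonZeroDivisors.ne_zero hr
      have h1 : (Algebra.TensorProduct.includeRight : B →ₐ[A] FractionRing A ⊗[A] B) r ≠ 0 :=
        fun h => hr0 (hinj (by rw [h, map_zero]))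
      obtain ⟨y, hy⟩ := hF.mul_inv_cancel h1
      exact isUnit_iff_exists_inv.mpr ⟨y, hy⟩
  rw [isIntegrallyClosed_iff (FractionRing A ⊗[A] B)]
  intro x hx
  obtain ⟨b, hb⟩ := Groth.Agent.Lib.R2LeadWEIntCl.main_right A (FractionRing A) B x hx
  exact ⟨b, hb⟩

end ring

section scheme

open AlgebraicGeometry CategoryTheory Limits FlatMor

theorem main {X Y : Scheme.{u}} (f : X ⟶ Y) [WeaklyEtale f] (hY : Pi1.IsNormalScheme Y) :
    Pi1.IsNormalScheme X := by
  intro x
  obtain ⟨hflat, hdiag⟩ := (Groth.Agent.S1412.result f).mp inferInstance x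
  obtain ⟨hdom, hic⟩ := hY (f x)
  letI := (f.stalkMap x).hom.toAlgebra
  haveI : Algebra.WeaklyEtale (Y.presheaf.stalk (f x)) (X.presheaf.stalk x) := ⟨hflat, hdiag⟩
  exact isDomain_and_isIntegrallyClosed (Y.presheaf.stalk (f x)) (X.presheaf.stalk x)

end scheme

end Groth.Agent.Lib.R2LeadWENormal
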