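/-
helper9: aligned pointed schemes under étale maps over a normal locally Noetherian base (S13424).
-/
import Mathlib
import Groth.Prelude.Def_Pi1
import Groth.Agent.Lib.R2LeadWENormal
import Groth.Agent.Lib.Helper14LocNoeth
import Groth.Agent.Lib.Helper4EtNormalSch

set_option autoImplicit false
set_option linter.style.haveILetI false
universe u
open CategoryTheory CategoryTheory.Limits AlgebraicGeometry TopologicalSpace

namespace Groth.Agent.Lib.H9AlignedEt

/-- If all irreducible components of a space are open, the closure of an open set is open. -/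
theorem isOpen_closure_of_isOpen_irreducibleComponents {X : Type*} [TopologicalSpace X]
    (h : ∀ Z ∈ irreducibleComponents X, IsOpen Z) {U : Set X} (hU : IsOpen U) :
    IsOpen (closure U) := by
  rw [isOpen_iff_mem_nhds]
  intro x hx
  have hZ := irreducibleComponent_mem_irreducibleComponents x
  have hZo := h _ hZ
  have hxZ : x ∈ irreducibleComponent x := mem_irreducibleComponent
  refine Filter.mem_of_superset (hZo.mem_nhds hxZ) ?_
  -- `Z ∩ U` is nonempty
  obtain ⟨y, hyZ, hyU⟩ : (irreducibleComponent x ∩ U).Nonempty :=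
    mem_closure_iff.mp hx _ hZo hxZ |>.mono (by intro y hy; exact ⟨hy.1, hy.2⟩)
  intro z hz
  rw [mem_closure_iff]
  intro V hV hzV
  have hirr : IsPreirreducible (irreducibleComponent x) := hZ.1.isPreirreducible
  obtain ⟨w, -, hwV, hwU⟩ := hirr V U hV hU ⟨z, hz, hzV⟩ ⟨y, hyZ, hyU⟩
  exact ⟨w, hwV, hwU⟩

/-- On a locally Noetherian scheme all of whose local rings are domains, irreducible components
are open. -/
theorem isOpen_of_mem_irreducibleComponents {W : Scheme.{u}} [IsLocallyNoetherian W]
    (hW : ∀ w : W, IsDomain (W.presheaf.stalk w)) {Z : Set W}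
    (hZ : Z ∈ irreducibleComponents W) : IsOpen Z := by
  have hloc : ∀ x : W, ∃ U ∈ nhds x, NoetherianSpace U := by
    intro x
    obtain ⟨_, ⟨V, hV, rfl⟩, hxV, -⟩ := W.isBasis_affineOpens.exists_subset_of_mem_open
      (Set.mem_univ x) isOpen_univ
    haveI : IsNoetherianRing Γ(W, V) := IsLocallyNoetherian.component_noetherian ⟨V, hV⟩
    exact ⟨(V : Set W), V.2.mem_nhds hxV, noetherianSpace_of_isAffineOpen V hV⟩
  refine Groth.Agent.Lib.Helper14.isOpen_of_mem_irreducibleComponents_of_pairwiseDisjoint W hloc
    ?_ hZ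
  intro Z₁ h₁ Z₂ h₂ hne
  rw [Function.onFun, Set.disjoint_iff]
  rintro t ⟨ht₁, ht₂⟩
  haveI := hW t
  exact hne (Groth.Agent.Lib.Helper4.EtNormalSch.irreducibleComponents_eq_of_mem t h₁ h₂ ht₁ ht₂)

/-- A dominant morphism into a reduced scheme is injective on sections. -/
theorem app_injective_of_dense {U X : Scheme.{u}} [IsReduced X] (j : U ⟶ X)
    (hj : DenseRange j) (V : X.Opens) : Function.Injective (j.app V).hom := by
  rw [injective_iff_map_eq_zero]
  intro t ht
  rw [← AlgebraicGeometry.basicOpen_eq_bot_iff]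
  by_contra hne
  obtain ⟨x, hx⟩ : ((X.basicOpen t : X.Opens) : Set X).Nonempty := by
    rw [Set.nonempty_iff_ne_empty]
    intro he
    exact hne (Opens.ext he)
  obtain ⟨_, hy, ⟨y, rfl⟩⟩ := hj.inter_open_nonempty _ (X.basicOpen t).2 ⟨x, hx⟩
  have : y ∈ j ⁻¹ᵁ X.basicOpen t := hy
  rw [Scheme.preimage_basicOpen, ht] at this
  simp at this

/-- Precomposing with a dominant morphism into a reduced scheme does not change the kernel. -/
theorem ker_comp_of_dense {U X Y : Scheme.{u}} [IsReduced X] (j : U ⟶ X) (hj : DenseRange j)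
    (c : X ⟶ Y) : (j ≫ c).ker = c.ker := by
  unfold Scheme.Hom.ker
  congr 1
  funext V
  ext x
  simp only [RingHom.mem_ker]
  have : ((j ≫ c).app V).hom x = (j.app (c ⁻¹ᵁ V)).hom ((c.app V).hom x) := by
    rw [Scheme.Hom.comp_app]; rfl
  rw [this]
  constructor
  · intro h
    exact (app_injective_of_dense j hj _) (h.trans (map_zero _).symm)
  · intro h
    rw [h]
    exact map_zero _

/-- Main: étale maps of pointed schemes over a normal locally Noetherian base preserve
alignedness. -/
theorem main {S : Scheme.{u}} [IsLocallyNoetherian S] (hS : Pi1.IsNormalScheme S)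
    {G H : Scheme.{u}} (p : G ⟶ S) (q : H ⟶ S)
    (eG : S ⟶ G) (eH : S ⟶ H) (heG : eG ≫ p = 𝟙 S)
    (f : G ⟶ H) [Etale f] (hf : f ≫ q = p) (hfe : eG ≫ f = eH)
    (hH : Etale (eH.ker.subschemeι ≫ q)) :
    Etale (eG.ker.subschemeι ≫ p) := by
  -- the preimage `W` of the image of `eH`
  let jW : pullback f eH.ker.subschemeι ⟶ G := pullback.fst f eH.ker.subschemeι
  let g : pullback f eH.ker.subschemeι ⟶ S := jW ≫ p
  have hg : g = pullback.snd f eH.ker.subschemeι ≫ (eH.ker.subschemeι ≫ q) := by
    simp only [g, jW]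
    rw [← hf, ← Category.assoc, pullback.condition, Category.assoc]
  haveI : Etale g := by rw [hg]; infer_instance
  -- the section
  let s : S ⟶ pullback f eH.ker.subschemeι :=
    pullback.lift eG eH.toImage (by rw [hfe, Scheme.Hom.toImage_imageι])
  have hsj : s ≫ jW = eG := pullback.lift_fst _ _ _
  have hsg : s ≫ g = 𝟙 S := by simp only [g]; rw [← Category.assoc, hsj, heG]
  haveI : IsOpenImmersion s := by
    haveI : Etale (s ≫ g) := by rw [hsg]; infer_instance
    haveI : Etale s := Etale.of_comp s g
    haveI : Mono s := mono_of_mono_fac hsg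
    exact IsOpenImmersion.of_flat_of_mono s
  -- `W` is normal and locally Noetherian
  have hWn : Pi1.IsNormalScheme (pullback f eH.ker.subschemeι) :=
    Groth.Agent.Lib.R2LeadWENormal.main g hS
  haveI : IsLocallyNoetherian (pullback f eH.ker.subschemeι) :=
    LocallyOfFiniteType.isLocallyNoetherian g
  haveI : IsReduced (pullback f eH.ker.subschemeι) := by
    haveI : ∀ w : ↥(pullback f eH.ker.subschemeι),
        _root_.IsReduced ((pullback f eH.ker.subschemeι).presheaf.stalk w) := by
      intro w
      haveI := (hWn w).1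
      infer_instance
    exact isReduced_of_isReduced_stalk _
  -- the clopen `Ω`
  have hΩo : IsOpen (closure (Set.range s)) :=
    isOpen_closure_of_isOpen_irreducibleComponents
      (fun Z hZ => isOpen_of_mem_irreducibleComponents (fun w => (hWn w).1) hZ)
      s.isOpenEmbedding.isOpen_range
  let Ω : (pullback f eH.ker.subschemeι).Opens := ⟨closure (Set.range s), hΩo⟩
  haveI : IsClosedImmersion Ω.ι := by
    apply IsClosedImmersion.of_isPreimmersion
    rw [Scheme.Opens.range_ι]
    exact isClosed_closure
  let c : (Ω : Scheme.{u}) ⟶ G := Ω.ι ≫ jW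
  haveI : IsClosedImmersion c := by simp only [c, jW]; infer_instance
  have hcp : c ≫ p = Ω.ι ≫ g := by simp only [c, g, Category.assoc]
  haveI : Etale (c ≫ p) := by rw [hcp]; infer_instance
  have hsΩ : Set.range s ⊆ Set.range Ω.ι := by
    rw [Scheme.Opens.range_ι]
    exact subset_closure
  let s' : S ⟶ (Ω : Scheme.{u}) := IsOpenImmersion.lift Ω.ι s hsΩ
  have hs' : s' ≫ Ω.ι = s := IsOpenImmersion.lift_fac _ _ _
  have hs'c : s' ≫ c = eG := by simp only [c]; rw [← Category.assoc, hs', hsj]
  have hdense : DenseRange s' := by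
    rw [DenseRange, dense_iff_closure_eq,
      Ω.ι.isOpenEmbedding.isInducing.closure_eq_preimage_closure_image]
    have him : Ω.ι '' Set.range s' = Set.range s := by
      rw [← Set.range_comp]
      have : (⇑Ω.ι ∘ ⇑s') = ⇑s := by
        funext y
        rw [Function.comp_apply, ← Scheme.Hom.comp_apply, hs']
      rw [this]
    rw [him]
    ext ω
    simp only [Set.mem_preimage, Set.mem_univ, iff_true]
    have : Ω.ι ω ∈ Set.range Ω.ι := ⟨ω, rfl⟩
    rw [Scheme.Opens.range_ι] at this
    exact this
  have hker : c.ker = eG.ker.subschemeι.ker := by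
    rw [Scheme.IdealSheafData.ker_subschemeι, ← hs'c]
    exact (ker_comp_of_dense s' hdense c).symm
  haveI := IsClosedImmersion.isIso_lift c eG.ker.subschemeι hker
  have hfac : IsClosedImmersion.lift c eG.ker.subschemeι hker.le ≫ c = eG.ker.subschemeι :=
    IsClosedImmersion.lift_fac _ _ _
  rw [← hfac, Category.assoc]
  infer_instance

end Groth.Agent.Lib.H9AlignedEt
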