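/-
helper9: an aligned smooth group scheme, separated over a dense open, mapping by a monomorphism to
a scheme with the weak Néron mapping property, is separated (S13426).
-/
import Mathlib
import Groth.Agent.Lib.Helper8Grp

set_option autoImplicit false
set_option linter.style.haveILetI false
universe u
open CategoryTheory CategoryTheory.Limits MonoidalCategory CartesianMonoidalCategory MonObj GrpObj
  AlgebraicGeometry

namespace Groth.Agent.Lib.H9AlignedSep

/-- The canonical map to the scheme theoretic image is scheme-theoretically dominant. -/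
theorem ker_toImage_eq_bot {X Y : Scheme.{u}} (f : X ⟶ Y) [QuasiCompact f] :
    f.toImage.ker = ⊥ := by
  refine Scheme.IdealSheafData.ext_of_iSup_eq_top
    (fun V : Y.affineOpens => ⟨f.imageι ⁻¹ᵁ V.1, V.2.preimage f.imageι⟩) ?_ ?_
  · change ⨆ V : Y.affineOpens, f.imageι ⁻¹ᵁ V.1 = ⊤
    rw [← Scheme.Hom.preimage_iSup, iSup_affineOpens_eq_top, Scheme.Hom.preimage_top]
  · intro V
    rw [Scheme.Hom.ker_apply, Scheme.IdealSheafData.ideal_bot, Pi.bot_apply,
      ← RingHom.injective_iff_ker_eq_bot]
    exact f.toImage_app_injective V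

/-- two morphisms to a separated `Z`-scheme which agree on a scheme-theoretically dense source
agree. -/
theorem ext_of_ker_eq_bot {W X Y Z : Scheme.{u}} {f g : X ⟶ Y}
    (s : Y ⟶ Z) [IsSeparated s] (h : f ≫ s = g ≫ s)
    (k : W ⟶ X) (hk : k.ker = ⊥) (hU : k ≫ f = k ≫ g) : f = g := by
  let X' : Over Z := Over.mk (f ≫ s)
  let Y' : Over Z := Over.mk s
  let U' : Over Z := Over.mk (k ≫ f ≫ s)
  let f' : X' ⟶ Y' := Over.homMk f
  let g' : X' ⟶ Y' := Over.homMk g (by simpa [X', Y'] using h.symm)
  let k' : U' ⟶ X' := Over.homMk k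
  have : IsSeparated Y'.hom := ‹_›
  have hlift : k' ≫ f' = k' ≫ g' := by ext1; exact hU
  have hfac : (equalizer.lift k' hlift).left ≫ (equalizer.ι f' g').left = k := by
    rw [← Over.comp_left, equalizer.lift_ι]; rfl
  have hker : (equalizer.ι f' g').left.ker = ⊥ := by
    have h1 := Scheme.Hom.le_ker_comp (equalizer.lift k' hlift).left (equalizer.ι f' g').left
    rw [hfac, hk] at h1
    exact le_bot_iff.mp h1
  have : IsIso (equalizer.ι f' g').left := IsClosedImmersion.isIso_iff_ker_eq_bot.mpr hker
  rw [← cancel_epi (equalizer.ι f' g').left]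
  exact congr($(equalizer.condition f' g').left)

/-- Scheme-level core: let `e` be a section of `h : H ⟶ S` (with `H` locally Noetherian) whose
scheme-theoretic image is étale over `S`, and assume `H` is separated over the open `S₀`.  If the
two maps `image e ⟶ H` (the inclusion, and the projection to `S` followed by `e`) can be
distinguished only over `S₀`, then `e` is a closed immersion. -/
theorem isClosedImmersion_section {S H : Scheme.{u}} (S₀ : S.Opens) (h : H ⟶ S)
    [IsLocallyNoetherian H] (e : S ⟶ H) (he : e ≫ h = 𝟙 S)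
    (h0 : IsSeparated (pullback.snd h S₀.ι))
    (hinj : pullback.fst (e.ker.subschemeι ≫ h) S₀.ι ≫ e.ker.subschemeι =
      pullback.fst (e.ker.subschemeι ≫ h) S₀.ι ≫ (e.ker.subschemeι ≫ h) ≫ e →
      e.ker.subschemeι = (e.ker.subschemeι ≫ h) ≫ e) :
    IsClosedImmersion e := by
  haveI : IsImmersion e := by
    haveI : IsImmersion (e ≫ h) := he ▸ inferInstance
    exact IsImmersion.of_comp e h
  haveI : QuasiCompact e := by
    rw [← e.liftCoborder_ι]
    infer_instance
  have he' : e.toImage ≫ e.ker.subschemeι = e := e.toImage_imageι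
  have he'p : e.toImage ≫ (e.ker.subschemeι ≫ h) = 𝟙 S := by
    rw [← Category.assoc, he', he]
  -- agreement over `S₀`
  have hagree : pullback.fst (e.ker.subschemeι ≫ h) S₀.ι ≫ e.ker.subschemeι =
      pullback.fst (e.ker.subschemeι ≫ h) S₀.ι ≫ (e.ker.subschemeι ≫ h) ≫ e := by
    -- the two maps to `H`
    set jE := pullback.fst (e.ker.subschemeι ≫ h) S₀.ι with hjE
    set a := jE ≫ e.ker.subschemeι with ha
    set b := jE ≫ (e.ker.subschemeι ≫ h) ≫ e with hb
    have hah : a ≫ h = pullback.snd (e.ker.subschemeι ≫ h) S₀.ι ≫ S₀.ι := by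
      rw [ha, Category.assoc, hjE, pullback.condition]
    have hbh : b ≫ h = pullback.snd (e.ker.subschemeι ≫ h) S₀.ι ≫ S₀.ι := by
      rw [hb, Category.assoc, Category.assoc, he, Category.comp_id, hjE, pullback.condition]
    -- lifts to the pullback
    let a' : pullback (e.ker.subschemeι ≫ h) S₀.ι ⟶ pullback h S₀.ι :=
      pullback.lift a (pullback.snd (e.ker.subschemeι ≫ h) S₀.ι) hah
    let b' : pullback (e.ker.subschemeι ≫ h) S₀.ι ⟶ pullback h S₀.ι :=
      pullback.lift b (pullback.snd (e.ker.subschemeι ≫ h) S₀.ι) hbh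
    have hsnd : a' ≫ pullback.snd h S₀.ι = b' ≫ pullback.snd h S₀.ι := by
      rw [pullback.lift_snd, pullback.lift_snd]
    -- the dominant map
    haveI : IsSchemeTheoreticallyDominant e.toImage := ⟨ker_toImage_eq_bot e⟩
    have hdom : (pullback.snd e.toImage jE).ker = ⊥ :=
      IsSchemeTheoreticallyDominant.ker_eq_bot (pullback.snd e.toImage jE)
    have h1 : pullback.snd e.toImage jE ≫ a = pullback.fst e.toImage jE ≫ e := by
      rw [ha, ← Category.assoc, ← pullback.condition, Category.assoc, he']
    have h2 : pullback.snd e.toImage jE ≫ b = pullback.fst e.toImage jE ≫ e := by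
      rw [hb, ← Category.assoc, ← pullback.condition]
      simp only [Category.assoc]
      rw [reassoc_of% he', reassoc_of% he]
    have hι : pullback.snd e.toImage jE ≫ a' = pullback.snd e.toImage jE ≫ b' := by
      apply pullback.hom_ext
      · rw [Category.assoc, Category.assoc, pullback.lift_fst, pullback.lift_fst, h1, h2]
      · rw [Category.assoc, Category.assoc, pullback.lift_snd, pullback.lift_snd]
    have hab' : a' = b' := ext_of_ker_eq_bot (pullback.snd h S₀.ι) hsnd _ hdom hι
    have := congrArg (fun t => t ≫ pullback.fst h S₀.ι) hab'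
    simpa only [a', b', pullback.lift_fst] using this
  have key := hinj hagree
  have hinv : (e.ker.subschemeι ≫ h) ≫ e.toImage = 𝟙 _ := by
    rw [← cancel_mono e.ker.subschemeι, Category.assoc, he', Category.id_comp]
    exact key.symm
  haveI : IsIso e.toImage := ⟨_, he'p, hinv⟩
  rw [← he']
  infer_instance

/-- Main theorem (S13426). -/
theorem main {S : Scheme.{u}} [IsLocallyNoetherian S] (S₀ : S.Opens)
    (G : Over S)
    (hG : ∀ U : Over S, Etale U.hom →
      Function.Injective (fun g : U ⟶ G => (Over.pullback S₀.ι).map g))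
    (H : Over S) [GrpObj H] [Smooth H.hom] (j : H ⟶ G) [Mono j.left]
    (hal : Etale (η[H].left.ker.subschemeι ≫ H.hom))
    (h0 : IsSeparated (pullback.snd H.hom S₀.ι)) :
    IsSeparated H.hom := by
  haveI : IsLocallyNoetherian H.left := LocallyOfFiniteType.isLocallyNoetherian H.hom
  have he : η[H].left ≫ H.hom = 𝟙 S := by
    have := Over.w η[H]
    simpa using this
  haveI : IsClosedImmersion η[H].left := by
    refine isClosedImmersion_section S₀ H.hom η[H].left he h0 ?_
    intro hagree
    let EO : Over S := Over.mk (η[H].left.ker.subschemeι ≫ H.hom)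
    let α : EO ⟶ G := Over.homMk (η[H].left.ker.subschemeι ≫ j.left) (by
      simp only [EO, Over.mk_hom, Category.assoc, Over.w j])
    let β : EO ⟶ G := Over.homMk ((η[H].left.ker.subschemeι ≫ H.hom) ≫ η[H].left ≫ j.left) (by
      simp only [EO, Over.mk_hom, Category.assoc, Over.w j]
      rw [he, Category.comp_id])
    have hαβ : α = β := by
      apply hG EO hal
      apply Over.OverMorphism.ext
      apply pullback.hom_ext
      · simp only [Over.pullback, Over.homMk_left]
        erw [pullback.lift_fst, pullback.lift_fst]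
        simp only [α, β, Over.homMk_left]
        have hagree' : pullback.fst EO.hom S₀.ι ≫ η[H].left.ker.subschemeι =
            pullback.fst EO.hom S₀.ι ≫ (η[H].left.ker.subschemeι ≫ H.hom) ≫ η[H].left := hagree
        rw [reassoc_of% hagree']
        simp only [Category.assoc]
      · simp only [Over.pullback, Over.homMk_left]
        erw [pullback.lift_snd, pullback.lift_snd]
    have h1 := congrArg (fun t => t.left) hαβ
    simp only [α, β, Over.homMk_left] at h1
    rw [← cancel_mono j.left, h1]
    simp only [Category.assoc]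
  exact Groth.Agent.Lib.Helper8.isSeparated_of_isClosedImmersion_one H

end Groth.Agent.Lib.H9AlignedSep
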