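import Mathlib
import Groth.Prelude.Def_AlgGrp
import Groth.Prelude.Def_Red
import Groth.Agent.Lib.Helper11AntiAffine
import Groth.Agent.S18069

set_option autoImplicit false
set_option linter.style.haveILetI false
universe u
open CategoryTheory MonoidalCategory CartesianMonoidalCategory MonObj GrpObj AlgebraicGeometry
  CategoryTheory.Limits

namespace Groth.Agent.Lib.H9AntiExt

/-- an epimorphism of schemes is injective on global sections -/
theorem appTop_injective_of_epi {X Y : Scheme.{u}} (f : X ⟶ Y) [Epi f] :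
    Function.Injective f.appTop.hom := by
  haveI := Functor.preservesEpimorphisms_of_adjunction ΓSpec.adjunction
  haveI : Epi (Scheme.Γ.rightOp.map f) := inferInstance
  haveI : Mono (Scheme.Γ.rightOp.map f).unop := inferInstance
  have hm : Mono f.appTop := by
    have : (Scheme.Γ.rightOp.map f).unop = f.appTop := rfl
    rwa [this] at *
  exact (ConcreteCategory.mono_iff_injective_of_preservesPullback f.appTop).mp hm

variable {k : Type u} [Field k]

/-- `k → O(X)` is bijective as soon as the affinization map factors through the structure map and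
`X` has a rational point. -/
theorem bijective_of_factor (X : Over (Spec (CommRingCat.of k)))
    (e : 𝟙_ (Over (Spec (CommRingCat.of k))) ⟶ X)
    (c : Spec (CommRingCat.of k) ⟶ Spec Γ(X.left, ⊤)) (hc : X.left.toSpecΓ = X.hom ≫ c) :
    Function.Bijective ((Scheme.ΓSpecIso (CommRingCat.of k)).inv ≫ X.hom.appTop).hom := by
  have he : e.left ≫ X.hom = 𝟙 _ := Over.w e
  have h1 : X.hom.appTop ≫ e.left.appTop = 𝟙 _ := by
    rw [← Scheme.Hom.comp_appTop, he]; rfl
  have hinj : Function.Injective X.hom.appTop.hom := by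
    intro a b hab
    have := congrArg e.left.appTop.hom hab
    rw [← CommRingCat.comp_apply, ← CommRingCat.comp_apply, h1] at this
    exact this
  have h2 : c.appTop ≫ X.hom.appTop = (Scheme.ΓSpecIso Γ(X.left, ⊤)).hom := by
    rw [← Scheme.Hom.comp_appTop, ← hc, Scheme.toSpecΓ_appTop]
  have hsurj : Function.Surjective X.hom.appTop.hom := by
    intro y
    obtain ⟨w, hw⟩ := (ConcreteCategory.bijective_of_isIso
      (Scheme.ΓSpecIso Γ(X.left, ⊤)).hom).2 y
    refine ⟨c.appTop.hom w, ?_⟩
    rw [← CommRingCat.comp_apply, h2]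
    exact hw
  rw [CommRingCat.hom_comp, RingHom.coe_comp]
  exact Function.Bijective.comp (⟨hinj, hsurj⟩ : Function.Bijective X.hom.appTop.hom)
    (ConcreteCategory.bijective_of_isIso (Scheme.ΓSpecIso (CommRingCat.of k)).inv)

open Groth.Agent.Lib.Helper11AntiAffine in
theorem main18070 (k : Type u) [Field k]
    (G₁ G G₂ : Over (Spec (CommRingCat.of k))) [GrpObj G₁] [LocallyOfFiniteType G₁.hom]
    [QuasiCompact G₁.hom] [ConnectedSpace ↥G₁.left]
    [GrpObj G] [LocallyOfFiniteType G.hom] [QuasiCompact G.hom]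
    [GrpObj G₂] [LocallyOfFiniteType G₂.hom] [QuasiCompact G₂.hom] [ConnectedSpace ↥G₂.left]
    (i : G₁ ⟶ G) [IsMonHom i] [IsClosedImmersion i.left] (q : G ⟶ G₂) [IsMonHom q]
    [Surjective q.left] [Flat q.left]
    (hex : AlgGrp.IsKernel i q) :
    (Function.Bijective ((Scheme.ΓSpecIso (CommRingCat.of k)).inv ≫ G.hom.appTop).hom →
      Function.Bijective ((Scheme.ΓSpecIso (CommRingCat.of k)).inv ≫ G₂.hom.appTop).hom) ∧
    (Function.Bijective ((Scheme.ΓSpecIso (CommRingCat.of k)).inv ≫ G₁.hom.appTop).hom →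
      Function.Bijective ((Scheme.ΓSpecIso (CommRingCat.of k)).inv ≫ G₂.hom.appTop).hom →
      Function.Bijective ((Scheme.ΓSpecIso (CommRingCat.of k)).inv ≫ G.hom.appTop).hom) := by
  have hn1 : IsLocallyNoetherian G₁.left := LocallyOfFiniteType.isLocallyNoetherian G₁.hom
  have hn : IsLocallyNoetherian G.left := LocallyOfFiniteType.isLocallyNoetherian G.hom
  have hn2 : IsLocallyNoetherian G₂.left := LocallyOfFiniteType.isLocallyNoetherian G₂.hom
  haveI : QuasiCompact (q.left ≫ G₂.hom) := by rw [Over.w]; infer_instance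
  haveI : QuasiCompact q.left := QuasiCompact.of_comp q.left G₂.hom
  haveI : EffectiveEpi q.left := inferInstance
  constructor
  · intro hG
    have hinj := appTop_injective_of_epi q.left
    have h4 : (Scheme.ΓSpecIso (CommRingCat.of k)).inv ≫ G.hom.appTop =
        ((Scheme.ΓSpecIso (CommRingCat.of k)).inv ≫ G₂.hom.appTop) ≫ q.left.appTop := by
      rw [Category.assoc, ← Scheme.Hom.comp_appTop, Over.w]
    rw [h4, CommRingCat.hom_comp, RingHom.coe_comp] at hG
    refine ⟨?_, ?_⟩
    · exact Function.Injective.of_comp hG.1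
    · intro y
      obtain ⟨c, hc⟩ := hG.2 (q.left.appTop.hom y)
      exact ⟨c, hinj hc⟩
  · intro hG₁ hG₂
    -- the affinization map
    set φ := G.left.toSpecΓ with hφ
    let m' : G₁ ⊗ G ⟶ G := (i ▷ G) ≫ μ[G]
    let s : G ⟶ G₁ ⊗ G := lift (toUnit G ≫ η[G₁]) (𝟙 G)
    have hs1 : s ≫ snd G₁ G = 𝟙 G := lift_snd _ _
    have hs2 : s ≫ m' = 𝟙 G := by
      have h1 : s ≫ (i ▷ G) = lift (toUnit G ≫ η[G]) (𝟙 G) := by
        apply CartesianMonoidalCategory.hom_ext
        · rw [Category.assoc, whiskerRight_fst, lift_fst_assoc, lift_fst, Category.assoc,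
            IsMonHom.one_hom]
        · rw [Category.assoc, whiskerRight_snd, lift_snd, lift_snd]
      change s ≫ (i ▷ G) ≫ μ[G] = 𝟙 G
      rw [reassoc_of% h1]
      exact lift_comp_one_left _ _
    -- Künneth
    have hK := Groth.Agent.S18069.appTop_snd_bijective' G₁ G hG₁
    have hsinj : Function.Injective s.left.appTop.hom := by
      have h1 : (snd G₁ G).left.appTop ≫ s.left.appTop = 𝟙 _ := by
        rw [← Scheme.Hom.comp_appTop, ← Over.comp_left, hs1]; rfl
      intro a b hab
      obtain ⟨a', rfl⟩ := hK.2 a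
      obtain ⟨b', rfl⟩ := hK.2 b
      rw [← CommRingCat.comp_apply, ← CommRingCat.comp_apply, h1] at hab
      exact congrArg _ hab
    have hinv : m'.left ≫ φ = (snd G₁ G).left ≫ φ := by
      have h3 : s.left ≫ m'.left ≫ φ = s.left ≫ (snd G₁ G).left ≫ φ := by
        rw [← Category.assoc, ← Category.assoc, ← Over.comp_left, ← Over.comp_left, hs1, hs2]
      apply ext_of_isAffine
      ext x
      apply hsinj
      have := congr(($h3).appTop.hom x)
      rw [Scheme.Hom.comp_appTop, Scheme.Hom.comp_appTop] at this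
      exact this
    -- descent along q
    have hdesc : ∀ {Z : Scheme.{u}} (g₁ g₂ : Z ⟶ G.left), g₁ ≫ q.left = g₂ ≫ q.left →
        g₁ ≫ φ = g₂ ≫ φ := by
      intro Z g₁ g₂ h
      let T : Over (Spec (CommRingCat.of k)) := Over.mk (g₁ ≫ G.hom)
      let t₁ : T ⟶ G := Over.homMk g₁ rfl
      let t₂ : T ⟶ G := Over.homMk g₂ (by
        change g₂ ≫ G.hom = g₁ ≫ G.hom
        rw [← Over.w q, reassoc_of% h.symm])
      have ht : t₁ ≫ q = t₂ ≫ q := by
        ext1
        exact h
      have hd : (t₁ * t₂⁻¹) ≫ q = toUnit T ≫ η[G₂] := by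
        rw [MonObj.mul_comp, GrpObj.inv_comp, ht, mul_inv_cancel]
        rfl
      let h' : T ⟶ G₁ := hex.lift (t₁ * t₂⁻¹) (toUnit T) hd
      have hh' : h' ≫ i = t₁ * t₂⁻¹ := hex.lift_fst _ _ _
      have ht₁ : t₁ = lift h' t₂ ≫ m' := by
        change t₁ = lift h' t₂ ≫ (i ▷ G) ≫ μ[G]
        have : lift h' t₂ ≫ (i ▷ G) = lift (h' ≫ i) t₂ := by
          apply CartesianMonoidalCategory.hom_ext
          · rw [Category.assoc, whiskerRight_fst, lift_fst_assoc, lift_fst]
          · rw [Category.assoc, whiskerRight_snd, lift_snd, lift_snd]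
        rw [reassoc_of% this, ← Hom.mul_def, hh', inv_mul_cancel_right]
      have e1 : g₁ = (lift h' t₂).left ≫ m'.left := congr(($ht₁).left)
      have e2 : g₂ = (lift h' t₂).left ≫ (snd G₁ G).left := by
        rw [← Over.comp_left, lift_snd]
        rfl
      rw [e1, Category.assoc, hinv, ← Category.assoc, ← e2]
    let ψ : G₂.left ⟶ Spec Γ(G.left, ⊤) := EffectiveEpi.desc q.left φ hdesc
    have hψ : q.left ≫ ψ = φ := EffectiveEpi.fac q.left φ hdesc
    obtain ⟨c, hc⟩ := exists_const_of_bijective k G₂ hG₂ ψ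
    refine bijective_of_factor G η[G] c ?_
    rw [← hφ, ← hψ, hc, ← Category.assoc, Over.w]

end Groth.Agent.Lib.H9AntiExt
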