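import Mathlib
import Groth.Prelude.Def_EtGm
import Groth.Prelude.Def_W4c5etcohweilstudentAS
import Groth.Agent.Lib.Helper16SmallEtale

set_option autoImplicit false
set_option linter.style.haveILetI false
universe u
open CategoryTheory CategoryTheory.Limits AlgebraicGeometry Opposite Polynomial

namespace Groth.Agent.Lib.H9AS

/-- the standard étale pair `(X ^ p - X - a, 1)` in characteristic `p`. -/
noncomputable def asPair {R : Type u} [CommRing R] (a : R) (p : ℕ) (hp : p.Prime)
    (h0 : (p : R) = 0) : StandardEtalePair R where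
  f := X ^ p - X - C a
  monic_f := by
    have : (X : R[X]) ^ p - X - C a = X ^ p - (X + C a) := by ring
    rw [this]
    nontriviality R
    exact monic_X_pow_sub (by rw [degree_X_add_C]; exact_mod_cast hp.one_lt)
  g := 1
  cond := ⟨-1, 0, 1, by
    rw [derivative_sub, derivative_sub, derivative_X_pow, derivative_X, derivative_C, h0, map_zero]
    ring⟩

theorem asPair_X {R : Type u} [CommRing R] (a : R) (p : ℕ) (hp : p.Prime) (h0 : (p : R) = 0) :
    (asPair a p hp h0).X ^ p - (asPair a p hp h0).X = algebraMap R (asPair a p hp h0).Ring a := by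
  have h := (asPair a p hp h0).hasMap_X.1
  have hf : (asPair a p hp h0).f = X ^ p - X - C a := rfl
  rw [hf, map_sub, map_sub, map_pow, aeval_X, aeval_C] at h
  exact sub_eq_zero.mp h

/-- every prime of `R` lifts to the Artin–Schreier algebra. -/
theorem asPair_exists_comap {R : Type u} [CommRing R] (a : R) (p : ℕ) (hp : p.Prime)
    (h0 : (p : R) = 0) (P : Ideal R) [P.IsPrime] :
    ∃ q : Ideal (asPair a p hp h0).Ring, q.IsPrime ∧
      q.comap (algebraMap R (asPair a p hp h0).Ring) = P := by
  let K := AlgebraicClosure P.ResidueField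
  have hdeg : (X ^ p - X - C (algebraMap R K a) : K[X]).degree ≠ 0 := by
    have : (X : K[X]) ^ p - X - C (algebraMap R K a) = X ^ p - (X + C (algebraMap R K a)) := by ring
    rw [this, degree_sub_eq_left_of_degree_lt
      (by rw [degree_X_add_C, degree_X_pow]; exact_mod_cast hp.one_lt), degree_X_pow]
    exact_mod_cast hp.ne_zero
  obtain ⟨z, hz⟩ := IsAlgClosed.exists_root _ hdeg
  have hz' : z ^ p - z - algebraMap R K a = 0 := by
    simpa [IsRoot] using hz
  have hmap : (asPair a p hp h0).HasMap z := by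
    refine ⟨?_, ?_⟩
    · have hf : (asPair a p hp h0).f = X ^ p - X - C a := rfl
      rw [hf, map_sub, map_sub, map_pow, aeval_X, aeval_C, hz']
    · have hg : (asPair a p hp h0).g = 1 := rfl
      rw [hg, map_one]
      exact isUnit_one
  let φ := (asPair a p hp h0).lift z hmap
  refine ⟨RingHom.ker φ.toRingHom, RingHom.ker_isPrime _, ?_⟩
  have : φ.toRingHom.comp (algebraMap R (asPair a p hp h0).Ring) = algebraMap R K := by
    ext r; exact φ.commutes r
  rw [RingHom.comap_ker, this]
  have hinj : Function.Injective (algebraMap P.ResidueField K) :=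
    (algebraMap P.ResidueField K).injective
  ext x
  rw [RingHom.mem_ker, IsScalarTower.algebraMap_apply R P.ResidueField K, map_eq_zero_iff _ hinj,
    ← RingHom.mem_ker, Ideal.ker_algebraMap_residueField]

set_option backward.isDefEq.respectTransparency.types false in
theorem exists_etale_root {X : Scheme.{u}} (U : X.Etale) (p : ℕ) (hp : p.Prime)
    (h0 : (p : Γ(X, ⊤)) = 0) (t : Γ(U.left, ⊤)) (pt : U.left) :
    ∃ (W : X.Etale) (g : W ⟶ U) (w : W.left) (s : Γ(W.left, ⊤)),
      g.left w = pt ∧ s ^ p - s = g.left.appTop.hom t := by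
  obtain ⟨V, hV, hpV, -⟩ := AlgebraicGeometry.exists_isAffineOpen_mem_and_subset (X := U.left) (x := pt)
    (U := ⊤) trivial
  let ρ : Γ(U.left, ⊤) ⟶ Γ(U.left, V) := U.left.presheaf.map (homOfLE le_top).op
  let a : Γ(U.left, V) := ρ.hom t
  have hpV0 : (p : Γ(U.left, V)) = 0 := by
    have h1 := W4c5etcohweilstudent.natCast_eq_zero_etale p h0 U
    have := congrArg ρ.hom h1
    simpa using this
  let P := asPair a p hp hpV0
  let φ : Γ(U.left, V) ⟶ CommRingCat.of P.Ring := CommRingCat.ofHom (algebraMap Γ(U.left, V) P.Ring)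
  have hφ : φ.hom.Etale := RingHom.etale_algebraMap.mpr inferInstance
  have : Etale (Spec.map φ) := HasRingHomProperty.Spec_iff.mpr hφ
  let j : Spec (CommRingCat.of P.Ring) ⟶ U.left := Spec.map φ ≫ hV.fromSpec
  let W : X.Etale := Scheme.Etale.mk (j ≫ U.hom)
  let g : W ⟶ U := MorphismProperty.Over.homMk j rfl trivial
  obtain ⟨q, hq, hqp⟩ := asPair_exists_comap a p hp hpV0 (hV.primeIdealOf ⟨pt, hpV⟩).asIdeal
  let w : Spec (CommRingCat.of P.Ring) := ⟨q, hq⟩
  let s : Γ(Spec (CommRingCat.of P.Ring), ⊤) :=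
    (Scheme.ΓSpecIso (CommRingCat.of P.Ring)).inv.hom P.X
  refine ⟨W, g, w, s, ?_, ?_⟩
  · change hV.fromSpec (Spec.map φ w) = pt
    have : Spec.map φ w = hV.primeIdealOf ⟨pt, hpV⟩ := PrimeSpectrum.ext hqp
    rw [this]
    exact hV.fromSpec_primeIdealOf ⟨pt, hpV⟩
  · have e1 : hV.fromSpec.appTop = ρ ≫ (Scheme.ΓSpecIso Γ(U.left, V)).inv := by
      have h := hV.fromSpec_app_of_le ⊤ le_top
      rw [Scheme.Hom.appTop, h]
      congr 1
    have e2 : j.appTop = ρ ≫ φ ≫ (Scheme.ΓSpecIso (CommRingCat.of P.Ring)).inv := by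
      rw [Scheme.Hom.comp_appTop, e1, Category.assoc, Scheme.ΓSpecIso_inv_naturality]
    change ((Scheme.ΓSpecIso (CommRingCat.of P.Ring)).inv.hom P.X) ^ p -
      ((Scheme.ΓSpecIso (CommRingCat.of P.Ring)).inv.hom P.X) = j.appTop.hom t
    rw [e2, ← map_pow, ← map_sub, asPair_X]
    rfl

set_option backward.isDefEq.respectTransparency.types false in
theorem epi_artinSchreier (p : ℕ) (hp : p.Prime) {X : Scheme.{u}} (h0 : (p : Γ(X, ⊤)) = 0) :
    Epi (W4c5etcohweilstudent.artinSchreierEndo X p hp h0) := by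
  haveI : Sheaf.IsLocallySurjective (W4c5etcohweilstudent.artinSchreierEndo X p hp h0) := by
    constructor
    intro U t
    rw [Groth.Agent.Lib.Helper16.SmallEtale.mem_smallEtale_iff]
    intro pt
    let t' : Γ(U.left, ⊤) := ULift.down t
    obtain ⟨W, g, w, s, hw, hs⟩ := exists_etale_root U p hp h0 t' pt
    refine ⟨W, g, w, ⟨(ULift.up s : ULift Γ(W.left, ⊤)), ?_⟩, hw⟩
    apply ULift.ext
    exact hs
  exact Sheaf.epi_of_isLocallySurjective _

end Groth.Agent.Lib.H9AS
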