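import Mathlib
import Groth.Agent.Lib.Helper4NormIsoDense
import Groth.Agent.Lib.Helper10IntDim

/-!
# Going-down for integral morphisms onto normal schemes (helper9)

* `exists_specializes_of_isIntegralHom`: an integral dominant morphism `f : X ⟶ Y` of integral schemes with
  `Y` normal is generalizing.
* `exists_component_of_isIntegralHom`: for closed `T ⊆ Y` stable..., components of `f⁻¹ T` through a point
  dominate components of `T`.
-/

set_option autoImplicit false
universe u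
open CategoryTheory CategoryTheory.Limits AlgebraicGeometry TopologicalSpace

namespace Groth.Agent.Lib.H9GoDown

/-- Going-down: an integral dominant morphism of integral schemes with normal target is generalizing. -/
theorem exists_specializes_of_isIntegralHom {X Y : Scheme.{u}} (f : X ⟶ Y) [IsIntegralHom f]
    [IsIntegral X] [IsIntegral Y] [IsDominant f]
    (hY : ∀ y : Y, IsIntegrallyClosed (Y.presheaf.stalk y)) (x : X) (y' : Y) (h : y' ⤳ f x) :
    ∃ x' : X, x' ⤳ x ∧ f x' = y' := by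
  obtain ⟨_, ⟨V, hV : IsAffineOpen V, rfl⟩, hxV, -⟩ :=
    Y.isBasis_affineOpens.exists_subset_of_mem_open (Set.mem_univ (f x)) isOpen_univ
  have hy'V : y' ∈ V := h.mem_open V.isOpen hxV
  have hU : IsAffineOpen (f ⁻¹ᵁ V) := hV.preimage f
  have hxU : x ∈ f ⁻¹ᵁ V := hxV
  haveI : Nonempty V := ⟨⟨f x, hxV⟩⟩
  haveI : Nonempty (f ⁻¹ᵁ V : X.Opens) := ⟨⟨x, hxU⟩⟩
  haveI : IsDomain Γ(Y, V) := IsIntegral.component_integral V
  haveI : IsDomain Γ(X, f ⁻¹ᵁ V) := IsIntegral.component_integral (f ⁻¹ᵁ V)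
  haveI : IsIntegrallyClosed Γ(Y, V) :=
    Helper4.NormIso.isIntegrallyClosed_sections_of_stalk V hV (fun y _ => hY y)
  haveI : IsSchemeTheoreticallyDominant f := IsSchemeTheoreticallyDominant.of_isDominant f
  have hinj : Function.Injective (f.app V).hom := f.app_injective V
  have hint : (f.app V).hom.IsIntegral := IsIntegralHom.isIntegral_app f V hV
  letI : Algebra Γ(Y, V) Γ(X, f ⁻¹ᵁ V) := (f.app V).hom.toAlgebra
  haveI : FaithfulSMul Γ(Y, V) Γ(X, f ⁻¹ᵁ V) :=
    (faithfulSMul_iff_algebraMap_injective _ _).mpr hinj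
  haveI : Algebra.IsIntegral Γ(Y, V) Γ(X, f ⁻¹ᵁ V) := ⟨hint⟩
  have hgd : Algebra.HasGoingDown Γ(Y, V) Γ(X, f ⁻¹ᵁ V) := inferInstance
  have hgen : GeneralizingMap (PrimeSpectrum.comap (algebraMap Γ(Y, V) Γ(X, f ⁻¹ᵁ V))) :=
    Algebra.HasGoingDown.iff_generalizingMap_primeSpectrumComap.mp hgd
  -- points
  obtain ⟨q, hq⟩ : ∃ q, hU.fromSpec q = x := by
    have : x ∈ Set.range hU.fromSpec := by rw [hU.range_fromSpec]; exact hxU
    exact this
  obtain ⟨p', hp'⟩ : ∃ p', hV.fromSpec p' = y' := by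
    have : y' ∈ Set.range hV.fromSpec := by rw [hV.range_fromSpec]; exact hy'V
    exact this
  have hnat : Spec.map (f.app V) ≫ hV.fromSpec = hU.fromSpec ≫ f := by
    have := IsAffineOpen.SpecMap_appLE_fromSpec f hV hU le_rfl
    rwa [← Scheme.Hom.app_eq_appLE] at this
  have hfx : f x = hV.fromSpec ((Spec.map (f.app V)) q) := by
    rw [← hq, ← Scheme.Hom.comp_apply, ← hnat, Scheme.Hom.comp_apply]
  have hsp : p' ⤳ (Spec.map (f.app V)) q := by
    have h2 : hV.fromSpec p' ⤳ hV.fromSpec ((Spec.map (f.app V)) q) := by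
      rw [hp', ← hfx]; exact h
    exact (hV.fromSpec.isOpenEmbedding.isInducing.specializes_iff).mp h2
  obtain ⟨q', hq'sp, hq'⟩ := hgen hsp
  refine ⟨hU.fromSpec q', ?_, ?_⟩
  · rw [← hq]; exact hq'sp.map hU.fromSpec.continuous
  · rw [← Scheme.Hom.comp_apply, ← hnat, Scheme.Hom.comp_apply, ← hp']
    congr 1

end Groth.Agent.Lib.H9GoDown
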