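import Mathlib

/-! helper9: `eq_of_specializes_of_isDiscrete`, `universallyInjective_SpecMap` (Spec of a purely inseparable field hom is universally injective), `isPurelyInseparable_of_surjective`, `subsingleton_Spec_tensor` (Triplet tensor has ≤ 1 prime if one residue extension is purely inseparable), `eq_of_fst_eq_of_snd_eq` (points of a pullback with equal projections coincide when κ(x)/κ(s) is purely inseparable). -/

set_option autoImplicit false
universe u

namespace Groth.Agent.Lib.H9RadA

open CategoryTheory CategoryTheory.Limits AlgebraicGeometry TopologicalSpace Opposite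

/-- in a discrete subset, specialization is equality -/
theorem eq_of_specializes_of_isDiscrete {T : Type*} [TopologicalSpace T] {s : Set T}
    (hs : _root_.IsDiscrete s) {a b : T} (ha : a ∈ s) (hb : b ∈ s) (h : a ⤳ b) : a = b := by
  haveI : DiscreteTopology s := hs.to_subtype
  have hopen : IsOpen ({⟨b, hb⟩} : Set s) := isOpen_discrete _
  obtain ⟨U, hU, hUs⟩ := isOpen_induced_iff.mp hopen
  have hbU : b ∈ U := by
    have : (⟨b, hb⟩ : s) ∈ Subtype.val ⁻¹' U := by rw [hUs]; rfl
    exact this
  have haU : a ∈ U := h.mem_open hU hbU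
  have : (⟨a, ha⟩ : s) ∈ ({⟨b, hb⟩} : Set s) := by rw [← hUs]; exact haU
  exact congrArg Subtype.val (Set.mem_singleton_iff.mp this)

/-- the spectrum of a purely inseparable field extension is universally injective. -/
theorem universallyInjective_SpecMap (K L : Type u) [Field K] [Field L] (φ : K →+* L)
    (hφ : φ.IsPurelyInseparable) : UniversallyInjective (Spec.map (CommRingCat.ofHom φ)) := by
  have h := (tfae_universallyInjective (Spec.map (CommRingCat.ofHom φ))).out 0 1
  rw [h]
  intro F _ g₁ g₂ hg
  obtain ⟨ψ₁, rfl⟩ := Spec.map_surjective g₁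
  obtain ⟨ψ₂, rfl⟩ := Spec.map_surjective g₂
  have hg' : Spec.map (CommRingCat.ofHom φ ≫ ψ₁) = Spec.map (CommRingCat.ofHom φ ≫ ψ₂) := by
    rw [Spec.map_comp, Spec.map_comp]
    exact hg
  have h2 := Spec.map_injective hg'
  algebraize [φ]
  have h3 : ψ₁.hom.comp (algebraMap K L) = ψ₂.hom.comp (algebraMap K L) := by
    have := congrArg CommRingCat.Hom.hom h2
    exact this
  have h4 := IsPurelyInseparable.injective_comp_algebraMap K L F h3
  exact congrArg Spec.map (CommRingCat.hom_ext h4)

theorem isPurelyInseparable_of_surjective {K L : Type*} [Field K] [Field L] (g : K →+* L)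
    (hg : Function.Surjective g) : g.IsPurelyInseparable := by
  algebraize [g]
  rw [RingHom.IsPurelyInseparable]
  haveI := ringExpChar.expChar K
  rw [isPurelyInseparable_iff_pow_mem K (ringExpChar K)]
  intro x
  obtain ⟨a, rfl⟩ := hg x
  exact ⟨0, a, by simp [RingHom.algebraMap_toAlgebra]⟩

open Scheme.Pullback in
theorem subsingleton_Spec_tensor {X Y S : Scheme.{u}} {f : X ⟶ S} {g : Y ⟶ S}
    (T : Triplet f g) (h : (f.residueFieldMap T.x).hom.IsPurelyInseparable) :
    Subsingleton ↥(Spec T.tensor) := by
  have hφ : ((S.residueFieldCongr T.hx).inv ≫ f.residueFieldMap T.x).hom.IsPurelyInseparable := by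
    rw [CommRingCat.hom_comp]
    refine RingHom.IsPurelyInseparable.comp ?_ h
    apply isPurelyInseparable_of_surjective
    exact ((ConcreteCategory.isIso_iff_bijective (S.residueFieldCongr T.hx).inv).mp
      inferInstance).2
  haveI : UniversallyInjective
      (Spec.map ((S.residueFieldCongr T.hx).inv ≫ f.residueFieldMap T.x)) :=
    universallyInjective_SpecMap _ _ _ hφ
  haveI : UniversallyInjective (Spec.map T.tensorInr) :=
    MorphismProperty.of_isPullback (P := @UniversallyInjective) T.isPullback_SpecMap_tensor
      inferInstance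
  exact (Spec.map T.tensorInr).injective.subsingleton

open Scheme.Pullback in
/-- two points of a pullback with the same projections are equal if the tensor product of
residue fields has at most one prime. -/
theorem eq_of_fst_eq_of_snd_eq {X Y S : Scheme.{u}} {f : X ⟶ S} {g : Y ⟶ S}
    (z₁ z₂ : ↥(pullback f g)) (h1 : pullback.fst f g z₁ = pullback.fst f g z₂)
    (h2 : pullback.snd f g z₁ = pullback.snd f g z₂)
    (h : (f.residueFieldMap (pullback.fst f g z₁)).hom.IsPurelyInseparable) : z₁ = z₂ := by
  apply (carrierEquiv (f := f) (g := g)).injective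
  rw [carrierEquiv_eq_iff]
  have e : (carrierEquiv z₁).1 = (carrierEquiv z₂).1 := Triplet.ext h1 h2
  refine ⟨e, ?_⟩
  haveI : Subsingleton ↥(Spec (carrierEquiv z₂).1.tensor) := by
    apply subsingleton_Spec_tensor
    have : (carrierEquiv z₂).1.x = pullback.fst f g z₁ := h1.symm
    rw [this]
    exact h
  exact Subsingleton.elim _ _

end Groth.Agent.Lib.H9RadA
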