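import Mathlib
import Groth.Agent.Lib.H9CardFib
import Groth.Agent.Lib.H9RadA

/-! helper9: `map_genericPoint_of_isDominant`, `toNormalization_genericPoint`, `fromNormalization_genericPoint`, `exists_pow_mul_eq`, `isPurelyInseparable_residueFieldMap` (Stein factor `Y'` of proper `f : X ⟶ Y` integral: if algebraic elements of `R(X)` over `R(Y)` are purely inseparable then `κ(η_Y) → κ(η_{Y'})` is purely inseparable). -/

set_option autoImplicit false
universe u

namespace Groth.Agent.Lib.H9RadB

open CategoryTheory CategoryTheory.Limits AlgebraicGeometry TopologicalSpace Opposite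
open Groth.Agent.Lib.H9SteinFib Groth.Agent.Lib.H9CardFib

/-- a dominant morphism of irreducible schemes maps the generic point to the generic point. -/
theorem map_genericPoint_of_isDominant {X Y : Scheme.{u}} [IrreducibleSpace X] [IrreducibleSpace Y]
    (g : X ⟶ Y) [IsDominant g] : g (genericPoint X) = genericPoint Y := by
  have h1 : IsGenericPoint (g (genericPoint X)) (closure (g '' (⊤ : Set X))) :=
    (genericPoint_spec X).image g.continuous
  have h2 : closure (g '' (⊤ : Set X)) = ⊤ := by
    rw [Set.top_eq_univ, Set.image_univ]
    exact g.denseRange.closure_range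
  rw [h2] at h1
  exact (h1.eq (genericPoint_spec Y))

variable {X Y : Scheme.{u}} [IsIntegral X] [IsIntegral Y] (f : X ⟶ Y) [IsProper f]
  [IsLocallyNoetherian Y]

theorem toNormalization_genericPoint :
    f.toNormalization (genericPoint X) = genericPoint f.normalization :=
  map_genericPoint_of_isDominant f.toNormalization

theorem fromNormalization_genericPoint (hdom : f.base (genericPoint X) ⤳ genericPoint Y) :
    f.fromNormalization (genericPoint f.normalization) = genericPoint Y := by
  rw [← toNormalization_genericPoint f]
  have h1 : f.fromNormalization (f.toNormalization (genericPoint X)) = f (genericPoint X) := by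
    conv_rhs => rw [← f.toNormalization_fromNormalization]
    rfl
  rw [h1]
  exact (hdom.antisymm (genericPoint_specializes _)).eq

section pi

variable (hdom : f.base (genericPoint X) ⤳ genericPoint Y)
  (hrad : ∀ x : X.functionField,
      (∃ q : Polynomial Y.functionField, q ≠ 0 ∧
        Polynomial.eval₂ (CohIII.stalkToFunctionField f (genericPoint Y) hdom) x q = 0) →
      ∃ e : ℕ, x ^ (ringExpChar X.functionField ^ e) ∈
        Set.range (CohIII.stalkToFunctionField f (genericPoint Y) hdom))
  (W : Y.Opens) (hW : IsAffineOpen W) (hyW : genericPoint Y ∈ W)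

include hrad hW hyW in
theorem exists_pow_mul_eq (b : Γ(f.normalization, f.fromNormalization ⁻¹ᵁ W)) :
    ∃ (e : ℕ) (a₁ a₂ : Γ(Y, W)), a₂ ≠ 0 ∧
      b ^ (ringExpChar X.functionField ^ e) * (f.fromNormalization.app W).hom a₂ =
        (f.fromNormalization.app W).hom a₁ := by
  haveI : Nonempty W := ⟨⟨_, hyW⟩⟩
  have hint : (f.fromNormalization.app W).hom.IsIntegral :=
    f.fromNormalization.isIntegral_app W hW
  obtain ⟨P, hPm, hP0⟩ := hint b
  set stF := CohIII.stalkToFunctionField f (genericPoint Y) hdom with hstF
  set gA : Γ(Y, W) →+* Y.functionField := (Y.presheaf.germ W (genericPoint Y) hyW).hom with hgA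
  have hcomm : (β f (genericPoint Y) hdom W hyW).comp (f.fromNormalization.app W).hom =
      stF.comp gA := β_comm f (genericPoint Y) hdom W hyW
  have hroot : Polynomial.eval₂ stF (β f (genericPoint Y) hdom W hyW b) (P.map gA) = 0 := by
    rw [Polynomial.eval₂_map, ← hcomm, ← Polynomial.hom_eval₂, hP0, map_zero]
  obtain ⟨e, c, hc⟩ := hrad _ ⟨P.map gA, (hPm.map gA).ne_zero, hroot⟩
  haveI : IsFractionRing Γ(Y, W) Y.functionField :=
    functionField_isFractionRing_of_isAffineOpen Y W hW
  obtain ⟨⟨a₁, a₂⟩, h12⟩ := IsLocalization.surj (nonZeroDivisors Γ(Y, W)) c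
  have h12' : c * gA a₂ = gA a₁ := h12
  refine ⟨e, a₁, a₂, nonZeroDivisors.ne_zero a₂.2, ?_⟩
  apply β_injective f (genericPoint Y) hdom W hW hyW
  have e1 : β f (genericPoint Y) hdom W hyW ((f.fromNormalization.app W).hom a₂) = stF (gA a₂) :=
    congrArg (fun φ => φ (a₂ : Γ(Y, W))) hcomm
  have e2 : β f (genericPoint Y) hdom W hyW ((f.fromNormalization.app W).hom a₁) = stF (gA a₁) :=
    congrArg (fun φ => φ a₁) hcomm
  rw [map_mul, map_pow, e1, e2, ← hc, ← map_mul, h12']

end pi

section pi2

variable (hdom : f.base (genericPoint X) ⤳ genericPoint Y)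
  (hrad : ∀ x : X.functionField,
      (∃ q : Polynomial Y.functionField, q ≠ 0 ∧
        Polynomial.eval₂ (CohIII.stalkToFunctionField f (genericPoint Y) hdom) x q = 0) →
      ∃ e : ℕ, x ^ (ringExpChar X.functionField ^ e) ∈
        Set.range (CohIII.stalkToFunctionField f (genericPoint Y) hdom))

include hrad in
theorem isPurelyInseparable_residueFieldMap :
    (f.fromNormalization.residueFieldMap
      (genericPoint f.normalization)).hom.IsPurelyInseparable := by
  have hqη : f.fromNormalization (genericPoint f.normalization) = genericPoint Y :=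
    fromNormalization_genericPoint f hdom
  obtain ⟨_, ⟨W, hW, rfl⟩, hyW, -⟩ := Y.isBasis_affineOpens.exists_subset_of_mem_open
    (Set.mem_univ (genericPoint Y)) isOpen_univ
  have hη'V : genericPoint f.normalization ∈ f.fromNormalization ⁻¹ᵁ W := by
    change f.fromNormalization (genericPoint f.normalization) ∈ W
    rw [hqη]; exact hyW
  haveI : Nonempty (f.fromNormalization ⁻¹ᵁ W).toScheme := ⟨⟨_, hη'V⟩⟩
  have hV : IsAffineOpen (f.fromNormalization ⁻¹ᵁ W) := hW.preimage f.fromNormalization
  set p₀ := ringExpChar X.functionField with hp₀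
  haveI : ExpChar X.functionField p₀ := ringExpChar.expChar _
  set evB := (f.normalization.evaluation (f.fromNormalization ⁻¹ᵁ W)
    (genericPoint f.normalization) hη'V).hom with hevB
  set evA := (Y.evaluation W (f.fromNormalization (genericPoint f.normalization)) hη'V).hom
    with hevA
  have hres_inj : Function.Injective
      (f.normalization.residue (genericPoint f.normalization)).hom :=
    (f.normalization.residue (genericPoint f.normalization)).hom.injective
  have hevB_inj : Function.Injective evB := by
    have h1 : Function.Injective (f.normalization.presheaf.germ (f.fromNormalization ⁻¹ᵁ W)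
        (genericPoint f.normalization) hη'V).hom :=
      germ_injective_of_isIntegral f.normalization _ hη'V
    exact hres_inj.comp h1
  haveI : ExpChar Γ(f.normalization, f.fromNormalization ⁻¹ᵁ W) p₀ :=
    RingHom.expChar _ (β_injective f (genericPoint Y) hdom W hW hyW) p₀
  haveI : ExpChar (f.normalization.residueField (genericPoint f.normalization)) p₀ :=
    expChar_of_injective_ringHom hevB_inj p₀
  haveI : ExpChar (Y.residueField (f.fromNormalization (genericPoint f.normalization))) p₀ :=
    RingHom.expChar _
      (f.fromNormalization.residueFieldMap (genericPoint f.normalization)).hom.injective p₀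
  have hnat : ∀ a, evB ((f.fromNormalization.app W).hom a) =
      (f.fromNormalization.residueFieldMap (genericPoint f.normalization)).hom (evA a) :=
    fun a => (Scheme.evaluation_naturality_apply f.fromNormalization
      (genericPoint f.normalization) hη'V a).symm
  have hevA_ne : ∀ a : Γ(Y, W), a ≠ 0 → evA a ≠ 0 := by
    intro a ha
    rw [hevA]
    change (Y.evaluation W _ hη'V) a ≠ 0
    rw [Scheme.evaluation_ne_zero_iff_mem_basicOpen, hqη]
    have hne : Y.basicOpen a ≠ ⊥ := fun h0 => ha ((basicOpen_eq_bot_iff a).mp h0)
    change genericPoint Y ∈ (Y.basicOpen a : Set Y)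
    rw [(genericPoint_spec Y).mem_open_set_iff (Y.basicOpen a).isOpen]
    rw [Set.univ_inter]
    by_contra hcon
    apply hne
    ext z
    simp only [Opens.coe_bot, Set.mem_empty_iff_false, iff_false]
    exact fun hz => hcon ⟨z, hz⟩
  algebraize [(f.fromNormalization.residueFieldMap (genericPoint f.normalization)).hom]
  rw [RingHom.IsPurelyInseparable, isPurelyInseparable_iff_pow_mem _ p₀]
  intro k
  rw [← mem_perfectClosure_iff_pow_mem]
  have key : ∀ b : Γ(f.normalization, f.fromNormalization ⁻¹ᵁ W), evB b ∈ perfectClosure
      (Y.residueField (f.fromNormalization (genericPoint f.normalization)))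
      (f.normalization.residueField (genericPoint f.normalization)) := by
    intro b
    rw [mem_perfectClosure_iff_pow_mem p₀]
    obtain ⟨e, a₁, a₂, ha₂, h12⟩ := exists_pow_mul_eq f hdom hrad W hW hyW b
    have h3 := congrArg evB h12
    rw [map_mul, map_pow, hnat, hnat] at h3
    refine ⟨e, evA a₁ / evA a₂, ?_⟩
    rw [RingHom.algebraMap_toAlgebra, map_div₀, div_eq_iff, ← h3]
    exact (map_ne_zero _).mpr (hevA_ne a₂ ha₂)
  obtain ⟨m, rfl⟩ := Scheme.residue_surjective f.normalization _ k
  haveI : IsFractionRing Γ(f.normalization, f.fromNormalization ⁻¹ᵁ W)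
      f.normalization.functionField :=
    functionField_isFractionRing_of_isAffineOpen f.normalization _ hV
  obtain ⟨s, t, -, rfl⟩ := IsFractionRing.div_surjective
    (A := Γ(f.normalization, f.fromNormalization ⁻¹ᵁ W)) m
  have : (f.normalization.residue (genericPoint f.normalization)).hom
      (algebraMap Γ(f.normalization, f.fromNormalization ⁻¹ᵁ W) f.normalization.functionField s /
        algebraMap Γ(f.normalization, f.fromNormalization ⁻¹ᵁ W)
          f.normalization.functionField t) = evB s / evB t := by
    rw [map_div₀]
    rfl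
  erw [this]
  exact div_mem (key s) (key t)

end pi2

end Groth.Agent.Lib.H9RadB
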