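import Mathlib
import Groth.Prelude.Def_Pi1
import Groth.Agent.Lib.H9GoDown
import Groth.Agent.Lib.Helper10CurveFlat
import Groth.Agent.Lib.Helper10CodimFib
import Groth.Agent.Lib.Helper5IntDim
import Groth.Agent.Lib.H9RadB
import Groth.Agent.S0386

/-!
# Finite morphisms onto normal schemes: dimension of stalks and flatness in codimension one (helper9)
-/

set_option autoImplicit false
universe u
open CategoryTheory CategoryTheory.Limits AlgebraicGeometry TopologicalSpace

namespace Groth.Agent.Lib.H9FinFlat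

/-- `dim O_{Y,f x} ≤ dim O_{X,x}` for an integral dominant morphism of integral schemes onto a normal one. -/
theorem ringKrullDim_stalk_le_of_isIntegralHom {X Y : Scheme.{u}} (f : X ⟶ Y) [IsIntegralHom f]
    [IsIntegral X] [IsIntegral Y] [IsDominant f]
    (hY : ∀ y : Y, IsIntegrallyClosed (Y.presheaf.stalk y)) (x : X) :
    ringKrullDim (Y.presheaf.stalk (f x)) ≤ ringKrullDim (X.presheaf.stalk x) := by
  obtain ⟨_, ⟨V, hV : IsAffineOpen V, rfl⟩, hxV, -⟩ :=
    Y.isBasis_affineOpens.exists_subset_of_mem_open (Set.mem_univ (f x)) isOpen_univ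
  have hU : IsAffineOpen (f ⁻¹ᵁ V) := hV.preimage f
  have hxU : x ∈ f ⁻¹ᵁ V := hxV
  haveI : Nonempty V := ⟨⟨f x, hxV⟩⟩
  haveI : Nonempty (f ⁻¹ᵁ V : X.Opens) := ⟨⟨x, hxU⟩⟩
  haveI : IsDomain Γ(Y, V) := IsIntegral.component_integral V
  haveI : IsDomain Γ(X, f ⁻¹ᵁ V) := IsIntegral.component_integral (f ⁻¹ᵁ V)
  haveI : IsIntegrallyClosed Γ(Y, V) :=
    Helper4.NormIso.isIntegrallyClosed_sections_of_stalk V hV (fun y _ => hY y)
  haveI : IsSchemeTheoreticallyDominant f := IsSchemeTheoreticallyDominant.of_isDominant f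
  have hinj : Function.Injective (f.app V).hom := f.app_injective V
  have hint : (f.app V).hom.IsIntegral := IsIntegralHom.isIntegral_app f V hV
  letI : Algebra Γ(Y, V) Γ(X, f ⁻¹ᵁ V) := (f.app V).hom.toAlgebra
  haveI : FaithfulSMul Γ(Y, V) Γ(X, f ⁻¹ᵁ V) :=
    (faithfulSMul_iff_algebraMap_injective _ _).mpr hinj
  haveI : Algebra.IsIntegral Γ(Y, V) Γ(X, f ⁻¹ᵁ V) := ⟨hint⟩
  have hgd : Algebra.HasGoingDown Γ(Y, V) Γ(X, f ⁻¹ᵁ V) := inferInstance
  obtain ⟨q, hq⟩ : ∃ q, hU.fromSpec q = x := by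
    have : x ∈ Set.range hU.fromSpec := by rw [hU.range_fromSpec]; exact hxU
    exact this
  have hnat : Spec.map (f.app V) ≫ hV.fromSpec = hU.fromSpec ≫ f := by
    have := IsAffineOpen.SpecMap_appLE_fromSpec f hV hU le_rfl
    rwa [← Scheme.Hom.app_eq_appLE] at this
  have hfx : f x = hV.fromSpec ((Spec.map (f.app V)) q) := by
    rw [← hq, ← Scheme.Hom.comp_apply, ← hnat, Scheme.Hom.comp_apply]
  have h1 : Order.coheight (hV.fromSpec ((Spec.map (f.app V)) q)) =
      Order.coheight ((Spec.map (f.app V)) q) := coheight_eq_of_isOpenImmersion hV.fromSpec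
  have h2 : Order.coheight (hU.fromSpec q) = Order.coheight q :=
    coheight_eq_of_isOpenImmersion hU.fromSpec
  rw [ringKrullDim_stalk_eq_coheight, ringKrullDim_stalk_eq_coheight, hfx, ← hq,
    h1, h2, ← idealHeight_eq_coheight, ← idealHeight_eq_coheight]
  haveI : q.asIdeal.LiesOver ((Spec.map (f.app V)) q).asIdeal := ⟨rfl⟩
  have := Helper5.height_le_height_of_liesOver_of_hasGoingDown
    ((Spec.map (f.app V)) q).asIdeal q.asIdeal
  exact_mod_cast this

/-- a dominant morphism of integral schemes is flat at points over normal points of dimension `≤ 1`. -/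
theorem flat_stalkMap_of_dim_le_one {X Y : Scheme.{u}} (f : X ⟶ Y)
    [IsIntegral X] [IsIntegral Y] [IsDominant f] [IsLocallyNoetherian Y] (x : X)
    (hN : IsIntegrallyClosed (Y.presheaf.stalk (f x)))
    (hd : ringKrullDim (Y.presheaf.stalk (f x)) ≤ 1) : (f.stalkMap x).hom.Flat := by
  have hk : Ring.KrullDimLE 1 (Y.presheaf.stalk (f x)) := by
    rw [Ring.krullDimLE_iff]; exact_mod_cast hd
  have hdd : Ring.DimensionLEOne (Y.presheaf.stalk (f x)) :=
    ⟨fun {p} hp hpp => Ring.krullDimLE_one_iff_of_noZeroDivisors.mp hk p hp hpp⟩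
  haveI : IsDedekindDomain (Y.presheaf.stalk (f x)) :=
    { toIsDomain := inferInstance, toIsDedekindRing := { } }
  have hgen : f (genericPoint X) = genericPoint Y := H9RadB.map_genericPoint_of_isDominant f
  exact Helper10.CurveFlat.flat_of_injective_of_isDedekindDomain _
    (Helper10.CurveFlat.stalkMap_injective_of_generic f hgen x)

end Groth.Agent.Lib.H9FinFlat
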