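import Mathlib
import Groth.Prelude.Def_Pi1
import Groth.Agent.Lib.H9FinFlat

/-!
# S15140: a finite surjective morphism of normal relative curves over a DVR is flat off finitely many
closed points (helper9)
-/

set_option autoImplicit false
universe u
open CategoryTheory CategoryTheory.Limits AlgebraicGeometry TopologicalSpace

namespace Groth.Agent.Lib.H9FinFlatB

theorem lfp_of_lft {X Y : Scheme.{u}} (f : X ⟶ Y) [LocallyOfFiniteType f] [IsLocallyNoetherian Y] :
    LocallyOfFinitePresentation f := by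
  rw [HasRingHomProperty.iff_appLE (P := @LocallyOfFinitePresentation)]
  intro U V e
  haveI : IsNoetherianRing Γ(Y, U.1) := IsLocallyNoetherian.component_noetherian U
  exact RingHom.FinitePresentation.of_finiteType.mp
    (HasRingHomProperty.appLE (P := @LocallyOfFiniteType) f ‹_› U V e)

lemma coe_le_two {c : ℕ∞} : ((c : WithBot ℕ∞) ≤ 2) ↔ c ≤ 2 := by
  have : (2 : WithBot ℕ∞) = ((2 : ℕ∞) : WithBot ℕ∞) := rfl
  rw [this, WithBot.coe_le_coe]

lemma coe_le_one {c : ℕ∞} : ((c : WithBot ℕ∞) ≤ 1) ↔ c ≤ 1 := by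
  have : (1 : WithBot ℕ∞) = ((1 : ℕ∞) : WithBot ℕ∞) := rfl
  rw [this, WithBot.coe_le_coe]

lemma coe_eq_two {c : ℕ∞} : ((c : WithBot ℕ∞) = 2) ↔ c = 2 := by
  have : (2 : WithBot ℕ∞) = ((2 : ℕ∞) : WithBot ℕ∞) := rfl
  rw [this, WithBot.coe_inj]

theorem main (R : Type u) [CommRing R] [IsDomain R] [IsDiscreteValuationRing R]
    (X Y : Scheme.{u}) (pX : X ⟶ Spec (CommRingCat.of R)) (pY : Y ⟶ Spec (CommRingCat.of R))
    [LocallyOfFiniteType pX] [LocallyOfFiniteType pY] [QuasiCompact pY]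
    [IsIntegral X] [IsIntegral Y] (hnY : Pi1.IsNormalScheme Y)
    (hdX : topologicalKrullDim X = 2) (hdY : topologicalKrullDim Y = 2)
    (f : X ⟶ Y) [IsFinite f] [Surjective f] :
    ∃ V : Y.Opens, ((V : Set Y)ᶜ).Finite ∧ (∀ y : Y, y ∉ V → ringKrullDim (Y.presheaf.stalk y) = 2) ∧
      (((f ⁻¹ᵁ V : X.Opens) : Set X)ᶜ).Finite ∧
      (∀ x : X, x ∉ f ⁻¹ᵁ V → ringKrullDim (X.presheaf.stalk x) = 2) ∧
      Flat (f ∣_ V) := by
  haveI : IsLocallyNoetherian Y := LocallyOfFiniteType.isLocallyNoetherian pY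
  haveI : IsLocallyNoetherian X := LocallyOfFiniteType.isLocallyNoetherian pX
  haveI : CompactSpace Y := (HasAffineProperty.iff_of_isAffine (P := @QuasiCompact)).mp ‹QuasiCompact pY›
  haveI : IsNoetherian Y := ⟨⟩
  haveI : NoetherianSpace Y := inferInstance
  haveI : LocallyOfFinitePresentation f := lfp_of_lft f
  set NF : Set X := {x | ¬ (f.stalkMap x).hom.Flat} with hNF
  have hNFcl : IsClosed NF := by
    rw [← isOpen_compl_iff]
    have h := Groth.Agent.S0386.result f
    have : NFᶜ = {x : X | (f.stalkMap x).hom.Flat} := by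
      ext x; simp [hNF]
    rw [this]; exact h
  have hCcl : IsClosed (f '' NF) := f.isClosedMap _ hNFcl
  let V : Y.Opens := ⟨(f '' NF)ᶜ, hCcl.isOpen_compl⟩
  have hnotV : ∀ y : Y, y ∉ V ↔ y ∈ f '' NF := by
    intro y
    change ¬ (y ∈ (f '' NF)ᶜ) ↔ _
    rw [Set.notMem_compl_iff]
  have hdimle : ∀ (Z : Scheme.{u}) (hZ : topologicalKrullDim Z = 2) (z : Z),
      ringKrullDim (Z.presheaf.stalk z) ≤ 2 := by
    intro Z hZ z
    rw [ringKrullDim_stalk_eq_coheight, coe_le_two]
    have h0 := Helper10.CurveFlat.coheight_le_of_topologicalKrullDim_le Z 2 (by rw [hZ]; rfl) z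
    simpa using h0
  have hdimY : ∀ y : Y, y ∉ V → ringKrullDim (Y.presheaf.stalk y) = 2 := by
    intro y hy
    obtain ⟨x, hx, rfl⟩ := (hnotV y).mp hy
    have hle := hdimle Y hdY (f x)
    by_contra hne
    apply hx
    apply H9FinFlat.flat_stalkMap_of_dim_le_one f x (hnY _).2
    rw [ringKrullDim_stalk_eq_coheight] at hle hne ⊢
    rw [coe_le_two] at hle
    rw [coe_eq_two] at hne
    rw [coe_le_one]
    have hlt : Order.coheight (f x) < 2 := lt_of_le_of_ne hle hne
    have h2 : (2 : ℕ∞) = 1 + 1 := by norm_num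
    rw [h2] at hlt
    exact Order.le_of_lt_add_one hlt
  have hCfin : (f '' NF).Finite := by
    obtain ⟨S, hSf, hSc, hSi, hSU⟩ :=
      NoetherianSpace.exists_finite_set_isClosed_irreducible (α := Y) hCcl
    rw [hSU]
    refine Set.Finite.sUnion hSf ?_
    intro t ht
    obtain ⟨η, hη⟩ := QuasiSober.sober (hSi t ht) (hSc t ht)
    have hηcl : closure {η} = t := hη
    have htC : t ⊆ f '' NF := by rw [hSU]; exact Set.subset_sUnion_of_mem ht
    have hηt : η ∈ t := by rw [← hηcl]; exact subset_closure rfl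
    refine (Set.finite_singleton η).subset ?_
    intro y hy
    by_contra hne
    have hsp : η ⤳ y := by rw [specializes_iff_mem_closure, hηcl]; exact hy
    have hlt := Helper10.CodimFib.ringKrullDim_stalk_lt_of_specializes hsp (Ne.symm hne)
    rw [hdimY η ((hnotV η).mpr (htC hηt)), hdimY y ((hnotV y).mpr (htC hy))] at hlt
    exact lt_irrefl _ hlt
  refine ⟨V, ?_, hdimY, ?_, ?_, ?_⟩
  · have : ((V : Set Y)ᶜ) = f '' NF := by
      change ((f '' NF)ᶜ)ᶜ = _
      rw [compl_compl]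
    rw [this]; exact hCfin
  · have : (((f ⁻¹ᵁ V : X.Opens) : Set X)ᶜ) = f ⁻¹' (f '' NF) := by
      ext x
      change ¬ (f x ∈ (f '' NF)ᶜ) ↔ _
      rw [Set.notMem_compl_iff]; rfl
    rw [this]
    exact Set.Finite.preimage' hCfin (fun y _ => f.finite_preimage_singleton y)
  · intro x hx
    have hfx : f x ∉ V := hx
    have h2 := hdimY (f x) hfx
    have h3 := H9FinFlat.ringKrullDim_stalk_le_of_isIntegralHom f (fun y => (hnY y).2) x
    rw [h2] at h3
    exact le_antisymm (hdimle X hdX x) h3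
  · rw [Flat.iff_flat_stalkMap]
    intro x
    rw [RingHom.Flat.respectsIso.arrow_mk_iso_iff (morphismRestrictStalkMap f V x)]
    by_contra h
    have h1 : f x.1 ∈ f '' NF := ⟨x.1, h, rfl⟩
    have h2 : f x.1 ∈ (f '' NF)ᶜ := x.2
    exact h2 h1

end Groth.Agent.Lib.H9FinFlatB
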