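/-
Helper library (helper9): flatness over a base with PID local rings via associated points
(non-integral base), and finite local freeness of `f_* O` for finite `f`.
-/
import Mathlib
import Groth.Agent.Lib.Helper10DedFlat2
import Groth.Agent.Lib.Helper4DimFormulaAE
import Groth.Agent.Lib.Helper5RLR
import Groth.Agent.Lib.Helper18FinFlat1
import Groth.Agent.Lib.H9FinFlatB
import Groth.Agent.Lib.Helper23UnitStalk

set_option autoImplicit false
set_option linter.style.haveILetI false
universe u

open AlgebraicGeometry CategoryTheory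

namespace Groth.Agent.Lib.H9AssFlat

/-- If the point of `X` given by a prime `qq` of `O_{X,x}` maps to a point of `Y` with
zero-dimensional local ring, and `O_{Y,f x}` is a domain, then the preimage of `qq` in `O_{Y,f x}`
is zero. -/
lemma eq_zero_of_stalkMap_mem {X Y : Scheme.{u}} (f : X ⟶ Y) (x : X)
    [IsDomain (Y.presheaf.stalk (f x))]
    (qq : Spec (X.presheaf.stalk x))
    (hgen : ringKrullDim (Y.presheaf.stalk (f (X.fromSpecStalk x qq))) = 0)
    (a : Y.presheaf.stalk (f x)) (haq : (f.stalkMap x).hom a ∈ qq.asIdeal) : a = 0 := by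
  have hsq := Scheme.SpecMap_stalkMap_fromSpecStalk (f := f) (x := x)
  set 𝔭 : Spec (Y.presheaf.stalk (f x)) := Spec.map (f.stalkMap x) qq with h𝔭
  have h6 : Y.fromSpecStalk (f x) 𝔭 = f (X.fromSpecStalk x qq) := by
    rw [h𝔭, ← Scheme.Hom.comp_apply, hsq, Scheme.Hom.comp_apply]
  haveI : 𝔭.asIdeal.IsPrime := 𝔭.isPrime
  have h7 := Groth.Agent.Lib.Helper4.DimFormula.height_eq_ringKrullDim_stalk_fromSpecStalk
    (f x) 𝔭.asIdeal
  have h8 : Y.fromSpecStalk (f x) ⟨𝔭.asIdeal, 𝔭.isPrime⟩ = f (X.fromSpecStalk x qq) := h6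
  rw [h8, hgen] at h7
  have h9 : 𝔭.asIdeal.height = 0 := by exact_mod_cast h7
  have h10 : 𝔭.asIdeal = ⊥ := Ideal.height_eq_zero_iff_eq_bot.mp h9
  have h11 : a ∈ 𝔭.asIdeal := haq
  rw [h10] at h11
  exact h11

/-- `Y` with local rings principal ideal domains, `X` locally Noetherian: if every associated
point of `X` maps to a point of `Y` with zero-dimensional local ring, then `f` is flat. -/
theorem flat_of_assPoints {X Y : Scheme.{u}} [IsLocallyNoetherian X] (f : X ⟶ Y)
    (hdom : ∀ y : Y, IsDomain (Y.presheaf.stalk y))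
    (hpid : ∀ y : Y, IsPrincipalIdealRing (Y.presheaf.stalk y))
    (h : ∀ ξ : X, IsAssociatedPrime (IsLocalRing.maximalIdeal (X.presheaf.stalk ξ))
      (X.presheaf.stalk ξ) → ringKrullDim (Y.presheaf.stalk (f ξ)) = 0) : Flat f := by
  rw [Flat.iff_flat_stalkMap]
  intro x
  set φ := (f.stalkMap x).hom with hφ
  rw [RingHom.Flat]
  letI : Algebra (Y.presheaf.stalk (f x)) (X.presheaf.stalk x) := φ.toAlgebra
  haveI := hpid (f x)
  haveI := hdom (f x)
  suffices htf : Module.IsTorsionFree (Y.presheaf.stalk (f x)) (X.presheaf.stalk x) by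
    infer_instance
  haveI : IsNoetherianRing (X.presheaf.stalk x) := inferInstance
  constructor
  intro a ha s t hst
  have ha0 : a ≠ 0 := ha.ne_zero
  have hmul : φ a * (s - t) = 0 := by
    rw [mul_sub, sub_eq_zero]
    exact hst
  by_contra hne
  have hb : s - t ≠ 0 := sub_ne_zero.mpr hne
  obtain ⟨q, hq, hle⟩ := exists_le_isAssociatedPrime_of_isNoetherianRing
    (R := X.presheaf.stalk x) (s - t) hb
  have hqp : q.IsPrime := hq.isPrime
  have haq : φ a ∈ q := by
    apply hle
    rw [Submodule.mem_colon_singleton]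
    exact hmul
  have hass := Groth.Agent.Lib.Helper10.DedFlat.isAssociatedPrime_stalk_fromSpecStalk x q hq hqp
  have hgen := h _ hass
  exact ha0 (eq_zero_of_stalkMap_mem f x ⟨q, hqp⟩ hgen a haq)

/-- S14415. -/
theorem main (C C' : Scheme.{u}) (f : C ⟶ C') [IsFinite f] [IsLocallyNoetherian C']
    (hreg : ∀ y : C', IsRegularLocalRing (C'.presheaf.stalk y))
    (hdim : ∀ y : C', ringKrullDim (C'.presheaf.stalk y) ≤ 1)
    (hass : ∀ x : C, Curv2.IsAssPoint (Coh.structureModule C) x →
      ringKrullDim (C'.presheaf.stalk (f.base x)) = 0) :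
    FlatMod.IsFinLocFree ((Coh.push f).obj (Coh.structureModule C)) := by
  haveI : IsLocallyNoetherian C := LocallyOfFiniteType.isLocallyNoetherian f
  have hdom : ∀ y : C', IsDomain (C'.presheaf.stalk y) := fun y =>
    haveI := hreg y
    Groth.Agent.Lib.Helper5.isDomain_of_isRegularLocalRing _
  have hpid : ∀ y : C', IsPrincipalIdealRing (C'.presheaf.stalk y) := fun y =>
    haveI := hreg y
    haveI := hdom y
    Groth.Agent.Lib.Helper10.DedFlat.isPrincipalIdealRing_of_regular _ (hdim y)
  have hflat : Flat f := flat_of_assPoints f hdom hpid (fun ξ hξ =>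
    hass ξ ((Groth.Agent.Lib.Helper23.UnitStalk.isAssPoint_structureModule_iff ξ).mpr hξ))
  haveI : LocallyOfFinitePresentation f := Groth.Agent.Lib.H9FinFlatB.lfp_of_lft f
  exact Groth.Agent.Helper18FinFlat.pushforward_isFinLocFree f ⟨inferInstance, hflat, inferInstance⟩

end Groth.Agent.Lib.H9AssFlat
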