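import Mathlib
import Groth.Prelude.Def_CohB1
import Groth.Agent.Lib.Helper11OrbitSub

set_option autoImplicit false
set_option linter.style.haveILetI false
universe u
open CategoryTheory MonoidalCategory CartesianMonoidalCategory MonObj GrpObj AlgebraicGeometry

namespace Groth.Agent.Lib.H9Avoid

variable {K : Type u} [Field K]

/-- a rational point in a nonempty open over an algebraically closed field -/
theorem exists_pt_mem [IsAlgClosed K] (X : Over (Spec (CommRingCat.of K)))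
    [LocallyOfFiniteType X.hom] (U : Set X.left) (hU : IsOpen U) (hne : U.Nonempty) :
    ∃ x : 𝟙_ (Over (Spec (CommRingCat.of K))) ⟶ X, ∀ t, x.left t ∈ U := by
  obtain ⟨x, hx⟩ := Groth.Agent.Lib.Helper11OrbitSub.exists_point_mem_open K K X ⟨U, hU⟩ hne
  have hw := Over.w x
  refine ⟨Over.homMk x.left ?_, fun t => hx t⟩
  rw [hw]
  change Spec.map (CommRingCat.ofHom (algebraMap K K)) = 𝟙 _
  rw [Algebra.algebraMap_self]
  exact Spec.map_id _

section grp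

variable {C : Type*} [Category C] [CartesianMonoidalCategory C] {A : C} [GrpObj A]

theorem comp_toUnit_comp {X Y : C} (f : X ⟶ Y) (z : 𝟙_ C ⟶ A) :
    f ≫ toUnit Y ≫ z = toUnit X ≫ z := by
  rw [← Category.assoc, toUnit_unique (f ≫ toUnit Y) (toUnit X)]

theorem pt_comp_toUnit_comp (x z : 𝟙_ C ⟶ A) : x ≫ toUnit A ≫ z = z := by
  rw [comp_toUnit_comp, toUnit_unique (toUnit (𝟙_ C)) (𝟙 _), Category.id_comp]

/-- right translation by `x` and by `x⁻¹` are mutually inverse -/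
theorem rtrans_comp (x : 𝟙_ C ⟶ A) :
    (𝟙 A * (toUnit A ≫ x)) ≫ (𝟙 A * (toUnit A ≫ x)⁻¹) = 𝟙 A := by
  rw [MonObj.comp_mul, GrpObj.comp_inv, Category.comp_id, comp_toUnit_comp, _root_.mul_assoc,
    mul_inv_cancel, _root_.mul_one]

theorem rtrans_comp' (x : 𝟙_ C ⟶ A) :
    (𝟙 A * (toUnit A ≫ x)⁻¹) ≫ (𝟙 A * (toUnit A ≫ x)) = 𝟙 A := by
  rw [MonObj.comp_mul, Category.comp_id, comp_toUnit_comp, _root_.mul_assoc,
    inv_mul_cancel, _root_.mul_one]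

theorem pt_comp_rtrans (x z : 𝟙_ C ⟶ A) :
    z ≫ (𝟙 A * (toUnit A ≫ x)) = x ≫ ((toUnit A ≫ z) * 𝟙 A) := by
  rw [MonObj.comp_mul, MonObj.comp_mul, Category.comp_id, Category.comp_id, pt_comp_toUnit_comp,
    pt_comp_toUnit_comp]

theorem pt_comp_rtrans' (x z : 𝟙_ C ⟶ A) :
    z ≫ (𝟙 A * (toUnit A ≫ x)⁻¹) = x ≫ ((toUnit A ≫ z) * (𝟙 A)⁻¹) := by
  rw [MonObj.comp_mul, MonObj.comp_mul, GrpObj.comp_inv, GrpObj.comp_inv, Category.comp_id,
    Category.comp_id, pt_comp_toUnit_comp, pt_comp_toUnit_comp]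

theorem phi_surj (z : 𝟙_ C ⟶ A) :
    ((𝟙 A)⁻¹ * (toUnit A ≫ z)) ≫ ((toUnit A ≫ z) * (𝟙 A)⁻¹) = 𝟙 A := by
  rw [MonObj.comp_mul, GrpObj.comp_inv, Category.comp_id, comp_toUnit_comp, _root_.mul_inv_rev, _root_.inv_inv,
    mul_inv_cancel_left]

theorem psi_surj (z : 𝟙_ C ⟶ A) :
    ((toUnit A ≫ z)⁻¹ * 𝟙 A) ≫ ((toUnit A ≫ z) * 𝟙 A) = 𝟙 A := by
  rw [MonObj.comp_mul, Category.comp_id, comp_toUnit_comp, mul_inv_cancel_left]

end grp

theorem main10959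
    (K : Type u) [Field K] [IsAlgClosed K] (A : Over (Spec (CommRingCat.of K)))
    [GrpObj A] [IsProper A.hom] [Smooth A.hom] [IrreducibleSpace A.left]
    (Z : Set A.left) (hZ : IsClosed Z) (hZne : Z ≠ Set.univ)
    (z : 𝟙_ (Over (Spec (CommRingCat.of K))) ⟶ A) :
    ∃ x : 𝟙_ (Over (Spec (CommRingCat.of K))) ⟶ A,
      Disjoint (Set.range z.left.base)
        ((𝟙 A * (toUnit A ≫ x)).left.base '' Z ∪ (𝟙 A * (toUnit A ≫ x)⁻¹).left.base '' Z) := by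
  obtain ⟨p, hp⟩ : ∃ p, p ∉ Z := by
    by_contra h
    push_neg at h
    exact hZne (Set.eq_univ_of_forall h)
  let φ : A ⟶ A := (toUnit A ≫ z) * (𝟙 A)⁻¹
  let ψ : A ⟶ A := (toUnit A ≫ z) * 𝟙 A
  let φ' : A ⟶ A := (𝟙 A)⁻¹ * (toUnit A ≫ z)
  let ψ' : A ⟶ A := (toUnit A ≫ z)⁻¹ * 𝟙 A
  have hφ : φ' ≫ φ = 𝟙 A := phi_surj z
  have hψ : ψ' ≫ ψ = 𝟙 A := psi_surj z
  have hU₁ : IsOpen (φ.left ⁻¹' Zᶜ) := hZ.isOpen_compl.preimage φ.left.continuous
  have hU₂ : IsOpen (ψ.left ⁻¹' Zᶜ) := hZ.isOpen_compl.preimage ψ.left.continuous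
  have hn₁ : (φ.left ⁻¹' Zᶜ).Nonempty := by
    refine ⟨φ'.left p, ?_⟩
    change φ.left (φ'.left p) ∉ Z
    have := congr(($hφ).left p)
    rw [Over.comp_left, Scheme.Hom.comp_apply] at this
    rw [this]
    exact hp
  have hn₂ : (ψ.left ⁻¹' Zᶜ).Nonempty := by
    refine ⟨ψ'.left p, ?_⟩
    change ψ.left (ψ'.left p) ∉ Z
    have := congr(($hψ).left p)
    rw [Over.comp_left, Scheme.Hom.comp_apply] at this
    rw [this]
    exact hp
  have hne := nonempty_preirreducible_inter hU₁ hU₂ hn₁ hn₂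
  haveI : LocallyOfFiniteType A.hom := inferInstance
  obtain ⟨x, hx⟩ := exists_pt_mem A _ (hU₁.inter hU₂) hne
  refine ⟨x, ?_⟩
  rw [Set.disjoint_left]
  rintro _ ⟨t, rfl⟩ (⟨q, hqZ, hq⟩ | ⟨q, hqZ, hq⟩)
  · -- z t = R q
    have h1 := congr(($(rtrans_comp x)).left q)
    rw [Over.comp_left, Scheme.Hom.comp_apply] at h1
    change (𝟙 A * (toUnit A ≫ x)).left q = z.left t at hq
    rw [hq, ← Scheme.Hom.comp_apply, ← Over.comp_left, pt_comp_rtrans' x z, Over.comp_left,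
      Scheme.Hom.comp_apply] at h1
    have h2 : φ.left (x.left t) ∉ Z := (hx t).1
    apply h2
    rw [h1]
    exact hqZ
  · have h1 := congr(($(rtrans_comp' x)).left q)
    rw [Over.comp_left, Scheme.Hom.comp_apply] at h1
    change (𝟙 A * (toUnit A ≫ x)⁻¹).left q = z.left t at hq
    rw [hq, ← Scheme.Hom.comp_apply, ← Over.comp_left, pt_comp_rtrans x z, Over.comp_left,
      Scheme.Hom.comp_apply] at h1
    have h2 : ψ.left (x.left t) ∉ Z := (hx t).2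
    apply h2
    rw [h1]
    exact hqZ

end Groth.Agent.Lib.H9Avoid
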