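import Mathlib
import Groth.Agent.Lib.Helper28Reflexive

/-!
# helper9: S18709 — four-term free presentation of a reflexive module

* `exists_regular_inverse`: `M1 → M2 → D → 0` exact with `D`, `M2` projective gives `Q` with `PQP = P`;
* `projective_quotient_range_of_regular`: the cokernel of a regular map into a projective module
  is projective;
* `gMap`, `hMap`, `gMap_injective`, `exact_gMap_hMap`: dualizing a presentation of `F*`;
* `bLoc`, `locMapK`, `toMatrix_locMapK`: localizing maps of finite free modules, with matrices;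
* `exists_regular_hMap`, `thm709`.
-/

set_option autoImplicit false
set_option linter.unusedSectionVars false
set_option linter.style.haveILetI false
universe u v w

namespace Groth.Agent.Lib.H9QGor709
open Matrix Groth.Agent.Lib.Helper28

section Regular

variable {R : Type u} [CommRing R] {M1 : Type v} {M2 : Type v} {D : Type w}
  [AddCommGroup M1] [Module R M1] [AddCommGroup M2] [Module R M2] [AddCommGroup D] [Module R D]

/-- If `M1 → M2 → D → 0` is exact with `D` and `M2` projective, the first map is (von Neumann)
regular. -/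
theorem exists_regular_inverse [Module.Projective R D] [Module.Projective R M2]
    (P : M1 →ₗ[R] M2) (π : M2 →ₗ[R] D) (hπ : Function.Surjective π) (hex : Function.Exact P π) :
    ∃ Q : M2 →ₗ[R] M1, P ∘ₗ Q ∘ₗ P = P := by
  obtain ⟨s, hs⟩ := Module.projective_lifting_property π LinearMap.id hπ
  -- projection onto ker π
  let pr : M2 →ₗ[R] M2 := LinearMap.id - s ∘ₗ π
  have hpr : ∀ y, π (pr y) = 0 := by
    intro y
    have : π (s (π y)) = π y := LinearMap.congr_fun hs (π y)
    simp [pr, this]
  -- ker π = range P is projective as a direct summand of M2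
  let K : Submodule R M2 := LinearMap.ker π
  let prK : M2 →ₗ[R] K := pr.codRestrict K (fun y => hpr y)
  have hprK : ∀ k : K, prK k = k := by
    intro k
    apply Subtype.ext
    have hk : π k = 0 := k.2
    change pr (k : M2) = k
    simp only [pr, LinearMap.sub_apply, LinearMap.id_apply, LinearMap.comp_apply, hk, map_zero,
      sub_zero]
  haveI : Module.Projective R K :=
    Module.Projective.of_split K.subtype prK (LinearMap.ext hprK)
  let P' : M1 →ₗ[R] K := P.codRestrict K (fun x => hex.apply_apply_eq_zero x)
  have hP' : Function.Surjective P' := by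
    rintro ⟨k, hk⟩
    obtain ⟨x, hx⟩ := (hex k).mp hk
    exact ⟨x, Subtype.ext hx⟩
  obtain ⟨σ, hσ⟩ := Module.projective_lifting_property P' LinearMap.id hP'
  refine ⟨σ ∘ₗ prK, ?_⟩
  ext x
  have h1 : prK (P x) = P' x := by
    have := hprK (P' x)
    exact this
  have h2 : P' (σ (P' x)) = P' x := LinearMap.congr_fun hσ (P' x)
  simp only [LinearMap.comp_apply]
  rw [h1]
  exact congrArg Subtype.val h2

/-- The cokernel of a regular endo-type map into a projective module is projective. -/
theorem projective_quotient_range_of_regular {N T : Type v} [AddCommGroup N] [Module R N]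
    [AddCommGroup T] [Module R T] [Module.Projective R T]
    (h : N →ₗ[R] T) (Q : T →ₗ[R] N) (hreg : h ∘ₗ Q ∘ₗ h = h) :
    Module.Projective R (T ⧸ LinearMap.range h) := by
  let e : T →ₗ[R] T := h ∘ₗ Q
  have he : ∀ t, e (e t) = e t := by
    intro t
    have := LinearMap.congr_fun hreg (Q t)
    simpa [e] using this
  have hrange : LinearMap.range h = LinearMap.range e := by
    apply le_antisymm
    · rintro _ ⟨x, rfl⟩
      exact ⟨h x, LinearMap.congr_fun hreg x⟩
    · rintro _ ⟨t, rfl⟩
      exact ⟨Q t, rfl⟩
  -- `T ⧸ range e` is a retract of `T` via `1 - e`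
  let i : (T ⧸ LinearMap.range h) →ₗ[R] T :=
    (LinearMap.range h).liftQ (LinearMap.id - e) (by
      rw [hrange]
      rintro _ ⟨t, rfl⟩
      simp [he])
  have hi : (LinearMap.range h).mkQ ∘ₗ i = LinearMap.id := by
    apply Submodule.linearMap_qext
    ext t
    simp only [LinearMap.comp_apply, Submodule.mkQ_apply, LinearMap.id_apply, i,
      Submodule.liftQ_apply, LinearMap.sub_apply]
    rw [Submodule.Quotient.mk_sub, sub_eq_self, Submodule.Quotient.mk_eq_zero, hrange]
    exact ⟨t, rfl⟩
  exact Module.Projective.of_split i (LinearMap.range h).mkQ hi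

end Regular


section Construct

variable {B : Type u} [CommRing B] (F : Type u) [AddCommGroup F] [Module B F]
  {n m : ℕ} (π : (Fin n → B) →ₗ[B] Module.Dual B F) (P : (Fin m → B) →ₗ[B] (Fin n → B))

/-- `g x = (d_i x)_i` where `d_i = π e_i`. -/
noncomputable def gMap : F →ₗ[B] (Fin n → B) :=
  LinearMap.pi (fun i => π (Pi.single i 1))

/-- `h = Pᵀ`. -/
noncomputable def hMap : (Fin n → B) →ₗ[B] (Fin m → B) :=
  Matrix.toLin' (LinearMap.toMatrix' P)ᵀ

theorem gMap_apply (x : F) (i : Fin n) : gMap F π x i = π (Pi.single i 1) x := rfl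

theorem hMap_apply (y : Fin n → B) (j : Fin m) :
    hMap P y j = ∑ i, P (Pi.single j 1) i * y i := by
  simp only [hMap, Matrix.toLin'_apply, Matrix.mulVec, dotProduct, Matrix.transpose_apply,
    LinearMap.toMatrix'_apply]

theorem pi_eq_sum (z : Fin n → B) : π z = ∑ i, z i • π (Pi.single i 1) := by
  conv_lhs => rw [← (Pi.basisFun B (Fin n)).sum_repr z]
  rw [map_sum]
  simp only [Pi.basisFun_repr, Pi.basisFun_apply, map_smul]

variable {F} {π} {P}

theorem hMap_gMap (hex : Function.Exact P π) (x : F) : hMap P (gMap F π x) = 0 := by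
  ext j
  rw [hMap_apply]
  simp only [gMap_apply, Pi.zero_apply]
  have h1 : π (P (Pi.single j 1)) = 0 := hex.apply_apply_eq_zero _
  have h2 := LinearMap.congr_fun h1 x
  rw [pi_eq_sum F π (P (Pi.single j 1))] at h2
  simpa [LinearMap.sum_apply, LinearMap.smul_apply] using h2

theorem gMap_injective [Module.IsReflexive B F] (hπ : Function.Surjective π) :
    Function.Injective (gMap F π) := by
  rw [injective_iff_map_eq_zero]
  intro x hx
  have hev : Module.Dual.eval B F x = 0 := by
    ext d
    obtain ⟨z, rfl⟩ := hπ d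
    rw [Module.Dual.eval_apply, pi_eq_sum F π z]
    simp only [LinearMap.sum_apply, LinearMap.smul_apply, LinearMap.zero_apply]
    apply Finset.sum_eq_zero
    intro i _
    have : gMap F π x i = 0 := by rw [hx]; rfl
    rw [gMap_apply] at this
    rw [this, smul_zero]
  exact (Module.IsReflexive.bijective_dual_eval' (R := B) (M := F)).1 (by rw [hev, map_zero])

theorem exact_gMap_hMap [Module.IsReflexive B F] (hπ : Function.Surjective π)
    (hex : Function.Exact P π) : Function.Exact (gMap F π) (hMap P) := by
  intro y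
  constructor
  · intro hy
    -- the functional `λ_y z = Σ y_i z_i`
    let lam : (Fin n → B) →ₗ[B] B :=
      { toFun := fun z => ∑ i, z i * y i
        map_add' := fun z z' => by simp [add_mul, Finset.sum_add_distrib]
        map_smul' := fun c z => by simp [Finset.mul_sum, mul_assoc] }
    have hlamP : ∀ x, lam (P x) = 0 := by
      intro x
      have hx : P x = ∑ j, x j • P (Pi.single j 1) := by
        conv_lhs => rw [← (Pi.basisFun B (Fin m)).sum_repr x]
        rw [map_sum]
        simp only [Pi.basisFun_repr, Pi.basisFun_apply, map_smul]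
      rw [hx, map_sum]
      apply Finset.sum_eq_zero
      intro j _
      rw [map_smul]
      have := congrFun hy j
      rw [hMap_apply] at this
      change x j • (∑ i, P (Pi.single j 1) i * y i) = 0
      rw [this]
      simp
    have hker : LinearMap.ker π ≤ LinearMap.ker lam := by
      intro z hz
      obtain ⟨x, rfl⟩ := (hex z).mp hz
      exact hlamP x
    let ψ : Module.Dual B F →ₗ[B] B :=
      ((LinearMap.ker π).liftQ lam hker) ∘ₗ (π.quotKerEquivOfSurjective hπ).symm.toLinearMap
    have hψ : ∀ z, ψ (π z) = lam z := by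
      intro z
      simp only [ψ, LinearMap.comp_apply, LinearEquiv.coe_coe]
      have : (π.quotKerEquivOfSurjective hπ).symm (π z) = Submodule.Quotient.mk z := by
        rw [LinearEquiv.symm_apply_eq]
        rfl
      rw [this, Submodule.liftQ_apply]
    obtain ⟨x, hx⟩ := (Module.IsReflexive.bijective_dual_eval' (R := B) (M := F)).2 ψ
    refine ⟨x, ?_⟩
    ext i
    rw [gMap_apply]
    have h1 : ψ (π (Pi.single i 1)) = π (Pi.single i 1) x := by
      rw [← hx, Module.Dual.eval_apply]
    rw [← h1, hψ]
    change ∑ k, (Pi.single i (1 : B) : Fin n → B) k * y k = y i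
    rw [Finset.sum_eq_single i]
    · simp
    · intro k _ hk
      rw [Pi.single_eq_of_ne hk, zero_mul]
    · intro hi
      exact absurd (Finset.mem_univ i) hi
  · rintro ⟨x, rfl⟩
    exact hMap_gMap hex x

end Construct


section Localize

variable {B : Type u} [CommRing B] [IsNoetherianRing B] (q : Ideal B) [q.IsPrime]
  (F : Type u) [AddCommGroup F] [Module B F] [Module.Finite B F]
  {n m : ℕ} (π : (Fin n → B) →ₗ[B] Module.Dual B F) (P : (Fin m → B) →ₗ[B] (Fin n → B))

/-- the localized free modules -/
abbrev LM (k : ℕ) : Type u := LocalizedModule q.primeCompl (Fin k → B)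

noncomputable def bLoc (k : ℕ) : Module.Basis (Fin k) (Localization.AtPrime q) (LM q k) :=
  (Pi.basisFun B (Fin k)).ofIsLocalizedModule (Localization.AtPrime q) q.primeCompl
    (LocalizedModule.mkLinearMap q.primeCompl (Fin k → B))

theorem bLoc_apply (k : ℕ) (i : Fin k) :
    bLoc q k i = LocalizedModule.mkLinearMap q.primeCompl (Fin k → B) (Pi.single i 1) := by
  rw [bLoc, Module.Basis.ofIsLocalizedModule_apply, Pi.basisFun_apply]

theorem bLoc_repr_mk (k : ℕ) (x : Fin k → B) (i : Fin k) :
    (bLoc q k).repr (LocalizedModule.mkLinearMap q.primeCompl (Fin k → B) x) i =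
      algebraMap B (Localization.AtPrime q) (x i) := by
  rw [bLoc, Module.Basis.ofIsLocalizedModule_repr_apply, Pi.basisFun_repr]

/-- localization of a map between the free modules -/
noncomputable def locMapK {k l : ℕ} (φ : (Fin k → B) →ₗ[B] (Fin l → B)) :
    LM q k →ₗ[Localization.AtPrime q] LM q l :=
  (IsLocalizedModule.map q.primeCompl (LocalizedModule.mkLinearMap q.primeCompl (Fin k → B))
    (LocalizedModule.mkLinearMap q.primeCompl (Fin l → B)) φ).extendScalarsOfIsLocalization
      q.primeCompl (Localization.AtPrime q)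

theorem locMapK_mk {k l : ℕ} (φ : (Fin k → B) →ₗ[B] (Fin l → B)) (x : Fin k → B) :
    locMapK q φ (LocalizedModule.mkLinearMap q.primeCompl (Fin k → B) x) =
      LocalizedModule.mkLinearMap q.primeCompl (Fin l → B) (φ x) := by
  simp only [locMapK, LinearMap.extendScalarsOfIsLocalization_apply']
  exact IsLocalizedModule.map_apply _ _ _ _ _

theorem toMatrix_locMapK {k l : ℕ} (φ : (Fin k → B) →ₗ[B] (Fin l → B)) :
    LinearMap.toMatrix (bLoc q k) (bLoc q l) (locMapK q φ) =
      (LinearMap.toMatrix' φ).map (algebraMap B (Localization.AtPrime q)) := by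
  ext i j
  rw [LinearMap.toMatrix_apply, bLoc_apply, locMapK_mk, bLoc_repr_mk, Matrix.map_apply,
    LinearMap.toMatrix'_apply]

theorem toMatrix_locMapK_hMap :
    LinearMap.toMatrix (bLoc q n) (bLoc q m) (locMapK q (hMap P)) =
      (LinearMap.toMatrix (bLoc q m) (bLoc q n) (locMapK q P))ᵀ := by
  rw [toMatrix_locMapK, toMatrix_locMapK, hMap, LinearMap.toMatrix'_toLin', Matrix.transpose_map]

/-- the localized `π` -/
noncomputable def locPi : LM q n →ₗ[Localization.AtPrime q]
    Module.Dual (Localization.AtPrime q) (LocalizedModule q.primeCompl F) :=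
  (IsLocalizedModule.map q.primeCompl (LocalizedModule.mkLinearMap q.primeCompl (Fin n → B))
    (dualLoc q F) π).extendScalarsOfIsLocalization q.primeCompl (Localization.AtPrime q)

variable {π P}

theorem exists_regular_hMap (hπ : Function.Surjective π) (hex : Function.Exact P π)
    [Module.Free (Localization.AtPrime q) (LocalizedModule q.primeCompl F)] :
    ∃ Q : LM q m →ₗ[Localization.AtPrime q] LM q n,
      locMapK q (hMap P) ∘ₗ Q ∘ₗ locMapK q (hMap P) = locMapK q (hMap P) := by
  haveI : Module.Free (Localization.AtPrime q) (LM q n) := Module.Free.of_basis (bLoc q n)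
  have hsurj : Function.Surjective (locPi q F π) :=
    IsLocalizedModule.map_surjective q.primeCompl _ _ π hπ
  have hexact : Function.Exact (locMapK q P) (locPi q F π) :=
    IsLocalizedModule.map_exact q.primeCompl _ _ _ P π hex
  obtain ⟨Q0, hQ0⟩ := exists_regular_inverse (locMapK q P) (locPi q F π) hsurj hexact
  set M' := LinearMap.toMatrix (bLoc q m) (bLoc q n) (locMapK q P) with hM'
  set N' := LinearMap.toMatrix (bLoc q n) (bLoc q m) Q0 with hN'
  have hmat : M' * N' * M' = M' := by
    rw [hM', hN', ← LinearMap.toMatrix_comp, ← LinearMap.toMatrix_comp, LinearMap.comp_assoc, hQ0]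
  refine ⟨Matrix.toLin (bLoc q m) (bLoc q n) N'ᵀ, ?_⟩
  apply (LinearMap.toMatrix (bLoc q n) (bLoc q m)).injective
  rw [LinearMap.toMatrix_comp (bLoc q n) (bLoc q n) (bLoc q m),
    LinearMap.toMatrix_comp (bLoc q n) (bLoc q m) (bLoc q n), LinearMap.toMatrix_toLin,
    toMatrix_locMapK_hMap, ← hM', ← Matrix.transpose_mul, ← Matrix.transpose_mul, hmat]

end Localize


theorem thm709 (B : Type u) [CommRing B] [IsNoetherianRing B]
    (J : Ideal B) (F : Type u) [AddCommGroup F] [Module B F] [Module.Finite B F] [Module.IsReflexive B F]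
    (hU : ∀ q : PrimeSpectrum B, ¬ J ≤ q.asIdeal →
      Module.Free (Localization.AtPrime q.asIdeal) (LocalizedModule q.asIdeal.primeCompl F)) :
    ∃ (n m : ℕ) (g : F →ₗ[B] (Fin n → B)) (h : (Fin n → B) →ₗ[B] (Fin m → B)),
      Function.Injective g ∧ Function.Exact g h ∧
      ∀ q : PrimeSpectrum B, ¬ J ≤ q.asIdeal →
        Module.Free (Localization.AtPrime q.asIdeal)
          (LocalizedModule q.asIdeal.primeCompl ((Fin m → B) ⧸ LinearMap.range h)) := by
  haveI : Module.Finite B (Module.Dual B F) := inferInstance
  obtain ⟨n, π, hπ⟩ := Module.Finite.exists_fin' B (Module.Dual B F)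
  haveI : Module.Finite B (LinearMap.ker π) :=
    Module.Finite.iff_fg.mpr (IsNoetherian.noetherian (LinearMap.ker π))
  obtain ⟨m, ρ, hρ⟩ := Module.Finite.exists_fin' B (LinearMap.ker π)
  let P : (Fin m → B) →ₗ[B] (Fin n → B) := (LinearMap.ker π).subtype ∘ₗ ρ
  have hex : Function.Exact P π := by
    intro y
    constructor
    · intro hy
      obtain ⟨x, hx⟩ := hρ ⟨y, hy⟩
      exact ⟨x, by simp [P, hx]⟩
    · rintro ⟨x, rfl⟩
      exact (ρ x).2
  refine ⟨n, m, gMap F π, hMap P, gMap_injective hπ, exact_gMap_hMap hπ hex, fun q hq => ?_⟩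
  haveI := hU q hq
  obtain ⟨Q, hQ⟩ := exists_regular_hMap q.asIdeal F hπ hex
  haveI : Module.Free (Localization.AtPrime q.asIdeal) (LM q.asIdeal m) :=
    Module.Free.of_basis (bLoc q.asIdeal m)
  have hproj : Module.Projective (Localization.AtPrime q.asIdeal)
      (LM q.asIdeal m ⧸ LinearMap.range (locMapK q.asIdeal (hMap P))) :=
    projective_quotient_range_of_regular _ Q hQ
  have heq : (LinearMap.range (hMap P)).localized q.asIdeal.primeCompl =
      LinearMap.range (locMapK q.asIdeal (hMap P)) :=
    LinearMap.localized'_range_eq_range_localizedMap (Localization.AtPrime q.asIdeal)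
      q.asIdeal.primeCompl (LocalizedModule.mkLinearMap q.asIdeal.primeCompl (Fin n → B))
      (LocalizedModule.mkLinearMap q.asIdeal.primeCompl (Fin m → B)) (hMap P)
  let e := (Submodule.quotEquivOfEq _ _ heq).symm.trans
    (localizedQuotientEquiv q.asIdeal.primeCompl (LinearMap.range (hMap P)))
  haveI : Module.Projective (Localization.AtPrime q.asIdeal)
      (LocalizedModule q.asIdeal.primeCompl ((Fin m → B) ⧸ LinearMap.range (hMap P))) :=
    Module.Projective.of_equiv e
  haveI : Module.FinitePresentation (Localization.AtPrime q.asIdeal)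
      (LocalizedModule q.asIdeal.primeCompl ((Fin m → B) ⧸ LinearMap.range (hMap P))) :=
    Module.finitePresentation_of_finite _ _
  exact Module.free_of_flat_of_isLocalRing

end Groth.Agent.Lib.H9QGor709
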