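import Mathlib
import Groth.Agent.Lib.H9QGor711
import Groth.Agent.Lib.H9QGor709

set_option autoImplicit false
set_option linter.style.haveILetI false
set_option linter.unusedSectionVars false
universe u v w
set_option linter.deprecated false

namespace Groth.Agent.Lib.H9QGor718

-- ===== from QD1 =====
section SecQD1
open Groth.Agent.Lib.Helper28
open TensorProduct

section Quasi

variable {R : Type u} [CommRing R] {M : Type v} {N : Type w} [AddCommGroup M] [Module R M]
  [AddCommGroup N] [Module R N]

/-- A map with an inverse up to multiplication by `s ∈ S` is bijective after localizing at `S`. -/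
theorem bijective_localizedModule_map_of_comp_eq_smul (S : Submonoid R) (f : M →ₗ[R] N)
    (g : N →ₗ[R] M) (s : R) (hs : s ∈ S)
    (hgf : ∀ m, g (f m) = s • m) (hfg : ∀ n, f (g n) = s • n) :
    Function.Bijective (LocalizedModule.map S f) := by
  constructor
  · rw [injective_iff_map_eq_zero]
    intro z hz
    induction z using LocalizedModule.induction_on with
    | h m t =>
      rw [LocalizedModule.map_mk, ← LocalizedModule.zero_mk t, LocalizedModule.mk_eq] at hz
      obtain ⟨c, hc⟩ := hz
      simp only [Submonoid.smul_def, smul_zero] at hc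
      rw [← LocalizedModule.zero_mk t, LocalizedModule.mk_eq]
      refine ⟨c * t * ⟨s, hs⟩, ?_⟩
      simp only [Submonoid.smul_def, smul_zero, Submonoid.coe_mul]
      have h1 : g ((c : R) • (t : R) • f m) = 0 := by rw [hc, map_zero]
      rw [map_smul, map_smul, hgf] at h1
      have h2 : (t : R) • ((c : R) • (t : R) • s • m) = 0 := by rw [h1, smul_zero]
      rw [← h2]
      simp only [smul_smul]
      congr 1
      ring
  · intro z
    induction z using LocalizedModule.induction_on with
    | h n t =>
      refine ⟨LocalizedModule.mk (g n) (⟨s, hs⟩ * t), ?_⟩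
      rw [LocalizedModule.map_mk, hfg, LocalizedModule.mk_eq]
      refine ⟨1, ?_⟩
      simp only [Submonoid.smul_def, one_smul, mul_smul]
      rw [smul_comm]

variable (q : Ideal R) [q.IsPrime]

/-- Uniform denominators on a finitely generated submodule. -/
theorem exists_forall_smul_mem_of_fg (K N' : Submodule R M) (hK : K.FG)
    (h : ∀ x ∈ K, ∃ s ∉ q, s • x ∈ N') : ∃ s ∉ q, ∀ x ∈ K, s • x ∈ N' := by
  classical
  obtain ⟨T, rfl⟩ := hK
  choose! σ hσ hσ' using h
  refine ⟨∏ t ∈ T, σ t, ?_, ?_⟩
  · intro hmem
    obtain ⟨t, ht, htq⟩ := (Ideal.IsPrime.prod_mem_iff).mp hmem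
    exact hσ t (Submodule.subset_span ht) htq
  · intro x hx
    have hle : Submodule.span R (T : Set M) ≤
        N'.comap ((∏ t ∈ T, σ t) • (LinearMap.id : M →ₗ[R] M)) := by
      rw [Submodule.span_le]
      intro t ht
      change (∏ t ∈ T, σ t) • t ∈ N'
      rw [← Finset.prod_erase_mul T σ ht, mul_smul]
      exact N'.smul_mem _ (hσ' t (Submodule.subset_span ht))
    exact hle hx

end Quasi

section QuasiInverse

variable {B : Type u} [CommRing B] [IsNoetherianRing B] (q : Ideal B) [q.IsPrime]
  (F : Type u) [AddCommGroup F] [Module B F] [Module.Finite B F]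

/-- If `F_q` is reflexive, `eval : F → F^∨∨` has an inverse up to an element outside `q`. -/
theorem exists_quasi_inverse_eval
    [hR : Module.IsReflexive (Localization.AtPrime q) (LocalizedModule q.primeCompl F)] :
    ∃ (s : B) (θ : Module.Dual B (Module.Dual B F) →ₗ[B] F), s ∉ q ∧
      (∀ x, θ (Module.Dual.eval B F x) = s • x) ∧
      (∀ y, Module.Dual.eval B F (θ y) = s • y) := by
  set ε := Module.Dual.eval B F with hε
  -- kernel killed
  obtain ⟨s₁, hs₁, h₁⟩ := exists_forall_smul_mem_of_fg q (LinearMap.ker ε) ⊥
    (IsNoetherian.noetherian _) (fun x hx => by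
      obtain ⟨s, hs, hsx⟩ := exists_smul_eq_zero_of_eval_eq_zero q F x hx
      exact ⟨s, hs, by simpa using hsx⟩)
  -- cokernel killed
  haveI : Module.Finite B (Module.Dual B (Module.Dual B F)) := inferInstance
  obtain ⟨s₂, hs₂, h₂⟩ := exists_forall_smul_mem_of_fg q
    (⊤ : Submodule B (Module.Dual B (Module.Dual B F))) (LinearMap.range ε)
    Module.Finite.fg_top (fun y _ => exists_smul_mem_range_eval q F y)
  let a : Module.Dual B (Module.Dual B F) →ₗ[B] LinearMap.range ε :=
    LinearMap.codRestrict (LinearMap.range ε) (s₂ • LinearMap.id)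
      (fun y => h₂ y Submodule.mem_top)
  let e : (F ⧸ LinearMap.ker ε) ≃ₗ[B] LinearMap.range ε := LinearMap.quotKerEquivRange ε
  let b : (F ⧸ LinearMap.ker ε) →ₗ[B] F :=
    (LinearMap.ker ε).liftQ (s₁ • LinearMap.id) (fun x hx => by
      have := h₁ x hx
      simpa using this)
  refine ⟨s₁ * s₂, b ∘ₗ e.symm.toLinearMap ∘ₗ a, ?_, ?_, ?_⟩
  · intro hmem
    rcases Ideal.IsPrime.mem_or_mem ‹q.IsPrime› hmem with h | h
    · exact hs₁ h
    · exact hs₂ h
  · intro x
    have h1 : a (ε x) = e (Submodule.Quotient.mk (s₂ • x)) := by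
      apply Subtype.ext
      simp [a, e]
    simp only [LinearMap.comp_apply, LinearEquiv.coe_coe]
    rw [h1, LinearEquiv.symm_apply_apply]
    simp [b, mul_smul]
    rw [smul_comm]
  · intro y
    simp only [LinearMap.comp_apply, LinearEquiv.coe_coe]
    obtain ⟨x, hx⟩ := Submodule.Quotient.mk_surjective _ (e.symm (a y))
    have h2 : e (Submodule.Quotient.mk x) = a y := by rw [hx, LinearEquiv.apply_symm_apply]
    have h3 : ε x = s₂ • y := by
      have := congrArg Subtype.val h2
      simpa [a, e] using this
    rw [← hx]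
    simp only [b, Submodule.liftQ_apply, LinearMap.smul_apply, LinearMap.id_apply, map_smul]
    rw [h3, mul_smul]

end QuasiInverse

end SecQD1

-- ===== from QD3 =====
section SecQD3
open Groth.Agent.Lib.Helper28
open TensorProduct

section BC

variable (A B A' B' : Type u) [CommRing A] [CommRing B] [CommRing A'] [CommRing B']
  [Algebra A B] [Algebra A A'] [Algebra B B'] [Algebra A' B'] [Algebra A B']
  [IsScalarTower A B B'] [IsScalarTower A A' B'] [Algebra.IsPushout A B A' B']
  {M N P : Type u} [AddCommGroup M] [Module B M] [Module A M] [IsScalarTower A B M]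
  [AddCommGroup N] [Module B N] [Module A N] [IsScalarTower A B N]
  [AddCommGroup P] [Module B P] [Module A P] [IsScalarTower A B P]

/-- naturality of `cancelBaseChange` -/
theorem cancelBaseChange_symm_natural [Algebra.IsPushout A A' B B'] (i : M →ₗ[B] N)
    (z : A' ⊗[A] M) :
    (Algebra.IsPushout.cancelBaseChange A A' B B' N).symm ((i.restrictScalars A).lTensor A' z) =
      i.baseChange B' ((Algebra.IsPushout.cancelBaseChange A A' B B' M).symm z) := by
  induction z using TensorProduct.induction_on with
  | zero => simp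
  | tmul a m =>
    rw [LinearMap.lTensor_tmul, Algebra.IsPushout.cancelBaseChange_symm_tmul,
      Algebra.IsPushout.cancelBaseChange_symm_tmul, LinearMap.baseChange_tmul]
    rfl
  | add z w hz hw => rw [map_add, map_add, map_add, map_add, hz, hw]

include A' in
/-- Base change along a pushout preserves injectivity when the cokernel is flat over the base. -/
theorem baseChange_injective_of_exact_of_flat [Module.Flat A P]
    (i : M →ₗ[B] N) (p : N →ₗ[B] P) (hi : Function.Injective i) (hp : Function.Surjective p)
    (hex : Function.Exact i p) : Function.Injective (i.baseChange B') := by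
  haveI : Algebra.IsPushout A A' B B' := Algebra.IsPushout.symm inferInstance
  have hA : Function.Injective ((i.restrictScalars A).lTensor A') :=
    LinearMap.lTensor_injective_of_exact_of_flat (p.restrictScalars A) hp
      (i.restrictScalars A) hi hex A'
  intro x y hxy
  obtain ⟨x', rfl⟩ := (Algebra.IsPushout.cancelBaseChange A A' B B' M).symm.surjective x
  obtain ⟨y', rfl⟩ := (Algebra.IsPushout.cancelBaseChange A A' B B' M).symm.surjective y
  rw [← cancelBaseChange_symm_natural, ← cancelBaseChange_symm_natural] at hxy
  rw [hA ((Algebra.IsPushout.cancelBaseChange A A' B B' N).symm.injective hxy)]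

end BC

end SecQD3

-- ===== from QD2 =====
section SecQD2
open Groth.Agent.Lib.Helper28 Groth.Agent.Lib.H9QGor725 Groth.Agent.Lib.H9QGor711
open TensorProduct

section Part12

variable (A B : Type u) [CommRing A] [CommRing B] [IsNoetherianRing A] [IsNoetherianRing B]
  [Algebra A B]
  (A' B' : Type u) [CommRing A'] [CommRing B'] [IsNoetherianRing A'] [IsNoetherianRing B']
  [Algebra A A'] [Algebra B B'] [Algebra A' B'] [Algebra A B'] [IsScalarTower A B B']
  [IsScalarTower A A' B']
  [Algebra.IsPushout A B A' B'] [Module.Flat A B] (J : Ideal B)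
  (hZ : ∀ q : PrimeSpectrum B, J ≤ q.asIdeal →
    2 ≤ LocCoh.idealDepth (q.asIdeal.map (algebraMap B (EGA4.FibLocRing A B q.asIdeal)))
      (EGA4.FibLocRing A B q.asIdeal))
  (F : Type u) [AddCommGroup F] [Module B F] [Module.Finite B F]
  (hFU : ∀ q : PrimeSpectrum B, ¬ J ≤ q.asIdeal →
    Module.Free (Localization.AtPrime q.asIdeal) (LocalizedModule q.asIdeal.primeCompl F))

include hZ in
theorem part1 : 2 ≤ LocCoh.idealDepth J (Module.Dual B (Module.Dual B F)) :=
  two_le_idealDepth_dual J (Module.Dual B F)
    (natCast_le_idealDepth_self_of_forall_fibLocRing (A := A) J 2 hZ)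

include A A' hZ hFU in
theorem part2 :
    Function.Bijective (((Module.Dual.eval B F).baseChange B').dualMap.dualMap) := by
  set φ := (Module.Dual.eval B F).baseChange B' with hφ
  have hB2 : 2 ≤ LocCoh.idealDepth (J.map (algebraMap B B')) B' := two_le_idealDepth_map A' J hZ
  have hψ : Function.Bijective φ.dualMap := by
    haveI : Module.Finite B' (Module.Dual B' (B' ⊗[B] Module.Dual B (Module.Dual B F))) :=
      inferInstance
    refine bijective_of_localization_depth_two φ.dualMap ?_
    intro p' _
    by_cases hJ : J.map (algebraMap B B') ≤ p'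
    · right
      constructor
      · exact (two_le_idealDepth_dual _ _ hB2).trans (idealDepth_le_depth_localization p' _ hJ)
      · intro hass
        obtain ⟨hp, x, hx⟩ := isAssociatedPrime_iff.mp hass
        have hx0 : x = 0 := by
          refine eq_zero_of_one_le_idealDepth_of_forall_pow (J.map (algebraMap B B'))
            (one_le_idealDepth_dual _ _ (le_trans (by norm_num) hB2)) x ?_
          intro r hr
          refine ⟨1, ?_⟩
          have : r ∈ p' := hJ hr
          rw [hx, Submodule.mem_colon_singleton, Submodule.mem_bot] at this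
          rw [pow_one, this]
        apply hp.ne_top
        rw [hx, hx0]
        ext r
        simp [Submodule.mem_colon_singleton]
    · left
      have hJq : ¬ J ≤ p'.comap (algebraMap B B') :=
        fun h => hJ (Ideal.map_le_iff_le_comap.mpr h)
      haveI := hFU ⟨p'.comap (algebraMap B B'), inferInstance⟩ hJq
      haveI : Module.IsReflexive (Localization.AtPrime (p'.comap (algebraMap B B')))
          (LocalizedModule (p'.comap (algebraMap B B')).primeCompl F) := inferInstance
      obtain ⟨s, θ, hs, h1, h2⟩ := exists_quasi_inverse_eval (p'.comap (algebraMap B B')) F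
      have hs' : algebraMap B B' s ∈ p'.primeCompl := hs
      have hφθ : ∀ z, φ (θ.baseChange B' z) = algebraMap B B' s • z := by
        intro z
        induction z using TensorProduct.induction_on with
        | zero => simp
        | tmul b y =>
          rw [LinearMap.baseChange_tmul, hφ, LinearMap.baseChange_tmul, h2, algebraMap_smul,
            TensorProduct.tmul_smul]
        | add z w hz hw => rw [map_add, map_add, hz, hw, smul_add]
      have hθφ : ∀ z, θ.baseChange B' (φ z) = algebraMap B B' s • z := by
        intro z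
        induction z using TensorProduct.induction_on with
        | zero => simp
        | tmul b y =>
          rw [hφ, LinearMap.baseChange_tmul, LinearMap.baseChange_tmul, h1, algebraMap_smul,
            TensorProduct.tmul_smul]
        | add z w hz hw => rw [map_add, map_add, hz, hw, smul_add]
      refine bijective_localizedModule_map_of_comp_eq_smul p'.primeCompl φ.dualMap
        (θ.baseChange B').dualMap (algebraMap B B' s) hs' ?_ ?_
      · intro m
        refine LinearMap.ext fun z => ?_
        simp only [LinearMap.dualMap_apply, LinearMap.smul_apply]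
        rw [hφθ, map_smul]
      · intro m
        refine LinearMap.ext fun z => ?_
        simp only [LinearMap.dualMap_apply, LinearMap.smul_apply]
        rw [hθφ, map_smul]
  exact (LinearEquiv.ofBijective φ.dualMap hψ).dualMap.bijective

end Part12

end SecQD2

-- ===== from QD4 =====
section SecQD4
open Groth.Agent.Lib.Helper28 Groth.Agent.Lib.H9QGor725 Groth.Agent.Lib.H9QGor711
open TensorProduct

section Part3

variable (A B : Type u) [CommRing A] [CommRing B] [IsNoetherianRing A] [IsNoetherianRing B]
  [Algebra A B]
  (A' B' : Type u) [CommRing A'] [CommRing B'] [IsNoetherianRing A'] [IsNoetherianRing B']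
  [Algebra A A'] [Algebra B B'] [Algebra A' B'] [Algebra A B'] [IsScalarTower A B B']
  [IsScalarTower A A' B']
  [Algebra.IsPushout A B A' B'] [Module.Flat A B] (J : Ideal B)
  (hZ : ∀ q : PrimeSpectrum B, J ≤ q.asIdeal →
    2 ≤ LocCoh.idealDepth (q.asIdeal.map (algebraMap B (EGA4.FibLocRing A B q.asIdeal)))
      (EGA4.FibLocRing A B q.asIdeal))
  (F E0 E1 G : Type u) [AddCommGroup F] [Module B F] [Module A F] [IsScalarTower A B F]
  [Module.Finite B F]
  [AddCommGroup E0] [Module B E0] [Module A E0] [IsScalarTower A B E0] [Module.Finite B E0]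
  [Module.Projective B E0]
  [AddCommGroup E1] [Module B E1] [Module A E1] [IsScalarTower A B E1] [Module.Finite B E1]
  [Module.Projective B E1]
  [AddCommGroup G] [Module B G] [Module A G] [IsScalarTower A B G] [Module.Finite B G]
  (f : F →ₗ[B] E0) (u : E0 →ₗ[B] E1) (v : E1 →ₗ[B] G)
  (hf : Function.Injective f) (hfu : Function.Exact f u) (huv : Function.Exact u v)
  (hv : Function.Surjective v)
  (hGU : ∀ q : PrimeSpectrum B, ¬ J ≤ q.asIdeal →
    Module.Free (Localization.AtPrime q.asIdeal) (LocalizedModule q.asIdeal.primeCompl G))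
  (hD : ∀ q : PrimeSpectrum B, J ≤ q.asIdeal →
    2 ≤ LocCoh.idealDepth (q.asIdeal.map (algebraMap B (EGA4.FibLocRing A B q.asIdeal)))
      (EGA4.FibLocMod A B q.asIdeal F))

include hZ hf hfu huv hv hGU hD in
theorem flat_coker : Module.Flat A G := by
  haveI : Module.Flat A E0 := Module.Flat.trans A B _
  haveI : Module.Flat A E1 := Module.Flat.trans A B _
  have h0 : ∀ q : PrimeSpectrum B, J ≤ q.asIdeal →
      2 ≤ LocCoh.idealDepth (q.asIdeal.map (algebraMap B (EGA4.FibLocRing A B q.asIdeal)))
        (EGA4.FibLocMod A B q.asIdeal E0) := fun q hq =>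
    (hZ q hq).trans (idealDepth_fibLocRing_le_fibLocMod_of_flat' (A := A) q.asIdeal _ _)
  have h1 : ∀ q : PrimeSpectrum B, J ≤ q.asIdeal →
      1 ≤ LocCoh.idealDepth (q.asIdeal.map (algebraMap B (EGA4.FibLocRing A B q.asIdeal)))
        (EGA4.FibLocMod A B q.asIdeal E1) := fun q hq =>
    (le_trans (by norm_num) (hZ q hq)).trans
      (idealDepth_fibLocRing_le_fibLocMod_of_flat' (A := A) q.asIdeal _ _)
  have key : ∀ k : ℕ, ∀ q : PrimeSpectrum B, q.asIdeal.height < (k : ℕ∞) →
      FlatCA.FlatAt A q.asIdeal G := by
    intro k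
    induction k with
    | zero =>
      intro q hq
      exact absurd hq (by simp)
    | succ k ih =>
      intro q hq
      by_cases hJq : J ≤ q.asIdeal
      · refine (local_package q.asIdeal F E0 E1 G f u v hf hfu huv hv ?_ (h0 q hJq)
          (h1 q hJq)).mp (hD q hJq)
        intro q' hlt
        apply ih q'
        have h1 : q'.asIdeal.height < q.asIdeal.height :=
          Ideal.height_strict_mono_of_isPrime_of_isPrime hlt
        have h2 : q.asIdeal.height ≤ (k : ℕ∞) := by
          rw [Nat.cast_succ] at hq
          exact (ENat.lt_add_one_iff (ENat.coe_ne_top k)).mp hq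
        exact lt_of_lt_of_le h1 h2
      · exact flatAt_of_free_loc q.asIdeal G (hGU q hJq)
  refine Module.flat_of_isLocalized_maximal B G
    (fun P _ => LocalizedModule P.primeCompl G)
    (fun P _ => LocalizedModule.mkLinearMap P.primeCompl _) ?_
  intro P hP
  haveI := hP.isPrime
  have hfin : P.height < ⊤ := Ideal.height_lt_top_of_isPrime
  obtain ⟨m, hm⟩ := ENat.ne_top_iff_exists.mp hfin.ne
  apply key (m + 1) ⟨P, hP.isPrime⟩
  rw [← hm]
  exact_mod_cast Nat.lt_succ_self m

include A' hZ hf hfu huv hv hGU in
theorem isReflexive_baseChange [Module.Flat A G] :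
    Module.IsReflexive B' (B' ⊗[B] F) := by
  haveI : Module.Flat A E0 := Module.Flat.trans A B _
  haveI : Module.Flat A E1 := Module.Flat.trans A B _
  -- the image of u
  let K : Submodule B E1 := LinearMap.range u
  have hex2 : Function.Exact K.subtype v := by
    intro y
    rw [huv y]
    constructor
    · rintro ⟨e, rfl⟩; exact ⟨⟨u e, e, rfl⟩, rfl⟩
    · rintro ⟨⟨_, e, rfl⟩, rfl⟩; exact ⟨e, rfl⟩
  have hex1 : Function.Exact f u.rangeRestrict := by
    intro y
    rw [← hfu y]
    constructor
    · intro h; exact congrArg Subtype.val h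
    · intro h; exact Subtype.ext h
  haveI hK : Module.Flat A K :=
    flat_of_exact_of_flat_of_flat (K := K) (E := E1) (G := G)
      (K.subtype.restrictScalars A) (v.restrictScalars A) (Submodule.injective_subtype _) hv hex2
  have hinj2 : Function.Injective (K.subtype.baseChange B') :=
    baseChange_injective_of_exact_of_flat A B A' B' K.subtype v (Submodule.injective_subtype _)
      hv hex2
  have hinj1 : Function.Injective (f.baseChange B') :=
    baseChange_injective_of_exact_of_flat A B A' B' f u.rangeRestrict hf
      u.surjective_rangeRestrict hex1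
  have hex1' : Function.Exact (f.baseChange B') (u.rangeRestrict.baseChange B') := by
    rw [LinearMap.baseChange_eq_ltensor, LinearMap.baseChange_eq_ltensor]
    exact lTensor_exact B' hex1 u.surjective_rangeRestrict
  have hcomp : ∀ z, u.baseChange B' z =
      K.subtype.baseChange B' (u.rangeRestrict.baseChange B' z) := by
    intro z
    rw [← LinearMap.comp_apply, ← LinearMap.baseChange_comp]
    rfl
  have hex' : Function.Exact (f.baseChange B') (u.baseChange B') := by
    intro y
    rw [← hex1' y, hcomp]
    constructor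
    · intro h
      exact hinj2 (by rw [h, map_zero])
    · intro h
      rw [h, map_zero]
  haveI : Module.IsReflexive B' (LinearMap.ker (u.baseChange B')) :=
    part2b A B A' B' J hZ E0 E1 G u v huv hv hGU
  let e : (B' ⊗[B] F) ≃ₗ[B'] LinearMap.ker (u.baseChange B') :=
    (LinearEquiv.ofInjective (f.baseChange B') hinj1).trans
      (LinearEquiv.ofEq _ _ (LinearMap.exact_iff.mp hex').symm)
  exact Module.equiv e.symm

end Part3

end SecQD4

-- ===== from QD5 =====
section SecQD5
open Groth.Agent.Lib.Helper28 Groth.Agent.Lib.H9QGor725 Groth.Agent.Lib.H9QGor711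
open TensorProduct

section Main

variable (A B : Type u) [CommRing A] [CommRing B] [IsNoetherianRing A] [IsNoetherianRing B]
  [Algebra A B]
  (A' B' : Type u) [CommRing A'] [CommRing B'] [IsNoetherianRing A'] [IsNoetherianRing B']
  [Algebra A A'] [Algebra B B'] [Algebra A' B'] [Algebra A B'] [IsScalarTower A B B']
  [IsScalarTower A A' B']
  [Algebra.IsPushout A B A' B'] [Module.Flat A B] (J : Ideal B)
  (hZ : ∀ q : PrimeSpectrum B, J ≤ q.asIdeal →
    2 ≤ LocCoh.idealDepth (q.asIdeal.map (algebraMap B (EGA4.FibLocRing A B q.asIdeal)))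
      (EGA4.FibLocRing A B q.asIdeal))
  (F : Type u) [AddCommGroup F] [Module B F] [Module A F] [IsScalarTower A B F]
  [Module.Finite B F]
  (hFU : ∀ q : PrimeSpectrum B, ¬ J ≤ q.asIdeal →
    Module.Free (Localization.AtPrime q.asIdeal) (LocalizedModule q.asIdeal.primeCompl F))

include A' hZ hFU in
theorem part3 (hFl : Module.Flat A F)
    (hD : ∀ q : PrimeSpectrum B, J ≤ q.asIdeal →
      2 ≤ LocCoh.idealDepth (q.asIdeal.map (algebraMap B (EGA4.FibLocRing A B q.asIdeal)))
        (EGA4.FibLocMod A B q.asIdeal F)) :
    Module.IsReflexive B F ∧ Module.IsReflexive B' (B' ⊗[B] F) := by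
  have hB2 : 2 ≤ LocCoh.idealDepth J B :=
    natCast_le_idealDepth_self_of_forall_fibLocRing (A := A) J 2 hZ
  have hF2 : 2 ≤ LocCoh.idealDepth J F :=
    natCast_le_idealDepth_of_forall_fibLocMod (A := A) F J 2 hD
  haveI hrefl : Module.IsReflexive B F := by
    refine isReflexive_of_idealDepth_two J (le_trans (by norm_num) hB2) F ?_ hF2
    intro p hp hJp
    haveI := hFU ⟨p, hp⟩ hJp
    infer_instance
  refine ⟨hrefl, ?_⟩
  obtain ⟨n, m, g, h, hg, hgh, hfree⟩ := Groth.Agent.Lib.H9QGor709.thm709 B J F hFU
  have hhv : Function.Exact h (LinearMap.range h).mkQ := LinearMap.exact_map_mkQ_range h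
  have hv : Function.Surjective (LinearMap.range h).mkQ := Submodule.mkQ_surjective _
  haveI : Module.Flat A ((Fin m → B) ⧸ LinearMap.range h) :=
    flat_coker A B J hZ F (Fin n → B) (Fin m → B) ((Fin m → B) ⧸ LinearMap.range h)
      g h (LinearMap.range h).mkQ hg hgh hhv hv hfree hD
  exact isReflexive_baseChange A B A' B' J hZ F (Fin n → B) (Fin m → B)
    ((Fin m → B) ⧸ LinearMap.range h) g h (LinearMap.range h).mkQ hg hgh hhv hv hfree

include A' hZ hFU in
theorem main :
    2 ≤ LocCoh.idealDepth J (Module.Dual B (Module.Dual B F)) ∧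
    Function.Bijective (((Module.Dual.eval B F).baseChange B').dualMap.dualMap) ∧
    (Module.Flat A F →
      (∀ q : PrimeSpectrum B, J ≤ q.asIdeal →
        2 ≤ LocCoh.idealDepth (q.asIdeal.map (algebraMap B (EGA4.FibLocRing A B q.asIdeal)))
          (EGA4.FibLocMod A B q.asIdeal F)) →
      Module.IsReflexive B F ∧ Module.IsReflexive B' (B' ⊗[B] F)) :=
  ⟨part1 A B J hZ F, part2 A B A' B' J hZ F hFU,
    fun hFl hD => part3 A B A' B' J hZ F hFU hFl hD⟩

end Main

end SecQD5


end Groth.Agent.Lib.H9QGor718
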