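import Mathlib
import Groth.Agent.Lib.H9QGor718

set_option autoImplicit false
set_option linter.style.haveILetI false
set_option linter.unusedSectionVars false
universe u v w

namespace Groth.Agent.Lib.H9BasicElt

-- ===== from BE1 =====
section SecBE1
section Field

variable (K : Type*) {V : Type*} [Field K] [AddCommGroup V] [Module K V]

/-- rank of a family of vectors -/
noncomputable def rk {ι : Type*} (v : ι → V) : ℕ :=
  Module.finrank K (Submodule.span K (Set.range v))

variable {K}

/-- shear a family of `u+1` vectors into `u` vectors -/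
def shear {u : ℕ} (v : Fin (u + 1) → V) (c : Fin u → K) : Fin u → V :=
  fun i => v i.castSucc + c i • v (Fin.last u)

theorem span_shear_le {u : ℕ} (v : Fin (u + 1) → V) (c : Fin u → K) :
    Submodule.span K (Set.range (shear v c)) ≤ Submodule.span K (Set.range v) := by
  rw [Submodule.span_le]
  rintro _ ⟨i, rfl⟩
  exact Submodule.add_mem _ (Submodule.subset_span ⟨_, rfl⟩)
    (Submodule.smul_mem _ _ (Submodule.subset_span ⟨_, rfl⟩))

theorem span_le_shear_sup {u : ℕ} (v : Fin (u + 1) → V) (c : Fin u → K) :
    Submodule.span K (Set.range v) ≤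
      Submodule.span K (Set.range (shear v c)) ⊔ Submodule.span K {v (Fin.last u)} := by
  rw [Submodule.span_le]
  rintro _ ⟨i, rfl⟩
  have hlast : v (Fin.last u) ∈
      Submodule.span K (Set.range (shear v c)) ⊔ Submodule.span K {v (Fin.last u)} :=
    Submodule.mem_sup_right (Submodule.subset_span rfl)
  induction i using Fin.lastCases with
  | last => exact hlast
  | cast i =>
    have h1 : v i.castSucc = shear v c i - c i • v (Fin.last u) := by
      unfold shear; abel
    change v i.castSucc ∈ _
    rw [h1]
    exact Submodule.sub_mem _ (Submodule.mem_sup_left (Submodule.subset_span ⟨i, rfl⟩))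
      (Submodule.smul_mem _ _ hlast)

theorem finiteDimensional_span_range {ι : Type*} [Finite ι] (v : ι → V) :
    FiniteDimensional K (Submodule.span K (Set.range v)) :=
  FiniteDimensional.span_of_finite K (Set.finite_range v)

theorem rk_le_rk_shear_add_one {u : ℕ} (v : Fin (u + 1) → V) (c : Fin u → K) :
    rk K v ≤ rk K (shear v c) + 1 := by
  unfold rk
  haveI := finiteDimensional_span_range (K := K) (shear v c)
  haveI : FiniteDimensional K (Submodule.span K {v (Fin.last u)}) :=
    FiniteDimensional.span_of_finite K (Set.finite_singleton _)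
  have h1 := Submodule.finrank_mono (span_le_shear_sup v c)
  have h2 := Submodule.finrank_add_le_finrank_add_finrank
    (Submodule.span K (Set.range (shear v c))) (Submodule.span K {v (Fin.last u)})
  have h3 : Module.finrank K (Submodule.span K {v (Fin.last u)}) ≤ 1 := by
    have := finrank_span_le_card (R := K) ({v (Fin.last u)} : Set V)
    simpa using this
  omega

theorem rk_shear_le {u : ℕ} (v : Fin (u + 1) → V) (c : Fin u → K) :
    rk K (shear v c) ≤ rk K v := by
  unfold rk
  haveI := finiteDimensional_span_range (K := K) v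
  exact Submodule.finrank_mono (span_shear_le v c)

theorem rk_shear_eq_of_mem {u : ℕ} (v : Fin (u + 1) → V) (c : Fin u → K)
    (h : v (Fin.last u) ∈ Submodule.span K (Set.range (shear v c))) :
    rk K (shear v c) = rk K v := by
  unfold rk
  have : Submodule.span K (Set.range (shear v c)) = Submodule.span K (Set.range v) := by
    apply le_antisymm (span_shear_le v c)
    refine (span_le_shear_sup v c).trans ?_
    rw [sup_le_iff]
    refine ⟨le_rfl, ?_⟩
    rw [Submodule.span_le, Set.singleton_subset_iff]
    exact h
  rw [this]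

theorem rk_le_card {ι : Type*} [Fintype ι] (v : ι → V) : rk K v ≤ Fintype.card ι :=
  finrank_range_le_card v

theorem linearIndependent_iff_rk {ι : Type*} [Fintype ι] (v : ι → V) :
    LinearIndependent K v ↔ rk K v = Fintype.card ι := by
  rw [linearIndependent_iff_card_eq_finrank_span]
  exact eq_comm

theorem sum_shear {u : ℕ} (v : Fin (u + 1) → V) (c : Fin u → K) (g : Fin (u + 1) → K)
    (hg : ∑ i, g i • v i = 0) :
    ∑ i : Fin u, g i.castSucc • shear v c i =
      (∑ i : Fin u, g i.castSucc * c i - g (Fin.last u)) • v (Fin.last u) := by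
  rw [Fin.sum_univ_castSucc] at hg
  have h1 : ∑ i : Fin u, g i.castSucc • v i.castSucc = - (g (Fin.last u) • v (Fin.last u)) :=
    eq_neg_of_add_eq_zero_left hg
  unfold shear
  simp only [smul_add, Finset.sum_add_distrib, smul_smul]
  rw [h1, sub_smul, Finset.sum_smul]
  abel

theorem exists_fix {u : ℕ} (v : Fin (u + 1) → V) (hv : ¬ LinearIndependent K v)
    (c : Fin u → K) (b : K) (hb : b ≠ 0) :
    v (Fin.last u) ∈ Submodule.span K (Set.range (shear v c)) ∨
      ∃ j : Fin u, v (Fin.last u) ∈ Submodule.span K (Set.range (shear v (c + Pi.single j b))) := by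
  classical
  obtain ⟨g, hg, i₀, hi₀⟩ := Fintype.not_linearIndependent_iff.mp hv
  by_cases hμ : ∑ i : Fin u, g i.castSucc * c i - g (Fin.last u) = 0
  · right
    have hex : ∃ j : Fin u, g j.castSucc ≠ 0 := by
      by_contra hall
      have hall' : ∀ j : Fin u, g j.castSucc = 0 := by
        intro j
        by_contra hj
        exact hall ⟨j, hj⟩
      have hlast : g (Fin.last u) = 0 := by
        have : ∑ i : Fin u, g i.castSucc * c i = 0 :=
          Finset.sum_eq_zero fun i _ => by rw [hall' i, zero_mul]
        rw [this, zero_sub, neg_eq_zero] at hμ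
        exact hμ
      induction i₀ using Fin.lastCases with
      | last => exact hi₀ hlast
      | cast i => exact hi₀ (hall' i)
    obtain ⟨j, hj⟩ := hex
    refine ⟨j, ?_⟩
    have h1 := sum_shear v (c + Pi.single j b) g hg
    have h2 : ∑ i : Fin u, g i.castSucc * (c + (Pi.single j b : Fin u → K)) i - g (Fin.last u) =
        g j.castSucc * b := by
      simp only [Pi.add_apply, mul_add, Finset.sum_add_distrib]
      have : ∑ i : Fin u, g i.castSucc * (Pi.single j b : Fin u → K) i = g j.castSucc * b := by
        rw [Finset.sum_eq_single j]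
        · rw [Pi.single_eq_same]
        · intro i _ hij
          rw [Pi.single_eq_of_ne hij, mul_zero]
        · intro h; exact absurd (Finset.mem_univ j) h
      rw [this]
      linear_combination hμ
    rw [h2] at h1
    have h3 : v (Fin.last u) = (g j.castSucc * b)⁻¹ •
        ∑ i : Fin u, g i.castSucc • shear v (c + Pi.single j b) i := by
      rw [h1, smul_smul, inv_mul_cancel₀ (mul_ne_zero hj hb), one_smul]
    rw [h3]
    exact Submodule.smul_mem _ _ (Submodule.sum_mem _ fun i _ =>
      Submodule.smul_mem _ _ (Submodule.subset_span ⟨i, rfl⟩))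
  · left
    have h1 := sum_shear v c g hg
    have h3 : v (Fin.last u) = (∑ i : Fin u, g i.castSucc * c i - g (Fin.last u))⁻¹ •
        ∑ i : Fin u, g i.castSucc • shear v c i := by
      rw [h1, smul_smul, inv_mul_cancel₀ hμ, one_smul]
    rw [h3]
    exact Submodule.smul_mem _ _ (Submodule.sum_mem _ fun i _ =>
      Submodule.smul_mem _ _ (Submodule.subset_span ⟨i, rfl⟩))

end Field

end SecBE1

-- ===== from BE2 =====
section SecBE2
open scoped TensorProduct

section Setup

variable {A : Type u} [CommRing A] (M : Type u) [AddCommGroup M] [Module A M]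
variable (p : Ideal A) [p.IsPrime]

/-- the fibre vector space `κ(p) ⊗_{A_p} M_p` -/
abbrev Vp : Type u := p.ResidueField ⊗[Localization.AtPrime p] LocalizedModule p.primeCompl M

variable {M}

/-- the image of an element of `M` in the fibre at `p` -/
noncomputable def vec (m : M) : Vp M p :=
  (1 : p.ResidueField) ⊗ₜ[Localization.AtPrime p] (LocalizedModule.mkLinearMap p.primeCompl M m)

/-- the residue of an element of `A` at `p` -/
noncomputable def res (a : A) : p.ResidueField := algebraMap A p.ResidueField a

theorem res_eq_zero_iff (a : A) : res p a = 0 ↔ a ∈ p := Ideal.algebraMap_residueField_eq_zero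

theorem vec_add (m m' : M) : vec p (m + m') = vec p m + vec p m' := by
  unfold vec
  rw [map_add, TensorProduct.tmul_add]

theorem vec_smul (a : A) (m : M) : vec p (a • m) = res p a • vec p m := by
  unfold vec res
  rw [map_smul, ← algebraMap_smul (Localization.AtPrime p) a, ← TensorProduct.smul_tmul,
    TensorProduct.smul_tmul', Algebra.smul_def, mul_one, smul_eq_mul, mul_one,
    ← IsScalarTower.algebraMap_apply]

/-- shear a family of `u+1` elements of `M` into `u` elements -/
def shearM {u : ℕ} (m : Fin (u + 1) → M) (a : Fin u → A) : Fin u → M :=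
  fun i => m i.castSucc + a i • m (Fin.last u)

theorem vec_shearM {u : ℕ} (m : Fin (u + 1) → M) (a : Fin u → A) :
    (fun i => vec p (shearM m a i)) = shear (fun i => vec p (m i)) (fun i => res p (a i)) := by
  funext i
  unfold shearM shear
  rw [vec_add, vec_smul]

/-- the good condition at `p` -/
def Good {u : ℕ} (m : Fin (u + 1) → M) (a : Fin u → A) : Prop :=
  vec p (m (Fin.last u)) ∈
    Submodule.span p.ResidueField (Set.range (fun i => vec p (shearM m a i)))

theorem good_congr {u : ℕ} (m : Fin (u + 1) → M) (a a' : Fin u → A)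
    (h : ∀ i, a i - a' i ∈ p) : Good p m a ↔ Good p m a' := by
  unfold Good
  rw [vec_shearM, vec_shearM]
  have : (fun i => res p (a i)) = (fun i => res p (a' i)) := by
    funext i
    have := (res_eq_zero_iff p _).mpr (h i)
    unfold res at this ⊢
    rw [map_sub, sub_eq_zero] at this
    exact this
  rw [this]

end Setup

section Fix

variable {A : Type u} [CommRing A] {M : Type u} [AddCommGroup M] [Module A M]

theorem exists_good_finset {u : ℕ} (m : Fin (u + 1) → M) :
    ∀ (n : ℕ) (T : Finset (PrimeSpectrum A)), T.card = n →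
      (∀ p ∈ T, ¬ LinearIndependent p.asIdeal.ResidueField (fun i => vec p.asIdeal (m i))) →
      ∃ a : Fin u → A, ∀ p ∈ T, Good p.asIdeal m a := by
  classical
  intro n
  induction n with
  | zero =>
    intro T hT _
    rw [Finset.card_eq_zero] at hT
    subst hT
    exact ⟨0, fun p hp => absurd hp (Finset.notMem_empty p)⟩
  | succ n ih =>
    intro T hT hdep
    have hne : T.Nonempty := by
      rw [← Finset.card_pos]; omega
    obtain ⟨p, hpT, hpmin⟩ := T.exists_minimal hne
    have hcard : (T.erase p).card = n := by
      rw [Finset.card_erase_of_mem hpT]; omega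
    obtain ⟨a, ha⟩ := ih (T.erase p) hcard
      (fun q hq => hdep q (Finset.mem_of_mem_erase hq))
    -- an element of all the other primes which is not in `p`
    have hnle : ¬ ((T.erase p).inf (fun q => q.asIdeal) ≤ p.asIdeal) := by
      rw [Ideal.IsPrime.inf_le' p.isPrime]
      rintro ⟨q, hq, hqp⟩
      have hqT := Finset.mem_of_mem_erase hq
      have hne : q ≠ p := Finset.ne_of_mem_erase hq
      have hqp' : q ≤ p := hqp
      exact hne (le_antisymm hqp' (hpmin hqT hqp'))
    obtain ⟨b, hb, hbp⟩ := SetLike.not_le_iff_exists.mp hnle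
    have hbq : ∀ q ∈ T.erase p, b ∈ q.asIdeal := by
      intro q hq
      exact (Finset.inf_le hq : (T.erase p).inf (fun q => q.asIdeal) ≤ q.asIdeal) hb
    have hb0 : res p.asIdeal b ≠ 0 := fun h => hbp ((res_eq_zero_iff _ _).mp h)
    rcases exists_fix (fun i => vec p.asIdeal (m i)) (hdep p hpT)
      (fun i => res p.asIdeal (a i)) (res p.asIdeal b) hb0 with h | ⟨j, hj⟩
    · refine ⟨a, fun q hq => ?_⟩
      by_cases hqp : q = p
      · subst hqp
        unfold Good
        rw [vec_shearM]
        exact h
      · exact ha q (Finset.mem_erase.mpr ⟨hqp, hq⟩)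
    · refine ⟨a + Pi.single j b, fun q hq => ?_⟩
      by_cases hqp : q = p
      · subst hqp
        unfold Good
        rw [vec_shearM]
        have : (fun i => res q.asIdeal ((a + (Pi.single j b : Fin u → A)) i)) =
            (fun i => res q.asIdeal (a i)) + Pi.single j (res q.asIdeal b) := by
          funext i
          simp only [Pi.add_apply]
          unfold res
          rw [map_add]
          congr 1
          by_cases hij : i = j
          · subst hij
            rw [Pi.single_eq_same, Pi.single_eq_same]
          · rw [Pi.single_eq_of_ne hij, Pi.single_eq_of_ne hij, map_zero]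
        rw [this]
        exact hj
      · have hq' : q ∈ T.erase p := Finset.mem_erase.mpr ⟨hqp, hq⟩
        refine (good_congr q.asIdeal m (a + (Pi.single j b : Fin u → A)) a ?_).mpr (ha q hq')
        · intro i
          simp only [Pi.add_apply, add_sub_cancel_left]
          by_cases hij : i = j
          · subst hij
            rw [Pi.single_eq_same]
            exact hbq q hq'
          · rw [Pi.single_eq_of_ne hij]
            exact Ideal.zero_mem _

end Fix

end SecBE2

-- ===== from BE3 =====
section SecBE3
open scoped TensorProduct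

section Basic

variable {A : Type u} [CommRing A] {M : Type u} [AddCommGroup M] [Module A M]
variable (p : Ideal A) [p.IsPrime]

theorem tmul_eq_smul_vec (c : p.ResidueField) (x : Localization.AtPrime p) (m : M) :
    c ⊗ₜ[Localization.AtPrime p] (x • LocalizedModule.mkLinearMap p.primeCompl M m) =
      (c * algebraMap (Localization.AtPrime p) p.ResidueField x) • vec p m := by
  unfold vec
  rw [← TensorProduct.smul_tmul, TensorProduct.smul_tmul', smul_eq_mul, mul_one, Algebra.smul_def,
    mul_comm]

theorem span_vec_eq_top :
    Submodule.span p.ResidueField (Set.range (vec p : M → Vp M p)) = ⊤ := by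
  rw [eq_top_iff]
  rintro z -
  induction z using TensorProduct.induction_on with
  | zero => exact Submodule.zero_mem _
  | tmul c y =>
    obtain ⟨⟨m, s⟩, rfl⟩ := IsLocalizedModule.mk'_surjective p.primeCompl
      (LocalizedModule.mkLinearMap p.primeCompl M) y
    have h1 : IsLocalizedModule.mk' (LocalizedModule.mkLinearMap p.primeCompl M) m s =
        (IsLocalization.mk' (Localization.AtPrime p) (1 : A) s) •
          LocalizedModule.mkLinearMap p.primeCompl M m := by
      rw [← IsLocalizedModule.mk'_one p.primeCompl (LocalizedModule.mkLinearMap p.primeCompl M) m,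
        IsLocalizedModule.mk'_smul_mk', one_smul, mul_one]
    change c ⊗ₜ[Localization.AtPrime p]
      (IsLocalizedModule.mk' (LocalizedModule.mkLinearMap p.primeCompl M) m s) ∈ _
    rw [h1, tmul_eq_smul_vec]
    exact Submodule.smul_mem _ _ (Submodule.subset_span ⟨m, rfl⟩)
  | add x y hx hy => exact Submodule.add_mem _ hx hy

variable (M) in
/-- freeness of rank `r` at `p` -/
def FreeAt (r : ℕ) : Prop :=
  Nonempty (LocalizedModule p.primeCompl M ≃ₗ[Localization.AtPrime p]
    (Fin r → Localization.AtPrime p))

theorem finrank_Vp {r : ℕ} (h : FreeAt M p r) : Module.finrank p.ResidueField (Vp M p) = r := by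
  obtain ⟨e⟩ := h
  haveI : Module.Free (Localization.AtPrime p) (LocalizedModule p.primeCompl M) :=
    Module.Free.of_equiv e.symm
  rw [Module.finrank_baseChange, e.finrank_eq, Module.finrank_fin_fun]

theorem finiteDimensional_Vp {r : ℕ} (h : FreeAt M p r) :
    FiniteDimensional p.ResidueField (Vp M p) := by
  obtain ⟨e⟩ := h
  haveI : Module.Finite (Localization.AtPrime p) (LocalizedModule p.primeCompl M) :=
    Module.Finite.equiv e.symm
  infer_instance

/-- extend an independent family of elements to a family of `r` elements which is a basis in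
the fibre -/
theorem exists_extend {r : ℕ} (h : FreeAt M p r) :
    ∀ (d : ℕ) (ι : Type) [Fintype ι] (e : ι → M),
      LinearIndependent p.ResidueField (fun i => vec p (e i)) → Fintype.card ι + d = r →
      ∃ (ι' : Type) (_ : Fintype ι') (b : ι' → M) (j : ι → ι'), Function.Injective j ∧
        (∀ i, b (j i) = e i) ∧ Fintype.card ι' = r ∧
        LinearIndependent p.ResidueField (fun i => vec p (b i)) := by
  haveI := finiteDimensional_Vp p h
  intro d
  induction d with
  | zero =>
    intro ι _ e he hc
    exact ⟨ι, inferInstance, e, id, Function.injective_id, fun _ => rfl, by omega, he⟩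
  | succ d ih =>
    intro ι _ e he hc
    -- there is an element of `M` outside the span
    have hne : ∃ x : M, vec p x ∉
        Submodule.span p.ResidueField (Set.range (fun i => vec p (e i))) := by
      by_contra hall
      have hall' : ∀ x : M, vec p x ∈
          Submodule.span p.ResidueField (Set.range (fun i => vec p (e i))) := by
        intro x
        by_contra hx
        exact hall ⟨x, hx⟩
      have htop : Submodule.span p.ResidueField (Set.range (fun i => vec p (e i))) = ⊤ := by
        rw [eq_top_iff, ← span_vec_eq_top p, Submodule.span_le]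
        rintro _ ⟨x, rfl⟩
        exact hall' x
      have h1 := finrank_span_eq_card he
      rw [htop, finrank_top, finrank_Vp p h] at h1
      omega
    obtain ⟨x, hx⟩ := hne
    have he' : LinearIndependent p.ResidueField
        (fun o : Option ι => vec p ((fun o : Option ι => Option.casesOn' o x e) o)) := by
      have h2 : (fun o : Option ι => vec p ((fun o : Option ι => Option.casesOn' o x e) o)) =
          (fun o => Option.casesOn' o (vec p x) (fun i => vec p (e i))) := by
        funext o
        cases o <;> rfl
      rw [h2]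
      exact he.option hx
    obtain ⟨ι', hι', b, j, hj, hbj, hcard, hb⟩ :=
      ih (Option ι) (fun o => Option.casesOn' o x e) he' (by
        rw [Fintype.card_option]; omega)
    refine ⟨ι', hι', b, fun i => j (some i), ?_, ?_, hcard, hb⟩
    · intro i i' hii'
      exact Option.some_injective _ (hj hii')
    · intro i
      rw [hbj]
      rfl

end Basic

section Spread

variable {A : Type u} [CommRing A] {M : Type u} [AddCommGroup M] [Module A M]

/-- the submodule of `M_p` generated by a family of elements of `M` -/
noncomputable abbrev spanAt (p : Ideal A) [p.IsPrime] {ι : Type*} (b : ι → M) :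
    Submodule (Localization.AtPrime p) (LocalizedModule p.primeCompl M) :=
  Submodule.span (Localization.AtPrime p)
    (Set.range (fun i => LocalizedModule.mkLinearMap p.primeCompl M (b i)))

theorem spanAt_eq_localized (p : Ideal A) [p.IsPrime] {ι : Type*} (b : ι → M) :
    spanAt p b = (Submodule.span A (Set.range b)).localized' (Localization.AtPrime p)
      p.primeCompl (LocalizedModule.mkLinearMap p.primeCompl M) := by
  rw [Submodule.localized'_span, ← Set.range_comp]
  rfl

/-- Nakayama: a family which is a basis in the fibre generates the localization -/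
theorem spanAt_eq_top_of_fibre (p : Ideal A) [p.IsPrime] {r : ℕ} (h : FreeAt M p r)
    {ι : Type} [Fintype ι] (b : ι → M) (hcard : Fintype.card ι = r)
    (hb : LinearIndependent p.ResidueField (fun i => vec p (b i))) : spanAt p b = ⊤ := by
  haveI := finiteDimensional_Vp p h
  obtain ⟨e⟩ := h
  haveI : Module.Finite (Localization.AtPrime p) (LocalizedModule p.primeCompl M) :=
    Module.Finite.equiv e.symm
  have hc : Fintype.card ι = Module.finrank p.ResidueField (Vp M p) := by
    rw [finrank_Vp p ⟨e⟩, hcard]
  let B := basisOfLinearIndependentOfCardEqFinrank' (fun i => vec p (b i)) hb hc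
  refine IsLocalRing.span_eq_top_of_tmul_eq_basis
    (fun i => LocalizedModule.mkLinearMap p.primeCompl M (b i)) B ?_
  intro i
  have : B i = vec p (b i) := by
    have := coe_basisOfLinearIndependentOfCardEqFinrank' (fun i => vec p (b i)) hb hc
    exact congrFun this i
  rw [this]
  rfl

/-- spreading out generation: first step -/
theorem exists_smul_mem_of_localized_eq_top [Module.Finite A M] (p : Ideal A) [p.IsPrime]
    (N' : Submodule A M)
    (h : N'.localized' (Localization.AtPrime p) p.primeCompl
      (LocalizedModule.mkLinearMap p.primeCompl M) = ⊤) :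
    ∃ f ∉ p, ∀ x : M, f • x ∈ N' := by
  have h1 : ∀ x ∈ (⊤ : Submodule A M), ∃ s ∉ p, s • x ∈ N' := by
    intro x _
    have hx : LocalizedModule.mkLinearMap p.primeCompl M x ∈
        N'.localized' (Localization.AtPrime p) p.primeCompl
          (LocalizedModule.mkLinearMap p.primeCompl M) := by
      rw [h]; trivial
    obtain ⟨n, hn, s, hs⟩ := (Submodule.mem_localized' _ _ _ _ _).mp hx
    rw [← IsLocalizedModule.mk'_one p.primeCompl (LocalizedModule.mkLinearMap p.primeCompl M) x,
      IsLocalizedModule.mk'_eq_mk'_iff] at hs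
    obtain ⟨c, hc⟩ := hs
    refine ⟨(c : A) * (s : A), (c * s).2, ?_⟩
    have : ((c : A) * (s : A)) • x = (c : A) • n := by
      have h2 : c • s • x = c • (1 : p.primeCompl) • n := hc
      rw [one_smul] at h2
      rw [mul_smul]
      exact h2
    rw [this]
    exact N'.smul_mem _ hn
  obtain ⟨f, hf, hf'⟩ := Groth.Agent.Lib.H9QGor718.exists_forall_smul_mem_of_fg p ⊤ N'
    Module.Finite.fg_top h1
  exact ⟨f, hf, fun x => hf' x trivial⟩

theorem localized_eq_top_of_smul_mem (q : Ideal A) [q.IsPrime] (N' : Submodule A M) (f : A)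
    (hf : f ∉ q) (h : ∀ x : M, f • x ∈ N') :
    N'.localized' (Localization.AtPrime q) q.primeCompl
      (LocalizedModule.mkLinearMap q.primeCompl M) = ⊤ := by
  rw [eq_top_iff]
  rintro y -
  obtain ⟨⟨x, s⟩, rfl⟩ := IsLocalizedModule.mk'_surjective q.primeCompl
    (LocalizedModule.mkLinearMap q.primeCompl M) y
  rw [Submodule.mem_localized']
  refine ⟨f • x, h x, ⟨f, hf⟩ * s, ?_⟩
  exact IsLocalizedModule.mk'_cancel_left _ x ⟨f, hf⟩ s

/-- a family of `r` elements generating a free module of rank `r` is a basis in the fibre -/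
theorem linearIndependent_vec_of_spanAt_eq_top (q : Ideal A) [q.IsPrime] {r : ℕ}
    (h : FreeAt M q r) {ι : Type} [Fintype ι] (b : ι → M) (hcard : Fintype.card ι = r)
    (hb : spanAt q b = ⊤) : LinearIndependent q.ResidueField (fun i => vec q (b i)) := by
  obtain ⟨e⟩ := h
  have hfr : Module.finrank (Localization.AtPrime q) (LocalizedModule q.primeCompl M) = r := by
    rw [e.finrank_eq, Module.finrank_fin_fun]
  have hli : LinearIndependent (Localization.AtPrime q)
      (fun i => LocalizedModule.mkLinearMap q.primeCompl M (b i)) :=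
    linearIndependent_of_top_le_span_of_card_eq_finrank hb.ge (by rw [hfr, hcard])
  let B := Module.Basis.mk hli hb.ge
  have := (B.baseChange q.ResidueField).linearIndependent
  have h2 : (fun i => vec q (b i)) = ⇑(B.baseChange q.ResidueField) := by
    funext i
    rw [Module.Basis.baseChange_apply, Module.Basis.mk_apply]
    rfl
  rw [h2]
  exact this

/-- semicontinuity: independence in the fibre spreads to a neighbourhood -/
theorem exists_spread [Module.Finite A M] (q : Ideal A) [q.IsPrime] {r : ℕ} (h : FreeAt M q r)
    {ι : Type} [Fintype ι] (e : ι → M)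
    (he : LinearIndependent q.ResidueField (fun i => vec q (e i))) :
    ∃ f ∉ q, ∀ (q' : Ideal A) [q'.IsPrime], f ∉ q' → FreeAt M q' r →
      LinearIndependent q'.ResidueField (fun i => vec q' (e i)) := by
  haveI := finiteDimensional_Vp q h
  have hle : Fintype.card ι ≤ r := by
    have h1 := finrank_span_eq_card he
    have h2 := Submodule.finrank_le
      (Submodule.span q.ResidueField (Set.range (fun i => vec q (e i))))
    rw [finrank_Vp q h] at h2
    omega
  obtain ⟨ι', hι', b, j, hj, hbj, hcard, hb⟩ :=
    exists_extend q h (r - Fintype.card ι) ι e he (by omega)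
  have htop := spanAt_eq_top_of_fibre q h b hcard hb
  rw [spanAt_eq_localized] at htop
  obtain ⟨f, hf, hf'⟩ := exists_smul_mem_of_localized_eq_top q _ htop
  refine ⟨f, hf, fun q' _ hfq' hfree => ?_⟩
  have h1 : spanAt q' b = ⊤ := by
    rw [spanAt_eq_localized]
    exact localized_eq_top_of_smul_mem q' _ f hfq' hf'
  have h2 := linearIndependent_vec_of_spanAt_eq_top q' hfree b hcard h1
  have h3 : (fun i => vec q' (e i)) = (fun i => vec q' (b i)) ∘ j := by
    funext i
    simp only [Function.comp_apply, hbj]
  rw [h3]
  exact h2.comp j hj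

end Spread

end SecBE3

-- ===== from BE4 =====
section SecBE4
open scoped TensorProduct

section Rank

variable {A : Type u} [CommRing A] {M : Type u} [AddCommGroup M] [Module A M]

/-- the rank of a family at a prime -/
noncomputable def rkAt (p : PrimeSpectrum A) {ι : Type*} (m : ι → M) : ℕ :=
  rk p.asIdeal.ResidueField (fun i => vec p.asIdeal (m i))

theorem height_toNat_lt {q p : Ideal A} [q.IsPrime] [p.IsPrime] (hqp : q < p) {k : ℕ}
    (hp : p.height ≤ k) :
    q.height ≤ k ∧ q.height.toNat + 1 ≤ p.height.toNat ∧ p.height.toNat ≤ k := by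
  have h1 := Ideal.height_add_one_le_of_lt_of_isPrime hqp
  have hpt : p.height ≠ ⊤ := ne_top_of_le_ne_top (ENat.natCast_ne_top k) hp
  have hqle : q.height ≤ p.height := le_trans le_self_add h1
  have hqt : q.height ≠ ⊤ := ne_top_of_le_ne_top hpt hqle
  lift p.height to ℕ using hpt with a ha
  lift q.height to ℕ using hqt with b hb
  have h1' : b + 1 ≤ a := by exact_mod_cast h1
  have hp' : a ≤ k := by exact_mod_cast hp
  refine ⟨?_, ?_, ?_⟩
  · exact_mod_cast (show b ≤ k by omega)
  · simpa using h1'
  · simpa using hp'

theorem toNat_height_le {p : Ideal A} {k : ℕ} (hp : p.height ≤ k) : p.height.toNat ≤ k := by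
  have hpt : p.height ≠ ⊤ := ne_top_of_le_ne_top (ENat.natCast_ne_top k) hp
  lift p.height to ℕ using hpt with a ha
  have hp' : a ≤ k := by exact_mod_cast hp
  simpa using hp'

variable [Module.Finite A M]

/-- semicontinuity in rank form -/
theorem exists_spread_rk (k r : ℕ)
    (hM : ∀ p : PrimeSpectrum A, p.asIdeal.height ≤ k → FreeAt M p.asIdeal r)
    (q : PrimeSpectrum A) (hq : q.asIdeal.height ≤ k) {n : ℕ} (m : Fin n → M) (t : ℕ)
    (ht : t ≤ rkAt q m) :
    ∃ f : A, f ∉ q.asIdeal ∧ ∀ q' : PrimeSpectrum A, f ∉ q'.asIdeal → q'.asIdeal.height ≤ k →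
      t ≤ rkAt q' m := by
  obtain ⟨κ', a, ha, hspan, hli⟩ := exists_linearIndependent' q.asIdeal.ResidueField
    (fun i => vec q.asIdeal (m i))
  haveI : Fintype κ' := Fintype.ofInjective a ha
  have hcard : Fintype.card κ' = rkAt q m := by
    have := finrank_span_eq_card hli
    rw [hspan] at this
    exact this.symm
  obtain ⟨f, hf, hf'⟩ := exists_spread q.asIdeal (hM q hq) (fun j => m (a j)) hli
  refine ⟨f, hf, fun q' hfq' hq' => ?_⟩
  have h1 := hf' q'.asIdeal hfq' (hM q' hq')
  have h2 := finrank_span_eq_card h1
  have h3 : Submodule.span q'.asIdeal.ResidueField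
      (Set.range (fun j => vec q'.asIdeal (m (a j)))) ≤
      Submodule.span q'.asIdeal.ResidueField (Set.range (fun i => vec q'.asIdeal (m i))) := by
    apply Submodule.span_mono
    rintro _ ⟨j, rfl⟩
    exact ⟨a j, rfl⟩
  haveI := finiteDimensional_span_range (K := q'.asIdeal.ResidueField)
    (fun i => vec q'.asIdeal (m i))
  have h4 := Submodule.finrank_mono h3
  unfold rkAt rk
  omega

end Rank

section Finite

variable {A : Type u} [CommRing A] [IsNoetherianRing A] {M : Type u} [AddCommGroup M] [Module A M]
  [Module.Finite A M]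

theorem finite_T (k r : ℕ)
    (hM : ∀ p : PrimeSpectrum A, p.asIdeal.height ≤ k → FreeAt M p.asIdeal r)
    (w u : ℕ) (m : Fin (u + 1) → M)
    (H : ∀ p : PrimeSpectrum A, p.asIdeal.height ≤ k →
      min (u + 1) (k - p.asIdeal.height.toNat + w) ≤ rkAt p m) :
    {p : PrimeSpectrum A | p.asIdeal.height ≤ k ∧ rkAt p m < u + 1 ∧
      rkAt p m = k - p.asIdeal.height.toNat + w}.Finite := by
  classical
  let O : ℕ → Set (PrimeSpectrum A) := fun t =>
    {q | ∃ f : A, f ∉ q.asIdeal ∧ ∀ q' : PrimeSpectrum A, f ∉ q'.asIdeal →
      q'.asIdeal.height ≤ k → t + 1 ≤ rkAt q' m}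
  have hO : ∀ t, IsOpen (O t) := by
    intro t
    rw [isOpen_iff_forall_mem_open]
    rintro q ⟨f, hfq, hf⟩
    refine ⟨PrimeSpectrum.basicOpen f, ?_, (PrimeSpectrum.basicOpen f).isOpen, hfq⟩
    intro q'' hq''
    exact ⟨f, hq'', hf⟩
  let I : ℕ → Ideal A := fun t => PrimeSpectrum.vanishingIdeal (O t)ᶜ
  have hI : ∀ t, PrimeSpectrum.zeroLocus (I t : Set A) = (O t)ᶜ := by
    intro t
    rw [PrimeSpectrum.zeroLocus_vanishingIdeal_eq_closure, (hO t).isClosed_compl.closure_eq]
  have hfin : (⋃ t ∈ Finset.range (u + 1),
      {p : PrimeSpectrum A | p.asIdeal ∈ (I t).minimalPrimes}).Finite := by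
    refine Set.Finite.biUnion (Finset.finite_toSet _) fun t _ => ?_
    refine Set.Finite.preimage ?_ (Ideal.finite_minimalPrimes_of_isNoetherianRing A (I t))
    intro p _ p' _ hpp'
    exact PrimeSpectrum.ext hpp'
  refine hfin.subset ?_
  rintro p ⟨hpX, hlt, heq⟩
  simp only [Set.mem_iUnion, Finset.mem_range, Set.mem_ofPred_eq, exists_prop]
  refine ⟨rkAt p m, hlt, ?_⟩
  have hpO : p ∈ (O (rkAt p m))ᶜ := by
    rintro ⟨f, hfp, hf⟩
    have := hf p hfp hpX
    omega
  refine ⟨⟨p.isPrime, ?_⟩, ?_⟩
  · rw [← hI] at hpO
    exact (PrimeSpectrum.mem_zeroLocus _ _).mp hpO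
  · rintro q ⟨hq, hIq⟩ hqp
    by_contra hnot
    have hlt' : q < p.asIdeal := lt_of_le_not_ge hqp hnot
    haveI := hq
    obtain ⟨hqX, h1, h2⟩ := height_toNat_lt hlt' hpX
    let q' : PrimeSpectrum A := ⟨q, hq⟩
    have hq'O : q' ∈ (O (rkAt p m))ᶜ := by
      rw [← hI]
      exact (PrimeSpectrum.mem_zeroLocus _ _).mpr hIq
    apply hq'O
    have hH := H q' hqX
    have h3 : rkAt p m + 1 ≤ rkAt q' m := by
      have : rkAt p m + 1 ≤ min (u + 1) (k - q.height.toNat + w) := by
        rw [le_min_iff]
        constructor
        · omega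
        · rw [heq]
          omega
      exact this.trans hH
    exact exists_spread_rk k r hM q' hqX m _ h3

end Finite

end SecBE4

-- ===== from BE5 =====
section SecBE5
open scoped TensorProduct

section Step

variable {A : Type u} [CommRing A] [IsNoetherianRing A] {M : Type u} [AddCommGroup M] [Module A M]
  [Module.Finite A M]

theorem rkAt_shearM (p : PrimeSpectrum A) {u : ℕ} (m : Fin (u + 1) → M) (a : Fin u → A) :
    rkAt p (shearM m a) =
      rk p.asIdeal.ResidueField
        (shear (fun i => vec p.asIdeal (m i)) (fun i => res p.asIdeal (a i))) := by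
  unfold rkAt
  rw [vec_shearM]

/-- the inductive step of the basic element theorem -/
theorem step (k r : ℕ)
    (hM : ∀ p : PrimeSpectrum A, p.asIdeal.height ≤ k → FreeAt M p.asIdeal r)
    (w u : ℕ) (m : Fin (u + 1) → M)
    (H : ∀ p : PrimeSpectrum A, p.asIdeal.height ≤ k →
      min (u + 1) (k - p.asIdeal.height.toNat + w) ≤ rkAt p m) :
    ∃ m' : Fin u → M, ∀ p : PrimeSpectrum A, p.asIdeal.height ≤ k →
      min u (k - p.asIdeal.height.toNat + w) ≤ rkAt p m' := by
  classical
  have hfin := finite_T k r hM w u m H
  have hdep : ∀ p ∈ hfin.toFinset,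
      ¬ LinearIndependent p.asIdeal.ResidueField (fun i => vec p.asIdeal (m i)) := by
    intro p hp
    rw [Set.Finite.mem_toFinset] at hp
    obtain ⟨_, hlt, _⟩ := hp
    rw [linearIndependent_iff_rk, Fintype.card_fin]
    unfold rkAt at hlt
    omega
  obtain ⟨a, ha⟩ := exists_good_finset m _ hfin.toFinset rfl hdep
  refine ⟨shearM m a, fun p hp => ?_⟩
  rw [rkAt_shearM]
  have h1 := rk_le_rk_shear_add_one (fun i => vec p.asIdeal (m i))
    (fun i => res p.asIdeal (a i))
  have hH := H p hp
  unfold rkAt at hH
  by_cases hfull : rk p.asIdeal.ResidueField (fun i => vec p.asIdeal (m i)) = u + 1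
  · have : u ≤ rk p.asIdeal.ResidueField
        (shear (fun i => vec p.asIdeal (m i)) (fun i => res p.asIdeal (a i))) := by omega
    exact le_trans (min_le_left _ _) this
  · have hle : rk p.asIdeal.ResidueField (fun i => vec p.asIdeal (m i)) ≤ u + 1 := by
      have := rk_le_card (K := p.asIdeal.ResidueField) (fun i => vec p.asIdeal (m i))
      rwa [Fintype.card_fin] at this
    have hlt : rk p.asIdeal.ResidueField (fun i => vec p.asIdeal (m i)) < u + 1 :=
      lt_of_le_of_ne hle hfull
    have hge : k - p.asIdeal.height.toNat + w ≤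
        rk p.asIdeal.ResidueField (fun i => vec p.asIdeal (m i)) := by
      rcases le_total (u + 1) (k - p.asIdeal.height.toNat + w) with h | h
      · rw [min_eq_left h] at hH; omega
      · rw [min_eq_right h] at hH; exact hH
    by_cases heq : rk p.asIdeal.ResidueField (fun i => vec p.asIdeal (m i)) =
        k - p.asIdeal.height.toNat + w
    · have hpT : p ∈ hfin.toFinset := by
        rw [Set.Finite.mem_toFinset]
        exact ⟨hp, hlt, heq⟩
      have hg := ha p hpT
      unfold Good at hg
      rw [vec_shearM] at hg
      have := rk_shear_eq_of_mem _ _ hg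
      rw [this, heq]
      exact min_le_right _ _
    · have : k - p.asIdeal.height.toNat + w ≤ rk p.asIdeal.ResidueField
          (shear (fun i => vec p.asIdeal (m i)) (fun i => res p.asIdeal (a i))) := by
        have := lt_of_le_of_ne hge (Ne.symm heq)
        omega
      exact le_trans (min_le_right _ _) this

theorem descend (k r : ℕ)
    (hM : ∀ p : PrimeSpectrum A, p.asIdeal.height ≤ k → FreeAt M p.asIdeal r)
    (w : ℕ) : ∀ (d : ℕ) (m : Fin (w + d) → M),
      (∀ p : PrimeSpectrum A, p.asIdeal.height ≤ k →
        min (w + d) (k - p.asIdeal.height.toNat + w) ≤ rkAt p m) →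
      ∃ m' : Fin w → M, ∀ p : PrimeSpectrum A, p.asIdeal.height ≤ k →
        min w (k - p.asIdeal.height.toNat + w) ≤ rkAt p m' := by
  intro d
  induction d with
  | zero =>
    intro m H
    exact ⟨m, H⟩
  | succ d ih =>
    intro m H
    obtain ⟨m', hm'⟩ := step k r hM w (w + d) m H
    exact ih m' hm'

/-- the rank of a generating family at a prime where `M` is free of rank `r` -/
theorem rkAt_eq_of_span_eq_top (p : PrimeSpectrum A) {r : ℕ} (h : FreeAt M p.asIdeal r)
    {ι : Type*} (g : ι → M) (hg : Submodule.span A (Set.range g) = ⊤) : rkAt p g = r := by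
  unfold rkAt rk
  have htop : Submodule.span p.asIdeal.ResidueField
      (Set.range (fun i => vec p.asIdeal (g i))) = ⊤ := by
    rw [eq_top_iff, ← span_vec_eq_top p.asIdeal, Submodule.span_le]
    rintro _ ⟨x, rfl⟩
    have hx : x ∈ Submodule.span A (Set.range g) := by rw [hg]; trivial
    induction hx using Submodule.span_induction with
    | mem y hy =>
      obtain ⟨i, rfl⟩ := hy
      exact Submodule.subset_span ⟨i, rfl⟩
    | zero =>
      have : vec p.asIdeal (0 : M) = 0 := by
        have := vec_smul p.asIdeal (0 : A) (0 : M)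
        rw [zero_smul] at this
        unfold res at this
        rw [map_zero, zero_smul] at this
        exact this
      rw [SetLike.mem_coe, this]
      exact Submodule.zero_mem _
    | add y z _ _ hy hz =>
      rw [SetLike.mem_coe, vec_add]
      exact Submodule.add_mem _ hy hz
    | smul c y _ hy =>
      rw [SetLike.mem_coe, vec_smul]
      exact Submodule.smul_mem _ _ hy
  rw [htop, finrank_top, finrank_Vp p.asIdeal h]

/-- the basic element theorem: `r - k` elements which are independent in every fibre at a prime of
height at most `k` -/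
theorem exists_basic (k r : ℕ) (hkr : k ≤ r)
    (hM : ∀ p : PrimeSpectrum A, p.asIdeal.height ≤ k → FreeAt M p.asIdeal r) :
    ∃ m : Fin (r - k) → M, ∀ p : PrimeSpectrum A, p.asIdeal.height ≤ k →
      LinearIndependent p.asIdeal.ResidueField (fun i => vec p.asIdeal (m i)) := by
  obtain ⟨n, g, hg⟩ := Module.Finite.exists_fin (R := A) (M := M)
  -- pad the generating family
  let g' : Fin (r - k + n) → M := Fin.append (fun _ => 0) g
  have hg' : Submodule.span A (Set.range g') = ⊤ := by
    rw [eq_top_iff, ← hg]
    apply Submodule.span_mono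
    rintro _ ⟨i, rfl⟩
    exact ⟨Fin.natAdd (r - k) i, Fin.append_right _ _ i⟩
  have H : ∀ p : PrimeSpectrum A, p.asIdeal.height ≤ k →
      min (r - k + n) (k - p.asIdeal.height.toNat + (r - k)) ≤ rkAt p g' := by
    intro p hp
    rw [rkAt_eq_of_span_eq_top p (hM p hp) g' hg']
    refine le_trans (min_le_right _ _) ?_
    omega
  obtain ⟨m, hm⟩ := descend k r hM (r - k) n g' H
  refine ⟨m, fun p hp => ?_⟩
  rw [linearIndependent_iff_rk, Fintype.card_fin]
  have h1 := hm p hp
  have h2 := rk_le_card (K := p.asIdeal.ResidueField) (fun i => vec p.asIdeal (m i))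
  rw [Fintype.card_fin] at h2
  unfold rkAt at h1
  have h3 : min (r - k) (k - p.asIdeal.height.toNat + (r - k)) = r - k :=
    min_eq_left (by omega)
  omega

end Step

end SecBE5

-- ===== from BE6 =====
section SecBE6
open scoped TensorProduct

section Conclusion

variable {A : Type u} [CommRing A] {M : Type u} [AddCommGroup M] [Module A M]

theorem linearIndependent_mk_of_spanAt_eq_top (q : Ideal A) [q.IsPrime] {r : ℕ}
    (h : FreeAt M q r) {ι : Type} [Fintype ι] (b : ι → M) (hcard : Fintype.card ι = r)
    (hb : spanAt q b = ⊤) :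
    LinearIndependent (Localization.AtPrime q)
      (fun i => LocalizedModule.mkLinearMap q.primeCompl M (b i)) := by
  obtain ⟨e⟩ := h
  have hfr : Module.finrank (Localization.AtPrime q) (LocalizedModule q.primeCompl M) = r := by
    rw [e.finrank_eq, Module.finrank_fin_fun]
  exact linearIndependent_of_top_le_span_of_card_eq_finrank hb.ge (by rw [hfr, hcard])

/-- independence over the localization from independence in the fibre -/
theorem linearIndependent_mk_of_fibre (q : Ideal A) [q.IsPrime] {r : ℕ} (h : FreeAt M q r)
    {w : ℕ} (m : Fin w → M)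
    (hm : LinearIndependent q.ResidueField (fun i => vec q (m i))) :
    LinearIndependent (Localization.AtPrime q)
      (fun i => LocalizedModule.mkLinearMap q.primeCompl M (m i)) := by
  obtain ⟨e⟩ := h
  haveI : Module.Free (Localization.AtPrime q) (LocalizedModule q.primeCompl M) :=
    Module.Free.of_equiv e.symm
  exact Module.IsLocalRing.linearIndependent_of_flat _ hm

theorem freeAt_quotient [Module.Finite A M] (p : Ideal A) [p.IsPrime] {r w k : ℕ}
    (hr : w + k = r) (h : FreeAt M p r) (m : Fin w → M)
    (hm : LinearIndependent p.ResidueField (fun i => vec p (m i))) :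
    FreeAt (M ⧸ Submodule.span A (Set.range m)) p k := by
  classical
  obtain ⟨ι', hι', b, j, hj, hbj, hcard, hb⟩ :=
    exists_extend p h k (Fin w) m hm (by rw [Fintype.card_fin]; exact hr)
  have htop := spanAt_eq_top_of_fibre p h b hcard hb
  have hli := linearIndependent_mk_of_spanAt_eq_top p h b hcard htop
  let B := Module.Basis.mk hli htop.ge
  have hB : ∀ i, B i = LocalizedModule.mkLinearMap p.primeCompl M (b i) := fun i =>
    Module.Basis.mk_apply hli htop.ge i
  let π₁ : LocalizedModule p.primeCompl M →ₗ[Localization.AtPrime p]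
      (ι' → Localization.AtPrime p) := B.equivFun.toLinearMap
  let π₂ : (ι' → Localization.AtPrime p) →ₗ[Localization.AtPrime p]
      ({i : ι' // i ∉ Set.range j} → Localization.AtPrime p) :=
    LinearMap.funLeft (Localization.AtPrime p) (Localization.AtPrime p) (Subtype.val : {i : ι' // i ∉ Set.range j} → ι')
  let π : LocalizedModule p.primeCompl M →ₗ[Localization.AtPrime p] ({i : ι' // i ∉ Set.range j} → Localization.AtPrime p) :=
    π₂.comp π₁
  have hπ : ∀ x (i : {i : ι' // i ∉ Set.range j}), π x i = B.repr x i.1 := fun x i => rfl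
  have hsurj : Function.Surjective π :=
    (LinearMap.funLeft_surjective_of_injective (Localization.AtPrime p) (Localization.AtPrime p)
      (Subtype.val : {i : ι' // i ∉ Set.range j} → ι') Subtype.val_injective).comp
      B.equivFun.surjective
  have hrange : Set.range (fun i => LocalizedModule.mkLinearMap p.primeCompl M (m i)) =
      B '' Set.range j := by
    ext y
    constructor
    · rintro ⟨i, rfl⟩
      exact ⟨j i, ⟨i, rfl⟩, by rw [hB, hbj]⟩
    · rintro ⟨_, ⟨i, rfl⟩, rfl⟩
      exact ⟨i, by rw [hB, hbj]⟩
  have hker : LinearMap.ker π = Submodule.span (Localization.AtPrime p)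
      (Set.range (fun i => LocalizedModule.mkLinearMap p.primeCompl M (m i))) := by
    ext x
    rw [LinearMap.mem_ker, hrange, Module.Basis.mem_span_image]
    constructor
    · intro hx i hi
      by_contra hij
      have h1 : π x ⟨i, hij⟩ = 0 := by rw [hx]; rfl
      rw [hπ] at h1
      exact (Finsupp.mem_support_iff.mp hi) h1
    · intro hx
      funext i
      rw [hπ]
      by_contra hne
      exact i.2 (hx (Finsupp.mem_support_iff.mpr hne))
  have hcardJc : Fintype.card {i : ι' // i ∉ Set.range j} = k := by
    have h1 : Fintype.card {i : ι' // i ∉ Set.range j} = Fintype.card ι' - Fintype.card {i : ι' // i ∈ Set.range j} :=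
      Fintype.card_subtype_compl _
    have h2 : Fintype.card {i : ι' // i ∈ Set.range j} = w := by
      have := Set.card_range_of_injective hj
      rw [Fintype.card_fin] at this
      convert this
    omega
  let e2 : Fin k ≃ {i : ι' // i ∉ Set.range j} := (Fintype.equivFinOfCardEq hcardJc).symm
  let e3 : ({i : ι' // i ∉ Set.range j} → Localization.AtPrime p) ≃ₗ[Localization.AtPrime p]
      (Fin k → Localization.AtPrime p) :=
    LinearEquiv.funCongrLeft (Localization.AtPrime p) (Localization.AtPrime p) e2
  let e1 := π.quotKerEquivOfSurjective hsurj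
  let N := Submodule.span A (Set.range m)
  have heq : N.localized p.primeCompl = LinearMap.ker π := by
    rw [hker]
    change (Submodule.span A (Set.range m)).localized' (Localization.AtPrime p) p.primeCompl
      (LocalizedModule.mkLinearMap p.primeCompl M) = _
    rw [Submodule.localized'_span, ← Set.range_comp]
    rfl
  let e0 := (localizedQuotientEquiv p.primeCompl N).symm
  let e01 := Submodule.quotEquivOfEq _ _ heq
  exact ⟨e0 ≪≫ₗ e01 ≪≫ₗ e1 ≪≫ₗ e3⟩

variable [IsNoetherianRing A]

theorem linearIndependent_of_ass (k r : ℕ)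
    (hAss : ∀ p ∈ associatedPrimes A A, p.height ≤ k)
    (hM : ∀ p : PrimeSpectrum A, p.asIdeal.height ≤ k → FreeAt M p.asIdeal r)
    {w : ℕ} (m : Fin w → M)
    (hm : ∀ p : PrimeSpectrum A, p.asIdeal.height ≤ k →
      LinearIndependent p.asIdeal.ResidueField (fun i => vec p.asIdeal (m i))) :
    LinearIndependent A m := by
  rw [Fintype.linearIndependent_iff]
  intro c hc j
  by_contra hcj
  obtain ⟨P, hP, hle⟩ := exists_le_isAssociatedPrime_of_isNoetherianRing A (c j) hcj
  haveI := hP.isPrime
  have hPk : P.height ≤ k := hAss P hP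
  have hli := linearIndependent_mk_of_fibre P (hM ⟨P, hP.isPrime⟩ hPk) m
    (hm ⟨P, hP.isPrime⟩ hPk)
  have hsum : ∑ i, algebraMap A (Localization.AtPrime P) (c i) •
      LocalizedModule.mkLinearMap P.primeCompl M (m i) = 0 := by
    have : LocalizedModule.mkLinearMap P.primeCompl M (∑ i, c i • m i) = 0 := by
      rw [hc, map_zero]
    rw [map_sum] at this
    rw [← this]
    refine Finset.sum_congr rfl fun i _ => ?_
    rw [map_smul, algebraMap_smul]
  have h0 := (Fintype.linearIndependent_iff.mp hli) _ hsum j
  rw [IsLocalization.map_eq_zero_iff P.primeCompl] at h0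
  obtain ⟨s, hs⟩ := h0
  have : (s : A) ∈ (⊥ : Submodule A A).colon {c j} := by
    rw [Submodule.mem_colon_singleton]
    change (s : A) * c j ∈ (⊥ : Submodule A A)
    rw [hs]
    exact Submodule.zero_mem _
  exact s.2 (hle this)

theorem main (M : Type u) [AddCommGroup M] [Module A M] [Module.Finite A M] (k r : ℕ)
    (hkr : k ≤ r)
    (hAss : ∀ p ∈ associatedPrimes A A, p.height ≤ k)
    (hM : ∀ p : PrimeSpectrum A, p.asIdeal.height ≤ k →
      Nonempty (LocalizedModule p.asIdeal.primeCompl M ≃ₗ[Localization.AtPrime p.asIdeal]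
        (Fin r → Localization.AtPrime p.asIdeal))) :
    ∃ N : Submodule A M, Nonempty (N ≃ₗ[A] (Fin (r - k) → A)) ∧
      ∀ p : PrimeSpectrum A, p.asIdeal.height ≤ k →
        Nonempty (LocalizedModule p.asIdeal.primeCompl (M ⧸ N) ≃ₗ[Localization.AtPrime p.asIdeal]
          (Fin k → Localization.AtPrime p.asIdeal)) := by
  have hM' : ∀ p : PrimeSpectrum A, p.asIdeal.height ≤ k → FreeAt M p.asIdeal r := hM
  obtain ⟨m, hm⟩ := exists_basic k r hkr hM'
  have hli := linearIndependent_of_ass k r hAss hM' m hm
  refine ⟨Submodule.span A (Set.range m), ⟨?_⟩, fun p hp => ?_⟩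
  · exact hli.linearCombinationEquiv.symm ≪≫ₗ Finsupp.linearEquivFunOnFinite A A (Fin (r - k))
  · exact freeAt_quotient p.asIdeal (by omega) (hM' p hp) m (hm p hp)

end Conclusion

end SecBE6


end Groth.Agent.Lib.H9BasicElt
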