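import Mathlib.AlgebraicGeometry.Birational.Birational
import Mathlib.AlgebraicGeometry.Birational.Composition

/-!
# Birational iff mutually inverse dominant rational maps (helper9)

* `H9Birat.birational_of_rationalMaps`, `H9Birat.rationalMaps_of_birational`.
-/

set_option autoImplicit false
universe u
open CategoryTheory AlgebraicGeometry

namespace H9Birat


variable {X Y : Scheme.{u}}

/-- unfolding `(F.comp G).equiv id`. -/
theorem exists_of_comp_equiv_id [PreirreducibleSpace X] [Nonempty Y]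
    (F : X.PartialMap Y) [IsDominant F.hom] (G : Y.PartialMap X)
    (h : (F.comp G).equiv (Scheme.PartialMap.id X)) :
    ∃ (W : X.Opens) (_ : Dense (W : Set X)) (hWF : W ≤ F.domain)
      (a' : W.toScheme ⟶ G.domain.toScheme),
      a' ≫ G.domain.ι = X.homOfLE hWF ≫ F.hom ∧ a' ≫ G.hom = W.ι := by
  obtain ⟨W, hW, hWl, hWr, e⟩ := h
  have hWl' : W ≤ F.domain.ι ''ᵁ F.hom ⁻¹ᵁ G.domain := hWl
  have hWF : W ≤ F.domain := hWl'.trans (F.domain.ι_image_le _)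
  refine ⟨W, hW, hWF, X.homOfLE hWl' ≫ (F.domain.ι.isoImage _).inv ≫ F.hom ∣_ G.domain, ?_, ?_⟩
  · rw [Category.assoc, Category.assoc, morphismRestrict_ι,
      Scheme.Opens.isoImage_ι_inv_ι_assoc, Scheme.homOfLE_homOfLE_assoc]
  · have e' : X.homOfLE hWl' ≫ (F.domain.ι.isoImage _).inv ≫ F.hom ∣_ G.domain ≫ G.hom =
        X.homOfLE (le_top : W ≤ ⊤) ≫ (⊤ : X.Opens).ι ≫ 𝟙 X := e
    rw [Category.assoc, Category.assoc, e', Category.comp_id, Scheme.homOfLE_ι]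




section Core

variable (W : X.Opens) (W' : Y.Opens) (a : W.toScheme ⟶ Y) (b : W'.toScheme ⟶ X)

/-- the restricted map lands in the other restricted open. -/
lemma range_sub (hab : a ∣_ W' ≫ b = (a ⁻¹ᵁ W').ι ≫ W.ι) :
    Set.range (a ∣_ W').base ⊆ Set.range (b ⁻¹ᵁ W).ι.base := by
  rintro _ ⟨z, rfl⟩
  rw [Scheme.Opens.range_ι]
  change b.base ((a ∣_ W').base z) ∈ W
  have : b.base ((a ∣_ W').base z) = ((a ⁻¹ᵁ W').ι ≫ W.ι).base z := by
    rw [← hab]; rfl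
  rw [this]
  exact ((a ⁻¹ᵁ W').ι.base z).2

/-- the morphism `a⁻¹(W') ⟶ b⁻¹(W)`. -/
noncomputable def fwd (hab : a ∣_ W' ≫ b = (a ⁻¹ᵁ W').ι ≫ W.ι) :
    (a ⁻¹ᵁ W').toScheme ⟶ (b ⁻¹ᵁ W).toScheme :=
  IsOpenImmersion.lift (b ⁻¹ᵁ W).ι (a ∣_ W') (range_sub W W' a b hab)

lemma fwd_ι (hab : a ∣_ W' ≫ b = (a ⁻¹ᵁ W').ι ≫ W.ι) :
    fwd W W' a b hab ≫ (b ⁻¹ᵁ W).ι = a ∣_ W' :=
  IsOpenImmersion.lift_fac _ _ _

lemma fwd_bwd (hab : a ∣_ W' ≫ b = (a ⁻¹ᵁ W').ι ≫ W.ι)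
    (hba : b ∣_ W ≫ a = (b ⁻¹ᵁ W).ι ≫ W'.ι) :
    fwd W W' a b hab ≫ fwd W' W b a hba = 𝟙 _ := by
  rw [← cancel_mono ((a ⁻¹ᵁ W').ι ≫ W.ι)]
  rw [Category.assoc, ← Category.assoc (fwd W' W b a hba), fwd_ι, morphismRestrict_ι,
    ← Category.assoc, fwd_ι, hab, Category.id_comp]

/-- the iso `a⁻¹(W') ≅ b⁻¹(W)`. -/
noncomputable def coreIso (hab : a ∣_ W' ≫ b = (a ⁻¹ᵁ W').ι ≫ W.ι)
    (hba : b ∣_ W ≫ a = (b ⁻¹ᵁ W).ι ≫ W'.ι) :
    (a ⁻¹ᵁ W').toScheme ≅ (b ⁻¹ᵁ W).toScheme where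
  hom := fwd W W' a b hab
  inv := fwd W' W b a hba
  hom_inv_id := fwd_bwd W W' a b hab hba
  inv_hom_id := fwd_bwd W' W b a hba hab

end Core




section PI

variable (W : X.Opens) (W' : Y.Opens) (a : W.toScheme ⟶ Y) (b : W'.toScheme ⟶ X)

lemma dense_image [IrreducibleSpace X] [IsDominant a] (hW' : Dense (W' : Set Y)) [Nonempty Y] :
    Dense ((W.ι ''ᵁ (a ⁻¹ᵁ W') : X.Opens) : Set X) := by
  refine (W.ι ''ᵁ (a ⁻¹ᵁ W')).2.dense ?_
  obtain ⟨_, hy, z, rfl⟩ := a.denseRange.inter_open_nonempty _ W'.2 hW'.nonempty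
  exact ⟨W.ι.base z, z, hy, rfl⟩

/-- the partial isomorphism. -/
noncomputable def partialIso [IrreducibleSpace X] [IrreducibleSpace Y] [IsDominant a] [IsDominant b]
    (hW : Dense (W : Set X)) (hW' : Dense (W' : Set Y))
    (hab : a ∣_ W' ≫ b = (a ⁻¹ᵁ W').ι ≫ W.ι)
    (hba : b ∣_ W ≫ a = (b ⁻¹ᵁ W).ι ≫ W'.ι) : X.PartialIso Y where
  source := W.ι ''ᵁ (a ⁻¹ᵁ W')
  dense_source := dense_image W W' a hW'
  target := W'.ι ''ᵁ (b ⁻¹ᵁ W)
  dense_target := dense_image W' W b hW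
  iso := (W.ι.isoImage _).symm ≪≫ coreIso W W' a b hab hba ≪≫ W'.ι.isoImage _

end PI




lemma hab_of_data (F : X.PartialMap Y) (G : Y.PartialMap X)
    (W : X.Opens) (hWF : W ≤ F.domain) (a' : W.toScheme ⟶ G.domain.toScheme)
    (ha1 : a' ≫ G.domain.ι = X.homOfLE hWF ≫ F.hom) (ha2 : a' ≫ G.hom = W.ι)
    (W' : Y.Opens) (hW'G : W' ≤ G.domain) :
    (X.homOfLE hWF ≫ F.hom) ∣_ W' ≫ (Y.homOfLE hW'G ≫ G.hom) =
      ((X.homOfLE hWF ≫ F.hom) ⁻¹ᵁ W').ι ≫ W.ι := by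
  have key : (X.homOfLE hWF ≫ F.hom) ∣_ W' ≫ Y.homOfLE hW'G =
      ((X.homOfLE hWF ≫ F.hom) ⁻¹ᵁ W').ι ≫ a' := by
    rw [← cancel_mono G.domain.ι, Category.assoc, Category.assoc, Scheme.homOfLE_ι,
      morphismRestrict_ι, ha1]
  rw [reassoc_of% key, ha2]

theorem birational_of_rationalMaps [IsIntegral X] [IsIntegral Y]
    (f : X ⤏ Y) (g : Y ⤏ X) [f.IsDominant] [g.IsDominant]
    (h1 : f.comp g = Scheme.RationalMap.id X) (h2 : g.comp f = Scheme.RationalMap.id Y) :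
    Scheme.Birational X Y := by
  have e1 : (f.representative.comp g.representative).equiv (Scheme.PartialMap.id X) := by
    rw [← Scheme.PartialMap.toRationalMap_eq_iff, ← Scheme.RationalMap.comp_def,
      g.toRationalMap_representative]
    exact h1
  have e2 : (g.representative.comp f.representative).equiv (Scheme.PartialMap.id Y) := by
    rw [← Scheme.PartialMap.toRationalMap_eq_iff, ← Scheme.RationalMap.comp_def,
      f.toRationalMap_representative]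
    exact h2
  obtain ⟨W, hW, hWF, a', ha1, ha2⟩ := exists_of_comp_equiv_id _ _ e1
  obtain ⟨W', hW', hW'G, b', hb1, hb2⟩ := exists_of_comp_equiv_id _ _ e2
  have : IsDominant (X.homOfLE hWF) := AlgebraicGeometry.Opens.isDominant_homOfLE hW hWF
  have : IsDominant (Y.homOfLE hW'G) := AlgebraicGeometry.Opens.isDominant_homOfLE hW' hW'G
  exact ⟨partialIso W W' (X.homOfLE hWF ≫ f.representative.hom)
    (Y.homOfLE hW'G ≫ g.representative.hom) hW hW'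
    (hab_of_data _ _ W hWF a' ha1 ha2 W' hW'G)
    (hab_of_data _ _ W' hW'G b' hb1 hb2 W hWF)⟩




instance isDominant_toPartialMap_hom (φ : X.PartialIso Y) : IsDominant φ.toPartialMap.hom := by
  have : IsDominant φ.target.ι := Opens.isDominant_ι φ.dense_target
  change IsDominant (φ.iso.hom ≫ φ.target.ι)
  infer_instance

lemma comp_symm_hom (φ : X.PartialIso Y) :
    (φ.source.ι.isoImage _).inv ≫ (φ.iso.hom ≫ φ.target.ι) ∣_ φ.target ≫ (φ.iso.inv ≫ φ.source.ι) =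
      (φ.source.ι ''ᵁ ((φ.iso.hom ≫ φ.target.ι) ⁻¹ᵁ φ.target)).ι := by
  have key : (φ.iso.hom ≫ φ.target.ι) ∣_ φ.target ≫ φ.iso.inv =
      ((φ.iso.hom ≫ φ.target.ι) ⁻¹ᵁ φ.target).ι := by
    rw [← cancel_mono φ.iso.hom, Category.assoc, Iso.inv_hom_id, Category.comp_id,
      ← cancel_mono φ.target.ι, morphismRestrict_ι, Category.assoc]
  rw [reassoc_of% key, Scheme.Hom.isoImage_inv_ι]

theorem comp_symm_equiv_id [IrreducibleSpace X] [Nonempty Y] (φ : X.PartialIso Y) :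
    (φ.toPartialMap.comp φ.symm.toPartialMap).equiv (Scheme.PartialMap.id X) := by
  refine ⟨φ.source.ι ''ᵁ ((φ.iso.hom ≫ φ.target.ι) ⁻¹ᵁ φ.target),
    (φ.toPartialMap.comp φ.symm.toPartialMap).dense_domain, le_rfl, le_top, ?_⟩
  change X.homOfLE le_rfl ≫ (φ.source.ι.isoImage _).inv ≫ (φ.iso.hom ≫ φ.target.ι) ∣_ φ.target ≫
    (φ.iso.inv ≫ φ.source.ι) = X.homOfLE le_top ≫ (⊤ : X.Opens).ι ≫ 𝟙 X
  rw [comp_symm_hom, Scheme.homOfLE_ι, Category.comp_id, Scheme.homOfLE_ι]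

theorem rationalMaps_of_birational [IsIntegral X] [IsIntegral Y] (φ : X.PartialIso Y) :
    ∃ (f : X ⤏ Y) (g : Y ⤏ X) (_ : f.IsDominant) (_ : g.IsDominant),
        f.comp g = Scheme.RationalMap.id X ∧ g.comp f = Scheme.RationalMap.id Y := by
  refine ⟨φ.toRationalMap, φ.symm.toRationalMap, inferInstance, inferInstance, ?_, ?_⟩
  · rw [Scheme.RationalMap.toRationalMap_comp, Scheme.PartialMap.toRationalMap_eq_iff]
    exact comp_symm_equiv_id φ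
  · rw [Scheme.RationalMap.toRationalMap_comp, Scheme.PartialMap.toRationalMap_eq_iff]
    exact comp_symm_equiv_id φ.symm


end H9Birat
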