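import Mathlib
import Groth.Agent.Lib.H9RigA

/-! helper9: fibrewise rigidity (towards Blanchard's lemma S14579). -/
set_option autoImplicit false

universe u
open CategoryTheory CategoryTheory.Limits AlgebraicGeometry

namespace Groth.Agent.Lib.H9BlanchA

open Groth.Agent.Lib.H9RigA

section main

variable {S T X Y : Scheme.{u}} (g : X ⟶ T) (f : X ⟶ Y) (p : T ⟶ S) (q : Y ⟶ S)
  (hf : f ≫ q = g ≫ p)

/-- collapsed fibres lie in the good locus (needs only `O_T ≅ g_* O_X`, properness and
surjectivity). -/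
theorem mem_good_of_collapsed [IsProper g]
    (hsurj : Function.Surjective g) (hg : ∀ V : T.Opens, IsIso (g.app V))
    (t : T) (ht : (f '' (g ⁻¹' {t})).Subsingleton) : t ∈ sSup (good g f) := by
  obtain ⟨x₀, hx₀⟩ := hsurj t
  obtain ⟨W₀, htW, k, hk⟩ := local_factor g hg f t (f x₀)
    (fun x hx => ht ⟨x, hx, rfl⟩ ⟨x₀, hx₀, rfl⟩)
  exact TopologicalSpace.Opens.mem_sSup.mpr ⟨W₀, good_of_factor g f W₀ k hk, htW⟩

/-- over the good locus, fibres are collapsed -/
theorem collapsed_of_mem_good (t : T) (ht : t ∈ sSup (good g f)) (x₁ x₂ : X)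
    (h₁ : g x₁ = t) (h₂ : g x₂ = t) : f x₁ = f x₂ := by
  obtain ⟨W₀, hW₀, htW₀⟩ := TopologicalSpace.Opens.mem_sSup.mp ht
  obtain ⟨d, hd₁, hd₂⟩ := Scheme.Pullback.exists_preimage_pullback (f := g) (g := g) x₁ x₂
    (h₁.trans h₂.symm)
  set U := (pullback.fst g g ≫ g) ⁻¹ᵁ W₀ with hU
  have hdU : d ∈ U := by
    show (pullback.fst g g ≫ g) d ∈ W₀
    rw [Scheme.Hom.comp_apply, hd₁, h₁]
    exact htW₀
  have := congr($(hW₀) ⟨d, hdU⟩)
  simp only [Scheme.Hom.comp_apply] at this
  have hι : U.ι ⟨d, hdU⟩ = d := rfl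
  rw [hι, hd₁, hd₂] at this
  exact this

include hf in
/-- **Fibrewise rigidity**: if the base change of `g` along `ι : T' ⟶ T` is flat and locally of
finite presentation, the preimage of the good locus in `T'` is clopen. -/
theorem isClopen_preimage_good [IsSeparated q] [IsProper g]
    (hsurj : Function.Surjective g) (hg : ∀ V : T.Opens, IsIso (g.app V))
    {T' : Scheme.{u}} (ι : T' ⟶ T) [Flat (pullback.snd g ι)]
    [LocallyOfFinitePresentation (pullback.snd g ι)] :
    IsClopen (ι ⁻¹' ((sSup (good g f) : T.Opens) : Set T)) := by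
  refine ⟨?_, (sSup (good g f)).2.preimage ι.continuous⟩
  set g' := pullback.snd g ι with hg'
  set f' := pullback.fst g ι ≫ f with hf'
  have hf'' : f' ≫ q = g' ≫ (ι ≫ p) := by
    rw [hf', Category.assoc, hf, pullback.condition_assoc]
  set h' := pullback.fst g' g' ≫ g' with hh'
  have hopen : IsOpenMap h' := h'.isOpenMap
  -- the comparison map of pairs
  let m : pullback g' g' ⟶ pullback g g :=
    pullback.map g' g' g g (pullback.fst g ι) (pullback.fst g ι) ι
      pullback.condition.symm pullback.condition.symm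
  have hm₁ : m ≫ pullback.fst g g = pullback.fst g' g' ≫ pullback.fst g ι :=
    pullback.lift_fst _ _ _
  have hm₂ : m ≫ pullback.snd g g = pullback.snd g' g' ≫ pullback.fst g ι :=
    pullback.lift_snd _ _ _
  have hWeq : ι ⁻¹' ((sSup (good g f) : T.Opens) : Set T) =
      (h' '' (E g' f' (ι ≫ p) q hf'')ᶜ)ᶜ := by
    ext t
    constructor
    · intro ht
      rintro ⟨d, hd, rfl⟩
      apply hd
      -- the preimage of the good locus is good for the base-changed family
      have hgood : ι ⁻¹ᵁ (sSup (good g f)) ∈ good g' f' := by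
        show _ = _
        set U' := (pullback.fst g' g' ≫ g') ⁻¹ᵁ (ι ⁻¹ᵁ (sSup (good g f))) with hU'
        have := eq_of_forall_mem_sSup_good g f (U'.ι ≫ m) (fun z => by
          have hz : (pullback.fst g' g' ≫ g') z.1 ∈ ι ⁻¹ᵁ (sSup (good g f)) := z.2
          have e : (U'.ι ≫ m) ≫ pullback.fst g g ≫ g = U'.ι ≫ (pullback.fst g' g' ≫ g') ≫ ι := by
            rw [Category.assoc, reassoc_of% hm₁, pullback.condition]
            simp only [Category.assoc]
            rfl
          rw [e, Scheme.Hom.comp_apply, Scheme.Hom.comp_apply]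
          exact hz)
        rw [Category.assoc, Category.assoc, reassoc_of% hm₁, reassoc_of% hm₂] at this
        exact this
      exact mem_E_of_good g' f' (ι ≫ p) q hf'' _ hgood d ht
    · intro ht
      have hE : ∀ d, h' d = t → d ∈ E g' f' (ι ≫ p) q hf'' := by
        intro d hd
        by_contra hd'
        exact ht ⟨d, hd', hd⟩
      refine mem_good_of_collapsed g f hsurj hg (ι t) ?_
      rintro _ ⟨x₁, hx₁, rfl⟩ _ ⟨x₂, hx₂, rfl⟩
      obtain ⟨w₁, hw₁, hw₁'⟩ := Scheme.Pullback.exists_preimage_pullback (f := g) (g := ι) x₁ t hx₁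
      obtain ⟨w₂, hw₂, hw₂'⟩ := Scheme.Pullback.exists_preimage_pullback (f := g) (g := ι) x₂ t hx₂
      obtain ⟨d, hd₁, hd₂⟩ := Scheme.Pullback.exists_preimage_pullback (f := g') (g := g') w₁ w₂
        (hw₁'.trans hw₂'.symm)
      have := apply_eq_of_mem_E g' f' (ι ≫ p) q hf'' d (hE d (by
        rw [hh', Scheme.Hom.comp_apply, hd₁]; exact hw₁'))
      rw [hd₁, hd₂, hf', Scheme.Hom.comp_apply, Scheme.Hom.comp_apply, hw₁, hw₂] at this
      exact this
  rw [hWeq]
  exact (hopen _ (isClosed_E g' f' (ι ≫ p) q hf'').isOpen_compl).isClosed_compl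

end main

end Groth.Agent.Lib.H9BlanchA
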