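import Mathlib
import Groth.Agent.Lib.H9RigA

/-! helper9: rigidity for products in `Over S` (towards S7784, S7785, S7786, S7793, S7794). -/
set_option autoImplicit false

universe u
open CategoryTheory CategoryTheory.Limits MonoidalCategory CartesianMonoidalCategory
  AlgebraicGeometry

namespace Groth.Agent.Lib.H9RigB

open Groth.Agent.Lib.H9RigA

variable {S : Scheme.{u}}

/-- the fibre of `snd : X ⊗ B ⟶ B` over a section `e` of `B` is `X` -/
theorem isPullback_section (X B : Over S) (e : 𝟙_ (Over S) ⟶ B) :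
    IsPullback (lift (𝟙 X) (toUnit X ≫ e)).left X.hom (snd X B).left e.left := by
  have hw : e.left ≫ B.hom = 𝟙 S := Over.w e
  have h1 : (lift (𝟙 X) (toUnit X ≫ e)).left ≫ (fst X B).left = 𝟙 X.left := by
    rw [← Over.comp_left, lift_fst]; rfl
  have h2 : (lift (𝟙 X) (toUnit X ≫ e)).left ≫ (snd X B).left = X.hom ≫ e.left := by
    rw [← Over.comp_left, lift_snd]; rfl
  refine IsPullback.of_right (h₁₂ := (fst X B).left) (h₂₂ := B.hom) (v₁₃ := X.hom) ?_ h2
    (IsPullback.of_hasPullback X.hom B.hom)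
  rw [h1, hw]
  exact IsPullback.of_horiz_isIso ⟨by simp⟩

theorem exists_of_snd_eq (X B : Over S) (e : 𝟙_ (Over S) ⟶ B) (z : ↥(X ⊗ B).left) (s : S)
    (hz : (snd X B).left z = e.left s) :
    ∃ x : X.left, (lift (𝟙 X) (toUnit X ≫ e)).left x = z ∧ X.hom x = s := by
  have hp := isPullback_section X B e
  obtain ⟨w, hw₁, hw₂⟩ := Scheme.Pullback.exists_preimage_pullback (f := (snd X B).left)
    (g := e.left) z s hz
  refine ⟨hp.isoPullback.inv w, ?_, ?_⟩
  · rw [← Scheme.Hom.comp_apply, hp.isoPullback_inv_fst, hw₁]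
  · rw [← Scheme.Hom.comp_apply, hp.isoPullback_inv_snd, hw₂]


/-- every clopen neighbourhood of `e(s)` contains the whole fibre over `s` -/
theorem mem_of_isClopen_of_section (B : Over S) [GeometricallyConnected B.hom]
    (e : 𝟙_ (Over S) ⟶ B) (x' : B.left) (W : Set B.left) (hW : IsClopen W)
    (ht : e.left (B.hom x') ∈ W) : x' ∈ W := by
  have hw : e.left ≫ B.hom = 𝟙 S := Over.w e
  have hconn := (B.hom.isConnected_preimage_singleton (B.hom x')).isPreconnected
  have hmem : e.left (B.hom x') ∈ B.hom ⁻¹' {B.hom x'} := by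
    show B.hom (e.left (B.hom x')) = B.hom x'
    rw [← Scheme.Hom.comp_apply, hw]
    rfl
  exact hconn.subset_isClopen hW ⟨_, hmem, ht⟩ (show x' ∈ B.hom ⁻¹' {B.hom x'} from rfl)

/-- **Rigidity for products**: a morphism `φ : X ⊗ B ⟶ Y` which is constant on `X × e_B`
factors through the second projection. -/
theorem eq_snd_comp {X B Y : Over S} [IsProper X.hom] [Flat X.hom]
    [LocallyOfFinitePresentation X.hom] [GeometricallyReduced X.hom]
    [GeometricallyConnected X.hom] [GeometricallyConnected B.hom] [IsSeparated Y.hom]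
    (eX : 𝟙_ (Over S) ⟶ X) (eB : 𝟙_ (Over S) ⟶ B) (y₀ : 𝟙_ (Over S) ⟶ Y) (φ : X ⊗ B ⟶ Y)
    (hφ : lift (𝟙 X) (toUnit X ≫ eB) ≫ φ = toUnit X ≫ y₀) :
    φ = snd X B ≫ lift (toUnit B ≫ eX) (𝟙 B) ≫ φ := by
  ext1
  rw [Over.comp_left, Over.comp_left]
  have hf : φ.left ≫ Y.hom = pullback.snd X.hom B.hom ≫ B.hom :=
    (Over.w φ).trans (Over.w (snd X B)).symm
  have hσ : (lift (toUnit B ≫ eX) (𝟙 B)).left ≫ pullback.snd X.hom B.hom = 𝟙 B.left := by
    show _ ≫ (snd X B).left = _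
    rw [← Over.comp_left, lift_snd]; rfl
  refine eq_comp_section (pullback.snd X.hom B.hom) φ.left B.hom Y.hom hf _ hσ fun x' => ?_
  refine ⟨eB.left (B.hom x'), ?_, fun W hW ht => mem_of_isClopen_of_section B eB x' W hW ht⟩
  have key : ∀ z : ↥(X ⊗ B).left, (snd X B).left z = eB.left (B.hom x') →
      φ.left z = y₀.left (B.hom x') := by
    intro z hz
    obtain ⟨x, rfl, hxs⟩ := exists_of_snd_eq X B eB z _ hz
    rw [← Scheme.Hom.comp_apply, ← Over.comp_left, hφ, Over.comp_left, Scheme.Hom.comp_apply]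
    congr 1
  rintro _ ⟨z₁, hz₁, rfl⟩ _ ⟨z₂, hz₂, rfl⟩
  exact (key z₁ hz₁).trans (key z₂ hz₂).symm

end Groth.Agent.Lib.H9RigB
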