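import Mathlib
import Groth.Prelude.Def_ega3
import Groth.Agent.Lib.H9CbH
import Groth.Agent.Lib.H9CbG

/-! helper9: `dim H⁰(X_y, O) = 1` for all `y` iff `O_T = (f_T)_* O` universally (S16758). -/
set_option autoImplicit false

universe u
open CategoryTheory CategoryTheory.Limits AlgebraicGeometry

namespace Groth.Agent.Lib.H9FibOne

theorem bijective_algebraMap_of_finrank_eq_one (K A : Type*) [Field K] [CommRing A] [Algebra K A]
    (h : Module.finrank K A = 1) : Function.Bijective (algebraMap K A) := by
  haveI : Nontrivial A := by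
    have : 0 < Module.finrank K A := by omega
    exact Module.nontrivial_of_finrank_pos this
  refine ⟨(algebraMap K A).injective, ?_⟩
  rw [Algebra.surjective_algebraMap_iff]
  exact (Subalgebra.bot_eq_top_of_finrank_eq_one h).symm

theorem finrank_eq_one_of_bijective_algebraMap (K A : Type*) [Field K] [CommRing A] [Algebra K A]
    (h : Function.Bijective (algebraMap K A)) : Module.finrank K A = 1 := by
  have e : K ≃ₗ[K] A := (AlgEquiv.ofBijective (Algebra.ofId K A) h).toLinearEquiv
  rw [← e.finrank_eq, Module.finrank_self]

variable {X Y : Scheme.{u}} (f : X ⟶ Y)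

theorem isIso_appTop_iff_finrank (y : Y) :
    IsIso (f.fiberToSpecResidueField y).appTop ↔
      Module.finrank (Y.residueField y) Γ(f.fiber y, ⊤) = 1 := by
  have key : IsIso (f.fiberToSpecResidueField y).appTop ↔
      Function.Bijective (algebraMap (Y.residueField y) Γ(f.fiber y, ⊤)) := by
    have h1 : (algebraMap (Y.residueField y) Γ(f.fiber y, ⊤) : _ → _) =
        ((Scheme.ΓSpecIso (Y.residueField y)).inv ≫ (f.fiberToSpecResidueField y).appTop).hom :=
      rfl
    rw [h1, ← ConcreteCategory.isIso_iff_bijective]
    constructor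
    · intro h; infer_instance
    · intro h
      have : (f.fiberToSpecResidueField y).appTop =
          (Scheme.ΓSpecIso (Y.residueField y)).hom ≫
            ((Scheme.ΓSpecIso (Y.residueField y)).inv ≫ (f.fiberToSpecResidueField y).appTop) := by
        simp
      rw [this]
      infer_instance
  rw [key]
  exact ⟨finrank_eq_one_of_bijective_algebraMap _ _, bijective_algebraMap_of_finrank_eq_one _ _⟩

/-- **S16758** -/
theorem main [IsProper f] [Flat f] [IsLocallyNoetherian Y] :
    (∀ y : Y, Module.finrank (Y.residueField y) Γ(f.fiber y, ⊤) = 1) ↔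
      ∀ (T : Scheme.{u}) (g : T ⟶ Y) (U : T.Opens), IsIso ((pullback.snd f g).app U) := by
  constructor
  · intro h T g U
    refine Groth.Agent.Lib.H9CbH.main (pullback.snd f g) (fun t => ?_) U
    exact Groth.Agent.Lib.H9CbG.isIso_fiber_appTop_of_isPullback (IsPullback.of_hasPullback f g) t
      ((isIso_appTop_iff_finrank f (g t)).mpr (h (g t)))
  · intro h y
    rw [← isIso_appTop_iff_finrank]
    exact h _ (Y.fromSpecResidueField y) ⊤

end Groth.Agent.Lib.H9FibOne
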