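import Mathlib
import Groth.Prelude.Def_ega3
import Groth.Agent.Lib.H9RigA
import Groth.Agent.Lib.H9CbH
import Groth.Agent.Lib.H9FibOne

/-! helper9: rigidity lemma in terms of `O_T ≅ g_* O_X` (no reducedness), and S14141. -/
set_option autoImplicit false

universe u
open CategoryTheory CategoryTheory.Limits AlgebraicGeometry

namespace Groth.Agent.Lib.H9RigJ

open Groth.Agent.Lib.H9RigA

section main

variable {S T X Y : Scheme.{u}} (g : X ⟶ T) (f : X ⟶ Y) (p : T ⟶ S) (q : Y ⟶ S)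
  (hf : f ≫ q = g ≫ p)

include hf in
/-- **Rigidity lemma**, good-locus form, assuming only `O_T ≅ g_* O_X` and surjectivity. -/
theorem rigidity_good' [IsSeparated q] [IsProper g] [Flat g] [LocallyOfFinitePresentation g]
    (hsurj : Function.Surjective g) (hg : ∀ V : T.Opens, IsIso (g.app V)) :
    IsClosed ((sSup (good g f) : T.Opens) : Set T) ∧
      ∀ t : T, (f '' (g ⁻¹' {t})).Subsingleton → t ∈ sSup (good g f) := by
  have claim1 : ∀ (t' : T), (f '' (g ⁻¹' {t'})).Subsingleton → ∃ W₀ ∈ good g f, t' ∈ W₀ := by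
    intro t' ht'
    obtain ⟨x₀, hx₀⟩ := hsurj t'
    obtain ⟨W₀, htW, k, hk⟩ := local_factor g hg f t' (f x₀)
      (fun x hx => ht' ⟨x, hx, rfl⟩ ⟨x₀, hx₀, rfl⟩)
    exact ⟨W₀, good_of_factor g f W₀ k hk, htW⟩
  set h := pullback.fst g g ≫ g with hh
  let W : T.Opens := sSup (good g f)
  have hWeq : (W : Set T) = (h '' (E g f p q hf)ᶜ)ᶜ := by
    ext t'
    constructor
    · intro ht'
      obtain ⟨W₀, hW₀, htW₀⟩ := TopologicalSpace.Opens.mem_sSup.mp ht'
      rintro ⟨d, hd, rfl⟩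
      exact hd (mem_E_of_good g f p q hf W₀ hW₀ d htW₀)
    · intro ht'
      have hE : ∀ d, h d = t' → d ∈ E g f p q hf := by
        intro d hd
        by_contra hd'
        exact ht' ⟨d, hd', hd⟩
      obtain ⟨W₀, hW₀, htW₀⟩ := claim1 t' (by
        rintro _ ⟨x₁, hx₁, rfl⟩ _ ⟨x₂, hx₂, rfl⟩
        obtain ⟨d, hd₁, hd₂⟩ := Scheme.Pullback.exists_preimage_pullback (f := g) (g := g) x₁ x₂
          (hx₁.trans hx₂.symm)
        have := apply_eq_of_mem_E g f p q hf d (hE d (by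
          rw [hh, Scheme.Hom.comp_apply, hd₁]; exact hx₁))
        rwa [hd₁, hd₂] at this)
      exact TopologicalSpace.Opens.mem_sSup.mpr ⟨W₀, hW₀, htW₀⟩
  refine ⟨?_, fun t ht => ?_⟩
  · show IsClosed (W : Set T)
    rw [hWeq]
    exact (h.isOpenMap _ (isClosed_E g f p q hf).isOpen_compl).isClosed_compl
  · obtain ⟨W₀, hW₀, htW₀⟩ := claim1 t ht
    exact TopologicalSpace.Opens.mem_sSup.mpr ⟨W₀, hW₀, htW₀⟩

include hf in
/-- over a connected base, a map constant on one fibre factors through the base -/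
theorem exists_factor_of_preconnected [IsSeparated q] [IsProper g] [Flat g]
    [LocallyOfFinitePresentation g] [PreconnectedSpace T]
    (hsurj : Function.Surjective g) (hg : ∀ V : T.Opens, IsIso (g.app V)) (t : T)
    (ht : (f '' (g ⁻¹' {t})).Subsingleton) :
    ∃ σ : T ⟶ Y, g ≫ σ = f := by
  obtain ⟨hcl, hmem⟩ := rigidity_good' g f p q hf hsurj hg
  have huniv : ((sSup (good g f) : T.Opens) : Set T) = Set.univ :=
    IsClopen.eq_univ ⟨hcl, (sSup (good g f)).2⟩ ⟨t, hmem t ht⟩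
  have key : ∀ {Z : Scheme.{u}} (a b : Z ⟶ X), a ≫ g = b ≫ g → a ≫ f = b ≫ f := by
    intro Z a b hab
    have := eq_of_forall_mem_sSup_good g f (pullback.lift _ _ hab) (fun z => by
      show _ ∈ ((sSup (good g f) : T.Opens) : Set T)
      rw [huniv]
      trivial)
    rw [pullback.lift_fst_assoc, pullback.lift_snd_assoc] at this
    exact this
  haveI : Surjective g := ⟨hsurj⟩
  exact ⟨EffectiveEpi.desc g f key, EffectiveEpi.fac _ _ _⟩

end main

/-- **S14141** -/
theorem main14141 {X Y S : Scheme.{u}} [IsNoetherian S] [ConnectedSpace ↥S]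
    (f : X ⟶ S) [IsProper f] [Flat f]
    (hfib : ∀ s : ↥S, Function.Bijective (algebraMap (S.residueField s) Γ(f.fiber s, ⊤)))
    (g : Y ⟶ S) [IsSeparated g] (π : X ⟶ Y) (hπ : π ≫ g = f) (s : ↥S)
    (hs : ∃ y : Spec (S.residueField s) ⟶ Y, f.fiberι s ≫ π = f.fiberToSpecResidueField s ≫ y) :
    ∃ σ : S ⟶ Y, σ ≫ g = 𝟙 S ∧ π = f ≫ σ := by
  haveI : LocallyOfFinitePresentation f := inferInstance
  have h1 : ∀ s : S, IsIso (f.fiberToSpecResidueField s).appTop := fun s =>
    (Groth.Agent.Lib.H9FibOne.isIso_appTop_iff_finrank f s).mpr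
      (Groth.Agent.Lib.H9FibOne.finrank_eq_one_of_bijective_algebraMap _ _ (hfib s))
  have hsurj : Function.Surjective f := Groth.Agent.Lib.H9CbH.exists_preimage f h1
  have hg : ∀ V : S.Opens, IsIso (f.app V) := Groth.Agent.Lib.H9CbH.main f h1
  have hsub : (π '' (f ⁻¹' {s})).Subsingleton := by
    obtain ⟨y, hy⟩ := hs
    have hpt : ∀ x, f x = s → π x = y (default : Spec (S.residueField s)) := by
      intro x hx
      have hx' : x ∈ Set.range (f.fiberι s) := by
        rw [f.range_fiberι s]; exact hx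
      obtain ⟨z, rfl⟩ := hx'
      have := congr($(hy) z)
      rw [Scheme.Hom.comp_apply, Scheme.Hom.comp_apply] at this
      rw [this]
      congr 1
      exact Subsingleton.elim _ _
    rintro _ ⟨x₁, hx₁, rfl⟩ _ ⟨x₂, hx₂, rfl⟩
    rw [hpt x₁ hx₁, hpt x₂ hx₂]
  obtain ⟨σ, hσ⟩ := exists_factor_of_preconnected f π (𝟙 S) g (by rw [hπ, Category.comp_id])
    hsurj hg s hsub
  haveI : Surjective f := ⟨hsurj⟩
  refine ⟨σ, ?_, hσ.symm⟩
  rw [← cancel_epi f, ← Category.assoc, hσ, hπ, Category.comp_id]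

end Groth.Agent.Lib.H9RigJ
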