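import Mathlib
import Groth.Agent.Lib.H9RigB
import Groth.Agent.Lib.H9RigJ
import Groth.Agent.Lib.H9CbG

/-! helper9: rigidity (H⁰-form) for maps to group schemes (S11438, S11439). -/
set_option autoImplicit false

universe u
open CategoryTheory CategoryTheory.Limits MonoidalCategory CartesianMonoidalCategory MonObj GrpObj
  AlgebraicGeometry

namespace Groth.Agent.Lib.H9RigK

open Groth.Agent.Lib.H9RigA Groth.Agent.Lib.H9RigB Groth.Agent.Lib.H9RigJ

variable {S : Scheme.{u}}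

theorem isIso_of_bijective {X : Scheme.{u}} (p : X ⟶ S)
    (h0 : ∀ s : S, Function.Bijective (Limits.pullback.snd p (S.fromSpecResidueField s)).appTop)
    (s : S) : IsIso (p.fiberToSpecResidueField s).appTop := by
  have := h0 s
  rw [← ConcreteCategory.isIso_iff_bijective] at this
  exact this

/-- **Rigidity for products, H⁰-form**: a morphism `φ : X ⊗ B ⟶ Y` which is constant on
`X × e_B` factors through the second projection (`B` connected). -/
theorem exists_eq_snd_comp {X B Y : Over S} [IsProper X.hom] [Flat X.hom]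
    [LocallyOfFinitePresentation X.hom] [IsSeparated Y.hom] [PreconnectedSpace B.left]
    (h1 : ∀ s : S, IsIso (X.hom.fiberToSpecResidueField s).appTop)
    (eB : 𝟙_ (Over S) ⟶ B) (y₀ : 𝟙_ (Over S) ⟶ Y) (φ : X ⊗ B ⟶ Y) (b₀ : B.left)
    (hφ : lift (𝟙 X) (toUnit X ≫ eB) ≫ φ = toUnit X ≫ y₀) :
    ∃ h : B ⟶ Y, φ = snd X B ≫ h := by
  have hf : φ.left ≫ Y.hom = pullback.snd X.hom B.hom ≫ B.hom :=
    (Over.w φ).trans (Over.w (snd X B)).symm
  have h1' : ∀ b : B.left,
      IsIso ((pullback.snd X.hom B.hom).fiberToSpecResidueField b).appTop := fun b =>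
    Groth.Agent.Lib.H9CbG.isIso_fiber_appTop_of_isPullback
      (IsPullback.of_hasPullback X.hom B.hom) b (h1 (B.hom b))
  have hsurj : Function.Surjective (pullback.snd X.hom B.hom) :=
    Groth.Agent.Lib.H9CbH.exists_preimage _ h1'
  have hg : ∀ V : B.left.Opens, IsIso ((pullback.snd X.hom B.hom).app V) :=
    Groth.Agent.Lib.H9CbH.main _ h1'
  have key : ∀ z : ↥(X ⊗ B).left, (snd X B).left z = eB.left (B.hom b₀) →
      φ.left z = y₀.left (B.hom b₀) := by
    intro z hz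
    obtain ⟨x, rfl, hxs⟩ := exists_of_snd_eq X B eB z _ hz
    rw [← Scheme.Hom.comp_apply, ← Over.comp_left, hφ, Over.comp_left, Scheme.Hom.comp_apply]
    congr 1
  obtain ⟨σ, hσ⟩ := exists_factor_of_preconnected (pullback.snd X.hom B.hom) φ.left B.hom Y.hom hf
    hsurj hg (eB.left (B.hom b₀)) (by
      rintro _ ⟨z₁, hz₁, rfl⟩ _ ⟨z₂, hz₂, rfl⟩
      exact (key z₁ hz₁).trans (key z₂ hz₂).symm)
  haveI : Surjective (pullback.snd X.hom B.hom) := ⟨hsurj⟩
  have hσ' : σ ≫ Y.hom = B.hom := by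
    rw [← cancel_epi (pullback.snd X.hom B.hom), ← Category.assoc, hσ, hf]
  refine ⟨Over.homMk σ hσ', ?_⟩
  ext1
  rw [Over.comp_left]
  exact hσ.symm

/-- a morphism `φ : X ⟶ Y` constant on one fibre factors through the base (`S` connected) -/
theorem exists_eq_toUnit_comp {X Y : Over S} [IsProper X.hom] [Flat X.hom]
    [LocallyOfFinitePresentation X.hom] [IsSeparated Y.hom] [PreconnectedSpace S]
    (h1 : ∀ s : S, IsIso (X.hom.fiberToSpecResidueField s).appTop)
    (φ : X ⟶ Y) (s : S) (hs : (φ.left '' (X.hom ⁻¹' {s})).Subsingleton) :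
    ∃ t : 𝟙_ (Over S) ⟶ Y, φ = toUnit X ≫ t := by
  have hsurj : Function.Surjective X.hom := Groth.Agent.Lib.H9CbH.exists_preimage _ h1
  have hg : ∀ V : S.Opens, IsIso (X.hom.app V) := Groth.Agent.Lib.H9CbH.main _ h1
  obtain ⟨σ, hσ⟩ := exists_factor_of_preconnected X.hom φ.left (𝟙 S) Y.hom
    (by rw [Over.w φ, Category.comp_id]) hsurj hg s hs
  haveI : Surjective X.hom := ⟨hsurj⟩
  have hσ' : σ ≫ Y.hom = 𝟙 S := by
    rw [← cancel_epi X.hom, ← Category.assoc, hσ, Over.w φ, Category.comp_id]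
  refine ⟨Over.homMk σ hσ', ?_⟩
  ext1
  rw [Over.comp_left]
  exact hσ.symm

/-- **S11438** -/
theorem main11438 (S : Scheme.{u}) [IsLocallyNoetherian S] [ConnectedSpace S]
    (X G : Over S) [GrpObj G] [IsLocallyNoetherian G.left] [IsSeparated G.hom] [IsProper X.hom]
    [Flat X.hom]
    (h0 : ∀ s : S, Function.Bijective (Limits.pullback.snd X.hom (S.fromSpecResidueField s)).appTop)
    (f g : X ⟶ G) (s : S)
    (hs : Limits.pullback.fst X.hom (S.fromSpecResidueField s) ≫ f.left =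
      Limits.pullback.fst X.hom (S.fromSpecResidueField s) ≫ g.left) :
    ∃ t : 𝟙_ (Over S) ⟶ G, f = (toUnit X ≫ t) * g := by
  have : LocallyOfFinitePresentation X.hom := inferInstance
  have h1 := isIso_of_bijective X.hom h0
  let F : Over S := Over.mk (Limits.pullback.fst X.hom (S.fromSpecResidueField s) ≫ X.hom)
  let i0 : F ⟶ X := Over.homMk (Limits.pullback.fst X.hom (S.fromSpecResidueField s)) rfl
  have hι : i0 ≫ f = i0 ≫ g := by
    ext1
    rw [Over.comp_left, Over.comp_left]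
    exact hs
  have hφ : i0 ≫ (f * g⁻¹) = toUnit F ≫ η[G] := by
    rw [MonObj.comp_mul, GrpObj.comp_inv, hι, mul_inv_cancel, Hom.one_def]
  have hpt : ∀ x : X.left, X.hom x = s → (f * g⁻¹).left x = η[G].left s := by
    intro x hx
    have hx' : x ∈ Set.range (X.hom.fiberι s) := by
      rw [X.hom.range_fiberι s]; exact hx
    obtain ⟨z, rfl⟩ := hx'
    have h2 := congr($(hφ).left z)
    rw [Over.comp_left, Over.comp_left, Scheme.Hom.comp_apply, Scheme.Hom.comp_apply] at h2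
    refine h2.trans ?_
    congr 1
  obtain ⟨t, ht⟩ := exists_eq_toUnit_comp h1 (f * g⁻¹) s (by
    rintro _ ⟨x₁, hx₁, rfl⟩ _ ⟨x₂, hx₂, rfl⟩
    rw [hpt x₁ hx₁, hpt x₂ hx₂])
  refine ⟨t, ?_⟩
  rw [← ht, inv_mul_cancel_right]

/-- **S11439** -/
theorem main11439 (S : Scheme.{u}) [IsLocallyNoetherian S]
    (X Y G : Over S) [GrpObj G] [IsLocallyNoetherian G.left] [IsSeparated G.hom] [IsProper X.hom]
    [Flat X.hom]
    (h0 : ∀ s : S, Function.Bijective (Limits.pullback.snd X.hom (S.fromSpecResidueField s)).appTop)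
    [IsLocallyNoetherian Y.left] [IsSeparated Y.hom] [ConnectedSpace Y.left] (e : 𝟙_ (Over S) ⟶ Y)
    (f : X ⊗ Y ⟶ G) :
    ∃ (g : X ⟶ G) (h : Y ⟶ G), f = (fst X Y ≫ g) * (snd X Y ≫ h) := by
  have : LocallyOfFinitePresentation X.hom := inferInstance
  have h1 := isIso_of_bijective X.hom h0
  let j : X ⟶ X ⊗ Y := lift (𝟙 X) (toUnit X ≫ e)
  let g : X ⟶ G := j ≫ f
  have hφ : j ≫ ((fst X Y ≫ g)⁻¹ * f) = toUnit X ≫ η[G] := by
    rw [MonObj.comp_mul, GrpObj.comp_inv, ← Category.assoc, lift_fst, Category.id_comp,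
      inv_mul_cancel, Hom.one_def]
  obtain ⟨h, hh⟩ := exists_eq_snd_comp h1 e η[G] ((fst X Y ≫ g)⁻¹ * f)
    (Classical.arbitrary Y.left) hφ
  refine ⟨g, h, ?_⟩
  rw [← hh, mul_inv_cancel_left]

end Groth.Agent.Lib.H9RigK
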