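import Mathlib
import Groth.Prelude.Def_AlgGrp
import Groth.Agent.Lib.H9RigK
import Groth.Agent.Lib.Helper12GeomConn
import Groth.Agent.Lib.Helper6SepCl2
import Groth.Agent.Lib.H9CbI
import Groth.Agent.Lib.Helper11RigidAntiE

/-! helper9: actions of connected groups on products of complete varieties (S11420). -/
set_option autoImplicit false

universe u
open CategoryTheory CategoryTheory.Limits MonoidalCategory CartesianMonoidalCategory MonObj GrpObj
  AlgebraicGeometry

namespace Groth.Agent.Lib.H9RigN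

open Groth.Agent.Lib.H9RigK

section general

variable {S : Scheme.{u}} {G P Q : Over S} [GrpObj G]

/-- the unit acts trivially, on generalized points -/
theorem lift_one_act (a : AlgGrp.Action G P) {T : Over S} (w : T ⟶ P) :
    lift (toUnit T ≫ η[G]) w ≫ a.act = w := by
  have h : lift (toUnit T ≫ η[G]) w = lift (toUnit T) w ≫ (η[G] ▷ P) := by
    apply CartesianMonoidalCategory.hom_ext
    · rw [lift_fst, Category.assoc, whiskerRight_fst, lift_fst_assoc]
    · rw [lift_snd, Category.assoc, whiskerRight_snd, lift_snd]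
  rw [h, Category.assoc, a.one_act, leftUnitor_hom, lift_snd]

/-- an action descends along an equivariant split epimorphism -/
theorem one_act_of_splitEpi (a : AlgGrp.Action G P) (π : P ⟶ Q) (i : Q ⟶ P) (hi : i ≫ π = 𝟙 Q)
    (h : G ⊗ Q ⟶ Q) (hh : a.act ≫ π = (G ◁ π) ≫ h) :
    (η[G] ▷ Q) ≫ h = (λ_ Q).hom := by
  have h1 : (η[G] ▷ Q) ≫ h = (𝟙_ (Over S) ◁ i) ≫ (𝟙_ (Over S) ◁ π) ≫ (η[G] ▷ Q) ≫ h := by
    rw [← MonoidalCategory.whiskerLeft_comp_assoc, hi, MonoidalCategory.whiskerLeft_id,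
      Category.id_comp]
  rw [h1, whisker_exchange_assoc, ← hh, reassoc_of% a.one_act, leftUnitor_naturality_assoc, hi,
    Category.comp_id]

/-- an action descends along an equivariant split epimorphism -/
theorem mul_act_of_splitEpi (a : AlgGrp.Action G P) (π : P ⟶ Q) (i : Q ⟶ P) (hi : i ≫ π = 𝟙 Q)
    (h : G ⊗ Q ⟶ Q) (hh : a.act ≫ π = (G ◁ π) ≫ h) :
    (μ[G] ▷ Q) ≫ h = (α_ G G Q).hom ≫ (G ◁ h) ≫ h := by
  have h1 : (μ[G] ▷ Q) ≫ h = ((G ⊗ G) ◁ i) ≫ ((G ⊗ G) ◁ π) ≫ (μ[G] ▷ Q) ≫ h := by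
    rw [← MonoidalCategory.whiskerLeft_comp_assoc, hi, MonoidalCategory.whiskerLeft_id,
      Category.id_comp]
  have h2 : (G ◁ a.act) ≫ a.act ≫ π = (G ◁ G ◁ π) ≫ (G ◁ h) ≫ h := by
    rw [hh, ← MonoidalCategory.whiskerLeft_comp_assoc, hh, MonoidalCategory.whiskerLeft_comp_assoc]
  rw [h1, whisker_exchange_assoc, ← hh, reassoc_of% a.mul_act, h2,
    ← associator_naturality_right_assoc, ← MonoidalCategory.whiskerLeft_comp_assoc, hi,
    MonoidalCategory.whiskerLeft_id, Category.id_comp]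

/-- the descended action -/
noncomputable def descAction (a : AlgGrp.Action G P) (π : P ⟶ Q) (i : Q ⟶ P) (hi : i ≫ π = 𝟙 Q)
    (h : G ⊗ Q ⟶ Q) (hh : a.act ≫ π = (G ◁ π) ≫ h) : AlgGrp.Action G Q where
  act := h
  one_act := one_act_of_splitEpi a π i hi h hh
  mul_act := mul_act_of_splitEpi a π i hi h hh

/-- the first component of an action on a product does not depend on the (proper) second
factor -/
theorem exists_factor_fst {G X Y : Over S} [GrpObj G] (a : AlgGrp.Action G (X ⊗ Y))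
    [IsProper Y.hom] [Flat Y.hom] [LocallyOfFinitePresentation Y.hom] [IsSeparated X.hom]
    [PreconnectedSpace ↥(G ⊗ X).left]
    (h1 : ∀ s : S, IsIso (Y.hom.fiberToSpecResidueField s).appTop)
    (x₀ : 𝟙_ (Over S) ⟶ X) (b₀ : ↥(G ⊗ X).left) :
    ∃ h₁ : G ⊗ X ⟶ X, a.act ≫ fst X Y = (G ◁ fst X Y) ≫ h₁ := by
  set r : Y ⊗ (G ⊗ X) ⟶ G ⊗ (X ⊗ Y) :=
    lift (snd _ _ ≫ fst G X) (lift (snd _ _ ≫ snd G X) (fst _ _)) with hr
  set r' : G ⊗ (X ⊗ Y) ⟶ Y ⊗ (G ⊗ X) :=
    lift (snd _ _ ≫ snd X Y) (lift (fst _ _) (snd _ _ ≫ fst X Y)) with hr'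
  have hrr : r' ≫ r = 𝟙 _ := by
    apply CartesianMonoidalCategory.hom_ext
    · simp [hr, hr']
    · apply CartesianMonoidalCategory.hom_ext <;> simp [hr, hr']
  have hr's : r' ≫ snd _ _ = G ◁ fst X Y := by
    apply CartesianMonoidalCategory.hom_ext <;> simp [hr']
  set eB : 𝟙_ (Over S) ⟶ G ⊗ X := lift η[G] x₀ with heB
  have e1 : lift (𝟙 Y) (toUnit Y ≫ eB) ≫ r =
      lift (toUnit Y ≫ η[G]) (lift (toUnit Y ≫ x₀) (𝟙 Y)) := by
    apply CartesianMonoidalCategory.hom_ext
    · simp [hr, heB]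
    · apply CartesianMonoidalCategory.hom_ext <;> simp [hr, heB]
  have hyp : lift (𝟙 Y) (toUnit Y ≫ eB) ≫ (r ≫ a.act ≫ fst X Y) = toUnit Y ≫ x₀ := by
    rw [← Category.assoc, e1, reassoc_of% (lift_one_act a), lift_fst]
  obtain ⟨h₁, hh₁⟩ := exists_eq_snd_comp h1 eB x₀ (r ≫ a.act ≫ fst X Y) b₀ hyp
  refine ⟨h₁, ?_⟩
  calc a.act ≫ fst X Y = (r' ≫ r) ≫ a.act ≫ fst X Y := by rw [hrr, Category.id_comp]
    _ = r' ≫ (r ≫ a.act ≫ fst X Y) := by rw [Category.assoc]
    _ = (G ◁ fst X Y) ≫ h₁ := by rw [hh₁, ← Category.assoc, hr's]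

/-- the second component of an action on a product does not depend on the (proper) first
factor -/
theorem exists_factor_snd {G X Y : Over S} [GrpObj G] (a : AlgGrp.Action G (X ⊗ Y))
    [IsProper X.hom] [Flat X.hom] [LocallyOfFinitePresentation X.hom] [IsSeparated Y.hom]
    [PreconnectedSpace ↥(G ⊗ Y).left]
    (h1 : ∀ s : S, IsIso (X.hom.fiberToSpecResidueField s).appTop)
    (y₀ : 𝟙_ (Over S) ⟶ Y) (b₀ : ↥(G ⊗ Y).left) :
    ∃ h₂ : G ⊗ Y ⟶ Y, a.act ≫ snd X Y = (G ◁ snd X Y) ≫ h₂ := by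
  set r : X ⊗ (G ⊗ Y) ⟶ G ⊗ (X ⊗ Y) :=
    lift (snd _ _ ≫ fst G Y) (lift (fst _ _) (snd _ _ ≫ snd G Y)) with hr
  set r' : G ⊗ (X ⊗ Y) ⟶ X ⊗ (G ⊗ Y) :=
    lift (snd _ _ ≫ fst X Y) (lift (fst _ _) (snd _ _ ≫ snd X Y)) with hr'
  have hrr : r' ≫ r = 𝟙 _ := by
    apply CartesianMonoidalCategory.hom_ext
    · simp [hr, hr']
    · apply CartesianMonoidalCategory.hom_ext <;> simp [hr, hr']
  have hr's : r' ≫ snd _ _ = G ◁ snd X Y := by
    apply CartesianMonoidalCategory.hom_ext <;> simp [hr']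
  set eB : 𝟙_ (Over S) ⟶ G ⊗ Y := lift η[G] y₀ with heB
  have e1 : lift (𝟙 X) (toUnit X ≫ eB) ≫ r =
      lift (toUnit X ≫ η[G]) (lift (𝟙 X) (toUnit X ≫ y₀)) := by
    apply CartesianMonoidalCategory.hom_ext
    · simp [hr, heB]
    · apply CartesianMonoidalCategory.hom_ext <;> simp [hr, heB]
  have hyp : lift (𝟙 X) (toUnit X ≫ eB) ≫ (r ≫ a.act ≫ snd X Y) = toUnit X ≫ y₀ := by
    rw [← Category.assoc, e1, reassoc_of% (lift_one_act a), lift_snd]
  obtain ⟨h₂, hh₂⟩ := exists_eq_snd_comp h1 eB y₀ (r ≫ a.act ≫ snd X Y) b₀ hyp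
  refine ⟨h₂, ?_⟩
  calc a.act ≫ snd X Y = (r' ≫ r) ≫ a.act ≫ snd X Y := by rw [hrr, Category.id_comp]
    _ = r' ≫ (r ≫ a.act ≫ snd X Y) := by rw [Category.assoc]
    _ = (G ◁ snd X Y) ≫ h₂ := by rw [hh₂, ← Category.assoc, hr's]

end general

section field

variable (k : Type u) [Field k]

/-- the `H⁰`-condition from geometric reducedness and connectedness -/
theorem h1_of_proper (X : Over (Spec (CommRingCat.of k))) [IsProper X.hom]
    [GeometricallyReduced X.hom] [GeometricallyConnected X.hom]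
    (s : ↥(Spec (CommRingCat.of k))) : IsIso (X.hom.fiberToSpecResidueField s).appTop :=
  Groth.Agent.Lib.H9CbI.isIso_fiber_appTop X.hom (fun K _ _ σ =>
    ⟨pullback_of_geometrically (GeometricallyReduced.geometrically_isReduced (f := X.hom)) K σ,
      pullback_of_geometrically
        (GeometricallyConnected.geometrically_connectedSpace (f := X.hom)) K σ⟩) s

/-- the `H⁰`-condition for a complete variety with a rational point over a perfect field -/
theorem h1_of_integral [PerfectField k] (X : Over (Spec (CommRingCat.of k))) [IsProper X.hom]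
    [IsIntegral X.left] (x₀ : 𝟙_ (Over (Spec (CommRingCat.of k))) ⟶ X)
    (s : ↥(Spec (CommRingCat.of k))) : IsIso (X.hom.fiberToSpecResidueField s).appTop := by
  haveI : GeometricallyReduced X.hom := by
    letI : X.left.Over (Spec (CommRingCat.of k)) := ⟨X.hom⟩
    exact Groth.Agent.Lib.Helper6.SepCl.geometricallyReduced_of_perfectField k X.left
  haveI : GeometricallyConnected X.hom :=
    Groth.Agent.Lib.Helper12.GeomConn.geometricallyConnected_of_section X.hom x₀.left (Over.w x₀)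
  exact h1_of_proper k X s

/-- the product of a connected group of finite type with a connected scheme is connected -/
theorem connectedSpace_tensor (G X : Over (Spec (CommRingCat.of k))) [GrpObj G]
    [LocallyOfFiniteType G.hom] [ConnectedSpace ↥G.left] [ConnectedSpace ↥X.left] :
    ConnectedSpace ↥(G ⊗ X).left := by
  haveI : GeometricallyConnected G.hom :=
    Groth.Agent.Lib.Helper12.GeomConn.geometricallyConnected_of_section G.hom η[G].left
      (Over.w η[G])
  haveI : LocallyOfFinitePresentation G.hom := inferInstance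
  haveI : UniversallyOpen G.hom := inferInstance
  exact inferInstanceAs (ConnectedSpace ↥(pullback G.hom X.hom))

theorem action_ext {G X : Over (Spec (CommRingCat.of k))} [GrpObj G] (b b' : AlgGrp.Action G X)
    (h : b.act = b'.act) : b = b' := by
  cases b; cases b'; cases h; rfl

/-- **S11420** -/
theorem main11420 [IsAlgClosed k]
    (G X Y : Over (Spec (CommRingCat.of k))) [GrpObj G] [LocallyOfFiniteType G.hom]
    [QuasiCompact G.hom] [ConnectedSpace ↥G.left]
    [IsProper X.hom] [IsIntegral X.left]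
    [IsProper Y.hom] [IsIntegral Y.left]
    (a : AlgGrp.Action G (X ⊗ Y)) :
    ∃ (b : AlgGrp.Action G X) (c : AlgGrp.Action G Y),
      a.act = lift ((G ◁ fst X Y) ≫ b.act) ((G ◁ snd X Y) ≫ c.act) ∧
      ∀ (b' : AlgGrp.Action G X) (c' : AlgGrp.Action G Y),
        a.act = lift ((G ◁ fst X Y) ≫ b'.act) ((G ◁ snd X Y) ≫ c'.act) → b' = b ∧ c' = c := by
  obtain ⟨x₀⟩ := Groth.Agent.Lib.Helper11RigidAntiE.exists_pt_of_isAlgClosed (k := k) X
  obtain ⟨y₀⟩ := Groth.Agent.Lib.Helper11RigidAntiE.exists_pt_of_isAlgClosed (k := k) Y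
  have h1X := h1_of_integral k X x₀
  have h1Y := h1_of_integral k Y y₀
  haveI := connectedSpace_tensor k G X
  haveI := connectedSpace_tensor k G Y
  have : LocallyOfFinitePresentation X.hom := inferInstance
  have : LocallyOfFinitePresentation Y.hom := inferInstance
  obtain ⟨h₁, hh₁⟩ := exists_factor_fst a h1Y x₀ (Classical.arbitrary _)
  obtain ⟨h₂, hh₂⟩ := exists_factor_snd a h1X y₀ (Classical.arbitrary _)
  set iX : X ⟶ X ⊗ Y := lift (𝟙 X) (toUnit X ≫ y₀) with hiX
  set iY : Y ⟶ X ⊗ Y := lift (toUnit Y ≫ x₀) (𝟙 Y) with hiY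
  have hiX1 : iX ≫ fst X Y = 𝟙 X := lift_fst _ _
  have hiY1 : iY ≫ snd X Y = 𝟙 Y := lift_snd _ _
  refine ⟨descAction a (fst X Y) iX hiX1 h₁ hh₁, descAction a (snd X Y) iY hiY1 h₂ hh₂, ?_, ?_⟩
  · apply CartesianMonoidalCategory.hom_ext
    · rw [lift_fst]; exact hh₁
    · rw [lift_snd]; exact hh₂
  · intro b' c' hbc
    constructor
    · apply action_ext
      show b'.act = h₁
      have e : (G ◁ fst X Y) ≫ b'.act = (G ◁ fst X Y) ≫ h₁ := by
        rw [← hh₁, hbc, lift_fst]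
      have := congr((G ◁ iX) ≫ $(e))
      rwa [← MonoidalCategory.whiskerLeft_comp_assoc, ← MonoidalCategory.whiskerLeft_comp_assoc,
        hiX1, MonoidalCategory.whiskerLeft_id, Category.id_comp, Category.id_comp] at this
    · apply action_ext
      show c'.act = h₂
      have e : (G ◁ snd X Y) ≫ c'.act = (G ◁ snd X Y) ≫ h₂ := by
        rw [← hh₂, hbc, lift_snd]
      have := congr((G ◁ iY) ≫ $(e))
      rwa [← MonoidalCategory.whiskerLeft_comp_assoc, ← MonoidalCategory.whiskerLeft_comp_assoc,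
        hiY1, MonoidalCategory.whiskerLeft_id, Category.id_comp, Category.id_comp] at this

end field

end Groth.Agent.Lib.H9RigN
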