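import Mathlib
import Groth.Prelude.Def_AlgGrp
import Groth.Agent.Lib.H9ActDesc
import Groth.Agent.Lib.Helper12GeomConn
import Groth.Agent.Lib.H9RigN
import Groth.Agent.Lib.H9BlanchA

/-! helper9: Blanchard's lemma over an arbitrary field (S14579). -/
set_option autoImplicit false
set_option linter.unusedSectionVars false
set_option linter.style.haveILetI false
universe u
open CategoryTheory CategoryTheory.Limits MonoidalCategory CartesianMonoidalCategory MonObj GrpObj
  AlgebraicGeometry

namespace Groth.Agent.Lib.H9BlanchB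

open Groth.Agent.Lib.H9FlatBC Groth.Agent.Lib.H9ActDesc Groth.Agent.Lib.H9RigA
  Groth.Agent.Lib.H9BlanchA

section gen
variable {S : Scheme.{u}}

/-- the square of `y₀ ▷ X` is a pullback -/
theorem isPullback_whiskerRight (X : Over S) {K Y : Over S} (y₀ : K ⟶ Y) :
    IsPullback (y₀ ▷ X).left (fst K X).left (fst Y X).left y₀.left := by
  have h1 : (y₀ ▷ X).left ≫ (snd Y X).left = (snd K X).left := by
    rw [← Over.comp_left, whiskerRight_snd]
  have h2 : (y₀ ▷ X).left ≫ (fst Y X).left = (fst K X).left ≫ y₀.left := by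
    rw [← Over.comp_left, whiskerRight_fst, Over.comp_left]
  refine IsPullback.of_right (h₁₂ := (snd Y X).left) (h₂₂ := Y.hom) (v₁₃ := X.hom) ?_ h2
    (IsPullback.of_hasPullback Y.hom X.hom).flip
  rw [h1, Over.w y₀]
  exact (IsPullback.of_hasPullback K.hom X.hom).flip

end gen

variable {k : Type u} [Field k] {G X Y : Over (Spec (CommRingCat.of k))} [GrpObj G]
  (f : X ⟶ Y) (a : AlgGrp.Action G X)

/-- over the identity of `G`, the map `a.act ≫ f` is the second projection after `G ◁ f`. -/
theorem act_apply_of_fst_mem (p : ↥(G ⊗ X).left)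
    (hp : (fst G X).left p ∈ Set.range η[G].left) :
    (a.act ≫ f).left p = (snd G Y).left ((G ◁ f).left p) := by
  obtain ⟨s, hs⟩ := hp
  have hpb := isPullback_whiskerRight X η[G]
  obtain ⟨w, hw₁, hw₂⟩ := Scheme.Pullback.exists_preimage_pullback (f := (fst G X).left)
    (g := η[G].left) p s hs.symm
  have hz : (η[G] ▷ X).left (hpb.isoPullback.inv w) = p := by
    rw [← Scheme.Hom.comp_apply, hpb.isoPullback_inv_fst, hw₁]
  have e : (η[G] ▷ X) ≫ a.act ≫ f = (η[G] ▷ X) ≫ (G ◁ f) ≫ snd G Y := by
    rw [reassoc_of% a.one_act, whiskerLeft_snd, ← Category.assoc, whiskerRight_snd,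
      leftUnitor_hom]
  have := congr(($e).left (hpb.isoPullback.inv w))
  simp only [Over.comp_left, Scheme.Hom.comp_apply] at this
  rw [hz] at this
  exact this

section fibre

variable [IsProper f.left] (y : ↥Y.left)

/-- the base change of `G ◁ f` to the fibre of `G ⊗ Y ⟶ Y` over `y` is a base change of the
fibre of `f` over `y`. -/
theorem isPullback_fibre :
    ∃ t : pullback (G ◁ f).left ((snd G Y).left.fiberι y) ⟶ f.left.fiber y,
      IsPullback t (pullback.snd (G ◁ f).left ((snd G Y).left.fiberι y))
        (f.left.fiberToSpecResidueField y) ((snd G Y).left.fiberToSpecResidueField y) := by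
  set π := (G ◁ f).left with hπ
  set j := (snd G Y).left.fiberι y with hj
  have big : IsPullback (pullback.fst π j ≫ (snd G X).left) (pullback.snd π j) f.left
      (j ≫ (snd G Y).left) :=
    (IsPullback.of_hasPullback π j).paste_horiz (isPullback_whisker f G)
  have hc : (pullback.fst π j ≫ (snd G X).left) ≫ f.left =
      (pullback.snd π j ≫ (snd G Y).left.fiberToSpecResidueField y) ≫
        Y.left.fromSpecResidueField y := by
    rw [big.w, Category.assoc, hj, Scheme.Hom.fiber_fac]
  let t : pullback π j ⟶ f.left.fiber y := pullback.lift _ _ hc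
  have ht₁ : t ≫ f.left.fiberι y = pullback.fst π j ≫ (snd G X).left := pullback.lift_fst _ _ _
  have ht₂ : t ≫ f.left.fiberToSpecResidueField y =
      pullback.snd π j ≫ (snd G Y).left.fiberToSpecResidueField y := pullback.lift_snd _ _ _
  refine ⟨t, IsPullback.of_right (h₁₂ := f.left.fiberι y) (h₂₂ := Y.left.fromSpecResidueField y)
    (v₁₃ := f.left) ?_ ht₂ (IsPullback.of_hasPullback f.left (Y.left.fromSpecResidueField y))⟩
  rw [ht₁, ← Scheme.Hom.fiber_fac]
  exact big

instance flat_fibre : Flat (pullback.snd (G ◁ f).left ((snd G Y).left.fiberι y)) := by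
  obtain ⟨t, ht⟩ := isPullback_fibre (G := G) f y
  exact MorphismProperty.of_isPullback (P := @Flat) ht inferInstance

instance lfp_fibre :
    LocallyOfFinitePresentation (pullback.snd (G ◁ f).left ((snd G Y).left.fiberι y)) := by
  obtain ⟨t, ht⟩ := isPullback_fibre (G := G) f y
  haveI : LocallyOfFiniteType (f.left.fiberToSpecResidueField y) := by
    change LocallyOfFiniteType (pullback.snd f.left (Y.left.fromSpecResidueField y))
    infer_instance
  haveI : LocallyOfFinitePresentation (f.left.fiberToSpecResidueField y) := inferInstance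
  exact MorphismProperty.of_isPullback (P := @LocallyOfFinitePresentation) ht inferInstance

end fibre

section main

variable [LocallyOfFiniteType G.hom] [ConnectedSpace ↥G.left] [IsSeparated Y.hom]
  [IsProper f.left] (hf : ∀ U : Y.left.Opens, IsIso (f.left.app U))

include hf in
theorem mem_good_aux (y : ↥Y.left) (w : ↥(G ⊗ Y).left) (hw : (snd G Y).left w = y) :
    w ∈ sSup (good (G ◁ f).left (a.act ≫ f).left) := by
  set π := (G ◁ f).left with hπ
  set F := (a.act ≫ f).left with hF
  have hFq : F ≫ Y.hom = π ≫ (G ⊗ Y).hom := by rw [Over.w, Over.w]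
  haveI := surjective_whisker f hf G
  have hsurj : Function.Surjective π := π.surjective
  have hg := isIso_app_whisker f hf G
  set sndY := (snd G Y).left with hsndY
  set j := sndY.fiberι y with hj
  have hclopen := isClopen_preimage_good π F (G ⊗ Y).hom Y.hom hFq hsurj hg j
  -- connectedness of the fibre
  haveI : GeometricallyConnected G.hom :=
    Groth.Agent.Lib.Helper12.GeomConn.geometricallyConnected_of_section G.hom η[G].left
      (Over.w η[G])
  haveI : GeometricallyConnected sndY := by
    change GeometricallyConnected (pullback.snd G.hom Y.hom)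
    infer_instance
  haveI : ConnectedSpace ↥(sndY.fiber y) := inferInstance
  -- the identity point
  let e : Y ⟶ G ⊗ Y := lift (toUnit Y ≫ η[G]) (𝟙 Y)
  have he₁' : e ≫ fst G Y = toUnit Y ≫ η[G] := lift_fst _ _
  have he₂' : e ≫ snd G Y = 𝟙 Y := lift_snd _ _
  have he₁ : (fst G Y).left (e.left y) ∈ Set.range η[G].left := ⟨(toUnit Y).left y, by
    have := congr(($he₁').left y)
    simp only [Over.comp_left, Scheme.Hom.comp_apply] at this
    exact this.symm⟩
  have he₂ : sndY (e.left y) = y := by
    have := congr(($he₂').left y)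
    simp only [Over.comp_left, Scheme.Hom.comp_apply] at this
    exact this
  obtain ⟨t₀, ht₀⟩ : e.left y ∈ Set.range j := by
    rw [Scheme.Hom.range_fiberι]
    exact he₂
  have hmem₀ : t₀ ∈ j ⁻¹' ((sSup (good π F) : (G ⊗ Y).left.Opens) : Set ↥(G ⊗ Y).left) := by
    rw [Set.mem_preimage, ht₀]
    refine mem_good_of_collapsed π F hsurj hg _ ?_
    have h1 : ∀ p, π p = e.left y → F p = sndY (e.left y) := by
      intro p hp
      have h2 : (fst G X).left p = (fst G Y).left (π p) := by
        have h3 : G ◁ f ≫ fst G Y = fst G X := whiskerLeft_fst G f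
        have := congr(($h3).left p)
        simp only [Over.comp_left, Scheme.Hom.comp_apply] at this
        exact this.symm
      rw [hF, act_apply_of_fst_mem f a p (by rw [h2, hp]; exact he₁), ← hπ, hp]
    rintro _ ⟨p₁, hp₁, rfl⟩ _ ⟨p₂, hp₂, rfl⟩
    rw [h1 p₁ hp₁, h1 p₂ hp₂]
  have huniv := hclopen.eq_univ ⟨t₀, hmem₀⟩
  obtain ⟨t, ht⟩ : w ∈ Set.range j := by
    rw [Scheme.Hom.range_fiberι]
    exact hw
  have : t ∈ j ⁻¹' ((sSup (good π F) : (G ⊗ Y).left.Opens) : Set ↥(G ⊗ Y).left) := by
    rw [huniv]
    trivial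
  rw [← ht]
  exact this

include hf in
theorem mem_good (w : ↥(G ⊗ Y).left) :
    w ∈ sSup (good (G ◁ f).left (a.act ≫ f).left) :=
  mem_good_aux f a hf _ w rfl

/-- **S14579** (Blanchard's lemma over an arbitrary field). -/
theorem main14579 (k : Type u) [Field k]
    (G X Y : Over (Spec (CommRingCat.of k))) [GrpObj G] [LocallyOfFiniteType G.hom]
    [ConnectedSpace ↥G.left] [IsSeparated Y.hom]
    (f : X ⟶ Y) [IsProper f.left] (hf : ∀ U : Y.left.Opens, IsIso (f.left.app U))
    (a : AlgGrp.Action G X) :
    ∃! b : AlgGrp.Action G Y, (G ◁ f) ≫ b.act = a.act ≫ f := by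
  obtain ⟨b, hb⟩ := exists_action_of_collapsed f hf a (fun p q hpq =>
    collapsed_of_mem_good (G ◁ f).left (a.act ≫ f).left _ (mem_good f a hf ((G ◁ f).left p)) p q
      rfl hpq.symm)
  refine ⟨b, hb, fun b' hb' => ?_⟩
  haveI := epi_whisker f hf G
  apply Groth.Agent.Lib.H9RigN.action_ext
  rw [← cancel_epi (G ◁ f), hb', hb]

end main

end Groth.Agent.Lib.H9BlanchB
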