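import Mathlib
import Groth.Prelude
import Groth.Agent.Lib.H9AffBlow2
import Groth.Agent.Lib.Helper5OrdVal

set_option autoImplicit false
set_option linter.style.haveILetI false
universe u

namespace Groth.Agent.Lib.H9Blow2Alg

open IsLocalRing nonZeroDivisors
open Groth.Agent.Lib.H9AffBlow2 Groth.Agent.Lib.Helper5.OrdVal

section alg
variable (A : Type u) [CommRing A] (I : Ideal A) (a : A)

local notation "R" => (BlowUp.affineAlgebra A I a)

/-- elements of `I ^ n` are divisible by `a ^ n` in the affine blow-up algebra. -/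
theorem exists_mul_pow_of_mem_pow (n : ℕ) (y : A) (hy : y ∈ I ^ n) :
    ∃ r : R, algebraMap A R y = algebraMap A R a ^ n * r := by
  induction n generalizing y with
  | zero => exact ⟨algebraMap A R y, by rw [pow_zero, one_mul]⟩
  | succ n ih =>
    rw [pow_succ] at hy
    refine Submodule.mul_induction_on hy ?_ ?_
    · intro b hb c hc
      obtain ⟨r, hr⟩ := ih b hb
      refine ⟨r * gen A I a c hc, ?_⟩
      rw [map_mul, hr, ← a_mul_gen A I a c hc, pow_succ]
      ring
    · rintro x y ⟨r₁, h₁⟩ ⟨r₂, h₂⟩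
      exact ⟨r₁ + r₂, by rw [map_add, h₁, h₂]; ring⟩

/-- every element of the affine blow-up algebra is of the form `y / a ^ N` with `y ∈ I ^ N`. -/
theorem exists_mem_pow_mul (ha : a ∈ I) (r : R) :
    ∃ (N : ℕ) (y : A), y ∈ I ^ N ∧ r * algebraMap A R a ^ N = algebraMap A R y := by
  obtain ⟨r, hr⟩ := r
  induction hr using Algebra.adjoin_induction with
  | mem x hx =>
    obtain ⟨y, hy, rfl⟩ := hx
    refine ⟨1, y, by rw [pow_one]; exact hy, ?_⟩
    rw [pow_one, mul_comm]
    exact a_mul_gen A I a y hy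
  | algebraMap c =>
    refine ⟨0, c, by simp, ?_⟩
    rw [pow_zero, mul_one]
    rfl
  | add x y hx hy ihx ihy =>
    obtain ⟨N₁, y₁, hy₁, h₁⟩ := ihx
    obtain ⟨N₂, y₂, hy₂, h₂⟩ := ihy
    refine ⟨N₁ + N₂, y₁ * a ^ N₂ + y₂ * a ^ N₁, ?_, ?_⟩
    · apply Ideal.add_mem
      · rw [pow_add]; exact Ideal.mul_mem_mul hy₁ (Ideal.pow_mem_pow ha N₂)
      · rw [pow_add, mul_comm (I ^ N₁)]; exact Ideal.mul_mem_mul hy₂ (Ideal.pow_mem_pow ha N₁)
    · have e : (⟨x + y, Subalgebra.add_mem _ hx hy⟩ : R) = ⟨x, hx⟩ + ⟨y, hy⟩ := rfl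
      rw [e, map_add, map_mul, map_mul, ← h₁, ← h₂, map_pow, map_pow, pow_add]
      ring
  | mul x y hx hy ihx ihy =>
    obtain ⟨N₁, y₁, hy₁, h₁⟩ := ihx
    obtain ⟨N₂, y₂, hy₂, h₂⟩ := ihy
    refine ⟨N₁ + N₂, y₁ * y₂, ?_, ?_⟩
    · rw [pow_add]; exact Ideal.mul_mem_mul hy₁ hy₂
    · have e : (⟨x * y, Subalgebra.mul_mem _ hx hy⟩ : R) = ⟨x, hx⟩ * ⟨y, hy⟩ := rfl
      rw [e, map_mul, ← h₁, ← h₂, pow_add]
      ring

theorem algebraMap_injective [IsDomain A] (ha : a ≠ 0) : Function.Injective (algebraMap A R) := by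
  intro x y hxy
  have h1 : algebraMap A (Localization.Away a) x = algebraMap A (Localization.Away a) y :=
    congrArg Subtype.val hxy
  have hle : Submonoid.powers a ≤ nonZeroDivisors A :=
    Submonoid.powers_le.mpr (mem_nonZeroDivisors_of_ne_zero ha)
  exact IsLocalization.injective (Localization.Away a) hle h1

end alg

section rlr
variable (A : Type u) [CommRing A] [IsLocalRing A] [IsDomain A]

omit [IsDomain A] in
theorem ExactOrd.pow' (hgr : GrDomain A) {x : A} {m : ℕ} (hx : ExactOrd x m) (n : ℕ) :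
    ExactOrd (x ^ n) (n * m) := by
  induction n with
  | zero => rw [pow_zero, zero_mul]; exact exactOrd_one
  | succ n ih =>
    rw [pow_succ, Nat.succ_mul]
    exact ih.mul hgr hx

/-- the key computation in the chart `A[𝔪/u]` of the blow-up of a local ring with `gr` a domain:
the strict transform of `f` does not contain the exceptional divisor. -/
theorem exists_prime (hgr : GrDomain A) (u : A) (hu : ExactOrd u 1) (f : A) (μ : ℕ)
    (hf : ExactOrd f μ)
    (g : BlowUp.affineAlgebra A (maximalIdeal A) u)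
    (hg : algebraMap A (BlowUp.affineAlgebra A (maximalIdeal A) u) f =
      algebraMap A (BlowUp.affineAlgebra A (maximalIdeal A) u) u ^ μ * g) :
    ∃ 𝔭 : Ideal (BlowUp.affineAlgebra A (maximalIdeal A) u), 𝔭.IsPrime ∧
      algebraMap A (BlowUp.affineAlgebra A (maximalIdeal A) u) u ∈ 𝔭 ∧ g ∉ 𝔭 := by
  have hum : u ∈ maximalIdeal A := by have := hu.1; rwa [pow_one] at this
  have hu0 : u ≠ 0 := hu.ne_zero
  have hinj := algebraMap_injective A (maximalIdeal A) u hu0
  have hnot : g ∉ (Ideal.span {algebraMap A (BlowUp.affineAlgebra A (maximalIdeal A) u) u}).radical := by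
    rintro ⟨n, hn⟩
    obtain ⟨r, hr⟩ := Ideal.mem_span_singleton'.mp hn
    obtain ⟨N, y, hy, hyr⟩ := exists_mem_pow_mul A (maximalIdeal A) u hum r
    -- `f ^ n * u ^ N = u ^ (n * μ + 1) * y`
    have h1 : f ^ n * u ^ N = u ^ (n * μ + 1) * y := by
      apply hinj
      rw [map_mul, map_mul, map_pow, map_pow, map_pow, hg, mul_pow, ← hr, ← hyr, ← pow_mul,
        pow_succ]
      ring
    have h2 : ExactOrd (f ^ n * u ^ N) (n * μ + N) :=
      (ExactOrd.pow' A hgr hf n).mul hgr (ExactOrd.pow hgr hu N)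
    apply h2.2
    rw [h1]
    have : n * μ + N + 1 = (n * μ + 1) + N := by ring
    rw [this, pow_add]
    exact Ideal.mul_mem_mul (Ideal.pow_mem_pow hum _) hy
  rw [Ideal.radical_eq_sInf, Ideal.mem_sInf] at hnot
  push Not at hnot
  obtain ⟨𝔭, ⟨hle, hprime⟩, hg𝔭⟩ := hnot
  exact ⟨𝔭, hprime, hle (Ideal.mem_span_singleton_self _), hg𝔭⟩

end rlr

end Groth.Agent.Lib.H9Blow2Alg
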