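import Groth.Agent.Lib.H9ModPair2

/-! Modulus pairs III: retrocompactness of relatively closed parts of retrocompact opens,
`preimage_imageι_eq_bot`, `isEffCartierIdeal_of_cover` (local for open immersions),
`isIso_coprodDesc_restrict`, `isIso_restrict_of_sup` (helper9). -/

set_option autoImplicit false
universe u
open CategoryTheory CategoryTheory.Limits AlgebraicGeometry TopologicalSpace

namespace Groth.Agent.Lib.H9ModPair3

open ModPair nonZeroDivisors Groth.Agent.Lib.H9ModPair1 Groth.Agent.Lib.H9ModPair2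

-- ===== part 1 =====
section Part1



variable {X : Scheme.{u}}

/-- a relatively closed part of a retrocompact open is retrocompact -/
theorem quasiCompact_ι_of_sdiff (U U₀ U₁ : X.Opens) [QuasiCompact U.ι] (hU : U₀ ⊔ U₁ = U)
    (hd : Disjoint U₀ U₁) : QuasiCompact U₁.ι := by
  rw [quasiCompact_iff]
  intro W hWo hWc
  rw [U₁.ι.isOpenEmbedding.isInducing.isCompact_iff]
  have himg : (U₁.ι : U₁.toScheme → X) '' ((U₁.ι : U₁.toScheme → X) ⁻¹' W) = W ∩ (U₁ : Set X) := by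
    rw [Set.image_preimage_eq_inter_range, Scheme.Opens.range_ι]
  rw [himg]
  have hWU : IsCompact (W ∩ (U : Set X)) := by
    have h1 := QuasiCompact.isCompact_preimage (f := U.ι) W hWo hWc
    rw [U.ι.isOpenEmbedding.isInducing.isCompact_iff, Set.image_preimage_eq_inter_range,
      Scheme.Opens.range_ι] at h1
    exact h1
  have heq : W ∩ (U₁ : Set X) = (W ∩ (U : Set X)) ∩ (U₀ : Set X)ᶜ := by
    ext z
    constructor
    · rintro ⟨hzW, hz1⟩
      refine ⟨⟨hzW, ?_⟩, ?_⟩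
      · rw [← hU]; exact Or.inr hz1
      · intro hz0
        have h3 : z ∈ (U₀ ⊓ U₁ : X.Opens) := ⟨hz0, hz1⟩
        rw [disjoint_iff.mp hd] at h3
        exact h3
    · rintro ⟨⟨hzW, hzU⟩, hz0⟩
      refine ⟨hzW, ?_⟩
      rw [← hU] at hzU
      rcases hzU with h | h
      · exact absurd h hz0
      · exact h
  rw [heq]
  exact hWU.inter_right U₀.isOpen.isClosed_compl

/-- the scheme-theoretic closure of a retrocompact open misses every open disjoint from it -/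
theorem preimage_imageι_eq_bot (U₀ U₁ : X.Opens) [QuasiCompact U₁.ι] (hd : Disjoint U₀ U₁) :
    U₁.ι.imageι ⁻¹ᵁ U₀ = ⊥ := by
  rw [eq_bot_iff]
  intro z hz
  have hz0 : U₁.ι.imageι z ∈ U₀ := hz
  have h1 : U₁.ι.imageι z ∈ Set.range U₁.ι.imageι := ⟨z, rfl⟩
  rw [Scheme.IdealSheafData.range_subschemeι, Scheme.Hom.support_ker, Scheme.Opens.range_ι] at h1
  obtain ⟨w, hw0, hw1⟩ := mem_closure_iff.mp h1 U₀ U₀.isOpen hz0
  have h3 : w ∈ (U₀ ⊓ U₁ : X.Opens) := ⟨hw0, hw1⟩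
  rw [disjoint_iff.mp hd] at h3
  exact h3

/-- being the ideal of an effective Cartier divisor is local for open immersions -/
theorem isEffCartierIdeal_of_cover {W : Scheme.{u}} (J : W.IdealSheafData)
    (h : ∀ x : W, ∃ (V : Scheme.{u}) (j : V ⟶ W) (_ : IsOpenImmersion j), x ∈ Set.range j ∧
      BlowUp.IsEffCartierIdeal (J.comap j)) : BlowUp.IsEffCartierIdeal J := by
  intro x
  obtain ⟨V, j, hj, ⟨y, rfl⟩, hJ⟩ := h x
  obtain ⟨V', hy, f, hf, hJf⟩ := hJ y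
  refine ⟨⟨j ''ᵁ V'.1, V'.2.image_of_isOpenImmersion j⟩, ⟨y, hy, rfl⟩,
    (j.appIso V'.1).inv.hom f, ?_, ?_⟩
  · rw [mem_nonZeroDivisors_iff_right]
    intro z hz
    have h1 : (j.appIso V'.1).hom.hom z * f = 0 := by
      have := congrArg (j.appIso V'.1).hom.hom hz
      rw [map_mul, map_zero] at this
      have h2 : (j.appIso V'.1).hom.hom ((j.appIso V'.1).inv.hom f) = f := by
        rw [← CommRingCat.comp_apply, Iso.inv_hom_id]; rfl
      rwa [h2] at this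
    have h3 := (mem_nonZeroDivisors_iff_right.mp hf) _ h1
    have h4 : (j.appIso V'.1).inv.hom ((j.appIso V'.1).hom.hom z) = z := by
      rw [← CommRingCat.comp_apply, Iso.hom_inv_id]; rfl
    rw [← h4, h3, map_zero]
  · have h1 := Scheme.IdealSheafData.ideal_comap_of_isOpenImmersion J j V'
    rw [hJf] at h1
    have hsurj : Function.Surjective (j.appIso V'.1).inv.hom := by
      intro z
      refine ⟨(j.appIso V'.1).hom.hom z, ?_⟩
      rw [← CommRingCat.comp_apply, Iso.hom_inv_id]; rfl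
    have h2 := congrArg (Ideal.map (j.appIso V'.1).inv.hom) h1
    rw [Ideal.map_comap_of_surjective _ hsurj, Ideal.map_span, Set.image_singleton] at h2
    exact h2.symm


end Part1

-- ===== part 2 =====
section Part2



variable {X X₀ X₁ : Scheme.{u}}

theorem isIso_restrict_of_hom_eq {Y Z : Scheme.{u}} {f g : Y ⟶ Z} (h : f = g) (U : Z.Opens)
    (hU : IsIso (g ∣_ U)) : IsIso (f ∣_ U) := by
  subst h
  exact hU

theorem mem_range_inl_or_inr (z : (X₀ ⨿ X₁ : Scheme.{u})) :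
    z ∈ Set.range (coprod.inl : X₀ ⟶ X₀ ⨿ X₁) ∨ z ∈ Set.range (coprod.inr : X₁ ⟶ X₀ ⨿ X₁) := by
  have h := (isCompl_range_inl_inr X₀ X₁).sup_eq_top
  have hz : z ∈ (Set.range (coprod.inl : X₀ ⟶ X₀ ⨿ X₁) ⊔ Set.range (coprod.inr : X₁ ⟶ X₀ ⨿ X₁)) := by
    rw [h]; trivial
  exact hz

/-- over an open which misses the second summand, `coprod.desc` is the first map -/
theorem isIso_coprodDesc_restrict (i₀ : X₀ ⟶ X) (i₁ : X₁ ⟶ X) (V : X.Opens)
    (h₁ : i₁ ⁻¹ᵁ V = ⊥) (h₀ : IsIso (i₀ ∣_ V)) : IsIso (coprod.desc i₀ i₁ ∣_ V) := by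
  have hq : IsIso ((coprod.inl ≫ coprod.desc i₀ i₁) ∣_ V) :=
    isIso_restrict_of_hom_eq (coprod.inl_desc i₀ i₁) V h₀
  rw [morphismRestrict_comp] at hq
  have hopen : IsOpenImmersion ((coprod.inl : X₀ ⟶ X₀ ⨿ X₁) ∣_ (coprod.desc i₀ i₁ ⁻¹ᵁ V)) :=
    inferInstance
  have hsurj : ((coprod.inl : X₀ ⟶ X₀ ⨿ X₁) ∣_ (coprod.desc i₀ i₁ ⁻¹ᵁ V)).opensRange = ⊤ := by
    rw [eq_top_iff]
    rintro ⟨z, hz⟩ -
    rcases mem_range_inl_or_inr z with ⟨x, rfl⟩ | ⟨y, rfl⟩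
    · refine ⟨⟨x, hz⟩, ?_⟩
      apply Subtype.ext
      rw [morphismRestrict_base_coe]
    · exfalso
      have hy : y ∈ i₁ ⁻¹ᵁ V := by
        show i₁ y ∈ V
        have h2 : coprod.desc i₀ i₁ ((coprod.inr : X₁ ⟶ X₀ ⨿ X₁) y) = i₁ y := by
          rw [← Scheme.Hom.comp_apply, coprod.inr_desc]
        rw [← h2]
        exact hz
      rw [h₁] at hy
      exact hy
  have hi := isIso_of_isOpenImmersion_of_opensRange_eq_top _ hsurj
  exact @IsIso.of_isIso_comp_left _ _ _ _ _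
    ((coprod.inl : X₀ ⟶ X₀ ⨿ X₁) ∣_ (coprod.desc i₀ i₁ ⁻¹ᵁ V)) (coprod.desc i₀ i₁ ∣_ V) hi hq

theorem isIso_coprodDesc_restrict' (i₀ : X₀ ⟶ X) (i₁ : X₁ ⟶ X) (V : X.Opens)
    (h₀ : i₀ ⁻¹ᵁ V = ⊥) (h₁ : IsIso (i₁ ∣_ V)) : IsIso (coprod.desc i₀ i₁ ∣_ V) := by
  have hq : IsIso ((coprod.inr ≫ coprod.desc i₀ i₁) ∣_ V) :=
    isIso_restrict_of_hom_eq (coprod.inr_desc i₀ i₁) V h₁
  rw [morphismRestrict_comp] at hq
  have hopen : IsOpenImmersion ((coprod.inr : X₁ ⟶ X₀ ⨿ X₁) ∣_ (coprod.desc i₀ i₁ ⁻¹ᵁ V)) :=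
    inferInstance
  have hsurj : ((coprod.inr : X₁ ⟶ X₀ ⨿ X₁) ∣_ (coprod.desc i₀ i₁ ⁻¹ᵁ V)).opensRange = ⊤ := by
    rw [eq_top_iff]
    rintro ⟨z, hz⟩ -
    rcases mem_range_inl_or_inr z with ⟨x, rfl⟩ | ⟨y, rfl⟩
    · exfalso
      have hx : x ∈ i₀ ⁻¹ᵁ V := by
        show i₀ x ∈ V
        have h2 : coprod.desc i₀ i₁ ((coprod.inl : X₀ ⟶ X₀ ⨿ X₁) x) = i₀ x := by
          rw [← Scheme.Hom.comp_apply, coprod.inl_desc]
        rw [← h2]
        exact hz
      rw [h₀] at hx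
      exact hx
    · refine ⟨⟨y, hz⟩, ?_⟩
      apply Subtype.ext
      rw [morphismRestrict_base_coe]
  have hi := isIso_of_isOpenImmersion_of_opensRange_eq_top _ hsurj
  exact @IsIso.of_isIso_comp_left _ _ _ _ _
    ((coprod.inr : X₁ ⟶ X₀ ⨿ X₁) ∣_ (coprod.desc i₀ i₁ ⁻¹ᵁ V)) (coprod.desc i₀ i₁ ∣_ V) hi hq

theorem isIso_restrict_of_sup {Y Z : Scheme.{u}} (p : Y ⟶ Z) (U U₀ U₁ : Z.Opens)
    (hU : U₀ ⊔ U₁ = U) (h₀ : IsIso (p ∣_ U₀)) (h₁ : IsIso (p ∣_ U₁)) : IsIso (p ∣_ U) := by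
  have hle : ∀ b : Bool, (if b then U₀ else U₁) ≤ U := by
    intro b
    cases b
    · simp only [Bool.false_eq_true, if_false]; rw [← hU]; exact le_sup_right
    · simp only [if_true]; rw [← hU]; exact le_sup_left
  have key : (MorphismProperty.isomorphisms Scheme.{u}) (p ∣_ U) := by
    apply IsZariskiLocalAtTarget.of_iSup_eq_top (P := MorphismProperty.isomorphisms Scheme.{u})
      (fun b : Bool => U.ι ⁻¹ᵁ (if b then U₀ else U₁))
    · rw [eq_top_iff]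
      rintro ⟨z, hz⟩ -
      rw [← hU] at hz
      rcases hz with hz | hz
      · exact Opens.mem_iSup.mpr ⟨true, by simpa using hz⟩
      · exact Opens.mem_iSup.mpr ⟨false, by simpa using hz⟩
    · intro b
      rw [(MorphismProperty.isomorphisms Scheme.{u}).arrow_mk_iso_iff
        (morphismRestrictRestrict p U _)]
      have e : U.ι ''ᵁ (U.ι ⁻¹ᵁ (if b then U₀ else U₁)) = (if b then U₀ else U₁) := by
        rw [Scheme.Hom.image_preimage_eq_opensRange_inf, Scheme.Opens.opensRange_ι]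
        exact inf_eq_right.mpr (hle b)
      rw [(MorphismProperty.isomorphisms Scheme.{u}).arrow_mk_iso_iff (morphismRestrictEq p e)]
      cases b
      · simpa using h₁
      · simpa using h₀
  exact key


end Part2

end Groth.Agent.Lib.H9ModPair3
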