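import Mathlib
import Groth.Prelude.Def_BlowUp2
import Groth.Agent.Lib.Helper20EffCartier
import Groth.Agent.Lib.H9ModPair3

set_option autoImplicit false
universe u
open nonZeroDivisors CategoryTheory CategoryTheory.Limits AlgebraicGeometry TopologicalSpace Opposite
open Groth.Agent.Lib.Helper20.EffCartier

namespace Groth.Agent.Lib.H9BlowGlue

variable {X : Scheme.{u}} (𝓘 : X.IdealSheafData)

/-- the inverse image of `𝓘` along `g` is effective Cartier. -/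
def EC {Y : Scheme.{u}} (g : Y ⟶ X) : Prop := BlowUp.IsEffCartierIdeal (𝓘.comap g)

theorem effCartier_comap_of_isOpenImmersion {W V : Scheme.{u}} (I : W.IdealSheafData)
    (hI : BlowUp.IsEffCartierIdeal I) (j : V ⟶ W) [IsOpenImmersion j] :
    BlowUp.IsEffCartierIdeal (I.comap j) := by
  intro y
  obtain ⟨U, hU, hyU, hUr, f, hf, hIf⟩ :=
    exists_le_of_isEffCartierIdeal hI (j y) j.opensRange ⟨y, rfl⟩
  have haff : IsAffineOpen (j ⁻¹ᵁ U) := hU.preimage_of_isOpenImmersion j hUr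
  have hiso : IsIso (j.app U) := Scheme.Hom.isIso_app j U hUr
  have hbij : Function.Bijective (j.app U).hom := ConcreteCategory.bijective_of_isIso (j.app U)
  let ε : Γ(W, U) ≃+* Γ(V, j ⁻¹ᵁ U) := RingEquiv.ofBijective (j.app U).hom hbij
  refine ⟨⟨j ⁻¹ᵁ U, haff⟩, hyU, ε f, ?_, ?_⟩
  · rw [← MulEquivClass.map_nonZeroDivisors ε]
    exact Submonoid.mem_map_of_mem _ hf
  · rw [ideal_comap_eq_map j I haff hU le_rfl, hIf, Ideal.map_span, Set.image_singleton,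
      Scheme.Hom.appLE_eq_app]
    rfl

theorem EC_comp_of_isOpenImmersion {Y Y₀ : Scheme.{u}} (g : Y ⟶ X) (hg : EC 𝓘 g) (j : Y₀ ⟶ Y)
    [IsOpenImmersion j] : EC 𝓘 (j ≫ g) := by
  unfold EC
  rw [Scheme.IdealSheafData.comap_comp]
  exact effCartier_comap_of_isOpenImmersion _ hg j

/-- A chart for the blow-up of `X` in `𝓘`. -/
structure Chart where
  T : Scheme.{u}
  q : T ⟶ X
  eff : EC 𝓘 q
  uniq : ∀ {Y : Scheme.{u}} (h₁ h₂ : Y ⟶ T), EC 𝓘 (h₁ ≫ q) → h₁ ≫ q = h₂ ≫ q → h₁ = h₂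
  D : ∀ {Y : Scheme.{u}} (_ : Y ⟶ X), Y.Opens
  lift : ∀ {Y : Scheme.{u}} (g : Y ⟶ X) (_ : EC 𝓘 g), (D g).toScheme ⟶ T
  lift_q : ∀ {Y : Scheme.{u}} (g : Y ⟶ X) (hg : EC 𝓘 g), lift g hg ≫ q = (D g).ι ≫ g
  max : ∀ {Y : Scheme.{u}} (g : Y ⟶ X) (_ : EC 𝓘 g) {Y₀ : Scheme.{u}} (j : Y₀ ⟶ Y) (h₀ : Y₀ ⟶ T),
    EC 𝓘 (j ≫ g) → h₀ ≫ q = j ≫ g → Set.range j ⊆ D g

variable {𝓘}

section pair
variable (c c' : Chart 𝓘)

/-- the transition map from the part of `c.T` that lifts to `c'.T`. -/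
noncomputable def trans : (c'.D c.q).toScheme ⟶ c'.T := c'.lift c.q c.eff

theorem trans_q : trans c c' ≫ c'.q = (c'.D c.q).ι ≫ c.q := c'.lift_q c.q c.eff

theorem range_trans : Set.range (trans c c') ⊆ c.D c'.q := by
  refine c.max c'.q c'.eff (trans c c') (c'.D c.q).ι ?_ (trans_q c c').symm
  rw [trans_q]
  exact EC_comp_of_isOpenImmersion 𝓘 c.q c.eff _

/-- the transition map, corestricted. -/
noncomputable def trans' : (c'.D c.q).toScheme ⟶ (c.D c'.q).toScheme :=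
  IsOpenImmersion.lift (c.D c'.q).ι (trans c c') (by
    rw [Scheme.Opens.range_ι]; exact range_trans c c')

theorem trans'_ι : trans' c c' ≫ (c.D c'.q).ι = trans c c' := IsOpenImmersion.lift_fac _ _ _

theorem trans'_trans' : trans' c c' ≫ trans' c' c = 𝟙 _ := by
  rw [← cancel_mono (c'.D c.q).ι, Category.assoc, trans'_ι, Category.id_comp]
  apply c.uniq
  · rw [Category.assoc, trans_q, ← Category.assoc, trans'_ι, trans_q]
    exact EC_comp_of_isOpenImmersion 𝓘 c.q c.eff _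
  · rw [Category.assoc, trans_q, ← Category.assoc, trans'_ι, trans_q]

instance : IsIso (trans' c c') :=
  ⟨trans' c' c, trans'_trans' c c', trans'_trans' c' c⟩

instance : IsOpenImmersion (trans c c') := by
  rw [← trans'_ι]
  infer_instance

end pair

section glue
variable {ι : Type u} (c : ι → Chart 𝓘)

/-- objects of the gluing diagram: opens of charts. -/
structure Obj where
  i : ι
  W : (c i).T.Opens

variable {c}

/-- structure morphism of an object. -/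
noncomputable def Obj.p (o : Obj c) : o.W.toScheme ⟶ X := o.W.ι ≫ (c o.i).q

theorem Obj.EC_p (o : Obj c) : EC 𝓘 o.p :=
  EC_comp_of_isOpenImmersion 𝓘 _ (c o.i).eff _

/-- morphisms: open immersions over `X`. -/
def Obj.Hom (o o' : Obj c) : Type u :=
  {φ : o.W.toScheme ⟶ o'.W.toScheme // IsOpenImmersion φ ∧ φ ≫ o'.p = o.p}

theorem Obj.Hom.ext' {o o' : Obj c} (φ ψ : Obj.Hom o o') : φ = ψ := by
  apply Subtype.ext
  rw [← cancel_mono o'.W.ι]
  apply (c o'.i).uniq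
  · have : (φ.1 ≫ o'.W.ι) ≫ (c o'.i).q = o.p := by
      rw [Category.assoc]; exact φ.2.2
    rw [this]
    exact o.EC_p
  · have h1 : (φ.1 ≫ o'.W.ι) ≫ (c o'.i).q = o.p := by
      rw [Category.assoc]; exact φ.2.2
    have h2 : (ψ.1 ≫ o'.W.ι) ≫ (c o'.i).q = o.p := by
      rw [Category.assoc]; exact ψ.2.2
    rw [h1, h2]

noncomputable instance : Category (Obj c) where
  Hom := Obj.Hom
  id o := ⟨𝟙 _, inferInstance, Category.id_comp _⟩
  comp φ ψ := ⟨φ.1 ≫ ψ.1, by haveI := φ.2.1; haveI := ψ.2.1; infer_instance, by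
    rw [Category.assoc, ψ.2.2, φ.2.2]⟩
  id_comp _ := Obj.Hom.ext' _ _
  comp_id _ := Obj.Hom.ext' _ _
  assoc _ _ _ := Obj.Hom.ext' _ _

instance : Quiver.IsThin (Obj c) := fun _ _ => ⟨fun φ ψ => Obj.Hom.ext' φ ψ⟩

/-- the gluing diagram. -/
noncomputable def F : Obj c ⥤ Scheme.{u} where
  obj o := o.W.toScheme
  map φ := φ.1
  map_id _ := rfl
  map_comp _ _ := rfl

instance {o o' : Obj c} (φ : o ⟶ o') : IsOpenImmersion ((F (c := c)).map φ) := φ.2.1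

end glue

section directed
variable {ι : Type u} {c : ι → Chart 𝓘}

theorem exists_directed {o₁ o₂ o₃ : Obj c} (f₁ : o₁ ⟶ o₃) (f₂ : o₂ ⟶ o₃)
    (x₁ : o₁.W.toScheme) (x₂ : o₂.W.toScheme) (hx : f₁.1 x₁ = f₂.1 x₂) :
    ∃ (l : Obj c) (fl₁ : l ⟶ o₁) (fl₂ : l ⟶ o₂) (x : l.W.toScheme),
      fl₁.1 x = x₁ ∧ fl₂.1 x = x₂ := by
  haveI := f₁.2.1
  haveI := f₂.2.1
  let O : o₁.W.toScheme.Opens := f₁.1 ⁻¹ᵁ f₂.1.opensRange
  let Wl : (c o₁.i).T.Opens := o₁.W.ι ''ᵁ O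
  have hle : Wl ≤ o₁.W := Scheme.Opens.ι_image_le _ _
  let l : Obj c := ⟨o₁.i, Wl⟩
  let e₁ : l.W.toScheme ⟶ o₁.W.toScheme := (c o₁.i).T.homOfLE hle
  have he₁ : e₁ ≫ o₁.W.ι = Wl.ι := Scheme.homOfLE_ι _ _
  have hmemO : ∀ w : l.W.toScheme, e₁ w ∈ O := by
    intro w
    have hw : w.1 ∈ o₁.W.ι ''ᵁ O := w.2
    obtain ⟨w', hw', hww'⟩ := hw
    have : e₁ w = w' := by
      apply o₁.W.ι.isOpenEmbedding.injective
      rw [← Scheme.Hom.comp_apply, he₁]
      exact hww'.symm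
    rw [this]
    exact hw'
  have hrange : Set.range (e₁ ≫ f₁.1) ⊆ Set.range f₂.1 := by
    rintro _ ⟨w, rfl⟩
    rw [Scheme.Hom.comp_apply]
    exact hmemO w
  let e₂ : l.W.toScheme ⟶ o₂.W.toScheme := IsOpenImmersion.lift f₂.1 (e₁ ≫ f₁.1) hrange
  have he₂ : e₂ ≫ f₂.1 = e₁ ≫ f₁.1 := IsOpenImmersion.lift_fac _ _ _
  have hoi₂ : IsOpenImmersion e₂ := by
    have : IsOpenImmersion (e₂ ≫ f₂.1) := by rw [he₂]; infer_instance
    exact IsOpenImmersion.of_comp e₂ f₂.1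
  have hp₁ : e₁ ≫ o₁.p = l.p := by
    unfold Obj.p
    rw [← Category.assoc, he₁]
  have hp₂ : e₂ ≫ o₂.p = l.p := by
    rw [← f₂.2.2, ← Category.assoc, he₂, Category.assoc, f₁.2.2, hp₁]
  have hx₁ : x₁.1 ∈ Wl := by
    refine ⟨x₁, ?_, rfl⟩
    change f₁.1 x₁ ∈ f₂.1.opensRange
    rw [hx]
    exact ⟨x₂, rfl⟩
  let x : l.W.toScheme := ⟨x₁.1, hx₁⟩
  have hex : e₁ x = x₁ := by
    apply o₁.W.ι.isOpenEmbedding.injective
    rw [← Scheme.Hom.comp_apply, he₁]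
    rfl
  refine ⟨l, ⟨e₁, inferInstance, hp₁⟩, ⟨e₂, hoi₂, hp₂⟩, x, hex, ?_⟩
  apply f₂.1.isOpenEmbedding.injective
  change f₂.1 (e₂ x) = f₂.1 x₂
  rw [← Scheme.Hom.comp_apply, he₂, Scheme.Hom.comp_apply, hex, hx]

instance : ((F (c := c)) ⋙ Scheme.forget).IsLocallyDirected where
  cond := by
    intro o₁ o₂ o₃ f₁ f₂ x₁ x₂ hx
    exact exists_directed f₁ f₂ x₁ x₂ hx

end directed

section colim
variable {ι : Type u} (c : ι → Chart 𝓘)

/-- the glued scheme. -/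
noncomputable def glued : Scheme.{u} := colimit (F (c := c))

/-- the structure cocone. -/
noncomputable def coconeX : Cocone (F (c := c)) where
  pt := X
  ι := { app := fun o => o.p
         naturality := fun o o' φ => by
           simp only [Functor.const_obj_obj, Functor.const_obj_map, Category.comp_id]
           exact φ.2.2 }

/-- the structure morphism of the glued scheme. -/
noncomputable def b : glued c ⟶ X := colimit.desc (F (c := c)) (coconeX c)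

/-- the coprojections. -/
noncomputable def ιo (o : Obj c) : o.W.toScheme ⟶ glued c := colimit.ι (F (c := c)) o

instance (o : Obj c) : IsOpenImmersion (ιo c o) := by
  unfold ιo
  exact inferInstanceAs (IsOpenImmersion (colimit.ι (F (c := c)) o))

theorem ιo_w {o o' : Obj c} (φ : o ⟶ o') : φ.1 ≫ ιo c o' = ιo c o :=
  colimit.w (F (c := c)) φ

theorem ιo_b (o : Obj c) : ιo c o ≫ b c = o.p :=
  colimit.ι_desc (coconeX c) o

/-- the object of a whole chart. -/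
abbrev top (i : ι) : Obj c := ⟨i, ⊤⟩

/-- the inclusion of a chart. -/
noncomputable def κ (i : ι) : (c i).T ⟶ glued c :=
  (Scheme.topIso (c i).T).inv ≫ ιo c (top c i)

instance (i : ι) : IsOpenImmersion (κ c i) := by
  unfold κ
  infer_instance

theorem κ_b (i : ι) : κ c i ≫ b c = (c i).q := by
  unfold κ
  rw [Category.assoc, ιo_b]
  change (Scheme.topIso (c i).T).inv ≫ ((⊤ : (c i).T.Opens).ι ≫ (c i).q) = _
  rw [← Category.assoc, ← Scheme.topIso_hom, Iso.inv_hom_id, Category.id_comp]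

theorem ι_eq (o : Obj c) : ιo c o = o.W.ι ≫ κ c o.i := by
  let φ : o ⟶ top c o.i := ⟨(c o.i).T.homOfLE le_top, inferInstance, by
    change (c o.i).T.homOfLE le_top ≫ ((⊤ : (c o.i).T.Opens).ι ≫ (c o.i).q) = o.W.ι ≫ (c o.i).q
    rw [← Category.assoc, Scheme.homOfLE_ι]⟩
  have h := ιo_w c φ
  rw [← h]
  unfold κ
  rw [← Category.assoc]
  congr 1
  change (c o.i).T.homOfLE le_top = o.W.ι ≫ (Scheme.topIso (c o.i).T).inv
  rw [Iso.eq_comp_inv, Scheme.topIso_hom]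
  exact Scheme.homOfLE_ι _ _

theorem exists_κ_eq (x : glued c) : ∃ (i : ι) (t : (c i).T), κ c i t = x := by
  obtain ⟨o, w, hw⟩ := Scheme.IsLocallyDirected.ι_jointly_surjective (F (c := c)) x
  refine ⟨o.i, o.W.ι w, ?_⟩
  rw [← Scheme.Hom.comp_apply, ← ι_eq]
  exact hw

theorem EC_b : EC 𝓘 (b c) := by
  apply Groth.Agent.Lib.H9ModPair3.isEffCartierIdeal_of_cover
  intro x
  obtain ⟨i, t, ht⟩ := exists_κ_eq c x
  refine ⟨(c i).T, κ c i, inferInstance, ⟨t, ht⟩, ?_⟩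
  rw [← Scheme.IdealSheafData.comap_comp, κ_b]
  exact (c i).eff

/-- **core lemma**: two lifts to two charts of the same morphism agree in the glued scheme. -/
theorem core {N : Scheme.{u}} (i j : ι) (h₁ : N ⟶ (c i).T) (h₂ : N ⟶ (c j).T)
    (hEC : EC 𝓘 (h₁ ≫ (c i).q)) (e : h₁ ≫ (c i).q = h₂ ≫ (c j).q) :
    h₁ ≫ κ c i = h₂ ≫ κ c j := by
  have hr : Set.range h₁ ⊆ (c j).D (c i).q :=
    (c j).max (c i).q (c i).eff h₁ h₂ hEC e.symm
  let h₁' : N ⟶ ((c j).D (c i).q).toScheme :=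
    IsOpenImmersion.lift ((c j).D (c i).q).ι h₁ (by rw [Scheme.Opens.range_ι]; exact hr)
  have hh₁' : h₁' ≫ ((c j).D (c i).q).ι = h₁ := IsOpenImmersion.lift_fac _ _ _
  have hlam : h₁' ≫ trans (c i) (c j) = h₂ := by
    apply (c j).uniq
    · rw [Category.assoc, trans_q, ← Category.assoc, hh₁']
      exact hEC
    · rw [Category.assoc, trans_q, ← Category.assoc, hh₁', e]
  let o : Obj c := ⟨i, (c j).D (c i).q⟩
  let m₂ : o ⟶ top c j := ⟨trans (c i) (c j) ≫ (Scheme.topIso (c j).T).inv, inferInstance, by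
    change (trans (c i) (c j) ≫ (Scheme.topIso (c j).T).inv) ≫
      ((⊤ : (c j).T.Opens).ι ≫ (c j).q) = ((c j).D (c i).q).ι ≫ (c i).q
    rw [Category.assoc, ← Category.assoc (Scheme.topIso (c j).T).inv, ← Scheme.topIso_hom,
      Iso.inv_hom_id, Category.id_comp, trans_q]⟩
  have hw : (trans (c i) (c j) ≫ (Scheme.topIso (c j).T).inv) ≫ ιo c (top c j) = ιo c o :=
    ιo_w c m₂
  have e1 : h₁ ≫ κ c i = h₁' ≫ ιo c o := by
    rw [ι_eq, ← Category.assoc, hh₁']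
  have e2 : h₂ ≫ κ c j = h₁' ≫ ιo c o := by
    rw [← hw, ← hlam]
    unfold κ
    simp only [Category.assoc]
  rw [e1, e2]

end colim

section final

theorem glue_opens {Y Z : Scheme.{u}} (U : Y → Y.Opens) (hU : ∀ y, y ∈ U y)
    (k : ∀ y, (U y).toScheme ⟶ Z)
    (compat : ∀ y y', Y.homOfLE (inf_le_left : U y ⊓ U y' ≤ U y) ≫ k y =
      Y.homOfLE (inf_le_right : U y ⊓ U y' ≤ U y') ≫ k y') :
    ∃ K : Y ⟶ Z, ∀ y, (U y).ι ≫ K = k y := by
  let 𝒰 : Y.OpenCover := {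
    I₀ := Y, X := fun i => (U i), f := fun i => (U i).ι,
    mem₀ := by
      rw [Scheme.presieve₀_mem_precoverage_iff]
      refine ⟨fun x ↦ ⟨x, by simpa using hU x⟩, inferInstance⟩ }
  have h : ∀ x y : Y, pullback.fst (𝒰.f x) (𝒰.f y) ≫ k x = pullback.snd (𝒰.f x) (𝒰.f y) ≫ k y := by
    intro x y
    let d : pullback (𝒰.f x) (𝒰.f y) ⟶ Y := pullback.fst (𝒰.f x) (𝒰.f y) ≫ (U x).ι
    have hd2 : d = pullback.snd (𝒰.f x) (𝒰.f y) ≫ (U y).ι := pullback.condition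
    have hr : Set.range d ⊆ Set.range (U x ⊓ U y).ι := by
      rw [Scheme.Opens.range_ι]
      rintro _ ⟨p, rfl⟩
      refine ⟨?_, ?_⟩
      · change d p ∈ U x
        rw [Scheme.Hom.comp_apply]
        exact (pullback.fst (𝒰.f x) (𝒰.f y) p).2
      · change d p ∈ U y
        rw [hd2, Scheme.Hom.comp_apply]
        exact (pullback.snd (𝒰.f x) (𝒰.f y) p).2
    let d' := IsOpenImmersion.lift (U x ⊓ U y).ι d hr
    have hd' : d' ≫ (U x ⊓ U y).ι = d := IsOpenImmersion.lift_fac _ _ _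
    have e1 : pullback.fst (𝒰.f x) (𝒰.f y) = d' ≫ Y.homOfLE inf_le_left := by
      rw [← cancel_mono (U x).ι, Category.assoc, Scheme.homOfLE_ι, hd']
    have e2 : pullback.snd (𝒰.f x) (𝒰.f y) = d' ≫ Y.homOfLE inf_le_right := by
      rw [← cancel_mono (U y).ι, Category.assoc, Scheme.homOfLE_ι, hd', hd2]
    rw [e1, e2, Category.assoc, Category.assoc, compat]
  exact ⟨𝒰.glueMorphisms k h, fun y => 𝒰.ι_glueMorphisms k h y⟩

variable {ι : Type u} (c : ι → Chart 𝓘)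

theorem lift_unique {Y : Scheme.{u}} (k₁ k₂ : Y ⟶ glued c) (hEC : EC 𝓘 (k₁ ≫ b c))
    (e : k₁ ≫ b c = k₂ ≫ b c) : k₁ = k₂ := by
  apply Scheme.hom_ext_of_forall
  intro y
  obtain ⟨i, t, ht⟩ := exists_κ_eq c (k₁ y)
  obtain ⟨j, t', ht'⟩ := exists_κ_eq c (k₂ y)
  let N : Y.Opens := k₁ ⁻¹ᵁ (κ c i).opensRange ⊓ k₂ ⁻¹ᵁ (κ c j).opensRange
  have hyN : y ∈ N := ⟨⟨t, ht⟩, ⟨t', ht'⟩⟩
  refine ⟨N, hyN, ?_⟩
  have hr₁ : Set.range (N.ι ≫ k₁) ⊆ Set.range (κ c i) := by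
    rintro _ ⟨n, rfl⟩
    rw [Scheme.Hom.comp_apply]
    exact n.2.1
  have hr₂ : Set.range (N.ι ≫ k₂) ⊆ Set.range (κ c j) := by
    rintro _ ⟨n, rfl⟩
    rw [Scheme.Hom.comp_apply]
    exact n.2.2
  let h₁ := IsOpenImmersion.lift (κ c i) (N.ι ≫ k₁) hr₁
  let h₂ := IsOpenImmersion.lift (κ c j) (N.ι ≫ k₂) hr₂
  have hh₁ : h₁ ≫ κ c i = N.ι ≫ k₁ := IsOpenImmersion.lift_fac _ _ _
  have hh₂ : h₂ ≫ κ c j = N.ι ≫ k₂ := IsOpenImmersion.lift_fac _ _ _
  have q₁ : h₁ ≫ (c i).q = N.ι ≫ k₁ ≫ b c := by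
    rw [← κ_b, ← Category.assoc, hh₁, Category.assoc]
  have q₂ : h₂ ≫ (c j).q = N.ι ≫ k₂ ≫ b c := by
    rw [← κ_b, ← Category.assoc, hh₂, Category.assoc]
  have := core c i j h₁ h₂ (by rw [q₁]; exact EC_comp_of_isOpenImmersion 𝓘 _ hEC _)
    (by rw [q₁, q₂, e])
  rw [← hh₁, ← hh₂, this]

/-- **Abstract gluing theorem**: a family of charts covering every test scheme glues to a blow-up. -/
theorem isBlowUp_b
    (cov : ∀ {Y : Scheme.{u}} (g : Y ⟶ X), EC 𝓘 g → ∀ y : Y, ∃ i, y ∈ (c i).D g) :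
    BlowUp.IsBlowUp (b c) 𝓘 := by
  refine ⟨EC_b c, fun Y g hg => ?_⟩
  choose i hi using cov g hg
  obtain ⟨K, hK⟩ := glue_opens (fun y => (c (i y)).D g) hi
    (fun y => (c (i y)).lift g hg ≫ κ c (i y)) (by
      intro y y'
      rw [← Category.assoc, ← Category.assoc]
      apply core
      · rw [Category.assoc, (c (i y)).lift_q, ← Category.assoc, Scheme.homOfLE_ι]
        exact EC_comp_of_isOpenImmersion 𝓘 _ hg _
      · rw [Category.assoc, Category.assoc, (c (i y)).lift_q, (c (i y')).lift_q,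
          ← Category.assoc, ← Category.assoc, Scheme.homOfLE_ι, Scheme.homOfLE_ι])
  have hKb : K ≫ b c = g := by
    apply Scheme.hom_ext_of_forall
    intro y
    refine ⟨(c (i y)).D g, hi y, ?_⟩
    rw [← Category.assoc, hK, Category.assoc, κ_b, (c (i y)).lift_q]
  refine ⟨K, hKb, fun K' hK' => ?_⟩
  exact lift_unique c K' K (by rw [hK']; exact hg) (by rw [hK', hKb])

end final


end Groth.Agent.Lib.H9BlowGlue
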