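import Mathlib
import Groth.Prelude.Def_BlowUp2
import Groth.Prelude.Def_CurvBase
import Groth.Agent.Lib.H9AffBlow
import Groth.Agent.Lib.H9AffBlow2
import Groth.Agent.Lib.H9BlowGlue

set_option autoImplicit false
universe u
open nonZeroDivisors CategoryTheory CategoryTheory.Limits AlgebraicGeometry TopologicalSpace Opposite
open Groth.Agent.Lib.Helper20.EffCartier
open Groth.Agent.Lib.H9AffBlow Groth.Agent.Lib.H9AffBlow2
open Groth.Agent.Lib.H9BlowGlue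

namespace Groth.Agent.Lib.H9BlowExist

theorem fromSpec_appLE_top {X : Scheme.{u}} {U : X.Opens} (hU : IsAffineOpen U)
    (e : (⊤ : (Spec Γ(X, U)).Opens) ≤ hU.fromSpec ⁻¹ᵁ U) :
    hU.fromSpec.appLE U ⊤ e = (Scheme.ΓSpecIso Γ(X, U)).inv := by
  rw [Scheme.Hom.appLE, hU.fromSpec_app_self, Category.assoc, ← Functor.map_comp]
  convert Category.comp_id _
  exact CategoryTheory.Functor.map_id _ _

theorem comap_fromSpec {X : Scheme.{u}} (𝓘 : X.IdealSheafData) (U : X.Opens) (hU : IsAffineOpen U) :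
    𝓘.comap hU.fromSpec = Curv2.idealSheaf Γ(X, U) (𝓘.ideal ⟨U, hU⟩) := by
  apply Scheme.IdealSheafData.ext_of_isAffine
  have e : (⊤ : (Spec Γ(X, U)).Opens) ≤ hU.fromSpec ⁻¹ᵁ U := by rw [hU.fromSpec_preimage_self]
  rw [ideal_comap_eq_map hU.fromSpec 𝓘 (isAffineOpen_top _) hU e, fromSpec_appLE_top hU e]
  simp only [Curv2.idealSheaf, Scheme.IdealSheafData.ofIdealTop_ideal]
  rw [Ideal.map_map]
  congr 1

section aff
variable {A : Type u} [CommRing A] (I : Ideal A)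

/-- if `g` factors through `Spec B` where `I B = (a₀)`, and `g⁻¹ I` is effective Cartier, then `a₀` is
everywhere locally a regular generator. -/
theorem hyp_of_lift {B : Type u} [CommRing B] [Algebra A B] (a₀ : A)
    (hgen : Ideal.map (algebraMap A B) I = Ideal.span {algebraMap A B a₀})
    {Y : Scheme.{u}} (h : Y ⟶ Spec (CommRingCat.of B))
    (hEC : BlowUp.IsEffCartierIdeal ((Curv2.idealSheaf A I).comap
      (h ≫ Spec.map (CommRingCat.ofHom (algebraMap A B))))) (y : Y) :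
    ∃ (U : Y.Opens) (hU : IsAffineOpen U), y ∈ U ∧
      Good ((Curv2.idealSheaf A I).comap (h ≫ Spec.map (CommRingCat.ofHom (algebraMap A B))))
        (gmap (h ≫ Spec.map (CommRingCat.ofHom (algebraMap A B))) a₀) U hU := by
  obtain ⟨U, hyU, c, hc, hIc⟩ := hEC y
  set g := h ≫ Spec.map (CommRingCat.ofHom (algebraMap A B)) with hg
  set ψ := (res U.1).comp (gmap g) with hψ
  have e : Ideal.map ψ I = Ideal.span {c} := by
    rw [← ideal_comap_eq I g U.1 U.2]; exact hIc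
  let χ : B →+* Γ(Y, U.1) :=
    (res U.1).comp (h.appTop.hom.comp (Scheme.ΓSpecIso (CommRingCat.of B)).inv.hom)
  have hχ : ψ = χ.comp (algebraMap A B) := by
    rw [hψ, hg, gmap_comp, gmap_SpecMap]
    rfl
  have e2 : Ideal.map ψ I = Ideal.span {ψ a₀} := by
    rw [hχ, ← Ideal.map_map, hgen, Ideal.map_span, Set.image_singleton]
    rfl
  have e3 : Ideal.span {ψ a₀} = Ideal.span {c} := e2.symm.trans e
  have h1 : ψ a₀ ∈ Ideal.span {c} := by rw [← e3]; exact Ideal.subset_span rfl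
  have h2 : c ∈ Ideal.span {ψ a₀} := by rw [e3]; exact Ideal.subset_span rfl
  obtain ⟨w, hw⟩ := Ideal.mem_span_singleton'.1 h1
  obtain ⟨v, hv⟩ := Ideal.mem_span_singleton'.1 h2
  have hvw : v * w = 1 := by
    apply (mul_cancel_right_mem_nonZeroDivisors hc).1
    rw [one_mul, mul_assoc, hw, hv]
  have hwu : IsUnit w := IsUnit.of_mul_eq_one _ (by rw [mul_comm]; exact hvw)
  refine ⟨U.1, U.2, hyU, ?_, ?_⟩
  · change ψ a₀ ∈ _
    rw [← hw]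
    exact Submonoid.mul_mem _ (IsUnit.mem_nonZeroDivisors hwu) hc
  · rw [ideal_comap_eq I g U.1 U.2]
    exact e2

/-- points with a lift to the chart lie in the good locus. -/
theorem mem_goodOpen_of_hyp {Y Y₀ : Scheme.{u}} (b : Y ⟶ Spec (CommRingCat.of A))
    (hb : BlowUp.IsEffCartierIdeal ((Curv2.idealSheaf A I).comap b)) (κ : Y₀ ⟶ Y) (a : A)
    (ha : a ∈ I)
    (hypT : ∀ z : Y₀, ∃ (W : Y₀.Opens) (hW : IsAffineOpen W), z ∈ W ∧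
      Good ((Curv2.idealSheaf A I).comap (κ ≫ b)) (gmap (κ ≫ b) a) W hW) (z : Y₀) :
    κ z ∈ goodOpen ((Curv2.idealSheaf A I).comap b) (gmap b a) := by
  set 𝓘 := Curv2.idealSheaf A I with h𝓘
  obtain ⟨U, hyU, c, hc, hIc⟩ := hb (κ z)
  have e : Ideal.map ((res U.1).comp (gmap b)) I = Ideal.span {c} := by
    rw [← ideal_comap_eq I b U.1 U.2]; exact hIc
  have h4 : ((res U.1).comp (gmap b)) a ∈ Ideal.span {c} := by
    rw [← e]; exact Ideal.mem_map_of_mem _ ha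
  obtain ⟨w, hw⟩ := Ideal.mem_span_singleton'.1 h4
  have hg := good_of_unit_mul (𝓘.comap b) (gmap b a) U.2 c w hc hIc hw.symm
  refine le_goodOpen _ _ _ hg ?_
  obtain ⟨W, hW, hzW, hWU, hgW⟩ :=
    exists_good_le (𝓘.comap (κ ≫ b)) (gmap (κ ≫ b) a) hypT z (κ ⁻¹ᵁ U.1) hyU
  set κW := (κ.appLE U.1 W hWU).hom with hκW
  have ht : res W (gmap (κ ≫ b) a) = κW w * κW c := by
    rw [← map_mul, hw]
    rw [gmap_comp, RingHom.comp_apply, res_appTop κ U.1 W hWU]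
    rfl
  have hid : (𝓘.comap (κ ≫ b)).ideal ⟨W, hW⟩ = Ideal.span {κW c} := by
    rw [Scheme.IdealSheafData.comap_comp, ideal_comap_eq_map κ _ hW U.2 hWU, hIc,
      Ideal.map_span, Set.image_singleton]
  obtain ⟨hnz, hsp⟩ := hgW
  rw [ht] at hnz hsp
  have hc' : κW c ∈ Ideal.span {κW w * κW c} := by
    rw [← hsp, hid]; exact Ideal.subset_span rfl
  obtain ⟨v, hv⟩ := Ideal.mem_span_singleton'.1 hc'
  have hcnz : κW c ∈ Γ(Y₀, W)⁰ := by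
    rw [mem_nonZeroDivisors_iff_right]
    intro x hx
    apply (mem_nonZeroDivisors_iff_right.1 hnz) x
    rw [mul_comm (κW w), ← mul_assoc, hx, zero_mul]
  have huv : v * κW w = 1 := by
    apply (mul_cancel_right_mem_nonZeroDivisors hcnz).1
    rw [one_mul, mul_assoc]
    exact hv
  have hunit : IsUnit (κW w) := IsUnit.of_mul_eq_one _ (by rw [mul_comm]; exact huv)
  have hbo := Scheme.basicOpen_appLE κ W U.1 hWU w
  rw [Scheme.basicOpen_of_isUnit _ hunit] at hbo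
  have hz : z ∈ W ⊓ κ ⁻¹ᵁ (Y.basicOpen w) := hbo ▸ hzW
  exact hz.2

end aff

section aff2
variable {A : Type u} [CommRing A] (I : Ideal A)

/-- the good locus, as a scheme, has `a` as an everywhere locally regular generator. -/
theorem hyp_goodOpen {Y : Scheme.{u}} (b : Y ⟶ Spec (CommRingCat.of A)) (a : A)
    (y : (goodOpen ((Curv2.idealSheaf A I).comap b) (gmap b a)).toScheme) :
    ∃ (U : (goodOpen ((Curv2.idealSheaf A I).comap b) (gmap b a)).toScheme.Opens)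
      (hU : IsAffineOpen U), y ∈ U ∧
      Good ((Curv2.idealSheaf A I).comap
        ((goodOpen ((Curv2.idealSheaf A I).comap b) (gmap b a)).ι ≫ b))
        (gmap ((goodOpen ((Curv2.idealSheaf A I).comap b) (gmap b a)).ι ≫ b) a) U hU := by
  obtain ⟨U, hU, hyU, hg⟩ := (mem_goodOpen ((Curv2.idealSheaf A I).comap b) (gmap b a)).1 y.2
  set V := goodOpen ((Curv2.idealSheaf A I).comap b) (gmap b a) with hV
  have hUV : U ≤ V := le_goodOpen _ _ hU hg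
  have hUV' : U ≤ V.ι.opensRange := by rw [Scheme.Opens.opensRange_ι]; exact hUV
  have haff : IsAffineOpen (V.ι ⁻¹ᵁ U) := hU.preimage_of_isOpenImmersion V.ι hUV'
  refine ⟨V.ι ⁻¹ᵁ U, haff, hyU,
    good_comap_of_bijective I V.ι b a U hU (V.ι ⁻¹ᵁ U) haff le_rfl ?_ hg⟩
  rw [Scheme.Hom.appLE_eq_app]
  have : IsIso (V.ι.app U) := Scheme.Hom.isIso_app V.ι U hUV'
  exact ConcreteCategory.bijective_of_isIso (V.ι.app U)

end aff2

section chart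
variable {X : Scheme.{u}} (𝓘 : X.IdealSheafData) (U : X.Opens) (hU : IsAffineOpen U)
  (a : Γ(X, U))

/-- the chart scheme `Spec A[I/a]`. -/
noncomputable def cT : Scheme.{u} :=
  Spec (CommRingCat.of ↥(BlowUp.affineAlgebra Γ(X, U) (𝓘.ideal ⟨U, hU⟩) a))

/-- the projection to `Spec A`. -/
noncomputable def cπ : cT 𝓘 U hU a ⟶ Spec (CommRingCat.of Γ(X, U)) :=
  Spec.map (CommRingCat.ofHom
    (algebraMap Γ(X, U) ↥(BlowUp.affineAlgebra Γ(X, U) (𝓘.ideal ⟨U, hU⟩) a)))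

/-- the structure morphism of the chart. -/
noncomputable def cq : cT 𝓘 U hU a ⟶ X := cπ 𝓘 U hU a ≫ hU.fromSpec

theorem comap_comp_fromSpec {Y : Scheme.{u}} (h : Y ⟶ Spec (CommRingCat.of Γ(X, U))) :
    𝓘.comap (h ≫ hU.fromSpec) = (Curv2.idealSheaf Γ(X, U) (𝓘.ideal ⟨U, hU⟩)).comap h := by
  rw [Scheme.IdealSheafData.comap_comp, comap_fromSpec]

theorem UP (C : Type u) [CommRing C] (ψ : Γ(X, U) →+* C) (h1 : ψ a ∈ C⁰)
    (h2 : ∀ x ∈ 𝓘.ideal ⟨U, hU⟩, ψ a ∣ ψ x) :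
    ∃! χ : ↥(BlowUp.affineAlgebra Γ(X, U) (𝓘.ideal ⟨U, hU⟩) a) →+* C,
      χ.comp (algebraMap Γ(X, U) ↥(BlowUp.affineAlgebra Γ(X, U) (𝓘.ideal ⟨U, hU⟩) a)) = ψ :=
  affineAlgebra_existsUnique_lift Γ(X, U) (𝓘.ideal ⟨U, hU⟩) a ψ h1 h2

variable (ha : a ∈ 𝓘.ideal ⟨U, hU⟩)

include ha in
theorem c_eff : EC 𝓘 (cq 𝓘 U hU a) := by
  unfold EC cq
  rw [comap_comp_fromSpec]
  exact isEffCartier_comap_SpecMap (𝓘.ideal ⟨U, hU⟩) _
    (a_mem_nonZeroDivisors Γ(X, U) (𝓘.ideal ⟨U, hU⟩) a)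
    (affineAlgebra_map_eq_span Γ(X, U) (𝓘.ideal ⟨U, hU⟩) a ha)

include ha in
theorem c_uniq {Y : Scheme.{u}} (h₁ h₂ : Y ⟶ cT 𝓘 U hU a) (hEC : EC 𝓘 (h₁ ≫ cq 𝓘 U hU a))
    (e : h₁ ≫ cq 𝓘 U hU a = h₂ ≫ cq 𝓘 U hU a) : h₁ = h₂ := by
  unfold cq at e hEC
  have e' : h₁ ≫ cπ 𝓘 U hU a = h₂ ≫ cπ 𝓘 U hU a := by
    rw [← cancel_mono hU.fromSpec, Category.assoc, Category.assoc]
    exact e
  have hEC' : BlowUp.IsEffCartierIdeal ((Curv2.idealSheaf Γ(X, U) (𝓘.ideal ⟨U, hU⟩)).comap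
      (h₁ ≫ cπ 𝓘 U hU a)) := by
    rw [← comap_comp_fromSpec, Category.assoc]
    exact hEC
  have hyp := hyp_of_lift (𝓘.ideal ⟨U, hU⟩) a
    (affineAlgebra_map_eq_span Γ(X, U) (𝓘.ideal ⟨U, hU⟩) a ha) h₁ hEC'
  obtain ⟨k, -, hk⟩ := existsUnique_lift_of_UP (𝓘.ideal ⟨U, hU⟩) a (UP 𝓘 U hU a)
    (h₁ ≫ cπ 𝓘 U hU a) hyp
  rw [hk h₁ rfl, hk h₂ e'.symm]

/-- restriction of `g` over `U`, as a morphism to `Spec Γ(X, U)`. -/
noncomputable def gU {Y : Scheme.{u}} (g : Y ⟶ X) :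
    (g ⁻¹ᵁ U).toScheme ⟶ Spec (CommRingCat.of Γ(X, U)) :=
  IsOpenImmersion.lift hU.fromSpec ((g ⁻¹ᵁ U).ι ≫ g) (by
    rw [hU.range_fromSpec]
    rintro _ ⟨y, rfl⟩
    rw [Scheme.Hom.comp_apply]
    exact y.2)

theorem gU_fromSpec {Y : Scheme.{u}} (g : Y ⟶ X) :
    gU U hU g ≫ hU.fromSpec = (g ⁻¹ᵁ U).ι ≫ g := IsOpenImmersion.lift_fac _ _ _

/-- the good locus of `a` in `g⁻¹ U`. -/
noncomputable def cG {Y : Scheme.{u}} (g : Y ⟶ X) : (g ⁻¹ᵁ U).toScheme.Opens :=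
  goodOpen ((Curv2.idealSheaf Γ(X, U) (𝓘.ideal ⟨U, hU⟩)).comap (gU U hU g)) (gmap (gU U hU g) a)

/-- the inclusion of the good locus into `Y`. -/
noncomputable def dmap {Y : Scheme.{u}} (g : Y ⟶ X) : (cG 𝓘 U hU a g).toScheme ⟶ Y :=
  (cG 𝓘 U hU a g).ι ≫ (g ⁻¹ᵁ U).ι

instance {Y : Scheme.{u}} (g : Y ⟶ X) : IsOpenImmersion (dmap 𝓘 U hU a g) := by
  unfold dmap; infer_instance

/-- the domain of definition of the lift to the chart. -/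
noncomputable def cD {Y : Scheme.{u}} (g : Y ⟶ X) : Y.Opens := (dmap 𝓘 U hU a g).opensRange

theorem exists_lift0 {Y : Scheme.{u}} (g : Y ⟶ X) :
    ∃ h : (cG 𝓘 U hU a g).toScheme ⟶ cT 𝓘 U hU a,
      h ≫ cπ 𝓘 U hU a = (cG 𝓘 U hU a g).ι ≫ gU U hU g :=
  (existsUnique_lift_of_UP (𝓘.ideal ⟨U, hU⟩) a (UP 𝓘 U hU a) ((cG 𝓘 U hU a g).ι ≫ gU U hU g)
    (hyp_goodOpen (𝓘.ideal ⟨U, hU⟩) (gU U hU g) a)).exists

/-- the lift over the domain. -/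
noncomputable def cLift {Y : Scheme.{u}} (g : Y ⟶ X) : (cD 𝓘 U hU a g).toScheme ⟶ cT 𝓘 U hU a :=
  (dmap 𝓘 U hU a g).isoOpensRange.inv ≫ (exists_lift0 𝓘 U hU a g).choose

theorem cLift_q {Y : Scheme.{u}} (g : Y ⟶ X) :
    cLift 𝓘 U hU a g ≫ cq 𝓘 U hU a = (cD 𝓘 U hU a g).ι ≫ g := by
  unfold cLift cq
  rw [Category.assoc, ← Category.assoc _ (cπ 𝓘 U hU a), (exists_lift0 𝓘 U hU a g).choose_spec,
    Category.assoc, gU_fromSpec]
  have := Scheme.Hom.isoOpensRange_inv_comp (dmap 𝓘 U hU a g)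
  change (dmap 𝓘 U hU a g).isoOpensRange.inv ≫ (dmap 𝓘 U hU a g ≫ g) = _
  rw [← Category.assoc, this]
  rfl

theorem mem_cD {Y : Scheme.{u}} (g : Y ⟶ X) (w : (g ⁻¹ᵁ U).toScheme) (hw : w ∈ cG 𝓘 U hU a g) :
    (g ⁻¹ᵁ U).ι w ∈ cD 𝓘 U hU a g :=
  ⟨⟨w, hw⟩, rfl⟩

end chart

section chart2
variable {X : Scheme.{u}} (𝓘 : X.IdealSheafData) (U : X.Opens) (hU : IsAffineOpen U)
  (a : Γ(X, U)) (ha : a ∈ 𝓘.ideal ⟨U, hU⟩)

theorem EC_gU {Y : Scheme.{u}} (g : Y ⟶ X) (hg : EC 𝓘 g) :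
    BlowUp.IsEffCartierIdeal
      ((Curv2.idealSheaf Γ(X, U) (𝓘.ideal ⟨U, hU⟩)).comap (gU U hU g)) := by
  rw [← comap_comp_fromSpec, gU_fromSpec]
  exact EC_comp_of_isOpenImmersion 𝓘 g hg _

include ha in
theorem c_max {Y : Scheme.{u}} (g : Y ⟶ X) (hg : EC 𝓘 g) {Y₀ : Scheme.{u}} (j : Y₀ ⟶ Y)
    (h₀ : Y₀ ⟶ cT 𝓘 U hU a) (hj : EC 𝓘 (j ≫ g)) (e : h₀ ≫ cq 𝓘 U hU a = j ≫ g) :
    Set.range j ⊆ cD 𝓘 U hU a g := by
  have hjU : ∀ y₀ : Y₀, j y₀ ∈ g ⁻¹ᵁ U := by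
    intro y₀
    change g (j y₀) ∈ U
    rw [← Scheme.Hom.comp_apply, ← e]
    unfold cq
    rw [Scheme.Hom.comp_apply]
    have : hU.fromSpec ((cπ 𝓘 U hU a) (h₀ y₀)) ∈ Set.range hU.fromSpec := ⟨_, rfl⟩
    rw [hU.range_fromSpec] at this
    exact this
  let jU : Y₀ ⟶ (g ⁻¹ᵁ U).toScheme := IsOpenImmersion.lift (g ⁻¹ᵁ U).ι j (by
    rw [Scheme.Opens.range_ι]
    rintro _ ⟨y₀, rfl⟩
    exact hjU y₀)
  have hjU' : jU ≫ (g ⁻¹ᵁ U).ι = j := IsOpenImmersion.lift_fac _ _ _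
  have e2 : jU ≫ gU U hU g = h₀ ≫ cπ 𝓘 U hU a := by
    rw [← cancel_mono hU.fromSpec, Category.assoc, gU_fromSpec, ← Category.assoc, hjU',
      Category.assoc]
    exact e.symm
  have hypT : ∀ z : Y₀, ∃ (W : Y₀.Opens) (hW : IsAffineOpen W), z ∈ W ∧
      Good ((Curv2.idealSheaf Γ(X, U) (𝓘.ideal ⟨U, hU⟩)).comap (jU ≫ gU U hU g))
        (gmap (jU ≫ gU U hU g) a) W hW := by
    rw [e2]
    apply hyp_of_lift (𝓘.ideal ⟨U, hU⟩) a
      (affineAlgebra_map_eq_span Γ(X, U) (𝓘.ideal ⟨U, hU⟩) a ha) h₀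
    have : BlowUp.IsEffCartierIdeal (𝓘.comap ((h₀ ≫ cπ 𝓘 U hU a) ≫ hU.fromSpec)) := by
      rw [Category.assoc]
      change EC 𝓘 (h₀ ≫ cq 𝓘 U hU a)
      rw [e]
      exact hj
    rw [comap_comp_fromSpec] at this
    exact this
  rintro _ ⟨y₀, rfl⟩
  have hmem := mem_goodOpen_of_hyp (𝓘.ideal ⟨U, hU⟩) (gU U hU g) (EC_gU 𝓘 U hU g hg) jU a ha
    hypT y₀
  have := mem_cD 𝓘 U hU a g (jU y₀) hmem
  rw [← Scheme.Hom.comp_apply, hjU'] at this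
  exact this

/-- the blow-up chart attached to an affine open `U` and `a ∈ 𝓘(U)`. -/
noncomputable def chart : Chart 𝓘 where
  T := cT 𝓘 U hU a
  q := cq 𝓘 U hU a
  eff := c_eff 𝓘 U hU a ha
  uniq := fun h₁ h₂ hEC e => c_uniq 𝓘 U hU a ha h₁ h₂ hEC e
  D := fun g => cD 𝓘 U hU a g
  lift := fun g _ => cLift 𝓘 U hU a g
  lift_q := fun g _ => cLift_q 𝓘 U hU a g
  max := fun g hg _ j h₀ hj e => c_max 𝓘 U hU a ha g hg j h₀ hj e

end chart2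

section exist
variable {X : Scheme.{u}} (𝓘 : X.IdealSheafData)

/-- index type of the charts. -/
def Idx : Type u := Σ (U : X.affineOpens), {a : Γ(X, U.1) // a ∈ 𝓘.ideal U}

/-- the family of all charts. -/
noncomputable def charts (i : Idx 𝓘) : Chart 𝓘 := chart 𝓘 i.1.1 i.1.2 i.2.1 i.2.2

theorem charts_cov {Y : Scheme.{u}} (g : Y ⟶ X) (hg : EC 𝓘 g) (y : Y) :
    ∃ i : Idx 𝓘, y ∈ (charts 𝓘 i).D g := by
  obtain ⟨U, hU, hyU, -⟩ :=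
    exists_isAffineOpen_mem_and_subset (X := X) (x := g y) (U := ⊤) trivial
  let y' : (g ⁻¹ᵁ U).toScheme := ⟨y, hyU⟩
  obtain ⟨a, ha, hmem⟩ := exists_good_nbhd (𝓘.ideal ⟨U, hU⟩) (gU U hU g)
    (EC_gU 𝓘 U hU g hg) y'
  refine ⟨⟨⟨U, hU⟩, ⟨a, ha⟩⟩, ?_⟩
  exact mem_cD 𝓘 U hU a g y' hmem

/-- **Existence of blowing up** for an arbitrary scheme and quasi-coherent ideal sheaf. -/
theorem exists_isBlowUp : ∃ (X' : Scheme.{u}) (b : X' ⟶ X), BlowUp.IsBlowUp b 𝓘 :=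
  ⟨glued (charts 𝓘), b (charts 𝓘), isBlowUp_b (charts 𝓘) (fun g hg y => charts_cov 𝓘 g hg y)⟩

end exist


end Groth.Agent.Lib.H9BlowExist
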