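import Mathlib
import Groth.Prelude.Def_BlowUp2
import Groth.Prelude.Def_CurvBase
import Groth.Agent.Lib.H9AffBlow
import Groth.Agent.Lib.H9AffBlow2
import Groth.Agent.Lib.H9BlowGlue
import Groth.Agent.Lib.H9BlowExist

set_option autoImplicit false
universe u
open nonZeroDivisors CategoryTheory CategoryTheory.Limits AlgebraicGeometry TopologicalSpace Opposite
open Groth.Agent.Lib.Helper20.EffCartier
open Groth.Agent.Lib.H9AffBlow Groth.Agent.Lib.H9AffBlow2
open Groth.Agent.Lib.H9BlowGlue Groth.Agent.Lib.H9BlowExist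

namespace Groth.Agent.Lib.H9BlowProper

section abstract
variable {X : Scheme.{u}} {𝓘 : X.IdealSheafData} {ι : Type u} (c : ι → Chart 𝓘)

theorem ι_κ_eq_trans_κ (i j : ι) :
    ((c j).D (c i).q).ι ≫ κ c i = trans (c i) (c j) ≫ κ c j := by
  apply core
  · exact EC_comp_of_isOpenImmersion 𝓘 _ (c i).eff _
  · exact (trans_q (c i) (c j)).symm

theorem inter_range_κ (i j : ι) :
    ((κ c i).opensRange ⊓ (κ c j).opensRange : (glued c).Opens) =
      κ c i ''ᵁ ((c j).D (c i).q) := by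
  apply le_antisymm
  · rintro x ⟨⟨t, rfl⟩, hx⟩
    let N : (c i).T.Opens := κ c i ⁻¹ᵁ (κ c j).opensRange
    have htN : t ∈ N := hx
    let h₀ : N.toScheme ⟶ (c j).T := IsOpenImmersion.lift (κ c j) (N.ι ≫ κ c i) (by
      rintro _ ⟨n, rfl⟩
      rw [Scheme.Hom.comp_apply]
      exact n.2)
    have hh₀ : h₀ ≫ κ c j = N.ι ≫ κ c i := IsOpenImmersion.lift_fac _ _ _
    have e : h₀ ≫ (c j).q = N.ι ≫ (c i).q := by
      rw [← κ_b, ← Category.assoc, hh₀, Category.assoc, κ_b]
    have := (c j).max (c i).q (c i).eff N.ι h₀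
      (EC_comp_of_isOpenImmersion 𝓘 _ (c i).eff _) e
    rw [Scheme.Opens.range_ι] at this
    exact ⟨t, this htN, rfl⟩
  · rintro _ ⟨t, ht, rfl⟩
    refine ⟨⟨t, rfl⟩, ?_⟩
    have h := ι_κ_eq_trans_κ c i j
    have h2 := congrArg (fun φ => φ (⟨t, ht⟩ : ((c j).D (c i).q).toScheme)) h
    simp only [Scheme.Hom.comp_apply] at h2
    exact ⟨_, h2.symm⟩

end abstract

section achart
variable {A : Type u} [CommRing A] (I : Ideal A) (a : A)


/-- chart scheme -/
noncomputable abbrev aT : Scheme.{u} := Spec (CommRingCat.of ↥(BlowUp.affineAlgebra A I a))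

/-- chart projection -/
noncomputable def aq : aT I a ⟶ Spec (CommRingCat.of A) :=
  Spec.map (CommRingCat.ofHom (algebraMap A ↥(BlowUp.affineAlgebra A I a)))

theorem aUP (C : Type u) [CommRing C] (ψ : A →+* C) (h1 : ψ a ∈ C⁰) (h2 : ∀ x ∈ I, ψ a ∣ ψ x) :
    ∃! χ : ↥(BlowUp.affineAlgebra A I a) →+* C, χ.comp (algebraMap A ↥(BlowUp.affineAlgebra A I a)) = ψ :=
  affineAlgebra_existsUnique_lift A I a ψ h1 h2

/-- domain of the lift -/
noncomputable def aD {Y : Scheme.{u}} (g : Y ⟶ Spec (CommRingCat.of A)) : Y.Opens :=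
  goodOpen ((Curv2.idealSheaf A I).comap g) (gmap g a)

theorem exists_aLift {Y : Scheme.{u}} (g : Y ⟶ Spec (CommRingCat.of A)) :
    ∃ h : (aD I a g).toScheme ⟶ aT I a, h ≫ aq I a = (aD I a g).ι ≫ g :=
  (existsUnique_lift_of_UP I a (aUP I a) ((aD I a g).ι ≫ g) (hyp_goodOpen I g a)).exists

variable (ha : a ∈ I)

include ha in
theorem a_eff : EC (Curv2.idealSheaf A I) (aq I a) :=
  isEffCartier_comap_SpecMap I _ (a_mem_nonZeroDivisors A I a) (affineAlgebra_map_eq_span A I a ha)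

include ha in
theorem a_uniq {Y : Scheme.{u}} (h₁ h₂ : Y ⟶ aT I a) (hEC : EC (Curv2.idealSheaf A I) (h₁ ≫ aq I a))
    (e : h₁ ≫ aq I a = h₂ ≫ aq I a) : h₁ = h₂ := by
  have hyp := hyp_of_lift I a (affineAlgebra_map_eq_span A I a ha) h₁ hEC
  obtain ⟨k, -, hk⟩ := existsUnique_lift_of_UP I a (aUP I a) (h₁ ≫ aq I a) hyp
  rw [hk h₁ rfl, hk h₂ e.symm]

include ha in
theorem a_max {Y : Scheme.{u}} (g : Y ⟶ Spec (CommRingCat.of A)) (hg : EC (Curv2.idealSheaf A I) g) {Y₀ : Scheme.{u}}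
    (j : Y₀ ⟶ Y) (h₀ : Y₀ ⟶ aT I a) (hj : EC (Curv2.idealSheaf A I) (j ≫ g)) (e : h₀ ≫ aq I a = j ≫ g) :
    Set.range j ⊆ aD I a g := by
  have hypT : ∀ z : Y₀, ∃ (W : Y₀.Opens) (hW : IsAffineOpen W), z ∈ W ∧
      Good ((Curv2.idealSheaf A I).comap (j ≫ g)) (gmap (j ≫ g) a) W hW := by
    rw [← e]
    apply hyp_of_lift I a (affineAlgebra_map_eq_span A I a ha) h₀
    change EC (Curv2.idealSheaf A I) (h₀ ≫ aq I a)
    rw [e]
    exact hj
  rintro _ ⟨y₀, rfl⟩
  exact mem_goodOpen_of_hyp I g hg j a ha hypT y₀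

/-- the affine chart `Spec A[I/a] ⟶ Spec A`. -/
@[reducible] noncomputable def achart : Chart (Curv2.idealSheaf A I) where
  T := aT I a
  q := aq I a
  eff := a_eff I a ha
  uniq := fun h₁ h₂ hEC e => a_uniq I a ha h₁ h₂ hEC e
  D := fun g => aD I a g
  lift := fun g _ => (exists_aLift I a g).choose
  lift_q := fun g _ => (exists_aLift I a g).choose_spec
  max := fun g hg _ j h₀ hj e => a_max I a ha g hg j h₀ hj e

end achart

section model
variable {A : Type u} [CommRing A] (I : Ideal A)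

/-- variant of `exists_good_nbhd` choosing the generator in a given generating set. -/
theorem exists_good_nbhd_of_span (S : Set A) (hS : Ideal.span S = I) {X' : Scheme.{u}}
    (b : X' ⟶ Spec (CommRingCat.of A))
    (hJ : BlowUp.IsEffCartierIdeal ((Curv2.idealSheaf A I).comap b)) (x' : X') :
    ∃ a ∈ S, x' ∈ goodOpen ((Curv2.idealSheaf A I).comap b) (gmap b a) := by
  obtain ⟨U, hxU, c, hc, hIc⟩ := hJ x'
  set ψ := (res U.1).comp (gmap b) with hψ
  have e : Ideal.map ψ I = Ideal.span {c} := by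
    rw [← ideal_comap_eq I b U.1 U.2]; exact hIc
  let p : Ideal Γ(X', U.1) :=
    (IsLocalRing.maximalIdeal (X'.presheaf.stalk x')).comap (X'.presheaf.germ U.1 x' hxU).hom
  have hp : ∀ r, r ∈ p ↔ x' ∉ X'.basicOpen r := by
    intro r
    rw [Scheme.mem_basicOpen _ _ _ hxU]
    rfl
  have key : ∃ a ∈ S, ψ a ∉ Ideal.span {c} * p := by
    by_contra hcon
    push Not at hcon
    have h1 : Ideal.map ψ I ≤ Ideal.span {c} * p := by
      rw [← hS, Ideal.map_span, Ideal.span_le]
      rintro _ ⟨a, ha, rfl⟩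
      exact hcon a ha
    rw [e] at h1
    have h2 : c ∈ Ideal.span {c} * p := h1 (Ideal.subset_span rfl)
    obtain ⟨m, hm, hcm⟩ := Ideal.mem_span_singleton_mul.1 h2
    have h3 : m = 1 := by
      have : c * m = c * 1 := by rw [hcm, mul_one]
      exact (mul_cancel_left_mem_nonZeroDivisors hc).1 this
    rw [h3, hp] at hm
    apply hm
    rw [Scheme.basicOpen_one]
    exact hxU
  obtain ⟨a, ha, hna⟩ := key
  have haI : a ∈ I := hS ▸ Ideal.subset_span ha
  have h4 : ψ a ∈ Ideal.span {c} := by rw [← e]; exact Ideal.mem_map_of_mem _ haI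
  obtain ⟨w, hw⟩ := Ideal.mem_span_singleton'.1 h4
  have hwp : w ∉ p := by
    intro hwp
    apply hna
    rw [← hw, mul_comm w c]
    exact Ideal.mul_mem_mul (Ideal.subset_span rfl) hwp
  rw [hp, not_not] at hwp
  refine ⟨a, ha, ?_⟩
  have hg := good_of_unit_mul ((Curv2.idealSheaf A I).comap b) (gmap b a) U.2 c w hc hIc hw.symm
  exact le_goodOpen _ _ _ hg hwp

variable (S : Finset A) (hS : Ideal.span (S : Set A) = I)

/-- index type of the affine model. -/
abbrev Ix : Type u := {a : A // a ∈ S}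

include hS in
theorem mem_I (a : Ix S) : a.1 ∈ I := hS ▸ Ideal.subset_span a.2

/-- the charts of the affine model. -/
@[reducible] noncomputable def ac (a : Ix S) : Chart (Curv2.idealSheaf A I) := achart I a.1 (mem_I I S hS a)

theorem ac_cov {Y : Scheme.{u}} (g : Y ⟶ Spec (CommRingCat.of A))
    (hg : EC (Curv2.idealSheaf A I) g) (y : Y) : ∃ a : Ix S, y ∈ (ac I S hS a).D g := by
  obtain ⟨a, ha, hmem⟩ := exists_good_nbhd_of_span I (S : Set A) hS g hg y
  exact ⟨⟨a, ha⟩, hmem⟩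

/-- the affine model of the blow-up. -/
noncomputable abbrev aX : Scheme.{u} := glued (ac I S hS)

/-- its structure morphism. -/
noncomputable abbrev ab : aX I S hS ⟶ Spec (CommRingCat.of A) := b (ac I S hS)

theorem ab_isBlowUp : BlowUp.IsBlowUp (ab I S hS) (Curv2.idealSheaf A I) :=
  isBlowUp_b (ac I S hS) (fun g hg y => ac_cov I S hS g hg y)

end model



section alg
variable (A : Type u) [CommRing A] (I : Ideal A) (a : A)

local notation "R" => (BlowUp.affineAlgebra A I a)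

theorem eq_of_a_mul_eq (z z' : R) (h : algebraMap A R a * z = algebraMap A R a * z') : z = z' :=
  (mul_cancel_left_mem_nonZeroDivisors (a_mem_nonZeroDivisors A I a)).1 h

theorem gen_add (x y : A) (hx : x ∈ I) (hy : y ∈ I) :
    gen A I a (x + y) (I.add_mem hx hy) = gen A I a x hx + gen A I a y hy := by
  apply eq_of_a_mul_eq
  rw [mul_add, a_mul_gen, a_mul_gen, a_mul_gen, map_add]

theorem gen_smul (r x : A) (hx : x ∈ I) :
    gen A I a (r • x) (I.smul_mem r hx) = algebraMap A R r * gen A I a x hx := by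
  apply eq_of_a_mul_eq
  rw [a_mul_gen, mul_left_comm, a_mul_gen, smul_eq_mul, map_mul]

theorem gen_zero : gen A I a 0 I.zero_mem = 0 := by
  apply eq_of_a_mul_eq
  rw [a_mul_gen, map_zero, mul_zero]

theorem gen_self (ha : a ∈ I) : gen A I a a ha = 1 := by
  apply eq_of_a_mul_eq
  rw [a_mul_gen, mul_one]

theorem adjoin_gen_eq_top (S : Set A) (hS : Ideal.span S = I) :
    Algebra.adjoin A {z : ↥R | ∃ (s : A) (hs : s ∈ I), s ∈ S ∧ z = gen A I a s hs} = ⊤ := by
  set P := Algebra.adjoin A {z : ↥R | ∃ (s : A) (hs : s ∈ I), s ∈ S ∧ z = gen A I a s hs} with hP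
  have h1 : ∀ (x : A) (hx : x ∈ I), gen A I a x hx ∈ P := by
    intro x hx
    have hx' : x ∈ Ideal.span S := hS ▸ hx
    have key : ∀ (y : A) (hy' : y ∈ Ideal.span S), gen A I a y (hS ▸ hy') ∈ P := by
      intro y hy'
      refine Submodule.span_induction (p := fun y hy' => gen A I a y (hS ▸ hy') ∈ P)
        ?_ ?_ ?_ ?_ hy'
      · intro s hs
        exact Algebra.subset_adjoin ⟨s, hS ▸ Ideal.subset_span hs, hs, rfl⟩
      · rw [gen_zero]; exact zero_mem _
      · intro x y hx hy h1 h2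
        rw [gen_add A I a x y (hS ▸ hx) (hS ▸ hy)]
        exact add_mem h1 h2
      · intro r x hx h1
        rw [gen_smul A I a r x (hS ▸ hx)]
        exact mul_mem (Subalgebra.algebraMap_mem _ r) h1
    exact key x hx'
  rw [eq_top_iff]
  rintro ⟨v, hv⟩ -
  refine Algebra.adjoin_induction (p := fun v hv => (⟨v, hv⟩ : ↥R) ∈ P) ?_ ?_ ?_ ?_ hv
  · rintro _ ⟨x, hx, rfl⟩
    exact h1 x hx
  · intro r
    exact Subalgebra.algebraMap_mem P r
  · intro x y hx hy h1 h2
    exact add_mem h1 h2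
  · intro x y hx hy h1 h2
    exact mul_mem h1 h2

theorem finiteType (S : Finset A) (hS : Ideal.span (S : Set A) = I) :
    Algebra.FiniteType A ↥R := by
  classical
  constructor
  rw [← adjoin_gen_eq_top A I a (S : Set A) hS]
  let T : Finset ↥R := S.attach.image (fun s => gen A I a s.1 (hS ▸ Ideal.subset_span s.2))
  refine ⟨T, ?_⟩
  congr 1
  ext z
  simp only [T, Finset.coe_image, Set.mem_image, Finset.mem_coe, Finset.mem_attach, true_and,
    Subtype.exists, Set.mem_ofPred_eq]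
  constructor
  · rintro ⟨s, hs, rfl⟩
    exact ⟨s, hS ▸ Ideal.subset_span hs, hs, rfl⟩
  · rintro ⟨s, hsI, hs, rfl⟩
    exact ⟨s, hs, rfl⟩

end alg

section tau
variable (A : Type u) [CommRing A] (I : Ideal A) (a m : A) (hm : m ∈ I)

/-- the localization of `A[I/a]` at `m/a`. -/
abbrev LL : Type u := Localization.Away (gen A I a m hm)

/-- the structure map `A → A[I/a][(m/a)⁻¹]`. -/
noncomputable def psiL : A →+* LL A I a m hm :=
  (algebraMap ↥(BlowUp.affineAlgebra A I a) (LL A I a m hm)).comp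
    (algebraMap A ↥(BlowUp.affineAlgebra A I a))

theorem psiL_eq (x : A) (hx : x ∈ I) :
    psiL A I a m hm x = psiL A I a m hm a *
      algebraMap ↥(BlowUp.affineAlgebra A I a) (LL A I a m hm) (gen A I a x hx) := by
  simp only [psiL, RingHom.comp_apply]
  rw [← map_mul, a_mul_gen]

theorem isUnit_gen : IsUnit (algebraMap ↥(BlowUp.affineAlgebra A I a) (LL A I a m hm)
    (gen A I a m hm)) :=
  IsLocalization.Away.algebraMap_isUnit _

theorem psiL_a_mem : psiL A I a m hm a ∈ (LL A I a m hm)⁰ :=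
  IsLocalization.map_nonZeroDivisors_le (.powers (gen A I a m hm)) _
    (Submonoid.mem_map_of_mem _ (a_mem_nonZeroDivisors A I a))

theorem psiL_m_mem : psiL A I a m hm m ∈ (LL A I a m hm)⁰ := by
  rw [psiL_eq A I a m hm m hm]
  exact Submonoid.mul_mem _ (psiL_a_mem A I a m hm) (isUnit_gen A I a m hm).mem_nonZeroDivisors

theorem psiL_dvd (x : A) (hx : x ∈ I) : psiL A I a m hm m ∣ psiL A I a m hm x := by
  obtain ⟨v, hv⟩ := isUnit_gen A I a m hm
  refine ⟨↑v⁻¹ * algebraMap ↥(BlowUp.affineAlgebra A I a) (LL A I a m hm) (gen A I a x hx), ?_⟩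
  rw [psiL_eq A I a m hm m hm, psiL_eq A I a m hm x hx, ← hv]
  rw [mul_assoc, ← mul_assoc (v : LL A I a m hm), Units.mul_inv, one_mul]

theorem exists_tau : ∃ τ : ↥(BlowUp.affineAlgebra A I m) →+* LL A I a m hm,
    τ.comp (algebraMap A ↥(BlowUp.affineAlgebra A I m)) = psiL A I a m hm :=
  (affineAlgebra_existsUnique_lift A I m (psiL A I a m hm) (psiL_m_mem A I a m hm)
    (psiL_dvd A I a m hm)).exists

/-- the transition ring map `A[I/m] → A[I/a][(m/a)⁻¹]`. -/
noncomputable def tau : ↥(BlowUp.affineAlgebra A I m) →+* LL A I a m hm :=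
  (exists_tau A I a m hm).choose

theorem tau_comp : (tau A I a m hm).comp (algebraMap A ↥(BlowUp.affineAlgebra A I m)) =
    psiL A I a m hm := (exists_tau A I a m hm).choose_spec

theorem tau_alg (x : A) : tau A I a m hm (algebraMap A ↥(BlowUp.affineAlgebra A I m) x) =
    psiL A I a m hm x := by
  rw [← tau_comp A I a m hm]; rfl

theorem tau_gen (x : A) (hx : x ∈ I) :
    tau A I a m hm (gen A I m x hx) *
      algebraMap ↥(BlowUp.affineAlgebra A I a) (LL A I a m hm) (gen A I a m hm) =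
      algebraMap ↥(BlowUp.affineAlgebra A I a) (LL A I a m hm) (gen A I a x hx) := by
  apply (mul_cancel_left_mem_nonZeroDivisors (psiL_a_mem A I a m hm)).1
  rw [← psiL_eq A I a m hm x hx, mul_left_comm, ← psiL_eq A I a m hm m hm,
    ← tau_alg A I a m hm m, ← map_mul, mul_comm, a_mul_gen, tau_alg]

end tau



section P3
variable {A : Type u} [CommRing A] (I : Ideal A) (S : Finset A) (hS : Ideal.span (S : Set A) = I)
variable (a m : Ix S)

/-- the open immersion `Spec A[I/a][(m/a)⁻¹] → Spec A[I/a]`. -/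
noncomputable def ell : Spec (CommRingCat.of (LL A I a.1 m.1 (mem_I I S hS m))) ⟶ aT I a.1 :=
  Spec.map (CommRingCat.ofHom (algebraMap ↥(BlowUp.affineAlgebra A I a.1)
    (LL A I a.1 m.1 (mem_I I S hS m))))

instance : IsOpenImmersion (ell I S hS a m) := by
  unfold ell
  exact IsOpenImmersion.of_isLocalization (gen A I a.1 m.1 (mem_I I S hS m))

/-- the transition map `Spec A[I/a][(m/a)⁻¹] → Spec A[I/m]`. -/
noncomputable def spTau : Spec (CommRingCat.of (LL A I a.1 m.1 (mem_I I S hS m))) ⟶ aT I m.1 :=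
  Spec.map (CommRingCat.ofHom (tau A I a.1 m.1 (mem_I I S hS m)))

theorem ell_q : ell I S hS a m ≫ aq I a.1 = spTau I S hS a m ≫ aq I m.1 := by
  change Spec.map _ ≫ Spec.map _ = Spec.map _ ≫ Spec.map _
  rw [← Spec.map_comp, ← Spec.map_comp, ← CommRingCat.ofHom_comp, ← CommRingCat.ofHom_comp,
    tau_comp]
  rfl

theorem ell_κ : ell I S hS a m ≫ κ (ac I S hS) a = spTau I S hS a m ≫ κ (ac I S hS) m := by
  refine core (ac I S hS) a m (ell I S hS a m) (spTau I S hS a m) ?_ ?_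
  · exact EC_comp_of_isOpenImmersion _ _ (ac I S hS a).eff _
  · exact ell_q I S hS a m

end P3

section P4
variable {A : Type u} [CommRing A] (I : Ideal A) (a m : A) (ha : a ∈ I) (hm : m ∈ I)

theorem good_congr {Y : Scheme.{u}} (J : Y.IdealSheafData) (s : Γ(Y, ⊤)) {V V' : Y.Opens}
    (hV : IsAffineOpen V) (hV' : IsAffineOpen V') (e : V = V') (h : Good J s V hV) :
    Good J s V' hV' := by
  subst e
  exact h

/-- the section `m/a` on `Spec A[I/a]`. -/
noncomputable def wsec : Γ(aT I a, ⊤) :=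
  (Scheme.ΓSpecIso (CommRingCat.of ↥(BlowUp.affineAlgebra A I a))).inv.hom (gen A I a m hm)

theorem gmap_aq (x : A) : gmap (aq I a) x =
    (Scheme.ΓSpecIso (CommRingCat.of ↥(BlowUp.affineAlgebra A I a))).inv.hom
      (algebraMap A ↥(BlowUp.affineAlgebra A I a) x) := by
  unfold aq
  rw [gmap_SpecMap]
  rfl

theorem gmap_aq_mul : gmap (aq I a) m = gmap (aq I a) a * wsec I a m hm := by
  rw [gmap_aq, gmap_aq, wsec, ← map_mul, a_mul_gen]

include ha in
theorem aD_le : aD I m (aq I a) ≤ (aT I a).basicOpen (wsec I a m hm) := by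
  intro y hy
  set J := (Curv2.idealSheaf A I).comap (aq I a) with hJ
  have htop : Good J (gmap (aq I a) a) ⊤ (isAffineOpen_top _) :=
    good_top_SpecMap A I a (a_mem_nonZeroDivisors A I a) (affineAlgebra_map_eq_span A I a ha)
  obtain ⟨U, hU, hyU, hgU⟩ := (mem_goodOpen J (gmap (aq I a) m)).1 hy
  obtain ⟨r, hrU, hyr⟩ := (isAffineOpen_top (aT I a)).exists_basicOpen_le ⟨y, hyU⟩ trivial
  set V := (aT I a).basicOpen r with hV
  have hVaff : IsAffineOpen V := (isAffineOpen_top _).basicOpen r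
  have g1 : Good J (gmap (aq I a) a) V hVaff := good_basicOpen J _ (isAffineOpen_top _) htop r
  have g2 : Good J (gmap (aq I a) m) V hVaff := by
    have h := good_basicOpen J _ hU hgU (res U r)
    refine good_congr J _ _ hVaff ?_ h
    rw [Scheme.basicOpen_res]
    exact inf_eq_right.2 hrU
  have e1 : res V (gmap (aq I a) m) = res V (gmap (aq I a) a) * res V (wsec I a m hm) := by
    rw [gmap_aq_mul I a m hm, map_mul]
  have h1 : res V (gmap (aq I a) a) ∈ Ideal.span {res V (gmap (aq I a) m)} := by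
    rw [← g2.2, g1.2]
    exact Ideal.subset_span rfl
  obtain ⟨t, ht⟩ := Ideal.mem_span_singleton'.1 h1
  have h2 : res V (gmap (aq I a) a) * (t * res V (wsec I a m hm)) = res V (gmap (aq I a) a) * 1 := by
    calc res V (gmap (aq I a) a) * (t * res V (wsec I a m hm))
        = t * (res V (gmap (aq I a) a) * res V (wsec I a m hm)) := by ring
      _ = t * res V (gmap (aq I a) m) := by rw [e1]
      _ = res V (gmap (aq I a) a) := ht
      _ = res V (gmap (aq I a) a) * 1 := (mul_one _).symm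
  have h3 : t * res V (wsec I a m hm) = 1 := (mul_cancel_left_mem_nonZeroDivisors g1.1).1 h2
  have hu : IsUnit (res V (wsec I a m hm)) := IsUnit.of_mul_eq_one_right _ h3
  have h4 := Scheme.basicOpen_of_isUnit _ hu
  rw [Scheme.basicOpen_res] at h4
  exact (inf_eq_left.1 h4) hyr

include ha in
theorem basicOpen_le_aD : (aT I a).basicOpen (wsec I a m hm) ≤ aD I m (aq I a) := by
  set J := (Curv2.idealSheaf A I).comap (aq I a) with hJ
  have htop : Good J (gmap (aq I a) a) ⊤ (isAffineOpen_top _) :=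
    good_top_SpecMap A I a (a_mem_nonZeroDivisors A I a) (affineAlgebra_map_eq_span A I a ha)
  have hs : res ⊤ (gmap (aq I a) m) = wsec I a m hm * res ⊤ (gmap (aq I a) a) := by
    rw [res_top, res_top, gmap_aq_mul I a m hm, mul_comm]
  have hg := good_of_unit_mul J (gmap (aq I a) m) (isAffineOpen_top _) (res ⊤ (gmap (aq I a) a))
    (wsec I a m hm) htop.1 htop.2 hs
  exact le_goodOpen J _ _ hg

include ha in
theorem aD_eq : aD I m (aq I a) = (aT I a).basicOpen (wsec I a m hm) :=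
  le_antisymm (aD_le I a m ha hm) (basicOpen_le_aD I a m ha hm)

end P4

section P5
variable {A : Type u} [CommRing A] (I : Ideal A) (S : Finset A) (hS : Ideal.span (S : Set A) = I)

/-- the chart cover of the affine model. -/
noncomputable def cov : (aX I S hS).OpenCover :=
  Scheme.Cover.mkOfCovers (Ix S) (fun a => aT I a.1) (fun a => κ (ac I S hS) a)
    (fun x => by
      obtain ⟨i, t, ht⟩ := exists_κ_eq (ac I S hS) x
      exact ⟨i, t, ht⟩)
    (fun a => by infer_instance)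

theorem compactSpace_aX : CompactSpace (aX I S hS) := by
  rw [← isCompact_univ_iff]
  have : (Set.univ : Set (aX I S hS)) = ⋃ a : Ix S, Set.range (κ (ac I S hS) a) := by
    ext x
    simp only [Set.mem_univ, true_iff]
    obtain ⟨i, t, ht⟩ := exists_κ_eq (ac I S hS) x
    exact Set.mem_iUnion.2 ⟨i, t, ht⟩
  rw [this]
  exact isCompact_iUnion fun a => isCompact_range (κ (ac I S hS) a).continuous

theorem quasiCompact_ab : QuasiCompact (ab I S hS) :=
  (HasAffineProperty.iff_of_isAffine (P := @QuasiCompact)).2 (compactSpace_aX I S hS)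

theorem quasiSeparatedSpace_aX : QuasiSeparatedSpace (aX I S hS) := by
  refine Scheme.quasiSeparatedSpace_of_isOpenCover (fun a : Ix S => (κ (ac I S hS) a).opensRange)
    ?_ ?_ ?_
  · apply IsOpenCover.mk
    rw [eq_top_iff]
    intro x _
    obtain ⟨i, t, ht⟩ := exists_κ_eq (ac I S hS) x
    exact Opens.mem_iSup.2 ⟨i, t, ht⟩
  · intro a
    exact isAffineOpen_opensRange _
  · intro a m
    have h := inter_range_κ (ac I S hS) a m
    have h2 : ((κ (ac I S hS) a).opensRange : Set (aX I S hS)) ∩ (κ (ac I S hS) m).opensRange =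
        (κ (ac I S hS) a) '' ((ac I S hS m).D (ac I S hS a).q : Set _) := by
      have := congrArg (fun O : (aX I S hS).Opens => (O : Set (aX I S hS))) h
      exact this
    rw [h2]
    apply IsCompact.image _ (κ (ac I S hS) a).continuous
    change IsCompact ((aD I m.1 (aq I a.1) : (aT I a.1).Opens) : Set (aT I a.1))
    rw [aD_eq I a.1 m.1 (mem_I I S hS a) (mem_I I S hS m)]
    exact ((isAffineOpen_top _).basicOpen _).isCompact

theorem quasiSeparated_ab : QuasiSeparated (ab I S hS) :=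
  (HasAffineProperty.iff_of_isAffine (P := @QuasiSeparated)).2 (quasiSeparatedSpace_aX I S hS)

include hS in
theorem loft_aq (a : Ix S) : LocallyOfFiniteType (aq I a.1) := by
  unfold aq
  rw [HasRingHomProperty.Spec_iff (P := @LocallyOfFiniteType)]
  have := finiteType A I a.1 S hS
  exact (RingHom.finiteType_algebraMap (A := A) (B := ↥(BlowUp.affineAlgebra A I a.1))).2 this

theorem loft_ab : LocallyOfFiniteType (ab I S hS) := by
  refine IsZariskiLocalAtSource.of_openCover (cov I S hS) (fun a => ?_)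
  change LocallyOfFiniteType (κ (ac I S hS) a ≫ b (ac I S hS))
  rw [κ_b]
  exact loft_aq I S hS a

end P5



section sp
variable {B C D : Type u} [CommRing B] [CommRing C] [CommRing D]

/-- `Spec` of a ring map. -/
noncomputable abbrev sp (φ : B →+* C) : Spec (CommRingCat.of C) ⟶ Spec (CommRingCat.of B) :=
  Spec.map (CommRingCat.ofHom φ)

theorem sp_comp (g : C →+* D) (f : B →+* C) : sp (g.comp f) = sp g ≫ sp f := by
  unfold sp
  rw [CommRingCat.ofHom_comp, Spec.map_comp]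

theorem sp_inj {f g : B →+* C} (h : sp f = sp g) : f = g := by
  have := Spec.map_injective h
  exact congrArg CommRingCat.Hom.hom this

theorem exists_sp (h : Spec (CommRingCat.of C) ⟶ Spec (CommRingCat.of B)) :
    ∃ φ : B →+* C, h = sp φ :=
  ⟨(Spec.preimage h).hom, by unfold sp; rw [CommRingCat.ofHom_hom, Spec.map_preimage]⟩

end sp

section E
variable {A : Type u} [CommRing A] (I : Ideal A) (S : Finset A) (hS : Ideal.span (S : Set A) = I)

/-- `m/a`-type generator with index in `Ix S`. -/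
noncomputable abbrev g (a x : Ix S) : ↥(BlowUp.affineAlgebra A I a.1) :=
  gen A I a.1 x.1 (mem_I I S hS x)

theorem E2 {C : Type u} [CommRing C] (a m : Ix S) (φ : ↥(BlowUp.affineAlgebra A I a.1) →+* C)
    (hu : IsUnit (φ (g I S hS a m))) :
    ∃ φ' : ↥(BlowUp.affineAlgebra A I m.1) →+* C,
      sp φ ≫ κ (ac I S hS) a = sp φ' ≫ κ (ac I S hS) m ∧
      φ'.comp (algebraMap A _) = φ.comp (algebraMap A _) ∧
      ∀ (x : A) (hx : x ∈ I), φ' (gen A I m.1 x hx) * φ (g I S hS a m) = φ (gen A I a.1 x hx) := by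
  let φL : LL A I a.1 m.1 (mem_I I S hS m) →+* C := IsLocalization.Away.lift (g I S hS a m) hu
  have hφL : φL.comp (algebraMap _ _) = φ := IsLocalization.Away.lift_comp _ hu
  have hφL' : ∀ z, φL (algebraMap _ _ z) = φ z := fun z => by rw [← hφL]; rfl
  refine ⟨φL.comp (tau A I a.1 m.1 (mem_I I S hS m)), ?_, ?_, ?_⟩
  · have e1 : sp φ = sp φL ≫ ell I S hS a m := by
      rw [← hφL, sp_comp]
      rfl
    have e2 : sp (φL.comp (tau A I a.1 m.1 (mem_I I S hS m))) = sp φL ≫ spTau I S hS a m := by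
      rw [sp_comp]
      rfl
    rw [e1, e2, Category.assoc, Category.assoc, ell_κ]
  · rw [RingHom.comp_assoc, tau_comp, psiL, ← RingHom.comp_assoc, hφL]
  · intro x hx
    rw [RingHom.comp_apply, ← hφL' (g I S hS a m), ← map_mul, tau_gen, hφL']

theorem E1 {K : Type u} [Field K] (i₁ : Spec (CommRingCat.of K) ⟶ aX I S hS) :
    ∃ (a : Ix S) (φ : ↥(BlowUp.affineAlgebra A I a.1) →+* K), i₁ = sp φ ≫ κ (ac I S hS) a := by
  obtain ⟨a, t, ht⟩ := exists_κ_eq (ac I S hS) (i₁ default)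
  have hr : Set.range i₁ ⊆ Set.range (κ (ac I S hS) a) := by
    rintro _ ⟨y, rfl⟩
    rw [Unique.eq_default y]
    exact ⟨t, ht⟩
  obtain ⟨φ, hφ⟩ := exists_sp (IsOpenImmersion.lift (κ (ac I S hS) a) i₁ hr)
  refine ⟨a, φ, ?_⟩
  rw [← hφ, IsOpenImmersion.lift_fac]

theorem E3 {R K : Type u} [CommRing R] [IsDomain R] [ValuationRing R] [Field K] [Algebra R K]
    [IsFractionRing R K] (t : Ix S → K) (a : Ix S) (ha : t a = 1) :
    ∃ m : Ix S, t m ≠ 0 ∧ ∀ s : Ix S, ∃ r : R, t s = t m * algebraMap R K r := by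
  classical
  let v := ValuationRing.valuation R K
  obtain ⟨m, -, hm⟩ := Finset.exists_max_image (Finset.univ : Finset (Ix S)) (fun s => v (t s))
    ⟨a, Finset.mem_univ _⟩
  have h1 : v (t m) ≠ 0 := by
    intro h0
    have := hm a (Finset.mem_univ _)
    simp only [ha, map_one, h0] at this
    exact absurd this (not_le.2 zero_lt_one)
  have hm0 : t m ≠ 0 := fun h => h1 (by rw [h, map_zero])
  refine ⟨m, hm0, fun s => ?_⟩
  have h2 : v (t s / t m) ≤ 1 := by
    rw [map_div₀]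
    exact div_le_one_of_le₀ (hm s (Finset.mem_univ _)) zero_le
  obtain ⟨r, hr⟩ := (ValuationRing.mem_integer_iff R K _).1 ((Valuation.mem_integer_iff _ _).2 h2)
  refine ⟨r, ?_⟩
  rw [hr]
  field_simp

theorem E4 {R K : Type u} [CommRing R] [Field K] [Algebra R K]
    (hinj : Function.Injective (algebraMap R K)) (m : Ix S)
    (φ' : ↥(BlowUp.affineAlgebra A I m.1) →+* K)
    (h1 : ∀ x : A, ∃ r : R, algebraMap R K r = φ' (algebraMap A _ x))
    (h2 : ∀ s : Ix S, ∃ r : R, algebraMap R K r = φ' (g I S hS m s)) :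
    ∃ θ : ↥(BlowUp.affineAlgebra A I m.1) →+* R, (algebraMap R K).comp θ = φ' := by
  let P : Subalgebra A ↥(BlowUp.affineAlgebra A I m.1) :=
    { ((algebraMap R K).range.comap φ').toSubsemiring with
      algebraMap_mem' := fun x => by
        obtain ⟨r, hr⟩ := h1 x
        exact ⟨r, hr⟩ }
  have hP : ∀ z, z ∈ P ↔ ∃ r : R, algebraMap R K r = φ' z := fun z => Iff.rfl
  have htop : P = ⊤ := by
    rw [eq_top_iff, ← adjoin_gen_eq_top A I m.1 (S : Set A) hS]
    apply Algebra.adjoin_le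
    rintro _ ⟨s, hsI, hs, rfl⟩
    exact (hP _).2 (h2 ⟨s, hs⟩)
  have h : ∀ z, ∃ r : R, algebraMap R K r = φ' z := fun z => (hP z).1 (htop ▸ Algebra.mem_top)
  choose θ hθ using h
  refine ⟨{ toFun := θ, map_one' := hinj (by rw [hθ, map_one, map_one]),
            map_mul' := fun x y => hinj (by rw [hθ, map_mul, map_mul, hθ, hθ]),
            map_zero' := hinj (by rw [hθ, map_zero, map_zero]),
            map_add' := fun x y => hinj (by rw [hθ, map_add, map_add, hθ, hθ]) }, ?_⟩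
  ext z
  exact hθ z

theorem existence_ab : ValuativeCriterion.Existence (ab I S hS) := by
  intro Sq
  obtain ⟨a, φ, hφ⟩ := E1 I S hS Sq.i₁
  obtain ⟨ψ, hψ⟩ := exists_sp Sq.i₂
  have hinj : Function.Injective (algebraMap Sq.R Sq.K) := IsFractionRing.injective Sq.R Sq.K
  have hcomm : φ.comp (algebraMap A _) = (algebraMap Sq.R Sq.K).comp ψ := by
    apply sp_inj
    have w := Sq.commSq.w
    rw [hφ, hψ, Category.assoc] at w
    change sp φ ≫ κ (ac I S hS) a ≫ b (ac I S hS) = _ at w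
    rw [κ_b] at w
    rw [sp_comp, sp_comp]
    exact w
  have hta : φ (g I S hS a a) = 1 := by
    rw [g, gen_self, map_one]
  obtain ⟨m, hm0, hm⟩ := E3 (R := Sq.R) S (fun s => φ (g I S hS a s)) a hta
  obtain ⟨φ', e1, e2, e3⟩ := E2 I S hS a m φ (Ne.isUnit hm0)
  have h2 : ∀ s : Ix S, ∃ r : Sq.R, algebraMap Sq.R Sq.K r = φ' (g I S hS m s) := by
    intro s
    obtain ⟨r, hr⟩ := hm s
    refine ⟨r, ?_⟩
    have := e3 s.1 (mem_I I S hS s)
    change φ' (g I S hS m s) * φ (g I S hS a m) = φ (g I S hS a s) at this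
    rw [hr, mul_comm] at this
    exact (mul_left_cancel₀ hm0 this).symm
  have h1 : ∀ x : A, ∃ r : Sq.R, algebraMap Sq.R Sq.K r = φ' (algebraMap A _ x) := by
    intro x
    refine ⟨ψ x, ?_⟩
    have := congrArg (fun f => f x) (e2.trans hcomm)
    exact this.symm
  obtain ⟨θ, hθ⟩ := E4 I S hS hinj m φ' h1 h2
  refine ⟨⟨⟨sp θ ≫ κ (ac I S hS) m, ?_, ?_⟩⟩⟩
  · rw [hφ, e1, ← hθ, sp_comp, Category.assoc]
  · rw [hψ, Category.assoc]
    change sp θ ≫ κ (ac I S hS) m ≫ b (ac I S hS) = _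
    rw [κ_b]
    change sp θ ≫ sp (algebraMap A _) = _
    rw [← sp_comp]
    congr 1
    apply RingHom.ext
    intro x
    apply hinj
    have := congrArg (fun f => f x) (e2.trans hcomm)
    rw [← hθ] at this
    exact this

theorem U1 {R : Type u} [CommRing R] [IsLocalRing R] (l : Spec (CommRingCat.of R) ⟶ aX I S hS) :
    ∃ (a : Ix S) (θ : ↥(BlowUp.affineAlgebra A I a.1) →+* R), l = sp θ ≫ κ (ac I S hS) a := by
  obtain ⟨a, t, ht⟩ := exists_κ_eq (ac I S hS) (l (IsLocalRing.closedPoint R))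
  have h1 : IsLocalRing.closedPoint R ∈ l ⁻¹ᵁ (κ (ac I S hS) a).opensRange := ⟨t, ht⟩
  have h2 : l ⁻¹ᵁ (κ (ac I S hS) a).opensRange = ⊤ :=
    (IsLocalRing.closedPoint_mem_iff (R := R) (l ⁻¹ᵁ (κ (ac I S hS) a).opensRange)).1 h1
  have hr : Set.range l ⊆ Set.range (κ (ac I S hS) a) := by
    rintro _ ⟨y, rfl⟩
    have : y ∈ l ⁻¹ᵁ (κ (ac I S hS) a).opensRange := by rw [h2]; trivial
    exact this
  obtain ⟨θ, hθ⟩ := exists_sp (IsOpenImmersion.lift (κ (ac I S hS) a) l hr)
  refine ⟨a, θ, ?_⟩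
  rw [← hθ, IsOpenImmersion.lift_fac]

/-- a `K`-point of the chart `a` lying also in the chart `m` does not vanish at `m/a`. -/
theorem U2a {K : Type u} [Field K] (a m : Ix S) (φ₁ : ↥(BlowUp.affineAlgebra A I a.1) →+* K)
    (φ₂ : ↥(BlowUp.affineAlgebra A I m.1) →+* K)
    (h : sp φ₁ ≫ κ (ac I S hS) a = sp φ₂ ≫ κ (ac I S hS) m) : φ₁ (g I S hS a m) ≠ 0 := by
  obtain ⟨t, ht⟩ : ∃ t : aT I a.1, t = sp φ₁ default := ⟨_, rfl⟩
  have h1 : κ (ac I S hS) a t ∈ (κ (ac I S hS) a).opensRange ⊓ (κ (ac I S hS) m).opensRange := by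
    refine ⟨⟨t, rfl⟩, sp φ₂ default, ?_⟩
    have := congrArg (fun f => f default) h
    simp only [Scheme.Hom.comp_apply] at this
    rw [ht]
    exact this.symm
  rw [inter_range_κ] at h1
  obtain ⟨t', ht', e⟩ := h1
  have e' : t' = t := (κ (ac I S hS) a).isOpenEmbedding.injective e
  rw [e'] at ht'
  have h2 : t ∈ (aT I a.1).basicOpen (wsec I a.1 m.1 (mem_I I S hS m)) :=
    aD_le I a.1 m.1 (mem_I I S hS a) (mem_I I S hS m) ht'
  rw [wsec] at h2
  erw [basicOpen_eq_of_affine] at h2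
  intro h0
  apply h2
  rw [ht, Spec.map_apply, PrimeSpectrum.comap_asIdeal, Ideal.mem_comap]
  change φ₁ (g I S hS a m) ∈ _
  rw [h0]
  exact Ideal.zero_mem _

theorem U2 {R K : Type u} [CommRing R] [Field K] [Algebra R K]
    (hinj : Function.Injective (algebraMap R K)) (a m : Ix S)
    (θ₁ : ↥(BlowUp.affineAlgebra A I a.1) →+* R) (θ₂ : ↥(BlowUp.affineAlgebra A I m.1) →+* R)
    (h : sp ((algebraMap R K).comp θ₁) ≫ κ (ac I S hS) a =
      sp ((algebraMap R K).comp θ₂) ≫ κ (ac I S hS) m) : IsUnit (θ₂ (g I S hS m a)) := by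
  have h0 := U2a I S hS a m _ _ h
  obtain ⟨φ', e1, -, e3⟩ := E2 I S hS a m _ (Ne.isUnit h0)
  have e4 : φ' = (algebraMap R K).comp θ₂ := by
    apply sp_inj
    have := e1.symm.trans h
    exact (cancel_mono (κ (ac I S hS) m)).1 this
  have e5 := e3 a.1 (mem_I I S hS a)
  rw [e4, gen_self, map_one, RingHom.comp_apply, RingHom.comp_apply, ← map_mul] at e5
  have e6 : θ₂ (g I S hS m a) * θ₁ (g I S hS a m) = 1 := by
    apply hinj
    rw [map_one]
    exact e5
  exact IsUnit.of_mul_eq_one _ e6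

theorem uniqueness_ab : ValuativeCriterion.Uniqueness (ab I S hS) := by
  intro Sq
  constructor
  intro l₁ l₂
  have hinj : Function.Injective (algebraMap Sq.R Sq.K) := IsFractionRing.injective Sq.R Sq.K
  obtain ⟨a, θ₁, h₁⟩ := U1 I S hS l₁.l
  obtain ⟨m, θ₂, h₂⟩ := U1 I S hS l₂.l
  have hK : sp ((algebraMap Sq.R Sq.K).comp θ₁) ≫ κ (ac I S hS) a =
      sp ((algebraMap Sq.R Sq.K).comp θ₂) ≫ κ (ac I S hS) m := by
    rw [sp_comp, sp_comp, Category.assoc, Category.assoc, ← h₁, ← h₂]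
    exact l₁.fac_left.trans l₂.fac_left.symm
  have hu := U2 I S hS hinj a m θ₁ θ₂ hK
  obtain ⟨θ₂', e1, -, -⟩ := E2 I S hS m a θ₂ hu
  have h₂' : l₂.l = sp θ₂' ≫ κ (ac I S hS) a := h₂.trans e1
  have e2 : θ₁ = θ₂' := by
    have hK' : sp ((algebraMap Sq.R Sq.K).comp θ₁) ≫ κ (ac I S hS) a =
        sp ((algebraMap Sq.R Sq.K).comp θ₂') ≫ κ (ac I S hS) a := by
      rw [sp_comp, sp_comp, Category.assoc, Category.assoc, ← h₁, ← h₂']
      exact l₁.fac_left.trans l₂.fac_left.symm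
    have := sp_inj ((cancel_mono (κ (ac I S hS) a)).1 hK')
    apply RingHom.ext
    intro z
    apply hinj
    exact congrArg (fun f => f z) this
  apply CommSq.LiftStruct.ext
  rw [h₁, h₂', e2]

theorem isProper_ab : IsProper (ab I S hS) := by
  haveI := quasiCompact_ab I S hS
  haveI := quasiSeparated_ab I S hS
  haveI := loft_ab I S hS
  apply IsProper.of_valuativeCriterion
  rw [ValuativeCriterion.iff]
  exact ⟨existence_ab I S hS, uniqueness_ab I S hS⟩

end E



/-- the base change of a blow-up along an open immersion is a blow-up. -/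
theorem isBlowUp_pullback_snd {X X' V : Scheme.{u}} (b : X' ⟶ X) (𝓘 : X.IdealSheafData)
    (hb : BlowUp.IsBlowUp b 𝓘) (j : V ⟶ X) [IsOpenImmersion j] :
    BlowUp.IsBlowUp (pullback.snd b j) (𝓘.comap j) := by
  refine ⟨?_, ?_⟩
  · rw [← Scheme.IdealSheafData.comap_comp, ← pullback.condition,
      Scheme.IdealSheafData.comap_comp]
    exact effCartier_comap_of_isOpenImmersion _ hb.1 (pullback.fst b j)
  · intro Y g hg
    rw [← Scheme.IdealSheafData.comap_comp] at hg
    obtain ⟨h, hh, huniq⟩ := hb.2 Y (g ≫ j) hg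
    refine ⟨pullback.lift h g hh, pullback.lift_snd _ _ _, ?_⟩
    intro k hk
    apply pullback.hom_ext
    · rw [pullback.lift_fst]
      apply huniq
      rw [Category.assoc, pullback.condition, ← Category.assoc, hk]
    · rw [pullback.lift_snd, hk]

/-- two blow-ups of the same ideal are isomorphic over the base. -/
theorem exists_iso_of_isBlowUp {X X₁ X₂ : Scheme.{u}} (b₁ : X₁ ⟶ X) (b₂ : X₂ ⟶ X)
    (𝓘 : X.IdealSheafData) (h₁ : BlowUp.IsBlowUp b₁ 𝓘) (h₂ : BlowUp.IsBlowUp b₂ 𝓘) :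
    ∃ e : X₁ ≅ X₂, e.hom ≫ b₂ = b₁ := by
  obtain ⟨u, hu, -⟩ := h₂.2 X₁ b₁ h₁.1
  obtain ⟨v, hv, -⟩ := h₁.2 X₂ b₂ h₂.1
  refine ⟨⟨u, v, ?_, ?_⟩, hu⟩
  · obtain ⟨w, -, hw⟩ := h₁.2 X₁ b₁ h₁.1
    rw [hw (u ≫ v) (by dsimp only; rw [Category.assoc, hv, hu]), hw (𝟙 _) (Category.id_comp _)]
  · obtain ⟨w, -, hw⟩ := h₂.2 X₂ b₂ h₂.1
    rw [hw (v ≫ u) (by dsimp only; rw [Category.assoc, hu, hv]), hw (𝟙 _) (Category.id_comp _)]

theorem eq_idealSheaf {A : Type u} [CommRing A] (𝓙 : (Spec (CommRingCat.of A)).IdealSheafData) :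
    𝓙 = Curv2.idealSheaf A ((𝓙.ideal ⟨⊤, isAffineOpen_top _⟩).map
      (Scheme.ΓSpecIso (CommRingCat.of A)).hom.hom) := by
  apply Scheme.IdealSheafData.ext_of_isAffine
  have hres : (Spec (CommRingCat.of A)).presheaf.map
      (homOfLE (le_top : (⊤ : (Spec (CommRingCat.of A)).Opens) ≤ ⊤)).op = 𝟙 _ :=
    CategoryTheory.Functor.map_id _ _
  simp only [Curv2.idealSheaf, Scheme.IdealSheafData.ofIdealTop_ideal]
  rw [hres, CommRingCat.hom_id, Ideal.map_id, Ideal.map_map, ← CommRingCat.hom_comp,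
    Iso.hom_inv_id, CommRingCat.hom_id]
  exact (Ideal.map_id _).symm

theorem isProper_pullback_snd_Spec {X X' : Scheme.{u}} (b : X' ⟶ X) (𝓘 : X.IdealSheafData)
    (hft : BlowUp.IsFiniteTypeIdeal 𝓘) (hb : BlowUp.IsBlowUp b 𝓘) {A : Type u} [CommRing A]
    (j : Spec (CommRingCat.of A) ⟶ X) [IsOpenImmersion j] : IsProper (pullback.snd b j) := by
  classical
  have h1 := isBlowUp_pullback_snd b 𝓘 hb j
  rw [eq_idealSheaf (𝓘.comap j)] at h1
  set I₀ := ((𝓘.comap j).ideal ⟨⊤, isAffineOpen_top _⟩).map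
      (Scheme.ΓSpecIso (CommRingCat.of A)).hom.hom with hI₀
  have hfg : I₀.FG := by
    apply Ideal.FG.map
    have haff : IsAffineOpen j.opensRange := isAffineOpen_opensRange j
    rw [ideal_comap_eq_map j 𝓘 (isAffineOpen_top _) haff (fun x _ => ⟨x, rfl⟩)]
    exact Ideal.FG.map (hft ⟨_, haff⟩) _
  obtain ⟨S, hS⟩ := hfg
  obtain ⟨e, he⟩ := exists_iso_of_isBlowUp _ _ _ h1 (ab_isBlowUp I₀ S hS)
  rw [← he]
  haveI := isProper_ab I₀ S hS
  infer_instance

/-- **A blow-up in a finite type ideal is proper.** -/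
theorem isProper_of_isBlowUp {X X' : Scheme.{u}} (b : X' ⟶ X) (𝓘 : X.IdealSheafData)
    (hft : BlowUp.IsFiniteTypeIdeal 𝓘) (hb : BlowUp.IsBlowUp b 𝓘) : IsProper b := by
  refine IsZariskiLocalAtTarget.of_openCover (P := @IsProper) X.affineCover (fun i => ?_)
  exact @isProper_pullback_snd_Spec X X' b 𝓘 hft hb (X.affineOpenCover.X i) _ (X.affineCover.f i)
    (X.affineCover.map_prop i)


end Groth.Agent.Lib.H9BlowProper
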