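import Mathlib
import Groth.Prelude.Def_BlowUp2
import Groth.Agent.Lib.H9BlowGlue
import Groth.Agent.Lib.H9BlowExist
import Groth.Agent.Lib.H9BlowProper
import Groth.Agent.Lib.Helper20BlowUp
import Groth.Agent.Lib.Helper20EffCartier
import Groth.Agent.Lib.Helper22FTIdeal

set_option autoImplicit false
universe u
open nonZeroDivisors CategoryTheory CategoryTheory.Limits AlgebraicGeometry TopologicalSpace Opposite
open Groth.Agent.Lib.H9BlowGlue

namespace Groth.Agent.Lib.H9BlowComp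

/-- a factor of an effective Cartier ideal sheaf is effective Cartier. -/
theorem effCartier_of_mul {X : Scheme.{u}} {I₁ I₂ : X.IdealSheafData}
    (h : BlowUp.IsEffCartierIdeal (I₁ * I₂)) : BlowUp.IsEffCartierIdeal I₁ := by
  intro x
  obtain ⟨U, hxU, e, he, hIe⟩ := h x
  rw [Scheme.IdealSheafData.ideal_mul] at hIe
  change I₁.ideal U * I₂.ideal U = Ideal.span {e} at hIe
  let p : Ideal Γ(X, U.1) :=
    (IsLocalRing.maximalIdeal (X.presheaf.stalk x)).comap (X.presheaf.germ U.1 x hxU).hom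
  have hp : ∀ r, r ∈ p ↔ x ∉ X.basicOpen r := by
    intro r
    rw [Scheme.mem_basicOpen _ _ _ hxU]
    rfl
  have key : ∃ a ∈ I₁.ideal U, ∃ b ∈ I₂.ideal U, a * b ∉ Ideal.span {e} * p := by
    by_contra hcon
    push Not at hcon
    have h1 : I₁.ideal U * I₂.ideal U ≤ Ideal.span {e} * p :=
      Ideal.mul_le.2 (fun a ha b hb => hcon a ha b hb)
    rw [hIe] at h1
    have h2 : e ∈ Ideal.span {e} * p := h1 (Ideal.subset_span rfl)
    obtain ⟨m, hm, hem⟩ := Ideal.mem_span_singleton_mul.1 h2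
    have h3 : m = 1 := by
      have : e * m = e * 1 := by rw [hem, mul_one]
      exact (mul_cancel_left_mem_nonZeroDivisors he).1 this
    rw [h3, hp] at hm
    apply hm
    rw [Scheme.basicOpen_one]
    exact hxU
  obtain ⟨a, ha, b, hb, hab⟩ := key
  have h4 : a * b ∈ Ideal.span {e} := by rw [← hIe]; exact Ideal.mul_mem_mul ha hb
  obtain ⟨w, hw⟩ := Ideal.mem_span_singleton'.1 h4
  have hwp : w ∉ p := by
    intro hwp
    apply hab
    rw [← hw, mul_comm w e]
    exact Ideal.mul_mem_mul (Ideal.subset_span rfl) hwp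
  rw [hp, not_not] at hwp
  set ρ := (X.presheaf.map (homOfLE (X.basicOpen_le w)).op).hom with hρ
  have inst := U.2.isLocalization_basicOpen w
  have hρalg : ρ = algebraMap _ _ := rfl
  have hu : IsUnit (ρ w) := RingedSpace.isUnit_res_basicOpen _ w
  have hρe : ρ e ∈ Γ(X, X.basicOpen w)⁰ := by
    rw [hρalg]
    exact IsLocalization.map_nonZeroDivisors_le (.powers w) _ (Submonoid.mem_map_of_mem _ he)
  have hρab : ρ a * ρ b = ρ w * ρ e := by rw [← map_mul, ← map_mul, hw]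
  have hρa : ρ a ∈ Γ(X, X.basicOpen w)⁰ := by
    have : ρ a * ρ b ∈ Γ(X, X.basicOpen w)⁰ := by
      rw [hρab]
      exact Submonoid.mul_mem _ hu.mem_nonZeroDivisors hρe
    exact (mul_mem_nonZeroDivisors.1 this).1
  have h5 := I₁.map_ideal_basicOpen U w
  change Ideal.map ρ (I₁.ideal U) = _ at h5
  have goal : Ideal.map ρ (I₁.ideal U) = Ideal.span {ρ a} := by
    apply le_antisymm
    · rw [Ideal.map_le_iff_le_comap]
      intro a' ha'
      rw [Ideal.mem_comap]
      have h6 : a' * b ∈ Ideal.span {e} := by rw [← hIe]; exact Ideal.mul_mem_mul ha' hb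
      obtain ⟨v, hv⟩ := Ideal.mem_span_singleton'.1 h6
      have h7 : e * (a' * w) = e * (a * v) := by
        calc e * (a' * w) = a' * (w * e) := by ring
          _ = a' * (a * b) := by rw [hw]
          _ = a * (a' * b) := by ring
          _ = a * (v * e) := by rw [hv]
          _ = e * (a * v) := by ring
      have h8 : a' * w = a * v := (mul_cancel_left_mem_nonZeroDivisors he).1 h7
      obtain ⟨wu, hwu⟩ := hu
      rw [Ideal.mem_span_singleton']
      refine ⟨ρ v * ↑wu⁻¹, ?_⟩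
      have h9 : ρ a' * ρ w = ρ a * ρ v := by rw [← map_mul, ← map_mul, h8]
      calc ρ v * ↑wu⁻¹ * ρ a = (ρ a * ρ v) * ↑wu⁻¹ := by ring
        _ = ρ a' * ρ w * ↑wu⁻¹ := by rw [h9]
        _ = ρ a' * (↑wu * ↑wu⁻¹) := by rw [hwu]; ring
        _ = ρ a' := by rw [Units.mul_inv, mul_one]
    · rw [Ideal.span_singleton_le_iff_mem]
      exact Ideal.mem_map_of_mem _ ha
  exact ⟨X.affineBasicOpen w, hwp, ρ a, hρa, h5.symm.trans goal⟩

theorem effCartier_of_mul' {X : Scheme.{u}} {I₁ I₂ : X.IdealSheafData}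
    (h : BlowUp.IsEffCartierIdeal (I₁ * I₂)) : BlowUp.IsEffCartierIdeal I₂ := by
  rw [mul_comm] at h
  exact effCartier_of_mul h

/-- precomposing a blow-up with an isomorphism gives a blow-up. -/
theorem isBlowUp_iso_comp {X X' Y : Scheme.{u}} (b : X' ⟶ X) (𝓘 : X.IdealSheafData)
    (hb : BlowUp.IsBlowUp b 𝓘) (e : Y ≅ X') : BlowUp.IsBlowUp (e.hom ≫ b) 𝓘 := by
  refine ⟨?_, ?_⟩
  · rw [Scheme.IdealSheafData.comap_comp]
    exact effCartier_comap_of_isOpenImmersion _ hb.1 e.hom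
  · intro Z g hg
    obtain ⟨h, hh, hu⟩ := hb.2 Z g hg
    refine ⟨h ≫ e.inv, by dsimp only; rw [Category.assoc, Iso.inv_hom_id_assoc, hh], ?_⟩
    intro k hk
    have := hu (k ≫ e.hom) (by dsimp only; rw [Category.assoc, hk])
    rw [← this, Category.assoc, Iso.hom_inv_id, Category.comp_id]

/-- blowing up `I`, then the inverse image of `J`, is a blow-up of `I * J`. -/
theorem isBlowUp_comp_mul {X X' X'' : Scheme.{u}} (I J : X.IdealSheafData) (b : X' ⟶ X)
    (hb : BlowUp.IsBlowUp b I) (b' : X'' ⟶ X') (hb' : BlowUp.IsBlowUp b' (J.comap b)) :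
    BlowUp.IsBlowUp (b' ≫ b) (I * J) := by
  refine ⟨?_, ?_⟩
  · rw [Groth.Agent.Lib.Helper20.BlowUpBasic.comap_mul, Scheme.IdealSheafData.comap_comp,
      Scheme.IdealSheafData.comap_comp]
    exact Groth.Agent.Lib.Helper20.BlowUpBasic.isEffCartierIdeal_mul
      (Groth.Agent.Lib.Helper20.BlowUpBasic.isEffCartierIdeal_comap _ b' hb' _ hb.1) hb'.1
  · intro Y g hg
    rw [Groth.Agent.Lib.Helper20.BlowUpBasic.comap_mul] at hg
    have hgI := effCartier_of_mul hg
    have hgJ := effCartier_of_mul' hg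
    obtain ⟨g', hg', hu'⟩ := hb.2 Y g hgI
    have hJ' : BlowUp.IsEffCartierIdeal ((J.comap b).comap g') := by
      rw [← Scheme.IdealSheafData.comap_comp, hg']
      exact hgJ
    obtain ⟨g'', hg'', hu''⟩ := hb'.2 Y g' hJ'
    refine ⟨g'', by dsimp only; rw [← Category.assoc, hg'', hg'], ?_⟩
    intro k hk
    apply hu''
    apply hu'
    rw [Category.assoc, hk]

/-- the inverse image of a finite type ideal sheaf is of finite type. -/
theorem isFiniteTypeIdeal_comap {X Y : Scheme.{u}} (𝓚 : X.IdealSheafData)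
    (h𝓚 : BlowUp.IsFiniteTypeIdeal 𝓚) (f : Y ⟶ X) : BlowUp.IsFiniteTypeIdeal (𝓚.comap f) := by
  intro W
  have key : ∀ x : W.1, ∃ r : Γ(Y, W.1), x.1 ∈ Y.basicOpen r ∧
      ∃ V : X.affineOpens, Y.basicOpen r ≤ f ⁻¹ᵁ V.1 := by
    intro ⟨x, hx⟩
    obtain ⟨V, hV, hxV, -⟩ := exists_isAffineOpen_mem_and_subset (x := f x) (U := (⊤ : X.Opens)) trivial
    obtain ⟨r, hr, hxr⟩ := W.2.exists_basicOpen_le (V := f ⁻¹ᵁ V) ⟨x, hxV⟩ hx
    exact ⟨r, hxr, ⟨V, hV⟩, hr⟩
  choose r hxr V hrV using key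
  have hspan : Ideal.span (Set.range r) = ⊤ := by
    rw [← W.2.self_le_iSup_basicOpen_iff]
    exact fun x hxW ↦ Opens.mem_iSup.mpr ⟨⟨_, ⟨x, hxW⟩, rfl⟩, hxr ⟨x, hxW⟩⟩
  have inst := W.2.isLocalization_basicOpen
  refine Groth.Agent.Lib.Helper22.FTIdeal.fg_of_span_isLocalization _ _ hspan
    (fun g => Γ(Y, Y.basicOpen g.1)) ?_
  rintro ⟨_, x, rfl⟩
  have hle : Y.affineBasicOpen (r x) ≤ W := Y.affineBasicOpen_le (r x)
  have hmap := (𝓚.comap f).map_ideal hle
  have hfg : ((𝓚.comap f).ideal (Y.affineBasicOpen (r x))).FG := by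
    have := Groth.Agent.Lib.Helper20.EffCartier.ideal_comap_eq_map f 𝓚
      (Y.affineBasicOpen (r x)).2 (V x).2 (hrV x)
    change (𝓚.comap f).ideal (Y.affineBasicOpen (r x)) = _ at this
    rw [this]
    exact (h𝓚 (V x)).map _
  rw [← hmap] at hfg
  exact hfg


end Groth.Agent.Lib.H9BlowComp
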