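import Mathlib
import Groth.Prelude.Def_BlowUp2
import Groth.Agent.Lib.H9BlowProper
import Groth.Agent.Lib.H9BlowComp
import Groth.Agent.Lib.Helper22FTIdeal

set_option autoImplicit false
universe u
open CategoryTheory CategoryTheory.Limits AlgebraicGeometry TopologicalSpace Opposite
open Groth.Agent.Lib.Helper22.FTIdeal

namespace Groth.Agent.Lib.H9BlowExt

theorem quasiCompact_ι {X : Scheme.{u}} [QuasiSeparatedSpace X] (V : X.Opens)
    (hV : IsCompact (V : Set X)) : QuasiCompact V.ι := by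
  rw [quasiCompact_iff]
  intro W hWo hWc
  rw [V.ι.isOpenEmbedding.isInducing.isCompact_iff, Set.image_preimage_eq_inter_range,
    Scheme.Opens.range_ι]
  exact QuasiSeparatedSpace.inter_isCompact _ _ hWo hWc V.2 hV

theorem ideal_eqToHom {V : Scheme.{u}} (𝓘 : V.IdealSheafData) (W W' : V.Opens) (h : W = W')
    (hW : IsAffineOpen W) (hW' : IsAffineOpen W') :
    (𝓘.ideal ⟨W, hW⟩).comap (V.presheaf.map (eqToHom h).op).hom = 𝓘.ideal ⟨W', hW'⟩ := by
  subst h
  simp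

theorem comap_map_ι {X : Scheme.{u}} (V : X.Opens) [QuasiCompact V.ι]
    (𝓘 : V.toScheme.IdealSheafData) : (𝓘.map V.ι).comap V.ι = 𝓘 := by
  ext W : 2
  rw [Scheme.IdealSheafData.ideal_comap_of_isOpenImmersion]
  have H : IsAffineOpen (V.ι ⁻¹ᵁ (V.ι ''ᵁ W.1)) := by
    rw [Scheme.Hom.preimage_image_eq]; exact W.2
  rw [Scheme.IdealSheafData.ideal_map 𝓘 V.ι ⟨V.ι ''ᵁ W.1, W.2.image_of_isOpenImmersion V.ι⟩ H]
  rw [Ideal.comap_comap, ← CommRingCat.hom_comp, Scheme.Hom.appIso_inv_app]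
  exact ideal_eqToHom 𝓘 _ _ (Scheme.Hom.preimage_image_eq V.ι W.1) H W.2

theorem comap_ι_eq_of_ideal_eq {X : Scheme.{u}} (U : X.Opens) (J J' : X.IdealSheafData)
    (h : ∀ W : X.affineOpens, W.1 ≤ U → J'.ideal W = J.ideal W) :
    J'.comap U.ι = J.comap U.ι := by
  ext W : 2
  rw [Scheme.IdealSheafData.ideal_comap_of_isOpenImmersion,
    Scheme.IdealSheafData.ideal_comap_of_isOpenImmersion, h]
  rintro _ ⟨y, -, rfl⟩
  exact y.2

theorem ideal_eq_top_of_disjoint {X : Scheme.{u}} (J : X.IdealSheafData) (W : X.affineOpens)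
    (h : Disjoint (J.support : Set X) (W.1 : Set X)) : J.ideal W = ⊤ := by
  by_contra hne
  obtain ⟨m, hm, hle⟩ := Ideal.exists_le_maximal _ hne
  let pt : PrimeSpectrum Γ(X, W.1) := ⟨m, hm.isPrime⟩
  have h1 : W.2.fromSpec pt ∈ X.zeroLocus (U := W.1) (J.ideal W : Set Γ(X, W.1)) ∩ W.1 := by
    rw [← IsAffineOpen.fromSpec_image_zeroLocus W.2]
    exact ⟨pt, hle, rfl⟩
  rw [← Scheme.IdealSheafData.coe_support_inter] at h1
  exact Set.disjoint_iff.1 h h1

theorem disjoint_support_of_ideal_eq_top {X : Scheme.{u}} (J : X.IdealSheafData) (U : X.Opens)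
    (h : ∀ W : X.affineOpens, W.1 ≤ U → J.ideal W = ⊤) :
    Disjoint (J.support : Set X) (U : Set X) := by
  rw [Set.disjoint_iff]
  rintro x ⟨hx, hxU⟩
  obtain ⟨W, hW, hxW, hWU⟩ := exists_isAffineOpen_mem_and_subset (x := x) (U := U) hxU
  have h2 := (Scheme.IdealSheafData.mem_support_iff_of_mem (I := J) (U := ⟨W, hW⟩) hxW).1 hx
  rw [h ⟨W, hW⟩ hWU] at h2
  have h3 : x ∈ X.zeroLocus (U := W) (Set.univ : Set Γ(X, W)) := h2
  rw [Scheme.zeroLocus_univ] at h3
  exact h3 hxW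

theorem fg_of_map_fg_of_bijective {R S : Type*} [CommRing R] [CommRing S] (φ : R →+* S)
    (hφ : Function.Bijective φ) (I : Ideal R) (h : (I.map φ).FG) : I.FG := by
  let e := RingEquiv.ofBijective φ hφ
  have h1 : (I.map φ).map (e.symm : S →+* R) = I := by
    rw [Ideal.map_map]
    have : (e.symm : S →+* R).comp φ = RingHom.id R := by
      ext x
      exact e.symm_apply_apply x
    rw [this, Ideal.map_id]
  rw [← h1]
  exact h.map _

/-- extension of a `U ∩ V`-admissible centre on `V` to a `U`-admissible centre on `X`. -/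
theorem exists_extension {X : Scheme.{u}} [CompactSpace X] [QuasiSeparatedSpace X] (U V : X.Opens)
    (hU : IsCompact (U : Set X)) (hV : IsCompact (V : Set X)) (𝓘 : V.toScheme.IdealSheafData)
    (h𝓘 : BlowUp.IsAdmissibleFor (V.ι ⁻¹ᵁ U) 𝓘) :
    ∃ 𝓙 : X.IdealSheafData, BlowUp.IsAdmissibleFor U 𝓙 ∧ 𝓙.comap V.ι = 𝓘 := by
  classical
  haveI := quasiCompact_ι V hV
  set J₁ := 𝓘.map V.ι with hJ₁
  have hJ₁V : J₁.comap V.ι = 𝓘 := comap_map_ι V 𝓘
  have hsupp : Disjoint (J₁.support : Set X) (U : Set X) := by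
    rw [hJ₁, Scheme.IdealSheafData.support_map]
    change Disjoint (closure (V.ι '' (𝓘.support : Set V))) (U : Set X)
    refine Disjoint.closure_left ?_ U.2
    rw [Set.disjoint_iff]
    rintro _ ⟨⟨y, hy, rfl⟩, hyU⟩
    exact Set.disjoint_iff.1 h𝓘.2 ⟨hy, hyU⟩
  have hFV : FTOn J₁ V := by
    intro W hWV
    have haff : IsAffineOpen (V.ι ⁻¹ᵁ W.1) :=
      W.2.preimage_of_isOpenImmersion V.ι (by rw [Scheme.Opens.opensRange_ι]; exact hWV)
    have h1 := Groth.Agent.Lib.Helper20.EffCartier.ideal_comap_eq_map V.ι J₁ haff W.2 le_rfl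
    rw [hJ₁V] at h1
    have h2 : ((J₁.ideal W).map (V.ι.appLE W.1 (V.ι ⁻¹ᵁ W.1) le_rfl).hom).FG := by
      change ((J₁.ideal ⟨W.1, W.2⟩).map (V.ι.appLE W.1 (V.ι ⁻¹ᵁ W.1) le_rfl).hom).FG
      rw [← h1]
      exact h𝓘.1 ⟨_, haff⟩
    have hiso : IsIso (V.ι.app W.1) :=
      Scheme.Hom.isIso_app V.ι W.1 (by rw [Scheme.Opens.opensRange_ι]; exact hWV)
    have hbij : Function.Bijective (V.ι.appLE W.1 (V.ι ⁻¹ᵁ W.1) le_rfl).hom := by
      rw [Scheme.Hom.appLE_eq_app]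
      exact ConcreteCategory.bijective_of_isIso (V.ι.app W.1)
    exact fg_of_map_fg_of_bijective _ hbij _ h2
  have hFU : FTOn J₁ U := by
    intro W hWU
    rw [ideal_eq_top_of_disjoint J₁ W (hsupp.mono_right hWU)]
    exact ⟨{1}, by simp⟩
  have hVU : IsCompact ((V ⊔ U : X.Opens) : Set X) := by
    rw [Opens.coe_sup]; exact hV.union hU
  obtain ⟨s, hs, hsX⟩ := isCompact_iff_finite_and_eq_biUnion_affineOpens.mp
    (show IsCompact ((⊤ : X.Opens) : Set X) from isCompact_univ)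
  obtain ⟨J', hJ'le, hJ'ft, hJ'eq⟩ := extend_finset hs.toFinset J₁ (V ⊔ U) hVU (hFV.sup hFU)
  refine ⟨J', ⟨?_, ?_⟩, ?_⟩
  · intro W
    refine hJ'ft W ?_
    refine le_sup_of_le_right ?_
    intro x hx
    have hx' : x ∈ (⊤ : X.Opens) := trivial
    rw [hsX] at hx'
    simpa using hx'
  · apply disjoint_support_of_ideal_eq_top
    intro W hWU
    rw [hJ'eq W (hWU.trans le_sup_right)]
    exact ideal_eq_top_of_disjoint J₁ W (hsupp.mono_right hWU)
  · rw [← hJ₁V]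
    exact comap_ι_eq_of_ideal_eq V J₁ J' (fun W hW => hJ'eq W (hW.trans le_sup_left))

/-- the restriction of a blow-up to an open is a blow-up of the restricted ideal. -/
theorem isBlowUp_morphismRestrict {X X' : Scheme.{u}} (c : X' ⟶ X) (𝓙 : X.IdealSheafData)
    (hc : BlowUp.IsBlowUp c 𝓙) (V : X.Opens) : BlowUp.IsBlowUp (c ∣_ V) (𝓙.comap V.ι) := by
  have h1 := Groth.Agent.Lib.H9BlowProper.isBlowUp_pullback_snd c 𝓙 hc V.ι
  have h2 := Groth.Agent.Lib.H9BlowComp.isBlowUp_iso_comp _ _ h1 (pullbackRestrictIsoRestrict c V).symm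
  rw [Iso.symm_hom] at h2
  have h3 : (pullbackRestrictIsoRestrict c V).inv ≫ pullback.snd c V.ι = c ∣_ V := by
    rw [Iso.inv_comp_eq, pullbackRestrictIsoRestrict_hom_morphismRestrict]
  rw [h3] at h2
  exact h2


end Groth.Agent.Lib.H9BlowExt
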