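import Groth.Agent.Lib.H9ModPair1
import Groth.Agent.Lib.Helper20BlowUp

/-! Modulus pairs II: cancellation of effective Cartier ideals (`le_of_mul_le_mul_right`,
`eq_of_mul_eq_mul_right`), `isEffCartierIdeal_of_mul_eq`, `le_of_cover`; properties of ambient
products (`ambProd_props`) and their functoriality in the base (`exists_mprod_map`,
`ambProd_functorial`) (helper9). -/

set_option autoImplicit false
universe u
open CategoryTheory CategoryTheory.Limits AlgebraicGeometry TopologicalSpace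

namespace Groth.Agent.Lib.H9ModPair2

open ModPair nonZeroDivisors Groth.Agent.Lib.H9ModPair1

-- ===== part 1 =====
section Part1



section Alg

variable {A : Type*} [CommRing A]

theorem ideal_le_of_mul_span_le (K K' : Ideal A) (e : A) (he : e ∈ A⁰)
    (h : K * Ideal.span {e} ≤ K' * Ideal.span {e}) : K ≤ K' := by
  intro k hk
  have h1 : k * e ∈ K' * Ideal.span {e} :=
    h (Ideal.mul_mem_mul hk (Ideal.mem_span_singleton_self e))
  rw [Ideal.mem_mul_span_singleton] at h1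
  obtain ⟨z, hz, hze⟩ := h1
  have h2 : (k - z) * e = 0 := by rw [sub_mul, hze, sub_self]
  have h3 : k - z = 0 := (mem_nonZeroDivisors_iff_right.mp he) _ h2
  rw [sub_eq_zero.mp h3]
  exact hz

theorem exists_span_of_mul_span_eq (K : Ideal A) (e d : A) (he : e ∈ A⁰) (hd : d ∈ A⁰)
    (h : K * Ideal.span {e} = Ideal.span {d}) : ∃ k ∈ A⁰, K = Ideal.span {k} := by
  have h1 : d ∈ K * Ideal.span {e} := by rw [h]; exact Ideal.mem_span_singleton_self d
  rw [Ideal.mem_mul_span_singleton] at h1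
  obtain ⟨k, hk, hke⟩ := h1
  refine ⟨k, ?_, le_antisymm ?_ ?_⟩
  · rw [mem_nonZeroDivisors_iff_right]
    intro z hz
    apply (mem_nonZeroDivisors_iff_right.mp hd) z
    rw [← hke, ← mul_assoc, hz, zero_mul]
  · intro k' hk'
    have h2 : k' * e ∈ Ideal.span {d} := by
      rw [← h]; exact Ideal.mul_mem_mul hk' (Ideal.mem_span_singleton_self e)
    rw [Ideal.mem_span_singleton'] at h2
    obtain ⟨r, hr⟩ := h2
    have h3 : (k' - r * k) * e = 0 := by rw [sub_mul, mul_assoc, hke, hr, sub_self]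
    have h4 := (mem_nonZeroDivisors_iff_right.mp he) _ h3
    rw [sub_eq_zero.mp h4]
    exact Ideal.mul_mem_left _ _ (Ideal.mem_span_singleton_self k)
  · rw [Ideal.span_singleton_le_iff_mem]
    exact hk

end Alg

variable {X : Scheme.{u}}

/-- comparison of ideal sheaves can be checked on an affine cover -/
theorem le_of_cover {ι : Type*} (W : ι → X.affineOpens) (hW : ⨆ i, (W i).1 = ⊤)
    (K K' : X.IdealSheafData) (h : ∀ i, K.ideal (W i) ≤ K'.ideal (W i)) : K ≤ K' := by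
  have h1 : K ⊔ K' = K' := by
    refine Scheme.IdealSheafData.ext_of_iSup_eq_top W hW ?_
    intro i
    rw [Scheme.IdealSheafData.ideal_sup]
    exact sup_eq_right.mpr (h i)
  exact sup_eq_right.mp h1

theorem le_of_mul_le_mul_right {E K K' : X.IdealSheafData} (hE : BlowUp.IsEffCartierIdeal E)
    (h : K * E ≤ K' * E) : K ≤ K' := by
  choose U hxU e he hEe using hE
  refine le_of_cover U ?_ K K' ?_
  · rw [eq_top_iff]
    intro x _
    exact Opens.mem_iSup.mpr ⟨x, hxU x⟩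
  · intro x
    apply ideal_le_of_mul_span_le _ _ (e x) (he x)
    rw [← hEe x]
    exact h (U x)

theorem eq_of_mul_eq_mul_right {E K K' : X.IdealSheafData} (hE : BlowUp.IsEffCartierIdeal E)
    (h : K * E = K' * E) : K = K' :=
  le_antisymm (le_of_mul_le_mul_right hE h.le) (le_of_mul_le_mul_right hE h.ge)

theorem isEffCartierIdeal_of_mul_eq {E D K : X.IdealSheafData} (hE : BlowUp.IsEffCartierIdeal E)
    (hD : BlowUp.IsEffCartierIdeal D) (h : K * E = D) : BlowUp.IsEffCartierIdeal K := by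
  intro x
  obtain ⟨U, hU, hxU, -, e, d, he, hd, hEe, hDd⟩ :=
    Groth.Agent.Lib.Helper20.RelCartier.exists_common hE hD x ⊤ trivial
  have h1 : K.ideal ⟨U, hU⟩ * Ideal.span {e} = Ideal.span {d} := by
    rw [← hEe, ← hDd, ← h]
    rfl
  obtain ⟨k, hk, hKk⟩ := exists_span_of_mul_span_eq _ e d he hd h1
  exact ⟨⟨U, hU⟩, hxU, k, hk, hKk⟩

theorem mul_le_mul_left_of_le {I J J' : X.IdealSheafData} (h : J ≤ J') : I * J ≤ I * J' := by
  intro U
  exact Ideal.mul_mono_right (h U)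


end Part1

-- ===== part 2 =====
section Part2



variable {S T X Y : Scheme.{u}} (f : X ⟶ S) (g : T ⟶ S) (I : X.IdealSheafData)
  (J : T.IdealSheafData)

/-- the exceptional ideal of an ambient product is the sum of the pulled-back moduli -/
theorem comap_prodCentre (π : Y ⟶ mprod f g I J) :
    (prodCentre f g I J).comap π =
      I.comap (π ≫ mprodι f g I J ≫ pullback.fst f g) ⊔
        J.comap (π ≫ mprodι f g I J ≫ pullback.snd f g) := by
  unfold prodCentre
  rw [Scheme.IdealSheafData.comap_sup, ← Scheme.IdealSheafData.comap_comp,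
    ← Scheme.IdealSheafData.comap_comp]

theorem ambProd_props (hT : BlowUp.IsEffCartierIdeal J) (hX : BlowUp.IsEffCartierIdeal I)
    (π : Y ⟶ mprod f g I J) (K : Y.IdealSheafData) (hY : IsAmbProd f g I J π K) :
    BlowUp.IsEffCartierIdeal K ∧
      K ≤ I.comap (π ≫ mprodι f g I J ≫ pullback.fst f g) ∧
      K ≤ J.comap (π ≫ mprodι f g I J ≫ pullback.snd f g) ∧
      interior K = (π ≫ mprodι f g I J) ⁻¹ᵁ prodInterior f g I J := by
  obtain ⟨hbl, hK⟩ := hY
  have hE : BlowUp.IsEffCartierIdeal ((prodCentre f g I J).comap π) := hbl.1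
  have hI'' : BlowUp.IsEffCartierIdeal ((I.comap (mprodι f g I J ≫ pullback.fst f g)).comap π) :=
    Groth.Agent.Lib.Helper20.BlowUpBasic.isEffCartierIdeal_comap _ π hbl _
      (effCartier_comap_fst f g I J hX)
  have hJ'' : BlowUp.IsEffCartierIdeal ((J.comap (mprodι f g I J ≫ pullback.snd f g)).comap π) :=
    Groth.Agent.Lib.Helper20.BlowUpBasic.isEffCartierIdeal_comap _ π hbl _
      (effCartier_comap_snd f g I J hT)
  have hKeff : BlowUp.IsEffCartierIdeal K :=
    isEffCartierIdeal_of_mul_eq hE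
      (Groth.Agent.Lib.Helper20.BlowUpBasic.isEffCartierIdeal_mul hI'' hJ'') hK
  have e1 : I.comap (π ≫ mprodι f g I J ≫ pullback.fst f g) =
      (I.comap (mprodι f g I J ≫ pullback.fst f g)).comap π :=
    Scheme.IdealSheafData.comap_comp _ _ _
  have e2 : J.comap (π ≫ mprodι f g I J ≫ pullback.snd f g) =
      (J.comap (mprodι f g I J ≫ pullback.snd f g)).comap π :=
    Scheme.IdealSheafData.comap_comp _ _ _
  have hEsup := comap_prodCentre f g I J π
  rw [e1, e2] at hEsup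
  have hle1 : K ≤ (I.comap (mprodι f g I J ≫ pullback.fst f g)).comap π := by
    apply le_of_mul_le_mul_right hE
    rw [hK]
    apply mul_le_mul_left_of_le
    rw [hEsup]
    exact le_sup_right
  have hle2 : K ≤ (J.comap (mprodι f g I J ≫ pullback.snd f g)).comap π := by
    apply le_of_mul_le_mul_right hE
    rw [hK, mul_comm]
    apply mul_le_mul_left_of_le
    rw [hEsup]
    exact le_sup_left
  refine ⟨hKeff, e1 ▸ hle1, e2 ▸ hle2, ?_⟩
  -- interiors
  have hsupp : K.support = ((I.comap (mprodι f g I J ≫ pullback.fst f g)).comap π).support ⊔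
      ((J.comap (mprodι f g I J ≫ pullback.snd f g)).comap π).support := by
    apply le_antisymm
    · have h1 : K.support ≤ (K * (prodCentre f g I J).comap π).support := by
        rw [Scheme.IdealSheafData.support_mul]
        exact le_sup_left
      rw [hK, Scheme.IdealSheafData.support_mul] at h1
      exact h1
    · exact sup_le (Scheme.IdealSheafData.support_antitone hle1)
        (Scheme.IdealSheafData.support_antitone hle2)
  ext z
  show z ∉ K.support ↔ _
  rw [hsupp, ← e1, ← e2]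
  show ¬ (z ∈ (I.comap (π ≫ mprodι f g I J ≫ pullback.fst f g)).support ∨
      z ∈ (J.comap (π ≫ mprodι f g I J ≫ pullback.snd f g)).support) ↔ _
  rw [not_or]
  have h3 := interior_comap I (π ≫ mprodι f g I J ≫ pullback.fst f g)
  have h4 := interior_comap J (π ≫ mprodι f g I J ≫ pullback.snd f g)
  have h3' : z ∉ (I.comap (π ≫ mprodι f g I J ≫ pullback.fst f g)).support ↔
      (π ≫ mprodι f g I J ≫ pullback.fst f g) z ∈ interior I := by
    have : z ∈ interior (I.comap (π ≫ mprodι f g I J ≫ pullback.fst f g)) ↔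
        z ∈ (π ≫ mprodι f g I J ≫ pullback.fst f g) ⁻¹ᵁ interior I := by rw [h3]
    exact this
  have h4' : z ∉ (J.comap (π ≫ mprodι f g I J ≫ pullback.snd f g)).support ↔
      (π ≫ mprodι f g I J ≫ pullback.snd f g) z ∈ interior J := by
    have : z ∈ interior (J.comap (π ≫ mprodι f g I J ≫ pullback.snd f g)) ↔
        z ∈ (π ≫ mprodι f g I J ≫ pullback.snd f g) ⁻¹ᵁ interior J := by rw [h4]
    exact this
  rw [h3', h4']
  rfl


end Part2

-- ===== part 3 =====
section Part3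



variable {S₀ S₁ T X : Scheme.{u}} (f : X ⟶ S₁) (g : T ⟶ S₁) (σ : S₁ ⟶ S₀)
  (I : X.IdealSheafData) (J : T.IdealSheafData)

theorem mapDesc_fst' : pullback.mapDesc f g σ ≫ pullback.fst (f ≫ σ) (g ≫ σ) = pullback.fst f g := by
  unfold pullback.mapDesc pullback.map
  rw [pullback.lift_fst, Category.comp_id]

theorem mapDesc_snd' : pullback.mapDesc f g σ ≫ pullback.snd (f ≫ σ) (g ≫ σ) = pullback.snd f g := by
  unfold pullback.mapDesc pullback.map
  rw [pullback.lift_snd, Category.comp_id]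

/-- the comparison of the closures of the products of interiors under change of base -/
theorem exists_mprod_map :
    ∃ m : mprod f g I J ⟶ mprod (f ≫ σ) (g ≫ σ) I J,
      m ≫ mprodι (f ≫ σ) (g ≫ σ) I J = mprodι f g I J ≫ pullback.mapDesc f g σ := by
  haveI : IsSchemeTheoreticallyDominant (mprodι f g I J ⁻¹ᵁ prodInterior f g I J).ι :=
    dominant_of_preimage_le (prodInterior f g I J) _ le_rfl
  refine exists_lift_image (prodInterior (f ≫ σ) (g ≫ σ) I J)
    (mprodι f g I J ⁻¹ᵁ prodInterior f g I J) (mprodι f g I J ≫ pullback.mapDesc f g σ) ?_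
  intro z hz
  obtain ⟨h1, h2⟩ := hz
  refine ⟨?_, ?_⟩
  · show (pullback.fst (f ≫ σ) (g ≫ σ)) ((mprodι f g I J ≫ pullback.mapDesc f g σ) z) ∈ interior I
    rw [← Scheme.Hom.comp_apply, Category.assoc, mapDesc_fst']
    exact h1
  · show (pullback.snd (f ≫ σ) (g ≫ σ)) ((mprodι f g I J ≫ pullback.mapDesc f g σ) z) ∈ interior J
    rw [← Scheme.Hom.comp_apply, Category.assoc, mapDesc_snd']
    exact h2

variable {f g σ I J}

theorem comap_fst_of_mprod_map {Y : Scheme.{u}} (π₁ : Y ⟶ mprod f g I J)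
    (m : mprod f g I J ⟶ mprod (f ≫ σ) (g ≫ σ) I J)
    (hm : m ≫ mprodι (f ≫ σ) (g ≫ σ) I J = mprodι f g I J ≫ pullback.mapDesc f g σ) :
    (I.comap (mprodι (f ≫ σ) (g ≫ σ) I J ≫ pullback.fst (f ≫ σ) (g ≫ σ))).comap (π₁ ≫ m) =
      (I.comap (mprodι f g I J ≫ pullback.fst f g)).comap π₁ := by
  rw [← Scheme.IdealSheafData.comap_comp, ← Scheme.IdealSheafData.comap_comp]
  congr 1
  rw [Category.assoc, ← Category.assoc m, hm, Category.assoc, mapDesc_fst']

theorem comap_snd_of_mprod_map {Y : Scheme.{u}} (π₁ : Y ⟶ mprod f g I J)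
    (m : mprod f g I J ⟶ mprod (f ≫ σ) (g ≫ σ) I J)
    (hm : m ≫ mprodι (f ≫ σ) (g ≫ σ) I J = mprodι f g I J ≫ pullback.mapDesc f g σ) :
    (J.comap (mprodι (f ≫ σ) (g ≫ σ) I J ≫ pullback.snd (f ≫ σ) (g ≫ σ))).comap (π₁ ≫ m) =
      (J.comap (mprodι f g I J ≫ pullback.snd f g)).comap π₁ := by
  rw [← Scheme.IdealSheafData.comap_comp, ← Scheme.IdealSheafData.comap_comp]
  congr 1
  rw [Category.assoc, ← Category.assoc m, hm, Category.assoc, mapDesc_snd']

theorem comap_prodCentre_of_mprod_map {Y : Scheme.{u}} (π₁ : Y ⟶ mprod f g I J)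
    (m : mprod f g I J ⟶ mprod (f ≫ σ) (g ≫ σ) I J)
    (hm : m ≫ mprodι (f ≫ σ) (g ≫ σ) I J = mprodι f g I J ≫ pullback.mapDesc f g σ) :
    (prodCentre (f ≫ σ) (g ≫ σ) I J).comap (π₁ ≫ m) = (prodCentre f g I J).comap π₁ := by
  unfold prodCentre
  rw [Scheme.IdealSheafData.comap_sup, Scheme.IdealSheafData.comap_sup,
    comap_fst_of_mprod_map π₁ m hm, comap_snd_of_mprod_map π₁ m hm]

theorem ambProd_functorial {Y₁ Y₀ : Scheme.{u}}
    (π₁ : Y₁ ⟶ mprod f g I J) (K₁ : Y₁.IdealSheafData) (hY₁ : IsAmbProd f g I J π₁ K₁)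
    (π₀ : Y₀ ⟶ mprod (f ≫ σ) (g ≫ σ) I J) (K₀ : Y₀.IdealSheafData)
    (hY₀ : IsAmbProd (f ≫ σ) (g ≫ σ) I J π₀ K₀) :
    (∃! φ : Y₁ ⟶ Y₀, φ ≫ π₀ ≫ mprodι (f ≫ σ) (g ≫ σ) I J =
        π₁ ≫ mprodι f g I J ≫ pullback.mapDesc f g σ) ∧
      ∀ φ : Y₁ ⟶ Y₀, φ ≫ π₀ ≫ mprodι (f ≫ σ) (g ≫ σ) I J =
          π₁ ≫ mprodι f g I J ≫ pullback.mapDesc f g σ →
        IsMinimal K₁ K₀ φ := by
  obtain ⟨m, hm⟩ := exists_mprod_map f g σ I J
  have hiff : ∀ φ : Y₁ ⟶ Y₀, φ ≫ π₀ ≫ mprodι (f ≫ σ) (g ≫ σ) I J =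
      π₁ ≫ mprodι f g I J ≫ pullback.mapDesc f g σ ↔ φ ≫ π₀ = π₁ ≫ m := by
    intro φ
    rw [← cancel_mono (mprodι (f ≫ σ) (g ≫ σ) I J), Category.assoc, Category.assoc, hm]
  have hE₁ : BlowUp.IsEffCartierIdeal ((prodCentre f g I J).comap π₁) := hY₁.1.1
  have hE : BlowUp.IsEffCartierIdeal ((prodCentre (f ≫ σ) (g ≫ σ) I J).comap (π₁ ≫ m)) := by
    rw [comap_prodCentre_of_mprod_map π₁ m hm]
    exact hE₁
  obtain ⟨φ, hφ, hφu⟩ := hY₀.1.2 Y₁ (π₁ ≫ m) hE
  refine ⟨⟨φ, (hiff φ).mpr hφ, fun φ' hφ' => hφu φ' ((hiff φ').mp hφ')⟩, ?_⟩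
  intro φ' hφ'
  have h1 : φ' ≫ π₀ = π₁ ≫ m := (hiff φ').mp hφ'
  show K₁ = K₀.comap φ'
  apply eq_of_mul_eq_mul_right hE₁
  rw [hY₁.2]
  have h2 := congrArg (fun L => Scheme.IdealSheafData.comap L φ') hY₀.2
  simp only [Groth.Agent.Lib.Helper20.BlowUpBasic.comap_mul] at h2
  rw [← Scheme.IdealSheafData.comap_comp, ← Scheme.IdealSheafData.comap_comp _ φ' π₀,
    ← Scheme.IdealSheafData.comap_comp _ φ' π₀, h1, comap_prodCentre_of_mprod_map π₁ m hm,
    comap_fst_of_mprod_map π₁ m hm, comap_snd_of_mprod_map π₁ m hm] at h2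
  exact h2.symm


end Part3

end Groth.Agent.Lib.H9ModPair2
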