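import Groth.Agent.Lib.H9ModPair3
import Groth.Agent.Lib.Helper22FTIdeal

/-! Modulus pairs V: colon ideal sheaves. `colon_map_away` (colon ideals commute with localization
for f.g. denominators), `effCartier_fg`, `colonIdeal I E`, `colonIdeal_mul` (`(I : E) * E = I` for
`I ≤ E` effective Cartier), `inf_mul_span_le`, and `main` = S18733 (helper9). -/

set_option autoImplicit false
universe u
open CategoryTheory CategoryTheory.Limits AlgebraicGeometry TopologicalSpace

namespace Groth.Agent.Lib.H9ModPair5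

open ModPair nonZeroDivisors Groth.Agent.Lib.H9ModPair1 Groth.Agent.Lib.H9ModPair2
  Groth.Agent.Lib.Helper22.FTIdeal

-- ===== part 1 =====
section Part1



section Alg

variable {A B : Type*} [CommRing A] [CommRing B] [Algebra A B]

/-- colon ideals commute with localization away from an element, for a finitely generated
denominator -/
theorem colon_map_away (f : A) [IsLocalization.Away f B] (I E : Ideal A) (hE : E.FG) :
    (I.colon (E : Set A)).map (algebraMap A B) =
      (I.map (algebraMap A B)).colon ((E.map (algebraMap A B) : Ideal B) : Set B) := by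
  apply le_antisymm
  · rw [Ideal.map_le_iff_le_comap]
    intro s hs
    rw [Ideal.mem_comap, Submodule.mem_colon]
    intro t' ht'
    have ht'' : t' ∈ E.map (algebraMap A B) := ht'
    refine Submodule.span_induction (p := fun t' _ => algebraMap A B s • t' ∈ I.map (algebraMap A B))
      ?_ ?_ ?_ ?_ ht''
    · rintro _ ⟨t, ht, rfl⟩
      rw [smul_eq_mul, ← map_mul]
      apply Ideal.mem_map_of_mem
      have := (Submodule.mem_colon.mp hs) t ht
      rwa [smul_eq_mul] at this
    · rw [smul_zero]; exact Ideal.zero_mem _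
    · intro x y _ _ hx hy
      rw [smul_add]; exact Ideal.add_mem _ hx hy
    · intro b x _ hx
      rw [smul_eq_mul, smul_eq_mul, mul_left_comm]
      exact Ideal.mul_mem_left _ _ (by rwa [smul_eq_mul] at hx)
  · intro y hy
    obtain ⟨G, hG⟩ := hE
    obtain ⟨⟨s, ⟨_, n, rfl⟩⟩, hys⟩ := IsLocalization.surj (Submonoid.powers f) y
    simp only at hys
    -- for each generator, a power of f moves s*g into I
    have hgen : ∀ g ∈ G, ∃ m : ℕ, f ^ m * (s * g) ∈ I := by
      intro g hg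
      have hgE : g ∈ E := by rw [← hG]; exact Ideal.subset_span hg
      have h1 : algebraMap A B (s * g) ∈ I.map (algebraMap A B) := by
        rw [map_mul, ← hys, mul_assoc, mul_comm (algebraMap A B (f ^ n)), ← mul_assoc]
        apply Ideal.mul_mem_right
        have := (Submodule.mem_colon.mp hy) (algebraMap A B g) (Ideal.mem_map_of_mem _ hgE)
        rwa [smul_eq_mul] at this
      rw [IsLocalization.algebraMap_mem_map_algebraMap_iff (Submonoid.powers f)] at h1
      obtain ⟨_, ⟨m, rfl⟩, hm⟩ := h1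
      exact ⟨m, hm⟩
    choose! m hm using hgen
    let N := G.sup m
    have hN : ∀ g ∈ G, f ^ N * (s * g) ∈ I := by
      intro g hg
      have hle : m g ≤ N := Finset.le_sup hg
      obtain ⟨k, hk⟩ := Nat.exists_eq_add_of_le hle
      rw [hk, pow_add, mul_comm (f ^ m g), mul_assoc]
      exact Ideal.mul_mem_left _ _ (hm g hg)
    have hmem : f ^ N * s ∈ I.colon (E : Set A) := by
      rw [← hG, Submodule.colon_span, Submodule.mem_colon]
      intro g hg
      rw [smul_eq_mul, mul_assoc]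
      exact hN g hg
    have hunit : IsUnit (algebraMap A B (f ^ (N + n))) :=
      IsLocalization.map_units B (⟨f ^ (N + n), N + n, rfl⟩ : Submonoid.powers f)
    have hy2 : y * algebraMap A B (f ^ (N + n)) = algebraMap A B (f ^ N * s) := by
      rw [pow_add, map_mul, map_mul, ← hys]
      ring
    have hy3 : y = algebraMap A B (f ^ N * s) * ↑hunit.unit⁻¹ := by
      rw [← hy2, mul_assoc, IsUnit.mul_val_inv, mul_one]
    rw [hy3]
    exact Ideal.mul_mem_right _ _ (Ideal.mem_map_of_mem _ hmem)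

theorem colon_span_mul_span (I : Ideal A) (e : A) (h : I ≤ Ideal.span {e}) :
    I.colon ((Ideal.span {e} : Ideal A) : Set A) * Ideal.span {e} = I := by
  apply le_antisymm
  · rw [Ideal.mul_le]
    intro r hr s hs
    have := (Submodule.mem_colon.mp hr) s hs
    rwa [smul_eq_mul] at this
  · intro x hx
    obtain ⟨y, rfl⟩ := Ideal.mem_span_singleton'.mp (h hx)
    apply Ideal.mul_mem_mul _ (Ideal.mem_span_singleton_self e)
    rw [Submodule.colon_span, Submodule.mem_colon_singleton, smul_eq_mul]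
    exact hx

end Alg

variable {X : Scheme.{u}}

/-- an effective Cartier ideal is finitely generated on every affine open -/
theorem effCartier_fg {E : X.IdealSheafData} (hE : BlowUp.IsEffCartierIdeal E)
    (V : X.affineOpens) : (E.ideal V).FG := by
  choose U hxU e he hEe using hE
  have hft : ∀ x, FTOn E (U x).1 := fun x => ftOn_of_fg (U x) (by
    rw [hEe x]; exact ⟨{e x}, by simp⟩)
  have hfin : ∀ s : Finset X, FTOn E (⨆ x ∈ s, (U x).1) := by
    intro s
    classical
    induction s using Finset.induction_on with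
    | empty =>
      simp only [Finset.notMem_empty, iSup_false, iSup_bot]
      exact ftOn_bot E
    | insert a s _ ih =>
      rw [Finset.iSup_insert]
      exact (hft a).sup ih
  obtain ⟨s, hs⟩ := V.2.isCompact.elim_finite_subcover (fun x : X => ((U x).1 : Set X))
    (fun x => (U x).1.isOpen) (fun x _ => Set.mem_iUnion.mpr ⟨x, hxU x⟩)
  refine hfin s V ?_
  intro z hz
  obtain ⟨x, hx⟩ := Set.mem_iUnion.mp (hs hz)
  obtain ⟨hxs, hzx⟩ := Set.mem_iUnion.mp hx
  exact Opens.mem_iSup.mpr ⟨x, Opens.mem_iSup.mpr ⟨hxs, hzx⟩⟩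

/-- the colon ideal sheaf `(I : E)` for `E` of finite type -/
noncomputable def colonIdeal (I E : X.IdealSheafData) (hE : ∀ V : X.affineOpens, (E.ideal V).FG) :
    X.IdealSheafData where
  ideal V := (I.ideal V).colon ((E.ideal V : Ideal Γ(X, V.1)) : Set Γ(X, V.1))
  map_ideal_basicOpen U f := by
    have inst := U.2.isLocalization_basicOpen f
    have h1 : (X.presheaf.map (homOfLE (X.basicOpen_le f)).op).hom = algebraMap _ _ := rfl
    rw [h1, colon_map_away f (I.ideal U) (E.ideal U) (hE U), ← h1,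
      I.map_ideal_basicOpen U f, E.map_ideal_basicOpen U f]
    rfl

theorem colonIdeal_ideal (I E : X.IdealSheafData) (hE : ∀ V : X.affineOpens, (E.ideal V).FG)
    (V : X.affineOpens) : (colonIdeal I E hE).ideal V =
      (I.ideal V).colon ((E.ideal V : Ideal Γ(X, V.1)) : Set Γ(X, V.1)) := rfl

theorem colonIdeal_mul {I E : X.IdealSheafData} (hE : BlowUp.IsEffCartierIdeal E) (h : I ≤ E) :
    colonIdeal I E (effCartier_fg hE) * E = I := by
  have hE' := hE
  choose U hxU e he hEe using hE'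
  refine Scheme.IdealSheafData.ext_of_iSup_eq_top U ?_ ?_
  · rw [eq_top_iff]
    intro x _
    exact Opens.mem_iSup.mpr ⟨x, hxU x⟩
  · intro x
    show (colonIdeal I E (effCartier_fg hE)).ideal (U x) * E.ideal (U x) = I.ideal (U x)
    rw [colonIdeal_ideal, hEe x]
    apply colon_span_mul_span
    rw [← hEe x]
    exact h (U x)


end Part1

-- ===== part 2 =====
section Part2



theorem inf_mul_span_le {A : Type*} [CommRing A] (K₁ K₂ : Ideal A) (e : A) (he : e ∈ A⁰)
    (h : K₁ ⊔ K₂ = ⊤) :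
    (K₁ * Ideal.span {e}) ⊓ (K₂ * Ideal.span {e}) ≤ K₁ * K₂ * Ideal.span {e} := by
  rintro z ⟨hz1, hz2⟩
  rw [SetLike.mem_coe, Ideal.mem_mul_span_singleton] at hz1 hz2
  obtain ⟨k₁, hk₁, rfl⟩ := hz1
  obtain ⟨k₂, hk₂, hk⟩ := hz2
  have h3 : (k₂ - k₁) * e = 0 := by rw [sub_mul, hk, sub_self]
  have h4 := (mem_nonZeroDivisors_iff_right.mp he) _ h3
  have h5 : k₂ = k₁ := sub_eq_zero.mp h4
  have h6 : k₁ ∈ K₁ ⊓ K₂ := ⟨hk₁, h5 ▸ hk₂⟩
  rw [← Ideal.mul_eq_inf_of_isCoprime (Ideal.isCoprime_iff_sup_eq.mpr h)] at h6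
  exact Ideal.mul_mem_mul h6 (Ideal.mem_span_singleton_self e)

variable {X : Scheme.{u}}

theorem sup_mul' (K₁ K₂ E : X.IdealSheafData) : (K₁ ⊔ K₂) * E = K₁ * E ⊔ K₂ * E := by
  ext U : 2
  exact Ideal.sup_mul _ _ _

theorem top_mul' (E : X.IdealSheafData) : (⊤ : X.IdealSheafData) * E = E := by
  ext U : 2
  exact Ideal.top_mul _

theorem main {I₁ I₂ : X.IdealSheafData}
    (h₁ : BlowUp.IsEffCartierIdeal I₁) (h₂ : BlowUp.IsEffCartierIdeal I₂)
    (hE : BlowUp.IsEffCartierIdeal (I₁ ⊔ I₂)) :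
    ∃ I₁' I₂' : X.IdealSheafData, BlowUp.IsEffCartierIdeal I₁' ∧ BlowUp.IsEffCartierIdeal I₂' ∧
      I₁ = I₁' * (I₁ ⊔ I₂) ∧ I₂ = I₂' * (I₁ ⊔ I₂) ∧ I₁' ⊔ I₂' = ⊤ ∧
      ∀ D : X.IdealSheafData, BlowUp.IsEffCartierIdeal D → D ≤ I₁ → D ≤ I₂ →
        D ≤ I₁' * I₂' * (I₁ ⊔ I₂) := by
  have e1 := colonIdeal_mul hE (le_sup_left : I₁ ≤ I₁ ⊔ I₂)
  have e2 := colonIdeal_mul hE (le_sup_right : I₂ ≤ I₁ ⊔ I₂)
  set K₁ := colonIdeal I₁ (I₁ ⊔ I₂) (effCartier_fg hE) with hK₁
  set K₂ := colonIdeal I₂ (I₁ ⊔ I₂) (effCartier_fg hE) with hK₂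
  have hsup : K₁ ⊔ K₂ = ⊤ := by
    apply eq_of_mul_eq_mul_right hE
    rw [sup_mul', e1, e2, top_mul']
  refine ⟨K₁, K₂, isEffCartierIdeal_of_mul_eq hE h₁ e1, isEffCartierIdeal_of_mul_eq hE h₂ e2,
    e1.symm, e2.symm, hsup, ?_⟩
  intro D _ hD1 hD2
  have hD : D ≤ (K₁ * (I₁ ⊔ I₂)) ⊓ (K₂ * (I₁ ⊔ I₂)) := by
    rw [e1, e2]; exact le_inf hD1 hD2
  refine hD.trans ?_
  have hE' := hE
  choose U hxU e he hEe using hE'
  refine le_of_cover U ?_ _ _ ?_
  · rw [eq_top_iff]
    intro x _
    exact Opens.mem_iSup.mpr ⟨x, hxU x⟩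
  · intro x
    show (K₁.ideal (U x) * (I₁ ⊔ I₂).ideal (U x)) ⊓ (K₂.ideal (U x) * (I₁ ⊔ I₂).ideal (U x)) ≤
      K₁.ideal (U x) * K₂.ideal (U x) * (I₁ ⊔ I₂).ideal (U x)
    rw [hEe x]
    apply inf_mul_span_le _ _ _ (he x)
    have := congrArg (fun L : X.IdealSheafData => L.ideal (U x)) hsup
    exact this


end Part2

end Groth.Agent.Lib.H9ModPair5
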