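/-
Stalks of the fibre product with a closed immersion (helper1, round 2): pullback_cond_apply, thetaC (the comparison map O_{X,i d} -> O_{X',x'} at a point z=(x',d) of X' x_X D), thetaC_fst_apply, map_ker_le_ker_fst, ker_fst_le_map_ker, ker_fst_stalkMap (the kernel of O_{X',x'} -> O_{X' x_X D, z} is generated by the image of the kernel of O_{X,i d} -> O_{D,d}); proof by the universal property of the fibre product applied to Spec of the quotient local ring.
-/
import Mathlib

set_option autoImplicit false
set_option linter.style.haveILetI false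
set_option linter.unusedSectionVars false
universe u v

namespace Groth.Agent.Lib.R2H1.PullbackKer

section Part1

open AlgebraicGeometry CategoryTheory Limits TopologicalSpace IsLocalRing

variable {X X' D : Scheme.{u}}

theorem pullback_cond_apply (f : X' ⟶ X) (i : D ⟶ X) (z : ↥(pullback f i)) :
    f (pullback.fst f i z) = i (pullback.snd f i z) := by
  have := congrArg (fun φ : pullback f i ⟶ X => φ z) (pullback.condition (f := f) (g := i))
  simpa using this

/-- the comparison map `O_{X, i d} → O_{X', x'}` at a point `z = (x', d)` of the fibre product. -/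
noncomputable def thetaC (f : X' ⟶ X) (i : D ⟶ X) (z : ↥(pullback f i)) :
    X.presheaf.stalk (i (pullback.snd f i z)) ⟶ X'.presheaf.stalk (pullback.fst f i z) :=
  X.presheaf.stalkSpecializes (specializes_of_eq (pullback_cond_apply f i z)) ≫
    f.stalkMap (pullback.fst f i z)

/-- two equal morphisms have the same stalk maps, on germs. -/
theorem stalkMap_germ_of_eq {A B : Scheme.{u}} (g₁ g₂ : A ⟶ B) (e : g₁ = g₂) (a : A)
    (U : B.Opens) (h₁ : g₁ a ∈ U) (h₂ : g₂ a ∈ U) (r : Γ(B, U)) :
    (g₁.stalkMap a).hom (B.presheaf.germ U (g₁ a) h₁ r) =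
      (g₂.stalkMap a).hom (B.presheaf.germ U (g₂ a) h₂ r) := by
  subst e
  rfl

/-- the square of stalk maps at a point of the fibre product commutes. -/
theorem thetaC_fst_apply (f : X' ⟶ X) (i : D ⟶ X) (z : ↥(pullback f i))
    (b : X.presheaf.stalk (i (pullback.snd f i z))) :
    ((pullback.fst f i).stalkMap z).hom ((thetaC f i z).hom b) =
      ((pullback.snd f i).stalkMap z).hom ((i.stalkMap (pullback.snd f i z)).hom b) := by
  obtain ⟨U, hU, r, rfl⟩ := X.presheaf.exists_germ_eq b
  have hU' : f (pullback.fst f i z) ∈ U := by rw [pullback_cond_apply]; exact hU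
  have e1 : (thetaC f i z).hom (X.presheaf.germ U _ hU r) =
      (f.stalkMap (pullback.fst f i z)).hom (X.presheaf.germ U _ hU' r) := by
    unfold thetaC
    rw [CommRingCat.comp_apply]
    congr 1
    exact ConcreteCategory.congr_hom (TopCat.Presheaf.germ_stalkSpecializes X.presheaf hU
      (specializes_of_eq (pullback_cond_apply f i z))) r
  rw [e1]
  have h1 : ((pullback.fst f i).stalkMap z).hom
      ((f.stalkMap (pullback.fst f i z)).hom (X.presheaf.germ U _ hU' r)) =
      ((pullback.fst f i ≫ f).stalkMap z).hom (X.presheaf.germ U _ hU' r) := by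
    rw [Scheme.Hom.stalkMap_comp]
    rfl
  have h2 : ((pullback.snd f i).stalkMap z).hom
      ((i.stalkMap (pullback.snd f i z)).hom (X.presheaf.germ U _ hU r)) =
      ((pullback.snd f i ≫ i).stalkMap z).hom (X.presheaf.germ U _ hU r) := by
    rw [Scheme.Hom.stalkMap_comp]
    rfl
  rw [h1, h2]
  exact stalkMap_germ_of_eq _ _ (pullback.condition (f := f) (g := i)) z U hU' hU r

end Part1

section Part2

open AlgebraicGeometry CategoryTheory Limits TopologicalSpace IsLocalRing

variable {X X' D : Scheme.{u}}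

theorem aux_ker {P A : Scheme.{u}} (φ : P ⟶ A) {R : CommRingCat.{u}} (z₁ z : P) (hz : z₁ = z)
    (g : P.presheaf.stalk z₁ ⟶ R) (q : A.presheaf.stalk (φ z) ⟶ R) (h₁ : φ z₁ = φ z)
    (E : φ.stalkMap z₁ ≫ g = (A.presheaf.stalkCongr (.of_eq h₁)).hom ≫ q)
    (b : A.presheaf.stalk (φ z)) (hb : (φ.stalkMap z).hom b = 0) : q.hom b = 0 := by
  subst hz
  have h2 : (A.presheaf.stalkCongr (.of_eq h₁)).hom = 𝟙 _ := by
    rw [TopCat.Presheaf.stalkCongr_hom]
    exact TopCat.Presheaf.stalkSpecializes_refl _ _
  rw [h2, Category.id_comp] at E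
  rw [← E, CommRingCat.comp_apply, hb, map_zero]

/-- the easy inclusion: the ideal of `D` pulled back to `X'` vanishes on the fibre product. -/
theorem map_ker_le_ker_fst (f : X' ⟶ X) (i : D ⟶ X) (z : ↥(pullback f i)) :
    Ideal.map (thetaC f i z).hom (RingHom.ker (i.stalkMap (pullback.snd f i z)).hom) ≤
      RingHom.ker ((pullback.fst f i).stalkMap z).hom := by
  rw [Ideal.map_le_iff_le_comap]
  intro b hb
  rw [Ideal.mem_comap, RingHom.mem_ker, thetaC_fst_apply, (RingHom.mem_ker).mp hb, map_zero]

/-- the hard inclusion, by the universal property of the fibre product. -/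
theorem ker_fst_le_map_ker (f : X' ⟶ X) (i : D ⟶ X) [IsClosedImmersion i]
    (z : ↥(pullback f i)) :
    RingHom.ker ((pullback.fst f i).stalkMap z).hom ≤
      Ideal.map (thetaC f i z).hom (RingHom.ker (i.stalkMap (pullback.snd f i z)).hom) := by
  set x' := pullback.fst f i z with hx'
  set d := pullback.snd f i z with hd
  set Jd := RingHom.ker (i.stalkMap d).hom with hJd
  set J := Ideal.map (thetaC f i z).hom Jd with hJ
  have hJle : J ≤ RingHom.ker ((pullback.fst f i).stalkMap z).hom := map_ker_le_ker_fst f i z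
  have hJtop : J ≠ ⊤ := by
    intro htop
    rw [htop, top_le_iff] at hJle
    exact (RingHom.ker_ne_top _) hJle
  haveI : Nontrivial (X'.presheaf.stalk x' ⧸ J) := Ideal.Quotient.nontrivial_iff.mpr hJtop
  haveI : IsLocalRing (X'.presheaf.stalk x' ⧸ J) :=
    IsLocalRing.of_surjective' (Ideal.Quotient.mk J) Ideal.Quotient.mk_surjective
  let R : CommRingCat.{u} := CommRingCat.of (X'.presheaf.stalk x' ⧸ J)
  haveI : IsLocalRing R := inferInstanceAs (IsLocalRing (X'.presheaf.stalk x' ⧸ J))
  let q : X'.presheaf.stalk x' ⟶ R := CommRingCat.ofHom (Ideal.Quotient.mk J)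
  haveI hqloc : IsLocalHom q.hom :=
    IsLocalHom.of_surjective (Ideal.Quotient.mk J) Ideal.Quotient.mk_surjective
  -- the map from the local ring of `D`
  have hsurj : Function.Surjective (i.stalkMap d).hom := i.stalkMap_surjective d
  have hkill : ∀ b ∈ Jd, ((Ideal.Quotient.mk J).comp (thetaC f i z).hom) b = 0 := by
    intro b hb
    rw [RingHom.comp_apply, Ideal.Quotient.eq_zero_iff_mem]
    exact Ideal.mem_map_of_mem _ hb
  let ψr : D.presheaf.stalk d →+* (X'.presheaf.stalk x' ⧸ J) :=
    (Ideal.Quotient.lift Jd ((Ideal.Quotient.mk J).comp (thetaC f i z).hom) hkill).comp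
      (RingHom.quotientKerEquivOfSurjective hsurj).symm.toRingHom
  have hψr : ∀ b, ψr ((i.stalkMap d).hom b) = Ideal.Quotient.mk J ((thetaC f i z).hom b) := by
    intro b
    have h1 : (RingHom.quotientKerEquivOfSurjective hsurj).symm ((i.stalkMap d).hom b) =
        Ideal.Quotient.mk Jd b := by
      rw [RingEquiv.symm_apply_eq]
      exact (RingHom.quotientKerEquivOfSurjective_apply_mk hsurj b).symm
    change (Ideal.Quotient.lift Jd _ hkill)
      ((RingHom.quotientKerEquivOfSurjective hsurj).symm ((i.stalkMap d).hom b)) = _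
    rw [h1, Ideal.Quotient.lift_mk]
    rfl
  let ψ : D.presheaf.stalk d ⟶ R := CommRingCat.ofHom ψr
  -- the two morphisms from `Spec R`
  let tX' : Spec R ⟶ X' := Spec.map q ≫ X'.fromSpecStalk x'
  let tD : Spec R ⟶ D := Spec.map ψ ≫ D.fromSpecStalk d
  have hring : thetaC f i z ≫ q = i.stalkMap d ≫ ψ := by
    ext b
    exact (hψr b).symm
  have hcomm : tX' ≫ f = tD ≫ i := by
    change (Spec.map q ≫ X'.fromSpecStalk x') ≫ f = (Spec.map ψ ≫ D.fromSpecStalk d) ≫ i
    rw [Category.assoc, Category.assoc, ← Scheme.SpecMap_stalkMap_fromSpecStalk f,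
      ← Scheme.SpecMap_stalkMap_fromSpecStalk i,
      ← Scheme.SpecMap_stalkSpecializes_fromSpecStalk
        (specializes_of_eq (pullback_cond_apply f i z)),
      ← Spec.map_comp_assoc, ← Spec.map_comp_assoc, ← Spec.map_comp_assoc]
    congr 1
    rw [← hring]
    unfold thetaC
    rw [Category.assoc]
  let ℓ : Spec R ⟶ pullback f i := pullback.lift tX' tD hcomm
  have hℓ : ℓ ≫ pullback.fst f i = tX' := pullback.lift_fst _ _ _
  have hsig : (SpecToEquivOfLocalRing X' R) (ℓ ≫ pullback.fst f i) = ⟨x', q, hqloc⟩ := by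
    rw [hℓ]
    exact (SpecToEquivOfLocalRing X' R).right_inv ⟨x', q, hqloc⟩
  obtain ⟨h₁, E⟩ := SpecToEquivOfLocalRing_eq_iff.mp hsig
  have h₁' : pullback.fst f i (ℓ (closedPoint R)) = pullback.fst f i z := h₁
  have hz : ℓ (closedPoint R) = z := (pullback.fst f i).isClosedEmbedding.injective h₁'
  have E' : (pullback.fst f i).stalkMap (ℓ (closedPoint R)) ≫ Scheme.stalkClosedPointTo ℓ =
      (X'.presheaf.stalkCongr (.of_eq h₁')).hom ≫ q := by
    rw [← Scheme.stalkClosedPointTo_comp ℓ (pullback.fst f i)]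
    exact E
  intro b hb
  have h0 := aux_ker (pullback.fst f i) (ℓ (closedPoint R)) z hz (Scheme.stalkClosedPointTo ℓ) q
    h₁' E' b ((RingHom.mem_ker).mp hb)
  exact Ideal.Quotient.eq_zero_iff_mem.mp h0

/-- the ideal of the fibre product `X' ×_X D` in `O_{X', x'}` is generated by the image of the
ideal of the closed subscheme `D` of `X`. -/
theorem ker_fst_stalkMap (f : X' ⟶ X) (i : D ⟶ X) [IsClosedImmersion i] (z : ↥(pullback f i)) :
    RingHom.ker ((pullback.fst f i).stalkMap z).hom =
      Ideal.map (thetaC f i z).hom (RingHom.ker (i.stalkMap (pullback.snd f i z)).hom) :=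
  le_antisymm (ker_fst_le_map_ker f i z) (map_ker_le_ker_fst f i z)

end Part2

end Groth.Agent.Lib.R2H1.PullbackKer
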