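/-
Geometry of the projective line over a scheme (helper1, round 2; for S1900-S1904). Contains: thetaC_germ, ker_fst_span, ker_of_iso, ker_of_isPullback (kernel of the stalk map of a base change of a closed immersion with locally principal ideal); uu (the coordinate T_j/T_i in the degree zero localization), evalAway_of_val, evalAway_uu, chart_X, evalAway_surjective, ker_evalAway, awayMap_uu_mul; Pj, DD, pt (P1.point as a morphism to Proj), pt_mem, aι_mem_iff, pt_notMem, mem_range_pt, isClosedImmersion_pt; ττ, pt_appLE_awayToSection, ker_pt_app, ker_pt_stalkMap; germ_ττ_mul; qq (the projection to Proj), sect_toBase, isClosedImmersion_sect, isPullback_sect, VV, tt, sect_mem, sect_notMem, mem_range_sect, mem_VV_or, ker_sect (the ideal of the section is generated by the coordinate), germ_tt_mul; specMap_germ', Phi, mem_both, exists_data (the rational function T1/T0 with its local equations for the two sections).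
-/
import Mathlib
import Groth.Prelude
import Groth.Agent.Lib.R2H1PullbackKer
import Groth.Agent.Lib.Helper27PnChart
import Groth.Agent.S9705
import Groth.Agent.Lib.Helper27PMapSec
import Groth.Agent.Lib.Helper5StalkSpec

set_option autoImplicit false
set_option linter.style.haveILetI false
set_option linter.unusedSectionVars false
universe u v

namespace Groth.Agent.Lib.R2H1.P1Geom

section Part1

open AlgebraicGeometry CategoryTheory CategoryTheory.Limits TopologicalSpace Topology IsLocalRing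
  Groth.Agent.Lib.R2H1.PullbackKer

variable {X X' D W : Scheme.{u}}

/-- `thetaC` on germs. -/
theorem thetaC_germ (f : X' ⟶ X) (i : D ⟶ X) (z : ↥(pullback f i)) (U : X.Opens)
    (hU : i (pullback.snd f i z) ∈ U) (hU' : f (pullback.fst f i z) ∈ U) (r : Γ(X, U)) :
    (thetaC f i z).hom (X.presheaf.germ U _ hU r) =
      (f.stalkMap (pullback.fst f i z)).hom (X.presheaf.germ U _ hU' r) := by
  unfold thetaC
  rw [CommRingCat.comp_apply]
  congr 1
  exact ConcreteCategory.congr_hom (TopCat.Presheaf.germ_stalkSpecializes X.presheaf hU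
    (specializes_of_eq (pullback_cond_apply f i z))) r

/-- kernel of the first projection of a fibre product with a closed immersion whose ideal is
principal at the point. -/
theorem ker_fst_span (f : X' ⟶ X) (i : D ⟶ X) [IsClosedImmersion i] (z : ↥(pullback f i))
    (U : X.Opens) (hU : i (pullback.snd f i z) ∈ U) (hU' : f (pullback.fst f i z) ∈ U)
    (r : Γ(X, U))
    (hker : RingHom.ker (i.stalkMap (pullback.snd f i z)).hom =
      Ideal.span {(X.presheaf.germ U _ hU r)}) :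
    RingHom.ker ((pullback.fst f i).stalkMap z).hom =
      Ideal.span {(f.stalkMap (pullback.fst f i z)).hom (X.presheaf.germ U _ hU' r)} := by
  rw [ker_fst_stalkMap f i z, hker, Ideal.map_span, Set.image_singleton,
    thetaC_germ f i z U hU hU' r]

theorem ker_congr_point (i : D ⟶ X) {d d' : D} (e : d = d') (U : X.Opens) (hU : i d ∈ U)
    (hU' : i d' ∈ U) (r : Γ(X, U))
    (hker : RingHom.ker (i.stalkMap d).hom = Ideal.span {(X.presheaf.germ U _ hU r)}) :
    RingHom.ker (i.stalkMap d').hom = Ideal.span {(X.presheaf.germ U _ hU' r)} := by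
  subst e
  exact hker

/-- the same for a scheme isomorphic to the fibre product. -/
theorem ker_of_iso (f : X' ⟶ X) (i : D ⟶ X) [IsClosedImmersion i] (e : W ≅ pullback f i)
    (w : W) (U : X.Opens) (hU : i ((e.hom ≫ pullback.snd f i) w) ∈ U)
    (hU' : f ((e.hom ≫ pullback.fst f i) w) ∈ U) (r : Γ(X, U))
    (hker : RingHom.ker (i.stalkMap ((e.hom ≫ pullback.snd f i) w)).hom =
      Ideal.span {(X.presheaf.germ U _ hU r)}) :
    RingHom.ker ((e.hom ≫ pullback.fst f i).stalkMap w).hom =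
      Ideal.span {(f.stalkMap ((e.hom ≫ pullback.fst f i) w)).hom
        (X.presheaf.germ U _ hU' r)} := by
  have h1 := ker_fst_span f i (e.hom w) U hU hU' r hker
  rw [Scheme.Hom.stalkMap_comp]
  have hiso : IsIso (e.hom.stalkMap w) := inferInstance
  have hinj : Function.Injective (e.hom.stalkMap w).hom :=
    (ConcreteCategory.bijective_of_isIso (e.hom.stalkMap w)).1
  have : RingHom.ker ((pullback.fst f i).stalkMap (e.hom w) ≫ e.hom.stalkMap w).hom =
      RingHom.ker ((pullback.fst f i).stalkMap (e.hom w)).hom := by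
    ext a
    rw [RingHom.mem_ker, RingHom.mem_ker, CommRingCat.comp_apply]
    exact map_eq_zero_iff _ hinj
  exact this.trans h1

/-- the kernel of the stalk map of the base change of a closed immersion with locally principal
ideal, for a cartesian square. -/
theorem ker_of_isPullback {a : W ⟶ X'} {b : W ⟶ D} {f : X' ⟶ X} {i : D ⟶ X}
    [IsClosedImmersion i] (h : IsPullback a b f i) (w : W) (U : X.Opens) (hU : i (b w) ∈ U)
    (hU' : f (a w) ∈ U) (r : Γ(X, U))
    (hker : RingHom.ker (i.stalkMap (b w)).hom = Ideal.span {(X.presheaf.germ U _ hU r)}) :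
    RingHom.ker (a.stalkMap w).hom =
      Ideal.span {(f.stalkMap (a w)).hom (X.presheaf.germ U _ hU' r)} := by
  have key : ∀ (e : W ≅ pullback f i) (a' : W ⟶ X') (b' : W ⟶ D)
      (ha : e.hom ≫ pullback.fst f i = a') (hb : e.hom ≫ pullback.snd f i = b')
      (hU : i (b' w) ∈ U) (hU' : f (a' w) ∈ U)
      (hker : RingHom.ker (i.stalkMap (b' w)).hom = Ideal.span {(X.presheaf.germ U _ hU r)}),
      RingHom.ker (a'.stalkMap w).hom =
        Ideal.span {(f.stalkMap (a' w)).hom (X.presheaf.germ U _ hU' r)} := by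
    intro e a' b' ha hb hU hU' hker
    subst ha hb
    exact ker_of_iso f i e w U hU hU' r hker
  exact key h.isoPullback a b (h.isoPullback_hom_fst) (h.isoPullback_hom_snd) hU hU' hker

end Part1

section Part2

open AlgebraicGeometry CategoryTheory HomogeneousLocalization MvPolynomial
  Groth.Agent.Lib.Helper27PnChart

/-- the coordinate `T_j / T_i` on the chart `T_i ≠ 0`. -/
noncomputable def uu (i j : Fin (1 + 1)) : Away P1.grading.{u} (P1.T i) :=
  Away.isLocalizationElem (P1.X_mem i) (P1.X_mem j)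

theorem val_uu (i j : Fin (1 + 1)) :
    (uu.{u} i j).val = Localization.mk (P1.T j ^ 1)
      (⟨P1.T i ^ 1, ⟨1, rfl⟩⟩ : Submonoid.powers (P1.T.{u} i)) := by
  unfold uu Away.isLocalizationElem
  rw [Away.val_mk]

theorem evalAway_of_val (i : Fin (1 + 1)) (a : Away P1.grading.{u} (P1.T i))
    (b : MvPolynomial (Fin (1 + 1)) P1.R0.{u}) (m : ℕ)
    (ha : a.val = Localization.mk b (⟨P1.T i ^ m, ⟨m, rfl⟩⟩ : Submonoid.powers (P1.T.{u} i))) :
    P1.evalAway i a = MvPolynomial.aeval (Pi.single i (1 : P1.R0.{u})) b := by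
  have h1 : Localization.mk b
      (⟨P1.T i ^ m, ⟨m, rfl⟩⟩ : Submonoid.powers (P1.T.{u} i)) *
      algebraMap (MvPolynomial (Fin (1 + 1)) P1.R0.{u}) (Localization.Away (P1.T.{u} i))
        (P1.T i ^ m) =
      algebraMap (MvPolynomial (Fin (1 + 1)) P1.R0.{u}) (Localization.Away (P1.T.{u} i)) b := by
    rw [Localization.mk_eq_mk']
    exact IsLocalization.mk'_spec _ _ _
  unfold P1.evalAway
  rw [RingHom.comp_apply, HomogeneousLocalization.algebraMap_apply, ha]
  have h2 := congrArg (IsLocalization.Away.lift (S := Localization.Away (P1.T.{u} i)) (P1.T.{u} i)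
      (g := (MvPolynomial.aeval (Pi.single i (1 : P1.R0.{u}) : Fin (1 + 1) → P1.R0)).toRingHom)
      (by simp)) h1
  rw [map_mul, IsLocalization.Away.lift_eq, IsLocalization.Away.lift_eq] at h2
  simp only [AlgHom.toRingHom_eq_coe, RingHom.coe_coe, map_pow, aeval_X, Pi.single_eq_same,
    one_pow, mul_one] at h2
  exact h2

theorem evalAway_uu (i j : Fin (1 + 1)) (hij : j ≠ i) : P1.evalAway.{u} i (uu i j) = 0 := by
  rw [evalAway_of_val i _ _ 1 (val_uu i j)]
  simp [Pi.single_eq_of_ne hij]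

theorem chart_X (i j : Fin (1 + 1)) (hij : j ≠ i) :
    chart 1 P1.R0.{u} i (X ⟨j, hij⟩) = uu i j := by
  apply HomogeneousLocalization.val_injective
  rw [val_uu]
  unfold chart
  rw [MvPolynomial.eval₂Hom_X', val_mk]
  congr 1
  · exact (pow_one _).symm
  · ext
    simp

theorem evalAway_chart_C (i : Fin (1 + 1)) (r : P1.R0.{u}) :
    P1.evalAway i (chart 1 P1.R0.{u} i (C r)) = r := by
  have h0 : (chart 1 P1.R0.{u} i (C r)).val =
      Localization.mk (C r) (⟨P1.T i ^ 0, ⟨0, rfl⟩⟩ : Submonoid.powers (P1.T.{u} i)) := by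
    unfold chart
    rw [MvPolynomial.eval₂Hom_C, RingHom.comp_apply]
    simp only [fromZeroRingHom, pow_zero]
    rfl
  rw [evalAway_of_val i _ _ 0 h0]
  simp

theorem evalAway_surjective (i : Fin (1 + 1)) : Function.Surjective (P1.evalAway.{u} i) :=
  fun r => ⟨_, evalAway_chart_C i r⟩

theorem exists_eq_C_add (i j : Fin (1 + 1)) (hij : j ≠ i)
    (p : MvPolynomial {j : Fin (1 + 1) // j ≠ i} P1.R0.{u}) :
    ∃ q, p = C (P1.evalAway i (chart 1 P1.R0.{u} i p)) + X ⟨j, hij⟩ * q := by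
  have huniq : ∀ j' : {j : Fin (1 + 1) // j ≠ i}, j' = ⟨j, hij⟩ := by
    rintro ⟨j', hj'⟩
    apply Subtype.ext
    show j' = j
    have h1 := j'.2
    have h2 := j.2
    have h3 := i.2
    have h4 : j'.val ≠ i.val := fun h => hj' (Fin.ext h)
    have h5 : j.val ≠ i.val := fun h => hij (Fin.ext h)
    apply Fin.ext
    omega
  induction p using MvPolynomial.induction_on with
  | C a => exact ⟨0, by rw [evalAway_chart_C]; simp⟩
  | add p p' hp hp' =>
    obtain ⟨q, hq⟩ := hp
    obtain ⟨q', hq'⟩ := hp'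
    refine ⟨q + q', ?_⟩
    rw [map_add, map_add, map_add, mul_add]
    nth_rewrite 1 [hq, hq']
    ring
  | mul_X p j' hp =>
    refine ⟨p, ?_⟩
    rw [huniq j', map_mul, map_mul, chart_X i j hij, evalAway_uu i j hij, mul_zero, map_zero,
      zero_add, mul_comm]

theorem ker_evalAway (i j : Fin (1 + 1)) (hij : j ≠ i) :
    RingHom.ker (P1.evalAway.{u} i) = Ideal.span {uu i j} := by
  apply le_antisymm
  · intro a ha
    rw [RingHom.mem_ker] at ha
    obtain ⟨p, rfl⟩ := chart_surjective 1 P1.R0.{u} i a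
    obtain ⟨q, hq⟩ := exists_eq_C_add i j hij p
    rw [ha, map_zero, zero_add] at hq
    rw [hq, map_mul, chart_X i j hij]
    exact Ideal.mul_mem_right _ _ (Ideal.subset_span rfl)
  · rw [Ideal.span_le]
    intro a ha
    rw [Set.mem_singleton_iff] at ha
    rw [ha]
    exact (RingHom.mem_ker).mpr (evalAway_uu i j hij)

/-- `(T₁/T₀) · (T₀/T₁) = 1` in the ring of the intersection of the two charts. -/
theorem awayMap_uu_mul :
    awayMap P1.grading.{u} (P1.X_mem 1) (rfl : P1.T 0 * P1.T 1 = P1.T 0 * P1.T 1) (uu 0 1) *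
      awayMap P1.grading.{u} (P1.X_mem 0) (mul_comm _ _ : P1.T 0 * P1.T 1 = P1.T 1 * P1.T 0)
        (uu 1 0) = 1 := by
  apply HomogeneousLocalization.val_injective
  unfold uu Away.isLocalizationElem
  rw [val_mul, val_one, awayMap_mk, awayMap_mk, Away.val_mk, Away.val_mk, Localization.mk_mul]
  rw [← Localization.mk_one]
  rw [Localization.mk_eq_mk_iff, Localization.r_iff_exists]
  refine ⟨1, ?_⟩
  simp only [OneMemClass.coe_one, one_mul, Submonoid.coe_mul, mul_one]
  ring

end Part2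

section Part3

open AlgebraicGeometry CategoryTheory CategoryTheory.Limits HomogeneousLocalization MvPolynomial

/-- the projective line over `ℤ`, as a `Proj`. -/
noncomputable abbrev Pj : Scheme.{u} := Proj P1.grading.{u}

/-- the standard open `T_i ≠ 0`. -/
noncomputable abbrev DD (i : Fin (1 + 1)) : (Pj.{u}).Opens := Proj.basicOpen P1.grading.{u} (P1.T i)

/-- the chart `Spec (ℤ[T₀,T₁]_{T_i})₀ → P¹`. -/
noncomputable abbrev aι (i : Fin (1 + 1)) :
    Spec (CommRingCat.of (Away P1.grading.{u} (P1.T i))) ⟶ Pj.{u} :=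
  Proj.awayι P1.grading (P1.T i) (P1.X_mem i) one_pos

/-- the point `0` or `∞` as a morphism to `Proj`. -/
noncomputable def pt (i : Fin (1 + 1)) : Spec (CommRingCat.of P1.R0.{u}) ⟶ Pj.{u} :=
  Spec.map (CommRingCat.ofHom (P1.evalAway i)) ≫ aι i

theorem point_eq (i : Fin (1 + 1)) : (P1.point.{u} i : Spec (CommRingCat.of P1.R0.{u}) ⟶ Pj.{u}) = pt i :=
  rfl

theorem pt_apply (i : Fin (1 + 1)) (y : Spec (CommRingCat.of P1.R0.{u})) :
    pt i y = aι i (Spec.map (CommRingCat.ofHom (P1.evalAway i)) y) := rfl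

theorem pt_mem (i : Fin (1 + 1)) (y : Spec (CommRingCat.of P1.R0.{u})) : pt i y ∈ DD i := by
  have h : aι i (Spec.map (CommRingCat.ofHom (P1.evalAway i)) y) ∈ (aι.{u} i).opensRange :=
    ⟨_, rfl⟩
  rw [Proj.opensRange_awayι] at h
  exact h

theorem aι_mem_iff (i j : Fin (1 + 1)) (w : Spec (CommRingCat.of (Away P1.grading.{u} (P1.T i)))) :
    aι i w ∈ DD j ↔ uu i j ∉ w.asIdeal := by
  have h := Proj.awayι_preimage_basicOpen P1.grading.{u} (P1.X_mem i) one_pos (P1.X_mem j) one_pos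
  have h2 : aι i w ∈ DD j ↔ w ∈ (aι.{u} i) ⁻¹ᵁ (DD j) := Iff.rfl
  rw [h2, h]
  rfl

theorem pt_notMem (i j : Fin (1 + 1)) (hij : j ≠ i) (y : Spec (CommRingCat.of P1.R0.{u})) :
    pt i y ∉ DD j := by
  rw [pt_apply, aι_mem_iff]
  intro h
  apply h
  show P1.evalAway i (uu i j) ∈ y.asIdeal
  rw [evalAway_uu i j hij]
  exact zero_mem _

theorem mem_range_pt (i j : Fin (1 + 1)) (hij : j ≠ i) (y' : Pj.{u}) (h1 : y' ∈ DD i)
    (h2 : y' ∉ DD j) : y' ∈ Set.range (pt.{u} i) := by
  have h1' : y' ∈ (aι.{u} i).opensRange := by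
    rw [Proj.opensRange_awayι]; exact h1
  obtain ⟨w, rfl⟩ := h1'
  rw [aι_mem_iff, not_not] at h2
  have hle : RingHom.ker (P1.evalAway.{u} i) ≤ w.asIdeal := by
    rw [ker_evalAway i j hij, Ideal.span_le]
    intro a ha
    rw [Set.mem_singleton_iff] at ha
    rw [ha]; exact h2
  have hw : w ∈ Set.range (PrimeSpectrum.comap (P1.evalAway.{u} i)) := by
    rw [range_comap_of_surjective _ _ (evalAway_surjective i)]
    exact hle
  obtain ⟨y, hy⟩ := hw
  refine ⟨y, ?_⟩
  rw [pt_apply]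
  congr 1

theorem pt_toSpec (i : Fin (1 + 1)) :
    (pt.{u} i : Spec (CommRingCat.of P1.R0.{u}) ⟶ CohB1.ProjSpace 1 P1.R0.{u}) ≫
      CohB1.ProjSpace.toSpec 1 P1.R0.{u} = 𝟙 _ :=
  specULiftZIsTerminal.hom_ext _ _

instance isClosedImmersion_pt (i : Fin (1 + 1)) : IsClosedImmersion (pt.{u} i) := by
  haveI : IsProper (CohB1.ProjSpace.toSpec 1 P1.R0.{u}) :=
    Groth.Agent.S9705.isProper_projSpace_toSpec 1 P1.R0.{u}
  haveI : IsClosedImmersion ((pt.{u} i : Spec (CommRingCat.of P1.R0.{u}) ⟶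
      CohB1.ProjSpace 1 P1.R0.{u}) ≫ CohB1.ProjSpace.toSpec 1 P1.R0.{u}) := by
    rw [pt_toSpec]; infer_instance
  exact IsClosedImmersion.of_comp (pt.{u} i : Spec (CommRingCat.of P1.R0.{u}) ⟶
      CohB1.ProjSpace 1 P1.R0.{u}) (CohB1.ProjSpace.toSpec 1 P1.R0.{u})

end Part3

section Part4

open AlgebraicGeometry CategoryTheory CategoryTheory.Limits HomogeneousLocalization MvPolynomial

/-- the coordinate function `T_j / T_i` as a section over `D_i`. -/
noncomputable def ττ (i j : Fin (1 + 1)) : Γ(Pj.{u}, DD i) :=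
  (Proj.awayToSection P1.grading.{u} (P1.T i)).hom (uu i j)

theorem top_le_pt_preimage (i : Fin (1 + 1)) :
    (⊤ : (Spec (CommRingCat.of P1.R0.{u})).Opens) ≤ (pt.{u} i) ⁻¹ᵁ DD i :=
  fun y _ => pt_mem i y

theorem pt_appLE_awayToSection (i : Fin (1 + 1)) (a : Away P1.grading.{u} (P1.T i)) :
    (pt.{u} i).appLE (DD i) ⊤ (top_le_pt_preimage i)
        ((Proj.awayToSection P1.grading.{u} (P1.T i)).hom a) =
      (Scheme.ΓSpecIso (CommRingCat.of P1.R0.{u})).inv (P1.evalAway i a) := by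
  have h1 := Scheme.Hom.appLE_comp_appLE (Spec.map (CommRingCat.ofHom (P1.evalAway.{u} i)))
    (aι.{u} i) (DD i) ⊤ ⊤
    (Groth.Agent.Lib.Helper27PMapSec.top_le_awayι_preimage P1.grading.{u} (P1.X_mem i) one_pos)
    le_top
  have h2 := congr($h1 ((Proj.awayToSection P1.grading.{u} (P1.T i)).hom a))
  rw [CommRingCat.comp_apply,
    Groth.Agent.Lib.Helper27PMapSec.awayι_appLE_awayToSection P1.grading.{u} (P1.X_mem i)
      one_pos a] at h2
  have h4 := Scheme.ΓSpecIso_inv_naturality (CommRingCat.ofHom (P1.evalAway.{u} i))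
  have h5 := congr($h4 a)
  rw [CommRingCat.comp_apply, CommRingCat.comp_apply] at h5
  refine h2.symm.trans ?_
  refine Eq.trans ?_ h5.symm
  rfl

theorem awayToSection_bijective (i : Fin (1 + 1)) :
    Function.Bijective (Proj.awayToSection P1.grading.{u} (P1.T i)).hom :=
  ConcreteCategory.bijective_of_isIso
    (Proj.basicOpenIsoAway P1.grading.{u} (P1.T i) (P1.X_mem i) one_pos).hom

theorem res_injective (i : Fin (1 + 1)) :
    Function.Injective ((Spec (CommRingCat.of P1.R0.{u})).presheaf.map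
      (homOfLE (top_le_pt_preimage.{u} i)).op).hom := by
  intro a b hab
  have h1 := congrArg ((Spec (CommRingCat.of P1.R0.{u})).presheaf.map
      (homOfLE (le_top : (pt.{u} i) ⁻¹ᵁ DD i ≤ ⊤)).op).hom hab
  rw [← CommRingCat.comp_apply, ← CommRingCat.comp_apply, ← Functor.map_comp] at h1
  have h2 : (homOfLE (top_le_pt_preimage.{u} i)).op ≫
      (homOfLE (le_top : (pt.{u} i) ⁻¹ᵁ DD i ≤ ⊤)).op = 𝟙 _ := Subsingleton.elim _ _
  rw [h2, CategoryTheory.Functor.map_id] at h1
  exact h1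

theorem ker_pt_app (i j : Fin (1 + 1)) (hij : j ≠ i) :
    RingHom.ker ((pt.{u} i).app (DD i)).hom = Ideal.span {ττ i j} := by
  have key : ∀ a : Away P1.grading.{u} (P1.T i),
      ((pt.{u} i).app (DD i)).hom ((Proj.awayToSection P1.grading.{u} (P1.T i)).hom a) = 0 ↔
        P1.evalAway i a = 0 := by
    intro a
    have h1 := pt_appLE_awayToSection i a
    unfold Scheme.Hom.appLE at h1
    rw [CommRingCat.comp_apply] at h1
    constructor
    · intro h0
      rw [h0, map_zero] at h1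
      have hinj : Function.Injective (Scheme.ΓSpecIso (CommRingCat.of P1.R0.{u})).inv.hom :=
        (ConcreteCategory.bijective_of_isIso (Scheme.ΓSpecIso (CommRingCat.of P1.R0.{u})).inv).1
      exact ((map_eq_zero_iff _ hinj).mp h1.symm)
    · intro h0
      rw [h0, map_zero] at h1
      exact (map_eq_zero_iff _ (res_injective i)).mp h1
  apply le_antisymm
  · intro s hs
    rw [RingHom.mem_ker] at hs
    obtain ⟨a, rfl⟩ := (awayToSection_bijective i).2 s
    have ha : a ∈ RingHom.ker (P1.evalAway.{u} i) := (RingHom.mem_ker).mpr ((key a).mp hs)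
    rw [ker_evalAway i j hij, Ideal.mem_span_singleton'] at ha
    obtain ⟨c, rfl⟩ := ha
    rw [map_mul]
    exact Ideal.mul_mem_left _ _ (Ideal.subset_span rfl)
  · rw [Ideal.span_le]
    intro s hs
    rw [Set.mem_singleton_iff] at hs
    rw [hs]
    exact (RingHom.mem_ker).mpr ((key _).mpr (evalAway_uu i j hij))

theorem ker_pt_stalkMap (i j : Fin (1 + 1)) (hij : j ≠ i) (y : Spec (CommRingCat.of P1.R0.{u})) :
    RingHom.ker ((pt.{u} i).stalkMap y).hom =
      Ideal.span {(Pj.{u}.presheaf.germ (DD i) (pt i y) (pt_mem i y)).hom (ττ i j)} := by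
  have hU : IsAffineOpen (DD.{u} i) :=
    Proj.isAffineOpen_basicOpen P1.grading.{u} (P1.T i) (P1.X_mem i) one_pos
  have hU' : IsAffineOpen ((pt.{u} i) ⁻¹ᵁ DD i) := hU.preimage (pt i)
  have hz := pt_mem.{u} i y
  have hsq : ∀ a, ((Spec (CommRingCat.of P1.R0.{u})).presheaf.germ ((pt.{u} i) ⁻¹ᵁ DD i) y hz).hom
      (((pt.{u} i).app (DD i)).hom a) =
      ((pt.{u} i).stalkMap y).hom ((Pj.{u}.presheaf.germ (DD i) (pt i y) hz).hom a) := fun a =>
    ((pt.{u} i).germ_stalkMap_apply (DD i) y hz a).symm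
  have h := Groth.Agent.Lib.Helper5.StalkSpec.ker_eq_map_of_isLocalization
    (Pj.{u}.presheaf.germ (DD i) (pt i y) hz).hom
    ((Spec (CommRingCat.of P1.R0.{u})).presheaf.germ ((pt.{u} i) ⁻¹ᵁ DD i) y hz).hom
    ((pt.{u} i).app (DD i)).hom
    ((pt.{u} i).stalkMap y).hom hsq ((pt.{u} i).app_surjective (DD i) hU) _
    (hU.isLocalization_stalk ⟨pt i y, hz⟩) _
    (hU'.isLocalization_stalk ⟨y, hz⟩)
  rw [h, ker_pt_app i j hij, Ideal.map_span, Set.image_singleton]

end Part4

section Part5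

open AlgebraicGeometry CategoryTheory CategoryTheory.Limits HomogeneousLocalization MvPolynomial

/-- `(T₁/T₀)(T₀/T₁) = 1` on germs at a point of `D₀ ∩ D₁`. -/
theorem germ_ττ_mul (y : Pj.{u}) (h0 : y ∈ DD.{u} 0) (h1 : y ∈ DD.{u} 1) :
    (Pj.{u}.presheaf.germ (DD 0) y h0).hom (ττ 0 1) *
      (Pj.{u}.presheaf.germ (DD 1) y h1).hom (ττ 1 0) = 1 := by
  have hy : y ∈ Proj.basicOpen P1.grading.{u} (P1.T 0 * P1.T 1) := by
    rw [Proj.basicOpen_mul]; exact ⟨h0, h1⟩
  have e01 := Proj.awayMap_awayToSection P1.grading.{u} (f := P1.T 0) (P1.X_mem 1)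
    (rfl : P1.T 0 * P1.T 1 = P1.T 0 * P1.T 1)
  have e10 := Proj.awayMap_awayToSection P1.grading.{u} (f := P1.T 1) (P1.X_mem 0)
    (mul_comm _ _ : P1.T 0 * P1.T 1 = P1.T 1 * P1.T 0)
  have f01 := congr($e01 (uu 0 1))
  have f10 := congr($e10 (uu 1 0))
  rw [CommRingCat.comp_apply, CommRingCat.comp_apply] at f01 f10
  have g01 : (Pj.{u}.presheaf.germ (DD 0) y h0).hom (ττ 0 1) =
      (Pj.{u}.presheaf.germ (Proj.basicOpen P1.grading.{u} (P1.T 0 * P1.T 1)) y hy).hom
        ((Proj.awayToSection P1.grading.{u} (P1.T 0 * P1.T 1)).hom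
          (awayMap P1.grading.{u} (P1.X_mem 1) (rfl : P1.T 0 * P1.T 1 = P1.T 0 * P1.T 1)
            (uu 0 1))) := by
    erw [f01]
    exact (TopCat.Presheaf.germ_res_apply Pj.{u}.presheaf _ y hy _).symm
  have g10 : (Pj.{u}.presheaf.germ (DD 1) y h1).hom (ττ 1 0) =
      (Pj.{u}.presheaf.germ (Proj.basicOpen P1.grading.{u} (P1.T 0 * P1.T 1)) y hy).hom
        ((Proj.awayToSection P1.grading.{u} (P1.T 0 * P1.T 1)).hom
          (awayMap P1.grading.{u} (P1.X_mem 0)
            (mul_comm _ _ : P1.T 0 * P1.T 1 = P1.T 1 * P1.T 0) (uu 1 0))) := by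
    erw [f10]
    exact (TopCat.Presheaf.germ_res_apply Pj.{u}.presheaf _ y hy _).symm
  rw [g01, g10, ← map_mul, ← map_mul, awayMap_uu_mul, map_one, map_one]

end Part5

section Part6

open AlgebraicGeometry CategoryTheory CategoryTheory.Limits HomogeneousLocalization MvPolynomial

variable (X : Scheme.{u})

/-- the projection `P¹_X → P¹_ℤ`, as a morphism to `Proj`. -/
noncomputable def qq : CohB1.ProjSpaceOver 1 X ⟶ Pj.{u} :=
  pullback.fst (CohB1.ProjSpace.toSpec 1 P1.R0.{u}) (specULiftZIsTerminal.from X)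

theorem sect_toBase (i : Fin (1 + 1)) :
    P1.sect X i ≫ CohB1.ProjSpaceOver.toBase 1 X = 𝟙 X := by
  unfold P1.sect CohB1.ProjSpaceOver.toBase
  exact pullback.lift_snd _ _ _

theorem isClosedImmersion_sect (i : Fin (1 + 1)) : IsClosedImmersion (P1.sect X i) := by
  haveI : IsProper (CohB1.ProjSpaceOver.toBase 1 X) := Groth.Agent.S9705.isProper_toBase 1 X
  haveI : IsClosedImmersion (P1.sect X i ≫ CohB1.ProjSpaceOver.toBase 1 X) := by
    rw [sect_toBase]; infer_instance
  exact IsClosedImmersion.of_comp (P1.sect X i) (CohB1.ProjSpaceOver.toBase 1 X)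

theorem sect_qq (i : Fin (1 + 1)) : P1.sect X i ≫ qq X = specULiftZIsTerminal.from X ≫ pt i := by
  unfold P1.sect qq
  exact pullback.lift_fst _ _ _

theorem isPullback_sect (i : Fin (1 + 1)) :
    IsPullback (P1.sect X i) (specULiftZIsTerminal.from X) (qq X) (pt.{u} i) := by
  have t : IsPullback (CohB1.ProjSpaceOver.toBase 1 X) (qq X) (specULiftZIsTerminal.from X)
      (CohB1.ProjSpace.toSpec 1 P1.R0.{u}) :=
    (IsPullback.of_hasPullback (CohB1.ProjSpace.toSpec 1 P1.R0.{u})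
      (specULiftZIsTerminal.from X)).flip
  have s : IsPullback (P1.sect X i ≫ CohB1.ProjSpaceOver.toBase 1 X)
      (specULiftZIsTerminal.from X) (specULiftZIsTerminal.from X)
      ((pt.{u} i : Spec (CommRingCat.of P1.R0.{u}) ⟶ CohB1.ProjSpace 1 P1.R0.{u}) ≫
        CohB1.ProjSpace.toSpec 1 P1.R0.{u}) := by
    rw [sect_toBase, pt_toSpec]
    exact IsPullback.id_horiz _
  exact IsPullback.of_right s (sect_qq X i) t

/-- the open `T_i ≠ 0` of `P¹_X`. -/
noncomputable def VV (i : Fin (1 + 1)) : (CohB1.ProjSpaceOver 1 X).Opens := (qq X) ⁻¹ᵁ DD i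

/-- the coordinate `T_j / T_i` on `VV i`. -/
noncomputable def tt (i j : Fin (1 + 1)) : Γ(CohB1.ProjSpaceOver 1 X, VV X i) :=
  ((qq X).app (DD i)).hom (ττ i j)

theorem qq_sect_apply (i : Fin (1 + 1)) (x : X) :
    qq X (P1.sect X i x) = pt i (specULiftZIsTerminal.from X x) := by
  have := congrArg (fun φ : X ⟶ Pj.{u} => φ x) (sect_qq X i)
  simpa using this

theorem sect_mem (i : Fin (1 + 1)) (x : X) : P1.sect X i x ∈ VV X i := by
  show qq X (P1.sect X i x) ∈ DD i
  rw [qq_sect_apply]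
  exact pt_mem i _

theorem sect_notMem (i j : Fin (1 + 1)) (hij : j ≠ i) (x : X) : P1.sect X i x ∉ VV X j := by
  show qq X (P1.sect X i x) ∉ DD j
  rw [qq_sect_apply]
  exact pt_notMem i j hij _

theorem mem_range_sect (i j : Fin (1 + 1)) (hij : j ≠ i) (p : CohB1.ProjSpaceOver 1 X)
    (h1 : p ∈ VV X i) (h2 : p ∉ VV X j) : p ∈ Set.range (P1.sect X i) := by
  obtain ⟨y, hy⟩ := mem_range_pt i j hij (qq X p) h1 h2
  obtain ⟨x, hx, -⟩ := Scheme.exists_preimage_of_isPullback (isPullback_sect X i) p y hy.symm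
  exact ⟨x, hx⟩

theorem mem_VV_or (p : CohB1.ProjSpaceOver 1 X) : p ∈ VV X 0 ∨ p ∈ VV X 1 := by
  have h := Groth.Agent.Lib.Helper27PnChart.iSup_basicOpen_X 1 P1.R0.{u}
  have hp : qq X p ∈ (⨆ i : Fin (1 + 1), Proj.basicOpen (CohB1.polyGrading 1 P1.R0.{u})
      (MvPolynomial.X i)) := by rw [h]; trivial
  rw [TopologicalSpace.Opens.mem_iSup] at hp
  obtain ⟨i, hi⟩ := hp
  fin_cases i
  · exact Or.inl hi
  · exact Or.inr hi

theorem ker_sect (i j : Fin (1 + 1)) (hij : j ≠ i) (x : X) :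
    RingHom.ker ((P1.sect X i).stalkMap x).hom =
      Ideal.span {((CohB1.ProjSpaceOver 1 X).presheaf.germ (VV X i) (P1.sect X i x)
        (sect_mem X i x)).hom (tt X i j)} := by
  have hU : pt i (specULiftZIsTerminal.from X x) ∈ DD.{u} i := pt_mem i _
  have hU' : qq X (P1.sect X i x) ∈ DD.{u} i := sect_mem X i x
  have h := ker_of_isPullback (isPullback_sect X i) x (DD i) hU hU' (ττ i j)
    (ker_pt_stalkMap i j hij _)
  rw [h]
  congr 2
  exact (qq X).germ_stalkMap_apply (DD i) (P1.sect X i x) hU' (ττ i j)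

theorem germ_tt_mul (p : CohB1.ProjSpaceOver 1 X) (h0 : p ∈ VV X 0) (h1 : p ∈ VV X 1) :
    ((CohB1.ProjSpaceOver 1 X).presheaf.germ (VV X 0) p h0).hom (tt X 0 1) *
      ((CohB1.ProjSpaceOver 1 X).presheaf.germ (VV X 1) p h1).hom (tt X 1 0) = 1 := by
  have e0 := (qq X).germ_stalkMap_apply (DD 0) p h0 (ττ 0 1)
  have e1 := (qq X).germ_stalkMap_apply (DD 1) p h1 (ττ 1 0)
  unfold tt
  erw [← e0, ← e1]
  rw [← map_mul, germ_ττ_mul (qq X p) h0 h1, map_one]

end Part6

section Part7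

open AlgebraicGeometry CategoryTheory CategoryTheory.Limits HomogeneousLocalization MvPolynomial

theorem specMap_germ' {M : Scheme.{u}} (U : M.Opens) (x η : M) (h : η ⤳ x) (hx : x ∈ U)
    (a : Γ(M, U)) :
    Cyc.specMap x η h ((M.presheaf.germ U x hx).hom a) =
      (M.residue η).hom ((M.presheaf.germ U η (h.mem_open U.2 hx)).hom a) := by
  have h1 : M.presheaf.germ U x hx ≫ M.presheaf.stalkSpecializes h =
      M.presheaf.germ U η (h.mem_open U.2 hx) := TopCat.Presheaf.germ_stalkSpecializes _ _ _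
  unfold Cyc.specMap
  rw [← h1]
  rfl

variable (X : Scheme.{u})

open Classical in
/-- the rational function `T₁/T₀` at the points of `P¹_X`. -/
noncomputable def Phi (p : CohB1.ProjSpaceOver 1 X) : (CohB1.ProjSpaceOver 1 X).residueField p :=
  if h : p ∈ VV X 0 then
    ((CohB1.ProjSpaceOver 1 X).residue p).hom
      (((CohB1.ProjSpaceOver 1 X).presheaf.germ (VV X 0) p h).hom (tt X 0 1))
  else 0

theorem Phi_of_mem (p : CohB1.ProjSpaceOver 1 X) (h : p ∈ VV X 0) :
    Phi X p = ((CohB1.ProjSpaceOver 1 X).residue p).hom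
      (((CohB1.ProjSpaceOver 1 X).presheaf.germ (VV X 0) p h).hom (tt X 0 1)) := by
  unfold Phi
  rw [dif_pos h]

theorem mem_both (p : CohB1.ProjSpaceOver 1 X) (h0 : p ∉ Set.range (P1.sect X 0))
    (h1 : p ∉ Set.range (P1.sect X 1)) : p ∈ VV X 0 ∧ p ∈ VV X 1 := by
  have hor := mem_VV_or X p
  constructor
  · by_contra hc
    have h1' : p ∈ VV X 1 := hor.resolve_left hc
    exact h1 (mem_range_sect X 1 0 (by decide) p h1' hc)
  · by_contra hc
    have h0' : p ∈ VV X 0 := hor.resolve_right hc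
    exact h0 (mem_range_sect X 0 1 (by decide) p h0' hc)

theorem Phi_mul (p : CohB1.ProjSpaceOver 1 X) (h0 : p ∈ VV X 0) (h1 : p ∈ VV X 1) :
    Phi X p * ((CohB1.ProjSpaceOver 1 X).residue p).hom
      (((CohB1.ProjSpaceOver 1 X).presheaf.germ (VV X 1) p h1).hom (tt X 1 0)) = 1 := by
  rw [Phi_of_mem X p h0, ← map_mul, germ_tt_mul X p h0 h1, map_one]

/-- the data on `P¹_X` used for the rational equivalence of the fibres over `0` and `∞`. -/
theorem exists_data :
    ∃ Φ : (p : CohB1.ProjSpaceOver 1 X) → (CohB1.ProjSpaceOver 1 X).residueField p,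
      (∀ x : X, ∃ b : (CohB1.ProjSpaceOver 1 X).presheaf.stalk (P1.sect X 0 x),
        RingHom.ker ((P1.sect X 0).stalkMap x).hom = Ideal.span {b} ∧
        ∀ (ξ : CohB1.ProjSpaceOver 1 X) (h : ξ ⤳ P1.sect X 0 x),
          ξ ∉ Set.range (P1.sect X 0) → ξ ∉ Set.range (P1.sect X 1) →
          Cyc.specMap (P1.sect X 0 x) ξ h b = Φ ξ) ∧
      (∀ x : X, ∃ b : (CohB1.ProjSpaceOver 1 X).presheaf.stalk (P1.sect X 1 x),
        RingHom.ker ((P1.sect X 1).stalkMap x).hom = Ideal.span {b} ∧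
        ∀ (ξ : CohB1.ProjSpaceOver 1 X) (h : ξ ⤳ P1.sect X 1 x),
          ξ ∉ Set.range (P1.sect X 0) → ξ ∉ Set.range (P1.sect X 1) →
          Cyc.specMap (P1.sect X 1 x) ξ h b = (Φ ξ)⁻¹) ∧
      (∀ p : CohB1.ProjSpaceOver 1 X, p ∉ Set.range (P1.sect X 0) →
        p ∉ Set.range (P1.sect X 1) →
        ∃ b : (CohB1.ProjSpaceOver 1 X).presheaf.stalk p, IsUnit b ∧
          ∀ (ξ : CohB1.ProjSpaceOver 1 X) (h : ξ ⤳ p), Cyc.specMap p ξ h b = Φ ξ) ∧
      (∀ x x' : X, P1.sect X 0 x ≠ P1.sect X 1 x') := by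
  refine ⟨Phi X, ?_, ?_, ?_, ?_⟩
  · intro x
    refine ⟨_, ker_sect X 0 1 (by decide) x, ?_⟩
    intro ξ h _ _
    rw [specMap_germ', Phi_of_mem]
  · intro x
    refine ⟨_, ker_sect X 1 0 (by decide) x, ?_⟩
    intro ξ h h0 h1
    rw [specMap_germ']
    have hb := mem_both X ξ h0 h1
    have hm := Phi_mul X ξ hb.1 (h.mem_open (VV X 1).2 (sect_mem X 1 x))
    exact eq_inv_of_mul_eq_one_right hm
  · intro p h0 h1
    have hb := mem_both X p h0 h1
    refine ⟨((CohB1.ProjSpaceOver 1 X).presheaf.germ (VV X 0) p hb.1).hom (tt X 0 1),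
      IsUnit.of_mul_eq_one _ (germ_tt_mul X p hb.1 hb.2), ?_⟩
    intro ξ h
    rw [specMap_germ', Phi_of_mem]
  · intro x x' h
    have h1 : P1.sect X 0 x ∈ VV X 1 := by rw [h]; exact sect_mem X 1 x'
    exact sect_notMem X 0 1 (by decide) x h1

end Part7

end Groth.Agent.Lib.R2H1.P1Geom
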