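/-
Gluing finite extensions of the localizations of a 2-dimensional Noetherian local ring at the height-one primes containing a nonzerodivisor t into one finite LOCAL extension C = A + (mM : M) inside A_t (S6481, and input to the key lemma S1851).
-/
import Mathlib
import Groth.Prelude.Def_CycAlg

set_option autoImplicit false
set_option linter.style.haveILetI false
set_option linter.unusedSectionVars false
universe u

namespace Groth.Agent.Lib.R2H1.Glue

section Part1

open IsLocalRing

section Setup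

variable {A : Type u} [CommRing A] (t : A) {ι : Type}
  (B : ι → Type u) [∀ i, CommRing (B i)] [∀ i, Algebra A (B i)]

/-- `A_t` -/
abbrev T : Type u := Localization.Away t

/-- `(B_i)_t` -/
abbrev L (i : ι) : Type u := Localization.Away (algebraMap A (B i) t)

theorem isUnit_algebraMap_L (i : ι) : IsUnit (algebraMap A (L t B i) t) := by
  rw [IsScalarTower.algebraMap_apply A (B i) (L t B i)]
  exact IsLocalization.Away.algebraMap_isUnit _

/-- the comparison map `A_t → (B_i)_t` -/
noncomputable def ψ (i : ι) : T t →+* L t B i :=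
  IsLocalization.Away.lift t (g := algebraMap A (L t B i)) (isUnit_algebraMap_L t B i)

theorem ψ_algebraMap (i : ι) (x : A) : ψ t B i (algebraMap A (T t) x) = algebraMap A (L t B i) x :=
  IsLocalization.Away.lift_eq _ _ _

theorem ψ_algebraMap' (i : ι) (x : A) :
    ψ t B i (algebraMap A (T t) x) = algebraMap (B i) (L t B i) (algebraMap A (B i) x) := by
  rw [ψ_algebraMap, IsScalarTower.algebraMap_apply A (B i) (L t B i)]

/-- elements with denominator `t^n` -/
def N₀ (n : ℕ) : Submodule A (T t) where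
  carrier := {z | ∃ x : A, algebraMap A (T t) t ^ n * z = algebraMap A (T t) x}
  add_mem' := by
    rintro z z' ⟨x, hx⟩ ⟨x', hx'⟩
    exact ⟨x + x', by rw [mul_add, hx, hx', map_add]⟩
  zero_mem' := ⟨0, by simp⟩
  smul_mem' := by
    rintro c z ⟨x, hx⟩
    refine ⟨c * x, ?_⟩
    rw [Algebra.smul_def, map_mul, ← hx]
    ring

/-- elements mapping into `B_i` -/
def W (i : ι) : Submodule A (T t) where
  carrier := {z | ∃ b : B i, ψ t B i z = algebraMap (B i) (L t B i) b}
  add_mem' := by
    rintro z z' ⟨b, hb⟩ ⟨b', hb'⟩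
    exact ⟨b + b', by rw [map_add, hb, hb', map_add]⟩
  zero_mem' := ⟨0, by simp⟩
  smul_mem' := by
    rintro c z ⟨b, hb⟩
    refine ⟨algebraMap A (B i) c * b, ?_⟩
    rw [Algebra.smul_def, map_mul, ψ_algebraMap', hb, map_mul]

/-- the module `M` -/
def M (n : ℕ) : Submodule A (T t) := N₀ t n ⊓ ⨅ i, W t B i

theorem mem_M {n : ℕ} {z : T t} : z ∈ M t B n ↔
    (∃ x : A, algebraMap A (T t) t ^ n * z = algebraMap A (T t) x) ∧
      ∀ i, ∃ b : B i, ψ t B i z = algebraMap (B i) (L t B i) b := by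
  unfold M
  rw [Submodule.mem_inf, Submodule.mem_iInf]
  rfl

theorem algebraMap_mem_M (n : ℕ) (x : A) : algebraMap A (T t) x ∈ M t B n := by
  rw [mem_M]
  refine ⟨⟨t ^ n * x, by rw [map_mul, map_pow]⟩, fun i => ⟨algebraMap A (B i) x, ψ_algebraMap' t B i x⟩⟩

theorem one_mem_M (n : ℕ) : (1 : T t) ∈ M t B n := by
  have := algebraMap_mem_M t B n 1
  rwa [map_one] at this

variable [IsLocalRing A]

/-- the ideal-like submodule `I = (𝔪 M : M)` -/
def I (n : ℕ) : Submodule A (T t) where
  carrier := {z | ∀ m ∈ M t B n, z * m ∈ maximalIdeal A • M t B n}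
  add_mem' := by
    intro z z' hz hz' m hm
    rw [add_mul]
    exact Submodule.add_mem _ (hz m hm) (hz' m hm)
  zero_mem' := by
    intro m _
    rw [zero_mul]
    exact Submodule.zero_mem _
  smul_mem' := by
    intro c z hz m hm
    rw [smul_mul_assoc]
    exact Submodule.smul_mem _ c (hz m hm)

theorem I_le_smul (n : ℕ) : I t B n ≤ maximalIdeal A • M t B n := by
  intro z hz
  have := hz 1 (one_mem_M t B n)
  rwa [mul_one] at this

theorem I_le_M (n : ℕ) : I t B n ≤ M t B n :=
  (I_le_smul t B n).trans Submodule.smul_le_right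

theorem mul_mem_I {n : ℕ} {z z' : T t} (hz : z ∈ I t B n) (hz' : z' ∈ I t B n) :
    z * z' ∈ I t B n := by
  intro m hm
  rw [mul_assoc]
  have h1 : z' * m ∈ maximalIdeal A • M t B n := hz' m hm
  -- `z * (𝔪 M) ⊆ 𝔪 (z M) ⊆ 𝔪 M`
  refine Submodule.smul_induction_on h1 ?_ ?_
  · intro c hc m' hm'
    rw [mul_smul_comm]
    exact Submodule.smul_mem_smul hc (Submodule.smul_le_right (hz m' hm'))
  · intro x y hx hy
    rw [mul_add]
    exact Submodule.add_mem _ hx hy

/-- the glued ring `C = A + I` -/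
def C (n : ℕ) : Subalgebra A (T t) where
  carrier := {z | ∃ x : A, ∃ y ∈ I t B n, z = algebraMap A (T t) x + y}
  mul_mem' := by
    rintro z z' ⟨x, y, hy, rfl⟩ ⟨x', y', hy', rfl⟩
    refine ⟨x * x', x • y' + x' • y + y * y', ?_, ?_⟩
    · exact Submodule.add_mem _ (Submodule.add_mem _ (Submodule.smul_mem _ _ hy')
        (Submodule.smul_mem _ _ hy)) (mul_mem_I t B hy hy')
    · rw [map_mul, Algebra.smul_def, Algebra.smul_def]
      ring
  add_mem' := by
    rintro z z' ⟨x, y, hy, rfl⟩ ⟨x', y', hy', rfl⟩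
    exact ⟨x + x', y + y', Submodule.add_mem _ hy hy', by rw [map_add]; ring⟩
  algebraMap_mem' := fun x => ⟨x, 0, Submodule.zero_mem _, by rw [add_zero]⟩

theorem mem_C {n : ℕ} {z : T t} : z ∈ C t B n ↔
    ∃ x : A, ∃ y ∈ I t B n, z = algebraMap A (T t) x + y := Iff.rfl

theorem C_le_M (n : ℕ) : Subalgebra.toSubmodule (C t B n) ≤ M t B n := by
  rintro z ⟨x, y, hy, rfl⟩
  exact Submodule.add_mem _ (algebraMap_mem_M t B n x) (I_le_M t B n hy)

end Setup

end Part1

section Part2

open IsLocalRing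

section Noeth

variable {A : Type u} [CommRing A] (t : A) {ι : Type}
  (B : ι → Type u) [∀ i, CommRing (B i)] [∀ i, Algebra A (B i)]

theorem isUnit_t_pow (n : ℕ) : IsUnit (algebraMap A (T t) t ^ n) :=
  IsLocalization.Away.algebraMap_pow_isUnit t n

theorem isNoetherian_N₀ [IsNoetherianRing A] (n : ℕ) : IsNoetherian A (N₀ t n) := by
  let μ : T t →ₗ[A] T t := LinearMap.mulLeft A (algebraMap A (T t) t ^ n)
  have hμ : Function.Injective μ := by
    intro x y hxy
    exact (isUnit_t_pow t n).mul_right_injective hxy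
  let f : N₀ t n →ₗ[A] LinearMap.range (Algebra.linearMap A (T t)) :=
    LinearMap.codRestrict _ (μ.comp (N₀ t n).subtype) (by
      rintro ⟨z, x, hx⟩
      exact ⟨x, hx.symm⟩)
  have hf : Function.Injective f := by
    intro x y hxy
    have h1 : μ x = μ y := congrArg Subtype.val hxy
    exact Subtype.ext (hμ h1)
  exact isNoetherian_of_injective f hf

theorem isNoetherian_M [IsNoetherianRing A] (n : ℕ) : IsNoetherian A (M t B n) := by
  haveI := isNoetherian_N₀ t n
  exact isNoetherian_of_le (inf_le_left : M t B n ≤ N₀ t n)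

theorem M_fg [IsNoetherianRing A] (n : ℕ) : (M t B n).FG := by
  haveI := isNoetherian_M t B n
  exact (Submodule.fg_top _).mp (IsNoetherian.noetherian ⊤)

variable [IsLocalRing A]

theorem finite_C [IsNoetherianRing A] (n : ℕ) : Module.Finite A (C t B n) := by
  haveI := isNoetherian_M t B n
  haveI : IsNoetherian A (Subalgebra.toSubmodule (C t B n)) := isNoetherian_of_le (C_le_M t B n)
  exact Module.Finite.of_fg_top (IsNoetherian.noetherian (⊤ : Submodule A (Subalgebra.toSubmodule (C t B n))))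

theorem algebraMap_T_injective (ht : t ∈ nonZeroDivisors A) :
    Function.Injective (algebraMap A (T t)) :=
  IsLocalization.injective (T t) (Submonoid.powers_le.mpr ht)

theorem algebraMap_C_injective (ht : t ∈ nonZeroDivisors A) (n : ℕ) :
    Function.Injective (algebraMap A (C t B n)) := by
  intro x y hxy
  apply algebraMap_T_injective t ht
  have := congrArg Subtype.val hxy
  simpa using this

theorem pow_smul_mem_range (n : ℕ) (c : C t B n) :
    ∃ x : A, t ^ n • c = algebraMap A (C t B n) x := by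
  obtain ⟨x, hx⟩ := ((mem_M t B).mp (C_le_M t B n c.2)).1
  refine ⟨x, Subtype.ext ?_⟩
  rw [Subalgebra.coe_smul, Subalgebra.coe_algebraMap, Algebra.smul_def, map_pow]
  exact hx

/-- inverse of `1 + y` for `y ∈ I` -/
theorem exists_inv_one_add [IsNoetherianRing A] (n : ℕ) {y : T t} (hy : y ∈ I t B n) :
    ∃ w ∈ C t B n, (1 + y) * w = 1 := by
  set N' : Submodule A (T t) := (M t B n).map (LinearMap.mulLeft A (1 + y)) with hN'
  have hle : M t B n ≤ N' ⊔ maximalIdeal A • M t B n := by
    intro m hm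
    have h1 : m = (1 + y) * m + -(y * m) := by ring
    rw [h1]
    refine Submodule.add_mem_sup ⟨m, hm, rfl⟩ (Submodule.neg_mem _ (hy m hm))
  have hjac : maximalIdeal A ≤ Ideal.jacobson ⊥ := by
    rw [IsLocalRing.jacobson_eq_maximalIdeal ⊥ bot_ne_top]
  have hMN : M t B n ≤ N' :=
    Submodule.le_of_le_smul_of_le_jacobson_bot (M_fg t B n) hjac hle
  obtain ⟨w, hw, hw1⟩ := hMN (one_mem_M t B n)
  have hw1' : (1 + y) * w = 1 := hw1
  refine ⟨w, ?_, hw1'⟩
  -- `w = 1 - y w`, and `y w ∈ I`
  have hwM : ∀ m ∈ M t B n, w * m ∈ M t B n := by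
    intro m hm
    obtain ⟨m', hm', hm'1⟩ := hMN hm
    have h2 : (1 + y) * m' = m := hm'1
    have : w * m = m' := by
      rw [← h2, ← mul_assoc, mul_comm w, hw1', one_mul]
    rw [this]
    exact hm'
  refine ⟨1, -(y * w), ?_, ?_⟩
  · apply Submodule.neg_mem
    intro m hm
    rw [mul_assoc]
    exact hy _ (hwM m hm)
  · rw [map_one]
    linear_combination hw1'

theorem nontrivial_C (ht : t ∈ nonZeroDivisors A) (n : ℕ) : Nontrivial (C t B n) :=
  (algebraMap_C_injective t B ht n).nontrivial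

theorem isLocalRing_C [IsNoetherianRing A] (ht : t ∈ nonZeroDivisors A) (n : ℕ) :
    IsLocalRing (C t B n) := by
  haveI := nontrivial_C t B ht n
  have key : ∀ (x : A) (y : T t) (hy : y ∈ I t B n) (hz : algebraMap A (T t) x + y ∈ C t B n),
      IsUnit x → IsUnit (⟨algebraMap A (T t) x + y, hz⟩ : C t B n) := by
    intro x y hy hz hx
    obtain ⟨x', hx'⟩ := hx.exists_right_inv
    have hy' : x' • y ∈ I t B n := Submodule.smul_mem _ _ hy
    obtain ⟨w, hwC, hw⟩ := exists_inv_one_add t B n hy'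
    have hx'C : algebraMap A (T t) x' ∈ C t B n := Subalgebra.algebraMap_mem _ _
    refine IsUnit.of_mul_eq_one (⟨algebraMap A (T t) x' * w, Subalgebra.mul_mem _ hx'C hwC⟩) ?_
    apply Subtype.ext
    change (algebraMap A (T t) x + y) * (algebraMap A (T t) x' * w) = 1
    have h1 : algebraMap A (T t) x * algebraMap A (T t) x' = 1 := by
      rw [← map_mul, hx', map_one]
    have h2 : (algebraMap A (T t) x + y) * (algebraMap A (T t) x' * w) =
        (algebraMap A (T t) x * algebraMap A (T t) x' + x' • y) * w := by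
      rw [Algebra.smul_def]; ring
    rw [h2, h1, hw]
  refine IsLocalRing.of_isUnit_or_isUnit_one_sub_self ?_
  rintro ⟨z, x, y, hy, rfl⟩
  by_cases hx : IsUnit x
  · left
    exact key x y hy _ hx
  · right
    have hx1 : IsUnit (1 - x) := by
      have hxm : x ∈ maximalIdeal A := (IsLocalRing.mem_maximalIdeal x).mpr hx
      have := IsLocalRing.isUnit_one_sub_self_of_mem_nonunits x hxm
      exact this
    have hmem : algebraMap A (T t) (1 - x) + -y ∈ C t B n :=
      ⟨1 - x, -y, Submodule.neg_mem _ hy, rfl⟩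
    have := key (1 - x) (-y) (Submodule.neg_mem _ hy) hmem hx1
    convert this using 1
    apply Subtype.ext
    change 1 - (algebraMap A (T t) x + y) = algebraMap A (T t) (1 - x) + -y
    rw [map_sub, map_one]
    ring

end Noeth

end Part2

section Part3

open IsLocalRing

section Loc

variable {A : Type u} [CommRing A] [IsNoetherianRing A] [IsLocalRing A] (t : A) {ι : Type}
  (B : ι → Type u) [∀ i, CommRing (B i)] [∀ i, Algebra A (B i)]
  (q : ι → Ideal A) [hq : ∀ i, (q i).IsPrime]

/-- the hypotheses of the gluing construction, with uniform exponent `n` -/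
structure Hyp (n : ℕ) : Prop where
  ht : t ∈ nonZeroDivisors A
  hqm : ∀ i, q i ≠ maximalIdeal A
  htq : ∀ i, t ∈ q i
  hV : ∀ p : Ideal A, p.IsPrime → t ∈ p → p = maximalIdeal A ∨ ∃ i, p = q i
  hnle : ∀ i j, q j ≤ q i → j = i
  hunit : ∀ i, ∀ s : A, s ∉ q i → IsUnit (algebraMap A (B i) s)
  hker : ∀ i (x : A), algebraMap A (B i) x = 0 → ∃ s : A, s ∉ q i ∧ s * x = 0
  hcok : ∀ i (b : B i), ∃ (x s : A), s ∉ q i ∧
    algebraMap A (B i) s * (algebraMap A (B i) t ^ n * b) = algebraMap A (B i) x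
  htB : ∀ i, algebraMap A (B i) t ∈ nonZeroDivisors (B i)

variable {t B q} {n : ℕ}

theorem Hyp.β_injective (H : Hyp t B q n) (i : ι) :
    Function.Injective (algebraMap (B i) (L t B i)) :=
  IsLocalization.injective (L t B i) (Submonoid.powers_le.mpr (H.htB i))

theorem isUnit_β_t (i : ι) : IsUnit (algebraMap (B i) (L t B i) (algebraMap A (B i) t)) :=
  IsLocalization.Away.algebraMap_isUnit _

theorem ψ_t (i : ι) : ψ t B i (algebraMap A (T t) t) =
    algebraMap (B i) (L t B i) (algebraMap A (B i) t) := ψ_algebraMap' t B i t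

/-- (K): the kernel of `ψ_i` is `q_i`-torsion -/
theorem Hyp.ker_ψ (H : Hyp t B q n) (i : ι) (v : T t) (hv : ψ t B i v = 0) :
    ∃ s : A, s ∉ q i ∧ s • v = 0 := by
  obtain ⟨m, x, hx⟩ := IsLocalization.Away.surj t v
  have h1 : ψ t B i (algebraMap A (T t) x) = 0 := by
    rw [← hx, map_mul, hv, zero_mul]
  rw [ψ_algebraMap'] at h1
  have h2 : algebraMap A (B i) x = 0 := by
    apply H.β_injective i
    rw [h1, map_zero]
  obtain ⟨s, hs, hsx⟩ := H.hker i x h2
  refine ⟨s, hs, ?_⟩
  have h3 : (s • v) * algebraMap A (T t) t ^ m = 0 := by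
    rw [smul_mul_assoc, hx, Algebra.smul_def, ← map_mul, hsx, map_zero]
  exact (isUnit_t_pow t m).mul_left_eq_zero.mp h3

/-- a power of any element of `q_j` lies in the contraction of `t^n A_{q_j}` -/
theorem Hyp.exists_pow_mul_eq (H : Hyp t B q n) (j : ι) :
    ∃ N : ℕ, ∀ u ∈ q j, ∃ (x' s' : A), s' ∉ q j ∧ s' * u ^ N = t ^ n * x' := by
  set R := Localization.AtPrime (q j) with hR
  set J : Ideal R := Ideal.span {algebraMap A R t ^ n} with hJ
  have hrad : maximalIdeal R ≤ J.radical := by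
    rw [Ideal.radical_eq_sInf]
    refine le_sInf ?_
    rintro P ⟨hJP, hP⟩
    have htP : algebraMap A R t ∈ P := by
      have : algebraMap A R t ^ n ∈ P := hJP (Ideal.subset_span rfl)
      exact hP.mem_of_pow_mem _ this
    have hcomap : (P.under A).IsPrime := Ideal.IsPrime.under A P
    have htc : t ∈ P.under A := htP
    have hle : P.under A ≤ q j := by
      intro x hx
      by_contra hxq
      have hu : IsUnit (algebraMap A R x) :=
        IsLocalization.map_units R (⟨x, hxq⟩ : (q j).primeCompl)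
      exact hP.ne_top (Ideal.eq_top_of_isUnit_mem _ hx hu)
    have heq : P.under A = q j := by
      rcases H.hV _ hcomap htc with h | ⟨l, hl⟩
      · exfalso
        apply H.hqm j
        rw [h] at hle
        exact le_antisymm (IsLocalRing.le_maximalIdeal (hq j).ne_top) hle
      · have : l = j := H.hnle j l (hl ▸ hle)
        rw [hl, this]
    rw [(Localization.AtPrime.eq_maximalIdeal_iff_under_eq).mp heq]
  obtain ⟨N, hN⟩ := Ideal.exists_pow_le_of_le_radical_of_fg hrad
    (IsNoetherian.noetherian (maximalIdeal R))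
  refine ⟨N, ?_⟩
  intro u hu
  have hum : algebraMap A R u ∈ maximalIdeal R := by
    rw [← Localization.AtPrime.map_eq_maximalIdeal]
    exact Ideal.mem_map_of_mem _ hu
  have h1 : algebraMap A R u ^ N ∈ J := hN (Ideal.pow_mem_pow hum N)
  obtain ⟨c, hc⟩ := Ideal.mem_span_singleton'.mp h1
  obtain ⟨x₀, s₀, rfl⟩ := IsLocalization.exists_mk'_eq (q j).primeCompl c
  -- `mk' x₀ s₀ * t^n = u^N`
  have h2 : algebraMap A R (x₀ * t ^ n) = algebraMap A R (s₀ * u ^ N) := by
    rw [map_mul, map_mul, map_pow, map_pow, ← hc, ← mul_assoc, mul_comm (algebraMap A R s₀),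
      IsLocalization.mk'_spec]
  obtain ⟨s₁, hs₁⟩ := (IsLocalization.eq_iff_exists (q j).primeCompl R).mp h2
  refine ⟨s₁ * x₀, s₁ * s₀, ?_, ?_⟩
  · exact (q j).primeCompl.mul_mem s₁.2 s₀.2
  · linear_combination -hs₁

end Loc

end Part3

section Part4

open IsLocalRing

section Loc2

variable {A : Type u} [CommRing A] [IsNoetherianRing A] [IsLocalRing A] {t : A} {ι : Type}
  {B : ι → Type u} [∀ i, CommRing (B i)] [∀ i, Algebra A (B i)]
  {q : ι → Ideal A} [hq : ∀ i, (q i).IsPrime] {n : ℕ}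

/-- (R): an ideal containing a power of `t` and contained in no `q_l` contains a power of `𝔪`. -/
theorem Hyp.exists_pow_le (H : Hyp t B q n) (𝔞 : Ideal A) (k₀ : ℕ) (ht : t ^ k₀ ∈ 𝔞)
    (hl : ∀ l, ¬ 𝔞 ≤ q l) : ∃ k : ℕ, maximalIdeal A ^ k ≤ 𝔞 := by
  have hrad : maximalIdeal A ≤ 𝔞.radical := by
    rw [Ideal.radical_eq_sInf]
    refine le_sInf ?_
    rintro P ⟨h𝔞P, hP⟩
    have htP : t ∈ P := hP.mem_of_pow_mem _ (h𝔞P ht)
    rcases H.hV P hP htP with h | ⟨l, rfl⟩
    · rw [h]
    · exact absurd h𝔞P (hl l)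
  exact Ideal.exists_pow_le_of_le_radical_of_fg hrad (IsNoetherian.noetherian _)

variable (t B) in
/-- the larger module with denominators `t^{2n}` -/
def M₂ (n : ℕ) : Submodule A (T t) := N₀ t (2 * n) ⊓ ⨅ i, W t B i

theorem mul_mem_M₂ {z m : T t} (hz : z ∈ M t B n) (hm : m ∈ M t B n) : z * m ∈ M₂ t B n := by
  rw [mem_M] at hz hm
  unfold M₂
  rw [Submodule.mem_inf, Submodule.mem_iInf]
  obtain ⟨⟨x, hx⟩, hzW⟩ := hz
  obtain ⟨⟨x', hx'⟩, hmW⟩ := hm
  refine ⟨⟨x * x', ?_⟩, ?_⟩
  · rw [map_mul, ← hx, ← hx', two_mul, pow_add]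
    ring
  · intro i
    obtain ⟨b, hb⟩ := hzW i
    obtain ⟨b', hb'⟩ := hmW i
    exact ⟨b * b', by rw [map_mul, hb, hb', map_mul]⟩

theorem M₂_fg (n : ℕ) : (M₂ t B n).FG := by
  haveI := isNoetherian_N₀ t (2 * n)
  haveI : IsNoetherian A (M₂ t B n) := isNoetherian_of_le (inf_le_left : M₂ t B n ≤ N₀ t (2 * n))
  exact (Submodule.fg_top _).mp (IsNoetherian.noetherian ⊤)

/-- locally at `q_l`, elements of `M₂` lie in `M` -/
theorem Hyp.exists_smul_mem_M (H : Hyp t B q n) (l : ι) {w : T t} (hw : w ∈ M₂ t B n) :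
    ∃ s : A, s ∉ q l ∧ s • w ∈ M t B n := by
  unfold M₂ at hw
  rw [Submodule.mem_inf, Submodule.mem_iInf] at hw
  obtain ⟨⟨x, hx⟩, hwW⟩ := hw
  obtain ⟨b, hb⟩ := hwW l
  obtain ⟨x', s', hs', hxs⟩ := H.hcok l b
  -- `v = s' t^n w - x'` is killed by `ψ_l`
  set v : T t := s' • (algebraMap A (T t) t ^ n * w) - algebraMap A (T t) x' with hv
  have hψv : ψ t B l v = 0 := by
    rw [hv, map_sub, Algebra.smul_def, map_mul, map_mul, map_pow, ψ_algebraMap', ψ_algebraMap',
      ψ_algebraMap', hb, ← map_pow, ← map_mul, ← map_mul, hxs, sub_self]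
  obtain ⟨s'', hs'', hsv⟩ := H.ker_ψ l v hψv
  refine ⟨s'' * s', (q l).primeCompl.mul_mem hs'' hs', ?_⟩
  rw [mem_M]
  constructor
  · refine ⟨s'' * x', ?_⟩
    have h1 : s'' • v = 0 := hsv
    rw [hv, smul_sub, sub_eq_zero] at h1
    rw [map_mul, ← Algebra.smul_def s'' (algebraMap A (T t) x'), ← h1, mul_smul, mul_smul_comm,
      mul_smul_comm]
  · intro i
    obtain ⟨b', hb'⟩ := hwW i
    exact ⟨algebraMap A (B i) (s'' * s') * b', by
      rw [Algebra.smul_def, (ψ t B i).map_mul, ψ_algebraMap', hb',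
        (algebraMap (B i) (L t B i)).map_mul]⟩

/-- (★) -/
theorem Hyp.exists_pow_smul_mem (H : Hyp t B q n) :
    ∃ k : ℕ, ∀ u ∈ maximalIdeal A ^ k, ∀ w ∈ M₂ t B n, u • w ∈ M t B n := by
  classical
  set 𝔞 : Ideal A := (M t B n).colon (M₂ t B n : Set (T t)) with h𝔞
  have ht : t ^ n ∈ 𝔞 := by
    rw [h𝔞, Submodule.mem_colon]
    intro w hw
    have hw' := hw
    unfold M₂ at hw'
    rw [SetLike.mem_coe, Submodule.mem_inf, Submodule.mem_iInf] at hw'
    obtain ⟨⟨x, hx⟩, hwW⟩ := hw'
    rw [mem_M]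
    constructor
    · refine ⟨x, ?_⟩
      rw [Algebra.smul_def, map_pow, ← mul_assoc, ← pow_add, ← two_mul]
      exact hx
    · intro i
      obtain ⟨b', hb'⟩ := hwW i
      exact ⟨algebraMap A (B i) (t ^ n) * b', by
        rw [Algebra.smul_def, (ψ t B i).map_mul, ψ_algebraMap', hb',
          (algebraMap (B i) (L t B i)).map_mul]⟩
  have hl : ∀ l, ¬ 𝔞 ≤ q l := by
    intro l hle
    obtain ⟨S, hS⟩ := M₂_fg (t := t) (B := B) n
    have hex : ∀ w : T t, ∃ s : A, w ∈ M₂ t B n → (s ∉ q l ∧ s • w ∈ M t B n) := by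
      intro w
      by_cases hw : w ∈ M₂ t B n
      · obtain ⟨s, hs, hsw⟩ := H.exists_smul_mem_M l hw
        exact ⟨s, fun _ => ⟨hs, hsw⟩⟩
      · exact ⟨0, fun h => absurd h hw⟩
    choose f hf using hex
    have hSM : ∀ w ∈ S, w ∈ M₂ t B n := fun w hw => hS ▸ Submodule.subset_span hw
    set s : A := ∏ w ∈ S, f w with hs
    have hsq : s ∉ q l := by
      rw [hs, (hq l).prod_mem_iff]
      rintro ⟨w, hwS, hfw⟩
      exact (hf w (hSM w hwS)).1 hfw
    apply hsq
    apply hle
    rw [h𝔞, Submodule.mem_colon]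
    intro w hw
    rw [SetLike.mem_coe, ← hS] at hw
    refine Submodule.span_induction ?_ ?_ ?_ ?_ hw
    · intro w hwS
      obtain ⟨c, hc⟩ := Finset.dvd_prod_of_mem f hwS
      rw [hs, hc, mul_comm, mul_smul]
      exact Submodule.smul_mem _ _ (hf w (hSM w hwS)).2
    · rw [smul_zero]; exact Submodule.zero_mem _
    · intro x y _ _ hx hy
      rw [smul_add]; exact Submodule.add_mem _ hx hy
    · intro a x _ hx
      rw [smul_comm]; exact Submodule.smul_mem _ _ hx
  obtain ⟨k, hk⟩ := H.exists_pow_le 𝔞 n ht hl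
  refine ⟨k, ?_⟩
  intro u hu w hw
  have := hk hu
  rw [h𝔞, Submodule.mem_colon] at this
  exact this w hw

theorem Hyp.exists_smul_mem_I (H : Hyp t B q n) :
    ∃ k : ℕ, ∀ u ∈ maximalIdeal A, ∀ z ∈ M t B n, u ^ (k + 1) • z ∈ I t B n := by
  obtain ⟨k, hk⟩ := H.exists_pow_smul_mem
  refine ⟨k, ?_⟩
  intro u hu z hz m hm
  have h1 : u ^ k • (z * m) ∈ M t B n := hk _ (Ideal.pow_mem_pow hu k) _ (mul_mem_M₂ hz hm)
  have h2 : u ^ (k + 1) • z * m = u • (u ^ k • (z * m)) := by
    rw [smul_mul_assoc, pow_succ, mul_comm, mul_smul]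
  rw [h2]
  exact Submodule.smul_mem_smul hu h1

end Loc2

end Part4

section Part5

open IsLocalRing

section Chi

variable {A : Type u} [CommRing A] [IsNoetherianRing A] [IsLocalRing A] {t : A} {ι : Type}
  {B : ι → Type u} [∀ i, CommRing (B i)] [∀ i, Algebra A (B i)]
  {q : ι → Ideal A} [hq : ∀ i, (q i).IsPrime] {n : ℕ}

variable (t B n) in
/-- the underlying function of `χ_i : C → B_i` -/
noncomputable def χfun (i : ι) (c : C t B n) : B i :=
  Classical.choose (((mem_M t B).mp (C_le_M t B n c.2)).2 i)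

theorem χfun_spec (i : ι) (c : C t B n) :
    algebraMap (B i) (L t B i) (χfun t B n i c) = ψ t B i (c : T t) :=
  (Classical.choose_spec (((mem_M t B).mp (C_le_M t B n c.2)).2 i)).symm

/-- the comparison map `χ_i : C → B_i` -/
noncomputable def Hyp.χ (H : Hyp t B q n) (i : ι) : C t B n →ₐ[A] B i where
  toFun := χfun t B n i
  map_one' := by
    apply H.β_injective i
    rw [χfun_spec]
    simp
  map_mul' x y := by
    apply H.β_injective i
    rw [χfun_spec, map_mul, χfun_spec, χfun_spec]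
    simp
  map_zero' := by
    apply H.β_injective i
    rw [χfun_spec]
    simp
  map_add' x y := by
    apply H.β_injective i
    rw [χfun_spec, map_add, χfun_spec, χfun_spec]
    simp
  commutes' x := by
    apply H.β_injective i
    rw [χfun_spec, Subalgebra.coe_algebraMap, ψ_algebraMap']

theorem Hyp.β_χ (H : Hyp t B q n) (i : ι) (c : C t B n) :
    algebraMap (B i) (L t B i) (H.χ i c) = ψ t B i (c : T t) := χfun_spec i c

/-- (i2) -/
theorem Hyp.χ_eq_zero (H : Hyp t B q n) (i : ι) (c : C t B n) (hc : H.χ i c = 0) :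
    ∃ s : A, s ∉ q i ∧ s • c = 0 := by
  have h1 : ψ t B i (c : T t) = 0 := by rw [← H.β_χ, hc, map_zero]
  obtain ⟨s, hs, hsc⟩ := H.ker_ψ i _ h1
  exact ⟨s, hs, Subtype.ext (by rw [Subalgebra.coe_smul, hsc]; rfl)⟩

/-- cancel the unit `β(t)^n` -/
theorem eq_of_β_t_pow_mul (i : ι) {x y : L t B i}
    (h : algebraMap (B i) (L t B i) (algebraMap A (B i) t) ^ n * x =
      algebraMap (B i) (L t B i) (algebraMap A (B i) t) ^ n * y) : x = y :=
  ((isUnit_β_t (t := t) (B := B) i).pow n).mul_right_injective h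

/-- (i1) -/
theorem Hyp.χ_surj [Finite ι] (H : Hyp t B q n) (i : ι) (y : B i) :
    ∃ (c : C t B n) (s : A), s ∉ q i ∧ algebraMap A (B i) s * y = H.χ i c := by
  classical
  haveI := Fintype.ofFinite ι
  obtain ⟨x, s₀, hs₀, hx⟩ := H.hcok i y
  obtain ⟨z₀, htz₀⟩ : ∃ z₀ : T t, algebraMap A (T t) t ^ n * z₀ = algebraMap A (T t) x := by
    refine ⟨algebraMap A (T t) x * (((isUnit_t_pow t n).unit⁻¹ : (T t)ˣ) : T t), ?_⟩
    rw [mul_comm, mul_assoc, IsUnit.val_inv_mul, mul_one]
  have hψz₀ : ψ t B i z₀ = algebraMap (B i) (L t B i) (algebraMap A (B i) s₀ * y) := by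
    apply eq_of_β_t_pow_mul (n := n) i
    have h1 : algebraMap (B i) (L t B i) (algebraMap A (B i) t) ^ n * ψ t B i z₀ =
        ψ t B i (algebraMap A (T t) t ^ n * z₀) := by rw [(ψ t B i).map_mul, map_pow, ψ_t]
    rw [h1, htz₀, ψ_algebraMap', ← hx, ← (algebraMap (B i) (L t B i)).map_pow,
      ← (algebraMap (B i) (L t B i)).map_mul]
    congr 1
    ring
  -- the elements `s_j`
  have hex : ∀ j : ι, ∃ (sj xj s'j : A), j ≠ i → (sj ∉ q i ∧ s'j ∉ q j ∧ s'j * sj = t ^ n * xj) := by
    intro j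
    by_cases hji : j = i
    · exact ⟨0, 0, 0, fun h => absurd hji h⟩
    · obtain ⟨N, hN⟩ := H.exists_pow_mul_eq j
      have : ¬ q j ≤ q i := fun hle => hji (H.hnle i j hle)
      obtain ⟨u, huj, hui⟩ := SetLike.not_le_iff_exists.mp this
      obtain ⟨x', s', hs', hxs⟩ := hN u huj
      exact ⟨u ^ N, x', s', fun _ => ⟨fun h => hui ((hq i).mem_of_pow_mem _ h), hs', hxs⟩⟩
  choose sj xj s'j hj using hex
  set s₁ : A := ∏ j ∈ Finset.univ.erase i, sj j with hs₁
  have hs₁q : s₁ ∉ q i := by
    rw [hs₁, (hq i).prod_mem_iff]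
    rintro ⟨j, hjS, hmem⟩
    exact (hj j (Finset.ne_of_mem_erase hjS)).1 hmem
  set z₁ : T t := s₁ • z₀ with hz₁
  have hz₁M : z₁ ∈ M t B n := by
    rw [mem_M]
    constructor
    · refine ⟨s₁ * x, ?_⟩
      rw [hz₁, mul_smul_comm, htz₀, Algebra.smul_def, map_mul]
    · intro j
      by_cases hji : j = i
      · subst hji
        exact ⟨algebraMap A (B j) s₁ * (algebraMap A (B j) s₀ * y), by
          simp only [hz₁, Algebra.smul_def, map_mul, ψ_algebraMap', hψz₀]⟩
      · obtain ⟨-, hs'j, hrel⟩ := hj j hji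
        obtain ⟨c, hc⟩ := Finset.dvd_prod_of_mem sj (Finset.mem_erase.mpr ⟨hji, Finset.mem_univ j⟩)
        have hunit := H.hunit j (s'j j) hs'j
        refine ⟨((hunit.unit⁻¹ : (B j)ˣ) : B j) * algebraMap A (B j) (c * xj j * x), ?_⟩
        have hu' : IsUnit (algebraMap (B j) (L t B j) (algebraMap A (B j) (s'j j))) :=
          hunit.map _
        apply hu'.mul_right_injective
        change algebraMap (B j) (L t B j) (algebraMap A (B j) (s'j j)) * ψ t B j z₁ =
          algebraMap (B j) (L t B j) (algebraMap A (B j) (s'j j)) * _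
        rw [← (algebraMap (B j) (L t B j)).map_mul, ← mul_assoc]
        have h1 : algebraMap A (B j) (s'j j) * ((hunit.unit⁻¹ : (B j)ˣ) : B j) = 1 :=
          hunit.mul_val_inv
        rw [h1, one_mul, ← ψ_algebraMap', ← ψ_algebraMap', ← (ψ t B j).map_mul]
        congr 1
        have h2 : s'j j * s₁ = c * xj j * t ^ n := by
          rw [hs₁, hc, ← mul_assoc, hrel]; ring
        rw [hz₁, Algebra.smul_def, ← mul_assoc, ← map_mul, h2, map_mul, map_pow, mul_assoc, htz₀,
          ← map_mul]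
  obtain ⟨k, hk⟩ := H.exists_smul_mem_I
  have hlt : q i < maximalIdeal A :=
    lt_of_le_of_ne (IsLocalRing.le_maximalIdeal (hq i).ne_top) (H.hqm i)
  obtain ⟨u, hum, hui⟩ := SetLike.exists_of_lt hlt
  have hzI : u ^ (k + 1) • z₁ ∈ I t B n := hk u hum z₁ hz₁M
  refine ⟨⟨u ^ (k + 1) • z₁, ⟨0, _, hzI, by rw [map_zero, zero_add]⟩⟩, u ^ (k + 1) * s₁ * s₀,
    ?_, ?_⟩
  · intro hmem
    rcases (hq i).mem_or_mem hmem with h | h
    · rcases (hq i).mem_or_mem h with h | h
      · exact hui ((hq i).mem_of_pow_mem _ h)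
      · exact hs₁q h
    · exact hs₀ h
  · apply H.β_injective i
    rw [H.β_χ]
    change _ = ψ t B i (u ^ (k + 1) • z₁)
    rw [hz₁, Algebra.smul_def, Algebra.smul_def, (ψ t B i).map_mul, (ψ t B i).map_mul,
      ψ_algebraMap', ψ_algebraMap', hψz₀, ← (algebraMap (B i) (L t B i)).map_mul,
      ← (algebraMap (B i) (L t B i)).map_mul]
    congr 1
    rw [map_mul, map_mul]
    ring

end Chi

end Part5

section Part6

open IsLocalRing

section Main

variable {A : Type u} [CommRing A] [IsNoetherianRing A] [IsLocalRing A] {t : A} {ι : Type}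
  {B : ι → Type u} [∀ i, CommRing (B i)] [∀ i, Algebra A (B i)]
  {q : ι → Ideal A} [hq : ∀ i, (q i).IsPrime] {n : ℕ}

/-- The gluing theorem: a finite local extension `C` of `A` inside `A_t` whose localizations at the
`q_i` are the `B_i`. -/
theorem glue_main [Finite ι] (H : Hyp t B q n) :
    ∃ (C' : Type u) (_ : CommRing C') (_ : Algebra A C') (_ : IsLocalRing C'),
      Function.Injective (algebraMap A C') ∧ Module.Finite A C' ∧
      (∀ c : C', ∃ x : A, t ^ n • c = algebraMap A C' x) ∧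
      ∀ i, ∃ χ : C' →ₐ[A] B i,
        (∀ y : B i, ∃ (c : C') (s : A), s ∉ q i ∧ algebraMap A (B i) s * y = χ c) ∧
        (∀ c : C', χ c = 0 → ∃ s : A, s ∉ q i ∧ s • c = 0) :=
  ⟨C t B n, inferInstance, inferInstance, isLocalRing_C t B H.ht n,
    algebraMap_C_injective t B H.ht n, finite_C t B n, pow_smul_mem_range t B n,
    fun i => ⟨H.χ i, H.χ_surj i, H.χ_eq_zero i⟩⟩

/-- In a local ring of dimension `2`, two non-maximal primes containing a nonzerodivisor are
incomparable. -/
theorem eq_of_le_of_mem_nonZeroDivisors (hA : ringKrullDim A = 2) {p p' : Ideal A} [p.IsPrime]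
    [p'.IsPrime] {t : A} (ht : t ∈ nonZeroDivisors A) (htp : t ∈ p) (hp' : p' ≠ maximalIdeal A)
    (hle : p ≤ p') : p = p' := by
  by_contra hne
  have hlt : p < p' := lt_of_le_of_ne hle hne
  have hlt' : p' < maximalIdeal A :=
    lt_of_le_of_ne (IsLocalRing.le_maximalIdeal (Ideal.IsPrime.ne_top ‹_›)) hp'
  have h0 : p.height ≠ 0 := by
    rw [Ne, Ideal.height_eq_zero_iff]
    intro hmin
    exact Set.disjoint_left.mp (Ideal.disjoint_nonZeroDivisors_of_mem_minimalPrimes hmin) htp ht
  have h1 : p.height + 1 ≤ p'.height := Ideal.height_add_one_le_of_lt_of_isPrime hlt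
  have h2 : p'.height + 1 ≤ (maximalIdeal A).height := Ideal.height_add_one_le_of_lt_of_isPrime hlt'
  have h3 : ((maximalIdeal A).height : WithBot ℕ∞) ≤ 2 := by
    rw [← hA]; exact Ideal.height_le_ringKrullDim_of_isPrime
  have h4 : (maximalIdeal A).height ≤ 2 := by
    have h3' : ((maximalIdeal A).height : WithBot ℕ∞) ≤ ((2 : ℕ∞) : WithBot ℕ∞) := h3
    exact WithBot.coe_le_coe.mp h3'
  have h5 : (1 : ℕ∞) ≤ p.height := Order.one_le_iff_ne_zero.mpr h0
  have h6 : (3 : ℕ∞) ≤ (maximalIdeal A).height := by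
    calc (3 : ℕ∞) = 1 + 1 + 1 := by norm_num
      _ ≤ p.height + 1 + 1 := by gcongr
      _ ≤ p'.height + 1 := by gcongr
      _ ≤ _ := h2
  have : (3 : ℕ∞) ≤ 2 := h6.trans h4
  exact absurd this (by decide)

end Main

end Part6

section Part7

open IsLocalRing

theorem isLocalization_of_props {A C Bi : Type*} [CommRing A] [CommRing C] [CommRing Bi]
    [Algebra A C] [Algebra A Bi] [Algebra C Bi] [IsScalarTower A C Bi] (p : Ideal A) [p.IsPrime]
    (hunit : ∀ s : A, s ∉ p → IsUnit (algebraMap A Bi s))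
    (hsurj : ∀ y : Bi, ∃ (c : C) (s : A), s ∉ p ∧ algebraMap A Bi s * y = algebraMap C Bi c)
    (hker : ∀ c : C, algebraMap C Bi c = 0 → ∃ s : A, s ∉ p ∧ s • c = 0) :
    IsLocalization (Algebra.algebraMapSubmonoid C p.primeCompl) Bi := by
  rw [isLocalization_iff]
  refine ⟨?_, ?_, ?_⟩
  · rintro ⟨_, s, hs, rfl⟩
    rw [← IsScalarTower.algebraMap_apply]
    exact hunit s hs
  · intro y
    obtain ⟨c, s, hs, hy⟩ := hsurj y
    refine ⟨⟨c, ⟨algebraMap A C s, s, hs, rfl⟩⟩, ?_⟩
    change y * algebraMap C Bi (algebraMap A C s) = algebraMap C Bi c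
    rw [← IsScalarTower.algebraMap_apply, mul_comm]
    exact hy
  · intro x y hxy
    have h0 : algebraMap C Bi (x - y) = 0 := by rw [map_sub, hxy, sub_self]
    obtain ⟨s, hs, hsc⟩ := hker _ h0
    refine ⟨⟨algebraMap A C s, s, hs, rfl⟩, ?_⟩
    change algebraMap A C s * x = algebraMap A C s * y
    rw [Algebra.smul_def, mul_sub, sub_eq_zero] at hsc
    exact hsc

/-- S6481 -/
theorem main_6481 (A : Type u) [CommRing A] [IsNoetherianRing A] [IsLocalRing A] (hA : ringKrullDim A = 2) (t : A) (ht : t ∈ IsLocalRing.maximalIdeal A) (htnz : t ∈ nonZeroDivisors A) (r : ℕ) (q : Fin r → Ideal A) (hq : ∀ i, (q i).IsPrime) (hinj : Function.Injective q) (hqm : ∀ i, q i ≠ IsLocalRing.maximalIdeal A) (htq : ∀ i, t ∈ q i) (hV : ∀ p : Ideal A, p.IsPrime → t ∈ p → p = IsLocalRing.maximalIdeal A ∨ ∃ i, p = q i) (B : Fin r → Type u) [∀ i, CommRing (B i)] [∀ i, Algebra (Localization.AtPrime (q i)) (B i)] (hB : ∀ i, CycAlg.IsFinExt (Localization.AtPrime (q i)) (B i) (Ideal.span {algebraMap A (Localization.AtPrime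 (q i)) t})) (htB : ∀ i, IsSMulRegular (B i) (algebraMap A (Localization.AtPrime (q i)) t)) : ∃ (C : Type u) (_ : CommRing C) (_ : Algebra A C), CycAlg.IsFinExt A C (Ideal.span {t}) ∧ ∀ i, Nonempty (TensorProduct A (Localization.AtPrime (q i)) C ≃ₐ[Localization.AtPrime (q i)] B i) := by
  classical
  letI algB : ∀ i, Algebra A (B i) := fun i =>
    ((algebraMap (Localization.AtPrime (q i)) (B i)).comp
      (algebraMap A (Localization.AtPrime (q i)))).toAlgebra
  haveI tower : ∀ i, IsScalarTower A (Localization.AtPrime (q i)) (B i) := fun i =>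
    IsScalarTower.of_algebraMap_eq (fun x => rfl)
  have hBinj : ∀ i, Function.Injective (algebraMap (Localization.AtPrime (q i)) (B i)) :=
    fun i => (hB i).1
  have hex := fun i => (hB i).2.2
  choose nn hnn using hex
  obtain ⟨n, hle⟩ : ∃ n : ℕ, ∀ i, nn i ≤ n := ⟨∑ i, nn i, fun i =>
    Finset.single_le_sum (f := nn) (fun _ _ => Nat.zero_le _) (Finset.mem_univ i)⟩
  have hmap : ∀ i (x : A), algebraMap A (B i) x =
      algebraMap (Localization.AtPrime (q i)) (B i) (algebraMap A (Localization.AtPrime (q i)) x) :=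
    fun i x => rfl
  have h_nle : ∀ i j, q j ≤ q i → j = i := fun i j hle' =>
    hinj (eq_of_le_of_mem_nonZeroDivisors hA htnz (htq j) (hqm i) hle')
  have h_unit : ∀ i, ∀ s : A, s ∉ q i → IsUnit (algebraMap A (B i) s) := by
    intro i s hs
    have h1 : IsUnit (algebraMap A (Localization.AtPrime (q i)) s) :=
      IsLocalization.map_units (Localization.AtPrime (q i)) (⟨s, hs⟩ : (q i).primeCompl)
    exact h1.map (algebraMap (Localization.AtPrime (q i)) (B i))
  have h_ker : ∀ i (x : A), algebraMap A (B i) x = 0 → ∃ s : A, s ∉ q i ∧ s * x = 0 := by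
    intro i x hx
    have h1 : algebraMap A (Localization.AtPrime (q i)) x = 0 := by
      apply hBinj i
      rw [map_zero]
      exact hx
    obtain ⟨m, hm⟩ := (IsLocalization.map_eq_zero_iff (q i).primeCompl _ x).mp h1
    exact ⟨m, m.2, hm⟩
  have h_cok : ∀ i (b : B i), ∃ (x s : A), s ∉ q i ∧
      algebraMap A (B i) s * (algebraMap A (B i) t ^ n * b) = algebraMap A (B i) x := by
    intro i b
    have hmem0 : algebraMap A (Localization.AtPrime (q i)) t ∈
        Ideal.span {algebraMap A (Localization.AtPrime (q i)) t} :=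
      Ideal.mem_span_singleton_self _
    have hmem1 : algebraMap A (Localization.AtPrime (q i)) t ^ n ∈
        (Ideal.span {algebraMap A (Localization.AtPrime (q i)) t}) ^ n :=
      Ideal.pow_mem_pow hmem0 n
    have hmem : algebraMap A (Localization.AtPrime (q i)) t ^ n ∈
        (Ideal.span {algebraMap A (Localization.AtPrime (q i)) t}) ^ nn i :=
      Ideal.pow_le_pow_right (hle i) hmem1
    obtain ⟨y, hy⟩ := hnn i _ hmem b
    obtain ⟨x, s, rfl⟩ := IsLocalization.exists_mk'_eq (q i).primeCompl y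
    refine ⟨x, s, s.2, ?_⟩
    have h1 : IsLocalization.mk' (Localization.AtPrime (q i)) x s *
        algebraMap A (Localization.AtPrime (q i)) s =
        algebraMap A (Localization.AtPrime (q i)) x := IsLocalization.mk'_spec _ _ _
    have h2 := congrArg (algebraMap (Localization.AtPrime (q i)) (B i)) h1
    rw [map_mul] at h2
    have hy' : algebraMap (Localization.AtPrime (q i)) (B i)
        (IsLocalization.mk' (Localization.AtPrime (q i)) x s) =
        algebraMap (Localization.AtPrime (q i)) (B i)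
          (algebraMap A (Localization.AtPrime (q i)) t ^ n) * b := by
      rw [← Algebra.smul_def]; exact hy
    rw [hy', map_pow] at h2
    show algebraMap (Localization.AtPrime (q i)) (B i) (algebraMap A (Localization.AtPrime (q i)) s) *
      (algebraMap (Localization.AtPrime (q i)) (B i) (algebraMap A (Localization.AtPrime (q i)) t) ^ n * b) =
      algebraMap (Localization.AtPrime (q i)) (B i) (algebraMap A (Localization.AtPrime (q i)) x)
    rw [← h2]
    ring
  have h_tB : ∀ i, algebraMap A (B i) t ∈ nonZeroDivisors (B i) := by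
    intro i
    rw [mem_nonZeroDivisors_iff_right]
    intro z hz
    apply htB i
    show algebraMap A (Localization.AtPrime (q i)) t • z =
      algebraMap A (Localization.AtPrime (q i)) t • (0 : B i)
    rw [smul_zero, Algebra.smul_def, mul_comm]
    exact hz
  have H : Hyp t B q n := ⟨htnz, hqm, htq, hV, h_nle, h_unit, h_ker, h_cok, h_tB⟩
  obtain ⟨C', _, _, _, hinjC, hfinC, hcokC, hχ⟩ := glue_main H
  refine ⟨C', inferInstance, inferInstance, ⟨hinjC, hfinC, n, ?_⟩, ?_⟩
  · intro r' hr' c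
    rw [Ideal.span_singleton_pow, Ideal.mem_span_singleton'] at hr'
    obtain ⟨a, rfl⟩ := hr'
    obtain ⟨x, hx⟩ := hcokC c
    refine ⟨a * x, ?_⟩
    rw [map_mul, ← hx, mul_smul, Algebra.smul_def a]
  · intro i
    obtain ⟨χ, hsurj, hker⟩ := hχ i
    letI algCB : Algebra C' (B i) := χ.toRingHom.toAlgebra
    haveI : IsScalarTower A C' (B i) := IsScalarTower.of_algebraMap_eq (fun x => (χ.commutes x).symm)
    haveI hloc : IsLocalization (Algebra.algebraMapSubmonoid C' (q i).primeCompl) (B i) :=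
      isLocalization_of_props (q i) (H.hunit i) hsurj hker
    let e₁ := Localization.tensorRightAlgEquiv (q i).primeCompl C'
    let e₂ := IsLocalization.algEquiv (Algebra.algebraMapSubmonoid C' (q i).primeCompl)
      (Localization (Algebra.algebraMapSubmonoid C' (q i).primeCompl)) (B i)
    have hcomm : ∀ x : Localization.AtPrime (q i),
        e₂.toRingEquiv (algebraMap (Localization.AtPrime (q i))
          (Localization (Algebra.algebraMapSubmonoid C' (q i).primeCompl)) x) =
        algebraMap (Localization.AtPrime (q i)) (B i) x := by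
      have : (e₂.toRingEquiv.toRingHom.comp (algebraMap (Localization.AtPrime (q i))
          (Localization (Algebra.algebraMapSubmonoid C' (q i).primeCompl)))) =
          algebraMap (Localization.AtPrime (q i)) (B i) := by
        apply IsLocalization.ringHom_ext (q i).primeCompl
        ext a
        simp only [RingHom.comp_apply]
        rw [← IsScalarTower.algebraMap_apply A (Localization.AtPrime (q i))
          (Localization (Algebra.algebraMapSubmonoid C' (q i).primeCompl)),
          IsScalarTower.algebraMap_apply A C'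
          (Localization (Algebra.algebraMapSubmonoid C' (q i).primeCompl))]
        change e₂ (algebraMap C' _ (algebraMap A C' a)) = _
        rw [e₂.commutes, ← IsScalarTower.algebraMap_apply, ← hmap]
      intro x
      exact congrFun (congrArg DFunLike.coe this) x
    exact ⟨e₁.trans (AlgEquiv.ofRingEquiv (f := e₂.toRingEquiv) hcomm)⟩

end Part7

end Groth.Agent.Lib.R2H1.Glue
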