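/-
R2H1CommonFactor (helper1): for a Noetherian local ring R of dimension 1 and nonzerodivisors a, b, a finite birational extension R' = (I^D : I^D), I = (a,b), in which I R' is principal (S1834).
Main results: length_quot_succ_le, length_quot_span_mul, pow_succ_pair_le, exists_mono_mem_chainL (pigeonhole on lengths), exists_relation, pow_pair_le, exists_reduction (x I^D = I^(D+s) without assumption on the residue field), stabRing, exists_pow_maximalIdeal_le_span, finite_stabRing, map_pow_eq_span, isPrincipal_of_pow_eq_span, main.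
-/
import Mathlib
import Groth.Prelude.Def_CycAlg
import Groth.Agent.S9160
import Groth.Agent.Lib.Helper26FinLocalProd

set_option autoImplicit false
set_option linter.style.haveILetI false
set_option linter.unusedSectionVars false
universe u

namespace Groth.Agent.Lib.R2H1.CommonFactor

section Part1

open IsLocalRing

variable {R : Type u} [CommRing R]

/-- `ℓ(R/J') + 1 ≤ ℓ(R/J)` for ideals `J < J'`. -/
theorem length_quot_succ_le {J J' : Ideal R} (h : J ≤ J') (x : R) (hx : x ∈ J') (hxJ : x ∉ J) :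
    Module.length R (R ⧸ J') + 1 ≤ Module.length R (R ⧸ J) := by
  let N : Submodule R (R ⧸ J) := Submodule.map J.mkQ J'
  have e : ((R ⧸ J) ⧸ N) ≃ₗ[R] R ⧸ J' := Submodule.quotientQuotientEquivQuotient J J' h
  have h1 : Module.length R (R ⧸ J) = Module.length R N + Module.length R ((R ⧸ J) ⧸ N) :=
    Module.length_eq_add_of_exact N.subtype N.mkQ (Submodule.subtype_injective _)
      (Submodule.mkQ_surjective _) (LinearMap.exact_subtype_mkQ N)
  rw [h1, e.length_eq]
  have h2 : Nontrivial N := by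
    refine ⟨⟨⟨J.mkQ x, Submodule.mem_map_of_mem hx⟩, 0, ?_⟩⟩
    intro h3
    have h4 : J.mkQ x = 0 := congrArg Subtype.val h3
    rw [Submodule.mkQ_apply, Submodule.Quotient.mk_eq_zero] at h4
    exact hxJ h4
  have h3 : 1 ≤ Module.length R N := by
    have h4 : 0 < Module.length R N := Module.length_pos_iff.mpr h2
    exact Order.one_le_iff_pos.mpr h4
  rw [add_comm (Module.length R N)]
  gcongr

theorem length_quot_le {J J' : Ideal R} (h : J ≤ J') :
    Module.length R (R ⧸ J') ≤ Module.length R (R ⧸ J) :=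
  Module.length_le_of_surjective (Submodule.mapQ J J' LinearMap.id h)
    (by
      intro y
      obtain ⟨y, rfl⟩ := Submodule.Quotient.mk_surjective _ y
      exact ⟨Submodule.Quotient.mk y, rfl⟩)

/-- `ℓ(R/aJ) = ℓ(R/J) + ℓ(R/aR)` for a nonzerodivisor `a`. -/
theorem length_quot_span_mul (a : R) (ha : a ∈ nonZeroDivisors R) (J : Ideal R) :
    Module.length R (R ⧸ (Ideal.span {a} * J)) =
      Module.length R (R ⧸ J) + Module.length R (R ⧸ Ideal.span ({a} : Set R)) := by
  have h1 : J ≤ Submodule.comap (LinearMap.mulLeft R a) (Ideal.span {a} * J) := by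
    intro y hy
    exact Ideal.mul_mem_mul (Ideal.mem_span_singleton_self a) hy
  have h2 : Ideal.span {a} * J ≤
      Submodule.comap (LinearMap.id : R →ₗ[R] R) (Ideal.span ({a} : Set R)) := by
    intro y hy
    exact (Ideal.mul_le_left (I := Ideal.span {a}) (J := J)) hy
  let φ : (R ⧸ J) →ₗ[R] (R ⧸ (Ideal.span {a} * J)) :=
    Submodule.mapQ _ _ (LinearMap.mulLeft R a) h1
  let ψ : (R ⧸ (Ideal.span {a} * J)) →ₗ[R] (R ⧸ Ideal.span ({a} : Set R)) :=
    Submodule.mapQ _ _ LinearMap.id h2
  have hφ : ∀ y : R, φ (Submodule.Quotient.mk y) = Submodule.Quotient.mk (a * y) := fun y => rfl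
  have hψ : ∀ y : R, ψ (Submodule.Quotient.mk y) = Submodule.Quotient.mk y := fun y => rfl
  have hφinj : Function.Injective φ := by
    rw [injective_iff_map_eq_zero]
    intro y hy
    obtain ⟨y, rfl⟩ := Submodule.Quotient.mk_surjective _ y
    rw [hφ, Submodule.Quotient.mk_eq_zero] at hy
    rw [Submodule.Quotient.mk_eq_zero]
    obtain ⟨z, hz, hz2⟩ := Ideal.mem_span_singleton_mul.mp hy
    have : z = y := by
      have h3 : a * (z - y) = 0 := by rw [mul_sub, hz2, sub_self]
      have h4 := (mul_left_mem_nonZeroDivisors_eq_zero_iff ha).mp h3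
      exact sub_eq_zero.mp h4
    rwa [← this]
  have hψsurj : Function.Surjective ψ := by
    intro y
    obtain ⟨y, rfl⟩ := Submodule.Quotient.mk_surjective _ y
    exact ⟨Submodule.Quotient.mk y, rfl⟩
  have hex : Function.Exact φ ψ := by
    intro y
    constructor
    · intro hy
      obtain ⟨y, rfl⟩ := Submodule.Quotient.mk_surjective _ y
      rw [hψ, Submodule.Quotient.mk_eq_zero] at hy
      obtain ⟨z, rfl⟩ := Ideal.mem_span_singleton'.mp hy
      exact ⟨Submodule.Quotient.mk z, by rw [hφ, mul_comm a z]⟩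
    · rintro ⟨z, rfl⟩
      obtain ⟨z, rfl⟩ := Submodule.Quotient.mk_surjective _ z
      rw [hφ, hψ, Submodule.Quotient.mk_eq_zero]
      exact Ideal.mul_mem_right _ _ (Ideal.mem_span_singleton_self a)
  exact Module.length_eq_add_of_exact φ ψ hφinj hψsurj hex

/-- `I^(i+1) ≤ (a) I^i + (b^(i+1))` for `I = (a, b)`. -/
theorem pow_succ_pair_le (a b : R) (i : ℕ) :
    (Ideal.span {a, b}) ^ (i + 1) ≤
      Ideal.span {a} * (Ideal.span {a, b}) ^ i ⊔ Ideal.span {b ^ (i + 1)} := by
  have hI : Ideal.span ({a, b} : Set R) = Ideal.span {a} ⊔ Ideal.span {b} := by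
    rw [Ideal.span_insert]
  have hb : ∀ j : ℕ, b ^ j ∈ (Ideal.span ({a, b} : Set R)) ^ j := fun j =>
    Ideal.pow_mem_pow (Ideal.subset_span (by simp)) j
  induction i with
  | zero =>
    simp only [zero_add, pow_one, pow_zero, Ideal.one_eq_top, Ideal.mul_top]
    rw [hI]
  | succ i ih =>
    set I := Ideal.span ({a, b} : Set R) with hIdef
    calc I ^ (i + 1 + 1) = I * I ^ (i + 1) := by rw [pow_succ' I (i + 1)]
      _ ≤ I * (Ideal.span {a} * I ^ i ⊔ Ideal.span {b ^ (i + 1)}) := Ideal.mul_mono_right ih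
      _ = I * (Ideal.span {a} * I ^ i) ⊔ I * Ideal.span {b ^ (i + 1)} := Ideal.mul_sup _ _ _
      _ ≤ Ideal.span {a} * I ^ (i + 1) ⊔ Ideal.span {b ^ (i + 1 + 1)} := by
        apply sup_le
        · refine le_trans ?_ le_sup_left
          rw [← mul_assoc, mul_comm I, mul_assoc, ← pow_succ' I i]
        · conv_lhs => rw [hI]
          rw [Ideal.sup_mul]
          apply sup_le
          · refine le_trans ?_ le_sup_left
            apply Ideal.mul_mono_right
            rw [Ideal.span_singleton_le_iff_mem]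
            exact hb (i + 1)
          · refine le_trans ?_ le_sup_right
            rw [Ideal.span_singleton_mul_span_singleton, ← pow_succ' b (i + 1)]

end Part1

section Part2

open IsLocalRing

variable {R : Type u} [CommRing R]

/-- The chain of ideals used in the pigeonhole argument. -/
noncomputable def chainL [IsLocalRing R] (a b : R) (E : ℕ) : ℕ → Ideal R
  | 0 => maximalIdeal R * (Ideal.span {a, b}) ^ E
  | (j + 1) => Ideal.span {a ^ (E - j)} * (Ideal.span {a, b}) ^ j ⊔
      maximalIdeal R * (Ideal.span {a, b}) ^ E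

theorem chainL_le_succ [IsLocalRing R] (a b : R) (E j : ℕ) (hj : j ≤ E) :
    chainL a b E j ≤ chainL a b E (j + 1) := by
  cases j with
  | zero => exact le_sup_right
  | succ j =>
    simp only [chainL]
    apply sup_le_sup_right
    have h1 : a ^ (E - j) = a ^ (E - (j + 1)) * a := by
      rw [← pow_succ]
      congr 1
      omega
    rw [h1, ← Ideal.span_singleton_mul_span_singleton, mul_assoc]
    apply Ideal.mul_mono_right
    rw [pow_succ' _ j]
    apply Ideal.mul_mono_left
    rw [Ideal.span_singleton_le_iff_mem]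
    exact Ideal.subset_span (by simp)

theorem mono_mem_chainL_succ [IsLocalRing R] (a b : R) (E j : ℕ) :
    a ^ (E - j) * b ^ j ∈ chainL a b E (j + 1) := by
  simp only [chainL]
  apply Ideal.mem_sup_left
  exact Ideal.mul_mem_mul (Ideal.mem_span_singleton_self _)
    (Ideal.pow_mem_pow (Ideal.subset_span (by simp)) j)

theorem chainL_last_le [IsLocalRing R] (a b : R) (E : ℕ) :
    chainL a b E (E + 1) ≤ (Ideal.span {a, b}) ^ E := by
  simp only [chainL]
  exact sup_le Ideal.mul_le_right Ideal.mul_le_right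

/-- Pigeonhole: some monomial `a^(E-j) b^j` lies in the previous ideal of the chain. -/
theorem exists_mono_mem_chainL [IsNoetherianRing R] [IsLocalRing R] (hR : ringKrullDim R = 1)
    (a b : R) (ha : a ∈ nonZeroDivisors R) (ham : a ∈ maximalIdeal R) :
    ∃ E j : ℕ, j ≤ E ∧ a ^ (E - j) * b ^ j ∈ chainL a b E j := by
  have hfin : Module.length R (R ⧸ Ideal.span ({a} : Set R)) ≠ ⊤ :=
    Groth.Agent.S9160.finlen R hR a (isRegular_iff_mem_nonZeroDivisors.mpr ha)
  obtain ⟨E, hE⟩ := ENat.ne_top_iff_exists.mp hfin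
  refine ⟨E, ?_⟩
  by_contra hcon
  push Not at hcon
  set I := Ideal.span ({a, b} : Set R) with hI
  -- finiteness of ℓ(R/I^E)
  have hfinI : Module.length R (R ⧸ I ^ E) ≠ ⊤ := by
    have h1 : Module.length R (R ⧸ Ideal.span ({a ^ E} : Set R)) ≠ ⊤ :=
      Groth.Agent.S9160.finlen R hR (a ^ E)
        (isRegular_iff_mem_nonZeroDivisors.mpr (pow_mem ha E))
    have h2 : Ideal.span ({a ^ E} : Set R) ≤ I ^ E := by
      rw [Ideal.span_singleton_le_iff_mem]
      exact Ideal.pow_mem_pow (Ideal.subset_span (by simp)) E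
    exact ne_top_of_le_ne_top h1 (length_quot_le h2)
  obtain ⟨f, hf⟩ := ENat.ne_top_iff_exists.mp hfinI
  -- the chain inequality
  have hchain : ∀ j : ℕ, j ≤ E + 1 →
      Module.length R (R ⧸ chainL a b E j) + j ≤ Module.length R (R ⧸ chainL a b E 0) := by
    intro j
    induction j with
    | zero => intro _; simp
    | succ j ih =>
      intro hj
      have hj' : j ≤ E := by omega
      have h1 := ih (by omega)
      have h2 : Module.length R (R ⧸ chainL a b E (j + 1)) + 1 ≤
          Module.length R (R ⧸ chainL a b E j) :=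
        length_quot_succ_le (chainL_le_succ a b E j hj') _ (mono_mem_chainL_succ a b E j)
          (hcon j hj')
      calc Module.length R (R ⧸ chainL a b E (j + 1)) + ((j + 1 : ℕ) : ℕ∞)
          = (Module.length R (R ⧸ chainL a b E (j + 1)) + 1) + (j : ℕ∞) := by
            push_cast; ring
        _ ≤ Module.length R (R ⧸ chainL a b E j) + j := by gcongr
        _ ≤ _ := h1
  have h1 := hchain (E + 1) le_rfl
  have h2 : Module.length R (R ⧸ I ^ E) ≤ Module.length R (R ⧸ chainL a b E (E + 1)) :=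
    length_quot_le (chainL_last_le a b E)
  have h3 : Module.length R (R ⧸ chainL a b E 0) ≤
      Module.length R (R ⧸ (Ideal.span {a} * I ^ E)) := by
    apply length_quot_le
    simp only [chainL]
    apply Ideal.mul_mono_left
    rw [Ideal.span_singleton_le_iff_mem]
    exact ham
  have h4 := length_quot_span_mul a ha (I ^ E)
  have h5 : (f : ℕ∞) + ((E + 1 : ℕ) : ℕ∞) ≤ (f : ℕ∞) + (E : ℕ∞) := by
    calc (f : ℕ∞) + ((E + 1 : ℕ) : ℕ∞)
        = Module.length R (R ⧸ I ^ E) + ((E + 1 : ℕ) : ℕ∞) := by rw [hf]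
      _ ≤ Module.length R (R ⧸ chainL a b E (E + 1)) + ((E + 1 : ℕ) : ℕ∞) := by gcongr
      _ ≤ Module.length R (R ⧸ chainL a b E 0) := h1
      _ ≤ Module.length R (R ⧸ (Ideal.span {a} * I ^ E)) := h3
      _ = (f : ℕ∞) + (E : ℕ∞) := by rw [h4, ← hf, ← hE]
  have h6 : f + (E + 1) ≤ f + E := by exact_mod_cast h5
  omega

/-- The relation `(★')`: `a^p (b^s + a w) ∈ m I^(p+s)` with `s ≥ 1`, `w ∈ I^(s-1)`. -/
theorem exists_relation [IsNoetherianRing R] [IsLocalRing R] (hR : ringKrullDim R = 1)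
    (a b : R) (ha : a ∈ nonZeroDivisors R) (ham : a ∈ maximalIdeal R) :
    ∃ (p s : ℕ) (w : R), 1 ≤ s ∧ w ∈ (Ideal.span {a, b}) ^ (s - 1) ∧
      a ^ p * (b ^ s + a * w) ∈ maximalIdeal R * (Ideal.span {a, b}) ^ (p + s) := by
  obtain ⟨E, j, hj, hmem⟩ := exists_mono_mem_chainL hR a b ha ham
  set I := Ideal.span ({a, b} : Set R) with hI
  have haI : a ∈ I := Ideal.subset_span (by simp)
  have hbI : b ∈ I := Ideal.subset_span (by simp)
  cases j with
  | zero =>
    simp only [chainL, Nat.sub_zero, pow_zero, mul_one] at hmem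
    refine ⟨E, 1, 0, le_rfl, Ideal.zero_mem _, ?_⟩
    simp only [pow_one, mul_zero, add_zero]
    rw [pow_succ, ← mul_assoc]
    exact Ideal.mul_mem_mul hmem hbI
  | succ j =>
    simp only [chainL] at hmem
    obtain ⟨y, hy, μ, hμ, hyμ⟩ := Submodule.mem_sup.mp hmem
    obtain ⟨w₀, hw₀, rfl⟩ := Ideal.mem_span_singleton_mul.mp hy
    refine ⟨E - (j + 1), j + 1, -w₀, by omega, ?_, ?_⟩
    · simpa using hw₀
    · have h1 : E - (j + 1) + (j + 1) = E := by omega
      rw [h1]
      have h2 : a ^ (E - j) = a ^ (E - (j + 1)) * a := by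
        rw [← pow_succ]
        congr 1
        omega
      have h3 : a ^ (E - (j + 1)) * (b ^ (j + 1) + a * -w₀) = μ := by
        have : a ^ (E - (j + 1)) * (b ^ (j + 1) + a * -w₀) =
            a ^ (E - (j + 1)) * b ^ (j + 1) - (a ^ (E - (j + 1)) * a) * w₀ := by ring
        rw [this, ← h2, ← hyμ]
        ring
      rw [h3]
      exact hμ

end Part2

section Part3

open IsLocalRing

variable {R : Type u} [CommRing R]

/-- `(a, b)^N ≤ K` as soon as `K` contains all the monomials of degree `N`. -/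
theorem pow_pair_le (a b : R) (N : ℕ) (K : Ideal R)
    (h : ∀ i ≤ N, a ^ i * b ^ (N - i) ∈ K) : (Ideal.span {a, b}) ^ N ≤ K := by
  have hI : Ideal.span ({a, b} : Set R) = Ideal.span {a} ⊔ Ideal.span {b} := by
    rw [Ideal.span_insert]
  rw [hI, ← Ideal.add_eq_sup, add_pow, Ideal.sum_eq_sup]
  apply Finset.sup_le
  intro i hi
  refine Ideal.mul_le_left.trans ?_
  rw [Ideal.span_singleton_pow, Ideal.span_singleton_pow, Ideal.span_singleton_mul_span_singleton,
    Ideal.span_singleton_le_iff_mem]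
  exact h i (by simpa [Finset.mem_range, Nat.lt_succ_iff] using hi)

/-- The graded pieces of the ideal `(x T^s) + m` of the Rees algebra. -/
noncomputable def JJ [IsLocalRing R] (I : Ideal R) (x : R) (s K : ℕ) : Ideal R :=
  Ideal.span {x} * I ^ (K - s) ⊔ maximalIdeal R * I ^ K

theorem JJ_mul_le [IsLocalRing R] (I : Ideal R) (x : R) (s K L : ℕ) (hK : s ≤ K) :
    JJ I x s K * I ^ L ≤ JJ I x s (K + L) := by
  unfold JJ
  rw [Ideal.sup_mul]
  apply sup_le_sup
  · rw [mul_assoc, ← pow_add]
    have : K - s + L = K + L - s := by omega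
    rw [this]
  · rw [mul_assoc, ← pow_add]

theorem mul_mem_JJ [IsLocalRing R] (I : Ideal R) (x : R) (s K L M : ℕ) (hK : s ≤ K) (hM : K + L = M)
    {y z : R} (hy : y ∈ JJ I x s K) (hz : z ∈ I ^ L) : y * z ∈ JJ I x s M := by
  subst hM
  exact JJ_mul_le I x s K L hK (Ideal.mul_mem_mul hy hz)

/-- From the relation `(★')` to a reduction: `I^(D+s) = x I^D`. -/
theorem exists_reduction [IsLocalRing R] (a b : R) (p s : ℕ) (w : R) (hs : 1 ≤ s)
    (hw : w ∈ (Ideal.span {a, b}) ^ (s - 1))
    (hrel : a ^ p * (b ^ s + a * w) ∈ maximalIdeal R * (Ideal.span {a, b}) ^ (p + s)) :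
    ∃ (x : R) (D : ℕ), x ∈ (Ideal.span {a, b}) ^ s ∧
      (Ideal.span {a, b}) ^ (D + s) = Ideal.span {x} * (Ideal.span {a, b}) ^ D := by
  set I := Ideal.span ({a, b} : Set R) with hI
  have haI : a ∈ I := Ideal.subset_span (by simp)
  have hbI : b ∈ I := Ideal.subset_span (by simp)
  have hpowI : ∀ (c : R) (k : ℕ), c ∈ I → c ^ k ∈ I ^ k := fun c k hc => Ideal.pow_mem_pow hc k
  have hs1 : s - 1 + 1 = s := by omega
  -- a * I^(s-1) ⊆ I^s
  have haw : ∀ z ∈ I ^ (s - 1), a * z ∈ I ^ s := by
    intro z hz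
    have : a * z ∈ I * I ^ (s - 1) := Ideal.mul_mem_mul haI hz
    rwa [← pow_succ', hs1] at this
  set h := b ^ s + a * w with hh
  set x := a ^ s + h with hx
  set n := s + p with hn
  set v := a ^ (s - 1) + w with hv
  have hn1 : 1 ≤ n := by omega
  have hvI : v ∈ I ^ (s - 1) := Ideal.add_mem _ (hpowI a _ haI) hw
  have hhI : h ∈ I ^ s := Ideal.add_mem _ (hpowI b _ hbI) (haw w hw)
  have hxI : x ∈ I ^ s := Ideal.add_mem _ (hpowI a _ haI) hhI
  have hav : a * v = a ^ s + a * w := by
    rw [hv, mul_add, ← pow_succ', hs1]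
  have hxsub : b ^ s - (-(a * v)) = x := by
    rw [hav, hx, hh]; ring
  -- (F1)
  have hF1 : a ^ n ∈ JJ I x s n := by
    have h1 : a ^ n = x * a ^ p - a ^ p * h := by
      rw [hn, hx, pow_add]; ring
    rw [h1]
    apply Ideal.sub_mem
    · apply Ideal.mem_sup_left
      have : n - s = p := by omega
      rw [this]
      exact Ideal.mul_mem_mul (Ideal.mem_span_singleton_self x) (hpowI a p haI)
    · apply Ideal.mem_sup_right
      have : n = p + s := by omega
      rw [this]
      exact hrel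
  -- (F2)
  have hF2 : b ^ (s * n) ∈ JJ I x s (s * n) := by
    have hsn : s ≤ s * n := Nat.le_mul_of_pos_right s hn1
    have hgeom := geom_sum₂_mul (b ^ s) (-(a * v)) n
    rw [hxsub] at hgeom
    have h1 : b ^ (s * n) =
        (∑ i ∈ Finset.range n, (b ^ s) ^ i * (-(a * v)) ^ (n - 1 - i)) * x + (-(a * v)) ^ n := by
      rw [hgeom, pow_mul]; ring
    rw [h1]
    apply Ideal.add_mem
    · apply Ideal.mem_sup_left
      refine Ideal.mul_mem_mul_rev (Ideal.mem_span_singleton_self x) ?_
      apply Ideal.sum_mem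
      intro i hi
      have hi' : i < n := Finset.mem_range.mp hi
      have h2 : (b ^ s) ^ i ∈ (I ^ s) ^ i := Ideal.pow_mem_pow (hpowI b s hbI) i
      have h3 : (-(a * v)) ^ (n - 1 - i) ∈ (I ^ s) ^ (n - 1 - i) :=
        Ideal.pow_mem_pow (Ideal.neg_mem_iff _ |>.mpr (haw v hvI)) _
      have h4 := Ideal.mul_mem_mul h2 h3
      rw [← pow_add, ← pow_mul] at h4
      have h5 : s * (i + (n - 1 - i)) = s * n - s := by
        have : i + (n - 1 - i) = n - 1 := by omega
        rw [this, Nat.mul_sub_one]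
      rwa [h5] at h4
    · have h2 : (-(a * v)) ^ n = a ^ n * ((-1) ^ n * v ^ n) := by
        rw [neg_pow, mul_pow]; ring
      rw [h2]
      refine mul_mem_JJ I x s n ((s - 1) * n) (s * n) (by omega) ?_ hF1 ?_
      · have : s * n = (s - 1 + 1) * n := by rw [hs1]
        rw [this]; ring
      · refine Ideal.mul_mem_left _ _ ?_
        have := Ideal.pow_mem_pow hvI n
        rwa [← pow_mul] at this
  -- (F3)
  set N := 2 * (s * n) with hN
  have hsN : s ≤ N := by
    have : s ≤ s * n := Nat.le_mul_of_pos_right s hn1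
    omega
  have hF3 : I ^ N ≤ JJ I x s N := by
    apply pow_pair_le
    intro i hi
    by_cases hin : n ≤ i
    · have h1 : a ^ i * b ^ (N - i) = a ^ n * (a ^ (i - n) * b ^ (N - i)) := by
        rw [← mul_assoc, ← pow_add]
        congr 2
        omega
      rw [h1]
      refine mul_mem_JJ I x s n (N - n) N (by omega) (by omega) hF1 ?_
      have h2 := Ideal.mul_mem_mul (hpowI a (i - n) haI) (hpowI b (N - i) hbI)
      rw [← pow_add] at h2
      have : i - n + (N - i) = N - n := by omega
      rwa [this] at h2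
    · have hnsn : n ≤ s * n := Nat.le_mul_of_pos_left n hs
      have h0 : s * n ≤ N - i := by omega
      have h1 : a ^ i * b ^ (N - i) = b ^ (s * n) * (a ^ i * b ^ (N - i - s * n)) := by
        have : b ^ (N - i) = b ^ (s * n) * b ^ (N - i - s * n) := by
          rw [← pow_add]
          congr 1
          omega
        rw [this]; ring
      rw [h1]
      have hsn : s ≤ s * n := Nat.le_mul_of_pos_right s hn1
      refine mul_mem_JJ I x s (s * n) (N - s * n) N hsn (by omega) hF2 ?_
      have h2 := Ideal.mul_mem_mul (hpowI a i haI) (hpowI b (N - i - s * n) hbI)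
      rw [← pow_add] at h2
      have : i + (N - i - s * n) = N - s * n := by omega
      rwa [this] at h2
  -- (F4) Nakayama
  have hfg : (I ^ N).FG := by
    apply Ideal.FG.pow
    exact Submodule.fg_span (Set.toFinite _)
  have hF4 : I ^ N ≤ Ideal.span {x} * I ^ (N - s) := by
    refine Submodule.le_of_le_smul_of_le_jacobson_bot (I := maximalIdeal R) hfg
      (IsLocalRing.maximalIdeal_le_jacobson ⊥) ?_
    rw [Ideal.smul_eq_mul]
    exact hF3
  refine ⟨x, N - s, hxI, ?_⟩
  have hNs : N - s + s = N := by omega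
  rw [hNs]
  apply le_antisymm hF4
  calc Ideal.span {x} * I ^ (N - s) ≤ I ^ s * I ^ (N - s) := by
        apply Ideal.mul_mono_left
        rw [Ideal.span_singleton_le_iff_mem]
        exact hxI
    _ = I ^ N := by
        rw [← pow_add]
        congr 1
        omega

/-- The reduction element is a nonzerodivisor as soon as `a` is. -/
theorem reduction_mem_nonZeroDivisors (a b x : R) (s D : ℕ) (ha : a ∈ nonZeroDivisors R)
    (hred : (Ideal.span {a, b}) ^ (D + s) = Ideal.span {x} * (Ideal.span {a, b}) ^ D) :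
    x ∈ nonZeroDivisors R := by
  rw [mem_nonZeroDivisors_iff_right]
  intro y hy
  have h1 : a ^ (D + s) ∈ Ideal.span {x} * (Ideal.span {a, b}) ^ D := by
    rw [← hred]
    exact Ideal.pow_mem_pow (Ideal.subset_span (by simp)) _
  obtain ⟨z, -, hz⟩ := Ideal.mem_span_singleton_mul.mp h1
  have h2 : y * a ^ (D + s) = 0 := by
    rw [← hz, ← mul_assoc, hy, zero_mul]
  exact (mul_right_mem_nonZeroDivisors_eq_zero_iff (pow_mem ha _)).mp h2

end Part3

section Part4

open IsLocalRing

variable {R : Type u} [CommRing R]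

/-- The ring `(N : N)` of multipliers of an `R`-submodule `N` of an `R`-algebra `Q`. -/
def stabRing (Q : Type u) [CommRing Q] [Algebra R Q] (N : Submodule R Q) : Subalgebra R Q where
  carrier := {q | ∀ z ∈ N, q * z ∈ N}
  mul_mem' := fun {q q'} hq hq' z hz => by rw [mul_assoc]; exact hq _ (hq' z hz)
  one_mem' := fun z hz => by rwa [one_mul]
  add_mem' := fun {q q'} hq hq' z hz => by rw [add_mul]; exact N.add_mem (hq z hz) (hq' z hz)
  zero_mem' := fun z hz => by rw [zero_mul]; exact N.zero_mem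
  algebraMap_mem' := fun r z hz => by rw [← Algebra.smul_def]; exact N.smul_mem r hz

theorem mem_stabRing {Q : Type u} [CommRing Q] [Algebra R Q] (N : Submodule R Q) (q : Q) :
    q ∈ stabRing Q N ↔ ∀ z ∈ N, q * z ∈ N := Iff.rfl

/-- A power of the maximal ideal lies in `(c)` for a nonzerodivisor `c` of a one-dimensional
Noetherian local ring. -/
theorem exists_pow_maximalIdeal_le_span [IsNoetherianRing R] [IsLocalRing R]
    (hR : ringKrullDim R = 1) (c : R) (hc : c ∈ nonZeroDivisors R) :
    ∃ k : ℕ, maximalIdeal R ^ k ≤ Ideal.span {c} := by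
  by_cases hu : IsUnit c
  · exact ⟨0, by rw [Ideal.span_singleton_eq_top.mpr hu]; exact le_top⟩
  set J := Ideal.span ({c} : Set R) with hJ
  have hJm : J ≤ maximalIdeal R := by
    rw [hJ, Ideal.span_singleton_le_iff_mem]
    exact (IsLocalRing.mem_maximalIdeal c).mpr hu
  have hJtop : J ≠ ⊤ := fun h => (IsLocalRing.maximalIdeal.isMaximal R).ne_top
    (top_le_iff.mp (h ▸ hJm))
  haveI : Nontrivial (R ⧸ J) := Ideal.Quotient.nontrivial_iff.mpr hJtop
  haveI : IsLocalRing (R ⧸ J) :=
    IsLocalRing.of_surjective' (Ideal.Quotient.mk J) Ideal.Quotient.mk_surjective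
  have hfin : Module.length R (R ⧸ J) ≠ ⊤ :=
    Groth.Agent.S9160.finlen R hR c (isRegular_iff_mem_nonZeroDivisors.mpr hc)
  have hfl : IsFiniteLength R (R ⧸ J) := Module.length_ne_top_iff.mp hfin
  obtain ⟨-, hart⟩ := isFiniteLength_iff_isNoetherian_isArtinian.mp hfl
  haveI : IsArtinianRing (R ⧸ J) := isArtinian_of_tower R hart
  obtain ⟨k, hk⟩ := IsArtinianRing.isNilpotent_jacobson_bot (R := R ⧸ J)
  rw [IsLocalRing.jacobson_eq_maximalIdeal ⊥ bot_ne_top] at hk
  refine ⟨k, ?_⟩
  have h1 : (maximalIdeal (R ⧸ J)).comap (Ideal.Quotient.mk J) = maximalIdeal R :=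
    IsLocalRing.eq_maximalIdeal
      (Ideal.comap_isMaximal_of_surjective _ Ideal.Quotient.mk_surjective)
  have h2 : (maximalIdeal R).map (Ideal.Quotient.mk J) ≤ maximalIdeal (R ⧸ J) := by
    rw [Ideal.map_le_iff_le_comap, h1]
  have h3 : (maximalIdeal R ^ k).map (Ideal.Quotient.mk J) ≤ ⊥ := by
    rw [Ideal.map_pow, ← Ideal.zero_eq_bot, ← hk]
    exact Ideal.pow_right_mono h2 k
  have h4 := Ideal.map_le_iff_le_comap.mp h3
  rwa [← RingHom.ker_eq_comap_bot, Ideal.mk_ker] at h4

section Stab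

variable (Q : Type u) [CommRing Q] [Algebra R Q] [IsFractionRing R Q]

/-- The inverse in `Q` of a nonzerodivisor of `R`. -/
noncomputable def invQ (c : R) (hc : c ∈ nonZeroDivisors R) : Qˣ :=
  (IsLocalization.map_units Q (⟨c, hc⟩ : nonZeroDivisors R)).unit

theorem invQ_val (c : R) (hc : c ∈ nonZeroDivisors R) :
    ((invQ Q c hc : Qˣ) : Q) = algebraMap R Q c := rfl

variable (I : Ideal R) (D s : ℕ) (x : R) (hx : x ∈ nonZeroDivisors R)
  (hred : I ^ (D + s) = Ideal.span {x} * I ^ D)

/-- The image of `I^D` in `Q`. -/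
noncomputable def NN : Submodule R Q := Submodule.map (Algebra.linearMap R Q) (I ^ D)

include hred in
theorem div_mem_stabRing (y : R) (hy : y ∈ I ^ s) :
    algebraMap R Q y * ((invQ Q x hx)⁻¹ : Qˣ) ∈ stabRing Q (NN Q I D) := by
  intro z hz
  obtain ⟨z₀, hz₀, rfl⟩ := hz
  have h1 : y * z₀ ∈ Ideal.span {x} * I ^ D := by
    rw [← hred, add_comm, pow_add]
    exact Ideal.mul_mem_mul hy hz₀
  obtain ⟨z₁, hz₁, hz₁'⟩ := Ideal.mem_span_singleton_mul.mp h1
  refine ⟨z₁, hz₁, ?_⟩
  simp only [Algebra.linearMap_apply]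
  have h2 : algebraMap R Q y * algebraMap R Q z₀ = algebraMap R Q x * algebraMap R Q z₁ := by
    rw [← map_mul, ← map_mul, hz₁']
  calc algebraMap R Q z₁
      = ((invQ Q x hx)⁻¹ : Qˣ) * (algebraMap R Q x * algebraMap R Q z₁) := by
        rw [← mul_assoc, ← invQ_val Q x hx, Units.inv_mul, one_mul]
    _ = algebraMap R Q y * ((invQ Q x hx)⁻¹ : Qˣ) * algebraMap R Q z₀ := by
        rw [← h2]; ring

theorem stabRing_le_span (c : R) (hc : c ∈ nonZeroDivisors R) (hcI : c ∈ I ^ D) :
    Subalgebra.toSubmodule (stabRing Q (NN Q I D)) ≤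
      Submodule.span R {(((invQ Q c hc)⁻¹ : Qˣ) : Q)} := by
  intro q hq
  have h1 : algebraMap R Q c ∈ NN Q I D := ⟨c, hcI, rfl⟩
  obtain ⟨r, -, hr⟩ := hq _ h1
  rw [Submodule.mem_span_singleton]
  refine ⟨r, ?_⟩
  rw [Algebra.smul_def]
  simp only [Algebra.linearMap_apply] at hr
  rw [hr, mul_assoc, ← invQ_val Q c hc, Units.mul_inv, mul_one]

theorem finite_stabRing [IsNoetherianRing R] (c : R) (hc : c ∈ nonZeroDivisors R)
    (hcI : c ∈ I ^ D) : Module.Finite R (stabRing Q (NN Q I D)) := by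
  have hle := stabRing_le_span Q I D c hc hcI
  haveI : IsNoetherian R (Submodule.span R {(((invQ Q c hc)⁻¹ : Qˣ) : Q)}) :=
    isNoetherian_span_of_finite R (Set.finite_singleton _)
  haveI : Module.Finite R (Subalgebra.toSubmodule (stabRing Q (NN Q I D))) :=
    Module.Finite.of_injective (Submodule.inclusion hle) (Submodule.inclusion_injective hle)
  exact Module.Finite.equiv (Subalgebra.toSubmoduleEquiv (stabRing Q (NN Q I D)))

theorem smul_mem_range (c : R) (hc : c ∈ nonZeroDivisors R) (hcI : c ∈ I ^ D)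
    (r : R) (hr : r ∈ Ideal.span ({c} : Set R)) (q : stabRing Q (NN Q I D)) :
    r • q ∈ (algebraMap R (stabRing Q (NN Q I D))).range := by
  obtain ⟨r', rfl⟩ := Ideal.mem_span_singleton'.mp hr
  have h1 := stabRing_le_span Q I D c hc hcI q.2
  obtain ⟨r₀, hr₀⟩ := Submodule.mem_span_singleton.mp h1
  refine ⟨r' * r₀, ?_⟩
  apply Subtype.ext
  rw [Subalgebra.coe_algebraMap, Subalgebra.coe_smul, ← hr₀, Algebra.smul_def, Algebra.smul_def,
    map_mul, map_mul]
  have h2 : algebraMap R Q c * (((invQ Q c hc)⁻¹ : Qˣ) : Q) = 1 := by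
    rw [← invQ_val Q c hc, Units.mul_inv]
  calc algebraMap R Q r' * algebraMap R Q r₀
      = algebraMap R Q r' * algebraMap R Q r₀ *
          (algebraMap R Q c * (((invQ Q c hc)⁻¹ : Qˣ) : Q)) := by rw [h2, mul_one]
    _ = _ := by ring

theorem algebraMap_injective_stabRing :
    Function.Injective (algebraMap R (stabRing Q (NN Q I D))) := by
  intro r r' h
  have h1 : algebraMap R Q r = algebraMap R Q r' := by
    have := congrArg Subtype.val h
    simpa [Subalgebra.coe_algebraMap] using this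
  exact IsFractionRing.injective R Q h1

theorem algebraMap_mem_nonZeroDivisors_stabRing (c : R) (hc : c ∈ nonZeroDivisors R) :
    algebraMap R (stabRing Q (NN Q I D)) c ∈ nonZeroDivisors (stabRing Q (NN Q I D)) := by
  rw [mem_nonZeroDivisors_iff_right]
  intro y hy
  have h1 : (y : Q) * algebraMap R Q c = 0 := by
    have := congrArg Subtype.val hy
    simpa [Subalgebra.coe_algebraMap] using this
  apply Subtype.ext
  have h2 : (y : Q) = (y : Q) * algebraMap R Q c * (((invQ Q c hc)⁻¹ : Qˣ) : Q) := by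
    rw [mul_assoc, ← invQ_val Q c hc, Units.mul_inv, mul_one]
  rw [h2, h1, zero_mul]
  rfl

include hx hred in
theorem map_pow_eq_span (hxI : x ∈ I ^ s) :
    (I ^ s).map (algebraMap R (stabRing Q (NN Q I D))) =
      Ideal.span {algebraMap R (stabRing Q (NN Q I D)) x} := by
  apply le_antisymm
  · rw [Ideal.map_le_iff_le_comap]
    intro y hy
    rw [Ideal.mem_comap, Ideal.mem_span_singleton']
    refine ⟨⟨_, div_mem_stabRing Q I D s x hx hred y hy⟩, ?_⟩
    apply Subtype.ext
    rw [Subalgebra.coe_mul, Subalgebra.coe_algebraMap, Subalgebra.coe_algebraMap]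
    show algebraMap R Q y * (((invQ Q x hx)⁻¹ : Qˣ) : Q) * algebraMap R Q x = algebraMap R Q y
    rw [mul_assoc, ← invQ_val Q x hx, Units.inv_mul, mul_one]
  · rw [Ideal.span_singleton_le_iff_mem]
    exact Ideal.mem_map_of_mem _ hxI

end Stab

end Part4

section Part5

open IsLocalRing

/-- In a ring with finitely many maximal ideals, an ideal a power of which is generated by a
nonzerodivisor is principal. -/
theorem isPrincipal_of_pow_eq_span (R' : Type u) [CommRing R']
    (hf : {I : Ideal R' | I.IsMaximal}.Finite) (𝔞 : Ideal R') (s : ℕ) (hs : 1 ≤ s) (x' : R')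
    (hx' : x' ∈ nonZeroDivisors R') (hpow : 𝔞 ^ s = Ideal.span {x'}) : 𝔞.IsPrincipal := by
  apply Ideal.IsPrincipal.of_finite_maximals_of_isUnit hf
  have h1 : ((𝔞 : FractionalIdeal (nonZeroDivisors R') (FractionRing R'))) ^ s =
      FractionalIdeal.spanSingleton (nonZeroDivisors R') (algebraMap R' (FractionRing R') x') := by
    rw [← FractionalIdeal.coeIdeal_pow, hpow, FractionalIdeal.coeIdeal_span_singleton]
  have hu : IsUnit (algebraMap R' (FractionRing R') x') :=
    IsLocalization.map_units (FractionRing R') (⟨x', hx'⟩ : nonZeroDivisors R')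
  have h2 : IsUnit (FractionalIdeal.spanSingleton (nonZeroDivisors R')
      (algebraMap R' (FractionRing R') x')) := by
    refine IsUnit.of_mul_eq_one (FractionalIdeal.spanSingleton (nonZeroDivisors R')
      ((hu.unit⁻¹ : (FractionRing R')ˣ) : FractionRing R')) ?_
    rw [FractionalIdeal.spanSingleton_mul_spanSingleton]
    have : algebraMap R' (FractionRing R') x' * ((hu.unit⁻¹ : (FractionRing R')ˣ) : FractionRing R')
        = 1 := hu.mul_val_inv
    rw [this, FractionalIdeal.spanSingleton_one]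
  rw [← h1] at h2
  exact (isUnit_pow_iff (by omega)).mp h2

theorem main (R : Type u) [CommRing R] [IsNoetherianRing R] [IsLocalRing R]
    (hR : ringKrullDim R = 1) (a b : R) (ha : a ∈ nonZeroDivisors R)
    (hb : b ∈ nonZeroDivisors R) :
    ∃ (R' : Type u) (_ : CommRing R') (_ : Algebra R R'),
      CycAlg.IsFinExt R R' (IsLocalRing.maximalIdeal R) ∧
      ∃ t a' b' : R', t ∈ nonZeroDivisors R' ∧ a' ∈ nonZeroDivisors R' ∧
        b' ∈ nonZeroDivisors R' ∧ algebraMap R R' a = t * a' ∧ algebraMap R R' b = t * b' ∧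
        Ideal.span {a', b'} = ⊤ := by
  by_cases hau : IsUnit a
  · refine ⟨R, inferInstance, inferInstance, ⟨Function.injective_id, inferInstance, 0, ?_⟩,
      1, a, b, one_mem _, ha, hb, (one_mul _).symm, (one_mul _).symm, ?_⟩
    · intro r _ y
      exact ⟨r • y, rfl⟩
    · rw [Ideal.eq_top_iff_one]
      obtain ⟨u, rfl⟩ := hau
      rw [Ideal.mem_span_pair]
      exact ⟨((u⁻¹ : Rˣ) : R), 0, by simp⟩
  have ham : a ∈ maximalIdeal R := (IsLocalRing.mem_maximalIdeal a).mpr hau
  obtain ⟨p, s, w, hs, hw, hrel⟩ := exists_relation hR a b ha ham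
  obtain ⟨x, D, hxI, hred⟩ := exists_reduction a b p s w hs hw hrel
  have hx : x ∈ nonZeroDivisors R := reduction_mem_nonZeroDivisors a b x s D ha hred
  set I := Ideal.span ({a, b} : Set R) with hI
  have haI : a ∈ I := Ideal.subset_span (by simp)
  have hbI : b ∈ I := Ideal.subset_span (by simp)
  set c := a ^ D with hc
  have hcn : c ∈ nonZeroDivisors R := pow_mem ha D
  have hcI : c ∈ I ^ D := Ideal.pow_mem_pow haI D
  let Q := FractionRing R
  let R' := stabRing Q (NN Q I D)
  haveI hfinR' : Module.Finite R R' := finite_stabRing Q I D c hcn hcI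
  obtain ⟨k, hk⟩ := exists_pow_maximalIdeal_le_span hR c hcn
  have hinj : Function.Injective (algebraMap R R') := algebraMap_injective_stabRing Q I D
  have hFE : CycAlg.IsFinExt R R' (maximalIdeal R) :=
    ⟨hinj, hfinR', k, fun r hr q => smul_mem_range Q I D c hcn hcI r (hk hr) q⟩
  -- finitely many maximal ideals
  haveI : Finite (MaximalSpectrum R') :=
    Finite.of_injective _ (Groth.Agent.Lib.Helper26.FinLocalProd.barMax_injective R R')
  have hfmax : {J : Ideal R' | J.IsMaximal}.Finite := by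
    haveI : Finite {J : Ideal R' // J.IsMaximal} :=
      Finite.of_equiv _ (MaximalSpectrum.equivSubtype R')
    exact Set.finite_coe_iff.mp this
  -- the ideal I R' is principal
  set 𝔞 : Ideal R' := I.map (algebraMap R R') with h𝔞
  have hx' : algebraMap R R' x ∈ nonZeroDivisors R' :=
    algebraMap_mem_nonZeroDivisors_stabRing Q I D x hx
  have hpow : 𝔞 ^ s = Ideal.span {algebraMap R R' x} := by
    rw [h𝔞, ← Ideal.map_pow]
    exact map_pow_eq_span Q I D s x hx hred hxI
  have hprin : 𝔞.IsPrincipal :=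
    isPrincipal_of_pow_eq_span R' hfmax 𝔞 s hs _ hx' hpow
  obtain ⟨t, ht⟩ := hprin.principal
  rw [Ideal.submodule_span_eq] at ht
  have ha𝔞 : algebraMap R R' a ∈ 𝔞 := Ideal.mem_map_of_mem _ haI
  have hb𝔞 : algebraMap R R' b ∈ 𝔞 := Ideal.mem_map_of_mem _ hbI
  rw [ht] at ha𝔞 hb𝔞
  obtain ⟨a', ha'⟩ := Ideal.mem_span_singleton'.mp ha𝔞
  obtain ⟨b', hb'⟩ := Ideal.mem_span_singleton'.mp hb𝔞
  have haR' : algebraMap R R' a ∈ nonZeroDivisors R' :=
    algebraMap_mem_nonZeroDivisors_stabRing Q I D a ha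
  have hbR' : algebraMap R R' b ∈ nonZeroDivisors R' :=
    algebraMap_mem_nonZeroDivisors_stabRing Q I D b hb
  rw [← ha', mul_mem_nonZeroDivisors] at haR'
  rw [← hb', mul_mem_nonZeroDivisors] at hbR'
  have ht𝔞 : t ∈ 𝔞 := by rw [ht]; exact Ideal.mem_span_singleton_self t
  have h𝔞' : 𝔞 = Ideal.span {algebraMap R R' a, algebraMap R R' b} := by
    rw [h𝔞, hI, Ideal.map_span, Set.image_pair]
  rw [h𝔞', Ideal.mem_span_pair] at ht𝔞
  obtain ⟨u, v, huv⟩ := ht𝔞
  refine ⟨R', inferInstance, inferInstance, hFE, t, a', b', haR'.2, haR'.1, hbR'.1,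
    by rw [← ha', mul_comm], by rw [← hb', mul_comm], ?_⟩
  rw [Ideal.eq_top_iff_one, Ideal.mem_span_pair]
  refine ⟨u, v, ?_⟩
  have h1 : t * (u * a' + v * b') = t * 1 := by
    rw [mul_one]
    calc t * (u * a' + v * b') = u * (a' * t) + v * (b' * t) := by ring
      _ = t := by rw [ha', hb', huv]
  have h2 : t * (u * a' + v * b' - 1) = 0 := by rw [mul_sub, h1, sub_self]
  have h3 := (mul_right_mem_nonZeroDivisors_eq_zero_iff haR'.2).mp (by rwa [mul_comm] at h2)
  exact sub_eq_zero.mp h3

end Part5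

end Groth.Agent.Lib.R2H1.CommonFactor
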