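/-
R2H1Factorize (helper1): local factorizations a_i = unit * pi^e after a finite birational extension of a one-dimensional Noetherian local ring (S1836), by a global construction inside the total fraction ring.
Main results: exists_relation / exists_reduction for an arbitrary ideal inside the Jacobson radical, semilocal_relation, semilocal_step ((a,b)R' principal for R semilocal of dimension 1), isFractionRing_subalgebra, relLen (relative length of submodules of Q) with relLen_add, relLen_scal, relLen_scal_eq_of_le (Herbrand invariance), relLen_scal_mul, nu, nu_eq_of_le, nu_mul, comax_descend, step, Mono, Good, good_of_pairwise_comax, decr, key, isFinExt_of_finite_subalgebra, main1836.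
-/
import Mathlib
import Groth.Prelude.Def_CycAlg
import Groth.Agent.S9160
import Groth.Agent.Lib.Helper5IntDim
import Groth.Agent.Lib.Helper26FinLocalProd
import Groth.Agent.Lib.R2H1CommonFactor

set_option autoImplicit false
set_option linter.style.haveILetI false
set_option linter.unusedSectionVars false
universe u

namespace Groth.Agent.Lib.R2H1.Factorize

section Part1

open Groth.Agent.Lib.R2H1.CommonFactor



variable {R : Type u} [CommRing R]

/-- The chain of ideals used in the pigeonhole argument. -/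
noncomputable def chainL (𝔮 : Ideal R) (a b : R) (E : ℕ) : ℕ → Ideal R
  | 0 => 𝔮 * (Ideal.span {a, b}) ^ E
  | (j + 1) => Ideal.span {a ^ (E - j)} * (Ideal.span {a, b}) ^ j ⊔
      𝔮 * (Ideal.span {a, b}) ^ E

theorem chainL_le_succ (𝔮 : Ideal R) (a b : R) (E j : ℕ) (hj : j ≤ E) :
    chainL 𝔮 a b E j ≤ chainL 𝔮 a b E (j + 1) := by
  cases j with
  | zero => exact le_sup_right
  | succ j =>
    simp only [chainL]
    apply sup_le_sup_right
    have h1 : a ^ (E - j) = a ^ (E - (j + 1)) * a := by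
      rw [← pow_succ]
      congr 1
      omega
    rw [h1, ← Ideal.span_singleton_mul_span_singleton, mul_assoc]
    apply Ideal.mul_mono_right
    rw [pow_succ' _ j]
    apply Ideal.mul_mono_left
    rw [Ideal.span_singleton_le_iff_mem]
    exact Ideal.subset_span (by simp)

theorem mono_mem_chainL_succ (𝔮 : Ideal R) (a b : R) (E j : ℕ) :
    a ^ (E - j) * b ^ j ∈ chainL 𝔮 a b E (j + 1) := by
  simp only [chainL]
  apply Ideal.mem_sup_left
  exact Ideal.mul_mem_mul (Ideal.mem_span_singleton_self _)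
    (Ideal.pow_mem_pow (Ideal.subset_span (by simp)) j)

theorem chainL_last_le (𝔮 : Ideal R) (a b : R) (E : ℕ) :
    chainL 𝔮 a b E (E + 1) ≤ (Ideal.span {a, b}) ^ E := by
  simp only [chainL]
  exact sup_le Ideal.mul_le_right Ideal.mul_le_right

/-- Pigeonhole: some monomial `a^(E-j) b^j` lies in the previous ideal of the chain. -/
theorem exists_mono_mem_chainL [IsNoetherianRing R] (hR : ringKrullDim R = 1) (𝔮 : Ideal R)
    (a b : R) (ha : a ∈ nonZeroDivisors R) (ham : a ∈ 𝔮) :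
    ∃ E j : ℕ, j ≤ E ∧ a ^ (E - j) * b ^ j ∈ chainL 𝔮 a b E j := by
  have hfin : Module.length R (R ⧸ Ideal.span ({a} : Set R)) ≠ ⊤ :=
    Groth.Agent.S9160.finlen R hR a (isRegular_iff_mem_nonZeroDivisors.mpr ha)
  obtain ⟨E, hE⟩ := ENat.ne_top_iff_exists.mp hfin
  refine ⟨E, ?_⟩
  by_contra hcon
  push Not at hcon
  set I := Ideal.span ({a, b} : Set R) with hI
  -- finiteness of ℓ(R/I^E)
  have hfinI : Module.length R (R ⧸ I ^ E) ≠ ⊤ := by
    have h1 : Module.length R (R ⧸ Ideal.span ({a ^ E} : Set R)) ≠ ⊤ :=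
      Groth.Agent.S9160.finlen R hR (a ^ E)
        (isRegular_iff_mem_nonZeroDivisors.mpr (pow_mem ha E))
    have h2 : Ideal.span ({a ^ E} : Set R) ≤ I ^ E := by
      rw [Ideal.span_singleton_le_iff_mem]
      exact Ideal.pow_mem_pow (Ideal.subset_span (by simp)) E
    exact ne_top_of_le_ne_top h1 (length_quot_le h2)
  obtain ⟨f, hf⟩ := ENat.ne_top_iff_exists.mp hfinI
  -- the chain inequality
  have hchain : ∀ j : ℕ, j ≤ E + 1 →
      Module.length R (R ⧸ chainL 𝔮 a b E j) + j ≤ Module.length R (R ⧸ chainL 𝔮 a b E 0) := by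
    intro j
    induction j with
    | zero => intro _; simp
    | succ j ih =>
      intro hj
      have hj' : j ≤ E := by omega
      have h1 := ih (by omega)
      have h2 : Module.length R (R ⧸ chainL 𝔮 a b E (j + 1)) + 1 ≤
          Module.length R (R ⧸ chainL 𝔮 a b E j) :=
        length_quot_succ_le (chainL_le_succ 𝔮 a b E j hj') _ (mono_mem_chainL_succ 𝔮 a b E j)
          (hcon j hj')
      calc Module.length R (R ⧸ chainL 𝔮 a b E (j + 1)) + ((j + 1 : ℕ) : ℕ∞)
          = (Module.length R (R ⧸ chainL 𝔮 a b E (j + 1)) + 1) + (j : ℕ∞) := by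
            push_cast; ring
        _ ≤ Module.length R (R ⧸ chainL 𝔮 a b E j) + j := by gcongr
        _ ≤ _ := h1
  have h1 := hchain (E + 1) le_rfl
  have h2 : Module.length R (R ⧸ I ^ E) ≤ Module.length R (R ⧸ chainL 𝔮 a b E (E + 1)) :=
    length_quot_le (chainL_last_le 𝔮 a b E)
  have h3 : Module.length R (R ⧸ chainL 𝔮 a b E 0) ≤
      Module.length R (R ⧸ (Ideal.span {a} * I ^ E)) := by
    apply length_quot_le
    simp only [chainL]
    apply Ideal.mul_mono_left
    rw [Ideal.span_singleton_le_iff_mem]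
    exact ham
  have h4 := length_quot_span_mul a ha (I ^ E)
  have h5 : (f : ℕ∞) + ((E + 1 : ℕ) : ℕ∞) ≤ (f : ℕ∞) + (E : ℕ∞) := by
    calc (f : ℕ∞) + ((E + 1 : ℕ) : ℕ∞)
        = Module.length R (R ⧸ I ^ E) + ((E + 1 : ℕ) : ℕ∞) := by rw [hf]
      _ ≤ Module.length R (R ⧸ chainL 𝔮 a b E (E + 1)) + ((E + 1 : ℕ) : ℕ∞) := by gcongr
      _ ≤ Module.length R (R ⧸ chainL 𝔮 a b E 0) := h1
      _ ≤ Module.length R (R ⧸ (Ideal.span {a} * I ^ E)) := h3
      _ = (f : ℕ∞) + (E : ℕ∞) := by rw [h4, ← hf, ← hE]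
  have h6 : f + (E + 1) ≤ f + E := by exact_mod_cast h5
  omega

/-- The relation `(★')`: `a^p (b^s + a w) ∈ m I^(p+s)` with `s ≥ 1`, `w ∈ I^(s-1)`. -/
theorem exists_relation [IsNoetherianRing R] (hR : ringKrullDim R = 1) (𝔮 : Ideal R)
    (a b : R) (ha : a ∈ nonZeroDivisors R) (ham : a ∈ 𝔮) :
    ∃ (p s : ℕ) (w : R), 1 ≤ s ∧ w ∈ (Ideal.span {a, b}) ^ (s - 1) ∧
      a ^ p * (b ^ s + a * w) ∈ 𝔮 * (Ideal.span {a, b}) ^ (p + s) := by
  obtain ⟨E, j, hj, hmem⟩ := exists_mono_mem_chainL hR 𝔮 a b ha ham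
  set I := Ideal.span ({a, b} : Set R) with hI
  have haI : a ∈ I := Ideal.subset_span (by simp)
  have hbI : b ∈ I := Ideal.subset_span (by simp)
  cases j with
  | zero =>
    simp only [chainL, Nat.sub_zero, pow_zero, mul_one] at hmem
    refine ⟨E, 1, 0, le_rfl, Ideal.zero_mem _, ?_⟩
    simp only [pow_one, mul_zero, add_zero]
    rw [pow_succ, ← mul_assoc]
    exact Ideal.mul_mem_mul hmem hbI
  | succ j =>
    simp only [chainL] at hmem
    obtain ⟨y, hy, μ, hμ, hyμ⟩ := Submodule.mem_sup.mp hmem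
    obtain ⟨w₀, hw₀, rfl⟩ := Ideal.mem_span_singleton_mul.mp hy
    refine ⟨E - (j + 1), j + 1, -w₀, by omega, ?_, ?_⟩
    · simpa using hw₀
    · have h1 : E - (j + 1) + (j + 1) = E := by omega
      rw [h1]
      have h2 : a ^ (E - j) = a ^ (E - (j + 1)) * a := by
        rw [← pow_succ]
        congr 1
        omega
      have h3 : a ^ (E - (j + 1)) * (b ^ (j + 1) + a * -w₀) = μ := by
        have : a ^ (E - (j + 1)) * (b ^ (j + 1) + a * -w₀) =
            a ^ (E - (j + 1)) * b ^ (j + 1) - (a ^ (E - (j + 1)) * a) * w₀ := by ring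
        rw [this, ← h2, ← hyμ]
        ring
      rw [h3]
      exact hμ




variable {R : Type u} [CommRing R]

/-- The graded pieces of the ideal `(x T^s) + m` of the Rees algebra. -/
noncomputable def JJ (𝔮 : Ideal R) (I : Ideal R) (x : R) (s K : ℕ) : Ideal R :=
  Ideal.span {x} * I ^ (K - s) ⊔ 𝔮 * I ^ K

theorem JJ_mul_le (𝔮 : Ideal R) (I : Ideal R) (x : R) (s K L : ℕ) (hK : s ≤ K) :
    JJ 𝔮 I x s K * I ^ L ≤ JJ 𝔮 I x s (K + L) := by
  unfold JJ
  rw [Ideal.sup_mul]
  apply sup_le_sup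
  · rw [mul_assoc, ← pow_add]
    have : K - s + L = K + L - s := by omega
    rw [this]
  · rw [mul_assoc, ← pow_add]

theorem mul_mem_JJ (𝔮 : Ideal R) (I : Ideal R) (x : R) (s K L M : ℕ) (hK : s ≤ K) (hM : K + L = M)
    {y z : R} (hy : y ∈ JJ 𝔮 I x s K) (hz : z ∈ I ^ L) : y * z ∈ JJ 𝔮 I x s M := by
  subst hM
  exact JJ_mul_le 𝔮 I x s K L hK (Ideal.mul_mem_mul hy hz)

/-- From the relation `(★')` to a reduction: `I^(D+s) = x I^D`. -/
theorem exists_reduction (𝔮 : Ideal R) (h𝔮 : 𝔮 ≤ Ideal.jacobson ⊥) (a b : R) (p s : ℕ) (w : R) (hs : 1 ≤ s)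
    (hw : w ∈ (Ideal.span {a, b}) ^ (s - 1))
    (hrel : a ^ p * (b ^ s + a * w) ∈ 𝔮 * (Ideal.span {a, b}) ^ (p + s)) :
    ∃ (x : R) (D : ℕ), x ∈ (Ideal.span {a, b}) ^ s ∧
      (Ideal.span {a, b}) ^ (D + s) = Ideal.span {x} * (Ideal.span {a, b}) ^ D := by
  set I := Ideal.span ({a, b} : Set R) with hI
  have haI : a ∈ I := Ideal.subset_span (by simp)
  have hbI : b ∈ I := Ideal.subset_span (by simp)
  have hpowI : ∀ (c : R) (k : ℕ), c ∈ I → c ^ k ∈ I ^ k := fun c k hc => Ideal.pow_mem_pow hc k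
  have hs1 : s - 1 + 1 = s := by omega
  -- a * I^(s-1) ⊆ I^s
  have haw : ∀ z ∈ I ^ (s - 1), a * z ∈ I ^ s := by
    intro z hz
    have : a * z ∈ I * I ^ (s - 1) := Ideal.mul_mem_mul haI hz
    rwa [← pow_succ', hs1] at this
  set h := b ^ s + a * w with hh
  set x := a ^ s + h with hx
  set n := s + p with hn
  set v := a ^ (s - 1) + w with hv
  have hn1 : 1 ≤ n := by omega
  have hvI : v ∈ I ^ (s - 1) := Ideal.add_mem _ (hpowI a _ haI) hw
  have hhI : h ∈ I ^ s := Ideal.add_mem _ (hpowI b _ hbI) (haw w hw)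
  have hxI : x ∈ I ^ s := Ideal.add_mem _ (hpowI a _ haI) hhI
  have hav : a * v = a ^ s + a * w := by
    rw [hv, mul_add, ← pow_succ', hs1]
  have hxsub : b ^ s - (-(a * v)) = x := by
    rw [hav, hx, hh]; ring
  -- (F1)
  have hF1 : a ^ n ∈ JJ 𝔮 I x s n := by
    have h1 : a ^ n = x * a ^ p - a ^ p * h := by
      rw [hn, hx, pow_add]; ring
    rw [h1]
    apply Ideal.sub_mem
    · apply Ideal.mem_sup_left
      have : n - s = p := by omega
      rw [this]
      exact Ideal.mul_mem_mul (Ideal.mem_span_singleton_self x) (hpowI a p haI)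
    · apply Ideal.mem_sup_right
      have : n = p + s := by omega
      rw [this]
      exact hrel
  -- (F2)
  have hF2 : b ^ (s * n) ∈ JJ 𝔮 I x s (s * n) := by
    have hsn : s ≤ s * n := Nat.le_mul_of_pos_right s hn1
    have hgeom := geom_sum₂_mul (b ^ s) (-(a * v)) n
    rw [hxsub] at hgeom
    have h1 : b ^ (s * n) =
        (∑ i ∈ Finset.range n, (b ^ s) ^ i * (-(a * v)) ^ (n - 1 - i)) * x + (-(a * v)) ^ n := by
      rw [hgeom, pow_mul]; ring
    rw [h1]
    apply Ideal.add_mem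
    · apply Ideal.mem_sup_left
      refine Ideal.mul_mem_mul_rev (Ideal.mem_span_singleton_self x) ?_
      apply Ideal.sum_mem
      intro i hi
      have hi' : i < n := Finset.mem_range.mp hi
      have h2 : (b ^ s) ^ i ∈ (I ^ s) ^ i := Ideal.pow_mem_pow (hpowI b s hbI) i
      have h3 : (-(a * v)) ^ (n - 1 - i) ∈ (I ^ s) ^ (n - 1 - i) :=
        Ideal.pow_mem_pow (Ideal.neg_mem_iff _ |>.mpr (haw v hvI)) _
      have h4 := Ideal.mul_mem_mul h2 h3
      rw [← pow_add, ← pow_mul] at h4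
      have h5 : s * (i + (n - 1 - i)) = s * n - s := by
        have : i + (n - 1 - i) = n - 1 := by omega
        rw [this, Nat.mul_sub_one]
      rwa [h5] at h4
    · have h2 : (-(a * v)) ^ n = a ^ n * ((-1) ^ n * v ^ n) := by
        rw [neg_pow, mul_pow]; ring
      rw [h2]
      refine mul_mem_JJ 𝔮 I x s n ((s - 1) * n) (s * n) (by omega) ?_ hF1 ?_
      · have : s * n = (s - 1 + 1) * n := by rw [hs1]
        rw [this]; ring
      · refine Ideal.mul_mem_left _ _ ?_
        have := Ideal.pow_mem_pow hvI n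
        rwa [← pow_mul] at this
  -- (F3)
  set N := 2 * (s * n) with hN
  have hsN : s ≤ N := by
    have : s ≤ s * n := Nat.le_mul_of_pos_right s hn1
    omega
  have hF3 : I ^ N ≤ JJ 𝔮 I x s N := by
    apply pow_pair_le
    intro i hi
    by_cases hin : n ≤ i
    · have h1 : a ^ i * b ^ (N - i) = a ^ n * (a ^ (i - n) * b ^ (N - i)) := by
        rw [← mul_assoc, ← pow_add]
        congr 2
        omega
      rw [h1]
      refine mul_mem_JJ 𝔮 I x s n (N - n) N (by omega) (by omega) hF1 ?_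
      have h2 := Ideal.mul_mem_mul (hpowI a (i - n) haI) (hpowI b (N - i) hbI)
      rw [← pow_add] at h2
      have : i - n + (N - i) = N - n := by omega
      rwa [this] at h2
    · have hnsn : n ≤ s * n := Nat.le_mul_of_pos_left n hs
      have h0 : s * n ≤ N - i := by omega
      have h1 : a ^ i * b ^ (N - i) = b ^ (s * n) * (a ^ i * b ^ (N - i - s * n)) := by
        have : b ^ (N - i) = b ^ (s * n) * b ^ (N - i - s * n) := by
          rw [← pow_add]
          congr 1
          omega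
        rw [this]; ring
      rw [h1]
      have hsn : s ≤ s * n := Nat.le_mul_of_pos_right s hn1
      refine mul_mem_JJ 𝔮 I x s (s * n) (N - s * n) N hsn (by omega) hF2 ?_
      have h2 := Ideal.mul_mem_mul (hpowI a i haI) (hpowI b (N - i - s * n) hbI)
      rw [← pow_add] at h2
      have : i + (N - i - s * n) = N - s * n := by omega
      rwa [this] at h2
  -- (F4) Nakayama
  have hfg : (I ^ N).FG := by
    apply Ideal.FG.pow
    exact Submodule.fg_span (Set.toFinite _)
  have hF4 : I ^ N ≤ Ideal.span {x} * I ^ (N - s) := by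
    refine Submodule.le_of_le_smul_of_le_jacobson_bot (I := 𝔮) hfg h𝔮 ?_
    rw [Ideal.smul_eq_mul]
    exact hF3
  refine ⟨x, N - s, hxI, ?_⟩
  have hNs : N - s + s = N := by omega
  rw [hNs]
  apply le_antisymm hF4
  calc Ideal.span {x} * I ^ (N - s) ≤ I ^ s * I ^ (N - s) := by
        apply Ideal.mul_mono_left
        rw [Ideal.span_singleton_le_iff_mem]
        exact hxI
    _ = I ^ N := by
        rw [← pow_add]
        congr 1
        omega

end Part1

section Part2

open Groth.Agent.Lib.R2H1.CommonFactor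

variable {R : Type u} [CommRing R]

open Classical in
/-- The intersection of the maximal ideals containing `a`. -/
noncomputable def Jin (hf : {I : Ideal R | I.IsMaximal}.Finite) (a : R) : Ideal R :=
  (hf.toFinset.filter (fun q => a ∈ q)).inf id

open Classical in
/-- The intersection of the maximal ideals not containing `a`. -/
noncomputable def Jout (hf : {I : Ideal R | I.IsMaximal}.Finite) (a : R) : Ideal R :=
  (hf.toFinset.filter (fun q => a ∉ q)).inf id

theorem mem_Jin (hf : {I : Ideal R | I.IsMaximal}.Finite) (a : R) : a ∈ Jin hf a := by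
  classical
  unfold Jin
  rw [Submodule.mem_finsetInf]
  intro q hq
  exact (Finset.mem_filter.mp hq).2

theorem Jin_mul_Jout_le (hf : {I : Ideal R | I.IsMaximal}.Finite) (a : R) :
    Jin hf a * Jout hf a ≤ Ideal.jacobson ⊥ := by
  classical
  unfold Ideal.jacobson
  apply le_sInf
  rintro q ⟨-, hq⟩
  by_cases haq : a ∈ q
  · refine Ideal.mul_le_left.trans ?_
    exact Finset.inf_le (f := id) (Finset.mem_filter.mpr ⟨hf.mem_toFinset.mpr hq, haq⟩)
  · refine Ideal.mul_le_right.trans ?_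
    exact Finset.inf_le (f := id) (Finset.mem_filter.mpr ⟨hf.mem_toFinset.mpr hq, haq⟩)

theorem sup_Jout_eq_top (hf : {I : Ideal R | I.IsMaximal}.Finite) (a : R) (K : Ideal R)
    (hK : ∀ q : Ideal R, q.IsMaximal → K ≤ q → a ∈ q) : K ⊔ Jout hf a = ⊤ := by
  classical
  by_contra hne
  obtain ⟨q, hq, hle⟩ := Ideal.exists_le_maximal _ hne
  have h1 : Jout hf a ≤ q := le_sup_right.trans hle
  unfold Jout at h1
  obtain ⟨q', hq', hq'q⟩ := (Ideal.IsPrime.inf_le' hq.isPrime).mp h1
  obtain ⟨hq'max, haq'⟩ := Finset.mem_filter.mp hq'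
  have hq'max' : q'.IsMaximal := hf.mem_toFinset.mp hq'max
  have : q' = q := hq'max'.eq_of_le hq.ne_top hq'q
  subst this
  exact haq' (hK q' hq (le_sup_left.trans hle))

/-- The relation `(★')` modulo an ideal contained in the Jacobson radical, for a Noetherian ring
of dimension one with finitely many maximal ideals. -/
theorem semilocal_relation [IsNoetherianRing R] (hR : ringKrullDim R = 1)
    (hf : {I : Ideal R | I.IsMaximal}.Finite) (a b : R) (ha : a ∈ nonZeroDivisors R) :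
    ∃ (𝔮 : Ideal R) (p s : ℕ) (w : R), 𝔮 ≤ Ideal.jacobson ⊥ ∧ 1 ≤ s ∧
      w ∈ (Ideal.span {a, b}) ^ (s - 1) ∧
      a ^ p * (b ^ s + a * w) ∈ 𝔮 * (Ideal.span {a, b}) ^ (p + s) := by
  obtain ⟨p, s, w, hs, hw, hrel⟩ := exists_relation hR (Jin hf a) a b ha (mem_Jin hf a)
  set I := Ideal.span ({a, b} : Set R) with hI
  have haI : a ∈ I := Ideal.subset_span (by simp)
  have hbI : b ∈ I := Ideal.subset_span (by simp)
  -- a is a unit modulo Jout
  have h1 : Ideal.span {a} ⊔ Jout hf a = ⊤ := by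
    apply sup_Jout_eq_top
    intro q _ hle
    exact hle (Ideal.mem_span_singleton_self a)
  have h2 : Jin hf a ⊔ Jout hf a = ⊤ := by
    apply sup_Jout_eq_top
    intro q _ hle
    exact hle (mem_Jin hf a)
  obtain ⟨y, hy, θ₁, hθ₁, hyθ⟩ := Submodule.mem_sup.mp ((Ideal.eq_top_iff_one _).mp h1)
  obtain ⟨astar, rfl⟩ := Ideal.mem_span_singleton'.mp hy
  obtain ⟨ε, hε, ε', hε', hεε'⟩ := Submodule.mem_sup.mp ((Ideal.eq_top_iff_one _).mp h2)
  have hs1 : s - 1 + 1 = s := by omega
  have hbs : b ^ s + a * w ∈ I ^ s := by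
    apply Ideal.add_mem _ (Ideal.pow_mem_pow hbI s)
    have : a * w ∈ I * I ^ (s - 1) := Ideal.mul_mem_mul haI hw
    rwa [← pow_succ', hs1] at this
  set θ := 1 - ε * a * astar with hθ
  have hθmem : θ ∈ Jout hf a := by
    have : θ = ε' + ε * θ₁ := by
      rw [hθ]
      linear_combination (-1 : R) * hεε' + (-ε) * hyθ
    rw [this]
    exact Ideal.add_mem _ hε' (Ideal.mul_mem_left _ _ hθ₁)
  refine ⟨Jin hf a * Jout hf a, p, s, w - ε * astar * (b ^ s + a * w), Jin_mul_Jout_le hf a, hs,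
    ?_, ?_⟩
  · apply Ideal.sub_mem _ hw
    apply Ideal.mul_mem_left
    have hle : I ^ s ≤ I ^ (s - 1) := Ideal.pow_le_pow_right (by omega)
    exact hle hbs
  · have h3 : a ^ p * (b ^ s + a * (w - ε * astar * (b ^ s + a * w))) =
        a ^ p * (b ^ s + a * w) * θ := by
      rw [hθ]; ring
    rw [h3, mul_assoc, mul_comm (Jout hf a), ← mul_assoc]
    exact Ideal.mul_mem_mul hrel hθmem

end Part2

section Part3

open Groth.Agent.Lib.R2H1.CommonFactor

/-- The semilocal step: a finite subalgebra `R'` of the total fraction ring in which `(a, b) R'`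
is principal. -/
theorem semilocal_step (R : Type u) [CommRing R] [IsNoetherianRing R] (hR : ringKrullDim R = 1)
    (hf : {I : Ideal R | I.IsMaximal}.Finite)
    (Q : Type u) [CommRing Q] [Algebra R Q] [IsFractionRing R Q]
    (hsl : ∀ R' : Subalgebra R Q, Module.Finite R R' → {I : Ideal R' | I.IsMaximal}.Finite)
    (a b : R) (ha : a ∈ nonZeroDivisors R) :
    ∃ R' : Subalgebra R Q, Module.Finite R R' ∧ ∃ t a' b' u v : Q,
      t ∈ R' ∧ a' ∈ R' ∧ b' ∈ R' ∧ u ∈ R' ∧ v ∈ R' ∧
      algebraMap R Q a = t * a' ∧ algebraMap R Q b = t * b' ∧ u * a' + v * b' = 1 := by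
  obtain ⟨𝔮, p, s, w, h𝔮, hs, hw, hrel⟩ := semilocal_relation hR hf a b ha
  obtain ⟨x, D, hxI, hred⟩ := exists_reduction 𝔮 h𝔮 a b p s w hs hw hrel
  have hx : x ∈ nonZeroDivisors R := reduction_mem_nonZeroDivisors a b x s D ha hred
  set I := Ideal.span ({a, b} : Set R) with hI
  have haI : a ∈ I := Ideal.subset_span (by simp)
  have hbI : b ∈ I := Ideal.subset_span (by simp)
  set c := a ^ D with hc
  have hcn : c ∈ nonZeroDivisors R := pow_mem ha D
  have hcI : c ∈ I ^ D := Ideal.pow_mem_pow haI D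
  let R' := stabRing Q (NN Q I D)
  haveI hfinR' : Module.Finite R R' := finite_stabRing Q I D c hcn hcI
  have hfmax : {J : Ideal R' | J.IsMaximal}.Finite := hsl R' hfinR'
  set 𝔞 : Ideal R' := I.map (algebraMap R R') with h𝔞
  have hx' : algebraMap R R' x ∈ nonZeroDivisors R' :=
    algebraMap_mem_nonZeroDivisors_stabRing Q I D x hx
  have hpow : 𝔞 ^ s = Ideal.span {algebraMap R R' x} := by
    rw [h𝔞, ← Ideal.map_pow]
    exact map_pow_eq_span Q I D s x hx hred hxI
  have hprin : 𝔞.IsPrincipal :=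
    isPrincipal_of_pow_eq_span R' hfmax 𝔞 s hs _ hx' hpow
  obtain ⟨t, ht⟩ := hprin.principal
  rw [Ideal.submodule_span_eq] at ht
  have ha𝔞 : algebraMap R R' a ∈ 𝔞 := Ideal.mem_map_of_mem _ haI
  have hb𝔞 : algebraMap R R' b ∈ 𝔞 := Ideal.mem_map_of_mem _ hbI
  rw [ht] at ha𝔞 hb𝔞
  obtain ⟨a', ha'⟩ := Ideal.mem_span_singleton'.mp ha𝔞
  obtain ⟨b', hb'⟩ := Ideal.mem_span_singleton'.mp hb𝔞
  have haR' : algebraMap R R' a ∈ nonZeroDivisors R' :=
    algebraMap_mem_nonZeroDivisors_stabRing Q I D a ha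
  rw [← ha', mul_mem_nonZeroDivisors] at haR'
  have ht𝔞 : t ∈ 𝔞 := by rw [ht]; exact Ideal.mem_span_singleton_self t
  have h𝔞' : 𝔞 = Ideal.span {algebraMap R R' a, algebraMap R R' b} := by
    rw [h𝔞, hI, Ideal.map_span, Set.image_pair]
  rw [h𝔞', Ideal.mem_span_pair] at ht𝔞
  obtain ⟨u, v, huv⟩ := ht𝔞
  have h1 : t * (u * a' + v * b') = t * 1 := by
    rw [mul_one]
    calc t * (u * a' + v * b') = u * (a' * t) + v * (b' * t) := by ring
      _ = t := by rw [ha', hb', huv]
  have h2 : t * (u * a' + v * b' - 1) = 0 := by rw [mul_sub, h1, sub_self]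
  have h3 := (mul_right_mem_nonZeroDivisors_eq_zero_iff haR'.2).mp (by rwa [mul_comm] at h2)
  have h4 : u * a' + v * b' = 1 := sub_eq_zero.mp h3
  refine ⟨R', hfinR', t, a', b', u, v, t.2, a'.2, b'.2, u.2, v.2, ?_, ?_, ?_⟩
  · have := congrArg Subtype.val ha'
    simp only [Subalgebra.coe_mul, Subalgebra.coe_algebraMap] at this
    rw [← this, mul_comm]
  · have := congrArg Subtype.val hb'
    simp only [Subalgebra.coe_mul, Subalgebra.coe_algebraMap] at this
    rw [← this, mul_comm]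
  · have := congrArg Subtype.val h4
    simpa using this

/-- A subalgebra of the total fraction ring of `A` has the same total fraction ring. -/
theorem isFractionRing_subalgebra (A : Type u) [CommRing A] (Q : Type u) [CommRing Q] [Algebra A Q]
    [IsFractionRing A Q] (B : Subalgebra A Q) : IsFractionRing B Q := by
  have hunitA : ∀ α : A, α ∈ nonZeroDivisors A → IsUnit (algebraMap A Q α) := fun α hα =>
    IsLocalization.map_units Q (⟨α, hα⟩ : nonZeroDivisors A)
  have hnzdB : ∀ y : B, IsUnit (y : Q) → y ∈ nonZeroDivisors B := by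
    intro y hy
    rw [mem_nonZeroDivisors_iff_right]
    intro z hz
    have h1 : (z : Q) * (y : Q) = 0 := by
      have := congrArg Subtype.val hz
      simpa using this
    apply Subtype.ext
    have h2 := hy.mul_left_eq_zero.mp h1
    simpa using h2
  rw [IsFractionRing, isLocalization_iff]
  refine ⟨?_, ?_, ?_⟩
  · rintro ⟨y, hy⟩
    show IsUnit ((y : B) : Q)
    obtain ⟨⟨α, β⟩, hαβ⟩ := IsLocalization.surj (nonZeroDivisors A) (y : Q)
    simp only at hαβ
    have hβu : IsUnit (algebraMap A Q β) := hunitA β β.2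
    have hα : α ∈ nonZeroDivisors A := by
      rw [mem_nonZeroDivisors_iff_right]
      intro γ hγ
      have h1 : (y : Q) * algebraMap A Q γ = 0 := by
        have h2 : (y : Q) * algebraMap A Q γ * algebraMap A Q β = 0 := by
          calc (y : Q) * algebraMap A Q γ * algebraMap A Q β
              = ((y : Q) * algebraMap A Q β) * algebraMap A Q γ := by ring
            _ = algebraMap A Q α * algebraMap A Q γ := by rw [hαβ]
            _ = algebraMap A Q (γ * α) := by rw [map_mul]; ring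
            _ = 0 := by rw [hγ, map_zero]
        exact hβu.mul_left_eq_zero.mp h2
      have h3 : algebraMap A B γ * y = 0 := by
        apply Subtype.ext
        simp only [Subalgebra.coe_mul, Subalgebra.coe_algebraMap, ZeroMemClass.coe_zero]
        rw [mul_comm]; exact h1
      have h4 := (mem_nonZeroDivisors_iff_right.mp hy) _ h3
      have h5 : algebraMap A Q γ = 0 := by
        have := congrArg Subtype.val h4
        simpa using this
      exact (IsFractionRing.injective A Q) (by rw [h5, map_zero])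
    have h6 : (y : Q) = algebraMap A Q α * ((hβu.unit⁻¹ : Qˣ) : Q) := by
      rw [← hαβ, mul_assoc]
      have : algebraMap A Q β * ((hβu.unit⁻¹ : Qˣ) : Q) = 1 := hβu.mul_val_inv
      rw [this, mul_one]
    rw [h6]
    exact (hunitA α hα).mul (Units.isUnit _)
  · intro z
    obtain ⟨⟨α, β⟩, hαβ⟩ := IsLocalization.surj (nonZeroDivisors A) z
    simp only at hαβ
    refine ⟨⟨algebraMap A B α, ⟨algebraMap A B β, hnzdB _ ?_⟩⟩, ?_⟩
    · simpa using hunitA β β.2
    · simpa using hαβ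
  · intro x y hxy
    refine ⟨1, ?_⟩
    have : x = y := Subtype.ext hxy
    rw [this]

end Part3

section Part4

variable {A : Type u} [CommRing A] {Q : Type u} [CommRing Q] [Algebra A Q]

/-- Relative length `ℓ_A(Y/X)` of two `A`-submodules of `Q`. -/
noncomputable def relLen (X Y : Submodule A Q) : ℕ∞ :=
  Module.length A (↥Y ⧸ X.submoduleOf Y)

/-- Multiplication by `c` on submodules. -/
noncomputable def scal (c : Q) (X : Submodule A Q) : Submodule A Q :=
  X.map (LinearMap.mulLeft A c)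

theorem mem_scal (c : Q) (X : Submodule A Q) (z : Q) : z ∈ scal c X ↔ ∃ y ∈ X, c * y = z := by
  unfold scal
  rw [Submodule.mem_map]
  rfl

theorem scal_mono (c : Q) {X Y : Submodule A Q} (h : X ≤ Y) : scal c X ≤ scal c Y :=
  Submodule.map_mono h

theorem scal_scal (c d : Q) (X : Submodule A Q) : scal c (scal d X) = scal (c * d) X := by
  ext z
  simp only [mem_scal]
  constructor
  · rintro ⟨y, ⟨x, hx, rfl⟩, rfl⟩
    exact ⟨x, hx, by ring⟩
  · rintro ⟨x, hx, rfl⟩
    exact ⟨d * x, ⟨x, hx, rfl⟩, by ring⟩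

theorem scal_one (X : Submodule A Q) : scal (1 : Q) X = X := by
  ext z
  simp [mem_scal]

theorem relLen_add {X Y Z : Submodule A Q} (h1 : X ≤ Y) (h2 : Y ≤ Z) :
    relLen X Z = relLen X Y + relLen Y Z := by
  let f : (↥Y ⧸ X.submoduleOf Y) →ₗ[A] (↥Z ⧸ X.submoduleOf Z) :=
    Submodule.mapQ _ _ (Submodule.inclusion h2) (fun y hy => hy)
  let g : (↥Z ⧸ X.submoduleOf Z) →ₗ[A] (↥Z ⧸ Y.submoduleOf Z) :=
    Submodule.mapQ _ _ LinearMap.id (fun z hz => h1 hz)
  have hf : ∀ y : Y, f (Submodule.Quotient.mk y) = Submodule.Quotient.mk (Submodule.inclusion h2 y) :=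
    fun y => rfl
  have hg : ∀ z : Z, g (Submodule.Quotient.mk z) = Submodule.Quotient.mk z := fun z => rfl
  have hfinj : Function.Injective f := by
    rw [injective_iff_map_eq_zero]
    intro y hy
    obtain ⟨y, rfl⟩ := Submodule.Quotient.mk_surjective _ y
    rw [hf, Submodule.Quotient.mk_eq_zero] at hy
    rw [Submodule.Quotient.mk_eq_zero]
    exact hy
  have hgsurj : Function.Surjective g := by
    intro z
    obtain ⟨z, rfl⟩ := Submodule.Quotient.mk_surjective _ z
    exact ⟨Submodule.Quotient.mk z, rfl⟩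
  have hex : Function.Exact f g := by
    intro z
    constructor
    · intro hz
      obtain ⟨z, rfl⟩ := Submodule.Quotient.mk_surjective _ z
      rw [hg, Submodule.Quotient.mk_eq_zero] at hz
      exact ⟨Submodule.Quotient.mk ⟨z.1, hz⟩, rfl⟩
    · rintro ⟨y, rfl⟩
      obtain ⟨y, rfl⟩ := Submodule.Quotient.mk_surjective _ y
      rw [hf, hg, Submodule.Quotient.mk_eq_zero]
      exact y.2
  exact Module.length_eq_add_of_exact f g hfinj hgsurj hex

theorem relLen_le_left {X Y Z : Submodule A Q} (h1 : X ≤ Y) (h2 : Y ≤ Z) :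
    relLen Y Z ≤ relLen X Z := by
  rw [relLen_add h1 h2]; exact le_add_self

theorem relLen_le_right {X Y Z : Submodule A Q} (h1 : X ≤ Y) (h2 : Y ≤ Z) :
    relLen X Y ≤ relLen X Z := by
  rw [relLen_add h1 h2]; exact le_self_add

theorem one_le_relLen {X Y : Submodule A Q} (y : Q) (hy : y ∈ Y) (hyX : y ∉ X) :
    1 ≤ relLen X Y := by
  have h2 : Nontrivial (↥Y ⧸ X.submoduleOf Y) := by
    refine ⟨⟨Submodule.Quotient.mk ⟨y, hy⟩, 0, ?_⟩⟩
    intro h3
    rw [Submodule.Quotient.mk_eq_zero] at h3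
    exact hyX h3
  have h4 : 0 < Module.length A (↥Y ⧸ X.submoduleOf Y) := Module.length_pos_iff.mpr h2
  exact Order.one_le_iff_pos.mpr h4

theorem relLen_scal (u : Qˣ) (X Y : Submodule A Q) :
    relLen (scal (u : Q) X) (scal (u : Q) Y) = relLen X Y := by
  have hinj : Function.Injective (LinearMap.mulLeft A (u : Q)) := by
    intro x y hxy
    exact u.isUnit.mul_right_injective hxy
  let e : ↥Y ≃ₗ[A] ↥(scal (u : Q) Y) := Submodule.equivMapOfInjective _ hinj Y
  have he : ∀ y : Y, ((e y : ↥(scal (u : Q) Y)) : Q) = (u : Q) * (y : Q) := fun y => rfl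
  have hmap : (X.submoduleOf Y).map (e : ↥Y →ₗ[A] ↥(scal (u : Q) Y)) =
      (scal (u : Q) X).submoduleOf (scal (u : Q) Y) := by
    ext z
    constructor
    · rintro ⟨y, hy, rfl⟩
      show ((e y : ↥(scal (u : Q) Y)) : Q) ∈ scal (u : Q) X
      rw [he, mem_scal]
      exact ⟨y, hy, rfl⟩
    · intro hz
      have hz' : (z : Q) ∈ scal (u : Q) X := hz
      obtain ⟨x, hx, hxz⟩ := (mem_scal _ _ _).mp hz'
      obtain ⟨y, hy, hyz⟩ := (mem_scal _ _ _).mp z.2
      have hxy : x = y := u.isUnit.mul_right_injective (hxz.trans hyz.symm)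
      refine ⟨⟨y, hy⟩, ?_, ?_⟩
      · show (y : Q) ∈ X
        rw [← hxy]; exact hx
      · apply Subtype.ext
        show ((e ⟨y, hy⟩ : ↥(scal (u : Q) Y)) : Q) = z
        rw [he]; exact hyz
  exact (Submodule.Quotient.equiv _ _ e hmap).length_eq.symm

/-- Herbrand-type invariance. -/
theorem relLen_scal_eq_of_le {M M' : Submodule A Q} (h : M ≤ M') (hfin : relLen M M' ≠ ⊤) (u : Qˣ)
    (hM : scal (u : Q) M ≤ M) (hM' : scal (u : Q) M' ≤ M') :
    relLen (scal (u : Q) M') M' = relLen (scal (u : Q) M) M := by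
  have h1 : relLen (scal (u : Q) M) M' = relLen (scal (u : Q) M) M + relLen M M' :=
    relLen_add hM h
  have h2 : relLen (scal (u : Q) M) M' =
      relLen (scal (u : Q) M) (scal (u : Q) M') + relLen (scal (u : Q) M') M' :=
    relLen_add (scal_mono _ h) hM'
  rw [relLen_scal] at h2
  rw [h1, add_comm] at h2
  exact (ENat.add_left_injective_of_ne_top hfin (by simpa [add_comm] using h2)).symm

theorem relLen_scal_mul {M : Submodule A Q} (u v : Qˣ) (hu : scal (u : Q) M ≤ M)
    (hv : scal (v : Q) M ≤ M) :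
    relLen (scal ((u : Q) * (v : Q)) M) M = relLen (scal (u : Q) M) M + relLen (scal (v : Q) M) M := by
  have h1 : scal ((u : Q) * (v : Q)) M ≤ scal (u : Q) M := by
    rw [← scal_scal]; exact scal_mono _ hv
  rw [relLen_add h1 hu, ← scal_scal, relLen_scal, add_comm]

/-- The image of `A` in `Q`. -/
noncomputable def baseMod (A : Type u) [CommRing A] (Q : Type u) [CommRing Q] [Algebra A Q] :
    Submodule A Q := LinearMap.range (Algebra.linearMap A Q)

theorem mem_baseMod (z : Q) : z ∈ baseMod A Q ↔ ∃ r : A, algebraMap A Q r = z := by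
  unfold baseMod
  rw [LinearMap.mem_range]
  rfl

theorem relLen_baseMod (hinj : Function.Injective (algebraMap A Q)) (c : A) :
    relLen (scal (algebraMap A Q c) (baseMod A Q)) (baseMod A Q) =
      Module.length A (A ⧸ Ideal.span ({c} : Set A)) := by
  let e : A ≃ₗ[A] ↥(baseMod A Q) := LinearEquiv.ofInjective (Algebra.linearMap A Q) hinj
  have he : ∀ r : A, ((e r : ↥(baseMod A Q)) : Q) = algebraMap A Q r := fun r => rfl
  have hmap : Submodule.map (e : A →ₗ[A] ↥(baseMod A Q)) (Ideal.span ({c} : Set A)) =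
      (scal (algebraMap A Q c) (baseMod A Q)).submoduleOf (baseMod A Q) := by
    ext z
    constructor
    · rintro ⟨r, hr, rfl⟩
      show ((e r : ↥(baseMod A Q)) : Q) ∈ scal _ _
      obtain ⟨r', rfl⟩ := Ideal.mem_span_singleton'.mp hr
      rw [he, mem_scal]
      exact ⟨algebraMap A Q r', (mem_baseMod _).mpr ⟨r', rfl⟩, by rw [map_mul, mul_comm]⟩
    · intro hz
      have hz' : (z : Q) ∈ scal (algebraMap A Q c) (baseMod A Q) := hz
      obtain ⟨y, hy, hyz⟩ := (mem_scal _ _ _).mp hz'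
      obtain ⟨r', rfl⟩ := (mem_baseMod _).mp hy
      refine ⟨r' * c, Ideal.mem_span_singleton'.mpr ⟨r', rfl⟩, ?_⟩
      apply Subtype.ext
      show ((e (r' * c) : ↥(baseMod A Q)) : Q) = z
      rw [he, map_mul, mul_comm]; exact hyz
  exact (Submodule.Quotient.equiv _ _ e hmap).length_eq.symm

end Part4

section Part5

variable {A : Type u} [CommRing A] {Q : Type u} [CommRing Q] [Algebra A Q]

/-- `ν(B, P) = ℓ_A(B / P B)`. -/
noncomputable def nu (B : Subalgebra A Q) (P : Q) : ℕ∞ :=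
  relLen (scal P (Subalgebra.toSubmodule B)) (Subalgebra.toSubmodule B)

theorem baseMod_le (B : Subalgebra A Q) : baseMod A Q ≤ Subalgebra.toSubmodule B := by
  intro z hz
  obtain ⟨r, rfl⟩ := (mem_baseMod z).mp hz
  exact B.algebraMap_mem r

theorem scal_le_self (B : Subalgebra A Q) (P : Q) (hP : P ∈ B) :
    scal P (Subalgebra.toSubmodule B) ≤ Subalgebra.toSubmodule B := by
  intro z hz
  obtain ⟨y, hy, rfl⟩ := (mem_scal _ _ _).mp hz
  exact B.mul_mem hP hy

theorem nu_mul (B : Subalgebra A Q) (u v : Qˣ) (hu : (u : Q) ∈ B) (hv : (v : Q) ∈ B) :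
    nu B ((u : Q) * (v : Q)) = nu B (u : Q) + nu B (v : Q) :=
  relLen_scal_mul u v (scal_le_self B _ hu) (scal_le_self B _ hv)

theorem one_le_nu (B : Subalgebra A Q) (t : Qˣ) (ht : ((t⁻¹ : Qˣ) : Q) ∉ B) :
    1 ≤ nu B (t : Q) := by
  refine one_le_relLen (1 : Q) B.one_mem ?_
  intro h
  obtain ⟨y, hy, hty⟩ := (mem_scal _ _ _).mp h
  have : y = ((t⁻¹ : Qˣ) : Q) := by
    calc y = ((t⁻¹ : Qˣ) : Q) * ((t : Q) * y) := by rw [← mul_assoc, Units.inv_mul, one_mul]
      _ = ((t⁻¹ : Qˣ) : Q) := by rw [hty, mul_one]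
  exact ht (this ▸ hy)

section FR

variable [IsFractionRing A Q]

theorem exists_denominator (B : Subalgebra A Q) [Module.Finite A B] :
    ∃ c : A, c ∈ nonZeroDivisors A ∧
      scal (algebraMap A Q c) (Subalgebra.toSubmodule B) ≤ baseMod A Q := by
  classical
  have hfg : (Subalgebra.toSubmodule B).FG := by
    have h1 : Module.Finite A (Subalgebra.toSubmodule B) :=
      Module.Finite.equiv (Subalgebra.toSubmoduleEquiv B).symm
    exact Module.Finite.iff_fg.mp h1
  obtain ⟨S, hS⟩ := hfg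
  obtain ⟨c, hc⟩ := IsLocalization.exist_integer_multiples_of_finset (nonZeroDivisors A) S
  refine ⟨c, c.2, ?_⟩
  intro z hz
  obtain ⟨y, hy, rfl⟩ := (mem_scal _ _ _).mp hz
  rw [← hS] at hy
  refine Submodule.span_induction ?_ ?_ ?_ ?_ hy
  · intro x hx
    obtain ⟨r, hr⟩ := hc x hx
    rw [mem_baseMod]
    exact ⟨r, by rw [hr, Algebra.smul_def]⟩
  · rw [mul_zero]; exact Submodule.zero_mem _
  · intro x y _ _ hx hy
    rw [mul_add]; exact Submodule.add_mem _ hx hy
  · intro r x _ hx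
    rw [mul_smul_comm]; exact Submodule.smul_mem _ r hx

theorem relLen_ne_top_of_finite [IsNoetherianRing A] (hA : ringKrullDim A = 1)
    (B B' : Subalgebra A Q) (hBB' : B ≤ B') [Module.Finite A B'] :
    relLen (Subalgebra.toSubmodule B) (Subalgebra.toSubmodule B') ≠ ⊤ := by
  obtain ⟨c, hc, hcB'⟩ := exists_denominator B'
  have hcu : IsUnit (algebraMap A Q c) :=
    IsLocalization.map_units Q (⟨c, hc⟩ : nonZeroDivisors A)
  set uc := hcu.unit with huc
  have hucv : (uc : Q) = algebraMap A Q c := rfl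
  have h1 : Subalgebra.toSubmodule B' ≤ scal ((uc⁻¹ : Qˣ) : Q) (baseMod A Q) := by
    intro z hz
    rw [mem_scal]
    refine ⟨algebraMap A Q c * z, hcB' ((mem_scal _ _ _).mpr ⟨z, hz, rfl⟩), ?_⟩
    rw [← mul_assoc, ← hucv, Units.inv_mul, one_mul]
  have h2 : relLen (Subalgebra.toSubmodule B) (Subalgebra.toSubmodule B') ≤
      relLen (baseMod A Q) (scal ((uc⁻¹ : Qˣ) : Q) (baseMod A Q)) :=
    (relLen_le_left (baseMod_le B) hBB').trans (relLen_le_right (baseMod_le B') h1)
  have h3 : relLen (baseMod A Q) (scal ((uc⁻¹ : Qˣ) : Q) (baseMod A Q)) =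
      Module.length A (A ⧸ Ideal.span ({c} : Set A)) := by
    rw [← relLen_scal uc, scal_scal, Units.mul_inv, scal_one, hucv,
      relLen_baseMod (IsFractionRing.injective A Q)]
  rw [h3] at h2
  exact ne_top_of_le_ne_top
    (Groth.Agent.S9160.finlen A hA c (isRegular_iff_mem_nonZeroDivisors.mpr hc)) h2

theorem nu_eq_of_le [IsNoetherianRing A] (hA : ringKrullDim A = 1)
    (B B' : Subalgebra A Q) (hBB' : B ≤ B') [Module.Finite A B'] (P : Qˣ) (hP : (P : Q) ∈ B) :
    nu B' (P : Q) = nu B (P : Q) :=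
  relLen_scal_eq_of_le hBB' (relLen_ne_top_of_finite hA B B' hBB') P (scal_le_self B _ hP)
    (scal_le_self B' _ (hBB' hP))

theorem nu_bot_ne_top [IsNoetherianRing A] (hA : ringKrullDim A = 1) (α : A)
    (hα : α ∈ nonZeroDivisors A) : nu (⊥ : Subalgebra A Q) (algebraMap A Q α) ≠ ⊤ := by
  have h1 : Subalgebra.toSubmodule (⊥ : Subalgebra A Q) = baseMod A Q := by
    ext z
    rw [Subalgebra.mem_toSubmodule, Algebra.mem_bot, mem_baseMod]
    rfl
  unfold nu
  rw [h1, relLen_baseMod (IsFractionRing.injective A Q)]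
  exact Groth.Agent.S9160.finlen A hA α (isRegular_iff_mem_nonZeroDivisors.mpr hα)

end FR

end Part5

section Part6

variable {A : Type u} [CommRing A] {Q : Type u} [CommRing Q] [Algebra A Q]

/-- Comaximality inside a subalgebra. -/
def Comax (B : Subalgebra A Q) (y₁ y₂ : Q) : Prop :=
  ∃ u v : Q, u ∈ B ∧ v ∈ B ∧ u * y₁ + v * y₂ = 1

theorem mem_nonZeroDivisors_of_isUnit_coe (B : Subalgebra A Q) (y : B) (hy : IsUnit (y : Q)) :
    y ∈ nonZeroDivisors B := by
  rw [mem_nonZeroDivisors_iff_right]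
  intro z hz
  have h1 : (z : Q) * (y : Q) = 0 := by
    have := congrArg Subtype.val hz
    simpa using this
  apply Subtype.ext
  have h2 := hy.mul_left_eq_zero.mp h1
  simpa using h2

/-- Comaximality descends along a finite extension (Nakayama). -/
theorem comax_descend (B B' : Subalgebra A Q) (hBB' : B ≤ B') [Module.Finite A B'] (y₁ y₂ : Q)
    (h₁ : y₁ ∈ B) (h₂ : y₂ ∈ B) (h : Comax B' y₁ y₂) : Comax B y₁ y₂ := by
  obtain ⟨u, v, hu, hv, huv⟩ := h
  let N : Submodule B Q :=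
    { carrier := B'
      add_mem' := fun hx hy => B'.add_mem hx hy
      zero_mem' := B'.zero_mem
      smul_mem' := fun c x hx => B'.mul_mem (hBB' c.2) hx }
  have hN : ∀ x : Q, x ∈ N ↔ x ∈ B' := fun x => Iff.rfl
  have hfg : N.FG := by
    have h1 : Module.Finite A (Subalgebra.toSubmodule B') :=
      Module.Finite.equiv (Subalgebra.toSubmoduleEquiv B').symm
    obtain ⟨S, hS⟩ := Module.Finite.iff_fg.mp h1
    refine ⟨S, le_antisymm ?_ ?_⟩
    · rw [Submodule.span_le]
      intro x hx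
      have : x ∈ Subalgebra.toSubmodule B' := by rw [← hS]; exact Submodule.subset_span hx
      exact this
    · intro x hx
      have h2 : x ∈ Submodule.span A (S : Set Q) := by rw [hS]; exact hx
      exact Submodule.span_le_restrictScalars A B (S : Set Q) h2
  let I : Ideal B := Ideal.span {⟨y₁, h₁⟩, ⟨y₂, h₂⟩}
  have hle : N ≤ I • N := by
    intro n hn
    have h1 : n = (⟨y₁, h₁⟩ : B) • (u * n) + (⟨y₂, h₂⟩ : B) • (v * n) := by
      show n = y₁ * (u * n) + y₂ * (v * n)
      calc n = (u * y₁ + v * y₂) * n := by rw [huv, one_mul]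
        _ = _ := by ring
    rw [h1]
    apply Submodule.add_mem
    · exact Submodule.smul_mem_smul (Ideal.subset_span (by simp)) (B'.mul_mem hu hn)
    · exact Submodule.smul_mem_smul (Ideal.subset_span (by simp)) (B'.mul_mem hv hn)
  obtain ⟨r, hr, hr0⟩ := Submodule.exists_sub_one_mem_and_smul_eq_zero_of_fg_of_le_smul I N hfg hle
  have h1 : (r : Q) = 0 := by
    have := hr0 1 B'.one_mem
    have h2 : r • (1 : Q) = (r : Q) * 1 := rfl
    rw [h2, mul_one] at this
    exact this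
  have h2 : r = 0 := Subtype.ext h1
  rw [h2, zero_sub, neg_mem_iff] at hr
  obtain ⟨u', v', huv'⟩ := Ideal.mem_span_pair.mp hr
  refine ⟨u', v', u'.2, v'.2, ?_⟩
  have := congrArg Subtype.val huv'
  simpa using this

/-- The step of the construction at the level of subalgebras of `Q`. -/
theorem step (A : Type u) [CommRing A] [IsNoetherianRing A] [IsLocalRing A]
    (hA : ringKrullDim A = 1) (Q : Type u) [CommRing Q] [Algebra A Q] [IsFractionRing A Q]
    (B : Subalgebra A Q) [Module.Finite A B] (y₁ y₂ : Q) (h₁ : y₁ ∈ B) (h₂ : y₂ ∈ B)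
    (hu₁ : IsUnit y₁) :
    ∃ B' : Subalgebra A Q, B ≤ B' ∧ Module.Finite A B' ∧ ∃ t a' b' u v : Q,
      t ∈ B' ∧ a' ∈ B' ∧ b' ∈ B' ∧ u ∈ B' ∧ v ∈ B' ∧ y₁ = t * a' ∧ y₂ = t * b' ∧
      u * a' + v * b' = 1 := by
  haveI : IsNoetherian A B := isNoetherian_of_isNoetherianRing_of_finite A B
  haveI : IsNoetherianRing B := isNoetherian_of_tower A (inferInstance : IsNoetherian A B)
  have hinj : Function.Injective (algebraMap A B) := by
    intro r r' h
    have h1 : algebraMap A Q r = algebraMap A Q r' := by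
      have := congrArg Subtype.val h
      simpa using this
    exact IsFractionRing.injective A Q h1
  haveI : Algebra.IsIntegral A B := Algebra.IsIntegral.of_finite A B
  have hdim : ringKrullDim B = 1 :=
    (Groth.Agent.Lib.Helper5.ringKrullDim_eq_of_isIntegral_of_injective A B hinj).trans hA
  have hf : {I : Ideal B | I.IsMaximal}.Finite := by
    haveI : Finite (MaximalSpectrum B) :=
      Finite.of_injective _ (Groth.Agent.Lib.Helper26.FinLocalProd.barMax_injective A B)
    haveI : Finite {J : Ideal B // J.IsMaximal} :=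
      Finite.of_equiv _ (MaximalSpectrum.equivSubtype B)
    exact Set.finite_coe_iff.mp this
  haveI : IsFractionRing B Q := isFractionRing_subalgebra A Q B
  have hsl : ∀ R' : Subalgebra B Q, Module.Finite B R' → {I : Ideal R' | I.IsMaximal}.Finite := by
    intro R' hR'
    haveI := hR'
    haveI : Module.Finite A R' := Module.Finite.trans B R'
    haveI : Finite (MaximalSpectrum R') :=
      Finite.of_injective _ (Groth.Agent.Lib.Helper26.FinLocalProd.barMax_injective A R')
    haveI : Finite {J : Ideal R' // J.IsMaximal} :=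
      Finite.of_equiv _ (MaximalSpectrum.equivSubtype R')
    exact Set.finite_coe_iff.mp this
  obtain ⟨R', hR'fin, t, a', b', u, v, ht, ha', hb', hu, hv, e1, e2, e3⟩ :=
    semilocal_step B hdim hf Q hsl ⟨y₁, h₁⟩ ⟨y₂, h₂⟩
      (mem_nonZeroDivisors_of_isUnit_coe B ⟨y₁, h₁⟩ hu₁)
  refine ⟨R'.restrictScalars A, ?_, ?_, t, a', b', u, v, ht, ha', hb', hu, hv, e1, e2, e3⟩
  · intro y hy
    exact R'.algebraMap_mem ⟨y, hy⟩
  · haveI := hR'fin
    haveI : Module.Finite A R' := Module.Finite.trans B R'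
    let e : R' ≃ₗ[A] (R'.restrictScalars A) :=
      { toFun := fun x => ⟨x.1, x.2⟩
        invFun := fun x => ⟨x.1, x.2⟩
        left_inv := fun x => rfl
        right_inv := fun x => rfl
        map_add' := fun x y => rfl
        map_smul' := fun r x => rfl }
    exact Module.Finite.equiv e

end Part6

section Part7

variable {A : Type u} [CommRing A] {Q : Type u} [CommRing Q] [Algebra A Q]

/-- `y` is a unit times a power of `π` in the localization of `B` at `q`. -/
def Mono (B : Subalgebra A Q) (q : MaximalSpectrum B) (π : Localization.AtPrime q.asIdeal)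
    (y : Q) : Prop :=
  ∃ (hy : y ∈ B) (v : (Localization.AtPrime q.asIdeal)ˣ) (e : ℕ),
    algebraMap B (Localization.AtPrime q.asIdeal) ⟨y, hy⟩ =
      (v : Localization.AtPrime q.asIdeal) * π ^ e

/-- The conclusion: at every maximal ideal all elements of `L` are monomials in one `π`. -/
def Good (B : Subalgebra A Q) (L : Multiset Q) : Prop :=
  ∀ q : MaximalSpectrum B, ∃ π : Localization.AtPrime q.asIdeal,
    π ∈ nonZeroDivisors (Localization.AtPrime q.asIdeal) ∧ ∀ y ∈ L, Mono B q π y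

theorem Mono.mul {B : Subalgebra A Q} {q : MaximalSpectrum B}
    {π : Localization.AtPrime q.asIdeal} {y y' : Q} (h : Mono B q π y) (h' : Mono B q π y') :
    Mono B q π (y * y') := by
  obtain ⟨hy, v, e, hv⟩ := h
  obtain ⟨hy', v', e', hv'⟩ := h'
  refine ⟨B.mul_mem hy hy', v * v', e + e', ?_⟩
  have : (⟨y * y', B.mul_mem hy hy'⟩ : B) = ⟨y, hy⟩ * ⟨y', hy'⟩ := rfl
  rw [this, map_mul, hv, hv', pow_add, Units.val_mul]
  ring

theorem Mono.of_notMem {B : Subalgebra A Q} {q : MaximalSpectrum B}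
    (π : Localization.AtPrime q.asIdeal) {y : Q} (hy : y ∈ B)
    (hq : (⟨y, hy⟩ : B) ∉ q.asIdeal) : Mono B q π y := by
  have hu : IsUnit (algebraMap B (Localization.AtPrime q.asIdeal) ⟨y, hy⟩) :=
    IsLocalization.map_units (Localization.AtPrime q.asIdeal)
      (⟨⟨y, hy⟩, hq⟩ : q.asIdeal.primeCompl)
  exact ⟨hy, hu.unit, 0, by rw [pow_zero, mul_one]; rfl⟩

theorem Mono.self {B : Subalgebra A Q} {q : MaximalSpectrum B} {y : Q} (hy : y ∈ B) :
    Mono B q (algebraMap B (Localization.AtPrime q.asIdeal) ⟨y, hy⟩) y :=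
  ⟨hy, 1, 1, by rw [pow_one, Units.val_one, one_mul]⟩

/-- If `y y'` is a monomial and `y, y'` are comaximal then both are monomials. -/
theorem Mono.of_mul_of_comax {B : Subalgebra A Q} {q : MaximalSpectrum B}
    {π : Localization.AtPrime q.asIdeal} {y y' : Q} (hy : y ∈ B) (hy' : y' ∈ B)
    (hc : Comax B y y') (h : Mono B q π (y * y')) : Mono B q π y ∧ Mono B q π y' := by
  obtain ⟨u, v, hu, hv, huv⟩ := hc
  obtain ⟨hyy', w, e, hw⟩ := h
  set φ := algebraMap B (Localization.AtPrime q.asIdeal) with hφ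
  have h1 : φ ⟨u, hu⟩ * φ ⟨y, hy⟩ + φ ⟨v, hv⟩ * φ ⟨y', hy'⟩ = 1 := by
    rw [← map_mul, ← map_mul, ← map_add, ← map_one φ]
    congr 1
    exact Subtype.ext huv
  have h2 : φ ⟨y, hy⟩ * φ ⟨y', hy'⟩ = (w : Localization.AtPrime q.asIdeal) * π ^ e := by
    rw [← map_mul, ← hw]
    rfl
  rcases IsLocalRing.isUnit_or_isUnit_of_add_one h1 with h3 | h3
  · have h4 : IsUnit (φ ⟨y, hy⟩) := isUnit_of_mul_isUnit_right h3
    refine ⟨⟨hy, h4.unit, 0, by rw [pow_zero, mul_one]; rfl⟩, hy', h4.unit⁻¹ * w, e, ?_⟩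
    have h5 : φ ⟨y', hy'⟩ = ((h4.unit⁻¹ : (Localization.AtPrime q.asIdeal)ˣ) :
        Localization.AtPrime q.asIdeal) * (φ ⟨y, hy⟩ * φ ⟨y', hy'⟩) := by
      rw [← mul_assoc]
      have : ((h4.unit⁻¹ : (Localization.AtPrime q.asIdeal)ˣ) :
          Localization.AtPrime q.asIdeal) * φ ⟨y, hy⟩ = 1 := h4.val_inv_mul
      rw [this, one_mul]
    rw [h5, h2, Units.val_mul, mul_assoc]
  · have h4 : IsUnit (φ ⟨y', hy'⟩) := isUnit_of_mul_isUnit_right h3
    refine ⟨⟨hy, h4.unit⁻¹ * w, e, ?_⟩, hy', h4.unit, 0, by rw [pow_zero, mul_one]; rfl⟩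
    have h5 : φ ⟨y, hy⟩ = ((h4.unit⁻¹ : (Localization.AtPrime q.asIdeal)ˣ) :
        Localization.AtPrime q.asIdeal) * (φ ⟨y, hy⟩ * φ ⟨y', hy'⟩) := by
      rw [mul_comm (φ ⟨y, hy⟩), ← mul_assoc]
      have : ((h4.unit⁻¹ : (Localization.AtPrime q.asIdeal)ˣ) :
          Localization.AtPrime q.asIdeal) * φ ⟨y', hy'⟩ = 1 := h4.val_inv_mul
      rw [this, one_mul]
    rw [h5, h2, Units.val_mul, mul_assoc]

/-- Base case: pairwise comaximal elements. -/
theorem good_of_pairwise_comax (B : Subalgebra A Q) (L : Multiset Q)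
    (hL : ∀ y ∈ L, y ∈ B ∧ IsUnit y)
    (hpair : ∀ (y₁ y₂ : Q) (L' : Multiset Q), L = y₁ ::ₘ y₂ ::ₘ L' → Comax B y₁ y₂) :
    Good B L := by
  intro q
  by_cases hex : ∃ y₁ ∈ L, ∃ hy : y₁ ∈ B, (⟨y₁, hy⟩ : B) ∈ q.asIdeal
  · obtain ⟨y₁, hy₁L, hy₁, hy₁q⟩ := hex
    refine ⟨algebraMap B (Localization.AtPrime q.asIdeal) ⟨y₁, hy₁⟩, ?_, ?_⟩
    · have h1 : (⟨y₁, hy₁⟩ : B) ∈ nonZeroDivisors B :=
        mem_nonZeroDivisors_of_isUnit_coe B ⟨y₁, hy₁⟩ (hL y₁ hy₁L).2
      exact IsLocalization.map_nonZeroDivisors_le q.asIdeal.primeCompl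
        (Localization.AtPrime q.asIdeal) (Submonoid.mem_map_of_mem _ h1)
    · obtain ⟨L₁, rfl⟩ := Multiset.exists_cons_of_mem hy₁L
      intro y hy
      rcases Multiset.mem_cons.mp hy with rfl | hy
      · exact Mono.self hy₁
      · obtain ⟨L₂, rfl⟩ := Multiset.exists_cons_of_mem hy
        have hyB : y ∈ B := (hL y (by simp)).1
        have hc := hpair y₁ y L₂ rfl
        apply Mono.of_notMem _ hyB
        intro hyq
        obtain ⟨u, v, hu, hv, huv⟩ := hc
        have h1 : (1 : B) ∈ q.asIdeal := by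
          have : (1 : B) = ⟨u, hu⟩ * ⟨y₁, hy₁⟩ + ⟨v, hv⟩ * ⟨y, hyB⟩ := Subtype.ext huv.symm
          rw [this]
          exact Ideal.add_mem _ (Ideal.mul_mem_left _ _ hy₁q) (Ideal.mul_mem_left _ _ hyq)
        exact q.isMaximal.ne_top ((Ideal.eq_top_iff_one _).mpr h1)
  · push Not at hex
    refine ⟨1, one_mem _, ?_⟩
    intro y hy
    exact Mono.of_notMem _ (hL y hy).1 (hex y hy (hL y hy).1)

end Part7

section Part8

open Groth.Agent.Lib.R2H1.CommonFactor

variable {A : Type u} [CommRing A] {Q : Type u} [CommRing Q] [Algebra A Q]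

theorem isUnit_multiset_prod (L : Multiset Q) (h : ∀ y ∈ L, IsUnit y) : IsUnit L.prod :=
  Multiset.prod_induction (fun y => IsUnit y) L (fun _ _ ha hb => ha.mul hb) isUnit_one h

theorem multiset_prod_mem (B : Subalgebra A Q) (L : Multiset Q) (h : ∀ y ∈ L, y ∈ B) :
    L.prod ∈ B :=
  Multiset.prod_induction (fun y => y ∈ B) L (fun _ _ ha hb => B.mul_mem ha hb) B.one_mem h

/-- One step of the construction decreases the measure. -/
theorem decr [IsNoetherianRing A] [IsLocalRing A] (hA : ringKrullDim A = 1) [IsFractionRing A Q]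
    (B : Subalgebra A Q) [Module.Finite A B] (y₁ y₂ : Q) (L' : Multiset Q)
    (hL : ∀ y ∈ y₁ ::ₘ y₂ ::ₘ L', y ∈ B ∧ IsUnit y) (hnc : ¬ Comax B y₁ y₂) :
    ∃ (B' : Subalgebra A Q) (Lnew : Multiset Q), B ≤ B' ∧ Module.Finite A B' ∧
      (∀ y ∈ Lnew, y ∈ B' ∧ IsUnit y) ∧
      nu B' Lnew.prod + 1 ≤ nu B (y₁ ::ₘ y₂ ::ₘ L').prod ∧
      ∀ B'' : Subalgebra A Q, B' ≤ B'' → Good B'' Lnew → Good B'' (y₁ ::ₘ y₂ ::ₘ L') := by
  have hy₁ := hL y₁ (by simp)
  have hy₂ := hL y₂ (by simp)
  obtain ⟨B', hBB', hB'fin, t, a', b', u, v, ht, ha', hb', hu, hv, e1, e2, e3⟩ :=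
    step A hA Q B y₁ y₂ hy₁.1 hy₂.1 hy₁.2
  haveI := hB'fin
  have htu : IsUnit t := isUnit_of_mul_isUnit_left (e1 ▸ hy₁.2)
  have ha'u : IsUnit a' := isUnit_of_mul_isUnit_right (e1 ▸ hy₁.2)
  have hb'u : IsUnit b' := isUnit_of_mul_isUnit_right (e2 ▸ hy₂.2)
  set Lnew : Multiset Q := t ::ₘ (a' * b') ::ₘ L' with hLnew
  have hLnew' : ∀ y ∈ Lnew, y ∈ B' ∧ IsUnit y := by
    intro y hy
    rw [hLnew, Multiset.mem_cons, Multiset.mem_cons] at hy
    rcases hy with rfl | rfl | hy
    · exact ⟨ht, htu⟩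
    · exact ⟨B'.mul_mem ha' hb', ha'u.mul hb'u⟩
    · have := hL y (Multiset.mem_cons_of_mem (Multiset.mem_cons_of_mem hy))
      exact ⟨hBB' this.1, this.2⟩
  have hprod : (y₁ ::ₘ y₂ ::ₘ L').prod = t * Lnew.prod := by
    rw [hLnew, Multiset.prod_cons, Multiset.prod_cons, Multiset.prod_cons, Multiset.prod_cons,
      e1, e2]
    ring
  have hPu : IsUnit (y₁ ::ₘ y₂ ::ₘ L').prod := isUnit_multiset_prod _ (fun y hy => (hL y hy).2)
  have hPB : (y₁ ::ₘ y₂ ::ₘ L').prod ∈ B := multiset_prod_mem B _ (fun y hy => (hL y hy).1)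
  have hNu : IsUnit Lnew.prod := isUnit_multiset_prod _ (fun y hy => (hLnew' y hy).2)
  have hNB : Lnew.prod ∈ B' := multiset_prod_mem B' _ (fun y hy => (hLnew' y hy).1)
  have h1 : nu B' (y₁ ::ₘ y₂ ::ₘ L').prod = nu B (y₁ ::ₘ y₂ ::ₘ L').prod :=
    nu_eq_of_le hA B B' hBB' hPu.unit hPB
  have h2 : nu B' (t * Lnew.prod) = nu B' t + nu B' Lnew.prod :=
    nu_mul B' htu.unit hNu.unit ht hNB
  have h3 : 1 ≤ nu B' t := by
    apply one_le_nu B' htu.unit
    intro hinv
    apply hnc
    apply comax_descend B B' hBB' y₁ y₂ hy₁.1 hy₂.1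
    refine ⟨((htu.unit⁻¹ : Qˣ) : Q) * u, ((htu.unit⁻¹ : Qˣ) : Q) * v, B'.mul_mem hinv hu,
      B'.mul_mem hinv hv, ?_⟩
    have h4 : ((htu.unit⁻¹ : Qˣ) : Q) * t = 1 := htu.val_inv_mul
    calc ((htu.unit⁻¹ : Qˣ) : Q) * u * y₁ + ((htu.unit⁻¹ : Qˣ) : Q) * v * y₂
        = (((htu.unit⁻¹ : Qˣ) : Q) * t) * (u * a' + v * b') := by rw [e1, e2]; ring
      _ = 1 := by rw [h4, e3, one_mul]
  refine ⟨B', Lnew, hBB', hB'fin, hLnew', ?_, ?_⟩
  · rw [← h1, hprod, h2, add_comm]
    gcongr
  · intro B'' hB'B'' hgood q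
    obtain ⟨π, hπ, hmono⟩ := hgood q
    refine ⟨π, hπ, ?_⟩
    have hmt : Mono B'' q π t := hmono t (by rw [hLnew]; simp)
    have hmab : Mono B'' q π (a' * b') := hmono (a' * b') (by rw [hLnew]; simp)
    have hc : Comax B'' a' b' := ⟨u, v, hB'B'' hu, hB'B'' hv, e3⟩
    obtain ⟨hma, hmb⟩ := Mono.of_mul_of_comax (hB'B'' ha') (hB'B'' hb') hc hmab
    intro y hy
    rw [Multiset.mem_cons, Multiset.mem_cons] at hy
    rcases hy with rfl | rfl | hy
    · rw [e1]; exact hmt.mul hma
    · rw [e2]; exact hmt.mul hmb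
    · exact hmono y (by rw [hLnew]; simp [hy])

/-- The induction on the measure. -/
theorem key [IsNoetherianRing A] [IsLocalRing A] (hA : ringKrullDim A = 1) [IsFractionRing A Q]
    (n : ℕ) : ∀ (B : Subalgebra A Q), Module.Finite A B → ∀ L : Multiset Q,
      (∀ y ∈ L, y ∈ B ∧ IsUnit y) → nu B L.prod ≤ n →
      ∃ B'' : Subalgebra A Q, B ≤ B'' ∧ Module.Finite A B'' ∧ Good B'' L := by
  induction n with
  | zero =>
    intro B hB L hL hn
    haveI := hB
    by_cases hpair : ∀ (y₁ y₂ : Q) (L' : Multiset Q), L = y₁ ::ₘ y₂ ::ₘ L' → Comax B y₁ y₂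
    · exact ⟨B, le_rfl, hB, good_of_pairwise_comax B L hL hpair⟩
    · push Not at hpair
      obtain ⟨y₁, y₂, L', rfl, hnc⟩ := hpair
      obtain ⟨B', Lnew, -, -, -, hdec, -⟩ := decr hA B y₁ y₂ L' hL hnc
      exfalso
      have h1 : (1 : ℕ∞) ≤ ((0 : ℕ) : ℕ∞) := le_trans (le_add_self) (hdec.trans hn)
      simp at h1
  | succ n ih =>
    intro B hB L hL hn
    haveI := hB
    by_cases hpair : ∀ (y₁ y₂ : Q) (L' : Multiset Q), L = y₁ ::ₘ y₂ ::ₘ L' → Comax B y₁ y₂
    · exact ⟨B, le_rfl, hB, good_of_pairwise_comax B L hL hpair⟩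
    · push Not at hpair
      obtain ⟨y₁, y₂, L', rfl, hnc⟩ := hpair
      obtain ⟨B', Lnew, hBB', hB'fin, hLnew, hdec, htrans⟩ := decr hA B y₁ y₂ L' hL hnc
      have h1 : nu B' Lnew.prod ≤ n := by
        have h2 : nu B' Lnew.prod + 1 ≤ ((n + 1 : ℕ) : ℕ∞) := hdec.trans hn
        have h3 : ((n + 1 : ℕ) : ℕ∞) = (n : ℕ∞) + 1 := by push_cast; rfl
        rw [h3] at h2
        exact (ENat.add_le_add_iff_right ENat.one_ne_top).mp h2
      obtain ⟨B'', hB'B'', hB''fin, hgood⟩ := ih B' hB'fin Lnew hLnew h1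
      exact ⟨B'', hBB'.trans hB'B'', hB''fin, htrans B'' hB'B'' hgood⟩

end Part8

section Part9

open Groth.Agent.Lib.R2H1.CommonFactor

theorem isFinExt_of_finite_subalgebra (A : Type u) [CommRing A] [IsNoetherianRing A] [IsLocalRing A]
    (hA : ringKrullDim A = 1) (Q : Type u) [CommRing Q] [Algebra A Q] [IsFractionRing A Q]
    (B : Subalgebra A Q) [Module.Finite A B] :
    CycAlg.IsFinExt A B (IsLocalRing.maximalIdeal A) := by
  have hinj : Function.Injective (algebraMap A B) := by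
    intro r r' h
    have h1 : algebraMap A Q r = algebraMap A Q r' := by
      have := congrArg Subtype.val h
      simpa using this
    exact IsFractionRing.injective A Q h1
  obtain ⟨c, hc, hcB⟩ := exists_denominator B
  obtain ⟨k, hk⟩ := exists_pow_maximalIdeal_le_span hA c hc
  refine ⟨hinj, inferInstance, k, ?_⟩
  intro r hr y
  obtain ⟨r', rfl⟩ := Ideal.mem_span_singleton'.mp (hk hr)
  have h1 : algebraMap A Q c * (y : Q) ∈ baseMod A Q :=
    hcB ((mem_scal _ _ _).mpr ⟨y, y.2, rfl⟩)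
  obtain ⟨r₀, hr₀⟩ := (mem_baseMod _).mp h1
  refine ⟨r' * r₀, ?_⟩
  apply Subtype.ext
  rw [Subalgebra.coe_algebraMap, Subalgebra.coe_smul, Algebra.smul_def, map_mul, map_mul, hr₀]
  ring

theorem main1836 (A : Type u) [CommRing A] [IsNoetherianRing A] [IsLocalRing A]
    (hA : ringKrullDim A = 1) (r : ℕ) (a : Fin r → A) (ha : ∀ i, a i ∈ nonZeroDivisors A) :
    ∃ (B : Type u) (_ : CommRing B) (_ : Algebra A B),
      CycAlg.IsFinExt A B (IsLocalRing.maximalIdeal A) ∧
      ∀ q : MaximalSpectrum B, ∃ π : Localization.AtPrime q.asIdeal,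
        π ∈ nonZeroDivisors (Localization.AtPrime q.asIdeal) ∧
        ∀ i, ∃ (v : (Localization.AtPrime q.asIdeal)ˣ) (e : ℕ),
          algebraMap A (Localization.AtPrime q.asIdeal) (a i) =
            (v : Localization.AtPrime q.asIdeal) * π ^ e := by
  let Q := FractionRing A
  set L : Multiset Q := Multiset.map (fun i => algebraMap A Q (a i)) Finset.univ.val with hL
  have hLmem : ∀ y ∈ L, y ∈ (⊥ : Subalgebra A Q) ∧ IsUnit y := by
    intro y hy
    obtain ⟨i, -, rfl⟩ := Multiset.mem_map.mp hy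
    exact ⟨Subalgebra.algebraMap_mem _ _,
      IsLocalization.map_units Q (⟨a i, ha i⟩ : nonZeroDivisors A)⟩
  have hprod : L.prod = algebraMap A Q (∏ i, a i) := by
    rw [hL, map_prod]
    rfl
  have hnz : (∏ i, a i) ∈ nonZeroDivisors A := Submonoid.prod_mem _ (fun i _ => ha i)
  have hfin : nu (⊥ : Subalgebra A Q) L.prod ≠ ⊤ := by
    rw [hprod]; exact nu_bot_ne_top hA _ hnz
  obtain ⟨n, hn⟩ := ENat.ne_top_iff_exists.mp hfin
  obtain ⟨B, -, hBfin, hgood⟩ := key hA n (⊥ : Subalgebra A Q) inferInstance L hLmem hn.symm.le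
  haveI := hBfin
  refine ⟨B, inferInstance, inferInstance, isFinExt_of_finite_subalgebra A hA Q B, ?_⟩
  intro q
  obtain ⟨π, hπ, hmono⟩ := hgood q
  refine ⟨π, hπ, ?_⟩
  intro i
  obtain ⟨hy, v, e, hve⟩ := hmono (algebraMap A Q (a i))
    (Multiset.mem_map.mpr ⟨i, Finset.mem_univ_val i, rfl⟩)
  refine ⟨v, e, ?_⟩
  rw [← hve, IsScalarTower.algebraMap_apply A B (Localization.AtPrime q.asIdeal)]
  rfl

end Part9

end Groth.Agent.Lib.R2H1.Factorize
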