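/-
Tame symbol of a one-dimensional Noetherian local ring: well-definedness (Stacks 0EAH-type).
Main results: theta_pow_eq (intrinsic local factor), length_eq_finsum_resDeg_mul_locLen (weighted length formula),
length_quot_span_eq_of_injective (Herbrand invariance), exists_global_parameter (CRT), ord_eq_finsum_fiber (degree formula),
finprod_norm_pow_eq (product formula), value_eq_finprod_extension, value_eq_of_common_extension,
exists_algHom_fractionRing, value_eq (S1847).
-/
import Mathlib
import Groth.Prelude.Def_Tame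
import Groth.Agent.Lib.Helper5DetLengthGlobal
import Groth.Agent.Lib.Helper26FinLocalProd
import Groth.Agent.Lib.Helper5IntDim
import Groth.Agent.Lib.R2H1Factorize

set_option autoImplicit false
set_option linter.style.haveILetI false
set_option linter.unusedSectionVars false
universe u v

namespace Groth.Agent.Lib.R2H1.Tame

section Part1

open IsLocalRing

theorem neg_one_pow_mul_self {K : Type*} [Monoid K] [HasDistribNeg K] (m : ℕ) :
    (-1 : K) ^ (m * m) = (-1 : K) ^ m := by
  rcases Nat.even_or_odd m with h | h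
  · rw [h.neg_one_pow, (h.mul_right m).neg_one_pow]
  · rw [h.neg_one_pow, (h.mul h).neg_one_pow]

variable {R : Type u} [CommRing R] [IsLocalRing R]

/-- The unit expression `(-1)^{e₁e₂} ū₁^{e₂} ū₂^{-e₁}`. -/
noncomputable def theta (u₁ u₂ : Rˣ) (e₁ e₂ : ℕ) : ResidueField R :=
  (-1 : ResidueField R) ^ (e₁ * e₂) * residue R (u₁ : R) ^ e₂ * (residue R (u₂ : R) ^ e₁)⁻¹

/-- intrinsic form -/
noncomputable def thetaI (u₁ u₂ : Rˣ) (v₁ v₂ : ℕ) : ResidueField R :=
  (-1 : ResidueField R) ^ (v₁ * v₂) * residue R (u₁ : R) ^ v₂ * (residue R (u₂ : R) ^ v₁)⁻¹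

theorem residue_unit_ne_zero (u : Rˣ) : residue R (u : R) ≠ 0 :=
  (residue_ne_zero_iff_isUnit _).mpr u.isUnit

theorem theta_ne_zero (u₁ u₂ : Rˣ) (e₁ e₂ : ℕ) : theta u₁ u₂ e₁ e₂ ≠ 0 := by
  unfold theta
  refine mul_ne_zero (mul_ne_zero (pow_ne_zero _ (neg_ne_zero.mpr one_ne_zero))
    (pow_ne_zero _ (residue_unit_ne_zero u₁))) (inv_ne_zero (pow_ne_zero _ (residue_unit_ne_zero u₂)))

theorem neg_one_pow_sign {K : Type*} [Monoid K] [HasDistribNeg K] (e₁ e₂ m : ℕ) :
    ((-1 : K) ^ (e₁ * e₂)) ^ m = (-1 : K) ^ (e₁ * m * (e₂ * m)) := by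
  have h1 : e₁ * m * (e₂ * m) = (m * m) * (e₁ * e₂) := by ring
  rw [h1, pow_mul (-1 : K) (m * m) (e₁ * e₂), neg_one_pow_mul_self, ← pow_mul, ← pow_mul, mul_comm]

theorem theta_pow (u₁ u₂ : Rˣ) (e₁ e₂ m : ℕ) :
    theta u₁ u₂ e₁ e₂ ^ m = thetaI u₁ u₂ (e₁ * m) (e₂ * m) := by
  unfold theta thetaI
  rw [mul_pow, mul_pow, inv_pow, neg_one_pow_sign, ← pow_mul, ← pow_mul]

theorem thetaI_eq_of_rel (u₁ u₂ u₁' u₂' : Rˣ) (v₁ v₂ : ℕ)
    (h : (u₁ : R) ^ v₂ * (u₂' : R) ^ v₁ = (u₂ : R) ^ v₁ * (u₁' : R) ^ v₂) :
    thetaI u₁ u₂ v₁ v₂ = thetaI u₁' u₂' v₁ v₂ := by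
  unfold thetaI
  have h' := congrArg (residue R) h
  simp only [map_mul, map_pow] at h'
  have n2 : residue R (u₂ : R) ^ v₁ ≠ 0 := pow_ne_zero _ (residue_unit_ne_zero u₂)
  have n2' : residue R (u₂' : R) ^ v₁ ≠ 0 := pow_ne_zero _ (residue_unit_ne_zero u₂')
  rw [mul_assoc, mul_assoc]
  congr 1
  rw [← div_eq_mul_inv, ← div_eq_mul_inv, div_eq_div_iff n2 n2', h', mul_comm]

end Part1

section Part2

open IsLocalRing

variable {R : Type u} [CommRing R] [IsLocalRing R]

theorem unit_rel (x₁ x₂ π : R) (u₁ u₂ : Rˣ) (e₁ e₂ m : ℕ)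
    (h₁ : x₁ = (u₁ : R) * π ^ e₁) (h₂ : x₂ = (u₂ : R) * π ^ e₂) :
    (u₁ : R) ^ (e₂ * m) * x₂ ^ (e₁ * m) = (u₂ : R) ^ (e₁ * m) * x₁ ^ (e₂ * m) := by
  rw [h₁, h₂, mul_pow, mul_pow, ← pow_mul, ← pow_mul]
  have : e₂ * (e₁ * m) = e₁ * (e₂ * m) := by ring
  rw [this]
  ring

theorem toNat_ord_unit_mul_pow [IsNoetherianRing R] [Ring.KrullDimLE 1 R] (π : R)
    (hπ : π ∈ nonZeroDivisors R) (u : Rˣ) (e : ℕ) :
    (Ring.ord R ((u : R) * π ^ e)).toNat = e * (Ring.ord R π).toNat := by
  rw [Ring.ord_mul_of_isUnit_left u.isUnit, Ring.ord_pow hπ]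
  have h := Ring.ord_ne_top hπ
  obtain ⟨m, hm⟩ := ENat.ne_top_iff_exists.mp h
  rw [← hm]
  simp

theorem unit_mul_pow_mem_nonZeroDivisors (π : R) (hπ : π ∈ nonZeroDivisors R) (u : Rˣ) (e : ℕ) :
    (u : R) * π ^ e ∈ nonZeroDivisors R :=
  Submonoid.mul_mem _ u.isUnit.mem_nonZeroDivisors (Submonoid.pow_mem _ hπ e)

/-- **Intrinsic nature of the local tame factor**: two factorization data for the same pair
give the same `theta ^ ord π`. -/
theorem theta_pow_eq [IsNoetherianRing R] [Ring.KrullDimLE 1 R] (x₁ x₂ π π' : R)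
    (hπ : π ∈ nonZeroDivisors R) (hπ' : π' ∈ nonZeroDivisors R) (u₁ u₂ u₁' u₂' : Rˣ)
    (e₁ e₂ e₁' e₂' : ℕ)
    (h₁ : x₁ = (u₁ : R) * π ^ e₁) (h₂ : x₂ = (u₂ : R) * π ^ e₂)
    (h₁' : x₁ = (u₁' : R) * π' ^ e₁') (h₂' : x₂ = (u₂' : R) * π' ^ e₂') :
    theta u₁ u₂ e₁ e₂ ^ (Ring.ord R π).toNat =
      theta u₁' u₂' e₁' e₂' ^ (Ring.ord R π').toNat := by
  set m := (Ring.ord R π).toNat with hm
  set m' := (Ring.ord R π').toNat with hm'
  have hv₁ : e₁' * m' = e₁ * m := by
    rw [hm, hm', ← toNat_ord_unit_mul_pow π hπ u₁ e₁, ← toNat_ord_unit_mul_pow π' hπ' u₁' e₁',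
      ← h₁, ← h₁']
  have hv₂ : e₂' * m' = e₂ * m := by
    rw [hm, hm', ← toNat_ord_unit_mul_pow π hπ u₂ e₂, ← toNat_ord_unit_mul_pow π' hπ' u₂' e₂',
      ← h₂, ← h₂']
  rw [theta_pow, theta_pow, hv₁, hv₂]
  apply thetaI_eq_of_rel
  have r1 := unit_rel x₁ x₂ π u₁ u₂ e₁ e₂ m h₁ h₂
  have r2 := unit_rel x₁ x₂ π' u₁' u₂' e₁' e₂' m' h₁' h₂'
  rw [hv₁, hv₂] at r2
  have hx₁ : x₁ ∈ nonZeroDivisors R := h₁ ▸ unit_mul_pow_mem_nonZeroDivisors π hπ u₁ e₁
  have hx₂ : x₂ ∈ nonZeroDivisors R := h₂ ▸ unit_mul_pow_mem_nonZeroDivisors π hπ u₂ e₂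
  have hX : x₁ ^ (e₂ * m) * x₂ ^ (e₁ * m) ∈ nonZeroDivisors R :=
    Submonoid.mul_mem _ (Submonoid.pow_mem _ hx₁ _) (Submonoid.pow_mem _ hx₂ _)
  apply (mul_cancel_right_mem_nonZeroDivisors hX).mp
  calc (u₁ : R) ^ (e₂ * m) * (u₂' : R) ^ (e₁ * m) * (x₁ ^ (e₂ * m) * x₂ ^ (e₁ * m))
      = ((u₁ : R) ^ (e₂ * m) * x₂ ^ (e₁ * m)) * ((u₂' : R) ^ (e₁ * m) * x₁ ^ (e₂ * m)) := by ring
    _ = ((u₂ : R) ^ (e₁ * m) * x₁ ^ (e₂ * m)) * ((u₁' : R) ^ (e₂ * m) * x₂ ^ (e₁ * m)) := by
        rw [r1, r2]
    _ = (u₂ : R) ^ (e₁ * m) * (u₁' : R) ^ (e₂ * m) * (x₁ ^ (e₂ * m) * x₂ ^ (e₁ * m)) := by ring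

/-- If the two elements are units, the local factor is trivial. -/
theorem theta_pow_eq_one_of_isUnit [IsNoetherianRing R] [Ring.KrullDimLE 1 R] (x₁ x₂ π : R)
    (hπ : π ∈ nonZeroDivisors R) (u₁ u₂ : Rˣ) (e₁ e₂ : ℕ)
    (h₁ : x₁ = (u₁ : R) * π ^ e₁) (h₂ : x₂ = (u₂ : R) * π ^ e₂)
    (hx₁ : IsUnit x₁) (hx₂ : IsUnit x₂) :
    theta u₁ u₂ e₁ e₂ ^ (Ring.ord R π).toNat = 1 := by
  have h := theta_pow_eq x₁ x₂ π 1 hπ (one_mem _) u₁ u₂ hx₁.unit hx₂.unit e₁ e₂ 0 0 h₁ h₂
    (by simp) (by simp)
  rw [h, Ring.ord_one]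
  simp

end Part2

section Part3

open IsLocalRing Groth.Agent.Lib.Helper5.DetLengthGlobal

section

variable (A : Type u) [CommRing A] [IsLocalRing A] (B : Type u) [CommRing B] [Algebra A B]
  [hloc : ∀ q : MaximalSpectrum B, IsLocalHom (algebraMap A (Localization.AtPrime q.asIdeal))]

/-- residue degree of a maximal ideal of `B` over the residue field of `A`. -/
noncomputable def resDeg (q : MaximalSpectrum B) : ℕ :=
  Module.finrank (ResidueField A) (ResidueField (Localization.AtPrime q.asIdeal))

theorem finite_maximalSpectrum [Module.Finite A B] : Finite (MaximalSpectrum B) :=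
  Finite.of_injective _ (Groth.Agent.Lib.Helper26.FinLocalProd.barMax_injective A B)

theorem finite_residueField [Module.Finite A B] (q : MaximalSpectrum B) :
    Module.Finite (ResidueField A) (ResidueField (Localization.AtPrime q.asIdeal)) := by
  haveI := q.isMaximal
  let K := ResidueField (Localization.AtPrime q.asIdeal)
  let g : B →ₗ[A] K := (IsScalarTower.toAlgHom A B K).toLinearMap
  have hg : Function.Surjective g := Ideal.algebraMap_residueField_surjective q.asIdeal
  haveI : Module.Finite A K := Module.Finite.of_surjective g hg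
  exact Module.Finite.of_restrictScalars_finite A _ _

theorem resDeg_pos [Module.Finite A B] (q : MaximalSpectrum B) : 0 < resDeg A B q := by
  haveI := finite_residueField A B q
  exact Module.finrank_pos

theorem length_quot_maximal [Module.Finite A B] (q : MaximalSpectrum B) :
    Module.length A (B ⧸ q.asIdeal) = resDeg A B q := by
  haveI := q.isMaximal
  let K := ResidueField (Localization.AtPrime q.asIdeal)
  let g : B →ₗ[A] K := (IsScalarTower.toAlgHom A B K).toLinearMap
  have hg : Function.Surjective g := Ideal.algebraMap_residueField_surjective q.asIdeal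
  have hk : LinearMap.ker g = q.asIdeal.restrictScalars A := by
    ext x
    rw [LinearMap.mem_ker, Submodule.restrictScalars_mem]
    exact Ideal.algebraMap_residueField_eq_zero
  let e1 : (B ⧸ LinearMap.ker g) ≃ₗ[A] K := g.quotKerEquivOfSurjective hg
  let e2 : (B ⧸ q.asIdeal.restrictScalars A) ≃ₗ[A] (B ⧸ q.asIdeal) :=
    Submodule.Quotient.restrictScalarsEquiv A q.asIdeal
  let e3 : (B ⧸ LinearMap.ker g) ≃ₗ[A] (B ⧸ q.asIdeal.restrictScalars A) :=
    Submodule.quotEquivOfEq _ _ hk
  rw [← e2.length_eq, ← e3.length_eq, e1.length_eq]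
  haveI := finite_residueField A B q
  rw [Module.length_eq_of_surjective (S := A) (R := ResidueField A) (M := K) residue_surjective,
    Module.length_eq_finrank]
  rfl

theorem locLen_simple' (C : Type*) [AddCommGroup C] [Module B C] [hC : IsSimpleModule B C] :
    ∃ m0 : MaximalSpectrum B, Nonempty (C ≃ₗ[B] (B ⧸ m0.asIdeal)) ∧ locLen C m0 = 1 ∧
      ∀ m, m ≠ m0 → locLen C m = 0 := by
  obtain ⟨I, hI, ⟨e⟩⟩ := isSimpleModule_iff_quot_maximal.mp hC
  have hkill : ∀ s ∈ I, ∀ c : C, s • c = 0 := by
    intro s hs c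
    apply e.injective
    rw [map_smul, map_zero]
    obtain ⟨a, ha⟩ := Ideal.Quotient.mk_surjective (e c)
    rw [← ha, Algebra.smul_def, Ideal.Quotient.algebraMap_eq, ← map_mul,
      Ideal.Quotient.eq_zero_iff_mem]
    exact Ideal.mul_mem_right _ _ hs
  refine ⟨⟨I, hI⟩, ⟨e⟩, ?_, ?_⟩
  · have h1 : locLen C ⟨I, hI⟩ ≤ 1 := by
      have h2 := locLen_le C ⟨I, hI⟩
      rwa [Module.length_eq_one] at h2
    have h0 : locLen C ⟨I, hI⟩ ≠ 0 := by
      unfold locLen
      rw [Ne, Module.length_eq_zero_iff, LocalizedModule.subsingleton_iff]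
      intro h
      obtain ⟨r, hr, hr0⟩ := h (e.symm 1)
      have h3 : e (r • e.symm 1) = 0 := by rw [hr0, map_zero]
      rw [map_smul, e.apply_symm_apply, Algebra.smul_def, mul_one,
        Ideal.Quotient.algebraMap_eq, Ideal.Quotient.eq_zero_iff_mem] at h3
      exact hr h3
    exact le_antisymm h1 (Order.one_le_iff_ne_zero.mpr h0)
  · intro m hm
    have hex : ∃ s ∈ I, s ∉ m.asIdeal := by
      by_contra hcon
      push_neg at hcon
      have hle : I ≤ m.asIdeal := hcon
      have heq : I = m.asIdeal := hI.eq_of_le m.isMaximal.ne_top hle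
      apply hm
      exact MaximalSpectrum.ext heq.symm
    obtain ⟨s, hsI, hsm⟩ := hex
    unfold locLen
    rw [Module.length_eq_zero_iff, LocalizedModule.subsingleton_iff]
    intro c
    exact ⟨s, hsm, hkill s hsI c⟩

/-- **Weighted length formula**: the `A`-length of a finite length `B`-module is the sum of the
local lengths weighted by the residue degrees. -/
theorem length_eq_finsum_resDeg_mul_locLen [Module.Finite A B] (C : Type*) [AddCommGroup C]
    [Module B C] (h : IsFiniteLength B C) :
    ∀ [Module A C] [IsScalarTower A B C],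
      Module.length A C = ∑ᶠ q : MaximalSpectrum B, (resDeg A B q : ℕ∞) * locLen C q := by
  haveI := finite_maximalSpectrum A B
  induction h with
  | of_subsingleton =>
    rename_i M _ _ _
    intro _ _
    have h0 : ∀ q : MaximalSpectrum B, (resDeg A B q : ℕ∞) * locLen M q = 0 := fun q => by
      rw [locLen_of_subsingleton M q, mul_zero]
    rw [finsum_congr h0, finsum_zero, Module.length_eq_zero]
  | of_simple_quotient _ ih =>
    rename_i M _ _ N hN _
    intro _ _
    obtain ⟨m0, ⟨e⟩, hm0, hm0'⟩ := locLen_simple' B (M ⧸ N)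
    have hadd : ∀ q : MaximalSpectrum B, (resDeg A B q : ℕ∞) * locLen M q =
        (resDeg A B q : ℕ∞) * locLen N q + (resDeg A B q : ℕ∞) * locLen (M ⧸ N) q := fun q => by
      rw [locLen_add M N q, mul_add]
    rw [finsum_congr hadd, finsum_add_distrib (Set.toFinite _) (Set.toFinite _), ← ih,
      finsum_eq_single _ m0 (fun m hm => by rw [hm0' m hm, mul_zero]), hm0, mul_one,
      ← length_quot_maximal A B m0, ← (e.restrictScalars A).length_eq]
    exact Module.length_eq_add_of_exact (N.subtype.restrictScalars A) (N.mkQ.restrictScalars A)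
      N.injective_subtype N.mkQ_surjective (LinearMap.exact_subtype_mkQ N)

end

end Part3

section Part4

section RelLen

variable {A : Type*} [CommRing A] {P : Type*} [AddCommGroup P] [Module A P]

/-- Relative length `ℓ_A(Y/X)` of two submodules. -/
noncomputable def rl (X Y : Submodule A P) : ℕ∞ :=
  Module.length A (↥Y ⧸ X.submoduleOf Y)

theorem rl_add {X Y Z : Submodule A P} (h1 : X ≤ Y) (h2 : Y ≤ Z) :
    rl X Z = rl X Y + rl Y Z := by
  let f : (↥Y ⧸ X.submoduleOf Y) →ₗ[A] (↥Z ⧸ X.submoduleOf Z) :=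
    Submodule.mapQ _ _ (Submodule.inclusion h2) (fun y hy => hy)
  let g : (↥Z ⧸ X.submoduleOf Z) →ₗ[A] (↥Z ⧸ Y.submoduleOf Z) :=
    Submodule.mapQ _ _ LinearMap.id (fun z hz => h1 hz)
  have hf : ∀ y : Y, f (Submodule.Quotient.mk y) = Submodule.Quotient.mk (Submodule.inclusion h2 y) :=
    fun y => rfl
  have hg : ∀ z : Z, g (Submodule.Quotient.mk z) = Submodule.Quotient.mk z := fun z => rfl
  have hfinj : Function.Injective f := by
    rw [injective_iff_map_eq_zero]
    intro y hy
    obtain ⟨y, rfl⟩ := Submodule.Quotient.mk_surjective _ y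
    rw [hf, Submodule.Quotient.mk_eq_zero] at hy
    rw [Submodule.Quotient.mk_eq_zero]
    exact hy
  have hgsurj : Function.Surjective g := by
    intro z
    obtain ⟨z, rfl⟩ := Submodule.Quotient.mk_surjective _ z
    exact ⟨Submodule.Quotient.mk z, rfl⟩
  have hex : Function.Exact f g := by
    intro z
    constructor
    · intro hz
      obtain ⟨z, rfl⟩ := Submodule.Quotient.mk_surjective _ z
      rw [hg, Submodule.Quotient.mk_eq_zero] at hz
      exact ⟨Submodule.Quotient.mk ⟨z.1, hz⟩, rfl⟩
    · rintro ⟨y, rfl⟩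
      obtain ⟨y, rfl⟩ := Submodule.Quotient.mk_surjective _ y
      rw [hf, hg, Submodule.Quotient.mk_eq_zero]
      exact y.2
  exact Module.length_eq_add_of_exact f g hfinj hgsurj hex

theorem rl_top (X : Submodule A P) : rl X ⊤ = Module.length A (P ⧸ X) := by
  unfold rl
  refine (Submodule.Quotient.equiv _ _ (Submodule.topEquiv : (⊤ : Submodule A P) ≃ₗ[A] P) ?_).length_eq
  ext z
  constructor
  · rintro ⟨y, hy, rfl⟩
    exact hy
  · intro hz
    exact ⟨⟨z, trivial⟩, hz, rfl⟩

theorem rl_map (β : P →ₗ[A] P) (hβ : Function.Injective β) (X Y : Submodule A P) :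
    rl (X.map β) (Y.map β) = rl X Y := by
  let e : ↥Y ≃ₗ[A] ↥(Y.map β) := Submodule.equivMapOfInjective _ hβ Y
  have he : ∀ y : Y, ((e y : ↥(Y.map β)) : P) = β (y : P) := fun y => rfl
  have hmap : (X.submoduleOf Y).map (e : ↥Y →ₗ[A] ↥(Y.map β)) =
      (X.map β).submoduleOf (Y.map β) := by
    ext z
    constructor
    · rintro ⟨y, hy, rfl⟩
      show ((e y : ↥(Y.map β)) : P) ∈ X.map β
      rw [he]
      exact Submodule.mem_map_of_mem hy
    · intro hz
      have hz' : (z : P) ∈ X.map β := hz
      obtain ⟨x, hx, hxz⟩ := Submodule.mem_map.mp hz'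
      obtain ⟨y, hy, hyz⟩ := Submodule.mem_map.mp z.2
      have hxy : x = y := hβ (hxz.trans hyz.symm)
      refine ⟨⟨y, hy⟩, ?_, ?_⟩
      · show (y : P) ∈ X
        rw [← hxy]; exact hx
      · apply Subtype.ext
        show ((e ⟨y, hy⟩ : ↥(Y.map β)) : P) = z
        rw [he]; exact hyz
  exact (Submodule.Quotient.equiv _ _ e hmap).length_eq.symm

/-- Herbrand-type invariance in an ambient module. -/
theorem rl_herbrand (β : P →ₗ[A] P) (hβ : Function.Injective β) (X : Submodule A P)
    (hX : X.map β ≤ X) (hfin : rl X ⊤ ≠ ⊤) :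
    rl (X.map β) X = rl ((⊤ : Submodule A P).map β) ⊤ := by
  have h1 : rl (X.map β) ⊤ = rl (X.map β) X + rl X ⊤ := rl_add hX le_top
  have h2 : rl (X.map β) ⊤ = rl (X.map β) ((⊤ : Submodule A P).map β) +
      rl ((⊤ : Submodule A P).map β) ⊤ := rl_add (Submodule.map_mono le_top) le_top
  rw [rl_map β hβ] at h2
  rw [h1, add_comm] at h2
  exact ENat.add_left_injective_of_ne_top hfin (by simpa [add_comm] using h2)

end RelLen

section Coker

variable {A : Type*} [CommRing A] {M M' : Type*} [AddCommGroup M] [Module A M]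
  [AddCommGroup M'] [Module A M']

/-- If `j : M ↪ M'` has finite length cokernel and `β`, `β'` are compatible injective
endomorphisms, then their cokernels have the same length. -/
theorem length_coker_eq_of_injective (j : M →ₗ[A] M') (hj : Function.Injective j)
    (β : M →ₗ[A] M) (β' : M' →ₗ[A] M') (hβ' : Function.Injective β')
    (hcomm : ∀ x, j (β x) = β' (j x))
    (hfin : Module.length A (M' ⧸ LinearMap.range j) ≠ ⊤) :
    Module.length A (M ⧸ LinearMap.range β) = Module.length A (M' ⧸ LinearMap.range β') := by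
  set X : Submodule A M' := LinearMap.range j with hXdef
  have hX : X.map β' ≤ X := by
    rintro z ⟨y, ⟨x, rfl⟩, rfl⟩
    exact ⟨β x, hcomm x⟩
  have h1 := rl_herbrand β' hβ' X hX (by rw [rl_top]; exact hfin)
  have h2 : rl ((⊤ : Submodule A M').map β') ⊤ = Module.length A (M' ⧸ LinearMap.range β') := by
    rw [rl_top, Submodule.map_top]
  rw [← h2, ← h1]
  unfold rl
  let e : M ≃ₗ[A] ↥X := LinearEquiv.ofInjective j hj
  have he : ∀ x : M, ((e x : ↥X) : M') = j x := fun x => rfl
  refine (Submodule.Quotient.equiv _ _ e ?_).length_eq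
  ext z
  constructor
  · rintro ⟨y, ⟨x, rfl⟩, rfl⟩
    show ((e (β x) : ↥X) : M') ∈ X.map β'
    rw [he, hcomm]
    exact Submodule.mem_map_of_mem ⟨x, rfl⟩
  · intro hz
    have hz' : (z : M') ∈ X.map β' := hz
    obtain ⟨y, ⟨x, rfl⟩, hxz⟩ := Submodule.mem_map.mp hz'
    refine ⟨β x, ⟨x, rfl⟩, ?_⟩
    apply Subtype.ext
    show ((e (β x) : ↥X) : M') = z
    rw [he, hcomm]; exact hxz

end Coker

end Part4

section Part5

open IsLocalRing Groth.Agent.Lib.Helper5.DetLengthGlobal

theorem locLen_quot_span (B : Type u) [CommRing B] (q : MaximalSpectrum B) (x : B) :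
    locLen (B ⧸ Ideal.span {x}) q =
      Ring.ord (Localization.AtPrime q.asIdeal) (algebraMap B (Localization.AtPrime q.asIdeal) x) := by
  unfold locLen Ring.ord
  let M' : Submodule B B := Ideal.span {x}
  let f : B →ₗ[B] Localization.AtPrime q.asIdeal := Algebra.linearMap B (Localization.AtPrime q.asIdeal)
  let e0 : LocalizedModule q.asIdeal.primeCompl (B ⧸ M') ≃ₗ[B]
      (Localization.AtPrime q.asIdeal ⧸
        M'.localized' (Localization.AtPrime q.asIdeal) q.asIdeal.primeCompl f) :=
    IsLocalizedModule.linearEquiv q.asIdeal.primeCompl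
      (LocalizedModule.mkLinearMap q.asIdeal.primeCompl (B ⧸ M'))
      (M'.toLocalizedQuotient' (Localization.AtPrime q.asIdeal) q.asIdeal.primeCompl f)
  let e1 : LocalizedModule q.asIdeal.primeCompl (B ⧸ M') ≃ₗ[Localization.AtPrime q.asIdeal]
      (Localization.AtPrime q.asIdeal ⧸
        M'.localized' (Localization.AtPrime q.asIdeal) q.asIdeal.primeCompl f) :=
    e0.extendScalarsOfIsLocalization q.asIdeal.primeCompl (Localization.AtPrime q.asIdeal)
  have hM : M'.localized' (Localization.AtPrime q.asIdeal) q.asIdeal.primeCompl f =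
      Ideal.span {algebraMap B (Localization.AtPrime q.asIdeal) x} := by
    show Submodule.localized' (Localization.AtPrime q.asIdeal) q.asIdeal.primeCompl
      (Algebra.linearMap B (Localization.AtPrime q.asIdeal)) (Ideal.span {x}) = _
    rw [Ideal.localized'_eq_map, Ideal.map_span, Set.image_singleton]
  rw [e1.length_eq, (Submodule.quotEquivOfEq _ _ hM).length_eq]

section

variable (A : Type u) [CommRing A] [IsLocalRing A] (B : Type u) [CommRing B] [Algebra A B]
  [hloc : ∀ q : MaximalSpectrum B, IsLocalHom (algebraMap A (Localization.AtPrime q.asIdeal))]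

theorem length_quot_span_eq_finsum [Module.Finite A B] (x : B)
    (hfl : IsFiniteLength B (B ⧸ Ideal.span {x})) :
    Module.length A (B ⧸ Ideal.span {x}) = ∑ᶠ q : MaximalSpectrum B, (resDeg A B q : ℕ∞) *
      Ring.ord (Localization.AtPrime q.asIdeal) (algebraMap B (Localization.AtPrime q.asIdeal) x) := by
  rw [length_eq_finsum_resDeg_mul_locLen A B _ hfl]
  exact finsum_congr fun q => by rw [locLen_quot_span]

end

theorem length_quot_span_eq_length_quot_range (A : Type*) (B : Type*) [CommRing A] [CommRing B]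
    [Algebra A B] (x : B) :
    Module.length A (B ⧸ Ideal.span {x}) =
      Module.length A (B ⧸ LinearMap.range (LinearMap.mulLeft A x)) := by
  have h : (Ideal.span {x}).restrictScalars A = LinearMap.range (LinearMap.mulLeft A x) := by
    ext z
    rw [Submodule.restrictScalars_mem, Ideal.mem_span_singleton', LinearMap.mem_range]
    constructor
    · rintro ⟨a, rfl⟩
      exact ⟨a, by rw [LinearMap.mulLeft_apply, mul_comm]⟩
    · rintro ⟨a, rfl⟩
      exact ⟨a, by rw [LinearMap.mulLeft_apply, mul_comm]⟩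
  rw [← (Submodule.Quotient.restrictScalarsEquiv A (Ideal.span {x})).length_eq,
    (Submodule.quotEquivOfEq _ _ h).length_eq]

/-- Ring form of the Herbrand invariance. -/
theorem length_quot_span_eq_of_injective (A : Type*) (B : Type*) (C : Type*) [CommRing A]
    [CommRing B] [CommRing C] [Algebra A B] [Algebra A C] [Algebra B C] [IsScalarTower A B C]
    (hinj : Function.Injective (algebraMap B C)) (x : B)
    (hx : algebraMap B C x ∈ nonZeroDivisors C)
    (hfin : Module.length A
      (C ⧸ LinearMap.range (IsScalarTower.toAlgHom A B C).toLinearMap) ≠ ⊤) :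
    Module.length A (B ⧸ Ideal.span {x}) =
      Module.length A (C ⧸ Ideal.span {algebraMap B C x}) := by
  rw [length_quot_span_eq_length_quot_range, length_quot_span_eq_length_quot_range]
  refine length_coker_eq_of_injective (IsScalarTower.toAlgHom A B C).toLinearMap hinj _ _ ?_ ?_ hfin
  · intro y z hyz
    simp only [LinearMap.mulLeft_apply] at hyz
    exact (mul_cancel_left_mem_nonZeroDivisors hx).mp hyz
  · intro y
    simp only [LinearMap.mulLeft_apply, AlgHom.toLinearMap_apply, map_mul]
    rfl

/-- A finite module over a Noetherian local ring killed by a power of the maximal ideal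
has finite length. -/
theorem length_ne_top_of_pow_smul_eq_zero (A : Type u) [CommRing A] [IsLocalRing A]
    [IsNoetherianRing A] (n : ℕ) :
    ∀ (N : Type v) [AddCommGroup N] [Module A N] [Module.Finite A N],
      (∀ r ∈ maximalIdeal A ^ n, ∀ x : N, r • x = 0) → Module.length A N ≠ ⊤ := by
  induction n with
  | zero =>
    intro N _ _ _ h
    have : Subsingleton N := ⟨fun x y => by
      have hx := h 1 (by simp) x
      have hy := h 1 (by simp) y
      rw [one_smul] at hx hy
      rw [hx, hy]⟩
    rw [Module.length_eq_zero]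
    exact ENat.zero_ne_top
  | succ n ih =>
    intro N _ _ _ h
    let N' : Submodule A N := maximalIdeal A • (⊤ : Submodule A N)
    have h1 : Module.length A N' ≠ ⊤ := by
      apply ih
      intro r hr y
      apply Subtype.ext
      rw [Submodule.coe_smul, Submodule.coe_zero]
      have hy : (y : N) ∈ maximalIdeal A • (⊤ : Submodule A N) := y.2
      refine Submodule.smul_induction_on hy ?_ ?_
      · intro s hs x _
        rw [smul_smul]
        exact h _ (by rw [pow_succ]; exact Ideal.mul_mem_mul hr hs) x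
      · intro x y hx hy
        rw [smul_add, hx, hy, add_zero]
    have h2 : Module.length A (N ⧸ N') ≠ ⊤ := by
      letI : Field (A ⧸ maximalIdeal A) := Ideal.Quotient.field _
      haveI : Module.Finite (A ⧸ maximalIdeal A) (N ⧸ N') :=
        Module.Finite.of_restrictScalars_finite A _ _
      rw [Module.length_eq_of_surjective (S := A) (R := A ⧸ maximalIdeal A) (M := N ⧸ N')
        Ideal.Quotient.mk_surjective, Module.length_eq_finrank]
      exact ENat.coe_ne_top _
    rw [Module.length_eq_add_of_exact N'.subtype N'.mkQ N'.injective_subtype N'.mkQ_surjective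
      (LinearMap.exact_subtype_mkQ N')]
    exact WithTop.add_ne_top.mpr ⟨h1, h2⟩

end Part5

section Part6

open IsLocalRing

theorem isUnit_add_of_isUnit_of_mem {R : Type*} [CommRing R] [IsLocalRing R] {u x : R}
    (hu : IsUnit u) (hx : x ∈ maximalIdeal R) : IsUnit (u + x) := by
  by_contra h
  have h1 : u + x ∈ maximalIdeal R := (mem_maximalIdeal _).mpr h
  have h2 : u ∈ maximalIdeal R := by
    have := (maximalIdeal R).sub_mem h1 hx
    simpa using this
  exact (mem_maximalIdeal _).mp h2 hu

theorem exists_pow_maximalIdeal_le_span {R : Type*} [CommRing R] [IsLocalRing R] [IsNoetherianRing R]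
    [Ring.KrullDimLE 1 R] {x : R} (hx : x ∈ nonZeroDivisors R) :
    ∃ n, maximalIdeal R ^ n ≤ Ideal.span {x} := by
  haveI : IsArtinianRing (R ⧸ Ideal.span {x}) := by
    rw [isArtinianRing_iff_krullDimLE_zero, Ring.KrullDimLE, Order.krullDimLE_iff,
      ← ENat.WithBot.add_le_add_one_right_iff, Nat.cast_zero, zero_add]
    exact (ringKrullDim_quotient_succ_le_of_nonZeroDivisor hx).trans (Order.KrullDimLE.krullDim_le)
  exact exists_maximalIdeal_pow_le_of_isArtinianRing_quotient _

/-- A local nonzerodivisor at a maximal ideal of a semilocal ring can be represented, up to a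
local unit, by a global element which is a unit at all other maximal ideals. -/
theorem exists_global_parameter (B : Type u) [CommRing B] [IsNoetherianRing B]
    [Finite (MaximalSpectrum B)] (q : MaximalSpectrum B)
    [Ring.KrullDimLE 1 (Localization.AtPrime q.asIdeal)]
    (π : Localization.AtPrime q.asIdeal)
    (hπ : π ∈ nonZeroDivisors (Localization.AtPrime q.asIdeal)) :
    ∃ b : B, Associated (algebraMap B (Localization.AtPrime q.asIdeal) b) π ∧
      ∀ q' : MaximalSpectrum B, q' ≠ q → b ∉ q'.asIdeal := by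
  classical
  by_cases hu : IsUnit π
  · refine ⟨1, ?_, fun q' _ => ?_⟩
    · rw [map_one]
      exact (associated_one_iff_isUnit.mpr hu).symm
    · exact (Ideal.ne_top_iff_one _).mp q'.isMaximal.ne_top
  have hπm : π ∈ maximalIdeal (Localization.AtPrime q.asIdeal) := (mem_maximalIdeal _).mpr hu
  obtain ⟨b₀, s, hbs⟩ := IsLocalization.exists_mk'_eq q.asIdeal.primeCompl π
  have h0 : π * algebraMap B (Localization.AtPrime q.asIdeal) (s : B) =
      algebraMap B (Localization.AtPrime q.asIdeal) b₀ := by
    rw [← hbs]; exact IsLocalization.mk'_spec _ _ _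
  have hsu : IsUnit (algebraMap B (Localization.AtPrime q.asIdeal) (s : B)) :=
    IsLocalization.map_units _ s
  obtain ⟨N, hN⟩ := exists_pow_maximalIdeal_le_span
    (Submonoid.mul_mem _ hπ hπ : π * π ∈ nonZeroDivisors (Localization.AtPrime q.asIdeal))
  set I : Ideal B := (Ideal.span {π * π}).comap (algebraMap B (Localization.AtPrime q.asIdeal))
    with hI
  have hqI : q.asIdeal ^ N ≤ I := by
    intro x hx
    rw [hI, Ideal.mem_comap]
    apply hN
    rw [← Localization.AtPrime.map_eq_maximalIdeal, ← Ideal.map_pow]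
    exact Ideal.mem_map_of_mem _ hx
  have hIq' : ∀ q' : MaximalSpectrum B, q' ≠ q → I ⊔ q'.asIdeal = ⊤ := by
    intro q' hne
    by_contra hcon
    have h1 : I ⊔ q'.asIdeal = q'.asIdeal :=
      (q'.isMaximal.eq_of_le hcon le_sup_right).symm
    have h2 : I ≤ q'.asIdeal := by rw [← h1]; exact le_sup_left
    have h3 : q.asIdeal ≤ q'.asIdeal :=
      q'.isMaximal.isPrime.le_of_pow_le (hqI.trans h2)
    exact hne (MaximalSpectrum.ext (q.isMaximal.eq_of_le q'.isMaximal.ne_top h3).symm)
  let Id : MaximalSpectrum B → Ideal B := fun q' => if q' = q then I else q'.asIdeal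
  have hcop : Pairwise (Function.onFun IsCoprime Id) := by
    intro q₁ q₂ hne
    show IsCoprime (Id q₁) (Id q₂)
    rw [Ideal.isCoprime_iff_sup_eq]
    by_cases h1 : q₁ = q
    · have h2 : q₂ ≠ q := fun h => hne (h1.trans h.symm)
      simp only [Id, if_pos h1, if_neg h2]
      exact hIq' q₂ h2
    · by_cases h2 : q₂ = q
      · simp only [Id, if_neg h1, if_pos h2]
        rw [sup_comm]
        exact hIq' q₁ h1
      · simp only [Id, if_neg h1, if_neg h2]
        exact Ideal.IsMaximal.coprime_of_ne q₁.isMaximal q₂.isMaximal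
          (fun h => hne (MaximalSpectrum.ext h))
  obtain ⟨c, hc⟩ := Ideal.exists_forall_sub_mem_ideal hcop
    (fun q' => if q' = q then 0 else 1 - b₀)
  have hcI : c ∈ I := by
    have := hc q
    simpa [Id] using this
  have hcq' : ∀ q' : MaximalSpectrum B, q' ≠ q → c - (1 - b₀) ∈ q'.asIdeal := by
    intro q' hne
    have := hc q'
    simpa [Id, hne] using this
  refine ⟨b₀ + c, ?_, ?_⟩
  · rw [hI, Ideal.mem_comap, Ideal.mem_span_singleton'] at hcI
    obtain ⟨z, hz⟩ := hcI
    have hunit : IsUnit (algebraMap B (Localization.AtPrime q.asIdeal) (s : B) + z * π) :=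
      isUnit_add_of_isUnit_of_mem hsu (Ideal.mul_mem_left _ _ hπm)
    refine Associated.symm ⟨hunit.unit, ?_⟩
    rw [IsUnit.unit_spec, map_add, ← h0, ← hz]
    ring
  · intro q' hne hmem
    have h1 := hcq' q' hne
    have h2 : (1 : B) ∈ q'.asIdeal := by
      have : (1 : B) = (b₀ + c) - (c - (1 - b₀)) := by ring
      rw [this]
      exact q'.asIdeal.sub_mem hmem h1
    exact (Ideal.ne_top_iff_one _).mp q'.isMaximal.ne_top h2

/-- An element which is a nonzerodivisor in every localization at a maximal ideal is a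
nonzerodivisor. -/
theorem mem_nonZeroDivisors_of_localization (B : Type u) [CommRing B] (b : B)
    (h : ∀ q : MaximalSpectrum B, algebraMap B (Localization.AtPrime q.asIdeal) b ∈
      nonZeroDivisors (Localization.AtPrime q.asIdeal)) : b ∈ nonZeroDivisors B := by
  rw [mem_nonZeroDivisors_iff_right]
  intro x hx
  apply eq_zero_of_localization
  intro J hJ
  have h1 := h ⟨J, hJ⟩
  have h2 : algebraMap B (Localization.AtPrime J) x * algebraMap B (Localization.AtPrime J) b = 0 := by
    rw [← map_mul, hx, map_zero]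
  exact (mem_nonZeroDivisors_iff_right.mp h1) _ h2

end Part6

section Part7

open IsLocalRing

section Abstract

/-- Norm of an element coming from an intermediate field. -/
theorem norm_algebraMap_tower (K L M : Type*) [Field K] [Field L] [Field M] [Algebra K L]
    [Algebra L M] [Algebra K M] [IsScalarTower K L M] [Module.Finite K L] [Module.Finite L M]
    (θ : L) :
    Algebra.norm K (algebraMap L M θ) = Algebra.norm K θ ^ Module.finrank L M := by
  rw [← Algebra.norm_norm (S := L), Algebra.norm_algebraMap, map_pow]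

end Abstract

section Tower

variable (B C : Type u) [CommRing B] [CommRing C] [Algebra B C] [Algebra.IsIntegral B C]

/-- The maximal ideal of `B` under a maximal ideal of the integral extension `C`. -/
noncomputable def under (Q : MaximalSpectrum C) : MaximalSpectrum B :=
  ⟨Q.asIdeal.comap (algebraMap B C),
    haveI := Q.isMaximal; Ideal.isMaximal_comap_of_isIntegral_of_isMaximal _⟩

instance liesOver_under (Q : MaximalSpectrum C) : Q.asIdeal.LiesOver (under B C Q).asIdeal := ⟨rfl⟩

noncomputable instance algLoc (Q : MaximalSpectrum C) :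
    Algebra (Localization.AtPrime (under B C Q).asIdeal) (Localization.AtPrime Q.asIdeal) :=
  Localization.AtPrime.algebraOfLiesOver _ _

instance isLiesOverAlgebra_under (Q : MaximalSpectrum C) :
    Localization.AtPrime.IsLiesOverAlgebra (under B C Q).asIdeal Q.asIdeal := ⟨rfl⟩

instance isLocalHom_algLoc (Q : MaximalSpectrum C) :
    IsLocalHom (algebraMap (Localization.AtPrime (under B C Q).asIdeal)
      (Localization.AtPrime Q.asIdeal)) :=
  Localization.isLocalHom_localRingHom _ _ _ _

theorem algLoc_algebraMap (Q : MaximalSpectrum C) (b : B) :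
    algebraMap (Localization.AtPrime (under B C Q).asIdeal) (Localization.AtPrime Q.asIdeal)
      (algebraMap B (Localization.AtPrime (under B C Q).asIdeal) b) =
    algebraMap C (Localization.AtPrime Q.asIdeal) (algebraMap B C b) :=
  Localization.localRingHom_to_map _ _ _ _ _

end Tower

section Tower2

variable (A : Type u) [CommRing A] [IsLocalRing A] (B C : Type u) [CommRing B] [CommRing C]
  [Algebra A B] [Algebra A C] [Algebra B C] [IsScalarTower A B C] [Algebra.IsIntegral B C]
  [hlocB : ∀ q : MaximalSpectrum B, IsLocalHom (algebraMap A (Localization.AtPrime q.asIdeal))]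
  [hlocC : ∀ q : MaximalSpectrum C, IsLocalHom (algebraMap A (Localization.AtPrime q.asIdeal))]

/-- relative residue degree -/
noncomputable def relDeg (Q : MaximalSpectrum C) : ℕ :=
  Module.finrank (ResidueField (Localization.AtPrime (under B C Q).asIdeal))
    (ResidueField (Localization.AtPrime Q.asIdeal))

theorem resDeg_eq_mul [Module.Finite A B] [Module.Finite A C] (Q : MaximalSpectrum C) :
    resDeg A C Q = resDeg A B (under B C Q) * relDeg B C Q := by
  unfold resDeg relDeg
  haveI := finite_residueField A B (under B C Q)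
  haveI := finite_residueField A C Q
  haveI : Module.Finite (ResidueField (Localization.AtPrime (under B C Q).asIdeal))
      (ResidueField (Localization.AtPrime Q.asIdeal)) :=
    Module.Finite.of_restrictScalars_finite (ResidueField A) _ _
  exact (Module.finrank_mul_finrank (ResidueField A)
    (ResidueField (Localization.AtPrime (under B C Q).asIdeal))
    (ResidueField (Localization.AtPrime Q.asIdeal))).symm

theorem norm_algebraMap_residue [Module.Finite A B] [Module.Finite A C] (Q : MaximalSpectrum C)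
    (θ : ResidueField (Localization.AtPrime (under B C Q).asIdeal)) :
    Algebra.norm (ResidueField A)
      (algebraMap (ResidueField (Localization.AtPrime (under B C Q).asIdeal))
        (ResidueField (Localization.AtPrime Q.asIdeal)) θ) =
    Algebra.norm (ResidueField A) θ ^ relDeg B C Q := by
  haveI := finite_residueField A B (under B C Q)
  haveI := finite_residueField A C Q
  haveI : Module.Finite (ResidueField (Localization.AtPrime (under B C Q).asIdeal))
      (ResidueField (Localization.AtPrime Q.asIdeal)) :=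
    Module.Finite.of_restrictScalars_finite (ResidueField A) _ _
  exact norm_algebraMap_tower _ _ _ θ

end Tower2

end Part7

section Part8

open IsLocalRing

theorem krullDimLE_one_localization (R : Type*) [CommRing R] [Ring.KrullDimLE 1 R] (I : Ideal R)
    [I.IsPrime] : Ring.KrullDimLE 1 (Localization.AtPrime I) := by
  rw [Ring.krullDimLE_iff, IsLocalization.AtPrime.ringKrullDim_eq_height I]
  exact Ideal.height_le_ringKrullDim_of_isPrime.trans (Ring.krullDimLE_iff.mp inferInstance)

theorem mem_nonZeroDivisors_of_associated {R : Type*} [CommRing R] {x y : R} (h : Associated x y)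
    (hy : y ∈ nonZeroDivisors R) : x ∈ nonZeroDivisors R := by
  obtain ⟨u, hu⟩ := h.symm
  rw [← hu]
  exact Submonoid.mul_mem _ hy u.isUnit.mem_nonZeroDivisors

theorem isUnit_algebraMap_of_notMem {R : Type*} [CommRing R] (I : Ideal R) [I.IsPrime] {x : R}
    (hx : x ∉ I) : IsUnit (algebraMap R (Localization.AtPrime I) x) :=
  IsLocalization.map_units _ (⟨x, hx⟩ : I.primeCompl)

section

variable (A : Type u) [CommRing A] [IsLocalRing A] [IsNoetherianRing A] (B : Type u) [CommRing B]
  [Algebra A B] [Module.Finite A B]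
  [hlocB : ∀ q : MaximalSpectrum B, IsLocalHom (algebraMap A (Localization.AtPrime q.asIdeal))]
  [Ring.KrullDimLE 1 B]

/-- B-side computation. -/
theorem length_quot_global_parameter (q : MaximalSpectrum B) (π : Localization.AtPrime q.asIdeal)
    (hπ : π ∈ nonZeroDivisors (Localization.AtPrime q.asIdeal)) (b : B)
    (hb : Associated (algebraMap B (Localization.AtPrime q.asIdeal) b) π)
    (hout : ∀ q' : MaximalSpectrum B, q' ≠ q → b ∉ q'.asIdeal) :
    b ∈ nonZeroDivisors B ∧
    Module.length A (B ⧸ Ideal.span {b}) =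
      (resDeg A B q : ℕ∞) * Ring.ord (Localization.AtPrime q.asIdeal) π := by
  haveI : IsNoetherianRing B := IsNoetherianRing.of_finite A B
  have hbnzd : b ∈ nonZeroDivisors B := by
    apply mem_nonZeroDivisors_of_localization
    intro q'
    by_cases h : q' = q
    · subst h
      exact mem_nonZeroDivisors_of_associated hb hπ
    · haveI := q'.isMaximal.isPrime
      exact (isUnit_algebraMap_of_notMem q'.asIdeal (hout q' h)).mem_nonZeroDivisors
  refine ⟨hbnzd, ?_⟩
  rw [length_quot_span_eq_finsum A B b (isFiniteLength_quotient_span_singleton B hbnzd),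
    finsum_eq_single _ q, Ring.ord_eq_of_associated hb]
  · intro q' hne
    haveI := q'.isMaximal.isPrime
    rw [Ring.ord_of_isUnit (isUnit_algebraMap_of_notMem q'.asIdeal (hout q' hne)), mul_zero]

end

end Part8

section Part9

open IsLocalRing

section

variable (A : Type u) [CommRing A] [IsLocalRing A] [IsNoetherianRing A] (B C : Type u)
  [CommRing B] [CommRing C] [Algebra A B] [Algebra A C] [Algebra B C] [IsScalarTower A B C]
  [Module.Finite A B] [Module.Finite A C] [Algebra.IsIntegral B C]
  [hlocB : ∀ q : MaximalSpectrum B, IsLocalHom (algebraMap A (Localization.AtPrime q.asIdeal))]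
  [hlocC : ∀ q : MaximalSpectrum C, IsLocalHom (algebraMap A (Localization.AtPrime q.asIdeal))]
  [Ring.KrullDimLE 1 B] [Ring.KrullDimLE 1 C]

open Classical in
/-- **Degree formula**: `ord_{B_q}(π) = Σ_{Q | q} [κ(Q):κ(q)] ord_{C_Q}(π)`. -/
theorem ord_eq_finsum_fiber
    (hinj : Function.Injective (algebraMap B C))
    (hfin : Module.length A
      (C ⧸ LinearMap.range (IsScalarTower.toAlgHom A B C).toLinearMap) ≠ ⊤)
    (π : ∀ q : MaximalSpectrum B, Localization.AtPrime q.asIdeal)
    (hπ : ∀ q, π q ∈ nonZeroDivisors (Localization.AtPrime q.asIdeal))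
    (hπC : ∀ Q : MaximalSpectrum C,
      algebraMap (Localization.AtPrime (under B C Q).asIdeal) (Localization.AtPrime Q.asIdeal)
        (π (under B C Q)) ∈ nonZeroDivisors (Localization.AtPrime Q.asIdeal))
    (q : MaximalSpectrum B) :
    (Ring.ord (Localization.AtPrime q.asIdeal) (π q)).toNat =
      ∑ᶠ Q : MaximalSpectrum C, if under B C Q = q then
        relDeg B C Q * (Ring.ord (Localization.AtPrime Q.asIdeal)
          (algebraMap (Localization.AtPrime (under B C Q).asIdeal)
            (Localization.AtPrime Q.asIdeal) (π (under B C Q)))).toNat else 0 := by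
  haveI : IsNoetherianRing B := IsNoetherianRing.of_finite A B
  haveI : IsNoetherianRing C := IsNoetherianRing.of_finite A C
  haveI hfB := finite_maximalSpectrum A B
  haveI hfC := finite_maximalSpectrum A C
  haveI : ∀ q : MaximalSpectrum B, Ring.KrullDimLE 1 (Localization.AtPrime q.asIdeal) :=
    fun q => krullDimLE_one_localization B q.asIdeal
  haveI : ∀ Q : MaximalSpectrum C, Ring.KrullDimLE 1 (Localization.AtPrime Q.asIdeal) :=
    fun Q => krullDimLE_one_localization C Q.asIdeal
  obtain ⟨b, hb, hout⟩ := exists_global_parameter B q (π q) (hπ q)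
  obtain ⟨hbnzd, hlenB⟩ := length_quot_global_parameter A B q (π q) (hπ q) b hb hout
  have hCQ : ∀ Q : MaximalSpectrum C,
      (under B C Q = q → Associated
        (algebraMap C (Localization.AtPrime Q.asIdeal) (algebraMap B C b))
        (algebraMap (Localization.AtPrime (under B C Q).asIdeal) (Localization.AtPrime Q.asIdeal)
          (π (under B C Q)))) ∧
      (under B C Q ≠ q → IsUnit (algebraMap C (Localization.AtPrime Q.asIdeal) (algebraMap B C b))) := by
    intro Q
    constructor
    · intro h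
      subst h
      rw [← algLoc_algebraMap]
      exact hb.map (algebraMap _ _)
    · intro h
      haveI := Q.isMaximal.isPrime
      apply isUnit_algebraMap_of_notMem
      intro hmem
      exact hout (under B C Q) h hmem
  have hcnzd : algebraMap B C b ∈ nonZeroDivisors C := by
    apply mem_nonZeroDivisors_of_localization
    intro Q
    by_cases h : under B C Q = q
    · exact mem_nonZeroDivisors_of_associated ((hCQ Q).1 h) (hπC Q)
    · exact ((hCQ Q).2 h).mem_nonZeroDivisors
  have hherb := length_quot_span_eq_of_injective A B C hinj b hcnzd hfin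
  rw [hlenB, length_quot_span_eq_finsum A C _
    (isFiniteLength_quotient_span_singleton C hcnzd)] at hherb
  have hterm : ∀ Q : MaximalSpectrum C, (resDeg A C Q : ℕ∞) *
      Ring.ord (Localization.AtPrime Q.asIdeal)
        (algebraMap C (Localization.AtPrime Q.asIdeal) (algebraMap B C b)) =
      ((if under B C Q = q then resDeg A B q * (relDeg B C Q *
        (Ring.ord (Localization.AtPrime Q.asIdeal)
          (algebraMap (Localization.AtPrime (under B C Q).asIdeal)
            (Localization.AtPrime Q.asIdeal) (π (under B C Q)))).toNat) else 0 : ℕ) : ℕ∞) := by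
    intro Q
    by_cases h : under B C Q = q
    · have hq : resDeg A B q = resDeg A B (under B C Q) := by rw [h]
      rw [if_pos h, Ring.ord_eq_of_associated ((hCQ Q).1 h), resDeg_eq_mul A B C Q, hq]
      conv_lhs => rw [← ENat.coe_toNat (Ring.ord_ne_top (hπC Q))]
      push_cast
      ring
    · rw [if_neg h, Ring.ord_of_isUnit ((hCQ Q).2 h)]
      simp
  rw [finsum_congr hterm, ← ENat.coe_toNat (Ring.ord_ne_top (hπ q))] at hherb
  haveI := Fintype.ofFinite (MaximalSpectrum C)
  rw [finsum_eq_sum_of_fintype] at hherb ⊢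
  have h2 : (resDeg A B q * (Ring.ord (Localization.AtPrime q.asIdeal) (π q)).toNat : ℕ) =
      ∑ Q : MaximalSpectrum C, if under B C Q = q then resDeg A B q * (relDeg B C Q *
        (Ring.ord (Localization.AtPrime Q.asIdeal)
          (algebraMap (Localization.AtPrime (under B C Q).asIdeal)
            (Localization.AtPrime Q.asIdeal) (π (under B C Q)))).toNat) else 0 := by
    exact_mod_cast hherb
  have h3 : (∑ Q : MaximalSpectrum C, if under B C Q = q then resDeg A B q * (relDeg B C Q *
        (Ring.ord (Localization.AtPrime Q.asIdeal)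
          (algebraMap (Localization.AtPrime (under B C Q).asIdeal)
            (Localization.AtPrime Q.asIdeal) (π (under B C Q)))).toNat) else 0) =
      resDeg A B q * ∑ Q : MaximalSpectrum C, if under B C Q = q then (relDeg B C Q *
        (Ring.ord (Localization.AtPrime Q.asIdeal)
          (algebraMap (Localization.AtPrime (under B C Q).asIdeal)
            (Localization.AtPrime Q.asIdeal) (π (under B C Q)))).toNat) else 0 := by
    rw [Finset.mul_sum]
    refine Finset.sum_congr rfl fun Q _ => ?_
    split_ifs <;> simp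
  rw [h3] at h2
  exact Nat.eq_of_mul_eq_mul_left (resDeg_pos A B q) h2

end

end Part9

section Part10

open IsLocalRing

section

variable (A : Type u) [CommRing A] [IsLocalRing A] [IsNoetherianRing A] (B C : Type u)
  [CommRing B] [CommRing C] [Algebra A B] [Algebra A C] [Algebra B C] [IsScalarTower A B C]
  [Module.Finite A B] [Module.Finite A C] [Algebra.IsIntegral B C]
  [hlocB : ∀ q : MaximalSpectrum B, IsLocalHom (algebraMap A (Localization.AtPrime q.asIdeal))]
  [hlocC : ∀ q : MaximalSpectrum C, IsLocalHom (algebraMap A (Localization.AtPrime q.asIdeal))]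
  [Ring.KrullDimLE 1 B] [Ring.KrullDimLE 1 C]

/-- **Product formula**: the product of norms of local expressions is unchanged when passing to a
finite extension with the induced local data. -/
theorem finprod_norm_pow_eq
    (hinj : Function.Injective (algebraMap B C))
    (hfin : Module.length A
      (C ⧸ LinearMap.range (IsScalarTower.toAlgHom A B C).toLinearMap) ≠ ⊤)
    (π : ∀ q : MaximalSpectrum B, Localization.AtPrime q.asIdeal)
    (hπ : ∀ q, π q ∈ nonZeroDivisors (Localization.AtPrime q.asIdeal))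
    (hπC : ∀ Q : MaximalSpectrum C,
      algebraMap (Localization.AtPrime (under B C Q).asIdeal) (Localization.AtPrime Q.asIdeal)
        (π (under B C Q)) ∈ nonZeroDivisors (Localization.AtPrime Q.asIdeal))
    (θ : ∀ q : MaximalSpectrum B, ResidueField (Localization.AtPrime q.asIdeal)) :
    ∏ᶠ q : MaximalSpectrum B, Algebra.norm (ResidueField A) (θ q) ^
        (Ring.ord (Localization.AtPrime q.asIdeal) (π q)).toNat =
    ∏ᶠ Q : MaximalSpectrum C, Algebra.norm (ResidueField A)
        (algebraMap (ResidueField (Localization.AtPrime (under B C Q).asIdeal))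
          (ResidueField (Localization.AtPrime Q.asIdeal)) (θ (under B C Q))) ^
        (Ring.ord (Localization.AtPrime Q.asIdeal)
          (algebraMap (Localization.AtPrime (under B C Q).asIdeal)
            (Localization.AtPrime Q.asIdeal) (π (under B C Q)))).toNat := by
  classical
  haveI hfB := finite_maximalSpectrum A B
  haveI hfC := finite_maximalSpectrum A C
  haveI := Fintype.ofFinite (MaximalSpectrum B)
  haveI := Fintype.ofFinite (MaximalSpectrum C)
  rw [finprod_eq_prod_of_fintype, finprod_eq_prod_of_fintype]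
  have hQ : ∀ Q : MaximalSpectrum C, Algebra.norm (ResidueField A)
        (algebraMap (ResidueField (Localization.AtPrime (under B C Q).asIdeal))
          (ResidueField (Localization.AtPrime Q.asIdeal)) (θ (under B C Q))) ^
        (Ring.ord (Localization.AtPrime Q.asIdeal)
          (algebraMap (Localization.AtPrime (under B C Q).asIdeal)
            (Localization.AtPrime Q.asIdeal) (π (under B C Q)))).toNat =
      (fun q : MaximalSpectrum B => Algebra.norm (ResidueField A) (θ q)) (under B C Q) ^
        (relDeg B C Q * (Ring.ord (Localization.AtPrime Q.asIdeal)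
          (algebraMap (Localization.AtPrime (under B C Q).asIdeal)
            (Localization.AtPrime Q.asIdeal) (π (under B C Q)))).toNat) := by
    intro Q
    rw [norm_algebraMap_residue A B C Q, ← pow_mul]
  rw [Finset.prod_congr rfl (fun Q _ => hQ Q), ← Finset.prod_fiberwise Finset.univ (under B C)]
  refine Finset.prod_congr rfl fun q _ => ?_
  rw [ord_eq_finsum_fiber A B C hinj hfin π hπ hπC q, finsum_eq_sum_of_fintype,
    ← Finset.sum_filter, ← Finset.prod_pow_eq_pow_sum]
  refine Finset.prod_congr rfl fun Q hQm => ?_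
  have h := (Finset.mem_filter.mp hQm).2
  subst h
  rfl

end

end Part10

section Part11

open IsLocalRing CycAlg

theorem mem_nonZeroDivisors_of_pow_mul {R : Type*} [CommRing R] {x u : R} {e : ℕ} (he : 1 ≤ e)
    (h : u * x ^ e ∈ nonZeroDivisors R) : x ∈ nonZeroDivisors R := by
  rw [mem_nonZeroDivisors_iff_right]
  intro y hy
  apply (mem_nonZeroDivisors_iff_right.mp h) y
  obtain ⟨k, rfl⟩ := Nat.exists_eq_add_of_le he
  rw [pow_add, pow_one]
  calc y * (u * (x * x ^ k)) = (y * x) * (u * x ^ k) := by ring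
    _ = 0 := by rw [hy, zero_mul]

theorem theta_map {R S : Type u} [CommRing R] [IsLocalRing R] [CommRing S] [IsLocalRing S]
    [Algebra R S] [IsLocalHom (algebraMap R S)] (u₁ u₂ : Rˣ) (e₁ e₂ : ℕ) :
    theta (Units.map (algebraMap R S : R →* S) u₁) (Units.map (algebraMap R S : R →* S) u₂) e₁ e₂ =
      algebraMap (ResidueField R) (ResidueField S) (theta u₁ u₂ e₁ e₂) := by
  unfold theta
  simp only [map_mul, map_pow, map_inv₀, map_neg, map_one, Units.coe_map, MonoidHom.coe_coe,
    ResidueField.algebraMap_residue]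

section

variable {A : Type u} [CommRing A] [IsLocalRing A] {a₁ a₂ : A}

theorem localFactor_eq (D : TameData A a₁ a₂) (q : MaximalSpectrum D.B) :
    D.localFactor q =
      (haveI := D.isLocalHom q
       Algebra.norm (ResidueField A) (theta (D.u₁ q) (D.u₂ q) (D.e₁ q) (D.e₂ q))) ^
        (Ring.ord (Localization.AtPrime q.asIdeal) (D.π q)).toNat := rfl

theorem krullDimLE_one_of_finite (hA : ringKrullDim A = 1) (B : Type u) [CommRing B] [Algebra A B]
    [Module.Finite A B] : Ring.KrullDimLE 1 B := by
  haveI : Algebra.IsIntegral A B := Algebra.IsIntegral.of_finite A B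
  rw [Ring.krullDimLE_iff]
  exact (Groth.Agent.Lib.Helper5.ringKrullDim_le_of_isIntegral A B).trans (le_of_eq hA)

/-- exponents are positive when the product is not a unit -/
theorem one_le_exponent_sum (D : TameData A a₁ a₂) (h : ¬ IsUnit (a₁ * a₂)) (q : MaximalSpectrum D.B) :
    1 ≤ D.e₁ q + D.e₂ q := by
  by_contra hcon
  have h0 : D.e₁ q = 0 ∧ D.e₂ q = 0 := by omega
  haveI := D.isLocalHom q
  apply h
  apply isUnit_of_map_unit (algebraMap A (Localization.AtPrime q.asIdeal))
  rw [map_mul, D.fac₁ q, D.fac₂ q, h0.1, h0.2, pow_zero, mul_one, mul_one]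
  exact (D.u₁ q).isUnit.mul (D.u₂ q).isUnit

theorem algebraMap_mul_eq (D : TameData A a₁ a₂) (q : MaximalSpectrum D.B) :
    algebraMap A (Localization.AtPrime q.asIdeal) (a₁ * a₂) =
      ((D.u₁ q * D.u₂ q : (Localization.AtPrime q.asIdeal)ˣ) : Localization.AtPrime q.asIdeal) *
        D.π q ^ (D.e₁ q + D.e₂ q) := by
  rw [map_mul, D.fac₁ q, D.fac₂ q, pow_add, Units.val_mul]
  ring

end

section V

variable {A : Type u} [CommRing A] [IsLocalRing A] [IsNoetherianRing A] {a₁ a₂ : A}

/-- **Transport of the value of tame data to a finite extension.** -/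
theorem value_eq_finprod_extension (hA : ringKrullDim A = 1) (D : TameData A a₁ a₂)
    (h : ¬ IsUnit (a₁ * a₂))
    (C : Type u) [CommRing C] [Algebra A C] [Algebra D.B C] [IsScalarTower A D.B C]
    [Module.Finite A C] [Algebra.IsIntegral D.B C]
    [hlocC : ∀ q : MaximalSpectrum C, IsLocalHom (algebraMap A (Localization.AtPrime q.asIdeal))]
    (hinj : Function.Injective (algebraMap D.B C))
    (hfin : Module.length A
      (C ⧸ LinearMap.range (IsScalarTower.toAlgHom A D.B C).toLinearMap) ≠ ⊤)
    (hnzd : ∀ Q : MaximalSpectrum C, algebraMap A (Localization.AtPrime Q.asIdeal) (a₁ * a₂) ∈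
      nonZeroDivisors (Localization.AtPrime Q.asIdeal)) :
    D.value = ∏ᶠ Q : MaximalSpectrum C, Algebra.norm (ResidueField A)
      (theta
        (Units.map (algebraMap (Localization.AtPrime (under D.B C Q).asIdeal)
          (Localization.AtPrime Q.asIdeal) : Localization.AtPrime (under D.B C Q).asIdeal →*
            Localization.AtPrime Q.asIdeal) (D.u₁ (under D.B C Q)))
        (Units.map (algebraMap (Localization.AtPrime (under D.B C Q).asIdeal)
          (Localization.AtPrime Q.asIdeal) : Localization.AtPrime (under D.B C Q).asIdeal →*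
            Localization.AtPrime Q.asIdeal) (D.u₂ (under D.B C Q)))
        (D.e₁ (under D.B C Q)) (D.e₂ (under D.B C Q))) ^
      (Ring.ord (Localization.AtPrime Q.asIdeal)
        (algebraMap (Localization.AtPrime (under D.B C Q).asIdeal)
          (Localization.AtPrime Q.asIdeal) (D.π (under D.B C Q)))).toNat := by
  haveI hlocB : ∀ q : MaximalSpectrum D.B,
      IsLocalHom (algebraMap A (Localization.AtPrime q.asIdeal)) := D.isLocalHom
  haveI : Module.Finite A D.B := D.isFinExt.2.1
  haveI := krullDimLE_one_of_finite hA D.B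
  haveI := krullDimLE_one_of_finite hA C
  have hπC : ∀ Q : MaximalSpectrum C,
      algebraMap (Localization.AtPrime (under D.B C Q).asIdeal) (Localization.AtPrime Q.asIdeal)
        (D.π (under D.B C Q)) ∈ nonZeroDivisors (Localization.AtPrime Q.asIdeal) := by
    intro Q
    have h1 := hnzd Q
    rw [IsScalarTower.algebraMap_apply A (Localization.AtPrime (under D.B C Q).asIdeal)
      (Localization.AtPrime Q.asIdeal), algebraMap_mul_eq D (under D.B C Q), map_mul, map_pow] at h1
    exact mem_nonZeroDivisors_of_pow_mul (one_le_exponent_sum D h _) h1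
  have key := finprod_norm_pow_eq A D.B C hinj hfin D.π D.π_mem hπC
    (fun q => theta (D.u₁ q) (D.u₂ q) (D.e₁ q) (D.e₂ q))
  unfold TameData.value
  rw [finprod_congr (fun q => localFactor_eq D q)]
  rw [key]
  refine finprod_congr fun Q => ?_
  rw [theta_map]

end V

end Part11

section Part12

open IsLocalRing CycAlg

section V

variable {A : Type u} [CommRing A] [IsLocalRing A] [IsNoetherianRing A] {a₁ a₂ : A}

theorem map_pi_mem_nonZeroDivisors (D : TameData A a₁ a₂)
    (h : ¬ IsUnit (a₁ * a₂))
    (C : Type u) [CommRing C] [Algebra A C] [Algebra D.B C] [IsScalarTower A D.B C]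
    [Algebra.IsIntegral D.B C]
    (hnzd : ∀ Q : MaximalSpectrum C, algebraMap A (Localization.AtPrime Q.asIdeal) (a₁ * a₂) ∈
      nonZeroDivisors (Localization.AtPrime Q.asIdeal)) (Q : MaximalSpectrum C) :
    algebraMap (Localization.AtPrime (under D.B C Q).asIdeal) (Localization.AtPrime Q.asIdeal)
        (D.π (under D.B C Q)) ∈ nonZeroDivisors (Localization.AtPrime Q.asIdeal) := by
  have h1 := hnzd Q
  rw [IsScalarTower.algebraMap_apply A (Localization.AtPrime (under D.B C Q).asIdeal)
    (Localization.AtPrime Q.asIdeal), algebraMap_mul_eq D (under D.B C Q), map_mul, map_pow] at h1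
  exact mem_nonZeroDivisors_of_pow_mul (one_le_exponent_sum D h _) h1

theorem map_fac₁ (D : TameData A a₁ a₂)
    (C : Type u) [CommRing C] [Algebra A C] [Algebra D.B C] [IsScalarTower A D.B C]
    [Algebra.IsIntegral D.B C] (Q : MaximalSpectrum C) :
    algebraMap A (Localization.AtPrime Q.asIdeal) a₁ =
      ((Units.map (algebraMap (Localization.AtPrime (under D.B C Q).asIdeal)
          (Localization.AtPrime Q.asIdeal) : Localization.AtPrime (under D.B C Q).asIdeal →*
            Localization.AtPrime Q.asIdeal) (D.u₁ (under D.B C Q)) :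
          (Localization.AtPrime Q.asIdeal)ˣ) : Localization.AtPrime Q.asIdeal) *
      (algebraMap (Localization.AtPrime (under D.B C Q).asIdeal)
          (Localization.AtPrime Q.asIdeal) (D.π (under D.B C Q))) ^ D.e₁ (under D.B C Q) := by
  rw [IsScalarTower.algebraMap_apply A (Localization.AtPrime (under D.B C Q).asIdeal)
    (Localization.AtPrime Q.asIdeal), D.fac₁ (under D.B C Q), map_mul, map_pow]
  rfl

theorem map_fac₂ (D : TameData A a₁ a₂)
    (C : Type u) [CommRing C] [Algebra A C] [Algebra D.B C] [IsScalarTower A D.B C]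
    [Algebra.IsIntegral D.B C] (Q : MaximalSpectrum C) :
    algebraMap A (Localization.AtPrime Q.asIdeal) a₂ =
      ((Units.map (algebraMap (Localization.AtPrime (under D.B C Q).asIdeal)
          (Localization.AtPrime Q.asIdeal) : Localization.AtPrime (under D.B C Q).asIdeal →*
            Localization.AtPrime Q.asIdeal) (D.u₂ (under D.B C Q)) :
          (Localization.AtPrime Q.asIdeal)ˣ) : Localization.AtPrime Q.asIdeal) *
      (algebraMap (Localization.AtPrime (under D.B C Q).asIdeal)
          (Localization.AtPrime Q.asIdeal) (D.π (under D.B C Q))) ^ D.e₂ (under D.B C Q) := by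
  rw [IsScalarTower.algebraMap_apply A (Localization.AtPrime (under D.B C Q).asIdeal)
    (Localization.AtPrime Q.asIdeal), D.fac₂ (under D.B C Q), map_mul, map_pow]
  rfl

/-- Two tame data admitting a common finite extension have the same value. -/
theorem value_eq_of_common_extension (hA : ringKrullDim A = 1) (D D' : TameData A a₁ a₂)
    (h : ¬ IsUnit (a₁ * a₂))
    (C : Type u) [CommRing C] [Algebra A C] [Algebra D.B C] [IsScalarTower A D.B C]
    [Algebra D'.B C] [IsScalarTower A D'.B C]
    [Module.Finite A C] [Algebra.IsIntegral D.B C] [Algebra.IsIntegral D'.B C]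
    [hlocC : ∀ q : MaximalSpectrum C, IsLocalHom (algebraMap A (Localization.AtPrime q.asIdeal))]
    (hinj : Function.Injective (algebraMap D.B C))
    (hinj' : Function.Injective (algebraMap D'.B C))
    (hfin : Module.length A
      (C ⧸ LinearMap.range (IsScalarTower.toAlgHom A D.B C).toLinearMap) ≠ ⊤)
    (hfin' : Module.length A
      (C ⧸ LinearMap.range (IsScalarTower.toAlgHom A D'.B C).toLinearMap) ≠ ⊤)
    (hnzd : ∀ Q : MaximalSpectrum C, algebraMap A (Localization.AtPrime Q.asIdeal) (a₁ * a₂) ∈
      nonZeroDivisors (Localization.AtPrime Q.asIdeal)) :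
    D.value = D'.value := by
  rw [value_eq_finprod_extension hA D h C hinj hfin hnzd,
    value_eq_finprod_extension hA D' h C hinj' hfin' hnzd]
  haveI : IsNoetherianRing C := IsNoetherianRing.of_finite A C
  haveI := krullDimLE_one_of_finite hA C
  refine finprod_congr fun Q => ?_
  haveI := krullDimLE_one_localization C Q.asIdeal
  rw [← map_pow, ← map_pow]
  congr 1
  exact theta_pow_eq (algebraMap A (Localization.AtPrime Q.asIdeal) a₁)
    (algebraMap A (Localization.AtPrime Q.asIdeal) a₂) _ _
    (map_pi_mem_nonZeroDivisors D h C hnzd Q) (map_pi_mem_nonZeroDivisors D' h C hnzd Q)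
    _ _ _ _ _ _ _ _ (map_fac₁ D C Q) (map_fac₂ D C Q) (map_fac₁ D' C Q) (map_fac₂ D' C Q)

end V

end Part12

section Part13

open IsLocalRing CycAlg

/-- A finite extension with cokernel killed by a power of `I`, on which some nonzerodivisor
`c ∈ I` stays a nonzerodivisor, embeds into the total ring of fractions. -/
theorem exists_algHom_fractionRing (A : Type u) [CommRing A] (B : Type u) [CommRing B]
    [Algebra A B] (I : Ideal A) (hB : IsFinExt A B I) (c : A) (hcI : c ∈ I)
    (hcB : algebraMap A B c ∈ nonZeroDivisors B) :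
    ∃ φ : B →ₐ[A] FractionRing A, Function.Injective φ := by
  obtain ⟨hinj, -, n, hn⟩ := hB
  have hcn : algebraMap A B (c ^ n) ∈ nonZeroDivisors B := by
    rw [map_pow]; exact pow_mem hcB n
  have hMle : Algebra.algebraMapSubmonoid B (nonZeroDivisors A) ≤ nonZeroDivisors B := by
    rintro _ ⟨s, hs, rfl⟩
    rw [mem_nonZeroDivisors_iff_right]
    intro b hb
    obtain ⟨r, hr⟩ := hn (c ^ n) (Ideal.pow_mem_pow hcI n) b
    have h1 : algebraMap A B (r * s) = 0 := by
      rw [map_mul, hr, Algebra.smul_def, mul_assoc, hb, mul_zero]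
    have h2 : r * s = 0 := hinj (by rw [h1, map_zero])
    have h3 : r = 0 := (mem_nonZeroDivisors_iff_right.mp hs) r h2
    have h4 : algebraMap A B (c ^ n) * b = algebraMap A B (c ^ n) * 0 := by
      rw [← Algebra.smul_def, ← hr, h3, map_zero, mul_zero]
    exact (mul_cancel_left_mem_nonZeroDivisors hcn).mp h4
  let BS := Localization (Algebra.algebraMapSubmonoid B (nonZeroDivisors A))
  have hcomp : ∀ a : A, algebraMap A BS a = algebraMap B BS (algebraMap A B a) := fun a =>
    IsScalarTower.algebraMap_apply A B BS a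
  haveI : IsLocalization (nonZeroDivisors A) BS := by
    refine ⟨?_, ?_, ?_⟩
    · intro s
      rw [hcomp]
      exact IsLocalization.map_units BS
        (⟨algebraMap A B s, ⟨s, s.2, rfl⟩⟩ : Algebra.algebraMapSubmonoid B (nonZeroDivisors A))
    · intro z
      obtain ⟨b, ⟨_, s₀, hs₀, rfl⟩, rfl⟩ :=
        IsLocalization.exists_mk'_eq (Algebra.algebraMapSubmonoid B (nonZeroDivisors A)) z
      obtain ⟨r, hr⟩ := hn (c ^ n) (Ideal.pow_mem_pow hcI n) b
      have hcnA : c ^ n ∈ nonZeroDivisors A := by
        rw [mem_nonZeroDivisors_iff_right]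
        intro x hx
        apply hinj
        rw [map_zero]
        have : algebraMap A B x * algebraMap A B (c ^ n) = 0 := by rw [← map_mul, hx, map_zero]
        exact (mem_nonZeroDivisors_iff_right.mp hcn) _ this
      refine ⟨(r, ⟨s₀ * c ^ n, Submonoid.mul_mem _ hs₀ hcnA⟩), ?_⟩
      simp only
      rw [hcomp, hcomp, map_mul, map_mul, ← mul_assoc, IsLocalization.mk'_spec, hr,
        Algebra.smul_def, map_mul, mul_comm]
    · intro x y hxy
      rw [hcomp, hcomp] at hxy
      obtain ⟨⟨_, s₀, hs₀, rfl⟩, ht⟩ :=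
        IsLocalization.exists_of_eq (M := Algebra.algebraMapSubmonoid B (nonZeroDivisors A)) hxy
      refine ⟨⟨s₀, hs₀⟩, ?_⟩
      apply hinj
      simpa [map_mul] using ht
  let e : BS ≃ₐ[A] FractionRing A :=
    IsLocalization.algEquiv (nonZeroDivisors A) BS (FractionRing A)
  refine ⟨(e : BS →ₐ[A] FractionRing A).comp (IsScalarTower.toAlgHom A B BS), ?_⟩
  intro x y hxy
  have h1 : algebraMap B BS x = algebraMap B BS y := e.injective hxy
  exact IsLocalization.injective BS hMle h1

end Part13

section Part14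

open IsLocalRing CycAlg

theorem isLocalHom_of_integral (A : Type u) [CommRing A] [IsLocalRing A] (C : Type u) [CommRing C]
    [Algebra A C] [Algebra.IsIntegral A C] (Q : MaximalSpectrum C) :
    IsLocalHom (algebraMap A (Localization.AtPrime Q.asIdeal)) := by
  refine ⟨fun a ha => ?_⟩
  by_contra hna
  have ham : a ∈ maximalIdeal A := (mem_maximalIdeal _).mpr hna
  haveI := Q.isMaximal
  have hmax : (Q.asIdeal.comap (algebraMap A C)).IsMaximal :=
    Ideal.isMaximal_comap_of_isIntegral_of_isMaximal _
  have heq : Q.asIdeal.comap (algebraMap A C) = maximalIdeal A := eq_maximalIdeal hmax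
  have h1 : algebraMap A C a ∈ Q.asIdeal := by
    rw [← Ideal.mem_comap, heq]; exact ham
  have h2 : algebraMap C (Localization.AtPrime Q.asIdeal) (algebraMap A C a) ∈
      maximalIdeal (Localization.AtPrime Q.asIdeal) :=
    (IsLocalization.AtPrime.to_map_mem_maximal_iff _ Q.asIdeal _).mpr h1
  rw [← IsScalarTower.algebraMap_apply] at h2
  exact (mem_maximalIdeal _).mp h2 ha

section

variable {A : Type u} [CommRing A] [IsLocalRing A] [IsNoetherianRing A] {a₁ a₂ : A}

theorem value_eq_one_of_isUnit (hA : ringKrullDim A = 1) (D : TameData A a₁ a₂)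
    (h : IsUnit (a₁ * a₂)) : D.value = 1 := by
  haveI : Module.Finite A D.B := D.isFinExt.2.1
  haveI : IsNoetherianRing D.B := IsNoetherianRing.of_finite A D.B
  haveI := krullDimLE_one_of_finite hA D.B
  unfold TameData.value
  rw [finprod_congr (fun q => localFactor_eq D q)]
  have h1 : ∀ q : MaximalSpectrum D.B, (haveI := D.isLocalHom q
       Algebra.norm (ResidueField A) (theta (D.u₁ q) (D.u₂ q) (D.e₁ q) (D.e₂ q))) ^
        (Ring.ord (Localization.AtPrime q.asIdeal) (D.π q)).toNat = 1 := by
    intro q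
    haveI := D.isLocalHom q
    haveI := krullDimLE_one_localization D.B q.asIdeal
    have hu₁ : IsUnit a₁ := isUnit_of_mul_isUnit_left h
    have hu₂ : IsUnit a₂ := isUnit_of_mul_isUnit_right h
    rw [← map_pow, theta_pow_eq_one_of_isUnit _ _ (D.π q) (D.π_mem q) _ _ _ _ (D.fac₁ q) (D.fac₂ q)
      (hu₁.map _) (hu₂.map _), map_one]
  rw [finprod_congr h1, finprod_one]

theorem algebraMap_mem_nonZeroDivisors_B (D : TameData A a₁ a₂) (h : ¬ IsUnit (a₁ * a₂)) :
    algebraMap A D.B (a₁ * a₂) ∈ nonZeroDivisors D.B := by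
  apply mem_nonZeroDivisors_of_localization
  intro q
  rw [← IsScalarTower.algebraMap_apply, algebraMap_mul_eq D q]
  exact unit_mul_pow_mem_nonZeroDivisors _ (D.π_mem q) _ _

/-- **Well-definedness of the tame symbol.** -/
theorem value_eq (hA : ringKrullDim A = 1) (h₁ : a₁ ∈ nonZeroDivisors A)
    (h₂ : a₂ ∈ nonZeroDivisors A) (D D' : TameData A a₁ a₂) : D.value = D'.value := by
  by_cases h : IsUnit (a₁ * a₂)
  · rw [value_eq_one_of_isUnit hA D h, value_eq_one_of_isUnit hA D' h]
  have hcm : a₁ * a₂ ∈ maximalIdeal A := (mem_maximalIdeal _).mpr h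
  have hcnzd : a₁ * a₂ ∈ nonZeroDivisors A := Submonoid.mul_mem _ h₁ h₂
  obtain ⟨φ, hφ⟩ := exists_algHom_fractionRing A D.B (maximalIdeal A) D.isFinExt (a₁ * a₂) hcm
    (algebraMap_mem_nonZeroDivisors_B D h)
  obtain ⟨φ', hφ'⟩ := exists_algHom_fractionRing A D'.B (maximalIdeal A) D'.isFinExt (a₁ * a₂) hcm
    (algebraMap_mem_nonZeroDivisors_B D' h)
  haveI : Module.Finite A D.B := D.isFinExt.2.1
  haveI : Module.Finite A D'.B := D'.isFinExt.2.1
  haveI : Module.Finite A φ.range :=
    Module.Finite.of_surjective φ.rangeRestrict.toLinearMap φ.rangeRestrict_surjective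
  haveI : Module.Finite A φ'.range :=
    Module.Finite.of_surjective φ'.rangeRestrict.toLinearMap φ'.rangeRestrict_surjective
  haveI : Module.Finite A ↥(φ.range ⊔ φ'.range) := Subalgebra.finite_sup _ _
  let ψ : D.B →ₐ[A] ↥(φ.range ⊔ φ'.range) :=
    (Subalgebra.inclusion le_sup_left).comp φ.rangeRestrict
  let ψ' : D'.B →ₐ[A] ↥(φ.range ⊔ φ'.range) :=
    (Subalgebra.inclusion le_sup_right).comp φ'.rangeRestrict
  have hψ : Function.Injective ψ := by
    intro x y hxy
    apply hφ
    have := congrArg (fun z : ↥(φ.range ⊔ φ'.range) => (z : FractionRing A)) hxy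
    exact this
  have hψ' : Function.Injective ψ' := by
    intro x y hxy
    apply hφ'
    have := congrArg (fun z : ↥(φ.range ⊔ φ'.range) => (z : FractionRing A)) hxy
    exact this
  letI : Algebra D.B ↥(φ.range ⊔ φ'.range) := ψ.toRingHom.toAlgebra
  letI : Algebra D'.B ↥(φ.range ⊔ φ'.range) := ψ'.toRingHom.toAlgebra
  haveI : IsScalarTower A D.B ↥(φ.range ⊔ φ'.range) :=
    IsScalarTower.of_algebraMap_eq (fun x => (ψ.commutes x).symm)
  haveI : IsScalarTower A D'.B ↥(φ.range ⊔ φ'.range) :=
    IsScalarTower.of_algebraMap_eq (fun x => (ψ'.commutes x).symm)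
  haveI : Module.Finite D.B ↥(φ.range ⊔ φ'.range) := Module.Finite.of_restrictScalars_finite A _ _
  haveI : Module.Finite D'.B ↥(φ.range ⊔ φ'.range) := Module.Finite.of_restrictScalars_finite A _ _
  haveI : Algebra.IsIntegral A ↥(φ.range ⊔ φ'.range) := Algebra.IsIntegral.of_finite _ _
  haveI hlocC : ∀ Q : MaximalSpectrum ↥(φ.range ⊔ φ'.range),
      IsLocalHom (algebraMap A (Localization.AtPrime Q.asIdeal)) :=
    fun Q => isLocalHom_of_integral A _ Q
  obtain ⟨hCinj, -, k, hk⟩ := Groth.Agent.Lib.R2H1.Factorize.isFinExt_of_finite_subalgebra A hA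
    (FractionRing A) (φ.range ⊔ φ'.range)
  have hfin_gen : ∀ (X : Submodule A ↥(φ.range ⊔ φ'.range)),
      LinearMap.range (Algebra.linearMap A ↥(φ.range ⊔ φ'.range)) ≤ X →
      Module.length A (↥(φ.range ⊔ φ'.range) ⧸ X) ≠ ⊤ := by
    intro X hX
    apply length_ne_top_of_pow_smul_eq_zero A k
    intro r hr x
    obtain ⟨x, rfl⟩ := Submodule.Quotient.mk_surjective _ x
    rw [← Submodule.Quotient.mk_smul, Submodule.Quotient.mk_eq_zero]
    obtain ⟨r', hr'⟩ := hk r hr x
    exact hX ⟨r', hr'⟩
  have hfin : Module.length A (↥(φ.range ⊔ φ'.range) ⧸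
      LinearMap.range (IsScalarTower.toAlgHom A D.B ↥(φ.range ⊔ φ'.range)).toLinearMap) ≠ ⊤ := by
    apply hfin_gen
    rintro _ ⟨r, rfl⟩
    exact ⟨algebraMap A D.B r, (IsScalarTower.algebraMap_apply A D.B _ r).symm⟩
  have hfin' : Module.length A (↥(φ.range ⊔ φ'.range) ⧸
      LinearMap.range (IsScalarTower.toAlgHom A D'.B ↥(φ.range ⊔ φ'.range)).toLinearMap) ≠ ⊤ := by
    apply hfin_gen
    rintro _ ⟨r, rfl⟩
    exact ⟨algebraMap A D'.B r, (IsScalarTower.algebraMap_apply A D'.B _ r).symm⟩
  have hnzdC : algebraMap A ↥(φ.range ⊔ φ'.range) (a₁ * a₂) ∈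
      nonZeroDivisors ↥(φ.range ⊔ φ'.range) := by
    rw [mem_nonZeroDivisors_iff_right]
    intro x hx
    have hu : IsUnit (algebraMap A (FractionRing A) (a₁ * a₂)) :=
      IsLocalization.map_units (FractionRing A) (⟨a₁ * a₂, hcnzd⟩ : nonZeroDivisors A)
    apply Subtype.ext
    have h1 : (x : FractionRing A) * algebraMap A (FractionRing A) (a₁ * a₂) = 0 := by
      have := congrArg (fun z : ↥(φ.range ⊔ φ'.range) => (z : FractionRing A)) hx
      simpa using this
    simpa using (hu.mul_left_eq_zero).mp h1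
  have hnzd : ∀ Q : MaximalSpectrum ↥(φ.range ⊔ φ'.range),
      algebraMap A (Localization.AtPrime Q.asIdeal) (a₁ * a₂) ∈
        nonZeroDivisors (Localization.AtPrime Q.asIdeal) := by
    intro Q
    rw [IsScalarTower.algebraMap_apply A ↥(φ.range ⊔ φ'.range) (Localization.AtPrime Q.asIdeal)]
    exact IsLocalization.nonZeroDivisors_le_comap Q.asIdeal.primeCompl _ hnzdC
  exact value_eq_of_common_extension hA D D' h ↥(φ.range ⊔ φ'.range) hψ hψ' hfin hfin' hnzd

end

end Part14

end Groth.Agent.Lib.R2H1.Tame
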