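/-
Laws of the tame symbol of a one-dimensional Noetherian local ring (S1848): LocData/Fac framework,
local identities theta_mul_left/right, theta_self, theta_unit_left, theta_steinberg, finsum_resDeg_mul, tameSymbol_laws.
-/
import Mathlib
import Groth.Prelude.Def_Tame
import Groth.Agent.Lib.R2H1Tame

set_option autoImplicit false
set_option linter.style.haveILetI false
set_option linter.unusedSectionVars false
universe u v

namespace Groth.Agent.Lib.R2H1.TameLaws

section Part1

open IsLocalRing CycAlg Groth.Agent.Lib.R2H1.Tame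

/-- A finite extension with a chosen local parameter at each maximal ideal. -/
structure LocData (A : Type u) [CommRing A] [IsLocalRing A] : Type (u + 1) where
  /-- the extension ring -/
  B : Type u
  [commRing : CommRing B]
  [algebra : Algebra A B]
  isFinExt : IsFinExt A B (maximalIdeal A)
  /-- local parameters -/
  π : (q : MaximalSpectrum B) → Localization.AtPrime q.asIdeal
  π_mem : ∀ q, π q ∈ nonZeroDivisors (Localization.AtPrime q.asIdeal)

attribute [instance] LocData.commRing LocData.algebra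

namespace LocData

variable {A : Type u} [CommRing A] [IsLocalRing A]

/-- A factorization of `x` with respect to the local parameters. -/
structure Fac (L : LocData A) (x : A) : Type u where
  /-- units -/
  u : (q : MaximalSpectrum L.B) → (Localization.AtPrime q.asIdeal)ˣ
  /-- exponents -/
  e : MaximalSpectrum L.B → ℕ
  fac : ∀ q, algebraMap A (Localization.AtPrime q.asIdeal) x =
    (u q : Localization.AtPrime q.asIdeal) * L.π q ^ e q

theorem finite (L : LocData A) : Module.Finite A L.B := L.isFinExt.2.1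

theorem isLocalHom (L : LocData A) (q : MaximalSpectrum L.B) :
    IsLocalHom (algebraMap A (Localization.AtPrime q.asIdeal)) := by
  haveI := L.finite
  haveI : Algebra.IsIntegral A L.B := Algebra.IsIntegral.of_finite A L.B
  exact isLocalHom_of_integral A L.B q

/-- product of factorizations -/
def Fac.mul {L : LocData A} {x y : A} (Fx : L.Fac x) (Fy : L.Fac y) : L.Fac (x * y) where
  u q := Fx.u q * Fy.u q
  e q := Fx.e q + Fy.e q
  fac q := by
    rw [map_mul, Fx.fac q, Fy.fac q, pow_add, Units.val_mul]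
    ring

/-- factorization of a unit -/
noncomputable def Fac.ofUnit (L : LocData A) (c : Aˣ) : L.Fac (c : A) where
  u q := Units.map (algebraMap A (Localization.AtPrime q.asIdeal) : A →* _) c
  e _ := 0
  fac q := by simp

/-- The tame data attached to two factorizations. -/
noncomputable def tame (L : LocData A) {x y : A} (Fx : L.Fac x) (Fy : L.Fac y) : TameData A x y where
  B := L.B
  isFinExt := L.isFinExt
  isLocalHom := L.isLocalHom
  π := L.π
  π_mem := L.π_mem
  u₁ := Fx.u
  u₂ := Fy.u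
  e₁ := Fx.e
  e₂ := Fy.e
  fac₁ := Fx.fac
  fac₂ := Fy.fac

/-- local factor -/
noncomputable def loc (L : LocData A) {x y : A} (Fx : L.Fac x) (Fy : L.Fac y)
    (q : MaximalSpectrum L.B) : ResidueField A :=
  haveI := L.isLocalHom q
  Algebra.norm (ResidueField A) (theta (Fx.u q) (Fy.u q) (Fx.e q) (Fy.e q)) ^
    (Ring.ord (Localization.AtPrime q.asIdeal) (L.π q)).toNat

theorem tame_value (L : LocData A) {x y : A} (Fx : L.Fac x) (Fy : L.Fac y) :
    (L.tame Fx Fy).value = ∏ᶠ q : MaximalSpectrum L.B, L.loc Fx Fy q := rfl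

end LocData

section

variable {A : Type u} [CommRing A] [IsLocalRing A] [IsNoetherianRing A]

theorem tameSymbol_eq_value (hA : ringKrullDim A = 1) {x y : A} (hx : x ∈ nonZeroDivisors A)
    (hy : y ∈ nonZeroDivisors A) (D : TameData A x y) : tameSymbol A x y = D.value := by
  unfold tameSymbol
  have h : Nonempty (TameData A x y) := ⟨D⟩
  rw [dif_pos h]
  exact value_eq hA hx hy _ _

theorem tameSymbol_eq_finprod (hA : ringKrullDim A = 1) {x y : A} (hx : x ∈ nonZeroDivisors A)
    (hy : y ∈ nonZeroDivisors A) (L : LocData A) (Fx : L.Fac x) (Fy : L.Fac y) :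
    tameSymbol A x y = ∏ᶠ q : MaximalSpectrum L.B, L.loc Fx Fy q := by
  rw [tameSymbol_eq_value hA hx hy (L.tame Fx Fy), LocData.tame_value]

/-- Existence of common local data for a finite family of nonzerodivisors. -/
theorem exists_locData (hA : ringKrullDim A = 1) (r : ℕ) (a : Fin r → A)
    (ha : ∀ i, a i ∈ nonZeroDivisors A) :
    ∃ L : LocData A, ∀ i, Nonempty (L.Fac (a i)) := by
  obtain ⟨B, _, _, hB, h⟩ := Groth.Agent.Lib.R2H1.Factorize.main1836 A hA r a ha
  choose π hπ hfac using h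
  choose v e hve using hfac
  refine ⟨{ B := B, isFinExt := hB, π := π, π_mem := hπ }, fun i => ⟨?_⟩⟩
  exact { u := fun q => v q i, e := fun q => e q i, fac := fun q => hve q i }

end

end Part1

section Part2

open IsLocalRing CycAlg Groth.Agent.Lib.R2H1.Tame

section Local

variable {R : Type u} [CommRing R] [IsLocalRing R]

theorem theta_mul_left (u u' v : Rˣ) (e e' f : ℕ) :
    theta (u * u') v (e + e') f = theta u v e f * theta u' v e' f := by
  unfold theta
  simp only [Units.val_mul, map_mul, add_mul, pow_add, mul_pow, mul_inv]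
  ring

theorem theta_mul_right (v u u' : Rˣ) (f e e' : ℕ) :
    theta v (u * u') f (e + e') = theta v u f e * theta v u' f e' := by
  unfold theta
  simp only [Units.val_mul, map_mul, mul_add, pow_add, mul_pow, mul_inv]
  ring

theorem theta_self (v : Rˣ) (f : ℕ) : theta v v f f = (-1 : ResidueField R) ^ f := by
  unfold theta
  rw [mul_assoc, mul_inv_cancel₀ (pow_ne_zero _ (residue_unit_ne_zero v)), mul_one,
    neg_one_pow_mul_self]

theorem theta_unit_left (c v : Rˣ) (f : ℕ) : theta c v 0 f = residue R (c : R) ^ f := by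
  unfold theta
  simp

theorem theta_congr {u₁ u₂ u₁' u₂' : Rˣ} (h₁ : residue R (u₁ : R) = residue R (u₁' : R))
    (h₂ : residue R (u₂ : R) = residue R (u₂' : R)) (e f : ℕ) :
    theta u₁ u₂ e f = theta u₁' u₂' e f := by
  unfold theta
  rw [h₁, h₂]

/-- uniqueness of the exponent and the unit -/
theorem unit_pow_unique {π : R} (hπ : π ∈ nonZeroDivisors R) (hnu : ¬ IsUnit π) (u u' : Rˣ)
    (e e' : ℕ) (h : (u : R) * π ^ e = (u' : R) * π ^ e') : e = e' ∧ u = u' := by
  wlog hle : e ≤ e' generalizing u u' e e'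
  · obtain ⟨h1, h2⟩ := this u' u e' e h.symm (le_of_not_ge hle)
    exact ⟨h1.symm, h2.symm⟩
  obtain ⟨k, rfl⟩ := Nat.exists_eq_add_of_le hle
  have h1 : (u : R) = (u' : R) * π ^ k := by
    have hpe : π ^ e ∈ nonZeroDivisors R := pow_mem hπ e
    apply (mul_cancel_right_mem_nonZeroDivisors hpe).mp
    rw [h, pow_add]
    ring
  have hk : k = 0 := by
    by_contra hk
    obtain ⟨j, rfl⟩ := Nat.exists_eq_succ_of_ne_zero hk
    apply hnu
    have h2 : IsUnit ((u' : R) * π ^ (j + 1)) := h1 ▸ u.isUnit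
    have h3 : IsUnit (π ^ (j + 1)) := isUnit_of_mul_isUnit_right h2
    exact isUnit_of_mul_isUnit_left (by rw [pow_succ'] at h3; exact h3)
  subst hk
  refine ⟨rfl, ?_⟩
  apply Units.ext
  rw [h1, pow_zero, mul_one]

theorem residue_pow_pos_eq_zero {π : R} (hnu : ¬ IsUnit π) {k : ℕ} (hk : 0 < k) (x : R) :
    residue R (x * π ^ k) = 0 := by
  rw [residue_eq_zero_iff]
  apply Ideal.mul_mem_left
  exact Ideal.pow_mem_of_mem _ ((mem_maximalIdeal _).mpr hnu) k hk

/-- sign identity for the case `e < f` -/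
theorem field_steinberg_lt {K : Type*} [Field K] (a b : K) (ha : a ≠ 0) (hb : b ≠ 0) (e f : ℕ) :
    ((-1 : K) ^ (e * e) * a ^ e * ((-a) ^ e)⁻¹) * ((-1 : K) ^ (f * f) * b ^ f * (b ^ f)⁻¹) =
      ((-1 : K) ^ (f * e) * b ^ e * ((-a) ^ f)⁻¹) * ((-1 : K) ^ (e * f) * a ^ f * (b ^ e)⁻¹) := by
  have hae : a ^ e ≠ 0 := pow_ne_zero _ ha
  have haf : a ^ f ≠ 0 := pow_ne_zero _ ha
  have hbe : b ^ e ≠ 0 := pow_ne_zero _ hb
  have hbf : b ^ f ≠ 0 := pow_ne_zero _ hb
  rw [neg_pow a e, neg_pow a f, neg_one_pow_mul_self, neg_one_pow_mul_self, mul_comm f e]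
  have hs : ∀ n : ℕ, ((-1 : K) ^ n)⁻¹ = (-1 : K) ^ n := by
    intro n
    rcases Nat.even_or_odd n with h | h
    · rw [h.neg_one_pow, inv_one]
    · rw [h.neg_one_pow, inv_neg_one]
  have hs2 : ∀ n : ℕ, (-1 : K) ^ n * (-1 : K) ^ n = 1 := by
    intro n
    rw [← mul_pow]; simp
  rw [mul_inv, mul_inv, hs, hs]
  have e1 : (-1 : K) ^ e * a ^ e * ((-1 : K) ^ e * (a ^ e)⁻¹) = 1 := by
    calc (-1 : K) ^ e * a ^ e * ((-1 : K) ^ e * (a ^ e)⁻¹)
        = ((-1 : K) ^ e * (-1 : K) ^ e) * (a ^ e * (a ^ e)⁻¹) := by ring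
      _ = 1 := by rw [hs2, mul_inv_cancel₀ hae, mul_one]
  have e2 : (-1 : K) ^ f * b ^ f * (b ^ f)⁻¹ = (-1 : K) ^ f := by
    rw [mul_assoc, mul_inv_cancel₀ hbf, mul_one]
  have e3 : ((-1 : K) ^ (e * f) * b ^ e * ((-1 : K) ^ f * (a ^ f)⁻¹)) *
      ((-1 : K) ^ (e * f) * a ^ f * (b ^ e)⁻¹) = (-1 : K) ^ f := by
    calc ((-1 : K) ^ (e * f) * b ^ e * ((-1 : K) ^ f * (a ^ f)⁻¹)) *
        ((-1 : K) ^ (e * f) * a ^ f * (b ^ e)⁻¹)
        = ((-1 : K) ^ (e * f) * (-1 : K) ^ (e * f)) * (b ^ e * (b ^ e)⁻¹) * (a ^ f * (a ^ f)⁻¹) *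
            (-1 : K) ^ f := by ring
      _ = (-1 : K) ^ f := by
        rw [hs2, mul_inv_cancel₀ hbe, mul_inv_cancel₀ haf, mul_one, mul_one, one_mul]
  rw [e1, e2, e3, one_mul]

end Local

end Part2

section Part3

open IsLocalRing CycAlg Groth.Agent.Lib.R2H1.Tame

section Local

variable {R : Type u} [CommRing R] [IsLocalRing R]

theorem pow_pos_mem_maximalIdeal {π : R} (hnu : ¬ IsUnit π) (k : ℕ) (x : R) :
    x * π ^ (k + 1) ∈ maximalIdeal R := by
  apply Ideal.mul_mem_left
  exact Ideal.pow_mem_of_mem _ ((mem_maximalIdeal _).mpr hnu) (k + 1) (Nat.succ_pos k)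

/-- The local Steinberg-type identity. -/
theorem theta_steinberg (π : R) (hπ : π ∈ nonZeroDivisors R) (hnu : ¬ IsUnit π)
    (xa xb : R) (u v w : Rˣ) (e f g : ℕ) (ha : xa = (u : R) * π ^ e) (hb : xb = (v : R) * π ^ f)
    (hc : xb - xa = (w : R) * π ^ g) :
    theta u w e g * theta v v f f = theta v w f g * theta u v e f := by
  rcases lt_trichotomy e f with hlt | heq | hgt
  · -- e < f
    obtain ⟨k, rfl⟩ : ∃ k, f = e + (k + 1) := ⟨f - e - 1, by omega⟩
    have hw₀ : IsUnit ((v : R) * π ^ (k + 1) - (u : R)) := by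
      have h0 : (v : R) * π ^ (k + 1) - (u : R) = (-(u : R)) + (v : R) * π ^ (k + 1) := by ring
      rw [h0]
      exact isUnit_add_of_isUnit_of_mem u.isUnit.neg (pow_pos_mem_maximalIdeal hnu k _)
    have h1 : (w : R) * π ^ g = (hw₀.unit : R) * π ^ e := by
      rw [← hc, ha, hb, IsUnit.unit_spec, pow_add]
      ring
    obtain ⟨hge, hw⟩ := unit_pow_unique hπ hnu w hw₀.unit g e h1
    subst hge
    have hres : residue R (w : R) = - residue R (u : R) := by
      rw [hw, IsUnit.unit_spec, map_sub,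
        (residue_eq_zero_iff _).mpr (pow_pos_mem_maximalIdeal hnu k _), zero_sub]
    unfold theta
    rw [hres]
    exact field_steinberg_lt _ _ (residue_unit_ne_zero u) (residue_unit_ne_zero v) g (g + (k + 1))
  · -- e = f
    subst heq
    have hc' : ((v : R) - (u : R)) * π ^ e = (w : R) * π ^ g := by
      rw [← hc, ha, hb]; ring
    by_cases hge : g < e
    · exfalso
      obtain ⟨k, rfl⟩ : ∃ k, e = g + (k + 1) := ⟨e - g - 1, by omega⟩
      have h2 : (w : R) = ((v : R) - (u : R)) * π ^ (k + 1) := by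
        have hpg : π ^ g ∈ nonZeroDivisors R := pow_mem hπ g
        apply (mul_cancel_right_mem_nonZeroDivisors hpg).mp
        rw [← hc', pow_add]
        ring
      have h3 : (w : R) ∈ maximalIdeal R := h2 ▸ pow_pos_mem_maximalIdeal hnu k _
      exact (mem_maximalIdeal _).mp h3 w.isUnit
    · obtain ⟨j, rfl⟩ : ∃ j, g = e + j := ⟨g - e, by omega⟩
      have h2 : (v : R) - (u : R) = (w : R) * π ^ j := by
        have hpe : π ^ e ∈ nonZeroDivisors R := pow_mem hπ e
        apply (mul_cancel_right_mem_nonZeroDivisors hpe).mp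
        rw [hc', pow_add]
        ring
      rcases Nat.eq_zero_or_pos j with hj | hj
      · subst hj
        unfold theta
        ring
      · obtain ⟨k, rfl⟩ : ∃ k, j = k + 1 := ⟨j - 1, by omega⟩
        have hres : residue R (v : R) = residue R (u : R) := by
          have h3 : residue R ((v : R) - (u : R)) = 0 := by
            rw [h2]; exact (residue_eq_zero_iff _).mpr (pow_pos_mem_maximalIdeal hnu k _)
          rw [map_sub, sub_eq_zero] at h3
          exact h3
        rw [theta_congr hres hres e e, theta_congr hres rfl e (e + (k + 1)),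
          theta_congr (rfl : residue R (u : R) = residue R (u : R)) hres e e]
  · -- f < e
    obtain ⟨k, rfl⟩ : ∃ k, e = f + (k + 1) := ⟨e - f - 1, by omega⟩
    have hw₀ : IsUnit ((v : R) - (u : R) * π ^ (k + 1)) := by
      have h0 : (v : R) - (u : R) * π ^ (k + 1) = (v : R) + (-(u : R)) * π ^ (k + 1) := by ring
      rw [h0]
      exact isUnit_add_of_isUnit_of_mem v.isUnit (pow_pos_mem_maximalIdeal hnu k _)
    have h1 : (w : R) * π ^ g = (hw₀.unit : R) * π ^ f := by
      rw [← hc, ha, hb, IsUnit.unit_spec, pow_add]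
      ring
    obtain ⟨hgf, hw⟩ := unit_pow_unique hπ hnu w hw₀.unit g f h1
    subst hgf
    have hres : residue R (w : R) = residue R (v : R) := by
      rw [hw, IsUnit.unit_spec, map_sub,
        (residue_eq_zero_iff _).mpr (pow_pos_mem_maximalIdeal hnu k _), sub_zero]
    rw [theta_congr (rfl : residue R (u : R) = residue R (u : R)) hres,
      theta_congr (rfl : residue R (v : R) = residue R (v : R)) hres, mul_comm]

end Local

end Part3

section Part4

open IsLocalRing CycAlg Groth.Agent.Lib.R2H1.Tame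

section

variable {A : Type u} [CommRing A] [IsLocalRing A]

instance LocData.instIsLocalHom (L : LocData A) (q : MaximalSpectrum L.B) :
    IsLocalHom (algebraMap A (Localization.AtPrime q.asIdeal)) := L.isLocalHom q

instance LocData.instFinite (L : LocData A) : Module.Finite A L.B := L.finite

theorem LocData.finite_maxSpec (L : LocData A) : Finite (MaximalSpectrum L.B) :=
  finite_maximalSpectrum A L.B

theorem LocData.loc_def (L : LocData A) {x y : A} (Fx : L.Fac x) (Fy : L.Fac y)
    (q : MaximalSpectrum L.B) :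
    L.loc Fx Fy q = Algebra.norm (ResidueField A) (theta (Fx.u q) (Fy.u q) (Fx.e q) (Fy.e q)) ^
      (Ring.ord (Localization.AtPrime q.asIdeal) (L.π q)).toNat := rfl

theorem LocData.loc_ne_zero (L : LocData A) {x y : A} (Fx : L.Fac x) (Fy : L.Fac y)
    (q : MaximalSpectrum L.B) : L.loc Fx Fy q ≠ 0 := by
  rw [L.loc_def]
  haveI := finite_residueField A L.B q
  apply pow_ne_zero
  rw [Ne, Algebra.norm_eq_zero_iff]
  exact theta_ne_zero _ _ _ _

theorem LocData.loc_mul_left (L : LocData A) {x x' y : A} (Fx : L.Fac x) (Fx' : L.Fac x')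
    (Fy : L.Fac y) (q : MaximalSpectrum L.B) :
    L.loc (Fx.mul Fx') Fy q = L.loc Fx Fy q * L.loc Fx' Fy q := by
  rw [L.loc_def, L.loc_def, L.loc_def, ← mul_pow, ← map_mul]
  congr 2
  exact theta_mul_left _ _ _ _ _ _

theorem LocData.loc_mul_right (L : LocData A) {x x' y : A} (Fx : L.Fac x) (Fx' : L.Fac x')
    (Fy : L.Fac y) (q : MaximalSpectrum L.B) :
    L.loc Fy (Fx.mul Fx') q = L.loc Fy Fx q * L.loc Fy Fx' q := by
  rw [L.loc_def, L.loc_def, L.loc_def, ← mul_pow, ← map_mul]
  congr 2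
  exact theta_mul_right _ _ _ _ _ _

theorem LocData.loc_self (L : LocData A) {y : A} (Fy : L.Fac y) (q : MaximalSpectrum L.B) :
    L.loc Fy Fy q = (-1 : ResidueField A) ^
      (resDeg A L.B q * (Fy.e q * (Ring.ord (Localization.AtPrime q.asIdeal) (L.π q)).toNat)) := by
  rw [L.loc_def, theta_self]
  have h1 : ((-1 : ResidueField (Localization.AtPrime q.asIdeal)) ^ Fy.e q) =
      algebraMap (ResidueField A) (ResidueField (Localization.AtPrime q.asIdeal))
        ((-1 : ResidueField A) ^ Fy.e q) := by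
    rw [map_pow, map_neg, map_one]
  rw [h1, Algebra.norm_algebraMap, ← pow_mul, ← pow_mul]
  congr 1
  unfold resDeg
  ring

theorem LocData.loc_unit (L : LocData A) (c : Aˣ) {y : A} (Fy : L.Fac y) (q : MaximalSpectrum L.B) :
    L.loc (LocData.Fac.ofUnit L c) Fy q = residue A (c : A) ^
      (resDeg A L.B q * (Fy.e q * (Ring.ord (Localization.AtPrime q.asIdeal) (L.π q)).toNat)) := by
  rw [L.loc_def]
  have h0 : (LocData.Fac.ofUnit L c).e q = 0 := rfl
  rw [h0, theta_unit_left]
  have h1 : residue (Localization.AtPrime q.asIdeal)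
      (((LocData.Fac.ofUnit L c).u q : (Localization.AtPrime q.asIdeal)ˣ) :
        Localization.AtPrime q.asIdeal) ^ Fy.e q =
      algebraMap (ResidueField A) (ResidueField (Localization.AtPrime q.asIdeal))
        (residue A (c : A) ^ Fy.e q) := by
    rw [map_pow, ResidueField.algebraMap_residue]
    rfl
  rw [h1, Algebra.norm_algebraMap, ← pow_mul, ← pow_mul]
  congr 1
  unfold resDeg
  ring

theorem isUnit_of_toNat_ord_eq_zero {R : Type*} [CommRing R] [IsNoetherianRing R]
    [Ring.KrullDimLE 1 R] {π : R} (hπ : π ∈ nonZeroDivisors R)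
    (h : (Ring.ord R π).toNat = 0) : IsUnit π := by
  have h1 : Ring.ord R π = 0 := by
    rcases ENat.toNat_eq_zero.mp h with h2 | h2
    · exact h2
    · exact absurd h2 (Ring.ord_ne_top hπ)
  unfold Ring.ord at h1
  rw [Module.length_eq_zero_iff, Submodule.Quotient.subsingleton_iff] at h1
  have h2 : (1 : R) ∈ Ideal.span {π} := by
    have : (1 : R) ∈ (⊤ : Ideal R) := trivial
    rw [← h1] at this; exact this
  exact Ideal.span_singleton_eq_top.mp ((Ideal.eq_top_iff_one _).mpr h2)

theorem LocData.loc_steinberg [IsNoetherianRing A] (hA : ringKrullDim A = 1) (L : LocData A)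
    {a b : A} (Fa : L.Fac a) (Fb : L.Fac b) (Fc : L.Fac (b - a)) (q : MaximalSpectrum L.B) :
    L.loc Fa Fc q * L.loc Fb Fb q = L.loc Fb Fc q * L.loc Fa Fb q := by
  haveI : IsNoetherianRing L.B := IsNoetherianRing.of_finite A L.B
  haveI := krullDimLE_one_of_finite hA L.B
  haveI := krullDimLE_one_localization L.B q.asIdeal
  rw [L.loc_def, L.loc_def, L.loc_def, L.loc_def, ← mul_pow, ← mul_pow, ← map_mul, ← map_mul]
  by_cases hm : (Ring.ord (Localization.AtPrime q.asIdeal) (L.π q)).toNat = 0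
  · rw [hm, pow_zero, pow_zero]
  · have hnu : ¬ IsUnit (L.π q) := fun hu => hm (by rw [Ring.ord_of_isUnit hu]; rfl)
    congr 2
    exact theta_steinberg (L.π q) (L.π_mem q) hnu _ _ _ _ _ _ _ _ (Fa.fac q) (Fb.fac q)
      (by rw [← map_sub]; exact Fc.fac q)

end

end Part4

section Part5

open IsLocalRing CycAlg Groth.Agent.Lib.R2H1.Tame

section

variable {A : Type u} [CommRing A] [IsLocalRing A] [IsNoetherianRing A]

theorem LocData.algebraMap_mem_nonZeroDivisors (L : LocData A) {y : A} (Fy : L.Fac y) :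
    algebraMap A L.B y ∈ nonZeroDivisors L.B := by
  apply mem_nonZeroDivisors_of_localization
  intro q
  rw [← IsScalarTower.algebraMap_apply, Fy.fac q]
  exact unit_mul_pow_mem_nonZeroDivisors _ (L.π_mem q) _ _

theorem LocData.length_coker_ne_top (L : LocData A) :
    Module.length A (L.B ⧸ LinearMap.range (IsScalarTower.toAlgHom A A L.B).toLinearMap) ≠ ⊤ := by
  obtain ⟨-, -, k, hk⟩ := L.isFinExt
  apply length_ne_top_of_pow_smul_eq_zero A k
  intro r hr x
  obtain ⟨x, rfl⟩ := Submodule.Quotient.mk_surjective _ x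
  rw [← Submodule.Quotient.mk_smul, Submodule.Quotient.mk_eq_zero]
  obtain ⟨r', hr'⟩ := hk r hr x
  exact ⟨r', hr'⟩

/-- The weighted sum of local orders is the length of `A/yA`. -/
theorem LocData.finsum_resDeg_mul (hA : ringKrullDim A = 1) (L : LocData A) {y : A}
    (Fy : L.Fac y) :
    ∑ᶠ q : MaximalSpectrum L.B, resDeg A L.B q *
        (Fy.e q * (Ring.ord (Localization.AtPrime q.asIdeal) (L.π q)).toNat) =
      (Module.length A (A ⧸ Ideal.span {y})).toNat := by
  haveI : IsNoetherianRing L.B := IsNoetherianRing.of_finite A L.B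
  haveI := krullDimLE_one_of_finite hA L.B
  haveI := L.finite_maxSpec
  have hy' := L.algebraMap_mem_nonZeroDivisors Fy
  have h1 := length_quot_span_eq_of_injective A A L.B L.isFinExt.1 y hy' L.length_coker_ne_top
  rw [length_quot_span_eq_finsum A L.B _ (isFiniteLength_quotient_span_singleton L.B hy')] at h1
  have hterm : ∀ q : MaximalSpectrum L.B, (resDeg A L.B q : ℕ∞) *
      Ring.ord (Localization.AtPrime q.asIdeal)
        (algebraMap L.B (Localization.AtPrime q.asIdeal) (algebraMap A L.B y)) =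
      ((resDeg A L.B q * (Fy.e q *
        (Ring.ord (Localization.AtPrime q.asIdeal) (L.π q)).toNat) : ℕ) : ℕ∞) := by
    intro q
    haveI := krullDimLE_one_localization L.B q.asIdeal
    rw [← IsScalarTower.algebraMap_apply, Fy.fac q]
    have h2 : Ring.ord (Localization.AtPrime q.asIdeal)
        ((Fy.u q : Localization.AtPrime q.asIdeal) * L.π q ^ Fy.e q) ≠ ⊤ :=
      Ring.ord_ne_top (unit_mul_pow_mem_nonZeroDivisors _ (L.π_mem q) _ _)
    rw [← ENat.coe_toNat h2, toNat_ord_unit_mul_pow _ (L.π_mem q)]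
    push_cast
    ring
  rw [finsum_congr hterm] at h1
  haveI := Fintype.ofFinite (MaximalSpectrum L.B)
  rw [finsum_eq_sum_of_fintype] at h1 ⊢
  rw [h1, ← Nat.cast_sum, ENat.toNat_coe]

theorem finprod_pow_eq {ι : Type*} [Finite ι] {K : Type*} [CommMonoid K] (x : K) (n : ι → ℕ) :
    ∏ᶠ i, x ^ n i = x ^ ∑ᶠ i, n i := by
  haveI := Fintype.ofFinite ι
  rw [finprod_eq_prod_of_fintype, finsum_eq_sum_of_fintype, Finset.prod_pow_eq_pow_sum]

/-- **The laws of the tame symbol** (S1848). -/
theorem tameSymbol_laws (hA : ringKrullDim A = 1) :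
    (∀ a b : A, a ∈ nonZeroDivisors A → b ∈ nonZeroDivisors A → tameSymbol A a b ≠ 0) ∧
    (∀ a a' b : A, a ∈ nonZeroDivisors A → a' ∈ nonZeroDivisors A → b ∈ nonZeroDivisors A →
      tameSymbol A (a * a') b = tameSymbol A a b * tameSymbol A a' b ∧
      tameSymbol A b (a * a') = tameSymbol A b a * tameSymbol A b a') ∧
    (∀ b : A, b ∈ nonZeroDivisors A →
      tameSymbol A b b = (-1) ^ (Module.length A (A ⧸ Ideal.span {b})).toNat) ∧
    (∀ (c : Aˣ) (b : A), b ∈ nonZeroDivisors A →
      tameSymbol A (c : A) b =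
        residue A (c : A) ^ (Module.length A (A ⧸ Ideal.span {b})).toNat) ∧
    (∀ a b : A, a ∈ nonZeroDivisors A → b ∈ nonZeroDivisors A → b - a ∈ nonZeroDivisors A →
      tameSymbol A a (b - a) * tameSymbol A b b = tameSymbol A b (b - a) * tameSymbol A a b) := by
  refine ⟨?_, ?_, ?_, ?_, ?_⟩
  · intro a b ha hb
    obtain ⟨L, hL⟩ := exists_locData hA 2 ![a, b] (by
      intro i; fin_cases i <;> simpa)
    obtain ⟨Fa⟩ := hL 0
    obtain ⟨Fb⟩ := hL 1
    have Fa' : L.Fac a := Fa
    have Fb' : L.Fac b := Fb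
    haveI := L.finite_maxSpec
    haveI := Fintype.ofFinite (MaximalSpectrum L.B)
    rw [tameSymbol_eq_finprod hA ha hb L Fa' Fb', finprod_eq_prod_of_fintype]
    exact Finset.prod_ne_zero_iff.mpr fun q _ => L.loc_ne_zero _ _ q
  · intro a a' b ha ha' hb
    obtain ⟨L, hL⟩ := exists_locData hA 3 ![a, a', b] (by
      intro i; fin_cases i <;> simpa)
    obtain ⟨Fa⟩ := hL 0
    obtain ⟨Fa'⟩ := hL 1
    obtain ⟨Fb⟩ := hL 2
    have Fa0 : L.Fac a := Fa
    have Fa0' : L.Fac a' := Fa'
    have Fb0 : L.Fac b := Fb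
    haveI := L.finite_maxSpec
    have haa' : a * a' ∈ nonZeroDivisors A := Submonoid.mul_mem _ ha ha'
    constructor
    · rw [tameSymbol_eq_finprod hA haa' hb L (Fa0.mul Fa0') Fb0,
        tameSymbol_eq_finprod hA ha hb L Fa0 Fb0, tameSymbol_eq_finprod hA ha' hb L Fa0' Fb0,
        ← finprod_mul_distrib (Set.toFinite _) (Set.toFinite _)]
      exact finprod_congr fun q => L.loc_mul_left _ _ _ q
    · rw [tameSymbol_eq_finprod hA hb haa' L Fb0 (Fa0.mul Fa0'),
        tameSymbol_eq_finprod hA hb ha L Fb0 Fa0, tameSymbol_eq_finprod hA hb ha' L Fb0 Fa0',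
        ← finprod_mul_distrib (Set.toFinite _) (Set.toFinite _)]
      exact finprod_congr fun q => L.loc_mul_right _ _ _ q
  · intro b hb
    obtain ⟨L, hL⟩ := exists_locData hA 1 ![b] (by
      intro i; fin_cases i; simpa)
    obtain ⟨Fb⟩ := hL 0
    have Fb0 : L.Fac b := Fb
    haveI := L.finite_maxSpec
    rw [tameSymbol_eq_finprod hA hb hb L Fb0 Fb0, finprod_congr (fun q => L.loc_self Fb0 q),
      finprod_pow_eq, L.finsum_resDeg_mul hA Fb0]
  · intro c b hb
    obtain ⟨L, hL⟩ := exists_locData hA 1 ![b] (by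
      intro i; fin_cases i; simpa)
    obtain ⟨Fb⟩ := hL 0
    have Fb0 : L.Fac b := Fb
    haveI := L.finite_maxSpec
    rw [tameSymbol_eq_finprod hA c.isUnit.mem_nonZeroDivisors hb L (LocData.Fac.ofUnit L c) Fb0,
      finprod_congr (fun q => L.loc_unit c Fb0 q), finprod_pow_eq, L.finsum_resDeg_mul hA Fb0]
  · intro a b ha hb hc
    obtain ⟨L, hL⟩ := exists_locData hA 3 ![a, b, b - a] (by
      intro i; fin_cases i <;> simpa)
    obtain ⟨Fa⟩ := hL 0
    obtain ⟨Fb⟩ := hL 1
    obtain ⟨Fc⟩ := hL 2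
    have Fa0 : L.Fac a := Fa
    have Fb0 : L.Fac b := Fb
    have Fc0 : L.Fac (b - a) := Fc
    haveI := L.finite_maxSpec
    rw [tameSymbol_eq_finprod hA ha hc L Fa0 Fc0, tameSymbol_eq_finprod hA hb hb L Fb0 Fb0,
      tameSymbol_eq_finprod hA hb hc L Fb0 Fc0, tameSymbol_eq_finprod hA ha hb L Fa0 Fb0,
      ← finprod_mul_distrib (Set.toFinite _) (Set.toFinite _),
      ← finprod_mul_distrib (Set.toFinite _) (Set.toFinite _)]
    exact finprod_congr fun q => L.loc_steinberg hA Fa0 Fb0 Fc0 q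

end

end Part5

end Groth.Agent.Lib.R2H1.TameLaws
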