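/-
Norm compatibility of the tame symbol for finite extensions (S1849): nonzerodivisors under m not in Ass,
ord under ring isomorphisms, unit case in arbitrary local rings, local data on an extension containing a given one,
the semilocal localization Eloc, induced tame data tameLoc over B_q, norm_tameLoc_value, finprod_down, tameSymbol_eq_finprod_norm.
-/
import Mathlib
import Groth.Prelude.Def_Tame
import Groth.Agent.Lib.R2H1TameLaws

set_option autoImplicit false
set_option linter.style.haveILetI false
set_option linter.unusedSectionVars false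
universe u v

namespace Groth.Agent.Lib.R2H1.TameNorm

section Part1

open IsLocalRing CycAlg Groth.Agent.Lib.R2H1.Tame Groth.Agent.Lib.R2H1.TameLaws

/-- Under `𝔪 ∉ Ass_A(B)`, nonzerodivisors of `A` stay nonzerodivisors in `B`. -/
theorem algebraMap_mem_nonZeroDivisors_of_hass (A : Type u) [CommRing A] [IsLocalRing A]
    [IsNoetherianRing A] (B : Type u) [CommRing B] [Algebra A B]
    (hB : IsFinExt A B (maximalIdeal A)) (hass : maximalIdeal A ∉ associatedPrimes A B)
    (c : A) (hc : c ∈ nonZeroDivisors A) : algebraMap A B c ∈ nonZeroDivisors B := by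
  obtain ⟨hinj, -, n, hn⟩ := hB
  rw [mem_nonZeroDivisors_iff_right]
  intro x hx
  by_contra hx0
  obtain ⟨P, hP, hle⟩ := exists_le_isAssociatedPrime_of_isNoetherianRing A x hx0
  have h1 : maximalIdeal A ^ n ≤ (⊥ : Submodule A B).colon {x} := by
    intro r hr
    rw [Submodule.mem_colon_singleton, Submodule.mem_bot]
    obtain ⟨r', hr'⟩ := hn r hr x
    have h2 : algebraMap A B (r' * c) = 0 := by
      rw [map_mul, hr', Algebra.smul_def, mul_assoc, hx, mul_zero]
    have h3 : r' * c = 0 := hinj (by rw [h2, map_zero])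
    have h4 : r' = 0 := (mem_nonZeroDivisors_iff_right.mp hc) r' h3
    rw [← hr', h4, map_zero]
  have h5 : maximalIdeal A ≤ P := hP.isPrime.le_of_pow_le (h1.trans hle)
  have h6 : maximalIdeal A = P := (maximalIdeal.isMaximal A).eq_of_le hP.isPrime.ne_top h5
  exact hass (h6 ▸ hP)

/-- A local ring of dimension `≤ 1` having a nonunit nonzerodivisor has dimension `1`. -/
theorem ringKrullDim_eq_one_of_nonunit_nzd (R : Type*) [CommRing R] [IsLocalRing R]
    [Ring.KrullDimLE 1 R] (x : R) (hx : x ∈ nonZeroDivisors R) (hnu : ¬ IsUnit x) :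
    ringKrullDim R = 1 := by
  have h1 : ringKrullDim R ≤ 1 := Ring.krullDimLE_iff.mp inferInstance
  have h0 : ¬ ringKrullDim R ≤ 0 := by
    intro h
    haveI : Ring.KrullDimLE 0 R := Ring.krullDimLE_iff.mpr h
    obtain ⟨k, hk⟩ := (Ring.KrullDimLE.isNilpotent_iff_mem_nonunits (x := x)).mpr hnu
    have h2 : x ^ k ∈ nonZeroDivisors R := pow_mem hx k
    rw [hk] at h2
    exact zero_notMem_nonZeroDivisors h2
  refine le_antisymm h1 ?_
  by_contra h2
  apply h0
  have h3 : ringKrullDim R < 1 := not_le.mp h2
  generalize ringKrullDim R = d at h3 ⊢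
  induction d using WithBot.recBotCoe with
  | bot => exact bot_le
  | coe m =>
    have h4 : m < 1 := by exact_mod_cast h3
    have h5 : m = 0 := ENat.lt_one_iff_eq_zero.mp h4
    rw [h5]; rfl

/-- `Ring.ord` is invariant under ring isomorphisms. -/
theorem ord_ringEquiv {R S : Type*} [CommRing R] [CommRing S] (σ : R ≃+* S) (x : R) :
    Ring.ord S (σ x) = Ring.ord R x := by
  unfold Ring.ord
  letI : Algebra R S := σ.toRingHom.toAlgebra
  have hsurj : Function.Surjective (algebraMap R S) := σ.surjective
  rw [← Module.length_eq_of_surjective (S := R) (R := S) (M := S ⧸ Ideal.span {σ x}) hsurj]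
  let f : R →ₗ[R] (S ⧸ Ideal.span {σ x}) :=
    ((Ideal.span {σ x}).mkQ.restrictScalars R).comp (Algebra.linearMap R S)
  have hf : Function.Surjective f := by
    intro y
    obtain ⟨y, rfl⟩ := Submodule.Quotient.mk_surjective _ y
    obtain ⟨r, rfl⟩ := σ.surjective y
    exact ⟨r, rfl⟩
  have hk : LinearMap.ker f = Ideal.span {x} := by
    ext r
    rw [LinearMap.mem_ker]
    show Submodule.Quotient.mk (σ r) = 0 ↔ _
    rw [Submodule.Quotient.mk_eq_zero, Ideal.mem_span_singleton', Ideal.mem_span_singleton']
    constructor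
    · rintro ⟨s, hs⟩
      refine ⟨σ.symm s, ?_⟩
      apply σ.injective
      rw [map_mul, σ.apply_symm_apply, hs]
    · rintro ⟨s, rfl⟩
      exact ⟨σ s, by rw [map_mul]⟩
  exact ((Submodule.quotEquivOfEq _ _ hk).symm.trans (f.quotKerEquivOfSurjective hf)).length_eq.symm

end Part1

section Part2

open IsLocalRing CycAlg Groth.Agent.Lib.R2H1.Tame Groth.Agent.Lib.R2H1.TameLaws

theorem value_eq_one_of_isUnit' {R : Type u} [CommRing R] [IsLocalRing R] {x y : R}
    (D : TameData R x y) (hx : IsUnit x) (hy : IsUnit y) : D.value = 1 := by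
  unfold TameData.value
  have h1 : ∀ q : MaximalSpectrum D.B, D.localFactor q = 1 := by
    intro q
    rw [localFactor_eq]
    haveI := D.isLocalHom q
    by_cases hπ : IsUnit (D.π q)
    · rw [Ring.ord_of_isUnit hπ]
      simp
    · have he₁ : D.e₁ q = 0 := by
        by_contra he
        apply hπ
        have h2 : IsUnit ((D.u₁ q : Localization.AtPrime q.asIdeal) * D.π q ^ D.e₁ q) := by
          rw [← D.fac₁ q]; exact hx.map _
        exact (isUnit_pow_iff he).mp (isUnit_of_mul_isUnit_right h2)
      have he₂ : D.e₂ q = 0 := by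
        by_contra he
        apply hπ
        have h2 : IsUnit ((D.u₂ q : Localization.AtPrime q.asIdeal) * D.π q ^ D.e₂ q) := by
          rw [← D.fac₂ q]; exact hy.map _
        exact (isUnit_pow_iff he).mp (isUnit_of_mul_isUnit_right h2)
      have h3 : theta (D.u₁ q) (D.u₂ q) (D.e₁ q) (D.e₂ q) = 1 := by
        unfold theta
        rw [he₁, he₂]
        simp
      rw [h3, map_one, one_pow]
  rw [finprod_congr h1, finprod_one]

theorem tameSymbol_eq_one_of_isUnit (R : Type u) [CommRing R] [IsLocalRing R] {x y : R}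
    (hx : IsUnit x) (hy : IsUnit y) : tameSymbol R x y = 1 := by
  unfold tameSymbol
  split_ifs with h
  · exact value_eq_one_of_isUnit' _ hx hy
  · rfl

end Part2

section Part3

open IsLocalRing CycAlg Groth.Agent.Lib.R2H1.Tame Groth.Agent.Lib.R2H1.TameLaws
  Groth.Agent.Lib.R2H1.Factorize

/-- Local data for `(a, b)` over `A` carried by a finite extension containing a given one. -/
theorem exists_locData_over (A : Type u) [CommRing A] [IsLocalRing A] [IsNoetherianRing A]
    (hA : ringKrullDim A = 1) (B : Type u) [CommRing B] [Algebra A B]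
    (hB : IsFinExt A B (maximalIdeal A)) (a b : A) (ha : a ∈ nonZeroDivisors A)
    (hb : b ∈ nonZeroDivisors A) (hnu : ¬ IsUnit (a * b))
    (hcB : algebraMap A B (a * b) ∈ nonZeroDivisors B) :
    ∃ (L : LocData A) (ψ : B →ₐ[A] L.B), Function.Injective ψ ∧ Nonempty (L.Fac a) ∧
      Nonempty (L.Fac b) := by
  have hcm : a * b ∈ maximalIdeal A := (mem_maximalIdeal _).mpr hnu
  obtain ⟨φ, hφ⟩ := exists_algHom_fractionRing A B (maximalIdeal A) hB (a * b) hcm hcB
  haveI : Module.Finite A B := hB.2.1
  haveI hfinB₀ : Module.Finite A φ.range :=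
    Module.Finite.of_surjective φ.rangeRestrict.toLinearMap φ.rangeRestrict_surjective
  let Q := FractionRing A
  set L : Multiset Q := Multiset.map (fun i => algebraMap A Q (![a, b] i)) Finset.univ.val with hL
  have hab : ∀ i : Fin 2, ![a, b] i ∈ nonZeroDivisors A := by
    intro i; fin_cases i <;> simpa
  have hLmem : ∀ y ∈ L, y ∈ φ.range ∧ IsUnit y := by
    intro y hy
    obtain ⟨i, -, rfl⟩ := Multiset.mem_map.mp hy
    exact ⟨Subalgebra.algebraMap_mem _ _,
      IsLocalization.map_units Q (⟨![a, b] i, hab i⟩ : nonZeroDivisors A)⟩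
  have hprod : L.prod = algebraMap A Q (∏ i, ![a, b] i) := by
    rw [hL, map_prod]
    rfl
  have hnz : (∏ i, ![a, b] i) ∈ nonZeroDivisors A := Submonoid.prod_mem _ (fun i _ => hab i)
  have hunit : IsUnit (algebraMap A Q (∏ i, ![a, b] i)) :=
    IsLocalization.map_units Q (⟨_, hnz⟩ : nonZeroDivisors A)
  have hfin : nu φ.range L.prod ≠ ⊤ := by
    rw [hprod]
    have h1 := nu_eq_of_le hA (⊥ : Subalgebra A Q) φ.range bot_le hunit.unit
      (by rw [IsUnit.unit_spec]; exact Subalgebra.algebraMap_mem _ _)
    rw [IsUnit.unit_spec] at h1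
    rw [h1]
    exact nu_bot_ne_top hA _ hnz
  obtain ⟨n, hn⟩ := ENat.ne_top_iff_exists.mp hfin
  obtain ⟨C, hBC, hCfin, hgood⟩ := key hA n φ.range hfinB₀ L hLmem hn.symm.le
  haveI := hCfin
  choose π hπ hmono using hgood
  have hfacs : ∀ i : Fin 2, ∀ q : MaximalSpectrum C,
      ∃ (v : (Localization.AtPrime q.asIdeal)ˣ) (e : ℕ),
        algebraMap A (Localization.AtPrime q.asIdeal) (![a, b] i) =
          (v : Localization.AtPrime q.asIdeal) * π q ^ e := by
    intro i q
    obtain ⟨hy, v, e, hve⟩ := hmono q (algebraMap A Q (![a, b] i))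
      (Multiset.mem_map.mpr ⟨i, Finset.mem_univ_val i, rfl⟩)
    refine ⟨v, e, ?_⟩
    rw [← hve, IsScalarTower.algebraMap_apply A C (Localization.AtPrime q.asIdeal)]
    rfl
  choose v e hve using hfacs
  let LD : LocData A :=
    { B := C, isFinExt := isFinExt_of_finite_subalgebra A hA Q C, π := π, π_mem := hπ }
  refine ⟨LD, (Subalgebra.inclusion hBC).comp φ.rangeRestrict, ?_, ⟨?_⟩, ⟨?_⟩⟩
  · intro x y hxy
    apply hφ
    have := congrArg (fun z : C => (z : Q)) hxy
    exact this
  · exact { u := v 0, e := e 0, fac := fun q => hve 0 q }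
  · exact { u := v 1, e := e 1, fac := fun q => hve 1 q }

end Part3

section Part4

open IsLocalRing CycAlg Groth.Agent.Lib.R2H1.Tame Groth.Agent.Lib.R2H1.TameLaws

/-- transport of the normed local factor along an isomorphism of local `A`-algebras -/
theorem norm_theta_pow_algEquiv {A : Type u} [CommRing A] [IsLocalRing A]
    {S T : Type u} [CommRing S] [IsLocalRing S] [CommRing T] [IsLocalRing T]
    [Algebra A S] [Algebra A T] [IsLocalHom (algebraMap A S)] [IsLocalHom (algebraMap A T)]
    (σ : S ≃ₐ[A] T) (u₁ u₂ : Sˣ) (e₁ e₂ : ℕ) (π : S) :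
    Algebra.norm (ResidueField A)
      (theta (Units.map (σ : S →* T) u₁) (Units.map (σ : S →* T) u₂) e₁ e₂ ^
        (Ring.ord T (σ π)).toNat) =
    Algebra.norm (ResidueField A) (theta u₁ u₂ e₁ e₂ ^ (Ring.ord S π).toNat) := by
  have h1 : Ring.ord T (σ π) = Ring.ord S π := ord_ringEquiv σ.toRingEquiv π
  have h2 : theta (Units.map (σ : S →* T) u₁) (Units.map (σ : S →* T) u₂) e₁ e₂ =
      ResidueField.mapAlgEquiv' σ (theta u₁ u₂ e₁ e₂) := by
    unfold theta
    simp only [map_mul, map_pow, map_inv₀, map_neg, map_one, ResidueField.mapAlgEquiv'_residue]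
    rfl
  rw [h1, h2, ← map_pow, Algebra.norm_eq_of_algEquiv]

theorem map_mem_nonZeroDivisors_of_ringEquiv {S T : Type*} [CommRing S] [CommRing T]
    (σ : S ≃+* T) {x : S} (hx : x ∈ nonZeroDivisors S) : σ x ∈ nonZeroDivisors T := by
  rw [mem_nonZeroDivisors_iff_right]
  intro y hy
  have h1 : σ.symm y * x = 0 := by
    apply σ.injective
    rw [map_mul, σ.apply_symm_apply, hy, map_zero]
  have h2 := (mem_nonZeroDivisors_iff_right.mp hx) _ h1
  rw [← σ.apply_symm_apply y, h2, map_zero]

section Loc

variable {A : Type u} [CommRing A] (B : Type u) [CommRing B] [Algebra A B]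
  (C : Type u) [CommRing C] [Algebra A C] [Algebra B C] [IsScalarTower A B C]
  (q : MaximalSpectrum B)

/-- the semilocal localization of `C` at a maximal ideal of `B` -/
abbrev Eloc : Type u := Localization (Algebra.algebraMapSubmonoid C q.asIdeal.primeCompl)

instance isScalarTower_Eloc :
    IsScalarTower A (Localization.AtPrime q.asIdeal) (Eloc B C q) :=
  IsScalarTower.of_algebraMap_eq fun a => by
    rw [IsScalarTower.algebraMap_apply A B (Localization.AtPrime q.asIdeal),
      ← IsScalarTower.algebraMap_apply B (Localization.AtPrime q.asIdeal) (Eloc B C q),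
      IsScalarTower.algebraMap_apply A B (Eloc B C q)]

instance isScalarTower_Eloc_atPrime (Q' : MaximalSpectrum (Eloc B C q)) :
    IsScalarTower A (Localization.AtPrime q.asIdeal) (Localization.AtPrime Q'.asIdeal) :=
  IsScalarTower.of_algebraMap_eq fun a => by
    rw [IsScalarTower.algebraMap_apply A (Eloc B C q) (Localization.AtPrime Q'.asIdeal),
      IsScalarTower.algebraMap_apply A (Localization.AtPrime q.asIdeal) (Eloc B C q),
      ← IsScalarTower.algebraMap_apply (Localization.AtPrime q.asIdeal) (Eloc B C q)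
        (Localization.AtPrime Q'.asIdeal)]

variable [Module.Finite B C]

theorem comap_Eloc_maximal (Q' : MaximalSpectrum (Eloc B C q)) :
    (Q'.asIdeal.comap (algebraMap C (Eloc B C q))).comap (algebraMap B C) = q.asIdeal := by
  haveI : Algebra.IsIntegral (Localization.AtPrime q.asIdeal) (Eloc B C q) :=
    Algebra.IsIntegral.of_finite _ _
  haveI := Q'.isMaximal
  have h1 : (Q'.asIdeal.comap (algebraMap (Localization.AtPrime q.asIdeal) (Eloc B C q))).IsMaximal :=
    Ideal.isMaximal_comap_of_isIntegral_of_isMaximal _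
  have h2 : Q'.asIdeal.comap (algebraMap (Localization.AtPrime q.asIdeal) (Eloc B C q)) =
      maximalIdeal (Localization.AtPrime q.asIdeal) := eq_maximalIdeal h1
  rw [Ideal.comap_comap, ← IsScalarTower.algebraMap_eq,
    IsScalarTower.algebraMap_eq B (Localization.AtPrime q.asIdeal) (Eloc B C q),
    ← Ideal.comap_comap, h2]
  exact IsLocalization.AtPrime.comap_maximalIdeal _ _

/-- the maximal ideal of `C` under a maximal ideal of the localization -/
noncomputable def down (Q' : MaximalSpectrum (Eloc B C q)) : MaximalSpectrum C :=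
  ⟨Q'.asIdeal.comap (algebraMap C (Eloc B C q)), by
    haveI := Q'.isMaximal
    haveI : (Q'.asIdeal.comap (algebraMap C (Eloc B C q))).IsPrime := Ideal.comap_isPrime _ _
    apply Ideal.isMaximal_of_isIntegral_of_isMaximal_comap (R := B)
    rw [comap_Eloc_maximal B C q Q']
    exact q.isMaximal⟩

theorem under_down (Q' : MaximalSpectrum (Eloc B C q)) : under B C (down B C q Q') = q :=
  MaximalSpectrum.ext (comap_Eloc_maximal B C q Q')

/-- the canonical isomorphism of local rings -/
noncomputable def sig (Q' : MaximalSpectrum (Eloc B C q)) :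
    Localization.AtPrime (down B C q Q').asIdeal ≃ₐ[C] Localization.AtPrime Q'.asIdeal :=
  IsLocalization.localizationLocalizationAtPrimeIsoLocalization
    (Algebra.algebraMapSubmonoid C q.asIdeal.primeCompl) Q'.asIdeal

end Loc

end Part4

section Part5

open IsLocalRing CycAlg Groth.Agent.Lib.R2H1.Tame Groth.Agent.Lib.R2H1.TameLaws

section Loc

variable {A : Type u} [CommRing A] [IsLocalRing A] [IsNoetherianRing A]
  (B : Type u) [CommRing B] [Algebra A B]
  (C : Type u) [CommRing C] [Algebra A C] [Algebra B C] [IsScalarTower A B C]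
  (q : MaximalSpectrum B)

theorem isFinExt_Eloc (hA : ringKrullDim A = 1) [Module.Finite A B] [Module.Finite B C]
    (hC : IsFinExt A C (maximalIdeal A))
    (hinj : Function.Injective (algebraMap B C)) (c : A) (hcm : c ∈ maximalIdeal A)
    (hcB : algebraMap A B c ∈ nonZeroDivisors B) :
    IsFinExt (Localization.AtPrime q.asIdeal) (Eloc B C q)
      (maximalIdeal (Localization.AtPrime q.asIdeal)) := by
  haveI : IsNoetherianRing B := IsNoetherianRing.of_finite A B
  haveI := krullDimLE_one_of_finite hA B
  haveI := krullDimLE_one_localization B q.asIdeal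
  obtain ⟨-, -, k, hk⟩ := hC
  refine ⟨localizationAlgebra_injective _ _ hinj, inferInstance, ?_⟩
  have hck : algebraMap A (Localization.AtPrime q.asIdeal) (c ^ k) ∈
      nonZeroDivisors (Localization.AtPrime q.asIdeal) := by
    rw [IsScalarTower.algebraMap_apply A B (Localization.AtPrime q.asIdeal), map_pow, map_pow]
    have h0 : algebraMap B (Localization.AtPrime q.asIdeal) (algebraMap A B c) ∈
        nonZeroDivisors (Localization.AtPrime q.asIdeal) :=
      IsLocalization.nonZeroDivisors_le_comap q.asIdeal.primeCompl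
        (Localization.AtPrime q.asIdeal) hcB
    exact pow_mem h0 k
  obtain ⟨n, hn⟩ := exists_pow_maximalIdeal_le_span hck
  refine ⟨n, ?_⟩
  intro r hr x
  obtain ⟨r', rfl⟩ := Ideal.mem_span_singleton'.mp (hn hr)
  obtain ⟨y, s, rfl⟩ :=
    IsLocalization.exists_mk'_eq (Algebra.algebraMapSubmonoid C q.asIdeal.primeCompl) x
  obtain ⟨s₀, hs₀, hs₀eq⟩ := s.2
  obtain ⟨a₀, ha₀⟩ := hk (c ^ k) (Ideal.pow_mem_pow hcm k) y
  refine ⟨r' * IsLocalization.mk' (Localization.AtPrime q.asIdeal) (algebraMap A B a₀)
    (⟨s₀, hs₀⟩ : q.asIdeal.primeCompl), ?_⟩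
  rw [Algebra.smul_def, map_mul, map_mul, mul_assoc]
  congr 1
  have hu : IsUnit (algebraMap C (Eloc B C q) (s : C)) := IsLocalization.map_units _ s
  apply (IsUnit.mul_left_inj hu).mp
  have e1 : algebraMap C (Eloc B C q) (s : C) =
      algebraMap (Localization.AtPrime q.asIdeal) (Eloc B C q)
        (algebraMap B (Localization.AtPrime q.asIdeal) s₀) := by
    rw [← hs₀eq, ← IsScalarTower.algebraMap_apply B C (Eloc B C q),
      ← IsScalarTower.algebraMap_apply B (Localization.AtPrime q.asIdeal) (Eloc B C q)]
  have e2 : IsLocalization.mk' (Localization.AtPrime q.asIdeal) (algebraMap A B a₀)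
      (⟨s₀, hs₀⟩ : q.asIdeal.primeCompl) * algebraMap B (Localization.AtPrime q.asIdeal) s₀ =
      algebraMap B (Localization.AtPrime q.asIdeal) (algebraMap A B a₀) :=
    IsLocalization.mk'_spec _ _ _
  have e3 : IsLocalization.mk' (Eloc B C q) y s * algebraMap C (Eloc B C q) (s : C) =
      algebraMap C (Eloc B C q) y := IsLocalization.mk'_spec _ _ _
  calc algebraMap (Localization.AtPrime q.asIdeal) (Eloc B C q)
        (IsLocalization.mk' (Localization.AtPrime q.asIdeal) (algebraMap A B a₀)
          (⟨s₀, hs₀⟩ : q.asIdeal.primeCompl)) * algebraMap C (Eloc B C q) (s : C)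
      = algebraMap (Localization.AtPrime q.asIdeal) (Eloc B C q)
          (algebraMap B (Localization.AtPrime q.asIdeal) (algebraMap A B a₀)) := by
        rw [e1, ← map_mul, e2]
    _ = algebraMap C (Eloc B C q) (algebraMap A C a₀) := by
        rw [← IsScalarTower.algebraMap_apply B (Localization.AtPrime q.asIdeal) (Eloc B C q),
          IsScalarTower.algebraMap_apply B C (Eloc B C q),
          ← IsScalarTower.algebraMap_apply A B C]
    _ = algebraMap C (Eloc B C q) (algebraMap A C (c ^ k)) * algebraMap C (Eloc B C q) y := by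
        rw [ha₀, Algebra.smul_def, map_mul]
    _ = algebraMap (Localization.AtPrime q.asIdeal) (Eloc B C q)
          (algebraMap A (Localization.AtPrime q.asIdeal) (c ^ k)) *
          IsLocalization.mk' (Eloc B C q) y s * algebraMap C (Eloc B C q) (s : C) := by
        rw [mul_assoc, e3,
          ← IsScalarTower.algebraMap_apply A (Localization.AtPrime q.asIdeal) (Eloc B C q),
          IsScalarTower.algebraMap_apply A C (Eloc B C q)]

end Loc

end Part5

section Part6

open IsLocalRing CycAlg Groth.Agent.Lib.R2H1.Tame Groth.Agent.Lib.R2H1.TameLaws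

section Loc

variable {A : Type u} [CommRing A] [IsLocalRing A] [IsNoetherianRing A]
  (B : Type u) [CommRing B] [Algebra A B] [Module.Finite A B]
  (L : LocData A) [Algebra B L.B] [IsScalarTower A B L.B] [Module.Finite B L.B]
  {a b : A} (Fa : L.Fac a) (Fb : L.Fac b) (q : MaximalSpectrum B)
  (hfe : IsFinExt (Localization.AtPrime q.asIdeal) (Eloc B L.B q)
    (maximalIdeal (Localization.AtPrime q.asIdeal)))

theorem sig_fac {x : A} (Fx : L.Fac x) (Q' : MaximalSpectrum (Eloc B L.B q)) :
    algebraMap (Localization.AtPrime q.asIdeal) (Localization.AtPrime Q'.asIdeal)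
      (algebraMap A (Localization.AtPrime q.asIdeal) x) =
    ((Units.map ((sig B L.B q Q' : Localization.AtPrime (down B L.B q Q').asIdeal →*
        Localization.AtPrime Q'.asIdeal)) (Fx.u (down B L.B q Q')) :
        (Localization.AtPrime Q'.asIdeal)ˣ) : Localization.AtPrime Q'.asIdeal) *
      (sig B L.B q Q' (L.π (down B L.B q Q'))) ^ Fx.e (down B L.B q Q') := by
  rw [← IsScalarTower.algebraMap_apply A (Localization.AtPrime q.asIdeal)
    (Localization.AtPrime Q'.asIdeal),
    IsScalarTower.algebraMap_apply A L.B (Localization.AtPrime Q'.asIdeal)]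
  have h1 := congrArg (sig B L.B q Q') (Fx.fac (down B L.B q Q'))
  rw [map_mul, map_pow,
    IsScalarTower.algebraMap_apply A L.B (Localization.AtPrime (down B L.B q Q').asIdeal),
    AlgEquiv.commutes] at h1
  rw [h1]
  rfl

/-- The tame data over the local ring `B_q` induced by data on `C ⊇ B`. -/
noncomputable def tameLoc : TameData (Localization.AtPrime q.asIdeal)
    (algebraMap A (Localization.AtPrime q.asIdeal) a)
    (algebraMap A (Localization.AtPrime q.asIdeal) b) where
  B := Eloc B L.B q
  isFinExt := hfe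
  isLocalHom := fun Q' =>
    isLocalHom_of_integral (Localization.AtPrime q.asIdeal) (Eloc B L.B q) Q'
  π := fun Q' => sig B L.B q Q' (L.π (down B L.B q Q'))
  π_mem := fun Q' =>
    map_mem_nonZeroDivisors_of_ringEquiv (sig B L.B q Q').toRingEquiv (L.π_mem _)
  u₁ := fun Q' => Units.map ((sig B L.B q Q' : Localization.AtPrime (down B L.B q Q').asIdeal →*
        Localization.AtPrime Q'.asIdeal)) (Fa.u (down B L.B q Q'))
  u₂ := fun Q' => Units.map ((sig B L.B q Q' : Localization.AtPrime (down B L.B q Q').asIdeal →*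
        Localization.AtPrime Q'.asIdeal)) (Fb.u (down B L.B q Q'))
  e₁ := fun Q' => Fa.e (down B L.B q Q')
  e₂ := fun Q' => Fb.e (down B L.B q Q')
  fac₁ := fun Q' => sig_fac B L q Fa Q'
  fac₂ := fun Q' => sig_fac B L q Fb Q'

end Loc

end Part6

section Part7

open IsLocalRing CycAlg Groth.Agent.Lib.R2H1.Tame Groth.Agent.Lib.R2H1.TameLaws

section Loc

variable {A : Type u} [CommRing A] [IsLocalRing A] [IsNoetherianRing A]
  (B : Type u) [CommRing B] [Algebra A B] [Module.Finite A B]
  [hlocB : ∀ q : MaximalSpectrum B, IsLocalHom (algebraMap A (Localization.AtPrime q.asIdeal))]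
  (L : LocData A) [Algebra B L.B] [IsScalarTower A B L.B] [Module.Finite B L.B]
  {a b : A} (Fa : L.Fac a) (Fb : L.Fac b) (q : MaximalSpectrum B)
  (hfe : IsFinExt (Localization.AtPrime q.asIdeal) (Eloc B L.B q)
    (maximalIdeal (Localization.AtPrime q.asIdeal)))

instance isLocalHom_Eloc_atPrime (Q' : MaximalSpectrum (Eloc B L.B q)) :
    IsLocalHom (algebraMap (Localization.AtPrime q.asIdeal) (Localization.AtPrime Q'.asIdeal)) :=
  isLocalHom_of_integral (Localization.AtPrime q.asIdeal) (Eloc B L.B q) Q'

instance isLocalHom_base_Eloc_atPrime (Q' : MaximalSpectrum (Eloc B L.B q)) :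
    IsLocalHom (algebraMap A (Localization.AtPrime Q'.asIdeal)) := by
  rw [IsScalarTower.algebraMap_eq A (Localization.AtPrime q.asIdeal)
    (Localization.AtPrime Q'.asIdeal)]
  exact RingHom.isLocalHom_comp _ _

theorem norm_localFactor_tameLoc (Q' : MaximalSpectrum (Eloc B L.B q)) :
    Algebra.norm (ResidueField A) ((tameLoc B L Fa Fb q hfe).localFactor Q') =
      L.loc Fa Fb (down B L.B q Q') := by
  haveI hlocE : ∀ Q' : MaximalSpectrum (Eloc B L.B q), IsLocalHom
      (algebraMap (Localization.AtPrime q.asIdeal) (Localization.AtPrime Q'.asIdeal)) :=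
    fun Q' => inferInstance
  haveI := finite_residueField A B q
  haveI := finite_residueField (Localization.AtPrime q.asIdeal) (Eloc B L.B q) Q'
  show Algebra.norm (ResidueField A)
    (Algebra.norm (ResidueField (Localization.AtPrime q.asIdeal))
      (theta (Units.map ((sig B L.B q Q' : Localization.AtPrime (down B L.B q Q').asIdeal →*
          Localization.AtPrime Q'.asIdeal)) (Fa.u (down B L.B q Q')))
        (Units.map ((sig B L.B q Q' : Localization.AtPrime (down B L.B q Q').asIdeal →*
          Localization.AtPrime Q'.asIdeal)) (Fb.u (down B L.B q Q')))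
        (Fa.e (down B L.B q Q')) (Fb.e (down B L.B q Q'))) ^
      (Ring.ord (Localization.AtPrime Q'.asIdeal)
        (sig B L.B q Q' (L.π (down B L.B q Q')))).toNat) = _
  rw [← map_pow, Algebra.norm_norm, L.loc_def, ← map_pow]
  exact norm_theta_pow_algEquiv ((sig B L.B q Q').restrictScalars A) _ _ _ _ _

theorem norm_tameLoc_value :
    Algebra.norm (ResidueField A) (tameLoc B L Fa Fb q hfe).value =
      ∏ᶠ Q' : MaximalSpectrum (Eloc B L.B q), L.loc Fa Fb (down B L.B q Q') := by
  haveI hlocE : ∀ Q' : MaximalSpectrum (Eloc B L.B q), IsLocalHom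
      (algebraMap (Localization.AtPrime q.asIdeal) (Localization.AtPrime Q'.asIdeal)) :=
    fun Q' => inferInstance
  haveI := finite_maximalSpectrum (Localization.AtPrime q.asIdeal) (Eloc B L.B q)
  unfold TameData.value
  have hfin : (Function.mulSupport (tameLoc B L Fa Fb q hfe).localFactor).Finite := by
    haveI : Finite (MaximalSpectrum (tameLoc B L Fa Fb q hfe).B) := this
    exact Set.toFinite _
  rw [MonoidHom.map_finprod _ hfin]
  exact finprod_congr fun Q' => norm_localFactor_tameLoc B L Fa Fb q hfe Q'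

end Loc

end Part7

section Part8

open IsLocalRing CycAlg Groth.Agent.Lib.R2H1.Tame Groth.Agent.Lib.R2H1.TameLaws

section Bij

variable (B : Type u) [CommRing B] (C : Type u) [CommRing C] [Algebra B C] [Module.Finite B C]
  (q : MaximalSpectrum B)

theorem down_injective : Function.Injective (down B C q) := by
  intro Q₁ Q₂ h
  have h1 : Q₁.asIdeal.comap (algebraMap C (Eloc B C q)) =
      Q₂.asIdeal.comap (algebraMap C (Eloc B C q)) := congrArg MaximalSpectrum.asIdeal h
  apply MaximalSpectrum.ext
  rw [← IsLocalization.map_comap (Algebra.algebraMapSubmonoid C q.asIdeal.primeCompl)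
      (Eloc B C q) Q₁.asIdeal,
    ← IsLocalization.map_comap (Algebra.algebraMapSubmonoid C q.asIdeal.primeCompl)
      (Eloc B C q) Q₂.asIdeal]
  exact congrArg (Ideal.map (algebraMap C (Eloc B C q))) h1

theorem exists_down_eq (Q : MaximalSpectrum C) (hQ : under B C Q = q) :
    ∃ Q' : MaximalSpectrum (Eloc B C q), down B C q Q' = Q := by
  haveI := Q.isMaximal.isPrime
  have hdisj : Disjoint (Algebra.algebraMapSubmonoid C q.asIdeal.primeCompl : Set C)
      (Q.asIdeal : Set C) := by
    rw [Set.disjoint_left]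
    rintro _ ⟨s, hs, rfl⟩ hmem
    apply hs
    have : s ∈ (under B C Q).asIdeal := hmem
    rwa [hQ] at this
  have hprime : (Q.asIdeal.map (algebraMap C (Eloc B C q))).IsPrime :=
    IsLocalization.isPrime_of_isPrime_disjoint _ _ _ inferInstance hdisj
  have hcomap : (Q.asIdeal.map (algebraMap C (Eloc B C q))).comap (algebraMap C (Eloc B C q)) =
      Q.asIdeal :=
    IsLocalization.comap_map_of_isPrime_disjoint _ _ inferInstance hdisj
  obtain ⟨J', hJ'max, hJ'le⟩ := Ideal.exists_le_maximal _ hprime.ne_top
  have h1 : Q.asIdeal ≤ J'.comap (algebraMap C (Eloc B C q)) := by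
    rw [← hcomap]; exact Ideal.comap_mono hJ'le
  have h2 : J'.comap (algebraMap C (Eloc B C q)) ≠ ⊤ := by
    haveI := hJ'max.isPrime
    exact (Ideal.comap_isPrime (algebraMap C (Eloc B C q)) J').ne_top
  have h3 : Q.asIdeal = J'.comap (algebraMap C (Eloc B C q)) := Q.isMaximal.eq_of_le h2 h1
  exact ⟨⟨J', hJ'max⟩, MaximalSpectrum.ext h3.symm⟩

open Classical in
theorem finprod_down {M : Type*} [CommMonoid M] (F : MaximalSpectrum C → M) :
    ∏ᶠ Q' : MaximalSpectrum (Eloc B C q), F (down B C q Q') =
      ∏ᶠ Q : MaximalSpectrum C, if under B C Q = q then F Q else 1 := by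
  let e : MaximalSpectrum (Eloc B C q) → {Q : MaximalSpectrum C // under B C Q = q} :=
    fun Q' => ⟨down B C q Q', under_down B C q Q'⟩
  have he : Function.Bijective e := by
    constructor
    · intro Q₁ Q₂ h
      exact down_injective B C q (congrArg Subtype.val h)
    · rintro ⟨Q, hQ⟩
      obtain ⟨Q', hQ'⟩ := exists_down_eq B C q Q hQ
      exact ⟨Q', Subtype.ext hQ'⟩
  rw [finprod_eq_of_bijective e he (g := fun x => F x.1) (fun Q' => rfl),
    finprod_subtype_eq_finprod_cond (p := fun Q => under B C Q = q)]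
  exact finprod_congr fun Q => finprod_eq_if

end Bij

end Part8

section Part9

open IsLocalRing CycAlg Groth.Agent.Lib.R2H1.Tame Groth.Agent.Lib.R2H1.TameLaws

/-- **Norm compatibility of the tame symbol** (S1849). -/
theorem tameSymbol_eq_finprod_norm (A : Type u) [CommRing A] [IsNoetherianRing A] [IsLocalRing A]
    (hA : ringKrullDim A = 1) (B : Type u) [CommRing B] [Algebra A B]
    (hB : IsFinExt A B (maximalIdeal A)) (hass : maximalIdeal A ∉ associatedPrimes A B)
    [hloc : ∀ q : MaximalSpectrum B, IsLocalHom (algebraMap A (Localization.AtPrime q.asIdeal))]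
    (a b : A) (ha : a ∈ nonZeroDivisors A) (hb : b ∈ nonZeroDivisors A) :
    tameSymbol A a b = ∏ᶠ q : MaximalSpectrum B, Algebra.norm (ResidueField A)
      (tameSymbol (Localization.AtPrime q.asIdeal)
        (algebraMap A (Localization.AtPrime q.asIdeal) a)
        (algebraMap A (Localization.AtPrime q.asIdeal) b)) := by
  classical
  by_cases hu : IsUnit (a * b)
  · have hua : IsUnit a := isUnit_of_mul_isUnit_left hu
    have hub : IsUnit b := isUnit_of_mul_isUnit_right hu
    rw [tameSymbol_eq_one_of_isUnit A hua hub]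
    have h1 : ∀ q : MaximalSpectrum B, Algebra.norm (ResidueField A)
        (tameSymbol (Localization.AtPrime q.asIdeal)
          (algebraMap A (Localization.AtPrime q.asIdeal) a)
          (algebraMap A (Localization.AtPrime q.asIdeal) b)) = 1 := by
      intro q
      rw [tameSymbol_eq_one_of_isUnit _ (hua.map _) (hub.map _), map_one]
    rw [finprod_congr h1, finprod_one]
  · have hcm : a * b ∈ maximalIdeal A := (mem_maximalIdeal _).mpr hu
    have hcB := algebraMap_mem_nonZeroDivisors_of_hass A B hB hass (a * b)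
      (Submonoid.mul_mem _ ha hb)
    have haB := algebraMap_mem_nonZeroDivisors_of_hass A B hB hass a ha
    have hbB := algebraMap_mem_nonZeroDivisors_of_hass A B hB hass b hb
    obtain ⟨L, ψ, hψ, ⟨Fa⟩, ⟨Fb⟩⟩ := exists_locData_over A hA B hB a b ha hb hu hcB
    letI : Algebra B L.B := ψ.toRingHom.toAlgebra
    haveI : IsScalarTower A B L.B := IsScalarTower.of_algebraMap_eq (fun x => (ψ.commutes x).symm)
    haveI : Module.Finite A B := hB.2.1
    haveI : Module.Finite B L.B := Module.Finite.of_restrictScalars_finite A B L.B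
    haveI : IsNoetherianRing B := IsNoetherianRing.of_finite A B
    haveI := krullDimLE_one_of_finite hA B
    have hinj : Function.Injective (algebraMap B L.B) := hψ
    rw [tameSymbol_eq_finprod hA ha hb L Fa Fb]
    have hq : ∀ q : MaximalSpectrum B, Algebra.norm (ResidueField A)
        (tameSymbol (Localization.AtPrime q.asIdeal)
          (algebraMap A (Localization.AtPrime q.asIdeal) a)
          (algebraMap A (Localization.AtPrime q.asIdeal) b)) =
        ∏ᶠ Q : MaximalSpectrum L.B, if under B L.B Q = q then L.loc Fa Fb Q else 1 := by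
      intro q
      haveI := krullDimLE_one_localization B q.asIdeal
      have hfe := isFinExt_Eloc B L.B q hA L.isFinExt hinj (a * b) hcm hcB
      have hloc_nzd : ∀ x : A, algebraMap A B x ∈ nonZeroDivisors B →
          algebraMap A (Localization.AtPrime q.asIdeal) x ∈
            nonZeroDivisors (Localization.AtPrime q.asIdeal) := by
        intro x hx
        rw [IsScalarTower.algebraMap_apply A B (Localization.AtPrime q.asIdeal)]
        exact IsLocalization.nonZeroDivisors_le_comap q.asIdeal.primeCompl
          (Localization.AtPrime q.asIdeal) hx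
      have hnu' : ¬ IsUnit (algebraMap A (Localization.AtPrime q.asIdeal) (a * b)) :=
        fun h => hu (isUnit_of_map_unit _ _ h)
      have hdim : ringKrullDim (Localization.AtPrime q.asIdeal) = 1 :=
        ringKrullDim_eq_one_of_nonunit_nzd _ _ (hloc_nzd _ hcB) hnu'
      rw [tameSymbol_eq_value hdim (hloc_nzd a haB) (hloc_nzd b hbB) (tameLoc B L Fa Fb q hfe),
        norm_tameLoc_value, finprod_down]
    rw [finprod_congr hq]
    haveI := L.finite_maxSpec
    haveI := finite_maximalSpectrum A B
    haveI := Fintype.ofFinite (MaximalSpectrum L.B)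
    haveI := Fintype.ofFinite (MaximalSpectrum B)
    simp only [finprod_eq_prod_of_fintype]
    rw [Finset.prod_comm]
    refine Finset.prod_congr rfl fun Q _ => ?_
    rw [Finset.prod_ite_eq]
    simp

end Part9

end Groth.Agent.Lib.R2H1.TameNorm
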