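/-
Key lemma (S1851), part 1: the local terms d, the sum Dsum, its bilinearity/Steinberg laws, vanishing for coprime elements (via S1833), prime avoidance tools, and Step C (stepC): vanishing when both elements are unit times power of one local parameter at every common height-one prime.
-/
import Mathlib
import Groth.Prelude.Def_Tame
import Groth.Agent.Lib.R2H1Glue
import Groth.Agent.Lib.R2H1TameLaws
import Groth.Agent.Lib.R2H1TameNorm
import Groth.Agent.S1833

set_option autoImplicit false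
set_option linter.style.haveILetI false
set_option linter.unusedSectionVars false
universe u v

namespace Groth.Agent.Lib.R2H1.KeyLemma

section Part1

open IsLocalRing

section OrdFrac

variable (R : Type u) [CommRing R] [IsDomain R] [IsNoetherianRing R] [Ring.KrullDimLE 1 R]
  (K : Type v) [Field K] [Algebra R K] [IsFractionRing R K]

theorem ordFrac_eq (f : K) : CycAlg.ordFrac R K f =
    WithZero.recZeroCoe (motive := fun _ => ℤ) 0 (fun z => Multiplicative.toAdd z)
      (Ring.ordFrac R f) := by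
  unfold CycAlg.ordFrac
  rw [dif_pos ⟨inferInstance, inferInstance, inferInstance, inferInstance⟩]

theorem exists_ordFrac_eq {f : K} (hf : f ≠ 0) :
    ∃ m : Multiplicative ℤ, Ring.ordFrac R f = (m : WithZero (Multiplicative ℤ)) ∧
      CycAlg.ordFrac R K f = Multiplicative.toAdd m := by
  have h1 : Ring.ordFrac R f ≠ 0 := (map_ne_zero (Ring.ordFrac R (K := K))).mpr hf
  obtain ⟨m, hm⟩ := WithZero.ne_zero_iff_exists.mp h1
  refine ⟨m, hm.symm, ?_⟩
  rw [ordFrac_eq, ← hm]
  rfl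

theorem ordFrac_mul {f g : K} (hf : f ≠ 0) (hg : g ≠ 0) :
    CycAlg.ordFrac R K (f * g) = CycAlg.ordFrac R K f + CycAlg.ordFrac R K g := by
  obtain ⟨m, hm, hm'⟩ := exists_ordFrac_eq R K hf
  obtain ⟨m', hm'', hm'''⟩ := exists_ordFrac_eq R K hg
  rw [hm', hm''', ordFrac_eq, map_mul, hm, hm'', ← WithZero.coe_mul]
  rfl

theorem ordFrac_one : CycAlg.ordFrac R K 1 = 0 := by
  rw [ordFrac_eq, map_one]
  rfl

theorem ordFrac_neg_one : CycAlg.ordFrac R K (-1) = 0 := by
  have h := ordFrac_mul R K (f := (-1 : K)) (g := -1) (by simp) (by simp)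
  rw [neg_one_mul, neg_neg, ordFrac_one] at h
  omega

theorem ordFrac_pow {f : K} (hf : f ≠ 0) (n : ℕ) :
    CycAlg.ordFrac R K (f ^ n) = n * CycAlg.ordFrac R K f := by
  induction n with
  | zero => simp [ordFrac_one]
  | succ n ih =>
    rw [pow_succ, ordFrac_mul R K (pow_ne_zero n hf) hf, ih]
    push_cast
    ring

theorem ordFrac_inv {f : K} (hf : f ≠ 0) :
    CycAlg.ordFrac R K f⁻¹ = - CycAlg.ordFrac R K f := by
  have h := ordFrac_mul R K hf (inv_ne_zero hf)
  rw [mul_inv_cancel₀ hf, ordFrac_one] at h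
  omega

theorem ordFrac_neg_one_pow (n : ℕ) : CycAlg.ordFrac R K ((-1) ^ n) = 0 := by
  rw [ordFrac_pow R K (by simp), ordFrac_neg_one, mul_zero]

theorem ordFrac_algebraMap {x : R} (hx : x ≠ 0) :
    CycAlg.ordFrac R K (algebraMap R K x) = ((Ring.ord R x).toNat : ℤ) := by
  have hx' := mem_nonZeroDivisors_of_ne_zero hx
  rw [ordFrac_eq, Ring.ordFrac_eq_ord R hx,
    Ring.ordMonoidWithZeroHom_eq_coe R hx' (ENat.coe_toNat (Ring.ord_ne_top hx')).symm]
  rfl

theorem ordFrac_finprod {ι : Type*} [Finite ι] (f : ι → K) (hf : ∀ i, f i ≠ 0) :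
    CycAlg.ordFrac R K (∏ᶠ i, f i) = ∑ᶠ i, CycAlg.ordFrac R K (f i) := by
  classical
  haveI := Fintype.ofFinite ι
  rw [finprod_eq_prod_of_fintype, finsum_eq_sum_of_fintype]
  have key : ∀ s : Finset ι, (∏ i ∈ s, f i ≠ 0) ∧
      CycAlg.ordFrac R K (∏ i ∈ s, f i) = ∑ i ∈ s, CycAlg.ordFrac R K (f i) := by
    intro s
    induction s using Finset.induction_on with
    | empty => simp [ordFrac_one]
    | insert a s ha ih =>
      rw [Finset.prod_insert ha, Finset.sum_insert ha]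
      refine ⟨mul_ne_zero (hf a) ih.1, ?_⟩
      rw [ordFrac_mul R K (hf a) ih.1, ih.2]
  exact (key Finset.univ).2

end OrdFrac

end Part1

section Part2

open IsLocalRing CycAlg

section Primes

variable {A : Type u} [CommRing A] [IsNoetherianRing A] [IsLocalRing A]

/-- a non-maximal prime containing a nonzerodivisor -/
structure IsGood (q : Ideal A) : Prop where
  ne : q ≠ maximalIdeal A
  nzd : ∃ z ∈ q, z ∈ nonZeroDivisors A

theorem maximalIdeal_height (hA : ringKrullDim A = 2) : (maximalIdeal A).height = 2 := by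
  have h := IsLocalRing.maximalIdeal_height_eq_ringKrullDim (R := A)
  rw [hA] at h
  have h' : ((maximalIdeal A).height : WithBot ℕ∞) = ((2 : ℕ∞) : WithBot ℕ∞) := h
  exact WithBot.coe_injective h'

theorem IsGood.height (hA : ringKrullDim A = 2) {q : Ideal A} [q.IsPrime] (hg : IsGood q) :
    q.height = 1 := by
  obtain ⟨z, hzq, hz⟩ := hg.nzd
  have hlt : q < maximalIdeal A :=
    lt_of_le_of_ne (IsLocalRing.le_maximalIdeal (Ideal.IsPrime.ne_top ‹_›)) hg.ne
  have h0 : q.height ≠ 0 := by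
    rw [Ne, Ideal.height_eq_zero_iff]
    intro hmin
    exact Set.disjoint_left.mp (Ideal.disjoint_nonZeroDivisors_of_mem_minimalPrimes hmin) hzq hz
  have h2 : q.height + 1 ≤ (maximalIdeal A).height := Ideal.height_add_one_le_of_lt_of_isPrime hlt
  rw [maximalIdeal_height hA] at h2
  have h5 : (1 : ℕ∞) ≤ q.height := Order.one_le_iff_ne_zero.mpr h0
  have h6 : q.height ≤ 1 := by
    have h7 : q.height + 1 ≤ 1 + 1 := by rw [one_add_one_eq_two]; exact h2
    exact (ENat.add_le_add_iff_right (by simp)).mp h7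
  exact le_antisymm h6 h5

theorem isGood_of_height (hA : ringKrullDim A = 2) {q : Ideal A} [q.IsPrime] (h : q.height = 1)
    {z : A} (hz : z ∈ nonZeroDivisors A) (hzq : z ∈ q) : IsGood q := by
  refine ⟨?_, z, hzq, hz⟩
  intro hq
  rw [hq, maximalIdeal_height hA] at h
  exact absurd h (by decide)

theorem IsGood.eq_of_le (hA : ringKrullDim A = 2) {q q' : Ideal A} [q.IsPrime] [q'.IsPrime]
    (hg : IsGood q) (hg' : IsGood q') (hle : q ≤ q') : q = q' := by
  obtain ⟨z, hzq, hz⟩ := hg.nzd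
  exact Glue.eq_of_le_of_mem_nonZeroDivisors hA hz hzq hg'.ne hle

theorem IsGood.ringKrullDim_loc (hA : ringKrullDim A = 2) {q : Ideal A} [q.IsPrime]
    (hg : IsGood q) : ringKrullDim (Localization.AtPrime q) = 1 := by
  rw [IsLocalization.AtPrime.ringKrullDim_eq_height q (Localization.AtPrime q), hg.height hA]
  rfl

theorem IsGood.krullDimLE_quot (hA : ringKrullDim A = 2) {q : Ideal A} [q.IsPrime]
    (hg : IsGood q) : Ring.KrullDimLE 1 (A ⧸ q) := by
  obtain ⟨z, hzq, hz⟩ := hg.nzd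
  have h1 := ringKrullDim_quotient_succ_le_of_nonZeroDivisor hz
  rw [hA] at h1
  have hle : Ideal.span {z} ≤ q := (Ideal.span_singleton_le_iff_mem _).mpr hzq
  have h2 : ringKrullDim (A ⧸ q) ≤ ringKrullDim (A ⧸ Ideal.span {z}) :=
    ringKrullDim_le_of_surjective (Ideal.Quotient.factor hle) (Ideal.Quotient.factor_surjective hle)
  rw [Ring.krullDimLE_iff]
  have h3 : ringKrullDim (A ⧸ Ideal.span {z}) + 1 ≤ 1 + 1 := by
    rw [one_add_one_eq_two]; exact h1
  have h4 : ringKrullDim (A ⧸ Ideal.span {z}) ≤ 1 :=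
    ENat.WithBot.add_le_add_one_right_iff.mp h3
  exact_mod_cast h2.trans h4

theorem finite_height_one_mem (hA : ringKrullDim A = 2) {z : A} (hz : z ∈ nonZeroDivisors A) :
    {q : PrimeSpectrum A | q.asIdeal.height = 1 ∧ z ∈ q.asIdeal}.Finite := by
  have hmin := Ideal.finite_minimalPrimes_of_isNoetherianRing A (Ideal.span {z})
  have hpre : {p : PrimeSpectrum A | p.asIdeal ∈ (Ideal.span {z}).minimalPrimes}.Finite :=
    Set.Finite.preimage (fun a _ b _ h => PrimeSpectrum.ext h) hmin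
  refine hpre.subset ?_
  rintro q ⟨hq1, hzq⟩
  have hg : IsGood q.asIdeal := isGood_of_height hA hq1 hz hzq
  refine ⟨⟨q.2, (Ideal.span_singleton_le_iff_mem _).mpr hzq⟩, ?_⟩
  rintro p ⟨hp, hzp⟩ hle
  haveI := hp
  have : p = q.asIdeal := Glue.eq_of_le_of_mem_nonZeroDivisors hA hz
    ((Ideal.span_singleton_le_iff_mem _).mp hzp) hg.ne hle
  rw [this]

theorem map_mem_nonZeroDivisors (q : Ideal A) [q.IsPrime] {x : A} (hx : x ∈ nonZeroDivisors A) :
    algebraMap A (Localization.AtPrime q) x ∈ nonZeroDivisors (Localization.AtPrime q) :=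
  IsLocalization.map_nonZeroDivisors_le q.primeCompl (Localization.AtPrime q)
    (Submonoid.mem_map_of_mem _ hx)

end Primes

end Part2

section Part3

open IsLocalRing CycAlg

section Local

variable {A : Type u} [CommRing A] [IsNoetherianRing A] [IsLocalRing A]

/-- the local contribution at the prime `q` -/
noncomputable def d (q : Ideal A) [q.IsPrime] (x y : A) : ℤ :=
  CycAlg.ordFrac (A ⧸ q) q.ResidueField
    (CycAlg.tameSymbol (Localization.AtPrime q) (algebraMap A (Localization.AtPrime q) x)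
      (algebraMap A (Localization.AtPrime q) y))

variable (hA : ringKrullDim A = 2) {q : Ideal A} [q.IsPrime]

include hA

theorem d_mul_left (hg : IsGood q) {x x' y : A} (hx : x ∈ nonZeroDivisors A)
    (hx' : x' ∈ nonZeroDivisors A) (hy : y ∈ nonZeroDivisors A) :
    d q (x * x') y = d q x y + d q x' y := by
  haveI := hg.krullDimLE_quot hA
  obtain ⟨L1, L2, -, -, -⟩ := TameLaws.tameSymbol_laws (hg.ringKrullDim_loc hA)
  unfold d
  rw [map_mul, (L2 _ _ _ (map_mem_nonZeroDivisors q hx) (map_mem_nonZeroDivisors q hx')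
    (map_mem_nonZeroDivisors q hy)).1]
  exact ordFrac_mul _ _ (L1 _ _ (map_mem_nonZeroDivisors q hx) (map_mem_nonZeroDivisors q hy))
    (L1 _ _ (map_mem_nonZeroDivisors q hx') (map_mem_nonZeroDivisors q hy))

theorem d_mul_right (hg : IsGood q) {x x' y : A} (hx : x ∈ nonZeroDivisors A)
    (hx' : x' ∈ nonZeroDivisors A) (hy : y ∈ nonZeroDivisors A) :
    d q y (x * x') = d q y x + d q y x' := by
  haveI := hg.krullDimLE_quot hA
  obtain ⟨L1, L2, -, -, -⟩ := TameLaws.tameSymbol_laws (hg.ringKrullDim_loc hA)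
  unfold d
  rw [map_mul, (L2 _ _ _ (map_mem_nonZeroDivisors q hx) (map_mem_nonZeroDivisors q hx')
    (map_mem_nonZeroDivisors q hy)).2]
  exact ordFrac_mul _ _ (L1 _ _ (map_mem_nonZeroDivisors q hy) (map_mem_nonZeroDivisors q hx))
    (L1 _ _ (map_mem_nonZeroDivisors q hy) (map_mem_nonZeroDivisors q hx'))

theorem d_self (hg : IsGood q) {x : A} (hx : x ∈ nonZeroDivisors A) : d q x x = 0 := by
  haveI := hg.krullDimLE_quot hA
  obtain ⟨-, -, L3, -, -⟩ := TameLaws.tameSymbol_laws (hg.ringKrullDim_loc hA)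
  unfold d
  rw [L3 _ (map_mem_nonZeroDivisors q hx)]
  exact ordFrac_neg_one_pow _ _ _

theorem d_antisymm (hg : IsGood q) {x y : A} (hx : x ∈ nonZeroDivisors A)
    (hy : y ∈ nonZeroDivisors A) : d q x y + d q y x = 0 := by
  have hxy := mul_mem hx hy
  have h1 := d_self hA hg hxy
  rw [d_mul_left hA hg hx hy hxy, d_mul_right hA hg hx hy hx, d_mul_right hA hg hx hy hy,
    d_self hA hg hx, d_self hA hg hy] at h1
  omega

theorem d_steinberg (hg : IsGood q) {x y : A} (hx : x ∈ nonZeroDivisors A)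
    (hy : y ∈ nonZeroDivisors A) (hyx : y - x ∈ nonZeroDivisors A) :
    d q x (y - x) + d q y y = d q y (y - x) + d q x y := by
  haveI := hg.krullDimLE_quot hA
  obtain ⟨L1, -, -, -, L5⟩ := TameLaws.tameSymbol_laws (hg.ringKrullDim_loc hA)
  have hx' := map_mem_nonZeroDivisors q hx
  have hy' := map_mem_nonZeroDivisors q hy
  have hyx' := map_mem_nonZeroDivisors q hyx
  have h := L5 _ _ hx' hy' (by rw [← map_sub]; exact hyx')
  rw [← map_sub] at h
  unfold d
  rw [← ordFrac_mul _ _ (L1 _ _ hx' hyx') (L1 _ _ hy' hy'),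
    ← ordFrac_mul _ _ (L1 _ _ hy' hyx') (L1 _ _ hx' hy'), h]

theorem residue_algebraMap_eq (x : A) :
    residue (Localization.AtPrime q) (algebraMap A (Localization.AtPrime q) x) =
      algebraMap (A ⧸ q) q.ResidueField (Ideal.Quotient.mk q x) := by
  rw [Ideal.algebraMap_quotient_residueField_mk,
    IsScalarTower.algebraMap_apply A (Localization.AtPrime q) q.ResidueField]
  rfl

omit hA in
theorem isUnit_map_of_notMem {x : A} (hx : x ∉ q) :
    IsUnit (algebraMap A (Localization.AtPrime q) x) :=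
  IsLocalization.map_units (Localization.AtPrime q) (⟨x, hx⟩ : q.primeCompl)

theorem d_unit_left (hg : IsGood q) {x y : A} (hx : x ∉ q) (hy : y ∈ nonZeroDivisors A) :
    d q x y = ((Ring.ord (Localization.AtPrime q) (algebraMap A (Localization.AtPrime q) y)).toNat : ℤ) *
      ((Ring.ord (A ⧸ q) (Ideal.Quotient.mk q x)).toNat : ℤ) := by
  haveI := hg.krullDimLE_quot hA
  obtain ⟨-, -, -, L4, -⟩ := TameLaws.tameSymbol_laws (hg.ringKrullDim_loc hA)
  have hu := isUnit_map_of_notMem (q := q) hx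
  have h := L4 hu.unit _ (map_mem_nonZeroDivisors q hy)
  rw [IsUnit.unit_spec] at h
  have hne : Ideal.Quotient.mk q x ≠ 0 := by
    rw [Ne, Ideal.Quotient.eq_zero_iff_mem]; exact hx
  unfold d
  rw [h, residue_algebraMap_eq hA, ordFrac_pow _ _
    ((map_ne_zero_iff _ (IsFractionRing.injective (A ⧸ q) q.ResidueField)).mpr hne),
    ordFrac_algebraMap _ _ hne]
  rfl

theorem d_unit_right (hg : IsGood q) {x y : A} (hx : x ∈ nonZeroDivisors A)
    (hy : y ∉ q) (hy' : y ∈ nonZeroDivisors A) :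
    d q x y = - (((Ring.ord (Localization.AtPrime q) (algebraMap A (Localization.AtPrime q) x)).toNat : ℤ) *
      ((Ring.ord (A ⧸ q) (Ideal.Quotient.mk q y)).toNat : ℤ)) := by
  have h := d_antisymm hA hg hx hy'
  rw [d_unit_left hA hg hy hx] at h
  omega

omit hA in
theorem d_of_notMem {x y : A} (hx : x ∉ q) (hy : y ∉ q) : d q x y = 0 := by
  unfold d
  rw [TameNorm.tameSymbol_eq_one_of_isUnit _ (isUnit_map_of_notMem hx) (isUnit_map_of_notMem hy)]
  unfold CycAlg.ordFrac
  split_ifs with h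
  · rw [map_one]; rfl
  · rfl

end Local

end Part3

section Part4

open IsLocalRing CycAlg

section Global

variable {A : Type u} [CommRing A] [IsNoetherianRing A] [IsLocalRing A]

/-- the global sum, in the form of the statement -/
noncomputable def Dsum (x y : A) : ℤ :=
  ∑ᶠ (q : PrimeSpectrum A) (_ : q.asIdeal.height = 1), d q.asIdeal x y

/-- height-one primes containing `z` -/
def V1 (z : A) : Set (PrimeSpectrum A) := {q | q.asIdeal.height = 1 ∧ z ∈ q.asIdeal}

variable (hA : ringKrullDim A = 2)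

include hA

theorem V1_finite {z : A} (hz : z ∈ nonZeroDivisors A) : (V1 z).Finite :=
  finite_height_one_mem hA hz

theorem isGood_of_mem_V1 {z : A} (hz : z ∈ nonZeroDivisors A) {q : PrimeSpectrum A}
    (hq : q ∈ V1 z) : IsGood q.asIdeal :=
  isGood_of_height hA hq.1 hz hq.2

omit hA in
theorem mem_V1_of_dvd {x z : A} (hxz : x ∣ z) {q : PrimeSpectrum A} (h1 : q.asIdeal.height = 1)
    (hx : x ∈ q.asIdeal) : q ∈ V1 z :=
  ⟨h1, Ideal.mem_of_dvd _ hxz hx⟩

omit hA in
theorem Dsum_eq_finsum_mem {x y z : A} (hxz : x ∣ z) (hyz : y ∣ z) :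
    Dsum x y = ∑ᶠ q ∈ V1 z, d q.asIdeal x y := by
  unfold Dsum
  rw [finsum_mem_def]
  refine finsum_congr ?_
  intro q
  classical
  rw [finsum_eq_if, Set.indicator_apply]
  by_cases h1 : q.asIdeal.height = 1
  · rw [if_pos h1]
    by_cases hq : q ∈ V1 z
    · rw [if_pos hq]
    · rw [if_neg hq]
      have hx : x ∉ q.asIdeal := fun h => hq (mem_V1_of_dvd hxz h1 h)
      have hy : y ∉ q.asIdeal := fun h => hq (mem_V1_of_dvd hyz h1 h)
      exact d_of_notMem hx hy
  · rw [if_neg h1, if_neg (fun hq : q ∈ V1 z => h1 hq.1)]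

theorem Dsum_mul_left {x x' y : A} (hx : x ∈ nonZeroDivisors A)
    (hx' : x' ∈ nonZeroDivisors A) (hy : y ∈ nonZeroDivisors A) :
    Dsum (x * x') y = Dsum x y + Dsum x' y := by
  have hz : x * x' * y ∈ nonZeroDivisors A := mul_mem (mul_mem hx hx') hy
  rw [Dsum_eq_finsum_mem (z := x * x' * y) (Dvd.intro _ rfl) (Dvd.intro_left _ rfl),
    Dsum_eq_finsum_mem (z := x * x' * y) (x := x) ⟨x' * y, by ring⟩ (Dvd.intro_left _ rfl),
    Dsum_eq_finsum_mem (z := x * x' * y) (x := x') ⟨x * y, by ring⟩ (Dvd.intro_left _ rfl),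
    ← finsum_mem_add_distrib (V1_finite hA hz)]
  refine finsum_mem_congr rfl ?_
  intro q hq
  exact d_mul_left hA (isGood_of_mem_V1 hA hz hq) hx hx' hy

theorem Dsum_mul_right {x x' y : A} (hx : x ∈ nonZeroDivisors A)
    (hx' : x' ∈ nonZeroDivisors A) (hy : y ∈ nonZeroDivisors A) :
    Dsum y (x * x') = Dsum y x + Dsum y x' := by
  have hz : x * x' * y ∈ nonZeroDivisors A := mul_mem (mul_mem hx hx') hy
  rw [Dsum_eq_finsum_mem (z := x * x' * y) (Dvd.intro_left _ rfl) (Dvd.intro _ rfl),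
    Dsum_eq_finsum_mem (z := x * x' * y) (y := x) (Dvd.intro_left _ rfl) ⟨x' * y, by ring⟩,
    Dsum_eq_finsum_mem (z := x * x' * y) (y := x') (Dvd.intro_left _ rfl) ⟨x * y, by ring⟩,
    ← finsum_mem_add_distrib (V1_finite hA hz)]
  refine finsum_mem_congr rfl ?_
  intro q hq
  exact d_mul_right hA (isGood_of_mem_V1 hA hz hq) hx hx' hy

theorem Dsum_self {x : A} (hx : x ∈ nonZeroDivisors A) : Dsum x x = 0 := by
  rw [Dsum_eq_finsum_mem (z := x) dvd_rfl dvd_rfl]
  have h : ∑ᶠ q ∈ V1 x, d q.asIdeal x x = ∑ᶠ q ∈ V1 x, (0 : ℤ) :=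
    finsum_mem_congr rfl (fun q hq => d_self hA (isGood_of_mem_V1 hA hx hq) hx)
  rw [h, finsum_mem_zero]

theorem Dsum_antisymm {x y : A} (hx : x ∈ nonZeroDivisors A) (hy : y ∈ nonZeroDivisors A) :
    Dsum x y + Dsum y x = 0 := by
  have hxy := mul_mem hx hy
  have h1 := Dsum_self hA hxy
  rw [Dsum_mul_left hA hx hy hxy, Dsum_mul_right hA hx hy hx, Dsum_mul_right hA hx hy hy,
    Dsum_self hA hx, Dsum_self hA hy] at h1
  omega

theorem Dsum_steinberg {x y : A} (hx : x ∈ nonZeroDivisors A)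
    (hy : y ∈ nonZeroDivisors A) (hyx : y - x ∈ nonZeroDivisors A) :
    Dsum x (y - x) + Dsum y y = Dsum y (y - x) + Dsum x y := by
  have hz : x * y * (y - x) ∈ nonZeroDivisors A := mul_mem (mul_mem hx hy) hyx
  rw [Dsum_eq_finsum_mem (z := x * y * (y - x)) (x := x) (y := y - x) ⟨y * (y - x), by ring⟩
      (Dvd.intro_left _ rfl),
    Dsum_eq_finsum_mem (z := x * y * (y - x)) (x := y) (y := y) ⟨x * (y - x), by ring⟩
      ⟨x * (y - x), by ring⟩,
    Dsum_eq_finsum_mem (z := x * y * (y - x)) (x := y) (y := y - x) ⟨x * (y - x), by ring⟩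
      (Dvd.intro_left _ rfl),
    Dsum_eq_finsum_mem (z := x * y * (y - x)) (x := x) (y := y) ⟨y * (y - x), by ring⟩
      ⟨x * (y - x), by ring⟩,
    ← finsum_mem_add_distrib (V1_finite hA hz), ← finsum_mem_add_distrib (V1_finite hA hz)]
  refine finsum_mem_congr rfl ?_
  intro q hq
  exact d_steinberg hA (isGood_of_mem_V1 hA hz hq) hx hy hyx

end Global

end Part4

section Part5

open IsLocalRing CycAlg Groth.Agent.Lib.Helper22.Herbrand

section StepB

variable {A : Type u} [CommRing A] [IsNoetherianRing A] [IsLocalRing A]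

omit [IsNoetherianRing A] [IsLocalRing A] in
theorem length_localizedModule_quot_span (p : Ideal A) [p.IsPrime] (x : A) :
    Module.length (Localization.AtPrime p) (LocalizedModule p.primeCompl (A ⧸ Ideal.span {x})) =
      Ring.ord (Localization.AtPrime p) (algebraMap A (Localization.AtPrime p) x) := by
  unfold Ring.ord
  let M' : Submodule A A := Ideal.span {x}
  let f : A →ₗ[A] Localization.AtPrime p := Algebra.linearMap A (Localization.AtPrime p)
  let e0 : LocalizedModule p.primeCompl (A ⧸ M') ≃ₗ[A]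
      (Localization.AtPrime p ⧸ M'.localized' (Localization.AtPrime p) p.primeCompl f) :=
    IsLocalizedModule.linearEquiv p.primeCompl
      (LocalizedModule.mkLinearMap p.primeCompl (A ⧸ M'))
      (M'.toLocalizedQuotient' (Localization.AtPrime p) p.primeCompl f)
  let e1 : LocalizedModule p.primeCompl (A ⧸ M') ≃ₗ[Localization.AtPrime p]
      (Localization.AtPrime p ⧸ M'.localized' (Localization.AtPrime p) p.primeCompl f) :=
    e0.extendScalarsOfIsLocalization p.primeCompl (Localization.AtPrime p)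
  have hM : M'.localized' (Localization.AtPrime p) p.primeCompl f =
      Ideal.span {algebraMap A (Localization.AtPrime p) x} := by
    show Submodule.localized' (Localization.AtPrime p) p.primeCompl
      (Algebra.linearMap A (Localization.AtPrime p)) (Ideal.span {x}) = _
    rw [Ideal.localized'_eq_map, Ideal.map_span, Set.image_singleton]
  rw [e1.length_eq, (Submodule.quotEquivOfEq _ _ hM).length_eq]

omit [IsNoetherianRing A] [IsLocalRing A] in
/-- symmetry of the torsion part of the Koszul homology -/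
theorem length_tKer_symm {x y : A} (hx : x ∈ nonZeroDivisors A) (hy : y ∈ nonZeroDivisors A) :
    Module.length A (tKer y (A ⧸ Ideal.span {x})) = Module.length A (tKer x (A ⧸ Ideal.span {y})) := by
  let f : A × A →ₗ[A] A :=
    (LinearMap.lsmul A A y).comp (LinearMap.fst A A A) - (LinearMap.lsmul A A x).comp (LinearMap.snd A A A)
  let P : Submodule A (A × A) := LinearMap.ker f
  have hP : ∀ z : A × A, z ∈ P ↔ y * z.1 = x * z.2 := by
    intro z
    show f z = 0 ↔ _
    simp only [f, LinearMap.sub_apply, LinearMap.comp_apply, LinearMap.fst_apply,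
      LinearMap.snd_apply, LinearMap.lsmul_apply, smul_eq_mul, sub_eq_zero]
  let p₁ : P →ₗ[A] tKer y (A ⧸ Ideal.span {x}) :=
    LinearMap.codRestrict _ ((Submodule.mkQ (Ideal.span {x})).comp
      ((LinearMap.fst A A A).comp P.subtype)) (by
      intro z
      rw [mem_tKer]
      show y • Submodule.Quotient.mk (z : A × A).1 = 0
      rw [← Submodule.Quotient.mk_smul, Submodule.Quotient.mk_eq_zero, smul_eq_mul,
        (hP z).mp z.2]
      exact Ideal.mul_mem_right _ _ (Ideal.mem_span_singleton_self x))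
  let p₂ : P →ₗ[A] tKer x (A ⧸ Ideal.span {y}) :=
    LinearMap.codRestrict _ ((Submodule.mkQ (Ideal.span {y})).comp
      ((LinearMap.snd A A A).comp P.subtype)) (by
      intro z
      rw [mem_tKer]
      show x • Submodule.Quotient.mk (z : A × A).2 = 0
      rw [← Submodule.Quotient.mk_smul, Submodule.Quotient.mk_eq_zero, smul_eq_mul,
        ← (hP z).mp z.2]
      exact Ideal.mul_mem_right _ _ (Ideal.mem_span_singleton_self y))
  have hs₁ : Function.Surjective p₁ := by
    rintro ⟨n, hn⟩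
    obtain ⟨s, rfl⟩ := Submodule.Quotient.mk_surjective _ n
    rw [mem_tKer, ← Submodule.Quotient.mk_smul, Submodule.Quotient.mk_eq_zero, smul_eq_mul] at hn
    obtain ⟨t, ht⟩ := Ideal.mem_span_singleton'.mp hn
    refine ⟨⟨(s, t), (hP _).mpr (by rw [← ht]; ring)⟩, ?_⟩
    apply Subtype.ext
    rfl
  have hs₂ : Function.Surjective p₂ := by
    rintro ⟨n, hn⟩
    obtain ⟨t, rfl⟩ := Submodule.Quotient.mk_surjective _ n
    rw [mem_tKer, ← Submodule.Quotient.mk_smul, Submodule.Quotient.mk_eq_zero, smul_eq_mul] at hn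
    obtain ⟨s, hs⟩ := Ideal.mem_span_singleton'.mp hn
    refine ⟨⟨(s, t), (hP _).mpr (by rw [← hs]; ring)⟩, ?_⟩
    apply Subtype.ext
    rfl
  have hker : LinearMap.ker p₁ = LinearMap.ker p₂ := by
    ext ⟨⟨s, t⟩, hz⟩
    have hz' : y * s = x * t := (hP _).mp hz
    rw [LinearMap.mem_ker, LinearMap.mem_ker]
    have e1 : p₁ ⟨(s, t), hz⟩ = 0 ↔ s ∈ Ideal.span {x} := by
      rw [← Submodule.Quotient.mk_eq_zero (Ideal.span {x})]
      constructor
      · intro h; exact congrArg Subtype.val h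
      · intro h; exact Subtype.ext h
    have e2 : p₂ ⟨(s, t), hz⟩ = 0 ↔ t ∈ Ideal.span {y} := by
      rw [← Submodule.Quotient.mk_eq_zero (Ideal.span {y})]
      constructor
      · intro h; exact congrArg Subtype.val h
      · intro h; exact Subtype.ext h
    rw [e1, e2, Ideal.mem_span_singleton', Ideal.mem_span_singleton']
    constructor
    · rintro ⟨a, rfl⟩
      refine ⟨a, ?_⟩
      have : x * (a * y) = x * t := by rw [← hz']; ring
      exact mul_cancel_left_mem_nonZeroDivisors hx |>.mp this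
    · rintro ⟨a, rfl⟩
      refine ⟨a, ?_⟩
      have : y * (a * x) = y * s := by rw [hz']; ring
      exact mul_cancel_left_mem_nonZeroDivisors hy |>.mp this
  rw [← (LinearMap.quotKerEquivOfSurjective p₁ hs₁).length_eq,
    ← (LinearMap.quotKerEquivOfSurjective p₂ hs₂).length_eq]
  exact (Submodule.quotEquivOfEq _ _ hker).length_eq

omit [IsNoetherianRing A] [IsLocalRing A] in
theorem length_quotSMulTop_symm (x y : A) :
    Module.length A (QuotSMulTop y (A ⧸ Ideal.span {x})) =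
      Module.length A (QuotSMulTop x (A ⧸ Ideal.span {y})) :=
  ((QuotSMulTop.equivQuotTensor y (A ⧸ Ideal.span {x})).trans
    (QuotSMulTop.equivTensorQuot x (A ⧸ Ideal.span {y})).symm).length_eq

end StepB

end Part5

section Part6

open IsLocalRing CycAlg Groth.Agent.Lib.Helper22.Herbrand

section StepB2

variable {A : Type u} [CommRing A] [IsNoetherianRing A] [IsLocalRing A]

/-- no common non-maximal prime -/
def Coprime1 (x y : A) : Prop :=
  ∀ q : PrimeSpectrum A, x ∈ q.asIdeal → y ∈ q.asIdeal → q.asIdeal = maximalIdeal A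

theorem Coprime1.symm {x y : A} (h : Coprime1 x y) : Coprime1 y x := fun q hy hx => h q hx hy

/-- the intersection number `Σ_q ord_{A_q}(x) ord_{A/q}(y)` -/
noncomputable def E (x y : A) : ℕ∞ :=
  ∑ᶠ q ∈ V1 x, Ring.ord (A ⧸ q.asIdeal) (Ideal.Quotient.mk q.asIdeal y) *
    Ring.ord (Localization.AtPrime q.asIdeal) (algebraMap A (Localization.AtPrime q.asIdeal) x)

variable (hA : ringKrullDim A = 2)

include hA

theorem setOf_eq_V1 {x : A} (hx : x ∈ nonZeroDivisors A) :
    {q : PrimeSpectrum A | q ∈ {q : PrimeSpectrum A | x ∈ q.asIdeal} ∧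
      q.asIdeal ≠ maximalIdeal A} = V1 x := by
  ext q
  constructor
  · rintro ⟨hxq, hne⟩
    exact ⟨(IsGood.mk hne ⟨x, hxq, hx⟩).height hA, hxq⟩
  · rintro ⟨h1, hxq⟩
    exact ⟨hxq, (isGood_of_height hA h1 hx hxq).ne⟩

theorem fm_apply {x y : A} (hx : x ∈ nonZeroDivisors A) (hxy : Coprime1 x y) :
    Module.length A (QuotSMulTop y (A ⧸ Ideal.span {x})) =
      Module.length A (tKer y (A ⧸ Ideal.span {x})) + E x y := by
  have hmain := Groth.Agent.S1833.main y
    {q : PrimeSpectrum A | q ∈ {q : PrimeSpectrum A | x ∈ q.asIdeal} ∧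
      q.asIdeal ≠ maximalIdeal A} {q : PrimeSpectrum A | x ∈ q.asIdeal} rfl
    (by rw [setOf_eq_V1 hA hx]; exact V1_finite hA hx)
    (fun q hq hy => hxy q hq hy)
    (by
      rintro q ⟨hqZ, hqm⟩ q' hq'Z hle
      exact PrimeSpectrum.ext (Glue.eq_of_le_of_mem_nonZeroDivisors hA hx hq'Z hqm hle))
    (A ⧸ Ideal.span {x})
    (by
      intro p hp
      rw [Module.mem_support_iff_of_finite, Ideal.annihilator_quotient] at hp
      exact hp (Ideal.mem_span_singleton_self x))
  unfold Groth.Agent.S1833.Fm Groth.Agent.S1833.rs at hmain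
  rw [hmain, setOf_eq_V1 hA hx]
  unfold E
  congr 1
  refine finsum_mem_congr rfl ?_
  intro q _
  rw [length_localizedModule_quot_span]

theorem length_quotSMulTop_ne_top {x y : A} (hxy : Coprime1 x y) :
    Module.length A (QuotSMulTop y (A ⧸ Ideal.span {x})) ≠ ⊤ := by
  rw [Module.length_ne_top_iff]
  apply Groth.Agent.Lib.Helper5.isFiniteLength_of_supportDim_le_zero
  apply Groth.Agent.Lib.Helper5.supportDim_le_zero_of_forall_isMaximal
  intro p hp
  rw [Module.support_quotSMulTop] at hp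
  obtain ⟨hp1, hp2⟩ := hp
  rw [Module.mem_support_iff_of_finite, Ideal.annihilator_quotient] at hp1
  have hx : x ∈ p.asIdeal := hp1 (Ideal.mem_span_singleton_self x)
  have hy : y ∈ p.asIdeal := by
    rw [PrimeSpectrum.mem_zeroLocus] at hp2
    exact hp2 rfl
  rw [hxy p hx hy]
  infer_instance

theorem E_symm {x y : A} (hx : x ∈ nonZeroDivisors A) (hy : y ∈ nonZeroDivisors A)
    (hxy : Coprime1 x y) : E x y = E y x ∧ E x y ≠ ⊤ := by
  have h1 := fm_apply hA hx hxy
  have h2 := fm_apply hA hy hxy.symm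
  have hfin := length_quotSMulTop_ne_top hA hxy
  rw [length_quotSMulTop_symm x y, h2, length_tKer_symm hy hx] at h1
  have hk : Module.length A (tKer y (A ⧸ Ideal.span {x})) ≠ ⊤ := by
    intro h
    rw [fm_apply hA hx hxy, h, top_add] at hfin
    exact hfin rfl
  have hE : E x y ≠ ⊤ := by
    intro h
    rw [fm_apply hA hx hxy, h, add_top] at hfin
    exact hfin rfl
  exact ⟨(WithTop.add_left_cancel hk h1).symm, hE⟩

end StepB2

end Part6

section Part7

open IsLocalRing CycAlg Groth.Agent.Lib.Helper22.Herbrand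

section StepB3

theorem finsum_mem_toNat_mul {α : Type*} (S : Set α) (hS : S.Finite) (f g : α → ℕ∞)
    (hf : ∀ q ∈ S, f q ≠ ⊤) (hg : ∀ q ∈ S, g q ≠ ⊤) :
    ∑ᶠ q ∈ S, (((g q).toNat : ℤ) * ((f q).toNat : ℤ)) = ((∑ᶠ q ∈ S, f q * g q).toNat : ℤ) := by
  rw [finsum_mem_eq_finite_toFinset_sum _ hS, finsum_mem_eq_finite_toFinset_sum _ hS]
  have h1 : ∑ q ∈ hS.toFinset, f q * g q =
      ((∑ q ∈ hS.toFinset, (f q).toNat * (g q).toNat : ℕ) : ℕ∞) := by
    rw [Nat.cast_sum]
    refine Finset.sum_congr rfl ?_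
    intro q hq
    have hq' : q ∈ S := hS.mem_toFinset.mp hq
    rw [Nat.cast_mul, ENat.coe_toNat (hf q hq'), ENat.coe_toNat (hg q hq')]
  rw [h1, ENat.toNat_coe]
  push_cast
  refine Finset.sum_congr rfl ?_
  intro q _
  ring

variable {A : Type u} [CommRing A] [IsNoetherianRing A] [IsLocalRing A]
variable (hA : ringKrullDim A = 2)

include hA

theorem ord_loc_ne_top {q : Ideal A} [q.IsPrime] (hg : IsGood q) {x : A}
    (hx : x ∈ nonZeroDivisors A) :
    Ring.ord (Localization.AtPrime q) (algebraMap A (Localization.AtPrime q) x) ≠ ⊤ := by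
  haveI : Ring.KrullDimLE 1 (Localization.AtPrime q) :=
    Ring.krullDimLE_iff.mpr (hg.ringKrullDim_loc hA).le
  exact Ring.ord_ne_top (map_mem_nonZeroDivisors q hx)

theorem ord_quot_ne_top {q : Ideal A} [q.IsPrime] (hg : IsGood q) {y : A} (hy : y ∉ q) :
    Ring.ord (A ⧸ q) (Ideal.Quotient.mk q y) ≠ ⊤ := by
  haveI := hg.krullDimLE_quot hA
  apply Ring.ord_ne_top
  apply mem_nonZeroDivisors_of_ne_zero
  rw [Ne, Ideal.Quotient.eq_zero_iff_mem]
  exact hy

theorem finsum_d_eq_neg_E {x y : A} (hx : x ∈ nonZeroDivisors A) (hy : y ∈ nonZeroDivisors A)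
    (hxy : Coprime1 x y) : ∑ᶠ q ∈ V1 x, d q.asIdeal x y = - ((E x y).toNat : ℤ) := by
  have hne : ∀ q ∈ V1 x, y ∉ q.asIdeal := by
    intro q hq hyq
    exact (isGood_of_mem_V1 hA hx hq).ne (hxy q hq.2 hyq)
  unfold E
  rw [← finsum_mem_toNat_mul (V1 x) (V1_finite hA hx) _ _
    (fun q hq => ord_quot_ne_top hA (isGood_of_mem_V1 hA hx hq) (hne q hq))
    (fun q hq => ord_loc_ne_top hA (isGood_of_mem_V1 hA hx hq) hx),
    ← finsum_mem_neg_distrib _ (V1_finite hA hx)]
  refine finsum_mem_congr rfl ?_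
  intro q hq
  exact d_unit_right hA (isGood_of_mem_V1 hA hx hq) hx (hne q hq) hy

theorem finsum_d_eq_E {x y : A} (hx : x ∈ nonZeroDivisors A) (hy : y ∈ nonZeroDivisors A)
    (hxy : Coprime1 x y) : ∑ᶠ q ∈ V1 y, d q.asIdeal x y = ((E y x).toNat : ℤ) := by
  have hne : ∀ q ∈ V1 y, x ∉ q.asIdeal := by
    intro q hq hxq
    exact (isGood_of_mem_V1 hA hy hq).ne (hxy q hxq hq.2)
  unfold E
  rw [← finsum_mem_toNat_mul (V1 y) (V1_finite hA hy) _ _
    (fun q hq => ord_quot_ne_top hA (isGood_of_mem_V1 hA hy hq) (hne q hq))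
    (fun q hq => ord_loc_ne_top hA (isGood_of_mem_V1 hA hy hq) hy)]
  refine finsum_mem_congr rfl ?_
  intro q hq
  exact d_unit_left hA (isGood_of_mem_V1 hA hy hq) (hne q hq) hy

omit hA in
theorem V1_mul (x y : A) : V1 (x * y) = V1 x ∪ V1 y := by
  ext q
  simp only [V1, Set.mem_setOf_eq, Set.mem_union]
  rw [q.isPrime.mul_mem_iff_mem_or_mem]
  tauto

/-- Step B: the sum vanishes for elements without a common height-one prime. -/
theorem Dsum_eq_zero_of_coprime {x y : A} (hx : x ∈ nonZeroDivisors A)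
    (hy : y ∈ nonZeroDivisors A) (hxy : Coprime1 x y) : Dsum x y = 0 := by
  rw [Dsum_eq_finsum_mem (z := x * y) (Dvd.intro _ rfl) (Dvd.intro_left _ rfl), V1_mul,
    finsum_mem_union ?_ (V1_finite hA hx) (V1_finite hA hy), finsum_d_eq_neg_E hA hx hy hxy,
    finsum_d_eq_E hA hx hy hxy, (E_symm hA hx hy hxy).1]
  · omega
  · rw [Set.disjoint_left]
    intro q hq1 hq2
    have := hxy q hq1.2 hq2.2
    exact (isGood_of_mem_V1 hA hx hq1).ne this

end StepB3

end Part7

section Part8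

open IsLocalRing CycAlg

section Avoid

/-- prime avoidance with one arbitrary ideal -/
theorem exists_mem_notMem {R : Type*} [CommRing R] (I J₀ : Ideal R) (P : Finset (Ideal R))
    (hP : ∀ p ∈ P, p.IsPrime) (h0 : ¬ I ≤ J₀) (hI : ∀ p ∈ P, ¬ I ≤ p) :
    ∃ x ∈ I, x ∉ J₀ ∧ ∀ p ∈ P, x ∉ p := by
  classical
  by_contra hcon
  push Not at hcon
  have hsub : (I : Set R) ⊆ ⋃ i ∈ ((insert J₀ P : Finset (Ideal R)) : Set (Ideal R)), (id i : Ideal R) := by
    intro x hx
    by_cases hx0 : x ∈ J₀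
    · exact Set.mem_biUnion (Finset.mem_coe.mpr (Finset.mem_insert_self _ _)) hx0
    · obtain ⟨p, hp, hxp⟩ := hcon x hx hx0
      exact Set.mem_biUnion (Finset.mem_coe.mpr (Finset.mem_insert_of_mem hp)) hxp
  obtain ⟨i, hi, hle⟩ := (Ideal.subset_union_prime (f := id) J₀ J₀ (by
    intro i hi hne _
    rcases Finset.mem_insert.mp hi with h | h
    · exact absurd h hne
    · exact hP i h)).mp hsub
  rcases Finset.mem_insert.mp hi with h | h
  · exact h0 (h ▸ hle)
  · exact hI i h hle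

variable {A : Type u} [CommRing A] [IsNoetherianRing A]

theorem mem_nonZeroDivisors_iff_forall_notMem {x : A} :
    x ∈ nonZeroDivisors A ↔ ∀ p ∈ associatedPrimes A A, x ∉ p := by
  have h := biUnion_associatedPrimes_eq_compl_nonZeroDivisors A
  constructor
  · intro hx p hp hxp
    have : x ∈ ⋃ p ∈ associatedPrimes A A, (p : Set A) := Set.mem_biUnion hp hxp
    rw [h] at this
    exact this hx
  · intro hx
    by_contra hcon
    have : x ∈ ((nonZeroDivisors A : Set A))ᶜ := hcon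
    rw [← h] at this
    obtain ⟨p, hp, hxp⟩ := Set.mem_iUnion₂.mp this
    exact hx p hp hxp

/-- (AV') -/
theorem exists_nzd_mem_notMem [Nontrivial A] (I J₀ : Ideal A) (hI : ∃ z ∈ I, z ∈ nonZeroDivisors A)
    (h0 : ¬ I ≤ J₀) (P : Finset (Ideal A)) (hP : ∀ p ∈ P, p.IsPrime) (hIP : ∀ p ∈ P, ¬ I ≤ p) :
    ∃ x ∈ I, x ∈ nonZeroDivisors A ∧ x ∉ J₀ ∧ ∀ p ∈ P, x ∉ p := by
  classical
  obtain ⟨z, hzI, hz⟩ := hI
  have hfin := associatedPrimes.finite A A
  obtain ⟨x, hxI, hx0, hxP⟩ := exists_mem_notMem I J₀ (P ∪ hfin.toFinset)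
    (by
      intro p hp
      rcases Finset.mem_union.mp hp with h | h
      · exact hP p h
      · exact (hfin.mem_toFinset.mp h).isPrime)
    h0
    (by
      intro p hp hle
      rcases Finset.mem_union.mp hp with h | h
      · exact hIP p h hle
      · exact mem_nonZeroDivisors_iff_forall_notMem.mp hz p (hfin.mem_toFinset.mp h) (hle hzI))
  refine ⟨x, hxI, ?_, hx0, fun p hp => hxP p (Finset.mem_union_left _ hp)⟩
  rw [mem_nonZeroDivisors_iff_forall_notMem]
  intro p hp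
  exact hxP p (Finset.mem_union_right _ (hfin.mem_toFinset.mpr hp))

/-- (P1) -/
theorem exists_nzd_mem_avoid [Nontrivial A] (I : Ideal A) (hI : ∃ z ∈ I, z ∈ nonZeroDivisors A)
    (P : Finset (Ideal A)) (hP : ∀ p ∈ P, p.IsPrime) (hIP : ∀ p ∈ P, ¬ I ≤ p) :
    ∃ x ∈ I, x ∈ nonZeroDivisors A ∧ ∀ p ∈ P, x ∉ p := by
  obtain ⟨z, hzI, hz⟩ := hI
  have h0 : ¬ I ≤ ⊥ := by
    intro hle
    have : z = 0 := by simpa using hle hzI
    rw [this] at hz
    exact zero_notMem_nonZeroDivisors hz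
  obtain ⟨x, hxI, hx, -, hxP⟩ := exists_nzd_mem_notMem I ⊥ ⟨z, hzI, hz⟩ h0 P hP hIP
  exact ⟨x, hxI, hx, hxP⟩

/-- (P2) -/
theorem exists_mul_eq_mul [Nontrivial A] {x y : A} (hx : x ∈ nonZeroDivisors A)
    (hy : y ∈ nonZeroDivisors A) (P : Finset (Ideal A)) (hP : ∀ p ∈ P, p.IsPrime)
    (hloc : ∀ p ∈ P, ∃ s : A, s ∉ p ∧ ∃ c : A, s * x = c * y)
    (hloc' : ∀ p ∈ P, ∃ s : A, s ∉ p ∧ ∃ c : A, s * y = c * x) :
    ∃ c₁ c₂ : A, c₁ ∈ nonZeroDivisors A ∧ c₂ ∈ nonZeroDivisors A ∧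
      (∀ p ∈ P, c₁ ∉ p ∧ c₂ ∉ p) ∧ c₂ * x = c₁ * y := by
  set 𝔞 : Ideal A := (Ideal.span {y} : Submodule A A).colon {x} with h𝔞
  have hmem : ∀ c : A, c ∈ 𝔞 ↔ ∃ c', c * x = c' * y := by
    intro c
    rw [h𝔞, Submodule.mem_colon_singleton, smul_eq_mul, Ideal.mem_span_singleton']
    constructor
    · rintro ⟨a, ha⟩; exact ⟨a, ha.symm⟩
    · rintro ⟨a, ha⟩; exact ⟨a, ha.symm⟩
  obtain ⟨c₂, hc₂𝔞, hc₂, hc₂P⟩ := exists_nzd_mem_avoid 𝔞 ⟨y, (hmem y).mpr ⟨x, mul_comm _ _⟩, hy⟩ P hP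
    (by
      intro p hp hle
      obtain ⟨s, hs, c, hc⟩ := hloc p hp
      exact hs (hle ((hmem s).mpr ⟨c, hc⟩)))
  obtain ⟨c₁, hc₁⟩ := (hmem c₂).mp hc₂𝔞
  have hc₁nz : c₁ ∈ nonZeroDivisors A := by
    have h1 : c₁ * y ∈ nonZeroDivisors A := hc₁ ▸ mul_mem hc₂ hx
    rw [mem_nonZeroDivisors_iff_right] at h1 ⊢
    intro w hw
    apply h1
    rw [← mul_assoc, hw, zero_mul]
  refine ⟨c₁, c₂, hc₁nz, hc₂, ?_, hc₁⟩
  intro p hp
  refine ⟨?_, hc₂P p hp⟩
  intro hc₁p
  haveI := hP p hp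
  obtain ⟨s, hs, c, hc⟩ := hloc' p hp
  have h2 : (s * c₂) * x = (c₁ * c) * x := by
    calc (s * c₂) * x = s * (c₂ * x) := by ring
      _ = s * (c₁ * y) := by rw [hc₁]
      _ = c₁ * (s * y) := by ring
      _ = c₁ * (c * x) := by rw [hc]
      _ = (c₁ * c) * x := by ring
  have h3 : s * c₂ = c₁ * c := mul_cancel_right_mem_nonZeroDivisors hx |>.mp h2
  have h4 : s * c₂ ∈ p := h3 ▸ Ideal.mul_mem_right _ _ hc₁p
  rcases Ideal.IsPrime.mem_or_mem ‹_› h4 with h | h
  · exact hs h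
  · exact hc₂P p hp h

end Avoid

end Part8

section Part9

open IsLocalRing CycAlg

section Approx

variable {A : Type u} [CommRing A] [IsNoetherianRing A] [IsLocalRing A]
variable (hA : ringKrullDim A = 2) {q : Ideal A} [q.IsPrime]

include hA

/-- (Q): the contraction of an ideal of `A_q` containing a nonzerodivisor contains a power of every
element of `q`. -/
theorem exists_pow_mem_comap (hg : IsGood q) (J : Ideal (Localization.AtPrime q))
    {c : Localization.AtPrime q} (hc : c ∈ nonZeroDivisors (Localization.AtPrime q)) (hcJ : c ∈ J) :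
    ∃ k : ℕ, ∀ u ∈ q, u ^ k ∈ J.comap (algebraMap A (Localization.AtPrime q)) := by
  haveI : Ring.KrullDimLE 1 (Localization.AtPrime q) :=
    Ring.krullDimLE_iff.mpr (hg.ringKrullDim_loc hA).le
  obtain ⟨k, hk⟩ := Tame.exists_pow_maximalIdeal_le_span hc
  refine ⟨k, ?_⟩
  intro u hu
  rw [Ideal.mem_comap, map_pow]
  have hum : algebraMap A (Localization.AtPrime q) u ∈ maximalIdeal (Localization.AtPrime q) :=
    (IsLocalization.AtPrime.to_map_mem_maximal_iff _ q u).mpr hu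
  exact (hk.trans ((Ideal.span_singleton_le_iff_mem _).mpr hcJ)) (Ideal.pow_mem_pow hum k)

theorem not_comap_le (hg : IsGood q) (J : Ideal (Localization.AtPrime q))
    {c : Localization.AtPrime q} (hc : c ∈ nonZeroDivisors (Localization.AtPrime q)) (hcJ : c ∈ J)
    {p : Ideal A} [p.IsPrime] (hp : IsGood p) (hpq : p ≠ q) :
    ¬ J.comap (algebraMap A (Localization.AtPrime q)) ≤ p := by
  intro hle
  obtain ⟨k, hk⟩ := exists_pow_mem_comap hA hg J hc hcJ
  apply hpq
  symm
  apply hg.eq_of_le hA hp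
  intro u hu
  exact Ideal.IsPrime.mem_of_pow_mem ‹p.IsPrime› k (hle (hk u hu))

theorem exists_nzd_mem_comap (hg : IsGood q) (J : Ideal (Localization.AtPrime q))
    {c : Localization.AtPrime q} (hc : c ∈ nonZeroDivisors (Localization.AtPrime q)) (hcJ : c ∈ J) :
    ∃ z ∈ J.comap (algebraMap A (Localization.AtPrime q)), z ∈ nonZeroDivisors A := by
  obtain ⟨k, hk⟩ := exists_pow_mem_comap hA hg J hc hcJ
  obtain ⟨z, hzq, hz⟩ := hg.nzd
  exact ⟨z ^ k, hk z hzq, pow_mem hz k⟩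

/-- (P3): a global element generating `π A_q` and avoiding finitely many other primes -/
theorem exists_global_generator (hg : IsGood q) {π : Localization.AtPrime q}
    (hπ : π ∈ nonZeroDivisors (Localization.AtPrime q)) (P : Finset (Ideal A))
    (hP : ∀ p ∈ P, p.IsPrime ∧ IsGood p ∧ p ≠ q) :
    ∃ ρ : A, ρ ∈ nonZeroDivisors A ∧ (∀ p ∈ P, ρ ∉ p) ∧
      ∃ w : (Localization.AtPrime q)ˣ, algebraMap A (Localization.AtPrime q) ρ = w * π := by
  set 𝔟 : Ideal A := (Ideal.span {π}).comap (algebraMap A (Localization.AtPrime q)) with h𝔟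
  set 𝔟' : Ideal A := (Ideal.span {π} * maximalIdeal (Localization.AtPrime q)).comap (algebraMap A (Localization.AtPrime q)) with h𝔟'
  have hπmem : π ∈ Ideal.span {π} := Ideal.mem_span_singleton_self π
  have h0 : ¬ 𝔟 ≤ 𝔟' := by
    intro hle
    have h1 : Ideal.map (algebraMap A (Localization.AtPrime q)) 𝔟 ≤ Ideal.map (algebraMap A (Localization.AtPrime q)) 𝔟' := Ideal.map_mono hle
    rw [h𝔟, h𝔟', IsLocalization.map_comap q.primeCompl (Localization.AtPrime q), IsLocalization.map_comap q.primeCompl (Localization.AtPrime q)] at h1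
    obtain ⟨z, hz, hπz⟩ := Ideal.mem_span_singleton_mul.mp (h1 hπmem)
    have h2 : π * (1 - z) = 0 := by rw [mul_sub, mul_one, hπz, sub_self]
    have hu : IsUnit (1 - z) := IsLocalRing.isUnit_one_sub_self_of_mem_nonunits z hz
    have h3 : π = 0 := by
      have := congrArg (· * ((hu.unit⁻¹ : (Localization.AtPrime q)ˣ) : Localization.AtPrime q)) h2
      simpa [mul_assoc] using this
    rw [h3] at hπ
    exact zero_notMem_nonZeroDivisors hπ
  obtain ⟨ρ, hρ𝔟, hρ, hρ𝔟', hρP⟩ := exists_nzd_mem_notMem 𝔟 𝔟'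
    (exists_nzd_mem_comap hA hg _ hπ hπmem) h0 P (fun p hp => (hP p hp).1)
    (by
      intro p hp
      haveI := (hP p hp).1
      exact not_comap_le hA hg _ hπ hπmem (hP p hp).2.1 (hP p hp).2.2)
  refine ⟨ρ, hρ, hρP, ?_⟩
  obtain ⟨w₀, hw₀⟩ := Ideal.mem_span_singleton'.mp (Ideal.mem_comap.mp hρ𝔟)
  have hw₀u : IsUnit w₀ := by
    by_contra hnu
    apply hρ𝔟'
    rw [h𝔟', Ideal.mem_comap, ← hw₀]
    have hcm : w₀ * π = π * w₀ := mul_comm _ _
    rw [hcm]
    exact Ideal.mul_mem_mul hπmem ((IsLocalRing.mem_maximalIdeal w₀).mpr hnu)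
  exact ⟨hw₀u.unit, hw₀.symm⟩

end Approx

end Part9

section Part10

open IsLocalRing CycAlg

section Approx2

variable {A : Type u} [CommRing A] [IsNoetherianRing A] [IsLocalRing A]

/-- powers trick: for `η₀ ∈ 𝔪` a nonzerodivisor and `ρ` a nonzerodivisor, some `ρ + η₀^i` with
`i ≥ 1` is a nonzerodivisor. -/
theorem exists_pow_add_mem_nonZeroDivisors {ρ η₀ : A} (hη₀ : η₀ ∈ nonZeroDivisors A)
    (hη₀m : η₀ ∈ maximalIdeal A) :
    ∃ i : ℕ, 1 ≤ i ∧ ρ + η₀ ^ i ∈ nonZeroDivisors A := by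
  classical
  set Bad : Set ℕ := {i | 1 ≤ i ∧ ρ + η₀ ^ i ∉ nonZeroDivisors A} with hBad
  have hex : ∀ i : ℕ, ∃ p : Ideal A, i ∈ Bad → (p ∈ associatedPrimes A A ∧ ρ + η₀ ^ i ∈ p) := by
    intro i
    by_cases hi : i ∈ Bad
    · have h1 := hi.2
      rw [mem_nonZeroDivisors_iff_forall_notMem] at h1
      push Not at h1
      obtain ⟨p, hp, hmem⟩ := h1
      exact ⟨p, fun _ => ⟨hp, hmem⟩⟩
    · exact ⟨⊥, fun h => absurd h hi⟩
  choose f hf using hex
  have hfin : Bad.Finite := by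
    refine Set.Finite.of_injOn (f := f) (t := associatedPrimes A A) (fun i hi => (hf i hi).1) ?_
      (associatedPrimes.finite A A)
    have key : ∀ i j : ℕ, i ∈ Bad → j ∈ Bad → f i = f j → i < j → False := by
      intro i j hi hj hij hlt
      have hp := (hf i hi).1
      haveI hpp : (f i).IsPrime := hp.isPrime
      have h1 : ρ + η₀ ^ i ∈ f i := (hf i hi).2
      have h2 : ρ + η₀ ^ j ∈ f i := hij ▸ (hf j hj).2
      have h3 : η₀ ^ i * (1 - η₀ ^ (j - i)) ∈ f i := by
        have : η₀ ^ i * (1 - η₀ ^ (j - i)) = (ρ + η₀ ^ i) - (ρ + η₀ ^ j) := by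
          have hj' : j = i + (j - i) := by omega
          conv_rhs => rw [hj', pow_add]
          ring
        rw [this]
        exact Ideal.sub_mem _ h1 h2
      rcases hpp.mem_or_mem h3 with h | h
      · exact mem_nonZeroDivisors_iff_forall_notMem.mp hη₀ _ hp (hpp.mem_of_pow_mem _ h)
      · have hu : IsUnit (1 - η₀ ^ (j - i)) := by
          apply IsLocalRing.isUnit_one_sub_self_of_mem_nonunits
          have : j - i ≠ 0 := by omega
          exact Ideal.pow_mem_of_mem _ hη₀m _ (Nat.pos_of_ne_zero this)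
        exact hpp.ne_top (Ideal.eq_top_of_isUnit_mem _ h hu)
    intro i hi j hj hij
    rcases lt_trichotomy i j with h | h | h
    · exact (key i j hi hj hij h).elim
    · exact h
    · exact (key j i hj hi hij.symm h).elim
  obtain ⟨i, hi1, hiB⟩ := (Set.Ici_infinite 1).exists_notMem_finite hfin
  refine ⟨i, hi1, ?_⟩
  by_contra hcon
  exact hiB ⟨hi1, hcon⟩

variable (hA : ringKrullDim A = 2) {q : Ideal A} [q.IsPrime]

include hA

set_option maxHeartbeats 1000000 in
/-- (P4) -/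
theorem exists_perturbation (hg : IsGood q) {ρ : A} (hρ : ρ ∈ nonZeroDivisors A) (hρq : ρ ∈ q)
    (P₁ P₂ : Finset (Ideal A))
    (hP₁ : ∀ p ∈ P₁, p.IsPrime ∧ IsGood p ∧ p ≠ q ∧ ρ ∈ p)
    (hP₂ : ∀ p ∈ P₂, p.IsPrime ∧ IsGood p ∧ p ≠ q ∧ ρ ∉ p) :
    ∃ η : A, η ∈ nonZeroDivisors A ∧ ρ + η ∈ nonZeroDivisors A ∧
      (∃ s m : A, s ∉ q ∧ m ∈ q ∧ s * η = ρ * m) ∧ (∀ p ∈ P₁, η ∉ p) ∧ (∀ p ∈ P₂, η ∈ p) := by
  classical
  obtain ⟨z₀, hz₀q, hz₀⟩ := hg.nzd
  obtain ⟨J, hJ⟩ : ∃ J : Ideal (Localization.AtPrime q), J =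
    Ideal.span {algebraMap A (Localization.AtPrime q) ρ} * maximalIdeal (Localization.AtPrime q) :=
    ⟨_, rfl⟩
  have hz₀m : algebraMap A (Localization.AtPrime q) z₀ ∈ maximalIdeal (Localization.AtPrime q) :=
    (IsLocalization.AtPrime.to_map_mem_maximal_iff _ q z₀).mpr hz₀q
  have hρspan : algebraMap A (Localization.AtPrime q) ρ ∈
      Ideal.span {algebraMap A (Localization.AtPrime q) ρ} := Ideal.mem_span_singleton_self _
  have hcJ : algebraMap A (Localization.AtPrime q) ρ * algebraMap A (Localization.AtPrime q) z₀ ∈ J := by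
    rw [hJ]
    exact Ideal.mul_mem_mul hρspan hz₀m
  have hc : algebraMap A (Localization.AtPrime q) ρ * algebraMap A (Localization.AtPrime q) z₀ ∈
      nonZeroDivisors (Localization.AtPrime q) :=
    mul_mem (map_mem_nonZeroDivisors q hρ) (map_mem_nonZeroDivisors q hz₀)
  obtain ⟨𝔠₀, h𝔠₀⟩ : ∃ 𝔠₀ : Ideal A, 𝔠₀ = J.comap (algebraMap A (Localization.AtPrime q)) :=
    ⟨_, rfl⟩
  obtain ⟨𝔠, h𝔠⟩ : ∃ 𝔠 : Ideal A, 𝔠 = 𝔠₀ * ∏ p ∈ P₂, p := ⟨_, rfl⟩
  have h𝔠₀q : 𝔠₀ ≤ q := by
    intro x hx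
    rw [h𝔠₀, Ideal.mem_comap, hJ] at hx
    have h2 : algebraMap A (Localization.AtPrime q) x ∈ maximalIdeal (Localization.AtPrime q) :=
      Ideal.mul_le_right hx
    exact (IsLocalization.AtPrime.to_map_mem_maximal_iff (Localization.AtPrime q) q x).mp h2
  -- a nonzerodivisor in `𝔠`
  have hI : ∃ z ∈ 𝔠, z ∈ nonZeroDivisors A := by
    obtain ⟨z₁, hz₁, hz₁nz⟩ := exists_nzd_mem_comap hA hg J hc hcJ
    have hex : ∀ p : Ideal A, ∃ z : A, p ∈ P₂ → (z ∈ p ∧ z ∈ nonZeroDivisors A) := by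
      intro p
      by_cases hp : p ∈ P₂
      · obtain ⟨z, hzp, hz⟩ := (hP₂ p hp).2.1.nzd
        exact ⟨z, fun _ => ⟨hzp, hz⟩⟩
      · exact ⟨0, fun h => absurd h hp⟩
    choose zf hzf using hex
    refine ⟨z₁ * ∏ p ∈ P₂, zf p, ?_, mul_mem hz₁nz (Submonoid.prod_mem _ (fun p hp => (hzf p hp).2))⟩
    rw [h𝔠]
    exact Ideal.mul_mem_mul (h𝔠₀ ▸ hz₁) (Ideal.prod_mem_prod (fun p hp => (hzf p hp).1))
  have hIP : ∀ p ∈ P₁, ¬ 𝔠 ≤ p := by
    intro p hp hle
    obtain ⟨hpp, hpg, hpq, hρp⟩ := hP₁ p hp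
    rw [h𝔠] at hle
    rcases (Ideal.IsPrime.mul_le hpp).mp hle with h | h
    · haveI := hpp
      rw [h𝔠₀] at h
      exact not_comap_le hA hg J hc hcJ hpg hpq h
    · obtain ⟨p', hp', hle'⟩ := (Ideal.IsPrime.prod_le hpp).mp h
      obtain ⟨hpp', hpg', -, hρp'⟩ := hP₂ p' hp'
      haveI := hpp
      haveI := hpp'
      have : p' = p := hpg'.eq_of_le hA hpg hle'
      exact hρp' (this ▸ hρp)
  obtain ⟨η₀, hη₀𝔠, hη₀, hη₀P⟩ := exists_nzd_mem_avoid 𝔠 hI P₁ (fun p hp => (hP₁ p hp).1) hIP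
  rw [h𝔠] at hη₀𝔠
  have hη₀𝔠₀ : η₀ ∈ 𝔠₀ := Ideal.mul_le_left hη₀𝔠
  have hη₀P₂ : ∀ p ∈ P₂, η₀ ∈ p := by
    intro p hp
    have h1 : η₀ ∈ ∏ p ∈ P₂, p := Ideal.mul_le_right hη₀𝔠
    exact (Ideal.prod_le_inf.trans (Finset.inf_le hp)) h1
  have hη₀m : η₀ ∈ maximalIdeal A :=
    IsLocalRing.le_maximalIdeal (Ideal.IsPrime.ne_top ‹q.IsPrime›) (h𝔠₀q hη₀𝔠₀)
  obtain ⟨i, hi1, hinz⟩ := exists_pow_add_mem_nonZeroDivisors (ρ := ρ) hη₀ hη₀m
  have hi0 : 0 < i := hi1
  refine ⟨η₀ ^ i, pow_mem hη₀ i, hinz, ?_, ?_, ?_⟩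
  · have hmem : η₀ ^ i ∈ 𝔠₀ := Ideal.pow_mem_of_mem _ hη₀𝔠₀ _ hi0
    rw [h𝔠₀, Ideal.mem_comap, hJ] at hmem
    obtain ⟨m', hm', hm'eq⟩ := Ideal.mem_span_singleton_mul.mp hmem
    obtain ⟨m, s, rfl⟩ := IsLocalization.exists_mk'_eq q.primeCompl m'
    have hmq : m ∈ q := (IsLocalization.AtPrime.mk'_mem_maximal_iff _ q m s).mp hm'
    have h1 : algebraMap A (Localization.AtPrime q) (η₀ ^ i * s) =
        algebraMap A (Localization.AtPrime q) (ρ * m) := by
      rw [map_mul, map_mul, ← hm'eq, mul_assoc, IsLocalization.mk'_spec]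
    obtain ⟨s', hs'⟩ := (IsLocalization.eq_iff_exists q.primeCompl _).mp h1
    refine ⟨s' * s, s' * m, q.primeCompl.mul_mem s'.2 s.2, Ideal.mul_mem_left _ _ hmq, ?_⟩
    linear_combination hs'
  · intro p hp hmem
    exact hη₀P p hp ((hP₁ p hp).1.mem_of_pow_mem _ hmem)
  · intro p hp
    exact Ideal.pow_mem_of_mem _ (hη₀P₂ p hp) _ hi0

end Approx2

end Part10

section Part11

open IsLocalRing CycAlg

section StepC1

variable {A : Type u} [CommRing A] [IsNoetherianRing A] [IsLocalRing A]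
variable (hA : ringKrullDim A = 2)

/-- non-maximal primes containing `z` -/
def I1 (z : A) : Set (Ideal A) := {p | p.IsPrime ∧ p ≠ maximalIdeal A ∧ z ∈ p}

include hA

theorem I1_finite {z : A} (hz : z ∈ nonZeroDivisors A) : (I1 z).Finite := by
  refine ((V1_finite hA hz).image PrimeSpectrum.asIdeal).subset ?_
  rintro p ⟨hp, hpm, hzp⟩
  haveI := hp
  exact ⟨⟨p, hp⟩, ⟨(IsGood.mk hpm ⟨z, hzp, hz⟩).height hA, hzp⟩, rfl⟩

omit hA in
theorem isGood_of_mem_I1 {z : A} (hz : z ∈ nonZeroDivisors A) {p : Ideal A} (hp : p ∈ I1 z) :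
    IsGood p := ⟨hp.2.1, z, hp.2.2, hz⟩

omit hA in
/-- (M4) -/
theorem coprime1_of_avoid {c b : A} (hb : b ∈ nonZeroDivisors A)
    (h : ∀ p ∈ I1 b, c ∉ p) : Coprime1 c b := by
  intro q hc hbq
  by_contra hne
  exact h q.asIdeal ⟨q.isPrime, hne, hbq⟩ hc

theorem Dsum_one_left {y : A} (hy : y ∈ nonZeroDivisors A) : Dsum 1 y = 0 := by
  have h := Dsum_mul_left hA (one_mem _) (one_mem _) hy
  rw [one_mul] at h
  omega

theorem Dsum_one_right {y : A} (hy : y ∈ nonZeroDivisors A) : Dsum y 1 = 0 := by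
  have h := Dsum_mul_right hA (one_mem _) (one_mem _) hy
  rw [one_mul] at h
  omega

/-- (M3) -/
theorem Dsum_pow_left {x y : A} (hx : x ∈ nonZeroDivisors A) (hy : y ∈ nonZeroDivisors A)
    (e : ℕ) : Dsum (x ^ e) y = e * Dsum x y := by
  induction e with
  | zero => simp [Dsum_one_left hA hy]
  | succ e ih =>
    rw [pow_succ, Dsum_mul_left hA (pow_mem hx e) hx hy, ih]
    push_cast
    ring

theorem Dsum_pow_right {x y : A} (hx : x ∈ nonZeroDivisors A) (hy : y ∈ nonZeroDivisors A)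
    (e : ℕ) : Dsum y (x ^ e) = e * Dsum y x := by
  induction e with
  | zero => simp [Dsum_one_right hA hy]
  | succ e ih =>
    rw [pow_succ, Dsum_mul_right hA (pow_mem hx e) hx hy, ih]
    push_cast
    ring

/-- (M5): Claim 3 -/
theorem Dsum_eq_zero_of_perturbation {q : Ideal A} [q.IsPrime] (hg : IsGood q) {ρ η : A}
    (hρ : ρ ∈ nonZeroDivisors A) (hη : η ∈ nonZeroDivisors A)
    (hσ : ρ + η ∈ nonZeroDivisors A) (hρq : ρ ∈ q)
    (hrel : ∃ s m : A, s ∉ q ∧ m ∈ q ∧ s * η = ρ * m)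
    (hav : ∀ p ∈ I1 ρ, p ≠ q → η ∉ p) : Dsum ρ (ρ + η) = 0 := by
  classical
  have hst := Dsum_steinberg hA hρ hσ (by rw [add_sub_cancel_left]; exact hη)
  rw [add_sub_cancel_left, Dsum_self hA hσ] at hst
  obtain ⟨s, m, hs, hm, hsm⟩ := hrel
  have hηq : η ∈ q := by
    have h1 : s * η ∈ q := hsm ▸ Ideal.mul_mem_left _ _ hm
    rcases Ideal.IsPrime.mem_or_mem ‹q.IsPrime› h1 with h | h
    · exact absurd h hs
    · exact h
  have hsmq : s + m ∉ q := fun h => hs (by
    have := Ideal.sub_mem _ h hm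
    rwa [add_sub_cancel_right] at this)
  obtain ⟨c₁, c₂, hc₁, hc₂, hcP, hceq⟩ := exists_mul_eq_mul (x := ρ + η) (y := ρ) hσ hρ
    (I1_finite hA hη).toFinset
    (fun p hp => ((I1_finite hA hη).mem_toFinset.mp hp).1)
    (by
      intro p hp
      have hp' := (I1_finite hA hη).mem_toFinset.mp hp
      by_cases hpq : p = q
      · subst hpq
        exact ⟨s, hs, s + m, by linear_combination hsm⟩
      · have hρp : ρ ∉ p := fun h => hav p ⟨hp'.1, hp'.2.1, h⟩ hpq hp'.2.2
        exact ⟨ρ, hρp, ρ + η, mul_comm _ _⟩)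
    (by
      intro p hp
      have hp' := (I1_finite hA hη).mem_toFinset.mp hp
      by_cases hpq : p = q
      · subst hpq
        exact ⟨s + m, hsmq, s, by linear_combination -hsm⟩
      · have hρp : ρ ∉ p := fun h => hav p ⟨hp'.1, hp'.2.1, h⟩ hpq hp'.2.2
        have hσp : ρ + η ∉ p := fun h => hρp (by
          have := Ideal.sub_mem _ h hp'.2.2
          rwa [add_sub_cancel_right] at this)
        exact ⟨ρ + η, hσp, ρ, mul_comm _ _⟩)
  have h1 : Dsum (c₂ * (ρ + η)) η = Dsum (c₁ * ρ) η := by rw [hceq]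
  rw [Dsum_mul_left hA hc₂ hσ hη, Dsum_mul_left hA hc₁ hρ hη,
    Dsum_eq_zero_of_coprime hA hc₂ hη (coprime1_of_avoid hη
      (fun p hp => (hcP p ((I1_finite hA hη).mem_toFinset.mpr hp)).2)),
    Dsum_eq_zero_of_coprime hA hc₁ hη (coprime1_of_avoid hη
      (fun p hp => (hcP p ((I1_finite hA hη).mem_toFinset.mpr hp)).1))] at h1
  omega

end StepC1

end Part11

section Part12

open IsLocalRing CycAlg

section StepC2

variable {A : Type u} [CommRing A] [IsNoetherianRing A] [IsLocalRing A]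

/-- local parameter condition at `q` -/
def LP (q : Ideal A) [q.IsPrime] (a b : A) : Prop :=
  ∃ π : Localization.AtPrime q, π ∈ nonZeroDivisors (Localization.AtPrime q) ∧
    (∃ (u : (Localization.AtPrime q)ˣ) (e : ℕ),
      algebraMap A (Localization.AtPrime q) a = u * π ^ e) ∧
    (∃ (v : (Localization.AtPrime q)ˣ) (f : ℕ),
      algebraMap A (Localization.AtPrime q) b = v * π ^ f)

omit [IsNoetherianRing A] [IsLocalRing A] in
/-- (M1) -/
theorem rel_of_local {q : Ideal A} [q.IsPrime] {a ρ : A} {π : Localization.AtPrime q}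
    {u w : (Localization.AtPrime q)ˣ} {e : ℕ}
    (hu : algebraMap A (Localization.AtPrime q) a = u * π ^ e)
    (hw : algebraMap A (Localization.AtPrime q) ρ = w * π) :
    ∃ s m : A, s ∉ q ∧ m ∉ q ∧ s * a = m * ρ ^ e := by
  set u' : (Localization.AtPrime q)ˣ := u * (w⁻¹) ^ e with hu'
  have h1 : algebraMap A (Localization.AtPrime q) a =
      (u' : Localization.AtPrime q) * algebraMap A (Localization.AtPrime q) ρ ^ e := by
    rw [hu, hw, hu', mul_pow, Units.val_mul, Units.val_pow_eq_pow_val]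
    have : ((w⁻¹ : (Localization.AtPrime q)ˣ) : Localization.AtPrime q) ^ e * (w : Localization.AtPrime q) ^ e = 1 := by
      rw [← mul_pow, Units.inv_mul, one_pow]
    calc (u : Localization.AtPrime q) * π ^ e = u * (1 * π ^ e) := by rw [one_mul]
      _ = u * ((((w⁻¹ : (Localization.AtPrime q)ˣ) : Localization.AtPrime q) ^ e * (w : Localization.AtPrime q) ^ e) * π ^ e) := by rw [this]
      _ = _ := by ring
  obtain ⟨m, s, hms⟩ := IsLocalization.exists_mk'_eq q.primeCompl (u' : Localization.AtPrime q)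
  have hm : m ∉ q := by
    have hunit : IsUnit (IsLocalization.mk' (Localization.AtPrime q) m s) := hms ▸ u'.isUnit
    have := (IsLocalization.AtPrime.isUnit_mk'_iff (Localization.AtPrime q) q m s).mp hunit
    exact this
  have h2 : algebraMap A (Localization.AtPrime q) (s * a) =
      algebraMap A (Localization.AtPrime q) (m * ρ ^ e) := by
    rw [map_mul, map_mul, map_pow, h1, ← hms, ← mul_assoc, mul_comm (algebraMap A _ (s : A)),
      IsLocalization.mk'_spec]
  obtain ⟨s', hs'⟩ := (IsLocalization.eq_iff_exists q.primeCompl _).mp h2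
  refine ⟨s' * s, s' * m, q.primeCompl.mul_mem s'.2 s.2, q.primeCompl.mul_mem s'.2 hm, ?_⟩
  linear_combination hs'

/-- (M2) -/
theorem exists_div {q : Ideal A} [q.IsPrime] {a ρ : A} (ha : a ∈ nonZeroDivisors A)
    (hρ : ρ ∈ nonZeroDivisors A) (e : ℕ)
    (hrel : ∃ s m : A, s ∉ q ∧ m ∉ q ∧ s * a = m * ρ ^ e)
    (P : Finset (Ideal A)) (hP : ∀ p ∈ P, p.IsPrime ∧ (p = q ∨ ρ ∉ p)) :
    ∃ c a₂ : A, c ∈ nonZeroDivisors A ∧ a₂ ∈ nonZeroDivisors A ∧ c * a = a₂ * ρ ^ e ∧
      (∀ p ∈ P, c ∉ p) ∧ (c ∉ q → a₂ ∉ q) := by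
  obtain ⟨s, m, hs, hm, hsm⟩ := hrel
  set 𝔞 : Ideal A := (Ideal.span {ρ ^ e} : Submodule A A).colon {a} with h𝔞
  have hmem : ∀ c : A, c ∈ 𝔞 ↔ ∃ a', c * a = a' * ρ ^ e := by
    intro c
    rw [h𝔞, Submodule.mem_colon_singleton, smul_eq_mul, Ideal.mem_span_singleton']
    constructor
    · rintro ⟨a', ha'⟩; exact ⟨a', ha'.symm⟩
    · rintro ⟨a', ha'⟩; exact ⟨a', ha'.symm⟩
  have hρe : ρ ^ e ∈ nonZeroDivisors A := pow_mem hρ e
  obtain ⟨c, hc𝔞, hc, hcP⟩ := exists_nzd_mem_avoid 𝔞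
    ⟨ρ ^ e, (hmem _).mpr ⟨a, mul_comm _ _⟩, hρe⟩ P (fun p hp => (hP p hp).1)
    (by
      intro p hp hle
      rcases (hP p hp).2 with h | h
      · subst h
        exact hs (hle ((hmem s).mpr ⟨m, hsm⟩))
      · exact h ((hP p hp).1.mem_of_pow_mem e (hle ((hmem _).mpr ⟨a, mul_comm _ _⟩))))
  obtain ⟨a₂, ha₂⟩ := (hmem c).mp hc𝔞
  have ha₂nz : a₂ ∈ nonZeroDivisors A := by
    have h1 : a₂ * ρ ^ e ∈ nonZeroDivisors A := ha₂ ▸ mul_mem hc ha
    rw [mem_nonZeroDivisors_iff_right] at h1 ⊢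
    intro z hz
    apply h1
    rw [← mul_assoc, hz, zero_mul]
  refine ⟨c, a₂, hc, ha₂nz, ha₂, hcP, ?_⟩
  intro hcq ha₂q
  have h2 : (s * a₂) * ρ ^ e = (c * m) * ρ ^ e := by
    calc (s * a₂) * ρ ^ e = s * (a₂ * ρ ^ e) := by ring
      _ = s * (c * a) := by rw [ha₂]
      _ = c * (s * a) := by ring
      _ = c * (m * ρ ^ e) := by rw [hsm]
      _ = (c * m) * ρ ^ e := by ring
  have h3 : s * a₂ = c * m := mul_cancel_right_mem_nonZeroDivisors hρe |>.mp h2
  have h4 : c * m ∈ q := h3 ▸ Ideal.mul_mem_left _ _ ha₂q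
  rcases Ideal.IsPrime.mem_or_mem ‹q.IsPrime› h4 with h | h
  · exact hcq h
  · exact hm h

/-- inheritance of the local parameter condition -/
theorem LP.of_mul_eq {q : Ideal A} [q.IsPrime] {a a₂ b c r : A} (h : LP q a b)
    (hc : c ∉ q) (hr : r ∉ q) (heq : c * a = a₂ * r) : LP q a₂ b := by
  obtain ⟨π, hπ, ⟨u, e, hu⟩, hb⟩ := h
  refine ⟨π, hπ, ?_, hb⟩
  have hcu := isUnit_map_of_notMem (q := q) hc
  have hru := isUnit_map_of_notMem (q := q) hr
  refine ⟨hcu.unit * hru.unit⁻¹ * u, e, ?_⟩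
  have h1 : algebraMap A (Localization.AtPrime q) a₂ * algebraMap A (Localization.AtPrime q) r =
      algebraMap A (Localization.AtPrime q) c * (u * π ^ e) := by
    rw [← map_mul, ← heq, map_mul, hu]
  rw [Units.val_mul, Units.val_mul, IsUnit.unit_spec]
  have h2 : algebraMap A (Localization.AtPrime q) a₂ =
      algebraMap A (Localization.AtPrime q) a₂ * algebraMap A (Localization.AtPrime q) r *
        ((hru.unit⁻¹ : (Localization.AtPrime q)ˣ) : Localization.AtPrime q) := by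
    rw [mul_assoc, IsUnit.mul_val_inv, mul_one]
  rw [h2, h1]
  ring

omit [IsNoetherianRing A] [IsLocalRing A] in
theorem LP.symm {q : Ideal A} [q.IsPrime] {a b : A} (h : LP q a b) : LP q b a := by
  obtain ⟨π, hπ, ha, hb⟩ := h
  exact ⟨π, hπ, hb, ha⟩

end StepC2

end Part12

section Part13

open IsLocalRing CycAlg

section StepC3

variable {A : Type u} [CommRing A] [IsNoetherianRing A] [IsLocalRing A]
variable (hA : ringKrullDim A = 2)

include hA

/-- second half of Step C: `Dsum ρ b = 0` when `ρ` is a local parameter at `p` avoiding the other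
primes of `b` and `b` is a unit times a power of the parameter at `p`. -/
theorem Dsum_param_eq_zero {p : Ideal A} [p.IsPrime] (hg : IsGood p)
    {π : Localization.AtPrime p}
    {ρ b : A} (hρ : ρ ∈ nonZeroDivisors A) (hb : b ∈ nonZeroDivisors A) (hρp : ρ ∈ p)
    {w v : (Localization.AtPrime p)ˣ} {f : ℕ}
    (hw : algebraMap A (Localization.AtPrime p) ρ = w * π)
    (hv : algebraMap A (Localization.AtPrime p) b = v * π ^ f)
    (hav : ∀ p' ∈ I1 b, p' ≠ p → ρ ∉ p') : Dsum ρ b = 0 := by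
  classical
  have hPρ := I1_finite hA hρ
  have hPb := I1_finite hA hb
  obtain ⟨η, hη, hσ, hrel, hη₁, hη₂⟩ := exists_perturbation hA hg hρ hρp
    (hPρ.toFinset.erase p) (hPb.toFinset.erase p)
    (by
      intro p' hp'
      obtain ⟨hne, hmem⟩ := Finset.mem_erase.mp hp'
      have h := hPρ.mem_toFinset.mp hmem
      exact ⟨h.1, isGood_of_mem_I1 hρ h, hne, h.2.2⟩)
    (by
      intro p' hp'
      obtain ⟨hne, hmem⟩ := Finset.mem_erase.mp hp'
      have h := hPb.mem_toFinset.mp hmem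
      exact ⟨h.1, isGood_of_mem_I1 hb h, hne, hav p' h hne⟩)
  have hD0 : Dsum ρ (ρ + η) = 0 :=
    Dsum_eq_zero_of_perturbation hA hg hρ hη hσ hρp hrel
      (fun p' hp' hne => hη₁ p' (Finset.mem_erase.mpr ⟨hne, hPρ.mem_toFinset.mpr hp'⟩))
  obtain ⟨s, m, hs, hm, hsm⟩ := hrel
  -- `σ = ρ + η` avoids the other primes
  have hσav : ∀ p' : Ideal A, (p' ∈ I1 ρ ∨ p' ∈ I1 b) → p' ≠ p → ρ + η ∉ p' := by
    intro p' hp' hne hσp'
    by_cases hρp' : ρ ∈ p'
    · have hp'ρ : p' ∈ I1 ρ := by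
        rcases hp' with h | h
        · exact h
        · exact ⟨h.1, h.2.1, hρp'⟩
      apply hη₁ p' (Finset.mem_erase.mpr ⟨hne, hPρ.mem_toFinset.mpr hp'ρ⟩)
      have := Ideal.sub_mem _ hσp' hρp'
      rwa [add_sub_cancel_left] at this
    · have hp'b : p' ∈ I1 b := by
        rcases hp' with h | h
        · exact absurd h.2.2 hρp'
        · exact h
      have h2 := hη₂ p' (Finset.mem_erase.mpr ⟨hne, hPb.mem_toFinset.mpr hp'b⟩)
      apply hρp'
      have := Ideal.sub_mem _ hσp' h2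
      rwa [add_sub_cancel_right] at this
  -- `σ` is a unit times `π` at `p`
  have hsmp : s + m ∉ p := fun h => hs (by
    have := Ideal.sub_mem _ h hm
    rwa [add_sub_cancel_right] at this)
  have hsu := isUnit_map_of_notMem (q := p) hs
  have hsmu := isUnit_map_of_notMem (q := p) hsmp
  have hσw : algebraMap A (Localization.AtPrime p) (ρ + η) =
      ((hsu.unit⁻¹ * w * hsmu.unit : (Localization.AtPrime p)ˣ) : Localization.AtPrime p) * π := by
    have h1 : algebraMap A (Localization.AtPrime p) s * algebraMap A (Localization.AtPrime p) (ρ + η) =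
        algebraMap A (Localization.AtPrime p) ρ * algebraMap A (Localization.AtPrime p) (s + m) := by
      rw [← map_mul, ← map_mul]
      congr 1
      linear_combination hsm
    have h2 : algebraMap A (Localization.AtPrime p) (ρ + η) =
        ((hsu.unit⁻¹ : (Localization.AtPrime p)ˣ) : Localization.AtPrime p) *
          (algebraMap A (Localization.AtPrime p) s * algebraMap A (Localization.AtPrime p) (ρ + η)) := by
      rw [← mul_assoc, IsUnit.val_inv_mul, one_mul]
    rw [h2, h1, hw, Units.val_mul, Units.val_mul, IsUnit.unit_spec]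
    ring
  have hrel' := rel_of_local hv hσw
  obtain ⟨c', b₂, hc', hb₂, heq, hc'P, hb₂p⟩ := exists_div hb hσ f hrel'
    (hPb.toFinset ∪ hPρ.toFinset) (by
      intro p' hp'
      have hp'' : p' ∈ I1 ρ ∨ p' ∈ I1 b := by
        rcases Finset.mem_union.mp hp' with h | h
        · exact Or.inr (hPb.mem_toFinset.mp h)
        · exact Or.inl (hPρ.mem_toFinset.mp h)
      have hp'prime : p'.IsPrime := by
        rcases hp'' with h | h
        · exact h.1
        · exact h.1
      refine ⟨hp'prime, ?_⟩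
      by_cases hpp : p' = p
      · exact Or.inl hpp
      · exact Or.inr (hσav p' hp'' hpp))
  have hpρ : p ∈ I1 ρ := ⟨‹p.IsPrime›, hg.ne, hρp⟩
  have hc'p : c' ∉ p := hc'P p (Finset.mem_union_right _ (hPρ.mem_toFinset.mpr hpρ))
  have hb₂p' : b₂ ∉ p := hb₂p hc'p
  have h1 : Dsum ρ c' = 0 :=
    Dsum_eq_zero_of_coprime hA hρ hc' (coprime1_of_avoid hρ
      (fun p' hp' => hc'P p' (Finset.mem_union_right _ (hPρ.mem_toFinset.mpr hp')))).symm
  have h2 : Dsum ρ b₂ = 0 := by
    apply Dsum_eq_zero_of_coprime hA hρ hb₂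
    intro q hρq hb₂q
    by_contra hne
    have hqρ : q.asIdeal ∈ I1 ρ := ⟨q.isPrime, hne, hρq⟩
    by_cases hqp : q.asIdeal = p
    · exact hb₂p' (hqp ▸ hb₂q)
    · have h3 : c' * b ∈ q.asIdeal := by rw [heq]; exact Ideal.mul_mem_right _ _ hb₂q
      rcases Ideal.IsPrime.mem_or_mem q.isPrime h3 with h | h
      · exact hc'P _ (Finset.mem_union_right _ (hPρ.mem_toFinset.mpr hqρ)) h
      · exact hav _ ⟨q.isPrime, hne, h⟩ hqp hρq
  have h4 : Dsum ρ (c' * b) = Dsum ρ (b₂ * (ρ + η) ^ f) := by rw [heq]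
  rw [Dsum_mul_right hA hc' hb hρ, Dsum_mul_right hA hb₂ (pow_mem hσ f) hρ,
    Dsum_pow_right hA hσ hρ f, h1, h2, hD0] at h4
  simpa using h4

/-- Step C, by strong induction on the number of common primes. -/
theorem stepC_aux (n : ℕ) : ∀ (a b : A), a ∈ nonZeroDivisors A → b ∈ nonZeroDivisors A →
    (∀ (q : Ideal A) [q.IsPrime], q ∈ I1 a → q ∈ I1 b → LP q a b) →
    (I1 a ∩ I1 b).ncard = n → Dsum a b = 0 := by
  classical
  induction n using Nat.strong_induction_on with
  | _ n ih =>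
    intro a b ha hb hLP hn
    have hPa := I1_finite hA ha
    have hPb := I1_finite hA hb
    have hfin : (I1 a ∩ I1 b).Finite := hPa.subset Set.inter_subset_left
    by_cases hemp : I1 a ∩ I1 b = ∅
    · apply Dsum_eq_zero_of_coprime hA ha hb
      intro q haq hbq
      by_contra hne
      have : q.asIdeal ∈ I1 a ∩ I1 b := ⟨⟨q.isPrime, hne, haq⟩, ⟨q.isPrime, hne, hbq⟩⟩
      rw [hemp] at this
      exact this
    · obtain ⟨p, hp⟩ := Set.nonempty_iff_ne_empty.mpr hemp
      haveI : p.IsPrime := hp.1.1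
      have hg : IsGood p := isGood_of_mem_I1 ha hp.1
      obtain ⟨π, hπ, ⟨u, e, hu⟩, ⟨v, f, hv⟩⟩ := hLP p hp.1 hp.2
      have hπm : π ∈ maximalIdeal (Localization.AtPrime p) := by
        by_contra hcon
        have hπu : IsUnit π := by
          by_contra h
          exact hcon ((IsLocalRing.mem_maximalIdeal _).mpr h)
        have h1 : IsUnit (algebraMap A (Localization.AtPrime p) a) := by
          rw [hu]; exact u.isUnit.mul (hπu.pow e)
        have h2 := (IsLocalization.AtPrime.isUnit_to_map_iff (Localization.AtPrime p) p a).mp h1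
        exact h2 hp.1.2.2
      obtain ⟨ρ, hρ, hρP, w, hw⟩ := exists_global_generator hA hg hπ
        ((hPa.toFinset ∪ hPb.toFinset).erase p) (by
          intro p' hp'
          obtain ⟨hne, hmem⟩ := Finset.mem_erase.mp hp'
          rcases Finset.mem_union.mp hmem with h | h
          · have h' := hPa.mem_toFinset.mp h
            exact ⟨h'.1, isGood_of_mem_I1 ha h', hne⟩
          · have h' := hPb.mem_toFinset.mp h
            exact ⟨h'.1, isGood_of_mem_I1 hb h', hne⟩)
      have hρp : ρ ∈ p := by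
        have h1 : algebraMap A (Localization.AtPrime p) ρ ∈ maximalIdeal (Localization.AtPrime p) := by
          rw [hw]; exact Ideal.mul_mem_left _ _ hπm
        exact (IsLocalization.AtPrime.to_map_mem_maximal_iff (Localization.AtPrime p) p ρ).mp h1
      have hrel := rel_of_local hu hw
      obtain ⟨c, a₂, hc, ha₂, heq, hcP, ha₂p⟩ := exists_div ha hρ e hrel
        (hPa.toFinset ∪ hPb.toFinset) (by
          intro p' hp'
          have hp'prime : p'.IsPrime := by
            rcases Finset.mem_union.mp hp' with h | h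
            · exact (hPa.mem_toFinset.mp h).1
            · exact (hPb.mem_toFinset.mp h).1
          refine ⟨hp'prime, ?_⟩
          by_cases hpp : p' = p
          · exact Or.inl hpp
          · exact Or.inr (hρP p' (Finset.mem_erase.mpr ⟨hpp, hp'⟩)))
      have hcp : c ∉ p := hcP p (Finset.mem_union_left _ (hPa.mem_toFinset.mpr hp.1))
      have ha₂p' : a₂ ∉ p := ha₂p hcp
      have h1 : Dsum c b = 0 := Dsum_eq_zero_of_coprime hA hc hb (coprime1_of_avoid hb
        (fun p' hp' => hcP p' (Finset.mem_union_right _ (hPb.mem_toFinset.mpr hp'))))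
      have hsub : I1 a₂ ∩ I1 b ⊆ I1 a ∩ I1 b := by
        rintro p' ⟨h1', h2'⟩
        refine ⟨⟨h1'.1, h1'.2.1, ?_⟩, h2'⟩
        have h3 : c * a ∈ p' := by rw [heq]; exact Ideal.mul_mem_right _ _ h1'.2.2
        rcases Ideal.IsPrime.mem_or_mem h1'.1 h3 with h | h
        · exact absurd h (hcP p' (Finset.mem_union_right _ (hPb.mem_toFinset.mpr h2')))
        · exact h
      have hss : I1 a₂ ∩ I1 b ⊂ I1 a ∩ I1 b := by
        refine ⟨hsub, ?_⟩
        intro hcon
        exact ha₂p' (hcon hp).1.2.2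
      have h2 : Dsum a₂ b = 0 := by
        refine ih _ (hn ▸ Set.ncard_lt_ncard hss hfin) a₂ b ha₂ hb ?_ rfl
        intro p' _ hp'a₂ hp'b
        have hp'ab := hsub ⟨hp'a₂, hp'b⟩
        have hne : p' ≠ p := by
          intro h
          exact ha₂p' (h ▸ hp'a₂.2.2)
        have hcp' : c ∉ p' := hcP p' (Finset.mem_union_right _ (hPb.mem_toFinset.mpr hp'b))
        have hρp' : ρ ∉ p' := hρP p' (Finset.mem_erase.mpr
          ⟨hne, Finset.mem_union_right _ (hPb.mem_toFinset.mpr hp'b)⟩)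
        have hρe : ρ ^ e ∉ p' := fun h => hρp' (Ideal.IsPrime.mem_of_pow_mem ‹_› e h)
        exact (hLP p' hp'ab.1 hp'ab.2).of_mul_eq hcp' hρe heq
      have h3 : Dsum ρ b = 0 := Dsum_param_eq_zero hA hg hρ hb hρp hw hv (by
        intro p' hp' hne
        exact hρP p' (Finset.mem_erase.mpr
          ⟨hne, Finset.mem_union_right _ (hPb.mem_toFinset.mpr hp')⟩))
      have h4 : Dsum (c * a) b = Dsum (a₂ * ρ ^ e) b := by rw [heq]
      rw [Dsum_mul_left hA hc ha hb, Dsum_mul_left hA ha₂ (pow_mem hρ e) hb,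
        Dsum_pow_left hA hρ hb e, h1, h2, h3] at h4
      simpa using h4

/-- **Step C**: the sum vanishes when at every common non-maximal prime both elements are
units times powers of one local parameter. -/
theorem stepC {a b : A} (ha : a ∈ nonZeroDivisors A) (hb : b ∈ nonZeroDivisors A)
    (hLP : ∀ (q : Ideal A) [q.IsPrime], q ∈ I1 a → q ∈ I1 b → LP q a b) : Dsum a b = 0 :=
  stepC_aux hA _ a b ha hb hLP rfl

end StepC3

end Part13

end Groth.Agent.Lib.R2H1.KeyLemma
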