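import Mathlib

/-!
# Order of vanishing and restriction to open subschemes (helper8)

* `ordFrac_eq_of_ringEquiv`: `Ring.ordFrac` is invariant under compatible isomorphisms.
* `ffIso U : K(U) ≅ K(X)` for a nonempty open `U` of an integral scheme `X`.
* `ord_restrict`: `ord_U g u = ord_X (ffIso g) (U.ι u)`.
-/

set_option autoImplicit false
open CategoryTheory AlgebraicGeometry TopologicalSpace Order

universe u

namespace Groth.Agent.Lib.Helper8.OrdRestrict

section RingTheory

lemma ringOrd_eq_of_ringEquiv {R R' : Type*} [CommRing R] [CommRing R'] (e : R ≃+* R') (a : R) :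
    Ring.ord R a = Ring.ord R' (e a) := by
  unfold Ring.ord
  letI : Algebra R R' := e.toRingHom.toAlgebra
  let f : R ≃ₐ[R] R' := AlgEquiv.ofRingEquiv (f := e) (fun r => rfl)
  have hIJ : Ideal.span {e a} = (Ideal.span {a}).map (f : R →+* R') := by
    rw [Ideal.map_span, Set.image_singleton]
    rfl
  have h1 := (Ideal.quotientEquivAlg (Ideal.span {a}) (Ideal.span {e a}) f
    hIJ).toLinearEquiv.length_eq
  have h2 : Module.length R (R' ⧸ Ideal.span {e a}) = Module.length R' (R' ⧸ Ideal.span {e a}) :=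
    Module.length_eq_of_surjective (S := R) (R := R') (M := R' ⧸ Ideal.span {e a}) e.surjective
  exact h1.trans h2

lemma ordMonoidWithZeroHom_eq_of_ringEquiv {R R' : Type*} [CommRing R] [CommRing R'] [IsDomain R]
    [IsDomain R'] (e : R ≃+* R') (a : R) :
    Ring.ordMonoidWithZeroHom R a = Ring.ordMonoidWithZeroHom R' (e a) := by
  by_cases ha : a = 0
  · subst ha
    simp
  · have ha' : e a ≠ 0 := fun h => ha ((map_eq_zero_iff e e.injective).mp h)
    rw [Ring.ordMonoidWithZeroHom_eq_ord (mem_nonZeroDivisors_iff_ne_zero.mpr ha),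
      Ring.ordMonoidWithZeroHom_eq_ord (mem_nonZeroDivisors_iff_ne_zero.mpr ha'),
      ringOrd_eq_of_ringEquiv e a]

lemma ordFrac_eq_of_ringEquiv {R R' K K' : Type*} [CommRing R] [CommRing R'] [IsDomain R]
    [IsDomain R'] [IsNoetherianRing R] [IsNoetherianRing R'] [Ring.KrullDimLE 1 R]
    [Ring.KrullDimLE 1 R'] [Field K] [Field K'] [Algebra R K] [Algebra R' K']
    [IsFractionRing R K] [IsFractionRing R' K'] (e : R ≃+* R') (eK : K →+* K')
    (hcomm : ∀ r, eK (algebraMap R K r) = algebraMap R' K' (e r)) (x : K) :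
    Ring.ordFrac R x = Ring.ordFrac R' (eK x) := by
  have key : ∀ c : R,
      Ring.ordFrac R (algebraMap R K c) = Ring.ordFrac R' (algebraMap R' K' (e c)) := by
    intro c
    by_cases hc : c = 0
    · subst hc
      simp
    · have hc' : e c ≠ 0 := fun h => hc ((map_eq_zero_iff e e.injective).mp h)
      rw [Ring.ordFrac_eq_ord R hc, Ring.ordFrac_eq_ord R' hc']
      exact ordMonoidWithZeroHom_eq_of_ringEquiv e c
  obtain ⟨a, b, hb, rfl⟩ := IsFractionRing.div_surjective (A := R) x
  simp only [map_div₀, hcomm, key]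

end RingTheory

section Sch

variable {X : Scheme.{u}} [IsIntegral X] [IsLocallyNoetherian X] (U : X.Opens) [Nonempty U]

/-- The canonical isomorphism `K(U) ≅ K(X)` for a nonempty open `U` of an integral scheme. -/
noncomputable def ffIso : (U : Scheme.{u}).functionField ≅ X.functionField :=
  (asIso (U.ι.stalkMap (genericPoint ↥(U : Scheme.{u})))).symm ≪≫
    X.presheaf.stalkCongr (Inseparable.of_eq (genericPoint_eq_of_isOpenImmersion U.ι))

lemma ffIso_comm (u : ↥(U : Scheme.{u})) :
    (U : Scheme.{u}).presheaf.stalkSpecializes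
        ((genericPoint_spec ↥(U : Scheme.{u})).specializes trivial) ≫ (ffIso U).hom =
      inv (U.ι.stalkMap u) ≫
        X.presheaf.stalkSpecializes ((genericPoint_spec ↥X).specializes trivial) := by
  rw [← cancel_epi (U.ι.stalkMap u), IsIso.hom_inv_id_assoc, ← Category.assoc,
    ← Scheme.Hom.stalkSpecializes_stalkMap]
  simp only [ffIso, Iso.trans_hom, Iso.symm_hom, asIso_inv, TopCat.Presheaf.stalkCongr_hom,
    Category.assoc, IsIso.hom_inv_id_assoc]
  exact TopCat.Presheaf.stalkSpecializes_comp _ _ _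

lemma ffIso_algebraMap (u : ↥(U : Scheme.{u})) (r : (U : Scheme.{u}).presheaf.stalk u) :
    (ffIso U).hom.hom
        (algebraMap ((U : Scheme.{u}).presheaf.stalk u) (U : Scheme.{u}).functionField r) =
      algebraMap (X.presheaf.stalk (U.ι u)) X.functionField ((inv (U.ι.stalkMap u)).hom r) :=
  congrArg (fun f : (U : Scheme.{u}).presheaf.stalk u ⟶ X.functionField => f.hom r)
    (ffIso_comm U u)

theorem ordHom_restrict (u : ↥(U : Scheme.{u})) (hu : coheight u = 1)
    (hu' : coheight (U.ι u) = 1) (g : (U : Scheme.{u}).functionField) :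
    Scheme.ordHom u hu g = Scheme.ordHom (U.ι u) hu' ((ffIso U).hom.hom g) := by
  haveI : Ring.KrullDimLE 1 ((U : Scheme.{u}).presheaf.stalk u) :=
    krullDimLE_of_coheight_le hu.le
  haveI : Ring.KrullDimLE 1 (X.presheaf.stalk (U.ι u)) := krullDimLE_of_coheight_le hu'.le
  let e : (U : Scheme.{u}).presheaf.stalk u ≃+* X.presheaf.stalk (U.ι u) :=
    (asIso (U.ι.stalkMap u)).symm.commRingCatIsoToRingEquiv
  exact ordFrac_eq_of_ringEquiv e (ffIso U).hom.hom (fun r => ffIso_algebraMap U u r) g

omit [IsIntegral X] [IsLocallyNoetherian X] [Nonempty U] in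
theorem coheight_ι (u : ↥(U : Scheme.{u})) : coheight (U.ι u) = coheight u :=
  coheight_eq_of_isOpenImmersion U.ι

theorem ord_restrict (u : ↥(U : Scheme.{u})) (g : (U : Scheme.{u}).functionField) :
    Scheme.ord g u = Scheme.ord ((ffIso U).hom.hom g) (U.ι u) := by
  have hc : coheight (U.ι u) = coheight u := coheight_ι U u
  by_cases hu : coheight u = 1
  · have hu' : coheight (U.ι u) = 1 := hc.trans hu
    rw [Scheme.ord_eq_ordHom_of_coheight_eq_one hu, Scheme.ord_eq_ordHom_of_coheight_eq_one hu',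
      ordHom_restrict U u hu hu' g]
  · have hu' : coheight (U.ι u) ≠ 1 := fun h => hu (hc.symm.trans h)
    rw [Scheme.ord_eq_zero_of_coheight_neq_one hu, Scheme.ord_eq_zero_of_coheight_neq_one hu']

omit [IsLocallyNoetherian X] in
theorem ffIso_hom_inv (f : X.functionField) :
    (ffIso U).hom.hom ((ffIso U).inv.hom f) = f :=
  congrArg (fun φ : X.functionField ⟶ X.functionField => φ.hom f) (ffIso U).inv_hom_id

omit [IsLocallyNoetherian X] in
theorem ffIso_hom_ne_zero {g : (U : Scheme.{u}).functionField} (hg : g ≠ 0) :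
    (ffIso U).hom.hom g ≠ 0 := (map_ne_zero _).mpr hg

omit [IsLocallyNoetherian X] in
theorem ffIso_inv_ne_zero {f : X.functionField} (hf : f ≠ 0) :
    (ffIso U).inv.hom f ≠ 0 := (map_ne_zero _).mpr hf

end Sch

end Groth.Agent.Lib.Helper8.OrdRestrict
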