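/-
Rational equivalence and open subschemes (S1863, Stacks 42.19-type localization lemma).
Reusable: `ordFrac_congr` (CycAlg.ordFrac is invariant under compatible ring isomorphisms, no hypotheses),
`cond_transfer`, `specMap_comp_stalkMap`, `ordAt_openImmersion` (Cyc.ordAt is compatible with open immersions),
`ordAt_unit`, `exists_evaluation_eq` (elements of the residue field at a point of an affine open are quotients of
values of sections), `ordAt_eq_zero_of_mem_basicOpen`, `eq_of_between`, `divFun_locallyFinite` (the divisor of a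
rational function on a locally Noetherian scheme has locally finite support), `locallyFinite_closure_of_open`
(families locally finite in an open are locally finite in X), `divFun_ι`, `main` (S1863).
-/
import Mathlib
import Groth.Prelude.Def_Cyc
import Groth.Agent.Lib.Helper8OrdRestrict

set_option autoImplicit false
set_option linter.style.haveILetI false
set_option linter.unusedSectionVars false
universe u v

namespace Groth.Agent.Lib.R2H1.RatEquivOpen

section Part1

open Groth.Agent.Lib.Helper8.OrdRestrict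

section Alg

variable {R R' : Type u} {K K' : Type v} [CommRing R] [CommRing R'] [Field K] [Field K']
  [Algebra R K] [Algebra R' K']

/-- the condition appearing in `CycAlg.ordFrac` transfers along compatible isomorphisms. -/
theorem cond_transfer (e : R ≃+* R') (eK : K ≃+* K')
    (hcomm : ∀ r, eK (algebraMap R K r) = algebraMap R' K' (e r))
    (h : IsNoetherianRing R ∧ Ring.KrullDimLE 1 R ∧ Nontrivial R ∧ IsFractionRing R K) :
    IsNoetherianRing R' ∧ Ring.KrullDimLE 1 R' ∧ Nontrivial R' ∧ IsFractionRing R' K' := by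
  obtain ⟨h1, h2, h3, h4⟩ := h
  refine ⟨isNoetherianRing_of_ringEquiv R e, ?_, e.injective.nontrivial, ?_⟩
  · rw [Ring.krullDimLE_iff, ← ringKrullDim_eq_of_ringEquiv e, ← Ring.krullDimLE_iff]
    exact h2
  · letI : Algebra R K' := ((algebraMap R' K').comp e.toRingHom).toAlgebra
    let eA : K ≃ₐ[R] K' := { eK with commutes' := fun r => hcomm r }
    haveI : IsLocalization (nonZeroDivisors R) K' :=
      IsLocalization.isLocalization_of_algEquiv (nonZeroDivisors R) eA
    refine IsLocalization.of_ringEquiv_left (K := K') (M₁ := nonZeroDivisors R) e.symm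
      (MulEquivClass.map_nonZeroDivisors e.symm) ?_
    intro x
    change algebraMap R' K' x = algebraMap R' K' (e (e.symm x))
    rw [e.apply_symm_apply]

theorem ordFrac_congr (e : R ≃+* R') (eK : K ≃+* K')
    (hcomm : ∀ r, eK (algebraMap R K r) = algebraMap R' K' (e r)) (x : K) :
    CycAlg.ordFrac R K x = CycAlg.ordFrac R' K' (eK x) := by
  have hcomm' : ∀ r', eK.symm (algebraMap R' K' r') = algebraMap R K (e.symm r') := by
    intro r'
    rw [RingEquiv.symm_apply_eq, hcomm, e.apply_symm_apply]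
  unfold CycAlg.ordFrac
  by_cases h : IsNoetherianRing R ∧ Ring.KrullDimLE 1 R ∧ Nontrivial R ∧ IsFractionRing R K
  · have h' := cond_transfer e eK hcomm h
    rw [dif_pos h, dif_pos h']
    haveI := h.1; haveI := h.2.1; haveI := h.2.2.1; haveI := h.2.2.2
    haveI := h'.1; haveI := h'.2.1; haveI := h'.2.2.1; haveI := h'.2.2.2
    haveI : IsDomain R := (IsFractionRing.injective R K).isDomain
    haveI : IsDomain R' := (IsFractionRing.injective R' K').isDomain
    rw [ordFrac_eq_of_ringEquiv e eK.toRingHom hcomm x]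
    rfl
  · have h' : ¬ (IsNoetherianRing R' ∧ Ring.KrullDimLE 1 R' ∧ Nontrivial R' ∧ IsFractionRing R' K') :=
      fun h' => h (cond_transfer e.symm eK.symm hcomm' h')
    rw [dif_neg h, dif_neg h']

end Alg

end Part1

section Part2

open AlgebraicGeometry CategoryTheory

variable {X Y : Scheme.{u}}

theorem specMap_comp_stalkMap (j : Y ⟶ X) (y η : Y) (h : η ⤳ y)
    (a : X.presheaf.stalk (j y)) :
    Cyc.specMap y η h ((j.stalkMap y).hom a) =
      (j.residueFieldMap η).hom (Cyc.specMap (j y) (j η) (j.base.hom.map_specializes h) a) := by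
  unfold Cyc.specMap
  change Y.residue η (Y.presheaf.stalkSpecializes h (j.stalkMap y a)) =
    j.residueFieldMap η (X.residue (j η) (X.presheaf.stalkSpecializes _ a))
  rw [← Scheme.Hom.stalkSpecializes_stalkMap_apply]
  exact (ConcreteCategory.congr_hom (Scheme.residue_residueFieldMap j η) _).symm

theorem ordAt_openImmersion (j : Y ⟶ X) [IsOpenImmersion j] (y η : Y) (h : η ⤳ y)
    (g : X.residueField (j η)) :
    Cyc.ordAt y η h ((j.residueFieldMap η).hom g) =
      Cyc.ordAt (j y) (j η) (j.base.hom.map_specializes h) g := by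
  set h' := j.base.hom.map_specializes h
  let φ : X.presheaf.stalk (j y) ≃+* Y.presheaf.stalk y :=
    (asIso (j.stalkMap y)).commRingCatIsoToRingEquiv
  have hφ : ∀ a, φ a = (j.stalkMap y).hom a := fun a => rfl
  let eK : X.residueField (j η) ≃+* Y.residueField η :=
    (asIso (j.residueFieldMap η)).commRingCatIsoToRingEquiv
  have heK : ∀ a, eK a = (j.residueFieldMap η).hom a := fun a => rfl
  have hker : RingHom.ker (Cyc.specMap y η h) =
      Ideal.map (φ : X.presheaf.stalk (j y) →+* Y.presheaf.stalk y)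
        (RingHom.ker (Cyc.specMap (j y) (j η) h')) := by
    ext b
    obtain ⟨a, rfl⟩ := φ.surjective b
    rw [Ideal.mem_map_iff_of_surjective (φ : X.presheaf.stalk (j y) →+* Y.presheaf.stalk y) φ.surjective]
    constructor
    · intro hb
      refine ⟨a, ?_, rfl⟩
      rw [RingHom.mem_ker] at hb ⊢
      rw [hφ, specMap_comp_stalkMap] at hb
      exact (map_eq_zero_iff _ eK.injective).mp hb
    · rintro ⟨a', ha', haa'⟩
      have : a' = a := φ.injective haa'
      subst this
      rw [RingHom.mem_ker] at ha' ⊢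
      rw [hφ, specMap_comp_stalkMap, ha', map_zero]
  let e : Cyc.LocQuot (j y) (j η) h' ≃+* Cyc.LocQuot y η h :=
    Ideal.quotientEquiv _ _ φ hker
  have hcomm : ∀ r, eK (algebraMap (Cyc.LocQuot (j y) (j η) h') (X.residueField (j η)) r) =
      algebraMap (Cyc.LocQuot y η h) (Y.residueField η) (e r) := by
    intro r
    obtain ⟨a, rfl⟩ := Ideal.Quotient.mk_surjective r
    rw [RingHom.algebraMap_toAlgebra, RingHom.algebraMap_toAlgebra, Ideal.Quotient.lift_mk]
    change _ = (Ideal.Quotient.lift _ _ _) (Ideal.Quotient.mk _ (φ a))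
    rw [Ideal.Quotient.lift_mk, hφ, specMap_comp_stalkMap]
    rfl
  unfold Cyc.ordAt
  rw [ordFrac_congr e eK hcomm g]
  rfl

end Part2

section Part3

open AlgebraicGeometry CategoryTheory TopologicalSpace

variable {X : Scheme.{u}}

/-- the order of (the image of) a unit of the local ring vanishes. -/
theorem ordAt_unit (x ξ : X) (h : ξ ⤳ x) (c : X.presheaf.stalk x) (hc : IsUnit c) :
    Cyc.ordAt x ξ h (X.residue ξ (X.presheaf.stalkSpecializes h c)) = 0 := by
  have hres : X.residue ξ (X.presheaf.stalkSpecializes h c) =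
      algebraMap (Cyc.LocQuot x ξ h) (X.residueField ξ)
        (Ideal.Quotient.mk (RingHom.ker (Cyc.specMap x ξ h)) c) := by
    rw [RingHom.algebraMap_toAlgebra, Ideal.Quotient.lift_mk]
    rfl
  rw [hres]
  unfold Cyc.ordAt CycAlg.ordFrac
  split_ifs with hcond
  · haveI := hcond.1
    haveI := hcond.2.1
    haveI := hcond.2.2.1
    haveI := hcond.2.2.2
    haveI : IsDomain (Cyc.LocQuot x ξ h) :=
      (FaithfulSMul.algebraMap_injective (Cyc.LocQuot x ξ h) (X.residueField ξ)).isDomain
    have hu : IsUnit (Ideal.Quotient.mk (RingHom.ker (Cyc.specMap x ξ h)) c) := hc.map _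
    rw [Ring.ordFrac_of_isUnit hu]
    rfl
  · rfl

/-- an element of the residue field at a point of an affine open is a quotient of values of
sections. -/
theorem exists_evaluation_eq (V : X.Opens) (hV : IsAffineOpen V) (ξ : X) (hξ : ξ ∈ V)
    (f : X.residueField ξ) :
    ∃ a b : Γ(X, V), X.evaluation V ξ hξ b ≠ 0 ∧
      f * X.evaluation V ξ hξ b = X.evaluation V ξ hξ a := by
  obtain ⟨s, rfl⟩ := X.residue_surjective ξ f
  letI := (X.presheaf.germ V ξ hξ).hom.toAlgebra
  haveI := hV.isLocalization_stalk ⟨ξ, hξ⟩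
  obtain ⟨⟨a, b⟩, hab⟩ := IsLocalization.surj (hV.primeIdealOf ⟨ξ, hξ⟩).asIdeal.primeCompl s
  refine ⟨a, b.1, ?_, ?_⟩
  · have hu : IsUnit (algebraMap Γ(X, V) (X.presheaf.stalk ξ) b.1) :=
      IsLocalization.map_units (X.presheaf.stalk ξ) b
    have : IsUnit (X.residue ξ (algebraMap Γ(X, V) (X.presheaf.stalk ξ) b.1)) := hu.map _
    exact this.ne_zero
  · change X.residue ξ s * X.residue ξ (algebraMap Γ(X, V) (X.presheaf.stalk ξ) b.1) =
      X.residue ξ (algebraMap Γ(X, V) (X.presheaf.stalk ξ) a)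
    rw [← map_mul, hab]

/-- if `f = a(ξ)/b(ξ)` and `a`, `b` are invertible at a specialization `x` of `ξ`, the order of `f`
along `ξ ⤳ x` vanishes. -/
theorem ordAt_eq_zero_of_mem_basicOpen (V : X.Opens) (ξ x : X) (h : ξ ⤳ x) (hx : x ∈ V)
    (f : X.residueField ξ) (a b : Γ(X, V))
    (hb : X.evaluation V ξ (h.mem_open V.isOpen hx) b ≠ 0)
    (hab : f * X.evaluation V ξ (h.mem_open V.isOpen hx) b =
      X.evaluation V ξ (h.mem_open V.isOpen hx) a)
    (hxa : x ∈ X.basicOpen a) (hxb : x ∈ X.basicOpen b) :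
    Cyc.ordAt x ξ h f = 0 := by
  have hξ := h.mem_open V.isOpen hx
  have hua : IsUnit (X.presheaf.germ V x hx a) := (X.mem_basicOpen a x hx).mp hxa
  have hub : IsUnit (X.presheaf.germ V x hx b) := (X.mem_basicOpen b x hx).mp hxb
  obtain ⟨w, hw⟩ := hub.exists_right_inv
  have huw : IsUnit w := IsUnit.of_mul_eq_one_right _ hw
  have e1 : ∀ z : Γ(X, V), X.residue ξ (X.presheaf.stalkSpecializes h (X.presheaf.germ V x hx z)) =
      X.evaluation V ξ hξ z := fun z => by
    have := ConcreteCategory.congr_hom (TopCat.Presheaf.germ_stalkSpecializes X.presheaf hx h) z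
    change X.residue ξ (X.presheaf.stalkSpecializes h (X.presheaf.germ V x hx z)) = _
    rw [show X.presheaf.stalkSpecializes h (X.presheaf.germ V x hx z) =
      X.presheaf.germ V ξ hξ z from this]
    rfl
  have hf : f = X.residue ξ (X.presheaf.stalkSpecializes h (X.presheaf.germ V x hx a * w)) := by
    rw [map_mul, map_mul, e1]
    have h1 : X.evaluation V ξ hξ b *
        X.residue ξ (X.presheaf.stalkSpecializes h w) = 1 := by
      rw [← e1, ← map_mul, ← map_mul, hw, map_one, map_one]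
    rw [← hab, mul_assoc, h1, mul_one]
  rw [hf]
  exact ordAt_unit x ξ h _ (hua.mul huw)

end Part3

section Part4

open AlgebraicGeometry CategoryTheory TopologicalSpace

variable {X : Scheme.{u}}

/-- in a dimension function, `δ x + 1 = δ ξ` forces `ξ ⤳ x` to be immediate. -/
theorem eq_of_between {δ : X → ℤ} (hδ : Cyc.IsDimFun X δ) {ξ z x : X} (h1 : ξ ⤳ z) (h2 : z ⤳ x)
    (hne : z ≠ ξ) (hd : δ x + 1 = δ ξ) : z = x := by
  by_contra hzx
  have a1 := (hδ ξ z h1 (Ne.symm hne)).1
  have a2 := (hδ z x h2 hzx).1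
  omega

/-- the support of the divisor of a rational function is locally finite. -/
theorem divFun_locallyFinite [IsLocallyNoetherian X] {δ : X → ℤ} (hδ : Cyc.IsDimFun X δ) (ξ : X)
    (f : X.residueField ξ) (x₀ : X) :
    ∃ V : Set X, IsOpen V ∧ x₀ ∈ V ∧ (V ∩ Function.support (Cyc.divFun δ ξ f)).Finite := by
  classical
  obtain ⟨_, ⟨V, hV, rfl⟩, hxV, -⟩ :=
    X.isBasis_affineOpens.exists_subset_of_mem_open (Set.mem_univ x₀) isOpen_univ
  refine ⟨V, V.isOpen, hxV, ?_⟩
  by_cases hξ : ξ ∈ V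
  swap
  · convert Set.finite_empty
    ext x
    simp only [Set.mem_inter_iff, Function.mem_support, Set.mem_empty_iff_false, iff_false,
      not_and, not_not]
    intro hx
    unfold Cyc.divFun
    rw [dif_neg]
    rintro ⟨h, -⟩
    exact hξ (h.mem_open V.isOpen hx)
  haveI : IsNoetherianRing Γ(X, V) := IsLocallyNoetherian.component_noetherian ⟨V, hV⟩
  haveI : NoetherianSpace V := noetherianSpace_of_isAffineOpen V hV
  haveI : QuasiSober V := V.isOpen.isOpenEmbedding_subtypeVal.quasiSober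
  obtain ⟨a, b, hb, hab⟩ := exists_evaluation_eq V hV ξ hξ f
  by_cases hf : f = 0
  · subst hf
    convert Set.finite_empty
    ext x
    simp only [Set.mem_inter_iff, Function.mem_support, Set.mem_empty_iff_false, iff_false,
      not_and, not_not]
    intro hx
    unfold Cyc.divFun
    split_ifs with h
    · unfold Cyc.ordAt CycAlg.ordFrac
      split_ifs with hc
      · haveI := hc.1; haveI := hc.2.1; haveI := hc.2.2.1; haveI := hc.2.2.2
        rw [map_zero]
        rfl
      · rfl
    · rfl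
  have ha : X.evaluation V ξ hξ a ≠ 0 := by
    rw [← hab]
    exact mul_ne_zero hf hb
  -- the closed set of bad points of `V`
  let T : Set V := {v | ξ ⤳ v.1 ∧ (v.1 ∉ X.basicOpen a ∨ v.1 ∉ X.basicOpen b)}
  have hT : IsClosed T := by
    have h1 : IsClosed {v : V | ξ ⤳ v.1} := by
      have : {v : V | ξ ⤳ v.1} = Subtype.val ⁻¹' (closure {ξ}) := by
        ext v
        simp [specializes_iff_mem_closure]
      rw [this]
      exact isClosed_closure.preimage continuous_subtype_val
    have h2 : IsClosed {v : V | v.1 ∉ X.basicOpen a ∨ v.1 ∉ X.basicOpen b} := by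
      have : {v : V | v.1 ∉ X.basicOpen a ∨ v.1 ∉ X.basicOpen b} =
          (Subtype.val ⁻¹' ((X.basicOpen a : Set X) ∩ (X.basicOpen b : Set X)))ᶜ := by
        ext v
        simp only [Set.mem_setOf_eq, Set.mem_compl_iff, Set.mem_preimage, Set.mem_inter_iff,
          SetLike.mem_coe]
        tauto
      rw [this]
      exact ((((X.basicOpen a).isOpen.inter (X.basicOpen b).isOpen)).preimage
        continuous_subtype_val).isClosed_compl
    exact h1.inter h2
  obtain ⟨S, hSf, hSc, hSi, hSU⟩ := NoetherianSpace.exists_finite_set_isClosed_irreducible hT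
  let gp : Set V → X := fun C => if h : IsIrreducible C then (h.genericPoint).1 else x₀
  refine (hSf.image gp).subset ?_
  rintro x ⟨hxV, hx⟩
  rw [Function.mem_support] at hx
  unfold Cyc.divFun at hx
  split_ifs at hx with h
  swap
  · exact absurd rfl hx
  have hxT : (⟨x, hxV⟩ : V) ∈ T := by
    refine ⟨h.1, ?_⟩
    by_contra hcon
    push_neg at hcon
    exact hx (ordAt_eq_zero_of_mem_basicOpen V ξ x h.1 hxV f a b hb hab hcon.1 hcon.2)
  rw [hSU] at hxT
  obtain ⟨C, hCS, hxC⟩ := hxT
  refine ⟨C, hCS, ?_⟩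
  have hCi := hSi C hCS
  have hCc : IsClosed C := hSc C hCS
  change gp C = x
  simp only [gp, dif_pos hCi]
  have hgen := hCi.isGenericPoint_genericPoint_closure
  rw [hCc.closure_eq] at hgen
  have hzC : hCi.genericPoint ∈ C := hgen.mem
  have hzT : hCi.genericPoint ∈ T := by
    rw [hSU]
    exact ⟨C, hCS, hzC⟩
  have hzx : hCi.genericPoint ⤳ (⟨x, hxV⟩ : V) := hgen.specializes hxC
  have hzx' : (hCi.genericPoint).1 ⤳ x := hzx.map continuous_subtype_val
  have hne : (hCi.genericPoint).1 ≠ ξ := by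
    intro heq
    rcases hzT.2 with h1 | h1
    · exact h1 (heq ▸ (X.evaluation_ne_zero_iff_mem_basicOpen ξ hξ a).mp ha)
    · exact h1 (heq ▸ (X.evaluation_ne_zero_iff_mem_basicOpen ξ hξ b).mp hb)
  exact eq_of_between hδ hzT.1 hzx' hne h.2

end Part4

section Part5

open AlgebraicGeometry CategoryTheory TopologicalSpace Topology

variable {X : Scheme.{u}}

/-- a family of points of an open `U` whose closures are locally finite in `U` has locally finite
closures in `X` when `X` is locally Noetherian. -/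
theorem locallyFinite_closure_of_open [IsLocallyNoetherian X] (U : X.Opens) {ι : Type*}
    (ξ : ι → ↥U)
    (hlf : ∀ w : ↥U, ∃ W : Set ↥U, IsOpen W ∧ w ∈ W ∧ {i | (closure {ξ i} ∩ W).Nonempty}.Finite)
    (x : X) :
    ∃ W : Set X, IsOpen W ∧ x ∈ W ∧ {i | (closure {(ξ i).1} ∩ W).Nonempty}.Finite := by
  classical
  obtain ⟨_, ⟨V, hV, rfl⟩, hxV, -⟩ :=
    X.isBasis_affineOpens.exists_subset_of_mem_open (Set.mem_univ x) isOpen_univ
  refine ⟨V, V.isOpen, hxV, ?_⟩
  haveI : IsNoetherianRing Γ(X, V) := IsLocallyNoetherian.component_noetherian ⟨V, hV⟩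
  haveI : NoetherianSpace V := noetherianSpace_of_isAffineOpen V hV
  let K : Set ↥U := {w | w.1 ∈ V}
  have hK : IsCompact K := by
    rw [Subtype.isCompact_iff]
    have : (Subtype.val '' K : Set X) = Subtype.val '' ({v : V | v.1 ∈ U} : Set V) := by
      ext y
      constructor
      · rintro ⟨w, hw, rfl⟩
        exact ⟨⟨w.1, hw⟩, w.2, rfl⟩
      · rintro ⟨v, hv, rfl⟩
        exact ⟨⟨v.1, hv⟩, v.2, rfl⟩
    rw [this]
    have hc : IsCompact ({v : V | v.1 ∈ U} : Set V) := NoetherianSpace.isCompact _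
    exact hc.image continuous_subtype_val
  choose W hWo hwW hWf using hlf
  obtain ⟨t, -, ht⟩ := hK.elim_nhds_subcover W (fun w _ => (hWo w).mem_nhds (hwW w))
  refine (Set.Finite.biUnion t.finite_toSet (fun w _ => hWf w)).subset ?_
  rintro i ⟨y, hy1, hy2⟩
  have hsp : (ξ i).1 ⤳ y := specializes_iff_mem_closure.mpr hy1
  have hmem : ξ i ∈ K := hsp.mem_open V.isOpen hy2
  obtain ⟨w, hw, hiw⟩ := Set.mem_iUnion₂.mp (ht hmem)
  exact Set.mem_iUnion₂.mpr ⟨w, hw, ⟨ξ i, subset_closure rfl, hiw⟩⟩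

end Part5

section Part6

open AlgebraicGeometry CategoryTheory TopologicalSpace Topology

theorem divFun_ι {X : Scheme.{u}} (δ : X → ℤ) (U : X.Opens) (ξ u : (↑U : Scheme.{u}))
    (g : X.residueField (U.ι ξ)) :
    Cyc.divFun (X := (↑U : Scheme.{u})) (fun u => δ (U.ι u)) ξ
      ((U.ι.residueFieldMap ξ).hom g) u =
      Cyc.divFun δ (U.ι ξ) g (U.ι u) := by
  unfold Cyc.divFun
  have hiff : (ξ ⤳ u) ↔ (U.ι ξ ⤳ U.ι u) :=
    (U.ι.isOpenEmbedding.isInducing.specializes_iff).symm
  by_cases h : ξ ⤳ u ∧ δ (U.ι u) + 1 = δ (U.ι ξ)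
  · rw [dif_pos h, dif_pos ⟨hiff.mp h.1, h.2⟩]
    exact ordAt_openImmersion U.ι u ξ h.1 g
  · rw [dif_neg h, dif_neg]
    rintro ⟨h1, h2⟩
    exact h ⟨hiff.mpr h1, h2⟩

theorem main (X : Scheme.{u}) (δ : X → ℤ) (hX : Cyc.IsSetup X δ) (U : X.Opens) (k : ℤ)
    (α β : AlgebraicCycle X ℤ) (hα : α ∈ Cyc.Zk X δ k) (hβ : β ∈ Cyc.Zk X δ k)
    (αU βU : AlgebraicCycle (↑U : Scheme.{u}) ℤ) (hαU : ∀ u : ↥U, αU u = α (U.ι u))
    (hβU : ∀ u : ↥U, βU u = β (U.ι u))
    (h : Cyc.RatEquiv (fun u : ↥U => δ (U.ι u)) k αU βU) :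
    ∃ γ : AlgebraicCycle X ℤ, γ ∈ Cyc.Zk X δ k ∧ (∀ x : X, x ∈ U → γ x = 0) ∧
      Cyc.RatEquiv δ k α (β + γ) := by
  classical
  obtain ⟨hN, -, hδ⟩ := hX
  haveI := hN
  obtain ⟨ι, ξ, f, hξk, hf0, hlf, hsum⟩ := h
  let ξ' : ι → X := fun i => U.ι (ξ i)
  let f' : (i : ι) → X.residueField (ξ' i) :=
    fun i => (inv (U.ι.residueFieldMap (ξ i))).hom (f i)
  have hf' : ∀ i, (U.ι.residueFieldMap (ξ i)).hom (f' i) = f i := by
    intro i
    change ((inv (U.ι.residueFieldMap (ξ i))) ≫ (U.ι.residueFieldMap (ξ i))).hom (f i) = f i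
    rw [IsIso.inv_hom_id]
    rfl
  have hf'0 : ∀ i, f' i ≠ 0 := by
    intro i h0
    apply hf0 i
    rw [← hf' i, h0, map_zero]
  let D : X → ℤ := fun x => ∑ᶠ i, Cyc.divFun δ (ξ' i) (f' i) x
  have hlf' : ∀ x : X, ∃ W : Set X, IsOpen W ∧ x ∈ W ∧
      {i | (closure {ξ' i} ∩ W).Nonempty}.Finite :=
    fun x => locallyFinite_closure_of_open U ξ hlf x
  have hD : ∀ z : X, ∃ t ∈ 𝓝 z, (t ∩ Function.support D).Finite := by
    intro z
    obtain ⟨W, hWo, hzW, hWf⟩ := hlf' z
    choose V hVo hzV hVf using fun i => divFun_locallyFinite hδ (ξ' i) (f' i) z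
    refine ⟨W ∩ ⋂ i ∈ {i | (closure {ξ' i} ∩ W).Nonempty}, V i, ?_, ?_⟩
    · apply Filter.inter_mem (hWo.mem_nhds hzW)
      exact (Filter.biInter_mem hWf).mpr (fun i _ => (hVo i).mem_nhds (hzV i))
    · refine (Set.Finite.biUnion hWf (fun i _ => hVf i)).subset ?_
      rintro x ⟨⟨hxW, hxV⟩, hx⟩
      rw [Function.mem_support] at hx
      obtain ⟨i, hi⟩ : ∃ i, Cyc.divFun δ (ξ' i) (f' i) x ≠ 0 := by
        by_contra hcon
        push_neg at hcon
        exact hx (finsum_eq_zero_of_forall_eq_zero hcon)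
      have hsp : ξ' i ⤳ x := by
        unfold Cyc.divFun at hi
        split_ifs at hi with hc
        · exact hc.1
        · exact absurd rfl hi
      have hiI : i ∈ {i | (closure {ξ' i} ∩ W).Nonempty} :=
        ⟨x, specializes_iff_mem_closure.mp hsp, hxW⟩
      refine Set.mem_iUnion₂.mpr ⟨i, hiI, ⟨?_, hi⟩⟩
      exact Set.mem_iInter₂.mp hxV i hiI
  let Dc : AlgebraicCycle X ℤ := ⟨D, fun _ _ => Set.mem_univ _, fun z _ => hD z⟩
  have hDc : ∀ x, Dc x = D x := fun x => rfl
  have hDU : ∀ u : (↑U : Scheme.{u}), D (U.ι u) = α (U.ι u) - β (U.ι u) := by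
    intro u
    have h1 := hsum u
    rw [Function.locallyFinsuppWithin.coe_sub, Pi.sub_apply, hαU, hβU] at h1
    rw [h1]
    apply finsum_congr
    intro i
    rw [← hf' i]
    exact (divFun_ι δ U (ξ i) u (f' i)).symm
  have hDk : ∀ x, δ x ≠ k → D x = 0 := by
    intro x hx
    apply finsum_eq_zero_of_forall_eq_zero
    intro i
    unfold Cyc.divFun
    rw [dif_neg]
    rintro ⟨-, h2⟩
    have := hξk i
    apply hx
    change δ (ξ' i) = k + 1 at this
    omega
  refine ⟨α - β - Dc, ?_, ?_, ?_⟩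
  · intro x hx
    rw [Function.locallyFinsuppWithin.coe_sub, Function.locallyFinsuppWithin.coe_sub,
      Pi.sub_apply, Pi.sub_apply, hα x hx, hβ x hx, hDc, hDk x hx]
    simp
  · intro x hx
    rw [Function.locallyFinsuppWithin.coe_sub, Function.locallyFinsuppWithin.coe_sub,
      Pi.sub_apply, Pi.sub_apply, hDc]
    have := hDU ⟨x, hx⟩
    change D x = α x - β x at this
    rw [this]
    ring
  · refine ⟨ι, ξ', f', hξk, hf'0, hlf', fun x => ?_⟩
    rw [Function.locallyFinsuppWithin.coe_sub, Function.locallyFinsuppWithin.coe_add,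
      Function.locallyFinsuppWithin.coe_sub, Function.locallyFinsuppWithin.coe_sub]
    simp only [Pi.sub_apply, Pi.add_apply]
    rw [hDc]
    ring

end Part6

end Groth.Agent.Lib.R2H1.RatEquivOpen
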