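/-
Flat pullback of principal divisors (S1905).
Reusable: `ord_algebraMap` (flat local A→B: ord_B(a) = ord_A(a)·length_B(B/m_A B)), `ordFrac_flat_local` (same for
CycAlg.ordFrac on fraction fields), `ordAt_generic_eq` (integral X: Cyc.ordAt x η (res φ) = CycAlg.ordFrac O_{X,x} K(X) φ,
no hypotheses), `ordAt_generic_eq'`, `ordAt_flat` (flat f between integral schemes: ordAt x η_X (g∘f) = ordAt (f x) (f η_X) g · length),
`map_genericPoint_of_flat`, `genericPoint_maximal`, `delta_genericPoint` (HasRelDim + DeltaCompat: δX η = δY (f η) + r),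
`delta_image_of_immediate`, `ordFrac_eq_zero_of_bijective`, `stalkSpecializes_bijective_of_eq`,
`ordAt_eq_zero_of_map_eq`, `main` (S1905).
-/
import Mathlib
import Groth.Prelude.Def_Cyc
import Groth.Agent.Lib.R2H1KeyLemma
import Groth.Agent.Lib.R2H1RatEquivOpen
import Groth.Agent.Lib.Helper4DimFormulaT
import Groth.Agent.S6459

set_option autoImplicit false
set_option linter.style.haveILetI false
set_option linter.unusedSectionVars false
universe u v

namespace Groth.Agent.Lib.R2H1.FlatDiv

section Part1

open Groth.Agent.Lib.R2H1.KeyLemma IsLocalRing TensorProduct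

section Alg

variable (A B : Type u) [CommRing A] [CommRing B] [IsLocalRing A] [IsLocalRing B] [Algebra A B]
  [Module.Flat A B] [IsLocalHom (algebraMap A B)]

theorem ord_algebraMap (a : A) :
    Ring.ord B (algebraMap A B a) =
      Ring.ord A a * Module.length B (B ⧸ (maximalIdeal A).map (algebraMap A B)) := by
  unfold Ring.ord
  rw [← IsLocalRing.length_baseChange A B (A ⧸ Ideal.span {a})]
  have e := Algebra.TensorProduct.quotIdealMapEquivTensorQuot B (Ideal.span {a})
  rw [← e.toLinearEquiv.length_eq, Ideal.map_span, Set.image_singleton]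

variable [IsDomain A] [IsDomain B] [IsNoetherianRing A] [IsNoetherianRing B]
  [Ring.KrullDimLE 1 A] [Ring.KrullDimLE 1 B]
  (K L : Type u) [Field K] [Field L] [Algebra A K] [IsFractionRing A K] [Algebra B L]
  [IsFractionRing B L]

theorem ordFrac_flat_local (ι : K →+* L)
    (hι : ∀ a, ι (algebraMap A K a) = algebraMap B L (algebraMap A B a)) (g : K) :
    CycAlg.ordFrac B L (ι g) = CycAlg.ordFrac A K g *
      ((Module.length B (B ⧸ (maximalIdeal A).map (algebraMap A B))).toNat : ℤ) := by
  haveI : Module.FaithfullyFlat A B := Module.FaithfullyFlat.of_flat_of_isLocalHom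
  have hinj : Function.Injective (algebraMap A B) := FaithfulSMul.algebraMap_injective A B
  have key : ∀ a : A, a ≠ 0 → CycAlg.ordFrac B L (ι (algebraMap A K a)) =
      CycAlg.ordFrac A K (algebraMap A K a) *
        ((Module.length B (B ⧸ (maximalIdeal A).map (algebraMap A B))).toNat : ℤ) := by
    intro a ha
    have ha' : algebraMap A B a ≠ 0 := fun h => ha (hinj (by rw [h, map_zero]))
    rw [hι, ordFrac_algebraMap B L ha', ordFrac_algebraMap A K ha, ord_algebraMap, ENat.toNat_mul]
    push_cast
    rfl
  by_cases hg : g = 0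
  · subst hg
    rw [map_zero]
    have h0 : ∀ (R : Type u) [CommRing R] [IsDomain R] [IsNoetherianRing R] [Ring.KrullDimLE 1 R]
        (F : Type u) [Field F] [Algebra R F] [IsFractionRing R F], CycAlg.ordFrac R F 0 = 0 := by
      intro R _ _ _ _ F _ _ _
      rw [ordFrac_eq, map_zero]
      rfl
    rw [h0 B L, h0 A K, zero_mul]
  obtain ⟨a, b, hb, rfl⟩ := IsFractionRing.div_surjective (A := A) g
  have hb0 : b ≠ 0 := nonZeroDivisors.ne_zero hb
  have ha0 : a ≠ 0 := by
    rintro rfl
    apply hg
    rw [map_zero, zero_div]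
  have hKa : algebraMap A K a ≠ 0 := by
    rwa [Ne, map_eq_zero_iff _ (IsFractionRing.injective A K)]
  have hKb : algebraMap A K b ≠ 0 := by
    rwa [Ne, map_eq_zero_iff _ (IsFractionRing.injective A K)]
  have hLa : ι (algebraMap A K a) ≠ 0 := by rwa [Ne, map_eq_zero_iff _ ι.injective]
  have hLb : ι (algebraMap A K b) ≠ 0 := by rwa [Ne, map_eq_zero_iff _ ι.injective]
  rw [map_div₀, div_eq_mul_inv, div_eq_mul_inv, ordFrac_mul B L hLa (inv_ne_zero hLb),
    ordFrac_inv B L hLb, ordFrac_mul A K hKa (inv_ne_zero hKb), ordFrac_inv A K hKb,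
    key a ha0, key b hb0]
  ring

end Alg

end Part1

section Part2

open AlgebraicGeometry CategoryTheory TopologicalSpace Groth.Agent.Lib.R2H1.RatEquivOpen IsLocalRing

variable {X Y : Scheme.{u}}

/-- on an integral scheme, the order along `η ⤳ x` is the order for the local ring `O_{X,x}` inside
the function field. -/
theorem ordAt_generic_eq [IsIntegral X] (x : X) (h : genericPoint X ⤳ x) (φ : X.functionField) :
    Cyc.ordAt x (genericPoint X) h (X.residue (genericPoint X) φ) =
      CycAlg.ordFrac (X.presheaf.stalk x) X.functionField φ := by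
  set η := genericPoint X with hη
  have hresinj : Function.Injective (X.residue η).hom :=
    RingHom.injective ((X.residue η).hom : X.functionField →+* X.residueField η)
  let eK : X.functionField ≃+* X.residueField η :=
    RingEquiv.ofBijective (X.residue η).hom ⟨hresinj, X.residue_surjective η⟩
  have hspec : ∀ r : X.presheaf.stalk x, Cyc.specMap x η h r =
      eK (algebraMap (X.presheaf.stalk x) X.functionField r) := fun r => rfl
  have hker : RingHom.ker (Cyc.specMap x η h) = ⊥ := by
    rw [RingHom.ker_eq_bot_iff_eq_zero]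
    intro r hr
    rw [hspec, map_eq_zero_iff _ eK.injective] at hr
    exact (map_eq_zero_iff _ (IsFractionRing.injective (X.presheaf.stalk x) X.functionField)).mp hr
  let e : X.presheaf.stalk x ≃+* Cyc.LocQuot x η h :=
    (RingEquiv.quotientBot (X.presheaf.stalk x)).symm.trans (Ideal.quotEquivOfEq hker.symm)
  have he : ∀ r, e r = Ideal.Quotient.mk _ r := fun r => rfl
  have hcomm : ∀ r, eK (algebraMap (X.presheaf.stalk x) X.functionField r) =
      algebraMap (Cyc.LocQuot x η h) (X.residueField η) (e r) := by
    intro r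
    have h3 : algebraMap (Cyc.LocQuot x η h) (X.residueField η)
        (Ideal.Quotient.mk (RingHom.ker (Cyc.specMap x η h)) r) = Cyc.specMap x η h r := by
      rw [RingHom.algebraMap_toAlgebra, Ideal.Quotient.lift_mk]
    rw [he, h3, hspec]
  unfold Cyc.ordAt
  exact (ordFrac_congr e eK hcomm φ).symm

/-- variant with a point equal to the generic point. -/
theorem ordAt_generic_eq' [IsIntegral X] (y₀ : X) (e : y₀ = genericPoint X) (x : X) (h : y₀ ⤳ x)
    (g : X.presheaf.stalk y₀) :
    Cyc.ordAt x y₀ h (X.residue y₀ g) =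
      CycAlg.ordFrac (X.presheaf.stalk x) X.functionField
        (X.presheaf.stalkSpecializes (specializes_of_eq e.symm) g) := by
  subst e
  rw [ordAt_generic_eq x h g]
  congr 1
  have : X.presheaf.stalkSpecializes (specializes_of_eq (rfl : genericPoint X = genericPoint X)) =
      𝟙 _ := TopCat.Presheaf.stalkSpecializes_refl _ _
  rw [this]
  rfl

end Part2

section Part3

open AlgebraicGeometry CategoryTheory TopologicalSpace Groth.Agent.Lib.R2H1.RatEquivOpen IsLocalRing

variable {X Y : Scheme.{u}}

/-- flat pullback multiplies orders along the generic point by the length of the fibre ring. -/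
theorem ordAt_flat [IsIntegral X] [IsIntegral Y] [IsLocallyNoetherian X] [IsLocallyNoetherian Y]
    (f : X ⟶ Y) [Flat f] (hfη : f (genericPoint X) = genericPoint Y) (x : X)
    (h : genericPoint X ⤳ x)
    (hdX : ringKrullDim (X.presheaf.stalk x) = 1)
    (hdY : Ring.KrullDimLE 1 (Y.presheaf.stalk (f x)))
    (g : Y.residueField (f (genericPoint X))) :
    Cyc.ordAt x (genericPoint X) h (f.residueFieldMap (genericPoint X) g) =
      Cyc.ordAt (f x) (f (genericPoint X)) (f.base.hom.map_specializes h) g *
        ((Module.length (X.presheaf.stalk x)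
          (X.presheaf.stalk x ⧸ Ideal.map (f.stalkMap x).hom
            (IsLocalRing.maximalIdeal (Y.presheaf.stalk (f x))))).toNat : ℤ) := by
  obtain ⟨gt, rfl⟩ := Y.residue_surjective _ g
  letI : Algebra (Y.presheaf.stalk (f x)) (X.presheaf.stalk x) := (f.stalkMap x).hom.toAlgebra
  haveI : Module.Flat (Y.presheaf.stalk (f x)) (X.presheaf.stalk x) := Flat.stalkMap f x
  haveI : IsLocalHom (algebraMap (Y.presheaf.stalk (f x)) (X.presheaf.stalk x)) :=
    inferInstanceAs (IsLocalHom (f.stalkMap x).hom)
  haveI : Ring.KrullDimLE 1 (X.presheaf.stalk x) := Ring.krullDimLE_iff.mpr (by rw [hdX]; rfl)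
  haveI : Ring.KrullDimLE 1 (Y.presheaf.stalk (f x)) := hdY
  let ι : Y.functionField →+* X.functionField :=
    (Y.presheaf.stalkSpecializes (specializes_of_eq hfη) ≫ f.stalkMap (genericPoint X)).hom
  have hι : ∀ a, ι (algebraMap (Y.presheaf.stalk (f x)) Y.functionField a) =
      algebraMap (X.presheaf.stalk x) X.functionField
        (algebraMap (Y.presheaf.stalk (f x)) (X.presheaf.stalk x) a) := by
    intro a
    change f.stalkMap (genericPoint X) (Y.presheaf.stalkSpecializes (specializes_of_eq hfη)
      (Y.presheaf.stalkSpecializes _ a)) = X.presheaf.stalkSpecializes _ (f.stalkMap x a)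
    rw [← Scheme.Hom.stalkSpecializes_stalkMap_apply f (genericPoint X) x h]
    congr 1
    exact ConcreteCategory.congr_hom (TopCat.Presheaf.stalkSpecializes_comp Y.presheaf _ _) a
  have h1 := ordAt_generic_eq' (f (genericPoint X)) hfη (f x) (f.base.hom.map_specializes h) gt
  have h2 : f.residueFieldMap (genericPoint X) (Y.residue _ gt) =
      X.residue (genericPoint X) (ι (Y.presheaf.stalkSpecializes
        (specializes_of_eq hfη.symm) gt)) := by
    have h3 := ConcreteCategory.congr_hom (Scheme.residue_residueFieldMap f (genericPoint X)) gt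
    have h4 : ι (Y.presheaf.stalkSpecializes (specializes_of_eq hfη.symm) gt) =
        f.stalkMap (genericPoint X) gt := by
      change f.stalkMap (genericPoint X) (Y.presheaf.stalkSpecializes (specializes_of_eq hfη)
        (Y.presheaf.stalkSpecializes (specializes_of_eq hfη.symm) gt)) = _
      congr 1
      have := ConcreteCategory.congr_hom (TopCat.Presheaf.stalkSpecializes_comp Y.presheaf
        (specializes_of_eq hfη) (specializes_of_eq hfη.symm)) gt
      rw [TopCat.Presheaf.stalkSpecializes_refl] at this
      exact this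
    rw [h4]
    exact h3
  rw [h2, ordAt_generic_eq x h, h1]
  exact ordFrac_flat_local (Y.presheaf.stalk (f x)) (X.presheaf.stalk x) Y.functionField
    X.functionField ι hι _

end Part3

section Part4

open AlgebraicGeometry CategoryTheory TopologicalSpace Groth.Agent.Lib.R2H1.RatEquivOpen IsLocalRing
  Groth.Agent.Lib.R2H1.KeyLemma

variable {X Y : Scheme.{u}}

theorem map_genericPoint_of_flat [IsIntegral X] [IsIntegral Y] (f : X ⟶ Y) [Flat f] :
    f (genericPoint X) = genericPoint Y := by
  have hgen := Flat.generalizingMap f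
  have h1 : genericPoint Y ⤳ f (genericPoint X) := (genericPoint_spec Y).specializes trivial
  obtain ⟨x', hx', hfx'⟩ := hgen h1
  have : x' = genericPoint X :=
    (hx'.antisymm ((genericPoint_spec X).specializes trivial)).eq
  rw [← hfx', this]

theorem genericPoint_maximal [IsIntegral X] (x' : X) (h : x' ⤳ genericPoint X) :
    x' = genericPoint X :=
  (h.antisymm ((genericPoint_spec X).specializes trivial)).eq

/-- the relative dimension of `f` is the transcendence degree at the generic point. -/
theorem delta_genericPoint [IsIntegral X] (f : X ⟶ Y) [LocallyOfFiniteType f] (δX : X → ℤ)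
    (δY : Y → ℤ) (r : ℕ) (hr : Cyc.HasRelDim f r) (hδ : Cyc.DeltaCompat f δX δY) :
    δX (genericPoint X) = δY (f (genericPoint X)) + r := by
  obtain ⟨Z, hZ, hZdim⟩ :=
    Groth.Agent.Lib.Helper4.DimFormula.exists_mem_irreducibleComponents_of_maximal f
      (f (genericPoint X)) (genericPoint X) rfl (fun x' _ h => genericPoint_maximal x' h)
  have h1 := hr (f (genericPoint X)) Z hZ
  rw [hZdim] at h1
  have h2 : Groth.Agent.Lib.Helper4.DimFormula.ptTrdeg f (genericPoint X) = r := by
    exact_mod_cast h1
  obtain ⟨n, hn, hδn⟩ := hδ (genericPoint X)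
  have h3 := Groth.Agent.Lib.Helper4.DimFormula.trdeg_eq_ptTrdeg f (genericPoint X)
  rw [h2] at h3
  have h4 : (n : Cardinal.{u}) = (r : Cardinal.{u}) := hn.symm.trans h3
  have h5 : n = r := by exact_mod_cast h4
  rw [hδn, h5]

end Part4

section Part5

open AlgebraicGeometry CategoryTheory TopologicalSpace Groth.Agent.Lib.R2H1.RatEquivOpen IsLocalRing Groth.Agent.Lib.R2H1.KeyLemma

variable {X Y : Scheme.{u}}

/-- a flat morphism maps an immediate specialization from the generic point either to a point or
to an immediate specialization. -/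
theorem delta_image_of_immediate [IsIntegral X] (f : X ⟶ Y) [Flat f] {δX : X → ℤ} {δY : Y → ℤ}
    (hδX : Cyc.IsDimFun X δX) (hδY : Cyc.IsDimFun Y δY) (x : X)
    (hx : δX x + 1 = δX (genericPoint X)) (hne : f x ≠ f (genericPoint X)) :
    δY (f x) + 1 = δY (f (genericPoint X)) := by
  have h : genericPoint X ⤳ x := (genericPoint_spec X).specializes trivial
  have h' : f (genericPoint X) ⤳ f x := f.base.hom.map_specializes h
  have hgen := Flat.generalizingMap f
  have := (hδY (f (genericPoint X)) (f x) h' (Ne.symm hne)).2 (by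
    intro z hz1 hz2
    obtain ⟨x', hx', hfx'⟩ := hgen hz2
    have h1 : genericPoint X ⤳ x' := (genericPoint_spec X).specializes trivial
    by_cases e1 : x' = genericPoint X
    · left
      rw [← hfx', e1]
    · right
      rw [← hfx', eq_of_between hδX h1 hx' e1 hx])
  omega

section Alg

variable (A K : Type u) [CommRing A] [IsDomain A] [IsNoetherianRing A] [Ring.KrullDimLE 1 A]
  [Field K] [Algebra A K] [IsFractionRing A K]

theorem ordFrac_eq_zero_of_bijective (hb : Function.Bijective (algebraMap A K)) (φ : K) :
    CycAlg.ordFrac A K φ = 0 := by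
  obtain ⟨a, rfl⟩ := hb.2 φ
  by_cases ha : a = 0
  · subst ha
    rw [map_zero, ordFrac_eq, map_zero]
    rfl
  · rw [ordFrac_algebraMap A K ha]
    have hu : IsUnit a := by
      have hne : algebraMap A K a ≠ 0 := by
        rwa [Ne, map_eq_zero_iff _ hb.1]
      obtain ⟨a', ha'⟩ := hb.2 (algebraMap A K a)⁻¹
      refine IsUnit.of_mul_eq_one a' (hb.1 ?_)
      rw [map_mul, ha', map_one, mul_inv_cancel₀ hne]
    have : Ring.ord A a = 0 := by
      unfold Ring.ord
      rw [Ideal.span_singleton_eq_top.mpr hu]
      exact Module.length_eq_zero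
    rw [this]
    rfl

end Alg

end Part5

section Part6

open AlgebraicGeometry CategoryTheory TopologicalSpace Groth.Agent.Lib.R2H1.RatEquivOpen IsLocalRing Groth.Agent.Lib.R2H1.KeyLemma

variable {X Y : Scheme.{u}}

theorem stalkSpecializes_bijective_of_eq {x y : X} (e : x = y) (h : x ⤳ y) :
    Function.Bijective (X.presheaf.stalkSpecializes h) := by
  subst e
  have : X.presheaf.stalkSpecializes h = 𝟙 _ := TopCat.Presheaf.stalkSpecializes_refl _ _
  rw [this]
  exact Function.bijective_id

/-- if `x` maps to the generic point of `Y`, orders of rational functions coming from `Y` vanish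
at `x`. -/
theorem ordAt_eq_zero_of_map_eq [IsIntegral X] [IsIntegral Y] [IsLocallyNoetherian X]
    [IsLocallyNoetherian Y] (f : X ⟶ Y) [Flat f] (hfη : f (genericPoint X) = genericPoint Y)
    (x : X) (h : genericPoint X ⤳ x) (hdX : ringKrullDim (X.presheaf.stalk x) = 1)
    (hy : f x = f (genericPoint X)) (g : Y.residueField (f (genericPoint X))) :
    Cyc.ordAt x (genericPoint X) h (f.residueFieldMap (genericPoint X) g) = 0 := by
  have hb : Function.Bijective (algebraMap (Y.presheaf.stalk (f x)) Y.functionField) :=
    stalkSpecializes_bijective_of_eq (hfη.symm.trans hy.symm) _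
  have hdY : Ring.KrullDimLE 1 (Y.presheaf.stalk (f x)) := by
    rw [Ring.krullDimLE_iff, ringKrullDim_eq_of_ringEquiv (RingEquiv.ofBijective _ hb),
      ringKrullDim_eq_zero_of_field]
    exact zero_le_one
  rw [ordAt_flat f hfη x h hdX hdY g]
  obtain ⟨gt, rfl⟩ := Y.residue_surjective _ g
  rw [ordAt_generic_eq' (f (genericPoint X)) hfη (f x) (f.base.hom.map_specializes h) gt]
  haveI := hdY
  rw [ordFrac_eq_zero_of_bijective _ _ hb, zero_mul]

theorem main (X Y : Scheme.{u}) [IsIntegral X] [IsIntegral Y] (δX : X → ℤ) (δY : Y → ℤ)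
    (hX : Cyc.IsSetup X δX) (hY : Cyc.IsSetup Y δY) (f : X ⟶ Y) [Flat f] [LocallyOfFiniteType f]
    (r : ℕ) (hr : Cyc.HasRelDim f r) (hδ : Cyc.DeltaCompat f δX δY)
    (g : Y.residueField (f (genericPoint X))) (hg : g ≠ 0) :
    Cyc.pullFun f δX δY r (Cyc.divFun δY (f (genericPoint X)) g) =
      Cyc.divFun δX (genericPoint X) (f.residueFieldMap (genericPoint X) g) := by
  classical
  haveI : IsLocallyNoetherian X := hX.1
  haveI : IsLocallyNoetherian Y := hY.1
  have hfη := map_genericPoint_of_flat f
  have hF1 := delta_genericPoint f δX δY r hr hδ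
  funext x
  have h : genericPoint X ⤳ x := (genericPoint_spec X).specializes trivial
  have h' : f (genericPoint X) ⤳ f x := f.base.hom.map_specializes h
  have divY_of_not : ¬ (f (genericPoint X) ⤳ f x ∧ δY (f x) + 1 = δY (f (genericPoint X))) →
      Cyc.divFun δY (f (genericPoint X)) g (f x) = 0 := fun hc => by
    unfold Cyc.divFun
    exact dif_neg hc
  have divY_of : ∀ hc : δY (f x) + 1 = δY (f (genericPoint X)),
      Cyc.divFun δY (f (genericPoint X)) g (f x) = Cyc.ordAt (f x) (f (genericPoint X)) h' g :=
    fun hc => by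
      unfold Cyc.divFun
      exact dif_pos ⟨h', hc⟩
  by_cases hA : δX x + 1 = δX (genericPoint X)
  · have eR : Cyc.divFun δX (genericPoint X) (f.residueFieldMap (genericPoint X) g) x =
        Cyc.ordAt x (genericPoint X) h (f.residueFieldMap (genericPoint X) g) := by
      unfold Cyc.divFun
      exact dif_pos ⟨h, hA⟩
    rw [eR]
    have hdX : ringKrullDim (X.presheaf.stalk x) = 1 :=
      (Groth.Agent.S6459.result X δX hX x).mpr (by omega)
    by_cases hy : f x = f (genericPoint X)
    · rw [ordAt_eq_zero_of_map_eq f hfη x h hdX hy g]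
      unfold Cyc.pullFun
      rw [divY_of_not (by rintro ⟨-, h2⟩; rw [hy] at h2; omega)]
      simp
    · have hdel := delta_image_of_immediate f hX.2.2 hY.2.2 x hA hy
      have hdY : ringKrullDim (Y.presheaf.stalk (f x)) = 1 :=
        (Groth.Agent.S6459.result Y δY hY (f x)).mpr (by rw [← hfη]; omega)
      unfold Cyc.pullFun
      rw [if_pos (by omega), divY_of hdel]
      exact (ordAt_flat f hfη x h hdX (Ring.krullDimLE_iff.mpr (by rw [hdY]; rfl)) g).symm
  · have eR : Cyc.divFun δX (genericPoint X) (f.residueFieldMap (genericPoint X) g) x = 0 := by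
      unfold Cyc.divFun
      exact dif_neg (fun hc => hA hc.2)
    rw [eR]
    unfold Cyc.pullFun
    by_cases h1 : δX x = δY (f x) + r
    · rw [if_pos h1, divY_of_not (by rintro ⟨-, h2⟩; omega)]
      simp
    · rw [if_neg h1]

end Part6

end Groth.Agent.Lib.R2H1.FlatDiv
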