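/-
R2H1PowLen (helper1, round 2): for a finitely generated field extension L/k of exponential characteristic p and any field K/k, the local rings of K ⊗_k L at minimal primes have length a power of p (S1875).  Contains: length_self_ringEquiv / length_loc_ringEquiv (length of a ring / localization is invariant under ring isomorphisms), minimal_comap_ringEquiv, length_loc_of_isReduced, under_mem_minimalPrimes_of_flat (going down for minimal primes), length_loc_fiber (length(T_q) = length(R_r) * length((kappa(r) ⊗_R T)_Q) for flat R -> T), exists_fiber_prime, Claim + claim_trans (tower lemma), claim_of_algEquiv, claim_of_isSeparable, claim_fractionRing_mvPolynomial, length_loc_of_isPurelyInseparable, claim_of_finiteDimensional, claim_of_fg, main.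
-/
import Mathlib

set_option autoImplicit false
set_option linter.style.haveILetI false
set_option linter.unusedSectionVars false
universe u v

namespace Groth.Agent.Lib.R2H1.PowLen

section Part1

section Part1

open IsLocalRing
open scoped TensorProduct

/-- Length of a ring over itself is invariant under ring isomorphisms. -/
theorem length_self_ringEquiv {A B : Type*} [CommRing A] [CommRing B] (e : A ≃+* B) :
    Module.length A A = Module.length B B := by
  letI : Algebra A B := e.toRingHom.toAlgebra
  have h1 : Module.length A B = Module.length B B :=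
    Module.length_eq_of_surjective (M := B) (S := A) (R := B) e.surjective
  let l : A ≃ₗ[A] B :=
    { e.toAddEquiv with
      map_smul' := fun a x => by
        change e (a * x) = (algebraMap A B a) * e x
        rw [map_mul]; rfl }
  rw [← h1]
  exact l.length_eq

theorem length_loc_ringEquiv {A B : Type*} [CommRing A] [CommRing B] (e : A ≃+* B)
    (q' : Ideal A) [q'.IsPrime] (q : Ideal B) [q.IsPrime] (h : q' = q.comap e) :
    Module.length (Localization.AtPrime q') (Localization.AtPrime q') =
      Module.length (Localization.AtPrime q) (Localization.AtPrime q) :=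
  length_self_ringEquiv (Localization.localRingEquiv q' q e h)

theorem minimal_comap_ringEquiv {A B : Type*} [CommRing A] [CommRing B] (e : A ≃+* B)
    (q : Ideal B) (hq : q ∈ minimalPrimes B) : q.comap (e : A →+* B) ∈ minimalPrimes A := by
  have h := Ideal.minimalPrimes_comap_of_surjective (f := (e : A →+* B)) e.surjective
    (I := ⊥) (J := q) hq
  have h2 : (⊥ : Ideal B).comap (e : A →+* B) = ⊥ := by
    rw [← RingHom.ker_eq_comap_bot]
    exact (RingHom.injective_iff_ker_eq_bot _).mp e.injective
  rw [h2] at h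
  exact h

/-- A local ring with a single prime which is reduced is a field, hence has length one. -/
theorem length_eq_one_of_isReduced_of_subsingleton {B : Type*} [CommRing B] [IsLocalRing B]
    [IsReduced B] [Subsingleton (PrimeSpectrum B)] : Module.length B B = 1 := by
  have hm : maximalIdeal B = ⊥ := by
    have hnil : nilradical B = ⊥ := nilradical_eq_bot_iff.mpr inferInstance
    rw [← hnil, nilradical_eq_sInf]
    refine le_antisymm (le_sInf ?_) (sInf_le (by exact (inferInstance : (maximalIdeal B).IsPrime)))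
    intro J hJ
    have : (⟨J, hJ⟩ : PrimeSpectrum _) = ⟨maximalIdeal _, inferInstance⟩ := Subsingleton.elim _ _
    rw [PrimeSpectrum.ext_iff] at this
    exact this.ge
  have hf : IsField B := IsLocalRing.isField_iff_maximalIdeal_eq.mpr hm
  letI := hf.toField
  rw [Module.length_eq_one_iff]
  infer_instance

/-- A reduced ring localized at a minimal prime has length one. -/
theorem length_loc_of_isReduced {A : Type*} [CommRing A] [IsReduced A] (q : Ideal A) [q.IsPrime]
    (hq : q ∈ minimalPrimes A) :
    Module.length (Localization.AtPrime q) (Localization.AtPrime q) = 1 := by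
  haveI : Subsingleton (PrimeSpectrum (Localization.AtPrime q)) :=
    IsLocalization.subsingleton_primeSpectrum_of_mem_minimalPrimes q hq _
  exact length_eq_one_of_isReduced_of_subsingleton

/-- Going down: the contraction of a minimal prime along a flat map is minimal. -/
theorem under_mem_minimalPrimes_of_flat {R T : Type*} [CommRing R] [CommRing T] [Algebra R T]
    [Module.Flat R T] (q : Ideal T) [q.IsPrime] (hq : q ∈ minimalPrimes T) :
    q.under R ∈ minimalPrimes R := by
  refine ⟨⟨inferInstance, bot_le⟩, ?_⟩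
  rintro p ⟨hp, -⟩ hle
  haveI := hp
  haveI : q.LiesOver (q.under R) := ⟨rfl⟩
  obtain ⟨P, hPq, hP, hPp⟩ := Ideal.exists_ideal_le_liesOver_of_le (p := p) (q := q.under R) q hle
  have : q ≤ P := hq.2 ⟨hP, bot_le⟩ hPq
  have hPq' : P = q := le_antisymm hPq this
  rw [hPp.over, hPq']

end Part1

end Part1

section Part2

section Part2

open IsLocalRing
open scoped TensorProduct

theorem length_loc_fiber {R T : Type u} [CommRing R] [CommRing T] [Algebra R T] [Module.Flat R T]
    (r : Ideal R) [r.IsPrime] (Q : Ideal (r.Fiber T)) [Q.IsPrime] :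
    Module.length
        (Localization.AtPrime (Q.comap (Algebra.TensorProduct.includeRight : T →ₐ[R] r.Fiber T)))
        (Localization.AtPrime (Q.comap (Algebra.TensorProduct.includeRight : T →ₐ[R] r.Fiber T))) =
      Module.length (Localization.AtPrime r) (Localization.AtPrime r) *
        Module.length (Localization.AtPrime Q) (Localization.AtPrime Q) := by
  set q := Q.comap (Algebra.TensorProduct.includeRight : T →ₐ[R] r.Fiber T) with hq
  letI := Localization.AtPrime.algebraOfLiesOver r q
  have e := Ideal.Fiber.localizationAlgEquivQuotient r Q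
  have hlen := IsLocalRing.length_baseChange (Localization.AtPrime r) (Localization.AtPrime q)
    (Localization.AtPrime r)
  rw [(TensorProduct.AlgebraTensorModule.rid (Localization.AtPrime r) (Localization.AtPrime q)
    (Localization.AtPrime q)).length_eq] at hlen
  have hI : (maximalIdeal (Localization.AtPrime r)).map
      (algebraMap (Localization.AtPrime r) (Localization.AtPrime q)) =
      r.map (algebraMap R (Localization.AtPrime q)) := by
    rw [← Localization.AtPrime.map_eq_maximalIdeal, Ideal.map_map, ← IsScalarTower.algebraMap_eq]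
  rw [hI] at hlen
  rw [hlen]
  congr 1
  rw [Module.length_eq_of_surjective (M := Localization.AtPrime q ⧸
      r.map (algebraMap R (Localization.AtPrime q))) (S := Localization.AtPrime q)
      (R := Localization.AtPrime q ⧸ r.map (algebraMap R (Localization.AtPrime q)))
      Ideal.Quotient.mk_surjective]
  exact (length_self_ringEquiv (A := Localization.AtPrime Q)
    (B := Localization.AtPrime q ⧸ r.map (algebraMap R (Localization.AtPrime q)))
    e.toRingEquiv).symm

theorem exists_fiber_prime {R T : Type u} [CommRing R] [CommRing T] [Algebra R T]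
    (r : Ideal R) [r.IsPrime] (q : Ideal T) [hqp : q.IsPrime] [hqr : q.LiesOver r] :
    ∃ Q : Ideal (r.Fiber T), ∃ _ : Q.IsPrime,
      Q.comap (Algebra.TensorProduct.includeRight : T →ₐ[R] r.Fiber T) = q ∧
      (q ∈ minimalPrimes T → Q ∈ minimalPrimes (r.Fiber T)) := by
  let iso := PrimeSpectrum.primesOverOrderIsoFiber R T r
  let x : r.primesOver T := ⟨q, hqp, hqr⟩
  have hx : ((iso x).asIdeal).comap (Algebra.TensorProduct.includeRight : T →ₐ[R] r.Fiber T) = q := by
    have h1 := PrimeSpectrum.coe_primesOverOrderIsoFiber_symm_apply (R := R) (S := T) r (iso x)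
    rw [OrderIso.symm_apply_apply] at h1
    exact h1.symm
  refine ⟨(iso x).asIdeal, (iso x).2, hx, ?_⟩
  intro hq
  refine ⟨⟨(iso x).2, bot_le⟩, ?_⟩
  rintro P ⟨hP, -⟩ hle
  have h2 : iso.symm ⟨P, hP⟩ ≤ iso.symm (iso x) := iso.symm.monotone hle
  rw [OrderIso.symm_apply_apply] at h2
  have h3 : (iso.symm ⟨P, hP⟩ : Ideal T) ≤ q := h2
  have h4 : q ≤ (iso.symm ⟨P, hP⟩ : Ideal T) := hq.2 ⟨(iso.symm ⟨P, hP⟩).2.1, bot_le⟩ h3
  have h5 : x ≤ iso.symm ⟨P, hP⟩ := h4
  have h6 := iso.monotone h5
  rw [OrderIso.apply_symm_apply] at h6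
  exact h6

end Part2

end Part2

section Part3

section Part3

open IsLocalRing
open scoped TensorProduct

/-- The claim for a field extension `E / F`: every localization of `E ⊗[F] K` (`K` a field) at a
minimal prime has length a power of `p`. -/
def Claim (p : ℕ) (F E : Type u) [Field F] [Field E] [Algebra F E] : Prop :=
  ∀ (K : Type u) [Field K] [Algebra F K] (q : Ideal (E ⊗[F] K)) [q.IsPrime],
    q ∈ minimalPrimes (E ⊗[F] K) →
      ∃ n : ℕ, Module.length (Localization.AtPrime q) (Localization.AtPrime q) = (p ^ n : ℕ)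

theorem claim_trans (p : ℕ) (k F L : Type u) [Field k] [Field F] [Field L] [Algebra k F]
    [Algebra F L] [Algebra k L] [IsScalarTower k F L]
    (h1 : Claim p k F) (h2 : Claim p F L) : Claim p k L := by
  intro K _ _ q _ hq
  let φ : F ⊗[k] K →ₐ[F] L ⊗[k] K :=
    Algebra.TensorProduct.map (Algebra.ofId F L) (AlgHom.id k K)
  letI : Algebra (F ⊗[k] K) (L ⊗[k] K) := φ.toRingHom.toAlgebra
  haveI : IsScalarTower F (F ⊗[k] K) (L ⊗[k] K) :=
    IsScalarTower.of_algebraMap_eq' φ.comp_algebraMap.symm
  have H : (algebraMap (F ⊗[k] K) (L ⊗[k] K)).comp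
      (Algebra.TensorProduct.includeRight : K →ₐ[k] F ⊗[k] K).toRingHom =
      (Algebra.TensorProduct.includeRight : K →ₐ[k] L ⊗[k] K).toRingHom := by
    ext x
    simp [RingHom.algebraMap_toAlgebra, φ]
  haveI hpo : Algebra.IsPushout F L (F ⊗[k] K) (L ⊗[k] K) :=
    Algebra.IsPushout.tensorProduct_tensorProduct k K F L H
  haveI hpo' : Algebra.IsPushout F (F ⊗[k] K) L (L ⊗[k] K) := hpo.symm
  haveI : Module.Flat (F ⊗[k] K) (L ⊗[k] K) :=
    Module.Flat.isBaseChange F (F ⊗[k] K) L (L ⊗[k] K) hpo'.out
  obtain ⟨r, hr⟩ : ∃ r : Ideal (F ⊗[k] K), r = q.under (F ⊗[k] K) := ⟨_, rfl⟩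
  haveI : r.IsPrime := hr ▸ inferInstance
  haveI : q.LiesOver r := ⟨hr⟩
  have hrmin : r ∈ minimalPrimes (F ⊗[k] K) := hr ▸ under_mem_minimalPrimes_of_flat q hq
  obtain ⟨m, hm⟩ := h1 K r hrmin
  obtain ⟨Q, hQ, hQq, hQmin⟩ := exists_fiber_prime r q
  have hQm := hQmin hq
  subst hQq
  rw [length_loc_fiber r Q, hm]
  let Ψ : r.Fiber (L ⊗[k] K) ≃+* L ⊗[F] r.ResidueField :=
    ((Algebra.TensorProduct.comm (F ⊗[k] K) r.ResidueField (L ⊗[k] K)).toRingEquiv).trans
      (Algebra.IsPushout.cancelBaseChangeAlg F L (F ⊗[k] K) (L ⊗[k] K) r.ResidueField).toRingEquiv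
  haveI : (Q.comap (Ψ.symm : L ⊗[F] r.ResidueField →+* r.Fiber (L ⊗[k] K))).IsPrime :=
    Ideal.comap_isPrime _ _
  obtain ⟨n, hn⟩ := h2 r.ResidueField (Q.comap (Ψ.symm : L ⊗[F] r.ResidueField →+* r.Fiber (L ⊗[k] K)))
    (minimal_comap_ringEquiv Ψ.symm Q hQm)
  rw [length_loc_ringEquiv Ψ.symm
    (Q.comap (Ψ.symm : L ⊗[F] r.ResidueField →+* r.Fiber (L ⊗[k] K))) Q rfl] at hn
  rw [hn]
  refine ⟨m + n, ?_⟩
  rw [pow_add]
  push_cast
  rfl

end Part3

end Part3

section Part4

section Part4

open IsLocalRing
open scoped TensorProduct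

/-- Transport of the claim along an isomorphism of extensions. -/
theorem claim_of_algEquiv (p : ℕ) (F E E' : Type u) [Field F] [Field E] [Field E'] [Algebra F E]
    [Algebra F E'] (e : E ≃ₐ[F] E') (h : Claim p F E) : Claim p F E' := by
  intro K _ _ q _ hq
  let Ψ : E ⊗[F] K ≃+* E' ⊗[F] K :=
    (Algebra.TensorProduct.congr e (AlgEquiv.refl : K ≃ₐ[F] K)).toRingEquiv
  haveI : (q.comap (Ψ : E ⊗[F] K →+* E' ⊗[F] K)).IsPrime := Ideal.comap_isPrime _ _
  obtain ⟨n, hn⟩ := h K (q.comap (Ψ : E ⊗[F] K →+* E' ⊗[F] K)) (minimal_comap_ringEquiv Ψ q hq)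
  rw [length_loc_ringEquiv Ψ (q.comap (Ψ : E ⊗[F] K →+* E' ⊗[F] K)) q rfl] at hn
  exact ⟨n, hn⟩

/-- If all `E ⊗[F] K` are reduced then the claim holds (with exponent zero). -/
theorem claim_of_isReduced (p : ℕ) (F E : Type u) [Field F] [Field E] [Algebra F E]
    (h : ∀ (K : Type u) [Field K] [Algebra F K], IsReduced (E ⊗[F] K)) : Claim p F E := by
  intro K _ _ q _ hq
  haveI := h K
  exact ⟨0, by rw [length_loc_of_isReduced q hq]; simp⟩

/-- Finite separable extensions. -/
theorem claim_of_isSeparable (p : ℕ) (F E : Type u) [Field F] [Field E] [Algebra F E]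
    [Algebra.IsSeparable F E] [FiniteDimensional F E] : Claim p F E := by
  apply claim_of_isReduced
  intro K _ _
  haveI : Algebra.FormallyUnramified F E := Algebra.FormallyUnramified.of_isSeparable F E
  haveI : IsReduced (K ⊗[F] E) := Algebra.FormallyUnramified.isReduced_of_field K (K ⊗[F] E)
  exact isReduced_of_injective (Algebra.TensorProduct.comm F E K).toRingHom
    (Algebra.TensorProduct.comm F E K).injective

end Part4

end Part4

section Part5

section Part5

open IsLocalRing
open scoped TensorProduct

/-- Purely transcendental extensions. -/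
theorem claim_fractionRing_mvPolynomial (p : ℕ) (k : Type u) [Field k] (ι : Type u) :
    Claim p k (FractionRing (MvPolynomial ι k)) := by
  apply claim_of_isReduced
  intro K _ _
  let φ : MvPolynomial ι k ⊗[k] K →ₐ[MvPolynomial ι k] FractionRing (MvPolynomial ι k) ⊗[k] K :=
    Algebra.TensorProduct.map (Algebra.ofId (MvPolynomial ι k) (FractionRing (MvPolynomial ι k)))
      (AlgHom.id k K)
  letI : Algebra (MvPolynomial ι k ⊗[k] K) (FractionRing (MvPolynomial ι k) ⊗[k] K) :=
    φ.toRingHom.toAlgebra
  haveI : IsScalarTower (MvPolynomial ι k) (MvPolynomial ι k ⊗[k] K)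
      (FractionRing (MvPolynomial ι k) ⊗[k] K) :=
    IsScalarTower.of_algebraMap_eq' φ.comp_algebraMap.symm
  have H : (algebraMap (MvPolynomial ι k ⊗[k] K) (FractionRing (MvPolynomial ι k) ⊗[k] K)).comp
      (Algebra.TensorProduct.includeRight : K →ₐ[k] MvPolynomial ι k ⊗[k] K).toRingHom =
      (Algebra.TensorProduct.includeRight :
        K →ₐ[k] FractionRing (MvPolynomial ι k) ⊗[k] K).toRingHom := by
    ext x
    simp [RingHom.algebraMap_toAlgebra, φ]
  haveI hloc := IsLocalization.tensorProduct_tensorProduct k K (nonZeroDivisors (MvPolynomial ι k))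
    (FractionRing (MvPolynomial ι k)) H
  let e : MvPolynomial ι k ⊗[k] K ≃ₐ[k] MvPolynomial ι K :=
    (Algebra.TensorProduct.comm k (MvPolynomial ι k) K).trans
      ((MvPolynomial.algebraTensorAlgEquiv k K).restrictScalars k)
  haveI : IsDomain (MvPolynomial ι k ⊗[k] K) := e.injective.isDomain e.toRingHom
  have hle : Algebra.algebraMapSubmonoid (MvPolynomial ι k ⊗[k] K)
      (nonZeroDivisors (MvPolynomial ι k)) ≤ nonZeroDivisors (MvPolynomial ι k ⊗[k] K) := by
    rintro _ ⟨x, hx, rfl⟩
    apply mem_nonZeroDivisors_of_ne_zero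
    have hinj : Function.Injective (algebraMap (MvPolynomial ι k) (MvPolynomial ι k ⊗[k] K)) :=
      Algebra.TensorProduct.includeLeft_injective (S := MvPolynomial ι k)
        (algebraMap k K).injective
    intro h0
    exact (nonZeroDivisors.ne_zero hx) (hinj (by rw [h0, map_zero]))
  haveI : IsDomain (FractionRing (MvPolynomial ι k) ⊗[k] K) :=
    IsLocalization.isDomain_of_le_nonZeroDivisors _ hle
  infer_instance

end Part5

end Part5

section Part6

section Part6

open IsLocalRing
open scoped TensorProduct

theorem isUnit_or_isNilpotent_of_isPurelyInseparable (F E K : Type u) [Field F] [Field E] [Field K]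
    [Algebra F E] [Algebra F K] [IsPurelyInseparable F E] (x : K ⊗[F] E) :
    IsUnit x ∨ IsNilpotent x := by
  obtain ⟨n, hn, c, hc⟩ := IsPurelyInseparable.exists_pow_mem_range_tensorProduct (k := F) (K := E)
    (R := K) x
  by_cases h0 : c = 0
  · right
    refine ⟨n, ?_⟩
    rw [← hc, h0, map_zero]
  · left
    have hu : IsUnit (x ^ n) := by
      rw [← hc]
      exact (isUnit_iff_ne_zero.mpr h0).map _
    exact (isUnit_pow_iff hn.ne').mp hu

theorem dvd_pow_of_expChar (F : Type u) [Field F] (p : ℕ) [ExpChar F p] {a m : ℕ}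
    (h : a ∣ p ^ m) : ∃ j, a = p ^ j := by
  rcases expChar_is_prime_or_one F p with hp | hp
  · obtain ⟨j, -, hj⟩ := (Nat.dvd_prime_pow hp).mp h
    exact ⟨j, hj⟩
  · subst hp
    rw [one_pow, Nat.dvd_one] at h
    exact ⟨0, by simp [h]⟩

theorem length_loc_of_isPurelyInseparable (p : ℕ) (F E K : Type u) [Field F] [Field E] [Field K]
    [Algebra F E] [Algebra F K] [ExpChar F p] [IsPurelyInseparable F E] [FiniteDimensional F E]
    (q : Ideal (K ⊗[F] E)) [q.IsPrime] :
    ∃ n : ℕ, Module.length (Localization.AtPrime q) (Localization.AtPrime q) = (p ^ n : ℕ) := by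
  have hunit : ∀ m ∈ q.primeCompl, IsUnit m := by
    intro m hm
    rcases isUnit_or_isNilpotent_of_isPurelyInseparable F E K m with h | h
    · exact h
    · exact absurd ((nilpotent_iff_mem_prime.mp h) q inferInstance) hm
  have hle : q.primeCompl ≤ IsUnit.submonoid (K ⊗[F] E) := fun m hm => hunit m hm
  let e0 : (K ⊗[F] E) ≃ₐ[K ⊗[F] E] Localization.AtPrime q :=
    IsLocalization.atUnits (K ⊗[F] E) q.primeCompl hle
  let e1 : (K ⊗[F] E) ≃ₗ[K] Localization.AtPrime q := e0.toLinearEquiv.restrictScalars K
  obtain ⟨m, hm⟩ := IsPurelyInseparable.finrank_eq_pow (F := F) E p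
  have hfin : Module.length K (Localization.AtPrime q) = ((p ^ m : ℕ) : ℕ∞) := by
    rw [← e1.length_eq, Module.length_eq_finrank, Module.finrank_baseChange, hm]
  haveI : IsLocalHom (algebraMap K (Localization.AtPrime q)) := by
    refine ⟨fun a ha => ?_⟩
    rw [isUnit_iff_ne_zero]
    rintro rfl
    rw [map_zero] at ha
    exact not_isUnit_zero ha
  have hres := IsLocalRing.length_restrictScalars K (Localization.AtPrime q)
    (Localization.AtPrime q)
  rw [hfin] at hres
  set a := Module.length (Localization.AtPrime q) (Localization.AtPrime q) with ha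
  set b := Module.length (ResidueField K) (ResidueField (Localization.AtPrime q)) with hb
  have hpos : (p ^ m : ℕ) ≠ 0 := by
    rcases expChar_is_prime_or_one F p with hp | hp
    · exact pow_ne_zero _ hp.ne_zero
    · subst hp; simp
  have ha_top : a ≠ ⊤ := by
    intro h
    rw [h] at hres
    by_cases hb0 : b = 0
    · rw [hb0, mul_zero] at hres
      exact hpos (by exact_mod_cast hres)
    · rw [ENat.top_mul hb0] at hres
      exact ENat.coe_ne_top _ hres
  have hb_top : b ≠ ⊤ := by
    intro h
    rw [h] at hres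
    by_cases ha0 : a = 0
    · rw [ha0, zero_mul] at hres
      exact hpos (by exact_mod_cast hres)
    · rw [ENat.mul_top ha0] at hres
      exact ENat.coe_ne_top _ hres
  obtain ⟨a', ha'⟩ := ENat.ne_top_iff_exists.mp ha_top
  obtain ⟨b', hb'⟩ := ENat.ne_top_iff_exists.mp hb_top
  rw [← ha', ← hb'] at hres
  have hnat : p ^ m = a' * b' := by exact_mod_cast hres
  obtain ⟨j, hj⟩ := dvd_pow_of_expChar F p (a := a') (m := m) ⟨b', hnat⟩
  exact ⟨j, by rw [← ha', hj]⟩

end Part6

end Part6

section Part7

section Part7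

open IsLocalRing IntermediateField
open scoped TensorProduct

/-- Finite purely inseparable extensions. -/
theorem claim_of_isPurelyInseparable (p : ℕ) (F E : Type u) [Field F] [Field E] [Algebra F E]
    [ExpChar F p] [IsPurelyInseparable F E] [FiniteDimensional F E] : Claim p F E := by
  intro K _ _ q _ hq
  let Ψ : K ⊗[F] E ≃+* E ⊗[F] K := (Algebra.TensorProduct.comm F K E).toRingEquiv
  haveI : (q.comap (Ψ : K ⊗[F] E →+* E ⊗[F] K)).IsPrime := Ideal.comap_isPrime _ _
  obtain ⟨n, hn⟩ := length_loc_of_isPurelyInseparable p F E K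
    (q.comap (Ψ : K ⊗[F] E →+* E ⊗[F] K))
  rw [length_loc_ringEquiv Ψ (q.comap (Ψ : K ⊗[F] E →+* E ⊗[F] K)) q rfl] at hn
  exact ⟨n, hn⟩

/-- Finite extensions. -/
theorem claim_of_finiteDimensional (p : ℕ) (F L : Type u) [Field F] [Field L] [Algebra F L]
    [ExpChar F p] [FiniteDimensional F L] : Claim p F L := by
  haveI : ExpChar (separableClosure F L) p :=
    expChar_of_injective_algebraMap (algebraMap F (separableClosure F L)).injective p
  haveI : IsPurelyInseparable (separableClosure F L) L := separableClosure.isPurelyInseparable F L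
  exact claim_trans p F (separableClosure F L) L
    (claim_of_isSeparable p F (separableClosure F L))
    (claim_of_isPurelyInseparable p (separableClosure F L) L)

/-- Finitely generated field extensions. -/
theorem claim_of_fg (p : ℕ) (k L : Type u) [Field k] [Field L] [Algebra k L] [ExpChar k p]
    (hL : (⊤ : IntermediateField k L).FG) : Claim p k L := by
  haveI hess : Algebra.EssFiniteType k L := IntermediateField.fg_top_iff.mp hL
  obtain ⟨t, ht⟩ := exists_isTranscendenceBasis k L
  haveI : Algebra.IsAlgebraic (IntermediateField.adjoin k (Set.range ((↑) : t → L))) L :=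
    ht.isAlgebraic_field
  haveI : Algebra.EssFiniteType (IntermediateField.adjoin k (Set.range ((↑) : t → L))) L :=
    Algebra.EssFiniteType.of_comp k _ L
  haveI : FiniteDimensional (IntermediateField.adjoin k (Set.range ((↑) : t → L))) L :=
    Algebra.finite_of_essFiniteType_of_isAlgebraic
  haveI : ExpChar (IntermediateField.adjoin k (Set.range ((↑) : t → L))) p :=
    expChar_of_injective_algebraMap
      (algebraMap k (IntermediateField.adjoin k (Set.range ((↑) : t → L)))).injective p
  have h1 : Claim p k (IntermediateField.adjoin k (Set.range ((↑) : t → L))) :=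
    claim_of_algEquiv p k _ _ ht.1.aevalEquivField (claim_fractionRing_mvPolynomial p k t)
  exact claim_trans p k (IntermediateField.adjoin k (Set.range ((↑) : t → L))) L h1
    (claim_of_finiteDimensional p _ L)

/-- **Main theorem** (S1875). -/
theorem main (k K L : Type u) [Field k] [Field K] [Field L] [Algebra k K] [Algebra k L]
    (hL : (⊤ : IntermediateField k L).FG) (p : ℕ) [ExpChar k p] (q : Ideal (K ⊗[k] L))
    [q.IsPrime] (hq : q ∈ minimalPrimes (K ⊗[k] L)) :
    ∃ n : ℕ, Module.length (Localization.AtPrime q) (Localization.AtPrime q) = (p ^ n : ℕ) := by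
  have hC := claim_of_fg p k L hL
  let Ψ : L ⊗[k] K ≃+* K ⊗[k] L := (Algebra.TensorProduct.comm k L K).toRingEquiv
  haveI : (q.comap (Ψ : L ⊗[k] K →+* K ⊗[k] L)).IsPrime := Ideal.comap_isPrime _ _
  obtain ⟨n, hn⟩ := hC K (q.comap (Ψ : L ⊗[k] K →+* K ⊗[k] L)) (minimal_comap_ringEquiv Ψ q hq)
  rw [length_loc_ringEquiv Ψ (q.comap (Ψ : L ⊗[k] K →+* K ⊗[k] L)) q rfl] at hn
  exact ⟨n, hn⟩

end Part7

end Part7

end Groth.Agent.Lib.R2H1.PowLen
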