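/-
Rational equivalence and closed subschemes; Mayer-Vietoris for Chow groups, exactness in the middle (S1918).
Reusable: `residueFieldMap_bijective` (SurjectiveOnStalks), `ordAt_of_surjectiveOnStalks` (Cyc.ordAt compatible with
morphisms surjective on stalks: open/closed immersions, preimmersions), `divFun_preimmersion`,
`residueDegree_eq_one`, `map_apply` (formula for AlgebraicCycle.map), `map_apply_of_notMem_range`,
`map_apply_of_injective(')` (pushforward along an injective preimmersion at an image point),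
`ordFrac_inv'`, `divFun_inv`, `divFun_congr_point`, `divFun_ne_zero_specializes`,
`finsum_divFun_locallyFinite` (sum of divisors of a locally finite family is a cycle), `finite_support_divFun`,
`exists_restrict_family` (restrict a family of rational functions to a closed subscheme),
`map_eq_of_comp`, `main` (S1918).
-/
import Mathlib
import Groth.Prelude.Def_Cyc
import Groth.Agent.Lib.R2H1RatEquivOpen

set_option autoImplicit false
set_option linter.style.haveILetI false
set_option linter.unusedSectionVars false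
universe u v

namespace Groth.Agent.Lib.R2H1.RatEquivClosed

section Part1

open AlgebraicGeometry CategoryTheory Groth.Agent.Lib.R2H1.RatEquivOpen

variable {X Y : Scheme.{u}}

theorem residueFieldMap_bijective (j : Y ⟶ X) [SurjectiveOnStalks j] (η : Y) :
    Function.Bijective (j.residueFieldMap η).hom := by
  refine ⟨RingHom.injective _, ?_⟩
  intro b
  obtain ⟨b', rfl⟩ := Y.residue_surjective η b
  obtain ⟨a, rfl⟩ := j.stalkMap_surjective η b'
  refine ⟨X.residue (j η) a, ?_⟩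
  exact ConcreteCategory.congr_hom (Scheme.residue_residueFieldMap j η) a

/-- `Cyc.ordAt` is compatible with morphisms that are surjective on stalks (open immersions,
closed immersions, preimmersions). -/
theorem ordAt_of_surjectiveOnStalks (j : Y ⟶ X) [SurjectiveOnStalks j] (y η : Y) (h : η ⤳ y)
    (g : X.residueField (j η)) :
    Cyc.ordAt y η h ((j.residueFieldMap η).hom g) =
      Cyc.ordAt (j y) (j η) (j.base.hom.map_specializes h) g := by
  set h' := j.base.hom.map_specializes h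
  let φ : X.presheaf.stalk (j y) →+* Y.presheaf.stalk y := (j.stalkMap y).hom
  have hφs : Function.Surjective φ := j.stalkMap_surjective y
  let eK : X.residueField (j η) ≃+* Y.residueField η :=
    RingEquiv.ofBijective (j.residueFieldMap η).hom (residueFieldMap_bijective j η)
  have heK : ∀ a, eK a = (j.residueFieldMap η).hom a := fun a => rfl
  let ψ : X.presheaf.stalk (j y) →+* Cyc.LocQuot y η h :=
    (Ideal.Quotient.mk (RingHom.ker (Cyc.specMap y η h))).comp φ
  have hψs : Function.Surjective ψ := Ideal.Quotient.mk_surjective.comp hφs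
  have hker : RingHom.ker (Cyc.specMap (j y) (j η) h') = RingHom.ker ψ := by
    ext a
    rw [RingHom.mem_ker, RingHom.mem_ker]
    change _ ↔ Ideal.Quotient.mk _ (φ a) = 0
    rw [Ideal.Quotient.eq_zero_iff_mem, RingHom.mem_ker]
    change _ ↔ Cyc.specMap y η h ((j.stalkMap y).hom a) = 0
    rw [specMap_comp_stalkMap, ← heK, map_eq_zero_iff _ eK.injective]
  let e : Cyc.LocQuot (j y) (j η) h' ≃+* Cyc.LocQuot y η h :=
    (Ideal.quotEquivOfEq hker).trans (RingHom.quotientKerEquivOfSurjective hψs)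
  have he : ∀ a, e (Ideal.Quotient.mk _ a) = Ideal.Quotient.mk _ (φ a) := fun a => rfl
  have hcomm : ∀ r, eK (algebraMap (Cyc.LocQuot (j y) (j η) h') (X.residueField (j η)) r) =
      algebraMap (Cyc.LocQuot y η h) (Y.residueField η) (e r) := by
    intro r
    obtain ⟨a, rfl⟩ := Ideal.Quotient.mk_surjective r
    have h1 : algebraMap (Cyc.LocQuot (j y) (j η) h') (X.residueField (j η))
        (Ideal.Quotient.mk _ a) = Cyc.specMap (j y) (j η) h' a := by
      rw [RingHom.algebraMap_toAlgebra, Ideal.Quotient.lift_mk]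
    have h2 : algebraMap (Cyc.LocQuot y η h) (Y.residueField η)
        (Ideal.Quotient.mk _ (φ a)) = Cyc.specMap y η h (φ a) := by
      rw [RingHom.algebraMap_toAlgebra, Ideal.Quotient.lift_mk]
    rw [he, h1, h2, heK]
    exact (specMap_comp_stalkMap j y η h a).symm
  unfold Cyc.ordAt
  rw [ordFrac_congr e eK hcomm g]
  rfl

/-- `Cyc.divFun` is compatible with preimmersions. -/
theorem divFun_preimmersion (j : Y ⟶ X) [IsPreimmersion j] (δ : X → ℤ) (η y : Y)
    (g : X.residueField (j η)) :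
    Cyc.divFun (fun y => δ (j y)) η ((j.residueFieldMap η).hom g) y =
      Cyc.divFun δ (j η) g (j y) := by
  unfold Cyc.divFun
  have hiff : (η ⤳ y) ↔ (j η ⤳ j y) := (j.isEmbedding.isInducing.specializes_iff).symm
  by_cases h : η ⤳ y ∧ δ (j y) + 1 = δ (j η)
  · rw [dif_pos h, dif_pos ⟨hiff.mp h.1, h.2⟩]
    exact ordAt_of_surjectiveOnStalks j y η h.1 g
  · rw [dif_neg h, dif_neg]
    rintro ⟨h1, h2⟩
    exact h ⟨hiff.mpr h1, h2⟩

end Part1

section Part2

open AlgebraicGeometry CategoryTheory Groth.Agent.Lib.R2H1.RatEquivOpen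

variable {X Y : Scheme.{u}}

theorem residueDegree_eq_one (j : Y ⟶ X) [SurjectiveOnStalks j] (y : Y) :
    j.residueDegree y = 1 := by
  unfold Scheme.Hom.residueDegree
  letI := (j.residueFieldMap y).hom.toAlgebra
  have hb : Function.Bijective (algebraMap (X.residueField (j y)) (Y.residueField y)) :=
    residueFieldMap_bijective j y
  let e : X.residueField (j y) ≃ₗ[X.residueField (j y)] Y.residueField y :=
    LinearEquiv.ofBijective (Algebra.linearMap _ _) hb
  rw [← e.finrank_eq]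
  exact Module.finrank_self _

theorem map_apply (j : Y ⟶ X) [QuasiCompact j] (wx : Y → ℤ) (wy : X → ℤ)
    (c : AlgebraicCycle Y ℤ) (x : X) :
    AlgebraicCycle.map j wx wy c x =
      ∑ᶠ y ∈ j ⁻¹' {x}, c y * (AlgebraicCycle.mapCoeff j wx wy y : ℤ) := rfl

theorem map_apply_of_notMem_range (j : Y ⟶ X) [QuasiCompact j] (wx : Y → ℤ) (wy : X → ℤ)
    (c : AlgebraicCycle Y ℤ) (x : X) (hx : x ∉ Set.range j) :
    AlgebraicCycle.map j wx wy c x = 0 := by
  rw [map_apply]
  apply finsum_mem_eq_zero_of_forall_eq_zero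
  intro y hy
  exact absurd ⟨y, hy⟩ hx

theorem map_apply_of_injective (j : Y ⟶ X) [QuasiCompact j] [SurjectiveOnStalks j]
    (hinj : Function.Injective j) (δ : X → ℤ) (c : AlgebraicCycle Y ℤ) (y : Y) :
    AlgebraicCycle.map j (fun y => δ (j y)) δ c (j y) = c y := by
  rw [map_apply]
  have hpre : (j ⁻¹' {j y} : Set Y) = {y} := by
    ext y'
    simp only [Set.mem_preimage, Set.mem_singleton_iff]
    exact ⟨fun h => hinj h, fun h => h ▸ rfl⟩
  rw [hpre, finsum_mem_singleton]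
  unfold AlgebraicCycle.mapCoeff
  rw [if_pos rfl, residueDegree_eq_one]
  simp

end Part2

section Part3

open AlgebraicGeometry CategoryTheory TopologicalSpace Topology
  Groth.Agent.Lib.R2H1.RatEquivOpen

variable {X Y : Scheme.{u}}

theorem ordFrac_inv' (R : Type u) [CommRing R] (K : Type u) [Field K] [Algebra R K] (f : K) :
    CycAlg.ordFrac R K f⁻¹ = - CycAlg.ordFrac R K f := by
  unfold CycAlg.ordFrac
  split_ifs with h
  · haveI := h.1; haveI := h.2.1; haveI := h.2.2.1; haveI := h.2.2.2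
    rw [map_inv₀]
    rcases h0 : Ring.ordFrac R f with _ | m
    · change WithZero.recZeroCoe (motive := fun _ => ℤ) 0 _ ((0 : WithZero (Multiplicative ℤ))⁻¹) =
        - WithZero.recZeroCoe (motive := fun _ => ℤ) 0 _ (0 : WithZero (Multiplicative ℤ))
      rw [inv_zero]
      rfl
    · change WithZero.recZeroCoe (motive := fun _ => ℤ) 0 _ ((m : WithZero (Multiplicative ℤ))⁻¹) =
        - WithZero.recZeroCoe (motive := fun _ => ℤ) 0 _ (m : WithZero (Multiplicative ℤ))
      rw [← WithZero.coe_inv]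
      rfl
  · simp

theorem divFun_inv (δ : X → ℤ) (ξ : X) (f : X.residueField ξ) (x : X) :
    Cyc.divFun δ ξ f⁻¹ x = - Cyc.divFun δ ξ f x := by
  unfold Cyc.divFun
  split_ifs with h
  · exact ordFrac_inv' _ _ f
  · simp

theorem divFun_congr_point (δ : X → ℤ) {ξ ξ' : X} (e : ξ = ξ') (f : X.residueField ξ) :
    Cyc.divFun δ ξ' ((X.residueFieldCongr e).hom.hom f) = Cyc.divFun δ ξ f := by
  subst e
  rw [Scheme.residueFieldCongr_refl]
  rfl

theorem divFun_ne_zero_specializes {δ : X → ℤ} {ξ x : X} {f : X.residueField ξ}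
    (h : Cyc.divFun δ ξ f x ≠ 0) : ξ ⤳ x ∧ δ x + 1 = δ ξ := by
  unfold Cyc.divFun at h
  split_ifs at h with hc
  · exact hc
  · exact absurd rfl h

/-- the sum of the divisors of a locally finite family of rational functions has locally finite
support. -/
theorem finsum_divFun_locallyFinite [IsLocallyNoetherian X] {δ : X → ℤ} (hδ : Cyc.IsDimFun X δ)
    {ι : Type*} (ξ : ι → X) (f : (i : ι) → X.residueField (ξ i))
    (hlf : ∀ x : X, ∃ W : Set X, IsOpen W ∧ x ∈ W ∧ {i | (closure {ξ i} ∩ W).Nonempty}.Finite)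
    (z : X) :
    ∃ t ∈ 𝓝 z, (t ∩ Function.support (fun x => ∑ᶠ i, Cyc.divFun δ (ξ i) (f i) x)).Finite := by
  classical
  obtain ⟨W, hWo, hzW, hWf⟩ := hlf z
  choose V hVo hzV hVf using fun i => divFun_locallyFinite hδ (ξ i) (f i) z
  refine ⟨W ∩ ⋂ i ∈ {i | (closure {ξ i} ∩ W).Nonempty}, V i, ?_, ?_⟩
  · apply Filter.inter_mem (hWo.mem_nhds hzW)
    exact (Filter.biInter_mem hWf).mpr (fun i _ => (hVo i).mem_nhds (hzV i))
  · refine (Set.Finite.biUnion hWf (fun i _ => hVf i)).subset ?_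
    rintro x ⟨⟨hxW, hxV⟩, hx⟩
    rw [Function.mem_support] at hx
    obtain ⟨i, hi⟩ : ∃ i, Cyc.divFun δ (ξ i) (f i) x ≠ 0 := by
      by_contra hcon
      push_neg at hcon
      exact hx (finsum_eq_zero_of_forall_eq_zero hcon)
    have hsp : ξ i ⤳ x := (divFun_ne_zero_specializes hi).1
    have hiI : i ∈ {i | (closure {ξ i} ∩ W).Nonempty} :=
      ⟨x, specializes_iff_mem_closure.mp hsp, hxW⟩
    refine Set.mem_iUnion₂.mpr ⟨i, hiI, ⟨?_, hi⟩⟩
    exact Set.mem_iInter₂.mp hxV i hiI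

/-- finiteness of the set of indices contributing at a point. -/
theorem finite_support_divFun {δ : X → ℤ} {ι : Type*} (ξ : ι → X)
    (f : (i : ι) → X.residueField (ξ i))
    (hlf : ∀ x : X, ∃ W : Set X, IsOpen W ∧ x ∈ W ∧ {i | (closure {ξ i} ∩ W).Nonempty}.Finite)
    (x : X) : (Function.support (fun i => Cyc.divFun δ (ξ i) (f i) x)).Finite := by
  obtain ⟨W, -, hxW, hWf⟩ := hlf x
  refine hWf.subset ?_
  intro i hi
  rw [Function.mem_support] at hi
  exact ⟨x, specializes_iff_mem_closure.mp (divFun_ne_zero_specializes hi).1, hxW⟩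

theorem map_apply_of_injective' (j : Y ⟶ X) [QuasiCompact j] [SurjectiveOnStalks j]
    (hinj : Function.Injective j) (wx : Y → ℤ) (wy : X → ℤ) (c : AlgebraicCycle Y ℤ) (y : Y)
    (hw : wx y = wy (j y)) :
    AlgebraicCycle.map j wx wy c (j y) = c y := by
  rw [map_apply]
  have hpre : (j ⁻¹' {j y} : Set Y) = {y} := by
    ext y'
    simp only [Set.mem_preimage, Set.mem_singleton_iff]
    exact ⟨fun h => hinj h, fun h => h ▸ rfl⟩
  rw [hpre, finsum_mem_singleton]
  unfold AlgebraicCycle.mapCoeff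
  rw [if_pos hw, residueDegree_eq_one]
  simp

end Part3

section Part4

open AlgebraicGeometry CategoryTheory TopologicalSpace Topology
  Groth.Agent.Lib.R2H1.RatEquivOpen

variable {X Z : Scheme.{u}}

/-- a family of rational functions on points of a closed subscheme restricts to the subscheme. -/
theorem exists_restrict_family (i : Z ⟶ X) [IsClosedImmersion i] (δ : X → ℤ) {ι : Type u}
    (ξ : ι → X) (f : (j : ι) → X.residueField (ξ j)) (hξ : ∀ j, ξ j ∈ Set.range i)
    (hlf : ∀ x : X, ∃ W : Set X, IsOpen W ∧ x ∈ W ∧ {j | (closure {ξ j} ∩ W).Nonempty}.Finite) :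
    ∃ (ζ : ι → Z) (g : (j : ι) → Z.residueField (ζ j)), (∀ j, i (ζ j) = ξ j) ∧
      (∀ j, f j ≠ 0 → g j ≠ 0) ∧
      (∀ z : Z, ∃ W : Set Z, IsOpen W ∧ z ∈ W ∧ {j | (closure {ζ j} ∩ W).Nonempty}.Finite) ∧
      ∀ j z, Cyc.divFun (fun z => δ (i z)) (ζ j) (g j) z = Cyc.divFun δ (ξ j) (f j) (i z) := by
  choose ζ hζ using hξ
  refine ⟨ζ, fun j => (i.residueFieldMap (ζ j)).hom
    ((X.residueFieldCongr (hζ j).symm).hom.hom (f j)), hζ, ?_, ?_, ?_⟩
  · intro j hj
    rw [Ne, map_eq_zero_iff _ (RingHom.injective _), map_eq_zero_iff _ (RingHom.injective _)]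
    exact hj
  · intro z
    obtain ⟨W, hWo, hzW, hWf⟩ := hlf (i z)
    refine ⟨i ⁻¹' W, hWo.preimage i.continuous, hzW, hWf.subset ?_⟩
    rintro j ⟨z', hz'1, hz'2⟩
    refine ⟨i z', ?_, hz'2⟩
    have : ζ j ⤳ z' := specializes_iff_mem_closure.mpr hz'1
    have h2 : i (ζ j) ⤳ i z' := this.map i.continuous
    rw [hζ j] at h2
    exact specializes_iff_mem_closure.mp h2
  · intro j z
    rw [divFun_preimmersion i δ (ζ j) z, divFun_congr_point]

/-- pushing forward along a closed immersion the restriction of a function vanishing outside the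
closed subscheme gives back the function. -/
theorem map_eq_of_comp {P Y : Scheme.{u}} (q : P ⟶ Y) [IsClosedImmersion q] (wx : P → ℤ)
    (wy : Y → ℤ) (hw : ∀ z, wx z = wy (q z)) (β : AlgebraicCycle P ℤ) (θ : Y → ℤ)
    (hβ : ∀ z, β z = θ (q z)) (h0 : ∀ y, y ∉ Set.range q → θ y = 0) (y : Y) :
    AlgebraicCycle.map q wx wy β y = θ y := by
  by_cases hy : y ∈ Set.range q
  · obtain ⟨z, rfl⟩ := hy
    rw [map_apply_of_injective' q q.isClosedEmbedding.injective wx wy β z (hw z), hβ]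
  · rw [map_apply_of_notMem_range q wx wy β y hy, h0 y hy]

end Part4

section Part5

open AlgebraicGeometry CategoryTheory CategoryTheory.Limits TopologicalSpace Topology
  Groth.Agent.Lib.R2H1.RatEquivOpen

theorem main (X : Scheme.{u}) (δ : X → ℤ) (hX : Cyc.IsSetup X δ) (X₁ X₂ : Scheme.{u})
    (i₁ : X₁ ⟶ X) (i₂ : X₂ ⟶ X) [IsClosedImmersion i₁] [IsClosedImmersion i₂]
    (hcov : Set.range ⇑i₁ ∪ Set.range ⇑i₂ = Set.univ) (k : ℤ) (α₁ : AlgebraicCycle X₁ ℤ)
    (α₂ : AlgebraicCycle X₂ ℤ) (h₁ : α₁ ∈ Cyc.Zk X₁ (fun x => δ (i₁ x)) k)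
    (h₂ : α₂ ∈ Cyc.Zk X₂ (fun x => δ (i₂ x)) k)
    (h : Cyc.RatEquiv δ k (AlgebraicCycle.map i₁ (fun x => δ (i₁ x)) δ α₁)
      (AlgebraicCycle.map i₂ (fun x => δ (i₂ x)) δ α₂)) :
    ∃ β : AlgebraicCycle (pullback i₁ i₂) ℤ,
      β ∈ Cyc.Zk (pullback i₁ i₂) (fun z => δ (i₁ (pullback.fst i₁ i₂ z))) k ∧
      Cyc.RatEquiv (fun x => δ (i₁ x)) k α₁
        (AlgebraicCycle.map (pullback.fst i₁ i₂) (fun z => δ (i₁ (pullback.fst i₁ i₂ z)))
          (fun x => δ (i₁ x)) β) ∧
      Cyc.RatEquiv (fun x => δ (i₂ x)) k α₂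
        (AlgebraicCycle.map (pullback.snd i₁ i₂) (fun z => δ (i₁ (pullback.fst i₁ i₂ z)))
          (fun x => δ (i₂ x)) β) := by
  classical
  obtain ⟨hN, -, hδ⟩ := hX
  haveI := hN
  obtain ⟨J, ξ, f, hξk, hf0, hlf, hsum⟩ := h
  have hcl₁ : IsClosed (Set.range ⇑i₁) := i₁.isClosedEmbedding.isClosed_range
  have hcl₂ : IsClosed (Set.range ⇑i₂) := i₂.isClosedEmbedding.isClosed_range
  have hcond : ∀ z : ↥(pullback i₁ i₂), i₁ (pullback.fst i₁ i₂ z) = i₂ (pullback.snd i₁ i₂ z) := by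
    intro z
    have := congrArg (fun φ : pullback i₁ i₂ ⟶ X => φ z) (pullback.condition (f := i₁) (g := i₂))
    simpa using this
  -- the two subfamilies
  let J₁ := {j : J // ξ j ∈ Set.range i₁}
  let J₂ := {j : J // ξ j ∉ Set.range i₁}
  have hJ₂ : ∀ j : J₂, ξ j.1 ∈ Set.range i₂ := by
    intro j
    have : ξ j.1 ∈ Set.range ⇑i₁ ∪ Set.range ⇑i₂ := hcov ▸ Set.mem_univ _
    exact this.resolve_left j.2
  have hlf₁ : ∀ x : X, ∃ W : Set X, IsOpen W ∧ x ∈ W ∧
      {j : J₁ | (closure {ξ j.1} ∩ W).Nonempty}.Finite := by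
    intro x
    obtain ⟨W, hWo, hxW, hWf⟩ := hlf x
    exact ⟨W, hWo, hxW, Set.Finite.preimage (s := {j : J | (closure {ξ j} ∩ W).Nonempty})
      (f := (Subtype.val : J₁ → J)) Subtype.val_injective.injOn hWf⟩
  have hlf₂ : ∀ x : X, ∃ W : Set X, IsOpen W ∧ x ∈ W ∧
      {j : J₂ | (closure {ξ j.1} ∩ W).Nonempty}.Finite := by
    intro x
    obtain ⟨W, hWo, hxW, hWf⟩ := hlf x
    exact ⟨W, hWo, hxW, Set.Finite.preimage (s := {j : J | (closure {ξ j} ∩ W).Nonempty})
      (f := (Subtype.val : J₂ → J)) Subtype.val_injective.injOn hWf⟩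
  obtain ⟨ζ₁, g₁, hζ₁, hg₁, hlfZ₁, hdiv₁⟩ :=
    exists_restrict_family i₁ δ (fun j : J₁ => ξ j.1) (fun j => f j.1) (fun j => j.2) hlf₁
  obtain ⟨ζ₂, g₂, hζ₂, hg₂, hlfZ₂, hdiv₂⟩ :=
    exists_restrict_family i₂ δ (fun j : J₂ => ξ j.1) (fun j => f j.1) hJ₂ hlf₂
  let D₁ : X → ℤ := fun x => ∑ᶠ j : J₁, Cyc.divFun δ (ξ j.1) (f j.1) x
  let D₂ : X → ℤ := fun x => ∑ᶠ j : J₂, Cyc.divFun δ (ξ j.1) (f j.1) x
  have hsplit : ∀ x, (∑ᶠ j, Cyc.divFun δ (ξ j) (f j) x) = D₁ x + D₂ x := by
    intro x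
    have hfin := finite_support_divFun (δ := δ) ξ f hlf x
    have e1 : D₁ x = ∑ᶠ j ∈ {j : J | ξ j ∈ Set.range i₁}, Cyc.divFun δ (ξ j) (f j) x :=
      finsum_set_coe_eq_finsum_mem (s := {j : J | ξ j ∈ Set.range i₁})
        (f := fun j => Cyc.divFun δ (ξ j) (f j) x)
    have e2 : D₂ x = ∑ᶠ j ∈ {j : J | ξ j ∈ Set.range i₁}ᶜ, Cyc.divFun δ (ξ j) (f j) x :=
      finsum_set_coe_eq_finsum_mem (s := {j : J | ξ j ∈ Set.range i₁}ᶜ)
        (f := fun j => Cyc.divFun δ (ξ j) (f j) x)
    rw [e1, e2, ← finsum_mem_union' disjoint_compl_right (hfin.subset Set.inter_subset_right)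
      (hfin.subset Set.inter_subset_right), Set.union_compl_self, finsum_mem_univ]
  have hinj₁ : Function.Injective ⇑i₁ := i₁.isClosedEmbedding.injective
  have hinj₂ : Function.Injective ⇑i₂ := i₂.isClosedEmbedding.injective
  let D₁c : AlgebraicCycle X ℤ := ⟨D₁, fun _ _ => Set.mem_univ _, fun z _ =>
    finsum_divFun_locallyFinite hδ (fun j : J₁ => ξ j.1) (fun j => f j.1) hlf₁ z⟩
  let θc : AlgebraicCycle X ℤ := AlgebraicCycle.map i₁ (fun x => δ (i₁ x)) δ α₁ - D₁c
  have hθ₁ : ∀ x, θc x = AlgebraicCycle.map i₁ (fun x => δ (i₁ x)) δ α₁ x - D₁ x := fun x => rfl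
  have hθ₂ : ∀ x, θc x = AlgebraicCycle.map i₂ (fun x => δ (i₂ x)) δ α₂ x + D₂ x := by
    intro x
    have := hsum x
    rw [Function.locallyFinsuppWithin.coe_sub, Pi.sub_apply, hsplit] at this
    rw [hθ₁]
    linarith
  have hD₁out : ∀ x, x ∉ Set.range i₁ → D₁ x = 0 := by
    intro x hx
    apply finsum_eq_zero_of_forall_eq_zero
    intro j
    by_contra hne
    have hsp := (divFun_ne_zero_specializes hne).1
    exact hx (hsp.mem_closed hcl₁ j.2)
  have hD₂out : ∀ x, x ∉ Set.range i₂ → D₂ x = 0 := by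
    intro x hx
    apply finsum_eq_zero_of_forall_eq_zero
    intro j
    by_contra hne
    have hsp := (divFun_ne_zero_specializes hne).1
    exact hx (hsp.mem_closed hcl₂ (hJ₂ j))
  have hθout₁ : ∀ x, x ∉ Set.range i₁ → θc x = 0 := by
    intro x hx
    rw [hθ₁, map_apply_of_notMem_range _ _ _ _ _ hx, hD₁out x hx]
    simp
  have hθout₂ : ∀ x, x ∉ Set.range i₂ → θc x = 0 := by
    intro x hx
    rw [hθ₂, map_apply_of_notMem_range _ _ _ _ _ hx, hD₂out x hx]
    simp
  have hD₁k : ∀ x, δ x ≠ k → D₁ x = 0 := by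
    intro x hx
    apply finsum_eq_zero_of_forall_eq_zero
    intro j
    by_contra hne
    have h2 := (divFun_ne_zero_specializes hne).2
    have := hξk j.1
    omega
  have hθk : ∀ x, δ x ≠ k → θc x = 0 := by
    intro x hx
    rw [hθ₁, hD₁k x hx, sub_zero]
    by_cases hr : x ∈ Set.range i₁
    · obtain ⟨x₁, rfl⟩ := hr
      rw [map_apply_of_injective i₁ hinj₁ δ α₁ x₁]
      exact h₁ x₁ hx
    · exact map_apply_of_notMem_range _ _ _ _ _ hr
  let q : ↥(pullback i₁ i₂) → X := fun z => i₁ (pullback.fst i₁ i₂ z)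
  have hqc : Continuous q := i₁.continuous.comp (pullback.fst i₁ i₂).continuous
  have hqi : Function.Injective q :=
    hinj₁.comp (pullback.fst i₁ i₂).isClosedEmbedding.injective
  let β : AlgebraicCycle (pullback i₁ i₂) ℤ :=
    ⟨fun z => θc (q z), fun _ _ => Set.mem_univ _, fun z _ => by
      obtain ⟨t, ht, htf⟩ := θc.supportLocallyFiniteWithinDomain (q z) (Set.mem_univ _)
      refine ⟨q ⁻¹' t, hqc.continuousAt ht, ?_⟩
      refine (htf.preimage hqi.injOn).subset ?_
      rintro z' ⟨hz't, hz's⟩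
      exact ⟨hz't, hz's⟩⟩
  have hβ : ∀ z, β z = θc (q z) := fun z => rfl
  refine ⟨β, ?_, ?_, ?_⟩
  · intro z hz
    rw [hβ]
    exact hθk _ hz
  · refine ⟨J₁, ζ₁, g₁, ?_, ?_, hlfZ₁, ?_⟩
    · intro j
      change δ (i₁ (ζ₁ j)) = k + 1
      rw [hζ₁ j]
      exact hξk j.1
    · intro j
      exact hg₁ j (hf0 j.1)
    · intro x₁
      rw [Function.locallyFinsuppWithin.coe_sub, Pi.sub_apply,
        map_eq_of_comp (pullback.fst i₁ i₂) (fun z => δ (i₁ (pullback.fst i₁ i₂ z)))
          (fun x => δ (i₁ x)) (fun z => rfl) β (fun x₁ => θc (i₁ x₁))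
          (fun z => rfl) ?_ x₁]
      · rw [hθ₁, map_apply_of_injective i₁ hinj₁ δ α₁ x₁, sub_sub_cancel]
        exact finsum_congr (fun j => (hdiv₁ j x₁).symm)
      · intro y hy
        apply hθout₂
        rw [Scheme.Pullback.range_fst] at hy
        exact hy
  · refine ⟨J₂, ζ₂, fun j => (g₂ j)⁻¹, ?_, ?_, hlfZ₂, ?_⟩
    · intro j
      change δ (i₂ (ζ₂ j)) = k + 1
      rw [hζ₂ j]
      exact hξk j.1
    · intro j
      exact inv_ne_zero (hg₂ j (hf0 j.1))
    · intro x₂
      rw [Function.locallyFinsuppWithin.coe_sub, Pi.sub_apply,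
        map_eq_of_comp (pullback.snd i₁ i₂) (fun z => δ (i₁ (pullback.fst i₁ i₂ z)))
          (fun x => δ (i₂ x)) (fun z => congrArg δ (hcond z)) β
          (fun x₂ => θc (i₂ x₂)) (fun z => by rw [hβ]; exact congrArg θc (hcond z)) ?_ x₂]
      · rw [hθ₂, map_apply_of_injective i₂ hinj₂ δ α₂ x₂]
        have : α₂ x₂ - (α₂ x₂ + D₂ (i₂ x₂)) = - D₂ (i₂ x₂) := by ring
        rw [this, ← finsum_neg_distrib]
        exact finsum_congr (fun j => by rw [divFun_inv, hdiv₂ j x₂])
      · intro y hy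
        apply hθout₁
        rw [Scheme.Pullback.range_snd] at hy
        exact hy

end Part5

end Groth.Agent.Lib.R2H1.RatEquivClosed
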