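/-
Divisors of sections of invertible modules on integral schemes (S1923).
Reusable: `ordFrac_eq`, `ordFrac_algebraMap` (CycAlg.ordFrac of an element of R is its order = length R/(x)),
`stalkSpecializes_smul` (specialization maps on stalks of modules are semilinear),
`ordAt_generic` (integral X, codim one point x, f in O_{X,x} nonzero: Cyc.ordAt x η (f) = length O_{X,x}/(f)),
`main` (S1923: div_L(s) = [Z(s)]_{n-1}).
-/
import Mathlib
import Groth.Prelude.Def_Cyc
import Groth.Prelude.Def_C1
import Groth.Prelude.Def_Pic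
import Groth.Agent.Lib.Helper20InvGen
import Groth.Agent.Lib.Helper8OrdRestrict
import Groth.Agent.Lib.R2H1RatEquivOpen
import Groth.Agent.S6459

set_option autoImplicit false
set_option linter.style.haveILetI false
set_option linter.unusedSectionVars false
universe u v

namespace Groth.Agent.Lib.R2H1.SecDiv

section Part1

open AlgebraicGeometry CategoryTheory TopologicalSpace Groth.Agent.Lib.Helper2
  Groth.Agent.Lib.Helper20.InvGen Groth.Agent.Lib.R2H1.RatEquivOpen
  Groth.Agent.Lib.Helper8.OrdRestrict

section OrdFrac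

variable (R : Type u) [CommRing R] [IsDomain R] [IsNoetherianRing R] [Ring.KrullDimLE 1 R]
  (K : Type v) [Field K] [Algebra R K] [IsFractionRing R K]

theorem ordFrac_eq (f : K) : CycAlg.ordFrac R K f =
    WithZero.recZeroCoe (motive := fun _ => ℤ) 0 (fun z => Multiplicative.toAdd z)
      (Ring.ordFrac R f) := by
  unfold CycAlg.ordFrac
  rw [dif_pos ⟨inferInstance, inferInstance, inferInstance, inferInstance⟩]

theorem ordFrac_algebraMap {x : R} (hx : x ≠ 0) :
    CycAlg.ordFrac R K (algebraMap R K x) = ((Ring.ord R x).toNat : ℤ) := by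
  have hx' := mem_nonZeroDivisors_of_ne_zero hx
  rw [ordFrac_eq, Ring.ordFrac_eq_ord R hx,
    Ring.ordMonoidWithZeroHom_eq_coe R hx' (ENat.coe_toNat (Ring.ord_ne_top hx')).symm]
  rfl

end OrdFrac

variable {X : Scheme.{u}}

/-- specialization maps of stalks of a module are semilinear. -/
theorem stalkSpecializes_smul (L : X.Modules) {x ξ : X} (h : ξ ⤳ x) (c : X.presheaf.stalk x)
    (m : L.presheaf.stalk x) :
    (L.presheaf.stalkSpecializes h) (c • m) =
      (X.presheaf.stalkSpecializes h c) • (L.presheaf.stalkSpecializes h m) := by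
  obtain ⟨W₁, hx₁, r, rfl⟩ := X.presheaf.exists_germ_eq c
  obtain ⟨W₂, hx₂, m₀, rfl⟩ := L.presheaf.exists_germ_eq m
  have hx : x ∈ W₁ ⊓ W₂ := ⟨hx₁, hx₂⟩
  have hξ : ξ ∈ W₁ ⊓ W₂ := h.mem_open (W₁ ⊓ W₂).isOpen hx
  rw [← TopCat.Presheaf.germ_res_apply X.presheaf (homOfLE (inf_le_left : W₁ ⊓ W₂ ≤ W₁)) x hx r,
    ← TopCat.Presheaf.germ_res_apply L.presheaf (homOfLE (inf_le_right : W₁ ⊓ W₂ ≤ W₂)) x hx m₀,
    ← QCoh.germ_smul]
  have e1 : ∀ z : Γ(L, W₁ ⊓ W₂), (L.presheaf.stalkSpecializes h) (L.presheaf.germ _ x hx z) =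
      L.presheaf.germ _ ξ hξ z := fun z =>
    ConcreteCategory.congr_hom (TopCat.Presheaf.germ_stalkSpecializes L.presheaf hx h) z
  have e2 : ∀ z : Γ(X, W₁ ⊓ W₂), (X.presheaf.stalkSpecializes h) (X.presheaf.germ _ x hx z) =
      X.presheaf.germ _ ξ hξ z := fun z =>
    ConcreteCategory.congr_hom (TopCat.Presheaf.germ_stalkSpecializes X.presheaf hx h) z
  rw [e1, e1, e2, QCoh.germ_smul]

/-- order of a nonzero element of the local ring of an integral scheme at a point of codimension
one, along the specialization from the generic point. -/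
theorem ordAt_generic [IsIntegral X] [IsLocallyNoetherian X] (x : X)
    (hdim : ringKrullDim (X.presheaf.stalk x) = 1) (h : genericPoint X ⤳ x)
    (f : X.presheaf.stalk x) (hf : f ≠ 0) :
    Cyc.ordAt x (genericPoint X) h (X.residue (genericPoint X) (X.presheaf.stalkSpecializes h f)) =
      ((Module.length (X.presheaf.stalk x)
        (X.presheaf.stalk x ⧸ Ideal.span {f})).toNat : ℤ) := by
  set η := genericPoint X with hη
  haveI : Ring.KrullDimLE 1 (X.presheaf.stalk x) := Ring.krullDimLE_iff.mpr (by rw [hdim]; rfl)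
  have hresinj : Function.Injective (X.residue η).hom :=
    RingHom.injective ((X.residue η).hom : X.functionField →+* X.residueField η)
  let eK : X.functionField ≃+* X.residueField η :=
    RingEquiv.ofBijective (X.residue η).hom ⟨hresinj, X.residue_surjective η⟩
  have hspec : ∀ r : X.presheaf.stalk x, Cyc.specMap x η h r =
      eK (algebraMap (X.presheaf.stalk x) X.functionField r) := fun r => rfl
  have hker : RingHom.ker (Cyc.specMap x η h) = ⊥ := by
    rw [RingHom.ker_eq_bot_iff_eq_zero]
    intro r hr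
    rw [hspec, map_eq_zero_iff _ eK.injective] at hr
    exact (map_eq_zero_iff _ (IsFractionRing.injective (X.presheaf.stalk x) X.functionField)).mp hr
  let e : X.presheaf.stalk x ≃+* Cyc.LocQuot x η h :=
    (RingEquiv.quotientBot (X.presheaf.stalk x)).symm.trans (Ideal.quotEquivOfEq hker.symm)
  have he : ∀ r, e r = Ideal.Quotient.mk _ r := fun r => rfl
  have hcomm : ∀ r, eK (algebraMap (X.presheaf.stalk x) X.functionField r) =
      algebraMap (Cyc.LocQuot x η h) (X.residueField η) (e r) := by
    intro r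
    have h3 : algebraMap (Cyc.LocQuot x η h) (X.residueField η)
        (Ideal.Quotient.mk (RingHom.ker (Cyc.specMap x η h)) r) = Cyc.specMap x η h r := by
      rw [RingHom.algebraMap_toAlgebra, Ideal.Quotient.lift_mk]
    rw [he, h3, hspec]
  unfold Cyc.ordAt
  have h1 := ordFrac_congr e eK hcomm (algebraMap (X.presheaf.stalk x) X.functionField f)
  have h2 : X.residue η (X.presheaf.stalkSpecializes h f) =
      eK (algebraMap (X.presheaf.stalk x) X.functionField f) := rfl
  rw [h2, ← h1, ordFrac_algebraMap _ _ hf]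
  rfl

end Part1

section Part2

open AlgebraicGeometry CategoryTheory TopologicalSpace Groth.Agent.Lib.Helper2
  Groth.Agent.Lib.Helper20.InvGen Groth.Agent.Lib.R2H1.RatEquivOpen
  Groth.Agent.Lib.Helper8.OrdRestrict

theorem main (X : Scheme.{u}) [IsIntegral X] (δ : X → ℤ) (hX : Cyc.IsSetup X δ) (n : ℤ)
    (hn : δ (genericPoint X) = n) (L : X.Modules) (hL : PicF.IsInvertible L)
    (s : L.presheaf.obj (Opposite.op ⊤))
    (hs : (L.presheaf.germ ⊤ (genericPoint X) trivial) s ≠ 0) :
    Cyc.secDivFun δ L (genericPoint X)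
      (Submodule.Quotient.mk ((L.presheaf.germ ⊤ (genericPoint X) trivial) s)) =
      Cyc.zeroSectionFun δ (n - 1) L s := by
  classical
  haveI : IsLocallyNoetherian X := hX.1
  funext x
  have h : genericPoint X ⤳ x := (genericPoint_spec X).specializes trivial
  unfold Cyc.secDivFun Cyc.zeroSectionFun
  by_cases hx : δ x = n - 1
  swap
  · rw [dif_neg (by rintro ⟨-, h2⟩; omega), if_neg hx]
  rw [dif_pos ⟨h, by omega⟩, if_pos hx]
  have hdim : ringKrullDim (X.presheaf.stalk x) = 1 :=
    (Groth.Agent.S6459.result X δ hX x).mpr (by rw [hn]; exact hx)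
  obtain ⟨W, t₀, hxW, ht₀⟩ := exists_local_generator L hL x
  have hηW : genericPoint X ∈ W := h.mem_open W.isOpen hxW
  set tx := L.presheaf.germ W x hxW t₀ with htxdef
  have htx := ht₀ x hxW
  have htη := ht₀ (genericPoint X) hηW
  have hspt : L.presheaf.stalkSpecializes h tx = L.presheaf.germ W (genericPoint X) hηW t₀ :=
    ConcreteCategory.congr_hom (TopCat.Presheaf.germ_stalkSpecializes L.presheaf hxW h) t₀
  have hsps : L.presheaf.stalkSpecializes h ((L.presheaf.germ ⊤ x trivial) s) =
      (L.presheaf.germ ⊤ (genericPoint X) trivial) s :=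
    ConcreteCategory.congr_hom (TopCat.Presheaf.germ_stalkSpecializes L.presheaf
      (U := ⊤) (show x ∈ (⊤ : X.Opens) from trivial) h) s
  have ht : ∃ t : L.presheaf.stalk x, Submodule.span (X.presheaf.stalk x) {t} = ⊤ := by
    refine ⟨tx, ?_⟩
    rw [eq_top_iff]
    intro m _
    obtain ⟨c, hc⟩ := htx.2 m
    exact Submodule.mem_span_singleton.mpr ⟨c, hc⟩
  unfold Cyc.secOrdAt
  rw [dif_pos ht, dif_pos ht]
  have ht' := Classical.choose_spec ht
  set t := Classical.choose ht with htdef
  -- `t = u • tx` with `u` a unit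
  obtain ⟨u, hu⟩ := htx.2 t
  have hu' : u • tx = t := hu
  have hmem : tx ∈ Submodule.span (X.presheaf.stalk x) {t} := by rw [ht']; trivial
  obtain ⟨v, hv⟩ := Submodule.mem_span_singleton.1 hmem
  have hvu : v * u = 1 := by
    apply htx.1
    change (v * u) • tx = (1 : X.presheaf.stalk x) • tx
    rw [mul_smul, one_smul, hu', hv]
  have huu : IsUnit u := IsUnit.of_mul_eq_one_right v hvu
  have hf : ∃ f : X.presheaf.stalk x, (L.presheaf.germ ⊤ x trivial) s = f • t := by
    have : (L.presheaf.germ ⊤ x trivial) s ∈ Submodule.span (X.presheaf.stalk x) {t} := by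
      rw [ht']; trivial
    obtain ⟨c, hc⟩ := Submodule.mem_span_singleton.1 this
    exact ⟨c, hc.symm⟩
  rw [dif_pos hf]
  have hf' := Classical.choose_spec hf
  set f := Classical.choose hf with hfdef
  have hf0 : f ≠ 0 := by
    intro h0
    apply hs
    rw [← hsps, hf', h0, zero_smul, map_zero]
  set tη := L.presheaf.stalkSpecializes h t with htηdef
  have htη_eq : tη = X.presheaf.stalkSpecializes h u • L.presheaf.germ W (genericPoint X) hηW t₀ := by
    rw [htηdef, ← hu', stalkSpecializes_smul, hspt]
  have huη : IsUnit (X.presheaf.stalkSpecializes h u) := huu.map _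
  have htη_inj : ∀ c c' : X.presheaf.stalk (genericPoint X), c • tη = c' • tη → c = c' := by
    intro c c' hcc
    rw [htη_eq, ← mul_smul, ← mul_smul] at hcc
    have := htη.1 hcc
    exact huη.mul_left_injective this
  have hsη : (L.presheaf.germ ⊤ (genericPoint X) trivial) s =
      X.presheaf.stalkSpecializes h f • tη := by
    rw [← hsps, hf', stalkSpecializes_smul]
  have hφ : ∃ φ : X.presheaf.stalk (genericPoint X),
      (Submodule.Quotient.mk ((L.presheaf.germ ⊤ (genericPoint X) trivial) s) :
        Cyc.secFibre L (genericPoint X)) =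
      φ • (Submodule.Quotient.mk tη : Cyc.secFibre L (genericPoint X)) :=
    ⟨X.presheaf.stalkSpecializes h f, by rw [hsη, Submodule.Quotient.mk_smul]⟩
  rw [dif_pos hφ]
  have hφ' := Classical.choose_spec hφ
  set φ := Classical.choose hφ with hφdef
  have hmax : IsLocalRing.maximalIdeal (X.presheaf.stalk (genericPoint X)) = ⊥ :=
    IsLocalRing.maximalIdeal_eq_bot
  have hφeq : φ = X.presheaf.stalkSpecializes h f := by
    apply htη_inj
    rw [← Submodule.Quotient.mk_smul, Submodule.Quotient.eq, hmax, Submodule.bot_smul,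
      Submodule.mem_bot, sub_eq_zero] at hφ'
    rw [← hφ', hsη]
  rw [hφeq]
  exact ordAt_generic x hdim h f hf0

end Part2

end Groth.Agent.Lib.R2H1.SecDiv
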