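/-
Algebraic description of Cyc.ordAt / Cyc.LocQuot and the zero scheme of a regular section (S1925).
Reusable: fromSpecStalk_ker_specMap / ker_specMap_fromSpecStalk (the prime of O_{X,x} of a generization xi is ker (specMap x xi h)),
isLocalization_atPrime_of_tower, isLocalization_stalkSpecializes (O_{X,xi} is the localization of O_{X,x} at that prime, algebra = stalkSpecializes),
algebraMap_locQuot_mk, algebraMap_locQuot_injective, isFractionRing_locQuot (instance: kappa(xi) = Frac(O_{X,x}/p_xi), unconditional),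
locQuot_good (the four conditions of CycAlg.ordFrac for an immediate specialization), ringKrullDim_locQuot, ordAt_specMap, ordAt_mul,
mem_minimalPrimes_of_ne_maximal, finite_ne_maximal, length_quot_smul_eq_sum (Z-valued S1833 for dim <= 1),
length_of_isLocalization, ringKrullDim_stalk_le_one, length_eq_finsum (length O_{X,x}/(b) = sum over codim-one generizations of length(O_xi) * ordAt),
residue_eq_zero_of_smul_mk_eq_zero, secOrdAt_eq (Cyc.secOrdAt via a local free generator), subschemeFun_id, main (S1925).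
-/
import Mathlib
import Groth.Prelude.Def_Cyc
import Groth.Prelude.Def_C1
import Groth.Agent.S1833
import Groth.Agent.Lib.Helper4DimFormulaY
import Groth.Agent.Lib.Helper4DimFormulaAE
import Groth.Agent.Lib.Helper5SuppDim
import Groth.Agent.Lib.Helper20InvGen
import Groth.Agent.Lib.R2H1KeyLemma
import Groth.Agent.Lib.R2H1PowLen
import Groth.Agent.Lib.R2H1SecDiv
import Groth.Agent.Lib.R2H1RatEquivOpen
import Groth.Agent.Lib.R2H1RatEquivClosed

set_option autoImplicit false
set_option linter.style.haveILetI false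
set_option linter.unusedSectionVars false
universe u v

namespace Groth.Agent.Lib.R2H1.LocQuot

section Part1

open AlgebraicGeometry CategoryTheory TopologicalSpace IsLocalRing

variable {X : Scheme.{u}}

instance ker_specMap_isPrime (x ξ : X) (h : ξ ⤳ x) : (RingHom.ker (Cyc.specMap x ξ h)).IsPrime :=
  RingHom.ker_isPrime _

/-- the prime of `O_{X,x}` corresponding to a generization `ξ` of `x` is `ker (specMap x ξ h)`. -/
theorem fromSpecStalk_ker_specMap (x ξ : X) (h : ξ ⤳ x) :
    X.fromSpecStalk x ⟨RingHom.ker (Cyc.specMap x ξ h), inferInstance⟩ = ξ := by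
  have h1 := Scheme.SpecMap_stalkSpecializes_fromSpecStalk (X := X) h
  have h2 : (Spec.map (X.presheaf.stalkSpecializes h) ≫ X.fromSpecStalk x)
      (closedPoint (X.presheaf.stalk ξ)) = ξ := by
    rw [h1, Scheme.fromSpecStalk_closedPoint]
  rw [Scheme.Hom.comp_apply] at h2
  convert h2 using 2
  apply PrimeSpectrum.ext
  ext a
  change a ∈ RingHom.ker (Cyc.specMap x ξ h) ↔
    (X.presheaf.stalkSpecializes h).hom a ∈ maximalIdeal (X.presheaf.stalk ξ)
  rw [RingHom.mem_ker]
  unfold Cyc.specMap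
  rw [CommRingCat.hom_comp, RingHom.comp_apply]
  exact IsLocalRing.residue_eq_zero_iff _

theorem ker_specMap_fromSpecStalk (x : X) (p : Ideal (X.presheaf.stalk x)) [hp : p.IsPrime]
    (h : X.fromSpecStalk x ⟨p, hp⟩ ⤳ x) :
    RingHom.ker (Cyc.specMap x (X.fromSpecStalk x ⟨p, hp⟩) h) = p := by
  have h1 := fromSpecStalk_ker_specMap x _ h
  exact Groth.Agent.Lib.Helper4.DimFormula.fromSpecStalk_injective x _ _ h1

end Part1

section Part2

open AlgebraicGeometry CategoryTheory TopologicalSpace IsLocalRing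

section Alg

variable {R S T : Type*} [CommRing R] [CommRing S] [CommRing T] [Algebra R S] [Algebra R T]
  [Algebra S T] [IsScalarTower R S T]

/-- localization of a localization at a prime: if `S = R_{q'}`, `T = R_q` with `q ≤ q'` and `p` is
a prime of `S` lying over `q`, then `T = S_p`. -/
theorem isLocalization_atPrime_of_tower (q q' : Ideal R) [q.IsPrime] [q'.IsPrime] (hle : q ≤ q')
    [IsLocalization.AtPrime S q'] [IsLocalization.AtPrime T q] (p : Ideal S) [p.IsPrime]
    (hp : p.under R = q) : IsLocalization.AtPrime T p := by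
  have hMN : q'.primeCompl ≤ q.primeCompl := fun a ha haq => ha (hle haq)
  haveI h1 : IsLocalization (q.primeCompl.map (algebraMap R S)) T :=
    IsLocalization.isLocalization_of_submonoid_le S T q'.primeCompl q.primeCompl hMN
  have hle2 : q.primeCompl.map (algebraMap R S) ≤ p.primeCompl := by
    rintro _ ⟨r, hr, rfl⟩ hrp
    apply hr
    rw [← hp]
    exact hrp
  refine IsLocalization.isLocalization_of_is_exists_mul_mem T
    (q.primeCompl.map (algebraMap R S)) p.primeCompl hle2 ?_
  rintro ⟨s, hs⟩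
  obtain ⟨⟨r, u⟩, hru⟩ := IsLocalization.surj q'.primeCompl s
  refine ⟨algebraMap R S u, r, ?_, ?_⟩
  · intro hrq
    rw [← hp] at hrq
    have hrp : algebraMap R S r ∈ p := hrq
    rw [← hru] at hrp
    rcases Ideal.IsPrime.mem_or_mem ‹p.IsPrime› hrp with h | h
    · exact hs h
    · have hunit : IsUnit (algebraMap R S (u : R)) := IsLocalization.map_units S u
      exact (Ideal.IsPrime.ne_top ‹p.IsPrime›) (Ideal.eq_top_of_isUnit_mem _ h hunit)
  · change algebraMap R S r = algebraMap R S u * s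
    rw [← hru, mul_comm]

end Alg

variable {X : Scheme.{u}}

/-- `O_{X,ξ}` is the localization of `O_{X,x}` at the prime of `ξ`, for `ξ ⤳ x`. -/
theorem isLocalization_stalkSpecializes (x ξ : X) (h : ξ ⤳ x) :
    letI := (X.presheaf.stalkSpecializes h).hom.toAlgebra
    IsLocalization.AtPrime (X.presheaf.stalk ξ) (RingHom.ker (Cyc.specMap x ξ h)) := by
  letI := (X.presheaf.stalkSpecializes h).hom.toAlgebra
  obtain ⟨V, hV, hxV, -⟩ := exists_isAffineOpen_mem_and_subset (U := ⊤) (x := x) (by simp)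
  have hξV : ξ ∈ V := h.mem_open V.2 hxV
  letI a1 := X.presheaf.algebra_section_stalk (U := V) ⟨x, hxV⟩
  letI a2 := X.presheaf.algebra_section_stalk (U := V) ⟨ξ, hξV⟩
  haveI := hV.isLocalization_stalk ⟨x, hxV⟩
  haveI := hV.isLocalization_stalk ⟨ξ, hξV⟩
  haveI : IsScalarTower Γ(X, V) (X.presheaf.stalk x) (X.presheaf.stalk ξ) := by
    refine IsScalarTower.of_algebraMap_eq fun a => ?_
    have h1 := TopCat.Presheaf.germ_stalkSpecializes X.presheaf hxV h
    change (X.presheaf.germ V ξ hξV).hom a =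
      (X.presheaf.stalkSpecializes h).hom ((X.presheaf.germ V x hxV).hom a)
    rw [← h1]
    rfl
  have hle : (hV.primeIdealOf ⟨ξ, hξV⟩).asIdeal ≤ (hV.primeIdealOf ⟨x, hxV⟩).asIdeal :=
    (Groth.Agent.Lib.Helper4.VarDim.primeIdealOf_le_iff hV ξ x hξV hxV).mpr h
  exact isLocalization_atPrime_of_tower (hV.primeIdealOf ⟨ξ, hξV⟩).asIdeal
    (hV.primeIdealOf ⟨x, hxV⟩).asIdeal hle (RingHom.ker (Cyc.specMap x ξ h))
    (Groth.Agent.Lib.Helper4.DimFormula.ker_specMap_under hV x ξ h hxV hξV)

end Part2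

section Part3

open AlgebraicGeometry CategoryTheory TopologicalSpace IsLocalRing

variable {X : Scheme.{u}}

theorem algebraMap_locQuot_mk (x ξ : X) (h : ξ ⤳ x) (b : X.presheaf.stalk x) :
    algebraMap (Cyc.LocQuot x ξ h) (X.residueField ξ)
      (Ideal.Quotient.mk (RingHom.ker (Cyc.specMap x ξ h)) b) = Cyc.specMap x ξ h b := by
  rw [RingHom.algebraMap_toAlgebra, Ideal.Quotient.lift_mk]

theorem algebraMap_locQuot_injective (x ξ : X) (h : ξ ⤳ x) :
    Function.Injective (algebraMap (Cyc.LocQuot x ξ h) (X.residueField ξ)) := by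
  rw [RingHom.algebraMap_toAlgebra]
  exact RingHom.lift_injective_of_ker_le_ideal _ _ le_rfl

instance (x ξ : X) (h : ξ ⤳ x) : FaithfulSMul (Cyc.LocQuot x ξ h) (X.residueField ξ) :=
  (faithfulSMul_iff_algebraMap_injective _ _).mpr (algebraMap_locQuot_injective x ξ h)

/-- `κ(ξ)` is the fraction field of `O_{X,x}/𝔭_ξ`. -/
instance isFractionRing_locQuot (x ξ : X) (h : ξ ⤳ x) :
    IsFractionRing (Cyc.LocQuot x ξ h) (X.residueField ξ) := by
  refine IsFractionRing.of_field _ _ fun z => ?_
  letI := (X.presheaf.stalkSpecializes h).hom.toAlgebra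
  haveI := isLocalization_stalkSpecializes x ξ h
  obtain ⟨t, rfl⟩ := X.residue_surjective ξ z
  obtain ⟨⟨s, u⟩, hsu⟩ := IsLocalization.surj (RingHom.ker (Cyc.specMap x ξ h)).primeCompl t
  refine ⟨Ideal.Quotient.mk _ s, Ideal.Quotient.mk _ u.1, ?_⟩
  rw [algebraMap_locQuot_mk, algebraMap_locQuot_mk]
  have hu : Cyc.specMap x ξ h u.1 ≠ 0 := fun h0 => u.2 (RingHom.mem_ker.mpr h0)
  rw [eq_div_iff hu]
  have := congrArg (X.residue ξ).hom hsu
  rw [map_mul] at this
  exact this

/-- the condition of `CycAlg.ordFrac` for an immediate specialization. -/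
theorem locQuot_good [IsLocallyNoetherian X] {δ : X → ℤ} (hδ : Cyc.IsDimFun X δ) (x ξ : X)
    (h : ξ ⤳ x) (hd : δ x + 1 = δ ξ) :
    IsNoetherianRing (Cyc.LocQuot x ξ h) ∧ Ring.KrullDimLE 1 (Cyc.LocQuot x ξ h) ∧
      Nontrivial (Cyc.LocQuot x ξ h) ∧ IsFractionRing (Cyc.LocQuot x ξ h) (X.residueField ξ) := by
  refine ⟨inferInstance, ?_, inferInstance, inferInstance⟩
  obtain ⟨k, hk, hk'⟩ :=
    Groth.Agent.Lib.Helper4.DimFormula.isDimFun_eq_add_locQuotDim X δ hδ x ξ h
  have hk1 : k = 1 := by omega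
  subst hk1
  rw [Ring.krullDimLE_iff, hk]

theorem ringKrullDim_locQuot [IsLocallyNoetherian X] {δ : X → ℤ} (hδ : Cyc.IsDimFun X δ) (x ξ : X)
    (h : ξ ⤳ x) (hd : δ x + 1 = δ ξ) : ringKrullDim (Cyc.LocQuot x ξ h) = 1 := by
  obtain ⟨k, hk, hk'⟩ :=
    Groth.Agent.Lib.Helper4.DimFormula.isDimFun_eq_add_locQuotDim X δ hδ x ξ h
  have hk1 : k = 1 := by omega
  subst hk1
  rw [hk]
  rfl

open Groth.Agent.Lib.R2H1.KeyLemma in
/-- the order of the image of `b ∈ O_{X,x}` in `κ(ξ)` is the length of `(O_{X,x}/𝔭_ξ)/(b)`. -/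
theorem ordAt_specMap [IsLocallyNoetherian X] {δ : X → ℤ} (hδ : Cyc.IsDimFun X δ) (x ξ : X)
    (h : ξ ⤳ x) (hd : δ x + 1 = δ ξ) (b : X.presheaf.stalk x) (hb : Cyc.specMap x ξ h b ≠ 0) :
    Cyc.ordAt x ξ h (Cyc.specMap x ξ h b) =
      ((Ring.ord (Cyc.LocQuot x ξ h)
        (Ideal.Quotient.mk (RingHom.ker (Cyc.specMap x ξ h)) b)).toNat : ℤ) := by
  obtain ⟨h1, h2, h3, h4⟩ := locQuot_good hδ x ξ h hd
  haveI : IsDomain (Cyc.LocQuot x ξ h) := (algebraMap_locQuot_injective x ξ h).isDomain
  unfold Cyc.ordAt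
  rw [← algebraMap_locQuot_mk]
  refine ordFrac_algebraMap _ _ ?_
  intro h0
  apply hb
  rw [← algebraMap_locQuot_mk, h0, map_zero]

open Groth.Agent.Lib.R2H1.KeyLemma in
theorem ordAt_mul [IsLocallyNoetherian X] {δ : X → ℤ} (hδ : Cyc.IsDimFun X δ) (x ξ : X)
    (h : ξ ⤳ x) (hd : δ x + 1 = δ ξ) {f g : X.residueField ξ} (hf : f ≠ 0) (hg : g ≠ 0) :
    Cyc.ordAt x ξ h (f * g) = Cyc.ordAt x ξ h f + Cyc.ordAt x ξ h g := by
  obtain ⟨h1, h2, h3, h4⟩ := locQuot_good hδ x ξ h hd
  haveI : IsDomain (Cyc.LocQuot x ξ h) := (algebraMap_locQuot_injective x ξ h).isDomain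
  exact ordFrac_mul _ _ hf hg

end Part3

section Part4

open IsLocalRing Pointwise Groth.Agent.Lib.Helper5

variable {A : Type u} [CommRing A] [IsNoetherianRing A] [IsLocalRing A]

theorem mem_minimalPrimes_of_ne_maximal (hA : ringKrullDim A ≤ 1) (p : Ideal A) [p.IsPrime]
    (hpm : p ≠ maximalIdeal A) : p ∈ minimalPrimes A := by
  have hm : (maximalIdeal A).height ≤ 1 := by
    have h1 := IsLocalRing.maximalIdeal_height_eq_ringKrullDim (R := A)
    rw [← h1] at hA
    exact_mod_cast hA
  have hlt : p < maximalIdeal A :=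
    lt_of_le_of_ne (IsLocalRing.le_maximalIdeal (Ideal.IsPrime.ne_top inferInstance)) hpm
  have h1 := (Ideal.height_add_one_le_of_lt_of_isPrime hlt).trans hm
  rw [← Ideal.height_eq_zero_iff]
  by_contra h0
  have h2 : 1 ≤ p.height := Order.one_le_iff_pos.mpr (pos_iff_ne_zero.mpr h0)
  have h3 : (1 : ℕ∞) + 1 ≤ 1 := (add_le_add h2 le_rfl).trans h1
  exact absurd h3 (by decide)

theorem finite_ne_maximal (hA : ringKrullDim A ≤ 1) :
    {p : PrimeSpectrum A | p.asIdeal ≠ maximalIdeal A}.Finite := by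
  have hmin := minimalPrimes.finite_of_isNoetherianRing A
  have hpre : {p : PrimeSpectrum A | p.asIdeal ∈ minimalPrimes A}.Finite :=
    Set.Finite.preimage (fun a _ b _ h => PrimeSpectrum.ext h) hmin
  exact hpre.subset fun p hp => mem_minimalPrimes_of_ne_maximal hA p.asIdeal hp

theorem length_localization_ne_top (M : Type u) [AddCommGroup M] [Module A M] [Module.Finite A M]
    (p : Ideal A) [p.IsPrime] (hp : p ∈ minimalPrimes A) :
    Module.length (Localization.AtPrime p) (LocalizedModule p.primeCompl M) ≠ ⊤ := by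
  have h1 : ringKrullDim (Localization.AtPrime p) = p.height :=
    IsLocalization.AtPrime.ringKrullDim_eq_height p _
  rw [Ideal.height_eq_zero_iff.mpr hp] at h1
  have h2 : Ring.KrullDimLE 0 (Localization.AtPrime p) :=
    Ring.krullDimLE_iff.mpr (le_of_eq (by rw [h1]; rfl))
  have h3 : IsArtinianRing (Localization.AtPrime p) := isArtinianRing_iff_krullDimLE_zero.mpr h2
  have h4 : IsArtinian (Localization.AtPrime p) (LocalizedModule p.primeCompl M) :=
    isArtinian_of_fg_of_artinian'
  exact Module.length_ne_top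

open Classical in
/-- `length (M / aM)` as a sum over the non-maximal primes (from `S1833`), for a local ring of
dimension at most one, `a` regular on `M` and outside all non-maximal primes. -/
theorem length_quot_smul_eq_sum (hA : ringKrullDim A ≤ 1) {M : Type u} [AddCommGroup M]
    [Module A M] [Module.Finite A M] (a : A) (hreg : IsSMulRegular M a)
    (ha : ∀ p : PrimeSpectrum A, p.asIdeal ≠ maximalIdeal A → a ∉ p.asIdeal)
    (F : Finset (PrimeSpectrum A)) (hF : ∀ p, p ∈ F ↔ p.asIdeal ≠ maximalIdeal A) :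
    ((Module.length A (M ⧸ a • (⊤ : Submodule A M))).toNat : ℤ) =
      ∑ p ∈ F, (if p ∈ Module.support A M then
        ((Module.length (Localization.AtPrime p.asIdeal)
          (LocalizedModule p.asIdeal.primeCompl M)).toNat : ℤ) *
          ((Ring.ord (A ⧸ p.asIdeal) (Ideal.Quotient.mk p.asIdeal a)).toNat : ℤ) else 0) := by
  classical
  have h1 : Module.supportDim A M ≤ 1 := (Module.supportDim_le_ringKrullDim A M).trans hA
  have h0 : Module.supportDim A (M ⧸ a • (⊤ : Submodule A M)) ≤ 0 := by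
    apply supportDim_le_zero_of_forall_isMaximal
    intro p hp
    have hap : a ∈ p.asIdeal := by
      apply Module.annihilator_le_of_mem_support hp
      rw [Module.mem_annihilator]
      intro x
      obtain ⟨y, rfl⟩ := Submodule.Quotient.mk_surjective _ x
      rw [← Submodule.Quotient.mk_smul, Submodule.Quotient.mk_eq_zero]
      exact Submodule.smul_mem_pointwise_smul y a ⊤ trivial
    have hpm : p.asIdeal = maximalIdeal A := by
      by_contra hne
      exact ha p hne hap
    rw [hpm]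
    infer_instance
  have res := Groth.Agent.S1833.result A M a h1 h0
  have hker : LinearMap.ker (LinearMap.lsmul A M a) = ⊥ := LinearMap.ker_eq_bot.mpr hreg
  rw [hker, Module.length_bot, zero_add] at res
  have hsum : (∑ᶠ (p : PrimeSpectrum A) (_ : p ∈ Module.support A M ∧
      p.asIdeal ≠ maximalIdeal A),
        Ring.ord (A ⧸ p.asIdeal) (Ideal.Quotient.mk p.asIdeal a) *
          Module.length (Localization.AtPrime p.asIdeal)
            (LocalizedModule p.asIdeal.primeCompl M)) =
      ∑ p ∈ F, (if p ∈ Module.support A M then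
        Ring.ord (A ⧸ p.asIdeal) (Ideal.Quotient.mk p.asIdeal a) *
          Module.length (Localization.AtPrime p.asIdeal)
            (LocalizedModule p.asIdeal.primeCompl M) else 0) := by
    rw [finsum_eq_sum_of_support_subset (s := F)]
    · refine Finset.sum_congr rfl fun p hp => ?_
      have hpm := (hF p).mp hp
      rw [finsum_eq_if]
      by_cases hps : p ∈ Module.support A M
      · rw [if_pos hps, if_pos ⟨hps, hpm⟩]
      · rw [if_neg hps, if_neg (fun h => hps h.1)]
    · intro p hp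
      rw [Function.mem_support] at hp
      rw [Finset.mem_coe, hF]
      intro hpm
      apply hp
      rw [finsum_eq_if, if_neg (fun h => h.2 hpm)]
  rw [hsum] at res
  have hμ : ∀ p ∈ F, Module.length (Localization.AtPrime p.asIdeal)
      (LocalizedModule p.asIdeal.primeCompl M) ≠ ⊤ := fun p hp =>
    length_localization_ne_top M p.asIdeal
      (mem_minimalPrimes_of_ne_maximal hA p.asIdeal ((hF p).mp hp))
  have ho : ∀ p ∈ F, Ring.ord (A ⧸ p.asIdeal) (Ideal.Quotient.mk p.asIdeal a) ≠ ⊤ := by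
    intro p hp
    have hdimq : ringKrullDim (A ⧸ p.asIdeal) ≤ 1 := (ringKrullDim_quotient_le _).trans hA
    have : Ring.KrullDimLE 1 (A ⧸ p.asIdeal) := Ring.krullDimLE_iff.mpr hdimq
    have ha' : Ideal.Quotient.mk p.asIdeal a ≠ 0 := by
      rw [Ne, Ideal.Quotient.eq_zero_iff_mem]
      exact ha p ((hF p).mp hp)
    exact Ring.ord_ne_top (mem_nonZeroDivisors_of_ne_zero ha')
  have hterm : ∀ p ∈ F, (if p ∈ Module.support A M then
      Ring.ord (A ⧸ p.asIdeal) (Ideal.Quotient.mk p.asIdeal a) *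
      Module.length (Localization.AtPrime p.asIdeal)
        (LocalizedModule p.asIdeal.primeCompl M) else 0) ≠ ⊤ := by
    intro p hp
    split_ifs
    · exact WithTop.mul_ne_top (ho p hp) (hμ p hp)
    · exact ENat.zero_ne_top
  rw [res, ENat.toNat_sum hterm]
  push_cast
  refine Finset.sum_congr rfl fun p _ => ?_
  split_ifs
  · rw [ENat.toNat_mul]
    push_cast
    ring
  · simp

end Part4

section Part5

open AlgebraicGeometry CategoryTheory TopologicalSpace IsLocalRing
  Groth.Agent.Lib.Helper4.DimFormula Pointwise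

section Alg

variable {B : Type u} [CommRing B]

/-- `LocalizedModule p B ≃ B_p` as `B_p`-modules. -/
noncomputable def localizedModuleSelfEquiv (p : Ideal B) [p.IsPrime] :
    LocalizedModule p.primeCompl B ≃ₗ[Localization.AtPrime p] Localization.AtPrime p :=
  (IsLocalizedModule.linearEquiv p.primeCompl (LocalizedModule.mkLinearMap p.primeCompl B)
    (Algebra.linearMap B (Localization.AtPrime p))).extendScalarsOfIsLocalization p.primeCompl
      (Localization.AtPrime p)

theorem length_of_isLocalization (p : Ideal B) [p.IsPrime] (T : Type u) [CommRing T] [Algebra B T]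
    [IsLocalization.AtPrime T p] :
    Module.length T T =
      Module.length (Localization.AtPrime p) (LocalizedModule p.primeCompl B) := by
  rw [(localizedModuleSelfEquiv p).length_eq]
  exact Groth.Agent.Lib.R2H1.PowLen.length_self_ringEquiv
    (IsLocalization.algEquiv p.primeCompl T (Localization.AtPrime p)).toRingEquiv

theorem length_localizedModule_congr {I J : Ideal B} [I.IsPrime] [J.IsPrime] (e : I = J) :
    Module.length (Localization.AtPrime I) (LocalizedModule I.primeCompl B) =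
      Module.length (Localization.AtPrime J) (LocalizedModule J.primeCompl B) := by
  subst e
  rfl

theorem ord_quotient_congr {I J : Ideal B} (e : I = J) (b : B) :
    Ring.ord (B ⧸ I) (Ideal.Quotient.mk I b) = Ring.ord (B ⧸ J) (Ideal.Quotient.mk J b) := by
  subst e
  rfl

theorem ringKrullDim_quotient_congr {I J : Ideal B} (e : I = J) :
    ringKrullDim (B ⧸ I) = ringKrullDim (B ⧸ J) := by
  subst e
  rfl

theorem length_quotient_span_singleton (b : B) :
    Module.length B (B ⧸ b • (⊤ : Submodule B B)) = Module.length B (B ⧸ Ideal.span {b}) := by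
  have h : b • (⊤ : Submodule B B) = Ideal.span {b} := by
    ext z
    rw [Submodule.mem_smul_pointwise_iff_exists, Ideal.mem_span_singleton']
    constructor
    · rintro ⟨c, -, rfl⟩
      exact ⟨c, by rw [smul_eq_mul, mul_comm]⟩
    · rintro ⟨c, rfl⟩
      exact ⟨c, trivial, by rw [smul_eq_mul, mul_comm]⟩
  exact (Submodule.quotEquivOfEq _ _ h).length_eq

end Alg

variable {X : Scheme.{u}}

theorem ringKrullDim_stalk_le_one [IsLocallyNoetherian X] {δ : X → ℤ} (hδ : Cyc.IsDimFun X δ)
    (x : X) (hdim : ∀ ξ : X, ξ ⤳ x → δ ξ ≤ δ x + 1) : ringKrullDim (X.presheaf.stalk x) ≤ 1 := by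
  obtain ⟨p, hp, hpdim⟩ := exists_minimalPrimes_ringKrullDim_quotient_eq (R := X.presheaf.stalk x)
  haveI := hp.1.1
  set ξ := X.fromSpecStalk x ⟨p, hp.1.1⟩ with hξ
  have h : ξ ⤳ x := fromSpecStalk_specializes x _
  obtain ⟨k, hk, hk'⟩ := isDimFun_eq_add_locQuotDim X δ hδ x ξ h
  have hk1 : k ≤ 1 := by
    have := hdim ξ h
    omega
  have hker := ker_specMap_fromSpecStalk x p h
  have h2 : ringKrullDim (X.presheaf.stalk x ⧸ p) = k := by
    rw [← ringKrullDim_quotient_congr hker]
    exact hk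
  rw [← hpdim, h2]
  exact_mod_cast hk1

theorem fromSpecStalk_ne_of_ne_maximal (x : X) (p : PrimeSpectrum (X.presheaf.stalk x))
    (hp : p.asIdeal ≠ maximalIdeal (X.presheaf.stalk x)) : X.fromSpecStalk x p ≠ x := by
  intro h
  apply hp
  have h1 : X.fromSpecStalk x p = X.fromSpecStalk x (closedPoint (X.presheaf.stalk x)) := by
    rw [h, Scheme.fromSpecStalk_closedPoint]
  have h2 := (X.fromSpecStalk x).isEmbedding.injective h1
  rw [h2]
  rfl

open Classical in
/-- the length of `O_{X,x}/(b)` as a sum over the generizations of `x` of codimension one. -/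
theorem length_eq_finsum [IsLocallyNoetherian X] {δ : X → ℤ} (hδ : Cyc.IsDimFun X δ) (x : X)
    (hdim : ∀ ξ : X, ξ ⤳ x → δ ξ ≤ δ x + 1) (b : X.presheaf.stalk x)
    (hb : b ∈ nonZeroDivisors (X.presheaf.stalk x))
    (hbξ : ∀ (ξ : X) (h : ξ ⤳ x), ξ ≠ x → Cyc.specMap x ξ h b ≠ 0) :
    ((Module.length (X.presheaf.stalk x) (X.presheaf.stalk x ⧸ Ideal.span {b})).toNat : ℤ) =
      ∑ᶠ ξ : X, if h : ξ ⤳ x ∧ δ x + 1 = δ ξ then
        ((Module.length (X.presheaf.stalk ξ) (X.presheaf.stalk ξ)).toNat : ℤ) *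
          Cyc.ordAt x ξ h.1 (Cyc.specMap x ξ h.1 b) else 0 := by
  have hA := ringKrullDim_stalk_le_one hδ x hdim
  set F := (finite_ne_maximal hA).toFinset with hFdef
  have hF : ∀ p : PrimeSpectrum (X.presheaf.stalk x),
      p ∈ F ↔ p.asIdeal ≠ maximalIdeal (X.presheaf.stalk x) := by
    intro p
    rw [hFdef, Set.Finite.mem_toFinset]
    rfl
  have hreg : IsSMulRegular (X.presheaf.stalk x) b := by
    intro u v huv
    have h1 : b * (u - v) = 0 := by
      rw [mul_sub, sub_eq_zero]
      exact huv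
    rw [mul_comm] at h1
    exact sub_eq_zero.mp ((mem_nonZeroDivisors_iff_right.mp hb) _ h1)
  have hφspec : ∀ p : PrimeSpectrum (X.presheaf.stalk x), X.fromSpecStalk x p ⤳ x :=
    fun p => fromSpecStalk_specializes x p
  have hkerφ : ∀ p : PrimeSpectrum (X.presheaf.stalk x),
      RingHom.ker (Cyc.specMap x (X.fromSpecStalk x p) (hφspec p)) = p.asIdeal := by
    intro p
    haveI := p.2
    exact ker_specMap_fromSpecStalk x p.asIdeal (hφspec p)
  have ha : ∀ p : PrimeSpectrum (X.presheaf.stalk x),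
      p.asIdeal ≠ maximalIdeal (X.presheaf.stalk x) → b ∉ p.asIdeal := by
    intro p hp hbp
    have h1 := hbξ _ (hφspec p) (fromSpecStalk_ne_of_ne_maximal x p hp)
    apply h1
    rw [← RingHom.mem_ker, hkerφ]
    exact hbp
  have hd : ∀ p ∈ F, δ x + 1 = δ (X.fromSpecStalk x p) := by
    intro p hp
    have hne := fromSpecStalk_ne_of_ne_maximal x p ((hF p).mp hp)
    have h1 := (hδ _ _ (hφspec p) hne).1
    have h2 := hdim _ (hφspec p)
    omega
  have res := length_quot_smul_eq_sum hA (M := X.presheaf.stalk x) b hreg ha F hF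
  rw [length_quotient_span_singleton] at res
  rw [res]
  rw [finsum_eq_sum_of_support_subset (s := F.image (fun p => X.fromSpecStalk x p))]
  · rw [Finset.sum_image]
    · refine Finset.sum_congr rfl fun p hp => ?_
      have hps : p ∈ Module.support (X.presheaf.stalk x) (X.presheaf.stalk x) := by
        rw [Module.mem_support_iff_of_finite, Module.annihilator_eq_bot.mpr inferInstance]
        exact bot_le
      rw [if_pos hps, dif_pos ⟨hφspec p, hd p hp⟩]
      have hbne : Cyc.specMap x (X.fromSpecStalk x p) (hφspec p) b ≠ 0 :=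
        hbξ _ (hφspec p) (fromSpecStalk_ne_of_ne_maximal x p ((hF p).mp hp))
      rw [ordAt_specMap hδ x _ (hφspec p) (hd p hp) b hbne]
      haveI := p.2
      congr 2
      · letI := (X.presheaf.stalkSpecializes (hφspec p)).hom.toAlgebra
        haveI := isLocalization_stalkSpecializes x _ (hφspec p)
        rw [length_of_isLocalization (RingHom.ker (Cyc.specMap x _ (hφspec p)))
          (X.presheaf.stalk (X.fromSpecStalk x p))]
        exact congrArg ENat.toNat (length_localizedModule_congr (hkerφ p)).symm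
      · exact congrArg ENat.toNat (ord_quotient_congr (hkerφ p) b).symm
    · intro p _ q _ hpq
      exact (X.fromSpecStalk x).isEmbedding.injective hpq
  · intro ξ hξ
    rw [Function.mem_support] at hξ
    by_cases hc : ξ ⤳ x ∧ δ x + 1 = δ ξ
    · obtain ⟨p, hp, hpξ⟩ := exists_prime_fromSpecStalk_eq hc.1
      rw [Finset.mem_coe, Finset.mem_image]
      refine ⟨(⟨p, hp⟩ : PrimeSpectrum (X.presheaf.stalk x)), ?_, hpξ⟩
      refine (hF ⟨p, hp⟩).mpr ?_
      intro hpm
      have : ξ = x := by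
        rw [← hpξ]
        have : (⟨p, hp⟩ : PrimeSpectrum (X.presheaf.stalk x)) = closedPoint _ :=
          PrimeSpectrum.ext hpm
        rw [this, Scheme.fromSpecStalk_closedPoint]
      rw [this] at hc
      omega
    · rw [dif_neg hc] at hξ
      exact absurd rfl hξ

end Part5

section Part6

open AlgebraicGeometry CategoryTheory TopologicalSpace IsLocalRing
  Groth.Agent.Lib.Helper20.InvGen Groth.Agent.Lib.R2H1.SecDiv Groth.Agent.Lib.R2H1.RatEquivOpen
  Groth.Agent.Lib.R2H1.RatEquivClosed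

variable {X : Scheme.{u}}

/-- if `g` freely generates `L_ξ` and `c • [g] = 0` in the fibre, then `c` is in the maximal
ideal. -/
theorem residue_eq_zero_of_smul_mk_eq_zero (L : X.Modules) (ξ : X) (g : L.presheaf.stalk ξ)
    (hg : Function.Bijective (fun c : X.presheaf.stalk ξ => c • g)) (c : X.presheaf.stalk ξ)
    (hc : c • (Submodule.Quotient.mk g : Cyc.secFibre L ξ) = 0) : X.residue ξ c = 0 := by
  rw [← Submodule.Quotient.mk_smul, Submodule.Quotient.mk_eq_zero] at hc
  have htop : (⊤ : Submodule (X.presheaf.stalk ξ) (L.presheaf.stalk ξ)) =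
      Submodule.span (X.presheaf.stalk ξ) {g} := by
    rw [eq_comm, eq_top_iff]
    intro m _
    obtain ⟨c', hc'⟩ := hg.2 m
    exact Submodule.mem_span_singleton.mpr ⟨c', hc'⟩
  rw [htop, Submodule.mem_smul_span_singleton] at hc
  obtain ⟨y, hy, hyc⟩ := hc
  have : y = c := hg.1 hyc
  rw [← this]
  exact (IsLocalRing.residue_eq_zero_iff _).mpr hy

/-- computation of `Cyc.secOrdAt` in terms of a local free generator. -/
theorem secOrdAt_eq [IsLocallyNoetherian X] {δ : X → ℤ} (hδ : Cyc.IsDimFun X δ) (L : X.Modules)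
    (ξ x : X) (h : ξ ⤳ x) (hd : δ x + 1 = δ ξ) (W : X.Opens) (t₀ : Γ(L, W)) (hxW : x ∈ W)
    (ht₀ : ∀ (y : X) (hy : y ∈ W),
      Function.Bijective (fun c : X.presheaf.stalk y => c • L.presheaf.germ W y hy t₀))
    (φ : X.presheaf.stalk ξ) :
    Cyc.secOrdAt L ξ x h (φ • (Submodule.Quotient.mk
      (L.presheaf.germ W ξ (h.mem_open W.isOpen hxW) t₀) : Cyc.secFibre L ξ)) =
      Cyc.ordAt x ξ h (X.residue ξ φ) := by
  classical
  have hξW : ξ ∈ W := h.mem_open W.isOpen hxW
  set tx := L.presheaf.germ W x hxW t₀ with htxdef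
  set gξ := L.presheaf.germ W ξ hξW t₀ with hgξdef
  have htx := ht₀ x hxW
  have hgξ := ht₀ ξ hξW
  have hspt : L.presheaf.stalkSpecializes h tx = gξ :=
    ConcreteCategory.congr_hom (TopCat.Presheaf.germ_stalkSpecializes L.presheaf hxW h) t₀
  have ht : ∃ t : L.presheaf.stalk x, Submodule.span (X.presheaf.stalk x) {t} = ⊤ := by
    refine ⟨tx, ?_⟩
    rw [eq_top_iff]
    intro m _
    obtain ⟨c, hc⟩ := htx.2 m
    exact Submodule.mem_span_singleton.mpr ⟨c, hc⟩
  unfold Cyc.secOrdAt
  rw [dif_pos ht]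
  have ht' := Classical.choose_spec ht
  set t := Classical.choose ht with htdef
  obtain ⟨u, hu⟩ := htx.2 t
  have hu' : u • tx = t := hu
  have hmem : tx ∈ Submodule.span (X.presheaf.stalk x) {t} := by rw [ht']; trivial
  obtain ⟨v, hv⟩ := Submodule.mem_span_singleton.1 hmem
  have hvu : v * u = 1 := by
    apply htx.1
    change (v * u) • tx = (1 : X.presheaf.stalk x) • tx
    rw [mul_smul, one_smul, hu', hv]
  have huu : IsUnit u := IsUnit.of_mul_eq_one_right v hvu
  set uξ := X.presheaf.stalkSpecializes h u with huξdef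
  have huξ : IsUnit uξ := huu.map _
  have htξ_eq : L.presheaf.stalkSpecializes h t = uξ • gξ := by
    rw [← hu', stalkSpecializes_smul, hspt]
  obtain ⟨w, hw⟩ := huξ.exists_left_inv
  have hφ : ∃ φ' : X.presheaf.stalk ξ,
      φ • (Submodule.Quotient.mk gξ : Cyc.secFibre L ξ) =
      φ' • (Submodule.Quotient.mk (L.presheaf.stalkSpecializes h t) : Cyc.secFibre L ξ) := by
    refine ⟨φ * w, ?_⟩
    rw [htξ_eq, Submodule.Quotient.mk_smul, ← mul_smul, mul_assoc, hw, mul_one]
  rw [dif_pos hφ]
  have hφ' := Classical.choose_spec hφ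
  set φ₀ := Classical.choose hφ with hφ₀def
  rw [htξ_eq, Submodule.Quotient.mk_smul, ← mul_smul] at hφ'
  have hres : X.residue ξ φ = X.residue ξ φ₀ * X.residue ξ uξ := by
    have h0 : (φ - φ₀ * uξ) • (Submodule.Quotient.mk gξ : Cyc.secFibre L ξ) = 0 := by
      rw [sub_smul, hφ', sub_self]
    have h1 := residue_eq_zero_of_smul_mk_eq_zero L ξ gξ hgξ _ h0
    rw [map_sub, map_mul, sub_eq_zero] at h1
    exact h1
  have hune : X.residue ξ uξ ≠ 0 := by
    intro h0
    have := (IsLocalRing.residue_eq_zero_iff _).mp h0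
    exact (IsLocalRing.mem_maximalIdeal _).mp this huξ
  have hunit0 : Cyc.ordAt x ξ h (X.residue ξ uξ) = 0 := ordAt_unit x ξ h u huu
  by_cases hφ0 : X.residue ξ φ₀ = 0
  · rw [hres, hφ0, zero_mul]
  · rw [hres, ordAt_mul hδ x ξ h hd hφ0 hune, hunit0, add_zero]

end Part6

section Part7

open AlgebraicGeometry CategoryTheory TopologicalSpace IsLocalRing
  Groth.Agent.Lib.Helper20.InvGen Groth.Agent.Lib.R2H1.SecDiv Groth.Agent.Lib.R2H1.RatEquivOpen
  Groth.Agent.Lib.R2H1.RatEquivClosed

theorem subschemeFun_id {Y : Scheme.{u}} (δ : Y → ℤ) (k : ℤ) (ξ : Y) :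
    Cyc.subschemeFun δ k (𝟙 Y) ξ = if δ ξ = k then
      ((Module.length (Y.presheaf.stalk ξ) (Y.presheaf.stalk ξ)).toNat : ℤ) else 0 := by
  unfold Cyc.subschemeFun
  split_ifs with h
  · have : {z : Y | (𝟙 Y : Y ⟶ Y) z = ξ} = {ξ} := by
      ext z
      simp
    rw [this, finsum_mem_singleton]
  · rfl

theorem main (Y : Scheme.{u}) (δ : Y → ℤ) (hY : Cyc.IsSetup Y δ) (L : Y.Modules)
    (hL : PicF.IsInvertible L) (k : ℤ) (hdim : ∀ y : Y, δ y ≤ k + 1)
    (s : L.presheaf.obj (Opposite.op ⊤))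
    (hZ : ∀ y : Y, (L.presheaf.germ ⊤ y trivial) s ∈
      IsLocalRing.maximalIdeal (Y.presheaf.stalk y) •
        (⊤ : Submodule (Y.presheaf.stalk y) (L.presheaf.stalk y)) → δ y ≤ k)
    (hreg : ∀ y : Y, δ y = k →
      Function.Injective (fun a : Y.presheaf.stalk y => a • (L.presheaf.germ ⊤ y trivial) s)) :
    Cyc.zeroSectionFun δ k L s =
      Cyc.c1CapFun δ L (Cyc.subschemeFun δ (k + 1) (𝟙 Y))
        (fun ξ => Submodule.Quotient.mk ((L.presheaf.germ ⊤ ξ trivial) s)) := by
  classical
  haveI : IsLocallyNoetherian Y := hY.1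
  have hδ := hY.2.2
  funext y
  unfold Cyc.zeroSectionFun Cyc.c1CapFun
  by_cases hy : δ y = k
  swap
  · rw [if_neg hy]
    symm
    apply finsum_eq_zero_of_forall_eq_zero
    intro ξ
    rw [subschemeFun_id]
    unfold Cyc.secDivFun
    by_cases h1 : δ ξ = k + 1
    · rw [dif_neg (by rintro ⟨-, h2⟩; omega), mul_zero]
    · rw [if_neg h1, zero_mul]
  rw [if_pos hy]
  obtain ⟨W, t₀, hyW, ht₀⟩ := exists_local_generator L hL y
  set ty := L.presheaf.germ W y hyW t₀ with htydef
  have hty := ht₀ y hyW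
  have ht : ∃ t : L.presheaf.stalk y, Submodule.span (Y.presheaf.stalk y) {t} = ⊤ := by
    refine ⟨ty, ?_⟩
    rw [eq_top_iff]
    intro m _
    obtain ⟨c, hc⟩ := hty.2 m
    exact Submodule.mem_span_singleton.mpr ⟨c, hc⟩
  rw [dif_pos ht]
  have ht' := Classical.choose_spec ht
  set t := Classical.choose ht with htdef
  obtain ⟨u, hu⟩ := hty.2 t
  have hu' : u • ty = t := hu
  have hmem : ty ∈ Submodule.span (Y.presheaf.stalk y) {t} := by rw [ht']; trivial
  obtain ⟨v, hv⟩ := Submodule.mem_span_singleton.1 hmem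
  have hvu : v * u = 1 := by
    apply hty.1
    change (v * u) • ty = (1 : Y.presheaf.stalk y) • ty
    rw [mul_smul, one_smul, hu', hv]
  have huu : IsUnit u := IsUnit.of_mul_eq_one_right v hvu
  have hf : ∃ f : Y.presheaf.stalk y, (L.presheaf.germ ⊤ y trivial) s = f • t := by
    have : (L.presheaf.germ ⊤ y trivial) s ∈ Submodule.span (Y.presheaf.stalk y) {t} := by
      rw [ht']; trivial
    obtain ⟨c, hc⟩ := Submodule.mem_span_singleton.1 this
    exact ⟨c, hc.symm⟩
  rw [dif_pos hf]
  have hf' := Classical.choose_spec hf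
  set f := Classical.choose hf with hfdef
  set b := f * u with hbdef
  have hsb : (L.presheaf.germ ⊤ y trivial) s = b • ty := by
    rw [hf', ← hu', ← mul_smul]
  have hspan : Ideal.span {f} = Ideal.span {b} :=
    (Ideal.span_singleton_mul_right_unit huu f).symm
  rw [hspan]
  have hb : b ∈ nonZeroDivisors (Y.presheaf.stalk y) := by
    rw [mem_nonZeroDivisors_iff_right]
    intro c hc
    apply hreg y hy
    change c • (L.presheaf.germ ⊤ y trivial) s = (0 : Y.presheaf.stalk y) • _
    rw [hsb, ← mul_smul, hc, zero_smul, zero_smul]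
  have hsξ : ∀ (ξ : Y) (h : ξ ⤳ y), (L.presheaf.germ ⊤ ξ trivial) s =
      Y.presheaf.stalkSpecializes h b • L.presheaf.germ W ξ (h.mem_open W.isOpen hyW) t₀ := by
    intro ξ h
    have hsps : L.presheaf.stalkSpecializes h ((L.presheaf.germ ⊤ y trivial) s) =
        (L.presheaf.germ ⊤ ξ trivial) s :=
      ConcreteCategory.congr_hom (TopCat.Presheaf.germ_stalkSpecializes L.presheaf
        (U := ⊤) (show y ∈ (⊤ : Y.Opens) from trivial) h) s
    have hspt : L.presheaf.stalkSpecializes h ty =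
        L.presheaf.germ W ξ (h.mem_open W.isOpen hyW) t₀ :=
      ConcreteCategory.congr_hom (TopCat.Presheaf.germ_stalkSpecializes L.presheaf hyW h) t₀
    rw [← hsps, hsb, stalkSpecializes_smul, hspt]
  have hbξ : ∀ (ξ : Y) (h : ξ ⤳ y), ξ ≠ y → Cyc.specMap y ξ h b ≠ 0 := by
    intro ξ h hne h0
    have h1 : Y.presheaf.stalkSpecializes h b ∈ maximalIdeal (Y.presheaf.stalk ξ) :=
      (IsLocalRing.residue_eq_zero_iff _).mp h0
    have h2 := hZ ξ (by
      rw [hsξ ξ h]
      exact Submodule.smul_mem_smul h1 trivial)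
    have h3 := (hδ ξ y h hne).1
    omega
  have hdim' : ∀ ξ : Y, ξ ⤳ y → δ ξ ≤ δ y + 1 := fun ξ _ => by
    have := hdim ξ
    omega
  rw [length_eq_finsum hδ y hdim' b hb hbξ]
  refine finsum_congr fun ξ => ?_
  rw [subschemeFun_id]
  unfold Cyc.secDivFun
  by_cases hc : ξ ⤳ y ∧ δ y + 1 = δ ξ
  · rw [dif_pos hc, dif_pos hc, if_pos (by omega)]
    congr 1
    change _ = Cyc.secOrdAt L ξ y hc.1
      (Submodule.Quotient.mk ((L.presheaf.germ ⊤ ξ trivial) s))
    rw [hsξ ξ hc.1, Submodule.Quotient.mk_smul,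
      secOrdAt_eq hδ L ξ y hc.1 hc.2 W t₀ hyW ht₀]
    rfl
  · rw [dif_neg hc, dif_neg hc, mul_zero]

end Part7

end Groth.Agent.Lib.R2H1.LocQuot
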