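/-
Flat pullback of a principal divisor as a sum over the irreducible components upstairs (S1907).
Reusable: delta_eq_add_ptTrdeg, ptTrdeg_lt_of_specializes, ptTrdeg_le_of_hasRelDim, ptTrdeg_eq_of_maximal, delta_le (deltaX x <= deltaY (f x) + r for HasRelDim/DeltaCompat),
delta_eq_iff (equality iff x is a maximal point of its fibre), finite_codim_one_generizations, ordAt_div, specMap_congr_point, specMap_stalkMap_of_eq,
ordAt_generic_specMap (integral Y: ordAt y eta (specMap c) = ord_{O_y}(c)), delta_le_generic, case_codim_one, ordAt_eq_zero_of_generic_fibre, main (S1907).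
-/
import Mathlib
import Groth.Prelude.Def_Cyc
import Groth.Agent.S6459
import Groth.Agent.Lib.Helper4DimFormulaT
import Groth.Agent.Lib.R2H1FlatDiv
import Groth.Agent.Lib.R2H1LocQuot
import Groth.Agent.Lib.R2H1RatEquivOpen
import Groth.Agent.Lib.R2H1RatEquivClosed

set_option autoImplicit false
set_option linter.style.haveILetI false
set_option linter.unusedSectionVars false
universe u v

namespace Groth.Agent.Lib.R2H1.FlatDivSum

section Part1

open AlgebraicGeometry CategoryTheory TopologicalSpace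
  Groth.Agent.Lib.Helper4.DimFormula Groth.Agent.Lib.Helper4.VarDim Groth.Agent.Lib.Helper4.FibDim

variable {X Y : Scheme.{u}} (f : X ⟶ Y) [LocallyOfFiniteType f]

attribute [local instance] Curv2.resAlgebra

theorem delta_eq_add_ptTrdeg {δX : X → ℤ} {δY : Y → ℤ} (hδ : Cyc.DeltaCompat f δX δY) (x : X) :
    δX x = δY (f x) + ptTrdeg f x := by
  obtain ⟨n, hn, hδn⟩ := hδ x
  have h3 := trdeg_eq_ptTrdeg f x
  have h4 : (n : Cardinal.{u}) = (ptTrdeg f x : Cardinal.{u}) := hn.symm.trans h3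
  have h5 : n = ptTrdeg f x := by exact_mod_cast h4
  rw [hδn, h5]

theorem ptTrdeg_lt_of_specializes (x' x : X) (h : x' ⤳ x) (hf : f x' = f x) (hne : x' ≠ x) :
    ptTrdeg f x < ptTrdeg f x' := by
  obtain ⟨s, hs⟩ : ∃ s, f x = s := ⟨_, rfl⟩
  letI : (f.fiber s).Over (Spec (CommRingCat.of (Y.residueField s))) :=
    ⟨f.fiberToSpecResidueField s⟩
  haveI : LocallyOfFiniteType ((f.fiber s) ↘ Spec (CommRingCat.of (Y.residueField s))) :=
    locallyOfFiniteType_fiberToSpecResidueField f _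
  have h1 : x ∈ Set.range (f.fiberι s) := by rw [f.range_fiberι]; exact hs
  have h2 : x' ∈ Set.range (f.fiberι s) := by rw [f.range_fiberι]; exact hf.trans hs
  obtain ⟨z, rfl⟩ := h1
  obtain ⟨w, rfl⟩ := h2
  have hw : w ⤳ z := (f.fiberι s).isEmbedding.isInducing.specializes_iff.mp h
  have hwz : w ≠ z := fun e => hne (by rw [e])
  have := trdegNat_lt_of_specializes (Y.residueField s) (f.fiber s) w z hw hwz
  rw [trdegNat_eq_ptTrdeg, trdegNat_eq_ptTrdeg] at this
  exact this

theorem ptTrdeg_le_of_hasRelDim (r : ℕ) (hr : Cyc.HasRelDim f r) (x : X) : ptTrdeg f x ≤ r := by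
  obtain ⟨s, hs⟩ : ∃ s, f x = s := ⟨_, rfl⟩
  letI : (f.fiber s).Over (Spec (CommRingCat.of (Y.residueField s))) :=
    ⟨f.fiberToSpecResidueField s⟩
  haveI : LocallyOfFiniteType ((f.fiber s) ↘ Spec (CommRingCat.of (Y.residueField s))) :=
    locallyOfFiniteType_fiberToSpecResidueField f _
  have h1 : x ∈ Set.range (f.fiberι s) := by rw [f.range_fiberι]; exact hs
  obtain ⟨z, hz⟩ := h1
  have hZ := irreducibleComponent_mem_irreducibleComponents z
  obtain ⟨w, hw⟩ := QuasiSober.sober hZ.1 (isClosed_of_mem_irreducibleComponents _ hZ)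
  have hwcl : closure ({w} : Set ↥(f.fiber s)) = irreducibleComponent z := hw.def
  have hwz : w ⤳ z := by
    rw [specializes_iff_mem_closure, hwcl]
    exact mem_irreducibleComponent
  have h2 := hr s _ hZ
  rw [← hwcl, topologicalKrullDim_closure_singleton (Y.residueField s) (f.fiber s) w] at h2
  have h3 : trdegNat (Y.residueField s) (f.fiber s) w = r := by exact_mod_cast h2
  have h4 := trdegNat_le_of_specializes (Y.residueField s) (f.fiber s) w z hwz
  rw [h3, trdegNat_eq_ptTrdeg, hz] at h4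
  exact h4

theorem ptTrdeg_eq_of_maximal (r : ℕ) (hr : Cyc.HasRelDim f r) (x : X)
    (hmax : ∀ x' : X, f x' = f x → x' ⤳ x → x' = x) : ptTrdeg f x = r := by
  obtain ⟨Z, hZ, hZdim⟩ := exists_mem_irreducibleComponents_of_maximal f (f x) x rfl hmax
  have h1 := hr (f x) Z hZ
  rw [hZdim] at h1
  exact_mod_cast h1

/-- in a family of relative dimension `r`, `δX x ≤ δY (f x) + r`. -/
theorem delta_le {δX : X → ℤ} {δY : Y → ℤ} (hδ : Cyc.DeltaCompat f δX δY) (r : ℕ)
    (hr : Cyc.HasRelDim f r) (x : X) : δX x ≤ δY (f x) + r := by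
  rw [delta_eq_add_ptTrdeg f hδ x]
  have := ptTrdeg_le_of_hasRelDim f r hr x
  omega

/-- equality holds exactly at the maximal points of the fibres. -/
theorem delta_eq_iff {δX : X → ℤ} {δY : Y → ℤ} (hδ : Cyc.DeltaCompat f δX δY) (r : ℕ)
    (hr : Cyc.HasRelDim f r) (x : X) :
    δX x = δY (f x) + r ↔ ∀ x' : X, f x' = f x → x' ⤳ x → x' = x := by
  rw [delta_eq_add_ptTrdeg f hδ x]
  constructor
  · intro h x' hf hsp
    by_contra hne
    have h1 := ptTrdeg_lt_of_specializes f x' x hsp hf hne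
    have h2 := ptTrdeg_le_of_hasRelDim f r hr x'
    omega
  · intro hmax
    rw [ptTrdeg_eq_of_maximal f r hr x hmax]

end Part1

section Part2

open AlgebraicGeometry CategoryTheory TopologicalSpace IsLocalRing
  Groth.Agent.Lib.R2H1.LocQuot Groth.Agent.Lib.R2H1.RatEquivOpen Groth.Agent.Lib.R2H1.RatEquivClosed
  Groth.Agent.Lib.R2H1.FlatDiv Groth.Agent.Lib.Helper4.DimFormula

variable {X Y : Scheme.{u}}

/-- finitely many generizations of codimension one when the local ring has dimension `≤ 1`. -/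
theorem finite_codim_one_generizations [IsLocallyNoetherian X] {δ : X → ℤ}
    (hδ : Cyc.IsDimFun X δ) (x : X) (hdim : ∀ ξ : X, ξ ⤳ x → δ ξ ≤ δ x + 1) :
    {ξ : X | ξ ⤳ x ∧ δ x + 1 = δ ξ}.Finite := by
  have hA := ringKrullDim_stalk_le_one hδ x hdim
  have hfin := (finite_ne_maximal hA).image (fun p => X.fromSpecStalk x p)
  refine hfin.subset ?_
  rintro ξ ⟨hsp, hd⟩
  obtain ⟨p, hp, hpξ⟩ := exists_prime_fromSpecStalk_eq hsp
  refine ⟨(⟨p, hp⟩ : PrimeSpectrum (X.presheaf.stalk x)), ?_, hpξ⟩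
  intro hpm
  have : ξ = x := by
    rw [← hpξ]
    have : (⟨p, hp⟩ : PrimeSpectrum (X.presheaf.stalk x)) = closedPoint _ :=
      PrimeSpectrum.ext hpm
    rw [this, Scheme.fromSpecStalk_closedPoint]
  rw [this] at hd
  omega

theorem ordAt_div [IsLocallyNoetherian X] {δ : X → ℤ} (hδ : Cyc.IsDimFun X δ) (x ξ : X)
    (h : ξ ⤳ x) (hd : δ x + 1 = δ ξ) {u v : X.residueField ξ} (hu : u ≠ 0) (hv : v ≠ 0) :
    Cyc.ordAt x ξ h (u / v) = Cyc.ordAt x ξ h u - Cyc.ordAt x ξ h v := by
  rw [div_eq_mul_inv, ordAt_mul hδ x ξ h hd hu (inv_ne_zero hv)]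
  have : Cyc.ordAt x ξ h v⁻¹ = - Cyc.ordAt x ξ h v := ordFrac_inv' _ _ v
  rw [this]
  ring

theorem specMap_congr_point (y : Y) {η η' : Y} (e : η = η') (h : η ⤳ y) (h' : η' ⤳ y)
    (c : Y.presheaf.stalk y) :
    Cyc.specMap y η' h' c = (Y.residueFieldCongr e).hom (Cyc.specMap y η h c) := by
  subst e
  rw [Scheme.residueFieldCongr_refl]
  rfl

/-- the image in `κ(ξ)` of a function on `Y` regular at `f x`, for `ξ` over `η`. -/
theorem specMap_stalkMap_of_eq (f : X ⟶ Y) (x ξ : X) (h : ξ ⤳ x) (η : Y) (e : f ξ = η)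
    (h' : η ⤳ f x) (c : Y.presheaf.stalk (f x)) :
    Cyc.specMap x ξ h (f.stalkMap x c) =
      f.residueFieldMap ξ ((Y.residueFieldCongr e.symm).hom (Cyc.specMap (f x) η h' c)) := by
  have h1 := specMap_comp_stalkMap f x ξ h c
  rw [specMap_congr_point (f x) e.symm h' (f.base.hom.map_specializes h) c] at h1
  exact h1

open Groth.Agent.Lib.R2H1.KeyLemma in
/-- on an integral scheme the order of a regular function along `η ⤳ y` is the length of
`O_{Y,y}/(c)`, for `y` of codimension one. -/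
theorem ordAt_generic_specMap [IsIntegral Y] [IsLocallyNoetherian Y] (y : Y)
    (hdim : Ring.KrullDimLE 1 (Y.presheaf.stalk y)) (h : genericPoint Y ⤳ y)
    (c : Y.presheaf.stalk y) (hc : c ≠ 0) :
    Cyc.ordAt y (genericPoint Y) h (Cyc.specMap y (genericPoint Y) h c) =
      ((Ring.ord (Y.presheaf.stalk y) c).toNat : ℤ) := by
  have h1 := ordAt_generic_eq y h (algebraMap (Y.presheaf.stalk y) Y.functionField c)
  have h2 : Y.residue (genericPoint Y) (algebraMap (Y.presheaf.stalk y) Y.functionField c) =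
      Cyc.specMap y (genericPoint Y) h c := rfl
  rw [h2] at h1
  rw [h1]
  exact ordFrac_algebraMap _ _ hc

end Part2

section Part3

open AlgebraicGeometry CategoryTheory TopologicalSpace IsLocalRing
  Groth.Agent.Lib.R2H1.LocQuot Groth.Agent.Lib.R2H1.RatEquivOpen Groth.Agent.Lib.R2H1.RatEquivClosed
  Groth.Agent.Lib.R2H1.FlatDiv Groth.Agent.Lib.Helper4.DimFormula

variable {X Y : Scheme.{u}}

/-- points of `Y` (integral) have `δ ≤ δ η`, with equality only at the generic point. -/
theorem delta_le_generic [IsIntegral Y] {δY : Y → ℤ} (hδY : Cyc.IsDimFun Y δY) (z : Y) :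
    δY z ≤ δY (genericPoint Y) ∧ (δY z = δY (genericPoint Y) → z = genericPoint Y) := by
  have hz : genericPoint Y ⤳ z := (genericPoint_spec Y).specializes trivial
  by_cases e : genericPoint Y = z
  · rw [← e]
    exact ⟨le_rfl, fun _ => rfl⟩
  · have := (hδY _ z hz e).1
    exact ⟨by omega, fun h => by omega⟩

open Classical in
/-- the case where `x` lies over a point of codimension one. -/
theorem case_codim_one (X Y : Scheme.{u}) [IsIntegral Y] (δX : X → ℤ) (δY : Y → ℤ)
    (hX : Cyc.IsSetup X δX) (hY : Cyc.IsSetup Y δY) (f : X ⟶ Y) [Flat f] [LocallyOfFiniteType f]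
    (r : ℕ) (hr : Cyc.HasRelDim f r) (hδ : Cyc.DeltaCompat f δX δY)
    (g : Y.residueField (genericPoint Y)) (hg : g ≠ 0) (x : X)
    (hdy : δY (f x) + 1 = δY (genericPoint Y)) (hxA : δX x = δY (f x) + r)
    (F : X → ℤ)
    (hF : ∀ ξ : X, F ξ = if e : f ξ = genericPoint Y then
      ((Module.length (X.presheaf.stalk ξ) (X.presheaf.stalk ξ)).toNat : ℤ) *
        Cyc.divFun δX ξ (f.residueFieldMap ξ ((Y.residueFieldCongr e.symm).hom g)) x else 0) :
    Cyc.pullFun f δX δY r (Cyc.divFun δY (genericPoint Y) g) x = ∑ᶠ ξ : X, F ξ := by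
  classical
  haveI : IsLocallyNoetherian X := hX.1
  haveI : IsLocallyNoetherian Y := hY.1
  have hδX := hX.2.2
  have hδY := hY.2.2
  have hgy : (genericPoint Y) ⤳ f x := (genericPoint_spec Y).specializes trivial
  have hle : ∀ z : X, δX z ≤ δY (f z) + r := delta_le f hδ r hr
  -- points over `(genericPoint Y)`
  have hfg : ∀ ξ : X, ξ ⤳ x → δX x + 1 ≤ δX ξ → f ξ = (genericPoint Y) := by
    intro ξ _ h2
    have h3 := hle ξ
    have h4 := delta_le_generic hδY (f ξ)
    exact h4.2 (by omega)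
  have hdim' : ∀ ξ : X, ξ ⤳ x → δX ξ ≤ δX x + 1 := by
    intro ξ _
    have h3 := hle ξ
    have h4 := (delta_le_generic hδY (f ξ)).1
    omega
  -- the local rings
  letI : Algebra (Y.presheaf.stalk (f x)) (X.presheaf.stalk x) := (f.stalkMap x).hom.toAlgebra
  haveI : Module.Flat (Y.presheaf.stalk (f x)) (X.presheaf.stalk x) := Flat.stalkMap f x
  haveI : IsLocalHom (algebraMap (Y.presheaf.stalk (f x)) (X.presheaf.stalk x)) :=
    inferInstanceAs (IsLocalHom (f.stalkMap x).hom)
  have hdimA : ringKrullDim (Y.presheaf.stalk (f x)) = 1 :=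
    (Groth.Agent.S6459.result Y δY hY (f x)).mpr (by omega)
  haveI hKA : Ring.KrullDimLE 1 (Y.presheaf.stalk (f x)) :=
    Ring.krullDimLE_iff.mpr (by rw [hdimA]; rfl)
  -- write `g = a / b`
  obtain ⟨a', b', hb', hab⟩ := IsFractionRing.div_surjective (A := Cyc.LocQuot (f x) (genericPoint Y) hgy) g
  obtain ⟨a, rfl⟩ := Ideal.Quotient.mk_surjective a'
  obtain ⟨b, rfl⟩ := Ideal.Quotient.mk_surjective b'
  rw [algebraMap_locQuot_mk, algebraMap_locQuot_mk] at hab
  have hsb : Cyc.specMap (f x) (genericPoint Y) hgy b ≠ 0 := by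
    intro h0
    rw [h0, div_zero] at hab
    exact hg hab.symm
  have hsa : Cyc.specMap (f x) (genericPoint Y) hgy a ≠ 0 := by
    intro h0
    rw [h0, zero_div] at hab
    exact hg hab.symm
  have ha0 : a ≠ 0 := fun h0 => hsa (by rw [h0, map_zero])
  have hb0 : b ≠ 0 := fun h0 => hsb (by rw [h0, map_zero])
  -- images upstairs
  have hsp : ∀ (c : Y.presheaf.stalk (f x)) (ξ : X) (h : ξ ⤳ x) (e : f ξ = (genericPoint Y)),
      Cyc.specMap x ξ h (f.stalkMap x c) =
        f.residueFieldMap ξ ((Y.residueFieldCongr e.symm).hom (Cyc.specMap (f x) (genericPoint Y) hgy c)) :=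
    fun c ξ h e => specMap_stalkMap_of_eq f x ξ h (genericPoint Y) e hgy c
  have hnz : ∀ (c : Y.presheaf.stalk (f x)), Cyc.specMap (f x) (genericPoint Y) hgy c ≠ 0 →
      ∀ (ξ : X) (h : ξ ⤳ x), f ξ = (genericPoint Y) → Cyc.specMap x ξ h (f.stalkMap x c) ≠ 0 := by
    intro c hc ξ h e h0
    rw [hsp c ξ h e] at h0
    have inj1 : Function.Injective (f.residueFieldMap ξ).hom := RingHom.injective _
    have inj2 : Function.Injective (Y.residueFieldCongr e.symm).hom.hom := RingHom.injective _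
    have h1 := (map_eq_zero_iff _ inj1).mp h0
    exact hc ((map_eq_zero_iff _ inj2).mp h1)
  have hbξ : ∀ (c : Y.presheaf.stalk (f x)), Cyc.specMap (f x) (genericPoint Y) hgy c ≠ 0 →
      ∀ (ξ : X) (h : ξ ⤳ x), ξ ≠ x → Cyc.specMap x ξ h (f.stalkMap x c) ≠ 0 := by
    intro c hc ξ h hne
    have h1 := (hδX ξ x h hne).1
    exact hnz c hc ξ h (hfg ξ h (by omega))
  have hnzd : ∀ c : Y.presheaf.stalk (f x), c ≠ 0 →
      f.stalkMap x c ∈ nonZeroDivisors (X.presheaf.stalk x) := by
    intro c hc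
    have hreg : IsSMulRegular (Y.presheaf.stalk (f x)) c := fun u v huv => mul_left_cancel₀ hc huv
    have hreg' : IsSMulRegular (X.presheaf.stalk x)
        (algebraMap (Y.presheaf.stalk (f x)) (X.presheaf.stalk x) c) := hreg.of_flat
    rw [mem_nonZeroDivisors_iff_right]
    intro z hz
    apply hreg'
    change algebraMap (Y.presheaf.stalk (f x)) (X.presheaf.stalk x) c * z =
      algebraMap (Y.presheaf.stalk (f x)) (X.presheaf.stalk x) c * 0
    rw [mul_zero, mul_comm]
    exact hz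
  -- the two sums
  set G : Y.presheaf.stalk (f x) → X → ℤ := fun c ξ =>
    if h : ξ ⤳ x ∧ δX x + 1 = δX ξ then
      ((Module.length (X.presheaf.stalk ξ) (X.presheaf.stalk ξ)).toNat : ℤ) *
        Cyc.ordAt x ξ h.1 (Cyc.specMap x ξ h.1 (f.stalkMap x c)) else 0 with hG
  have hGsum : ∀ c : Y.presheaf.stalk (f x), c ≠ 0 → Cyc.specMap (f x) (genericPoint Y) hgy c ≠ 0 →
      ((Module.length (X.presheaf.stalk x)
        (X.presheaf.stalk x ⧸ Ideal.span {(f.stalkMap x c : X.presheaf.stalk x)})).toNat : ℤ) =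
        ∑ᶠ ξ : X, G c ξ := fun c hc hc' =>
    length_eq_finsum hδX x hdim' (f.stalkMap x c) (hnzd c hc) (hbξ c hc')
  have hfin := finite_codim_one_generizations hδX x hdim'
  have hGfin : ∀ c, (Function.support (G c)).Finite := by
    intro c
    refine hfin.subset ?_
    intro ξ hξ
    rw [Function.mem_support] at hξ
    by_contra hc
    exact hξ (dif_neg hc)
  have hFG : ∀ ξ : X, F ξ = G a ξ - G b ξ := by
    intro ξ
    rw [hF, hG]
    by_cases hc : ξ ⤳ x ∧ δX x + 1 = δX ξ
    · have e : f ξ = (genericPoint Y) := hfg ξ hc.1 (by omega)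
      simp only [dif_pos hc]
      rw [dif_pos e]
      unfold Cyc.divFun
      rw [dif_pos hc]
      have hgξ : f.residueFieldMap ξ ((Y.residueFieldCongr e.symm).hom g) =
          Cyc.specMap x ξ hc.1 (f.stalkMap x a) / Cyc.specMap x ξ hc.1 (f.stalkMap x b) := by
        rw [hsp a ξ hc.1 e, hsp b ξ hc.1 e, ← hab, map_div₀, map_div₀]
      rw [hgξ, ordAt_div hδX x ξ hc.1 hc.2 (hnz a hsa ξ hc.1 e) (hnz b hsb ξ hc.1 e)]
      ring
    · simp only [dif_neg hc, sub_zero]
      by_cases e : f ξ = (genericPoint Y)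
      · rw [dif_pos e]
        unfold Cyc.divFun
        rw [dif_neg hc, mul_zero]
      · rw [dif_neg e]
  rw [finsum_congr hFG, finsum_sub_distrib (hGfin a) (hGfin b), ← hGsum a ha0 hsa,
    ← hGsum b hb0 hsb]
  -- the left-hand side
  unfold Cyc.pullFun
  rw [if_pos hxA]
  have hdiv : Cyc.divFun δY (genericPoint Y) g (f x) = Cyc.ordAt (f x) (genericPoint Y) hgy g := by
    unfold Cyc.divFun
    exact dif_pos ⟨hgy, hdy⟩
  rw [hdiv, ← hab, ordAt_div hδY (f x) (genericPoint Y) hgy hdy hsa hsb,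
    ordAt_generic_specMap (f x) hKA hgy a ha0, ordAt_generic_specMap (f x) hKA hgy b hb0]
  have hord : ∀ c : Y.presheaf.stalk (f x),
      ((Ring.ord (Y.presheaf.stalk (f x)) c).toNat : ℤ) *
        ((Module.length (X.presheaf.stalk x) (X.presheaf.stalk x ⧸ Ideal.map (f.stalkMap x).hom
          (IsLocalRing.maximalIdeal (Y.presheaf.stalk (f x))))).toNat : ℤ) =
      ((Module.length (X.presheaf.stalk x)
        (X.presheaf.stalk x ⧸ Ideal.span {(f.stalkMap x c : X.presheaf.stalk x)})).toNat : ℤ) := by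
    intro c
    have h1 := ord_algebraMap (Y.presheaf.stalk (f x)) (X.presheaf.stalk x) c
    have h2 := congrArg ENat.toNat h1
    rw [ENat.toNat_mul] at h2
    have h3 : (Ring.ord (X.presheaf.stalk x)
        (algebraMap (Y.presheaf.stalk (f x)) (X.presheaf.stalk x) c)) =
        Module.length (X.presheaf.stalk x)
          (X.presheaf.stalk x ⧸ Ideal.span {(f.stalkMap x c : X.presheaf.stalk x)}) := rfl
    rw [h3] at h2
    rw [h2]
    push_cast
    rfl
  rw [sub_mul, hord a, hord b]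

end Part3

section Part4

open AlgebraicGeometry CategoryTheory TopologicalSpace IsLocalRing
  Groth.Agent.Lib.R2H1.LocQuot Groth.Agent.Lib.R2H1.RatEquivOpen Groth.Agent.Lib.R2H1.RatEquivClosed
  Groth.Agent.Lib.R2H1.FlatDiv Groth.Agent.Lib.Helper4.DimFormula

variable {X Y : Scheme.{u}}

/-- a rational function on `Y` has order zero along specializations inside the generic fibre. -/
theorem ordAt_eq_zero_of_generic_fibre [IsIntegral Y] (f : X ⟶ Y) (x ξ : X) (h : ξ ⤳ x)
    (e : f ξ = genericPoint Y) (hfx : f x = genericPoint Y)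
    (g : Y.residueField (genericPoint Y)) (hg : g ≠ 0) :
    Cyc.ordAt x ξ h (f.residueFieldMap ξ ((Y.residueFieldCongr e.symm).hom g)) = 0 := by
  have h₁ : f ξ ⤳ f x := f.base.hom.map_specializes h
  have hbij := stalkSpecializes_bijective_of_eq (e.trans hfx.symm) h₁
  obtain ⟨c', hc'⟩ := Y.residue_surjective (f ξ) ((Y.residueFieldCongr e.symm).hom g)
  obtain ⟨c, rfl⟩ := hbij.2 c'
  have hc0 : c ≠ 0 := by
    intro h0
    rw [h0, map_zero, map_zero] at hc'
    have inj2 : Function.Injective (Y.residueFieldCongr e.symm).hom.hom := RingHom.injective _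
    exact hg ((map_eq_zero_iff _ inj2).mp hc'.symm)
  have hfield : IsField (Y.presheaf.stalk (f x)) := by
    rw [hfx]
    exact Field.toIsField Y.functionField
  have hcu : IsUnit c := by
    letI := hfield.toField
    exact IsUnit.mk0 c hc0
  have h1 := specMap_comp_stalkMap f x ξ h c
  have h2 : Cyc.specMap (f x) (f ξ) h₁ c = (Y.residueFieldCongr e.symm).hom g := hc'
  rw [h2] at h1
  rw [← h1]
  exact ordAt_unit x ξ h (f.stalkMap x c) (hcu.map _)

theorem main (X Y : Scheme.{u}) [IsIntegral Y] (δX : X → ℤ) (δY : Y → ℤ) (hX : Cyc.IsSetup X δX)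
    (hY : Cyc.IsSetup Y δY) (f : X ⟶ Y) [Flat f] [LocallyOfFiniteType f] (r : ℕ)
    (hr : Cyc.HasRelDim f r) (hδ : Cyc.DeltaCompat f δX δY) (k : ℤ)
    (hk : δY (genericPoint Y) = k) (g : Y.residueField (genericPoint Y)) (hg : g ≠ 0) (x : X) :
    Cyc.pullFun f δX δY r (Cyc.divFun δY (genericPoint Y) g) x =
      ∑ᶠ ξ : {ξ : X // (∀ x' : X, x' ⤳ ξ → x' = ξ) ∧ f ξ = genericPoint Y},
        ((Module.length (X.presheaf.stalk ξ.1) (X.presheaf.stalk ξ.1)).toNat : ℤ) *
          Cyc.divFun δX ξ.1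
            (f.residueFieldMap ξ.1 ((Y.residueFieldCongr ξ.2.2.symm).hom g)) x := by
  classical
  haveI : IsLocallyNoetherian X := hX.1
  haveI : IsLocallyNoetherian Y := hY.1
  have hδX := hX.2.2
  have hδY := hY.2.2
  have hle : ∀ z : X, δX z ≤ δY (f z) + r := delta_le f hδ r hr
  -- generic points of `X` over the generic point of `Y`
  have hGen : ∀ ξ : X, f ξ = genericPoint Y →
      ((∀ x' : X, x' ⤳ ξ → x' = ξ) ↔ δX ξ = k + r) := by
    intro ξ e
    have h0 := delta_eq_iff f hδ r hr ξ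
    rw [e, hk] at h0
    rw [h0]
    constructor
    · intro hmax x' _ hsp
      exact hmax x' hsp
    · intro hmax x' hsp
      have h1 : f x' ⤳ f ξ := f.base.hom.map_specializes hsp
      rw [e] at h1
      have h2 : f x' = genericPoint Y := genericPoint_maximal (f x') h1
      exact hmax x' h2 hsp
  by_cases hd2 : δX x + 1 = k + r
  swap
  · -- both sides vanish
    have hR : (∑ᶠ ξ : {ξ : X // (∀ x' : X, x' ⤳ ξ → x' = ξ) ∧ f ξ = genericPoint Y},
        ((Module.length (X.presheaf.stalk ξ.1) (X.presheaf.stalk ξ.1)).toNat : ℤ) *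
          Cyc.divFun δX ξ.1
            (f.residueFieldMap ξ.1 ((Y.residueFieldCongr ξ.2.2.symm).hom g)) x) = 0 := by
      apply finsum_eq_zero_of_forall_eq_zero
      intro ξ
      have h1 := (hGen ξ.1 ξ.2.2).mp ξ.2.1
      unfold Cyc.divFun
      rw [dif_neg (by rintro ⟨-, h2⟩; omega), mul_zero]
    rw [hR]
    unfold Cyc.pullFun
    by_cases h1 : δX x = δY (f x) + r
    · rw [if_pos h1]
      unfold Cyc.divFun
      rw [dif_neg (by rintro ⟨-, h2⟩; omega), zero_mul]
    · rw [if_neg h1]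
  -- reduce the sum to a sum over all points
  set F : X → ℤ := fun ξ => if e : f ξ = genericPoint Y then
      ((Module.length (X.presheaf.stalk ξ) (X.presheaf.stalk ξ)).toNat : ℤ) *
        Cyc.divFun δX ξ (f.residueFieldMap ξ ((Y.residueFieldCongr e.symm).hom g)) x else 0
    with hFdef
  have hF : ∀ ξ : X, F ξ = if e : f ξ = genericPoint Y then
      ((Module.length (X.presheaf.stalk ξ) (X.presheaf.stalk ξ)).toNat : ℤ) *
        Cyc.divFun δX ξ (f.residueFieldMap ξ ((Y.residueFieldCongr e.symm).hom g)) x else 0 :=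
    fun ξ => rfl
  have hR : (∑ᶠ ξ : {ξ : X // (∀ x' : X, x' ⤳ ξ → x' = ξ) ∧ f ξ = genericPoint Y},
      ((Module.length (X.presheaf.stalk ξ.1) (X.presheaf.stalk ξ.1)).toNat : ℤ) *
        Cyc.divFun δX ξ.1
          (f.residueFieldMap ξ.1 ((Y.residueFieldCongr ξ.2.2.symm).hom g)) x) =
      ∑ᶠ ξ : X, F ξ := by
    have h1 : ∀ ξ : {ξ : X // (∀ x' : X, x' ⤳ ξ → x' = ξ) ∧ f ξ = genericPoint Y},
        ((Module.length (X.presheaf.stalk ξ.1) (X.presheaf.stalk ξ.1)).toNat : ℤ) *
          Cyc.divFun δX ξ.1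
            (f.residueFieldMap ξ.1 ((Y.residueFieldCongr ξ.2.2.symm).hom g)) x = F ξ.1 := by
      intro ξ
      rw [hF, dif_pos ξ.2.2]
    rw [finsum_congr h1]
    refine (finsum_set_coe_eq_finsum_mem (f := F)
      {ξ : X | (∀ x' : X, x' ⤳ ξ → x' = ξ) ∧ f ξ = genericPoint Y}).trans ?_
    rw [← finsum_mem_univ F]
    apply finsum_mem_inter_support_eq'
    intro ξ hξ
    simp only [Set.mem_univ, iff_true]
    rw [Function.mem_support, hF] at hξ
    by_cases e : f ξ = genericPoint Y
    · rw [dif_pos e] at hξ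
      refine ⟨(hGen ξ e).mpr ?_, e⟩
      have h2 : Cyc.divFun δX ξ (f.residueFieldMap ξ ((Y.residueFieldCongr e.symm).hom g)) x ≠ 0 :=
        fun h0 => hξ (by rw [h0, mul_zero])
      have h3 := divFun_ne_zero_specializes h2
      omega
    · rw [dif_neg e] at hξ
      exact absurd rfl hξ
  rw [hR]
  by_cases hdy : δY (f x) + 1 = δY (genericPoint Y)
  · exact case_codim_one X Y δX δY hX hY f r hr hδ g hg x hdy (by omega) F hF
  · -- `x` lies in the generic fibre
    have hfx : f x = genericPoint Y := by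
      have h1 := hle x
      have h2 := delta_le_generic hδY (f x)
      exact h2.2 (by omega)
    have hL : Cyc.pullFun f δX δY r (Cyc.divFun δY (genericPoint Y) g) x = 0 := by
      unfold Cyc.pullFun
      rw [if_neg (by omega)]
    rw [hL]
    symm
    apply finsum_eq_zero_of_forall_eq_zero
    intro ξ
    rw [hF]
    by_cases e : f ξ = genericPoint Y
    · rw [dif_pos e]
      unfold Cyc.divFun
      by_cases hc : ξ ⤳ x ∧ δX x + 1 = δX ξ
      · rw [dif_pos hc, ordAt_eq_zero_of_generic_fibre f x ξ hc.1 e hfx g hg, mul_zero]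
      · rw [dif_neg hc, mul_zero]
    · rw [dif_neg e]

end Part4

end Groth.Agent.Lib.R2H1.FlatDivSum
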