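/-
Tame symbol under a flat local homomorphism of one-dimensional Noetherian local rings (S1850).
Main results: det_of_exact, Phi (norm-multiplicity product) with Phi_of_exact, det_smulK_eq_Phi (determinant = product of
residue norms to local lengths), Phi_chain (filtration lemma), coordEquiv, Phi_TQ (fibre identity), down/algDown (local maps
of a pushout), isFinExt_pushout, flatTame (tame data on the pushout), ord_piUp, value_flatTame_aux, tameSymbol_flat.
-/
import Mathlib
import Groth.Prelude.Def_Tame
import Groth.Agent.Lib.R2H1Tame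
import Groth.Agent.Lib.R2H1TameLaws
import Groth.Agent.Lib.R2H1TameNorm

set_option autoImplicit false
set_option linter.style.haveILetI false
set_option linter.unusedSectionVars false
universe u v

namespace Groth.Agent.Lib.R2H1.TameFlat

section Part1

section Part1

open IsLocalRing CycAlg Groth.Agent.Lib.R2H1.Tame Groth.Agent.Lib.Helper5.DetLengthGlobal

/-- Determinants are multiplicative in short exact sequences. -/
theorem det_of_exact {k : Type*} [Field k] {V₁ V V₂ : Type*} [AddCommGroup V₁] [Module k V₁]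
    [AddCommGroup V] [Module k V] [AddCommGroup V₂] [Module k V₂] [Module.Finite k V]
    (i : V₁ →ₗ[k] V) (p : V →ₗ[k] V₂) (hi : Function.Injective i) (hp : Function.Surjective p)
    (hex : Function.Exact i p) (f₁ : V₁ →ₗ[k] V₁) (f : V →ₗ[k] V) (f₂ : V₂ →ₗ[k] V₂)
    (h₁ : ∀ x, i (f₁ x) = f (i x)) (h₂ : ∀ x, p (f x) = f₂ (p x)) :
    LinearMap.det f = LinearMap.det f₁ * LinearMap.det f₂ := by
  have hW : LinearMap.range i ≤ (LinearMap.range i).comap f := by
    rintro _ ⟨y, rfl⟩
    exact ⟨f₁ y, h₁ y⟩
  rw [LinearMap.det_eq_det_mul_det (LinearMap.range i) f hW]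
  let e₁ : V₁ ≃ₗ[k] LinearMap.range i := LinearEquiv.ofInjective i hi
  let e₂ : (V ⧸ LinearMap.range i) ≃ₗ[k] V₂ := hex.linearEquivOfSurjective hp
  have hA : f.restrict hW = (e₁ : V₁ →ₗ[k] LinearMap.range i) ∘ₗ f₁ ∘ₗ
      (e₁.symm : LinearMap.range i →ₗ[k] V₁) := by
    ext w
    obtain ⟨y, rfl⟩ := e₁.surjective w
    simp only [LinearMap.restrict_coe_apply, LinearMap.coe_comp, LinearEquiv.coe_coe,
      Function.comp_apply, LinearEquiv.symm_apply_apply]
    rw [show ((e₁ y : LinearMap.range i) : V) = i y from rfl,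
      show ((e₁ (f₁ y) : LinearMap.range i) : V) = i (f₁ y) from rfl, h₁]
  have hB : f₂ = (e₂ : (V ⧸ LinearMap.range i) →ₗ[k] V₂) ∘ₗ
      ((LinearMap.range i).mapQ (LinearMap.range i) f hW) ∘ₗ
      (e₂.symm : V₂ →ₗ[k] (V ⧸ LinearMap.range i)) := by
    ext w
    obtain ⟨y, rfl⟩ := hp w
    simp only [LinearMap.coe_comp, LinearEquiv.coe_coe, Function.comp_apply]
    rw [show e₂.symm (p y) = Submodule.Quotient.mk y from
      hex.linearEquivOfSurjective_symm_apply hp y, Submodule.mapQ_apply]
    rw [show e₂ (Submodule.Quotient.mk (f y)) = p (f y) from rfl, h₂]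
  rw [hA, LinearMap.det_conj, hB, LinearMap.det_conj]

/-- additivity of local lengths in exact sequences -/
theorem locLen_exact {S : Type u} [CommRing S] {V₁ V V₂ : Type*} [AddCommGroup V₁] [Module S V₁]
    [AddCommGroup V] [Module S V] [AddCommGroup V₂] [Module S V₂]
    (i : V₁ →ₗ[S] V) (p : V →ₗ[S] V₂) (hi : Function.Injective i) (hp : Function.Surjective p)
    (hex : Function.Exact i p) (q : MaximalSpectrum S) :
    locLen V q = locLen V₁ q + locLen V₂ q := by
  unfold locLen
  refine Module.length_eq_add_of_exact (LocalizedModule.map q.asIdeal.primeCompl i)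
    (LocalizedModule.map q.asIdeal.primeCompl p) ?_ ?_ ?_
  · exact LocalizedModule.map_injective _ _ hi
  · exact LocalizedModule.map_surjective _ _ hp
  · exact LocalizedModule.map_exact _ _ _ hex

theorem locLen_congr {S : Type u} [CommRing S] {V V' : Type*} [AddCommGroup V] [Module S V]
    [AddCommGroup V'] [Module S V'] (e : V ≃ₗ[S] V') (q : MaximalSpectrum S) :
    locLen V q = locLen V' q := by
  have h := locLen_exact (0 : PUnit.{1} →ₗ[S] V) (e : V →ₗ[S] V')
    (fun x y _ => Subsingleton.elim x y) e.surjective ?_ q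
  · rw [h, locLen_of_subsingleton, zero_add]
  · intro x
    constructor
    · intro hx
      refine ⟨PUnit.unit, ?_⟩
      have : x = 0 := e.injective (by rw [map_zero]; exact hx)
      rw [this]; rfl
    · rintro ⟨_, rfl⟩
      simp

theorem locLen_ne_top {S : Type u} [CommRing S] (V : Type*) [AddCommGroup V] [Module S V]
    (h : Module.length S V ≠ ⊤) (q : MaximalSpectrum S) : locLen V q ≠ ⊤ :=
  ne_top_of_le_ne_top h (locLen_le V q)

section Phi

variable (A : Type u) [CommRing A] [IsLocalRing A] (S : Type u) [CommRing S] [Algebra A S]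
  [hloc : ∀ q : MaximalSpectrum S, IsLocalHom (algebraMap A (Localization.AtPrime q.asIdeal))]

/-- the norm of the residue of `s` at `q` -/
noncomputable def nres (s : S) (q : MaximalSpectrum S) : ResidueField A :=
  Algebra.norm (ResidueField A) (algebraMap S (ResidueField (Localization.AtPrime q.asIdeal)) s)

/-- the norm-multiplicity product of a module -/
noncomputable def Phi (s : S) (V : Type*) [AddCommGroup V] [Module S V] : ResidueField A :=
  ∏ᶠ q : MaximalSpectrum S, nres A S s q ^ (locLen V q).toNat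

theorem Phi_of_exact [Module.Finite A S] (s : S) {V₁ V V₂ : Type*} [AddCommGroup V₁] [Module S V₁]
    [AddCommGroup V] [Module S V] [AddCommGroup V₂] [Module S V₂]
    (i : V₁ →ₗ[S] V) (p : V →ₗ[S] V₂) (hi : Function.Injective i) (hp : Function.Surjective p)
    (hex : Function.Exact i p) (hV : Module.length S V ≠ ⊤) :
    Phi A S s V = Phi A S s V₁ * Phi A S s V₂ := by
  haveI := finite_maximalSpectrum A S
  unfold Phi
  rw [← finprod_mul_distrib (Set.toFinite _) (Set.toFinite _)]
  refine finprod_congr fun q => ?_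
  have h1 : Module.length S V₁ ≠ ⊤ := ne_top_of_le_ne_top hV (Module.length_le_of_injective i hi)
  have h2 : Module.length S V₂ ≠ ⊤ := ne_top_of_le_ne_top hV (Module.length_le_of_surjective p hp)
  rw [locLen_exact i p hi hp hex q, ENat.toNat_add (locLen_ne_top V₁ h1 q) (locLen_ne_top V₂ h2 q),
    pow_add]

theorem Phi_congr (s : S) {V V' : Type*} [AddCommGroup V] [Module S V]
    [AddCommGroup V'] [Module S V'] (e : V ≃ₗ[S] V') : Phi A S s V = Phi A S s V' := by
  unfold Phi
  exact finprod_congr fun q => by rw [locLen_congr e q]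

theorem Phi_subsingleton (s : S) (V : Type*) [AddCommGroup V] [Module S V] [Subsingleton V] :
    Phi A S s V = 1 := by
  unfold Phi
  have h : ∀ q : MaximalSpectrum S, nres A S s q ^ (locLen V q).toNat = 1 := fun q => by
    rw [locLen_of_subsingleton, ENat.toNat_zero, pow_zero]
  rw [finprod_congr h, finprod_one]

theorem Phi_simple (s : S) (V : Type*) [AddCommGroup V] [Module S V] (q₀ : MaximalSpectrum S)
    (h1 : locLen V q₀ = 1) (h0 : ∀ q, q ≠ q₀ → locLen V q = 0) :
    Phi A S s V = nres A S s q₀ := by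
  unfold Phi
  rw [finprod_eq_single _ q₀ (fun q hq => by rw [h0 q hq, ENat.toNat_zero, pow_zero]), h1]
  simp

end Phi

end Part1

end Part1

section Part2

section Part2

open IsLocalRing CycAlg Groth.Agent.Lib.R2H1.Tame Groth.Agent.Lib.Helper5.DetLengthGlobal

variable (A : Type u) [CommRing A] [IsLocalRing A] (S : Type u) [CommRing S] [Algebra A S]
  [hloc : ∀ q : MaximalSpectrum S, IsLocalHom (algebraMap A (Localization.AtPrime q.asIdeal))]

theorem algebraMap_residue_surjective :
    Function.Surjective (algebraMap A (ResidueField A)) := residue_surjective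

/-- multiplication by `s` as a linear map over the residue field -/
noncomputable def smulK (s : S) (V : Type*) [AddCommGroup V] [Module S V] [Module A V]
    [IsScalarTower A S V] [Module (ResidueField A) V] [IsScalarTower A (ResidueField A) V] :
    V →ₗ[ResidueField A] V :=
  LinearMap.extendScalarsOfSurjective (algebraMap_residue_surjective A)
    ((LinearMap.lsmul S V s).restrictScalars A)

theorem smulK_apply (s : S) (V : Type*) [AddCommGroup V] [Module S V] [Module A V]
    [IsScalarTower A S V] [Module (ResidueField A) V] [IsScalarTower A (ResidueField A) V] (v : V) :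
    smulK A S s V v = s • v := rfl

/-- the maximal ideal kills a module over the residue field -/
theorem maximalIdeal_smul_eq_zero (V : Type*) [AddCommGroup V] [Module A V]
    [Module (ResidueField A) V] [IsScalarTower A (ResidueField A) V] (a : A)
    (ha : a ∈ maximalIdeal A) (v : V) : a • v = 0 := by
  rw [← algebraMap_smul (ResidueField A) a v, ResidueField.algebraMap_eq,
    (residue_eq_zero_iff a).mpr ha, zero_smul]

/-- determinant of multiplication on a simple module -/
theorem det_smulK_simple [Module.Finite A S] (s : S) (V : Type*) [AddCommGroup V] [Module S V]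
    [Module A V] [IsScalarTower A S V] [Module (ResidueField A) V]
    [IsScalarTower A (ResidueField A) V] (q₀ : MaximalSpectrum S)
    (e : V ≃ₗ[S] (S ⧸ q₀.asIdeal)) :
    LinearMap.det (smulK A S s V) = nres A S s q₀ := by
  haveI := q₀.isMaximal
  let K := ResidueField (Localization.AtPrime q₀.asIdeal)
  let g : S →ₗ[S] K := Algebra.linearMap S K
  have hg : Function.Surjective g := Ideal.algebraMap_residueField_surjective q₀.asIdeal
  have hk : LinearMap.ker g = q₀.asIdeal := by
    ext x
    rw [LinearMap.mem_ker]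
    exact Ideal.algebraMap_residueField_eq_zero
  let e1 : (S ⧸ q₀.asIdeal) ≃ₗ[S] K :=
    (Submodule.quotEquivOfEq _ _ hk.symm) ≪≫ₗ g.quotKerEquivOfSurjective hg
  let ε : V ≃ₗ[S] K := e ≪≫ₗ e1
  let ε' : V ≃ₗ[ResidueField A] K :=
    LinearEquiv.extendScalarsOfSurjective (algebraMap_residue_surjective A) (ε.restrictScalars A)
  have hconj : LinearMap.mulLeft (ResidueField A) (algebraMap S K s) =
      (ε' : V →ₗ[ResidueField A] K) ∘ₗ smulK A S s V ∘ₗ (ε'.symm : K →ₗ[ResidueField A] V) := by
    ext x
    simp only [LinearMap.mulLeft_apply, LinearMap.coe_comp, LinearEquiv.coe_coe,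
      Function.comp_apply, smulK_apply]
    change _ = ε (s • ε.symm x)
    rw [map_smul, ε.apply_symm_apply, Algebra.smul_def]
  unfold nres
  rw [Algebra.norm_apply, show Algebra.lmul (ResidueField A) K (algebraMap S K s) =
    LinearMap.mulLeft (ResidueField A) (algebraMap S K s) from rfl, hconj, LinearMap.det_conj]

end Part2

end Part2

section Part3

section Part3

open IsLocalRing CycAlg Groth.Agent.Lib.R2H1.Tame Groth.Agent.Lib.Helper5.DetLengthGlobal

variable (A : Type u) [CommRing A] [IsLocalRing A] (S : Type u) [CommRing S] [Algebra A S]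
  [hloc : ∀ q : MaximalSpectrum S, IsLocalHom (algebraMap A (Localization.AtPrime q.asIdeal))]

/-- the residue field structure on a module killed by the maximal ideal -/
noncomputable def kModule (V : Type*) [AddCommGroup V] [Module A V]
    (hV : Module.IsTorsionBySet A V (maximalIdeal A)) : Module (ResidueField A) V :=
  hV.module

theorem kModule_isScalarTower (V : Type*) [AddCommGroup V] [Module A V]
    (hV : Module.IsTorsionBySet A V (maximalIdeal A)) :
    letI := kModule A V hV
    IsScalarTower A (ResidueField A) V := by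
  letI := kModule A V hV
  exact hV.isScalarTower

theorem isTorsionBySet_of_kModule (V : Type*) [AddCommGroup V] [Module A V]
    [Module (ResidueField A) V] [IsScalarTower A (ResidueField A) V] :
    Module.IsTorsionBySet A V (maximalIdeal A) := by
  intro v a
  exact maximalIdeal_smul_eq_zero A V a.1 a.2 v

/-- **Determinant formula**: for a finite length `S`-module which is a vector space over the
residue field `k` of `A`, the determinant of multiplication by `s` is the norm-multiplicity
product. -/
theorem det_smulK_eq_Phi [Module.Finite A S] (s : S) (V : Type*) [AddCommGroup V] [Module S V]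
    (h : IsFiniteLength S V) :
    ∀ [Module A V] [IsScalarTower A S V] [Module (ResidueField A) V]
      [IsScalarTower A (ResidueField A) V],
      LinearMap.det (smulK A S s V) = Phi A S s V := by
  induction h with
  | of_subsingleton =>
    rename_i M _ _ _
    intro _ _ _ _
    rw [Phi_subsingleton, LinearMap.det_eq_one_of_subsingleton]
  | of_simple_quotient hNfl ih =>
    rename_i M _ _ N hsimple
    intro _ _ _ _
    have hM : Module.IsTorsionBySet A M (maximalIdeal A) := isTorsionBySet_of_kModule A M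
    have hNt : Module.IsTorsionBySet A N (maximalIdeal A) := by
      intro v a
      apply Subtype.ext
      rw [Submodule.coe_smul_of_tower]
      exact @hM v.1 a
    have hQt : Module.IsTorsionBySet A (M ⧸ N) (maximalIdeal A) := by
      intro v a
      obtain ⟨w, rfl⟩ := N.mkQ_surjective v
      rw [Submodule.mkQ_apply, ← Submodule.Quotient.mk_smul, @hM w a, Submodule.Quotient.mk_zero]
    letI iN : Module (ResidueField A) N := kModule A N hNt
    haveI tN : IsScalarTower A (ResidueField A) N := kModule_isScalarTower A N hNt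
    letI iQ : Module (ResidueField A) (M ⧸ N) := kModule A (M ⧸ N) hQt
    haveI tQ : IsScalarTower A (ResidueField A) (M ⧸ N) := kModule_isScalarTower A (M ⧸ N) hQt
    have hfl : IsFiniteLength S M := IsFiniteLength.of_simple_quotient hNfl
    have hlen : Module.length S M ≠ ⊤ := Module.length_ne_top_iff.mpr hfl
    haveI : IsNoetherian S M := (isFiniteLength_iff_isNoetherian_isArtinian.mp hfl).1
    haveI : Module.Finite A M := Module.Finite.trans S M
    haveI : Module.Finite (ResidueField A) M := Module.Finite.of_restrictScalars_finite A _ M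
    let i : N →ₗ[ResidueField A] M :=
      LinearMap.extendScalarsOfSurjective (algebraMap_residue_surjective A)
        (N.subtype.restrictScalars A)
    let p : M →ₗ[ResidueField A] (M ⧸ N) :=
      LinearMap.extendScalarsOfSurjective (algebraMap_residue_surjective A)
        (N.mkQ.restrictScalars A)
    have hdet := det_of_exact i p N.injective_subtype N.mkQ_surjective
      (LinearMap.exact_subtype_mkQ N) (smulK A S s N) (smulK A S s M) (smulK A S s (M ⧸ N))
      (fun x => rfl) (fun x => rfl)
    obtain ⟨m0, ⟨e⟩, hm0, hm0'⟩ := locLen_simple' S (M ⧸ N)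
    rw [hdet, ih, det_smulK_simple A S s (M ⧸ N) m0 e,
      Phi_of_exact A S s N.subtype N.mkQ N.injective_subtype N.mkQ_surjective
        (LinearMap.exact_subtype_mkQ N) hlen, Phi_simple A S s (M ⧸ N) m0 hm0 hm0']

end Part3

end Part3

section Part4

section Part4

open IsLocalRing CycAlg Groth.Agent.Lib.R2H1.Tame Groth.Agent.Lib.Helper5.DetLengthGlobal

variable (A' : Type u) [CommRing A'] [IsLocalRing A'] (S : Type u) [CommRing S] [Algebra A' S]
  (T : Type*) [AddCommGroup T] [Module S T] [Module A' T] [IsScalarTower A' S T]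

/-- `I T` as an `S`-submodule. -/
def PI (I : Ideal A') : Submodule S T := (I.map (algebraMap A' S)) • (⊤ : Submodule S T)

theorem mem_PI_iff (I : Ideal A') (t : T) :
    t ∈ PI A' S T I ↔ t ∈ (I • ⊤ : Submodule A' T) := by
  rw [← Submodule.restrictScalars_mem A' (PI A' S T I)]
  unfold PI
  rw [Ideal.smul_restrictScalars, Submodule.restrictScalars_top]

theorem PI_mono {I I' : Ideal A'} (h : I ≤ I') : PI A' S T I ≤ PI A' S T I' := by
  intro t ht
  rw [mem_PI_iff] at ht ⊢
  exact Submodule.smul_mono_left h ht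

theorem PI_top : PI A' S T ⊤ = ⊤ := by
  rw [eq_top_iff]
  intro t _
  rw [mem_PI_iff]
  have : t = (1 : A') • t := (one_smul _ _).symm
  rw [this]
  exact Submodule.smul_mem_smul Submodule.mem_top Submodule.mem_top

/-- The flatness-type property used for the filtration argument. -/
def FProp (I₀ : Ideal A') : Prop :=
  ∀ I : Ideal A', I₀ ≤ I → ∀ ε : A', ε ∉ I → ∀ t : T,
    ε • t ∈ (I • ⊤ : Submodule A' T) → t ∈ (maximalIdeal A' • ⊤ : Submodule A' T)

variable {A' S T}

theorem smul_mem_PI {I : Ideal A'} {ε : A'} (hε : ∀ a ∈ maximalIdeal A', a * ε ∈ I) {t : T}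
    (ht : t ∈ PI A' S T (maximalIdeal A')) : algebraMap A' S ε • t ∈ PI A' S T I := by
  rw [mem_PI_iff] at ht ⊢
  rw [algebraMap_smul]
  refine Submodule.smul_induction_on ht ?_ ?_
  · intro a ha x _
    rw [smul_smul, mul_comm]
    exact Submodule.smul_mem_smul (hε a ha) Submodule.mem_top
  · intro x y hx hy
    rw [smul_add]
    exact add_mem hx hy

/-- multiplication by `ε` on the quotients -/
noncomputable def muMap {I : Ideal A'} {ε : A'} (hε : ∀ a ∈ maximalIdeal A', a * ε ∈ I) :
    (T ⧸ PI A' S T (maximalIdeal A')) →ₗ[S] (T ⧸ PI A' S T I) :=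
  Submodule.mapQ _ _ (LinearMap.lsmul S T (algebraMap A' S ε)) (fun _ ht => smul_mem_PI hε ht)

theorem muMap_mk {I : Ideal A'} {ε : A'} (hε : ∀ a ∈ maximalIdeal A', a * ε ∈ I) (t : T) :
    muMap (S := S) (T := T) hε (Submodule.Quotient.mk t) = Submodule.Quotient.mk (ε • t) := by
  unfold muMap
  rw [Submodule.mapQ_apply, LinearMap.lsmul_apply, algebraMap_smul]

theorem muMap_injective {I₀ : Ideal A'} (hF : FProp A' T I₀) {I : Ideal A'} (hI : I₀ ≤ I) {ε : A'}
    (hεI : ε ∉ I) (hε : ∀ a ∈ maximalIdeal A', a * ε ∈ I) :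
    Function.Injective (muMap (S := S) (T := T) hε) := by
  rw [← LinearMap.ker_eq_bot, eq_bot_iff]
  intro x hx
  obtain ⟨t, rfl⟩ := Submodule.Quotient.mk_surjective _ x
  rw [LinearMap.mem_ker, muMap_mk, Submodule.Quotient.mk_eq_zero, mem_PI_iff] at hx
  rw [Submodule.mem_bot, Submodule.Quotient.mk_eq_zero, mem_PI_iff]
  exact hF I hI ε hεI t hx

theorem muMap_exact {I : Ideal A'} {ε : A'} (hε : ∀ a ∈ maximalIdeal A', a * ε ∈ I) :
    Function.Exact (muMap (S := S) (T := T) hε)
      (Submodule.factor (PI_mono A' S T (le_sup_left : I ≤ I ⊔ Ideal.span {ε}))) := by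
  intro x
  obtain ⟨t, rfl⟩ := Submodule.Quotient.mk_surjective _ x
  have hfac : Submodule.factor (PI_mono A' S T (le_sup_left : I ≤ I ⊔ Ideal.span {ε}))
      (Submodule.Quotient.mk t) = Submodule.Quotient.mk t := Submodule.factor_mk _ t
  rw [hfac, Submodule.Quotient.mk_eq_zero, mem_PI_iff, Submodule.sup_smul, Submodule.mem_sup]
  constructor
  · rintro ⟨p, hp, q, hq, rfl⟩
    rw [Submodule.ideal_span_singleton_smul, Submodule.mem_smul_pointwise_iff_exists] at hq
    obtain ⟨t', -, rfl⟩ := hq
    refine ⟨Submodule.Quotient.mk t', ?_⟩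
    rw [muMap_mk, Submodule.Quotient.eq, mem_PI_iff]
    have : ε • t' - (p + ε • t') = -p := by abel
    rw [this]
    exact neg_mem hp
  · rintro ⟨y, hy⟩
    obtain ⟨t', rfl⟩ := Submodule.Quotient.mk_surjective _ y
    rw [muMap_mk, Submodule.Quotient.eq, mem_PI_iff] at hy
    refine ⟨t - ε • t', ?_, ε • t', ?_, by abel⟩
    · have : t - ε • t' = -(ε • t' - t) := by abel
      rw [this]
      exact neg_mem hy
    · rw [Submodule.ideal_span_singleton_smul]
      exact Submodule.smul_mem_pointwise_smul _ _ _ Submodule.mem_top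

end Part4

end Part4

section Part5

section Part5

open IsLocalRing CycAlg Groth.Agent.Lib.R2H1.Tame Groth.Agent.Lib.Helper5.DetLengthGlobal

variable {A' : Type u} [CommRing A'] [IsLocalRing A']

theorem exists_socle_elt (I : Ideal A') (hI : I ≠ ⊤) (hfin : Module.length A' (A' ⧸ I) ≠ ⊤) :
    ∃ ε : A', ε ∉ I ∧ ∀ a ∈ maximalIdeal A', a * ε ∈ I := by
  have hfl : IsFiniteLength A' (A' ⧸ I) := Module.length_ne_top_iff.mp hfin
  haveI : IsArtinian A' (A' ⧸ I) := (isFiniteLength_iff_isNoetherian_isArtinian.mp hfl).2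
  haveI : Nontrivial (A' ⧸ I) := Ideal.Quotient.nontrivial_iff.mpr hI
  obtain ⟨N, hN, -⟩ := (IsAtomic.eq_bot_or_exists_atom_le (⊤ : Submodule A' (A' ⧸ I))).resolve_left
    top_ne_bot
  obtain ⟨x, hxN, hx0⟩ := Submodule.exists_mem_ne_zero_of_ne_bot hN.1
  obtain ⟨ε, rfl⟩ := Ideal.Quotient.mk_surjective x
  refine ⟨ε, fun h => hx0 (Ideal.Quotient.eq_zero_iff_mem.mpr h), fun a ha => ?_⟩
  by_contra hcon
  have hne : a • (Ideal.Quotient.mk I ε) ≠ 0 := by
    intro h0
    apply hcon
    rw [← Ideal.Quotient.eq_zero_iff_mem, map_mul]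
    rw [Algebra.smul_def, Ideal.Quotient.algebraMap_eq] at h0
    exact h0
  have hle : Submodule.span A' {a • (Ideal.Quotient.mk I ε)} ≤ N :=
    (Submodule.span_singleton_le_iff_mem _ _).mpr (N.smul_mem a hxN)
  have hsp : Submodule.span A' {a • (Ideal.Quotient.mk I ε)} = N := by
    rcases hN.le_iff.mp hle with h | h
    · exact absurd ((Submodule.span_singleton_eq_bot).mp h) hne
    · exact h
  rw [← hsp, Submodule.mem_span_singleton] at hxN
  obtain ⟨c, hc⟩ := hxN
  have hu : IsUnit (1 - c * a) := by
    have hm : c * a ∈ maximalIdeal A' := Ideal.mul_mem_left _ c ha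
    have := IsLocalRing.isUnit_one_sub_self_of_mem_nonunits (c * a) hm
    exact this
  apply hx0
  have h1 : (1 - c * a) • (Ideal.Quotient.mk I ε) = 0 := by
    rw [sub_smul, one_smul, mul_smul, hc, sub_self]
  exact (hu.smul_eq_zero).mp h1

end Part5

end Part5

section Part6

section Part6

open IsLocalRing CycAlg Groth.Agent.Lib.R2H1.Tame Groth.Agent.Lib.Helper5.DetLengthGlobal

variable {A' : Type u} [CommRing A'] [IsLocalRing A']

theorem PI_self (I : Ideal A') : PI A' A' A' I = I := by
  ext t
  rw [mem_PI_iff, smul_eq_mul, Ideal.mul_top]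

theorem fProp_self : FProp A' A' ⊥ := by
  intro I _ ε hε t ht
  rw [smul_eq_mul, Ideal.mul_top] at ht ⊢
  by_contra hcon
  have hu : IsUnit t := by
    by_contra h
    exact hcon ((IsLocalRing.mem_maximalIdeal t).mpr h)
  obtain ⟨u, rfl⟩ := hu
  apply hε
  have : ε = (ε • (u : A')) * ((u⁻¹ : A'ˣ) : A') := by
    rw [smul_eq_mul, mul_assoc, Units.mul_inv, mul_one]
  rw [this]
  exact Ideal.mul_mem_right _ _ ht

theorem length_quot_step (I : Ideal A') (ε : A') (hεI : ε ∉ I)
    (hε : ∀ a ∈ maximalIdeal A', a * ε ∈ I) :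
    Module.length A' (A' ⧸ I) = 1 + Module.length A' (A' ⧸ (I ⊔ Ideal.span {ε})) := by
  have h := Module.length_eq_add_of_exact (muMap (S := A') (T := A') hε)
    (Submodule.factor (PI_mono A' A' A' (le_sup_left : I ≤ I ⊔ Ideal.span {ε})))
    (muMap_injective fProp_self bot_le hεI hε) (Submodule.factor_surjective _) (muMap_exact hε)
  have e1 : (A' ⧸ PI A' A' A' I) ≃ₗ[A'] (A' ⧸ I) := Submodule.quotEquivOfEq _ _ (PI_self I)
  have e2 : (A' ⧸ PI A' A' A' (I ⊔ Ideal.span {ε})) ≃ₗ[A'] (A' ⧸ (I ⊔ Ideal.span {ε})) :=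
    Submodule.quotEquivOfEq _ _ (PI_self _)
  have e3 : (A' ⧸ PI A' A' A' (maximalIdeal A')) ≃ₗ[A'] (A' ⧸ maximalIdeal A') :=
    Submodule.quotEquivOfEq _ _ (PI_self _)
  rw [e1.length_eq, e2.length_eq, e3.length_eq] at h
  rw [h]
  congr 1
  rw [Module.length_eq_one_iff]
  exact isSimpleModule_iff_quot_maximal.mpr ⟨maximalIdeal A', inferInstance, ⟨LinearEquiv.refl _ _⟩⟩

variable (A') (S : Type u) [CommRing S] [Algebra A' S]
  [hloc : ∀ q : MaximalSpectrum S, IsLocalHom (algebraMap A' (Localization.AtPrime q.asIdeal))]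
  (T : Type*) [AddCommGroup T] [Module S T] [Module A' T] [IsScalarTower A' S T]

/-- **Filtration lemma**: the norm-multiplicity product of `T/IT` is the `length(A'/I)`-th power
of that of `T/𝔪T`. -/
theorem Phi_chain [Module.Finite A' S] (s : S) (I₀ : Ideal A') (hF : FProp A' T I₀)
    (hT : Module.length S T ≠ ⊤) (n : ℕ) :
    ∀ I : Ideal A', I₀ ≤ I → Module.length A' (A' ⧸ I) = n →
      Phi A' S s (T ⧸ PI A' S T I) = Phi A' S s (T ⧸ PI A' S T (maximalIdeal A')) ^ n := by
  induction n with
  | zero =>
    intro I _ hlen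
    rw [Nat.cast_zero, Module.length_eq_zero_iff] at hlen
    have hI : I = ⊤ := by
      rw [Ideal.eq_top_iff_one, ← Ideal.Quotient.eq_zero_iff_mem]
      exact Subsingleton.elim _ _
    haveI : Subsingleton (T ⧸ PI A' S T I) := by
      rw [hI, PI_top]
      exact Submodule.Quotient.subsingleton_iff.mpr rfl
    rw [Phi_subsingleton, pow_zero]
  | succ n ih =>
    intro I hI hlen
    have hne : I ≠ ⊤ := by
      rintro rfl
      have : Module.length A' (A' ⧸ (⊤ : Ideal A')) = 0 := by
        rw [Module.length_eq_zero_iff]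
        exact Submodule.Quotient.subsingleton_iff.mpr rfl
      rw [this] at hlen
      have h2 : ((n + 1 : ℕ) : ℕ∞) ≠ 0 := by exact_mod_cast Nat.succ_ne_zero n
      exact h2 hlen.symm
    have hfin : Module.length A' (A' ⧸ I) ≠ ⊤ := by rw [hlen]; exact ENat.coe_ne_top _
    obtain ⟨ε, hεI, hε⟩ := exists_socle_elt I hne hfin
    have hstep := length_quot_step I ε hεI hε
    have hlen' : Module.length A' (A' ⧸ (I ⊔ Ideal.span {ε})) = n := by
      rw [hlen] at hstep
      have h1 : ((n + 1 : ℕ) : ℕ∞) = 1 + (n : ℕ∞) := by push_cast; ring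
      rw [h1] at hstep
      exact (WithTop.add_left_cancel ENat.one_ne_top hstep).symm
    have hlenT : Module.length S (T ⧸ PI A' S T I) ≠ ⊤ :=
      ne_top_of_le_ne_top hT (Module.length_le_of_surjective _ (Submodule.mkQ_surjective _))
    rw [Phi_of_exact A' S s (muMap (S := S) (T := T) hε)
      (Submodule.factor (PI_mono A' S T (le_sup_left : I ≤ I ⊔ Ideal.span {ε})))
      (muMap_injective hF hI hεI hε) (Submodule.factor_surjective _) (muMap_exact hε) hlenT,
      ih _ (hI.trans le_sup_left) hlen', pow_succ, mul_comm]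

end Part6

end Part6

section Part7

section Part7

open IsLocalRing CycAlg Groth.Agent.Lib.R2H1.Tame Groth.Agent.Lib.Helper5.DetLengthGlobal
open scoped TensorProduct

variable (A A' B S : Type u) [CommRing A] [CommRing A'] [CommRing B] [CommRing S]
  [Algebra A A'] [Algebra A B] [Algebra A S] [Algebra A' S] [Algebra B S]
  [IsScalarTower A A' S] [IsScalarTower A B S] [Algebra.IsPushout A A' B S]
  [IsLocalRing A] [Module.Finite A B]
  (Q : Ideal B) [Q.IsMaximal] [Q.LiesOver (maximalIdeal A)]

/-- the residue degree -/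
noncomputable def fdeg : ℕ := Module.finrank (A ⧸ maximalIdeal A) (B ⧸ Q)

/-- coordinates on the residue field extension -/
noncomputable def coord0 : (B ⧸ Q) ≃ₗ[A] (Fin (fdeg A B Q) → A ⧸ maximalIdeal A) :=
  letI : Field (A ⧸ maximalIdeal A) := Ideal.Quotient.field _
  haveI : Module.Finite (A ⧸ maximalIdeal A) (B ⧸ Q) :=
    Module.Finite.of_restrictScalars_finite A _ _
  ((Module.finBasis (A ⧸ maximalIdeal A) (B ⧸ Q)).equivFun).restrictScalars A

/-- abstract coordinates on the fibre `S/QS` -/
noncomputable def coordEquiv : (S ⧸ Q.map (algebraMap B S)) ≃ₗ[A']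
    (Fin (fdeg A B Q) → A' ⧸ (maximalIdeal A).map (algebraMap A A')) :=
  ((Algebra.TensorProduct.quotIdealMapEquivTensorQuot S Q).toLinearEquiv.restrictScalars A') ≪≫ₗ
  (Algebra.IsPushout.cancelBaseChange A A' B S (B ⧸ Q)) ≪≫ₗ
  (TensorProduct.AlgebraTensorModule.congr (LinearEquiv.refl A' A') (coord0 A B Q)) ≪≫ₗ
  (TensorProduct.piRight A A' A' (fun _ : Fin (fdeg A B Q) => A ⧸ maximalIdeal A)) ≪≫ₗ
  (LinearEquiv.piCongrRight (fun _ =>
    (Algebra.TensorProduct.quotIdealMapEquivTensorQuot A' (maximalIdeal A)).symm.toLinearEquiv))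

end Part7

end Part7

section Part8

section Part8

open IsLocalRing CycAlg Groth.Agent.Lib.R2H1.Tame Groth.Agent.Lib.Helper5.DetLengthGlobal
open scoped TensorProduct

variable {A' : Type u} [CommRing A'] [IsLocalRing A']

theorem mem_smul_top_pi_iff (I₀ I : Ideal A') (d : ℕ) (c : Fin d → A' ⧸ I₀) :
    c ∈ (I • ⊤ : Submodule A' (Fin d → A' ⧸ I₀)) ↔ ∀ i, c i ∈ I.map (Ideal.Quotient.mk I₀) := by
  constructor
  · intro hc
    refine Submodule.smul_induction_on hc ?_ ?_
    · intro a ha x _ i
      rw [Pi.smul_apply, Algebra.smul_def, Ideal.Quotient.algebraMap_eq]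
      exact Ideal.mul_mem_right _ _ (Ideal.mem_map_of_mem _ ha)
    · intro x y hx hy i
      rw [Pi.add_apply]
      exact add_mem (hx i) (hy i)
  · intro hc
    rw [← Finset.univ_sum_single c]
    refine Submodule.sum_mem _ fun i _ => ?_
    obtain ⟨a, ha, hai⟩ := (Ideal.mem_map_iff_of_surjective _ Ideal.Quotient.mk_surjective).mp (hc i)
    have : (Pi.single i (c i) : Fin d → A' ⧸ I₀) = a • Pi.single i (1 : A' ⧸ I₀) := by
      rw [← Pi.single_smul, ← hai, Algebra.smul_def, mul_one, Ideal.Quotient.algebraMap_eq]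
    rw [this]
    exact Submodule.smul_mem_smul ha Submodule.mem_top

theorem fProp_pi (I₀ : Ideal A') (d : ℕ) : FProp A' (Fin d → A' ⧸ I₀) I₀ := by
  intro I hI ε hε c hc
  rw [mem_smul_top_pi_iff] at hc ⊢
  intro i
  obtain ⟨a, ha⟩ := Ideal.Quotient.mk_surjective (c i)
  have h1 := hc i
  rw [Pi.smul_apply, ← ha, Algebra.smul_def, Ideal.Quotient.algebraMap_eq, ← map_mul] at h1
  have h2 : ε * a ∈ I := by
    have h3 : ε * a ∈ (I.map (Ideal.Quotient.mk I₀)).comap (Ideal.Quotient.mk I₀) := h1
    rw [Ideal.comap_map_of_surjective _ Ideal.Quotient.mk_surjective,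
      ← RingHom.ker_eq_comap_bot, Ideal.mk_ker, sup_eq_left.mpr hI] at h3
    exact h3
  rw [← ha]
  apply Ideal.mem_map_of_mem
  by_contra hcon
  have hu : IsUnit a := by
    by_contra h
    exact hcon ((IsLocalRing.mem_maximalIdeal a).mpr h)
  obtain ⟨u, rfl⟩ := hu
  apply hε
  have : ε = (ε * (u : A')) * ((u⁻¹ : A'ˣ) : A') := by
    rw [mul_assoc, Units.mul_inv, mul_one]
  rw [this]
  exact Ideal.mul_mem_right _ _ h2

theorem fProp_of_equiv {T T' : Type*} [AddCommGroup T] [Module A' T] [AddCommGroup T']
    [Module A' T'] (e : T ≃ₗ[A'] T') (I₀ : Ideal A') (h : FProp A' T' I₀) : FProp A' T I₀ := by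
  have key : ∀ (I : Ideal A') (t : T), t ∈ (I • ⊤ : Submodule A' T) ↔
      e t ∈ (I • ⊤ : Submodule A' T') := by
    intro I t
    have h1 : (I • ⊤ : Submodule A' T').comap (e : T →ₗ[A'] T') = I • ⊤ := by
      have h2 : (I • ⊤ : Submodule A' T') = (I • ⊤ : Submodule A' T).map (e : T →ₗ[A'] T') := by
        rw [Submodule.map_smul'', Submodule.map_top, LinearMap.range_eq_top.mpr e.surjective]
      rw [h2, Submodule.comap_map_eq_of_injective e.injective]
    rw [← h1]
    rfl
  intro I hI ε hε t ht
  rw [key] at ht ⊢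
  rw [map_smul] at ht
  exact h I hI ε hε (e t) ht

end Part8

end Part8

section Part9

section Part9

open IsLocalRing CycAlg Groth.Agent.Lib.R2H1.Tame Groth.Agent.Lib.Helper5.DetLengthGlobal
open scoped TensorProduct

variable (A A' B S : Type u) [CommRing A] [CommRing A'] [CommRing B] [CommRing S]
  [Algebra A A'] [Algebra A B] [Algebra A S] [Algebra A' S] [Algebra B S]
  [IsScalarTower A A' S] [IsScalarTower A B S] [Algebra.IsPushout A A' B S]
  [IsLocalRing A] [IsLocalRing A'] [IsLocalHom (algebraMap A A')] [Module.Finite A B]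
  (Q : Ideal B) [Q.IsMaximal] [Q.LiesOver (maximalIdeal A)]

/-- the fibre module `S/QS` -/
abbrev TQ : Type u := S ⧸ Q.map (algebraMap B S)

/-- the reduced fibre `S/(QS + 𝔪'S)` -/
abbrev VQ : Type u := TQ B S Q ⧸ PI A' S (TQ B S Q) (maximalIdeal A')

example : Module A (VQ A' B S Q) := inferInstance
example : Module A' (VQ A' B S Q) := inferInstance
example : Module B (VQ A' B S Q) := inferInstance
example : IsScalarTower A' S (VQ A' B S Q) := inferInstance
example : IsScalarTower A S (VQ A' B S Q) := inferInstance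
example : IsScalarTower A A' (VQ A' B S Q) := inferInstance
example : IsScalarTower B S (VQ A' B S Q) := inferInstance

theorem VQ_torsion : Module.IsTorsionBySet A' (VQ A' B S Q) (maximalIdeal A') := by
  intro v a
  obtain ⟨t, rfl⟩ := Submodule.Quotient.mk_surjective _ v
  rw [← Submodule.Quotient.mk_smul, Submodule.Quotient.mk_eq_zero, mem_PI_iff]
  exact Submodule.smul_mem_smul a.2 Submodule.mem_top

noncomputable instance VQ_kModule : Module (ResidueField A') (VQ A' B S Q) :=
  kModule A' (VQ A' B S Q) (VQ_torsion A' B S Q)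

instance VQ_tower : IsScalarTower A' (ResidueField A') (VQ A' B S Q) :=
  kModule_isScalarTower A' (VQ A' B S Q) (VQ_torsion A' B S Q)

/-- `κ`-structure on the reduced fibre through `κ → k` (not an instance) -/
noncomputable abbrev VQ_kappaModule : Module (ResidueField A) (VQ A' B S Q) :=
  Module.compHom (VQ A' B S Q) (algebraMap (ResidueField A) (ResidueField A'))

theorem VQ_kappa_tower :
    letI := VQ_kappaModule A A' B S Q
    IsScalarTower (ResidueField A) (ResidueField A') (VQ A' B S Q) := by
  letI := VQ_kappaModule A A' B S Q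
  exact IsScalarTower.of_algebraMap_smul (fun _ _ => rfl)

theorem VQ_A_kappa_tower :
    letI := VQ_kappaModule A A' B S Q
    IsScalarTower A (ResidueField A) (VQ A' B S Q) := by
  letI := VQ_kappaModule A A' B S Q
  refine IsScalarTower.of_algebraMap_smul (fun a v => ?_)
  change algebraMap (ResidueField A) (ResidueField A') (algebraMap A (ResidueField A) a) • v = a • v
  rw [ResidueField.algebraMap_eq, ResidueField.algebraMap_residue, ← ResidueField.algebraMap_eq,
    algebraMap_smul, algebraMap_smul]

noncomputable instance WQ_kappaModule : Module (ResidueField A) (B ⧸ Q) :=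
  inferInstanceAs (Module (A ⧸ maximalIdeal A) (B ⧸ Q))

instance WQ_tower : IsScalarTower A (ResidueField A) (B ⧸ Q) :=
  inferInstanceAs (IsScalarTower A (A ⧸ maximalIdeal A) (B ⧸ Q))

/-- the canonical map `B/Q → S/(QS + 𝔪'S)`, `A`-linear -/
noncomputable def gA : (B ⧸ Q) →ₗ[A] VQ A' B S Q :=
  ((PI A' S (TQ B S Q) (maximalIdeal A')).mkQ.restrictScalars A) ∘ₗ
    (Ideal.quotientMapₐ (Q.map (algebraMap B S)) (IsScalarTower.toAlgHom A B S)
      Ideal.le_comap_map).toLinearMap

theorem gA_mk (y : B) : gA A A' B S Q (Ideal.Quotient.mk Q y) =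
    Submodule.Quotient.mk (Ideal.Quotient.mk (Q.map (algebraMap B S)) (algebraMap B S y)) := rfl

/-- the comparison map `k ⊗_κ B/Q → S/(QS + 𝔪'S)` -/
noncomputable def Theta :
    ResidueField A' ⊗[ResidueField A] (B ⧸ Q) →ₗ[ResidueField A'] VQ A' B S Q :=
  letI := VQ_kappaModule A A' B S Q
  haveI := VQ_kappa_tower A A' B S Q
  haveI := VQ_A_kappa_tower A A' B S Q
  (LinearMap.extendScalarsOfSurjective (algebraMap_residue_surjective A)
    (gA A A' B S Q)).liftBaseChange (ResidueField A')

theorem Theta_tmul (x : ResidueField A') (w : B ⧸ Q) :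
    Theta A A' B S Q (x ⊗ₜ w) = x • gA A A' B S Q w := by
  letI := VQ_kappaModule A A' B S Q
  haveI := VQ_kappa_tower A A' B S Q
  haveI := VQ_A_kappa_tower A A' B S Q
  unfold Theta
  rw [LinearMap.liftBaseChange_tmul]
  rfl

end Part9

end Part9

section Part10

section Part10

open IsLocalRing CycAlg Groth.Agent.Lib.R2H1.Tame Groth.Agent.Lib.Helper5.DetLengthGlobal
open scoped TensorProduct

variable (A A' B S : Type u) [CommRing A] [CommRing A'] [CommRing B] [CommRing S]
  [Algebra A A'] [Algebra A B] [Algebra A S] [Algebra A' S] [Algebra B S]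
  [IsScalarTower A A' S] [IsScalarTower A B S] [Algebra.IsPushout A A' B S]
  [IsLocalRing A] [IsLocalRing A'] [IsLocalHom (algebraMap A A')] [Module.Finite A B]
  (Q : Ideal B) [Q.IsMaximal] [Q.LiesOver (maximalIdeal A)]

theorem gA_smul (b : B) (w : B ⧸ Q) :
    gA A A' B S Q (b • w) = algebraMap B S b • gA A A' B S Q w := by
  obtain ⟨y, rfl⟩ := Ideal.Quotient.mk_surjective w
  rw [Algebra.smul_def, Ideal.Quotient.algebraMap_eq, ← map_mul, gA_mk, gA_mk, map_mul, map_mul,
    ← smul_eq_mul, ← Submodule.Quotient.mk_smul]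
  rfl

theorem Theta_surjective : Function.Surjective (Theta A A' B S Q) := by
  intro v
  obtain ⟨t, rfl⟩ := Submodule.Quotient.mk_surjective _ v
  obtain ⟨s, rfl⟩ := Ideal.Quotient.mk_surjective t
  have h : IsBaseChange A' (IsScalarTower.toAlgHom A B S).toLinearMap := Algebra.IsPushout.out
  refine h.inductionOn s (fun s => ∃ z, Theta A A' B S Q z =
    Submodule.Quotient.mk (Ideal.Quotient.mk (Q.map (algebraMap B S)) s)) ?_ ?_ ?_ ?_
  · exact ⟨0, by simp⟩
  · intro y
    refine ⟨1 ⊗ₜ (Ideal.Quotient.mk Q y), ?_⟩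
    rw [Theta_tmul, one_smul, gA_mk]
    rfl
  · rintro a' s ⟨z, hz⟩
    refine ⟨(residue A' a') • z, ?_⟩
    rw [map_smul, hz, ← ResidueField.algebraMap_eq, algebraMap_smul]
    rfl
  · rintro s₁ s₂ ⟨z₁, h₁⟩ ⟨z₂, h₂⟩
    exact ⟨z₁ + z₂, by rw [map_add, h₁, h₂, map_add, Submodule.Quotient.mk_add]⟩

end Part10

end Part10

section Part11

section Part11

open IsLocalRing CycAlg Groth.Agent.Lib.R2H1.Tame Groth.Agent.Lib.Helper5.DetLengthGlobal
open scoped TensorProduct

variable (A A' B S : Type u) [CommRing A] [CommRing A'] [CommRing B] [CommRing S]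
  [Algebra A A'] [Algebra A B] [Algebra A S] [Algebra A' S] [Algebra B S]
  [IsScalarTower A A' S] [IsScalarTower A B S] [Algebra.IsPushout A A' B S]
  [IsLocalRing A] [IsLocalRing A'] [IsLocalHom (algebraMap A A')] [Module.Finite A B]
  (Q : Ideal B) [Q.IsMaximal] [Q.LiesOver (maximalIdeal A)]

theorem length_VQ_ge : (fdeg A B Q : ℕ∞) ≤ Module.length A' (VQ A' B S Q) := by
  let d := fdeg A B Q
  let I₀ := (maximalIdeal A).map (algebraMap A A')
  have hI₀ : I₀ ≤ maximalIdeal A' := IsLocalRing.map_maximalIdeal_le (algebraMap A A')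
  let φ : (A' ⧸ I₀) →ₗ[A'] (A' ⧸ maximalIdeal A') := Submodule.factor hI₀
  have hφ : Function.Surjective φ := Submodule.factor_surjective hI₀
  let σ₀ : TQ B S Q →ₗ[A'] (Fin d → A' ⧸ maximalIdeal A') :=
    (φ.compLeft (Fin d)) ∘ₗ (coordEquiv A A' B S Q : TQ B S Q →ₗ[A'] (Fin d → A' ⧸ I₀))
  have hσ₀ : Function.Surjective σ₀ := by
    intro c
    obtain ⟨c', hc'⟩ := (hφ.comp_left (α := Fin d)) c
    obtain ⟨t, ht⟩ := (coordEquiv A A' B S Q).surjective c'
    refine ⟨t, ?_⟩
    change (φ.compLeft (Fin d)) (coordEquiv A A' B S Q t) = c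
    rw [ht, ← hc']
    rfl
  let P := PI A' S (TQ B S Q) (maximalIdeal A')
  have hkill : P.restrictScalars A' ≤ LinearMap.ker σ₀ := by
    intro t ht
    rw [Submodule.restrictScalars_mem, mem_PI_iff] at ht
    rw [LinearMap.mem_ker]
    refine Submodule.smul_induction_on ht ?_ ?_
    · intro a ha x _
      rw [map_smul]
      funext i
      rw [Pi.smul_apply, Pi.zero_apply]
      obtain ⟨c, hc⟩ := Ideal.Quotient.mk_surjective (σ₀ x i)
      rw [← hc, Algebra.smul_def, Ideal.Quotient.algebraMap_eq, ← map_mul,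
        Ideal.Quotient.eq_zero_iff_mem]
      exact Ideal.mul_mem_right _ _ ha
    · intro x y hx hy
      rw [map_add, hx, hy, add_zero]
  let σ : (TQ B S Q ⧸ P.restrictScalars A') →ₗ[A'] (Fin d → A' ⧸ maximalIdeal A') :=
    Submodule.liftQ _ σ₀ hkill
  have hσ : Function.Surjective σ := by
    intro c
    obtain ⟨t, rfl⟩ := hσ₀ c
    exact ⟨Submodule.Quotient.mk t, rfl⟩
  have h1 := Module.length_le_of_surjective σ hσ
  rw [Module.length_pi_of_fintype] at h1
  have h2 : Module.length A' (A' ⧸ maximalIdeal A') = 1 := by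
    rw [Module.length_eq_one_iff]
    exact isSimpleModule_iff_quot_maximal.mpr
      ⟨maximalIdeal A', inferInstance, ⟨LinearEquiv.refl _ _⟩⟩
  simp only [h2, Finset.sum_const, Finset.card_univ, Fintype.card_fin, nsmul_eq_mul, mul_one] at h1
  rw [(Submodule.Quotient.restrictScalarsEquiv A' P).length_eq] at h1
  exact h1

end Part11

end Part11

section Part12

section Part12

open IsLocalRing CycAlg Groth.Agent.Lib.R2H1.Tame Groth.Agent.Lib.Helper5.DetLengthGlobal
open scoped TensorProduct

variable (A A' B S : Type u) [CommRing A] [CommRing A'] [CommRing B] [CommRing S]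
  [Algebra A A'] [Algebra A B] [Algebra A S] [Algebra A' S] [Algebra B S]
  [IsScalarTower A A' S] [IsScalarTower A B S] [Algebra.IsPushout A A' B S]
  [IsLocalRing A] [IsLocalRing A'] [IsLocalHom (algebraMap A A')] [Module.Finite A B]
  (Q : Ideal B) [Q.IsMaximal] [Q.LiesOver (maximalIdeal A)]
  [hlocB : ∀ q : MaximalSpectrum B, IsLocalHom (algebraMap A (Localization.AtPrime q.asIdeal))]
  [hlocS : ∀ q : MaximalSpectrum S, IsLocalHom (algebraMap A' (Localization.AtPrime q.asIdeal))]

instance WQ_finite : Module.Finite (ResidueField A) (B ⧸ Q) :=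
  Module.Finite.of_restrictScalars_finite A _ _

theorem finrank_WQ : Module.finrank (ResidueField A) (B ⧸ Q) = fdeg A B Q := rfl

theorem Theta_injective : Function.Injective (Theta A A' B S Q) := by
  rw [← LinearMap.ker_eq_bot]
  have hex : Function.Exact (LinearMap.ker (Theta A A' B S Q)).subtype (Theta A A' B S Q) :=
    LinearMap.exact_subtype_ker_map (Theta A A' B S Q)
  have hlen := Module.length_eq_add_of_exact _ _ (Submodule.injective_subtype _)
    (Theta_surjective A A' B S Q) hex
  have h1 : Module.length (ResidueField A') (ResidueField A' ⊗[ResidueField A] (B ⧸ Q)) =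
      (fdeg A B Q : ℕ∞) := by
    rw [Module.length_eq_finrank, Module.finrank_baseChange, finrank_WQ]
  have h2 : (fdeg A B Q : ℕ∞) ≤ Module.length (ResidueField A') (VQ A' B S Q) := by
    rw [← Module.length_eq_of_surjective (S := A') (R := ResidueField A') (M := VQ A' B S Q)
      (algebraMap_residue_surjective A')]
    exact length_VQ_ge A A' B S Q
  rw [h1] at hlen
  have h3 : Module.length (ResidueField A') (VQ A' B S Q) = (fdeg A B Q : ℕ∞) := by
    refine le_antisymm ?_ h2
    rw [hlen]
    exact le_add_self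
  rw [h3] at hlen
  have h4 : Module.length (ResidueField A') (LinearMap.ker (Theta A A' B S Q)) = 0 := by
    have h5 : (0 : ℕ∞) + (fdeg A B Q : ℕ∞) =
        Module.length (ResidueField A') (LinearMap.ker (Theta A A' B S Q)) + (fdeg A B Q : ℕ∞) := by
      rw [zero_add]
      exact hlen
    exact (WithTop.add_right_cancel (ENat.coe_ne_top _) h5).symm
  rw [Module.length_eq_zero_iff] at h4
  exact Submodule.eq_bot_of_subsingleton

theorem Theta_equivariant (b : B) (z : ResidueField A' ⊗[ResidueField A] (B ⧸ Q)) :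
    Theta A A' B S Q ((smulK A B b (B ⧸ Q)).baseChange (ResidueField A') z) =
      algebraMap B S b • Theta A A' B S Q z := by
  induction z using TensorProduct.induction_on with
  | zero => simp
  | tmul x w =>
    rw [LinearMap.baseChange_tmul, Theta_tmul, Theta_tmul, smulK_apply, gA_smul]
    have h := (smulK A' S (algebraMap B S b) (VQ A' B S Q)).map_smul x (gA A A' B S Q w)
    simp only [smulK_apply] at h
    exact h.symm
  | add z₁ z₂ h₁ h₂ => simp only [map_add, smul_add, h₁, h₂]

theorem det_smulK_VQ (b : B) :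
    LinearMap.det (smulK A' S (algebraMap B S b) (VQ A' B S Q)) =
      algebraMap (ResidueField A) (ResidueField A')
        (LinearMap.det (smulK A B b (B ⧸ Q))) := by
  let Θe : (ResidueField A' ⊗[ResidueField A] (B ⧸ Q)) ≃ₗ[ResidueField A'] VQ A' B S Q :=
    LinearEquiv.ofBijective (Theta A A' B S Q)
      ⟨Theta_injective A A' B S Q, Theta_surjective A A' B S Q⟩
  have hconj : smulK A' S (algebraMap B S b) (VQ A' B S Q) =
      (Θe : _ →ₗ[ResidueField A'] VQ A' B S Q) ∘ₗ
        ((smulK A B b (B ⧸ Q)).baseChange (ResidueField A')) ∘ₗ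
        (Θe.symm : VQ A' B S Q →ₗ[ResidueField A'] _) := by
    ext v
    obtain ⟨z, rfl⟩ := Θe.surjective v
    simp only [LinearMap.coe_comp, LinearEquiv.coe_coe, Function.comp_apply,
      LinearEquiv.symm_apply_apply, smulK_apply]
    exact (Theta_equivariant A A' B S Q b z).symm
  rw [hconj, LinearMap.det_conj, LinearMap.det_baseChange]

theorem det_smulK_WQ (b : B) :
    LinearMap.det (smulK A B b (B ⧸ Q)) = nres A B b ⟨Q, inferInstance⟩ :=
  det_smulK_simple A B b (B ⧸ Q) ⟨Q, inferInstance⟩ (LinearEquiv.refl B (B ⧸ Q))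

end Part12

end Part12

section Part13

section Part13

open IsLocalRing CycAlg Groth.Agent.Lib.R2H1.Tame Groth.Agent.Lib.Helper5.DetLengthGlobal
open scoped TensorProduct

theorem length_le_length_of_tower (A R M : Type*) [CommRing A] [CommRing R] [Algebra A R]
    [AddCommGroup M] [Module A M] [Module R M] [IsScalarTower A R M] :
    Module.length R M ≤ Module.length A M := by
  have h := Submodule.length_le_length_restrictScalars (R := R) (M := M) A (⊤ : Submodule R M)
  rw [Submodule.restrictScalars_top, Module.length_top, Module.length_top] at h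
  exact h

variable (A A' B S : Type u) [CommRing A] [CommRing A'] [CommRing B] [CommRing S]
  [Algebra A A'] [Algebra A B] [Algebra A S] [Algebra A' S] [Algebra B S]
  [IsScalarTower A A' S] [IsScalarTower A B S] [Algebra.IsPushout A A' B S]
  [IsLocalRing A] [IsLocalRing A'] [IsLocalHom (algebraMap A A')] [Module.Finite A B]
  (Q : Ideal B) [Q.IsMaximal] [Q.LiesOver (maximalIdeal A)]
  [hlocB : ∀ q : MaximalSpectrum B, IsLocalHom (algebraMap A (Localization.AtPrime q.asIdeal))]
  [hlocS : ∀ q : MaximalSpectrum S, IsLocalHom (algebraMap A' (Localization.AtPrime q.asIdeal))]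

theorem length_TQ_ne_top
    (hfin : Module.length A' (A' ⧸ (maximalIdeal A).map (algebraMap A A')) ≠ ⊤) :
    Module.length S (TQ B S Q) ≠ ⊤ := by
  refine ne_top_of_le_ne_top ?_ (length_le_length_of_tower A' S (TQ B S Q))
  rw [(coordEquiv A A' B S Q).length_eq, Module.length_pi_of_fintype]
  simp only [Finset.sum_const, Finset.card_univ, Fintype.card_fin, nsmul_eq_mul]
  exact WithTop.mul_ne_top (ENat.coe_ne_top _) hfin

theorem PI_base_eq_bot :
    PI A' S (TQ B S Q) ((maximalIdeal A).map (algebraMap A A')) = ⊥ := by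
  rw [eq_bot_iff]
  intro t ht
  rw [mem_PI_iff] at ht
  rw [Submodule.mem_bot]
  refine Submodule.smul_induction_on ht ?_ ?_
  · intro a ha x _
    obtain ⟨s, rfl⟩ := Ideal.Quotient.mk_surjective x
    revert ha
    refine Submodule.span_induction (p := fun a _ => a • (Ideal.Quotient.mk _ s) = 0)
      ?_ ?_ ?_ ?_
    · rintro _ ⟨a₀, ha₀, rfl⟩
      rw [algebraMap_smul, Algebra.smul_def,
        IsScalarTower.algebraMap_apply A S (S ⧸ Ideal.map (algebraMap B S) Q),
        Ideal.Quotient.algebraMap_eq, ← map_mul,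
        Ideal.Quotient.eq_zero_iff_mem, IsScalarTower.algebraMap_apply A B S]
      apply Ideal.mul_mem_right
      apply Ideal.mem_map_of_mem
      have := (Ideal.over_def Q (maximalIdeal A))
      rw [this] at ha₀
      exact ha₀
    · exact zero_smul _ _
    · intro x y _ _ hx hy
      rw [add_smul, hx, hy, add_zero]
    · intro c x _ hx
      rw [smul_eq_mul, mul_smul, hx, smul_zero]
  · intro x y hx hy
    rw [hx, hy, add_zero]

/-- **Fibre identity**: the norm-multiplicity product of the fibre `S/QS`. -/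
theorem Phi_TQ [Module.Finite A' S] (b : B)
    (hfin : Module.length A' (A' ⧸ (maximalIdeal A).map (algebraMap A A')) ≠ ⊤) :
    Phi A' S (algebraMap B S b) (TQ B S Q) =
      algebraMap (ResidueField A) (ResidueField A') (nres A B b ⟨Q, inferInstance⟩) ^
        (Module.length A' (A' ⧸ (maximalIdeal A).map (algebraMap A A'))).toNat := by
  have hT := length_TQ_ne_top A A' B S Q hfin
  have hF : FProp A' (TQ B S Q) ((maximalIdeal A).map (algebraMap A A')) :=
    fProp_of_equiv (coordEquiv A A' B S Q) _ (fProp_pi _ _)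
  have hchain := Phi_chain A' S (TQ B S Q) (algebraMap B S b) _ hF hT
    (Module.length A' (A' ⧸ (maximalIdeal A).map (algebraMap A A'))).toNat _ le_rfl
    (ENat.coe_toNat hfin).symm
  have e : (TQ B S Q ⧸ PI A' S (TQ B S Q) ((maximalIdeal A).map (algebraMap A A'))) ≃ₗ[S]
      TQ B S Q := Submodule.quotEquivOfEqBot _ (PI_base_eq_bot A A' B S Q)
  rw [← Phi_congr A' S _ e, hchain]
  congr 1
  have hfl : IsFiniteLength S (VQ A' B S Q) := by
    rw [← Module.length_ne_top_iff]
    exact ne_top_of_le_ne_top hT (Module.length_le_of_surjective _ (Submodule.mkQ_surjective _))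
  rw [← det_smulK_eq_Phi A' S (algebraMap B S b) (VQ A' B S Q) hfl, det_smulK_VQ A A' B S Q b,
    det_smulK_WQ A B Q b]

end Part13

end Part13

section Part14

section Part14

open IsLocalRing CycAlg Groth.Agent.Lib.R2H1.Tame Groth.Agent.Lib.Helper5.DetLengthGlobal
open scoped TensorProduct

variable (A A' B S : Type u) [CommRing A] [CommRing A'] [CommRing B] [CommRing S]
  [Algebra A A'] [Algebra A B] [Algebra A S] [Algebra A' S] [Algebra B S]
  [IsScalarTower A A' S] [IsScalarTower A B S] [Algebra.IsPushout A A' B S]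
  [IsLocalRing A] [IsLocalRing A'] [IsLocalHom (algebraMap A A')] [Module.Finite A B]

include A A' B S

theorem finite_pushout : Module.Finite A' S := by
  have h : IsBaseChange A' (IsScalarTower.toAlgHom A B S).toLinearMap := Algebra.IsPushout.out
  exact Module.Finite.equiv h.equiv

theorem flat_pushout [Module.Flat A A'] : Module.Flat B S := by
  have h : Algebra.IsPushout A B A' S := Algebra.IsPushout.symm inferInstance
  exact Module.Flat.isBaseChange A B A' S h.out

variable [Module.Finite A' S]

theorem comap_maximal (Q' : MaximalSpectrum S) :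
    Q'.asIdeal.comap (algebraMap A' S) = maximalIdeal A' := by
  haveI := Q'.isMaximal
  haveI : Algebra.IsIntegral A' S := Algebra.IsIntegral.of_finite A' S
  haveI : (Q'.asIdeal.comap (algebraMap A' S)).IsMaximal :=
    Ideal.isMaximal_comap_of_isIntegral_of_isMaximal _
  exact IsLocalRing.eq_maximalIdeal inferInstance

theorem comap_down (Q' : MaximalSpectrum S) :
    (Q'.asIdeal.comap (algebraMap B S)).comap (algebraMap A B) = maximalIdeal A := by
  rw [Ideal.comap_comap, ← IsScalarTower.algebraMap_eq, IsScalarTower.algebraMap_eq A A' S,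
    ← Ideal.comap_comap, comap_maximal A A' B S Q']
  exact ((local_hom_TFAE (algebraMap A A')).out 0 4).mp (inferInstance : IsLocalHom (algebraMap A A'))

theorem down_isMaximal (Q' : MaximalSpectrum S) :
    (Q'.asIdeal.comap (algebraMap B S)).IsMaximal := by
  haveI := Q'.isMaximal
  haveI : Algebra.IsIntegral A B := Algebra.IsIntegral.of_finite A B
  haveI : (Q'.asIdeal.comap (algebraMap B S)).IsPrime := Ideal.comap_isPrime _ _
  refine Ideal.isMaximal_of_isIntegral_of_isMaximal_comap (R := A) _ ?_
  rw [comap_down A A' B S Q']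
  infer_instance

/-- the maximal ideal of `B` under a maximal ideal of the pushout -/
noncomputable def down (Q' : MaximalSpectrum S) : MaximalSpectrum B :=
  ⟨Q'.asIdeal.comap (algebraMap B S), down_isMaximal A A' B S Q'⟩

instance down_liesOver (Q' : MaximalSpectrum S) :
    Q'.asIdeal.LiesOver (down A A' B S Q').asIdeal := ⟨rfl⟩

instance down_liesOver_base (Q' : MaximalSpectrum S) :
    (down A A' B S Q').asIdeal.LiesOver (maximalIdeal A) :=
  ⟨(comap_down A A' B S Q').symm⟩

noncomputable instance algDown (Q' : MaximalSpectrum S) :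
    Algebra (Localization.AtPrime (down A A' B S Q').asIdeal)
      (Localization.AtPrime Q'.asIdeal) :=
  Localization.AtPrime.algebraOfLiesOver _ _

instance isLiesOverAlgebra_down (Q' : MaximalSpectrum S) :
    Localization.AtPrime.IsLiesOverAlgebra (down A A' B S Q').asIdeal Q'.asIdeal := ⟨rfl⟩

instance isLocalHom_algDown (Q' : MaximalSpectrum S) :
    IsLocalHom (algebraMap (Localization.AtPrime (down A A' B S Q').asIdeal)
      (Localization.AtPrime Q'.asIdeal)) :=
  Localization.isLocalHom_localRingHom _ _ _ _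

theorem algDown_algebraMap (Q' : MaximalSpectrum S) (b : B) :
    algebraMap (Localization.AtPrime (down A A' B S Q').asIdeal) (Localization.AtPrime Q'.asIdeal)
      (algebraMap B (Localization.AtPrime (down A A' B S Q').asIdeal) b) =
    algebraMap S (Localization.AtPrime Q'.asIdeal) (algebraMap B S b) :=
  Localization.localRingHom_to_map _ _ _ _ _

theorem flat_algDown [Module.Flat A A'] (Q' : MaximalSpectrum S) :
    Module.Flat (Localization.AtPrime (down A A' B S Q').asIdeal)
      (Localization.AtPrime Q'.asIdeal) := by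
  haveI := flat_pushout A A' B S
  infer_instance

end Part14

end Part14

section Part15

section Part15

open IsLocalRing CycAlg Groth.Agent.Lib.R2H1.Tame Groth.Agent.Lib.Helper5.DetLengthGlobal
open scoped TensorProduct

variable (A A' B S : Type u) [CommRing A] [CommRing A'] [CommRing B] [CommRing S]
  [Algebra A A'] [Algebra A B] [Algebra A S] [Algebra A' S] [Algebra B S]
  [IsScalarTower A A' S] [IsScalarTower A B S] [Algebra.IsPushout A A' B S]
  [IsLocalRing A] [IsLocalRing A'] [IsLocalHom (algebraMap A A')] [Module.Finite A B]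

include A A' B S

theorem algebraMap_pushout_injective [Module.Flat A A']
    (hinj : Function.Injective (algebraMap A B)) : Function.Injective (algebraMap A' S) := by
  have h : IsBaseChange A' (IsScalarTower.toAlgHom A B S).toLinearMap := Algebra.IsPushout.out
  have key : ∀ x : A', algebraMap A' S x = h.equiv (x ⊗ₜ[A] (1 : B)) := by
    intro x
    rw [h.equiv_tmul, Algebra.algebraMap_eq_smul_one]
    simp
  have hj : Function.Injective (LinearMap.lTensor A' (Algebra.linearMap A B)) :=
    Module.Flat.lTensor_preserves_injective_linearMap _ hinj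
  intro x y hxy
  rw [key, key] at hxy
  have h1 := h.equiv.injective hxy
  have h2 : LinearMap.lTensor A' (Algebra.linearMap A B) (x ⊗ₜ[A] (1 : A)) =
      LinearMap.lTensor A' (Algebra.linearMap A B) (y ⊗ₜ[A] (1 : A)) := by
    simpa using h1
  have h3 := hj h2
  have h4 := congrArg (TensorProduct.rid A A') h3
  simpa using h4

theorem smul_mem_range_pushout (n : ℕ)
    (hn : ∀ r ∈ maximalIdeal A ^ n, ∀ b : B, r • b ∈ (algebraMap A B).range)
    (r : A') (hr : r ∈ (maximalIdeal A ^ n).map (algebraMap A A')) (s : S) :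
    r • s ∈ (algebraMap A' S).range := by
  have h : IsBaseChange A' (IsScalarTower.toAlgHom A B S).toLinearMap := Algebra.IsPushout.out
  revert s
  refine Submodule.span_induction (p := fun r _ => ∀ s : S, r • s ∈ (algebraMap A' S).range)
    ?_ ?_ ?_ ?_ hr
  · rintro _ ⟨a, ha, rfl⟩ s
    refine h.inductionOn s (fun s => algebraMap A A' a • s ∈ (algebraMap A' S).range) ?_ ?_ ?_ ?_
    · rw [smul_zero]; exact Subring.zero_mem _
    · intro y
      obtain ⟨x, hx⟩ := hn a ha y
      refine ⟨algebraMap A A' x, ?_⟩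
      rw [algebraMap_smul, AlgHom.toLinearMap_apply, IsScalarTower.coe_toAlgHom',
        ← IsScalarTower.algebraMap_apply, IsScalarTower.algebraMap_apply A B S, hx,
        Algebra.smul_def, map_mul, Algebra.smul_def, ← IsScalarTower.algebraMap_apply]
    · rintro c s ⟨x, hx⟩
      refine ⟨c * x, ?_⟩
      rw [map_mul, hx, smul_comm, Algebra.smul_def c]
    · rintro s₁ s₂ h₁ h₂
      rw [smul_add]
      exact Subring.add_mem _ h₁ h₂
  · intro s
    rw [zero_smul]; exact Subring.zero_mem _
  · intro x y _ _ hx hy s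
    rw [add_smul]
    exact Subring.add_mem _ (hx s) (hy s)
  · intro c x _ hx s
    rw [smul_eq_mul, mul_comm, mul_smul]
    exact hx (c • s)

theorem isFinExt_pushout [Module.Flat A A'] [Module.Finite A' S]
    (hB : IsFinExt A B (maximalIdeal A)) (k : ℕ)
    (hk : maximalIdeal A' ^ k ≤ (maximalIdeal A).map (algebraMap A A')) :
    IsFinExt A' S (maximalIdeal A') := by
  obtain ⟨hinj, -, n, hn⟩ := hB
  refine ⟨algebraMap_pushout_injective A A' B S hinj, inferInstance, k * n, ?_⟩
  intro r hr s
  apply smul_mem_range_pushout A A' B S n hn r _ s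
  rw [Ideal.map_pow]
  rw [pow_mul] at hr
  exact Ideal.pow_right_mono hk n hr

end Part15

end Part15

section Part16

section Part16

open IsLocalRing CycAlg Groth.Agent.Lib.R2H1.Tame Groth.Agent.Lib.Helper5.DetLengthGlobal
  Groth.Agent.Lib.R2H1.TameLaws
open scoped TensorProduct

theorem algebraMap_mem_nonZeroDivisors_of_flat {R S' : Type*} [CommRing R] [CommRing S']
    [Algebra R S'] [Module.Flat R S'] {r : R} (hr : r ∈ nonZeroDivisors R) :
    algebraMap R S' r ∈ nonZeroDivisors S' := by
  have h : IsSMulRegular S' r := Module.Flat.isSMulRegular_of_nonZeroDivisors hr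
  rw [mem_nonZeroDivisors_iff_right]
  intro x hx
  apply h
  change r • x = r • (0 : S')
  rw [smul_zero, Algebra.smul_def, mul_comm]
  exact hx

variable {A : Type u} [CommRing A] [IsLocalRing A] (A' : Type u) [CommRing A'] [IsLocalRing A']
  [Algebra A A'] [IsLocalHom (algebraMap A A')] [Module.Flat A A']
  (L : LocData A) (S : Type u) [CommRing S] [Algebra A S] [Algebra A' S] [Algebra L.B S]
  [IsScalarTower A A' S] [IsScalarTower A L.B S] [Algebra.IsPushout A A' L.B S]
  [Module.Finite A' S]
  {a₁ a₂ : A} (F₁ : L.Fac a₁) (F₂ : L.Fac a₂)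

/-- the image of the local parameter -/
noncomputable def piUp (Q' : MaximalSpectrum S) : Localization.AtPrime Q'.asIdeal :=
  algebraMap (Localization.AtPrime (down A A' L.B S Q').asIdeal) (Localization.AtPrime Q'.asIdeal)
    (L.π (down A A' L.B S Q'))

theorem piUp_mem (Q' : MaximalSpectrum S) :
    piUp A' L S Q' ∈ nonZeroDivisors (Localization.AtPrime Q'.asIdeal) := by
  haveI := flat_algDown A A' L.B S Q'
  exact algebraMap_mem_nonZeroDivisors_of_flat (L.π_mem _)

/-- the image of a factorization -/
noncomputable def facUp {x : A} (F : L.Fac x) (Q' : MaximalSpectrum S) :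
    (Localization.AtPrime Q'.asIdeal)ˣ :=
  Units.map (algebraMap (Localization.AtPrime (down A A' L.B S Q').asIdeal)
    (Localization.AtPrime Q'.asIdeal) : _ →* _) (F.u (down A A' L.B S Q'))

theorem facUp_fac {x : A} (F : L.Fac x) (Q' : MaximalSpectrum S) :
    algebraMap A' (Localization.AtPrime Q'.asIdeal) (algebraMap A A' x) =
      (facUp A' L S F Q' : Localization.AtPrime Q'.asIdeal) *
        piUp A' L S Q' ^ F.e (down A A' L.B S Q') := by
  rw [← IsScalarTower.algebraMap_apply A A' (Localization.AtPrime Q'.asIdeal),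
    IsScalarTower.algebraMap_apply A (Localization.AtPrime (down A A' L.B S Q').asIdeal)
      (Localization.AtPrime Q'.asIdeal), F.fac (down A A' L.B S Q'), map_mul, map_pow]
  rfl

/-- The tame data on the pushout. -/
noncomputable def flatTame (k : ℕ)
    (hk : maximalIdeal A' ^ k ≤ (maximalIdeal A).map (algebraMap A A')) :
    TameData A' (algebraMap A A' a₁) (algebraMap A A' a₂) where
  B := S
  isFinExt := isFinExt_pushout A A' L.B S L.isFinExt k hk
  isLocalHom := fun q =>
    haveI : Algebra.IsIntegral A' S := Algebra.IsIntegral.of_finite A' S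
    isLocalHom_of_integral A' S q
  π := piUp A' L S
  π_mem := piUp_mem A' L S
  u₁ := facUp A' L S F₁
  u₂ := facUp A' L S F₂
  e₁ := fun Q' => F₁.e (down A A' L.B S Q')
  e₂ := fun Q' => F₂.e (down A A' L.B S Q')
  fac₁ := facUp_fac A' L S F₁
  fac₂ := facUp_fac A' L S F₂

end Part16

end Part16

section Part17

section Part17

open IsLocalRing CycAlg Groth.Agent.Lib.R2H1.Tame Groth.Agent.Lib.Helper5.DetLengthGlobal
  Groth.Agent.Lib.R2H1.TameLaws
open scoped TensorProduct

theorem locLen_quot_ideal (B : Type u) [CommRing B] (q : MaximalSpectrum B) (J : Ideal B) :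
    locLen (B ⧸ J) q =
      Module.length (Localization.AtPrime q.asIdeal)
        (Localization.AtPrime q.asIdeal ⧸ J.map (algebraMap B (Localization.AtPrime q.asIdeal))) := by
  unfold locLen
  let M' : Submodule B B := J
  let f : B →ₗ[B] Localization.AtPrime q.asIdeal := Algebra.linearMap B (Localization.AtPrime q.asIdeal)
  let e0 : LocalizedModule q.asIdeal.primeCompl (B ⧸ M') ≃ₗ[B]
      (Localization.AtPrime q.asIdeal ⧸
        M'.localized' (Localization.AtPrime q.asIdeal) q.asIdeal.primeCompl f) :=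
    IsLocalizedModule.linearEquiv q.asIdeal.primeCompl
      (LocalizedModule.mkLinearMap q.asIdeal.primeCompl (B ⧸ M'))
      (M'.toLocalizedQuotient' (Localization.AtPrime q.asIdeal) q.asIdeal.primeCompl f)
  let e1 : LocalizedModule q.asIdeal.primeCompl (B ⧸ M') ≃ₗ[Localization.AtPrime q.asIdeal]
      (Localization.AtPrime q.asIdeal ⧸
        M'.localized' (Localization.AtPrime q.asIdeal) q.asIdeal.primeCompl f) :=
    e0.extendScalarsOfIsLocalization q.asIdeal.primeCompl (Localization.AtPrime q.asIdeal)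
  have hM : M'.localized' (Localization.AtPrime q.asIdeal) q.asIdeal.primeCompl f =
      J.map (algebraMap B (Localization.AtPrime q.asIdeal)) := by
    show Submodule.localized' (Localization.AtPrime q.asIdeal) q.asIdeal.primeCompl
      (Algebra.linearMap B (Localization.AtPrime q.asIdeal)) J = _
    rw [Ideal.localized'_eq_map]
  rw [e1.length_eq, (Submodule.quotEquivOfEq _ _ hM).length_eq]

theorem locLen_quot_eq_zero (B : Type u) [CommRing B] (q : MaximalSpectrum B) (J : Ideal B)
    (hJ : ¬ J ≤ q.asIdeal) : locLen (B ⧸ J) q = 0 := by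
  obtain ⟨s, hsJ, hsq⟩ := Set.not_subset.mp hJ
  unfold locLen
  rw [Module.length_eq_zero_iff, LocalizedModule.subsingleton_iff]
  intro c
  refine ⟨s, hsq, ?_⟩
  obtain ⟨y, rfl⟩ := Ideal.Quotient.mk_surjective c
  rw [Algebra.smul_def, Ideal.Quotient.algebraMap_eq, ← map_mul, Ideal.Quotient.eq_zero_iff_mem]
  exact Ideal.mul_mem_right _ _ hsJ

variable {A : Type u} [CommRing A] [IsLocalRing A] (A' : Type u) [CommRing A'] [IsLocalRing A']
  [Algebra A A'] [IsLocalHom (algebraMap A A')] [Module.Flat A A']
  (L : LocData A) (S : Type u) [CommRing S] [Algebra A S] [Algebra A' S] [Algebra L.B S]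
  [IsScalarTower A A' S] [IsScalarTower A L.B S] [Algebra.IsPushout A A' L.B S]
  [Module.Finite A' S]

theorem locLen_TQ_eq_zero (Q : MaximalSpectrum L.B) (Q' : MaximalSpectrum S)
    (h : down A A' L.B S Q' ≠ Q) : locLen (TQ L.B S Q.asIdeal) Q' = 0 := by
  apply locLen_quot_eq_zero
  intro hle
  apply h
  have h1 : Q.asIdeal ≤ (down A A' L.B S Q').asIdeal := by
    intro y hy
    exact hle (Ideal.mem_map_of_mem _ hy)
  exact MaximalSpectrum.ext (Q.isMaximal.eq_of_le (down A A' L.B S Q').isMaximal.ne_top h1).symm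

/-- **Order formula** for the image of the local parameter. -/
theorem ord_piUp (Q' : MaximalSpectrum S) :
    Ring.ord (Localization.AtPrime Q'.asIdeal) (piUp A' L S Q') =
      Ring.ord (Localization.AtPrime (down A A' L.B S Q').asIdeal) (L.π (down A A' L.B S Q')) *
        locLen (TQ L.B S (down A A' L.B S Q').asIdeal) Q' := by
  haveI := flat_algDown A A' L.B S Q'
  let Q := down A A' L.B S Q'
  have h := IsLocalRing.length_baseChange (Localization.AtPrime Q.asIdeal)
    (Localization.AtPrime Q'.asIdeal) (Localization.AtPrime Q.asIdeal ⧸ Ideal.span {L.π Q})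
  have h1 : Ring.ord (Localization.AtPrime Q'.asIdeal) (piUp A' L S Q') =
      Module.length (Localization.AtPrime Q'.asIdeal)
        (Localization.AtPrime Q'.asIdeal ⊗[Localization.AtPrime Q.asIdeal]
          (Localization.AtPrime Q.asIdeal ⧸ Ideal.span {L.π Q})) := by
    unfold Ring.ord
    rw [← (Algebra.TensorProduct.quotIdealMapEquivTensorQuot (Localization.AtPrime Q'.asIdeal)
      (Ideal.span {L.π Q})).toLinearEquiv.length_eq, Ideal.map_span, Set.image_singleton]
    rfl
  have h2 : locLen (TQ L.B S Q.asIdeal) Q' =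
      Module.length (Localization.AtPrime Q'.asIdeal) (Localization.AtPrime Q'.asIdeal ⧸
        (maximalIdeal (Localization.AtPrime Q.asIdeal)).map
          (algebraMap (Localization.AtPrime Q.asIdeal) (Localization.AtPrime Q'.asIdeal))) := by
    have hcomp : (algebraMap S (Localization.AtPrime Q'.asIdeal)).comp (algebraMap L.B S) =
        (algebraMap (Localization.AtPrime Q.asIdeal) (Localization.AtPrime Q'.asIdeal)).comp
          (algebraMap L.B (Localization.AtPrime Q.asIdeal)) :=
      RingHom.ext (fun y => (algDown_algebraMap A A' L.B S Q' y).symm)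
    rw [locLen_quot_ideal, Ideal.map_map, hcomp, ← Ideal.map_map,
      IsLocalization.AtPrime.map_eq_maximalIdeal Q.asIdeal (Localization.AtPrime Q.asIdeal)]
  rw [h1, h, h2]
  rfl

end Part17

end Part17

section Part18

section Part18

open IsLocalRing CycAlg Groth.Agent.Lib.R2H1.Tame Groth.Agent.Lib.Helper5.DetLengthGlobal
  Groth.Agent.Lib.R2H1.TameLaws
open scoped TensorProduct

variable {A : Type u} [CommRing A] [IsLocalRing A] (A' : Type u) [CommRing A'] [IsLocalRing A']
  [Algebra A A'] [IsLocalHom (algebraMap A A')] [Module.Flat A A']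
  (L : LocData A) (S : Type u) [CommRing S] [Algebra A S] [Algebra A' S] [Algebra L.B S]
  [IsScalarTower A A' S] [IsScalarTower A L.B S] [Algebra.IsPushout A A' L.B S]
  [Module.Finite A' S]
  [hlocS : ∀ q : MaximalSpectrum S, IsLocalHom (algebraMap A' (Localization.AtPrime q.asIdeal))]
  {a₁ a₂ : A} (F₁ : L.Fac a₁) (F₂ : L.Fac a₂)

theorem residue_compat (Q' : MaximalSpectrum S) (y : L.B) :
    algebraMap (ResidueField (Localization.AtPrime (down A A' L.B S Q').asIdeal))
        (ResidueField (Localization.AtPrime Q'.asIdeal))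
      (algebraMap L.B (ResidueField (Localization.AtPrime (down A A' L.B S Q').asIdeal)) y) =
    algebraMap S (ResidueField (Localization.AtPrime Q'.asIdeal)) (algebraMap L.B S y) := by
  rw [IsScalarTower.algebraMap_apply L.B (Localization.AtPrime (down A A' L.B S Q').asIdeal)
      (ResidueField (Localization.AtPrime (down A A' L.B S Q').asIdeal)),
    IsScalarTower.algebraMap_apply S (Localization.AtPrime Q'.asIdeal)
      (ResidueField (Localization.AtPrime Q'.asIdeal)),
    ResidueField.algebraMap_eq, ResidueField.algebraMap_eq, ResidueField.algebraMap_residue,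
    algDown_algebraMap]

theorem localFactor_flatTame_raw (k : ℕ)
    (hk : maximalIdeal A' ^ k ≤ (maximalIdeal A).map (algebraMap A A')) (Q' : MaximalSpectrum S) :
    (flatTame A' L S F₁ F₂ k hk).localFactor Q' =
      Algebra.norm (ResidueField A') (theta (facUp A' L S F₁ Q') (facUp A' L S F₂ Q')
        (F₁.e (down A A' L.B S Q')) (F₂.e (down A A' L.B S Q'))) ^
      (Ring.ord (Localization.AtPrime Q'.asIdeal) (piUp A' L S Q')).toNat := rfl

/-- the local factor of the tame data on the pushout -/
theorem localFactor_flatTame (k : ℕ)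
    (hk : maximalIdeal A' ^ k ≤ (maximalIdeal A).map (algebraMap A A'))
    (b : MaximalSpectrum L.B → L.B)
    (hb : ∀ Q, algebraMap L.B (ResidueField (Localization.AtPrime Q.asIdeal)) (b Q) =
      theta (F₁.u Q) (F₂.u Q) (F₁.e Q) (F₂.e Q)) (Q' : MaximalSpectrum S) :
    (flatTame A' L S F₁ F₂ k hk).localFactor Q' =
      nres A' S (algebraMap L.B S (b (down A A' L.B S Q'))) Q' ^
        ((Ring.ord (Localization.AtPrime (down A A' L.B S Q').asIdeal)
            (L.π (down A A' L.B S Q'))).toNat *
          (locLen (TQ L.B S (down A A' L.B S Q').asIdeal) Q').toNat) := by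
  rw [localFactor_flatTame_raw]
  have h1 : theta (facUp A' L S F₁ Q') (facUp A' L S F₂ Q')
      (F₁.e (down A A' L.B S Q')) (F₂.e (down A A' L.B S Q')) =
      algebraMap S (ResidueField (Localization.AtPrime Q'.asIdeal))
        (algebraMap L.B S (b (down A A' L.B S Q'))) := by
    rw [← residue_compat A' L S Q' (b (down A A' L.B S Q')), hb]
    exact theta_map (F₁.u (down A A' L.B S Q')) (F₂.u (down A A' L.B S Q')) _ _
  rw [h1, ord_piUp A' L S Q', ENat.toNat_mul]
  rfl

end Part18

end Part18

section Part19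

section Part19

open IsLocalRing CycAlg Groth.Agent.Lib.R2H1.Tame Groth.Agent.Lib.Helper5.DetLengthGlobal
  Groth.Agent.Lib.R2H1.TameLaws
open scoped TensorProduct

variable {A : Type u} [CommRing A] [IsLocalRing A] (A' : Type u) [CommRing A'] [IsLocalRing A']
  [Algebra A A'] [IsLocalHom (algebraMap A A')] [Module.Flat A A']
  (L : LocData A) (S : Type u) [CommRing S] [Algebra A S] [Algebra A' S] [Algebra L.B S]
  [IsScalarTower A A' S] [IsScalarTower A L.B S] [Algebra.IsPushout A A' L.B S]
  [Module.Finite A' S]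
  [hlocS : ∀ q : MaximalSpectrum S, IsLocalHom (algebraMap A' (Localization.AtPrime q.asIdeal))]
  {a₁ a₂ : A} (F₁ : L.Fac a₁) (F₂ : L.Fac a₂)

instance liesOver_maxSpec (Q : MaximalSpectrum L.B) : Q.asIdeal.LiesOver (maximalIdeal A) := by
  haveI := Q.isMaximal
  haveI : Algebra.IsIntegral A L.B := Algebra.IsIntegral.of_finite A L.B
  haveI : (Q.asIdeal.comap (algebraMap A L.B)).IsMaximal :=
    Ideal.isMaximal_comap_of_isIntegral_of_isMaximal _
  exact ⟨(IsLocalRing.eq_maximalIdeal (inferInstance :
    (Q.asIdeal.comap (algebraMap A L.B)).IsMaximal)).symm⟩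

theorem value_flatTame_aux (k : ℕ)
    (hk : maximalIdeal A' ^ k ≤ (maximalIdeal A).map (algebraMap A A'))
    (hfin : Module.length A' (A' ⧸ (maximalIdeal A).map (algebraMap A A')) ≠ ⊤) :
    (flatTame A' L S F₁ F₂ k hk).value =
      (algebraMap (ResidueField A) (ResidueField A')
        (∏ᶠ q : MaximalSpectrum L.B, L.loc F₁ F₂ q)) ^
        (Module.length A' (A' ⧸ (maximalIdeal A).map (algebraMap A A'))).toNat := by
  haveI := L.finite_maxSpec
  haveI := finite_maximalSpectrum A' S
  haveI := Fintype.ofFinite (MaximalSpectrum L.B)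
  haveI := Fintype.ofFinite (MaximalSpectrum S)
  classical
  have hbex : ∀ Q : MaximalSpectrum L.B, ∃ y : L.B,
      algebraMap L.B (ResidueField (Localization.AtPrime Q.asIdeal)) y =
        theta (F₁.u Q) (F₂.u Q) (F₁.e Q) (F₂.e Q) := fun Q =>
    haveI := Q.isMaximal
    Ideal.algebraMap_residueField_surjective Q.asIdeal _
  choose b hb using hbex
  let m := (Module.length A' (A' ⧸ (maximalIdeal A).map (algebraMap A A'))).toNat
  let G : MaximalSpectrum L.B → MaximalSpectrum S → ResidueField A' := fun Q Q' =>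
    nres A' S (algebraMap L.B S (b Q)) Q' ^
      ((Ring.ord (Localization.AtPrime Q.asIdeal) (L.π Q)).toNat *
        (locLen (TQ L.B S Q.asIdeal) Q').toNat)
  have h1 : ∀ Q' : MaximalSpectrum S,
      (flatTame A' L S F₁ F₂ k hk).localFactor Q' = ∏ Q, G Q Q' := by
    intro Q'
    rw [localFactor_flatTame A' L S F₁ F₂ k hk b hb Q',
      Finset.prod_eq_single (down A A' L.B S Q')]
    · intro Q _ hQ
      show nres A' S (algebraMap L.B S (b Q)) Q' ^ _ = 1
      rw [locLen_TQ_eq_zero A' L S Q Q' (Ne.symm hQ), ENat.toNat_zero, mul_zero, pow_zero]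
    · intro h
      exact absurd (Finset.mem_univ _) h
  have h2 : ∀ Q : MaximalSpectrum L.B, ∏ Q', G Q Q' =
      algebraMap (ResidueField A) (ResidueField A') (L.loc F₁ F₂ Q) ^ m := by
    intro Q
    have h3 : ∏ Q', G Q Q' = (Phi A' S (algebraMap L.B S (b Q)) (TQ L.B S Q.asIdeal)) ^
        (Ring.ord (Localization.AtPrime Q.asIdeal) (L.π Q)).toNat := by
      unfold Phi
      rw [finprod_eq_prod_of_fintype, ← Finset.prod_pow]
      refine Finset.prod_congr rfl fun Q' _ => ?_
      show nres A' S (algebraMap L.B S (b Q)) Q' ^ _ = _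
      rw [← pow_mul, mul_comm]
    haveI := Q.isMaximal
    rw [h3, Phi_TQ A A' L.B S Q.asIdeal (b Q) hfin, L.loc_def, map_pow, ← pow_mul, ← pow_mul,
      mul_comm]
    congr 2
    unfold nres
    rw [hb Q]
  show ∏ᶠ Q' : MaximalSpectrum S, (flatTame A' L S F₁ F₂ k hk).localFactor Q' = _
  rw [finprod_eq_prod_of_fintype, Finset.prod_congr rfl (fun Q' _ => h1 Q'), Finset.prod_comm,
    Finset.prod_congr rfl (fun Q _ => h2 Q), Finset.prod_pow, finprod_eq_prod_of_fintype, map_prod]

end Part19

end Part19

section Part20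

section Part20

open IsLocalRing CycAlg Groth.Agent.Lib.R2H1.Tame Groth.Agent.Lib.Helper5.DetLengthGlobal
  Groth.Agent.Lib.R2H1.TameLaws Groth.Agent.Lib.R2H1.TameNorm
open scoped TensorProduct

attribute [local instance] Algebra.TensorProduct.rightAlgebra

theorem residueField_map_eq_algebraMap {A A' : Type u} [CommRing A] [CommRing A'] [IsLocalRing A]
    [IsLocalRing A'] [Algebra A A'] [IsLocalHom (algebraMap A A')] (x : ResidueField A) :
    ResidueField.map (algebraMap A A') x = algebraMap (ResidueField A) (ResidueField A') x := by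
  obtain ⟨a, rfl⟩ := residue_surjective x
  rw [ResidueField.map_residue, ResidueField.algebraMap_residue]

/-- **Tame symbol under a flat local homomorphism** (S1850). -/
theorem tameSymbol_flat (A A' : Type u) [CommRing A] [CommRing A'] [IsNoetherianRing A]
    [IsNoetherianRing A'] [IsLocalRing A] [IsLocalRing A'] [Algebra A A']
    [IsLocalHom (algebraMap A A')] [Module.Flat A A'] (hA : ringKrullDim A = 1)
    (hA' : ringKrullDim A' = 1) (a₁ a₂ : A) (h₁ : a₁ ∈ nonZeroDivisors A)
    (h₂ : a₂ ∈ nonZeroDivisors A) :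
    IsLocalRing.ResidueField.map (algebraMap A A') (CycAlg.tameSymbol A a₁ a₂) ^
      (Module.length A' (A' ⧸ Ideal.map (algebraMap A A') (IsLocalRing.maximalIdeal A))).toNat =
    CycAlg.tameSymbol A' (algebraMap A A' a₁) (algebraMap A A' a₂) := by
  by_cases hu : IsUnit a₁ ∧ IsUnit a₂
  · rw [tameSymbol_eq_one_of_isUnit A hu.1 hu.2,
      tameSymbol_eq_one_of_isUnit A' (hu.1.map _) (hu.2.map _), map_one, one_pow]
  · have h₁' : algebraMap A A' a₁ ∈ nonZeroDivisors A' := algebraMap_mem_nonZeroDivisors_of_flat h₁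
    have h₂' : algebraMap A A' a₂ ∈ nonZeroDivisors A' := algebraMap_mem_nonZeroDivisors_of_flat h₂
    have ht : a₁ * a₂ ∈ nonZeroDivisors A := mul_mem h₁ h₂
    have htm : a₁ * a₂ ∈ maximalIdeal A := by
      rw [mem_maximalIdeal, mem_nonunits_iff]
      intro h
      exact hu ⟨isUnit_of_mul_isUnit_left h, isUnit_of_mul_isUnit_right h⟩
    have ht' : algebraMap A A' (a₁ * a₂) ∈ nonZeroDivisors A' :=
      algebraMap_mem_nonZeroDivisors_of_flat ht
    haveI : Ring.KrullDimLE 1 A' := by
      rw [Ring.KrullDimLE, Order.krullDimLE_iff]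
      exact le_of_eq hA'
    obtain ⟨k, hk0⟩ := exists_pow_maximalIdeal_le_span ht'
    have hk : maximalIdeal A' ^ k ≤ (maximalIdeal A).map (algebraMap A A') := by
      refine hk0.trans ?_
      rw [Ideal.span_le, Set.singleton_subset_iff]
      exact Ideal.mem_map_of_mem _ htm
    have hfin : Module.length A' (A' ⧸ (maximalIdeal A).map (algebraMap A A')) ≠ ⊤ := by
      refine length_ne_top_of_pow_smul_eq_zero A' k _ ?_
      intro r hr x
      obtain ⟨y, rfl⟩ := Ideal.Quotient.mk_surjective x
      rw [Algebra.smul_def, Ideal.Quotient.algebraMap_eq, ← map_mul, Ideal.Quotient.eq_zero_iff_mem]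
      exact Ideal.mul_mem_right _ _ (hk hr)
    obtain ⟨L, hL⟩ := exists_locData hA 2 ![a₁, a₂] (by
      intro i
      fin_cases i
      · exact h₁
      · exact h₂)
    obtain ⟨F₁⟩ := hL 0
    obtain ⟨F₂⟩ := hL 1
    have F₁' : L.Fac a₁ := F₁
    have F₂' : L.Fac a₂ := F₂
    let S := A' ⊗[A] L.B
    haveI : Algebra.IsIntegral A' S := Algebra.IsIntegral.of_finite A' S
    haveI hlocS : ∀ q : MaximalSpectrum S,
        IsLocalHom (algebraMap A' (Localization.AtPrime q.asIdeal)) :=
      fun q => isLocalHom_of_integral A' S q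
    rw [tameSymbol_eq_value hA' h₁' h₂' (flatTame A' L S F₁' F₂' k hk),
      value_flatTame_aux A' L S F₁' F₂' k hk hfin, ← tameSymbol_eq_finprod hA h₁ h₂ L F₁' F₂',
      residueField_map_eq_algebraMap]

end Part20

end Part20

end Groth.Agent.Lib.R2H1.TameFlat
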