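/-
Key lemma (S1851), part 2: comparison Dsum_A = resWeight * Dsum_C for a finite local extension C of A with t^n C in A (length restriction, ordFrac of norms via S14503, invariance of the tame symbol under ring isomorphisms, localization E_q of C at primes q of A, S1849 applied to A_q -> E_q).
-/
import Groth.Agent.Lib.R2H1KeyLemma
import Groth.Agent.S14503

set_option autoImplicit false
set_option linter.style.haveILetI false
set_option linter.unusedSectionVars false
universe u v

namespace Groth.Agent.Lib.R2H1.KeyLemma

section Part1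

open IsLocalRing CycAlg

section LenRestrict

variable (A : Type*) [CommRing A] (C : Type*) [CommRing C] [IsLocalRing C] [Algebra A C]

/-- **Restriction of scalars for lengths over a local ring**: the `A`-length of a finite length
module over the local `A`-algebra `C` is the `A`-length of the residue field of `C` times the
`C`-length. -/
theorem length_restrictScalars_local (M : Type*) [AddCommGroup M]
    [Module C M] (h : IsFiniteLength C M) :
    ∀ [Module A M] [IsScalarTower A C M],
      Module.length A M = Module.length A (ResidueField C) * Module.length C M := by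
  induction h with
  | of_subsingleton =>
    rename_i M _ _ _
    intro _ _
    rw [Module.length_eq_zero (R := A) (M := M), Module.length_eq_zero (R := C) (M := M), mul_zero]
  | of_simple_quotient _ ih =>
    rename_i M _ _ N hN _
    intro _ _
    obtain ⟨I, hI, ⟨e⟩⟩ := isSimpleModule_iff_quot_maximal.mp hN
    have hIm : I = maximalIdeal C := IsLocalRing.eq_maximalIdeal hI
    subst hIm
    have h1 : Module.length A M = Module.length A N + Module.length A (M ⧸ N) :=
      Module.length_eq_add_of_exact (N.subtype.restrictScalars A) (N.mkQ.restrictScalars A)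
        N.injective_subtype N.mkQ_surjective (LinearMap.exact_subtype_mkQ N)
    have h2 : Module.length C M = Module.length C N + Module.length C (M ⧸ N) :=
      Module.length_eq_add_of_exact N.subtype N.mkQ
        N.injective_subtype N.mkQ_surjective (LinearMap.exact_subtype_mkQ N)
    have h3 : Module.length C (M ⧸ N) = 1 := Module.length_eq_one _ _
    have h4 : Module.length A (M ⧸ N) = Module.length A (ResidueField C) :=
      (e.restrictScalars A).length_eq
    rw [h1, h2, h3, h4, ih, mul_add, mul_one]

end LenRestrict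

end Part1

section Part2

open IsLocalRing CycAlg

section OrdNorm

variable (A' : Type u) [CommRing A'] [IsDomain A'] [IsNoetherianRing A'] [IsLocalRing A']
  (hA' : ringKrullDim A' = 1) (C' : Type u) [CommRing C'] [IsDomain C'] [IsLocalRing C']
  [Algebra A' C'] (hinj : Function.Injective (algebraMap A' C')) [Module.Finite A' C']
  (K L : Type u) [Field K] [Field L] [Algebra A' K] [IsFractionRing A' K] [Algebra C' L]
  [IsFractionRing C' L] [Algebra K L] [Algebra A' L] [IsScalarTower A' C' L]
  [IsScalarTower A' K L] [FiniteDimensional K L]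

include hA' hinj

theorem ordFrac_norm_algebraMap {x : C'} (hx : x ≠ 0) :
    haveI : IsNoetherianRing C' := IsNoetherianRing.of_finite A' C'
    haveI : Ring.KrullDimLE 1 C' := Tame.krullDimLE_one_of_finite hA' C'
    ordFrac A' K (Algebra.norm K (algebraMap C' L x)) =
      ((Module.length A' (ResidueField C')).toNat : ℤ) * ordFrac C' L (algebraMap C' L x) := by
  haveI : IsNoetherianRing C' := IsNoetherianRing.of_finite A' C'
  haveI : Ring.KrullDimLE 1 C' := Tame.krullDimLE_one_of_finite hA' C'
  obtain ⟨-, h2⟩ := Groth.Agent.S14503.result A' hA' C' hinj K L x hx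
  rw [← h2, ordFrac_algebraMap C' L hx]
  have hfl : IsFiniteLength C' (C' ⧸ Ideal.span {x}) :=
    isFiniteLength_quotient_span_singleton C' (mem_nonZeroDivisors_of_ne_zero hx)
  rw [length_restrictScalars_local A' C' (C' ⧸ Ideal.span {x}) hfl, ENat.toNat_mul]
  push_cast
  rfl

theorem ordFrac_norm {z : L} (hz : z ≠ 0) :
    haveI : IsNoetherianRing C' := IsNoetherianRing.of_finite A' C'
    haveI : Ring.KrullDimLE 1 C' := Tame.krullDimLE_one_of_finite hA' C'
    ordFrac A' K (Algebra.norm K z) =
      ((Module.length A' (ResidueField C')).toNat : ℤ) * ordFrac C' L z := by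
  haveI : IsNoetherianRing C' := IsNoetherianRing.of_finite A' C'
  haveI : Ring.KrullDimLE 1 C' := Tame.krullDimLE_one_of_finite hA' C'
  haveI : Ring.KrullDimLE 1 A' := Ring.krullDimLE_iff.mpr hA'.le
  obtain ⟨x, y, hy, rfl⟩ := IsFractionRing.div_surjective (A := C') z
  have hy0 : y ≠ 0 := nonZeroDivisors.ne_zero hy
  have hx0 : x ≠ 0 := by
    rintro rfl
    simp at hz
  have hxL : algebraMap C' L x ≠ 0 := by
    rw [Ne, map_eq_zero_iff _ (IsFractionRing.injective C' L)]
    exact hx0
  have hyL : algebraMap C' L y ≠ 0 := by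
    rw [Ne, map_eq_zero_iff _ (IsFractionRing.injective C' L)]
    exact hy0
  have hNx : Algebra.norm K (algebraMap C' L x) ≠ 0 := Algebra.norm_ne_zero_iff.mpr hxL
  have hNy : Algebra.norm K (algebraMap C' L y) ≠ 0 := Algebra.norm_ne_zero_iff.mpr hyL
  have hinv : Algebra.norm K (algebraMap C' L y)⁻¹ = (Algebra.norm K (algebraMap C' L y))⁻¹ := by
    apply eq_inv_of_mul_eq_one_left
    rw [← map_mul, inv_mul_cancel₀ hyL, map_one]
  rw [div_eq_mul_inv, map_mul, hinv, ordFrac_mul A' K hNx (inv_ne_zero hNy),
    ordFrac_inv A' K hNy, ordFrac_mul C' L hxL (inv_ne_zero hyL), ordFrac_inv C' L hyL,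
    ordFrac_norm_algebraMap A' hA' C' hinj K L hx0, ordFrac_norm_algebraMap A' hA' C' hinj K L hy0]
  ring

end OrdNorm

end Part2

section Part3

open IsLocalRing CycAlg

section Transport

variable {S' S : Type u} [CommRing S'] [CommRing S] [IsLocalRing S'] [IsLocalRing S]

theorem symm_mem_maximalIdeal_pow (σ : S' ≃+* S) (n : ℕ) {r : S} (hr : r ∈ maximalIdeal S ^ n) :
    σ.symm r ∈ maximalIdeal S' ^ n := by
  have h1 : Ideal.map σ.symm.toRingHom (maximalIdeal S ^ n) ≤ maximalIdeal S' ^ n := by
    rw [Ideal.map_pow]
    apply Ideal.pow_right_mono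
    rw [Ideal.map_le_iff_le_comap]
    intro s hs
    rw [Ideal.mem_comap, mem_maximalIdeal, mem_nonunits_iff]
    intro hu
    apply (mem_maximalIdeal s).mp hs
    have := hu.map σ
    simpa using this
  exact h1 (Ideal.mem_map_of_mem _ hr)

theorem isFinExt_transport (σ : S' ≃+* S) (B : Type u) [CommRing B] [Algebra S' B]
    (h : IsFinExt S' B (maximalIdeal S')) :
    letI : Algebra S B := ((algebraMap S' B).comp σ.symm.toRingHom).toAlgebra
    IsFinExt S B (maximalIdeal S) := by
  letI : Algebra S B := ((algebraMap S' B).comp σ.symm.toRingHom).toAlgebra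
  have hmap : ∀ s : S, algebraMap S B s = algebraMap S' B (σ.symm s) := fun s => rfl
  obtain ⟨hinj, hfin, n, hn⟩ := h
  refine ⟨?_, ?_, n, ?_⟩
  · intro s s' hss
    rw [hmap, hmap] at hss
    exact σ.symm.injective (hinj hss)
  · haveI := hfin
    exact Module.Finite.of_equiv_equiv σ (RingEquiv.refl B) (by
      ext s
      simp [hmap])
  · intro r hr b
    obtain ⟨a, ha⟩ := hn _ (symm_mem_maximalIdeal_pow σ n hr) b
    refine ⟨σ a, ?_⟩
    rw [hmap, σ.symm_apply_apply, ha, Algebra.smul_def, Algebra.smul_def, hmap]

/-- transport of tame data along a ring isomorphism -/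
noncomputable def transport (σ : S' ≃+* S) {x y : S'} (D : TameData S' x y) :
    TameData S (σ x) (σ y) :=
  letI alg : Algebra S D.B := ((algebraMap S' D.B).comp σ.symm.toRingHom).toAlgebra
  have hmap : ∀ (q : MaximalSpectrum D.B) (s : S),
      algebraMap S (Localization.AtPrime q.asIdeal) s =
        algebraMap S' (Localization.AtPrime q.asIdeal) (σ.symm s) := fun q s => by
    rw [IsScalarTower.algebraMap_apply S D.B, IsScalarTower.algebraMap_apply S' D.B]; rfl
  { B := D.B
    commRing := D.commRing
    algebra := alg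
    isFinExt := isFinExt_transport σ D.B D.isFinExt
    isLocalHom := fun q => ⟨fun s hs => by
      rw [hmap] at hs
      haveI := D.isLocalHom q
      have h1 : IsUnit (σ.symm s) := isUnit_of_map_unit _ _ hs
      have h2 := h1.map σ
      simpa using h2⟩
    π := D.π
    π_mem := D.π_mem
    u₁ := D.u₁
    u₂ := D.u₂
    e₁ := D.e₁
    e₂ := D.e₂
    fac₁ := fun q => by rw [hmap, σ.symm_apply_apply]; exact D.fac₁ q
    fac₂ := fun q => by rw [hmap, σ.symm_apply_apply]; exact D.fac₂ q }

theorem transport_localFactor (σ : S' ≃+* S) {x y : S'} (D : TameData S' x y)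
    (q : MaximalSpectrum D.B) :
    (transport σ D).localFactor q = ResidueField.mapEquiv σ (D.localFactor q) := by
  rw [Tame.localFactor_eq, Tame.localFactor_eq, map_pow]
  letI alg : Algebra S D.B := ((algebraMap S' D.B).comp σ.symm.toRingHom).toAlgebra
  haveI hl : IsLocalHom (algebraMap S (Localization.AtPrime q.asIdeal)) :=
    (transport σ D).isLocalHom q
  haveI := D.isLocalHom q
  show (Algebra.norm (ResidueField S) (Tame.theta (D.u₁ q) (D.u₂ q) (D.e₁ q) (D.e₂ q))) ^
      (Ring.ord (Localization.AtPrime q.asIdeal) (D.π q)).toNat =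
    (ResidueField.mapEquiv σ (Algebra.norm (ResidueField S')
      (Tame.theta (D.u₁ q) (D.u₂ q) (D.e₁ q) (D.e₂ q)))) ^
      (Ring.ord (Localization.AtPrime q.asIdeal) (D.π q)).toNat
  congr 1
  symm
  apply Algebra.norm_eq_of_ringEquiv
  apply Ideal.Quotient.ringHom_ext
  ext s
  show residue _ (algebraMap S (Localization.AtPrime q.asIdeal) (σ s)) =
    residue _ (algebraMap S' (Localization.AtPrime q.asIdeal) s)
  congr 1
  have h1 : algebraMap S (Localization.AtPrime q.asIdeal) (σ s) =
      algebraMap S' (Localization.AtPrime q.asIdeal) (σ.symm (σ s)) := by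
    rw [IsScalarTower.algebraMap_apply S D.B, IsScalarTower.algebraMap_apply S' D.B]; rfl
  rw [h1, σ.symm_apply_apply]

theorem transport_value (σ : S' ≃+* S) {x y : S'} (D : TameData S' x y) :
    (transport σ D).value = ResidueField.mapEquiv σ D.value := by
  unfold TameData.value
  have h := MulEquiv.map_finprod (ResidueField.mapEquiv σ).toMulEquiv (fun q => D.localFactor q)
  show _ = (ResidueField.mapEquiv σ).toMulEquiv _
  rw [h]
  exact finprod_congr (fun q => transport_localFactor σ D q)

/-- **Invariance of the tame symbol under ring isomorphisms.** -/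
theorem tameSymbol_ringEquiv [IsNoetherianRing S'] (hS' : ringKrullDim S' = 1) (σ : S' ≃+* S)
    {x y : S'} (hx : x ∈ nonZeroDivisors S') (hy : y ∈ nonZeroDivisors S') :
    tameSymbol S (σ x) (σ y) = ResidueField.mapEquiv σ (tameSymbol S' x y) := by
  haveI : IsNoetherianRing S := isNoetherianRing_of_ringEquiv S' σ
  have hS : ringKrullDim S = 1 := by rw [← hS']; exact (ringKrullDim_eq_of_ringEquiv σ).symm
  obtain ⟨L, hL⟩ := TameLaws.exists_locData hS' 2 ![x, y] (by
    intro i
    fin_cases i
    · exact hx
    · exact hy)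
  obtain ⟨Fx⟩ := hL 0
  obtain ⟨Fy⟩ := hL 1
  have D : TameData S' x y := L.tame Fx Fy
  rw [TameLaws.tameSymbol_eq_value hS' hx hy D,
    TameLaws.tameSymbol_eq_value hS (TameNorm.map_mem_nonZeroDivisors_of_ringEquiv σ hx)
      (TameNorm.map_mem_nonZeroDivisors_of_ringEquiv σ hy) (transport σ D), transport_value]

end Transport

end Part3

section Part4

open IsLocalRing CycAlg

section EqSetup

variable {A : Type u} [CommRing A] [IsNoetherianRing A] [IsLocalRing A]
  (C : Type u) [CommRing C] [Algebra A C] (q : Ideal A) [q.IsPrime]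

/-- the localization of `C` at a prime `q` of `A` -/
abbrev Eq : Type u := Localization (Algebra.algebraMapSubmonoid C q.primeCompl)

instance isScalarTower_Eq : IsScalarTower A (Localization.AtPrime q) (Eq C q) :=
  IsScalarTower.of_algebraMap_eq fun a => by
    rw [IsScalarTower.algebraMap_apply A C (Eq C q)]
    exact (IsLocalization.map_eq (S := Localization.AtPrime q) (Q := Eq C q)
      (M := q.primeCompl) (T := Algebra.algebraMapSubmonoid C q.primeCompl)
      (Submonoid.le_comap_map _) a).symm

theorem isFinExt_Eq (hA : ringKrullDim A = 2) [Module.Finite A C]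
    (hinj : Function.Injective (algebraMap A C)) (hg : IsGood q) {t : A}
    (ht : t ∈ nonZeroDivisors A) (n : ℕ)
    (hcok : ∀ c : C, ∃ x : A, t ^ n • c = algebraMap A C x) :
    IsFinExt (Localization.AtPrime q) (Eq C q) (maximalIdeal (Localization.AtPrime q)) := by
  haveI : Ring.KrullDimLE 1 (Localization.AtPrime q) :=
    Ring.krullDimLE_iff.mpr (hg.ringKrullDim_loc hA).le
  refine ⟨localizationAlgebra_injective _ _ hinj, inferInstance, ?_⟩
  have hck : algebraMap A (Localization.AtPrime q) (t ^ n) ∈
      nonZeroDivisors (Localization.AtPrime q) := map_mem_nonZeroDivisors q (pow_mem ht n)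
  obtain ⟨N, hN⟩ := Tame.exists_pow_maximalIdeal_le_span hck
  refine ⟨N, ?_⟩
  intro r hr x
  obtain ⟨r', rfl⟩ := Ideal.mem_span_singleton'.mp (hN hr)
  obtain ⟨y, s, rfl⟩ :=
    IsLocalization.exists_mk'_eq (Algebra.algebraMapSubmonoid C q.primeCompl) x
  obtain ⟨s₀, hs₀, hs₀eq⟩ := s.2
  obtain ⟨a₀, ha₀⟩ := hcok y
  refine ⟨r' * IsLocalization.mk' (Localization.AtPrime q) a₀ (⟨s₀, hs₀⟩ : q.primeCompl), ?_⟩
  rw [Algebra.smul_def, map_mul, map_mul, mul_assoc]
  congr 1
  have hu : IsUnit (algebraMap C (Eq C q) (s : C)) := IsLocalization.map_units _ s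
  apply (IsUnit.mul_left_inj hu).mp
  have e1 : algebraMap C (Eq C q) (s : C) =
      algebraMap (Localization.AtPrime q) (Eq C q) (algebraMap A (Localization.AtPrime q) s₀) := by
    rw [← hs₀eq, ← IsScalarTower.algebraMap_apply A C (Eq C q),
      ← IsScalarTower.algebraMap_apply A (Localization.AtPrime q) (Eq C q)]
  have e2 : IsLocalization.mk' (Localization.AtPrime q) a₀ (⟨s₀, hs₀⟩ : q.primeCompl) *
      algebraMap A (Localization.AtPrime q) s₀ = algebraMap A (Localization.AtPrime q) a₀ :=
    IsLocalization.mk'_spec _ _ _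
  have e3 : IsLocalization.mk' (Eq C q) y s * algebraMap C (Eq C q) (s : C) =
      algebraMap C (Eq C q) y := IsLocalization.mk'_spec _ _ _
  calc algebraMap (Localization.AtPrime q) (Eq C q)
        (IsLocalization.mk' (Localization.AtPrime q) a₀ (⟨s₀, hs₀⟩ : q.primeCompl)) *
          algebraMap C (Eq C q) (s : C)
      = algebraMap (Localization.AtPrime q) (Eq C q) (algebraMap A (Localization.AtPrime q) a₀) := by
        rw [e1, ← map_mul, e2]
    _ = algebraMap C (Eq C q) (algebraMap A C a₀) := by
        rw [← IsScalarTower.algebraMap_apply A (Localization.AtPrime q) (Eq C q),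
          IsScalarTower.algebraMap_apply A C (Eq C q)]
    _ = algebraMap C (Eq C q) (algebraMap A C (t ^ n)) * algebraMap C (Eq C q) y := by
        rw [← ha₀, Algebra.smul_def, map_mul]
    _ = algebraMap (Localization.AtPrime q) (Eq C q)
          (algebraMap A (Localization.AtPrime q) (t ^ n)) *
          IsLocalization.mk' (Eq C q) y s * algebraMap C (Eq C q) (s : C) := by
        rw [mul_assoc, e3,
          ← IsScalarTower.algebraMap_apply A (Localization.AtPrime q) (Eq C q),
          IsScalarTower.algebraMap_apply A C (Eq C q)]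

end EqSetup

end Part4

section Part5

open IsLocalRing CycAlg

section EqPrimes

variable {A : Type u} [CommRing A] [IsNoetherianRing A] [IsLocalRing A]
  (C : Type u) [CommRing C] [Algebra A C] (q : Ideal A) [q.IsPrime]

omit [IsNoetherianRing A] [IsLocalRing A] in
theorem hass_Eq [IsNoetherianRing A] {t : A} (htq : t ∈ q)
    (htC : algebraMap A C t ∈ nonZeroDivisors C) :
    maximalIdeal (Localization.AtPrime q) ∉
      associatedPrimes (Localization.AtPrime q) (Eq C q) := by
  intro h
  rw [AssociatedPrimes.mem_iff, isAssociatedPrime_iff] at h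
  obtain ⟨-, x, hx⟩ := h
  have ht' : algebraMap A (Localization.AtPrime q) t ∈ maximalIdeal (Localization.AtPrime q) :=
    (IsLocalization.AtPrime.to_map_mem_maximal_iff _ q t).mpr htq
  rw [hx, Submodule.mem_colon_singleton, Submodule.mem_bot, Algebra.smul_def] at ht'
  have hnz : algebraMap (Localization.AtPrime q) (Eq C q) (algebraMap A _ t) ∈
      nonZeroDivisors (Eq C q) := by
    rw [← IsScalarTower.algebraMap_apply A (Localization.AtPrime q) (Eq C q),
      IsScalarTower.algebraMap_apply A C (Eq C q)]
    exact IsLocalization.map_nonZeroDivisors_le (Algebra.algebraMapSubmonoid C q.primeCompl)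
      (Eq C q) (Submonoid.mem_map_of_mem _ htC)
  have hx0 : x = 0 := (mem_nonZeroDivisors_iff.mp hnz).1 x ht'
  have h1 : (1 : Localization.AtPrime q) ∈ maximalIdeal (Localization.AtPrime q) := by
    rw [hx, hx0, Submodule.mem_colon_singleton]
    simp
  exact (maximalIdeal.isMaximal _).ne_top ((Ideal.eq_top_iff_one _).mpr h1)

variable [Module.Finite A C]

omit [IsNoetherianRing A] [IsLocalRing A] in
instance isLocalHom_Eq (Q' : MaximalSpectrum (Eq C q)) :
    IsLocalHom (algebraMap (Localization.AtPrime q) (Localization.AtPrime Q'.asIdeal)) :=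
  haveI : Algebra.IsIntegral (Localization.AtPrime q) (Eq C q) := Algebra.IsIntegral.of_finite _ _
  Tame.isLocalHom_of_integral _ _ Q'

omit [IsNoetherianRing A] [IsLocalRing A] in
theorem comap_Eq_maximal (Q' : MaximalSpectrum (Eq C q)) :
    (Q'.asIdeal.comap (algebraMap C (Eq C q))).comap (algebraMap A C) = q := by
  haveI : Algebra.IsIntegral (Localization.AtPrime q) (Eq C q) :=
    Algebra.IsIntegral.of_finite _ _
  haveI := Q'.isMaximal
  have h1 : (Q'.asIdeal.comap (algebraMap (Localization.AtPrime q) (Eq C q))).IsMaximal :=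
    Ideal.isMaximal_comap_of_isIntegral_of_isMaximal _
  have h2 : Q'.asIdeal.comap (algebraMap (Localization.AtPrime q) (Eq C q)) =
      maximalIdeal (Localization.AtPrime q) := eq_maximalIdeal h1
  rw [Ideal.comap_comap, ← IsScalarTower.algebraMap_eq,
    IsScalarTower.algebraMap_eq A (Localization.AtPrime q) (Eq C q),
    ← Ideal.comap_comap, h2]
  exact IsLocalization.AtPrime.comap_maximalIdeal _ _

/-- the prime of `C` under a maximal ideal of the localization -/
noncomputable def downP (Q' : MaximalSpectrum (Eq C q)) : PrimeSpectrum C :=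
  ⟨Q'.asIdeal.comap (algebraMap C (Eq C q)), by
    haveI := Q'.isMaximal
    exact Ideal.comap_isPrime _ _⟩

omit [IsNoetherianRing A] [IsLocalRing A] in
theorem comap_downP (Q' : MaximalSpectrum (Eq C q)) :
    (downP C q Q').asIdeal.comap (algebraMap A C) = q := comap_Eq_maximal C q Q'

/-- the canonical isomorphism of local rings -/
noncomputable def sigP (Q' : MaximalSpectrum (Eq C q)) :
    Localization.AtPrime (downP C q Q').asIdeal ≃ₐ[C] Localization.AtPrime Q'.asIdeal :=
  IsLocalization.localizationLocalizationAtPrimeIsoLocalization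
    (Algebra.algebraMapSubmonoid C q.primeCompl) Q'.asIdeal

omit [IsNoetherianRing A] [IsLocalRing A] in
theorem downP_injective : Function.Injective (downP C q) := by
  intro Q₁ Q₂ h
  have h1 : Q₁.asIdeal.comap (algebraMap C (Eq C q)) =
      Q₂.asIdeal.comap (algebraMap C (Eq C q)) := congrArg PrimeSpectrum.asIdeal h
  apply MaximalSpectrum.ext
  rw [← IsLocalization.map_comap (Algebra.algebraMapSubmonoid C q.primeCompl)
      (Eq C q) Q₁.asIdeal,
    ← IsLocalization.map_comap (Algebra.algebraMapSubmonoid C q.primeCompl)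
      (Eq C q) Q₂.asIdeal]
  exact congrArg (Ideal.map (algebraMap C (Eq C q))) h1

omit [IsNoetherianRing A] [IsLocalRing A] in
theorem exists_downP_eq (r : PrimeSpectrum C) (hr : r.asIdeal.comap (algebraMap A C) = q) :
    ∃ Q' : MaximalSpectrum (Eq C q), downP C q Q' = r := by
  haveI : Algebra.IsIntegral (Localization.AtPrime q) (Eq C q) :=
    Algebra.IsIntegral.of_finite _ _
  have hdisj : Disjoint (Algebra.algebraMapSubmonoid C q.primeCompl : Set C)
      (r.asIdeal : Set C) := by
    rw [Set.disjoint_left]
    rintro _ ⟨s, hs, rfl⟩ hmem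
    apply hs
    have : s ∈ r.asIdeal.comap (algebraMap A C) := hmem
    rwa [hr] at this
  have hprime : (r.asIdeal.map (algebraMap C (Eq C q))).IsPrime :=
    IsLocalization.isPrime_of_isPrime_disjoint _ _ _ inferInstance hdisj
  have hcomap : (r.asIdeal.map (algebraMap C (Eq C q))).comap (algebraMap C (Eq C q)) =
      r.asIdeal :=
    IsLocalization.comap_map_of_isPrime_disjoint _ _ inferInstance hdisj
  have h1 : ((r.asIdeal.map (algebraMap C (Eq C q))).comap
      (algebraMap (Localization.AtPrime q) (Eq C q))).comap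
        (algebraMap A (Localization.AtPrime q)) = q := by
    rw [Ideal.comap_comap, ← IsScalarTower.algebraMap_eq,
      IsScalarTower.algebraMap_eq A C (Eq C q), ← Ideal.comap_comap, hcomap, hr]
  have h2 : (r.asIdeal.map (algebraMap C (Eq C q))).comap
      (algebraMap (Localization.AtPrime q) (Eq C q)) = maximalIdeal (Localization.AtPrime q) := by
    rw [← IsLocalization.map_comap q.primeCompl (Localization.AtPrime q)
      ((r.asIdeal.map (algebraMap C (Eq C q))).comap
        (algebraMap (Localization.AtPrime q) (Eq C q))), Ideal.under_def, h1]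
    exact Localization.AtPrime.map_eq_maximalIdeal
  have hmax : (r.asIdeal.map (algebraMap C (Eq C q))).IsMaximal := by
    apply Ideal.isMaximal_of_isIntegral_of_isMaximal_comap (R := Localization.AtPrime q)
    rw [h2]
    exact maximalIdeal.isMaximal _
  exact ⟨⟨_, hmax⟩, PrimeSpectrum.ext hcomap⟩

omit [IsNoetherianRing A] [IsLocalRing A] in
theorem finsum_downP {M : Type*} [AddCommMonoid M] (F : PrimeSpectrum C → M) :
    ∑ᶠ Q' : MaximalSpectrum (Eq C q), F (downP C q Q') =
      ∑ᶠ (r : PrimeSpectrum C) (_ : r.asIdeal.comap (algebraMap A C) = q), F r := by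
  let e : MaximalSpectrum (Eq C q) →
      {r : PrimeSpectrum C // r.asIdeal.comap (algebraMap A C) = q} :=
    fun Q' => ⟨downP C q Q', comap_downP C q Q'⟩
  have he : Function.Bijective e := by
    constructor
    · intro Q₁ Q₂ h
      exact downP_injective C q (congrArg Subtype.val h)
    · rintro ⟨r, hr⟩
      obtain ⟨Q', hQ'⟩ := exists_downP_eq C q r hr
      exact ⟨Q', Subtype.ext hQ'⟩
  rw [finsum_eq_of_bijective e he (g := fun x => F x.1) (fun Q' => rfl),
    finsum_subtype_eq_finsum_cond (p := fun r : PrimeSpectrum C =>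
      r.asIdeal.comap (algebraMap A C) = q)]

end EqPrimes

end Part5

section Part6

open IsLocalRing CycAlg

section OrdNormTransport

variable (A' : Type u) [CommRing A'] [IsDomain A'] [IsNoetherianRing A'] [IsLocalRing A']
  (hA' : ringKrullDim A' = 1) (C' : Type u) [CommRing C'] [IsDomain C'] [IsLocalRing C']
  [Algebra A' C'] (hinj : Function.Injective (algebraMap A' C')) [Module.Finite A' C']
  (K L : Type u) [Field K] [Field L] [Algebra A' K] [IsFractionRing A' K] [Algebra C' L]
  [IsFractionRing C' L] (M : Type u) [Field M] [Algebra K M] [FiniteDimensional K M]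
  (τ : M ≃+* L)
  (hτ : ∀ x : A', τ (algebraMap K M (algebraMap A' K x)) = algebraMap C' L (algebraMap A' C' x))

include hA' hinj hτ

theorem ordFrac_norm_transport {z : M} (hz : z ≠ 0) :
    haveI : IsNoetherianRing C' := IsNoetherianRing.of_finite A' C'
    haveI : Ring.KrullDimLE 1 C' := Tame.krullDimLE_one_of_finite hA' C'
    ordFrac A' K (Algebra.norm K z) =
      ((Module.length A' (ResidueField C')).toNat : ℤ) * ordFrac C' L (τ z) := by
  letI algKL : Algebra K L := (τ.toRingHom.comp (algebraMap K M)).toAlgebra
  letI algAL : Algebra A' L := ((algebraMap C' L).comp (algebraMap A' C')).toAlgebra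
  haveI t1 : IsScalarTower A' C' L := IsScalarTower.of_algebraMap_eq' rfl
  haveI t2 : IsScalarTower A' K L := IsScalarTower.of_algebraMap_eq (fun x => (hτ x).symm)
  let τ' : M ≃ₐ[K] L := { τ with commutes' := fun _ => rfl }
  haveI : FiniteDimensional K L := Module.Finite.equiv τ'.toLinearEquiv
  have h1 : Algebra.norm K z = Algebra.norm K (τ z) := (Algebra.norm_eq_of_algEquiv τ' z).symm
  rw [h1]
  exact ordFrac_norm A' hA' C' hinj K L ((map_ne_zero τ).mpr hz)

end OrdNormTransport

section ResQuot

variable (A : Type*) [CommRing A] (C : Type*) [CommRing C] [IsLocalRing C] [Algebra A C]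
  (r : Ideal C) [r.IsPrime]

instance isLocalRing_quot : IsLocalRing (C ⧸ r) :=
  IsLocalRing.of_surjective' (Ideal.Quotient.mk r) Ideal.Quotient.mk_surjective

theorem length_residueField_quot :
    Module.length A (ResidueField (C ⧸ r)) = Module.length A (ResidueField C) := by
  haveI h0 : IsLocalHom (Ideal.Quotient.mk r) :=
    IsLocalHom.of_surjective (Ideal.Quotient.mk r) Ideal.Quotient.mk_surjective
  haveI : IsLocalHom (Ideal.Quotient.mkₐ A r) := ⟨fun a ha => h0.map_nonunit a ha⟩
  let f : ResidueField C →ₐ[A] ResidueField (C ⧸ r) :=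
    ResidueField.mapAlgHom (Ideal.Quotient.mkₐ A r)
  have hf : Function.Bijective f := by
    refine ⟨f.toRingHom.injective, ?_⟩
    intro y
    obtain ⟨y, rfl⟩ := residue_surjective y
    obtain ⟨y, rfl⟩ := Ideal.Quotient.mk_surjective y
    exact ⟨residue C y, rfl⟩
  exact (LinearEquiv.ofBijective f.toLinearMap hf).length_eq.symm

end ResQuot

end Part6

section Part7

open IsLocalRing CycAlg

section QuotDim

variable {A : Type u} [CommRing A] [IsNoetherianRing A] [IsLocalRing A]

theorem IsGood.ringKrullDim_quot (hA : ringKrullDim A = 2) {q : Ideal A} [q.IsPrime]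
    (hg : IsGood q) : ringKrullDim (A ⧸ q) = 1 := by
  haveI := hg.krullDimLE_quot hA
  have hlt : q < maximalIdeal A :=
    lt_of_le_of_ne (IsLocalRing.le_maximalIdeal (Ideal.IsPrime.ne_top ‹_›)) hg.ne
  obtain ⟨y, hym, hyq⟩ := Set.exists_of_ssubset hlt
  apply TameNorm.ringKrullDim_eq_one_of_nonunit_nzd (A ⧸ q) (Ideal.Quotient.mk q y)
  · apply mem_nonZeroDivisors_of_ne_zero
    rw [Ne, Ideal.Quotient.eq_zero_iff_mem]
    exact hyq
  · intro hu
    haveI h0 : IsLocalHom (Ideal.Quotient.mk q) :=
      IsLocalHom.of_surjective (Ideal.Quotient.mk q) Ideal.Quotient.mk_surjective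
    exact (mem_maximalIdeal y).mp hym (h0.map_nonunit y hu)

end QuotDim

section PerPrime

variable {A : Type u} [CommRing A] [IsNoetherianRing A] [IsLocalRing A]
  (C : Type u) [CommRing C] [Algebra A C] (q : Ideal A) [q.IsPrime]

omit [IsNoetherianRing A] [IsLocalRing A] in
instance isScalarTower_Eq_atPrime (Q' : MaximalSpectrum (Eq C q)) :
    IsScalarTower A (Localization.AtPrime q) (Localization.AtPrime Q'.asIdeal) :=
  IsScalarTower.of_algebraMap_eq fun a => by
    rw [IsScalarTower.algebraMap_apply A (Eq C q) (Localization.AtPrime Q'.asIdeal),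
      IsScalarTower.algebraMap_apply A (Localization.AtPrime q) (Eq C q),
      ← IsScalarTower.algebraMap_apply (Localization.AtPrime q) (Eq C q)
        (Localization.AtPrime Q'.asIdeal)]

/-- the uniform residue weight -/
noncomputable def resWeight (A : Type u) [CommRing A] (C : Type u) [CommRing C] [IsLocalRing C]
    [Algebra A C] : ℕ := (Module.length A (ResidueField C)).toNat

end PerPrime

end Part7

section Part8

open IsLocalRing CycAlg

section PerPrime2

variable {A : Type u} [CommRing A] [IsNoetherianRing A] [IsLocalRing A] (hA : ringKrullDim A = 2)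
  (C : Type u) [CommRing C] [IsLocalRing C] [IsNoetherianRing C] [Algebra A C] [Module.Finite A C]
  (hC : ringKrullDim C = 2)
  (q : Ideal A) [q.IsPrime] (hg : IsGood q) (Q' : MaximalSpectrum (Eq C q))

omit [IsNoetherianRing A] [IsLocalRing A] [IsLocalRing C] [IsNoetherianRing C] in
theorem sigP_algebraMap (x : A) :
    sigP C q Q' (algebraMap C (Localization.AtPrime (downP C q Q').asIdeal) (algebraMap A C x)) =
      algebraMap (Localization.AtPrime q) (Localization.AtPrime Q'.asIdeal)
        (algebraMap A (Localization.AtPrime q) x) := by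
  rw [AlgEquiv.commutes, ← IsScalarTower.algebraMap_apply A C (Localization.AtPrime Q'.asIdeal),
    ← IsScalarTower.algebraMap_apply A (Localization.AtPrime q) (Localization.AtPrime Q'.asIdeal)]

set_option maxHeartbeats 1000000 in
include hA hC hg in
theorem ordFrac_norm_tameSymbol_Eq (hgr : IsGood (downP C q Q').asIdeal) {a b : A}
    (ha' : algebraMap A C a ∈ nonZeroDivisors C) (hb' : algebraMap A C b ∈ nonZeroDivisors C) :
    ordFrac (A ⧸ q) q.ResidueField
      (Algebra.norm (ResidueField (Localization.AtPrime q))
        (tameSymbol (Localization.AtPrime Q'.asIdeal)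
          (algebraMap (Localization.AtPrime q) (Localization.AtPrime Q'.asIdeal)
            (algebraMap A (Localization.AtPrime q) a))
          (algebraMap (Localization.AtPrime q) (Localization.AtPrime Q'.asIdeal)
            (algebraMap A (Localization.AtPrime q) b)))) =
      (resWeight A C : ℤ) * d (downP C q Q').asIdeal (algebraMap A C a) (algebraMap A C b) := by
  haveI hlo : (downP C q Q').asIdeal.LiesOver q := ⟨(comap_downP C q Q').symm⟩
  have hA'dim : ringKrullDim (A ⧸ q) = 1 := hg.ringKrullDim_quot hA
  have hS'dim : ringKrullDim (Localization.AtPrime (downP C q Q').asIdeal) = 1 :=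
    hgr.ringKrullDim_loc hC
  have hinj' : Function.Injective (algebraMap (A ⧸ q) (C ⧸ (downP C q Q').asIdeal)) :=
    FaithfulSMul.algebraMap_injective _ _
  haveI : Module.Finite (ResidueField (Localization.AtPrime q))
      (ResidueField (Localization.AtPrime Q'.asIdeal)) :=
    Tame.finite_residueField (Localization.AtPrime q) (Eq C q) Q'
  obtain ⟨L1, -, -, -, -⟩ := TameLaws.tameSymbol_laws hS'dim
  have haS' := map_mem_nonZeroDivisors (downP C q Q').asIdeal ha'
  have hbS' := map_mem_nonZeroDivisors (downP C q Q').asIdeal hb'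
  have hG1 := tameSymbol_ringEquiv hS'dim (sigP C q Q').toRingEquiv haS' hbS'
  have e1 : (sigP C q Q').toRingEquiv
      (algebraMap C (Localization.AtPrime (downP C q Q').asIdeal) (algebraMap A C a)) =
      algebraMap (Localization.AtPrime q) (Localization.AtPrime Q'.asIdeal)
        (algebraMap A (Localization.AtPrime q) a) := sigP_algebraMap C q Q' a
  have e2 : (sigP C q Q').toRingEquiv
      (algebraMap C (Localization.AtPrime (downP C q Q').asIdeal) (algebraMap A C b)) =
      algebraMap (Localization.AtPrime q) (Localization.AtPrime Q'.asIdeal)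
        (algebraMap A (Localization.AtPrime q) b) := sigP_algebraMap C q Q' b
  rw [e1, e2] at hG1
  have hz : tameSymbol (Localization.AtPrime Q'.asIdeal)
      (algebraMap (Localization.AtPrime q) (Localization.AtPrime Q'.asIdeal)
        (algebraMap A (Localization.AtPrime q) a))
      (algebraMap (Localization.AtPrime q) (Localization.AtPrime Q'.asIdeal)
        (algebraMap A (Localization.AtPrime q) b)) ≠ 0 := by
    rw [hG1]
    exact (map_ne_zero _).mpr (L1 _ _ haS' hbS')
  have hτ : ∀ x : A ⧸ q, (ResidueField.mapEquiv (sigP C q Q').toRingEquiv).symm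
      (algebraMap q.ResidueField (ResidueField (Localization.AtPrime Q'.asIdeal))
        (algebraMap (A ⧸ q) q.ResidueField x)) =
      algebraMap (C ⧸ (downP C q Q').asIdeal) (downP C q Q').asIdeal.ResidueField
        (algebraMap (A ⧸ q) (C ⧸ (downP C q Q').asIdeal) x) := by
    intro x
    obtain ⟨x, rfl⟩ := Ideal.Quotient.mk_surjective x
    rw [RingEquiv.symm_apply_eq, Ideal.algebraMap_quotient_residueField_mk,
      Ideal.Quotient.algebraMap_mk_of_liesOver, Ideal.algebraMap_quotient_residueField_mk]
    show algebraMap (ResidueField (Localization.AtPrime q))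
        (ResidueField (Localization.AtPrime Q'.asIdeal))
        (residue _ (algebraMap A (Localization.AtPrime q) x)) =
      ResidueField.mapEquiv (sigP C q Q').toRingEquiv
        (residue _ (algebraMap C (Localization.AtPrime (downP C q Q').asIdeal) (algebraMap A C x)))
    rw [ResidueField.algebraMap_residue, ResidueField.mapEquiv_apply, ResidueField.map_residue]
    congr 1
    exact (sigP_algebraMap C q Q' x).symm
  rw [ordFrac_norm_transport (A ⧸ q) hA'dim (C ⧸ (downP C q Q').asIdeal) hinj' q.ResidueField
    (downP C q Q').asIdeal.ResidueField (ResidueField (Localization.AtPrime Q'.asIdeal))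
    (ResidueField.mapEquiv (sigP C q Q').toRingEquiv).symm hτ hz, hG1,
    RingEquiv.symm_apply_apply]
  have hlen : Module.length (A ⧸ q) (ResidueField (C ⧸ (downP C q Q').asIdeal)) =
      Module.length A (ResidueField C) := by
    rw [← length_residueField_quot A C (downP C q Q').asIdeal]
    exact (Module.length_eq_of_surjective (S := A) (R := A ⧸ q)
      (M := ResidueField (C ⧸ (downP C q Q').asIdeal)) Ideal.Quotient.mk_surjective).symm
  rw [hlen]
  rfl

end PerPrime2

end Part8

section Part9

open IsLocalRing CycAlg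

section PerPrime3

variable {A : Type u} [CommRing A] [IsNoetherianRing A] [IsLocalRing A] (hA : ringKrullDim A = 2)
  (C : Type u) [CommRing C] [IsLocalRing C] [IsNoetherianRing C] [Algebra A C] [Module.Finite A C]
  (hC : ringKrullDim C = 2)
  (q : Ideal A) [q.IsPrime] (hg : IsGood q)

include hC in
omit [IsNoetherianRing A] [IsLocalRing A] in
theorem tameSymbol_Eq_ne_zero (Q' : MaximalSpectrum (Eq C q))
    (hgr : IsGood (downP C q Q').asIdeal) {a b : A}
    (ha' : algebraMap A C a ∈ nonZeroDivisors C) (hb' : algebraMap A C b ∈ nonZeroDivisors C) :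
    tameSymbol (Localization.AtPrime Q'.asIdeal)
      (algebraMap (Localization.AtPrime q) (Localization.AtPrime Q'.asIdeal)
        (algebraMap A (Localization.AtPrime q) a))
      (algebraMap (Localization.AtPrime q) (Localization.AtPrime Q'.asIdeal)
        (algebraMap A (Localization.AtPrime q) b)) ≠ 0 := by
  have hS'dim : ringKrullDim (Localization.AtPrime (downP C q Q').asIdeal) = 1 :=
    hgr.ringKrullDim_loc hC
  obtain ⟨L1, -, -, -, -⟩ := TameLaws.tameSymbol_laws hS'dim
  have haS' := map_mem_nonZeroDivisors (downP C q Q').asIdeal ha'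
  have hbS' := map_mem_nonZeroDivisors (downP C q Q').asIdeal hb'
  have hG1 := tameSymbol_ringEquiv hS'dim (sigP C q Q').toRingEquiv haS' hbS'
  have e1 : (sigP C q Q').toRingEquiv
      (algebraMap C (Localization.AtPrime (downP C q Q').asIdeal) (algebraMap A C a)) =
      algebraMap (Localization.AtPrime q) (Localization.AtPrime Q'.asIdeal)
        (algebraMap A (Localization.AtPrime q) a) := sigP_algebraMap C q Q' a
  have e2 : (sigP C q Q').toRingEquiv
      (algebraMap C (Localization.AtPrime (downP C q Q').asIdeal) (algebraMap A C b)) =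
      algebraMap (Localization.AtPrime q) (Localization.AtPrime Q'.asIdeal)
        (algebraMap A (Localization.AtPrime q) b) := sigP_algebraMap C q Q' b
  rw [e1, e2] at hG1
  rw [hG1]
  exact (map_ne_zero _).mpr (L1 _ _ haS' hbS')

omit [IsNoetherianRing A] [IsNoetherianRing C] in
/-- primes of `C` over a good prime are good -/
theorem isGood_of_comap_eq {t : A} (htq : t ∈ q) (hqm : q ≠ maximalIdeal A)
    (htC : algebraMap A C t ∈ nonZeroDivisors C)
    (r : Ideal C) [r.IsPrime] (hr : r.comap (algebraMap A C) = q) : IsGood r := by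
  haveI : Algebra.IsIntegral A C := Algebra.IsIntegral.of_finite A C
  refine ⟨?_, algebraMap A C t, ?_, htC⟩
  · intro hrm
    apply hqm
    rw [← hr, hrm]
    haveI : ((maximalIdeal C).comap (algebraMap A C)).IsMaximal :=
      Ideal.isMaximal_comap_of_isIntegral_of_isMaximal _
    exact eq_maximalIdeal inferInstance
  · have : t ∈ r.comap (algebraMap A C) := hr ▸ htq
    exact this

set_option maxHeartbeats 1000000 in
include hA hC hg in
/-- the local term at `q` is the weighted sum of the local terms of `C` at the primes over `q` -/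
theorem d_eq_finsum (hinj : Function.Injective (algebraMap A C)) {t : A}
    (ht : t ∈ nonZeroDivisors A) (htq : t ∈ q)
    (htC : algebraMap A C t ∈ nonZeroDivisors C) (n : ℕ)
    (hcok : ∀ c : C, ∃ x : A, t ^ n • c = algebraMap A C x) {a b : A}
    (ha : a ∈ nonZeroDivisors A) (hb : b ∈ nonZeroDivisors A)
    (ha' : algebraMap A C a ∈ nonZeroDivisors C) (hb' : algebraMap A C b ∈ nonZeroDivisors C) :
    d q a b = ∑ᶠ (r : PrimeSpectrum C) (_ : r.asIdeal.comap (algebraMap A C) = q),
      (resWeight A C : ℤ) * d r.asIdeal (algebraMap A C a) (algebraMap A C b) := by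
  rw [← finsum_downP C q
    (fun r => (resWeight A C : ℤ) * d r.asIdeal (algebraMap A C a) (algebraMap A C b))]
  have hRdim := hg.ringKrullDim_loc hA
  have hfe := isFinExt_Eq C q hA hinj hg ht n hcok
  have hass := hass_Eq C q htq htC
  have haR := map_mem_nonZeroDivisors q ha
  have hbR := map_mem_nonZeroDivisors q hb
  have hgr : ∀ Q' : MaximalSpectrum (Eq C q), IsGood (downP C q Q').asIdeal := fun Q' =>
    isGood_of_comap_eq C q htq hg.ne htC _ (comap_downP C q Q')
  haveI := hg.krullDimLE_quot hA
  haveI := Tame.finite_maximalSpectrum (Localization.AtPrime q) (Eq C q)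
  show ordFrac (A ⧸ q) q.ResidueField (tameSymbol (Localization.AtPrime q)
    (algebraMap A (Localization.AtPrime q) a) (algebraMap A (Localization.AtPrime q) b)) = _
  rw [TameNorm.tameSymbol_eq_finprod_norm (Localization.AtPrime q) hRdim (Eq C q) hfe hass _ _
    haR hbR]
  rw [ordFrac_finprod (A ⧸ q) q.ResidueField _ (fun Q' => by
    haveI : Module.Finite (ResidueField (Localization.AtPrime q))
        (ResidueField (Localization.AtPrime Q'.asIdeal)) :=
      Tame.finite_residueField (Localization.AtPrime q) (Eq C q) Q'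
    exact Algebra.norm_ne_zero_iff.mpr (tameSymbol_Eq_ne_zero C hC q Q' (hgr Q') ha' hb'))]
  exact finsum_congr (fun Q' => ordFrac_norm_tameSymbol_Eq hA C hC q hg Q' (hgr Q') ha' hb')

end PerPrime3

end Part9

section Part10

open IsLocalRing CycAlg

section Compare

variable {A : Type u} [CommRing A] [IsNoetherianRing A] [IsLocalRing A] (hA : ringKrullDim A = 2)
  (C : Type u) [CommRing C] [IsLocalRing C] [IsNoetherianRing C] [Algebra A C] [Module.Finite A C]
  (hC : ringKrullDim C = 2)

set_option maxHeartbeats 1000000 in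
include hA hC in
/-- **Comparison**: the sum for `A` is the residue weight times the sum for the finite local
extension `C`. -/
theorem Dsum_eq_mul (hinj : Function.Injective (algebraMap A C)) {t : A}
    (ht : t ∈ nonZeroDivisors A)
    (htC : algebraMap A C t ∈ nonZeroDivisors C) (n : ℕ)
    (hcok : ∀ c : C, ∃ x : A, t ^ n • c = algebraMap A C x) {a b : A} (hab : a * b = t)
    (ha : a ∈ nonZeroDivisors A) (hb : b ∈ nonZeroDivisors A)
    (ha' : algebraMap A C a ∈ nonZeroDivisors C) (hb' : algebraMap A C b ∈ nonZeroDivisors C) :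
    Dsum a b = (resWeight A C : ℤ) * Dsum (algebraMap A C a) (algebraMap A C b) := by
  classical
  haveI : Algebra.IsIntegral A C := Algebra.IsIntegral.of_finite A C
  have hSA := V1_finite hA ht
  have hSC := V1_finite hC htC
  rw [Dsum_eq_finsum_mem (z := t) ⟨b, hab.symm⟩ ⟨a, by rw [← hab, mul_comm]⟩,
    Dsum_eq_finsum_mem (z := algebraMap A C t) ⟨algebraMap A C b, by rw [← map_mul, hab]⟩
      ⟨algebraMap A C a, by rw [← map_mul, ← hab, mul_comm]⟩,
    finsum_mem_eq_finite_toFinset_sum _ hSA, finsum_mem_eq_finite_toFinset_sum _ hSC,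
    Finset.mul_sum]
  -- primes of `C` over a prime in `V1 t` are in `V1 (t)`
  have hup : ∀ (q : PrimeSpectrum A), q ∈ V1 t → ∀ r : PrimeSpectrum C,
      r.asIdeal.comap (algebraMap A C) = q.asIdeal → r ∈ V1 (algebraMap A C t) := by
    intro q hq r hr
    have hg := isGood_of_mem_V1 hA ht hq
    have hgr := isGood_of_comap_eq C q.asIdeal hq.2 hg.ne htC r.asIdeal hr
    refine ⟨hgr.height hC, ?_⟩
    have : t ∈ r.asIdeal.comap (algebraMap A C) := hr ▸ hq.2
    exact this
  have hdown : ∀ r ∈ hSC.toFinset, PrimeSpectrum.comap (algebraMap A C) r ∈ hSA.toFinset := by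
    intro r hr
    have hr' := hSC.mem_toFinset.mp hr
    have hgr := isGood_of_mem_V1 hC htC hr'
    rw [hSA.mem_toFinset]
    have htq : t ∈ (PrimeSpectrum.comap (algebraMap A C) r).asIdeal := hr'.2
    have hne : (PrimeSpectrum.comap (algebraMap A C) r).asIdeal ≠ maximalIdeal A := by
      intro hmax
      apply hgr.ne
      haveI : (r.asIdeal.comap (algebraMap A C)).IsMaximal := by
        have h1 : r.asIdeal.comap (algebraMap A C) = maximalIdeal A := hmax
        rw [h1]; exact maximalIdeal.isMaximal A
      exact eq_maximalIdeal (Ideal.isMaximal_of_isIntegral_of_isMaximal_comap (R := A) r.asIdeal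
        inferInstance)
    exact ⟨(IsGood.mk hne ⟨t, htq, ht⟩).height hA, htq⟩
  have hq : ∀ q ∈ hSA.toFinset, d q.asIdeal a b =
      ∑ r ∈ hSC.toFinset with PrimeSpectrum.comap (algebraMap A C) r = q,
        (resWeight A C : ℤ) * d r.asIdeal (algebraMap A C a) (algebraMap A C b) := by
    intro q hq
    have hq' := hSA.mem_toFinset.mp hq
    have hg := isGood_of_mem_V1 hA ht hq'
    rw [d_eq_finsum hA C hC q.asIdeal hg hinj ht hq'.2 htC n hcok ha hb ha' hb']
    have hfin : {r : PrimeSpectrum C | r.asIdeal.comap (algebraMap A C) = q.asIdeal}.Finite :=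
      hSC.subset (fun r hr => hup q hq' r hr)
    have h1 : ∑ᶠ (r : PrimeSpectrum C) (_ : r.asIdeal.comap (algebraMap A C) = q.asIdeal),
        (resWeight A C : ℤ) * d r.asIdeal (algebraMap A C a) (algebraMap A C b) =
        ∑ r ∈ hfin.toFinset,
          (resWeight A C : ℤ) * d r.asIdeal (algebraMap A C a) (algebraMap A C b) :=
      finsum_mem_eq_finite_toFinset_sum
        (fun r : PrimeSpectrum C =>
          (resWeight A C : ℤ) * d r.asIdeal (algebraMap A C a) (algebraMap A C b)) hfin
    rw [h1]
    apply Finset.sum_congr _ (fun _ _ => rfl)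
    ext r
    rw [hfin.mem_toFinset, Finset.mem_filter, hSC.mem_toFinset, Set.mem_setOf_eq]
    constructor
    · intro hr
      exact ⟨hup q hq' r hr, PrimeSpectrum.ext hr⟩
    · rintro ⟨-, hr⟩
      exact congrArg PrimeSpectrum.asIdeal hr
  rw [Finset.sum_congr rfl hq, Finset.sum_fiberwise_of_maps_to hdown]

end Compare

end Part10

end Groth.Agent.Lib.R2H1.KeyLemma
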