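/-
Key lemma (S1851), part 3: assembly (local data at the height-one primes of ab, glued local ring C, LP in C, key_lemma).
-/
import Groth.Agent.Lib.R2H1KeyLemmaCmp

set_option autoImplicit false
set_option linter.style.haveILetI false
set_option linter.unusedSectionVars false
universe u v

namespace Groth.Agent.Lib.R2H1.KeyLemma

section Part1

open IsLocalRing CycAlg

section LPTransfer

variable {C : Type u} [CommRing C]

theorem LP_of_isLocalization_atPrime (r : Ideal C) [r.IsPrime] (T : Type*) [CommRing T]
    [Algebra C T] [IsLocalization.AtPrime T r] (π : T) (hπ : π ∈ nonZeroDivisors T) (x y : C)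
    (u v : Tˣ) (e f : ℕ) (hx : algebraMap C T x = u * π ^ e)
    (hy : algebraMap C T y = v * π ^ f) : LP r x y := by
  let σ : T ≃ₐ[C] Localization.AtPrime r :=
    IsLocalization.algEquiv r.primeCompl T (Localization.AtPrime r)
  refine ⟨σ π, TameNorm.map_mem_nonZeroDivisors_of_ringEquiv σ.toRingEquiv hπ,
    ⟨Units.map (σ : T →* Localization.AtPrime r) u, e, ?_⟩,
    ⟨Units.map (σ : T →* Localization.AtPrime r) v, f, ?_⟩⟩
  · rw [← σ.commutes, hx, map_mul, map_pow]
    rfl
  · rw [← σ.commutes, hy, map_mul, map_pow]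
    rfl

theorem LP_of_isLocalization (M : Submonoid C) (B : Type*) [CommRing B] [Algebra C B]
    [IsLocalization M B] (Q : Ideal B) [Q.IsPrime] (r : Ideal C) [r.IsPrime]
    (hr : Q.comap (algebraMap C B) = r) (π : Localization.AtPrime Q)
    (hπ : π ∈ nonZeroDivisors (Localization.AtPrime Q)) (x y : C)
    (u v : (Localization.AtPrime Q)ˣ) (e f : ℕ)
    (hx : algebraMap C (Localization.AtPrime Q) x = u * π ^ e)
    (hy : algebraMap C (Localization.AtPrime Q) y = v * π ^ f) : LP r x y := by
  subst hr
  haveI := IsLocalization.isLocalization_isLocalization_atPrime_isLocalization M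
    (Localization.AtPrime Q) Q
  exact LP_of_isLocalization_atPrime _ (Localization.AtPrime Q) π hπ x y u v e f hx hy

end LPTransfer

end Part1

section Part2

open IsLocalRing CycAlg

section Assembly

variable {A : Type u} [CommRing A] [IsNoetherianRing A] [IsLocalRing A]

/-- the hypotheses of the gluing construction hold for local data at the primes of `t` -/
theorem hyp_of_locData (hA : ringKrullDim A = 2) {t : A} (ht : t ∈ nonZeroDivisors A)
    (r : ℕ) (q : Fin r → Ideal A) [hq : ∀ i, (q i).IsPrime] (hqinj : Function.Injective q)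
    (hqI : ∀ p : Ideal A, p ∈ I1 t ↔ ∃ i, p = q i)
    (L : ∀ i, TameLaws.LocData (Localization.AtPrime (q i)))
    (Ft : ∀ i, (L i).Fac (algebraMap A (Localization.AtPrime (q i)) t)) :
    letI algB : ∀ i, Algebra A (L i).B := fun i =>
      ((algebraMap (Localization.AtPrime (q i)) (L i).B).comp
        (algebraMap A (Localization.AtPrime (q i)))).toAlgebra
    ∃ n : ℕ, Glue.Hyp t (fun i => (L i).B) q n := by
  classical
  letI algB : ∀ i, Algebra A (L i).B := fun i =>
    ((algebraMap (Localization.AtPrime (q i)) (L i).B).comp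
      (algebraMap A (Localization.AtPrime (q i)))).toAlgebra
  haveI tower : ∀ i, IsScalarTower A (Localization.AtPrime (q i)) (L i).B := fun i =>
    IsScalarTower.of_algebraMap_eq (fun x => rfl)
  have hqm : ∀ i, q i ≠ maximalIdeal A := fun i => ((hqI (q i)).mpr ⟨i, rfl⟩).2.1
  have htq : ∀ i, t ∈ q i := fun i => ((hqI (q i)).mpr ⟨i, rfl⟩).2.2
  have hV : ∀ p : Ideal A, p.IsPrime → t ∈ p → p = maximalIdeal A ∨ ∃ i, p = q i := by
    intro p hp htp
    by_cases hpm : p = maximalIdeal A
    · exact Or.inl hpm
    · exact Or.inr ((hqI p).mp ⟨hp, hpm, htp⟩)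
  have hgood : ∀ i, IsGood (q i) := fun i => ⟨hqm i, t, htq i, ht⟩
  have h_nle : ∀ i j, q j ≤ q i → j = i := fun i j hle' =>
    hqinj ((hgood j).eq_of_le hA (hgood i) hle')
  have hBinj : ∀ i, Function.Injective (algebraMap (Localization.AtPrime (q i)) (L i).B) :=
    fun i => (L i).isFinExt.1
  have hex := fun i => (L i).isFinExt.2.2
  choose nn hnn using hex
  obtain ⟨n, hle⟩ : ∃ n : ℕ, ∀ i, nn i ≤ n := ⟨∑ i, nn i, fun i =>
    Finset.single_le_sum (f := nn) (fun _ _ => Nat.zero_le _) (Finset.mem_univ i)⟩
  have hmap : ∀ i (x : A), algebraMap A (L i).B x =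
      algebraMap (Localization.AtPrime (q i)) (L i).B (algebraMap A (Localization.AtPrime (q i)) x) :=
    fun i x => rfl
  have h_unit : ∀ i, ∀ s : A, s ∉ q i → IsUnit (algebraMap A (L i).B s) := by
    intro i s hs
    have h1 : IsUnit (algebraMap A (Localization.AtPrime (q i)) s) :=
      IsLocalization.map_units (Localization.AtPrime (q i)) (⟨s, hs⟩ : (q i).primeCompl)
    exact h1.map (algebraMap (Localization.AtPrime (q i)) (L i).B)
  have h_ker : ∀ i (x : A), algebraMap A (L i).B x = 0 → ∃ s : A, s ∉ q i ∧ s * x = 0 := by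
    intro i x hx
    have h1 : algebraMap A (Localization.AtPrime (q i)) x = 0 := by
      apply hBinj i
      rw [map_zero]
      exact hx
    obtain ⟨m, hm⟩ := (IsLocalization.map_eq_zero_iff (q i).primeCompl _ x).mp h1
    exact ⟨m, m.2, hm⟩
  have h_cok : ∀ i (b : (L i).B), ∃ (x s : A), s ∉ q i ∧
      algebraMap A (L i).B s * (algebraMap A (L i).B t ^ n * b) = algebraMap A (L i).B x := by
    intro i b
    have hmem0 : algebraMap A (Localization.AtPrime (q i)) t ∈
        maximalIdeal (Localization.AtPrime (q i)) :=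
      (IsLocalization.AtPrime.to_map_mem_maximal_iff _ (q i) t).mpr (htq i)
    have hmem1 : algebraMap A (Localization.AtPrime (q i)) t ^ n ∈
        (maximalIdeal (Localization.AtPrime (q i))) ^ n :=
      Ideal.pow_mem_pow hmem0 n
    have hmem : algebraMap A (Localization.AtPrime (q i)) t ^ n ∈
        (maximalIdeal (Localization.AtPrime (q i))) ^ nn i :=
      Ideal.pow_le_pow_right (hle i) hmem1
    obtain ⟨y, hy⟩ := hnn i _ hmem b
    obtain ⟨x, s, rfl⟩ := IsLocalization.exists_mk'_eq (q i).primeCompl y
    refine ⟨x, s, s.2, ?_⟩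
    have h1 : IsLocalization.mk' (Localization.AtPrime (q i)) x s *
        algebraMap A (Localization.AtPrime (q i)) s =
        algebraMap A (Localization.AtPrime (q i)) x := IsLocalization.mk'_spec _ _ _
    have h2 := congrArg (algebraMap (Localization.AtPrime (q i)) (L i).B) h1
    rw [map_mul] at h2
    have hy' : algebraMap (Localization.AtPrime (q i)) (L i).B
        (IsLocalization.mk' (Localization.AtPrime (q i)) x s) =
        algebraMap (Localization.AtPrime (q i)) (L i).B
          (algebraMap A (Localization.AtPrime (q i)) t ^ n) * b := by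
      rw [← Algebra.smul_def]; exact hy
    rw [hy', map_pow] at h2
    show algebraMap (Localization.AtPrime (q i)) (L i).B (algebraMap A (Localization.AtPrime (q i)) s) *
      (algebraMap (Localization.AtPrime (q i)) (L i).B (algebraMap A (Localization.AtPrime (q i)) t) ^ n * b) =
      algebraMap (Localization.AtPrime (q i)) (L i).B (algebraMap A (Localization.AtPrime (q i)) x)
    rw [← h2]
    ring
  have h_tB : ∀ i, algebraMap A (L i).B t ∈ nonZeroDivisors (L i).B := fun i =>
    (L i).algebraMap_mem_nonZeroDivisors (Ft i)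
  exact ⟨n, ⟨ht, hqm, htq, hV, h_nle, h_unit, h_ker, h_cok, h_tB⟩⟩

end Assembly

end Part2

section Part3

open IsLocalRing CycAlg

section GlueApply

variable {A : Type u} [CommRing A] [IsNoetherianRing A] [IsLocalRing A] {t : A} {ι : Type}
  (B : ι → Type u) [∀ i, CommRing (B i)] [∀ i, Algebra A (B i)]
  (q : ι → Ideal A) [hq : ∀ i, (q i).IsPrime] {n : ℕ}

theorem C_nzd {x : A} (hx : x ∈ nonZeroDivisors A) :
    algebraMap A (Glue.C t B n) x ∈ nonZeroDivisors (Glue.C t B n) := by
  have hxT : algebraMap A (Glue.T t) x ∈ nonZeroDivisors (Glue.T t) :=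
    IsLocalization.map_nonZeroDivisors_le (Submonoid.powers t) (Glue.T t)
      (Submonoid.mem_map_of_mem _ hx)
  rw [mem_nonZeroDivisors_iff_right]
  intro c hc
  apply Subtype.ext
  have h : (c : Glue.T t) * algebraMap A (Glue.T t) x = 0 := by
    have := congrArg Subtype.val hc
    simpa using this
  exact (mem_nonZeroDivisors_iff_right.mp hxT) _ h

set_option maxHeartbeats 1000000 in
/-- the key lemma, given gluing data with local parameters at all the maximal ideals of the `B i`. -/
theorem Dsum_eq_zero_of_glue [Finite ι] (hA : ringKrullDim A = 2) {a b : A} (hab : a * b = t)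
    (ha : a ∈ nonZeroDivisors A) (hb : b ∈ nonZeroDivisors A) (H : Glue.Hyp t B q n)
    (hmax : ∀ i (Q : Ideal (B i)) [Q.IsPrime], Q.comap (algebraMap A (B i)) = q i → Q.IsMaximal)
    (hfac : ∀ i (Q : Ideal (B i)) [Q.IsPrime], Q.IsMaximal →
      ∃ π : Localization.AtPrime Q, π ∈ nonZeroDivisors (Localization.AtPrime Q) ∧
        (∃ (u : (Localization.AtPrime Q)ˣ) (e : ℕ),
          algebraMap A (Localization.AtPrime Q) a = u * π ^ e) ∧
        (∃ (v : (Localization.AtPrime Q)ˣ) (f : ℕ),
          algebraMap A (Localization.AtPrime Q) b = v * π ^ f)) :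
    Dsum a b = 0 := by
  haveI : IsLocalRing (Glue.C t B n) := Glue.isLocalRing_C t B H.ht n
  haveI : Module.Finite A (Glue.C t B n) := Glue.finite_C t B n
  haveI : IsNoetherianRing (Glue.C t B n) := IsNoetherianRing.of_finite A (Glue.C t B n)
  haveI : Algebra.IsIntegral A (Glue.C t B n) := Algebra.IsIntegral.of_finite A (Glue.C t B n)
  have hinj := Glue.algebraMap_C_injective t B H.ht n
  have hC : ringKrullDim (Glue.C t B n) = 2 := by
    rw [Groth.Agent.Lib.Helper5.ringKrullDim_eq_of_isIntegral_of_injective A (Glue.C t B n) hinj, hA]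
  have ha' : algebraMap A (Glue.C t B n) a ∈ nonZeroDivisors (Glue.C t B n) := C_nzd B ha
  have hb' : algebraMap A (Glue.C t B n) b ∈ nonZeroDivisors (Glue.C t B n) := C_nzd B hb
  have htC : algebraMap A (Glue.C t B n) t ∈ nonZeroDivisors (Glue.C t B n) := C_nzd B H.ht
  rw [Dsum_eq_mul hA (Glue.C t B n) hC hinj H.ht htC n (Glue.pow_smul_mem_range t B n) hab ha hb
    ha' hb']
  have hLP : ∀ (r : Ideal (Glue.C t B n)) [r.IsPrime],
      r ∈ I1 (algebraMap A (Glue.C t B n) a) → r ∈ I1 (algebraMap A (Glue.C t B n) b) →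
      LP r (algebraMap A (Glue.C t B n) a) (algebraMap A (Glue.C t B n) b) := by
    intro r _ hra hrb
    have hta : t ∈ r.comap (algebraMap A (Glue.C t B n)) := by
      have h0 : algebraMap A (Glue.C t B n) t =
          algebraMap A (Glue.C t B n) a * algebraMap A (Glue.C t B n) b := by
        rw [← map_mul, hab]
      rw [Ideal.mem_comap, h0]
      exact Ideal.mul_mem_right _ _ hra.2.2
    have hne : r.comap (algebraMap A (Glue.C t B n)) ≠ maximalIdeal A := by
      intro hmx
      apply hra.2.1
      haveI : (r.comap (algebraMap A (Glue.C t B n))).IsMaximal := by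
        rw [hmx]; exact maximalIdeal.isMaximal A
      exact eq_maximalIdeal (Ideal.isMaximal_of_isIntegral_of_isMaximal_comap (R := A) r
        inferInstance)
    obtain ⟨i, hi⟩ : ∃ i, r.comap (algebraMap A (Glue.C t B n)) = q i := by
      rcases H.hV _ inferInstance hta with h | h
      · exact absurd h hne
      · exact h
    letI algCB : Algebra (Glue.C t B n) (B i) := (H.χ i).toRingHom.toAlgebra
    haveI tw : IsScalarTower A (Glue.C t B n) (B i) :=
      IsScalarTower.of_algebraMap_eq (fun x => ((H.χ i).commutes x).symm)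
    haveI hloc : IsLocalization (Algebra.algebraMapSubmonoid (Glue.C t B n) (q i).primeCompl)
        (B i) :=
      Glue.isLocalization_of_props (q i) (H.hunit i) (H.χ_surj i) (H.χ_eq_zero i)
    have hdisj : Disjoint
        (Algebra.algebraMapSubmonoid (Glue.C t B n) (q i).primeCompl : Set (Glue.C t B n))
        (r : Set (Glue.C t B n)) := by
      rw [Set.disjoint_left]
      rintro _ ⟨s, hs, rfl⟩ hmem
      apply hs
      have : s ∈ r.comap (algebraMap A (Glue.C t B n)) := hmem
      rwa [hi] at this
    haveI hprime : (r.map (algebraMap (Glue.C t B n) (B i))).IsPrime :=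
      IsLocalization.isPrime_of_isPrime_disjoint _ _ _ inferInstance hdisj
    have hcomap : (r.map (algebraMap (Glue.C t B n) (B i))).comap
        (algebraMap (Glue.C t B n) (B i)) = r :=
      IsLocalization.comap_map_of_isPrime_disjoint _ _ inferInstance hdisj
    have hQA : (r.map (algebraMap (Glue.C t B n) (B i))).comap (algebraMap A (B i)) = q i := by
      rw [IsScalarTower.algebraMap_eq A (Glue.C t B n) (B i), ← Ideal.comap_comap, hcomap, hi]
    have hQmax := hmax i _ hQA
    obtain ⟨π, hπ, ⟨u, e, hu⟩, ⟨v, f, hv⟩⟩ := hfac i _ hQmax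
    haveI tw2 : IsScalarTower A (Glue.C t B n)
        (Localization.AtPrime (r.map (algebraMap (Glue.C t B n) (B i)))) :=
      IsScalarTower.of_algebraMap_eq (fun x => by
        rw [IsScalarTower.algebraMap_apply A (B i)
            (Localization.AtPrime (r.map (algebraMap (Glue.C t B n) (B i)))),
          IsScalarTower.algebraMap_apply A (Glue.C t B n) (B i),
          ← IsScalarTower.algebraMap_apply (Glue.C t B n) (B i)
            (Localization.AtPrime (r.map (algebraMap (Glue.C t B n) (B i))))])
    refine LP_of_isLocalization (Algebra.algebraMapSubmonoid (Glue.C t B n) (q i).primeCompl)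
      (B i) _ r hcomap π hπ _ _ u v e f ?_ ?_
    · rw [← IsScalarTower.algebraMap_apply A (Glue.C t B n)]
      exact hu
    · rw [← IsScalarTower.algebraMap_apply A (Glue.C t B n)]
      exact hv
  rw [stepC hC ha' hb' hLP, mul_zero]

end GlueApply

end Part3

section Part4

open IsLocalRing CycAlg

section Final

variable {A : Type u} [CommRing A] [IsNoetherianRing A] [IsLocalRing A]

set_option maxHeartbeats 1000000 in
/-- the key lemma for enumerated primes and chosen local data -/
theorem key_lemma_aux (hA : ringKrullDim A = 2) {a b : A} (ha : a ∈ nonZeroDivisors A)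
    (hb : b ∈ nonZeroDivisors A)
    (r : ℕ) (q : Fin r → Ideal A) [hq : ∀ i, (q i).IsPrime] (hqinj : Function.Injective q)
    (hqI : ∀ p : Ideal A, p ∈ I1 (a * b) ↔ ∃ i, p = q i)
    (L : ∀ i, TameLaws.LocData (Localization.AtPrime (q i)))
    (Fa : ∀ i, (L i).Fac (algebraMap A (Localization.AtPrime (q i)) a))
    (Fb : ∀ i, (L i).Fac (algebraMap A (Localization.AtPrime (q i)) b)) : Dsum a b = 0 := by
  classical
  have ht : a * b ∈ nonZeroDivisors A := mul_mem ha hb
  have Ft : ∀ i, (L i).Fac (algebraMap A (Localization.AtPrime (q i)) (a * b)) := fun i => by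
    rw [map_mul]
    exact (Fa i).mul (Fb i)
  letI algB : ∀ i, Algebra A (L i).B := fun i =>
    ((algebraMap (Localization.AtPrime (q i)) (L i).B).comp
      (algebraMap A (Localization.AtPrime (q i)))).toAlgebra
  haveI tower : ∀ i, IsScalarTower A (Localization.AtPrime (q i)) (L i).B := fun i =>
    IsScalarTower.of_algebraMap_eq (fun x => rfl)
  obtain ⟨n, H⟩ := hyp_of_locData hA ht r q hqinj hqI L Ft
  have tw2 : ∀ i (Q : Ideal (L i).B) [Q.IsPrime],
      IsScalarTower A (Localization.AtPrime (q i)) (Localization.AtPrime Q) := fun i Q _ =>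
    IsScalarTower.of_algebraMap_eq (fun x => by
      rw [IsScalarTower.algebraMap_apply A (L i).B (Localization.AtPrime Q),
        IsScalarTower.algebraMap_apply A (Localization.AtPrime (q i)) (L i).B,
        ← IsScalarTower.algebraMap_apply (Localization.AtPrime (q i)) (L i).B
          (Localization.AtPrime Q)])
  refine Dsum_eq_zero_of_glue (fun i => (L i).B) q hA rfl ha hb H ?_ ?_
  · intro i Q _ hQ
    haveI : Algebra.IsIntegral (Localization.AtPrime (q i)) (L i).B :=
      Algebra.IsIntegral.of_finite _ _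
    have h1 : (Q.comap (algebraMap (Localization.AtPrime (q i)) (L i).B)).comap
        (algebraMap A (Localization.AtPrime (q i))) = q i := by
      rw [Ideal.comap_comap, ← IsScalarTower.algebraMap_eq]
      exact hQ
    have h2 : Q.comap (algebraMap (Localization.AtPrime (q i)) (L i).B) =
        maximalIdeal (Localization.AtPrime (q i)) := by
      rw [← IsLocalization.map_comap (q i).primeCompl (Localization.AtPrime (q i))
        (Q.comap (algebraMap (Localization.AtPrime (q i)) (L i).B)), Ideal.under_def, h1]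
      exact Localization.AtPrime.map_eq_maximalIdeal
    apply Ideal.isMaximal_of_isIntegral_of_isMaximal_comap (R := Localization.AtPrime (q i))
    rw [h2]
    exact maximalIdeal.isMaximal _
  · intro i Q _ hQ
    haveI := tw2 i Q
    refine ⟨(L i).π ⟨Q, hQ⟩, (L i).π_mem ⟨Q, hQ⟩, ⟨(Fa i).u ⟨Q, hQ⟩, (Fa i).e ⟨Q, hQ⟩, ?_⟩,
      ⟨(Fb i).u ⟨Q, hQ⟩, (Fb i).e ⟨Q, hQ⟩, ?_⟩⟩
    · rw [IsScalarTower.algebraMap_apply A (Localization.AtPrime (q i)) (Localization.AtPrime Q)]
      exact (Fa i).fac ⟨Q, hQ⟩
    · rw [IsScalarTower.algebraMap_apply A (Localization.AtPrime (q i)) (Localization.AtPrime Q)]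
      exact (Fb i).fac ⟨Q, hQ⟩

/-- **The key lemma** (S1851). -/
theorem key_lemma (hA : ringKrullDim A = 2) {a b : A} (ha : a ∈ nonZeroDivisors A)
    (hb : b ∈ nonZeroDivisors A) : Dsum a b = 0 := by
  classical
  have ht : a * b ∈ nonZeroDivisors A := mul_mem ha hb
  have hfin := I1_finite hA ht
  haveI : Finite ↥(I1 (a * b)) := hfin.to_subtype
  let e := Finite.equivFin ↥(I1 (a * b))
  let q : Fin (Nat.card ↥(I1 (a * b))) → Ideal A := fun i => (e.symm i).1
  haveI hq : ∀ i, (q i).IsPrime := fun i => (e.symm i).2.1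
  have hqinj : Function.Injective q := fun i j h => e.symm.injective (Subtype.ext h)
  have hqI : ∀ p : Ideal A, p ∈ I1 (a * b) ↔ ∃ i, p = q i := by
    intro p
    constructor
    · intro hp
      refine ⟨e ⟨p, hp⟩, ?_⟩
      show p = (e.symm (e ⟨p, hp⟩)).1
      rw [e.symm_apply_apply]
    · rintro ⟨i, rfl⟩
      exact (e.symm i).2
  have hgood : ∀ i, IsGood (q i) := fun i => isGood_of_mem_I1 ht (e.symm i).2
  have hdim : ∀ i, ringKrullDim (Localization.AtPrime (q i)) = 1 := fun i =>
    (hgood i).ringKrullDim_loc hA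
  have hex : ∀ i, ∃ L : TameLaws.LocData (Localization.AtPrime (q i)),
      Nonempty (L.Fac (algebraMap A (Localization.AtPrime (q i)) a)) ∧
      Nonempty (L.Fac (algebraMap A (Localization.AtPrime (q i)) b)) := by
    intro i
    obtain ⟨L, hL⟩ := TameLaws.exists_locData (hdim i) 2
      ![algebraMap A (Localization.AtPrime (q i)) a, algebraMap A (Localization.AtPrime (q i)) b]
      (by
        intro j
        fin_cases j
        · exact map_mem_nonZeroDivisors (q i) ha
        · exact map_mem_nonZeroDivisors (q i) hb)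
    exact ⟨L, hL 0, hL 1⟩
  choose L hL using hex
  exact key_lemma_aux hA ha hb _ q hqinj hqI L (fun i => (hL i).1.some) (fun i => (hL i).2.some)

end Final

end Part4

end Groth.Agent.Lib.R2H1.KeyLemma
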