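/-
R2H1C1Comm (helper1, round 2): commutativity of first Chern classes on an integral scheme (S1920, Cyc.c1Cap_divSec_comm_of_integral):
c_1(N) cap div_L(s) ~rat c_1(L) cap div_N(t).  Contents: algebra of the tame symbol over a one-dimensional Noetherian local
domain (`ordZ`, `D`, `D_mul_left/right`, `D_unit_left/right`, `D_change`), transport of the tame symbol along ring
isomorphisms (`tameSymbol_ringEquiv`, `tame_transport`), the key lemma S1851 at a codimension two point of an integral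
scheme (`Dfun`, `key_geometric`), local generators of invertible modules with coordinates of rational sections
(`Gen`, `Gen.fib`, `Gen.cc`, `Gen.fib_change`, `Gen.secOrdAt_eq`, `exists_gen`), the fraction tame symbol (`Tsym`,
`o_Tsym`), `per_point`, unit multiples of generators (`IsU`, `bad_locallyFinite`), the rational functions realizing the
equivalence (`Ffun`, `ordAt_Ffun`, `terms_of_isU`), `finsum_combine`, `pointwise`, and `main` (S1920).
-/
import Mathlib
import Groth.Prelude.Def_Cyc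
import Groth.Prelude.Def_C1
import Groth.Prelude.Def_Tame
import Groth.Agent.S1850
import Groth.Agent.S1851
import Groth.Agent.S6459
import Groth.Agent.Lib.Helper4DimFormulaX
import Groth.Agent.Lib.Helper20AbsCurve
import Groth.Agent.Lib.Helper20InvGen
import Groth.Agent.Lib.R2H1SecDiv
import Groth.Agent.Lib.R2H1LocQuot
import Groth.Agent.Lib.R2H1FlatDivSum
import Groth.Agent.Lib.R2H1RatEquivOpen
import Groth.Agent.Lib.R2H1TameLaws

set_option autoImplicit false
set_option linter.style.haveILetI false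
set_option linter.unusedSectionVars false
universe u v

namespace Groth.Agent.Lib.R2H1.C1Comm

section Part1

open IsLocalRing CycAlg Groth.Agent.Lib.R2H1.TameLaws

variable {R : Type u} [CommRing R] [IsDomain R] [IsNoetherianRing R] [IsLocalRing R]
  (hR : ringKrullDim R = 1) (o : ResidueField R → ℤ)
  (ho : ∀ x y : ResidueField R, x ≠ 0 → y ≠ 0 → o (x * y) = o x + o y)

/-- the integer-valued order of an element. -/
noncomputable def ordZ (p : R) : ℤ := ((Module.length R (R ⧸ Ideal.span {p})).toNat : ℤ)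

/-- `o` of the tame symbol. -/
noncomputable def D (p q : R) : ℤ := o (tameSymbol R p q)

include ho in
theorem o_one : o 1 = 0 := by
  have := ho 1 1 one_ne_zero one_ne_zero
  rw [mul_one] at this
  omega

include ho in
theorem o_pow {x : ResidueField R} (hx : x ≠ 0) (n : ℕ) : o (x ^ n) = n * o x := by
  induction n with
  | zero => simp [o_one o ho]
  | succ n ih =>
    rw [pow_succ, ho _ _ (pow_ne_zero n hx) hx, ih]
    push_cast
    ring

include ho in
theorem o_inv {x : ResidueField R} (hx : x ≠ 0) : o x⁻¹ = - o x := by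
  have := ho x x⁻¹ hx (inv_ne_zero hx)
  rw [mul_inv_cancel₀ hx, o_one o ho] at this
  omega

include ho in
theorem o_zpow {x : ResidueField R} (hx : x ≠ 0) (n : ℤ) : o (x ^ n) = n * o x := by
  obtain ⟨m, rfl | rfl⟩ := n.eq_nat_or_neg
  · rw [zpow_natCast, o_pow o ho hx]
  · rw [zpow_neg, zpow_natCast, o_inv o ho (pow_ne_zero m hx), o_pow o ho hx]
    push_cast
    ring

theorem mem_nzd {p : R} (hp : p ≠ 0) : p ∈ nonZeroDivisors R := mem_nonZeroDivisors_of_ne_zero hp

include hR ho in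
theorem D_mul_left {p p' q : R} (hp : p ≠ 0) (hp' : p' ≠ 0) (hq : q ≠ 0) :
    D o (p * p') q = D o p q + D o p' q := by
  obtain ⟨L1, L2, -, -, -⟩ := tameSymbol_laws (A := R) hR
  unfold D
  rw [(L2 p p' q (mem_nzd hp) (mem_nzd hp') (mem_nzd hq)).1,
    ho _ _ (L1 p q (mem_nzd hp) (mem_nzd hq)) (L1 p' q (mem_nzd hp') (mem_nzd hq))]

include hR ho in
theorem D_mul_right {p q q' : R} (hp : p ≠ 0) (hq : q ≠ 0) (hq' : q' ≠ 0) :
    D o p (q * q') = D o p q + D o p q' := by
  obtain ⟨L1, L2, -, -, -⟩ := tameSymbol_laws (A := R) hR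
  unfold D
  rw [(L2 q q' p (mem_nzd hq) (mem_nzd hq') (mem_nzd hp)).2,
    ho _ _ (L1 p q (mem_nzd hp) (mem_nzd hq)) (L1 p q' (mem_nzd hp) (mem_nzd hq'))]

theorem residue_unit_ne_zero (c : Rˣ) : residue R (c : R) ≠ 0 := by
  intro h0
  have := (residue_eq_zero_iff _).mp h0
  exact (mem_maximalIdeal _).mp this c.isUnit

include hR ho in
theorem D_unit_left (c : Rˣ) {q : R} (hq : q ≠ 0) :
    D o (c : R) q = ordZ q * o (residue R (c : R)) := by
  obtain ⟨-, -, -, L4, -⟩ := tameSymbol_laws (A := R) hR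
  unfold D ordZ
  rw [L4 c q (mem_nzd hq), o_pow o ho (residue_unit_ne_zero c)]

theorem ordZ_unit (c : Rˣ) : ordZ (c : R) = 0 := by
  unfold ordZ
  have : Ideal.span {(c : R)} = ⊤ := Ideal.span_singleton_eq_top.mpr c.isUnit
  rw [this]
  have : Subsingleton (R ⧸ (⊤ : Ideal R)) := Ideal.Quotient.subsingleton_iff.mpr rfl
  rw [Module.length_eq_zero]
  rfl

theorem ordZ_mul_unit (p : R) (c : Rˣ) : ordZ (p * c) = ordZ p := by
  unfold ordZ
  rw [Ideal.span_singleton_mul_right_unit c.isUnit]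

include hR ho in
theorem D_unit_right {p : R} (hp : p ≠ 0) (c : Rˣ) :
    D o p (c : R) = - (ordZ p * o (residue R (c : R))) := by
  obtain ⟨L1, L2, L3, L4, -⟩ := tameSymbol_laws (A := R) hR
  have hc : (c : R) ≠ 0 := c.ne_zero
  have hpc : p * c ≠ 0 := mul_ne_zero hp hc
  -- expand `∂(pc, pc)`
  have e1 := L3 (p * c) (mem_nzd hpc)
  have e2 := (L2 p c (p * c) (mem_nzd hp) (mem_nzd hc) (mem_nzd hpc)).1
  have e3 := (L2 p c p (mem_nzd hp) (mem_nzd hc) (mem_nzd hp)).2
  have e4 := (L2 p c c (mem_nzd hp) (mem_nzd hc) (mem_nzd hc)).2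
  have e5 := L3 p (mem_nzd hp)
  have e6 := L4 c c (mem_nzd hc)
  have hlen : (Module.length R (R ⧸ Ideal.span {p * (c : R)})).toNat =
      (Module.length R (R ⧸ Ideal.span {p})).toNat := by
    rw [Ideal.span_singleton_mul_right_unit c.isUnit]
  have hlenc : (Module.length R (R ⧸ Ideal.span {(c : R)})).toNat = 0 := by
    have := ordZ_unit c
    unfold ordZ at this
    exact_mod_cast this
  rw [hlenc, pow_zero] at e6
  rw [e2, e3, e4, e5, e6, hlen, mul_one] at e1
  -- `(-1)^n * ∂(p,c) * ∂(c,p) = (-1)^n`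
  have hne : ((-1 : ResidueField R) ^ (Module.length R (R ⧸ Ideal.span {p})).toNat) ≠ 0 :=
    pow_ne_zero _ (by simp)
  have e7 : tameSymbol R p (c : R) * tameSymbol R (c : R) p = 1 := by
    have : ((-1 : ResidueField R) ^ (Module.length R (R ⧸ Ideal.span {p})).toNat) *
        (tameSymbol R p (c : R) * tameSymbol R (c : R) p) =
        ((-1 : ResidueField R) ^ (Module.length R (R ⧸ Ideal.span {p})).toNat) * 1 := by
      rw [mul_one, ← mul_assoc]
      exact e1
    exact mul_left_cancel₀ hne this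
  have e8 := ho _ _ (L1 p c (mem_nzd hp) (mem_nzd hc)) (L1 c p (mem_nzd hc) (mem_nzd hp))
  rw [e7, o_one o ho] at e8
  have e9 := D_unit_left hR o ho c hp
  unfold D at e9 ⊢
  omega

include hR ho in
/-- change of representatives and of generators in the fraction tame symbol. -/
theorem D_change {a b c d a₀ b₀ c₀ d₀ : R} (a' b' : Rˣ) (ha : a ≠ 0) (hb : b ≠ 0) (hc : c ≠ 0)
    (hd : d ≠ 0) (ha₀ : a₀ ≠ 0) (hb₀ : b₀ ≠ 0) (hc₀ : c₀ ≠ 0) (hd₀ : d₀ ≠ 0)
    (h1 : a₀ * b = a * a' * b₀) (h2 : c₀ * d = c * b' * d₀) :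
    D o a₀ c₀ - D o a₀ d₀ - D o b₀ c₀ + D o b₀ d₀ =
      (D o a c - D o a d - D o b c + D o b d) - (ordZ a - ordZ b) * o (residue R (b' : R)) +
        (ordZ c - ordZ d) * o (residue R (a' : R)) := by
  have ha' : (a' : R) ≠ 0 := a'.ne_zero
  have hb' : (b' : R) ≠ 0 := b'.ne_zero
  -- step 1: first variable
  have s1 : ∀ q : R, q ≠ 0 → D o a₀ q - D o b₀ q = D o a q - D o b q + D o (a' : R) q := by
    intro q hq
    have e1 := D_mul_left hR o ho ha₀ hb hq
    have e2 := D_mul_left hR o ho (mul_ne_zero ha ha') hb₀ hq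
    have e3 := D_mul_left hR o ho ha ha' hq
    rw [h1, e2, e3] at e1
    omega
  -- step 2: second variable
  have s2 : ∀ p : R, p ≠ 0 → D o p c₀ - D o p d₀ = D o p c - D o p d + D o p (b' : R) := by
    intro p hp
    have e1 := D_mul_right hR o ho hp hc₀ hd
    have e2 := D_mul_right hR o ho hp (mul_ne_zero hc hb') hd₀
    have e3 := D_mul_right hR o ho hp hc hb'
    rw [h2, e2, e3] at e1
    omega
  have t1 := s1 c₀ hc₀
  have t2 := s1 d₀ hd₀
  have t3 := s2 a ha
  have t4 := s2 b hb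
  have t5 := s2 (a' : R) ha'
  have u1 := D_unit_right hR o ho ha b'
  have u2 := D_unit_right hR o ho hb b'
  have u3 := D_unit_left hR o ho a' hc
  have u4 := D_unit_left hR o ho a' hd
  have u5 := D_unit_left hR o ho a' hb'
  rw [ordZ_unit b', zero_mul] at u5
  linarith

end Part1

section Part2

open AlgebraicGeometry CategoryTheory TopologicalSpace IsLocalRing CycAlg
  Groth.Agent.Lib.R2H1.LocQuot Groth.Agent.Lib.R2H1.RatEquivOpen

section Alg

variable {A T : Type u} [CommRing A] [CommRing T] [IsLocalRing A] [IsLocalRing T]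
  [IsNoetherianRing A] [IsNoetherianRing T]

/-- the tame symbol is compatible with ring isomorphisms. -/
theorem tameSymbol_ringEquiv (e : A ≃+* T) (hA : ringKrullDim A = 1) (a b : A)
    (ha : a ∈ nonZeroDivisors A) (hb : b ∈ nonZeroDivisors A) :
    ResidueField.mapEquiv e (tameSymbol A a b) = tameSymbol T (e a) (e b) := by
  letI : Algebra A T := e.toRingHom.toAlgebra
  have halg : ∀ r, algebraMap A T r = e r := fun r => rfl
  haveI : IsLocalHom (algebraMap A T) := by
    constructor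
    intro r hr
    rw [halg] at hr
    have := hr.map e.symm
    rwa [RingEquiv.symm_apply_apply] at this
  haveI : Module.Flat A T := by
    let l : A ≃ₗ[A] T :=
      { e.toAddEquiv with
        map_smul' := fun r y => by
          change e (r * y) = algebraMap A T r * e y
          rw [map_mul]; rfl }
    exact Module.Flat.of_linearEquiv l.symm
  have hT : ringKrullDim T = 1 := by
    rw [← ringKrullDim_eq_of_ringEquiv e]; exact hA
  have key := Groth.Agent.S1850.result A T hA hT a b ha hb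
  have hmax : Ideal.map (algebraMap A T) (maximalIdeal A) = maximalIdeal T := by
    apply le_antisymm
    · rw [Ideal.map_le_iff_le_comap]
      intro r hr
      rw [Ideal.mem_comap, mem_maximalIdeal, mem_nonunits_iff]
      intro hu
      exact (mem_maximalIdeal _).mp hr (isUnit_of_map_unit (algebraMap A T) r hu)
    · intro t ht
      have h1 : e.symm t ∈ maximalIdeal A := by
        rw [mem_maximalIdeal, mem_nonunits_iff]
        intro hu
        have := hu.map e
        rw [RingEquiv.apply_symm_apply] at this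
        exact (mem_maximalIdeal _).mp ht this
      have h2 := Ideal.mem_map_of_mem (algebraMap A T) h1
      rwa [halg, RingEquiv.apply_symm_apply] at h2
  have hlen : (Module.length T (T ⧸ Ideal.map (algebraMap A T) (maximalIdeal A))).toNat = 1 := by
    rw [hmax]
    have : Module.length T (T ⧸ maximalIdeal T) = 1 := by
      rw [Module.length_eq_one_iff]
      exact (isSimpleModule_iff_quot_maximal.mpr ⟨maximalIdeal T, inferInstance, ⟨LinearEquiv.refl _ _⟩⟩)
    rw [this]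
    rfl
  rw [hlen, pow_one] at key
  exact key

end Alg

end Part2

section Part3

open AlgebraicGeometry CategoryTheory TopologicalSpace IsLocalRing CycAlg
  Groth.Agent.Lib.R2H1.LocQuot Groth.Agent.Lib.R2H1.RatEquivOpen

variable {X : Scheme.{u}}

/-- transport of the local terms of the key lemma from `(A_q, κ(q), A/q)` to
`(O_{X,ξ}, κ(ξ), O_{X,x}/𝔭_ξ)`. -/
theorem tame_transport [IsLocallyNoetherian X] (x ξ : X) (h : ξ ⤳ x)
    (q : Ideal (X.presheaf.stalk x)) [q.IsPrime]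
    (hq : RingHom.ker (Cyc.specMap x ξ h) = q)
    (hdim : ringKrullDim (Localization.AtPrime q) = 1) (a b : X.presheaf.stalk x)
    (ha : algebraMap (X.presheaf.stalk x) (Localization.AtPrime q) a ∈
      nonZeroDivisors (Localization.AtPrime q))
    (hb : algebraMap (X.presheaf.stalk x) (Localization.AtPrime q) b ∈
      nonZeroDivisors (Localization.AtPrime q)) :
    CycAlg.ordFrac (X.presheaf.stalk x ⧸ q) q.ResidueField
      (CycAlg.tameSymbol (Localization.AtPrime q)
        (algebraMap (X.presheaf.stalk x) (Localization.AtPrime q) a)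
        (algebraMap (X.presheaf.stalk x) (Localization.AtPrime q) b)) =
    Cyc.ordAt x ξ h (CycAlg.tameSymbol (X.presheaf.stalk ξ)
      (X.presheaf.stalkSpecializes h a) (X.presheaf.stalkSpecializes h b)) := by
  subst hq
  letI := (X.presheaf.stalkSpecializes h).hom.toAlgebra
  haveI := isLocalization_stalkSpecializes x ξ h
  set q := RingHom.ker (Cyc.specMap x ξ h) with hqdef
  let e : Localization.AtPrime q ≃ₐ[X.presheaf.stalk x] X.presheaf.stalk ξ :=
    IsLocalization.algEquiv q.primeCompl (Localization.AtPrime q) (X.presheaf.stalk ξ)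
  have hsym := tameSymbol_ringEquiv e.toRingEquiv hdim _ _ ha hb
  have hea : ∀ r : X.presheaf.stalk x,
      e.toRingEquiv (algebraMap (X.presheaf.stalk x) (Localization.AtPrime q) r) =
        X.presheaf.stalkSpecializes h r := fun r => e.commutes r
  rw [hea, hea] at hsym
  unfold Cyc.ordAt
  rw [← hsym]
  let eK : q.ResidueField ≃+* X.residueField ξ := ResidueField.mapEquiv e.toRingEquiv
  let e₀ : (X.presheaf.stalk x ⧸ q) ≃+* Cyc.LocQuot x ξ h := RingEquiv.refl _
  refine ordFrac_congr (R := X.presheaf.stalk x ⧸ q) (R' := Cyc.LocQuot x ξ h)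
    (K := q.ResidueField) (K' := X.residueField ξ) e₀ eK ?_ _
  intro r
  obtain ⟨r, rfl⟩ := Ideal.Quotient.mk_surjective r
  change eK _ = algebraMap (Cyc.LocQuot x ξ h) (X.residueField ξ) (Ideal.Quotient.mk _ r)
  rw [algebraMap_locQuot_mk, Ideal.algebraMap_quotient_residueField_mk,
    IsScalarTower.algebraMap_apply (X.presheaf.stalk x) (Localization.AtPrime q) q.ResidueField]
  change ResidueField.map (e.toRingEquiv : Localization.AtPrime q →+* X.presheaf.stalk ξ)
    (residue _ (algebraMap (X.presheaf.stalk x) (Localization.AtPrime q) r)) = _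
  rw [ResidueField.map_residue]
  change residue _ (e.toRingEquiv (algebraMap (X.presheaf.stalk x) (Localization.AtPrime q) r)) = _
  rw [hea]
  rfl

end Part3

section Part4

open AlgebraicGeometry CategoryTheory TopologicalSpace IsLocalRing CycAlg
  Groth.Agent.Lib.R2H1.LocQuot Groth.Agent.Lib.R2H1.RatEquivOpen Groth.Agent.Lib.Helper4.DimFormula Groth.Agent.Lib.R2H1.TameLaws
  Groth.Agent.Lib.R2H1.KeyLemma

variable {X : Scheme.{u}}

theorem isUnit_stalkSpecializes_iff (x ξ : X) (h : ξ ⤳ x) (a : X.presheaf.stalk x) :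
    IsUnit (X.presheaf.stalkSpecializes h a) ↔ Cyc.specMap x ξ h a ≠ 0 :=
  (IsLocalRing.residue_ne_zero_iff_isUnit _).symm

open Classical in
/-- the local term of the key lemma at the point `ξ`, as a function of `ξ`. -/
noncomputable def Dfun (δ : X → ℤ) (x : X) (a b : X.presheaf.stalk x) : X → ℤ := fun ξ =>
  if h : ξ ⤳ x ∧ δ x + 1 = δ ξ then
    Cyc.ordAt x ξ h.1 (CycAlg.tameSymbol (X.presheaf.stalk ξ)
      (X.presheaf.stalkSpecializes h.1 a) (X.presheaf.stalkSpecializes h.1 b))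
  else 0

theorem Dfun_pos (δ : X → ℤ) (x : X) (a b : X.presheaf.stalk x) (ξ : X)
    (h : ξ ⤳ x ∧ δ x + 1 = δ ξ) :
    Dfun δ x a b ξ = Cyc.ordAt x ξ h.1 (CycAlg.tameSymbol (X.presheaf.stalk ξ)
      (X.presheaf.stalkSpecializes h.1 a) (X.presheaf.stalkSpecializes h.1 b)) := by
  unfold Dfun
  exact dif_pos h

theorem Dfun_neg (δ : X → ℤ) (x : X) (a b : X.presheaf.stalk x) (ξ : X)
    (h : ¬ (ξ ⤳ x ∧ δ x + 1 = δ ξ)) : Dfun δ x a b ξ = 0 := by
  unfold Dfun
  exact dif_neg h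

/-- the tame symbol of two units is one. -/
theorem tameSymbol_units {R : Type u} [CommRing R] [IsNoetherianRing R] [IsLocalRing R]
    (hR : ringKrullDim R = 1) {a b : R} (ha : IsUnit a) (hb : IsUnit b) :
    CycAlg.tameSymbol R a b = 1 := by
  obtain ⟨-, -, -, L4, -⟩ := tameSymbol_laws (A := R) hR
  obtain ⟨c, rfl⟩ := ha
  rw [L4 c b hb.mem_nonZeroDivisors]
  have : Ideal.span {b} = ⊤ := Ideal.span_singleton_eq_top.mpr hb
  rw [this]
  have : Subsingleton (R ⧸ (⊤ : Ideal R)) := Ideal.Quotient.subsingleton_iff.mpr rfl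
  rw [Module.length_eq_zero]
  simp

theorem ordAt_one (x ξ : X) (h : ξ ⤳ x) : Cyc.ordAt x ξ h 1 = 0 := by
  have := ordAt_unit x ξ h 1 isUnit_one
  rwa [map_one, map_one] at this

/-- the key lemma (S1851) at a point of codimension two of an integral scheme. -/
theorem key_geometric [IsIntegral X] (δ : X → ℤ) (hX : Cyc.IsSetup X δ) (x : X)
    (hx : δ x + 2 = δ (genericPoint X)) (a b : X.presheaf.stalk x) (ha : a ≠ 0) (hb : b ≠ 0) :
    (Function.support (Dfun δ x a b)).Finite ∧ ∑ᶠ ξ, Dfun δ x a b ξ = 0 := by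
  classical
  haveI : IsLocallyNoetherian X := hX.1
  have hδ := hX.2.2
  have hA : ringKrullDim (X.presheaf.stalk x) = 2 := by
    obtain ⟨k, hk, hk'⟩ := isDimFun_genericPoint_eq_add_stalkDim X δ hδ x
    have : k = 2 := by omega
    rw [hk, this]
    rfl
  have ha' := mem_nonZeroDivisors_of_ne_zero ha
  have hb' := mem_nonZeroDivisors_of_ne_zero hb
  have hφspec : ∀ p : PrimeSpectrum (X.presheaf.stalk x), X.fromSpecStalk x p ⤳ x :=
    fun p => fromSpecStalk_specializes x p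
  have hkerφ : ∀ p : PrimeSpectrum (X.presheaf.stalk x),
      RingHom.ker (Cyc.specMap x (X.fromSpecStalk x p) (hφspec p)) = p.asIdeal := by
    intro p
    haveI := p.2
    exact ker_specMap_fromSpecStalk x p.asIdeal (hφspec p)
  -- height one ↔ codimension one
  have hht : ∀ p : PrimeSpectrum (X.presheaf.stalk x),
      p.asIdeal.height = 1 ↔ δ x + 1 = δ (X.fromSpecStalk x p) := by
    intro p
    haveI := p.2
    have h1 := height_eq_ringKrullDim_stalk_fromSpecStalk x p.asIdeal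
    have h2 := Groth.Agent.S6459.result X δ hX (X.fromSpecStalk x p)
    constructor
    · intro h
      have h3 : ringKrullDim (X.presheaf.stalk (X.fromSpecStalk x p)) = 1 := by
        have h4 : ringKrullDim (X.presheaf.stalk (X.fromSpecStalk x ⟨p.asIdeal, p.2⟩)) = 1 := by
          rw [← h1, h]; rfl
        exact h4
      have := h2.mp h3
      omega
    · intro h
      have h3 := h2.mpr (by omega)
      have h4 : ((p.asIdeal.height : ℕ∞) : WithBot ℕ∞) = 1 := by
        rw [h1]; exact h3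
      exact_mod_cast h4
  -- termwise comparison
  have hterm : ∀ p : PrimeSpectrum (X.presheaf.stalk x), Dfun δ x a b (X.fromSpecStalk x p) =
      ∑ᶠ (_ : p.asIdeal.height = 1), CycAlg.ordFrac (X.presheaf.stalk x ⧸ p.asIdeal)
        p.asIdeal.ResidueField (CycAlg.tameSymbol (Localization.AtPrime p.asIdeal)
          (algebraMap _ (Localization.AtPrime p.asIdeal) a)
          (algebraMap _ (Localization.AtPrime p.asIdeal) b)) := by
    intro p
    haveI := p.2
    rw [finsum_eq_if]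
    by_cases hp : p.asIdeal.height = 1
    · rw [if_pos hp, Dfun_pos δ x a b _ ⟨hφspec p, (hht p).mp hp⟩]
      have hdim : ringKrullDim (Localization.AtPrime p.asIdeal) = 1 := by
        rw [IsLocalization.AtPrime.ringKrullDim_eq_height p.asIdeal, hp]; rfl
      exact (tame_transport x _ (hφspec p) p.asIdeal (hkerφ p) hdim a b
        (map_mem_nonZeroDivisors p.asIdeal ha') (map_mem_nonZeroDivisors p.asIdeal hb')).symm
    · rw [if_neg hp, Dfun_neg]
      rintro ⟨-, h2⟩
      exact hp ((hht p).mpr h2)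
  let φ : PrimeSpectrum (X.presheaf.stalk x) → X := fun p => X.fromSpecStalk x p
  have hsupp : Function.support (Dfun δ x a b) ⊆ Set.range φ := by
    intro ξ hξ
    rw [Function.mem_support] at hξ
    by_cases hc : ξ ⤳ x ∧ δ x + 1 = δ ξ
    · obtain ⟨p, hp, hpξ⟩ := exists_prime_fromSpecStalk_eq hc.1
      exact ⟨⟨p, hp⟩, hpξ⟩
    · exact absurd (Dfun_neg δ x a b ξ hc) hξ
  have hinj : Function.Injective φ := (X.fromSpecStalk x).isEmbedding.injective
  constructor
  · -- finite support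
    have hfin := ((finite_height_one_mem hA ha').union (finite_height_one_mem hA hb')).image φ
    refine hfin.subset ?_
    intro ξ hξ
    obtain ⟨p, rfl⟩ := hsupp hξ
    rw [Function.mem_support] at hξ
    refine ⟨p, ?_, rfl⟩
    by_contra hcon
    rw [Set.mem_union, not_or] at hcon
    apply hξ
    by_cases hc : X.fromSpecStalk x p ⤳ x ∧ δ x + 1 = δ (X.fromSpecStalk x p)
    · have hp1 : p.asIdeal.height = 1 := (hht p).mpr hc.2
      have hap : a ∉ p.asIdeal := fun h1 => hcon.1 ⟨hp1, h1⟩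
      have hbp : b ∉ p.asIdeal := fun h1 => hcon.2 ⟨hp1, h1⟩
      rw [Dfun_pos δ x a b _ hc]
      have hR : ringKrullDim (X.presheaf.stalk (X.fromSpecStalk x p)) = 1 :=
        (Groth.Agent.S6459.result X δ hX _).mpr (by omega)
      have hua : IsUnit (X.presheaf.stalkSpecializes hc.1 a) := by
        rw [isUnit_stalkSpecializes_iff, Ne, ← RingHom.mem_ker, hkerφ p]
        exact hap
      have hub : IsUnit (X.presheaf.stalkSpecializes hc.1 b) := by
        rw [isUnit_stalkSpecializes_iff, Ne, ← RingHom.mem_ker, hkerφ p]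
        exact hbp
      rw [tameSymbol_units hR hua hub]
      exact ordAt_one x _ hc.1
    · exact Dfun_neg δ x a b _ hc
  · have key := Groth.Agent.S1851.result (X.presheaf.stalk x) hA a b ha' hb'
    have e1 : ∑ᶠ ξ, Dfun δ x a b ξ = ∑ᶠ ξ ∈ Set.range φ, Dfun δ x a b ξ := by
      rw [← finsum_mem_univ]
      exact (finsum_mem_inter_support_eq' (Dfun δ x a b) (Set.range φ) Set.univ
        (fun ξ hξ => by simp only [Set.mem_univ, iff_true]; exact hsupp hξ)).symm
    rw [e1, finsum_mem_range hinj, finsum_congr hterm]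
    exact key

end Part4

section Part5

open AlgebraicGeometry CategoryTheory TopologicalSpace IsLocalRing
  Groth.Agent.Lib.R2H1.LocQuot Groth.Agent.Lib.R2H1.RatEquivOpen Groth.Agent.Lib.Helper20.InvGen
  Groth.Agent.Lib.R2H1.SecDiv

variable {X : Scheme.{u}}

/-- a section of `L` over an open which freely generates all stalks over that open. -/
structure Gen (L : X.Modules) where
  /-- the open -/
  W : X.Opens
  /-- the section -/
  t : Γ(L, W)
  bij : ∀ (y : X) (hy : y ∈ W),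
    Function.Bijective (fun c : X.presheaf.stalk y => c • L.presheaf.germ W y hy t)

namespace Gen

variable {L : X.Modules}

/-- the germ of the generator. -/
noncomputable def g (G : Gen L) (y : X) (hy : y ∈ G.W) : L.presheaf.stalk y :=
  L.presheaf.germ G.W y hy G.t

theorem g_bij (G : Gen L) (y : X) (hy : y ∈ G.W) :
    Function.Bijective (fun c : X.presheaf.stalk y => c • G.g y hy) := G.bij y hy

theorem g_specializes (G : Gen L) {ξ y : X} (h : ξ ⤳ y) (hy : y ∈ G.W) :
    L.presheaf.stalkSpecializes h (G.g y hy) = G.g ξ (h.mem_open G.W.isOpen hy) :=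
  ConcreteCategory.congr_hom (TopCat.Presheaf.germ_stalkSpecializes L.presheaf hy h) G.t

theorem exists_rep (G : Gen L) (y : X) (hy : y ∈ G.W) (σ : Cyc.secFibre L y) :
    ∃ φ : X.presheaf.stalk y, σ = φ • (Submodule.Quotient.mk (G.g y hy) : Cyc.secFibre L y) := by
  obtain ⟨m, rfl⟩ := Submodule.Quotient.mk_surjective _ σ
  obtain ⟨c, hc⟩ := (G.g_bij y hy).2 m
  exact ⟨c, by rw [← Submodule.Quotient.mk_smul]; exact congrArg _ hc.symm⟩

/-- the coordinate of an element of the fibre `L(y)` with respect to the generator. -/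
noncomputable def fib (G : Gen L) (y : X) (hy : y ∈ G.W) (σ : Cyc.secFibre L y) :
    X.residueField y :=
  X.residue y (Classical.choose (G.exists_rep y hy σ))

theorem fib_smul (G : Gen L) (y : X) (hy : y ∈ G.W) (φ : X.presheaf.stalk y) :
    G.fib y hy (φ • (Submodule.Quotient.mk (G.g y hy) : Cyc.secFibre L y)) = X.residue y φ := by
  unfold fib
  have h := Classical.choose_spec
    (G.exists_rep y hy (φ • (Submodule.Quotient.mk (G.g y hy) : Cyc.secFibre L y)))
  set φ' := Classical.choose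
    (G.exists_rep y hy (φ • (Submodule.Quotient.mk (G.g y hy) : Cyc.secFibre L y)))
  have h0 : (φ' - φ) • (Submodule.Quotient.mk (G.g y hy) : Cyc.secFibre L y) = 0 := by
    rw [sub_smul, ← h, sub_self]
  have h1 := residue_eq_zero_of_smul_mk_eq_zero L y (G.g y hy) (G.g_bij y hy) _ h0
  rw [map_sub, sub_eq_zero] at h1
  exact h1

theorem fib_spec (G : Gen L) (y : X) (hy : y ∈ G.W) (σ : Cyc.secFibre L y)
    (φ : X.presheaf.stalk y) (h : X.residue y φ = G.fib y hy σ) :
    σ = φ • (Submodule.Quotient.mk (G.g y hy) : Cyc.secFibre L y) := by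
  obtain ⟨φ', hφ'⟩ := G.exists_rep y hy σ
  rw [hφ', fib_smul] at h
  rw [hφ']
  have h2 : φ' - φ ∈ maximalIdeal (X.presheaf.stalk y) := by
    rw [← IsLocalRing.residue_eq_zero_iff, map_sub, sub_eq_zero]
    exact h.symm
  have h3 : (φ' - φ) • (Submodule.Quotient.mk (G.g y hy) : Cyc.secFibre L y) = 0 := by
    rw [← Submodule.Quotient.mk_smul, Submodule.Quotient.mk_eq_zero]
    exact Submodule.smul_mem_smul h2 trivial
  rw [sub_smul, sub_eq_zero] at h3
  exact h3

theorem fib_ne_zero (G : Gen L) (y : X) (hy : y ∈ G.W) (σ : Cyc.secFibre L y) (hσ : σ ≠ 0) :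
    G.fib y hy σ ≠ 0 := by
  intro h0
  obtain ⟨φ, hφ⟩ := X.residue_surjective y (G.fib y hy σ)
  have h1 := G.fib_spec y hy σ φ hφ
  rw [h0] at hφ
  apply hσ
  rw [h1, ← Submodule.Quotient.mk_smul, Submodule.Quotient.mk_eq_zero]
  exact Submodule.smul_mem_smul ((IsLocalRing.residue_eq_zero_iff _).mp hφ) trivial

/-- `Cyc.secOrdAt` in terms of the coordinate. -/
theorem secOrdAt_eq [IsLocallyNoetherian X] {δ : X → ℤ} (hδ : Cyc.IsDimFun X δ) (G : Gen L)
    (ξ x : X) (h : ξ ⤳ x) (hd : δ x + 1 = δ ξ) (hx : x ∈ G.W) (σ : Cyc.secFibre L ξ) :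
    Cyc.secOrdAt L ξ x h σ = Cyc.ordAt x ξ h (G.fib ξ (h.mem_open G.W.isOpen hx) σ) := by
  obtain ⟨φ, hφ⟩ := G.exists_rep ξ (h.mem_open G.W.isOpen hx) σ
  rw [hφ, fib_smul]
  exact Groth.Agent.Lib.R2H1.LocQuot.secOrdAt_eq hδ L ξ x h hd G.W G.t hx G.bij φ

/-- change of generator: `cc • g = g'`. -/
noncomputable def cc (G G' : Gen L) (y : X) (hy : y ∈ G.W) (hy' : y ∈ G'.W) : X.presheaf.stalk y :=
  Classical.choose ((G.g_bij y hy).2 (G'.g y hy'))

theorem cc_spec (G G' : Gen L) (y : X) (hy : y ∈ G.W) (hy' : y ∈ G'.W) :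
    G.cc G' y hy hy' • G.g y hy = G'.g y hy' :=
  Classical.choose_spec ((G.g_bij y hy).2 (G'.g y hy'))

theorem cc_mul_cc (G G' : Gen L) (y : X) (hy : y ∈ G.W) (hy' : y ∈ G'.W) :
    G'.cc G y hy' hy * G.cc G' y hy hy' = 1 := by
  apply (G.g_bij y hy).1
  change (G'.cc G y hy' hy * G.cc G' y hy hy') • G.g y hy = (1 : X.presheaf.stalk y) • G.g y hy
  rw [mul_smul, cc_spec, cc_spec, one_smul]

theorem cc_isUnit (G G' : Gen L) (y : X) (hy : y ∈ G.W) (hy' : y ∈ G'.W) :
    IsUnit (G.cc G' y hy hy') :=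
  IsUnit.of_mul_eq_one_right _ (cc_mul_cc G G' y hy hy')

theorem fib_change (G G' : Gen L) (y : X) (hy : y ∈ G.W) (hy' : y ∈ G'.W)
    (σ : Cyc.secFibre L y) :
    G.fib y hy σ = G'.fib y hy' σ * X.residue y (G.cc G' y hy hy') := by
  obtain ⟨φ', hφ'⟩ := G'.exists_rep y hy' σ
  rw [hφ', fib_smul, ← cc_spec G G' y hy hy', Submodule.Quotient.mk_smul, ← mul_smul, fib_smul,
    map_mul]

theorem cc_specializes (G G' : Gen L) {ξ y : X} (h : ξ ⤳ y) (hy : y ∈ G.W) (hy' : y ∈ G'.W) :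
    G.cc G' ξ (h.mem_open G.W.isOpen hy) (h.mem_open G'.W.isOpen hy') =
      X.presheaf.stalkSpecializes h (G.cc G' y hy hy') := by
  apply (G.g_bij ξ (h.mem_open G.W.isOpen hy)).1
  change G.cc G' ξ _ _ • G.g ξ _ = X.presheaf.stalkSpecializes h (G.cc G' y hy hy') • G.g ξ _
  rw [cc_spec, ← g_specializes G h hy, ← stalkSpecializes_smul, cc_spec, g_specializes]

end Gen

theorem exists_gen (L : X.Modules) (hL : PicF.IsInvertible L) (z : X) :
    ∃ G : Gen L, z ∈ G.W := by
  obtain ⟨W, t, hzW, ht⟩ := exists_local_generator L hL z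
  exact ⟨⟨W, t, ht⟩, hzW⟩

end Part5

section Part6

open AlgebraicGeometry CategoryTheory TopologicalSpace IsLocalRing CycAlg
  Groth.Agent.Lib.R2H1.LocQuot Groth.Agent.Lib.R2H1.RatEquivOpen
  Groth.Agent.Lib.R2H1.FlatDivSum Groth.Agent.Lib.R2H1.TameLaws

variable {X : Scheme.{u}}

theorem specMap_generic_injective [IsIntegral X] (x : X) (h : genericPoint X ⤳ x) :
    Function.Injective (Cyc.specMap x (genericPoint X) h) := by
  have hresinj : Function.Injective (X.residue (genericPoint X)).hom :=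
    RingHom.injective ((X.residue (genericPoint X)).hom :
      X.functionField →+* X.residueField (genericPoint X))
  have hspec : ∀ r : X.presheaf.stalk x, Cyc.specMap x (genericPoint X) h r =
      (X.residue (genericPoint X)).hom (algebraMap (X.presheaf.stalk x) X.functionField r) :=
    fun r => rfl
  intro r r' hrr'
  rw [hspec, hspec] at hrr'
  exact IsFractionRing.injective (X.presheaf.stalk x) X.functionField (hresinj hrr')

theorem specMap_comp (x ξ ζ : X) (h : ξ ⤳ x) (h' : ζ ⤳ ξ) (r : X.presheaf.stalk x) :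
    Cyc.specMap ξ ζ h' (X.presheaf.stalkSpecializes h r) = Cyc.specMap x ζ (h'.trans h) r := by
  unfold Cyc.specMap
  have := ConcreteCategory.congr_hom (TopCat.Presheaf.stalkSpecializes_comp X.presheaf h' h) r
  simp only [CommRingCat.hom_comp, RingHom.coe_comp, Function.comp_apply]
  exact congrArg _ this

/-- the fraction tame symbol built from numerators and denominators. -/
noncomputable def Tsym (R : Type u) [CommRing R] [IsLocalRing R] (a b c d : R) : ResidueField R :=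
  tameSymbol R a c * (tameSymbol R a d)⁻¹ * (tameSymbol R b c)⁻¹ * tameSymbol R b d

theorem Tsym_ne_zero {R : Type u} [CommRing R] [IsDomain R] [IsNoetherianRing R] [IsLocalRing R]
    (hR : ringKrullDim R = 1) {a b c d : R} (ha : a ≠ 0) (hb : b ≠ 0) (hc : c ≠ 0) (hd : d ≠ 0) :
    Tsym R a b c d ≠ 0 := by
  obtain ⟨L1, -, -, -, -⟩ := tameSymbol_laws (A := R) hR
  unfold Tsym
  have h1 := L1 a c (mem_nzd ha) (mem_nzd hc)
  have h2 := L1 a d (mem_nzd ha) (mem_nzd hd)
  have h3 := L1 b c (mem_nzd hb) (mem_nzd hc)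
  have h4 := L1 b d (mem_nzd hb) (mem_nzd hd)
  exact mul_ne_zero (mul_ne_zero (mul_ne_zero h1 (inv_ne_zero h2)) (inv_ne_zero h3)) h4

theorem o_Tsym {R : Type u} [CommRing R] [IsDomain R] [IsNoetherianRing R] [IsLocalRing R]
    (hR : ringKrullDim R = 1) (o : ResidueField R → ℤ)
    (ho : ∀ x y : ResidueField R, x ≠ 0 → y ≠ 0 → o (x * y) = o x + o y)
    {a b c d : R} (ha : a ≠ 0) (hb : b ≠ 0) (hc : c ≠ 0) (hd : d ≠ 0) :
    o (Tsym R a b c d) = D o a c - D o a d - D o b c + D o b d := by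
  obtain ⟨L1, -, -, -, -⟩ := tameSymbol_laws (A := R) hR
  unfold Tsym D
  have h1 := L1 a c (mem_nzd ha) (mem_nzd hc)
  have h2 := L1 a d (mem_nzd ha) (mem_nzd hd)
  have h3 := L1 b c (mem_nzd hb) (mem_nzd hc)
  have h4 := L1 b d (mem_nzd hb) (mem_nzd hd)
  rw [ho _ _ (mul_ne_zero (mul_ne_zero h1 (inv_ne_zero h2)) (inv_ne_zero h3)) h4,
    ho _ _ (mul_ne_zero h1 (inv_ne_zero h2)) (inv_ne_zero h3),
    ho _ _ h1 (inv_ne_zero h2), o_inv o ho h2, o_inv o ho h3]
  ring

end Part6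

section Part7

open AlgebraicGeometry CategoryTheory TopologicalSpace IsLocalRing CycAlg
  Groth.Agent.Lib.R2H1.LocQuot Groth.Agent.Lib.R2H1.RatEquivOpen
  Groth.Agent.Lib.R2H1.FlatDivSum Groth.Agent.Lib.R2H1.TameLaws

variable {X : Scheme.{u}}

theorem stalkSpecializes_injective [IsIntegral X] (x ξ : X) (h : ξ ⤳ x) :
    Function.Injective (X.presheaf.stalkSpecializes h) := by
  have hηξ : genericPoint X ⤳ ξ := (genericPoint_spec X).specializes trivial
  intro r r' hrr'
  apply specMap_generic_injective x (hηξ.trans h)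
  rw [← specMap_comp x ξ _ h hηξ, ← specMap_comp x ξ _ h hηξ, hrr']

/-- cross-multiplication of the relation between coordinates with respect to two generators. -/
theorem cross_mul [IsIntegral X] {L : X.Modules} (x ξ : X) (h : ξ ⤳ x) (Gx Gξ : Gen L)
    (hx : x ∈ Gx.W) (hξ : ξ ∈ Gξ.W) (s : Cyc.secFibre L (genericPoint X))
    (hηξ : genericPoint X ⤳ ξ) (hηx : genericPoint X ⤳ x)
    (a b : X.presheaf.stalk ξ) (hb : b ≠ 0) (a₀ b₀ : X.presheaf.stalk x) (hb₀ : b₀ ≠ 0)
    (hlξ : Gξ.fib (genericPoint X) (hηξ.mem_open Gξ.W.isOpen hξ) s =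
      Cyc.specMap ξ (genericPoint X) hηξ a / Cyc.specMap ξ (genericPoint X) hηξ b)
    (hlx : Gx.fib (genericPoint X) (hηx.mem_open Gx.W.isOpen hx) s =
      Cyc.specMap x (genericPoint X) hηx a₀ / Cyc.specMap x (genericPoint X) hηx b₀) :
    X.presheaf.stalkSpecializes h a₀ * b =
      a * Gx.cc Gξ ξ (h.mem_open Gx.W.isOpen hx) hξ * X.presheaf.stalkSpecializes h b₀ := by
  have hinj := specMap_generic_injective ξ hηξ
  apply hinj
  have hc := Gx.fib_change Gξ (genericPoint X) (hηx.mem_open Gx.W.isOpen hx)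
    (hηξ.mem_open Gξ.W.isOpen hξ) s
  have hcc := Gx.cc_specializes Gξ hηξ (h.mem_open Gx.W.isOpen hx) hξ
  rw [hcc] at hc
  have hres : X.residue (genericPoint X) (X.presheaf.stalkSpecializes hηξ
      (Gx.cc Gξ ξ (h.mem_open Gx.W.isOpen hx) hξ)) =
      Cyc.specMap ξ (genericPoint X) hηξ (Gx.cc Gξ ξ (h.mem_open Gx.W.isOpen hx) hξ) := rfl
  rw [hres, hlx, hlξ, ← specMap_comp x ξ _ h hηξ a₀, ← specMap_comp x ξ _ h hηξ b₀] at hc
  have hB0 : Cyc.specMap ξ (genericPoint X) hηξ (X.presheaf.stalkSpecializes h b₀) ≠ 0 := by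
    rw [Ne, ← map_zero (Cyc.specMap ξ (genericPoint X) hηξ)]
    intro h0
    exact hb₀ (stalkSpecializes_injective x ξ h (by rw [hinj h0, map_zero]))
  have hBb : Cyc.specMap ξ (genericPoint X) hηξ b ≠ 0 := by
    rw [Ne, ← map_zero (Cyc.specMap ξ (genericPoint X) hηξ)]
    exact fun h0 => hb (hinj h0)
  rw [div_mul_eq_mul_div, div_eq_div_iff hB0 hBb] at hc
  rw [map_mul, map_mul, map_mul, hc]

end Part7

section Part8

open AlgebraicGeometry CategoryTheory TopologicalSpace IsLocalRing CycAlg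
  Groth.Agent.Lib.R2H1.LocQuot Groth.Agent.Lib.R2H1.RatEquivOpen
  Groth.Agent.Lib.R2H1.FlatDivSum Groth.Agent.Lib.R2H1.TameLaws

variable {X : Scheme.{u}}

/-- order of a ratio along the generic point in terms of lengths. -/
theorem ordAt_generic_ratio [IsIntegral X] (δ : X → ℤ) (hX : Cyc.IsSetup X δ) (ξ : X)
    (hξ : δ ξ + 1 = δ (genericPoint X)) (hηξ : genericPoint X ⤳ ξ)
    (a b : X.presheaf.stalk ξ) (ha : a ≠ 0) (hb : b ≠ 0) :
    Cyc.ordAt ξ (genericPoint X) hηξ
      (Cyc.specMap ξ (genericPoint X) hηξ a / Cyc.specMap ξ (genericPoint X) hηξ b) =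
      ordZ a - ordZ b := by
  haveI : IsLocallyNoetherian X := hX.1
  have hR : ringKrullDim (X.presheaf.stalk ξ) = 1 :=
    (Groth.Agent.S6459.result X δ hX ξ).mpr (by omega)
  have hK : Ring.KrullDimLE 1 (X.presheaf.stalk ξ) := Ring.krullDimLE_iff.mpr (by rw [hR]; rfl)
  have hinj := specMap_generic_injective ξ hηξ
  have hA : Cyc.specMap ξ (genericPoint X) hηξ a ≠ 0 := by
    rw [Ne, ← map_zero (Cyc.specMap ξ (genericPoint X) hηξ)]
    exact fun h0 => ha (hinj h0)
  have hB : Cyc.specMap ξ (genericPoint X) hηξ b ≠ 0 := by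
    rw [Ne, ← map_zero (Cyc.specMap ξ (genericPoint X) hηξ)]
    exact fun h0 => hb (hinj h0)
  rw [ordAt_div hX.2.2 ξ _ hηξ hξ hA hB, ordAt_generic_specMap ξ hK hηξ a ha,
    ordAt_generic_specMap ξ hK hηξ b hb]
  rfl

/-- the identity at a pair `ξ ⤳ x` relating the local terms of the key lemma at `x` to the
fraction tame symbol at `ξ` and the change of generators. -/
theorem per_point [IsIntegral X] (δ : X → ℤ) (hX : Cyc.IsSetup X δ) {L N : X.Modules}
    (x ξ : X) (h : ξ ⤳ x) (hd : δ x + 1 = δ ξ) (hξ : δ ξ + 1 = δ (genericPoint X))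
    (GLx GLξ : Gen L) (GNx GNξ : Gen N) (hx1 : x ∈ GLx.W) (hx2 : x ∈ GNx.W)
    (hξ1 : ξ ∈ GLξ.W) (hξ2 : ξ ∈ GNξ.W)
    (s : Cyc.secFibre L (genericPoint X)) (t : Cyc.secFibre N (genericPoint X))
    (hηξ : genericPoint X ⤳ ξ) (hηx : genericPoint X ⤳ x)
    (a b c d : X.presheaf.stalk ξ) (ha : a ≠ 0) (hb : b ≠ 0) (hc : c ≠ 0) (hd' : d ≠ 0)
    (a₀ b₀ c₀ d₀ : X.presheaf.stalk x) (ha₀ : a₀ ≠ 0) (hb₀ : b₀ ≠ 0) (hc₀ : c₀ ≠ 0)
    (hd₀ : d₀ ≠ 0)
    (hlξ : GLξ.fib (genericPoint X) (hηξ.mem_open GLξ.W.isOpen hξ1) s =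
      Cyc.specMap ξ (genericPoint X) hηξ a / Cyc.specMap ξ (genericPoint X) hηξ b)
    (hnξ : GNξ.fib (genericPoint X) (hηξ.mem_open GNξ.W.isOpen hξ2) t =
      Cyc.specMap ξ (genericPoint X) hηξ c / Cyc.specMap ξ (genericPoint X) hηξ d)
    (hlx : GLx.fib (genericPoint X) (hηx.mem_open GLx.W.isOpen hx1) s =
      Cyc.specMap x (genericPoint X) hηx a₀ / Cyc.specMap x (genericPoint X) hηx b₀)
    (hnx : GNx.fib (genericPoint X) (hηx.mem_open GNx.W.isOpen hx2) t =
      Cyc.specMap x (genericPoint X) hηx c₀ / Cyc.specMap x (genericPoint X) hηx d₀) :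
    Dfun δ x a₀ c₀ ξ - Dfun δ x a₀ d₀ ξ - Dfun δ x b₀ c₀ ξ + Dfun δ x b₀ d₀ ξ =
      Cyc.ordAt x ξ h (Tsym (X.presheaf.stalk ξ) a b c d)
        - Cyc.ordAt ξ (genericPoint X) hηξ
            (GLξ.fib (genericPoint X) (hηξ.mem_open GLξ.W.isOpen hξ1) s) *
          Cyc.ordAt x ξ h (X.residue ξ (GNx.cc GNξ ξ (h.mem_open GNx.W.isOpen hx2) hξ2))
        + Cyc.ordAt ξ (genericPoint X) hηξ
            (GNξ.fib (genericPoint X) (hηξ.mem_open GNξ.W.isOpen hξ2) t) *
          Cyc.ordAt x ξ h (X.residue ξ (GLx.cc GLξ ξ (h.mem_open GLx.W.isOpen hx1) hξ1)) := by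
  haveI : IsLocallyNoetherian X := hX.1
  have hδ := hX.2.2
  have hR : ringKrullDim (X.presheaf.stalk ξ) = 1 :=
    (Groth.Agent.S6459.result X δ hX ξ).mpr (by omega)
  set o : ResidueField (X.presheaf.stalk ξ) → ℤ := fun z => Cyc.ordAt x ξ h z with ho_def
  have ho : ∀ y z : ResidueField (X.presheaf.stalk ξ), y ≠ 0 → z ≠ 0 → o (y * z) = o y + o z :=
    fun y z hy hz => ordAt_mul hδ x ξ h hd hy hz
  set a' := (GLx.cc_isUnit GLξ ξ (h.mem_open GLx.W.isOpen hx1) hξ1).unit with ha'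
  set b' := (GNx.cc_isUnit GNξ ξ (h.mem_open GNx.W.isOpen hx2) hξ2).unit with hb'
  have h1 := cross_mul x ξ h GLx GLξ hx1 hξ1 s hηξ hηx a b hb a₀ b₀ hb₀ hlξ hlx
  have h2 := cross_mul x ξ h GNx GNξ hx2 hξ2 t hηξ hηx c d hd' c₀ d₀ hd₀ hnξ hnx
  have hinj := stalkSpecializes_injective x ξ h
  have hne : ∀ r : X.presheaf.stalk x, r ≠ 0 → X.presheaf.stalkSpecializes h r ≠ 0 := by
    intro r hr h0
    exact hr (hinj (by rw [h0, map_zero]))
  have key := D_change hR o ho a' b' ha hb hc hd' (hne a₀ ha₀) (hne b₀ hb₀) (hne c₀ hc₀)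
    (hne d₀ hd₀) h1 h2
  have hD : ∀ p q : X.presheaf.stalk x, Dfun δ x p q ξ =
      D o (X.presheaf.stalkSpecializes h p) (X.presheaf.stalkSpecializes h q) :=
    fun p q => Dfun_pos δ x p q ξ ⟨h, hd⟩
  rw [hD, hD, hD, hD, key, ← o_Tsym hR o ho ha hb hc hd', hlξ, hnξ,
    ordAt_generic_ratio δ hX ξ hξ hηξ a b ha hb, ordAt_generic_ratio δ hX ξ hξ hηξ c d hc hd']
  rfl

end Part8

section Part9

open AlgebraicGeometry CategoryTheory TopologicalSpace IsLocalRing CycAlg
  Groth.Agent.Lib.R2H1.LocQuot Groth.Agent.Lib.R2H1.RatEquivOpen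
  Groth.Agent.Lib.R2H1.FlatDivSum Groth.Agent.Lib.R2H1.TameLaws Groth.Agent.Lib.Helper20.AbsCurve

section Alg

variable {R : Type u} [CommRing R] [IsDomain R] [IsNoetherianRing R] [IsLocalRing R]
  (hR : ringKrullDim R = 1) (o : ResidueField R → ℤ)
  (ho : ∀ x y : ResidueField R, x ≠ 0 → y ≠ 0 → o (x * y) = o x + o y)

theorem ordZ_unit_mul (w : Rˣ) (b : R) : ordZ ((w : R) * b) = ordZ b := by
  rw [mul_comm, ordZ_mul_unit]

include hR ho in
/-- the fraction tame symbol of two units has order zero. -/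
theorem o_Tsym_units {b d : R} (hb : b ≠ 0) (hd : d ≠ 0) (w w' : Rˣ) :
    o (Tsym R ((w : R) * b) b ((w' : R) * d) d) = 0 := by
  have hw : (w : R) ≠ 0 := w.ne_zero
  have hw' : (w' : R) ≠ 0 := w'.ne_zero
  rw [o_Tsym hR o ho (mul_ne_zero hw hb) hb (mul_ne_zero hw' hd) hd,
    D_mul_left hR o ho hw hb (mul_ne_zero hw' hd), D_mul_left hR o ho hw hb hd,
    D_unit_left hR o ho w (mul_ne_zero hw' hd), D_unit_left hR o ho w hd, ordZ_unit_mul]
  ring

end Alg

variable {X : Scheme.{u}}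

/-- `s` is a unit multiple of the generator at `ξ`. -/
def IsU [IsIntegral X] {L : X.Modules} (G : Gen L) (ξ : X) (hξ : ξ ∈ G.W)
    (s : Cyc.secFibre L (genericPoint X)) : Prop :=
  ∃ w : (X.presheaf.stalk ξ)ˣ,
    G.fib (genericPoint X) (((genericPoint_spec X).specializes trivial :
      genericPoint X ⤳ ξ).mem_open G.W.isOpen hξ) s =
      Cyc.specMap ξ (genericPoint X) ((genericPoint_spec X).specializes trivial) (w : _)

/-- the unit property does not depend on the generator. -/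
theorem IsU.change [IsIntegral X] {L : X.Modules} {G : Gen L} {ξ : X} {hξ : ξ ∈ G.W}
    {s : Cyc.secFibre L (genericPoint X)} (h : IsU G ξ hξ s) (G' : Gen L) (hξ' : ξ ∈ G'.W) :
    IsU G' ξ hξ' s := by
  obtain ⟨w, hw⟩ := h
  have hηξ : genericPoint X ⤳ ξ := (genericPoint_spec X).specializes trivial
  have hc := G'.fib_change G (genericPoint X) (hηξ.mem_open G'.W.isOpen hξ')
    (hηξ.mem_open G.W.isOpen hξ) s
  have hcc := G'.cc_specializes G hηξ hξ' hξ
  rw [hcc, hw] at hc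
  refine ⟨w * (G'.cc_isUnit G ξ hξ' hξ).unit, ?_⟩
  rw [hc, Units.val_mul, map_mul]
  rfl

end Part9

section Part10

open AlgebraicGeometry CategoryTheory TopologicalSpace IsLocalRing CycAlg
  Groth.Agent.Lib.R2H1.LocQuot Groth.Agent.Lib.R2H1.RatEquivOpen
  Groth.Agent.Lib.R2H1.FlatDivSum Groth.Agent.Lib.R2H1.TameLaws
  Groth.Agent.Lib.Helper20.AbsCurve

variable {X : Scheme.{u}}

theorem evaluation_eq_specMap (U : X.Opens) (ξ ζ : X) (h : ζ ⤳ ξ) (hξ : ξ ∈ U) (a : Γ(X, U)) :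
    X.evaluation U ζ (h.mem_open U.isOpen hξ) a = Cyc.specMap ξ ζ h (X.presheaf.germ U ξ hξ a) := by
  unfold Cyc.specMap
  have h1 : X.presheaf.stalkSpecializes h (X.presheaf.germ U ξ hξ a) =
      X.presheaf.germ U ζ (h.mem_open U.isOpen hξ) a :=
    ConcreteCategory.congr_hom (TopCat.Presheaf.germ_stalkSpecializes X.presheaf hξ h) a
  simp only [CommRingCat.hom_comp, RingHom.coe_comp, Function.comp_apply]
  change _ = X.residue ζ (X.presheaf.stalkSpecializes h (X.presheaf.germ U ξ hξ a))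
  rw [h1]
  rfl

theorem isU_of_units [IsIntegral X] {L : X.Modules} (G : Gen L) (U : X.Opens) (hUW : U ≤ G.W)
    (s : Cyc.secFibre L (genericPoint X)) (a b : Γ(X, U)) (hη : genericPoint X ∈ U)
    (hab : G.fib (genericPoint X) (hUW hη) s * X.evaluation U (genericPoint X) hη b =
      X.evaluation U (genericPoint X) hη a)
    (ξ : X) (hξU : ξ ∈ U) (hua : IsUnit (X.presheaf.germ U ξ hξU a))
    (hub : IsUnit (X.presheaf.germ U ξ hξU b)) : IsU G ξ (hUW hξU) s := by
  have hηξ : genericPoint X ⤳ ξ := (genericPoint_spec X).specializes trivial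
  rw [evaluation_eq_specMap U ξ _ hηξ hξU a, evaluation_eq_specMap U ξ _ hηξ hξU b] at hab
  refine ⟨hua.unit * hub.unit⁻¹, ?_⟩
  have h1 : Cyc.specMap ξ (genericPoint X) hηξ ((hub.unit⁻¹ : (X.presheaf.stalk ξ)ˣ) : _) *
      Cyc.specMap ξ (genericPoint X) hηξ (X.presheaf.germ U ξ hξU b) = 1 := by
    rw [← map_mul]
    have : ((hub.unit⁻¹ : (X.presheaf.stalk ξ)ˣ) : X.presheaf.stalk ξ) *
        X.presheaf.germ U ξ hξU b = 1 := by
      have := hub.unit.inv_mul
      simpa using this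
    rw [this, map_one]
  rw [Units.val_mul, map_mul, IsUnit.unit_spec, ← hab, mul_assoc, mul_comm _ (Cyc.specMap _ _ _ _),
    h1, mul_one]

/-- the set of codimension one points where `s` is not a unit multiple of the chosen generator is
locally finite. -/
theorem bad_locallyFinite [IsIntegral X] (δ : X → ℤ) (hX : Cyc.IsSetup X δ) {L : X.Modules}
    (gL : X → Gen L) (hgL : ∀ z, z ∈ (gL z).W) (s : Cyc.secFibre L (genericPoint X)) (hs : s ≠ 0)
    (x₀ : X) :
    ∃ U : X.Opens, x₀ ∈ U ∧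
      {ξ : X | ξ ∈ U ∧ δ ξ + 1 = δ (genericPoint X) ∧ ¬ IsU (gL ξ) ξ (hgL ξ) s}.Finite := by
  haveI : IsLocallyNoetherian X := hX.1
  set G := gL x₀ with hG
  obtain ⟨_, ⟨U, hU, rfl⟩, hxU, hUW⟩ :=
    X.isBasis_affineOpens.exists_subset_of_mem_open (hgL x₀) G.W.isOpen
  have hUW' : U ≤ G.W := hUW
  haveI : Nonempty U := ⟨⟨x₀, hxU⟩⟩
  haveI : IsNoetherianRing Γ(X, U) := IsLocallyNoetherian.component_noetherian ⟨U, hU⟩
  have hηU : genericPoint X ∈ U :=
    ((genericPoint_spec X).mem_open_set_iff U.isOpen).2 ⟨x₀, trivial, hxU⟩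
  obtain ⟨a, b, hb, hab⟩ := exists_evaluation_eq U hU (genericPoint X) hηU
    (G.fib (genericPoint X) (hUW' hηU) s)
  have hf := G.fib_ne_zero (genericPoint X) (hUW' hηU) s hs
  have ha : X.evaluation U (genericPoint X) hηU a ≠ 0 := by
    rw [← hab]; exact mul_ne_zero hf hb
  have ha' : a ∈ nonZeroDivisors Γ(X, U) := by
    rw [mem_nonZeroDivisors_iff_ne_zero]
    rintro rfl
    exact ha (map_zero _)
  have hb' : b ∈ nonZeroDivisors Γ(X, U) := by
    rw [mem_nonZeroDivisors_iff_ne_zero]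
    rintro rfl
    exact hb (map_zero _)
  refine ⟨U, hxU, ?_⟩
  have hfa := finite_setOf_not_isUnit_germ hU a ha'
  have hfb := finite_setOf_not_isUnit_germ hU b hb'
  refine (hfa.union hfb).subset ?_
  rintro ξ ⟨hξU, hdim, hnot⟩
  have hR : ringKrullDim (X.presheaf.stalk ξ) = 1 :=
    (Groth.Agent.S6459.result X δ hX ξ).mpr (by omega)
  by_contra hcon
  rw [Set.mem_union, not_or] at hcon
  have hua : IsUnit (X.presheaf.germ U ξ hξU a) := by
    by_contra h
    exact hcon.1 ⟨hξU, hR, h⟩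
  have hub : IsUnit (X.presheaf.germ U ξ hξU b) := by
    by_contra h
    exact hcon.2 ⟨hξU, hR, h⟩
  exact hnot ((isU_of_units G U hUW' s a b hηU hab ξ hξU hua hub).change (gL ξ) (hgL ξ))

end Part10

section Part11

open AlgebraicGeometry CategoryTheory TopologicalSpace IsLocalRing CycAlg
  Groth.Agent.Lib.R2H1.LocQuot Groth.Agent.Lib.R2H1.RatEquivOpen
  Groth.Agent.Lib.R2H1.FlatDivSum Groth.Agent.Lib.R2H1.TameLaws

variable {X : Scheme.{u}} [IsIntegral X]

theorem hηz (z : X) : genericPoint X ⤳ z := (genericPoint_spec X).specializes trivial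

/-- every nonzero rational function is a quotient of nonzero elements of the local ring. -/
theorem exists_frac (z : X) (f : X.residueField (genericPoint X)) (hf : f ≠ 0) :
    ∃ a b : X.presheaf.stalk z, a ≠ 0 ∧ b ≠ 0 ∧
      f = Cyc.specMap z (genericPoint X) (hηz z) a / Cyc.specMap z (genericPoint X) (hηz z) b := by
  obtain ⟨a', b', hb', hab⟩ :=
    IsFractionRing.div_surjective (A := Cyc.LocQuot z (genericPoint X) (hηz z)) f
  obtain ⟨a, rfl⟩ := Ideal.Quotient.mk_surjective a'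
  obtain ⟨b, rfl⟩ := Ideal.Quotient.mk_surjective b'
  rw [algebraMap_locQuot_mk, algebraMap_locQuot_mk] at hab
  refine ⟨a, b, ?_, ?_, hab.symm⟩
  · rintro rfl
    rw [map_zero, zero_div] at hab
    exact hf hab.symm
  · rintro rfl
    rw [map_zero, div_zero] at hab
    exact hf hab.symm

variable {L : X.Modules} (G : X → Gen L) (hG : ∀ z, z ∈ (G z).W)
  (s : Cyc.secFibre L (genericPoint X))

/-- the coordinate of the rational section `s` with respect to the generator chosen at `z`. -/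
noncomputable def lam (z : X) : X.residueField (genericPoint X) :=
  (G z).fib (genericPoint X) ((hηz z).mem_open (G z).W.isOpen (hG z)) s

theorem lam_ne_zero (hs : s ≠ 0) (z : X) : lam G hG s z ≠ 0 :=
  (G z).fib_ne_zero _ _ s hs

/-- chosen numerator. -/
noncomputable def num (hs : s ≠ 0) (z : X) : X.presheaf.stalk z :=
  Classical.choose (exists_frac z (lam G hG s z) (lam_ne_zero G hG s hs z))

/-- chosen denominator. -/
noncomputable def den (hs : s ≠ 0) (z : X) : X.presheaf.stalk z :=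
  Classical.choose (Classical.choose_spec (exists_frac z (lam G hG s z) (lam_ne_zero G hG s hs z)))

theorem num_ne_zero (hs : s ≠ 0) (z : X) : num G hG s hs z ≠ 0 :=
  (Classical.choose_spec (Classical.choose_spec
    (exists_frac z (lam G hG s z) (lam_ne_zero G hG s hs z)))).1

theorem den_ne_zero (hs : s ≠ 0) (z : X) : den G hG s hs z ≠ 0 :=
  (Classical.choose_spec (Classical.choose_spec
    (exists_frac z (lam G hG s z) (lam_ne_zero G hG s hs z)))).2.1

theorem lam_eq (hs : s ≠ 0) (z : X) : lam G hG s z =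
    Cyc.specMap z (genericPoint X) (hηz z) (num G hG s hs z) /
      Cyc.specMap z (genericPoint X) (hηz z) (den G hG s hs z) :=
  (Classical.choose_spec (Classical.choose_spec
    (exists_frac z (lam G hG s z) (lam_ne_zero G hG s hs z)))).2.2

/-- the divisor of the rational section, in terms of the coordinate. -/
theorem secDivFun_generic (δ : X → ℤ) (hX : Cyc.IsSetup X δ) (ξ : X) :
    Cyc.secDivFun δ L (genericPoint X) s ξ =
      if δ ξ + 1 = δ (genericPoint X) then
        Cyc.ordAt ξ (genericPoint X) (hηz ξ) (lam G hG s ξ) else 0 := by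
  haveI : IsLocallyNoetherian X := hX.1
  unfold Cyc.secDivFun
  by_cases hd : δ ξ + 1 = δ (genericPoint X)
  · rw [dif_pos ⟨hηz ξ, hd⟩, if_pos hd]
    exact (G ξ).secOrdAt_eq hX.2.2 (genericPoint X) ξ (hηz ξ) hd (hG ξ) s
  · rw [dif_neg (fun h => hd h.2), if_neg hd]

/-- the divisor of a rational section on the closure of `ξ`, at a point `x`. -/
theorem secDivFun_point (δ : X → ℤ) (hX : Cyc.IsSetup X δ) (ξ : X) (σ : Cyc.secFibre L ξ)
    (hσ : σ ≠ 0) (x : X) (h : ξ ⤳ x) (hd : δ x + 1 = δ ξ) :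
    Cyc.secDivFun δ L ξ σ x =
      Cyc.ordAt x ξ h ((G ξ).fib ξ (hG ξ) σ) +
        Cyc.ordAt x ξ h (X.residue ξ ((G x).cc (G ξ) ξ (h.mem_open (G x).W.isOpen (hG x))
          (hG ξ))) := by
  haveI : IsLocallyNoetherian X := hX.1
  unfold Cyc.secDivFun
  rw [dif_pos ⟨h, hd⟩, (G x).secOrdAt_eq hX.2.2 ξ x h hd (hG x) σ,
    (G x).fib_change (G ξ) ξ (h.mem_open (G x).W.isOpen (hG x)) (hG ξ) σ]
  refine ordAt_mul hX.2.2 x ξ h hd ((G ξ).fib_ne_zero ξ (hG ξ) σ hσ) ?_
  have hu := (G x).cc_isUnit (G ξ) ξ (h.mem_open (G x).W.isOpen (hG x)) (hG ξ)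
  exact (IsLocalRing.residue_ne_zero_iff_isUnit _).mpr hu

theorem secDivFun_point_of_not (δ : X → ℤ) (ξ : X) (σ : Cyc.secFibre L ξ) (x : X)
    (h : ¬ (ξ ⤳ x ∧ δ x + 1 = δ ξ)) : Cyc.secDivFun δ L ξ σ x = 0 := by
  unfold Cyc.secDivFun
  exact dif_neg h

end Part11

section Part12

open AlgebraicGeometry CategoryTheory TopologicalSpace IsLocalRing CycAlg
  Groth.Agent.Lib.R2H1.LocQuot Groth.Agent.Lib.R2H1.RatEquivOpen
  Groth.Agent.Lib.R2H1.FlatDivSum Groth.Agent.Lib.R2H1.TameLaws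

variable {X : Scheme.{u}} [IsIntegral X]

variable {L N : X.Modules} (gL : X → Gen L) (hgL : ∀ z, z ∈ (gL z).W)
  (gN : X → Gen N) (hgN : ∀ z, z ∈ (gN z).W)
  (s : Cyc.secFibre L (genericPoint X)) (hs : s ≠ 0)
  (t : Cyc.secFibre N (genericPoint X)) (ht : t ≠ 0)
  (u : (ξ : X) → Cyc.secFibre N ξ) (v : (ξ : X) → Cyc.secFibre L ξ)

/-- the multiplicity of `div_L(s)` at `ξ`. -/
noncomputable def al (ξ : X) : ℤ := Cyc.ordAt ξ (genericPoint X) (hηz ξ) (lam gL hgL s ξ)

/-- the fraction tame symbol at a point of `X`, with values in the residue field of `X`. -/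
noncomputable def TsymX (ξ : X) (a b c d : X.presheaf.stalk ξ) : X.residueField ξ :=
  Tsym (X.presheaf.stalk ξ) a b c d

/-- the rational function on the closure of `ξ` realizing the rational equivalence. -/
noncomputable def Ffun (ξ : X) : X.residueField ξ :=
  (gN ξ).fib ξ (hgN ξ) (u ξ) ^ (al gL hgL s ξ) *
    (gL ξ).fib ξ (hgL ξ) (v ξ) ^ (-(al gN hgN t ξ)) *
    TsymX ξ (num gL hgL s hs ξ) (den gL hgL s hs ξ) (num gN hgN t ht ξ) (den gN hgN t ht ξ)

theorem Ffun_ne_zero (δ : X → ℤ) (hX : Cyc.IsSetup X δ) (hu : ∀ ξ, u ξ ≠ 0) (hv : ∀ ξ, v ξ ≠ 0)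
    (ξ : X) (hξ : δ ξ + 1 = δ (genericPoint X)) : Ffun gL hgL gN hgN s hs t ht u v ξ ≠ 0 := by
  have hR : ringKrullDim (X.presheaf.stalk ξ) = 1 :=
    (Groth.Agent.S6459.result X δ hX ξ).mpr (by omega)
  haveI : IsLocallyNoetherian X := hX.1
  unfold Ffun
  refine mul_ne_zero (mul_ne_zero (zpow_ne_zero _ ((gN ξ).fib_ne_zero ξ (hgN ξ) (u ξ) (hu ξ)))
    (zpow_ne_zero _ ((gL ξ).fib_ne_zero ξ (hgL ξ) (v ξ) (hv ξ)))) ?_
  exact Tsym_ne_zero hR (num_ne_zero gL hgL s hs ξ) (den_ne_zero gL hgL s hs ξ)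
    (num_ne_zero gN hgN t ht ξ) (den_ne_zero gN hgN t ht ξ)

theorem ordAt_zpow [IsLocallyNoetherian X] {δ : X → ℤ} (hδ : Cyc.IsDimFun X δ) (x ξ : X)
    (h : ξ ⤳ x) (hd : δ x + 1 = δ ξ) {f : X.residueField ξ} (hf : f ≠ 0) (n : ℤ) :
    Cyc.ordAt x ξ h (f ^ n) = n * Cyc.ordAt x ξ h f :=
  o_zpow (R := X.presheaf.stalk ξ) (fun z => Cyc.ordAt x ξ h z)
    (fun y z hy hz => ordAt_mul hδ x ξ h hd hy hz) hf n

/-- the order of `Ffun ξ` along `ξ ⤳ x`. -/
theorem ordAt_Ffun (δ : X → ℤ) (hX : Cyc.IsSetup X δ) (hu : ∀ ξ, u ξ ≠ 0) (hv : ∀ ξ, v ξ ≠ 0)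
    (ξ x : X) (h : ξ ⤳ x) (hd : δ x + 1 = δ ξ) (hξ : δ ξ + 1 = δ (genericPoint X)) :
    Cyc.ordAt x ξ h (Ffun gL hgL gN hgN s hs t ht u v ξ) =
      al gL hgL s ξ * Cyc.ordAt x ξ h ((gN ξ).fib ξ (hgN ξ) (u ξ)) -
        al gN hgN t ξ * Cyc.ordAt x ξ h ((gL ξ).fib ξ (hgL ξ) (v ξ)) +
        Cyc.ordAt x ξ h (TsymX ξ (num gL hgL s hs ξ) (den gL hgL s hs ξ)
          (num gN hgN t ht ξ) (den gN hgN t ht ξ)) := by
  haveI : IsLocallyNoetherian X := hX.1
  have hR : ringKrullDim (X.presheaf.stalk ξ) = 1 :=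
    (Groth.Agent.S6459.result X δ hX ξ).mpr (by omega)
  have h1 := (gN ξ).fib_ne_zero ξ (hgN ξ) (u ξ) (hu ξ)
  have h2 := (gL ξ).fib_ne_zero ξ (hgL ξ) (v ξ) (hv ξ)
  have h3 : TsymX ξ (num gL hgL s hs ξ) (den gL hgL s hs ξ) (num gN hgN t ht ξ)
      (den gN hgN t ht ξ) ≠ 0 :=
    Tsym_ne_zero hR (num_ne_zero gL hgL s hs ξ) (den_ne_zero gL hgL s hs ξ)
      (num_ne_zero gN hgN t ht ξ) (den_ne_zero gN hgN t ht ξ)
  unfold Ffun
  rw [ordAt_mul hX.2.2 x ξ h hd (mul_ne_zero (zpow_ne_zero _ h1) (zpow_ne_zero _ h2)) h3,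
    ordAt_mul hX.2.2 x ξ h hd (zpow_ne_zero _ h1) (zpow_ne_zero _ h2),
    ordAt_zpow hX.2.2 x ξ h hd h1, ordAt_zpow hX.2.2 x ξ h hd h2]
  ring

/-- at a point where both rational sections are unit multiples of generators, all local terms
vanish. -/
theorem terms_of_isU (δ : X → ℤ) (hX : Cyc.IsSetup X δ) (ξ : X)
    (hξ : δ ξ + 1 = δ (genericPoint X)) (h1 : IsU (gL ξ) ξ (hgL ξ) s)
    (h2 : IsU (gN ξ) ξ (hgN ξ) t) :
    al gL hgL s ξ = 0 ∧ al gN hgN t ξ = 0 ∧ ∀ (x : X) (h : ξ ⤳ x), δ x + 1 = δ ξ →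
      Cyc.ordAt x ξ h (TsymX ξ (num gL hgL s hs ξ) (den gL hgL s hs ξ)
        (num gN hgN t ht ξ) (den gN hgN t ht ξ)) = 0 := by
  haveI : IsLocallyNoetherian X := hX.1
  have hR : ringKrullDim (X.presheaf.stalk ξ) = 1 :=
    (Groth.Agent.S6459.result X δ hX ξ).mpr (by omega)
  obtain ⟨w, hw⟩ := h1
  obtain ⟨w', hw'⟩ := h2
  have hinj := specMap_generic_injective ξ (hηz ξ)
  refine ⟨?_, ?_, ?_⟩
  · unfold al lam
    rw [hw]
    exact ordAt_unit ξ (genericPoint X) _ (w : X.presheaf.stalk ξ) w.isUnit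
  · unfold al lam
    rw [hw']
    exact ordAt_unit ξ (genericPoint X) _ (w' : X.presheaf.stalk ξ) w'.isUnit
  · intro x h hd
    -- numerators are unit multiples of denominators
    have e1 : num gL hgL s hs ξ = (w : X.presheaf.stalk ξ) * den gL hgL s hs ξ := by
      apply hinj
      have h3 := lam_eq gL hgL s hs ξ
      unfold lam at h3
      rw [hw] at h3
      have hne : Cyc.specMap ξ (genericPoint X) (hηz ξ) (den gL hgL s hs ξ) ≠ 0 := by
        rw [Ne, ← map_zero (Cyc.specMap ξ (genericPoint X) (hηz ξ))]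
        exact fun h0 => den_ne_zero gL hgL s hs ξ (hinj h0)
      rw [eq_div_iff hne] at h3
      rw [map_mul]
      exact h3.symm
    have e2 : num gN hgN t ht ξ = (w' : X.presheaf.stalk ξ) * den gN hgN t ht ξ := by
      apply hinj
      have h3 := lam_eq gN hgN t ht ξ
      unfold lam at h3
      rw [hw'] at h3
      have hne : Cyc.specMap ξ (genericPoint X) (hηz ξ) (den gN hgN t ht ξ) ≠ 0 := by
        rw [Ne, ← map_zero (Cyc.specMap ξ (genericPoint X) (hηz ξ))]
        exact fun h0 => den_ne_zero gN hgN t ht ξ (hinj h0)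
      rw [eq_div_iff hne] at h3
      rw [map_mul]
      exact h3.symm
    unfold TsymX
    rw [e1, e2]
    set o : ResidueField (X.presheaf.stalk ξ) → ℤ := fun z => Cyc.ordAt x ξ h z with ho_def
    have ho : ∀ y z : ResidueField (X.presheaf.stalk ξ), y ≠ 0 → z ≠ 0 →
        o (y * z) = o y + o z := fun y z hy hz => ordAt_mul hX.2.2 x ξ h hd hy hz
    exact o_Tsym_units hR o ho (den_ne_zero gL hgL s hs ξ) (den_ne_zero gN hgN t ht ξ) w w'

end Part12

section Part13

theorem finsum_combine {α : Type*} (f1 f2 f3 e1 e2 e3 e4 : α → ℤ)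
    (hf1 : (Function.support f1).Finite) (hf2 : (Function.support f2).Finite)
    (hf3 : (Function.support f3).Finite) (he1 : (Function.support e1).Finite)
    (he2 : (Function.support e2).Finite) (he3 : (Function.support e3).Finite)
    (he4 : (Function.support e4).Finite)
    (h : ∀ a, f1 a - f2 a - f3 a = -(e1 a - e2 a - e3 a + e4 a))
    (s1 : ∑ᶠ a, e1 a = 0) (s2 : ∑ᶠ a, e2 a = 0) (s3 : ∑ᶠ a, e3 a = 0) (s4 : ∑ᶠ a, e4 a = 0) :
    ∑ᶠ a, f1 a - ∑ᶠ a, f2 a = ∑ᶠ a, f3 a := by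
  have hf12 : (Function.support (fun a => f1 a - f2 a)).Finite :=
    (hf1.union hf2).subset (Function.support_sub f1 f2)
  have he12 : (Function.support (fun a => e1 a - e2 a)).Finite :=
    (he1.union he2).subset (Function.support_sub e1 e2)
  have he123 : (Function.support (fun a => e1 a - e2 a - e3 a)).Finite :=
    (he12.union he3).subset (Function.support_sub _ e3)
  have k1 : ∑ᶠ a, (f1 a - f2 a - f3 a) = ∑ᶠ a, f1 a - ∑ᶠ a, f2 a - ∑ᶠ a, f3 a := by
    rw [finsum_sub_distrib hf12 hf3, finsum_sub_distrib hf1 hf2]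
  have k2 : ∑ᶠ a, (-(e1 a - e2 a - e3 a + e4 a)) = 0 := by
    rw [finsum_neg_distrib, finsum_add_distrib he123 he4, finsum_sub_distrib he12 he3,
      finsum_sub_distrib he1 he2, s1, s2, s3, s4]
    simp
  rw [finsum_congr h, k2] at k1
  omega

end Part13

section Part14

open AlgebraicGeometry CategoryTheory TopologicalSpace IsLocalRing CycAlg
  Groth.Agent.Lib.R2H1.LocQuot Groth.Agent.Lib.R2H1.RatEquivOpen
  Groth.Agent.Lib.R2H1.FlatDivSum Groth.Agent.Lib.R2H1.TameLaws

variable {X : Scheme.{u}} [IsIntegral X]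

/-- if `s` is a unit multiple of the generator at `ξ`, its multiplicity there is zero. -/
theorem al_eq_zero_of_isU {L : X.Modules} (gL : X → Gen L) (hgL : ∀ z, z ∈ (gL z).W)
    (s : Cyc.secFibre L (genericPoint X)) (ξ : X) (h1 : IsU (gL ξ) ξ (hgL ξ) s) :
    al gL hgL s ξ = 0 := by
  obtain ⟨w, hw⟩ := h1
  unfold al lam
  rw [hw]
  exact ordAt_unit ξ (genericPoint X) _ (w : X.presheaf.stalk ξ) w.isUnit

/-- the coefficient of `div_L(s)` at `ξ` in terms of `al`. -/
theorem secDivFun_generic_al {L : X.Modules} (gL : X → Gen L) (hgL : ∀ z, z ∈ (gL z).W)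
    (s : Cyc.secFibre L (genericPoint X)) (δ : X → ℤ) (hX : Cyc.IsSetup X δ) (ξ : X) :
    Cyc.secDivFun δ L (genericPoint X) s ξ =
      if δ ξ + 1 = δ (genericPoint X) then al gL hgL s ξ else 0 :=
  secDivFun_generic gL hgL s δ hX ξ

end Part14

section Part15

open AlgebraicGeometry CategoryTheory TopologicalSpace IsLocalRing CycAlg
  Groth.Agent.Lib.R2H1.LocQuot Groth.Agent.Lib.R2H1.RatEquivOpen
  Groth.Agent.Lib.R2H1.FlatDivSum Groth.Agent.Lib.R2H1.TameLaws

variable {X : Scheme.{u}} [IsIntegral X]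

variable {L N : X.Modules} (gL : X → Gen L) (hgL : ∀ z, z ∈ (gL z).W)
  (gN : X → Gen N) (hgN : ∀ z, z ∈ (gN z).W)
  (s : Cyc.secFibre L (genericPoint X)) (hs : s ≠ 0)
  (t : Cyc.secFibre N (genericPoint X)) (ht : t ≠ 0)
  (u : (ξ : X) → Cyc.secFibre N ξ) (v : (ξ : X) → Cyc.secFibre L ξ)

/-- the points where something happens. -/
def Bad (δ : X → ℤ) (ξ : X) : Prop :=
  δ ξ + 1 = δ (genericPoint X) ∧ ¬ (IsU (gL ξ) ξ (hgL ξ) s ∧ IsU (gN ξ) ξ (hgN ξ) t)

/-- the pointwise identity at a codimension two point `x`. -/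
theorem pointwise (δ : X → ℤ) (hX : Cyc.IsSetup X δ) (hu : ∀ ξ, u ξ ≠ 0) (hv : ∀ ξ, v ξ ≠ 0)
    (x ξ : X) (hc : ξ ⤳ x ∧ δ x + 1 = δ ξ) (hξ : δ ξ + 1 = δ (genericPoint X)) :
    Cyc.secDivFun δ L (genericPoint X) s ξ * Cyc.secDivFun δ N ξ (u ξ) x -
      Cyc.secDivFun δ N (genericPoint X) t ξ * Cyc.secDivFun δ L ξ (v ξ) x -
      (open Classical in if Bad gL hgL gN hgN s t δ ξ then
        Cyc.divFun δ ξ (Ffun gL hgL gN hgN s hs t ht u v ξ) x else 0) =
    -(Dfun δ x (num gL hgL s hs x) (num gN hgN t ht x) ξ -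
      Dfun δ x (num gL hgL s hs x) (den gN hgN t ht x) ξ -
      Dfun δ x (den gL hgL s hs x) (num gN hgN t ht x) ξ +
      Dfun δ x (den gL hgL s hs x) (den gN hgN t ht x) ξ) := by
  classical
  haveI : IsLocallyNoetherian X := hX.1
  have hpp : Dfun δ x (num gL hgL s hs x) (num gN hgN t ht x) ξ -
      Dfun δ x (num gL hgL s hs x) (den gN hgN t ht x) ξ -
      Dfun δ x (den gL hgL s hs x) (num gN hgN t ht x) ξ +
      Dfun δ x (den gL hgL s hs x) (den gN hgN t ht x) ξ =
      Cyc.ordAt x ξ hc.1 (TsymX ξ (num gL hgL s hs ξ) (den gL hgL s hs ξ)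
          (num gN hgN t ht ξ) (den gN hgN t ht ξ))
        - al gL hgL s ξ *
          Cyc.ordAt x ξ hc.1 (X.residue ξ ((gN x).cc (gN ξ) ξ
            (hc.1.mem_open (gN x).W.isOpen (hgN x)) (hgN ξ)))
        + al gN hgN t ξ *
          Cyc.ordAt x ξ hc.1 (X.residue ξ ((gL x).cc (gL ξ) ξ
            (hc.1.mem_open (gL x).W.isOpen (hgL x)) (hgL ξ))) :=
    per_point δ hX x ξ hc.1 hc.2 hξ (gL x) (gL ξ) (gN x) (gN ξ) (hgL x) (hgN x) (hgL ξ) (hgN ξ)
      s t (hηz ξ) (hηz x) (num gL hgL s hs ξ) (den gL hgL s hs ξ) (num gN hgN t ht ξ)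
      (den gN hgN t ht ξ) (num_ne_zero gL hgL s hs ξ) (den_ne_zero gL hgL s hs ξ)
      (num_ne_zero gN hgN t ht ξ) (den_ne_zero gN hgN t ht ξ)
      (num gL hgL s hs x) (den gL hgL s hs x) (num gN hgN t ht x) (den gN hgN t ht x)
      (num_ne_zero gL hgL s hs x) (den_ne_zero gL hgL s hs x)
      (num_ne_zero gN hgN t ht x) (den_ne_zero gN hgN t ht x)
      (lam_eq gL hgL s hs ξ) (lam_eq gN hgN t ht ξ) (lam_eq gL hgL s hs x) (lam_eq gN hgN t ht x)
  rw [hpp, secDivFun_generic_al gL hgL s δ hX ξ, if_pos hξ,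
    secDivFun_generic_al gN hgN t δ hX ξ, if_pos hξ,
    secDivFun_point gN hgN δ hX ξ (u ξ) (hu ξ) x hc.1 hc.2,
    secDivFun_point gL hgL δ hX ξ (v ξ) (hv ξ) x hc.1 hc.2]
  by_cases hb : Bad gL hgL gN hgN s t δ ξ
  · rw [if_pos hb]
    have e3 : Cyc.divFun δ ξ (Ffun gL hgL gN hgN s hs t ht u v ξ) x =
        Cyc.ordAt x ξ hc.1 (Ffun gL hgL gN hgN s hs t ht u v ξ) := by
      unfold Cyc.divFun
      exact dif_pos hc
    rw [e3, ordAt_Ffun gL hgL gN hgN s hs t ht u v δ hX hu hv ξ x hc.1 hc.2 hξ]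
    ring
  · rw [if_neg hb]
    have hU : IsU (gL ξ) ξ (hgL ξ) s ∧ IsU (gN ξ) ξ (hgN ξ) t := by
      by_contra h
      exact hb ⟨hξ, h⟩
    obtain ⟨z1, z2, z3⟩ := terms_of_isU gL hgL gN hgN s hs t ht δ hX ξ hξ hU.1 hU.2
    rw [z1, z2, z3 x hc.1 hc.2]
    ring

end Part15

section Part16

open AlgebraicGeometry CategoryTheory TopologicalSpace IsLocalRing CycAlg
  Groth.Agent.Lib.R2H1.LocQuot Groth.Agent.Lib.R2H1.RatEquivOpen
  Groth.Agent.Lib.R2H1.FlatDivSum Groth.Agent.Lib.R2H1.TameLaws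

/-- S1920: `c_1(N) ∩ div_L(s) ∼ c_1(L) ∩ div_N(t)` on an integral scheme. -/
theorem main (X : Scheme.{u}) [IsIntegral X] (δ : X → ℤ) (hX : Cyc.IsSetup X δ) (n : ℤ)
    (hn : δ (genericPoint X) = n) (L N : X.Modules) (hL : PicF.IsInvertible L)
    (hN : PicF.IsInvertible N) (s : Cyc.secFibre L (genericPoint X)) (hs : s ≠ 0)
    (t : Cyc.secFibre N (genericPoint X)) (ht : t ≠ 0) (u : (ξ : X) → Cyc.secFibre N ξ)
    (hu : ∀ ξ, u ξ ≠ 0) (v : (ξ : X) → Cyc.secFibre L ξ) (hv : ∀ ξ, v ξ ≠ 0)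
    (γ₁ γ₂ : AlgebraicCycle X ℤ)
    (h₁ : ⇑γ₁ = Cyc.c1CapFun δ N (Cyc.secDivFun δ L (genericPoint X) s) u)
    (h₂ : ⇑γ₂ = Cyc.c1CapFun δ L (Cyc.secDivFun δ N (genericPoint X) t) v) :
    Cyc.RatEquiv δ (n - 2) γ₁ γ₂ := by
  classical
  haveI : IsLocallyNoetherian X := hX.1
  have hδ := hX.2.2
  choose gL hgL using exists_gen L hL
  choose gN hgN using exists_gen N hN
  unfold Cyc.RatEquiv Cyc.RatEquivZero
  refine ⟨{ξ : X // Bad gL hgL gN hgN s t δ ξ}, Subtype.val,
    fun i => Ffun gL hgL gN hgN s hs t ht u v i.1, ?_, ?_, ?_, ?_⟩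
  · intro i
    have := i.2.1
    omega
  · intro i
    exact Ffun_ne_zero gL hgL gN hgN s hs t ht u v δ hX hu hv i.1 i.2.1
  · -- local finiteness
    intro x
    obtain ⟨U1, hx1, hfin1⟩ := bad_locallyFinite δ hX gL hgL s hs x
    obtain ⟨U2, hx2, hfin2⟩ := bad_locallyFinite δ hX gN hgN t ht x
    refine ⟨((U1 ⊓ U2 : X.Opens) : Set X), (U1 ⊓ U2).isOpen, ⟨hx1, hx2⟩, ?_⟩
    refine ((hfin1.union hfin2).preimage Subtype.val_injective.injOn).subset ?_
    rintro i ⟨y, hy, hyU⟩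
    have hsp : i.1 ⤳ y := specializes_iff_mem_closure.mpr hy
    have hiU : i.1 ∈ (U1 ⊓ U2 : X.Opens) := hsp.mem_open (U1 ⊓ U2).isOpen hyU
    rw [Set.mem_preimage, Set.mem_union]
    by_cases h : IsU (gL i.1) i.1 (hgL i.1) s
    · right
      exact ⟨hiU.2, i.2.1, fun h' => i.2.2 ⟨h, h'⟩⟩
    · left
      exact ⟨hiU.1, i.2.1, h⟩
  · -- pointwise identity
    intro x
    have hsub : (γ₁ - γ₂) x = γ₁ x - γ₂ x := by
      rw [Function.locallyFinsuppWithin.coe_sub]
      rfl
    rw [hsub, h₁, h₂]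
    unfold Cyc.c1CapFun
    set G₁ : X → ℤ := fun ξ =>
      Cyc.secDivFun δ L (genericPoint X) s ξ * Cyc.secDivFun δ N ξ (u ξ) x with hG₁
    set G₂ : X → ℤ := fun ξ =>
      Cyc.secDivFun δ N (genericPoint X) t ξ * Cyc.secDivFun δ L ξ (v ξ) x with hG₂
    set H : X → ℤ := fun ξ => if Bad gL hgL gN hgN s t δ ξ then
      Cyc.divFun δ ξ (Ffun gL hgL gN hgN s hs t ht u v ξ) x else 0 with hH
    have hsumH : ∑ᶠ i : {ξ : X // Bad gL hgL gN hgN s t δ ξ},
        Cyc.divFun δ i.1 (Ffun gL hgL gN hgN s hs t ht u v i.1) x = ∑ᶠ ξ, H ξ := by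
      have h1 : ∀ i : {ξ : X // Bad gL hgL gN hgN s t δ ξ},
          Cyc.divFun δ i.1 (Ffun gL hgL gN hgN s hs t ht u v i.1) x = H i.1 := by
        intro i
        rw [hH]
        exact (if_pos i.2).symm
      rw [finsum_congr h1]
      refine (finsum_set_coe_eq_finsum_mem (f := H)
        {ξ : X | Bad gL hgL gN hgN s t δ ξ}).trans ?_
      rw [← finsum_mem_univ H]
      apply finsum_mem_inter_support_eq'
      intro ξ hξ
      simp only [Set.mem_univ, iff_true]
      rw [Function.mem_support, hH] at hξ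
      by_contra hb
      exact hξ (if_neg hb)
    show ∑ᶠ ξ, G₁ ξ - ∑ᶠ ξ, G₂ ξ = ∑ᶠ i : {ξ : X // Bad gL hgL gN hgN s t δ ξ},
        Cyc.divFun δ i.1 (Ffun gL hgL gN hgN s hs t ht u v i.1) x
    rw [hsumH]
    -- vanishing away from the immediate generizations of `x`
    have hcond : ∀ ξ, ¬ (ξ ⤳ x ∧ δ x + 1 = δ ξ) → G₁ ξ = 0 ∧ G₂ ξ = 0 ∧ H ξ = 0 := by
      intro ξ hc
      refine ⟨?_, ?_, ?_⟩
      · show Cyc.secDivFun δ L (genericPoint X) s ξ * Cyc.secDivFun δ N ξ (u ξ) x = 0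
        rw [secDivFun_point_of_not δ ξ (u ξ) x hc, mul_zero]
      · show Cyc.secDivFun δ N (genericPoint X) t ξ * Cyc.secDivFun δ L ξ (v ξ) x = 0
        rw [secDivFun_point_of_not δ ξ (v ξ) x hc, mul_zero]
      · show (if Bad gL hgL gN hgN s t δ ξ then
          Cyc.divFun δ ξ (Ffun gL hgL gN hgN s hs t ht u v ξ) x else 0) = 0
        split_ifs
        · unfold Cyc.divFun
          exact dif_neg hc
        · rfl
    by_cases hx : δ x + 2 = δ (genericPoint X)
    swap
    · have hz : ∀ ξ, G₁ ξ = 0 ∧ G₂ ξ = 0 ∧ H ξ = 0 := by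
        intro ξ
        by_cases hc : ξ ⤳ x ∧ δ x + 1 = δ ξ
        · have hne : ¬ (δ ξ + 1 = δ (genericPoint X)) := by omega
          refine ⟨?_, ?_, ?_⟩
          · show Cyc.secDivFun δ L (genericPoint X) s ξ * Cyc.secDivFun δ N ξ (u ξ) x = 0
            rw [secDivFun_generic_al gL hgL s δ hX ξ, if_neg hne, zero_mul]
          · show Cyc.secDivFun δ N (genericPoint X) t ξ * Cyc.secDivFun δ L ξ (v ξ) x = 0
            rw [secDivFun_generic_al gN hgN t δ hX ξ, if_neg hne, zero_mul]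
          · show (if Bad gL hgL gN hgN s t δ ξ then
              Cyc.divFun δ ξ (Ffun gL hgL gN hgN s hs t ht u v ξ) x else 0) = 0
            rw [if_neg (fun hb => hne hb.1)]
        · exact hcond ξ hc
      rw [finsum_congr (fun ξ => (hz ξ).1), finsum_congr (fun ξ => (hz ξ).2.1),
        finsum_congr (fun ξ => (hz ξ).2.2)]
      simp
    · have ha₀ := num_ne_zero gL hgL s hs x
      have hb₀ := den_ne_zero gL hgL s hs x
      have hc₀ := num_ne_zero gN hgN t ht x
      have hd₀ := den_ne_zero gN hgN t ht x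
      obtain ⟨hE1, hS1⟩ := key_geometric δ hX x hx _ _ ha₀ hc₀
      obtain ⟨hE2, hS2⟩ := key_geometric δ hX x hx _ _ ha₀ hd₀
      obtain ⟨hE3, hS3⟩ := key_geometric δ hX x hx _ _ hb₀ hc₀
      obtain ⟨hE4, hS4⟩ := key_geometric δ hX x hx _ _ hb₀ hd₀
      obtain ⟨U1, hx1, hfin1⟩ := bad_locallyFinite δ hX gL hgL s hs x
      obtain ⟨U2, hx2, hfin2⟩ := bad_locallyFinite δ hX gN hgN t ht x
      have hG₁fin : (Function.support G₁).Finite := by
        refine hfin1.subset ?_
        intro ξ hξ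
        rw [Function.mem_support] at hξ
        by_cases hc : ξ ⤳ x ∧ δ x + 1 = δ ξ
        · refine ⟨hc.1.mem_open U1.isOpen hx1, by omega, ?_⟩
          intro hU
          apply hξ
          show Cyc.secDivFun δ L (genericPoint X) s ξ * Cyc.secDivFun δ N ξ (u ξ) x = 0
          rw [secDivFun_generic_al gL hgL s δ hX ξ, if_pos (by omega),
            al_eq_zero_of_isU gL hgL s ξ hU, zero_mul]
        · exact absurd (hcond ξ hc).1 hξ
      have hG₂fin : (Function.support G₂).Finite := by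
        refine hfin2.subset ?_
        intro ξ hξ
        rw [Function.mem_support] at hξ
        by_cases hc : ξ ⤳ x ∧ δ x + 1 = δ ξ
        · refine ⟨hc.1.mem_open U2.isOpen hx2, by omega, ?_⟩
          intro hU
          apply hξ
          show Cyc.secDivFun δ N (genericPoint X) t ξ * Cyc.secDivFun δ L ξ (v ξ) x = 0
          rw [secDivFun_generic_al gN hgN t δ hX ξ, if_pos (by omega),
            al_eq_zero_of_isU gN hgN t ξ hU, zero_mul]
        · exact absurd (hcond ξ hc).2.1 hξ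
      have hHfin : (Function.support H).Finite := by
        refine (hfin1.union hfin2).subset ?_
        intro ξ hξ
        rw [Function.mem_support] at hξ
        by_cases hc : ξ ⤳ x ∧ δ x + 1 = δ ξ
        · have hb : Bad gL hgL gN hgN s t δ ξ := by
            by_contra hb
            exact hξ (if_neg hb)
          by_cases h : IsU (gL ξ) ξ (hgL ξ) s
          · right
            exact ⟨hc.1.mem_open U2.isOpen hx2, hb.1, fun h' => hb.2 ⟨h, h'⟩⟩
          · left
            exact ⟨hc.1.mem_open U1.isOpen hx1, hb.1, h⟩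
        · exact absurd (hcond ξ hc).2.2 hξ
      have hpt : ∀ ξ, G₁ ξ - G₂ ξ - H ξ =
          -(Dfun δ x (num gL hgL s hs x) (num gN hgN t ht x) ξ -
            Dfun δ x (num gL hgL s hs x) (den gN hgN t ht x) ξ -
            Dfun δ x (den gL hgL s hs x) (num gN hgN t ht x) ξ +
            Dfun δ x (den gL hgL s hs x) (den gN hgN t ht x) ξ) := by
        intro ξ
        by_cases hc : ξ ⤳ x ∧ δ x + 1 = δ ξ
        · have hξ : δ ξ + 1 = δ (genericPoint X) := by omega
          have := pointwise gL hgL gN hgN s hs t ht u v δ hX hu hv x ξ hc hξ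
          convert this using 2
        · obtain ⟨z1, z2, z3⟩ := hcond ξ hc
          rw [z1, z2, z3, Dfun_neg δ x _ _ ξ hc, Dfun_neg δ x _ _ ξ hc, Dfun_neg δ x _ _ ξ hc,
            Dfun_neg δ x _ _ ξ hc]
          ring
      exact finsum_combine G₁ G₂ H _ _ _ _ hG₁fin hG₂fin hHfin
        hE1 hE2 hE3 hE4 hpt hS1 hS2 hS3 hS4

end Part16

end Groth.Agent.Lib.R2H1.C1Comm
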