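/-
R2H1C1Rel (helper1, round 2): relative version of the commutativity of first Chern classes, at an arbitrary point xi0
of a scheme with a dimension function (S1921 Cyc.c1Cap_ratEquivZero, S1922 Cyc.c1Cap_c1Cap_comm).
Contents: the local rings O_{X,z}/p of the closure of xi0 (`locQuot_isLocalRing`, `resEquiv`, `resX`, `sig`,
`isLocalization_sig`, `quotEquiv`, `tame_transport_rel`), the relative key lemma (`DfunR`, `key_rel`: S1851 for O_{X,x}/p),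
local finiteness (`finite_codim_one_not_basicOpen`, `isU_locallyFinite`), abstract divisor data `CData xi0` (coordinates
`lam`, transition units `cc`, auxiliary coordinates `ub`; `coef`, `dv`, `IsU`, `bad_locallyFinite`, `num`, `den`),
`cross_mul_rel`, `per_point_rel`, `FfunR`, `terms_of_isU_rel`, `pointwise_rel`, `main_abs` (the commutator of two divisor
data is a locally finite sum of principal divisors), instances `ofMod` (invertible module with local generators) and `ofFun`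
(rational function), `family_ratEquivZero`, finsum interchange lemmas, `family_main`, `main1921`, `main1922`.
-/
import Mathlib
import Groth.Prelude.Def_Cyc
import Groth.Prelude.Def_C1
import Groth.Prelude.Def_Tame
import Groth.Agent.S1851
import Groth.Agent.Lib.R2H1KeyLemma
import Groth.Agent.Lib.Helper4DimFormulaX
import Groth.Agent.Lib.R2H1C1Comm
import Groth.Agent.Lib.R2H1RatEquivClosed

set_option autoImplicit false
set_option linter.style.haveILetI false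
set_option linter.unusedSectionVars false
universe u v

namespace Groth.Agent.Lib.R2H1.C1Rel

section Part1

open AlgebraicGeometry CategoryTheory TopologicalSpace IsLocalRing CycAlg
  Groth.Agent.Lib.R2H1.LocQuot Groth.Agent.Lib.R2H1.RatEquivOpen
  Groth.Agent.Lib.R2H1.FlatDivSum Groth.Agent.Lib.R2H1.TameLaws
  Groth.Agent.Lib.R2H1.C1Comm

variable {X : Scheme.{u}}

instance locQuot_isLocalRing (z ξ₀ : X) (h : ξ₀ ⤳ z) : IsLocalRing (Cyc.LocQuot z ξ₀ h) :=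
  IsLocalRing.of_surjective' (Ideal.Quotient.mk _) Ideal.Quotient.mk_surjective

instance locQuot_mk_isLocalHom (z ξ₀ : X) (h : ξ₀ ⤳ z) :
    IsLocalHom (Ideal.Quotient.mk (RingHom.ker (Cyc.specMap z ξ₀ h))) :=
  IsLocalHom.of_surjective _ Ideal.Quotient.mk_surjective

theorem resMap_bijective (z ξ₀ : X) (h : ξ₀ ⤳ z) :
    Function.Bijective
      (ResidueField.map (Ideal.Quotient.mk (RingHom.ker (Cyc.specMap z ξ₀ h)))) := by
  refine ⟨RingHom.injective _, ?_⟩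
  intro y
  obtain ⟨r, rfl⟩ := IsLocalRing.residue_surjective y
  obtain ⟨r, rfl⟩ := Ideal.Quotient.mk_surjective r
  exact ⟨IsLocalRing.residue _ r, ResidueField.map_residue _ r⟩

/-- the residue field of `z` is the residue field of `O_{X,z}/𝔭`. -/
noncomputable def resEquivAux (z ξ₀ : X) (h : ξ₀ ⤳ z) :
    ResidueField (X.presheaf.stalk z) ≃+* ResidueField (Cyc.LocQuot z ξ₀ h) :=
  RingEquiv.ofBijective
    (ResidueField.map (Ideal.Quotient.mk (RingHom.ker (Cyc.specMap z ξ₀ h))))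
    (resMap_bijective z ξ₀ h)

/-- the residue field of `O_{X,z}/𝔭` is the residue field of `z`. -/
noncomputable def resEquiv (z ξ₀ : X) (h : ξ₀ ⤳ z) :
    ResidueField (Cyc.LocQuot z ξ₀ h) ≃+* ResidueField (X.presheaf.stalk z) :=
  (resEquivAux z ξ₀ h).symm

theorem resEquiv_residue_mk (z ξ₀ : X) (h : ξ₀ ⤳ z) (a : X.presheaf.stalk z) :
    resEquiv z ξ₀ h (IsLocalRing.residue _ (Ideal.Quotient.mk _ a)) =
      IsLocalRing.residue _ a := by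
  unfold resEquiv
  rw [RingEquiv.symm_apply_eq]
  exact (ResidueField.map_residue _ a).symm

/-- `resEquiv` as a function with values in `X.residueField z`. -/
noncomputable def resX (z ξ₀ : X) (h : ξ₀ ⤳ z) (y : ResidueField (Cyc.LocQuot z ξ₀ h)) :
    X.residueField z :=
  resEquiv z ξ₀ h y

theorem resX_mul (z ξ₀ : X) (h : ξ₀ ⤳ z) (y y' : ResidueField (Cyc.LocQuot z ξ₀ h)) :
    resX z ξ₀ h (y * y') = resX z ξ₀ h y * resX z ξ₀ h y' :=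
  map_mul (resEquiv z ξ₀ h) y y'

theorem resX_one (z ξ₀ : X) (h : ξ₀ ⤳ z) : resX z ξ₀ h 1 = 1 :=
  map_one (resEquiv z ξ₀ h)

theorem resX_ne_zero (z ξ₀ : X) (h : ξ₀ ⤳ z) {y : ResidueField (Cyc.LocQuot z ξ₀ h)}
    (hy : y ≠ 0) : resX z ξ₀ h y ≠ 0 := by
  intro h0
  apply hy
  apply (resEquiv z ξ₀ h).injective
  rw [map_zero]
  exact h0

theorem resX_residue_mk (z ξ₀ : X) (h : ξ₀ ⤳ z) (a : X.presheaf.stalk z) :
    resX z ξ₀ h (IsLocalRing.residue _ (Ideal.Quotient.mk _ a)) = X.residue z a :=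
  resEquiv_residue_mk z ξ₀ h a

/-- `resEquiv` with values in `X.residueField z`. -/
noncomputable def resEquivX (z ξ₀ : X) (h : ξ₀ ⤳ z) :
    ResidueField (Cyc.LocQuot z ξ₀ h) ≃+* X.residueField z :=
  resEquiv z ξ₀ h

theorem resEquivX_apply (z ξ₀ : X) (h : ξ₀ ⤳ z) (y : ResidueField (Cyc.LocQuot z ξ₀ h)) :
    resEquivX z ξ₀ h y = resX z ξ₀ h y := rfl

theorem mapEquiv_residue {R S : Type*} [CommRing R] [CommRing S] [IsLocalRing R] [IsLocalRing S]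
    (f : R ≃+* S) (r : R) :
    ResidueField.mapEquiv f (IsLocalRing.residue R r) = IsLocalRing.residue S (f r) := rfl

/-- the map `O_{X,x}/𝔭 → O_{X,ξ}/𝔭` induced by a specialization `ξ ⤳ x` in the closure of `ξ₀`. -/
noncomputable def sig (x ξ ξ₀ : X) (h : ξ ⤳ x) (h₀ : ξ₀ ⤳ ξ) :
    Cyc.LocQuot x ξ₀ (h₀.trans h) →+* Cyc.LocQuot ξ ξ₀ h₀ :=
  Ideal.quotientMap _ (X.presheaf.stalkSpecializes h).hom (by
    intro r hr
    rw [Ideal.mem_comap, RingHom.mem_ker]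
    rw [RingHom.mem_ker] at hr
    change Cyc.specMap ξ ξ₀ h₀ (X.presheaf.stalkSpecializes h r) = 0
    rw [specMap_comp x ξ ξ₀ h h₀ r]
    exact hr)

theorem sig_mk (x ξ ξ₀ : X) (h : ξ ⤳ x) (h₀ : ξ₀ ⤳ ξ) (r : X.presheaf.stalk x) :
    sig x ξ ξ₀ h h₀ (Ideal.Quotient.mk _ r) =
      Ideal.Quotient.mk _ (X.presheaf.stalkSpecializes h r) := by
  unfold sig
  exact Ideal.quotientMap_mk

theorem sig_injective (x ξ ξ₀ : X) (h : ξ ⤳ x) (h₀ : ξ₀ ⤳ ξ) :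
    Function.Injective (sig x ξ ξ₀ h h₀) := by
  intro r r' hrr'
  obtain ⟨r, rfl⟩ := Ideal.Quotient.mk_surjective r
  obtain ⟨r', rfl⟩ := Ideal.Quotient.mk_surjective r'
  rw [sig_mk, sig_mk] at hrr'
  apply algebraMap_locQuot_injective x ξ₀ (h₀.trans h)
  have := congrArg (algebraMap (Cyc.LocQuot ξ ξ₀ h₀) (X.residueField ξ₀)) hrr'
  rw [algebraMap_locQuot_mk, algebraMap_locQuot_mk, specMap_comp, specMap_comp] at this
  rw [algebraMap_locQuot_mk, algebraMap_locQuot_mk]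
  exact this

end Part1

section Part2

open AlgebraicGeometry CategoryTheory TopologicalSpace IsLocalRing CycAlg
  Groth.Agent.Lib.R2H1.LocQuot Groth.Agent.Lib.R2H1.RatEquivOpen
  Groth.Agent.Lib.R2H1.FlatDivSum Groth.Agent.Lib.R2H1.TameLaws
  Groth.Agent.Lib.R2H1.C1Comm

variable {X : Scheme.{u}}

/-- `O_{X,ξ}/𝔭` is the localization of `O_{X,x}/𝔭` at the prime of `ξ`. -/
theorem isLocalization_sig (x ξ ξ₀ : X) (h : ξ ⤳ x) (h₀ : ξ₀ ⤳ ξ)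
    (q : Ideal (Cyc.LocQuot x ξ₀ (h₀.trans h))) [q.IsPrime]
    (hq : q.comap (Ideal.Quotient.mk _) = RingHom.ker (Cyc.specMap x ξ h)) :
    letI := (sig x ξ ξ₀ h h₀).toAlgebra
    IsLocalization.AtPrime (Cyc.LocQuot ξ ξ₀ h₀) q := by
  letI := (sig x ξ ξ₀ h h₀).toAlgebra
  letI := (X.presheaf.stalkSpecializes h).hom.toAlgebra
  haveI := isLocalization_stalkSpecializes x ξ h
  have halg : ∀ r, algebraMap (Cyc.LocQuot x ξ₀ (h₀.trans h)) (Cyc.LocQuot ξ ξ₀ h₀) r =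
      sig x ξ ξ₀ h h₀ r := fun r => rfl
  have halg' : ∀ r : X.presheaf.stalk x, algebraMap (X.presheaf.stalk x) (X.presheaf.stalk ξ) r =
      X.presheaf.stalkSpecializes h r := fun r => rfl
  have hmem : ∀ r : X.presheaf.stalk x,
      Ideal.Quotient.mk _ r ∈ q ↔ r ∈ RingHom.ker (Cyc.specMap x ξ h) := by
    intro r
    rw [← hq, Ideal.mem_comap]
  refine (isLocalization_iff _ _).mpr ⟨?_, ?_, ?_⟩
  · rintro ⟨y, hy⟩
    obtain ⟨r, rfl⟩ := Ideal.Quotient.mk_surjective y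
    have hr : r ∈ (RingHom.ker (Cyc.specMap x ξ h)).primeCompl := fun hr => hy ((hmem r).mpr hr)
    have hu : IsUnit (X.presheaf.stalkSpecializes h r) :=
      IsLocalization.map_units (X.presheaf.stalk ξ) ⟨r, hr⟩
    rw [halg, sig_mk]
    exact hu.map _
  · intro z
    obtain ⟨t, rfl⟩ := Ideal.Quotient.mk_surjective z
    obtain ⟨⟨a, s⟩, hsu⟩ := IsLocalization.surj (RingHom.ker (Cyc.specMap x ξ h)).primeCompl t
    refine ⟨⟨Ideal.Quotient.mk _ a, ⟨Ideal.Quotient.mk _ s.1, fun hs => s.2 ((hmem s.1).mp hs)⟩⟩, ?_⟩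
    rw [halg, halg, sig_mk, sig_mk, ← map_mul]
    exact congrArg _ hsu
  · intro y y' hyy'
    exact ⟨1, by rw [sig_injective x ξ ξ₀ h h₀ hyy']⟩

/-- the composite `O_{X,x} → O_{X,x}/𝔭 → (O_{X,x}/𝔭)/q`. -/
noncomputable def quotMap (x ξ₀ : X) (h : ξ₀ ⤳ x) (q : Ideal (Cyc.LocQuot x ξ₀ h)) :
    X.presheaf.stalk x →+* (Cyc.LocQuot x ξ₀ h ⧸ q) :=
  (Ideal.Quotient.mk q).comp (Ideal.Quotient.mk _)

theorem quotMap_surjective (x ξ₀ : X) (h : ξ₀ ⤳ x) (q : Ideal (Cyc.LocQuot x ξ₀ h)) :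
    Function.Surjective (quotMap x ξ₀ h q) :=
  Ideal.Quotient.mk_surjective.comp Ideal.Quotient.mk_surjective

theorem ker_quotMap (x ξ₀ : X) (h : ξ₀ ⤳ x) (q : Ideal (Cyc.LocQuot x ξ₀ h)) :
    RingHom.ker (quotMap x ξ₀ h q) = q.comap (Ideal.Quotient.mk _) := by
  ext r
  unfold quotMap
  rw [Ideal.mem_comap, RingHom.mem_ker, RingHom.comp_apply, Ideal.Quotient.eq_zero_iff_mem]

/-- the quotient of `O_{X,x}/𝔭` by the prime of `ξ` is `O_{X,x}/𝔭_ξ`. -/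
noncomputable def quotEquiv (x ξ ξ₀ : X) (h : ξ ⤳ x) (h₀ : ξ₀ ⤳ ξ)
    (q : Ideal (Cyc.LocQuot x ξ₀ (h₀.trans h)))
    (hq : q.comap (Ideal.Quotient.mk _) = RingHom.ker (Cyc.specMap x ξ h)) :
    (Cyc.LocQuot x ξ₀ (h₀.trans h) ⧸ q) ≃+* Cyc.LocQuot x ξ h :=
  ((Ideal.quotEquivOfEq (hq.symm.trans (ker_quotMap x ξ₀ (h₀.trans h) q).symm)).trans
    (RingHom.quotientKerEquivOfSurjective (quotMap_surjective x ξ₀ (h₀.trans h) q))).symm

theorem quotEquiv_mk (x ξ ξ₀ : X) (h : ξ ⤳ x) (h₀ : ξ₀ ⤳ ξ)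
    (q : Ideal (Cyc.LocQuot x ξ₀ (h₀.trans h)))
    (hq : q.comap (Ideal.Quotient.mk _) = RingHom.ker (Cyc.specMap x ξ h))
    (r : X.presheaf.stalk x) :
    quotEquiv x ξ ξ₀ h h₀ q hq (Ideal.Quotient.mk q (Ideal.Quotient.mk _ r)) =
      Ideal.Quotient.mk _ r := by
  unfold quotEquiv
  rw [RingEquiv.symm_apply_eq, RingEquiv.trans_apply, Ideal.quotEquivOfEq_mk,
    RingHom.quotientKerEquivOfSurjective_apply_mk]
  unfold quotMap
  rw [RingHom.comp_apply]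

/-- transport of the local terms of the key lemma for `A = O_{X,x}/𝔭`. -/
theorem tame_transport_rel [IsLocallyNoetherian X] (x ξ ξ₀ : X) (h : ξ ⤳ x) (h₀ : ξ₀ ⤳ ξ)
    (q : Ideal (Cyc.LocQuot x ξ₀ (h₀.trans h))) [q.IsPrime]
    (hq : q.comap (Ideal.Quotient.mk _) = RingHom.ker (Cyc.specMap x ξ h))
    (hdim : ringKrullDim (Localization.AtPrime q) = 1)
    (a b : Cyc.LocQuot x ξ₀ (h₀.trans h))
    (ha : algebraMap _ (Localization.AtPrime q) a ∈ nonZeroDivisors (Localization.AtPrime q))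
    (hb : algebraMap _ (Localization.AtPrime q) b ∈ nonZeroDivisors (Localization.AtPrime q)) :
    CycAlg.ordFrac (Cyc.LocQuot x ξ₀ (h₀.trans h) ⧸ q) q.ResidueField
      (CycAlg.tameSymbol (Localization.AtPrime q)
        (algebraMap _ (Localization.AtPrime q) a) (algebraMap _ (Localization.AtPrime q) b)) =
    Cyc.ordAt x ξ h (resX ξ ξ₀ h₀ (CycAlg.tameSymbol (Cyc.LocQuot ξ ξ₀ h₀)
      (sig x ξ ξ₀ h h₀ a) (sig x ξ ξ₀ h h₀ b))) := by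
  letI := (sig x ξ ξ₀ h h₀).toAlgebra
  haveI := isLocalization_sig x ξ ξ₀ h h₀ q hq
  let e : Localization.AtPrime q ≃ₐ[Cyc.LocQuot x ξ₀ (h₀.trans h)] Cyc.LocQuot ξ ξ₀ h₀ :=
    IsLocalization.algEquiv q.primeCompl (Localization.AtPrime q) (Cyc.LocQuot ξ ξ₀ h₀)
  have hsym := tameSymbol_ringEquiv e.toRingEquiv hdim _ _ ha hb
  have hea : ∀ r : Cyc.LocQuot x ξ₀ (h₀.trans h),
      e.toRingEquiv (algebraMap _ (Localization.AtPrime q) r) = sig x ξ ξ₀ h h₀ r :=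
    fun r => e.commutes r
  rw [hea, hea] at hsym
  have hcompat : ∀ r : Cyc.LocQuot x ξ₀ (h₀.trans h) ⧸ q,
      ((ResidueField.mapEquiv e.toRingEquiv).trans (resEquivX ξ ξ₀ h₀))
        (algebraMap (Cyc.LocQuot x ξ₀ (h₀.trans h) ⧸ q) q.ResidueField r) =
      algebraMap (Cyc.LocQuot x ξ h) (X.residueField ξ) (quotEquiv x ξ ξ₀ h h₀ q hq r) := by
    intro r
    obtain ⟨r, rfl⟩ := Ideal.Quotient.mk_surjective r
    obtain ⟨r, rfl⟩ := Ideal.Quotient.mk_surjective r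
    rw [quotEquiv_mk, algebraMap_locQuot_mk, Ideal.algebraMap_quotient_residueField_mk,
      IsScalarTower.algebraMap_apply (Cyc.LocQuot x ξ₀ (h₀.trans h)) (Localization.AtPrime q)
        q.ResidueField, RingEquiv.trans_apply]
    have h1 : ∀ z : Localization.AtPrime q,
        algebraMap (Localization.AtPrime q) q.ResidueField z = residue _ z := fun z => rfl
    rw [h1, mapEquiv_residue, hea, sig_mk, resEquivX_apply, resX_residue_mk]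
    rfl
  have key := ordFrac_congr (R := Cyc.LocQuot x ξ₀ (h₀.trans h) ⧸ q) (R' := Cyc.LocQuot x ξ h)
    (K := q.ResidueField) (K' := X.residueField ξ) (quotEquiv x ξ ξ₀ h h₀ q hq)
    ((ResidueField.mapEquiv e.toRingEquiv).trans (resEquivX ξ ξ₀ h₀)) hcompat
    (CycAlg.tameSymbol (Localization.AtPrime q)
      (algebraMap _ (Localization.AtPrime q) a) (algebraMap _ (Localization.AtPrime q) b))
  rw [key, RingEquiv.trans_apply, hsym, resEquivX_apply]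
  rfl

end Part2

section Part3

open AlgebraicGeometry CategoryTheory TopologicalSpace IsLocalRing CycAlg
  Groth.Agent.Lib.R2H1.LocQuot Groth.Agent.Lib.R2H1.RatEquivOpen
  Groth.Agent.Lib.R2H1.FlatDivSum Groth.Agent.Lib.R2H1.TameLaws
  Groth.Agent.Lib.R2H1.C1Comm
  Groth.Agent.Lib.Helper4.DimFormula Groth.Agent.Lib.R2H1.KeyLemma

variable {X : Scheme.{u}}

/-- generization among generizations of `x` in terms of the primes of `O_{X,x}`. -/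
theorem specializes_iff_ker_le (x ξ ξ₀ : X) (h : ξ ⤳ x) (h₀x : ξ₀ ⤳ x) :
    ξ₀ ⤳ ξ ↔ RingHom.ker (Cyc.specMap x ξ₀ h₀x) ≤ RingHom.ker (Cyc.specMap x ξ h) := by
  have h1 := fromSpecStalk_ker_specMap x ξ h
  have h2 := fromSpecStalk_ker_specMap x ξ₀ h₀x
  have h3 := fromSpecStalk_specializes_iff x (RingHom.ker (Cyc.specMap x ξ₀ h₀x))
    (RingHom.ker (Cyc.specMap x ξ h))
  rw [h1, h2] at h3
  exact h3

/-- dimension of the localization. -/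
theorem ringKrullDim_localization_eq (x ξ ξ₀ : X) (h : ξ ⤳ x) (h₀ : ξ₀ ⤳ ξ)
    (q : Ideal (Cyc.LocQuot x ξ₀ (h₀.trans h))) [q.IsPrime]
    (hq : q.comap (Ideal.Quotient.mk _) = RingHom.ker (Cyc.specMap x ξ h)) :
    ringKrullDim (Localization.AtPrime q) = ringKrullDim (Cyc.LocQuot ξ ξ₀ h₀) := by
  letI := (sig x ξ ξ₀ h h₀).toAlgebra
  haveI := isLocalization_sig x ξ ξ₀ h h₀ q hq
  exact ringKrullDim_eq_of_ringEquiv
    (IsLocalization.algEquiv q.primeCompl (Localization.AtPrime q)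
      (Cyc.LocQuot ξ ξ₀ h₀)).toRingEquiv

open Classical in
/-- the local term of the relative key lemma at the point `ξ`. -/
noncomputable def DfunR (δ : X → ℤ) (ξ₀ x : X) (a b : X.presheaf.stalk x) : X → ℤ := fun ξ =>
  if h : (ξ₀ ⤳ ξ ∧ ξ ⤳ x) ∧ δ x + 1 = δ ξ then
    Cyc.ordAt x ξ h.1.2 (resX ξ ξ₀ h.1.1 (CycAlg.tameSymbol (Cyc.LocQuot ξ ξ₀ h.1.1)
      (Ideal.Quotient.mk _ (X.presheaf.stalkSpecializes h.1.2 a))
      (Ideal.Quotient.mk _ (X.presheaf.stalkSpecializes h.1.2 b))))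
  else 0

theorem DfunR_pos (δ : X → ℤ) (ξ₀ x : X) (a b : X.presheaf.stalk x) (ξ : X)
    (h : (ξ₀ ⤳ ξ ∧ ξ ⤳ x) ∧ δ x + 1 = δ ξ) :
    DfunR δ ξ₀ x a b ξ =
      Cyc.ordAt x ξ h.1.2 (resX ξ ξ₀ h.1.1 (CycAlg.tameSymbol (Cyc.LocQuot ξ ξ₀ h.1.1)
        (Ideal.Quotient.mk _ (X.presheaf.stalkSpecializes h.1.2 a))
        (Ideal.Quotient.mk _ (X.presheaf.stalkSpecializes h.1.2 b)))) := by
  unfold DfunR
  exact dif_pos h

theorem DfunR_neg (δ : X → ℤ) (ξ₀ x : X) (a b : X.presheaf.stalk x) (ξ : X)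
    (h : ¬ ((ξ₀ ⤳ ξ ∧ ξ ⤳ x) ∧ δ x + 1 = δ ξ)) : DfunR δ ξ₀ x a b ξ = 0 := by
  unfold DfunR
  exact dif_neg h

end Part3

section Part4

open AlgebraicGeometry CategoryTheory TopologicalSpace IsLocalRing CycAlg
  Groth.Agent.Lib.R2H1.LocQuot Groth.Agent.Lib.R2H1.RatEquivOpen
  Groth.Agent.Lib.R2H1.FlatDivSum Groth.Agent.Lib.R2H1.TameLaws
  Groth.Agent.Lib.R2H1.C1Comm
  Groth.Agent.Lib.Helper4.DimFormula Groth.Agent.Lib.R2H1.KeyLemma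

variable {X : Scheme.{u}}

/-- the key lemma (S1851) at a point of codimension two of the closure of `ξ₀`. -/
theorem key_rel (δ : X → ℤ) (hX : Cyc.IsSetup X δ) (ξ₀ x : X) (h₀x : ξ₀ ⤳ x)
    (hx : δ x + 2 = δ ξ₀) (a b : X.presheaf.stalk x) (ha : Cyc.specMap x ξ₀ h₀x a ≠ 0)
    (hb : Cyc.specMap x ξ₀ h₀x b ≠ 0) :
    (Function.support (DfunR δ ξ₀ x a b)).Finite ∧ ∑ᶠ ξ, DfunR δ ξ₀ x a b ξ = 0 := by
  classical
  haveI : IsLocallyNoetherian X := hX.1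
  have hδ := hX.2.2
  have hA : ringKrullDim (Cyc.LocQuot x ξ₀ h₀x) = 2 := by
    obtain ⟨k, hk, hk'⟩ := isDimFun_eq_add_locQuotDim X δ hδ x ξ₀ h₀x
    have : k = 2 := by omega
    rw [hk, this]
    rfl
  have hane : (Ideal.Quotient.mk _ a : Cyc.LocQuot x ξ₀ h₀x) ≠ 0 := by
    intro h0
    apply ha
    rw [← algebraMap_locQuot_mk, h0, map_zero]
  have hbne : (Ideal.Quotient.mk _ b : Cyc.LocQuot x ξ₀ h₀x) ≠ 0 := by
    intro h0
    apply hb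
    rw [← algebraMap_locQuot_mk, h0, map_zero]
  have ha' := mem_nonZeroDivisors_of_ne_zero hane
  have hb' := mem_nonZeroDivisors_of_ne_zero hbne
  let ψ : PrimeSpectrum (Cyc.LocQuot x ξ₀ h₀x) → PrimeSpectrum (X.presheaf.stalk x) :=
    PrimeSpectrum.comap (Ideal.Quotient.mk (RingHom.ker (Cyc.specMap x ξ₀ h₀x)))
  let φ : PrimeSpectrum (Cyc.LocQuot x ξ₀ h₀x) → X := fun q => X.fromSpecStalk x (ψ q)
  have hφspec : ∀ q, φ q ⤳ x := fun q => fromSpecStalk_specializes x _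
  have hkerφ : ∀ q : PrimeSpectrum (Cyc.LocQuot x ξ₀ h₀x),
      q.asIdeal.comap (Ideal.Quotient.mk _) = RingHom.ker (Cyc.specMap x (φ q) (hφspec q)) := by
    intro q
    haveI := q.2
    exact (ker_specMap_fromSpecStalk x (q.asIdeal.comap (Ideal.Quotient.mk _)) (hφspec q)).symm
  have h₀φ : ∀ q, ξ₀ ⤳ φ q := by
    intro q
    rw [specializes_iff_ker_le x (φ q) ξ₀ (hφspec q) h₀x, ← hkerφ q]
    intro r hr
    rw [Ideal.mem_comap, Ideal.Quotient.eq_zero_iff_mem.mpr hr]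
    exact zero_mem _
  -- height one ↔ codimension one
  have hht : ∀ q : PrimeSpectrum (Cyc.LocQuot x ξ₀ h₀x),
      q.asIdeal.height = 1 ↔ δ x + 1 = δ (φ q) := by
    intro q
    haveI := q.2
    have h1 := ringKrullDim_localization_eq x (φ q) ξ₀ (hφspec q) (h₀φ q) q.asIdeal (hkerφ q)
    rw [IsLocalization.AtPrime.ringKrullDim_eq_height q.asIdeal] at h1
    obtain ⟨k, hk, hk'⟩ := isDimFun_eq_add_locQuotDim X δ hδ (φ q) ξ₀ (h₀φ q)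
    rw [hk] at h1
    have h2 : q.asIdeal.height = (k : ℕ∞) := by exact_mod_cast h1
    rw [h2]
    constructor
    · intro h3
      have : k = 1 := by exact_mod_cast h3
      omega
    · intro h3
      have : k = 1 := by omega
      rw [this]
      rfl
  -- termwise comparison
  have hterm : ∀ q : PrimeSpectrum (Cyc.LocQuot x ξ₀ h₀x), DfunR δ ξ₀ x a b (φ q) =
      ∑ᶠ (_ : q.asIdeal.height = 1), CycAlg.ordFrac (Cyc.LocQuot x ξ₀ h₀x ⧸ q.asIdeal)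
        q.asIdeal.ResidueField (CycAlg.tameSymbol (Localization.AtPrime q.asIdeal)
          (algebraMap (Cyc.LocQuot x ξ₀ h₀x) (Localization.AtPrime q.asIdeal)
            (Ideal.Quotient.mk (RingHom.ker (Cyc.specMap x ξ₀ h₀x)) a))
          (algebraMap (Cyc.LocQuot x ξ₀ h₀x) (Localization.AtPrime q.asIdeal)
            (Ideal.Quotient.mk (RingHom.ker (Cyc.specMap x ξ₀ h₀x)) b))) := by
    intro q
    haveI := q.2
    rw [finsum_eq_if]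
    by_cases hp : q.asIdeal.height = 1
    · rw [if_pos hp, DfunR_pos δ ξ₀ x a b _ ⟨⟨h₀φ q, hφspec q⟩, (hht q).mp hp⟩]
      have hdim : ringKrullDim (Localization.AtPrime q.asIdeal) = 1 := by
        rw [IsLocalization.AtPrime.ringKrullDim_eq_height q.asIdeal, hp]; rfl
      have := tame_transport_rel x (φ q) ξ₀ (hφspec q) (h₀φ q) q.asIdeal (hkerφ q) hdim
        (Ideal.Quotient.mk (RingHom.ker (Cyc.specMap x ξ₀ h₀x)) a)
        (Ideal.Quotient.mk (RingHom.ker (Cyc.specMap x ξ₀ h₀x)) b)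
        (map_mem_nonZeroDivisors q.asIdeal ha') (map_mem_nonZeroDivisors q.asIdeal hb')
      rw [sig_mk, sig_mk] at this
      exact this.symm
    · rw [if_neg hp, DfunR_neg]
      rintro ⟨-, h2⟩
      exact hp ((hht q).mpr h2)
  have hsupp : Function.support (DfunR δ ξ₀ x a b) ⊆ Set.range φ := by
    intro ξ hξ
    rw [Function.mem_support] at hξ
    by_cases hc : (ξ₀ ⤳ ξ ∧ ξ ⤳ x) ∧ δ x + 1 = δ ξ
    · have hle := (specializes_iff_ker_le x ξ ξ₀ hc.1.2 h₀x).mp hc.1.1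
      have hmem : (⟨RingHom.ker (Cyc.specMap x ξ hc.1.2), inferInstance⟩ :
          PrimeSpectrum (X.presheaf.stalk x)) ∈ Set.range ψ := by
        rw [_root_.range_comap_of_surjective _ _ Ideal.Quotient.mk_surjective,
          PrimeSpectrum.mem_zeroLocus, Ideal.mk_ker]
        exact hle
      obtain ⟨q, hq⟩ := hmem
      refine ⟨q, ?_⟩
      change X.fromSpecStalk x (ψ q) = ξ
      rw [hq]
      exact fromSpecStalk_ker_specMap x ξ hc.1.2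
    · exact absurd (DfunR_neg δ ξ₀ x a b ξ hc) hξ
  have hinj : Function.Injective φ := by
    intro q q' hqq'
    have h1 := (X.fromSpecStalk x).isEmbedding.injective hqq'
    exact PrimeSpectrum.comap_injective_of_surjective _ Ideal.Quotient.mk_surjective h1
  constructor
  · -- finite support
    have hfin := ((finite_height_one_mem hA ha').union (finite_height_one_mem hA hb')).image φ
    refine hfin.subset ?_
    intro ξ hξ
    obtain ⟨q, rfl⟩ := hsupp hξ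
    rw [Function.mem_support] at hξ
    refine ⟨q, ?_, rfl⟩
    by_contra hcon
    rw [Set.mem_union, not_or] at hcon
    apply hξ
    by_cases hc : (ξ₀ ⤳ φ q ∧ φ q ⤳ x) ∧ δ x + 1 = δ (φ q)
    · have hp1 : q.asIdeal.height = 1 := (hht q).mpr hc.2
      have hap : Ideal.Quotient.mk (RingHom.ker (Cyc.specMap x ξ₀ h₀x)) a ∉ q.asIdeal :=
        fun h1 => hcon.1 ⟨hp1, h1⟩
      have hbp : Ideal.Quotient.mk (RingHom.ker (Cyc.specMap x ξ₀ h₀x)) b ∉ q.asIdeal :=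
        fun h1 => hcon.2 ⟨hp1, h1⟩
      rw [DfunR_pos δ ξ₀ x a b _ hc]
      have hR : ringKrullDim (Cyc.LocQuot (φ q) ξ₀ hc.1.1) = 1 :=
        ringKrullDim_locQuot hδ (φ q) ξ₀ hc.1.1 (by omega)
      have hua : IsUnit (X.presheaf.stalkSpecializes hc.1.2 a) := by
        rw [isUnit_stalkSpecializes_iff, Ne, ← RingHom.mem_ker, ← hkerφ q]
        exact hap
      have hub : IsUnit (X.presheaf.stalkSpecializes hc.1.2 b) := by
        rw [isUnit_stalkSpecializes_iff, Ne, ← RingHom.mem_ker, ← hkerφ q]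
        exact hbp
      rw [tameSymbol_units hR (hua.map (Ideal.Quotient.mk _)) (hub.map (Ideal.Quotient.mk _)),
        resX_one]
      exact ordAt_one x _ hc.1.2
    · exact DfunR_neg δ ξ₀ x a b _ hc
  · have key := Groth.Agent.S1851.result (Cyc.LocQuot x ξ₀ h₀x) hA _ _ ha' hb'
    have e1 : ∑ᶠ ξ, DfunR δ ξ₀ x a b ξ = ∑ᶠ ξ ∈ Set.range φ, DfunR δ ξ₀ x a b ξ := by
      rw [← finsum_mem_univ]
      exact (finsum_mem_inter_support_eq' (DfunR δ ξ₀ x a b) (Set.range φ) Set.univ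
        (fun ξ hξ => by simp only [Set.mem_univ, iff_true]; exact hsupp hξ)).symm
    rw [e1, finsum_mem_range hinj, finsum_congr hterm]
    exact key

end Part4

section Part5

open AlgebraicGeometry CategoryTheory TopologicalSpace IsLocalRing CycAlg
  Groth.Agent.Lib.R2H1.LocQuot Groth.Agent.Lib.R2H1.RatEquivOpen
  Groth.Agent.Lib.R2H1.FlatDivSum Groth.Agent.Lib.R2H1.TameLaws
  Groth.Agent.Lib.R2H1.C1Comm

variable {X : Scheme.{u}}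

/-- the points of codimension one in the closure of `ξ₀` where one of two sections not vanishing
at `ξ₀` vanishes form a finite set. -/
theorem finite_codim_one_not_basicOpen [IsLocallyNoetherian X] {δ : X → ℤ}
    (hδ : Cyc.IsDimFun X δ) (V : X.Opens) (hV : IsAffineOpen V) (ξ₀ : X) (hξ₀ : ξ₀ ∈ V)
    (a b : Γ(X, V)) (ha : X.evaluation V ξ₀ hξ₀ a ≠ 0) (hb : X.evaluation V ξ₀ hξ₀ b ≠ 0) :
    {x : X | x ∈ V ∧ ξ₀ ⤳ x ∧ δ x + 1 = δ ξ₀ ∧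
      (x ∉ X.basicOpen a ∨ x ∉ X.basicOpen b)}.Finite := by
  classical
  haveI : IsNoetherianRing Γ(X, V) := IsLocallyNoetherian.component_noetherian ⟨V, hV⟩
  haveI : NoetherianSpace V := noetherianSpace_of_isAffineOpen V hV
  haveI : QuasiSober V := V.isOpen.isOpenEmbedding_subtypeVal.quasiSober
  let T : Set V := {v | ξ₀ ⤳ v.1 ∧ (v.1 ∉ X.basicOpen a ∨ v.1 ∉ X.basicOpen b)}
  have hT : IsClosed T := by
    have h1 : IsClosed {v : V | ξ₀ ⤳ v.1} := by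
      have : {v : V | ξ₀ ⤳ v.1} = Subtype.val ⁻¹' (closure {ξ₀}) := by
        ext v
        simp [specializes_iff_mem_closure]
      rw [this]
      exact isClosed_closure.preimage continuous_subtype_val
    have h2 : IsClosed {v : V | v.1 ∉ X.basicOpen a ∨ v.1 ∉ X.basicOpen b} := by
      have : {v : V | v.1 ∉ X.basicOpen a ∨ v.1 ∉ X.basicOpen b} =
          (Subtype.val ⁻¹' ((X.basicOpen a : Set X) ∩ (X.basicOpen b : Set X)))ᶜ := by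
        ext v
        simp only [Set.mem_setOf_eq, Set.mem_compl_iff, Set.mem_preimage, Set.mem_inter_iff,
          SetLike.mem_coe]
        tauto
      rw [this]
      exact ((((X.basicOpen a).isOpen.inter (X.basicOpen b).isOpen)).preimage
        continuous_subtype_val).isClosed_compl
    exact h1.inter h2
  obtain ⟨S, hSf, hSc, hSi, hSU⟩ := NoetherianSpace.exists_finite_set_isClosed_irreducible hT
  let gp : Set V → X := fun C => if h : IsIrreducible C then (h.genericPoint).1 else ξ₀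
  refine (hSf.image gp).subset ?_
  rintro x ⟨hxV, h0x, hdx, hx⟩
  have hxT : (⟨x, hxV⟩ : V) ∈ T := ⟨h0x, hx⟩
  rw [hSU] at hxT
  obtain ⟨C, hCS, hxC⟩ := hxT
  refine ⟨C, hCS, ?_⟩
  have hCi := hSi C hCS
  have hCc : IsClosed C := hSc C hCS
  change gp C = x
  simp only [gp, dif_pos hCi]
  have hgen := hCi.isGenericPoint_genericPoint_closure
  rw [hCc.closure_eq] at hgen
  have hzC : hCi.genericPoint ∈ C := hgen.mem
  have hzT : hCi.genericPoint ∈ T := by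
    rw [hSU]
    exact ⟨C, hCS, hzC⟩
  have hzx : hCi.genericPoint ⤳ (⟨x, hxV⟩ : V) := hgen.specializes hxC
  have hzx' : (hCi.genericPoint).1 ⤳ x := hzx.map continuous_subtype_val
  have hne : (hCi.genericPoint).1 ≠ ξ₀ := by
    intro heq
    rcases hzT.2 with h1 | h1
    · exact h1 (heq ▸ (X.evaluation_ne_zero_iff_mem_basicOpen ξ₀ hξ₀ a).mp ha)
    · exact h1 (heq ▸ (X.evaluation_ne_zero_iff_mem_basicOpen ξ₀ hξ₀ b).mp hb)
  exact eq_of_between hδ hzT.1 hzx' hne hdx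

/-- a nonzero rational function on the closure of `ξ₀` is a unit at all but a locally finite set
of points of codimension one. -/
theorem isU_locallyFinite [IsLocallyNoetherian X] {δ : X → ℤ} (hδ : Cyc.IsDimFun X δ) (ξ₀ : X)
    (g : X.residueField ξ₀) (hg : g ≠ 0) (x₀ : X) :
    ∃ U : X.Opens, x₀ ∈ U ∧ {ξ : X | ξ ∈ U ∧ ∃ h₀ : ξ₀ ⤳ ξ, δ ξ + 1 = δ ξ₀ ∧
      ¬ ∃ w : (X.presheaf.stalk ξ)ˣ, g = Cyc.specMap ξ ξ₀ h₀ (w : _)}.Finite := by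
  classical
  obtain ⟨_, ⟨V, hV, rfl⟩, hxV, -⟩ :=
    X.isBasis_affineOpens.exists_subset_of_mem_open (Set.mem_univ x₀) isOpen_univ
  refine ⟨V, hxV, ?_⟩
  by_cases hξ₀ : ξ₀ ∈ V
  swap
  · convert Set.finite_empty
    ext ξ
    simp only [Set.mem_setOf_eq, Set.mem_empty_iff_false, iff_false, not_and]
    rintro hξV ⟨h₀, -⟩
    exact hξ₀ (h₀.mem_open V.isOpen hξV)
  obtain ⟨a, b, hb, hab⟩ := exists_evaluation_eq V hV ξ₀ hξ₀ g
  have ha : X.evaluation V ξ₀ hξ₀ a ≠ 0 := by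
    rw [← hab]
    exact mul_ne_zero hg hb
  refine (finite_codim_one_not_basicOpen hδ V hV ξ₀ hξ₀ a b ha hb).subset ?_
  rintro ξ ⟨hξV, h₀, hd, hnot⟩
  refine ⟨hξV, h₀, hd, ?_⟩
  by_contra hcon
  push_neg at hcon
  apply hnot
  have hua : IsUnit (X.presheaf.germ V ξ hξV a) := (X.mem_basicOpen a ξ hξV).mp hcon.1
  have hub : IsUnit (X.presheaf.germ V ξ hξV b) := (X.mem_basicOpen b ξ hξV).mp hcon.2
  rw [evaluation_eq_specMap V ξ ξ₀ h₀ hξV a, evaluation_eq_specMap V ξ ξ₀ h₀ hξV b] at hab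
  refine ⟨hua.unit * hub.unit⁻¹, ?_⟩
  have h1 : Cyc.specMap ξ ξ₀ h₀ ((hub.unit⁻¹ : (X.presheaf.stalk ξ)ˣ) : _) *
      Cyc.specMap ξ ξ₀ h₀ (X.presheaf.germ V ξ hξV b) = 1 := by
    rw [← map_mul]
    have : ((hub.unit⁻¹ : (X.presheaf.stalk ξ)ˣ) : X.presheaf.stalk ξ) *
        X.presheaf.germ V ξ hξV b = 1 := by
      have := hub.unit.inv_mul
      simpa using this
    rw [this, map_one]
  rw [Units.val_mul, map_mul, IsUnit.unit_spec, ← hab, mul_assoc, mul_comm _ (Cyc.specMap _ _ _ _),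
    h1, mul_one]

end Part5

section Part6

open AlgebraicGeometry CategoryTheory TopologicalSpace IsLocalRing CycAlg
  Groth.Agent.Lib.R2H1.LocQuot Groth.Agent.Lib.R2H1.RatEquivOpen
  Groth.Agent.Lib.R2H1.FlatDivSum Groth.Agent.Lib.R2H1.TameLaws
  Groth.Agent.Lib.R2H1.C1Comm

variable {X : Scheme.{u}}

/-- abstract data of a "Cartier divisor with a rational section" on the closure of `ξ₀`: local
coordinates `lam z ∈ κ(ξ₀)` of the section with respect to local generators defined on opens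
`dom z ∋ z`, the transition units `cc x ξ` between the generators chosen at `x` and at `ξ ∈ dom x`,
and coordinates `ub ξ ∈ κ(ξ)` of auxiliary rational sections on the closure of each point `ξ` with
respect to the generator chosen at `ξ`. -/
structure CData (ξ₀ : X) where
  /-- domains of the local generators -/
  dom : X → X.Opens
  mem_dom : ∀ z, z ∈ dom z
  /-- the coordinate of the rational section -/
  lam : (z : X) → ξ₀ ∈ dom z → X.residueField ξ₀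
  lam_ne : ∀ z h, lam z h ≠ 0
  /-- the transition units -/
  cc : (x ξ : X) → ξ ∈ dom x → X.presheaf.stalk ξ
  cc_unit : ∀ x ξ h, IsUnit (cc x ξ h)
  lam_change : ∀ (x ξ : X) (hξ : ξ ∈ dom x) (h₀ : ξ₀ ⤳ ξ),
    lam x (h₀.mem_open (dom x).isOpen hξ) =
      lam ξ (h₀.mem_open (dom ξ).isOpen (mem_dom ξ)) * Cyc.specMap ξ ξ₀ h₀ (cc x ξ hξ)
  /-- the coordinates of the auxiliary sections -/
  ub : (ξ : X) → X.residueField ξ
  ub_ne : ∀ ξ, ub ξ ≠ 0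

namespace CData

variable {ξ₀ : X} (C : CData ξ₀)

/-- the coordinate at a specialization of `ξ₀`. -/
noncomputable def lamAt (z : X) (h₀ : ξ₀ ⤳ z) : X.residueField ξ₀ :=
  C.lam z (h₀.mem_open (C.dom z).isOpen (C.mem_dom z))

theorem lamAt_ne (z : X) (h₀ : ξ₀ ⤳ z) : C.lamAt z h₀ ≠ 0 := C.lam_ne z _

/-- the transition unit along a specialization. -/
noncomputable def ccAt (x ξ : X) (h : ξ ⤳ x) : X.presheaf.stalk ξ :=
  C.cc x ξ (h.mem_open (C.dom x).isOpen (C.mem_dom x))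

theorem ccAt_unit (x ξ : X) (h : ξ ⤳ x) : IsUnit (C.ccAt x ξ h) := C.cc_unit x ξ _

theorem lamAt_change (x ξ : X) (h : ξ ⤳ x) (h₀ : ξ₀ ⤳ ξ) :
    C.lamAt x (h₀.trans h) = C.lamAt ξ h₀ * Cyc.specMap ξ ξ₀ h₀ (C.ccAt x ξ h) :=
  C.lam_change x ξ _ h₀

open Classical in
/-- the multiplicities of the divisor of the rational section. -/
noncomputable def coef (δ : X → ℤ) (ξ : X) : ℤ :=
  if h : ξ₀ ⤳ ξ ∧ δ ξ + 1 = δ ξ₀ then Cyc.ordAt ξ ξ₀ h.1 (C.lamAt ξ h.1) else 0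

open Classical in
/-- the divisor of the auxiliary section on the closure of `ξ`, at `x`. -/
noncomputable def dv (δ : X → ℤ) (ξ x : X) : ℤ :=
  if h : ξ ⤳ x ∧ δ x + 1 = δ ξ then
    Cyc.ordAt x ξ h.1 (C.ub ξ) + Cyc.ordAt x ξ h.1 (X.residue ξ (C.ccAt x ξ h.1))
  else 0

theorem coef_pos (δ : X → ℤ) (ξ : X) (h : ξ₀ ⤳ ξ ∧ δ ξ + 1 = δ ξ₀) :
    C.coef δ ξ = Cyc.ordAt ξ ξ₀ h.1 (C.lamAt ξ h.1) := by
  unfold coef
  exact dif_pos h

theorem coef_neg (δ : X → ℤ) (ξ : X) (h : ¬ (ξ₀ ⤳ ξ ∧ δ ξ + 1 = δ ξ₀)) : C.coef δ ξ = 0 := by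
  unfold coef
  exact dif_neg h

theorem dv_pos (δ : X → ℤ) (ξ x : X) (h : ξ ⤳ x ∧ δ x + 1 = δ ξ) :
    C.dv δ ξ x =
      Cyc.ordAt x ξ h.1 (C.ub ξ) + Cyc.ordAt x ξ h.1 (X.residue ξ (C.ccAt x ξ h.1)) := by
  unfold dv
  exact dif_pos h

theorem dv_neg (δ : X → ℤ) (ξ x : X) (h : ¬ (ξ ⤳ x ∧ δ x + 1 = δ ξ)) : C.dv δ ξ x = 0 := by
  unfold dv
  exact dif_neg h

/-- the rational section is a unit multiple of the generator at `ξ`. -/
def IsU (ξ : X) (h₀ : ξ₀ ⤳ ξ) : Prop :=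
  ∃ w : (X.presheaf.stalk ξ)ˣ, C.lamAt ξ h₀ = Cyc.specMap ξ ξ₀ h₀ (w : _)

/-- the set of codimension one points where the section is not a unit multiple of the generator
is locally finite. -/
theorem bad_locallyFinite [IsLocallyNoetherian X] {δ : X → ℤ} (hδ : Cyc.IsDimFun X δ) (x₀ : X) :
    ∃ U : X.Opens, x₀ ∈ U ∧ {ξ : X | ξ ∈ U ∧ ∃ h₀ : ξ₀ ⤳ ξ, δ ξ + 1 = δ ξ₀ ∧
      ¬ C.IsU ξ h₀}.Finite := by
  classical
  by_cases h₀x : ξ₀ ∈ C.dom x₀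
  swap
  · refine ⟨C.dom x₀, C.mem_dom x₀, ?_⟩
    convert Set.finite_empty
    ext ξ
    simp only [Set.mem_setOf_eq, Set.mem_empty_iff_false, iff_false, not_and]
    rintro hξ ⟨h₀, -⟩
    exact h₀x (h₀.mem_open (C.dom x₀).isOpen hξ)
  obtain ⟨U, hxU, hfin⟩ := isU_locallyFinite hδ ξ₀ (C.lam x₀ h₀x) (C.lam_ne x₀ h₀x) x₀
  refine ⟨U ⊓ C.dom x₀, ⟨hxU, C.mem_dom x₀⟩, hfin.subset ?_⟩
  rintro ξ ⟨⟨hξU, hξD⟩, h₀, hd, hnot⟩
  refine ⟨hξU, h₀, hd, ?_⟩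
  rintro ⟨w, hw⟩
  apply hnot
  have hch := C.lam_change x₀ ξ hξD h₀
  rw [hw] at hch
  -- lam ξ = specMap (w * cc⁻¹)
  refine ⟨w * (C.cc_unit x₀ ξ hξD).unit⁻¹, ?_⟩
  have h1 : Cyc.specMap ξ ξ₀ h₀ (C.cc x₀ ξ hξD) *
      Cyc.specMap ξ ξ₀ h₀ (((C.cc_unit x₀ ξ hξD).unit⁻¹ : (X.presheaf.stalk ξ)ˣ) : _) = 1 := by
    rw [← map_mul]
    have : C.cc x₀ ξ hξD * (((C.cc_unit x₀ ξ hξD).unit⁻¹ : (X.presheaf.stalk ξ)ˣ) : _) = 1 := by
      have := (C.cc_unit x₀ ξ hξD).unit.mul_inv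
      simpa using this
    rw [this, map_one]
  unfold lamAt
  rw [Units.val_mul, map_mul, hch, mul_assoc, h1, mul_one]

end CData

/-- every nonzero rational function on the closure of `ξ₀` is a quotient of elements of the local
ring at `z` not vanishing at `ξ₀`. -/
theorem exists_frac_rel (z ξ₀ : X) (h₀ : ξ₀ ⤳ z) (f : X.residueField ξ₀) (hf : f ≠ 0) :
    ∃ a b : X.presheaf.stalk z, Cyc.specMap z ξ₀ h₀ a ≠ 0 ∧ Cyc.specMap z ξ₀ h₀ b ≠ 0 ∧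
      f = Cyc.specMap z ξ₀ h₀ a / Cyc.specMap z ξ₀ h₀ b := by
  obtain ⟨a', b', hb', hab⟩ :=
    IsFractionRing.div_surjective (A := Cyc.LocQuot z ξ₀ h₀) f
  obtain ⟨a, rfl⟩ := Ideal.Quotient.mk_surjective a'
  obtain ⟨b, rfl⟩ := Ideal.Quotient.mk_surjective b'
  rw [algebraMap_locQuot_mk, algebraMap_locQuot_mk] at hab
  refine ⟨a, b, ?_, ?_, hab.symm⟩
  · intro h0
    rw [h0, zero_div] at hab
    exact hf hab.symm
  · intro h0
    rw [h0, div_zero] at hab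
    exact hf hab.symm

namespace CData

variable {ξ₀ : X} (C : CData ξ₀)

/-- chosen numerator. -/
noncomputable def num (z : X) (h₀ : ξ₀ ⤳ z) : X.presheaf.stalk z :=
  Classical.choose (exists_frac_rel z ξ₀ h₀ (C.lamAt z h₀) (C.lamAt_ne z h₀))

/-- chosen denominator. -/
noncomputable def den (z : X) (h₀ : ξ₀ ⤳ z) : X.presheaf.stalk z :=
  Classical.choose (Classical.choose_spec
    (exists_frac_rel z ξ₀ h₀ (C.lamAt z h₀) (C.lamAt_ne z h₀)))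

theorem num_ne (z : X) (h₀ : ξ₀ ⤳ z) : Cyc.specMap z ξ₀ h₀ (C.num z h₀) ≠ 0 :=
  (Classical.choose_spec (Classical.choose_spec
    (exists_frac_rel z ξ₀ h₀ (C.lamAt z h₀) (C.lamAt_ne z h₀)))).1

theorem den_ne (z : X) (h₀ : ξ₀ ⤳ z) : Cyc.specMap z ξ₀ h₀ (C.den z h₀) ≠ 0 :=
  (Classical.choose_spec (Classical.choose_spec
    (exists_frac_rel z ξ₀ h₀ (C.lamAt z h₀) (C.lamAt_ne z h₀)))).2.1

theorem lam_eq (z : X) (h₀ : ξ₀ ⤳ z) : C.lamAt z h₀ =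
    Cyc.specMap z ξ₀ h₀ (C.num z h₀) / Cyc.specMap z ξ₀ h₀ (C.den z h₀) :=
  (Classical.choose_spec (Classical.choose_spec
    (exists_frac_rel z ξ₀ h₀ (C.lamAt z h₀) (C.lamAt_ne z h₀)))).2.2

end CData

end Part6

section Part7

open AlgebraicGeometry CategoryTheory TopologicalSpace IsLocalRing CycAlg
  Groth.Agent.Lib.R2H1.LocQuot Groth.Agent.Lib.R2H1.RatEquivOpen
  Groth.Agent.Lib.R2H1.FlatDivSum Groth.Agent.Lib.R2H1.TameLaws
  Groth.Agent.Lib.R2H1.C1Comm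

variable {X : Scheme.{u}}

/-- the quotient map `O_{X,z} → O_{X,z}/𝔭`. -/
noncomputable def qm (z ξ₀ : X) (h₀ : ξ₀ ⤳ z) : X.presheaf.stalk z →+* Cyc.LocQuot z ξ₀ h₀ :=
  Ideal.Quotient.mk (RingHom.ker (Cyc.specMap z ξ₀ h₀))

theorem algebraMap_qm (z ξ₀ : X) (h₀ : ξ₀ ⤳ z) (r : X.presheaf.stalk z) :
    algebraMap (Cyc.LocQuot z ξ₀ h₀) (X.residueField ξ₀) (qm z ξ₀ h₀ r) = Cyc.specMap z ξ₀ h₀ r :=
  algebraMap_locQuot_mk z ξ₀ h₀ r

theorem qm_ne_zero (z ξ₀ : X) (h₀ : ξ₀ ⤳ z) {r : X.presheaf.stalk z}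
    (hr : Cyc.specMap z ξ₀ h₀ r ≠ 0) : qm z ξ₀ h₀ r ≠ 0 := by
  intro h0
  apply hr
  rw [← algebraMap_qm, h0, map_zero]

theorem qm_eq_of_specMap_eq (z ξ₀ : X) (h₀ : ξ₀ ⤳ z) {r r' : X.presheaf.stalk z}
    (h : Cyc.specMap z ξ₀ h₀ r = Cyc.specMap z ξ₀ h₀ r') : qm z ξ₀ h₀ r = qm z ξ₀ h₀ r' := by
  apply algebraMap_locQuot_injective z ξ₀ h₀
  rw [algebraMap_qm, algebraMap_qm, h]

/-- order of a ratio along `ξ₀ ⤳ ξ` in terms of lengths. -/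
theorem ordAt_ratio_rel (δ : X → ℤ) (hX : Cyc.IsSetup X δ) (ξ ξ₀ : X) (h₀ : ξ₀ ⤳ ξ)
    (hξ : δ ξ + 1 = δ ξ₀) (a b : X.presheaf.stalk ξ) (ha : Cyc.specMap ξ ξ₀ h₀ a ≠ 0)
    (hb : Cyc.specMap ξ ξ₀ h₀ b ≠ 0) :
    Cyc.ordAt ξ ξ₀ h₀ (Cyc.specMap ξ ξ₀ h₀ a / Cyc.specMap ξ ξ₀ h₀ b) =
      ordZ (qm ξ ξ₀ h₀ a) - ordZ (qm ξ ξ₀ h₀ b) := by
  haveI : IsLocallyNoetherian X := hX.1
  rw [ordAt_div hX.2.2 ξ ξ₀ h₀ hξ ha hb, ordAt_specMap hX.2.2 ξ ξ₀ h₀ hξ a ha,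
    ordAt_specMap hX.2.2 ξ ξ₀ h₀ hξ b hb]
  rfl

/-- cross-multiplication of the relation between the coordinates at `x` and at `ξ`. -/
theorem cross_mul_rel {ξ₀ : X} (C : CData ξ₀) (x ξ : X) (h : ξ ⤳ x) (h₀ : ξ₀ ⤳ ξ) :
    qm ξ ξ₀ h₀ (X.presheaf.stalkSpecializes h (C.num x (h₀.trans h))) * qm ξ ξ₀ h₀ (C.den ξ h₀) =
      qm ξ ξ₀ h₀ (C.num ξ h₀) * qm ξ ξ₀ h₀ (C.ccAt x ξ h) *
        qm ξ ξ₀ h₀ (X.presheaf.stalkSpecializes h (C.den x (h₀.trans h))) := by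
  rw [← map_mul, ← map_mul, ← map_mul]
  apply qm_eq_of_specMap_eq
  have hc := C.lamAt_change x ξ h h₀
  rw [C.lam_eq x (h₀.trans h), C.lam_eq ξ h₀, ← specMap_comp x ξ ξ₀ h h₀ (C.num x (h₀.trans h)),
    ← specMap_comp x ξ ξ₀ h h₀ (C.den x (h₀.trans h))] at hc
  have hB0 : Cyc.specMap ξ ξ₀ h₀ (X.presheaf.stalkSpecializes h (C.den x (h₀.trans h))) ≠ 0 := by
    rw [specMap_comp x ξ ξ₀ h h₀]
    exact C.den_ne x (h₀.trans h)
  have hBb := C.den_ne ξ h₀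
  rw [div_mul_eq_mul_div, div_eq_div_iff hB0 hBb] at hc
  rw [map_mul, map_mul, map_mul, hc]

end Part7

section Part8

open AlgebraicGeometry CategoryTheory TopologicalSpace IsLocalRing CycAlg
  Groth.Agent.Lib.R2H1.LocQuot Groth.Agent.Lib.R2H1.RatEquivOpen
  Groth.Agent.Lib.R2H1.FlatDivSum Groth.Agent.Lib.R2H1.TameLaws
  Groth.Agent.Lib.R2H1.C1Comm

variable {X : Scheme.{u}}

/-- the order function on the residue field of `O_{X,ξ}/𝔭` along `ξ ⤳ x`. -/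
noncomputable def oR (x ξ ξ₀ : X) (h : ξ ⤳ x) (h₀ : ξ₀ ⤳ ξ)
    (z : ResidueField (Cyc.LocQuot ξ ξ₀ h₀)) : ℤ :=
  Cyc.ordAt x ξ h (resX ξ ξ₀ h₀ z)

theorem oR_mul [IsLocallyNoetherian X] {δ : X → ℤ} (hδ : Cyc.IsDimFun X δ) (x ξ ξ₀ : X)
    (h : ξ ⤳ x) (h₀ : ξ₀ ⤳ ξ) (hd : δ x + 1 = δ ξ)
    (y z : ResidueField (Cyc.LocQuot ξ ξ₀ h₀)) (hy : y ≠ 0) (hz : z ≠ 0) :
    oR x ξ ξ₀ h h₀ (y * z) = oR x ξ ξ₀ h h₀ y + oR x ξ ξ₀ h h₀ z := by
  unfold oR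
  rw [resX_mul]
  exact ordAt_mul hδ x ξ h hd (resX_ne_zero ξ ξ₀ h₀ hy) (resX_ne_zero ξ ξ₀ h₀ hz)

theorem oR_residue_qm (x ξ ξ₀ : X) (h : ξ ⤳ x) (h₀ : ξ₀ ⤳ ξ) (r : X.presheaf.stalk ξ) :
    oR x ξ ξ₀ h h₀ (residue _ (qm ξ ξ₀ h₀ r)) = Cyc.ordAt x ξ h (X.residue ξ r) := by
  unfold oR qm
  rw [resX_residue_mk]

/-- the fraction tame symbol at a codimension one point of the closure of `ξ₀`, with values in
the residue field of `X`. -/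
noncomputable def TsymR (ξ ξ₀ : X) (h₀ : ξ₀ ⤳ ξ) (a b c d : X.presheaf.stalk ξ) :
    X.residueField ξ :=
  resX ξ ξ₀ h₀ (Tsym (Cyc.LocQuot ξ ξ₀ h₀) (qm ξ ξ₀ h₀ a) (qm ξ ξ₀ h₀ b) (qm ξ ξ₀ h₀ c)
    (qm ξ ξ₀ h₀ d))

/-- the identity at a pair `ξ ⤳ x` relating the local terms of the key lemma at `x` to the
fraction tame symbol at `ξ` and the change of generators. -/
theorem per_point_rel (δ : X → ℤ) (hX : Cyc.IsSetup X δ) {ξ₀ : X} (CL CN : CData ξ₀)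
    (x ξ : X) (h : ξ ⤳ x) (h₀ : ξ₀ ⤳ ξ) (hd : δ x + 1 = δ ξ) (hξ : δ ξ + 1 = δ ξ₀) :
    DfunR δ ξ₀ x (CL.num x (h₀.trans h)) (CN.num x (h₀.trans h)) ξ -
      DfunR δ ξ₀ x (CL.num x (h₀.trans h)) (CN.den x (h₀.trans h)) ξ -
      DfunR δ ξ₀ x (CL.den x (h₀.trans h)) (CN.num x (h₀.trans h)) ξ +
      DfunR δ ξ₀ x (CL.den x (h₀.trans h)) (CN.den x (h₀.trans h)) ξ =
    Cyc.ordAt x ξ h (TsymR ξ ξ₀ h₀ (CL.num ξ h₀) (CL.den ξ h₀) (CN.num ξ h₀) (CN.den ξ h₀))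
      - Cyc.ordAt ξ ξ₀ h₀ (CL.lamAt ξ h₀) * Cyc.ordAt x ξ h (X.residue ξ (CN.ccAt x ξ h))
      + Cyc.ordAt ξ ξ₀ h₀ (CN.lamAt ξ h₀) * Cyc.ordAt x ξ h (X.residue ξ (CL.ccAt x ξ h)) := by
  haveI : IsLocallyNoetherian X := hX.1
  have hδ := hX.2.2
  have hR : ringKrullDim (Cyc.LocQuot ξ ξ₀ h₀) = 1 := ringKrullDim_locQuot hδ ξ ξ₀ h₀ hξ
  have ho : ∀ y z : ResidueField (Cyc.LocQuot ξ ξ₀ h₀), y ≠ 0 → z ≠ 0 →
      oR x ξ ξ₀ h h₀ (y * z) = oR x ξ ξ₀ h h₀ y + oR x ξ ξ₀ h h₀ z :=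
    fun y z hy hz => oR_mul hδ x ξ ξ₀ h h₀ hd y z hy hz
  set a' := ((CL.ccAt_unit x ξ h).map (qm ξ ξ₀ h₀)).unit with ha'
  set b' := ((CN.ccAt_unit x ξ h).map (qm ξ ξ₀ h₀)).unit with hb'
  have h1 := cross_mul_rel CL x ξ h h₀
  have h2 := cross_mul_rel CN x ξ h h₀
  have hne : ∀ r : X.presheaf.stalk x, Cyc.specMap x ξ₀ (h₀.trans h) r ≠ 0 →
      qm ξ ξ₀ h₀ (X.presheaf.stalkSpecializes h r) ≠ 0 := by
    intro r hr
    apply qm_ne_zero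
    rw [specMap_comp x ξ ξ₀ h h₀]
    exact hr
  have key := D_change hR (oR x ξ ξ₀ h h₀) ho a' b'
    (qm_ne_zero ξ ξ₀ h₀ (CL.num_ne ξ h₀)) (qm_ne_zero ξ ξ₀ h₀ (CL.den_ne ξ h₀))
    (qm_ne_zero ξ ξ₀ h₀ (CN.num_ne ξ h₀)) (qm_ne_zero ξ ξ₀ h₀ (CN.den_ne ξ h₀))
    (hne _ (CL.num_ne x (h₀.trans h))) (hne _ (CL.den_ne x (h₀.trans h)))
    (hne _ (CN.num_ne x (h₀.trans h))) (hne _ (CN.den_ne x (h₀.trans h))) h1 h2
  have hD : ∀ p q : X.presheaf.stalk x, DfunR δ ξ₀ x p q ξ =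
      D (oR x ξ ξ₀ h h₀) (qm ξ ξ₀ h₀ (X.presheaf.stalkSpecializes h p))
        (qm ξ ξ₀ h₀ (X.presheaf.stalkSpecializes h q)) :=
    fun p q => DfunR_pos δ ξ₀ x p q ξ ⟨⟨h₀, h⟩, hd⟩
  have hT : Cyc.ordAt x ξ h (TsymR ξ ξ₀ h₀ (CL.num ξ h₀) (CL.den ξ h₀) (CN.num ξ h₀)
      (CN.den ξ h₀)) = oR x ξ ξ₀ h h₀ (Tsym (Cyc.LocQuot ξ ξ₀ h₀) (qm ξ ξ₀ h₀ (CL.num ξ h₀))
        (qm ξ ξ₀ h₀ (CL.den ξ h₀)) (qm ξ ξ₀ h₀ (CN.num ξ h₀)) (qm ξ ξ₀ h₀ (CN.den ξ h₀))) := rfl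
  rw [hD, hD, hD, hD, key, hT, o_Tsym hR (oR x ξ ξ₀ h h₀) ho
    (qm_ne_zero ξ ξ₀ h₀ (CL.num_ne ξ h₀)) (qm_ne_zero ξ ξ₀ h₀ (CL.den_ne ξ h₀))
    (qm_ne_zero ξ ξ₀ h₀ (CN.num_ne ξ h₀)) (qm_ne_zero ξ ξ₀ h₀ (CN.den_ne ξ h₀)),
    CL.lam_eq ξ h₀, CN.lam_eq ξ h₀,
    ordAt_ratio_rel δ hX ξ ξ₀ h₀ hξ _ _ (CL.num_ne ξ h₀) (CL.den_ne ξ h₀),
    ordAt_ratio_rel δ hX ξ ξ₀ h₀ hξ _ _ (CN.num_ne ξ h₀) (CN.den_ne ξ h₀)]
  have e1 : oR x ξ ξ₀ h h₀ (residue _ (b' : Cyc.LocQuot ξ ξ₀ h₀)) =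
      Cyc.ordAt x ξ h (X.residue ξ (CN.ccAt x ξ h)) := by
    rw [hb', IsUnit.unit_spec]
    exact oR_residue_qm x ξ ξ₀ h h₀ _
  have e2 : oR x ξ ξ₀ h h₀ (residue _ (a' : Cyc.LocQuot ξ ξ₀ h₀)) =
      Cyc.ordAt x ξ h (X.residue ξ (CL.ccAt x ξ h)) := by
    rw [ha', IsUnit.unit_spec]
    exact oR_residue_qm x ξ ξ₀ h h₀ _
  rw [e1, e2]

end Part8

section Part9

open AlgebraicGeometry CategoryTheory TopologicalSpace IsLocalRing CycAlg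
  Groth.Agent.Lib.R2H1.LocQuot Groth.Agent.Lib.R2H1.RatEquivOpen
  Groth.Agent.Lib.R2H1.FlatDivSum Groth.Agent.Lib.R2H1.TameLaws
  Groth.Agent.Lib.R2H1.C1Comm

variable {X : Scheme.{u}} {ξ₀ : X} (CL CN : CData ξ₀)

theorem add_zpow {K : Type*} [Field K] (o : K → ℤ)
    (ho : ∀ x y : K, x ≠ 0 → y ≠ 0 → o (x * y) = o x + o y) {x : K} (hx : x ≠ 0) (n : ℤ) :
    o (x ^ n) = n * o x := by
  have h1 : o 1 = 0 := by
    have := ho 1 1 one_ne_zero one_ne_zero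
    rw [mul_one] at this
    omega
  have hpow : ∀ m : ℕ, o (x ^ m) = m * o x := by
    intro m
    induction m with
    | zero => simp [h1]
    | succ m ih =>
      rw [pow_succ, ho _ _ (pow_ne_zero m hx) hx, ih]
      push_cast
      ring
  have hinv : ∀ y : K, y ≠ 0 → o y⁻¹ = - o y := by
    intro y hy
    have := ho y y⁻¹ hy (inv_ne_zero hy)
    rw [mul_inv_cancel₀ hy, h1] at this
    omega
  obtain ⟨m, rfl | rfl⟩ := n.eq_nat_or_neg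
  · rw [zpow_natCast, hpow]
  · rw [zpow_neg, zpow_natCast, hinv _ (pow_ne_zero m hx), hpow]
    push_cast
    ring

theorem ordAt_zpow' {X : Scheme.{u}} [IsLocallyNoetherian X] {δ : X → ℤ}
    (hδ : Cyc.IsDimFun X δ) (x ξ : X)
    (h : ξ ⤳ x) (hd : δ x + 1 = δ ξ) {f : X.residueField ξ} (hf : f ≠ 0) (n : ℤ) :
    Cyc.ordAt x ξ h (f ^ n) = n * Cyc.ordAt x ξ h f :=
  add_zpow (fun z => Cyc.ordAt x ξ h z)
    (fun y z hy hz => ordAt_mul hδ x ξ h hd hy hz) hf n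

/-- the multiplicity of the divisor of the section at `ξ`. -/
noncomputable def alR (C : CData ξ₀) (ξ : X) (h₀ : ξ₀ ⤳ ξ) : ℤ :=
  Cyc.ordAt ξ ξ₀ h₀ (C.lamAt ξ h₀)

/-- the rational function on the closure of `ξ` realizing the rational equivalence. -/
noncomputable def FfunR (ξ : X) (h₀ : ξ₀ ⤳ ξ) : X.residueField ξ :=
  CN.ub ξ ^ (alR CL ξ h₀) * CL.ub ξ ^ (-(alR CN ξ h₀)) *
    TsymR ξ ξ₀ h₀ (CL.num ξ h₀) (CL.den ξ h₀) (CN.num ξ h₀) (CN.den ξ h₀)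

theorem TsymR_ne_zero (δ : X → ℤ) (hX : Cyc.IsSetup X δ) (ξ : X) (h₀ : ξ₀ ⤳ ξ)
    (hξ : δ ξ + 1 = δ ξ₀) :
    TsymR ξ ξ₀ h₀ (CL.num ξ h₀) (CL.den ξ h₀) (CN.num ξ h₀) (CN.den ξ h₀) ≠ 0 := by
  haveI : IsLocallyNoetherian X := hX.1
  have hR : ringKrullDim (Cyc.LocQuot ξ ξ₀ h₀) = 1 := ringKrullDim_locQuot hX.2.2 ξ ξ₀ h₀ hξ
  unfold TsymR
  exact resX_ne_zero ξ ξ₀ h₀ (Tsym_ne_zero hR
    (qm_ne_zero ξ ξ₀ h₀ (CL.num_ne ξ h₀)) (qm_ne_zero ξ ξ₀ h₀ (CL.den_ne ξ h₀))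
    (qm_ne_zero ξ ξ₀ h₀ (CN.num_ne ξ h₀)) (qm_ne_zero ξ ξ₀ h₀ (CN.den_ne ξ h₀)))

theorem FfunR_ne_zero (δ : X → ℤ) (hX : Cyc.IsSetup X δ) (ξ : X) (h₀ : ξ₀ ⤳ ξ)
    (hξ : δ ξ + 1 = δ ξ₀) : FfunR CL CN ξ h₀ ≠ 0 := by
  unfold FfunR
  exact mul_ne_zero (mul_ne_zero (zpow_ne_zero _ (CN.ub_ne ξ)) (zpow_ne_zero _ (CL.ub_ne ξ)))
    (TsymR_ne_zero CL CN δ hX ξ h₀ hξ)

/-- the order of `FfunR ξ` along `ξ ⤳ x`. -/
theorem ordAt_FfunR (δ : X → ℤ) (hX : Cyc.IsSetup X δ) (ξ x : X) (h : ξ ⤳ x) (h₀ : ξ₀ ⤳ ξ)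
    (hd : δ x + 1 = δ ξ) (hξ : δ ξ + 1 = δ ξ₀) :
    Cyc.ordAt x ξ h (FfunR CL CN ξ h₀) =
      alR CL ξ h₀ * Cyc.ordAt x ξ h (CN.ub ξ) - alR CN ξ h₀ * Cyc.ordAt x ξ h (CL.ub ξ) +
        Cyc.ordAt x ξ h (TsymR ξ ξ₀ h₀ (CL.num ξ h₀) (CL.den ξ h₀) (CN.num ξ h₀)
          (CN.den ξ h₀)) := by
  haveI : IsLocallyNoetherian X := hX.1
  have h1 := CN.ub_ne ξ
  have h2 := CL.ub_ne ξ
  have h3 := TsymR_ne_zero CL CN δ hX ξ h₀ hξ
  unfold FfunR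
  rw [ordAt_mul hX.2.2 x ξ h hd (mul_ne_zero (zpow_ne_zero _ h1) (zpow_ne_zero _ h2)) h3,
    ordAt_mul hX.2.2 x ξ h hd (zpow_ne_zero _ h1) (zpow_ne_zero _ h2),
    ordAt_zpow' hX.2.2 x ξ h hd h1, ordAt_zpow' hX.2.2 x ξ h hd h2]
  ring

theorem alR_eq_zero_of_isU (C : CData ξ₀) (ξ : X) (h₀ : ξ₀ ⤳ ξ) (h1 : C.IsU ξ h₀) :
    alR C ξ h₀ = 0 := by
  obtain ⟨w, hw⟩ := h1
  unfold alR
  rw [hw]
  exact ordAt_unit ξ ξ₀ h₀ (w : X.presheaf.stalk ξ) w.isUnit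

theorem num_eq_of_isU (C : CData ξ₀) (ξ : X) (h₀ : ξ₀ ⤳ ξ) (w : (X.presheaf.stalk ξ)ˣ)
    (hw : C.lamAt ξ h₀ = Cyc.specMap ξ ξ₀ h₀ (w : _)) :
    qm ξ ξ₀ h₀ (C.num ξ h₀) =
      ((Units.map (qm ξ ξ₀ h₀ : X.presheaf.stalk ξ →* Cyc.LocQuot ξ ξ₀ h₀) w :
        (Cyc.LocQuot ξ ξ₀ h₀)ˣ) : Cyc.LocQuot ξ ξ₀ h₀) * qm ξ ξ₀ h₀ (C.den ξ h₀) := by
  rw [Units.coe_map]
  change _ = qm ξ ξ₀ h₀ (w : X.presheaf.stalk ξ) * _
  rw [← map_mul]
  apply qm_eq_of_specMap_eq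
  have h3 := C.lam_eq ξ h₀
  rw [hw, eq_div_iff (C.den_ne ξ h₀)] at h3
  rw [map_mul]
  exact h3.symm

/-- at a point where both rational sections are unit multiples of generators, all local terms
vanish. -/
theorem terms_of_isU_rel (δ : X → ℤ) (hX : Cyc.IsSetup X δ) (ξ : X) (h₀ : ξ₀ ⤳ ξ)
    (hξ : δ ξ + 1 = δ ξ₀) (h1 : CL.IsU ξ h₀) (h2 : CN.IsU ξ h₀) :
    alR CL ξ h₀ = 0 ∧ alR CN ξ h₀ = 0 ∧ ∀ (x : X) (h : ξ ⤳ x), δ x + 1 = δ ξ →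
      Cyc.ordAt x ξ h (TsymR ξ ξ₀ h₀ (CL.num ξ h₀) (CL.den ξ h₀) (CN.num ξ h₀)
        (CN.den ξ h₀)) = 0 := by
  haveI : IsLocallyNoetherian X := hX.1
  have hR : ringKrullDim (Cyc.LocQuot ξ ξ₀ h₀) = 1 := ringKrullDim_locQuot hX.2.2 ξ ξ₀ h₀ hξ
  refine ⟨alR_eq_zero_of_isU CL ξ h₀ h1, alR_eq_zero_of_isU CN ξ h₀ h2, ?_⟩
  obtain ⟨w, hw⟩ := h1
  obtain ⟨w', hw'⟩ := h2
  intro x h hd
  have ho : ∀ y z : ResidueField (Cyc.LocQuot ξ ξ₀ h₀), y ≠ 0 → z ≠ 0 →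
      oR x ξ ξ₀ h h₀ (y * z) = oR x ξ ξ₀ h h₀ y + oR x ξ ξ₀ h h₀ z :=
    fun y z hy hz => oR_mul hX.2.2 x ξ ξ₀ h h₀ hd y z hy hz
  unfold TsymR
  rw [num_eq_of_isU CL ξ h₀ w hw, num_eq_of_isU CN ξ h₀ w' hw']
  exact o_Tsym_units hR (oR x ξ ξ₀ h h₀) ho (qm_ne_zero ξ ξ₀ h₀ (CL.den_ne ξ h₀))
    (qm_ne_zero ξ ξ₀ h₀ (CN.den_ne ξ h₀)) _ _

end Part9

section Part10

open AlgebraicGeometry CategoryTheory TopologicalSpace IsLocalRing CycAlg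
  Groth.Agent.Lib.R2H1.LocQuot Groth.Agent.Lib.R2H1.RatEquivOpen
  Groth.Agent.Lib.R2H1.FlatDivSum Groth.Agent.Lib.R2H1.TameLaws
  Groth.Agent.Lib.R2H1.C1Comm

variable {X : Scheme.{u}} {ξ₀ : X} (CL CN : CData ξ₀)

/-- the points of codimension one in the closure of `ξ₀` where something happens. -/
def BadR (δ : X → ℤ) (ξ : X) : Prop :=
  ∃ h₀ : ξ₀ ⤳ ξ, δ ξ + 1 = δ ξ₀ ∧ ¬ (CL.IsU ξ h₀ ∧ CN.IsU ξ h₀)

open Classical in
/-- the rational functions realizing the equivalence, as a total function. -/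
noncomputable def Ftot (ξ : X) : X.residueField ξ :=
  if h₀ : ξ₀ ⤳ ξ then FfunR CL CN ξ h₀ else 1

theorem Ftot_pos (ξ : X) (h₀ : ξ₀ ⤳ ξ) : Ftot CL CN ξ = FfunR CL CN ξ h₀ := by
  unfold Ftot
  exact dif_pos h₀

theorem Ftot_ne_zero (δ : X → ℤ) (hX : Cyc.IsSetup X δ) (ξ : X) (hb : BadR CL CN δ ξ) :
    Ftot CL CN ξ ≠ 0 := by
  obtain ⟨h₀, hξ, -⟩ := hb
  rw [Ftot_pos CL CN ξ h₀]
  exact FfunR_ne_zero CL CN δ hX ξ h₀ hξ

open Classical in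
/-- the contribution of the point `ξ` to the principal divisors. -/
noncomputable def Hfun (δ : X → ℤ) (x : X) (ξ : X) : ℤ :=
  if BadR CL CN δ ξ then Cyc.divFun δ ξ (Ftot CL CN ξ) x else 0

/-- the pointwise identity at a codimension two point `x`. -/
theorem pointwise_rel (δ : X → ℤ) (hX : Cyc.IsSetup X δ) (x ξ : X)
    (hc : ξ ⤳ x ∧ δ x + 1 = δ ξ) (h₀ : ξ₀ ⤳ ξ) (hξ : δ ξ + 1 = δ ξ₀) :
    CL.coef δ ξ * CN.dv δ ξ x - CN.coef δ ξ * CL.dv δ ξ x - Hfun CL CN δ x ξ =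
    -(DfunR δ ξ₀ x (CL.num x (h₀.trans hc.1)) (CN.num x (h₀.trans hc.1)) ξ -
      DfunR δ ξ₀ x (CL.num x (h₀.trans hc.1)) (CN.den x (h₀.trans hc.1)) ξ -
      DfunR δ ξ₀ x (CL.den x (h₀.trans hc.1)) (CN.num x (h₀.trans hc.1)) ξ +
      DfunR δ ξ₀ x (CL.den x (h₀.trans hc.1)) (CN.den x (h₀.trans hc.1)) ξ) := by
  classical
  haveI : IsLocallyNoetherian X := hX.1
  rw [per_point_rel δ hX CL CN x ξ hc.1 h₀ hc.2 hξ, CL.coef_pos δ ξ ⟨h₀, hξ⟩,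
    CN.coef_pos δ ξ ⟨h₀, hξ⟩, CL.dv_pos δ ξ x hc, CN.dv_pos δ ξ x hc]
  unfold Hfun
  by_cases hb : BadR CL CN δ ξ
  · rw [if_pos hb]
    have e3 : Cyc.divFun δ ξ (Ftot CL CN ξ) x = Cyc.ordAt x ξ hc.1 (FfunR CL CN ξ h₀) := by
      unfold Cyc.divFun
      rw [dif_pos hc, Ftot_pos CL CN ξ h₀]
    rw [e3, ordAt_FfunR CL CN δ hX ξ x hc.1 h₀ hc.2 hξ]
    unfold alR
    ring
  · rw [if_neg hb]
    have hU : CL.IsU ξ h₀ ∧ CN.IsU ξ h₀ := by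
      by_contra h
      exact hb ⟨h₀, hξ, h⟩
    obtain ⟨z1, z2, z3⟩ := terms_of_isU_rel CL CN δ hX ξ h₀ hξ hU.1 hU.2
    unfold alR at z1 z2
    rw [z1, z2, z3 x hc.1 hc.2]
    ring

theorem vanish_of_not (δ : X → ℤ) (x ξ : X) (hc : ¬ (ξ ⤳ x ∧ δ x + 1 = δ ξ)) :
    CL.coef δ ξ * CN.dv δ ξ x = 0 ∧ CN.coef δ ξ * CL.dv δ ξ x = 0 ∧ Hfun CL CN δ x ξ = 0 := by
  classical
  refine ⟨?_, ?_, ?_⟩
  · rw [CN.dv_neg δ ξ x hc, mul_zero]
  · rw [CL.dv_neg δ ξ x hc, mul_zero]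
  · unfold Hfun
    split_ifs
    · unfold Cyc.divFun
      exact dif_neg hc
    · rfl

theorem vanish_of_not' (δ : X → ℤ) (x ξ : X) (hc : ¬ (ξ₀ ⤳ ξ ∧ δ ξ + 1 = δ ξ₀)) :
    CL.coef δ ξ * CN.dv δ ξ x = 0 ∧ CN.coef δ ξ * CL.dv δ ξ x = 0 ∧ Hfun CL CN δ x ξ = 0 := by
  classical
  refine ⟨?_, ?_, ?_⟩
  · rw [CL.coef_neg δ ξ hc, zero_mul]
  · rw [CN.coef_neg δ ξ hc, zero_mul]
  · unfold Hfun
    rw [if_neg]
    rintro ⟨h₀, hξ, -⟩
    exact hc ⟨h₀, hξ⟩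

/-- local finiteness of the bad points. -/
theorem badR_locallyFinite (δ : X → ℤ) (hX : Cyc.IsSetup X δ) (x₀ : X) :
    ∃ U : X.Opens, x₀ ∈ U ∧ {ξ : X | ξ ∈ U ∧ BadR CL CN δ ξ}.Finite := by
  haveI : IsLocallyNoetherian X := hX.1
  obtain ⟨U1, hx1, hfin1⟩ := CL.bad_locallyFinite hX.2.2 x₀
  obtain ⟨U2, hx2, hfin2⟩ := CN.bad_locallyFinite hX.2.2 x₀
  refine ⟨U1 ⊓ U2, ⟨hx1, hx2⟩, (hfin1.union hfin2).subset ?_⟩
  rintro ξ ⟨⟨h1, h2⟩, h₀, hξ, hnot⟩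
  by_cases h : CL.IsU ξ h₀
  · right
    exact ⟨h2, h₀, hξ, fun h' => hnot ⟨h, h'⟩⟩
  · left
    exact ⟨h1, h₀, hξ, h⟩

/-- the abstract commutativity statement: pointwise identity. -/
theorem main_abs (δ : X → ℤ) (hX : Cyc.IsSetup X δ) (x : X) :
    (Function.support (fun ξ => CL.coef δ ξ * CN.dv δ ξ x)).Finite ∧
    (Function.support (fun ξ => CN.coef δ ξ * CL.dv δ ξ x)).Finite ∧
    (Function.support (Hfun CL CN δ x)).Finite ∧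
    ∑ᶠ ξ, CL.coef δ ξ * CN.dv δ ξ x - ∑ᶠ ξ, CN.coef δ ξ * CL.dv δ ξ x =
      ∑ᶠ ξ, Hfun CL CN δ x ξ := by
  classical
  haveI : IsLocallyNoetherian X := hX.1
  obtain ⟨U1, hx1, hfin1⟩ := CL.bad_locallyFinite hX.2.2 x
  obtain ⟨U2, hx2, hfin2⟩ := CN.bad_locallyFinite hX.2.2 x
  have hG₁fin : (Function.support (fun ξ => CL.coef δ ξ * CN.dv δ ξ x)).Finite := by
    refine hfin1.subset ?_
    intro ξ hξ
    rw [Function.mem_support] at hξ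
    by_cases hc : ξ ⤳ x ∧ δ x + 1 = δ ξ
    · by_cases hc' : ξ₀ ⤳ ξ ∧ δ ξ + 1 = δ ξ₀
      · refine ⟨hc.1.mem_open U1.isOpen hx1, hc'.1, hc'.2, ?_⟩
        intro hU
        apply hξ
        have := alR_eq_zero_of_isU CL ξ hc'.1 hU
        unfold alR at this
        rw [CL.coef_pos δ ξ hc', this, zero_mul]
      · exact absurd (vanish_of_not' CL CN δ x ξ hc').1 hξ
    · exact absurd (vanish_of_not CL CN δ x ξ hc).1 hξ
  have hG₂fin : (Function.support (fun ξ => CN.coef δ ξ * CL.dv δ ξ x)).Finite := by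
    refine hfin2.subset ?_
    intro ξ hξ
    rw [Function.mem_support] at hξ
    by_cases hc : ξ ⤳ x ∧ δ x + 1 = δ ξ
    · by_cases hc' : ξ₀ ⤳ ξ ∧ δ ξ + 1 = δ ξ₀
      · refine ⟨hc.1.mem_open U2.isOpen hx2, hc'.1, hc'.2, ?_⟩
        intro hU
        apply hξ
        have := alR_eq_zero_of_isU CN ξ hc'.1 hU
        unfold alR at this
        rw [CN.coef_pos δ ξ hc', this, zero_mul]
      · exact absurd (vanish_of_not' CL CN δ x ξ hc').2.1 hξ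
    · exact absurd (vanish_of_not CL CN δ x ξ hc).2.1 hξ
  have hHfin : (Function.support (Hfun CL CN δ x)).Finite := by
    refine (hfin1.union hfin2).subset ?_
    intro ξ hξ
    rw [Function.mem_support] at hξ
    by_cases hc : ξ ⤳ x ∧ δ x + 1 = δ ξ
    · have hb : BadR CL CN δ ξ := by
        by_contra hb
        apply hξ
        unfold Hfun
        exact if_neg hb
      obtain ⟨h₀, hξ', hnot⟩ := hb
      by_cases h : CL.IsU ξ h₀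
      · right
        exact ⟨hc.1.mem_open U2.isOpen hx2, h₀, hξ', fun h' => hnot ⟨h, h'⟩⟩
      · left
        exact ⟨hc.1.mem_open U1.isOpen hx1, h₀, hξ', h⟩
    · exact absurd (vanish_of_not CL CN δ x ξ hc).2.2 hξ
  refine ⟨hG₁fin, hG₂fin, hHfin, ?_⟩
  by_cases hx : ξ₀ ⤳ x ∧ δ x + 2 = δ ξ₀
  swap
  · have hz : ∀ ξ, CL.coef δ ξ * CN.dv δ ξ x = 0 ∧ CN.coef δ ξ * CL.dv δ ξ x = 0 ∧
        Hfun CL CN δ x ξ = 0 := by
      intro ξ
      by_cases hc : ξ ⤳ x ∧ δ x + 1 = δ ξ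
      · by_cases hc' : ξ₀ ⤳ ξ ∧ δ ξ + 1 = δ ξ₀
        · exact absurd ⟨hc'.1.trans hc.1, by omega⟩ hx
        · exact vanish_of_not' CL CN δ x ξ hc'
      · exact vanish_of_not CL CN δ x ξ hc
    rw [finsum_congr (fun ξ => (hz ξ).1), finsum_congr (fun ξ => (hz ξ).2.1),
      finsum_congr (fun ξ => (hz ξ).2.2)]
    simp
  · obtain ⟨h₀x, hdx⟩ := hx
    obtain ⟨hE1, hS1⟩ := key_rel δ hX ξ₀ x h₀x hdx _ _ (CL.num_ne x h₀x) (CN.num_ne x h₀x)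
    obtain ⟨hE2, hS2⟩ := key_rel δ hX ξ₀ x h₀x hdx _ _ (CL.num_ne x h₀x) (CN.den_ne x h₀x)
    obtain ⟨hE3, hS3⟩ := key_rel δ hX ξ₀ x h₀x hdx _ _ (CL.den_ne x h₀x) (CN.num_ne x h₀x)
    obtain ⟨hE4, hS4⟩ := key_rel δ hX ξ₀ x h₀x hdx _ _ (CL.den_ne x h₀x) (CN.den_ne x h₀x)
    have hpt : ∀ ξ, CL.coef δ ξ * CN.dv δ ξ x - CN.coef δ ξ * CL.dv δ ξ x - Hfun CL CN δ x ξ =
        -(DfunR δ ξ₀ x (CL.num x h₀x) (CN.num x h₀x) ξ -
          DfunR δ ξ₀ x (CL.num x h₀x) (CN.den x h₀x) ξ -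
          DfunR δ ξ₀ x (CL.den x h₀x) (CN.num x h₀x) ξ +
          DfunR δ ξ₀ x (CL.den x h₀x) (CN.den x h₀x) ξ) := by
      intro ξ
      by_cases hc : ξ ⤳ x ∧ δ x + 1 = δ ξ
      · by_cases hc' : ξ₀ ⤳ ξ ∧ δ ξ + 1 = δ ξ₀
        · exact pointwise_rel CL CN δ hX x ξ hc hc'.1 hc'.2
        · obtain ⟨z1, z2, z3⟩ := vanish_of_not' CL CN δ x ξ hc'
          have hn : ¬ ((ξ₀ ⤳ ξ ∧ ξ ⤳ x) ∧ δ x + 1 = δ ξ) := by
            rintro ⟨⟨h1, -⟩, h2⟩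
            exact hc' ⟨h1, by omega⟩
          rw [z1, z2, z3, DfunR_neg δ ξ₀ x _ _ ξ hn, DfunR_neg δ ξ₀ x _ _ ξ hn,
            DfunR_neg δ ξ₀ x _ _ ξ hn, DfunR_neg δ ξ₀ x _ _ ξ hn]
          ring
      · obtain ⟨z1, z2, z3⟩ := vanish_of_not CL CN δ x ξ hc
        have hn : ¬ ((ξ₀ ⤳ ξ ∧ ξ ⤳ x) ∧ δ x + 1 = δ ξ) := by
          rintro ⟨⟨-, h1⟩, h2⟩
          exact hc ⟨h1, h2⟩
        rw [z1, z2, z3, DfunR_neg δ ξ₀ x _ _ ξ hn, DfunR_neg δ ξ₀ x _ _ ξ hn,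
          DfunR_neg δ ξ₀ x _ _ ξ hn, DfunR_neg δ ξ₀ x _ _ ξ hn]
        ring
    exact finsum_combine _ _ _ _ _ _ _ hG₁fin hG₂fin hHfin hE1 hE2 hE3 hE4 hpt hS1 hS2 hS3 hS4

end Part10

section Part11

open AlgebraicGeometry CategoryTheory TopologicalSpace IsLocalRing CycAlg
  Groth.Agent.Lib.R2H1.LocQuot Groth.Agent.Lib.R2H1.RatEquivOpen
  Groth.Agent.Lib.R2H1.FlatDivSum Groth.Agent.Lib.R2H1.TameLaws
  Groth.Agent.Lib.R2H1.C1Comm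

variable {X : Scheme.{u}}

/-- the data attached to an invertible module with chosen local generators, a rational section
`s` on the closure of `ξ₀` and rational sections `v ξ` on the closures of all points. -/
noncomputable def ofMod {L : X.Modules} (gL : X → Gen L) (hgL : ∀ z, z ∈ (gL z).W) (ξ₀ : X)
    (s : Cyc.secFibre L ξ₀) (hs : s ≠ 0) (v : (ξ : X) → Cyc.secFibre L ξ) (hv : ∀ ξ, v ξ ≠ 0) :
    CData ξ₀ where
  dom z := (gL z).W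
  mem_dom := hgL
  lam z h := (gL z).fib ξ₀ h s
  lam_ne z h := (gL z).fib_ne_zero ξ₀ h s hs
  cc x ξ hξ := (gL x).cc (gL ξ) ξ hξ (hgL ξ)
  cc_unit x ξ hξ := (gL x).cc_isUnit (gL ξ) ξ hξ (hgL ξ)
  lam_change x ξ hξ h₀ := by
    have hc := (gL x).fib_change (gL ξ) ξ₀ (h₀.mem_open (gL x).W.isOpen hξ)
      (h₀.mem_open (gL ξ).W.isOpen (hgL ξ)) s
    have hcc := (gL x).cc_specializes (gL ξ) h₀ hξ (hgL ξ)
    rw [hcc] at hc
    exact hc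
  ub ξ := (gL ξ).fib ξ (hgL ξ) (v ξ)
  ub_ne ξ := (gL ξ).fib_ne_zero ξ (hgL ξ) (v ξ) (hv ξ)

theorem ofMod_coef {L : X.Modules} (gL : X → Gen L) (hgL : ∀ z, z ∈ (gL z).W) (ξ₀ : X)
    (s : Cyc.secFibre L ξ₀) (hs : s ≠ 0) (v : (ξ : X) → Cyc.secFibre L ξ) (hv : ∀ ξ, v ξ ≠ 0)
    (δ : X → ℤ) (hX : Cyc.IsSetup X δ) (ξ : X) :
    (ofMod gL hgL ξ₀ s hs v hv).coef δ ξ = Cyc.secDivFun δ L ξ₀ s ξ := by
  haveI : IsLocallyNoetherian X := hX.1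
  unfold Cyc.secDivFun
  by_cases hd : ξ₀ ⤳ ξ ∧ δ ξ + 1 = δ ξ₀
  · rw [dif_pos hd, CData.coef_pos _ δ ξ hd]
    exact ((gL ξ).secOrdAt_eq hX.2.2 ξ₀ ξ hd.1 hd.2 (hgL ξ) s).symm
  · rw [dif_neg hd, CData.coef_neg _ δ ξ hd]

theorem ofMod_dv {L : X.Modules} (gL : X → Gen L) (hgL : ∀ z, z ∈ (gL z).W) (ξ₀ : X)
    (s : Cyc.secFibre L ξ₀) (hs : s ≠ 0) (v : (ξ : X) → Cyc.secFibre L ξ) (hv : ∀ ξ, v ξ ≠ 0)
    (δ : X → ℤ) (hX : Cyc.IsSetup X δ) (ξ x : X) :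
    (ofMod gL hgL ξ₀ s hs v hv).dv δ ξ x = Cyc.secDivFun δ L ξ (v ξ) x := by
  haveI : IsLocallyNoetherian X := hX.1
  unfold Cyc.secDivFun
  by_cases hd : ξ ⤳ x ∧ δ x + 1 = δ ξ
  · rw [dif_pos hd, CData.dv_pos _ δ ξ x hd, (gL x).secOrdAt_eq hX.2.2 ξ x hd.1 hd.2 (hgL x) (v ξ),
      (gL x).fib_change (gL ξ) ξ (hd.1.mem_open (gL x).W.isOpen (hgL x)) (hgL ξ) (v ξ)]
    refine (ordAt_mul hX.2.2 x ξ hd.1 hd.2 ((gL ξ).fib_ne_zero ξ (hgL ξ) (v ξ) (hv ξ)) ?_).symm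
    have hu := (gL x).cc_isUnit (gL ξ) ξ (hd.1.mem_open (gL x).W.isOpen (hgL x)) (hgL ξ)
    exact (IsLocalRing.residue_ne_zero_iff_isUnit _).mpr hu
  · rw [dif_neg hd, CData.dv_neg _ δ ξ x hd]

/-- the data attached to a rational function on the closure of `ξ₀`. -/
noncomputable def ofFun (ξ₀ : X) (f : X.residueField ξ₀) (hf : f ≠ 0) : CData ξ₀ where
  dom _ := ⊤
  mem_dom _ := trivial
  lam _ _ := f
  lam_ne _ _ := hf
  cc _ ξ _ := 1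
  cc_unit _ _ _ := isUnit_one
  lam_change x ξ hξ h₀ := by rw [map_one, mul_one]
  ub _ := 1
  ub_ne _ := one_ne_zero

theorem ofFun_coef (ξ₀ : X) (f : X.residueField ξ₀) (hf : f ≠ 0) (δ : X → ℤ) (ξ : X) :
    (ofFun ξ₀ f hf).coef δ ξ = Cyc.divFun δ ξ₀ f ξ := by
  unfold Cyc.divFun
  by_cases hd : ξ₀ ⤳ ξ ∧ δ ξ + 1 = δ ξ₀
  · rw [dif_pos hd, CData.coef_pos _ δ ξ hd]
    rfl
  · rw [dif_neg hd, CData.coef_neg _ δ ξ hd]

theorem ofFun_dv (ξ₀ : X) (f : X.residueField ξ₀) (hf : f ≠ 0) (δ : X → ℤ) (ξ x : X) :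
    (ofFun ξ₀ f hf).dv δ ξ x = 0 := by
  by_cases hd : ξ ⤳ x ∧ δ x + 1 = δ ξ
  · rw [CData.dv_pos _ δ ξ x hd]
    have h1 : (ofFun ξ₀ f hf).ub ξ = 1 := rfl
    have h2 : (ofFun ξ₀ f hf).ccAt x ξ hd.1 = 1 := rfl
    rw [h1, h2, map_one, ordAt_one]
    rfl
  · exact CData.dv_neg _ δ ξ x hd

end Part11

section Part12

open AlgebraicGeometry CategoryTheory TopologicalSpace IsLocalRing CycAlg
  Groth.Agent.Lib.R2H1.LocQuot Groth.Agent.Lib.R2H1.RatEquivOpen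
  Groth.Agent.Lib.R2H1.FlatDivSum Groth.Agent.Lib.R2H1.TameLaws
  Groth.Agent.Lib.R2H1.C1Comm Groth.Agent.Lib.R2H1.RatEquivClosed

variable {X : Scheme.{u}}

theorem divFun_zpow (δ : X → ℤ) (hX : Cyc.IsSetup X δ) (ξ x : X) {f : X.residueField ξ}
    (hf : f ≠ 0) (n : ℤ) : Cyc.divFun δ ξ (f ^ n) x = n * Cyc.divFun δ ξ f x := by
  haveI : IsLocallyNoetherian X := hX.1
  unfold Cyc.divFun
  by_cases hc : ξ ⤳ x ∧ δ x + 1 = δ ξ
  · rw [dif_pos hc, dif_pos hc]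
    exact ordAt_zpow' hX.2.2 x ξ hc.1 hc.2 hf n
  · rw [dif_neg hc, dif_neg hc, mul_zero]

/-- the bad points of a locally finite family of data form a locally finite family. -/
theorem family_bad_finite (δ : X → ℤ) (hX : Cyc.IsSetup X δ) {ι : Type u} (ξ₀ : ι → X)
    (hlf : ∀ x : X, ∃ U : Set X, IsOpen U ∧ x ∈ U ∧ {i | (closure {ξ₀ i} ∩ U).Nonempty}.Finite)
    (CL CN : ∀ i, CData (ξ₀ i)) (x₀ : X) :
    ∃ U : Set X, IsOpen U ∧ x₀ ∈ U ∧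
      {p : ι × X | p.2 ∈ U ∧ BadR (CL p.1) (CN p.1) δ p.2}.Finite := by
  classical
  obtain ⟨U₁, hU₁, hx₁, hI⟩ := hlf x₀
  choose V hxV hVfin using fun i => badR_locallyFinite (CL i) (CN i) δ hX x₀
  refine ⟨U₁ ∩ ⋂ i ∈ {i | (closure {ξ₀ i} ∩ U₁).Nonempty}, (V i : Set X), ?_, ?_, ?_⟩
  · exact hU₁.inter (hI.isOpen_biInter (fun i _ => (V i).isOpen))
  · refine ⟨hx₁, ?_⟩
    simp only [Set.mem_iInter]
    intro i _
    exact hxV i
  · have hfin : (⋃ i ∈ {i | (closure {ξ₀ i} ∩ U₁).Nonempty},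
        ({i} : Set ι) ×ˢ {ξ : X | ξ ∈ V i ∧ BadR (CL i) (CN i) δ ξ}).Finite :=
      hI.biUnion (fun i _ => (Set.finite_singleton i).prod (hVfin i))
    refine hfin.subset ?_
    rintro ⟨i, ξ⟩ ⟨⟨hξ₁, hξ₂⟩, hb⟩
    have hb' := hb
    obtain ⟨h₀, -, -⟩ := hb'
    have hi : (closure {ξ₀ i} ∩ U₁).Nonempty :=
      ⟨ξ, specializes_iff_mem_closure.mp h₀, hξ₁⟩
    simp only [Set.mem_iInter] at hξ₂
    simp only [Set.mem_iUnion, Set.mem_prod, Set.mem_singleton_iff, Set.mem_setOf_eq]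
    exact ⟨i, hi, rfl, hξ₂ i hi, hb⟩

end Part12

section Part13

open AlgebraicGeometry CategoryTheory TopologicalSpace IsLocalRing CycAlg
  Groth.Agent.Lib.R2H1.LocQuot Groth.Agent.Lib.R2H1.RatEquivOpen
  Groth.Agent.Lib.R2H1.FlatDivSum Groth.Agent.Lib.R2H1.TameLaws
  Groth.Agent.Lib.R2H1.C1Comm Groth.Agent.Lib.R2H1.RatEquivClosed

variable {X : Scheme.{u}}

/-- a locally finite weighted sum of commutator terms is rationally equivalent to zero. -/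
theorem family_ratEquivZero (δ : X → ℤ) (hX : Cyc.IsSetup X δ) (k : ℤ) {ι : Type u}
    (ξ₀ : ι → X) (hξ₀ : ∀ i, δ (ξ₀ i) = k + 2)
    (hlf : ∀ x : X, ∃ U : Set X, IsOpen U ∧ x ∈ U ∧ {i | (closure {ξ₀ i} ∩ U).Nonempty}.Finite)
    (CL CN : ∀ i, CData (ξ₀ i)) (m : ι → ℤ) (γ : AlgebraicCycle X ℤ)
    (hγ : ∀ x, γ x = ∑ᶠ i, m i * ∑ᶠ ξ, Hfun (CL i) (CN i) δ x ξ) :
    Cyc.RatEquivZero δ k γ := by
  classical
  unfold Cyc.RatEquivZero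
  refine ⟨{p : ι × X // BadR (CL p.1) (CN p.1) δ p.2}, fun p => p.1.2,
    fun p => (Ftot (CL p.1.1) (CN p.1.1) p.1.2) ^ (m p.1.1), ?_, ?_, ?_, ?_⟩
  · rintro ⟨⟨i, ξ⟩, h₀, hξ, -⟩
    change δ ξ = k + 1
    have := hξ₀ i
    change δ ξ + 1 = δ (ξ₀ i) at hξ
    omega
  · intro p
    exact zpow_ne_zero _ (Ftot_ne_zero _ _ δ hX _ p.2)
  · intro x₀
    obtain ⟨U, hU, hxU, hfin⟩ := family_bad_finite δ hX ξ₀ hlf CL CN x₀
    refine ⟨U, hU, hxU, ?_⟩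
    refine (hfin.preimage Subtype.val_injective.injOn).subset ?_
    rintro p ⟨y, hy, hyU⟩
    have hsp : p.1.2 ⤳ y := specializes_iff_mem_closure.mpr hy
    exact ⟨hsp.mem_open hU hyU, p.2⟩
  · intro x
    rw [hγ x]
    obtain ⟨U, hU, hxU, hfin⟩ := family_bad_finite δ hX ξ₀ hlf CL CN x
    set G : ι × X → ℤ := fun p => m p.1 * Hfun (CL p.1) (CN p.1) δ x p.2 with hG
    have hGsupp : Function.support G ⊆
        {p : ι × X | p.2 ∈ U ∧ BadR (CL p.1) (CN p.1) δ p.2} := by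
      intro p hp
      rw [Function.mem_support] at hp
      have h1 : Hfun (CL p.1) (CN p.1) δ x p.2 ≠ 0 := by
        intro h0
        apply hp
        change m p.1 * Hfun (CL p.1) (CN p.1) δ x p.2 = 0
        rw [h0, mul_zero]
      unfold Hfun at h1
      split_ifs at h1 with hb
      · have := divFun_ne_zero_specializes h1
        exact ⟨this.1.mem_open hU hxU, hb⟩
      · exact absurd rfl h1
    have hGfin := hfin.subset hGsupp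
    have e1 : ∑ᶠ i, m i * ∑ᶠ ξ, Hfun (CL i) (CN i) δ x ξ = ∑ᶠ p : ι × X, G p := by
      rw [finsum_curry G hGfin]
      refine finsum_congr (fun i => ?_)
      rw [mul_finsum' _ _ (main_abs (CL i) (CN i) δ hX x).2.2.1]
    rw [e1]
    have h1 : ∀ p : {p : ι × X // BadR (CL p.1) (CN p.1) δ p.2},
        Cyc.divFun δ p.1.2 ((Ftot (CL p.1.1) (CN p.1.1) p.1.2) ^ (m p.1.1)) x = G p.1 := by
      intro p
      rw [divFun_zpow δ hX _ _ (Ftot_ne_zero _ _ δ hX _ p.2)]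
      change _ = m p.1.1 * Hfun (CL p.1.1) (CN p.1.1) δ x p.1.2
      unfold Hfun
      rw [if_pos p.2]
    rw [finsum_congr h1]
    symm
    refine ((finsum_set_coe_eq_finsum_mem (f := G)
      {p : ι × X | BadR (CL p.1) (CN p.1) δ p.2}).trans ?_)
    rw [← finsum_mem_univ G]
    apply finsum_mem_inter_support_eq'
    intro p hp
    simp only [Set.mem_univ, iff_true]
    exact (hGsupp hp).2

end Part13

section Part14

theorem finsum_comm_of_finite {α β : Type*} (f : α → β → ℤ)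
    (hf : (Function.support (fun p : α × β => f p.1 p.2)).Finite) :
    ∑ᶠ a, ∑ᶠ b, f a b = ∑ᶠ b, ∑ᶠ a, f a b := by
  have hg : (Function.support (fun p : β × α => f p.2 p.1)).Finite := by
    have : Function.support (fun p : β × α => f p.2 p.1) =
        (Equiv.prodComm α β) '' Function.support (fun p : α × β => f p.1 p.2) := by
      ext ⟨b, a⟩
      simp only [Function.mem_support, Set.mem_image, Equiv.prodComm_apply, Prod.exists,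
        Prod.swap_prod_mk, Prod.mk.injEq]
      constructor
      · intro h
        exact ⟨a, b, h, rfl, rfl⟩
      · rintro ⟨a', b', h, rfl, rfl⟩
        exact h
    rw [this]
    exact hf.image _
  rw [← finsum_curry (fun p : α × β => f p.1 p.2) hf,
    ← finsum_curry (fun p : β × α => f p.2 p.1) hg]
  exact (finsum_comp_equiv (Equiv.prodComm β α) (f := fun p : α × β => f p.1 p.2)).symm

/-- interchange of summation for a product of a sum with a function. -/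
theorem interchange {ι α : Type*} (c : ι → α → ℤ) (b : α → ℤ)
    (h1 : ∀ ξ, (Function.support (fun i => c i ξ)).Finite)
    (h2 : (Function.support (fun p : ι × α => c p.1 p.2 * b p.2)).Finite) :
    ∑ᶠ ξ, (∑ᶠ i, c i ξ) * b ξ = ∑ᶠ i, ∑ᶠ ξ, c i ξ * b ξ := by
  have e1 : ∀ ξ, (∑ᶠ i, c i ξ) * b ξ = ∑ᶠ i, c i ξ * b ξ := fun ξ => finsum_mul' _ _ (h1 ξ)
  rw [finsum_congr e1]
  have h3 : (Function.support (fun p : α × ι => c p.2 p.1 * b p.1)).Finite := by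
    have : Function.support (fun p : α × ι => c p.2 p.1 * b p.1) =
        (Equiv.prodComm ι α) '' Function.support (fun p : ι × α => c p.1 p.2 * b p.2) := by
      ext ⟨a, i⟩
      simp only [Function.mem_support, Set.mem_image, Equiv.prodComm_apply, Prod.exists,
        Prod.swap_prod_mk, Prod.mk.injEq]
      constructor
      · intro h
        exact ⟨i, a, h, rfl, rfl⟩
      · rintro ⟨i', a', h, rfl, rfl⟩
        exact h
    rw [this]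
    exact h2.image _
  exact finsum_comm_of_finite (fun ξ i => c i ξ * b ξ) h3

theorem finsum_subtype_of_support {α : Type*} (P : α → Prop) (g : α → ℤ)
    (h : ∀ a, g a ≠ 0 → P a) : ∑ᶠ a : {a // P a}, g a.1 = ∑ᶠ a, g a := by
  refine (finsum_set_coe_eq_finsum_mem (f := g) {a | P a}).trans ?_
  rw [← finsum_mem_univ g]
  apply finsum_mem_inter_support_eq'
  intro a ha
  simp only [Set.mem_univ, iff_true]
  exact h a ha

end Part14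

section Part15

open AlgebraicGeometry CategoryTheory TopologicalSpace IsLocalRing CycAlg
  Groth.Agent.Lib.R2H1.LocQuot Groth.Agent.Lib.R2H1.RatEquivOpen
  Groth.Agent.Lib.R2H1.FlatDivSum Groth.Agent.Lib.R2H1.TameLaws
  Groth.Agent.Lib.R2H1.C1Comm Groth.Agent.Lib.R2H1.RatEquivClosed

variable {X : Scheme.{u}}

/-- the first half of the interchange. -/
theorem family_half (δ : X → ℤ) (hX : Cyc.IsSetup X δ) {ι : Type u}
    (ξ₀ : ι → X)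
    (hlf : ∀ x : X, ∃ U : Set X, IsOpen U ∧ x ∈ U ∧ {i | (closure {ξ₀ i} ∩ U).Nonempty}.Finite)
    (CL CN : ∀ i, CData (ξ₀ i)) (m : ι → ℤ) (dvN : X → X → ℤ)
    (hdvN : ∀ i ξ x, (CN i).dv δ ξ x = dvN ξ x) (x : X) :
    ∑ᶠ ξ, (∑ᶠ i, m i * (CL i).coef δ ξ) * dvN ξ x =
      ∑ᶠ i, m i * ∑ᶠ ξ, (CL i).coef δ ξ * (CN i).dv δ ξ x := by
  classical
  have hcoef : ∀ i ξ, (CL i).coef δ ξ ≠ 0 → ξ₀ i ⤳ ξ := by
    intro i ξ h
    by_contra hn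
    exact h ((CL i).coef_neg δ ξ (fun hc => hn hc.1))
  have hdv : ∀ i ξ, (CN i).dv δ ξ x ≠ 0 → ξ ⤳ x := by
    intro i ξ h
    by_contra hn
    exact h ((CN i).dv_neg δ ξ x (fun hc => hn hc.1))
  have h1 : ∀ ξ, (Function.support (fun i => m i * (CL i).coef δ ξ)).Finite := by
    intro ξ
    obtain ⟨U, hU, hξU, hfin⟩ := hlf ξ
    refine hfin.subset ?_
    intro i hi
    rw [Function.mem_support] at hi
    have h2 : (CL i).coef δ ξ ≠ 0 := fun h0 => hi (by rw [h0, mul_zero])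
    exact ⟨ξ, specializes_iff_mem_closure.mp (hcoef i ξ h2), hξU⟩
  have h2 : (Function.support
      (fun p : ι × X => m p.1 * (CL p.1).coef δ p.2 * dvN p.2 x)).Finite := by
    obtain ⟨U, hU, hxU, hfin⟩ := hlf x
    have hfin' : (⋃ i ∈ {i | (closure {ξ₀ i} ∩ U).Nonempty}, ({i} : Set ι) ×ˢ
        Function.support (fun ξ => (CL i).coef δ ξ * (CN i).dv δ ξ x)).Finite :=
      hfin.biUnion (fun i _ => (Set.finite_singleton i).prod (main_abs (CL i) (CN i) δ hX x).1)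
    refine hfin'.subset ?_
    rintro ⟨i, ξ⟩ hp
    rw [Function.mem_support] at hp
    change m i * (CL i).coef δ ξ * dvN ξ x ≠ 0 at hp
    have h3 : (CL i).coef δ ξ ≠ 0 := fun h0 => hp (by rw [h0, mul_zero, zero_mul])
    have h4 : (CN i).dv δ ξ x ≠ 0 := fun h0 => hp (by rw [← hdvN i ξ x, h0, mul_zero])
    have hi : (closure {ξ₀ i} ∩ U).Nonempty :=
      ⟨x, specializes_iff_mem_closure.mp ((hcoef i ξ h3).trans (hdv i ξ h4)), hxU⟩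
    simp only [Set.mem_iUnion, Set.mem_prod, Set.mem_singleton_iff, Function.mem_support]
    exact ⟨i, hi, rfl, mul_ne_zero h3 h4⟩
  rw [interchange (fun i ξ => m i * (CL i).coef δ ξ) (fun ξ => dvN ξ x) h1 h2]
  refine finsum_congr (fun i => ?_)
  rw [mul_finsum' _ _ (main_abs (CL i) (CN i) δ hX x).1]
  refine finsum_congr (fun ξ => ?_)
  rw [hdvN i ξ x, mul_assoc]

theorem family_half_support (δ : X → ℤ) {ι : Type u}
    (ξ₀ : ι → X)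
    (hlf : ∀ x : X, ∃ U : Set X, IsOpen U ∧ x ∈ U ∧ {i | (closure {ξ₀ i} ∩ U).Nonempty}.Finite)
    (CL CN : ∀ i, CData (ξ₀ i)) (m : ι → ℤ) (x : X) :
    (Function.support
      (fun i => m i * ∑ᶠ ξ, (CL i).coef δ ξ * (CN i).dv δ ξ x)).Finite := by
  classical
  obtain ⟨U, hU, hxU, hfin⟩ := hlf x
  refine hfin.subset ?_
  intro i hi
  rw [Function.mem_support] at hi
  have h1 : ∑ᶠ ξ, (CL i).coef δ ξ * (CN i).dv δ ξ x ≠ 0 := fun h0 => hi (by rw [h0, mul_zero])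
  have h2 : ∃ ξ, (CL i).coef δ ξ * (CN i).dv δ ξ x ≠ 0 := by
    by_contra hcon
    push_neg at hcon
    exact h1 (finsum_eq_zero_of_forall_eq_zero hcon)
  obtain ⟨ξ, hξ⟩ := h2
  have h3 : (CL i).coef δ ξ ≠ 0 := fun h0 => hξ (by rw [h0, zero_mul])
  have h4 : (CN i).dv δ ξ x ≠ 0 := fun h0 => hξ (by rw [h0, mul_zero])
  have h5 : ξ₀ i ⤳ ξ := by
    by_contra hn
    exact h3 ((CL i).coef_neg δ ξ (fun hc => hn hc.1))
  have h6 : ξ ⤳ x := by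
    by_contra hn
    exact h4 ((CN i).dv_neg δ ξ x (fun hc => hn hc.1))
  exact ⟨x, specializes_iff_mem_closure.mp (h5.trans h6), hxU⟩

/-- a locally finite weighted family of commutators of divisor data is rationally equivalent to
zero. -/
theorem family_main (δ : X → ℤ) (hX : Cyc.IsSetup X δ) (k : ℤ) {ι : Type u}
    (ξ₀ : ι → X) (hξ₀ : ∀ i, δ (ξ₀ i) = k + 2)
    (hlf : ∀ x : X, ∃ U : Set X, IsOpen U ∧ x ∈ U ∧ {i | (closure {ξ₀ i} ∩ U).Nonempty}.Finite)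
    (CL CN : ∀ i, CData (ξ₀ i)) (m : ι → ℤ) (dvL dvN : X → X → ℤ)
    (hdvL : ∀ i ξ x, (CL i).dv δ ξ x = dvL ξ x) (hdvN : ∀ i ξ x, (CN i).dv δ ξ x = dvN ξ x)
    (γ : AlgebraicCycle X ℤ)
    (hγ : ∀ x, γ x = ∑ᶠ ξ, (∑ᶠ i, m i * (CL i).coef δ ξ) * dvN ξ x -
      ∑ᶠ ξ, (∑ᶠ i, m i * (CN i).coef δ ξ) * dvL ξ x) :
    Cyc.RatEquivZero δ k γ := by
  refine family_ratEquivZero δ hX k ξ₀ hξ₀ hlf CL CN m γ ?_
  intro x
  rw [hγ x, family_half δ hX ξ₀ hlf CL CN m dvN hdvN x,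
    family_half δ hX ξ₀ hlf CN CL m dvL hdvL x,
    ← finsum_sub_distrib (family_half_support δ ξ₀ hlf CL CN m x)
      (family_half_support δ ξ₀ hlf CN CL m x)]
  refine finsum_congr (fun i => ?_)
  rw [← mul_sub, (main_abs (CL i) (CN i) δ hX x).2.2.2]

end Part15

section Part16

open AlgebraicGeometry CategoryTheory TopologicalSpace IsLocalRing CycAlg
  Groth.Agent.Lib.R2H1.LocQuot Groth.Agent.Lib.R2H1.RatEquivOpen
  Groth.Agent.Lib.R2H1.FlatDivSum Groth.Agent.Lib.R2H1.TameLaws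
  Groth.Agent.Lib.R2H1.C1Comm Groth.Agent.Lib.R2H1.RatEquivClosed

/-- S1921: `c_1(L) ∩ −` kills cycles rationally equivalent to zero. -/
theorem main1921 (X : Scheme.{u}) (δ : X → ℤ) (hX : Cyc.IsSetup X δ) (L : X.Modules)
    (hL : PicF.IsInvertible L) (k : ℤ) (α : AlgebraicCycle X ℤ)
    (h0 : Cyc.RatEquivZero δ (k + 1) α) (s : (ξ : X) → Cyc.secFibre L ξ) (hs : ∀ ξ, s ξ ≠ 0)
    (γ : AlgebraicCycle X ℤ) (hγ : ⇑γ = Cyc.c1CapFun δ L ⇑α s) : Cyc.RatEquivZero δ k γ := by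
  classical
  choose gL hgL using exists_gen L hL
  obtain ⟨ι, ξ₀, f, hξ₀, hf, hlf, hα'⟩ := h0
  refine family_main δ hX k ξ₀ (fun i => by rw [hξ₀ i]; ring) hlf
    (fun i => ofFun (ξ₀ i) (f i) (hf i))
    (fun i => ofMod gL hgL (ξ₀ i) (s (ξ₀ i)) (hs _) s hs)
    (fun _ => 1) (fun _ _ => 0) (fun ξ x => Cyc.secDivFun δ L ξ (s ξ) x)
    (fun i ξ x => ofFun_dv (ξ₀ i) (f i) (hf i) δ ξ x)
    (fun i ξ x => ofMod_dv gL hgL (ξ₀ i) (s (ξ₀ i)) (hs _) s hs δ hX ξ x) γ ?_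
  intro x
  rw [hγ]
  unfold Cyc.c1CapFun
  simp only [mul_zero, finsum_zero, sub_zero, one_mul]
  refine finsum_congr (fun ξ => ?_)
  have e : ∀ i, (ofFun (ξ₀ i) (f i) (hf i)).coef δ ξ = Cyc.divFun δ (ξ₀ i) (f i) ξ :=
    fun i => ofFun_coef (ξ₀ i) (f i) (hf i) δ ξ
  rw [hα' ξ, finsum_congr e]

end Part16

section Part17

open AlgebraicGeometry CategoryTheory TopologicalSpace IsLocalRing CycAlg
  Groth.Agent.Lib.R2H1.LocQuot Groth.Agent.Lib.R2H1.RatEquivOpen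
  Groth.Agent.Lib.R2H1.FlatDivSum Groth.Agent.Lib.R2H1.TameLaws
  Groth.Agent.Lib.R2H1.C1Comm Groth.Agent.Lib.R2H1.RatEquivClosed

/-- the closures of the points of the support of a cycle are locally finite. -/
theorem cycle_support_locallyFinite {X : Scheme.{u}} (α : AlgebraicCycle X ℤ) (x : X) :
    ∃ U : Set X, IsOpen U ∧ x ∈ U ∧
      {i : {ζ : X // α ζ ≠ 0} | (closure {i.1} ∩ U).Nonempty}.Finite := by
  obtain ⟨t, ht, htf⟩ := α.supportLocallyFiniteWithinDomain x trivial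
  obtain ⟨U, hUt, hU, hxU⟩ := mem_nhds_iff.mp ht
  refine ⟨U, hU, hxU, ?_⟩
  refine (htf.preimage Subtype.val_injective.injOn).subset ?_
  rintro i ⟨y, hy, hyU⟩
  have hsp : i.1 ⤳ y := specializes_iff_mem_closure.mpr hy
  exact ⟨hUt (hsp.mem_open hU hyU), i.2⟩

/-- S1922: `c_1(L) ∩ (c_1(N) ∩ α) ∼ c_1(N) ∩ (c_1(L) ∩ α)`. -/
theorem main1922 (X : Scheme.{u}) (δ : X → ℤ) (hX : Cyc.IsSetup X δ) (L N : X.Modules)
    (hL : PicF.IsInvertible L) (hN : PicF.IsInvertible N) (k : ℤ) (α : AlgebraicCycle X ℤ)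
    (hα : α ∈ Cyc.Zk X δ (k + 2)) (sL sL' : (ξ : X) → Cyc.secFibre L ξ)
    (sN sN' : (ξ : X) → Cyc.secFibre N ξ) (hsL : ∀ ξ, sL ξ ≠ 0) (hsL' : ∀ ξ, sL' ξ ≠ 0)
    (hsN : ∀ ξ, sN ξ ≠ 0) (hsN' : ∀ ξ, sN' ξ ≠ 0) (γ₁ γ₂ : AlgebraicCycle X ℤ)
    (h₁ : ⇑γ₁ = Cyc.c1CapFun δ L (Cyc.c1CapFun δ N ⇑α sN) sL)
    (h₂ : ⇑γ₂ = Cyc.c1CapFun δ N (Cyc.c1CapFun δ L ⇑α sL') sN') :
    Cyc.RatEquiv δ k γ₁ γ₂ := by
  classical
  choose gL hgL using exists_gen L hL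
  choose gN hgN using exists_gen N hN
  unfold Cyc.RatEquiv
  refine family_main δ hX k (ι := {ζ : X // α ζ ≠ 0}) (fun ζ => ζ.1) ?_
    (cycle_support_locallyFinite α)
    (fun ζ => ofMod gN hgN ζ.1 (sN ζ.1) (hsN _) sN' hsN')
    (fun ζ => ofMod gL hgL ζ.1 (sL' ζ.1) (hsL' _) sL hsL)
    (fun ζ => α ζ.1) (fun ξ x => Cyc.secDivFun δ N ξ (sN' ξ) x)
    (fun ξ x => Cyc.secDivFun δ L ξ (sL ξ) x)
    (fun ζ ξ x => ofMod_dv gN hgN ζ.1 (sN ζ.1) (hsN _) sN' hsN' δ hX ξ x)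
    (fun ζ ξ x => ofMod_dv gL hgL ζ.1 (sL' ζ.1) (hsL' _) sL hsL δ hX ξ x) (γ₁ - γ₂) ?_
  · intro ζ
    by_contra hne
    exact ζ.2 (hα ζ.1 hne)
  · intro x
    have hsub : (γ₁ - γ₂) x = γ₁ x - γ₂ x := by
      rw [Function.locallyFinsuppWithin.coe_sub]
      rfl
    rw [hsub, h₁, h₂]
    unfold Cyc.c1CapFun
    have e1 : ∀ ξ, ∑ᶠ ζ : {ζ : X // α ζ ≠ 0}, α ζ.1 *
        (ofMod gN hgN ζ.1 (sN ζ.1) (hsN _) sN' hsN').coef δ ξ =
        ∑ᶠ ζ : X, α ζ * Cyc.secDivFun δ N ζ (sN ζ) ξ := by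
      intro ξ
      have e : ∀ ζ : {ζ : X // α ζ ≠ 0}, α ζ.1 *
          (ofMod gN hgN ζ.1 (sN ζ.1) (hsN _) sN' hsN').coef δ ξ =
          α ζ.1 * Cyc.secDivFun δ N ζ.1 (sN ζ.1) ξ := fun ζ => by
        rw [ofMod_coef gN hgN ζ.1 (sN ζ.1) (hsN _) sN' hsN' δ hX ξ]
      rw [finsum_congr e]
      exact finsum_subtype_of_support (fun ζ => α ζ ≠ 0)
        (fun ζ => α ζ * Cyc.secDivFun δ N ζ (sN ζ) ξ)
        (fun ζ h h0 => h (by rw [h0, zero_mul]))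
    have e2 : ∀ ξ, ∑ᶠ ζ : {ζ : X // α ζ ≠ 0}, α ζ.1 *
        (ofMod gL hgL ζ.1 (sL' ζ.1) (hsL' _) sL hsL).coef δ ξ =
        ∑ᶠ ζ : X, α ζ * Cyc.secDivFun δ L ζ (sL' ζ) ξ := by
      intro ξ
      have e : ∀ ζ : {ζ : X // α ζ ≠ 0}, α ζ.1 *
          (ofMod gL hgL ζ.1 (sL' ζ.1) (hsL' _) sL hsL).coef δ ξ =
          α ζ.1 * Cyc.secDivFun δ L ζ.1 (sL' ζ.1) ξ := fun ζ => by
        rw [ofMod_coef gL hgL ζ.1 (sL' ζ.1) (hsL' _) sL hsL δ hX ξ]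
      rw [finsum_congr e]
      exact finsum_subtype_of_support (fun ζ => α ζ ≠ 0)
        (fun ζ => α ζ * Cyc.secDivFun δ L ζ (sL' ζ) ξ)
        (fun ζ h h0 => h (by rw [h0, zero_mul]))
    simp only [e1, e2]

end Part17

end Groth.Agent.Lib.R2H1.C1Rel
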