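import Mathlib

/-!
# Ramification index and inertia degree through arbitrary localizations

For `A → B`, `q` a prime of `B` over `p`, `T` (resp. `S`) any localization of `A` at `p` (resp. of `B` at
`q`) and a compatible ring map `ψ : T → S`:
* `toNat_length_eq_ramificationIdx` : `length_S (S / 𝔪_T S) = e(q/p)`;
* `finrank_residueField_eq_inertiaDeg` : `[κ(S) : κ(T)] = f(q/p)`.
-/

set_option autoImplicit false
set_option linter.unusedVariables false
set_option linter.unusedSectionVars false
set_option linter.style.haveILetI false

universe u

namespace Groth.Agent.Lib.R2H3.RamLoc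

open IsLocalRing

/-- length of a cyclic module transported along a ring isomorphism. -/
theorem length_quotient_ringEquiv {R R' : Type*} [CommRing R] [CommRing R'] (e : R ≃+* R')
    (I : Ideal R) :
    Module.length R (R ⧸ I) = Module.length R' (R' ⧸ I.map (e : R →+* R')) := by
  letI : Algebra R R' := e.toRingHom.toAlgebra
  have hsurj : Function.Surjective (algebraMap R R') := e.surjective
  rw [← Module.length_eq_of_surjective (S := R) (R := R') (M := R' ⧸ I.map (e : R →+* R')) hsurj]
  let g : R ⧸ I ≃+* R' ⧸ I.map (e : R →+* R') := Ideal.quotientEquiv I _ e rfl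
  let gl : (R ⧸ I) ≃ₗ[R] (R' ⧸ I.map (e : R →+* R')) :=
    { g with
      map_smul' := by
        intro r x
        obtain ⟨x, rfl⟩ := Ideal.Quotient.mk_surjective x
        show g (r • Ideal.Quotient.mk I x) = r • g (Ideal.Quotient.mk I x)
        rw [Algebra.smul_def r (g (Ideal.Quotient.mk I x)), Algebra.smul_def, map_mul]
        congr 1 }
  exact gl.length_eq

section gen

theorem toNat_length_eq_ramificationIdx {A B : Type u} [CommRing A] [CommRing B] [Algebra A B]
    (p : Ideal A) [p.IsPrime] (q : Ideal B) [q.IsPrime] [q.LiesOver p]
    (T : Type u) [CommRing T] [Algebra A T] [IsLocalization.AtPrime T p] [IsLocalRing T]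
    (S : Type u) [CommRing S] [Algebra B S] [IsLocalization.AtPrime S q] [IsLocalRing S]
    (ψ : T →+* S) (hψ : ψ.comp (algebraMap A T) = (algebraMap B S).comp (algebraMap A B)) :
    (Module.length S (S ⧸ (maximalIdeal T).map ψ)).toNat = q.ramificationIdx A := by
  rw [Ideal.ramificationIdx_eq p q]
  congr 1
  let e : Localization.AtPrime q ≃ₐ[B] S :=
    IsLocalization.algEquiv q.primeCompl (Localization.AtPrime q) S
  rw [length_quotient_ringEquiv e.toRingEquiv (p.map (algebraMap A (Localization.AtPrime q)))]
  have hI : (p.map (algebraMap A (Localization.AtPrime q))).map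
      (e.toRingEquiv : Localization.AtPrime q →+* S) = (maximalIdeal T).map ψ := by
    rw [← IsLocalization.AtPrime.map_eq_maximalIdeal p T, Ideal.map_map, Ideal.map_map, hψ]
    congr 1
    ext a
    simp [IsScalarTower.algebraMap_apply A B (Localization.AtPrime q)]
  rw [hI]

theorem finrank_residueField_eq_inertiaDeg {A B : Type u} [CommRing A] [CommRing B] [Algebra A B]
    (p : Ideal A) [p.IsPrime] (q : Ideal B) [q.IsPrime] [q.LiesOver p]
    (T : Type u) [CommRing T] [Algebra A T] [IsLocalization.AtPrime T p] [IsLocalRing T]
    (S : Type u) [CommRing S] [Algebra B S] [IsLocalization.AtPrime S q] [IsLocalRing S]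
    (ψ : T →+* S) (hψ : ψ.comp (algebraMap A T) = (algebraMap B S).comp (algebraMap A B))
    [IsLocalHom ψ] :
    (letI := (IsLocalRing.ResidueField.map ψ).toAlgebra
     Module.finrank (ResidueField T) (ResidueField S)) = q.inertiaDeg A := by
  letI := (IsLocalRing.ResidueField.map ψ).toAlgebra
  letI := Localization.AtPrime.algebraOfLiesOver p q
  rw [Ideal.inertiaDeg_eq p q]
  let eT : T ≃ₐ[A] Localization.AtPrime p := IsLocalization.algEquiv p.primeCompl T _
  let eS : S ≃ₐ[B] Localization.AtPrime q := IsLocalization.algEquiv q.primeCompl S _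
  let i : ResidueField T ≃+* p.ResidueField := ResidueField.mapEquiv eT.toRingEquiv
  let j : ResidueField S ≃+* q.ResidueField := ResidueField.mapEquiv eS.toRingEquiv
  refine Algebra.finrank_eq_of_equiv_equiv i j ?_
  have key : (algebraMap (Localization.AtPrime p) (Localization.AtPrime q)).comp
      (eT.toRingEquiv : T →+* Localization.AtPrime p) =
      (eS.toRingEquiv : S →+* Localization.AtPrime q).comp ψ := by
    apply IsLocalization.ringHom_ext p.primeCompl (S := T)
    ext a
    have h1 : ψ (algebraMap A T a) = algebraMap B S (algebraMap A B a) := congr($hψ a)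
    simp [h1, Localization.AtPrime.IsLiesOverAlgebra.algebraMap_eq, Localization.localRingHom_to_map]
  ext x
  obtain ⟨x, rfl⟩ := residue_surjective x
  have h2 := congr($key x)
  simp only [RingHom.comp_apply] at h2
  show algebraMap p.ResidueField q.ResidueField (i (residue T x)) =
    j (ResidueField.map ψ (residue T x))
  simp only [i, j, ResidueField.mapEquiv_apply, ResidueField.map_residue]
  erw [ResidueField.map_residue, ResidueField.map_residue]
  exact congrArg _ h2

end gen

end Groth.Agent.Lib.R2H3.RamLoc
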