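/-
Semi-local length and norm formulas (helper1, round 2).

Main results: `length_eq_finsum` (A -> B, M a B-module of finite length: length_A M = sum over maximal ideals m of B of length_A(B/m) * length_{S m}(S m ⊗ M), for flat local B-algebras S m with m S m = max ideal and m' S m = 1 for m' ≠ m),
`ordFrac_norm_eq_finsum` (A Noetherian local domain of dimension 1, B a finite domain extension: ord_A(Nm z) = sum_m length_A(B/m) * ord_{S m}(z)),
`toNat_length_quot_eq_inertiaDeg`, `chart_norm_loc`, `chart_norm` (A₀ -> B₀ finite injective map of domains, 𝔭 a prime of A₀ with one-dimensional local ring R, T 𝔮 localizations of B₀ at the primes over 𝔭: ord_R(Nm z) = sum_𝔮 f(𝔮|𝔭) ord_{T 𝔮}(z)).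
Helpers: `length_tensor_quot_of_map_eq_top/max`, `le_finsum`, `algebraMap_S_ne_zero`, `Over`, `toOver`, `toOver_bijective`, `algEq`, `isLocalization_algEq`.
-/
import Mathlib
import Groth.Prelude
import Groth.Agent.Lib.R2H1KeyLemmaCmp
import Groth.Agent.Lib.R2H3RamLoc
import Groth.Agent.Lib.R2H1RatEquivOpen

set_option autoImplicit false
set_option linter.style.haveILetI false
set_option linter.unusedSectionVars false
universe u v

namespace Groth.Agent.Lib.R2H1.SemiLocal

section Part1

open IsLocalRing TensorProduct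
open scoped Classical

section Simple

variable {B : Type*} [CommRing B] (S : Type*) [CommRing S] [Algebra B S]

/-- If `I S = S` then `S ⊗ B/I = 0`. -/
theorem length_tensor_quot_of_map_eq_top {I : Ideal B} (h : I.map (algebraMap B S) = ⊤) :
    Module.length S (S ⊗[B] (B ⧸ I)) = 0 := by
  rw [← (Ideal.qoutMapEquivTensorQout S (I := I)).length_eq, Module.length_eq_zero_iff]
  rw [h]
  exact Ideal.Quotient.subsingleton_iff.mpr rfl

/-- If `I S` is the maximal ideal of the local ring `S` then `S ⊗ B/I` is simple. -/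
theorem length_tensor_quot_of_map_eq_max [IsLocalRing S] {I : Ideal B}
    (h : I.map (algebraMap B S) = maximalIdeal S) :
    Module.length S (S ⊗[B] (B ⧸ I)) = 1 := by
  rw [← (Ideal.qoutMapEquivTensorQout S (I := I)).length_eq, h]
  haveI : IsSimpleModule S (S ⧸ maximalIdeal S) := by
    rw [isSimpleModule_iff_quot_maximal]
    exact ⟨maximalIdeal S, inferInstance, ⟨LinearEquiv.refl _ _⟩⟩
  exact Module.length_eq_one _ _

end Simple

section Main

variable (A : Type*) [CommRing A] (B : Type*) [CommRing B] [Algebra A B]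
  (S : MaximalSpectrum B → Type*) [∀ m, CommRing (S m)] [∀ m, Algebra B (S m)]
  [∀ m, IsLocalRing (S m)] [∀ m, Module.Flat B (S m)]
  (h1 : ∀ m, m.asIdeal.map (algebraMap B (S m)) = maximalIdeal (S m))
  (h2 : ∀ m m' : MaximalSpectrum B, m' ≠ m → m'.asIdeal.map (algebraMap B (S m)) = ⊤)

include h1 h2

/-- **Semi-local length formula.** For a `B`-module `M` of finite length, its length over `A` is
the sum over the maximal ideals `m` of `B` of `length_A (B/m)` times the length of the
localization of `M` at `m` (computed as `S m ⊗ M` for a flat local `B`-algebra `S m` in which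
`m` generates the maximal ideal and all other maximal ideals generate the unit ideal). -/
theorem length_eq_finsum (M : Type*) [AddCommGroup M] [Module B M] (h : IsFiniteLength B M) :
    ∀ [Module A M] [IsScalarTower A B M],
      (Function.support fun m => Module.length (S m) (S m ⊗[B] M)).Finite ∧
      Module.length A M =
        ∑ᶠ m, Module.length A (B ⧸ m.asIdeal) * Module.length (S m) (S m ⊗[B] M) := by
  induction h with
  | of_subsingleton =>
    rename_i M _ _ _
    intro _ _
    have h0 : ∀ m, Module.length (S m) (S m ⊗[B] M) = 0 := fun m =>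
      Module.length_eq_zero_iff.mpr inferInstance
    refine ⟨?_, ?_⟩
    · have : (Function.support fun m => Module.length (S m) (S m ⊗[B] M)) = ∅ := by
        ext m; simp [h0 m]
      rw [this]; exact Set.finite_empty
    · rw [Module.length_eq_zero (R := A) (M := M)]
      simp [h0]
  | of_simple_quotient _ ih =>
    rename_i M _ _ N hN _
    intro _ _
    obtain ⟨I, hI, ⟨e⟩⟩ := isSimpleModule_iff_quot_maximal.mp hN
    obtain ⟨ihfin, iheq⟩ := ih
    let m₀ : MaximalSpectrum B := ⟨I, hI⟩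
    -- additivity over A
    have hA : Module.length A M = Module.length A N + Module.length A (M ⧸ N) :=
      Module.length_eq_add_of_exact (N.subtype.restrictScalars A) (N.mkQ.restrictScalars A)
        N.injective_subtype N.mkQ_surjective (LinearMap.exact_subtype_mkQ N)
    have hAq : Module.length A (M ⧸ N) = Module.length A (B ⧸ I) :=
      (e.restrictScalars A).length_eq
    -- additivity over S m
    have hS : ∀ m, Module.length (S m) (S m ⊗[B] M) =
        Module.length (S m) (S m ⊗[B] N) + Module.length (S m) (S m ⊗[B] (M ⧸ N)) := by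
      intro m
      refine Module.length_eq_add_of_exact (N.subtype.baseChange (S m)) (N.mkQ.baseChange (S m))
        ?_ ?_ ?_
      · exact Module.Flat.lTensor_preserves_injective_linearMap (M := S m) N.subtype
          N.injective_subtype
      · exact LinearMap.lTensor_surjective (S m) N.mkQ_surjective
      · exact lTensor_exact (S m) (LinearMap.exact_subtype_mkQ N) N.mkQ_surjective
    have hSq : ∀ m, Module.length (S m) (S m ⊗[B] (M ⧸ N)) = if m = m₀ then 1 else 0 := by
      intro m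
      have e' : (S m ⊗[B] (M ⧸ N)) ≃ₗ[S m] (S m ⊗[B] (B ⧸ I)) :=
        LinearEquiv.baseChange B (S m) _ _ e
      rw [e'.length_eq]
      split_ifs with hm
      · subst hm
        exact length_tensor_quot_of_map_eq_max (S m₀) (h1 m₀)
      · exact length_tensor_quot_of_map_eq_top (S m) (h2 m m₀ (Ne.symm hm))
    have hfin2 : (Function.support fun m : MaximalSpectrum B =>
        (if m = m₀ then (1 : ℕ∞) else 0)).Finite :=
      (Set.finite_singleton m₀).subset (by intro m; simp)
    refine ⟨?_, ?_⟩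
    · refine (ihfin.union hfin2).subset ?_
      intro m hm
      simp only [Function.mem_support, ne_eq, Set.mem_union] at hm ⊢
      rw [hS m, hSq m] at hm
      by_contra hcon
      push_neg at hcon
      rw [hcon.1, hcon.2, add_zero] at hm
      exact hm rfl
    · rw [hA, hAq, iheq]
      have hfinA : (Function.support fun m => Module.length A (B ⧸ m.asIdeal) *
          Module.length (S m) (S m ⊗[B] N)).Finite :=
        ihfin.subset (by
          intro m hm
          simp only [Function.mem_support, ne_eq] at hm ⊢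
          intro h0; rw [h0, mul_zero] at hm; exact hm rfl)
      have hfinB : (Function.support fun m : MaximalSpectrum B =>
          Module.length A (B ⧸ m.asIdeal) * (if m = m₀ then (1 : ℕ∞) else 0)).Finite :=
        hfin2.subset (by
          intro m hm
          simp only [Function.mem_support, ne_eq] at hm ⊢
          intro h0; rw [h0, mul_zero] at hm; exact hm rfl)
      have : ∀ m, Module.length A (B ⧸ m.asIdeal) * Module.length (S m) (S m ⊗[B] M) =
          Module.length A (B ⧸ m.asIdeal) * Module.length (S m) (S m ⊗[B] N) +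
          Module.length A (B ⧸ m.asIdeal) * (if m = m₀ then (1 : ℕ∞) else 0) := by
        intro m; rw [hS m, hSq m, mul_add]
      simp_rw [this]
      rw [finsum_add_distrib hfinA hfinB]
      congr 1
      rw [finsum_eq_single _ m₀ (by intro m hm; simp [hm])]
      simp [m₀]

end Main

end Part1

section Part2

open IsLocalRing TensorProduct CycAlg Groth.Agent.Lib.R2H1.KeyLemma Groth.Agent.Lib.R2H1

open scoped Classical

section ToNat

theorem le_finsum {ι : Type*} (f : ι → ℕ∞) (hfin : (Function.support f).Finite) (i : ι) :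
    f i ≤ ∑ᶠ i, f i := by
  rw [finsum_eq_sum_of_support_subset f (s := hfin.toFinset) (by simp)]
  by_cases hi : i ∈ hfin.toFinset
  · exact Finset.single_le_sum (fun _ _ => bot_le) hi
  · simp only [Set.Finite.mem_toFinset, Function.mem_support, ne_eq, not_not] at hi
    rw [hi]; exact bot_le

end ToNat

theorem algebraMap_S_ne_zero (B : Type*) [CommRing B] (L : Type*) [Field L] [Algebra B L]
    [IsFractionRing B L] (S : Type*) [CommRing S] [Algebra B S] [Algebra S L]
    [IsScalarTower B S L] {x : B} (hx : x ≠ 0) :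
    algebraMap B S x ≠ 0 := by
  intro h0
  have : algebraMap B L x = 0 := by
    rw [IsScalarTower.algebraMap_apply B S L, h0, map_zero]
  exact hx ((map_eq_zero_iff _ (IsFractionRing.injective B L)).mp this)

section Norm

variable (A : Type u) [CommRing A] [IsDomain A] [IsNoetherianRing A] [IsLocalRing A]
  (hA : ringKrullDim A = 1) (B : Type u) [CommRing B] [IsDomain B] [Algebra A B]
  (hinj : Function.Injective (algebraMap A B)) [Module.Finite A B]
  (K L : Type u) [Field K] [Field L] [Algebra A K] [IsFractionRing A K] [Algebra B L]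
  [IsFractionRing B L] [Algebra K L] [Algebra A L] [IsScalarTower A B L] [IsScalarTower A K L]
  [FiniteDimensional K L]
  (S : MaximalSpectrum B → Type u) [∀ m, CommRing (S m)] [∀ m, IsDomain (S m)]
  [∀ m, Algebra B (S m)] [∀ m, IsLocalRing (S m)] [∀ m, Module.Flat B (S m)]
  [∀ m, IsNoetherianRing (S m)] [∀ m, Ring.KrullDimLE 1 (S m)]
  [∀ m, Algebra (S m) L] [∀ m, IsScalarTower B (S m) L] [∀ m, IsFractionRing (S m) L]
  (h1 : ∀ m, m.asIdeal.map (algebraMap B (S m)) = maximalIdeal (S m))
  (h2 : ∀ m m' : MaximalSpectrum B, m' ≠ m → m'.asIdeal.map (algebraMap B (S m)) = ⊤)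

include hA hinj h1 h2

/-- integral case -/
theorem ordFrac_norm_algebraMap_eq_finsum {x : B} (hx : x ≠ 0) :
    (Function.support fun m => ordFrac (S m) L (algebraMap B L x)).Finite ∧
    ordFrac A K (Algebra.norm K (algebraMap B L x)) =
      ∑ᶠ m, ((Module.length A (B ⧸ m.asIdeal)).toNat : ℤ) * ordFrac (S m) L (algebraMap B L x) := by
  haveI : IsNoetherianRing B := IsNoetherianRing.of_finite A B
  haveI : Ring.KrullDimLE 1 B := Tame.krullDimLE_one_of_finite hA B
  obtain ⟨hlt, h2'⟩ := Groth.Agent.S14503.result A hA B hinj K L x hx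
  have hfl : IsFiniteLength B (B ⧸ Ideal.span {x}) :=
    isFiniteLength_quotient_span_singleton B (mem_nonZeroDivisors_of_ne_zero hx)
  obtain ⟨hfin, heq⟩ := length_eq_finsum A B S h1 h2 (B ⧸ Ideal.span {x}) hfl
  -- identify the local lengths
  have hloc : ∀ m, Module.length (S m) (S m ⊗[B] (B ⧸ Ideal.span {x})) =
      Ring.ord (S m) (algebraMap B (S m) x) := by
    intro m
    rw [← (Ideal.qoutMapEquivTensorQout (S m) (I := Ideal.span {x})).length_eq,
      Ideal.map_span, Set.image_singleton]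
    rfl
  have hord : ∀ m, ordFrac (S m) L (algebraMap B L x) =
      ((Ring.ord (S m) (algebraMap B (S m) x)).toNat : ℤ) := by
    intro m
    rw [IsScalarTower.algebraMap_apply B (S m) L,
      ordFrac_algebraMap (S m) L (algebraMap_S_ne_zero B L (S m) hx)]
  have hordfin : ∀ m, Ring.ord (S m) (algebraMap B (S m) x) ≠ ⊤ := fun m =>
    Ring.ord_ne_top (mem_nonZeroDivisors_of_ne_zero
      (algebraMap_S_ne_zero B L (S m) hx))
  simp_rw [hloc] at hfin heq
  refine ⟨hfin.subset ?_, ?_⟩
  · intro m hm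
    simp only [Function.mem_support, ne_eq] at hm ⊢
    intro h0; rw [hord m, h0] at hm; exact hm rfl
  · rw [← h2', heq]
    have hfin' : (Function.support fun m : MaximalSpectrum B =>
        Module.length A (B ⧸ m.asIdeal) * Ring.ord (S m) (algebraMap B (S m) x)).Finite :=
      hfin.subset (by
        intro m hm
        simp only [Function.mem_support, ne_eq] at hm ⊢
        intro h0; rw [h0, mul_zero] at hm; exact hm rfl)
    have hterm : ∀ m, Module.length A (B ⧸ m.asIdeal) *
        Ring.ord (S m) (algebraMap B (S m) x) ≠ ⊤ := by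
      intro m
      have := le_finsum _ hfin' m
      rw [← heq] at this
      exact (lt_of_le_of_lt this hlt).ne
    have hsub : Function.support (fun m : MaximalSpectrum B =>
        ((Module.length A (B ⧸ m.asIdeal)).toNat : ℤ) * ordFrac (S m) L (algebraMap B L x)) ⊆
        hfin'.toFinset := by
      intro m hm
      simp only [Function.mem_support, ne_eq, Set.Finite.coe_toFinset] at hm ⊢
      intro h0
      apply hm
      rw [hord m, ← Nat.cast_mul, ← ENat.toNat_mul, h0]
      rfl
    rw [finsum_eq_sum_of_support_subset _ (s := hfin'.toFinset) (by simp),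
      finsum_eq_sum_of_support_subset _ hsub, ENat.toNat_sum (fun m _ => hterm m), Nat.cast_sum]
    refine Finset.sum_congr rfl (fun m _ => ?_)
    rw [ENat.toNat_mul, hord m]
    push_cast
    rfl

/-- **Norm formula for a finite semi-local extension**: the order at `A` of the norm of `z`
is the sum over the maximal ideals `m` of `B` of `length_A (B/m)` times the order of `z` at
(the localization `S m` of `B` at) `m`. -/
theorem ordFrac_norm_eq_finsum {z : L} (hz : z ≠ 0) :
    ordFrac A K (Algebra.norm K z) =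
      ∑ᶠ m, ((Module.length A (B ⧸ m.asIdeal)).toNat : ℤ) * ordFrac (S m) L z := by
  haveI : Ring.KrullDimLE 1 A := Ring.krullDimLE_iff.mpr hA.le
  obtain ⟨x, y, hy, rfl⟩ := IsFractionRing.div_surjective (A := B) z
  have hy0 : y ≠ 0 := nonZeroDivisors.ne_zero hy
  have hx0 : x ≠ 0 := by
    rintro rfl
    simp at hz
  have hxL : algebraMap B L x ≠ 0 := by
    rw [Ne, map_eq_zero_iff _ (IsFractionRing.injective B L)]
    exact hx0
  have hyL : algebraMap B L y ≠ 0 := by
    rw [Ne, map_eq_zero_iff _ (IsFractionRing.injective B L)]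
    exact hy0
  have hNx : Algebra.norm K (algebraMap B L x) ≠ 0 := Algebra.norm_ne_zero_iff.mpr hxL
  have hNy : Algebra.norm K (algebraMap B L y) ≠ 0 := Algebra.norm_ne_zero_iff.mpr hyL
  have hinv : Algebra.norm K (algebraMap B L y)⁻¹ = (Algebra.norm K (algebraMap B L y))⁻¹ := by
    apply eq_inv_of_mul_eq_one_left
    rw [← map_mul, inv_mul_cancel₀ hyL, map_one]
  obtain ⟨hfx, hex⟩ := ordFrac_norm_algebraMap_eq_finsum A hA B hinj K L S h1 h2 hx0
  obtain ⟨hfy, hey⟩ := ordFrac_norm_algebraMap_eq_finsum A hA B hinj K L S h1 h2 hy0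
  rw [div_eq_mul_inv, map_mul, hinv, ordFrac_mul A K hNx (inv_ne_zero hNy),
    ordFrac_inv A K hNy, hex, hey]
  have hfx' : (Function.support fun m : MaximalSpectrum B =>
      ((Module.length A (B ⧸ m.asIdeal)).toNat : ℤ) * ordFrac (S m) L (algebraMap B L x)).Finite :=
    hfx.subset (by
      intro m hm
      simp only [Function.mem_support, ne_eq] at hm ⊢
      intro h0; rw [h0, mul_zero] at hm; exact hm rfl)
  have hfy' : (Function.support fun m : MaximalSpectrum B =>
      ((Module.length A (B ⧸ m.asIdeal)).toNat : ℤ) * ordFrac (S m) L (algebraMap B L y)).Finite :=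
    hfy.subset (by
      intro m hm
      simp only [Function.mem_support, ne_eq] at hm ⊢
      intro h0; rw [h0, mul_zero] at hm; exact hm rfl)
  rw [← sub_eq_add_neg, ← finsum_sub_distrib hfx' hfy']
  refine finsum_congr (fun m => ?_)
  rw [ordFrac_mul (S m) L hxL (inv_ne_zero hyL), ordFrac_inv (S m) L hyL]
  ring

end Norm

end Part2

section Part3

open IsLocalRing TensorProduct CycAlg Groth.Agent.Lib.R2H1.KeyLemma Groth.Agent.Lib.R2H1

open scoped Classical

section Setup

variable {A₀ : Type u} [CommRing A₀] (B₀ : Type u) [CommRing B₀] [Algebra A₀ B₀]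
  (𝔭 : Ideal A₀) [𝔭.IsPrime]

/-- the index type: primes of `B₀` over `𝔭`. -/
abbrev Over : Type u := {𝔮 : PrimeSpectrum B₀ // 𝔮.asIdeal.comap (algebraMap A₀ B₀) = 𝔭}

variable [Module.Finite A₀ B₀]

/-- maximal ideals of the localization correspond to primes over `𝔭`. -/
noncomputable def toOver (m : MaximalSpectrum (Eq B₀ 𝔭)) : Over B₀ 𝔭 :=
  ⟨downP B₀ 𝔭 m, comap_downP B₀ 𝔭 m⟩

theorem toOver_bijective : Function.Bijective (toOver B₀ 𝔭) := by
  constructor
  · intro m₁ m₂ h
    exact downP_injective B₀ 𝔭 (congrArg Subtype.val h)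
  · rintro ⟨r, hr⟩
    obtain ⟨m, hm⟩ := exists_downP_eq B₀ 𝔭 r hr
    exact ⟨m, Subtype.ext hm⟩

theorem algebraMapSubmonoid_le_primeCompl (𝔮 : Over B₀ 𝔭) :
    Algebra.algebraMapSubmonoid B₀ 𝔭.primeCompl ≤ 𝔮.1.asIdeal.primeCompl := by
  rintro _ ⟨a, ha, rfl⟩ hmem
  apply ha
  have : a ∈ 𝔮.1.asIdeal.comap (algebraMap A₀ B₀) := hmem
  rwa [𝔮.2] at this

end Setup

section LocalPiece

variable {A₀ : Type u} [CommRing A₀] (B₀ : Type u) [CommRing B₀] [Algebra A₀ B₀]
  (𝔭 : Ideal A₀) [𝔭.IsPrime] [Module.Finite A₀ B₀]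
  (m : MaximalSpectrum (Eq B₀ 𝔭))
  (T : Type u) [CommRing T] [Algebra B₀ T] [IsLocalization.AtPrime T (downP B₀ 𝔭 m).asIdeal]

/-- the algebra structure of a localization at `downP m` over the localization `Eq`. -/
noncomputable def algEq : Algebra (Eq B₀ 𝔭) T :=
  (IsLocalization.lift (M := Algebra.algebraMapSubmonoid B₀ 𝔭.primeCompl) (S := Eq B₀ 𝔭)
    (g := algebraMap B₀ T) (fun y => IsLocalization.map_units T
      (⟨y.1, algebraMapSubmonoid_le_primeCompl B₀ 𝔭 (toOver B₀ 𝔭 m) y.2⟩ :
        (downP B₀ 𝔭 m).asIdeal.primeCompl))).toAlgebra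

theorem isScalarTower_algEq :
    letI := algEq B₀ 𝔭 m T
    IsScalarTower B₀ (Eq B₀ 𝔭) T := by
  letI := algEq B₀ 𝔭 m T
  exact IsScalarTower.of_algebraMap_eq (fun x => (IsLocalization.lift_eq _ x).symm)

theorem isLocalization_algEq :
    letI := algEq B₀ 𝔭 m T
    IsLocalization.AtPrime T m.asIdeal := by
  letI := algEq B₀ 𝔭 m T
  haveI := isScalarTower_algEq B₀ 𝔭 m T
  haveI := m.isMaximal
  set 𝔮 := (downP B₀ 𝔭 m).asIdeal with h𝔮
  have hle := algebraMapSubmonoid_le_primeCompl B₀ 𝔭 (toOver B₀ 𝔭 m)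
  haveI h0 : IsLocalization (𝔮.primeCompl.map (algebraMap B₀ (Eq B₀ 𝔭))) T :=
    IsLocalization.isLocalization_of_submonoid_le (Eq B₀ 𝔭) T
      (Algebra.algebraMapSubmonoid B₀ 𝔭.primeCompl) 𝔮.primeCompl hle
  refine IsLocalization.of_le (𝔮.primeCompl.map (algebraMap B₀ (Eq B₀ 𝔭))) m.asIdeal.primeCompl
    ?_ ?_
  · rintro _ ⟨b, hb, rfl⟩ hmem
    exact hb hmem
  · intro r hr
    obtain ⟨b, s, rfl⟩ :=
      IsLocalization.exists_mk'_eq (Algebra.algebraMapSubmonoid B₀ 𝔭.primeCompl) r
    have hb : b ∉ 𝔮 := by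
      intro hb
      apply hr
      have h1 : algebraMap B₀ (Eq B₀ 𝔭) b ∈ m.asIdeal := hb
      have h2 : IsLocalization.mk' (Eq B₀ 𝔭) b s =
          algebraMap B₀ (Eq B₀ 𝔭) b * IsLocalization.mk' (Eq B₀ 𝔭) 1 s := by
        rw [IsLocalization.mul_mk'_eq_mk'_of_mul, mul_one]
      rw [h2]
      exact Ideal.mul_mem_right _ _ h1
    have hu : IsUnit (algebraMap B₀ T b) := IsLocalization.map_units T (⟨b, hb⟩ : 𝔮.primeCompl)
    have h3 : algebraMap (Eq B₀ 𝔭) T (IsLocalization.mk' (Eq B₀ 𝔭) b s) *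
        algebraMap (Eq B₀ 𝔭) T (algebraMap B₀ (Eq B₀ 𝔭) (s : B₀)) = algebraMap B₀ T b := by
      rw [← map_mul, IsLocalization.mk'_spec, ← IsScalarTower.algebraMap_apply]
    rw [← h3] at hu
    exact (IsUnit.mul_iff.mp hu).1

end LocalPiece

end Part3

section Part4

open IsLocalRing TensorProduct CycAlg Groth.Agent.Lib.R2H1.KeyLemma Groth.Agent.Lib.R2H1

open scoped Classical

section Weight

variable {A₀ : Type u} [CommRing A₀] (B₀ : Type u) [CommRing B₀] [Algebra A₀ B₀]
  (𝔭 : Ideal A₀) [𝔭.IsPrime] [Module.Finite A₀ B₀]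
  (m : MaximalSpectrum (KeyLemma.Eq B₀ 𝔭))

theorem comap_Eq_eq_maximalIdeal :
    m.asIdeal.comap (algebraMap (Localization.AtPrime 𝔭) (KeyLemma.Eq B₀ 𝔭)) =
      maximalIdeal (Localization.AtPrime 𝔭) := by
  haveI : Algebra.IsIntegral (Localization.AtPrime 𝔭) (KeyLemma.Eq B₀ 𝔭) :=
    Algebra.IsIntegral.of_finite _ _
  haveI := m.isMaximal
  have h1 : (m.asIdeal.comap (algebraMap (Localization.AtPrime 𝔭) (KeyLemma.Eq B₀ 𝔭))).IsMaximal :=
    Ideal.isMaximal_comap_of_isIntegral_of_isMaximal _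
  exact eq_maximalIdeal h1

/-- the weight `length (B'/m)` is the inertia degree of the prime under `m`. -/
theorem toNat_length_quot_eq_inertiaDeg
    (T : Type u) [CommRing T] [Algebra B₀ T] [IsLocalization.AtPrime T (downP B₀ 𝔭 m).asIdeal] :
    (Module.length (Localization.AtPrime 𝔭) (KeyLemma.Eq B₀ 𝔭 ⧸ m.asIdeal)).toNat =
      (downP B₀ 𝔭 m).asIdeal.inertiaDeg A₀ := by
  letI := algEq B₀ 𝔭 m T
  haveI := isScalarTower_algEq B₀ 𝔭 m T
  haveI locT : IsLocalization.AtPrime T m.asIdeal := isLocalization_algEq B₀ 𝔭 m T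
  haveI := m.isMaximal
  haveI : IsLocalRing T := IsLocalization.AtPrime.isLocalRing T m.asIdeal
  set Rp := Localization.AtPrime 𝔭 with hRp
  set B' := KeyLemma.Eq B₀ 𝔭 with hB'
  letI aRT : Algebra Rp T := ((algebraMap B' T).comp (algebraMap Rp B')).toAlgebra
  haveI tRT : IsScalarTower Rp B' T := IsScalarTower.of_algebraMap_eq (fun _ => rfl)
  let e : (B' ⧸ m.asIdeal) ≃+* (T ⧸ maximalIdeal T) :=
    IsLocalization.AtPrime.equivQuotMaximalIdeal m.asIdeal T
  let el : (B' ⧸ m.asIdeal) ≃ₗ[Rp] ResidueField T :=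
    { e with
      map_smul' := by
        intro r x
        obtain ⟨x, rfl⟩ := Ideal.Quotient.mk_surjective x
        show e (r • Ideal.Quotient.mk m.asIdeal x) = r • e (Ideal.Quotient.mk m.asIdeal x)
        rw [Algebra.smul_def, Algebra.smul_def, map_mul]
        congr 1 }
  rw [el.length_eq]
  -- local hom
  let ψ : Rp →+* T := algebraMap Rp T
  haveI hloc : IsLocalHom ψ := by
    refine ⟨fun a ha => ?_⟩
    by_contra hna
    have ham : a ∈ maximalIdeal Rp := (mem_maximalIdeal _).mpr hna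
    rw [← comap_Eq_eq_maximalIdeal B₀ 𝔭 m, Ideal.mem_comap] at ham
    have h2 : algebraMap B' T (algebraMap Rp B' a) ∈ maximalIdeal T :=
      (IsLocalization.AtPrime.to_map_mem_maximal_iff T m.asIdeal _).mpr ham
    exact (mem_maximalIdeal _).mp h2 ha
  haveI hloc' : IsLocalHom (algebraMap Rp T) := hloc
  rw [Module.length_eq_of_surjective (S := Rp) (R := ResidueField Rp) (M := ResidueField T)
    (residue_surjective (R := Rp)), Module.length_eq_rank]
  haveI : (downP B₀ 𝔭 m).asIdeal.LiesOver 𝔭 := ⟨(comap_downP B₀ 𝔭 m).symm⟩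
  have hψ : ψ.comp (algebraMap A₀ Rp) = (algebraMap B₀ T).comp (algebraMap A₀ B₀) := by
    ext a
    show algebraMap B' T (algebraMap Rp B' (algebraMap A₀ Rp a)) =
      algebraMap B₀ T (algebraMap A₀ B₀ a)
    rw [← IsScalarTower.algebraMap_apply A₀ Rp B', IsScalarTower.algebraMap_apply A₀ B₀ B',
      ← IsScalarTower.algebraMap_apply B₀ B' T]
  have h3 := Groth.Agent.Lib.R2H3.RamLoc.finrank_residueField_eq_inertiaDeg 𝔭
    (downP B₀ 𝔭 m).asIdeal Rp T ψ hψ
  have hinst : (ResidueField.map ψ).toAlgebra =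
      (inferInstance : Algebra (ResidueField Rp) (ResidueField T)) := by
    apply Algebra.algebra_ext
    intro r
    obtain ⟨r, rfl⟩ := residue_surjective r
    rfl
  have key : ∀ (a1 a2 : Algebra (ResidueField Rp) (ResidueField T)), a1 = a2 →
      @Module.finrank (ResidueField Rp) (ResidueField T) _ _ (@Algebra.toModule _ _ _ _ a1) =
      @Module.finrank (ResidueField Rp) (ResidueField T) _ _ (@Algebra.toModule _ _ _ _ a2) := by
    rintro _ _ rfl; rfl
  rw [← h3, key _ _ hinst]
  simp only [Module.finrank, Cardinal.toNat_toENat]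

end Weight

end Part4

section Part5

open IsLocalRing TensorProduct CycAlg Groth.Agent.Lib.R2H1.KeyLemma Groth.Agent.Lib.R2H1

open scoped Classical

section Chart

variable (A₀ B₀ : Type u) [CommRing A₀] [IsDomain A₀] [IsNoetherianRing A₀] [CommRing B₀]
  [IsDomain B₀] [Algebra A₀ B₀] [Module.Finite A₀ B₀]
  (hinj : Function.Injective (algebraMap A₀ B₀))
  (K L : Type u) [Field K] [Field L] [Algebra A₀ K] [IsFractionRing A₀ K] [Algebra B₀ L]
  [IsFractionRing B₀ L] [Algebra K L] [Algebra A₀ L] [IsScalarTower A₀ B₀ L]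
  [IsScalarTower A₀ K L] [FiniteDimensional K L]
  (𝔭 : Ideal A₀) [𝔭.IsPrime]
  [Algebra (Localization.AtPrime 𝔭) K] [IsScalarTower A₀ (Localization.AtPrime 𝔭) K]
  (hR : ringKrullDim (Localization.AtPrime 𝔭) = 1)
  (T : Over B₀ 𝔭 → Type u)
  [∀ 𝔮, CommRing (T 𝔮)] [∀ 𝔮, Algebra B₀ (T 𝔮)]
  [∀ 𝔮, IsLocalization.AtPrime (T 𝔮) 𝔮.1.asIdeal]
  [∀ 𝔮, Algebra (T 𝔮) L] [∀ 𝔮, IsScalarTower B₀ (T 𝔮) L]

include hinj hR

theorem submonoid_le_nonZeroDivisors :
    Algebra.algebraMapSubmonoid B₀ 𝔭.primeCompl ≤ nonZeroDivisors B₀ := by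
  rintro _ ⟨a, ha, rfl⟩
  apply mem_nonZeroDivisors_of_ne_zero
  rw [Ne, map_eq_zero_iff _ hinj]
  rintro rfl
  exact ha (zero_mem _)

/-- **Chart form of the norm formula** (concrete localization of the base). -/
theorem chart_norm_loc {z : L} (hz : z ≠ 0) :
    ordFrac (Localization.AtPrime 𝔭) K (Algebra.norm K z) =
      ∑ᶠ 𝔮 : Over B₀ 𝔭, (𝔮.1.asIdeal.inertiaDeg A₀ : ℤ) * ordFrac (T 𝔮) L z := by
  set Rp := Localization.AtPrime 𝔭 with hRp
  set B' := KeyLemma.Eq B₀ 𝔭 with hB'
  set Mp := Algebra.algebraMapSubmonoid B₀ 𝔭.primeCompl with hMp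
  have hMle : Mp ≤ nonZeroDivisors B₀ := submonoid_le_nonZeroDivisors A₀ B₀ hinj 𝔭 hR
  haveI : IsDomain B' := IsLocalization.isDomain_of_le_nonZeroDivisors (M := Mp) B' hMle
  -- B' → L
  have hunits : ∀ y : Mp, IsUnit (algebraMap B₀ L (y : B₀)) := by
    intro y
    apply IsUnit.mk0
    rw [Ne, map_eq_zero_iff _ (IsFractionRing.injective B₀ L)]
    exact nonZeroDivisors.ne_zero (hMle y.2)
  letI aBL : Algebra B' L := (IsLocalization.lift (M := Mp) (S := B') hunits).toAlgebra
  haveI tBL : IsScalarTower B₀ B' L :=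
    IsScalarTower.of_algebraMap_eq (fun x => (IsLocalization.lift_eq _ x).symm)
  haveI fBL : IsFractionRing B' L :=
    IsFractionRing.isFractionRing_of_isDomain_of_isLocalization Mp B' L
  -- Rp → K, L
  haveI fRK : IsFractionRing Rp K :=
    IsFractionRing.isFractionRing_of_isDomain_of_isLocalization 𝔭.primeCompl Rp K
  letI aRL : Algebra Rp L := ((algebraMap K L).comp (algebraMap Rp K)).toAlgebra
  haveI tRKL : IsScalarTower Rp K L := IsScalarTower.of_algebraMap_eq (fun _ => rfl)
  haveI tRBL : IsScalarTower Rp B' L := by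
    refine IsScalarTower.of_algebraMap_eq' ?_
    apply IsLocalization.ringHom_ext 𝔭.primeCompl (S := Rp)
    ext a
    show algebraMap K L (algebraMap Rp K (algebraMap A₀ Rp a)) =
      algebraMap B' L (algebraMap Rp B' (algebraMap A₀ Rp a))
    rw [← IsScalarTower.algebraMap_apply A₀ Rp K, ← IsScalarTower.algebraMap_apply A₀ K L,
      ← IsScalarTower.algebraMap_apply A₀ Rp B', IsScalarTower.algebraMap_apply A₀ B₀ B',
      ← IsScalarTower.algebraMap_apply B₀ B' L, ← IsScalarTower.algebraMap_apply A₀ B₀ L]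
  have hinj' : Function.Injective (algebraMap Rp B') := localizationAlgebra_injective _ _ hinj
  -- the family
  let S : MaximalSpectrum B' → Type u := fun m => T (toOver B₀ 𝔭 m)
  letI iS1 : ∀ m, CommRing (S m) := fun m => inferInstanceAs (CommRing (T (toOver B₀ 𝔭 m)))
  letI iS2 : ∀ m, Algebra B₀ (S m) := fun m => inferInstanceAs (Algebra B₀ (T (toOver B₀ 𝔭 m)))
  haveI iS3 : ∀ m, IsLocalization.AtPrime (S m) (downP B₀ 𝔭 m).asIdeal := fun m =>
    inferInstanceAs (IsLocalization.AtPrime (T (toOver B₀ 𝔭 m)) (toOver B₀ 𝔭 m).1.asIdeal)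
  letI iS4 : ∀ m, Algebra (S m) L := fun m => inferInstanceAs (Algebra (T (toOver B₀ 𝔭 m)) L)
  haveI iS5 : ∀ m, IsScalarTower B₀ (S m) L := fun m =>
    inferInstanceAs (IsScalarTower B₀ (T (toOver B₀ 𝔭 m)) L)
  letI iS6 : ∀ m, Algebra B' (S m) := fun m => algEq B₀ 𝔭 m (S m)
  haveI iS7 : ∀ m, IsScalarTower B₀ B' (S m) := fun m => isScalarTower_algEq B₀ 𝔭 m (S m)
  haveI iS8 : ∀ m : MaximalSpectrum B', IsLocalization.AtPrime (S m) m.asIdeal := fun m =>
    isLocalization_algEq B₀ 𝔭 m (S m)
  haveI iS9 : ∀ m, IsLocalRing (S m) := fun m =>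
    haveI := m.isMaximal
    IsLocalization.AtPrime.isLocalRing (S m) m.asIdeal
  haveI iS10 : ∀ m, IsDomain (S m) := fun m =>
    haveI := m.isMaximal
    IsLocalization.isDomain_of_le_nonZeroDivisors (M := m.asIdeal.primeCompl) (S m)
      (Ideal.primeCompl_le_nonZeroDivisors _)
  haveI iS11 : ∀ m, Module.Flat B' (S m) := fun m =>
    haveI := m.isMaximal
    IsLocalization.flat (S m) m.asIdeal.primeCompl
  haveI : IsNoetherianRing B' := IsNoetherianRing.of_finite Rp B'
  haveI iS12 : ∀ m, IsNoetherianRing (S m) := fun m =>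
    haveI := m.isMaximal
    IsLocalization.isNoetherianRing m.asIdeal.primeCompl (S m) inferInstance
  haveI hB'dim : Ring.KrullDimLE 1 B' := Tame.krullDimLE_one_of_finite hR B'
  haveI iS13 : ∀ m, Ring.KrullDimLE 1 (S m) := fun m => by
    haveI := m.isMaximal
    rw [Ring.krullDimLE_iff, IsLocalization.AtPrime.ringKrullDim_eq_height m.asIdeal (S m)]
    calc (m.asIdeal.height : WithBot ℕ∞) ≤ ringKrullDim B' := Ideal.height_le_ringKrullDim_of_ne_top
          (Ideal.IsPrime.ne_top inferInstance)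
      _ ≤ 1 := Ring.krullDimLE_iff.mp hB'dim
  haveI iS14 : ∀ m, IsScalarTower B' (S m) L := fun m => by
    refine IsScalarTower.of_algebraMap_eq' ?_
    apply IsLocalization.ringHom_ext Mp (S := B')
    ext b
    show algebraMap B' L (algebraMap B₀ B' b) =
      algebraMap (S m) L (algebraMap B' (S m) (algebraMap B₀ B' b))
    rw [← IsScalarTower.algebraMap_apply B₀ B' L, ← IsScalarTower.algebraMap_apply B₀ B' (S m),
      ← IsScalarTower.algebraMap_apply B₀ (S m) L]
  haveI iS15 : ∀ m, IsFractionRing (S m) L := fun m =>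
    haveI := m.isMaximal
    IsFractionRing.isFractionRing_of_isDomain_of_isLocalization m.asIdeal.primeCompl (S m) L
  have h1 : ∀ m : MaximalSpectrum B',
      m.asIdeal.map (algebraMap B' (S m)) = maximalIdeal (S m) := fun m =>
    haveI := m.isMaximal
    IsLocalization.AtPrime.map_eq_maximalIdeal m.asIdeal (S m)
  have h2 : ∀ m m' : MaximalSpectrum B', m' ≠ m →
      m'.asIdeal.map (algebraMap B' (S m)) = ⊤ := by
    intro m m' hne
    haveI := m.isMaximal
    haveI := m'.isMaximal
    have hnle : ¬ m'.asIdeal ≤ m.asIdeal := by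
      intro hle
      apply hne
      exact MaximalSpectrum.ext (m'.isMaximal.eq_of_le m.isMaximal.ne_top hle)
    obtain ⟨b, hb', hb⟩ := Set.not_subset.mp hnle
    rw [Ideal.eq_top_iff_one]
    have hu : IsUnit (algebraMap B' (S m) b) :=
      IsLocalization.map_units (S m) (⟨b, hb⟩ : m.asIdeal.primeCompl)
    obtain ⟨u, hu'⟩ := hu
    have : (1 : S m) = ↑u⁻¹ * algebraMap B' (S m) b := by
      rw [← hu', Units.inv_mul]
    rw [this]
    exact Ideal.mul_mem_left _ _ (Ideal.mem_map_of_mem _ hb')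
  have hE := ordFrac_norm_eq_finsum Rp hR B' hinj' K L S h1 h2 hz
  rw [hE]
  -- reindex
  rw [← finsum_eq_of_bijective (toOver B₀ 𝔭) (toOver_bijective B₀ 𝔭)
    (f := fun m : MaximalSpectrum B' =>
      ((Module.length Rp (B' ⧸ m.asIdeal)).toNat : ℤ) * ordFrac (S m) L z)
    (g := fun 𝔮 : Over B₀ 𝔭 => (𝔮.1.asIdeal.inertiaDeg A₀ : ℤ) * ordFrac (T 𝔮) L z)]
  intro m
  show ((Module.length Rp (B' ⧸ m.asIdeal)).toNat : ℤ) * ordFrac (S m) L z =
    ((downP B₀ 𝔭 m).asIdeal.inertiaDeg A₀ : ℤ) * ordFrac (S m) L z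
  rw [toNat_length_quot_eq_inertiaDeg B₀ 𝔭 m (S m)]

end Chart

end Part5

section Part6

open IsLocalRing TensorProduct CycAlg Groth.Agent.Lib.R2H1.KeyLemma Groth.Agent.Lib.R2H1

open scoped Classical

section Chart

variable (A₀ B₀ : Type u) [CommRing A₀] [IsDomain A₀] [IsNoetherianRing A₀] [CommRing B₀]
  [IsDomain B₀] [Algebra A₀ B₀] [Module.Finite A₀ B₀]
  (hinj : Function.Injective (algebraMap A₀ B₀))
  (K L : Type u) [Field K] [Field L] [Algebra A₀ K] [IsFractionRing A₀ K] [Algebra B₀ L]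
  [IsFractionRing B₀ L] [Algebra K L] [Algebra A₀ L] [IsScalarTower A₀ B₀ L]
  [IsScalarTower A₀ K L] [FiniteDimensional K L]
  (𝔭 : Ideal A₀) [𝔭.IsPrime]
  (R : Type u) [CommRing R] [Algebra A₀ R] [IsLocalization.AtPrime R 𝔭]
  [Algebra R K] [IsScalarTower A₀ R K]
  (hR : ringKrullDim R = 1)
  (T : Over B₀ 𝔭 → Type u)
  [∀ 𝔮, CommRing (T 𝔮)] [∀ 𝔮, Algebra B₀ (T 𝔮)]
  [∀ 𝔮, IsLocalization.AtPrime (T 𝔮) 𝔮.1.asIdeal]
  [∀ 𝔮, Algebra (T 𝔮) L] [∀ 𝔮, IsScalarTower B₀ (T 𝔮) L]

include hinj hR

/-- **Chart form of the norm formula.** `A₀ → B₀` a finite injective map of domains, `𝔭` a prime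
of `A₀` with one-dimensional local ring `R`, and for each prime `𝔮` of `B₀` over `𝔭` a
localization `T 𝔮` of `B₀` at `𝔮`: the order at `R` of the norm of `z` is the sum over the
`𝔮` of `f(𝔮|𝔭)` times the order of `z` at `T 𝔮`. -/
theorem chart_norm {z : L} (hz : z ≠ 0) :
    ordFrac R K (Algebra.norm K z) =
      ∑ᶠ 𝔮 : Over B₀ 𝔭, (𝔮.1.asIdeal.inertiaDeg A₀ : ℤ) * ordFrac (T 𝔮) L z := by
  let e : R ≃ₐ[A₀] Localization.AtPrime 𝔭 :=
    IsLocalization.algEquiv 𝔭.primeCompl R (Localization.AtPrime 𝔭)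
  letI aK : Algebra (Localization.AtPrime 𝔭) K :=
    ((algebraMap R K).comp (e.symm : Localization.AtPrime 𝔭 →+* R)).toAlgebra
  haveI tK : IsScalarTower A₀ (Localization.AtPrime 𝔭) K := by
    refine IsScalarTower.of_algebraMap_eq (fun a => ?_)
    show algebraMap A₀ K a = algebraMap R K (e.symm (algebraMap A₀ (Localization.AtPrime 𝔭) a))
    rw [e.symm.commutes, ← IsScalarTower.algebraMap_apply]
  have hR' : ringKrullDim (Localization.AtPrime 𝔭) = 1 := by
    rw [← ringKrullDim_eq_of_ringEquiv e.toRingEquiv]; exact hR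
  have hcomm : ∀ r : R, (RingEquiv.refl K) (algebraMap R K r) =
      algebraMap (Localization.AtPrime 𝔭) K (e.toRingEquiv r) := by
    intro r
    show algebraMap R K r = algebraMap R K (e.symm (e r))
    rw [e.symm_apply_apply]
  rw [RatEquivOpen.ordFrac_congr e.toRingEquiv (RingEquiv.refl K) hcomm]
  exact chart_norm_loc A₀ B₀ hinj K L 𝔭 hR' T hz

end Chart

end Part6

end Groth.Agent.Lib.R2H1.SemiLocal
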