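/-
Places of a function field of one variable versus local rings of a curve (algebra part of S1860).
ordFrac_eq_ord (DVR valuation subring = valuation ring of a place: ordFrac = P.ord), placeOf k F B v (place attached to a nonzero prime of a Dedekind domain), placeOf_injective, ordFrac_valuationSubringAtPrime, centerIdeal/centerHOS/placeOf_centerHOS (a place whose ring contains B is the place of its centre), toRes/resEquiv/deg_placeOf (deg = [B/v : k]), val_le_one_of_isIntegral', finite_integralClosure / isDedekindDomain_integralClosure (normalisation of a one-dimensional domain of finite type over a field, via Nagata), DomAlg, finrank_mul_inertiaDeg, chart_places ([A0/p : K] ord_R f = sum over places centred at p of deg P ord_P f), isFF_of_trdeg_eq_one.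
-/
import Mathlib
import Groth.Prelude.Def_Tame
import Groth.Prelude.Def_W4bk4goldsch23FF
import Groth.Agent.Lib.R2H1KeyLemma
import Groth.Agent.Lib.LeadFG7
import Groth.Agent.Lib.R2H1SemiLocal
import Groth.Agent.Lib.Helper4FieldJapanese
import Groth.Agent.Lib.Helper4TotalFrac

set_option autoImplicit false
set_option linter.style.haveILetI false
set_option linter.unusedSectionVars false
universe u v

namespace Groth.Agent.Lib.R2H1.CurvePlaces

section Part1

open FunFld Groth.Agent.Lib.LeadFG IsDedekindDomain IsDedekindDomain.HeightOneSpectrum WithZero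

section DVR

variable {k : Type*} {F : Type*} [Field k] [Field F] [Algebra k F]

theorem recZeroCoe_inv (z : WithZero (Multiplicative ℤ)) :
    WithZero.recZeroCoe (motive := fun _ => ℤ) 0 (fun z => Multiplicative.toAdd z) z⁻¹ =
      -WithZero.log z := by
  induction z using WithZero.recZeroCoe with
  | zero => simp
  | coe a =>
    rw [← WithZero.coe_inv]
    rfl

/-- for a valuation subring `S` of `F` which is a DVR and is the valuation ring of the place `P`,
the order of vanishing at `S` is the order at `P`. -/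
theorem ordFrac_eq_ord (S : ValuationSubring F) [IsDiscreteValuationRing S] (P : Place k F)
    (h : P.O = S) (f : F) : CycAlg.ordFrac S F f = P.ord f := by
  have hle : ∀ y : F, P.1 y ≤ 1 →
      (IsDiscreteValuationRing.maximalIdeal S).valuation F y ≤ 1 := by
    intro y hy
    have hy' : y ∈ S := by rw [← h]; exact hy
    exact (IsDiscreteValuationRing.maximalIdeal S).valuation_le_one (⟨y, hy'⟩ : S)
  let Q : Place k F := ⟨(IsDiscreteValuationRing.maximalIdeal S).valuation F,
    fun c => hle _ (P.2.1 c), (IsDiscreteValuationRing.maximalIdeal S).valuation_surjective F⟩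
  have hPQ : P = Q := place_eq_of_le hle
  rw [Groth.Agent.Lib.R2H1.KeyLemma.ordFrac_eq, Ring.ordFrac_eq_valuation_inv, recZeroCoe_inv,
    hPQ]
  rfl

end DVR

section Dedekind

variable {k : Type*} {F : Type*} [Field k] [Field F] [Algebra k F]
variable (B : Type*) [CommRing B] [IsDedekindDomain B] [Algebra B F] [IsFractionRing B F]
  [Algebra k B] [IsScalarTower k B F]

/-- the place of `F/k` attached to a nonzero prime of a Dedekind domain `B ⊇ k` with fraction
field `F`. -/
noncomputable def placeOf (k : Type*) (F : Type*) [Field k] [Field F] [Algebra k F]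
    (B : Type*) [CommRing B] [IsDedekindDomain B] [Algebra B F] [IsFractionRing B F]
    [Algebra k B] [IsScalarTower k B F] (v : HeightOneSpectrum B) : Place k F :=
  ⟨v.valuation F, fun c => by
    rw [IsScalarTower.algebraMap_apply k B F]; exact v.valuation_le_one _,
    v.valuation_surjective F⟩

theorem placeOf_val (v : HeightOneSpectrum B) (y : F) :
    (placeOf k F B v).1 y = v.valuation F y := rfl

theorem placeOf_injective : Function.Injective (placeOf k F B) := by
  intro v w h
  apply eq_of_valuation_isEquiv_valuation (K := F)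
  have : v.valuation F = w.valuation F := congrArg Subtype.val h
  rw [this]

theorem ordFrac_valuationSubringAtPrime (v : HeightOneSpectrum B) (f : F) :
    CycAlg.ordFrac (valuationSubringAtPrime F v) F f = (placeOf k F B v).ord f := by
  haveI : IsDiscreteValuationRing (valuationSubringAtPrime F v) :=
    IsLocalization.AtPrime.isDiscreteValuationRing_of_dedekind_domain B v.ne_bot
      (valuationSubringAtPrime F v)
  exact ordFrac_eq_ord _ (placeOf k F B v)
    (valuationSubringAtPrime_eq_valuationSubring v).symm f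

variable {B}

/-- the centre on `B` of a place whose valuation ring contains `B`. -/
def centerIdeal (P : Place k F) (hB : ∀ b : B, P.1 (algebraMap B F b) ≤ 1) : Ideal B where
  carrier := {b | P.1 (algebraMap B F b) < 1}
  add_mem' {a b} ha hb := by
    show P.1 (algebraMap B F (a + b)) < 1
    rw [map_add]
    exact lt_of_le_of_lt (P.1.map_add _ _) (max_lt ha hb)
  zero_mem' := by
    show P.1 (algebraMap B F 0) < 1
    rw [map_zero, map_zero]; exact zero_lt_one
  smul_mem' c b hb := by
    show P.1 (algebraMap B F (c • b)) < 1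
    rw [smul_eq_mul, map_mul, map_mul]
    calc P.1 (algebraMap B F c) * P.1 (algebraMap B F b)
        ≤ 1 * P.1 (algebraMap B F b) := mul_le_mul' (hB c) le_rfl
      _ = P.1 (algebraMap B F b) := one_mul _
      _ < 1 := hb

theorem mem_centerIdeal (P : Place k F) (hB : ∀ b : B, P.1 (algebraMap B F b) ≤ 1) (b : B) :
    b ∈ centerIdeal P hB ↔ P.1 (algebraMap B F b) < 1 := Iff.rfl

theorem centerIdeal_isPrime (P : Place k F) (hB : ∀ b : B, P.1 (algebraMap B F b) ≤ 1) :
    (centerIdeal P hB).IsPrime := by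
  refine ⟨?_, ?_⟩
  · intro h
    have : (1 : B) ∈ centerIdeal P hB := h ▸ Submodule.mem_top
    rw [mem_centerIdeal, map_one, map_one] at this
    exact lt_irrefl _ this
  · intro a b hab
    rw [mem_centerIdeal, map_mul, map_mul] at hab
    by_contra hcon
    push Not at hcon
    have ha : P.1 (algebraMap B F a) = 1 :=
      le_antisymm (hB a) (not_lt.mp hcon.1)
    have hb : P.1 (algebraMap B F b) = 1 :=
      le_antisymm (hB b) (not_lt.mp hcon.2)
    rw [ha, hb, one_mul] at hab
    exact lt_irrefl _ hab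

theorem centerIdeal_ne_bot (P : Place k F) (hB : ∀ b : B, P.1 (algebraMap B F b) ≤ 1) :
    centerIdeal P hB ≠ ⊥ := by
  obtain ⟨t, ht⟩ := exists_unif P
  have ht0 := unif_ne_zero ht
  obtain ⟨a, b, hb, rfl⟩ := IsFractionRing.div_surjective (A := B) t
  have ha0 : a ≠ 0 := by
    rintro rfl
    simp at ht0
  have hb0 : algebraMap B F b ≠ 0 :=
    IsFractionRing.to_map_ne_zero_of_mem_nonZeroDivisors hb
  have ha : a ∈ centerIdeal P hB := by
    rw [mem_centerIdeal]
    have h1 : P.1 (algebraMap B F a) =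
        P.1 (algebraMap B F a / algebraMap B F b) * P.1 (algebraMap B F b) := by
      rw [← map_mul, div_mul_cancel₀ _ hb0]
    rw [h1]
    calc P.1 (algebraMap B F a / algebraMap B F b) * P.1 (algebraMap B F b)
        ≤ P.1 (algebraMap B F a / algebraMap B F b) * 1 := mul_le_mul' le_rfl (hB b)
      _ = P.1 (algebraMap B F a / algebraMap B F b) := mul_one _
      _ < 1 := unif_lt_one ht
  intro hbot
  rw [hbot] at ha
  exact ha0 ((Submodule.mem_bot B).mp ha)

/-- the centre as an element of the height-one spectrum. -/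
noncomputable def centerHOS (P : Place k F) (hB : ∀ b : B, P.1 (algebraMap B F b) ≤ 1) :
    HeightOneSpectrum B :=
  ⟨centerIdeal P hB, centerIdeal_isPrime P hB, centerIdeal_ne_bot P hB⟩

/-- a place whose valuation ring contains the Dedekind domain `B` is the place of its centre. -/
theorem placeOf_centerHOS (P : Place k F) (hB : ∀ b : B, P.1 (algebraMap B F b) ≤ 1) :
    placeOf k F B (centerHOS P hB) = P := by
  apply place_eq_of_le
  intro y hy
  rw [placeOf_val] at hy
  obtain ⟨n, d, hnd⟩ := exists_primeCompl_mul_eq_of_integer (centerHOS P hB) y hy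
  have hd : P.1 (algebraMap B F d) = 1 := by
    have h1 : (d : B) ∉ centerIdeal P hB := d.2
    rw [mem_centerIdeal] at h1
    exact le_antisymm (hB _) (not_lt.mp h1)
  have h2 : P.1 y = P.1 (algebraMap B F n) := by
    rw [← hnd, map_mul, hd, mul_one]
  rw [h2]
  exact hB n

end Dedekind

end Part1

section Part2

open FunFld Groth.Agent.Lib.LeadFG IsDedekindDomain IsDedekindDomain.HeightOneSpectrum WithZero

section Deg

variable (k : Type*) (F : Type*) [Field k] [Field F] [Algebra k F]
variable (B : Type*) [CommRing B] [IsDedekindDomain B] [Algebra B F] [IsFractionRing B F]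
  [Algebra k B] [IsScalarTower k B F]

/-- the inclusion of `B` in the valuation ring of the place of `v`. -/
noncomputable def toO (v : HeightOneSpectrum B) : B →+* (placeOf k F B v).O :=
  (algebraMap B F).codRestrict (placeOf k F B v).O.toSubring (fun b => v.valuation_le_one b)

theorem toO_coe (v : HeightOneSpectrum B) (b : B) :
    ((toO k F B v b : (placeOf k F B v).O) : F) = algebraMap B F b := rfl

/-- the `k`-algebra map from `B` to the residue field of the place of `v`. -/
noncomputable def toRes (v : HeightOneSpectrum B) :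
    B →ₐ[k] IsLocalRing.ResidueField (placeOf k F B v).O where
  toRingHom := (IsLocalRing.residue _).comp (toO k F B v)
  commutes' c := by
    show IsLocalRing.residue _ (toO k F B v (algebraMap k B c)) =
      IsLocalRing.residue _ (algebraMap k (placeOf k F B v).O c)
    congr 1
    apply Subtype.ext
    rw [toO_coe, ← IsScalarTower.algebraMap_apply k B F]
    rfl

theorem toRes_apply (v : HeightOneSpectrum B) (b : B) :
    toRes k F B v b = IsLocalRing.residue _ (toO k F B v b) := rfl

theorem ker_toRes (v : HeightOneSpectrum B) :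
    RingHom.ker (toRes k F B v) = v.asIdeal := by
  ext b
  rw [RingHom.mem_ker]
  show toRes k F B v b = 0 ↔ _
  rw [toRes_apply, residue_eq_zero_iff, toO_coe, placeOf_val, valuation_lt_one_iff_mem]

theorem toRes_surjective (v : HeightOneSpectrum B) :
    Function.Surjective (toRes k F B v) := by
  intro z
  obtain ⟨w, rfl⟩ := IsLocalRing.residue_surjective z
  obtain ⟨n, d, hnd⟩ := exists_primeCompl_mul_eq_of_integer v (w : F) w.2
  haveI := v.isMaximal
  obtain ⟨d', i, hi, hdi⟩ := Ideal.IsMaximal.exists_inv ‹v.asIdeal.IsMaximal› d.2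
  refine ⟨n * d', ?_⟩
  have h1 : toRes k F B v i = 0 := by
    have : i ∈ RingHom.ker (toRes k F B v) := by rw [ker_toRes]; exact hi
    exact this
  have h2 : toRes k F B v (d' * d) = 1 := by
    have := congrArg (toRes k F B v) hdi
    rw [map_add, h1, add_zero, map_one] at this
    exact this
  have h3 : toRes k F B v n =
      IsLocalRing.residue _ w * toRes k F B v d := by
    rw [toRes_apply, toRes_apply, ← map_mul]
    congr 1
    apply Subtype.ext
    rw [toO_coe]
    show _ = (w : F) * algebraMap B F d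
    exact hnd.symm
  rw [map_mul, h3, mul_assoc, ← map_mul, mul_comm (d : B) d', h2, mul_one]

/-- the residue field of the place of `v` is `B/v`. -/
noncomputable def resEquiv (v : HeightOneSpectrum B) :
    (B ⧸ v.asIdeal) ≃ₐ[k] IsLocalRing.ResidueField (placeOf k F B v).O :=
  (Ideal.quotientEquivAlgOfEq k (ker_toRes k F B v).symm).trans
    (Ideal.quotientKerAlgEquivOfSurjective (toRes_surjective k F B v))

theorem deg_placeOf (v : HeightOneSpectrum B) :
    (placeOf k F B v).deg = Module.finrank k (B ⧸ v.asIdeal) :=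
  (resEquiv k F B v).toLinearEquiv.finrank_eq.symm

end Deg

end Part2

section Part3

open FunFld Groth.Agent.Lib.LeadFG IsDedekindDomain IsDedekindDomain.HeightOneSpectrum WithZero

section Val

variable {A F : Type*} [CommRing A] [Field F] [Algebra A F]
  {Γ₀ : Type*} [LinearOrderedCommGroupWithZero Γ₀]

open Polynomial in
theorem val_le_one_of_isIntegral' {v : Valuation F Γ₀} (hA : ∀ a : A, v (algebraMap A F a) ≤ 1)
    {z : F} (hz : IsIntegral A z) : v z ≤ 1 := by
  obtain ⟨p, hp, hpz⟩ := hz
  by_contra hlt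
  rw [not_le] at hlt
  have h0 : v z ≠ 0 := (zero_lt_one.trans hlt).ne'
  rw [← Polynomial.aeval_def, hp.as_sum, map_add, map_pow, Polynomial.aeval_X, map_sum] at hpz
  have h1 : v (∑ i ∈ Finset.range p.natDegree, Polynomial.aeval z (C (p.coeff i) * X ^ i)) <
      v z ^ p.natDegree := by
    apply Valuation.map_sum_lt _ (pow_ne_zero _ h0)
    intro i hi
    rw [Finset.mem_range] at hi
    rw [map_mul, Polynomial.aeval_C, map_pow, Polynomial.aeval_X, map_mul, map_pow]
    calc v (algebraMap A F (p.coeff i)) * v z ^ i ≤ 1 * v z ^ i :=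
          mul_le_mul' (hA _) le_rfl
      _ = v z ^ i := one_mul _
      _ < v z ^ p.natDegree := pow_lt_pow_right₀ hlt hi
  have h2 : z ^ p.natDegree =
      -∑ i ∈ Finset.range p.natDegree, Polynomial.aeval z (C (p.coeff i) * X ^ i) :=
    eq_neg_of_add_eq_zero_left hpz
  rw [← Valuation.map_neg, ← h2, map_pow] at h1
  exact lt_irrefl _ h1

end Val

section Setup

variable (K A₀ F : Type u) [Field K] [CommRing A₀] [IsDomain A₀] [Algebra K A₀]
  [Algebra.FiniteType K A₀] [Field F] [Algebra A₀ F] [IsFractionRing A₀ F] [Algebra K F]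
  [IsScalarTower K A₀ F]

include K in
theorem isNoetherianRing_A₀ : IsNoetherianRing A₀ := Algebra.FiniteType.isNoetherianRing K A₀

include K in
theorem finite_integralClosure : Module.Finite A₀ (integralClosure A₀ F) := by
  haveI : Algebra.EssFiniteType A₀ F :=
    Algebra.EssFiniteType.of_isLocalization F (nonZeroDivisors A₀)
  exact Groth.Agent.Lib.Helper4.TotalFrac.finite_integralClosure_field A₀
    (Groth.Agent.Lib.Helper4.FieldJapanese.isNagata_of_finiteType_field K A₀) F

theorem dimensionLEOne_of_dim (hdim : ringKrullDim A₀ = 1) : Ring.DimensionLEOne A₀ := by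
  haveI : Ring.KrullDimLE 1 A₀ := Ring.krullDimLE_iff.mpr hdim.le
  exact ⟨fun {p} hp hpp => Ring.krullDimLE_one_iff_of_noZeroDivisors.mp ‹_› p hp hpp⟩

include K in
theorem isDedekindDomain_integralClosure (hdim : ringKrullDim A₀ = 1) :
    IsDedekindDomain (integralClosure A₀ F) := by
  haveI := isNoetherianRing_A₀ K A₀
  haveI hfin : Module.Finite A₀ (integralClosure A₀ F) := finite_integralClosure K A₀ F
  haveI := dimensionLEOne_of_dim A₀ hdim
  haveI h1 : IsNoetherianRing (integralClosure A₀ F) := by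
    haveI : IsNoetherian A₀ (integralClosure A₀ F) := isNoetherian_of_isNoetherianRing_of_finite A₀ _
    exact isNoetherianRing_iff.mpr (isNoetherian_of_tower A₀ inferInstance)
  haveI h2 : Ring.DimensionLEOne (integralClosure A₀ F) := inferInstance
  haveI h3 : IsIntegrallyClosed (integralClosure A₀ F) :=
    integralClosure.isIntegrallyClosedOfFiniteExtension F
  exact { }

end Setup

end Part3

section Part4

open FunFld Groth.Agent.Lib.LeadFG IsDedekindDomain IsDedekindDomain.HeightOneSpectrum WithZero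

open Groth.Agent.Lib.R2H1.SemiLocal

section Chart

variable (K A₀ F : Type u) [Field K] [CommRing A₀] [IsDomain A₀] [Algebra K A₀]
  [Algebra.FiniteType K A₀] [Field F] [Algebra A₀ F] [IsFractionRing A₀ F] [Algebra K F]
  [IsScalarTower K A₀ F]

/-- the place `P` of `F/K` is centred at the prime `𝔭` of `A₀`. -/
def DomAlg (𝔭 : Ideal A₀) (P : Place K F) : Prop :=
  (∀ a : A₀, P.1 (algebraMap A₀ F a) ≤ 1) ∧ ∀ a : A₀, P.1 (algebraMap A₀ F a) < 1 ↔ a ∈ 𝔭

instance isScalarTower_K_A₀_B₀ : IsScalarTower K A₀ (integralClosure A₀ F) :=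
  IsScalarTower.of_algebraMap_eq (fun c => Subtype.ext (IsScalarTower.algebraMap_apply K A₀ F c))

theorem algebraMap_B₀_injective : Function.Injective (algebraMap A₀ (integralClosure A₀ F)) := by
  intro a b h
  apply IsFractionRing.injective A₀ F
  have := congrArg (algebraMap (integralClosure A₀ F) F) h
  rwa [← IsScalarTower.algebraMap_apply, ← IsScalarTower.algebraMap_apply] at this

theorem ne_bot_of_isMaximal (hdim : ringKrullDim A₀ = 1) (𝔭 : Ideal A₀) [h𝔭 : 𝔭.IsMaximal] :
    𝔭 ≠ ⊥ := by
  rintro rfl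
  have : Ring.KrullDimLE 0 A₀ := by
    refine Ring.KrullDimLE.mk₀ fun I hI => ?_
    have : I = ⊥ := (h𝔭.eq_of_le hI.ne_top bot_le).symm
    rw [this]; exact h𝔭
  have h1 := Ring.krullDimLE_iff.mp this
  rw [hdim] at h1
  exact absurd h1 (by decide)

theorem ringKrullDim_loc (hdim : ringKrullDim A₀ = 1) (𝔭 : Ideal A₀) [h𝔭 : 𝔭.IsMaximal]
    (R : Type u) [CommRing R] [Algebra A₀ R] [IsLocalization.AtPrime R 𝔭] :
    ringKrullDim R = 1 := by
  rw [IsLocalization.AtPrime.ringKrullDim_eq_height 𝔭 R]
  have h1 : (𝔭.height : WithBot ℕ∞) ≤ 1 := by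
    rw [← hdim]; exact Ideal.height_le_ringKrullDim_of_ne_top h𝔭.ne_top
  have h2 : 𝔭.height ≠ 0 := by
    rw [Ne, Ideal.height_eq_zero_iff_eq_bot]
    exact ne_bot_of_isMaximal A₀ hdim 𝔭
  have h3 : 𝔭.height ≤ 1 := by exact_mod_cast h1
  have h4 : 1 ≤ 𝔭.height := Order.one_le_iff_pos.mpr (pos_iff_ne_zero.mpr h2)
  rw [le_antisymm h3 h4]
  rfl

end Chart

end Part4

section Part5

open FunFld Groth.Agent.Lib.LeadFG IsDedekindDomain IsDedekindDomain.HeightOneSpectrum WithZero

open Groth.Agent.Lib.R2H1.SemiLocal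

section Chart

variable (K A₀ F : Type u) [Field K] [CommRing A₀] [IsDomain A₀] [Algebra K A₀]
  [Algebra.FiniteType K A₀] [Field F] [Algebra A₀ F] [IsFractionRing A₀ F] [Algebra K F]
  [IsScalarTower K A₀ F]

section Weights

variable [IsDedekindDomain (integralClosure A₀ F)] (𝔭 : Ideal A₀) [h𝔭 : 𝔭.IsMaximal]

/-- tower law for the residue fields. -/
theorem finrank_mul_inertiaDeg (v : HeightOneSpectrum (integralClosure A₀ F))
    (hv : v.asIdeal.comap (algebraMap A₀ (integralClosure A₀ F)) = 𝔭) :
    Module.finrank K (A₀ ⧸ 𝔭) * v.asIdeal.inertiaDeg A₀ =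
      Module.finrank K (integralClosure A₀ F ⧸ v.asIdeal) := by
  haveI : v.asIdeal.LiesOver 𝔭 := ⟨hv.symm⟩
  haveI := v.isMaximal
  rw [Ideal.inertiaDeg_eq_of_isMaximal 𝔭 v.asIdeal]
  letI := Ideal.Quotient.field 𝔭
  haveI : IsScalarTower K (A₀ ⧸ 𝔭) (integralClosure A₀ F ⧸ v.asIdeal) := by
    refine IsScalarTower.of_algebraMap_eq (fun c => ?_)
    show Ideal.Quotient.mk _ (algebraMap K (integralClosure A₀ F) c) =
      algebraMap (A₀ ⧸ 𝔭) _ (Ideal.Quotient.mk 𝔭 (algebraMap K A₀ c))
    rw [Ideal.Quotient.algebraMap_mk_of_liesOver, ← IsScalarTower.algebraMap_apply K A₀]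
  exact Module.finrank_mul_finrank K (A₀ ⧸ 𝔭) (integralClosure A₀ F ⧸ v.asIdeal)

end Weights

/-- a prime over a nonzero prime, as an element of the height one spectrum. -/
noncomputable def hos [IsDedekindDomain (integralClosure A₀ F)] (𝔭 : Ideal A₀)
    [𝔭.IsPrime]
    (hne : ∀ 𝔮 : Over (integralClosure A₀ F) 𝔭, 𝔮.1.asIdeal ≠ ⊥)
    (𝔮 : Over (integralClosure A₀ F) 𝔭) : HeightOneSpectrum (integralClosure A₀ F) :=
  ⟨𝔮.1.asIdeal, 𝔮.1.isPrime, hne 𝔮⟩

set_option maxHeartbeats 800000 in
/-- **Chart formula.** `A₀` a one-dimensional domain of finite type over the field `K` with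
fraction field `F`, `𝔭` a maximal ideal with local ring `R`: `[A₀/𝔭 : K] · ord_R f` is the sum of
`deg P · ord_P f` over the places `P` of `F/K` centred at `𝔭`. -/
theorem chart_places (hdim : ringKrullDim A₀ = 1) (𝔭 : Ideal A₀) [h𝔭 : 𝔭.IsMaximal]
    (R : Type u) [CommRing R] [Algebra A₀ R] [IsLocalization.AtPrime R 𝔭] [Algebra R F]
    [IsScalarTower A₀ R F] {f : F} (hf : f ≠ 0) :
    (Module.finrank K (A₀ ⧸ 𝔭) : ℤ) * CycAlg.ordFrac R F f =
      ∑ᶠ P ∈ {P : Place K F | DomAlg K A₀ F 𝔭 P}, (P.deg : ℤ) * P.ord f := by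
  classical
  haveI := isNoetherianRing_A₀ K A₀
  haveI hfin : Module.Finite A₀ (integralClosure A₀ F) := finite_integralClosure K A₀ F
  haveI hded : IsDedekindDomain (integralClosure A₀ F) :=
    isDedekindDomain_integralClosure K A₀ F hdim
  have hinj := algebraMap_B₀_injective A₀ F
  have h𝔭0 := ne_bot_of_isMaximal A₀ hdim 𝔭
  have hR : ringKrullDim R = 1 := ringKrullDim_loc A₀ hdim 𝔭 R
  have hne : ∀ 𝔮 : Over (integralClosure A₀ F) 𝔭, 𝔮.1.asIdeal ≠ ⊥ := by
    intro 𝔮 h
    apply h𝔭0
    have h2 := 𝔮.2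
    rw [h] at h2
    rw [← h2]
    exact (RingHom.injective_iff_ker_eq_bot _).mp hinj
  haveI i3 : ∀ 𝔮 : Over (integralClosure A₀ F) 𝔭, IsLocalization.AtPrime
      ↥(valuationSubringAtPrime F (hos A₀ F 𝔭 hne 𝔮)) 𝔮.1.asIdeal := fun 𝔮 =>
    (inferInstance : IsLocalization (hos A₀ F 𝔭 hne 𝔮).asIdeal.primeCompl
      ↥(valuationSubringAtPrime F (hos A₀ F 𝔭 hne 𝔮)))
  have key := chart_norm A₀ (integralClosure A₀ F) hinj F F 𝔭 R hR
    (fun 𝔮 => ↥(valuationSubringAtPrime F (hos A₀ F 𝔭 hne 𝔮))) hf
  rw [Algebra.norm_self, MonoidHom.id_apply] at key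
  rw [key, mul_finsum]
  -- the bijection
  have hdom : ∀ 𝔮 : Over (integralClosure A₀ F) 𝔭,
      DomAlg K A₀ F 𝔭 (placeOf K F (integralClosure A₀ F) (hos A₀ F 𝔭 hne 𝔮)) := by
    intro 𝔮
    refine ⟨fun a => ?_, fun a => ?_⟩
    · rw [placeOf_val, IsScalarTower.algebraMap_apply A₀ (integralClosure A₀ F) F]
      exact (hos A₀ F 𝔭 hne 𝔮).valuation_le_one _
    · rw [placeOf_val, IsScalarTower.algebraMap_apply A₀ (integralClosure A₀ F) F,
        valuation_lt_one_iff_mem]
      exact Ideal.ext_iff.mp 𝔮.2 a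
  let Ψ : Over (integralClosure A₀ F) 𝔭 → ↥{P : Place K F | DomAlg K A₀ F 𝔭 P} :=
    fun 𝔮 => ⟨placeOf K F (integralClosure A₀ F) (hos A₀ F 𝔭 hne 𝔮), hdom 𝔮⟩
  have hΨ : Function.Bijective Ψ := by
    constructor
    · intro 𝔮 𝔮' h
      have h1 : placeOf K F (integralClosure A₀ F) (hos A₀ F 𝔭 hne 𝔮) =
          placeOf K F (integralClosure A₀ F) (hos A₀ F 𝔭 hne 𝔮') := congrArg Subtype.val h
      have h2 : hos A₀ F 𝔭 hne 𝔮 = hos A₀ F 𝔭 hne 𝔮' :=
        placeOf_injective (integralClosure A₀ F) h1
      have h3 : 𝔮.1.asIdeal = 𝔮'.1.asIdeal := congrArg HeightOneSpectrum.asIdeal h2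
      exact Subtype.ext (PrimeSpectrum.ext h3)
    · rintro ⟨P, hP⟩
      have hB : ∀ b : integralClosure A₀ F, P.1 (algebraMap (integralClosure A₀ F) F b) ≤ 1 :=
        fun b => val_le_one_of_isIntegral' hP.1 b.2
      have hcomap : (centerIdeal P hB).comap (algebraMap A₀ (integralClosure A₀ F)) = 𝔭 := by
        ext a
        rw [Ideal.mem_comap, mem_centerIdeal, ← IsScalarTower.algebraMap_apply]
        exact hP.2 a
      let 𝔮 : Over (integralClosure A₀ F) 𝔭 :=
        ⟨⟨centerIdeal P hB, centerIdeal_isPrime P hB⟩, hcomap⟩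
      refine ⟨𝔮, Subtype.ext ?_⟩
      show placeOf K F (integralClosure A₀ F) (hos A₀ F 𝔭 hne 𝔮) = P
      have : hos A₀ F 𝔭 hne 𝔮 = centerHOS P hB := rfl
      rw [this]
      exact placeOf_centerHOS P hB
  rw [← finsum_set_coe_eq_finsum_mem]
  refine finsum_eq_of_bijective Ψ hΨ (fun 𝔮 => ?_)
  show (Module.finrank K (A₀ ⧸ 𝔭) : ℤ) * ((𝔮.1.asIdeal.inertiaDeg A₀ : ℤ) *
      CycAlg.ordFrac ↥(valuationSubringAtPrime F (hos A₀ F 𝔭 hne 𝔮)) F f) =
    ((placeOf K F (integralClosure A₀ F) (hos A₀ F 𝔭 hne 𝔮)).deg : ℤ) *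
      (placeOf K F (integralClosure A₀ F) (hos A₀ F 𝔭 hne 𝔮)).ord f
  rw [ordFrac_valuationSubringAtPrime (k := K) (integralClosure A₀ F) (hos A₀ F 𝔭 hne 𝔮) f,
    deg_placeOf, ← finrank_mul_inertiaDeg K A₀ F 𝔭 (hos A₀ F 𝔭 hne 𝔮) 𝔮.2]
  have hh : (hos A₀ F 𝔭 hne 𝔮).asIdeal = 𝔮.1.asIdeal := rfl
  rw [hh]
  push_cast
  ring

end Chart

end Part5

section Part6

open FunFld Groth.Agent.Lib.LeadFG

section FF

variable (K : Type u) (F : Type v) [Field K] [Field F] [Algebra K F]

/-- a finitely generated field extension of transcendence degree one is a (weak) function field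
of one variable. -/
theorem isFF_of_trdeg_eq_one [Algebra.EssFiniteType K F] (h : Algebra.trdeg K F = 1) :
    IsFF K F := by
  obtain ⟨s, hs⟩ := exists_isTranscendenceBasis K F
  have hcard : Cardinal.mk s = 1 := by rw [hs.cardinalMk_eq_trdeg, h]
  obtain ⟨hsub, ⟨t₀⟩⟩ := Cardinal.eq_one_iff_unique.mp hcard
  have hrange : Set.range ((↑) : s → F) = {(t₀ : F)} := by
    ext y
    simp only [Subtype.range_coe_subtype, Set.setOf_mem_eq, Set.mem_singleton_iff]
    constructor
    · intro hy
      exact congrArg Subtype.val (hsub.elim ⟨y, hy⟩ t₀)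
    · rintro rfl
      exact t₀.2
  refine ⟨(t₀ : F), hs.1.transcendental t₀, ?_⟩
  haveI h1 : Algebra.IsAlgebraic (IntermediateField.adjoin K (Set.range ((↑) : s → F))) F :=
    hs.isAlgebraic_field
  rw [hrange] at h1
  haveI : Algebra.EssFiniteType (IntermediateField.adjoin K ({(t₀ : F)} : Set F)) F :=
    Algebra.EssFiniteType.of_comp K _ _
  exact Algebra.finite_of_essFiniteType_of_isAlgebraic

end FF

end Part6

end Groth.Agent.Lib.R2H1.CurvePlaces
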