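/-
Sum of ramification times inertia over the primes of a pushout (helper1, round 2).

For a pushout square of commutative rings `C = A ⊗[R] R'`, primes `p` of `A` and `p'` of `R'` over the same prime of `R`
with `κ(p)` finite over the residue field below: the primes `q` of `C` over `p` and `p'` are finitely many,
`κ(q)/κ(p')` is finite, and `∑ e(q|A) f(q|R') = f(p|R) e(p'|R)` (theorem `AC`).
Also general facts on `Ideal.Fiber`: `ramificationIdx_under_fiber`, `inertiaDeg_fiber`, `under_injective`,
`exists_under_eq`, `ramificationIdx_field`, `length_self_ringEquiv`.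
-/
import Mathlib

set_option autoImplicit false
set_option linter.style.haveILetI false
set_option linter.unusedSectionVars false
universe u v

namespace Groth.Agent.Lib.R2H1.RamSum

section Part1

open IsLocalRing TensorProduct

/-- the length of a ring over itself is invariant under ring isomorphisms. -/
theorem length_self_ringEquiv {S₁ S₂ : Type*} [CommRing S₁] [CommRing S₂] (e : S₁ ≃+* S₂) :
    Module.length S₁ S₁ = Module.length S₂ S₂ := by
  letI : Algebra S₁ S₂ := e.toRingHom.toAlgebra
  have hsurj : Function.Surjective (algebraMap S₁ S₂) := e.surjective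
  rw [← Module.length_eq_of_surjective (S := S₁) (R := S₂) (M := S₂) hsurj]
  let g : S₁ ≃ₗ[S₁] S₂ := LinearEquiv.ofBijective (Algebra.linearMap S₁ S₂) e.bijective
  exact g.length_eq

/-- length of a quotient ring over the ring equals its length over itself. -/
theorem length_quotient_self {S : Type*} [CommRing S] (I : Ideal S) :
    Module.length S (S ⧸ I) = Module.length (S ⧸ I) (S ⧸ I) :=
  Module.length_eq_of_surjective (S := S) (R := S ⧸ I) (M := S ⧸ I) Ideal.Quotient.mk_surjective

/-- over a field, the ramification index of a prime is the length of the local ring. -/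
theorem ramificationIdx_field {k F : Type*} [Field k] [CommRing F] [Algebra k F]
    (m : Ideal F) [m.IsPrime] :
    m.ramificationIdx k =
      (Module.length (Localization.AtPrime m) (Localization.AtPrime m)).toNat := by
  rw [Ideal.ramificationIdx_def]
  have h0 : m.under k = ⊥ := by
    have := (Ideal.eq_bot_or_top (m.under k)).resolve_right (by
      intro h
      have hp : (m.under k).IsPrime := inferInstance
      exact hp.ne_top h)
    exact this
  rw [h0, Ideal.map_bot]
  congr 1
  exact (Submodule.quotEquivOfEqBot (⊥ : Ideal (Localization.AtPrime m)) rfl).length_eq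

end Part1

section Part2

open IsLocalRing TensorProduct

attribute [local instance] Algebra.TensorProduct.rightAlgebra

variable {R S : Type*} [CommRing R] [CommRing S] [Algebra R S] (p : Ideal R) [p.IsPrime]

theorem under_eq_comap (m : Ideal (p.Fiber S)) :
    m.under S = m.comap (Algebra.TensorProduct.includeRight : S →ₐ[R] p.Fiber S) := rfl

theorem liesOver_comap (m : Ideal (p.Fiber S)) [m.IsPrime] :
    (m.comap (Algebra.TensorProduct.includeRight : S →ₐ[R] p.Fiber S)).LiesOver p := by
  constructor
  have h1 : m.LiesOver p := inferInstance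
  refine h1.over.trans ?_
  ext x
  simp only [Ideal.under_def, Ideal.mem_comap]
  rw [IsScalarTower.algebraMap_apply R S (p.Fiber S)]
  rfl

/-- F2: the ramification index of the prime of `S` below a prime `m` of the fibre is the length of
the local ring of the fibre at `m`. -/
theorem ramificationIdx_under_fiber (m : Ideal (p.Fiber S)) [m.IsPrime] :
    (m.under S).ramificationIdx R =
      (Module.length (Localization.AtPrime m) (Localization.AtPrime m)).toNat := by
  rw [under_eq_comap]
  haveI := liesOver_comap p m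
  letI := Localization.AtPrime.algebraOfLiesOver p
    (m.comap (Algebra.TensorProduct.includeRight : S →ₐ[R] p.Fiber S))
  rw [Ideal.ramificationIdx_eq p
    (m.comap (Algebra.TensorProduct.includeRight : S →ₐ[R] p.Fiber S))]
  congr 1
  have e := Ideal.Fiber.localizationAlgEquivQuotient p m
  rw [length_quotient_self]
  exact (length_self_ringEquiv (S₁ := Localization.AtPrime m)
    (S₂ := Localization.AtPrime (m.comap (Algebra.TensorProduct.includeRight : S →ₐ[R] p.Fiber S)) ⧸
      p.map (algebraMap R (Localization.AtPrime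
        (m.comap (Algebra.TensorProduct.includeRight : S →ₐ[R] p.Fiber S)))))
    e.toRingEquiv).symm

end Part2

section Part3

open IsLocalRing TensorProduct

attribute [local instance] Algebra.TensorProduct.rightAlgebra

variable {R S : Type*} [CommRing R] [CommRing S] [Algebra R S] (p : Ideal R) [p.IsPrime]

/-- F3: primes of the fibre have the same residue field as the prime of `S` below. -/
theorem inertiaDeg_fiber (m : Ideal (p.Fiber S)) [m.IsPrime] : m.inertiaDeg S = 1 := by
  letI := Localization.AtPrime.algebraOfLiesOver (m.under S) m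
  rw [Ideal.inertiaDeg_eq (m.under S) m]
  have hb : Function.Bijective (algebraMap (m.under S).ResidueField m.ResidueField) :=
    (p.surjectiveOnStalks_residueField.baseChange' (T := S)).residueFieldMap_bijective
      (m.under S) m rfl
  let e : (m.under S).ResidueField ≃ₗ[(m.under S).ResidueField] m.ResidueField :=
    LinearEquiv.ofBijective (Algebra.linearMap _ _) hb
  rw [← e.finrank_eq]
  exact Module.finrank_self _

end Part3

section Part4

open IsLocalRing TensorProduct

attribute [local instance] Algebra.TensorProduct.rightAlgebra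

variable {R S : Type*} [CommRing R] [CommRing S] [Algebra R S] (p : Ideal R) [p.IsPrime]

theorem under_injective (m₁ m₂ : Ideal (p.Fiber S)) [h₁ : m₁.IsPrime] [h₂ : m₂.IsPrime]
    (h : m₁.under S = m₂.under S) : m₁ = m₂ := by
  have h3 : (PrimeSpectrum.primesOverOrderIsoFiber R S p).symm ⟨m₁, h₁⟩ =
      (PrimeSpectrum.primesOverOrderIsoFiber R S p).symm ⟨m₂, h₂⟩ := by
    apply Subtype.ext
    rw [PrimeSpectrum.coe_primesOverOrderIsoFiber_symm_apply,
      PrimeSpectrum.coe_primesOverOrderIsoFiber_symm_apply]
    exact h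
  have h4 := (PrimeSpectrum.primesOverOrderIsoFiber R S p).symm.injective h3
  exact congrArg PrimeSpectrum.asIdeal h4

theorem exists_under_eq (q : Ideal S) [hq : q.IsPrime] [hlo : q.LiesOver p] :
    ∃ m : Ideal (p.Fiber S), m.IsPrime ∧ m.under S = q := by
  let x : p.primesOver S := ⟨q, hq, hlo⟩
  refine ⟨(PrimeSpectrum.primesOverOrderIsoFiber R S p x).asIdeal,
    (PrimeSpectrum.primesOverOrderIsoFiber R S p x).isPrime, ?_⟩
  have h := (PrimeSpectrum.primesOverOrderIsoFiber R S p).symm_apply_apply x
  have h2 := congrArg Subtype.val h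
  rw [PrimeSpectrum.coe_primesOverOrderIsoFiber_symm_apply] at h2
  exact h2

end Part4

section Part5

open IsLocalRing TensorProduct

attribute [local instance] Algebra.TensorProduct.rightAlgebra

variable {R A R' C : Type u} [CommRing R] [CommRing A] [CommRing R'] [CommRing C]
    [Algebra R A] [Algebra R R'] [Algebra A C] [Algebra R' C] [Algebra R C]
    [IsScalarTower R A C] [IsScalarTower R R' C]
    (r : Ideal R) [r.IsPrime] (p : Ideal A) [p.IsPrime] [p.LiesOver r]
    (p' : Ideal R') [p'.IsPrime] [p'.LiesOver r]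
    [Algebra (Localization.AtPrime r) (Localization.AtPrime p)]
    [Localization.AtPrime.IsLiesOverAlgebra r p]
    [Algebra (r.Fiber R') (p.Fiber C)] [Algebra R' (p.Fiber C)]
    [IsScalarTower r.ResidueField (r.Fiber R') (p.Fiber C)]
    [IsScalarTower R' (r.Fiber R') (p.Fiber C)]
    [IsScalarTower R' C (p.Fiber C)]
    [Module.Free (r.Fiber R') (p.Fiber C)] [Module.Finite (r.Fiber R') (p.Fiber C)]

/-- data attached to a prime `m` of the fibre `H` lying over the prime `n₀` of `G`. -/
theorem point_formula (n₀ : Ideal (r.Fiber R')) [n₀.IsPrime] (hn₀ : n₀.under R' = p')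
    (m : Ideal (p.Fiber C)) [m.IsPrime] [m.LiesOver n₀] :
    (m.under C).ramificationIdx A = p'.ramificationIdx R * m.ramificationIdx (r.Fiber R') ∧
    (m.under C).inertiaDeg R' = m.inertiaDeg (r.Fiber R') := by
  constructor
  · rw [ramificationIdx_under_fiber p m, ← ramificationIdx_field (k := r.ResidueField) m,
      Ideal.ramificationIdx_tower (R := r.ResidueField) n₀ m, ramificationIdx_field n₀,
      ← ramificationIdx_under_fiber r n₀, hn₀]
  · have h1 : m.inertiaDeg R' = (m.under C).inertiaDeg R' * m.inertiaDeg C :=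
      Ideal.inertiaDeg_tower (R := R') (m.under C) m
    have h2 : m.inertiaDeg R' = n₀.inertiaDeg R' * m.inertiaDeg (r.Fiber R') :=
      Ideal.inertiaDeg_tower (R := R') n₀ m
    rw [inertiaDeg_fiber p m, mul_one] at h1
    rw [inertiaDeg_fiber r n₀, one_mul] at h2
    rw [← h1, h2]

end Part5

section Part6

open IsLocalRing TensorProduct


attribute [local instance] Algebra.TensorProduct.rightAlgebra

variable {R A R' C : Type u} [CommRing R] [CommRing A] [CommRing R'] [CommRing C]
    [Algebra R A] [Algebra R R'] [Algebra A C] [Algebra R' C] [Algebra R C]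
    [IsScalarTower R A C] [IsScalarTower R R' C]
    (r : Ideal R) [r.IsPrime] (p : Ideal A) [p.IsPrime] [p.LiesOver r]
    (p' : Ideal R') [p'.IsPrime] [p'.LiesOver r]
    [Algebra (Localization.AtPrime r) (Localization.AtPrime p)]
    [Localization.AtPrime.IsLiesOverAlgebra r p]
    [Algebra (r.Fiber R') (p.Fiber C)] [Algebra R' (p.Fiber C)]
    [IsScalarTower r.ResidueField (r.Fiber R') (p.Fiber C)]
    [IsScalarTower R' (r.Fiber R') (p.Fiber C)]
    [IsScalarTower R' C (p.Fiber C)]
    [Module.Free (r.Fiber R') (p.Fiber C)] [Module.Finite (r.Fiber R') (p.Fiber C)]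

/-- the set of primes of `C` over `p` and `p'`. -/
def primesOver2 (p : Ideal A) (p' : Ideal R') : Set (Ideal C) :=
  {q : Ideal C | q.IsPrime ∧ q.under A = p ∧ q.under R' = p'}

theorem under_under_R' (m : Ideal (p.Fiber C)) :
    (m.under C).under R' = (m.under (r.Fiber R')).under R' := by
  rw [Ideal.under_under, Ideal.under_under]

theorem bijOn (n₀ : Ideal (r.Fiber R')) [n₀.IsPrime] (hn₀ : n₀.under R' = p') :
    Set.BijOn (fun m : Ideal (p.Fiber C) => m.under C) (n₀.primesOver (p.Fiber C))
      (primesOver2 (C := C) p p') := by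
  refine ⟨?_, ?_, ?_⟩
  · rintro m ⟨hm, hlo⟩
    haveI := hm
    refine ⟨inferInstance, ?_, ?_⟩
    · have : (m.under C).LiesOver p := by rw [under_eq_comap]; exact liesOver_comap p m
      exact this.over.symm
    · rw [under_under_R' r p m, ← hlo.over, hn₀]
  · rintro m₁ ⟨hm₁, -⟩ m₂ ⟨hm₂, -⟩ h
    haveI := hm₁
    haveI := hm₂
    exact under_injective p m₁ m₂ h
  · rintro q ⟨hq, hqA, hqR'⟩
    haveI := hq
    haveI : q.LiesOver p := ⟨hqA.symm⟩
    obtain ⟨m, hm, hmq⟩ := exists_under_eq p q
    haveI := hm
    refine ⟨m, ⟨hm, ⟨?_⟩⟩, hmq⟩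
    have h1 : (m.under (r.Fiber R')).under R' = n₀.under R' := by
      rw [← under_under_R' r p m, hmq, hqR', hn₀]
    exact under_injective r n₀ (m.under (r.Fiber R')) h1.symm

end Part6

section Part7

open IsLocalRing TensorProduct


attribute [local instance] Algebra.TensorProduct.rightAlgebra

variable {R A R' C : Type u} [CommRing R] [CommRing A] [CommRing R'] [CommRing C]
    [Algebra R A] [Algebra R R'] [Algebra A C] [Algebra R' C] [Algebra R C]
    [IsScalarTower R A C] [IsScalarTower R R' C]
    (r : Ideal R) [r.IsPrime] (p : Ideal A) [p.IsPrime] [p.LiesOver r]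
    (p' : Ideal R') [p'.IsPrime] [p'.LiesOver r]
    [Algebra (Localization.AtPrime r) (Localization.AtPrime p)]
    [Localization.AtPrime.IsLiesOverAlgebra r p]
    [Algebra (r.Fiber R') (p.Fiber C)] [Algebra R' (p.Fiber C)]
    [IsScalarTower r.ResidueField (r.Fiber R') (p.Fiber C)]
    [IsScalarTower R' (r.Fiber R') (p.Fiber C)]
    [IsScalarTower R' C (p.Fiber C)]
    [Module.Free (r.Fiber R') (p.Fiber C)] [Module.Finite (r.Fiber R') (p.Fiber C)]

theorem AC_core
    (hrank : Module.finrank (r.Fiber R') (p.Fiber C) =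
      Module.finrank r.ResidueField p.ResidueField) :
    (primesOver2 (C := C) p p').Finite ∧
    (∀ q ∈ primesOver2 (C := C) p p', q.inertiaDeg R' ≠ 0) ∧
    ∑ᶠ q ∈ primesOver2 (C := C) p p', q.ramificationIdx A * q.inertiaDeg R' =
      p.inertiaDeg R * p'.ramificationIdx R := by
  obtain ⟨n₀, hn₀p, hn₀⟩ := exists_under_eq r p'
  haveI := hn₀p
  haveI : Nontrivial (r.Fiber R') :=
    ⟨⟨0, 1, fun h => hn₀p.ne_top ((Ideal.eq_top_iff_one _).mpr (h ▸ n₀.zero_mem))⟩⟩
  have hbij := bijOn (C := C) r p p' n₀ hn₀
  have hfinT : (n₀.primesOver (p.Fiber C)).Finite := Algebra.QuasiFinite.finite_primesOver n₀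
  refine ⟨?_, ?_, ?_⟩
  · rw [← hbij.image_eq]
    exact hfinT.image _
  · intro q hq
    obtain ⟨m, ⟨hm, hlo⟩, rfl⟩ := hbij.surjOn hq
    haveI := hm
    haveI := hlo
    rw [(point_formula (C := C) r p p' n₀ hn₀ m).2]
    exact (Ideal.inertiaDeg_pos m (r.Fiber R')).ne'
  · have h1 : ∑ᶠ q ∈ primesOver2 (C := C) p p', q.ramificationIdx A * q.inertiaDeg R' =
        ∑ᶠ m ∈ n₀.primesOver (p.Fiber C),
          p'.ramificationIdx R * (m.ramificationIdx (r.Fiber R') * m.inertiaDeg (r.Fiber R')) := by
      symm
      refine finsum_mem_eq_of_bijOn (fun m : Ideal (p.Fiber C) => m.under C) hbij ?_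
      rintro m ⟨hm, hlo⟩
      haveI := hm
      haveI := hlo
      obtain ⟨h2, h3⟩ := point_formula (C := C) r p p' n₀ hn₀ m
      simp only [h2, h3, mul_assoc]
    rw [h1, ← mul_finsum_mem]
    letI : Fintype (n₀.primesOver (p.Fiber C)) := hfinT.fintype
    have h4 := Ideal.sum_ramification_inertia_eq_finrank_fiber n₀ (p.Fiber C)
    have h5 : ∑ᶠ m ∈ n₀.primesOver (p.Fiber C),
        m.ramificationIdx (r.Fiber R') * m.inertiaDeg (r.Fiber R') =
        ∑ m : n₀.primesOver (p.Fiber C),
          m.1.ramificationIdx (r.Fiber R') * m.1.inertiaDeg (r.Fiber R') := by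
      rw [← finsum_set_coe_eq_finsum_mem, finsum_eq_sum_of_fintype]
    rw [h5, h4, Module.finrank_baseChange, hrank, Ideal.inertiaDeg_eq r p, mul_comm]

end Part7

section Part8

open IsLocalRing TensorProduct

theorem isPushout_of_fibres
    (R A R' C k K G H : Type*) [CommRing R] [CommRing A] [CommRing R'] [CommRing C]
    [CommRing k] [CommRing K] [CommRing G] [CommRing H]
    [Algebra R A] [Algebra R R'] [Algebra A C] [Algebra R' C] [Algebra R C]
    [IsScalarTower R A C] [IsScalarTower R R' C]
    [Algebra R k] [Algebra R K] [Algebra A K] [Algebra k K] [IsScalarTower R A K]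
    [IsScalarTower R k K]
    [Algebra k G] [Algebra R' G] [Algebra R G] [IsScalarTower R k G] [IsScalarTower R R' G]
    [Algebra R H] [Algebra A H] [Algebra K H] [Algebra C H] [Algebra R' H] [Algebra k H]
    [Algebra G H]
    [IsScalarTower R K H] [IsScalarTower A K H] [IsScalarTower A C H]
    [IsScalarTower R R' H] [IsScalarTower R C H] [IsScalarTower R' C H]
    [IsScalarTower k K H] [IsScalarTower k G H] [IsScalarTower R G H] [IsScalarTower R' G H]
    [Algebra.IsPushout R A R' C] [Algebra.IsPushout R k R' G] [Algebra.IsPushout A K C H] :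
    Algebra.IsPushout k K G H := by
  have h1 : Algebra.IsPushout R K R' H :=
    (Algebra.IsPushout.comp_iff R A R' C (T := K) (T' := H)).mpr inferInstance
  exact (Algebra.IsPushout.comp_iff R k R' G (T := K) (T' := H)).mp h1

theorem free_of_isPushout (k K G H : Type*) [Field k] [Field K] [CommRing G] [CommRing H]
    [Algebra k K] [Algebra k G] [Algebra K H] [Algebra G H] [Algebra k H]
    [IsScalarTower k K H] [IsScalarTower k G H] [Module.Finite k K] [Nontrivial G]
    (h : Algebra.IsPushout k K G H) :
    Module.Free G H ∧ Module.Finite G H ∧ Module.finrank G H = Module.finrank k K := by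
  haveI : Algebra.IsPushout k G K H := h.symm
  let e : G ⊗[k] K ≃ₐ[G] H := Algebra.IsPushout.equiv k G K H
  refine ⟨Module.Free.of_equiv e.toLinearEquiv, Module.Finite.equiv e.toLinearEquiv, ?_⟩
  rw [← e.toLinearEquiv.finrank_eq, Module.finrank_baseChange]

end Part8

section Part9

open IsLocalRing TensorProduct

attribute [local instance] Algebra.TensorProduct.rightAlgebra

variable {R A R' C : Type u} [CommRing R] [CommRing A] [CommRing R'] [CommRing C]
    [Algebra R A] [Algebra R R'] [Algebra A C] [Algebra R' C] [Algebra R C]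
    [IsScalarTower R A C] [IsScalarTower R R' C] [Algebra.IsPushout R A R' C]

theorem AC (p : Ideal A) [p.IsPrime] (p' : Ideal R') [p'.IsPrime]
    (hu : p'.under R = p.under R) (hfin : p.inertiaDeg R ≠ 0) :
    (primesOver2 (C := C) p p').Finite ∧
    (∀ q ∈ primesOver2 (C := C) p p', q.inertiaDeg R' ≠ 0) ∧
    ∑ᶠ q ∈ primesOver2 (C := C) p p', q.ramificationIdx A * q.inertiaDeg R' =
      p.inertiaDeg R * p'.ramificationIdx R := by
  obtain ⟨r, hr⟩ : ∃ r : Ideal R, r = p.under R := ⟨_, rfl⟩
  haveI : r.IsPrime := by rw [hr]; infer_instance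
  haveI : p.LiesOver r := ⟨hr⟩
  haveI : p'.LiesOver r := ⟨hr.trans hu.symm⟩
  letI := Localization.AtPrime.algebraOfLiesOver r p
  have hfinK : Module.Finite r.ResidueField p.ResidueField := by
    have h := Ideal.inertiaDeg_eq r p
    exact Module.finite_of_finrank_pos (by omega)
  haveI t1 : IsScalarTower R C (p.Fiber C) := IsScalarTower.to₁₃₄ R A C (p.Fiber C)
  let φ₂ : R' →ₐ[R] p.Fiber C :=
    (IsScalarTower.toAlgHom R C (p.Fiber C)).comp (IsScalarTower.toAlgHom R R' C)
  letI aR'H : Algebra R' (p.Fiber C) := φ₂.toRingHom.toAlgebra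
  haveI t2 : IsScalarTower R' C (p.Fiber C) := IsScalarTower.of_algebraMap_eq' rfl
  haveI t3 : IsScalarTower R R' (p.Fiber C) := IsScalarTower.of_algebraMap_eq' (by
    ext x
    exact (φ₂.commutes x).symm)
  let φ₁ : r.ResidueField →ₐ[R] p.Fiber C :=
    (IsScalarTower.toAlgHom R p.ResidueField (p.Fiber C)).comp
      (IsScalarTower.toAlgHom R r.ResidueField p.ResidueField)
  let φ : r.Fiber R' →ₐ[R] p.Fiber C :=
    Algebra.TensorProduct.lift φ₁ φ₂ (fun _ _ => Commute.all _ _)
  letI aGH : Algebra (r.Fiber R') (p.Fiber C) := φ.toRingHom.toAlgebra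
  have hφ : ∀ z, algebraMap (r.Fiber R') (p.Fiber C) z = φ z := fun _ => rfl
  have e4 : ∀ x : r.ResidueField, algebraMap r.ResidueField (p.Fiber C) x =
      algebraMap (r.Fiber R') (p.Fiber C) (algebraMap r.ResidueField (r.Fiber R') x) := by
    intro x
    rw [hφ]
    show _ = φ (x ⊗ₜ[R] (1 : R'))
    rw [Algebra.TensorProduct.lift_tmul, map_one, mul_one]
    show _ = algebraMap p.ResidueField (p.Fiber C) (algebraMap r.ResidueField p.ResidueField x)
    rw [← IsScalarTower.algebraMap_apply]
  haveI t4 : IsScalarTower r.ResidueField (r.Fiber R') (p.Fiber C) :=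
    IsScalarTower.of_algebraMap_eq e4
  have e5 : ∀ y : R', algebraMap R' (p.Fiber C) y =
      algebraMap (r.Fiber R') (p.Fiber C) (algebraMap R' (r.Fiber R') y) := by
    intro y
    rw [hφ]
    show φ₂ y = φ ((1 : r.ResidueField) ⊗ₜ[R] y)
    rw [Algebra.TensorProduct.lift_tmul]
    simp
  haveI t5 : IsScalarTower R' (r.Fiber R') (p.Fiber C) :=
    IsScalarTower.of_algebraMap_eq e5
  have e6 : ∀ x : R, algebraMap R (p.Fiber C) x =
      algebraMap (r.Fiber R') (p.Fiber C) (algebraMap R (r.Fiber R') x) := by
    intro x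
    rw [hφ]
    exact (φ.commutes x).symm
  haveI t6 : IsScalarTower R (r.Fiber R') (p.Fiber C) :=
    IsScalarTower.of_algebraMap_eq e6
  have hpo : Algebra.IsPushout r.ResidueField p.ResidueField (r.Fiber R') (p.Fiber C) :=
    isPushout_of_fibres R A R' C r.ResidueField p.ResidueField (r.Fiber R') (p.Fiber C)
  obtain ⟨n₀, hn₀p, -⟩ := exists_under_eq r p'
  haveI : Nontrivial (r.Fiber R') :=
    ⟨⟨0, 1, fun h => hn₀p.ne_top ((Ideal.eq_top_iff_one _).mpr (h ▸ n₀.zero_mem))⟩⟩
  obtain ⟨hfree, hfinite, hrank⟩ := free_of_isPushout _ _ _ _ hpo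
  exact AC_core r p p' hrank

end Part9

end Groth.Agent.Lib.R2H1.RamSum
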