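/-
Base change commutes with proper pushforward of cycles (helper1, round 2).

Main results: `CT` (for points x of X and y' of Y' over the same point of Y with κ(x) finite over κ(f x): the points x' of
X ×_Y Y' over (x, y') are finitely many, have finite residue extension over y', and
∑ mult(fst, x') [κ(x'):κ(y')] = [κ(x):κ(f x)] mult(g, y')), and `ML` (for f proper, g arbitrary with
δY' y' ≤ δY (g y') + c: map snd (pullFun fst α) = pullFun g (map f α) on coefficient functions).
Helpers: `multN`, `point_data` (multiplicity/residue degree via affine charts and appLE), `under_eq_iff`,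
`point_data_fromSpec`, `delta_ge`, `delta_eq_of_residueDegree_ne_zero`, `residueDegree_ne_zero_of_delta_eq`,
`finsum_mem_fiberwise`, `inner_sum`, `exists_maximal_generization` (maximal generization inside a fibre),
`delta_le_of_maximal`.
-/
import Mathlib
import Groth.Prelude.Def_Cyc
import Groth.Agent.Lib.R2H3RamLoc
import Groth.Agent.Lib.R2H1RamSum
import Groth.Agent.Lib.R2H3ProdChart

set_option autoImplicit false
set_option linter.style.haveILetI false
set_option linter.unusedSectionVars false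
universe u v

namespace Groth.Agent.Lib.R2H1.PullPush

open CategoryTheory AlgebraicGeometry CategoryTheory.Limits

section Part1

open Groth.Agent.Lib.R2H3.RamLoc

/-- the multiplicity of the fibre of `f` through `x`, at `x`. -/
noncomputable def multN {X Y : Scheme.{u}} (f : X ⟶ Y) (x : X) : ℕ :=
  (Module.length (X.presheaf.stalk x) (X.presheaf.stalk x ⧸ Ideal.map (f.stalkMap x).hom
    (IsLocalRing.maximalIdeal (Y.presheaf.stalk (f x))))).toNat

section pt
variable {X Y : Scheme.{u}} (f : X ⟶ Y) {V : Y.Opens} (hV : IsAffineOpen V)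
  {U : X.Opens} (hU : IsAffineOpen U) (e : U ≤ f ⁻¹ᵁ V)

theorem under_primeIdealOf (x : X) (hx : x ∈ U) :
    letI := (f.appLE V U e).hom.toAlgebra
    (hU.primeIdealOf ⟨x, hx⟩).asIdeal.under Γ(Y, V) = (hV.primeIdealOf ⟨f x, e hx⟩).asIdeal := by
  letI := (f.appLE V U e).hom.toAlgebra
  have h := IsAffineOpen.comap_primeIdealOf_appLE V hV U hU e hx
  exact congrArg PrimeSpectrum.asIdeal h

include hV in
theorem point_data (x : X) (hx : x ∈ U) :
    letI := (f.appLE V U e).hom.toAlgebra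
    multN f x = (hU.primeIdealOf ⟨x, hx⟩).asIdeal.ramificationIdx Γ(Y, V) ∧
    f.residueDegree x = (hU.primeIdealOf ⟨x, hx⟩).asIdeal.inertiaDeg Γ(Y, V) := by
  letI := (f.appLE V U e).hom.toAlgebra
  set q := (hU.primeIdealOf ⟨x, hx⟩).asIdeal with hq
  set p := (hV.primeIdealOf ⟨f x, e hx⟩).asIdeal with hp
  haveI : q.LiesOver p := ⟨(under_primeIdealOf f hV hU e x hx).symm⟩
  letI a1 : Algebra Γ(Y, V) (Y.presheaf.stalk (f x)) :=
    TopCat.Presheaf.algebra_section_stalk Y.presheaf (U := V) ⟨f x, e hx⟩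
  letI a2 : Algebra Γ(X, U) (X.presheaf.stalk x) :=
    TopCat.Presheaf.algebra_section_stalk X.presheaf (U := U) ⟨x, hx⟩
  haveI : IsLocalization.AtPrime (Y.presheaf.stalk (f x)) p := hV.isLocalization_stalk ⟨f x, e hx⟩
  haveI : IsLocalization.AtPrime (X.presheaf.stalk x) q := hU.isLocalization_stalk ⟨x, hx⟩
  have hψ : (f.stalkMap x).hom.comp (algebraMap Γ(Y, V) (Y.presheaf.stalk (f x))) =
      (algebraMap Γ(X, U) (X.presheaf.stalk x)).comp
        (algebraMap Γ(Y, V) Γ(X, U)) := by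
    ext a
    simp only [RingHom.algebraMap_toAlgebra, RingHom.coe_comp, Function.comp_apply,
      Scheme.Hom.appLE, CommRingCat.hom_comp]
    erw [Scheme.Hom.germ_stalkMap_apply, X.presheaf.germ_res_apply]
  refine ⟨toNat_length_eq_ramificationIdx p q _ _ (f.stalkMap x).hom hψ, ?_⟩
  exact finrank_residueField_eq_inertiaDeg p q _ _ (f.stalkMap x).hom hψ

end pt

end Part1

section Part2

variable {X : Scheme.{u}} {U : X.Opens} (hU : IsAffineOpen U)

theorem fromSpec_mem (P : PrimeSpectrum Γ(X, U)) : (hU.fromSpec P : X) ∈ U := by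
  have h : (hU.fromSpec P : X) ∈ Set.range hU.fromSpec := ⟨P, rfl⟩
  rw [hU.range_fromSpec] at h
  exact h

theorem primeIdealOf_injective {x y : X} (hx : x ∈ U) (hy : y ∈ U)
    (h : hU.primeIdealOf ⟨x, hx⟩ = hU.primeIdealOf ⟨y, hy⟩) : x = y := by
  have h1 := hU.fromSpec_primeIdealOf ⟨x, hx⟩
  have h2 := hU.fromSpec_primeIdealOf ⟨y, hy⟩
  rw [h] at h1
  exact h1.symm.trans h2

theorem primeIdealOf_fromSpec (P : PrimeSpectrum Γ(X, U)) :
    hU.primeIdealOf ⟨hU.fromSpec P, fromSpec_mem hU P⟩ = P := by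
  have h1 := hU.fromSpec_primeIdealOf ⟨hU.fromSpec P, fromSpec_mem hU P⟩
  exact hU.fromSpec.isOpenEmbedding.injective h1

end Part2

section Part3


variable {Z X : Scheme.{u}} (φ : Z ⟶ X) {U : X.Opens} (hU : IsAffineOpen U)
  {U' : Z.Opens} (hU' : IsAffineOpen U') (e : U' ≤ φ ⁻¹ᵁ U)

theorem under_asIdeal (P : PrimeSpectrum Γ(Z, U')) :
    letI := (φ.appLE U U' e).hom.toAlgebra
    P.asIdeal.under Γ(X, U) =
      (hU.primeIdealOf ⟨φ (hU'.fromSpec P), e (fromSpec_mem hU' P)⟩).asIdeal := by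
  letI := (φ.appLE U U' e).hom.toAlgebra
  have h := under_primeIdealOf φ hU hU' e (hU'.fromSpec P) (fromSpec_mem hU' P)
  rw [primeIdealOf_fromSpec hU' P] at h
  exact h

theorem under_eq_iff (x : X) (hx : x ∈ U) (P : PrimeSpectrum Γ(Z, U')) :
    letI := (φ.appLE U U' e).hom.toAlgebra
    P.asIdeal.under Γ(X, U) = (hU.primeIdealOf ⟨x, hx⟩).asIdeal ↔ φ (hU'.fromSpec P) = x := by
  letI := (φ.appLE U U' e).hom.toAlgebra
  rw [under_asIdeal φ hU hU' e P]
  constructor
  · intro h
    exact primeIdealOf_injective hU _ hx (PrimeSpectrum.ext h)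
  · intro h
    subst h
    rfl

include hU in
/-- multiplicity and residue degree at the point corresponding to `P`. -/
theorem point_data_fromSpec (P : PrimeSpectrum Γ(Z, U')) :
    letI := (φ.appLE U U' e).hom.toAlgebra
    multN φ (hU'.fromSpec P) = P.asIdeal.ramificationIdx Γ(X, U) ∧
    φ.residueDegree (hU'.fromSpec P) = P.asIdeal.inertiaDeg Γ(X, U) := by
  letI := (φ.appLE U U' e).hom.toAlgebra
  have h := point_data φ hU hU' e (hU'.fromSpec P) (fromSpec_mem hU' P)
  rw [primeIdealOf_fromSpec hU' P] at h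
  exact h

end Part3

section Part4


open Groth.Agent.Lib.R2H1.RamSum Groth.Agent.Lib.R2H3.ProdChart

variable {X Y Y' : Scheme.{u}} (f : X ⟶ Y) (g : Y' ⟶ Y)

/-- the points of the fibre product over a given pair of points. -/
def ptsOver (x : X) (y' : Y') : Set ↥(pullback f g) :=
  {x' | pullback.fst f g x' = x ∧ pullback.snd f g x' = y'}

theorem CT (x : X) (y' : Y') (h : f x = g y') (hfin : f.residueDegree x ≠ 0) :
    (ptsOver f g x y').Finite ∧
    (∀ x' ∈ ptsOver f g x y', (pullback.snd f g).residueDegree x' ≠ 0) ∧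
    ∑ᶠ x' ∈ ptsOver f g x y',
      multN (pullback.fst f g) x' * (pullback.snd f g).residueDegree x' =
      f.residueDegree x * multN g y' := by
  obtain ⟨W, hW, hxW, -⟩ := exists_isAffineOpen_mem_and_subset (x := f x) (U := ⊤) trivial
  obtain ⟨U, hU, hxU, hUW⟩ := exists_isAffineOpen_mem_and_subset (x := x) (U := f ⁻¹ᵁ W) hxW
  have hy'W : y' ∈ g ⁻¹ᵁ W := by
    show g y' ∈ W
    rw [← h]; exact hxW
  obtain ⟨V, hV, hyV, hVW⟩ := exists_isAffineOpen_mem_and_subset (x := y') (U := g ⁻¹ᵁ W) hy'W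
  have hUW' : U ≤ f ⁻¹ᵁ W := hUW
  have hVW' : V ≤ g ⁻¹ᵁ W := hVW
  have H : IsPullback (pullback.fst f g) (pullback.snd f g) f g := IsPullback.of_hasPullback f g
  set U' : (pullback f g).Opens := pullback.fst f g ⁻¹ᵁ U ⊓ pullback.snd f g ⁻¹ᵁ V with hU'def
  have hU' : IsAffineOpen U' := isAffineOpen_inf H hW hU hV hUW' hVW'
  have hpo := isPushout_appLE H hW hU hV hUW' hVW'
  have e1 : U' ≤ pullback.fst f g ⁻¹ᵁ U := inf_le_left
  have e2 : U' ≤ pullback.snd f g ⁻¹ᵁ V := inf_le_right
  letI aRA : Algebra Γ(Y, W) Γ(X, U) := (f.appLE W U hUW').hom.toAlgebra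
  letI aRR' : Algebra Γ(Y, W) Γ(Y', V) := (g.appLE W V hVW').hom.toAlgebra
  letI aAC : Algebra Γ(X, U) Γ(pullback f g, U') :=
    ((pullback.fst f g).appLE U U' e1).hom.toAlgebra
  letI aR'C : Algebra Γ(Y', V) Γ(pullback f g, U') :=
    ((pullback.snd f g).appLE V U' e2).hom.toAlgebra
  letI aRC : Algebra Γ(Y, W) Γ(pullback f g, U') :=
    (((pullback.fst f g).appLE U U' e1).hom.comp (f.appLE W U hUW').hom).toAlgebra
  haveI t1 : IsScalarTower Γ(Y, W) Γ(X, U) Γ(pullback f g, U') :=
    IsScalarTower.of_algebraMap_eq' rfl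
  haveI t2 : IsScalarTower Γ(Y, W) Γ(Y', V) Γ(pullback f g, U') :=
    IsScalarTower.of_algebraMap_eq' (congrArg CommRingCat.Hom.hom hpo.w)
  haveI hAP : Algebra.IsPushout Γ(Y, W) Γ(X, U) Γ(Y', V) Γ(pullback f g, U') :=
    CommRingCat.isPushout_iff_isPushout.mp hpo
  set p := (hU.primeIdealOf ⟨x, hxU⟩).asIdeal with hp
  set p' := (hV.primeIdealOf ⟨y', hyV⟩).asIdeal with hp'
  have hu : p'.under Γ(Y, W) = p.under Γ(Y, W) := by
    rw [hp, hp', under_primeIdealOf f hW hU hUW' x hxU, under_primeIdealOf g hW hV hVW' y' hyV]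
    congr 2
    exact Subtype.ext h.symm
  have hpd := point_data f hW hU hUW' x hxU
  have hpd' := point_data g hW hV hVW' y' hyV
  have hfin' : p.inertiaDeg Γ(Y, W) ≠ 0 := by rw [← hpd.2]; exact hfin
  obtain ⟨hF, hI, hS⟩ := AC (C := Γ(pullback f g, U')) p p' hu hfin'
  set T : Set (PrimeSpectrum Γ(pullback f g, U')) :=
    {P | P.asIdeal ∈ primesOver2 (C := Γ(pullback f g, U')) p p'} with hT
  have b1 : Set.BijOn (fun P : PrimeSpectrum Γ(pullback f g, U') => P.asIdeal) T
      (primesOver2 (C := Γ(pullback f g, U')) p p') := by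
    refine ⟨fun P hP => hP, fun P _ Q _ hPQ => PrimeSpectrum.ext hPQ, ?_⟩
    rintro q ⟨hq, hq1, hq2⟩
    exact ⟨⟨q, hq⟩, ⟨hq, hq1, hq2⟩, rfl⟩
  have b2 : Set.BijOn (fun P : PrimeSpectrum Γ(pullback f g, U') =>
      (hU'.fromSpec P : ↥(pullback f g))) T (ptsOver f g x y') := by
    refine ⟨?_, ?_, ?_⟩
    · rintro P ⟨-, hP1, hP2⟩
      exact ⟨(under_eq_iff (pullback.fst f g) hU hU' e1 x hxU P).mp hP1,
        (under_eq_iff (pullback.snd f g) hV hU' e2 y' hyV P).mp hP2⟩
    · intro P _ Q _ hPQ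
      exact hU'.fromSpec.isOpenEmbedding.injective hPQ
    · rintro x' ⟨hx1, hx2⟩
      have hx'U' : x' ∈ U' := ⟨by show pullback.fst f g x' ∈ U; rw [hx1]; exact hxU,
        by show pullback.snd f g x' ∈ V; rw [hx2]; exact hyV⟩
      have hfs := hU'.fromSpec_primeIdealOf ⟨x', hx'U'⟩
      refine ⟨hU'.primeIdealOf ⟨x', hx'U'⟩, ⟨(hU'.primeIdealOf ⟨x', hx'U'⟩).isPrime, ?_, ?_⟩, hfs⟩
      · refine (under_eq_iff (pullback.fst f g) hU hU' e1 x hxU _).mpr ?_
        rw [hfs]; exact hx1
      · refine (under_eq_iff (pullback.snd f g) hV hU' e2 y' hyV _).mpr ?_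
        rw [hfs]; exact hx2
  refine ⟨?_, ?_, ?_⟩
  · have hTfin : T.Finite := by
      have := hF
      rw [← b1.image_eq] at this
      exact this.of_finite_image b1.injOn
    rw [← b2.image_eq]
    exact hTfin.image _
  · intro x' hx'
    obtain ⟨P, hP, rfl⟩ := b2.surjOn hx'
    rw [(point_data_fromSpec (pullback.snd f g) hV hU' e2 P).2]
    exact hI _ hP
  · rw [hpd.2, hpd'.1, ← hS]
    rw [← finsum_mem_eq_of_bijOn _ b2 (g := fun x' => multN (pullback.fst f g) x' *
        (pullback.snd f g).residueDegree x')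
      (f := fun P : PrimeSpectrum Γ(pullback f g, U') =>
        P.asIdeal.ramificationIdx Γ(X, U) * P.asIdeal.inertiaDeg Γ(Y', V))
      (fun P hP => by
        simp only
        rw [(point_data_fromSpec (pullback.fst f g) hU hU' e1 P).1,
          (point_data_fromSpec (pullback.snd f g) hV hU' e2 P).2])]
    exact finsum_mem_eq_of_bijOn _ b1 (fun P hP => rfl)

end Part4

section Part5

section delta
variable {X Y : Scheme.{u}} (f : X ⟶ Y) {δX : X → ℤ} {δY : Y → ℤ}

theorem delta_ge (hδ : Cyc.DeltaCompat f δX δY) (x : X) : δY (f x) ≤ δX x := by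
  obtain ⟨n, -, hn⟩ := hδ x
  omega

theorem delta_eq_of_residueDegree_ne_zero (hδ : Cyc.DeltaCompat f δX δY) (x : X)
    (h : f.residueDegree x ≠ 0) : δX x = δY (f x) := by
  obtain ⟨n, hn, hδn⟩ := hδ x
  letI := (f.residueFieldMap x).hom.toAlgebra
  have hfin : Module.Finite (Y.residueField (f x)) (X.residueField x) :=
    Module.finite_of_finrank_pos (Nat.pos_of_ne_zero h)
  have h0 : Algebra.trdeg (Y.residueField (f x)) (X.residueField x) = 0 :=
    trdeg_eq_zero
  rw [h0] at hn
  have : n = 0 := by exact_mod_cast hn.symm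
  rw [hδn, this]; simp

theorem residueDegree_ne_zero_of_delta_eq [LocallyOfFiniteType f] (hδ : Cyc.DeltaCompat f δX δY)
    (x : X) (h : δX x = δY (f x)) : f.residueDegree x ≠ 0 := by
  obtain ⟨n, hn, hδn⟩ := hδ x
  have hn0 : n = 0 := by omega
  letI := (f.residueFieldMap x).hom.toAlgebra
  rw [hn0] at hn
  have halg : Algebra.IsAlgebraic (Y.residueField (f x)) (X.residueField x) :=
    trdeg_eq_zero_iff.mp (by exact_mod_cast hn)
  have hess : (f.stalkMap x).hom.EssFiniteType := LocallyOfFiniteType.stalkMap f x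
  haveI : Algebra.EssFiniteType (Y.residueField (f x)) (X.residueField x) := by
    letI a1 : Algebra (Y.presheaf.stalk (f x)) (X.presheaf.stalk x) := (f.stalkMap x).hom.toAlgebra
    haveI e1 : Algebra.EssFiniteType (Y.presheaf.stalk (f x)) (X.presheaf.stalk x) := hess
    letI a0 : Algebra (X.presheaf.stalk x) (X.residueField x) := (X.residue x).hom.toAlgebra
    letI a2 : Algebra (Y.presheaf.stalk (f x)) (X.residueField x) :=
      ((X.residue x).hom.comp (f.stalkMap x).hom).toAlgebra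
    haveI t1 : IsScalarTower (Y.presheaf.stalk (f x)) (X.presheaf.stalk x) (X.residueField x) :=
      IsScalarTower.of_algebraMap_eq' rfl
    haveI e2 : Algebra.EssFiniteType (X.presheaf.stalk x) (X.residueField x) :=
      Algebra.EssFiniteType.of_surjective (Algebra.ofId _ _) (X.residue_surjective x)
    haveI e3 : Algebra.EssFiniteType (Y.presheaf.stalk (f x)) (X.residueField x) :=
      Algebra.EssFiniteType.comp _ (X.presheaf.stalk x) _
    letI a3 : Algebra (Y.presheaf.stalk (f x)) (Y.residueField (f x)) :=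
      (Y.residue (f x)).hom.toAlgebra
    haveI t2 : IsScalarTower (Y.presheaf.stalk (f x)) (Y.residueField (f x)) (X.residueField x) :=
      IsScalarTower.of_algebraMap_eq' (by
        ext a
        exact (congrArg (fun φ => φ.hom a) (Scheme.residue_residueFieldMap f x)).symm)
    exact Algebra.EssFiniteType.of_comp (Y.presheaf.stalk (f x)) _ _
  haveI : Module.Finite (Y.residueField (f x)) (X.residueField x) :=
    Algebra.finite_of_essFiniteType_of_isAlgebraic
  exact (Module.finrank_pos (R := Y.residueField (f x)) (M := X.residueField x)).ne'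

end delta

section regroup

theorem finsum_mem_fiberwise {α β M : Type*} [AddCommMonoid M] (S : Set α) (T : Set β)
    (φ : α → β) (F : α → M) (hST : ∀ a ∈ S, φ a ∈ T)
    (hfin : (S ∩ Function.support F).Finite) :
    ∑ᶠ a ∈ S, F a = ∑ᶠ b ∈ T, ∑ᶠ a ∈ S ∩ φ ⁻¹' {b}, F a := by
  classical
  set S₀ := S ∩ Function.support F with hS₀
  set I := φ '' S₀ with hI
  set G : β → M := fun b => ∑ᶠ a ∈ S ∩ φ ⁻¹' {b}, F a with hG
  have h1 : ∑ᶠ a ∈ S, F a = ∑ᶠ a ∈ S₀, F a := (finsum_mem_inter_support F S).symm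
  have hU : S₀ = ⋃ b ∈ I, (S₀ ∩ φ ⁻¹' {b}) := by
    ext a
    simp only [Set.mem_iUnion, Set.mem_inter_iff, Set.mem_preimage, Set.mem_singleton_iff,
      exists_prop]
    constructor
    · intro ha
      exact ⟨φ a, ⟨a, ha, rfl⟩, ha, rfl⟩
    · rintro ⟨b, -, ha, -⟩
      exact ha
  have h2 : ∑ᶠ a ∈ S₀, F a = ∑ᶠ b ∈ I, ∑ᶠ a ∈ S₀ ∩ φ ⁻¹' {b}, F a := by
    conv_lhs => rw [hU]
    refine finsum_mem_biUnion ?_ (hfin.image φ) (fun b _ => hfin.subset Set.inter_subset_left)
    intro b _ b' _ hbb'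
    refine Set.disjoint_left.mpr ?_
    rintro a ⟨-, ha⟩ ⟨-, ha'⟩
    exact hbb' (ha.symm.trans ha')
  have h3 : ∀ b, ∑ᶠ a ∈ S₀ ∩ φ ⁻¹' {b}, F a = G b := by
    intro b
    refine finsum_mem_inter_support_eq _ _ _ ?_
    ext a
    simp only [hS₀, Set.mem_inter_iff, Set.mem_preimage, Set.mem_singleton_iff,
      Function.mem_support]
    tauto
  have h4 : ∑ᶠ b ∈ I, G b = ∑ᶠ b ∈ T, G b := by
    refine finsum_mem_inter_support_eq _ _ _ ?_
    ext b
    simp only [Set.mem_inter_iff, Function.mem_support]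
    constructor
    · rintro ⟨⟨a, ha, rfl⟩, hb⟩
      exact ⟨hST a ha.1, hb⟩
    · rintro ⟨hbT, hb⟩
      refine ⟨?_, hb⟩
      obtain ⟨a, ha, hFa⟩ := exists_ne_zero_of_finsum_mem_ne_zero hb
      exact ⟨a, ⟨ha.1, hFa⟩, ha.2⟩
  rw [h1, h2]
  simp only [h3]
  exact h4

end regroup

end Part5

section Part6


variable {X Y Y' : Scheme.{u}} (f : X ⟶ Y) (g : Y' ⟶ Y)

theorem map_apply' {X Y : Scheme.{u}} (j : X ⟶ Y) [QuasiCompact j] (wx : X → ℤ) (wy : Y → ℤ)
    (c : AlgebraicCycle X ℤ) (y : Y) :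
    AlgebraicCycle.map j wx wy c y =
      ∑ᶠ x ∈ j ⁻¹' {y}, c x * (AlgebraicCycle.mapCoeff j wx wy x : ℤ) := rfl

theorem pullFun_apply {X Y : Scheme.{u}} (p : X ⟶ Y) (δX : X → ℤ) (δY : Y → ℤ) (c : ℤ)
    (α : Y → ℤ) (x : X) :
    Cyc.pullFun p δX δY c α x = if δX x = δY (p x) + c then α (p x) * (multN p x : ℤ) else 0 := rfl

theorem condition_apply (x' : ↥(pullback f g)) :
    f (pullback.fst f g x') = g (pullback.snd f g x') := by
  rw [← Scheme.Hom.comp_apply, ← Scheme.Hom.comp_apply, pullback.condition]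

/-- the contribution of the points over `x` and `y'`. -/
theorem inner_sum [LocallyOfFiniteType f]
    (δX : X → ℤ) (δY : Y → ℤ) (δY' : Y' → ℤ) (δP : ↥(pullback f g) → ℤ) (c : ℤ)
    (hf : Cyc.DeltaCompat f δX δY) (hs : Cyc.DeltaCompat (pullback.snd f g) δP δY')
    (hB : ∀ y' : Y', δY' y' ≤ δY (g y') + c)
    (α : X → ℤ) (x : X) (y' : Y') (h : f x = g y') :
    ∑ᶠ x' ∈ ptsOver f g x y', Cyc.pullFun (pullback.fst f g) δP δX c α x' *
        (AlgebraicCycle.mapCoeff (pullback.snd f g) δP δY' x' : ℤ) =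
      if δY' y' = δY (g y') + c then
        α x * (AlgebraicCycle.mapCoeff f δX δY x : ℤ) * (multN g y' : ℤ) else 0 := by
  classical
  by_cases hx : δX x = δY (f x)
  · have hres := residueDegree_ne_zero_of_delta_eq f hf x hx
    obtain ⟨hFin, hI, hSum⟩ := CT f g x y' h hres
    have hterm : ∀ x' ∈ ptsOver f g x y',
        Cyc.pullFun (pullback.fst f g) δP δX c α x' *
          (AlgebraicCycle.mapCoeff (pullback.snd f g) δP δY' x' : ℤ) =
        if δY' y' = δY (g y') + c then
          α x * ((multN (pullback.fst f g) x' * (pullback.snd f g).residueDegree x' : ℕ) : ℤ)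
        else 0 := by
      rintro x' ⟨hx1, hx2⟩
      have hd : δP x' = δY' (pullback.snd f g x') :=
        delta_eq_of_residueDegree_ne_zero _ hs x' (hI x' ⟨hx1, hx2⟩)
      have hmc : AlgebraicCycle.mapCoeff (pullback.snd f g) δP δY' x' =
          (pullback.snd f g).residueDegree x' := by
        unfold AlgebraicCycle.mapCoeff
        rw [if_pos hd]
      rw [pullFun_apply, hmc, hx1, hd, hx2, hx, h]
      split_ifs
      · push_cast; ring
      · simp
    rw [finsum_mem_congr rfl hterm]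
    split_ifs with hc
    · rw [← mul_finsum_mem, ← Nat.cast_finsum_mem hFin, hSum]
      unfold AlgebraicCycle.mapCoeff
      rw [if_pos hx]
      push_cast; ring
    · exact finsum_mem_zero _
  · have hgt : δY (f x) < δX x := lt_of_le_of_ne (delta_ge f hf x) (Ne.symm hx)
    have hmc : AlgebraicCycle.mapCoeff f δX δY x = 0 := by
      unfold AlgebraicCycle.mapCoeff
      rw [if_neg hx]
    rw [hmc]
    simp only [Nat.cast_zero, mul_zero, zero_mul, ite_self]
    apply finsum_mem_eq_zero_of_forall_eq_zero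
    rintro x' ⟨hx1, hx2⟩
    by_contra hne
    have h1 : Cyc.pullFun (pullback.fst f g) δP δX c α x' ≠ 0 := left_ne_zero_of_mul hne
    have h2 : (AlgebraicCycle.mapCoeff (pullback.snd f g) δP δY' x' : ℤ) ≠ 0 :=
      right_ne_zero_of_mul hne
    have h3 : δP x' = δX (pullback.fst f g x') + c := by
      by_contra hcon
      rw [pullFun_apply, if_neg hcon] at h1
      exact h1 rfl
    have h4 : δP x' = δY' (pullback.snd f g x') := by
      by_contra hcon
      unfold AlgebraicCycle.mapCoeff at h2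
      rw [if_neg hcon] at h2
      exact h2 rfl
    rw [hx1] at h3
    rw [hx2] at h4
    have h5 := hB y'
    rw [← h] at h5
    omega

end Part6

section Part7



variable {X Y Y' : Scheme.{u}} (f : X ⟶ Y) (g : Y' ⟶ Y)

/-- Base change commutes with proper pushforward on cycle coefficients, assuming only the bound
`δY' y' ≤ δY (g y') + c` on the base. -/
theorem ML [IsProper f]
    (δX : X → ℤ) (δY : Y → ℤ) (δY' : Y' → ℤ) (δP : ↥(pullback f g) → ℤ) (c : ℤ)
    (hf : Cyc.DeltaCompat f δX δY) (hs : Cyc.DeltaCompat (pullback.snd f g) δP δY')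
    (hB : ∀ y' : Y', δY' y' ≤ δY (g y') + c)
    (α : AlgebraicCycle X ℤ) (α' : AlgebraicCycle (pullback f g) ℤ)
    (hα' : ⇑α' = Cyc.pullFun (pullback.fst f g) δP δX c ⇑α) :
    ⇑(AlgebraicCycle.map (pullback.snd f g) δP δY' α') =
      Cyc.pullFun g δY' δY c ⇑(AlgebraicCycle.map f δX δY α) := by
  classical
  funext y'
  rw [map_apply', pullFun_apply, map_apply']
  have hfinS : ((pullback.snd f g) ⁻¹' {y'} ∩ Function.support (fun x' =>
      α' x' * (AlgebraicCycle.mapCoeff (pullback.snd f g) δP δY' x' : ℤ))).Finite := by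
    have h1 := α'.locallyFiniteSupport.finite_inter_support_of_isCompact
      ((pullback.snd f g).isCompact_preimage_singleton y')
    refine h1.subset ?_
    rintro x' ⟨hx1, hx2⟩
    refine ⟨hx1, ?_⟩
    simp only [Function.mem_support] at hx2 ⊢
    exact left_ne_zero_of_mul hx2
  rw [finsum_mem_fiberwise ((pullback.snd f g) ⁻¹' {y'}) (f ⁻¹' {g y'}) (pullback.fst f g) _
    (fun x' hx' => by
      simp only [Set.mem_preimage, Set.mem_singleton_iff] at hx' ⊢
      rw [condition_apply, hx']) hfinS]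
  have hinner : ∀ x ∈ f ⁻¹' {g y'},
      ∑ᶠ x' ∈ (pullback.snd f g) ⁻¹' {y'} ∩ (pullback.fst f g) ⁻¹' {x},
        α' x' * (AlgebraicCycle.mapCoeff (pullback.snd f g) δP δY' x' : ℤ) =
      if δY' y' = δY (g y') + c then
        α x * (AlgebraicCycle.mapCoeff f δX δY x : ℤ) * (multN g y' : ℤ) else 0 := by
    intro x hx
    have hset : (pullback.snd f g) ⁻¹' {y'} ∩ (pullback.fst f g) ⁻¹' {x} = ptsOver f g x y' := by
      ext x'
      simp only [ptsOver, Set.mem_inter_iff, Set.mem_preimage, Set.mem_singleton_iff,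
        Set.mem_ofPred_eq]
      tauto
    rw [hset, hα']
    exact inner_sum f g δX δY δY' δP c hf hs hB α x y' hx
  rw [finsum_mem_congr rfl hinner]
  split_ifs with hc
  · rw [finsum_mem_mul]
  · exact finsum_mem_zero _

end Part7

section Part8

open CategoryTheory AlgebraicGeometry CategoryTheory.Limits

/-- in a quasi-sober T0 space every point has a maximal generization. -/
theorem exists_maximal_generization_top {F : Type*} [TopologicalSpace F] [QuasiSober F]
    [T0Space F] (z₀ : F) : ∃ ξ : F, ξ ⤳ z₀ ∧ ∀ z : F, z ⤳ ξ → z = ξ := by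
  have hZ := irreducibleComponent_mem_irreducibleComponents z₀
  have hZirr : IsIrreducible (irreducibleComponent z₀) := isIrreducible_irreducibleComponent
  have hZcl : IsClosed (irreducibleComponent z₀) := isClosed_irreducibleComponent
  obtain ⟨ξ, hξ⟩ := QuasiSober.sober hZirr hZcl
  refine ⟨ξ, ?_, ?_⟩
  · have : z₀ ∈ closure {ξ} := by rw [hξ.def]; exact mem_irreducibleComponent
    exact specializes_iff_mem_closure.mpr this
  · intro z hz
    have h1 : closure {ξ} ⊆ closure {z} := by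
      have : ξ ∈ closure {z} := specializes_iff_mem_closure.mp hz
      exact closure_minimal (Set.singleton_subset_iff.mpr this) isClosed_closure
    have h2 : IsIrreducible (closure ({z} : Set F)) := isIrreducible_singleton.closure
    have h3 : closure ({z} : Set F) ⊆ irreducibleComponent z₀ := by
      have hle : irreducibleComponent z₀ ≤ closure ({z} : Set F) := by rw [← hξ.def]; exact h1
      exact hZ.2 h2 hle
    have h4 : closure ({z} : Set F) = closure {ξ} := by
      rw [hξ.def]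
      exact Set.Subset.antisymm h3 (by rw [← hξ.def]; exact h1)
    have h5 : IsGenericPoint z (closure {ξ}) := h4
    have h6 : IsGenericPoint ξ (closure {ξ}) := rfl
    exact h5.eq h6

theorem exists_maximal_generization {X' X : Scheme.{u}} (p : X' ⟶ X) (x' : X') :
    ∃ x'' : X', x'' ⤳ x' ∧ p x'' = p x' ∧ ∀ z : X', p z = p x'' → z ⤳ x'' → z = x'' := by
  set s := p x' with hs
  obtain ⟨ξ, hξ, hmax⟩ := exists_maximal_generization_top (p.asFiber x')
  have hv : p.fiberι s (p.asFiber x') = x' := p.fiberι_asFiber x'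
  have hps : p (p.fiberι s ξ) = s := by
    have : p.fiberι s ξ ∈ Set.range (p.fiberι s) := ⟨ξ, rfl⟩
    rw [Scheme.Hom.range_fiberι] at this
    exact this
  refine ⟨p.fiberι s ξ, ?_, hps, ?_⟩
  · have := hξ.map (p.fiberι s).continuous
    rwa [hv] at this
  · intro z hz hzs
    have hz_mem : z ∈ Set.range (p.fiberι s) := by
      rw [Scheme.Hom.range_fiberι]; exact hz.trans hps
    obtain ⟨u, rfl⟩ := hz_mem
    have : u ⤳ ξ := (p.fiberι s).isEmbedding.isInducing.specializes_iff.mp hzs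
    rw [hmax u this]

/-- the bound `δ' x' ≤ δ (p x') + c` from the value of `δ'` at the maximal points of the fibres. -/
theorem delta_le_of_maximal {X' X : Scheme.{u}} (p : X' ⟶ X) (δ : X → ℤ) (δ' : X' → ℤ)
    (hδ' : Cyc.IsDimFun X' δ') (c : ℤ)
    (hc : ∀ x' : X', (∀ y, p y = p x' → y ⤳ x' → y = x') → δ' x' = δ (p x') + c) (x' : X') :
    δ' x' ≤ δ (p x') + c := by
  obtain ⟨x'', hsp, hpx, hmax⟩ := exists_maximal_generization p x'
  have h1 := hc x'' hmax
  rw [hpx] at h1
  by_cases e : x'' = x'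
  · rw [← e, h1, ← e, hpx]
  · have := (hδ' x'' x' hsp e).1
    omega

end Part8

end Groth.Agent.Lib.R2H1.PullPush
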