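/-
Proper pushforward of a principal divisor is the divisor of the norm (S1906; helper1, round 2).

Main results: `main` (S1906), `normF_chart` (norm formula ord_y(Nm φ) = sum_{x over y} [κ(x):κ(y)] ord_x(φ) in function field form, on an affine chart over which p is finite).
Helpers: `isFinite_restrict_of_le`, `exists_affine_chart` (finite over an open => affine chart V with p⁻¹V affine and finite ring map), `ffMap` (map of function fields of a dominant morphism), `ffMap_germ`, `appLE_injective`, `eX`, `eY`, `eX_ffMap`, `finiteDimensional_ff`, `normGen_eX` (Cyc.normGen in function field terms), `generic_specializes`, `ker_specMap_generic`, `ringKrullDim_stalk_eq_one`, `stalkSpecializes_symm_apply`.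
-/
import Mathlib
import Groth.Prelude
import Groth.Agent.Lib.R2H1SemiLocal
import Groth.Agent.Lib.R2H1PullPush
import Groth.Agent.Lib.R2H1FlatDiv
import Groth.Agent.Lib.R2H1LocQuot
import Groth.Agent.S1867

set_option autoImplicit false
set_option linter.style.haveILetI false
set_option linter.unusedSectionVars false
universe u v

namespace Groth.Agent.Lib.R2H1.NormPush

section Part1

open CategoryTheory AlgebraicGeometry CategoryTheory.Limits

variable {X Y : Scheme.{u}}

/-- finiteness over an open restricts to smaller opens. -/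
theorem isFinite_restrict_of_le (p : X ⟶ Y) {V V₀ : Y.Opens} (hle : V ≤ V₀)
    [IsFinite (p ∣_ V₀)] : IsFinite (p ∣_ V) := by
  have hle' : p ⁻¹ᵁ V ≤ p ⁻¹ᵁ V₀ := fun x hx => hle hx
  have hbig : IsPullback (X.homOfLE hle' ≫ (p ⁻¹ᵁ V₀).ι) (p ∣_ V) p (Y.homOfLE hle ≫ V₀.ι) := by
    rw [Scheme.homOfLE_ι, Scheme.homOfLE_ι]
    exact (isPullback_morphismRestrict p V).flip
  have hcomm : X.homOfLE hle' ≫ (p ∣_ V₀) = (p ∣_ V) ≫ Y.homOfLE hle := by
    rw [← cancel_mono V₀.ι, Category.assoc, Category.assoc, morphismRestrict_ι,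
      Scheme.homOfLE_ι, morphismRestrict_ι, Scheme.homOfLE_ι_assoc]
  have hleft : IsPullback (X.homOfLE hle') (p ∣_ V) (p ∣_ V₀) (Y.homOfLE hle) :=
    IsPullback.of_right hbig hcomm (isPullback_morphismRestrict p V₀).flip
  exact MorphismProperty.of_isPullback hleft inferInstance

theorem finite_appLE_congr (p : X ⟶ Y) {V V' : Y.Opens} {U U' : X.Opens} (hV : V' = V)
    (hU : U' = U) (e' : U' ≤ p ⁻¹ᵁ V') (e : U ≤ p ⁻¹ᵁ V) (h : (p.appLE V' U' e').hom.Finite) :
    (p.appLE V U e).hom.Finite := by
  subst hV hU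
  exact h

/-- an affine chart around `y` over which `p` is finite. -/
theorem exists_affine_chart (p : X ⟶ Y) (V₀ : Y.Opens) [IsFinite (p ∣_ V₀)] (y : Y)
    (hy : y ∈ V₀) :
    ∃ V : Y.Opens, IsAffineOpen V ∧ y ∈ V ∧ IsAffineOpen (p ⁻¹ᵁ V) ∧
      (p.appLE V (p ⁻¹ᵁ V) le_rfl).hom.Finite := by
  obtain ⟨V, hV, hyV, hVV₀⟩ := exists_isAffineOpen_mem_and_subset (x := y) (U := V₀) hy
  haveI : IsFinite (p ∣_ V) := isFinite_restrict_of_le p hVV₀
  haveI : IsAffine V.toScheme := hV
  haveI : IsAffine (p ⁻¹ᵁ V).toScheme := isAffine_of_isAffineHom (p ∣_ V)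
  have hU : IsAffineOpen (p ⁻¹ᵁ V) := ‹IsAffine (p ⁻¹ᵁ V).toScheme›
  refine ⟨V, hV, hyV, hU, ?_⟩
  have h1 := Scheme.Hom.finite_appTop (p ∣_ V)
  rw [Scheme.Hom.appTop, morphismRestrict_app'] at h1
  refine finite_appLE_congr p (Scheme.Opens.ι_image_top V) ?_ _ _ h1
  rw [Scheme.Hom.preimage_top, Scheme.Opens.ι_image_top]

end Part1

section Part2

open CategoryTheory AlgebraicGeometry CategoryTheory.Limits

variable {X Y : Scheme.{u}} [IsIntegral X] [IsIntegral Y]

/-- the map of function fields induced by a dominant morphism of integral schemes. -/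
noncomputable def ffMap (p : X ⟶ Y) (hdom : p (genericPoint X) = genericPoint Y) :
    Y.functionField →+* X.functionField :=
  (Y.presheaf.stalkSpecializes (specializes_of_eq hdom) ≫ p.stalkMap (genericPoint X)).hom

theorem mem_of_generic (V : Y.Opens) [h : Nonempty V] : genericPoint Y ∈ V :=
  ((genericPoint_spec Y).mem_open_set_iff V.isOpen).mpr (by simpa using h)

theorem nonempty_preimage (p : X ⟶ Y) (hdom : p (genericPoint X) = genericPoint Y)
    (V : Y.Opens) [Nonempty V] : Nonempty (p ⁻¹ᵁ V : X.Opens) :=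
  ⟨⟨genericPoint X, by
    show p (genericPoint X) ∈ V
    rw [hdom]; exact mem_of_generic V⟩⟩

theorem ffMap_germ (p : X ⟶ Y) (hdom : p (genericPoint X) = genericPoint Y)
    (V : Y.Opens) [Nonempty V] (a : Γ(Y, V)) :
    haveI := nonempty_preimage p hdom V
    ffMap p hdom (Y.germToFunctionField V a) = X.germToFunctionField (p ⁻¹ᵁ V) (p.app V a) := by
  haveI := nonempty_preimage p hdom V
  have hmem : p (genericPoint X) ∈ V := by rw [hdom]; exact mem_of_generic V
  have h1 : Y.presheaf.germ V (genericPoint Y) (mem_of_generic V) ≫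
      Y.presheaf.stalkSpecializes (specializes_of_eq hdom) =
      Y.presheaf.germ V (p (genericPoint X)) hmem :=
    TopCat.Presheaf.germ_stalkSpecializes _ _ _
  have h2 := p.germ_stalkMap V (genericPoint X) hmem
  show (Y.presheaf.germ V (genericPoint Y) _ ≫
    Y.presheaf.stalkSpecializes (specializes_of_eq hdom) ≫ p.stalkMap (genericPoint X)) a = _
  rw [← Category.assoc, h1, h2]
  rfl

theorem appLE_injective (p : X ⟶ Y) (hdom : p (genericPoint X) = genericPoint Y)
    (V : Y.Opens) [Nonempty V] : Function.Injective (p.appLE V (p ⁻¹ᵁ V) le_rfl).hom := by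
  haveI := nonempty_preimage p hdom V
  rw [Scheme.Hom.appLE_eq_app]
  intro a b hab
  apply Y.germToFunctionField_injective V
  apply (ffMap p hdom).injective
  rw [ffMap_germ, ffMap_germ]
  exact congrArg _ hab

end Part2

section Part3

open CategoryTheory AlgebraicGeometry CategoryTheory.Limits CycAlg

open Groth.Agent.Lib.R2H1.SemiLocal Groth.Agent.Lib.R2H1.PullPush

variable {X Y : Scheme.{u}} [IsIntegral X] [IsIntegral Y]

/-- **Norm formula on an affine chart.** -/
theorem normF_chart (p : X ⟶ Y) (hdom : p (genericPoint X) = genericPoint Y)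
    (hfd : letI := (ffMap p hdom).toAlgebra
      FiniteDimensional Y.functionField X.functionField)
    [IsLocallyNoetherian Y]
    (y : Y) (hy : ringKrullDim (Y.presheaf.stalk y) = 1)
    (V : Y.Opens) (hV : IsAffineOpen V) (hyV : y ∈ V) (hU : IsAffineOpen (p ⁻¹ᵁ V))
    (hfin : (p.appLE V (p ⁻¹ᵁ V) le_rfl).hom.Finite)
    (φ : X.functionField) (hφ : φ ≠ 0) :
    letI := (ffMap p hdom).toAlgebra
    (∀ x ∈ p ⁻¹' {y}, p.residueDegree x ≠ 0) ∧
    ordFrac (Y.presheaf.stalk y) Y.functionField (Algebra.norm Y.functionField φ) =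
      ∑ᶠ x ∈ p ⁻¹' {y}, (p.residueDegree x : ℤ) *
        ordFrac (X.presheaf.stalk x) X.functionField φ := by
  letI aKL : Algebra Y.functionField X.functionField := (ffMap p hdom).toAlgebra
  haveI : FiniteDimensional Y.functionField X.functionField := hfd
  haveI neV : Nonempty V := ⟨⟨y, hyV⟩⟩
  haveI neU : Nonempty (p ⁻¹ᵁ V : X.Opens) := nonempty_preimage p hdom V
  set U : X.Opens := p ⁻¹ᵁ V with hUdef
  letI aAB : Algebra Γ(Y, V) Γ(X, U) := (p.appLE V U le_rfl).hom.toAlgebra
  haveI : Module.Finite Γ(Y, V) Γ(X, U) := hfin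
  have hinj : Function.Injective (algebraMap Γ(Y, V) Γ(X, U)) := appLE_injective p hdom V
  haveI : IsNoetherianRing Γ(Y, V) := IsLocallyNoetherian.component_noetherian ⟨V, hV⟩
  haveI fA : IsFractionRing Γ(Y, V) Y.functionField :=
    functionField_isFractionRing_of_isAffineOpen Y V hV
  haveI fB : IsFractionRing Γ(X, U) X.functionField :=
    functionField_isFractionRing_of_isAffineOpen X U hU
  letI aAL : Algebra Γ(Y, V) X.functionField :=
    ((algebraMap Γ(X, U) X.functionField).comp (algebraMap Γ(Y, V) Γ(X, U))).toAlgebra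
  haveI tABL : IsScalarTower Γ(Y, V) Γ(X, U) X.functionField :=
    IsScalarTower.of_algebraMap_eq (fun _ => rfl)
  haveI tAKL : IsScalarTower Γ(Y, V) Y.functionField X.functionField := by
    refine IsScalarTower.of_algebraMap_eq (fun a => ?_)
    show X.germToFunctionField U ((p.appLE V U le_rfl).hom a) =
      ffMap p hdom (Y.germToFunctionField V a)
    rw [ffMap_germ, Scheme.Hom.appLE_eq_app]
  set 𝔭 : Ideal Γ(Y, V) := (hV.primeIdealOf ⟨y, hyV⟩).asIdeal with h𝔭
  letI aAR : Algebra Γ(Y, V) (Y.presheaf.stalk y) :=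
    TopCat.Presheaf.algebra_section_stalk Y.presheaf (U := V) ⟨y, hyV⟩
  haveI lR : IsLocalization.AtPrime (Y.presheaf.stalk y) 𝔭 := hV.isLocalization_stalk ⟨y, hyV⟩
  haveI tARK : IsScalarTower Γ(Y, V) (Y.presheaf.stalk y) Y.functionField :=
    functionField_isScalarTower Y V ⟨y, hyV⟩
  -- the family
  let T : Over Γ(X, U) 𝔭 → Type u := fun 𝔮 => X.presheaf.stalk (hU.fromSpec 𝔮.1)
  letI iT1 : ∀ 𝔮, CommRing (T 𝔮) := fun 𝔮 => inferInstance
  letI iT2 : ∀ 𝔮, Algebra Γ(X, U) (T 𝔮) := fun 𝔮 =>
    TopCat.Presheaf.algebra_section_stalk X.presheaf (U := U)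
      ⟨hU.fromSpec 𝔮.1, fromSpec_mem hU 𝔮.1⟩
  haveI iT3 : ∀ 𝔮 : Over Γ(X, U) 𝔭, IsLocalization.AtPrime (T 𝔮) 𝔮.1.asIdeal := fun 𝔮 =>
    hU.isLocalization_stalk' 𝔮.1 (fromSpec_mem hU 𝔮.1)
  letI iT4 : ∀ 𝔮, Algebra (T 𝔮) X.functionField := fun 𝔮 => inferInstance
  haveI iT5 : ∀ 𝔮, IsScalarTower Γ(X, U) (T 𝔮) X.functionField := fun 𝔮 =>
    functionField_isScalarTower X U ⟨hU.fromSpec 𝔮.1, fromSpec_mem hU 𝔮.1⟩
  have hmain := chart_norm Γ(Y, V) Γ(X, U) hinj Y.functionField X.functionField 𝔭
    (Y.presheaf.stalk y) hy T hφ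
  refine ⟨?_, ?_⟩
  · intro x hx
    have hxy : p x = y := hx
    have hxU : x ∈ U := by
      show p x ∈ V
      rw [hxy]; exact hyV
    have hw := (point_data p hV hU le_rfl x hxU).2
    rw [hw]
    exact (Ideal.inertiaDeg_pos _ _).ne'
  rw [hmain]
  -- reindex by points
  rw [← finsum_mem_univ]
  let g : Over Γ(X, U) 𝔭 → X := fun 𝔮 => hU.fromSpec 𝔮.1
  have hbij : Set.BijOn g Set.univ (p ⁻¹' {y}) := by
    refine ⟨?_, ?_, ?_⟩
    · intro 𝔮 _
      have h1 := (under_eq_iff p hV hU le_rfl y hyV 𝔮.1).mp 𝔮.2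
      exact h1
    · intro 𝔮₁ _ 𝔮₂ _ h12
      exact Subtype.ext (hU.fromSpec.isOpenEmbedding.injective h12)
    · intro x hx
      have hxy : p x = y := hx
      have hxU : x ∈ U := by
        show p x ∈ V
        rw [hxy]; exact hyV
      have h1 := under_primeIdealOf p hV hU le_rfl x hxU
      have h2 : (hU.primeIdealOf ⟨x, hxU⟩).asIdeal.comap (algebraMap Γ(Y, V) Γ(X, U)) = 𝔭 := by
        rw [← Ideal.under_def, h1, h𝔭]
        congr 2
        exact Subtype.ext hxy
      exact ⟨⟨hU.primeIdealOf ⟨x, hxU⟩, h2⟩, trivial, hU.fromSpec_primeIdealOf ⟨x, hxU⟩⟩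
  refine finsum_mem_eq_of_bijOn g hbij ?_
  intro 𝔮 _
  have hw := (point_data_fromSpec p hV hU le_rfl 𝔮.1).2
  show ((𝔮.1.asIdeal.inertiaDeg Γ(Y, V) : ℕ) : ℤ) * ordFrac (T 𝔮) X.functionField φ =
    (p.residueDegree (hU.fromSpec 𝔮.1) : ℤ) *
      ordFrac (X.presheaf.stalk (hU.fromSpec 𝔮.1)) X.functionField φ
  rw [hw]

end Part3

section Part4

open CategoryTheory AlgebraicGeometry CategoryTheory.Limits CycAlg

variable {X Y : Scheme.{u}} [IsIntegral X] [IsIntegral Y]

/-- the function field is the residue field at the generic point. -/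
noncomputable def eX (X : Scheme.{u}) [IsIntegral X] :
    X.functionField ≃+* X.residueField (genericPoint X) :=
  RingEquiv.ofBijective (X.residue (genericPoint X)).hom
    ⟨RingHom.injective ((X.residue (genericPoint X)).hom :
      X.functionField →+* X.residueField (genericPoint X)), X.residue_surjective _⟩

theorem eX_apply (φ : X.functionField) : eX X φ = X.residue (genericPoint X) φ := rfl

theorem stalkSpecializes_eq_surjective {x y : Y} (h : x = y) :
    Function.Surjective (Y.presheaf.stalkSpecializes (specializes_of_eq h)).hom := by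
  intro z
  refine ⟨(Y.presheaf.stalkSpecializes (specializes_of_eq h.symm)).hom z, ?_⟩
  have := TopCat.Presheaf.stalkSpecializes_comp Y.presheaf (specializes_of_eq h)
    (specializes_of_eq h.symm)
  have h2 : (Y.presheaf.stalkSpecializes (specializes_of_eq h.symm) ≫
      Y.presheaf.stalkSpecializes (specializes_of_eq h)) z = z := by
    rw [this, TopCat.Presheaf.stalkSpecializes_refl]
    rfl
  exact h2

/-- the function field of `Y` is the residue field at the image of the generic point of `X`. -/
noncomputable def eY (p : X ⟶ Y) (hdom : p (genericPoint X) = genericPoint Y) :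
    Y.functionField ≃+* Y.residueField (p (genericPoint X)) :=
  RingEquiv.ofBijective
    (Y.presheaf.stalkSpecializes (specializes_of_eq hdom) ≫ Y.residue (p (genericPoint X))).hom
    ⟨RingHom.injective ((Y.presheaf.stalkSpecializes (specializes_of_eq hdom) ≫
      Y.residue (p (genericPoint X))).hom : Y.functionField →+* _), by
      intro z
      obtain ⟨w, rfl⟩ := Y.residue_surjective _ z
      obtain ⟨k, rfl⟩ := stalkSpecializes_eq_surjective hdom w
      exact ⟨k, rfl⟩⟩

theorem eY_apply (p : X ⟶ Y) (hdom : p (genericPoint X) = genericPoint Y) (k : Y.functionField) :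
    eY p hdom k = Y.residue (p (genericPoint X))
      ((Y.presheaf.stalkSpecializes (specializes_of_eq hdom)).hom k) := rfl

theorem eX_ffMap (p : X ⟶ Y) (hdom : p (genericPoint X) = genericPoint Y) (k : Y.functionField) :
    eX X (ffMap p hdom k) = (p.residueFieldMap (genericPoint X)).hom (eY p hdom k) := by
  rw [eX_apply, eY_apply]
  have h := Scheme.residue_residueFieldMap p (genericPoint X)
  have h2 := congrArg (fun ψ => ψ.hom ((Y.presheaf.stalkSpecializes (specializes_of_eq hdom)).hom k)) h
  exact h2.symm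

theorem finiteDimensional_ff (p : X ⟶ Y) (hdom : p (genericPoint X) = genericPoint Y)
    (hfin : (p.residueFieldMap (genericPoint X)).hom.Finite) :
    letI := (ffMap p hdom).toAlgebra
    FiniteDimensional Y.functionField X.functionField := by
  letI := (ffMap p hdom).toAlgebra
  have h1 : ffMap p hdom = ((eX X).symm : _ →+* X.functionField).comp
      ((p.residueFieldMap (genericPoint X)).hom.comp (eY p hdom : Y.functionField →+* _)) := by
    ext k
    show ffMap p hdom k = (eX X).symm ((p.residueFieldMap (genericPoint X)).hom (eY p hdom k))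
    rw [← eX_ffMap, RingEquiv.symm_apply_apply]
  have h2 : (ffMap p hdom).Finite := by
    rw [h1]
    refine RingHom.Finite.comp ?_ (RingHom.Finite.comp hfin ?_)
    · exact RingHom.Finite.of_surjective _ (eX X).symm.surjective
    · exact RingHom.Finite.of_surjective _ (eY p hdom).surjective
  exact h2

theorem normGen_eX (p : X ⟶ Y) (hdom : p (genericPoint X) = genericPoint Y)
    (φ : X.functionField) :
    Cyc.normGen p (genericPoint X) (eX X φ) =
      eY p hdom (letI := (ffMap p hdom).toAlgebra; Algebra.norm Y.functionField φ) := by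
  letI := (ffMap p hdom).toAlgebra
  letI := (p.residueFieldMap (genericPoint X)).hom.toAlgebra
  have he : RingHom.comp (algebraMap (Y.residueField (p (genericPoint X)))
      (X.residueField (genericPoint X))) ((eY p hdom : Y.functionField →+* _)) =
      RingHom.comp ((eX X : X.functionField →+* _)) (algebraMap Y.functionField X.functionField) := by
    ext k
    exact (eX_ffMap p hdom k).symm
  have h := Algebra.norm_eq_of_equiv_equiv (eY p hdom) (eX X) he φ
  rw [h, RingEquiv.apply_symm_apply]
  rfl

end Part4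

section Part5

open CategoryTheory AlgebraicGeometry CategoryTheory.Limits CycAlg

open Groth.Agent.Lib.R2H1.PullPush Groth.Agent.Lib.R2H1.FlatDiv Groth.Agent.Lib.R2H1.LocQuot

variable {X Y : Scheme.{u}} [IsIntegral X] [IsIntegral Y]

theorem generic_specializes (x : X) : genericPoint X ⤳ x :=
  (genericPoint_spec X).specializes trivial

/-- the kernel of `specMap` at the generic point is trivial. -/
theorem ker_specMap_generic (y₀ : X) (e : y₀ = genericPoint X) (x : X) (h : y₀ ⤳ x) :
    RingHom.ker (Cyc.specMap x y₀ h) = ⊥ := by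
  subst e
  rw [RingHom.ker_eq_bot_iff_eq_zero]
  intro r hr
  have hspec : Cyc.specMap x (genericPoint X) h r =
      eX X (algebraMap (X.presheaf.stalk x) X.functionField r) := rfl
  rw [hspec, map_eq_zero_iff _ (eX X).injective] at hr
  exact (map_eq_zero_iff _ (IsFractionRing.injective (X.presheaf.stalk x) X.functionField)).mp hr

theorem ringKrullDim_stalk_eq_one [IsLocallyNoetherian X] {δ : X → ℤ} (hδ : Cyc.IsDimFun X δ)
    (y₀ : X) (e : y₀ = genericPoint X) (x : X) (h : y₀ ⤳ x) (hd : δ x + 1 = δ y₀) :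
    ringKrullDim (X.presheaf.stalk x) = 1 := by
  have h1 := ringKrullDim_locQuot hδ x y₀ h hd
  have hker := ker_specMap_generic y₀ e x h
  have h2 : ringKrullDim (Cyc.LocQuot x y₀ h) = ringKrullDim (X.presheaf.stalk x ⧸ (⊥ : Ideal _)) :=
    ringKrullDim_quotient_congr hker
  rw [← h1, h2]
  exact (ringKrullDim_eq_of_ringEquiv (RingEquiv.quotientBot (X.presheaf.stalk x))).symm

end Part5

section Part6

open CategoryTheory AlgebraicGeometry CategoryTheory.Limits CycAlg

open Groth.Agent.Lib.R2H1.PullPush Groth.Agent.Lib.R2H1.FlatDiv Groth.Agent.Lib.R2H1.LocQuot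

variable {X Y : Scheme.{u}} [IsIntegral X] [IsIntegral Y]

theorem stalkSpecializes_symm_apply {x y : Y} (h : x = y) (k : Y.presheaf.stalk y) :
    (Y.presheaf.stalkSpecializes (specializes_of_eq h.symm)).hom
      ((Y.presheaf.stalkSpecializes (specializes_of_eq h)).hom k) = k := by
  have := TopCat.Presheaf.stalkSpecializes_comp Y.presheaf (specializes_of_eq h.symm)
    (specializes_of_eq h)
  have h2 : (Y.presheaf.stalkSpecializes (specializes_of_eq h) ≫
      Y.presheaf.stalkSpecializes (specializes_of_eq h.symm)) k = k := by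
    rw [this, TopCat.Presheaf.stalkSpecializes_refl]
    rfl
  exact h2

/-- **Norm formula for proper pushforward of a principal divisor (S1906).** -/
theorem main (δX : X → ℤ) (δY : Y → ℤ) (hX : Cyc.IsSetup X δX) (hY : Cyc.IsSetup Y δY)
    (p : X ⟶ Y) [IsProper p] (hδ : Cyc.DeltaCompat p δX δY)
    (hdom : p (genericPoint X) = genericPoint Y)
    (hn : δX (genericPoint X) = δY (genericPoint Y))
    (f : X.residueField (genericPoint X)) (hf : f ≠ 0) (α : AlgebraicCycle X ℤ)
    (hα : ⇑α = Cyc.divFun δX (genericPoint X) f) :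
    ⇑(AlgebraicCycle.map p δX δY α) =
      Cyc.divFun δY (p (genericPoint X)) (Cyc.normGen p (genericPoint X) f) := by
  classical
  haveI : IsLocallyNoetherian Y := hY.1
  haveI : IsLocallyNoetherian X := hX.1
  have hnη : δX (genericPoint X) = δY (p (genericPoint X)) := by rw [hdom]; exact hn
  -- finiteness of the function field extension
  have hres : p.residueDegree (genericPoint X) ≠ 0 := residueDegree_ne_zero_of_delta_eq p hδ (genericPoint X) hnη
  have hfin : (p.residueFieldMap (genericPoint X)).hom.Finite := by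
    letI := (p.residueFieldMap (genericPoint X)).hom.toAlgebra
    exact Module.finite_of_finrank_pos (Nat.pos_of_ne_zero hres)
  funext y
  rw [map_apply']
  have hspecY : p (genericPoint X) ⤳ y := by rw [hdom]; exact generic_specializes y
  by_cases hd : δY y + 1 = δY (p (genericPoint X))
  · -- the main case
    have hdimy : ringKrullDim (Y.presheaf.stalk y) = 1 :=
      ringKrullDim_stalk_eq_one hY.2.2 (p (genericPoint X)) hdom y hspecY hd
    obtain ⟨V₀, hyV₀, hV₀fin⟩ := Groth.Agent.S1867.result X Y p hdom hfin y hdimy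
    haveI := hV₀fin
    obtain ⟨V, hV, hyV, hU, hfinApp⟩ := exists_affine_chart p V₀ y hyV₀
    set φ : X.functionField := (eX X).symm f with hφ
    have hφ0 : φ ≠ 0 := by
      intro h0
      apply hf
      have : f = eX X φ := by rw [hφ, RingEquiv.apply_symm_apply]
      rw [this, h0, map_zero]
    have hfφ : f = eX X φ := by rw [hφ, RingEquiv.apply_symm_apply]
    obtain ⟨hne, hsum⟩ := normF_chart p hdom (finiteDimensional_ff p hdom hfin) y hdimy V hV hyV hU
      hfinApp φ hφ0
    -- right hand side
    have hR : Cyc.divFun δY (p (genericPoint X)) (Cyc.normGen p (genericPoint X) f) y =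
        (letI := (ffMap p hdom).toAlgebra
         ordFrac (Y.presheaf.stalk y) Y.functionField (Algebra.norm Y.functionField φ)) := by
      unfold Cyc.divFun
      rw [dif_pos ⟨hspecY, hd⟩, hfφ, normGen_eX p hdom φ, eY_apply,
        ordAt_generic_eq' (p (genericPoint X)) hdom y hspecY, stalkSpecializes_symm_apply hdom]
    rw [hR, hsum]
    refine finsum_mem_congr rfl (fun x hx => ?_)
    have hxy : p x = y := hx
    have hδx : δX x = δY (p x) := delta_eq_of_residueDegree_ne_zero p hδ x (hne x hx)
    have hcoef : (AlgebraicCycle.mapCoeff p δX δY x : ℤ) = (p.residueDegree x : ℤ) := by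
      unfold AlgebraicCycle.mapCoeff
      rw [if_pos hδx]
    have hspecX : genericPoint X ⤳ x := generic_specializes x
    have hdx : δX x + 1 = δX (genericPoint X) := by rw [hδx, hxy, hd, hnη]
    rw [hcoef, hα]
    unfold Cyc.divFun
    rw [dif_pos ⟨hspecX, hdx⟩, hfφ, eX_apply, ordAt_generic_eq x hspecX φ, mul_comm]
  · -- both sides vanish
    have hR : Cyc.divFun δY (p (genericPoint X)) (Cyc.normGen p (genericPoint X) f) y = 0 := by
      unfold Cyc.divFun
      rw [dif_neg (fun h => hd h.2)]
    rw [hR]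
    refine finsum_mem_eq_zero_of_forall_eq_zero (fun x hx => ?_)
    have hxy : p x = y := hx
    by_cases hδx : δX x = δY (p x)
    · have hdx : ¬ (δX x + 1 = δX (genericPoint X)) := by
        intro h
        apply hd
        rw [← hxy, ← hδx, h, hnη]
      rw [hα]
      unfold Cyc.divFun
      rw [dif_neg (fun h => hdx h.2), zero_mul]
    · unfold AlgebraicCycle.mapCoeff
      rw [if_neg hδx]
      simp

end Part6

end Groth.Agent.Lib.R2H1.NormPush
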