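/-
Degree of a principal divisor on a proper integral curve over a field is zero (S1860), geometry part.
SpecMap_stalkMap, isScalarTower_stalk/sections (K-algebra structures on local rings, sections and the function field), dim_facts, eXₐ, trdeg_functionField, isFF_functionField, Dom K X x P (the place P is centred at x), dom_iff_domAlg, local_formula ([k(x):K] ord_x f = sum over places centred at x), sq (valuative square of a place), exists_dom (existence of centres, universally closed), domHom/domLift, dom_unique (uniqueness of centres, separated), not_dom_generic, isClosed_of_ne_generic, finsum_deg_mul_ord, main, residueDegree_eq_finrank.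
-/
import Groth.Agent.Lib.R2H1CurvePlaces
import Groth.Agent.Lib.Helper4VarDim13
import Groth.Agent.Lib.R2H1NormPush
import Groth.Prelude.Def_CurvBase
import Mathlib.AlgebraicGeometry.ValuativeCriterion
import Groth.Agent.Lib.R2H1PullPush
import Groth.Agent.Lib.H6xZetaPts

set_option autoImplicit false
set_option linter.style.haveILetI false
set_option linter.unusedSectionVars false
universe u v

namespace Groth.Agent.Lib.R2H1.CurveDeg

section Part1

open CategoryTheory AlgebraicGeometry TopologicalSpace
open FunFld Groth.Agent.Lib.LeadFG Groth.Agent.Lib.Helper4.VarDim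
open Groth.Agent.Lib.R2H1.CurvePlaces

attribute [local instance] sectionsAlgebra Curv2.stalkAlgebra Curv2.resAlgebra

section Base

variable (K : Type u) [Field K] (X : Scheme.{u}) [X.Over (Spec (CommRingCat.of K))]

theorem algebraMap_stalk_apply (x : X) (c : K) :
    algebraMap K (X.presheaf.stalk x) c =
      (X.presheaf.germ ⊤ x trivial).hom
        ((X ↘ Spec (CommRingCat.of K)).appTop.hom
          ((Scheme.ΓSpecIso (CommRingCat.of K)).inv.hom c)) := rfl

theorem algebraMap_sections_apply (U : X.Opens) (c : K) :
    algebraMap K Γ(X, U) c =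
      (X.presheaf.map (homOfLE (le_top : U ≤ ⊤)).op).hom
        ((X ↘ Spec (CommRingCat.of K)).appTop.hom
          ((Scheme.ΓSpecIso (CommRingCat.of K)).inv.hom c)) := rfl

/-- The structure map of a local ring of a scheme over `Spec K`, via `Spec`. -/
theorem SpecMap_stalkMap (x : X) :
    Spec.map (CommRingCat.ofHom (algebraMap K (X.presheaf.stalk x))) =
      X.fromSpecStalk x ≫ (X ↘ Spec (CommRingCat.of K)) := by
  have h1 : (X ↘ Spec (CommRingCat.of K)) =
      X.toSpecΓ ≫ Spec.map (X ↘ Spec (CommRingCat.of K)).appTop ≫
        Spec.map (Scheme.ΓSpecIso (CommRingCat.of K)).inv := by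
    rw [← Scheme.toSpecΓ_naturality_assoc, ← SpecMap_ΓSpecIso_hom, ← Spec.map_comp,
      Iso.inv_hom_id, Spec.map_id, Category.comp_id]
  have h2 : CommRingCat.ofHom (algebraMap K (X.presheaf.stalk x)) =
      (Scheme.ΓSpecIso (CommRingCat.of K)).inv ≫ (X ↘ Spec (CommRingCat.of K)).appTop ≫
        X.presheaf.germ ⊤ x trivial := rfl
  rw [h2, Spec.map_comp, Spec.map_comp]
  conv_rhs => rw [h1]
  simp only [Category.assoc]
  rw [Scheme.fromSpecStalk_toSpecΓ_assoc]

theorem germ_algebraMap_sections (U : X.Opens) (x : X) (hx : x ∈ U) (c : K) :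
    (X.presheaf.germ U x hx).hom (algebraMap K Γ(X, U) c) = algebraMap K (X.presheaf.stalk x) c := by
  rw [algebraMap_sections_apply, algebraMap_stalk_apply]
  exact X.presheaf.germ_res_apply (homOfLE (le_top : U ≤ ⊤)) x hx _

end Base

section Integral

variable (K : Type u) [Field K] (X : Scheme.{u}) [X.Over (Spec (CommRingCat.of K))] [IsIntegral X]

instance isScalarTower_stalk (x : X) : IsScalarTower K (X.presheaf.stalk x) X.functionField := by
  refine IsScalarTower.of_algebraMap_eq (fun c => ?_)
  rw [algebraMap_stalk_apply, algebraMap_stalk_apply]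
  exact (TopCat.Presheaf.germ_stalkSpecializes_apply X.presheaf (U := ⊤) (y := x)
    (x := genericPoint X) trivial ((genericPoint_spec X).specializes trivial) _).symm

instance isScalarTower_sections (U : X.Opens) [Nonempty U] :
    IsScalarTower K Γ(X, U) X.functionField := by
  refine IsScalarTower.of_algebraMap_eq (fun c => ?_)
  exact (germ_algebraMap_sections K X U (genericPoint X) _ c).symm

end Integral

end Part1

section Part2

open CategoryTheory AlgebraicGeometry TopologicalSpace
open FunFld Groth.Agent.Lib.LeadFG Groth.Agent.Lib.Helper4.VarDim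
open Groth.Agent.Lib.R2H1.CurvePlaces

attribute [local instance] sectionsAlgebra Curv2.stalkAlgebra Curv2.resAlgebra

section Dim

variable (K : Type u) [Field K] (X : Scheme.{u}) [X.Over (Spec (CommRingCat.of K))] [IsIntegral X]
  [LocallyOfFiniteType (X ↘ Spec (CommRingCat.of K))]

theorem dim_facts (hdim : topologicalKrullDim X = 1) :
    Algebra.trdeg K (X.residueField (genericPoint X)) = 1 ∧
      ∀ V : X.Opens, IsAffineOpen V → (V : Set X).Nonempty → ringKrullDim Γ(X, V) = 1 := by
  obtain ⟨n, hn, h⟩ := exists_dim_irreducible K X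
  have h1 := topologicalKrullDim_eq_of_irreducible K X n hn
  rw [hdim] at h1
  have h2 : n = 1 := by exact_mod_cast h1.symm
  subst h2
  exact ⟨by simpa using hn, fun V hV hne => by simpa using h V hV hne⟩

/-- the function field is `K`-isomorphic to the residue field at the generic point. -/
noncomputable def eXₐ : X.functionField ≃ₐ[K] X.residueField (genericPoint X) :=
  { Groth.Agent.Lib.R2H1.NormPush.eX X with
    commutes' := fun _ => rfl }

theorem trdeg_functionField (hdim : topologicalKrullDim X = 1) :
    Algebra.trdeg K X.functionField = 1 := by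
  rw [(eXₐ K X).trdeg_eq]
  exact (dim_facts K X hdim).1

theorem essFiniteType_functionField : Algebra.EssFiniteType K X.functionField := by
  obtain ⟨x₀⟩ := (inferInstance : Nonempty X)
  obtain ⟨U, hU, hx₀, -⟩ := exists_isAffineOpen_mem_and_subset (U := ⊤) (x := x₀) trivial
  haveI : Nonempty U := ⟨⟨x₀, hx₀⟩⟩
  haveI := finiteType_sections K X hU
  haveI := functionField_isFractionRing_of_isAffineOpen X U hU
  haveI : Algebra.EssFiniteType Γ(X, U) X.functionField :=
    Algebra.EssFiniteType.of_isLocalization X.functionField (nonZeroDivisors Γ(X, U))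
  exact Algebra.EssFiniteType.comp K Γ(X, U) X.functionField

theorem isFF_functionField (hdim : topologicalKrullDim X = 1) : IsFF K X.functionField := by
  haveI := essFiniteType_functionField K X
  exact isFF_of_trdeg_eq_one K X.functionField (trdeg_functionField K X hdim)

end Dim

end Part2

section Part3

open CategoryTheory AlgebraicGeometry TopologicalSpace
open FunFld Groth.Agent.Lib.LeadFG Groth.Agent.Lib.Helper4.VarDim
open Groth.Agent.Lib.R2H1.CurvePlaces Groth.Agent.Lib.R2H1.CurvePlaces Groth.Agent.Lib.R2H1.CurvePlaces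

attribute [local instance] sectionsAlgebra Curv2.stalkAlgebra Curv2.resAlgebra

section Dom

variable (K : Type u) [Field K] (X : Scheme.{u}) [X.Over (Spec (CommRingCat.of K))] [IsIntegral X]

/-- the place `P` of the function field of `X` is centred at the point `x`. -/
def Dom (x : X) (P : Place K X.functionField) : Prop :=
  ∀ r : X.presheaf.stalk x,
    P.1 (algebraMap (X.presheaf.stalk x) X.functionField r) ≤ 1 ∧
    (r ∈ IsLocalRing.maximalIdeal (X.presheaf.stalk x) →
      P.1 (algebraMap (X.presheaf.stalk x) X.functionField r) < 1)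

variable {X}

theorem mem_primeIdealOf_iff' {U : X.Opens} (hU : IsAffineOpen U) (x : X) (hx : x ∈ U)
    (a : Γ(X, U)) :
    a ∈ (hU.primeIdealOf ⟨x, hx⟩).asIdeal ↔
      (X.presheaf.germ U x hx).hom a ∈ IsLocalRing.maximalIdeal (X.presheaf.stalk x) := by
  rw [hU.primeIdealOf_eq_map_closedPoint ⟨x, hx⟩]
  rfl

theorem algebraMap_sections_eq {U : X.Opens} [Nonempty U] (x : X) (hx : x ∈ U) (a : Γ(X, U)) :
    algebraMap Γ(X, U) X.functionField a =
      algebraMap (X.presheaf.stalk x) X.functionField ((X.presheaf.germ U x hx).hom a) :=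
  (Scheme.algebraMap_germ_eq_germToFunctionField X hx a).symm

variable {K}

theorem val_unit_eq_one (P : Place K X.functionField) (x : X)
    (h : ∀ r : X.presheaf.stalk x,
      P.1 (algebraMap (X.presheaf.stalk x) X.functionField r) ≤ 1)
    {r : X.presheaf.stalk x} (hr : IsUnit r) :
    P.1 (algebraMap (X.presheaf.stalk x) X.functionField r) = 1 := by
  obtain ⟨u, rfl⟩ := hr
  have h1 := h (u : X.presheaf.stalk x)
  have h2 := h ((u⁻¹ : (X.presheaf.stalk x)ˣ) : X.presheaf.stalk x)
  have h3 : P.1 (algebraMap (X.presheaf.stalk x) X.functionField (u : X.presheaf.stalk x)) *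
      P.1 (algebraMap (X.presheaf.stalk x) X.functionField
        ((u⁻¹ : (X.presheaf.stalk x)ˣ) : X.presheaf.stalk x)) = 1 := by
    rw [← map_mul, ← map_mul, Units.mul_inv, map_one, map_one]
  apply le_antisymm h1
  calc (1 : WithZero (Multiplicative ℤ)) = _ := h3.symm
    _ ≤ P.1 (algebraMap (X.presheaf.stalk x) X.functionField (u : X.presheaf.stalk x)) * 1 :=
      mul_le_mul' le_rfl h2
    _ = _ := mul_one _

theorem dom_iff_domAlg {U : X.Opens} (hU : IsAffineOpen U) (x : X) (hx : x ∈ U)
    (P : Place K X.functionField) :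
    haveI : Nonempty U := ⟨⟨x, hx⟩⟩
    Dom K X x P ↔ DomAlg K Γ(X, U) X.functionField (hU.primeIdealOf ⟨x, hx⟩).asIdeal P := by
  haveI : Nonempty U := ⟨⟨x, hx⟩⟩
  constructor
  · intro h
    refine ⟨fun a => ?_, fun a => ?_⟩
    · rw [algebraMap_sections_eq x hx a]
      exact (h _).1
    · rw [algebraMap_sections_eq x hx a, mem_primeIdealOf_iff' hU x hx a]
      constructor
      · intro hlt
        by_contra hnm
        have hu : IsUnit ((X.presheaf.germ U x hx).hom a) := by
          by_contra hnu
          exact hnm ((IsLocalRing.mem_maximalIdeal _).mpr hnu)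
        rw [val_unit_eq_one P x (fun r => (h r).1) hu] at hlt
        exact lt_irrefl _ hlt
      · exact (h _).2
  · rintro ⟨h1, h2⟩ r
    letI := TopCat.Presheaf.algebra_section_stalk X.presheaf ⟨x, hx⟩
    haveI := hU.isLocalization_stalk ⟨x, hx⟩
    obtain ⟨a, s, hmk⟩ :=
      IsLocalization.exists_mk'_eq (hU.primeIdealOf ⟨x, hx⟩).asIdeal.primeCompl r
    have hrs : r * (X.presheaf.germ U x hx).hom s.1 = (X.presheaf.germ U x hx).hom a := by
      rw [← hmk]
      exact IsLocalization.mk'_spec _ a s
    have hs : P.1 (algebraMap Γ(X, U) X.functionField s.1) = 1 := by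
      apply le_antisymm (h1 _)
      rw [← not_lt, h2]
      exact s.2
    have hval : P.1 (algebraMap (X.presheaf.stalk x) X.functionField r) =
        P.1 (algebraMap Γ(X, U) X.functionField a) := by
      rw [algebraMap_sections_eq x hx a, ← hrs, map_mul, map_mul,
        ← algebraMap_sections_eq x hx s.1, hs, mul_one]
    refine ⟨hval ▸ h1 a, fun hr => ?_⟩
    rw [hval, h2, mem_primeIdealOf_iff' hU x hx a, ← hrs]
    exact Ideal.mul_mem_right _ _ hr

end Dom

end Part3

section Part4

open CategoryTheory AlgebraicGeometry TopologicalSpace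
open FunFld Groth.Agent.Lib.LeadFG Groth.Agent.Lib.Helper4.VarDim
open Groth.Agent.Lib.R2H1.CurvePlaces Groth.Agent.Lib.R2H1.CurvePlaces Groth.Agent.Lib.R2H1.CurvePlaces

attribute [local instance] sectionsAlgebra Curv2.stalkAlgebra Curv2.resAlgebra

section Local

variable (K : Type u) [Field K] (X : Scheme.{u}) [X.Over (Spec (CommRingCat.of K))]

theorem isMaximal_primeIdealOf {U : X.Opens} (hU : IsAffineOpen U) (x : X) (hxU : x ∈ U)
    (hx : IsClosed ({x} : Set X)) : (hU.primeIdealOf ⟨x, hxU⟩).asIdeal.IsMaximal := by
  rw [← PrimeSpectrum.isClosed_singleton_iff_isMaximal]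
  have h1 : ({hU.primeIdealOf ⟨x, hxU⟩} : Set (PrimeSpectrum Γ(X, U))) =
      hU.fromSpec ⁻¹' {x} := by
    ext q
    simp only [Set.mem_singleton_iff]
    show q = _ ↔ hU.fromSpec q = x
    constructor
    · rintro rfl
      exact hU.fromSpec_primeIdealOf ⟨x, hxU⟩
    · intro hq
      apply hU.fromSpec.isOpenEmbedding.injective
      rw [hq, hU.fromSpec_primeIdealOf ⟨x, hxU⟩]
  rw [h1]
  exact hx.preimage hU.fromSpec.continuous

theorem evₐ_surjective {U : X.Opens} (hU : IsAffineOpen U) (x : X) (hxU : x ∈ U)
    (hmax : (hU.primeIdealOf ⟨x, hxU⟩).asIdeal.IsMaximal) :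
    Function.Surjective (evₐ K X x hxU) := by
  intro z
  obtain ⟨a, s, rfl⟩ := evₐ_frac K X hU x hxU z
  by_cases hs : evₐ K X x hxU s = 0
  · exact ⟨0, by rw [hs, div_zero, map_zero]⟩
  have hs' : s ∉ (hU.primeIdealOf ⟨x, hxU⟩).asIdeal := by
    rw [← ker_evₐ K X hU x hxU]
    exact hs
  obtain ⟨s', i, hi, hsi⟩ := Ideal.IsMaximal.exists_inv hmax hs'
  have hi0 : evₐ K X x hxU i = 0 := by
    rw [← ker_evₐ K X hU x hxU] at hi
    exact hi
  have h1 : evₐ K X x hxU s' * evₐ K X x hxU s = 1 := by
    have := congrArg (evₐ K X x hxU) hsi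
    rwa [map_add, hi0, add_zero, map_mul, map_one] at this
  refine ⟨a * s', ?_⟩
  rw [map_mul, eq_div_iff hs, mul_assoc, h1, mul_one]

theorem finrank_quot_eq {U : X.Opens} (hU : IsAffineOpen U) (x : X) (hxU : x ∈ U)
    (hmax : (hU.primeIdealOf ⟨x, hxU⟩).asIdeal.IsMaximal) :
    Module.finrank K (Γ(X, U) ⧸ (hU.primeIdealOf ⟨x, hxU⟩).asIdeal) =
      Module.finrank K (X.residueField x) := by
  have hker : RingHom.ker (evₐ K X x hxU) = (hU.primeIdealOf ⟨x, hxU⟩).asIdeal :=
    ker_evₐ K X hU x hxU
  let e : (Γ(X, U) ⧸ (hU.primeIdealOf ⟨x, hxU⟩).asIdeal) ≃ₐ[K] X.residueField x :=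
    (Ideal.quotientEquivAlgOfEq K hker.symm).trans
      (Ideal.quotientKerAlgEquivOfSurjective (evₐ_surjective K X hU x hxU hmax))
  exact e.toLinearEquiv.finrank_eq

variable [IsIntegral X] [LocallyOfFiniteType (X ↘ Spec (CommRingCat.of K))]

/-- **Local formula.** At a closed point `x` of an integral curve over `K`:
`[κ(x) : K] · ord_x f` is the sum of `deg P · ord_P f` over the places centred at `x`. -/
theorem local_formula (hdim : topologicalKrullDim X = 1) (x : X)
    (hx : IsClosed ({x} : Set X)) {f : X.functionField} (hf : f ≠ 0) :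
    (Module.finrank K (X.residueField x) : ℤ) *
        CycAlg.ordFrac (X.presheaf.stalk x) X.functionField f =
      ∑ᶠ P ∈ {P : Place K X.functionField | Dom K X x P}, (P.deg : ℤ) * P.ord f := by
  obtain ⟨U, hU, hxU, -⟩ := exists_isAffineOpen_mem_and_subset (U := ⊤) (x := x) trivial
  haveI : Nonempty U := ⟨⟨x, hxU⟩⟩
  haveI := finiteType_sections K X hU
  haveI := functionField_isFractionRing_of_isAffineOpen X U hU
  have hdimU : ringKrullDim Γ(X, U) = 1 := (dim_facts K X hdim).2 U hU ⟨x, hxU⟩
  haveI hmax := isMaximal_primeIdealOf X hU x hxU hx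
  letI := TopCat.Presheaf.algebra_section_stalk X.presheaf ⟨x, hxU⟩
  haveI := hU.isLocalization_stalk ⟨x, hxU⟩
  haveI := functionField_isScalarTower X U ⟨x, hxU⟩
  have key := chart_places K Γ(X, U) X.functionField hdimU
    (hU.primeIdealOf ⟨x, hxU⟩).asIdeal (X.presheaf.stalk x) hf
  rw [finrank_quot_eq K X hU x hxU hmax] at key
  rw [key]
  refine finsum_mem_congr ?_ (fun _ _ => rfl)
  ext P
  exact (dom_iff_domAlg hU x hxU P).symm

end Local

end Part4

section Part5

open CategoryTheory AlgebraicGeometry TopologicalSpace
open FunFld Groth.Agent.Lib.LeadFG Groth.Agent.Lib.Helper4.VarDim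

attribute [local instance] sectionsAlgebra Curv2.stalkAlgebra Curv2.resAlgebra

section Val

variable (K : Type u) [Field K] (X : Scheme.{u}) [X.Over (Spec (CommRingCat.of K))] [IsIntegral X]

variable {K X}

theorem algebraMap_comp_eq (P : Place K X.functionField) :
    CommRingCat.ofHom (algebraMap K P.O) ≫ CommRingCat.ofHom (algebraMap P.O X.functionField) =
      CommRingCat.ofHom (algebraMap K X.functionField) := rfl

/-- the valuative square attached to a place of the function field. -/
noncomputable def sq (P : Place K X.functionField) :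
    ValuativeCommSq (X ↘ Spec (CommRingCat.of K)) where
  R := P.O
  K := X.functionField
  i₁ := X.fromSpecStalk (genericPoint X)
  i₂ := Spec.map (CommRingCat.ofHom (algebraMap K P.O))
  commSq := ⟨by
    rw [← Spec.map_comp, algebraMap_comp_eq]
    exact (SpecMap_stalkMap K X (genericPoint X)).symm⟩

theorem algebraMap_stalk_eq (x : X) :
    algebraMap (X.presheaf.stalk x) X.functionField =
      (X.presheaf.stalkSpecializes ((genericPoint_spec X).specializes trivial)).hom := rfl

/-- **Existence of centres.** Every place of the function field of a scheme universally closed over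
`K` is centred at some point. -/
theorem exists_dom [UniversallyClosed (X ↘ Spec (CommRingCat.of K))]
    (P : Place K X.functionField) : ∃ x : X, Dom K X x P := by
  have h0 : (ValuativeCriterion.Existence ⊓ @QuasiCompact) (X ↘ Spec (CommRingCat.of K)) := by
    rw [← UniversallyClosed.eq_valuativeCriterion]
    infer_instance
  obtain ⟨l, hl₁, hl₂⟩ := (h0.1 (sq P)).exists_lift
  change Spec.map (CommRingCat.ofHom (algebraMap P.O X.functionField)) ≫ l =
    X.fromSpecStalk (genericPoint X) at hl₁
  change (Spec (CommRingCat.of P.O) ⟶ X) at l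
  refine ⟨l (IsLocalRing.closedPoint P.O), ?_⟩
  set x := l (IsLocalRing.closedPoint P.O) with hx
  let φ : X.presheaf.stalk x ⟶ CommRingCat.of P.O := Scheme.stalkClosedPointTo l
  have hφ : Spec.map φ ≫ X.fromSpecStalk x = l := Scheme.Spec_stalkClosedPointTo_fromSpecStalk l
  have hcomp : φ ≫ CommRingCat.ofHom (algebraMap P.O X.functionField) =
      X.presheaf.stalkSpecializes ((genericPoint_spec X).specializes trivial) := by
    apply Spec.map_injective
    rw [← cancel_mono (X.fromSpecStalk x), Spec.map_comp, Category.assoc, hφ, hl₁,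
      Scheme.SpecMap_stalkSpecializes_fromSpecStalk]
  have hval : ∀ r : X.presheaf.stalk x,
      algebraMap (X.presheaf.stalk x) X.functionField r = ((φ.hom r : P.O) : X.functionField) := by
    intro r
    rw [algebraMap_stalk_eq, ← hcomp]
    rfl
  intro r
  refine ⟨?_, fun hr => ?_⟩
  · rw [hval]
    exact (φ.hom r).2
  · rw [hval, ← mem_maxIdeal_iff]
    haveI : IsLocalHom φ.hom := Scheme.isLocalHom_stalkClosedPointTo' l
    exact map_nonunit φ.hom r hr

end Val

end Part5

section Part6

open CategoryTheory AlgebraicGeometry TopologicalSpace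
open FunFld Groth.Agent.Lib.LeadFG Groth.Agent.Lib.Helper4.VarDim

attribute [local instance] sectionsAlgebra Curv2.stalkAlgebra Curv2.resAlgebra

section Uniq

variable {K : Type u} [Field K] {X : Scheme.{u}} [X.Over (Spec (CommRingCat.of K))] [IsIntegral X]

/-- the local homomorphism from the local ring at a centre to the valuation ring. -/
noncomputable def domHom {x : X} {P : Place K X.functionField} (h : Dom K X x P) :
    X.presheaf.stalk x ⟶ CommRingCat.of P.O :=
  CommRingCat.ofHom ((algebraMap (X.presheaf.stalk x) X.functionField).codRestrict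
    P.O.toSubring (fun r => (h r).1))

theorem domHom_coe {x : X} {P : Place K X.functionField} (h : Dom K X x P)
    (r : X.presheaf.stalk x) :
    (((domHom h).hom r : P.O) : X.functionField) =
      algebraMap (X.presheaf.stalk x) X.functionField r := rfl

instance isLocalHom_domHom {x : X} {P : Place K X.functionField} (h : Dom K X x P) :
    IsLocalHom (domHom h).hom := by
  constructor
  intro r hr
  by_contra hnu
  have h1 : r ∈ IsLocalRing.maximalIdeal (X.presheaf.stalk x) :=
    (IsLocalRing.mem_maximalIdeal _).mpr hnu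
  have h2 := (h r).2 h1
  rw [← domHom_coe h r, ← mem_maxIdeal_iff] at h2
  exact h2 hr

/-- the morphism `Spec O_P ⟶ X` attached to a centre. -/
noncomputable def domLift {x : X} {P : Place K X.functionField} (h : Dom K X x P) :
    Spec (CommRingCat.of P.O) ⟶ X :=
  Spec.map (domHom h) ≫ X.fromSpecStalk x

theorem domLift_closedPoint {x : X} {P : Place K X.functionField} (h : Dom K X x P) :
    domLift h (IsLocalRing.closedPoint P.O) = x := by
  rw [domLift, Scheme.Hom.comp_apply, Spec_closedPoint, Scheme.fromSpecStalk_closedPoint]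

theorem domLift_fac_left {x : X} {P : Place K X.functionField} (h : Dom K X x P) :
    Spec.map (CommRingCat.ofHom (algebraMap P.O X.functionField)) ≫ domLift h =
      X.fromSpecStalk (genericPoint X) := by
  have hcomp : domHom h ≫ CommRingCat.ofHom (algebraMap P.O X.functionField) =
      X.presheaf.stalkSpecializes ((genericPoint_spec X).specializes trivial) := rfl
  rw [domLift, ← Spec.map_comp_assoc, hcomp, Scheme.SpecMap_stalkSpecializes_fromSpecStalk]

theorem domLift_fac_right {x : X} {P : Place K X.functionField} (h : Dom K X x P) :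
    domLift h ≫ (X ↘ Spec (CommRingCat.of K)) =
      Spec.map (CommRingCat.ofHom (algebraMap K P.O)) := by
  have hcomp : CommRingCat.ofHom (algebraMap K (X.presheaf.stalk x)) ≫ domHom h =
      CommRingCat.ofHom (algebraMap K P.O) := by
    ext c
    show algebraMap (X.presheaf.stalk x) X.functionField (algebraMap K (X.presheaf.stalk x) c) =
      algebraMap K X.functionField c
    rw [← IsScalarTower.algebraMap_apply]
  rw [domLift, Category.assoc, ← SpecMap_stalkMap, ← Spec.map_comp, hcomp]

/-- **Uniqueness of centres.** A place of the function field of a scheme separated over `K` has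
at most one centre. -/
theorem dom_unique [IsSeparated (X ↘ Spec (CommRingCat.of K))] {x x' : X}
    {P : Place K X.functionField} (h : Dom K X x P) (h' : Dom K X x' P) : x = x' := by
  haveI := IsSeparated.valuativeCriterion (X ↘ Spec (CommRingCat.of K)) (sq P)
  let L : (sq P).commSq.LiftStruct := ⟨domLift h, domLift_fac_left h, domLift_fac_right h⟩
  let L' : (sq P).commSq.LiftStruct := ⟨domLift h', domLift_fac_left h', domLift_fac_right h'⟩
  have hLL : L = L' := Subsingleton.elim _ _
  have hl : domLift h = domLift h' := congrArg CommSq.LiftStruct.l hLL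
  rw [← domLift_closedPoint h, ← domLift_closedPoint h', hl]

end Uniq

end Part6

section Part7

open CategoryTheory AlgebraicGeometry TopologicalSpace
open FunFld Groth.Agent.Lib.LeadFG Groth.Agent.Lib.Helper4.VarDim

attribute [local instance] sectionsAlgebra Curv2.stalkAlgebra Curv2.resAlgebra

section Closed

variable (K : Type u) [Field K] (X : Scheme.{u}) [X.Over (Spec (CommRingCat.of K))] [IsIntegral X]

variable {K X}

theorem not_dom_generic (P : Place K X.functionField) : ¬ Dom K X (genericPoint X) P := by
  intro h
  obtain ⟨t, ht⟩ := P.2.2 (WithZero.exp (1 : ℤ))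
  have h1 : P.1 ((X.presheaf.stalkSpecializes (specializes_refl (genericPoint X))).hom t) ≤ 1 :=
    (h t).1
  rw [TopCat.Presheaf.stalkSpecializes_refl] at h1
  change P.1 t ≤ 1 at h1
  rw [ht] at h1
  exact absurd h1 (by rw [← WithZero.exp_zero, WithZero.exp_le_exp]; norm_num)

variable (K X)

theorem isClosed_of_ne_generic [LocallyOfFiniteType (X ↘ Spec (CommRingCat.of K))]
    (hdim : topologicalKrullDim X = 1) (x : X) (hx : x ≠ genericPoint X) :
    IsClosed ({x} : Set X) := by
  have h1 : trdegNat K X (genericPoint X) = 1 :=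
    trdegNat_eq_of_trdeg_eq K X (genericPoint X) 1 (by simpa using (dim_facts K X hdim).1)
  have h2 : trdegNat K X x < trdegNat K X (genericPoint X) :=
    trdegNat_lt_of_specializes K X (genericPoint X) x
      ((genericPoint_spec X).specializes trivial) (Ne.symm hx)
  have h3 : trdegNat K X x = 0 := by omega
  rw [← closure_subset_iff_isClosed]
  intro y hy
  have hsp : x ⤳ y := specializes_iff_mem_closure.mpr hy
  by_contra hne
  have h4 := trdegNat_lt_of_specializes K X x y hsp (fun e => hne (e ▸ rfl))
  omega

end Closed

end Part7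

section Part8

open CategoryTheory AlgebraicGeometry TopologicalSpace
open FunFld Groth.Agent.Lib.LeadFG Groth.Agent.Lib.Helper4.VarDim

attribute [local instance] sectionsAlgebra Curv2.stalkAlgebra Curv2.resAlgebra

section Main

variable (K : Type u) [Field K] (X : Scheme.{u}) [X.Over (Spec (CommRingCat.of K))] [IsIntegral X]

/-- sum of `deg P · ord_P f` over all places is zero. -/
theorem finsum_deg_mul_ord (hK : IsFF K X.functionField) (f : X.functionField) :
    ∑ᶠ P : Place K X.functionField, (P.deg : ℤ) * P.ord f = 0 := by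
  have h := deg_div hK f
  unfold Divisor.deg at h
  rw [Finsupp.sum] at h
  rw [← h]
  rw [finsum_eq_sum_of_support_subset (s := (FunFld.div K f).support)]
  · refine Finset.sum_congr rfl (fun P _ => ?_)
    rw [div_apply hK f P, mul_comm]
  · intro P hP
    rw [Function.mem_support] at hP
    rw [Finset.mem_coe, Finsupp.mem_support_iff, div_apply hK f P]
    intro h0
    apply hP
    rw [h0, mul_zero]

/-- **Degree of a principal divisor on a proper integral curve is zero.** -/
theorem main [IsProper (X ↘ Spec (CommRingCat.of K))] (hdim : topologicalKrullDim X = 1)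
    {f : X.functionField} (hf : f ≠ 0) :
    ∑ᶠ x ∈ {x : X | IsClosed ({x} : Set X)}, (Module.finrank K (X.residueField x) : ℤ) *
      CycAlg.ordFrac (X.presheaf.stalk x) X.functionField f = 0 := by
  classical
  have hK : IsFF K X.functionField := isFF_functionField K X hdim
  set g : Place K X.functionField → ℤ := fun P => (P.deg : ℤ) * P.ord f with hg
  have hfin : ((Set.univ : Set (Place K X.functionField)) ∩ Function.support g).Finite := by
    refine (support_ord_finite hK f).subset ?_
    intro P hP
    rw [Set.mem_inter_iff, Function.mem_support] at hP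
    rw [Function.mem_support]
    intro h0
    apply hP.2
    rw [hg]
    show (P.deg : ℤ) * P.ord f = 0
    rw [h0, mul_zero]
  choose center hcenter using fun P : Place K X.functionField => exists_dom (K := K) (X := X) P
  have hclosed : ∀ P, center P ∈ {x : X | IsClosed ({x} : Set X)} := by
    intro P
    apply isClosed_of_ne_generic K X hdim
    intro e
    exact not_dom_generic P (e ▸ hcenter P)
  have hfib : ∀ x : X, (Set.univ : Set (Place K X.functionField)) ∩ center ⁻¹' {x} =
      {P | Dom K X x P} := by
    intro x
    ext P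
    simp only [Set.mem_inter_iff, Set.mem_univ, true_and, Set.mem_preimage,
      Set.mem_singleton_iff, Set.mem_setOf_eq]
    constructor
    · intro h
      exact h ▸ hcenter P
    · intro h
      exact dom_unique (hcenter P) h
  have h1 := Groth.Agent.Lib.R2H1.PullPush.finsum_mem_fiberwise
    (Set.univ : Set (Place K X.functionField)) {x : X | IsClosed ({x} : Set X)} center g
    (fun P _ => hclosed P) hfin
  rw [finsum_mem_univ, finsum_deg_mul_ord K X hK f] at h1
  rw [h1]
  refine finsum_mem_congr rfl (fun x hx => ?_)
  rw [hfib x]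
  exact local_formula K X hdim x hx hf

end Main

end Part8

section Part9

open CategoryTheory AlgebraicGeometry TopologicalSpace
open FunFld Groth.Agent.Lib.LeadFG Groth.Agent.Lib.Helper4.VarDim

attribute [local instance] sectionsAlgebra Curv2.stalkAlgebra Curv2.resAlgebra

section Deg

variable (K : Type u) [Field K] (X : Scheme.{u}) [X.Over (Spec (CommRingCat.of K))]

theorem ψ_eq (x : X) :
    Groth.Agent.Lib.H6xZetaPts.ψ (X ↘ Spec (CommRingCat.of K)) x =
      CommRingCat.ofHom (Curv2.resMap K X x) := by
  apply Spec.map_injective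
  rw [Groth.Agent.Lib.H6xZetaPts.SpecMap_ψ]
  exact (SpecMap_resMap K X x).symm

theorem residueDegree_eq_finrank (x : X) :
    (X ↘ Spec (CommRingCat.of K)).residueDegree x = Module.finrank K (X.residueField x) := by
  have h1 := Groth.Agent.Lib.H6xZetaPts.residueDegree_eq (X ↘ Spec (CommRingCat.of K)) x
  have h2 : Groth.Agent.Lib.H6xZetaPts.algK (X ↘ Spec (CommRingCat.of K)) x =
      Curv2.resAlgebra K X x := by
    unfold Groth.Agent.Lib.H6xZetaPts.algK Curv2.resAlgebra
    rw [ψ_eq]
    rfl
  rw [h2] at h1
  exact h1

end Deg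

end Part9

end Groth.Agent.Lib.R2H1.CurveDeg
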