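/-
Generic fibre of a dominant morphism of integral schemes, and vanishing of the proper pushforward of a principal divisor when the dimension drops (S16921).
flat_fromSpecStalk, flat_fromSpecResidueField (local ring a field), flat_fiberι, stalkMap_fiberι_bijective, z₀, closure_z₀, irreducibleSpace_fiber, isReduced_fiber, isIntegral_fiber, genericPoint_fiber, fiberι_genericPoint, eK (function fields), eStalk, eK_algebraMap, ordFrac_fiber, finrank_eq_of_SpecMap_comp_eq, finrank_fiber (residueDegree computed in the fibre), map_fiberι, delta_fiberι, trdegNat_generic, topologicalKrullDim_fiber, isClosed_iff_delta, sum_fiber_eq_zero, main.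
-/
import Mathlib
import Groth.Agent.Lib.R2H1CurveDeg
import Groth.Agent.Lib.R2H1RatEquivOpen
import Groth.Prelude.Def_Cyc

set_option autoImplicit false
set_option linter.style.haveILetI false
set_option linter.unusedSectionVars false
universe u v

namespace Groth.Agent.Lib.R2H1.GenFibre

section Part1

open CategoryTheory AlgebraicGeometry TopologicalSpace Limits

section Flat

theorem flat_fromSpecStalk (X : Scheme.{u}) (x : X) : Flat (X.fromSpecStalk x) := by
  obtain ⟨_, ⟨U, hU, rfl⟩, hxU, -⟩ :=
    X.isBasis_affineOpens.exists_subset_of_mem_open (Set.mem_univ x) isOpen_univ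
  rw [← hU.fromSpecStalk_eq_fromSpecStalk hxU]
  unfold IsAffineOpen.fromSpecStalk
  have : Flat (Spec.map (X.presheaf.germ U x hxU)) := by
    rw [Flat.SpecMap_iff]
    let _ := TopCat.Presheaf.algebra_section_stalk X.presheaf (⟨x, hxU⟩ : U)
    have := hU.isLocalization_stalk ⟨x, hxU⟩
    exact IsLocalization.flat (X.presheaf.stalk x) (hU.primeIdealOf ⟨x, hxU⟩).asIdeal.primeCompl
  infer_instance

/-- at a point whose local ring is a field, the inclusion of the residue field is flat. -/
theorem flat_fromSpecResidueField (Y : Scheme.{u}) (y : Y) (hy : IsField (Y.presheaf.stalk y)) :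
    Flat (Y.fromSpecResidueField y) := by
  haveI := flat_fromSpecStalk Y y
  unfold Scheme.fromSpecResidueField
  haveI : Flat (Spec.map (Y.residue y)) := by
    rw [Flat.SpecMap_iff]
    letI := hy.toField
    have hbij : Function.Bijective (Y.residue y).hom :=
      ⟨(Y.residue y).hom.injective, IsLocalRing.residue_surjective⟩
    exact RingHom.Flat.of_bijective hbij
  infer_instance

variable {X Y : Scheme.{u}} (p : X ⟶ Y) (y : Y)

theorem flat_fiberι (hy : IsField (Y.presheaf.stalk y)) : Flat (p.fiberι y) := by
  haveI := flat_fromSpecResidueField Y y hy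
  exact inferInstanceAs (Flat (pullback.fst p (Y.fromSpecResidueField y)))

/-- the local rings of the fibre over a point whose local ring is a field are those of the
ambient scheme. -/
theorem stalkMap_fiberι_bijective (hy : IsField (Y.presheaf.stalk y)) (z : p.fiber y) :
    Function.Bijective ((p.fiberι y).stalkMap z).hom := by
  haveI := flat_fiberι p y hy
  refine ⟨?_, (p.fiberι y).stalkMap_surjective z⟩
  have hflat : ((p.fiberι y).stalkMap z).hom.Flat := Flat.stalkMap (p.fiberι y) z
  letI := ((p.fiberι y).stalkMap z).hom.toAlgebra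
  haveI : Module.Flat (X.presheaf.stalk (p.fiberι y z)) ((p.fiber y).presheaf.stalk z) := hflat
  haveI : IsLocalHom (algebraMap (X.presheaf.stalk (p.fiberι y z))
      ((p.fiber y).presheaf.stalk z)) :=
    inferInstanceAs (IsLocalHom ((p.fiberι y).stalkMap z).hom)
  haveI : Module.FaithfullyFlat (X.presheaf.stalk (p.fiberι y z))
      ((p.fiber y).presheaf.stalk z) := Module.FaithfullyFlat.of_flat_of_isLocalHom
  exact FaithfulSMul.algebraMap_injective _ _

end Flat

end Part1

section Part2

open CategoryTheory AlgebraicGeometry TopologicalSpace Limits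

section Integral

variable {X Y : Scheme.{u}} [IsIntegral X] [IsIntegral Y] (p : X ⟶ Y)
  (hdom : p (genericPoint X) = genericPoint Y)

theorem isField_stalk_generic (Y : Scheme.{u}) [IsIntegral Y] :
    IsField (Y.presheaf.stalk (genericPoint Y)) :=
  Field.toIsField Y.functionField

/-- the point of the generic fibre over the generic point of `X`. -/
noncomputable def z₀ : p.fiber (genericPoint Y) :=
  (p.fiberHomeo (genericPoint Y)).symm ⟨genericPoint X, hdom⟩

theorem fiberι_z₀ : p.fiberι (genericPoint Y) (z₀ p hdom) = genericPoint X :=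
  p.fiberι_fiberHomeo_symm _ _

theorem closure_z₀ : closure ({z₀ p hdom} : Set (p.fiber (genericPoint Y))) = Set.univ := by
  rw [(p.fiberι (genericPoint Y)).isEmbedding.isInducing.closure_eq_preimage_closure_image,
    Set.image_singleton, fiberι_z₀, (genericPoint_spec X).def]
  rfl

include hdom in
theorem irreducibleSpace_fiber : IrreducibleSpace (p.fiber (genericPoint Y)) := by
  rw [irreducibleSpace_def]
  have h : IsIrreducible (closure ({z₀ p hdom} : Set (p.fiber (genericPoint Y)))) :=
    isIrreducible_singleton.closure
  rwa [closure_z₀ p hdom] at h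

theorem isReduced_fiber : IsReduced (p.fiber (genericPoint Y)) := by
  haveI : ∀ z : p.fiber (genericPoint Y),
      _root_.IsReduced ((p.fiber (genericPoint Y)).presheaf.stalk z) := by
    intro z
    have hbij := stalkMap_fiberι_bijective p (genericPoint Y) (isField_stalk_generic Y) z
    let e : X.presheaf.stalk (p.fiberι (genericPoint Y) z) ≃+*
        (p.fiber (genericPoint Y)).presheaf.stalk z := RingEquiv.ofBijective _ hbij
    haveI : IsDomain ((p.fiber (genericPoint Y)).presheaf.stalk z) := e.isDomain_iff.mp inferInstance
    infer_instance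
  exact isReduced_of_isReduced_stalk _

include hdom in
theorem isIntegral_fiber : IsIntegral (p.fiber (genericPoint Y)) := by
  haveI := irreducibleSpace_fiber p hdom
  haveI := isReduced_fiber p
  exact isIntegral_of_irreducibleSpace_of_isReduced _

end Integral

end Part2

section Part3

open CategoryTheory AlgebraicGeometry TopologicalSpace Limits

open Groth.Agent.Lib.R2H1.NormPush

section Compare

variable {X Y : Scheme.{u}} [IsIntegral X] [IsIntegral Y] (p : X ⟶ Y)
  (hdom : p (genericPoint X) = genericPoint Y) [hC : IsIntegral (p.fiber (genericPoint Y))]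

theorem genericPoint_fiber : genericPoint (p.fiber (genericPoint Y)) = z₀ p hdom := by
  have h : IsGenericPoint (z₀ p hdom) (⊤ : Set (p.fiber (genericPoint Y))) := by
    rw [isGenericPoint_def, closure_z₀ p hdom]
    rfl
  exact (genericPoint_spec (p.fiber (genericPoint Y))).eq h

include hdom in
theorem fiberι_genericPoint :
    p.fiberι (genericPoint Y) (genericPoint (p.fiber (genericPoint Y))) = genericPoint X := by
  rw [genericPoint_fiber p hdom, fiberι_z₀]

/-- the function fields of `X` and of its generic fibre agree. -/
noncomputable def eK : X.functionField ≃+* (p.fiber (genericPoint Y)).functionField :=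
  RingEquiv.ofBijective (ffMap (p.fiberι (genericPoint Y)) (fiberι_genericPoint p hdom)) (by
    have h1 : Function.Bijective ((p.fiberι (genericPoint Y)).stalkMap
        (genericPoint (p.fiber (genericPoint Y)))).hom :=
      stalkMap_fiberι_bijective p (genericPoint Y) (isField_stalk_generic Y) _
    have h2 : Function.Bijective (X.presheaf.stalkSpecializes
        (specializes_of_eq (fiberι_genericPoint p hdom))).hom :=
      ConcreteCategory.bijective_of_isIso
        (X.presheaf.stalkCongr (.of_eq (fiberι_genericPoint p hdom).symm)).hom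
    exact h1.comp h2)

/-- the local rings of `X` and of its generic fibre agree. -/
noncomputable def eStalk (z : p.fiber (genericPoint Y)) :
    X.presheaf.stalk (p.fiberι (genericPoint Y) z) ≃+*
      (p.fiber (genericPoint Y)).presheaf.stalk z :=
  RingEquiv.ofBijective ((p.fiberι (genericPoint Y)).stalkMap z).hom
    (stalkMap_fiberι_bijective p (genericPoint Y) (isField_stalk_generic Y) z)

theorem eK_algebraMap (z : p.fiber (genericPoint Y))
    (r : X.presheaf.stalk (p.fiberι (genericPoint Y) z)) :
    eK p hdom (algebraMap (X.presheaf.stalk (p.fiberι (genericPoint Y) z)) X.functionField r) =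
      algebraMap ((p.fiber (genericPoint Y)).presheaf.stalk z)
        (p.fiber (genericPoint Y)).functionField (eStalk p z r) := by
  have hsp : genericPoint (p.fiber (genericPoint Y)) ⤳ z :=
    (genericPoint_spec (p.fiber (genericPoint Y))).specializes trivial
  have h1 := Scheme.Hom.stalkSpecializes_stalkMap_apply (p.fiberι (genericPoint Y)) _ _ hsp r
  show ((p.fiberι (genericPoint Y)).stalkMap _).hom
      ((X.presheaf.stalkSpecializes (specializes_of_eq (fiberι_genericPoint p hdom))).hom
        ((X.presheaf.stalkSpecializes ((genericPoint_spec X).specializes trivial)).hom r)) =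
    ((p.fiber (genericPoint Y)).presheaf.stalkSpecializes hsp).hom
      (((p.fiberι (genericPoint Y)).stalkMap z).hom r)
  rw [← h1]
  congr 1
  exact ConcreteCategory.congr_hom (TopCat.Presheaf.stalkSpecializes_comp X.presheaf _ _) r

/-- orders of vanishing on `X` at points of the generic fibre can be computed in the fibre. -/
theorem ordFrac_fiber (z : p.fiber (genericPoint Y)) (φ : X.functionField) :
    CycAlg.ordFrac (X.presheaf.stalk (p.fiberι (genericPoint Y) z)) X.functionField φ =
      CycAlg.ordFrac ((p.fiber (genericPoint Y)).presheaf.stalk z)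
        (p.fiber (genericPoint Y)).functionField (eK p hdom φ) :=
  Groth.Agent.Lib.R2H1.RatEquivOpen.ordFrac_congr (eStalk p z) (eK p hdom)
    (eK_algebraMap p hdom z) φ

end Compare

end Part3

section Part4

open CategoryTheory AlgebraicGeometry TopologicalSpace Limits
open Groth.Agent.Lib.Helper4.VarDim

section Finrank

/-- The degree of `L` over a residue field of `S` only depends on the corresponding morphism
`Spec L ⟶ S`. -/
theorem finrank_eq_of_SpecMap_comp_eq {S : Scheme.{u}} {L : Type u} [Field L] (s s' : S)
    (φ : S.residueField s ⟶ CommRingCat.of L) (φ' : S.residueField s' ⟶ CommRingCat.of L)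
    (h : Spec.map φ ≫ S.fromSpecResidueField s = Spec.map φ' ≫ S.fromSpecResidueField s') :
    @Module.finrank (S.residueField s) L _ _ φ.hom.toAlgebra.toModule =
      @Module.finrank (S.residueField s') L _ _ φ'.hom.toAlgebra.toModule := by
  have h2 : (⟨s, φ⟩ : Σ x, S.residueField x ⟶ CommRingCat.of L) = ⟨s', φ'⟩ :=
    (Scheme.SpecToEquivOfField L S).symm.injective h
  obtain ⟨rfl, h3⟩ := Sigma.mk.inj_iff.mp h2
  obtain rfl := eq_of_heq h3
  rfl

theorem finrank_eq_of_bijective {K L L' : Type u} [Field K] [Field L] [Field L'] (a : K →+* L)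
    (b : L →+* L') (hb : Function.Bijective b) :
    @Module.finrank K L _ _ a.toAlgebra.toModule =
      @Module.finrank K L' _ _ (b.comp a).toAlgebra.toModule := by
  letI := a.toAlgebra
  letI := (b.comp a).toAlgebra
  let e : L ≃ₐ[K] L' := { RingEquiv.ofBijective b hb with commutes' := fun c => rfl }
  exact e.toLinearEquiv.finrank_eq

attribute [local instance] Curv2.resAlgebra

/-- The degree of `κ(x)` over `κ(f x)` computed in the fibre. -/
theorem finrank_fiber {X S : Scheme.{u}} (f : X ⟶ S) (s : S) (z : f.fiber s) :
    letI : (f.fiber s).Over (Spec (CommRingCat.of (S.residueField s))) :=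
      ⟨f.fiberToSpecResidueField s⟩
    f.residueDegree (f.fiberι s z) =
      Module.finrank (S.residueField s) ((f.fiber s).residueField z) := by
  letI : (f.fiber s).Over (Spec (CommRingCat.of (S.residueField s))) :=
    ⟨f.fiberToSpecResidueField s⟩
  unfold Scheme.Hom.residueDegree
  rw [finrank_eq_of_bijective (f.residueFieldMap (f.fiberι s z)).hom
    ((f.fiberι s).residueFieldMap z).hom (residueFieldMap_bijective_of_isPreimmersion _ z)]
  have h1 : ((f.fiberι s).residueFieldMap z).hom.comp (f.residueFieldMap (f.fiberι s z)).hom =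
      ((f.fiberι s ≫ f).residueFieldMap z).hom := by
    rw [Scheme.residueFieldMap_comp]
    rfl
  rw [h1]
  have h2 := SpecMap_resMap (S.residueField s) (f.fiber s) z
  have h3 : Spec.map ((f.fiberι s ≫ f).residueFieldMap z) ≫
      S.fromSpecResidueField ((f.fiberι s ≫ f) z) =
      Spec.map (CommRingCat.ofHom (Curv2.resMap (S.residueField s) (f.fiber s) z)) ≫
        S.fromSpecResidueField s := by
    rw [Scheme.Hom.SpecMap_residueFieldMap_fromSpecResidueField, f.fiber_fac s]
    erw [h2]
    rw [Category.assoc]
    rfl
  exact finrank_eq_of_SpecMap_comp_eq (L := (f.fiber s).residueField z) _ _ _ _ h3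

end Finrank

end Part4

section Part5

open CategoryTheory AlgebraicGeometry TopologicalSpace Limits
open Groth.Agent.Lib.Helper4.VarDim

attribute [local instance] Curv2.resAlgebra sectionsAlgebra

section Dim

variable {X Y : Scheme.{u}} (p : X ⟶ Y) (y : Y)

theorem map_fiberι (z : p.fiber y) : p (p.fiberι y z) = y := by
  have : p.fiberι y z ∈ Set.range (p.fiberι y) := ⟨z, rfl⟩
  rw [p.range_fiberι y] at this
  exact this

variable [LocallyOfFiniteType p] (δX : X → ℤ) (δY : Y → ℤ) (hδ : Cyc.DeltaCompat p δX δY)

include hδ in
theorem delta_fiberι (z : p.fiber y) :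
    letI : (p.fiber y).Over (Spec (CommRingCat.of (Y.residueField y))) :=
      ⟨p.fiberToSpecResidueField y⟩
    δX (p.fiberι y z) = δY y + (trdegNat (Y.residueField y) (p.fiber y) z : ℤ) := by
  letI : (p.fiber y).Over (Spec (CommRingCat.of (Y.residueField y))) :=
    ⟨p.fiberToSpecResidueField y⟩
  obtain ⟨n, hn, hn'⟩ := hδ (p.fiberι y z)
  have h1 := trdeg_residueFieldMap_eq_trdegNat_fiber p y z (p.fiberι y z) rfl
  rw [hn] at h1
  have h2 : n = trdegNat (Y.residueField y) (p.fiber y) z := by exact_mod_cast h1
  rw [hn', map_fiberι, h2]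

end Dim

section Generic

variable {X Y : Scheme.{u}} [IsIntegral X] [IsIntegral Y] (p : X ⟶ Y)
  (hdom : p (genericPoint X) = genericPoint Y) [hC : IsIntegral (p.fiber (genericPoint Y))]
  [LocallyOfFiniteType p] (δX : X → ℤ) (δY : Y → ℤ) (hδ : Cyc.DeltaCompat p δX δY)
  (h1 : δX (genericPoint X) = δY (genericPoint Y) + 1)

include hdom hδ h1 in
theorem trdegNat_generic :
    letI : (p.fiber (genericPoint Y)).Over
        (Spec (CommRingCat.of (Y.residueField (genericPoint Y)))) :=
      ⟨p.fiberToSpecResidueField (genericPoint Y)⟩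
    trdegNat (Y.residueField (genericPoint Y)) (p.fiber (genericPoint Y))
      (genericPoint (p.fiber (genericPoint Y))) = 1 := by
  letI : (p.fiber (genericPoint Y)).Over
      (Spec (CommRingCat.of (Y.residueField (genericPoint Y)))) :=
    ⟨p.fiberToSpecResidueField (genericPoint Y)⟩
  have h2 := delta_fiberι p (genericPoint Y) δX δY hδ (genericPoint (p.fiber (genericPoint Y)))
  rw [fiberι_genericPoint p hdom, h1] at h2
  omega

include hdom hδ h1 in
theorem topologicalKrullDim_fiber :
    topologicalKrullDim (p.fiber (genericPoint Y)) = 1 := by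
  letI : (p.fiber (genericPoint Y)).Over
      (Spec (CommRingCat.of (Y.residueField (genericPoint Y)))) :=
    ⟨p.fiberToSpecResidueField (genericPoint Y)⟩
  haveI : LocallyOfFiniteType ((p.fiber (genericPoint Y)) ↘
      Spec (CommRingCat.of (Y.residueField (genericPoint Y)))) :=
    locallyOfFiniteType_fiberToSpecResidueField p (genericPoint Y)
  have h2 := trdeg_eq_trdegNat (Y.residueField (genericPoint Y)) (p.fiber (genericPoint Y))
    (genericPoint (p.fiber (genericPoint Y)))
  rw [trdegNat_generic p hdom δX δY hδ h1] at h2
  exact topologicalKrullDim_eq_of_irreducible (Y.residueField (genericPoint Y))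
    (p.fiber (genericPoint Y)) 1 h2

include hdom hδ h1 in
/-- closed points of the generic fibre are the points of `δ`-dimension `δY η`. -/
theorem isClosed_iff_delta (z : p.fiber (genericPoint Y)) :
    IsClosed ({z} : Set (p.fiber (genericPoint Y))) ↔
      δX (p.fiberι (genericPoint Y) z) = δY (genericPoint Y) := by
  letI : (p.fiber (genericPoint Y)).Over
      (Spec (CommRingCat.of (Y.residueField (genericPoint Y)))) :=
    ⟨p.fiberToSpecResidueField (genericPoint Y)⟩
  haveI : LocallyOfFiniteType ((p.fiber (genericPoint Y)) ↘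
      Spec (CommRingCat.of (Y.residueField (genericPoint Y)))) :=
    locallyOfFiniteType_fiberToSpecResidueField p (genericPoint Y)
  have h2 := delta_fiberι p (genericPoint Y) δX δY hδ z
  constructor
  · intro hz
    have h3 := trdeg_eq_zero_of_isClosed (Y.residueField (genericPoint Y))
      (p.fiber (genericPoint Y)) z hz
    have h4 : trdegNat (Y.residueField (genericPoint Y)) (p.fiber (genericPoint Y)) z = 0 :=
      trdegNat_eq_of_trdeg_eq _ _ z 0 (by simpa using h3)
    rw [h2, h4]
    simp
  · intro hz
    have h4 : trdegNat (Y.residueField (genericPoint Y)) (p.fiber (genericPoint Y)) z = 0 := by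
      rw [hz] at h2
      omega
    apply Groth.Agent.Lib.R2H1.CurveDeg.isClosed_of_ne_generic (Y.residueField (genericPoint Y))
      (p.fiber (genericPoint Y)) (topologicalKrullDim_fiber p hdom δX δY hδ h1) z
    intro e
    have h5 := trdegNat_generic p hdom δX δY hδ h1
    rw [← e, h4] at h5
    exact absurd h5 (by norm_num)

end Generic

end Part5

section Part6

open CategoryTheory AlgebraicGeometry TopologicalSpace Limits
open Groth.Agent.Lib.Helper4.VarDim

attribute [local instance] Curv2.resAlgebra sectionsAlgebra

section Vanish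

variable {X Y : Scheme.{u}} [IsIntegral X] [IsIntegral Y] (p : X ⟶ Y) [IsProper p]
  (hdom : p (genericPoint X) = genericPoint Y)
  (δX : X → ℤ) (δY : Y → ℤ) (hδ : Cyc.DeltaCompat p δX δY)
  (h1 : δX (genericPoint X) = δY (genericPoint Y) + 1)

include hdom hδ h1 in
/-- **Degree zero on the generic fibre.** For a proper dominant morphism of integral schemes of
relative dimension one, the weighted sum of the orders of a rational function over the
closed points of the generic fibre vanishes. -/
theorem sum_fiber_eq_zero {φ : X.functionField} (hφ : φ ≠ 0) :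
    ∑ᶠ x ∈ {x : X | p x = genericPoint Y ∧ δX x = δY (genericPoint Y)},
      (p.residueDegree x : ℤ) * CycAlg.ordFrac (X.presheaf.stalk x) X.functionField φ = 0 := by
  haveI hC : IsIntegral (p.fiber (genericPoint Y)) := isIntegral_fiber p hdom
  letI : (p.fiber (genericPoint Y)).Over
      (Spec (CommRingCat.of (Y.residueField (genericPoint Y)))) :=
    ⟨p.fiberToSpecResidueField (genericPoint Y)⟩
  haveI : IsProper ((p.fiber (genericPoint Y)) ↘
      Spec (CommRingCat.of (Y.residueField (genericPoint Y)))) :=
    inferInstanceAs (IsProper (pullback.snd p (Y.fromSpecResidueField (genericPoint Y))))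
  have hdimC := topologicalKrullDim_fiber p hdom δX δY hδ h1
  have hφ' : eK p hdom φ ≠ 0 := by
    rw [Ne, map_eq_zero_iff _ (eK p hdom).injective]
    exact hφ
  have key := Groth.Agent.Lib.R2H1.CurveDeg.main (Y.residueField (genericPoint Y))
    (p.fiber (genericPoint Y)) hdimC hφ'
  rw [← key]
  symm
  refine finsum_mem_eq_of_bijOn (p.fiberι (genericPoint Y)) ⟨?_, ?_, ?_⟩ (fun z _ => ?_)
  · intro z hz
    exact ⟨map_fiberι p _ z, (isClosed_iff_delta p hdom δX δY hδ h1 z).mp hz⟩
  · exact (p.fiberι (genericPoint Y)).isEmbedding.injective.injOn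
  · rintro x ⟨hx1, hx2⟩
    have hx : x ∈ Set.range (p.fiberι (genericPoint Y)) := by
      rw [p.range_fiberι]; exact hx1
    obtain ⟨z, rfl⟩ := hx
    exact ⟨z, (isClosed_iff_delta p hdom δX δY hδ h1 z).mpr hx2, rfl⟩
  · rw [finrank_fiber p (genericPoint Y) z, ordFrac_fiber p hdom z φ]

end Vanish

end Part6

section Part7

open CategoryTheory AlgebraicGeometry TopologicalSpace Limits CycAlg
open Groth.Agent.Lib.R2H1.NormPush Groth.Agent.Lib.R2H1.PullPush Groth.Agent.Lib.R2H1.FlatDiv

section Main

variable {X Y : Scheme.{u}} [IsIntegral X] [IsIntegral Y]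

/-- **Proper pushforward of a principal divisor vanishes when the dimension drops (S16921).** -/
theorem main (δX : X → ℤ) (δY : Y → ℤ) (hY : Cyc.IsDimFun Y δY)
    (p : X ⟶ Y) [IsProper p] (hδ : Cyc.DeltaCompat p δX δY)
    (hdom : p (genericPoint X) = genericPoint Y)
    (hn : δX (genericPoint X) ≠ δY (genericPoint Y))
    (f : X.residueField (genericPoint X)) (hf : f ≠ 0) (α : AlgebraicCycle X ℤ)
    (hα : ⇑α = Cyc.divFun δX (genericPoint X) f) (y : Y) :
    AlgebraicCycle.map p δX δY α y = 0 := by
  classical
  rw [map_apply']
  obtain ⟨t, -, ht⟩ := hδ (genericPoint X)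
  rw [hdom] at ht
  have ht0 : t ≠ 0 := by
    rintro rfl
    exact hn (by simpa using ht)
  -- general vanishing of terms
  have hterm : ∀ x : X, p x = y → δX x = δY (p x) → δX x + 1 = δX (genericPoint X) →
      y = genericPoint Y ∧ t = 1 := by
    intro x hxy hδx hdx
    rw [hxy] at hδx
    by_cases hy : y = genericPoint Y
    · refine ⟨hy, ?_⟩
      rw [hδx, hy, ht] at hdx
      omega
    · exfalso
      have h1 := (hY (genericPoint Y) y (generic_specializes y) (Ne.symm hy)).1
      rw [hδx, ht] at hdx
      omega
  by_cases hcase : y = genericPoint Y ∧ t = 1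
  · obtain ⟨rfl, rfl⟩ := hcase
    have h1 : δX (genericPoint X) = δY (genericPoint Y) + 1 := by simpa using ht
    set φ : X.functionField := (eX X).symm f with hφ
    have hφ0 : φ ≠ 0 := by
      intro h0
      apply hf
      have : f = eX X φ := by rw [hφ, RingEquiv.apply_symm_apply]
      rw [this, h0, map_zero]
    have hfφ : f = eX X φ := by rw [hφ, RingEquiv.apply_symm_apply]
    rw [← sum_fiber_eq_zero p hdom δX δY hδ h1 hφ0]
    set F : X → ℤ := fun x => α x * (AlgebraicCycle.mapCoeff p δX δY x : ℤ) with hF
    have hsupp : ∀ x, p x = genericPoint Y → F x ≠ 0 → δX x = δY (genericPoint Y) := by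
      intro x hx hFx
      by_contra hne
      apply hFx
      rw [hF]
      show α x * (AlgebraicCycle.mapCoeff p δX δY x : ℤ) = 0
      unfold AlgebraicCycle.mapCoeff
      rw [if_neg (by rw [hx]; exact hne)]
      simp
    have hset : p ⁻¹' {genericPoint Y} ∩ Function.support F =
        {x : X | p x = genericPoint Y ∧ δX x = δY (genericPoint Y)} ∩ Function.support F := by
      ext x
      simp only [Set.mem_inter_iff, Set.mem_preimage, Set.mem_singleton_iff,
        Function.mem_support, Set.mem_setOf_eq]
      constructor
      · rintro ⟨hx, hFx⟩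
        exact ⟨⟨hx, hsupp x hx hFx⟩, hFx⟩
      · rintro ⟨⟨hx, -⟩, hFx⟩
        exact ⟨hx, hFx⟩
    rw [finsum_mem_inter_support_eq F _ _ hset]
    refine finsum_mem_congr rfl (fun x hx => ?_)
    obtain ⟨hx1, hx2⟩ := hx
    have hδx : δX x = δY (p x) := by rw [hx1]; exact hx2
    have hcoef : (AlgebraicCycle.mapCoeff p δX δY x : ℤ) = (p.residueDegree x : ℤ) := by
      unfold AlgebraicCycle.mapCoeff
      rw [if_pos hδx]
    have hspecX : genericPoint X ⤳ x := generic_specializes x
    have hdx : δX x + 1 = δX (genericPoint X) := by rw [hx2, h1]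
    rw [hF]
    show α x * (AlgebraicCycle.mapCoeff p δX δY x : ℤ) = _
    rw [hcoef, hα]
    unfold Cyc.divFun
    rw [dif_pos ⟨hspecX, hdx⟩, hfφ, eX_apply, ordAt_generic_eq x hspecX φ, mul_comm]
  · refine finsum_mem_eq_zero_of_forall_eq_zero (fun x hx => ?_)
    have hxy : p x = y := hx
    by_cases hδx : δX x = δY (p x)
    · have hdx : ¬ (δX x + 1 = δX (genericPoint X)) := fun h => hcase (hterm x hxy hδx h)
      rw [hα]
      unfold Cyc.divFun
      rw [dif_neg (fun h => hdx h.2), zero_mul]
    · unfold AlgebraicCycle.mapCoeff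
      rw [if_neg hδx]
      simp

end Main

end Part7

end Groth.Agent.Lib.R2H1.GenFibre
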