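/-
R2H1PerfCyc (helper1, round 2): cycles on the base change X_{k'} of a finite type k-scheme along a purely inseparable extension k'/k (e.g. the perfect closure): the projection X_{k'} -> X is bijective, preserves the dimension function, and the fibre multiplicities length(O_{X',x'}/m_x O_{X',x'}) are powers of p; hence every r-cycle on X_{k'} is, up to a power of p, the flat pullback of an r-cycle on X (S1919).  Contains: resMap (k -> kappa(x)), exists_fiber_iso (fibre of X_{k'} -> X over x is Spec(kappa(x) ⊗_k k')), exists_stalk_equiv_of_iso, exists_quot_equiv, length_loc_purelyInsep_baseChange, essFiniteType_resMap, mult_eq_pow, universallyInjective_specMap, surjective_specMap, resTrdeg (+_congr/_comp/_eq_zero_of_universallyInjective), deltaCompat_iff, delta_eq, main_aux, main.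
-/
import Mathlib
import Groth.Prelude.Def_Cyc
import Groth.Agent.Lib.R2H1PowLen
import Groth.Agent.Lib.Helper5FiberStalk

set_option autoImplicit false
set_option linter.style.haveILetI false
set_option linter.unusedSectionVars false
universe u v

namespace Groth.Agent.Lib.R2H1.PerfCyc

section Part1

section Part1

open AlgebraicGeometry CategoryTheory Limits IsLocalRing
open scoped TensorProduct

variable {k k' : Type u} [Field k] [Field k'] (φ : k →+* k') {X : Scheme.{u}}
  (f : X ⟶ Spec (CommRingCat.of k))

/-- The ring map `k → κ(x)` for a point `x` of a `k`-scheme. -/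
noncomputable def resMap (x : X) : CommRingCat.of k ⟶ X.residueField x :=
  Spec.preimage (X.fromSpecResidueField x ≫ f)

theorem specMap_resMap (x : X) : Spec.map (resMap f x) = X.fromSpecResidueField x ≫ f :=
  Spec.map_preimage _

/-- The fibre of the projection `X_{k'} → X` over `x` is `Spec (κ(x) ⊗[k] k')`. -/
theorem exists_fiber_iso (x : X) :
    letI := (resMap f x).hom.toAlgebra
    letI := φ.toAlgebra
    Nonempty ((pullback.fst f (Spec.map (CommRingCat.ofHom φ))).fiber x ≅
      Spec (CommRingCat.of (X.residueField x ⊗[k] k'))) := by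
  letI := (resMap f x).hom.toAlgebra
  letI := φ.toAlgebra
  let g := Spec.map (CommRingCat.ofHom φ)
  let ε₁ : pullback (pullback.fst f g) (X.fromSpecResidueField x) ≅
      pullback (X.fromSpecResidueField x) (pullback.fst f g) := pullbackSymmetry _ _
  let ε₂ : pullback (X.fromSpecResidueField x) (pullback.fst f g) ≅
      pullback (X.fromSpecResidueField x ≫ f) g :=
    pullbackRightPullbackFstIso f g (X.fromSpecResidueField x)
  let ε₃ : pullback (X.fromSpecResidueField x ≫ f) g ≅
      pullback (Spec.map (CommRingCat.ofHom (algebraMap k (X.residueField x))))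
        (Spec.map (CommRingCat.ofHom (algebraMap k k'))) :=
    pullback.congrHom (specMap_resMap f x).symm rfl
  exact ⟨ε₁ ≪≫ ε₂ ≪≫ ε₃ ≪≫ pullbackSpecIso k (X.residueField x) k'⟩

/-- Stalks of a scheme isomorphic to `Spec C` are localizations of `C` at primes. -/
theorem exists_stalk_equiv_of_iso {Z : Scheme.{u}} {C : Type u} [CommRing C]
    (ε : Z ≅ Spec (CommRingCat.of C)) (z : Z) :
    ∃ (P : Ideal C) (_ : P.IsPrime), Nonempty (Z.presheaf.stalk z ≃+* Localization.AtPrime P) := by
  refine ⟨(ε.hom z).asIdeal, (ε.hom z).2, ⟨?_⟩⟩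
  let e1 : (Spec (CommRingCat.of C)).presheaf.stalk (ε.hom z) ≃+* Z.presheaf.stalk z :=
    (asIso (ε.hom.stalkMap z)).commRingCatIsoToRingEquiv
  let e2 : (Spec (CommRingCat.of C)).presheaf.stalk (ε.hom z) ≃+*
      Localization.AtPrime (ε.hom z).asIdeal :=
    (Spec.stalkIso (CommRingCat.of C) (ε.hom z)).commRingCatIsoToRingEquiv
  exact e1.symm.trans e2

/-- The local ring `O_{X',x'} / m_x O_{X',x'}` of the fibre of `X' = X_{k'} → X` is a localization
of `κ(x) ⊗[k] k'` at a prime. -/
theorem exists_quot_equiv (x' : ↥(pullback f (Spec.map (CommRingCat.ofHom φ)))) :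
    letI := (resMap f ((pullback.fst f (Spec.map (CommRingCat.ofHom φ))) x')).hom.toAlgebra
    letI := φ.toAlgebra
    ∃ (P : Ideal (X.residueField ((pullback.fst f (Spec.map (CommRingCat.ofHom φ))) x') ⊗[k] k'))
      (_ : P.IsPrime),
      Nonempty (((pullback f (Spec.map (CommRingCat.ofHom φ))).presheaf.stalk x' ⧸
        (maximalIdeal (X.presheaf.stalk ((pullback.fst f (Spec.map (CommRingCat.ofHom φ))) x'))).map
          ((pullback.fst f (Spec.map (CommRingCat.ofHom φ))).stalkMap x').hom) ≃+*
        Localization.AtPrime P) := by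
  letI := (resMap f ((pullback.fst f (Spec.map (CommRingCat.ofHom φ))) x')).hom.toAlgebra
  letI := φ.toAlgebra
  obtain ⟨ε⟩ := exists_fiber_iso φ f ((pullback.fst f (Spec.map (CommRingCat.ofHom φ))) x')
  obtain ⟨e0⟩ := Groth.Agent.Lib.Helper5.FiberStalk.nonempty_stalk_asFiber_equiv
    (pullback.fst f (Spec.map (CommRingCat.ofHom φ))) x'
  obtain ⟨P, hP, ⟨e1⟩⟩ := exists_stalk_equiv_of_iso ε
    ((pullback.fst f (Spec.map (CommRingCat.ofHom φ))).asFiber x')
  exact ⟨P, hP, ⟨e0.symm.trans e1⟩⟩

end Part1

end Part1

section Part2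

section Part2

open AlgebraicGeometry CategoryTheory Limits IsLocalRing Groth.Agent.Lib.R2H1.PowLen
open scoped TensorProduct

/-- Ring-level statement: localizations of `L ⊗[k] k'` (`L/k` finitely generated, `k'/k` purely
inseparable) at primes have `p`-power length. -/
theorem length_loc_purelyInsep_baseChange (p : ℕ) (k L k' : Type u) [Field k] [Field L] [Field k']
    [Algebra k L] [Algebra k k'] [ExpChar k p] [IsPurelyInseparable k k']
    (hL : (⊤ : IntermediateField k L).FG) (P : Ideal (L ⊗[k] k')) [hP : P.IsPrime] :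
    ∃ e : ℕ, Module.length (Localization.AtPrime P) (Localization.AtPrime P) = (p ^ e : ℕ) := by
  have hC := claim_of_fg p k L hL
  have hhom := PrimeSpectrum.isHomeomorph_comap_of_isPurelyInseparable k k' L
  haveI : Subsingleton (PrimeSpectrum (L ⊗[k] k')) := hhom.injective.subsingleton
  refine hC k' P ⟨⟨hP, bot_le⟩, ?_⟩
  rintro Q ⟨hQ, -⟩ -
  have : (⟨P, hP⟩ : PrimeSpectrum (L ⊗[k] k')) = ⟨Q, hQ⟩ := Subsingleton.elim _ _
  rw [PrimeSpectrum.ext_iff] at this
  exact this.le

variable {k : Type u} [Field k] {X : Scheme.{u}} (f : X ⟶ Spec (CommRingCat.of k))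

theorem resMap_eq (x : X) :
    resMap f x = StructureSheaf.toStalk (CommRingCat.of k) (f x) ≫
      (Spec (CommRingCat.of k)).residue (f x) ≫ f.residueFieldMap x := by
  apply Spec.map_injective
  rw [specMap_resMap, ← Scheme.Hom.SpecMap_residueFieldMap_fromSpecResidueField,
    Scheme.fromSpecResidueField, Spec.fromSpecStalk_eq', Spec.map_comp, Spec.map_comp,
    Category.assoc]
  rfl

theorem essFiniteType_resMap [LocallyOfFiniteType f] (x : X) :
    (resMap f x).hom.EssFiniteType := by
  rw [resMap_eq]
  have h1 : (StructureSheaf.toStalk (CommRingCat.of k) (f x)).hom.EssFiniteType :=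
    Algebra.EssFiniteType.of_isLocalization _ (f x).asIdeal.primeCompl
  have h2 : ((Spec (CommRingCat.of k)).residue (f x)).hom.EssFiniteType :=
    (RingHom.FiniteType.of_surjective _ IsLocalRing.residue_surjective).essFiniteType
  have h3 : (f.residueFieldMap x).hom.EssFiniteType :=
    RingHom.EssFiniteType.residueFieldMap (LocallyOfFiniteType.stalkMap f x)
  exact (h1.comp h2).comp h3

end Part2

end Part2

section Part3

section Part3

open AlgebraicGeometry CategoryTheory Limits IsLocalRing Groth.Agent.Lib.R2H1.PowLen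
open scoped TensorProduct

variable {k k' : Type u} [Field k] [Field k'] (φ : k →+* k') {X : Scheme.{u}}
  (f : X ⟶ Spec (CommRingCat.of k))

/-- The multiplicity of the fibre of `X_{k'} → X` at a point is a power of `p`. -/
theorem mult_eq_pow (p : ℕ) [ExpChar k p]
    (hφ : letI := φ.toAlgebra; IsPurelyInseparable k k') [LocallyOfFiniteType f]
    (x' : ↥(pullback f (Spec.map (CommRingCat.ofHom φ)))) :
    ∃ e : ℕ, Module.length ((pullback f (Spec.map (CommRingCat.ofHom φ))).presheaf.stalk x')
      ((pullback f (Spec.map (CommRingCat.ofHom φ))).presheaf.stalk x' ⧸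
        (maximalIdeal (X.presheaf.stalk ((pullback.fst f (Spec.map (CommRingCat.ofHom φ))) x'))).map
          ((pullback.fst f (Spec.map (CommRingCat.ofHom φ))).stalkMap x').hom) = (p ^ e : ℕ) := by
  letI := (resMap f ((pullback.fst f (Spec.map (CommRingCat.ofHom φ))) x')).hom.toAlgebra
  letI := φ.toAlgebra
  haveI : IsPurelyInseparable k k' := hφ
  obtain ⟨P, hP, ⟨e⟩⟩ := exists_quot_equiv φ f x'
  have hess : Algebra.EssFiniteType k
      (X.residueField ((pullback.fst f (Spec.map (CommRingCat.ofHom φ))) x')) :=
    essFiniteType_resMap f _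
  have hL : (⊤ : IntermediateField k
      (X.residueField ((pullback.fst f (Spec.map (CommRingCat.ofHom φ))) x'))).FG :=
    IntermediateField.fg_top_iff.mpr hess
  obtain ⟨n, hn⟩ := length_loc_purelyInsep_baseChange p k _ k' hL P
  refine ⟨n, ?_⟩
  rw [Module.length_eq_of_surjective (S := (pullback f (Spec.map (CommRingCat.ofHom φ))).presheaf.stalk x')
    (R := (pullback f (Spec.map (CommRingCat.ofHom φ))).presheaf.stalk x' ⧸
        (maximalIdeal (X.presheaf.stalk ((pullback.fst f (Spec.map (CommRingCat.ofHom φ))) x'))).map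
          ((pullback.fst f (Spec.map (CommRingCat.ofHom φ))).stalkMap x').hom)
    Ideal.Quotient.mk_surjective, length_self_ringEquiv e, hn]

end Part3

end Part3

section Part4

section Part4

open AlgebraicGeometry CategoryTheory Limits IsLocalRing Groth.Agent.Lib.R2H1.PowLen
open scoped TensorProduct

variable {k k' : Type u} [Field k] [Field k'] (φ : k →+* k') {X : Scheme.{u}}
  (f : X ⟶ Spec (CommRingCat.of k))

theorem universallyInjective_specMap
    (hφ : letI := φ.toAlgebra; IsPurelyInseparable k k') :
    UniversallyInjective (Spec.map (CommRingCat.ofHom φ)) := by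
  letI := φ.toAlgebra
  haveI : IsPurelyInseparable k k' := hφ
  apply ((tfae_universallyInjective (Spec.map (CommRingCat.ofHom φ))).out 0 1).mpr
  intro K _ h₁ h₂ h
  dsimp only at h
  rw [← Spec.map_preimage h₁, ← Spec.map_preimage h₂] at h ⊢
  rw [← Spec.map_comp, ← Spec.map_comp] at h
  have h' := Spec.map_injective h
  congr 1
  have h'' : (Spec.preimage h₁).hom.comp (algebraMap k k') =
      (Spec.preimage h₂).hom.comp (algebraMap k k') := by
    have := congrArg CommRingCat.Hom.hom h'
    simp only [CommRingCat.hom_comp, CommRingCat.hom_ofHom] at this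
    exact this
  ext a
  exact congrFun (congrArg DFunLike.coe
    (IsPurelyInseparable.injective_comp_algebraMap k k' K h'')) a

theorem surjective_specMap : Surjective (Spec.map (CommRingCat.ofHom φ)) := by
  constructor
  intro y
  refine ⟨⟨⊥, Ideal.isPrime_bot⟩, ?_⟩
  haveI : Subsingleton ↥(Spec (CommRingCat.of k)) :=
    inferInstanceAs (Subsingleton (PrimeSpectrum k))
  exact Subsingleton.elim _ _

end Part4

end Part4

section Part5

section Part5

open AlgebraicGeometry CategoryTheory Limits IsLocalRing Groth.Agent.Lib.R2H1.PowLen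
open scoped TensorProduct

/-- The transcendence degree of the residue field extension of `u` at `a`. -/
noncomputable def resTrdeg {A B : Scheme.{u}} (u : A ⟶ B) (a : A) : Cardinal.{u} :=
  letI := (u.residueFieldMap a).hom.toAlgebra
  Algebra.trdeg (B.residueField (u a)) (A.residueField a)

theorem resTrdeg_congr {A B : Scheme.{u}} {u₁ u₂ : A ⟶ B} (h : u₁ = u₂) (a : A) :
    resTrdeg u₁ a = resTrdeg u₂ a := by
  subst h; rfl

theorem resTrdeg_comp {A B C : Scheme.{u}} (u : A ⟶ B) (v : B ⟶ C) (a : A) :
    resTrdeg (u ≫ v) a = resTrdeg v (u a) + resTrdeg u a := by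
  letI a1 : Algebra (C.residueField (v (u a))) (B.residueField (u a)) :=
    (v.residueFieldMap (u a)).hom.toAlgebra
  letI a2 : Algebra (B.residueField (u a)) (A.residueField a) :=
    (u.residueFieldMap a).hom.toAlgebra
  letI a3 : Algebra (C.residueField (v (u a))) (A.residueField a) :=
    ((u ≫ v).residueFieldMap a).hom.toAlgebra
  haveI : IsScalarTower (C.residueField (v (u a))) (B.residueField (u a)) (A.residueField a) :=
    IsScalarTower.of_algebraMap_eq' (by
      change ((u ≫ v).residueFieldMap a).hom = _
      rw [Scheme.residueFieldMap_comp]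
      rfl)
  exact (trdeg_add_eq (C.residueField (v (u a))) (B.residueField (u a))
    (A := A.residueField a)).symm

theorem resTrdeg_eq_zero_of_universallyInjective {A B : Scheme.{u}} (u : A ⟶ B)
    [UniversallyInjective u] (a : A) : resTrdeg u a = 0 := by
  have h := ((tfae_universallyInjective u).out 0 2).mp (inferInstance : UniversallyInjective u)
  have h2 := h.2 a
  letI := (u.residueFieldMap a).hom.toAlgebra
  haveI : IsPurelyInseparable (B.residueField (u a)) (A.residueField a) := h2
  exact trdeg_eq_zero

end Part5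

end Part5

section Part6

section Part6

open AlgebraicGeometry CategoryTheory Limits IsLocalRing Groth.Agent.Lib.R2H1.PowLen
open scoped TensorProduct

theorem deltaCompat_iff {A B : Scheme.{u}} (u : A ⟶ B) (δA : A → ℤ) (δB : B → ℤ) :
    Cyc.DeltaCompat u δA δB ↔
      ∀ a : A, ∃ n : ℕ, resTrdeg u a = n ∧ δA a = δB (u a) + n := Iff.rfl

variable {k k' : Type u} [Field k] [Field k'] (φ : k →+* k') {X : Scheme.{u}}
  (f : X ⟶ Spec (CommRingCat.of k))

theorem delta_eq (hφ : letI := φ.toAlgebra; IsPurelyInseparable k k')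
    (δ : X → ℤ) (hδ : Cyc.DeltaCompat f δ (fun _ => 0))
    (δ' : ↥(pullback f (Spec.map (CommRingCat.ofHom φ))) → ℤ)
    (hδ' : Cyc.DeltaCompat (pullback.snd f (Spec.map (CommRingCat.ofHom φ))) δ' (fun _ => 0))
    (x' : ↥(pullback f (Spec.map (CommRingCat.ofHom φ)))) :
    δ' x' = δ ((pullback.fst f (Spec.map (CommRingCat.ofHom φ))) x') := by
  haveI : UniversallyInjective (Spec.map (CommRingCat.ofHom φ)) :=
    universallyInjective_specMap φ hφ
  haveI : UniversallyInjective (pullback.fst f (Spec.map (CommRingCat.ofHom φ))) :=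
    MorphismProperty.pullback_fst _ _ inferInstance
  obtain ⟨n, hn, h1⟩ := (deltaCompat_iff _ _ _).mp hδ
    ((pullback.fst f (Spec.map (CommRingCat.ofHom φ))) x')
  obtain ⟨n', hn', h1'⟩ := (deltaCompat_iff _ _ _).mp hδ' x'
  have e1 := resTrdeg_comp (pullback.fst f (Spec.map (CommRingCat.ofHom φ))) f x'
  have e2 := resTrdeg_comp (pullback.snd f (Spec.map (CommRingCat.ofHom φ)))
    (Spec.map (CommRingCat.ofHom φ)) x'
  rw [resTrdeg_eq_zero_of_universallyInjective
    (pullback.fst f (Spec.map (CommRingCat.ofHom φ))) x', hn, add_zero] at e1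
  rw [resTrdeg_eq_zero_of_universallyInjective (Spec.map (CommRingCat.ofHom φ)), hn',
    zero_add] at e2
  rw [resTrdeg_congr (pullback.condition (f := f) (g := Spec.map (CommRingCat.ofHom φ)))] at e1
  have h3 : (n : Cardinal.{u}) = n' := e1.symm.trans e2
  have h4 : n = n' := by exact_mod_cast h3
  rw [h1, h1', h4]

end Part6

end Part6

section Part7

section Part7

open AlgebraicGeometry CategoryTheory Limits IsLocalRing Groth.Agent.Lib.R2H1.PowLen
open scoped TensorProduct

variable {k k' : Type u} [Field k] [Field k'] (φ : k →+* k') {X : Scheme.{u}}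
  (f : X ⟶ Spec (CommRingCat.of k))

/-- General form: base change along a purely inseparable extension. -/
theorem main_aux (p : ℕ) [ExpChar k p] (hφ : letI := φ.toAlgebra; IsPurelyInseparable k k')
    [LocallyOfFiniteType f] [QuasiCompact f]
    (δ : X → ℤ) (hδ : Cyc.DeltaCompat f δ (fun _ => 0))
    (δ' : ↥(pullback f (Spec.map (CommRingCat.ofHom φ))) → ℤ)
    (hδ' : Cyc.DeltaCompat (pullback.snd f (Spec.map (CommRingCat.ofHom φ))) δ' (fun _ => 0))
    (r : ℤ) (β : AlgebraicCycle (pullback f (Spec.map (CommRingCat.ofHom φ))) ℤ)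
    (hβ : β ∈ Cyc.Zk _ δ' r) :
    ∃ (n : ℕ) (α : AlgebraicCycle X ℤ), α ∈ Cyc.Zk X δ r ∧
      (p : ℤ) ^ n • ⇑β = Cyc.pullFun (pullback.fst f (Spec.map (CommRingCat.ofHom φ))) δ' δ 0 ⇑α := by
  classical
  haveI : UniversallyInjective (Spec.map (CommRingCat.ofHom φ)) :=
    universallyInjective_specMap φ hφ
  haveI : Surjective (Spec.map (CommRingCat.ofHom φ)) := surjective_specMap φ
  haveI : UniversallyInjective (pullback.fst f (Spec.map (CommRingCat.ofHom φ))) :=
    MorphismProperty.pullback_fst _ _ inferInstance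
  haveI : Surjective (pullback.fst f (Spec.map (CommRingCat.ofHom φ))) :=
    MorphismProperty.pullback_fst _ _ inferInstance
  set π := pullback.fst f (Spec.map (CommRingCat.ofHom φ)) with hπ
  have hbij : Function.Bijective π := ⟨π.injective, π.surjective⟩
  have hdelta := delta_eq φ f hφ δ hδ δ' hδ'
  -- multiplicities
  have hmult := mult_eq_pow φ f p hφ
  choose e he using hmult
  -- finiteness of the support
  haveI : CompactSpace ↥(pullback f (Spec.map (CommRingCat.ofHom φ))) := inferInstance
  have hfin : (Function.support ⇑β).Finite := by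
    have := LocallyFiniteSupport.finite_inter_support_of_isCompact
      (Function.locallyFinsupp.locallyFiniteSupport β) isCompact_univ
    rwa [Set.univ_inter] at this
  set n := hfin.toFinset.sup e with hn
  let πinv := (Equiv.ofBijective π hbij).symm
  have hπinv : ∀ x', πinv (π x') = x' := fun x' => (Equiv.ofBijective π hbij).symm_apply_apply x'
  have hπinv' : ∀ x, π (πinv x) = x := fun x => (Equiv.ofBijective π hbij).apply_symm_apply x
  let αfun : X → ℤ := fun x => β (πinv x) * (p : ℤ) ^ (n - e (πinv x))
  have hαsupp : (Function.support αfun).Finite := by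
    refine (hfin.image π).subset ?_
    intro x hx
    refine ⟨πinv x, ?_, hπinv' x⟩
    intro h0
    exact hx (by simp [αfun, show β (πinv x) = 0 from h0])
  let α : AlgebraicCycle X ℤ :=
    { toFun := αfun
      supportWithinDomain' := Set.subset_univ _
      supportLocallyFiniteWithinDomain' := fun z _ =>
        ⟨Set.univ, Filter.univ_mem, by rw [Set.univ_inter]; exact hαsupp⟩ }
  refine ⟨n, α, ?_, ?_⟩
  · intro x hx
    change αfun x = 0
    have h1 : δ' (πinv x) ≠ r := by
      rw [hdelta, hπinv' x]; exact hx
    have h2 : β (πinv x) = 0 := hβ _ h1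
    simp [αfun, h2]
  · funext x'
    have hcond : δ' x' = δ (π x') + 0 := by rw [add_zero]; exact hdelta x'
    have hR : Cyc.pullFun π δ' δ 0 (⇑α) x' = α (π x') *
        ((Module.length ((pullback f (Spec.map (CommRingCat.ofHom φ))).presheaf.stalk x')
          ((pullback f (Spec.map (CommRingCat.ofHom φ))).presheaf.stalk x' ⧸
            Ideal.map (π.stalkMap x').hom
              (IsLocalRing.maximalIdeal (X.presheaf.stalk (π x'))))).toNat : ℤ) := by
      simp only [Cyc.pullFun]
      rw [if_pos hcond]
    rw [hR, he x']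
    change (p : ℤ) ^ n * β x' = αfun (π x') * _
    simp only [αfun, hπinv x', ENat.toNat_coe]
    by_cases hb : β x' = 0
    · simp [hb]
    · have hmem : x' ∈ hfin.toFinset := by
        rw [Set.Finite.mem_toFinset]; exact hb
      have hle : e x' ≤ n := Finset.le_sup hmem
      push_cast
      rw [mul_assoc, ← pow_add, Nat.sub_add_cancel hle, mul_comm]

end Part7

end Part7

section Part8

section Part8

open AlgebraicGeometry CategoryTheory Limits IsLocalRing Groth.Agent.Lib.R2H1.PowLen
open scoped TensorProduct

/-- **Main theorem** (S1919): cycles on the base change to the perfect closure are, up to a power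
of `p`, base changes of cycles. -/
theorem main (k : Type u) [Field k] (p : ℕ) [Fact p.Prime] [CharP k p] (X : Scheme.{u})
    (f : X ⟶ Spec (CommRingCat.of k)) [LocallyOfFiniteType f] [QuasiCompact f] (δ : X → ℤ)
    (hδ : Cyc.DeltaCompat f δ (fun _ => 0))
    (δ' : ↥(pullback f (Spec.map (CommRingCat.ofHom (PerfectClosure.of k p)))) → ℤ)
    (hδ' : Cyc.DeltaCompat (pullback.snd f (Spec.map (CommRingCat.ofHom (PerfectClosure.of k p))))
      δ' (fun _ => 0)) (r : ℤ)
    (β : AlgebraicCycle (pullback f (Spec.map (CommRingCat.ofHom (PerfectClosure.of k p)))) ℤ)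
    (hβ : β ∈ Cyc.Zk _ δ' r) :
    ∃ (n : ℕ) (α : AlgebraicCycle X ℤ), α ∈ Cyc.Zk X δ r ∧
      (p : ℤ) ^ n • ⇑β =
        Cyc.pullFun (pullback.fst f (Spec.map (CommRingCat.ofHom (PerfectClosure.of k p)))) δ' δ 0
          ⇑α := by
  haveI : ExpChar k p := ExpChar.prime (Fact.out)
  have hφ : letI := (PerfectClosure.of k p).toAlgebra; IsPurelyInseparable k (PerfectClosure k p) := by
    letI := (PerfectClosure.of k p).toAlgebra
    haveI : IsPRadical (algebraMap k (PerfectClosure k p)) p := PerfectClosure.isPRadical k p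
    exact IsPRadical.isPurelyInseparable k (PerfectClosure k p) p
  exact main_aux (PerfectClosure.of k p) f p hφ δ hδ δ' hδ' r β hβ

end Part8

end Part8

end Groth.Agent.Lib.R2H1.PerfCyc
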