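/-
First Chern class of the structure sheaf and of a tensor product (helper1, round 2; S6455, S6454). Contains: bijective_germ_of_isGen (a sectionwise generator in the sense of Helper23 freely generates all stalks), genOfIsGen (the C1Comm.Gen attached to it), isGen_res, ratEquivZero_of_support (a pointwise sum over the support of alpha of alpha(xi) div(phi_xi) is rationally equivalent to zero), main6455, cc_eq_germ, cc_tm (transition units of tensor products of generators multiply), secDivFun_ne_zero_specializes, finite_support_specializes, main6454.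
-/
import Mathlib
import Groth.Prelude.Def_Cyc
import Groth.Prelude.Def_C1
import Groth.Agent.Lib.R2H1C1Rel
import Groth.Agent.Lib.Helper23SecTw6
import Groth.Agent.Lib.Helper2QCoh

set_option autoImplicit false
set_option linter.style.haveILetI false
set_option linter.unusedSectionVars false
universe u v

namespace Groth.Agent.Lib.R2H1.C1Tensor

section Part1

open AlgebraicGeometry CategoryTheory TopologicalSpace IsLocalRing CycAlg Opposite
  Groth.Agent.Lib.R2H1.C1Comm Groth.Agent.Lib.R2H1.C1Rel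
  Groth.Agent.Lib.Helper23.SecTw Groth.Agent.Lib.Helper6

variable {X : Scheme.{u}}

/-- a sectionwise generator over `W` freely generates all stalks over `W`. -/
theorem bijective_germ_of_isGen (L : X.Modules) (W : X.Opens) (e : Γ(L, W)) (he : IsGen L W e)
    (y : X) (hy : y ∈ W) :
    Function.Bijective (fun c : X.presheaf.stalk y => c • L.presheaf.germ W y hy e) := by
  have key : ∀ (V : X.Opens) (hV : V ≤ W) (hyV : y ∈ V) (r : Γ(X, V)),
      X.presheaf.germ V y hyV r • L.presheaf.germ W y hy e =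
        L.presheaf.germ V y hyV (r • res L hV e) := by
    intro V hV hyV r
    rw [Groth.Agent.Lib.Helper2.QCoh.germ_smul]
    congr 1
    exact (TopCat.Presheaf.germ_res_apply L.presheaf (homOfLE hV) y hyV e).symm
  constructor
  · intro c₁ c₂ h12
    have h0 : (c₁ - c₂) • L.presheaf.germ W y hy e = 0 := by
      rw [sub_smul, sub_eq_zero]
      exact h12
    obtain ⟨V, hyV, r, hr⟩ := X.presheaf.exists_germ_eq (c₁ - c₂)
    have hyV' : y ∈ V ⊓ W := ⟨hyV, hy⟩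
    have hr' : X.presheaf.germ (V ⊓ W) y hyV' (resf (inf_le_left : V ⊓ W ≤ V) r) = c₁ - c₂ := by
      rw [← hr]
      exact TopCat.Presheaf.germ_res_apply X.presheaf (homOfLE inf_le_left) y hyV' r
    rw [← hr', key (V ⊓ W) inf_le_right hyV'] at h0
    have h0' : L.presheaf.germ (V ⊓ W) y hyV'
        (resf (inf_le_left : V ⊓ W ≤ V) r • res L (inf_le_right : V ⊓ W ≤ W) e) =
        L.presheaf.germ (V ⊓ W) y hyV' 0 := by
      rw [h0, map_zero]
    obtain ⟨V'', hyV'', i1, i2, heq⟩ := TopCat.Presheaf.germ_eq L.presheaf y hyV' hyV' _ _ h0'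
    have hle : V'' ≤ V ⊓ W := i1.le
    have h1 : res L hle (resf (inf_le_left : V ⊓ W ≤ V) r • res L (inf_le_right : V ⊓ W ≤ W) e) =
        0 := by
      have : res L hle (0 : Γ(L, V ⊓ W)) = 0 := map_zero _
      rw [← this]
      exact heq
    rw [res_smul, res_res] at h1
    have h2 : resf hle (resf (inf_le_left : V ⊓ W ≤ V) r) = 0 := by
      apply (he V'' (hle.trans inf_le_right)).1
      simp only []
      rw [h1, zero_smul]
    have h3 : c₁ - c₂ = 0 := by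
      rw [← hr', ← TopCat.Presheaf.germ_res_apply X.presheaf (homOfLE hle) y hyV'']
      change X.presheaf.germ V'' y hyV'' (resf hle (resf (inf_le_left : V ⊓ W ≤ V) r)) = 0
      rw [h2, map_zero]
    exact sub_eq_zero.mp h3
  · intro m
    obtain ⟨V, hyV, m₀, rfl⟩ := L.presheaf.exists_germ_eq m
    have hyV' : y ∈ V ⊓ W := ⟨hyV, hy⟩
    obtain ⟨r, hr⟩ := (he (V ⊓ W) inf_le_right).2 (res L (inf_le_left : V ⊓ W ≤ V) m₀)
    refine ⟨X.presheaf.germ (V ⊓ W) y hyV' r, ?_⟩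
    simp only [] at hr ⊢
    rw [key (V ⊓ W) inf_le_right hyV', hr]
    exact TopCat.Presheaf.germ_res_apply L.presheaf (homOfLE inf_le_left) y hyV' m₀

/-- the `Gen` attached to a sectionwise generator. -/
noncomputable def genOfIsGen (L : X.Modules) (W : X.Opens) (e : Γ(L, W)) (he : IsGen L W e) :
    Gen L where
  W := W
  t := e
  bij := bijective_germ_of_isGen L W e he

theorem isGen_res (L : X.Modules) {W W' : X.Opens} (h : W' ≤ W) (e : Γ(L, W)) (he : IsGen L W e) :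
    IsGen L W' (res L h e) := by
  intro W'' h''
  have := he W'' (h''.trans h)
  rw [← res_res L h h'' e] at this
  exact this

end Part1

section Part2

open AlgebraicGeometry CategoryTheory TopologicalSpace IsLocalRing CycAlg Opposite
  Groth.Agent.Lib.R2H1.C1Comm Groth.Agent.Lib.R2H1.C1Rel
  Groth.Agent.Lib.Helper23.SecTw Groth.Agent.Lib.Helper23.GenLocus Groth.Agent.Lib.Helper6

/-- a cycle which is pointwise a weighted sum of principal divisors of rational functions on the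
closures of the points of the support of a cycle `α` is rationally equivalent to zero. -/
theorem ratEquivZero_of_support (X : Scheme.{u}) (δ : X → ℤ) (hX : Cyc.IsSetup X δ) (k : ℤ)
    (α : AlgebraicCycle X ℤ) (hα : α ∈ Cyc.Zk X δ (k + 1)) (φ : (ξ : X) → X.residueField ξ)
    (hφ : ∀ ξ, φ ξ ≠ 0) (γ : AlgebraicCycle X ℤ)
    (hγ : ∀ x, γ x = ∑ᶠ ξ : X, α ξ * Cyc.divFun δ ξ (φ ξ) x) : Cyc.RatEquivZero δ k γ := by
  classical
  refine ⟨{ζ : X // α ζ ≠ 0}, fun ζ => ζ.1, fun ζ => (φ ζ.1) ^ (α ζ.1), ?_, ?_,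
    cycle_support_locallyFinite α, ?_⟩
  · intro ζ
    by_contra hne
    exact ζ.2 (hα ζ.1 hne)
  · intro ζ
    exact zpow_ne_zero _ (hφ ζ.1)
  · intro x
    rw [hγ x]
    have e : ∀ ζ : {ζ : X // α ζ ≠ 0}, Cyc.divFun δ ζ.1 ((φ ζ.1) ^ (α ζ.1)) x =
        α ζ.1 * Cyc.divFun δ ζ.1 (φ ζ.1) x := fun ζ => divFun_zpow δ hX ζ.1 x (hφ ζ.1) (α ζ.1)
    rw [finsum_congr e]
    exact (finsum_subtype_of_support (fun ζ => α ζ ≠ 0)
      (fun ζ => α ζ * Cyc.divFun δ ζ (φ ζ) x) (fun ζ h h0 => h (by rw [h0, zero_mul]))).symm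

/-- S6455: `c_1(O_X) ∩ α ∼ 0`. -/
theorem main6455 (X : Scheme.{u}) (δ : X → ℤ) (hX : Cyc.IsSetup X δ) (k : ℤ)
    (α : AlgebraicCycle X ℤ) (hα : α ∈ Cyc.Zk X δ (k + 1))
    (s : (ξ : X) → Cyc.secFibre (Coh.structureModule X) ξ) (hs : ∀ ξ, s ξ ≠ 0)
    (γ : AlgebraicCycle X ℤ) (hγ : ⇑γ = Cyc.c1CapFun δ (Coh.structureModule X) ⇑α s) :
    Cyc.RatEquivZero δ k γ := by
  haveI : IsLocallyNoetherian X := hX.1
  set G₀ : Gen (Coh.structureModule X) :=
    genOfIsGen (Coh.structureModule X) ⊤ (toS ⊤ 1) (isGen_one ⊤) with hG₀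
  have hW : ∀ z : X, z ∈ G₀.W := fun z => trivial
  refine ratEquivZero_of_support X δ hX k α hα (fun ξ => G₀.fib ξ (hW ξ) (s ξ))
    (fun ξ => G₀.fib_ne_zero ξ (hW ξ) (s ξ) (hs ξ)) γ ?_
  intro x
  rw [hγ]
  unfold Cyc.c1CapFun
  refine finsum_congr (fun ξ => ?_)
  congr 1
  unfold Cyc.secDivFun Cyc.divFun
  by_cases hc : ξ ⤳ x ∧ δ x + 1 = δ ξ
  · rw [dif_pos hc, dif_pos hc]
    exact G₀.secOrdAt_eq hX.2.2 ξ x hc.1 hc.2 (hW x) (s ξ)
  · rw [dif_neg hc, dif_neg hc]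

end Part2

section Part3

open AlgebraicGeometry CategoryTheory TopologicalSpace IsLocalRing CycAlg Opposite
  Groth.Agent.Lib.R2H1.C1Comm Groth.Agent.Lib.R2H1.C1Rel
  Groth.Agent.Lib.Helper23.SecTw Groth.Agent.Lib.Helper23.GenLocus Groth.Agent.Lib.Helper6

variable {X : Scheme.{u}}

/-- the transition unit between two sectionwise generators is the germ of the transition
function. -/
theorem cc_eq_germ (M : X.Modules) {W W' V : X.Opens} (a : Γ(M, W)) (ha : IsGen M W a)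
    (a' : Γ(M, W')) (ha' : IsGen M W' a') (hV : V ≤ W) (hV' : V ≤ W') (r : Γ(X, V))
    (hr : r • res M hV a = res M hV' a') (y : X) (hyV : y ∈ V) :
    (genOfIsGen M W a ha).cc (genOfIsGen M W' a' ha') y (hV hyV) (hV' hyV) =
      X.presheaf.germ V y hyV r := by
  apply ((genOfIsGen M W a ha).g_bij y (hV hyV)).1
  change (genOfIsGen M W a ha).cc (genOfIsGen M W' a' ha') y (hV hyV) (hV' hyV) •
      (genOfIsGen M W a ha).g y (hV hyV) =
    X.presheaf.germ V y hyV r • (genOfIsGen M W a ha).g y (hV hyV)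
  rw [Gen.cc_spec]
  change M.presheaf.germ W' y (hV' hyV) a' =
    X.presheaf.germ V y hyV r • M.presheaf.germ W y (hV hyV) a
  rw [← TopCat.Presheaf.germ_res_apply M.presheaf (homOfLE hV') y hyV a',
    ← TopCat.Presheaf.germ_res_apply M.presheaf (homOfLE hV) y hyV a,
    ← Groth.Agent.Lib.Helper2.QCoh.germ_smul]
  exact congrArg _ hr.symm

/-- the transition units of tensor products of generators are the products of the transition
units. -/
theorem cc_tm (M N : X.Modules) {W W' : X.Opens} (a : Γ(M, W)) (ha : IsGen M W a)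
    (b : Γ(N, W)) (hb : IsGen N W b) (a' : Γ(M, W')) (ha' : IsGen M W' a')
    (b' : Γ(N, W')) (hb' : IsGen N W' b') (y : X) (hy : y ∈ W) (hy' : y ∈ W') :
    (genOfIsGen (CohB1.tensorMod M N) W (tm M N W a b) (isGen_tm M N W a b ha hb)).cc
      (genOfIsGen (CohB1.tensorMod M N) W' (tm M N W' a' b') (isGen_tm M N W' a' b' ha' hb'))
        y hy hy' =
    (genOfIsGen M W a ha).cc (genOfIsGen M W' a' ha') y hy hy' *
      (genOfIsGen N W b hb).cc (genOfIsGen N W' b' hb') y hy hy' := by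
  have hV : W ⊓ W' ≤ W := inf_le_left
  have hV' : W ⊓ W' ≤ W' := inf_le_right
  have hyV : y ∈ W ⊓ W' := ⟨hy, hy'⟩
  obtain ⟨r, hr⟩ := (ha (W ⊓ W') hV).2 (res M hV' a')
  obtain ⟨q, hq⟩ := (hb (W ⊓ W') hV).2 (res N hV' b')
  simp only [] at hr hq
  have hrq : (r * q) • res (CohB1.tensorMod M N) hV (tm M N W a b) =
      res (CohB1.tensorMod M N) hV' (tm M N W' a' b') := by
    rw [res_tm, res_tm, ← hr, ← hq, tm_smul_left, tm_smul_right, mul_smul]
  rw [cc_eq_germ M a ha a' ha' hV hV' r hr y hyV, cc_eq_germ N b hb b' hb' hV hV' q hq y hyV,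
    cc_eq_germ (CohB1.tensorMod M N) _ _ _ _ hV hV' (r * q) hrq y hyV, map_mul]

end Part3

section Part4

open AlgebraicGeometry CategoryTheory TopologicalSpace IsLocalRing CycAlg Opposite
  Groth.Agent.Lib.R2H1.C1Comm Groth.Agent.Lib.R2H1.C1Rel Groth.Agent.Lib.R2H1.LocQuot
  Groth.Agent.Lib.R2H1.RatEquivClosed
  Groth.Agent.Lib.Helper23.SecTw Groth.Agent.Lib.Helper23.GenLocus Groth.Agent.Lib.Helper6

variable {X : Scheme.{u}}

theorem secDivFun_ne_zero_specializes {δ : X → ℤ} {L : X.Modules} {ξ x : X}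
    {s : Cyc.secFibre L ξ} (h : Cyc.secDivFun δ L ξ s x ≠ 0) : ξ ⤳ x ∧ δ x + 1 = δ ξ := by
  unfold Cyc.secDivFun at h
  split_ifs at h with hc
  · exact hc
  · exact absurd rfl h

/-- the points of the support of a cycle specializing to a given point are finite in number. -/
theorem finite_support_specializes (α : AlgebraicCycle X ℤ) (x : X) :
    {ξ : X | α ξ ≠ 0 ∧ ξ ⤳ x}.Finite := by
  obtain ⟨U, hU, hxU, hfin⟩ := cycle_support_locallyFinite α x
  refine (hfin.image Subtype.val).subset ?_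
  rintro ξ ⟨h1, h2⟩
  exact ⟨⟨ξ, h1⟩, ⟨x, specializes_iff_mem_closure.mp h2, hxU⟩, rfl⟩

/-- S6454: `c_1(L) ∩ α + c_1(N) ∩ α ∼ c_1(L ⊗ N) ∩ α`. -/
theorem main6454 (X : Scheme.{u}) (δ : X → ℤ) (hX : Cyc.IsSetup X δ) (L N : X.Modules)
    (hL : PicF.IsInvertible L) (hN : PicF.IsInvertible N) (k : ℤ) (α : AlgebraicCycle X ℤ)
    (hα : α ∈ Cyc.Zk X δ (k + 1)) (sL : (ξ : X) → Cyc.secFibre L ξ) (hsL : ∀ ξ, sL ξ ≠ 0)
    (sN : (ξ : X) → Cyc.secFibre N ξ) (hsN : ∀ ξ, sN ξ ≠ 0)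
    (sT : (ξ : X) → Cyc.secFibre (CohB1.tensorMod L N) ξ) (hsT : ∀ ξ, sT ξ ≠ 0)
    (γL γN γT : AlgebraicCycle X ℤ) (hγL : ⇑γL = Cyc.c1CapFun δ L ⇑α sL)
    (hγN : ⇑γN = Cyc.c1CapFun δ N ⇑α sN)
    (hγT : ⇑γT = Cyc.c1CapFun δ (CohB1.tensorMod L N) ⇑α sT) :
    Cyc.RatEquiv δ k (γL + γN) γT := by
  classical
  haveI : IsLocallyNoetherian X := hX.1
  have hδ := hX.2.2
  choose WL eL hzL hgenL using Groth.Agent.Lib.Helper23.SecTw.exists_gen L hL
  choose WN eN hzN hgenN using Groth.Agent.Lib.Helper23.SecTw.exists_gen N hN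
  set W : X → X.Opens := fun z => WL z ⊓ WN z with hWdef
  have hg : ∀ z, z ∈ W z := fun z => ⟨hzL z, hzN z⟩
  set aL : ∀ z, Γ(L, W z) := fun z => res L (inf_le_left : W z ≤ WL z) (eL z) with haLdef
  set aN : ∀ z, Γ(N, W z) := fun z => res N (inf_le_right : W z ≤ WN z) (eN z) with haNdef
  have haL : ∀ z, IsGen L (W z) (aL z) := fun z => isGen_res L inf_le_left (eL z) (hgenL z)
  have haN : ∀ z, IsGen N (W z) (aN z) := fun z => isGen_res N inf_le_right (eN z) (hgenN z)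
  set gL : X → Gen L := fun z => genOfIsGen L (W z) (aL z) (haL z) with hgL
  set gN : X → Gen N := fun z => genOfIsGen N (W z) (aN z) (haN z) with hgN
  set gT : X → Gen (CohB1.tensorMod L N) := fun z =>
    genOfIsGen (CohB1.tensorMod L N) (W z) (tm L N (W z) (aL z) (aN z))
      (isGen_tm L N (W z) (aL z) (aN z) (haL z) (haN z)) with hgT
  set lamL : (ξ : X) → X.residueField ξ := fun ξ => (gL ξ).fib ξ (hg ξ) (sL ξ) with hlamL
  set lamN : (ξ : X) → X.residueField ξ := fun ξ => (gN ξ).fib ξ (hg ξ) (sN ξ) with hlamN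
  set lamT : (ξ : X) → X.residueField ξ := fun ξ => (gT ξ).fib ξ (hg ξ) (sT ξ) with hlamT
  have hlamL0 : ∀ ξ, lamL ξ ≠ 0 := fun ξ => (gL ξ).fib_ne_zero ξ (hg ξ) (sL ξ) (hsL ξ)
  have hlamN0 : ∀ ξ, lamN ξ ≠ 0 := fun ξ => (gN ξ).fib_ne_zero ξ (hg ξ) (sN ξ) (hsN ξ)
  have hlamT0 : ∀ ξ, lamT ξ ≠ 0 := fun ξ => (gT ξ).fib_ne_zero ξ (hg ξ) (sT ξ) (hsT ξ)
  set φ : (ξ : X) → X.residueField ξ := fun ξ => lamT ξ / (lamL ξ * lamN ξ) with hφ
  have hφ0 : ∀ ξ, φ ξ ≠ 0 := fun ξ =>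
    div_ne_zero (hlamT0 ξ) (mul_ne_zero (hlamL0 ξ) (hlamN0 ξ))
  -- the key identity
  have key : ∀ ξ₀ x : X, Cyc.secDivFun δ (CohB1.tensorMod L N) ξ₀ (sT ξ₀) x =
      Cyc.divFun δ ξ₀ (φ ξ₀) x + Cyc.secDivFun δ L ξ₀ (sL ξ₀) x +
        Cyc.secDivFun δ N ξ₀ (sN ξ₀) x := by
    intro ξ₀ x
    unfold Cyc.secDivFun Cyc.divFun
    by_cases hc : ξ₀ ⤳ x ∧ δ x + 1 = δ ξ₀
    · rw [dif_pos hc, dif_pos hc, dif_pos hc, dif_pos hc]
      have hm : ξ₀ ∈ W x := hc.1.mem_open (W x).isOpen (hg x)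
      rw [(gT x).secOrdAt_eq hδ ξ₀ x hc.1 hc.2 (hg x) (sT ξ₀),
        (gL x).secOrdAt_eq hδ ξ₀ x hc.1 hc.2 (hg x) (sL ξ₀),
        (gN x).secOrdAt_eq hδ ξ₀ x hc.1 hc.2 (hg x) (sN ξ₀)]
      have eT := (gT x).fib_change (gT ξ₀) ξ₀ hm (hg ξ₀) (sT ξ₀)
      have eL' := (gL x).fib_change (gL ξ₀) ξ₀ hm (hg ξ₀) (sL ξ₀)
      have eN' := (gN x).fib_change (gN ξ₀) ξ₀ hm (hg ξ₀) (sN ξ₀)
      have ecc : (gT x).cc (gT ξ₀) ξ₀ hm (hg ξ₀) =
          (gL x).cc (gL ξ₀) ξ₀ hm (hg ξ₀) * (gN x).cc (gN ξ₀) ξ₀ hm (hg ξ₀) :=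
        cc_tm L N (aL x) (haL x) (aN x) (haN x) (aL ξ₀) (haL ξ₀) (aN ξ₀) (haN ξ₀) ξ₀ hm (hg ξ₀)
      have hLx : (gL x).fib ξ₀ hm (sL ξ₀) ≠ 0 := (gL x).fib_ne_zero ξ₀ hm (sL ξ₀) (hsL ξ₀)
      have hNx : (gN x).fib ξ₀ hm (sN ξ₀) ≠ 0 := (gN x).fib_ne_zero ξ₀ hm (sN ξ₀) (hsN ξ₀)
      have hprod : (gT x).fib ξ₀ hm (sT ξ₀) =
          φ ξ₀ * (gL x).fib ξ₀ hm (sL ξ₀) * (gN x).fib ξ₀ hm (sN ξ₀) := by
        rw [eT, eL', eN', ecc, map_mul]
        change lamT ξ₀ * _ = lamT ξ₀ / (lamL ξ₀ * lamN ξ₀) * (lamL ξ₀ * _) * (lamN ξ₀ * _)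
        have h1 := hlamL0 ξ₀
        have h2 := hlamN0 ξ₀
        field_simp
      rw [hprod, ordAt_mul hδ x ξ₀ hc.1 hc.2 (mul_ne_zero (hφ0 ξ₀) hLx) hNx,
        ordAt_mul hδ x ξ₀ hc.1 hc.2 (hφ0 ξ₀) hLx]
    · rw [dif_neg hc, dif_neg hc, dif_neg hc, dif_neg hc]
      ring
  unfold Cyc.RatEquiv
  refine ratEquivZero_of_support X δ hX k α hα (fun ξ => (φ ξ)⁻¹)
    (fun ξ => inv_ne_zero (hφ0 ξ)) (γL + γN - γT) ?_
  intro x
  have hsub : (γL + γN - γT) x = γL x + γN x - γT x := by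
    rw [Function.locallyFinsuppWithin.coe_sub, Function.locallyFinsuppWithin.coe_add]
    rfl
  rw [hsub, hγL, hγN, hγT]
  unfold Cyc.c1CapFun
  have hS := finite_support_specializes α x
  have hfin : ∀ f : X → ℤ, (∀ ξ, f ξ ≠ 0 → ξ ⤳ x) →
      (Function.support (fun ξ => α ξ * f ξ)).Finite := by
    intro f hf
    refine hS.subset ?_
    intro ξ hξ
    rw [Function.mem_support] at hξ
    exact ⟨fun h0 => hξ (by rw [h0, zero_mul]), hf ξ (fun h0 => hξ (by rw [h0, mul_zero]))⟩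
  have hfL := hfin (fun ξ => Cyc.secDivFun δ L ξ (sL ξ) x)
    (fun ξ h => (secDivFun_ne_zero_specializes h).1)
  have hfN := hfin (fun ξ => Cyc.secDivFun δ N ξ (sN ξ) x)
    (fun ξ h => (secDivFun_ne_zero_specializes h).1)
  have hfT := hfin (fun ξ => Cyc.secDivFun δ (CohB1.tensorMod L N) ξ (sT ξ) x)
    (fun ξ h => (secDivFun_ne_zero_specializes h).1)
  rw [← finsum_add_distrib hfL hfN, ← finsum_sub_distrib (hfL.union hfN |>.subset (by
    intro ξ hξ
    rw [Function.mem_support] at hξ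
    by_contra hnot
    rw [Set.mem_union, Function.mem_support, Function.mem_support, not_or, not_not, not_not]
      at hnot
    rw [hnot.1, hnot.2, add_zero] at hξ
    exact hξ rfl)) hfT]
  refine finsum_congr (fun ξ => ?_)
  rw [key ξ x, divFun_inv]
  ring

end Part4

end Groth.Agent.Lib.R2H1.C1Tensor
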