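/-
Gysin maps of zero schemes of sections kill rational equivalence (helper1, round 2; S1929). Contains: ordAt_FfunR_eq_zero_of_unit, divFun_Ftot_eq_zero_of_unit (the rational functions of the commutator formula have trivial divisor where the second datum is a unit multiple of the generator), family_on, family_main_on (version of C1Rel.family_main producing principal divisors at points of a given set T), gysinChoice_ne_zero, gysinChoice_of_ne, exists_unit_of_ne, germ_top_specializes, gysin_unit, main1929.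
-/
import Mathlib
import Groth.Prelude.Def_Cyc
import Groth.Prelude.Def_C1
import Groth.Prelude.Def_Tame
import Groth.Agent.Lib.R2H1C1Rel

set_option autoImplicit false
set_option linter.style.haveILetI false
set_option linter.unusedSectionVars false
universe u v

namespace Groth.Agent.Lib.R2H1.Gysin

section Part1

open AlgebraicGeometry CategoryTheory TopologicalSpace IsLocalRing CycAlg
  Groth.Agent.Lib.R2H1.LocQuot Groth.Agent.Lib.R2H1.RatEquivOpen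
  Groth.Agent.Lib.R2H1.FlatDivSum Groth.Agent.Lib.R2H1.TameLaws
  Groth.Agent.Lib.R2H1.C1Comm Groth.Agent.Lib.R2H1.C1Rel

variable {X : Scheme.{u}} {ξ₀ : X} (CL CN : CData ξ₀)

/-- if the second datum is, at `ξ`, a unit multiple `w` of the generator both for the section on
the closure of `ξ₀` and for the auxiliary section at `ξ`, the rational function `FfunR ξ` has
trivial divisor. -/
theorem ordAt_FfunR_eq_zero_of_unit (δ : X → ℤ) (hX : Cyc.IsSetup X δ) (ξ x : X) (h : ξ ⤳ x)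
    (h₀ : ξ₀ ⤳ ξ) (hd : δ x + 1 = δ ξ) (hξ : δ ξ + 1 = δ ξ₀) (w : (X.presheaf.stalk ξ)ˣ)
    (hw : CN.lamAt ξ h₀ = Cyc.specMap ξ ξ₀ h₀ (w : _)) (hub : CN.ub ξ = X.residue ξ (w : _)) :
    Cyc.ordAt x ξ h (FfunR CL CN ξ h₀) = 0 := by
  haveI : IsLocallyNoetherian X := hX.1
  have hR : ringKrullDim (Cyc.LocQuot ξ ξ₀ h₀) = 1 := ringKrullDim_locQuot hX.2.2 ξ ξ₀ h₀ hξ
  have ho : ∀ y z : ResidueField (Cyc.LocQuot ξ ξ₀ h₀), y ≠ 0 → z ≠ 0 →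
      oR x ξ ξ₀ h h₀ (y * z) = oR x ξ ξ₀ h h₀ y + oR x ξ ξ₀ h h₀ z :=
    fun y z hy hz => oR_mul hX.2.2 x ξ ξ₀ h h₀ hd y z hy hz
  rw [ordAt_FfunR CL CN δ hX ξ x h h₀ hd hξ, alR_eq_zero_of_isU CN ξ h₀ ⟨w, hw⟩, hub]
  have hT : Cyc.ordAt x ξ h (TsymR ξ ξ₀ h₀ (CL.num ξ h₀) (CL.den ξ h₀) (CN.num ξ h₀)
      (CN.den ξ h₀)) = oR x ξ ξ₀ h h₀ (Tsym (Cyc.LocQuot ξ ξ₀ h₀) (qm ξ ξ₀ h₀ (CL.num ξ h₀))
        (qm ξ ξ₀ h₀ (CL.den ξ h₀)) (qm ξ ξ₀ h₀ (CN.num ξ h₀)) (qm ξ ξ₀ h₀ (CN.den ξ h₀))) := rfl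
  set w' : (Cyc.LocQuot ξ ξ₀ h₀)ˣ :=
    Units.map (qm ξ ξ₀ h₀ : X.presheaf.stalk ξ →* Cyc.LocQuot ξ ξ₀ h₀) w with hw'
  have ha := qm_ne_zero ξ ξ₀ h₀ (CL.num_ne ξ h₀)
  have hb := qm_ne_zero ξ ξ₀ h₀ (CL.den_ne ξ h₀)
  have hc := qm_ne_zero ξ ξ₀ h₀ (CN.num_ne ξ h₀)
  have hdd := qm_ne_zero ξ ξ₀ h₀ (CN.den_ne ξ h₀)
  have hwne : (w' : Cyc.LocQuot ξ ξ₀ h₀) ≠ 0 := w'.ne_zero
  have e1 : oR x ξ ξ₀ h h₀ (residue _ (w' : Cyc.LocQuot ξ ξ₀ h₀)) =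
      Cyc.ordAt x ξ h (X.residue ξ (w : X.presheaf.stalk ξ)) := by
    rw [hw', Units.coe_map]
    exact oR_residue_qm x ξ ξ₀ h h₀ _
  have e2 : alR CL ξ h₀ = ordZ (qm ξ ξ₀ h₀ (CL.num ξ h₀)) - ordZ (qm ξ ξ₀ h₀ (CL.den ξ h₀)) := by
    unfold alR
    rw [CL.lam_eq ξ h₀]
    exact ordAt_ratio_rel δ hX ξ ξ₀ h₀ hξ _ _ (CL.num_ne ξ h₀) (CL.den_ne ξ h₀)
  rw [hT, o_Tsym hR (oR x ξ ξ₀ h h₀) ho ha hb hc hdd, num_eq_of_isU CN ξ h₀ w hw,
    D_mul_right hR (oR x ξ ξ₀ h h₀) ho ha hwne hdd, D_mul_right hR (oR x ξ ξ₀ h h₀) ho hb hwne hdd,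
    D_unit_right hR (oR x ξ ξ₀ h h₀) ho ha w', D_unit_right hR (oR x ξ ξ₀ h h₀) ho hb w', e1, e2]
  ring

theorem divFun_Ftot_eq_zero_of_unit (δ : X → ℤ) (hX : Cyc.IsSetup X δ) (ξ : X)
    (h₀ : ξ₀ ⤳ ξ) (hξ : δ ξ + 1 = δ ξ₀) (w : (X.presheaf.stalk ξ)ˣ)
    (hw : CN.lamAt ξ h₀ = Cyc.specMap ξ ξ₀ h₀ (w : _)) (hub : CN.ub ξ = X.residue ξ (w : _))
    (x : X) : Cyc.divFun δ ξ (Ftot CL CN ξ) x = 0 := by
  unfold Cyc.divFun
  by_cases hc : ξ ⤳ x ∧ δ x + 1 = δ ξ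
  · rw [dif_pos hc, Ftot_pos CL CN ξ h₀]
    exact ordAt_FfunR_eq_zero_of_unit CL CN δ hX ξ x hc.1 h₀ hc.2 hξ w hw hub
  · rw [dif_neg hc]

end Part1

section Part2

open AlgebraicGeometry CategoryTheory TopologicalSpace IsLocalRing CycAlg
  Groth.Agent.Lib.R2H1.LocQuot Groth.Agent.Lib.R2H1.RatEquivOpen
  Groth.Agent.Lib.R2H1.FlatDivSum Groth.Agent.Lib.R2H1.TameLaws
  Groth.Agent.Lib.R2H1.C1Comm Groth.Agent.Lib.R2H1.C1Rel Groth.Agent.Lib.R2H1.RatEquivClosed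

variable {X : Scheme.{u}}

/-- a weighted locally finite family of commutators is a locally finite sum of principal divisors
at points of a set `T` outside of which all the rational functions have trivial divisor. -/
theorem family_on (δ : X → ℤ) (hX : Cyc.IsSetup X δ) (k : ℤ) {ι : Type u}
    (ξ₀ : ι → X) (hξ₀ : ∀ i, δ (ξ₀ i) = k + 2)
    (hlf : ∀ x : X, ∃ U : Set X, IsOpen U ∧ x ∈ U ∧ {i | (closure {ξ₀ i} ∩ U).Nonempty}.Finite)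
    (CL CN : ∀ i, CData (ξ₀ i)) (m : ι → ℤ) (T : Set X)
    (hT : ∀ i ξ, BadR (CL i) (CN i) δ ξ → ξ ∉ T →
      ∀ x, Cyc.divFun δ ξ (Ftot (CL i) (CN i) ξ) x = 0)
    (γ : X → ℤ) (hγ : ∀ x, γ x = ∑ᶠ i, m i * ∑ᶠ ξ, Hfun (CL i) (CN i) δ x ξ) :
    ∃ (ι' : Type u) (ξ' : ι' → X) (F : (j : ι') → X.residueField (ξ' j)),
      (∀ j, ξ' j ∈ T) ∧ (∀ j, δ (ξ' j) = k + 1) ∧ (∀ j, F j ≠ 0) ∧
      (∀ x : X, ∃ U : Set X, IsOpen U ∧ x ∈ U ∧ {j | (closure {ξ' j} ∩ U).Nonempty}.Finite) ∧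
      ∀ x, γ x = ∑ᶠ j, Cyc.divFun δ (ξ' j) (F j) x := by
  classical
  refine ⟨{p : ι × X // BadR (CL p.1) (CN p.1) δ p.2 ∧ p.2 ∈ T}, fun p => p.1.2,
    fun p => (Ftot (CL p.1.1) (CN p.1.1) p.1.2) ^ (m p.1.1), ?_, ?_, ?_, ?_, ?_⟩
  · intro p
    exact p.2.2
  · rintro ⟨⟨i, ξ⟩, ⟨h₀, hξ, -⟩, -⟩
    change δ ξ = k + 1
    have := hξ₀ i
    change δ ξ + 1 = δ (ξ₀ i) at hξ
    omega
  · intro p
    exact zpow_ne_zero _ (Ftot_ne_zero _ _ δ hX _ p.2.1)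
  · intro x₀
    obtain ⟨U, hU, hxU, hfin⟩ := family_bad_finite δ hX ξ₀ hlf CL CN x₀
    refine ⟨U, hU, hxU, ?_⟩
    refine (hfin.preimage Subtype.val_injective.injOn).subset ?_
    rintro p ⟨y, hy, hyU⟩
    have hsp : p.1.2 ⤳ y := specializes_iff_mem_closure.mpr hy
    exact ⟨hsp.mem_open hU hyU, p.2.1⟩
  · intro x
    rw [hγ x]
    obtain ⟨U, hU, hxU, hfin⟩ := family_bad_finite δ hX ξ₀ hlf CL CN x
    set G : ι × X → ℤ := fun p => m p.1 * Hfun (CL p.1) (CN p.1) δ x p.2 with hG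
    have hGsupp' : ∀ p : ι × X, G p ≠ 0 →
        (p.2 ∈ U ∧ BadR (CL p.1) (CN p.1) δ p.2) ∧ p.2 ∈ T := by
      intro p hp
      have h1 : Hfun (CL p.1) (CN p.1) δ x p.2 ≠ 0 := by
        intro h0
        apply hp
        change m p.1 * Hfun (CL p.1) (CN p.1) δ x p.2 = 0
        rw [h0, mul_zero]
      unfold Hfun at h1
      split_ifs at h1 with hb
      · have := divFun_ne_zero_specializes h1
        refine ⟨⟨this.1.mem_open hU hxU, hb⟩, ?_⟩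
        by_contra hnT
        exact h1 (hT p.1 p.2 hb hnT x)
      · exact absurd rfl h1
    have hGsupp : Function.support G ⊆
        {p : ι × X | p.2 ∈ U ∧ BadR (CL p.1) (CN p.1) δ p.2} := fun p hp => (hGsupp' p hp).1
    have hGfin := hfin.subset hGsupp
    have e1 : ∑ᶠ i, m i * ∑ᶠ ξ, Hfun (CL i) (CN i) δ x ξ = ∑ᶠ p : ι × X, G p := by
      rw [finsum_curry G hGfin]
      refine finsum_congr (fun i => ?_)
      rw [mul_finsum' _ _ (main_abs (CL i) (CN i) δ hX x).2.2.1]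
    rw [e1]
    have h1 : ∀ p : {p : ι × X // BadR (CL p.1) (CN p.1) δ p.2 ∧ p.2 ∈ T},
        Cyc.divFun δ p.1.2 ((Ftot (CL p.1.1) (CN p.1.1) p.1.2) ^ (m p.1.1)) x = G p.1 := by
      intro p
      rw [divFun_zpow δ hX _ _ (Ftot_ne_zero _ _ δ hX _ p.2.1)]
      change _ = m p.1.1 * Hfun (CL p.1.1) (CN p.1.1) δ x p.1.2
      unfold Hfun
      rw [if_pos p.2.1]
    rw [finsum_congr h1]
    symm
    exact finsum_subtype_of_support
      (fun p : ι × X => BadR (CL p.1) (CN p.1) δ p.2 ∧ p.2 ∈ T) G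
      (fun p hp => ⟨(hGsupp' p hp).1.2, (hGsupp' p hp).2⟩)

/-- version of `family_main` producing principal divisors at points of `T`. -/
theorem family_main_on (δ : X → ℤ) (hX : Cyc.IsSetup X δ) (k : ℤ) {ι : Type u}
    (ξ₀ : ι → X) (hξ₀ : ∀ i, δ (ξ₀ i) = k + 2)
    (hlf : ∀ x : X, ∃ U : Set X, IsOpen U ∧ x ∈ U ∧ {i | (closure {ξ₀ i} ∩ U).Nonempty}.Finite)
    (CL CN : ∀ i, CData (ξ₀ i)) (m : ι → ℤ) (dvL dvN : X → X → ℤ)
    (hdvL : ∀ i ξ x, (CL i).dv δ ξ x = dvL ξ x) (hdvN : ∀ i ξ x, (CN i).dv δ ξ x = dvN ξ x)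
    (T : Set X)
    (hT : ∀ i ξ, BadR (CL i) (CN i) δ ξ → ξ ∉ T →
      ∀ x, Cyc.divFun δ ξ (Ftot (CL i) (CN i) ξ) x = 0)
    (γ : X → ℤ)
    (hγ : ∀ x, γ x = ∑ᶠ ξ, (∑ᶠ i, m i * (CL i).coef δ ξ) * dvN ξ x -
      ∑ᶠ ξ, (∑ᶠ i, m i * (CN i).coef δ ξ) * dvL ξ x) :
    ∃ (ι' : Type u) (ξ' : ι' → X) (F : (j : ι') → X.residueField (ξ' j)),
      (∀ j, ξ' j ∈ T) ∧ (∀ j, δ (ξ' j) = k + 1) ∧ (∀ j, F j ≠ 0) ∧
      (∀ x : X, ∃ U : Set X, IsOpen U ∧ x ∈ U ∧ {j | (closure {ξ' j} ∩ U).Nonempty}.Finite) ∧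
      ∀ x, γ x = ∑ᶠ j, Cyc.divFun δ (ξ' j) (F j) x := by
  refine family_on δ hX k ξ₀ hξ₀ hlf CL CN m T hT γ ?_
  intro x
  rw [hγ x, family_half δ hX ξ₀ hlf CL CN m dvN hdvN x,
    family_half δ hX ξ₀ hlf CN CL m dvL hdvL x,
    ← finsum_sub_distrib (family_half_support δ ξ₀ hlf CL CN m x)
      (family_half_support δ ξ₀ hlf CN CL m x)]
  refine finsum_congr (fun i => ?_)
  rw [← mul_sub, (main_abs (CL i) (CN i) δ hX x).2.2.2]

end Part2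

section Part3

open AlgebraicGeometry CategoryTheory TopologicalSpace IsLocalRing CycAlg
  Groth.Agent.Lib.R2H1.LocQuot Groth.Agent.Lib.R2H1.RatEquivOpen
  Groth.Agent.Lib.R2H1.FlatDivSum Groth.Agent.Lib.R2H1.TameLaws
  Groth.Agent.Lib.R2H1.C1Comm Groth.Agent.Lib.R2H1.C1Rel Groth.Agent.Lib.R2H1.RatEquivClosed
  Groth.Agent.Lib.R2H1.SecDiv

variable {X : Scheme.{u}} {L : X.Modules}

theorem gysinChoice_ne_zero (s : L.presheaf.obj (Opposite.op ⊤))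
    (t : (ξ : X) → Cyc.secFibre L ξ) (ht : ∀ ξ, t ξ ≠ 0) (ξ : X) :
    Cyc.gysinChoice L s t ξ ≠ 0 := by
  unfold Cyc.gysinChoice
  split_ifs with h
  · exact h
  · exact ht ξ

theorem gysinChoice_of_ne (s : L.presheaf.obj (Opposite.op ⊤))
    (t : (ξ : X) → Cyc.secFibre L ξ) (ξ : X)
    (h : (Submodule.Quotient.mk ((L.presheaf.germ ⊤ ξ trivial) s) : Cyc.secFibre L ξ) ≠ 0) :
    Cyc.gysinChoice L s t ξ = Submodule.Quotient.mk ((L.presheaf.germ ⊤ ξ trivial) s) := by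
  unfold Cyc.gysinChoice
  exact if_pos h

/-- where the global section does not vanish it is a unit multiple of the generator. -/
theorem exists_unit_of_ne (G : Gen L) (s : L.presheaf.obj (Opposite.op ⊤)) (ξ : X) (hξ : ξ ∈ G.W)
    (h : (Submodule.Quotient.mk ((L.presheaf.germ ⊤ ξ trivial) s) : Cyc.secFibre L ξ) ≠ 0) :
    ∃ w : (X.presheaf.stalk ξ)ˣ, (L.presheaf.germ ⊤ ξ trivial) s = (w : X.presheaf.stalk ξ) • G.g ξ hξ := by
  obtain ⟨c, hc⟩ := (G.g_bij ξ hξ).2 ((L.presheaf.germ ⊤ ξ trivial) s)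
  have hc' : c • G.g ξ hξ = (L.presheaf.germ ⊤ ξ trivial) s := hc
  have hu : IsUnit c := by
    by_contra hnu
    apply h
    rw [← hc', Submodule.Quotient.mk_eq_zero]
    exact Submodule.smul_mem_smul ((mem_maximalIdeal c).mpr hnu) trivial
  exact ⟨hu.unit, by rw [IsUnit.unit_spec]; exact hc'.symm⟩

theorem germ_top_specializes (s : L.presheaf.obj (Opposite.op ⊤)) {ξ₀ ξ : X} (h₀ : ξ₀ ⤳ ξ) :
    L.presheaf.stalkSpecializes h₀ ((L.presheaf.germ ⊤ ξ trivial) s) =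
      (L.presheaf.germ ⊤ ξ₀ trivial) s :=
  ConcreteCategory.congr_hom
    (TopCat.Presheaf.germ_stalkSpecializes L.presheaf (U := ⊤) (by trivial : ξ ∈ (⊤ : X.Opens)) h₀) s

/-- the coordinates of the Gysin choice of sections at a point where the section does not
vanish. -/
theorem gysin_unit (gL : X → Gen L) (hgL : ∀ z, z ∈ (gL z).W)
    (s : L.presheaf.obj (Opposite.op ⊤)) (t : (ξ : X) → Cyc.secFibre L ξ) (ht : ∀ ξ, t ξ ≠ 0)
    (ξ₀ ξ : X) (h₀ : ξ₀ ⤳ ξ)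
    (h : (Submodule.Quotient.mk ((L.presheaf.germ ⊤ ξ trivial) s) : Cyc.secFibre L ξ) ≠ 0) :
    ∃ w : (X.presheaf.stalk ξ)ˣ,
      (ofMod gL hgL ξ₀ (Cyc.gysinChoice L s t ξ₀) (gysinChoice_ne_zero s t ht ξ₀)
        (Cyc.gysinChoice L s t) (gysinChoice_ne_zero s t ht)).lamAt ξ h₀ =
          Cyc.specMap ξ ξ₀ h₀ (w : _) ∧
      (ofMod gL hgL ξ₀ (Cyc.gysinChoice L s t ξ₀) (gysinChoice_ne_zero s t ht ξ₀)
        (Cyc.gysinChoice L s t) (gysinChoice_ne_zero s t ht)).ub ξ = X.residue ξ (w : _) := by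
  obtain ⟨w, hw⟩ := exists_unit_of_ne (gL ξ) s ξ (hgL ξ) h
  have hξ₀W : ξ₀ ∈ (gL ξ).W := h₀.mem_open (gL ξ).W.isOpen (hgL ξ)
  have e0 : (L.presheaf.germ ⊤ ξ₀ trivial) s =
      (X.presheaf.stalkSpecializes h₀ (w : X.presheaf.stalk ξ)) • (gL ξ).g ξ₀ hξ₀W := by
    rw [← germ_top_specializes s h₀, hw, stalkSpecializes_smul, (gL ξ).g_specializes h₀ (hgL ξ)]
  have hu₀ : IsUnit (X.presheaf.stalkSpecializes h₀ (w : X.presheaf.stalk ξ)) :=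
    w.isUnit.map (X.presheaf.stalkSpecializes h₀).hom
  have hne₀ : (Submodule.Quotient.mk ((L.presheaf.germ ⊤ ξ₀ trivial) s) : Cyc.secFibre L ξ₀) ≠ 0 := by
    intro h0
    rw [e0, Submodule.Quotient.mk_smul] at h0
    have h1 := residue_eq_zero_of_smul_mk_eq_zero L ξ₀ ((gL ξ).g ξ₀ hξ₀W)
      ((gL ξ).g_bij ξ₀ hξ₀W) _ h0
    exact (IsLocalRing.residue_ne_zero_iff_isUnit _).mpr hu₀ h1
  refine ⟨w, ?_, ?_⟩
  · change (gL ξ).fib ξ₀ hξ₀W (Cyc.gysinChoice L s t ξ₀) = _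
    rw [gysinChoice_of_ne s t ξ₀ hne₀, e0, Submodule.Quotient.mk_smul, Gen.fib_smul]
    rfl
  · change (gL ξ).fib ξ (hgL ξ) (Cyc.gysinChoice L s t ξ) = _
    rw [gysinChoice_of_ne s t ξ h, hw, Submodule.Quotient.mk_smul, Gen.fib_smul]

end Part3

section Part4

open AlgebraicGeometry CategoryTheory TopologicalSpace IsLocalRing CycAlg
  Groth.Agent.Lib.R2H1.LocQuot Groth.Agent.Lib.R2H1.RatEquivOpen
  Groth.Agent.Lib.R2H1.FlatDivSum Groth.Agent.Lib.R2H1.TameLaws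
  Groth.Agent.Lib.R2H1.C1Comm Groth.Agent.Lib.R2H1.C1Rel Groth.Agent.Lib.R2H1.RatEquivClosed
  Groth.Agent.Lib.R2H1.SecDiv

/-- S1929: the Gysin map of the zero scheme of a section kills cycles rationally equivalent to
zero. -/
theorem main1929 (X D : Scheme.{u}) (δ : X → ℤ) (hX : Cyc.IsSetup X δ) (L : X.Modules)
    (hL : PicF.IsInvertible L) (s : L.presheaf.obj (Opposite.op ⊤)) (i : D ⟶ X)
    [IsClosedImmersion i] (hD : Cyc.IsZeroSchemeOf i L s) (k : ℤ) (α : AlgebraicCycle X ℤ)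
    (h0 : Cyc.RatEquivZero δ (k + 1) α) (t : (ξ : X) → Cyc.secFibre L ξ) (ht : ∀ ξ, t ξ ≠ 0)
    (γ : AlgebraicCycle D ℤ)
    (hγ : ∀ d : D, γ d = Cyc.c1CapFun δ L ⇑α (Cyc.gysinChoice L s t) (i d)) :
    Cyc.RatEquivZero (fun d => δ (i d)) k γ := by
  classical
  choose gL hgL using exists_gen L hL
  obtain ⟨ι, ξ₀, f, hξ₀, hf, hlf, hα'⟩ := h0
  have hgc := gysinChoice_ne_zero s t ht
  obtain ⟨ι', ξ', F, hξ'T, hξ'δ, hF, hlf', hsum⟩ :=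
    family_main_on δ hX k ξ₀ (fun j => by rw [hξ₀ j]; ring) hlf
      (fun j => ofFun (ξ₀ j) (f j) (hf j))
      (fun j => ofMod gL hgL (ξ₀ j) (Cyc.gysinChoice L s t (ξ₀ j)) (hgc _)
        (Cyc.gysinChoice L s t) hgc)
      (fun _ => 1) (fun _ _ => 0) (fun ξ x => Cyc.secDivFun δ L ξ (Cyc.gysinChoice L s t ξ) x)
      (fun j ξ x => ofFun_dv (ξ₀ j) (f j) (hf j) δ ξ x)
      (fun j ξ x => ofMod_dv gL hgL (ξ₀ j) (Cyc.gysinChoice L s t (ξ₀ j)) (hgc _)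
        (Cyc.gysinChoice L s t) hgc δ hX ξ x)
      (Set.range i)
      (by
        rintro j ξ ⟨h₀, hξ, -⟩ hnot x
        have hne : (Submodule.Quotient.mk ((L.presheaf.germ ⊤ ξ trivial) s) :
            Cyc.secFibre L ξ) ≠ 0 := by
          intro h0
          apply hnot
          rw [hD.1]
          exact h0
        obtain ⟨w, hw, hub⟩ := gysin_unit gL hgL s t ht (ξ₀ j) ξ h₀ hne
        exact divFun_Ftot_eq_zero_of_unit _ _ δ hX ξ h₀ hξ w hw hub x)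
      (Cyc.c1CapFun δ L ⇑α (Cyc.gysinChoice L s t))
      (by
        intro x
        unfold Cyc.c1CapFun
        simp only [mul_zero, finsum_zero, sub_zero, one_mul]
        refine finsum_congr (fun ξ => ?_)
        have e : ∀ j, (ofFun (ξ₀ j) (f j) (hf j)).coef δ ξ = Cyc.divFun δ (ξ₀ j) (f j) ξ :=
          fun j => ofFun_coef (ξ₀ j) (f j) (hf j) δ ξ
        rw [hα' ξ, finsum_congr e])
  obtain ⟨ζ, g, hζ, hg, hlfD, hdiv⟩ := exists_restrict_family i δ ξ' F hξ'T hlf'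
  refine ⟨ι', ζ, g, ?_, ?_, hlfD, ?_⟩
  · intro j
    show δ (i (ζ j)) = k + 1
    rw [hζ j]
    exact hξ'δ j
  · intro j
    exact hg j (hF j)
  · intro d
    rw [hγ d, hsum (i d)]
    exact finsum_congr (fun j => (hdiv j d).symm)

end Part4

end Groth.Agent.Lib.R2H1.Gysin
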