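/-
Pullback of invertible modules along a closed immersion and the first Chern class (helper1, round 2): pulled-back generators, transition units, comparison of c_1(L) on X restricted to D with c_1(i^*L) on D.
-/
import Mathlib
import Groth.Prelude.Def_Cyc
import Groth.Prelude.Def_C1
import Groth.Agent.Lib.R2H1C1Rel
import Groth.Agent.Lib.R2H1C1Tensor
import Groth.Agent.Lib.R2H1Gysin
import Groth.Agent.Lib.Helper23SecTw6
import Groth.Agent.Lib.Helper27PullGen
import Groth.Agent.Lib.Helper23PB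

set_option autoImplicit false
set_option linter.style.haveILetI false
set_option linter.unusedSectionVars false
universe u v

namespace Groth.Agent.Lib.R2H1.PullInv

section Part1

open AlgebraicGeometry CategoryTheory TopologicalSpace IsLocalRing CycAlg Opposite
  Groth.Agent.Lib.R2H1.C1Comm Groth.Agent.Lib.R2H1.C1Rel Groth.Agent.Lib.R2H1.C1Tensor
  Groth.Agent.Lib.Helper23.SecTw Groth.Agent.Lib.Helper23.GenLocus Groth.Agent.Lib.Helper6
  Groth.Agent.Helper13PullbackUnit Groth.Agent.Lib.Helper27PullGen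

variable {X Y : Scheme.{u}}

/-- the pullback of a sectionwise generator, as a section over the preimage. -/
noncomputable def pullSec (f : Y ⟶ X) (L : X.Modules) (W : X.Opens) (e : Γ(L, W)) :
    Γ((Scheme.Modules.pullback f).obj L, f ⁻¹ᵁ W) :=
  unitSec f L (le_refl (f ⁻¹ᵁ W)) e

theorem isGen_pullSec (f : Y ⟶ X) (L : X.Modules) [L.IsQuasicoherent] (W : X.Opens) (e : Γ(L, W))
    (he : IsGen L W e) : IsGen ((Scheme.Modules.pullback f).obj L) (f ⁻¹ᵁ W) (pullSec f L W e) :=
  isGen_pullback f L W e he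

/-- the `Gen` of the pullback module attached to a sectionwise generator. -/
noncomputable def pullGen (f : Y ⟶ X) (L : X.Modules) [L.IsQuasicoherent] (W : X.Opens)
    (e : Γ(L, W)) (he : IsGen L W e) : Gen ((Scheme.Modules.pullback f).obj L) :=
  genOfIsGen ((Scheme.Modules.pullback f).obj L) (f ⁻¹ᵁ W) (pullSec f L W e)
    (isGen_pullSec f L W e he)

/-- the transition units of pulled back generators are the images of the transition units under
the stalk maps. -/
theorem cc_pullGen (f : Y ⟶ X) (L : X.Modules) [L.IsQuasicoherent] {W W' : X.Opens}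
    (e : Γ(L, W)) (he : IsGen L W e) (e' : Γ(L, W')) (he' : IsGen L W' e') (y : Y)
    (hy : f y ∈ W) (hy' : f y ∈ W') :
    (pullGen f L W e he).cc (pullGen f L W' e' he') y hy hy' =
      f.stalkMap y ((genOfIsGen L W e he).cc (genOfIsGen L W' e' he') (f y) hy hy') := by
  have hV : W ⊓ W' ≤ W := inf_le_left
  have hV' : W ⊓ W' ≤ W' := inf_le_right
  have hyV : f y ∈ W ⊓ W' := ⟨hy, hy'⟩
  obtain ⟨r, hr⟩ := (he (W ⊓ W') hV).2 (res L hV' e')
  simp only [] at hr
  rw [cc_eq_germ L e he e' he' hV hV' r hr (f y) hyV]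
  have hpV : f ⁻¹ᵁ (W ⊓ W') ≤ f ⁻¹ᵁ W := f.preimage_mono hV
  have hpV' : f ⁻¹ᵁ (W ⊓ W') ≤ f ⁻¹ᵁ W' := f.preimage_mono hV'
  have hr' : (f.app (W ⊓ W') r) •
      res ((Scheme.Modules.pullback f).obj L) hpV (pullSec f L W e) =
      res ((Scheme.Modules.pullback f).obj L) hpV' (pullSec f L W' e') := by
    unfold pullSec
    rw [Groth.Agent.Lib.Helper23.PB.res_unitSec f L (le_refl (f ⁻¹ᵁ W))
        (le_refl (f ⁻¹ᵁ (W ⊓ W'))) hV hpV e,
      Groth.Agent.Lib.Helper23.PB.res_unitSec f L (le_refl (f ⁻¹ᵁ W'))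
        (le_refl (f ⁻¹ᵁ (W ⊓ W'))) hV' hpV' e', ← hr, unitSec_smul, Scheme.Hom.appLE_eq_app]
  have h1 := cc_eq_germ ((Scheme.Modules.pullback f).obj L) (pullSec f L W e)
    (isGen_pullSec f L W e he) (pullSec f L W' e') (isGen_pullSec f L W' e' he') hpV hpV'
    (f.app (W ⊓ W') r) hr' y hyV
  unfold pullGen
  rw [h1]
  exact (Scheme.Hom.germ_stalkMap_apply f (W ⊓ W') y hyV r).symm

end Part1

section Part2

open AlgebraicGeometry CategoryTheory TopologicalSpace IsLocalRing CycAlg Opposite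
  Groth.Agent.Lib.R2H1.C1Comm Groth.Agent.Lib.R2H1.C1Rel Groth.Agent.Lib.R2H1.C1Tensor
  Groth.Agent.Lib.R2H1.RatEquivClosed

theorem isUniversallyCatenary_of_surjective {R R' : Type u} [CommRing R] [CommRing R']
    (φ : R →+* R') (hφ : Function.Surjective φ) (h : CAlg.IsUniversallyCatenary R) :
    CAlg.IsUniversallyCatenary R' := by
  haveI := h.1
  refine ⟨isNoetherianRing_of_surjective R R' φ hφ, ?_⟩
  intro S _ _ hS
  letI : Algebra R R' := φ.toAlgebra
  letI : Algebra R S := ((algebraMap R' S).comp φ).toAlgebra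
  haveI : IsScalarTower R R' S := IsScalarTower.of_algebraMap_eq (fun _ => rfl)
  have h1 : Algebra.FiniteType R R' := Algebra.FiniteType.of_surjective (Algebra.ofId R R') hφ
  exact h.2 S (Algebra.FiniteType.trans h1 hS)

variable {X D : Scheme.{u}}

/-- a closed subscheme of a scheme with a dimension function inherits the setup. -/
theorem isSetup_of_closedImmersion (i : D ⟶ X) [IsClosedImmersion i] {δ : X → ℤ}
    (hX : Cyc.IsSetup X δ) : Cyc.IsSetup D (fun d => δ (i d)) := by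
  haveI : IsLocallyNoetherian X := hX.1
  refine ⟨LocallyOfFiniteType.isLocallyNoetherian i, ?_, ?_⟩
  · intro d
    exact isUniversallyCatenary_of_surjective (i.stalkMap d).hom (i.stalkMap_surjective d)
      (hX.2.1 (i d))
  · intro d d' hsp hne
    have hsp' : i d ⤳ i d' := i.base.hom.map_specializes hsp
    have hne' : i d ≠ i d' := fun h => hne (i.isClosedEmbedding.injective h)
    obtain ⟨h1, h2⟩ := hX.2.2 (i d) (i d') hsp' hne'
    refine ⟨h1, fun himm => h2 ?_⟩
    intro z hz1 hz2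
    have hzr : z ∈ Set.range i := by
      have hcl : closure {i d} ⊆ Set.range i :=
        closure_minimal (Set.singleton_subset_iff.mpr ⟨d, rfl⟩) i.isClosedEmbedding.isClosed_range
      exact hcl (specializes_iff_mem_closure.mp hz1)
    obtain ⟨z', rfl⟩ := hzr
    have e1 : d ⤳ z' := (i.isClosedEmbedding.isInducing.specializes_iff).mp hz1
    have e2 : z' ⤳ d' := (i.isClosedEmbedding.isInducing.specializes_iff).mp hz2
    rcases himm z' e1 e2 with h | h
    · left; rw [h]
    · right; rw [h]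

end Part2

section Part3

open AlgebraicGeometry CategoryTheory TopologicalSpace IsLocalRing CycAlg Opposite
  Groth.Agent.Lib.R2H1.C1Comm Groth.Agent.Lib.R2H1.C1Rel Groth.Agent.Lib.R2H1.C1Tensor
  Groth.Agent.Lib.R2H1.RatEquivClosed Groth.Agent.Lib.R2H1.LocQuot
  Groth.Agent.Lib.Helper23.SecTw

variable {X D : Scheme.{u}}

/-- the comparison function: the ratio of the coordinate of a rational section of `L` on the
closure of `i d'` and of a rational section of `i^*L` on the closure of `d'`. -/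
noncomputable def psi (i : D ⟶ X) (L : X.Modules) [L.IsQuasicoherent] (WL : X → X.Opens)
    (eL : ∀ z, Γ(L, WL z)) (hz : ∀ z, z ∈ WL z) (hgen : ∀ z, IsGen L (WL z) (eL z)) (d' : D)
    (σ : Cyc.secFibre L (i d')) (τ : Cyc.secFibre ((Scheme.Modules.pullback i).obj L) d') :
    D.residueField d' :=
  (i.residueFieldMap d').hom
      ((genOfIsGen L (WL (i d')) (eL (i d')) (hgen (i d'))).fib (i d') (hz (i d')) σ) /
    (pullGen i L (WL (i d')) (eL (i d')) (hgen (i d'))).fib d' (hz (i d')) τ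

theorem psi_ne_zero (i : D ⟶ X) (L : X.Modules) [L.IsQuasicoherent] (WL : X → X.Opens)
    (eL : ∀ z, Γ(L, WL z)) (hz : ∀ z, z ∈ WL z) (hgen : ∀ z, IsGen L (WL z) (eL z)) (d' : D)
    (σ : Cyc.secFibre L (i d')) (τ : Cyc.secFibre ((Scheme.Modules.pullback i).obj L) d')
    (hσ : σ ≠ 0) (hτ : τ ≠ 0) : psi i L WL eL hz hgen d' σ τ ≠ 0 := by
  unfold psi
  refine div_ne_zero ?_ (Gen.fib_ne_zero _ d' _ τ hτ)
  rw [Ne, map_eq_zero_iff _ (RingHom.injective _)]
  exact Gen.fib_ne_zero _ (i d') _ σ hσ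

/-- comparison of the divisor of a rational section of `L` on `X` along points of `D` with the
divisor of a rational section of `i^*L` on `D`. -/
theorem compare_point (i : D ⟶ X) [IsClosedImmersion i] {δ : X → ℤ} (hX : Cyc.IsSetup X δ)
    (L : X.Modules) [L.IsQuasicoherent] (WL : X → X.Opens)
    (eL : ∀ z, Γ(L, WL z)) (hz : ∀ z, z ∈ WL z) (hgen : ∀ z, IsGen L (WL z) (eL z)) (d d' : D)
    (σ : Cyc.secFibre L (i d')) (τ : Cyc.secFibre ((Scheme.Modules.pullback i).obj L) d')
    (hσ : σ ≠ 0) (hτ : τ ≠ 0) :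
    Cyc.secDivFun δ L (i d') σ (i d) =
      Cyc.divFun (fun d => δ (i d)) d' (psi i L WL eL hz hgen d' σ τ) d +
        Cyc.secDivFun (fun d => δ (i d)) ((Scheme.Modules.pullback i).obj L) d' τ d := by
  haveI : IsLocallyNoetherian X := hX.1
  have hD := isSetup_of_closedImmersion i hX
  haveI : IsLocallyNoetherian D := hD.1
  have hδX := hX.2.2
  have hδD := hD.2.2
  unfold Cyc.secDivFun Cyc.divFun
  by_cases hc : d' ⤳ d ∧ δ (i d) + 1 = δ (i d')
  · have hcX : i d' ⤳ i d ∧ δ (i d) + 1 = δ (i d') := ⟨i.base.hom.map_specializes hc.1, hc.2⟩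
    rw [dif_pos hcX, dif_pos hc, dif_pos hc]
    set GX := genOfIsGen L (WL (i d)) (eL (i d)) (hgen (i d)) with hGX
    set GX' := genOfIsGen L (WL (i d')) (eL (i d')) (hgen (i d')) with hGX'
    set GD := pullGen i L (WL (i d)) (eL (i d)) (hgen (i d)) with hGD
    set GD' := pullGen i L (WL (i d')) (eL (i d')) (hgen (i d')) with hGD'
    have hmX : i d' ∈ WL (i d) := hcX.1.mem_open (WL (i d)).isOpen (hz (i d))
    rw [GX.secOrdAt_eq hδX (i d') (i d) hcX.1 hcX.2 (hz (i d)) σ,
      GD.secOrdAt_eq hδD d' d hc.1 hc.2 (hz (i d)) τ,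
      ← ordAt_of_surjectiveOnStalks i d d' hc.1]
    have e1 := GX.fib_change GX' (i d') hmX (hz (i d')) σ
    have e2 := GD.fib_change GD' d' hmX (hz (i d')) τ
    have ecc : GD.cc GD' d' hmX (hz (i d')) = i.stalkMap d' (GX.cc GX' (i d') hmX (hz (i d'))) :=
      cc_pullGen i L (eL (i d)) (hgen (i d)) (eL (i d')) (hgen (i d')) d' hmX (hz (i d'))
    have hres : (i.residueFieldMap d').hom (X.residue (i d') (GX.cc GX' (i d') hmX (hz (i d')))) =
        D.residue d' (GD.cc GD' d' hmX (hz (i d'))) := by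
      rw [ecc]
      exact ConcreteCategory.congr_hom (Scheme.residue_residueFieldMap i d') _
    have hu : D.residue d' (GD.cc GD' d' hmX (hz (i d'))) ≠ 0 :=
      (IsLocalRing.residue_ne_zero_iff_isUnit _).mpr (GD.cc_isUnit GD' d' hmX (hz (i d')))
    have hB : GD'.fib d' (hz (i d')) τ ≠ 0 := GD'.fib_ne_zero d' _ τ hτ
    have hprod : (i.residueFieldMap d').hom (GX.fib (i d') hmX σ) =
        psi i L WL eL hz hgen d' σ τ * GD.fib d' hmX τ := by
      rw [e1, e2, map_mul, hres]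
      change _ = (i.residueFieldMap d').hom (GX'.fib (i d') (hz (i d')) σ) /
        GD'.fib d' (hz (i d')) τ * (GD'.fib d' (hz (i d')) τ * _)
      field_simp
    rw [hprod, ordAt_mul hδD d d' hc.1 hc.2 (psi_ne_zero i L WL eL hz hgen d' σ τ hσ hτ)
      (GD.fib_ne_zero d' hmX τ hτ)]
  · have hcX : ¬ (i d' ⤳ i d ∧ δ (i d) + 1 = δ (i d')) := by
      rintro ⟨h1, h2⟩
      exact hc ⟨(i.isClosedEmbedding.isInducing.specializes_iff).mp h1, h2⟩
    rw [dif_neg hcX, dif_neg hc, dif_neg hc]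
    ring

end Part3

section Part4

open AlgebraicGeometry CategoryTheory TopologicalSpace IsLocalRing CycAlg Opposite
  Groth.Agent.Lib.R2H1.C1Comm Groth.Agent.Lib.R2H1.C1Rel Groth.Agent.Lib.R2H1.C1Tensor
  Groth.Agent.Lib.R2H1.RatEquivClosed Groth.Agent.Lib.R2H1.LocQuot Groth.Agent.Lib.R2H1.Gysin
  Groth.Agent.Lib.Helper23.SecTw

/-- reindexing a `finsum` along an injective map whose range contains the support. -/
theorem finsum_comp_of_injective {α β : Type*} (g : β → α) (hg : Function.Injective g)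
    (F : α → ℤ) (hF : ∀ a, F a ≠ 0 → a ∈ Set.range g) : ∑ᶠ a, F a = ∑ᶠ b, F (g b) := by
  rw [← finsum_mem_range hg, ← finsum_mem_univ F]
  symm
  apply finsum_mem_inter_support_eq'
  intro a ha
  simp only [Set.mem_univ, iff_true]
  exact hF a ha

variable {X D : Scheme.{u}}

/-- `c_1(L) ∩ i_*β` along points of `D` versus `c_1(i^*L) ∩ β` on `D`, for a coefficient function
`β` on `D` with finitely many points of the support specializing to a given point. -/
theorem compare_sum (i : D ⟶ X) [IsClosedImmersion i] {δ : X → ℤ} (hX : Cyc.IsSetup X δ)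
    (L : X.Modules) [L.IsQuasicoherent] (WL : X → X.Opens)
    (eL : ∀ z, Γ(L, WL z)) (hz : ∀ z, z ∈ WL z) (hgen : ∀ z, IsGen L (WL z) (eL z))
    (β : D → ℤ) (d : D) (hβ : {d' : D | β d' ≠ 0 ∧ d' ⤳ d}.Finite)
    (σ : (ξ : X) → Cyc.secFibre L ξ) (hσ : ∀ ξ, σ ξ ≠ 0)
    (τ : (d : D) → Cyc.secFibre ((Scheme.Modules.pullback i).obj L) d) (hτ : ∀ d, τ d ≠ 0) :
    ∑ᶠ d' : D, β d' * Cyc.secDivFun δ L (i d') (σ (i d')) (i d) =
      ∑ᶠ d' : D, β d' * Cyc.divFun (fun d => δ (i d)) d'
        (psi i L WL eL hz hgen d' (σ (i d')) (τ d')) d +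
      ∑ᶠ d' : D, β d' *
        Cyc.secDivFun (fun d => δ (i d)) ((Scheme.Modules.pullback i).obj L) d' (τ d') d := by
  have hfin : ∀ f : D → ℤ, (∀ d', f d' ≠ 0 → d' ⤳ d) →
      (Function.support (fun d' => β d' * f d')).Finite := by
    intro f hf
    refine hβ.subset ?_
    intro ξ hξ
    rw [Function.mem_support] at hξ
    exact ⟨fun h0 => hξ (by rw [h0, zero_mul]), hf ξ (fun h0 => hξ (by rw [h0, mul_zero]))⟩
  have h1 := hfin (fun d' => Cyc.divFun (fun d => δ (i d)) d'
      (psi i L WL eL hz hgen d' (σ (i d')) (τ d')) d)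
    (fun d' h => (divFun_ne_zero_specializes h).1)
  have h2 := hfin (fun d' => Cyc.secDivFun (fun d => δ (i d))
      ((Scheme.Modules.pullback i).obj L) d' (τ d') d)
    (fun d' h => (secDivFun_ne_zero_specializes h).1)
  rw [← finsum_add_distrib h1 h2]
  refine finsum_congr (fun d' => ?_)
  rw [compare_point i hX L WL eL hz hgen d d' (σ (i d')) (τ d') (hσ _) (hτ _), mul_add]

/-- S6465: `i^* i_* α ∼ c_1(i^*L) ∩ α`. -/
theorem main6465 (X D : Scheme.{u}) (δ : X → ℤ) (hX : Cyc.IsSetup X δ) (L : X.Modules)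
    (hL : PicF.IsInvertible L) (s : L.presheaf.obj (Opposite.op ⊤)) (i : D ⟶ X)
    [IsClosedImmersion i] (k : ℤ) (α : AlgebraicCycle D ℤ)
    (hα : α ∈ Cyc.Zk D (fun d => δ (i d)) k) (w : (ξ : X) → Cyc.secFibre L ξ)
    (hw : ∀ ξ, w ξ ≠ 0) (t : (d : D) → Cyc.secFibre ((Scheme.Modules.pullback i).obj L) d)
    (ht : ∀ d, t d ≠ 0) (ζ₁ ζ₂ : AlgebraicCycle D ℤ)
    (h₁ : ∀ d, ζ₁ d = Cyc.c1CapFun δ L ⇑(AlgebraicCycle.map i (fun d => δ (i d)) δ α)
      (Cyc.gysinChoice L s w) (i d))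
    (h₂ : ⇑ζ₂ = Cyc.c1CapFun (fun d => δ (i d)) ((Scheme.Modules.pullback i).obj L) ⇑α t) :
    Cyc.RatEquiv (fun d => δ (i d)) (k - 1) ζ₁ ζ₂ := by
  classical
  haveI : L.IsQuasicoherent := isQuasicoherent_of_isInvertible L hL
  have hD := isSetup_of_closedImmersion i hX
  choose WL eL hz hgen using Groth.Agent.Lib.Helper23.SecTw.exists_gen L hL
  have hgc := gysinChoice_ne_zero s w hw
  have hα' : α ∈ Cyc.Zk D (fun d => δ (i d)) (k - 1 + 1) := by
    rw [sub_add_cancel]
    exact hα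
  unfold Cyc.RatEquiv
  refine ratEquivZero_of_support D (fun d => δ (i d)) hD (k - 1) α hα'
    (fun d' => psi i L WL eL hz hgen d' (Cyc.gysinChoice L s w (i d')) (t d'))
    (fun d' => psi_ne_zero i L WL eL hz hgen d' _ _ (hgc _) (ht _)) (ζ₁ - ζ₂) ?_
  intro d
  have hsub : (ζ₁ - ζ₂) d = ζ₁ d - ζ₂ d := by
    rw [Function.locallyFinsuppWithin.coe_sub]
    rfl
  rw [hsub, h₁ d, h₂]
  unfold Cyc.c1CapFun
  have e1 : ∑ᶠ ξ : X, (AlgebraicCycle.map i (fun d => δ (i d)) δ α) ξ *
      Cyc.secDivFun δ L ξ (Cyc.gysinChoice L s w ξ) (i d) =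
      ∑ᶠ d' : D, α d' * Cyc.secDivFun δ L (i d') (Cyc.gysinChoice L s w (i d')) (i d) := by
    rw [finsum_comp_of_injective i i.isClosedEmbedding.injective]
    · refine finsum_congr (fun d' => ?_)
      rw [map_apply_of_injective i i.isClosedEmbedding.injective δ α d']
    · intro ξ hξ
      by_contra hnot
      apply hξ
      rw [map_apply_of_notMem_range i _ _ α ξ hnot, zero_mul]
  rw [e1, compare_sum i hX L WL eL hz hgen (⇑α) d (finite_support_specializes α d)
    (Cyc.gysinChoice L s w) hgc t ht]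
  ring

end Part4

end Groth.Agent.Lib.R2H1.PullInv
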