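import Mathlib
import Groth.Prelude.Def_Cyc

/-!
# Flat pullback of cycles with a shift at fibre-generic points (helper3, round 2)

* `exists_fibGen`: every point has a generalization in its fibre that is maximal under
  generalization inside the fibre.
* `delta_le`: if `δ' = δ ∘ p + c` at fibre-generic points then `δ' ≤ δ ∘ p + c` everywhere, with
  equality exactly at fibre-generic points.
* `shift_comp`: the shift condition composes along flat maps.
* `length_comp`, `mult_comp`: multiplicativity of the fibre multiplicities.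
* `pullFun_comp`: `(p' ≫ p)^* = p'^* ∘ p^*` on coefficient functions.
-/

set_option autoImplicit false
set_option linter.style.haveILetI false
set_option linter.unusedVariables false
universe u

open CategoryTheory AlgebraicGeometry IsLocalRing

namespace Groth.Agent.Lib.R2H3.CycFlat

/-- every point of a scheme has a generalization without proper generalizations. -/
theorem exists_maxPt_specializes (F : Scheme.{u}) (x : F) :
    ∃ ξ : F, (∀ y : F, y ⤳ ξ → y = ξ) ∧ ξ ⤳ x := by
  obtain ⟨ξ, hξ⟩ := QuasiSober.sober (isIrreducible_irreducibleComponent (x := x))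
    isClosed_irreducibleComponent
  refine ⟨ξ, fun y hy => ?_, ?_⟩
  · have h1 : closure {ξ} ⊆ closure {y} := specializes_iff_closure_subset.mp hy
    have h2 : closure {y} = irreducibleComponent x := by
      apply eq_irreducibleComponent isIrreducible_singleton.closure.isPreirreducible
      rw [← hξ.def]
      exact h1
    have h3 : IsGenericPoint y (irreducibleComponent x) := h2
    exact h3.eq hξ
  · rw [specializes_iff_mem_closure, hξ.def]
    exact mem_irreducibleComponent

/-- every point has a generalization inside its fibre which is maximal under generalization inside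
the fibre. -/
theorem exists_fibGen {X' X : Scheme.{u}} (p : X' ⟶ X) (x' : X') :
    ∃ y' : X', p y' = p x' ∧ y' ⤳ x' ∧ ∀ z, p z = p y' → z ⤳ y' → z = y' := by
  obtain ⟨ξ, hmax, hξ⟩ := exists_maxPt_specializes (p.fiber (p x')) (p.asFiber x')
  have hι : ∀ ζ : p.fiber (p x'), p (p.fiberι (p x') ζ) = p x' := by
    intro ζ
    have h1 : p.fiberι (p x') ζ ∈ Set.range (p.fiberι (p x')) := ⟨ζ, rfl⟩
    rw [Scheme.Hom.range_fiberι] at h1
    exact h1
  refine ⟨p.fiberι (p x') ξ, hι ξ, ?_, ?_⟩
  · have h1 := hξ.map (p.fiberι (p x')).continuous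
    rwa [Scheme.Hom.fiberι_asFiber] at h1
  · intro z hz hzs
    rw [hι ξ] at hz
    have hz' : z ∈ Set.range (p.fiberι (p x')) := by
      rw [Scheme.Hom.range_fiberι]; exact hz
    obtain ⟨ζ, rfl⟩ := hz'
    have h1 : ζ ⤳ ξ := (p.fiberι (p x')).isEmbedding.isInducing.specializes_iff.mp hzs
    rw [hmax ζ h1]

/-- with a shift `c` at fibre-generic points, `δ' ≤ δ ∘ p + c`, with equality only at fibre-generic
points. -/
theorem delta_le {X' X : Scheme.{u}} (p : X' ⟶ X) (δ : X → ℤ) (δ' : X' → ℤ)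
    (hδ' : Cyc.IsDimFun X' δ') (c : ℤ)
    (hc : ∀ x' : X', (∀ y, p y = p x' → y ⤳ x' → y = x') → δ' x' = δ (p x') + c) (x' : X') :
    δ' x' ≤ δ (p x') + c ∧
      (δ' x' = δ (p x') + c → ∀ y, p y = p x' → y ⤳ x' → y = x') := by
  obtain ⟨y', hy1, hy2, hy3⟩ := exists_fibGen p x'
  have h1 := hc y' hy3
  rw [hy1] at h1
  by_cases hyx : y' = x'
  · subst hyx
    exact ⟨h1.le, fun _ => hy3⟩
  · have h2 := (hδ' y' x' hy2 hyx).1
    exact ⟨by omega, fun h => by omega⟩

/-- the shift condition composes along flat maps. -/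
theorem shift_comp {X X' X'' : Scheme.{u}} (p : X' ⟶ X) (p' : X'' ⟶ X') [Flat p']
    (δ : X → ℤ) (δ' : X' → ℤ) (δ'' : X'' → ℤ) (c c' : ℤ)
    (hc : ∀ x' : X', (∀ y, p y = p x' → y ⤳ x' → y = x') → δ' x' = δ (p x') + c)
    (hc' : ∀ x'' : X'', (∀ y, p' y = p' x'' → y ⤳ x'' → y = x'') → δ'' x'' = δ' (p' x'') + c')
    (x'' : X'') (hgen : ∀ y, (p' ≫ p) y = (p' ≫ p) x'' → y ⤳ x'' → y = x'') :
    δ'' x'' = δ ((p' ≫ p) x'') + (c + c') := by
  have g1 : ∀ y, p' y = p' x'' → y ⤳ x'' → y = x'' := fun y hy hys =>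
    hgen y (by show p (p' y) = p (p' x''); rw [hy]) hys
  have g2 : ∀ y', p y' = p (p' x'') → y' ⤳ p' x'' → y' = p' x'' := by
    intro y' hy' hys
    obtain ⟨y'', hy''s, hy''⟩ := Flat.generalizingMap p' hys
    have h1 := hgen y'' (by show p (p' y'') = p (p' x''); rw [hy'', hy']) hy''s
    rw [← hy'', h1]
  have e1 := hc' x'' g1
  have e2 := hc (p' x'') g2
  show δ'' x'' = δ (p (p' x'')) + (c + c')
  omega

/-- multiplicativity of the length of the closed fibre along a flat local homomorphism. -/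
theorem length_comp {A B C : Type u} [CommRing A] [CommRing B] [CommRing C]
    [IsLocalRing A] [IsLocalRing B] [IsLocalRing C]
    (φ : A →+* B) (ψ : B →+* C) [IsLocalHom ψ] (hψ : ψ.Flat) :
    Module.length C (C ⧸ Ideal.map (ψ.comp φ) (maximalIdeal A)) =
      Module.length B (B ⧸ Ideal.map φ (maximalIdeal A)) *
        Module.length C (C ⧸ Ideal.map ψ (maximalIdeal B)) := by
  algebraize [ψ]
  haveI : IsLocalHom (algebraMap B C) := ‹IsLocalHom ψ›
  have h := IsLocalRing.length_baseChange B C (B ⧸ Ideal.map φ (maximalIdeal A))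
  have e := (Algebra.TensorProduct.quotIdealMapEquivTensorQuot C
    (Ideal.map φ (maximalIdeal A))).toLinearEquiv.length_eq
  rw [← e, Ideal.map_map] at h
  exact h

/-- multiplicativity of the fibre multiplicities in `Cyc.pullFun`. -/
theorem mult_comp {X X' X'' : Scheme.{u}} (p : X' ⟶ X) (p' : X'' ⟶ X') [Flat p'] (x'' : X'') :
    (Module.length (X''.presheaf.stalk x'')
      (X''.presheaf.stalk x'' ⧸ Ideal.map ((p' ≫ p).stalkMap x'').hom
        (maximalIdeal (X.presheaf.stalk ((p' ≫ p) x''))))).toNat =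
    (Module.length (X'.presheaf.stalk (p' x''))
      (X'.presheaf.stalk (p' x'') ⧸ Ideal.map (p.stalkMap (p' x'')).hom
        (maximalIdeal (X.presheaf.stalk (p (p' x'')))))).toNat *
    (Module.length (X''.presheaf.stalk x'')
      (X''.presheaf.stalk x'' ⧸ Ideal.map (p'.stalkMap x'').hom
        (maximalIdeal (X'.presheaf.stalk (p' x''))))).toNat := by
  rw [← ENat.toNat_mul, ← length_comp (p.stalkMap (p' x'')).hom (p'.stalkMap x'').hom
    (Flat.stalkMap p' x'')]
  have h : ((p' ≫ p).stalkMap x'').hom = (p'.stalkMap x'').hom.comp (p.stalkMap (p' x'')).hom := by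
    rw [Scheme.Hom.stalkMap_comp]
    rfl
  rw [h]
  rfl

/-- **composition of flat pullbacks on coefficient functions**. -/
theorem pullFun_comp {X X' X'' : Scheme.{u}} (p : X' ⟶ X) (p' : X'' ⟶ X') [Flat p']
    (δ : X → ℤ) (δ' : X' → ℤ) (δ'' : X'' → ℤ) (hδ' : Cyc.IsDimFun X' δ')
    (hδ'' : Cyc.IsDimFun X'' δ'') (c c' : ℤ)
    (hc : ∀ x' : X', (∀ y, p y = p x' → y ⤳ x' → y = x') → δ' x' = δ (p x') + c)
    (hc' : ∀ x'' : X'', (∀ y, p' y = p' x'' → y ⤳ x'' → y = x'') → δ'' x'' = δ' (p' x'') + c')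
    (α : X → ℤ) :
    Cyc.pullFun (p' ≫ p) δ'' δ (c + c') α = Cyc.pullFun p' δ'' δ' c' (Cyc.pullFun p δ' δ c α) := by
  funext x''
  have h1 := (delta_le p' δ' δ'' hδ'' c' hc' x'').1
  have h2 := (delta_le p δ δ' hδ' c hc (p' x'')).1
  have hm := mult_comp p p' x''
  have hpt : (p' ≫ p) x'' = p (p' x'') := rfl
  simp only [Cyc.pullFun]
  by_cases hq : δ'' x'' = δ ((p' ≫ p) x'') + (c + c')
  · have e1 : δ'' x'' = δ' (p' x'') + c' := by rw [hpt] at hq; omega
    have e2 : δ' (p' x'') = δ (p (p' x'')) + c := by rw [hpt] at hq; omega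
    rw [if_pos hq, if_pos e1, if_pos e2, hm, Nat.cast_mul, mul_assoc]
    rfl
  · rw [if_neg hq]
    by_cases e1 : δ'' x'' = δ' (p' x'') + c'
    · rw [if_pos e1]
      have e2 : ¬ δ' (p' x'') = δ (p (p' x'')) + c := by
        intro e2; apply hq; rw [hpt]; omega
      rw [if_neg e2, zero_mul]
    · rw [if_neg e1]

end Groth.Agent.Lib.R2H3.CycFlat
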