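import Mathlib
import Groth.Agent.Lib.R2H3CycFlat
import Groth.Agent.Lib.Helper4DimFormulaT
import Groth.Agent.Lib.Helper3RelDim
import Groth.Agent.Lib.Helper3CompDim

/-!
# Relative dimension and the shift condition (helper3, round 2)

* `shift_of_hasRelDim`: for `g` locally of finite type of relative dimension `r` with the induced
  dimension function upstairs, `δA a = δB (g a) + r` at fibre-generic points.
* `hasRelDim_comp`: relative dimensions add along a flat map.
-/

set_option autoImplicit false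
set_option linter.style.haveILetI false
set_option linter.unusedVariables false
universe u

open CategoryTheory AlgebraicGeometry

namespace Groth.Agent.Lib.R2H3.CycFlatRel

/-- the shift for maps locally of finite type of relative dimension `r` (cf. S1861). -/
theorem shift_of_hasRelDim {A B : Scheme.{u}} (g : A ⟶ B) [LocallyOfFiniteType g] (r : ℕ)
    (δA : A → ℤ) (δB : B → ℤ) (hrg : Cyc.HasRelDim g r) (hg : Cyc.DeltaCompat g δA δB) (a : A)
    (ha : ∀ z, g z = g a → z ⤳ a → z = a) : δA a = δB (g a) + (r : ℤ) := by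
  obtain ⟨Z, hZ, hdimZ⟩ :=
    Groth.Agent.Lib.Helper4.DimFormula.exists_mem_irreducibleComponents_of_maximal g (g.base a) a
      rfl ha
  have h1 := hrg (g.base a) Z hZ
  rw [hdimZ] at h1
  have h2 : Groth.Agent.Lib.Helper4.DimFormula.ptTrdeg g a = r := by exact_mod_cast h1
  obtain ⟨n, hn, hδn⟩ := hg a
  have h3 := Groth.Agent.Lib.Helper4.DimFormula.trdeg_eq_ptTrdeg g a
  have h4 : n = Groth.Agent.Lib.Helper4.DimFormula.ptTrdeg g a := by
    have h5 : ((n : ℕ) : Cardinal.{u}) =
        (Groth.Agent.Lib.Helper4.DimFormula.ptTrdeg g a : Cardinal.{u}) := hn.symm.trans h3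
    exact_mod_cast h5
  rw [hδn, h4, h2]

/-- relative dimensions add along a flat map. -/
theorem hasRelDim_comp {X Y Z : Scheme.{u}} (f : X ⟶ Y) (g : Y ⟶ Z) [Flat f]
    [LocallyOfFiniteType f] [LocallyOfFiniteType g] (r s : ℕ) (hr : Cyc.HasRelDim f r)
    (hs : Cyc.HasRelDim g s) : Cyc.HasRelDim (f ≫ g) (r + s) := by
  rw [Groth.Agent.Lib.Helper3.RelDim.hasRelDim_iff_forall_fibreDimAt_eq] at hr hs ⊢
  intro x
  rw [(Groth.Agent.Lib.Helper3.CompDim.fibreDimAt_comp f g x).2 (Flat.stalkMap f x), hr x,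
    hs (f x)]
  push_cast
  rfl

end Groth.Agent.Lib.R2H3.CycFlatRel
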