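/-
Flat pullback of cycles (with a shift at fibre-generic points) preserves rational equivalence (helper1, round 2; S1940, S1856). Contains: dqEquiv, length_quot_sup_span, isLocalization_quot, ptOf (points of V(I) in Spec O_{X,x}), ringKrullDim_quot_le_one, relTerm, length_rel_eq_finsum (length of O_x/(I+b) as a sum over codimension-one generizations in V(I)), relTerm_support_finite, length_quot_map, length_quot_map_sup_span, nonZeroDivisor_map (flat local algebra), comap_ker_specMap, map_le_ker_iff, map_map_eq, ordAt_eq_zero_of_same_fibre, mult, pullFun_eq, Mterm, case_A, pointwise (flat pullback of a principal divisor div_eta(g), pointwise, for arbitrary eta), finite_maximal_points, fibGen_finite, main1940, main1856.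
-/
import Mathlib
import Groth.Prelude.Def_Cyc
import Groth.Agent.Lib.R2H1PowLen
import Groth.Agent.Lib.R2H3RamLoc
import Groth.Agent.Lib.R2H1LocQuot
import Groth.Agent.Lib.Helper4DimFormulaX
import Groth.Agent.Lib.R2H1C1Rel
import Groth.Agent.Lib.R2H1FlatDivSum
import Groth.Agent.Lib.R2H3CycFlat
import Groth.Agent.Lib.R2H3CycFlatRel

set_option autoImplicit false
set_option linter.style.haveILetI false
set_option linter.unusedSectionVars false
universe u v

namespace Groth.Agent.Lib.R2H1.FlatPullRat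

section Part1

open IsLocalRing

variable {R : Type u} [CommRing R]

/-- the composite `R → R/I → (R/I)/q`. -/
def dqMap (I : Ideal R) (q : Ideal (R ⧸ I)) : R →+* ((R ⧸ I) ⧸ q) :=
  (Ideal.Quotient.mk q).comp (Ideal.Quotient.mk I)

theorem dqMap_surjective (I : Ideal R) (q : Ideal (R ⧸ I)) : Function.Surjective (dqMap I q) :=
  Ideal.Quotient.mk_surjective.comp Ideal.Quotient.mk_surjective

theorem ker_dqMap (I : Ideal R) (q : Ideal (R ⧸ I)) :
    RingHom.ker (dqMap I q) = q.comap (Ideal.Quotient.mk I) := by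
  ext r
  unfold dqMap
  rw [Ideal.mem_comap, RingHom.mem_ker, RingHom.comp_apply, Ideal.Quotient.eq_zero_iff_mem]

/-- `(R/I)/q ≃ R/J` when `J` is the preimage of `q`. -/
noncomputable def dqEquiv (I : Ideal R) (q : Ideal (R ⧸ I)) (J : Ideal R)
    (hJ : q.comap (Ideal.Quotient.mk I) = J) : ((R ⧸ I) ⧸ q) ≃+* R ⧸ J :=
  ((Ideal.quotEquivOfEq (hJ.symm.trans (ker_dqMap I q).symm)).trans
    (RingHom.quotientKerEquivOfSurjective (dqMap_surjective I q))).symm

theorem dqEquiv_mk (I : Ideal R) (q : Ideal (R ⧸ I)) (J : Ideal R)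
    (hJ : q.comap (Ideal.Quotient.mk I) = J) (r : R) :
    dqEquiv I q J hJ (Ideal.Quotient.mk q (Ideal.Quotient.mk I r)) = Ideal.Quotient.mk J r := by
  unfold dqEquiv
  rw [RingEquiv.symm_apply_eq, RingEquiv.trans_apply, Ideal.quotEquivOfEq_mk,
    RingHom.quotientKerEquivOfSurjective_apply_mk]
  unfold dqMap
  rw [RingHom.comp_apply]

/-- `Ring.ord` is invariant under ring isomorphisms. -/
theorem ord_ringEquiv {R' : Type u} [CommRing R'] (e : R ≃+* R') (r : R) :
    Ring.ord R r = Ring.ord R' (e r) := by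
  unfold Ring.ord
  rw [Groth.Agent.Lib.R2H3.RamLoc.length_quotient_ringEquiv e (Ideal.span {r}), Ideal.map_span,
    Set.image_singleton]
  rfl

/-- `length_R (R/(I + b)) = length_{R/I} ((R/I)/b̄)`. -/
theorem length_quot_sup_span (I : Ideal R) (b : R) :
    Module.length R (R ⧸ (I ⊔ Ideal.span {b})) =
      Module.length (R ⧸ I) ((R ⧸ I) ⧸ Ideal.span {Ideal.Quotient.mk I b}) := by
  have hmap : (Ideal.span {b}).map (Ideal.Quotient.mk I) = Ideal.span {Ideal.Quotient.mk I b} := by
    rw [Ideal.map_span, Set.image_singleton]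
  rw [← hmap, ← Module.length_eq_of_surjective (S := R) (R := R ⧸ I)
    (M := (R ⧸ I) ⧸ (Ideal.span {b}).map (Ideal.Quotient.mk I)) Ideal.Quotient.mk_surjective]
  exact (DoubleQuot.quotQuotEquivQuotSupₐ R I (Ideal.span {b})).symm.toLinearEquiv.length_eq

end Part1

section Part2

open IsLocalRing

variable {R : Type u} [CommRing R] {S : Type u} [CommRing S] [Algebra R S]

/-- localization commutes with quotients: `S/IS` is the localization of `R/I` at `q̄`. -/
theorem isLocalization_quot (I : Ideal R) (q' : Ideal (R ⧸ I)) [q'.IsPrime] (q : Ideal R)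
    [q.IsPrime] (hq : q'.comap (Ideal.Quotient.mk I) = q) [IsLocalization.AtPrime S q] :
    IsLocalization.AtPrime (S ⧸ I.map (algebraMap R S)) q' := by
  have h1 : IsLocalization (Algebra.algebraMapSubmonoid (R ⧸ I) q.primeCompl)
      (S ⧸ I.map (algebraMap R S)) := inferInstance
  have h2 : Algebra.algebraMapSubmonoid (R ⧸ I) q.primeCompl = q'.primeCompl := by
    ext y
    obtain ⟨r, rfl⟩ := Ideal.Quotient.mk_surjective y
    constructor
    · rintro ⟨r', hr', e⟩
      intro hy
      apply hr'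
      have e' : Ideal.Quotient.mk I r' = Ideal.Quotient.mk I r := e
      have h3 : r' ∈ q'.comap (Ideal.Quotient.mk I) := by
        rw [Ideal.mem_comap, e']
        exact hy
      rw [hq] at h3
      exact h3
    · intro hy
      refine ⟨r, ?_, rfl⟩
      intro hr
      apply hy
      have h3 : r ∈ q'.comap (Ideal.Quotient.mk I) := by
        rw [hq]
        exact hr
      exact Ideal.mem_comap.mp h3
  rw [h2] at h1
  exact h1

end Part2

section Part3

open AlgebraicGeometry CategoryTheory TopologicalSpace IsLocalRing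
  Groth.Agent.Lib.R2H1.LocQuot Groth.Agent.Lib.Helper4.DimFormula

variable {X : Scheme.{u}}

/-- the point of `X` attached to a prime of `O_{X,x}/I`. -/
noncomputable def ptOf (x : X) (I : Ideal (X.presheaf.stalk x))
    (p : PrimeSpectrum (X.presheaf.stalk x ⧸ I)) : X :=
  X.fromSpecStalk x (PrimeSpectrum.comap (Ideal.Quotient.mk I) p)

theorem ptOf_specializes (x : X) (I : Ideal (X.presheaf.stalk x))
    (p : PrimeSpectrum (X.presheaf.stalk x ⧸ I)) : ptOf x I p ⤳ x :=
  fromSpecStalk_specializes x _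

theorem ker_specMap_ptOf (x : X) (I : Ideal (X.presheaf.stalk x))
    (p : PrimeSpectrum (X.presheaf.stalk x ⧸ I)) :
    p.asIdeal.comap (Ideal.Quotient.mk I) =
      RingHom.ker (Cyc.specMap x (ptOf x I p) (ptOf_specializes x I p)) := by
  haveI := p.2
  exact (ker_specMap_fromSpecStalk x (p.asIdeal.comap (Ideal.Quotient.mk I))
    (ptOf_specializes x I p)).symm

theorem le_ker_specMap_ptOf (x : X) (I : Ideal (X.presheaf.stalk x))
    (p : PrimeSpectrum (X.presheaf.stalk x ⧸ I)) :
    I ≤ RingHom.ker (Cyc.specMap x (ptOf x I p) (ptOf_specializes x I p)) := by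
  rw [← ker_specMap_ptOf]
  intro r hr
  rw [Ideal.mem_comap, Ideal.Quotient.eq_zero_iff_mem.mpr hr]
  exact zero_mem _

theorem ptOf_injective (x : X) (I : Ideal (X.presheaf.stalk x)) :
    Function.Injective (ptOf x I) := by
  intro p p' h
  have h1 := (X.fromSpecStalk x).isEmbedding.injective h
  exact PrimeSpectrum.comap_injective_of_surjective _ Ideal.Quotient.mk_surjective h1

theorem exists_ptOf_eq (x ξ : X) (I : Ideal (X.presheaf.stalk x)) (h : ξ ⤳ x)
    (hle : I ≤ RingHom.ker (Cyc.specMap x ξ h)) : ∃ p, ptOf x I p = ξ := by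
  have hmem : (⟨RingHom.ker (Cyc.specMap x ξ h), inferInstance⟩ :
      PrimeSpectrum (X.presheaf.stalk x)) ∈
      Set.range (PrimeSpectrum.comap (Ideal.Quotient.mk I)) := by
    rw [_root_.range_comap_of_surjective _ _ Ideal.Quotient.mk_surjective,
      PrimeSpectrum.mem_zeroLocus, Ideal.mk_ker]
    exact hle
  obtain ⟨p, hp⟩ := hmem
  refine ⟨p, ?_⟩
  unfold ptOf
  rw [hp]
  exact fromSpecStalk_ker_specMap x ξ h

theorem ptOf_ne_of_ne_maximal (x : X) (I : Ideal (X.presheaf.stalk x)) (hI : I ≠ ⊤)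
    (p : PrimeSpectrum (X.presheaf.stalk x ⧸ I))
    [hloc : IsLocalRing (X.presheaf.stalk x ⧸ I)]
    (hp : p.asIdeal ≠ maximalIdeal (X.presheaf.stalk x ⧸ I)) : ptOf x I p ≠ x := by
  apply fromSpecStalk_ne_of_ne_maximal
  intro h
  apply hp
  have h1 : (maximalIdeal (X.presheaf.stalk x ⧸ I)).comap (Ideal.Quotient.mk I) =
      maximalIdeal (X.presheaf.stalk x) := by
    have hl : IsLocalHom (Ideal.Quotient.mk I) :=
      IsLocalHom.of_surjective _ Ideal.Quotient.mk_surjective
    exact ((IsLocalRing.local_hom_TFAE (Ideal.Quotient.mk I)).out 0 4).mp hl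
  have h2 : p.asIdeal.comap (Ideal.Quotient.mk I) =
      (maximalIdeal (X.presheaf.stalk x ⧸ I)).comap (Ideal.Quotient.mk I) := by
    rw [h1]
    exact h
  exact Ideal.comap_injective_of_surjective _ Ideal.Quotient.mk_surjective h2

end Part3

section Part4

open AlgebraicGeometry CategoryTheory TopologicalSpace IsLocalRing
  Groth.Agent.Lib.R2H1.LocQuot Groth.Agent.Lib.Helper4.DimFormula

variable {X : Scheme.{u}}

/-- dimension of `O_{X,x}/I` when all generizations through `I` have codimension at most one. -/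
theorem ringKrullDim_quot_le_one [IsLocallyNoetherian X] {δ : X → ℤ} (hδ : Cyc.IsDimFun X δ)
    (x : X) (I : Ideal (X.presheaf.stalk x)) (hI : I ≠ ⊤)
    (hdim : ∀ (ξ : X) (h : ξ ⤳ x), I ≤ RingHom.ker (Cyc.specMap x ξ h) → δ ξ ≤ δ x + 1) :
    ringKrullDim (X.presheaf.stalk x ⧸ I) ≤ 1 := by
  haveI : Nontrivial (X.presheaf.stalk x ⧸ I) := Ideal.Quotient.nontrivial_iff.mpr hI
  obtain ⟨p, hp, hpdim⟩ :=
    exists_minimalPrimes_ringKrullDim_quotient_eq (R := X.presheaf.stalk x ⧸ I)
  haveI := hp.1.1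
  set P : PrimeSpectrum (X.presheaf.stalk x ⧸ I) := ⟨p, hp.1.1⟩ with hP
  have h := ptOf_specializes x I P
  obtain ⟨k, hk, hk'⟩ := isDimFun_eq_add_locQuotDim X δ hδ x (ptOf x I P) h
  have hk1 : k ≤ 1 := by
    have := hdim (ptOf x I P) h (le_ker_specMap_ptOf x I P)
    omega
  have e := dqEquiv I p _ (ker_specMap_ptOf x I P)
  rw [← hpdim, ringKrullDim_eq_of_ringEquiv e]
  change ringKrullDim (Cyc.LocQuot x (ptOf x I P) h) ≤ 1
  rw [hk]
  exact_mod_cast hk1

end Part4

section Part5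

open AlgebraicGeometry CategoryTheory TopologicalSpace IsLocalRing
  Groth.Agent.Lib.R2H1.LocQuot Groth.Agent.Lib.Helper4.DimFormula

variable {X : Scheme.{u}}

open Classical in
/-- the local term of the relative length formula. -/
noncomputable def relTerm (δ : X → ℤ) (x : X) (I : Ideal (X.presheaf.stalk x))
    (b : X.presheaf.stalk x) (ξ : X) : ℤ :=
  if h : ξ ⤳ x ∧ δ x + 1 = δ ξ then
    if I ≤ RingHom.ker (Cyc.specMap x ξ h.1) then
      ((Module.length (X.presheaf.stalk ξ)
        (X.presheaf.stalk ξ ⧸ I.map (X.presheaf.stalkSpecializes h.1).hom)).toNat : ℤ) *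
        Cyc.ordAt x ξ h.1 (Cyc.specMap x ξ h.1 b)
    else 0
  else 0

theorem relTerm_pos (δ : X → ℤ) (x : X) (I : Ideal (X.presheaf.stalk x))
    (b : X.presheaf.stalk x) (ξ : X) (h : ξ ⤳ x ∧ δ x + 1 = δ ξ)
    (hle : I ≤ RingHom.ker (Cyc.specMap x ξ h.1)) :
    relTerm δ x I b ξ = ((Module.length (X.presheaf.stalk ξ)
        (X.presheaf.stalk ξ ⧸ I.map (X.presheaf.stalkSpecializes h.1).hom)).toNat : ℤ) *
        Cyc.ordAt x ξ h.1 (Cyc.specMap x ξ h.1 b) := by
  unfold relTerm
  rw [dif_pos h, if_pos hle]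

theorem relTerm_ne_zero (δ : X → ℤ) (x : X) (I : Ideal (X.presheaf.stalk x))
    (b : X.presheaf.stalk x) (ξ : X) (hne : relTerm δ x I b ξ ≠ 0) :
    ∃ h : ξ ⤳ x ∧ δ x + 1 = δ ξ, I ≤ RingHom.ker (Cyc.specMap x ξ h.1) := by
  unfold relTerm at hne
  split_ifs at hne with h1 h2
  · exact ⟨h1, h2⟩
  · exact absurd rfl hne
  · exact absurd rfl hne

/-- the length of `O_{X,x}/(I + b)` as a sum over the generizations of `x` of codimension one
in `V(I)`. -/
theorem length_rel_eq_finsum [IsLocallyNoetherian X] {δ : X → ℤ} (hδ : Cyc.IsDimFun X δ) (x : X)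
    (I : Ideal (X.presheaf.stalk x)) (hI : I ≠ ⊤)
    (hdim : ∀ (ξ : X) (h : ξ ⤳ x), I ≤ RingHom.ker (Cyc.specMap x ξ h) → δ ξ ≤ δ x + 1)
    (b : X.presheaf.stalk x)
    (hb : Ideal.Quotient.mk I b ∈ nonZeroDivisors (X.presheaf.stalk x ⧸ I))
    (hbξ : ∀ (ξ : X) (h : ξ ⤳ x), ξ ≠ x → I ≤ RingHom.ker (Cyc.specMap x ξ h) →
      Cyc.specMap x ξ h b ≠ 0) :
    ((Module.length (X.presheaf.stalk x)
      (X.presheaf.stalk x ⧸ (I ⊔ Ideal.span {b}))).toNat : ℤ) = ∑ᶠ ξ : X, relTerm δ x I b ξ := by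
  classical
  haveI : Nontrivial (X.presheaf.stalk x ⧸ I) := Ideal.Quotient.nontrivial_iff.mpr hI
  haveI hloc : IsLocalRing (X.presheaf.stalk x ⧸ I) :=
    IsLocalRing.of_surjective' (Ideal.Quotient.mk I) Ideal.Quotient.mk_surjective
  have hA := ringKrullDim_quot_le_one hδ x I hI hdim
  set F := (finite_ne_maximal hA).toFinset with hFdef
  have hF : ∀ p : PrimeSpectrum (X.presheaf.stalk x ⧸ I),
      p ∈ F ↔ p.asIdeal ≠ maximalIdeal (X.presheaf.stalk x ⧸ I) := by
    intro p
    rw [hFdef, Set.Finite.mem_toFinset]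
    rfl
  have hreg : IsSMulRegular (X.presheaf.stalk x ⧸ I) (Ideal.Quotient.mk I b) := by
    intro u v huv
    have h1 : Ideal.Quotient.mk I b * (u - v) = 0 := by
      rw [mul_sub, sub_eq_zero]
      exact huv
    rw [mul_comm] at h1
    exact sub_eq_zero.mp ((mem_nonZeroDivisors_iff_right.mp hb) _ h1)
  have hsp := ptOf_specializes x I
  have hker := ker_specMap_ptOf x I
  have hle := le_ker_specMap_ptOf x I
  have ha : ∀ p : PrimeSpectrum (X.presheaf.stalk x ⧸ I),
      p.asIdeal ≠ maximalIdeal (X.presheaf.stalk x ⧸ I) → Ideal.Quotient.mk I b ∉ p.asIdeal := by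
    intro p hp hbp
    have h1 := hbξ _ (hsp p) (ptOf_ne_of_ne_maximal x I hI p hp) (hle p)
    apply h1
    rw [← RingHom.mem_ker, ← hker p]
    exact hbp
  have hd : ∀ p ∈ F, δ x + 1 = δ (ptOf x I p) := by
    intro p hp
    have hne := ptOf_ne_of_ne_maximal x I hI p ((hF p).mp hp)
    have h1 := (hδ _ _ (hsp p) hne).1
    have h2 := hdim _ (hsp p) (hle p)
    omega
  have res := length_quot_smul_eq_sum hA (M := X.presheaf.stalk x ⧸ I) (Ideal.Quotient.mk I b)
    hreg ha F hF
  rw [length_quotient_span_singleton, ← length_quot_sup_span I b] at res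
  rw [res]
  rw [finsum_eq_sum_of_support_subset (s := F.image (ptOf x I))]
  · rw [Finset.sum_image]
    · refine Finset.sum_congr rfl fun p hp => ?_
      have hps : p ∈ Module.support (X.presheaf.stalk x ⧸ I) (X.presheaf.stalk x ⧸ I) := by
        rw [Module.mem_support_iff_of_finite, Module.annihilator_eq_bot.mpr inferInstance]
        exact bot_le
      rw [if_pos hps, relTerm_pos δ x I b _ ⟨hsp p, hd p hp⟩ (hle p)]
      have hbne : Cyc.specMap x (ptOf x I p) (hsp p) b ≠ 0 :=
        hbξ _ (hsp p) (ptOf_ne_of_ne_maximal x I hI p ((hF p).mp hp)) (hle p)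
      rw [ordAt_specMap hδ x _ (hsp p) (hd p hp) b hbne]
      haveI := p.2
      congr 2
      · letI := (X.presheaf.stalkSpecializes (hsp p)).hom.toAlgebra
        haveI := isLocalization_stalkSpecializes x _ (hsp p)
        haveI := isLocalization_quot (S := X.presheaf.stalk (ptOf x I p)) I p.asIdeal
          (RingHom.ker (Cyc.specMap x (ptOf x I p) (hsp p))) (hker p)
        rw [← length_of_isLocalization p.asIdeal
          (X.presheaf.stalk (ptOf x I p) ⧸ I.map (algebraMap (X.presheaf.stalk x)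
            (X.presheaf.stalk (ptOf x I p))))]
        exact congrArg ENat.toNat (Module.length_eq_of_surjective
          (S := X.presheaf.stalk (ptOf x I p)) Ideal.Quotient.mk_surjective).symm
      · have e := ord_ringEquiv (dqEquiv I p.asIdeal _ (hker p))
          (Ideal.Quotient.mk p.asIdeal (Ideal.Quotient.mk I b))
        rw [dqEquiv_mk] at e
        exact congrArg ENat.toNat e
    · intro p _ q _ hpq
      exact ptOf_injective x I hpq
  · intro ξ hξ
    rw [Function.mem_support] at hξ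
    obtain ⟨hc, hcle⟩ := relTerm_ne_zero δ x I b ξ hξ
    obtain ⟨p, hp⟩ := exists_ptOf_eq x ξ I hc.1 hcle
    rw [Finset.mem_coe, Finset.mem_image]
    refine ⟨p, (hF p).mpr ?_, hp⟩
    intro hpm
    have h1 : p = closedPoint (X.presheaf.stalk x ⧸ I) := PrimeSpectrum.ext hpm
    have h2 : ptOf x I p = x := by
      unfold ptOf
      rw [h1]
      have h3 : PrimeSpectrum.comap (Ideal.Quotient.mk I)
          (closedPoint (X.presheaf.stalk x ⧸ I)) = closedPoint (X.presheaf.stalk x) := by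
        haveI : IsLocalHom (Ideal.Quotient.mk I) :=
          IsLocalHom.of_surjective _ Ideal.Quotient.mk_surjective
        exact IsLocalRing.comap_closedPoint (Ideal.Quotient.mk I)
      rw [h3, Scheme.fromSpecStalk_closedPoint]
    rw [hp] at h2
    rw [h2] at hc
    omega

end Part5

section Part6

open IsLocalRing TensorProduct

variable (A B : Type u) [CommRing A] [CommRing B] [IsLocalRing A] [IsLocalRing B] [Algebra A B]
  [Module.Flat A B] [IsLocalHom (algebraMap A B)]

/-- length of `B/JB` along a flat local homomorphism. -/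
theorem length_quot_map (J : Ideal A) :
    Module.length B (B ⧸ J.map (algebraMap A B)) =
      Module.length A (A ⧸ J) *
        Module.length B (B ⧸ (maximalIdeal A).map (algebraMap A B)) := by
  rw [← IsLocalRing.length_baseChange A B (A ⧸ J)]
  exact (Algebra.TensorProduct.quotIdealMapEquivTensorQuot B J).toLinearEquiv.length_eq

/-- length of `B/(PB + cB)`. -/
theorem length_quot_map_sup_span (P : Ideal A) (c : A) :
    Module.length B (B ⧸ (P.map (algebraMap A B) ⊔ Ideal.span {algebraMap A B c})) =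
      Module.length A (A ⧸ (P ⊔ Ideal.span {c})) *
        Module.length B (B ⧸ (maximalIdeal A).map (algebraMap A B)) := by
  rw [← length_quot_map A B (P ⊔ Ideal.span {c}), Ideal.map_sup, Ideal.map_span,
    Set.image_singleton]

/-- a nonzerodivisor on `A/P` stays a nonzerodivisor on `B/PB`. -/
theorem nonZeroDivisor_map (P : Ideal A) (c : A)
    (hc : Ideal.Quotient.mk P c ∈ nonZeroDivisors (A ⧸ P)) :
    Ideal.Quotient.mk (P.map (algebraMap A B)) (algebraMap A B c) ∈
      nonZeroDivisors (B ⧸ P.map (algebraMap A B)) := by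
  have hreg : IsSMulRegular (A ⧸ P) c := by
    intro u v huv
    have h1 : Ideal.Quotient.mk P c * (u - v) = 0 := by
      have h2 : c • u = c • v := huv
      rw [Algebra.smul_def, Algebra.smul_def] at h2
      rw [mul_sub, sub_eq_zero]
      exact h2
    rw [mul_comm] at h1
    exact sub_eq_zero.mp ((mem_nonZeroDivisors_iff_right.mp hc) _ h1)
  have hreg' : IsSMulRegular (B ⊗[A] (A ⧸ P)) c := hreg.lTensor B
  let e := (Algebra.TensorProduct.quotIdealMapEquivTensorQuot B P).toLinearEquiv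
  rw [mem_nonZeroDivisors_iff_right]
  intro z hz
  have h1 : c • z = 0 := by
    rw [← hz, mul_comm]
    rw [← IsScalarTower.algebraMap_smul B c z, Algebra.smul_def]
    rfl
  have h2 : c • e z = c • (0 : B ⊗[A] (A ⧸ P)) := by
    rw [smul_zero, ← IsScalarTower.algebraMap_smul B c (e z), ← map_smul,
      IsScalarTower.algebraMap_smul, h1, map_zero]
  have h3 := hreg' h2
  exact e.map_eq_zero_iff.mp h3

end Part6

section Part7

open AlgebraicGeometry CategoryTheory TopologicalSpace IsLocalRing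
  Groth.Agent.Lib.R2H1.LocQuot Groth.Agent.Lib.Helper4.DimFormula
  Groth.Agent.Lib.R2H1.RatEquivOpen Groth.Agent.Lib.R2H1.RatEquivClosed
  Groth.Agent.Lib.R2H1.FlatDivSum

variable {X X' : Scheme.{u}}

/-- the support of `relTerm` is finite. -/
theorem relTerm_support_finite [IsLocallyNoetherian X] {δ : X → ℤ} (hδ : Cyc.IsDimFun X δ) (x : X)
    (I : Ideal (X.presheaf.stalk x)) (hI : I ≠ ⊤)
    (hdim : ∀ (ξ : X) (h : ξ ⤳ x), I ≤ RingHom.ker (Cyc.specMap x ξ h) → δ ξ ≤ δ x + 1)
    (b : X.presheaf.stalk x) : (Function.support (relTerm δ x I b)).Finite := by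
  haveI : Nontrivial (X.presheaf.stalk x ⧸ I) := Ideal.Quotient.nontrivial_iff.mpr hI
  haveI hloc : IsLocalRing (X.presheaf.stalk x ⧸ I) :=
    IsLocalRing.of_surjective' (Ideal.Quotient.mk I) Ideal.Quotient.mk_surjective
  have hA := ringKrullDim_quot_le_one hδ x I hI hdim
  have hfin := ((finite_ne_maximal hA).union
    (Set.finite_singleton (closedPoint (X.presheaf.stalk x ⧸ I)))).image (ptOf x I)
  refine hfin.subset ?_
  intro ξ hξ
  rw [Function.mem_support] at hξ
  obtain ⟨hc, hcle⟩ := relTerm_ne_zero δ x I b ξ hξ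
  obtain ⟨p, hp⟩ := exists_ptOf_eq x ξ I hc.1 hcle
  refine ⟨p, ?_, hp⟩
  by_cases hpm : p.asIdeal = maximalIdeal (X.presheaf.stalk x ⧸ I)
  · right
    exact PrimeSpectrum.ext hpm
  · left
    exact hpm

/-- the prime of `p ξ'` in `O_{X, p x'}` is the preimage of the prime of `ξ'`. -/
theorem comap_ker_specMap (p : X' ⟶ X) (x' ξ' : X') (h : ξ' ⤳ x') :
    (RingHom.ker (Cyc.specMap x' ξ' h)).comap (p.stalkMap x').hom =
      RingHom.ker (Cyc.specMap (p x') (p ξ') (p.base.hom.map_specializes h)) := by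
  ext a
  rw [Ideal.mem_comap, RingHom.mem_ker, RingHom.mem_ker, specMap_comp_stalkMap p x' ξ' h a]
  exact map_eq_zero_iff _ (RingHom.injective _)

/-- `𝔭_η O_{X',x'} ⊆ 𝔭_ξ'` iff `p ξ'` lies in the closure of `η`. -/
theorem map_le_ker_iff (p : X' ⟶ X) (x' ξ' : X') (h : ξ' ⤳ x') (η : X) (hη : η ⤳ p x') :
    (RingHom.ker (Cyc.specMap (p x') η hη)).map (p.stalkMap x').hom ≤
      RingHom.ker (Cyc.specMap x' ξ' h) ↔ η ⤳ p ξ' := by
  rw [Ideal.map_le_iff_le_comap, comap_ker_specMap p x' ξ' h]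
  exact (Groth.Agent.Lib.R2H1.C1Rel.specializes_iff_ker_le (p x') (p ξ') η
    (p.base.hom.map_specializes h) hη).symm

theorem ker_specMap_congr (y : X) {η η' : X} (e : η = η') (h : η ⤳ y) (h' : η' ⤳ y) :
    RingHom.ker (Cyc.specMap y η h) = RingHom.ker (Cyc.specMap y η' h') := by
  subst e
  rfl

theorem length_quot_congr {B : Type u} [CommRing B] {I J : Ideal B} (e : I = J) :
    Module.length B (B ⧸ I) = Module.length B (B ⧸ J) := by
  subst e
  rfl

/-- the ideal of the fibre at a generization. -/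
theorem map_map_eq (p : X' ⟶ X) (x' ξ' : X') (h : ξ' ⤳ x') (η : X) (e : p ξ' = η)
    (hη : η ⤳ p x') :
    ((RingHom.ker (Cyc.specMap (p x') η hη)).map (p.stalkMap x').hom).map
      (X'.presheaf.stalkSpecializes h).hom =
    (maximalIdeal (X.presheaf.stalk (p ξ'))).map (p.stalkMap ξ').hom := by
  have h₁ : p ξ' ⤳ p x' := p.base.hom.map_specializes h
  rw [ker_specMap_congr (p x') e.symm hη h₁, Ideal.map_map]
  have hcomm : (X'.presheaf.stalkSpecializes h).hom.comp (p.stalkMap x').hom =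
      (p.stalkMap ξ').hom.comp (X.presheaf.stalkSpecializes h₁).hom := by
    have := Scheme.Hom.stalkSpecializes_stalkMap p ξ' x' h
    rw [← CommRingCat.hom_comp, ← CommRingCat.hom_comp]
    exact congrArg CommRingCat.Hom.hom this.symm
  rw [hcomm, ← Ideal.map_map]
  congr 1
  letI := (X.presheaf.stalkSpecializes h₁).hom.toAlgebra
  haveI := isLocalization_stalkSpecializes (p x') (p ξ') h₁
  exact IsLocalization.AtPrime.map_eq_maximalIdeal (RingHom.ker (Cyc.specMap (p x') (p ξ') h₁))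
    (X.presheaf.stalk (p ξ'))

/-- a rational function from downstairs has order zero along specializations inside a fibre. -/
theorem ordAt_eq_zero_of_same_fibre (p : X' ⟶ X) (x' ξ' : X') (h : ξ' ⤳ x') (η : X)
    (e : p ξ' = η) (hfx : p x' = η) (g : X.residueField η) (hg : g ≠ 0) :
    Cyc.ordAt x' ξ' h (p.residueFieldMap ξ' ((X.residueFieldCongr e.symm).hom g)) = 0 := by
  have h₁ : p ξ' ⤳ p x' := p.base.hom.map_specializes h
  have hbij := Groth.Agent.Lib.R2H1.FlatDiv.stalkSpecializes_bijective_of_eq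
    (e.trans hfx.symm) h₁
  obtain ⟨c', hc'⟩ := X.residue_surjective (p ξ') ((X.residueFieldCongr e.symm).hom g)
  obtain ⟨c, rfl⟩ := hbij.2 c'
  have hres : X.residue (p ξ') (X.presheaf.stalkSpecializes h₁ c) ≠ 0 := by
    intro h0
    rw [h0] at hc'
    have inj2 : Function.Injective (X.residueFieldCongr e.symm).hom.hom := RingHom.injective _
    exact hg ((map_eq_zero_iff _ inj2).mp hc'.symm)
  have hcu' : IsUnit (X.presheaf.stalkSpecializes h₁ c) := by
    by_contra hnu
    exact hres ((IsLocalRing.residue_eq_zero_iff _).mpr hnu)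
  have hcu : IsUnit c := by
    have e' := RingEquiv.ofBijective (X.presheaf.stalkSpecializes h₁).hom hbij
    have : IsUnit ((RingEquiv.ofBijective (X.presheaf.stalkSpecializes h₁).hom hbij) c) := hcu'
    exact (isUnit_map_iff (RingEquiv.ofBijective (X.presheaf.stalkSpecializes h₁).hom hbij) c).mp
      this
  have h1 := specMap_comp_stalkMap p x' ξ' h c
  have h2 : Cyc.specMap (p x') (p ξ') h₁ c = (X.residueFieldCongr e.symm).hom g := hc'
  rw [h2] at h1
  rw [← h1]
  exact ordAt_unit x' ξ' h (p.stalkMap x' c) (hcu.map _)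

end Part7

section Part8

open AlgebraicGeometry CategoryTheory TopologicalSpace IsLocalRing
  Groth.Agent.Lib.R2H1.LocQuot Groth.Agent.Lib.Helper4.DimFormula
  Groth.Agent.Lib.R2H1.RatEquivOpen Groth.Agent.Lib.R2H1.RatEquivClosed
  Groth.Agent.Lib.R2H1.FlatDivSum

variable {X X' : Scheme.{u}}

/-- the multiplicity of the fibre of `p` at `ξ'`. -/
noncomputable def mult (p : X' ⟶ X) (ξ' : X') : ℤ :=
  ((Module.length (X'.presheaf.stalk ξ')
    (X'.presheaf.stalk ξ' ⧸ Ideal.map (p.stalkMap ξ').hom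
      (IsLocalRing.maximalIdeal (X.presheaf.stalk (p ξ'))))).toNat : ℤ)

theorem pullFun_eq (p : X' ⟶ X) (δ' : X' → ℤ) (δ : X → ℤ) (c : ℤ) (α : X → ℤ) (x' : X') :
    Cyc.pullFun p δ' δ c α x' = if δ' x' = δ (p x') + c then α (p x') * mult p x' else 0 := rfl

open Classical in
/-- the contribution of the point `ξ'` to the pullback of `div_η(g)` at `x'`. -/
noncomputable def Mterm (p : X' ⟶ X) (δ' : X' → ℤ) (δ : X → ℤ) (c : ℤ) (η : X)
    (g : X.residueField η) (x' ξ' : X') : ℤ :=
  if e : p ξ' = η then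
    if δ' ξ' = δ η + c then
      mult p ξ' *
        Cyc.divFun δ' ξ' (p.residueFieldMap ξ' ((X.residueFieldCongr e.symm).hom g)) x'
    else 0
  else 0

theorem Mterm_pos (p : X' ⟶ X) (δ' : X' → ℤ) (δ : X → ℤ) (c : ℤ) (η : X)
    (g : X.residueField η) (x' ξ' : X') (e : p ξ' = η) (hd : δ' ξ' = δ η + c) :
    Mterm p δ' δ c η g x' ξ' = mult p ξ' *
        Cyc.divFun δ' ξ' (p.residueFieldMap ξ' ((X.residueFieldCongr e.symm).hom g)) x' := by
  unfold Mterm
  rw [dif_pos e, if_pos hd]

theorem Mterm_ne_zero (p : X' ⟶ X) (δ' : X' → ℤ) (δ : X → ℤ) (c : ℤ) (η : X)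
    (g : X.residueField η) (x' ξ' : X') (hne : Mterm p δ' δ c η g x' ξ' ≠ 0) :
    ∃ e : p ξ' = η, δ' ξ' = δ η + c ∧ (ξ' ⤳ x' ∧ δ' x' + 1 = δ' ξ') ∧
      Cyc.divFun δ' ξ' (p.residueFieldMap ξ' ((X.residueFieldCongr e.symm).hom g)) x' ≠ 0 := by
  unfold Mterm at hne
  split_ifs at hne with h1 h2
  · have h3 : Cyc.divFun δ' ξ' (p.residueFieldMap ξ' ((X.residueFieldCongr h1.symm).hom g)) x' ≠ 0 :=
      fun h0 => hne (by rw [h0, mul_zero])
    exact ⟨h1, h2, divFun_ne_zero_specializes h3, h3⟩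
  · exact absurd rfl hne
  · exact absurd rfl hne

/-- the main case: `x'` is generic in its fibre and `p x'` has codimension one in the closure of
`η`. -/
theorem case_A {δ : X → ℤ} {δ' : X' → ℤ} (hX : Cyc.IsSetup X δ) (hX' : Cyc.IsSetup X' δ')
    (p : X' ⟶ X) [Flat p] (c : ℤ)
    (hc : ∀ x' : X', (∀ y, p y = p x' → y ⤳ x' → y = x') → δ' x' = δ (p x') + c)
    (η : X) (g : X.residueField η) (hg : g ≠ 0) (x' : X')
    (hxA : δ' x' = δ (p x') + c) (hη : η ⤳ p x') (hd : δ (p x') + 1 = δ η) :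
    (Function.support (fun ξ' : X' => Mterm p δ' δ c η g x' ξ')).Finite ∧
    Cyc.pullFun p δ' δ c (Cyc.divFun δ η g) x' = ∑ᶠ ξ' : X', Mterm p δ' δ c η g x' ξ' := by
  classical
  haveI : IsLocallyNoetherian X := hX.1
  haveI : IsLocallyNoetherian X' := hX'.1
  have hδ := hX.2.2
  have hδ' := hX'.2.2
  have hle : ∀ z : X', δ' z ≤ δ (p z) + c :=
    fun z => (Groth.Agent.Lib.R2H3.CycFlat.delta_le p δ δ' hδ' c hc z).1
  -- points of the closure of `η` specializing to `p x'`
  have hcl : ∀ z : X, η ⤳ z → δ z ≤ δ η ∧ (δ η ≤ δ z → z = η) := by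
    intro z hz
    by_cases e : η = z
    · rw [← e]
      exact ⟨le_rfl, fun _ => rfl⟩
    · have := (hδ η z hz e).1
      exact ⟨by omega, fun h => by omega⟩
  have hdimξ : ∀ ξ' : X', ξ' ⤳ x' → η ⤳ p ξ' → δ' ξ' ≤ δ' x' + 1 := by
    intro ξ' _ h2
    have h3 := hle ξ'
    have h4 := (hcl (p ξ') h2).1
    omega
  have hfib : ∀ ξ' : X', ξ' ⤳ x' → ξ' ≠ x' → η ⤳ p ξ' → p ξ' = η := by
    intro ξ' h1 hne h2
    have h3 := hle ξ'
    have h4 := hcl (p ξ') h2
    have h5 := (hδ' ξ' x' h1 hne).1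
    exact h4.2 (by omega)
  -- the local rings
  letI : Algebra (X.presheaf.stalk (p x')) (X'.presheaf.stalk x') := (p.stalkMap x').hom.toAlgebra
  haveI : Module.Flat (X.presheaf.stalk (p x')) (X'.presheaf.stalk x') := Flat.stalkMap p x'
  haveI : IsLocalHom (algebraMap (X.presheaf.stalk (p x')) (X'.presheaf.stalk x')) :=
    inferInstanceAs (IsLocalHom (p.stalkMap x').hom)
  set P := RingHom.ker (Cyc.specMap (p x') η hη) with hP
  set I := P.map (p.stalkMap x').hom with hI
  have hIle : ∀ (ξ' : X') (h : ξ' ⤳ x'), I ≤ RingHom.ker (Cyc.specMap x' ξ' h) ↔ η ⤳ p ξ' :=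
    fun ξ' h => map_le_ker_iff p x' ξ' h η hη
  have hItop : I ≠ ⊤ := by
    intro htop
    have h1 := (hIle x' specializes_rfl).mpr hη
    rw [htop, top_le_iff] at h1
    exact (ker_specMap_isPrime x' x' specializes_rfl).ne_top h1
  have hdim : ∀ (ξ' : X') (h : ξ' ⤳ x'), I ≤ RingHom.ker (Cyc.specMap x' ξ' h) →
      δ' ξ' ≤ δ' x' + 1 := fun ξ' h hle' => hdimξ ξ' h ((hIle ξ' h).mp hle')
  -- write `g = a / b`
  obtain ⟨a', b', hb', hab⟩ := IsFractionRing.div_surjective (A := Cyc.LocQuot (p x') η hη) g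
  obtain ⟨a, rfl⟩ := Ideal.Quotient.mk_surjective a'
  obtain ⟨b, rfl⟩ := Ideal.Quotient.mk_surjective b'
  rw [algebraMap_locQuot_mk, algebraMap_locQuot_mk] at hab
  have hsb : Cyc.specMap (p x') η hη b ≠ 0 := by
    intro h0
    rw [h0, div_zero] at hab
    exact hg hab.symm
  have hsa : Cyc.specMap (p x') η hη a ≠ 0 := by
    intro h0
    rw [h0, zero_div] at hab
    exact hg hab.symm
  -- images upstairs
  have hsp : ∀ (t : X.presheaf.stalk (p x')) (ξ' : X') (h : ξ' ⤳ x') (e : p ξ' = η),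
      Cyc.specMap x' ξ' h (p.stalkMap x' t) =
        p.residueFieldMap ξ' ((X.residueFieldCongr e.symm).hom (Cyc.specMap (p x') η hη t)) :=
    fun t ξ' h e => specMap_stalkMap_of_eq p x' ξ' h η e hη t
  have hnz : ∀ (t : X.presheaf.stalk (p x')), Cyc.specMap (p x') η hη t ≠ 0 →
      ∀ (ξ' : X') (h : ξ' ⤳ x'), p ξ' = η → Cyc.specMap x' ξ' h (p.stalkMap x' t) ≠ 0 := by
    intro t ht ξ' h e h0
    rw [hsp t ξ' h e] at h0
    have inj1 : Function.Injective (p.residueFieldMap ξ').hom := RingHom.injective _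
    have inj2 : Function.Injective (X.residueFieldCongr e.symm).hom.hom := RingHom.injective _
    have h1 := (map_eq_zero_iff _ inj1).mp h0
    exact ht ((map_eq_zero_iff _ inj2).mp h1)
  have hbξ : ∀ (t : X.presheaf.stalk (p x')), Cyc.specMap (p x') η hη t ≠ 0 →
      ∀ (ξ' : X') (h : ξ' ⤳ x'), ξ' ≠ x' → I ≤ RingHom.ker (Cyc.specMap x' ξ' h) →
        Cyc.specMap x' ξ' h (p.stalkMap x' t) ≠ 0 := by
    intro t ht ξ' h hne hle'
    exact hnz t ht ξ' h (hfib ξ' h hne ((hIle ξ' h).mp hle'))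
  have hnzd : ∀ t : X.presheaf.stalk (p x'), Cyc.specMap (p x') η hη t ≠ 0 →
      Ideal.Quotient.mk I (p.stalkMap x' t) ∈ nonZeroDivisors (X'.presheaf.stalk x' ⧸ I) := by
    intro t ht
    refine nonZeroDivisor_map (X.presheaf.stalk (p x')) (X'.presheaf.stalk x') P t ?_
    haveI : IsDomain (Cyc.LocQuot (p x') η hη) :=
      (algebraMap_locQuot_injective (p x') η hη).isDomain
    refine mem_nonZeroDivisors_of_ne_zero ?_
    intro h0
    apply ht
    rw [← algebraMap_locQuot_mk, h0, map_zero]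
  have hsum : ∀ t : X.presheaf.stalk (p x'), Cyc.specMap (p x') η hη t ≠ 0 →
      ((Module.length (X'.presheaf.stalk x')
        (X'.presheaf.stalk x' ⧸ (I ⊔ Ideal.span {(p.stalkMap x' t : X'.presheaf.stalk x')}))).toNat
          : ℤ) = ∑ᶠ ξ' : X', relTerm δ' x' I (p.stalkMap x' t) ξ' := fun t ht =>
    length_rel_eq_finsum hδ' x' I hItop hdim (p.stalkMap x' t) (hnzd t ht) (hbξ t ht)
  have hfin : ∀ t : X.presheaf.stalk (p x'),
      (Function.support (relTerm δ' x' I (p.stalkMap x' t))).Finite :=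
    fun t => relTerm_support_finite hδ' x' I hItop hdim _
  -- the terms
  have hterm : ∀ ξ' : X', Mterm p δ' δ c η g x' ξ' =
      relTerm δ' x' I (p.stalkMap x' a) ξ' - relTerm δ' x' I (p.stalkMap x' b) ξ' := by
    intro ξ'
    by_cases hcond : ξ' ⤳ x' ∧ δ' x' + 1 = δ' ξ'
    · by_cases hηξ : η ⤳ p ξ'
      · have hne : ξ' ≠ x' := by
          rintro rfl
          omega
        have e : p ξ' = η := hfib ξ' hcond.1 hne hηξ
        have hIξ := (hIle ξ' hcond.1).mpr hηξ
        rw [Mterm_pos p δ' δ c η g x' ξ' e (by omega), relTerm_pos δ' x' I _ ξ' hcond hIξ,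
          relTerm_pos δ' x' I _ ξ' hcond hIξ]
        have hlen : ((Module.length (X'.presheaf.stalk ξ') (X'.presheaf.stalk ξ' ⧸
            I.map (X'.presheaf.stalkSpecializes hcond.1).hom)).toNat : ℤ) = mult p ξ' := by
          unfold mult
          rw [length_quot_congr (map_map_eq p x' ξ' hcond.1 η e hη)]
        rw [hlen]
        unfold Cyc.divFun
        rw [dif_pos hcond]
        have hgξ : p.residueFieldMap ξ' ((X.residueFieldCongr e.symm).hom g) =
            Cyc.specMap x' ξ' hcond.1 (p.stalkMap x' a) /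
              Cyc.specMap x' ξ' hcond.1 (p.stalkMap x' b) := by
          rw [hsp a ξ' hcond.1 e, hsp b ξ' hcond.1 e, ← hab, map_div₀, map_div₀]
        rw [hgξ, ordAt_div hδ' x' ξ' hcond.1 hcond.2 (hnz a hsa ξ' hcond.1 e)
          (hnz b hsb ξ' hcond.1 e)]
        ring
      · have hIξ : ¬ I ≤ RingHom.ker (Cyc.specMap x' ξ' hcond.1) :=
          fun hle' => hηξ ((hIle ξ' hcond.1).mp hle')
        have h1 : ∀ t, relTerm δ' x' I t ξ' = 0 := by
          intro t
          unfold relTerm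
          rw [dif_pos hcond, if_neg hIξ]
        rw [h1, h1, sub_zero]
        unfold Mterm
        rw [dif_neg]
        intro e
        apply hηξ
        rw [e]
    · have h1 : ∀ t, relTerm δ' x' I t ξ' = 0 := by
        intro t
        unfold relTerm
        rw [dif_neg hcond]
      rw [h1, h1, sub_zero]
      by_contra hne
      obtain ⟨_, _, h2, _⟩ := Mterm_ne_zero p δ' δ c η g x' ξ' hne
      exact hcond h2
  refine ⟨?_, ?_⟩
  · refine ((hfin a).union (hfin b)).subset ?_
    intro ξ' hξ'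
    rw [Function.mem_support, hterm] at hξ'
    by_contra hnot
    rw [Set.mem_union, Function.mem_support, Function.mem_support, not_or, not_not, not_not]
      at hnot
    rw [hnot.1, hnot.2, sub_zero] at hξ'
    exact hξ' rfl
  rw [finsum_congr hterm, finsum_sub_distrib (hfin a) (hfin b), ← hsum a hsa, ← hsum b hsb]
  -- the left-hand side
  rw [pullFun_eq, if_pos hxA]
  have hdiv : Cyc.divFun δ η g (p x') = Cyc.ordAt (p x') η hη g := by
    unfold Cyc.divFun
    exact dif_pos ⟨hη, hd⟩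
  rw [hdiv, ← hab, ordAt_div hδ (p x') η hη hd hsa hsb, ordAt_specMap hδ (p x') η hη hd a hsa,
    ordAt_specMap hδ (p x') η hη hd b hsb]
  have hord : ∀ t : X.presheaf.stalk (p x'),
      ((Ring.ord (Cyc.LocQuot (p x') η hη) (Ideal.Quotient.mk P t)).toNat : ℤ) * mult p x' =
      ((Module.length (X'.presheaf.stalk x')
        (X'.presheaf.stalk x' ⧸ (I ⊔ Ideal.span {(p.stalkMap x' t : X'.presheaf.stalk x')}))).toNat
          : ℤ) := by
    intro t
    have h1 := length_quot_map_sup_span (X.presheaf.stalk (p x')) (X'.presheaf.stalk x') P t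
    have h2 := congrArg ENat.toNat h1
    rw [ENat.toNat_mul, length_quot_sup_span P t] at h2
    have h3 : (Module.length (X'.presheaf.stalk x') (X'.presheaf.stalk x' ⧸
        (Ideal.map (algebraMap (X.presheaf.stalk (p x')) (X'.presheaf.stalk x')) P ⊔
          Ideal.span {algebraMap (X.presheaf.stalk (p x')) (X'.presheaf.stalk x') t}))) =
        Module.length (X'.presheaf.stalk x')
          (X'.presheaf.stalk x' ⧸ (I ⊔ Ideal.span {(p.stalkMap x' t : X'.presheaf.stalk x')})) :=
      rfl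
    rw [h3] at h2
    rw [h2]
    push_cast
    rfl
  rw [sub_mul, hord a, hord b]

/-- the pullback of a principal divisor, pointwise. -/
theorem pointwise {δ : X → ℤ} {δ' : X' → ℤ} (hX : Cyc.IsSetup X δ) (hX' : Cyc.IsSetup X' δ')
    (p : X' ⟶ X) [Flat p] (c : ℤ)
    (hc : ∀ x' : X', (∀ y, p y = p x' → y ⤳ x' → y = x') → δ' x' = δ (p x') + c)
    (η : X) (g : X.residueField η) (hg : g ≠ 0) (x' : X') :
    (Function.support (fun ξ' : X' => Mterm p δ' δ c η g x' ξ')).Finite ∧
    Cyc.pullFun p δ' δ c (Cyc.divFun δ η g) x' = ∑ᶠ ξ' : X', Mterm p δ' δ c η g x' ξ' := by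
  classical
  have hδ := hX.2.2
  have hδ' := hX'.2.2
  by_cases hA : δ' x' = δ (p x') + c ∧ η ⤳ p x' ∧ δ (p x') + 1 = δ η
  · exact case_A hX hX' p c hc η g hg x' hA.1 hA.2.1 hA.2.2
  · have hzero : ∀ ξ' : X', Mterm p δ' δ c η g x' ξ' = 0 := by
      intro ξ'
      by_contra hne
      obtain ⟨e, hd1, ⟨hsp, hd2⟩, hdiv⟩ := Mterm_ne_zero p δ' δ c η g x' ξ' hne
      have hη : η ⤳ p x' := by
        rw [← e]
        exact p.base.hom.map_specializes hsp
      have hle := (Groth.Agent.Lib.R2H3.CycFlat.delta_le p δ δ' hδ' c hc x').1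
      by_cases hxA : δ' x' = δ (p x') + c
      · exact hA ⟨hxA, hη, by omega⟩
      · have hpx : p x' = η := by
          by_contra hne'
          have := (hδ η (p x') hη (Ne.symm hne')).1
          omega
        apply hdiv
        unfold Cyc.divFun
        rw [dif_pos ⟨hsp, hd2⟩]
        exact ordAt_eq_zero_of_same_fibre p x' ξ' hsp η e hpx g hg
    refine ⟨?_, ?_⟩
    · have : (Function.support (fun ξ' : X' => Mterm p δ' δ c η g x' ξ')) = ∅ := by
        ext ξ'
        simp [hzero ξ']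
      rw [this]
      exact Set.finite_empty
    · rw [finsum_eq_zero_of_forall_eq_zero hzero, pullFun_eq]
      by_cases hxA : δ' x' = δ (p x') + c
      · rw [if_pos hxA]
        unfold Cyc.divFun
        rw [dif_neg (fun h => hA ⟨hxA, h.1, h.2⟩), zero_mul]
      · rw [if_neg hxA]

end Part8

section Part9

open AlgebraicGeometry CategoryTheory TopologicalSpace IsLocalRing
  Groth.Agent.Lib.R2H1.LocQuot Groth.Agent.Lib.Helper4.DimFormula
  Groth.Agent.Lib.R2H1.RatEquivOpen Groth.Agent.Lib.R2H1.RatEquivClosed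
  Groth.Agent.Lib.R2H1.FlatDivSum

/-- a Noetherian quasi-sober `T₀` space has finitely many points without proper generizations. -/
theorem finite_maximal_points (V : Type*) [TopologicalSpace V] [NoetherianSpace V] [QuasiSober V]
    [T0Space V] : {ζ : V | ∀ z : V, z ⤳ ζ → z = ζ}.Finite := by
  have hfin : (irreducibleComponents V).Finite := NoetherianSpace.finite_irreducibleComponents
  have hgen : ∀ ζ : V, (∀ z : V, z ⤳ ζ → z = ζ) → IsGenericPoint ζ (irreducibleComponent ζ) := by
    intro ζ hζ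
    obtain ⟨z, hz⟩ := QuasiSober.sober (isIrreducible_irreducibleComponent (x := ζ))
      isClosed_irreducibleComponent
    have h1 : z ⤳ ζ := by
      rw [specializes_iff_mem_closure, hz.def]
      exact mem_irreducibleComponent
    have e := hζ z h1
    rw [e] at hz
    exact hz
  refine Set.Finite.of_finite_image (f := fun ζ => irreducibleComponent ζ) (hfin.subset ?_) ?_
  · rintro _ ⟨ζ, _, rfl⟩
    exact irreducibleComponent_mem_irreducibleComponents ζ
  · intro ζ₁ h₁ ζ₂ h₂ h12
    have g1 := hgen ζ₁ h₁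
    have g2 := hgen ζ₂ h₂
    simp only at h12
    rw [h12] at g1
    exact g1.eq g2

variable {X X' : Scheme.{u}}

/-- the fibre-generic points over `η` in an affine open of a locally Noetherian scheme are finite
in number. -/
theorem fibGen_finite [IsLocallyNoetherian X'] (p : X' ⟶ X) (η : X) (V' : X'.Opens)
    (hV' : IsAffineOpen V') :
    {ξ' : X' | ξ' ∈ V' ∧ p ξ' = η ∧ ∀ z, p z = p ξ' → z ⤳ ξ' → z = ξ'}.Finite := by
  haveI : IsNoetherianRing Γ(X', V') := IsLocallyNoetherian.component_noetherian ⟨V', hV'⟩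
  haveI hN : NoetherianSpace V' := noetherianSpace_of_isAffineOpen V' hV'
  haveI hN' : NoetherianSpace ((V' : Set X')) := hN
  set W : Set X' := p ⁻¹' closure {η} with hWdef
  have hW : IsClosed W := isClosed_closure.preimage p.continuous
  haveI hQ : QuasiSober (V' : Set X') := V'.isOpenEmbedding'.quasiSober
  haveI : QuasiSober ((V' : Set X') ∩ W : Set X') :=
    QuasiSober.inter_of_isClosed_of_quasiSober_left _ hW
  haveI : NoetherianSpace ((V' : Set X') ∩ W : Set X') := NoetherianSpace.inter_of_left _ _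
  have hfin := finite_maximal_points ((V' : Set X') ∩ W : Set X')
  refine (hfin.image Subtype.val).subset ?_
  rintro ξ' ⟨h1, h2, h3⟩
  have hmem : ξ' ∈ (V' : Set X') ∩ W := by
    refine ⟨h1, ?_⟩
    show p ξ' ∈ closure {η}
    rw [h2]
    exact subset_closure rfl
  refine ⟨⟨ξ', hmem⟩, ?_, rfl⟩
  intro z hz
  have hz' : z.1 ⤳ ξ' := (Topology.IsInducing.subtypeVal.specializes_iff).mpr hz
  have h4 : η ⤳ p z.1 := specializes_iff_mem_closure.mpr z.2.2
  have h5 : p z.1 ⤳ p ξ' := p.base.hom.map_specializes hz'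
  rw [h2] at h5
  have h6 : p z.1 = η := (h5.antisymm h4).eq
  exact Subtype.ext (h3 z.1 (h6.trans h2.symm) hz')

end Part9

section Part10

open AlgebraicGeometry CategoryTheory TopologicalSpace IsLocalRing
  Groth.Agent.Lib.R2H1.LocQuot Groth.Agent.Lib.Helper4.DimFormula
  Groth.Agent.Lib.R2H1.RatEquivOpen Groth.Agent.Lib.R2H1.RatEquivClosed
  Groth.Agent.Lib.R2H1.FlatDivSum Groth.Agent.Lib.R2H1.C1Rel

variable {X X' : Scheme.{u}}

/-- flat pullback (with a shift at fibre-generic points) preserves rational equivalence to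
zero. -/
theorem main1940 (X X' : Scheme.{u}) (δ : X → ℤ) (δ' : X' → ℤ) (hX : Cyc.IsSetup X δ)
    (hX' : Cyc.IsSetup X' δ') (p : X' ⟶ X) [Flat p] (c : ℤ)
    (hc : ∀ x' : X', (∀ y, p y = p x' → y ⤳ x' → y = x') → δ' x' = δ (p x') + c) (k : ℤ)
    (α : AlgebraicCycle X ℤ) (h0 : Cyc.RatEquivZero δ k α) (α' : AlgebraicCycle X' ℤ)
    (hα' : ⇑α' = Cyc.pullFun p δ' δ c ⇑α) : Cyc.RatEquivZero δ' (k + c) α' := by
  classical
  obtain ⟨ι, ξ, f, hξ, hf, hlf, hsum⟩ := h0
  haveI : IsLocallyNoetherian X' := hX'.1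
  have hδ' := hX'.2.2
  have hG : ∀ j : {j : ι × X' // p j.2 = ξ j.1 ∧ δ' j.2 = δ (ξ j.1) + c},
      p.residueFieldMap j.1.2 ((X.residueFieldCongr j.2.1.symm).hom (f j.1.1)) ≠ 0 := by
    intro j h0
    have inj1 : Function.Injective (p.residueFieldMap j.1.2).hom := RingHom.injective _
    have inj2 : Function.Injective (X.residueFieldCongr j.2.1.symm).hom.hom :=
      RingHom.injective _
    have h1 := (map_eq_zero_iff _ inj1).mp h0
    exact hf j.1.1 ((map_eq_zero_iff _ inj2).mp h1)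
  refine ⟨{j : ι × X' // p j.2 = ξ j.1 ∧ δ' j.2 = δ (ξ j.1) + c}, fun j => j.1.2,
    fun j => (p.residueFieldMap j.1.2 ((X.residueFieldCongr j.2.1.symm).hom (f j.1.1))) ^
      (mult p j.1.2), ?_, ?_, ?_, ?_⟩
  · intro j
    have h1 := j.2.2
    have h2 := hξ j.1.1
    show δ' j.1.2 = k + c + 1
    omega
  · intro j
    exact zpow_ne_zero _ (hG j)
  · -- local finiteness
    intro x'
    obtain ⟨U, hU, hxU, hS⟩ := hlf (p x')
    obtain ⟨V', hV', hxV', hV'U⟩ := exists_isAffineOpen_mem_and_subset (X := X')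
      (U := ⟨p ⁻¹' U, hU.preimage p.continuous⟩) (x := x') hxU
    refine ⟨V', V'.isOpen, hxV', ?_⟩
    have hT : ∀ i, {ξ' : X' | ξ' ∈ V' ∧ p ξ' = ξ i ∧ ∀ z, p z = p ξ' → z ⤳ ξ' → z = ξ'}.Finite :=
      fun i => fibGen_finite p (ξ i) V' hV'
    have hfin : (⋃ i ∈ {i | (closure {ξ i} ∩ U).Nonempty}, ({i} : Set ι) ×ˢ
        {ξ' : X' | ξ' ∈ V' ∧ p ξ' = ξ i ∧ ∀ z, p z = p ξ' → z ⤳ ξ' → z = ξ'}).Finite :=
      hS.biUnion (fun i _ => (Set.finite_singleton i).prod (hT i))
    refine (hfin.preimage (Subtype.val_injective.injOn)).subset ?_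
    rintro ⟨⟨i, ξ'⟩, e, hd⟩ ⟨z, hz1, hz2⟩
    have hξ'V : ξ' ∈ V' := by
      by_contra hnot
      have h1 : closure {ξ'} ⊆ (V' : Set X')ᶜ :=
        closure_minimal (Set.singleton_subset_iff.mpr hnot) V'.isOpen.isClosed_compl
      exact h1 hz1 hz2
    have hξU : ξ i ∈ U := by
      have := hV'U hξ'V
      change p ξ' ∈ U at this
      rwa [e] at this
    simp only [Set.mem_preimage, Set.mem_iUnion, Set.mem_prod, Set.mem_singleton_iff,
      Set.mem_setOf_eq, exists_prop]
    refine ⟨i, ⟨ξ i, subset_closure rfl, hξU⟩, rfl, hξ'V, e, ?_⟩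
    have h1 : δ' ξ' = δ (p ξ') + c := by rw [e]; exact hd
    exact (Groth.Agent.Lib.R2H3.CycFlat.delta_le p δ δ' hδ' c hc ξ').2 h1
  · -- the pointwise identity
    intro x'
    obtain ⟨U, hU, hxU, hS⟩ := hlf (p x')
    have hSmem : ∀ i, ξ i ⤳ p x' → i ∈ {i | (closure {ξ i} ∩ U).Nonempty} := by
      intro i hi
      exact ⟨p x', specializes_iff_mem_closure.mp hi, hxU⟩
    have hfin1 : (Function.support (fun i => Cyc.divFun δ (ξ i) (f i) (p x'))).Finite := by
      refine hS.subset ?_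
      intro i hi
      rw [Function.mem_support] at hi
      exact hSmem i (divFun_ne_zero_specializes hi).1
    have e1 : α' x' = ∑ᶠ i, Cyc.pullFun p δ' δ c (Cyc.divFun δ (ξ i) (f i)) x' := by
      rw [congrFun hα' x', pullFun_eq]
      by_cases hcond : δ' x' = δ (p x') + c
      · rw [if_pos hcond, hsum (p x'), finsum_mul' _ _ hfin1]
        refine finsum_congr fun i => ?_
        rw [pullFun_eq, if_pos hcond]
      · rw [if_neg hcond]
        symm
        apply finsum_eq_zero_of_forall_eq_zero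
        intro i
        rw [pullFun_eq, if_neg hcond]
    have hpw := fun i => pointwise hX hX' p c hc (ξ i) (f i) (hf i) x'
    have e2 : ∀ i, Cyc.pullFun p δ' δ c (Cyc.divFun δ (ξ i) (f i)) x' =
        ∑ᶠ ξ' : X', Mterm p δ' δ c (ξ i) (f i) x' ξ' := fun i => (hpw i).2
    have hfin2 : (Function.support
        (fun q : ι × X' => Mterm p δ' δ c (ξ q.1) (f q.1) x' q.2)).Finite := by
      have hfin : (⋃ i ∈ {i | (closure {ξ i} ∩ U).Nonempty}, ({i} : Set ι) ×ˢ
          (Function.support (fun ξ' : X' => Mterm p δ' δ c (ξ i) (f i) x' ξ'))).Finite :=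
        hS.biUnion (fun i _ => (Set.finite_singleton i).prod (hpw i).1)
      refine hfin.subset ?_
      rintro ⟨i, ξ'⟩ hq
      rw [Function.mem_support] at hq
      obtain ⟨e, _, ⟨hsp, _⟩, _⟩ := Mterm_ne_zero p δ' δ c (ξ i) (f i) x' ξ' hq
      have hi : ξ i ⤳ p x' := by
        rw [← e]
        exact p.base.hom.map_specializes hsp
      simp only [Set.mem_iUnion, Set.mem_prod, Set.mem_singleton_iff, exists_prop]
      exact ⟨i, hSmem i hi, rfl, hq⟩
    rw [e1, finsum_congr e2,
      ← finsum_curry (fun q : ι × X' => Mterm p δ' δ c (ξ q.1) (f q.1) x' q.2) hfin2,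
      ← finsum_subtype_of_support (fun q : ι × X' => p q.2 = ξ q.1 ∧ δ' q.2 = δ (ξ q.1) + c)
        (fun q : ι × X' => Mterm p δ' δ c (ξ q.1) (f q.1) x' q.2)
        (fun q hq => by
          obtain ⟨e, hd, _, _⟩ := Mterm_ne_zero p δ' δ c (ξ q.1) (f q.1) x' q.2 hq
          exact ⟨e, hd⟩)]
    refine finsum_congr fun j => ?_
    rw [divFun_zpow δ' hX' j.1.2 x' (hG j) (mult p j.1.2),
      Mterm_pos p δ' δ c (ξ j.1.1) (f j.1.1) x' j.1.2 j.2.1 j.2.2]

theorem main1856 (X Y : Scheme.{u}) (δX : X → ℤ) (δY : Y → ℤ) (hX : Cyc.IsSetup X δX)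
    (hY : Cyc.IsSetup Y δY) (f : X ⟶ Y) [Flat f] [LocallyOfFiniteType f] (r : ℕ)
    (hr : Cyc.HasRelDim f r) (hδ : Cyc.DeltaCompat f δX δY) (k : ℤ) (α β : AlgebraicCycle Y ℤ)
    (h : Cyc.RatEquiv δY k α β) (α' β' : AlgebraicCycle X ℤ)
    (hα' : ⇑α' = Cyc.pullFun f δX δY r ⇑α) (hβ' : ⇑β' = Cyc.pullFun f δX δY r ⇑β) :
    Cyc.RatEquiv δX (k + r) α' β' := by
  unfold Cyc.RatEquiv at h ⊢
  refine main1940 Y X δY δX hY hX f (r : ℤ)
    (fun a ha => Groth.Agent.Lib.R2H3.CycFlatRel.shift_of_hasRelDim f r δX δY hr hδ a ha)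
    k (α - β) h (α' - β') ?_
  funext x
  have h1 : (α' - β') x = α' x - β' x := rfl
  have h2 : (α - β) (f x) = α (f x) - β (f x) := rfl
  rw [h1, congrFun hα' x, congrFun hβ' x]
  unfold Cyc.pullFun
  by_cases hc : δX x = δY (f x) + r
  · simp only [if_pos hc]
    rw [h2, sub_mul]
  · simp only [if_neg hc, sub_zero]

end Part10

end Groth.Agent.Lib.R2H1.FlatPullRat
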