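/-
Gysin pullback commutes with c_1 (helper1, round 2; S6466): finsum over sum types, ratEquivZero_of_family_add_support, supports of the Gysin choice divisors, local finiteness of supports of c_1-caps, main6466.
-/
import Mathlib
import Groth.Prelude.Def_Cyc
import Groth.Prelude.Def_C1
import Groth.Agent.Lib.R2H1C1Rel
import Groth.Agent.Lib.R2H1C1Tensor
import Groth.Agent.Lib.R2H1Gysin
import Groth.Agent.Lib.Helper23SecTw6
import Groth.Agent.Lib.R2H1PullInv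

set_option autoImplicit false
set_option linter.style.haveILetI false
set_option linter.unusedSectionVars false
universe u v

namespace Groth.Agent.Lib.R2H1.PullInv2

section Part1

open AlgebraicGeometry CategoryTheory TopologicalSpace IsLocalRing CycAlg Opposite
  Groth.Agent.Lib.R2H1.C1Comm Groth.Agent.Lib.R2H1.C1Rel Groth.Agent.Lib.R2H1.C1Tensor
  Groth.Agent.Lib.R2H1.RatEquivClosed Groth.Agent.Lib.R2H1.LocQuot Groth.Agent.Lib.R2H1.Gysin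
  Groth.Agent.Lib.Helper23.SecTw
  Groth.Agent.Lib.R2H1.PullInv

/-- a `finsum` over a sum type. -/
theorem finsum_sum_type {α β : Type*} (F : α ⊕ β → ℤ)
    (h1 : (Function.support (fun a => F (Sum.inl a))).Finite)
    (h2 : (Function.support (fun b => F (Sum.inr b))).Finite) :
    ∑ᶠ j, F j = ∑ᶠ a, F (Sum.inl a) + ∑ᶠ b, F (Sum.inr b) := by
  rw [← finsum_mem_univ, ← Set.range_inl_union_range_inr,
    finsum_mem_union' Set.isCompl_range_inl_range_inr.disjoint,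
    finsum_mem_range Sum.inl_injective, finsum_mem_range Sum.inr_injective]
  · refine (h1.image Sum.inl).subset ?_
    rintro _ ⟨⟨a, rfl⟩, ha⟩
    exact ⟨a, ha, rfl⟩
  · refine (h2.image Sum.inr).subset ?_
    rintro _ ⟨⟨b, rfl⟩, hb⟩
    exact ⟨b, hb, rfl⟩

variable {X : Scheme.{u}}

/-- the indices of a locally finite family whose principal divisor is nonzero at `x`. -/
theorem family_divFun_support_finite (δ : X → ℤ) {ι : Type*} (ξ : ι → X)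
    (f : (j : ι) → X.residueField (ξ j))
    (hlf : ∀ x : X, ∃ U : Set X, IsOpen U ∧ x ∈ U ∧ {j | (closure {ξ j} ∩ U).Nonempty}.Finite)
    (x : X) : (Function.support (fun j => Cyc.divFun δ (ξ j) (f j) x)).Finite := by
  obtain ⟨U, hU, hxU, hfin⟩ := hlf x
  refine hfin.subset ?_
  intro j hj
  have := (divFun_ne_zero_specializes hj).1
  exact ⟨x, specializes_iff_mem_closure.mp this, hxU⟩

/-- a cycle which is pointwise the sum of a locally finite family of principal divisors and a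
weighted sum of principal divisors at the points of the locally finite support of a function is
rationally equivalent to zero. -/
theorem ratEquivZero_of_family_add_support (δ : X → ℤ) (hX : Cyc.IsSetup X δ) (k : ℤ)
    {ι : Type u} (ξ : ι → X) (f : (j : ι) → X.residueField (ξ j))
    (hξ : ∀ j, δ (ξ j) = k + 1) (hf : ∀ j, f j ≠ 0)
    (hlf : ∀ x : X, ∃ U : Set X, IsOpen U ∧ x ∈ U ∧ {j | (closure {ξ j} ∩ U).Nonempty}.Finite)
    (β : X → ℤ) (hβ : ∀ x, β x ≠ 0 → δ x = k + 1)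
    (hβlf : ∀ x : X, ∃ U : Set X, IsOpen U ∧ x ∈ U ∧
      {ζ : {ζ : X // β ζ ≠ 0} | (closure {ζ.1} ∩ U).Nonempty}.Finite)
    (φ : (ξ : X) → X.residueField ξ) (hφ : ∀ ξ, φ ξ ≠ 0) (γ : AlgebraicCycle X ℤ)
    (hγ : ∀ x, γ x = ∑ᶠ j, Cyc.divFun δ (ξ j) (f j) x +
      ∑ᶠ ζ : X, β ζ * Cyc.divFun δ ζ (φ ζ) x) : Cyc.RatEquivZero δ k γ := by
  classical
  refine ⟨ι ⊕ {ζ : X // β ζ ≠ 0}, Sum.elim ξ (fun ζ => ζ.1),
    fun j => Sum.rec (motive := fun j => X.residueField (Sum.elim ξ (fun ζ => ζ.1) j))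
      (fun j => f j) (fun ζ => (φ ζ.1) ^ (β ζ.1)) j, ?_, ?_, ?_, ?_⟩
  · rintro (j | ζ)
    · exact hξ j
    · exact hβ ζ.1 ζ.2
  · rintro (j | ζ)
    · exact hf j
    · exact zpow_ne_zero _ (hφ ζ.1)
  · intro x
    obtain ⟨U₁, hU₁, hx₁, hfin₁⟩ := hlf x
    obtain ⟨U₂, hU₂, hx₂, hfin₂⟩ := hβlf x
    refine ⟨U₁ ∩ U₂, hU₁.inter hU₂, ⟨hx₁, hx₂⟩, ?_⟩
    refine ((hfin₁.image Sum.inl).union (hfin₂.image Sum.inr)).subset ?_
    rintro (j | ζ) ⟨y, hy, hyU⟩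
    · exact Or.inl ⟨j, ⟨y, hy, hyU.1⟩, rfl⟩
    · exact Or.inr ⟨ζ, ⟨y, hy, hyU.2⟩, rfl⟩
  · intro x
    rw [hγ x]
    have hfin1 := family_divFun_support_finite δ ξ f hlf x
    have hfin2 : (Function.support (fun ζ : {ζ : X // β ζ ≠ 0} =>
        Cyc.divFun δ ζ.1 ((φ ζ.1) ^ (β ζ.1)) x)).Finite :=
      family_divFun_support_finite δ (fun ζ : {ζ : X // β ζ ≠ 0} => ζ.1)
        (fun ζ => (φ ζ.1) ^ (β ζ.1)) hβlf x
    rw [finsum_sum_type _ hfin1 hfin2]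
    congr 1
    have e : ∀ ζ : {ζ : X // β ζ ≠ 0}, Cyc.divFun δ ζ.1 ((φ ζ.1) ^ (β ζ.1)) x =
        β ζ.1 * Cyc.divFun δ ζ.1 (φ ζ.1) x := fun ζ => divFun_zpow δ hX ζ.1 x (hφ ζ.1) (β ζ.1)
    change _ = ∑ᶠ ζ : {ζ : X // β ζ ≠ 0}, Cyc.divFun δ ζ.1 ((φ ζ.1) ^ (β ζ.1)) x
    rw [finsum_congr e]
    exact (finsum_subtype_of_support (fun ζ => β ζ ≠ 0)
      (fun ζ => β ζ * Cyc.divFun δ ζ (φ ζ) x) (fun ζ h h0 => h (by rw [h0, zero_mul]))).symm

end Part1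

section Part2

open AlgebraicGeometry CategoryTheory TopologicalSpace IsLocalRing CycAlg Opposite
  Groth.Agent.Lib.R2H1.C1Comm Groth.Agent.Lib.R2H1.C1Rel Groth.Agent.Lib.R2H1.C1Tensor
  Groth.Agent.Lib.R2H1.RatEquivClosed Groth.Agent.Lib.R2H1.LocQuot Groth.Agent.Lib.R2H1.Gysin
  Groth.Agent.Lib.Helper23.SecTw
  Groth.Agent.Lib.R2H1.PullInv

variable {X : Scheme.{u}}

/-- the multiplicity of the divisor of the section vanishes where the section is a unit multiple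
of the generator. -/
theorem coef_eq_zero_of_isU {ξ₀ : X} (C : CData ξ₀) (δ : X → ℤ) (ξ : X)
    (h : ∀ h₀ : ξ₀ ⤳ ξ, C.IsU ξ h₀) : C.coef δ ξ = 0 := by
  by_cases hd : ξ₀ ⤳ ξ ∧ δ ξ + 1 = δ ξ₀
  · rw [CData.coef_pos C δ ξ hd]
    exact alR_eq_zero_of_isU C ξ hd.1 (h hd.1)
  · exact CData.coef_neg C δ ξ hd

/-- the divisor of the Gysin choice of sections is supported on the zero locus. -/
theorem secDivFun_gysin_eq_zero {L : X.Modules} (hL : PicF.IsInvertible L) (δ : X → ℤ)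
    (hX : Cyc.IsSetup X δ) (s : L.presheaf.obj (Opposite.op ⊤))
    (w : (ξ : X) → Cyc.secFibre L ξ) (hw : ∀ ξ, w ξ ≠ 0) (ξ₀ ξ : X)
    (h : (Submodule.Quotient.mk ((L.presheaf.germ ⊤ ξ trivial) s) : Cyc.secFibre L ξ) ≠ 0) :
    Cyc.secDivFun δ L ξ₀ (Cyc.gysinChoice L s w ξ₀) ξ = 0 := by
  choose gL hgL using Groth.Agent.Lib.R2H1.C1Comm.exists_gen L hL
  have hgc := gysinChoice_ne_zero s w hw
  rw [← ofMod_coef gL hgL ξ₀ (Cyc.gysinChoice L s w ξ₀) (hgc _) (Cyc.gysinChoice L s w) hgc δ hX ξ]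
  refine coef_eq_zero_of_isU _ δ ξ (fun h₀ => ?_)
  obtain ⟨u, hu, -⟩ := gysin_unit gL hgL s w hw ξ₀ ξ h₀ h
  exact ⟨u, hu⟩

/-- `c_1(L) ∩ −` computed with the Gysin choice of sections is supported on the zero locus. -/
theorem c1CapFun_gysin_eq_zero {L : X.Modules} (hL : PicF.IsInvertible L) (δ : X → ℤ)
    (hX : Cyc.IsSetup X δ) (s : L.presheaf.obj (Opposite.op ⊤))
    (w : (ξ : X) → Cyc.secFibre L ξ) (hw : ∀ ξ, w ξ ≠ 0) (a : X → ℤ) (ξ : X)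
    (h : (Submodule.Quotient.mk ((L.presheaf.germ ⊤ ξ trivial) s) : Cyc.secFibre L ξ) ≠ 0) :
    Cyc.c1CapFun δ L a (Cyc.gysinChoice L s w) ξ = 0 := by
  unfold Cyc.c1CapFun
  have e : ∀ ζ : X, a ζ * Cyc.secDivFun δ L ζ (Cyc.gysinChoice L s w ζ) ξ = 0 := fun ζ => by
    rw [secDivFun_gysin_eq_zero hL δ hX s w hw ζ ξ h, mul_zero]
  rw [finsum_congr e, finsum_zero]

/-- the weighted sum of the divisors of the sections of a locally finite family has locally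
finite support. -/
theorem coef_family_support_locallyFinite (δ : X → ℤ) (hX : Cyc.IsSetup X δ) {ι : Type u}
    (ξ₀ : ι → X)
    (hlf : ∀ x : X, ∃ U : Set X, IsOpen U ∧ x ∈ U ∧ {i | (closure {ξ₀ i} ∩ U).Nonempty}.Finite)
    (C : ∀ i, CData (ξ₀ i)) (m : ι → ℤ) (x₀ : X) :
    ∃ U : Set X, IsOpen U ∧ x₀ ∈ U ∧
      {ξ : X | ξ ∈ U ∧ ∑ᶠ i, m i * (C i).coef δ ξ ≠ 0}.Finite := by
  obtain ⟨U, hU, hxU, hfin⟩ := family_bad_finite δ hX ξ₀ hlf C C x₀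
  refine ⟨U, hU, hxU, (hfin.image Prod.snd).subset ?_⟩
  rintro ξ ⟨hξU, hne⟩
  have : ∃ i, m i * (C i).coef δ ξ ≠ 0 := by
    by_contra hall
    push_neg at hall
    exact hne (by rw [finsum_congr hall, finsum_zero])
  obtain ⟨i, hi⟩ := this
  have hc : (C i).coef δ ξ ≠ 0 := fun h0 => hi (by rw [h0, mul_zero])
  have hd : ξ₀ i ⤳ ξ ∧ δ ξ + 1 = δ (ξ₀ i) := by
    by_contra hd
    exact hc (CData.coef_neg _ δ ξ hd)
  refine ⟨(i, ξ), ⟨hξU, hd.1, hd.2, ?_⟩, rfl⟩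
  rintro ⟨hu, -⟩
  apply hc
  rw [CData.coef_pos _ δ ξ hd]
  exact alR_eq_zero_of_isU _ ξ hd.1 hu

/-- local finiteness of the support of a function on `X` gives local finiteness of the closures
of the points of the support of its restriction along a closed immersion. -/
theorem restrict_support_locallyFinite {D : Scheme.{u}} (i : D ⟶ X) [IsClosedImmersion i]
    (b : X → ℤ)
    (hb : ∀ x₀ : X, ∃ U : Set X, IsOpen U ∧ x₀ ∈ U ∧ {ξ : X | ξ ∈ U ∧ b ξ ≠ 0}.Finite)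
    (d : D) : ∃ U : Set D, IsOpen U ∧ d ∈ U ∧
      {ζ : {ζ : D // b (i ζ) ≠ 0} | (closure {ζ.1} ∩ U).Nonempty}.Finite := by
  obtain ⟨U, hU, hxU, hfin⟩ := hb (i d)
  refine ⟨i ⁻¹' U, hU.preimage i.continuous, hxU, ?_⟩
  have hinj : Function.Injective (fun ζ : {ζ : D // b (i ζ) ≠ 0} => i ζ.1) :=
    fun a b hab => Subtype.ext (i.isClosedEmbedding.injective hab)
  refine (hfin.preimage hinj.injOn).subset ?_
  rintro ζ ⟨y, hy, hyU⟩
  have hsp : ζ.1 ⤳ y := specializes_iff_mem_closure.mpr hy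
  exact ⟨hsp.mem_open (hU.preimage i.continuous) hyU, ζ.2⟩

end Part2

section Part3

open AlgebraicGeometry CategoryTheory TopologicalSpace IsLocalRing CycAlg Opposite
  Groth.Agent.Lib.R2H1.C1Comm Groth.Agent.Lib.R2H1.C1Rel Groth.Agent.Lib.R2H1.C1Tensor
  Groth.Agent.Lib.R2H1.RatEquivClosed Groth.Agent.Lib.R2H1.LocQuot Groth.Agent.Lib.R2H1.Gysin
  Groth.Agent.Lib.Helper23.SecTw
  Groth.Agent.Lib.R2H1.PullInv

/-- S6466: `i^*(c_1(N) ∩ α) ∼ c_1(i^*N) ∩ i^*α`. -/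
theorem main6466 (X D : Scheme.{u}) (δ : X → ℤ) (hX : Cyc.IsSetup X δ) (L N : X.Modules)
    (hL : PicF.IsInvertible L) (hN : PicF.IsInvertible N) (s : L.presheaf.obj (Opposite.op ⊤))
    (i : D ⟶ X) [IsClosedImmersion i] (hD : Cyc.IsZeroSchemeOf i L s) (k : ℤ)
    (α : AlgebraicCycle X ℤ) (hα : α ∈ Cyc.Zk X δ k) (w : (ξ : X) → Cyc.secFibre L ξ)
    (hw : ∀ ξ, w ξ ≠ 0) (v : (ξ : X) → Cyc.secFibre N ξ) (hv : ∀ ξ, v ξ ≠ 0)
    (t : (d : D) → Cyc.secFibre ((Scheme.Modules.pullback i).obj N) d) (ht : ∀ d, t d ≠ 0)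
    (β : AlgebraicCycle X ℤ) (hβ : ⇑β = Cyc.c1CapFun δ N ⇑α v) (γ : D → ℤ)
    (hγ : γ = fun d => Cyc.c1CapFun δ L ⇑α (Cyc.gysinChoice L s w) (i d))
    (ζ₁ ζ₂ : AlgebraicCycle D ℤ)
    (h₁ : ∀ d, ζ₁ d = Cyc.c1CapFun δ L ⇑β (Cyc.gysinChoice L s w) (i d))
    (h₂ : ⇑ζ₂ = Cyc.c1CapFun (fun d => δ (i d)) ((Scheme.Modules.pullback i).obj N) γ t) :
    Cyc.RatEquiv (fun d => δ (i d)) (k - 2) ζ₁ ζ₂ := by
  classical
  haveI : N.IsQuasicoherent := isQuasicoherent_of_isInvertible N hN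
  have hDs := isSetup_of_closedImmersion i hX
  choose gL hgL using Groth.Agent.Lib.R2H1.C1Comm.exists_gen L hL
  choose gN hgN using Groth.Agent.Lib.R2H1.C1Comm.exists_gen N hN
  choose WN eN hz hgen using Groth.Agent.Lib.Helper23.SecTw.exists_gen N hN
  have hgc := gysinChoice_ne_zero s w hw
  set gc := Cyc.gysinChoice L s w with hgcdef
  have hαdim : ∀ ζ : {ζ : X // α ζ ≠ 0}, δ ζ.1 = k - 2 + 2 := by
    intro ζ
    rw [sub_add_cancel]
    by_contra hne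
    exact ζ.2 (hα ζ.1 hne)
  -- the sums over the support of `α`
  have e1 : ∀ ξ, ∑ᶠ ζ : {ζ : X // α ζ ≠ 0}, α ζ.1 *
      (ofMod gN hgN ζ.1 (v ζ.1) (hv _) v hv).coef δ ξ = Cyc.c1CapFun δ N ⇑α v ξ := by
    intro ξ
    unfold Cyc.c1CapFun
    have e : ∀ ζ : {ζ : X // α ζ ≠ 0}, α ζ.1 *
        (ofMod gN hgN ζ.1 (v ζ.1) (hv _) v hv).coef δ ξ =
        α ζ.1 * Cyc.secDivFun δ N ζ.1 (v ζ.1) ξ := fun ζ => by
      rw [ofMod_coef gN hgN ζ.1 (v ζ.1) (hv _) v hv δ hX ξ]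
    rw [finsum_congr e]
    exact finsum_subtype_of_support (fun ζ => α ζ ≠ 0)
      (fun ζ => α ζ * Cyc.secDivFun δ N ζ (v ζ) ξ)
      (fun ζ h h0 => h (by rw [h0, zero_mul]))
  have e2 : ∀ ξ, ∑ᶠ ζ : {ζ : X // α ζ ≠ 0}, α ζ.1 *
      (ofMod gL hgL ζ.1 (gc ζ.1) (hgc _) gc hgc).coef δ ξ = Cyc.c1CapFun δ L ⇑α gc ξ := by
    intro ξ
    unfold Cyc.c1CapFun
    have e : ∀ ζ : {ζ : X // α ζ ≠ 0}, α ζ.1 *
        (ofMod gL hgL ζ.1 (gc ζ.1) (hgc _) gc hgc).coef δ ξ =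
        α ζ.1 * Cyc.secDivFun δ L ζ.1 (gc ζ.1) ξ := fun ζ => by
      rw [ofMod_coef gL hgL ζ.1 (gc ζ.1) (hgc _) gc hgc δ hX ξ]
    rw [finsum_congr e]
    exact finsum_subtype_of_support (fun ζ => α ζ ≠ 0)
      (fun ζ => α ζ * Cyc.secDivFun δ L ζ (gc ζ) ξ)
      (fun ζ h h0 => h (by rw [h0, zero_mul]))
  set b : X → ℤ := Cyc.c1CapFun δ L ⇑α gc with hbdef
  -- the commutator
  obtain ⟨ι', ξ', F, hξ'T, hξ'δ, hF, hlf', hsum⟩ :=
    family_main_on δ hX (k - 2) (ι := {ζ : X // α ζ ≠ 0}) (fun ζ => ζ.1) hαdim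
      (cycle_support_locallyFinite α)
      (fun ζ => ofMod gN hgN ζ.1 (v ζ.1) (hv _) v hv)
      (fun ζ => ofMod gL hgL ζ.1 (gc ζ.1) (hgc _) gc hgc)
      (fun ζ => α ζ.1) (fun ξ x => Cyc.secDivFun δ N ξ (v ξ) x)
      (fun ξ x => Cyc.secDivFun δ L ξ (gc ξ) x)
      (fun ζ ξ x => ofMod_dv gN hgN ζ.1 (v ζ.1) (hv _) v hv δ hX ξ x)
      (fun ζ ξ x => ofMod_dv gL hgL ζ.1 (gc ζ.1) (hgc _) gc hgc δ hX ξ x)
      (Set.range i)
      (by
        rintro ζ ξ ⟨h₀, hξ, -⟩ hnot x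
        have hne : (Submodule.Quotient.mk ((L.presheaf.germ ⊤ ξ trivial) s) :
            Cyc.secFibre L ξ) ≠ 0 := by
          intro h0
          apply hnot
          rw [hD.1]
          exact h0
        obtain ⟨u, hu, hub⟩ := gysin_unit gL hgL s w hw ζ.1 ξ h₀ hne
        exact divFun_Ftot_eq_zero_of_unit _ _ δ hX ξ h₀ hξ u hu hub x)
      (fun x => Cyc.c1CapFun δ L ⇑β gc x - Cyc.c1CapFun δ N b v x)
      (by
        intro x
        simp only [e1, e2]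
        rw [hβ]
        rfl)
  obtain ⟨ζ, g, hζ, hg, hlfD, hdiv⟩ := exists_restrict_family i δ ξ' F hξ'T hlf'
  -- support of `b`
  have hbsupp : ∀ ξ, b ξ ≠ 0 → ξ ∈ Set.range i := by
    intro ξ hξ
    by_contra hnot
    apply hξ
    refine c1CapFun_gysin_eq_zero hL δ hX s w hw _ ξ ?_
    intro h0
    apply hnot
    rw [hD.1]
    exact h0
  have hblf : ∀ x₀ : X, ∃ U : Set X, IsOpen U ∧ x₀ ∈ U ∧ {ξ : X | ξ ∈ U ∧ b ξ ≠ 0}.Finite := by
    intro x₀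
    obtain ⟨U, hU, hxU, hfin⟩ := coef_family_support_locallyFinite δ hX
      (ι := {ζ : X // α ζ ≠ 0}) (fun ζ => ζ.1) (cycle_support_locallyFinite α)
      (fun ζ => ofMod gL hgL ζ.1 (gc ζ.1) (hgc _) gc hgc) (fun ζ => α ζ.1) x₀
    refine ⟨U, hU, hxU, hfin.subset ?_⟩
    rintro ξ ⟨hξU, hξ⟩
    refine ⟨hξU, ?_⟩
    rw [e2 ξ]
    exact hξ
  have hbdim : ∀ ξ, b ξ ≠ 0 → δ ξ = k - 2 + 1 := by
    intro ξ hξ
    have : ∃ ζ, α ζ * Cyc.secDivFun δ L ζ (gc ζ) ξ ≠ 0 := by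
      by_contra hall
      push_neg at hall
      apply hξ
      change ∑ᶠ ζ : X, α ζ * Cyc.secDivFun δ L ζ (gc ζ) ξ = 0
      rw [finsum_congr hall, finsum_zero]
    obtain ⟨ζ', hζ'⟩ := this
    have h1 : α ζ' ≠ 0 := fun h0 => hζ' (by rw [h0, zero_mul])
    have h2 : Cyc.secDivFun δ L ζ' (gc ζ') ξ ≠ 0 := fun h0 => hζ' (by rw [h0, mul_zero])
    have h3 := (secDivFun_ne_zero_specializes h2).2
    have h4 : δ ζ' = k := by
      by_contra hne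
      exact h1 (hα ζ' hne)
    omega
  subst hγ
  have hγlf := restrict_support_locallyFinite i b hblf
  unfold Cyc.RatEquiv
  refine ratEquivZero_of_family_add_support (fun d => δ (i d)) hDs (k - 2) ζ g ?_ ?_ hlfD
    (fun d => b (i d)) (fun d hd => hbdim (i d) hd) hγlf
    (fun d' => psi i N WN eN hz hgen d' (v (i d')) (t d'))
    (fun d' => psi_ne_zero i N WN eN hz hgen d' _ _ (hv _) (ht _)) (ζ₁ - ζ₂) ?_
  · intro j
    show δ (i (ζ j)) = k - 2 + 1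
    rw [hζ j]
    exact hξ'δ j
  · intro j
    exact hg j (hF j)
  · intro d
    have hsub : (ζ₁ - ζ₂) d = ζ₁ d - ζ₂ d := by
      rw [Function.locallyFinsuppWithin.coe_sub]
      rfl
    rw [hsub, h₁ d, h₂]
    have hs := hsum (i d)
    simp only at hs
    have e3 : Cyc.c1CapFun δ N b v (i d) =
        ∑ᶠ d' : D, b (i d') * Cyc.secDivFun δ N (i d') (v (i d')) (i d) := by
      unfold Cyc.c1CapFun
      rw [finsum_comp_of_injective i i.isClosedEmbedding.injective]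
      intro ξ hξ
      exact hbsupp ξ (fun h0 => hξ (by rw [h0, zero_mul]))
    have hfin : {d' : D | b (i d') ≠ 0 ∧ d' ⤳ d}.Finite := by
      obtain ⟨U, hU, hdU, hfin⟩ := hγlf d
      refine (hfin.image Subtype.val).subset ?_
      rintro d' ⟨h1, h2⟩
      exact ⟨⟨d', h1⟩, ⟨d, specializes_iff_mem_closure.mp h2, hdU⟩, rfl⟩
    have e4 := compare_sum i hX N WN eN hz hgen (fun d => b (i d)) d hfin v hv t ht
    have e5 : ∑ᶠ j, Cyc.divFun (fun d => δ (i d)) (ζ j) (g j) d =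
        ∑ᶠ j, Cyc.divFun δ (ξ' j) (F j) (i d) := finsum_congr (fun j => hdiv j d)
    rw [e5, ← hs, e3, e4]
    unfold Cyc.c1CapFun
    ring

end Part3

end Groth.Agent.Lib.R2H1.PullInv2
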