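/-
Gysin pullback of the divisor of a rational section on an integral scheme (helper1, round 2; S1930): gysin_c1_core (family version of the compatibility of the Gysin map with c_1(N)), length_quot_ker_of_surjective, exists_unit_smul_of_span_eq_top, zeroSectionFun_eq_subschemeFun ([Z(s)]_k = [D]_k at points of the zero scheme), mk_g_ne_zero, main1930.
-/
import Mathlib
import Groth.Prelude.Def_Cyc
import Groth.Prelude.Def_C1
import Groth.Agent.Lib.R2H1C1Rel
import Groth.Agent.Lib.R2H1C1Tensor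
import Groth.Agent.Lib.R2H1Gysin
import Groth.Agent.Lib.R2H1SecDiv
import Groth.Agent.Lib.R2H1PowLen
import Groth.Agent.Lib.Helper23SecTw6
import Groth.Agent.Lib.R2H1PullInv2

set_option autoImplicit false
set_option linter.style.haveILetI false
set_option linter.unusedSectionVars false
universe u v

namespace Groth.Agent.Lib.R2H1.PullInv3

section Part1

open AlgebraicGeometry CategoryTheory TopologicalSpace IsLocalRing CycAlg Opposite
  Groth.Agent.Lib.R2H1.C1Comm Groth.Agent.Lib.R2H1.C1Rel Groth.Agent.Lib.R2H1.C1Tensor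
  Groth.Agent.Lib.R2H1.RatEquivClosed Groth.Agent.Lib.R2H1.LocQuot Groth.Agent.Lib.R2H1.Gysin
  Groth.Agent.Lib.Helper23.SecTw
  Groth.Agent.Lib.R2H1.PullInv Groth.Agent.Lib.R2H1.PullInv2

/-- core of the compatibility of the Gysin map with `c_1(N) ∩ −`, for a weighted locally finite
family of points with rational sections of `N`. -/
theorem gysin_c1_core (X D : Scheme.{u}) (δ : X → ℤ) (hX : Cyc.IsSetup X δ) (L N : X.Modules)
    (hL : PicF.IsInvertible L) (hN : PicF.IsInvertible N) (s : L.presheaf.obj (Opposite.op ⊤))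
    (i : D ⟶ X) [IsClosedImmersion i] (hD : Cyc.IsZeroSchemeOf i L s) (k : ℤ)
    {ι : Type u} (ξ₀ : ι → X) (hξ₀ : ∀ j, δ (ξ₀ j) = k)
    (hlf : ∀ x : X, ∃ U : Set X, IsOpen U ∧ x ∈ U ∧ {j | (closure {ξ₀ j} ∩ U).Nonempty}.Finite)
    (m : ι → ℤ) (σ : (j : ι) → Cyc.secFibre N (ξ₀ j)) (hσ : ∀ j, σ j ≠ 0)
    (w : (ξ : X) → Cyc.secFibre L ξ)
    (hw : ∀ ξ, w ξ ≠ 0) (v : (ξ : X) → Cyc.secFibre N ξ) (hv : ∀ ξ, v ξ ≠ 0)
    (t : (d : D) → Cyc.secFibre ((Scheme.Modules.pullback i).obj N) d) (ht : ∀ d, t d ≠ 0)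
    (ζ₁ ζ₂ : AlgebraicCycle D ℤ)
    (h₁ : ∀ d, ζ₁ d = ∑ᶠ ξ : X, (∑ᶠ j, m j * Cyc.secDivFun δ N (ξ₀ j) (σ j) ξ) *
      Cyc.secDivFun δ L ξ (Cyc.gysinChoice L s w ξ) (i d))
    (h₂ : ∀ d, ζ₂ d = ∑ᶠ d' : D,
      (∑ᶠ j, m j * Cyc.secDivFun δ L (ξ₀ j) (Cyc.gysinChoice L s w (ξ₀ j)) (i d')) *
      Cyc.secDivFun (fun d => δ (i d)) ((Scheme.Modules.pullback i).obj N) d' (t d') d) :
    Cyc.RatEquiv (fun d => δ (i d)) (k - 2) ζ₁ ζ₂ := by
  classical
  haveI : N.IsQuasicoherent := isQuasicoherent_of_isInvertible N hN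
  have hDs := isSetup_of_closedImmersion i hX
  choose gL hgL using Groth.Agent.Lib.R2H1.C1Comm.exists_gen L hL
  choose gN hgN using Groth.Agent.Lib.R2H1.C1Comm.exists_gen N hN
  choose WN eN hz hgen using Groth.Agent.Lib.Helper23.SecTw.exists_gen N hN
  have hgc := gysinChoice_ne_zero s w hw
  set gc := Cyc.gysinChoice L s w with hgcdef
  have hαdim : ∀ j, δ (ξ₀ j) = k - 2 + 2 := by
    intro j
    rw [sub_add_cancel]
    exact hξ₀ j
  have e1 : ∀ ξ, ∑ᶠ j, m j * (ofMod gN hgN (ξ₀ j) (σ j) (hσ j) v hv).coef δ ξ =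
      ∑ᶠ j, m j * Cyc.secDivFun δ N (ξ₀ j) (σ j) ξ := by
    intro ξ
    refine finsum_congr (fun j => ?_)
    rw [ofMod_coef gN hgN (ξ₀ j) (σ j) (hσ j) v hv δ hX ξ]
  have e2 : ∀ ξ, ∑ᶠ j, m j * (ofMod gL hgL (ξ₀ j) (gc (ξ₀ j)) (hgc _) gc hgc).coef δ ξ =
      ∑ᶠ j, m j * Cyc.secDivFun δ L (ξ₀ j) (gc (ξ₀ j)) ξ := by
    intro ξ
    refine finsum_congr (fun j => ?_)
    rw [ofMod_coef gL hgL (ξ₀ j) (gc (ξ₀ j)) (hgc _) gc hgc δ hX ξ]
  set b : X → ℤ := fun ξ => ∑ᶠ j, m j * Cyc.secDivFun δ L (ξ₀ j) (gc (ξ₀ j)) ξ with hbdef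
  -- the commutator
  obtain ⟨ι', ξ', F, hξ'T, hξ'δ, hF, hlf', hsum⟩ :=
    family_main_on δ hX (k - 2) ξ₀ hαdim hlf
      (fun j => ofMod gN hgN (ξ₀ j) (σ j) (hσ j) v hv)
      (fun j => ofMod gL hgL (ξ₀ j) (gc (ξ₀ j)) (hgc _) gc hgc)
      m (fun ξ x => Cyc.secDivFun δ N ξ (v ξ) x)
      (fun ξ x => Cyc.secDivFun δ L ξ (gc ξ) x)
      (fun j ξ x => ofMod_dv gN hgN (ξ₀ j) (σ j) (hσ j) v hv δ hX ξ x)
      (fun j ξ x => ofMod_dv gL hgL (ξ₀ j) (gc (ξ₀ j)) (hgc _) gc hgc δ hX ξ x)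
      (Set.range i)
      (by
        rintro j ξ ⟨h₀, hξ, -⟩ hnot x
        have hne : (Submodule.Quotient.mk ((L.presheaf.germ ⊤ ξ trivial) s) :
            Cyc.secFibre L ξ) ≠ 0 := by
          intro h0
          apply hnot
          rw [hD.1]
          exact h0
        obtain ⟨u, hu, hub⟩ := gysin_unit gL hgL s w hw (ξ₀ j) ξ h₀ hne
        exact divFun_Ftot_eq_zero_of_unit _ _ δ hX ξ h₀ hξ u hu hub x)
      (fun x => (∑ᶠ ξ : X, (∑ᶠ j, m j * Cyc.secDivFun δ N (ξ₀ j) (σ j) ξ) *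
        Cyc.secDivFun δ L ξ (gc ξ) x) - ∑ᶠ ξ : X, b ξ * Cyc.secDivFun δ N ξ (v ξ) x)
      (by
        intro x
        simp only [e1, e2]
        rfl)
  obtain ⟨ζ, g, hζ, hg, hlfD, hdiv⟩ := exists_restrict_family i δ ξ' F hξ'T hlf'
  -- support of `b`
  have hbsupp : ∀ ξ, b ξ ≠ 0 → ξ ∈ Set.range i := by
    intro ξ hξ
    by_contra hnot
    apply hξ
    have hne : (Submodule.Quotient.mk ((L.presheaf.germ ⊤ ξ trivial) s) :
        Cyc.secFibre L ξ) ≠ 0 := by
      intro h0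
      apply hnot
      rw [hD.1]
      exact h0
    have e : ∀ j, m j * Cyc.secDivFun δ L (ξ₀ j) (gc (ξ₀ j)) ξ = 0 := fun j => by
      rw [secDivFun_gysin_eq_zero hL δ hX s w hw (ξ₀ j) ξ hne, mul_zero]
    change ∑ᶠ j, m j * Cyc.secDivFun δ L (ξ₀ j) (gc (ξ₀ j)) ξ = 0
    rw [finsum_congr e, finsum_zero]
  have hblf : ∀ x₀ : X, ∃ U : Set X, IsOpen U ∧ x₀ ∈ U ∧ {ξ : X | ξ ∈ U ∧ b ξ ≠ 0}.Finite := by
    intro x₀
    obtain ⟨U, hU, hxU, hfin⟩ := coef_family_support_locallyFinite δ hX ξ₀ hlf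
      (fun j => ofMod gL hgL (ξ₀ j) (gc (ξ₀ j)) (hgc _) gc hgc) m x₀
    refine ⟨U, hU, hxU, hfin.subset ?_⟩
    rintro ξ ⟨hξU, hξ⟩
    refine ⟨hξU, ?_⟩
    rw [e2 ξ]
    exact hξ
  have hbdim : ∀ ξ, b ξ ≠ 0 → δ ξ = k - 2 + 1 := by
    intro ξ hξ
    have : ∃ j, m j * Cyc.secDivFun δ L (ξ₀ j) (gc (ξ₀ j)) ξ ≠ 0 := by
      by_contra hall
      push_neg at hall
      apply hξ
      change ∑ᶠ j, m j * Cyc.secDivFun δ L (ξ₀ j) (gc (ξ₀ j)) ξ = 0
      rw [finsum_congr hall, finsum_zero]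
    obtain ⟨j, hj⟩ := this
    have h2 : Cyc.secDivFun δ L (ξ₀ j) (gc (ξ₀ j)) ξ ≠ 0 := fun h0 => hj (by rw [h0, mul_zero])
    have h3 := (secDivFun_ne_zero_specializes h2).2
    have h4 := hξ₀ j
    omega
  have hγlf := restrict_support_locallyFinite i b hblf
  unfold Cyc.RatEquiv
  refine ratEquivZero_of_family_add_support (fun d => δ (i d)) hDs (k - 2) ζ g ?_ ?_ hlfD
    (fun d => b (i d)) (fun d hd => hbdim (i d) hd) hγlf
    (fun d' => psi i N WN eN hz hgen d' (v (i d')) (t d'))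
    (fun d' => psi_ne_zero i N WN eN hz hgen d' _ _ (hv _) (ht _)) (ζ₁ - ζ₂) ?_
  · intro j
    show δ (i (ζ j)) = k - 2 + 1
    rw [hζ j]
    exact hξ'δ j
  · intro j
    exact hg j (hF j)
  · intro d
    have hsub : (ζ₁ - ζ₂) d = ζ₁ d - ζ₂ d := by
      rw [Function.locallyFinsuppWithin.coe_sub]
      rfl
    rw [hsub, h₁ d, h₂ d]
    have hs := hsum (i d)
    simp only at hs
    have e3 : ∑ᶠ ξ : X, b ξ * Cyc.secDivFun δ N ξ (v ξ) (i d) =
        ∑ᶠ d' : D, b (i d') * Cyc.secDivFun δ N (i d') (v (i d')) (i d) := by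
      rw [finsum_comp_of_injective i i.isClosedEmbedding.injective]
      intro ξ hξ
      exact hbsupp ξ (fun h0 => hξ (by rw [h0, zero_mul]))
    have hfin : {d' : D | b (i d') ≠ 0 ∧ d' ⤳ d}.Finite := by
      obtain ⟨U, hU, hdU, hfin⟩ := hγlf d
      refine (hfin.image Subtype.val).subset ?_
      rintro d' ⟨h1, h2⟩
      exact ⟨⟨d', h1⟩, ⟨d, specializes_iff_mem_closure.mp h2, hdU⟩, rfl⟩
    have e4 := compare_sum i hX N WN eN hz hgen (fun d => b (i d)) d hfin v hv t ht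
    have e5 : ∑ᶠ j, Cyc.divFun (fun d => δ (i d)) (ζ j) (g j) d =
        ∑ᶠ j, Cyc.divFun δ (ξ' j) (F j) (i d) := finsum_congr (fun j => hdiv j d)
    rw [e5, ← hs, e3, e4]
    ring

end Part1

section Part2

open AlgebraicGeometry CategoryTheory TopologicalSpace IsLocalRing CycAlg Opposite
  Groth.Agent.Lib.R2H1.C1Comm Groth.Agent.Lib.R2H1.C1Rel Groth.Agent.Lib.R2H1.C1Tensor
  Groth.Agent.Lib.R2H1.RatEquivClosed Groth.Agent.Lib.R2H1.LocQuot Groth.Agent.Lib.R2H1.Gysin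
  Groth.Agent.Lib.Helper23.SecTw
  Groth.Agent.Lib.R2H1.PullInv Groth.Agent.Lib.R2H1.PullInv2

/-- the length of `A ⧸ ker φ` over `A` is the length of `B` over itself, for `φ : A → B`
surjective. -/
theorem length_quot_ker_of_surjective {A B : Type*} [CommRing A] [CommRing B] (φ : A →+* B)
    (hφ : Function.Surjective φ) :
    Module.length A (A ⧸ RingHom.ker φ) = Module.length B B := by
  rw [Module.length_eq_of_surjective (S := A) (R := A ⧸ RingHom.ker φ) (M := A ⧸ RingHom.ker φ)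
    Ideal.Quotient.mk_surjective]
  exact Groth.Agent.Lib.R2H1.PowLen.length_self_ringEquiv
    (RingHom.quotientKerEquivOfSurjective hφ)

variable {X : Scheme.{u}}

/-- a generator of the stalk of `L` is a unit multiple of the free generator. -/
theorem exists_unit_smul_of_span_eq_top {L : X.Modules} (G : Gen L) (y : X) (hy : y ∈ G.W)
    (t : L.presheaf.stalk y) (ht : Submodule.span (X.presheaf.stalk y) {t} = ⊤) :
    ∃ a : X.presheaf.stalk y, IsUnit a ∧ t = a • G.g y hy := by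
  obtain ⟨a, ha⟩ := (G.g_bij y hy).2 t
  have ha' : a • G.g y hy = t := ha
  have hmem : G.g y hy ∈ Submodule.span (X.presheaf.stalk y) {t} := by rw [ht]; trivial
  obtain ⟨a', ha'2⟩ := Submodule.mem_span_singleton.1 hmem
  have h1 : a' * a = 1 := by
    apply (G.g_bij y hy).1
    change (a' * a) • G.g y hy = (1 : X.presheaf.stalk y) • G.g y hy
    rw [mul_smul, one_smul, ha', ha'2]
  exact ⟨a, IsUnit.of_mul_eq_one_right a' h1, ha'.symm⟩

/-- the coefficients of `[Z(s)]_k` at the points of the zero scheme `D` are the coefficients of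
`[D]_k`. -/
theorem zeroSectionFun_eq_subschemeFun {D : Scheme.{u}} (i : D ⟶ X) [IsClosedImmersion i]
    (δ : X → ℤ) (L : X.Modules) (hL : PicF.IsInvertible L) (s : L.presheaf.obj (Opposite.op ⊤))
    (hD : Cyc.IsZeroSchemeOf i L s) (k : ℤ) (d : D) :
    Cyc.zeroSectionFun δ k L s (i d) = Cyc.subschemeFun (fun d => δ (i d)) k (𝟙 D) d := by
  classical
  rw [subschemeFun_id]
  unfold Cyc.zeroSectionFun
  by_cases hk : δ (i d) = k
  swap
  · rw [if_neg hk, if_neg hk]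
  rw [if_pos hk, if_pos hk]
  obtain ⟨G, hG⟩ := Groth.Agent.Lib.R2H1.C1Comm.exists_gen L hL (i d)
  obtain ⟨t', f', ht', hs', hker⟩ := hD.2 d
  have ht : ∃ t : L.presheaf.stalk (i d), Submodule.span (X.presheaf.stalk (i d)) {t} = ⊤ :=
    ⟨t', ht'⟩
  rw [dif_pos ht]
  have htspec := Classical.choose_spec ht
  set t := Classical.choose ht with htdef
  have hf : ∃ f : X.presheaf.stalk (i d), (L.presheaf.germ ⊤ (i d) trivial) s = f • t := by
    have : (L.presheaf.germ ⊤ (i d) trivial) s ∈ Submodule.span (X.presheaf.stalk (i d)) {t} := by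
      rw [htspec]; trivial
    obtain ⟨c, hc⟩ := Submodule.mem_span_singleton.1 this
    exact ⟨c, hc.symm⟩
  rw [dif_pos hf]
  have hfspec := Classical.choose_spec hf
  set f := Classical.choose hf with hfdef
  obtain ⟨a, ha, hta⟩ := exists_unit_smul_of_span_eq_top G (i d) hG t htspec
  obtain ⟨a', ha', hta'⟩ := exists_unit_smul_of_span_eq_top G (i d) hG t' ht'
  have hff : f * a = f' * a' := by
    apply (G.g_bij (i d) hG).1
    change (f * a) • G.g (i d) hG = (f' * a') • G.g (i d) hG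
    rw [mul_smul, mul_smul, ← hta, ← hta', ← hfspec, ← hs']
  have hspan : Ideal.span {f} = Ideal.span {f'} := by
    rw [← Ideal.span_singleton_mul_right_unit ha f, hff,
      Ideal.span_singleton_mul_right_unit ha' f']
  rw [hspan, ← hker]
  congr 2
  exact length_quot_ker_of_surjective (i.stalkMap d).hom (i.stalkMap_surjective d)

/-- the class of the free generator in the fibre is not zero. -/
theorem mk_g_ne_zero {L : X.Modules} (G : Gen L) (y : X) (hy : y ∈ G.W) :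
    (Submodule.Quotient.mk (G.g y hy) : Cyc.secFibre L y) ≠ 0 := by
  intro h0
  have h1 := G.fib_smul y hy 1
  rw [one_smul, h0] at h1
  have h2 := G.fib_smul y hy 0
  rw [zero_smul] at h2
  rw [h2, map_zero, map_one] at h1
  exact zero_ne_one h1

end Part2

section Part3

open AlgebraicGeometry CategoryTheory TopologicalSpace IsLocalRing CycAlg Opposite
  Groth.Agent.Lib.R2H1.C1Comm Groth.Agent.Lib.R2H1.C1Rel Groth.Agent.Lib.R2H1.C1Tensor
  Groth.Agent.Lib.R2H1.RatEquivClosed Groth.Agent.Lib.R2H1.LocQuot Groth.Agent.Lib.R2H1.Gysin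
  Groth.Agent.Lib.Helper23.SecTw
  Groth.Agent.Lib.R2H1.PullInv Groth.Agent.Lib.R2H1.PullInv2

/-- S1930: `i^*(div_N t) ∼ c_1(N|_D) ∩ [D]_{n-1}` for an effective Cartier divisor `D` on an
integral scheme. -/
theorem main1930 (X D : Scheme.{u}) [IsIntegral X] (δ : X → ℤ) (hX : Cyc.IsSetup X δ) (n : ℤ)
    (hn : δ (genericPoint X) = n) (L : X.Modules) (hL : PicF.IsInvertible L)
    (s : L.presheaf.obj (Opposite.op ⊤))
    (hreg : ∀ x : X, Function.Injective
      (fun a : X.presheaf.stalk x => a • (L.presheaf.germ ⊤ x trivial) s))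
    (i : D ⟶ X) [IsClosedImmersion i] (hD : Cyc.IsZeroSchemeOf i L s) (N : X.Modules)
    (hN : PicF.IsInvertible N) (t : Cyc.secFibre N (genericPoint X)) (ht : t ≠ 0)
    (w : (ξ : X) → Cyc.secFibre L ξ) (hw : ∀ ξ, w ξ ≠ 0)
    (u : (d : D) → Cyc.secFibre ((Scheme.Modules.pullback i).obj N) d) (hu : ∀ d, u d ≠ 0)
    (γ₁ γ₂ : AlgebraicCycle D ℤ)
    (h₁ : ∀ d : D, γ₁ d = Cyc.c1CapFun δ L (Cyc.secDivFun δ N (genericPoint X) t)
      (Cyc.gysinChoice L s w) (i d))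
    (h₂ : ⇑γ₂ = Cyc.c1CapFun (fun d => δ (i d)) ((Scheme.Modules.pullback i).obj N)
      (Cyc.subschemeFun (fun d => δ (i d)) (n - 1) (𝟙 D)) u) :
    Cyc.RatEquiv (fun d => δ (i d)) (n - 2) γ₁ γ₂ := by
  classical
  choose gL hgL using Groth.Agent.Lib.R2H1.C1Comm.exists_gen L hL
  choose gN hgN using Groth.Agent.Lib.R2H1.C1Comm.exists_gen N hN
  have hsgen : (L.presheaf.germ ⊤ (genericPoint X) trivial) s ≠ 0 := by
    intro h0
    have h1 := @hreg (genericPoint X) 1 0 (by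
      change (1 : X.presheaf.stalk (genericPoint X)) • (L.presheaf.germ ⊤ (genericPoint X) trivial) s =
        (0 : X.presheaf.stalk (genericPoint X)) • (L.presheaf.germ ⊤ (genericPoint X) trivial) s
      rw [h0, smul_zero, smul_zero])
    exact one_ne_zero h1
  have hmax : IsLocalRing.maximalIdeal (X.presheaf.stalk (genericPoint X)) = ⊥ :=
    IsLocalRing.maximalIdeal_eq_bot
  have hmk : (Submodule.Quotient.mk ((L.presheaf.germ ⊤ (genericPoint X) trivial) s) : Cyc.secFibre L (genericPoint X)) ≠ 0 := by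
    intro h0
    obtain ⟨c, hc⟩ := ((gL (genericPoint X)).g_bij (genericPoint X) (hgL (genericPoint X))).2 ((L.presheaf.germ ⊤ (genericPoint X) trivial) s)
    have hc' : c • (gL (genericPoint X)).g (genericPoint X) (hgL (genericPoint X)) = (L.presheaf.germ ⊤ (genericPoint X) trivial) s := hc
    rw [← hc', Submodule.Quotient.mk_smul] at h0
    have h1 := residue_eq_zero_of_smul_mk_eq_zero L (genericPoint X) _ ((gL (genericPoint X)).g_bij (genericPoint X) (hgL (genericPoint X))) c h0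
    have h2 : c ∈ IsLocalRing.maximalIdeal (X.presheaf.stalk (genericPoint X)) :=
      (IsLocalRing.residue_eq_zero_iff _).mp h1
    rw [hmax, Ideal.mem_bot] at h2
    apply hsgen
    rw [← hc', h2, zero_smul]
  have hgcgen : Cyc.gysinChoice L s w (genericPoint X) =
      Submodule.Quotient.mk ((L.presheaf.germ ⊤ (genericPoint X) trivial) s) := gysinChoice_of_ne s w (genericPoint X) hmk
  have h1923 := Groth.Agent.Lib.R2H1.SecDiv.main X δ hX n hn L hL s hsgen
  refine gysin_c1_core X D δ hX L N hL hN s i hD n (ι := PUnit.{u + 1}) (fun _ => genericPoint X)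
    (fun _ => hn) (fun x => ⟨Set.univ, isOpen_univ, trivial, Set.toFinite _⟩) (fun _ => 1)
    (fun _ => t) (fun _ => ht) w hw
    (fun ξ => Submodule.Quotient.mk ((gN ξ).g ξ (hgN ξ)))
    (fun ξ => mk_g_ne_zero (gN ξ) ξ (hgN ξ)) u hu γ₁ γ₂ ?_ ?_
  · intro d
    rw [h₁ d]
    unfold Cyc.c1CapFun
    refine finsum_congr (fun ξ => ?_)
    rw [finsum_unique, one_mul]
  · intro d
    rw [h₂]
    unfold Cyc.c1CapFun
    refine finsum_congr (fun d' => ?_)
    rw [finsum_unique, one_mul, hgcgen, h1923, zeroSectionFun_eq_subschemeFun i δ L hL s hD (n - 1) d']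

end Part3

end Groth.Agent.Lib.R2H1.PullInv3
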