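/-
Closed immersions and c_1 (helper1, round 2; S1924): maximal_points_locallyFinite, subschemeFun_closedImmersion, subschemeFun_of_notMem_range, family_of_support, ratEquivZero_of_closedImmersion_family (push-forward of a locally finite family of principal divisors along a closed immersion), main1924.
-/
import Mathlib
import Groth.Prelude.Def_Cyc
import Groth.Prelude.Def_C1
import Groth.Agent.Lib.R2H1C1Rel
import Groth.Agent.Lib.R2H1C1Tensor
import Groth.Agent.Lib.R2H1Gysin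
import Groth.Agent.Lib.R2H1FlatPullRat
import Groth.Agent.Lib.Helper23SecTw6
import Groth.Agent.Lib.R2H1PullInv3

set_option autoImplicit false
set_option linter.style.haveILetI false
set_option linter.unusedSectionVars false
universe u v

namespace Groth.Agent.Lib.R2H1.CIPush

section Part1

open AlgebraicGeometry CategoryTheory TopologicalSpace IsLocalRing CycAlg Opposite
  Groth.Agent.Lib.R2H1.C1Comm Groth.Agent.Lib.R2H1.C1Rel Groth.Agent.Lib.R2H1.C1Tensor
  Groth.Agent.Lib.R2H1.RatEquivClosed Groth.Agent.Lib.R2H1.LocQuot Groth.Agent.Lib.R2H1.Gysin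
  Groth.Agent.Lib.Helper23.SecTw Groth.Agent.Lib.R2H1.FlatPullRat
  Groth.Agent.Lib.R2H1.PullInv Groth.Agent.Lib.R2H1.PullInv2 Groth.Agent.Lib.R2H1.PullInv3

variable {X Y : Scheme.{u}}

/-- the points without proper generizations of a locally Noetherian scheme are locally finite. -/
theorem maximal_points_locallyFinite [IsLocallyNoetherian Y] (y : Y) :
    ∃ U : Set Y, IsOpen U ∧ y ∈ U ∧ {ζ : Y | ζ ∈ U ∧ ∀ z : Y, z ⤳ ζ → z = ζ}.Finite := by
  obtain ⟨V', hV', hyV', -⟩ := exists_isAffineOpen_mem_and_subset (X := Y)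
    (U := ⊤) (x := y) trivial
  haveI : IsNoetherianRing Γ(Y, V') := IsLocallyNoetherian.component_noetherian ⟨V', hV'⟩
  haveI hN : NoetherianSpace V' := noetherianSpace_of_isAffineOpen V' hV'
  haveI hN' : NoetherianSpace ((V' : Set Y)) := hN
  haveI hQ : QuasiSober (V' : Set Y) := V'.isOpenEmbedding'.quasiSober
  have hfin := finite_maximal_points (V' : Set Y)
  refine ⟨V', V'.isOpen, hyV', (hfin.image Subtype.val).subset ?_⟩
  rintro ζ ⟨h1, h2⟩
  refine ⟨⟨ζ, h1⟩, ?_, rfl⟩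
  intro z hz
  have hz' : z.1 ⤳ ζ := (Topology.IsInducing.subtypeVal.specializes_iff).mpr hz
  exact Subtype.ext (h2 z.1 hz')

/-- the coefficients of `[Y]_k` pushed into `X` along a closed immersion, at a point of `Y`. -/
theorem subschemeFun_closedImmersion (ι : Y ⟶ X) [IsClosedImmersion ι] (δ : X → ℤ) (k : ℤ)
    (z : Y) :
    Cyc.subschemeFun δ k ι (ι z) = Cyc.subschemeFun (fun y => δ (ι y)) k (𝟙 Y) z := by
  rw [subschemeFun_id]
  unfold Cyc.subschemeFun
  by_cases h : δ (ι z) = k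
  · rw [if_pos h, if_pos h]
    have : {z' : Y | ι z' = ι z} = {z} := by
      ext z'
      simp only [Set.mem_setOf_eq, Set.mem_singleton_iff]
      exact ⟨fun h => ι.isClosedEmbedding.injective h, fun h => by rw [h]⟩
    rw [this, finsum_mem_singleton]
  · rw [if_neg h, if_neg h]

theorem subschemeFun_of_notMem_range (ι : Y ⟶ X) (δ : X → ℤ) (k : ℤ) (x : X)
    (hx : x ∉ Set.range ι) : Cyc.subschemeFun δ k ι x = 0 := by
  unfold Cyc.subschemeFun
  split_ifs with h
  · have : {z' : Y | ι z' = x} = ∅ := by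
      ext z'
      simp only [Set.mem_setOf_eq, Set.mem_empty_iff_false, iff_false]
      intro h
      exact hx ⟨z', h⟩
    rw [this, finsum_mem_empty]
  · rfl

/-- the weighted sum of principal divisors over the locally finite support of a function is a
locally finite sum of principal divisors. -/
theorem family_of_support (δ : X → ℤ) (hX : Cyc.IsSetup X δ) (k : ℤ)
    (β : X → ℤ) (hβ : ∀ x, β x ≠ 0 → δ x = k + 1)
    (hβlf : ∀ x : X, ∃ U : Set X, IsOpen U ∧ x ∈ U ∧
      {ζ : {ζ : X // β ζ ≠ 0} | (closure {ζ.1} ∩ U).Nonempty}.Finite)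
    (φ : (ξ : X) → X.residueField ξ) (hφ : ∀ ξ, φ ξ ≠ 0) :
    ∃ (J : Type u) (ζ : J → X) (g : (j : J) → X.residueField (ζ j)),
      (∀ j, δ (ζ j) = k + 1) ∧ (∀ j, g j ≠ 0) ∧
      (∀ x : X, ∃ U : Set X, IsOpen U ∧ x ∈ U ∧ {j | (closure {ζ j} ∩ U).Nonempty}.Finite) ∧
      ∀ x, ∑ᶠ ζ : X, β ζ * Cyc.divFun δ ζ (φ ζ) x = ∑ᶠ j, Cyc.divFun δ (ζ j) (g j) x := by
  classical
  refine ⟨{ζ : X // β ζ ≠ 0}, fun ζ => ζ.1, fun ζ => (φ ζ.1) ^ (β ζ.1), ?_, ?_, hβlf, ?_⟩
  · intro ζ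
    exact hβ ζ.1 ζ.2
  · intro ζ
    exact zpow_ne_zero _ (hφ ζ.1)
  · intro x
    have e : ∀ ζ : {ζ : X // β ζ ≠ 0}, Cyc.divFun δ ζ.1 ((φ ζ.1) ^ (β ζ.1)) x =
        β ζ.1 * Cyc.divFun δ ζ.1 (φ ζ.1) x := fun ζ => divFun_zpow δ hX ζ.1 x (hφ ζ.1) (β ζ.1)
    rw [finsum_congr e]
    exact (finsum_subtype_of_support (fun ζ => β ζ ≠ 0)
      (fun ζ => β ζ * Cyc.divFun δ ζ (φ ζ) x) (fun ζ h h0 => h (by rw [h0, zero_mul]))).symm

/-- a cycle on `X` supported on a closed subscheme `Y` which on `Y` is a locally finite sum of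
principal divisors is rationally equivalent to zero. -/
theorem ratEquivZero_of_closedImmersion_family (ι : Y ⟶ X) [IsClosedImmersion ι] (δ : X → ℤ)
    (k : ℤ) {J : Type u} (ζ : J → Y) (g : (j : J) → Y.residueField (ζ j))
    (hζ : ∀ j, δ (ι (ζ j)) = k + 1) (hg : ∀ j, g j ≠ 0)
    (hlf : ∀ y : Y, ∃ U : Set Y, IsOpen U ∧ y ∈ U ∧ {j | (closure {ζ j} ∩ U).Nonempty}.Finite)
    (θ : AlgebraicCycle X ℤ)
    (h1 : ∀ y, θ (ι y) = ∑ᶠ j, Cyc.divFun (fun y => δ (ι y)) (ζ j) (g j) y)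
    (h0 : ∀ x, x ∉ Set.range ι → θ x = 0) : Cyc.RatEquivZero δ k θ := by
  classical
  let eK : ∀ j, X.residueField (ι (ζ j)) ≃+* Y.residueField (ζ j) := fun j =>
    RingEquiv.ofBijective (ι.residueFieldMap (ζ j)).hom (residueFieldMap_bijective ι (ζ j))
  have heK : ∀ j a, (ι.residueFieldMap (ζ j)).hom ((eK j).symm a) = a :=
    fun j a => (eK j).apply_symm_apply a
  have hcl : IsClosed (Set.range ι) := ι.isClosedEmbedding.isClosed_range
  refine ⟨J, fun j => ι (ζ j), fun j => (eK j).symm (g j), hζ, ?_, ?_, ?_⟩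
  · intro j h
    apply hg j
    have h' : (eK j).symm (g j) = 0 := h
    rw [← heK j (g j), h', map_zero]
  · intro x
    by_cases hx : x ∈ Set.range ι
    · obtain ⟨y, rfl⟩ := hx
      obtain ⟨U, hU, hyU, hfin⟩ := hlf y
      obtain ⟨U', hU', rfl⟩ := ι.isClosedEmbedding.isInducing.isOpen_iff.mp hU
      refine ⟨U', hU', hyU, hfin.subset ?_⟩
      rintro j ⟨x', hx'1, hx'2⟩
      have hsp : ι (ζ j) ⤳ x' := specializes_iff_mem_closure.mpr hx'1
      have hx'r : x' ∈ Set.range ι :=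
        hcl.closure_subset_iff.mpr (Set.singleton_subset_iff.mpr ⟨ζ j, rfl⟩) hx'1
      obtain ⟨y', rfl⟩ := hx'r
      have hsp' : ζ j ⤳ y' := ι.isClosedEmbedding.isInducing.specializes_iff.mp hsp
      exact ⟨y', specializes_iff_mem_closure.mp hsp', hx'2⟩
    · refine ⟨(Set.range ι)ᶜ, hcl.isOpen_compl, hx, ?_⟩
      convert Set.finite_empty
      ext j
      simp only [Set.mem_setOf_eq, Set.mem_empty_iff_false, iff_false]
      rintro ⟨x', hx'1, hx'2⟩
      exact hx'2 (hcl.closure_subset_iff.mpr (Set.singleton_subset_iff.mpr ⟨ζ j, rfl⟩) hx'1)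
  · intro x
    by_cases hx : x ∈ Set.range ι
    · obtain ⟨y, rfl⟩ := hx
      rw [h1 y]
      refine finsum_congr (fun j => ?_)
      rw [← divFun_preimmersion ι δ (ζ j) y ((eK j).symm (g j)), heK]
    · rw [h0 x hx]
      symm
      apply finsum_eq_zero_of_forall_eq_zero
      intro j
      by_contra hne
      have hsp := (divFun_ne_zero_specializes hne).1
      exact hx (hcl.closure_subset_iff.mpr (Set.singleton_subset_iff.mpr ⟨ζ j, rfl⟩)
        (specializes_iff_mem_closure.mp hsp))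

end Part1

section Part2

open AlgebraicGeometry CategoryTheory TopologicalSpace IsLocalRing CycAlg Opposite
  Groth.Agent.Lib.R2H1.C1Comm Groth.Agent.Lib.R2H1.C1Rel Groth.Agent.Lib.R2H1.C1Tensor
  Groth.Agent.Lib.R2H1.RatEquivClosed Groth.Agent.Lib.R2H1.LocQuot Groth.Agent.Lib.R2H1.Gysin
  Groth.Agent.Lib.Helper23.SecTw Groth.Agent.Lib.R2H1.FlatPullRat
  Groth.Agent.Lib.R2H1.PullInv Groth.Agent.Lib.R2H1.PullInv2 Groth.Agent.Lib.R2H1.PullInv3

/-- S1924: `c_1(L) ∩ [Y]_{k+1} ∼ ι_*[Z(s)]_k`. -/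
theorem main1924 (X Y : Scheme.{u}) (δ : X → ℤ) (hX : Cyc.IsSetup X δ) (L : X.Modules)
    (hL : PicF.IsInvertible L) (ι : Y ⟶ X) [IsClosedImmersion ι] (k : ℤ)
    (hY : ∀ y : Y, δ (ι y) ≤ k + 1)
    (s : ((Scheme.Modules.pullback ι).obj L).presheaf.obj (Opposite.op ⊤))
    (hZ : ∀ y : Y, (((Scheme.Modules.pullback ι).obj L).presheaf.germ ⊤ y trivial) s ∈
      IsLocalRing.maximalIdeal (Y.presheaf.stalk y) •
        (⊤ : Submodule (Y.presheaf.stalk y)
          (((Scheme.Modules.pullback ι).obj L).presheaf.stalk y)) → δ (ι y) ≤ k)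
    (hreg : ∀ y : Y, δ (ι y) = k → Function.Injective
      (fun a : Y.presheaf.stalk y =>
        a • (((Scheme.Modules.pullback ι).obj L).presheaf.germ ⊤ y trivial) s))
    (v : (ξ : X) → Cyc.secFibre L ξ) (hv : ∀ ξ, v ξ ≠ 0) (γ : AlgebraicCycle X ℤ)
    (hγ : ⇑γ = Cyc.c1CapFun δ L (Cyc.subschemeFun δ (k + 1) ι) v) (ζ : AlgebraicCycle Y ℤ)
    (hζ : ⇑ζ = Cyc.zeroSectionFun (fun y => δ (ι y)) k ((Scheme.Modules.pullback ι).obj L) s) :
    Cyc.RatEquiv δ k γ (AlgebraicCycle.map ι (fun y => δ (ι y)) δ ζ) := by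
  classical
  haveI : L.IsQuasicoherent := isQuasicoherent_of_isInvertible L hL
  have hYs := isSetup_of_closedImmersion ι hX
  haveI : IsLocallyNoetherian Y := hYs.1
  have hL' : PicF.IsInvertible ((Scheme.Modules.pullback ι).obj L) :=
    Groth.Agent.Lib.Helper23.PB.isInvertible_pullback ι L hL
  have h1925 := Groth.Agent.Lib.R2H1.LocQuot.main Y (fun y => δ (ι y)) hYs
    ((Scheme.Modules.pullback ι).obj L) hL' k hY s hZ hreg
  choose WL eL hz hgen using Groth.Agent.Lib.Helper23.SecTw.exists_gen L hL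
  choose gP hgP using Groth.Agent.Lib.R2H1.C1Comm.exists_gen ((Scheme.Modules.pullback ι).obj L) hL'
  set τ₀ : (d : Y) → Cyc.secFibre ((Scheme.Modules.pullback ι).obj L) d :=
    fun d => Submodule.Quotient.mk ((gP d).g d (hgP d)) with hτ₀def
  have hτ₀ : ∀ d, τ₀ d ≠ 0 := fun d => mk_g_ne_zero (gP d) d (hgP d)
  have hτ := gysinChoice_ne_zero s τ₀ hτ₀
  set τ := Cyc.gysinChoice ((Scheme.Modules.pullback ι).obj L) s τ₀ with hτdef
  set β : Y → ℤ := Cyc.subschemeFun (fun y => δ (ι y)) (k + 1) (𝟙 Y) with hβdef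
  have hβdim : ∀ d, β d ≠ 0 → δ (ι d) = k + 1 := by
    intro d hd
    by_contra hne
    apply hd
    rw [hβdef, subschemeFun_id, if_neg hne]
  have hβmax : ∀ d, β d ≠ 0 → ∀ z : Y, z ⤳ d → z = d := by
    intro d hd z hz
    by_contra hne
    have h1 := (hYs.2.2 z d hz hne).1
    have h2 := hβdim d hd
    have h3 := hY z
    simp only at h1
    omega
  have hβlf : ∀ y : Y, ∃ U : Set Y, IsOpen U ∧ y ∈ U ∧
      {ζ : {ζ : Y // β ζ ≠ 0} | (closure {ζ.1} ∩ U).Nonempty}.Finite := by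
    intro y
    obtain ⟨U, hU, hyU, hfin⟩ := maximal_points_locallyFinite y
    refine ⟨U, hU, hyU, (hfin.preimage Subtype.val_injective.injOn).subset ?_⟩
    rintro d ⟨y', hy', hy'U⟩
    have hsp : d.1 ⤳ y' := specializes_iff_mem_closure.mpr hy'
    exact ⟨hsp.mem_open hU hy'U, hβmax d.1 d.2⟩
  have hτeq : ∀ d, β d ≠ 0 → τ d = Submodule.Quotient.mk
      ((((Scheme.Modules.pullback ι).obj L).presheaf.germ ⊤ d trivial) s) := by
    intro d hd
    refine gysinChoice_of_ne s τ₀ d ?_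
    intro h0
    have h1 := hZ d ((Submodule.Quotient.mk_eq_zero _).mp h0)
    have h2 := hβdim d hd
    omega
  have hζ' : ∀ y, ζ y = ∑ᶠ d' : Y, β d' *
      Cyc.secDivFun (fun y => δ (ι y)) ((Scheme.Modules.pullback ι).obj L) d' (τ d') y := by
    intro y
    rw [hζ, h1925]
    unfold Cyc.c1CapFun
    refine finsum_congr (fun d' => ?_)
    by_cases hd : β d' = 0
    · rw [hd, zero_mul, zero_mul]
    · rw [hτeq d' hd]
  have hfin : ∀ d : Y, {d' : Y | β d' ≠ 0 ∧ d' ⤳ d}.Finite := by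
    intro d
    obtain ⟨U, hU, hdU, hfin⟩ := hβlf d
    refine (hfin.image Subtype.val).subset ?_
    rintro d' ⟨h1, h2⟩
    exact ⟨⟨d', h1⟩, ⟨d, specializes_iff_mem_closure.mp h2, hdU⟩, rfl⟩
  have hcl : IsClosed (Set.range ι) := ι.isClosedEmbedding.isClosed_range
  obtain ⟨J, ζf, g, hζf, hg, hlf, hsum⟩ := family_of_support (fun y => δ (ι y)) hYs k β hβdim hβlf
    (fun d' => psi ι L WL eL hz hgen d' (v (ι d')) (τ d'))
    (fun d' => psi_ne_zero ι L WL eL hz hgen d' _ _ (hv _) (hτ _))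
  unfold Cyc.RatEquiv
  refine ratEquivZero_of_closedImmersion_family ι δ k ζf g hζf hg hlf _ ?_ ?_
  · intro d
    have hsub : (γ - AlgebraicCycle.map ι (fun y => δ (ι y)) δ ζ) (ι d) =
        γ (ι d) - (AlgebraicCycle.map ι (fun y => δ (ι y)) δ ζ) (ι d) := by
      rw [Function.locallyFinsuppWithin.coe_sub]
      rfl
    rw [hsub, map_apply_of_injective ι ι.isClosedEmbedding.injective δ ζ d, hζ' d, hγ, ← hsum d]
    have e1 : Cyc.c1CapFun δ L (Cyc.subschemeFun δ (k + 1) ι) v (ι d) =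
        ∑ᶠ d' : Y, β d' * Cyc.secDivFun δ L (ι d') (v (ι d')) (ι d) := by
      unfold Cyc.c1CapFun
      rw [finsum_comp_of_injective ι ι.isClosedEmbedding.injective]
      · refine finsum_congr (fun d' => ?_)
        rw [subschemeFun_closedImmersion ι δ (k + 1) d']
      · intro ξ hξ
        by_contra hnot
        apply hξ
        rw [subschemeFun_of_notMem_range ι δ (k + 1) ξ hnot, zero_mul]
    rw [e1, compare_sum ι hX L WL eL hz hgen β d (hfin d) v hv τ hτ]
    ring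
  · intro x hx
    have hsub : (γ - AlgebraicCycle.map ι (fun y => δ (ι y)) δ ζ) x =
        γ x - (AlgebraicCycle.map ι (fun y => δ (ι y)) δ ζ) x := by
      rw [Function.locallyFinsuppWithin.coe_sub]
      rfl
    rw [hsub, map_apply_of_notMem_range ι _ _ ζ x hx, sub_zero, hγ]
    unfold Cyc.c1CapFun
    apply finsum_eq_zero_of_forall_eq_zero
    intro ξ
    by_cases hξ : ξ ∈ Set.range ι
    · have h0 : Cyc.secDivFun δ L ξ (v ξ) x = 0 := by
        by_contra hne
        have hsp := (secDivFun_ne_zero_specializes hne).1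
        exact hx (hcl.closure_subset_iff.mpr (Set.singleton_subset_iff.mpr hξ)
          (specializes_iff_mem_closure.mp hsp))
      rw [h0, mul_zero]
    · rw [subschemeFun_of_notMem_range ι δ (k + 1) ξ hξ, zero_mul]

end Part2

end Groth.Agent.Lib.R2H1.CIPush
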