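/-
Flat pullback commutes with c_1 (helper1, round 2; S1946, S1927): psi_spec, pull_point, pullFun_support_locallyFinite, Mterm_self, phiOf, pull_c1_pointwise, pull_c1_sub, main1946, main1927.
-/
import Mathlib
import Groth.Prelude.Def_Cyc
import Groth.Prelude.Def_C1
import Groth.Agent.Lib.R2H1C1Rel
import Groth.Agent.Lib.R2H1C1Tensor
import Groth.Agent.Lib.R2H1Gysin
import Groth.Agent.Lib.R2H1FlatPullRat
import Groth.Agent.Lib.Helper23SecTw6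
import Groth.Agent.Lib.R2H1PullInv3
import Groth.Agent.Lib.R2H1CIPush

set_option autoImplicit false
set_option linter.style.haveILetI false
set_option linter.unusedSectionVars false
universe u v

namespace Groth.Agent.Lib.R2H1.FlatPullC1

section Part1

open AlgebraicGeometry CategoryTheory TopologicalSpace IsLocalRing CycAlg Opposite
  Groth.Agent.Lib.R2H1.C1Comm Groth.Agent.Lib.R2H1.C1Rel Groth.Agent.Lib.R2H1.C1Tensor
  Groth.Agent.Lib.R2H1.RatEquivClosed Groth.Agent.Lib.R2H1.LocQuot Groth.Agent.Lib.R2H1.Gysin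
  Groth.Agent.Lib.Helper23.SecTw Groth.Agent.Lib.R2H1.FlatPullRat
  Groth.Agent.Lib.R2H1.PullInv Groth.Agent.Lib.R2H1.PullInv2 Groth.Agent.Lib.R2H1.PullInv3
  Groth.Agent.Lib.R2H1.CIPush

variable {X X' : Scheme.{u}}

/-- the defining property of the comparison function `psi`, for an arbitrary generator. -/
theorem psi_spec (f : X' ⟶ X) (L : X.Modules) [L.IsQuasicoherent] (WL : X → X.Opens)
    (eL : ∀ z, Γ(L, WL z)) (hz : ∀ z, z ∈ WL z) (hgen : ∀ z, IsGen L (WL z) (eL z)) (z : X)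
    (y' : X') (hm : f y' ∈ WL z) (σ : Cyc.secFibre L (f y'))
    (τ : Cyc.secFibre ((Scheme.Modules.pullback f).obj L) y') (hτ : τ ≠ 0) :
    (f.residueFieldMap y').hom ((genOfIsGen L (WL z) (eL z) (hgen z)).fib (f y') hm σ) =
      psi f L WL eL hz hgen y' σ τ * (pullGen f L (WL z) (eL z) (hgen z)).fib y' hm τ := by
  set GX := genOfIsGen L (WL z) (eL z) (hgen z) with hGX
  set GX' := genOfIsGen L (WL (f y')) (eL (f y')) (hgen (f y')) with hGX'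
  set GD := pullGen f L (WL z) (eL z) (hgen z) with hGD
  set GD' := pullGen f L (WL (f y')) (eL (f y')) (hgen (f y')) with hGD'
  have e1 := GX.fib_change GX' (f y') hm (hz (f y')) σ
  have e2 := GD.fib_change GD' y' hm (hz (f y')) τ
  have ecc : GD.cc GD' y' hm (hz (f y')) = f.stalkMap y' (GX.cc GX' (f y') hm (hz (f y'))) :=
    cc_pullGen f L (eL z) (hgen z) (eL (f y')) (hgen (f y')) y' hm (hz (f y'))
  have hres : (f.residueFieldMap y').hom (X.residue (f y') (GX.cc GX' (f y') hm (hz (f y')))) =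
      X'.residue y' (GD.cc GD' y' hm (hz (f y'))) := by
    rw [ecc]
    exact ConcreteCategory.congr_hom (Scheme.residue_residueFieldMap f y') _
  have hu : X'.residue y' (GD.cc GD' y' hm (hz (f y'))) ≠ 0 :=
    (IsLocalRing.residue_ne_zero_iff_isUnit _).mpr (GD.cc_isUnit GD' y' hm (hz (f y')))
  have hB : GD'.fib y' (hz (f y')) τ ≠ 0 := GD'.fib_ne_zero y' _ τ hτ
  rw [e1, e2, map_mul, hres]
  change _ = (f.residueFieldMap y').hom (GX'.fib (f y') (hz (f y')) σ) /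
    GD'.fib y' (hz (f y')) τ * (GD'.fib y' (hz (f y')) τ * _)
  field_simp

/-- the divisor of the pullback of the coordinate of a rational section of `L` is the divisor
of the comparison function plus the divisor of a rational section of the pullback of `L`. -/
theorem pull_point (p : X' ⟶ X) {δ' : X' → ℤ} (hX' : Cyc.IsSetup X' δ')
    (L : X.Modules) [L.IsQuasicoherent] (WL : X → X.Opens)
    (eL : ∀ z, Γ(L, WL z)) (hz : ∀ z, z ∈ WL z) (hgen : ∀ z, IsGen L (WL z) (eL z)) (z : X)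
    (x' ξ' : X') (hx' : p x' ∈ WL z) (hm : p ξ' ∈ WL z) (σ : Cyc.secFibre L (p ξ'))
    (τ : Cyc.secFibre ((Scheme.Modules.pullback p).obj L) ξ') (hσ : σ ≠ 0) (hτ : τ ≠ 0) :
    Cyc.divFun δ' ξ' ((p.residueFieldMap ξ').hom
        ((genOfIsGen L (WL z) (eL z) (hgen z)).fib (p ξ') hm σ)) x' =
      Cyc.divFun δ' ξ' (psi p L WL eL hz hgen ξ' σ τ) x' +
        Cyc.secDivFun δ' ((Scheme.Modules.pullback p).obj L) ξ' τ x' := by
  haveI : IsLocallyNoetherian X' := hX'.1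
  have hδ' := hX'.2.2
  unfold Cyc.divFun Cyc.secDivFun
  by_cases hc : ξ' ⤳ x' ∧ δ' x' + 1 = δ' ξ'
  · rw [dif_pos hc, dif_pos hc, dif_pos hc]
    set GD := pullGen p L (WL z) (eL z) (hgen z) with hGD
    have hxW : x' ∈ GD.W := hx'
    rw [GD.secOrdAt_eq hδ' ξ' x' hc.1 hc.2 hxW τ, psi_spec p L WL eL hz hgen z ξ' hm σ τ hτ,
      ordAt_mul hδ' x' ξ' hc.1 hc.2 (psi_ne_zero p L WL eL hz hgen ξ' σ τ hσ hτ)
        (GD.fib_ne_zero ξ' hm τ hτ)]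
  · rw [dif_neg hc, dif_neg hc, dif_neg hc]
    ring

end Part1

section Part2

open AlgebraicGeometry CategoryTheory TopologicalSpace IsLocalRing CycAlg Opposite
  Groth.Agent.Lib.R2H1.C1Comm Groth.Agent.Lib.R2H1.C1Rel Groth.Agent.Lib.R2H1.C1Tensor
  Groth.Agent.Lib.R2H1.RatEquivClosed Groth.Agent.Lib.R2H1.LocQuot Groth.Agent.Lib.R2H1.Gysin
  Groth.Agent.Lib.Helper23.SecTw Groth.Agent.Lib.R2H1.FlatPullRat
  Groth.Agent.Lib.R2H1.PullInv Groth.Agent.Lib.R2H1.PullInv2 Groth.Agent.Lib.R2H1.PullInv3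
  Groth.Agent.Lib.R2H1.CIPush

variable {X X' : Scheme.{u}}

theorem pullFun_ne_zero (p : X' ⟶ X) (δ' : X' → ℤ) (δ : X → ℤ) (c : ℤ) (a : X → ℤ) (ξ' : X')
    (h : Cyc.pullFun p δ' δ c a ξ' ≠ 0) : δ' ξ' = δ (p ξ') + c ∧ a (p ξ') ≠ 0 := by
  rw [pullFun_eq] at h
  split_ifs at h with hc
  · exact ⟨hc, fun h0 => h (by rw [h0, zero_mul])⟩
  · exact absurd rfl h

/-- the flat pullback of a cycle has locally finite support. -/
theorem pullFun_support_locallyFinite {δ : X → ℤ} {δ' : X' → ℤ} (hX' : Cyc.IsSetup X' δ')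
    (p : X' ⟶ X) (c : ℤ)
    (hc : ∀ x' : X', (∀ y, p y = p x' → y ⤳ x' → y = x') → δ' x' = δ (p x') + c)
    (α : AlgebraicCycle X ℤ) (x' : X') :
    ∃ U : Set X', IsOpen U ∧ x' ∈ U ∧
      {ζ : {ζ : X' // Cyc.pullFun p δ' δ c ⇑α ζ ≠ 0} | (closure {ζ.1} ∩ U).Nonempty}.Finite := by
  classical
  haveI : IsLocallyNoetherian X' := hX'.1
  have hδ' := hX'.2.2
  obtain ⟨U, hU, hxU, hS⟩ := cycle_support_locallyFinite α (p x')
  obtain ⟨V', hV', hxV', hV'U⟩ := exists_isAffineOpen_mem_and_subset (X := X')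
    (U := ⟨p ⁻¹' U, hU.preimage p.continuous⟩) (x := x') hxU
  refine ⟨V', V'.isOpen, hxV', ?_⟩
  have hT : ∀ η : X, {ξ' : X' | ξ' ∈ V' ∧ p ξ' = η ∧ ∀ z, p z = p ξ' → z ⤳ ξ' → z = ξ'}.Finite :=
    fun η => fibGen_finite p η V' hV'
  have hfin : (⋃ ζ ∈ {ζ : {ζ : X // α ζ ≠ 0} | (closure {ζ.1} ∩ U).Nonempty},
      {ξ' : X' | ξ' ∈ V' ∧ p ξ' = ζ.1 ∧ ∀ z, p z = p ξ' → z ⤳ ξ' → z = ξ'}).Finite :=
    hS.biUnion (fun ζ _ => hT ζ.1)
  refine (hfin.preimage (Subtype.val_injective.injOn)).subset ?_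
  rintro ⟨ξ', hξ'⟩ ⟨z, hz1, hz2⟩
  obtain ⟨hd, hα⟩ := pullFun_ne_zero p δ' δ c ⇑α ξ' hξ'
  have hξ'V : ξ' ∈ V' := by
    have hsp : ξ' ⤳ z := specializes_iff_mem_closure.mpr hz1
    exact hsp.mem_open V'.isOpen hz2
  have hξU : p ξ' ∈ U := hV'U hξ'V
  simp only [Set.mem_preimage, Set.mem_iUnion, Set.mem_setOf_eq, exists_prop]
  refine ⟨⟨p ξ', hα⟩, ⟨p ξ', subset_closure rfl, hξU⟩, hξ'V, rfl, ?_⟩
  exact (Groth.Agent.Lib.R2H3.CycFlat.delta_le p δ δ' hδ' c hc ξ').2 hd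

/-- the points of the support of the flat pullback of a cycle specializing to a given point are
finite in number. -/
theorem pullFun_support_specializes_finite {δ : X → ℤ} {δ' : X' → ℤ} (hX' : Cyc.IsSetup X' δ')
    (p : X' ⟶ X) (c : ℤ)
    (hc : ∀ x' : X', (∀ y, p y = p x' → y ⤳ x' → y = x') → δ' x' = δ (p x') + c)
    (α : AlgebraicCycle X ℤ) (x' : X') :
    {ξ' : X' | Cyc.pullFun p δ' δ c ⇑α ξ' ≠ 0 ∧ ξ' ⤳ x'}.Finite := by
  obtain ⟨U, hU, hxU, hfin⟩ := pullFun_support_locallyFinite hX' p c hc α x'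
  refine (hfin.image Subtype.val).subset ?_
  rintro ξ' ⟨h1, h2⟩
  exact ⟨⟨ξ', h1⟩, ⟨x', specializes_iff_mem_closure.mp h2, hxU⟩, rfl⟩

theorem Mterm_self (p : X' ⟶ X) (δ' : X' → ℤ) (δ : X → ℤ) (c : ℤ) (x' ξ' : X')
    (g : X.residueField (p ξ')) :
    Mterm p δ' δ c (p ξ') g x' ξ' =
      if δ' ξ' = δ (p ξ') + c then
        mult p ξ' * Cyc.divFun δ' ξ' ((p.residueFieldMap ξ').hom g) x' else 0 := by
  unfold Mterm
  rw [dif_pos rfl]
  split_ifs with h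
  · congr 3
  · rfl

end Part2

section Part3

open AlgebraicGeometry CategoryTheory TopologicalSpace IsLocalRing CycAlg Opposite
  Groth.Agent.Lib.R2H1.C1Comm Groth.Agent.Lib.R2H1.C1Rel Groth.Agent.Lib.R2H1.C1Tensor
  Groth.Agent.Lib.R2H1.RatEquivClosed Groth.Agent.Lib.R2H1.LocQuot Groth.Agent.Lib.R2H1.Gysin
  Groth.Agent.Lib.Helper23.SecTw Groth.Agent.Lib.R2H1.FlatPullRat
  Groth.Agent.Lib.R2H1.PullInv Groth.Agent.Lib.R2H1.PullInv2 Groth.Agent.Lib.R2H1.PullInv3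
  Groth.Agent.Lib.R2H1.CIPush

variable {X X' : Scheme.{u}}

open Classical in
/-- the coordinates of the rational sections `v` with respect to a fixed generator, extended by
`1` outside of the domain of the generator. -/
noncomputable def phiOf {L : X.Modules} (G : Gen L) (v : (ξ : X) → Cyc.secFibre L ξ) (ζ : X) :
    X.residueField ζ :=
  if h : ζ ∈ G.W then G.fib ζ h (v ζ) else 1

theorem phiOf_pos {L : X.Modules} (G : Gen L) (v : (ξ : X) → Cyc.secFibre L ξ) (ζ : X)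
    (h : ζ ∈ G.W) : phiOf G v ζ = G.fib ζ h (v ζ) := by
  unfold phiOf
  exact dif_pos h

theorem phiOf_ne_zero {L : X.Modules} (G : Gen L) (v : (ξ : X) → Cyc.secFibre L ξ)
    (hv : ∀ ξ, v ξ ≠ 0) (ζ : X) : phiOf G v ζ ≠ 0 := by
  unfold phiOf
  split_ifs with h
  · exact G.fib_ne_zero ζ h (v ζ) (hv ζ)
  · exact one_ne_zero

theorem secDivFun_eq_divFun_phiOf {L : X.Modules} {δ : X → ℤ} (hX : Cyc.IsSetup X δ)
    (G : Gen L) (v : (ξ : X) → Cyc.secFibre L ξ) (x : X) (hx : x ∈ G.W) (ζ : X) :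
    Cyc.secDivFun δ L ζ (v ζ) x = Cyc.divFun δ ζ (phiOf G v ζ) x := by
  haveI : IsLocallyNoetherian X := hX.1
  unfold Cyc.secDivFun Cyc.divFun
  by_cases hc : ζ ⤳ x ∧ δ x + 1 = δ ζ
  · rw [dif_pos hc, dif_pos hc, phiOf_pos G v ζ (hc.1.mem_open G.W.isOpen hx)]
    exact G.secOrdAt_eq hX.2.2 ζ x hc.1 hc.2 hx (v ζ)
  · rw [dif_neg hc, dif_neg hc]

/-- the flat pullback of `c_1(L) ∩ α`, pointwise, in terms of a generator of `L` at the image
point. -/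
theorem pull_c1_pointwise {δ : X → ℤ} {δ' : X' → ℤ} (hX : Cyc.IsSetup X δ)
    (hX' : Cyc.IsSetup X' δ') (p : X' ⟶ X) [Flat p] (c : ℤ)
    (hc : ∀ x' : X', (∀ y, p y = p x' → y ⤳ x' → y = x') → δ' x' = δ (p x') + c)
    (L : X.Modules) (α : AlgebraicCycle X ℤ) (v : (ξ : X) → Cyc.secFibre L ξ)
    (hv : ∀ ξ, v ξ ≠ 0) (x' : X') (G : Gen L) (hx : p x' ∈ G.W) :
    Cyc.pullFun p δ' δ c (Cyc.c1CapFun δ L ⇑α v) x' =
      ∑ᶠ ξ' : X', Cyc.pullFun p δ' δ c ⇑α ξ' *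
        Cyc.divFun δ' ξ' ((p.residueFieldMap ξ').hom (phiOf G v (p ξ'))) x' := by
  classical
  set φ := phiOf G v with hφdef
  have hφ : ∀ ζ, φ ζ ≠ 0 := phiOf_ne_zero G v hv
  have hT := finite_support_specializes α (p x')
  have hpw := fun ζ => pointwise hX hX' p c hc ζ (φ ζ) (hφ ζ) x'
  -- step 2
  have e1 : Cyc.pullFun p δ' δ c (Cyc.c1CapFun δ L ⇑α v) x' =
      ∑ᶠ ζ : X, α ζ * Cyc.pullFun p δ' δ c (Cyc.divFun δ ζ (φ ζ)) x' := by
    rw [pullFun_eq]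
    by_cases hcond : δ' x' = δ (p x') + c
    · rw [if_pos hcond]
      unfold Cyc.c1CapFun
      have hfin : (Function.support (fun ζ => α ζ * Cyc.secDivFun δ L ζ (v ζ) (p x'))).Finite := by
        refine hT.subset ?_
        intro ζ hζ
        rw [Function.mem_support] at hζ
        exact ⟨fun h0 => hζ (by rw [h0, zero_mul]),
          (secDivFun_ne_zero_specializes (fun h0 => hζ (by rw [h0, mul_zero]))).1⟩
      rw [finsum_mul' _ _ hfin]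
      refine finsum_congr (fun ζ => ?_)
      rw [pullFun_eq, if_pos hcond, secDivFun_eq_divFun_phiOf hX G v (p x') hx ζ, mul_assoc]
    · rw [if_neg hcond]
      symm
      apply finsum_eq_zero_of_forall_eq_zero
      intro ζ
      rw [pullFun_eq, if_neg hcond, mul_zero]
  -- step 3
  have e2 : ∀ ζ, α ζ * Cyc.pullFun p δ' δ c (Cyc.divFun δ ζ (φ ζ)) x' =
      ∑ᶠ ξ' : X', α ζ * Mterm p δ' δ c ζ (φ ζ) x' ξ' := by
    intro ζ
    rw [(hpw ζ).2, mul_finsum' _ _ (hpw ζ).1]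
  -- step 4
  have hfin2 : (Function.support
      (fun q : X × X' => α q.1 * Mterm p δ' δ c q.1 (φ q.1) x' q.2)).Finite := by
    have hfin : (⋃ ζ ∈ {ζ : X | α ζ ≠ 0 ∧ ζ ⤳ p x'}, ({ζ} : Set X) ×ˢ
        (Function.support (fun ξ' : X' => Mterm p δ' δ c ζ (φ ζ) x' ξ'))).Finite :=
      hT.biUnion (fun ζ _ => (Set.finite_singleton ζ).prod (hpw ζ).1)
    refine hfin.subset ?_
    rintro ⟨ζ, ξ'⟩ hq
    rw [Function.mem_support] at hq
    have h1 : α ζ ≠ 0 := fun h0 => hq (by simp only [h0, zero_mul])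
    have h2 : Mterm p δ' δ c ζ (φ ζ) x' ξ' ≠ 0 := fun h0 => hq (by simp only [h0, mul_zero])
    obtain ⟨e, _, ⟨hsp, _⟩, _⟩ := Mterm_ne_zero p δ' δ c ζ (φ ζ) x' ξ' h2
    have hi : ζ ⤳ p x' := by
      rw [← e]
      exact p.base.hom.map_specializes hsp
    simp only [Set.mem_iUnion, Set.mem_prod, Set.mem_singleton_iff, exists_prop]
    exact ⟨ζ, ⟨h1, hi⟩, rfl, h2⟩
  rw [e1, finsum_congr e2,
    ← finsum_curry (fun q : X × X' => α q.1 * Mterm p δ' δ c q.1 (φ q.1) x' q.2) hfin2]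
  -- step 5
  have hginj : Function.Injective (fun ξ' : X' => ((p ξ', ξ') : X × X')) := by
    intro a b hab
    exact (Prod.ext_iff.mp hab).2
  rw [finsum_comp_of_injective (fun ξ' : X' => ((p ξ', ξ') : X × X')) hginj]
  · refine finsum_congr (fun ξ' => ?_)
    simp only
    rw [Mterm_self, pullFun_eq]
    split_ifs with h
    · ring
    · rw [mul_zero, zero_mul]
  · rintro ⟨ζ, ξ'⟩ hq
    have h2 : Mterm p δ' δ c ζ (φ ζ) x' ξ' ≠ 0 := fun h0 => hq (by simp only [h0, mul_zero])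
    obtain ⟨e, _, _, _⟩ := Mterm_ne_zero p δ' δ c ζ (φ ζ) x' ξ' h2
    exact ⟨ξ', by rw [← e]⟩

end Part3

section Part4

open AlgebraicGeometry CategoryTheory TopologicalSpace IsLocalRing CycAlg Opposite
  Groth.Agent.Lib.R2H1.C1Comm Groth.Agent.Lib.R2H1.C1Rel Groth.Agent.Lib.R2H1.C1Tensor
  Groth.Agent.Lib.R2H1.RatEquivClosed Groth.Agent.Lib.R2H1.LocQuot Groth.Agent.Lib.R2H1.Gysin
  Groth.Agent.Lib.Helper23.SecTw Groth.Agent.Lib.R2H1.FlatPullRat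
  Groth.Agent.Lib.R2H1.PullInv Groth.Agent.Lib.R2H1.PullInv2 Groth.Agent.Lib.R2H1.PullInv3
  Groth.Agent.Lib.R2H1.CIPush

variable {X X' : Scheme.{u}}

/-- the difference of `g^*(c_1(L) ∩ α)` and `c_1(g^*L) ∩ g^*α`, pointwise. -/
theorem pull_c1_sub {δ : X → ℤ} {δ' : X' → ℤ} (hX : Cyc.IsSetup X δ)
    (hX' : Cyc.IsSetup X' δ') (p : X' ⟶ X) [Flat p] (c : ℤ)
    (hc : ∀ x' : X', (∀ y, p y = p x' → y ⤳ x' → y = x') → δ' x' = δ (p x') + c)
    (L : X.Modules) [L.IsQuasicoherent] (WL : X → X.Opens)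
    (eL : ∀ z, Γ(L, WL z)) (hz : ∀ z, z ∈ WL z) (hgen : ∀ z, IsGen L (WL z) (eL z))
    (α : AlgebraicCycle X ℤ) (v : (ξ : X) → Cyc.secFibre L ξ)
    (hv : ∀ ξ, v ξ ≠ 0) (u : (ξ : X') → Cyc.secFibre ((Scheme.Modules.pullback p).obj L) ξ)
    (hu : ∀ ξ, u ξ ≠ 0) (x' : X') :
    Cyc.pullFun p δ' δ c (Cyc.c1CapFun δ L ⇑α v) x' -
      Cyc.c1CapFun δ' ((Scheme.Modules.pullback p).obj L) (Cyc.pullFun p δ' δ c ⇑α) u x' =
      ∑ᶠ ξ' : X', Cyc.pullFun p δ' δ c ⇑α ξ' *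
        Cyc.divFun δ' ξ' (psi p L WL eL hz hgen ξ' (v (p ξ')) (u ξ')) x' := by
  classical
  set G := genOfIsGen L (WL (p x')) (eL (p x')) (hgen (p x')) with hG
  have hx : p x' ∈ G.W := hz (p x')
  rw [pull_c1_pointwise hX hX' p c hc L α v hv x' G hx]
  unfold Cyc.c1CapFun
  set β := Cyc.pullFun p δ' δ c ⇑α with hβ
  have hT := pullFun_support_specializes_finite hX' p c hc α x'
  have hfin : ∀ f : X' → ℤ, (∀ ξ', f ξ' ≠ 0 → ξ' ⤳ x') →
      (Function.support (fun ξ' => β ξ' * f ξ')).Finite := by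
    intro f hf
    refine hT.subset ?_
    intro ξ hξ
    rw [Function.mem_support] at hξ
    exact ⟨fun h0 => hξ (by
      have h0' : β ξ = 0 := h0
      rw [h0', zero_mul]), hf ξ (fun h0 => hξ (by rw [h0, mul_zero]))⟩
  have h1 := hfin (fun ξ' => Cyc.divFun δ' ξ' (psi p L WL eL hz hgen ξ' (v (p ξ')) (u ξ')) x')
    (fun ξ' h => (divFun_ne_zero_specializes h).1)
  have h2 := hfin (fun ξ' => Cyc.secDivFun δ' ((Scheme.Modules.pullback p).obj L) ξ' (u ξ') x')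
    (fun ξ' h => (secDivFun_ne_zero_specializes h).1)
  rw [sub_eq_iff_eq_add, ← finsum_add_distrib h1 h2]
  refine finsum_congr (fun ξ' => ?_)
  rw [← mul_add]
  congr 1
  by_cases hsp : ξ' ⤳ x'
  · have hm : p ξ' ∈ WL (p x') :=
      (p.base.hom.map_specializes hsp).mem_open (WL (p x')).isOpen (hz (p x'))
    rw [phiOf_pos G v (p ξ') hm]
    exact pull_point p hX' L WL eL hz hgen (p x') x' ξ' (hz (p x')) hm (v (p ξ')) (u ξ')
      (hv _) (hu _)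
  · unfold Cyc.divFun Cyc.secDivFun
    rw [dif_neg (fun h => hsp h.1), dif_neg (fun h => hsp h.1), dif_neg (fun h => hsp h.1)]
    ring

/-- S1946: `g^*(c_1(L) ∩ α) ∼ c_1(g^*L) ∩ g^*α` for flat base change. -/
theorem main1946 (X X' : Scheme.{u}) (δ : X → ℤ) (δ' : X' → ℤ) (hX : Cyc.IsSetup X δ)
    (hX' : Cyc.IsSetup X' δ') (p : X' ⟶ X) [Flat p] (c : ℤ)
    (hc : ∀ x' : X', (∀ y, p y = p x' → y ⤳ x' → y = x') → δ' x' = δ (p x') + c)
    (L : X.Modules) (hL : PicF.IsInvertible L) (k : ℤ) (α : AlgebraicCycle X ℤ)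
    (hα : α ∈ Cyc.Zk X δ k) (v : (ξ : X) → Cyc.secFibre L ξ) (hv : ∀ ξ, v ξ ≠ 0)
    (u : (ξ : X') → Cyc.secFibre ((Scheme.Modules.pullback p).obj L) ξ) (hu : ∀ ξ, u ξ ≠ 0)
    (γ₁ γ₂ : AlgebraicCycle X' ℤ)
    (h₁ : ⇑γ₁ = Cyc.pullFun p δ' δ c (Cyc.c1CapFun δ L ⇑α v))
    (h₂ : ⇑γ₂ = Cyc.c1CapFun δ' ((Scheme.Modules.pullback p).obj L)
      (Cyc.pullFun p δ' δ c ⇑α) u) :
    Cyc.RatEquiv δ' (k + c - 1) γ₁ γ₂ := by
  classical
  haveI : L.IsQuasicoherent := isQuasicoherent_of_isInvertible L hL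
  choose WL eL hz hgen using Groth.Agent.Lib.Helper23.SecTw.exists_gen L hL
  have hβdim : ∀ ξ', Cyc.pullFun p δ' δ c ⇑α ξ' ≠ 0 → δ' ξ' = k + c - 1 + 1 := by
    intro ξ' hξ'
    obtain ⟨hd, hne⟩ := pullFun_ne_zero p δ' δ c ⇑α ξ' hξ'
    have : δ (p ξ') = k := by
      by_contra h
      exact hne (hα (p ξ') h)
    omega
  obtain ⟨J, ζ, g, hζ, hg, hlf, hsum⟩ := family_of_support δ' hX' (k + c - 1)
    (Cyc.pullFun p δ' δ c ⇑α) hβdim (pullFun_support_locallyFinite hX' p c hc α)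
    (fun ξ' => psi p L WL eL hz hgen ξ' (v (p ξ')) (u ξ'))
    (fun ξ' => psi_ne_zero p L WL eL hz hgen ξ' _ _ (hv _) (hu _))
  refine ⟨J, ζ, g, hζ, hg, hlf, ?_⟩
  intro x'
  have hsub : (γ₁ - γ₂) x' = γ₁ x' - γ₂ x' := by
    rw [Function.locallyFinsuppWithin.coe_sub]
    rfl
  rw [hsub, h₁, h₂, pull_c1_sub hX hX' p c hc L WL eL hz hgen α v hv u hu x', hsum x']

/-- S1927: `f^*(c_1(L) ∩ α) ∼ c_1(f^*L) ∩ f^*α` for flat morphisms of relative dimension `r`. -/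
theorem main1927 (X Y : Scheme.{u}) (δX : X → ℤ) (δY : Y → ℤ) (hX : Cyc.IsSetup X δX)
    (hY : Cyc.IsSetup Y δY) (f : X ⟶ Y) [Flat f] [LocallyOfFiniteType f] (r : ℕ)
    (hr : Cyc.HasRelDim f r) (hδ : Cyc.DeltaCompat f δX δY) (L : Y.Modules)
    (hL : PicF.IsInvertible L) (k : ℤ) (α : AlgebraicCycle Y ℤ) (hα : α ∈ Cyc.Zk Y δY k)
    (v : (η : Y) → Cyc.secFibre L η) (hv : ∀ η, v η ≠ 0)
    (u : (ξ : X) → Cyc.secFibre ((Scheme.Modules.pullback f).obj L) ξ) (hu : ∀ ξ, u ξ ≠ 0)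
    (γ₁ γ₂ : AlgebraicCycle X ℤ) (h₁ : ⇑γ₁ = Cyc.pullFun f δX δY r (Cyc.c1CapFun δY L ⇑α v))
    (h₂ : ⇑γ₂ = Cyc.c1CapFun δX ((Scheme.Modules.pullback f).obj L)
      (Cyc.pullFun f δX δY r ⇑α) u) :
    Cyc.RatEquiv δX (k + r - 1) γ₁ γ₂ :=
  main1946 Y X δY δX hY hX f (r : ℤ)
    (fun a ha => Groth.Agent.Lib.R2H3.CycFlatRel.shift_of_hasRelDim f r δX δY hr hδ a ha)
    L hL k α hα v hv u hu γ₁ γ₂ h₁ h₂

end Part4

end Groth.Agent.Lib.R2H1.FlatPullC1
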