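/-
Relative effective Cartier divisors and Gysin pullback of flat pullbacks (helper1, round 2; S1945): nonZeroDivisor_quot_map_of_flat (if S/(a) is R-flat and a is a nonzerodivisor on S, then a is a nonzerodivisor mod JS), length_quot_map_of_surjective, deltaCompat_comp_closedImmersion, ker_stalkMap_eq_span, coord_mem_nonZeroDivisors, mult_comp_closedImmersion, ker_specMap_self, germ_top_generization, fib_gysinChoice_of_ne, mem_range_of_specMap_eq_zero, gysin_pull_point, main1945.
-/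
import Mathlib
import Groth.Prelude.Def_Cyc
import Groth.Prelude.Def_C1
import Groth.Agent.Lib.R2H1C1Rel
import Groth.Agent.Lib.R2H1C1Tensor
import Groth.Agent.Lib.R2H1Gysin
import Groth.Agent.Lib.R2H1FlatPullRat
import Groth.Agent.Lib.R2H1PerfCyc
import Groth.Agent.Lib.Helper23SecTw6
import Groth.Agent.Lib.R2H1PullInv3
import Groth.Agent.Lib.R2H1FlatPullC1

set_option autoImplicit false
set_option linter.style.haveILetI false
set_option linter.unusedSectionVars false
universe u v

namespace Groth.Agent.Lib.R2H1.RelCartier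

section Part1

open Groth.Agent.Lib.R2H1.PullInv3

/-- relative effective Cartier divisors: if `T = S/(a)` is flat over `R` and `a` is a
nonzerodivisor of `S`, then `a` is a nonzerodivisor modulo `J S` for every ideal `J` of `R`. -/
theorem nonZeroDivisor_quot_map_of_flat {R S T : Type*} [CommRing R] [CommRing S] [CommRing T]
    (φ : R →+* S) (π : S →+* T) (hπ : Function.Surjective π) (a : S)
    (hker : RingHom.ker π = Ideal.span {a}) (ha : a ∈ nonZeroDivisors S)
    (hflat : letI := (π.comp φ).toAlgebra; Module.Flat R T) (J : Ideal R) :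
    Ideal.Quotient.mk (J.map φ) a ∈ nonZeroDivisors (S ⧸ J.map φ) := by
  letI := (π.comp φ).toAlgebra
  haveI : Module.Flat R T := hflat
  rw [mem_nonZeroDivisors_iff_right]
  intro z hz
  obtain ⟨b, rfl⟩ := Ideal.Quotient.mk_surjective z
  rw [← map_mul, Ideal.Quotient.eq_zero_iff_mem] at hz
  rw [Ideal.Quotient.eq_zero_iff_mem]
  -- write `b * a` as a combination
  have hz' : b * a ∈ Submodule.span S (φ '' (J : Set R)) := hz
  obtain ⟨n, c, g, hsum⟩ := Submodule.mem_span_set'.mp hz'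
  choose r hrJ hr using fun i => (g i).2
  have hsum' : ∑ i, c i * φ (r i) = b * a := by
    rw [← hsum]
    refine Finset.sum_congr rfl (fun i _ => ?_)
    rw [smul_eq_mul, hr i]
  -- apply `π`
  have hrel : ∑ i, r i • π (c i) = 0 := by
    have h1 : π (b * a) = 0 := by
      rw [map_mul]
      have : a ∈ RingHom.ker π := by rw [hker]; exact Ideal.mem_span_singleton_self a
      rw [(RingHom.mem_ker).mp this, mul_zero]
    rw [← h1, ← hsum', map_sum]
    refine Finset.sum_congr rfl (fun i _ => ?_)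
    rw [map_mul, Algebra.smul_def, mul_comm]
    rfl
  obtain ⟨k, A, y, hxy, hA⟩ := Module.Flat.isTrivialRelation_of_sum_smul_eq_zero (R := R) (M := T) (f := r)
    (x := fun i => π (c i)) hrel
  choose y' hy' using fun j => hπ (y j)
  -- lift
  have hmem : ∀ i, c i - ∑ j, φ (A i j) * y' j ∈ Ideal.span {a} := by
    intro i
    have hxyi : π (c i) = ∑ j, A i j • y j := hxy i
    rw [← hker, RingHom.mem_ker, map_sub, map_sum, hxyi, sub_eq_zero]
    refine Finset.sum_congr rfl (fun j _ => ?_)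
    rw [map_mul, hy' j, Algebra.smul_def]
    rfl
  choose t ht using fun i => Ideal.mem_span_singleton'.mp (hmem i)
  have hc : ∀ i, c i = ∑ j, φ (A i j) * y' j + t i * a := by
    intro i
    rw [ht i]
    ring
  have hba : b * a = (∑ i, φ (r i) * t i) * a := by
    rw [← hsum']
    have h2 : ∑ i, c i * φ (r i) =
        ∑ j, φ (∑ i, r i * A i j) * y' j + (∑ i, φ (r i) * t i) * a := by
      simp_rw [hc, add_mul, Finset.sum_add_distrib, Finset.sum_mul, map_sum, map_mul,
        Finset.sum_mul]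
      rw [Finset.sum_comm]
      congr 1
      · refine Finset.sum_congr rfl (fun j _ => Finset.sum_congr rfl (fun i _ => ?_))
        ring
      · refine Finset.sum_congr rfl (fun i _ => ?_)
        ring
    rw [h2]
    have h3 : ∀ j, φ (∑ i, r i * A i j) * y' j = 0 := fun j => by rw [hA j, map_zero, zero_mul]
    rw [Finset.sum_congr rfl (fun j _ => h3 j), Finset.sum_const_zero, zero_add]
  have hb : b = ∑ i, φ (r i) * t i := by
    have h4 : (b - ∑ i, φ (r i) * t i) * a = 0 := by rw [sub_mul, hba, sub_self]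
    exact sub_eq_zero.mp ((mem_nonZeroDivisors_iff_right.mp ha) _ h4)
  rw [hb]
  refine Ideal.sum_mem _ (fun i _ => ?_)
  exact Ideal.mul_mem_right _ _ (Ideal.mem_map_of_mem φ (hrJ i))

/-- the length of `B/IB` over `B` is the length of `A/(I + ker φ)` over `A`, for `φ : A → B`
surjective. -/
theorem length_quot_map_of_surjective {A B : Type*} [CommRing A] [CommRing B] (φ : A →+* B)
    (hφ : Function.Surjective φ) (I : Ideal A) :
    Module.length B (B ⧸ I.map φ) = Module.length A (A ⧸ (I ⊔ RingHom.ker φ)) := by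
  set ψ : A →+* B ⧸ I.map φ := (Ideal.Quotient.mk (I.map φ)).comp φ with hψdef
  have hψ : Function.Surjective ψ := Ideal.Quotient.mk_surjective.comp hφ
  have hker : RingHom.ker ψ = I ⊔ RingHom.ker φ := by
    rw [hψdef, ← RingHom.comap_ker, Ideal.mk_ker, Ideal.comap_map_of_surjective φ hφ,
      RingHom.ker_eq_comap_bot]
  rw [Module.length_eq_of_surjective (S := B) (R := B ⧸ I.map φ) (M := B ⧸ I.map φ)
    Ideal.Quotient.mk_surjective, ← length_quot_ker_of_surjective ψ hψ, hker]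

end Part1

section Part2

open AlgebraicGeometry CategoryTheory TopologicalSpace IsLocalRing CycAlg Opposite
  Groth.Agent.Lib.R2H1.C1Comm Groth.Agent.Lib.R2H1.C1Rel Groth.Agent.Lib.R2H1.C1Tensor
  Groth.Agent.Lib.R2H1.RatEquivClosed Groth.Agent.Lib.R2H1.LocQuot Groth.Agent.Lib.R2H1.Gysin
  Groth.Agent.Lib.Helper23.SecTw Groth.Agent.Lib.R2H1.FlatPullRat
  Groth.Agent.Lib.R2H1.PullInv Groth.Agent.Lib.R2H1.PullInv2 Groth.Agent.Lib.R2H1.PullInv3
  Groth.Agent.Lib.R2H1.FlatPullC1 Groth.Agent.Lib.R2H1.PerfCyc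

variable {X Y D : Scheme.{u}}

/-- the induced dimension function restricts to the induced dimension function along a closed
immersion. -/
theorem deltaCompat_comp_closedImmersion (i : D ⟶ X) [IsClosedImmersion i] (p : X ⟶ Y)
    (δX : X → ℤ) (δY : Y → ℤ) (hδ : Cyc.DeltaCompat p δX δY) :
    Cyc.DeltaCompat (i ≫ p) (fun d => δX (i d)) δY := by
  rw [deltaCompat_iff] at hδ ⊢
  intro d
  obtain ⟨n, hn, h1⟩ := hδ (i d)
  refine ⟨n, ?_, h1⟩
  rw [resTrdeg_comp i p d, resTrdeg_eq_zero_of_universallyInjective i d, add_zero, hn]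

/-- the ideal of the zero scheme of a section in the local ring of a point, in terms of the
coordinate of the section with respect to a generator. -/
theorem ker_stalkMap_eq_span (i : D ⟶ X) {L : X.Modules} (s : L.presheaf.obj (Opposite.op ⊤))
    (hD : Cyc.IsZeroSchemeOf i L s) (d : D) (G : Gen L) (hx : i d ∈ G.W)
    (a : X.presheaf.stalk (i d)) (ha : (L.presheaf.germ ⊤ (i d) trivial) s = a • G.g (i d) hx) :
    RingHom.ker (i.stalkMap d).hom = Ideal.span {a} := by
  obtain ⟨t', f', ht', hs', hker⟩ := hD.2 d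
  obtain ⟨c, hc, htc⟩ := exists_unit_smul_of_span_eq_top G (i d) hx t' ht'
  have hff : a = f' * c := by
    apply (G.g_bij (i d) hx).1
    change a • G.g (i d) hx = (f' * c) • G.g (i d) hx
    rw [mul_smul, ← htc, ← hs', ← ha]
  rw [hker, hff, Ideal.span_singleton_mul_right_unit hc f']

/-- the coordinate of a regular section is a nonzerodivisor. -/
theorem coord_mem_nonZeroDivisors {L : X.Modules} (s : L.presheaf.obj (Opposite.op ⊤)) (x : X)
    (hreg : Function.Injective (fun c : X.presheaf.stalk x => c • (L.presheaf.germ ⊤ x trivial) s))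
    (G : Gen L) (hx : x ∈ G.W) (a : X.presheaf.stalk x)
    (ha : (L.presheaf.germ ⊤ x trivial) s = a • G.g x hx) : a ∈ nonZeroDivisors (X.presheaf.stalk x) := by
  rw [mem_nonZeroDivisors_iff_right]
  intro c hc
  apply hreg
  change c • (L.presheaf.germ ⊤ x trivial) s = (0 : X.presheaf.stalk x) • (L.presheaf.germ ⊤ x trivial) s
  rw [ha, ← mul_smul, hc, zero_smul, zero_smul]

/-- the fibre multiplicity of the zero scheme over the base. -/
theorem mult_comp_closedImmersion (i : D ⟶ X) [IsClosedImmersion i] (p : X ⟶ Y) (d : D) :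
    mult (i ≫ p) d = ((Module.length (X.presheaf.stalk (i d)) (X.presheaf.stalk (i d) ⧸
      (Ideal.map (p.stalkMap (i d)).hom (maximalIdeal (Y.presheaf.stalk (p (i d)))) ⊔
        RingHom.ker (i.stalkMap d).hom))).toNat : ℤ) := by
  unfold mult
  rw [← length_quot_map_of_surjective (i.stalkMap d).hom (i.stalkMap_surjective d), Ideal.map_map]
  have e : ((i ≫ p).stalkMap d).hom = (i.stalkMap d).hom.comp (p.stalkMap (i d)).hom := by
    rw [Scheme.Hom.stalkMap_comp i p d]
    rfl
  rw [← e]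
  rfl

end Part2

section Part3

open AlgebraicGeometry CategoryTheory TopologicalSpace IsLocalRing CycAlg Opposite
  Groth.Agent.Lib.R2H1.C1Comm Groth.Agent.Lib.R2H1.C1Rel Groth.Agent.Lib.R2H1.C1Tensor
  Groth.Agent.Lib.R2H1.RatEquivClosed Groth.Agent.Lib.R2H1.LocQuot Groth.Agent.Lib.R2H1.Gysin
  Groth.Agent.Lib.Helper23.SecTw Groth.Agent.Lib.R2H1.FlatPullRat
  Groth.Agent.Lib.R2H1.PullInv Groth.Agent.Lib.R2H1.PullInv2 Groth.Agent.Lib.R2H1.PullInv3
  Groth.Agent.Lib.R2H1.FlatPullC1 Groth.Agent.Lib.R2H1.PerfCyc Groth.Agent.Lib.R2H1.SecDiv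

variable {X Y D : Scheme.{u}}

theorem ker_specMap_self (y : X) :
    RingHom.ker (Cyc.specMap y y specializes_rfl) = maximalIdeal (X.presheaf.stalk y) := by
  ext a
  rw [RingHom.mem_ker]
  have h1 : Cyc.specMap y y specializes_rfl a = X.residue y a := by
    unfold Cyc.specMap
    rw [TopCat.Presheaf.stalkSpecializes_refl]
    rfl
  rw [h1]
  exact IsLocalRing.residue_eq_zero_iff a

/-- the germ of a global section at a generization, in terms of its coordinate at a
specialization. -/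
theorem germ_top_generization {L : X.Modules} (s : L.presheaf.obj (Opposite.op ⊤)) (G : Gen L)
    (x ξ : X) (h : ξ ⤳ x) (hx : x ∈ G.W) (a : X.presheaf.stalk x)
    (ha : (L.presheaf.germ ⊤ x trivial) s = a • G.g x hx) :
    (L.presheaf.germ ⊤ ξ trivial) s =
      (X.presheaf.stalkSpecializes h a) • G.g ξ (h.mem_open G.W.isOpen hx) := by
  rw [← germ_top_specializes s h, ha, stalkSpecializes_smul, G.g_specializes h hx]

/-- where the coordinate does not vanish in the residue field, the Gysin choice is the section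
and its coordinate is the image of the coordinate. -/
theorem fib_gysinChoice_of_ne {L : X.Modules} (s : L.presheaf.obj (Opposite.op ⊤)) (G : Gen L)
    (w : (ξ : X) → Cyc.secFibre L ξ)
    (x ξ : X) (h : ξ ⤳ x) (hx : x ∈ G.W) (a : X.presheaf.stalk x)
    (ha : (L.presheaf.germ ⊤ x trivial) s = a • G.g x hx)
    (hne : Cyc.specMap x ξ h a ≠ 0) :
    G.fib ξ (h.mem_open G.W.isOpen hx) (Cyc.gysinChoice L s w ξ) = Cyc.specMap x ξ h a := by
  have e := germ_top_generization s G x ξ h hx a ha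
  have hmk : (Submodule.Quotient.mk ((L.presheaf.germ ⊤ ξ trivial) s) : Cyc.secFibre L ξ) =
      (X.presheaf.stalkSpecializes h a) •
        (Submodule.Quotient.mk (G.g ξ (h.mem_open G.W.isOpen hx)) : Cyc.secFibre L ξ) := by
    rw [e, Submodule.Quotient.mk_smul]
  have hfib : G.fib ξ (h.mem_open G.W.isOpen hx)
      (Submodule.Quotient.mk ((L.presheaf.germ ⊤ ξ trivial) s)) = Cyc.specMap x ξ h a := by
    rw [hmk, Gen.fib_smul]
    rfl
  have hne' : (Submodule.Quotient.mk ((L.presheaf.germ ⊤ ξ trivial) s) : Cyc.secFibre L ξ) ≠ 0 := by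
    intro h0
    apply hne
    rw [← hfib, h0]
    have h2 := G.fib_smul ξ (h.mem_open G.W.isOpen hx) 0
    rw [zero_smul, map_zero] at h2
    exact h2
  rw [gysinChoice_of_ne s w ξ hne', hfib]

/-- where the coordinate vanishes in the residue field, the point lies on the zero scheme. -/
theorem mem_range_of_specMap_eq_zero (i : D ⟶ X) {L : X.Modules}
    (s : L.presheaf.obj (Opposite.op ⊤)) (hD : Cyc.IsZeroSchemeOf i L s) (G : Gen L)
    (x ξ : X) (h : ξ ⤳ x) (hx : x ∈ G.W) (a : X.presheaf.stalk x)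
    (ha : (L.presheaf.germ ⊤ x trivial) s = a • G.g x hx)
    (h0 : Cyc.specMap x ξ h a = 0) : ξ ∈ Set.range i := by
  rw [hD.1]
  change (Submodule.Quotient.mk ((L.presheaf.germ ⊤ ξ trivial) s) : Cyc.secFibre L ξ) = 0
  rw [germ_top_generization s G x ξ h hx a ha, Submodule.Quotient.mk_eq_zero]
  refine Submodule.smul_mem_smul ?_ trivial
  exact (IsLocalRing.residue_eq_zero_iff _).mp h0

end Part3

section Part4

open AlgebraicGeometry CategoryTheory TopologicalSpace IsLocalRing CycAlg Opposite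
  Groth.Agent.Lib.R2H1.C1Comm Groth.Agent.Lib.R2H1.C1Rel Groth.Agent.Lib.R2H1.C1Tensor
  Groth.Agent.Lib.R2H1.RatEquivClosed Groth.Agent.Lib.R2H1.LocQuot Groth.Agent.Lib.R2H1.Gysin
  Groth.Agent.Lib.Helper23.SecTw Groth.Agent.Lib.R2H1.FlatPullRat
  Groth.Agent.Lib.R2H1.PullInv Groth.Agent.Lib.R2H1.PullInv2 Groth.Agent.Lib.R2H1.PullInv3
  Groth.Agent.Lib.R2H1.FlatPullC1 Groth.Agent.Lib.R2H1.PerfCyc Groth.Agent.Lib.R2H1.SecDiv

variable {X Y D : Scheme.{u}}

/-- the Gysin pullback of the flat pullback of a cycle along a relative effective Cartier divisor,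
pointwise. -/
theorem gysin_pull_point (δX : X → ℤ) (δY : Y → ℤ) (hX : Cyc.IsSetup X δX)
    (p : X ⟶ Y) [Flat p] [LocallyOfFiniteType p] (r : ℕ)
    (hr : Cyc.HasRelDim p (r + 1)) (hδ : Cyc.DeltaCompat p δX δY) (L : X.Modules)
    (hL : PicF.IsInvertible L) (s : L.presheaf.obj (Opposite.op ⊤))
    (hreg : ∀ x : X, Function.Injective
      (fun a : X.presheaf.stalk x => a • (L.presheaf.germ ⊤ x trivial) s))
    (i : D ⟶ X) [IsClosedImmersion i] (hD : Cyc.IsZeroSchemeOf i L s) [Flat (i ≫ p)]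
    (hrD : Cyc.HasRelDim (i ≫ p) r) (hY_dim : Cyc.IsDimFun Y δY) (α : Y → ℤ)
    (w : (ξ : X) → Cyc.secFibre L ξ) (d : D) :
    Cyc.c1CapFun δX L (Cyc.pullFun p δX δY (r + 1) α) (Cyc.gysinChoice L s w) (i d) =
      Cyc.pullFun (i ≫ p) (fun d => δX (i d)) δY r α d := by
  classical
  haveI : IsLocallyNoetherian X := hX.1
  have hδX := hX.2.2
  have hq := deltaCompat_comp_closedImmersion i p δX δY hδ
  have hleP : ∀ z : X, δX z ≤ δY (p z) + (r + 1) := by
    intro z
    have := Groth.Agent.Lib.R2H1.FlatDivSum.delta_le p hδ (r + 1) hr z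
    push_cast at this
    exact this
  have hleD : ∀ d' : D, δX (i d') ≤ δY (p (i d')) + r :=
    fun d' => Groth.Agent.Lib.R2H1.FlatDivSum.delta_le (i ≫ p) hq r hrD d'
  obtain ⟨G, hxG⟩ := Groth.Agent.Lib.R2H1.C1Comm.exists_gen L hL (i d)
  obtain ⟨a, ha0⟩ := (G.g_bij (i d) hxG).2 ((L.presheaf.germ ⊤ (i d) trivial) s)
  have ha : (L.presheaf.germ ⊤ (i d) trivial) s = a • G.g (i d) hxG := ha0.symm
  have hpsp : ∀ ξ' : X, ξ' ⤳ i d → p ξ' ⤳ p (i d) := fun ξ' h => p.base.hom.map_specializes h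
  by_cases hA : δX (i d) = δY (p (i d)) + r
  swap
  · -- both sides vanish
    rw [pullFun_eq (i ≫ p)]
    change _ = if δX (i d) = δY (p (i d)) + ↑r then α (p (i d)) * mult (i ≫ p) d else 0
    rw [if_neg hA]
    unfold Cyc.c1CapFun
    apply finsum_eq_zero_of_forall_eq_zero
    intro ξ'
    by_contra hne
    have h1 : Cyc.pullFun p δX δY (r + 1) α ξ' ≠ 0 := fun h0 => hne (by rw [h0, zero_mul])
    have h2 : Cyc.secDivFun δX L ξ' (Cyc.gysinChoice L s w ξ') (i d) ≠ 0 :=
      fun h0 => hne (by rw [h0, mul_zero])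
    obtain ⟨hd1, -⟩ := pullFun_ne_zero p δX δY (r + 1) α ξ' h1
    obtain ⟨hsp, hd2⟩ := secDivFun_ne_zero_specializes h2
    have h3 := hleD d
    by_cases e : p ξ' = p (i d)
    · rw [e] at hd1
      omega
    · have h4 := (hY_dim (p ξ') (p (i d)) (hpsp ξ' hsp) e).1
      omega
  -- the main case
  set I := Ideal.map (p.stalkMap (i d)).hom (maximalIdeal (Y.presheaf.stalk (p (i d)))) with hIdef
  have hImax : I ≤ maximalIdeal (X.presheaf.stalk (i d)) :=
    ((IsLocalRing.local_hom_TFAE (p.stalkMap (i d)).hom).out 0 2).mp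
      (inferInstance : IsLocalHom (p.stalkMap (i d)).hom)
  have hItop : I ≠ ⊤ := fun htop =>
    (IsLocalRing.maximalIdeal.isMaximal (X.presheaf.stalk (i d))).ne_top
      (top_le_iff.mp (htop ▸ hImax))
  have hIle : ∀ (ξ' : X) (h : ξ' ⤳ i d), I ≤ RingHom.ker (Cyc.specMap (i d) ξ' h) ↔
      p (i d) ⤳ p ξ' := by
    intro ξ' h
    have := map_le_ker_iff p (i d) ξ' h (p (i d)) specializes_rfl
    rw [ker_specMap_self] at this
    exact this
  have hpξ : ∀ ξ' : X, ξ' ⤳ i d → p (i d) ⤳ p ξ' → p ξ' = p (i d) :=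
    fun ξ' h h' => ((hpsp ξ' h).antisymm h').eq
  have hdim : ∀ (ξ' : X) (h : ξ' ⤳ i d), I ≤ RingHom.ker (Cyc.specMap (i d) ξ' h) →
      δX ξ' ≤ δX (i d) + 1 := by
    intro ξ' h hle
    have e := hpξ ξ' h ((hIle ξ' h).mp hle)
    have := hleP ξ'
    rw [e] at this
    omega
  have hker := ker_stalkMap_eq_span i s hD d G hxG a ha
  have hanzd := coord_mem_nonZeroDivisors s (i d) (hreg (i d)) G hxG a ha
  have hflat : letI := ((i.stalkMap d).hom.comp (p.stalkMap (i d)).hom).toAlgebra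
      Module.Flat (Y.presheaf.stalk (p (i d))) (D.presheaf.stalk d) := by
    have h1 := Flat.stalkMap (i ≫ p) d
    have e : ((i ≫ p).stalkMap d).hom = (i.stalkMap d).hom.comp (p.stalkMap (i d)).hom := by
      rw [Scheme.Hom.stalkMap_comp i p d]
      rfl
    rw [e] at h1
    exact h1
  have hnzd : Ideal.Quotient.mk I a ∈ nonZeroDivisors (X.presheaf.stalk (i d) ⧸ I) :=
    nonZeroDivisor_quot_map_of_flat (p.stalkMap (i d)).hom (i.stalkMap d).hom
      (i.stalkMap_surjective d) a hker hanzd hflat _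
  have hbξ : ∀ (ξ' : X) (h : ξ' ⤳ i d), ξ' ≠ i d → I ≤ RingHom.ker (Cyc.specMap (i d) ξ' h) →
      Cyc.specMap (i d) ξ' h a ≠ 0 := by
    intro ξ' h hne hle h0
    have e := hpξ ξ' h ((hIle ξ' h).mp hle)
    obtain ⟨d', rfl⟩ := mem_range_of_specMap_eq_zero i s hD G (i d) ξ' h hxG a ha h0
    have h1 := (hδX (i d') (i d) h hne).1
    have h2 := hleD d'
    rw [e] at h2
    omega
  have hsum := length_rel_eq_finsum hδX (i d) I hItop hdim a hnzd hbξ
  have hfin := relTerm_support_finite hδX (i d) I hItop hdim a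
  rw [pullFun_eq (i ≫ p)]
  change _ = if δX (i d) = δY (p (i d)) + ↑r then α (p (i d)) * mult (i ≫ p) d else 0
  rw [if_pos hA, mult_comp_closedImmersion i p d, hker, hsum, mul_finsum' _ _ hfin]
  unfold Cyc.c1CapFun
  refine finsum_congr (fun ξ' => ?_)
  by_cases hcond : ξ' ⤳ i d ∧ δX (i d) + 1 = δX ξ'
  swap
  · have h1 : relTerm δX (i d) I a ξ' = 0 := by
      unfold relTerm
      rw [dif_neg hcond]
    have h2 : Cyc.secDivFun δX L ξ' (Cyc.gysinChoice L s w ξ') (i d) = 0 := by
      unfold Cyc.secDivFun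
      rw [dif_neg hcond]
    rw [h1, h2, mul_zero, mul_zero]
  have hne : ξ' ≠ i d := by
    intro e
    rw [e] at hcond
    omega
  by_cases hy : p (i d) ⤳ p ξ'
  · have e := hpξ ξ' hcond.1 hy
    have hIξ := (hIle ξ' hcond.1).mpr hy
    have hane := hbξ ξ' hcond.1 hne hIξ
    rw [relTerm_pos δX (i d) I a ξ' hcond hIξ]
    have hβ : Cyc.pullFun p δX δY (r + 1) α ξ' = α (p (i d)) * mult p ξ' := by
      rw [pullFun_eq, if_pos (by rw [e]; omega), e]
    have hlen : ((Module.length (X.presheaf.stalk ξ') (X.presheaf.stalk ξ' ⧸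
        I.map (X.presheaf.stalkSpecializes hcond.1).hom)).toNat : ℤ) = mult p ξ' := by
      unfold mult
      have := map_map_eq p (i d) ξ' hcond.1 (p (i d)) e specializes_rfl
      rw [ker_specMap_self] at this
      rw [length_quot_congr this]
    have hsec : Cyc.secDivFun δX L ξ' (Cyc.gysinChoice L s w ξ') (i d) =
        Cyc.ordAt (i d) ξ' hcond.1 (Cyc.specMap (i d) ξ' hcond.1 a) := by
      unfold Cyc.secDivFun
      rw [dif_pos hcond, G.secOrdAt_eq hδX ξ' (i d) hcond.1 hcond.2 hxG _,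
        fib_gysinChoice_of_ne s G w (i d) ξ' hcond.1 hxG a ha hane]
    rw [hβ, hsec, hlen]
    ring
  · have h1 : relTerm δX (i d) I a ξ' = 0 := by
      unfold relTerm
      rw [dif_pos hcond, if_neg (fun hle => hy ((hIle ξ' hcond.1).mp hle))]
    have h2 : Cyc.pullFun p δX δY (r + 1) α ξ' = 0 := by
      rw [pullFun_eq, if_neg]
      intro hd1
      have e : p ξ' ≠ p (i d) := fun e => hy (by rw [e])
      have h4 := (hY_dim (p ξ') (p (i d)) (hpsp ξ' hcond.1) e).1
      omega
    rw [h1, h2, zero_mul, mul_zero]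

/-- S1945: `i^*(p^*α) ∼ (p|_D)^*α` for a relative effective Cartier divisor. -/
theorem main1945 (X Y D : Scheme.{u}) (δX : X → ℤ) (δY : Y → ℤ) (hX : Cyc.IsSetup X δX)
    (hY : Cyc.IsSetup Y δY) (p : X ⟶ Y) [Flat p] [LocallyOfFiniteType p] (r : ℕ)
    (hr : Cyc.HasRelDim p (r + 1)) (hδ : Cyc.DeltaCompat p δX δY) (L : X.Modules)
    (hL : PicF.IsInvertible L) (s : L.presheaf.obj (Opposite.op ⊤))
    (hreg : ∀ x : X, Function.Injective
      (fun a : X.presheaf.stalk x => a • (L.presheaf.germ ⊤ x trivial) s))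
    (i : D ⟶ X) [IsClosedImmersion i] (hD : Cyc.IsZeroSchemeOf i L s) [Flat (i ≫ p)]
    (hrD : Cyc.HasRelDim (i ≫ p) r) (k : ℤ) (α : AlgebraicCycle Y ℤ)
    (hα : α ∈ Cyc.Zk Y δY (k + 1)) (w : (ξ : X) → Cyc.secFibre L ξ) (hw : ∀ ξ, w ξ ≠ 0)
    (γ ζ : AlgebraicCycle D ℤ)
    (hγ : ∀ d, γ d = Cyc.c1CapFun δX L (Cyc.pullFun p δX δY (r + 1) ⇑α)
      (Cyc.gysinChoice L s w) (i d))
    (hζ : ⇑ζ = Cyc.pullFun (i ≫ p) (fun d => δX (i d)) δY r ⇑α) :
    Cyc.RatEquiv (fun d => δX (i d)) (k + r + 1) γ ζ := by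
  unfold Cyc.RatEquiv
  refine ⟨PEmpty, PEmpty.elim, fun j => j.elim, fun j => j.elim, fun j => j.elim,
    fun x => ⟨Set.univ, isOpen_univ, trivial, Set.toFinite _⟩, ?_⟩
  intro d
  have hsub : (γ - ζ) d = γ d - ζ d := by
    rw [Function.locallyFinsuppWithin.coe_sub]
    rfl
  rw [hsub, hγ d, hζ, gysin_pull_point δX δY hX p r hr hδ L hL s hreg i hD hrD hY.2.2 ⇑α w d,
    sub_self, finsum_of_isEmpty]

end Part4

end Groth.Agent.Lib.R2H1.RelCartier
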