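/-
Proper pushforward preserves rational equivalence (S1855; helper1, round 2).
Reusable: ptScheme/ptι (closure of a point as an integral closed subscheme, IsIntegral/IsClosedImmersion instances,
range_ptι, ptι_genericPoint), ptMap p ξ (induced morphism closure{ξ} -> closure{p ξ}, ptMap_ι, ptMap_genericPoint,
IsProper instance); eL/eK/sq (square of residue fields for a commutative square with SurjectiveOnStalks sides),
residueDegree_eq_of_comm, normGen_eq_of_comm, deltaCompat_of_comm; divCycle (divisor of a rational function as a cycle),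
mapCoeff_eq_of_comm, point_formula (p_* div_X(f on closure ξ) = div(Nm f) on closure (p ξ) or 0 if the dimension drops),
finsum_mem_finsum_comm, finite_fiber_support, map_sub_apply, finite_of_locallyFinite_of_isCompact, normGen_ne_zero, main.
-/
import Mathlib
import Groth.Prelude.Def_Cyc
import Groth.Agent.Lib.Helper10RedInd
import Groth.Agent.Lib.R2H1RatEquivClosed
import Groth.Agent.Lib.R2H1PerfCyc
import Groth.Agent.Lib.R2H1RelCartier
import Groth.Agent.Lib.R2H1PullInv
import Groth.Agent.Lib.R2H1NormPush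
import Groth.Agent.Lib.R2H1GenFibre
import Groth.Agent.Lib.R2H1PullPush

set_option autoImplicit false
set_option linter.style.haveILetI false
set_option linter.unusedSectionVars false
universe u v

namespace Groth.Agent.Lib.R2H1.ProperPushRat

section Part1

open AlgebraicGeometry CategoryTheory TopologicalSpace Groth.Agent.Lib.Helper10.RedInd

variable {X Y : Scheme.{u}}

/-- the closure of a point as a closed set. -/
def ptClosed (X : Scheme.{u}) (ξ : X) : Closeds X := ⟨closure {ξ}, isClosed_closure⟩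

/-- the ideal sheaf of the closure of a point with its reduced structure. -/
noncomputable def ptIdeal (X : Scheme.{u}) (ξ : X) : X.IdealSheafData :=
  Scheme.IdealSheafData.vanishingIdeal (ptClosed X ξ)

/-- the closure of a point, as an integral closed subscheme. -/
noncomputable abbrev ptScheme (X : Scheme.{u}) (ξ : X) : Scheme.{u} := (ptIdeal X ξ).subscheme

/-- the closed immersion of the closure of a point. -/
noncomputable abbrev ptι (X : Scheme.{u}) (ξ : X) : ptScheme X ξ ⟶ X := (ptIdeal X ξ).subschemeι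

theorem range_ptι (X : Scheme.{u}) (ξ : X) : Set.range (ptι X ξ) = closure {ξ} := by
  rw [Scheme.IdealSheafData.range_subschemeι]
  unfold ptIdeal
  rw [Scheme.IdealSheafData.coe_support_vanishingIdeal]
  rfl

instance isReduced_ptScheme (X : Scheme.{u}) (ξ : X) : IsReduced (ptScheme X ξ) :=
  isReduced_subscheme_vanishingIdeal (ptClosed X ξ)

instance irreducibleSpace_ptScheme (X : Scheme.{u}) (ξ : X) : IrreducibleSpace (ptScheme X ξ) := by
  have h : IsIrreducible ((ptIdeal X ξ).support : Set X) := by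
    unfold ptIdeal
    rw [Scheme.IdealSheafData.coe_support_vanishingIdeal]
    exact isIrreducible_singleton.closure
  exact Subtype.irreducibleSpace h

instance isIntegral_ptScheme (X : Scheme.{u}) (ξ : X) : IsIntegral (ptScheme X ξ) :=
  isIntegral_of_irreducibleSpace_of_isReduced _

theorem ptι_genericPoint (X : Scheme.{u}) (ξ : X) : ptι X ξ (genericPoint (ptScheme X ξ)) = ξ := by
  have hξ : ξ ∈ Set.range (ptι X ξ) := by
    rw [range_ptι]
    exact subset_closure rfl
  obtain ⟨w, hw⟩ := hξ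
  have hgen : IsGenericPoint w (⊤ : Set (ptScheme X ξ)) := by
    unfold IsGenericPoint
    rw [(ptι X ξ).isEmbedding.isInducing.closure_eq_preimage_closure_image, Set.image_singleton, hw,
      ← range_ptι]
    ext z
    simp only [Set.mem_preimage, Set.top_eq_univ, Set.mem_univ, iff_true]
    exact ⟨z, rfl⟩
  have := (genericPoint_spec (ptScheme X ξ)).eq hgen
  rw [this, hw]

/-- the induced morphism between closures of points. -/
noncomputable def ptMap (p : X ⟶ Y) (ξ : X) : ptScheme X ξ ⟶ ptScheme Y (p ξ) :=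
  IsClosedImmersion.lift (ptι Y (p ξ)) (ptι X ξ ≫ p) (by
    rw [Scheme.IdealSheafData.ker_subschemeι, ker_eq_vanishingIdeal_of_isReduced]
    apply Scheme.IdealSheafData.vanishingIdeal_antimono
    rw [TopologicalSpace.Closeds.closure_le]
    rintro _ ⟨w, rfl⟩
    have h1 : (ptι X ξ) w ∈ closure {ξ} := by
      rw [← range_ptι]
      exact ⟨w, rfl⟩
    have h2 : ξ ⤳ (ptι X ξ) w := specializes_iff_mem_closure.mpr h1
    exact specializes_iff_mem_closure.mp (h2.map p.continuous))

theorem ptMap_ι (p : X ⟶ Y) (ξ : X) : ptMap p ξ ≫ ptι Y (p ξ) = ptι X ξ ≫ p :=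
  IsClosedImmersion.lift_fac _ _ _

theorem ptMap_apply (p : X ⟶ Y) (ξ : X) (w : ptScheme X ξ) :
    ptι Y (p ξ) (ptMap p ξ w) = p (ptι X ξ w) := by
  have := congrArg (fun φ : ptScheme X ξ ⟶ Y => φ w) (ptMap_ι p ξ)
  simpa using this

theorem ptMap_genericPoint (p : X ⟶ Y) (ξ : X) :
    ptMap p ξ (genericPoint (ptScheme X ξ)) = genericPoint (ptScheme Y (p ξ)) := by
  apply (ptι Y (p ξ)).isEmbedding.injective
  rw [ptMap_apply, ptι_genericPoint, ptι_genericPoint]

instance isProper_ptMap (p : X ⟶ Y) [IsProper p] (ξ : X) : IsProper (ptMap p ξ) := by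
  haveI h : IsProper (ptMap p ξ ≫ ptι Y (p ξ)) := by
    rw [ptMap_ι]
    infer_instance
  exact IsProper.of_comp _ (ptι Y (p ξ))

end Part1

section Part2

open AlgebraicGeometry CategoryTheory TopologicalSpace Groth.Agent.Lib.R2H1.RatEquivClosed
  Groth.Agent.Lib.R2H1.PerfCyc

variable {W V X Y : Scheme.{u}} (iW : W ⟶ X) (iV : V ⟶ Y) (p : X ⟶ Y) (p' : W ⟶ V)

theorem comm_apply (hcomm : p' ≫ iV = iW ≫ p) (w : W) : iV (p' w) = p (iW w) := by
  have := congrArg (fun φ : W ⟶ Y => φ w) hcomm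
  simpa using this

/-- the isomorphism of residue fields on the source side. -/
noncomputable def eL [SurjectiveOnStalks iW] (w : W) : X.residueField (iW w) ≃+* W.residueField w :=
  RingEquiv.ofBijective (iW.residueFieldMap w).hom (residueFieldMap_bijective iW w)

theorem eL_apply [SurjectiveOnStalks iW] (w : W) (a : X.residueField (iW w)) :
    eL iW w a = (iW.residueFieldMap w).hom a := rfl

/-- the isomorphism of residue fields on the target side. -/
noncomputable def eK [SurjectiveOnStalks iV] (hcomm : p' ≫ iV = iW ≫ p) (w : W) :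
    Y.residueField (p (iW w)) ≃+* V.residueField (p' w) :=
  (Y.residueFieldCongr (comm_apply iW iV p p' hcomm w).symm).commRingCatIsoToRingEquiv.trans
    (RingEquiv.ofBijective (iV.residueFieldMap (p' w)).hom (residueFieldMap_bijective iV (p' w)))

theorem eK_apply [SurjectiveOnStalks iV] (hcomm : p' ≫ iV = iW ≫ p) (w : W)
    (a : Y.residueField (p (iW w))) :
    eK iW iV p p' hcomm w a = (iV.residueFieldMap (p' w)).hom
      ((Y.residueFieldCongr (comm_apply iW iV p p' hcomm w).symm).hom.hom a) := rfl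

/-- the square of residue fields commutes. -/
theorem sq [SurjectiveOnStalks iW] [SurjectiveOnStalks iV] (hcomm : p' ≫ iV = iW ≫ p) (w : W)
    (a : Y.residueField (p (iW w))) :
    (p'.residueFieldMap w).hom (eK iW iV p p' hcomm w a) =
      eL iW w ((p.residueFieldMap (iW w)).hom a) := by
  rw [eK_apply, eL_apply]
  have h1 := Scheme.residueFieldMap_comp p' iV w
  have h2 := Scheme.residueFieldMap_comp iW p w
  have h3 := Scheme.Hom.residueFieldMap_congr hcomm.symm w
  rw [h1, h2] at h3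
  have h4 := congrArg (fun φ => φ.hom a) h3
  exact h4.symm

theorem residueDegree_eq_of_comm [SurjectiveOnStalks iW] [SurjectiveOnStalks iV]
    (hcomm : p' ≫ iV = iW ≫ p) (w : W) : p'.residueDegree w = p.residueDegree (iW w) := by
  unfold Scheme.Hom.residueDegree
  letI := (p'.residueFieldMap w).hom.toAlgebra
  letI := (p.residueFieldMap (iW w)).hom.toAlgebra
  symm
  refine Algebra.finrank_eq_of_equiv_equiv (eK iW iV p p' hcomm w) (eL iW w) ?_
  ext a
  exact sq iW iV p p' hcomm w a

theorem normGen_eq_of_comm [SurjectiveOnStalks iW] [SurjectiveOnStalks iV]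
    (hcomm : p' ≫ iV = iW ≫ p) (w : W) (f : X.residueField (iW w)) :
    Cyc.normGen p' w ((iW.residueFieldMap w).hom f) =
      (iV.residueFieldMap (p' w)).hom
        ((Y.residueFieldCongr (comm_apply iW iV p p' hcomm w).symm).hom.hom
          (Cyc.normGen p (iW w) f)) := by
  unfold Cyc.normGen
  letI := (p'.residueFieldMap w).hom.toAlgebra
  letI := (p.residueFieldMap (iW w)).hom.toAlgebra
  have h := Algebra.norm_eq_of_equiv_equiv (eK iW iV p p' hcomm w) (eL iW w) (by
    ext a
    exact sq iW iV p p' hcomm w a) f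
  rw [h, ← eK_apply iW iV p p' hcomm w, RingEquiv.apply_symm_apply]
  rfl

/-- the induced dimension functions are compatible for the restricted morphism. -/
theorem deltaCompat_of_comm [IsClosedImmersion iW] [IsClosedImmersion iV]
    (hcomm : p' ≫ iV = iW ≫ p) (δX : X → ℤ) (δY : Y → ℤ) (hδ : Cyc.DeltaCompat p δX δY) :
    Cyc.DeltaCompat p' (fun w => δX (iW w)) (fun v => δY (iV v)) := by
  have h0 := Groth.Agent.Lib.R2H1.RelCartier.deltaCompat_comp_closedImmersion iW p δX δY hδ
  rw [deltaCompat_iff] at h0 ⊢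
  intro w
  obtain ⟨n, hn, h1⟩ := h0 w
  refine ⟨n, ?_, ?_⟩
  · rw [← resTrdeg_congr hcomm w, resTrdeg_comp, resTrdeg_eq_zero_of_universallyInjective iV,
      zero_add] at hn
    exact hn
  · change δX (iW w) = δY (iV (p' w)) + n
    rw [comm_apply iW iV p p' hcomm w]
    exact h1

end Part2

section Part3

open AlgebraicGeometry CategoryTheory TopologicalSpace Groth.Agent.Lib.R2H1.RatEquivClosed
  Groth.Agent.Lib.R2H1.RatEquivOpen Groth.Agent.Lib.R2H1.PullPush

variable {W V X Y : Scheme.{u}}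

/-- the divisor of a rational function as a cycle. -/
noncomputable def divCycle [IsLocallyNoetherian X] {δ : X → ℤ} (hδ : Cyc.IsDimFun X δ) (ξ : X)
    (f : X.residueField ξ) : AlgebraicCycle X ℤ :=
  ⟨Cyc.divFun δ ξ f, fun _ _ => Set.mem_univ _, fun z _ => by
    obtain ⟨U, hUo, hz, hfin⟩ := divFun_locallyFinite hδ ξ f z
    exact ⟨U, hUo.mem_nhds hz, hfin⟩⟩

theorem divCycle_coe [IsLocallyNoetherian X] {δ : X → ℤ} (hδ : Cyc.IsDimFun X δ) (ξ : X)
    (f : X.residueField ξ) : ⇑(divCycle hδ ξ f) = Cyc.divFun δ ξ f := rfl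

theorem mapCoeff_eq_of_comm (iW : W ⟶ X) (iV : V ⟶ Y) (p : X ⟶ Y) (p' : W ⟶ V)
    [SurjectiveOnStalks iW] [SurjectiveOnStalks iV] (hcomm : p' ≫ iV = iW ≫ p)
    (δX : X → ℤ) (δY : Y → ℤ) (w : W) :
    AlgebraicCycle.mapCoeff p' (fun w => δX (iW w)) (fun v => δY (iV v)) w =
      AlgebraicCycle.mapCoeff p δX δY (iW w) := by
  unfold AlgebraicCycle.mapCoeff
  have h1 : iV (p' w) = p (iW w) := comm_apply iW iV p p' hcomm w
  simp only []
  rw [residueDegree_eq_of_comm iW iV p p' hcomm w]
  change (if δX (iW w) = δY (iV (p' w)) then _ else _) = _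
  rw [h1]

theorem point_formula_model [IsIntegral W] [IsIntegral V] (iW : W ⟶ X) [IsClosedImmersion iW]
    (iV : V ⟶ Y) [IsClosedImmersion iV] (p : X ⟶ Y) [IsProper p] (p' : W ⟶ V) [IsProper p']
    (hcomm : p' ≫ iV = iW ≫ p) (hdom : p' (genericPoint W) = genericPoint V)
    (δX : X → ℤ) (δY : Y → ℤ) (hX : Cyc.IsSetup X δX) (hY : Cyc.IsSetup Y δY)
    (hδ : Cyc.DeltaCompat p δX δY)
    (f : X.residueField (iW (genericPoint W))) (hf : f ≠ 0) (y : Y) :
    ∑ᶠ x ∈ p ⁻¹' {y}, Cyc.divFun δX (iW (genericPoint W)) f x *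
        (AlgebraicCycle.mapCoeff p δX δY x : ℤ) =
      if δX (iW (genericPoint W)) = δY (p (iW (genericPoint W))) then
        Cyc.divFun δY (p (iW (genericPoint W))) (Cyc.normGen p (iW (genericPoint W)) f) y
      else 0 := by
  classical
  have hW : Cyc.IsSetup W (fun w => δX (iW w)) :=
    Groth.Agent.Lib.R2H1.PullInv.isSetup_of_closedImmersion iW hX
  have hV : Cyc.IsSetup V (fun v => δY (iV v)) :=
    Groth.Agent.Lib.R2H1.PullInv.isSetup_of_closedImmersion iV hY
  have hδ' : Cyc.DeltaCompat p' (fun w => δX (iW w)) (fun v => δY (iV v)) :=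
    deltaCompat_of_comm iW iV p p' hcomm δX δY hδ
  haveI : IsLocallyNoetherian W := hW.1
  have hg : (iW.residueFieldMap (genericPoint W)).hom f ≠ 0 := by
    rw [Ne, map_eq_zero_iff _ (RingHom.injective _)]
    exact hf
  have hgen : iV (genericPoint V) = p (iW (genericPoint W)) := by
    rw [← hdom]
    exact comm_apply iW iV p p' hcomm _
  have hclV : IsClosed (Set.range iV) := iV.isClosedEmbedding.isClosed_range
  have hclW : IsClosed (Set.range iW) := iW.isClosedEmbedding.isClosed_range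
  have hF : ∀ x, Cyc.divFun δX (iW (genericPoint W)) f x *
      (AlgebraicCycle.mapCoeff p δX δY x : ℤ) ≠ 0 → x ∈ Set.range iW := by
    intro x hx
    have h1 := (divFun_ne_zero_specializes (left_ne_zero_of_mul hx)).1
    exact h1.mem_closed hclW ⟨_, rfl⟩
  have hkey : ∀ w, Cyc.divFun δX (iW (genericPoint W)) f (iW w) *
      (AlgebraicCycle.mapCoeff p δX δY (iW w) : ℤ) =
      divCycle hW.2.2 (genericPoint W) ((iW.residueFieldMap (genericPoint W)).hom f) w *
        (AlgebraicCycle.mapCoeff p' (fun w => δX (iW w)) (fun v => δY (iV v)) w : ℤ) := by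
    intro w
    rw [divCycle_coe, divFun_preimmersion iW δX (genericPoint W) w f,
      mapCoeff_eq_of_comm iW iV p p' hcomm δX δY w]
  by_cases hy : y ∈ Set.range iV
  · obtain ⟨v, rfl⟩ := hy
    have hset : p ⁻¹' {iV v} ∩ Function.support (fun x => Cyc.divFun δX (iW (genericPoint W)) f x *
        (AlgebraicCycle.mapCoeff p δX δY x : ℤ)) =
        (iW '' (p' ⁻¹' {v})) ∩ Function.support (fun x => Cyc.divFun δX (iW (genericPoint W)) f x *
        (AlgebraicCycle.mapCoeff p δX δY x : ℤ)) := by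
      ext x
      simp only [Set.mem_inter_iff, Set.mem_preimage, Set.mem_singleton_iff, Function.mem_support,
        Set.mem_image]
      constructor
      · rintro ⟨h1, h2⟩
        obtain ⟨w, rfl⟩ := hF x h2
        refine ⟨⟨w, ?_, rfl⟩, h2⟩
        apply iV.isClosedEmbedding.injective
        rw [comm_apply iW iV p p' hcomm w, h1]
      · rintro ⟨⟨w, h1, rfl⟩, h2⟩
        refine ⟨?_, h2⟩
        rw [← comm_apply iW iV p p' hcomm w, h1]
    rw [finsum_mem_inter_support_eq _ _ _ hset,
      finsum_mem_image (iW.isClosedEmbedding.injective.injOn)]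
    rw [finsum_mem_congr rfl (fun w _ => hkey w), ← map_apply']
    by_cases hn : δX (iW (genericPoint W)) = δY (p (iW (genericPoint W)))
    · rw [if_pos hn]
      have hn' : (fun w => δX (iW w)) (genericPoint W) = (fun v => δY (iV v)) (genericPoint V) := by
        change δX (iW (genericPoint W)) = δY (iV (genericPoint V))
        rw [hgen]
        exact hn
      have h1 := Groth.Agent.Lib.R2H1.NormPush.main _ _ hW hV p' hδ' hdom hn' _ hg
        (divCycle hW.2.2 (genericPoint W) ((iW.residueFieldMap (genericPoint W)).hom f))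
        (divCycle_coe _ _ _)
      rw [congrFun h1 v, normGen_eq_of_comm iW iV p p' hcomm (genericPoint W) f,
        divFun_preimmersion iV δY (p' (genericPoint W)) v, divFun_congr_point]
    · rw [if_neg hn]
      have hn' : (fun w => δX (iW w)) (genericPoint W) ≠ (fun v => δY (iV v)) (genericPoint V) := by
        change δX (iW (genericPoint W)) ≠ δY (iV (genericPoint V))
        rw [hgen]
        exact hn
      exact Groth.Agent.Lib.R2H1.GenFibre.main _ _ hV.2.2 p' hδ' hdom hn' _ hg
        (divCycle hW.2.2 (genericPoint W) ((iW.residueFieldMap (genericPoint W)).hom f))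
        (divCycle_coe _ _ _) v
  · have hL : ∑ᶠ x ∈ p ⁻¹' {y}, Cyc.divFun δX (iW (genericPoint W)) f x *
        (AlgebraicCycle.mapCoeff p δX δY x : ℤ) = 0 := by
      apply finsum_mem_eq_zero_of_forall_eq_zero
      intro x hx
      by_contra hne
      obtain ⟨w, rfl⟩ := hF x hne
      apply hy
      refine ⟨p' w, ?_⟩
      rw [comm_apply iW iV p p' hcomm w]
      exact hx
    rw [hL]
    split_ifs with hn
    · by_contra hne
      have h1 := (divFun_ne_zero_specializes (Ne.symm hne)).1
      rw [← hgen] at h1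
      exact hy (h1.mem_closed hclV ⟨_, rfl⟩)
    · rfl

theorem point_formula_of_model [IsIntegral W] [IsIntegral V] (iW : W ⟶ X) [IsClosedImmersion iW]
    (iV : V ⟶ Y) [IsClosedImmersion iV] (p : X ⟶ Y) [IsProper p] (p' : W ⟶ V) [IsProper p']
    (hcomm : p' ≫ iV = iW ≫ p) (hdom : p' (genericPoint W) = genericPoint V)
    (δX : X → ℤ) (δY : Y → ℤ) (hX : Cyc.IsSetup X δX) (hY : Cyc.IsSetup Y δY)
    (hδ : Cyc.DeltaCompat p δX δY) (ξ : X) (hξ : iW (genericPoint W) = ξ)
    (f : X.residueField ξ) (hf : f ≠ 0) (y : Y) :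
    ∑ᶠ x ∈ p ⁻¹' {y}, Cyc.divFun δX ξ f x * (AlgebraicCycle.mapCoeff p δX δY x : ℤ) =
      if δX ξ = δY (p ξ) then Cyc.divFun δY (p ξ) (Cyc.normGen p ξ f) y else 0 := by
  subst hξ
  exact point_formula_model iW iV p p' hcomm hdom δX δY hX hY hδ f hf y

/-- **Point formula**: the proper pushforward of the divisor of a rational function on the closure
of a point is the divisor of the norm, or zero when the dimension drops. -/
theorem point_formula (p : X ⟶ Y) [IsProper p] (δX : X → ℤ) (δY : Y → ℤ)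
    (hX : Cyc.IsSetup X δX) (hY : Cyc.IsSetup Y δY) (hδ : Cyc.DeltaCompat p δX δY) (ξ : X)
    (f : X.residueField ξ) (hf : f ≠ 0) (y : Y) :
    ∑ᶠ x ∈ p ⁻¹' {y}, Cyc.divFun δX ξ f x * (AlgebraicCycle.mapCoeff p δX δY x : ℤ) =
      if δX ξ = δY (p ξ) then Cyc.divFun δY (p ξ) (Cyc.normGen p ξ f) y else 0 :=
  point_formula_of_model (ptι X ξ) (ptι Y (p ξ)) p (ptMap p ξ) (ptMap_ι p ξ)
    (ptMap_genericPoint p ξ) δX δY hX hY hδ ξ (ptι_genericPoint X ξ) f hf y

end Part3

section Part4

open AlgebraicGeometry CategoryTheory TopologicalSpace Groth.Agent.Lib.R2H1.RatEquivClosed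
  Groth.Agent.Lib.R2H1.RatEquivOpen Groth.Agent.Lib.R2H1.PullPush

/-- interchange of a `finsum` over a set and a `finsum` over a type, when only finitely many
terms are non-zero. -/
theorem finsum_mem_finsum_comm {α β M : Type*} [AddCommMonoid M] (S : Set α) (F : α → β → M)
    (J : Finset β) (T : Finset α) (hT : ↑T ⊆ S)
    (hJT : ∀ x ∈ S, ∀ i, F x i ≠ 0 → i ∈ J ∧ x ∈ T) :
    ∑ᶠ x ∈ S, ∑ᶠ i, F x i = ∑ᶠ i, ∑ᶠ x ∈ S, F x i := by
  classical
  have h1 : ∀ x ∈ S, ∑ᶠ i, F x i = ∑ i ∈ J, F x i := fun x hx =>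
    finsum_eq_sum_of_support_subset _ (fun i hi => (hJT x hx i hi).1)
  have h2 : ∀ i, ∑ᶠ x ∈ S, F x i = ∑ x ∈ T, F x i := fun i =>
    finsum_mem_eq_sum_of_subset _ (fun x hx => (hJT x hx.1 i hx.2).2) hT
  rw [finsum_mem_congr rfl h1, finsum_congr h2]
  rw [finsum_mem_eq_sum_of_subset (t := T) _ ?_ hT, finsum_eq_sum_of_support_subset (s := J) _ ?_,
    Finset.sum_comm]
  · intro i hi
    rw [Function.mem_support] at hi
    obtain ⟨x, hxT, hx⟩ := Finset.exists_ne_zero_of_sum_ne_zero hi
    exact (hJT x (hT hxT) i hx).1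
  · rintro x ⟨hxS, hx⟩
    rw [Function.mem_support] at hx
    obtain ⟨i, -, hi⟩ := Finset.exists_ne_zero_of_sum_ne_zero hx
    exact (hJT x hxS i hi).2

variable {X Y : Scheme.{u}}

theorem finite_fiber_support (p : X ⟶ Y) [QuasiCompact p] (c : AlgebraicCycle X ℤ) (w : X → ℤ)
    (y : Y) : (p ⁻¹' {y} ∩ Function.support (fun x => c x * w x)).Finite := by
  have h1 := c.locallyFiniteSupport.finite_inter_support_of_isCompact
    (p.isCompact_preimage_singleton y)
  refine h1.subset ?_
  rintro x ⟨hx1, hx2⟩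
  refine ⟨hx1, ?_⟩
  simp only [Function.mem_support] at hx2 ⊢
  exact left_ne_zero_of_mul hx2

theorem map_sub_apply (p : X ⟶ Y) [QuasiCompact p] (wx : X → ℤ) (wy : Y → ℤ)
    (α β : AlgebraicCycle X ℤ) (y : Y) :
    (AlgebraicCycle.map p wx wy α - AlgebraicCycle.map p wx wy β) y =
      ∑ᶠ x ∈ p ⁻¹' {y}, (α - β) x * (AlgebraicCycle.mapCoeff p wx wy x : ℤ) := by
  rw [Function.locallyFinsuppWithin.coe_sub, Pi.sub_apply, map_apply', map_apply']
  have h : ∑ᶠ x ∈ p ⁻¹' {y}, α x * (AlgebraicCycle.mapCoeff p wx wy x : ℤ) =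
      ∑ᶠ x ∈ p ⁻¹' {y}, ((α - β) x * (AlgebraicCycle.mapCoeff p wx wy x : ℤ) +
        β x * (AlgebraicCycle.mapCoeff p wx wy x : ℤ)) := by
    refine finsum_mem_congr rfl (fun x _ => ?_)
    rw [Function.locallyFinsuppWithin.coe_sub, Pi.sub_apply]
    ring
  rw [h, finsum_mem_add_distrib' (finite_fiber_support p (α - β) _ y)
    (finite_fiber_support p β _ y)]
  ring

/-- the index set of a locally finite family meeting a quasi-compact open is finite. -/
theorem finite_of_locallyFinite_of_isCompact {ι : Type*} (ξ : ι → X)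
    (hlf : ∀ x : X, ∃ U : Set X, IsOpen U ∧ x ∈ U ∧ {i | (closure {ξ i} ∩ U).Nonempty}.Finite)
    (K : Set X) (hK : IsCompact K) : {i | ξ i ∈ K}.Finite := by
  choose U hUo hxU hUf using hlf
  obtain ⟨t, -, ht⟩ := hK.elim_nhds_subcover U (fun x _ => (hUo x).mem_nhds (hxU x))
  refine (Set.Finite.biUnion t.finite_toSet (fun x _ => hUf x)).subset ?_
  intro i hi
  obtain ⟨x, hxt, hx⟩ := Set.mem_iUnion₂.mp (ht hi)
  exact Set.mem_iUnion₂.mpr ⟨x, hxt, ⟨ξ i, subset_closure rfl, hx⟩⟩

theorem normGen_ne_zero (p : X ⟶ Y) [LocallyOfFiniteType p] (δX : X → ℤ) (δY : Y → ℤ)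
    (hδ : Cyc.DeltaCompat p δX δY) (ξ : X) (h : δX ξ = δY (p ξ)) (f : X.residueField ξ)
    (hf : f ≠ 0) : Cyc.normGen p ξ f ≠ 0 := by
  have hres := residueDegree_ne_zero_of_delta_eq p hδ ξ h
  unfold Cyc.normGen
  letI := (p.residueFieldMap ξ).hom.toAlgebra
  haveI : Module.Finite (Y.residueField (p ξ)) (X.residueField ξ) :=
    Module.finite_of_finrank_pos (Nat.pos_of_ne_zero hres)
  exact Algebra.norm_ne_zero_iff.mpr hf

theorem main (X Y : Scheme.{u}) (δX : X → ℤ) (δY : Y → ℤ) (hX : Cyc.IsSetup X δX)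
    (hY : Cyc.IsSetup Y δY) (p : X ⟶ Y) [IsProper p] (hδ : Cyc.DeltaCompat p δX δY) (k : ℤ)
    (α β : AlgebraicCycle X ℤ) (h : Cyc.RatEquiv δX k α β) :
    Cyc.RatEquiv δY k (AlgebraicCycle.map p δX δY α) (AlgebraicCycle.map p δX δY β) := by
  classical
  haveI : IsLocallyNoetherian X := hX.1
  obtain ⟨ι, ξ, f, hξk, hf0, hlf, hsum⟩ := h
  have hcompU : ∀ y : Y, ∃ U : Set Y, IsOpen U ∧ y ∈ U ∧ IsCompact (p ⁻¹' U) := by
    intro y
    obtain ⟨_, ⟨U, hU, rfl⟩, hyU, -⟩ :=
      Y.isBasis_affineOpens.exists_subset_of_mem_open (Set.mem_univ y) isOpen_univ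
    exact ⟨U, U.isOpen, hyU, QuasiCompact.isCompact_preimage U.1 U.isOpen hU.isCompact⟩
  refine ⟨{i : ι // δY (p (ξ i)) = k + 1}, fun i => p (ξ i.1),
    fun i => Cyc.normGen p (ξ i.1) (f i.1), fun i => i.2, ?_, ?_, ?_⟩
  · intro i
    exact normGen_ne_zero p δX δY hδ (ξ i.1) ((hξk i.1).trans i.2.symm) (f i.1) (hf0 i.1)
  · intro y
    obtain ⟨U, hUo, hyU, hUc⟩ := hcompU y
    refine ⟨U, hUo, hyU, ?_⟩
    have h1 := finite_of_locallyFinite_of_isCompact ξ hlf _ hUc
    refine (h1.preimage (Subtype.val_injective.injOn)).subset ?_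
    rintro i ⟨z, hz1, hz2⟩
    have hsp : p (ξ i.1) ⤳ z := specializes_iff_mem_closure.mpr hz1
    exact hsp.mem_open hUo hz2
  · intro y
    rw [map_sub_apply]
    have hsum' : ∀ x ∈ p ⁻¹' {y}, (α - β) x * (AlgebraicCycle.mapCoeff p δX δY x : ℤ) =
        ∑ᶠ i, Cyc.divFun δX (ξ i) (f i) x * (AlgebraicCycle.mapCoeff p δX δY x : ℤ) := by
      intro x _
      rw [hsum x, finsum_mul]
    rw [finsum_mem_congr rfl hsum']
    -- finiteness data
    obtain ⟨U, hUo, hyU, hUc⟩ := hcompU y
    have hJ := finite_of_locallyFinite_of_isCompact ξ hlf _ hUc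
    have hTi : ∀ i, (p ⁻¹' {y} ∩ Function.support (Cyc.divFun δX (ξ i) (f i))).Finite := by
      intro i
      exact (divCycle hX.2.2 (ξ i) (f i)).locallyFiniteSupport.finite_inter_support_of_isCompact
        (p.isCompact_preimage_singleton y)
    have hT : (⋃ i ∈ hJ.toFinset,
        (p ⁻¹' {y} ∩ Function.support (Cyc.divFun δX (ξ i) (f i)))).Finite :=
      Set.Finite.biUnion hJ.toFinset.finite_toSet (fun i _ => hTi i)
    rw [finsum_mem_finsum_comm (p ⁻¹' {y})
      (fun x i => Cyc.divFun δX (ξ i) (f i) x * (AlgebraicCycle.mapCoeff p δX δY x : ℤ))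
      hJ.toFinset hT.toFinset ?_ ?_]
    · rw [finsum_congr (fun i => point_formula p δX δY hX hY hδ (ξ i) (f i) (hf0 i) y)]
      rw [finsum_subtype_eq_finsum_cond (fun i => δY (p (ξ i)) = k + 1)
        (f := fun i => Cyc.divFun δY (p (ξ i)) (Cyc.normGen p (ξ i) (f i)) y)]
      refine finsum_congr (fun i => ?_)
      rw [finsum_eq_if, hξk i]
      by_cases hc : δY (p (ξ i)) = k + 1
      · rw [if_pos hc, if_pos hc.symm]
      · rw [if_neg hc, if_neg (fun h => hc h.symm)]
    · intro x hx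
      rw [Set.Finite.coe_toFinset] at hx
      obtain ⟨i, -, hi⟩ := Set.mem_iUnion₂.mp hx
      exact hi.1
    · intro x hx i hne
      have hd : Cyc.divFun δX (ξ i) (f i) x ≠ 0 := left_ne_zero_of_mul hne
      have hsp := (divFun_ne_zero_specializes hd).1
      have hxU : x ∈ p ⁻¹' U := by
        change p x ∈ U
        rw [show p x = y from hx]
        exact hyU
      have hiJ : i ∈ hJ.toFinset := by
        rw [Set.Finite.mem_toFinset]
        exact hsp.mem_open (hUo.preimage p.continuous) hxU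
      refine ⟨hiJ, ?_⟩
      rw [Set.Finite.mem_toFinset]
      exact Set.mem_iUnion₂.mpr ⟨i, hiJ, hx, hd⟩

end Part4

end Groth.Agent.Lib.R2H1.ProperPushRat
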