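/-
Envelope exact sequence CH_k(Y x_X Y) -> CH_k(Y) -> CH_k(X) -> 0 (S6483; helper1, round 2).
Reusable: residueDegree_eq_one_of_surjective, residueDegree_congr, residueDegree_comp (multiplicativity of residue degrees in
a composite), residueFieldMap_surjective_of_lift (a lift Spec k(y) -> P of the canonical point of Y lands on a point with
residue field k(y)), exists_point (a point of Y x_X Y over (y, y') with k(z) = k(y) when k(f y') -> k(y') is onto),
map_family_apply (p_* of a locally finite sum of principal divisors, termwise via norms), normGen_of_surjective,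
mem_Zk_of_ratEquivZero, exists_lift (rationally trivial cycles lift along an envelope), mapCoeff_eq, exists_gamma, main.
-/
import Mathlib
import Groth.Prelude.Def_Cyc
import Groth.Prelude.Def_Bivar
import Groth.Prelude.Def_W4stkchowintpicEnv
import Groth.Agent.Lib.R2H1ProperPushRat

set_option autoImplicit false
set_option linter.style.haveILetI false
set_option linter.unusedSectionVars false
universe u v

namespace Groth.Agent.Lib.R2H1.Envelope

section Part1

open AlgebraicGeometry CategoryTheory TopologicalSpace CategoryTheory.Limits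

variable {A B C : Scheme.{u}}

theorem residueDegree_eq_one_of_surjective (g : A ⟶ B) (a : A)
    (h : Function.Surjective (g.residueFieldMap a).hom) : g.residueDegree a = 1 := by
  unfold Scheme.Hom.residueDegree
  letI := (g.residueFieldMap a).hom.toAlgebra
  have hbij : Function.Bijective (Algebra.linearMap (B.residueField (g a)) (A.residueField a)) := by
    rw [Algebra.coe_linearMap]
    exact ⟨(g.residueFieldMap a).hom.injective, h⟩
  rw [← (LinearEquiv.ofBijective _ hbij).finrank_eq]
  exact Module.finrank_self _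

theorem residueDegree_congr {g g' : A ⟶ B} (e : g = g') (a : A) :
    g.residueDegree a = g'.residueDegree a := by
  subst e; rfl

theorem residueDegree_comp (g : A ⟶ B) (h : B ⟶ C) (a : A) :
    (g ≫ h).residueDegree a = h.residueDegree (g a) * g.residueDegree a := by
  unfold Scheme.Hom.residueDegree
  letI a1 : Algebra (C.residueField (h (g a))) (B.residueField (g a)) :=
    (h.residueFieldMap (g a)).hom.toAlgebra
  letI a2 : Algebra (B.residueField (g a)) (A.residueField a) := (g.residueFieldMap a).hom.toAlgebra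
  letI a3 : Algebra (C.residueField (h (g a))) (A.residueField a) :=
    ((g ≫ h).residueFieldMap a).hom.toAlgebra
  haveI : IsScalarTower (C.residueField (h (g a))) (B.residueField (g a)) (A.residueField a) := by
    refine IsScalarTower.of_algebraMap_eq (fun c => ?_)
    change ((g ≫ h).residueFieldMap a).hom c = (g.residueFieldMap a).hom ((h.residueFieldMap (g a)).hom c)
    rw [Scheme.residueFieldMap_comp]
    rfl
  exact (Module.finrank_mul_finrank (C.residueField (h (g a))) (B.residueField (g a))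
    (A.residueField a)).symm

end Part1

section Part2

open AlgebraicGeometry CategoryTheory TopologicalSpace CategoryTheory.Limits

variable {X Y : Scheme.{u}}

/-- a morphism from the spectrum of a field `Spec κ(y) ⟶ P` lifting the canonical morphism
`Spec κ(y) ⟶ Y` along `p : P ⟶ Y`: the image point has residue field `κ(y)`. -/
theorem residueFieldMap_surjective_of_lift {P : Scheme.{u}} (p : P ⟶ Y) (y : Y)
    (t : Spec (CommRingCat.of (Y.residueField y)) ⟶ P) (ht : t ≫ p = Y.fromSpecResidueField y) :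
    p (t (IsLocalRing.closedPoint (Y.residueField y))) = y ∧
      Function.Surjective
        (p.residueFieldMap (t (IsLocalRing.closedPoint (Y.residueField y)))).hom := by
  set z := t (IsLocalRing.closedPoint (Y.residueField y)) with hz
  set D := Scheme.descResidueField (Scheme.stalkClosedPointTo t) with hD
  have h1 : Spec.map D ≫ P.fromSpecResidueField z = t :=
    Scheme.descResidueField_stalkClosedPointTo_fromSpecResidueField (Y.residueField y) P t
  have key : (Scheme.SpecToEquivOfField (Y.residueField y) Y).symm ⟨p z, p.residueFieldMap z ≫ D⟩ =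
      (Scheme.SpecToEquivOfField (Y.residueField y) Y).symm ⟨y, 𝟙 _⟩ := by
    change Spec.map (p.residueFieldMap z ≫ D) ≫ Y.fromSpecResidueField (p z) =
      Spec.map (𝟙 _) ≫ Y.fromSpecResidueField y
    rw [Spec.map_comp, Category.assoc, Scheme.Hom.SpecMap_residueFieldMap_fromSpecResidueField,
      ← Category.assoc, h1, ht, Spec.map_id, Category.id_comp]
  have key2 := (Scheme.SpecToEquivOfField (Y.residueField y) Y).symm.injective key
  rw [Scheme.SpecToEquivOfField_eq_iff] at key2
  obtain ⟨e, he⟩ := key2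
  refine ⟨e, ?_⟩
  simp only [Category.comp_id] at he
  intro w
  have hbij : Function.Bijective (Y.residueFieldCongr e).hom.hom :=
    ConcreteCategory.bijective_of_isIso (Y.residueFieldCongr e).hom
  obtain ⟨v, hv⟩ := hbij.2 (D.hom w)
  refine ⟨v, ?_⟩
  apply D.hom.injective
  rw [← hv, ← he]
  rfl

/-- over a pair of points `(y, y')` of `Y` with the same image in `X` such that `κ(f y') → κ(y')` is
surjective there is a point `z` of `Y ×_X Y` with `κ(y) → κ(z)` surjective. -/
theorem exists_point (f : Y ⟶ X) (y y' : Y) (hy : f y' = f y)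
    (hs : Function.Surjective (f.residueFieldMap y').hom) :
    ∃ z : ↥(pullback f f), pullback.fst f f z = y ∧ pullback.snd f f z = y' ∧
      Function.Surjective ((pullback.fst f f).residueFieldMap z).hom := by
  let e : X.residueField (f y') ≃+* Y.residueField y' :=
    RingEquiv.ofBijective (f.residueFieldMap y').hom ⟨(f.residueFieldMap y').hom.injective, hs⟩
  let φ : Y.residueField y' ⟶ CommRingCat.of (Y.residueField y) :=
    CommRingCat.ofHom e.symm.toRingHom ≫ (X.residueFieldCongr hy).hom ≫ f.residueFieldMap y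
  have hφ : f.residueFieldMap y' ≫ φ = (X.residueFieldCongr hy).hom ≫ f.residueFieldMap y := by
    have h1 : f.residueFieldMap y' ≫ CommRingCat.ofHom e.symm.toRingHom = 𝟙 _ := by
      ext a
      exact e.symm_apply_apply a
    change f.residueFieldMap y' ≫ CommRingCat.ofHom e.symm.toRingHom ≫ _ = _
    rw [← Category.assoc, h1, Category.id_comp]
  let a : Spec (CommRingCat.of (Y.residueField y)) ⟶ Y := Y.fromSpecResidueField y
  let b : Spec (CommRingCat.of (Y.residueField y)) ⟶ Y := Spec.map φ ≫ Y.fromSpecResidueField y'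
  have hab : a ≫ f = b ≫ f := by
    change Y.fromSpecResidueField y ≫ f = (Spec.map φ ≫ Y.fromSpecResidueField y') ≫ f
    rw [Category.assoc, ← Scheme.Hom.SpecMap_residueFieldMap_fromSpecResidueField,
      ← Scheme.Hom.SpecMap_residueFieldMap_fromSpecResidueField, ← Category.assoc, ← Spec.map_comp,
      hφ, Spec.map_comp, Category.assoc, Scheme.residueFieldCongr_fromSpecResidueField]
  let t : Spec (CommRingCat.of (Y.residueField y)) ⟶ pullback f f := pullback.lift a b hab
  have ht1 : t ≫ pullback.fst f f = Y.fromSpecResidueField y := pullback.lift_fst _ _ _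
  have ht2 : t ≫ pullback.snd f f = b := pullback.lift_snd _ _ _
  obtain ⟨h1, h2⟩ := residueFieldMap_surjective_of_lift (pullback.fst f f) y t ht1
  refine ⟨_, h1, ?_, h2⟩
  rw [← Scheme.Hom.comp_apply, ht2]
  change Y.fromSpecResidueField y' (Spec.map φ _) = y'
  exact Scheme.fromSpecResidueField_apply _ _

end Part2

section Part3

open AlgebraicGeometry CategoryTheory TopologicalSpace CategoryTheory.Limits Groth.Agent.Lib.R2H1.RatEquivClosed
  Groth.Agent.Lib.R2H1.RatEquivOpen Groth.Agent.Lib.R2H1.PullPush Groth.Agent.Lib.R2H1.ProperPushRat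

variable {X Y : Scheme.{u}}

/-- the proper pushforward of a locally finite sum of principal divisors, termwise. -/
theorem map_family_apply (p : X ⟶ Y) [IsProper p] (δX : X → ℤ) (δY : Y → ℤ)
    (hX : Cyc.IsSetup X δX) (hY : Cyc.IsSetup Y δY) (hδ : Cyc.DeltaCompat p δX δY)
    {ι : Type*} (ξ : ι → X) (f : ∀ i, X.residueField (ξ i)) (hf0 : ∀ i, f i ≠ 0)
    (hlf : ∀ x : X, ∃ U : Set X, IsOpen U ∧ x ∈ U ∧ {i | (closure {ξ i} ∩ U).Nonempty}.Finite)
    (B : AlgebraicCycle X ℤ) (hB : ∀ x, B x = ∑ᶠ i, Cyc.divFun δX (ξ i) (f i) x) (y : Y) :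
    AlgebraicCycle.map p δX δY B y =
      ∑ᶠ i, if δX (ξ i) = δY (p (ξ i)) then
        Cyc.divFun δY (p (ξ i)) (Cyc.normGen p (ξ i) (f i)) y else 0 := by
  classical
  haveI : IsLocallyNoetherian X := hX.1
  have hcompU : ∀ y : Y, ∃ U : Set Y, IsOpen U ∧ y ∈ U ∧ IsCompact (p ⁻¹' U) := by
    intro y
    obtain ⟨_, ⟨U, hU, rfl⟩, hyU, -⟩ :=
      Y.isBasis_affineOpens.exists_subset_of_mem_open (Set.mem_univ y) isOpen_univ
    exact ⟨U, U.isOpen, hyU, QuasiCompact.isCompact_preimage U.1 U.isOpen hU.isCompact⟩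
  rw [map_apply']
  have hsum' : ∀ x ∈ p ⁻¹' {y}, B x * (AlgebraicCycle.mapCoeff p δX δY x : ℤ) =
      ∑ᶠ i, Cyc.divFun δX (ξ i) (f i) x * (AlgebraicCycle.mapCoeff p δX δY x : ℤ) := by
    intro x _
    rw [hB x, finsum_mul]
  rw [finsum_mem_congr rfl hsum']
  obtain ⟨U, hUo, hyU, hUc⟩ := hcompU y
  have hJ := finite_of_locallyFinite_of_isCompact ξ hlf _ hUc
  have hTi : ∀ i, (p ⁻¹' {y} ∩ Function.support (Cyc.divFun δX (ξ i) (f i))).Finite := by
    intro i
    exact (divCycle hX.2.2 (ξ i) (f i)).locallyFiniteSupport.finite_inter_support_of_isCompact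
      (p.isCompact_preimage_singleton y)
  have hT : (⋃ i ∈ hJ.toFinset,
      (p ⁻¹' {y} ∩ Function.support (Cyc.divFun δX (ξ i) (f i)))).Finite :=
    Set.Finite.biUnion hJ.toFinset.finite_toSet (fun i _ => hTi i)
  rw [finsum_mem_finsum_comm (p ⁻¹' {y})
    (fun x i => Cyc.divFun δX (ξ i) (f i) x * (AlgebraicCycle.mapCoeff p δX δY x : ℤ))
    hJ.toFinset hT.toFinset ?_ ?_]
  · exact finsum_congr (fun i => point_formula p δX δY hX hY hδ (ξ i) (f i) (hf0 i) y)
  · intro x hx
    rw [Set.Finite.coe_toFinset] at hx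
    obtain ⟨i, -, hi⟩ := Set.mem_iUnion₂.mp hx
    exact hi.1
  · intro x hx i hne
    have hd : Cyc.divFun δX (ξ i) (f i) x ≠ 0 := left_ne_zero_of_mul hne
    have hsp := (divFun_ne_zero_specializes hd).1
    have hxU : x ∈ p ⁻¹' U := by
      change p x ∈ U
      rw [show p x = y from hx]
      exact hyU
    have hiJ : i ∈ hJ.toFinset := by
      rw [Set.Finite.mem_toFinset]
      exact hsp.mem_open (hUo.preimage p.continuous) hxU
    refine ⟨hiJ, ?_⟩
    rw [Set.Finite.mem_toFinset]
    exact Set.mem_iUnion₂.mpr ⟨i, hiJ, hx, hd⟩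

theorem normGen_of_surjective (f : Y ⟶ X) (η : Y)
    (hs : Function.Surjective (f.residueFieldMap η).hom) (r : X.residueField (f η)) :
    Cyc.normGen f η ((f.residueFieldMap η).hom r) = r := by
  have h1 := residueDegree_eq_one_of_surjective f η hs
  unfold Scheme.Hom.residueDegree at h1
  unfold Cyc.normGen
  letI := (f.residueFieldMap η).hom.toAlgebra
  change Algebra.norm (X.residueField (f η)) (algebraMap _ (Y.residueField η) r) = r
  rw [Algebra.norm_algebraMap, h1, pow_one]

theorem mem_Zk_of_ratEquivZero {δ : X → ℤ} {k : ℤ} {α : AlgebraicCycle X ℤ}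
    (h : Cyc.RatEquivZero δ k α) : α ∈ Cyc.Zk X δ k := by
  obtain ⟨ι, ξ, r, hξk, -, -, hsum⟩ := h
  intro x hx
  rw [hsum x]
  refine finsum_eq_zero_of_forall_eq_zero (fun i => ?_)
  by_contra hne
  have h2 := (divFun_ne_zero_specializes hne).2
  rw [hξk i] at h2
  exact hx (by omega)

/-- rationally trivial cycles lift along an envelope to rationally trivial cycles. -/
theorem exists_lift (f : Y ⟶ X) [IsProper f] (hcd : Cyc.IsCompletelyDecomposed f)
    (δ : X → ℤ) (δY : Y → ℤ) (hX : Cyc.IsSetup X δ) (hY : Cyc.IsSetup Y δY)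
    (hδ : Cyc.DeltaCompat f δY δ) (k : ℤ) (α : AlgebraicCycle X ℤ)
    (h0 : Cyc.RatEquivZero δ k α) :
    ∃ B : AlgebraicCycle Y ℤ, Cyc.RatEquivZero δY k B ∧ AlgebraicCycle.map f δY δ B = α := by
  classical
  haveI : IsLocallyNoetherian Y := hY.1
  obtain ⟨ι, ξ, r, hξk, hr0, hlf, hsum⟩ := h0
  choose σ hσ1 hσ2 using hcd
  have key : ∀ (η : ι → Y), (∀ i, f (η i) = ξ i) →
      (∀ i, Function.Surjective (f.residueFieldMap (η i)).hom) →
      ∃ B : AlgebraicCycle Y ℤ, Cyc.RatEquivZero δY k B ∧ AlgebraicCycle.map f δY δ B = α := by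
    intro η hη hs
    obtain rfl : ξ = fun i => f (η i) := funext (fun i => (hη i).symm)
    have hδη : ∀ i, δY (η i) = k + 1 := by
      intro i
      rw [delta_eq_of_residueDegree_ne_zero f hδ (η i)
        (by rw [residueDegree_eq_one_of_surjective f (η i) (hs i)]; exact one_ne_zero)]
      exact hξk i
    have hs0 : ∀ i, (f.residueFieldMap (η i)).hom (r i) ≠ 0 := by
      intro i
      rw [Ne, map_eq_zero_iff _ (RingHom.injective _)]
      exact hr0 i
    have hlfY : ∀ y : Y, ∃ U : Set Y, IsOpen U ∧ y ∈ U ∧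
        {i | (closure {η i} ∩ U).Nonempty}.Finite := by
      intro y
      obtain ⟨U, hUo, hyU, hUf⟩ := hlf (f y)
      refine ⟨f ⁻¹' U, hUo.preimage f.continuous, hyU, hUf.subset ?_⟩
      rintro i ⟨w, hw1, hw2⟩
      have hsp : η i ⤳ w := specializes_iff_mem_closure.mpr hw1
      exact ⟨f w, specializes_iff_mem_closure.mp (hsp.map f.continuous), hw2⟩
    let B : AlgebraicCycle Y ℤ :=
      ⟨fun y => ∑ᶠ i, Cyc.divFun δY (η i) ((f.residueFieldMap (η i)).hom (r i)) y,
        fun _ _ => Set.mem_univ _, fun z _ =>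
        finsum_divFun_locallyFinite hY.2.2 η (fun i => (f.residueFieldMap (η i)).hom (r i)) hlfY z⟩
    have hB : ∀ y, B y = ∑ᶠ i, Cyc.divFun δY (η i) ((f.residueFieldMap (η i)).hom (r i)) y :=
      fun y => rfl
    refine ⟨B, ⟨ι, η, fun i => (f.residueFieldMap (η i)).hom (r i), hδη, hs0, hlfY, hB⟩, ?_⟩
    ext x
    rw [map_family_apply f δY δ hY hX hδ η (fun i => (f.residueFieldMap (η i)).hom (r i)) hs0 hlfY
      B hB x, hsum x]
    refine finsum_congr (fun i => ?_)
    rw [if_pos ((hδη i).trans (hξk i).symm), normGen_of_surjective f (η i) (hs i)]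
  exact key (fun i => σ (ξ i)) (fun i => hσ1 (ξ i)) (fun i => hσ2 (ξ i))

end Part3

section Part4

open AlgebraicGeometry CategoryTheory TopologicalSpace CategoryTheory.Limits Groth.Agent.Lib.R2H1.RatEquivClosed
  Groth.Agent.Lib.R2H1.RatEquivOpen Groth.Agent.Lib.R2H1.PullPush Groth.Agent.Lib.R2H1.ProperPushRat

variable {X Y : Scheme.{u}}

theorem mapCoeff_eq (g : X ⟶ Y) (δX : X → ℤ) (δY : Y → ℤ) (x : X) :
    AlgebraicCycle.mapCoeff g δX δY x = if δX x = δY (g x) then g.residueDegree x else 0 := rfl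

/-- a cycle on `Y` killed by `f_*` (f an envelope) is `p_* γ` for a cycle `γ` on `Y ×_X Y` with
`q_* γ = 0`. -/
theorem exists_gamma (f : Y ⟶ X) [IsProper f] (hcd : Cyc.IsCompletelyDecomposed f)
    (δ : X → ℤ) (δY : Y → ℤ) (hδ : Cyc.DeltaCompat f δY δ) (δ2 : ↥(pullback f f) → ℤ)
    (hδ2 : Cyc.DeltaCompat (pullback.fst f f) δ2 δY) (k : ℤ) (β : AlgebraicCycle Y ℤ)
    (hβ : β ∈ Cyc.Zk Y δY k) (h0 : AlgebraicCycle.map f δY δ β = 0) :
    ∃ γ : AlgebraicCycle (pullback f f) ℤ, γ ∈ Cyc.Zk (pullback f f) δ2 k ∧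
      AlgebraicCycle.map (pullback.fst f f) δ2 δY γ = β ∧
      AlgebraicCycle.map (pullback.snd f f) δ2 δY γ = 0 := by
  classical
  choose σ hσ1 hσ2 using hcd
  have hpt : ∀ y : Y, ∃ z : ↥(pullback f f), pullback.fst f f z = y ∧
      pullback.snd f f z = σ (f y) ∧
      Function.Surjective ((pullback.fst f f).residueFieldMap z).hom :=
    fun y => exists_point f y (σ (f y)) (hσ1 (f y)) (hσ2 (f y))
  choose Z hZ1 hZ2 hZ3 using hpt
  have hdegp : ∀ y, (pullback.fst f f).residueDegree (Z y) = 1 :=
    fun y => residueDegree_eq_one_of_surjective _ _ (hZ3 y)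
  have hδZ : ∀ y, δ2 (Z y) = δY y := by
    intro y
    rw [delta_eq_of_residueDegree_ne_zero (pullback.fst f f) hδ2 (Z y)
      (by rw [hdegp y]; exact one_ne_zero), hZ1 y]
  have hcoefp : ∀ y, AlgebraicCycle.mapCoeff (pullback.fst f f) δ2 δY (Z y) = 1 := by
    intro y
    rw [mapCoeff_eq, hZ1 y, if_pos (hδZ y), hdegp y]
  have hdegσ : ∀ x, f.residueDegree (σ x) = 1 :=
    fun x => residueDegree_eq_one_of_surjective _ _ (hσ2 x)
  have hδσ : ∀ x, δY (σ x) = δ x := by
    intro x
    rw [delta_eq_of_residueDegree_ne_zero f hδ (σ x) (by rw [hdegσ x]; exact one_ne_zero), hσ1 x]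
  have hdegq : ∀ y, (pullback.snd f f).residueDegree (Z y) = f.residueDegree y := by
    intro y
    have h1 := residueDegree_comp (pullback.fst f f) f (Z y)
    have h2 := residueDegree_comp (pullback.snd f f) f (Z y)
    have h3 := residueDegree_congr (pullback.condition (f := f) (g := f)) (Z y)
    rw [hZ1 y, hdegp y, mul_one] at h1
    rw [hZ2 y, hdegσ (f y), one_mul] at h2
    rw [← h2, ← h3, h1]
  have hcoefq : ∀ y, AlgebraicCycle.mapCoeff (pullback.snd f f) δ2 δY (Z y) =
      AlgebraicCycle.mapCoeff f δY δ y := by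
    intro y
    rw [mapCoeff_eq, mapCoeff_eq, hZ2 y, hδZ y, hδσ (f y), hdegq y]
  -- the cycle γ
  let γf : ↥(pullback f f) → ℤ := fun z => if Z (pullback.fst f f z) = z then
    β (pullback.fst f f z) else 0
  have hγsupp : ∀ z, γf z ≠ 0 → Z (pullback.fst f f z) = z ∧ β (pullback.fst f f z) ≠ 0 := by
    intro z hz
    by_cases h : Z (pullback.fst f f z) = z
    · refine ⟨h, ?_⟩
      simpa [γf, h] using hz
    · exact absurd (by simp [γf, h]) hz
  have hγZ : ∀ y, γf (Z y) = β y := by
    intro y
    simp only [γf]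
    rw [hZ1 y, if_pos rfl]
  let γ : AlgebraicCycle (pullback f f) ℤ :=
    { toFun := γf
      supportWithinDomain' := by simp
      supportLocallyFiniteWithinDomain' := by
        intro z₀ _
        obtain ⟨t, ht, hfin⟩ := β.supportLocallyFiniteWithinDomain' (pullback.fst f f z₀) trivial
        refine ⟨pullback.fst f f ⁻¹' t, (pullback.fst f f).continuous.continuousAt ht, ?_⟩
        refine (hfin.image Z).subset ?_
        rintro z ⟨hzt, hz⟩
        obtain ⟨h1, h2⟩ := hγsupp z hz
        exact ⟨pullback.fst f f z, ⟨hzt, h2⟩, h1⟩ }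
  have hγ : ∀ z, γ z = γf z := fun z => rfl
  refine ⟨γ, ?_, ?_, ?_⟩
  · intro z hz
    rw [hγ]
    by_contra h
    obtain ⟨h1, h2⟩ := hγsupp z h
    apply h2
    apply hβ
    rw [← hδZ, h1]
    exact hz
  · ext y
    rw [map_apply', finsum_mem_def, finsum_eq_single _ (Z y)]
    · rw [Set.indicator_of_mem (show Z y ∈ pullback.fst f f ⁻¹' {y} from hZ1 y), hγ, hγZ,
        hcoefp y]
      simp
    · intro z hz
      by_cases hzy : z ∈ pullback.fst f f ⁻¹' {y}
      · rw [Set.indicator_of_mem hzy]
        have hpz : pullback.fst f f z = y := hzy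
        have : γ z = 0 := by
          rw [hγ]
          by_contra hne
          obtain ⟨h1, -⟩ := hγsupp z hne
          rw [hpz] at h1
          exact hz h1.symm
        rw [this, zero_mul]
      · exact Set.indicator_of_notMem hzy _
  · ext y'
    rw [map_apply']
    change _ = (0 : ℤ)
    by_cases hy' : σ (f y') = y'
    · -- reindex along `Z`
      set F : ↥(pullback f f) → ℤ := fun z =>
        γ z * (AlgebraicCycle.mapCoeff (pullback.snd f f) δ2 δY z : ℤ) with hF
      have hinj : Set.InjOn Z (f ⁻¹' {f y'}) := by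
        intro y₁ _ y₂ _ h
        rw [← hZ1 y₁, h, hZ1 y₂]
      have hsets : pullback.snd f f ⁻¹' {y'} ∩ Function.support F =
          Z '' (f ⁻¹' {f y'}) ∩ Function.support F := by
        ext z
        constructor
        · rintro ⟨hz1, hz2⟩
          refine ⟨?_, hz2⟩
          have hne : γf z ≠ 0 := left_ne_zero_of_mul hz2
          obtain ⟨h1, -⟩ := hγsupp z hne
          refine ⟨pullback.fst f f z, ?_, h1⟩
          change f (pullback.fst f f z) = f y'
          rw [condition_apply, show pullback.snd f f z = y' from hz1]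
        · rintro ⟨⟨y, hy, rfl⟩, hz2⟩
          refine ⟨?_, hz2⟩
          change pullback.snd f f (Z y) = y'
          rw [hZ2 y, show f y = f y' from hy, hy']
      rw [finsum_mem_inter_support_eq F _ _ hsets, finsum_mem_image hinj]
      have hterm : ∀ y ∈ f ⁻¹' {f y'}, F (Z y) =
          β y * (AlgebraicCycle.mapCoeff f δY δ y : ℤ) := by
        intro y _
        simp only [hF]
        rw [hγ, hγZ, hcoefq y]
      rw [finsum_mem_congr rfl hterm, ← map_apply', h0]
      rfl
    · refine finsum_mem_eq_zero_of_forall_eq_zero (fun z hz => ?_)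
      have hqz : pullback.snd f f z = y' := hz
      have : γ z = 0 := by
        rw [hγ]
        by_contra hne
        obtain ⟨h1, -⟩ := hγsupp z hne
        apply hy'
        have h2 := hZ2 (pullback.fst f f z)
        rw [h1, hqz] at h2
        have h3 : f y' = f (pullback.fst f f z) := by
          rw [condition_apply, hqz]
        rw [h3]
        exact h2.symm
      rw [this, zero_mul]

/-- the envelope exact sequence. -/
theorem main (X Y : Scheme.{u}) (δ : X → ℤ) (δY : Y → ℤ) (hX : Cyc.IsSetup X δ)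
    (hY : Cyc.IsSetup Y δY) (f : Y ⟶ X) [IsProper f] (hcd : Cyc.IsCompletelyDecomposed f)
    (hδ : Cyc.DeltaCompat f δY δ) (δ2 : ↥(pullback f f) → ℤ)
    (hδ2 : Cyc.DeltaCompat (pullback.fst f f) δ2 δY) (k : ℤ) (β : AlgebraicCycle Y ℤ)
    (hβ : β ∈ Cyc.Zk Y δY k) (h0 : Cyc.RatEquivZero δ k (AlgebraicCycle.map f δY δ β)) :
    ∃ γ : AlgebraicCycle (pullback f f) ℤ, γ ∈ Cyc.Zk (pullback f f) δ2 k ∧
      Cyc.RatEquiv δY k β (AlgebraicCycle.map (pullback.fst f f) δ2 δY γ -
        AlgebraicCycle.map (pullback.snd f f) δ2 δY γ) := by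
  obtain ⟨B, hB0, hBmap⟩ := exists_lift f hcd δ δY hX hY hδ k _ h0
  have hBk : B ∈ Cyc.Zk Y δY k := mem_Zk_of_ratEquivZero hB0
  have hsub : β - B ∈ Cyc.Zk Y δY k := by
    intro y hy
    rw [Function.locallyFinsuppWithin.coe_sub, Pi.sub_apply, hβ y hy, hBk y hy, sub_zero]
  have hmap : AlgebraicCycle.map f δY δ (β - B) = 0 := by
    rw [sub_eq_add_neg, Bivar.cycMap_add, Bivar.cycMap_neg, hBmap, add_neg_cancel]
  obtain ⟨γ, hγk, hγ1, hγ2⟩ := exists_gamma f hcd δ δY hδ δ2 hδ2 k (β - B) hsub hmap
  refine ⟨γ, hγk, ?_⟩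
  unfold Cyc.RatEquiv
  rw [hγ1, hγ2, sub_zero, sub_sub_cancel]
  exact hB0

end Part4

end Groth.Agent.Lib.R2H1.Envelope
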