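/-
Mayer-Vietoris for a closed cover over a field (S19017; helper1, round 2).
Reusable: isSetup_spec_field (Spec k with delta = 0 satisfies IsSetup), isSetup_of_lft (X locally of finite type over
a setup base with DeltaCompat dimension function satisfies IsSetup), isSetup_of_field, ratEquivZero_neg,
exists_comap (restriction of a cycle along an injective morphism, cut to a set), part1 (every cycle on a closed
cover X = X1 u X2 is a sum of pushforwards), part2 (if i1_* a1 + i2_* a2 ~ 0 then a1 ~ j1_* g, a2 ~ -j2_* g for a cycle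
g on the intersection Y).
-/
import Mathlib
import Groth.Prelude
import Groth.Agent.S9126
import Groth.Agent.Lib.Helper4DimFormulaQ
import Groth.Agent.Lib.Helper4RectDepthC
import Groth.Agent.Lib.R2H1RatEquivClosed
import Groth.Agent.Lib.R2H1PullInv

set_option autoImplicit false
set_option linter.style.haveILetI false
set_option linter.unusedSectionVars false
universe u v

namespace Groth.Agent.Lib.R2H1.MVClosed

section Part1

open CategoryTheory AlgebraicGeometry CategoryTheory.Limits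
open IntTh

/-- the spectrum of a field, with the zero dimension function, satisfies the standing hypotheses. -/
theorem isSetup_spec_field (k : Type u) [Field k] :
    Cyc.IsSetup (Spec (CommRingCat.of k)) (fun _ => 0) := by
  refine ⟨inferInstance, ?_, ?_⟩
  · intro x
    letI : Algebra k ((Spec (CommRingCat.of k)).presheaf.stalk x) :=
      StructureSheaf.stalkAlgebra k x
    haveI : IsLocalization.AtPrime ((Spec (CommRingCat.of k)).presheaf.stalk x) x.asIdeal :=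
      StructureSheaf.IsLocalization.to_stalk k x
    haveI : Algebra.EssFiniteType k ((Spec (CommRingCat.of k)).presheaf.stalk x) :=
      Algebra.EssFiniteType.of_isLocalization _ x.asIdeal.primeCompl
    exact Groth.Agent.S9126.result k _
      (Groth.Agent.Lib.Helper4.RectDepth.isUniversallyCatenary_of_isRegularLocalRing k)
  · intro x y _ hne
    exact absurd (Subsingleton.elim x y) hne

/-- a scheme locally of finite type over a scheme satisfying the standing hypotheses, with the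
induced dimension function, satisfies the standing hypotheses. -/
theorem isSetup_of_lft {X S : Scheme.{u}} (f : X ⟶ S) [LocallyOfFiniteType f] (δ : S → ℤ)
    (hS : Cyc.IsSetup S δ) (δX : X → ℤ) (hδ : Cyc.DeltaCompat f δX δ) : Cyc.IsSetup X δX := by
  haveI : IsLocallyNoetherian S := hS.1
  refine ⟨LocallyOfFiniteType.isLocallyNoetherian f, ?_,
    Groth.Agent.Lib.Helper4.DimFormula.isDimFun_of_deltaCompat f δ hS δX hδ⟩
  intro x
  letI : Algebra (S.presheaf.stalk (f x)) (X.presheaf.stalk x) := (f.stalkMap x).hom.toAlgebra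
  haveI : Algebra.EssFiniteType (S.presheaf.stalk (f x)) (X.presheaf.stalk x) :=
    LocallyOfFiniteType.stalkMap f x
  exact Groth.Agent.S9126.result _ _ (hS.2.1 (f x))

theorem isSetup_of_field (k : Type u) [Field k] (X : Scheme.{u}) (f : X ⟶ Spec (CommRingCat.of k))
    [LocallyOfFiniteType f] (δ : X → ℤ) (hδ : Cyc.DeltaCompat f δ (fun _ => 0)) :
    Cyc.IsSetup X δ :=
  isSetup_of_lft f _ (isSetup_spec_field k) δ hδ

end Part1

section Part2

open CategoryTheory AlgebraicGeometry CategoryTheory.Limits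
open IntTh Groth.Agent.Lib.R2H1.RatEquivClosed

variable {X : Scheme.{u}}

/-- the negative of a cycle rationally equivalent to zero is rationally equivalent to zero. -/
theorem ratEquivZero_neg {δ : X → ℤ} {k : ℤ} {α : AlgebraicCycle X ℤ}
    (h : Cyc.RatEquivZero δ k α) : Cyc.RatEquivZero δ k (-α) := by
  obtain ⟨J, ξ, f, hξ, hf, hlf, hsum⟩ := h
  refine ⟨J, ξ, fun i => (f i)⁻¹, hξ, fun i => inv_ne_zero (hf i), hlf, ?_⟩
  intro x
  rw [Function.locallyFinsuppWithin.coe_neg, Pi.neg_apply, hsum x, ← finsum_neg_distrib]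
  exact finsum_congr (fun i => (divFun_inv δ (ξ i) (f i) x).symm)

/-- restriction of a cycle along an injective continuous map. -/
theorem exists_comap {Y P : Scheme.{u}} (ℓ : Y ⟶ P) (hinj : Function.Injective ℓ)
    (β : AlgebraicCycle P ℤ) (s : Set Y) [DecidablePred (· ∈ s)] :
    ∃ γ : AlgebraicCycle Y ℤ, ∀ y, γ y = if y ∈ s then β (ℓ y) else 0 := by
  refine ⟨⟨fun y => if y ∈ s then β (ℓ y) else 0, fun _ _ => Set.mem_univ _, fun z _ => ?_⟩,
    fun y => rfl⟩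
  obtain ⟨t, ht, htf⟩ := β.supportLocallyFiniteWithinDomain (ℓ z) (Set.mem_univ _)
  refine ⟨ℓ ⁻¹' t, ℓ.continuous.continuousAt ht, ?_⟩
  refine (htf.preimage hinj.injOn).subset ?_
  rintro z' ⟨hz't, hz's⟩
  refine ⟨hz't, ?_⟩
  rw [Function.mem_support] at hz's ⊢
  by_cases hs : z' ∈ s
  · rwa [if_pos hs] at hz's
  · rw [if_neg hs] at hz's
    exact absurd rfl hz's

theorem part1 (δ : X → ℤ) {X₁ X₂ : Scheme.{u}} (i₁ : X₁ ⟶ X) (i₂ : X₂ ⟶ X)
    [IsClosedImmersion i₁] [IsClosedImmersion i₂]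
    (hcov : Set.range i₁ ∪ Set.range i₂ = Set.univ) (n : ℤ)
    (α : AlgebraicCycle X ℤ) (hα : α ∈ Cyc.Zk X δ n) :
    ∃ (α₁ : AlgebraicCycle X₁ ℤ) (α₂ : AlgebraicCycle X₂ ℤ),
      α₁ ∈ Cyc.Zk X₁ (fun x => δ (i₁ x)) n ∧ α₂ ∈ Cyc.Zk X₂ (fun x => δ (i₂ x)) n ∧
      α = AlgebraicCycle.map i₁ (fun x => δ (i₁ x)) δ α₁ +
        AlgebraicCycle.map i₂ (fun x => δ (i₂ x)) δ α₂ := by
  classical
  obtain ⟨α₁, hα₁⟩ := exists_comap i₁ i₁.isClosedEmbedding.injective α Set.univ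
  obtain ⟨α₂, hα₂⟩ := exists_comap i₂ i₂.isClosedEmbedding.injective α
    {x₂ | i₂ x₂ ∉ Set.range i₁}
  refine ⟨α₁, α₂, ?_, ?_, ?_⟩
  · intro x hx
    rw [hα₁, if_pos (Set.mem_univ _)]
    exact hα _ hx
  · intro x hx
    rw [hα₂]
    split_ifs
    · exact hα _ hx
    · rfl
  · ext x
    rw [Function.locallyFinsuppWithin.coe_add, Pi.add_apply,
      map_eq_of_comp i₁ (fun x => δ (i₁ x)) δ (fun _ => rfl) α₁
        (fun x => if x ∈ Set.range i₁ then α x else 0)
        (fun z => by rw [hα₁, if_pos (Set.mem_univ _), if_pos ⟨z, rfl⟩])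
        (fun y hy => if_neg hy) x,
      map_eq_of_comp i₂ (fun x => δ (i₂ x)) δ (fun _ => rfl) α₂
        (fun x => if x ∈ Set.range i₁ then 0 else α x)
        (fun z => by
          rw [hα₂]
          by_cases hz : i₂ z ∈ Set.range i₁
          · rw [if_neg (fun h : z ∈ {x₂ | i₂ x₂ ∉ Set.range i₁} => h hz), if_pos hz]
          · rw [if_pos (show z ∈ {x₂ | i₂ x₂ ∉ Set.range i₁} from hz), if_neg hz])
        (fun y hy => by
          have : y ∈ Set.range i₁ ∪ Set.range i₂ := hcov ▸ Set.mem_univ y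
          rcases this with h | h
          · exact if_pos h
          · exact absurd h hy) x]
    by_cases hx : x ∈ Set.range i₁
    · simp [hx]
    · simp [hx]

theorem part2 (δ : X → ℤ) (hX : Cyc.IsSetup X δ) {X₁ X₂ Y : Scheme.{u}} (i₁ : X₁ ⟶ X)
    (i₂ : X₂ ⟶ X) [IsClosedImmersion i₁] [IsClosedImmersion i₂]
    (hcov : Set.range i₁ ∪ Set.range i₂ = Set.univ)
    (j₁ : Y ⟶ X₁) (j₂ : Y ⟶ X₂) [IsClosedImmersion j₁] [IsClosedImmersion j₂]
    (hcomm : j₁ ≫ i₁ = j₂ ≫ i₂) (hY : Set.range (j₁ ≫ i₁) = Set.range i₁ ∩ Set.range i₂) (n : ℤ)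
    (α₁ : AlgebraicCycle X₁ ℤ) (α₂ : AlgebraicCycle X₂ ℤ)
    (h₁ : α₁ ∈ Cyc.Zk X₁ (fun x => δ (i₁ x)) n) (h₂ : α₂ ∈ Cyc.Zk X₂ (fun x => δ (i₂ x)) n)
    (h : Cyc.RatEquivZero δ n
      (AlgebraicCycle.map i₁ (fun x => δ (i₁ x)) δ α₁ +
        AlgebraicCycle.map i₂ (fun x => δ (i₂ x)) δ α₂)) :
    ∃ γ : AlgebraicCycle Y ℤ, γ ∈ Cyc.Zk Y (fun y => δ (i₁ (j₁ y))) n ∧
      Cyc.RatEquiv (fun x => δ (i₁ x)) n α₁
        (AlgebraicCycle.map j₁ (fun y => δ (i₁ (j₁ y))) (fun x => δ (i₁ x)) γ) ∧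
      Cyc.RatEquiv (fun x => δ (i₂ x)) n α₂
        (-AlgebraicCycle.map j₂ (fun y => δ (i₁ (j₁ y))) (fun x => δ (i₂ x)) γ) := by
  classical
  have hneg : -α₂ ∈ Cyc.Zk X₂ (fun x => δ (i₂ x)) n := by
    intro x hx
    rw [Function.locallyFinsuppWithin.coe_neg, Pi.neg_apply, h₂ x hx, neg_zero]
  have hrat : Cyc.RatEquiv δ n (AlgebraicCycle.map i₁ (fun x => δ (i₁ x)) δ α₁)
      (AlgebraicCycle.map i₂ (fun x => δ (i₂ x)) δ (-α₂)) := by
    unfold Cyc.RatEquiv
    rw [Bivar.cycMap_neg, sub_neg_eq_add]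
    exact h
  obtain ⟨β, hβk, hβ1, hβ2⟩ := main X δ hX X₁ X₂ i₁ i₂ hcov n α₁ (-α₂) h₁ hneg hrat
  let ℓ : Y ⟶ pullback i₁ i₂ := pullback.lift j₁ j₂ hcomm
  have hℓ1 : ℓ ≫ pullback.fst i₁ i₂ = j₁ := pullback.lift_fst _ _ _
  have hℓ2 : ℓ ≫ pullback.snd i₁ i₂ = j₂ := pullback.lift_snd _ _ _
  have hℓ1' : ∀ y, pullback.fst i₁ i₂ (ℓ y) = j₁ y := fun y => by
    rw [← hℓ1]; rfl
  have hℓ2' : ∀ y, pullback.snd i₁ i₂ (ℓ y) = j₂ y := fun y => by
    rw [← hℓ2]; rfl
  have hcomm' : ∀ y, i₁ (j₁ y) = i₂ (j₂ y) := fun y => by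
    have := congrArg (fun φ : Y ⟶ X => φ y) hcomm
    simpa using this
  have hcond : ∀ z : ↥(pullback i₁ i₂), i₁ (pullback.fst i₁ i₂ z) = i₂ (pullback.snd i₁ i₂ z) := by
    intro z
    have := congrArg (fun φ : pullback i₁ i₂ ⟶ X => φ z) (pullback.condition (f := i₁) (g := i₂))
    simpa using this
  have hinj₁ : Function.Injective i₁ := i₁.isClosedEmbedding.injective
  have hfst : Function.Injective (pullback.fst i₁ i₂) :=
    (pullback.fst i₁ i₂).isClosedEmbedding.injective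
  have hℓinj : Function.Injective ℓ := by
    intro y y' hyy'
    apply j₁.isClosedEmbedding.injective
    rw [← hℓ1', ← hℓ1', hyy']
  have hℓsurj : Function.Surjective ℓ := by
    intro z
    have hz : i₁ (pullback.fst i₁ i₂ z) ∈ Set.range i₁ ∩ Set.range i₂ :=
      ⟨⟨_, rfl⟩, ⟨_, (hcond z).symm⟩⟩
    rw [← hY] at hz
    obtain ⟨y, hy⟩ := hz
    refine ⟨y, ?_⟩
    apply hfst
    rw [hℓ1']
    apply hinj₁
    rw [← hy]; rfl
  obtain ⟨γ, hγ⟩ := exists_comap ℓ hℓinj β Set.univ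
  have hγ' : ∀ y, γ y = β (ℓ y) := fun y => by rw [hγ, if_pos (Set.mem_univ _)]
  have e1 : AlgebraicCycle.map (pullback.fst i₁ i₂) (fun z => δ (i₁ (pullback.fst i₁ i₂ z)))
      (fun x => δ (i₁ x)) β =
      AlgebraicCycle.map j₁ (fun y => δ (i₁ (j₁ y))) (fun x => δ (i₁ x)) γ := by
    ext x₁
    refine map_eq_of_comp (pullback.fst i₁ i₂) (fun z => δ (i₁ (pullback.fst i₁ i₂ z)))
      (fun x => δ (i₁ x)) (fun _ => rfl) β
      (fun x₁ => AlgebraicCycle.map j₁ (fun y => δ (i₁ (j₁ y))) (fun x => δ (i₁ x)) γ x₁) ?_ ?_ x₁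
    · intro z
      obtain ⟨y, rfl⟩ := hℓsurj z
      rw [hℓ1', map_apply_of_injective' j₁ j₁.isClosedEmbedding.injective _ _ γ y rfl, hγ']
    · intro x₁ hx₁
      apply map_apply_of_notMem_range
      rintro ⟨y, rfl⟩
      exact hx₁ ⟨ℓ y, hℓ1' y⟩
  have e2 : AlgebraicCycle.map (pullback.snd i₁ i₂) (fun z => δ (i₁ (pullback.fst i₁ i₂ z)))
      (fun x => δ (i₂ x)) β =
      AlgebraicCycle.map j₂ (fun y => δ (i₁ (j₁ y))) (fun x => δ (i₂ x)) γ := by
    ext x₂
    refine map_eq_of_comp (pullback.snd i₁ i₂) (fun z => δ (i₁ (pullback.fst i₁ i₂ z)))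
      (fun x => δ (i₂ x)) (fun z => congrArg δ (hcond z)) β
      (fun x₂ => AlgebraicCycle.map j₂ (fun y => δ (i₁ (j₁ y))) (fun x => δ (i₂ x)) γ x₂) ?_ ?_ x₂
    · intro z
      obtain ⟨y, rfl⟩ := hℓsurj z
      rw [hℓ2', map_apply_of_injective' j₂ j₂.isClosedEmbedding.injective _ _ γ y
        (congrArg δ (hcomm' y)), hγ']
    · intro x₂ hx₂
      apply map_apply_of_notMem_range
      rintro ⟨y, rfl⟩
      exact hx₂ ⟨ℓ y, hℓ2' y⟩
  refine ⟨γ, ?_, ?_, ?_⟩
  · intro y hy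
    rw [hγ']
    apply hβk
    change δ (i₁ (pullback.fst i₁ i₂ (ℓ y))) ≠ n
    rw [hℓ1']
    exact hy
  · rw [← e1]
    exact hβ1
  · rw [← e2]
    have := ratEquivZero_neg hβ2
    unfold Cyc.RatEquiv
    rwa [neg_sub, sub_neg_eq_add, add_comm, ← sub_neg_eq_add] at this

end Part2

end Groth.Agent.Lib.R2H1.MVClosed
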