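/-
Descent of proper pushforward to Chow groups, induced dimension functions, envelopes under base change (helper1, round 2).
Reusable: indDelta g dY (the induced dimension function along an lft morphism), deltaCompat_indDelta, deltaCompat_unique,
deltaCompat_cancel (DeltaCompat (g >> h) and DeltaCompat h give DeltaCompat g), pushZk, pushZk_mem_ratTriv, pushCH (proper
pushforward CH_k(X) ->+ CH_k(Y)), pushCH_cl, push_cl_eq, exists_point' (point of a fibre product with trivial residue
extension), isCompletelyDecomposed_of_isPullback, exists_preimage_cycle (cycles lift along completely decomposed maps).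
-/
import Mathlib
import Groth.Prelude
import Groth.Agent.Lib.Helper4DimFormulaT
import Groth.Agent.Lib.R2H1PerfCyc
import Groth.Agent.Lib.R2H1ProperPushRat
import Groth.Agent.Lib.R2H1MVClosed
import Groth.Agent.Lib.R2H1Envelope
import Groth.Agent.Lib.R2H1PullPush

set_option autoImplicit false
set_option linter.style.haveILetI false
set_option linter.unusedSectionVars false
universe u v

namespace Groth.Agent.Lib.R2H1.ChowDesc

section Part1

open CategoryTheory AlgebraicGeometry CategoryTheory.Limits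
open Groth.Agent.Lib.Helper4.DimFormula Groth.Agent.Lib.R2H1.PerfCyc

variable {X Y Z : Scheme.{u}}

/-- the induced dimension function along a morphism locally of finite type. -/
noncomputable def indDelta (g : X ⟶ Y) [LocallyOfFiniteType g] (δY : Y → ℤ) : X → ℤ :=
  fun x => δY (g x) + (ptTrdeg g x : ℤ)

theorem deltaCompat_indDelta (g : X ⟶ Y) [LocallyOfFiniteType g] (δY : Y → ℤ) :
    Cyc.DeltaCompat g (indDelta g δY) δY := by
  intro x
  exact ⟨ptTrdeg g x, trdeg_eq_ptTrdeg g x, rfl⟩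

/-- the induced dimension function is unique. -/
theorem deltaCompat_unique (g : X ⟶ Y) {δ₁ δ₂ : X → ℤ} {δY : Y → ℤ}
    (h₁ : Cyc.DeltaCompat g δ₁ δY) (h₂ : Cyc.DeltaCompat g δ₂ δY) : δ₁ = δ₂ := by
  funext x
  obtain ⟨n, hn, hδn⟩ := h₁ x
  obtain ⟨m, hm, hδm⟩ := h₂ x
  have : (n : Cardinal.{u}) = m := hn.symm.trans hm
  have h : n = m := by exact_mod_cast this
  rw [hδn, hδm, h]

/-- cancellation: if `δX` is induced from `δZ` along `g ≫ h` and `δY` is induced from `δZ` along
`h`, then `δX` is induced from `δY` along `g` (for `g` locally of finite type). -/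
theorem deltaCompat_cancel (g : X ⟶ Y) [LocallyOfFiniteType g] (h : Y ⟶ Z) {δX : X → ℤ}
    {δY : Y → ℤ} {δZ : Z → ℤ} (hgh : Cyc.DeltaCompat (g ≫ h) δX δZ)
    (hh : Cyc.DeltaCompat h δY δZ) : Cyc.DeltaCompat g δX δY := by
  have h1 : Cyc.DeltaCompat (g ≫ h) (indDelta g δY) δZ :=
    Bivar.deltaCompat_comp g h _ δY δZ (deltaCompat_indDelta g δY) hh
  rw [deltaCompat_unique (g ≫ h) hgh h1]
  exact deltaCompat_indDelta g δY

/-- the pushforward on the groups of `k`-cycles. -/
noncomputable def pushZk (p : X ⟶ Y) [QuasiCompact p] (δX : X → ℤ) (δY : Y → ℤ) (k : ℤ) :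
    ↥(ChowOps.zk X δX k) →+ ↥(ChowOps.zk Y δY k) where
  toFun a := ⟨AlgebraicCycle.map p δX δY a.1, Bivar.cycMap_mem_Zk p δX δY k a.2⟩
  map_zero' := Subtype.ext (Bivar.cycMap_zero p δX δY)
  map_add' a b := Subtype.ext (Bivar.cycMap_add p δX δY a.1 b.1)

theorem pushZk_mem_ratTriv {δX : X → ℤ} {δY : Y → ℤ} (hX : Cyc.IsSetup X δX)
    (hY : Cyc.IsSetup Y δY) (p : X ⟶ Y) [IsProper p] (hδ : Cyc.DeltaCompat p δX δY) (k : ℤ) :
    ChowOps.ratTriv X δX k ≤
      ((ChowOps.clHom Y δY k).comp (pushZk p δX δY k)).ker := by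
  unfold ChowOps.ratTriv
  rw [AddSubgroup.closure_le]
  intro a ha
  change Cyc.RatEquivZero δX k (a : AlgebraicCycle X ℤ) at ha
  rw [SetLike.mem_coe, AddMonoidHom.mem_ker]
  change ChowOps.clHom Y δY k (pushZk p δX δY k a) = 0
  unfold ChowOps.clHom
  rw [QuotientAddGroup.mk'_apply, QuotientAddGroup.eq_zero_iff]
  apply AddSubgroup.subset_closure
  change Cyc.RatEquivZero δY k (AlgebraicCycle.map p δX δY a.1)
  have h := Groth.Agent.Lib.R2H1.ProperPushRat.main X Y δX δY hX hY p hδ k a.1 0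
    (by unfold Cyc.RatEquiv; rwa [sub_zero])
  unfold Cyc.RatEquiv at h
  rwa [Bivar.cycMap_zero, sub_zero] at h

/-- proper pushforward on Chow groups. -/
noncomputable def pushCH {δX : X → ℤ} {δY : Y → ℤ} (hX : Cyc.IsSetup X δX)
    (hY : Cyc.IsSetup Y δY) (p : X ⟶ Y) [IsProper p] (hδ : Cyc.DeltaCompat p δX δY) (k : ℤ) :
    ChowOps.CH X δX k →+ ChowOps.CH Y δY k :=
  QuotientAddGroup.lift (ChowOps.ratTriv X δX k)
    ((ChowOps.clHom Y δY k).comp (pushZk p δX δY k)) (pushZk_mem_ratTriv hX hY p hδ k)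

theorem pushCH_cl {δX : X → ℤ} {δY : Y → ℤ} (hX : Cyc.IsSetup X δX)
    (hY : Cyc.IsSetup Y δY) (p : X ⟶ Y) [IsProper p] (hδ : Cyc.DeltaCompat p δX δY) (k : ℤ)
    (α : AlgebraicCycle X ℤ) (hα : α ∈ Cyc.Zk X δX k) :
    pushCH hX hY p hδ k (ChowOps.cl α hα) =
      ChowOps.cl (AlgebraicCycle.map p δX δY α) (Bivar.cycMap_mem_Zk p δX δY k hα) := rfl

/-- cycles with the same class have pushforwards with the same class. -/
theorem push_cl_eq {δX : X → ℤ} {δY : Y → ℤ} (hX : Cyc.IsSetup X δX)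
    (hY : Cyc.IsSetup Y δY) (p : X ⟶ Y) [IsProper p] (hδ : Cyc.DeltaCompat p δX δY) (k : ℤ)
    (α β : AlgebraicCycle X ℤ) (hα : α ∈ Cyc.Zk X δX k) (hβ : β ∈ Cyc.Zk X δX k)
    (h : ChowOps.cl α hα = ChowOps.cl β hβ) :
    ChowOps.cl (AlgebraicCycle.map p δX δY α) (Bivar.cycMap_mem_Zk p δX δY k hα) =
      ChowOps.cl (AlgebraicCycle.map p δX δY β) (Bivar.cycMap_mem_Zk p δX δY k hβ) := by
  rw [← pushCH_cl hX hY p hδ k α hα, ← pushCH_cl hX hY p hδ k β hβ, h]

end Part1

section Part2

open CategoryTheory AlgebraicGeometry CategoryTheory.Limits TopologicalSpace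
open Groth.Agent.Lib.R2H1.Envelope Groth.Agent.Lib.R2H1.RatEquivClosed
  Groth.Agent.Lib.R2H1.PullPush

variable {A B C P : Scheme.{u}}

/-- in a cartesian square over `f : A ⟶ C` and `g : B ⟶ C`, over a pair of points `(b, a)` with the
same image in `C` such that `κ(f a) → κ(a)` is surjective, there is a point `z` of the fibre
product with `κ(b) → κ(z)` surjective. -/
theorem exists_point' {p : P ⟶ B} {q : P ⟶ A} {g : B ⟶ C} {f : A ⟶ C} (hP : IsPullback p q g f)
    (b : B) (a : A) (hy : f a = g b) (hs : Function.Surjective (f.residueFieldMap a).hom) :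
    ∃ z : P, p z = b ∧ q z = a ∧ Function.Surjective (p.residueFieldMap z).hom := by
  let e : C.residueField (f a) ≃+* A.residueField a :=
    RingEquiv.ofBijective (f.residueFieldMap a).hom ⟨(f.residueFieldMap a).hom.injective, hs⟩
  let φ : A.residueField a ⟶ CommRingCat.of (B.residueField b) :=
    CommRingCat.ofHom e.symm.toRingHom ≫ (C.residueFieldCongr hy).hom ≫ g.residueFieldMap b
  have hφ : f.residueFieldMap a ≫ φ = (C.residueFieldCongr hy).hom ≫ g.residueFieldMap b := by
    have h1 : f.residueFieldMap a ≫ CommRingCat.ofHom e.symm.toRingHom = 𝟙 _ := by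
      ext c
      exact e.symm_apply_apply c
    change f.residueFieldMap a ≫ CommRingCat.ofHom e.symm.toRingHom ≫ _ = _
    rw [← Category.assoc, h1, Category.id_comp]
  let b' : Spec (CommRingCat.of (B.residueField b)) ⟶ B := B.fromSpecResidueField b
  let a' : Spec (CommRingCat.of (B.residueField b)) ⟶ A := Spec.map φ ≫ A.fromSpecResidueField a
  have hab : b' ≫ g = a' ≫ f := by
    change B.fromSpecResidueField b ≫ g = (Spec.map φ ≫ A.fromSpecResidueField a) ≫ f
    rw [Category.assoc, ← Scheme.Hom.SpecMap_residueFieldMap_fromSpecResidueField,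
      ← Scheme.Hom.SpecMap_residueFieldMap_fromSpecResidueField, ← Category.assoc, ← Spec.map_comp,
      hφ, Spec.map_comp, Category.assoc, Scheme.residueFieldCongr_fromSpecResidueField]
  let t : Spec (CommRingCat.of (B.residueField b)) ⟶ P := hP.lift b' a' hab
  have ht1 : t ≫ p = B.fromSpecResidueField b := hP.lift_fst _ _ _
  have ht2 : t ≫ q = a' := hP.lift_snd _ _ _
  obtain ⟨h1, h2⟩ := residueFieldMap_surjective_of_lift p b t ht1
  refine ⟨_, h1, ?_, h2⟩
  rw [← Scheme.Hom.comp_apply, ht2]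
  change A.fromSpecResidueField a (Spec.map φ _) = a
  exact Scheme.fromSpecResidueField_apply _ _

/-- complete decomposition is stable under base change. -/
theorem isCompletelyDecomposed_of_isPullback {p : P ⟶ B} {q : P ⟶ A} {g : B ⟶ C} {f : A ⟶ C}
    (hP : IsPullback p q g f) (hf : Cyc.IsCompletelyDecomposed f) :
    Cyc.IsCompletelyDecomposed p := by
  intro b
  obtain ⟨a, ha, hs⟩ := hf (g b)
  obtain ⟨z, hz1, -, hz3⟩ := exists_point' hP b a ha hs
  exact ⟨z, hz1, hz3⟩

/-- every `k`-cycle is the pushforward of a `k`-cycle along a completely decomposed morphism. -/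
theorem exists_preimage_cycle (f : B ⟶ C) [QuasiCompact f] (hcd : Cyc.IsCompletelyDecomposed f)
    (δB : B → ℤ) (δC : C → ℤ) (hδ : Cyc.DeltaCompat f δB δC) (k : ℤ) (α : AlgebraicCycle C ℤ)
    (hα : α ∈ Cyc.Zk C δC k) :
    ∃ β : AlgebraicCycle B ℤ, β ∈ Cyc.Zk B δB k ∧ AlgebraicCycle.map f δB δC β = α := by
  classical
  choose σ hσ1 hσ2 using hcd
  have hδσ : ∀ c, δB (σ c) = δC c := by
    intro c
    rw [delta_eq_of_residueDegree_ne_zero f hδ (σ c)
      (by rw [residueDegree_eq_one_of_surjective f (σ c) (hσ2 c)]; exact one_ne_zero), hσ1]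
  let βf : B → ℤ := fun b => if σ (f b) = b then α (f b) else 0
  have hsupp : ∀ b, βf b ≠ 0 → σ (f b) = b ∧ α (f b) ≠ 0 := by
    intro b hb
    by_cases h : σ (f b) = b
    · refine ⟨h, ?_⟩
      simpa [βf, h] using hb
    · exact absurd (by simp [βf, h]) hb
  let β : AlgebraicCycle B ℤ :=
    { toFun := βf
      supportWithinDomain' := by simp
      supportLocallyFiniteWithinDomain' := by
        intro z₀ _
        obtain ⟨t, ht, hfin⟩ := α.supportLocallyFiniteWithinDomain' (f z₀) trivial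
        refine ⟨f ⁻¹' t, f.continuous.continuousAt ht, ?_⟩
        refine (hfin.image σ).subset ?_
        rintro z ⟨hzt, hz⟩
        obtain ⟨h1, h2⟩ := hsupp z hz
        exact ⟨f z, ⟨hzt, h2⟩, h1⟩ }
  have hβ : ∀ b, β b = βf b := fun b => rfl
  refine ⟨β, ?_, ?_⟩
  · intro b hb
    rw [hβ]
    by_contra h
    obtain ⟨h1, h2⟩ := hsupp b h
    apply h2
    apply hα
    rw [← hδσ, h1]
    exact hb
  · ext c
    rw [map_apply]
    have hsub : ∀ b ∈ (f ⁻¹' {c} : Set B), b ≠ σ c →
        β b * (AlgebraicCycle.mapCoeff f δB δC b : ℤ) = 0 := by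
      intro b hb hne
      have hb' : f b = c := hb
      rw [hβ]
      simp only [βf]
      rw [if_neg (by rw [hb']; exact fun h => hne h.symm), zero_mul]
    have hset : (f ⁻¹' {c} : Set B) ∩
        Function.support (fun b => β b * (AlgebraicCycle.mapCoeff f δB δC b : ℤ)) =
        {σ c} ∩ Function.support (fun b => β b * (AlgebraicCycle.mapCoeff f δB δC b : ℤ)) := by
      ext b
      constructor
      · rintro ⟨hb1, hb2⟩
        refine ⟨?_, hb2⟩
        by_contra hne
        exact hb2 (hsub b hb1 hne)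
      · rintro ⟨hb1, hb2⟩
        refine ⟨?_, hb2⟩
        rw [Set.mem_singleton_iff] at hb1
        rw [hb1]
        exact hσ1 c
    rw [finsum_mem_inter_support_eq _ (f ⁻¹' {c}) {σ c} hset, finsum_mem_singleton, hβ]
    simp only [βf]
    rw [hσ1 c, if_pos rfl, mapCoeff_eq, if_pos (by rw [hδσ, hσ1]),
      residueDegree_eq_one_of_surjective f (σ c) (hσ2 c)]
    simp

end Part2

end Groth.Agent.Lib.R2H1.ChowDesc
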