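/-
Cycles on inverse limits of schemes, part B (S6495; helper1, round 2).
Reusable (cofiltered diagram D with affine transition maps and limit cone c): exists_appLE_eq (sections over preimages of
affine opens come from a finite stage), range_stalkMap_subset, exists_stalkMap_eq (germs of O_{X',x'} come from a finite
stage), exists_common (finitely many monotone properties hold at a common stage), map_maximalIdeal_stalkMap_le,
range_residueFieldMap_subset, mem_map_of_mem_range, mem_range_residueFieldMap_of_mem_range; Good1/Good2/Good3 (closure of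
x' is the preimage of the closure of its image; m_{x'} is generated by m of the image; an element of k(x') comes from stage
i) with good*_mono, exists_good1/2/3, π_apply; mult_eq_one, fibGen_of_good, exists_pullFun_eq (descent of a finitely
supported coefficient function along a morphism good at the support), exists_good, main6495.
-/
import Mathlib
import Groth.Prelude.Def_Cyc
import Groth.Agent.Lib.R2H1FlatPullRat
import Groth.Agent.Lib.R2H3CycFlat

set_option autoImplicit false
set_option linter.style.haveILetI false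
set_option linter.unusedSectionVars false
universe u v

namespace Groth.Agent.Lib.R2H1.CycLimB

section Part1

open AlgebraicGeometry CategoryTheory TopologicalSpace CategoryTheory.Limits IsLocalRing

variable {I : Type u} [Category.{u} I] (D : I ⥤ Scheme.{u}) (c : Cone D) (hc : IsLimit c)

set_option backward.defeqAttrib.useBackward true in
set_option backward.isDefEq.respectTransparency false in
open Scheme.Opens in
include hc in
/-- sections of the limit over the preimage of an affine open come from a finite stage. -/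
theorem exists_appLE_eq [IsCofiltered I] [∀ {i j} (f : i ⟶ j), IsAffineHom (D.map f)]
    (i : I) (V : (D.obj i).Opens) (hV : IsAffineOpen V) (r : Γ(c.pt, c.π.app i ⁻¹ᵁ V)) :
    ∃ (j : I) (f : j ⟶ i) (s : Γ(D.obj j, D.map f ⁻¹ᵁ V))
      (h : c.π.app i ⁻¹ᵁ V ≤ c.π.app j ⁻¹ᵁ D.map f ⁻¹ᵁ V),
      r = (c.π.app j).appLE (D.map f ⁻¹ᵁ V) (c.π.app i ⁻¹ᵁ V) h s := by
  have (j : _) : IsAffine ((opensDiagram D i V).op.obj j).unop := hV.preimage _
  have (j : _) : IsAffine ((opensDiagram D i V).obj j) := hV.preimage _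
  obtain ⟨⟨j⟩, s, hs⟩ := (Types.jointly_surjective_of_isColimit (isColimitOfPreserves
    (Scheme.Γ ⋙ forget _) (isLimitOpensCone D c hc i V).op) ((c.π.app i ⁻¹ᵁ V).topIso.inv r))
  obtain ⟨s, rfl⟩ := (D.map j.hom ⁻¹ᵁ V).topIso.symm.commRingCatIsoToRingEquiv.surjective s
  have h : c.π.app j.left ⁻¹ᵁ D.map j.hom ⁻¹ᵁ V = c.π.app i ⁻¹ᵁ V := congr($(c.w j.hom) ⁻¹ᵁ V)
  have : r = (c.π.app j.left).appLE (D.map j.hom ⁻¹ᵁ V) (c.π.app i ⁻¹ᵁ V) h.ge s := by
    convert!
      show r = ((topIso _).inv ≫ ((opensCone D c i V).π.app j).appTop ≫ (topIso _).hom) s from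
        (c.π.app i ⁻¹ᵁ V).topIso.commRingCatIsoToRingEquiv.symm_apply_eq.mp hs.symm using 3
    simp [Scheme.Hom.app_eq_appLE, Scheme.Hom.resLE_appLE]
  exact ⟨j.left, j.hom, s, h.ge, this⟩

end Part1

section Part2

open AlgebraicGeometry CategoryTheory TopologicalSpace CategoryTheory.Limits IsLocalRing

variable {I : Type u} [Category.{u} I] (D : I ⥤ Scheme.{u}) (c : Cone D) (hc : IsLimit c)

/-- the range of the stalk map of `p = q ≫ h` is contained in that of `q`. -/
theorem range_stalkMap_subset {A B C : Scheme.{u}} (q : A ⟶ B) (h : B ⟶ C) (p : A ⟶ C)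
    (hp : q ≫ h = p) (x : A) (t : A.presheaf.stalk x)
    (ht : t ∈ Set.range (p.stalkMap x).hom) : t ∈ Set.range (q.stalkMap x).hom := by
  subst hp
  obtain ⟨τ, rfl⟩ := ht
  rw [Scheme.Hom.stalkMap_comp]
  exact ⟨(h.stalkMap (q x)).hom τ, rfl⟩

include hc in
/-- germs of the structure sheaf of the limit come from a finite stage. -/
theorem exists_stalkMap_eq [IsCofiltered I] [∀ {i j} (f : i ⟶ j), IsAffineHom (D.map f)]
    (x' : c.pt) (t : c.pt.presheaf.stalk x') :
    ∃ i : I, t ∈ Set.range ((c.π.app i).stalkMap x').hom := by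
  obtain ⟨U', hxU', r, rfl⟩ := TopCat.Presheaf.germ_exist c.pt.presheaf (x := x') t
  obtain ⟨_, ⟨i, V, hV, rfl⟩, hxV, hVU⟩ :=
    TopologicalSpace.Opens.isBasis_iff_nbhd.mp (isBasis_preimage_isAffineOpen D c hc) hxU'
  obtain ⟨j, f, s, h, hr⟩ := exists_appLE_eq D c hc i V hV (c.pt.presheaf.map (homOfLE hVU).op r)
  have hxj : (c.π.app j) x' ∈ D.map f ⁻¹ᵁ V := h hxV
  refine ⟨j, (D.obj j).presheaf.germ (D.map f ⁻¹ᵁ V) ((c.π.app j) x') hxj s, ?_⟩
  rw [Scheme.Hom.germ_stalkMap_apply]
  have h1 : c.pt.presheaf.germ U' x' hxU' r =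
      c.pt.presheaf.germ (c.π.app i ⁻¹ᵁ V) x' hxV (c.pt.presheaf.map (homOfLE hVU).op r) :=
    (TopCat.Presheaf.germ_res_apply c.pt.presheaf (homOfLE hVU) x' hxV r).symm
  rw [h1, hr, Scheme.Hom.appLE, CommRingCat.comp_apply]
  exact (TopCat.Presheaf.germ_res_apply c.pt.presheaf (homOfLE h) x' hxV _).symm

end Part2

section Part3

open AlgebraicGeometry CategoryTheory TopologicalSpace CategoryTheory.Limits IsLocalRing

/-- finitely many monotone properties that hold at some stage of a cofiltered category hold at a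
common stage. -/
theorem exists_common {I : Type*} [Category I] [IsCofiltered I] {A : Type*} (S : Finset A)
    (P : A → I → Prop) (hmono : ∀ a i j (_ : j ⟶ i), P a i → P a j)
    (hex : ∀ a ∈ S, ∃ i, P a i) : ∃ i, ∀ a ∈ S, P a i := by
  classical
  induction S using Finset.induction_on with
  | empty => exact ⟨(IsCofiltered.nonempty (C := I)).some, fun a ha => absurd ha (Finset.notMem_empty a)⟩
  | insert a S _ ih =>
    obtain ⟨i₁, h₁⟩ := ih (fun b hb => hex b (Finset.mem_insert_of_mem hb))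
    obtain ⟨i₂, h₂⟩ := hex a (Finset.mem_insert_self a S)
    refine ⟨IsCofiltered.min i₁ i₂, fun b hb => ?_⟩
    rcases Finset.mem_insert.mp hb with rfl | hb
    · exact hmono _ _ _ (IsCofiltered.minToRight i₁ i₂) h₂
    · exact hmono _ _ _ (IsCofiltered.minToLeft i₁ i₂) (h₁ b hb)

section general

variable {A B C : Scheme.{u}}

theorem map_maximalIdeal_stalkMap_le (q : A ⟶ B) (h : B ⟶ C) (p : A ⟶ C) (hp : q ≫ h = p) (x : A) :
    Ideal.map (p.stalkMap x).hom (maximalIdeal (C.presheaf.stalk (p x))) ≤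
      Ideal.map (q.stalkMap x).hom (maximalIdeal (B.presheaf.stalk (q x))) := by
  subst hp
  rw [Scheme.Hom.stalkMap_comp]
  change Ideal.map ((q.stalkMap x).hom.comp (h.stalkMap (q x)).hom) _ ≤ _
  rw [← Ideal.map_map]
  exact Ideal.map_mono (IsLocalRing.map_maximalIdeal_le (h.stalkMap (q x)).hom)

theorem range_residueFieldMap_subset (q : A ⟶ B) (h : B ⟶ C) (p : A ⟶ C) (hp : q ≫ h = p) (x : A)
    (r : A.residueField x) (hr : r ∈ Set.range (p.residueFieldMap x).hom) :
    r ∈ Set.range (q.residueFieldMap x).hom := by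
  subst hp
  obtain ⟨τ, rfl⟩ := hr
  rw [Scheme.residueFieldMap_comp]
  exact ⟨(h.residueFieldMap (q x)).hom τ, rfl⟩

/-- a germ in the maximal ideal which is in the range of the stalk map is in the extension of the
maximal ideal. -/
theorem mem_map_of_mem_range (p : A ⟶ B) (x : A) (t : A.presheaf.stalk x)
    (ht : t ∈ maximalIdeal (A.presheaf.stalk x)) (hr : t ∈ Set.range (p.stalkMap x).hom) :
    t ∈ Ideal.map (p.stalkMap x).hom (maximalIdeal (B.presheaf.stalk (p x))) := by
  obtain ⟨τ, rfl⟩ := hr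
  apply Ideal.mem_map_of_mem
  rw [mem_maximalIdeal, mem_nonunits_iff] at ht ⊢
  intro hu
  exact ht (hu.map _)

theorem mem_range_residueFieldMap_of_mem_range (p : A ⟶ B) (x : A) (t : A.presheaf.stalk x)
    (hr : t ∈ Set.range (p.stalkMap x).hom) :
    (A.residue x).hom t ∈ Set.range (p.residueFieldMap x).hom := by
  obtain ⟨τ, rfl⟩ := hr
  refine ⟨(B.residue (p x)).hom τ, ?_⟩
  have := Scheme.residue_residueFieldMap p x
  exact congrArg (fun φ => φ.hom τ) this

end general

end Part3

section Part4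

open AlgebraicGeometry CategoryTheory TopologicalSpace CategoryTheory.Limits IsLocalRing

variable {I : Type u} [Category.{u} I] (D : I ⥤ Scheme.{u}) (c : Cone D) (hc : IsLimit c)

/-- at stage `i` the closure of `x'` is the preimage of the closure of its image. -/
def Good1 (i : I) (x' : c.pt) : Prop :=
  ∀ y' : c.pt, (c.π.app i x') ⤳ (c.π.app i y') → x' ⤳ y'

/-- at stage `i` the maximal ideal of `O_{X',x'}` is generated by that of the image point. -/
def Good2 (i : I) (x' : c.pt) : Prop :=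
  maximalIdeal (c.pt.presheaf.stalk x') ≤ Ideal.map ((c.π.app i).stalkMap x').hom
    (maximalIdeal ((D.obj i).presheaf.stalk (c.π.app i x')))

/-- at stage `i` the element `r` of `κ(x')` comes from the residue field of the image point. -/
def Good3 (i : I) (x' : c.pt) (r : c.pt.residueField x') : Prop :=
  r ∈ Set.range ((c.π.app i).residueFieldMap x').hom

theorem π_apply {i j : I} (f : j ⟶ i) (z : c.pt) : c.π.app i z = D.map f (c.π.app j z) := by
  rw [← c.w f]
  rfl

theorem good1_mono {i j : I} (f : j ⟶ i) (x' : c.pt) (h : Good1 D c i x') : Good1 D c j x' := by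
  intro y' hy'
  apply h
  rw [π_apply D c f, π_apply D c f]
  exact hy'.map (D.map f).continuous

theorem good2_mono {i j : I} (f : j ⟶ i) (x' : c.pt) (h : Good2 D c i x') : Good2 D c j x' :=
  le_trans h (map_maximalIdeal_stalkMap_le (c.π.app j) (D.map f) (c.π.app i) (c.w f) x')

theorem good3_mono {i j : I} (f : j ⟶ i) (x' : c.pt) (r : c.pt.residueField x')
    (h : Good3 D c i x' r) : Good3 D c j x' r :=
  range_residueFieldMap_subset (c.π.app j) (D.map f) (c.π.app i) (c.w f) x' r h

variable [IsCofiltered I] [∀ {i j} (f : i ⟶ j), IsAffineHom (D.map f)]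

include hc in
theorem exists_good1 [∀ i, CompactSpace (D.obj i)] [IsLocallyNoetherian c.pt] (x' : c.pt) :
    ∃ i, Good1 D c i x' := by
  haveI : CompactSpace c.pt := Scheme.compactSpace_of_isLimit D c hc
  haveI : IsNoetherian c.pt := {}
  let W' : c.pt.Opens := ⟨(closure {x'})ᶜ, isClosed_closure.isOpen_compl⟩
  have hW' : IsCompact (W' : Set c.pt) := NoetherianSpace.isCompact _
  obtain ⟨i, V, -, hV⟩ := exists_preimage_eq D c hc W' hW'
  refine ⟨i, fun y' hy' => ?_⟩
  by_contra hns
  have hyW : y' ∈ W' := fun h => hns (specializes_iff_mem_closure.mpr h)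
  rw [← hV] at hyW
  have hyV : c.π.app i y' ∈ V := hyW
  have hxV : c.π.app i x' ∈ V := hy'.mem_open V.isOpen hyV
  have hxW : x' ∈ c.π.app i ⁻¹ᵁ V := hxV
  rw [hV] at hxW
  exact hxW (subset_closure rfl)

include hc in
theorem exists_good2 [IsLocallyNoetherian c.pt] (x' : c.pt) : ∃ i, Good2 D c i x' := by
  classical
  obtain ⟨S, hS⟩ := (isNoetherianRing_iff_ideal_fg (c.pt.presheaf.stalk x')).mp inferInstance
    (maximalIdeal (c.pt.presheaf.stalk x'))
  have hex : ∀ t ∈ S, ∃ i, t ∈ Ideal.map ((c.π.app i).stalkMap x').hom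
      (maximalIdeal ((D.obj i).presheaf.stalk (c.π.app i x'))) := by
    intro t ht
    obtain ⟨i, hi⟩ := exists_stalkMap_eq D c hc x' t
    have htm : t ∈ maximalIdeal (c.pt.presheaf.stalk x') := by
      rw [← hS]
      exact Ideal.subset_span ht
    exact ⟨i, mem_map_of_mem_range (c.π.app i) x' t htm hi⟩
  obtain ⟨i, hi⟩ := exists_common S (fun t i => t ∈ Ideal.map ((c.π.app i).stalkMap x').hom
      (maximalIdeal ((D.obj i).presheaf.stalk (c.π.app i x'))))
    (fun t i j f h =>
      map_maximalIdeal_stalkMap_le (c.π.app j) (D.map f) (c.π.app i) (c.w f) x' h) hex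
  refine ⟨i, ?_⟩
  unfold Good2
  rw [← hS, Ideal.span_le]
  exact fun t ht => hi t ht

include hc in
theorem exists_good3 (x' : c.pt) (r : c.pt.residueField x') : ∃ i, Good3 D c i x' r := by
  obtain ⟨t, rfl⟩ := IsLocalRing.residue_surjective (R := c.pt.presheaf.stalk x') r
  obtain ⟨i, hi⟩ := exists_stalkMap_eq D c hc x' t
  exact ⟨i, mem_range_residueFieldMap_of_mem_range (c.π.app i) x' t hi⟩

end Part4

section Part5

open AlgebraicGeometry CategoryTheory TopologicalSpace CategoryTheory.Limits IsLocalRing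
  Groth.Agent.Lib.R2H1.FlatPullRat Groth.Agent.Lib.R2H3.CycFlat

variable {X X' : Scheme.{u}}

/-- if the maximal ideal at `x'` is generated by that of `p x'`, the fibre multiplicity is one. -/
theorem mult_eq_one (p : X' ⟶ X) (x' : X')
    (h2 : maximalIdeal (X'.presheaf.stalk x') ≤ Ideal.map (p.stalkMap x').hom
      (maximalIdeal (X.presheaf.stalk (p x')))) : mult p x' = 1 := by
  have he : Ideal.map (p.stalkMap x').hom (maximalIdeal (X.presheaf.stalk (p x'))) =
      maximalIdeal (X'.presheaf.stalk x') :=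
    le_antisymm (IsLocalRing.map_maximalIdeal_le (p.stalkMap x').hom) h2
  unfold mult
  rw [he]
  haveI : IsSimpleModule (X'.presheaf.stalk x')
      (X'.presheaf.stalk x' ⧸ maximalIdeal (X'.presheaf.stalk x')) :=
    isSimpleModule_iff_isCoatom.mpr (Ideal.isMaximal_def.mp (maximalIdeal.isMaximal _))
  rw [Module.length_eq_one]
  rfl

/-- a point whose closure is the preimage of the closure of its image is generic in its fibre. -/
theorem fibGen_of_good (p : X' ⟶ X) (x' : X') (h1 : ∀ y' : X', p x' ⤳ p y' → x' ⤳ y') :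
    ∀ y, p y = p x' → y ⤳ x' → y = x' := by
  intro y hy hyx
  have h : x' ⤳ y := h1 y (by rw [hy])
  exact (hyx.antisymm h).eq

/-- **descent of a function with finite support along a morphism which is "good" at the points of
the support.** -/
theorem exists_pullFun_eq (p : X' ⟶ X) (δ' : X' → ℤ) (δ : X → ℤ) (hδ' : Cyc.IsDimFun X' δ')
    (hshift : ∀ x' : X', (∀ y, p y = p x' → y ⤳ x' → y = x') → δ' x' = δ (p x') + 0)
    (S' : Finset X') (hgood1 : ∀ x' ∈ S', ∀ y' : X', p x' ⤳ p y' → x' ⤳ y')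
    (hgood2 : ∀ x' ∈ S', maximalIdeal (X'.presheaf.stalk x') ≤ Ideal.map (p.stalkMap x').hom
      (maximalIdeal (X.presheaf.stalk (p x'))))
    (α' : X' → ℤ) (hsupp : ∀ y', α' y' ≠ 0 → y' ∈ S') :
    ∃ α : X → ℤ, (∀ x, α x ≠ 0 → ∃ x' ∈ S', p x' = x ∧ α x = α' x') ∧
      Cyc.pullFun p δ' δ 0 α = α' := by
  classical
  have hinj : ∀ x₁ ∈ S', ∀ x₂ ∈ S', p x₁ = p x₂ → x₁ = x₂ := by
    intro x₁ h₁ x₂ h₂ h
    have a := hgood1 x₁ h₁ x₂ (by rw [h])
    have b := hgood1 x₂ h₂ x₁ (by rw [h])
    exact (a.antisymm b).eq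
  let α : X → ℤ := fun x => if h : ∃ x' ∈ S', p x' = x then α' h.choose else 0
  have hα : ∀ x' ∈ S', α (p x') = α' x' := by
    intro x' hx'
    have h : ∃ x'' ∈ S', p x'' = p x' := ⟨x', hx', rfl⟩
    simp only [α]
    rw [dif_pos h]
    congr 1
    exact hinj _ h.choose_spec.1 _ hx' h.choose_spec.2
  have hα0 : ∀ x, (¬ ∃ x' ∈ S', p x' = x) → α x = 0 := by
    intro x h
    simp only [α]
    rw [dif_neg h]
  refine ⟨α, ?_, ?_⟩
  · intro x hx
    by_cases h : ∃ x' ∈ S', p x' = x
    · obtain ⟨x', hx', rfl⟩ := h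
      exact ⟨x', hx', rfl, hα x' hx'⟩
    · exact absurd (hα0 x h) hx
  · funext y'
    rw [pullFun_eq]
    by_cases h : ∃ x' ∈ S', p x' = p y'
    · obtain ⟨x', hx', hxy⟩ := h
      have hsp : x' ⤳ y' := hgood1 x' hx' y' (by rw [hxy])
      by_cases hyx : y' = x'
      · subst hyx
        rw [if_pos (hshift y' (fibGen_of_good p y' (hgood1 y' hx'))), hα y' hx',
          mult_eq_one p y' (hgood2 y' hx'), mul_one]
      · have hnot : ¬ (δ' y' = δ (p y') + 0) := by
          intro hd
          have hgen := (delta_le p δ δ' hδ' 0 hshift y').2 hd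
          exact hyx (hgen x' hxy hsp).symm
        rw [if_neg hnot]
        by_contra hne
        have hy'S : y' ∈ S' := hsupp y' (Ne.symm hne)
        exact hyx (hinj y' hy'S x' hx' hxy.symm)
    · rw [hα0 _ h, zero_mul, ite_self]
      by_contra hne
      exact h ⟨y', hsupp y' (Ne.symm hne), rfl⟩

end Part5

section Part6

open AlgebraicGeometry CategoryTheory TopologicalSpace CategoryTheory.Limits IsLocalRing
  Groth.Agent.Lib.R2H1.FlatPullRat Groth.Agent.Lib.R2H3.CycFlat

variable {I : Type u} [Category.{u} I] (D : I ⥤ Scheme.{u}) (c : Cone D) (hc : IsLimit c)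

include hc in
/-- a common stage at which finitely many points of the limit are "good". -/
theorem exists_good [IsCofiltered I] [∀ {i j} (f : i ⟶ j), IsAffineHom (D.map f)]
    [∀ i, CompactSpace (D.obj i)] [IsLocallyNoetherian c.pt] (S' : Finset c.pt) :
    ∃ i, ∀ x' ∈ S', Good1 D c i x' ∧ Good2 D c i x' := by
  obtain ⟨i₁, h₁⟩ := exists_common S' (fun x' i => Good1 D c i x')
    (fun x' i j f h => good1_mono D c f x' h) (fun x' _ => exists_good1 D c hc x')
  obtain ⟨i₂, h₂⟩ := exists_common S' (fun x' i => Good2 D c i x')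
    (fun x' i j f h => good2_mono D c f x' h) (fun x' _ => exists_good2 D c hc x')
  exact ⟨IsCofiltered.min i₁ i₂, fun x' hx' =>
    ⟨good1_mono D c (IsCofiltered.minToLeft i₁ i₂) x' (h₁ x' hx'),
      good2_mono D c (IsCofiltered.minToRight i₁ i₂) x' (h₂ x' hx')⟩⟩

/-- S6495. -/
theorem main6495 (I : Type u) [Preorder I] [IsDirected I (fun a b => a ≤ b)] [Nonempty I]
    (D : Iᵒᵖ ⥤ Scheme.{u}) (c : Limits.Cone D) (hc : Limits.IsLimit c)
    (haff : ∀ (i j : Iᵒᵖ) (f : i ⟶ j), IsAffineHom (D.map f))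
    (hqc : ∀ i, CompactSpace ↥(D.obj i)) (δ : (i : Iᵒᵖ) → ↥(D.obj i) → ℤ) (δ' : ↥c.pt → ℤ)
    (hset' : Cyc.IsSetup c.pt δ')
    (hshift' : ∀ (i : Iᵒᵖ) (x : ↥c.pt),
      (∀ y, c.π.app i y = c.π.app i x → y ⤳ x → y = x) → δ' x = δ i (c.π.app i x))
    (k : ℤ) (α' : AlgebraicCycle c.pt ℤ) (hα' : α' ∈ Cyc.Zk c.pt δ' k) :
    ∃ (i : Iᵒᵖ) (α : AlgebraicCycle (D.obj i) ℤ), α ∈ Cyc.Zk (D.obj i) (δ i) k ∧
      Cyc.pullFun (c.π.app i) δ' (δ i) 0 ⇑α = ⇑α' := by
  classical
  haveI : IsLocallyNoetherian c.pt := hset'.1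
  haveI : ∀ {i j : Iᵒᵖ} (f : i ⟶ j), IsAffineHom (D.map f) := fun f => haff _ _ f
  haveI : ∀ i, CompactSpace ↥(D.obj i) := hqc
  haveI : CompactSpace c.pt := Scheme.compactSpace_of_isLimit D c hc
  have hSfin : (Function.support ⇑α').Finite := by
    have := α'.locallyFiniteSupport.finite_inter_support_of_isCompact isCompact_univ
    rwa [Set.univ_inter] at this
  obtain ⟨i, hi⟩ := exists_good D c hc hSfin.toFinset
  have hsh : ∀ x' : c.pt, (∀ y, c.π.app i y = c.π.app i x' → y ⤳ x' → y = x') →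
      δ' x' = δ i (c.π.app i x') + 0 := fun x' h => by rw [add_zero]; exact hshift' i x' h
  obtain ⟨αf, hαf1, hαf2⟩ := exists_pullFun_eq (c.π.app i) δ' (δ i) hset'.2.2 hsh hSfin.toFinset
    (fun x' hx' => (hi x' hx').1) (fun x' hx' => (hi x' hx').2) ⇑α'
    (fun y' hy' => hSfin.mem_toFinset.mpr hy')
  have hfin : (Function.support αf).Finite := by
    refine ((hSfin.toFinset.finite_toSet).image (c.π.app i)).subset ?_
    intro x hx
    obtain ⟨x', hx', rfl, -⟩ := hαf1 x hx
    exact ⟨x', hx', rfl⟩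
  let α : AlgebraicCycle (D.obj i) ℤ :=
    { toFun := αf
      supportWithinDomain' := Set.subset_univ _
      supportLocallyFiniteWithinDomain' := fun z _ =>
        ⟨Set.univ, Filter.univ_mem, by rw [Set.univ_inter]; exact hfin⟩ }
  refine ⟨i, α, ?_, hαf2⟩
  intro x hx
  by_contra hne
  obtain ⟨x', hx', rfl, he⟩ := hαf1 x hne
  have h1 : α' x' ≠ 0 := hSfin.mem_toFinset.mp hx'
  have h2 : δ' x' = k := by
    by_contra h
    exact h1 (hα' x' h)
  have h3 := hshift' i x' (fibGen_of_good (c.π.app i) x' (hi x' hx').1)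
  exact hx (by rw [← h3, h2])

end Part6

end Groth.Agent.Lib.R2H1.CycLimB
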