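/-
Gysin maps commute with flat pullback (helper1, round 2): exists_unit_of_span_eq, psi_gysin_eq_unit (off the pulled back divisor the comparison function of the Gysin choices is a unit of the local ring of a specialization on the divisor), stalkSpecializes_of_eq_mem_maximalIdeal, mult_comp_closedImmersion_right, mult_snd (fibre multiplicity of the base change along a closed immersion), pullFun_snd, pullFun_restrict_support_locallyFinite, main1933 (S1933).
-/
import Mathlib
import Groth.Prelude.Def_Cyc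
import Groth.Prelude.Def_C1
import Groth.Agent.Lib.R2H1C1Rel
import Groth.Agent.Lib.R2H1C1Tensor
import Groth.Agent.Lib.R2H1Gysin
import Groth.Agent.Lib.R2H1FlatPullRat
import Groth.Agent.Lib.Helper23SecTw6
import Groth.Agent.Lib.R2H1PullInv3
import Groth.Agent.Lib.R2H1CIPush
import Groth.Agent.Lib.R2H1FlatPullC1
import Groth.Agent.Lib.R2H1RelCartier
import Groth.Agent.Lib.R2H1PullbackKer
import Groth.Agent.Lib.R2H3CycFlatRel

set_option autoImplicit false
set_option linter.style.haveILetI false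
set_option linter.unusedSectionVars false
universe u v

namespace Groth.Agent.Lib.R2H1.GysinFlat

section Part1

open AlgebraicGeometry CategoryTheory Limits TopologicalSpace IsLocalRing CycAlg Opposite
  Groth.Agent.Lib.R2H1.C1Comm Groth.Agent.Lib.R2H1.C1Rel Groth.Agent.Lib.R2H1.C1Tensor
  Groth.Agent.Lib.R2H1.RatEquivOpen
  Groth.Agent.Lib.R2H1.RatEquivClosed Groth.Agent.Lib.R2H1.LocQuot Groth.Agent.Lib.R2H1.Gysin
  Groth.Agent.Lib.Helper23.SecTw Groth.Agent.Lib.R2H1.FlatPullRat
  Groth.Agent.Lib.R2H1.PullInv Groth.Agent.Lib.R2H1.PullInv2 Groth.Agent.Lib.R2H1.PullInv3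
  Groth.Agent.Lib.R2H1.FlatPullC1 Groth.Agent.Lib.R2H1.RelCartier
  Groth.Agent.Lib.R2H1.PullbackKer

/-- in a local ring, generators of the same principal ideal differ by a unit. -/
theorem exists_unit_of_span_eq {A : Type*} [CommRing A] [IsLocalRing A] {x y : A}
    (h : Ideal.span {x} = Ideal.span {y}) : ∃ u : Aˣ, x = y * u := by
  have hx : x ∈ Ideal.span {y} := h ▸ Ideal.mem_span_singleton_self x
  have hy : y ∈ Ideal.span {x} := h.symm ▸ Ideal.mem_span_singleton_self y
  obtain ⟨c, hc⟩ := Ideal.mem_span_singleton'.mp hx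
  obtain ⟨c', hc'⟩ := Ideal.mem_span_singleton'.mp hy
  by_cases hu : IsUnit c
  · exact ⟨hu.unit, by rw [IsUnit.unit_spec, ← hc, mul_comm]⟩
  · have h1 : IsUnit (1 - c * c') := by
      have hm : c * c' ∈ maximalIdeal A :=
        Ideal.mul_mem_right _ _ ((mem_maximalIdeal c).mpr hu)
      by_contra hnu
      have h2 : 1 - c * c' ∈ maximalIdeal A := (mem_maximalIdeal _).mpr hnu
      have h3 : (1 : A) ∈ maximalIdeal A := by
        have := Ideal.add_mem _ h2 hm
        rwa [sub_add_cancel] at this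
      exact (maximalIdeal.isMaximal A).ne_top ((Ideal.eq_top_iff_one _).mpr h3)
    have h4 : x * (1 - c * c') = 0 := by
      rw [mul_sub, mul_one, sub_eq_zero]
      calc x = c * y := hc.symm
        _ = c * (c' * x) := by rw [hc']
        _ = x * (c * c') := by ring
    have hx0 : x = 0 := (IsUnit.mul_left_eq_zero h1).mp h4
    have hy0 : y = 0 := by rw [← hc', hx0, mul_zero]
    exact ⟨1, by rw [hx0, hy0, zero_mul]⟩

variable {X X' D : Scheme.{u}}

/-- at a point not on the pulled back divisor, the comparison function of the Gysin choices is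
the image of a unit of the local ring of a specialization on the divisor. -/
theorem psi_gysin_eq_unit (f : X' ⟶ X) (i : D ⟶ X) [IsClosedImmersion i]
    (L : X.Modules) [L.IsQuasicoherent] (WL : X → X.Opens)
    (eL : ∀ z, Γ(L, WL z)) (hz : ∀ z, z ∈ WL z) (hgen : ∀ z, IsGen L (WL z) (eL z))
    (s : L.presheaf.obj (Opposite.op ⊤)) (hD : Cyc.IsZeroSchemeOf i L s)
    (s' : ((Scheme.Modules.pullback f).obj L).presheaf.obj (Opposite.op ⊤))
    (hD' : Cyc.IsZeroSchemeOf (pullback.fst f i) ((Scheme.Modules.pullback f).obj L) s')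
    (w : (ξ : X) → Cyc.secFibre L ξ)
    (w' : (ξ : X') → Cyc.secFibre ((Scheme.Modules.pullback f).obj L) ξ)
    (z : ↥(pullback f i)) (ξ' : X') (h : ξ' ⤳ pullback.fst f i z)
    (hξ' : ξ' ∉ Set.range (pullback.fst f i)) :
    ∃ u : (X'.presheaf.stalk (pullback.fst f i z))ˣ,
      psi f L WL eL hz hgen ξ' (Cyc.gysinChoice L s w (f ξ'))
        (Cyc.gysinChoice ((Scheme.Modules.pullback f).obj L) s' w' ξ') =
      Cyc.specMap (pullback.fst f i z) ξ' h (u : X'.presheaf.stalk (pullback.fst f i z)) := by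
  set x' := pullback.fst f i z with hx'def
  set d := pullback.snd f i z with hddef
  have hcond : f x' = i d := pullback_cond_apply f i z
  set G := genOfIsGen L (WL (i d)) (eL (i d)) (hgen (i d)) with hGdef
  set G' := pullGen f L (WL (i d)) (eL (i d)) (hgen (i d)) with hG'def
  have hidG : i d ∈ G.W := hz (i d)
  have hx'G' : x' ∈ G'.W := by
    change f x' ∈ WL (i d)
    rw [hcond]
    exact hz (i d)
  obtain ⟨a_d, ha_d0⟩ := (G.g_bij (i d) hidG).2 ((L.presheaf.germ ⊤ (i d) trivial) s)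
  have ha_d : (L.presheaf.germ ⊤ (i d) trivial) s = a_d • G.g (i d) hidG := ha_d0.symm
  obtain ⟨a', ha'0⟩ := (G'.g_bij x' hx'G').2
    ((((Scheme.Modules.pullback f).obj L).presheaf.germ ⊤ x' trivial) s')
  have ha' : (((Scheme.Modules.pullback f).obj L).presheaf.germ ⊤ x' trivial) s' =
      a' • G'.g x' hx'G' := ha'0.symm
  have hker_d := ker_stalkMap_eq_span i s hD d G hidG a_d ha_d
  have hker' := ker_stalkMap_eq_span (pullback.fst f i) s' hD' z G' hx'G' a' ha'
  have hC := ker_fst_stalkMap f i z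
  rw [hker', hker_d, Ideal.map_span, Set.image_singleton] at hC
  obtain ⟨u, hu⟩ := exists_unit_of_span_eq hC
  -- the points
  have hspf : f ξ' ⤳ f x' := f.base.hom.map_specializes h
  have h_d : f ξ' ⤳ i d := hcond ▸ hspf
  have hfξ' : f ξ' ∉ Set.range i := by
    intro hmem
    apply hξ'
    rw [Scheme.Pullback.range_fst]
    exact hmem
  have hne_d : Cyc.specMap (i d) (f ξ') h_d a_d ≠ 0 := fun h0 =>
    hfξ' (mem_range_of_specMap_eq_zero i s hD G (i d) (f ξ') h_d hidG a_d ha_d h0)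
  have hne' : Cyc.specMap x' ξ' h a' ≠ 0 := fun h0 =>
    hξ' (mem_range_of_specMap_eq_zero (pullback.fst f i) s' hD' G' x' ξ' h hx'G' a' ha' h0)
  have hσ := fib_gysinChoice_of_ne s G w (i d) (f ξ') h_d hidG a_d ha_d hne_d
  have hτ := fib_gysinChoice_of_ne s' G' w' x' ξ' h hx'G' a' ha' hne'
  have hm : f ξ' ∈ WL (i d) := h_d.mem_open (WL (i d)).isOpen (hz (i d))
  have hτne : Cyc.gysinChoice ((Scheme.Modules.pullback f).obj L) s' w' ξ' ≠ 0 := by
    intro h0
    apply hne'
    rw [← hτ, h0]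
    have h2 := G'.fib_smul ξ' (h.mem_open G'.W.isOpen hx'G') 0
    rw [zero_smul, map_zero] at h2
    exact h2
  have hspec := psi_spec f L WL eL hz hgen (i d) ξ' hm (Cyc.gysinChoice L s w (f ξ'))
    (Cyc.gysinChoice ((Scheme.Modules.pullback f).obj L) s' w' ξ') hτne
  -- the left hand side
  have hθ : (thetaC f i z).hom a_d = (f.stalkMap x').hom
      ((X.presheaf.stalkSpecializes (specializes_of_eq hcond)).hom a_d) := rfl
  have hL : (f.residueFieldMap ξ').hom (Cyc.specMap (i d) (f ξ') h_d a_d) =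
      Cyc.specMap x' ξ' h ((thetaC f i z).hom a_d) := by
    rw [hθ, specMap_comp_stalkMap f x' ξ' h]
    congr 1
    exact (specMap_comp (i d) (f x') (f ξ') (specializes_of_eq hcond) hspf a_d).symm
  have hσ' : G.fib (f ξ') hm (Cyc.gysinChoice L s w (f ξ')) =
      Cyc.specMap (i d) (f ξ') h_d a_d := hσ
  have hτ' : G'.fib ξ' hm (Cyc.gysinChoice ((Scheme.Modules.pullback f).obj L) s' w' ξ') =
      Cyc.specMap x' ξ' h a' := hτ
  rw [hσ', hτ', hL, hu, map_mul] at hspec
  have hθne : Cyc.specMap x' ξ' h ((thetaC f i z).hom a_d) ≠ 0 := by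
    intro h0
    apply hne'
    rw [hu, map_mul, h0, zero_mul]
  have hune : Cyc.specMap x' ξ' h (u : X'.presheaf.stalk x') ≠ 0 := by
    intro h0
    apply hne'
    rw [hu, map_mul, h0, mul_zero]
  refine ⟨u⁻¹, ?_⟩
  have h1 : Cyc.specMap x' ξ' h ((u⁻¹ : (X'.presheaf.stalk x')ˣ) : X'.presheaf.stalk x') *
      Cyc.specMap x' ξ' h (u : X'.presheaf.stalk x') = 1 := by
    rw [← map_mul, Units.inv_mul, map_one]
  have h2 : psi f L WL eL hz hgen ξ' (Cyc.gysinChoice L s w (f ξ'))
      (Cyc.gysinChoice ((Scheme.Modules.pullback f).obj L) s' w' ξ') *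
      Cyc.specMap x' ξ' h (u : X'.presheaf.stalk x') = 1 := by
    have h3 : Cyc.specMap x' ξ' h ((thetaC f i z).hom a_d) * 1 =
        Cyc.specMap x' ξ' h ((thetaC f i z).hom a_d) *
          (psi f L WL eL hz hgen ξ' (Cyc.gysinChoice L s w (f ξ'))
            (Cyc.gysinChoice ((Scheme.Modules.pullback f).obj L) s' w' ξ') *
            Cyc.specMap x' ξ' h (u : X'.presheaf.stalk x')) := by
      rw [mul_one]
      conv_lhs => rw [hspec]
      ring
    exact (mul_left_cancel₀ hθne h3).symm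
  exact mul_right_cancel₀ hune (h2.trans h1.symm)

end Part1

section Part2

open AlgebraicGeometry CategoryTheory Limits TopologicalSpace IsLocalRing CycAlg Opposite
  Groth.Agent.Lib.R2H1.C1Comm Groth.Agent.Lib.R2H1.C1Rel Groth.Agent.Lib.R2H1.C1Tensor
  Groth.Agent.Lib.R2H1.RatEquivOpen
  Groth.Agent.Lib.R2H1.RatEquivClosed Groth.Agent.Lib.R2H1.LocQuot Groth.Agent.Lib.R2H1.Gysin
  Groth.Agent.Lib.Helper23.SecTw Groth.Agent.Lib.R2H1.FlatPullRat
  Groth.Agent.Lib.R2H1.PullInv Groth.Agent.Lib.R2H1.PullInv2 Groth.Agent.Lib.R2H1.PullInv3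
  Groth.Agent.Lib.R2H1.FlatPullC1 Groth.Agent.Lib.R2H1.RelCartier
  Groth.Agent.Lib.R2H1.PullbackKer

variable {X X' D Z : Scheme.{u}}

theorem stalkSpecializes_of_eq_mem_maximalIdeal {x y : X} (e : x = y) (b : X.presheaf.stalk y)
    (hb : b ∈ maximalIdeal (X.presheaf.stalk y)) :
    (X.presheaf.stalkSpecializes (specializes_of_eq e)).hom b ∈
      maximalIdeal (X.presheaf.stalk x) := by
  subst e
  rw [TopCat.Presheaf.stalkSpecializes_refl]
  exact hb

/-- the fibre multiplicity does not change under composition with a closed immersion of the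
target. -/
theorem mult_comp_closedImmersion_right (g : Z ⟶ D) (i : D ⟶ X) [IsClosedImmersion i] (z : Z) :
    mult (g ≫ i) z = mult g z := by
  unfold mult
  have e : ((g ≫ i).stalkMap z).hom = (g.stalkMap z).hom.comp (i.stalkMap (g z)).hom := by
    rw [Scheme.Hom.stalkMap_comp g i z]
    rfl
  have h1 : Ideal.map (g.stalkMap z).hom (maximalIdeal (D.presheaf.stalk (g z))) =
      Ideal.map ((g ≫ i).stalkMap z).hom
        (maximalIdeal (X.presheaf.stalk ((g ≫ i) z))) := by
    rw [← map_maximalIdeal_of_surjective (i.stalkMap (g z)).hom (i.stalkMap_surjective (g z)),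
      Ideal.map_map, ← e]
    rfl
  rw [h1]

/-- the fibre multiplicity of the base change of `f` along a closed immersion. -/
theorem mult_snd (f : X' ⟶ X) (i : D ⟶ X) [IsClosedImmersion i] (z : ↥(pullback f i)) :
    mult (pullback.snd f i) z = mult f (pullback.fst f i z) := by
  have h1 : mult (pullback.fst f i ≫ f) z = mult f (pullback.fst f i z) := by
    rw [mult_comp_closedImmersion (pullback.fst f i) f z]
    unfold mult
    have hle : RingHom.ker ((pullback.fst f i).stalkMap z).hom ≤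
        Ideal.map (f.stalkMap (pullback.fst f i z)).hom
          (maximalIdeal (X.presheaf.stalk (f (pullback.fst f i z)))) := by
      rw [ker_fst_stalkMap f i z, Ideal.map_le_iff_le_comap]
      intro b hb
      rw [Ideal.mem_comap]
      have hbm : b ∈ maximalIdeal (X.presheaf.stalk (i (pullback.snd f i z))) := by
        rw [mem_maximalIdeal, mem_nonunits_iff]
        intro hu
        have h2 := hu.map (i.stalkMap (pullback.snd f i z)).hom
        rw [RingHom.mem_ker.mp hb] at h2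
        exact not_isUnit_zero h2
      exact Ideal.mem_map_of_mem _
        (stalkSpecializes_of_eq_mem_maximalIdeal (pullback_cond_apply f i z) b hbm)
    rw [sup_of_le_left hle]
  have h2 := mult_comp_closedImmersion_right (pullback.snd f i) i z
  rw [← h1, ← h2, pullback.condition]

/-- the flat pullback of coefficient functions along the base change of `f`. -/
theorem pullFun_snd (f : X' ⟶ X) (i : D ⟶ X) [IsClosedImmersion i] (δ' : X' → ℤ) (δ : X → ℤ)
    (c : ℤ) (γ : X → ℤ) (z : ↥(pullback f i)) :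
    Cyc.pullFun (pullback.snd f i) (fun z => δ' (pullback.fst f i z)) (fun d => δ (i d)) c
      (fun d => γ (i d)) z = Cyc.pullFun f δ' δ c γ (pullback.fst f i z) := by
  rw [pullFun_eq, pullFun_eq, mult_snd, pullback_cond_apply]

end Part2

section Part3

open AlgebraicGeometry CategoryTheory Limits TopologicalSpace IsLocalRing CycAlg Opposite
  Groth.Agent.Lib.R2H1.C1Comm Groth.Agent.Lib.R2H1.C1Rel Groth.Agent.Lib.R2H1.C1Tensor
  Groth.Agent.Lib.R2H1.RatEquivOpen
  Groth.Agent.Lib.R2H1.RatEquivClosed Groth.Agent.Lib.R2H1.LocQuot Groth.Agent.Lib.R2H1.Gysin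
  Groth.Agent.Lib.Helper23.SecTw Groth.Agent.Lib.R2H1.FlatPullRat
  Groth.Agent.Lib.R2H1.PullInv Groth.Agent.Lib.R2H1.PullInv2 Groth.Agent.Lib.R2H1.PullInv3
  Groth.Agent.Lib.R2H1.FlatPullC1 Groth.Agent.Lib.R2H1.RelCartier
  Groth.Agent.Lib.R2H1.PullbackKer Groth.Agent.Lib.R2H1.CIPush

variable {X X' D : Scheme.{u}}

/-- local finiteness of the support of a flat pullback restricted to a closed subscheme. -/
theorem pullFun_restrict_support_locallyFinite {δ : X → ℤ} {δ' : X' → ℤ} (hX' : Cyc.IsSetup X' δ')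
    (p : X' ⟶ X) (c : ℤ)
    (hc : ∀ x' : X', (∀ y, p y = p x' → y ⤳ x' → y = x') → δ' x' = δ (p x') + c)
    (α : AlgebraicCycle X ℤ) {Z : Scheme.{u}} (j : Z ⟶ X') [IsClosedImmersion j] (z : Z) :
    ∃ U : Set Z, IsOpen U ∧ z ∈ U ∧
      {ζ : {ζ : Z // Cyc.pullFun p δ' δ c ⇑α (j ζ) ≠ 0} |
        (closure {ζ.1} ∩ U).Nonempty}.Finite := by
  obtain ⟨U, hU, hxU, hfin⟩ := pullFun_support_locallyFinite hX' p c hc α (j z)
  refine ⟨j ⁻¹' U, hU.preimage j.continuous, hxU, ?_⟩
  have hinj : Function.Injective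
      (fun ζ : {ζ : Z // Cyc.pullFun p δ' δ c ⇑α (j ζ) ≠ 0} =>
        (⟨j ζ.1, ζ.2⟩ : {ζ : X' // Cyc.pullFun p δ' δ c ⇑α ζ ≠ 0})) := by
    intro a b hab
    exact Subtype.ext (j.isClosedEmbedding.injective (congrArg Subtype.val hab))
  refine (hfin.preimage hinj.injOn).subset ?_
  rintro ζ ⟨y, hy, hyU⟩
  have hsp : ζ.1 ⤳ y := specializes_iff_mem_closure.mpr hy
  exact ⟨j y, specializes_iff_mem_closure.mp (j.base.hom.map_specializes hsp), hyU⟩

/-- S1933: Gysin maps commute with flat pullback. -/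
theorem main1933 (X X' D : Scheme.{u}) (δ : X → ℤ) (δ' : X' → ℤ) (hX : Cyc.IsSetup X δ)
    (hX' : Cyc.IsSetup X' δ') (f : X' ⟶ X) [Flat f] [LocallyOfFiniteType f] (r : ℕ)
    (hr : Cyc.HasRelDim f r) (hδ : Cyc.DeltaCompat f δ' δ) (L : X.Modules)
    (hL : PicF.IsInvertible L) (s : L.presheaf.obj (Opposite.op ⊤)) (i : D ⟶ X)
    [IsClosedImmersion i] (hD : Cyc.IsZeroSchemeOf i L s)
    (s' : ((Scheme.Modules.pullback f).obj L).presheaf.obj (Opposite.op ⊤))
    (hD' : Cyc.IsZeroSchemeOf (pullback.fst f i) ((Scheme.Modules.pullback f).obj L) s') (k : ℤ)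
    (α : AlgebraicCycle X ℤ) (hα : α ∈ Cyc.Zk X δ (k + 1)) (w : (ξ : X) → Cyc.secFibre L ξ)
    (hw : ∀ ξ, w ξ ≠ 0)
    (w' : (ξ : X') → Cyc.secFibre ((Scheme.Modules.pullback f).obj L) ξ) (hw' : ∀ ξ, w' ξ ≠ 0)
    (ζ₁ ζ₂ : AlgebraicCycle (pullback f i) ℤ)
    (h₁ : ∀ z, ζ₁ z = Cyc.c1CapFun δ' ((Scheme.Modules.pullback f).obj L)
      (Cyc.pullFun f δ' δ r ⇑α) (Cyc.gysinChoice ((Scheme.Modules.pullback f).obj L) s' w')
      (pullback.fst f i z))
    (h₂ : ⇑ζ₂ = Cyc.pullFun (pullback.snd f i) (fun z => δ' (pullback.fst f i z))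
      (fun d => δ (i d)) r (fun d => Cyc.c1CapFun δ L ⇑α (Cyc.gysinChoice L s w) (i d))) :
    Cyc.RatEquiv (fun z => δ' (pullback.fst f i z)) (k + r) ζ₁ ζ₂ := by
  classical
  haveI : L.IsQuasicoherent := isQuasicoherent_of_isInvertible L hL
  have hDS := isSetup_of_closedImmersion (pullback.fst f i) hX'
  choose WL eL hz hgen using Groth.Agent.Lib.Helper23.SecTw.exists_gen L hL
  have hgc := gysinChoice_ne_zero s w hw
  have hgc' := gysinChoice_ne_zero s' w' hw'
  have hc : ∀ x' : X', (∀ y, f y = f x' → y ⤳ x' → y = x') → δ' x' = δ (f x') + (r : ℤ) :=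
    fun a ha => Groth.Agent.Lib.R2H3.CycFlatRel.shift_of_hasRelDim f r δ' δ hr hδ a ha
  have hΨ : ∀ ξ' : X', psi f L WL eL hz hgen ξ' (Cyc.gysinChoice L s w (f ξ'))
      (Cyc.gysinChoice ((Scheme.Modules.pullback f).obj L) s' w' ξ') ≠ 0 :=
    fun ξ' => psi_ne_zero f L WL eL hz hgen ξ' _ _ (hgc _) (hgc' _)
  -- the family on the fibre product
  have hβdim : ∀ z' : ↥(pullback f i),
      Cyc.pullFun f δ' δ r ⇑α (pullback.fst f i z') ≠ 0 →
        δ' (pullback.fst f i z') = k + r + 1 := by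
    intro z' hne
    rw [pullFun_eq] at hne
    by_cases hcond : δ' (pullback.fst f i z') = δ (f (pullback.fst f i z')) + (r : ℤ)
    · rw [if_pos hcond] at hne
      have hαne : α (f (pullback.fst f i z')) ≠ 0 := fun h0 => hne (by rw [h0, zero_mul])
      have hdim : δ (f (pullback.fst f i z')) = k + 1 := by
        by_contra hne'
        exact hαne (hα _ hne')
      rw [hcond, hdim]
      ring
    · rw [if_neg hcond] at hne
      exact absurd rfl hne
  have hφne : ∀ z' : ↥(pullback f i), ((pullback.fst f i).residueFieldMap z').hom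
      (psi f L WL eL hz hgen (pullback.fst f i z')
        (Cyc.gysinChoice L s w (f (pullback.fst f i z')))
        (Cyc.gysinChoice ((Scheme.Modules.pullback f).obj L) s' w' (pullback.fst f i z')))⁻¹ ≠ 0 :=
    fun z' => (map_ne_zero _).mpr (inv_ne_zero (hΨ _))
  obtain ⟨J, ζ, g, hζ, hg, hlf, hsum⟩ := family_of_support (fun z => δ' (pullback.fst f i z)) hDS
    (k + r) (fun z' => Cyc.pullFun f δ' δ r ⇑α (pullback.fst f i z')) hβdim
    (fun z => pullFun_restrict_support_locallyFinite hX' f r hc α (pullback.fst f i) z)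
    (fun z' => ((pullback.fst f i).residueFieldMap z').hom
      (psi f L WL eL hz hgen (pullback.fst f i z')
        (Cyc.gysinChoice L s w (f (pullback.fst f i z')))
        (Cyc.gysinChoice ((Scheme.Modules.pullback f).obj L) s' w' (pullback.fst f i z')))⁻¹)
    hφne
  refine ⟨J, ζ, g, hζ, hg, hlf, fun z => ?_⟩
  rw [← hsum z]
  have hsub : (ζ₁ - ζ₂) z = ζ₁ z - ζ₂ z := by
    rw [Function.locallyFinsuppWithin.coe_sub]
    rfl
  rw [hsub, h₁ z, h₂,
    pullFun_snd f i δ' δ r (Cyc.c1CapFun δ L ⇑α (Cyc.gysinChoice L s w)) z]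
  have hpc := pull_c1_sub hX hX' f (r : ℤ) hc L WL eL hz hgen α (Cyc.gysinChoice L s w) hgc
    (Cyc.gysinChoice ((Scheme.Modules.pullback f).obj L) s' w') hgc' (pullback.fst f i z)
  rw [← neg_sub, hpc, ← finsum_neg_distrib]
  rw [finsum_comp_of_injective (pullback.fst f i)
    (pullback.fst f i).isClosedEmbedding.injective]
  · refine finsum_congr (fun z' => ?_)
    rw [divFun_preimmersion (pullback.fst f i) δ' z' z, divFun_inv, mul_neg]
  · intro ξ' hne
    by_contra hnot
    apply hne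
    rw [neg_eq_zero]
    by_cases hcond : ξ' ⤳ pullback.fst f i z ∧ δ' (pullback.fst f i z) + 1 = δ' ξ'
    · obtain ⟨u, hu⟩ := psi_gysin_eq_unit f i L WL eL hz hgen s hD s' hD' w w' z ξ' hcond.1 hnot
      unfold Cyc.divFun
      rw [dif_pos hcond, hu]
      have := ordAt_unit (pullback.fst f i z) ξ' hcond.1 (u : X'.presheaf.stalk _) u.isUnit
      have h0 : Cyc.ordAt (pullback.fst f i z) ξ' hcond.1
          (Cyc.specMap (pullback.fst f i z) ξ' hcond.1 (u : X'.presheaf.stalk _)) = 0 := this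
      rw [h0, mul_zero]
    · unfold Cyc.divFun
      rw [dif_neg hcond, mul_zero]

end Part3

end Groth.Agent.Lib.R2H1.GysinFlat
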