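/-
Chow groups under a finite purely inseparable base field extension (S15556; helper1, round 2).
Reusable: map_apply_inj (pushforward at the image of a point along an injective morphism), mult, pullFun_eq,
mult_mul_mapCoeff (finite flat injective of constant rank d preserving delta: multiplicity x residue degree = d, from S1868),
cl_nsmul, main15556.
-/
import Mathlib
import Groth.Prelude
import Groth.Agent.S1868
import Groth.Agent.Lib.R2H1PerfCyc
import Groth.Agent.Lib.R2H1ChowDesc
import Groth.Agent.Lib.R2H1RatEquivClosed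

set_option autoImplicit false
set_option linter.style.haveILetI false
set_option linter.unusedSectionVars false
universe u v

namespace Groth.Agent.Lib.R2H1.PurInsepChow

section Part1

open CategoryTheory AlgebraicGeometry CategoryTheory.Limits TopologicalSpace
open Groth.Agent.Lib.R2H1.PerfCyc Groth.Agent.Lib.R2H1.ChowDesc Groth.Agent.Lib.R2H1.RatEquivClosed

variable {X X' : Scheme.{u}}

/-- pushforward at the image of a point along an injective quasi-compact morphism. -/
theorem map_apply_inj (f : X' ⟶ X) [QuasiCompact f] (hinj : Function.Injective f)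
    (wx : X' → ℤ) (wy : X → ℤ) (c : AlgebraicCycle X' ℤ) (x' : X') :
    AlgebraicCycle.map f wx wy c (f x') = c x' * (AlgebraicCycle.mapCoeff f wx wy x' : ℤ) := by
  rw [map_apply]
  have hpre : (f ⁻¹' {f x'} : Set X') = {x'} := by
    ext y'
    simp only [Set.mem_preimage, Set.mem_singleton_iff]
    exact ⟨fun h => hinj h, fun h => h ▸ rfl⟩
  rw [hpre, finsum_mem_singleton]

/-- the fibre multiplicity appearing in `Cyc.pullFun`. -/
noncomputable def mult (f : X' ⟶ X) (x' : X') : ℕ :=
  (Module.length (X'.presheaf.stalk x')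
    (X'.presheaf.stalk x' ⧸ Ideal.map (f.stalkMap x').hom
      (IsLocalRing.maximalIdeal (X.presheaf.stalk (f x'))))).toNat

theorem pullFun_eq (f : X' ⟶ X) (δ' : X' → ℤ) (δ : X → ℤ) (hδeq : ∀ x', δ' x' = δ (f x'))
    (α : X → ℤ) (x' : X') : Cyc.pullFun f δ' δ 0 α x' = α (f x') * (mult f x' : ℤ) := by
  unfold Cyc.pullFun mult
  rw [if_pos (by rw [hδeq, add_zero])]

/-- for a finite flat injective morphism of constant rank `d` preserving the dimension function,
multiplicity times residue degree is `d` at every point. -/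
theorem mult_mul_mapCoeff {δ : X → ℤ} {δ' : X' → ℤ} (hX : Cyc.IsSetup X δ)
    (hX' : Cyc.IsSetup X' δ') (f : X' ⟶ X) [IsFinite f] [Flat f] (d : ℕ)
    (hd : ∀ y : X, f.finrank y = d) (hδ : Cyc.DeltaCompat f δ' δ) (hinj : Function.Injective f)
    (hδeq : ∀ x', δ' x' = δ (f x')) (x' : X') :
    (mult f x' : ℤ) * (AlgebraicCycle.mapCoeff f δ' δ x' : ℤ) = d := by
  classical
  set x := f x' with hx
  let α : AlgebraicCycle X ℤ := Function.locallyFinsuppWithin.single x 1
  let α' : AlgebraicCycle X' ℤ := Function.locallyFinsuppWithin.single x' (mult f x' : ℤ)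
  have hα : α ∈ Cyc.Zk X δ (δ x) := by
    intro y hy
    change Function.locallyFinsuppWithin.single x (1 : ℤ) y = 0
    rw [Function.locallyFinsuppWithin.single_apply, if_neg]
    rintro rfl
    exact hy rfl
  have hα' : ⇑α' = Cyc.pullFun f δ' δ 0 ⇑α := by
    funext y'
    rw [pullFun_eq f δ' δ hδeq]
    change Function.locallyFinsuppWithin.single x' (mult f x' : ℤ) y' =
      Function.locallyFinsuppWithin.single x (1 : ℤ) (f y') * _
    rw [Function.locallyFinsuppWithin.single_apply, Function.locallyFinsuppWithin.single_apply]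
    by_cases hy : y' = x'
    · rw [if_pos hy, if_pos (by rw [hy]), one_mul, hy]
    · rw [if_neg hy, if_neg (fun h => hy (hinj h)), zero_mul]
  have h := (Groth.Agent.S1868.result X' X δ' δ hX' hX f d hd hδ (δ x)).2 α hα α' hα'
  have h2 : AlgebraicCycle.map f δ' δ α' x = (d • α) x := by rw [h]
  rw [hx, map_apply_inj f hinj] at h2
  have e1 : α' x' = (mult f x' : ℤ) := by
    change Function.locallyFinsuppWithin.single x' (mult f x' : ℤ) x' = _
    rw [Function.locallyFinsuppWithin.single_apply, if_pos rfl]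
  have e2 : (d • α) (f x') = d := by
    rw [Function.locallyFinsuppWithin.coe_nsmul, Pi.smul_apply]
    change d • Function.locallyFinsuppWithin.single x (1 : ℤ) (f x') = d
    rw [Function.locallyFinsuppWithin.single_apply, if_pos hx.symm]
    simp
  rw [e1, e2] at h2
  exact h2

end Part1

section Part2

open CategoryTheory AlgebraicGeometry CategoryTheory.Limits TopologicalSpace
open Groth.Agent.Lib.R2H1.PerfCyc Groth.Agent.Lib.R2H1.ChowDesc Groth.Agent.Lib.R2H1.RatEquivClosed

theorem cl_nsmul {X : Scheme.{u}} {δ : X → ℤ} {k : ℤ} (n : ℕ) (α : AlgebraicCycle X ℤ)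
    (hα : α ∈ Cyc.Zk X δ k) (hnα : n • α ∈ Cyc.Zk X δ k) :
    ChowOps.cl (n • α) hnα = n • ChowOps.cl α hα := by
  unfold ChowOps.cl
  rw [← map_nsmul]
  rfl

theorem main15556 (k E : Type u) [Field k] [Field E] [Algebra k E] (p : ℕ) [Fact p.Prime]
    [CharP k p] [Module.Finite k E] [IsPurelyInseparable k E] (X X' : Scheme.{u})
    (g : X ⟶ Spec (CommRingCat.of k)) (f : X' ⟶ X) (g' : X' ⟶ Spec (CommRingCat.of E))
    (hsq : IsPullback f g' g (Spec.map (CommRingCat.ofHom (algebraMap k E))))
    (δ : X → ℤ) (δ' : X' → ℤ) (hX : Cyc.IsSetup X δ) (hX' : Cyc.IsSetup X' δ')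
    (hδ : Cyc.DeltaCompat f δ' δ) (i : ℤ) :
    (∀ (β : AlgebraicCycle X' ℤ) (hβ : β ∈ Cyc.Zk X' δ' i),
      ∃ (α : AlgebraicCycle X ℤ) (hα : α ∈ Cyc.Zk X δ i) (α' : AlgebraicCycle X' ℤ)
        (hα' : α' ∈ Cyc.Zk X' δ' i) (s : ℕ),
        ⇑α' = Cyc.pullFun f δ' δ 0 ⇑α ∧ ChowOps.cl α' hα' = p ^ s • ChowOps.cl β hβ) ∧
    (∀ (α : AlgebraicCycle X ℤ) (hα : α ∈ Cyc.Zk X δ i) (α' : AlgebraicCycle X' ℤ)
      (hα' : α' ∈ Cyc.Zk X' δ' i), ⇑α' = Cyc.pullFun f δ' δ 0 ⇑α → ChowOps.cl α' hα' = 0 →
      ∃ s : ℕ, p ^ s • ChowOps.cl α hα = 0) := by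
  classical
  haveI : ExpChar k p := ExpChar.prime Fact.out
  set S := Spec.map (CommRingCat.ofHom (algebraMap k E)) with hS
  haveI hSfin : IsFinite S :=
    (IsFinite.SpecMap_iff _).mpr (RingHom.finite_algebraMap.mpr inferInstance)
  haveI hSflat : Flat S :=
    Flat.SpecMap_iff.mpr (RingHom.flat_algebraMap_iff.mpr inferInstance)
  haveI hSui : UniversallyInjective S :=
    universallyInjective_specMap (algebraMap k E) (by
      convert (inferInstance : IsPurelyInseparable k E)
      exact Algebra.algebra_ext _ _ (fun _ => rfl))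
  haveI : IsFinite f := MorphismProperty.of_isPullback (P := @IsFinite) hsq.flip hSfin
  haveI : Flat f := MorphismProperty.of_isPullback (P := @Flat) hsq.flip hSflat
  haveI : UniversallyInjective f :=
    MorphismProperty.of_isPullback (P := @UniversallyInjective) hsq.flip hSui
  have hinj : Function.Injective f := f.injective
  obtain ⟨s, hs⟩ := IsPurelyInseparable.finrank_eq_pow (F := k) E p
  set d := Module.finrank k E with hd
  have hfr : ∀ y : X, f.finrank y = d := by
    intro y
    rw [Scheme.Hom.finrank_of_isPullback g' f S g hsq.flip y,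
      Scheme.Hom.finrank_SpecMap_algebraMap k E (g y), Module.rankAtStalk_eq_finrank_of_free]
    rfl
  have hδeq : ∀ x', δ' x' = δ (f x') := by
    intro x'
    obtain ⟨n, hn, h1⟩ := (deltaCompat_iff _ _ _).mp hδ x'
    rw [resTrdeg_eq_zero_of_universallyInjective f x'] at hn
    have : n = 0 := by exact_mod_cast hn.symm
    rw [h1, this]; simp
  have hkey := mult_mul_mapCoeff hX hX' f d hfr hδ hinj hδeq
  refine ⟨?_, ?_⟩
  · intro β hβ
    refine ⟨AlgebraicCycle.map f δ' δ β, Bivar.cycMap_mem_Zk f δ' δ i hβ, d • β,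
      (ChowOps.zk X' δ' i).nsmul_mem hβ d, s, ?_, ?_⟩
    · funext x'
      rw [pullFun_eq f δ' δ hδeq, map_apply_inj f hinj, mul_assoc,
        mul_comm (AlgebraicCycle.mapCoeff f δ' δ x' : ℤ), hkey x',
        Function.locallyFinsuppWithin.coe_nsmul, Pi.smul_apply]
      simp [mul_comm]
    · rw [cl_nsmul d β hβ, hs]
  · intro α hα α' hα' hpull hcl
    refine ⟨s, ?_⟩
    have h1 := (Groth.Agent.S1868.result X' X δ' δ hX' hX f d hfr hδ i).2 α hα α' hpull
    have h2 := pushCH_cl hX' hX f hδ i α' hα'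
    rw [hcl, map_zero] at h2
    rw [← hs, ← cl_nsmul d α hα ((ChowOps.zk X δ i).nsmul_mem hα d)]
    rw [h2]
    exact Bivar.cl_congr h1.symm _ _

end Part2

end Groth.Agent.Lib.R2H1.PurInsepChow
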