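/-
R2H1DeltaGenBC (helper1, round 2): dimension function at generic points of a flat base change (S1939).  Algebra: flat_of_injective_of_field, under_eq_bot_of_mem_minimalPrimes (minimal primes of a flat algebra over a domain contract to 0), psi (K ⊗[k] L → M), algebraicIndependent_of_minimal, isAlgebraic_of_gen, trdeg_eq_of_minimal (K/k, L/k arbitrary field extensions, M generated by the images with kernel a minimal prime of K ⊗ L: trdeg_L M = trdeg_k K), trdeg_eq_of_minimal' (abstract pushout form).  Schemes: fst_eq_genericPoint, flat_snd_fiber, snd_maximal_in_fibre (image in S' of a maximal point of X ×_S S' is maximal in its fibre), ev/specMap_ev/ev_gen (residue fields of Spec R are fraction fields), Gen/gen_specTensorTo/gen_of_point (κ(t) generated by κ(x) ⊗ κ(y), via Mathlib's Triplet API), specTensorTo_injective, ker_ofPointTensor_minimal, exists_pushout_equiv (CommRingCat pushout = tensor product), trdeg_snd_eq_of_maximal, main1939.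
-/
import Mathlib
import Groth.Prelude.Def_Cyc

set_option autoImplicit false
set_option linter.style.haveILetI false
set_option linter.unusedSectionVars false
universe u v

namespace Groth.Agent.Lib.R2H1.DeltaGenBC

section Part1

open TensorProduct

theorem flat_of_injective_of_field (P : Type*) [CommRing P] [IsDomain P] (K : Type*) [Field K]
    [Algebra P K] (h : Function.Injective (algebraMap P K)) : Module.Flat P K := by
  letI : Algebra (FractionRing P) K := (IsFractionRing.lift h).toAlgebra
  haveI : IsScalarTower P (FractionRing P) K := IsScalarTower.of_algebraMap_eq (fun x => by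
    rw [RingHom.algebraMap_toAlgebra, IsFractionRing.lift_algebraMap])
  exact Module.Flat.trans P (FractionRing P) K

theorem under_eq_bot_of_mem_minimalPrimes {S B : Type*} [CommRing S] [IsDomain S] [CommRing B]
    [Algebra S B] [Module.Flat S B] {p : Ideal B} (hp : p ∈ minimalPrimes B) :
    p.under S = ⊥ := by
  haveI : p.IsPrime := hp.1.1
  by_contra hne
  have hlt : (⊥ : Ideal S) < p.under S := bot_lt_iff_ne_bot.mpr hne
  haveI : (⊥ : Ideal S).IsPrime := Ideal.isPrime_bot
  obtain ⟨P', hP'le, hP'prime, hP'over⟩ :=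
    Algebra.HasGoingDown.exists_ideal_le_liesOver_of_lt (R := S) p hlt
  have h1 : p ≤ P' := hp.2 ⟨hP'prime, bot_le⟩ hP'le
  have h2 : P' = p := le_antisymm hP'le h1
  subst h2
  exact hne hP'over.over.symm

section

variable {k K L M : Type u} [Field k] [Field K] [Field L] [Field M]
  [Algebra k K] [Algebra k L] [Algebra K M] [Algebra L M] [Algebra k M]
  [IsScalarTower k K M] [IsScalarTower k L M]

variable (k K L M) in
/-- The canonical map `K ⊗[k] L → M`. -/
noncomputable def psi : K ⊗[k] L →ₐ[k] M :=
  Algebra.TensorProduct.productMap (IsScalarTower.toAlgHom k K M) (IsScalarTower.toAlgHom k L M)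

theorem psi_tmul (x : K) (y : L) :
    psi k K L M (x ⊗ₜ[k] y) = algebraMap K M x * algebraMap L M y := by
  simp [psi]

end

end Part1

section Part2

open TensorProduct

attribute [local instance] MvPolynomial.algebraMvPolynomial

variable {k K L M : Type u} [Field k] [Field K] [Field L] [Field M]
  [Algebra k K] [Algebra k L] [Algebra K M] [Algebra L M] [Algebra k M]
  [IsScalarTower k K M] [IsScalarTower k L M]

theorem algebraicIndependent_of_minimal {ι : Type u} (t : ι → K) (ht : AlgebraicIndependent k t)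
    (hmin : RingHom.ker (psi k K L M) ∈ minimalPrimes (K ⊗[k] L)) :
    AlgebraicIndependent L (fun i => algebraMap K M (t i)) := by
  classical
  letI aPK : Algebra (MvPolynomial ι k) K :=
    (MvPolynomial.aeval t : MvPolynomial ι k →ₐ[k] K).toRingHom.toAlgebra
  have aPK_def : ∀ p : MvPolynomial ι k, algebraMap (MvPolynomial ι k) K p = MvPolynomial.aeval t p :=
    fun _ => rfl
  haveI : IsScalarTower k (MvPolynomial ι k) K := IsScalarTower.of_algebraMap_eq (fun c => by
    rw [aPK_def, MvPolynomial.algebraMap_eq, MvPolynomial.aeval_C])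
  letI aLA : Algebra L (K ⊗[k] L) := Algebra.TensorProduct.rightAlgebra
  letI aS'A : Algebra (MvPolynomial ι L) (K ⊗[k] L) :=
    (MvPolynomial.aeval (R := L) (fun i => (t i ⊗ₜ[k] (1 : L) : K ⊗[k] L))).toRingHom.toAlgebra
  have aS'A_def : ∀ p : MvPolynomial ι L, algebraMap (MvPolynomial ι L) (K ⊗[k] L) p =
      MvPolynomial.aeval (R := L) (fun i => (t i ⊗ₜ[k] (1 : L) : K ⊗[k] L)) p := fun _ => rfl
  haveI t1 : IsScalarTower (MvPolynomial ι k) K (K ⊗[k] L) := inferInstance
  haveI t2 : IsScalarTower L (MvPolynomial ι L) (K ⊗[k] L) :=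
    IsScalarTower.of_algebraMap_eq (fun c => by
      rw [aS'A_def, MvPolynomial.algebraMap_eq, MvPolynomial.aeval_C])
  haveI t3 : IsScalarTower k L (K ⊗[k] L) := inferInstance
  haveI t4 : IsScalarTower k (MvPolynomial ι L) (K ⊗[k] L) :=
    IsScalarTower.of_algebraMap_eq (fun c => by
      rw [IsScalarTower.algebraMap_apply k L (MvPolynomial ι L),
        ← IsScalarTower.algebraMap_apply L (MvPolynomial ι L) (K ⊗[k] L),
        ← IsScalarTower.algebraMap_apply k L (K ⊗[k] L)])
  haveI t5 : IsScalarTower (MvPolynomial ι k) (MvPolynomial ι L) (K ⊗[k] L) := by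
    refine IsScalarTower.of_algebraMap_eq' ?_
    refine MvPolynomial.ringHom_ext (fun c => ?_) (fun i => ?_)
    · rw [RingHom.comp_apply, MvPolynomial.algebraMap_def, MvPolynomial.map_C, aS'A_def,
        MvPolynomial.aeval_C, Algebra.TensorProduct.algebraMap_apply, aPK_def,
        MvPolynomial.aeval_C]
      rw [← IsScalarTower.algebraMap_apply k L (K ⊗[k] L),
        Algebra.TensorProduct.algebraMap_apply]
    · rw [RingHom.comp_apply, MvPolynomial.algebraMap_def, MvPolynomial.map_X, aS'A_def,
        MvPolynomial.aeval_X, Algebra.TensorProduct.algebraMap_apply, aPK_def,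
        MvPolynomial.aeval_X]
  have hpo1 : Algebra.IsPushout k (MvPolynomial ι k) L (MvPolynomial ι L) := inferInstance
  have hpo2 : Algebra.IsPushout k K L (K ⊗[k] L) := inferInstance
  have hpo3 : Algebra.IsPushout (MvPolynomial ι k) K (MvPolynomial ι L) (K ⊗[k] L) :=
    (Algebra.IsPushout.comp_iff k (MvPolynomial ι k) L (MvPolynomial ι L)
      (T := K) (T' := K ⊗[k] L)).mp hpo2
  haveI hflat1 : Module.Flat (MvPolynomial ι k) K :=
    flat_of_injective_of_field (MvPolynomial ι k) K ht
  haveI hflat2 : Module.Flat (MvPolynomial ι L) (K ⊗[k] L) :=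
    Module.Flat.isBaseChange (MvPolynomial ι k) (MvPolynomial ι L) K (K ⊗[k] L) hpo3.symm.out
  have hbot := under_eq_bot_of_mem_minimalPrimes (S := MvPolynomial ι L) hmin
  have key : ∀ p : MvPolynomial ι L,
      MvPolynomial.aeval (fun i => algebraMap K M (t i)) p =
        psi k K L M (algebraMap (MvPolynomial ι L) (K ⊗[k] L) p) := by
    have h1 : (MvPolynomial.aeval (R := L) (fun i => algebraMap K M (t i))).toRingHom =
        ((psi k K L M).toRingHom).comp (algebraMap (MvPolynomial ι L) (K ⊗[k] L)) := by
      refine MvPolynomial.ringHom_ext (fun c => ?_) (fun i => ?_)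
      · rw [RingHom.comp_apply, aS'A_def, MvPolynomial.aeval_C,
          Algebra.TensorProduct.right_algebraMap_apply]
        change MvPolynomial.aeval _ (MvPolynomial.C c) = psi k K L M _
        rw [MvPolynomial.aeval_C, psi_tmul, map_one, one_mul]
      · rw [RingHom.comp_apply, aS'A_def, MvPolynomial.aeval_X]
        change MvPolynomial.aeval _ (MvPolynomial.X i) = psi k K L M _
        rw [MvPolynomial.aeval_X, psi_tmul, map_one, mul_one]
    intro p
    exact congrArg (fun r => r p) h1
  rw [algebraicIndependent_iff_injective_aeval]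
  refine (injective_iff_map_eq_zero _).mpr (fun p hp => ?_)
  have h2 : p ∈ (RingHom.ker (psi k K L M)).under (MvPolynomial ι L) := by
    rw [Ideal.mem_comap, RingHom.mem_ker, ← key, hp]
  rw [hbot] at h2
  exact h2

end Part2

section Part3

open TensorProduct

variable {k K L M : Type u} [Field k] [Field K] [Field L] [Field M]
  [Algebra k K] [Algebra k L] [Algebra K M] [Algebra L M] [Algebra k M]
  [IsScalarTower k K M] [IsScalarTower k L M]

theorem isAlgebraic_of_gen {ι : Type u} (t : ι → K) (ht : IsTranscendenceBasis k t)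
    (hgen : ∀ m : M, ∃ a b : K ⊗[k] L, psi k K L M b ≠ 0 ∧ m * psi k K L M b = psi k K L M a) :
    Algebra.IsAlgebraic (Algebra.adjoin L (Set.range (fun i => algebraMap K M (t i)))) M := by
  classical
  set R₀ : Subalgebra L M := Algebra.adjoin L (Set.range (fun i => algebraMap K M (t i))) with hR₀
  have hmem : ∀ y ∈ Algebra.adjoin k (Set.range t), algebraMap K M y ∈ R₀ := by
    intro y hy
    induction hy using Algebra.adjoin_induction with
    | mem x hx =>
      obtain ⟨i, rfl⟩ := hx
      exact Algebra.subset_adjoin ⟨i, rfl⟩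
    | algebraMap c =>
      rw [← IsScalarTower.algebraMap_apply k K M, IsScalarTower.algebraMap_apply k L M]
      exact Subalgebra.algebraMap_mem R₀ _
    | add x y _ _ hx hy => rw [map_add]; exact add_mem hx hy
    | mul x y _ _ hx hy => rw [map_mul]; exact mul_mem hx hy
  let f : ↥(Algebra.adjoin k (Set.range t)) →+* ↥R₀ :=
    RingHom.codRestrict ((algebraMap K M).comp (Algebra.adjoin k (Set.range t)).val.toRingHom) R₀
      (fun y => hmem y.1 y.2)
  have hf : Function.Injective f := by
    intro a b hab
    have h1 : algebraMap K M a.1 = algebraMap K M b.1 := congrArg Subtype.val hab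
    exact Subtype.ext ((algebraMap K M).injective h1)
  have hcomp : (algebraMap (↥R₀) M).comp f =
      (algebraMap K M).comp (algebraMap (↥(Algebra.adjoin k (Set.range t))) K) := by
    ext y; rfl
  have hK : ∀ x : K, IsAlgebraic (↥R₀) (algebraMap K M x) := by
    intro x
    have halg : IsAlgebraic (↥(Algebra.adjoin k (Set.range t))) x :=
      ht.isAlgebraic.isAlgebraic x
    exact halg.ringHom_of_comp_eq f (algebraMap K M) hf hcomp
  have hL : ∀ l : L, IsAlgebraic (↥R₀) (algebraMap L M l) := by
    intro l
    exact isAlgebraic_algebraMap (⟨algebraMap L M l, Subalgebra.algebraMap_mem R₀ l⟩ : ↥R₀)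
  have mem_iff : ∀ x : M, x ∈ Subalgebra.algebraicClosure (↥R₀) M ↔ IsAlgebraic (↥R₀) x :=
    fun _ => Iff.rfl
  have hC : ∀ a : K ⊗[k] L, psi k K L M a ∈ Subalgebra.algebraicClosure (↥R₀) M := by
    intro a
    induction a using TensorProduct.induction_on with
    | zero => rw [map_zero]; exact zero_mem _
    | tmul x y =>
      rw [psi_tmul]
      exact mul_mem ((mem_iff _).mpr (hK x))
        ((mem_iff _).mpr (hL y))
    | add a b ha hb => rw [map_add]; exact add_mem ha hb
  refine ⟨fun m => ?_⟩
  obtain ⟨a, b, hb, hab⟩ := hgen m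
  have h1 : m = psi k K L M a * (psi k K L M b)⁻¹ := by
    rw [← hab, mul_assoc, mul_inv_cancel₀ hb, mul_one]
  have h2 : IsAlgebraic (↥R₀) (psi k K L M b)⁻¹ :=
    IsAlgebraic.inv_iff.mpr ((mem_iff _).mp (hC b))
  rw [h1]
  exact (mem_iff _).mp
    (mul_mem (hC a) ((mem_iff _).mpr h2))

/-- For field extensions `K/k`, `L/k` and a field `M` generated by the images of `K` and `L` such
that the kernel of `K ⊗[k] L → M` is a minimal prime: `trdeg_L M = trdeg_k K`. -/
theorem trdeg_eq_of_minimal
    (hgen : ∀ m : M, ∃ a b : K ⊗[k] L, psi k K L M b ≠ 0 ∧ m * psi k K L M b = psi k K L M a)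
    (hmin : RingHom.ker (psi k K L M) ∈ minimalPrimes (K ⊗[k] L)) :
    Algebra.trdeg L M = Algebra.trdeg k K := by
  obtain ⟨ι, t, ht⟩ := exists_isTranscendenceBasis' k K
  have hind := algebraicIndependent_of_minimal (L := L) (M := M) t ht.1 hmin
  haveI := isAlgebraic_of_gen (L := L) (M := M) t ht hgen
  have hb : IsTranscendenceBasis L (fun i => algebraMap K M (t i)) :=
    hind.isTranscendenceBasis_iff_isAlgebraic.mpr inferInstance
  rw [← hb.cardinalMk_eq_trdeg, ← ht.cardinalMk_eq_trdeg]

end Part3

section Part4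

open TensorProduct

variable {k K L M : Type u} [Field k] [Field K] [Field L] [Field M]
  [Algebra k K] [Algebra k L] [Algebra K M] [Algebra L M] [Algebra k M]
  [IsScalarTower k K M] [IsScalarTower k L M]

/-- Abstract pushout form of `trdeg_eq_of_minimal`. -/
theorem trdeg_eq_of_minimal' {A : Type u} [CommRing A] (iK : K →+* A) (iL : L →+* A)
    (e : A ≃+* K ⊗[k] L)
    (heK : ∀ x : K, e (iK x) = x ⊗ₜ[k] (1 : L)) (heL : ∀ y : L, e (iL y) = (1 : K) ⊗ₜ[k] y)
    (ψ₀ : A →+* M) (hK : ∀ x : K, ψ₀ (iK x) = algebraMap K M x)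
    (hL : ∀ y : L, ψ₀ (iL y) = algebraMap L M y)
    (hgen : ∀ m : M, ∃ a b : A, ψ₀ b ≠ 0 ∧ m * ψ₀ b = ψ₀ a)
    (hmin : ∀ q : Ideal A, q.IsPrime → q ≤ RingHom.ker ψ₀ → RingHom.ker ψ₀ ≤ q) :
    Algebra.trdeg L M = Algebra.trdeg k K := by
  have hpsi : ∀ z : K ⊗[k] L, psi k K L M z = ψ₀ (e.symm z) := by
    intro z
    induction z using TensorProduct.induction_on with
    | zero => rw [map_zero, map_zero, map_zero]
    | tmul x y =>
      have h1 : x ⊗ₜ[k] y = e (iK x) * e (iL y) := by
        rw [heK, heL, Algebra.TensorProduct.tmul_mul_tmul, mul_one, one_mul]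
      rw [psi_tmul, h1, ← map_mul, RingEquiv.symm_apply_apply, map_mul, hK, hL]
    | add a b ha hb => rw [map_add, map_add, map_add, ha, hb]
  have hpsi' : ∀ a : A, psi k K L M (e a) = ψ₀ a := by
    intro a
    rw [hpsi, RingEquiv.symm_apply_apply]
  refine trdeg_eq_of_minimal ?_ ?_
  · intro m
    obtain ⟨a, b, hb, hab⟩ := hgen m
    exact ⟨e a, e b, by rwa [hpsi'], by rw [hpsi', hpsi', hab]⟩
  · haveI : (RingHom.ker (psi k K L M)).IsPrime := RingHom.ker_isPrime _
    refine ⟨⟨inferInstance, bot_le⟩, fun q hq hqle => ?_⟩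
    haveI : q.IsPrime := hq.1
    have h1 : q.comap (e : A →+* K ⊗[k] L) ≤ RingHom.ker ψ₀ := by
      intro a ha
      rw [RingHom.mem_ker, ← hpsi']
      exact hqle ha
    have h2 := hmin (q.comap (e : A →+* K ⊗[k] L)) (Ideal.comap_isPrime _ q) h1
    intro z hz
    have h3 : e.symm z ∈ RingHom.ker ψ₀ := by
      rw [RingHom.mem_ker, ← hpsi]
      exact hz
    have h4 := h2 h3
    rw [Ideal.mem_comap] at h4
    simpa using h4

end Part4

section Part5

open AlgebraicGeometry CategoryTheory Limits

variable {S S' X : Scheme.{u}} (a : X ⟶ S) (g : S' ⟶ S)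

/-- A maximal point of `X ×_S S'` (for `g` flat, `X` integral) lies over the generic point. -/
theorem fst_eq_genericPoint [Flat g] [IsIntegral X] (x' : ↥(pullback a g))
    (hx' : ∀ y : ↥(pullback a g), y ⤳ x' → y = x') :
    pullback.fst a g x' = genericPoint X := by
  have h1 : genericPoint X ⤳ pullback.fst a g x' := genericPoint_specializes _
  obtain ⟨y, hy, hy2⟩ := (Flat.generalizingMap (f := pullback.fst a g)) h1
  rw [hx' y hy] at hy2
  exact hy2

/-- The projection from the base change of `X' → S'` to a fibre of `g` is flat. -/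
theorem flat_snd_fiber (s : S) :
    Flat (pullback.snd (pullback.snd a g) (g.fiberι s)) := by
  have top : IsPullback (pullback.snd (pullback.snd a g) (g.fiberι s))
      (pullback.fst (pullback.snd a g) (g.fiberι s)) (g.fiberι s) (pullback.snd a g) :=
    (IsPullback.of_hasPullback _ _).flip
  have bot : IsPullback (pullback.snd a g) (pullback.fst a g) g a :=
    (IsPullback.of_hasPullback _ _).flip
  have big := (top.paste_vert bot).flip
  rw [g.fiber_fac s] at big
  have small : IsPullback (pullback.fst a (S.fromSpecResidueField s))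
      (pullback.snd a (S.fromSpecResidueField s)) a (S.fromSpecResidueField s) :=
    IsPullback.of_hasPullback _ _
  have hlift : (pullback.fst (pullback.snd a g) (g.fiberι s) ≫ pullback.fst a g) ≫ a =
      (pullback.snd (pullback.snd a g) (g.fiberι s) ≫ g.fiberToSpecResidueField s) ≫
        S.fromSpecResidueField s := by
    rw [Category.assoc, Category.assoc]; exact big.w
  have left : IsPullback
      (pullback.lift _ _ hlift)
      (pullback.snd (pullback.snd a g) (g.fiberι s))
      (pullback.snd a (S.fromSpecResidueField s)) (g.fiberToSpecResidueField s) := by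
    refine IsPullback.of_right ?_ (pullback.lift_snd _ _ _) small
    rw [pullback.lift_fst]
    exact big
  haveI : Flat (pullback.snd a (S.fromSpecResidueField s)) := inferInstance
  exact MorphismProperty.of_isPullback left inferInstance

end Part5

section Part6

open AlgebraicGeometry CategoryTheory Limits

variable {S S' X : Scheme.{u}} (a : X ⟶ S) (g : S' ⟶ S)

/-- The image in `S'` of a maximal point of `X ×_S S'` is maximal in its fibre over `S`. -/
theorem snd_maximal_in_fibre (x' : ↥(pullback a g))
    (hx' : ∀ y : ↥(pullback a g), y ⤳ x' → y = x') (y : S')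
    (hy : g y = g (pullback.snd a g x')) (hys : y ⤳ pullback.snd a g x') :
    y = pullback.snd a g x' := by
  set s' := pullback.snd a g x' with hs'
  set s := g s' with hs
  have hy_mem : y ∈ Set.range (g.fiberι s) := by
    rw [Scheme.Hom.range_fiberι]; exact hy
  obtain ⟨u, hu⟩ := hy_mem
  have hv : g.fiberι s (g.asFiber s') = s' := g.fiberι_asFiber s'
  have huv : u ⤳ g.asFiber s' := by
    refine (g.fiberι s).isEmbedding.isInducing.specializes_iff.mp ?_
    rw [hu, hv]; exact hys
  obtain ⟨p, hp1, hp2⟩ := Scheme.Pullback.exists_preimage_pullback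
    (f := pullback.snd a g) (g := g.fiberι s) x' (g.asFiber s') hv.symm
  haveI := flat_snd_fiber a g s
  have hgen := Flat.generalizingMap (f := pullback.snd (pullback.snd a g) (g.fiberι s))
  rw [← hp2] at huv
  obtain ⟨p₂, hp₂, hp₂u⟩ := hgen huv
  have h1 : pullback.fst (pullback.snd a g) (g.fiberι s) p₂ ⤳ x' := by
    rw [← hp1]
    exact hp₂.map (pullback.fst (pullback.snd a g) (g.fiberι s)).continuous
  have h2 := hx' _ h1
  have h3 : pullback.snd a g (pullback.fst (pullback.snd a g) (g.fiberι s) p₂) =
      g.fiberι s (pullback.snd (pullback.snd a g) (g.fiberι s) p₂) := by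
    rw [← Scheme.Hom.comp_apply, ← Scheme.Hom.comp_apply, pullback.condition]
  rw [h2, hp₂u, hu] at h3
  exact h3.symm

end Part6

section Part7

open AlgebraicGeometry CategoryTheory Limits

/-- The evaluation map `R → κ(p)` for a point `p` of `Spec R`. -/
noncomputable def ev (R : CommRingCat.{u}) (p : ↥(Spec R)) : R ⟶ (Spec R).residueField p :=
  CommRingCat.ofHom (algebraMap (↑R) p.asIdeal.ResidueField) ≫ (Scheme.Spec.residueFieldIso R p).inv

theorem specMap_ev (R : CommRingCat.{u}) (p : ↥(Spec R)) :
    Spec.map (ev R p) = (Spec R).fromSpecResidueField p := by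
  rw [ev, Spec.map_comp]
  exact Scheme.Spec.map_residueFieldIso_inv_eq_fromSpecResidueField R p

/-- Every element of the residue field at `p` of `Spec R` is a fraction of evaluations. -/
theorem ev_gen (R : CommRingCat.{u}) (p : ↥(Spec R)) (m : (Spec R).residueField p) :
    ∃ a b : R, (ev R p).hom b ≠ 0 ∧ m * (ev R p).hom b = (ev R p).hom a := by
  set m' : p.asIdeal.ResidueField := (Scheme.Spec.residueFieldIso R p).hom.hom m with hm'
  obtain ⟨x, y, hy, hxy⟩ := IsFractionRing.div_surjective (A := (↑R) ⧸ p.asIdeal) m'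
  obtain ⟨a, rfl⟩ := Ideal.Quotient.mk_surjective x
  obtain ⟨b, rfl⟩ := Ideal.Quotient.mk_surjective y
  have hb0 : algebraMap (↑R ⧸ p.asIdeal) p.asIdeal.ResidueField (Ideal.Quotient.mk _ b) ≠ 0 := by
    intro h0
    have := (IsFractionRing.injective (↑R ⧸ p.asIdeal) p.asIdeal.ResidueField)
      (h0.trans (map_zero _).symm)
    exact (nonZeroDivisors.ne_zero hy) this
  have e1 : ∀ r : R, algebraMap (↑R ⧸ p.asIdeal) p.asIdeal.ResidueField (Ideal.Quotient.mk _ r) =
      algebraMap (↑R) p.asIdeal.ResidueField r := fun r =>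
    (IsScalarTower.algebraMap_apply (↑R) (↑R ⧸ p.asIdeal) p.asIdeal.ResidueField r).symm
  rw [e1] at hb0
  rw [e1, e1] at hxy
  have hmul : m' * algebraMap (↑R) p.asIdeal.ResidueField b =
      algebraMap (↑R) p.asIdeal.ResidueField a := by
    rw [← hxy, div_mul_cancel₀ _ hb0]
  have hm : m = (Scheme.Spec.residueFieldIso R p).inv.hom m' := by
    rw [hm']
    change m = ((Scheme.Spec.residueFieldIso R p).hom ≫ (Scheme.Spec.residueFieldIso R p).inv).hom m
    rw [Iso.hom_inv_id]; rfl
  have hev : ∀ r : R, (ev R p).hom r =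
      (Scheme.Spec.residueFieldIso R p).inv.hom (algebraMap (↑R) p.asIdeal.ResidueField r) :=
    fun r => rfl
  have hinj : Function.Injective (Scheme.Spec.residueFieldIso R p).inv.hom :=
    ((Scheme.Spec.residueFieldIso R p).symm.commRingCatIsoToRingEquiv).injective
  refine ⟨a, b, ?_, ?_⟩
  · rw [hev]
    intro h0
    exact hb0 (hinj (h0.trans (map_zero _).symm))
  · rw [hev, hev, hm, ← map_mul, hmul]

end Part7

section Part8

open AlgebraicGeometry CategoryTheory Limits Scheme.Pullback

variable {X Y S : Scheme.{u}} {f : X ⟶ S} {g : Y ⟶ S}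

/-- The residue field at `z` is generated by the image of `κ(x) ⊗ κ(y)`. -/
def Gen (z : ↥(pullback f g)) : Prop :=
  ∀ m : (pullback f g).residueField z, ∃ a b : (Triplet.ofPoint z).tensor,
    (ofPointTensor z).hom b ≠ 0 ∧ m * (ofPointTensor z).hom b = (ofPointTensor z).hom a

theorem gen_specTensorTo (T : Triplet f g) (p : ↥(Spec T.tensor)) : Gen (T.SpecTensorTo p) := by
  intro m
  have hcomp : (Triplet.tensorCongr (T.ofPoint_SpecTensorTo p).symm).hom ≫
      ofPointTensor (T.SpecTensorTo p) ≫ Scheme.Hom.residueFieldMap T.SpecTensorTo p =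
      ev T.tensor p := by
    apply Spec.map_injective
    rw [specMap_ev, Spec.map_comp, Spec.map_comp, Category.assoc]
    exact T.Spec_ofPointTensor_SpecTensorTo p
  obtain ⟨a, b, hb, hab⟩ := ev_gen T.tensor p ((Scheme.Hom.residueFieldMap T.SpecTensorTo p).hom m)
  have hev : ∀ r : T.tensor, (ev T.tensor p).hom r =
      (Scheme.Hom.residueFieldMap T.SpecTensorTo p).hom ((ofPointTensor (T.SpecTensorTo p)).hom
        ((Triplet.tensorCongr (T.ofPoint_SpecTensorTo p).symm).hom.hom r)) := by
    intro r
    rw [← hcomp]; rfl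
  have hinj : Function.Injective (Scheme.Hom.residueFieldMap T.SpecTensorTo p).hom :=
    RingHom.injective _
  refine ⟨(Triplet.tensorCongr (T.ofPoint_SpecTensorTo p).symm).hom.hom a,
    (Triplet.tensorCongr (T.ofPoint_SpecTensorTo p).symm).hom.hom b, ?_, ?_⟩
  · intro h0
    apply hb
    rw [hev, h0, map_zero]
  · apply hinj
    rw [map_mul, ← hev, ← hev, hab]

theorem gen_of_point (t : ↥(pullback f g)) : Gen t := by
  have h := gen_specTensorTo (Triplet.ofPoint t) (SpecOfPoint t)
  rwa [SpecTensorTo_SpecOfPoint] at h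

end Part8

section Part9

open AlgebraicGeometry CategoryTheory Limits Scheme.Pullback

variable {X Y S : Scheme.{u}} {f : X ⟶ S} {g : Y ⟶ S}

theorem specTensorTo_injective (T : Triplet f g) :
    Function.Injective (fun p : ↥(Spec T.tensor) => T.SpecTensorTo p) := by
  intro p q hpq
  have h : (carrierEquiv (f := f) (g := g)).symm ⟨T, p⟩ = carrierEquiv.symm ⟨T, q⟩ := hpq
  have h2 := carrierEquiv.symm.injective h
  exact eq_of_heq (Sigma.mk.inj h2).2

theorem asIdeal_specOfPoint (t : ↥(pullback f g)) :
    (SpecOfPoint t).asIdeal = RingHom.ker (ofPointTensor t).hom := by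
  rfl

theorem ker_ofPointTensor_minimal (t : ↥(pullback f g))
    (ht : ∀ y : ↥(pullback f g), y ⤳ t → y = t)
    (q : Ideal (Triplet.ofPoint t).tensor) (hq : q.IsPrime)
    (hle : q ≤ RingHom.ker (ofPointTensor t).hom) : RingHom.ker (ofPointTensor t).hom ≤ q := by
  let q' : ↥(Spec (Triplet.ofPoint t).tensor) := ⟨q, hq⟩
  have hspec : q' ⤳ SpecOfPoint t := by
    refine (PrimeSpectrum.le_iff_specializes q' (SpecOfPoint t)).mp ?_
    change q ≤ (SpecOfPoint t).asIdeal
    rw [asIdeal_specOfPoint]; exact hle
  have h1 : (Triplet.ofPoint t).SpecTensorTo q' ⤳ (Triplet.ofPoint t).SpecTensorTo (SpecOfPoint t) :=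
    hspec.map (Triplet.ofPoint t).SpecTensorTo.continuous
  rw [SpecTensorTo_SpecOfPoint] at h1
  have h2 := ht _ h1
  have h3 : (Triplet.ofPoint t).SpecTensorTo q' =
      (Triplet.ofPoint t).SpecTensorTo (SpecOfPoint t) :=
    h2.trans (SpecTensorTo_SpecOfPoint t).symm
  have h4 : q' = SpecOfPoint t := specTensorTo_injective _ h3
  have h5 : q = (SpecOfPoint t).asIdeal := congrArg PrimeSpectrum.asIdeal h4
  rw [h5, asIdeal_specOfPoint]

end Part9

section Part10

open AlgebraicGeometry CategoryTheory Limits TensorProduct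

/-- The pushout in `CommRingCat` is the tensor product. -/
theorem exists_pushout_equiv {R A B : CommRingCat.{u}} (α : R ⟶ A) (β : R ⟶ B) :
    letI := α.hom.toAlgebra
    letI := β.hom.toAlgebra
    ∃ e : ↑(pushout α β) ≃+* (↑A) ⊗[↑R] (↑B),
      (∀ x : A, e ((pushout.inl α β).hom x) = x ⊗ₜ[↑R] (1 : ↑B)) ∧
      (∀ y : B, e ((pushout.inr α β).hom y) = (1 : ↑A) ⊗ₜ[↑R] y) := by
  letI := α.hom.toAlgebra
  letI := β.hom.toAlgebra
  have h1 : IsPushout α β (pushout.inl α β) (pushout.inr α β) := IsPushout.of_hasPushout α β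
  have h2 : IsPushout α β
      (CommRingCat.ofHom (S := (↑A) ⊗[↑R] (↑B)) <| Algebra.TensorProduct.includeLeftRingHom)
      (CommRingCat.ofHom (S := (↑A) ⊗[↑R] (↑B)) <| Algebra.TensorProduct.includeRight.toRingHom) :=
    CommRingCat.isPushout_tensorProduct (↑R) (↑A) (↑B)
  refine ⟨(h1.isoIsPushout _ _ h2).commRingCatIsoToRingEquiv, fun x => ?_, fun y => ?_⟩
  · have := IsPushout.inl_isoIsPushout_hom _ _ h1 h2
    exact congrArg (fun φ => φ.hom x) this
  · have := IsPushout.inr_isoIsPushout_hom _ _ h1 h2
    exact congrArg (fun φ => φ.hom y) this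

end Part10

section Part11

open AlgebraicGeometry CategoryTheory Limits TensorProduct Scheme.Pullback

theorem trdeg_congr_hom {k K : Type u} [Field k] [Field K] (φ₁ φ₂ : k →+* K) (h : φ₁ = φ₂) :
    @Algebra.trdeg k K _ _ φ₁.toAlgebra = @Algebra.trdeg k K _ _ φ₂.toAlgebra := by
  subst h; rfl

variable {X Y S : Scheme.{u}} {f : X ⟶ S} {g : Y ⟶ S}

/-- At a maximal point `t` of `X ×_S Y`, the transcendence degree of `κ(t)` over `κ(y)` equals
that of `κ(x)` over `κ(s)`. -/
theorem trdeg_snd_eq_of_maximal (t : ↥(pullback f g))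
    (ht : ∀ y : ↥(pullback f g), y ⤳ t → y = t) :
    (letI := ((pullback.snd f g).residueFieldMap t).hom.toAlgebra
     Algebra.trdeg (Y.residueField (pullback.snd f g t)) ((pullback f g).residueField t)) =
    (letI := (f.residueFieldMap (pullback.fst f g t)).hom.toAlgebra
     Algebra.trdeg (S.residueField (f (pullback.fst f g t)))
       (X.residueField (pullback.fst f g t))) := by
  set T := Triplet.ofPoint t with hT
  let α : S.residueField T.s ⟶ X.residueField T.x :=
    (S.residueFieldCongr T.hx).inv ≫ f.residueFieldMap T.x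
  let β : S.residueField T.s ⟶ Y.residueField T.y :=
    (S.residueFieldCongr T.hy).inv ≫ g.residueFieldMap T.y
  letI iKk : Algebra (S.residueField T.s) (X.residueField T.x) := α.hom.toAlgebra
  letI iLk : Algebra (S.residueField T.s) (Y.residueField T.y) := β.hom.toAlgebra
  letI iMK : Algebra (X.residueField T.x) ((pullback f g).residueField t) :=
    ((pullback.fst f g).residueFieldMap t).hom.toAlgebra
  letI iML : Algebra (Y.residueField T.y) ((pullback f g).residueField t) :=
    ((pullback.snd f g).residueFieldMap t).hom.toAlgebra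
  letI iMk : Algebra (S.residueField T.s) ((pullback f g).residueField t) :=
    (α ≫ (pullback.fst f g).residueFieldMap t).hom.toAlgebra
  haveI t1 : IsScalarTower (S.residueField T.s) (X.residueField T.x)
      ((pullback f g).residueField t) := IsScalarTower.of_algebraMap_eq (fun _ => rfl)
  haveI t2 : IsScalarTower (S.residueField T.s) (Y.residueField T.y)
      ((pullback f g).residueField t) := IsScalarTower.of_algebraMap_eq (fun z => by
    have := residueFieldCongr_inv_residueFieldMap_ofPoint (f := f) (g := g) t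
    exact congrArg (fun φ => φ.hom z) this)
  obtain ⟨e, heK, heL⟩ := exists_pushout_equiv α β
  have key := trdeg_eq_of_minimal' (k := S.residueField T.s) (K := X.residueField T.x)
    (L := Y.residueField T.y) (M := (pullback f g).residueField t)
    (A := T.tensor) T.tensorInl.hom T.tensorInr.hom e heK heL (ofPointTensor t).hom
    (fun x => by
      have := pushout.inl_desc ((pullback.fst f g).residueFieldMap t)
        ((pullback.snd f g).residueFieldMap t) (residueFieldCongr_inv_residueFieldMap_ofPoint t)
      exact congrArg (fun φ => φ.hom x) this)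
    (fun y => by
      have := pushout.inr_desc ((pullback.fst f g).residueFieldMap t)
        ((pullback.snd f g).residueFieldMap t) (residueFieldCongr_inv_residueFieldMap_ofPoint t)
      exact congrArg (fun φ => φ.hom y) this)
    (gen_of_point t) (ker_ofPointTensor_minimal t ht)
  refine key.trans ?_
  refine trdeg_congr_hom α.hom (f.residueFieldMap (pullback.fst f g t)).hom ?_
  change ((S.residueFieldCongr (rfl : f (pullback.fst f g t) = f (pullback.fst f g t))).inv ≫
    f.residueFieldMap (pullback.fst f g t)).hom = _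
  rw [Scheme.residueFieldCongr_refl]
  rfl

end Part11

section Part12

open AlgebraicGeometry CategoryTheory Limits

theorem main1939 (S S' X : Scheme.{u}) (δS : S → ℤ) (δS' : S' → ℤ)
    (g : S' ⟶ S) [Flat g] (c : ℤ)
    (hc : ∀ s' : S', (∀ y, g y = g s' → y ⤳ s' → y = s') → δS' s' = δS (g s') + c)
    (a : X ⟶ S) [IsIntegral X] (δX : X → ℤ)
    (hX : Cyc.DeltaCompat a δX δS) (δX' : ↥(pullback a g) → ℤ)
    (hX' : Cyc.DeltaCompat (pullback.snd a g) δX' δS') (k : ℤ) (hk : δX (genericPoint X) = k)
    (x' : ↥(pullback a g)) (hx' : ∀ y : ↥(pullback a g), y ⤳ x' → y = x') :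
    δX' x' = k + c := by
  have h1 := fst_eq_genericPoint a g x' hx'
  have h2 := snd_maximal_in_fibre a g x' hx'
  have h3 := trdeg_snd_eq_of_maximal x' hx'
  obtain ⟨n', hn', e'⟩ := hX' x'
  obtain ⟨n, hn, e⟩ := hX (pullback.fst a g x')
  have h4 : (n' : Cardinal.{u}) = n := hn'.symm.trans (h3.trans hn)
  have h5 : n' = n := by exact_mod_cast h4
  have h6 := hc (pullback.snd a g x') h2
  have h7 : g (pullback.snd a g x') = a (pullback.fst a g x') := by
    rw [← Scheme.Hom.comp_apply, ← Scheme.Hom.comp_apply, pullback.condition]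
  rw [e', h6, h7, h5, ← hk, ← h1, e]
  ring

end Part12

end Groth.Agent.Lib.R2H1.DeltaGenBC
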