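/-
Relative dimension is stable under base change (helper1, round 2; for S17567).
Reusable: resTrdeg_eq_zero_of_surjective, residueFieldMap_fromSpecResidueField_surjective, maximal_of_isPullback hsq x' hmax
(a point maximal in its f'-fibre maps to a point maximal in its f-fibre, same residue transcendence degree), resTrdeg_eq_ptTrdeg,
hasRelDim_of_isPullback (hsq : IsPullback f' g' g f) [LocallyOfFiniteType f] r hr : Cyc.HasRelDim f' r.
-/
import Mathlib
import Groth.Prelude
import Groth.Agent.Lib.R2H1DeltaGenBC
import Groth.Agent.Lib.R2H1FlatDivSum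
import Groth.Agent.Lib.R2H1ChowDesc

set_option autoImplicit false
set_option linter.style.haveILetI false
set_option linter.unusedSectionVars false
universe u v

namespace Groth.Agent.Lib.R2H1.RelDimBC

section Part1

open CategoryTheory AlgebraicGeometry CategoryTheory.Limits TopologicalSpace
open Groth.Agent.Lib.R2H1.PerfCyc Groth.Agent.Lib.R2H1.ChowDesc Groth.Agent.Lib.R2H1.DeltaGenBC
  Groth.Agent.Lib.R2H1.Envelope Groth.Agent.Lib.Helper4.DimFormula

variable {X Y X' Y' : Scheme.{u}}

/-- a surjective residue field map has transcendence degree zero. -/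
theorem resTrdeg_eq_zero_of_surjective {A B : Scheme.{u}} (u : A ⟶ B) (a : A)
    (h : Function.Surjective (u.residueFieldMap a).hom) : resTrdeg u a = 0 := by
  unfold resTrdeg
  letI := (u.residueFieldMap a).hom.toAlgebra
  haveI : Algebra.IsAlgebraic (B.residueField (u a)) (A.residueField a) :=
    ⟨fun y => by obtain ⟨z, rfl⟩ := h y; exact isAlgebraic_algebraMap z⟩
  exact trdeg_eq_zero

/-- the residue field map of the canonical morphism `Spec κ(y) ⟶ Y` is surjective. -/
theorem residueFieldMap_fromSpecResidueField_surjective (y : Y) :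
    Function.Surjective ((Y.fromSpecResidueField y).residueFieldMap
      (IsLocalRing.closedPoint (Y.residueField y))).hom := by
  have := (residueFieldMap_surjective_of_lift (Y.fromSpecResidueField y) y
    (𝟙 (Spec (CommRingCat.of (Y.residueField y)))) (Category.id_comp _)).2
  exact this

/-- in a cartesian square, a point of `X'` which is maximal in its fibre over `Y'` maps to a point
of `X` maximal in its fibre over `Y`, with the same transcendence degree of the residue field
extension. -/
theorem maximal_of_isPullback {f' : X' ⟶ Y'} {g' : X' ⟶ X} {g : Y' ⟶ Y} {f : X ⟶ Y}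
    (hsq : IsPullback f' g' g f) (x' : X')
    (hmax : ∀ z : X', f' z = f' x' → z ⤳ x' → z = x') :
    (∀ z : X, f z = f (g' x') → z ⤳ g' x' → z = g' x') ∧
      resTrdeg f' x' = resTrdeg f (g' x') := by
  set y' := f' x' with hy'
  set ι := Y'.fromSpecResidueField y' with hι
  set pt := IsLocalRing.closedPoint (Y'.residueField y') with hpt
  set g₂ := ι ≫ g with hg₂
  have comm : (pullback.snd f g₂ ≫ ι) ≫ g = pullback.fst f g₂ ≫ f := by
    rw [Category.assoc]; exact pullback.condition.symm
  let q : pullback f g₂ ⟶ X' := hsq.lift (pullback.snd f g₂ ≫ ι) (pullback.fst f g₂) comm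
  have hq1 : q ≫ f' = pullback.snd f g₂ ≫ ι := hsq.lift_fst _ _ comm
  have hq2 : q ≫ g' = pullback.fst f g₂ := hsq.lift_snd _ _ comm
  have hpb : IsPullback q (pullback.snd f g₂) f' ι := by
    have hbig : IsPullback (pullback.snd f g₂) (pullback.fst f g₂) g₂ f :=
      (IsPullback.of_hasPullback f g₂).flip
    have hbig' : IsPullback (pullback.snd f g₂) (q ≫ g') (ι ≫ g) f := by rw [hq2]; exact hbig
    exact (IsPullback.of_bot hbig' hq1.symm hsq).flip
  have hιpt : ι pt = y' := Scheme.fromSpecResidueField_apply _ _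
  obtain ⟨t, ht1, ht2, ht3⟩ := exists_point' hpb x' pt hιpt
    (residueFieldMap_fromSpecResidueField_surjective y')
  -- `q` is injective
  haveI : Mono ι := inferInstance
  haveI : Mono q := hpb.mono_fst_of_mono
  have hqinj : Function.Injective q := q.injective
  haveI hss : Subsingleton ↥(Spec (CommRingCat.of (Y'.residueField y'))) :=
    inferInstanceAs (Subsingleton (PrimeSpectrum (Y'.residueField y')))
  have hsub : ∀ a b : ↥(Spec (CommRingCat.of (Y'.residueField y'))), a = b := fun a b =>
    hss.elim a b
  -- `t` is a maximal point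
  have htmax : ∀ t₁ : ↥(pullback f g₂), t₁ ⤳ t → t₁ = t := by
    intro t₁ ht₁
    apply hqinj
    rw [ht1]
    apply hmax
    · have e1 : f' (q t₁) = ι (pullback.snd f g₂ t₁) := by
        rw [← Scheme.Hom.comp_apply, hq1]; rfl
      rw [e1, hsub (pullback.snd f g₂ t₁) pt, hιpt]
    · rw [← ht1]
      exact ht₁.map q.continuous
  have hfst : pullback.fst f g₂ t = g' x' := by
    rw [← hq2, Scheme.Hom.comp_apply, ht1]
  refine ⟨?_, ?_⟩
  · -- maximality downstairs, through the symmetric pullback
    set e := pullbackSymmetry f g₂ with he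
    have hemax : ∀ w : ↥(pullback g₂ f), w ⤳ e.hom t → w = e.hom t := by
      intro w hw
      have h1 : e.inv w ⤳ e.inv (e.hom t) := hw.map e.inv.continuous
      have h2 : e.inv (e.hom t) = t := by
        rw [← Scheme.Hom.comp_apply, e.hom_inv_id]; rfl
      rw [h2] at h1
      have h3 := htmax _ h1
      have h4 : e.hom (e.inv w) = w := by
        rw [← Scheme.Hom.comp_apply, e.inv_hom_id]; rfl
      rw [← h4, h3]
    have hsnd : pullback.snd g₂ f (e.hom t) = g' x' := by
      rw [← Scheme.Hom.comp_apply, he, pullbackSymmetry_hom_comp_snd, hfst]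
    intro z hz hzs
    have := snd_maximal_in_fibre g₂ f (e.hom t) hemax z (by rw [hsnd]; exact hz)
      (by rw [hsnd]; exact hzs)
    rw [this, hsnd]
  · have e1 := resTrdeg_comp q f' t
    have e2 := resTrdeg_comp (pullback.snd f g₂) ι t
    rw [resTrdeg_eq_zero_of_surjective q t ht3, add_zero, ht1] at e1
    rw [hsub (pullback.snd f g₂ t) pt,
      resTrdeg_eq_zero_of_surjective ι pt (residueFieldMap_fromSpecResidueField_surjective y'),
      zero_add] at e2
    rw [← e1, resTrdeg_congr hq1, e2, ← hfst]
    exact trdeg_snd_eq_of_maximal t htmax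

theorem resTrdeg_eq_ptTrdeg {A B : Scheme.{u}} (u : A ⟶ B) [LocallyOfFiniteType u] (a : A) :
    resTrdeg u a = (ptTrdeg u a : Cardinal.{u}) :=
  trdeg_eq_ptTrdeg u a

/-- relative dimension `r` is stable under base change. -/
theorem hasRelDim_of_isPullback {f' : X' ⟶ Y'} {g' : X' ⟶ X} {g : Y' ⟶ Y} {f : X ⟶ Y}
    (hsq : IsPullback f' g' g f) [LocallyOfFiniteType f] (r : ℕ) (hr : Cyc.HasRelDim f r) :
    Cyc.HasRelDim f' r := by
  haveI : LocallyOfFiniteType f' :=
    MorphismProperty.of_isPullback (P := @LocallyOfFiniteType) hsq.flip inferInstance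
  intro y' T hT
  obtain ⟨x', -, hmax, hdim⟩ := exists_point_of_mem_irreducibleComponents f' y' T hT
  rw [hdim]
  obtain ⟨hmaxX, htr⟩ := maximal_of_isPullback hsq x' hmax
  have h1 := Groth.Agent.Lib.R2H1.FlatDivSum.ptTrdeg_eq_of_maximal f r hr (g' x') hmaxX
  rw [resTrdeg_eq_ptTrdeg, resTrdeg_eq_ptTrdeg, h1] at htr
  have h2 : ptTrdeg f' x' = r := by exact_mod_cast htr
  rw [h2]

end Part1

end Groth.Agent.Lib.R2H1.RelDimBC
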