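/-
Transport of cycle operations along isomorphisms, and general-cartesian-square versions of base change results
(helper1, round 2; for S17567).
Reusable: iso_inv_hom_apply, iso_hom_inv_apply, iso_injective, mult_iso, residueDegree_iso, exists_isoCycle e b,
pullFun_comp_iso, map_comp_iso, deltaCompat_of_comp_iso, ML_sq (flat base change vs proper push for ANY cartesian square
IsPullback p1 p2 f g), map_iso, deltaCompat_iso, ratEquiv_of_iso, isZeroSchemeOf_of_comp_iso,
main1933_sq (Gysin commutes with flat pullback for ANY cartesian square IsPullback j f2 f i).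
-/
import Mathlib
import Groth.Prelude
import Groth.Agent.Lib.R2H1CycLimB
import Groth.Agent.Lib.R2H1Envelope
import Groth.Agent.Lib.R2H1MVClosed
import Groth.Agent.Lib.R2H1PurInsepChow
import Groth.Agent.Lib.R2H1PullPush
import Groth.Agent.Lib.R2H1GysinFlat
import Groth.Agent.Lib.R2H1ProperPushRat
import Groth.Agent.Lib.R2H1RelDimBC

set_option autoImplicit false
set_option linter.style.haveILetI false
set_option linter.unusedSectionVars false
universe u v

namespace Groth.Agent.Lib.R2H1.IsoTransport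

section Part1

open CategoryTheory AlgebraicGeometry CategoryTheory.Limits TopologicalSpace IsLocalRing
open Groth.Agent.Lib.R2H1.FlatPullRat Groth.Agent.Lib.R2H3.CycFlat Groth.Agent.Lib.R2H1.Envelope
  Groth.Agent.Lib.R2H1.RatEquivClosed Groth.Agent.Lib.R2H1.MVClosed

variable {A B C : Scheme.{u}}

theorem iso_inv_hom_apply (e : A ≅ B) (b : B) : e.hom (e.inv b) = b := by
  rw [← Scheme.Hom.comp_apply, e.inv_hom_id]; rfl

theorem iso_hom_inv_apply (e : A ≅ B) (a : A) : e.inv (e.hom a) = a := by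
  rw [← Scheme.Hom.comp_apply, e.hom_inv_id]; rfl

theorem iso_injective (e : A ≅ B) : Function.Injective e.hom := by
  intro a a' h
  rw [← iso_hom_inv_apply e a, h, iso_hom_inv_apply]

/-- the fibre multiplicity of an isomorphism is one. -/
theorem mult_iso (e : A ≅ B) (a : A) : mult e.hom a = 1 := by
  apply Groth.Agent.Lib.R2H1.CycLimB.mult_eq_one
  intro m hm
  have hbij : Function.Bijective (e.hom.stalkMap a).hom :=
    ConcreteCategory.bijective_of_isIso (e.hom.stalkMap a)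
  obtain ⟨n, rfl⟩ := hbij.2 m
  apply Ideal.mem_map_of_mem
  rw [mem_maximalIdeal, mem_nonunits_iff] at hm ⊢
  intro hn
  exact hm (hn.map _)

/-- the residue degree of an isomorphism is one. -/
theorem residueDegree_iso (e : A ≅ B) (a : A) : e.hom.residueDegree a = 1 := by
  apply residueDegree_eq_one_of_surjective
  haveI : IsIso (e.hom.residueFieldMap a) := inferInstance
  exact (ConcreteCategory.bijective_of_isIso (e.hom.residueFieldMap a)).2

/-- transport of a cycle along an isomorphism. -/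
theorem exists_isoCycle (e : A ≅ B) (β : AlgebraicCycle A ℤ) :
    ∃ γ : AlgebraicCycle B ℤ, ∀ b, γ b = β (e.inv b) := by
  classical
  obtain ⟨γ, hγ⟩ := exists_comap e.inv (iso_injective e.symm) β Set.univ
  exact ⟨γ, fun b => by rw [hγ, if_pos (Set.mem_univ _)]⟩

/-- flat pullback along the composite of an isomorphism and a morphism. -/
theorem pullFun_comp_iso (e : A ≅ B) (p : B ⟶ C) (δA : A → ℤ) (δC : C → ℤ) (c : ℤ)
    (α : C → ℤ) (a : A) :
    Cyc.pullFun (e.hom ≫ p) δA δC c α a =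
      Cyc.pullFun p (fun b => δA (e.inv b)) δC c α (e.hom a) := by
  rw [pullFun_eq, pullFun_eq]
  have h1 : (e.hom ≫ p) a = p (e.hom a) := rfl
  have h2 : mult (e.hom ≫ p) a = mult p (e.hom a) := by
    have := mult_comp p e.hom a
    have h3 := mult_iso e a
    unfold mult at h3 ⊢
    rw [this]
    have h4 : (Module.length (A.presheaf.stalk a)
      (A.presheaf.stalk a ⧸ Ideal.map (e.hom.stalkMap a).hom
        (maximalIdeal (B.presheaf.stalk (e.hom a))))).toNat = 1 := by exact_mod_cast h3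
    rw [h4, mul_one]
  rw [h1, h2, iso_hom_inv_apply]

/-- pushforward along the composite of an isomorphism and a morphism. -/
theorem map_comp_iso (e : A ≅ B) (h : B ⟶ C) [QuasiCompact h] (wA : A → ℤ) (wC : C → ℤ)
    (β : AlgebraicCycle A ℤ) (γ : AlgebraicCycle B ℤ) (hγ : ∀ b, γ b = β (e.inv b)) :
    AlgebraicCycle.map (e.hom ≫ h) wA wC β = AlgebraicCycle.map h (fun b => wA (e.inv b)) wC γ := by
  ext c
  rw [map_apply, map_apply]
  have hcoef : ∀ a : A, (AlgebraicCycle.mapCoeff (e.hom ≫ h) wA wC a : ℤ) =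
      (AlgebraicCycle.mapCoeff h (fun b => wA (e.inv b)) wC (e.hom a) : ℤ) := by
    intro a
    rw [mapCoeff_eq, mapCoeff_eq, iso_hom_inv_apply, residueDegree_comp, residueDegree_iso,
      mul_one]
    rfl
  rw [← finsum_mem_eq_of_bijOn (s := ((e.hom ≫ h) ⁻¹' {c} : Set A)) (t := (h ⁻¹' {c} : Set B))
    (f := fun a => β a * (AlgebraicCycle.mapCoeff (e.hom ≫ h) wA wC a : ℤ))
    (g := fun b => γ b * (AlgebraicCycle.mapCoeff h (fun b => wA (e.inv b)) wC b : ℤ)) e.hom]
  · refine ⟨fun a ha => ha, (iso_injective e).injOn, fun b hb => ⟨e.inv b, ?_, iso_inv_hom_apply e b⟩⟩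
    change h (e.hom (e.inv b)) = c
    rw [iso_inv_hom_apply]; exact hb
  · intro a _
    rw [hcoef, hγ, iso_hom_inv_apply]

end Part1

section Part2

open CategoryTheory AlgebraicGeometry CategoryTheory.Limits TopologicalSpace IsLocalRing
open Groth.Agent.Lib.R2H1.FlatPullRat Groth.Agent.Lib.R2H3.CycFlat Groth.Agent.Lib.R2H1.Envelope
  Groth.Agent.Lib.R2H1.RatEquivClosed Groth.Agent.Lib.R2H1.MVClosed Groth.Agent.Lib.R2H1.PerfCyc Groth.Agent.Lib.R2H1.RelDimBC

variable {A B C : Scheme.{u}}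

/-- the induced dimension function transported along an isomorphism. -/
theorem deltaCompat_of_comp_iso (e : A ≅ B) (h : B ⟶ C) (δA : A → ℤ) (δC : C → ℤ)
    (hs : Cyc.DeltaCompat (e.hom ≫ h) δA δC) :
    Cyc.DeltaCompat h (fun b => δA (e.inv b)) δC := by
  rw [deltaCompat_iff] at hs ⊢
  intro b
  obtain ⟨n, hn, h1⟩ := hs (e.inv b)
  refine ⟨n, ?_, ?_⟩
  · rw [resTrdeg_comp, resTrdeg_eq_zero_of_surjective e.hom (e.inv b)
      (ConcreteCategory.bijective_of_isIso (e.hom.residueFieldMap (e.inv b))).2, add_zero,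
      iso_inv_hom_apply] at hn
    exact hn
  · rw [h1]
    change δC (h (e.hom (e.inv b))) + n = _
    rw [iso_inv_hom_apply]

variable {X Y Y' P : Scheme.{u}}

/-- base change commutes with proper pushforward on cycle coefficients, for any cartesian
square. -/
theorem ML_sq {p₁ : P ⟶ X} {p₂ : P ⟶ Y'} {f : X ⟶ Y} {g : Y' ⟶ Y} (hP : IsPullback p₁ p₂ f g)
    [IsProper f] [QuasiCompact p₂]
    (δX : X → ℤ) (δY : Y → ℤ) (δY' : Y' → ℤ) (δP : P → ℤ) (c : ℤ)
    (hf : Cyc.DeltaCompat f δX δY) (hs : Cyc.DeltaCompat p₂ δP δY')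
    (hB : ∀ y' : Y', δY' y' ≤ δY (g y') + c)
    (α : AlgebraicCycle X ℤ) (α' : AlgebraicCycle P ℤ)
    (hα' : ⇑α' = Cyc.pullFun p₁ δP δX c ⇑α) :
    ⇑(AlgebraicCycle.map p₂ δP δY' α') =
      Cyc.pullFun g δY' δY c ⇑(AlgebraicCycle.map f δX δY α) := by
  obtain ⟨e, he1, he2⟩ : ∃ e : P ≅ pullback f g, e.hom ≫ pullback.fst f g = p₁ ∧
      e.hom ≫ pullback.snd f g = p₂ :=
    ⟨hP.isoPullback, hP.isoPullback_hom_fst, hP.isoPullback_hom_snd⟩
  clear hP
  subst he1 he2
  obtain ⟨γ, hγ⟩ := exists_isoCycle e α'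
  rw [map_comp_iso e (pullback.snd f g) δP δY' α' γ hγ]
  refine Groth.Agent.Lib.R2H1.PullPush.ML f g δX δY δY' (fun z => δP (e.inv z)) c hf
    (deltaCompat_of_comp_iso e _ δP δY' hs) hB α γ ?_
  funext z
  rw [hγ, hα', pullFun_comp_iso, iso_inv_hom_apply]

end Part2

section Part3

open CategoryTheory AlgebraicGeometry CategoryTheory.Limits TopologicalSpace IsLocalRing
open Groth.Agent.Lib.R2H1.FlatPullRat Groth.Agent.Lib.R2H3.CycFlat Groth.Agent.Lib.R2H1.Envelope
  Groth.Agent.Lib.R2H1.RatEquivClosed Groth.Agent.Lib.R2H1.MVClosed Groth.Agent.Lib.R2H1.PerfCyc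
  Groth.Agent.Lib.R2H1.PurInsepChow Groth.Agent.Lib.R2H1.RelDimBC

variable {A B C : Scheme.{u}}

/-- pushforward along an isomorphism. -/
theorem map_iso (e : A ≅ B) (wA : A → ℤ) (wB : B → ℤ) (hw : ∀ a, wA a = wB (e.hom a))
    (β : AlgebraicCycle A ℤ) (b : B) : AlgebraicCycle.map e.hom wA wB β b = β (e.inv b) := by
  have h := map_apply_inj e.hom (iso_injective e) wA wB β (e.inv b)
  rw [iso_inv_hom_apply] at h
  rw [h, mapCoeff_eq, if_pos (hw _), residueDegree_iso]
  simp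

theorem deltaCompat_iso (e : A ≅ B) (δB : B → ℤ) :
    Cyc.DeltaCompat e.hom (fun a => δB (e.hom a)) δB := by
  rw [deltaCompat_iff]
  intro a
  exact ⟨0, by rw [resTrdeg_eq_zero_of_surjective e.hom a
    (ConcreteCategory.bijective_of_isIso (e.hom.residueFieldMap a)).2]; simp, by simp⟩

/-- rational equivalence is transported along isomorphisms. -/
theorem ratEquiv_of_iso (e : A ≅ B) (δB : B → ℤ) (hB : Cyc.IsSetup B δB)
    (hA : Cyc.IsSetup A (fun a => δB (e.hom a))) (k : ℤ) (ζ₁ ζ₂ : AlgebraicCycle A ℤ)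
    (ζ₁' ζ₂' : AlgebraicCycle B ℤ) (h₁ : ∀ a, ζ₁ a = ζ₁' (e.hom a))
    (h₂ : ∀ a, ζ₂ a = ζ₂' (e.hom a)) (h : Cyc.RatEquiv δB k ζ₁' ζ₂') :
    Cyc.RatEquiv (fun a => δB (e.hom a)) k ζ₁ ζ₂ := by
  have hδ : Cyc.DeltaCompat e.symm.hom (fun b => (fun a => δB (e.hom a)) (e.symm.hom b))
      (fun a => δB (e.hom a)) := deltaCompat_iso e.symm (fun a => δB (e.hom a))
  have hδeq : (fun b => (fun a => δB (e.hom a)) (e.symm.hom b)) = δB := by
    funext b
    change δB (e.hom (e.inv b)) = δB b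
    rw [iso_inv_hom_apply]
  rw [hδeq] at hδ
  have := Groth.Agent.Lib.R2H1.ProperPushRat.main B A δB (fun a => δB (e.hom a)) hB hA e.symm.hom
    hδ k ζ₁' ζ₂' h
  have e1 : AlgebraicCycle.map e.symm.hom δB (fun a => δB (e.hom a)) ζ₁' = ζ₁ := by
    ext a
    rw [map_iso e.symm δB (fun a => δB (e.hom a)) (fun b => by
      change δB b = δB (e.hom (e.inv b)); rw [iso_inv_hom_apply]), h₁]
    rfl
  have e2 : AlgebraicCycle.map e.symm.hom δB (fun a => δB (e.hom a)) ζ₂' = ζ₂ := by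
    ext a
    rw [map_iso e.symm δB (fun a => δB (e.hom a)) (fun b => by
      change δB b = δB (e.hom (e.inv b)); rw [iso_inv_hom_apply]), h₂]
    rfl
  rwa [e1, e2] at this

/-- the zero scheme property is insensitive to precomposition with an isomorphism. -/
theorem isZeroSchemeOf_of_comp_iso {D Q X : Scheme.{u}} (e : D ≅ Q) (i : Q ⟶ X) (L : X.Modules)
    (s : L.presheaf.obj (Opposite.op ⊤)) (h : Cyc.IsZeroSchemeOf (e.hom ≫ i) L s) :
    Cyc.IsZeroSchemeOf i L s := by
  refine ⟨?_, ?_⟩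
  · rw [← h.1]
    ext x
    constructor
    · rintro ⟨z, rfl⟩
      exact ⟨e.inv z, by change i (e.hom (e.inv z)) = i z; rw [iso_inv_hom_apply]⟩
    · rintro ⟨d, rfl⟩
      exact ⟨e.hom d, rfl⟩
  · intro z
    obtain ⟨d, rfl⟩ : ∃ d, e.hom d = z := ⟨e.inv z, iso_inv_hom_apply e z⟩
    obtain ⟨t, f, ht, hs, hker⟩ := h.2 d
    have hcomp : ((e.hom ≫ i).stalkMap d).hom =
        (e.hom.stalkMap d).hom.comp (i.stalkMap (e.hom d)).hom := by
      rw [Scheme.Hom.stalkMap_comp]; rfl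
    have hinj : Function.Injective (e.hom.stalkMap d).hom :=
      (ConcreteCategory.bijective_of_isIso (e.hom.stalkMap d)).1
    have hk2 : RingHom.ker (i.stalkMap (e.hom d)).hom =
        RingHom.ker ((e.hom ≫ i).stalkMap d).hom := by
      apply le_antisymm
      · intro a ha
        have ha' : (i.stalkMap (e.hom d)).hom a = 0 := ha
        have h1 := RingHom.congr_fun hcomp a
        exact h1.trans (by
          show (e.hom.stalkMap d).hom ((i.stalkMap (e.hom d)).hom a) = 0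
          rw [ha', map_zero])
      · intro a ha
        have ha' : ((e.hom ≫ i).stalkMap d).hom a = 0 := ha
        have h1 := RingHom.congr_fun hcomp a
        have h2 : (e.hom.stalkMap d).hom ((i.stalkMap (e.hom d)).hom a) = 0 := h1.symm.trans ha'
        exact hinj (h2.trans (map_zero _).symm)
    exact ⟨t, f, ht, hs, hk2.trans hker⟩

/-- Gysin maps commute with flat pullback, for any cartesian square. -/
theorem main1933_sq (X X' D D' : Scheme.{u}) (δ : X → ℤ) (δ' : X' → ℤ) (hX : Cyc.IsSetup X δ)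
    (hX' : Cyc.IsSetup X' δ') (f : X' ⟶ X) [Flat f] [LocallyOfFiniteType f] (r : ℕ)
    (hr : Cyc.HasRelDim f r) (hδ : Cyc.DeltaCompat f δ' δ) (L : X.Modules)
    (hL : PicF.IsInvertible L) (s : L.presheaf.obj (Opposite.op ⊤)) (i : D ⟶ X)
    [IsClosedImmersion i] (hD : Cyc.IsZeroSchemeOf i L s) (j : D' ⟶ X') [IsClosedImmersion j]
    (f'' : D' ⟶ D) (hsq : IsPullback j f'' f i)
    (s' : ((Scheme.Modules.pullback f).obj L).presheaf.obj (Opposite.op ⊤))
    (hD' : Cyc.IsZeroSchemeOf j ((Scheme.Modules.pullback f).obj L) s') (k : ℤ)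
    (α : AlgebraicCycle X ℤ) (hα : α ∈ Cyc.Zk X δ (k + 1)) (w : (ξ : X) → Cyc.secFibre L ξ)
    (hw : ∀ ξ, w ξ ≠ 0)
    (w' : (ξ : X') → Cyc.secFibre ((Scheme.Modules.pullback f).obj L) ξ) (hw' : ∀ ξ, w' ξ ≠ 0)
    (ζ₁ ζ₂ : AlgebraicCycle D' ℤ)
    (h₁ : ∀ z, ζ₁ z = Cyc.c1CapFun δ' ((Scheme.Modules.pullback f).obj L)
      (Cyc.pullFun f δ' δ r ⇑α) (Cyc.gysinChoice ((Scheme.Modules.pullback f).obj L) s' w') (j z))
    (h₂ : ⇑ζ₂ = Cyc.pullFun f'' (fun z => δ' (j z))
      (fun d => δ (i d)) r (fun d => Cyc.c1CapFun δ L ⇑α (Cyc.gysinChoice L s w) (i d))) :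
    Cyc.RatEquiv (fun z => δ' (j z)) (k + r) ζ₁ ζ₂ := by
  obtain ⟨e, he1, he2⟩ : ∃ e : D' ≅ pullback f i, e.hom ≫ pullback.fst f i = j ∧
      e.hom ≫ pullback.snd f i = f'' :=
    ⟨hsq.isoPullback, hsq.isoPullback_hom_fst, hsq.isoPullback_hom_snd⟩
  clear hsq
  subst he1 he2
  have hDQ := isZeroSchemeOf_of_comp_iso e (pullback.fst f i) _ s' hD'
  obtain ⟨ζ₁', hζ₁'⟩ := exists_isoCycle e ζ₁
  obtain ⟨ζ₂', hζ₂'⟩ := exists_isoCycle e ζ₂
  have hQ := Groth.Agent.Lib.R2H1.GysinFlat.main1933 X X' D δ δ' hX hX' f r hr hδ L hL s i hD s' hDQ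
    k α hα w hw w' hw' ζ₁' ζ₂'
    (fun z => by
      rw [hζ₁', h₁]
      change _ = Cyc.c1CapFun δ' _ _ _ (pullback.fst f i z)
      rw [show (e.hom ≫ pullback.fst f i) (e.inv z) = pullback.fst f i z from by
        change pullback.fst f i (e.hom (e.inv z)) = _; rw [iso_inv_hom_apply]])
    (by
      funext z
      rw [hζ₂', h₂, pullFun_comp_iso, iso_inv_hom_apply]
      have : (fun b => (fun z => δ' ((e.hom ≫ pullback.fst f i) z)) (e.inv b)) =
          fun z => δ' (pullback.fst f i z) := by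
        funext b
        change δ' (pullback.fst f i (e.hom (e.inv b))) = _
        rw [iso_inv_hom_apply]
      rw [this])
  exact ratEquiv_of_iso e (fun z => δ' (pullback.fst f i z))
    (Groth.Agent.Lib.R2H1.PullInv.isSetup_of_closedImmersion (pullback.fst f i) hX')
    (Groth.Agent.Lib.R2H1.PullInv.isSetup_of_closedImmersion (e.hom ≫ pullback.fst f i) hX')
    (k + r) ζ₁ ζ₂ ζ₁' ζ₂'
    (fun a => by rw [hζ₁', iso_hom_inv_apply]) (fun a => by rw [hζ₂', iso_hom_inv_apply]) hQ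

end Part3

end Groth.Agent.Lib.R2H1.IsoTransport
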