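/-
Rational equivalence of the fibres over two disjoint sections (helper1, round 2; abstract core of S1900, S1902, S1903). Contains: ordAt_inv, specMap_ne_zero_of_isUnit, ordAt_specMap_unit, deltaCompat_id, delta_sect, deltaCompat_closedImmersion', deltaCompat_sect, map_congr_hom', map_map_sect; IsLineData (two sections cut out by a rational function and its inverse), IsLineData.ne_zero, notMem_range_of_specializes, finsum_divFun_eq, key_pointwise (the exact identity s0_* alpha - s1_* beta = sum of divisors on P); ratEquiv_of_lineData (abstract criterion with multiplicities mu); multAt, multAt_apply, multAt_of_notMem, subschemeFun_eq_multAt, mem_nonZeroDivisors_of_specMap_ne_zero, length_quot_eq_finsum; thetaC_eq, length_fibre, subschemeFun_fibre_eq; locallyFinite_top_points; ratEquiv_subscheme (S1902 in abstract form).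
-/
import Mathlib
import Groth.Prelude
import Groth.Agent.S1859
import Groth.Agent.Lib.R2H1ProperPushRat
import Groth.Agent.Lib.R2H1IsoTransport
import Groth.Agent.Lib.R2H1ChowDesc
import Groth.Agent.Lib.R2H1C1Rel
import Groth.Agent.Lib.R2H1LocQuot
import Groth.Agent.Lib.R2H1PullInv3
import Groth.Agent.Lib.R2H1FlatPullRat

set_option autoImplicit false
set_option linter.style.haveILetI false
set_option linter.unusedSectionVars false
universe u v

namespace Groth.Agent.Lib.R2H1.P1Fibres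

section Part1

open AlgebraicGeometry CategoryTheory CategoryTheory.Limits TopologicalSpace Topology IsLocalRing
  Groth.Agent.Lib.R2H1.RatEquivClosed Groth.Agent.Lib.R2H1.LocQuot
  Groth.Agent.Lib.R2H1.ChowDesc Groth.Agent.Lib.R2H1.IsoTransport
  Groth.Agent.Lib.R2H1.RelCartier Groth.Agent.Lib.R2H1.PerfCyc

variable {P X : Scheme.{u}}

theorem ordAt_inv (x ξ : X) (h : ξ ⤳ x) (f : X.residueField ξ) :
    Cyc.ordAt x ξ h f⁻¹ = - Cyc.ordAt x ξ h f := by
  unfold Cyc.ordAt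
  exact ordFrac_inv' _ _ f

theorem specMap_ne_zero_of_isUnit (x ξ : X) (h : ξ ⤳ x) (b : X.presheaf.stalk x) (hb : IsUnit b) :
    Cyc.specMap x ξ h b ≠ 0 :=
  (hb.map (Cyc.specMap x ξ h)).ne_zero

theorem ordAt_specMap_unit [IsLocallyNoetherian X] {δ : X → ℤ} (hδ : Cyc.IsDimFun X δ) (x ξ : X)
    (h : ξ ⤳ x) (hd : δ x + 1 = δ ξ) (b : X.presheaf.stalk x) (hb : IsUnit b) :
    Cyc.ordAt x ξ h (Cyc.specMap x ξ h b) = 0 := by
  rw [ordAt_specMap hδ x ξ h hd b (specMap_ne_zero_of_isUnit x ξ h b hb),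
    Ring.ord_of_isUnit (hb.map (Ideal.Quotient.mk (RingHom.ker (Cyc.specMap x ξ h))))]
  rfl

theorem deltaCompat_id (δ : X → ℤ) : Cyc.DeltaCompat (𝟙 X) δ δ :=
  deltaCompat_iso (Iso.refl X) δ

/-- the dimension function induced on the base by a section. -/
theorem delta_sect (π : P ⟶ X) (s : X ⟶ P) [IsClosedImmersion s] (hs : s ≫ π = 𝟙 X)
    (δ : X → ℤ) (δP : P → ℤ) (hP : Cyc.DeltaCompat π δP δ) (x : X) : δP (s x) = δ x := by
  have h1 : Cyc.DeltaCompat (s ≫ π) (fun x => δP (s x)) δ :=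
    deltaCompat_comp_closedImmersion s π δP δ hP
  rw [hs] at h1
  exact congrFun (deltaCompat_unique (𝟙 X) h1 (deltaCompat_id δ)) x

theorem deltaCompat_closedImmersion' {D S : Scheme.{u}} (i : D ⟶ S) [IsClosedImmersion i]
    (δ : S → ℤ) : Cyc.DeltaCompat i (fun d => δ (i d)) δ := by
  rw [deltaCompat_iff]
  intro d
  exact ⟨0, by rw [resTrdeg_eq_zero_of_universallyInjective i d]; simp, by simp⟩

theorem deltaCompat_sect (π : P ⟶ X) (s : X ⟶ P) [IsClosedImmersion s] (hs : s ≫ π = 𝟙 X)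
    (δ : X → ℤ) (δP : P → ℤ) (hP : Cyc.DeltaCompat π δP δ) : Cyc.DeltaCompat s δ δP := by
  have h1 : δ = fun x => δP (s x) := funext fun x => (delta_sect π s hs δ δP hP x).symm
  rw [h1]
  exact deltaCompat_closedImmersion' s δP

theorem map_congr_hom' {A B : Scheme.{u}} {f g : A ⟶ B} [QuasiCompact f] [QuasiCompact g]
    (h : f = g) (wx : A → ℤ) (wy : B → ℤ) (c : AlgebraicCycle A ℤ) :
    AlgebraicCycle.map f wx wy c = AlgebraicCycle.map g wx wy c := by
  subst h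
  rfl

/-- pushing forward along a section and then along the projection is the identity. -/
theorem map_map_sect (π : P ⟶ X) [IsProper π] (s : X ⟶ P) [IsClosedImmersion s]
    (hs : s ≫ π = 𝟙 X) (δ : X → ℤ) (δP : P → ℤ) (hX : Cyc.IsSetup X δ) (hPs : Cyc.IsSetup P δP)
    (hP : Cyc.DeltaCompat π δP δ) (k : ℤ) (α : AlgebraicCycle X ℤ) (hα : α ∈ Cyc.Zk X δ k) :
    AlgebraicCycle.map π δP δ (AlgebraicCycle.map s δ δP α) = α := by
  rw [Groth.Agent.S1859.result X P X δ δP δ hX hPs hX s π (deltaCompat_sect π s hs δ δP hP) hP k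
    α hα]
  rw [map_congr_hom' hs δ δ α]
  exact AlgebraicCycle.map_id δ α

end Part1

section Part2

open AlgebraicGeometry CategoryTheory CategoryTheory.Limits TopologicalSpace Topology IsLocalRing
  Groth.Agent.Lib.R2H1.RatEquivClosed Groth.Agent.Lib.R2H1.LocQuot
  Groth.Agent.Lib.R2H1.ChowDesc Groth.Agent.Lib.R2H1.IsoTransport
  Groth.Agent.Lib.R2H1.RelCartier Groth.Agent.Lib.R2H1.PullInv Groth.Agent.Lib.R2H1.C1Rel

variable {P X : Scheme.{u}}

/-- two disjoint sections `s0`, `s1` of `P → X` cut out, locally, by a rational function `Φ` and its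
inverse. -/
structure IsLineData (s0 s1 : X ⟶ P) (Φ : (p : P) → P.residueField p) : Prop where
  zero : ∀ x : X, ∃ b : P.presheaf.stalk (s0 x),
    RingHom.ker (s0.stalkMap x).hom = Ideal.span {b} ∧
    ∀ (ξ : P) (h : ξ ⤳ s0 x), ξ ∉ Set.range s0 → ξ ∉ Set.range s1 →
      Cyc.specMap (s0 x) ξ h b = Φ ξ
  infty : ∀ x : X, ∃ b : P.presheaf.stalk (s1 x),
    RingHom.ker (s1.stalkMap x).hom = Ideal.span {b} ∧
    ∀ (ξ : P) (h : ξ ⤳ s1 x), ξ ∉ Set.range s0 → ξ ∉ Set.range s1 →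
      Cyc.specMap (s1 x) ξ h b = (Φ ξ)⁻¹
  unit : ∀ p : P, p ∉ Set.range s0 → p ∉ Set.range s1 →
    ∃ b : P.presheaf.stalk p, IsUnit b ∧ ∀ (ξ : P) (h : ξ ⤳ p), Cyc.specMap p ξ h b = Φ ξ
  disj : ∀ x x' : X, s0 x ≠ s1 x'

theorem IsLineData.ne_zero {s0 s1 : X ⟶ P} {Φ : (p : P) → P.residueField p}
    (hΦ : IsLineData s0 s1 Φ) (ξ : P) (h0 : ξ ∉ Set.range s0) (h1 : ξ ∉ Set.range s1) :
    Φ ξ ≠ 0 := by
  obtain ⟨b, hb, hbΦ⟩ := hΦ.unit ξ h0 h1
  rw [← hbΦ ξ specializes_rfl]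
  exact specMap_ne_zero_of_isUnit ξ ξ _ b hb

theorem notMem_range_of_specializes (s : X ⟶ P) [IsClosedImmersion s] {ξ p : P} (h : ξ ⤳ p)
    (hp : p ∉ Set.range s) : ξ ∉ Set.range s := by
  intro hξ
  apply hp
  have hcl : IsClosed (Set.range s) := s.isClosedEmbedding.isClosed_range
  exact hcl.closure_subset_iff.mpr (Set.singleton_subset_iff.mpr hξ)
    (specializes_iff_mem_closure.mp h)

/-- rewriting the sum of divisors as a sum over all points. -/
theorem finsum_divFun_eq (δP : P → ℤ) (hPs : Cyc.IsSetup P δP) (Φ : (p : P) → P.residueField p)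
    (μ : P → ℤ) (hΦ0 : ∀ ξ, μ ξ ≠ 0 → Φ ξ ≠ 0) (p : P) :
    ∑ᶠ ξ : {ξ : P // μ ξ ≠ 0}, Cyc.divFun δP ξ.1 (Φ ξ.1 ^ μ ξ.1) p =
      ∑ᶠ ξ : P, μ ξ * Cyc.divFun δP ξ (Φ ξ) p := by
  rw [finsum_comp_of_injective (Subtype.val : {ξ : P // μ ξ ≠ 0} → P) Subtype.val_injective
    (fun ξ => μ ξ * Cyc.divFun δP ξ (Φ ξ) p)]
  · refine finsum_congr (fun ξ => ?_)
    exact divFun_zpow δP hPs ξ.1 p (hΦ0 ξ.1 ξ.2) (μ ξ.1)
  · intro ξ hξ
    exact ⟨⟨ξ, fun h0 => hξ (by rw [h0, zero_mul])⟩, rfl⟩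

open Classical in
/-- the pointwise identity on `P`. -/
theorem key_pointwise (s0 s1 : X ⟶ P) [IsClosedImmersion s0] [IsClosedImmersion s1]
    (δ : X → ℤ) (δP : P → ℤ) (hPs : Cyc.IsSetup P δP)
    (hδ0 : ∀ x, δP (s0 x) = δ x) (hδ1 : ∀ x, δP (s1 x) = δ x)
    (Φ : (p : P) → P.residueField p) (hΦ : IsLineData s0 s1 Φ) (k : ℤ) (μ : P → ℤ)
    (hμ1 : ∀ ξ, μ ξ ≠ 0 → δP ξ = k + 1 ∧ ξ ∉ Set.range s0 ∧ ξ ∉ Set.range s1)
    (α β : AlgebraicCycle X ℤ) (hα0 : α ∈ Cyc.Zk X δ k) (hβ0 : β ∈ Cyc.Zk X δ k)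
    (hα1 : ∀ x, δ x = k → ∀ b : P.presheaf.stalk (s0 x),
      RingHom.ker (s0.stalkMap x).hom = Ideal.span {b} →
      (∀ (ξ : P) (h : ξ ⤳ s0 x), ξ ∉ Set.range s0 → ξ ∉ Set.range s1 →
        Cyc.specMap (s0 x) ξ h b = Φ ξ) →
      α x = ∑ᶠ ξ : P, if h : ξ ⤳ s0 x ∧ δP (s0 x) + 1 = δP ξ then
        μ ξ * Cyc.ordAt (s0 x) ξ h.1 (Cyc.specMap (s0 x) ξ h.1 b) else 0)
    (hβ1 : ∀ x, δ x = k → ∀ b : P.presheaf.stalk (s1 x),
      RingHom.ker (s1.stalkMap x).hom = Ideal.span {b} →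
      (∀ (ξ : P) (h : ξ ⤳ s1 x), ξ ∉ Set.range s0 → ξ ∉ Set.range s1 →
        Cyc.specMap (s1 x) ξ h b = (Φ ξ)⁻¹) →
      β x = ∑ᶠ ξ : P, if h : ξ ⤳ s1 x ∧ δP (s1 x) + 1 = δP ξ then
        μ ξ * Cyc.ordAt (s1 x) ξ h.1 (Cyc.specMap (s1 x) ξ h.1 b) else 0)
    (p : P) :
    (AlgebraicCycle.map s0 δ δP α - AlgebraicCycle.map s1 δ δP β) p =
      ∑ᶠ ξ : P, μ ξ * Cyc.divFun δP ξ (Φ ξ) p := by
  haveI : IsLocallyNoetherian P := hPs.1
  rw [Function.locallyFinsuppWithin.coe_sub, Pi.sub_apply]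
  -- vanishing of the terms when `δP p ≠ k`
  have hterm0 : δP p ≠ k → ∀ ξ, μ ξ * Cyc.divFun δP ξ (Φ ξ) p = 0 := by
    intro hpk ξ
    by_cases hμ : μ ξ = 0
    · rw [hμ, zero_mul]
    · by_cases hd : Cyc.divFun δP ξ (Φ ξ) p = 0
      · rw [hd, mul_zero]
      · exfalso
        have h1 := (divFun_ne_zero_specializes hd).2
        have h2 := (hμ1 ξ hμ).1
        omega
  by_cases hp0 : p ∈ Set.range s0
  · obtain ⟨x, rfl⟩ := hp0
    have hns1 : s0 x ∉ Set.range s1 := fun ⟨x', hx'⟩ => hΦ.disj x x' hx'.symm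
    rw [map_apply_of_injective' s0 s0.isClosedEmbedding.injective δ δP α x (hδ0 x).symm,
      map_apply_of_notMem_range s1 δ δP β _ hns1, sub_zero]
    by_cases hxk : δ x = k
    · obtain ⟨b, hb, hbΦ⟩ := hΦ.zero x
      rw [hα1 x hxk b hb hbΦ]
      refine finsum_congr (fun ξ => ?_)
      unfold Cyc.divFun
      by_cases hc : ξ ⤳ s0 x ∧ δP (s0 x) + 1 = δP ξ
      · rw [dif_pos hc, dif_pos hc]
        by_cases hμ : μ ξ = 0
        · rw [hμ, zero_mul, zero_mul]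
        · obtain ⟨-, hξ0, hξ1⟩ := hμ1 ξ hμ
          rw [hbΦ ξ hc.1 hξ0 hξ1]
      · rw [dif_neg hc, dif_neg hc, mul_zero]
    · rw [hα0 x hxk]
      symm
      apply finsum_eq_zero_of_forall_eq_zero
      exact hterm0 (by rw [hδ0]; exact hxk)
  · by_cases hp1 : p ∈ Set.range s1
    · obtain ⟨x, rfl⟩ := hp1
      rw [map_apply_of_injective' s1 s1.isClosedEmbedding.injective δ δP β x (hδ1 x).symm,
        map_apply_of_notMem_range s0 δ δP α _ hp0, zero_sub]
      by_cases hxk : δ x = k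
      · obtain ⟨b, hb, hbΦ⟩ := hΦ.infty x
        rw [hβ1 x hxk b hb hbΦ, ← finsum_neg_distrib]
        refine finsum_congr (fun ξ => ?_)
        unfold Cyc.divFun
        by_cases hc : ξ ⤳ s1 x ∧ δP (s1 x) + 1 = δP ξ
        · rw [dif_pos hc, dif_pos hc]
          by_cases hμ : μ ξ = 0
          · rw [hμ, zero_mul, zero_mul, neg_zero]
          · obtain ⟨-, hξ0, hξ1⟩ := hμ1 ξ hμ
            rw [hbΦ ξ hc.1 hξ0 hξ1, ordAt_inv]
            ring
        · rw [dif_neg hc, dif_neg hc, mul_zero, neg_zero]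
      · rw [hβ0 x hxk, neg_zero]
        symm
        apply finsum_eq_zero_of_forall_eq_zero
        exact hterm0 (by rw [hδ1]; exact hxk)
    · rw [map_apply_of_notMem_range s0 δ δP α _ hp0,
        map_apply_of_notMem_range s1 δ δP β _ hp1, sub_zero]
      symm
      apply finsum_eq_zero_of_forall_eq_zero
      intro ξ
      obtain ⟨b, hb, hbΦ⟩ := hΦ.unit p hp0 hp1
      unfold Cyc.divFun
      by_cases hc : ξ ⤳ p ∧ δP p + 1 = δP ξ
      · rw [dif_pos hc, ← hbΦ ξ hc.1, ordAt_specMap_unit hPs.2.2 p ξ hc.1 hc.2 b hb, mul_zero]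
      · rw [dif_neg hc, mul_zero]

end Part2

section Part3

open AlgebraicGeometry CategoryTheory CategoryTheory.Limits TopologicalSpace Topology IsLocalRing
  Groth.Agent.Lib.R2H1.RatEquivClosed Groth.Agent.Lib.R2H1.LocQuot
  Groth.Agent.Lib.R2H1.ChowDesc Groth.Agent.Lib.R2H1.IsoTransport
  Groth.Agent.Lib.R2H1.RelCartier Groth.Agent.Lib.R2H1.PullInv Groth.Agent.Lib.R2H1.C1Rel

variable {P X : Scheme.{u}}

open Classical in
/-- **the fibres over the two sections are rationally equivalent**, in abstract form: the cycles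
`α`, `β` on `X` are given at a point `x` of dimension `k` by the sum over the `(k+1)`-dimensional
points `ξ` through `s0 x` (resp. `s1 x`) of the multiplicity `μ ξ` times the order along `ξ` of a
local equation of the section. -/
theorem ratEquiv_of_lineData (π : P ⟶ X) [IsProper π] (s0 s1 : X ⟶ P) [IsClosedImmersion s0]
    [IsClosedImmersion s1] (hs0 : s0 ≫ π = 𝟙 X) (hs1 : s1 ≫ π = 𝟙 X)
    (δ : X → ℤ) (δP : P → ℤ) (hX : Cyc.IsSetup X δ) (hPs : Cyc.IsSetup P δP)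
    (hP : Cyc.DeltaCompat π δP δ)
    (Φ : (p : P) → P.residueField p) (hΦ : IsLineData s0 s1 Φ) (k : ℤ) (μ : P → ℤ)
    (hμ1 : ∀ ξ, μ ξ ≠ 0 → δP ξ = k + 1 ∧ ξ ∉ Set.range s0 ∧ ξ ∉ Set.range s1)
    (hμ2 : ∀ p : P, ∃ U : Set P, IsOpen U ∧ p ∈ U ∧
      {ξ : P | μ ξ ≠ 0 ∧ (closure {ξ} ∩ U).Nonempty}.Finite)
    (α β : AlgebraicCycle X ℤ) (hα0 : α ∈ Cyc.Zk X δ k) (hβ0 : β ∈ Cyc.Zk X δ k)
    (hα1 : ∀ x, δ x = k → ∀ b : P.presheaf.stalk (s0 x),
      RingHom.ker (s0.stalkMap x).hom = Ideal.span {b} →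
      (∀ (ξ : P) (h : ξ ⤳ s0 x), ξ ∉ Set.range s0 → ξ ∉ Set.range s1 →
        Cyc.specMap (s0 x) ξ h b = Φ ξ) →
      α x = ∑ᶠ ξ : P, if h : ξ ⤳ s0 x ∧ δP (s0 x) + 1 = δP ξ then
        μ ξ * Cyc.ordAt (s0 x) ξ h.1 (Cyc.specMap (s0 x) ξ h.1 b) else 0)
    (hβ1 : ∀ x, δ x = k → ∀ b : P.presheaf.stalk (s1 x),
      RingHom.ker (s1.stalkMap x).hom = Ideal.span {b} →
      (∀ (ξ : P) (h : ξ ⤳ s1 x), ξ ∉ Set.range s0 → ξ ∉ Set.range s1 →
        Cyc.specMap (s1 x) ξ h b = (Φ ξ)⁻¹) →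
      β x = ∑ᶠ ξ : P, if h : ξ ⤳ s1 x ∧ δP (s1 x) + 1 = δP ξ then
        μ ξ * Cyc.ordAt (s1 x) ξ h.1 (Cyc.specMap (s1 x) ξ h.1 b) else 0) :
    Cyc.RatEquiv δ k α β := by
  have hδ0 : ∀ x, δP (s0 x) = δ x := delta_sect π s0 hs0 δ δP hP
  have hδ1 : ∀ x, δP (s1 x) = δ x := delta_sect π s1 hs1 δ δP hP
  have hΦ0 : ∀ ξ, μ ξ ≠ 0 → Φ ξ ≠ 0 := fun ξ hξ =>
    hΦ.ne_zero ξ (hμ1 ξ hξ).2.1 (hμ1 ξ hξ).2.2
  have hrat : Cyc.RatEquiv δP k (AlgebraicCycle.map s0 δ δP α) (AlgebraicCycle.map s1 δ δP β) := by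
    refine ⟨{ξ : P // μ ξ ≠ 0}, fun ξ => ξ.1, fun ξ => Φ ξ.1 ^ μ ξ.1, ?_, ?_, ?_, ?_⟩
    · intro ξ
      exact (hμ1 ξ.1 ξ.2).1
    · intro ξ
      exact zpow_ne_zero _ (hΦ0 ξ.1 ξ.2)
    · intro p
      obtain ⟨U, hU, hpU, hfin⟩ := hμ2 p
      refine ⟨U, hU, hpU, ?_⟩
      refine (hfin.preimage (Subtype.val_injective.injOn)).subset ?_
      intro ξ hξ
      exact ⟨ξ.2, hξ⟩
    · intro p
      rw [finsum_divFun_eq δP hPs Φ μ hΦ0 p]
      exact key_pointwise s0 s1 δ δP hPs hδ0 hδ1 Φ hΦ k μ hμ1 α β hα0 hβ0 hα1 hβ1 p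
  have hpush := Groth.Agent.Lib.R2H1.ProperPushRat.main P X δP δ hPs hX π hP k _ _ hrat
  rw [map_map_sect π s0 hs0 δ δP hX hPs hP k α hα0,
    map_map_sect π s1 hs1 δ δP hX hPs hP k β hβ0] at hpush
  exact hpush

end Part3

section Part4

open AlgebraicGeometry CategoryTheory CategoryTheory.Limits TopologicalSpace Topology IsLocalRing
  Groth.Agent.Lib.R2H1.RatEquivClosed Groth.Agent.Lib.R2H1.RatEquivOpen
  Groth.Agent.Lib.R2H1.LocQuot
  Groth.Agent.Lib.R2H1.PullInv Groth.Agent.Lib.R2H1.PullbackKer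

variable {P Z : Scheme.{u}}

/-- the multiplicity of a closed subscheme at a point of the ambient scheme. -/
noncomputable def multAt (ι : Z ⟶ P) (ξ : P) : ℤ :=
  ∑ᶠ z ∈ {z : Z | ι z = ξ}, ((Module.length (Z.presheaf.stalk z) (Z.presheaf.stalk z)).toNat : ℤ)

theorem multAt_apply (ι : Z ⟶ P) [IsClosedImmersion ι] (z : Z) :
    multAt ι (ι z) = ((Module.length (Z.presheaf.stalk z) (Z.presheaf.stalk z)).toNat : ℤ) := by
  unfold multAt
  have hset : {z' : Z | ι z' = ι z} = {z} := by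
    ext z'
    simp only [Set.mem_setOf_eq, Set.mem_singleton_iff]
    exact ⟨fun h => ι.isClosedEmbedding.injective h, fun h => h ▸ rfl⟩
  rw [hset, finsum_mem_singleton]

theorem multAt_of_notMem (ι : Z ⟶ P) (ξ : P) (h : ξ ∉ Set.range ι) : multAt ι ξ = 0 := by
  unfold multAt
  apply finsum_mem_eq_zero_of_forall_eq_zero
  intro z hz
  exact absurd ⟨z, hz⟩ h

theorem subschemeFun_eq_multAt (δP : P → ℤ) (k : ℤ) (ι : Z ⟶ P) (ξ : P) (h : δP ξ = k) :
    Cyc.subschemeFun δP k ι ξ = multAt ι ξ := by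
  unfold Cyc.subschemeFun multAt
  rw [if_pos h]

/-- a zero divisor of a Noetherian local ring of a scheme lies in the prime of a generization
associated to the ring. -/
theorem mem_nonZeroDivisors_of_specMap_ne_zero [IsLocallyNoetherian Z] (z : Z)
    (c : Z.presheaf.stalk z)
    (hm : ¬ IsAssociatedPrime (maximalIdeal (Z.presheaf.stalk z)) (Z.presheaf.stalk z))
    (hne : ∀ (ξ : Z) (h : ξ ⤳ z), ξ ≠ z → Cyc.specMap z ξ h c ≠ 0) :
    c ∈ nonZeroDivisors (Z.presheaf.stalk z) := by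
  by_contra hc
  have h1 : c ∈ (nonZeroDivisors (Z.presheaf.stalk z) : Set (Z.presheaf.stalk z))ᶜ := hc
  rw [← biUnion_associatedPrimes_eq_compl_nonZeroDivisors] at h1
  obtain ⟨q, hq, hcq⟩ := Set.mem_iUnion₂.mp h1
  have hqa : IsAssociatedPrime q (Z.presheaf.stalk z) := hq
  haveI hqp : q.IsPrime := hqa.isPrime
  by_cases hqm : q = maximalIdeal (Z.presheaf.stalk z)
  · exact hm (hqm ▸ hqa)
  · have hsp : Z.fromSpecStalk z ⟨q, hqp⟩ ⤳ z := by
      have : Z.fromSpecStalk z ⟨q, hqp⟩ ∈ Set.range (Z.fromSpecStalk z) := ⟨_, rfl⟩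
      rwa [Scheme.range_fromSpecStalk] at this
    have hne' := fromSpecStalk_ne_of_ne_maximal z ⟨q, hqp⟩ hqm
    have hker := ker_specMap_fromSpecStalk z q hsp
    apply hne _ hsp hne'
    rw [← RingHom.mem_ker, hker]
    exact hcq

open Classical in
/-- the local computation on a closed subscheme `Z` of `P`: the length of `O_{Z,z}/(b)` as a sum
over the points of `P` of dimension one more through `ι z`. -/
theorem length_quot_eq_finsum (ι : Z ⟶ P) [IsClosedImmersion ι] (δP : P → ℤ)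
    (hPs : Cyc.IsSetup P δP) (z : Z) (p : P) (e : ι z = p) (b : P.presheaf.stalk p)
    (hdim : ∀ ξ' : Z, ξ' ⤳ z → δP (ι ξ') ≤ δP p + 1)
    (hm : ¬ IsAssociatedPrime (maximalIdeal (Z.presheaf.stalk z)) (Z.presheaf.stalk z))
    (hne : ∀ (ξ' : Z) (h : ι ξ' ⤳ p), ξ' ≠ z → Cyc.specMap p (ι ξ') h b ≠ 0) :
    ((Module.length (Z.presheaf.stalk z) (Z.presheaf.stalk z ⧸
        Ideal.span {(ι.stalkMap z).hom
          ((P.presheaf.stalkSpecializes (specializes_of_eq e)).hom b)})).toNat : ℤ) =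
      ∑ᶠ ξ : P, if h : ξ ⤳ p ∧ δP p + 1 = δP ξ then
        multAt ι ξ * Cyc.ordAt p ξ h.1 (Cyc.specMap p ξ h.1 b) else 0 := by
  subst e
  have hZs : Cyc.IsSetup Z (fun z => δP (ι z)) := isSetup_of_closedImmersion ι hPs
  haveI : IsLocallyNoetherian Z := hZs.1
  have hid : (P.presheaf.stalkSpecializes (specializes_of_eq (rfl : ι z = ι z))).hom b = b := by
    have : P.presheaf.stalkSpecializes (specializes_of_eq (rfl : ι z = ι z)) = 𝟙 _ :=
      TopCat.Presheaf.stalkSpecializes_refl _ _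
    rw [this]
    rfl
  rw [hid]
  have hmapsp : ∀ {ξ' : Z}, ξ' ⤳ z → ι ξ' ⤳ ι z := fun h => ι.base.hom.map_specializes h
  have hne2 : ∀ (ξ' : Z) (h : ξ' ⤳ z), ξ' ≠ z →
      Cyc.specMap z ξ' h ((ι.stalkMap z).hom b) ≠ 0 := by
    intro ξ' h hξ'
    rw [specMap_comp_stalkMap]
    exact (map_ne_zero_iff _ (RingHom.injective _)).mpr (hne ξ' (hmapsp h) hξ')
  have hreg := mem_nonZeroDivisors_of_specMap_ne_zero z ((ι.stalkMap z).hom b) hm hne2
  rw [length_eq_finsum hZs.2.2 z hdim ((ι.stalkMap z).hom b) hreg hne2]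
  symm
  rw [finsum_comp_of_injective ι ι.isClosedEmbedding.injective]
  · refine finsum_congr (fun ξ' => ?_)
    have hiff : (ξ' ⤳ z) ↔ (ι ξ' ⤳ ι z) := (ι.isEmbedding.isInducing.specializes_iff).symm
    by_cases hc : ξ' ⤳ z ∧ δP (ι z) + 1 = δP (ι ξ')
    · rw [dif_pos hc, dif_pos ⟨hiff.mp hc.1, hc.2⟩, multAt_apply, specMap_comp_stalkMap,
        ordAt_of_surjectiveOnStalks]
    · rw [dif_neg hc, dif_neg]
      rintro ⟨h1, h2⟩
      exact hc ⟨hiff.mpr h1, h2⟩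
  · intro ξ hξ
    by_contra hr
    apply hξ
    split_ifs with hc
    · rw [multAt_of_notMem ι ξ hr, zero_mul]
    · rfl

end Part4

section Part5

open AlgebraicGeometry CategoryTheory CategoryTheory.Limits TopologicalSpace Topology IsLocalRing
  Groth.Agent.Lib.R2H1.RatEquivClosed Groth.Agent.Lib.R2H1.RatEquivOpen
  Groth.Agent.Lib.R2H1.LocQuot
  Groth.Agent.Lib.R2H1.PullInv Groth.Agent.Lib.R2H1.PullbackKer

variable {P Z X : Scheme.{u}}

theorem thetaC_eq (ι : Z ⟶ P) (s : X ⟶ P) (z' : ↥(pullback ι s))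
    (b : P.presheaf.stalk (s (pullback.snd ι s z'))) :
    (thetaC ι s z').hom b = (ι.stalkMap (pullback.fst ι s z')).hom
      ((P.presheaf.stalkSpecializes (specializes_of_eq (pullback_cond_apply ι s z'))).hom b) :=
  rfl

/-- the length of the local ring of the fibre of `Z` over a section with principal ideal. -/
theorem length_fibre (ι : Z ⟶ P) (s : X ⟶ P) [IsClosedImmersion s] (z' : ↥(pullback ι s))
    (b : P.presheaf.stalk (s (pullback.snd ι s z')))
    (hb : RingHom.ker (s.stalkMap (pullback.snd ι s z')).hom = Ideal.span {b}) :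
    Module.length ((pullback ι s).presheaf.stalk z') ((pullback ι s).presheaf.stalk z') =
      Module.length (Z.presheaf.stalk (pullback.fst ι s z'))
        (Z.presheaf.stalk (pullback.fst ι s z') ⧸ Ideal.span {(thetaC ι s z').hom b}) := by
  have hker := ker_fst_stalkMap ι s z'
  rw [hb, Ideal.map_span, Set.image_singleton] at hker
  rw [← hker]
  exact (Groth.Agent.Lib.R2H1.PullInv3.length_quot_ker_of_surjective
    ((pullback.fst ι s).stalkMap z').hom ((pullback.fst ι s).stalkMap_surjective z')).symm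

open Classical in
/-- the coefficient of `[Z_s]_k` at a point `x` of dimension `k`, for the fibre `Z_s` of a closed
subscheme `Z` of `P` over a section `s` with principal ideal. -/
theorem subschemeFun_fibre_eq (ι : Z ⟶ P) [IsClosedImmersion ι] (s : X ⟶ P) [IsClosedImmersion s]
    (δ : X → ℤ) (δP : P → ℤ) (hPs : Cyc.IsSetup P δP) (hδs : ∀ x, δP (s x) = δ x) (k : ℤ)
    (hZ : ∀ z : Z, δP (ι z) ≤ k + 1)
    (hemb : ∀ z : Z, IsAssociatedPrime (maximalIdeal (Z.presheaf.stalk z)) (Z.presheaf.stalk z) →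
      ι z ∉ Set.range s ∨ δP (ι z) < k)
    (x : X) (hx : δ x = k) (b : P.presheaf.stalk (s x))
    (hb : RingHom.ker (s.stalkMap x).hom = Ideal.span {b})
    (hne : ∀ (ξ' : Z) (h : ι ξ' ⤳ s x), δP (ι ξ') = k + 1 → Cyc.specMap (s x) (ι ξ') h b ≠ 0) :
    Cyc.subschemeFun δ k (pullback.snd ι s) x =
      ∑ᶠ ξ : P, if h : ξ ⤳ s x ∧ δP (s x) + 1 = δP ξ then
        Cyc.subschemeFun δP (k + 1) ι ξ * Cyc.ordAt (s x) ξ h.1 (Cyc.specMap (s x) ξ h.1 b)
      else 0 := by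
  have hPk : δP (s x) = k := (hδs x).trans hx
  -- replace `subschemeFun` by `multAt` on the right
  have hR : (∑ᶠ ξ : P, if h : ξ ⤳ s x ∧ δP (s x) + 1 = δP ξ then
        Cyc.subschemeFun δP (k + 1) ι ξ * Cyc.ordAt (s x) ξ h.1 (Cyc.specMap (s x) ξ h.1 b)
      else 0) = ∑ᶠ ξ : P, if h : ξ ⤳ s x ∧ δP (s x) + 1 = δP ξ then
        multAt ι ξ * Cyc.ordAt (s x) ξ h.1 (Cyc.specMap (s x) ξ h.1 b) else 0 := by
    refine finsum_congr (fun ξ => ?_)
    by_cases hc : ξ ⤳ s x ∧ δP (s x) + 1 = δP ξ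
    · rw [dif_pos hc, dif_pos hc, subschemeFun_eq_multAt δP (k + 1) ι ξ (by omega)]
    · rw [dif_neg hc, dif_neg hc]
  rw [hR]
  unfold Cyc.subschemeFun
  rw [if_pos hx]
  by_cases hr : x ∈ Set.range (pullback.snd ι s)
  · obtain ⟨z', rfl⟩ := hr
    have hset : {z'' : ↥(pullback ι s) | pullback.snd ι s z'' = pullback.snd ι s z'} = {z'} := by
      ext z''
      simp only [Set.mem_setOf_eq, Set.mem_singleton_iff]
      exact ⟨fun h => (pullback.snd ι s).isClosedEmbedding.injective h, fun h => h ▸ rfl⟩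
    rw [hset, finsum_mem_singleton, length_fibre ι s z' b hb, thetaC_eq]
    have he := pullback_cond_apply ι s z'
    refine length_quot_eq_finsum ι δP hPs (pullback.fst ι s z') (s (pullback.snd ι s z')) he b
      ?_ ?_ ?_
    · intro ξ' _
      have := hZ ξ'
      omega
    · intro hass
      rcases hemb _ hass with h1 | h1
      · exact h1 ⟨_, he.symm⟩
      · rw [he] at h1
        omega
    · intro ξ' h hξ'
      apply hne ξ' h
      have hne' : ι ξ' ≠ s (pullback.snd ι s z') := by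
        rw [← he]
        exact fun h' => hξ' (ι.isClosedEmbedding.injective h')
      have h1 := (hPs.2.2 _ _ h hne').1
      have h2 := hZ ξ'
      omega
  · have h0 : (∑ᶠ z ∈ {z : ↥(pullback ι s) | pullback.snd ι s z = x},
        ((Module.length ((pullback ι s).presheaf.stalk z)
          ((pullback ι s).presheaf.stalk z)).toNat : ℤ)) = 0 :=
      finsum_mem_eq_zero_of_forall_eq_zero (fun z' hz' => absurd ⟨z', hz'⟩ hr)
    rw [h0]
    symm
    apply finsum_eq_zero_of_forall_eq_zero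
    intro ξ
    by_cases hc : ξ ⤳ s x ∧ δP (s x) + 1 = δP ξ
    · rw [dif_pos hc]
      by_cases hξ : ξ ∈ Set.range ι
      · exfalso
        apply hr
        have hcl : IsClosed (Set.range ι) := ι.isClosedEmbedding.isClosed_range
        have hsx : s x ∈ Set.range ι :=
          hcl.closure_subset_iff.mpr (Set.singleton_subset_iff.mpr hξ)
            (specializes_iff_mem_closure.mp hc.1)
        obtain ⟨z, hz⟩ := hsx
        obtain ⟨z', -, hz'⟩ := Scheme.Pullback.exists_preimage_pullback (f := ι) (g := s) z x hz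
        exact ⟨z', hz'⟩
      · rw [multAt_of_notMem ι ξ hξ, zero_mul]
    · rw [dif_neg hc]

end Part5

section Part6

open AlgebraicGeometry CategoryTheory CategoryTheory.Limits TopologicalSpace Topology IsLocalRing
  Groth.Agent.Lib.R2H1.RatEquivClosed Groth.Agent.Lib.R2H1.RatEquivOpen
  Groth.Agent.Lib.R2H1.LocQuot
  Groth.Agent.Lib.R2H1.PullInv Groth.Agent.Lib.R2H1.PullbackKer

variable {P Z X : Scheme.{u}}

/-- the points of top dimension of a closed subscheme form a locally finite family. -/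
theorem locallyFinite_top_points (ι : Z ⟶ P) [IsClosedImmersion ι] (δP : P → ℤ)
    (hPs : Cyc.IsSetup P δP) (c : ℤ) (hZ : ∀ z : Z, δP (ι z) ≤ c) (p : P) :
    ∃ U : Set P, IsOpen U ∧ p ∈ U ∧
      {ξ : P | (ξ ∈ Set.range ι ∧ δP ξ = c) ∧ (closure {ξ} ∩ U).Nonempty}.Finite := by
  haveI : IsLocallyNoetherian P := hPs.1
  haveI : IsLocallyNoetherian Z := (isSetup_of_closedImmersion ι hPs).1
  obtain ⟨U, hU, hpU, -⟩ := exists_isAffineOpen_mem_and_subset (X := P) (U := ⊤) (x := p) trivial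
  refine ⟨U, U.isOpen, hpU, ?_⟩
  set W : Z.Opens := ι ⁻¹ᵁ U with hW
  have hWa : IsAffineOpen W := hU.preimage ι
  haveI : IsNoetherianRing Γ(Z, W) := IsLocallyNoetherian.component_noetherian ⟨W, hWa⟩
  haveI hN : NoetherianSpace W := noetherianSpace_of_isAffineOpen W hWa
  haveI hN' : NoetherianSpace ((W : Set Z)) := hN
  haveI hQ : QuasiSober (W : Set Z) := W.isOpenEmbedding'.quasiSober
  have hfin := Groth.Agent.Lib.R2H1.FlatPullRat.finite_maximal_points (W : Set Z)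
  refine (hfin.image (fun w => ι w.1)).subset ?_
  rintro ξ ⟨⟨⟨ζ, rfl⟩, hζc⟩, ⟨y, hy1, hy2⟩⟩
  have hsp : ι ζ ⤳ y := specializes_iff_mem_closure.mpr hy1
  have hζU : ι ζ ∈ U := hsp.mem_open U.isOpen hy2
  refine ⟨⟨ζ, hζU⟩, ?_, rfl⟩
  intro w hw
  have hw' : w.1 ⤳ ζ := (Topology.IsInducing.subtypeVal.specializes_iff).mpr hw
  by_contra hne
  have hne' : w.1 ≠ ζ := fun h => hne (Subtype.ext h)
  have hsp' : ι w.1 ⤳ ι ζ := ι.base.hom.map_specializes hw'
  have hne'' : ι w.1 ≠ ι ζ := fun h => hne' (ι.isClosedEmbedding.injective h)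
  have h1 := (hPs.2.2 _ _ hsp' hne'').1
  have h2 := hZ w.1
  omega

end Part6

section Part7

open AlgebraicGeometry CategoryTheory CategoryTheory.Limits TopologicalSpace Topology IsLocalRing
  Groth.Agent.Lib.R2H1.RatEquivClosed Groth.Agent.Lib.R2H1.RatEquivOpen
  Groth.Agent.Lib.R2H1.LocQuot
  Groth.Agent.Lib.R2H1.PullInv Groth.Agent.Lib.R2H1.PullbackKer

variable {P Z X : Scheme.{u}}

/-- **the fibres of a closed subscheme over the two sections are rationally equivalent.** -/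
theorem ratEquiv_subscheme (π : P ⟶ X) [IsProper π] (s0 s1 : X ⟶ P) [IsClosedImmersion s0]
    [IsClosedImmersion s1] (hs0 : s0 ≫ π = 𝟙 X) (hs1 : s1 ≫ π = 𝟙 X)
    (δ : X → ℤ) (δP : P → ℤ) (hX : Cyc.IsSetup X δ) (hPs : Cyc.IsSetup P δP)
    (hP : Cyc.DeltaCompat π δP δ)
    (Φ : (p : P) → P.residueField p) (hΦ : IsLineData s0 s1 Φ) (k : ℤ)
    (ι : Z ⟶ P) [IsClosedImmersion ι] (hZ : ∀ z : Z, δP (ι z) ≤ k + 1)
    (hZ0 : ∀ z : Z, ι z ∈ Set.range s0 ∪ Set.range s1 → δP (ι z) ≤ k)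
    (hemb : ∀ z : Z, IsAssociatedPrime (maximalIdeal (Z.presheaf.stalk z)) (Z.presheaf.stalk z) →
      ι z ∉ Set.range s0 ∪ Set.range s1 ∨ δP (ι z) < k)
    (α β : AlgebraicCycle X ℤ) (hα : ⇑α = Cyc.subschemeFun δ k (pullback.snd ι s0))
    (hβ : ⇑β = Cyc.subschemeFun δ k (pullback.snd ι s1)) : Cyc.RatEquiv δ k α β := by
  have hδ0 : ∀ x, δP (s0 x) = δ x := delta_sect π s0 hs0 δ δP hP
  have hδ1 : ∀ x, δP (s1 x) = δ x := delta_sect π s1 hs1 δ δP hP
  have hoff : ∀ ξ' : Z, δP (ι ξ') = k + 1 → ι ξ' ∉ Set.range s0 ∧ ι ξ' ∉ Set.range s1 := by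
    intro ξ' hξ'
    constructor
    · intro h
      have := hZ0 ξ' (Or.inl h)
      omega
    · intro h
      have := hZ0 ξ' (Or.inr h)
      omega
  refine ratEquiv_of_lineData π s0 s1 hs0 hs1 δ δP hX hPs hP Φ hΦ k
    (Cyc.subschemeFun δP (k + 1) ι) ?_ ?_ α β ?_ ?_ ?_ ?_
  · intro ξ hξ
    have h1 : δP ξ = k + 1 := by
      by_contra hne
      apply hξ
      unfold Cyc.subschemeFun
      rw [if_neg hne]
    have h2 : ξ ∈ Set.range ι := by
      by_contra hne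
      apply hξ
      rw [subschemeFun_eq_multAt δP (k + 1) ι ξ h1, multAt_of_notMem ι ξ hne]
    obtain ⟨ξ', rfl⟩ := h2
    exact ⟨h1, hoff ξ' h1⟩
  · intro p
    obtain ⟨U, hU, hpU, hfin⟩ := locallyFinite_top_points ι δP hPs (k + 1) hZ p
    refine ⟨U, hU, hpU, hfin.subset ?_⟩
    rintro ξ ⟨hξ, hne⟩
    have h1 : δP ξ = k + 1 := by
      by_contra hne
      apply hξ
      unfold Cyc.subschemeFun
      rw [if_neg hne]
    have h2 : ξ ∈ Set.range ι := by
      by_contra hne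
      apply hξ
      rw [subschemeFun_eq_multAt δP (k + 1) ι ξ h1, multAt_of_notMem ι ξ hne]
    exact ⟨⟨h2, h1⟩, hne⟩
  · intro x hx
    rw [hα]
    unfold Cyc.subschemeFun
    rw [if_neg hx]
  · intro x hx
    rw [hβ]
    unfold Cyc.subschemeFun
    rw [if_neg hx]
  · intro x hx b hb hbΦ
    rw [hα]
    refine subschemeFun_fibre_eq ι s0 δ δP hPs hδ0 k hZ ?_ x hx b hb ?_
    · intro z hz
      rcases hemb z hz with h | h
      · exact Or.inl (fun h' => h (Or.inl h'))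
      · exact Or.inr h
    · intro ξ' h hξ'
      obtain ⟨h0, h1⟩ := hoff ξ' hξ'
      rw [hbΦ (ι ξ') h h0 h1]
      exact hΦ.ne_zero _ h0 h1
  · intro x hx b hb hbΦ
    rw [hβ]
    refine subschemeFun_fibre_eq ι s1 δ δP hPs hδ1 k hZ ?_ x hx b hb ?_
    · intro z hz
      rcases hemb z hz with h | h
      · exact Or.inl (fun h' => h (Or.inr h'))
      · exact Or.inr h
    · intro ξ' h hξ'
      obtain ⟨h0, h1⟩ := hoff ξ' hξ'
      rw [hbΦ (ι ξ') h h0 h1]
      exact inv_ne_zero (hΦ.ne_zero _ h0 h1)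

end Part7

end Groth.Agent.Lib.R2H1.P1Fibres
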