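/-
Graph closures in P^1_X: div_X(f) = [Y_0] - [Y_infty] for the closure Y of the graph of an invertible function; pointwise identities for the fibres at 0 and infinity of closed subschemes of P^1_X; images of integral schemes; norms along bijective residue field maps. (helper1)
-/
import Mathlib
import Groth.Prelude
import Groth.Agent.Lib.R2H1P1Geom
import Groth.Agent.Lib.R2H1P1Fibres
import Groth.Agent.S1906
import Groth.Agent.Lib.Helper11RedCl
import Groth.Agent.Lib.R2H1PerfCyc
import Groth.Agent.Lib.R2H1RelDimBC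
import Groth.Agent.Lib.R2H1RatEquivClosed
import Groth.Agent.Lib.R2H1ChowDesc
import Groth.Agent.Lib.R2H1MVClosed
import Groth.Agent.Lib.Helper27PMapSec

set_option autoImplicit false
set_option linter.style.haveILetI false
set_option linter.unusedSectionVars false
universe u v

namespace Groth.Agent.Lib.R2H1.P1Graph

section Part1

open AlgebraicGeometry CategoryTheory CategoryTheory.Limits TopologicalSpace Topology IsLocalRing
  Groth.Agent.Lib.R2H1.RatEquivClosed Groth.Agent.Lib.R2H1.RatEquivOpen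
  Groth.Agent.Lib.R2H1.LocQuot
  Groth.Agent.Lib.R2H1.PullInv Groth.Agent.Lib.R2H1.PullbackKer
  Groth.Agent.Lib.R2H1.P1Fibres

variable {P Z X : Scheme.{u}}

/-- the exact identity on `P` for a closed subscheme `Z`: `s0_*[Z_0]_k - s1_*[Z_1]_k` is the sum of
the divisors of `Φ` on the components of `Z` of dimension `k+1`, with multiplicities. -/
theorem pointwise_subscheme (π : P ⟶ X) (s0 s1 : X ⟶ P) [IsClosedImmersion s0]
    [IsClosedImmersion s1] (hs0 : s0 ≫ π = 𝟙 X) (hs1 : s1 ≫ π = 𝟙 X)
    (δ : X → ℤ) (δP : P → ℤ) (hPs : Cyc.IsSetup P δP)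
    (hP : Cyc.DeltaCompat π δP δ)
    (Φ : (p : P) → P.residueField p) (hΦ : IsLineData s0 s1 Φ) (k : ℤ)
    (ι : Z ⟶ P) [IsClosedImmersion ι] (hZ : ∀ z : Z, δP (ι z) ≤ k + 1)
    (hZ0 : ∀ z : Z, ι z ∈ Set.range s0 ∪ Set.range s1 → δP (ι z) ≤ k)
    (hemb : ∀ z : Z, IsAssociatedPrime (maximalIdeal (Z.presheaf.stalk z)) (Z.presheaf.stalk z) →
      ι z ∉ Set.range s0 ∪ Set.range s1 ∨ δP (ι z) < k)
    (α β : AlgebraicCycle X ℤ) (hα : ⇑α = Cyc.subschemeFun δ k (pullback.snd ι s0))
    (hβ : ⇑β = Cyc.subschemeFun δ k (pullback.snd ι s1)) (p : P) :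
    (AlgebraicCycle.map s0 δ δP α - AlgebraicCycle.map s1 δ δP β) p =
      ∑ᶠ ξ : P, Cyc.subschemeFun δP (k + 1) ι ξ * Cyc.divFun δP ξ (Φ ξ) p := by
  have hδ0 : ∀ x, δP (s0 x) = δ x := delta_sect π s0 hs0 δ δP hP
  have hδ1 : ∀ x, δP (s1 x) = δ x := delta_sect π s1 hs1 δ δP hP
  have hoff : ∀ ξ' : Z, δP (ι ξ') = k + 1 → ι ξ' ∉ Set.range s0 ∧ ι ξ' ∉ Set.range s1 := by
    intro ξ' hξ'
    constructor
    · intro h
      have := hZ0 ξ' (Or.inl h)
      omega
    · intro h
      have := hZ0 ξ' (Or.inr h)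
      omega
  refine key_pointwise s0 s1 δ δP hPs hδ0 hδ1 Φ hΦ k
    (Cyc.subschemeFun δP (k + 1) ι) ?_ α β ?_ ?_ ?_ ?_ p
  · intro ξ hξ
    have h1 : δP ξ = k + 1 := by
      by_contra hne
      apply hξ
      unfold Cyc.subschemeFun
      rw [if_neg hne]
    have h2 : ξ ∈ Set.range ι := by
      by_contra hne
      apply hξ
      rw [subschemeFun_eq_multAt δP (k + 1) ι ξ h1, multAt_of_notMem ι ξ hne]
    obtain ⟨ξ', rfl⟩ := h2
    exact ⟨h1, hoff ξ' h1⟩
  · intro x hx
    rw [hα]
    unfold Cyc.subschemeFun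
    rw [if_neg hx]
  · intro x hx
    rw [hβ]
    unfold Cyc.subschemeFun
    rw [if_neg hx]
  · intro x hx b hb hbΦ
    rw [hα]
    refine subschemeFun_fibre_eq ι s0 δ δP hPs hδ0 k hZ ?_ x hx b hb ?_
    · intro z hz
      rcases hemb z hz with h | h
      · exact Or.inl (fun h' => h (Or.inl h'))
      · exact Or.inr h
    · intro ξ' h hξ'
      obtain ⟨h0, h1⟩ := hoff ξ' hξ'
      rw [hbΦ (ι ξ') h h0 h1]
      exact hΦ.ne_zero _ h0 h1
  · intro x hx b hb hbΦ
    rw [hβ]
    refine subschemeFun_fibre_eq ι s1 δ δP hPs hδ1 k hZ ?_ x hx b hb ?_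
    · intro z hz
      rcases hemb z hz with h | h
      · exact Or.inl (fun h' => h (Or.inr h'))
      · exact Or.inr h
    · intro ξ' h hξ'
      obtain ⟨h0, h1⟩ := hoff ξ' hξ'
      rw [hbΦ (ι ξ') h h0 h1]
      exact inv_ne_zero (hΦ.ne_zero _ h0 h1)

/-- `[Z]_c` as a cycle, when `δ ≤ c` on `Z`. -/
noncomputable def subschemeCycle (i : Z ⟶ X) [IsClosedImmersion i] (δ : X → ℤ)
    (hX : Cyc.IsSetup X δ) (c : ℤ) (hdim : ∀ z : Z, δ (i z) ≤ c) : AlgebraicCycle X ℤ :=
  ⟨Cyc.subschemeFun δ c i, fun _ _ => Set.mem_univ _, fun x _ => by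
    obtain ⟨U, hUo, hxU, hfin⟩ := locallyFinite_top_points i δ hX c hdim x
    refine ⟨U, hUo.mem_nhds hxU, hfin.subset ?_⟩
    rintro ξ ⟨hξU, hξ⟩
    rw [Function.mem_support] at hξ
    have h1 : δ ξ = c := by
      by_contra hne
      apply hξ
      unfold Cyc.subschemeFun
      rw [if_neg hne]
    have h2 : ξ ∈ Set.range i := by
      by_contra hne
      apply hξ
      rw [subschemeFun_eq_multAt δ c i ξ h1, multAt_of_notMem i ξ hne]
    exact ⟨⟨h2, h1⟩, ⟨ξ, subset_closure rfl, hξU⟩⟩⟩

theorem subschemeCycle_coe (i : Z ⟶ X) [IsClosedImmersion i] (δ : X → ℤ)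
    (hX : Cyc.IsSetup X δ) (c : ℤ) (hdim : ∀ z : Z, δ (i z) ≤ c) :
    ⇑(subschemeCycle i δ hX c hdim) = Cyc.subschemeFun δ c i := rfl

/-- the hypotheses of the fibre theorem for an integral closed subscheme whose generic point is
off the sections. -/
theorem integral_hyps (s0 s1 : X ⟶ P) (δP : P → ℤ) (hPs : Cyc.IsSetup P δP) (k : ℤ)
    (W : Scheme.{u}) [IsIntegral W] (ι : W ⟶ P) [IsClosedImmersion ι]
    (hW : δP (ι (genericPoint W)) = k + 1)
    (h0 : ι (genericPoint W) ∉ Set.range s0) (h1 : ι (genericPoint W) ∉ Set.range s1) :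
    (∀ z : W, z ≠ genericPoint W → δP (ι z) < k + 1) ∧
    (∀ z : W, δP (ι z) ≤ k + 1) ∧
    (∀ z : W, ι z ∈ Set.range s0 ∪ Set.range s1 → δP (ι z) ≤ k) ∧
    (∀ z : W, IsAssociatedPrime (maximalIdeal (W.presheaf.stalk z)) (W.presheaf.stalk z) →
      ι z ∉ Set.range s0 ∪ Set.range s1 ∨ δP (ι z) < k) := by
  classical
  have hWs := isSetup_of_closedImmersion ι hPs
  haveI : IsLocallyNoetherian W := hWs.1
  have hlt : ∀ z : W, z ≠ genericPoint W → δP (ι z) < k + 1 := by
    intro z hz
    have hsp : genericPoint W ⤳ z := genericPoint_specializes z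
    have hsp' : ι (genericPoint W) ⤳ ι z := ι.base.hom.map_specializes hsp
    have hne : ι (genericPoint W) ≠ ι z := fun h => hz (ι.isClosedEmbedding.injective h).symm
    have := (hPs.2.2 _ _ hsp' hne).1
    omega
  refine ⟨hlt, ?_, ?_, ?_⟩
  · intro z
    by_cases hz : z = genericPoint W
    · rw [hz, hW]
    · exact (hlt z hz).le
  · intro z hz
    have hne : z ≠ genericPoint W := by
      rintro rfl
      rcases hz with h | h
      · exact h0 h
      · exact h1 h
    have := hlt z hne
    omega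
  · intro z hz
    left
    rw [isAssociatedPrime_iff] at hz
    obtain ⟨-, x, hx⟩ := hz
    have hbot : ∀ r : W.presheaf.stalk z, r ∈ IsLocalRing.maximalIdeal (W.presheaf.stalk z) →
        r = 0 := by
      intro r hr
      rw [hx, Submodule.mem_colon_singleton] at hr
      have hr' : r * x = 0 := by simpa using hr
      rcases mul_eq_zero.mp hr' with h | h
      · exact h
      · exfalso
        have h1' : (1 : W.presheaf.stalk z) ∈ IsLocalRing.maximalIdeal (W.presheaf.stalk z) := by
          rw [hx, Submodule.mem_colon_singleton, h]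
          simp
        exact (IsLocalRing.maximalIdeal.isMaximal _).ne_top
          ((Ideal.eq_top_iff_one _).mpr h1')
    have hzη : z = genericPoint W := by
      have hsp : genericPoint W ⤳ z := genericPoint_specializes z
      have h1' := fromSpecStalk_ker_specMap z (genericPoint W) hsp
      have h2 : (⟨RingHom.ker (Cyc.specMap z (genericPoint W) hsp), inferInstance⟩ :
          PrimeSpectrum (W.presheaf.stalk z)) = IsLocalRing.closedPoint (W.presheaf.stalk z) := by
        apply PrimeSpectrum.ext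
        apply le_antisymm
        · exact IsLocalRing.le_maximalIdeal (RingHom.ker_ne_top _)
        · intro r hr
          rw [hbot r hr]
          exact zero_mem _
      rw [h2, Scheme.fromSpecStalk_closedPoint] at h1'
      exact h1'
    rw [hzη]
    rintro (h | h)
    · exact h0 h
    · exact h1 h

open Classical in
/-- the multiplicity of an integral closed subscheme: one at the generic point, zero at the other
points of the top dimension. -/
theorem subschemeFun_integral (δP : P → ℤ) (hPs : Cyc.IsSetup P δP) (c : ℤ)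
    (W : Scheme.{u}) [IsIntegral W] (ι : W ⟶ P) [IsClosedImmersion ι]
    (hW : δP (ι (genericPoint W)) = c) (ξ : P) :
    Cyc.subschemeFun δP c ι ξ = if ξ = ι (genericPoint W) then 1 else 0 := by
  by_cases hξ : ξ = ι (genericPoint W)
  · rw [if_pos hξ, hξ, subschemeFun_eq_multAt δP c ι _ hW, multAt_apply]
    have hf : IsField (W.presheaf.stalk (genericPoint W)) := Field.toIsField W.functionField
    letI := hf.toField
    have : Module.length (W.presheaf.stalk (genericPoint W))
        (W.presheaf.stalk (genericPoint W)) = 1 := by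
      rw [Module.length_eq_one_iff]
      infer_instance
    rw [this]
    rfl
  · rw [if_neg hξ]
    by_cases h1 : δP ξ = c
    · by_cases h2 : ξ ∈ Set.range ι
      · obtain ⟨z, rfl⟩ := h2
        exfalso
        have hz : z ≠ genericPoint W := fun h => hξ (h ▸ rfl)
        have hsp : genericPoint W ⤳ z := genericPoint_specializes z
        have hsp' : ι (genericPoint W) ⤳ ι z := ι.base.hom.map_specializes hsp
        have hne : ι (genericPoint W) ≠ ι z := fun h => hz (ι.isClosedEmbedding.injective h).symm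
        have := (hPs.2.2 _ _ hsp' hne).1
        omega
      · rw [subschemeFun_eq_multAt δP c ι ξ h1, multAt_of_notMem ι ξ h2]
    · unfold Cyc.subschemeFun
      rw [if_neg h1]

end Part1

section Part2

open AlgebraicGeometry CategoryTheory CategoryTheory.Limits HomogeneousLocalization MvPolynomial
  Groth.Agent.Lib.R2H1.P1Geom

theorem chartMap_of_val (i : Fin (1 + 1)) (B : Type u) [CommRing B] (b : B)
    (a : Away P1.grading.{u} (P1.T i))
    (c : MvPolynomial (Fin (1 + 1)) P1.R0.{u}) (m : ℕ)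
    (ha : a.val = Localization.mk c (⟨P1.T i ^ m, ⟨m, rfl⟩⟩ : Submonoid.powers (P1.T.{u} i))) :
    P1.chartMap i B b a =
      MvPolynomial.eval₂Hom ((Int.castRingHom B).comp ULift.ringEquiv.toRingHom)
        (Function.update (fun _ => b) i 1) c := by
  have h1 : Localization.mk c
      (⟨P1.T i ^ m, ⟨m, rfl⟩⟩ : Submonoid.powers (P1.T.{u} i)) *
      algebraMap (MvPolynomial (Fin (1 + 1)) P1.R0.{u}) (Localization.Away (P1.T.{u} i))
        (P1.T i ^ m) =
      algebraMap (MvPolynomial (Fin (1 + 1)) P1.R0.{u}) (Localization.Away (P1.T.{u} i)) c := by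
    rw [Localization.mk_eq_mk']
    exact IsLocalization.mk'_spec _ _ _
  unfold P1.chartMap
  rw [RingHom.comp_apply, HomogeneousLocalization.algebraMap_apply, ha]
  have h2 := congrArg (IsLocalization.Away.lift (S := Localization.Away (P1.T.{u} i)) (P1.T.{u} i)
      (g := MvPolynomial.eval₂Hom ((Int.castRingHom B).comp ULift.ringEquiv.toRingHom)
        (Function.update (fun _ => b) i 1))
      (by simp)) h1
  rw [map_mul, IsLocalization.Away.lift_eq, IsLocalization.Away.lift_eq] at h2
  simp only [map_pow, eval₂Hom_X', Function.update_self, one_pow, mul_one] at h2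
  exact h2

theorem chartMap_uu (B : Type u) [CommRing B] (b : B) : P1.chartMap 0 B b (uu 0 1) = b := by
  rw [chartMap_of_val 0 B b _ _ 1 (val_uu 0 1)]
  simp

variable (X : Scheme.{u}) (U : X.Opens) (f : Γ(X, U))

theorem graph_toBase : P1.graph X U f ≫ CohB1.ProjSpaceOver.toBase 1 X = U.ι := by
  unfold P1.graph CohB1.ProjSpaceOver.toBase
  exact pullback.lift_snd _ _ _

theorem graph_qq : P1.graph X U f ≫ qq X =
    U.toSpecΓ ≫ Spec.map (CommRingCat.ofHom (P1.chartMap 0 Γ(X, U) f)) ≫ aι 0 := by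
  unfold P1.graph qq
  exact pullback.lift_fst _ _ _

theorem qq_graph_apply (u : U) : qq X (P1.graph X U f u) =
    aι 0 (Spec.map (CommRingCat.ofHom (P1.chartMap 0 Γ(X, U) f)) (U.toSpecΓ u)) := by
  have := congrArg (fun φ : (U : Scheme.{u}) ⟶ Pj.{u} => φ u) (graph_qq X U f)
  simpa using this

theorem graph_mem_VV (u : U) : P1.graph X U f u ∈ VV X 0 := by
  show qq X (P1.graph X U f u) ∈ DD 0
  rw [qq_graph_apply]
  have h : aι 0 (Spec.map (CommRingCat.ofHom (P1.chartMap 0 Γ(X, U) f)) (U.toSpecΓ u)) ∈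
      (aι.{u} 0).opensRange := ⟨_, rfl⟩
  rw [Proj.opensRange_awayι] at h
  exact h

theorem graph_notMem_range_sect_one (u : U) : P1.graph X U f u ∉ Set.range (P1.sect X 1) := by
  rintro ⟨x, hx⟩
  have := graph_mem_VV X U f u
  rw [← hx] at this
  exact sect_notMem X 1 0 (by decide) x this

theorem graph_notMem_range_sect_zero (hf : IsUnit f) (u : U) :
    P1.graph X U f u ∉ Set.range (P1.sect X 0) := by
  rintro ⟨x, hx⟩
  have h1 : P1.graph X U f u ∈ VV X 1 := by
    show qq X (P1.graph X U f u) ∈ DD 1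
    rw [qq_graph_apply, aι_mem_iff]
    intro hmem
    have h2 : P1.chartMap 0 Γ(X, U) f (uu 0 1) ∈ (U.toSpecΓ u).asIdeal := hmem
    rw [chartMap_uu] at h2
    exact (U.toSpecΓ u).isPrime.ne_top (Ideal.eq_top_of_isUnit_mem _ h2 hf)
  rw [← hx] at h1
  exact sect_notMem X 0 1 (by decide) x h1

end Part2

section Part3

open AlgebraicGeometry CategoryTheory CategoryTheory.Limits HomogeneousLocalization MvPolynomial
  Groth.Agent.Lib.R2H1.P1Geom

variable (X : Scheme.{u}) (U : X.Opens) (f : Γ(X, U))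

theorem top_le_graph_preimage :
    (⊤ : (U : Scheme.{u}).Opens) ≤ (P1.graph X U f) ⁻¹ᵁ VV X 0 :=
  fun u _ => graph_mem_VV X U f u

theorem top_le_graph_qq_preimage :
    (⊤ : (U : Scheme.{u}).Opens) ≤ (P1.graph X U f ≫ qq X) ⁻¹ᵁ DD 0 :=
  fun u _ => graph_mem_VV X U f u

/-- the coordinate `T₁/T₀` pulls back to `f` along the graph of `f`. -/
theorem graph_appLE_tt :
    ((P1.graph X U f).appLE (VV X 0) ⊤ (top_le_graph_preimage X U f)).hom (tt X 0 1) =
      U.topIso.inv.hom f := by
  -- step 1: through `qq`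
  have h1 := Scheme.Hom.appLE_comp_appLE (P1.graph X U f) (qq X) (DD 0) (VV X 0) ⊤ le_rfl
    (top_le_graph_preimage X U f)
  have h1' := congr($h1 (ττ 0 1))
  rw [CommRingCat.comp_apply] at h1'
  have htt : tt X 0 1 = ((qq X).appLE (DD 0) (VV X 0) le_rfl).hom (ττ 0 1) := by
    unfold tt
    rw [Scheme.Hom.app_eq_appLE]
    rfl
  rw [htt]
  refine h1'.trans ?_
  -- step 2: the composite
  have h2 := Groth.Agent.Lib.Helper27PMapSec.appLE_congr_hom (graph_qq X U f) (DD 0) ⊤
    (top_le_graph_qq_preimage X U f)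
  rw [h2]
  have h3 := Scheme.Hom.appLE_comp_appLE U.toSpecΓ
    (Spec.map (CommRingCat.ofHom (P1.chartMap 0 Γ(X, U) f)) ≫ aι.{u} 0) (DD 0) ⊤ ⊤
    (fun w _ => by
      have h : aι 0 (Spec.map (CommRingCat.ofHom (P1.chartMap 0 Γ(X, U) f)) w) ∈
          (aι.{u} 0).opensRange := ⟨_, rfl⟩
      rw [Proj.opensRange_awayι] at h
      exact h) le_top
  have h4 := Scheme.Hom.appLE_comp_appLE (Spec.map (CommRingCat.ofHom (P1.chartMap 0 Γ(X, U) f)))
    (aι.{u} 0) (DD 0) ⊤ ⊤
    (Groth.Agent.Lib.Helper27PMapSec.top_le_awayι_preimage P1.grading.{u} (P1.X_mem 0) one_pos)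
    le_top
  have h3' := congr($h3 (ττ 0 1))
  have h4' := congr($h4 (ττ 0 1))
  rw [CommRingCat.comp_apply] at h3' h4'
  refine h3'.symm.trans ?_
  rw [← h4']
  unfold ττ
  rw [Groth.Agent.Lib.Helper27PMapSec.awayι_appLE_awayToSection P1.grading.{u} (P1.X_mem 0)
    one_pos (uu 0 1)]
  have h5 := Scheme.ΓSpecIso_inv_naturality (CommRingCat.ofHom (P1.chartMap 0 Γ(X, U) f))
  have h5' := congr($h5 (uu 0 1))
  rw [CommRingCat.comp_apply, CommRingCat.comp_apply] at h5'
  have h6 : ((Spec.map (CommRingCat.ofHom (P1.chartMap 0 Γ(X, U) f))).appLE ⊤ ⊤ le_top).hom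
      ((Scheme.ΓSpecIso (CommRingCat.of (Away P1.grading.{u} (P1.T 0)))).inv.hom (uu 0 1)) =
      (Scheme.ΓSpecIso Γ(X, U)).inv.hom f := by
    refine Eq.trans ?_ (h5'.symm.trans ?_)
    · rfl
    · congr 1
      exact chartMap_uu Γ(X, U) f
  rw [h6]
  have h7 := Scheme.Opens.toSpecΓ_appTop U
  have h7' := congr($h7 ((Scheme.ΓSpecIso Γ(X, U)).inv.hom f))
  rw [CommRingCat.comp_apply] at h7'
  have h8 : U.toSpecΓ.appLE ⊤ ⊤ le_top = U.toSpecΓ.appTop :=
    Scheme.Hom.appLE_eq_app (f := U.toSpecΓ) (U := ⊤)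
  refine Eq.trans ?_ (h7'.trans ?_)
  · exact congr($h8 _)
  · congr 1
    exact congr($((Scheme.ΓSpecIso Γ(X, U)).inv_hom_id) f)

end Part3

section Part4

open AlgebraicGeometry CategoryTheory CategoryTheory.Limits

variable {A M : Scheme.{u}}

theorem evaluation_res (W W' : A.Opens) (hle : W ≤ W') (a : A) (ha : a ∈ W) (σ : Γ(A, W')) :
    (A.evaluation W a ha).hom ((A.presheaf.map (homOfLE hle).op).hom σ) =
      (A.evaluation W' a (hle ha)).hom σ := by
  unfold Scheme.evaluation
  rw [CommRingCat.comp_apply, CommRingCat.comp_apply]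
  congr 1
  exact TopCat.Presheaf.germ_res_apply A.presheaf (homOfLE hle) a ha σ

/-- naturality of evaluation, in `appLE` form. -/
theorem evaluation_appLE (h : A ⟶ M) (V : M.Opens) (W : A.Opens) (e : W ≤ h ⁻¹ᵁ V) (a : A)
    (ha : a ∈ W) (σ : Γ(M, V)) :
    (h.residueFieldMap a).hom ((M.evaluation V (h a) (e ha)).hom σ) =
      (A.evaluation W a ha).hom ((h.appLE V W e).hom σ) := by
  have h1 := Scheme.evaluation_naturality_apply h a (e ha) σ
  unfold Scheme.Hom.appLE
  rw [CommRingCat.comp_apply, evaluation_res W (h ⁻¹ᵁ V) e a ha]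
  exact h1

theorem ι_appLE_top {X : Scheme.{u}} (U : X.Opens) (e : (⊤ : (U : Scheme.{u}).Opens) ≤ U.ι ⁻¹ᵁ U) :
    U.ι.appLE U ⊤ e = U.topIso.inv := by
  rw [Scheme.Opens.ι_appLE]
  unfold Scheme.Opens.topIso
  simp only [Functor.mapIso_inv, Iso.op_inv, eqToIso.inv, eqToHom_op]
  congr 1

variable {Uo Y Xs : Scheme.{u}}

/-- comparison of a function on `Y` with a function on `Xs` through a common source. -/
theorem residueFieldMap_evaluation_eq (t : Uo ⟶ Y) (p : Y ⟶ Xs) (j : Uo ⟶ Xs) (hj : t ≫ p = j)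
    (u : Uo) (hbij : Function.Bijective (j.residueFieldMap u).hom)
    (VX : Xs.Opens) (fX : Γ(Xs, VX)) (VY : Y.Opens) (FY : Γ(Y, VY))
    (h1 : (⊤ : Uo.Opens) ≤ t ⁻¹ᵁ VY) (h2 : (⊤ : Uo.Opens) ≤ j ⁻¹ᵁ VX)
    (hsec : (t.appLE VY ⊤ h1).hom FY = (j.appLE VX ⊤ h2).hom fX)
    (y : Y) (hy : t u = y) (hyV : y ∈ VY) (hpy : p y ∈ VX) :
    Function.Bijective (p.residueFieldMap y).hom ∧
      (p.residueFieldMap y).hom ((Xs.evaluation VX (p y) hpy).hom fX) =
        (Y.evaluation VY y hyV).hom FY := by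
  subst hj hy
  have hcomp : (t ≫ p).residueFieldMap u = p.residueFieldMap (t u) ≫ t.residueFieldMap u :=
    Scheme.residueFieldMap_comp t p u
  have hinj : Function.Injective (t.residueFieldMap u).hom := RingHom.injective _
  constructor
  · refine ⟨RingHom.injective _, ?_⟩
    intro b
    obtain ⟨a, ha⟩ := hbij.2 ((t.residueFieldMap u).hom b)
    refine ⟨a, hinj ?_⟩
    rw [← ha, hcomp]
    rfl
  · apply hinj
    have e1 := evaluation_appLE t VY ⊤ h1 u trivial FY
    have e2 := evaluation_appLE (t ≫ p) VX ⊤ h2 u trivial fX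
    rw [e1, hsec, ← e2, hcomp]
    rfl

end Part4

section Part5

open AlgebraicGeometry CategoryTheory CategoryTheory.Limits TopologicalSpace Topology IsLocalRing
  Groth.Agent.Lib.R2H1.RatEquivClosed Groth.Agent.Lib.R2H1.RatEquivOpen
  Groth.Agent.Lib.R2H1.LocQuot
  Groth.Agent.Lib.R2H1.PullInv Groth.Agent.Lib.R2H1.PullbackKer
  Groth.Agent.Lib.R2H1.P1Fibres Groth.Agent.Lib.R2H1.ProperPushRat
  Groth.Agent.Lib.R2H1.RelCartier

variable {P X : Scheme.{u}}

/-- for an integral closed subscheme `W` of `P` dominating the integral scheme `X` with the same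
dimension, the divisor on `X` of the norm of the rational function `Φ` is `[W_0]_k - [W_1]_k`. -/
theorem divFun_norm_eq_fibres [IsIntegral X] (π : P ⟶ X) [IsProper π] (s0 s1 : X ⟶ P)
    [IsClosedImmersion s0] [IsClosedImmersion s1] (hs0 : s0 ≫ π = 𝟙 X) (hs1 : s1 ≫ π = 𝟙 X)
    (δ : X → ℤ) (δP : P → ℤ) (hX : Cyc.IsSetup X δ) (hPs : Cyc.IsSetup P δP)
    (hP : Cyc.DeltaCompat π δP δ)
    (Φ : (p : P) → P.residueField p) (hΦ : IsLineData s0 s1 Φ) (k : ℤ)
    (W : Scheme.{u}) [IsIntegral W] (ι : W ⟶ P) [IsClosedImmersion ι]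
    (hW : δP (ι (genericPoint W)) = k + 1)
    (h0 : ι (genericPoint W) ∉ Set.range s0) (h1 : ι (genericPoint W) ∉ Set.range s1)
    (hdom : (ι ≫ π) (genericPoint W) = genericPoint X) (hn : δ (genericPoint X) = k + 1)
    (x : X) :
    Cyc.divFun δ ((ι ≫ π) (genericPoint W))
        (Cyc.normGen (ι ≫ π) (genericPoint W)
          ((ι.residueFieldMap (genericPoint W)).hom (Φ (ι (genericPoint W))))) x =
      Cyc.subschemeFun δ k (pullback.snd ι s0) x - Cyc.subschemeFun δ k (pullback.snd ι s1) x := by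
  classical
  obtain ⟨hlt, hZ, hZ0, hemb⟩ := integral_hyps s0 s1 δP hPs k W ι hW h0 h1
  have hδ0 : ∀ x, δP (s0 x) = δ x := delta_sect π s0 hs0 δ δP hP
  have hδ1 : ∀ x, δP (s1 x) = δ x := delta_sect π s1 hs1 δ δP hP
  have hdim0 : ∀ z' : ↥(pullback ι s0), δ (pullback.snd ι s0 z') ≤ k := by
    intro z'
    have he := pullback_cond_apply ι s0 z'
    have := hZ0 (pullback.fst ι s0 z') (Or.inl ⟨_, he.symm⟩)
    rw [he, hδ0] at this
    exact this
  have hdim1 : ∀ z' : ↥(pullback ι s1), δ (pullback.snd ι s1 z') ≤ k := by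
    intro z'
    have he := pullback_cond_apply ι s1 z'
    have := hZ0 (pullback.fst ι s1 z') (Or.inr ⟨_, he.symm⟩)
    rw [he, hδ1] at this
    exact this
  set α := subschemeCycle (pullback.snd ι s0) δ hX k hdim0 with hαdef
  set β := subschemeCycle (pullback.snd ι s1) δ hX k hdim1 with hβdef
  have hα : ⇑α = Cyc.subschemeFun δ k (pullback.snd ι s0) := rfl
  have hβ : ⇑β = Cyc.subschemeFun δ k (pullback.snd ι s1) := rfl
  have hα0 : α ∈ Cyc.Zk X δ k := by
    intro x hx
    rw [hα]
    unfold Cyc.subschemeFun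
    rw [if_neg hx]
  have hβ0 : β ∈ Cyc.Zk X δ k := by
    intro x hx
    rw [hβ]
    unfold Cyc.subschemeFun
    rw [if_neg hx]
  set ξ₀ := ι (genericPoint W) with hξ₀
  have hpt : ∀ p' : P, (AlgebraicCycle.map s0 δ δP α - AlgebraicCycle.map s1 δ δP β) p' =
      Cyc.divFun δP ξ₀ (Φ ξ₀) p' := by
    intro p'
    rw [pointwise_subscheme π s0 s1 hs0 hs1 δ δP hPs hP Φ hΦ k ι hZ hZ0 hemb α β hα hβ p']
    rw [finsum_eq_single _ ξ₀]
    · rw [subschemeFun_integral δP hPs (k + 1) W ι hW ξ₀, if_pos rfl, one_mul]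
    · intro ξ hξ
      rw [subschemeFun_integral δP hPs (k + 1) W ι hW ξ, if_neg hξ, zero_mul]
  -- the divisor on `W`
  have hWs := isSetup_of_closedImmersion ι hPs
  haveI : IsLocallyNoetherian W := hWs.1
  set gW := (ι.residueFieldMap (genericPoint W)).hom (Φ ξ₀) with hgW
  have hgW0 : gW ≠ 0 :=
    (map_ne_zero_iff _ (RingHom.injective _)).mpr (hΦ.ne_zero ξ₀ h0 h1)
  set αW := divCycle hWs.2.2 (genericPoint W) gW with hαW
  have hαWcoe : ⇑αW = Cyc.divFun (fun w => δP (ι w)) (genericPoint W) gW := rfl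
  haveI : IsProper (ι ≫ π) := inferInstance
  have hδW : Cyc.DeltaCompat (ι ≫ π) (fun w => δP (ι w)) δ :=
    deltaCompat_comp_closedImmersion ι π δP δ hP
  have h1906 := Groth.Agent.S1906.result W X (fun w => δP (ι w)) δ hWs hX (ι ≫ π) hδW hdom
    (by rw [hn]; exact hW) gW hgW0 αW hαWcoe
  have hαWk : αW ∈ Cyc.Zk W (fun w => δP (ι w)) k := by
    intro w hw
    rw [hαWcoe]
    by_contra hne
    have := (divFun_ne_zero_specializes hne).2
    simp only at this hw
    rw [← hξ₀] at this
    omega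
  have h1859 := Groth.Agent.S1859.result W P X (fun w => δP (ι w)) δP δ hWs hPs hX ι π
    (deltaCompat_closedImmersion' ι δP) hP k αW hαWk
  have hD : ∀ p' : P, AlgebraicCycle.map ι (fun w => δP (ι w)) δP αW p' =
      Cyc.divFun δP ξ₀ (Φ ξ₀) p' := by
    intro p'
    refine map_eq_of_comp ι (fun w => δP (ι w)) δP (fun _ => rfl) αW
      (Cyc.divFun δP ξ₀ (Φ ξ₀)) ?_ ?_ p'
    · intro w
      rw [hαWcoe]
      exact divFun_preimmersion ι δP (genericPoint W) w (Φ ξ₀)
    · intro y hy
      by_contra hne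
      apply hy
      have hsp := (divFun_ne_zero_specializes hne).1
      have hcl : IsClosed (Set.range ι) := ι.isClosedEmbedding.isClosed_range
      exact hcl.closure_subset_iff.mpr (Set.singleton_subset_iff.mpr ⟨_, rfl⟩)
        (specializes_iff_mem_closure.mp hsp)
  have hfinal : (AlgebraicCycle.map (ι ≫ π) (fun w => δP (ι w)) δ αW) x = α x - β x := by
    rw [← h1859, Groth.Agent.Lib.R2H1.RatEquivClosed.map_apply]
    have h2 := map_sub_apply π δP δ (AlgebraicCycle.map s0 δ δP α) (AlgebraicCycle.map s1 δ δP β) x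
    rw [map_map_sect π s0 hs0 δ δP hX hPs hP k α hα0,
      map_map_sect π s1 hs1 δ δP hX hPs hP k β hβ0] at h2
    rw [Function.locallyFinsuppWithin.coe_sub, Pi.sub_apply] at h2
    rw [h2]
    refine finsum_mem_congr rfl (fun p' _ => ?_)
    rw [hD p', hpt p']
  rw [← hα, ← hβ, ← hfinal, h1906]

end Part5

section Part6

open AlgebraicGeometry CategoryTheory CategoryTheory.Limits TopologicalSpace Topology
  Groth.Agent.Lib.R2H1.PerfCyc Groth.Agent.Lib.R2H1.RelDimBC

variable {A B : Scheme.{u}}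

lemma isReduced_subscheme_of_eq {X : Scheme.{u}} (I : X.IdealSheafData) (C : Closeds X)
    (h : I = Scheme.IdealSheafData.vanishingIdeal C) : IsReduced I.subscheme := by
  subst h
  exact Groth.Agent.Lib.Helper11RedCl.isReduced_subscheme_vanishingIdeal C

/-- the image of a morphism from a reduced scheme is reduced. -/
theorem isReduced_image (f : A ⟶ B) [IsReduced A] : IsReduced f.image :=
  isReduced_subscheme_of_eq f.ker _ (Groth.Agent.Lib.Helper11RedCl.ker_eq_of_isReduced f)

lemma support_ker_of_isReduced (f : A ⟶ B) [IsReduced A] :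
    (f.ker.support : Set B) = closure (Set.range f) := by
  rw [Groth.Agent.Lib.Helper11RedCl.ker_eq_of_isReduced f,
    Scheme.IdealSheafData.coe_support_vanishingIdeal]
  rfl

/-- `toImage` of a morphism from a reduced scheme is dominant. -/
theorem isDominant_toImage_of_isReduced (f : A ⟶ B) [IsReduced A] : IsDominant f.toImage where
  denseRange := by
    rw [denseRange_iff_closure_range, f.imageι.isEmbedding.closure_eq_preimage_closure_image,
      ← Set.univ_subset_iff, ← Set.image_subset_iff, Set.image_univ,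
      Scheme.IdealSheafData.range_subschemeι, support_ker_of_isReduced, ← Set.range_comp,
      ← TopCat.coe_comp, ← Scheme.Hom.comp_base, f.toImage_imageι]

/-- the image of an integral scheme is integral. -/
theorem isIntegral_image (f : A ⟶ B) [IsIntegral A] : IsIntegral f.image := by
  haveI := isReduced_image f
  haveI := isDominant_toImage_of_isReduced f
  haveI : IrreducibleSpace f.image := by
    rw [irreducibleSpace_def]
    have h1 : IsIrreducible (Set.range f.toImage) := by
      rw [← Set.image_univ]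
      exact (IrreducibleSpace.isIrreducible_univ A).image _ f.toImage.continuous.continuousOn
    have h2 := h1.closure
    rwa [f.toImage.denseRange.closure_range] at h2
  exact isIntegral_of_irreducibleSpace_of_isReduced f.image

/-- a dominant morphism of irreducible schemes maps the generic point to the generic point. -/
theorem map_genericPoint_of_isDominant [IrreducibleSpace A] [IrreducibleSpace B]
    (f : A ⟶ B) [IsDominant f] : f (genericPoint A) = genericPoint B := by
  apply ((genericPoint_spec B).eq _).symm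
  have := (genericPoint_spec A).image f.continuous
  rw [Set.image_univ, f.denseRange.closure_range] at this
  exact this

theorem toImage_imageι_apply (f : A ⟶ B) (a : A) : f.imageι (f.toImage a) = f a := by
  rw [← Scheme.Hom.comp_apply, f.toImage_imageι]

variable {C : Scheme.{u}}

/-- if `g ≫ π` is an open immersion then the residue field extension of `π` at `g u` is
algebraic. -/
theorem resTrdeg_eq_zero_of_comp_openImmersion (g : A ⟶ B) (π : B ⟶ C) (j : A ⟶ C)
    [IsOpenImmersion j] (h : g ≫ π = j) (u : A) : resTrdeg π (g u) = 0 := by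
  have h1 : resTrdeg (g ≫ π) u = 0 := by
    rw [resTrdeg_congr h]
    exact resTrdeg_eq_zero_of_surjective j u
      (Groth.Agent.Lib.R2H1.RatEquivClosed.residueFieldMap_bijective j u).2
  rw [resTrdeg_comp] at h1
  exact (add_eq_zero.mp h1).1

theorem delta_of_comp_openImmersion (g : A ⟶ B) (π : B ⟶ C) (j : A ⟶ C)
    [IsOpenImmersion j] (h : g ≫ π = j) (δB : B → ℤ) (δC : C → ℤ)
    (hP : Cyc.DeltaCompat π δB δC) (u : A) : δB (g u) = δC (j u) := by
  rw [deltaCompat_iff] at hP
  obtain ⟨n, hn, hδ⟩ := hP (g u)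
  rw [resTrdeg_eq_zero_of_comp_openImmersion g π j h u] at hn
  have hn0 : n = 0 := by exact_mod_cast hn.symm
  rw [hδ, hn0]
  have : π (g u) = j u := by
    have := congrArg (fun φ : A ⟶ C => φ u) h
    simpa using this
  rw [this]
  simp

theorem evaluation_congr (X : Scheme.{u}) (U : X.Opens) (x x' : X) (e : x = x') (hx : x ∈ U)
    (hx' : x' ∈ U) (f : Γ(X, U)) :
    (X.residueFieldCongr e).hom.hom ((X.evaluation U x hx).hom f) =
      (X.evaluation U x' hx').hom f := by
  subst e
  rw [Scheme.residueFieldCongr_refl]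
  rfl

/-- the norm of an element coming from the base field, for a bijective residue field map. -/
theorem normGen_of_bijective (p : A ⟶ B) (y : A)
    (hbij : Function.Bijective (p.residueFieldMap y).hom) (a : B.residueField (p y)) :
    Cyc.normGen p y ((p.residueFieldMap y).hom a) = a := by
  unfold Cyc.normGen
  letI := (p.residueFieldMap y).hom.toAlgebra
  have h1 : (p.residueFieldMap y).hom a =
      algebraMap (B.residueField (p y)) (A.residueField y) a := rfl
  rw [h1, Algebra.norm_algebraMap]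
  let e : B.residueField (p y) ≃ₗ[B.residueField (p y)] A.residueField y :=
    LinearEquiv.ofBijective (Algebra.linearMap _ _) hbij
  rw [← e.finrank_eq, Module.finrank_self, pow_one]

end Part6

section Part7

open AlgebraicGeometry CategoryTheory CategoryTheory.Limits TopologicalSpace Topology
  Groth.Agent.Lib.R2H1.P1Geom Groth.Agent.Lib.R2H1.P1Fibres
  Groth.Agent.Lib.R2H1.RatEquivClosed

variable (X : Scheme.{u})

/-- `T₁/T₀` is line data for the sections at `0` and `∞` of `P¹_X`. -/
theorem isLineData_Phi : IsLineData (P1.sect X 0) (P1.sect X 1) (Phi X) where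
  zero := by
    intro x
    refine ⟨_, ker_sect X 0 1 (by decide) x, ?_⟩
    intro ξ h _ _
    rw [specMap_germ', Phi_of_mem]
  infty := by
    intro x
    refine ⟨_, ker_sect X 1 0 (by decide) x, ?_⟩
    intro ξ h h0 h1
    rw [specMap_germ']
    have hb := mem_both X ξ h0 h1
    have hm := Phi_mul X ξ hb.1 (h.mem_open (VV X 1).2 (sect_mem X 1 x))
    exact eq_inv_of_mul_eq_one_right hm
  unit := by
    intro p h0 h1
    have hb := mem_both X p h0 h1
    refine ⟨((CohB1.ProjSpaceOver 1 X).presheaf.germ (VV X 0) p hb.1).hom (tt X 0 1),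
      IsUnit.of_mul_eq_one _ (germ_tt_mul X p hb.1 hb.2), ?_⟩
    intro ξ h
    rw [specMap_germ', Phi_of_mem]
  disj := by
    intro x x' h
    have h1 : P1.sect X 0 x ∈ VV X 1 := by rw [h]; exact sect_mem X 1 x'
    exact sect_notMem X 0 1 (by decide) x h1

/-- `div_X(f) = [Y_0]_{n-1} - [Y_∞]_{n-1}` for the closure `Y` of the graph of an invertible
function `f` on a nonempty open of the integral scheme `X`. -/
theorem divFun_eq_graph_fibres [IsIntegral X] (δ : X → ℤ) (hX : Cyc.IsSetup X δ) (n : ℤ)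
    (hn : δ (genericPoint X) = n) (U : X.Opens) (hη : genericPoint X ∈ U) (f : Γ(X, U))
    (hf : IsUnit f) :
    Cyc.divFun δ (genericPoint X) ((X.evaluation U (genericPoint X) hη).hom f) = fun x =>
      Cyc.subschemeFun δ (n - 1) (pullback.snd (P1.graphClosureι X U f) (P1.sect X 0)) x -
      Cyc.subschemeFun δ (n - 1) (pullback.snd (P1.graphClosureι X U f) (P1.sect X 1)) x := by
  classical
  haveI : IsProper (CohB1.ProjSpaceOver.toBase 1 X) := Groth.Agent.S9705.isProper_toBase 1 X
  haveI := isClosedImmersion_sect X 0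
  haveI := isClosedImmersion_sect X 1
  have hP : Cyc.DeltaCompat (CohB1.ProjSpaceOver.toBase 1 X)
      (Groth.Agent.Lib.R2H1.ChowDesc.indDelta (CohB1.ProjSpaceOver.toBase 1 X) δ) δ :=
    Groth.Agent.Lib.R2H1.ChowDesc.deltaCompat_indDelta (CohB1.ProjSpaceOver.toBase 1 X) δ
  have hPs := Groth.Agent.Lib.R2H1.MVClosed.isSetup_of_lft (CohB1.ProjSpaceOver.toBase 1 X) δ hX
    (Groth.Agent.Lib.R2H1.ChowDesc.indDelta (CohB1.ProjSpaceOver.toBase 1 X) δ) hP
  haveI : Nonempty (U : Scheme.{u}) := ⟨⟨genericPoint X, hη⟩⟩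
  haveI : IsIntegral (U : Scheme.{u}) := inferInstance
  haveI : IsIntegral (P1.graph X U f).image := isIntegral_image (P1.graph X U f)
  haveI : IsDominant (P1.graph X U f).toImage := isDominant_toImage_of_isReduced (P1.graph X U f)
  have hιdef : P1.graphClosureι X U f = (P1.graph X U f).imageι := rfl
  haveI : IsClosedImmersion (P1.graphClosureι X U f) := by rw [hιdef]; infer_instance
  have hηY : (P1.graph X U f).toImage (genericPoint (U : Scheme.{u})) =
      genericPoint (P1.graph X U f).image :=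
    map_genericPoint_of_isDominant (P1.graph X U f).toImage
  have hηU : U.ι (genericPoint (U : Scheme.{u})) = genericPoint X :=
    genericPoint_eq_of_isOpenImmersion U.ι
  have hιη : P1.graphClosureι X U f (genericPoint (P1.graph X U f).image) =
      P1.graph X U f (genericPoint (U : Scheme.{u})) := by
    rw [← hηY, hιdef]
    exact toImage_imageι_apply (P1.graph X U f) _
  have hcomp : (P1.graph X U f).toImage ≫
      (P1.graphClosureι X U f ≫ CohB1.ProjSpaceOver.toBase 1 X) = U.ι := by
    rw [hιdef, ← Category.assoc, (P1.graph X U f).toImage_imageι, graph_toBase]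
  have hdom : (P1.graphClosureι X U f ≫ CohB1.ProjSpaceOver.toBase 1 X)
      (genericPoint (P1.graph X U f).image) = genericPoint X := by
    rw [← hηY, ← Scheme.Hom.comp_apply, hcomp, hηU]
  have hk : δ (genericPoint X) = (n - 1) + 1 := by rw [hn]; ring
  have hW : Groth.Agent.Lib.R2H1.ChowDesc.indDelta (CohB1.ProjSpaceOver.toBase 1 X) δ
      (P1.graphClosureι X U f (genericPoint (P1.graph X U f).image)) = (n - 1) + 1 := by
    rw [hιη, delta_of_comp_openImmersion (P1.graph X U f) (CohB1.ProjSpaceOver.toBase 1 X) U.ι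
      (graph_toBase X U f) _ δ hP, hηU, hk]
  have h0 : P1.graphClosureι X U f (genericPoint (P1.graph X U f).image) ∉
      Set.range (P1.sect X 0) := by
    rw [hιη]; exact graph_notMem_range_sect_zero X U f hf _
  have h1 : P1.graphClosureι X U f (genericPoint (P1.graph X U f).image) ∉
      Set.range (P1.sect X 1) := by
    rw [hιη]; exact graph_notMem_range_sect_one X U f _
  funext x
  have hmain := divFun_norm_eq_fibres (CohB1.ProjSpaceOver.toBase 1 X) (P1.sect X 0) (P1.sect X 1)
    (sect_toBase X 0) (sect_toBase X 1) δ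
    (Groth.Agent.Lib.R2H1.ChowDesc.indDelta (CohB1.ProjSpaceOver.toBase 1 X) δ) hX hPs hP
    (Phi X) (isLineData_Phi X) (n - 1) (P1.graph X U f).image (P1.graphClosureι X U f)
    hW h0 h1 hdom hk x
  rw [← hmain]
  -- the norm
  have hyV : genericPoint (P1.graph X U f).image ∈
      (P1.graphClosureι X U f) ⁻¹ᵁ VV X 0 := by
    show P1.graphClosureι X U f (genericPoint (P1.graph X U f).image) ∈ VV X 0
    rw [hιη]; exact graph_mem_VV X U f _
  have hpy : (P1.graphClosureι X U f ≫ CohB1.ProjSpaceOver.toBase 1 X)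
      (genericPoint (P1.graph X U f).image) ∈ U := by
    rw [hdom]; exact hη
  have ht1 : (⊤ : (U : Scheme.{u}).Opens) ≤
      (P1.graph X U f).toImage ⁻¹ᵁ ((P1.graphClosureι X U f) ⁻¹ᵁ VV X 0) := by
    intro w _
    show P1.graphClosureι X U f ((P1.graph X U f).toImage w) ∈ VV X 0
    rw [hιdef, toImage_imageι_apply]
    exact graph_mem_VV X U f w
  have ht2 : (⊤ : (U : Scheme.{u}).Opens) ≤ U.ι ⁻¹ᵁ U := by
    intro w _
    exact w.2
  have hsec : ((P1.graph X U f).toImage.appLE ((P1.graphClosureι X U f) ⁻¹ᵁ VV X 0) ⊤ ht1).hom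
      (((P1.graphClosureι X U f).app (VV X 0)).hom (tt X 0 1)) =
      (U.ι.appLE U ⊤ ht2).hom f := by
    rw [ι_appLE_top, ← graph_appLE_tt X U f]
    have e1 := Scheme.Hom.appLE_comp_appLE (P1.graph X U f).toImage (P1.graphClosureι X U f)
      (VV X 0) ((P1.graphClosureι X U f) ⁻¹ᵁ VV X 0) ⊤ le_rfl ht1
    have e1' := congr($e1 (tt X 0 1))
    rw [CommRingCat.comp_apply] at e1'
    rw [Scheme.Hom.app_eq_appLE]
    refine e1'.trans ?_
    have e2 := Groth.Agent.Lib.Helper27PMapSec.appLE_congr_hom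
      (q := (P1.graph X U f).toImage ≫ P1.graphClosureι X U f) (q' := P1.graph X U f)
      (by rw [hιdef]; exact (P1.graph X U f).toImage_imageι) (VV X 0) ⊤
      (fun w hw => ht1 hw)
    exact congr($e2 (tt X 0 1))
  obtain ⟨hbij, hev⟩ := residueFieldMap_evaluation_eq (P1.graph X U f).toImage
    (P1.graphClosureι X U f ≫ CohB1.ProjSpaceOver.toBase 1 X) U.ι hcomp
    (genericPoint (U : Scheme.{u}))
    (Groth.Agent.Lib.R2H1.RatEquivClosed.residueFieldMap_bijective U.ι _)
    U f ((P1.graphClosureι X U f) ⁻¹ᵁ VV X 0)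
    (((P1.graphClosureι X U f).app (VV X 0)).hom (tt X 0 1)) ht1 ht2 hsec
    (genericPoint (P1.graph X U f).image) hηY hyV hpy
  have hgW : ((P1.graphClosureι X U f).residueFieldMap (genericPoint (P1.graph X U f).image)).hom
      (Phi X (P1.graphClosureι X U f (genericPoint (P1.graph X U f).image))) =
      ((P1.graphClosureι X U f ≫ CohB1.ProjSpaceOver.toBase 1 X).residueFieldMap
        (genericPoint (P1.graph X U f).image)).hom
        ((X.evaluation U _ hpy).hom f) := by
    rw [hev, Phi_of_mem X _ hyV]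
    exact Scheme.evaluation_naturality_apply (P1.graphClosureι X U f)
      (genericPoint (P1.graph X U f).image) hyV (tt X 0 1)
  rw [hgW, normGen_of_bijective _ _ hbij]
  rw [← divFun_congr_point δ hdom, evaluation_congr X U _ _ hdom hpy hη f]

end Part7

end Groth.Agent.Lib.R2H1.P1Graph
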