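/-
Intersection with the sections of P^1_X by the Tor formula: chi(A/(b), A/q) = ord_{A/q}(b) via Koszul (helper13), smoothness of projective space over its base, local rings of P^n_X are domains for X smooth over a field, stalks of ideal sheaves (stalkIdeal of a closed immersion kernel, of the closure of a point), interProd with a prime cycle as a sum over points, pr_*(alpha.[X x 0] - alpha.[X x infty]) ~ 0. (helper1)
-/
import Mathlib
import Groth.Prelude
import Groth.Agent.S9705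
import Groth.Agent.Lib.Helper13KzTor
import Groth.Agent.Lib.Helper27PnChart
import Groth.Agent.Lib.Helper6SmRegSch
import Groth.Agent.Lib.Helper5RLR
import Groth.Agent.Lib.Helper5StalkSpec
import Groth.Agent.Lib.Helper11RedCl
import Groth.Agent.Lib.R2H1ProperPushRat
import Groth.Agent.Lib.R2H1RatEquivOpen
import Groth.Agent.Lib.R2H1P1Fibres
import Groth.Agent.Lib.R2H1P1Graph
import Groth.Agent.Lib.R2H1C1Rel

set_option autoImplicit false
set_option linter.style.haveILetI false
set_option linter.unusedSectionVars false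
universe u v

namespace Groth.Agent.Lib.R2H1.P1Inter

section Part1

open Groth.Agent.Helper13Kz Pointwise

variable {A : Type u} [CommRing A]

/-- the Tor Euler characteristic against `A/(b)` for `b` regular on `A` and on `M`. -/
theorem chi_quot_singleton (b : A) (hb : IsSMulRegular A b) (M : Type u) [AddCommGroup M]
    [Module A M] (hM : IsSMulRegular M b) :
    IntMult.chi A (A ⧸ Ideal.span {b}) M = ((Module.length A (QuotSMulTop b M)).toNat : ℤ) := by
  have hl : RingTheory.Sequence.IsWeaklyRegular A [b] :=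
    (RingTheory.Sequence.isWeaklyRegular_singleton_iff A b).mpr hb
  have h1 := intMult_chi_eq_chi [b] hl M
  rw [Ideal.ofList_singleton] at h1
  rw [h1, chi_cons_of_regular [] b hM, chi_nil]

/-- `(A/q)/b(A/q)` and `(A/q)/(b̄)` have the same length. -/
theorem length_quotSMulTop_quot (q : Ideal A) (b : A) :
    Module.length A (QuotSMulTop b (A ⧸ q)) =
      Module.length (A ⧸ q) ((A ⧸ q) ⧸ Ideal.span {Ideal.Quotient.mk q b}) := by
  rw [← Module.length_eq_of_surjective (S := A) (R := A ⧸ q)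
    (M := (A ⧸ q) ⧸ Ideal.span {Ideal.Quotient.mk q b}) Ideal.Quotient.mk_surjective]
  have hsub : (b • (⊤ : Submodule A (A ⧸ q))) =
      (Ideal.span {Ideal.Quotient.mk q b}).restrictScalars A := by
    ext y
    rw [Submodule.restrictScalars_mem, Ideal.mem_span_singleton', Submodule.mem_smul_pointwise_iff_exists]
    constructor
    · rintro ⟨c, -, rfl⟩
      refine ⟨c, ?_⟩
      obtain ⟨c', rfl⟩ := Ideal.Quotient.mk_surjective c
      rw [Algebra.smul_def, mul_comm]
      rfl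
    · rintro ⟨c, rfl⟩
      refine ⟨c, trivial, ?_⟩
      obtain ⟨c', rfl⟩ := Ideal.Quotient.mk_surjective c
      rw [Algebra.smul_def, mul_comm]
      rfl
  exact ((Submodule.quotEquivOfEq _ _ hsub).trans
    (Submodule.Quotient.restrictScalarsEquiv A _)).length_eq

/-- the Tor formula against a Cartier divisor: `χ(A/(b), A/q) = ord_{A/q}(b̄)`. -/
theorem chi_quot_singleton_quot [IsDomain A] (b : A) (q : Ideal A) [q.IsPrime] (hbq : b ∉ q) :
    IntMult.chi A (A ⧸ Ideal.span {b}) (A ⧸ q) =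
      ((Ring.ord (A ⧸ q) (Ideal.Quotient.mk q b)).toNat : ℤ) := by
  have hb0 : b ≠ 0 := fun h => hbq (h ▸ q.zero_mem)
  have hb : IsSMulRegular A b := by
    intro x y hxy
    exact mul_left_cancel₀ hb0 hxy
  have hM : IsSMulRegular (A ⧸ q) b := by
    intro x y hxy
    have hne : Ideal.Quotient.mk q b ≠ 0 := by
      rw [Ne, Ideal.Quotient.eq_zero_iff_mem]
      exact hbq
    obtain ⟨x', rfl⟩ := Ideal.Quotient.mk_surjective x
    obtain ⟨y', rfl⟩ := Ideal.Quotient.mk_surjective y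
    have h2 : Ideal.Quotient.mk q b * Ideal.Quotient.mk q x' =
        Ideal.Quotient.mk q b * Ideal.Quotient.mk q y' := hxy
    exact mul_left_cancel₀ hne h2
  rw [chi_quot_singleton b hb (A ⧸ q) hM, length_quotSMulTop_quot]
  rfl

end Part1

section Part2

open CategoryTheory CategoryTheory.Limits AlgebraicGeometry MvPolynomial HomogeneousLocalization
open Groth.Agent.Lib.Helper27PnChart

variable (n : ℕ) (R : Type u) [CommRing R]

theorem smooth_ringHom (i : Fin (n + 1)) :
    ((HomogeneousLocalization.fromZeroRingHom (CohB1.polyGrading n R)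
        (Submonoid.powers (MvPolynomial.X i))).comp
      (algebraMap R (CohB1.polyGrading n R 0))).Smooth := by
  have h1 : (HomogeneousLocalization.fromZeroRingHom (CohB1.polyGrading n R)
        (Submonoid.powers (MvPolynomial.X i))).comp
      (algebraMap R (CohB1.polyGrading n R 0)) =
      (chart n R i).comp (C : R →+* MvPolynomial {j : Fin (n + 1) // j ≠ i} R) := by
    ext r
    unfold chart
    rw [RingHom.comp_apply, RingHom.comp_apply, MvPolynomial.eval₂Hom_C, RingHom.comp_apply]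
  rw [h1]
  refine RingHom.Smooth.comp ?_ (RingHom.Smooth.of_bijective (chart_bijective n R i))
  have h2 : (C : R →+* MvPolynomial {j : Fin (n + 1) // j ≠ i} R) =
      algebraMap R (MvPolynomial {j : Fin (n + 1) // j ≠ i} R) := rfl
  rw [h2, RingHom.smooth_algebraMap]
  exact ⟨inferInstance, inferInstance⟩

theorem smooth_toSpec' : @Smooth (Proj (CohB1.polyGrading n R)) _
    (Proj.toSpecZero (CohB1.polyGrading n R) ≫
      Spec.map (CommRingCat.ofHom (algebraMap R (CohB1.polyGrading n R 0)))) := by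
  rw [IsZariskiLocalAtSource.iff_of_iSup_eq_top (P := @Smooth) _ (iSup_basicOpen_X n R)]
  intro i
  rw [← MorphismProperty.cancel_left_of_respectsIso (P := @Smooth)
    (Proj.basicOpenIsoSpec (CohB1.polyGrading n R) (X i) (X_mem_one n R i) Nat.one_pos).inv,
    ← Category.assoc, ← Proj.awayι, ← Category.assoc, Proj.awayι_toSpecZero, ← Spec.map_comp,
    ← CommRingCat.ofHom_comp, HasRingHomProperty.Spec_iff (P := @Smooth)]
  exact smooth_ringHom n R i

theorem smooth_toSpec : Smooth (CohB1.ProjSpace.toSpec n R) := smooth_toSpec' n R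

theorem smooth_toBase (T : Scheme.{u}) : Smooth (CohB1.ProjSpaceOver.toBase n T) := by
  unfold CohB1.ProjSpaceOver.toBase
  exact MorphismProperty.pullback_snd (P := @Smooth) _ _ (smooth_toSpec n (ULift.{u} ℤ))

/-- the local rings of projective space over a smooth scheme over a field are domains. -/
theorem isDomain_stalk_projSpaceOver (K : Type u) [Field K] (X : Scheme.{u})
    (f : X ⟶ Spec (CommRingCat.of K)) [Smooth f] (ζ : CohB1.ProjSpaceOver n X) :
    IsDomain ((CohB1.ProjSpaceOver n X).presheaf.stalk ζ) := by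
  haveI := smooth_toBase n X
  haveI : Smooth (CohB1.ProjSpaceOver.toBase n X ≫ f) := inferInstance
  haveI := Groth.Agent.Lib.Helper6.SmRegSch.isRegularLocalRing_stalk_of_smooth_over_field K
    (CohB1.ProjSpaceOver n X) (CohB1.ProjSpaceOver.toBase n X ≫ f) ζ
  exact Groth.Agent.Lib.Helper5.isDomain_of_isRegularLocalRing _

end Part2

section Part3

open AlgebraicGeometry CategoryTheory CategoryTheory.Limits TopologicalSpace Topology
  Groth.Agent.Lib.R2H1.ProperPushRat Groth.Agent.Lib.R2H1.RatEquivOpen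

variable {X P : Scheme.{u}}

/-- the stalk of the ideal sheaf of a closed immersion is the kernel of the stalk map. -/
theorem stalkIdeal_ker (f : X ⟶ P) [IsClosedImmersion f] (x : X) :
    IntMult.stalkIdeal f.ker (f x) = RingHom.ker (f.stalkMap x).hom := by
  apply le_antisymm
  · unfold IntMult.stalkIdeal
    refine iSup_le fun U => iSup_le fun hx => ?_
    rw [Ideal.map_le_iff_le_comap]
    intro s hs
    rw [Scheme.Hom.ker_apply] at hs
    rw [Ideal.mem_comap, RingHom.mem_ker]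
    have h1 := f.germ_stalkMap_apply U.1 x hx s
    refine h1.trans ?_
    rw [(RingHom.mem_ker).mp hs, map_zero]
  · obtain ⟨U, hU, hxU, -⟩ := exists_isAffineOpen_mem_and_subset (X := P) (U := ⊤) (x := f x)
      trivial
    have hU' : IsAffineOpen (f ⁻¹ᵁ U) := hU.preimage f
    have hsq : ∀ a, (X.presheaf.germ (f ⁻¹ᵁ U) x hxU).hom ((f.app U).hom a) =
        (f.stalkMap x).hom ((P.presheaf.germ U (f x) hxU).hom a) := fun a =>
      (f.germ_stalkMap_apply U x hxU a).symm
    have h := Groth.Agent.Lib.Helper5.StalkSpec.ker_eq_map_of_isLocalization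
      (P.presheaf.germ U (f x) hxU).hom (X.presheaf.germ (f ⁻¹ᵁ U) x hxU).hom
      (f.app U).hom (f.stalkMap x).hom hsq (f.app_surjective U hU) _
      (hU.isLocalization_stalk ⟨f x, hxU⟩) _ (hU'.isLocalization_stalk ⟨x, hxU⟩)
    rw [h]
    unfold IntMult.stalkIdeal
    have h2 : f.ker.ideal ⟨U, hU⟩ = RingHom.ker (f.app U).hom := Scheme.Hom.ker_apply f ⟨U, hU⟩
    rw [← h2]
    exact le_iSup₂ (f := fun (V : P.affineOpens) (hx : f x ∈ (V : P.Opens)) =>
      (f.ker.ideal V).map (P.presheaf.germ V (f x) hx).hom) ⟨U, hU⟩ hxU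

/-- the stalk of the ideal sheaf of the closure of the generic point of a section. -/
theorem stalkIdeal_ptIdeal_section [IsIntegral X] (s : X ⟶ P) [IsClosedImmersion s] (x : X) :
    IntMult.stalkIdeal (IntMult.ptIdeal (s (genericPoint X))) (s x) =
      RingHom.ker (s.stalkMap x).hom := by
  have hcl : (⟨closure {s (genericPoint X)}, isClosed_closure⟩ : Closeds P) =
      Closeds.closure (Set.range s) := by
    apply SetLike.coe_injective
    show closure {s (genericPoint X)} = closure (Set.range s)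
    apply subset_antisymm
    · exact closure_mono (Set.singleton_subset_iff.mpr ⟨_, rfl⟩)
    · apply closure_minimal _ isClosed_closure
      rintro _ ⟨y, rfl⟩
      exact specializes_iff_mem_closure.mp
        (s.base.hom.map_specializes ((genericPoint_spec X).specializes trivial))
  unfold IntMult.ptIdeal
  rw [hcl, ← Groth.Agent.Lib.Helper11RedCl.ker_eq_of_isReduced s, stalkIdeal_ker]

theorem specMap_injective_of_isIntegral (Z : Scheme.{u}) [IsIntegral Z] (z : Z)
    (h : genericPoint Z ⤳ z) : Function.Injective (Cyc.specMap z (genericPoint Z) h) := by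
  unfold Cyc.specMap
  rw [CommRingCat.hom_comp, RingHom.coe_comp]
  refine Function.Injective.comp ?_ ?_
  · exact RingHom.injective (Z.residue (genericPoint Z)).hom
  · exact IsFractionRing.injective (Z.presheaf.stalk z) Z.functionField

theorem ker_specMap_congr (x : P) {ξ ξ' : P} (e : ξ = ξ') (h : ξ ⤳ x) (h' : ξ' ⤳ x) :
    RingHom.ker (Cyc.specMap x ξ h) = RingHom.ker (Cyc.specMap x ξ' h') := by
  subst e
  rfl

/-- the stalk of the ideal sheaf of the closure of a point is the prime of that point. -/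
theorem stalkIdeal_ptIdeal (ξ ζ : P) (h : ξ ⤳ ζ) :
    IntMult.stalkIdeal (IntMult.ptIdeal ξ) ζ = RingHom.ker (Cyc.specMap ζ ξ h) := by
  have hζ : ζ ∈ Set.range (ptι P ξ) := by
    rw [range_ptι]
    exact specializes_iff_mem_closure.mp h
  obtain ⟨z, rfl⟩ := hζ
  have hker : (ptι P ξ).ker = IntMult.ptIdeal ξ :=
    Scheme.IdealSheafData.ker_subschemeι (ptIdeal P ξ)
  rw [← hker, stalkIdeal_ker]
  have hη : ptι P ξ (genericPoint (ptScheme P ξ)) = ξ := ptι_genericPoint P ξ
  have hsp : genericPoint (ptScheme P ξ) ⤳ z := (genericPoint_spec _).specializes trivial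
  rw [← ker_specMap_congr (ptι P ξ z) hη ((ptι P ξ).base.hom.map_specializes hsp) h]
  ext a
  rw [RingHom.mem_ker, RingHom.mem_ker]
  have h1 := specMap_comp_stalkMap (ptι P ξ) z (genericPoint (ptScheme P ξ)) hsp a
  constructor
  · intro ha
    rw [ha, map_zero] at h1
    exact (map_eq_zero_iff _ (RingHom.injective _)).mp h1.symm
  · intro ha
    rw [ha, map_zero] at h1
    exact (map_eq_zero_iff _ (specMap_injective_of_isIntegral _ z hsp)).mp h1

end Part3

section Part4

open AlgebraicGeometry CategoryTheory CategoryTheory.Limits TopologicalSpace Topology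
  Groth.Agent.Lib.R2H1.ProperPushRat Groth.Agent.Lib.R2H1.RatEquivOpen
  Groth.Agent.Lib.R2H1.RatEquivClosed Groth.Agent.Lib.R2H1.LocQuot
  Groth.Agent.Lib.R2H1.PullInv Groth.Agent.Lib.R2H1.P1Fibres

variable {X P : Scheme.{u}}

open Classical in
/-- the intersection product with a prime cycle, as a sum over points. -/
theorem interProd_indicator (δ : P → ℤ) (N : ℤ) (μ : P → ℤ) (η ζ : P) :
    IntMult.interProd δ N μ (Set.indicator {η} 1) ζ =
      ∑ᶠ ξ : P, if (ξ ⤳ ζ ∧ η ⤳ ζ ∧ δ ξ + δ η - N = δ ζ) then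
        μ ξ * IntMult.mult (IntMult.ptIdeal ξ) (IntMult.ptIdeal η) ζ else 0 := by
  unfold IntMult.interProd
  set F : P × P → ℤ := fun p => if (p.1 ⤳ ζ ∧ p.2 ⤳ ζ ∧ δ p.1 + δ p.2 - N = δ ζ) then
    μ p.1 * (Set.indicator {η} 1 p.2 : ℤ) * IntMult.mult (IntMult.ptIdeal p.1) (IntMult.ptIdeal p.2) ζ
    else 0 with hF
  have h1 : (∑ᶠ p : {p : P × P // p.1 ⤳ ζ ∧ p.2 ⤳ ζ ∧ δ p.1 + δ p.2 - N = δ ζ},
      μ p.1.1 * (Set.indicator {η} 1 p.1.2 : ℤ) *
        IntMult.mult (IntMult.ptIdeal p.1.1) (IntMult.ptIdeal p.1.2) ζ) =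
      ∑ᶠ p : {p : P × P // p.1 ⤳ ζ ∧ p.2 ⤳ ζ ∧ δ p.1 + δ p.2 - N = δ ζ}, F p.1 := by
    refine finsum_congr (fun p => ?_)
    rw [hF]
    simp only
    rw [if_pos p.2]
  rw [h1, ← finsum_comp_of_injective (Subtype.val :
    {p : P × P // p.1 ⤳ ζ ∧ p.2 ⤳ ζ ∧ δ p.1 + δ p.2 - N = δ ζ} → P × P) Subtype.val_injective F]
  · rw [finsum_comp_of_injective (fun ξ : P => (ξ, η)) (fun a b hab => (Prod.mk.inj hab).1) F]
    · refine finsum_congr (fun ξ => ?_)
      rw [hF]
      simp only
      have : (Set.indicator {η} (1 : P → ℤ) η : ℤ) = 1 := by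
        rw [Set.indicator_of_mem (Set.mem_singleton η)]
        rfl
      rw [this, mul_one]
    · intro p hp
      rw [hF] at hp
      simp only at hp
      by_cases hpη : p.2 = η
      · exact ⟨p.1, by rw [← hpη]⟩
      · exfalso
        apply hp
        rw [Set.indicator_of_notMem (by simpa using hpη), mul_zero, zero_mul, ite_self]
  · intro p hp
    rw [hF] at hp
    simp only at hp
    by_cases hc : p.1 ⤳ ζ ∧ p.2 ⤳ ζ ∧ δ p.1 + δ p.2 - N = δ ζ
    · exact ⟨⟨p, hc⟩, rfl⟩
    · exact absurd (if_neg hc) hp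

/-- the Tor-formula multiplicity against a locally principal prime divisor is an order of
vanishing. -/
theorem mult_eq_ordAt [IsLocallyNoetherian P] {δ : P → ℤ} (hδ : Cyc.IsDimFun P δ) (ξ ζ : P)
    (h : ξ ⤳ ζ) (hd : δ ζ + 1 = δ ξ) (IW : P.IdealSheafData) (b : P.presheaf.stalk ζ)
    (hIW : IntMult.stalkIdeal IW ζ = Ideal.span {b}) [IsDomain (P.presheaf.stalk ζ)]
    (hb : Cyc.specMap ζ ξ h b ≠ 0) :
    IntMult.mult (IntMult.ptIdeal ξ) IW ζ = Cyc.ordAt ζ ξ h (Cyc.specMap ζ ξ h b) := by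
  unfold IntMult.mult
  rw [hIW, stalkIdeal_ptIdeal ξ ζ h, ordAt_specMap hδ ζ ξ h hd b hb]
  haveI : (RingHom.ker (Cyc.specMap ζ ξ h)).IsPrime := RingHom.ker_isPrime _
  exact chi_quot_singleton_quot b (RingHom.ker (Cyc.specMap ζ ξ h))
    (fun hmem => hb ((RingHom.mem_ker).mp hmem))

theorem mem_range_of_specializes (s : X ⟶ P) [IsClosedImmersion s] {y : X} {p : P}
    (h : s y ⤳ p) : p ∈ Set.range s := by
  by_contra hp
  exact notMem_range_of_specializes s h hp ⟨y, rfl⟩

open Classical in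
/-- the difference of the intersection products of a cycle `μ` on `P` with the two sections, as a
sum of principal divisors. -/
theorem interProd_sections_pointwise [IsIntegral X] (s0 s1 : X ⟶ P) [IsClosedImmersion s0]
    [IsClosedImmersion s1] (δ : X → ℤ) (δP : P → ℤ) (hPs : Cyc.IsSetup P δP)
    (hδ0 : ∀ x, δP (s0 x) = δ x) (hδ1 : ∀ x, δP (s1 x) = δ x)
    (Φ : (p : P) → P.residueField p) (hΦ : IsLineData s0 s1 Φ) (n : ℤ)
    (hn : δ (genericPoint X) = n) (hdom : ∀ p : P, IsDomain (P.presheaf.stalk p))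
    (k : ℤ) (μ : P → ℤ)
    (hμ1 : ∀ ξ, μ ξ ≠ 0 → δP ξ = k + 1 ∧ ξ ∉ Set.range s0 ∧ ξ ∉ Set.range s1) (p : P) :
    IntMult.interProd δP (n + 1) μ (Set.indicator {s0 (genericPoint X)} 1) p -
      IntMult.interProd δP (n + 1) μ (Set.indicator {s1 (genericPoint X)} 1) p =
      ∑ᶠ ξ : P, μ ξ * Cyc.divFun δP ξ (Φ ξ) p := by
  haveI : IsLocallyNoetherian P := hPs.1
  have hη0 : δP (s0 (genericPoint X)) = n := by rw [hδ0, hn]
  have hη1 : δP (s1 (genericPoint X)) = n := by rw [hδ1, hn]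
  have hsp0 : ∀ x, s0 (genericPoint X) ⤳ s0 x := fun x =>
    s0.base.hom.map_specializes ((genericPoint_spec X).specializes trivial)
  have hsp1 : ∀ x, s1 (genericPoint X) ⤳ s1 x := fun x =>
    s1.base.hom.map_specializes ((genericPoint_spec X).specializes trivial)
  rw [interProd_indicator, interProd_indicator]
  by_cases hp0 : p ∈ Set.range s0
  · obtain ⟨x, rfl⟩ := hp0
    have hns1 : s0 x ∉ Set.range s1 := fun ⟨x', hx'⟩ => hΦ.disj x x' hx'.symm
    have hz : (∑ᶠ ξ : P, if (ξ ⤳ s0 x ∧ s1 (genericPoint X) ⤳ s0 x ∧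
        δP ξ + δP (s1 (genericPoint X)) - (n + 1) = δP (s0 x)) then
        μ ξ * IntMult.mult (IntMult.ptIdeal ξ) (IntMult.ptIdeal (s1 (genericPoint X))) (s0 x)
        else 0) = 0 := by
      apply finsum_eq_zero_of_forall_eq_zero
      intro ξ
      rw [if_neg]
      rintro ⟨-, h2, -⟩
      exact hns1 (mem_range_of_specializes s1 h2)
    rw [hz, sub_zero]
    obtain ⟨b, hb, hbΦ⟩ := hΦ.zero x
    refine finsum_congr (fun ξ => ?_)
    by_cases hμ : μ ξ = 0
    · rw [hμ, zero_mul]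
      split_ifs <;> simp
    · obtain ⟨-, hξ0, hξ1⟩ := hμ1 ξ hμ
      unfold Cyc.divFun
      by_cases hc : ξ ⤳ s0 x ∧ δP (s0 x) + 1 = δP ξ
      · rw [if_pos ⟨hc.1, hsp0 x, by rw [hη0]; omega⟩, dif_pos hc]
        haveI := hdom (s0 x)
        rw [mult_eq_ordAt hPs.2.2 ξ (s0 x) hc.1 hc.2 _ b
          ((stalkIdeal_ptIdeal_section s0 x).trans hb)
          (by rw [hbΦ ξ hc.1 hξ0 hξ1]; exact hΦ.ne_zero ξ hξ0 hξ1), hbΦ ξ hc.1 hξ0 hξ1]
      · rw [if_neg, dif_neg hc, mul_zero]
        rintro ⟨h1, -, h3⟩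
        apply hc
        refine ⟨h1, ?_⟩
        rw [hη0] at h3
        omega
  · by_cases hp1 : p ∈ Set.range s1
    · obtain ⟨x, rfl⟩ := hp1
      have hz : (∑ᶠ ξ : P, if (ξ ⤳ s1 x ∧ s0 (genericPoint X) ⤳ s1 x ∧
          δP ξ + δP (s0 (genericPoint X)) - (n + 1) = δP (s1 x)) then
          μ ξ * IntMult.mult (IntMult.ptIdeal ξ) (IntMult.ptIdeal (s0 (genericPoint X))) (s1 x)
          else 0) = 0 := by
        apply finsum_eq_zero_of_forall_eq_zero
        intro ξ
        rw [if_neg]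
        rintro ⟨-, h2, -⟩
        exact hp0 (mem_range_of_specializes s0 h2)
      rw [hz, zero_sub, ← finsum_neg_distrib]
      obtain ⟨b, hb, hbΦ⟩ := hΦ.infty x
      refine finsum_congr (fun ξ => ?_)
      by_cases hμ : μ ξ = 0
      · rw [hμ, zero_mul]
        split_ifs <;> simp
      · obtain ⟨-, hξ0, hξ1⟩ := hμ1 ξ hμ
        unfold Cyc.divFun
        by_cases hc : ξ ⤳ s1 x ∧ δP (s1 x) + 1 = δP ξ
        · rw [if_pos ⟨hc.1, hsp1 x, by rw [hη1]; omega⟩, dif_pos hc]
          haveI := hdom (s1 x)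
          rw [mult_eq_ordAt hPs.2.2 ξ (s1 x) hc.1 hc.2 _ b
            ((stalkIdeal_ptIdeal_section s1 x).trans hb)
            (by rw [hbΦ ξ hc.1 hξ0 hξ1]; exact inv_ne_zero (hΦ.ne_zero ξ hξ0 hξ1)),
            hbΦ ξ hc.1 hξ0 hξ1, ordAt_inv]
          ring
        · rw [if_neg, dif_neg hc, mul_zero, neg_zero]
          rintro ⟨h1, -, h3⟩
          apply hc
          refine ⟨h1, ?_⟩
          rw [hη1] at h3
          omega
    · have hz0 : (∑ᶠ ξ : P, if (ξ ⤳ p ∧ s0 (genericPoint X) ⤳ p ∧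
          δP ξ + δP (s0 (genericPoint X)) - (n + 1) = δP p) then
          μ ξ * IntMult.mult (IntMult.ptIdeal ξ) (IntMult.ptIdeal (s0 (genericPoint X))) p
          else 0) = 0 := by
        apply finsum_eq_zero_of_forall_eq_zero
        intro ξ
        rw [if_neg]
        rintro ⟨-, h2, -⟩
        exact hp0 (mem_range_of_specializes s0 h2)
      have hz1 : (∑ᶠ ξ : P, if (ξ ⤳ p ∧ s1 (genericPoint X) ⤳ p ∧
          δP ξ + δP (s1 (genericPoint X)) - (n + 1) = δP p) then
          μ ξ * IntMult.mult (IntMult.ptIdeal ξ) (IntMult.ptIdeal (s1 (genericPoint X))) p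
          else 0) = 0 := by
        apply finsum_eq_zero_of_forall_eq_zero
        intro ξ
        rw [if_neg]
        rintro ⟨-, h2, -⟩
        exact hp1 (mem_range_of_specializes s1 h2)
      rw [hz0, hz1, sub_zero]
      symm
      apply finsum_eq_zero_of_forall_eq_zero
      intro ξ
      obtain ⟨b, hb, hbΦ⟩ := hΦ.unit p hp0 hp1
      unfold Cyc.divFun
      by_cases hc : ξ ⤳ p ∧ δP p + 1 = δP ξ
      · rw [dif_pos hc, ← hbΦ ξ hc.1, ordAt_specMap_unit hPs.2.2 p ξ hc.1 hc.2 b hb, mul_zero]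
      · rw [dif_neg hc, mul_zero]

end Part4

section Part5

open AlgebraicGeometry CategoryTheory CategoryTheory.Limits TopologicalSpace Topology
  Groth.Agent.Lib.R2H1.ProperPushRat Groth.Agent.Lib.R2H1.RatEquivOpen
  Groth.Agent.Lib.R2H1.RatEquivClosed Groth.Agent.Lib.R2H1.LocQuot
  Groth.Agent.Lib.R2H1.PullInv Groth.Agent.Lib.R2H1.P1Fibres
  Groth.Agent.Lib.R2H1.P1Geom Groth.Agent.Lib.R2H1.P1Graph Groth.Agent.Lib.R2H1.C1Rel

/-- `pr_*(α · [X × 0] − α · [X × ∞]) ∼ 0`. -/
theorem map_interProd_fibre_diff (K : Type u) [Field K] (X : Scheme.{u})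
    (f : X ⟶ Spec (CommRingCat.of K)) [Smooth f] [IsIntegral X] (δ : X → ℤ)
    (hX : Cyc.IsSetup X δ) (n : ℤ) (hn : δ (genericPoint X) = n)
    (δP : ↥(CohB1.ProjSpaceOver 1 X) → ℤ) (hPX : Cyc.IsSetup (CohB1.ProjSpaceOver 1 X) δP)
    (hP : Cyc.DeltaCompat (CohB1.ProjSpaceOver.toBase 1 X) δP δ)
    [QuasiCompact (CohB1.ProjSpaceOver.toBase 1 X)] (k : ℤ)
    (α : AlgebraicCycle (CohB1.ProjSpaceOver 1 X) ℤ) (hα : α ∈ Cyc.Zk _ δP (k + 1))
    (h0 : IntMult.IntersectProperly δP (n + 1) ⇑α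
      (Set.indicator {P1.sect X 0 (genericPoint X)} 1))
    (h1 : IntMult.IntersectProperly δP (n + 1) ⇑α
      (Set.indicator {P1.sect X 1 (genericPoint X)} 1))
    (γ : AlgebraicCycle (CohB1.ProjSpaceOver 1 X) ℤ)
    (hγ : ⇑γ = IntMult.interProd δP (n + 1) ⇑α (Set.indicator {P1.sect X 0 (genericPoint X)} 1) -
      IntMult.interProd δP (n + 1) ⇑α (Set.indicator {P1.sect X 1 (genericPoint X)} 1)) :
    Cyc.RatEquivZero δ k (AlgebraicCycle.map (CohB1.ProjSpaceOver.toBase 1 X) δP δ γ) := by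
  classical
  haveI : IsProper (CohB1.ProjSpaceOver.toBase 1 X) := Groth.Agent.S9705.isProper_toBase 1 X
  haveI := isClosedImmersion_sect X 0
  haveI := isClosedImmersion_sect X 1
  have hΦ := isLineData_Phi X
  have hδ0 : ∀ x, δP (P1.sect X 0 x) = δ x :=
    delta_sect (CohB1.ProjSpaceOver.toBase 1 X) (P1.sect X 0) (sect_toBase X 0) δ δP hP
  have hδ1 : ∀ x, δP (P1.sect X 1 x) = δ x :=
    delta_sect (CohB1.ProjSpaceOver.toBase 1 X) (P1.sect X 1) (sect_toBase X 1) δ δP hP
  have hη0 : δP (P1.sect X 0 (genericPoint X)) = n := by rw [hδ0, hn]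
  have hη1 : δP (P1.sect X 1 (genericPoint X)) = n := by rw [hδ1, hn]
  have hμ1 : ∀ ξ, α ξ ≠ 0 → δP ξ = k + 1 ∧ ξ ∉ Set.range (P1.sect X 0) ∧
      ξ ∉ Set.range (P1.sect X 1) := by
    intro ξ hξ
    refine ⟨by_contra fun hne => hξ (hα ξ hne), ?_, ?_⟩
    · rintro ⟨x, rfl⟩
      have hsp : P1.sect X 0 (genericPoint X) ⤳ P1.sect X 0 x :=
        (P1.sect X 0).base.hom.map_specializes ((genericPoint_spec X).specializes trivial)
      have := h0 (P1.sect X 0 x) (P1.sect X 0 (genericPoint X)) (P1.sect X 0 x) hξ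
        (by rw [Set.indicator_of_mem (Set.mem_singleton _)]; exact one_ne_zero) specializes_rfl hsp
      rw [hη0] at this
      omega
    · rintro ⟨x, rfl⟩
      have hsp : P1.sect X 1 (genericPoint X) ⤳ P1.sect X 1 x :=
        (P1.sect X 1).base.hom.map_specializes ((genericPoint_spec X).specializes trivial)
      have := h1 (P1.sect X 1 x) (P1.sect X 1 (genericPoint X)) (P1.sect X 1 x) hξ
        (by rw [Set.indicator_of_mem (Set.mem_singleton _)]; exact one_ne_zero) specializes_rfl hsp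
      rw [hη1] at this
      omega
  have hΦ0 : ∀ ξ, α ξ ≠ 0 → Phi X ξ ≠ 0 := fun ξ hξ =>
    hΦ.ne_zero ξ (hμ1 ξ hξ).2.1 (hμ1 ξ hξ).2.2
  have hpt : ∀ p, γ p = ∑ᶠ ξ : ↥(CohB1.ProjSpaceOver 1 X), α ξ * Cyc.divFun δP ξ (Phi X ξ) p := by
    intro p
    rw [hγ, Pi.sub_apply]
    exact interProd_sections_pointwise (P1.sect X 0) (P1.sect X 1) δ δP hPX hδ0 hδ1 (Phi X) hΦ n hn
      (fun p => isDomain_stalk_projSpaceOver 1 K X f p) k (⇑α) hμ1 p
  have hrat : Cyc.RatEquiv δP k γ 0 := by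
    unfold Cyc.RatEquiv
    rw [sub_zero]
    refine ⟨{ξ : ↥(CohB1.ProjSpaceOver 1 X) // α ξ ≠ 0}, fun ξ => ξ.1,
      fun ξ => Phi X ξ.1 ^ α ξ.1, ?_, ?_, ?_, ?_⟩
    · exact fun ξ => (hμ1 ξ.1 ξ.2).1
    · exact fun ξ => zpow_ne_zero _ (hΦ0 ξ.1 ξ.2)
    · exact cycle_support_locallyFinite α
    · intro p
      rw [finsum_divFun_eq δP hPX (Phi X) (⇑α) hΦ0 p]
      exact hpt p
  have hpush := Groth.Agent.Lib.R2H1.ProperPushRat.main _ X δP δ hPX hX
    (CohB1.ProjSpaceOver.toBase 1 X) hP k γ 0 hrat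
  unfold Cyc.RatEquiv at hpush
  have hz : AlgebraicCycle.map (CohB1.ProjSpaceOver.toBase 1 X) δP δ
      (0 : AlgebraicCycle (CohB1.ProjSpaceOver 1 X) ℤ) = (0 : AlgebraicCycle X ℤ) := by
    ext x
    rw [Groth.Agent.Lib.R2H1.RatEquivClosed.map_apply]
    simp
  rw [hz, sub_zero] at hpush
  exact hpush

end Part5

end Groth.Agent.Lib.R2H1.P1Inter
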