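/-
Intersection multiplicity against an effective Cartier divisor (S6453): symmetry of Tor and of the Tor Euler characteristic, chi(A/q, A/(g)) = length A/(q+(g)), support of an ideal sheaf via stalk ideals, stalk ideal of an integral closed subscheme as the prime of its generic point, a proper irreducible closed subset has smaller topological Krull dimension. (helper1)
-/
import Mathlib
import Groth.Prelude
import Groth.Agent.Lib.Helper13TorBal
import Groth.Agent.Lib.R2H1P1Inter
import Groth.Agent.Lib.R2H1P1Geom

set_option autoImplicit false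
set_option linter.style.haveILetI false
set_option linter.unusedSectionVars false
universe u v

namespace Groth.Agent.Lib.R2H1.IntMultCartier

section Part1

open CategoryTheory CategoryTheory.Limits MonoidalCategory Pointwise
  Groth.Agent.Helper13Tor Groth.Agent.Lib.R2H1.P1Inter

variable {R : Type u} [CommRing R]

/-- `Tor_n(M, N) ≅ Tor_n(N, M)`. -/
theorem nonempty_tor_symm (M N : ModuleCat.{u} R) (n : ℕ) :
    Nonempty (((Tor (ModuleCat.{u} R) n).obj M).obj N ≅
      ((Tor (ModuleCat.{u} R) n).obj N).obj M) := by
  let P : ProjectiveResolution M := ProjectiveResolution.of M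
  obtain ⟨e1⟩ := nonempty_tor_iso_homology M N P n
  let e2 := torIso P N n
  let e3 : ((tensorRight N).mapHomologicalComplex (ComplexShape.down ℕ)).obj P.complex ≅
      tC N P.complex :=
    (NatIso.mapHomologicalComplex (BraidedCategory.tensorLeftIsoTensorRight N).symm
      (ComplexShape.down ℕ)).app P.complex
  exact ⟨e1 ≪≫ (HomologicalComplex.homologyFunctor _ _ n).mapIso e3 ≪≫ e2.symm⟩

/-- the Tor Euler characteristic is symmetric. -/
theorem chi_symm (A : Type u) [CommRing A] (M N : Type u) [AddCommGroup M] [Module A M]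
    [AddCommGroup N] [Module A N] : IntMult.chi A M N = IntMult.chi A N M := by
  unfold IntMult.chi
  congr 1
  funext i
  obtain ⟨e⟩ := nonempty_tor_symm (ModuleCat.of A M) (ModuleCat.of A N) i
  have : Module.length A (DRing.Tor A i M N) = Module.length A (DRing.Tor A i N M) :=
    e.toLinearEquiv.length_eq
  rw [this]

variable {A : Type u} [CommRing A]

theorem length_quotSMulTop_quot' (q : Ideal A) (g : A) :
    Module.length A (QuotSMulTop g (A ⧸ q)) = Module.length A (A ⧸ (q ⊔ Ideal.span {g})) := by
  have hle : q ≤ q ⊔ Ideal.span {g} := le_sup_left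
  have hmap : Submodule.map (Submodule.mkQ q) (q ⊔ Ideal.span {g}) =
      g • (⊤ : Submodule A (A ⧸ q)) := by
    ext y
    rw [Submodule.mem_smul_pointwise_iff_exists]
    constructor
    · rintro ⟨a, ha, rfl⟩
      obtain ⟨a1, ha1, a2, ha2, rfl⟩ := Submodule.mem_sup.mp ha
      obtain ⟨c, rfl⟩ := Ideal.mem_span_singleton'.mp ha2
      refine ⟨Submodule.mkQ q c, trivial, ?_⟩
      have h0 : Submodule.mkQ q a1 = 0 := (Submodule.Quotient.mk_eq_zero q).mpr ha1
      rw [map_add, h0, zero_add, ← map_smul, smul_eq_mul, mul_comm]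
    · rintro ⟨m, -, rfl⟩
      obtain ⟨c, rfl⟩ := Submodule.mkQ_surjective q m
      refine ⟨g * c, Submodule.mem_sup_right (Ideal.mem_span_singleton'.mpr ⟨c, mul_comm _ _⟩), ?_⟩
      rw [← smul_eq_mul, map_smul]
  exact ((Submodule.quotEquivOfEq _ _ hmap.symm).trans
    (Submodule.quotientQuotientEquivQuotient q (q ⊔ Ideal.span {g}) hle)).length_eq

/-- the Tor formula against a Cartier divisor, in the other order. -/
theorem chi_quot_quot_singleton [IsDomain A] (g : A) (q : Ideal A) [q.IsPrime] (hgq : g ∉ q) :
    IntMult.chi A (A ⧸ q) (A ⧸ Ideal.span {g}) =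
      ((Module.length A (A ⧸ (q ⊔ Ideal.span {g}))).toNat : ℤ) := by
  have hg0 : g ≠ 0 := fun h => hgq (h ▸ q.zero_mem)
  have hb : IsSMulRegular A g := by
    intro x y hxy
    exact mul_left_cancel₀ hg0 hxy
  have hM : IsSMulRegular (A ⧸ q) g := by
    intro x y hxy
    have hne : Ideal.Quotient.mk q g ≠ 0 := by
      rw [Ne, Ideal.Quotient.eq_zero_iff_mem]
      exact hgq
    obtain ⟨x', rfl⟩ := Ideal.Quotient.mk_surjective x
    obtain ⟨y', rfl⟩ := Ideal.Quotient.mk_surjective y
    have h2 : Ideal.Quotient.mk q g * Ideal.Quotient.mk q x' =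
        Ideal.Quotient.mk q g * Ideal.Quotient.mk q y' := hxy
    exact mul_left_cancel₀ hne h2
  rw [chi_symm, chi_quot_singleton g hb (A ⧸ q) hM, length_quotSMulTop_quot']

end Part1

section Part2

open AlgebraicGeometry CategoryTheory CategoryTheory.Limits TopologicalSpace Topology
  Groth.Agent.Lib.R2H1.P1Inter Groth.Agent.Lib.R2H1.RatEquivOpen
  Groth.Agent.Lib.R2H1.P1Geom

variable {X W : Scheme.{u}}

/-- a generization `ξ'` of `ξ` lies in the support of `I` iff the stalk of `I` at `ξ` is contained
in the prime of `ξ'`. -/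
theorem mem_support_iff_stalkIdeal_le (I : X.IdealSheafData) (ξ ξ' : X) (h : ξ' ⤳ ξ) :
    ξ' ∈ I.support ↔ IntMult.stalkIdeal I ξ ≤ RingHom.ker (Cyc.specMap ξ ξ' h) := by
  constructor
  · intro hmem
    unfold IntMult.stalkIdeal
    refine iSup_le fun U => iSup_le fun hx => ?_
    rw [Ideal.map_le_iff_le_comap]
    intro s hs
    rw [Ideal.mem_comap, RingHom.mem_ker, specMap_germ']
    have hξ'U : ξ' ∈ U.1 := h.mem_open U.1.2 hx
    have hz := (Scheme.IdealSheafData.mem_support_iff_of_mem (U := U) hξ'U).mp hmem
    rw [Scheme.mem_zeroLocus_iff] at hz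
    have hnu := hz s hs
    rw [Scheme.mem_basicOpen _ _ _ hξ'U] at hnu
    exact (IsLocalRing.residue_eq_zero_iff _).mpr ((IsLocalRing.mem_maximalIdeal _).mpr hnu)
  · intro hle
    obtain ⟨U, hU, hxU, -⟩ := exists_isAffineOpen_mem_and_subset (X := X) (U := ⊤) (x := ξ) trivial
    have hξ'U : ξ' ∈ U := h.mem_open U.2 hxU
    rw [Scheme.IdealSheafData.mem_support_iff_of_mem (U := ⟨U, hU⟩) hξ'U,
      Scheme.mem_zeroLocus_iff]
    intro s hs
    rw [Scheme.mem_basicOpen _ _ _ hξ'U]
    have h1 : (X.presheaf.germ U ξ hxU).hom s ∈ IntMult.stalkIdeal I ξ := by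
      unfold IntMult.stalkIdeal
      exact (le_iSup₂ (f := fun (V : X.affineOpens) (hx : ξ ∈ (V : X.Opens)) =>
        (I.ideal V).map (X.presheaf.germ V ξ hx).hom) ⟨U, hU⟩ hxU) (Ideal.mem_map_of_mem _ hs)
    have h2 := hle h1
    rw [RingHom.mem_ker, specMap_germ'] at h2
    intro hu
    exact ((IsLocalRing.residue_ne_zero_iff_isUnit _).mpr hu) h2

/-- for an integral scheme `W` mapping to `X`, the kernel of the stalk map at `z` is the prime of
the image of the generic point. -/
theorem ker_stalkMap_eq_ker_specMap (ι : W ⟶ X) [IsIntegral W] (z : W) :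
    RingHom.ker (ι.stalkMap z).hom = RingHom.ker (Cyc.specMap (ι z) (ι (genericPoint W))
      (ι.base.hom.map_specializes ((genericPoint_spec W).specializes trivial))) := by
  have hsp : genericPoint W ⤳ z := (genericPoint_spec W).specializes trivial
  ext a
  rw [RingHom.mem_ker, RingHom.mem_ker]
  have h1 := specMap_comp_stalkMap ι z (genericPoint W) hsp a
  constructor
  · intro ha
    rw [ha, map_zero] at h1
    exact (map_eq_zero_iff _ (RingHom.injective _)).mp h1.symm
  · intro ha
    rw [ha, map_zero] at h1
    exact (map_eq_zero_iff _ (specMap_injective_of_isIntegral _ z hsp)).mp h1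

theorem stalkIdeal_subscheme (I : X.IdealSheafData) (z : I.subscheme) :
    IntMult.stalkIdeal I (I.subschemeι z) = RingHom.ker (I.subschemeι.stalkMap z).hom := by
  have := stalkIdeal_ker I.subschemeι z
  rwa [Scheme.IdealSheafData.ker_subschemeι] at this

/-- a proper irreducible closed subset of an irreducible space has smaller dimension. -/
theorem topologicalKrullDim_add_one_le {T : Type*} [TopologicalSpace T] (Z : Set T)
    (hZc : IsClosed Z) (hZi : IsIrreducible Z) (hT : IsIrreducible (Set.univ : Set T))
    (hne : Z ≠ Set.univ) : topologicalKrullDim Z + 1 ≤ topologicalKrullDim T := by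
  let z : IrreducibleCloseds T := ⟨Z, hZi, hZc⟩
  let t : IrreducibleCloseds T := ⟨Set.univ, hT, isClosed_univ⟩
  have hlt : z < t := by
    refine lt_of_le_of_ne (fun x _ => trivial) (fun h => hne ?_)
    exact congrArg (fun s : IrreducibleCloseds T => (s : Set T)) h
  have h1 : Order.height z + 1 ≤ Order.height t := Order.height_add_one_le hlt
  have h2 : (Order.height t : WithBot ℕ∞) ≤ Order.krullDim (IrreducibleCloseds T) :=
    Order.height_le_krullDim t
  have h3 : topologicalKrullDim Z ≤ (Order.height z : WithBot ℕ∞) := by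
    unfold topologicalKrullDim
    rw [Order.krullDim_eq_iSup_height]
    refine iSup_le fun a => ?_
    have hφ := IrreducibleCloseds.map_strictMono_of_isInducing
      (Topology.IsInducing.subtypeVal (t := Z))
    have hle : IrreducibleCloseds.map Subtype.val continuous_subtype_val a ≤ z := by
      intro x hx
      refine hZc.closure_subset_iff.mpr ?_ hx
      rintro _ ⟨y, -, rfl⟩
      exact y.2
    exact_mod_cast (Order.height_le_height_apply_of_strictMono _ hφ a).trans
      (Order.height_mono hle)
  calc topologicalKrullDim Z + 1 ≤ (Order.height z : WithBot ℕ∞) + 1 := by gcongr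
    _ ≤ Order.height t := by exact_mod_cast h1
    _ ≤ _ := h2

end Part2

section Part3

open AlgebraicGeometry CategoryTheory CategoryTheory.Limits TopologicalSpace Topology
  Groth.Agent.Lib.R2H1.P1Inter Groth.Agent.Lib.R2H1.RatEquivOpen

variable {X : Scheme.{u}}

/-- the stalk of the ideal sheaf of an integral closed subscheme is the prime of its generic
point. -/
theorem stalkIdeal_eq_ker_specMap_generic (I : X.IdealSheafData) [IsIntegral I.subscheme] (ξ : X)
    (hξ : ξ ∈ I.support) (hsp : I.subschemeι (genericPoint I.subscheme) ⤳ ξ) :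
    IntMult.stalkIdeal I ξ =
      RingHom.ker (Cyc.specMap ξ (I.subschemeι (genericPoint I.subscheme)) hsp) := by
  have hξ' : ξ ∈ Set.range I.subschemeι := by
    rw [Scheme.IdealSheafData.range_subschemeι]; exact hξ
  obtain ⟨z, rfl⟩ := hξ'
  rw [stalkIdeal_subscheme, ker_stalkMap_eq_ker_specMap]

/-- the Tor-formula multiplicity when `V` is an effective Cartier divisor at `ξ`. -/
theorem mult_eq_length_of_cartier [IsIntegral X] (IV IW : X.IdealSheafData)
    [IsIntegral IV.subscheme] [IsIntegral IW.subscheme] (n r s : ℕ)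
    (hn : topologicalKrullDim X = n) (hr : topologicalKrullDim IV.support = r)
    (hs : topologicalKrullDim IW.support = s)
    (hprop : IntMult.ProperInt (IV.support : Set X) (IW.support : Set X) n r s) (ξ : X)
    (hξV : ξ ∈ IV.support) (hξW : ξ ∈ IW.support)
    (hmax : ∀ ξ' : X, ξ' ∈ IV.support → ξ' ∈ IW.support → ξ' ⤳ ξ → ξ' = ξ)
    (g : ↑(X.presheaf.stalk ξ)) (hg : IntMult.stalkIdeal IV ξ = Ideal.span {g})
    (hreg : IsSMulRegular (↑(X.presheaf.stalk ξ)) g) :
    (IntMult.mult IV IW ξ : ℤ) = (Module.length (X.presheaf.stalk ξ)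
      (↑(X.presheaf.stalk ξ) ⧸ (IntMult.stalkIdeal IW ξ ⊔ Ideal.span {g}))).toNat := by
  classical
  have hξW' : ξ ∈ Set.range IW.subschemeι := by
    rw [Scheme.IdealSheafData.range_subschemeι]; exact hξW
  have hspw : IW.subschemeι (genericPoint IW.subscheme) ⤳ ξ := by
    obtain ⟨z, rfl⟩ := hξW'
    exact IW.subschemeι.base.hom.map_specializes ((genericPoint_spec _).specializes trivial)
  have hIW := stalkIdeal_eq_ker_specMap_generic IW ξ hξW hspw
  haveI hprime : (IntMult.stalkIdeal IW ξ).IsPrime := by
    rw [hIW]; exact RingHom.ker_isPrime _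
  have hgW : g ∉ IntMult.stalkIdeal IW ξ := by
    intro hgmem
    have hle : IntMult.stalkIdeal IV ξ ≤
        RingHom.ker (Cyc.specMap ξ (IW.subschemeι (genericPoint IW.subscheme)) hspw) := by
      rw [hg, ← hIW, Ideal.span_le, Set.singleton_subset_iff]
      exact hgmem
    have hwV : IW.subschemeι (genericPoint IW.subscheme) ∈ IV.support :=
      (mem_support_iff_stalkIdeal_le IV ξ _ hspw).mpr hle
    have hwW : IW.subschemeι (genericPoint IW.subscheme) ∈ IW.support := by
      rw [← SetLike.mem_coe, ← Scheme.IdealSheafData.range_subschemeι]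
      exact ⟨_, rfl⟩
    have hWV : (IW.support : Set X) ⊆ IV.support := by
      intro y hy
      rw [← Scheme.IdealSheafData.range_subschemeι] at hy
      obtain ⟨y', rfl⟩ := hy
      have hsp' : IW.subschemeι (genericPoint IW.subscheme) ⤳ IW.subschemeι y' :=
        IW.subschemeι.base.hom.map_specializes ((genericPoint_spec _).specializes trivial)
      exact IV.support.isClosed.closure_subset_iff.mpr (Set.singleton_subset_iff.mpr hwV)
        (specializes_iff_mem_closure.mp hsp')
    have hinter : (IV.support : Set X) ∩ IW.support = IW.support := Set.inter_eq_right.mpr hWV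
    obtain ⟨hnrs, hdim⟩ := hprop ⟨ξ, hξV, hξW⟩
    rw [hinter] at hdim
    have hs' : topologicalKrullDim ↥(IW.support : Set X) = s := hs
    rw [hs'] at hdim
    have h1 : s ≤ r + s - n := by exact_mod_cast hdim
    have hnr : n ≤ r := by omega
    have hVuniv : (IV.support : Set X) = Set.univ := by
      by_contra hne
      have hirr : IsIrreducible (IV.support : Set X) := by
        rw [← Scheme.IdealSheafData.range_subschemeι, ← Set.image_univ]
        exact (IrreducibleSpace.isIrreducible_univ _).image _
          IV.subschemeι.continuous.continuousOn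
      have h2 := topologicalKrullDim_add_one_le (IV.support : Set X) IV.support.isClosed hirr
        (IrreducibleSpace.isIrreducible_univ X) hne
      have hr' : topologicalKrullDim ↥(IV.support : Set X) = r := hr
      rw [hr', hn] at h2
      have h3 : r + 1 ≤ n := by exact_mod_cast h2
      omega
    have hηV : genericPoint X ∈ IV.support := by
      show genericPoint X ∈ (IV.support : Set X)
      rw [hVuniv]; trivial
    have hspη : genericPoint X ⤳ ξ := (genericPoint_spec X).specializes trivial
    have hle2 := (mem_support_iff_stalkIdeal_le IV ξ (genericPoint X) hspη).mp hηV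
    have hg0 : g = 0 := by
      have h4 : g ∈ RingHom.ker (Cyc.specMap ξ (genericPoint X) hspη) :=
        hle2 (by rw [hg]; exact Ideal.subset_span rfl)
      exact (map_eq_zero_iff _ (specMap_injective_of_isIntegral X ξ hspη)).mp
        ((RingHom.mem_ker).mp h4)
    rw [hg0] at hreg
    have h5 := hreg (show (0 : ↑(X.presheaf.stalk ξ)) • (1 : ↑(X.presheaf.stalk ξ)) =
      (0 : ↑(X.presheaf.stalk ξ)) • (0 : ↑(X.presheaf.stalk ξ)) by simp)
    exact one_ne_zero h5
  unfold IntMult.mult
  rw [hg]
  exact chi_quot_quot_singleton g (IntMult.stalkIdeal IW ξ) hgW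

end Part3

end Groth.Agent.Lib.R2H1.IntMultCartier
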