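import Mathlib
import Groth.Agent.Lib.Helper4VarDim5
import Groth.Agent.Lib.Helper4VarDim6
import Groth.Agent.Lib.Helper4DimFormulaAE
import Groth.Agent.Lib.Helper20FittSheaf
import Groth.Agent.Lib.Helper23FinType
import Groth.Agent.S8871
import Groth.Agent.S0020

/-!
# Codimension of the support of a coherent module at a stalk (helper3, round 2)

Namespace `Groth.Agent.Lib.R2H3.SuppCodim`.

* `supportDim_add_le_of_height` : ring lemma. If every prime of `Supp M` has height `≥ p` and
  `dim R = r < ∞`, then `dim Supp M + p ≤ dim R`.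
* `fromSpecStalk_mem_support` : for `E` quasi-coherent of finite type and `𝔭 ∈ Supp_{O_x} E_x`, the
  point `X.fromSpecStalk x 𝔭` lies in `Supp E`.
* `ringKrullDim_stalk_add_trdegNat` : on an irreducible scheme l.f.t. over a field of dimension `n`,
  `dim O_{X,y} + trdeg κ(y)/k = n`.
* `supportDim_stalk_add_le` : `X` irreducible l.f.t. over `k` of dimension `n`, `E` coherent with
  `dim Supp E = d`: `dim Supp E_x + (n - d) ≤ dim O_{X,x}`.
-/

set_option autoImplicit false
set_option linter.style.haveILetI false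
universe u

open AlgebraicGeometry CategoryTheory TopologicalSpace

namespace Groth.Agent.Lib.R2H3.SuppCodim

open Groth.Agent.Lib.Helper4.VarDim Groth.Agent.Lib.Helper4.DimFormula

section Ring

variable (R : Type*) [CommRing R] (M : Type*) [AddCommGroup M] [Module R M]

theorem supportDim_add_le_of_height (p r : ℕ) (hr : ringKrullDim R = r)
    (h : ∀ 𝔭 : PrimeSpectrum R, 𝔭 ∈ Module.support R M → (p : ℕ∞) ≤ 𝔭.asIdeal.height) :
    Module.supportDim R M + (p : WithBot ℕ∞) ≤ ringKrullDim R := by
  have key : ∀ l : LTSeries (Module.support R M), l.length + p ≤ r := by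
    intro l
    set 𝔭 : PrimeSpectrum R := l.head.1 with h𝔭
    have h1 : ((l.length : ℕ∞) : WithBot ℕ∞) ≤ ringKrullDim (R ⧸ 𝔭.asIdeal) := by
      rw [ringKrullDim_quotient_eq_coheight']
      refine WithBot.coe_le_coe.mpr ?_
      have := Order.length_le_coheight_head (p := l.map Subtype.val (fun a b hab => hab))
      simpa using this
    have h2 := height_add_ringKrullDim_quotient_le' 𝔭.asIdeal
    have h3 := h 𝔭 l.head.2
    have h4 : (((p : ℕ∞) + (l.length : ℕ∞) : ℕ∞) : WithBot ℕ∞) ≤ (r : WithBot ℕ∞) := by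
      rw [← hr]
      refine le_trans ?_ h2
      push_cast
      exact add_le_add (WithBot.coe_le_coe.mpr h3) h1
    have h5 : (p : ℕ∞) + (l.length : ℕ∞) ≤ (r : ℕ∞) := by exact_mod_cast h4
    have h6 : p + l.length ≤ r := by exact_mod_cast h5
    omega
  rcases isEmpty_or_nonempty (Module.support R M) with hE | hE
  · unfold Module.supportDim
    rw [Order.krullDim_eq_bot, WithBot.bot_add]
    exact bot_le
  · obtain ⟨a⟩ := hE
    have hpr : p ≤ r := by
      have := key (RelSeries.singleton _ a)
      simpa using this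
    have hlt : Module.supportDim R M < ((r - p + 1 : ℕ) : WithBot ℕ∞) := by
      unfold Module.supportDim
      rw [Order.krullDim_lt_coe_iff]
      intro l
      have := key l
      omega
    have hle : Module.supportDim R M ≤ ((r - p : ℕ) : WithBot ℕ∞) := by
      generalize Module.supportDim R M = s at hlt
      induction s with
      | bot => exact bot_le
      | coe s =>
        have e1 : ((r - p + 1 : ℕ) : WithBot ℕ∞) = (((r - p + 1 : ℕ) : ℕ∞) : WithBot ℕ∞) := rfl
        rw [e1] at hlt
        have h1 : s < ((r - p + 1 : ℕ) : ℕ∞) := WithBot.coe_lt_coe.mp hlt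
        have h2 : s ≤ ((r - p : ℕ) : ℕ∞) := by
          rw [Nat.cast_add, Nat.cast_one] at h1
          exact Order.le_of_lt_add_one h1
        have e2 : ((r - p : ℕ) : WithBot ℕ∞) = (((r - p : ℕ) : ℕ∞) : WithBot ℕ∞) := rfl
        rw [e2]
        exact WithBot.coe_le_coe.mpr h2
    rw [hr]
    calc Module.supportDim R M + (p : WithBot ℕ∞)
        ≤ ((r - p : ℕ) : WithBot ℕ∞) + (p : WithBot ℕ∞) := add_le_add_left hle _
      _ = (r : WithBot ℕ∞) := by
          have : r - p + p = r := by omega
          exact_mod_cast this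

end Ring

section Sch

variable {X : Scheme.{u}}

theorem fromSpecStalk_mem_support (E : X.Modules) [E.IsQuasicoherent]
    [SheafOfModules.IsFiniteType (R := X.ringCatSheaf) E] (x : X)
    (𝔭 : PrimeSpectrum (X.presheaf.stalk x))
    (h : 𝔭 ∈ Module.support (X.presheaf.stalk x) (E.presheaf.stalk x)) :
    X.fromSpecStalk x 𝔭 ∈ CohB1.support E := by
  obtain ⟨U, hU, hxU, -⟩ := exists_isAffineOpen_mem_and_subset (U := ⊤) (x := x) trivial
  haveI : Module.Finite Γ(X, U) Γ(E, U) :=
    Groth.Agent.Lib.Helper23.FinType.finite_of_isFiniteType E hU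
  set P : PrimeSpectrum Γ(X, U) := PrimeSpectrum.comap (X.presheaf.germ U x hxU).hom 𝔭 with hP
  have hPS : P ∈ Module.support Γ(X, U) Γ(E, U) :=
    (Groth.Agent.S8871.mem_support_stalk_iff hU E x hxU 𝔭).1 h
  have hy : X.fromSpecStalk x 𝔭 = hU.fromSpec P := by
    rw [← hU.fromSpecStalk_eq_fromSpecStalk hxU]
    rfl
  rw [hy]
  change ¬ Subsingleton (E.presheaf.stalk (hU.fromSpec P))
  rw [Groth.Agent.Lib.Helper20.FittSheaf.subsingleton_stalk_iff_notMem_support E hU _
    (Groth.Agent.Lib.Helper2.QCoh.fromSpec_mem hU P),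
    Groth.Agent.Lib.Helper2.QCoh.primeIdealOf_fromSpec, not_not]
  exact hPS

end Sch

section Field

variable (k : Type u) [Field k] (X : Scheme.{u}) [X.Over (Spec (CommRingCat.of k))]
  [LocallyOfFiniteType (X ↘ Spec (CommRingCat.of k))]

theorem ringKrullDim_stalk_add_trdegNat [IrreducibleSpace X] (n : ℕ)
    (hn : topologicalKrullDim X = (n : WithBot ℕ∞)) (y : X) :
    ∃ b : ℕ, ringKrullDim (X.presheaf.stalk y) = b ∧ b + trdegNat k X y = n := by
  obtain ⟨b, hb⟩ := exists_ringKrullDim_stalk_eq k X y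
  refine ⟨b, hb, ?_⟩
  have h1 := localDim_eq_add k X y (trdegNat k X y) b (trdeg_eq_trdegNat k X y) hb
  have h2 : FlatMor.localDim X y = topologicalKrullDim X := by
    apply le_antisymm (Groth.Agent.Lib.Helper7.TopDim.localDim_le_dim y)
    rw [Groth.Agent.Lib.Helper7.TopDim.le_localDim_iff]
    intro U hU
    exact (topologicalKrullDim_opens_eq_of_irreducible k X U ⟨y, hU⟩).ge
  rw [h2, hn] at h1
  have : n = trdegNat k X y + b := by exact_mod_cast h1
  omega

include k in
theorem supportDim_stalk_add_le [IrreducibleSpace X] (n : ℕ)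
    (hn : topologicalKrullDim X = (n : WithBot ℕ∞))
    (E : X.Modules) [E.IsQuasicoherent] [SheafOfModules.IsFiniteType (R := X.ringCatSheaf) E]
    (d : ℕ) (hd : topologicalKrullDim (CohB1.support E) = (d : WithBot ℕ∞)) (x : X) :
    Module.supportDim (X.presheaf.stalk x) (E.presheaf.stalk x) + ((n - d : ℕ) : WithBot ℕ∞) ≤
      ringKrullDim (X.presheaf.stalk x) := by
  obtain ⟨r, hr, -⟩ := ringKrullDim_stalk_add_trdegNat k X n hn x
  refine supportDim_add_le_of_height _ _ (n - d) r hr ?_
  intro 𝔭 h𝔭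
  have hy := fromSpecStalk_mem_support E x 𝔭 h𝔭
  set y := X.fromSpecStalk x 𝔭 with hydef
  obtain ⟨b, hb, hbn⟩ := ringKrullDim_stalk_add_trdegNat k X n hn y
  have hcl : IsClosed (CohB1.support E) := Groth.Agent.S0020.result X E inferInstance
  have ht := trdegNat_le_topologicalKrullDim_of_isLocallyClosed k X _ hcl.isLocallyClosed y hy
  rw [hd] at ht
  have ht' : trdegNat k X y ≤ d := by exact_mod_cast ht
  have hh := height_eq_ringKrullDim_stalk_fromSpecStalk x 𝔭.asIdeal
  change _ = ringKrullDim (X.presheaf.stalk y) at hh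
  rw [hb] at hh
  have hh' : 𝔭.asIdeal.height = (b : ℕ∞) := by exact_mod_cast hh
  rw [hh']
  have : n - d ≤ b := by omega
  exact_mod_cast this

end Field

end Groth.Agent.Lib.R2H3.SuppCodim
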