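/-
Intersection multiplicity one (helper1, round 2): chi of a weakly regular sequence is the length of the quotient; local_core: in a regular local ring A with P+Q = m and dim A <= dim A/P + dim A/Q, chi(A/Q, A/P)=1 and A/P, A/Q are regular; isDimFun_trdegNat; support_eq_closure; main (S1873).
-/
import Mathlib
import Groth.Prelude
import Groth.Agent.Lib.Helper5RLR
import Groth.Agent.Lib.Helper13KzTor
import Groth.Agent.Lib.Helper13KzEngine
import Groth.Agent.Lib.Helper6SmRegSch
import Groth.Agent.Lib.Helper4VarDim6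
import Groth.Agent.Lib.Helper4VarDim3
import Groth.Agent.Lib.Helper4DimFormulaY
import Groth.Agent.Lib.R2H3SuppCodim
import Groth.Agent.Lib.R2H1IntMultCartier

set_option autoImplicit false
set_option linter.style.haveILetI false
set_option linter.unusedSectionVars false
universe u v

namespace Groth.Agent.Lib.R2H1.MultOne

section Part1

open IsLocalRing Module Groth.Agent.Lib.Helper5 RingTheory.Sequence Groth.Agent.Helper13Kz Pointwise

variable {A : Type u} [CommRing A]

/-- the Koszul Euler characteristic of a weakly regular sequence is the length of the quotient. -/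
theorem chi_of_isWeaklyRegular (l : List A) : ∀ (M : Type u) [AddCommGroup M] [Module A M],
    IsWeaklyRegular M l →
    chi l M = ((Module.length A (M ⧸ (Ideal.ofList l • ⊤ : Submodule A M))).toNat : ℤ) := by
  induction l with
  | nil =>
    intro M _ _ _
    rw [chi_nil]
    congr 2
    have hbot : (Ideal.ofList ([] : List A) • ⊤ : Submodule A M) = ⊥ := by
      rw [Ideal.ofList_nil, Submodule.bot_smul]
    exact ((Submodule.quotEquivOfEqBot _ hbot).length_eq).symm
  | cons r rs ih =>
    intro M _ _ h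
    obtain ⟨h1, h2⟩ := (isWeaklyRegular_cons_iff M r rs).mp h
    rw [chi_cons_of_regular rs r h1, ih (QuotSMulTop r M) h2]
    congr 2
    exact ((Submodule.quotOfListConsSMulTopEquivQuotSMulTopInner M r rs).length_eq).symm

/-- `(A/P)/Q(A/P)` has the length of `A/(P+Q)`. -/
theorem length_quot_smul_top (P Q : Ideal A) :
    Module.length A ((A ⧸ P) ⧸ (Q • ⊤ : Submodule A (A ⧸ P))) = Module.length A (A ⧸ (P ⊔ Q)) := by
  have h1 : (Q • ⊤ : Submodule A (A ⧸ P)) = Submodule.map (Submodule.mkQ P) Q := by
    rw [← Submodule.range_mkQ, ← Submodule.map_top, ← Submodule.map_smul'']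
    congr 1
    exact Ideal.mul_top Q
  exact ((Submodule.quotEquivOfEq _ _ h1).trans
    (Submodule.quotientQuotientEquivQuotientSup P Q)).length_eq

end Part1

section Part2

open IsLocalRing Module Groth.Agent.Lib.Helper5 RingTheory.Sequence Groth.Agent.Helper13Kz Pointwise

theorem ofList_ofFn {A : Type u} [CommRing A] {n : ℕ} (y : Fin n → A) :
    Ideal.ofList (List.ofFn y) = Ideal.span (Set.range y) := by
  rw [Ideal.ofList]
  congr 1
  ext a
  exact List.mem_ofFn' y a

theorem sup_eq_maximalIdeal_of_length_eq_one {A : Type u} [CommRing A] [IsLocalRing A]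
    (I : Ideal A) (h1 : Module.length A (A ⧸ I) = 1) : I = maximalIdeal A := by
  have hs : IsSimpleModule A (A ⧸ I) := Module.length_eq_one_iff.mp h1
  have : I.IsMaximal := by
    rw [Ideal.isMaximal_def]
    exact isSimpleModule_iff_isCoatom.mp hs
  exact IsLocalRing.eq_maximalIdeal this

theorem local_core (A : Type u) [CommRing A] [IsRegularLocalRing A] (P Q : Ideal A) (a b c : ℕ)
    (ha : ringKrullDim A = a) (hb : ringKrullDim (A ⧸ P) = b) (hc : ringKrullDim (A ⧸ Q) = c)
    (habc : a ≤ b + c) (h1 : Module.length A (A ⧸ (P ⊔ Q)) = 1) :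
    IntMult.chi A (A ⧸ Q) (A ⧸ P) = 1 ∧ IsRegularLocalRing (A ⧸ P) ∧
      IsRegularLocalRing (A ⧸ Q) := by
  have hmax : P ⊔ Q = maximalIdeal A := sup_eq_maximalIdeal_of_length_eq_one _ h1
  have hPle : P ≤ maximalIdeal A := hmax ▸ le_sup_left
  have hQle : Q ≤ maximalIdeal A := hmax ▸ le_sup_right
  have hPne : P ≠ ⊤ := fun h => (maximalIdeal.isMaximal A).ne_top (top_le_iff.mp (h ▸ hPle))
  have hQne : Q ≠ ⊤ := fun h => (maximalIdeal.isMaximal A).ne_top (top_le_iff.mp (h ▸ hQle))
  haveI : IsLocalRing (A ⧸ P) := isLocalRing_quotient hPne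
  haveI : IsLocalRing (A ⧸ Q) := isLocalRing_quotient hQne
  have hsup : cotV P ⊔ cotV Q = ⊤ := by
    rw [eq_top_iff]
    intro t _
    obtain ⟨z, rfl⟩ := (maximalIdeal A).toCotangent_surjective t
    have hz : (z : A) ∈ P ⊔ Q := by rw [hmax]; exact z.2
    obtain ⟨p, hp, q, hq, hpq⟩ := Submodule.mem_sup.mp hz
    have : z = ⟨p, hPle hp⟩ + ⟨q, hQle hq⟩ := Subtype.ext hpq.symm
    rw [this, map_add]
    exact Submodule.add_mem_sup (toCotangent_mem_cotV _ hp) (toCotangent_mem_cotV _ hq)
  -- dimension count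
  have hregA : ((maximalIdeal A).spanFinrank : WithBot ℕ∞) = ringKrullDim A :=
    IsRegularLocalRing.spanFinrank_maximalIdeal
  rw [ha] at hregA
  have heA : (maximalIdeal A).spanFinrank = a := by exact_mod_cast hregA
  have hP := spanFinrank_maximalIdeal_quotient_add_finrank_cotV P
  have hQ := spanFinrank_maximalIdeal_quotient_add_finrank_cotV Q
  have hbP : (b : WithBot ℕ∞) ≤ ((maximalIdeal (A ⧸ P)).spanFinrank : WithBot ℕ∞) := by
    rw [← hb]; exact ringKrullDim_le_spanFinrank_maximalIdeal (A ⧸ P)
  have hcQ : (c : WithBot ℕ∞) ≤ ((maximalIdeal (A ⧸ Q)).spanFinrank : WithBot ℕ∞) := by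
    rw [← hc]; exact ringKrullDim_le_spanFinrank_maximalIdeal (A ⧸ Q)
  have hbP' : b ≤ (maximalIdeal (A ⧸ P)).spanFinrank := by exact_mod_cast hbP
  have hcQ' : c ≤ (maximalIdeal (A ⧸ Q)).spanFinrank := by exact_mod_cast hcQ
  have hfin := Submodule.finrank_add_le_finrank_add_finrank (cotV P) (cotV Q)
  rw [hsup, finrank_top, ← spanFinrank_maximalIdeal_eq_finrank_cotangentSpace, heA] at hfin
  have heP : (maximalIdeal (A ⧸ P)).spanFinrank = b := by omega
  have heQ : (maximalIdeal (A ⧸ Q)).spanFinrank = c := by omega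
  have hvQ : finrank (ResidueField A) (cotV Q) = b := by omega
  have hregP : IsRegularLocalRing (A ⧸ P) := by
    rw [isRegularLocalRing_iff, heP, hb]
  have hregQ : IsRegularLocalRing (A ⧸ Q) := by
    rw [isRegularLocalRing_iff, heQ, hc]
  refine ⟨?_, hregP, hregQ⟩
  -- generators
  obtain ⟨r, y, hli, hI⟩ := exists_linearIndependent_span_range_eq Q
  have hrb : r = b := by
    rw [← hvQ, hI]
    exact (finrank_cotV_span_range_of_linearIndependent y hli).symm
  obtain ⟨s, z, hrs, hsupm⟩ := exists_extension_span_eq_maximalIdeal y hli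
  rw [heA] at hrs
  let y' : Fin r → A := fun i => (y i : A)
  let z' : Fin s → A := fun i => (z i : A)
  let w : Fin (r + s) → A := Fin.append y' z'
  have hrange : Set.range w = Set.range y' ∪ Set.range z' := by
    ext t
    constructor
    · rintro ⟨i, rfl⟩
      refine Fin.addCases (fun j => ?_) (fun j => ?_) i
      · left; exact ⟨j, by simp [w]⟩
      · right; exact ⟨j, by simp [w]⟩
    · rintro (⟨j, rfl⟩ | ⟨j, rfl⟩)
      · exact ⟨Fin.castAdd s j, by simp [w]⟩
      · exact ⟨Fin.natAdd r j, by simp [w]⟩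
  have hw : Ideal.span (Set.range w) = maximalIdeal A := by
    rw [hrange, Ideal.span_union, sup_comm]
    exact hsupm
  have hda : ringKrullDim A = ((r + s : ℕ) : WithBot ℕ∞) := by rw [ha, hrs]
  have hregw := isRegular_ofFn_of_span_eq_maximalIdeal hda w hw
  have hwl : List.ofFn w = List.ofFn y' ++ List.ofFn z' := List.ofFn_fin_append y' z'
  have hwy : IsWeaklyRegular A (List.ofFn y') := by
    have := hregw.toIsWeaklyRegular
    rw [hwl, isWeaklyRegular_append_iff] at this
    exact this.1
  have hofl : Ideal.ofList (List.ofFn y') = Q := by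
    rw [ofList_ofFn, hI]
  -- on A/P
  have hyP : IsWeaklyRegular (A ⧸ P) (List.ofFn y') := by
    rw [← isWeaklyRegular_map_algebraMap_iff (A ⧸ P) (A ⧸ P) (List.ofFn y'), List.map_ofFn]
    have hspan : Ideal.span (Set.range ((algebraMap A (A ⧸ P)) ∘ y')) = maximalIdeal (A ⧸ P) := by
      rw [maximalIdeal_quotient_eq_map, ← hmax, Ideal.map_sup, Set.range_comp, ← Ideal.map_span]
      have : Ideal.map (Ideal.Quotient.mk P) P = ⊥ := Ideal.map_quotient_self P
      rw [this, bot_sup_eq, hI]
      rfl
    have hdb : ringKrullDim (A ⧸ P) = ((r : ℕ) : WithBot ℕ∞) := by rw [hb, hrb]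
    exact (isRegular_ofFn_of_span_eq_maximalIdeal hdb _ hspan).toIsWeaklyRegular
  have key := intMult_chi_eq_chi (List.ofFn y') hwy (A ⧸ P)
  rw [chi_of_isWeaklyRegular _ _ hyP] at key
  have hlen : Module.length A ((A ⧸ P) ⧸ (Ideal.ofList (List.ofFn y') • ⊤ : Submodule A (A ⧸ P)))
      = 1 := by
    rw [hofl, length_quot_smul_top, h1]
  rw [hlen] at key
  have key2 : IntMult.chi A (A ⧸ Ideal.ofList (List.ofFn y')) (A ⧸ P) = 1 := by
    rw [key]; rfl
  -- transport along Q = ofList
  have : ∀ (Q' : Ideal A), Q' = Q → IntMult.chi A (A ⧸ Q') (A ⧸ P) = 1 →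
      IntMult.chi A (A ⧸ Q) (A ⧸ P) = 1 := by
    intro Q' h; subst h; exact id
  exact this _ hofl key2

end Part2

section Part3

open CategoryTheory AlgebraicGeometry TopologicalSpace
open Groth.Agent.Lib.Helper4.VarDim Groth.Agent.Lib.Helper4.DimFormula
open Groth.Agent.Lib.R2H3.SuppCodim Groth.Agent.Lib.R2H1.IntMultCartier

attribute [local instance] sectionsAlgebra Curv2.resAlgebra

section DimFun

variable (k : Type u) [Field k] (X : Scheme.{u}) [X.Over (Spec (CommRingCat.of k))]
  [LocallyOfFiniteType (X ↘ Spec (CommRingCat.of k))]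

/-- on a scheme locally of finite type over a field, the transcendence degree of the residue field
is a dimension function. -/
theorem isDimFun_trdegNat : Cyc.IsDimFun X (fun x => (trdegNat k X x : ℤ)) := by
  intro x y hxy hne
  have h0 : (trdegNat k X y : ℤ) < (trdegNat k X x : ℤ) := by
    exact_mod_cast trdegNat_lt_of_specializes k X x y hxy hne
  refine ⟨h0, fun himm => ?_⟩
  have h1 := trdeg_of_immediate k X x y hne hxy himm (trdegNat k X y) (trdeg_eq_trdegNat k X y)
  have h2 := trdegNat_eq_of_trdeg_eq k X x (trdegNat k X y + 1) (by exact_mod_cast h1)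
  show (trdegNat k X x : ℤ) = (trdegNat k X y : ℤ) + 1
  rw [h2]; push_cast; rfl

end DimFun

section Geom

variable {X : Scheme.{u}}

/-- the support of an ideal sheaf with integral subscheme is the closure of the image of the generic
point. -/
theorem support_eq_closure (I : X.IdealSheafData) [IsIntegral I.subscheme] :
    (I.support : Set X) = closure {I.subschemeι (genericPoint I.subscheme)} := by
  apply Set.Subset.antisymm
  · intro y hy
    rw [← Scheme.IdealSheafData.range_subschemeι] at hy
    obtain ⟨y', rfl⟩ := hy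
    have hsp' : I.subschemeι (genericPoint I.subscheme) ⤳ I.subschemeι y' :=
      I.subschemeι.base.hom.map_specializes ((genericPoint_spec _).specializes trivial)
    exact specializes_iff_mem_closure.mp hsp'
  · apply I.support.isClosed.closure_subset_iff.mpr
    rw [Set.singleton_subset_iff, ← Scheme.IdealSheafData.range_subschemeι]
    exact ⟨_, rfl⟩

theorem main (K : Type u) [Field K] [IsAlgClosed K] (X : Scheme.{u})
    (f : X ⟶ Spec (CommRingCat.of K)) [Smooth f] [IsSeparated f] [QuasiCompact f] [IsIntegral X]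
    (IV IW : X.IdealSheafData) [IsIntegral IV.subscheme] [IsIntegral IW.subscheme] (n r s : ℕ)
    (hn : topologicalKrullDim X = n) (hr : topologicalKrullDim IV.support = r)
    (hs : topologicalKrullDim IW.support = s)
    (hprop : IntMult.ProperInt (IV.support : Set X) (IW.support : Set X) n r s) (ξ : X)
    (hξV : ξ ∈ IV.support) (hξW : ξ ∈ IW.support)
    (h1 : Module.length (X.presheaf.stalk ξ)
      (↑(X.presheaf.stalk ξ) ⧸ (IntMult.stalkIdeal IV ξ ⊔ IntMult.stalkIdeal IW ξ)) = 1) :
    IntMult.mult IV IW ξ = 1 ∧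
      IsRegularLocalRing (↑(X.presheaf.stalk ξ) ⧸ IntMult.stalkIdeal IV ξ) ∧
      IsRegularLocalRing (↑(X.presheaf.stalk ξ) ⧸ IntMult.stalkIdeal IW ξ) := by
  letI : X.Over (Spec (CommRingCat.of K)) := ⟨f⟩
  haveI : LocallyOfFiniteType (X ↘ Spec (CommRingCat.of K)) :=
    inferInstanceAs (LocallyOfFiniteType f)
  haveI : IsLocallyNoetherian X := LocallyOfFiniteType.isLocallyNoetherian f
  haveI : IsRegularLocalRing (X.presheaf.stalk ξ) :=
    Groth.Agent.Lib.Helper6.SmRegSch.isRegularLocalRing_stalk_of_smooth_over_field K X f ξ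
  -- generic points
  have hspec : ∀ (I : X.IdealSheafData) [IsIntegral I.subscheme], ξ ∈ I.support →
      I.subschemeι (genericPoint I.subscheme) ⤳ ξ := by
    intro I _ hξ
    rw [specializes_iff_mem_closure, ← support_eq_closure]
    exact hξ
  have hspV := hspec IV hξV
  have hspW := hspec IW hξW
  have hIV := stalkIdeal_eq_ker_specMap_generic IV ξ hξV hspV
  have hIW := stalkIdeal_eq_ker_specMap_generic IW ξ hξW hspW
  -- dimensions of V, W
  have hdim : ∀ (I : X.IdealSheafData) [IsIntegral I.subscheme] (t : ℕ),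
      topologicalKrullDim I.support = t →
      trdegNat K X (I.subschemeι (genericPoint I.subscheme)) = t := by
    intro I _ t ht
    have ht' : topologicalKrullDim ↥(I.support : Set X) = t := ht
    rw [support_eq_closure, topologicalKrullDim_closure_singleton K X] at ht'
    exact_mod_cast ht'
  have hrV := hdim IV r hr
  have hsW := hdim IW s hs
  obtain ⟨a, ha, hae⟩ := ringKrullDim_stalk_add_trdegNat K X n hn ξ
  have hδ := isDimFun_trdegNat K X
  obtain ⟨b, hb, hbe⟩ := isDimFun_eq_add_locQuotDim X _ hδ ξ _ hspV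
  obtain ⟨c, hc, hce⟩ := isDimFun_eq_add_locQuotDim X _ hδ ξ _ hspW
  simp only at hbe hce
  rw [hrV] at hbe
  rw [hsW] at hce
  obtain ⟨hnrs, hdimVW⟩ := hprop ⟨ξ, hξV, hξW⟩
  have hle := trdegNat_le_topologicalKrullDim_of_isLocallyClosed K X
    ((IV.support : Set X) ∩ IW.support)
    (IV.support.isClosed.inter IW.support.isClosed).isLocallyClosed ξ ⟨hξV, hξW⟩
  have hle2 : trdegNat K X ξ ≤ r + s - n := by exact_mod_cast hle.trans hdimVW
  have habc : a ≤ b + c := by omega
  unfold Cyc.LocQuot at hb hc
  rw [← hIV] at hb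
  rw [← hIW] at hc
  unfold IntMult.mult
  exact local_core _ _ _ a b c ha hb hc habc h1

end Geom

end Part3

end Groth.Agent.Lib.R2H1.MultOne
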