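/-
Effective Cartier divisor supported on integral effective Cartier divisors is a product of their powers (helper1, round 2, S1659): wellFoundedGT_idealSheafData (ACC for ideal sheaves on a Noetherian scheme), radical_eq_self (reduced subscheme => radical ideal sheaf), stalkIdeal_eq_map_germ, stalkIdeal_principal, stalkIdeal_eq_top_of_notMem, mem_span_of_minimal (Krull), le_of_maximal_point, main.
-/
import Mathlib
import Groth.Prelude
import Groth.Agent.Lib.R2H1IntMultCartier
import Groth.Agent.Lib.R2H1MultOne
import Groth.Agent.Lib.Helper8EffCart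
import Groth.Agent.Lib.R2H1LocQuot
import Groth.Agent.Lib.Helper4DimFormulaAE
import Groth.Agent.Lib.H9AffIncl
import Groth.Agent.Lib.H9ModPair2
import Groth.Agent.Lib.H9ModPair5

set_option autoImplicit false
set_option linter.style.haveILetI false
set_option linter.unusedSectionVars false
universe u v

namespace Groth.Agent.Lib.R2H1.CartierProd

section Part1

open CategoryTheory AlgebraicGeometry TopologicalSpace IsLocalRing

variable {X : Scheme.{u}}

/-- ideal sheaves on a Noetherian scheme satisfy the ascending chain condition. -/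
theorem wellFoundedGT_idealSheafData (X : Scheme.{u}) [IsNoetherian X] :
    WellFoundedGT X.IdealSheafData := by
  let 𝒰 := X.affineCover.finiteSubcover
  let U : 𝒰.I₀ → X.affineOpens := fun k =>
    ⟨(𝒰.f k).opensRange, isAffineOpen_opensRange (𝒰.f k)⟩
  have hU : ⨆ k, (U k).1 = ⊤ := 𝒰.iSup_opensRange
  haveI : ∀ k, IsNoetherianRing Γ(X, (U k).1) := fun k =>
    IsLocallyNoetherian.component_noetherian (U k)
  let φ : (X.IdealSheafData)ᵒᵈ → ∀ k, (Ideal Γ(X, (U k).1))ᵒᵈ :=
    fun I k => OrderDual.toDual ((OrderDual.ofDual I).ideal (U k))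
  have hφmono : Monotone φ := by
    intro I J hIJ k
    exact Scheme.IdealSheafData.ideal_mono (show OrderDual.ofDual J ≤ OrderDual.ofDual I from hIJ)
      (U k)
  have hφinj : Function.Injective φ := by
    intro I J h
    apply OrderDual.ofDual.injective
    refine Scheme.IdealSheafData.ext_of_iSup_eq_top U hU (fun k => ?_)
    exact OrderDual.toDual.injective (congrFun h k)
  have hφ : StrictMono φ := hφmono.strictMono_of_injective hφinj
  haveI : WellFoundedLT (X.IdealSheafData)ᵒᵈ := hφ.wellFoundedLT
  exact (wellFoundedLT_dual_iff _).mp inferInstance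

/-- the ideal sheaf of a reduced closed subscheme is radical. -/
theorem radical_eq_self (I : X.IdealSheafData) [IsReduced I.subscheme] : I.radical = I := by
  apply le_antisymm _ (Scheme.IdealSheafData.le_radical I)
  intro V x hx
  rw [Scheme.IdealSheafData.radical_ideal] at hx
  obtain ⟨n, hn⟩ := hx
  rw [← I.ker_subschemeι_app V, RingHom.mem_ker] at hn ⊢
  rw [map_pow] at hn
  exact eq_zero_of_pow_eq_zero hn

end Part1

section Part2

open CategoryTheory AlgebraicGeometry TopologicalSpace IsLocalRing

variable {X : Scheme.{u}}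

/-- the stalk ideal can be computed on any affine open neighbourhood. -/
theorem stalkIdeal_eq_map_germ (I : X.IdealSheafData) (U : X.affineOpens) (x : X) (hx : x ∈ U.1) :
    IntMult.stalkIdeal I x = (I.ideal U).map (X.presheaf.germ U.1 x hx).hom := by
  apply le_antisymm
  · unfold IntMult.stalkIdeal
    refine iSup_le fun V => iSup_le fun hxV => ?_
    obtain ⟨f, g, e, hxf⟩ := exists_basicOpen_le_affine_inter U.2 V.2 x ⟨hx, hxV⟩
    let W : X.affineOpens := X.affineBasicOpen f
    have hWU : W ≤ U := X.basicOpen_le f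
    have hWV : W ≤ V := by
      show X.basicOpen f ≤ V.1
      rw [e]; exact X.basicOpen_le g
    have hxW : x ∈ W.1 := hxf
    have key : ∀ (V' : X.affineOpens) (h : W ≤ V') (hxV' : x ∈ V'.1),
        (I.ideal V').map (X.presheaf.germ V'.1 x hxV').hom =
          (I.ideal W).map (X.presheaf.germ W.1 x hxW).hom := by
      intro V' h hxV'
      rw [← I.map_ideal h, Ideal.map_map]
      congr 1
      rw [← CommRingCat.hom_comp]
      congr 1
      exact (X.presheaf.germ_res (homOfLE h) x hxW).symm
    rw [key V hWV hxV, ← key U hWU hx]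
  · unfold IntMult.stalkIdeal
    exact le_iSup₂ (f := fun (V : X.affineOpens) (h : x ∈ V.1) =>
      (I.ideal V).map (X.presheaf.germ V.1 x h).hom) U hx

/-- the stalk of an effective Cartier ideal is generated by a nonzerodivisor. -/
theorem stalkIdeal_principal {I : X.IdealSheafData} (hI : BlowUp.IsEffCartierIdeal I) (x : X) :
    ∃ f : X.presheaf.stalk x, f ∈ nonZeroDivisors (X.presheaf.stalk x) ∧
      IntMult.stalkIdeal I x = Ideal.span {f} := by
  obtain ⟨U, hxU, f, hf, hIf⟩ := hI x
  refine ⟨(X.presheaf.germ U.1 x hxU).hom f, ?_, ?_⟩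
  · letI := X.presheaf.algebra_section_stalk (U := U.1) ⟨x, hxU⟩
    haveI := U.2.isLocalization_stalk ⟨x, hxU⟩
    exact IsLocalization.map_nonZeroDivisors_le (U.2.primeIdealOf ⟨x, hxU⟩).asIdeal.primeCompl
      (X.presheaf.stalk x) (Submonoid.mem_map_of_mem _ hf)
  · rw [stalkIdeal_eq_map_germ I U x hxU, hIf, Ideal.map_span, Set.image_singleton]

/-- stalk ideal is the unit ideal outside the support. -/
theorem stalkIdeal_eq_top_of_notMem (I : X.IdealSheafData) (x : X) (hx : x ∉ I.support) :
    IntMult.stalkIdeal I x = ⊤ := by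
  by_contra hne
  apply hx
  have hle := IsLocalRing.le_maximalIdeal hne
  have h1 : IntMult.stalkIdeal I x ≤ RingHom.ker (Cyc.specMap x x specializes_rfl) := by
    intro a ha
    rw [RingHom.mem_ker]
    unfold Cyc.specMap
    have hrefl : X.presheaf.stalkSpecializes (specializes_rfl : x ⤳ x) = 𝟙 _ :=
      TopCat.Presheaf.stalkSpecializes_refl _ _
    rw [hrefl, Category.id_comp]
    exact (IsLocalRing.residue_eq_zero_iff _).mpr (hle ha)
  exact (Groth.Agent.Lib.R2H1.IntMultCartier.mem_support_iff_stalkIdeal_le I x x
    specializes_rfl).mpr h1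

end Part2

section Part3

open CategoryTheory AlgebraicGeometry TopologicalSpace IsLocalRing
open Groth.Agent.Lib.Helper4.DimFormula Groth.Agent.Lib.R2H1.IntMultCartier
open Groth.Agent.Lib.R2H1.LocQuot

/-- Krull: if `𝔪` is the only prime containing `f`, a principal prime `(e)` with `e` a
nonzerodivisor contains `f`. -/
theorem mem_span_of_minimal (A : Type u) [CommRing A] [IsNoetherianRing A] [IsLocalRing A]
    (f e : A) (he : e ∈ nonZeroDivisors A) (hp : (Ideal.span {e}).IsPrime)
    (hmin : ∀ (q : Ideal A) [q.IsPrime], f ∈ q → q = maximalIdeal A)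
    (hfm : f ∈ maximalIdeal A) : f ∈ Ideal.span {e} := by
  by_contra hf
  have hple : Ideal.span {e} ≤ maximalIdeal A := IsLocalRing.le_maximalIdeal hp.ne_top
  have hplt : Ideal.span {e} < maximalIdeal A := by
    refine lt_of_le_of_ne hple ?_
    intro heq
    exact hf (heq ▸ hfm)
  have hmem : maximalIdeal A ∈ (Ideal.span {f}).minimalPrimes := by
    refine ⟨⟨inferInstance, ?_⟩, ?_⟩
    · rw [Ideal.span_le, Set.singleton_subset_iff]; exact hfm
    · rintro q ⟨hq, hfq⟩ _
      haveI := hq
      have : q = maximalIdeal A :=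
        hmin q (hfq (Ideal.mem_span_singleton_self f))
      exact this.ge
  have h1 : (maximalIdeal A).height ≤ 1 :=
    Ideal.height_le_one_of_isPrincipal_of_mem_minimalPrimes (Ideal.span {f}) _ hmem
  have h2 : 1 ≤ (Ideal.span {e}).height :=
    Ideal.one_le_height_span_singleton_of_mem_nonZeroDivisors he
  have h3 : (Ideal.span {e}).height + 1 ≤ (maximalIdeal A).height :=
    Ideal.height_add_one_le_of_lt_of_isPrime hplt
  have h4 : (1 : ℕ∞) + 1 ≤ 1 := (add_le_add_left h2 1).trans (h3.trans h1)
  exact absurd h4 (by decide)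

variable {X : Scheme.{u}}

/-- a maximal point `η` of the support of an effective Cartier divisor `D` that lies on an integral
effective Cartier divisor `E`: then `D ≤ E` as ideal sheaves. -/
theorem le_of_maximal_point [IsLocallyNoetherian X] (D E : X.IdealSheafData)
    (hD : BlowUp.IsEffCartierIdeal D) (hE : BlowUp.IsEffCartierIdeal E) [IsIntegral E.subscheme]
    (η : X) (hηD : η ∈ D.support) (hηE : η ∈ E.support)
    (hmax : ∀ ζ ∈ D.support, ζ ⤳ η → ζ = η) : D ≤ E := by
  -- local generators at η
  obtain ⟨f, hf, hDf⟩ := stalkIdeal_principal hD η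
  obtain ⟨e, he, hEe⟩ := stalkIdeal_principal hE η
  haveI : IsNoetherianRing (X.presheaf.stalk η) := inferInstance
  set ξ := E.subschemeι (genericPoint E.subscheme) with hξ
  have hspξ : ξ ⤳ η := Groth.Agent.Lib.Helper8.EffCart.specializes_of_mem_support E η hηE
  have hEker := stalkIdeal_eq_ker_specMap_generic E η hηE hspξ
  have hprime : (Ideal.span {e}).IsPrime := by
    rw [← hEe, hEker]; exact RingHom.ker_isPrime _
  -- the maximal ideal is the only prime over f
  have hmin : ∀ (q : Ideal (X.presheaf.stalk η)) [q.IsPrime], f ∈ q →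
      q = maximalIdeal (X.presheaf.stalk η) := by
    intro q hq hfq
    have hsp : X.fromSpecStalk η ⟨q, hq⟩ ⤳ η := fromSpecStalk_specializes η _
    have hker := ker_specMap_fromSpecStalk η q hsp
    have hV : X.fromSpecStalk η ⟨q, hq⟩ ∈ D.support := by
      rw [mem_support_iff_stalkIdeal_le D η _ hsp, hker, hDf, Ideal.span_le,
        Set.singleton_subset_iff]
      exact hfq
    have heq := hmax _ hV hsp
    have h2 : X.fromSpecStalk η ⟨q, hq⟩ =
        X.fromSpecStalk η ⟨maximalIdeal (X.presheaf.stalk η), inferInstance⟩ := by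
      rw [heq]
      exact (Scheme.fromSpecStalk_closedPoint (x := η)).symm
    exact fromSpecStalk_injective η _ _ h2
  have hfm : f ∈ maximalIdeal (X.presheaf.stalk η) := by
    have h1 := (mem_support_iff_stalkIdeal_le D η η specializes_rfl).mp hηD
    rw [hDf, Ideal.span_le, Set.singleton_subset_iff] at h1
    have hne : RingHom.ker (Cyc.specMap η η specializes_rfl) ≠ ⊤ := RingHom.ker_ne_top _
    exact IsLocalRing.le_maximalIdeal hne h1
  have hfe := mem_span_of_minimal _ f e he hprime hmin hfm
  -- ξ ∈ supp D
  have hξD : ξ ∈ D.support := by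
    rw [mem_support_iff_stalkIdeal_le D η ξ hspξ, ← hEker, hDf, hEe, Ideal.span_le,
      Set.singleton_subset_iff]
    exact hfe
  -- supp E ⊆ supp D
  have hsupp : E.support ≤ D.support := by
    intro y hy
    have hy' : y ∈ closure {ξ} := by
      rw [← Groth.Agent.Lib.R2H1.MultOne.support_eq_closure]; exact hy
    exact (D.support.isClosed.closure_subset_iff.mpr (Set.singleton_subset_iff.mpr hξD)) hy'
  have h1 := Scheme.IdealSheafData.le_support_iff_le_vanishingIdeal.mp hsupp
  rw [Scheme.IdealSheafData.vanishingIdeal_support, radical_eq_self] at h1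
  exact h1

end Part3

section Part4

open CategoryTheory AlgebraicGeometry TopologicalSpace IsLocalRing

theorem main (X : Scheme.{u}) [IsNoetherian X] (r : ℕ) (Ds : Fin r → X.IdealSheafData)
    (hDs : ∀ i, BlowUp.IsEffCartierIdeal (Ds i)) (hint : ∀ i, IsIntegral (Ds i).subscheme) :
    ∀ (D : X.IdealSheafData), BlowUp.IsEffCartierIdeal D →
      (D.support : Set X) ⊆ ⋃ i, ((Ds i).support : Set X) →
      ∃ a : Fin r → ℕ, D = ∏ i, Ds i ^ a i := by
  haveI := wellFoundedGT_idealSheafData X
  intro D
  induction D using WellFoundedGT.induction with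
  | ind D ih =>
    intro hD hsub
    by_cases htop : D = ⊤
    · refine ⟨fun _ => 0, ?_⟩
      rw [htop]
      simp only [pow_zero, Finset.prod_const_one]
      rfl
    · have hne : (D.support : Set X).Nonempty := by
        rw [Set.nonempty_iff_ne_empty]
        intro hempty
        apply htop
        rw [← Scheme.IdealSheafData.support_eq_bot_iff]
        apply SetLike.coe_injective
        rw [hempty]; rfl
      obtain ⟨z, hz⟩ := hne
      obtain ⟨η, hηD, -, hηmax⟩ :=
        Groth.Agent.Lib.H9AffIncl.exists_maximal_point D.support.isClosed hz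
      obtain ⟨i, hηi⟩ := Set.mem_iUnion.mp (hsub hηD)
      haveI := hint i
      have hle : D ≤ Ds i := le_of_maximal_point D (Ds i) hD (hDs i) η hηD hηi hηmax
      have hmul := Groth.Agent.Lib.H9ModPair5.colonIdeal_mul (hDs i) hle
      set D' := Groth.Agent.Lib.H9ModPair5.colonIdeal D (Ds i)
        (Groth.Agent.Lib.H9ModPair5.effCartier_fg (hDs i)) with hD'def
      have hD' : BlowUp.IsEffCartierIdeal D' :=
        Groth.Agent.Lib.H9ModPair2.isEffCartierIdeal_of_mul_eq (hDs i) hD hmul
      have hDD' : D ≤ D' := by
        calc D = D' * Ds i := hmul.symm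
          _ ≤ D' * ⊤ := Groth.Agent.Lib.H9ModPair2.mul_le_mul_left_of_le le_top
          _ = D' := Scheme.IdealSheafData.mul_top _
      have hlt : D < D' := by
        refine lt_of_le_of_ne hDD' ?_
        intro heq
        have h1 : Ds i * D = ⊤ * D := by
          rw [Scheme.IdealSheafData.top_mul, mul_comm, heq]
          exact hmul.trans heq
        have h2 : Ds i = ⊤ := Groth.Agent.Lib.H9ModPair2.eq_of_mul_eq_mul_right hD h1
        have h3 : IsEmpty (Ds i).subscheme := by
          rw [h2]; infer_instance
        exact h3.elim (hint i).nonempty.some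
      have hsub' : (D'.support : Set X) ⊆ ⋃ i, ((Ds i).support : Set X) :=
        fun y hy => hsub (Scheme.IdealSheafData.support_antitone hDD' hy)
      obtain ⟨a', ha'⟩ := ih D' hlt hD' hsub'
      refine ⟨a' + Pi.single i 1, ?_⟩
      rw [← hmul, ha']
      simp only [Pi.add_apply, pow_add, Finset.prod_mul_distrib]
      congr 1
      rw [Finset.prod_eq_single i]
      · rw [Pi.single_eq_same, pow_one]
      · intro j _ hj
        rw [Pi.single_eq_of_ne hj, pow_zero]
      · intro h; exact absurd (Finset.mem_univ i) h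

end Part4

end Groth.Agent.Lib.R2H1.CartierProd
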