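import Mathlib
import Groth.Prelude
import Groth.Agent.Lib.R2H1CartierProd
import Groth.Agent.Lib.H9BlowExt
import Groth.Agent.Lib.Helper10CodimFib
import Groth.Agent.Lib.Helper2Div

set_option autoImplicit false
set_option linter.style.haveILetI false
universe u

namespace Groth.Agent.Lib.H9CodimTwo

open CategoryTheory AlgebraicGeometry TopologicalSpace IsLocalRing
open Groth.Agent.Lib.R2H1.CartierProd

variable {X : Scheme.{u}}

/-- stalk ideals are multiplicative. -/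
theorem stalkIdeal_mul (I J : X.IdealSheafData) (x : X) :
    IntMult.stalkIdeal (I * J) x = IntMult.stalkIdeal I x * IntMult.stalkIdeal J x := by
  obtain ⟨_, ⟨U, hU, rfl⟩, hxU, -⟩ :=
    X.isBasis_affineOpens.exists_subset_of_mem_open (Set.mem_univ x) isOpen_univ
  rw [stalkIdeal_eq_map_germ (I * J) ⟨U, hU⟩ x hxU, stalkIdeal_eq_map_germ I ⟨U, hU⟩ x hxU,
    stalkIdeal_eq_map_germ J ⟨U, hU⟩ x hxU, Scheme.IdealSheafData.ideal_mul, Pi.mul_apply,
    Ideal.map_mul]

/-- generic points have local dimension zero. -/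
theorem stalk_dim_zero (η : X) (h : ∀ y : X, y ⤳ η → y = η) :
    ringKrullDim (X.presheaf.stalk η) = 0 := by
  rw [ringKrullDim_stalk_eq_coheight]
  have : Order.coheight η = 0 := by
    rw [Order.coheight_eq_zero]
    intro w hw
    have hw' : w ⤳ η := hw
    rw [h w hw']
  rw [this]; rfl

theorem stalk_dim_mono [IsLocallyNoetherian X] {x x' : X} (h : x' ⤳ x) :
    ringKrullDim (X.presheaf.stalk x') ≤ ringKrullDim (X.presheaf.stalk x) := by
  by_cases hne : x' = x
  · subst hne; exact le_rfl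
  · exact (Groth.Agent.Lib.Helper10.CodimFib.ringKrullDim_stalk_lt_of_specializes h hne).le

theorem two_le_of_one_lt (d : WithBot ℕ∞) (h : 1 < d) : 2 ≤ d := by
  induction d using WithBot.recBotCoe with
  | bot => exact absurd h (by simp)
  | coe n =>
    have h' : (1 : ℕ∞) < n := by exact_mod_cast h
    have h2 : (2 : ℕ∞) ≤ n := by
      have := Order.add_one_le_of_lt h'
      simpa [one_add_one_eq_two] using this
    exact WithBot.coe_le_coe.mpr h2

theorem stalkIdeal_le_maximalIdeal (I : X.IdealSheafData) (x : X) (hx : x ∈ I.support) :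
    IntMult.stalkIdeal I x ≤ maximalIdeal (X.presheaf.stalk x) := by
  have h1 := (Groth.Agent.Lib.R2H1.IntMultCartier.mem_support_iff_stalkIdeal_le I x x
    specializes_rfl).mp hx
  have hne : RingHom.ker (Cyc.specMap x x specializes_rfl) ≠ ⊤ := RingHom.ker_ne_top _
  exact h1.trans (IsLocalRing.le_maximalIdeal hne)

theorem main8909 (X : Scheme.{u}) [IsNoetherian X]
    {I : Type u} (𝓓 : I → X.IdealSheafData) (hD : ∀ i, BlowUp.IsEffCartierIdeal (𝓓 i))
    (hDint : ∀ i, IsIntegral (𝓓 i).subscheme)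
    (Z' : Set ↥X) (hZ' : IsClosed Z')
    (hcodim : ∀ z ∈ Z', (∀ y ∈ Z', y ⤳ z → y = z) →
      (2 : WithBot ℕ∞) ≤ ringKrullDim ↑(X.presheaf.stalk z)) :
    ∀ (𝓩 : X.IdealSheafData), (𝓩.support : Set ↥X) ⊆ Z' ∪ ⋃ i, ((𝓓 i).support : Set ↥X) →
      ∃ (a : I →₀ ℕ) (𝓛 : X.IdealSheafData), 𝓩 = 𝓛 * a.prod (fun i n => 𝓓 i ^ n) ∧
        ∀ z ∈ 𝓛.support, (2 : WithBot ℕ∞) ≤ ringKrullDim ↑(X.presheaf.stalk z) := by
  classical
  haveI := wellFoundedGT_idealSheafData X
  -- points of Z' have dim ≥ 2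
  have hdimZ' : ∀ z ∈ Z', (2 : WithBot ℕ∞) ≤ ringKrullDim ↑(X.presheaf.stalk z) := by
    intro z hz
    obtain ⟨y, hy, hyz, hymax⟩ := Groth.Agent.Lib.H9AffIncl.exists_maximal_point hZ' hz
    exact (hcodim y hy hymax).trans (stalk_dim_mono hyz)
  -- generic points of the D_i
  set ξ : I → X := fun i => (𝓓 i).subschemeι (genericPoint (𝓓 i).subscheme) with hξdef
  have hξsp : ∀ i, ∀ x ∈ (𝓓 i).support, ξ i ⤳ x := fun i x hx => by
    haveI := hDint i
    exact Groth.Agent.Lib.Helper8.EffCart.specializes_of_mem_support (𝓓 i) x hx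
  have hξmem : ∀ i, ξ i ∈ (𝓓 i).support := fun i => by
    haveI := hDint i
    have := Groth.Agent.Lib.R2H1.MultOne.support_eq_closure (𝓓 i)
    show ξ i ∈ ((𝓓 i).support : Set X)
    rw [this]; exact subset_closure rfl
  have hξdim : ∀ i, ringKrullDim (X.presheaf.stalk (ξ i)) = 1 := fun i => by
    obtain ⟨U, hxU, f, hf, hIf⟩ := hD i (ξ i)
    exact Groth.Agent.Lib.Helper2.ringKrullDim_stalk_eq_one (𝓓 i) (ξ i) U hxU f hIf hf (hξmem i)
      (fun ζ hζ hsp => (hsp.antisymm (hξsp i ζ hζ)).eq)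
  -- points of the cover have dim ≥ 1
  have hdimcover : ∀ x ∈ Z' ∪ ⋃ i, ((𝓓 i).support : Set ↥X),
      (1 : WithBot ℕ∞) ≤ ringKrullDim ↑(X.presheaf.stalk x) := by
    rintro x (hx | hx)
    · exact le_trans (by norm_num) (hdimZ' x hx)
    · obtain ⟨i, hi⟩ := Set.mem_iUnion.mp hx
      rw [← hξdim i]; exact stalk_dim_mono (hξsp i x hi)
  intro 𝓩
  induction 𝓩 using WellFoundedGT.induction with
  | ind 𝓩 ih =>
    intro hcover
    by_cases hA : ∃ i, ξ i ∈ 𝓩.support
    · obtain ⟨i, hi⟩ := hA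
      haveI := hDint i
      have hsupp : (𝓓 i).support ≤ 𝓩.support := by
        intro y hy
        have hy' : y ∈ closure {ξ i} := by
          rw [← Groth.Agent.Lib.R2H1.MultOne.support_eq_closure]; exact hy
        exact (𝓩.support.isClosed.closure_subset_iff.mpr (Set.singleton_subset_iff.mpr hi)) hy'
      have hle : 𝓩 ≤ 𝓓 i := by
        have h1 := Scheme.IdealSheafData.le_support_iff_le_vanishingIdeal.mp hsupp
        rw [Scheme.IdealSheafData.vanishingIdeal_support, radical_eq_self] at h1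
        exact h1
      have hmul := Groth.Agent.Lib.H9ModPair5.colonIdeal_mul (hD i) hle
      set 𝓩₁ := Groth.Agent.Lib.H9ModPair5.colonIdeal 𝓩 (𝓓 i)
        (Groth.Agent.Lib.H9ModPair5.effCartier_fg (hD i)) with h𝓩₁
      have hZZ₁ : 𝓩 ≤ 𝓩₁ := by
        calc 𝓩 = 𝓩₁ * 𝓓 i := hmul.symm
          _ ≤ 𝓩₁ * ⊤ := Groth.Agent.Lib.H9ModPair2.mul_le_mul_left_of_le le_top
          _ = 𝓩₁ := Scheme.IdealSheafData.mul_top _
      have hlt : 𝓩 < 𝓩₁ := by
        refine lt_of_le_of_ne hZZ₁ ?_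
        intro heq
        have h1 : 𝓩 * 𝓓 i = 𝓩 := by
          have := hmul
          rw [← heq] at this
          exact this
        have hJ : IntMult.stalkIdeal 𝓩 (ξ i) = ⊥ := by
          have h2 := stalkIdeal_mul 𝓩 (𝓓 i) (ξ i)
          rw [h1] at h2
          have hM := stalkIdeal_le_maximalIdeal (𝓓 i) (ξ i) (hξmem i)
          haveI : IsNoetherianRing (X.presheaf.stalk (ξ i)) := inferInstance
          refine Submodule.eq_bot_of_le_smul_of_le_jacobson_bot
            (IntMult.stalkIdeal (𝓓 i) (ξ i)) _ (IsNoetherian.noetherian _) ?_ ?_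
          · rw [smul_eq_mul, mul_comm]; exact h2.le
          · rw [IsLocalRing.jacobson_eq_maximalIdeal ⊥ bot_ne_top]; exact hM
        obtain ⟨η, -, hηsp, hηmax⟩ := Groth.Agent.Lib.H9AffIncl.exists_maximal_point
          (isClosed_univ (X := X)) (Set.mem_univ (ξ i))
        have hηZ : η ∈ 𝓩.support := by
          rw [Groth.Agent.Lib.R2H1.IntMultCartier.mem_support_iff_stalkIdeal_le 𝓩 (ξ i) η hηsp, hJ]
          exact bot_le
        have h0 := stalk_dim_zero η (fun y hy => hηmax y (Set.mem_univ y) hy)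
        have h1' := hdimcover η (hcover hηZ)
        rw [h0] at h1'
        exact absurd h1' (by norm_num)
      have hsub' : (𝓩₁.support : Set X) ⊆ Z' ∪ ⋃ i, ((𝓓 i).support : Set ↥X) :=
        fun y hy => hcover (Scheme.IdealSheafData.support_antitone hZZ₁ hy)
      obtain ⟨a', 𝓛, hZ₁eq, hL⟩ := ih 𝓩₁ hlt hsub'
      refine ⟨a' + Finsupp.single i 1, 𝓛, ?_, hL⟩
      have hsingle : (Finsupp.single i 1).prod (fun i n => 𝓓 i ^ n) = 𝓓 i := by
        rw [Finsupp.prod_single_index (h := fun i n => 𝓓 i ^ n) (pow_zero _), pow_one]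
      rw [← hmul, hZ₁eq, Finsupp.prod_add_index' (h := fun i n => 𝓓 i ^ n) (fun _ => pow_zero _)
        (fun _ _ _ => pow_add _ _ _), hsingle, mul_assoc]
    · push Not at hA
      refine ⟨0, 𝓩, ?_, ?_⟩
      · rw [Finsupp.prod_zero_index]; exact (mul_one _).symm
      · intro z hz
        rcases hcover hz with hzZ' | hzD
        · exact hdimZ' z hzZ'
        · obtain ⟨i, hi⟩ := Set.mem_iUnion.mp hzD
          have hne : ξ i ≠ z := fun h => hA i (h ▸ hz)
          have hlt := Groth.Agent.Lib.Helper10.CodimFib.ringKrullDim_stalk_lt_of_specializes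
            (hξsp i z hi) hne
          rw [hξdim i] at hlt
          exact two_le_of_one_lt _ hlt

theorem result8909 (X : Scheme.{u}) [IsNoetherian X] (𝓩 : X.IdealSheafData)
    {I : Type u} (𝓓 : I → X.IdealSheafData) (hD : ∀ i, BlowUp.IsEffCartierIdeal (𝓓 i))
    (hDint : ∀ i, IsIntegral (𝓓 i).subscheme)
    (Z' : Set ↥X) (hZ' : IsClosed Z')
    (hcodim : ∀ z ∈ Z', (∀ y ∈ Z', y ⤳ z → y = z) →
      (2 : WithBot ℕ∞) ≤ ringKrullDim ↑(X.presheaf.stalk z))
    (hcover : (𝓩.support : Set ↥X) ⊆ Z' ∪ ⋃ i, ((𝓓 i).support : Set ↥X)) :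
    ∃ a : I →₀ ℕ, 𝓩 ≤ a.prod (fun i n => 𝓓 i ^ n) ∧
      ∃ U : X.Opens, (a.prod (fun i n => 𝓓 i ^ n)).comap U.ι = 𝓩.comap U.ι ∧
        ∀ z ∈ (𝓩.support : Set ↥X) \ (U : Set ↥X),
          (∀ y ∈ (𝓩.support : Set ↥X) \ (U : Set ↥X), y ⤳ z → y = z) →
          (2 : WithBot ℕ∞) ≤ ringKrullDim ↑(X.presheaf.stalk z) := by
  obtain ⟨a, 𝓛, heq, hL⟩ := main8909 X 𝓓 hD hDint Z' hZ' hcodim 𝓩 hcover
  refine ⟨a, ?_, ⟨(𝓛.support : Set X)ᶜ, 𝓛.support.isClosed.isOpen_compl⟩, ?_, ?_⟩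
  · rw [heq]
    calc 𝓛 * a.prod (fun i n => 𝓓 i ^ n)
        = a.prod (fun i n => 𝓓 i ^ n) * 𝓛 := mul_comm _ _
      _ ≤ a.prod (fun i n => 𝓓 i ^ n) * ⊤ :=
          Groth.Agent.Lib.H9ModPair2.mul_le_mul_left_of_le le_top
      _ = a.prod (fun i n => 𝓓 i ^ n) := Scheme.IdealSheafData.mul_top _
  · apply Groth.Agent.Lib.H9BlowExt.comap_ι_eq_of_ideal_eq
    intro W hW
    have hdisj : Disjoint (𝓛.support : Set X) (W.1 : Set X) := by
      rw [Set.disjoint_left]
      intro y hy hyW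
      exact (hW hyW) hy
    rw [heq, Scheme.IdealSheafData.ideal_mul, Pi.mul_apply,
      Groth.Agent.Lib.H9BlowExt.ideal_eq_top_of_disjoint 𝓛 W hdisj, Ideal.top_mul]
  · intro z hz _
    apply hL z
    have := hz.2
    simpa using this

end Groth.Agent.Lib.H9CodimTwo
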