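import Mathlib
import Groth.Agent.Lib.Helper4Pur21
import Groth.Agent.Lib.Helper5StalkSpec

/-!
# Locally factorial schemes and codimension one points (helper8)

* `isDomain_of_isPrime_span_singleton`: a Noetherian local ring with a prime ideal generated by a
  nonzerodivisor is a domain.
* `exists_isPrime_height_eq_one`: a Noetherian local ring of nonzero dimension has a height one prime.
* `height_comap_stalkSpecializes`, `ringKrullDim_stalk_eq_height_comap`.
* `exists_specializes_ne`: a point of a locally Noetherian scheme whose local ring has dimension `0`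
  and which is not open as a singleton has a proper specialization.
-/

set_option autoImplicit false
universe u

open AlgebraicGeometry CategoryTheory IsLocalRing

namespace Groth.Agent.Lib.Helper8.LocFact

theorem isDomain_of_isPrime_span_singleton {R : Type u} [CommRing R] [IsLocalRing R]
    [IsNoetherianRing R] (t : R) (ht : t ∈ nonZeroDivisors R)
    (hp : (Ideal.span {t} : Ideal R).IsPrime) : IsDomain R := by
  obtain ⟨Q, hQmin, hQle⟩ := Ideal.exists_minimalPrimes_le (bot_le : (⊥ : Ideal R) ≤ Ideal.span {t})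
  have hQprime : Q.IsPrime := hQmin.1.1
  have htQ : t ∉ Q := fun h => notMem_nonZeroDivisors_of_mem_mem_minimalPrimes h hQmin ht
  have htm : t ∈ maximalIdeal R := by
    rw [mem_maximalIdeal, mem_nonunits_iff]
    intro hu
    exact hp.ne_top (Ideal.eq_top_of_isUnit_mem _ (Ideal.mem_span_singleton_self t) hu)
  have hle : Q ≤ (Ideal.span {t} : Ideal R) • Q := by
    intro q hq
    obtain ⟨a, rfl⟩ := Ideal.mem_span_singleton'.mp (hQle hq)
    have ha : a ∈ Q := (hQprime.mem_or_mem hq).resolve_right htQ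
    rw [mul_comm]
    exact Submodule.smul_mem_smul (Ideal.mem_span_singleton_self t) ha
  have hQbot : Q = ⊥ :=
    Submodule.eq_bot_of_le_smul_of_le_jacobson_bot _ _ (IsNoetherian.noetherian Q) hle
      (by
        rw [IsLocalRing.jacobson_eq_maximalIdeal ⊥ bot_ne_top]
        exact (Ideal.span_singleton_le_iff_mem _).mpr htm)
  rw [hQbot] at hQprime
  exact IsDomain.of_bot_isPrime R

theorem exists_isPrime_height_eq_one {R : Type u} [CommRing R] [IsLocalRing R]
    [IsNoetherianRing R] (hdim : ringKrullDim R ≠ 0) :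
    ∃ 𝔮 : Ideal R, 𝔮.IsPrime ∧ 𝔮.height = 1 := by
  obtain ⟨l, hlast, hlen⟩ := (maximalIdeal R).exists_ltSeries_length_eq_height
  have hm0 : (maximalIdeal R).height ≠ 0 := by
    intro h0
    apply hdim
    rw [← IsLocalRing.maximalIdeal_height_eq_ringKrullDim, h0]
    rfl
  have hlen1 : 1 ≤ l.length := by
    rcases Nat.eq_zero_or_pos l.length with h | h
    · exfalso
      apply hm0
      rw [← hlen, h]
      rfl
    · exact h
  have hlen' : (l.length : ℕ∞) = Order.height l.last := by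
    rw [hlen, hlast]
    exact PrimeSpectrum.height_eq_orderHeight ⟨maximalIdeal R, inferInstance⟩
  have h1 := Order.height_eq_index_of_length_eq_height_last hlen' ⟨1, by omega⟩
  refine ⟨(l ⟨1, by omega⟩).asIdeal, (l ⟨1, by omega⟩).isPrime, ?_⟩
  rw [PrimeSpectrum.height_eq_orderHeight, h1]
  rfl

theorem height_comap_stalkSpecializes (X : Scheme.{u}) {ζ x : X} (h : ζ ⤳ x) :
    ((maximalIdeal (X.presheaf.stalk ζ)).comap (X.presheaf.stalkSpecializes h).hom).height =
      (maximalIdeal (X.presheaf.stalk ζ)).height := by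
  letI := (X.presheaf.stalkSpecializes h).hom.toAlgebra
  obtain ⟨M, hM⟩ := Groth.Agent.Lib.Helper5.StalkSpec.exists_isLocalization_stalkSpecializes X h
  exact IsLocalization.height_under M (maximalIdeal (X.presheaf.stalk ζ))

theorem ringKrullDim_stalk_eq_height_comap (X : Scheme.{u}) {ζ x : X} (h : ζ ⤳ x) :
    ringKrullDim (X.presheaf.stalk ζ) =
      ((maximalIdeal (X.presheaf.stalk ζ)).comap (X.presheaf.stalkSpecializes h).hom).height := by
  rw [height_comap_stalkSpecializes, IsLocalRing.maximalIdeal_height_eq_ringKrullDim]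

/-- If `x ⤳ y` then the local ring at `x` is a domain as soon as the local ring at `y` is. -/
theorem isDomain_stalk_of_specializes (X : Scheme.{u}) {x y : X} (h : x ⤳ y)
    [IsDomain (X.presheaf.stalk y)] : IsDomain (X.presheaf.stalk x) := by
  letI := (X.presheaf.stalkSpecializes h).hom.toAlgebra
  obtain ⟨M, hM⟩ := Groth.Agent.Lib.Helper5.StalkSpec.exists_isLocalization_stalkSpecializes X h
  have hM0 : M ≤ nonZeroDivisors (X.presheaf.stalk y) := by
    intro m hm
    refine mem_nonZeroDivisors_of_ne_zero ?_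
    rintro rfl
    haveI := IsLocalization.subsingleton (S := X.presheaf.stalk x) hm
    exact not_subsingleton (X.presheaf.stalk x) inferInstance
  exact IsLocalization.isDomain_of_le_nonZeroDivisors (X.presheaf.stalk x) hM0

/-- A proper generization forces positive dimension. -/
theorem ringKrullDim_stalk_ne_zero_of_specializes_ne (X : Scheme.{u}) [IsLocallyNoetherian X]
    {x y : X} (h : x ⤳ y) (hne : y ≠ x) : ringKrullDim (X.presheaf.stalk y) ≠ 0 := by
  have hx : x ∈ Set.range (X.fromSpecStalk y) := by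
    rw [Scheme.range_fromSpecStalk]
    exact h
  obtain ⟨𝔮, h𝔮⟩ := hx
  have hne' : 𝔮.asIdeal ≠ maximalIdeal (X.presheaf.stalk y) := by
    intro heq
    have := (Groth.Agent.Lib.Helper4.Pur21.fromSpecStalk_eq_iff X y 𝔮).mpr heq
    exact hne (this.symm.trans h𝔮)
  haveI := 𝔮.isPrime
  have hlt : 𝔮.asIdeal < maximalIdeal (X.presheaf.stalk y) :=
    lt_of_le_of_ne (le_maximalIdeal 𝔮.isPrime.ne_top) hne'
  have hht := Ideal.height_strict_mono_of_isPrime hlt
  intro h0
  rw [← IsLocalRing.maximalIdeal_height_eq_ringKrullDim] at h0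
  have h0' : (maximalIdeal (X.presheaf.stalk y)).height = 0 := by exact_mod_cast h0
  rw [h0'] at hht
  exact not_lt_bot hht

theorem exists_specializes_ne (X : Scheme.{u}) [IsLocallyNoetherian X] (x : X)
    (hdim : ringKrullDim (X.presheaf.stalk x) = 0) (hopen : ¬ IsOpen ({x} : Set X)) :
    ∃ y : X, x ⤳ y ∧ y ≠ x := by
  by_contra hno
  push Not at hno
  apply hopen
  obtain ⟨U, hU, hxU, -⟩ := exists_isAffineOpen_mem_and_subset (x := x) (U := ⊤) trivial
  haveI : IsNoetherianRing Γ(X, U) := IsLocallyNoetherian.component_noetherian ⟨U, hU⟩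
  set 𝔭 := hU.primeIdealOf ⟨x, hxU⟩ with h𝔭
  have hfx : hU.fromSpec 𝔭 = x := hU.fromSpec_primeIdealOf ⟨x, hxU⟩
  letI : Algebra Γ(X, U) (X.presheaf.stalk x) :=
    TopCat.Presheaf.algebra_section_stalk X.presheaf ⟨x, hxU⟩
  haveI : IsLocalization.AtPrime (X.presheaf.stalk x) 𝔭.asIdeal :=
    hU.isLocalization_stalk ⟨x, hxU⟩
  have hht : 𝔭.asIdeal.height = 0 := by
    have h1 := IsLocalization.AtPrime.ringKrullDim_eq_height 𝔭.asIdeal (X.presheaf.stalk x)
    rw [hdim] at h1
    exact_mod_cast h1.symm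
  have hmin : 𝔭.asIdeal ∈ minimalPrimes Γ(X, U) := Ideal.height_eq_zero_iff.mp hht
  have hmax : ∀ 𝔮 : PrimeSpectrum Γ(X, U), 𝔭 ≤ 𝔮 → 𝔮 = 𝔭 := by
    intro 𝔮 hle
    have hs : 𝔭 ⤳ 𝔮 := (PrimeSpectrum.le_iff_specializes 𝔭 𝔮).mp hle
    have hs' : hU.fromSpec 𝔭 ⤳ hU.fromSpec 𝔮 := hs.map hU.fromSpec.continuous
    rw [hfx] at hs'
    have := hno _ hs'
    exact hU.fromSpec.isOpenEmbedding.injective (this.trans hfx.symm)
  have hcl : IsClosed (⋃ 𝔭' ∈ {J : Ideal Γ(X, U) | J ∈ minimalPrimes Γ(X, U) ∧ J ≠ 𝔭.asIdeal},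
      PrimeSpectrum.zeroLocus (𝔭' : Set Γ(X, U))) := by
    refine Set.Finite.isClosed_biUnion ?_ fun J _ => PrimeSpectrum.isClosed_zeroLocus _
    exact (minimalPrimes.finite_of_isNoetherianRing Γ(X, U)).subset fun J hJ => hJ.1
  have hcompl : ({𝔭} : Set (PrimeSpectrum Γ(X, U)))ᶜ =
      ⋃ 𝔭' ∈ {J : Ideal Γ(X, U) | J ∈ minimalPrimes Γ(X, U) ∧ J ≠ 𝔭.asIdeal},
        PrimeSpectrum.zeroLocus (𝔭' : Set Γ(X, U)) := by
    ext 𝔮
    simp only [Set.mem_compl_iff, Set.mem_singleton_iff, Set.mem_iUnion, Set.mem_ofPred_eq,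
      PrimeSpectrum.mem_zeroLocus, SetLike.coe_subset_coe, exists_prop]
    constructor
    · intro hne
      obtain ⟨J, hJmin, hJle⟩ := Ideal.exists_minimalPrimes_le (bot_le : (⊥ : Ideal Γ(X, U)) ≤ 𝔮.asIdeal)
      refine ⟨J, ⟨hJmin, ?_⟩, hJle⟩
      intro hJ𝔭
      exact hne (hmax 𝔮 (by change 𝔭.asIdeal ≤ 𝔮.asIdeal; rw [← hJ𝔭]; exact hJle))
    · rintro ⟨J, ⟨hJmin, hJne⟩, hJle⟩ rfl
      haveI : J.IsPrime := hJmin.1.1
      exact hJne (le_antisymm hJle (hmin.2 ⟨inferInstance, bot_le⟩ hJle))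
  have hopen𝔭 : IsOpen ({𝔭} : Set (PrimeSpectrum Γ(X, U))) := by
    rw [← isClosed_compl_iff, hcompl]
    exact hcl
  have h2 := hU.fromSpec.isOpenEmbedding.isOpenMap _ hopen𝔭
  convert h2 using 1
  ext z
  constructor
  · intro hz
    rw [Set.mem_singleton_iff] at hz
    exact ⟨𝔭, rfl, hz ▸ hfx⟩
  · rintro ⟨w, hw, rfl⟩
    have hw' : w = 𝔭 := hw
    rw [Set.mem_singleton_iff, hw']
    exact hfx

end Groth.Agent.Lib.Helper8.LocFact
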