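import Mathlib
import Groth.Prelude.Def_BlowUp2
import Groth.Agent.Lib.Helper8LocFact

/-!
# Spreading out a principal stalk ideal; integral codimension-one subschemes with factorial
local rings are effective Cartier (helper8)
-/

set_option autoImplicit false
universe u

open AlgebraicGeometry CategoryTheory IsLocalRing

namespace Groth.Agent.Lib.Helper8.EffCart

section Algebra

variable {A : Type u} [CommRing A]

theorem exists_notMem_forall_mul_mem (p : Ideal A) [p.IsPrime] (N L : Ideal A) (hN : N.FG)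
    (h : ∀ n ∈ N, ∃ g : A, g ∉ p ∧ g * n ∈ L) : ∃ g : A, g ∉ p ∧ ∀ n ∈ N, g * n ∈ L := by
  classical
  obtain ⟨s, rfl⟩ := hN
  induction s using Finset.induction_on with
  | empty =>
    refine ⟨1, (Ideal.ne_top_iff_one p).mp (Ideal.IsPrime.ne_top ‹_›), ?_⟩
    intro n hn
    rw [Finset.coe_empty, Ideal.span_empty, Ideal.mem_bot] at hn
    rw [hn, mul_zero]
    exact L.zero_mem
  | insert b s hb ih =>
    obtain ⟨g₁, hg₁, hg₁'⟩ := ih (fun n hn =>
      h n (Ideal.span_mono (Finset.coe_subset.mpr (Finset.subset_insert b s)) hn))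
    obtain ⟨g₂, hg₂, hg₂'⟩ :=
      h b (Ideal.subset_span (Finset.mem_coe.mpr (Finset.mem_insert_self b s)))
    refine ⟨g₂ * g₁, fun hmem => (Ideal.IsPrime.mem_or_mem ‹p.IsPrime› hmem).elim hg₂ hg₁, ?_⟩
    intro n hn
    rw [Finset.coe_insert, Ideal.mem_span_insert] at hn
    obtain ⟨r, z, hz, rfl⟩ := hn
    have e : g₂ * g₁ * (r * b + z) = (r * g₁) * (g₂ * b) + g₂ * (g₁ * z) := by ring
    rw [e]
    exact L.add_mem (L.mul_mem_left _ hg₂') (L.mul_mem_left _ (hg₁' z hz))

theorem exists_away_principal [IsNoetherianRing A] (I p : Ideal A) [p.IsPrime]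
    (S : Type u) [CommRing S] [Algebra A S] [IsLocalization.AtPrime S p]
    (t : S) (ht : t ∈ nonZeroDivisors S) (hI : I.map (algebraMap A S) = Ideal.span {t}) :
    ∃ g : A, g ∉ p ∧ ∀ (T : Type u) [CommRing T] [Algebra A T] [IsLocalization.Away g T],
      ∃ f' : T, f' ∈ nonZeroDivisors T ∧ I.map (algebraMap A T) = Ideal.span {f'} := by
  classical
  have htI : t ∈ I.map (algebraMap A S) := by rw [hI]; exact Ideal.mem_span_singleton_self t
  obtain ⟨⟨⟨a, haI⟩, s⟩, has⟩ := (IsLocalization.mem_map_algebraMap_iff p.primeCompl S).mp htI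
  dsimp only at has
  have hsu : IsUnit (algebraMap A S (s : A)) := IsLocalization.map_units S s
  have haS : algebraMap A S a ∈ nonZeroDivisors S := by
    rw [← has]
    exact mul_mem ht hsu.mem_nonZeroDivisors
  have hIa : I.map (algebraMap A S) = Ideal.span {algebraMap A S a} := by
    rw [hI, ← has, Ideal.span_singleton_mul_right_unit hsu]
  have h2 : ∀ n ∈ I, ∃ g : A, g ∉ p ∧ g * n ∈ Ideal.span {a} := by
    intro n hn
    have hn' : algebraMap A S n ∈ (Ideal.span {a}).map (algebraMap A S) := by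
      rw [Ideal.map_span, Set.image_singleton, ← hIa]
      exact Ideal.mem_map_of_mem _ hn
    obtain ⟨⟨⟨c, hc⟩, u⟩, hcu⟩ := (IsLocalization.mem_map_algebraMap_iff p.primeCompl S).mp hn'
    dsimp only at hcu
    rw [← map_mul, IsLocalization.eq_iff_exists p.primeCompl S] at hcu
    obtain ⟨v, hv⟩ := hcu
    refine ⟨v * u, ?_, ?_⟩
    · exact fun hmem => (Ideal.IsPrime.mem_or_mem ‹p.IsPrime› hmem).elim
        (show (v : A) ∉ p from v.2) (show (u : A) ∉ p from u.2)
    · have e : (v : A) * u * n = v * c := by rw [← hv]; ring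
      rw [e]
      exact Ideal.mul_mem_left _ _ hc
  obtain ⟨g₁, hg₁, hg₁'⟩ :=
    exists_notMem_forall_mul_mem p I (Ideal.span {a}) (IsNoetherian.noetherian I) h2
  set N : Ideal A := LinearMap.ker (LinearMap.mulLeft A a) with hN
  have hNmem : ∀ n, n ∈ N ↔ a * n = 0 := fun n => by
    rw [hN, LinearMap.mem_ker, LinearMap.mulLeft_apply]
  have h3 : ∀ n ∈ N, ∃ g : A, g ∉ p ∧ g * n ∈ (⊥ : Ideal A) := by
    intro n hn
    rw [hNmem] at hn
    have h0 : algebraMap A S n = 0 := by
      have e : algebraMap A S n * algebraMap A S a = 0 := by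
        rw [← map_mul, mul_comm, hn, map_zero]
      exact (mem_nonZeroDivisors_iff_right.mp haS) _ e
    obtain ⟨v, hv⟩ := (IsLocalization.map_eq_zero_iff p.primeCompl S n).mp h0
    exact ⟨v, v.2, by rw [Ideal.mem_bot]; exact hv⟩
  obtain ⟨g₂, hg₂, hg₂'⟩ :=
    exists_notMem_forall_mul_mem p N ⊥ (IsNoetherian.noetherian N) h3
  refine ⟨g₁ * g₂, fun hmem => (Ideal.IsPrime.mem_or_mem ‹p.IsPrime› hmem).elim hg₁ hg₂, ?_⟩
  intro T _ _ _
  have hgu : IsUnit (algebraMap A T (g₁ * g₂)) := IsLocalization.Away.algebraMap_isUnit (g₁ * g₂)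
  rw [map_mul] at hgu
  have hg₁u : IsUnit (algebraMap A T g₁) := isUnit_of_mul_isUnit_left hgu
  have hg₂u : IsUnit (algebraMap A T g₂) := isUnit_of_mul_isUnit_right hgu
  refine ⟨algebraMap A T a, ?_, ?_⟩
  · rw [mem_nonZeroDivisors_iff_right]
    intro z hz
    obtain ⟨⟨y, u⟩, hyu⟩ := IsLocalization.surj (Submonoid.powers (g₁ * g₂)) z
    dsimp only at hyu
    have huu : IsUnit (algebraMap A T (u : A)) := IsLocalization.map_units T u
    have h0 : algebraMap A T (y * a) = 0 := by
      rw [map_mul, ← hyu, mul_right_comm, hz, zero_mul]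
    obtain ⟨m, hm⟩ :=
      (IsLocalization.map_eq_zero_iff (Submonoid.powers (g₁ * g₂)) T (y * a)).mp h0
    have hmyN : (m : A) * y ∈ N := by
      rw [hNmem, ← hm]; ring
    have h1 := hg₂' _ hmyN
    rw [Ideal.mem_bot] at h1
    have hmu : IsUnit (algebraMap A T (m : A)) := IsLocalization.map_units T m
    have h2' : algebraMap A T g₂ * algebraMap A T (m : A) * algebraMap A T y = 0 := by
      rw [← map_mul, ← map_mul, mul_assoc, h1, map_zero]
    have hy0 : algebraMap A T y = 0 := ((hg₂u.mul hmu).mul_right_eq_zero).mp h2'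
    rw [hy0] at hyu
    exact (huu.mul_left_eq_zero).mp hyu
  · apply le_antisymm
    · rw [Ideal.map_le_iff_le_comap]
      intro n hn
      rw [Ideal.mem_comap, Ideal.mem_span_singleton]
      obtain ⟨c, hc⟩ := Ideal.mem_span_singleton'.mp (hg₁' n hn)
      have e : algebraMap A T g₁ * algebraMap A T n = algebraMap A T a * algebraMap A T c := by
        rw [← map_mul, ← map_mul, ← hc, mul_comm]
      exact (hg₁u.dvd_mul_left).mp ⟨algebraMap A T c, e⟩
    · rw [Ideal.span_singleton_le_iff_mem]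
      exact Ideal.mem_map_of_mem _ haI

end Algebra

section Sch

variable {X : Scheme.{u}}

/-- Away from the support, the ideal is locally the unit ideal. -/
theorem exists_of_notMem_support (𝓘 : X.IdealSheafData) (x : X) (hx : x ∉ 𝓘.support) :
    ∃ U : X.affineOpens, x ∈ U.1 ∧
      ∃ f : Γ(X, U.1), f ∈ nonZeroDivisors Γ(X, U.1) ∧ 𝓘.ideal U = Ideal.span {f} := by
  obtain ⟨V, hV, hxV, -⟩ := exists_isAffineOpen_mem_and_subset (x := x) (U := ⊤) trivial
  let Va : X.affineOpens := ⟨V, hV⟩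
  have h1 : x ∉ X.zeroLocus (U := Va.1) (𝓘.ideal Va) := fun h =>
    hx ((Scheme.IdealSheafData.mem_support_iff_of_mem (U := Va) hxV).mpr h)
  rw [Scheme.mem_zeroLocus_iff] at h1
  push Not at h1
  obtain ⟨g, hgI, hxg⟩ := h1
  haveI : IsLocalization.Away g Γ(X, X.basicOpen g) := hV.isLocalization_basicOpen g
  have hu : IsUnit ((X.presheaf.map (homOfLE (X.basicOpen_le g)).op).hom g) :=
    IsLocalization.Away.algebraMap_isUnit (S := Γ(X, X.basicOpen g)) g
  have key : (𝓘.ideal Va).map (X.presheaf.map (homOfLE (X.basicOpen_le g)).op).hom = ⊤ :=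
    Ideal.eq_top_of_isUnit_mem _ (Ideal.mem_map_of_mem _ hgI) hu
  refine ⟨X.affineBasicOpen g, hxg, 1, one_mem _, ?_⟩
  exact ((𝓘.map_ideal_basicOpen Va g).symm.trans key).trans Ideal.span_singleton_one.symm

/-- If the ideal is principal, generated by a nonzerodivisor, in the local ring at `x`, then it is
so on an affine neighbourhood of `x`. -/
theorem exists_of_stalk_principal [IsLocallyNoetherian X] (𝓘 : X.IdealSheafData) (x : X)
    {V : X.Opens} (hV : IsAffineOpen V) (hxV : x ∈ V) (t : X.presheaf.stalk x)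
    (ht : t ∈ nonZeroDivisors (X.presheaf.stalk x))
    (hI : (𝓘.ideal ⟨V, hV⟩).map (X.presheaf.germ V x hxV).hom = Ideal.span {t}) :
    ∃ U : X.affineOpens, x ∈ U.1 ∧
      ∃ f : Γ(X, U.1), f ∈ nonZeroDivisors Γ(X, U.1) ∧ 𝓘.ideal U = Ideal.span {f} := by
  let Va : X.affineOpens := ⟨V, hV⟩
  haveI : IsNoetherianRing Γ(X, V) := IsLocallyNoetherian.component_noetherian Va
  letI : Algebra Γ(X, V) (X.presheaf.stalk x) := X.presheaf.algebra_section_stalk ⟨x, hxV⟩
  haveI hloc : IsLocalization.AtPrime (X.presheaf.stalk x) (hV.primeIdealOf ⟨x, hxV⟩).asIdeal :=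
    hV.isLocalization_stalk ⟨x, hxV⟩
  obtain ⟨g, hg, hgT⟩ := exists_away_principal (𝓘.ideal Va) (hV.primeIdealOf ⟨x, hxV⟩).asIdeal
    (X.presheaf.stalk x) t ht hI
  haveI : IsLocalization.Away g Γ(X, X.basicOpen g) := hV.isLocalization_basicOpen g
  obtain ⟨f', hf', hIf'⟩ := hgT Γ(X, X.basicOpen g)
  have hxg : x ∈ X.basicOpen g := by
    rw [X.mem_basicOpen g x hxV]
    exact (IsLocalization.AtPrime.isUnit_to_map_iff (X.presheaf.stalk x)
      (hV.primeIdealOf ⟨x, hxV⟩).asIdeal g).mpr hg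
  refine ⟨X.affineBasicOpen g, hxg, f', hf', ?_⟩
  exact (𝓘.map_ideal_basicOpen Va g).symm.trans hIf'

theorem specializes_of_mem_support (𝓘 : X.IdealSheafData) [IsIntegral 𝓘.subscheme] (x : X)
    (hx : x ∈ 𝓘.support) : 𝓘.subschemeι (genericPoint ↥𝓘.subscheme) ⤳ x := by
  have h1 : x ∈ Set.range 𝓘.subschemeι := by rw [𝓘.range_subschemeι]; exact hx
  obtain ⟨z, rfl⟩ := h1
  exact (genericPoint_specializes z).map 𝓘.subschemeι.continuous

theorem map_germ_ideal_eq_comap (𝓘 : X.IdealSheafData) [IsIntegral 𝓘.subscheme] (x : X)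
    {V : X.Opens} (hV : IsAffineOpen V) (hxV : x ∈ V)
    (hspec : 𝓘.subschemeι (genericPoint ↥𝓘.subscheme) ⤳ x) :
    (𝓘.ideal ⟨V, hV⟩).map (X.presheaf.germ V x hxV).hom =
      (maximalIdeal (X.presheaf.stalk (𝓘.subschemeι (genericPoint ↥𝓘.subscheme)))).comap
        (X.presheaf.stalkSpecializes hspec).hom := by
  let Va : X.affineOpens := ⟨V, hV⟩
  have hfield : IsField (𝓘.subscheme.presheaf.stalk (genericPoint ↥𝓘.subscheme)) :=
    isField_stalk_of_closure_mem_irreducibleComponents 𝓘.subscheme _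
      (by simp [irreducibleComponents_eq_singleton])
  have hmax : maximalIdeal (𝓘.subscheme.presheaf.stalk (genericPoint ↥𝓘.subscheme)) = ⊥ :=
    IsLocalRing.isField_iff_maximalIdeal_eq.mp hfield
  set ξ := genericPoint ↥𝓘.subscheme with hξ
  have hξV : 𝓘.subschemeι ξ ∈ V := hspec.mem_open V.isOpen hxV
  have hgerm : ∀ f : Γ(X, V), (X.presheaf.stalkSpecializes hspec).hom
      ((X.presheaf.germ V x hxV).hom f) = (X.presheaf.germ V (𝓘.subschemeι ξ) hξV).hom f := by
    intro f
    have := X.presheaf.germ_stalkSpecializes hxV hspec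
    exact congrArg (fun φ => φ.hom f) this
  letI : Algebra Γ(X, V) (X.presheaf.stalk x) := X.presheaf.algebra_section_stalk ⟨x, hxV⟩
  haveI hloc : IsLocalization.AtPrime (X.presheaf.stalk x) (hV.primeIdealOf ⟨x, hxV⟩).asIdeal :=
    hV.isLocalization_stalk ⟨x, hxV⟩
  apply le_antisymm
  · rw [Ideal.map_le_iff_le_comap]
    intro f hf
    rw [Ideal.mem_comap, Ideal.mem_comap, hgerm f, mem_maximalIdeal, mem_nonunits_iff,
      ← X.mem_basicOpen f (𝓘.subschemeι ξ) hξV]
    have hsup : 𝓘.subschemeι ξ ∈ 𝓘.support := by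
      have : 𝓘.subschemeι ξ ∈ Set.range 𝓘.subschemeι := ⟨ξ, rfl⟩
      rw [𝓘.range_subschemeι] at this
      exact this
    have h2 := 𝓘.supportSet_subset_zeroLocus Va hsup
    rw [Scheme.mem_zeroLocus_iff] at h2
    exact h2 f hf
  · intro s hs
    obtain ⟨a, u, rfl⟩ := IsLocalization.exists_mk'_eq (hV.primeIdealOf ⟨x, hxV⟩).asIdeal.primeCompl s
    have ha : algebraMap Γ(X, V) (X.presheaf.stalk x) a ∈
        (maximalIdeal (X.presheaf.stalk (𝓘.subschemeι ξ))).comap
          (X.presheaf.stalkSpecializes hspec).hom := by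
      rw [← IsLocalization.mk'_spec (X.presheaf.stalk x) a u]
      exact Ideal.mul_mem_right _ _ hs
    have haI : a ∈ 𝓘.ideal Va := by
      rw [← 𝓘.ker_subschemeι_app Va, RingHom.mem_ker]
      apply germ_injective_of_isIntegral 𝓘.subscheme ξ hξV
      rw [map_zero]
      have h2 : (𝓘.subscheme.presheaf.germ (𝓘.subschemeι ⁻¹ᵁ V) ξ hξV).hom
          ((𝓘.subschemeι.app V).hom a) =
          (𝓘.subschemeι.stalkMap ξ).hom ((X.presheaf.germ V (𝓘.subschemeι ξ) hξV).hom a) :=
        (Scheme.Hom.germ_stalkMap_apply 𝓘.subschemeι V ξ hξV a).symm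
      have h3 : (𝓘.subschemeι.stalkMap ξ).hom ((X.presheaf.germ V (𝓘.subschemeι ξ) hξV).hom a) ∈
          maximalIdeal (𝓘.subscheme.presheaf.stalk ξ) := by
        have hmem : (X.presheaf.germ V (𝓘.subschemeι ξ) hξV).hom a ∈
            maximalIdeal (X.presheaf.stalk (𝓘.subschemeι ξ)) := by
          rw [← hgerm a]
          exact ha
        rw [mem_maximalIdeal, mem_nonunits_iff] at hmem ⊢
        exact fun hu => hmem (isUnit_of_map_unit (𝓘.subschemeι.stalkMap ξ).hom _ hu)
      rw [hmax, Ideal.mem_bot] at h3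
      exact h2.trans h3
    rw [IsLocalization.mk'_eq_mul_mk'_one]
    exact Ideal.mul_mem_right _ _ (Ideal.mem_map_of_mem _ haI)

/-- **Main result**: an integral closed subscheme of codimension one all of whose points have
factorial local rings in `X` is an effective Cartier divisor. -/
theorem isEffCartier_of_integral_codim_one_ufd [IsLocallyNoetherian X] (𝓘 : X.IdealSheafData)
    [IsIntegral 𝓘.subscheme]
    (hcodim : ringKrullDim (X.presheaf.stalk (𝓘.subschemeι (genericPoint ↥𝓘.subscheme))) = 1)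
    (hufd : ∀ x : ↥X, x ∈ 𝓘.support →
      IsDomain (X.presheaf.stalk x) ∧ UniqueFactorizationMonoid (X.presheaf.stalk x)) :
    BlowUp.IsEffCartierIdeal 𝓘 := by
  intro x
  by_cases hxs : x ∈ 𝓘.support
  · obtain ⟨V, hV, hxV, -⟩ := exists_isAffineOpen_mem_and_subset (x := x) (U := ⊤) trivial
    obtain ⟨hdom, hU⟩ := hufd x hxs
    haveI := hdom
    haveI := hU
    have hspec := specializes_of_mem_support 𝓘 x hxs
    have hJ := map_germ_ideal_eq_comap 𝓘 x hV hxV hspec
    set P : Ideal (X.presheaf.stalk x) :=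
      (maximalIdeal (X.presheaf.stalk (𝓘.subschemeι (genericPoint ↥𝓘.subscheme)))).comap
        (X.presheaf.stalkSpecializes hspec).hom with hP
    haveI : P.IsPrime := Ideal.comap_isPrime _ _
    have hPht : P.height = 1 := by
      have h1 := Groth.Agent.Lib.Helper8.LocFact.ringKrullDim_stalk_eq_height_comap X hspec
      rw [hcodim] at h1
      exact_mod_cast h1.symm
    obtain ⟨t, ht⟩ := (UniqueFactorizationMonoid.isPrincipal_of_height_eq_one hPht).principal
    have hPne : P ≠ ⊥ := Ideal.ne_bot_of_height_eq_one hPht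
    have ht0 : t ≠ 0 := by
      rintro rfl
      apply hPne
      rw [ht]
      exact Ideal.span_singleton_eq_bot.mpr rfl
    exact exists_of_stalk_principal 𝓘 x hV hxV t (mem_nonZeroDivisors_of_ne_zero ht0)
      (hJ.trans ht)
  · exact exists_of_notMem_support 𝓘 x hxs

end Sch

end Groth.Agent.Lib.Helper8.EffCart
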