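/-
Effective Cartier ideals descend along flat surjective morphisms to locally Noetherian schemes
(helper9, S13604): principal_of_flat_local (ring lemma), stalkIdeal_comap, descends, main13604.
-/
import Mathlib
import Groth.Prelude
import Groth.Agent.Lib.Helper8EffCart
import Groth.Agent.Lib.R2H1CartierProd
import Groth.Agent.Lib.Helper22IdealComap

set_option autoImplicit false
universe u

namespace Groth.Agent.Lib.H9EffCartDesc

open AlgebraicGeometry CategoryTheory CategoryTheory.Limits

/-- Let `R → S` be a flat local homomorphism of local rings and `J` a finitely generated ideal of `R`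
whose extension to `S` is generated by one nonzerodivisor. Then `J` is generated by one
nonzerodivisor. -/
theorem principal_of_flat_local {R S : Type u} [CommRing R] [CommRing S] [IsLocalRing R]
    [IsLocalRing S] (φ : R →+* S) [IsLocalHom φ] (hφ : φ.Flat) (J : Ideal R) (hJ : J.FG) (b : S)
    (hb : b ∈ nonZeroDivisors S) (h : J.map φ = Ideal.span {b}) :
    ∃ a ∈ nonZeroDivisors R, J = Ideal.span {a} := by
  algebraize [φ]
  haveI : IsLocalHom (algebraMap R S) := ‹IsLocalHom φ›
  haveI : Module.FaithfullyFlat R S := Module.FaithfullyFlat.of_flat_of_isLocalHom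
  obtain ⟨n, g, hg⟩ := Submodule.fg_iff_exists_fin_generating_family.mp hJ
  have hmap : J.map φ = Ideal.span (Set.range (fun i => φ (g i))) := by
    rw [← hg]
    show Ideal.map φ (Ideal.span (Set.range g)) = _
    rw [Ideal.map_span, ← Set.range_comp]
    rfl
  have hbmem : b ∈ Ideal.span (Set.range (fun i => φ (g i))) := by
    rw [← hmap, h]; exact Ideal.mem_span_singleton_self b
  obtain ⟨c, hc⟩ := (Ideal.mem_span_range_iff_exists_fun).mp hbmem
  have hd : ∀ i, ∃ d : S, φ (g i) = d * b := by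
    intro i
    have : φ (g i) ∈ Ideal.span {b} := by
      rw [← h, hmap]; exact Ideal.subset_span ⟨i, rfl⟩
    obtain ⟨d, hd⟩ := Ideal.mem_span_singleton'.mp this
    exact ⟨d, hd.symm⟩
  choose d hd using hd
  have hsum : (∑ i, c i * d i) = 1 := by
    have h1 : (∑ i, c i * d i) * b = 1 * b := by
      rw [Finset.sum_mul, one_mul]
      refine Eq.trans (Finset.sum_congr rfl fun i _ => ?_) hc
      rw [hd i]; ring
    exact (mul_cancel_right_mem_nonZeroDivisors hb).mp h1
  obtain ⟨i, hi⟩ : ∃ i, IsUnit (c i * d i) := by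
    by_contra hcon
    push Not at hcon
    have : (∑ i, c i * d i) ∈ IsLocalRing.maximalIdeal S :=
      Ideal.sum_mem _ fun i _ => (IsLocalRing.mem_maximalIdeal _).mpr (hcon i)
    rw [hsum] at this
    exact (IsLocalRing.mem_maximalIdeal _).mp this isUnit_one
  have hdi : IsUnit (d i) := isUnit_of_mul_isUnit_right hi
  have hspan : Ideal.span {φ (g i)} = Ideal.span {b} := by
    rw [hd i]
    exact Ideal.span_singleton_mul_left_unit hdi b
  have hinj : Function.Injective φ := FaithfulSMul.algebraMap_injective R S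
  refine ⟨g i, ?_, ?_⟩
  · rw [mem_nonZeroDivisors_iff_right]
    intro x hx
    apply hinj
    rw [map_zero]
    have hnz : φ (g i) ∈ nonZeroDivisors S := by
      rw [hd i]
      exact mul_mem (IsUnit.mem_nonZeroDivisors hdi) hb
    have : φ x * φ (g i) = 0 := by rw [← map_mul, hx, map_zero]
    exact (mul_right_mem_nonZeroDivisors_eq_zero_iff hnz).mp this
  · apply Ideal.map_injective_of_faithfullyFlat (A := R) (B := S)
    show Ideal.map φ J = Ideal.map φ (Ideal.span {g i})
    rw [h, Ideal.map_span, Set.image_singleton, hspan]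

open Groth.Agent.Lib.R2H1.CartierProd in
/-- The stalk of the inverse image ideal is the extension of the stalk. -/
theorem stalkIdeal_comap {X Y : Scheme.{u}} (g : Y ⟶ X) (𝓘 : X.IdealSheafData) (y : Y) :
    IntMult.stalkIdeal (𝓘.comap g) y = (IntMult.stalkIdeal 𝓘 (g y)).map (g.stalkMap y).hom := by
  obtain ⟨_, ⟨V, hV, rfl⟩, hyV, -⟩ := X.isBasis_affineOpens.exists_subset_of_mem_open
    (Set.mem_univ (g y)) isOpen_univ
  obtain ⟨_, ⟨W, hW, rfl⟩, hyW, hWV⟩ := Y.isBasis_affineOpens.exists_subset_of_mem_open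
    (show y ∈ (g ⁻¹ᵁ V : Set Y) from hyV) (g ⁻¹ᵁ V).isOpen
  have hWV' : W ≤ g ⁻¹ᵁ V := hWV
  rw [stalkIdeal_eq_map_germ (𝓘.comap g) ⟨W, hW⟩ y hyW, stalkIdeal_eq_map_germ 𝓘 ⟨V, hV⟩ (g y) hyV,
    Groth.Agent.Lib.Helper22.IdealComap.ideal_comap_eq_map g 𝓘 ⟨W, hW⟩ ⟨V, hV⟩ hWV',
    Ideal.map_map, Ideal.map_map]
  congr 1
  rw [← CommRingCat.hom_comp, ← CommRingCat.hom_comp]
  congr 1
  rw [Scheme.Hom.germ_stalkMap, Scheme.Hom.appLE, Category.assoc]
  congr 1
  exact Y.presheaf.germ_res (homOfLE hWV') y hyW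

open Groth.Agent.Lib.R2H1.CartierProd in
/-- Effective Cartier ideals descend along flat surjective morphisms (target locally Noetherian). -/
theorem descends {X Y : Scheme.{u}} [IsLocallyNoetherian X] (g : Y ⟶ X) [Flat g] [Surjective g]
    (𝓘 : X.IdealSheafData) (h : BlowUp.IsEffCartierIdeal (𝓘.comap g)) :
    BlowUp.IsEffCartierIdeal 𝓘 := by
  intro x
  obtain ⟨y, rfl⟩ := g.surjective x
  obtain ⟨b, hb, hb'⟩ := stalkIdeal_principal h y
  rw [stalkIdeal_comap] at hb'
  have hflat : (g.stalkMap y).hom.Flat := Flat.stalkMap g y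
  obtain ⟨a, ha, haJ⟩ := principal_of_flat_local (g.stalkMap y).hom hflat
    (IntMult.stalkIdeal 𝓘 (g y)) (IsNoetherian.noetherian _) b hb hb'
  obtain ⟨_, ⟨V, hV, rfl⟩, hyV, -⟩ := X.isBasis_affineOpens.exists_subset_of_mem_open
    (Set.mem_univ (g y)) isOpen_univ
  exact Groth.Agent.Lib.Helper8.EffCart.exists_of_stalk_principal 𝓘 (g y) hV hyV a ha
    (by rw [← stalkIdeal_eq_map_germ 𝓘 ⟨V, hV⟩ (g y) hyV]; exact haJ)

end Groth.Agent.Lib.H9EffCartDesc

namespace Groth.Agent.Lib.H9EffCartDesc

open AlgebraicGeometry CategoryTheory CategoryTheory.Limits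

theorem surjective_SpecMap_field (k K : Type u) [Field k] [Field K] [Algebra k K] :
    Surjective (Spec.map (CommRingCat.ofHom (algebraMap k K))) := by
  constructor
  intro y
  refine ⟨(⟨⊥, Ideal.isPrime_bot⟩ : PrimeSpectrum K), ?_⟩
  exact Subsingleton.elim (α := PrimeSpectrum k) _ _

theorem main13604 {k : Type u} [Field k] {K : Type u} [Field K]
    [Algebra k K] {X : Scheme.{u}} (f : X ⟶ Spec (CommRingCat.of k)) (r : ℕ)
    [SmoothOfRelativeDimension r f] (𝓘 : X.IdealSheafData)
    (hK : BlowUp.IsEffCartierIdeal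
      (𝓘.comap (pullback.fst f (Spec.map (CommRingCat.ofHom (algebraMap k K)))))) :
    BlowUp.IsEffCartierIdeal 𝓘 := by
  haveI : Smooth f := SmoothOfRelativeDimension.smooth r f
  haveI : IsLocallyNoetherian X := LocallyOfFiniteType.isLocallyNoetherian f
  haveI : Surjective (Spec.map (CommRingCat.ofHom (algebraMap k K))) :=
    surjective_SpecMap_field k K
  haveI : Flat (Spec.map (CommRingCat.ofHom (algebraMap k K))) := by
    rw [Flat.SpecMap_iff]
    exact RingHom.Flat.of_isField (Field.toIsField k) _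
  exact descends (pullback.fst f (Spec.map (CommRingCat.ofHom (algebraMap k K)))) 𝓘 hK

end Groth.Agent.Lib.H9EffCartDesc
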