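/-
Extending an effective Cartier divisor from an open subscheme across points with factorial local
rings (helper9, S1660).  isDomain_of_loc, principal_of_ufd_saturated (the "gcd trick": a nonzero
finitely generated ideal of a UFD, saturated with respect to a family of localization-like maps to
local rings in each of which it becomes principal, is principal), stalkIdeal_specializes,
stalkSpecializes_loc, stalkSpecializes_injective, exists_point_of_prime, saturation_section /
saturation (the scheme-theoretic closure `D.map U.ι` is saturated: membership in its stalk at `x`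
can be tested at the generizations of `x` lying in `U`), stalkIdeal_map_principal_of_mem, main1660.
-/
import Mathlib
import Groth.Prelude
import Groth.Agent.Lib.H9EffCartDesc
import Groth.Agent.Lib.H9BlowExt
import Groth.Agent.Lib.Helper20OnePt

set_option autoImplicit false
set_option linter.style.haveILetI false
universe u


namespace Groth.Agent.Lib.H9CartExt

/-- A ring receiving an injective "localization-like" map from a domain is a domain. -/
theorem isDomain_of_loc {A B : Type u} [CommRing A] [IsDomain A] [CommRing B] [Nontrivial B]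
    (φ : A →+* B) (hinj : Function.Injective φ)
    (hloc : ∀ b : B, ∃ a s : A, IsUnit (φ s) ∧ b * φ s = φ a) : IsDomain B := by
  haveI : NoZeroDivisors B := by
    constructor
    intro b b' hbb'
    obtain ⟨a, s, hs, h1⟩ := hloc b
    obtain ⟨a', s', hs', h2⟩ := hloc b'
    have h3 : φ (a * a') = 0 := by
      rw [map_mul, ← h1, ← h2]
      calc b * φ s * (b' * φ s') = (b * b') * (φ s * φ s') := by ring
        _ = 0 := by rw [hbb', zero_mul]
    have h4 : a * a' = 0 := hinj (by rw [h3, map_zero])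
    rcases mul_eq_zero.mp h4 with h | h
    · left
      rw [h, map_zero] at h1
      exact (hs.mul_left_eq_zero).mp h1
    · right
      rw [h, map_zero] at h2
      exact (hs'.mul_left_eq_zero).mp h2
  exact NoZeroDivisors.to_isDomain B

/-- The "gcd trick": a nonzero finitely generated ideal of a UFD which is saturated with respect
to a family of localization-like maps to local rings, in each of which it becomes principal,
is principal. -/
theorem principal_of_ufd_saturated {A : Type u} [CommRing A] [IsDomain A]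
    [UniqueFactorizationMonoid A] (J : Ideal A) (hJ : J.FG) (hJ0 : J ≠ ⊥)
    {ι : Type u} (B : ι → Type u) [∀ i, CommRing (B i)] [∀ i, IsLocalRing (B i)]
    (φ : ∀ i, A →+* B i) (hinj : ∀ i, Function.Injective (φ i))
    (hloc : ∀ i (b : B i), ∃ a s : A, IsUnit (φ i s) ∧ b * φ i s = φ i a)
    (hprin : ∀ i, ∃ δ : B i, J.map (φ i) = Ideal.span {δ})
    (hsat : ∀ a : A, (∀ i, φ i a ∈ J.map (φ i)) → a ∈ J) :
    ∃ g : A, g ≠ 0 ∧ J = Ideal.span {g} := by
  classical
  letI : StrongNormalizationMonoid A := UniqueFactorizationMonoid.strongNormalizationMonoid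
  letI : NormalizedGCDMonoid A := UniqueFactorizationMonoid.toNormalizedGCDMonoid A
  obtain ⟨n, b, hb⟩ := Submodule.fg_iff_exists_fin_generating_family.mp hJ
  have hbJ : ∀ k, b k ∈ J := fun k => hb ▸ Submodule.subset_span ⟨k, rfl⟩
  have hne : ∃ k, b k ≠ 0 := by
    by_contra hcon
    push Not at hcon
    apply hJ0
    rw [← hb, Submodule.span_eq_bot]
    rintro _ ⟨k, rfl⟩
    exact hcon k
  obtain ⟨k₁, hk₁⟩ := hne
  obtain ⟨a, ha, hgcd⟩ := Finset.extract_gcd b ⟨k₁, Finset.mem_univ _⟩
  set g := Finset.univ.gcd b with hgdef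
  have ha' : ∀ k, b k = g * a k := fun k => ha k (Finset.mem_univ _)
  have hg0 : g ≠ 0 := by
    intro h0
    apply hk₁
    rw [ha' k₁, h0, zero_mul]
  have hJle : J ≤ Ideal.span {g} := by
    rw [← hb]
    refine Submodule.span_le.mpr ?_
    rintro _ ⟨k, rfl⟩
    exact Ideal.mem_span_singleton.mpr ⟨a k, ha' k⟩
  suffices hgJ : g ∈ J from
    ⟨g, hg0, le_antisymm hJle ((Ideal.span_singleton_le_iff_mem J).mpr hgJ)⟩
  apply hsat
  intro i
  haveI : IsDomain (B i) := isDomain_of_loc (φ i) (hinj i) (hloc i)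
  have hunit : ∃ k, IsUnit (φ i (a k)) := by
    by_contra hcon
    push Not at hcon
    obtain ⟨δ, hδ⟩ := hprin i
    have hφg0 : φ i g ≠ 0 := fun h => hg0 (hinj i (by rw [h, map_zero]))
    -- generators of the extended ideal
    have hmap : J.map (φ i) = Ideal.span (Set.range fun k => φ i (b k)) := by
      rw [← hb]
      show Ideal.map (φ i) (Ideal.span (Set.range b)) = _
      rw [Ideal.map_span, ← Set.range_comp]
      rfl
    have hδmem : δ ∈ Ideal.span (Set.range fun k => φ i (b k)) := by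
      rw [← hmap, hδ]; exact Ideal.mem_span_singleton_self δ
    obtain ⟨e, he⟩ := Ideal.mem_span_range_iff_exists_fun.mp hδmem
    -- δ = φ g * α with α = ∑ e k * φ (a k)
    set α : B i := ∑ k, e k * φ i (a k) with hα
    have hδα : δ = φ i g * α := by
      rw [← he, hα, Finset.mul_sum]
      refine Finset.sum_congr rfl fun k _ => ?_
      rw [ha' k, map_mul]; ring
    have hc : ∀ k, ∃ c : B i, φ i (a k) = c * α := by
      intro k
      have : φ i (b k) ∈ Ideal.span {δ} := by
        rw [← hδ]; exact Ideal.mem_map_of_mem _ (hbJ k)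
      obtain ⟨c, hc⟩ := Ideal.mem_span_singleton'.mp this
      refine ⟨c, ?_⟩
      have h5 : φ i g * φ i (a k) = φ i g * (c * α) := by
        rw [← map_mul, ← ha' k, ← hc, hδα]; ring
      exact mul_left_cancel₀ hφg0 h5
    choose c hc using hc
    have hα0 : α ≠ 0 := by
      intro h0
      apply hk₁
      apply hinj i
      rw [map_zero, ha' k₁, map_mul, hc k₁, h0, mul_zero, mul_zero]
    have hsum : (∑ k, e k * c k) = 1 := by
      have h6 : (∑ k, e k * c k) * α = 1 * α := by
        rw [Finset.sum_mul, one_mul]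
        conv_rhs => rw [hα]
        refine Finset.sum_congr rfl fun k _ => ?_
        rw [hc k]; ring
      exact mul_right_cancel₀ hα0 h6
    obtain ⟨k₀, hk₀⟩ : ∃ k, IsUnit (e k * c k) := by
      by_contra hcon2
      push Not at hcon2
      have : (∑ k, e k * c k) ∈ IsLocalRing.maximalIdeal (B i) :=
        Ideal.sum_mem _ fun k _ => (IsLocalRing.mem_maximalIdeal _).mpr (hcon2 k)
      rw [hsum] at this
      exact (IsLocalRing.mem_maximalIdeal _).mp this isUnit_one
    have hck₀ : IsUnit (c k₀) := isUnit_of_mul_isUnit_right hk₀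
    obtain ⟨u, hu⟩ := hck₀
    -- every φ (a k) is a multiple of φ (a k₀)
    have hβ : ∀ k, ∃ r s : A, IsUnit (φ i s) ∧ a k * s = r * a k₀ := by
      intro k
      obtain ⟨r, s, hs, hrs⟩ := hloc i (c k * (↑u⁻¹ : B i))
      refine ⟨r, s, hs, hinj i ?_⟩
      rw [map_mul, map_mul, ← hrs, hc k, hc k₀, ← hu]
      calc c k * α * φ i s = c k * α * φ i s * ((↑u⁻¹ : B i) * ↑u) := by
            rw [Units.inv_mul, mul_one]
        _ = c k * ↑u⁻¹ * φ i s * (↑u * α) := by ring
    choose r s hs hrs using hβ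
    have hak₀ : a k₀ ≠ 0 := by
      intro h0
      have hall : ∀ k ∈ (Finset.univ : Finset (Fin n)), a k = 0 := by
        intro k _
        have h7 : a k * s k = 0 := by rw [hrs k, h0, mul_zero]
        have hs0 : s k ≠ 0 := fun h => by
          have := hs k
          rw [h, map_zero] at this
          exact not_isUnit_zero this
        exact (mul_eq_zero.mp h7).resolve_right hs0
      have := Finset.gcd_eq_zero_iff.mpr hall
      rw [hgcd] at this
      exact one_ne_zero this
    obtain ⟨f, hfprime, hfprod⟩ := UniqueFactorizationMonoid.exists_prime_factors (a k₀) hak₀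
    obtain ⟨p, hpf, hpu⟩ : ∃ p ∈ f, ¬ IsUnit (φ i p) := by
      by_contra hcon3
      push Not at hcon3
      apply hcon k₀
      obtain ⟨v, hv⟩ := hfprod
      rw [← hv, map_mul, map_multiset_prod]
      refine IsUnit.mul ?_ (v.isUnit.map (φ i))
      refine Multiset.prod_induction (fun x => IsUnit x) _ (fun _ _ => IsUnit.mul) isUnit_one ?_
      intro x hx
      obtain ⟨q, hq, rfl⟩ := Multiset.mem_map.mp hx
      exact hcon3 q hq
    have hp : Prime p := hfprime p hpf
    have hpa : p ∣ a k₀ := (Multiset.dvd_prod hpf).trans hfprod.dvd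
    have hpall : ∀ k ∈ (Finset.univ : Finset (Fin n)), p ∣ a k := by
      intro k _
      have h8 : p ∣ a k * s k := by rw [hrs k]; exact Dvd.dvd.mul_left hpa _
      rcases hp.dvd_or_dvd h8 with h | h
      · exact h
      · exfalso
        apply hpu
        exact isUnit_of_dvd_unit (map_dvd (φ i) h) (hs k)
    have h9 : p ∣ Finset.univ.gcd a := Finset.dvd_gcd hpall
    rw [hgcd] at h9
    exact hp.not_unit (isUnit_of_dvd_one h9)
  obtain ⟨k, hk⟩ := hunit
  have h10 : φ i (b k) ∈ J.map (φ i) := Ideal.mem_map_of_mem _ (hbJ k)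
  rw [ha' k, map_mul] at h10
  obtain ⟨w, hw⟩ := hk
  have : φ i g = φ i g * φ i (a k) * (↑w⁻¹ : B i) := by
    rw [← hw, mul_assoc, Units.mul_inv, mul_one]
  rw [this]
  exact Ideal.mul_mem_right _ _ h10

end Groth.Agent.Lib.H9CartExt

namespace Groth.Agent.Lib.H9CartExt

open AlgebraicGeometry CategoryTheory CategoryTheory.Limits
open Groth.Agent.Lib.R2H1.CartierProd

variable {X : Scheme.{u}}

/-- Stalk ideals are compatible with generization maps. -/
theorem stalkIdeal_specializes (I : X.IdealSheafData) {x y : X} (h : y ⤳ x) :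
    (IntMult.stalkIdeal I x).map (X.presheaf.stalkSpecializes h).hom = IntMult.stalkIdeal I y := by
  obtain ⟨_, ⟨V, hV, rfl⟩, hxV, -⟩ := X.isBasis_affineOpens.exists_subset_of_mem_open
    (Set.mem_univ x) isOpen_univ
  have hyV : y ∈ V := h.mem_open V.isOpen hxV
  rw [stalkIdeal_eq_map_germ I ⟨V, hV⟩ x hxV, stalkIdeal_eq_map_germ I ⟨V, hV⟩ y hyV,
    Ideal.map_map, ← CommRingCat.hom_comp, X.presheaf.germ_stalkSpecializes hxV h]

/-- The generization map on stalks is "localization-like". -/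
theorem stalkSpecializes_loc {x y : X} (h : y ⤳ x) (b : X.presheaf.stalk y) :
    ∃ a s : X.presheaf.stalk x, IsUnit ((X.presheaf.stalkSpecializes h).hom s) ∧
      b * (X.presheaf.stalkSpecializes h).hom s = (X.presheaf.stalkSpecializes h).hom a := by
  obtain ⟨_, ⟨V, hV, rfl⟩, hxV, -⟩ := X.isBasis_affineOpens.exists_subset_of_mem_open
    (Set.mem_univ x) isOpen_univ
  have hyV : y ∈ V := h.mem_open V.isOpen hxV
  letI : Algebra Γ(X, V) (X.presheaf.stalk y) := X.presheaf.algebra_section_stalk ⟨y, hyV⟩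
  haveI hloc : IsLocalization.AtPrime (X.presheaf.stalk y) (hV.primeIdealOf ⟨y, hyV⟩).asIdeal :=
    hV.isLocalization_stalk ⟨y, hyV⟩
  obtain ⟨⟨r, t⟩, hrt⟩ := IsLocalization.surj (hV.primeIdealOf ⟨y, hyV⟩).asIdeal.primeCompl b
  have e : ∀ c : Γ(X, V), (X.presheaf.stalkSpecializes h).hom ((X.presheaf.germ V x hxV).hom c) =
      algebraMap Γ(X, V) (X.presheaf.stalk y) c := by
    intro c
    exact congrArg (fun φ => φ.hom c) (X.presheaf.germ_stalkSpecializes hxV h)
  refine ⟨(X.presheaf.germ V x hxV).hom r, (X.presheaf.germ V x hxV).hom t, ?_, ?_⟩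
  · rw [e]
    exact IsLocalization.map_units (X.presheaf.stalk y) t
  · rw [e, e]
    exact hrt

/-- The generization map out of a domain stalk is injective. -/
theorem stalkSpecializes_injective {x y : X} (h : y ⤳ x) [IsDomain (X.presheaf.stalk x)] :
    Function.Injective (X.presheaf.stalkSpecializes h).hom := by
  obtain ⟨_, ⟨V, hV, rfl⟩, hxV, -⟩ := X.isBasis_affineOpens.exists_subset_of_mem_open
    (Set.mem_univ x) isOpen_univ
  have hyV : y ∈ V := h.mem_open V.isOpen hxV
  rw [injective_iff_map_eq_zero]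
  intro a ha
  have e : ∀ c : Γ(X, V), (X.presheaf.stalkSpecializes h).hom ((X.presheaf.germ V x hxV).hom c) =
      (X.presheaf.germ V y hyV).hom c := by
    intro c
    exact congrArg (fun φ => φ.hom c) (X.presheaf.germ_stalkSpecializes hxV h)
  -- write a = r / t at x
  obtain ⟨⟨r, t⟩, hrt⟩ : ∃ rt : Γ(X, V) × (hV.primeIdealOf ⟨x, hxV⟩).asIdeal.primeCompl,
      a * (X.presheaf.germ V x hxV).hom rt.2 = (X.presheaf.germ V x hxV).hom rt.1 := by
    letI : Algebra Γ(X, V) (X.presheaf.stalk x) := X.presheaf.algebra_section_stalk ⟨x, hxV⟩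
    haveI : IsLocalization.AtPrime (X.presheaf.stalk x) (hV.primeIdealOf ⟨x, hxV⟩).asIdeal :=
      hV.isLocalization_stalk ⟨x, hxV⟩
    exact IsLocalization.surj (hV.primeIdealOf ⟨x, hxV⟩).asIdeal.primeCompl a
  have htu : IsUnit ((X.presheaf.germ V x hxV).hom t) := by
    letI : Algebra Γ(X, V) (X.presheaf.stalk x) := X.presheaf.algebra_section_stalk ⟨x, hxV⟩
    haveI : IsLocalization.AtPrime (X.presheaf.stalk x) (hV.primeIdealOf ⟨x, hxV⟩).asIdeal :=
      hV.isLocalization_stalk ⟨x, hxV⟩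
    exact IsLocalization.map_units (X.presheaf.stalk x) t
  -- germ_y r = 0
  have hr0 : (X.presheaf.germ V y hyV).hom r = 0 := by
    rw [← e, ← hrt, map_mul, ha, zero_mul]
  -- so some t' ∉ 𝔭_y kills r
  obtain ⟨t', ht'⟩ : ∃ t' : (hV.primeIdealOf ⟨y, hyV⟩).asIdeal.primeCompl, (t' : Γ(X, V)) * r = 0 := by
    letI : Algebra Γ(X, V) (X.presheaf.stalk y) := X.presheaf.algebra_section_stalk ⟨y, hyV⟩
    haveI : IsLocalization.AtPrime (X.presheaf.stalk y) (hV.primeIdealOf ⟨y, hyV⟩).asIdeal :=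
      hV.isLocalization_stalk ⟨y, hyV⟩
    exact (IsLocalization.map_eq_zero_iff (hV.primeIdealOf ⟨y, hyV⟩).asIdeal.primeCompl
      (X.presheaf.stalk y) r).mp hr0
  have h1 : (X.presheaf.germ V x hxV).hom (t' : Γ(X, V)) * (X.presheaf.germ V x hxV).hom r = 0 := by
    rw [← map_mul, ht', map_zero]
  have ht'0 : (X.presheaf.germ V x hxV).hom (t' : Γ(X, V)) ≠ 0 := by
    intro h0
    have h2 : (X.presheaf.germ V y hyV).hom (t' : Γ(X, V)) = 0 := by rw [← e, h0, map_zero]
    have h3 : IsUnit ((X.presheaf.germ V y hyV).hom (t' : Γ(X, V))) := by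
      letI : Algebra Γ(X, V) (X.presheaf.stalk y) := X.presheaf.algebra_section_stalk ⟨y, hyV⟩
      haveI : IsLocalization.AtPrime (X.presheaf.stalk y) (hV.primeIdealOf ⟨y, hyV⟩).asIdeal :=
        hV.isLocalization_stalk ⟨y, hyV⟩
      exact IsLocalization.map_units (X.presheaf.stalk y) t'
    rw [h2] at h3
    exact not_isUnit_zero h3
  have hr1 : (X.presheaf.germ V x hxV).hom r = 0 := (mul_eq_zero.mp h1).resolve_left ht'0
  rw [hr1] at hrt
  exact (htu.mul_left_eq_zero).mp hrt

end Groth.Agent.Lib.H9CartExt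

namespace Groth.Agent.Lib.H9CartExt

open AlgebraicGeometry CategoryTheory CategoryTheory.Limits
open Groth.Agent.Lib.R2H1.CartierProd

variable {X : Scheme.{u}}

/-- the point of an affine open with a given prime. -/
theorem exists_point_of_prime {U : X.Opens} (hU : IsAffineOpen U) (x : X) (hxU : x ∈ U)
    (Q' : Ideal Γ(X, U)) [Q'.IsPrime] (hle : Q' ≤ (hU.primeIdealOf ⟨x, hxU⟩).asIdeal) :
    ∃ (x' : X) (hx'U : x' ∈ U), x' ⤳ x ∧ (hU.primeIdealOf ⟨x', hx'U⟩).asIdeal = Q' := by
  set q : PrimeSpectrum Γ(X, U) := ⟨Q', inferInstance⟩ with hq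
  have hmem : hU.fromSpec q ∈ U := by
    have := hU.range_fromSpec
    have h2 : hU.fromSpec q ∈ Set.range hU.fromSpec := ⟨q, rfl⟩
    rw [this] at h2
    exact h2
  refine ⟨hU.fromSpec q, hmem, ?_, ?_⟩
  · have hs : q ⤳ hU.primeIdealOf ⟨x, hxU⟩ := (PrimeSpectrum.le_iff_specializes _ _).mp hle
    have := hs.map hU.fromSpec.continuous
    rwa [hU.fromSpec_primeIdealOf ⟨x, hxU⟩] at this
  · have : hU.primeIdealOf ⟨hU.fromSpec q, hmem⟩ = q := by
      have hinj : Function.Injective hU.fromSpec :=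
        (Scheme.Hom.isOpenEmbedding hU.fromSpec).injective
      apply hinj
      exact hU.fromSpec_primeIdealOf ⟨hU.fromSpec q, hmem⟩
    rw [this]

theorem eq_of_primeIdealOf_eq {W : X.Opens} (hW : IsAffineOpen W) (x y : X) (hxW : x ∈ W)
    (hyW : y ∈ W) (h : (hW.primeIdealOf ⟨x, hxW⟩).asIdeal = (hW.primeIdealOf ⟨y, hyW⟩).asIdeal) :
    x = y := by
  have h1 := hW.fromSpec_primeIdealOf ⟨x, hxW⟩
  have h2 := hW.fromSpec_primeIdealOf ⟨y, hyW⟩
  rw [PrimeSpectrum.ext h] at h1
  exact h1.symm.trans h2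

/-- Saturation of the scheme-theoretic closure, for germs of sections over an affine open. -/
theorem saturation_section [IsLocallyNoetherian X] (U : X.Opens)
    (D : (U : Scheme.{u}).IdealSheafData)
    {V : X.Opens} (hV : IsAffineOpen V) (x : X) (hxV : x ∈ V) (s : Γ(X, V))
    (H : ∀ (y : X) (_ : y ∈ U) (_ : y ⤳ x) (hyV : y ∈ V),
      (X.presheaf.germ V y hyV).hom s ∈ IntMult.stalkIdeal (D.map U.ι) y) :
    (X.presheaf.germ V x hxV).hom s ∈ IntMult.stalkIdeal (D.map U.ι) x := by
  haveI : QuasiCompact U.ι := inferInstance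
  set 𝓔 := D.map U.ι with h𝓔
  haveI : IsNoetherianRing Γ(X, V) := IsLocallyNoetherian.component_noetherian ⟨V, hV⟩
  set I := 𝓔.ideal ⟨V, hV⟩ with hI
  by_contra hna
  rw [stalkIdeal_eq_map_germ 𝓔 ⟨V, hV⟩ x hxV] at hna
  have crit : ∀ (y : X) (hyV : y ∈ V),
      (X.presheaf.germ V y hyV).hom s ∈ I.map (X.presheaf.germ V y hyV).hom ↔
        ∃ t : Γ(X, V), t ∉ (hV.primeIdealOf ⟨y, hyV⟩).asIdeal ∧ t * s ∈ I := by
    intro y hyV
    letI : Algebra Γ(X, V) (X.presheaf.stalk y) := X.presheaf.algebra_section_stalk ⟨y, hyV⟩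
    haveI := hV.isLocalization_stalk ⟨y, hyV⟩
    have key := IsLocalization.algebraMap_mem_map_algebraMap_iff
      (hV.primeIdealOf ⟨y, hyV⟩).asIdeal.primeCompl (X.presheaf.stalk y) I s
    constructor
    · intro h
      obtain ⟨m, hm, hms⟩ := key.mp h
      exact ⟨m, hm, hms⟩
    · rintro ⟨t, ht, hts⟩
      exact key.mpr ⟨t, ht, hts⟩
  set 𝔠 : Ideal Γ(X, V) := (I : Submodule Γ(X, V) Γ(X, V)).colon {s} with h𝔠def
  have h𝔠 : 𝔠 ≤ (hV.primeIdealOf ⟨x, hxV⟩).asIdeal := by
    intro t ht
    by_contra htn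
    refine hna ((crit x hxV).mpr ⟨t, htn, ?_⟩)
    have := Submodule.mem_colon_singleton.mp ht
    simpa using this
  obtain ⟨𝔮, h𝔮min, h𝔮le⟩ := Ideal.exists_minimalPrimes_le h𝔠
  haveI : 𝔮.IsPrime := h𝔮min.1.1
  obtain ⟨t₀, h𝔮⟩ := Submodule.exists_eq_colon_of_mem_minimalPrimes h𝔮min
  obtain ⟨y, hyV, hyx, hy𝔮⟩ := exists_point_of_prime hV x hxV 𝔮 h𝔮le
  have hyU : y ∈ U := by
    have ht₀ : t₀ ∉ I := by
      intro h
      have h1 : (1 : Γ(X, V)) ∈ 𝔮 := by
        rw [h𝔮, Submodule.mem_colon_singleton]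
        simpa using h
      exact ‹𝔮.IsPrime›.ne_top ((Ideal.eq_top_iff_one _).mpr h1)
    let g := D.subschemeι ≫ U.ι
    haveI : QuasiCompact g := inferInstance
    have hIker : I = RingHom.ker (g.app V).hom := Scheme.Hom.ker_apply g ⟨V, hV⟩
    have hne : (g.app V).hom t₀ ≠ 0 := by rwa [hIker, RingHom.mem_ker] at ht₀
    obtain ⟨z, hz, hgerm⟩ : ∃ (z : D.subscheme) (hz : z ∈ g ⁻¹ᵁ V),
        (D.subscheme.presheaf.germ (g ⁻¹ᵁ V) z hz).hom ((g.app V).hom t₀) ≠ 0 := by
      by_contra hcon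
      push Not at hcon
      apply hne
      refine TopCat.Presheaf.section_ext D.subscheme.sheaf (g ⁻¹ᵁ V) _ 0 ?_
      intro z hz
      exact (hcon z hz).trans (map_zero _).symm
    have hq : 𝔮 ≤ (hV.primeIdealOf ⟨g z, hz⟩).asIdeal := by
      intro q hq
      rw [Groth.Agent.Lib.Helper20.OnePt.mem_primeIdealOf_iff]
      intro hmem
      have hz' : z ∈ D.subscheme.basicOpen ((g.app V).hom q) := by
        rw [← Scheme.preimage_basicOpen]; exact hmem
      have hu : IsUnit ((D.subscheme.presheaf.germ (g ⁻¹ᵁ V) z hz).hom ((g.app V).hom q)) :=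
        (Scheme.mem_basicOpen _ _ z hz).mp hz'
      have hqt : q * t₀ ∈ I := by
        rw [h𝔮, Submodule.mem_colon_singleton] at hq
        simpa using hq
      rw [hIker, RingHom.mem_ker, map_mul] at hqt
      have h2 : (D.subscheme.presheaf.germ (g ⁻¹ᵁ V) z hz).hom ((g.app V).hom q) *
          (D.subscheme.presheaf.germ (g ⁻¹ᵁ V) z hz).hom ((g.app V).hom t₀) = 0 := by
        rw [← map_mul, hqt, map_zero]
      exact hgerm ((hu.mul_right_eq_zero).mp h2)
    have hspec : y ⤳ g z := by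
      obtain ⟨y', hy'V, hy'spec, hy'𝔮⟩ := exists_point_of_prime hV (g z) hz 𝔮 hq
      have : y' = y := eq_of_primeIdealOf_eq hV y' y hy'V hyV (hy'𝔮.trans hy𝔮.symm)
      exact this ▸ hy'spec
    have hgzU : g z ∈ U := by
      show (D.subschemeι ≫ U.ι) z ∈ U
      rw [Scheme.Hom.comp_apply]
      exact (D.subschemeι z).2
    exact hspec.mem_open U.isOpen hgzU
  have h1 := H y hyU hyx hyV
  rw [stalkIdeal_eq_map_germ 𝓔 ⟨V, hV⟩ y hyV] at h1
  obtain ⟨t, ht, hts⟩ := (crit y hyV).mp h1
  apply ht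
  rw [hy𝔮]
  refine h𝔮min.1.2 ?_
  rw [h𝔠def, Submodule.mem_colon_singleton]
  simpa using hts

/-- Saturation of the scheme-theoretic closure at the level of stalks. -/
theorem saturation [IsLocallyNoetherian X] (U : X.Opens) (D : (U : Scheme.{u}).IdealSheafData)
    (x : X) (a : X.presheaf.stalk x)
    (H : ∀ (y : X) (_ : y ∈ U) (h : y ⤳ x),
      (X.presheaf.stalkSpecializes h).hom a ∈ IntMult.stalkIdeal (D.map U.ι) y) :
    a ∈ IntMult.stalkIdeal (D.map U.ι) x := by
  obtain ⟨_, ⟨V, hV, rfl⟩, hxV, -⟩ := X.isBasis_affineOpens.exists_subset_of_mem_open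
    (Set.mem_univ x) isOpen_univ
  obtain ⟨⟨r, t⟩, hrt⟩ : ∃ rt : Γ(X, V) × (hV.primeIdealOf ⟨x, hxV⟩).asIdeal.primeCompl,
      a * (X.presheaf.germ V x hxV).hom rt.2 = (X.presheaf.germ V x hxV).hom rt.1 := by
    letI : Algebra Γ(X, V) (X.presheaf.stalk x) := X.presheaf.algebra_section_stalk ⟨x, hxV⟩
    haveI : IsLocalization.AtPrime (X.presheaf.stalk x) (hV.primeIdealOf ⟨x, hxV⟩).asIdeal :=
      hV.isLocalization_stalk ⟨x, hxV⟩
    exact IsLocalization.surj (hV.primeIdealOf ⟨x, hxV⟩).asIdeal.primeCompl a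
  have htu : IsUnit ((X.presheaf.germ V x hxV).hom t) := by
    letI : Algebra Γ(X, V) (X.presheaf.stalk x) := X.presheaf.algebra_section_stalk ⟨x, hxV⟩
    haveI : IsLocalization.AtPrime (X.presheaf.stalk x) (hV.primeIdealOf ⟨x, hxV⟩).asIdeal :=
      hV.isLocalization_stalk ⟨x, hxV⟩
    exact IsLocalization.map_units (X.presheaf.stalk x) t
  have hr : (X.presheaf.germ V x hxV).hom r ∈ IntMult.stalkIdeal (D.map U.ι) x := by
    apply saturation_section U D hV x hxV r
    intro y hyU hyx hyV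
    have e : ∀ c : Γ(X, V), (X.presheaf.stalkSpecializes hyx).hom
        ((X.presheaf.germ V x hxV).hom c) = (X.presheaf.germ V y hyV).hom c := by
      intro c
      exact congrArg (fun φ => φ.hom c) (X.presheaf.germ_stalkSpecializes hxV hyx)
    rw [← e, ← hrt, map_mul]
    exact Ideal.mul_mem_right _ _ (H y hyU hyx)
  obtain ⟨w, hw⟩ := htu
  have : a = (X.presheaf.germ V x hxV).hom r * (↑w⁻¹ : X.presheaf.stalk x) := by
    rw [← hrt, ← hw, mul_assoc, Units.mul_inv, mul_one]
  rw [this]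
  exact Ideal.mul_mem_right _ _ hr

end Groth.Agent.Lib.H9CartExt

namespace Groth.Agent.Lib.H9CartExt

open AlgebraicGeometry CategoryTheory CategoryTheory.Limits
open Groth.Agent.Lib.R2H1.CartierProd

variable {X : Scheme.{u}}

/-- At points of `U`, the stalk of the closure ideal is generated by a nonzerodivisor. -/
theorem stalkIdeal_map_principal_of_mem [IsLocallyNoetherian X] (U : X.Opens)
    (D : (U : Scheme.{u}).IdealSheafData) (hD : BlowUp.IsEffCartierIdeal D) (y : X) (hy : y ∈ U) :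
    ∃ d ∈ nonZeroDivisors (X.presheaf.stalk y),
      IntMult.stalkIdeal (D.map U.ι) y = Ideal.span {d} := by
  haveI : QuasiCompact U.ι := inferInstance
  obtain ⟨y', rfl⟩ : ∃ y' : (U : Scheme.{u}), U.ι y' = y := ⟨⟨y, hy⟩, rfl⟩
  obtain ⟨b, hb, hb'⟩ := stalkIdeal_principal hD y'
  have hb'' : IntMult.stalkIdeal ((D.map U.ι).comap U.ι) y' = Ideal.span {b} := by
    rw [Groth.Agent.Lib.H9BlowExt.comap_map_ι U D]; exact hb'
  rw [Groth.Agent.Lib.H9EffCartDesc.stalkIdeal_comap] at hb''
  exact Groth.Agent.Lib.H9EffCartDesc.principal_of_flat_local (U.ι.stalkMap y').hom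
    (Flat.stalkMap U.ι y') _ (IsNoetherian.noetherian _) b hb hb''

theorem main1660 (X : Scheme.{u}) [IsLocallyNoetherian X] (U : X.Opens)
    (D : (U : Scheme.{u}).IdealSheafData) (hD : BlowUp.IsEffCartierIdeal D)
    (hufd : ∀ x : X, x ∉ U →
      IsDomain (X.presheaf.stalk x) ∧ UniqueFactorizationMonoid (X.presheaf.stalk x)) :
    ∃ D' : X.IdealSheafData, BlowUp.IsEffCartierIdeal D' ∧ D'.comap U.ι = D := by
  haveI : QuasiCompact U.ι := inferInstance
  refine ⟨D.map U.ι, ?_, Groth.Agent.Lib.H9BlowExt.comap_map_ι U D⟩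
  intro x
  obtain ⟨_, ⟨V, hV, rfl⟩, hxV, -⟩ := X.isBasis_affineOpens.exists_subset_of_mem_open
    (Set.mem_univ x) isOpen_univ
  suffices h : ∃ d ∈ nonZeroDivisors (X.presheaf.stalk x),
      IntMult.stalkIdeal (D.map U.ι) x = Ideal.span {d} by
    obtain ⟨d, hd, hdI⟩ := h
    exact Groth.Agent.Lib.Helper8.EffCart.exists_of_stalk_principal (D.map U.ι) x hV hxV d hd
      (by rw [← stalkIdeal_eq_map_germ _ ⟨V, hV⟩ x hxV]; exact hdI)
  by_cases hxU : x ∈ U
  · exact stalkIdeal_map_principal_of_mem U D hD x hxU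
  · obtain ⟨hdom, hU⟩ := hufd x hxU
    haveI := hdom
    haveI := hU
    have hJ0 : IntMult.stalkIdeal (D.map U.ι) x ≠ ⊥ := by
      by_cases hne : ∃ y : X, y ∈ U ∧ y ⤳ x
      · obtain ⟨y, hyU, hyx⟩ := hne
        obtain ⟨d, hd, hdI⟩ := stalkIdeal_map_principal_of_mem U D hD y hyU
        intro h0
        have h1 := stalkIdeal_specializes (D.map U.ι) hyx
        rw [h0, Ideal.map_bot, hdI] at h1
        have hd0 : d = 0 := by
          have h2 : d ∈ (⊥ : Ideal (X.presheaf.stalk y)) := h1 ▸ Ideal.mem_span_singleton_self d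
          simpa using h2
        exact (nonZeroDivisors.ne_zero hd) hd0
      · intro h0
        have h1 : (1 : X.presheaf.stalk x) ∈ IntMult.stalkIdeal (D.map U.ι) x :=
          saturation U D x 1 (fun y hyU hyx => (hne ⟨y, hyU, hyx⟩).elim)
        rw [h0] at h1
        exact one_ne_zero ((Ideal.mem_bot).mp h1)
    obtain ⟨g, hg0, hgJ⟩ := principal_of_ufd_saturated (IntMult.stalkIdeal (D.map U.ι) x)
      (IsNoetherian.noetherian _) hJ0
      (fun i : {y : X // y ∈ U ∧ y ⤳ x} => X.presheaf.stalk i.1)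
      (fun i => (X.presheaf.stalkSpecializes i.2.2).hom)
      (fun i => stalkSpecializes_injective i.2.2) (fun i b => stalkSpecializes_loc i.2.2 b)
      (fun i => by
        obtain ⟨d, hd, hdI⟩ := stalkIdeal_map_principal_of_mem U D hD i.1 i.2.1
        exact ⟨d, by rw [stalkIdeal_specializes]; exact hdI⟩)
      (fun a ha => saturation U D x a (fun y hyU hyx => by
        have := ha ⟨y, hyU, hyx⟩
        rwa [stalkIdeal_specializes] at this))
    exact ⟨g, mem_nonZeroDivisors_of_ne_zero hg0, hgJ⟩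

end Groth.Agent.Lib.H9CartExt
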