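import Mathlib
import Groth.Prelude

set_option autoImplicit false
set_option linter.style.haveILetI false
universe u

namespace Groth.Agent.Lib.H9Div21Alg

open TensorProduct
open scoped Pointwise

/-- exchange lemma: `b₁, b₂` a (weakly) regular pair, `t` a nonzerodivisor, then an element killed
into `(t)` by both `b₁` and `b₂` lies in `(t)`. -/
theorem exchange {A : Type*} [CommRing A] (t b₁ b₂ a : A) (ht : t ∈ nonZeroDivisors A)
    (hb₁ : b₁ ∈ nonZeroDivisors A)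
    (hb₂ : ∀ c : A, b₂ * c ∈ Ideal.span {b₁} → c ∈ Ideal.span {b₁})
    (h₁ : b₁ * a ∈ Ideal.span {t}) (h₂ : b₂ * a ∈ Ideal.span {t}) : a ∈ Ideal.span {t} := by
  obtain ⟨c₁, hc₁⟩ := Ideal.mem_span_singleton'.mp h₁
  obtain ⟨c₂, hc₂⟩ := Ideal.mem_span_singleton'.mp h₂
  have h3 : b₂ * c₁ = b₁ * c₂ := by
    have h : (b₂ * c₁ - b₁ * c₂) * t = 0 := by
      calc (b₂ * c₁ - b₁ * c₂) * t = b₂ * (c₁ * t) - b₁ * (c₂ * t) := by ring
        _ = b₂ * (b₁ * a) - b₁ * (b₂ * a) := by rw [hc₁, hc₂]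
        _ = 0 := by ring
    exact sub_eq_zero.mp ((mul_right_mem_nonZeroDivisors_eq_zero_iff ht).mp h)
  have h4 : c₁ ∈ Ideal.span {b₁} := by
    apply hb₂ c₁
    rw [h3]
    exact Ideal.mul_mem_right _ _ (Ideal.mem_span_singleton_self b₁)
  obtain ⟨d, hd⟩ := Ideal.mem_span_singleton'.mp h4
  have h5 : (a - d * t) * b₁ = 0 := by
    calc (a - d * t) * b₁ = b₁ * a - (d * b₁) * t := by ring
      _ = b₁ * a - c₁ * t := by rw [hd]
      _ = 0 := by rw [hc₁]; ring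
  have h6 := (mul_right_mem_nonZeroDivisors_eq_zero_iff hb₁).mp h5
  rw [Ideal.mem_span_singleton']
  exact ⟨d, (sub_eq_zero.mp h6).symm⟩

/-- unpacking a weakly regular pair. -/
theorem pair_of_weaklyRegular {A : Type*} [CommRing A] (b₁ b₂ : A)
    (h : RingTheory.Sequence.IsWeaklyRegular A [b₁, b₂]) :
    b₁ ∈ nonZeroDivisors A ∧ ∀ c : A, b₂ * c ∈ Ideal.span {b₁} → c ∈ Ideal.span {b₁} := by
  obtain ⟨h1, h2⟩ := (RingTheory.Sequence.isWeaklyRegular_cons_iff A b₁ [b₂]).mp h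
  obtain ⟨h3, -⟩ := (RingTheory.Sequence.isWeaklyRegular_cons_iff _ b₂ []).mp h2
  refine ⟨?_, ?_⟩
  · rw [mem_nonZeroDivisors_iff_right]
    intro x hx
    apply h1
    show b₁ • x = b₁ • 0
    rw [smul_zero, smul_eq_mul, mul_comm]; exact hx
  · intro c hc
    have h4 := (isSMulRegular_quotient_iff_mem_of_smul_mem
      (b₁ • (⊤ : Submodule A A)) b₂).mp h3 c
    have e : ∀ z : A, z ∈ b₁ • (⊤ : Submodule A A) ↔ z ∈ Ideal.span {b₁} := by
      intro z
      rw [Submodule.mem_smul_pointwise_iff_exists, Ideal.mem_span_singleton']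
      constructor
      · rintro ⟨w, -, hw⟩; exact ⟨w, by rw [← hw, smul_eq_mul, mul_comm]⟩
      · rintro ⟨w, hw⟩; exact ⟨w, trivial, by rw [← hw, smul_eq_mul, mul_comm]⟩
    rw [e, e, smul_eq_mul] at h4
    exact h4 hc

/-- depth at least two gives a weakly regular pair in the maximal ideal. -/
theorem exists_pair_of_depth (R : Type u) [CommRing R] [IsLocalRing R]
    (hdepth : ¬ LocCoh.depth R R ≤ 1) :
    ∃ b₁ b₂ : R, b₁ ∈ IsLocalRing.maximalIdeal R ∧ b₂ ∈ IsLocalRing.maximalIdeal R ∧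
      RingTheory.Sequence.IsWeaklyRegular R [b₁, b₂] := by
  classical
  by_contra hcon
  push Not at hcon
  apply hdepth
  have hne : IsLocalRing.maximalIdeal R • (⊤ : Submodule R R) ≠ ⊤ := by
    rw [smul_eq_mul, Ideal.mul_top]
    exact Ideal.IsMaximal.ne_top inferInstance
  unfold LocCoh.depth LocCoh.idealDepth
  rw [if_neg hne]
  refine iSup_le fun rs => iSup_le fun hrs => ?_
  match rs, hrs with
  | [], _ => simp
  | [r], _ => simp
  | r₁ :: r₂ :: rs', hrs =>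
    exfalso
    refine hcon r₁ r₂ (hrs.2 r₁ (by simp)) (hrs.2 r₂ (by simp)) ?_
    obtain ⟨h1, h2⟩ := (RingTheory.Sequence.isWeaklyRegular_cons_iff R r₁ (r₂ :: rs')).mp hrs.1
    obtain ⟨h3, -⟩ := (RingTheory.Sequence.isWeaklyRegular_cons_iff _ r₂ rs').mp h2
    refine (RingTheory.Sequence.isWeaklyRegular_cons_iff R r₁ [r₂]).mpr ⟨h1, ?_⟩
    exact (RingTheory.Sequence.isWeaklyRegular_cons_iff _ r₂ []).mpr
      ⟨h3, RingTheory.Sequence.IsWeaklyRegular.nil _ _⟩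

/-- flat base change of "no element of `B/I` is killed by both `b₁` and `b₂`". -/
theorem flat_transfer {B A : Type u} [CommRing B] [CommRing A] [Algebra B A] [Module.Flat B A]
    (I : Ideal B) (b₁ b₂ : B) (h : ∀ b : B, b₁ * b ∈ I → b₂ * b ∈ I → b ∈ I) (a : A)
    (h₁ : algebraMap B A b₁ * a ∈ I.map (algebraMap B A))
    (h₂ : algebraMap B A b₂ * a ∈ I.map (algebraMap B A)) : a ∈ I.map (algebraMap B A) := by
  let μ : (B ⧸ I) →ₗ[B] (B ⧸ I) × (B ⧸ I) :=
    (LinearMap.lsmul B (B ⧸ I) b₁).prod (LinearMap.lsmul B (B ⧸ I) b₂)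
  have hμ : Function.Injective μ := by
    rw [injective_iff_map_eq_zero]
    intro q hq
    obtain ⟨b, rfl⟩ := Ideal.Quotient.mk_surjective q
    have hq1 : b₁ • (Ideal.Quotient.mk I b) = 0 := congrArg Prod.fst hq
    have hq2 : b₂ • (Ideal.Quotient.mk I b) = 0 := congrArg Prod.snd hq
    rw [Ideal.Quotient.eq_zero_iff_mem]
    apply h b
    · rw [← Ideal.Quotient.eq_zero_iff_mem, map_mul]; exact hq1
    · rw [← Ideal.Quotient.eq_zero_iff_mem, map_mul]; exact hq2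
  have hinj := Module.Flat.rTensor_preserves_injective_linearMap (M := A) μ hμ
  -- elements of `I • ⊤` kill everything
  have hkill : ∀ m ∈ (I • (⊤ : Submodule B A)), ∀ v : (B ⧸ I) × (B ⧸ I), v ⊗ₜ[B] m = 0 := by
    intro m hm v
    refine Submodule.smul_induction_on hm ?_ ?_
    · intro i hi a' _
      rw [← TensorProduct.smul_tmul]
      have : i • v = 0 := by
        obtain ⟨q₁, q₂⟩ := v
        obtain ⟨x₁, rfl⟩ := Ideal.Quotient.mk_surjective q₁
        obtain ⟨x₂, rfl⟩ := Ideal.Quotient.mk_surjective q₂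
        ext
        · show i • (Ideal.Quotient.mk I x₁) = 0
          rw [← Ideal.Quotient.mk_eq_mk, ← Submodule.Quotient.mk_smul,
            Submodule.Quotient.mk_eq_zero]
          exact Ideal.mul_mem_right _ _ hi
        · show i • (Ideal.Quotient.mk I x₂) = 0
          rw [← Ideal.Quotient.mk_eq_mk, ← Submodule.Quotient.mk_smul,
            Submodule.Quotient.mk_eq_zero]
          exact Ideal.mul_mem_right _ _ hi
      rw [this, TensorProduct.zero_tmul]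
    · intro x y hx hy
      rw [TensorProduct.tmul_add, hx, hy, add_zero]
  have hmem : ∀ z : A, z ∈ I.map (algebraMap B A) ↔ z ∈ (I • (⊤ : Submodule B A)) := by
    intro z
    rw [Ideal.smul_top_eq_map]
    rfl
  have hzero : (μ.rTensor A) ((1 : B ⧸ I) ⊗ₜ[B] a) = 0 := by
    rw [LinearMap.rTensor_tmul]
    have hμ1 : μ 1 = b₁ • ((1 : B ⧸ I), (0 : B ⧸ I)) + b₂ • ((0 : B ⧸ I), (1 : B ⧸ I)) := by
      ext <;> simp [μ]
    rw [hμ1, TensorProduct.add_tmul, TensorProduct.smul_tmul, TensorProduct.smul_tmul]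
    rw [hkill (b₁ • a) ((hmem _).mp (by rw [Algebra.smul_def]; exact h₁)),
      hkill (b₂ • a) ((hmem _).mp (by rw [Algebra.smul_def]; exact h₂)), add_zero]
  have h0 : (1 : B ⧸ I) ⊗ₜ[B] a = 0 := hinj (hzero.trans (map_zero _).symm)
  have h1 := congrArg (TensorProduct.quotTensorEquivQuotSMul A I) h0
  rw [TensorProduct.quotTensorEquivQuotSMul_mk_one_tmul, map_zero,
    Submodule.Quotient.mk_eq_zero] at h1
  exact (hmem a).mpr h1

/-- the Noetherian colon step. -/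
theorem colon_step {A : Type u} [CommRing A] [IsNoetherianRing A] (K : Ideal A) (t β₁ β₂ : A)
    (h : ∀ a : A, β₁ * a ∈ K → β₂ * a ∈ K → a ∈ K)
    (hq : ∀ 𝔮 : Ideal A, 𝔮.IsPrime → ¬ (β₁ ∈ 𝔮 ∧ β₂ ∈ 𝔮) → ∃ c : A, c ∉ 𝔮 ∧ c * t ∈ K) :
    t ∈ K := by
  by_contra ht
  set 𝔠 : Ideal A := (K : Submodule A A).colon {t} with h𝔠
  have h𝔠ne : 𝔠 ≠ ⊤ := by
    intro htop
    have h1 : (1 : A) ∈ 𝔠 := by rw [htop]; trivial
    rw [h𝔠, Submodule.mem_colon_singleton] at h1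
    exact ht (by simpa using h1)
  obtain ⟨𝔪, h𝔪max, h𝔪le⟩ := Ideal.exists_le_maximal 𝔠 h𝔠ne
  haveI : 𝔪.IsPrime := h𝔪max.isPrime
  obtain ⟨𝔮, h𝔮min, -⟩ := Ideal.exists_minimalPrimes_le h𝔪le
  haveI : 𝔮.IsPrime := h𝔮min.1.1
  obtain ⟨t₀, h𝔮⟩ := Submodule.exists_eq_colon_of_mem_minimalPrimes h𝔮min
  by_cases hβ : β₁ ∈ 𝔮 ∧ β₂ ∈ 𝔮
  · have h1 : β₁ * t₀ ∈ K := by
      have := hβ.1
      rw [h𝔮, Submodule.mem_colon_singleton] at this
      simpa using this
    have h2 : β₂ * t₀ ∈ K := by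
      have := hβ.2
      rw [h𝔮, Submodule.mem_colon_singleton] at this
      simpa using this
    have h3 := h t₀ h1 h2
    have h4 : (1 : A) ∈ 𝔮 := by
      rw [h𝔮, Submodule.mem_colon_singleton]
      simpa using h3
    exact ‹𝔮.IsPrime›.ne_top ((Ideal.eq_top_iff_one _).mpr h4)
  · obtain ⟨c, hc, hct⟩ := hq 𝔮 inferInstance hβ
    apply hc
    apply h𝔮min.1.2
    rw [h𝔠, Submodule.mem_colon_singleton]
    simpa using hct

/-- exchange after a flat base change. -/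
theorem exchange_flat {B A : Type u} [CommRing B] [CommRing A] (ψ : B →+* A) (hψ : ψ.Flat)
    (b₁ b₂ : B) (hreg : RingTheory.Sequence.IsWeaklyRegular B [b₁, b₂]) (t a : A)
    (ht : t ∈ nonZeroDivisors A) (h₁ : ψ b₁ * a ∈ Ideal.span {t})
    (h₂ : ψ b₂ * a ∈ Ideal.span {t}) : a ∈ Ideal.span {t} := by
  algebraize [ψ]
  have h := RingTheory.Sequence.IsWeaklyRegular.of_flat (S := A) hreg
  obtain ⟨h3, h4⟩ := pair_of_weaklyRegular (ψ b₁) (ψ b₂) h
  exact exchange t (ψ b₁) (ψ b₂) a ht h3 h4 h₁ h₂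

/-- membership in an ideal can be checked at all primes. -/
theorem mem_of_forall_prime {B : Type u} [CommRing B] (K : Ideal B) (a : B)
    (h : ∀ 𝔭 : Ideal B, 𝔭.IsPrime → ∃ u : B, u ∉ 𝔭 ∧ u * a ∈ K) : a ∈ K := by
  by_contra ha
  set 𝔠 : Ideal B := (K : Submodule B B).colon {a} with h𝔠
  have h𝔠ne : 𝔠 ≠ ⊤ := by
    intro htop
    have h1 : (1 : B) ∈ 𝔠 := by rw [htop]; trivial
    rw [h𝔠, Submodule.mem_colon_singleton] at h1
    exact ha (by simpa using h1)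
  obtain ⟨𝔪, h𝔪max, h𝔪le⟩ := Ideal.exists_le_maximal 𝔠 h𝔠ne
  obtain ⟨u, hu, hua⟩ := h 𝔪 h𝔪max.isPrime
  apply hu
  apply h𝔪le
  rw [h𝔠, Submodule.mem_colon_singleton]
  simpa using hua


/-- `flat_transfer` for a flat ring homomorphism. -/
theorem flat_transfer' {B A : Type u} [CommRing B] [CommRing A] (φ : B →+* A) (hφ : φ.Flat)
    (I : Ideal B) (b₁ b₂ : B) (h : ∀ b : B, b₁ * b ∈ I → b₂ * b ∈ I → b ∈ I) (a : A)
    (h₁ : φ b₁ * a ∈ I.map φ) (h₂ : φ b₂ * a ∈ I.map φ) : a ∈ I.map φ := by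
  algebraize [φ]
  exact flat_transfer I b₁ b₂ h a h₁ h₂

/-- extensions of ideals along a flat local homomorphism reflect inclusions. -/
theorem le_of_map_le_of_flat_local {R S : Type u} [CommRing R] [CommRing S] [IsLocalRing R]
    [IsLocalRing S] (φ : R →+* S) [IsLocalHom φ] (hφ : φ.Flat) (I₁ I₂ : Ideal R)
    (h : I₁.map φ ≤ I₂.map φ) : I₁ ≤ I₂ := by
  algebraize [φ]
  haveI : IsLocalHom (algebraMap R S) := ‹IsLocalHom φ›
  haveI : Module.FaithfullyFlat R S := Module.FaithfullyFlat.of_flat_of_isLocalHom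
  have h1 : (I₁.map (algebraMap R S)).comap (algebraMap R S) ≤
      (I₂.map (algebraMap R S)).comap (algebraMap R S) := Ideal.comap_mono h
  rwa [Ideal.comap_map_eq_self_of_faithfullyFlat, Ideal.comap_map_eq_self_of_faithfullyFlat] at h1

end Groth.Agent.Lib.H9Div21Alg
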