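import Mathlib
import Groth.Prelude
import Groth.Agent.Lib.R2H1CartierProd
import Groth.Agent.Lib.H9EffCartDesc
import Groth.Agent.Lib.H9CartExt
import Groth.Agent.Lib.R2H1LocQuot
import Groth.Agent.Lib.Helper4VarDim2
import Groth.Agent.Lib.Helper20OnePt
import Groth.Agent.Lib.H9Div21Alg

set_option autoImplicit false
set_option linter.style.haveILetI false
universe u

namespace Groth.Agent.Lib.H9Div21Geo

open AlgebraicGeometry CategoryTheory CategoryTheory.Limits TopologicalSpace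
open Groth.Agent.Lib.R2H1.CartierProd

variable {X Y : Scheme.{u}} (f : X ⟶ Y) (𝓙 : X.IdealSheafData)

/-- the ideal of sections over `U` whose pullbacks lie in `𝓙` at all points of `S`. -/
def K (U : Y.Opens) (S : Set X) : Ideal Γ(Y, U) where
  carrier := {b | ∀ x ∈ S, ∀ hx : f x ∈ U,
    (f.stalkMap x).hom ((Y.presheaf.germ U (f x) hx).hom b) ∈ IntMult.stalkIdeal 𝓙 x}
  add_mem' := by
    intro a b ha hb x hxS hx
    rw [map_add, map_add]
    exact Ideal.add_mem _ (ha x hxS hx) (hb x hxS hx)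
  zero_mem' := by
    intro x hxS hx
    rw [map_zero, map_zero]
    exact Ideal.zero_mem _
  smul_mem' := by
    intro c b hb x hxS hx
    rw [smul_eq_mul, map_mul, map_mul]
    exact Ideal.mul_mem_left _ _ (hb x hxS hx)

theorem mem_K {U : Y.Opens} {S : Set X} {b : Γ(Y, U)} :
    b ∈ K f 𝓙 U S ↔ ∀ x ∈ S, ∀ hx : f x ∈ U,
      (f.stalkMap x).hom ((Y.presheaf.germ U (f x) hx).hom b) ∈ IntMult.stalkIdeal 𝓙 x :=
  Iff.rfl

theorem K_anti {U : Y.Opens} {S S' : Set X} (h : S ⊆ S') : K f 𝓙 U S' ≤ K f 𝓙 U S :=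
  fun _ hb x hxS hx => hb x (h hxS) hx

/-- pullback of germs in terms of sections over an affine open `W ≤ f⁻¹U`. -/
theorem stalkMap_germ_eq {U : Y.Opens} {W : X.Opens} (hWU : W ≤ f ⁻¹ᵁ U) (x : X) (hxW : x ∈ W)
    (b : Γ(Y, U)) :
    (f.stalkMap x).hom ((Y.presheaf.germ U (f x) (hWU hxW)).hom b) =
      (X.presheaf.germ W x hxW).hom ((f.appLE U W hWU).hom b) := by
  have h1 := Scheme.Hom.germ_stalkMap_apply f U x (hWU hxW) b
  have h2 : (X.presheaf.germ W x hxW).hom ((f.appLE U W hWU).hom b) =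
      (X.presheaf.germ (f ⁻¹ᵁ U) x (hWU hxW)).hom ((f.app U).hom b) := by
    rw [Scheme.Hom.appLE, CommRingCat.hom_comp, RingHom.comp_apply]
    exact congrArg (fun φ => φ.hom ((f.app U).hom b))
      (X.presheaf.germ_res (homOfLE hWU) x hxW)
  exact h1.trans h2.symm

/-- the prime of the image point. -/
theorem primeIdealOf_image {U : Y.Opens} (hU : IsAffineOpen U) {W : X.Opens} (hW : IsAffineOpen W)
    (hWU : W ≤ f ⁻¹ᵁ U) (x : X) (hxW : x ∈ W) :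
    (hU.primeIdealOf ⟨f x, hWU hxW⟩).asIdeal =
      (hW.primeIdealOf ⟨x, hxW⟩).asIdeal.comap (f.appLE U W hWU).hom := by
  ext a
  rw [Ideal.mem_comap, Groth.Agent.Lib.Helper20.OnePt.mem_primeIdealOf_iff,
    Groth.Agent.Lib.Helper20.OnePt.mem_primeIdealOf_iff]
  have h1 : x ∈ X.basicOpen ((f.appLE U W hWU).hom a) ↔ f x ∈ Y.basicOpen a := by
    rw [Scheme.mem_basicOpen _ _ x hxW, Scheme.mem_basicOpen _ _ (f x) (hWU hxW),
      ← stalkMap_germ_eq f hWU x hxW a]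
    constructor
    · intro h
      exact (isUnit_map_iff (f.stalkMap x).hom _).mp h
    · intro h
      exact h.map _
  exact not_congr h1.symm


/-- membership of a germ in the extension of an ideal of sections over an affine open. -/
theorem germ_mem_map_iff {Z : Scheme.{u}} {V : Z.Opens} (hV : IsAffineOpen V) (I : Ideal Γ(Z, V))
    (s : Γ(Z, V)) (y : Z) (hyV : y ∈ V) :
    (Z.presheaf.germ V y hyV).hom s ∈ I.map (Z.presheaf.germ V y hyV).hom ↔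
      ∃ t : Γ(Z, V), t ∉ (hV.primeIdealOf ⟨y, hyV⟩).asIdeal ∧ t * s ∈ I := by
  letI : Algebra Γ(Z, V) (Z.presheaf.stalk y) := Z.presheaf.algebra_section_stalk ⟨y, hyV⟩
  haveI := hV.isLocalization_stalk ⟨y, hyV⟩
  have key := IsLocalization.algebraMap_mem_map_algebraMap_iff
    (hV.primeIdealOf ⟨y, hyV⟩).asIdeal.primeCompl (Z.presheaf.stalk y) I s
  constructor
  · intro h
    obtain ⟨m, hm, hms⟩ := key.mp h
    exact ⟨m, hm, hms⟩
  · rintro ⟨t, ht, hts⟩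
    exact key.mpr ⟨t, ht, hts⟩

/-- local step of the spreading lemma. -/
theorem spread_local {U : Y.Opens} (hU : IsAffineOpen U) (S : Set X) (hS : IsOpen S)
    (hSU : S ⊆ f ⁻¹' U) (y : Y) (hy : y ∈ U) (r : Γ(Y, U))
    (H : ∀ x ∈ S, ∀ hx : f x ∈ U, f x ⤳ y →
      (f.stalkMap x).hom ((Y.presheaf.germ U (f x) hx).hom r) ∈ IntMult.stalkIdeal 𝓙 x)
    (x : X) (hxS : x ∈ S) :
    ∃ W : X.Opens, x ∈ W ∧ (W : Set X) ⊆ S ∧ ∃ u : Γ(Y, U),
      u ∉ (hU.primeIdealOf ⟨y, hy⟩).asIdeal ∧ ∀ x' ∈ W, ∀ hx' : f x' ∈ U,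
        (f.stalkMap x').hom ((Y.presheaf.germ U (f x') hx').hom (u * r)) ∈
          IntMult.stalkIdeal 𝓙 x' := by
  obtain ⟨_, ⟨W, hW, rfl⟩, hxW, hWS⟩ := X.isBasis_affineOpens.exists_subset_of_mem_open hxS hS
  have hWU : W ≤ f ⁻¹ᵁ U := fun z hz => hSU (hWS hz)
  set φ := (f.appLE U W hWU).hom with hφ
  set JW := 𝓙.ideal ⟨W, hW⟩ with hJW
  set 𝔞 : Ideal Γ(X, W) := (JW : Submodule Γ(X, W) Γ(X, W)).colon {φ r} with h𝔞
  have hnot : ¬ 𝔞.comap φ ≤ (hU.primeIdealOf ⟨y, hy⟩).asIdeal := by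
    intro hle
    obtain ⟨Q, hQ𝔞, hQprime, hQle⟩ :=
      Ideal.exists_ideal_comap_le_prime (hU.primeIdealOf ⟨y, hy⟩).asIdeal 𝔞 hle
    set q : PrimeSpectrum Γ(X, W) := ⟨Q, hQprime⟩ with hq
    set x' := hW.fromSpec q with hx'
    have hx'W : x' ∈ W := Groth.Agent.Lib.Helper4.VarDim.fromSpec_mem hW q
    have hpx' : (hW.primeIdealOf ⟨x', hx'W⟩).asIdeal = Q := by
      rw [Groth.Agent.Lib.Helper4.VarDim.primeIdealOf_fromSpec hW q hx'W]
    have hfx' : f x' ⤳ y := by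
      rw [← Groth.Agent.Lib.Helper4.VarDim.primeIdealOf_le_iff hU (f x') y (hWU hx'W) hy,
        primeIdealOf_image f hU hW hWU x' hx'W, hpx']
      exact hQle
    have h1 := H x' (hWS hx'W) (hWU hx'W) hfx'
    rw [stalkMap_germ_eq f hWU x' hx'W r, stalkIdeal_eq_map_germ 𝓙 ⟨W, hW⟩ x' hx'W] at h1
    obtain ⟨c, hc, hcr⟩ := (germ_mem_map_iff hW JW (φ r) x' hx'W).mp h1
    apply hc
    rw [hpx']
    apply hQ𝔞
    rw [h𝔞, Submodule.mem_colon_singleton]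
    simpa using hcr
  obtain ⟨u, hu𝔞, hu⟩ := Set.not_subset.mp hnot
  refine ⟨W, hxW, hWS, u, hu, ?_⟩
  intro x' hx'W hx'
  rw [stalkMap_germ_eq f hWU x' hx'W (u * r), stalkIdeal_eq_map_germ 𝓙 ⟨W, hW⟩ x' hx'W]
  apply Ideal.mem_map_of_mem
  have : φ u ∈ 𝔞 := hu𝔞
  rw [h𝔞, Submodule.mem_colon_singleton] at this
  rw [map_mul]
  simpa using this

/-- the spreading lemma, for sections over an affine open. -/
theorem spread_section {U : Y.Opens} (hU : IsAffineOpen U) (S : Set X) (hS : IsOpen S)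
    (hSc : IsCompact S) (hSU : S ⊆ f ⁻¹' U) (y : Y) (hy : y ∈ U) (r : Γ(Y, U))
    (H : ∀ x ∈ S, ∀ hx : f x ∈ U, f x ⤳ y →
      (f.stalkMap x).hom ((Y.presheaf.germ U (f x) hx).hom r) ∈ IntMult.stalkIdeal 𝓙 x) :
    ∃ u : Γ(Y, U), u ∉ (hU.primeIdealOf ⟨y, hy⟩).asIdeal ∧ u * r ∈ K f 𝓙 U S := by
  classical
  choose W hxW hWS u hu huW using spread_local f 𝓙 hU S hS hSU y hy r H
  obtain ⟨t, ht⟩ := hSc.elim_finite_subcover (fun x : S => ((W x.1 x.2 : X.Opens) : Set X))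
    (fun x => (W x.1 x.2).isOpen) (fun x hx => Set.mem_iUnion.mpr ⟨⟨x, hx⟩, hxW x hx⟩)
  refine ⟨∏ x ∈ t, u x.1 x.2, ?_, ?_⟩
  · intro hmem
    haveI := (hU.primeIdealOf ⟨y, hy⟩).isPrime
    obtain ⟨x, -, hx⟩ := Ideal.IsPrime.prod_mem_iff.mp hmem
    exact hu x.1 x.2 hx
  · intro x' hx'S hx'
    obtain ⟨x, hxt, hx'W⟩ : ∃ x ∈ t, x' ∈ W x.1 x.2 := by
      have := ht hx'S
      simpa using this
    have hprod : (∏ z ∈ t, u z.1 z.2) * r =
        (∏ z ∈ t.erase x, u z.1 z.2) * (u x.1 x.2 * r) := by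
      rw [← Finset.mul_prod_erase t _ hxt]; ring
    rw [hprod, map_mul, map_mul]
    exact Ideal.mul_mem_left _ _ (huW x.1 x.2 x' hx'W hx')

end Groth.Agent.Lib.H9Div21Geo
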