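import Mathlib
import Groth.Prelude
import Groth.Agent.Lib.H9Div21Geo1
import Groth.Agent.Lib.Helper10CodimFib
import Groth.Agent.Lib.Helper4DimFormulaAE

set_option autoImplicit false
set_option linter.style.haveILetI false
universe u

namespace Groth.Agent.Lib.H9Div21Geo

open AlgebraicGeometry CategoryTheory CategoryTheory.Limits TopologicalSpace
open Groth.Agent.Lib.R2H1.CartierProd Groth.Agent.Lib.H9Div21Alg

variable {X Y : Scheme.{u}} (f : X ⟶ Y) (𝓙 : X.IdealSheafData)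

/-- the map `O_{Y,y} → O_{X,x}` for `f x ⤳ y`. -/
noncomputable def psi (x : X) {y : Y} (h : f x ⤳ y) : Y.presheaf.stalk y →+* X.presheaf.stalk x :=
  (f.stalkMap x).hom.comp (Y.presheaf.stalkSpecializes h).hom

theorem psi_germ (x : X) {y : Y} (h : f x ⤳ y) {U : Y.Opens} (hy : y ∈ U) (s : Γ(Y, U)) :
    psi f x h ((Y.presheaf.germ U y hy).hom s) =
      (f.stalkMap x).hom ((Y.presheaf.germ U (f x) (h.mem_open U.isOpen hy)).hom s) := by
  unfold psi
  rw [RingHom.comp_apply]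
  congr 1
  exact congrArg (fun φ => φ.hom s) (Y.presheaf.germ_stalkSpecializes hy h)

theorem psi_refl (x : X) (b : Y.presheaf.stalk (f x)) :
    psi f x (specializes_refl (f x)) b = (f.stalkMap x).hom b := by
  unfold psi
  rw [RingHom.comp_apply, TopCat.Presheaf.stalkSpecializes_refl]
  rfl

/-- generization maps of stalks are flat. -/
theorem flat_stalkSpecializes {Z : Scheme.{u}} {a b : Z} (h : a ⤳ b) :
    (Z.presheaf.stalkSpecializes h).hom.Flat := by
  letI := (Z.presheaf.stalkSpecializes h).hom.toAlgebra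
  haveI := Groth.Agent.Lib.R2H1.LocQuot.isLocalization_stalkSpecializes b a h
  exact IsLocalization.flat (Z.presheaf.stalk a) (RingHom.ker (Cyc.specMap b a h)).primeCompl

theorem flat_psi [Flat f] (x : X) {y : Y} (h : f x ⤳ y) : (psi f x h).Flat :=
  RingHom.Flat.comp (flat_stalkSpecializes h) (Flat.stalkMap f x)

theorem map_psi_le {U : Y.Opens} (S : Set X) (x : X) (hxS : x ∈ S) {y : Y} (h : f x ⤳ y)
    (hy : y ∈ U) :
    ((K f 𝓙 U S).map (Y.presheaf.germ U y hy).hom).map (psi f x h) ≤ IntMult.stalkIdeal 𝓙 x := by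
  rw [Ideal.map_map, Ideal.map_le_iff_le_comap]
  intro b hb
  rw [Ideal.mem_comap, RingHom.comp_apply, psi_germ]
  exact hb x hxS _

/-- the spreading lemma at the level of stalks. -/
theorem spread_stalk {U : Y.Opens} (hU : IsAffineOpen U) (S : Set X) (hS : IsOpen S)
    (hSc : IsCompact S) (hSU : S ⊆ f ⁻¹' U) (y : Y) (hy : y ∈ U) (b : Y.presheaf.stalk y)
    (H : ∀ x ∈ S, ∀ h : f x ⤳ y, psi f x h b ∈ IntMult.stalkIdeal 𝓙 x) :
    b ∈ (K f 𝓙 U S).map (Y.presheaf.germ U y hy).hom := by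
  obtain ⟨⟨r, t⟩, hrt⟩ : ∃ rt : Γ(Y, U) × (hU.primeIdealOf ⟨y, hy⟩).asIdeal.primeCompl,
      b * (Y.presheaf.germ U y hy).hom rt.2 = (Y.presheaf.germ U y hy).hom rt.1 := by
    letI : Algebra Γ(Y, U) (Y.presheaf.stalk y) := Y.presheaf.algebra_section_stalk ⟨y, hy⟩
    haveI : IsLocalization.AtPrime (Y.presheaf.stalk y) (hU.primeIdealOf ⟨y, hy⟩).asIdeal :=
      hU.isLocalization_stalk ⟨y, hy⟩
    exact IsLocalization.surj (hU.primeIdealOf ⟨y, hy⟩).asIdeal.primeCompl b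
  have hunit : ∀ v : Γ(Y, U), v ∉ (hU.primeIdealOf ⟨y, hy⟩).asIdeal →
      IsUnit ((Y.presheaf.germ U y hy).hom v) := by
    intro v hv
    letI : Algebra Γ(Y, U) (Y.presheaf.stalk y) := Y.presheaf.algebra_section_stalk ⟨y, hy⟩
    haveI : IsLocalization.AtPrime (Y.presheaf.stalk y) (hU.primeIdealOf ⟨y, hy⟩).asIdeal :=
      hU.isLocalization_stalk ⟨y, hy⟩
    exact IsLocalization.map_units (Y.presheaf.stalk y)
      (⟨v, hv⟩ : (hU.primeIdealOf ⟨y, hy⟩).asIdeal.primeCompl)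
  obtain ⟨u, hu, hur⟩ := spread_section f 𝓙 hU S hS hSc hSU y hy r (by
    intro x hxS hx h
    have h1 := H x hxS h
    have h2 : (f.stalkMap x).hom ((Y.presheaf.germ U (f x) hx).hom r) =
        psi f x h b * psi f x h ((Y.presheaf.germ U y hy).hom t) := by
      rw [← map_mul, hrt, psi_germ]
    rw [h2]
    exact Ideal.mul_mem_right _ _ h1)
  obtain ⟨wu, hwu⟩ := hunit u hu
  obtain ⟨wt, hwt⟩ := hunit t t.2
  have hb : b = (Y.presheaf.germ U y hy).hom (u * r) * ((↑wu⁻¹ : Y.presheaf.stalk y) *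
      (↑wt⁻¹ : Y.presheaf.stalk y)) := by
    rw [map_mul, ← hrt, ← hwu, ← hwt]
    have e1 : (↑wu : Y.presheaf.stalk y) * (↑wu⁻¹ : Y.presheaf.stalk y) = 1 := Units.mul_inv wu
    have e2 : (↑wt : Y.presheaf.stalk y) * (↑wt⁻¹ : Y.presheaf.stalk y) = 1 := Units.mul_inv wt
    calc b = b * ((↑wu : Y.presheaf.stalk y) * ↑wu⁻¹) * ((↑wt : Y.presheaf.stalk y) * ↑wt⁻¹) := by
          rw [e1, e2, mul_one, mul_one]
      _ = _ := by ring
  rw [hb]
  exact Ideal.mul_mem_right _ _ (Ideal.mem_map_of_mem _ hur)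

theorem stalkSpecializes_mem_maximalIdeal_of_eq {Z : Scheme.{u}} {a b : Z} (h : a ⤳ b) (e : a = b)
    (c : Z.presheaf.stalk b) (hc : c ∈ IsLocalRing.maximalIdeal (Z.presheaf.stalk b)) :
    (Z.presheaf.stalkSpecializes h).hom c ∈ IsLocalRing.maximalIdeal (Z.presheaf.stalk a) := by
  subst e
  have : Z.presheaf.stalkSpecializes h = 𝟙 _ := TopCat.Presheaf.stalkSpecializes_refl _ _
  rw [this]
  exact hc

end Groth.Agent.Lib.H9Div21Geo
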