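import Mathlib
import Groth.Prelude
import Groth.Agent.Lib.H9Div21Geo2

set_option autoImplicit false
set_option linter.style.haveILetI false
universe u

namespace Groth.Agent.Lib.H9Div21Geo

open AlgebraicGeometry CategoryTheory CategoryTheory.Limits TopologicalSpace
open Groth.Agent.Lib.R2H1.CartierProd Groth.Agent.Lib.H9Div21Alg

variable {X Y : Scheme.{u}} (f : X ⟶ Y) (𝓙 : X.IdealSheafData)

/-- the hypothesis at a point `y` of `Y`: `𝓙` is generated, at all points over generizations of
`y`, by the image of one element of `O_{Y,y}`. -/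
def HypAt (y : Y) : Prop :=
  ∃ g : Y.presheaf.stalk y, ∀ (x : X) (h : f x ⤳ y),
    IntMult.stalkIdeal 𝓙 x = Ideal.span {psi f x h g}

/-- Core lemma: under the hypothesis at all points of depth `≤ 1`, the ideal `K U S` generates
`𝓙` at all points of `S`. -/
theorem core [IsLocallyNoetherian X] [IsLocallyNoetherian Y] [Flat f]
    (hJ : BlowUp.IsEffCartierIdeal 𝓙)
    (Hyp : ∀ y : Y, LocCoh.depth (Y.presheaf.stalk y) (Y.presheaf.stalk y) ≤ 1 → HypAt f 𝓙 y)
    {U : Y.Opens} (hU : IsAffineOpen U) (S : Set X) (hS : IsOpen S) (hSc : IsCompact S)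
    (hSU : S ⊆ f ⁻¹' U) :
    ∀ x ∈ S, ∀ hx : f x ∈ U, IntMult.stalkIdeal 𝓙 x ≤
      ((K f 𝓙 U S).map (Y.presheaf.germ U (f x) hx).hom).map (f.stalkMap x).hom := by
  by_contra hcon
  set P : X → Prop := fun x => ∀ hx : f x ∈ U, IntMult.stalkIdeal 𝓙 x ≤
      ((K f 𝓙 U S).map (Y.presheaf.germ U (f x) hx).hom).map (f.stalkMap x).hom with hP
  set d : X → WithBot ℕ∞ := fun x => ringKrullDim (Y.presheaf.stalk (f x)) with hd
  have hne : {x : X | x ∈ S ∧ ¬ P x}.Nonempty := by
    by_contra hempty
    apply hcon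
    intro x hxS
    by_contra hx
    exact hempty ⟨x, hxS, hx⟩
  obtain ⟨x, ⟨hxS, hxP⟩, hmin⟩ := (InvImage.wf d wellFounded_lt).has_min _ hne
  apply hxP
  intro hx
  have hmin' : ∀ x' ∈ S, d x' < d x → P x' := by
    intro x' hx'S hlt
    by_contra hbad
    exact hmin x' ⟨hx'S, hbad⟩ hlt
  set I := (K f 𝓙 U S).map (Y.presheaf.germ U (f x) hx).hom with hI
  by_cases hdepth : LocCoh.depth (Y.presheaf.stalk (f x)) (Y.presheaf.stalk (f x)) ≤ 1
  · -- Case 1
    obtain ⟨g, hg⟩ := Hyp (f x) hdepth
    have hgI : g ∈ I := by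
      apply spread_stalk f 𝓙 hU S hS hSc hSU (f x) hx g
      intro x' hx'S h'
      rw [hg x' h']
      exact Ideal.mem_span_singleton_self _
    rw [hg x (specializes_refl (f x)), psi_refl, Ideal.span_le, Set.singleton_subset_iff]
    exact Ideal.mem_map_of_mem _ hgI
  · -- Case 2
    obtain ⟨b₁, b₂, hb₁, hb₂, hreg⟩ := exists_pair_of_depth _ hdepth
    have h2a : ∀ b : Y.presheaf.stalk (f x), b₁ * b ∈ I → b₂ * b ∈ I → b ∈ I := by
      intro b h1 h2
      apply spread_stalk f 𝓙 hU S hS hSc hSU (f x) hx b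
      intro x' hx'S h'
      obtain ⟨t', ht', hJt'⟩ := stalkIdeal_principal hJ x'
      rw [hJt']
      apply exchange_flat (psi f x' h') (flat_psi f x' h') b₁ b₂ hreg t' _ ht'
      · rw [← map_mul, ← hJt']
        exact map_psi_le f 𝓙 S x' hx'S h' hx (Ideal.mem_map_of_mem _ h1)
      · rw [← map_mul, ← hJt']
        exact map_psi_le f 𝓙 S x' hx'S h' hx (Ideal.mem_map_of_mem _ h2)
    set φ := (f.stalkMap x).hom with hφ
    have hφflat : φ.Flat := Flat.stalkMap f x
    have h2b : ∀ a : X.presheaf.stalk x, φ b₁ * a ∈ I.map φ → φ b₂ * a ∈ I.map φ →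
        a ∈ I.map φ := fun a => flat_transfer' φ hφflat I b₁ b₂ h2a a
    obtain ⟨t, ht, hJt⟩ := stalkIdeal_principal hJ x
    haveI : IsNoetherianRing (X.presheaf.stalk x) := inferInstance
    have htK : t ∈ I.map φ := by
      apply colon_step (I.map φ) t (φ b₁) (φ b₂) h2b
      intro 𝔮 h𝔮 hnot
      haveI := h𝔮
      set x' := X.fromSpecStalk x ⟨𝔮, h𝔮⟩ with hx'
      have hsp : x' ⤳ x := Groth.Agent.Lib.Helper4.DimFormula.fromSpecStalk_specializes x _
      have hx'S : x' ∈ S := hsp.mem_open hS hxS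
      have h' : f x' ⤳ f x := f.base.hom.map_specializes hsp
      have hker : RingHom.ker (Cyc.specMap x x' hsp) = 𝔮 :=
        Groth.Agent.Lib.R2H1.LocQuot.ker_specMap_fromSpecStalk x 𝔮 hsp
      have hnat : ∀ b : Y.presheaf.stalk (f x),
          (X.presheaf.stalkSpecializes hsp).hom (φ b) =
            (f.stalkMap x').hom ((Y.presheaf.stalkSpecializes h').hom b) :=
        fun b => (Scheme.Hom.stalkSpecializes_stalkMap_apply f x' x hsp b).symm
      have hne : f x' ≠ f x := by
        intro heq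
        apply hnot
        have hmem : ∀ b ∈ IsLocalRing.maximalIdeal (Y.presheaf.stalk (f x)), φ b ∈ 𝔮 := by
          intro b hb
          rw [← hker, RingHom.mem_ker]
          unfold Cyc.specMap
          rw [CommRingCat.hom_comp, RingHom.comp_apply, hnat]
          have h1 := stalkSpecializes_mem_maximalIdeal_of_eq h' heq b hb
          have h2 : (f.stalkMap x').hom ((Y.presheaf.stalkSpecializes h').hom b) ∈
              IsLocalRing.maximalIdeal (X.presheaf.stalk x') := by
            rw [IsLocalRing.mem_maximalIdeal] at h1 ⊢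
            intro hu
            exact h1 ((isUnit_map_iff (f.stalkMap x').hom _).mp hu)
          exact (IsLocalRing.residue_eq_zero_iff _).mpr h2
        exact ⟨hmem b₁ hb₁, hmem b₂ hb₂⟩
      have hdim : d x' < d x :=
        Groth.Agent.Lib.Helper10.CodimFib.ringKrullDim_stalk_lt_of_specializes h' hne
      have hgood := hmin' x' hx'S hdim (hSU hx'S)
      have ht' : (X.presheaf.stalkSpecializes hsp).hom t ∈ IntMult.stalkIdeal 𝓙 x' := by
        rw [← Groth.Agent.Lib.H9CartExt.stalkIdeal_specializes 𝓙 hsp]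
        apply Ideal.mem_map_of_mem
        rw [hJt]; exact Ideal.mem_span_singleton_self t
      have h3 := hgood ht'
      have h4 : ((K f 𝓙 U S).map (Y.presheaf.germ U (f x') (hSU hx'S)).hom).map
          (f.stalkMap x').hom = (I.map φ).map (X.presheaf.stalkSpecializes hsp).hom := by
        rw [hI, Ideal.map_map, Ideal.map_map, Ideal.map_map]
        congr 1
        ext s
        rw [RingHom.comp_apply, RingHom.comp_apply, RingHom.comp_apply, hnat]
        congr 1
        exact (congrArg (fun ψ => ψ.hom s) (Y.presheaf.germ_stalkSpecializes hx h')).symm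
      rw [h4] at h3
      letI := (X.presheaf.stalkSpecializes hsp).hom.toAlgebra
      haveI := Groth.Agent.Lib.R2H1.LocQuot.isLocalization_stalkSpecializes x x' hsp
      obtain ⟨c, hc, hct⟩ := (IsLocalization.algebraMap_mem_map_algebraMap_iff
        (RingHom.ker (Cyc.specMap x x' hsp)).primeCompl (X.presheaf.stalk x') (I.map φ) t).mp h3
      refine ⟨c, ?_, hct⟩
      rw [← hker]
      exact hc
    rw [hJt, Ideal.span_le, Set.singleton_subset_iff]
    exact htK

end Groth.Agent.Lib.H9Div21Geo
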