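import Mathlib
import Groth.Prelude
import Groth.Agent.Lib.H9Div21Geo3

set_option autoImplicit false
set_option linter.style.haveILetI false
universe u

namespace Groth.Agent.Lib.H9Div21Geo

open AlgebraicGeometry CategoryTheory CategoryTheory.Limits TopologicalSpace
open Groth.Agent.Lib.R2H1.CartierProd Groth.Agent.Lib.H9Div21Alg

variable {X Y : Scheme.{u}} (f : X ⟶ Y) (𝓙 : X.IdealSheafData)

/-- comparing ideal sheaves via stalk ideals. -/
theorem le_of_stalkIdeal_le {Z : Scheme.{u}} (I J : Z.IdealSheafData)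
    (h : ∀ z : Z, IntMult.stalkIdeal I z ≤ IntMult.stalkIdeal J z) : I ≤ J := by
  intro U a ha
  apply mem_of_forall_prime (J.ideal U) a
  intro 𝔭 h𝔭
  set q : PrimeSpectrum Γ(Z, U.1) := ⟨𝔭, h𝔭⟩ with hq
  set z := U.2.fromSpec q with hz
  have hzU : z ∈ U.1 := Groth.Agent.Lib.Helper4.VarDim.fromSpec_mem U.2 q
  have hpz : (U.2.primeIdealOf ⟨z, hzU⟩).asIdeal = 𝔭 := by
    rw [Groth.Agent.Lib.Helper4.VarDim.primeIdealOf_fromSpec U.2 q hzU]
  have h1 : (Z.presheaf.germ U.1 z hzU).hom a ∈ IntMult.stalkIdeal J z := by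
    apply h z
    rw [stalkIdeal_eq_map_germ I U z hzU]
    exact Ideal.mem_map_of_mem _ ha
  rw [stalkIdeal_eq_map_germ J U z hzU] at h1
  obtain ⟨t, ht, hta⟩ := (germ_mem_map_iff U.2 (J.ideal U) a z hzU).mp h1
  exact ⟨t, by rwa [hpz] at ht, hta⟩

theorem eq_of_stalkIdeal_eq {Z : Scheme.{u}} (I J : Z.IdealSheafData)
    (h : ∀ z : Z, IntMult.stalkIdeal I z = IntMult.stalkIdeal J z) : I = J :=
  le_antisymm (le_of_stalkIdeal_le I J fun z => (h z).le)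
    (le_of_stalkIdeal_le J I fun z => (h z).ge)

/-- existence of a quasi-compact open part of `f⁻¹U` surjecting onto `U`. -/
theorem exists_compact_open [Surjective f] (hf : QuasiCompact f ∨ IsOpenMap f) {U : Y.Opens}
    (hU : IsAffineOpen U) (x₀ : X) (hx₀ : f x₀ ∈ U) :
    ∃ S : Set X, IsOpen S ∧ IsCompact S ∧ S ⊆ f ⁻¹' U ∧ x₀ ∈ S ∧
      ∀ y ∈ U, ∃ x ∈ S, f x = y := by
  rcases hf with hqc | hopen
  · refine ⟨f ⁻¹' U, U.isOpen.preimage f.continuous,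
      QuasiCompact.isCompact_preimage (f := f) _ U.isOpen hU.isCompact, subset_rfl, hx₀, ?_⟩
    intro y hy
    obtain ⟨x, rfl⟩ := f.surjective y
    exact ⟨x, hy, rfl⟩
  · have hopenU : IsOpen (f ⁻¹' (U : Set Y)) := U.isOpen.preimage f.continuous
    have key : ∀ x : X, f x ∈ U → ∃ W : X.Opens, IsAffineOpen W ∧ x ∈ W ∧
        (W : Set X) ⊆ f ⁻¹' U := by
      intro x hx
      obtain ⟨_, ⟨W, hW, rfl⟩, hxW, hWU⟩ :=
        X.isBasis_affineOpens.exists_subset_of_mem_open (show x ∈ f ⁻¹' (U : Set Y) from hx) hopenU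
      exact ⟨W, hW, hxW, hWU⟩
    have hpt : ∀ y : U, ∃ x : X, f x = y.1 := fun y => f.surjective y.1
    choose xs hxs using hpt
    have hxsU : ∀ y : U, f (xs y) ∈ U := fun y => by rw [hxs y]; exact y.2
    choose W hWaff hxW hWU using fun y : U => key (xs y) (hxsU y)
    obtain ⟨W₀, hW₀aff, hx₀W₀, hW₀U⟩ := key x₀ hx₀
    obtain ⟨t, ht⟩ := hU.isCompact.elim_finite_subcover (fun y : U => f '' (W y : Set X))
      (fun y => hopen _ (W y).isOpen)
      (fun y hy => Set.mem_iUnion.mpr ⟨⟨y, hy⟩, xs ⟨y, hy⟩, hxW ⟨y, hy⟩, hxs ⟨y, hy⟩⟩)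
    refine ⟨(W₀ : Set X) ∪ ⋃ y ∈ t, (W y : Set X), ?_, ?_, ?_, ?_, ?_⟩
    · exact W₀.isOpen.union (isOpen_biUnion fun y _ => (W y).isOpen)
    · exact hW₀aff.isCompact.union (t.isCompact_biUnion fun y _ => (hWaff y).isCompact)
    · refine Set.union_subset hW₀U (Set.iUnion₂_subset fun y _ => hWU y)
    · exact Or.inl hx₀W₀
    · intro y hy
      obtain ⟨y', hy't, x, hxW', hx⟩ : ∃ y' ∈ t, ∃ x ∈ (W y' : Set X), f x = y := by
        have := ht hy
        simpa using this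
      exact ⟨x, Or.inr (Set.mem_biUnion hy't hxW'), hx⟩

/-- extension of `K` along the stalk map is contained in `𝓙`. -/
theorem map_K_le {U : Y.Opens} (S : Set X) (x : X) (hxS : x ∈ S) (hx : f x ∈ U) :
    ((K f 𝓙 U S).map (Y.presheaf.germ U (f x) hx).hom).map (f.stalkMap x).hom ≤
      IntMult.stalkIdeal 𝓙 x := by
  rw [Ideal.map_map, Ideal.map_le_iff_le_comap]
  intro b hb
  exact hb x hxS hx

/-- independence of `K U S` of the quasi-compact open `S` surjecting onto `U`. -/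
theorem K_le_of_subset [IsLocallyNoetherian X] [IsLocallyNoetherian Y] [Flat f]
    (hJ : BlowUp.IsEffCartierIdeal 𝓙)
    (Hyp : ∀ y : Y, LocCoh.depth (Y.presheaf.stalk y) (Y.presheaf.stalk y) ≤ 1 → HypAt f 𝓙 y)
    {U : Y.Opens} (hU : IsAffineOpen U) (S S' : Set X) (hS : IsOpen S) (hSc : IsCompact S)
    (hSU : S ⊆ f ⁻¹' U) (hS' : IsOpen S') (hS'c : IsCompact S') (hS'U : S' ⊆ f ⁻¹' U)
    (hSS' : S ⊆ S') (hsurj : ∀ y ∈ U, ∃ x ∈ S, f x = y) :
    K f 𝓙 U S ≤ K f 𝓙 U S' := by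
  intro a ha
  apply mem_of_forall_prime (K f 𝓙 U S') a
  intro 𝔭 h𝔭
  set q : PrimeSpectrum Γ(Y, U) := ⟨𝔭, h𝔭⟩ with hq
  have hyU : hU.fromSpec q ∈ U := Groth.Agent.Lib.Helper4.VarDim.fromSpec_mem hU q
  obtain ⟨x, hxS, hfx⟩ := hsurj _ hyU
  have hx : f x ∈ U := hSU hxS
  have hpx : (hU.primeIdealOf ⟨f x, hx⟩).asIdeal = 𝔭 := by
    have : hU.primeIdealOf ⟨f x, hx⟩ = q := by
      apply hU.fromSpec.isOpenEmbedding.injective
      rw [hU.fromSpec_primeIdealOf ⟨f x, hx⟩]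
      exact hfx
    rw [this]
  have h1 := core f 𝓙 hJ Hyp hU S' hS' hS'c hS'U x (hSS' hxS) hx
  have h2 := map_K_le f 𝓙 S x hxS hx
  have h3 : (K f 𝓙 U S).map (Y.presheaf.germ U (f x) hx).hom ≤
      (K f 𝓙 U S').map (Y.presheaf.germ U (f x) hx).hom :=
    le_of_map_le_of_flat_local (f.stalkMap x).hom (Flat.stalkMap f x) _ _ (h2.trans h1)
  have h4 : (Y.presheaf.germ U (f x) hx).hom a ∈
      (K f 𝓙 U S').map (Y.presheaf.germ U (f x) hx).hom := h3 (Ideal.mem_map_of_mem _ ha)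
  obtain ⟨t, ht, hta⟩ := (germ_mem_map_iff hU (K f 𝓙 U S') a (f x) hx).mp h4
  exact ⟨t, by rwa [hpx] at ht, hta⟩

/-- Lemma G: the ideal `K U univ` generates `𝓙` at every point over `U`. -/
theorem stalkIdeal_eq_map_K [IsLocallyNoetherian X] [IsLocallyNoetherian Y] [Flat f] [Surjective f]
    (hf : QuasiCompact f ∨ IsOpenMap f) (hJ : BlowUp.IsEffCartierIdeal 𝓙)
    (Hyp : ∀ y : Y, LocCoh.depth (Y.presheaf.stalk y) (Y.presheaf.stalk y) ≤ 1 → HypAt f 𝓙 y)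
    {U : Y.Opens} (hU : IsAffineOpen U) (x : X) (hx : f x ∈ U) :
    IntMult.stalkIdeal 𝓙 x =
      ((K f 𝓙 U Set.univ).map (Y.presheaf.germ U (f x) hx).hom).map (f.stalkMap x).hom := by
  apply le_antisymm _ (map_K_le f 𝓙 Set.univ x trivial hx)
  obtain ⟨S, hS, hSc, hSU, hxS, hsurj⟩ := exists_compact_open f hf hU x hx
  refine (core f 𝓙 hJ Hyp hU S hS hSc hSU x hxS hx).trans ?_
  apply Ideal.map_mono
  apply Ideal.map_mono
  intro a ha x'' _ hx''
  obtain ⟨S₂, hS₂, hS₂c, hS₂U, hx''S₂, -⟩ := exists_compact_open f hf hU x'' hx''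
  have hle := K_le_of_subset f 𝓙 hJ Hyp hU S (S ∪ S₂) hS hSc hSU (hS.union hS₂)
    (hSc.union hS₂c) (Set.union_subset hSU hS₂U) Set.subset_union_left hsurj
  exact hle ha x'' (Or.inr hx''S₂) hx''

end Groth.Agent.Lib.H9Div21Geo
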