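import Mathlib
import Groth.Prelude
import Groth.Agent.Lib.H9Div21Geo4

set_option autoImplicit false
set_option linter.style.haveILetI false
universe u

namespace Groth.Agent.Lib.H9Div21Geo

open AlgebraicGeometry CategoryTheory CategoryTheory.Limits TopologicalSpace
open Groth.Agent.Lib.R2H1.CartierProd Groth.Agent.Lib.H9Div21Alg

variable {X Y : Scheme.{u}} (f : X ⟶ Y) (𝓙 : X.IdealSheafData)

theorem mem_of_map_mem_of_flat_local {R S : Type u} [CommRing R] [CommRing S] [IsLocalRing R]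
    [IsLocalRing S] (φ : R →+* S) [IsLocalHom φ] (hφ : φ.Flat) (I : Ideal R) (a : R)
    (h : φ a ∈ I.map φ) : a ∈ I := by
  have h1 : (Ideal.span {a}).map φ ≤ I.map φ := by
    rw [Ideal.map_span, Set.image_singleton, Ideal.span_le, Set.singleton_subset_iff]
    exact h
  exact le_of_map_le_of_flat_local φ hφ _ _ h1 (Ideal.mem_span_singleton_self a)

/-- compatibility of the ideals `K U univ` with basic opens. -/
theorem map_K_basicOpen [IsLocallyNoetherian X] [IsLocallyNoetherian Y] [Flat f] [Surjective f]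
    (hf : QuasiCompact f ∨ IsOpenMap f) (hJ : BlowUp.IsEffCartierIdeal 𝓙)
    (Hyp : ∀ y : Y, LocCoh.depth (Y.presheaf.stalk y) (Y.presheaf.stalk y) ≤ 1 → HypAt f 𝓙 y)
    {U : Y.Opens} (hU : IsAffineOpen U) (r : Γ(Y, U)) :
    (K f 𝓙 U Set.univ).map (Y.presheaf.map (homOfLE (Y.basicOpen_le r)).op).hom =
      K f 𝓙 (Y.basicOpen r) Set.univ := by
  have hgerm : ∀ (y : Y) (hy : y ∈ Y.basicOpen r) (b : Γ(Y, U)),
      (Y.presheaf.germ (Y.basicOpen r) y hy).hom
        ((Y.presheaf.map (homOfLE (Y.basicOpen_le r)).op).hom b) =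
      (Y.presheaf.germ U y (Y.basicOpen_le r hy)).hom b := by
    intro y hy b
    exact congrArg (fun φ => φ.hom b) (Y.presheaf.germ_res (homOfLE (Y.basicOpen_le r)) y hy)
  apply le_antisymm
  · rw [Ideal.map_le_iff_le_comap]
    intro b hb x _ hx
    rw [hgerm]
    exact hb x trivial _
  · intro c hc
    letI : Algebra Γ(Y, U) Γ(Y, Y.basicOpen r) :=
      (Y.presheaf.map (homOfLE (Y.basicOpen_le r)).op).hom.toAlgebra
    haveI : IsLocalization.Away r Γ(Y, Y.basicOpen r) := hU.isLocalization_basicOpen r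
    obtain ⟨⟨b, m⟩, hbm⟩ := IsLocalization.surj (Submonoid.powers r) c
    have hbm' : c * (Y.presheaf.map (homOfLE (Y.basicOpen_le r)).op).hom m =
        (Y.presheaf.map (homOfLE (Y.basicOpen_le r)).op).hom b := hbm
    have hbK : (Y.presheaf.map (homOfLE (Y.basicOpen_le r)).op).hom b ∈
        K f 𝓙 (Y.basicOpen r) Set.univ := by
      rw [← hbm']
      exact Ideal.mul_mem_right _ _ hc
    -- `r` lies in the radical of the colon ideal
    set 𝔠 : Ideal Γ(Y, U) := ((K f 𝓙 U Set.univ : Ideal Γ(Y, U)) :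
      Submodule Γ(Y, U) Γ(Y, U)).colon {b} with h𝔠
    have hrad : r ∈ 𝔠.radical := by
      rw [Ideal.radical_eq_sInf, Ideal.mem_sInf]
      rintro 𝔭 ⟨h𝔠𝔭, h𝔭⟩
      by_contra hr
      set q : PrimeSpectrum Γ(Y, U) := ⟨𝔭, h𝔭⟩ with hq
      have hyU : hU.fromSpec q ∈ U := Groth.Agent.Lib.Helper4.VarDim.fromSpec_mem hU q
      obtain ⟨x, hfx⟩ := f.surjective (hU.fromSpec q)
      have hx : f x ∈ U := by rw [hfx]; exact hyU
      have hpx : (hU.primeIdealOf ⟨f x, hx⟩).asIdeal = 𝔭 := by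
        have : hU.primeIdealOf ⟨f x, hx⟩ = q := by
          apply hU.fromSpec.isOpenEmbedding.injective
          rw [hU.fromSpec_primeIdealOf ⟨f x, hx⟩]
          exact hfx
        rw [this]
      have hxr : f x ∈ Y.basicOpen r := by
        by_contra hnot
        apply hr
        rw [← hpx]
        exact (Groth.Agent.Lib.Helper20.OnePt.mem_primeIdealOf_iff hU ⟨f x, hx⟩ r).mpr hnot
      have h1 := hbK x trivial hxr
      rw [hgerm] at h1
      rw [stalkIdeal_eq_map_K f 𝓙 hf hJ Hyp hU x hx] at h1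
      have h2 := mem_of_map_mem_of_flat_local (f.stalkMap x).hom (Flat.stalkMap f x) _ _ h1
      obtain ⟨t, ht, htb⟩ := (germ_mem_map_iff hU (K f 𝓙 U Set.univ) b (f x) hx).mp h2
      apply ht
      rw [hpx]
      apply h𝔠𝔭
      rw [h𝔠, Submodule.mem_colon_singleton]
      simpa using htb
    obtain ⟨N, hN⟩ := hrad
    have hNb : r ^ N * b ∈ K f 𝓙 U Set.univ := by
      rw [h𝔠, Submodule.mem_colon_singleton] at hN
      simpa using hN
    have h3 := Ideal.mem_map_of_mem (Y.presheaf.map (homOfLE (Y.basicOpen_le r)).op).hom hNb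
    have hunit : IsUnit ((Y.presheaf.map (homOfLE (Y.basicOpen_le r)).op).hom (r ^ N * m)) := by
      have hmem : r ^ N * (m : Γ(Y, U)) ∈ Submonoid.powers r :=
        mul_mem (pow_mem (Submonoid.mem_powers r) N) m.2
      exact IsLocalization.map_units Γ(Y, Y.basicOpen r)
        (⟨r ^ N * (m : Γ(Y, U)), hmem⟩ : Submonoid.powers r)
    obtain ⟨w, hw⟩ := hunit
    have hc' : c = (Y.presheaf.map (homOfLE (Y.basicOpen_le r)).op).hom (r ^ N * b) *
        (↑w⁻¹ : Γ(Y, Y.basicOpen r)) := by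
      have e1 : (↑w : Γ(Y, Y.basicOpen r)) * (↑w⁻¹ : Γ(Y, Y.basicOpen r)) = 1 := Units.mul_inv w
      calc c = c * ((↑w : Γ(Y, Y.basicOpen r)) * ↑w⁻¹) := by rw [e1, mul_one]
        _ = (c * (Y.presheaf.map (homOfLE (Y.basicOpen_le r)).op).hom m) *
            (Y.presheaf.map (homOfLE (Y.basicOpen_le r)).op).hom (r ^ N) * ↑w⁻¹ := by
          rw [hw, map_mul]; ring
        _ = _ := by rw [hbm', map_mul]; ring
    rw [hc']
    exact Ideal.mul_mem_right _ _ h3

/-- Core theorem: descent of an effective Cartier ideal along a faithfully flat morphism which is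
quasi-compact or open, under the hypothesis at points of depth at most one. -/
theorem core_theorem [IsLocallyNoetherian X] [IsLocallyNoetherian Y] [Flat f] [Surjective f]
    (hf : QuasiCompact f ∨ IsOpenMap f) (hJ : BlowUp.IsEffCartierIdeal 𝓙)
    (Hyp : ∀ y : Y, LocCoh.depth (Y.presheaf.stalk y) (Y.presheaf.stalk y) ≤ 1 → HypAt f 𝓙 y) :
    ∃ 𝓘 : Y.IdealSheafData, BlowUp.IsEffCartierIdeal 𝓘 ∧ 𝓘.comap f = 𝓙 := by
  let 𝓘 : Y.IdealSheafData :=
    { ideal := fun U => K f 𝓙 U.1 Set.univ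
      map_ideal_basicOpen := fun U r => map_K_basicOpen f 𝓙 hf hJ Hyp U.2 r }
  have hcomap : 𝓘.comap f = 𝓙 := by
    apply eq_of_stalkIdeal_eq
    intro x
    obtain ⟨_, ⟨U, hU, rfl⟩, hx, -⟩ := Y.isBasis_affineOpens.exists_subset_of_mem_open
      (Set.mem_univ (f x)) isOpen_univ
    rw [Groth.Agent.Lib.H9EffCartDesc.stalkIdeal_comap,
      stalkIdeal_eq_map_germ 𝓘 ⟨U, hU⟩ (f x) hx]
    exact (stalkIdeal_eq_map_K f 𝓙 hf hJ Hyp hU x hx).symm
  refine ⟨𝓘, ?_, hcomap⟩
  apply Groth.Agent.Lib.H9EffCartDesc.descends f 𝓘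
  rw [hcomap]
  exact hJ

end Groth.Agent.Lib.H9Div21Geo
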