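import Mathlib
import Groth.Prelude
import Groth.Agent.Lib.H9Div21Geo5

set_option autoImplicit false
set_option linter.style.haveILetI false
universe u

namespace Groth.Agent.Lib.H9Div21Geo

open AlgebraicGeometry CategoryTheory CategoryTheory.Limits TopologicalSpace
open Groth.Agent.Lib.R2H1.CartierProd Groth.Agent.Lib.H9Div21Alg

theorem flat_fromSpecStalk (X : Scheme.{u}) (x : X) : Flat (X.fromSpecStalk x) := by
  obtain ⟨_, ⟨U, hU, rfl⟩, hxU, -⟩ :=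
    X.isBasis_affineOpens.exists_subset_of_mem_open (Set.mem_univ x) isOpen_univ
  rw [← hU.fromSpecStalk_eq_fromSpecStalk hxU]
  unfold IsAffineOpen.fromSpecStalk
  have : Flat (Spec.map (X.presheaf.germ U x hxU)) := by
    rw [Flat.SpecMap_iff]
    let _ := TopCat.Presheaf.algebra_section_stalk X.presheaf (⟨x, hxU⟩ : U)
    have := hU.isLocalization_stalk ⟨x, hxU⟩
    exact IsLocalization.flat (X.presheaf.stalk x) (hU.primeIdealOf ⟨x, hxU⟩).asIdeal.primeCompl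
  infer_instance

/-- flat ring maps preserve nonzerodivisors. -/
theorem map_mem_nonZeroDivisors_of_flat {R S : Type u} [CommRing R] [CommRing S] (φ : R →+* S)
    (hφ : φ.Flat) (a : R) (ha : a ∈ nonZeroDivisors R) : φ a ∈ nonZeroDivisors S := by
  algebraize [φ]
  have h1 : IsSMulRegular S a := Module.Flat.isSMulRegular_of_nonZeroDivisors ha
  rw [mem_nonZeroDivisors_iff_right]
  intro s hs
  apply h1
  show a • s = a • 0
  rw [smul_zero, Algebra.smul_def, mul_comm]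
  exact hs

/-- effective Cartier ideals pull back along flat morphisms (source locally Noetherian). -/
theorem effCartier_comap_of_flat {Z Y : Scheme.{u}} [IsLocallyNoetherian Z] (g : Z ⟶ Y) [Flat g]
    (I : Y.IdealSheafData) (hI : BlowUp.IsEffCartierIdeal I) :
    BlowUp.IsEffCartierIdeal (I.comap g) := by
  intro z
  obtain ⟨a, ha, hIa⟩ := stalkIdeal_principal hI (g z)
  have h1 := Groth.Agent.Lib.H9EffCartDesc.stalkIdeal_comap g I z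
  rw [hIa, Ideal.map_span, Set.image_singleton] at h1
  obtain ⟨_, ⟨V, hV, rfl⟩, hzV, -⟩ := Z.isBasis_affineOpens.exists_subset_of_mem_open
    (Set.mem_univ z) isOpen_univ
  exact Groth.Agent.Lib.Helper8.EffCart.exists_of_stalk_principal (I.comap g) z hV hzV _
    (map_mem_nonZeroDivisors_of_flat _ (Flat.stalkMap g z) a ha)
    (by rw [← stalkIdeal_eq_map_germ (I.comap g) ⟨V, hV⟩ z hzV]; exact h1)

variable {X Y : Scheme.{u}}

/-- `psi` of a germ, via sections. -/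
theorem stalkMap_psi_germ {P : Scheme.{u}} (p : P ⟶ X) (f : X ⟶ Y) (w : P) {y : Y}
    (h : f (p w) ⤳ y) {V : Y.Opens} (hy : y ∈ V) (s : Γ(Y, V))
    (hw : w ∈ (p ≫ f) ⁻¹ᵁ V) :
    (p.stalkMap w).hom (psi f (p w) h ((Y.presheaf.germ V y hy).hom s)) =
      (P.presheaf.germ ((p ≫ f) ⁻¹ᵁ V) w hw).hom (((p ≫ f).app V).hom s) := by
  have hfw : f (p w) ∈ V := h.mem_open V.isOpen hy
  have hpw : p w ∈ f ⁻¹ᵁ V := hfw
  have hw2 : w ∈ p ⁻¹ᵁ f ⁻¹ᵁ V := hpw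
  rw [psi_germ]
  have h1 : (f.stalkMap (p w)).hom ((Y.presheaf.germ V (f (p w)) hfw).hom s) =
      (X.presheaf.germ (f ⁻¹ᵁ V) (p w) hpw).hom ((f.app V).hom s) :=
    Scheme.Hom.germ_stalkMap_apply f V (p w) hfw s
  have h2 : (p.stalkMap w).hom ((X.presheaf.germ (f ⁻¹ᵁ V) (p w) hpw).hom ((f.app V).hom s)) =
      (P.presheaf.germ (p ⁻¹ᵁ f ⁻¹ᵁ V) w hw2).hom ((p.app (f ⁻¹ᵁ V)).hom ((f.app V).hom s)) :=
    Scheme.Hom.germ_stalkMap_apply p (f ⁻¹ᵁ V) w hpw ((f.app V).hom s)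
  refine (congrArg (p.stalkMap w).hom h1).trans (h2.trans ?_)
  have h3 : ((p ≫ f).app V).hom s = (p.app (f ⁻¹ᵁ V)).hom ((f.app V).hom s) := by
    rw [Scheme.Hom.comp_app]
    rfl
  rw [h3]
  rfl

/-- the two composites around a commutative square agree on stalks. -/
theorem square_psi {P T : Scheme.{u}} (p₁ : P ⟶ X) (p₂ : P ⟶ T) (f : X ⟶ Y) (θ : T ⟶ Y)
    (e : p₁ ≫ f = p₂ ≫ θ) (w : P) {y : Y} (h₁ : f (p₁ w) ⤳ y) (h₂ : θ (p₂ w) ⤳ y)
    (g : Y.presheaf.stalk y) :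
    (p₁.stalkMap w).hom (psi f (p₁ w) h₁ g) = (p₂.stalkMap w).hom (psi θ (p₂ w) h₂ g) := by
  obtain ⟨V, hy, s, rfl⟩ := Y.presheaf.exists_germ_eq g
  have hw₁ : w ∈ (p₁ ≫ f) ⁻¹ᵁ V := h₁.mem_open V.isOpen hy
  have hw₂ : w ∈ (p₂ ≫ θ) ⁻¹ᵁ V := h₂.mem_open V.isOpen hy
  rw [stalkMap_psi_germ p₁ f w h₁ hy s hw₁, stalkMap_psi_germ p₂ θ w h₂ hy s hw₂]
  have key : ∀ (q q' : P ⟶ Y) (_ : q = q') (hw : w ∈ q ⁻¹ᵁ V) (hw' : w ∈ q' ⁻¹ᵁ V),
      (P.presheaf.germ (q ⁻¹ᵁ V) w hw).hom ((q.app V).hom s) =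
        (P.presheaf.germ (q' ⁻¹ᵁ V) w hw').hom ((q'.app V).hom s) := by
    intro q q' hq hw hw'
    subst hq
    rfl
  exact key _ _ e _ _

/-- `psi` for `fromSpecStalk`. -/
theorem psi_fromSpecStalk (y : Y) (𝔮 : Spec (Y.presheaf.stalk y))
    (h : (Y.fromSpecStalk y) 𝔮 ⤳ y) (g₁ : Γ(Spec (Y.presheaf.stalk y), ⊤)) :
    psi (Y.fromSpecStalk y) 𝔮 h ((Scheme.ΓSpecIso (Y.presheaf.stalk y)).hom.hom g₁) =
      ((Spec (Y.presheaf.stalk y)).presheaf.germ ⊤ 𝔮 trivial).hom g₁ := by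
  obtain ⟨V, hy, s, hs⟩ := Y.presheaf.exists_germ_eq
    ((Scheme.ΓSpecIso (Y.presheaf.stalk y)).hom.hom g₁)
  have hs' : (Y.presheaf.germ V y hy).hom s =
      (Scheme.ΓSpecIso (Y.presheaf.stalk y)).hom.hom g₁ := hs
  rw [← hs', psi_germ]
  have hθ : (Y.fromSpecStalk y) 𝔮 ∈ V := h.mem_open V.isOpen hy
  have h𝔮 : 𝔮 ∈ (Y.fromSpecStalk y) ⁻¹ᵁ V := hθ
  have h1 : ((Y.fromSpecStalk y).stalkMap 𝔮).hom
      ((Y.presheaf.germ V ((Y.fromSpecStalk y) 𝔮) hθ).hom s) =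
      ((Spec (Y.presheaf.stalk y)).presheaf.germ ((Y.fromSpecStalk y) ⁻¹ᵁ V) 𝔮 h𝔮).hom
        (((Y.fromSpecStalk y).app V).hom s) :=
    Scheme.Hom.germ_stalkMap_apply (Y.fromSpecStalk y) V 𝔮 hθ s
  refine h1.trans ?_
  have h2 : (Scheme.ΓSpecIso (Y.presheaf.stalk y)).inv.hom ((Y.presheaf.germ V y hy).hom s) =
      g₁ := by
    rw [hs']
    exact congrArg (fun φ => φ.hom g₁) (Scheme.ΓSpecIso (Y.presheaf.stalk y)).hom_inv_id
  have h3 : ((Y.fromSpecStalk y).app V).hom s =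
      ((Spec (Y.presheaf.stalk y)).presheaf.map
        (homOfLE (le_top : (Y.fromSpecStalk y) ⁻¹ᵁ V ≤ ⊤)).op).hom g₁ := by
    rw [Scheme.fromSpecStalk_app hy]
    show ((Spec (Y.presheaf.stalk y)).presheaf.map _).hom
      ((Scheme.ΓSpecIso (Y.presheaf.stalk y)).inv.hom ((Y.presheaf.germ V y hy).hom s)) = _
    rw [h2]
  rw [h3]
  exact congrArg (fun φ => φ.hom g₁)
    ((Spec (Y.presheaf.stalk y)).presheaf.germ_res
      (homOfLE (le_top : (Y.fromSpecStalk y) ⁻¹ᵁ V ≤ ⊤)) 𝔮 h𝔮)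

end Groth.Agent.Lib.H9Div21Geo
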