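import Mathlib
import Groth.Prelude
import Groth.Agent.Lib.H9Div21Geo6

set_option autoImplicit false
set_option linter.style.haveILetI false
universe u

namespace Groth.Agent.Lib.H9Div21Geo

open AlgebraicGeometry CategoryTheory CategoryTheory.Limits TopologicalSpace
open Groth.Agent.Lib.R2H1.CartierProd Groth.Agent.Lib.H9Div21Alg

variable {X Y : Scheme.{u}}

/-- the hypothesis of S3838 at `y` gives `HypAt`. -/
theorem hypAt_of_pullback [IsLocallyNoetherian X] [IsLocallyNoetherian Y] (f : X ⟶ Y) [Flat f]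
    (𝓙 : X.IdealSheafData) (y : Y)
    (𝓘₁ : (Spec (Y.presheaf.stalk y)).IdealSheafData) (h𝓘₁ : BlowUp.IsEffCartierIdeal 𝓘₁)
    (heq : 𝓘₁.comap (pullback.snd f (Y.fromSpecStalk y)) =
      𝓙.comap (pullback.fst f (Y.fromSpecStalk y))) :
    HypAt f 𝓙 y := by
  obtain ⟨⟨U₁, hU₁aff⟩, hc, f₁, -, hI⟩ := h𝓘₁ (IsLocalRing.closedPoint (Y.presheaf.stalk y))
  have hU₁ : U₁ = ⊤ := (IsLocalRing.closedPoint_mem_iff U₁).mp hc
  subst hU₁
  refine ⟨(Scheme.ΓSpecIso (Y.presheaf.stalk y)).hom.hom f₁, ?_⟩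
  intro x h
  obtain ⟨𝔮, h𝔮⟩ : ∃ 𝔮, (Y.fromSpecStalk y) 𝔮 = f x := by
    have : f x ∈ Set.range (Y.fromSpecStalk y) := by
      rw [Scheme.range_fromSpecStalk]; exact h
    exact this
  obtain ⟨w, hw1, hw2⟩ := Scheme.Pullback.exists_preimage_pullback x 𝔮 h𝔮.symm
  subst hw1
  haveI : Flat (Y.fromSpecStalk y) := flat_fromSpecStalk Y y
  have hstalk := congrArg (fun I => IntMult.stalkIdeal I w) heq
  simp only [Groth.Agent.Lib.H9EffCartDesc.stalkIdeal_comap] at hstalk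
  have h2 : (Y.fromSpecStalk y) (pullback.snd f (Y.fromSpecStalk y) w) ⤳ y := by
    rw [hw2, h𝔮]; exact h
  have hI₁ : IntMult.stalkIdeal 𝓘₁ (pullback.snd f (Y.fromSpecStalk y) w) =
      Ideal.span {((Spec (Y.presheaf.stalk y)).presheaf.germ ⊤
        (pullback.snd f (Y.fromSpecStalk y) w) trivial).hom f₁} := by
    rw [stalkIdeal_eq_map_germ 𝓘₁ ⟨⊤, hU₁aff⟩ (pullback.snd f (Y.fromSpecStalk y) w) trivial, hI,
      Ideal.map_span, Set.image_singleton]
  rw [hI₁, Ideal.map_span, Set.image_singleton,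
    ← psi_fromSpecStalk y (pullback.snd f (Y.fromSpecStalk y) w) h2 f₁,
    ← square_psi (pullback.fst f (Y.fromSpecStalk y)) (pullback.snd f (Y.fromSpecStalk y)) f
      (Y.fromSpecStalk y) pullback.condition w h h2] at hstalk
  have hflat := Flat.stalkMap (pullback.fst f (Y.fromSpecStalk y)) w
  apply le_antisymm
  · apply le_of_map_le_of_flat_local _ hflat
    rw [← hstalk, Ideal.map_span, Set.image_singleton]
  · apply le_of_map_le_of_flat_local _ hflat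
    rw [← hstalk, Ideal.map_span, Set.image_singleton]

/-- The main theorem (S3838). -/
theorem main3838 [IsLocallyNoetherian X] [IsLocallyNoetherian Y] (f : X ⟶ Y) [Flat f]
    [Surjective f] (hf : QuasiCompact f ∨ IsOpenMap f)
    (𝓙 : X.IdealSheafData) (hJ : BlowUp.IsEffCartierIdeal 𝓙) :
    (∃ 𝓘 : Y.IdealSheafData, BlowUp.IsEffCartierIdeal 𝓘 ∧ 𝓘.comap f = 𝓙) ↔
      ∀ y : ↥Y, LocCoh.depth ↑(Y.presheaf.stalk y) ↑(Y.presheaf.stalk y) ≤ 1 →
        ∃ 𝓘₁ : (Spec (Y.presheaf.stalk y)).IdealSheafData, BlowUp.IsEffCartierIdeal 𝓘₁ ∧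
          𝓘₁.comap (pullback.snd f (Y.fromSpecStalk y)) =
            𝓙.comap (pullback.fst f (Y.fromSpecStalk y)) := by
  constructor
  · rintro ⟨𝓘, h𝓘, rfl⟩ y -
    haveI : Flat (Y.fromSpecStalk y) := flat_fromSpecStalk Y y
    refine ⟨𝓘.comap (Y.fromSpecStalk y), effCartier_comap_of_flat _ 𝓘 h𝓘, ?_⟩
    rw [← Scheme.IdealSheafData.comap_comp, ← Scheme.IdealSheafData.comap_comp,
      pullback.condition]
  · intro H
    apply core_theorem f 𝓙 hf hJ
    intro y hy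
    obtain ⟨𝓘₁, h𝓘₁, heq⟩ := H y hy
    exact hypAt_of_pullback f 𝓙 y 𝓘₁ h𝓘₁ heq

end Groth.Agent.Lib.H9Div21Geo
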