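import Mathlib
import Groth.Prelude
import Groth.Agent.Lib.H9Div21Geo7
import Groth.Agent.Lib.H9Div21Alg2
import Groth.Agent.Lib.H9ModFibSch

set_option autoImplicit false
set_option linter.style.haveILetI false
universe u

namespace Groth.Agent.Lib.H9Div21Geo

open AlgebraicGeometry CategoryTheory CategoryTheory.Limits TopologicalSpace IsLocalRing
open Groth.Agent.Lib.R2H1.CartierProd Groth.Agent.Lib.H9Div21Alg Groth.Agent.Lib.H9Div21Alg2

variable {X Y : Scheme.{u}} (f : X ⟶ Y) (𝓙 : X.IdealSheafData)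

theorem map_stalkSpecializes_maximalIdeal_of_eq {Z : Scheme.{u}} {a b : Z} (h : a ⤳ b)
    (e : a = b) :
    (maximalIdeal (Z.presheaf.stalk b)).map (Z.presheaf.stalkSpecializes h).hom =
      maximalIdeal (Z.presheaf.stalk a) := by
  subst e
  have : Z.presheaf.stalkSpecializes h = 𝟙 _ := TopCat.Presheaf.stalkSpecializes_refl _ _
  rw [this]
  exact Ideal.map_id _

theorem map_psi_maximalIdeal (x : X) {y : Y} (h : f x ⤳ y) (e : f x = y) :
    (maximalIdeal (Y.presheaf.stalk y)).map (psi f x h) =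
      (maximalIdeal (Y.presheaf.stalk (f x))).map (f.stalkMap x).hom := by
  unfold psi
  rw [← Ideal.map_map, map_stalkSpecializes_maximalIdeal_of_eq h e]

theorem psi_mem_maximalIdeal_of_eq (x : X) {y : Y} (h : f x ⤳ y) (e : f x = y)
    (b : Y.presheaf.stalk y) (hb : b ∈ maximalIdeal (Y.presheaf.stalk y)) :
    psi f x h b ∈ maximalIdeal (X.presheaf.stalk x) := by
  have h1 := stalkSpecializes_mem_maximalIdeal_of_eq h e b hb
  unfold psi
  rw [RingHom.comp_apply]
  rw [mem_maximalIdeal] at h1 ⊢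
  intro hu
  exact h1 ((isUnit_map_iff (f.stalkMap x).hom _).mp hu)

/-- compatibility of `psi` with generization in `X`. -/
theorem stalkSpecializes_psi {x x' : X} (hsp : x' ⤳ x) {y : Y} (h : f x ⤳ y) (h' : f x' ⤳ y)
    (b : Y.presheaf.stalk y) :
    (X.presheaf.stalkSpecializes hsp).hom (psi f x h b) = psi f x' h' b := by
  unfold psi
  rw [RingHom.comp_apply, RingHom.comp_apply]
  have h1 := (Scheme.Hom.stalkSpecializes_stalkMap_apply f x' x hsp
    ((Y.presheaf.stalkSpecializes h).hom b)).symm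
  refine h1.trans ?_
  congr 1
  exact congrArg (fun φ => φ.hom b)
    (Y.presheaf.stalkSpecializes_comp (f.base.hom.map_specializes hsp) h)

theorem stalkIdeal_top {Z : Scheme.{u}} (z : Z) :
    IntMult.stalkIdeal (⊤ : Z.IdealSheafData) z = ⊤ := by
  obtain ⟨_, ⟨V, hV, rfl⟩, hzV, -⟩ := Z.isBasis_affineOpens.exists_subset_of_mem_open
    (Set.mem_univ z) isOpen_univ
  rw [stalkIdeal_eq_map_germ ⊤ ⟨V, hV⟩ z hzV, Scheme.IdealSheafData.ideal_top]
  exact Ideal.map_top _

theorem stalkIdeal_eq_top_of_map_eq_top {Z : Scheme.{u}} (g : Z ⟶ X) (z : Z)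
    (h : (IntMult.stalkIdeal 𝓙 (g z)).map (g.stalkMap z).hom = ⊤) :
    IntMult.stalkIdeal 𝓙 (g z) = ⊤ := by
  by_contra hne
  have h1 : IntMult.stalkIdeal 𝓙 (g z) ≤ maximalIdeal _ := le_maximalIdeal hne
  have h2 : (IntMult.stalkIdeal 𝓙 (g z)).map (g.stalkMap z).hom ≤ maximalIdeal _ := by
    rw [Ideal.map_le_iff_le_comap]
    intro a ha
    rw [Ideal.mem_comap, mem_maximalIdeal]
    intro hu
    exact (mem_maximalIdeal a).mp (h1 ha) ((isUnit_map_iff (g.stalkMap z).hom a).mp hu)
  rw [h] at h2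
  exact (Ideal.IsMaximal.ne_top inferInstance) (top_le_iff.mp h2)

/-- if the restriction of `𝓙` to the fibre through `x` is trivial, then `𝓙` is trivial at `x`. -/
theorem stalkIdeal_eq_top_of_comap_fiberι (x : X) (h : 𝓙.comap (f.fiberι (f x)) = ⊤) :
    IntMult.stalkIdeal 𝓙 x = ⊤ := by
  have h1 := congrArg (fun I => IntMult.stalkIdeal I (f.asFiber x)) h
  simp only [Groth.Agent.Lib.H9EffCartDesc.stalkIdeal_comap, stalkIdeal_top] at h1
  have h2 := stalkIdeal_eq_top_of_map_eq_top 𝓙 (f.fiberι (f x)) (f.asFiber x) h1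
  rwa [f.fiberι_asFiber x] at h2

/-- away from `y`, a generator of the maximal ideal of `O_{Y,y}` becomes a unit. -/
theorem psi_isUnit_of_ne (x : X) {y : Y} (t : Y.presheaf.stalk y)
    (ht : maximalIdeal (Y.presheaf.stalk y) = Ideal.span {t}) (h : f x ⤳ y) (hne : f x ≠ y) :
    IsUnit (psi f x h t) := by
  have h1 : IsUnit ((Y.presheaf.stalkSpecializes h).hom t) := by
    by_contra hnu
    apply hne
    have hmem : t ∈ RingHom.ker (Cyc.specMap y (f x) h) := by
      rw [RingHom.mem_ker]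
      unfold Cyc.specMap
      rw [CommRingCat.hom_comp, RingHom.comp_apply]
      exact (IsLocalRing.residue_eq_zero_iff _).mpr ((mem_maximalIdeal _).mpr hnu)
    have hle : maximalIdeal (Y.presheaf.stalk y) ≤ RingHom.ker (Cyc.specMap y (f x) h) := by
      rw [ht, Ideal.span_le, Set.singleton_subset_iff]; exact hmem
    have heq : RingHom.ker (Cyc.specMap y (f x) h) = maximalIdeal (Y.presheaf.stalk y) :=
      le_antisymm (le_maximalIdeal (RingHom.ker_ne_top _)) hle
    have h2 := Groth.Agent.Lib.R2H1.LocQuot.fromSpecStalk_ker_specMap y (f x) h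
    rw [← h2]
    have h3 : (⟨RingHom.ker (Cyc.specMap y (f x) h), inferInstance⟩ :
        PrimeSpectrum (Y.presheaf.stalk y)) = closedPoint (Y.presheaf.stalk y) :=
      PrimeSpectrum.ext heq
    rw [h3]
    exact Scheme.fromSpecStalk_closedPoint
  unfold psi
  rw [RingHom.comp_apply]
  exact h1.map _

end Groth.Agent.Lib.H9Div21Geo
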