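import Mathlib
import Groth.Prelude
import Groth.Agent.Lib.H9Div21Geo8

set_option autoImplicit false
set_option linter.style.haveILetI false
universe u

namespace Groth.Agent.Lib.H9Div21Geo

open AlgebraicGeometry CategoryTheory CategoryTheory.Limits TopologicalSpace IsLocalRing
open Groth.Agent.Lib.R2H1.CartierProd Groth.Agent.Lib.H9Div21Alg Groth.Agent.Lib.H9Div21Alg2

variable {X Y : Scheme.{u}} (f : X ⟶ Y) (𝓙 : X.IdealSheafData)

/-- two generators of a principal ideal generated by a nonzerodivisor differ by a unit. -/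
theorem exists_unit_of_span_eq {A : Type u} [CommRing A] (a b : A) (hb : b ∈ nonZeroDivisors A)
    (h : Ideal.span {a} = Ideal.span {b}) : ∃ v : A, IsUnit v ∧ a = v * b := by
  have h1 : a ∈ Ideal.span {b} := h ▸ Ideal.mem_span_singleton_self a
  have h2 : b ∈ Ideal.span {a} := h.symm ▸ Ideal.mem_span_singleton_self b
  obtain ⟨v, hv⟩ := Ideal.mem_span_singleton'.mp h1
  obtain ⟨v', hv'⟩ := Ideal.mem_span_singleton'.mp h2
  refine ⟨v, ?_, hv.symm⟩
  have h3 : (v' * v - 1) * b = 0 := by
    calc (v' * v - 1) * b = v' * (v * b) - b := by ring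
      _ = 0 := by rw [hv, hv']; ring
  have h4 := sub_eq_zero.mp ((mul_right_mem_nonZeroDivisors_eq_zero_iff hb).mp h3)
  exact IsUnit.of_mul_eq_one v' (by rw [mul_comm]; exact h4)

/-- the discrete valuation case: `HypAt` holds at a point `y` whose maximal ideal is generated by a
nonzerodivisor `t`, when the fibre over `y` is integral and `𝓙` is trivial over the proper
generizations of `y`. -/
theorem hypAt_of_dvr [IsLocallyNoetherian X] [IsLocallyNoetherian Y] [Flat f]
    (hJ : BlowUp.IsEffCartierIdeal 𝓙) (y : Y) (t : Y.presheaf.stalk y)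
    (ht : maximalIdeal (Y.presheaf.stalk y) = Ideal.span {t})
    (htreg : t ∈ nonZeroDivisors (Y.presheaf.stalk y)) [IsIntegral (f.fiber y)]
    (hGen : ∀ x : X, f x ⤳ y → f x ≠ y → IntMult.stalkIdeal 𝓙 x = ⊤) :
    HypAt f 𝓙 y := by
  have hfι : ∀ z : f.fiber y, f (f.fiberι y z) = y := fun z => by
    have : f.fiberι y z ∈ Set.range (f.fiberι y) := ⟨z, rfl⟩
    rw [Scheme.Hom.range_fiberι] at this; exact this
  have hsp : ∀ z : f.fiber y, f (f.fiberι y z) ⤳ y := fun z => specializes_of_eq (hfι z)
  have hker : ∀ z : f.fiber y, RingHom.ker ((f.fiberι y).stalkMap z).hom =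
      Ideal.span {psi f (f.fiberι y z) (hsp z) t} := by
    intro z
    rw [Groth.Agent.Lib.H9ModFibSch.ker_stalkMap_fiberι f y z,
      ← map_psi_maximalIdeal f (f.fiberι y z) (hsp z) (hfι z), ht, Ideal.map_span,
      Set.image_singleton]
  have hτreg : ∀ z : f.fiber y, psi f (f.fiberι y z) (hsp z) t ∈
      nonZeroDivisors (X.presheaf.stalk (f.fiberι y z)) := fun z =>
    map_mem_nonZeroDivisors_of_flat _ (flat_psi f _ (hsp z)) t htreg
  have hprime : ∀ z : f.fiber y, (Ideal.span {psi f (f.fiberι y z) (hsp z) t}).IsPrime := by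
    intro z
    rw [← hker z]
    exact RingHom.ker_isPrime _
  set ξ₀ := genericPoint (f.fiber y) with hξ₀
  set ξ := f.fiberι y ξ₀ with hξ
  -- the local ring at the generic point of the fibre
  have h𝔪ξ : maximalIdeal (X.presheaf.stalk ξ) = Ideal.span {psi f ξ (hsp ξ₀) t} := by
    rw [← hker ξ₀]
    symm
    apply IsLocalRing.eq_maximalIdeal
    letI : Field ((f.fiber y).presheaf.stalk ξ₀) :=
      inferInstanceAs (Field (f.fiber y).functionField)
    exact RingHom.ker_isMaximal_of_surjective _ ((f.fiberι y).stalkMap_surjective ξ₀)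
  obtain ⟨sξ, hsξ, hJξ⟩ := stalkIdeal_principal hJ ξ
  haveI : IsNoetherianRing (X.presheaf.stalk ξ) := inferInstance
  obtain ⟨n, w, hw, hswn⟩ := exists_unit_mul_pow (psi f ξ (hsp ξ₀) t) h𝔪ξ sξ
    (nonZeroDivisors.ne_zero hsξ)
  refine ⟨t ^ n, ?_⟩
  intro x h
  by_cases hxy : f x = y
  · obtain ⟨z, rfl⟩ : ∃ z, f.fiberι y z = x := by
      have : x ∈ f ⁻¹' {y} := hxy
      rw [← Scheme.Hom.range_fiberι] at this
      exact this
    obtain ⟨s, hs, hJs⟩ := stalkIdeal_principal hJ (f.fiberι y z)
    rw [hJs, map_pow]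
    haveI : IsNoetherianRing (X.presheaf.stalk (f.fiberι y z)) := inferInstance
    apply span_eq_span_pow (psi f (f.fiberι y z) h t) s (hτreg z) (hprime z) n
    · -- comparison with the generic point of the fibre
      have hξz : ξ ⤳ f.fiberι y z :=
        ((genericPoint_spec (f.fiber y)).specializes trivial).map (f.fiberι y).continuous
      have hspecτ : (X.presheaf.stalkSpecializes hξz).hom (psi f (f.fiberι y z) h t) =
          psi f ξ (hsp ξ₀) t := stalkSpecializes_psi f hξz h (hsp ξ₀) t
      have h𝔮ξ : RingHom.ker (Cyc.specMap (f.fiberι y z) ξ hξz) =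
          Ideal.span {psi f (f.fiberι y z) h t} := by
        apply le_antisymm
        · intro a ha
          have ha' : (X.presheaf.stalkSpecializes hξz).hom a ∈ maximalIdeal (X.presheaf.stalk ξ) := by
            rw [RingHom.mem_ker] at ha
            unfold Cyc.specMap at ha
            rw [CommRingCat.hom_comp, RingHom.comp_apply] at ha
            exact (IsLocalRing.residue_eq_zero_iff _).mp ha
          rw [h𝔪ξ, ← hker ξ₀, RingHom.mem_ker] at ha'
          have hmem : a ∈ RingHom.ker ((f.fiberι y).stalkMap z).hom := by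
            rw [RingHom.mem_ker]
            apply Groth.Agent.Lib.H9CartExt.stalkSpecializes_injective
              ((genericPoint_spec (f.fiber y)).specializes trivial : ξ₀ ⤳ z)
            rw [map_zero]
            have nat := Scheme.Hom.stalkSpecializes_stalkMap_apply (f.fiberι y) ξ₀ z
              ((genericPoint_spec (f.fiber y)).specializes trivial) a
            exact nat.symm.trans ha'
          rw [hker z] at hmem
          exact hmem
        · rw [Ideal.span_le, Set.singleton_subset_iff]
          show psi f (f.fiberι y z) h t ∈ RingHom.ker (Cyc.specMap (f.fiberι y z) ξ hξz)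
          rw [RingHom.mem_ker]
          unfold Cyc.specMap
          rw [CommRingCat.hom_comp, RingHom.comp_apply, hspecτ]
          apply (IsLocalRing.residue_eq_zero_iff _).mpr
          rw [h𝔪ξ]
          exact Ideal.mem_span_singleton_self _
      letI := (X.presheaf.stalkSpecializes hξz).hom.toAlgebra
      haveI hloc := Groth.Agent.Lib.R2H1.LocQuot.isLocalization_stalkSpecializes (f.fiberι y z) ξ hξz
      have hJξ' : Ideal.span {(X.presheaf.stalkSpecializes hξz).hom s} = Ideal.span {sξ} := by
        rw [← hJξ, ← Groth.Agent.Lib.H9CartExt.stalkIdeal_specializes 𝓙 hξz, hJs, Ideal.map_span,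
          Set.image_singleton]
      obtain ⟨v, hv, hsv⟩ := exists_unit_of_span_eq _ _ hsξ hJξ'
      -- `spec s = (v * w) * spec(τ)^n`
      have hs1 : (X.presheaf.stalkSpecializes hξz).hom s =
          (v * w) * (X.presheaf.stalkSpecializes hξz).hom (psi f (f.fiberι y z) h t ^ n) := by
        rw [map_pow, hspecτ, hsv, hswn]; ring
      obtain ⟨⟨c₂, c₁⟩, hc⟩ := IsLocalization.surj
        (RingHom.ker (Cyc.specMap (f.fiberι y z) ξ hξz)).primeCompl (v * w)
      have hc' : (v * w) * (X.presheaf.stalkSpecializes hξz).hom c₁ =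
          (X.presheaf.stalkSpecializes hξz).hom c₂ := hc
      have hc₂ : c₂ ∈ (RingHom.ker (Cyc.specMap (f.fiberι y z) ξ hξz)).primeCompl := by
        have hu : IsUnit ((X.presheaf.stalkSpecializes hξz).hom c₂) := by
          rw [← hc']
          exact (hv.mul hw).mul (IsLocalization.map_units (X.presheaf.stalk ξ) c₁)
        exact (IsLocalization.AtPrime.isUnit_to_map_iff (X.presheaf.stalk ξ)
          (RingHom.ker (Cyc.specMap (f.fiberι y z) ξ hξz)) c₂).mp hu
      have heq : (X.presheaf.stalkSpecializes hξz).hom ((c₁ : X.presheaf.stalk (f.fiberι y z)) * s) =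
          (X.presheaf.stalkSpecializes hξz).hom (c₂ * psi f (f.fiberι y z) h t ^ n) := by
        rw [map_mul, map_mul, hs1, ← hc']; ring
      obtain ⟨c₃, hc₃⟩ := (IsLocalization.eq_iff_exists
        (RingHom.ker (Cyc.specMap (f.fiberι y z) ξ hξz)).primeCompl (X.presheaf.stalk ξ)).mp heq
      have hnot : ∀ c ∈ (RingHom.ker (Cyc.specMap (f.fiberι y z) ξ hξz)).primeCompl,
          c ∉ Ideal.span {psi f (f.fiberι y z) h t} := by
        intro c hc hmem
        rw [← h𝔮ξ] at hmem
        exact hc hmem
      haveI := hprime z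
      refine ⟨c₃ * c₁, c₃ * c₂, ?_, ?_, ?_⟩
      · intro hmem
        rcases (hprime z).mem_or_mem hmem with h1 | h1
        · exact hnot _ c₃.2 h1
        · exact hnot _ c₁.2 h1
      · intro hmem
        rcases (hprime z).mem_or_mem hmem with h1 | h1
        · exact hnot _ c₃.2 h1
        · exact hnot _ hc₂ h1
      · rw [mul_assoc, mul_assoc]; exact hc₃
    · -- primes not containing `τ`
      intro 𝔮 h𝔮 hτ𝔮 hs𝔮
      haveI := h𝔮
      set x'' := X.fromSpecStalk (f.fiberι y z) ⟨𝔮, h𝔮⟩ with hx''
      have hsp'' : x'' ⤳ f.fiberι y z :=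
        Groth.Agent.Lib.Helper4.DimFormula.fromSpecStalk_specializes _ _
      have h'' : f x'' ⤳ y := (f.base.hom.map_specializes hsp'').trans h
      have hker'' : RingHom.ker (Cyc.specMap (f.fiberι y z) x'' hsp'') = 𝔮 :=
        Groth.Agent.Lib.R2H1.LocQuot.ker_specMap_fromSpecStalk _ 𝔮 hsp''
      have hne : f x'' ≠ y := by
        intro heq
        apply hτ𝔮
        rw [← hker'', RingHom.mem_ker]
        unfold Cyc.specMap
        rw [CommRingCat.hom_comp, RingHom.comp_apply, stalkSpecializes_psi f hsp'' h h'' t]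
        apply (IsLocalRing.residue_eq_zero_iff _).mpr
        apply psi_mem_maximalIdeal_of_eq f x'' h'' heq t
        rw [ht]; exact Ideal.mem_span_singleton_self t
      have h1 := hGen x'' h'' hne
      rw [← Groth.Agent.Lib.H9CartExt.stalkIdeal_specializes 𝓙 hsp'', hJs, Ideal.map_span,
        Set.image_singleton, Ideal.span_singleton_eq_top] at h1
      have h2 : s ∈ RingHom.ker (Cyc.specMap (f.fiberι y z) x'' hsp'') := by rw [hker'']; exact hs𝔮
      rw [RingHom.mem_ker] at h2
      unfold Cyc.specMap at h2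
      rw [CommRingCat.hom_comp, RingHom.comp_apply] at h2
      exact (mem_maximalIdeal _).mp ((IsLocalRing.residue_eq_zero_iff _).mp h2) h1
  · rw [hGen x h hxy, map_pow]
    symm
    rw [Ideal.span_singleton_eq_top]
    exact (psi_isUnit_of_ne f x t ht h hxy).pow n

end Groth.Agent.Lib.H9Div21Geo
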