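import Mathlib
import Groth.Prelude
import Groth.Agent.Lib.H9Blow2Alg
import Groth.Agent.Lib.H9ModPair5
import Groth.Agent.Lib.H9Div21Geo9
import Groth.Agent.Lib.H9CodimTwo

set_option autoImplicit false
set_option linter.style.haveILetI false
universe u

namespace Groth.Agent.Lib.H9Blow2Geo

open AlgebraicGeometry CategoryTheory CategoryTheory.Limits TopologicalSpace IsLocalRing
open nonZeroDivisors
open Groth.Agent.Lib.R2H1.CartierProd Groth.Agent.Lib.H9AffBlow Groth.Agent.Lib.H9AffBlow2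
open Groth.Agent.Lib.H9Blow2Alg Groth.Agent.Lib.Helper5.OrdVal

section general
variable {X Y : Scheme.{u}}

theorem comap_top' (g : X ⟶ Y) : (⊤ : Y.IdealSheafData).comap g = ⊤ := by
  rw [← Scheme.IdealSheafData.support_eq_bot_iff, Scheme.IdealSheafData.support_comap]
  apply SetLike.coe_injective
  rw [TopologicalSpace.Closeds.coe_preimage]
  simp

theorem comap_pow (g : X ⟶ Y) (I : Y.IdealSheafData) (n : ℕ) :
    (I ^ n).comap g = (I.comap g) ^ n := by
  induction n with
  | zero =>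
    rw [pow_zero, pow_zero]
    exact comap_top' g
  | succ n ih =>
    rw [pow_succ, pow_succ, Groth.Agent.Lib.Helper20.BlowUpBasic.comap_mul, ih]

theorem stalkIdeal_pow (I : X.IdealSheafData) (n : ℕ) (x : X) :
    IntMult.stalkIdeal (I ^ n) x = IntMult.stalkIdeal I x ^ n := by
  obtain ⟨_, ⟨U, hU, rfl⟩, hxU, -⟩ :=
    X.isBasis_affineOpens.exists_subset_of_mem_open (Set.mem_univ x) isOpen_univ
  rw [stalkIdeal_eq_map_germ (I ^ n) ⟨U, hU⟩ x hxU, stalkIdeal_eq_map_germ I ⟨U, hU⟩ x hxU,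
    Scheme.IdealSheafData.ideal_pow, Pi.pow_apply, Ideal.map_pow]

theorem isEffCartierIdeal_pow {I : X.IdealSheafData} (hI : BlowUp.IsEffCartierIdeal I) (n : ℕ) :
    BlowUp.IsEffCartierIdeal (I ^ n) := by
  induction n with
  | zero =>
    rw [pow_zero]
    exact Groth.Agent.Lib.Helper20.BlowUpBasic.isEffCartierIdeal_top
  | succ n ih =>
    rw [pow_succ]
    exact Groth.Agent.Lib.Helper20.BlowUpBasic.isEffCartierIdeal_mul ih hI

/-- outside the support the stalk ideal is the unit ideal. -/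
theorem stalkIdeal_eq_top_of_not_mem_support (I : X.IdealSheafData) (x : X)
    (hx : x ∉ I.support) : IntMult.stalkIdeal I x = ⊤ := by
  by_contra hne
  apply hx
  rw [Groth.Agent.Lib.R2H1.IntMultCartier.mem_support_iff_stalkIdeal_le I x x specializes_rfl]
  refine (le_maximalIdeal hne).trans ?_
  intro a ha
  rw [RingHom.mem_ker]
  unfold Cyc.specMap
  rw [CommRingCat.hom_comp, RingHom.comp_apply]
  apply (IsLocalRing.residue_eq_zero_iff _).mpr
  have : X.presheaf.stalkSpecializes (specializes_rfl : x ⤳ x) = 𝟙 _ :=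
    TopCat.Presheaf.stalkSpecializes_refl _ _
  rw [this]
  exact ha

/-- `K * (c) = (c)` with `c` a nonzerodivisor forces `K = ⊤`. -/
theorem eq_top_of_mul_span_eq {S : Type u} [CommRing S] (K : Ideal S) (c : S) (hc : c ∈ S⁰)
    (h : K * Ideal.span {c} = Ideal.span {c}) : K = ⊤ := by
  have h1 : c ∈ K * Ideal.span {c} := by rw [h]; exact Ideal.mem_span_singleton_self c
  rw [Ideal.mem_mul_span_singleton] at h1
  obtain ⟨k, hk, hkc⟩ := h1
  have h2 : (k - 1) * c = 0 := by rw [sub_mul, hkc, one_mul, sub_self]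
  have h3 := sub_eq_zero.mp ((mul_right_mem_nonZeroDivisors_eq_zero_iff hc).mp h2)
  rw [Ideal.eq_top_iff_one, ← h3]
  exact hk

end general

section spec
variable {A B : Type u} [CommRing A] [CommRing B] [Algebra A B]

/-- the canonical map `B → O_{Spec B, z}`. -/
noncomputable def θ (z : Spec (CommRingCat.of B)) :
    B →+* (Spec (CommRingCat.of B)).presheaf.stalk z :=
  ((Spec (CommRingCat.of B)).presheaf.germ ⊤ z trivial).hom.comp
    (Scheme.ΓSpecIso (CommRingCat.of B)).inv.hom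

theorem isUnit_θ_iff (z : Spec (CommRingCat.of B)) (r : B) :
    IsUnit (θ z r) ↔ r ∉ z.asIdeal := by
  have h1 := (Spec (CommRingCat.of B)).toRingedSpace.mem_basicOpen
    ((Scheme.ΓSpecIso (CommRingCat.of B)).inv.hom r) z (U := ⊤) trivial
  have h2 : (Spec (CommRingCat.of B)).basicOpen ((Scheme.ΓSpecIso (CommRingCat.of B)).inv.hom r) =
      PrimeSpectrum.basicOpen r := basicOpen_eq_of_affine (R := CommRingCat.of B) r
  constructor
  · intro hu
    have : z ∈ (Spec (CommRingCat.of B)).basicOpen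
        ((Scheme.ΓSpecIso (CommRingCat.of B)).inv.hom r) := h1.mpr hu
    rw [h2] at this
    exact this
  · intro hr
    have : z ∈ (Spec (CommRingCat.of B)).basicOpen
        ((Scheme.ΓSpecIso (CommRingCat.of B)).inv.hom r) := by
      rw [h2]; exact hr
    exact h1.mp this

theorem stalkIdeal_comap_SpecMap (I : Ideal A) (z : Spec (CommRingCat.of B)) :
    IntMult.stalkIdeal ((Curv2.idealSheaf A I).comap
      (Spec.map (CommRingCat.ofHom (algebraMap A B)))) z = (I.map (algebraMap A B)).map (θ z) := by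
  rw [stalkIdeal_eq_map_germ _ ⟨⊤, isAffineOpen_top _⟩ z trivial,
    ideal_comap_eq I _ ⊤ (isAffineOpen_top _), gmap_SpecMap, Ideal.map_map, Ideal.map_map]
  congr 1

end spec

section main

/-- the ideal sheaf of a principal ideal generated by a nonzerodivisor is effective Cartier. -/
theorem isEffCartier_idealSheaf_span {A : Type u} [CommRing A] (f : A) (hf : f ∈ A⁰) :
    BlowUp.IsEffCartierIdeal (Curv2.idealSheaf A (Ideal.span {f})) := by
  intro x
  refine ⟨⟨⊤, isAffineOpen_top _⟩, trivial,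
    (Scheme.ΓSpecIso (CommRingCat.of A)).inv.hom f, ?_, ?_⟩
  · have h := MulEquivClass.map_nonZeroDivisors
      (Scheme.ΓSpecIso (CommRingCat.of A)).symm.commRingCatIsoToRingEquiv
    rw [← h]
    exact Submonoid.mem_map_of_mem _ hf
  · simp only [Curv2.idealSheaf, Scheme.IdealSheafData.ofIdealTop_ideal]
    rw [Ideal.map_span, Set.image_singleton]
    have e : (Spec (CommRingCat.of A)).presheaf.map
        (homOfLE (le_refl (⊤ : (Spec (CommRingCat.of A)).Opens))).op = 𝟙 _ :=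
      CategoryTheory.Functor.map_id _ _
    exact (congrArg (fun φ => Ideal.map (CommRingCat.Hom.hom φ)
      (Ideal.span {(CommRingCat.Hom.hom (Scheme.ΓSpecIso (CommRingCat.of A)).inv) f})) e).trans
      (Ideal.map_id _)

theorem idealSheaf_ideal_top {A : Type u} [CommRing A] (I : Ideal A) :
    (Curv2.idealSheaf A I).ideal ⟨⊤, isAffineOpen_top _⟩ =
      I.map (Scheme.ΓSpecIso (CommRingCat.of A)).inv.hom := by
  simp only [Curv2.idealSheaf, Scheme.IdealSheafData.ofIdealTop_ideal]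
  have e : (Spec (CommRingCat.of A)).presheaf.map
      (homOfLE (le_refl (⊤ : (Spec (CommRingCat.of A)).Opens))).op = 𝟙 _ :=
    CategoryTheory.Functor.map_id _ _
  exact (congrArg (fun φ => Ideal.map (CommRingCat.Hom.hom φ)
    (I.map (Scheme.ΓSpecIso (CommRingCat.of A)).inv.hom)) e).trans (Ideal.map_id _)

theorem idealSheaf_le_pow {A : Type u} [CommRing A] (I K : Ideal A) (n : ℕ) (h : I ≤ K ^ n) :
    Curv2.idealSheaf A I ≤ Curv2.idealSheaf A K ^ n := by
  apply Scheme.IdealSheafData.le_of_isAffine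
  rw [Scheme.IdealSheafData.ideal_pow, Pi.pow_apply, idealSheaf_ideal_top, idealSheaf_ideal_top,
    ← Ideal.map_pow]
  exact Ideal.map_mono h

/-- The main theorem (S7928). -/
theorem main7928 (A : Type u) [CommRing A] [IsRegularLocalRing A] (hA : ringKrullDim A = 2)
    {X : Scheme.{u}} (b : X ⟶ Spec (CommRingCat.of A))
    (hb : BlowUp.IsBlowUp b (Curv2.idealSheaf A (IsLocalRing.maximalIdeal A)))
    (f : A) (μ : ℕ) (hf : f ∈ IsLocalRing.maximalIdeal A ^ μ)
    (hf' : f ∉ IsLocalRing.maximalIdeal A ^ (μ + 1)) :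
    (Curv2.idealSheaf A (Ideal.span {f})).comap b ≤
        BlowUp.exceptional b (Curv2.idealSheaf A (IsLocalRing.maximalIdeal A)) ^ μ ∧
      ¬ (Curv2.idealSheaf A (Ideal.span {f})).comap b ≤
        BlowUp.exceptional b (Curv2.idealSheaf A (IsLocalRing.maximalIdeal A)) ^ (μ + 1) ∧
      ∃ I' : X.IdealSheafData, BlowUp.IsEffCartierIdeal I' ∧
        (Curv2.idealSheaf A (Ideal.span {f})).comap b =
          I' * BlowUp.exceptional b (Curv2.idealSheaf A (IsLocalRing.maximalIdeal A)) ^ μ ∧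
        ¬ ((BlowUp.exceptional b (Curv2.idealSheaf A (IsLocalRing.maximalIdeal A))).support : Set X) ⊆
          (I'.support : Set X) := by
  haveI : IsDomain A := Groth.Agent.Lib.Helper5.isDomain_of_isRegularLocalRing A
  have hd : ringKrullDim A = ((2 : ℕ) : WithBot ℕ∞) := by rw [hA]; rfl
  obtain ⟨z, hz⟩ := Groth.Agent.Lib.Helper5.HilbertRLR.exists_regular_system hd
  obtain ⟨p, hp⟩ : ∃ p : Fin (1 + 1) → A, p = fun i => (z i : A) := ⟨_, rfl⟩
  have hpm : Ideal.span (Set.range p) = maximalIdeal A := by rw [hp]; exact hz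
  have hreg := Groth.Agent.Lib.Helper5.isRegular_ofFn_of_span_eq_maximalIdeal hd p hpm
  have hqr := Groth.Agent.S5802.Aux.QR.main A (1 + 1) p hreg.toIsWeaklyRegular
  have hgr := grDomain_of_isQuasiRegular p hpm hqr
  have hu := exactOrd_zero_of_isQuasiRegular p hpm hqr
  obtain ⟨u, hu'⟩ : ∃ u, u = p 0 := ⟨_, rfl⟩
  rw [← hu'] at hu
  have hum : u ∈ maximalIdeal A := by have := hu.1; rwa [pow_one] at this
  have hf0 : f ≠ 0 := by
    rintro rfl
    exact hf' (Ideal.zero_mem _)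
  -- notation
  obtain ⟨𝓜, h𝓜⟩ : ∃ 𝓜, 𝓜 = Curv2.idealSheaf A (maximalIdeal A) := ⟨_, rfl⟩
  obtain ⟨𝓕, h𝓕⟩ : ∃ 𝓕, 𝓕 = Curv2.idealSheaf A (Ideal.span {f}) := ⟨_, rfl⟩
  obtain ⟨E, hEd⟩ : ∃ E, E = 𝓜.comap b := ⟨_, rfl⟩
  obtain ⟨J, hJd⟩ : ∃ J, J = 𝓕.comap b := ⟨_, rfl⟩
  have hb' : BlowUp.IsBlowUp b 𝓜 := by rw [h𝓜]; exact hb
  have hE : BlowUp.IsEffCartierIdeal E := by rw [hEd]; exact hb'.1
  have hFcart : BlowUp.IsEffCartierIdeal 𝓕 := by
    rw [h𝓕]; exact isEffCartier_idealSheaf_span f (mem_nonZeroDivisors_of_ne_zero hf0)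
  have hJ : BlowUp.IsEffCartierIdeal J := by
    rw [hJd]
    exact Groth.Agent.Lib.Helper20.BlowUpBasic.isEffCartierIdeal_comap 𝓜 b hb' 𝓕 hFcart
  have hEμ : BlowUp.IsEffCartierIdeal (E ^ μ) := isEffCartierIdeal_pow hE μ
  have hle : J ≤ E ^ μ := by
    rw [hJd, hEd, ← comap_pow]
    apply Scheme.IdealSheafData.comap_mono
    rw [h𝓕, h𝓜]
    apply idealSheaf_le_pow
    rw [Ideal.span_le, Set.singleton_subset_iff]
    exact hf
  obtain ⟨I', hI'd⟩ : ∃ I', I' = Groth.Agent.Lib.H9ModPair5.colonIdeal J (E ^ μ)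
    (Groth.Agent.Lib.H9ModPair5.effCartier_fg hEμ) := ⟨_, rfl⟩
  have hmul : I' * E ^ μ = J := by
    rw [hI'd]; exact Groth.Agent.Lib.H9ModPair5.colonIdeal_mul hEμ hle
  have hI' : BlowUp.IsEffCartierIdeal I' :=
    Groth.Agent.Lib.H9ModPair2.isEffCartierIdeal_of_mul_eq hEμ hJ hmul
  -- the point
  obtain ⟨x, hxE, hxI'⟩ : ∃ x : X, x ∈ E.support ∧ x ∉ I'.support := by
    obtain ⟨g, hg⟩ := exists_mul_pow_of_mem_pow A (maximalIdeal A) u μ f hf
    obtain ⟨𝔭, h𝔭, hu𝔭, hg𝔭⟩ := exists_prime A hgr u hu f μ ⟨hf, hf'⟩ g hg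
    have hgen := affineAlgebra_map_eq_span A (maximalIdeal A) u hum
    have hunz := a_mem_nonZeroDivisors A (maximalIdeal A) u
    have hT : BlowUp.IsEffCartierIdeal (𝓜.comap (Spec.map (CommRingCat.ofHom
        (algebraMap A (BlowUp.affineAlgebra A (maximalIdeal A) u))))) := by
      rw [h𝓜]
      exact isEffCartier_comap_SpecMap (maximalIdeal A) _ hunz hgen
    obtain ⟨κ, hκ, -⟩ := hb'.2 _ _ hT
    have h2 : E.comap κ = 𝓜.comap (Spec.map (CommRingCat.ofHom
        (algebraMap A (BlowUp.affineAlgebra A (maximalIdeal A) u)))) := by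
      rw [hEd, ← Scheme.IdealSheafData.comap_comp, hκ]
    have h3 : J.comap κ = 𝓕.comap (Spec.map (CommRingCat.ofHom
        (algebraMap A (BlowUp.affineAlgebra A (maximalIdeal A) u)))) := by
      rw [hJd, ← Scheme.IdealSheafData.comap_comp, hκ]
    obtain ⟨z, hz⟩ : ∃ z : Spec (CommRingCat.of (BlowUp.affineAlgebra A (maximalIdeal A) u)),
        z.asIdeal = 𝔭 := ⟨⟨𝔭, h𝔭⟩, rfl⟩
    have hEz : IntMult.stalkIdeal (E.comap κ) z = Ideal.span {θ z (algebraMap A _ u)} := by
      rw [h2, h𝓜, stalkIdeal_comap_SpecMap, hgen, Ideal.map_span, Set.image_singleton]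
    have hJz : IntMult.stalkIdeal (J.comap κ) z =
        Ideal.span {θ z (algebraMap A _ u) ^ μ * θ z g} := by
      rw [h3, h𝓕, stalkIdeal_comap_SpecMap, Ideal.map_span, Set.image_singleton, Ideal.map_span,
        Set.image_singleton, hg, map_mul, map_pow]
    refine ⟨κ z, ?_, ?_⟩
    · by_contra hnot
      have htop := stalkIdeal_eq_top_of_not_mem_support E (κ z) hnot
      have h1 : IntMult.stalkIdeal (E.comap κ) z = ⊤ := by
        rw [Groth.Agent.Lib.H9EffCartDesc.stalkIdeal_comap, htop, Ideal.map_top]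
      rw [hEz, Ideal.span_singleton_eq_top, isUnit_θ_iff, hz] at h1
      exact h1 hu𝔭
    · intro hmem
      have hle' := Groth.Agent.Lib.H9CodimTwo.stalkIdeal_le_maximalIdeal I' (κ z) hmem
      have htop : IntMult.stalkIdeal I' (κ z) = ⊤ := by
        apply Groth.Agent.Lib.H9Div21Geo.stalkIdeal_eq_top_of_map_eq_top I' κ z
        rw [← Groth.Agent.Lib.H9EffCartDesc.stalkIdeal_comap]
        have hK : I'.comap κ * (E.comap κ) ^ μ = J.comap κ := by
          rw [← comap_pow, ← Groth.Agent.Lib.Helper20.BlowUpBasic.comap_mul, hmul]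
        have hKz := congrArg (fun I => IntMult.stalkIdeal I z) hK
        simp only [Groth.Agent.Lib.H9CodimTwo.stalkIdeal_mul, stalkIdeal_pow] at hKz
        rw [hEz, hJz, Ideal.span_singleton_pow] at hKz
        have hgu : IsUnit (θ z g) := by rw [isUnit_θ_iff, hz]; exact hg𝔭
        rw [Ideal.span_singleton_mul_right_unit hgu] at hKz
        -- nonzerodivisor
        obtain ⟨e', he', hEe'⟩ := stalkIdeal_principal (by rw [h2]; exact hT :
          BlowUp.IsEffCartierIdeal (E.comap κ)) z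
        rw [hEz] at hEe'
        obtain ⟨v, hv, hve⟩ := Groth.Agent.Lib.H9Div21Geo.exists_unit_of_span_eq _ _ he' hEe'
        have hnz : θ z (algebraMap A _ u) ∈ nonZeroDivisors _ := by
          rw [hve]
          exact mul_mem hv.mem_nonZeroDivisors he'
        exact eq_top_of_mul_span_eq _ _ (pow_mem hnz μ) hKz
      rw [htop] at hle'
      exact (Ideal.IsMaximal.ne_top inferInstance) (top_le_iff.mp hle')
  subst h𝓜 h𝓕 hEd hJd
  refine ⟨hle, ?_, I', hI', hmul.symm, fun hsub => hxI' (hsub hxE)⟩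
  intro hcon
  have h1 : I' * (Curv2.idealSheaf A (maximalIdeal A)).comap b ^ μ ≤
      (Curv2.idealSheaf A (maximalIdeal A)).comap b *
        (Curv2.idealSheaf A (maximalIdeal A)).comap b ^ μ := by
    rw [hmul, ← pow_succ']; exact hcon
  have h2 := Groth.Agent.Lib.H9ModPair2.le_of_mul_le_mul_right hEμ h1
  exact hxI' (Scheme.IdealSheafData.support_antitone h2 hxE)

end main

end Groth.Agent.Lib.H9Blow2Geo
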