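import Mathlib
import Groth.Prelude
import Groth.Agent.Lib.H9Div21Geo6
import Groth.Agent.Lib.Helper22IdealComap

set_option autoImplicit false
universe u

namespace Groth.Agent.Lib.H9BlowFlat

open AlgebraicGeometry CategoryTheory CategoryTheory.Limits TopologicalSpace

/-- effective Cartier ideals pull back along flat morphisms (no Noetherian hypothesis). -/
theorem effCartier_comap_of_flat {Z Y : Scheme.{u}} (g : Z ⟶ Y) [Flat g]
    (I : Y.IdealSheafData) (hI : BlowUp.IsEffCartierIdeal I) :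
    BlowUp.IsEffCartierIdeal (I.comap g) := by
  intro z
  obtain ⟨V, hzV, a, ha, hVa⟩ := hI (g z)
  obtain ⟨_, ⟨U, hU, rfl⟩, hzU, hUV⟩ := Z.isBasis_affineOpens.exists_subset_of_mem_open
    (show z ∈ ((g ⁻¹ᵁ V.1 : Z.Opens) : Set Z) from hzV) (g ⁻¹ᵁ V.1).isOpen
  refine ⟨⟨U, hU⟩, hzU, (g.appLE V.1 U hUV).hom a, ?_, ?_⟩
  · exact Groth.Agent.Lib.H9Div21Geo.map_mem_nonZeroDivisors_of_flat _
      (g.flat_appLE V.2 hU hUV) a ha
  · rw [Groth.Agent.Lib.Helper22.IdealComap.ideal_comap_eq_map g I ⟨U, hU⟩ V hUV, hVa,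
      Ideal.map_span, Set.image_singleton]

/-- **flat base change of a blowing up is a blowing up.** -/
theorem isBlowUp_pullback_snd_of_flat {X X' Z : Scheme.{u}} (b : X' ⟶ X) (𝓘 : X.IdealSheafData)
    (hb : BlowUp.IsBlowUp b 𝓘) (g : Z ⟶ X) [Flat g] :
    BlowUp.IsBlowUp (pullback.snd b g) (𝓘.comap g) := by
  refine ⟨?_, ?_⟩
  · rw [← Scheme.IdealSheafData.comap_comp, ← pullback.condition,
      Scheme.IdealSheafData.comap_comp]
    exact effCartier_comap_of_flat (pullback.fst b g) _ hb.1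
  · intro Y k hk
    rw [← Scheme.IdealSheafData.comap_comp] at hk
    obtain ⟨h, hh, huniq⟩ := hb.2 Y (k ≫ g) hk
    refine ⟨pullback.lift h k hh, pullback.lift_snd _ _ _, ?_⟩
    intro l hl
    apply pullback.hom_ext
    · rw [pullback.lift_fst]
      apply huniq
      rw [Category.assoc, pullback.condition, ← Category.assoc, hl]
    · rw [pullback.lift_snd, hl]

end Groth.Agent.Lib.H9BlowFlat
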