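import Mathlib
import Groth.Prelude
import Groth.Agent.Lib.H9BlowFlat
import Groth.Agent.Lib.H9BlowProper
import Groth.Agent.Lib.H9BlowExist
import Groth.Agent.Lib.Helper28RatliffC
import Groth.Agent.Lib.Helper19ComplNoeth

set_option autoImplicit false
set_option linter.style.haveILetI false
universe u

namespace Groth.Agent.Lib.H9BlowCpl

open AlgebraicGeometry CategoryTheory CategoryTheory.Limits TopologicalSpace IsLocalRing
open Groth.Agent.Lib.H9AffBlow

section general
variable {A : Type u} [CommRing A]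

theorem mem_support_idealSheaf_iff (I : Ideal A) (x : Spec (CommRingCat.of A)) :
    x ∈ (Curv2.idealSheaf A I).support ↔ I ≤ x.asIdeal := by
  rw [← SetLike.mem_coe]
  unfold Curv2.idealSheaf
  rw [Scheme.IdealSheafData.coe_support_ofIdealTop, Spec_zeroLocus]
  have hbij : Function.Bijective (Scheme.ΓSpecIso (CommRingCat.of A)).inv.hom :=
    (Scheme.ΓSpecIso (CommRingCat.of A)).symm.commRingCatIsoToRingEquiv.bijective
  constructor
  · intro h a ha
    replace h := (PrimeSpectrum.mem_zeroLocus (x : PrimeSpectrum A) _).mp h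
    exact h (Ideal.mem_map_of_mem _ ha)
  · intro h
    refine (PrimeSpectrum.mem_zeroLocus (x : PrimeSpectrum A) _).mpr ?_
    intro a ha
    have h2 : a ∈ (I.map (Scheme.ΓSpecIso (CommRingCat.of A)).inv.hom).comap
        (Scheme.ΓSpecIso (CommRingCat.of A)).inv.hom := ha
    rw [Ideal.comap_map_of_bijective _ hbij] at h2
    exact h h2

theorem comap_SpecMap_idealSheaf {B : Type u} [CommRing B] (φ : A →+* B) (I : Ideal A) :
    (Curv2.idealSheaf A I).comap (Spec.map (CommRingCat.ofHom φ)) =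
      Curv2.idealSheaf B (I.map φ) := by
  apply Scheme.IdealSheafData.ext_of_isAffine
  rw [ideal_comap_eq I (Spec.map (CommRingCat.ofHom φ)) ⊤ (isAffineOpen_top _), gmap_SpecMap]
  simp only [Curv2.idealSheaf, Scheme.IdealSheafData.ofIdealTop_ideal]
  have hres : (Spec (CommRingCat.of B)).presheaf.map
      (homOfLE (le_top : (⊤ : (Spec (CommRingCat.of B)).Opens) ≤ ⊤)).op = 𝟙 _ :=
    CategoryTheory.Functor.map_id _ _
  rw [hres, CommRingCat.hom_id, Ideal.map_id, Ideal.map_map]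
  congr 1

end general

section cpl
variable (A : Type u) [CommRing A] [IsLocalRing A] [IsNoetherianRing A]

local notation "Â" => AdicCompletion (maximalIdeal A) A
local notation "ι" => algebraMap A (AdicCompletion (maximalIdeal A) A)

/-- an ideal of the completion containing a power of the maximal ideal is extended from `A`. -/
theorem map_comap_eq_of_pow_le (𝔧 : Ideal Â) (n : ℕ) (hn : maximalIdeal Â ^ n ≤ 𝔧) :
    (𝔧.comap ι).map ι = 𝔧 ∧ maximalIdeal A ^ n ≤ 𝔧.comap ι := by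
  have hmax : maximalIdeal Â = (maximalIdeal A).map ι := AdicCompletion.maximalIdeal_eq_map
  have hpow : (maximalIdeal A ^ n).map ι ≤ 𝔧 := by
    rw [Ideal.map_pow, ← hmax]; exact hn
  have hle : maximalIdeal A ^ n ≤ 𝔧.comap ι := Ideal.map_le_iff_le_comap.mp hpow
  refine ⟨le_antisymm Ideal.map_comap_le ?_, hle⟩
  intro j hj
  obtain ⟨a, ha⟩ := Groth.Agent.Lib.Helper28.Ratliff.exists_sub_mem_map_pow_adicCompletion
    (maximalIdeal A) n j
  have h1 : ι a ∈ 𝔧 := by
    have : ι a = j - (j - ι a) := by ring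
    rw [this]
    exact 𝔧.sub_mem hj (hpow ha)
  have h2 : ι a ∈ (𝔧.comap ι).map ι := Ideal.mem_map_of_mem _ h1
  have h3 : j - ι a ∈ (𝔧.comap ι).map ι := Ideal.map_mono hle ha
  have : j = ι a + (j - ι a) := by ring
  rw [this]
  exact Ideal.add_mem _ h2 h3

theorem main7304 (Y : Scheme.{u}) (c : Y ⟶ Spec (CommRingCat.of (Curv2.cpl A)))
    (J : (Spec (CommRingCat.of (Curv2.cpl A))).IdealSheafData)
    (hJ : BlowUp.IsAdmissibleFor (FEt.puncturedSpec (Curv2.cpl A)) J) (hc : BlowUp.IsBlowUp c J) :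
    ∃ (I : (Spec (CommRingCat.of A)).IdealSheafData) (X : Scheme.{u})
      (b : X ⟶ Spec (CommRingCat.of A)),
      BlowUp.IsAdmissibleFor (FEt.puncturedSpec A) I ∧ BlowUp.IsBlowUp b I ∧
      ∃ e : Y ≅ Curv2.bcCpl A b, e.hom ≫ Curv2.bcCplSnd A b = c := by
  haveI : IsNoetherianRing Â :=
    Groth.Agent.Lib.Helper19.isNoetherianRing_adicCompletion (maximalIdeal A)
  obtain ⟨𝔧, h𝔧⟩ : ∃ 𝔧 : Ideal Â, J = Curv2.idealSheaf Â 𝔧 :=
    ⟨_, Groth.Agent.Lib.H9BlowProper.eq_idealSheaf J⟩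
  -- a power of the maximal ideal lies in 𝔧
  have hsupp : ∀ x : PrimeSpectrum Â, 𝔧 ≤ x.asIdeal → x = closedPoint Â := by
    intro x hx
    by_contra hne
    have h1 : x ∈ ((J.support : Closeds _) : Set (Spec (CommRingCat.of (Curv2.cpl A)))) := by
      rw [h𝔧]; exact (mem_support_idealSheaf_iff 𝔧 x).mpr hx
    have h2 : x ∈ ((FEt.puncturedSpec (Curv2.cpl A) : (Spec (CommRingCat.of (Curv2.cpl A))).Opens) :
        Set (Spec (CommRingCat.of (Curv2.cpl A)))) := hne
    exact Set.disjoint_left.mp hJ.2 h1 h2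
  obtain ⟨n, hn⟩ : ∃ n : ℕ, maximalIdeal Â ^ n ≤ 𝔧 := by
    apply Ideal.exists_pow_le_of_le_radical_of_fg _ (IsNoetherian.noetherian _)
    rw [Ideal.radical_eq_sInf]
    refine le_sInf ?_
    rintro P ⟨hP1, hP2⟩
    have := hsupp ⟨P, hP2⟩ hP1
    have h3 : P = (closedPoint Â).asIdeal := congrArg PrimeSpectrum.asIdeal this
    rw [h3]
    exact le_rfl
  obtain ⟨hmap, hle⟩ := map_comap_eq_of_pow_le A 𝔧 n hn
  set 𝔦 : Ideal A := 𝔧.comap ι with h𝔦
  refine ⟨Curv2.idealSheaf A 𝔦, ?_⟩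
  obtain ⟨X, b, hb⟩ := Groth.Agent.Lib.H9BlowExist.exists_isBlowUp (Curv2.idealSheaf A 𝔦)
  refine ⟨X, b, ⟨?_, ?_⟩, hb, ?_⟩
  · intro U
    haveI : IsNoetherianRing Γ(Spec (CommRingCat.of A), U.1) :=
      IsLocallyNoetherian.component_noetherian U
    exact IsNoetherian.noetherian _
  · rw [Set.disjoint_left]
    intro x hx hxU
    have h1 : 𝔦 ≤ x.asIdeal := (mem_support_idealSheaf_iff 𝔦 x).mp hx
    have h2 : maximalIdeal A ≤ x.asIdeal :=
      x.2.le_of_pow_le (hle.trans h1)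
    apply hxU
    show x = closedPoint A
    apply PrimeSpectrum.ext
    exact ((maximalIdeal.isMaximal A).eq_of_le x.2.ne_top h2).symm
  · haveI : Flat (Spec.map (CommRingCat.ofHom ι)) := by
      rw [Flat.SpecMap_iff]
      show (algebraMap A Â).Flat
      rw [RingHom.flat_algebraMap_iff]
      infer_instance
    have hbc := Groth.Agent.Lib.H9BlowFlat.isBlowUp_pullback_snd_of_flat b
      (Curv2.idealSheaf A 𝔦) hb (Spec.map (CommRingCat.ofHom ι))
    rw [comap_SpecMap_idealSheaf, hmap, ← h𝔧] at hbc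
    exact Groth.Agent.Lib.H9BlowProper.exists_iso_of_isBlowUp c _ J hc hbc

end cpl

end Groth.Agent.Lib.H9BlowCpl
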