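import Mathlib
import Groth.Prelude.Def_Red

/-!
# Scheme-theoretically dominant morphisms and separated targets (helper8)

* `Helper8SchDense.ext_of_schDominant`: two `S`-morphisms into a separated `S`-scheme which agree after
  precomposition with a scheme-theoretically dominant morphism are equal.
* `Helper8SchDense.schDominant_Spec_map`: `Spec.map φ` is scheme-theoretically dominant for injective `φ`.
* `Helper8SchDense.pow_eq_one_of_bc`: for a flat base `g` scheme-theoretically dominant quasi-compact and a
  flat separated group scheme `U`, `𝟙 ^ n = 1` may be tested on the base change along `g`.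
-/

set_option autoImplicit false
universe u
open CategoryTheory CategoryTheory.Limits AlgebraicGeometry MonObj

namespace Groth.Agent.Helper8SchDense

/-- Two `S`-morphisms into a separated `S`-scheme which agree after precomposition with a
scheme-theoretically dominant morphism are equal. -/
theorem ext_of_schDominant {S : Scheme.{u}} {X Y : Over S} [IsSeparated Y.hom] (a b : X ⟶ Y)
    {W : Scheme.{u}} (π : W ⟶ X.left) [IsSchemeTheoreticallyDominant π]
    (h : π ≫ a.left = π ≫ b.left) : a = b := by
  let W' : Over S := Over.mk (π ≫ X.hom)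
  let π' : W' ⟶ X := Over.homMk π rfl
  have hπ : π' ≫ a = π' ≫ b := by
    ext
    exact h
  let l : W' ⟶ equalizer a b := equalizer.lift π' hπ
  have hl : l ≫ equalizer.ι a b = π' := equalizer.lift_ι _ _
  have hker : (equalizer.ι a b).left.ker = ⊥ := by
    have h1 : (equalizer.ι a b).left.ker ≤ (l.left ≫ (equalizer.ι a b).left).ker :=
      Scheme.Hom.le_ker_comp _ _
    have h2 : l.left ≫ (equalizer.ι a b).left = π := by
      rw [← Over.comp_left, hl]
      rfl
    rw [h2, IsSchemeTheoreticallyDominant.ker_eq_bot π] at h1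
    exact le_bot_iff.mp h1
  have hiso : IsIso (equalizer.ι a b).left := IsClosedImmersion.isIso_iff_ker_eq_bot.mpr hker
  have hc : (equalizer.ι a b).left ≫ a.left = (equalizer.ι a b).left ≫ b.left := by
    rw [← Over.comp_left, ← Over.comp_left, equalizer.condition]
  ext
  exact (cancel_epi _).mp hc

/-- `Spec.map φ` is scheme-theoretically dominant for injective `φ`. -/
theorem schDominant_Spec_map {A B : CommRingCat.{u}} (φ : A ⟶ B)
    (hφ : Function.Injective φ.hom) : IsSchemeTheoreticallyDominant (Spec.map φ) := by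
  have hinj : Function.Injective (Spec.map φ).appTop := by
    have h1 : (Spec.map φ).appTop = (Scheme.ΓSpecIso A).hom ≫ φ ≫ (Scheme.ΓSpecIso B).inv := by
      rw [Scheme.ΓSpecIso_inv_naturality, Iso.hom_inv_id_assoc]
    rw [h1]
    intro x y hxy
    simp only [CommRingCat.comp_apply] at hxy
    have h2 := (ConcreteCategory.bijective_of_isIso (Scheme.ΓSpecIso B).inv).1 hxy
    have h3 := hφ h2
    exact (ConcreteCategory.bijective_of_isIso (Scheme.ΓSpecIso A).hom).1 h3
  refine ⟨Scheme.IdealSheafData.ext_of_isAffine ?_⟩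
  simp only [(Spec.map φ).ker_apply ⟨⊤, isAffineOpen_top _⟩, Scheme.IdealSheafData.ideal_bot,
    Pi.bot_apply, ← RingHom.injective_iff_ker_eq_bot]
  exact hinj

open MonoidalCategory CartesianMonoidalCategory

theorem map_left_fst {S S' : Scheme.{u}} (g : S' ⟶ S) {U V : Over S} (h : U ⟶ V) :
    ((Over.pullback g).map h).left ≫ pullback.fst V.hom g = pullback.fst U.hom g ≫ h.left := by
  simp
  exact pullback.lift_fst _ _ _

/-- For a scheme-theoretically dominant quasi-compact base change `g` and a flat separated group scheme `U`,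
`𝟙 ^ n = 1` may be tested on the base change along `g`. -/
theorem pow_eq_one_of_bc {S S' : Scheme.{u}} (g : S' ⟶ S) [IsSchemeTheoreticallyDominant g]
    [QuasiCompact g] (U : Over S) [GrpObj U] [Flat U.hom] [IsSeparated U.hom] (n : ℕ)
    (hn : (𝟙 (Red.bc g U) : Red.bc g U ⟶ Red.bc g U) ^ n = 1) :
    (𝟙 U : U ⟶ U) ^ n = 1 := by
  have e1 : (Over.pullback g).map ((𝟙 U : U ⟶ U) ^ n) = (Over.pullback g).map (1 : U ⟶ U) := by
    have := map_pow ((Over.pullback g).homMonoidHom (X := U) (M := U)) (𝟙 U) n
    simp only [Functor.homMonoidHom_apply] at this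
    rw [this, CategoryTheory.Functor.map_id, (Over.pullback g).map_one]
    exact hn
  apply ext_of_schDominant _ _ (pullback.fst U.hom g)
  rw [← map_left_fst g, ← map_left_fst g, e1]

/-- If `𝟙 ^ k = 1` in the monoid of endomorphisms-as-points and `ℓ` is prime to `k` then the `ℓ`-th power
map is an isomorphism. -/
theorem isIso_pow_of_coprime {C : Type*} [Category C] [CartesianMonoidalCategory C] (U : C) [MonObj U]
    (k ℓ : ℕ) (hk : (𝟙 U : U ⟶ U) ^ k = 1) (hc : Nat.Coprime ℓ k) :
    IsIso ((𝟙 U : U ⟶ U) ^ ℓ) := by
  rcases Nat.lt_or_ge 1 k with h1 | h1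
  · obtain ⟨m, -, hm⟩ := Nat.exists_mul_mod_eq_one_of_coprime hc h1
    have hm' : ℓ * m = k * (ℓ * m / k) + 1 := by
      have := Nat.div_add_mod (ℓ * m) k
      rw [hm] at this
      exact this.symm
    have key : (𝟙 U : U ⟶ U) ^ (ℓ * m) = 𝟙 U := by
      rw [hm', pow_succ, pow_mul, hk, one_pow, _root_.one_mul]
    refine ⟨(𝟙 U : U ⟶ U) ^ m, ?_, ?_⟩
    · rw [MonObj.comp_pow, Category.comp_id, ← pow_mul, key]
    · rw [MonObj.comp_pow, Category.comp_id, ← pow_mul, mul_comm, key]
  · interval_cases k
    · have : ℓ = 1 := by simpa using hc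
      subst this
      rw [pow_one]
      infer_instance
    · rw [pow_one] at hk
      rw [hk, one_pow, ← hk]
      infer_instance

end Groth.Agent.Helper8SchDense
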