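import Mathlib
import Groth.Prelude.Def_W4c6modpairsegaMP
import Groth.Agent.Lib.Helper11SchImage
import Groth.Agent.Lib.Helper8SchDense
import Groth.Agent.Lib.Helper20EffCartier
import Groth.Agent.S18732

/-! Modulus pairs: interiors are scheme-theoretically dense, scheme-theoretic closures of opens
(lifting, density, iso over the open), the product `mprod`, base change and composition of
abstract admissible blow-ups, separatedness-type uniqueness (helper9). -/

set_option autoImplicit false
universe u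
open CategoryTheory CategoryTheory.Limits AlgebraicGeometry TopologicalSpace

namespace Groth.Agent.Lib.H9ModPair1

open ModPair

-- ===== part 1 =====
section Part1



variable {X Y S T : Scheme.{u}}

/-- interior of a pulled-back ideal -/
theorem interior_comap (J : Y.IdealSheafData) (f : X ⟶ Y) :
    interior (J.comap f) = f ⁻¹ᵁ interior J := by
  ext x
  show x ∉ (J.comap f).support ↔ f x ∉ J.support
  rw [Scheme.IdealSheafData.support_comap]
  rfl

theorem interior_mono {I I' : X.IdealSheafData} (h : I ≤ I') : interior I ≤ interior I' := by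
  intro x hx hx'
  exact hx (Scheme.IdealSheafData.support_antitone h hx')

theorem interior_le_of_isAmbient {I : X.IdealSheafData} {J : Y.IdealSheafData} {f : X ⟶ Y}
    (h : IsAmbient I J f) : interior I ≤ f ⁻¹ᵁ interior J := by
  rw [← interior_comap]
  exact interior_mono h

theorem interior_eq_of_isMinimal {I : X.IdealSheafData} {J : Y.IdealSheafData} {f : X ⟶ Y}
    (h : IsMinimal I J f) : interior I = f ⁻¹ᵁ interior J := by
  rw [← interior_comap, h]

/-- an open containing, locally, the non-vanishing locus of a nonzerodivisor is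
scheme-theoretically dense -/
theorem dominant_of_local (O : X.Opens)
    (h : ∀ x : X, ∃ (W : X.Opens) (_ : IsAffineOpen W) (a : Γ(X, W)), x ∈ W ∧
      a ∈ nonZeroDivisors Γ(X, W) ∧ X.basicOpen a ≤ O) :
    IsSchemeTheoreticallyDominant O.ι := by
  rw [isSchemeTheoreticallyDominant_iff]
  choose W hW a hxW ha hle using h
  refine Scheme.IdealSheafData.ext_of_iSup_eq_top (fun y => ⟨W y, hW y⟩) ?_ ?_
  · rw [eq_top_iff]
    intro y _
    exact Opens.mem_iSup.mpr ⟨y, hxW y⟩
  intro y
  rw [Scheme.IdealSheafData.ideal_bot, Pi.bot_apply, eq_bot_iff]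
  refine (Scheme.Hom.ideal_ker_le _ _).trans ?_
  intro s hs
  rw [RingHom.mem_ker, Scheme.Opens.ι_app] at hs
  rw [Ideal.mem_bot]
  have hsub : X.basicOpen (a y) ≤ O.ι ''ᵁ O.ι ⁻¹ᵁ (W y) := by
    intro z hz
    exact ⟨⟨z, hle y hz⟩, X.basicOpen_le _ hz, rfl⟩
  have hres : s |_ (X.basicOpen (a y)) = 0 := by
    have h1 := (congrArg ((X.presheaf.map (homOfLE hsub).op).hom) hs).trans (map_zero _)
    have le2 : O.ι ''ᵁ O.ι ⁻¹ᵁ (W y) ≤ W y := Set.image_preimage_subset _ _
    calc s |_ (X.basicOpen (a y))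
        = (X.presheaf.map (homOfLE le2).op ≫ X.presheaf.map (homOfLE hsub).op).hom s := by
          rw [← Functor.map_comp]; rfl
      _ = 0 := h1
  obtain ⟨n, hn⟩ := exists_pow_mul_eq_zero_of_res_basicOpen_eq_zero_of_isAffineOpen _
    (hW y) s (a y) hres
  have hab : (a y) ^ n ∈ nonZeroDivisors Γ(X, W y) := pow_mem (ha y) n
  exact (mem_nonZeroDivisors_iff.mp hab).1 s hn

theorem basicOpen_le_interior (I : X.IdealSheafData) (U : X.affineOpens) (a : Γ(X, U.1))
    (ha : I.ideal U = Ideal.span {a}) : X.basicOpen a ≤ interior I := by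
  intro z hz hz'
  have hzU : z ∈ U.1 := X.basicOpen_le _ hz
  replace hz' : z ∈ I.support := hz'
  rw [Scheme.IdealSheafData.mem_support_iff_of_mem (U := U) hzU, Scheme.mem_zeroLocus_iff] at hz'
  exact hz' a (by rw [ha]; exact Ideal.mem_span_singleton_self _) hz

/-- the interior of an effective Cartier divisor is scheme-theoretically dense -/
theorem interior_ι_dominant (I : X.IdealSheafData) (hI : BlowUp.IsEffCartierIdeal I) :
    IsSchemeTheoreticallyDominant (interior I).ι := by
  apply dominant_of_local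
  intro x
  obtain ⟨U, hxU, f, hf, hIf⟩ := hI x
  exact ⟨U.1, U.2, f, hxU, hf, basicOpen_le_interior I U f hIf⟩


end Part1

-- ===== part 2 =====
section Part2



variable {X Y S T : Scheme.{u}}

/-- pushforward of ideal sheaves along a closed immersion is injective -/
theorem map_injective_of_isClosedImmersion (i : X ⟶ Y) [IsClosedImmersion i]
    {K K' : X.IdealSheafData} (h : K.map i = K'.map i) : K = K' := by
  refine Scheme.IdealSheafData.ext_of_iSup_eq_top
    (fun W : Y.affineOpens => ⟨i ⁻¹ᵁ W.1, W.2.preimage i⟩) ?_ ?_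
  · rw [eq_top_iff]
    intro x _
    obtain ⟨_, ⟨W, hW, rfl⟩, hxW, -⟩ := Y.isBasis_affineOpens.exists_subset_of_mem_open
      (Set.mem_univ (i x)) isOpen_univ
    exact Opens.mem_iSup.mpr ⟨⟨W, hW⟩, hxW⟩
  · intro W
    have h1 := Scheme.IdealSheafData.ideal_map_of_isAffineHom K i W
    have h2 := Scheme.IdealSheafData.ideal_map_of_isAffineHom K' i W
    rw [h] at h1
    have hsurj : Function.Surjective (i.app W.1).hom := Scheme.Hom.app_surjective i W.1 W.2
    exact Ideal.comap_injective_of_surjective _ hsurj (h1.symm.trans h2)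

/-- the canonical map to the scheme-theoretic image is scheme-theoretically dominant
(no quasi-compactness needed) -/
theorem toImage_dominant (f : X ⟶ Y) : IsSchemeTheoreticallyDominant f.toImage := by
  rw [isSchemeTheoreticallyDominant_iff]
  apply map_injective_of_isClosedImmersion f.imageι
  rw [Scheme.IdealSheafData.map_bot, ← Scheme.Hom.ker_comp, Scheme.Hom.toImage_imageι]
  exact (Scheme.IdealSheafData.ker_subschemeι _).symm

section Closure

variable {P : Scheme.{u}} (U : P.Opens)

/-- the canonical lift of `U` into an open of its scheme-theoretic closure containing it -/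
theorem exists_lift_toImage (O : U.ι.image.Opens) (h : U.ι.imageι ⁻¹ᵁ U ≤ O) :
    ∃ k : (U : Scheme.{u}) ⟶ O, k ≫ O.ι = U.ι.toImage := by
  have hr : Set.range U.ι.toImage ⊆ Set.range O.ι := by
    rintro _ ⟨x, rfl⟩
    rw [Scheme.Opens.range_ι]
    apply h
    show U.ι.imageι (U.ι.toImage x) ∈ U
    have h1 : U.ι.imageι (U.ι.toImage x) = U.ι x := by
      rw [← Scheme.Hom.comp_apply, Scheme.Hom.toImage_imageι]
    rw [h1]
    exact x.2
  exact ⟨IsOpenImmersion.lift O.ι U.ι.toImage hr, IsOpenImmersion.lift_fac _ _ _⟩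

/-- opens of the scheme-theoretic closure of `U` which contain `U` are scheme-theoretically dense -/
theorem dominant_of_preimage_le (O : U.ι.image.Opens) (h : U.ι.imageι ⁻¹ᵁ U ≤ O) :
    IsSchemeTheoreticallyDominant O.ι := by
  obtain ⟨k, hk⟩ := exists_lift_toImage U O h
  rw [isSchemeTheoreticallyDominant_iff, eq_bot_iff]
  have h1 := Scheme.Hom.le_ker_comp k O.ι
  rw [hk, (toImage_dominant U.ι).ker_eq_bot] at h1
  exact h1

/-- a morphism mapping a scheme-theoretically dense open into `U` factors through the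
scheme-theoretic closure of `U` -/
theorem exists_lift_image {W : Scheme.{u}} (W₀ : W.Opens) [IsSchemeTheoreticallyDominant W₀.ι]
    (c₀ : W ⟶ P) (h : W₀ ≤ c₀ ⁻¹ᵁ U) : ∃ c : W ⟶ U.ι.image, c ≫ U.ι.imageι = c₀ := by
  have hr : Set.range (W₀.ι ≫ c₀) ⊆ Set.range U.ι := by
    rintro _ ⟨x, rfl⟩
    rw [Scheme.Opens.range_ι]
    exact h x.2
  refine Groth.Agent.Lib.Helper11SchImage.exists_lift_of_dominant W₀.ι c₀
    (IsOpenImmersion.lift U.ι (W₀.ι ≫ c₀) hr ≫ U.ι.toImage) U.ι.imageι ?_
  rw [Category.assoc, Scheme.Hom.toImage_imageι, IsOpenImmersion.lift_fac]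

/-- the scheme-theoretic closure of `U` agrees with `U` over `U` -/
theorem isIso_imageι_restrict (U' : P.Opens) (hU' : U' = U) : IsIso (U.ι.imageι ∣_ U') := by
  subst hU'
  obtain ⟨k, hk⟩ := exists_lift_toImage U' (U'.ι.imageι ⁻¹ᵁ U') le_rfl
  have h1 : k ≫ (U'.ι.imageι ∣_ U') = 𝟙 _ := by
    rw [← cancel_mono U'.ι, Category.assoc, morphismRestrict_ι, ← Category.assoc, hk,
      Scheme.Hom.toImage_imageι, Category.id_comp]
  have : IsSplitEpi (U'.ι.imageι ∣_ U') := ⟨⟨⟨k, h1⟩⟩⟩
  have : Mono (U'.ι.imageι ∣_ U') := by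
    have : Mono ((U'.ι.imageι ∣_ U') ≫ U'.ι) := by
      rw [morphismRestrict_ι]
      infer_instance
    exact mono_of_mono _ U'.ι
  exact isIso_of_mono_of_isSplitEpi _

end Closure


end Part2

-- ===== part 3 =====
section Part3



variable {X S T : Scheme.{u}} (f : X ⟶ S) (g : T ⟶ S) (I : X.IdealSheafData)
  (J : T.IdealSheafData)

theorem preimage_prodInterior_le_fst :
    mprodι f g I J ⁻¹ᵁ prodInterior f g I J ≤
      (mprodι f g I J ≫ pullback.fst f g) ⁻¹ᵁ interior I := by
  intro z hz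
  exact hz.1

theorem preimage_prodInterior_le_snd :
    mprodι f g I J ⁻¹ᵁ prodInterior f g I J ≤
      (mprodι f g I J ≫ pullback.snd f g) ⁻¹ᵁ interior J := by
  intro z hz
  exact hz.2

theorem effCartier_comap_fst (hI : BlowUp.IsEffCartierIdeal I) :
    BlowUp.IsEffCartierIdeal (I.comap (mprodι f g I J ≫ pullback.fst f g)) := by
  haveI : IsSchemeTheoreticallyDominant
      ((mprodι f g I J ≫ pullback.fst f g) ⁻¹ᵁ interior I).ι :=
    dominant_of_preimage_le (prodInterior f g I J) _ (preimage_prodInterior_le_fst f g I J)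
  exact (Groth.Agent.S18732.result I hI (mprodι f g I J ≫ pullback.fst f g)).2

theorem effCartier_comap_snd (hJ : BlowUp.IsEffCartierIdeal J) :
    BlowUp.IsEffCartierIdeal (J.comap (mprodι f g I J ≫ pullback.snd f g)) := by
  haveI : IsSchemeTheoreticallyDominant
      ((mprodι f g I J ≫ pullback.snd f g) ⁻¹ᵁ interior J).ι :=
    dominant_of_preimage_le (prodInterior f g I J) _ (preimage_prodInterior_le_snd f g I J)
  exact (Groth.Agent.S18732.result J hJ (mprodι f g I J ≫ pullback.snd f g)).2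

/-- factorisation through the closure of the product of interiors -/
theorem exists_lift_mprod {W : Scheme.{u}} (IW : W.IdealSheafData)
    (hW : BlowUp.IsEffCartierIdeal IW) (c₀ : W ⟶ pullback f g)
    (h₁ : interior IW ≤ (c₀ ≫ pullback.fst f g) ⁻¹ᵁ interior I)
    (h₂ : interior IW ≤ (c₀ ≫ pullback.snd f g) ⁻¹ᵁ interior J) :
    ∃ c : W ⟶ mprod f g I J, c ≫ mprodι f g I J = c₀ := by
  haveI := interior_ι_dominant IW hW
  refine exists_lift_image (prodInterior f g I J) (interior IW) c₀ ?_
  intro z hz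
  exact ⟨h₁ hz, h₂ hz⟩


end Part3

-- ===== part 4 =====
section Part4



variable {X S T : Scheme.{u}} (f : X ⟶ S) (g : T ⟶ S) (I : X.IdealSheafData)
  (J : T.IdealSheafData)

theorem comap_fst_le_comap_snd (IS : S.IdealSheafData) (hf : IsAmbient I IS f) (hg : IsMinimal J IS g)
    {Y : Scheme.{u}} (m : Y ⟶ pullback f g) :
    I.comap (m ≫ pullback.fst f g) ≤ J.comap (m ≫ pullback.snd f g) := by
  have hg' : J = IS.comap g := hg
  have h1 : J.comap (m ≫ pullback.snd f g) = (IS.comap f).comap (m ≫ pullback.fst f g) := by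
    rw [hg', ← Scheme.IdealSheafData.comap_comp, ← Scheme.IdealSheafData.comap_comp,
      Category.assoc, Category.assoc, pullback.condition]
  rw [h1]
  exact Scheme.IdealSheafData.comap_mono (m ≫ pullback.fst f g) hf


end Part4

-- ===== part 5 =====
section Part5



variable {X S T : Scheme.{u}}

/-- base change of a morphism which is an isomorphism over an open -/
theorem isIso_snd_restrict (s : X ⟶ S) (g : T ⟶ S) (V : S.Opens) [IsIso (s ∣_ V)]
    (O : T.Opens) (hO : O ≤ g ⁻¹ᵁ V) : IsIso (pullback.snd s g ∣_ O) := by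
  have A := isPullback_morphismRestrict (pullback.snd s g) O
  have B : IsPullback (pullback.snd s g) (pullback.fst s g) g s :=
    (IsPullback.of_hasPullback s g).flip
  have AB := A.paste_vert B
  have hr1 : Set.range (O.ι ≫ g) ⊆ Set.range V.ι := by
    rintro _ ⟨x, rfl⟩
    rw [Scheme.Opens.range_ι]
    exact hO x.2
  have hr2 : Set.range ((pullback.snd s g ⁻¹ᵁ O).ι ≫ pullback.fst s g) ⊆
      Set.range (s ⁻¹ᵁ V).ι := by
    rintro _ ⟨x, rfl⟩
    rw [Scheme.Opens.range_ι]
    show s (pullback.fst s g x.1) ∈ V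
    have h1 : s (pullback.fst s g x.1) = g (pullback.snd s g x.1) := by
      rw [← Scheme.Hom.comp_apply, ← Scheme.Hom.comp_apply, pullback.condition]
    rw [h1]
    exact hO x.2
  let h : (O : Scheme.{u}) ⟶ V := IsOpenImmersion.lift V.ι (O.ι ≫ g) hr1
  have hh : h ≫ V.ι = O.ι ≫ g := IsOpenImmersion.lift_fac _ _ _
  let v : ((pullback.snd s g ⁻¹ᵁ O : (pullback s g).Opens) : Scheme.{u}) ⟶ (s ⁻¹ᵁ V : X.Opens) :=
    IsOpenImmersion.lift (s ⁻¹ᵁ V).ι ((pullback.snd s g ⁻¹ᵁ O).ι ≫ pullback.fst s g) hr2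
  have hv : v ≫ (s ⁻¹ᵁ V).ι = (pullback.snd s g ⁻¹ᵁ O).ι ≫ pullback.fst s g :=
    IsOpenImmersion.lift_fac _ _ _
  have C := isPullback_morphismRestrict s V
  rw [← hh, ← hv] at AB
  have hcomm : (pullback.snd s g ∣_ O) ≫ h = v ≫ (s ∣_ V) := by
    rw [← cancel_mono V.ι, Category.assoc, Category.assoc, hh, morphismRestrict_ι,
      ← Category.assoc, ← Category.assoc, hv, morphismRestrict_ι, Category.assoc, Category.assoc,
      pullback.condition]
  have D : IsPullback (pullback.snd s g ∣_ O) v h (s ∣_ V) := IsPullback.of_bot AB hcomm C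
  exact (MorphismProperty.isomorphisms Scheme.{u}).of_isPullback D.flip
    (MorphismProperty.isomorphisms.infer_property _)

theorem snd_preimage_eq (s : X ⟶ S) (g : T ⟶ S) (IS : S.IdealSheafData) (IX : X.IdealSheafData)
    (IT : T.IdealSheafData) (hs : IsMinimal IX IS s) (hg : IsAmbient IT IS g) :
    pullback.snd s g ⁻¹ᵁ interior IT = prodInterior s g IX IT := by
  apply le_antisymm
  · intro z hz
    refine ⟨?_, hz⟩
    show pullback.fst s g z ∈ interior IX
    rw [interior_eq_of_isMinimal hs]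
    show s (pullback.fst s g z) ∈ interior IS
    have h1 : s (pullback.fst s g z) = g (pullback.snd s g z) := by
      rw [← Scheme.Hom.comp_apply, ← Scheme.Hom.comp_apply, pullback.condition]
    rw [h1]
    exact interior_le_of_isAmbient hg hz
  · intro z hz
    exact hz.2

/-- base change of an abstract admissible blow-up along an ambient morphism -/
theorem isAdmBlowup_mprod (s : X ⟶ S) (g : T ⟶ S) (IS : S.IdealSheafData) (IX : X.IdealSheafData)
    (IT : T.IdealSheafData) (hs : IsAdmBlowup IX IS s) (hg : IsAmbient IT IS g) :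
    IsAdmBlowup (IT.comap (mprodι s g IX IT ≫ pullback.snd s g)) IT
      (mprodι s g IX IT ≫ pullback.snd s g) := by
  obtain ⟨hmin, hprop, hiso⟩ := hs
  refine ⟨rfl, inferInstance, ?_⟩
  rw [morphismRestrict_comp]
  have h1 : IsIso (mprodι s g IX IT ∣_ pullback.snd s g ⁻¹ᵁ interior IT) :=
    isIso_imageι_restrict (prodInterior s g IX IT) _ (snd_preimage_eq s g IS IX IT hmin hg)
  have h2 : IsIso (pullback.snd s g ∣_ interior IT) :=
    isIso_snd_restrict s g (interior IS) (interior IT) (interior_le_of_isAmbient hg)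
  exact @IsIso.comp_isIso _ _ _ _ _ _ _ h1 h2

theorem isAmbient_mprod_fst (s : X ⟶ S) (g : T ⟶ S) (IS : S.IdealSheafData)
    (IX : X.IdealSheafData) (IT : T.IdealSheafData) (hs : IsMinimal IX IS s)
    (hg : IsAmbient IT IS g) :
    IsAmbient (IT.comap (mprodι s g IX IT ≫ pullback.snd s g)) IX
      (mprodι s g IX IT ≫ pullback.fst s g) := by
  have h := comap_fst_le_comap_snd g s IT IX IS hg hs
    (mprodι s g IX IT ≫ (pullbackSymmetry s g).hom)
  rw [Category.assoc, Category.assoc, pullbackSymmetry_hom_comp_fst,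
    pullbackSymmetry_hom_comp_snd] at h
  exact h


end Part5

-- ===== part 6 =====
section Part6



variable {X Y Y' : Scheme.{u}}

theorem isIso_restrict_of_eq (f : X ⟶ Y) (U U' : Y.Opens) (h : U = U') (hU : IsIso (f ∣_ U)) :
    IsIso (f ∣_ U') := by
  subst h
  exact hU

theorem isAdmBlowup_id (I : X.IdealSheafData) : IsAdmBlowup I I (𝟙 X) :=
  ⟨(Scheme.IdealSheafData.comap_id I).symm, inferInstance, inferInstance⟩

theorem isAdmBlowup_comp {Z : Scheme.{u}} (IX : X.IdealSheafData) (IY : Y.IdealSheafData)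
    (IZ : Z.IdealSheafData) (f : X ⟶ Y) (g : Y ⟶ Z) (hf : IsAdmBlowup IX IY f)
    (hg : IsAdmBlowup IY IZ g) : IsAdmBlowup IX IZ (f ≫ g) := by
  obtain ⟨hf1, hf2, hf3⟩ := hf
  obtain ⟨hg1, hg2, hg3⟩ := hg
  refine ⟨?_, inferInstance, ?_⟩
  · show IX = IZ.comap (f ≫ g)
    have hf1' : IX = IY.comap f := hf1
    have hg1' : IY = IZ.comap g := hg1
    rw [Scheme.IdealSheafData.comap_comp, ← hg1', ← hf1']
  · rw [morphismRestrict_comp]
    have h1 : IsIso (f ∣_ g ⁻¹ᵁ interior IZ) :=
      isIso_restrict_of_eq f _ _ (interior_eq_of_isMinimal hg1) hf3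
    exact @IsIso.comp_isIso _ _ _ _ _ _ _ h1 hg3

/-- ambient morphisms which agree after an abstract admissible blow-up agree -/
theorem eq_of_comp_admBlowup (IX : X.IdealSheafData) (IY : Y.IdealSheafData)
    (IY' : Y'.IdealSheafData) (hX : BlowUp.IsEffCartierIdeal IX) (f₁ f₂ : X ⟶ Y)
    (h₁ : IsAmbient IX IY f₁) (h₂ : IsAmbient IX IY f₂) (s : Y ⟶ Y')
    (hs : IsAdmBlowup IY IY' s) (h : f₁ ≫ s = f₂ ≫ s) : f₁ = f₂ := by
  obtain ⟨hs1, hs2, hs3⟩ := hs
  haveI := interior_ι_dominant IX hX
  have hYV : interior IY = s ⁻¹ᵁ interior IY' := interior_eq_of_isMinimal hs1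
  have hmono : Mono ((s ⁻¹ᵁ interior IY').ι ≫ s) := by
    rw [← morphismRestrict_ι]
    infer_instance
  have hr : ∀ f : X ⟶ Y, IsAmbient IX IY f →
      Set.range ((interior IX).ι ≫ f) ⊆ Set.range (s ⁻¹ᵁ interior IY').ι := by
    intro f hf
    rintro _ ⟨x, rfl⟩
    rw [Scheme.Opens.range_ι, ← hYV]
    exact interior_le_of_isAmbient hf x.2
  have hk : IsOpenImmersion.lift (s ⁻¹ᵁ interior IY').ι ((interior IX).ι ≫ f₁) (hr f₁ h₁) =
      IsOpenImmersion.lift (s ⁻¹ᵁ interior IY').ι ((interior IX).ι ≫ f₂) (hr f₂ h₂) := by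
    rw [← cancel_mono ((s ⁻¹ᵁ interior IY').ι ≫ s), ← Category.assoc, ← Category.assoc,
      IsOpenImmersion.lift_fac, IsOpenImmersion.lift_fac, Category.assoc, Category.assoc, h]
  have hι : (interior IX).ι ≫ f₁ = (interior IX).ι ≫ f₂ := by
    rw [← IsOpenImmersion.lift_fac (s ⁻¹ᵁ interior IY').ι ((interior IX).ι ≫ f₁) (hr f₁ h₁), hk,
      IsOpenImmersion.lift_fac]
  haveI : IsSeparated (Over.mk s).hom := by
    show IsSeparated s
    infer_instance
  have := Groth.Agent.Helper8SchDense.ext_of_schDominant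
    (X := Over.mk (f₁ ≫ s)) (Y := Over.mk s) (Over.homMk f₁ rfl) (Over.homMk f₂ h.symm)
    (interior IX).ι hι
  exact congrArg CommaMorphism.left this


end Part6

end Groth.Agent.Lib.H9ModPair1
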