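import Mathlib
import Groth.Prelude.Def_BlowUp2
import Groth.Agent.Lib.Helper20BlowUp
import Groth.Agent.Lib.H9BlowComp
import Groth.Agent.Lib.H9BlowProper
import Groth.Agent.Lib.H9ModPair1
import Groth.Agent.Lib.H9ModPair3

set_option autoImplicit false
universe u
open nonZeroDivisors CategoryTheory CategoryTheory.Limits AlgebraicGeometry TopologicalSpace Opposite
open Groth.Agent.Lib.Helper20.BlowUpBasic

namespace Groth.Agent.Lib.H9BlowDisj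

/-- comaximal ideal sheaves: intersection is the product. -/
theorem inf_eq_mul_of_sup_eq_top {X : Scheme.{u}} (I₁ I₂ : X.IdealSheafData) (h : I₁ ⊔ I₂ = ⊤) :
    I₁ ⊓ I₂ = I₁ * I₂ := by
  ext U : 2
  rw [Scheme.IdealSheafData.ideal_inf, Scheme.IdealSheafData.ideal_mul]
  have h1 : I₁.ideal U ⊔ I₂.ideal U = ⊤ := by
    have := congrArg (fun I => Scheme.IdealSheafData.ideal I U) h
    simpa using this
  exact (Ideal.mul_eq_inf_of_isCoprime (Ideal.isCoprime_iff_sup_eq.mpr h1)).symm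

theorem mem_compl_or {X : Scheme.{u}} (I₁ I₂ : X.IdealSheafData) (h : I₁ ⊔ I₂ = ⊤) (x : X) :
    x ∈ compl I₁ ∨ x ∈ compl I₂ := by
  by_contra hc
  rw [not_or] at hc
  have h1 : x ∈ I₁.support := by
    by_contra h1; exact hc.1 h1
  have h2 : x ∈ I₂.support := by
    by_contra h2; exact hc.2 h2
  have h3 : x ∈ (I₁ ⊔ I₂).support := by
    rw [Scheme.IdealSheafData.support_sup]
    exact ⟨h1, h2⟩
  rw [h, Scheme.IdealSheafData.support_top] at h3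
  exact h3


variable {X B₁ B₂ : Scheme.{u}} (I₁ I₂ : X.IdealSheafData)
  (σ₁ : B₁ ⟶ X) (σ₂ : B₂ ⟶ X)

/-- on the fibre product of the blow-ups of two disjoint centres, the inverse image of the second
centre is effective Cartier. -/
theorem effCartier_comap_fst (hdisj : I₁ ⊔ I₂ = ⊤) (hσ₁ : BlowUp.IsBlowUp σ₁ I₁)
    (hσ₂ : BlowUp.IsBlowUp σ₂ I₂) :
    BlowUp.IsEffCartierIdeal ((I₂.comap σ₁).comap (pullback.fst σ₁ σ₂)) := by
  apply Groth.Agent.Lib.H9ModPair3.isEffCartierIdeal_of_cover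
  intro x
  set ρ := pullback.fst σ₁ σ₂ ≫ σ₁ with hρ
  rcases mem_compl_or I₁ I₂ hdisj (ρ x) with hx | hx
  · -- over the complement of `I₁`, `snd` is an isomorphism onto an open of `B₂`
    let V : B₂.Opens := σ₂ ⁻¹ᵁ compl I₁
    haveI : IsIso (σ₁ ∣_ compl I₁) := isIso_morphismRestrict I₁ σ₁ hσ₁
    haveI : IsIso (pullback.snd σ₁ σ₂ ∣_ V) :=
      Groth.Agent.Lib.H9ModPair1.isIso_snd_restrict σ₁ σ₂ (compl I₁) V le_rfl
    refine ⟨_, (pullback.snd σ₁ σ₂ ⁻¹ᵁ V).ι, inferInstance, ?_, ?_⟩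
    · rw [Scheme.Opens.range_ι]
      change σ₂ (pullback.snd σ₁ σ₂ x) ∈ compl I₁
      have : σ₂ (pullback.snd σ₁ σ₂ x) = ρ x := by
        rw [hρ, ← Scheme.Hom.comp_apply, pullback.condition]
      rw [this]; exact hx
    · have key : (pullback.snd σ₁ σ₂ ⁻¹ᵁ V).ι ≫ pullback.fst σ₁ σ₂ ≫ σ₁ =
          ((pullback.snd σ₁ σ₂ ∣_ V) ≫ V.ι) ≫ σ₂ := by
        rw [pullback.condition, morphismRestrict_ι, Category.assoc]
      have h2 := Groth.Agent.Lib.H9BlowGlue.effCartier_comap_of_isOpenImmersion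
        (I₂.comap σ₂) hσ₂.1 ((pullback.snd σ₁ σ₂ ∣_ V) ≫ V.ι)
      rw [← Scheme.IdealSheafData.comap_comp, ← key, Scheme.IdealSheafData.comap_comp,
        Scheme.IdealSheafData.comap_comp] at h2
      exact h2
  · let O : (pullback σ₁ σ₂).Opens := ρ ⁻¹ᵁ compl I₂
    refine ⟨_, O.ι, inferInstance, ?_, ?_⟩
    · rw [Scheme.Opens.range_ι]; exact hx
    · rw [← Scheme.IdealSheafData.comap_comp, ← Scheme.IdealSheafData.comap_comp,
        comap_eq_top_of_le]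
      · exact isEffCartierIdeal_top
      · intro y
        exact y.2


/-- for disjoint centres, the projection of the fibre product of the two blow-ups to the first is
a blow-up of the inverse image of the second centre. -/
theorem isBlowUp_fst (hdisj : I₁ ⊔ I₂ = ⊤) (hσ₁ : BlowUp.IsBlowUp σ₁ I₁)
    (hσ₂ : BlowUp.IsBlowUp σ₂ I₂) :
    BlowUp.IsBlowUp (pullback.fst σ₁ σ₂) (I₂.comap σ₁) := by
  refine ⟨effCartier_comap_fst I₁ I₂ σ₁ σ₂ hdisj hσ₁ hσ₂, ?_⟩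
  intro Y g hg
  rw [← Scheme.IdealSheafData.comap_comp] at hg
  obtain ⟨h, hh, hu⟩ := hσ₂.2 Y (g ≫ σ₁) hg
  refine ⟨pullback.lift g h hh.symm, pullback.lift_fst _ _ _, ?_⟩
  intro k hk
  apply pullback.hom_ext
  · rw [pullback.lift_fst]; exact hk
  · rw [pullback.lift_snd]
    apply hu
    rw [Category.assoc, ← pullback.condition, ← Category.assoc, hk]

/-- for disjoint centres, the fibre product of the two blow-ups is a blow-up of the
intersection. -/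
theorem isBlowUp_pullback (hdisj : I₁ ⊔ I₂ = ⊤) (hσ₁ : BlowUp.IsBlowUp σ₁ I₁)
    (hσ₂ : BlowUp.IsBlowUp σ₂ I₂) :
    BlowUp.IsBlowUp (pullback.fst σ₁ σ₂ ≫ σ₁) (I₁ ⊓ I₂) := by
  rw [inf_eq_mul_of_sup_eq_top I₁ I₂ hdisj]
  exact Groth.Agent.Lib.H9BlowComp.isBlowUp_comp_mul I₁ I₂ σ₁ hσ₁ _
    (isBlowUp_fst I₁ I₂ σ₁ σ₂ hdisj hσ₁ hσ₂)

theorem main {B : Scheme.{u}} (hdisj : I₁ ⊔ I₂ = ⊤)
    (σ : B ⟶ X) (hσ : BlowUp.IsBlowUp σ (I₁ ⊓ I₂))
    (hσ₁ : BlowUp.IsBlowUp σ₁ I₁) (hσ₂ : BlowUp.IsBlowUp σ₂ I₂) :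
    ∃ ι : B ⟶ pullback σ₁ σ₂, IsIso ι ∧ ι ≫ pullback.fst σ₁ σ₂ ≫ σ₁ = σ := by
  obtain ⟨e, he⟩ := Groth.Agent.Lib.H9BlowProper.exists_iso_of_isBlowUp σ
    (pullback.fst σ₁ σ₂ ≫ σ₁) (I₁ ⊓ I₂) hσ (isBlowUp_pullback I₁ I₂ σ₁ σ₂ hdisj hσ₁ hσ₂)
  exact ⟨e.hom, inferInstance, he⟩


end Groth.Agent.Lib.H9BlowDisj
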