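import Mathlib
import Groth.Agent.Lib.H9AffBlow2
import Groth.Agent.Lib.Helper20BlowUp
import Groth.Prelude.Def_BlowUp2
import Groth.Prelude.Def_CurvBase

/-! helper9: blow-up of `Spec A` (A a domain) in an ideal: `η` generic point, `η_mem_compl`, `eq_of_map_eq` (b injective over the complement of the centre), `exists_over_η`, `exists_generization` (every point of the blow-up is a specialisation of a point over the generic point, with reduced local ring; via charts `H9AffBlow2.main`). -/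

set_option autoImplicit false
universe u

namespace Groth.Agent.Lib.H9BlowUniA

open CategoryTheory CategoryTheory.Limits AlgebraicGeometry TopologicalSpace Opposite
open Groth.Agent.Lib.Helper20.BlowUpBasic

variable (A : Type u) [CommRing A] [IsDomain A] (𝔞 : Ideal A)

/-- the generic point of `Spec A`. -/
noncomputable def η : ↥(Spec (CommRingCat.of A)) := (⟨⊥, Ideal.isPrime_bot⟩ : PrimeSpectrum A)

theorem η_mem_compl (h𝔞 : 𝔞 ≠ ⊥) : η A ∈ compl (Curv2.idealSheaf A 𝔞) := by
  change η A ∉ ((Curv2.idealSheaf A 𝔞).support : Set _)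
  unfold Curv2.idealSheaf
  rw [Scheme.IdealSheafData.coe_support_ofIdealTop, Spec_zeroLocus]
  intro hmem
  apply h𝔞
  replace hmem : (⟨⊥, Ideal.isPrime_bot⟩ : PrimeSpectrum A) ∈ PrimeSpectrum.zeroLocus
      (⇑(ConcreteCategory.hom (Scheme.ΓSpecIso (CommRingCat.of A)).inv) ⁻¹'
        ↑(Ideal.map (CommRingCat.Hom.hom (Scheme.ΓSpecIso (CommRingCat.of A)).inv) 𝔞)) := hmem
  rw [PrimeSpectrum.mem_zeroLocus] at hmem
  rw [eq_bot_iff]
  intro a ha
  have : (Scheme.ΓSpecIso (CommRingCat.of A)).inv.hom a ∈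
      (Ideal.map (Scheme.ΓSpecIso (CommRingCat.of A)).inv.hom 𝔞 : Set _) :=
    Ideal.mem_map_of_mem _ ha
  have h2 := hmem this
  simpa using h2

variable {A 𝔞} {X : Scheme.{u}} (b : X ⟶ Spec (CommRingCat.of A))

theorem eq_of_map_eq (hb : BlowUp.IsBlowUp b (Curv2.idealSheaf A 𝔞)) (x₁ x₂ : X)
    (h₁ : b x₁ ∈ compl (Curv2.idealSheaf A 𝔞)) (h : b x₁ = b x₂) : x₁ = x₂ := by
  haveI := isIso_morphismRestrict _ b hb
  set W := compl (Curv2.idealSheaf A 𝔞)
  have h₂ : b x₂ ∈ W := h ▸ h₁
  have hinj : Function.Injective (b ∣_ W) :=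
    (TopCat.homeoOfIso (asIso (b ∣_ W).base)).injective
  have : (⟨x₁, h₁⟩ : ↥(b ⁻¹ᵁ W)) = ⟨x₂, h₂⟩ := by
    apply hinj
    apply Subtype.ext
    rw [morphismRestrict_base_coe, morphismRestrict_base_coe]
    exact h
  exact congrArg Subtype.val this

theorem exists_over_η (hb : BlowUp.IsBlowUp b (Curv2.idealSheaf A 𝔞)) (h𝔞 : 𝔞 ≠ ⊥) :
    ∃ ξ : X, b ξ = η A := by
  haveI := isIso_morphismRestrict _ b hb
  set W := compl (Curv2.idealSheaf A 𝔞)
  have hsurj : Function.Surjective (b ∣_ W) :=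
    (TopCat.homeoOfIso (asIso (b ∣_ W).base)).surjective
  obtain ⟨z, hz⟩ := hsurj ⟨η A, η_mem_compl A 𝔞 h𝔞⟩
  refine ⟨z.1, ?_⟩
  rw [← morphismRestrict_base_coe, hz]

/-- every point of the blow-up is a specialization of a point over the generic point, and its
local ring is reduced. -/
theorem exists_generization (hb : BlowUp.IsBlowUp b (Curv2.idealSheaf A 𝔞)) (x' : X) :
    (∃ z : X, b z = η A ∧ z ⤳ x') ∧ _root_.IsReduced (X.presheaf.stalk x') := by
  obtain ⟨a, ha, V, e, hx', he⟩ := Groth.Agent.Lib.H9AffBlow2.main A 𝔞 b hb x'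
  set B := ↥(BlowUp.affineAlgebra A 𝔞 a) with hB
  let p : PrimeSpectrum B := e.hom.base ⟨x', hx'⟩
  haveI hBnt : Nontrivial B := (PrimeSpectrum.nonempty_iff_nontrivial).mp ⟨p⟩
  haveI : Nontrivial (Localization.Away a) := by
    refine ⟨⟨0, 1, fun h01 => ?_⟩⟩
    exact zero_ne_one (α := B) (Subtype.ext h01)
  have ha0 : a ≠ 0 := by
    rintro rfl
    haveI := IsLocalization.subsingleton (M := Submonoid.powers (0 : A))
      (S := Localization.Away (0 : A)) ⟨1, by simp⟩
    exact not_subsingleton (Localization.Away (0 : A)) this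
  have hle : Submonoid.powers a ≤ nonZeroDivisors A :=
    powers_le_nonZeroDivisors_of_noZeroDivisors ha0
  haveI : IsDomain (Localization.Away a) := IsLocalization.isDomain_of_le_nonZeroDivisors (M := Submonoid.powers a) _ hle
  haveI : IsDomain B := inferInstance
  have hinj : Function.Injective (algebraMap A B) := by
    intro r s hrs
    have := congrArg (Subtype.val) hrs
    exact IsLocalization.injective (M := Submonoid.powers a) (Localization.Away a) hle this
  -- the generic point of the chart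
  let η' : ↥(Spec (CommRingCat.of B)) := (⟨⊥, Ideal.isPrime_bot⟩ : PrimeSpectrum B)
  let ηV : V.toScheme := e.inv.base η'
  have hbη : b (V.ι ηV) = η A := by
    rw [← Scheme.Hom.comp_apply, ← he, Scheme.Hom.comp_apply]
    have : e.hom ηV = η' := by
      change e.hom (e.inv η') = η'
      rw [← Scheme.Hom.comp_apply, e.inv_hom_id]; rfl
    rw [this]
    apply PrimeSpectrum.ext
    change Ideal.comap (algebraMap A B) ⊥ = ⊥
    rw [← RingHom.ker_eq_comap_bot]
    exact (RingHom.injective_iff_ker_eq_bot _).mp hinj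
  have hspV : ηV ⤳ (⟨x', hx'⟩ : V.toScheme) := by
    have h1 : η' ⤳ e.hom.base ⟨x', hx'⟩ := by
      change (⟨⊥, Ideal.isPrime_bot⟩ : PrimeSpectrum B) ⤳ p
      rw [← PrimeSpectrum.le_iff_specializes]
      exact bot_le (a := p.asIdeal)
    have h2 : e.inv.base η' ⤳ e.inv.base (e.hom.base ⟨x', hx'⟩) := h1.map e.inv.base.hom.2
    have h3 : e.inv.base (e.hom.base ⟨x', hx'⟩) = ⟨x', hx'⟩ := by
      rw [← Scheme.Hom.comp_apply, e.hom_inv_id]; rfl
    rw [h3] at h2
    exact h2
  refine ⟨⟨V.ι ηV, hbη, ?_⟩, ?_⟩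
  · exact hspV.map V.ι.base.hom.2
  · haveI : IsReduced (Spec (CommRingCat.of B)) := inferInstance
    haveI : IsReduced V.toScheme := isReduced_of_isOpenImmersion e.hom
    exact isReduced_of_injective (V.stalkIso ⟨x', hx'⟩).inv.hom
      (V.stalkIso ⟨x', hx'⟩).symm.commRingCatIsoToRingEquiv.injective

end Groth.Agent.Lib.H9BlowUniA
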