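import Mathlib
import Groth.Agent.Lib.H9BlowUniA
import Groth.Agent.Lib.H9UniFib
import Groth.Agent.Lib.H9BlowProper
import Groth.Agent.Lib.Helper6UniA

/-! helper9: for `b : X ⟶ Spec A` a blow-up (frozen `BlowUp.IsBlowUp`) of a domain `A` in a nonzero ideal: `isIntegral` (X integral), `map_genericPoint`, `isIso_stalkMap` (b is birational: iso on function fields). -/

set_option autoImplicit false
universe u

namespace Groth.Agent.Lib.H9BlowUniB

open CategoryTheory CategoryTheory.Limits AlgebraicGeometry TopologicalSpace Opposite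
open Groth.Agent.Lib.Helper20.BlowUpBasic Groth.Agent.Lib.H9BlowUniA

variable {A : Type u} [CommRing A] [IsDomain A] {𝔞 : Ideal A}
variable {X : Scheme.{u}} (b : X ⟶ Spec (CommRingCat.of A))

theorem isIntegral (hb : BlowUp.IsBlowUp b (Curv2.idealSheaf A 𝔞)) (h𝔞 : 𝔞 ≠ ⊥) : IsIntegral X := by
  obtain ⟨ξ, hξ⟩ := exists_over_η b hb h𝔞
  have hgen : ∀ x' : X, ξ ⤳ x' := by
    intro x'
    obtain ⟨⟨z, hz, hzx⟩, -⟩ := exists_generization b hb x'
    have : z = ξ := eq_of_map_eq b hb z ξ (by rw [hz]; exact η_mem_compl A 𝔞 h𝔞) (hz.trans hξ.symm)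
    exact this ▸ hzx
  haveI : IrreducibleSpace X := by
    have h1 : IsIrreducible (closure {ξ} : Set X) := isIrreducible_singleton.closure
    have h2 : closure {ξ} = (Set.univ : Set X) := by
      apply Set.eq_univ_of_forall; intro x'
      exact (specializes_iff_mem_closure).mp (hgen x')
    rw [h2] at h1
    exact (irreducibleSpace_def X).mpr h1
  haveI : ∀ x : X, _root_.IsReduced (X.presheaf.stalk x) := fun x => (exists_generization b hb x).2
  haveI : IsReduced X := isReduced_of_isReduced_stalk X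
  exact isIntegral_of_irreducibleSpace_of_isReduced X

theorem map_genericPoint [IsIntegral X] (hb : BlowUp.IsBlowUp b (Curv2.idealSheaf A 𝔞)) :
    b (genericPoint X) = genericPoint (Spec (CommRingCat.of A)) := by
  obtain ⟨⟨z, hz, hzx⟩, -⟩ := exists_generization b hb (genericPoint X)
  have h2 : genericPoint X ⤳ z := genericPoint_specializes z
  have : z = genericPoint X := (hzx.antisymm h2).eq
  rw [← this, hz, genericPoint_eq_bot_of_affine]
  rfl

theorem isIso_stalkMap [IsIntegral X] (hb : BlowUp.IsBlowUp b (Curv2.idealSheaf A 𝔞))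
    (h𝔞 : 𝔞 ≠ ⊥) : IsIso (b.stalkMap (genericPoint X)) := by
  haveI := isIso_morphismRestrict _ b hb
  set W := compl (Curv2.idealSheaf A 𝔞)
  have hmem : genericPoint X ∈ b ⁻¹ᵁ W := by
    change b (genericPoint X) ∈ W
    rw [map_genericPoint b hb, genericPoint_eq_bot_of_affine]
    exact η_mem_compl A 𝔞 h𝔞
  have e := morphismRestrictStalkMap b W ⟨genericPoint X, hmem⟩
  have h1 : IsIso ((b ∣_ W).stalkMap ⟨genericPoint X, hmem⟩) := inferInstance
  exact ((MorphismProperty.isomorphisms CommRingCat).arrow_mk_iso_iff e).mp h1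

end Groth.Agent.Lib.H9BlowUniB
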