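import Mathlib
import Groth.Agent.Lib.H9BlowUniB

/-! helper9: `stalkSpecializes_bijective_of_eq`, `isEmpty_of_bot` (blow-up in the zero ideal is empty), `unibranch_stalk` (A local unibranch ⇒ stalk of Spec A at closed point unibranch), `main` (= S4472: closed fibre of a blow-up of a unibranch Noetherian local domain is preconnected; via H9UniFib.main). -/

set_option autoImplicit false
universe u

namespace Groth.Agent.Lib.H9BlowUniC

open CategoryTheory CategoryTheory.Limits AlgebraicGeometry TopologicalSpace Opposite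
open Groth.Agent.Lib.Helper20.BlowUpBasic Groth.Agent.Lib.H9BlowUniA Groth.Agent.Lib.H9BlowUniB

theorem stalkSpecializes_bijective_of_eq {Y : Scheme.{u}} {x y : Y} (h : x ⤳ y) (e : x = y) :
    Function.Bijective (Y.presheaf.stalkSpecializes h).hom := by
  subst e
  rw [TopCat.Presheaf.stalkSpecializes_refl]
  exact Function.bijective_id

theorem isEmpty_of_bot {Y X : Scheme.{u}} (b : X ⟶ Y)
    (hb : BlowUp.IsEffCartierIdeal ((⊥ : Y.IdealSheafData).comap b)) : IsEmpty X := by
  refine ⟨fun x => ?_⟩
  obtain ⟨U, hxU, f, hf, hU⟩ := hb x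
  rw [Scheme.IdealSheafData.comap_bot] at hU
  have hf0 : f = 0 := by
    have : f ∈ Ideal.span {f} := Ideal.mem_span_singleton_self f
    rw [← hU] at this
    exact this
  subst hf0
  haveI : Subsingleton Γ(X, U.1) := by
    by_contra hns
    rw [not_subsingleton_iff_nontrivial] at hns
    exact zero_notMem_nonZeroDivisors hf
  have h1 : X.basicOpen (1 : Γ(X, U.1)) = U.1 := by simp
  have h0 : X.basicOpen (0 : Γ(X, U.1)) = ⊥ := by simp
  have : U.1 = ⊥ := by
    rw [← h1, Subsingleton.elim (1 : Γ(X, U.1)) 0, h0]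
  rw [this] at hxU
  exact hxU

theorem unibranch_stalk (A : Type u) [CommRing A] [IsLocalRing A] (hA : CAlg2.IsUnibranch A) :
    CAlg2.IsUnibranch ((Spec (CommRingCat.of A)).presheaf.stalk (IsLocalRing.closedPoint A)) := by
  let e1 : A ≃ₐ[A] Localization.AtPrime (IsLocalRing.maximalIdeal A) :=
    IsLocalization.atUnits A (IsLocalRing.maximalIdeal A).primeCompl (fun x hx => by
      rw [Ideal.mem_primeCompl_iff] at hx
      exact IsLocalRing.notMem_maximalIdeal.mp hx)
  let e2 := (Spec.stalkIso (CommRingCat.of A) (IsLocalRing.closedPoint A)).commRingCatIsoToRingEquiv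
  exact Groth.Agent.Lib.Helper6.Uni.isUnibranch_of_ringEquiv (e1.toRingEquiv.trans e2.symm) hA

theorem main (A : Type u) [CommRing A] [IsDomain A]
    [IsNoetherianRing A] [IsLocalRing A] (hA : CAlg2.IsUnibranch A) (𝔞 : Ideal A)
    {X : Scheme.{u}}
    (b : X ⟶ Spec (CommRingCat.of A))
    (hb : BlowUp.IsBlowUp b
      (Scheme.IdealSheafData.ofIdealTop (𝔞.map (Scheme.ΓSpecIso (CommRingCat.of A)).inv.hom))) :
    PreconnectedSpace ↥(b.fiber (IsLocalRing.closedPoint A)) := by
  by_cases h𝔞 : 𝔞 = ⊥
  · subst h𝔞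
    have hbot : (Scheme.IdealSheafData.ofIdealTop
        ((⊥ : Ideal A).map (Scheme.ΓSpecIso (CommRingCat.of A)).inv.hom)) = ⊥ := by
      rw [Ideal.map_bot]
      exact map_bot (Scheme.IdealSheafData.equivOfIsAffine
        (X := Spec (CommRingCat.of A))).symm
    rw [hbot] at hb
    haveI := isEmpty_of_bot b hb.1
    haveI : IsEmpty ↥(b.fiber (IsLocalRing.closedPoint A)) :=
      Function.isEmpty (b.fiberι (IsLocalRing.closedPoint A)).base
    infer_instance
  · have hb' : BlowUp.IsBlowUp b (Curv2.idealSheaf A 𝔞) := hb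
    haveI := isIntegral b hb' h𝔞
    have hft : BlowUp.IsFiniteTypeIdeal (Curv2.idealSheaf A 𝔞) := by
      intro U
      haveI : IsNoetherianRing Γ(Spec (CommRingCat.of A), U.1) :=
        IsLocallyNoetherian.component_noetherian U
      exact IsNoetherian.noetherian _
    haveI : IsProper b := Groth.Agent.Lib.H9BlowProper.isProper_of_isBlowUp b _ hft hb'
    have hgp := map_genericPoint b hb'
    have hdom : b (genericPoint X) ⤳ genericPoint (Spec (CommRingCat.of A)) := by rw [hgp]
    haveI := isIso_stalkMap b hb' h𝔞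
    have hsurj : Function.Surjective
        (CohIII.stalkToFunctionField b (genericPoint (Spec (CommRingCat.of A))) hdom) := by
      unfold CohIII.stalkToFunctionField
      rw [RingHom.coe_comp]
      exact (ConcreteCategory.bijective_of_isIso (b.stalkMap (genericPoint X))).2.comp
        (stalkSpecializes_bijective_of_eq hdom hgp).2
    have := Groth.Agent.Lib.H9UniFib.main b hdom (fun x _ => ⟨0, by
      rw [pow_zero, pow_one]; exact hsurj x⟩) (IsLocalRing.closedPoint A) (unibranch_stalk A hA)
    exact this.toPreconnectedSpace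

end Groth.Agent.Lib.H9BlowUniC
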