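import Mathlib
import Groth.Agent.S5802

set_option autoImplicit false
set_option linter.style.haveILetI false
set_option linter.unusedSectionVars false
universe u v w

namespace Groth.Agent.Lib.H9CAlg417

-- ===== from WR1 =====
section SecWR1
open MvPolynomial

section Setup

variable (R : Type u) {A : Type v} [CommRing R] [CommRing A] [Algebra R A] {d : ℕ} (x : Fin d → A)
  (N : ℕ)

/-- the ideal generated by the sequence -/
abbrev JJ : Ideal A := Ideal.span (Set.range x)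

/-- the image of `J` in `A/J^N` -/
abbrev Jbar : Ideal (A ⧸ JJ x ^ N) := (JJ x).map (Ideal.Quotient.mk (JJ x ^ N))

/-- the projection `A/J^N → A/J` -/
noncomputable abbrev proj (hN : 1 ≤ N) : (A ⧸ JJ x ^ N) →ₐ[R] (A ⧸ JJ x) :=
  Ideal.Quotient.factorₐ R (Ideal.pow_le_self (Nat.one_le_iff_ne_zero.mp hN))

theorem proj_mk (hN : 1 ≤ N) (a : A) :
    proj R x N hN (Ideal.Quotient.mk _ a) = Ideal.Quotient.mk _ a := rfl

theorem proj_surjective (hN : 1 ≤ N) : Function.Surjective (proj R x N hN) := by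
  intro b
  obtain ⟨a, rfl⟩ := Ideal.Quotient.mk_surjective b
  exact ⟨Ideal.Quotient.mk _ a, rfl⟩

theorem ker_proj (hN : 1 ≤ N) :
    RingHom.ker ((proj R x N hN : (A ⧸ JJ x ^ N) →ₐ[R] (A ⧸ JJ x)) : (A ⧸ JJ x ^ N) →+* (A ⧸ JJ x)) =
      Jbar x N := by
  ext q
  obtain ⟨a, rfl⟩ := Ideal.Quotient.mk_surjective q
  rw [RingHom.mem_ker]
  change Ideal.Quotient.mk (JJ x) a = 0 ↔ _
  rw [Ideal.Quotient.eq_zero_iff_mem]
  constructor
  · intro h
    exact Ideal.mem_map_of_mem _ h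
  · intro h
    obtain ⟨a', ha', he⟩ := (Ideal.mem_map_iff_of_surjective _ Ideal.Quotient.mk_surjective).mp h
    have : a' - a ∈ JJ x ^ N := Ideal.Quotient.eq.mp he
    have h2 : a' - a ∈ JJ x := Ideal.pow_le_self (Nat.one_le_iff_ne_zero.mp hN) this
    have : a = a' - (a' - a) := by ring
    rw [this]
    exact Ideal.sub_mem _ ha' h2

theorem Jbar_pow (n : ℕ) : Jbar x N ^ n = (JJ x ^ n).map (Ideal.Quotient.mk (JJ x ^ N)) := by
  rw [Ideal.map_pow]

theorem Jbar_pow_self : Jbar x N ^ N = ⊥ := by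
  rw [Jbar_pow, Ideal.map_quotient_self]

theorem isNilpotent_ker_proj (hN : 1 ≤ N) :
    IsNilpotent (RingHom.ker ((proj R x N hN : (A ⧸ JJ x ^ N) →ₐ[R] (A ⧸ JJ x)) :
      (A ⧸ JJ x ^ N) →+* (A ⧸ JJ x))) := by
  rw [ker_proj]
  exact ⟨N, by rw [Jbar_pow_self, Ideal.zero_eq_bot]⟩

variable [Algebra.FormallySmooth R (A ⧸ JJ x)]

/-- the section of the projection -/
noncomputable def sec (hN : 1 ≤ N) : (A ⧸ JJ x) →ₐ[R] (A ⧸ JJ x ^ N) :=
  Algebra.FormallySmooth.liftOfSurjective (AlgHom.id R (A ⧸ JJ x)) (proj R x N hN)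
    (proj_surjective R x N hN) (isNilpotent_ker_proj R x N hN)

theorem proj_sec (hN : 1 ≤ N) (b : A ⧸ JJ x) : proj R x N hN (sec R x N hN b) = b :=
  Algebra.FormallySmooth.liftOfSurjective_apply _ _ _ _ b

theorem sub_sec_mem (hN : 1 ≤ N) (q : A ⧸ JJ x ^ N) :
    q - sec R x N hN (proj R x N hN q) ∈ Jbar x N := by
  rw [← ker_proj R x N hN, RingHom.mem_ker]
  change proj R x N hN (q - sec R x N hN (proj R x N hN q)) = 0
  rw [map_sub, proj_sec, sub_self]

/-- the comparison map on polynomials -/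
noncomputable def psi0 (hN : 1 ≤ N) : MvPolynomial (Fin d) (A ⧸ JJ x) →ₐ[R] (A ⧸ JJ x ^ N) where
  toRingHom := eval₂Hom (sec R x N hN : (A ⧸ JJ x) →+* (A ⧸ JJ x ^ N))
    (fun i => Ideal.Quotient.mk _ (x i))
  commutes' := fun r => by
    change eval₂Hom _ _ (C (algebraMap R (A ⧸ JJ x) r)) = _
    rw [eval₂Hom_C]
    exact (sec R x N hN).commutes r

theorem psi0_C (hN : 1 ≤ N) (b : A ⧸ JJ x) : psi0 R x N hN (C b) = sec R x N hN b := by
  change eval₂Hom _ _ (C b) = _
  rw [eval₂Hom_C]; rfl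

theorem psi0_X (hN : 1 ≤ N) (i : Fin d) : psi0 R x N hN (X i) = Ideal.Quotient.mk _ (x i) := by
  change eval₂Hom _ _ (X i) = _
  rw [eval₂Hom_X']

theorem psi0_mem (hN : 1 ≤ N) (n : ℕ) (p : MvPolynomial (Fin d) (A ⧸ JJ x))
    (hp : p ∈ idealOfVars (Fin d) (A ⧸ JJ x) ^ n) : psi0 R x N hN p ∈ Jbar x N ^ n := by
  have h1 : (idealOfVars (Fin d) (A ⧸ JJ x)).map (psi0 R x N hN) ≤ Jbar x N := by
    rw [Ideal.map_span, Ideal.span_le]
    rintro _ ⟨_, ⟨i, rfl⟩, rfl⟩
    rw [psi0_X]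
    exact Ideal.mem_map_of_mem _ (Ideal.subset_span ⟨i, rfl⟩)
  have h2 := Ideal.mem_map_of_mem (psi0 R x N hN) hp
  rw [Ideal.map_pow] at h2
  exact Ideal.pow_right_mono h1 n h2

/-- approximation step -/
theorem exists_approx (hN : 1 ≤ N) (n : ℕ) : ∀ a ∈ JJ x ^ n,
    ∃ p ∈ idealOfVars (Fin d) (A ⧸ JJ x) ^ n,
      Ideal.Quotient.mk (JJ x ^ N) a - psi0 R x N hN p ∈ Jbar x N ^ (n + 1) := by
  induction n with
  | zero =>
    intro a _
    refine ⟨C (Ideal.Quotient.mk _ a), by simp, ?_⟩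
    rw [psi0_C, zero_add, pow_one]
    exact sub_sec_mem R x N hN (Ideal.Quotient.mk _ a)
  | succ n ih =>
    intro a ha
    rw [pow_succ] at ha
    refine Submodule.mul_induction_on ha ?_ ?_
    · intro u hu v hv
      revert u
      refine Submodule.span_induction ?_ ?_ ?_ ?_ hv
      · rintro _ ⟨i, rfl⟩ u hu
        obtain ⟨p, hp, hpu⟩ := ih u hu
        refine ⟨p * X i, ?_, ?_⟩
        · rw [pow_succ]
          exact Ideal.mul_mem_mul hp (Ideal.subset_span ⟨i, rfl⟩)
        · rw [map_mul, map_mul, psi0_X, ← sub_mul, pow_succ]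
          exact Ideal.mul_mem_mul hpu (Ideal.mem_map_of_mem _ (Ideal.subset_span ⟨i, rfl⟩))
      · intro u _
        exact ⟨0, zero_mem _, by simp⟩
      · intro v₁ v₂ _ _ h₁ h₂ u hu
        obtain ⟨p₁, hp₁, h₁'⟩ := h₁ u hu
        obtain ⟨p₂, hp₂, h₂'⟩ := h₂ u hu
        refine ⟨p₁ + p₂, Ideal.add_mem _ hp₁ hp₂, ?_⟩
        have : Ideal.Quotient.mk (JJ x ^ N) (u * (v₁ + v₂)) - psi0 R x N hN (p₁ + p₂) =
            (Ideal.Quotient.mk (JJ x ^ N) (u * v₁) - psi0 R x N hN p₁) +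
            (Ideal.Quotient.mk (JJ x ^ N) (u * v₂) - psi0 R x N hN p₂) := by
          rw [mul_add, map_add, map_add]; ring
        rw [this]
        exact Ideal.add_mem _ h₁' h₂'
      · intro c v _ h u hu
        obtain ⟨p, hp, h'⟩ := h (c * u) (Ideal.mul_mem_left _ c hu)
        refine ⟨p, hp, ?_⟩
        have : u * c • v = c * u * v := by rw [smul_eq_mul]; ring
        rw [this]
        exact h'
    · intro a₁ a₂ h₁ h₂
      obtain ⟨p₁, hp₁, h₁'⟩ := h₁
      obtain ⟨p₂, hp₂, h₂'⟩ := h₂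
      refine ⟨p₁ + p₂, Ideal.add_mem _ hp₁ hp₂, ?_⟩
      have : Ideal.Quotient.mk (JJ x ^ N) (a₁ + a₂) - psi0 R x N hN (p₁ + p₂) =
          (Ideal.Quotient.mk (JJ x ^ N) a₁ - psi0 R x N hN p₁) +
          (Ideal.Quotient.mk (JJ x ^ N) a₂ - psi0 R x N hN p₂) := by
        rw [map_add, map_add]; ring
      rw [this]
      exact Ideal.add_mem _ h₁' h₂'

theorem psi0_surjective (hN : 1 ≤ N) : Function.Surjective (psi0 R x N hN) := by
  have key : ∀ n : ℕ, ∀ q : A ⧸ JJ x ^ N, ∃ p, q - psi0 R x N hN p ∈ Jbar x N ^ n := by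
    intro n
    induction n with
    | zero => intro q; exact ⟨0, by simp⟩
    | succ n ih =>
      intro q
      obtain ⟨p, hp⟩ := ih q
      rw [Jbar_pow] at hp
      obtain ⟨a, ha, he⟩ := (Ideal.mem_map_iff_of_surjective _ Ideal.Quotient.mk_surjective).mp hp
      obtain ⟨p', _, hp'⟩ := exists_approx R x N hN n a ha
      refine ⟨p + p', ?_⟩
      have : q - psi0 R x N hN (p + p') =
          Ideal.Quotient.mk (JJ x ^ N) a - psi0 R x N hN p' := by
        rw [he, map_add]; ring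
      rw [this]
      exact hp'
  intro q
  obtain ⟨p, hp⟩ := key N q
  rw [Jbar_pow_self, Ideal.mem_bot, sub_eq_zero] at hp
  exact ⟨p, hp.symm⟩

end Setup

end SecWR1

-- ===== from WR2 =====
section SecWR2
open MvPolynomial

theorem prod_pow_mem {S σ : Type*} [CommRing S] (I : Ideal S) (u : σ → S) (hu : ∀ i, u i ∈ I)
    (α : σ →₀ ℕ) : (α.prod fun i k => u i ^ k) ∈ I ^ α.degree := by
  have hdeg : α.degree = ∑ i ∈ α.support, α i := rfl
  rw [Finsupp.prod, hdeg, ← Finset.prod_pow_eq_pow_sum]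
  exact Ideal.prod_mem_prod fun i _ => Ideal.pow_mem_pow (hu i) _

section Inj

variable (R : Type u) {A : Type v} [CommRing R] [CommRing A] [Algebra R A] {d : ℕ} (x : Fin d → A)
  (N : ℕ) [Algebra.FormallySmooth R (A ⧸ JJ x)]

open Classical in
/-- a set-theoretic lift preserving zero -/
noncomputable def lft (b : A ⧸ JJ x) : A :=
  if b = 0 then 0 else Function.surjInv Ideal.Quotient.mk_surjective b

theorem lft_zero : lft x 0 = 0 := by simp [lft]

theorem mk_lft (b : A ⧸ JJ x) : Ideal.Quotient.mk (JJ x) (lft x b) = b := by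
  unfold lft
  split_ifs with h
  · rw [map_zero, h]
  · exact Function.surjInv_eq _ b

/-- coefficientwise lift of a polynomial -/
noncomputable def lftPoly (p : MvPolynomial (Fin d) (A ⧸ JJ x)) : MvPolynomial (Fin d) A :=
  ∑ α ∈ p.support, monomial α (lft x (coeff α p))

theorem coeff_lftPoly (p : MvPolynomial (Fin d) (A ⧸ JJ x)) (β : Fin d →₀ ℕ) :
    coeff β (lftPoly x p) = lft x (coeff β p) := by
  classical
  unfold lftPoly
  rw [coeff_sum]
  simp only [coeff_monomial]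
  rw [Finset.sum_ite_eq' p.support β]
  split_ifs with h
  · rfl
  · rw [notMem_support_iff.mp h, lft_zero]

theorem map_lftPoly (p : MvPolynomial (Fin d) (A ⧸ JJ x)) :
    map (Ideal.Quotient.mk (JJ x)) (lftPoly x p) = p := by
  ext β
  rw [coeff_map, coeff_lftPoly, mk_lft]

theorem lftPoly_isHomogeneous (p : MvPolynomial (Fin d) (A ⧸ JJ x)) (n : ℕ)
    (hp : p.IsHomogeneous n) : (lftPoly x p).IsHomogeneous n := by
  intro β hβ
  apply hp
  intro h0
  apply hβ
  rw [coeff_lftPoly, h0, lft_zero]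

theorem mk_eval_sub_mem (hN : 1 ≤ N) (n : ℕ) (P : MvPolynomial (Fin d) A) (hP : P.IsHomogeneous n) :
    Ideal.Quotient.mk (JJ x ^ N) (eval x P) -
      psi0 R x N hN (map (Ideal.Quotient.mk (JJ x)) P) ∈ Jbar x N ^ (n + 1) := by
  have h1 : Ideal.Quotient.mk (JJ x ^ N) (eval x P) =
      eval₂ (Ideal.Quotient.mk (JJ x ^ N)) (fun i => Ideal.Quotient.mk (JJ x ^ N) (x i)) P := by
    have := eval₂_comp_left (Ideal.Quotient.mk (JJ x ^ N)) (RingHom.id A) x P
    rw [RingHom.comp_id] at this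
    exact this
  have h2 : psi0 R x N hN (map (Ideal.Quotient.mk (JJ x)) P) =
      eval₂ (((sec R x N hN : (A ⧸ JJ x) →+* (A ⧸ JJ x ^ N))).comp (Ideal.Quotient.mk (JJ x)))
        (fun i => Ideal.Quotient.mk (JJ x ^ N) (x i)) P := by
    change eval₂ _ _ (map _ P) = _
    rw [eval₂_map]
  rw [h1, h2, eval₂_eq, eval₂_eq, ← Finset.sum_sub_distrib]
  refine Ideal.sum_mem _ fun β hβ => ?_
  rw [← sub_mul, pow_succ']
  refine Ideal.mul_mem_mul ?_ ?_
  · have := sub_sec_mem R x N hN (Ideal.Quotient.mk (JJ x ^ N) (coeff β P))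
    exact this
  · have hdeg : β.degree = n := by
      have := hP (mem_support_iff.mp hβ)
      rw [Finsupp.degree_eq_weight_one]
      exact this
    have := prod_pow_mem (Jbar x N) (fun i => Ideal.Quotient.mk (JJ x ^ N) (x i))
      (fun i => Ideal.mem_map_of_mem _ (Ideal.subset_span ⟨i, rfl⟩)) β
    rw [hdeg] at this
    exact this

theorem mem_pow_of_psi0_eq_zero (hN : 1 ≤ N)
    (hreg : RingTheory.Sequence.IsWeaklyRegular A (List.ofFn x))
    (p : MvPolynomial (Fin d) (A ⧸ JJ x)) (hp : psi0 R x N hN p = 0) :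
    p ∈ idealOfVars (Fin d) (A ⧸ JJ x) ^ N := by
  have hqr : CAlgX.IsQuasiRegular x := Groth.Agent.S5802.result A d x hreg
  have key : ∀ n : ℕ, n ≤ N → p ∈ idealOfVars (Fin d) (A ⧸ JJ x) ^ n := by
    intro n
    induction n with
    | zero => intro _; simp
    | succ n ih =>
      intro hn
      have hpn := ih (Nat.le_of_succ_le hn)
      have hpn' := (mem_pow_idealOfVars_iff' n p).mp hpn
      set pn := homogeneousComponent n p with hpn_def
      have hr : p - pn ∈ idealOfVars (Fin d) (A ⧸ JJ x) ^ (n + 1) := by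
        rw [mem_pow_idealOfVars_iff']
        intro β hβ
        rw [coeff_sub, hpn_def, coeff_homogeneousComponent]
        split_ifs with h
        · exact sub_self _
        · rw [sub_zero]
          exact hpn' β (lt_of_le_of_ne (Nat.lt_succ_iff.mp hβ) h)
      have h1 : psi0 R x N hN pn ∈ Jbar x N ^ (n + 1) := by
        have h2 := psi0_mem R x N hN (n + 1) _ hr
        rw [map_sub, hp, zero_sub] at h2
        exact (Ideal.neg_mem_iff _).mp h2
      have hhom : pn.IsHomogeneous n := homogeneousComponent_isHomogeneous n p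
      have h3 := mk_eval_sub_mem R x N hN n (lftPoly x pn) (lftPoly_isHomogeneous x pn n hhom)
      rw [map_lftPoly] at h3
      have h4 : Ideal.Quotient.mk (JJ x ^ N) (eval x (lftPoly x pn)) ∈ Jbar x N ^ (n + 1) := by
        have := Ideal.add_mem _ h3 h1
        rwa [sub_add_cancel] at this
      have h5 : eval x (lftPoly x pn) ∈ JJ x ^ (n + 1) := by
        rw [Jbar_pow] at h4
        obtain ⟨a', ha', he⟩ :=
          (Ideal.mem_map_iff_of_surjective _ Ideal.Quotient.mk_surjective).mp h4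
        have h6 : a' - eval x (lftPoly x pn) ∈ JJ x ^ N := Ideal.Quotient.eq.mp he
        have h7 : a' - eval x (lftPoly x pn) ∈ JJ x ^ (n + 1) := Ideal.pow_le_pow_right hn h6
        have : eval x (lftPoly x pn) = a' - (a' - eval x (lftPoly x pn)) := by ring
        rw [this]
        exact Ideal.sub_mem _ ha' h7
      have h8 := hqr n (lftPoly x pn) (lftPoly_isHomogeneous x pn n hhom) h5
      rw [mem_pow_idealOfVars_iff']
      intro β hβ
      by_cases h : β.degree = n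
      · have h9 := h8 β
        rw [coeff_lftPoly, ← Ideal.Quotient.eq_zero_iff_mem, mk_lft, hpn_def,
          coeff_homogeneousComponent, if_pos h] at h9
        exact h9
      · exact hpn' β (lt_of_le_of_ne (Nat.lt_succ_iff.mp hβ) h)
  exact key N le_rfl

end Inj

end SecWR2

-- ===== from WR3 =====
section SecWR3
open MvPolynomial

section Main

variable (R : Type u) {A : Type v} [CommRing R] [CommRing A] [Algebra R A] {d : ℕ} (x : Fin d → A)
  (N : ℕ) [Algebra.FormallySmooth R (A ⧸ JJ x)]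

theorem psi0_kills (hN : 1 ≤ N) (p : MvPolynomial (Fin d) (A ⧸ JJ x))
    (hp : p ∈ idealOfVars (Fin d) (A ⧸ JJ x) ^ N) : psi0 R x N hN p = 0 := by
  have := psi0_mem R x N hN N p hp
  rw [Jbar_pow_self] at this
  exact (Submodule.mem_bot _).mp this

/-- the comparison map `B[T]/(T)^N → A/J^N` -/
noncomputable def psi (hN : 1 ≤ N) :
    (MvPolynomial (Fin d) (A ⧸ JJ x) ⧸ idealOfVars (Fin d) (A ⧸ JJ x) ^ N) →ₐ[R] (A ⧸ JJ x ^ N) :=
  Ideal.Quotient.liftₐ (idealOfVars (Fin d) (A ⧸ JJ x) ^ N) (psi0 R x N hN)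
    (psi0_kills R x N hN)

theorem psi_mk (hN : 1 ≤ N) (p : MvPolynomial (Fin d) (A ⧸ JJ x)) :
    psi R x N hN (Ideal.Quotient.mk _ p) = psi0 R x N hN p := rfl

theorem psi_bijective (hN : 1 ≤ N)
    (hreg : RingTheory.Sequence.IsWeaklyRegular A (List.ofFn x)) :
    Function.Bijective (psi R x N hN) := by
  constructor
  · rw [injective_iff_map_eq_zero]
    intro q hq
    obtain ⟨p, rfl⟩ := Ideal.Quotient.mk_surjective q
    rw [psi_mk] at hq
    exact Ideal.Quotient.eq_zero_iff_mem.mpr (mem_pow_of_psi0_eq_zero R x N hN hreg p hq)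
  · intro q
    obtain ⟨p, hp⟩ := psi0_surjective R x N hN q
    exact ⟨Ideal.Quotient.mk _ p, by rw [psi_mk, hp]⟩

theorem constantCoeff_eq_proj_psi0 (hN : 1 ≤ N) (p : MvPolynomial (Fin d) (A ⧸ JJ x)) :
    constantCoeff p = proj R x N hN (psi0 R x N hN p) := by
  have h : (constantCoeff : MvPolynomial (Fin d) (A ⧸ JJ x) →+* (A ⧸ JJ x)) =
      ((proj R x N hN : (A ⧸ JJ x ^ N) →ₐ[R] (A ⧸ JJ x)) : (A ⧸ JJ x ^ N) →+* (A ⧸ JJ x)).comp
        ((psi0 R x N hN : MvPolynomial (Fin d) (A ⧸ JJ x) →ₐ[R] (A ⧸ JJ x ^ N)) :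
          MvPolynomial (Fin d) (A ⧸ JJ x) →+* (A ⧸ JJ x ^ N)) := by
    apply MvPolynomial.ringHom_ext
    · intro b
      rw [constantCoeff_C]
      change b = proj R x N hN (psi0 R x N hN (C b))
      rw [psi0_C, proj_sec]
    · intro i
      rw [constantCoeff_X]
      change 0 = proj R x N hN (psi0 R x N hN (X i))
      rw [psi0_X, proj_mk]
      have hx : x i ∈ JJ x := Ideal.subset_span ⟨i, rfl⟩
      exact (Ideal.Quotient.eq_zero_iff_mem.mpr hx).symm
  exact congrArg (fun f => f p) h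

theorem main (hN : 1 ≤ N) (hreg : RingTheory.Sequence.IsWeaklyRegular A (List.ofFn x)) :
    ∃ e : (A ⧸ JJ x ^ N) ≃ₐ[R]
        (MvPolynomial (Fin d) (A ⧸ JJ x) ⧸ idealOfVars (Fin d) (A ⧸ JJ x) ^ N),
      (∀ i : Fin d, e (Ideal.Quotient.mk _ (x i)) = Ideal.Quotient.mk _ (MvPolynomial.X i)) ∧
      ∀ a : A, e (Ideal.Quotient.mk _ a) -
          Ideal.Quotient.mk _ (MvPolynomial.C (Ideal.Quotient.mk _ a)) ∈
        (idealOfVars (Fin d) (A ⧸ JJ x)).map (Ideal.Quotient.mk _) := by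
  let e0 := AlgEquiv.ofBijective (psi R x N hN) (psi_bijective R x N hN hreg)
  have he0 : ∀ q, e0 q = psi R x N hN q := fun q => rfl
  refine ⟨e0.symm, ?_, ?_⟩
  · intro i
    rw [AlgEquiv.symm_apply_eq, he0, psi_mk, psi0_X]
  · intro a
    obtain ⟨p, hp⟩ := Ideal.Quotient.mk_surjective (e0.symm (Ideal.Quotient.mk _ a))
    have h1 : psi0 R x N hN p = Ideal.Quotient.mk _ a := by
      rw [← psi_mk, hp, ← he0, AlgEquiv.apply_symm_apply]
    have h2 : constantCoeff p = Ideal.Quotient.mk (JJ x) a := by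
      rw [constantCoeff_eq_proj_psi0 R x N hN, h1, proj_mk]
    rw [← hp, ← map_sub]
    apply Ideal.mem_map_of_mem
    have h3 : p - C (Ideal.Quotient.mk (JJ x) a) ∈ idealOfVars (Fin d) (A ⧸ JJ x) ^ 1 := by
      rw [mem_pow_idealOfVars_iff']
      intro β hβ
      have hβ0 : β = 0 := by
        have : β.degree = 0 := by omega
        exact (Finsupp.degree_eq_zero_iff β).mp this
      rw [hβ0, coeff_sub, coeff_zero_C]
      have : coeff 0 p = constantCoeff p := rfl
      rw [this, h2, sub_self]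
    rwa [pow_one] at h3

end Main

end SecWR3


end Groth.Agent.Lib.H9CAlg417
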