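import Mathlib

set_option autoImplicit false
universe u
open CategoryTheory CategoryTheory.Limits AlgebraicGeometry TopologicalSpace Opposite

namespace Groth.Agent.Lib.R2Lead.NormalDesc

section Alg

open Polynomial

/-- in an integrally closed domain, a root `α` of `P.scaleRoots β` (`P` monic, `β ≠ 0`) is divisible by `β`. -/
theorem exists_eq_mul_of_scaleRoots_eval {D : Type*} [CommRing D] [IsDomain D] [IsIntegrallyClosed D]
    (P : D[X]) (hP : P.Monic) (α β : D) (hβ : β ≠ 0) (h : (P.scaleRoots β).eval α = 0) :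
    ∃ δ : D, α = β * δ := by
  let K := FractionRing D
  let f : D →+* K := algebraMap D K
  have hf : Function.Injective f := IsFractionRing.injective D K
  have hfβ : f β ≠ 0 := fun h0 => hβ (hf (h0.trans (map_zero f).symm))
  have h1 : eval₂ f (f β * (f α / f β)) (P.scaleRoots β) = f β ^ P.natDegree * eval₂ f (f α / f β) P :=
    scaleRoots_eval₂_mul f (f α / f β) β
  have h2 : f β * (f α / f β) = f α := by rw [mul_comm, div_mul_cancel₀ _ hfβ]
  rw [h2, eval₂_hom, h, map_zero] at h1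
  have h3 : eval₂ f (f α / f β) P = 0 := by
    rcases mul_eq_zero.1 h1.symm with h4 | h4
    · exact absurd h4 (pow_ne_zero _ hfβ)
    · exact h4
  have hint : IsIntegral D (f α / f β) := ⟨P, hP, h3⟩
  obtain ⟨δ, hδ⟩ := IsIntegrallyClosed.algebraMap_eq_of_integral hint
  refine ⟨δ, hf ?_⟩
  rw [map_mul]
  change f α = f β * f δ
  rw [show f δ = f α / f β from hδ, mul_comm, div_mul_cancel₀ _ hfβ]

theorem eq_zero_of_scaleRoots_zero_eval {D : Type*} [CommRing D] [IsDomain D]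
    (P : D[X]) (hP : P.Monic) (α : D) (h : (P.scaleRoots 0).eval α = 0) : α = 0 := by
  rw [scaleRoots_zero, hP.leadingCoeff, one_smul, eval_pow, eval_X] at h
  rcases Nat.eq_zero_or_pos P.natDegree with h0 | h0
  · rw [h0, pow_zero] at h
    exact absurd h one_ne_zero
  · exact pow_eq_zero_iff (Nat.pos_iff_ne_zero.1 h0) |>.1 h

end Alg

section Sch

variable {X : Scheme.{u}}

/-- on an affine open whose ring of sections is a domain, all germ maps are injective. -/
theorem germ_injective_of_isDomain {U : X.Opens} (hU : IsAffineOpen U) [IsDomain Γ(X, U)]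
    (x : X) (hx : x ∈ U) : Function.Injective (X.presheaf.germ U x hx).hom := by
  letI := TopCat.Presheaf.algebra_section_stalk X.presheaf (⟨x, hx⟩ : U)
  haveI : IsLocalization.AtPrime (X.presheaf.stalk x) (hU.primeIdealOf ⟨x, hx⟩).asIdeal :=
    hU.isLocalization_stalk ⟨x, hx⟩
  exact IsLocalization.injective (X.presheaf.stalk x)
    (M := (hU.primeIdealOf ⟨x, hx⟩).asIdeal.primeCompl) (Ideal.primeCompl_le_nonZeroDivisors _)

/-- on a locally Noetherian scheme with integral local rings, the support of a section is open. -/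
theorem exists_nhd_germ_ne_zero [IsLocallyNoetherian X]
    (hX : ∀ x : X, IsDomain (X.presheaf.stalk x))
    {U : X.Opens} (s : Γ(X, U)) (x : X) (hx : x ∈ U) (hs : X.presheaf.germ U x hx s ≠ 0) :
    ∃ W : X.Opens, x ∈ W ∧ W ≤ U ∧
      ∀ (w : X) (hwU : w ∈ U), w ∈ W → X.presheaf.germ U w hwU s ≠ 0 := by
  obtain ⟨W, hxW, hWaff, hWU, hinj⟩ := X.exists_le_and_germ_injective x U hx
  haveI := hX x
  haveI : IsDomain Γ(X, W) := Function.Injective.isDomain (X.presheaf.germ W x hxW).hom hinj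
  refine ⟨W, hxW, hWU, fun w hwU hwW h0 => hs ?_⟩
  have h1 : X.presheaf.germ W w hwW (X.presheaf.map (homOfLE hWU).op s) = 0 := by
    rw [TopCat.Presheaf.germ_res_apply]
    exact h0
  have h2 : X.presheaf.map (homOfLE hWU).op s = 0 := by
    apply germ_injective_of_isDomain hWaff w hwW
    rw [map_zero]
    exact h1
  rw [← TopCat.Presheaf.germ_res_apply X.presheaf (homOfLE hWU) x hxW s, h2, map_zero]

/-- gluing sections given locally around every point, compatibility being checked on germs. -/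
theorem exists_section_of_local (U : X.Opens)
    (N : U → X.Opens) (hNU : ∀ w, N w ≤ U) (hwN : ∀ w : U, w.1 ∈ N w) (σ : ∀ w, Γ(X, N w))
    (hcompat : ∀ (w v : U) (p : X) (hpw : p ∈ N w) (hpv : p ∈ N v),
      X.presheaf.germ (N w) p hpw (σ w) = X.presheaf.germ (N v) p hpv (σ v)) :
    ∃ s : Γ(X, U), ∀ (w : U) (p : X) (hp : p ∈ N w),
      X.presheaf.germ U p (hNU w hp) s = X.presheaf.germ (N w) p hp (σ w) := by
  have hcover : U ≤ iSup N := fun p hp => Opens.mem_iSup.2 ⟨⟨p, hp⟩, hwN ⟨p, hp⟩⟩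
  have hc : TopCat.Presheaf.IsCompatible X.sheaf.1 N σ := by
    intro w v
    apply TopCat.Presheaf.section_ext X.sheaf
    intro p hp
    have e1 := TopCat.Presheaf.germ_res_apply X.presheaf (Opens.infLELeft (N w) (N v)) p hp (σ w)
    have e2 := TopCat.Presheaf.germ_res_apply X.presheaf (Opens.infLERight (N w) (N v)) p hp (σ v)
    exact e1.trans ((hcompat w v p hp.1 hp.2).trans e2.symm)
  obtain ⟨s, hs, -⟩ := X.sheaf.existsUnique_gluing' N U (fun w => homOfLE (hNU w)) hcover σ hc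
  refine ⟨s, fun w p hp => ?_⟩
  rw [← hs w]
  exact (TopCat.Presheaf.germ_res_apply X.presheaf (homOfLE (hNU w)) p hp s).symm

/-- germs of a section vanish near a point where the germ vanishes. -/
theorem exists_nhd_germ_eq_zero {U : X.Opens} (s : Γ(X, U)) (x : X) (hx : x ∈ U)
    (hs : X.presheaf.germ U x hx s = 0) :
    ∃ W : X.Opens, x ∈ W ∧ W ≤ U ∧
      ∀ (w : X) (hwU : w ∈ U), w ∈ W → X.presheaf.germ U w hwU s = 0 := by
  obtain ⟨W, hxW, iU, iV, hW⟩ := TopCat.Presheaf.germ_eq X.presheaf x hx hx s 0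
    (by rw [hs, map_zero])
  refine ⟨W, hxW, iU.le, fun w hwU hwW => ?_⟩
  rw [← TopCat.Presheaf.germ_res_apply X.presheaf iU w hwW s, hW, map_zero, map_zero]

theorem exists_separating_section [IsLocallyNoetherian X]
    (hX : ∀ x : X, IsDomain (X.presheaf.stalk x))
    {U : X.Opens} (α β : Γ(X, U)) (h : α * β = 0) :
    ∃ e : Γ(X, U), e * α = 0 ∧ (1 - e) * β = 0 := by
  have key : ∀ w : U, ∃ (N : X.Opens) (σ : Γ(X, N)), N ≤ U ∧ w.1 ∈ N ∧
      ((σ = 1 ∧ ∀ (p : X) (hp : p ∈ U), p ∈ N → X.presheaf.germ U p hp α = 0) ∨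
        (σ = 0 ∧ ∀ (p : X) (hp : p ∈ U), p ∈ N → X.presheaf.germ U p hp α ≠ 0)) := by
    intro w
    by_cases h0 : X.presheaf.germ U w.1 w.2 α = 0
    · obtain ⟨W, hwW, hWU, hz⟩ := exists_nhd_germ_eq_zero α w.1 w.2 h0
      exact ⟨W, 1, hWU, hwW, Or.inl ⟨rfl, hz⟩⟩
    · obtain ⟨W, hwW, hWU, hne⟩ := exists_nhd_germ_ne_zero hX α w.1 w.2 h0
      exact ⟨W, 0, hWU, hwW, Or.inr ⟨rfl, hne⟩⟩
  choose N σ hNU hwN hkind using key
  have hcompat : ∀ (w v : U) (p : X) (hpw : p ∈ N w) (hpv : p ∈ N v),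
      X.presheaf.germ (N w) p hpw (σ w) = X.presheaf.germ (N v) p hpv (σ v) := by
    intro w v p hpw hpv
    rcases hkind w with ⟨hσw, hαw⟩ | ⟨hσw, hnew⟩ <;> rcases hkind v with ⟨hσv, hαv⟩ | ⟨hσv, hnev⟩
    · rw [hσw, hσv, map_one, map_one]
    · exact absurd (hαw p (hNU w hpw) hpw) (hnev p (hNU w hpw) hpv)
    · exact absurd (hαv p (hNU v hpv) hpv) (hnew p (hNU v hpv) hpw)
    · rw [hσw, hσv, map_zero, map_zero]
  obtain ⟨e, he⟩ := exists_section_of_local U N hNU hwN σ hcompat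
  refine ⟨e, ?_, ?_⟩
  · apply TopCat.Presheaf.section_ext X.sheaf
    intro p hp
    change X.presheaf.germ U p hp (e * α) = X.presheaf.germ U p hp 0
    rw [map_mul, map_zero, he ⟨p, hp⟩ p (hwN ⟨p, hp⟩)]
    rcases hkind ⟨p, hp⟩ with ⟨hσ, hα⟩ | ⟨hσ, hne⟩
    · rw [hα p hp (hwN ⟨p, hp⟩), mul_zero]
    · rw [hσ, map_zero, zero_mul]
  · apply TopCat.Presheaf.section_ext X.sheaf
    intro p hp
    change X.presheaf.germ U p hp ((1 - e) * β) = X.presheaf.germ U p hp 0
    rw [map_mul, map_zero, map_sub, map_one, he ⟨p, hp⟩ p (hwN ⟨p, hp⟩)]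
    rcases hkind ⟨p, hp⟩ with ⟨hσ, hα⟩ | ⟨hσ, hne⟩
    · rw [hσ, map_one, sub_self, zero_mul]
    · haveI := hX p
      have h1 : X.presheaf.germ U p hp α * X.presheaf.germ U p hp β = 0 := by
        rw [← map_mul, h, map_zero]
      rcases mul_eq_zero.1 h1 with h2 | h2
      · exact absurd h2 (hne p hp (hwN ⟨p, hp⟩))
      · rw [h2, mul_zero]

open Polynomial in
theorem exists_div_section [IsLocallyNoetherian X]
    (hX : ∀ x : X, IsDomain (X.presheaf.stalk x) ∧ IsIntegrallyClosed (X.presheaf.stalk x))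
    {U : X.Opens} (P : Polynomial Γ(X, U)) (hP : P.Monic) (α β : Γ(X, U))
    (h : (P.scaleRoots β).eval α = 0) : ∃ δ : Γ(X, U), α = β * δ := by
  -- the relation on stalks
  have hstalk : ∀ (p : X) (hp : p ∈ U),
      ((P.map (X.presheaf.germ U p hp).hom).scaleRoots (X.presheaf.germ U p hp β)).eval
        (X.presheaf.germ U p hp α) = 0 := by
    intro p hp
    haveI := (hX p).1
    have h1 : Polynomial.eval₂ (X.presheaf.germ U p hp).hom ((X.presheaf.germ U p hp).hom α)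
        (P.scaleRoots β) = 0 := by
      rw [Polynomial.eval₂_hom, h, map_zero]
    have hlead : (X.presheaf.germ U p hp).hom P.leadingCoeff ≠ 0 := by
      rw [hP.leadingCoeff, map_one]
      exact one_ne_zero
    have h2 : Polynomial.eval ((X.presheaf.germ U p hp).hom α)
        ((P.map (X.presheaf.germ U p hp).hom).scaleRoots ((X.presheaf.germ U p hp).hom β)) = 0 := by
      rw [← Polynomial.map_scaleRoots _ _ _ hlead, Polynomial.eval_map]
      exact h1
    exact h2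
  have key : ∀ w : U, ∃ (N : X.Opens) (σ : Γ(X, N)), N ≤ U ∧ w.1 ∈ N ∧
      ((σ = 0 ∧ ∀ (p : X) (hp : p ∈ U), p ∈ N → X.presheaf.germ U p hp β = 0) ∨
        (∀ (p : X) (hp : p ∈ U) (hpN : p ∈ N), X.presheaf.germ U p hp β ≠ 0 ∧
          X.presheaf.germ U p hp α = X.presheaf.germ U p hp β * X.presheaf.germ N p hpN σ)) := by
    intro w
    by_cases h0 : X.presheaf.germ U w.1 w.2 β = 0
    · obtain ⟨W, hwW, hWU, hz⟩ := exists_nhd_germ_eq_zero β w.1 w.2 h0
      exact ⟨W, 0, hWU, hwW, Or.inl ⟨rfl, hz⟩⟩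
    · haveI := (hX w.1).1
      haveI := (hX w.1).2
      obtain ⟨δw, hδw⟩ := exists_eq_mul_of_scaleRoots_eval _
        (hP.map (X.presheaf.germ U w.1 w.2).hom) _ _ h0 (hstalk w.1 w.2)
      obtain ⟨N', hwN', δ', hδ'⟩ := TopCat.Presheaf.germ_exist X.presheaf δw
      obtain ⟨W, hwW, hWU, hne⟩ := exists_nhd_germ_ne_zero (fun x => (hX x).1) β w.1 w.2 h0
      have hN0U : N' ⊓ W ≤ U := inf_le_right.trans hWU
      have hwN0 : w.1 ∈ N' ⊓ W := ⟨hwN', hwW⟩
      have hg : X.presheaf.germ (N' ⊓ W) w.1 hwN0 (X.presheaf.map (homOfLE hN0U).op α) =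
          X.presheaf.germ (N' ⊓ W) w.1 hwN0 (X.presheaf.map (homOfLE hN0U).op β *
            X.presheaf.map (homOfLE (inf_le_left : N' ⊓ W ≤ N')).op δ') := by
        rw [map_mul, TopCat.Presheaf.germ_res_apply, TopCat.Presheaf.germ_res_apply,
          TopCat.Presheaf.germ_res_apply, hδ']
        exact hδw
      obtain ⟨N, hwNN, i1, i2, hN⟩ := TopCat.Presheaf.germ_eq X.presheaf w.1 hwN0 hwN0 _ _ hg
      refine ⟨N, X.presheaf.map (homOfLE (i1.le.trans inf_le_left)).op δ', i1.le.trans hN0U, hwNN,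
        Or.inr fun p hp hpN => ⟨hne p hp (i1.le hpN).2, ?_⟩⟩
      have hpN0 : p ∈ N' ⊓ W := i1.le hpN
      have hL : X.presheaf.germ N p hpN (X.presheaf.map i1.op
          (X.presheaf.map (homOfLE hN0U).op α)) = X.presheaf.germ U p hp α := by
        rw [TopCat.Presheaf.germ_res_apply, TopCat.Presheaf.germ_res_apply]
      have hR : X.presheaf.germ N p hpN (X.presheaf.map i2.op
          (X.presheaf.map (homOfLE hN0U).op β *
            X.presheaf.map (homOfLE (inf_le_left : N' ⊓ W ≤ N')).op δ')) =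
          X.presheaf.germ U p hp β * X.presheaf.germ N' p hpN0.1 δ' := by
        rw [TopCat.Presheaf.germ_res_apply, map_mul, TopCat.Presheaf.germ_res_apply,
          TopCat.Presheaf.germ_res_apply]
      rw [TopCat.Presheaf.germ_res_apply, ← hL, hN, hR]
  choose N σ hNU hwN hkind using key
  have hcompat : ∀ (w v : U) (p : X) (hpw : p ∈ N w) (hpv : p ∈ N v),
      X.presheaf.germ (N w) p hpw (σ w) = X.presheaf.germ (N v) p hpv (σ v) := by
    intro w v p hpw hpv
    rcases hkind w with ⟨hσw, hzw⟩ | hnw <;> rcases hkind v with ⟨hσv, hzv⟩ | hnv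
    · rw [hσw, hσv, map_zero, map_zero]
    · exact absurd (hzw p (hNU w hpw) hpw) (hnv p (hNU w hpw) hpv).1
    · exact absurd (hzv p (hNU v hpv) hpv) (hnw p (hNU v hpv) hpw).1
    · haveI := (hX p).1
      have e1 := (hnw p (hNU w hpw) hpw).2
      have e2 := (hnv p (hNU w hpw) hpv).2
      exact mul_left_cancel₀ (hnw p (hNU w hpw) hpw).1 (e1.symm.trans e2)
  obtain ⟨δ, hδ⟩ := exists_section_of_local U N hNU hwN σ hcompat
  refine ⟨δ, ?_⟩
  apply TopCat.Presheaf.section_ext X.sheaf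
  intro p hp
  change X.presheaf.germ U p hp α = X.presheaf.germ U p hp (β * δ)
  rw [map_mul, hδ ⟨p, hp⟩ p (hwN ⟨p, hp⟩)]
  rcases hkind ⟨p, hp⟩ with ⟨hσ, hz⟩ | hn
  · haveI := (hX p).1
    have hβ0 := hz p hp (hwN ⟨p, hp⟩)
    have h2 := hstalk p hp
    rw [hβ0] at h2
    rw [hβ0, zero_mul]
    exact eq_zero_of_scaleRoots_zero_eval _ (hP.map _) _ h2
  · exact (hn p hp (hwN ⟨p, hp⟩)).2

end Sch

section Main

/-- ring homomorphisms commute with evaluation of `scaleRoots` of a monic polynomial. -/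
theorem map_eval_scaleRoots {R S : Type*} [CommRing R] [CommRing S] [Nontrivial S] (g : R →+* S)
    (P : Polynomial R) (hP : P.Monic) (a b : R) :
    g ((P.scaleRoots b).eval a) = ((P.map g).scaleRoots (g b)).eval (g a) := by
  have hlead : g P.leadingCoeff ≠ 0 := by
    rw [hP.leadingCoeff, map_one]
    exact one_ne_zero
  rw [← Polynomial.map_scaleRoots _ _ _ hlead, Polynomial.eval_map, Polynomial.eval₂_hom]

variable {X Y : Scheme.{u}}

theorem exists_lift_polynomial (y : Y) (p : Polynomial (Y.presheaf.stalk y)) (hp : p.Monic) :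
    ∃ (V : Y.Opens) (hy : y ∈ V) (P : Polynomial Γ(Y, V)), P.Monic ∧
      P.map (Y.presheaf.germ V y hy).hom = p := by
  have hc : ∀ n : ℕ, ∃ (V : Y.Opens) (hy : y ∈ V) (t : Γ(Y, V)),
      Y.presheaf.germ V y hy t = p.coeff n := fun n =>
    TopCat.Presheaf.germ_exist Y.presheaf (p.coeff n)
  choose Vn hyn tn htn using hc
  have hyV : y ∈ (Finset.range (p.natDegree + 1)).inf Vn :=
    Finset.inf_induction (p := fun U : Y.Opens => y ∈ U) trivial
      (fun a ha b hb => ⟨ha, hb⟩) (fun n _ => hyn n)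
  have hlifts : p ∈ Polynomial.lifts
      (Y.presheaf.germ ((Finset.range (p.natDegree + 1)).inf Vn) y hyV).hom := by
    rw [Polynomial.lifts_iff_coeff_lifts]
    intro n
    by_cases hn : n ∈ Finset.range (p.natDegree + 1)
    · refine ⟨Y.presheaf.map (homOfLE (Finset.inf_le hn)).op (tn n), ?_⟩
      exact (TopCat.Presheaf.germ_res_apply Y.presheaf (homOfLE (Finset.inf_le hn)) y hyV
        (tn n)).trans (htn n)
    · refine ⟨0, ?_⟩
      rw [map_zero]
      symm
      apply Polynomial.coeff_eq_zero_of_natDegree_lt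
      simpa using hn
  obtain ⟨P, hPmap, -, hPmonic⟩ := Polynomial.lifts_and_natDegree_eq_and_monic hlifts hp
  exact ⟨_, hyV, P, hPmonic, hPmap⟩

theorem map_map_germ {V W : Y.Opens} (i : W ⟶ V) (y : Y) (hy : y ∈ W) (P : Polynomial Γ(Y, V)) :
    (P.map (Y.presheaf.map i.op).hom).map (Y.presheaf.germ W y hy).hom =
      P.map (Y.presheaf.germ V y (i.le hy)).hom := by
  rw [Polynomial.map_map]
  congr 1
  ext t
  exact TopCat.Presheaf.germ_res_apply Y.presheaf i y hy t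

variable (f : X ⟶ Y) (hfib : ∀ V : Y.Opens, IsIso (f.app V))

include hfib in
theorem noZeroDivisors_stalk [IsLocallyNoetherian X]
    (hX : ∀ x : X, IsDomain (X.presheaf.stalk x)) (y : Y) :
    NoZeroDivisors (Y.presheaf.stalk y) := by
  refine ⟨fun {a0 b0} hab => ?_⟩
  obtain ⟨Va, hyVa, a, ha⟩ := TopCat.Presheaf.germ_exist Y.presheaf a0
  obtain ⟨Vb, hyVb, b, hb⟩ := TopCat.Presheaf.germ_exist Y.presheaf b0
  have hyV : y ∈ Va ⊓ Vb := ⟨hyVa, hyVb⟩
  obtain ⟨a', ha'⟩ : ∃ a' : Γ(Y, Va ⊓ Vb), Y.presheaf.germ (Va ⊓ Vb) y hyV a' = a0 :=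
    ⟨Y.presheaf.map (homOfLE inf_le_left).op a,
      (TopCat.Presheaf.germ_res_apply Y.presheaf (homOfLE inf_le_left) y hyV a).trans ha⟩
  obtain ⟨b', hb'⟩ : ∃ b' : Γ(Y, Va ⊓ Vb), Y.presheaf.germ (Va ⊓ Vb) y hyV b' = b0 :=
    ⟨Y.presheaf.map (homOfLE inf_le_right).op b,
      (TopCat.Presheaf.germ_res_apply Y.presheaf (homOfLE inf_le_right) y hyV b).trans hb⟩
  have h0 : Y.presheaf.germ (Va ⊓ Vb) y hyV (a' * b') = Y.presheaf.germ (Va ⊓ Vb) y hyV 0 := by
    rw [map_mul, ha', hb', hab, map_zero]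
  obtain ⟨W, hyW, i1, i2, hW⟩ := TopCat.Presheaf.germ_eq Y.presheaf y hyV hyV _ _ h0
  obtain ⟨a'', b'', ha'', hb'', hprod⟩ : ∃ a'' b'' : Γ(Y, W), Y.presheaf.germ W y hyW a'' = a0 ∧
      Y.presheaf.germ W y hyW b'' = b0 ∧ a'' * b'' = 0 := by
    refine ⟨Y.presheaf.map i1.op a', Y.presheaf.map i1.op b',
      (TopCat.Presheaf.germ_res_apply Y.presheaf i1 y hyW a').trans ha',
      (TopCat.Presheaf.germ_res_apply Y.presheaf i1 y hyW b').trans hb', ?_⟩
    rw [← map_mul, hW, map_zero]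
  haveI := hfib W
  have hφ : Function.Bijective (f.app W).hom := ConcreteCategory.bijective_of_isIso (f.app W)
  obtain ⟨e, he1, he2⟩ := exists_separating_section hX ((f.app W).hom a'') ((f.app W).hom b'')
    (by rw [← map_mul, hprod, map_zero])
  obtain ⟨ε, rfl⟩ := hφ.2 e
  have h1 : ε * a'' = 0 := hφ.1 (by rw [map_mul, he1, map_zero])
  have h2 : (1 - ε) * b'' = 0 := hφ.1 (by rw [map_mul, map_sub, map_one, he2, map_zero])
  have g1 : Y.presheaf.germ W y hyW ε * a0 = 0 := by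
    rw [← ha'', ← map_mul, h1, map_zero]
  have g2 : (1 - Y.presheaf.germ W y hyW ε) * b0 = 0 := by
    have h3 := congrArg (Y.presheaf.germ W y hyW) h2
    rw [map_mul, map_sub, map_one, hb'', map_zero] at h3
    exact h3
  rcases IsLocalRing.isUnit_or_isUnit_one_sub_self (Y.presheaf.germ W y hyW ε) with hu | hu
  · exact Or.inl (hu.mul_right_eq_zero.1 g1)
  · exact Or.inr (hu.mul_right_eq_zero.1 g2)

include hfib in
theorem isIntegrallyClosed_stalk [IsLocallyNoetherian X]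
    (hX : ∀ x : X, IsDomain (X.presheaf.stalk x) ∧ IsIntegrallyClosed (X.presheaf.stalk x))
    (y : Y) [IsDomain (Y.presheaf.stalk y)] : IsIntegrallyClosed (Y.presheaf.stalk y) := by
  rw [isIntegrallyClosed_iff (FractionRing (Y.presheaf.stalk y))]
  intro z hz
  obtain ⟨a0, b0, hb0, rfl⟩ := IsFractionRing.div_surjective (Y.presheaf.stalk y) z
  obtain ⟨p, hpm, hpz⟩ := hz
  have hinj := IsFractionRing.injective (Y.presheaf.stalk y) (FractionRing (Y.presheaf.stalk y))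
  have hq : (p.scaleRoots b0).eval a0 = 0 := by
    have h1 := Polynomial.scaleRoots_eval₂_eq_zero_of_eval₂_div_eq_zero hinj hpz hb0
    rw [Polynomial.eval₂_hom] at h1
    exact hinj (h1.trans (map_zero _).symm)
  obtain ⟨V0, hyV0, P0, hP0, hP0map⟩ := exists_lift_polynomial y p hpm
  obtain ⟨Va, hyVa, a, ha⟩ := TopCat.Presheaf.germ_exist Y.presheaf a0
  obtain ⟨Vb, hyVb, b, hb⟩ := TopCat.Presheaf.germ_exist Y.presheaf b0
  have hyV : y ∈ V0 ⊓ (Va ⊓ Vb) := ⟨hyV0, hyVa, hyVb⟩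
  obtain ⟨P1, hP1, hP1map⟩ : ∃ P1 : Polynomial Γ(Y, V0 ⊓ (Va ⊓ Vb)), P1.Monic ∧
      P1.map (Y.presheaf.germ _ y hyV).hom = p :=
    ⟨P0.map (Y.presheaf.map (homOfLE inf_le_left).op).hom, hP0.map _,
      (map_map_germ (homOfLE inf_le_left) y hyV P0).trans hP0map⟩
  obtain ⟨a1, ha1⟩ : ∃ a1 : Γ(Y, V0 ⊓ (Va ⊓ Vb)), Y.presheaf.germ _ y hyV a1 = a0 :=
    ⟨Y.presheaf.map (homOfLE (inf_le_right.trans inf_le_left)).op a,
      (TopCat.Presheaf.germ_res_apply Y.presheaf (homOfLE (inf_le_right.trans inf_le_left)) y hyV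
        a).trans ha⟩
  obtain ⟨b1, hb1⟩ : ∃ b1 : Γ(Y, V0 ⊓ (Va ⊓ Vb)), Y.presheaf.germ _ y hyV b1 = b0 :=
    ⟨Y.presheaf.map (homOfLE (inf_le_right.trans inf_le_right)).op b,
      (TopCat.Presheaf.germ_res_apply Y.presheaf (homOfLE (inf_le_right.trans inf_le_right)) y hyV
        b).trans hb⟩
  have hE : Y.presheaf.germ _ y hyV ((P1.scaleRoots b1).eval a1) = Y.presheaf.germ _ y hyV 0 := by
    rw [map_zero]
    have h1 := map_eval_scaleRoots (Y.presheaf.germ _ y hyV).hom P1 hP1 a1 b1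
    rw [hP1map] at h1
    refine h1.trans ?_
    have e1 : (Y.presheaf.germ _ y hyV).hom a1 = a0 := ha1
    have e2 : (Y.presheaf.germ _ y hyV).hom b1 = b0 := hb1
    rw [e1, e2]
    exact hq
  obtain ⟨W, hyW, i1, i2, hW⟩ := TopCat.Presheaf.germ_eq Y.presheaf y hyV hyV _ _ hE
  haveI : Nontrivial Γ(Y, W) := (Y.presheaf.germ W y hyW).hom.domain_nontrivial
  obtain ⟨P2, hP2, a2, b2, ha2, hb2, hrel⟩ : ∃ P2 : Polynomial Γ(Y, W), P2.Monic ∧
      ∃ a2 b2 : Γ(Y, W), Y.presheaf.germ W y hyW a2 = a0 ∧ Y.presheaf.germ W y hyW b2 = b0 ∧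
        (P2.scaleRoots b2).eval a2 = 0 := by
    refine ⟨P1.map (Y.presheaf.map i1.op).hom, hP1.map _, Y.presheaf.map i1.op a1,
      Y.presheaf.map i1.op b1,
      (TopCat.Presheaf.germ_res_apply Y.presheaf i1 y hyW a1).trans ha1,
      (TopCat.Presheaf.germ_res_apply Y.presheaf i1 y hyW b1).trans hb1, ?_⟩
    have h1 := map_eval_scaleRoots (Y.presheaf.map i1.op).hom P1 hP1 a1 b1
    refine h1.symm.trans ?_
    exact hW.trans (map_zero _)
  haveI := hfib W
  have hφ : Function.Bijective (f.app W).hom := ConcreteCategory.bijective_of_isIso (f.app W)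
  haveI : Nontrivial Γ(X, f ⁻¹ᵁ W) := hφ.1.nontrivial
  have hrel' : ((P2.map (f.app W).hom).scaleRoots ((f.app W).hom b2)).eval ((f.app W).hom a2) = 0 := by
    rw [← map_eval_scaleRoots (f.app W).hom P2 hP2 a2 b2, hrel, map_zero]
  obtain ⟨δ, hδ⟩ := exists_div_section hX (P2.map (f.app W).hom) (hP2.map _) _ _ hrel'
  obtain ⟨d, rfl⟩ := hφ.2 δ
  have hd : a2 = b2 * d := hφ.1 (by rw [map_mul]; exact hδ)
  refine ⟨Y.presheaf.germ W y hyW d, ?_⟩
  have hb0' : algebraMap (Y.presheaf.stalk y) (FractionRing (Y.presheaf.stalk y)) b0 ≠ 0 := by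
    intro h
    exact (nonZeroDivisors.ne_zero hb0) (hinj (h.trans (map_zero _).symm))
  rw [eq_div_iff hb0', ← map_mul]
  congr 1
  rw [← ha2, ← hb2, hd, map_mul, mul_comm]

end Main

end Groth.Agent.Lib.R2Lead.NormalDesc
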