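import Mathlib
import Groth.Prelude.Def_CInt
import Groth.Agent.Lib.R2LeadNormalDesc
import Groth.Agent.Lib.Helper20RelCartier
import Groth.Agent.Lib.Helper22IdealComap

set_option autoImplicit false
universe u
open nonZeroDivisors CategoryTheory CategoryTheory.Limits AlgebraicGeometry TopologicalSpace Opposite

namespace Groth.Agent.Lib.H9CDivEq

/-- glue local quotients `b / a` when `a` is a nonzerodivisor on all smaller opens. -/
theorem exists_glue {X : Scheme.{u}} (O : X.Opens) (a b : Γ(X, O))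
    (hnzd : ∀ (O' : X.Opens) (h : O' ≤ O) (s : Γ(X, O')),
      (X.presheaf.map (homOfLE h).op).hom a * s = 0 → s = 0)
    (hloc : ∀ x ∈ O, ∃ (W : X.Opens) (h : W ≤ O), x ∈ W ∧ ∃ u : Γ(X, W),
      (X.presheaf.map (homOfLE h).op).hom b = u * (X.presheaf.map (homOfLE h).op).hom a) :
    ∃ u : Γ(X, O), b = u * a := by
  choose W hWO hxW u hu using hloc
  let U : O → X.Opens := fun x => W x.1 x.2
  have iUV : ∀ x : O, U x ⟶ O := fun x => homOfLE (hWO x.1 x.2)
  have hcover : O ≤ iSup U := fun x hx => Opens.mem_iSup.mpr ⟨⟨x, hx⟩, hxW x hx⟩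
  have ic : TopCat.Presheaf.IsCompatible X.presheaf U (fun x => u x.1 x.2) := by
    intro x y
    have hle : U x ⊓ U y ≤ O := inf_le_left.trans (hWO x.1 x.2)
    apply sub_eq_zero.mp
    apply hnzd (U x ⊓ U y) hle
    have h1 := congrArg (X.presheaf.map (Opens.infLELeft (U x) (U y)).op).hom (hu x.1 x.2)
    have h2 := congrArg (X.presheaf.map (Opens.infLERight (U x) (U y)).op).hom (hu y.1 y.2)
    rw [map_mul, ← CommRingCat.comp_apply, ← CommRingCat.comp_apply, ← Functor.map_comp] at h1 h2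
    change (X.presheaf.map (homOfLE hle).op).hom b = _ * (X.presheaf.map (homOfLE hle).op).hom a at h1
    change (X.presheaf.map (homOfLE hle).op).hom b = _ * (X.presheaf.map (homOfLE hle).op).hom a at h2
    rw [mul_sub, mul_comm, ← h1, mul_comm, ← h2, sub_self]
  obtain ⟨gl, gl_spec, -⟩ : ∃ gl : Γ(X, O),
      (∀ i, (X.presheaf.map (iUV i).op).hom gl = u i.1 i.2) ∧ _ :=
    X.sheaf.existsUnique_gluing' U O iUV hcover (fun x => u x.1 x.2) ic
  refine ⟨gl, X.sheaf.eq_of_locally_eq' U O iUV hcover _ _ fun i => ?_⟩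
  change (X.presheaf.map (iUV i).op).hom b = (X.presheaf.map (iUV i).op).hom (gl * a)
  rw [map_mul]
  rw [gl_spec i]
  exact hu i.1 i.2

theorem isIntegral_of_comp_injective {A B C : Type*} [CommRing A] [CommRing B] [CommRing C]
    (φ : A →+* B) (ψ : B →+* C) (hψ : Function.Injective ψ) (h : (ψ.comp φ).IsIntegral) :
    φ.IsIntegral := by
  intro y
  obtain ⟨P, hP, hPy⟩ := h (ψ y)
  refine ⟨P, hP, hψ ?_⟩
  rw [map_zero, Polynomial.hom_eval₂]
  exact hPy

/-- a universally closed morphism is integral on sections over affine opens of the target. -/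
theorem isIntegral_app_of_universallyClosed {X Y : Scheme.{u}} (f : X ⟶ Y) [UniversallyClosed f]
    (U : Y.Opens) (hU : IsAffineOpen U) : (f.app U).hom.IsIntegral := by
  haveI : IsAffine U.toScheme := hU
  haveI : UniversallyClosed (f ∣_ U) := IsZariskiLocalAtTarget.restrict ‹UniversallyClosed f› U
  have h := isIntegral_appTop_of_universallyClosed (f ∣_ U)
  rw [morphismRestrict_appTop] at h
  have h1 : (f.app (U.ι ''ᵁ ⊤)).hom.IsIntegral := by
    refine isIntegral_of_comp_injective _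
      (X.presheaf.map (eqToHom (image_morphismRestrict_preimage f U ⊤)).op).hom ?_ ?_
    · exact (ConcreteCategory.bijective_of_isIso
        (X.presheaf.map (eqToHom (image_morphismRestrict_preimage f U ⊤)).op)).1
    · exact h
  have key : ∀ U' : Y.Opens, U' = U → (f.app U').hom.IsIntegral → (f.app U).hom.IsIntegral := by
    rintro _ rfl h; exact h
  exact key _ (by simp) h1

/-- if `a` is invertible on `O ⊓ U'` for a schematically dense `U'`, then `a` is a nonzerodivisor on
every open inside `O`. -/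
theorem nzd_of_schematicallyDense {X : Scheme.{u}} (U' : X.Opens)
    (hU' : CInt.IsSchematicallyDense U') (O : X.Opens) (a : Γ(X, O))
    (ha : O ⊓ U' ≤ X.basicOpen a) (O' : X.Opens) (h : O' ≤ O) (s : Γ(X, O'))
    (hs : (X.presheaf.map (homOfLE h).op).hom a * s = 0) : s = 0 := by
  apply hU' O'
  rw [map_zero]
  obtain ⟨a', ha'⟩ : ∃ a', a' = (X.presheaf.map (homOfLE h).op).hom a := ⟨_, rfl⟩
  rw [← ha'] at hs
  have hle : O' ⊓ U' ≤ X.basicOpen a' := by
    rw [ha', Scheme.basicOpen_res]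
    exact le_inf inf_le_left ((inf_le_inf_right U' h).trans ha)
  have hunit : IsUnit ((X.presheaf.map (homOfLE (inf_le_left : O' ⊓ U' ≤ O')).op).hom a') := by
    have h1 : IsUnit ((X.presheaf.map (homOfLE (X.basicOpen_le a')).op).hom a') :=
      RingedSpace.isUnit_res_basicOpen X.toRingedSpace a'
    have h2 := h1.map (X.presheaf.map (homOfLE hle).op).hom
    rw [← CommRingCat.comp_apply, ← Functor.map_comp] at h2
    exact h2
  have h3 := congrArg (X.presheaf.map (homOfLE (inf_le_left : O' ⊓ U' ≤ O')).op).hom hs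
  rw [map_mul, map_zero] at h3
  exact (hunit.mul_right_eq_zero).mp h3

open Polynomial in
theorem dvd_of_comap_le {S S' : Scheme.{u}} [IsLocallyNoetherian S]
    (hnorm : ∀ x : S, IsDomain (S.presheaf.stalk x) ∧ IsIntegrallyClosed (S.presheaf.stalk x))
    (f : S' ⟶ S) [UniversallyClosed f] [QuasiCompact f] (hdom : f.ker = ⊥)
    (U : S.Opens) (hU' : CInt.IsSchematicallyDense (f ⁻¹ᵁ U))
    (D E : S.IdealSheafData) (hDU : (D.support : Set S) ⊆ (U : Set S)ᶜ)
    (h : E.comap f ≤ D.comap f)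
    (V : S.affineOpens) (d e : Γ(S, V.1)) (hd : D.ideal V = Ideal.span {d})
    (he : E.ideal V = Ideal.span {e}) : ∃ δ, e = d * δ := by
  set O := f ⁻¹ᵁ V.1 with hO
  set φ := (f.app V.1).hom with hφ
  have ha : O ⊓ f ⁻¹ᵁ U ≤ S'.basicOpen (φ d) := by
    rintro x ⟨hxO, hxU⟩
    have h1 : f x ∉ D.support := fun hmem => hDU hmem hxU
    rw [Scheme.IdealSheafData.mem_support_iff_of_mem (U := V) hxO, hd, Scheme.zeroLocus_span,
      Scheme.zeroLocus_singleton] at h1
    have h2 : f x ∈ S.basicOpen d := by simpa using h1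
    have h3 : x ∈ f ⁻¹ᵁ S.basicOpen d := h2
    rw [Scheme.preimage_basicOpen] at h3
    exact h3
  have hloc : ∀ x ∈ O, ∃ (W : S'.Opens) (hW : W ≤ O), x ∈ W ∧ ∃ u : Γ(S', W),
      (S'.presheaf.map (homOfLE hW).op).hom (φ e) = u * (S'.presheaf.map (homOfLE hW).op).hom (φ d) := by
    intro x hx
    obtain ⟨W, hW, hxW, hWO⟩ := exists_isAffineOpen_mem_and_subset (x := x) (U := O) hx
    refine ⟨W, hWO, hxW, ?_⟩
    have h1 := h ⟨W, hW⟩
    rw [Groth.Agent.Lib.Helper22.IdealComap.ideal_comap_eq_map f E ⟨W, hW⟩ V hWO,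
      Groth.Agent.Lib.Helper22.IdealComap.ideal_comap_eq_map f D ⟨W, hW⟩ V hWO, hd, he,
      Ideal.map_span, Ideal.map_span, Set.image_singleton, Set.image_singleton,
      Ideal.span_singleton_le_iff_mem, Ideal.mem_span_singleton'] at h1
    obtain ⟨u, hu⟩ := h1
    exact ⟨u, hu.symm⟩
  obtain ⟨u, hu⟩ := exists_glue O (φ d) (φ e)
    (nzd_of_schematicallyDense (f ⁻¹ᵁ U) hU' O (φ d) ha) hloc
  obtain ⟨P, hP, hPu⟩ := isIntegral_app_of_universallyClosed f V.1 V.2 u
  have hinj : Function.Injective φ := by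
    rw [RingHom.injective_iff_ker_eq_bot, hφ, ← Scheme.Hom.ker_apply, hdom]
    rfl
  have hrel : (P.scaleRoots d).eval e = 0 := by
    apply hinj
    rw [map_zero, ← Polynomial.eval₂_at_apply, hu, mul_comm, Polynomial.scaleRoots_eval₂_mul, hPu,
      mul_zero]
  exact Groth.Agent.Lib.R2Lead.NormalDesc.exists_div_section hnorm P hP e d hrel

theorem main {S S' : Scheme.{u}} [IsLocallyNoetherian S]
    (hnorm : ∀ x : S, IsDomain (S.presheaf.stalk x) ∧ IsIntegrallyClosed (S.presheaf.stalk x))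
    (f : S' ⟶ S) [IsProper f] (hdom : f.ker = ⊥)
    (U : S.Opens) (hU' : CInt.IsSchematicallyDense (f ⁻¹ᵁ U))
    (D E : S.IdealSheafData) (hD : BlowUp.IsEffCartierIdeal D) (hE : BlowUp.IsEffCartierIdeal E)
    (hDU : (D.support : Set S) ⊆ (U : Set S)ᶜ) (hEU : (E.support : Set S) ⊆ (U : Set S)ᶜ)
    (h : D.comap f = E.comap f) : D = E := by
  let ι : Type u := {V : S.affineOpens // ∃ d e : Γ(S, V.1),
    D.ideal V = Ideal.span {d} ∧ E.ideal V = Ideal.span {e}}
  have key : ∀ (V : S.affineOpens) (d e : Γ(S, V.1)), D.ideal V = Ideal.span {d} →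
      E.ideal V = Ideal.span {e} → D.ideal V = E.ideal V := by
    intro V d e hd he
    obtain ⟨δ, hδ⟩ := dvd_of_comap_le hnorm f hdom U hU' D E hDU h.ge V d e hd he
    obtain ⟨δ', hδ'⟩ := dvd_of_comap_le hnorm f hdom U hU' E D hEU h.le V e d he hd
    rw [hd, he]
    apply le_antisymm
    · rw [Ideal.span_singleton_le_iff_mem, Ideal.mem_span_singleton']
      exact ⟨δ', by rw [mul_comm]; exact hδ'.symm⟩
    · rw [Ideal.span_singleton_le_iff_mem, Ideal.mem_span_singleton']
      exact ⟨δ, by rw [mul_comm]; exact hδ.symm⟩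
  refine Scheme.IdealSheafData.ext_of_iSup_eq_top (ι := ι) (fun V => V.1) ?_ ?_
  · rw [eq_top_iff]
    intro x _
    obtain ⟨V, hV, hxV, -, d, e, -, -, hd, he⟩ :=
      Groth.Agent.Lib.Helper20.RelCartier.exists_common hD hE x ⊤ trivial
    exact Opens.mem_iSup.mpr ⟨⟨⟨V, hV⟩, d, e, hd, he⟩, hxV⟩
  · rintro ⟨V, d, e, hd, he⟩
    exact key V d e hd he


end Groth.Agent.Lib.H9CDivEq
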