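import Mathlib
import Groth.Prelude.Def_CDiv
import Groth.Prelude.Def_CAlg
import Groth.Prelude.Def_Pi1
import Groth.Agent.Lib.Helper15CDiv
import Groth.Agent.Lib.Helper14DimOne
import Groth.Agent.Lib.Helper28FlatNormal
import Groth.Agent.S2874

set_option autoImplicit false
set_option linter.style.haveILetI false
universe u
open CategoryTheory CategoryTheory.Limits AlgebraicGeometry TopologicalSpace

namespace Groth.Agent.Lib.H9CDivOrd

open CDiv Groth.Agent.Lib.Helper15CDiv

/-- a normal Noetherian local domain of depth one is a DVR of Krull dimension one. -/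
theorem isDVR_of_depth_one {F : Type u} [CommRing F] [IsNoetherianRing F] [IsLocalRing F]
    [IsDomain F] [IsIntegrallyClosed F] (h : LocCoh.depth F F = 1) :
    IsDiscreteValuationRing F ∧ ringKrullDim F = 1 := by
  obtain ⟨r, hr, hr'⟩ := Groth.Agent.Lib.Helper14.DimOne.exists_mem_nonZeroDivisors_of_depth_eq_one h
  have hr0 : r ≠ 0 := nonZeroDivisors.ne_zero hr'
  have hne : IsLocalRing.maximalIdeal F ≠ ⊥ := by
    intro hb
    rw [hb, Ideal.mem_bot] at hr
    exact hr0 hr
  have hht := Groth.Agent.Lib.Helper28.min_two_height_le_depth_of_isIntegrallyClosed (F := F)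
  rw [h] at hht
  have hht1 : (IsLocalRing.maximalIdeal F).height ≤ 1 := by
    rcases le_total 2 (IsLocalRing.maximalIdeal F).height with h2 | h2
    · rw [min_eq_left h2] at hht
      exact absurd hht (by decide)
    · rwa [min_eq_right h2] at hht
  have hd : ringKrullDim F ≤ 1 := by
    rw [← IsLocalRing.maximalIdeal_height_eq_ringKrullDim]
    exact_mod_cast hht1
  haveI : Ring.KrullDimLE 1 F := Ring.krullDimLE_iff.mpr hd
  have h3 : IsIntegrallyClosed F ∧
      ∀ P : Ideal F, P ≠ ⊥ → P.IsPrime → P = IsLocalRing.maximalIdeal F := by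
    refine ⟨inferInstance, fun P hP hP' => ?_⟩
    exact IsLocalRing.eq_maximalIdeal (hP'.isMaximal_of_ne_bot hP)
  haveI : IsPrincipalIdealRing F :=
    ((tfae_of_isNoetherianRing_of_isLocalRing_of_isDomain F).out 3 0).mp h3
  have hdvr : IsDiscreteValuationRing F := { not_a_field' := hne }
  have hn0 : ¬ ringKrullDim F ≤ 0 := fun h0 => by
    haveI : Ring.KrullDimLE 0 F := Ring.krullDimLE_iff.mpr h0
    exact IsDiscreteValuationRing.not_isField F Ring.KrullDimLE.isField_of_isDomain
  exact ⟨hdvr, le_antisymm hd (Order.succ_le_of_lt (lt_of_not_ge hn0))⟩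

variable {X : Scheme.{u}} [IsIntegral X] [IsLocallyNoetherian X]

theorem coheight_eq_one_of_depth_one (hX : Pi1.IsNormalScheme X) (x : X)
    (h : LocCoh.depth (X.presheaf.stalk x) (X.presheaf.stalk x) = 1) :
    IsDiscreteValuationRing (X.presheaf.stalk x) ∧ Order.coheight x = 1 := by
  haveI := (hX x).1
  haveI := (hX x).2
  obtain ⟨h1, h2⟩ := isDVR_of_depth_one h
  refine ⟨h1, ?_⟩
  rw [AlgebraicGeometry.ringKrullDim_stalk_eq_coheight] at h2
  exact_mod_cast h2

/-- an effective germ at a point of codimension one has non-negative order. -/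
theorem ord_nonneg_of_isEffectiveAt (D : CDiv.Divisor X) (x : X) (hx : Order.coheight x = 1)
    (hE : CDiv.IsEffectiveAt D x) (f : CDiv.KUnits X) (hf : D.1 x = CDiv.germOf X x f) :
    0 ≤ Scheme.ord (f : X.functionField) x := by
  obtain ⟨a, ha, hD⟩ := hE
  rw [hf, germOf, germOf, QuotientGroup.eq] at hD
  obtain ⟨u, hu⟩ := hD
  have hu' : algebraMap (X.presheaf.stalk x) X.functionField (u : X.presheaf.stalk x)
      = (f : X.functionField)⁻¹ * algebraMap (X.presheaf.stalk x) X.functionField a := by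
    simpa using congrArg Units.val hu
  have hf0 : (f : X.functionField) ≠ 0 := f.ne_zero
  have hfa : (f : X.functionField)
      = algebraMap (X.presheaf.stalk x) X.functionField (a * ((u⁻¹ : (X.presheaf.stalk x)ˣ) : X.presheaf.stalk x)) := by
    have h1 : algebraMap (X.presheaf.stalk x) X.functionField a
        = (f : X.functionField) * algebraMap (X.presheaf.stalk x) X.functionField (u : X.presheaf.stalk x) := by
      rw [hu']; field_simp
    rw [map_mul, h1, mul_assoc, ← map_mul, Units.mul_inv, map_one, mul_one]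
  have hne : a * ((u⁻¹ : (X.presheaf.stalk x)ˣ) : X.presheaf.stalk x) ≠ 0 := by
    intro h0
    rw [h0, map_zero] at hfa
    exact hf0 hfa
  rw [Scheme.le_ord_iff hx hf0]
  haveI : Ring.KrullDimLE 1 (X.presheaf.stalk x) := krullDimLE_of_coheight_le hx.le
  have := Ring.ordFrac_ge_one_of_ne_zero (K := X.functionField) hne
  rw [← hfa] at this
  simpa [Scheme.ordHom] using this

theorem isEffectiveAt_of_ord_nonneg (D : CDiv.Divisor X) (x : X) (hx : Order.coheight x = 1)
    [IsDiscreteValuationRing (X.presheaf.stalk x)]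
    (f : CDiv.KUnits X) (hf : D.1 x = CDiv.germOf X x f)
    (h : 0 ≤ Scheme.ord (f : X.functionField) x) : CDiv.IsEffectiveAt D x := by
  have hf0 : (f : X.functionField) ≠ 0 := f.ne_zero
  rw [Scheme.le_ord_iff hx hf0] at h
  have h1 : (1 : WithZero (Multiplicative ℤ)) ≤ Ring.ordFrac (X.presheaf.stalk x) (f : X.functionField) := by
    simpa [Scheme.ordHom] using h
  rw [Ring.ordFrac_eq_valuation_inv] at h1
  have h2 : (IsDiscreteValuationRing.maximalIdeal (X.presheaf.stalk x)).valuation X.functionField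
      (f : X.functionField) ≤ 1 := by
    have hv0 : (IsDiscreteValuationRing.maximalIdeal (X.presheaf.stalk x)).valuation X.functionField
      (f : X.functionField) ≠ 0 := by simpa using hf0
    exact (one_le_inv₀ (zero_lt_iff.mpr hv0)).mp h1
  obtain ⟨a, ha⟩ := IsDiscreteValuationRing.exists_lift_of_le_one h2
  refine ⟨a, by rw [ha]; exact hf0, ?_⟩
  rw [hf]
  congr 1
  exact Units.ext ha.symm

theorem germ_eq_one_of_ord_eq_zero (D : CDiv.Divisor X) (x : X) (hx : Order.coheight x = 1)
    [IsDiscreteValuationRing (X.presheaf.stalk x)]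
    (f : CDiv.KUnits X) (hf : D.1 x = CDiv.germOf X x f)
    (h : Scheme.ord (f : X.functionField) x = 0) : D.1 x = 1 := by
  have hf0 : (f : X.functionField) ≠ 0 := f.ne_zero
  rw [Scheme.ord_eq_iff hx hf0] at h
  have h1 : Ring.ordFrac (X.presheaf.stalk x) (f : X.functionField) = 1 := by
    simpa [Scheme.ordHom] using h
  have h2 : (f : X.functionField) ∈ MonoidHom.mker (Ring.ordFrac (X.presheaf.stalk x) (K := X.functionField)) := h1
  rw [Ring.mker_ordFrac_eq_isUnitSubmonoid] at h2
  obtain ⟨a, ha, haf⟩ := h2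
  rw [hf, germOf_eq_one_iff]
  exact ⟨(ha : IsUnit a).unit, by simpa using haf⟩

theorem main (X : Scheme.{u}) [IsIntegral X] [IsLocallyNoetherian X]
    (hX : Pi1.IsNormalScheme X) (D : CDiv.Divisor X) :
    (CDiv.IsEffective D ↔
      ∀ x : ↥X, Order.coheight x = 1 → ∀ f : CDiv.KUnits X, D.1 x = CDiv.germOf X x f →
        0 ≤ Scheme.ord (f : ↑X.functionField) x) ∧
    ((∀ x : ↥X, Order.coheight x = 1 → ∀ f : CDiv.KUnits X, D.1 x = CDiv.germOf X x f →
        Scheme.ord (f : ↑X.functionField) x = 0) → D = 1) := by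
  refine ⟨⟨fun hE x hx f hf => ord_nonneg_of_isEffectiveAt D x hx (hE x) f hf, fun H => ?_⟩,
    fun H => ?_⟩
  · refine (Groth.Agent.S2874.result X D).1 fun x hd => ?_
    obtain ⟨hdvr, hx⟩ := coheight_eq_one_of_depth_one hX x hd
    obtain ⟨U, f, hxU, hU⟩ := D.2 x
    exact isEffectiveAt_of_ord_nonneg D x hx f (hU x hxU) (H x hx f (hU x hxU))
  · refine (Groth.Agent.S2874.result X D).2 fun x hd => ?_
    obtain ⟨hdvr, hx⟩ := coheight_eq_one_of_depth_one hX x hd
    obtain ⟨U, f, hxU, hU⟩ := D.2 x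
    exact germ_eq_one_of_ord_eq_zero D x hx f (hU x hxU) (H x hx f (hU x hxU))

end Groth.Agent.Lib.H9CDivOrd
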