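import Mathlib
import Groth.Agent.Lib.H9CDivOrd
import Groth.Agent.Lib.Helper20DivDepth
import Groth.Agent.Lib.Helper2QCoh

set_option autoImplicit false
set_option linter.style.haveILetI false
universe u
open CategoryTheory CategoryTheory.Limits AlgebraicGeometry TopologicalSpace

namespace Groth.Agent.Lib.H9CDivUFD

open CDiv Groth.Agent.Lib.Helper15CDiv Groth.Agent.Lib.H9CDivOrd nonZeroDivisors
open Groth.Agent.Lib.Helper20.DivDepth Groth.Agent.Lib.Helper2.QCoh

variable {X : Scheme.{u}} [IsIntegral X]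

/-- compatibility of the structure maps to the function field with specialization. -/
theorem algebraMap_stalkSpecializes {x y : X} (h : y ⤳ x) (a : X.presheaf.stalk x) :
    algebraMap (X.presheaf.stalk y) X.functionField ((X.presheaf.stalkSpecializes h).hom a) =
      algebraMap (X.presheaf.stalk x) X.functionField a := by
  simp only [RingHom.algebraMap_toAlgebra]
  rw [← CommRingCat.comp_apply, TopCat.Presheaf.stalkSpecializes_comp]

section Ord
variable [IsLocallyNoetherian X]

theorem ord_algebraMap_of_isUnit (x : X) (a : X.presheaf.stalk x) (ha : IsUnit a) :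
    Scheme.ord (algebraMap (X.presheaf.stalk x) X.functionField a) x = 0 := by
  by_cases hx : Order.coheight x = 1
  · have h0 : algebraMap (X.presheaf.stalk x) X.functionField a ≠ 0 := (ha.map _).ne_zero
    rw [Scheme.ord_eq_iff hx h0]
    haveI : Ring.KrullDimLE 1 (X.presheaf.stalk x) := krullDimLE_of_coheight_le hx.le
    have := Ring.ordFrac_of_isUnit (K := X.functionField) ha
    simpa [Scheme.ordHom] using this
  · simp [hx]

theorem ord_one (x : X) : Scheme.ord (1 : X.functionField) x = 0 := by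
  have := ord_algebraMap_of_isUnit x 1 isUnit_one
  rwa [map_one] at this

theorem ord_inv (x : X) (f : X.functionField) (hf : f ≠ 0) :
    Scheme.ord f⁻¹ x = - Scheme.ord f x := by
  have h := Scheme.ord_mul (x := x) hf (inv_ne_zero hf)
  rw [mul_inv_cancel₀ hf, ord_one] at h
  linarith

theorem ord_algebraMap_nonneg (x : X) (a : X.presheaf.stalk x)
    (ha : algebraMap (X.presheaf.stalk x) X.functionField a ≠ 0) :
    0 ≤ Scheme.ord (algebraMap (X.presheaf.stalk x) X.functionField a) x := by
  by_cases hx : Order.coheight x = 1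
  · rw [Scheme.le_ord_iff hx ha]
    haveI : Ring.KrullDimLE 1 (X.presheaf.stalk x) := krullDimLE_of_coheight_le hx.le
    have ha0 : a ≠ 0 := fun h => ha (by rw [h, map_zero])
    have := Ring.ordFrac_ge_one_of_ne_zero (K := X.functionField) ha0
    simpa [Scheme.ordHom] using this
  · simp [hx]

theorem ord_eq_of_germOf_eq (x : X) (f f' : KUnits X)
    (h : germOf X x f = germOf X x f') :
    Scheme.ord (f' : X.functionField) x = Scheme.ord (f : X.functionField) x := by
  rw [germOf, germOf, QuotientGroup.eq] at h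
  obtain ⟨u, hu⟩ := h
  have hu' : algebraMap (X.presheaf.stalk x) X.functionField (u : X.presheaf.stalk x)
      = (f : X.functionField)⁻¹ * (f' : X.functionField) := by
    simpa using congrArg Units.val hu
  have hf0 : (f : X.functionField) ≠ 0 := f.ne_zero
  have h1 : (f' : X.functionField)
      = (f : X.functionField) * algebraMap (X.presheaf.stalk x) X.functionField (u : X.presheaf.stalk x) := by
    rw [hu']; field_simp
  rw [h1, Scheme.ord_mul hf0 ((u.isUnit.map _).ne_zero), ord_algebraMap_of_isUnit x _ u.isUnit,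
    add_zero]

/-- at a codimension one point with DVR local ring, nonzero elements of the maximal ideal have
positive order. -/
theorem ord_algebraMap_pos (x : X) (hx : Order.coheight x = 1)
    [IsDiscreteValuationRing (X.presheaf.stalk x)] (a : X.presheaf.stalk x)
    (ha : a ∈ IsLocalRing.maximalIdeal (X.presheaf.stalk x)) (ha0 : a ≠ 0) :
    1 ≤ Scheme.ord (algebraMap (X.presheaf.stalk x) X.functionField a) x := by
  have h0 : algebraMap (X.presheaf.stalk x) X.functionField a ≠ 0 := fun h =>
    ha0 (algebraMap_stalk_injective x (by rw [h, map_zero]))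
  have h1 := ord_algebraMap_nonneg x a h0
  have h2 : Scheme.ord (algebraMap (X.presheaf.stalk x) X.functionField a) x ≠ 0 := by
    intro h
    rw [Scheme.ord_eq_iff hx h0] at h
    have h3 : Ring.ordFrac (X.presheaf.stalk x) (algebraMap (X.presheaf.stalk x) X.functionField a) = 1 := by
      simpa [Scheme.ordHom] using h
    have := (Ring.isUnit_iff_ordFrac_one_of_isDiscreteValuationRing (K := X.functionField)).mpr h3
    exact ha this
  omega

end Ord

section Local

theorem exists_local_rep_le (D : Divisor X) (x : X) (W : X.Opens) (hxW : x ∈ W) :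
    ∃ (U : X.Opens) (_ : IsAffineOpen U) (_ : x ∈ U) (_ : U ≤ W) (a b : Γ(X, U)) (_ : a ≠ 0)
      (_ : b ≠ 0) (f : KUnits X), (∀ y ∈ U, D.1 y = germOf X y f) ∧
      ∀ (y : X) (hy : y ∈ U), (f : X.functionField) *
          algebraMap (X.presheaf.stalk y) X.functionField (X.presheaf.germ U y hy b)
        = algebraMap (X.presheaf.stalk y) X.functionField (X.presheaf.germ U y hy a) := by
  obtain ⟨U₀, f, hx, hU₀⟩ := D.2 x
  obtain ⟨_, ⟨A, hA, rfl⟩, hxA, hAU⟩ :=
    X.isBasis_affineOpens.exists_subset_of_mem_open (show x ∈ ((U₀ ⊓ W : X.Opens) : Set X) from ⟨hx, hxW⟩)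
      (U₀ ⊓ W).isOpen
  have : Nonempty A := ⟨⟨x, hxA⟩⟩
  have := functionField_isFractionRing_of_isAffineOpen X A hA
  obtain ⟨a, b, hb, hab⟩ := IsFractionRing.div_surjective (A := Γ(X, A)) (f : X.functionField)
  have hb0 : b ≠ 0 := nonZeroDivisors.ne_zero hb
  have hb' : algebraMap Γ(X, A) X.functionField b ≠ 0 := by
    intro h0
    exact hb0 (IsFractionRing.injective Γ(X, A) X.functionField (by rw [h0, map_zero]))
  have hfab : (f : X.functionField) * algebraMap Γ(X, A) X.functionField b
      = algebraMap Γ(X, A) X.functionField a := by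
    rw [← hab]
    field_simp
  have ha0 : a ≠ 0 := by
    rintro rfl
    rw [map_zero] at hfab
    exact (mul_ne_zero f.ne_zero hb') hfab
  refine ⟨A, hA, hxA, fun y hy => (hAU hy).2, a, b, ha0, hb0, f, fun y hy => hU₀ y (hAU hy).1, ?_⟩
  intro y hy
  rw [Scheme.algebraMap_germ_eq_germToFunctionField, Scheme.algebraMap_germ_eq_germToFunctionField]
  exact hfab

theorem isEffectiveAt_of_depth_one_le [IsLocallyNoetherian X] (D : CDiv.Divisor X) (W : X.Opens)
    (H : ∀ x : X, x ∈ W → LocCoh.depth (X.presheaf.stalk x) (X.presheaf.stalk x) = 1 →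
      CDiv.IsEffectiveAt D x) (x : X) (hxW : x ∈ W) :
    CDiv.IsEffectiveAt D x := by
  obtain ⟨U, hU, hxU, hUW, a, b, ha, hb, f, hf, hab⟩ := exists_local_rep_le D x W hxW
  have : Nonempty U := ⟨⟨x, hxU⟩⟩
  have hbN : b ∈ Γ(X, U)⁰ := mem_nonZeroDivisors_of_ne_zero hb
  have hgerm0 : ∀ (y : X) (hy : y ∈ U) (c : Γ(X, U)), c ≠ 0 → X.presheaf.germ U y hy c ≠ 0 := by
    intro y hy c hc h0
    exact hc (germ_injective_of_isIntegral X y hy (by rw [h0, map_zero]))
  set J : Ideal Γ(X, U) := Submodule.colon (Ideal.span {b} : Submodule Γ(X, U) Γ(X, U)) {a} with hJ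
  have hJmem : ∀ s : Γ(X, U), s ∈ J ↔ s * a ∈ Ideal.span {b} := fun s => by
    simp only [hJ, Submodule.mem_colon_singleton, smul_eq_mul]
  have hJtop : J = ⊤ := by
    by_contra hne
    obtain ⟨p, hp⟩ := Ideal.nonempty_minimalPrimes hne
    have : p.IsPrime := hp.1.1
    let P : PrimeSpectrum Γ(X, U) := ⟨p, inferInstance⟩
    have hyU : hU.fromSpec P ∈ U := fromSpec_mem hU P
    have hPy : hU.primeIdealOf ⟨hU.fromSpec P, hyU⟩ = P := primeIdealOf_fromSpec hU P
    have hdepth := depth_eq_one_of_mem_minimalPrimes hU a b hbN (hU.fromSpec P) hyU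
      (by rw [hPy]; exact hp)
    have hE := H _ (hUW hyU) hdepth
    have hmem := mem_span_of_isEffectiveAt f _ _ (hab _ hyU) D (hf _ hyU) hE
    obtain ⟨s, hs, hsa⟩ := (germ_mem_span_iff hU _ hyU a b).1 hmem
    rw [hPy] at hs
    exact hs (hp.1.2 ((hJmem s).2 hsa))
  have hab' : a ∈ Ideal.span {b} := by
    have h1 : (1 : Γ(X, U)) ∈ J := hJtop ▸ Submodule.mem_top
    rw [hJmem, one_mul] at h1
    exact h1
  obtain ⟨c, hc⟩ := Ideal.mem_span_singleton'.1 hab'
  refine isEffectiveAt_of_mem_span f _ _ (hab x hxU) (hgerm0 x hxU b hb) D (hf x hxU) ?_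
  rw [Ideal.mem_span_singleton']
  exact ⟨X.presheaf.germ U x hxU c, by rw [← map_mul, hc]⟩

/-- local form of the criterion: on a normal scheme a divisor with non-negative orders at the
codimension one points of an open set is effective on this open set. -/
theorem isEffectiveAt_of_ord_nonneg_le [IsLocallyNoetherian X] (hX : Pi1.IsNormalScheme X)
    (D : CDiv.Divisor X) (W : X.Opens)
    (H : ∀ y : X, y ∈ W → Order.coheight y = 1 → ∀ f : CDiv.KUnits X, D.1 y = CDiv.germOf X y f →
      0 ≤ Scheme.ord (f : X.functionField) y) (x : X) (hxW : x ∈ W) :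
    CDiv.IsEffectiveAt D x := by
  refine isEffectiveAt_of_depth_one_le D W (fun y hyW hd => ?_) x hxW
  obtain ⟨hdvr, hy⟩ := coheight_eq_one_of_depth_one hX y hd
  obtain ⟨U, f, hyU, hU⟩ := D.2 y
  exact isEffectiveAt_of_ord_nonneg D y hy f (hU y hyU) (H y hyW hy f (hU y hyU))

end Local

section Converse

theorem isDVR_of_dim_one {F : Type u} [CommRing F] [IsNoetherianRing F] [IsLocalRing F]
    [IsDomain F] [IsIntegrallyClosed F] (hd : ringKrullDim F = 1) :
    IsDiscreteValuationRing F := by
  haveI : Ring.KrullDimLE 1 F := Ring.krullDimLE_iff.mpr hd.le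
  have hnf : ¬ IsField F := fun hf => by
    have := ringKrullDim_eq_zero_of_isField hf
    rw [hd] at this
    exact one_ne_zero this
  have hne : IsLocalRing.maximalIdeal F ≠ ⊥ := fun hb =>
    hnf (IsLocalRing.isField_iff_maximalIdeal_eq.mpr hb)
  have h3 : IsIntegrallyClosed F ∧
      ∀ P : Ideal F, P ≠ ⊥ → P.IsPrime → P = IsLocalRing.maximalIdeal F := by
    refine ⟨inferInstance, fun P hP hP' => ?_⟩
    exact IsLocalRing.eq_maximalIdeal (hP'.isMaximal_of_ne_bot hP)
  haveI : IsPrincipalIdealRing F :=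
    ((tfae_of_isNoetherianRing_of_isLocalRing_of_isDomain F).out 3 0).mp h3
  exact { not_a_field' := hne }

theorem isDVR_of_coheight_one [IsLocallyNoetherian X] (hX : Pi1.IsNormalScheme X) (x : X)
    (hx : Order.coheight x = 1) : IsDiscreteValuationRing (X.presheaf.stalk x) := by
  haveI := (hX x).1
  haveI := (hX x).2
  apply isDVR_of_dim_one
  rw [AlgebraicGeometry.ringKrullDim_stalk_eq_coheight, hx]
  rfl

theorem stalkUnits_le_of_specializes {x ζ : X} (h : ζ ⤳ x) :
    CDiv.stalkUnits X x ≤ CDiv.stalkUnits X ζ := by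
  rintro _ ⟨u, rfl⟩
  exact ⟨Units.map (X.presheaf.stalkSpecializes h).hom.toMonoidHom u,
    Units.ext (algebraMap_stalkSpecializes h (u : X.presheaf.stalk x))⟩

theorem germOf_eq_of_specializes {x ζ : X} (h : ζ ⤳ x) {F f : KUnits X}
    (hx : germOf X x F = germOf X x f) : germOf X ζ F = germOf X ζ f := by
  rw [germOf, germOf, QuotientGroup.eq] at hx ⊢
  exact stalkUnits_le_of_specializes h hx

theorem isEffective_of_ord [IsLocallyNoetherian X] (hX : Pi1.IsNormalScheme X) (ζ : X)
    (D : CDiv.Divisor X)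
    (hD1 : ∀ f : KUnits X, D.1 ζ = germOf X ζ f → Scheme.ord (f : X.functionField) ζ = 1)
    (hD0 : ∀ x : X, x ≠ ζ → Order.coheight x = 1 → ∀ f : KUnits X, D.1 x = germOf X x f →
       Scheme.ord (f : X.functionField) x = 0) : CDiv.IsEffective D := by
  refine (Groth.Agent.Lib.H9CDivOrd.main X hX D).1.mpr (fun y hy f hf => ?_)
  by_cases hyζ : y = ζ
  · subst hyζ
    rw [hD1 f hf]
    norm_num
  · rw [hD0 y hyζ hy f hf]

theorem exists_generator [IsLocallyNoetherian X] (hX : Pi1.IsNormalScheme X) (ζ : X)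
    (hζ : Order.coheight ζ = 1) (D : CDiv.Divisor X)
    (hD1 : ∀ f : KUnits X, D.1 ζ = germOf X ζ f → Scheme.ord (f : X.functionField) ζ = 1)
    (hD0 : ∀ x : X, x ≠ ζ → Order.coheight x = 1 → ∀ f : KUnits X, D.1 x = germOf X x f →
       Scheme.ord (f : X.functionField) x = 0)
    (x : X) (h : ζ ⤳ x) :
    ∃ t : X.presheaf.stalk x, t ∈ nonZeroDivisors (X.presheaf.stalk x) ∧
      (IsLocalRing.maximalIdeal (X.presheaf.stalk ζ)).comap (X.presheaf.stalkSpecializes h).hom
        = Ideal.span {t} := by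
  haveI := isDVR_of_coheight_one hX ζ hζ
  have hEff := isEffective_of_ord hX ζ D hD1 hD0
  obtain ⟨U₀, f, hxU₀, hU₀⟩ := D.2 x
  have hζU₀ : ζ ∈ U₀ := h.mem_open U₀.isOpen hxU₀
  obtain ⟨t, ht0, hDt⟩ := hEff x
  set F : KUnits X := Units.mk0 _ ht0 with hF
  have hFval : (F : X.functionField) = algebraMap (X.presheaf.stalk x) X.functionField t := rfl
  have hFf : germOf X x F = germOf X x f := hDt.symm.trans (hU₀ x hxU₀)
  have hFfζ : germOf X ζ F = germOf X ζ f := germOf_eq_of_specializes h hFf
  have hordF : Scheme.ord (F : X.functionField) ζ = 1 := hD1 F ((hU₀ ζ hζU₀).trans hFfζ.symm)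
  have hordf : Scheme.ord (f : X.functionField) ζ = 1 := hD1 f (hU₀ ζ hζU₀)
  have htne : t ≠ 0 := fun h0 => ht0 (by rw [h0, map_zero])
  refine ⟨t, mem_nonZeroDivisors_of_ne_zero htne, le_antisymm ?_ ?_⟩
  · intro g hg
    by_cases hg0 : g = 0
    · rw [hg0]; exact Ideal.zero_mem _
    have hG0 : algebraMap (X.presheaf.stalk x) X.functionField g ≠ 0 := fun h0 =>
      hg0 (algebraMap_stalk_injective x (by rw [h0, map_zero]))
    set G : KUnits X := Units.mk0 _ hG0 with hG
    have hGval : (G : X.functionField) = algebraMap (X.presheaf.stalk x) X.functionField g := rfl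
    obtain ⟨V, hxV, g', hg'⟩ := X.presheaf.exists_germ_eq g
    have hζV : ζ ∈ V := h.mem_open V.isOpen hxV
    haveI : Nonempty V := ⟨⟨x, hxV⟩⟩
    have hGy : ∀ (y : X) (hy : y ∈ V), (G : X.functionField) =
        algebraMap (X.presheaf.stalk y) X.functionField (X.presheaf.germ V y hy g') := by
      intro y hy
      rw [hGval, ← hg', Scheme.algebraMap_germ_eq_germToFunctionField,
        Scheme.algebraMap_germ_eq_germToFunctionField]
    have hgermζ : X.presheaf.germ V ζ hζV g' = (X.presheaf.stalkSpecializes h).hom g := by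
      rw [← hg', ← CommRingCat.comp_apply, X.presheaf.germ_stalkSpecializes hxV h]
    let E : CDiv.Divisor X := CDiv.div G * D⁻¹
    have hE1 : ∀ y : X, E.1 y = germOf X y G * (D.1 y)⁻¹ := fun y => rfl
    have hEeff : CDiv.IsEffectiveAt E x := by
      refine isEffectiveAt_of_ord_nonneg_le hX E (V ⊓ U₀) ?_ x ⟨hxV, hxU₀⟩
      intro y hy hcy f' hf'
      have h1 : germOf X y (G * f⁻¹) = germOf X y f' := by
        rw [← hf', hE1, hU₀ y hy.2]
        rfl
      rw [ord_eq_of_germOf_eq y _ _ h1, Units.val_mul, Units.val_inv_eq_inv_val,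
        Scheme.ord_mul G.ne_zero (inv_ne_zero f.ne_zero), ord_inv y _ f.ne_zero]
      by_cases hyζ : y = ζ
      · subst hyζ
        rw [hordf, hGy y hy.1]
        have hpos := ord_algebraMap_pos y hζ (X.presheaf.germ V y hy.1 g') (by
          rw [hgermζ]; exact hg) (by
          intro h0
          apply hG0
          rw [← hGval, hGy y hy.1, h0, map_zero])
        linarith
      · rw [hD0 y hyζ hcy f (hU₀ y hy.2), hGy y hy.1]
        have := ord_algebraMap_nonneg y (X.presheaf.germ V y hy.1 g') (by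
          rw [← hGy y hy.1]; exact G.ne_zero)
        linarith
    obtain ⟨c, hc0, hEc⟩ := hEeff
    rw [hE1, hDt] at hEc
    have h2 : germOf X x (G * F⁻¹) = germOf X x (Units.mk0 _ hc0) := hEc
    rw [germOf, germOf, QuotientGroup.eq] at h2
    obtain ⟨u, hu⟩ := h2
    have hu' : algebraMap (X.presheaf.stalk x) X.functionField (u : X.presheaf.stalk x)
        = ((G : X.functionField) * (F : X.functionField)⁻¹)⁻¹ *
          algebraMap (X.presheaf.stalk x) X.functionField c := by
      simpa using congrArg Units.val hu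
    have h3 : g * (u : X.presheaf.stalk x) = t * c := by
      apply algebraMap_stalk_injective x
      rw [map_mul, map_mul, hu', ← hGval, ← hFval]
      have hF0 : (F : X.functionField) ≠ 0 := F.ne_zero
      have hG0' : (G : X.functionField) ≠ 0 := G.ne_zero
      field_simp
    rw [Ideal.mem_span_singleton']
    refine ⟨c * ((u⁻¹ : (X.presheaf.stalk x)ˣ) : X.presheaf.stalk x), ?_⟩
    calc c * ((u⁻¹ : (X.presheaf.stalk x)ˣ) : X.presheaf.stalk x) * t
        = (t * c) * ((u⁻¹ : (X.presheaf.stalk x)ˣ) : X.presheaf.stalk x) := by ring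
      _ = g * (u : X.presheaf.stalk x) * ((u⁻¹ : (X.presheaf.stalk x)ˣ) : X.presheaf.stalk x) := by
        rw [h3]
      _ = g := by rw [mul_assoc, Units.mul_inv, mul_one]
  · rw [Ideal.span_singleton_le_iff_mem, Ideal.mem_comap]
    by_contra hnot
    have hu : IsUnit ((X.presheaf.stalkSpecializes h).hom t) := by
      rwa [IsLocalRing.mem_maximalIdeal, mem_nonunits_iff, not_not] at hnot
    have := ord_algebraMap_of_isUnit ζ _ hu
    rw [algebraMap_stalkSpecializes, ← hFval, hordF] at this
    exact one_ne_zero this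

end Converse

end Groth.Agent.Lib.H9CDivUFD
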