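import Mathlib
import Groth.Agent.Lib.H9SteinH0
import Groth.Agent.Lib.Helper11SmInt
import Groth.Agent.Lib.Helper6SmGeom

/-! helper9: `geometricallyConnected_of_finrank_eq_one` (proper over a field with Γ = k ⇒ geometrically connected), `geometricallyIntegral_of_smooth` (smooth proper geom. connected ⇒ geom. integral), `geometricallyConnected_of_geometricallyIntegral`, `main` = S16754. -/

set_option autoImplicit false
universe u

namespace Groth.Agent.Lib.H9SteinSm

open CategoryTheory CategoryTheory.Limits AlgebraicGeometry TopologicalSpace Opposite TensorProduct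
open Groth.Agent.Lib.H9SteinAlg Groth.Agent.Lib.H9SteinConn Groth.Agent.Lib.H9NormFin
  Groth.Agent.Lib.H9SteinH0

/-- smooth morphisms are geometrically reduced (copy of helper3's lemma, lighter imports) -/
theorem geometricallyReduced_of_smooth {X S : Scheme.{u}} (g : X ⟶ S) [Smooth g] :
    GeometricallyReduced g := by
  constructor
  intro K _ y Z fst snd h
  haveI : Smooth snd := MorphismProperty.of_isPullback h inferInstance
  exact Groth.Agent.Lib.Helper6.SmGeom.isReduced_of_smooth_over_field K Z snd

/-- if global functions are the constants then `X` is geometrically connected -/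
theorem geometricallyConnected_of_finrank_eq_one (k : Type u) [Field k] {X : Scheme.{u}}
    (f : X ⟶ Spec (CommRingCat.of k)) [IsProper f]
    (h : letI := algΓ k f; Module.finrank k Γ(X, ⊤) = 1) : GeometricallyConnected f := by
  letI := algΓ k f
  haveI : Module.Finite k Γ(X, ⊤) := finite_toGlobal k f
  haveI : Nontrivial Γ(X, ⊤) := by
    by_contra hn
    rw [not_nontrivial_iff_subsingleton] at hn
    have : Module.finrank k Γ(X, ⊤) = 0 := Module.finrank_zero_of_subsingleton
    omega
  have hbt : (⊥ : Subalgebra k Γ(X, ⊤)) = ⊤ := Subalgebra.bot_eq_top_of_finrank_eq_one h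
  have hsurj : Function.Surjective (algebraMap k Γ(X, ⊤)) := by
    intro a
    have : a ∈ (⊥ : Subalgebra k Γ(X, ⊤)) := hbt ▸ Algebra.mem_top
    exact Algebra.mem_bot.mp this
  have hbij : Function.Bijective (algebraMap k Γ(X, ⊤)) :=
    ⟨(algebraMap k Γ(X, ⊤)).injective, hsurj⟩
  let e : k ≃+* Γ(X, ⊤) := RingEquiv.ofBijective _ hbij
  rw [Groth.Agent.Lib.H9SteinConn.main k f]
  refine ⟨e.isLocalRing, ?_, ?_⟩
  · rw [← ringKrullDim_eq_of_ringEquiv e]
    exact ringKrullDim_eq_zero_of_field k
  · intro a
    obtain ⟨c, hc⟩ := hsurj a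
    refine ⟨0, c, ?_⟩
    have : a ^ (ringExpChar k ^ 0) - f.appTop.hom
        ((Scheme.ΓSpecIso (CommRingCat.of k)).inv.hom c) = 0 := by
      rw [pow_zero, pow_one, sub_eq_zero, ← hc]
      rfl
    rw [this]
    exact IsNilpotent.zero

/-- a smooth proper geometrically connected scheme over a field is geometrically integral -/
theorem geometricallyIntegral_of_smooth (k : Type u) [Field k] {X : Scheme.{u}}
    (f : X ⟶ Spec (CommRingCat.of k)) [IsProper f] [Smooth f] [GeometricallyConnected f] :
    GeometricallyIntegral f := by
  constructor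
  intro K _ y Z fst snd h
  haveI : ConnectedSpace ↥Z :=
    GeometricallyConnected.geometrically_connectedSpace (f := f) y fst snd h
  haveI : Smooth snd := MorphismProperty.of_isPullback h inferInstance
  haveI : IsProper snd := MorphismProperty.of_isPullback h inferInstance
  haveI : IsLocallyNoetherian Z := LocallyOfFiniteType.isLocallyNoetherian snd
  haveI : CompactSpace ↥Z := (quasiCompact_iff_compactSpace snd).mp inferInstance
  haveI : IsNoetherian Z := {}
  exact Groth.Agent.Lib.Helper11SmInt.isIntegral_of_connected_of_isDomain_stalk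
    (fun x => Groth.Agent.Lib.Helper11SmInt.isDomain_stalk_of_smooth K snd x)

theorem geometricallyConnected_of_geometricallyIntegral {X S : Scheme.{u}} (f : X ⟶ S)
    [GeometricallyIntegral f] : GeometricallyConnected f := by
  constructor
  intro K _ y Z fst snd h
  haveI : IsIntegral Z := GeometricallyIntegral.geometrically_isIntegral (f := f) y fst snd h
  infer_instance

theorem main (k : Type u) [Field k]
    (X : Scheme.{u}) [X.Over (Spec (CommRingCat.of k))] [IsProper (X ↘ Spec (CommRingCat.of k))]
    [Smooth (X ↘ Spec (CommRingCat.of k))] :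
    (Module.finrank k (Coh.HH X (Coh.structureModule X) 0) = 1 ↔
        GeometricallyConnected (X ↘ Spec (CommRingCat.of k))) ∧
      (GeometricallyConnected (X ↘ Spec (CommRingCat.of k)) ↔
        GeometricallyIntegral (X ↘ Spec (CommRingCat.of k))) := by
  letI := algΓ k (X ↘ Spec (CommRingCat.of k))
  haveI := geometricallyReduced_of_smooth (X ↘ Spec (CommRingCat.of k))
  refine ⟨⟨fun h => ?_, fun h => ?_⟩, ⟨fun h => ?_, fun h => ?_⟩⟩
  · rw [(hh0LinearEquiv k X).finrank_eq] at h
    exact geometricallyConnected_of_finrank_eq_one k _ h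
  · haveI := h
    exact Groth.Agent.Lib.H9SteinH0.main k X
  · haveI := h
    exact geometricallyIntegral_of_smooth k _
  · haveI := h
    exact geometricallyConnected_of_geometricallyIntegral _

end Groth.Agent.Lib.H9SteinSm
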