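import Mathlib
import Groth.Agent.Lib.H9ZarLocal
import Groth.Agent.Lib.H9NormFin
import Groth.Agent.Lib.Helper4NormIso

/-! helper9: `bijective_of_finite_of_birational` (finite extension of an integrally closed domain inside its fraction field is trivial), `isIso_app` (proper birational `f : X ⟶ Y` to a normal loc. Noetherian integral `Y` has `f_*O_X = O_Y` on affine opens), `connectedSpace_fiber` (= S15544, Zariski's main theorem, connectedness form). -/

set_option autoImplicit false
universe u

namespace Groth.Agent.Lib.H9ZarBir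

open CategoryTheory CategoryTheory.Limits AlgebraicGeometry TopologicalSpace Opposite

/-- core algebra: a finite extension of an integrally closed domain inside (an isomorphic copy of)
its fraction field is trivial. -/
theorem bijective_of_finite_of_birational {B B' K L : Type*} [CommRing B] [IsDomain B]
    [IsIntegrallyClosed B] [CommRing B'] [Field K] [Algebra B K] [IsFractionRing B K]
    [CommRing L] (g : B →+* B') (hg : g.Finite) (φ : K →+* L) (hφ : Function.Bijective φ)
    (ι : B' →+* L) (hι : Function.Injective ι)
    (hcomm : ι.comp g = φ.comp (algebraMap B K)) : Function.Bijective g := by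
  have hc : ∀ b, ι (g b) = φ (algebraMap B K b) := fun b => RingHom.congr_fun hcomm b
  constructor
  · rw [injective_iff_map_eq_zero]
    intro b hb
    have h1 : φ (algebraMap B K b) = 0 := by rw [← hc, hb, map_zero]
    have h2 : algebraMap B K b = 0 := by
      apply hφ.1
      rw [h1, map_zero]
    exact (IsFractionRing.injective B K) (by rw [h2, map_zero])
  · intro t
    obtain ⟨c, hcφ⟩ := hφ.2 (ι t)
    have hint : g.IsIntegralElem t := hg.to_isIntegral t
    obtain ⟨p, hp, hpt⟩ := hint
    have h3 : Polynomial.eval₂ (ι.comp g) (ι t) p = 0 := by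
      rw [← Polynomial.hom_eval₂, hpt, map_zero]
    rw [hcomm, ← hcφ, ← Polynomial.hom_eval₂] at h3
    have h4 : Polynomial.eval₂ (algebraMap B K) c p = 0 := by
      apply hφ.1
      rw [h3, map_zero]
    have hcint : IsIntegral B c := ⟨p, hp, h4⟩
    obtain ⟨b, hb⟩ := IsIntegrallyClosed.isIntegral_iff.mp hcint
    refine ⟨b, hι ?_⟩
    rw [hc, hb, hcφ]


section geom

variable {X Y : Scheme.{u}} [IsIntegral X] [IsIntegral Y] [IsLocallyNoetherian Y]
  (hY : Pi1.IsNormalScheme Y) (f : X ⟶ Y) [IsProper f]

include hY in
theorem bijective_app_aux (U : Y.Opens) (hU : IsAffineOpen U) [Nonempty U]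
    (L : CommRingCat.{u}) (φ : Y.functionField ⟶ L) (hφ : Function.Bijective φ.hom)
    (ι : Γ(X, f ⁻¹ᵁ U) ⟶ L) (hι : Function.Injective ι.hom)
    (hcomm : f.app U ≫ ι = Y.germToFunctionField U ≫ φ) :
    Function.Bijective (f.app U).hom := by
  haveI : IsDomain Γ(Y, U) := IsIntegral.component_integral U
  haveI : IsIntegrallyClosed Γ(Y, U) :=
    Groth.Agent.Lib.Helper4.NormIso.isIntegrallyClosed_sections hY U hU
  haveI := functionField_isFractionRing_of_isAffineOpen Y U hU
  have hfin : (f.app U).hom.Finite :=
    Groth.Agent.Lib.H9NormFin.finite_app_of_isProper f ⟨U, hU⟩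
  refine bijective_of_finite_of_birational (K := Y.functionField) (L := L)
    (f.app U).hom hfin φ.hom hφ ι.hom hι ?_
  have := congrArg CommRingCat.Hom.hom hcomm
  simpa [RingHom.algebraMap_toAlgebra] using this


include hY in
theorem isIso_app (hgen : f.base (genericPoint X) = genericPoint Y)
    (hbir : IsIso (f.stalkMap (genericPoint X))) (U : Y.Opens) (hU : IsAffineOpen U) :
    IsIso (f.app U) := by
  rcases U.1.eq_empty_or_nonempty with h | h
  · have hU0 : U = ⊥ := SetLike.ext' h
    subst hU0
    have h1 : Subsingleton Γ(Y, ⊥) := inferInstance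
    have h2 : Subsingleton Γ(X, f ⁻¹ᵁ ⊥) := by
      have : f ⁻¹ᵁ (⊥ : Y.Opens) = ⊥ := rfl
      rw [this]
      infer_instance
    rw [ConcreteCategory.isIso_iff_bijective]
    exact ⟨fun a b _ => Subsingleton.elim a b, fun b => ⟨0, Subsingleton.elim _ _⟩⟩
  · haveI : Nonempty U := by simpa using h
    have hyU : genericPoint Y ∈ U :=
      ((genericPoint_spec Y).mem_open_set_iff U.isOpen).mpr (by simpa using h)
    have hxU : genericPoint X ∈ f ⁻¹ᵁ U := by
      change f.base (genericPoint X) ∈ U
      rw [hgen]; exact hyU
    let e := Y.presheaf.stalkCongr (Inseparable.of_eq hgen.symm)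
    have hbij : Function.Bijective (f.app U).hom := by
      refine bijective_app_aux hY f U hU (X.presheaf.stalk (genericPoint X))
        (e.hom ≫ f.stalkMap (genericPoint X)) ?_
        (X.presheaf.germ (f ⁻¹ᵁ U) (genericPoint X) hxU)
        (germ_injective_of_isIntegral X (genericPoint X) hxU) ?_
      · haveI : IsIso (e.hom ≫ f.stalkMap (genericPoint X)) := inferInstance
        exact (ConcreteCategory.isIso_iff_bijective _).mp this
      · rw [← Scheme.Hom.germ_stalkMap]
        rw [← Category.assoc]
        congr 1
        exact (TopCat.Presheaf.germ_stalkSpecializes Y.presheaf (U := U) hyU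
          (Inseparable.of_eq hgen.symm).ge).symm
    exact (ConcreteCategory.isIso_iff_bijective _).mpr hbij

include hY in
theorem connectedSpace_fiber (hgen : f.base (genericPoint X) = genericPoint Y)
    (hbir : IsIso (f.stalkMap (genericPoint X))) (y : Y) : ConnectedSpace ↥(f.fiber y) :=
  Groth.Agent.Lib.H9ZarLocal.connectedSpace_fiber f (isIso_app hY f hgen hbir) y

end geom

end Groth.Agent.Lib.H9ZarBir
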