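import Mathlib
import Groth.Agent.Lib.H9ZarBir
import Groth.Agent.Lib.H9ZarGeomU
import Groth.Agent.Lib.H9SteinSm
import Groth.Prelude.Def_Models
import Groth.Prelude.Def_Curve

/-! helper9: models over a DVR `R`: `isIso_appTop` (p : X → Spec R proper flat with generic fibre C, Γ(C,O)=K ⇒ Γ(X,O)=R), `homeoOfRangeEq`, `connectedSpace_specialFibre` (= S2209), `isIso_appTop_of_geometricallyConnected` (proper geom. connected geom. reduced over k ⇒ k → Γ iso), `geometricallyConnected_model` (= S18427). -/

set_option autoImplicit false
universe u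

namespace Groth.Agent.Lib.H9Models

open CategoryTheory CategoryTheory.Limits AlgebraicGeometry TopologicalSpace Opposite

variable (R : Type u) [CommRing R] [IsDomain R] [IsDiscreteValuationRing R]
  {C X : Scheme.{u}} (f : C ⟶ Spec (CommRingCat.of (FractionRing R)))
  (p : X ⟶ Spec (CommRingCat.of R)) (g : C ⟶ X)
  (H : IsPullback g f p (Spec.map (CommRingCat.ofHom (algebraMap R (FractionRing R)))))

instance : IsDominant (Spec.map (CommRingCat.ofHom (algebraMap R (FractionRing R)))) := by
  rw [isDominant_iff]
  change DenseRange (PrimeSpectrum.comap (algebraMap R (FractionRing R)))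
  rw [PrimeSpectrum.denseRange_comap_iff_ker_le_nilRadical]
  rw [(RingHom.injective_iff_ker_eq_bot _).mp (IsFractionRing.injective R (FractionRing R))]
  exact bot_le

include H in
/-- **Lemma M**: global functions of a proper flat `R`-scheme whose generic fibre has only the
constants as global functions are `R`. -/
theorem isIso_appTop [IsProper p] [Flat p] (hf : IsIso f.appTop) : IsIso p.appTop := by
  let j := Spec.map (CommRingCat.ofHom (algebraMap R (FractionRing R)))
  haveI : IsSchemeTheoreticallyDominant j := IsSchemeTheoreticallyDominant.of_isDominant j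
  haveI : IsSchemeTheoreticallyDominant g := IsSchemeTheoreticallyDominant.of_isPullback H.flip
  haveI : QuasiCompact g := MorphismProperty.of_isPullback (P := @QuasiCompact) H.flip inferInstance
  have hginj : Function.Injective g.appTop.hom := g.app_injective ⊤
  let gR : R →+* Γ(X, ⊤) := p.appTop.hom.comp (Scheme.ΓSpecIso (CommRingCat.of R)).inv.hom
  have hfin : gR.Finite := Groth.Agent.Lib.H9NormFin.finite_toGlobal R p
  let φ : FractionRing R →+* Γ(C, ⊤) :=
    f.appTop.hom.comp (Scheme.ΓSpecIso (CommRingCat.of (FractionRing R))).inv.hom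
  have hφ : Function.Bijective φ := by
    have h1 : Function.Bijective f.appTop.hom := (ConcreteCategory.isIso_iff_bijective _).mp hf
    have h2 : Function.Bijective (Scheme.ΓSpecIso (CommRingCat.of (FractionRing R))).inv.hom :=
      (ConcreteCategory.isIso_iff_bijective _).mp inferInstance
    exact h1.comp h2
  have hcomm : g.appTop.hom.comp gR = φ.comp (algebraMap R (FractionRing R)) := by
    have h1 : p.appTop ≫ g.appTop = j.appTop ≫ f.appTop := by
      rw [← Scheme.Hom.comp_appTop, ← Scheme.Hom.comp_appTop, H.w]
    have h2 : (Scheme.ΓSpecIso (CommRingCat.of R)).inv ≫ j.appTop =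
        CommRingCat.ofHom (algebraMap R (FractionRing R)) ≫
          (Scheme.ΓSpecIso (CommRingCat.of (FractionRing R))).inv :=
      (Scheme.ΓSpecIso_inv_naturality (CommRingCat.ofHom (algebraMap R (FractionRing R)))).symm
    have h3 : (Scheme.ΓSpecIso (CommRingCat.of R)).inv ≫ p.appTop ≫ g.appTop =
        CommRingCat.ofHom (algebraMap R (FractionRing R)) ≫
          (Scheme.ΓSpecIso (CommRingCat.of (FractionRing R))).inv ≫ f.appTop := by
      rw [h1, ← Category.assoc, h2, Category.assoc]
    exact congrArg CommRingCat.Hom.hom h3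
  have hbij : Function.Bijective gR :=
    Groth.Agent.Lib.H9ZarBir.bijective_of_finite_of_birational (K := FractionRing R) gR hfin φ hφ
      g.appTop.hom hginj hcomm
  have h4 : Function.Bijective p.appTop.hom := by
    have h2 : Function.Bijective (Scheme.ΓSpecIso (CommRingCat.of R)).hom.hom :=
      (ConcreteCategory.isIso_iff_bijective _).mp inferInstance
    have : p.appTop.hom = gR.comp (Scheme.ΓSpecIso (CommRingCat.of R)).hom.hom := by
      ext a
      change _ = p.appTop.hom ((Scheme.ΓSpecIso (CommRingCat.of R)).inv.hom
        ((Scheme.ΓSpecIso (CommRingCat.of R)).hom.hom a))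
      congr 1
      exact (congrArg (fun ψ => ψ.hom a) (Scheme.ΓSpecIso (CommRingCat.of R)).hom_inv_id).symm
    rw [this]
    exact hbij.comp h2
  exact (ConcreteCategory.isIso_iff_bijective _).mpr h4


/-- two embeddings with the same range have homeomorphic sources -/
noncomputable def homeoOfRangeEq {A B T : Type*} [TopologicalSpace A] [TopologicalSpace B]
    [TopologicalSpace T] (a : A → T) (b : B → T) (ha : Topology.IsEmbedding a)
    (hb : Topology.IsEmbedding b) (h : Set.range a = Set.range b) : A ≃ₜ B :=
  ha.toHomeomorph.trans ((Homeomorph.setCongr h).trans hb.toHomeomorph.symm)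

include H in
/-- **S2209** -/
theorem connectedSpace_specialFibre [IsProper p] [Flat p] (hf : IsIso f.appTop) :
    ConnectedSpace ↥(Models.specialFibre R X p) := by
  haveI hiso : IsIso (p.app ⊤) := isIso_appTop R f p g H hf
  let y : ↥(Spec (CommRingCat.of R)) := IsLocalRing.closedPoint R
  haveI hconn : ConnectedSpace ↥(p.fiber y) :=
    Groth.Agent.Lib.H9ZarLocalU.connectedSpace_fiber_of_nhd p y ⊤ (isAffineOpen_top _) trivial hiso
  let i := Spec.map (CommRingCat.ofHom (algebraMap R (IsLocalRing.ResidueField R)))
  haveI : IsClosedImmersion i :=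
    IsClosedImmersion.spec_of_surjective _ IsLocalRing.residue_surjective
  have hri : Set.range i.base = {y} := by
    ext z
    constructor
    · rintro ⟨w, rfl⟩
      exact IsLocalRing.PrimeSpectrum.comap_residue R w
    · intro hz
      rw [Set.mem_singleton_iff] at hz
      subst hz
      haveI : Inhabited (PrimeSpectrum (IsLocalRing.ResidueField R)) := ⟨⊥⟩
      exact ⟨(default : PrimeSpectrum (IsLocalRing.ResidueField R)),
        IsLocalRing.PrimeSpectrum.comap_residue R default⟩
  have hrange : Set.range (pullback.fst p i).base = Set.range (p.fiberι y).base := by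
    rw [Scheme.Hom.range_fiberι, Scheme.Pullback.range_fst, hri]
  let e : ↥(Models.specialFibre R X p) ≃ₜ ↥(p.fiber y) :=
    homeoOfRangeEq (pullback.fst p i).base (p.fiberι y).base
      (pullback.fst p i).isEmbedding (p.fiberι y).isEmbedding hrange
  exact e.symm.surjective.connectedSpace e.symm.continuous


open Groth.Agent.Lib.H9SteinConn Groth.Agent.Lib.H9NormFin in
/-- `k → Γ(C, O)` is an isomorphism for a proper geometrically connected, geometrically reduced
`k`-scheme -/
theorem isIso_appTop_of_geometricallyConnected (k : Type u) [Field k] {C : Scheme.{u}}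
    (f : C ⟶ Spec (CommRingCat.of k)) [IsProper f] [GeometricallyReduced f]
    [GeometricallyConnected f] : IsIso f.appTop := by
  letI := algΓ k f
  have h := Groth.Agent.Lib.H9SteinH0.finrank_global_eq_one k f
  haveI : Module.Finite k Γ(C, ⊤) := finite_toGlobal k f
  haveI : Nontrivial Γ(C, ⊤) := by
    by_contra hn
    rw [not_nontrivial_iff_subsingleton] at hn
    have : Module.finrank k Γ(C, ⊤) = 0 := Module.finrank_zero_of_subsingleton
    omega
  have hbt : (⊥ : Subalgebra k Γ(C, ⊤)) = ⊤ := Subalgebra.bot_eq_top_of_finrank_eq_one h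
  have hsurj : Function.Surjective (algebraMap k Γ(C, ⊤)) := by
    intro a
    have : a ∈ (⊥ : Subalgebra k Γ(C, ⊤)) := hbt ▸ Algebra.mem_top
    exact Algebra.mem_bot.mp this
  have hbij : Function.Bijective (algebraMap k Γ(C, ⊤)) :=
    ⟨(algebraMap k Γ(C, ⊤)).injective, hsurj⟩
  have h2 : Function.Bijective (Scheme.ΓSpecIso (CommRingCat.of k)).hom.hom :=
    (ConcreteCategory.isIso_iff_bijective _).mp inferInstance
  have h3 : f.appTop.hom = (algebraMap k Γ(C, ⊤)).comp (Scheme.ΓSpecIso (CommRingCat.of k)).hom.hom := by
    ext a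
    change _ = f.appTop.hom ((Scheme.ΓSpecIso (CommRingCat.of k)).inv.hom
      ((Scheme.ΓSpecIso (CommRingCat.of k)).hom.hom a))
    congr 1
    exact (congrArg (fun ψ => ψ.hom a) (Scheme.ΓSpecIso (CommRingCat.of k)).hom_inv_id).symm
  have h4 : Function.Bijective f.appTop.hom := by
    rw [h3]; exact hbij.comp h2
  exact (ConcreteCategory.isIso_iff_bijective _).mpr h4

include H in
/-- **S18427** -/
theorem geometricallyConnected_model [IsProper p] [Flat p] [IsProper f] [Smooth f]
    [GeometricallyConnected f] : GeometricallyConnected p := by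
  haveI := Groth.Agent.Lib.H9SteinSm.geometricallyReduced_of_smooth f
  have hf : IsIso f.appTop := isIso_appTop_of_geometricallyConnected (FractionRing R) f
  haveI hiso : IsIso (p.app ⊤) := isIso_appTop R f p g H hf
  rw [GeometricallyConnected.iff_geometricallyConnected_fiber]
  intro y
  exact Groth.Agent.Lib.H9ZarGeomU.geometricallyConnected_fiber p y ⊤ (isAffineOpen_top _)
    trivial hiso

end Groth.Agent.Lib.H9Models
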