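import Mathlib
import Groth.Agent.Lib.H9CbH
import Groth.Agent.Lib.H9Models
import Groth.Agent.Lib.H9SteinSm
import Groth.Agent.Lib.R2H2ProjOverPush
set_option backward.isDefEq.respectTransparency.types false

/-! helper9: `isIso_unitToPush` (all f.app V iso ⇒ IsIso (ClSub.unitToPush f)), `main` (= S18902: proper smooth with geometrically connected fibres ⇒ O_S = q_*O_P, any base). -/

set_option autoImplicit false
set_option linter.unusedSectionVars false
universe u

noncomputable section

namespace Groth.Agent.Lib.H9CbJ

open CategoryTheory CategoryTheory.Limits AlgebraicGeometry TopologicalSpace Opposite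

/-- `O_Y ⟶ f_* O_X` is an isomorphism of modules when all `f.app V` are isomorphisms -/
theorem isIso_unitToPush {X Y : Scheme.{u}} (f : X ⟶ Y) (h : ∀ V : Y.Opens, IsIso (f.app V)) :
    IsIso (ClSub.unitToPush f) := by
  apply Groth.Agent.Lib.R2H2.ProjOverPush.isIso_of_bijective_on_affines
  intro V _
  haveI := h V
  exact ConcreteCategory.bijective_of_isIso (f.app V)

/-- smooth proper with geometrically connected fibres: `O_S = q_* O_P` -/
theorem main {P S : Scheme.{u}} (q : P ⟶ S) [IsProper q] [Smooth q] [GeometricallyConnected q] :
    IsIso (ClSub.unitToPush q) := by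
  apply isIso_unitToPush
  refine Groth.Agent.Lib.H9CbH.main q (fun s => ?_)
  haveI : IsProper (q.fiberToSpecResidueField s) :=
    inferInstanceAs (IsProper (pullback.snd q (S.fromSpecResidueField s)))
  haveI : Smooth (q.fiberToSpecResidueField s) :=
    inferInstanceAs (Smooth (pullback.snd q (S.fromSpecResidueField s)))
  haveI : GeometricallyConnected (q.fiberToSpecResidueField s) :=
    MorphismProperty.pullback_snd (P := @GeometricallyConnected) _ _ inferInstance
  haveI : GeometricallyReduced (q.fiberToSpecResidueField s) :=
    Groth.Agent.Lib.H9SteinSm.geometricallyReduced_of_smooth _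
  exact Groth.Agent.Lib.H9Models.isIso_appTop_of_geometricallyConnected (S.residueField s)
    (q.fiberToSpecResidueField s)

end Groth.Agent.Lib.H9CbJ
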