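import Mathlib
import Groth.Agent.Lib.H9CbG
import Groth.Agent.Lib.Helper3AbHom
set_option backward.isDefEq.respectTransparency.types false

/-! helper9: `core'` (algebra core with the rank condition only at maximal ideals),
`bijective_appTop'` (Lemma L with the fibre condition only at closed points, plus surjectivity),
used for S14285. -/

set_option autoImplicit false
set_option linter.unusedSectionVars false
universe u
open CategoryTheory CategoryTheory.Limits MonoidalCategory TensorProduct Opposite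

noncomputable section

namespace Groth.Agent.Lib.H9CbK

open Groth.Agent.Lib.R2H2.CoRep Groth.Agent.Lib.H9CbA Groth.Agent.Lib.H9CbB
  Groth.Agent.Lib.H9CbC

variable {B : Type u} [CommRing B] {K : ChainComplex (ModuleCat.{u} B) ℤ} (h : Hyp K)

include h in
/-- the algebra core, with the fibre ranks assumed equal to one only at the maximal ideals -/
theorem core' (hr : ∀ q : PrimeSpectrum B, q.asIdeal.IsMaximal → CohIII.dRank K 0 q = 1)
    (Γ : Type u) [CommRing Γ] [Algebra B Γ] (hinj : Function.Injective (algebraMap B Γ))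
    (e : Γ ≃ₗ[B] K.homology 0) : Function.Bijective (algebraMap B Γ) := by
  haveI := h.finitePresentation_Qt
  let E : Γ ≃ₗ[B] (Qt K 0 →ₗ[B] B) := e ≪≫ₗ h.homologyEquiv
  have hfaith : ∀ a : B, (∀ x : Qt K 0, a • x = 0) → a = 0 := by
    intro a ha
    apply hinj
    rw [map_zero]
    apply E.injective
    rw [map_zero, Algebra.algebraMap_eq_smul_one, map_smul]
    apply LinearMap.ext
    intro c
    rw [LinearMap.smul_apply, ← map_smul, ha, map_zero, LinearMap.zero_apply]
  have hdim : ∀ (𝔪 : Ideal B) [𝔪.IsMaximal],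
      Module.finrank 𝔪.ResidueField (𝔪.ResidueField ⊗[B] Qt K 0) = 1 := by
    intro 𝔪 h𝔪
    rw [finrank_fibre_Qt h 𝔪.ResidueField]
    exact hr ⟨𝔪, inferInstance⟩ h𝔪
  haveI : Module.Projective B (Qt K 0) := projective_of_faithful_of_fibre _ hfaith hdim
  haveI : Module.Finite B (Qt K 0) := inferInstance
  haveI : Module.Flat B (Qt K 0) := inferInstance
  have hrank : ∀ q : PrimeSpectrum B, CohIII.dRank K 0 q = Module.rankAtStalk (Qt K 0) q := by
    intro q
    rw [Module.rankAtStalk_eq]
    exact (finrank_fibre_Qt h q.asIdeal.ResidueField).symm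
  refine Groth.Agent.Lib.H9CbD.core h (fun q => ?_) Γ hinj e
  obtain ⟨𝔪, h𝔪, hle⟩ := Ideal.exists_le_maximal q.asIdeal q.2.ne_top
  have hle' : q ≤ (⟨𝔪, h𝔪.isPrime⟩ : PrimeSpectrum B) := hle
  rw [hrank, Module.rankAtStalk_eq_of_le_of_finite_of_flat (Qt K 0) hle', ← hrank]
  exact hr _ h𝔪

end Groth.Agent.Lib.H9CbK

noncomputable section

namespace Groth.Agent.Lib.H9CbK

open CategoryTheory CategoryTheory.Limits AlgebraicGeometry TopologicalSpace Opposite
open Groth.Agent.Lib.H9CbA Groth.Agent.Lib.H9CbE Groth.Agent.Lib.R2H2.FibRank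
  Groth.Agent.Lib.R2H2.ABC Groth.Agent.Lib.H9NormFin Groth.Agent.Lib.H9CbF

variable {A B : Type u} [CommRing A] [IsNoetherianRing A] [CommRing B] [Algebra A B]
  {X X' : Scheme.{u}} [X.Over (Spec (CommRingCat.of A))] [X'.Over (Spec (CommRingCat.of B))]
  [IsProper (X ↘ Spec (CommRingCat.of A))] [Flat (X ↘ Spec (CommRingCat.of A))]
  (g' : X' ⟶ X)
  (h : IsPullback g' (X' ↘ Spec (CommRingCat.of B)) (X ↘ Spec (CommRingCat.of A))
    (Spec.map (CommRingCat.ofHom (algebraMap A B))))

include h in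
/-- **Lemma L'** (closed points only): for the base change `X'/B` of a proper flat scheme over a Noetherian ring `A`,
if all fibres of `X' → Spec B` have only constant global functions then `B = Γ(X', O)`. -/
theorem bijective_appTop'
    (hfib : ∀ q : ↥(Spec (CommRingCat.of B)), (q : PrimeSpectrum B).asIdeal.IsMaximal →
      Function.Bijective
        ((X' ↘ Spec (CommRingCat.of B)).fiberToSpecResidueField q).appTop.hom)
    (hsurj : ∀ q : ↥(Spec (CommRingCat.of B)), ∃ x, (X' ↘ Spec (CommRingCat.of B)) x = q) :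
    Function.Bijective (X' ↘ Spec (CommRingCat.of B)).appTop.hom := by
  let F := Coh.structureModule X
  have hF : Coh.IsCoh F :=
    ⟨Groth.Agent.Lib.Helper23.Serre.isQuasicoherent_structureModule' X,
      Groth.Agent.Lib.R2H2.PnFinite.isFiniteType_structureModule X⟩
  have hfl : FlatMod.IsFlatOver (X ↘ Spec (CommRingCat.of A)) F :=
    Groth.Agent.Lib.R2H3.SchemDense.isFlatOver_structureModule _
  obtain ⟨Q, b, hQ, hQz, hQv, hQi⟩ := Groth.Agent.Lib.R2H2.Bridge.bridge' A X F hF hfl
  haveI : F.IsQuasicoherent := hF.1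
  haveI : CompactSpace X :=
    QuasiCompact.compactSpace_of_compactSpace (X ↘ Spec (CommRingCat.of A))
  have e₀ : CohIII.TFun Q 0 ⋙ forget₂ (ModuleCat.{u} A) AddCommGrpCat.{u} ≅
      CohIII.tensorAFunctor A F ⋙ CohIII.HAb X 0 := (hQi 0).some
  let K := CohIII.bcCx (algebraMap A B) Q
  have hK : Hyp K := hyp_bcCx Q hQ (hQv 1 one_pos)
  -- properties of the base change
  haveI : IsProper (X' ↘ Spec (CommRingCat.of B)) :=
    MorphismProperty.of_isPullback h inferInstance
  haveI : Flat (X' ↘ Spec (CommRingCat.of B)) :=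
    MorphismProperty.of_isPullback h inferInstance
  haveI : CompactSpace X' :=
    QuasiCompact.compactSpace_of_compactSpace (X' ↘ Spec (CommRingCat.of B))
  obtain ⟨e'⟩ := nonempty_bridge_baseChange g' h F Q 0 0 e₀
  -- ranks
  haveI : (F' g' F).IsQuasicoherent := inferInstance
  haveI : IsSeparated (X' ↘ Spec (CommRingCat.of B)) := inferInstance
  have hrk : ∀ q : ↥(Spec (CommRingCat.of B)),
      CohIII.fiberRank (X' ↘ Spec (CommRingCat.of B)) (F' g' F) 0 q =
        CohIII.dRank (CohIII.bcCx (algebraMap A B) Q) 0 q :=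
    fun q => fiberRank_eq_dRank (A := B) (X := X') (F' g' F)
      (CohIII.bcCx (algebraMap A B) Q) (fun i => hK.flat i) 0 0 e' q
  have hfr : ∀ q : ↥(Spec (CommRingCat.of B)), (q : PrimeSpectrum B).asIdeal.IsMaximal →
      CohIII.fiberRank (X' ↘ Spec (CommRingCat.of B)) (F' g' F) 0 q = 1 := fun q hq =>
    fiberRank_eq_one (X' ↘ Spec (CommRingCat.of B)) (F' g' F)
      (Groth.Agent.Lib.Helper23.PB.pullbackUnitIso g') q (hfib q hq)
  have hr : ∀ q : PrimeSpectrum B, q.asIdeal.IsMaximal → CohIII.dRank K 0 q = 1 := fun q hq =>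
    (hrk q).symm.trans (hfr q hq)
  -- the comparison
  obtain ⟨l⟩ := nonempty_HH_linearEquiv g' h F Q 0 0 e₀
  letI := algΓ B (X' ↘ Spec (CommRingCat.of B))
  let E : Γ(X', ⊤) ≃ₗ[B] K.homology 0 :=
    (hh0LinearEquiv B X').symm ≪≫ₗ
      (HHLinEquiv (Groth.Agent.Lib.Helper23.PB.pullbackUnitIso g') 0).symm ≪≫ₗ l
  -- injectivity
  have hinj0 : Function.Injective (X' ↘ Spec (CommRingCat.of B)).appTop.hom :=
    Groth.Agent.Lib.H9Pfb8.app_injective_of_flat_of_le_range _ ⊤ (fun q _ => hsurj q)
  have h1 : Function.Bijective (Scheme.ΓSpecIso (CommRingCat.of B)).inv.hom :=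
    ConcreteCategory.bijective_of_isIso _
  have hinj : Function.Injective (algebraMap B Γ(X', ⊤)) := hinj0.comp h1.injective
  have hbij := core' hK hr Γ(X', ⊤) hinj E
  have h2 : (X' ↘ Spec (CommRingCat.of B)).appTop.hom =
      (algebraMap B Γ(X', ⊤)).comp (Scheme.ΓSpecIso (CommRingCat.of B)).hom.hom := by
    ext x
    show _ = (X' ↘ Spec (CommRingCat.of B)).appTop.hom
      ((Scheme.ΓSpecIso (CommRingCat.of B)).inv.hom ((Scheme.ΓSpecIso (CommRingCat.of B)).hom.hom x))
    congr 1
    exact (ConcreteCategory.congr_hom (Scheme.ΓSpecIso (CommRingCat.of B)).hom_inv_id x).symm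
  rw [h2]
  exact hbij.comp (ConcreteCategory.bijective_of_isIso (Scheme.ΓSpecIso (CommRingCat.of B)).hom)

end Groth.Agent.Lib.H9CbK
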