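import Mathlib
import Groth.Agent.Lib.H9CbK
set_option backward.isDefEq.respectTransparency.types false

/-! helper9: proper flat over a Noetherian local ring with `Γ(X₀) = k` on the closed fibre has
`Γ(X) = R` (S14285). -/

set_option autoImplicit false
set_option linter.unusedSectionVars false
universe u
open CategoryTheory CategoryTheory.Limits AlgebraicGeometry TopologicalSpace Opposite

noncomputable section

namespace Groth.Agent.Lib.H9CbL

/-- the residue field map of a closed immersion is an isomorphism -/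
theorem isIso_residueFieldMap_of_isClosedImmersion {X Y : Scheme.{u}} (f : X ⟶ Y)
    [IsClosedImmersion f] (x : X) : IsIso (f.residueFieldMap x) := by
  rw [ConcreteCategory.isIso_iff_bijective]
  refine ⟨(f.residueFieldMap x).hom.injective, ?_⟩
  intro b
  obtain ⟨s, rfl⟩ := X.residue_surjective x b
  obtain ⟨s', rfl⟩ := f.stalkMap_surjective x s
  refine ⟨Y.residue (f x) s', ?_⟩
  exact ConcreteCategory.congr_hom (Scheme.residue_residueFieldMap f x) s'

theorem isIso_appTop_right {P X Y Z : Scheme.{u}} {top : P ⟶ X} {l : P ⟶ Y} {r : X ⟶ Z}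
    {b : Y ⟶ Z} (H : IsPullback top l r b) [IsIso b] (hl : IsIso l.appTop) : IsIso r.appTop := by
  haveI : IsIso top := H.isIso_fst_of_isIso
  haveI : IsIso top.appTop := (inferInstance : IsIso (top.app ⊤))
  haveI : IsIso b.appTop := (inferInstance : IsIso (b.app ⊤))
  have e : r.appTop = b.appTop ≫ l.appTop ≫ inv top.appTop := by
    rw [← Category.assoc, ← Scheme.Hom.comp_appTop, ← H.w, Scheme.Hom.comp_appTop,
      Category.assoc, IsIso.hom_inv_id, Category.comp_id]
  rw [e]
  infer_instance

/-- transfer of the fibre condition from a base change with trivial residue field extension -/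
theorem isIso_fiber_appTop_of_isPullback_of_isIso {P X Y Z : Scheme.{u}} {fst : P ⟶ X}
    {snd : P ⟶ Y} {f : X ⟶ Z} {g : Y ⟶ Z} (h : IsPullback fst snd f g) (y : Y)
    (hφ : IsIso (g.residueFieldMap y))
    (hy : IsIso (snd.fiberToSpecResidueField y).appTop) :
    IsIso (f.fiberToSpecResidueField (g y)).appTop := by
  have H := isPullback_fiberToSpecResidueField_of_isPullback h y
  haveI : IsIso (Spec.map (g.residueFieldMap y)) := inferInstance
  exact isIso_appTop_right H hy

open Groth.Agent.Lib.H9CbK in
/-- **S14285**: a proper flat scheme over a Noetherian local ring whose closed fibre has only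
constant global functions has `Γ(X, O_X) = R`. -/
theorem main (R : Type u) [CommRing R] [IsLocalRing R] [IsNoetherianRing R]
    (X X₀ : Scheme.{u}) (g : X ⟶ Spec (CommRingCat.of R)) [IsProper g] [Flat g]
    (i : X₀ ⟶ X) (f₀ : X₀ ⟶ Spec (CommRingCat.of (R ⧸ IsLocalRing.maximalIdeal R)))
    (hsq : IsPullback i f₀ g
      (Spec.map (CommRingCat.ofHom (Ideal.Quotient.mk (IsLocalRing.maximalIdeal R)))))
    (h0 : Function.Bijective
      ((Scheme.ΓSpecIso (CommRingCat.of (R ⧸ IsLocalRing.maximalIdeal R))).inv ≫ f₀.appTop)) :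
    Function.Bijective ((Scheme.ΓSpecIso (CommRingCat.of R)).inv ≫ g.appTop) := by
  letI : Field (R ⧸ IsLocalRing.maximalIdeal R) := Ideal.Quotient.field _
  set t := Spec.map (CommRingCat.ofHom (Ideal.Quotient.mk (IsLocalRing.maximalIdeal R))) with ht
  haveI : IsClosedImmersion t :=
    IsClosedImmersion.spec_of_surjective _ Ideal.Quotient.mk_surjective
  haveI : IsProper f₀ := MorphismProperty.of_isPullback hsq inferInstance
  haveI : CompactSpace X₀ := QuasiCompact.compactSpace_of_compactSpace f₀
  haveI : QuasiSeparatedSpace X₀ := quasiSeparatedSpace_of_quasiSeparated f₀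
  have hiso0 : IsIso f₀.appTop := by
    haveI h1 : IsIso ((Scheme.ΓSpecIso (CommRingCat.of (R ⧸ IsLocalRing.maximalIdeal R))).inv ≫
        f₀.appTop) := (ConcreteCategory.isIso_iff_bijective _).mpr h0
    exact IsIso.of_isIso_comp_left
      (Scheme.ΓSpecIso (CommRingCat.of (R ⧸ IsLocalRing.maximalIdeal R))).inv f₀.appTop
  let y : Spec (CommRingCat.of (R ⧸ IsLocalRing.maximalIdeal R)) :=
    IsLocalRing.closedPoint (R ⧸ IsLocalRing.maximalIdeal R)
  have ha : IsIso (f₀.fiberToSpecResidueField y).appTop := by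
    have H := IsPullback.of_hasPullback f₀
      ((Spec (CommRingCat.of (R ⧸ IsLocalRing.maximalIdeal R))).fromSpecResidueField y)
    haveI : Flat ((Spec (CommRingCat.of (R ⧸ IsLocalRing.maximalIdeal R))).fromSpecResidueField y) :=
      Groth.Agent.Lib.Helper3.AbHom.flat_of_isField
        (K := CommRingCat.of (R ⧸ IsLocalRing.maximalIdeal R))
        (Field.toIsField (R ⧸ IsLocalRing.maximalIdeal R)) _
    have hpo := Groth.Agent.Lib.Helper12.isPushout_appTop H
    exact hpo.isIso_inr_of_isIso hiso0
  have hb : IsIso (g.fiberToSpecResidueField (t y)).appTop :=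
    isIso_fiber_appTop_of_isPullback_of_isIso hsq y
      (isIso_residueFieldMap_of_isClosedImmersion t y) ha
  have hty : ∀ q : Spec (CommRingCat.of R), (q : PrimeSpectrum R).asIdeal.IsMaximal → q = t y := by
    intro q hq
    apply PrimeSpectrum.ext
    rw [IsLocalRing.eq_maximalIdeal hq]
    show _ = Ideal.comap (Ideal.Quotient.mk (IsLocalRing.maximalIdeal R)) _
    have hy0 : (y : PrimeSpectrum (R ⧸ IsLocalRing.maximalIdeal R)).asIdeal = ⊥ := by
      show IsLocalRing.maximalIdeal (R ⧸ IsLocalRing.maximalIdeal R) = ⊥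
      exact IsLocalRing.maximalIdeal_eq_bot
    rw [hy0, ← RingHom.ker_eq_comap_bot, Ideal.mk_ker]
  -- nonemptiness and surjectivity
  haveI : Nontrivial Γ(X₀, ⊤) := by
    have h1 : Function.Injective ((Scheme.ΓSpecIso (CommRingCat.of (R ⧸ IsLocalRing.maximalIdeal R))).inv ≫
        f₀.appTop) := h0.injective
    exact h1.nontrivial
  obtain ⟨z⟩ := Groth.Agent.Lib.H9SteinConn.nonempty_of_nontrivial X₀
  have hz : g (i z) = t y := by
    have h1 : (i ≫ g) z = (f₀ ≫ t) z := by rw [hsq.w]
    rw [Scheme.Hom.comp_apply, Scheme.Hom.comp_apply] at h1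
    rw [h1]
    congr 1
    exact Subsingleton.elim (α := PrimeSpectrum (R ⧸ IsLocalRing.maximalIdeal R)) _ _
  have hty' : t y = (IsLocalRing.closedPoint R : PrimeSpectrum R) :=
    (hty (IsLocalRing.closedPoint R) (IsLocalRing.maximalIdeal.isMaximal R)).symm
  have hsurj : ∀ q : Spec (CommRingCat.of R), ∃ x, g x = q := by
    intro q
    have hs : q ⤳ g (i z) := by
      rw [hz, hty']
      exact IsLocalRing.specializes_closedPoint (q : PrimeSpectrum R)
    obtain ⟨x', -, hx'⟩ := (Flat.generalizingMap g) hs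
    exact ⟨x', hx'⟩
  letI : X.Over (Spec (CommRingCat.of R)) := ⟨g⟩
  have hpb : IsPullback (𝟙 X) (X ↘ Spec (CommRingCat.of R)) (X ↘ Spec (CommRingCat.of R))
      (Spec.map (CommRingCat.ofHom (algebraMap R R))) := by
    have e : Spec.map (CommRingCat.ofHom (algebraMap R R)) = 𝟙 _ := by
      rw [Algebra.algebraMap_self]
      exact Spec.map_id _
    rw [e]
    exact IsPullback.of_horiz_isIso ⟨by simp⟩
  haveI : IsProper (X ↘ Spec (CommRingCat.of R)) := ‹IsProper g›
  haveI : Flat (X ↘ Spec (CommRingCat.of R)) := ‹Flat g›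
  have hres := bijective_appTop' (A := R) (B := R) (X := X) (X' := X) (𝟙 X) hpb
    (fun q hq => by
      rw [hty q hq]
      exact ConcreteCategory.bijective_of_isIso (g.fiberToSpecResidueField (t y)).appTop)
    hsurj
  have h1 : Function.Bijective (Scheme.ΓSpecIso (CommRingCat.of R)).inv.hom :=
    ConcreteCategory.bijective_of_isIso _
  exact hres.comp h1

end Groth.Agent.Lib.H9CbL
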