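import Groth.Agent.Lib.H9SecChart

/-! Closed immersions of smooth schemes: etale coordinates adapted to the closed subscheme
(helper9). -/

set_option autoImplicit false
set_option linter.style.haveILetI false
set_option linter.unusedSimpArgs false
universe u
open TensorProduct KaehlerDifferential IsLocalRing
open AlgebraicGeometry CategoryTheory CategoryTheory.Limits

namespace Groth.Agent.Lib.H9ClChart

-- ===== part E1.0 =====
section

open Groth.Agent.Lib.H9EtCoord

/-- minimal generators of a finitely generated ideal at a prime, chosen from the ideal -/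
theorem exists_min_gens (B : Type u) [CommRing B] (J : Ideal B) (hJ : J.FG) (q : Ideal B)
    [q.IsPrime] :
    ∃ (r : ℕ) (g : Fin r → B), (∀ i, g i ∈ J) ∧
      J.map (algebraMap B (Localization.AtPrime q)) =
        Ideal.span (Set.range fun i => algebraMap B (Localization.AtPrime q) (g i)) ∧
      r = Module.finrank q.ResidueField (q.ResidueField ⊗[B] J) := by
  let a : J → Iq B J q := fun j =>
    ⟨algebraMap B (Localization.AtPrime q) j, Ideal.mem_map_of_mem _ j.2⟩
  have ha : Submodule.span (Localization.AtPrime q) (Set.range a) = ⊤ := by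
    rw [eq_top_iff]
    rintro ⟨x, hx⟩ -
    have hx' : x ∈ Ideal.span ((algebraMap B (Localization.AtPrime q)) '' (J : Set B)) := hx
    induction hx' using Submodule.span_induction with
    | mem z hz =>
      obtain ⟨j, hj, rfl⟩ := hz
      exact Submodule.subset_span ⟨⟨j, hj⟩, rfl⟩
    | zero => exact Submodule.zero_mem _
    | add z w hz hw ihz ihw =>
      have : (⟨z + w, hx⟩ : Iq B J q) = ⟨z, hz⟩ + ⟨w, hw⟩ := rfl
      rw [this]
      exact Submodule.add_mem _ (ihz hz) (ihw hw)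
    | smul p z hz ihz =>
      have : (⟨p • z, hx⟩ : Iq B J q) = p • ⟨z, hz⟩ := rfl
      rw [this]
      exact Submodule.smul_mem _ _ (ihz hz)
  haveI : Module.Finite (Localization.AtPrime q) (Iq B J q) :=
    Module.Finite.iff_fg.mpr (hJ.map _)
  obtain ⟨m, w, hli, hsp⟩ := exists_extend_vs (K := ResidueField (Localization.AtPrime q))
    (fun x => (1 : ResidueField (Localization.AtPrime q)) ⊗ₜ[Localization.AtPrime q] a x)
    (span_tmul_eq_top a ha) (r := 0) Fin.elim0 linearIndependent_empty_type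
  have hli' : LinearIndependent (ResidueField (Localization.AtPrime q))
      (fun i => (1 : ResidueField (Localization.AtPrime q)) ⊗ₜ[Localization.AtPrime q] a (w i)) :=
    hli.comp (Sum.inr : Fin m → Fin 0 ⊕ Fin m) Sum.inr_injective
  have hsp' : Submodule.span (ResidueField (Localization.AtPrime q)) (Set.range
      (fun i => (1 : ResidueField (Localization.AtPrime q)) ⊗ₜ[Localization.AtPrime q] a (w i)))
      = ⊤ := by
    rw [← hsp]
    congr 1
    ext z
    constructor
    · rintro ⟨j, rfl⟩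
      exact ⟨Sum.inr j, rfl⟩
    · rintro ⟨j | j, rfl⟩
      · exact Fin.elim0 j
      · exact ⟨j, rfl⟩
  let bs := Module.Basis.mk hli' hsp'.ge
  have hgen : Submodule.span (Localization.AtPrime q) (Set.range (a ∘ w)) = ⊤ :=
    IsLocalRing.span_eq_top_of_tmul_eq_basis _ bs
      (fun i => (Module.Basis.mk_apply hli' hsp'.ge i).symm)
  refine ⟨m, fun i => (w i : B), fun i => (w i).2, ?_, ?_⟩
  · apply le_antisymm
    · intro x hx
      have h1 : (⟨x, hx⟩ : Iq B J q) ∈ Submodule.span (Localization.AtPrime q)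
          (Set.range (a ∘ w)) := hgen ▸ Submodule.mem_top
      have h2 := Submodule.mem_map_of_mem (f := (Iq B J q).subtype) h1
      rw [Submodule.map_span, ← Set.range_comp] at h2
      exact h2
    · rw [Ideal.span_le]
      rintro _ ⟨i, rfl⟩
      exact Ideal.mem_map_of_mem _ (w i).2
  · rw [← finrank_tensor_Iq, Module.finrank_eq_card_basis bs, Fintype.card_fin]

end

-- ===== part E2.0 =====
section

open Groth.Agent.Lib.H9EtCoord

/-- transport of smoothness at a prime along an algebra isomorphism -/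
theorem isSmoothAt_comap_algEquiv (A S S' : Type u) [CommRing A] [CommRing S] [CommRing S']
    [Algebra A S] [Algebra A S'] (e : S ≃ₐ[A] S') (Q' : Ideal S') [Q'.IsPrime]
    [h : Algebra.IsSmoothAt A Q'] :
    haveI : (Q'.comap e.toRingHom).IsPrime := Ideal.comap_isPrime _ _
    Algebra.IsSmoothAt A (Q'.comap e.toRingHom) := by
  haveI : (Q'.comap e.toRingHom).IsPrime := Ideal.comap_isPrime _ _
  have H : Submonoid.map e.symm Q'.primeCompl = (Q'.comap e.toRingHom).primeCompl := by
    ext x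
    constructor
    · rintro ⟨y, hy, rfl⟩
      intro hx
      apply hy
      have : e.toRingHom (e.symm y) ∈ Q' := hx
      simpa using this
    · intro hx
      refine ⟨e x, ?_, by simp⟩
      intro hx'
      exact hx hx'
  let E : Localization.AtPrime Q' ≃ₐ[A] Localization.AtPrime (Q'.comap e.toRingHom) :=
    IsLocalization.algEquivOfAlgEquiv (Localization.AtPrime Q')
      (Localization.AtPrime (Q'.comap e.toRingHom)) e.symm H
  haveI : Algebra.FormallySmooth A (Localization.AtPrime Q') := h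
  exact Algebra.FormallySmooth.of_equiv E

end

-- ===== part E3.0 =====
section

open Groth.Agent.Lib.H9EtCoord

theorem ring_main2 (A B C : Type u) [CommRing A] [CommRing B] [CommRing C] (φ : A →+* B)
    (θ : B →+* C) (hθ : Function.Surjective θ)
    (hfpB : φ.FinitePresentation) (hfpC : (θ.comp φ).FinitePresentation)
    (Q' : Ideal C) [Q'.IsPrime]
    (hsmB : letI := φ.toAlgebra; Algebra.IsSmoothAt A (Q'.comap θ))
    (hsmC : letI := (θ.comp φ).toAlgebra; Algebra.IsSmoothAt A Q') :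
    ∃ (f : B) (_ : f ∉ Q'.comap θ) (n m : ℕ) (g : Fin n → B) (w : Fin m → B),
      (∀ j, θ (g j) = 0) ∧
      ∀ (D : Type u) [CommRing D] (ψ : B →+* D),
        (letI := ψ.toAlgebra; IsLocalization.Away f D) →
        (MvPolynomial.eval₂Hom (ψ.comp φ)
          (fun j : ULift.{u} (Fin m ⊕ Fin n) => ψ (Sum.elim w g j.down))).Etale ∧
        (RingHom.ker θ).map ψ = Ideal.span (Set.range fun j => ψ (g j)) := by
  letI := φ.toAlgebra
  letI : Algebra A C := (θ.comp φ).toAlgebra
  haveI : Algebra.FinitePresentation A B := hfpB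
  haveI : Algebra.FinitePresentation A C := hfpC
  let θ' : B →ₐ[A] C := { θ with commutes' := fun _ => rfl }
  have hθ' : Function.Surjective θ' := hθ
  obtain ⟨J, hJdef⟩ : ∃ J : Ideal B, J = RingHom.ker θ' := ⟨_, rfl⟩
  have hJθ : RingHom.ker θ = J := by
    rw [hJdef]; rfl
  have hJ : J.FG := hJdef ▸ Algebra.FinitePresentation.ker_fG_of_surjective θ' hθ'
  have hJq : J ≤ Q'.comap θ := by
    intro x hx
    rw [← hJθ, RingHom.mem_ker] at hx
    rw [Ideal.mem_comap, hx]
    exact Q'.zero_mem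
  let e : (B ⧸ RingHom.ker θ') ≃ₐ[A] C := Ideal.quotientKerAlgEquivOfSurjective hθ'
  haveI : Algebra.IsSmoothAt A Q' := hsmC
  haveI : Algebra.IsSmoothAt A (Q'.comap θ) := hsmB
  subst hJdef
  obtain ⟨Q, hQdef⟩ : ∃ Q : Ideal (B ⧸ RingHom.ker θ'), Q = Q'.comap e.toRingHom := ⟨_, rfl⟩
  haveI : Q.IsPrime := hQdef ▸ Ideal.comap_isPrime _ _
  haveI : Algebra.IsSmoothAt A Q := by
    subst hQdef
    exact isSmoothAt_comap_algEquiv A _ C e Q'
  have hQ : Q.comap (Ideal.Quotient.mk (RingHom.ker θ')) = Q'.comap θ := by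
    subst hQdef
    ext x
    rfl
  obtain ⟨r, g, hg, hgen, hmin⟩ := exists_min_gens B (RingHom.ker θ') hJ (Q'.comap θ)
  obtain ⟨f, hf, m, w, hEt, hJf⟩ :=
    main A B (RingHom.ker θ') hJ (Q'.comap θ) hJq Q hQ r g hg hgen hmin
  refine ⟨f, hf, r, m, g, w, fun j => hg j, ?_⟩
  intro D _ ψ hloc
  letI := ψ.toAlgebra
  haveI : IsLocalization.Away f D := hloc
  let eD : Localization.Away f ≃ₐ[B] D := IsLocalization.algEquiv (.powers f) _ _
  constructor
  · let ε : ULift.{u} (Fin m ⊕ Fin r) ≃ Fin r ⊕ Fin m := Equiv.ulift.trans (Equiv.sumComm _ _)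
    have key : MvPolynomial.eval₂Hom (ψ.comp φ)
        (fun j : ULift.{u} (Fin m ⊕ Fin r) => ψ (Sum.elim w g j.down)) =
        eD.toRingEquiv.toRingHom.comp
          (((MvPolynomial.aeval (Sum.elim (fun i => algebraMap B (Localization.Away f) (g i))
            (fun i => algebraMap B (Localization.Away f) (w i))) :
            MvPolynomial (Fin r ⊕ Fin m) A →ₐ[A] Localization.Away f).toRingHom).comp
          (MvPolynomial.renameEquiv A ε).toRingEquiv.toRingHom) := by
      apply MvPolynomial.ringHom_ext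
      · intro a
        simp only [MvPolynomial.eval₂Hom_C, RingHom.comp_apply, RingEquiv.toRingHom_eq_coe,
          RingEquiv.coe_toRingHom, AlgEquiv.coe_ringEquiv, MvPolynomial.renameEquiv_apply,
          MvPolynomial.rename_C, AlgHom.toRingHom_eq_coe, RingHom.coe_coe]
        rw [← MvPolynomial.algebraMap_eq, AlgHom.commutes,
          IsScalarTower.algebraMap_apply A B (Localization.Away f), eD.commutes]
        rfl
      · rintro ⟨j | j⟩
        · simp only [MvPolynomial.eval₂Hom_X', RingHom.comp_apply, RingEquiv.toRingHom_eq_coe,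
            RingEquiv.coe_toRingHom, AlgEquiv.coe_ringEquiv, MvPolynomial.renameEquiv_apply,
            MvPolynomial.rename_X, AlgHom.toRingHom_eq_coe, RingHom.coe_coe,
            MvPolynomial.aeval_X, Sum.elim_inl]
          change ψ (w j) = eD (algebraMap B (Localization.Away f) (w j))
          rw [eD.commutes]
          rfl
        · simp only [MvPolynomial.eval₂Hom_X', RingHom.comp_apply, RingEquiv.toRingHom_eq_coe,
            RingEquiv.coe_toRingHom, AlgEquiv.coe_ringEquiv, MvPolynomial.renameEquiv_apply,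
            MvPolynomial.rename_X, AlgHom.toRingHom_eq_coe, RingHom.coe_coe,
            MvPolynomial.aeval_X, Sum.elim_inr]
          change ψ (g j) = eD (algebraMap B (Localization.Away f) (g j))
          rw [eD.commutes]
          rfl
    rw [key]
    exact RingHom.Etale.respectsIso.1 _ eD.toRingEquiv (RingHom.Etale.respectsIso.2 _ _ hEt)
  · have h1 : ψ = eD.toRingEquiv.toRingHom.comp (algebraMap B (Localization.Away f)) := by
      ext x
      change ψ x = eD (algebraMap B (Localization.Away f) x)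
      rw [eD.commutes]
      rfl
    rw [hJθ]
    conv_lhs => rw [h1, ← Ideal.map_map, hJf, Ideal.map_span, ← Set.range_comp]
    congr 2
    funext j
    change eD (algebraMap B (Localization.Away f) (g j)) = ψ (g j)
    rw [eD.commutes]
    rfl

end

-- ===== part E4.0 =====
section

open Groth.Agent.Lib.H9SecChart

variable {X Y : Scheme.{u}}

/-- kernel on a basic open of an affine open, for a quasi-compact morphism -/
lemma ker_app_basicOpen (i : Y ⟶ X) [QuasiCompact i] (X₀ : X.Opens) (hX₀ : IsAffineOpen X₀)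
    (f : Γ(X, X₀)) :
    RingHom.ker (i.app (X.basicOpen f)).hom =
      (RingHom.ker (i.app X₀).hom).map (X.presheaf.map (homOfLE (X.basicOpen_le f)).op).hom := by
  have h1 := i.ker.map_ideal_basicOpen ⟨X₀, hX₀⟩ f
  rw [Scheme.Hom.ker_apply, Scheme.Hom.ker_apply] at h1
  exact h1.symm

/-- etaleness on the basic open `W = D(g)`, general index type -/
theorem etale_chart_W' (f : X ⟶ Y) (U₁ : Y.Opens) (V₁ : X.Opens) (hU₁ : IsAffineOpen U₁)
    (hV₁ : IsAffineOpen V₁) (hVU₁ : V₁ ≤ f ⁻¹ᵁ U₁) (g : Γ(X, V₁)) (n : Type u) (b : n → Γ(X, V₁))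
    (hWV₁ : X.basicOpen g ≤ V₁) (hWU₁ : X.basicOpen g ≤ f ⁻¹ᵁ U₁)
    (hE : (MvPolynomial.eval₂Hom ((X.presheaf.map (homOfLE hWV₁).op).hom.comp
          (f.appLE U₁ V₁ hVU₁).hom)
          (fun j : n => (X.presheaf.map (homOfLE hWV₁).op).hom (b j))).Etale) :
    Etale (AffineSpace.homOfVector (f.resLE U₁ (X.basicOpen g) hWU₁)
      (fun j : n => (X.basicOpen g).topIso.inv.hom
        ((X.presheaf.map (homOfLE hWV₁).op).hom (b j)))) := by
  haveI : IsAffine (U₁ : Scheme.{u}) := hU₁
  haveI : IsAffine ((X.basicOpen g : X.Opens) : Scheme.{u}) := hV₁.basicOpen g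
  apply etale_homOfVector_of_ring
  set W := X.basicOpen g with hW
  let ψ : Γ(X, V₁) →+* Γ(X, W) := (X.presheaf.map (homOfLE hWV₁).op).hom
  let eW : Γ(W, ⊤) ≃+* Γ(X, W) := W.topIso.commRingCatIsoToRingEquiv
  let eU : Γ(U₁, ⊤) ≃+* Γ(Y, U₁) := U₁.topIso.commRingCatIsoToRingEquiv
  have key : MvPolynomial.eval₂Hom (f.resLE U₁ W hWU₁).appTop.hom
      (fun j : n => W.topIso.inv.hom (ψ (b j))) =
      eW.symm.toRingHom.comp ((MvPolynomial.eval₂Hom (ψ.comp (f.appLE U₁ V₁ hVU₁).hom)
          (fun j : n => ψ (b j))).comp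
        (MvPolynomial.mapEquiv n eU).toRingHom) := by
    apply MvPolynomial.ringHom_ext
    · intro r
      simp only [MvPolynomial.eval₂Hom_C, RingHom.comp_apply, RingEquiv.toRingHom_eq_coe,
        RingEquiv.coe_toRingHom, MvPolynomial.mapEquiv_apply, MvPolynomial.map_C]
      rw [resLE_appTop_eq]
      have : (f.appLE U₁ W hWU₁).hom (U₁.topIso.hom.hom r) =
          ψ ((f.appLE U₁ V₁ hVU₁).hom (eU r)) := by
        have h3 : f.appLE U₁ W hWU₁ =
            f.appLE U₁ V₁ hVU₁ ≫ X.presheaf.map (homOfLE hWV₁).op :=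
          (Scheme.Hom.appLE_map f hVU₁ (homOfLE hWV₁).op).symm
        rw [h3]
        rfl
      rw [this]
      rfl
    · intro j
      simp only [MvPolynomial.eval₂Hom_X', RingHom.comp_apply, RingEquiv.toRingHom_eq_coe,
        RingEquiv.coe_toRingHom, MvPolynomial.mapEquiv_apply, MvPolynomial.map_X]
      rfl
  exact key ▸ RingHom.Etale.respectsIso.1 _ eW.symm (RingHom.Etale.respectsIso.2 _ _ hE)

end

-- ===== part E5.0 =====
section

lemma isPullback_of_mono_of_lift {C : Type*} [Category C] {P Z U' W : C} (ρ : P ⟶ Z)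
    (j : P ⟶ U') (z : Z ⟶ W) (π : U' ⟶ W) [Mono j] [Mono z] (w : ρ ≫ z = j ≫ π)
    (H : ∀ {T : C} (a : T ⟶ U') (c : T ⟶ Z), a ≫ π = c ≫ z → ∃ l : T ⟶ P, l ≫ j = a) :
    IsPullback ρ j z π := by
  refine IsPullback.of_isLimit (PullbackCone.IsLimit.mk w
    (fun s => (H s.snd s.fst s.condition.symm).choose) ?_ ?_ ?_)
  · intro s
    rw [← cancel_mono z, Category.assoc, w,
      reassoc_of% (H s.snd s.fst s.condition.symm).choose_spec, s.condition]
  · intro s
    exact (H s.snd s.fst s.condition.symm).choose_spec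
  · intro s m _ hm
    rw [← cancel_mono j, hm, (H s.snd s.fst s.condition.symm).choose_spec]

lemma exists_lift_of_span {P U' : Scheme.{u}} (j : P ⟶ U') [IsClosedImmersion j] [IsAffine U']
    (gens : Set Γ(U', ⊤)) (hker : RingHom.ker j.appTop.hom ≤ Ideal.span gens)
    {T : Scheme.{u}} (a : T ⟶ U') (ha : ∀ s ∈ gens, a.appTop.hom s = 0) :
    ∃ l : T ⟶ P, l ≫ j = a := by
  have H : j.ker ≤ a.ker := by
    rw [Scheme.ker_of_isAffine j, Scheme.ker_of_isAffine a]
    apply Scheme.IdealSheafData.le_of_isAffine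
    simp only [Scheme.IdealSheafData.ofIdealTop_ideal]
    apply Ideal.map_mono
    refine hker.trans ?_
    rw [Ideal.span_le]
    intro s hs
    exact ha s hs
  exact ⟨IsClosedImmersion.lift j a H, IsClosedImmersion.lift_fac j a H⟩

end

-- ===== part E6.0 =====
section

open Groth.Agent.Lib.H9SecChart

/-- the coordinate subspace inclusion is a split mono -/
lemma mono_coordSubspace (S : Scheme.{u}) (m n : ℕ) :
    Mono (AffineSpace.homOfVector (𝔸(ULift.{u} (Fin m); S) ↘ S)
      (fun j : ULift.{u} (Fin m ⊕ Fin n) =>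
        Sum.elim (fun a => AffineSpace.coord S (ULift.up a)) (fun _ => 0) j.down)) := by
  let retr : 𝔸(ULift.{u} (Fin m ⊕ Fin n); S) ⟶ 𝔸(ULift.{u} (Fin m); S) :=
    AffineSpace.homOfVector (𝔸(ULift.{u} (Fin m ⊕ Fin n); S) ↘ S)
      (fun a : ULift.{u} (Fin m) => AffineSpace.coord S (ULift.up (Sum.inl a.down)))
  have h : AffineSpace.homOfVector (𝔸(ULift.{u} (Fin m); S) ↘ S)
      (fun j : ULift.{u} (Fin m ⊕ Fin n) =>
        Sum.elim (fun a => AffineSpace.coord S (ULift.up a)) (fun _ => 0) j.down) ≫ retr =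
      𝟙 _ := by
    apply AffineSpace.hom_ext
    · simp [retr]
    · intro j
      rw [Scheme.Hom.comp_appTop, CommRingCat.comp_apply, AffineSpace.homOfVector_appTop_coord,
        AffineSpace.homOfVector_appTop_coord]
      simp
  exact mono_of_mono_fac h

end

-- ===== part E6.1 =====
section

open Groth.Agent.Lib.H9SecChart

theorem main {S X Y : Scheme.{u}} (pX : X ⟶ S) (pY : Y ⟶ S) [Smooth pX] [Smooth pY]
    (i : Y ⟶ X) [IsClosedImmersion i] (w : i ≫ pX = pY) (y : Y) :
    ∃ (U : X.Opens) (m n : ℕ) (π : (U : Scheme.{u}) ⟶ 𝔸(ULift.{u} (Fin m ⊕ Fin n); S))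
      (ρ : (↑(i ⁻¹ᵁ U) : Scheme.{u}) ⟶ 𝔸(ULift.{u} (Fin m); S)),
      i y ∈ U ∧ Etale π ∧ π ≫ (𝔸(ULift.{u} (Fin m ⊕ Fin n); S) ↘ S) = U.ι ≫ pX ∧
      IsPullback ρ (i ∣_ U)
        (AffineSpace.homOfVector (𝔸(ULift.{u} (Fin m); S) ↘ S)
          (fun j : ULift.{u} (Fin m ⊕ Fin n) =>
            Sum.elim (fun a => AffineSpace.coord S (ULift.up a)) (fun _ => 0) j.down))
        π := by
  -- affine opens
  obtain ⟨_, ⟨S₀, hS₀, rfl⟩, hsS₀, -⟩ :=
    S.isBasis_affineOpens.exists_subset_of_mem_open (Set.mem_univ (pX (i y))) isOpen_univ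
  obtain ⟨_, ⟨X₀, hX₀, rfl⟩, hxX₀, hXS₀'⟩ :=
    X.isBasis_affineOpens.exists_subset_of_mem_open (show i y ∈ pX ⁻¹ᵁ S₀ from hsS₀)
      (pX ⁻¹ᵁ S₀).2
  have hXS₀ : X₀ ≤ pX ⁻¹ᵁ S₀ := hXS₀'
  have hY₀ : IsAffineOpen (i ⁻¹ᵁ X₀) := hX₀.preimage i
  have hYS₀ : i ⁻¹ᵁ X₀ ≤ pY ⁻¹ᵁ S₀ := by
    rw [← w]
    intro t ht
    exact hXS₀ ht
  have hyY₀ : y ∈ i ⁻¹ᵁ X₀ := hxX₀
  -- ring data
  have hθ := i.app_surjective X₀ hX₀
  have hfpB := pX.finitePresentation_appLE hS₀ hX₀ hXS₀
  have hfpC := pY.finitePresentation_appLE hS₀ hY₀ hYS₀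
  have hsmB := pX.smooth_appLE hS₀ hX₀ hXS₀
  have hsmC := pY.smooth_appLE hS₀ hY₀ hYS₀
  have hcomp : pY.appLE S₀ (i ⁻¹ᵁ X₀) hYS₀ = pX.appLE S₀ X₀ hXS₀ ≫ i.app X₀ := by
    subst w
    rw [← Scheme.Hom.appLE_eq_app, Scheme.Hom.appLE_comp_appLE]
  rw [hcomp] at hfpC hsmC
  obtain ⟨f, hf, n, m, g, wv, hg, H⟩ := ring_main2 Γ(S, S₀) Γ(X, X₀) Γ(Y, i ⁻¹ᵁ X₀)
    (pX.appLE S₀ X₀ hXS₀).hom (i.app X₀).hom hθ hfpB hfpC
    (hY₀.primeIdealOf ⟨y, hyY₀⟩).asIdeal
    (by
      algebraize [(pX.appLE S₀ X₀ hXS₀).hom]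
      infer_instance)
    (by
      have := hsmC
      rw [CommRingCat.hom_comp] at this
      algebraize [(i.app X₀).hom.comp (pX.appLE S₀ X₀ hXS₀).hom]
      infer_instance)
  -- the open neighbourhood
  set U : X.Opens := X.basicOpen f with hUdef
  have hUX₀ : U ≤ X₀ := X.basicOpen_le f
  have hUS₀ : U ≤ pX ⁻¹ᵁ S₀ := hUX₀.trans hXS₀
  have hyU : i y ∈ U := by
    have h1 : y ∈ Y.basicOpen ((i.app X₀).hom f) :=
      mem_basicOpen_of_notMem_primeIdealOf hY₀ y hyY₀ _ hf
    have h2 : i ⁻¹ᵁ X.basicOpen f = Y.basicOpen ((i.app X₀).hom f) := Scheme.preimage_basicOpen i f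
    rw [← h2] at h1
    exact h1
  set ψ : Γ(X, X₀) →+* Γ(X, U) := (X.presheaf.map (homOfLE hUX₀).op).hom with hψ
  have hloc : (letI := ψ.toAlgebra; IsLocalization.Away f Γ(X, U)) :=
    hX₀.isLocalization_of_eq_basicOpen f (homOfLE hUX₀) rfl
  obtain ⟨hEt, hker⟩ := H Γ(X, U) ψ hloc
  -- coordinates
  let bvec : ULift.{u} (Fin m ⊕ Fin n) → Γ(X, X₀) := fun j => Sum.elim wv g j.down
  let v : ULift.{u} (Fin m ⊕ Fin n) → Γ(U, ⊤) := fun j => U.topIso.inv.hom (ψ (bvec j))
  have hEt₀ : Etale (AffineSpace.homOfVector (pX.resLE S₀ U hUS₀) v) :=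
    etale_chart_W' pX S₀ X₀ hS₀ hX₀ hXS₀ f _ bvec hUX₀ hUS₀ hEt
  have hπ : AffineSpace.homOfVector (U.ι ≫ pX) v =
      AffineSpace.homOfVector (pX.resLE S₀ U hUS₀) v ≫
        AffineSpace.map (ULift.{u} (Fin m ⊕ Fin n)) (Scheme.Opens.ι (X := S) S₀) := by
    apply AffineSpace.hom_ext
    · rw [AffineSpace.homOfVector_over, Category.assoc, AffineSpace.map_over,
        AffineSpace.homOfVector_over_assoc, Scheme.Hom.resLE_comp_ι]
    · intro j
      rw [Scheme.Hom.comp_appTop, CommRingCat.comp_apply, AffineSpace.map_appTop_coord,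
        AffineSpace.homOfVector_appTop_coord, AffineSpace.homOfVector_appTop_coord]
  have hEtπ : Etale (AffineSpace.homOfVector (U.ι ≫ pX) v) := by
    rw [hπ]; infer_instance
  let ρ : (↑(i ⁻¹ᵁ U) : Scheme.{u}) ⟶ 𝔸(ULift.{u} (Fin m); S) :=
    AffineSpace.homOfVector ((i ⁻¹ᵁ U).ι ≫ pY)
      (fun j : ULift.{u} (Fin m) => (i ∣_ U).appTop.hom (v (ULift.up (Sum.inl j.down))))
  refine ⟨U, m, n, AffineSpace.homOfVector (U.ι ≫ pX) v, ρ, hyU, hEtπ,
    AffineSpace.homOfVector_over _ _, ?_⟩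
  haveI := mono_coordSubspace S m n
  -- the restriction of `i` on sections
  have happ : ∀ s : Γ(X, U), (i ∣_ U).appTop.hom (U.topIso.inv.hom s) =
      (i ⁻¹ᵁ U).topIso.inv.hom ((i.app U).hom s) := by
    intro s
    have h1 := resLE_appTop_topIso_inv i (U := U) (V := i ⁻¹ᵁ U) le_rfl s
    rw [Scheme.Hom.appLE_eq_app] at h1
    have h2 : i.resLE U (i ⁻¹ᵁ U) le_rfl = i ∣_ U := Scheme.Hom.resLE_eq_morphismRestrict i
    rw [h2] at h1
    exact h1
  have hres : ∀ t : Γ(X, X₀), (i.app U).hom (ψ t) =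
      (Y.presheaf.map (homOfLE (show i ⁻¹ᵁ U ≤ i ⁻¹ᵁ X₀ from
        fun _ hz => hUX₀ hz)).op).hom ((i.app X₀).hom t) := by
    intro t
    have := i.naturality (homOfLE hUX₀).op
    exact congr($this t)
  -- vanishing of the `g`-coordinates on `Y`
  have hvan : ∀ b : Fin n, (i ∣_ U).appTop.hom (v (ULift.up (Sum.inr b))) = 0 := by
    intro b
    change (i ∣_ U).appTop.hom (U.topIso.inv.hom (ψ (g b))) = 0
    rw [happ, hres, hg, map_zero, map_zero]
  haveI : IsAffine (U : Scheme.{u}) := hX₀.basicOpen f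
  apply isPullback_of_mono_of_lift
  · -- commutativity
    apply AffineSpace.hom_ext
    · rw [Category.assoc, AffineSpace.homOfVector_over, Category.assoc,
        AffineSpace.homOfVector_over, AffineSpace.homOfVector_over, morphismRestrict_ι_assoc, w]
    · intro j
      rw [Scheme.Hom.comp_appTop, Scheme.Hom.comp_appTop, CommRingCat.comp_apply,
        CommRingCat.comp_apply, AffineSpace.homOfVector_appTop_coord,
        AffineSpace.homOfVector_appTop_coord]
      obtain ⟨j | j⟩ := j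
      · simp only [Sum.elim_inl]
        exact AffineSpace.homOfVector_appTop_coord _ _ _
      · simp only [Sum.elim_inr]
        rw [map_zero]
        exact (hvan j).symm
  · -- lifting
    intro T a c hac
    refine exists_lift_of_span (i ∣_ U)
      (Set.range fun b : Fin n => v (ULift.up (Sum.inr b))) ?_ a ?_
    · intro s hs
      rw [RingHom.mem_ker] at hs
      have hs1 : (i.app U).hom (U.topIso.hom.hom s) = 0 := by
        have h1 := happ (U.topIso.hom.hom s)
        rw [topIso_inv_hom_apply, hs] at h1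
        have h2 := congrArg (i ⁻¹ᵁ U).topIso.hom.hom h1
        rw [topIso_hom_inv_apply, map_zero] at h2
        exact h2.symm
      have hs2 : U.topIso.hom.hom s ∈ RingHom.ker (i.app U).hom := hs1
      rw [ker_app_basicOpen i X₀ hX₀ f, hker] at hs2
      have hs3 := Ideal.mem_map_of_mem U.topIso.inv.hom hs2
      rw [topIso_inv_hom_apply, Ideal.map_span, ← Set.range_comp] at hs3
      exact hs3
    · rintro _ ⟨b, rfl⟩
      have h1 : v (ULift.up (Sum.inr b)) =
          (AffineSpace.homOfVector (U.ι ≫ pX) v).appTop.hom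
            (AffineSpace.coord S (ULift.up (Sum.inr b))) :=
        (AffineSpace.homOfVector_appTop_coord _ _ _).symm
      change a.appTop.hom (v (ULift.up (Sum.inr b))) = 0
      rw [h1, ← CommRingCat.comp_apply, ← Scheme.Hom.comp_appTop, hac, Scheme.Hom.comp_appTop,
        CommRingCat.comp_apply, AffineSpace.homOfVector_appTop_coord]
      simp

end

end Groth.Agent.Lib.H9ClChart
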