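import Mathlib
import Groth.Prelude
import Groth.Agent.Lib.H9Blow2Alg

set_option autoImplicit false
set_option linter.style.haveILetI false
universe u

namespace Groth.Agent.Lib.H9RegBlowB

open IsLocalRing nonZeroDivisors
open Groth.Agent.Lib.H9AffBlow2 Groth.Agent.Lib.Helper5.OrdVal Groth.Agent.Lib.H9Blow2Alg

section chart
variable {A : Type u} [CommRing A] [IsLocalRing A] [IsDomain A] (x : A)

local notation "R" => (BlowUp.affineAlgebra A (maximalIdeal A) x)
local notation "φ" => algebraMap A (BlowUp.affineAlgebra A (maximalIdeal A) x)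

theorem isDomain (hx : x ≠ 0) : IsDomain R := by
  haveI : IsDomain (Localization.Away x) :=
    IsLocalization.isDomain_localization
      (Submonoid.powers_le.mpr (mem_nonZeroDivisors_of_ne_zero hx))
  infer_instance

/-- the exceptional divisor of the chart is integral. -/
theorem span_isPrime (hgr : GrDomain A) (hx : ExactOrd x 1) :
    (Ideal.span {φ x} : Ideal R).IsPrime := by
  have hxm : x ∈ maximalIdeal A := by have := hx.1; rwa [pow_one] at this
  have hx0 : x ≠ 0 := hx.ne_zero
  have hinj := algebraMap_injective A (maximalIdeal A) x hx0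
  have hnz := a_mem_nonZeroDivisors A (maximalIdeal A) x
  rw [Ideal.isPrime_iff]
  constructor
  · rw [Ideal.ne_top_iff_one, Ideal.mem_span_singleton']
    rintro ⟨r, hr⟩
    obtain ⟨N, α, hα, hrα⟩ := exists_mem_pow_mul A (maximalIdeal A) x hxm r
    have h1 : φ (x ^ N) = φ (x * α) := by
      rw [map_pow, map_mul, ← hrα]
      calc φ x ^ N = (r * φ x) * φ x ^ N := by rw [hr, one_mul]
        _ = φ x * (r * φ x ^ N) := by ring
    have h2 := hinj h1
    have h3 : x ^ N ∈ maximalIdeal A ^ (N + 1) := by
      rw [h2, pow_succ']; exact Ideal.mul_mem_mul hxm hα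
    exact (ExactOrd.pow hgr hx N).2 h3
  · intro r r' hrr'
    obtain ⟨s, hs⟩ := Ideal.mem_span_singleton'.mp hrr'
    obtain ⟨N, α, hα, hrα⟩ := exists_mem_pow_mul A (maximalIdeal A) x hxm r
    obtain ⟨N', α', hα', hrα'⟩ := exists_mem_pow_mul A (maximalIdeal A) x hxm r'
    obtain ⟨K, σ, hσ, hsσ⟩ := exists_mem_pow_mul A (maximalIdeal A) x hxm s
    have key : α * α' * x ^ K = x ^ (N + N' + 1) * σ := by
      apply hinj
      simp only [map_mul, map_pow]
      rw [← hrα, ← hrα', ← hsσ]
      calc r * φ x ^ N * (r' * φ x ^ N') * φ x ^ K = (r * r') * φ x ^ (N + N' + K) := by ring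
        _ = (s * φ x) * φ x ^ (N + N' + K) := by rw [hs]
        _ = φ x ^ (N + N' + 1) * (s * φ x ^ K) := by ring
    have aux : ∀ (r : R) (N : ℕ) (α : A), α ∈ maximalIdeal A ^ (N + 1) →
        r * φ x ^ N = φ α → r ∈ Ideal.span {φ x} := by
      intro r N α hα h
      obtain ⟨t, ht⟩ := exists_mul_pow_of_mem_pow A (maximalIdeal A) x (N + 1) α hα
      rw [Ideal.mem_span_singleton']
      refine ⟨t, ?_⟩
      have hN : φ x ^ N ∈ R⁰ := pow_mem hnz N
      apply (mul_cancel_right_mem_nonZeroDivisors hN).1
      rw [h, ht]; ring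
    by_cases h1 : α ∈ maximalIdeal A ^ (N + 1)
    · exact Or.inl (aux r N α h1 hrα)
    by_cases h2 : α' ∈ maximalIdeal A ^ (N' + 1)
    · exact Or.inr (aux r' N' α' h2 hrα')
    exfalso
    have e1 : ExactOrd α N := ⟨hα, h1⟩
    have e2 : ExactOrd α' N' := ⟨hα', h2⟩
    have e3 := (e1.mul hgr e2).mul hgr (ExactOrd.pow hgr hx K)
    apply e3.2
    rw [key]
    have h4 : x ^ (N + N' + 1) * σ ∈ maximalIdeal A ^ (N + N' + 1) * maximalIdeal A ^ K :=
      Ideal.mul_mem_mul (Ideal.pow_mem_pow hxm _) hσ
    rw [← pow_add] at h4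
    have e : N + N' + 1 + K = N + N' + K + 1 := by ring
    rwa [e] at h4

/-- away from the exceptional divisor, the local rings of the chart are local rings of `A`. -/
theorem isLocalization_atPrime (hx0 : x ≠ 0) (q : Ideal R) [hq : q.IsPrime] (hxq : φ x ∉ q) :
    IsLocalization.AtPrime (Localization.AtPrime q) (q.comap φ) := by
  haveI := isDomain x hx0
  have hinj := algebraMap_injective A (maximalIdeal A) x hx0
  have htower : ∀ a : A, algebraMap A (Localization.AtPrime q) a =
      algebraMap R (Localization.AtPrime q) (φ a) :=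
    fun a => IsScalarTower.algebraMap_apply A R (Localization.AtPrime q) a
  refine (isLocalization_iff (q.comap φ).primeCompl (Localization.AtPrime q)).mpr ⟨?_, ?_, ?_⟩
  · rintro ⟨a, ha⟩
    rw [htower]
    exact IsLocalization.map_units (Localization.AtPrime q) (⟨φ a, ha⟩ : q.primeCompl)
  · intro z
    obtain ⟨⟨r, s⟩, hz⟩ := IsLocalization.surj q.primeCompl z
    obtain ⟨n, α, hα⟩ := exists_pow_mul A (maximalIdeal A) x r
    obtain ⟨k, β, hβ⟩ := exists_pow_mul A (maximalIdeal A) x (s : R)
    have hβq : φ (β * x ^ n) ∉ q := by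
      rw [map_mul, ← hβ, map_pow]
      intro h
      rcases hq.mem_or_mem h with h | h
      · rcases hq.mem_or_mem h with h | h
        · exact s.2 h
        · exact hxq (hq.mem_of_pow_mem _ h)
      · exact hxq (hq.mem_of_pow_mem _ h)
    refine ⟨⟨α * x ^ k, ⟨β * x ^ n, hβq⟩⟩, ?_⟩
    show z * algebraMap A _ (β * x ^ n) = algebraMap A _ (α * x ^ k)
    rw [htower, htower, map_mul φ, map_mul φ, ← hβ, ← hα, map_pow, map_pow]
    simp only [map_mul]
    rw [← hz]; ring
  · intro a b hab
    rw [htower, htower] at hab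
    have h1 : φ a = φ b :=
      IsLocalization.injective (Localization.AtPrime q) q.primeCompl_le_nonZeroDivisors hab
    exact ⟨1, by rw [hinj h1]⟩

omit [IsDomain A] in
variable {x} in
theorem induction_on_R {motive : R → Prop} (halg : ∀ a, motive (φ a))
    (hgen : ∀ i (hi : i ∈ maximalIdeal A), motive (gen A (maximalIdeal A) x i hi))
    (hadd : ∀ r s, motive r → motive s → motive (r + s))
    (hmul : ∀ r s, motive r → motive s → motive (r * s)) (r : R) : motive r := by
  obtain ⟨r, hr⟩ := r
  induction hr using Algebra.adjoin_induction with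
  | mem z hz =>
    obtain ⟨i, hi, rfl⟩ := hz
    exact hgen i hi
  | algebraMap c => exact halg c
  | add z w hz hw ihz ihw => exact hadd _ _ ihz ihw
  | mul z w hz hw ihz ihw => exact hmul _ _ ihz ihw

variable (y : A)

omit [IsDomain A] in
theorem gen_eq (hxy : Ideal.span {x, y} = maximalIdeal A) (hym : y ∈ maximalIdeal A) (i : A)
    (hi : i ∈ maximalIdeal A) :
    ∃ α β : A, gen A (maximalIdeal A) x i hi = φ α + φ β * gen A (maximalIdeal A) x y hym := by
  have hi' := hi
  rw [← hxy, Ideal.mem_span_pair] at hi'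
  obtain ⟨α, β, h⟩ := hi'
  refine ⟨α, β, ?_⟩
  have hnz := a_mem_nonZeroDivisors A (maximalIdeal A) x
  apply (mul_cancel_left_mem_nonZeroDivisors hnz).1
  rw [a_mul_gen, mul_add, ← mul_assoc, mul_comm (φ x) (φ β), mul_assoc, a_mul_gen, ← h, map_add,
    map_mul, map_mul]
  ring

theorem aeval_surjective (hxy : Ideal.span {x, y} = maximalIdeal A) (hym : y ∈ maximalIdeal A) :
    Function.Surjective
      (Polynomial.aeval (gen A (maximalIdeal A) x y hym) : Polynomial A →ₐ[A] R) := by
  intro r
  induction r using induction_on_R with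
  | halg a => exact ⟨Polynomial.C a, by simp⟩
  | hgen i hi =>
    obtain ⟨α, β, h⟩ := gen_eq x y hxy hym i hi
    refine ⟨Polynomial.C α + Polynomial.C β * Polynomial.X, ?_⟩
    rw [h]; simp
  | hadd r s hr hs =>
    obtain ⟨f, rfl⟩ := hr
    obtain ⟨g, rfl⟩ := hs
    exact ⟨f + g, map_add _ _ _⟩
  | hmul r s hr hs =>
    obtain ⟨f, rfl⟩ := hr
    obtain ⟨g, rfl⟩ := hs
    exact ⟨f * g, map_mul _ _ _⟩

theorem isNoetherianRing [IsNoetherianRing A] (hxy : Ideal.span {x, y} = maximalIdeal A)
    (hym : y ∈ maximalIdeal A) : IsNoetherianRing R :=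
  isNoetherianRing_of_surjective _ _
    (Polynomial.aeval (gen A (maximalIdeal A) x y hym) : Polynomial A →ₐ[A] R).toRingHom
    (aeval_surjective x y hxy hym)

end chart

section final
variable {A : Type u} [CommRing A] [IsLocalRing A] [IsDomain A] [IsNoetherianRing A] (x y : A)

local notation "Rx" => (BlowUp.affineAlgebra A (maximalIdeal A) x)
local notation "φ" => algebraMap A (BlowUp.affineAlgebra A (maximalIdeal A) x)

omit [IsNoetherianRing A] in
/-- every ideal of the chart containing `x` is generated by `x` and one more element. -/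
theorem exists_span_pair (hxy : Ideal.span {x, y} = maximalIdeal A) (hxm : x ∈ maximalIdeal A)
    (hym : y ∈ maximalIdeal A) (q : Ideal Rx) (hq : φ x ∈ q) :
    ∃ g : Rx, q = Ideal.span {φ x, g} := by
  set P : Ideal Rx := Ideal.span {φ x} with hP
  have hmP : ∀ a ∈ maximalIdeal A, ((Ideal.Quotient.mk P).comp φ) a = 0 := by
    intro a ha
    rw [RingHom.comp_apply, Ideal.Quotient.eq_zero_iff_mem, hP,
      ← affineAlgebra_map_eq_span A (maximalIdeal A) x hxm]
    exact Ideal.mem_map_of_mem _ ha
  let κ : ResidueField A →+* Rx ⧸ P :=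
    Ideal.Quotient.lift (maximalIdeal A) ((Ideal.Quotient.mk P).comp φ) hmP
  let ψ : Polynomial (ResidueField A) →+* Rx ⧸ P :=
    Polynomial.eval₂RingHom κ (Ideal.Quotient.mk P (gen A (maximalIdeal A) x y hym))
  have hψ : ψ.comp (Polynomial.mapRingHom (residue A)) = (Ideal.Quotient.mk P).comp
      (Polynomial.aeval (gen A (maximalIdeal A) x y hym) : Polynomial A →ₐ[A] Rx).toRingHom := by
    apply Polynomial.ringHom_ext
    · intro a
      simp only [RingHom.comp_apply, Polynomial.coe_mapRingHom, Polynomial.map_C, ψ,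
        Polynomial.coe_eval₂RingHom, Polynomial.eval₂_C]
      simp only [AlgHom.toRingHom_eq_coe, RingHom.coe_coe, Polynomial.aeval_C]
      rfl
    · simp only [RingHom.comp_apply, Polynomial.coe_mapRingHom, Polynomial.map_X, ψ,
        Polynomial.coe_eval₂RingHom, Polynomial.eval₂_X]
      simp only [AlgHom.toRingHom_eq_coe, RingHom.coe_coe, Polynomial.aeval_X]
  have hsurj : Function.Surjective ψ := by
    intro z
    obtain ⟨r, rfl⟩ := Ideal.Quotient.mk_surjective z
    obtain ⟨f, rfl⟩ := aeval_surjective x y hxy hym r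
    exact ⟨f.map (residue A), RingHom.congr_fun hψ f⟩
  haveI : IsPrincipalIdealRing (Rx ⧸ P) := IsPrincipalIdealRing.of_surjective ψ hsurj
  obtain ⟨gbar, hg⟩ := (IsPrincipalIdealRing.principal (q.map (Ideal.Quotient.mk P))).principal
  obtain ⟨g, rfl⟩ := Ideal.Quotient.mk_surjective gbar
  refine ⟨g, ?_⟩
  have hPq : P ≤ q := by rw [hP, Ideal.span_singleton_le_iff_mem]; exact hq
  have h1 : (q.map (Ideal.Quotient.mk P)).comap (Ideal.Quotient.mk P) = q := by
    rw [Ideal.comap_map_of_surjective _ Ideal.Quotient.mk_surjective, ← RingHom.ker_eq_comap_bot,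
      Ideal.mk_ker]
    exact sup_eq_left.mpr hPq
  have h2 : (Ideal.span {Ideal.Quotient.mk P g}).comap (Ideal.Quotient.mk P) =
      Ideal.span {g} ⊔ P := by
    rw [← Set.image_singleton, ← Ideal.map_span,
      Ideal.comap_map_of_surjective _ Ideal.Quotient.mk_surjective, ← RingHom.ker_eq_comap_bot,
      Ideal.mk_ker]
  have hg' : q.map (Ideal.Quotient.mk P) = Ideal.span {Ideal.Quotient.mk P g} := hg
  rw [← h1, hg', h2, Ideal.span_insert, sup_comm]

/-- the local rings of the chart `A[𝔪/x]` of the blow-up of a two dimensional regular local ring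
in its maximal ideal are regular. -/
theorem isRegularLocalRing_atPrime_chart
    (hreg : ∀ (p : Ideal A) [p.IsPrime], IsRegularLocalRing (Localization.AtPrime p))
    (hgr : GrDomain A) (hx : ExactOrd x 1) (hxy : Ideal.span {x, y} = maximalIdeal A)
    (q : Ideal Rx) [hq : q.IsPrime] : IsRegularLocalRing (Localization.AtPrime q) := by
  have hxm : x ∈ maximalIdeal A := by have := hx.1; rwa [pow_one] at this
  have hym : y ∈ maximalIdeal A := by
    rw [← hxy]; exact Ideal.subset_span (Set.mem_insert_of_mem _ rfl)
  have hx0 : x ≠ 0 := hx.ne_zero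
  haveI := isDomain x hx0
  haveI := isNoetherianRing x y hxy hym
  have hinj := algebraMap_injective A (maximalIdeal A) x hx0
  by_cases hxq : φ x ∈ q
  · obtain ⟨g, hg⟩ := exists_span_pair x y hxy hxm hym q hxq
    haveI hP := span_isPrime x hgr hx
    have hφx0 : φ x ≠ 0 := fun h => hx0 (hinj (by rw [h, map_zero]))
    have hbotP : (⊥ : Ideal Rx) < Ideal.span {φ x} := by
      rw [bot_lt_iff_ne_bot, Ne, Ideal.span_singleton_eq_bot]; exact hφx0
    have hPq : Ideal.span {φ x} ≤ q := by rw [Ideal.span_singleton_le_iff_mem]; exact hxq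
    have hP1 : 1 ≤ (Ideal.span {φ x} : Ideal Rx).height := by
      have := Ideal.height_strict_mono_of_isPrime_of_isPrime hbotP
      exact Order.one_le_iff_pos.mpr (lt_of_le_of_lt zero_le this)
    have hmapq : Ideal.map (algebraMap Rx (Localization.AtPrime q)) q =
        Ideal.span {algebraMap Rx (Localization.AtPrime q) (φ x),
          algebraMap Rx (Localization.AtPrime q) g} := by
      have := congrArg (Ideal.map (algebraMap Rx (Localization.AtPrime q))) hg
      rw [this, Ideal.map_span, Set.image_pair]
    have hdim : ringKrullDim (Localization.AtPrime q) = q.height :=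
      IsLocalization.AtPrime.ringKrullDim_eq_height q (Localization.AtPrime q)
    apply IsRegularLocalRing.of_spanFinrank_maximalIdeal_le
    rw [hdim, ← Localization.AtPrime.map_eq_maximalIdeal]
    by_cases hgP : g ∈ Ideal.span {φ x}
    · have hmapq' : Ideal.map (algebraMap Rx (Localization.AtPrime q)) q =
          Ideal.span {algebraMap Rx (Localization.AtPrime q) (φ x)} := by
        have h3 : q = Ideal.span {φ x} := by
          rw [hg, Ideal.span_insert]
          exact sup_eq_left.mpr ((Ideal.span_singleton_le_iff_mem _).mpr hgP)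
        have := congrArg (Ideal.map (algebraMap Rx (Localization.AtPrime q))) h3
        rw [this, Ideal.map_span, Set.image_singleton]
      rw [hmapq']
      have h4 : (Ideal.span {algebraMap Rx (Localization.AtPrime q) (φ x)}).spanFinrank ≤ 1 := by
        have := Submodule.spanFinrank_span_le_ncard_of_finite (R := Localization.AtPrime q)
          (Set.finite_singleton
            (algebraMap Rx (Localization.AtPrime q) (φ x)))
        rwa [Set.ncard_singleton] at this
      have h5 : (1 : ℕ∞) ≤ q.height := hP1.trans (Ideal.height_mono hPq)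
      have h6 : (((Ideal.span {algebraMap Rx (Localization.AtPrime q) (φ x)}).spanFinrank : ℕ) : ℕ∞)
          ≤ q.height := le_trans (by exact_mod_cast h4) h5
      exact_mod_cast h6
    · rw [hmapq]
      have h4 : (Ideal.span {algebraMap Rx (Localization.AtPrime q) (φ x),
          algebraMap Rx (Localization.AtPrime q) g}).spanFinrank ≤ 2 := by
        have := Submodule.spanFinrank_span_le_ncard_of_finite (R := Localization.AtPrime q)
          (Set.toFinite
            ({algebraMap Rx (Localization.AtPrime q) (φ x),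
              algebraMap Rx (Localization.AtPrime q) g} : Set (Localization.AtPrime q)))
        refine this.trans ?_
        refine (Set.ncard_insert_le _ _).trans ?_
        rw [Set.ncard_singleton]
      have hlt : Ideal.span {φ x} < q := by
        refine lt_of_le_of_ne hPq ?_
        intro h
        apply hgP
        rw [h, hg]
        exact Ideal.subset_span (Set.mem_insert_of_mem _ rfl)
      have h5 : (2 : ℕ∞) ≤ q.height := by
        have h7 := Ideal.height_strict_mono_of_isPrime_of_isPrime hlt
        have h8 : (Ideal.span {φ x} : Ideal Rx).height + 1 ≤ q.height := Order.add_one_le_of_lt h7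
        have h9 : (1 : ℕ∞) + 1 ≤ (Ideal.span {φ x} : Ideal Rx).height + 1 := by gcongr
        have : (2 : ℕ∞) = 1 + 1 := by norm_num
        rw [this]
        exact h9.trans h8
      have h6 : (((Ideal.span {algebraMap Rx (Localization.AtPrime q) (φ x),
          algebraMap Rx (Localization.AtPrime q) g}).spanFinrank : ℕ) : ℕ∞) ≤ q.height :=
        le_trans (by exact_mod_cast h4) h5
      exact_mod_cast h6
  · haveI := isLocalization_atPrime x hx0 q hxq
    let e := IsLocalization.algEquiv (q.comap φ).primeCompl (Localization.AtPrime (q.comap φ))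
      (Localization.AtPrime q)
    haveI := hreg (q.comap φ)
    exact IsRegularLocalRing.of_ringEquiv e.toRingEquiv

end final

end Groth.Agent.Lib.H9RegBlowB
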