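import Mathlib
import Groth.Prelude
import Groth.Agent.Lib.H9AffBlow2

set_option autoImplicit false
universe u
open nonZeroDivisors CategoryTheory AlgebraicGeometry TopologicalSpace Opposite
open Groth.Agent.Lib.H9AffBlow Groth.Agent.Lib.H9AffBlow2
open Groth.Agent.Lib.Helper20.EffCartier

/-! helper9: variant of `H9AffBlow2.main` where the local chart parameter `a` is taken in a
generating set of the ideal (proofs copied from `H9AffBlow2` with the obvious changes). -/

namespace Groth.Agent.Lib.H9RegBlowC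

section spec
variable {A : Type u} [CommRing A] (I : Ideal A)

theorem exists_good_nbhd_of_span (S : Set A) (hS : Ideal.span S = I) {X' : Scheme.{u}}
    (b : X' ⟶ Spec (CommRingCat.of A))
    (hJ : BlowUp.IsEffCartierIdeal ((Curv2.idealSheaf A I).comap b)) (x' : X') :
    ∃ a ∈ S, x' ∈ goodOpen ((Curv2.idealSheaf A I).comap b) (gmap b a) := by
  obtain ⟨U, hxU, c, hc, hIc⟩ := hJ x'
  set ψ := (res U.1).comp (gmap b) with hψ
  have e : Ideal.map ψ I = Ideal.span {c} := by
    rw [← ideal_comap_eq I b U.1 U.2]; exact hIc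
  let p : Ideal Γ(X', U.1) :=
    (IsLocalRing.maximalIdeal (X'.presheaf.stalk x')).comap (X'.presheaf.germ U.1 x' hxU).hom
  have hp : ∀ r, r ∈ p ↔ x' ∉ X'.basicOpen r := by
    intro r
    rw [Scheme.mem_basicOpen _ _ _ hxU]
    rfl
  have key : ∃ a ∈ S, ψ a ∉ Ideal.span {c} * p := by
    by_contra hcon
    push Not at hcon
    have h1 : Ideal.map ψ I ≤ Ideal.span {c} * p := by
      rw [Ideal.map_le_iff_le_comap, ← hS, Ideal.span_le]
      exact fun a ha => hcon a ha
    rw [e] at h1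
    have h2 : c ∈ Ideal.span {c} * p := h1 (Ideal.subset_span rfl)
    obtain ⟨m, hm, hcm⟩ := Ideal.mem_span_singleton_mul.1 h2
    have h3 : m = 1 := by
      have : c * m = c * 1 := by rw [hcm, mul_one]
      exact (mul_cancel_left_mem_nonZeroDivisors hc).1 this
    rw [h3, hp] at hm
    apply hm
    rw [Scheme.basicOpen_one]
    exact hxU
  obtain ⟨a, ha, hna⟩ := key
  have haI : a ∈ I := by rw [← hS]; exact Ideal.subset_span ha
  have h4 : ψ a ∈ Ideal.span {c} := by rw [← e]; exact Ideal.mem_map_of_mem _ haI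
  obtain ⟨w, hw⟩ := Ideal.mem_span_singleton'.1 h4
  have hwp : w ∉ p := by
    intro hwp
    apply hna
    rw [← hw, mul_comm w c]
    exact Ideal.mul_mem_mul (Ideal.subset_span rfl) hwp
  rw [hp, not_not] at hwp
  refine ⟨a, ha, ?_⟩
  have hg := good_of_unit_mul ((Curv2.idealSheaf A I).comap b) (gmap b a) U.2 c w hc hIc hw.symm
  exact le_goodOpen _ _ _ hg hwp

end spec

section main
variable (A : Type u) [CommRing A] (I : Ideal A)

theorem main_of_span (S : Set A) (hS : Ideal.span S = I) {X' : Scheme.{u}}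
    (b : X' ⟶ Spec (CommRingCat.of A))
    (hb : BlowUp.IsBlowUp b (Curv2.idealSheaf A I)) (x' : X') :
    ∃ (a : A) (_ : a ∈ S) (V : X'.Opens)
      (e : (V : Scheme.{u}) ≅ Spec (CommRingCat.of ↥(BlowUp.affineAlgebra A I a))),
      x' ∈ V ∧ e.hom ≫ Spec.map (CommRingCat.ofHom
        (algebraMap A ↥(BlowUp.affineAlgebra A I a))) = V.ι ≫ b := by
  obtain ⟨a, haS, hx'⟩ := exists_good_nbhd_of_span I S hS b hb.1 x'
  have ha : a ∈ I := by rw [← hS]; exact Ideal.subset_span haS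
  set 𝓘 := Curv2.idealSheaf A I with h𝓘
  set J := 𝓘.comap b with hJ
  set V := goodOpen J (gmap b a) with hV
  let T : Scheme.{u} := Spec (CommRingCat.of ↥(BlowUp.affineAlgebra A I a))
  let π : T ⟶ Spec (CommRingCat.of A) :=
    Spec.map (CommRingCat.ofHom (algebraMap A ↥(BlowUp.affineAlgebra A I a)))
  have UP : ∀ (C : Type u) [CommRing C] (ψ : A →+* C), ψ a ∈ C⁰ → (∀ x ∈ I, ψ a ∣ ψ x) →
      ∃! χ : ↥(BlowUp.affineAlgebra A I a) →+* C,
        χ.comp (algebraMap A ↥(BlowUp.affineAlgebra A I a)) = ψ :=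
    fun C _ ψ h1 h2 => affineAlgebra_existsUnique_lift A I a ψ h1 h2
  have hypV : ∀ y : V.toScheme, ∃ (U : V.toScheme.Opens) (hU : IsAffineOpen U), y ∈ U ∧
      Good (𝓘.comap (V.ι ≫ b)) (gmap (V.ι ≫ b) a) U hU := by
    intro y
    obtain ⟨U, hU, hyU, hg⟩ := (mem_goodOpen J (gmap b a)).1 y.2
    have hUV : U ≤ V := le_goodOpen _ _ hU hg
    have hUV' : U ≤ V.ι.opensRange := by rw [Scheme.Opens.opensRange_ι]; exact hUV
    have haff : IsAffineOpen (V.ι ⁻¹ᵁ U) := hU.preimage_of_isOpenImmersion V.ι hUV'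
    refine ⟨V.ι ⁻¹ᵁ U, haff, hyU,
      good_comap_of_bijective I V.ι b a U hU (V.ι ⁻¹ᵁ U) haff le_rfl ?_ hg⟩
    rw [Scheme.Hom.appLE_eq_app]
    have : IsIso (V.ι.app U) := Scheme.Hom.isIso_app V.ι U hUV'
    exact ConcreteCategory.bijective_of_isIso (V.ι.app U)
  obtain ⟨h, hh, -⟩ := existsUnique_lift_of_UP I a UP (V.ι ≫ b) hypV
  have hypT : ∀ z : T, ∃ (W : T.Opens) (hW : IsAffineOpen W), z ∈ W ∧
      Good (𝓘.comap π) (gmap π a) W hW := fun z =>
    ⟨⊤, isAffineOpen_top _, trivial, good_top_SpecMap A I a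
      (a_mem_nonZeroDivisors A I a) (affineAlgebra_map_eq_span A I a ha)⟩
  have hT : BlowUp.IsEffCartierIdeal (𝓘.comap π) := isEffCartier_of_good _ _ hypT
  obtain ⟨κ, hκ, -⟩ := hb.2 T π hT
  have hκV : ∀ z : T, κ z ∈ V := by
    intro z
    obtain ⟨U, hyU, c, hc, hIc⟩ := hb.1 (κ z)
    have e : Ideal.map ((res U.1).comp (gmap b)) I = Ideal.span {c} := by
      rw [← ideal_comap_eq I b U.1 U.2]; exact hIc
    have h4 : ((res U.1).comp (gmap b)) a ∈ Ideal.span {c} := by
      rw [← e]; exact Ideal.mem_map_of_mem _ ha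
    obtain ⟨w, hw⟩ := Ideal.mem_span_singleton'.1 h4
    have hg := good_of_unit_mul J (gmap b a) U.2 c w hc hIc hw.symm
    refine le_goodOpen _ _ _ hg ?_
    obtain ⟨W, hW, hzW, hWU, hgW⟩ :=
      exists_good_le (𝓘.comap π) (gmap π a) hypT z (κ ⁻¹ᵁ U.1) hyU
    set κW := (κ.appLE U.1 W hWU).hom with hκW
    have ht : res W (gmap π a) = κW w * κW c := by
      rw [← map_mul, hw]
      have : gmap π = gmap (κ ≫ b) := by rw [hκ]
      rw [this, gmap_comp, RingHom.comp_apply, res_appTop κ U.1 W hWU]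
      rfl
    have hid : (𝓘.comap π).ideal ⟨W, hW⟩ = Ideal.span {κW c} := by
      rw [← hκ, Scheme.IdealSheafData.comap_comp, ideal_comap_eq_map κ _ hW U.2 hWU, hIc,
        Ideal.map_span, Set.image_singleton]
    obtain ⟨hnz, hsp⟩ := hgW
    rw [ht] at hnz hsp
    have hc' : κW c ∈ Ideal.span {κW w * κW c} := by
      rw [← hsp, hid]; exact Ideal.subset_span rfl
    obtain ⟨v, hv⟩ := Ideal.mem_span_singleton'.1 hc'
    have hcnz : κW c ∈ Γ(T, W)⁰ := by
      rw [mem_nonZeroDivisors_iff_right]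
      intro x hx
      apply (mem_nonZeroDivisors_iff_right.1 hnz) x
      rw [mul_comm (κW w), ← mul_assoc, hx, zero_mul]
    have huv : v * κW w = 1 := by
      apply (mul_cancel_right_mem_nonZeroDivisors hcnz).1
      rw [one_mul, mul_assoc]
      exact hv
    have hunit : IsUnit (κW w) := IsUnit.of_mul_eq_one _ (by rw [mul_comm]; exact huv)
    have hbo := Scheme.basicOpen_appLE κ W U.1 hWU w
    rw [Scheme.basicOpen_of_isUnit _ hunit] at hbo
    have hz : z ∈ W ⊓ κ ⁻¹ᵁ (X'.basicOpen w) := hbo ▸ hzW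
    exact hz.2
  have hrange : Set.range κ ⊆ Set.range V.ι := by
    rintro _ ⟨z, rfl⟩
    rw [Scheme.Opens.range_ι]
    exact hκV z
  let κ' : T ⟶ V := IsOpenImmersion.lift V.ι κ hrange
  have hκ' : κ' ≫ V.ι = κ := IsOpenImmersion.lift_fac _ _ _
  have h1 : h ≫ κ' = 𝟙 _ := by
    rw [← cancel_mono V.ι, Category.assoc, hκ', Category.id_comp]
    have hVeff : BlowUp.IsEffCartierIdeal (𝓘.comap (V.ι ≫ b)) := isEffCartier_of_good _ _ hypV
    obtain ⟨k₀, -, hk₀⟩ := hb.2 V (V.ι ≫ b) hVeff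
    rw [hk₀ (h ≫ κ) (by dsimp only; rw [Category.assoc, hκ, hh]), hk₀ V.ι rfl]
  have h2 : κ' ≫ h = 𝟙 _ := by
    obtain ⟨k₁, -, hk₁⟩ := existsUnique_lift_of_UP I a UP π hypT
    rw [hk₁ (κ' ≫ h) (by dsimp only; rw [Category.assoc, hh, ← Category.assoc, hκ', hκ]),
      hk₁ (𝟙 _) (Category.id_comp _)]
  exact ⟨a, haS, V, ⟨h, κ', h1, h2⟩, hx', hh⟩

end main

end Groth.Agent.Lib.H9RegBlowC

namespace Groth.Agent.Lib.H9RegBlowC

open AlgebraicGeometry CategoryTheory

/-- regularity of stalks can be checked on an affine chart. -/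
theorem isRegularLocalRing_stalk_of_chart {X : Scheme.{u}} (V : X.Opens) {B : Type u} [CommRing B]
    (e : (V : Scheme.{u}) ≅ Spec (CommRingCat.of B))
    (hB : ∀ (q : Ideal B) [q.IsPrime], IsRegularLocalRing (Localization.AtPrime q))
    (x' : X) (hx' : x' ∈ V) : IsRegularLocalRing (X.presheaf.stalk x') := by
  let v : V := ⟨x', hx'⟩
  have h1 : IsRegularLocalRing ((Spec (CommRingCat.of B)).presheaf.stalk (e.hom v)) := by
    have e' := IsLocalization.algEquiv (e.hom v).asIdeal.primeCompl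
      ((Spec.structureSheaf B).presheaf.stalk (e.hom v)) (Localization.AtPrime (e.hom v).asIdeal)
    haveI := hB (e.hom v).asIdeal
    exact IsRegularLocalRing.of_ringEquiv
      (R' := (Spec.structureSheaf B).presheaf.stalk (e.hom v)) e'.symm.toRingEquiv
  have h2 : IsRegularLocalRing ((V : Scheme.{u}).presheaf.stalk v) :=
    IsRegularLocalRing.of_ringEquiv (asIso (e.hom.stalkMap v)).commRingCatIsoToRingEquiv
  have h3 : IsRegularLocalRing (X.presheaf.stalk (V.ι v)) :=
    IsRegularLocalRing.of_ringEquiv (asIso (V.ι.stalkMap v)).symm.commRingCatIsoToRingEquiv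
  exact h3

end Groth.Agent.Lib.H9RegBlowC
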