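import Mathlib
import Groth.Agent.Lib.Helper28Catenary
import Groth.Agent.Lib.Helper28Normal
import Groth.Agent.Lib.Helper5RLR

set_option autoImplicit false
universe u

namespace Groth.Agent.Lib.H9RegBlowA

open IsLocalRing

/-- a regular local ring of dimension two is a regular ring. -/
theorem isRegularLocalRing_atPrime_of_dim_two (A : Type u) [CommRing A] [IsRegularLocalRing A]
    (hA : ringKrullDim A = 2) (p : Ideal A) [p.IsPrime] :
    IsRegularLocalRing (Localization.AtPrime p) := by
  haveI : IsDomain A := Groth.Agent.Lib.Helper5.isDomain_of_isRegularLocalRing A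
  by_cases hp : p = maximalIdeal A
  · subst hp
    let e : A ≃ₐ[A] Localization.AtPrime (maximalIdeal A) :=
      IsLocalization.atUnits A (maximalIdeal A).primeCompl (fun x ↦ by simpa using! fun a ↦ a)
    exact IsRegularLocalRing.of_ringEquiv e.toRingEquiv
  · have hlt : p < maximalIdeal A :=
      lt_of_le_of_ne (IsLocalRing.le_maximalIdeal Ideal.IsPrime.ne_top') hp
    have hh : p.height < (maximalIdeal A).height :=
      Ideal.height_strict_mono_of_isPrime_of_isPrime hlt
    have h2 : (maximalIdeal A).height = 2 := by
      have h3 : ((maximalIdeal A).height : WithBot ℕ∞) = ((2 : ℕ∞) : WithBot ℕ∞) := by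
        rw [IsLocalRing.maximalIdeal_height_eq_ringKrullDim, hA]; rfl
      exact WithBot.coe_injective h3
    have h1 : p.height ≤ 1 := by
      rw [h2] at hh
      have : (2 : ℕ∞) = 1 + 1 := by norm_num
      rw [this] at hh
      exact (ENat.lt_add_one_iff (by simp)).mp hh
    have hdim : ringKrullDim (Localization.AtPrime p) ≤ 1 := by
      rw [IsLocalization.AtPrime.ringKrullDim_eq_height p]
      exact_mod_cast h1
    have : IsIntegrallyClosed A :=
      Groth.Agent.Lib.Helper28.isIntegrallyClosed_of_isRegularLocalRing A
    have : IsIntegrallyClosed (Localization.AtPrime p) :=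
      isIntegrallyClosed_of_isLocalization _ p.primeCompl p.primeCompl_le_nonZeroDivisors
    exact Groth.Agent.Lib.Helper28.isRegularLocalRing_of_isIntegrallyClosed_of_dim_le_one hdim

end Groth.Agent.Lib.H9RegBlowA
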