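import Mathlib
import Groth.Prelude
import Groth.Agent.Lib.H9RegBlowA
import Groth.Agent.Lib.H9RegBlowB
import Groth.Agent.Lib.H9RegBlowC
import Groth.Agent.Lib.H9Blow2Geo
import Groth.Agent.Lib.H9BlowUniB

set_option autoImplicit false
set_option linter.style.haveILetI false
universe u

namespace Groth.Agent.Lib.H9RegBlowD

open AlgebraicGeometry CategoryTheory IsLocalRing
open Groth.Agent.Lib.Helper5.OrdVal

theorem grDomain_and_exactOrd (A : Type u) [CommRing A] [IsRegularLocalRing A]
    (hA : ringKrullDim A = 2) (x y : A) (hxy : Ideal.span {x, y} = maximalIdeal A) :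
    GrDomain A ∧ ExactOrd x 1 := by
  have hd : ringKrullDim A = ((1 + 1 : ℕ) : WithBot ℕ∞) := by rw [hA]; rfl
  obtain ⟨p, hp⟩ : ∃ p : Fin (1 + 1) → A, p = ![x, y] := ⟨_, rfl⟩
  have hpm : Ideal.span (Set.range p) = maximalIdeal A := by
    rw [hp, Matrix.range_cons_cons_empty]; exact hxy
  have hreg := Groth.Agent.Lib.Helper5.isRegular_ofFn_of_span_eq_maximalIdeal hd p hpm
  have hqr := Groth.Agent.S5802.Aux.QR.main A (1 + 1) p hreg.toIsWeaklyRegular
  have hgr := grDomain_of_isQuasiRegular p hpm hqr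
  have hu := exactOrd_zero_of_isQuasiRegular p hpm hqr
  refine ⟨hgr, ?_⟩
  have : p 0 = x := by rw [hp]; rfl
  rwa [this] at hu

theorem main1622 (A : Type u) [CommRing A] [IsRegularLocalRing A] (hA : ringKrullDim A = 2)
    (X : Scheme.{u}) (b : X ⟶ Spec (CommRingCat.of A))
    (hb : BlowUp.IsBlowUp b (Curv2.idealSheaf A (IsLocalRing.maximalIdeal A))) :
    IrreducibleSpace X ∧ ∀ x : X, IsRegularLocalRing (X.presheaf.stalk x) := by
  haveI : IsDomain A := Groth.Agent.Lib.Helper5.isDomain_of_isRegularLocalRing A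
  have hd : ringKrullDim A = ((2 : ℕ) : WithBot ℕ∞) := by rw [hA]; rfl
  obtain ⟨z, hz⟩ := Groth.Agent.Lib.Helper5.HilbertRLR.exists_regular_system hd
  obtain ⟨x, hx⟩ : ∃ x : A, x = (z 0 : A) := ⟨_, rfl⟩
  obtain ⟨y, hy⟩ : ∃ y : A, y = (z 1 : A) := ⟨_, rfl⟩
  have hxy : Ideal.span {x, y} = maximalIdeal A := by
    rw [← hz, hx, hy]
    congr 1
    ext t
    simp only [Set.mem_insert_iff, Set.mem_singleton_iff, Set.mem_range]
    constructor
    · rintro (rfl | rfl)
      · exact ⟨0, rfl⟩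
      · exact ⟨1, rfl⟩
    · rintro ⟨i, rfl⟩
      fin_cases i
      · exact Or.inl rfl
      · exact Or.inr rfl
  have hyx : Ideal.span {y, x} = maximalIdeal A := by rw [Set.pair_comm]; exact hxy
  obtain ⟨hgr, hxo⟩ := grDomain_and_exactOrd A hA x y hxy
  obtain ⟨-, hyo⟩ := grDomain_and_exactOrd A hA y x hyx
  have hm : maximalIdeal A ≠ ⊥ := by
    intro h
    have := hxo.ne_zero
    apply this
    have hxm : x ∈ maximalIdeal A := by have := hxo.1; rwa [pow_one] at this
    rw [h] at hxm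
    exact hxm
  have hreg : ∀ (p : Ideal A) [p.IsPrime], IsRegularLocalRing (Localization.AtPrime p) :=
    fun p _ => Groth.Agent.Lib.H9RegBlowA.isRegularLocalRing_atPrime_of_dim_two A hA p
  constructor
  · haveI := Groth.Agent.Lib.H9BlowUniB.isIntegral b hb hm
    infer_instance
  · intro x'
    obtain ⟨a, haS, V, e, hx'V, -⟩ :=
      Groth.Agent.Lib.H9RegBlowC.main_of_span A (maximalIdeal A) {x, y} hxy b hb x'
    rcases haS with rfl | haS
    · exact Groth.Agent.Lib.H9RegBlowC.isRegularLocalRing_stalk_of_chart V e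
        (fun q _ => Groth.Agent.Lib.H9RegBlowB.isRegularLocalRing_atPrime_chart a y hreg hgr hxo
          hxy q) x' hx'V
    · have haS' : a = y := haS
      subst haS'
      exact Groth.Agent.Lib.H9RegBlowC.isRegularLocalRing_stalk_of_chart V e
        (fun q _ => Groth.Agent.Lib.H9RegBlowB.isRegularLocalRing_atPrime_chart a x hreg hgr hyo
          hyx q) x' hx'V

end Groth.Agent.Lib.H9RegBlowD
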