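import Mathlib
import Groth.Prelude
import Groth.Agent.Lib.H9RegBlowC
import Groth.Agent.Lib.H9RegBlowD
import Groth.Agent.Lib.H9BlowProper
import Groth.Agent.Lib.Helper23AffOpen3

set_option autoImplicit false
universe u
open nonZeroDivisors CategoryTheory AlgebraicGeometry TopologicalSpace Opposite
open Groth.Agent.Lib.H9AffBlow Groth.Agent.Lib.H9AffBlow2
open Groth.Agent.Lib.Helper20.EffCartier

/-! helper9: the chart `goodOpen (a)` of a blow-up of `Spec A` in `I` is `Spec A[I/a]` for every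
`a ∈ I` (proof copied from `H9RegBlowC.main_of_span`), and cohomological dimension of the blow-up
of a two-dimensional regular local ring. -/

namespace Groth.Agent.Lib.H9RegBlowE

section chart
variable (A : Type u) [CommRing A] (I : Ideal A)

theorem chart_iso (a : A) (ha : a ∈ I) {X' : Scheme.{u}}
    (b : X' ⟶ Spec (CommRingCat.of A))
    (hb : BlowUp.IsBlowUp b (Curv2.idealSheaf A I)) :
    ∃ (e : ((goodOpen ((Curv2.idealSheaf A I).comap b) (gmap b a) : X'.Opens) : Scheme.{u}) ≅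
        Spec (CommRingCat.of ↥(BlowUp.affineAlgebra A I a))),
      e.hom ≫ Spec.map (CommRingCat.ofHom
        (algebraMap A ↥(BlowUp.affineAlgebra A I a))) =
        (goodOpen ((Curv2.idealSheaf A I).comap b) (gmap b a)).ι ≫ b := by
  set 𝓘 := Curv2.idealSheaf A I with h𝓘
  set J := 𝓘.comap b with hJ
  set V := goodOpen J (gmap b a) with hV
  let T : Scheme.{u} := Spec (CommRingCat.of ↥(BlowUp.affineAlgebra A I a))
  let π : T ⟶ Spec (CommRingCat.of A) :=
    Spec.map (CommRingCat.ofHom (algebraMap A ↥(BlowUp.affineAlgebra A I a)))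
  have UP : ∀ (C : Type u) [CommRing C] (ψ : A →+* C), ψ a ∈ C⁰ → (∀ x ∈ I, ψ a ∣ ψ x) →
      ∃! χ : ↥(BlowUp.affineAlgebra A I a) →+* C,
        χ.comp (algebraMap A ↥(BlowUp.affineAlgebra A I a)) = ψ :=
    fun C _ ψ h1 h2 => affineAlgebra_existsUnique_lift A I a ψ h1 h2
  have hypV : ∀ y : V.toScheme, ∃ (U : V.toScheme.Opens) (hU : IsAffineOpen U), y ∈ U ∧
      Good (𝓘.comap (V.ι ≫ b)) (gmap (V.ι ≫ b) a) U hU := by
    intro y
    obtain ⟨U, hU, hyU, hg⟩ := (mem_goodOpen J (gmap b a)).1 y.2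
    have hUV : U ≤ V := le_goodOpen _ _ hU hg
    have hUV' : U ≤ V.ι.opensRange := by rw [Scheme.Opens.opensRange_ι]; exact hUV
    have haff : IsAffineOpen (V.ι ⁻¹ᵁ U) := hU.preimage_of_isOpenImmersion V.ι hUV'
    refine ⟨V.ι ⁻¹ᵁ U, haff, hyU,
      good_comap_of_bijective I V.ι b a U hU (V.ι ⁻¹ᵁ U) haff le_rfl ?_ hg⟩
    rw [Scheme.Hom.appLE_eq_app]
    have : IsIso (V.ι.app U) := Scheme.Hom.isIso_app V.ι U hUV'
    exact ConcreteCategory.bijective_of_isIso (V.ι.app U)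
  obtain ⟨h, hh, -⟩ := existsUnique_lift_of_UP I a UP (V.ι ≫ b) hypV
  have hypT : ∀ z : T, ∃ (W : T.Opens) (hW : IsAffineOpen W), z ∈ W ∧
      Good (𝓘.comap π) (gmap π a) W hW := fun z =>
    ⟨⊤, isAffineOpen_top _, trivial, good_top_SpecMap A I a
      (a_mem_nonZeroDivisors A I a) (affineAlgebra_map_eq_span A I a ha)⟩
  have hT : BlowUp.IsEffCartierIdeal (𝓘.comap π) := isEffCartier_of_good _ _ hypT
  obtain ⟨κ, hκ, -⟩ := hb.2 T π hT
  have hκV : ∀ z : T, κ z ∈ V := by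
    intro z
    obtain ⟨U, hyU, c, hc, hIc⟩ := hb.1 (κ z)
    have e : Ideal.map ((res U.1).comp (gmap b)) I = Ideal.span {c} := by
      rw [← ideal_comap_eq I b U.1 U.2]; exact hIc
    have h4 : ((res U.1).comp (gmap b)) a ∈ Ideal.span {c} := by
      rw [← e]; exact Ideal.mem_map_of_mem _ ha
    obtain ⟨w, hw⟩ := Ideal.mem_span_singleton'.1 h4
    have hg := good_of_unit_mul J (gmap b a) U.2 c w hc hIc hw.symm
    refine le_goodOpen _ _ _ hg ?_
    obtain ⟨W, hW, hzW, hWU, hgW⟩ :=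
      exists_good_le (𝓘.comap π) (gmap π a) hypT z (κ ⁻¹ᵁ U.1) hyU
    set κW := (κ.appLE U.1 W hWU).hom with hκW
    have ht : res W (gmap π a) = κW w * κW c := by
      rw [← map_mul, hw]
      have : gmap π = gmap (κ ≫ b) := by rw [hκ]
      rw [this, gmap_comp, RingHom.comp_apply, res_appTop κ U.1 W hWU]
      rfl
    have hid : (𝓘.comap π).ideal ⟨W, hW⟩ = Ideal.span {κW c} := by
      rw [← hκ, Scheme.IdealSheafData.comap_comp, ideal_comap_eq_map κ _ hW U.2 hWU, hIc,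
        Ideal.map_span, Set.image_singleton]
    obtain ⟨hnz, hsp⟩ := hgW
    rw [ht] at hnz hsp
    have hc' : κW c ∈ Ideal.span {κW w * κW c} := by
      rw [← hsp, hid]; exact Ideal.subset_span rfl
    obtain ⟨v, hv⟩ := Ideal.mem_span_singleton'.1 hc'
    have hcnz : κW c ∈ Γ(T, W)⁰ := by
      rw [mem_nonZeroDivisors_iff_right]
      intro x hx
      apply (mem_nonZeroDivisors_iff_right.1 hnz) x
      rw [mul_comm (κW w), ← mul_assoc, hx, zero_mul]
    have huv : v * κW w = 1 := by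
      apply (mul_cancel_right_mem_nonZeroDivisors hcnz).1
      rw [one_mul, mul_assoc]
      exact hv
    have hunit : IsUnit (κW w) := IsUnit.of_mul_eq_one _ (by rw [mul_comm]; exact huv)
    have hbo := Scheme.basicOpen_appLE κ W U.1 hWU w
    rw [Scheme.basicOpen_of_isUnit _ hunit] at hbo
    have hz : z ∈ W ⊓ κ ⁻¹ᵁ (X'.basicOpen w) := hbo ▸ hzW
    exact hz.2
  have hrange : Set.range κ ⊆ Set.range V.ι := by
    rintro _ ⟨z, rfl⟩
    rw [Scheme.Opens.range_ι]
    exact hκV z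
  let κ' : T ⟶ V := IsOpenImmersion.lift V.ι κ hrange
  have hκ' : κ' ≫ V.ι = κ := IsOpenImmersion.lift_fac _ _ _
  have h1 : h ≫ κ' = 𝟙 _ := by
    rw [← cancel_mono V.ι, Category.assoc, hκ', Category.id_comp]
    have hVeff : BlowUp.IsEffCartierIdeal (𝓘.comap (V.ι ≫ b)) := isEffCartier_of_good _ _ hypV
    obtain ⟨k₀, -, hk₀⟩ := hb.2 V (V.ι ≫ b) hVeff
    rw [hk₀ (h ≫ κ) (by dsimp only; rw [Category.assoc, hκ, hh]), hk₀ V.ι rfl]
  have h2 : κ' ≫ h = 𝟙 _ := by
    obtain ⟨k₁, -, hk₁⟩ := existsUnique_lift_of_UP I a UP π hypT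
    rw [hk₁ (κ' ≫ h) (by dsimp only; rw [Category.assoc, hh, ← Category.assoc, hκ', hκ]),
      hk₁ (𝟙 _) (Category.id_comp _)]
  exact ⟨⟨h, κ', h1, h2⟩, hh⟩

theorem isAffineOpen_goodOpen (a : A) (ha : a ∈ I) {X' : Scheme.{u}}
    (b : X' ⟶ Spec (CommRingCat.of A))
    (hb : BlowUp.IsBlowUp b (Curv2.idealSheaf A I)) :
    IsAffineOpen (goodOpen ((Curv2.idealSheaf A I).comap b) (gmap b a)) := by
  obtain ⟨e, -⟩ := chart_iso A I a ha b hb
  exact IsAffine.of_isIso e.hom

end chart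

section main
open IsLocalRing CategoryTheory.Limits

theorem main1623 (A : Type u) [CommRing A] [IsRegularLocalRing A] (hA : ringKrullDim A = 2)
    (X : Scheme.{u}) (b : X ⟶ Spec (CommRingCat.of A))
    (hb : BlowUp.IsBlowUp b (Curv2.idealSheaf A (IsLocalRing.maximalIdeal A)))
    (F : X.Modules) (hF : Coh.IsQCoh F) (p : ℕ) (hp : 2 ≤ p) : Subsingleton (Coh.HH X F p) := by
  have hd2 : ringKrullDim A = ((2 : ℕ) : WithBot ℕ∞) := by rw [hA]; rfl
  obtain ⟨z, hz⟩ := Groth.Agent.Lib.Helper5.HilbertRLR.exists_regular_system hd2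
  obtain ⟨x, hx⟩ : ∃ x : A, x = (z 0 : A) := ⟨_, rfl⟩
  obtain ⟨y, hy⟩ : ∃ y : A, y = (z 1 : A) := ⟨_, rfl⟩
  have hxy : Ideal.span {x, y} = maximalIdeal A := by
    rw [← hz, hx, hy]
    congr 1
    ext t
    simp only [Set.mem_insert_iff, Set.mem_singleton_iff, Set.mem_range]
    constructor
    · rintro (rfl | rfl)
      · exact ⟨0, rfl⟩
      · exact ⟨1, rfl⟩
    · rintro ⟨i, rfl⟩
      fin_cases i
      · exact Or.inl rfl
      · exact Or.inr rfl
  have hxm : x ∈ maximalIdeal A := by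
    rw [← hxy]; exact Ideal.subset_span (Set.mem_insert _ _)
  have hym : y ∈ maximalIdeal A := by
    rw [← hxy]; exact Ideal.subset_span (Set.mem_insert_of_mem _ rfl)
  set J := (Curv2.idealSheaf A (maximalIdeal A)).comap b with hJ
  let U : Fin 2 → X.Opens := ![goodOpen J (gmap b x), goodOpen J (gmap b y)]
  have hU : ∀ i, IsAffineOpen (U i) := by
    intro i
    fin_cases i
    · exact isAffineOpen_goodOpen A (maximalIdeal A) x hxm b hb
    · exact isAffineOpen_goodOpen A (maximalIdeal A) y hym b hb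
  have hcov : ⨆ i, U i = ⊤ := by
    rw [eq_top_iff]
    intro x' _
    obtain ⟨a, ha, hx'⟩ := Groth.Agent.Lib.H9RegBlowC.exists_good_nbhd_of_span
      (maximalIdeal A) {x, y} hxy b hb.1 x'
    rcases ha with rfl | rfl
    · exact Opens.mem_iSup.mpr ⟨0, hx'⟩
    · exact Opens.mem_iSup.mpr ⟨1, hx'⟩
  have hft : BlowUp.IsFiniteTypeIdeal (Curv2.idealSheaf A (maximalIdeal A)) := by
    intro V
    haveI : IsNoetherianRing Γ(Spec (CommRingCat.of A), V.1) :=
      IsLocallyNoetherian.component_noetherian V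
    exact IsNoetherian.noetherian _
  haveI : IsProper b := Groth.Agent.Lib.H9BlowProper.isProper_of_isBlowUp b _ hft hb
  have hd : ∀ V W : X.Opens, IsAffineOpen V → IsAffineOpen W → IsAffineOpen (V ⊓ W) := by
    intro V W hV hW
    have h : IsAffineHom (pullback.diagonal b) := inferInstance
    exact isAffineHom_diagonal_iff.mp h ⊤ (isAffineOpen_top _) V le_top W le_top hV hW
  haveI : F.IsQuasicoherent := hF
  exact Groth.Agent.Lib.Helper23.AffVanish.subsingleton_HH_of_cover 2 U hU hcov hd F p hp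

end main

end Groth.Agent.Lib.H9RegBlowE
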