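import Mathlib
import Groth.Prelude
import Groth.Agent.Lib.H9BlowFlat
import Groth.Agent.Lib.Helper22IdealComap
import Groth.Agent.Lib.Helper28RatliffC

set_option autoImplicit false
universe u

namespace Groth.Agent.Lib.H9DvrDesc

open AlgebraicGeometry CategoryTheory CategoryTheory.Limits TopologicalSpace

section ring

/-- If `B'` is generated by the images of `B` and `R'`, elements of `R'` can be approximated by
elements of `R` modulo `𝔞 R'`, and `J ⊇ 𝔞 B'`, then `J` is extended from its contraction to `B`. -/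
theorem map_comap_eq_of_closure {R R' B B' : Type*} [CommRing R] [CommRing R'] [CommRing B]
    [CommRing B'] (c : R →+* B) (ι : R →+* R') (φ : B →+* B') (ψ : R' →+* B')
    (hcomm : φ.comp c = ψ.comp ι)
    (hgen : Subring.closure (Set.range φ ∪ Set.range ψ) = ⊤)
    (𝔞 : Ideal R) (happrox : ∀ x : R', ∃ a : R, x - ι a ∈ 𝔞.map ι)
    (J : Ideal B') (hJ : 𝔞.map (φ.comp c) ≤ J) :
    (J.comap φ).map φ = J := by
  set K : Ideal B' := 𝔞.map (φ.comp c) with hK
  let T : Subring B' :=
    { carrier := {x | ∃ b : B, x - φ b ∈ K}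
      mul_mem' := by
        rintro x y ⟨b, hb⟩ ⟨b', hb'⟩
        refine ⟨b * b', ?_⟩
        have : x * y - φ (b * b') = (x - φ b) * y + φ b * (y - φ b') := by rw [map_mul]; ring
        rw [this]
        exact K.add_mem (K.mul_mem_right _ hb) (K.mul_mem_left _ hb')
      one_mem' := ⟨1, by simp⟩
      add_mem' := by
        rintro x y ⟨b, hb⟩ ⟨b', hb'⟩
        refine ⟨b + b', ?_⟩
        have : x + y - φ (b + b') = (x - φ b) + (y - φ b') := by rw [map_add]; ring
        rw [this]; exact K.add_mem hb hb'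
      zero_mem' := ⟨0, by simp⟩
      neg_mem' := by
        rintro x ⟨b, hb⟩
        refine ⟨-b, ?_⟩
        have : -x - φ (-b) = -(x - φ b) := by rw [map_neg]; ring
        rw [this]; exact K.neg_mem hb }
  have hT : T = ⊤ := by
    rw [eq_top_iff, ← hgen, Subring.closure_le]
    rintro x (⟨b, rfl⟩ | ⟨r, rfl⟩)
    · exact ⟨b, by simp⟩
    · obtain ⟨a, ha⟩ := happrox r
      refine ⟨c a, ?_⟩
      have h0 : φ (c a) = ψ (ι a) := congrFun (congrArg DFunLike.coe hcomm) a
      have h1 : ψ r - φ (c a) = ψ (r - ι a) := by rw [map_sub, h0]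
      rw [h1]
      have h2 : (𝔞.map ι).map ψ ≤ K := by rw [Ideal.map_map, ← hcomm]
      exact h2 (Ideal.mem_map_of_mem ψ ha)
  refine le_antisymm Ideal.map_comap_le ?_
  intro j hj
  have hjT : j ∈ T := by rw [hT]; trivial
  obtain ⟨b, hb⟩ := hjT
  have hKJ : K ≤ (J.comap φ).map φ := by
    rw [hK, ← Ideal.map_map]
    apply Ideal.map_mono
    rw [Ideal.map_le_iff_le_comap, Ideal.comap_comap, ← Ideal.map_le_iff_le_comap]
    exact hJ
  have hbJ : φ b ∈ J := by
    have : φ b = j - (j - φ b) := by ring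
    rw [this]; exact J.sub_mem hj (hJ hb)
  have : j = φ b + (j - φ b) := by ring
  rw [this]
  exact Ideal.add_mem _ (Ideal.mem_map_of_mem φ hbJ) (hKJ hb)

end ring

section geom

theorem appTop_topIso {X Y : Scheme.{u}} (f : X ⟶ Y) (U : X.Opens) :
    (U.ι ≫ f).appTop ≫ U.topIso.hom = f.appLE ⊤ U le_top := by
  rw [Scheme.Hom.comp_appTop, Category.assoc, Scheme.Hom.appLE, Scheme.Opens.ι_appTop,
    Scheme.Opens.topIso_hom]
  show f.appTop ≫ (X.presheaf.map _ ≫ X.presheaf.map _) = _
  rw [← Functor.map_comp]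
  rfl

variable {R R' : Type u} [CommRing R] [CommRing R'] (ι : R →+* R')
variable {Y : Scheme.{u}} (q : Y ⟶ Spec (CommRingCat.of R))

/-- the ring-level generation statement on `π⁻¹ U`. -/
theorem closure_eq_top (c : Spec (CommRingCat.of R') ⟶ Spec (CommRingCat.of R))
    (U : Y.Opens) (hU : IsAffineOpen U) :
    Subring.closure
      (Set.range ((pullback.fst q c).app U).hom ∪
        Set.range (((pullback.snd q c).appLE ⊤ ((pullback.fst q c) ⁻¹ᵁ U) le_top).hom.comp
            (Scheme.ΓSpecIso (CommRingCat.of R')).inv.hom)) = ⊤ := by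
  set π := pullback.fst q c with hπ
  set σ := pullback.snd q c with hσ
  set W := π ⁻¹ᵁ U with hW
  have : IsAffine U.toScheme := hU
  have sq1 : IsPullback (π ∣_ U) W.ι U.ι π := isPullback_morphismRestrict π U
  have sq2 : IsPullback π σ q c := IsPullback.of_hasPullback q c
  have sq : IsPullback (π ∣_ U) (W.ι ≫ σ) (U.ι ≫ q) c := sq1.paste_vert sq2
  have po := isPushout_appTop_of_isPullback sq
  have hcl := CommRingCat.closure_range_union_range_eq_top_of_isPushout po
  rw [eq_top_iff]
  intro x _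
  have hx : (W.topIso.inv.hom x) ∈ (⊤ : Subring _) := trivial
  rw [← hcl] at hx
  have hx2 : W.topIso.hom.hom (W.topIso.inv.hom x) = x := by
    change (W.topIso.inv ≫ W.topIso.hom).hom x = x
    rw [Iso.inv_hom_id]; rfl
  rw [← hx2]
  generalize W.topIso.inv.hom x = y at hx
  induction hx using Subring.closure_induction with
  | mem y hy =>
    apply Subring.subset_closure
    rcases hy with ⟨z, rfl⟩ | ⟨z, rfl⟩
    · left
      refine ⟨U.topIso.hom.hom z, ?_⟩
      have h1 : (π ∣_ U).appTop ≫ W.topIso.hom = U.topIso.hom ≫ π.app U := by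
        have h : (π ∣_ U).appTop = U.topIso.hom ≫ π.appLE U W le_rfl ≫ W.topIso.inv := by
          rw [← Scheme.Hom.resLE_eq_morphismRestrict]
          exact Scheme.Hom.resLE_app_top π le_rfl
        rw [h, Category.assoc, Category.assoc, Iso.inv_hom_id, Category.comp_id,
          Scheme.Hom.app_eq_appLE]
      exact (congrArg (fun f => f.hom z) h1).symm
    · right
      refine ⟨(Scheme.ΓSpecIso (CommRingCat.of R')).hom.hom z, ?_⟩
      have h1 : (W.ι ≫ σ).appTop ≫ W.topIso.hom = σ.appLE ⊤ W le_top := appTop_topIso σ W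
      have h2 : (Scheme.ΓSpecIso (CommRingCat.of R')).inv.hom
          ((Scheme.ΓSpecIso (CommRingCat.of R')).hom.hom z) = z := by
        change ((Scheme.ΓSpecIso (CommRingCat.of R')).hom ≫
          (Scheme.ΓSpecIso (CommRingCat.of R')).inv).hom z = z
        rw [Iso.hom_inv_id]; rfl
      rw [RingHom.comp_apply, h2]
      exact congrArg (fun f => f.hom z) h1.symm
  | zero => rw [map_zero]; exact Subring.zero_mem _
  | one => rw [map_one]; exact Subring.one_mem _
  | add a b _ _ ha hb => rw [map_add]; exact Subring.add_mem _ ha hb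
  | neg a _ ha => rw [map_neg]; exact Subring.neg_mem _ ha
  | mul a b _ _ ha hb => rw [map_mul]; exact Subring.mul_mem _ ha hb

theorem comap_map_eq (c : Spec (CommRingCat.of R') ⟶ Spec (CommRingCat.of R))
    (hc : c = Spec.map (CommRingCat.ofHom ι)) (𝔞 : Ideal R) (h𝔞 : 𝔞.FG)
    (happrox : ∀ (n : ℕ) (x : R'), ∃ a : R, x - ι a ∈ (𝔞 ^ n).map ι)
    (I : (pullback q c).IdealSheafData)
    (hI : ∀ x ∈ I.support, 𝔞 ≤ ((pullback.fst q c ≫ q) x).asIdeal) :
    (I.map (pullback.fst q c)).comap (pullback.fst q c) = I := by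
  haveI : IsAffineHom c := by rw [hc]; infer_instance
  set π := pullback.fst q c with hπ
  set σ := pullback.snd q c with hσ
  haveI : IsAffineHom π := MorphismProperty.pullback_fst _ _ inferInstance
  refine le_antisymm (Scheme.IdealSheafData.comap_map_le I π) ?_
  refine Scheme.IdealSheafData.le_of_iSup_eq_top
    (fun U : Y.affineOpens => (⟨π ⁻¹ᵁ U.1, U.2.preimage π⟩ : (pullback q c).affineOpens)) ?_ ?_
  · rw [eq_top_iff]
    intro x _
    obtain ⟨_, ⟨U, hU, rfl⟩, hxU, -⟩ := Y.isBasis_affineOpens.exists_subset_of_mem_open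
      (Set.mem_univ (π x)) isOpen_univ
    exact Opens.mem_iSup.mpr ⟨⟨U, hU⟩, hxU⟩
  · intro U
    set W : (pullback q c).Opens := π ⁻¹ᵁ U.1 with hW
    have hWa : IsAffineOpen W := U.2.preimage π
    show I.ideal ⟨W, hWa⟩ ≤ ((I.map π).comap π).ideal ⟨W, hWa⟩
    rw [Groth.Agent.Lib.Helper22.IdealComap.ideal_comap_eq_map π (I.map π) ⟨W, hWa⟩ U le_rfl,
      Scheme.IdealSheafData.ideal_map_of_isAffineHom, ← Scheme.Hom.app_eq_appLE]
    set J := I.ideal ⟨W, hWa⟩ with hJ
    set φ := (π.app U.1).hom with hφ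
    let c₁ : R →+* Γ(Y, U.1) :=
      (q.appLE ⊤ U.1 le_top).hom.comp (Scheme.ΓSpecIso (CommRingCat.of R)).inv.hom
    let ψ : R' →+* Γ(pullback q c, W) :=
      (σ.appLE ⊤ W le_top).hom.comp (Scheme.ΓSpecIso (CommRingCat.of R')).inv.hom
    let κ : R →+* Γ(pullback q c, W) :=
      ((π ≫ q).appLE ⊤ W le_top).hom.comp (Scheme.ΓSpecIso (CommRingCat.of R)).inv.hom
    have hκ : φ.comp c₁ = κ := by
      have h := Scheme.Hom.appLE_comp_appLE π q ⊤ U.1 W le_top le_rfl
      rw [← Scheme.Hom.app_eq_appLE] at h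
      ext r
      exact congrArg (fun f => f.hom ((Scheme.ΓSpecIso (CommRingCat.of R)).inv.hom r)) h
    have hcomm : φ.comp c₁ = ψ.comp ι := by
      rw [hκ]
      have e : π ≫ q = σ ≫ c := pullback.condition
      have h1 : (π ≫ q).appLE ⊤ W le_top = (σ ≫ c).appLE ⊤ W le_top :=
        Groth.Agent.Lib.Helper22.IdealComap.appLE_congr_hom e _ _ _
      have h2 := Scheme.Hom.appLE_comp_appLE σ c ⊤ ⊤ W le_top le_top
      have h3 : (Scheme.ΓSpecIso (CommRingCat.of R)).inv ≫ c.appLE ⊤ ⊤ le_top =
          CommRingCat.ofHom ι ≫ (Scheme.ΓSpecIso (CommRingCat.of R')).inv := by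
        rw [Scheme.ΓSpecIso_inv_naturality, hc]
        congr 1
      have h4 : (Scheme.ΓSpecIso (CommRingCat.of R)).inv ≫ (π ≫ q).appLE ⊤ W le_top =
          CommRingCat.ofHom ι ≫ (Scheme.ΓSpecIso (CommRingCat.of R')).inv ≫
            σ.appLE ⊤ W le_top := by
        rw [h1, ← h2, ← Category.assoc, h3, Category.assoc]
      ext r
      exact congrArg (fun f => f.hom r) h4
    have hrad : 𝔞.map κ ≤ J.radical := by
      rw [Ideal.radical_eq_sInf]
      refine le_sInf ?_
      rintro P ⟨hJP, hP⟩
      rw [Ideal.map_le_iff_le_comap]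
      intro f hf
      rw [Ideal.mem_comap]
      by_contra hfP
      let p : PrimeSpectrum Γ(pullback q c, W) := ⟨P, hP⟩
      let x : ↥(pullback q c) := hWa.fromSpec p
      have hxW : x ∈ W := by
        have h : x ∈ Set.range hWa.fromSpec := ⟨p, rfl⟩
        rw [hWa.range_fromSpec] at h
        exact h
      have hxs : x ∈ I.support := by
        rw [Scheme.IdealSheafData.mem_support_iff_of_mem (U := ⟨W, hWa⟩) hxW,
          Scheme.mem_zeroLocus_iff]
        intro j hj hxj
        have h : p ∈ hWa.fromSpec ⁻¹ᵁ ((pullback q c).basicOpen j) := hxj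
        rw [hWa.fromSpec_preimage_basicOpen] at h
        exact h (hJP hj)
      have h1 := hI x hxs
      have h2 : p ∈ hWa.fromSpec ⁻¹ᵁ ((pullback q c).basicOpen (κ f)) := by
        rw [hWa.fromSpec_preimage_basicOpen]; exact hfP
      have h3 : x ∈ (pullback q c).basicOpen (κ f) := h2
      have h4 : (pullback q c).basicOpen (κ f) = W ⊓ (π ≫ q) ⁻¹ᵁ
          ((Spec (CommRingCat.of R)).basicOpen
            ((Scheme.ΓSpecIso (CommRingCat.of R)).inv.hom f)) :=
        Scheme.basicOpen_appLE (π ≫ q) W ⊤ le_top _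
      rw [h4] at h3
      have h5 := h3.2
      have h6 : (Spec (CommRingCat.of R)).basicOpen
          ((Scheme.ΓSpecIso (CommRingCat.of R)).inv.hom f) = PrimeSpectrum.basicOpen f :=
        basicOpen_eq_of_affine (R := CommRingCat.of R) f
      rw [h6] at h5
      exact h5 (h1 hf)
    obtain ⟨n, hn⟩ := Ideal.exists_pow_le_of_le_radical_of_fg hrad (h𝔞.map κ)
    rw [← Ideal.map_pow] at hn
    have key := map_comap_eq_of_closure c₁ ι φ ψ hcomm (closure_eq_top q c U.1 U.2) (𝔞 ^ n)
      (happrox n) J (by rw [hκ]; exact hn)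
    rw [key]

end geom

section main

open IsLocalRing

theorem main7927 (R : Type u) [CommRing R] [IsDomain R] [IsDiscreteValuationRing R]
    {Y : Scheme.{u}} (q : Y ⟶ Spec (CommRingCat.of R))
    (I : (pullback q (Spec.map (CommRingCat.ofHom (algebraMap R
        (AdicCompletion (IsLocalRing.maximalIdeal R) R))))).IdealSheafData)
    (hI : (I.support : Set ↥(pullback q (Spec.map (CommRingCat.ofHom (algebraMap R
        (AdicCompletion (IsLocalRing.maximalIdeal R) R)))))) ⊆
      (pullback.fst q (Spec.map (CommRingCat.ofHom (algebraMap R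
        (AdicCompletion (IsLocalRing.maximalIdeal R) R)))) ≫ q).base ⁻¹'
          {IsLocalRing.closedPoint R}) :
    ∃ I₀ : Y.IdealSheafData, (I₀.support : Set Y) ⊆ q.base ⁻¹' {IsLocalRing.closedPoint R} ∧
      I₀.comap (pullback.fst q (Spec.map (CommRingCat.ofHom (algebraMap R
        (AdicCompletion (IsLocalRing.maximalIdeal R) R))))) = I ∧
      ∀ (X : Scheme.{u}) (g : X ⟶ Y), BlowUp.IsBlowUp g I₀ →
        BlowUp.IsBlowUp (pullback.snd g (pullback.fst q (Spec.map (CommRingCat.ofHom (algebraMap R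
          (AdicCompletion (IsLocalRing.maximalIdeal R) R)))))) I := by
  have hcm := comap_map_eq (algebraMap R (AdicCompletion (maximalIdeal R) R)) q
    (Spec.map (CommRingCat.ofHom (algebraMap R (AdicCompletion (maximalIdeal R) R)))) rfl
    (maximalIdeal R) (IsNoetherian.noetherian _)
    (fun n x => Groth.Agent.Lib.Helper28.Ratliff.exists_sub_mem_map_pow_adicCompletion
      (maximalIdeal R) n x) I (by
      intro x hx
      have h : (pullback.fst q (Spec.map (CommRingCat.ofHom (algebraMap R
        (AdicCompletion (maximalIdeal R) R)))) ≫ q) x = closedPoint R := hI hx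
      rw [h]
      exact le_rfl)
  haveI : Flat (Spec.map (CommRingCat.ofHom (algebraMap R
      (AdicCompletion (maximalIdeal R) R)))) := by
    rw [Flat.SpecMap_iff]
    show (algebraMap R (AdicCompletion (maximalIdeal R) R)).Flat
    rw [RingHom.flat_algebraMap_iff]
    infer_instance
  haveI : Flat (pullback.fst q (Spec.map (CommRingCat.ofHom (algebraMap R
      (AdicCompletion (maximalIdeal R) R))))) := MorphismProperty.pullback_fst _ _ inferInstance
  haveI : IsAffineHom (pullback.fst q (Spec.map (CommRingCat.ofHom (algebraMap R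
      (AdicCompletion (maximalIdeal R) R))))) := MorphismProperty.pullback_fst _ _ inferInstance
  refine ⟨I.map (pullback.fst q (Spec.map (CommRingCat.ofHom (algebraMap R
      (AdicCompletion (maximalIdeal R) R))))), ?_, hcm, ?_⟩
  · rw [Scheme.IdealSheafData.support_map, TopologicalSpace.Closeds.coe_closure]
    apply closure_minimal
    · rintro _ ⟨x, hx, rfl⟩
      exact hI hx
    · exact (isClosed_singleton_closedPoint R).preimage q.continuous
  · intro X g hg
    have h := Groth.Agent.Lib.H9BlowFlat.isBlowUp_pullback_snd_of_flat g _ hg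
      (pullback.fst q (Spec.map (CommRingCat.ofHom (algebraMap R
        (AdicCompletion (maximalIdeal R) R)))))
    rw [hcm] at h
    exact h

end main

end Groth.Agent.Lib.H9DvrDesc
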