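import Mathlib
import Groth.Prelude
import Groth.Agent.Lib.H9RegBlowE
import Groth.Agent.Lib.H9DvrDesc

set_option autoImplicit false
universe u
open nonZeroDivisors CategoryTheory AlgebraicGeometry TopologicalSpace Opposite
open Groth.Agent.Lib.H9AffBlow Groth.Agent.Lib.H9AffBlow2
open Groth.Agent.Lib.Helper20.EffCartier

/-! helper9: coordinates on the two charts of the blow-up of a two-generated maximal ideal;
`H¹(O)=0` in Čech form (`exists_decomp`). -/

namespace Groth.Agent.Lib.H9RegBlowF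

open Groth.Agent.Lib.H9RegBlowE

section chart
variable (A : Type u) [CommRing A] (I : Ideal A)

theorem exists_chart_ringEquiv (a : A) (ha : a ∈ I) {X' : Scheme.{u}}
    (b : X' ⟶ Spec (CommRingCat.of A)) (hb : BlowUp.IsBlowUp b (Curv2.idealSheaf A I)) :
    ∃ E : ↥(BlowUp.affineAlgebra A I a) ≃+*
        Γ(X', goodOpen ((Curv2.idealSheaf A I).comap b) (gmap b a)),
      ∀ z : A, E (algebraMap A _ z) =
        res (goodOpen ((Curv2.idealSheaf A I).comap b) (gmap b a)) (gmap b z) := by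
  set V := goodOpen ((Curv2.idealSheaf A I).comap b) (gmap b a) with hV
  obtain ⟨e, he⟩ := chart_iso A I a ha b hb
  let i : CommRingCat.of ↥(BlowUp.affineAlgebra A I a) ≅ Γ(X', V) :=
    (Scheme.ΓSpecIso (CommRingCat.of ↥(BlowUp.affineAlgebra A I a))).symm ≪≫
      Scheme.Γ.mapIso e.op ≪≫ V.topIso
  refine ⟨i.commRingCatIsoToRingEquiv, ?_⟩
  intro z
  have h1 : CommRingCat.ofHom (algebraMap A ↥(BlowUp.affineAlgebra A I a)) ≫ i.hom =
      (Scheme.ΓSpecIso (CommRingCat.of A)).inv ≫ b.appLE ⊤ V le_top := by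
    have h2 : i.hom = (Scheme.ΓSpecIso (CommRingCat.of ↥(BlowUp.affineAlgebra A I a))).inv ≫
        e.hom.appTop ≫ V.topIso.hom := rfl
    rw [h2, ← Category.assoc, Scheme.ΓSpecIso_inv_naturality, Category.assoc,
      ← Category.assoc (Spec.map _).appTop, ← Scheme.Hom.comp_appTop, he,
      Groth.Agent.Lib.H9DvrDesc.appTop_topIso]
  exact congrArg (fun f => f.hom z) h1

theorem good_goodOpen (a : A) (ha : a ∈ I) {X' : Scheme.{u}}
    (b : X' ⟶ Spec (CommRingCat.of A)) (hb : BlowUp.IsBlowUp b (Curv2.idealSheaf A I)) :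
    Good ((Curv2.idealSheaf A I).comap b) (gmap b a)
      (goodOpen ((Curv2.idealSheaf A I).comap b) (gmap b a))
      (isAffineOpen_goodOpen A I a ha b hb) := by
  set V := goodOpen ((Curv2.idealSheaf A I).comap b) (gmap b a) with hV
  obtain ⟨E, hE⟩ := exists_chart_ringEquiv A I a ha b hb
  refine ⟨?_, ?_⟩
  · rw [← hE a, mem_nonZeroDivisors_iff_right]
    intro t ht
    have h1 : E.symm t * algebraMap A _ a = 0 := by
      apply E.injective
      rw [map_mul, E.apply_symm_apply, ht, map_zero]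
    have h2 := (mem_nonZeroDivisors_iff_right.1 (a_mem_nonZeroDivisors A I a)) _ h1
    rw [← E.apply_symm_apply t, h2, map_zero]
  · rw [ideal_comap_eq I b V (isAffineOpen_goodOpen A I a ha b hb)]
    have h3 : (res V).comp (gmap b) =
        E.toRingHom.comp (algebraMap A ↥(BlowUp.affineAlgebra A I a)) := by
      ext z; exact (hE z).symm
    rw [h3, ← Ideal.map_map, affineAlgebra_map_eq_span A I a ha, Ideal.map_span,
      Set.image_singleton]
    congr 2
    exact hE a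

end chart

section twochart
open IsLocalRing
variable {A : Type u} [CommRing A] [IsLocalRing A] [IsDomain A]
variable {X : Scheme.{u}} (b : X ⟶ Spec (CommRingCat.of A))

local notation "𝔪" => maximalIdeal A
local notation "JJ" => Scheme.IdealSheafData.comap (Curv2.idealSheaf A (maximalIdeal A)) b

/-- the coordinate function `y/x` on the chart `goodOpen x`. -/
theorem exists_gen (hb : BlowUp.IsBlowUp b (Curv2.idealSheaf A 𝔪)) (x y : A)
    (hxy : Ideal.span {x, y} = 𝔪) :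
    ∃ t : Γ(X, goodOpen JJ (gmap b x)),
      res (goodOpen JJ (gmap b x)) (gmap b y) = t * res (goodOpen JJ (gmap b x)) (gmap b x) ∧
      ∀ r : Γ(X, goodOpen JJ (gmap b x)), ∃ p : Polynomial A,
        Polynomial.eval₂ ((res (goodOpen JJ (gmap b x))).comp (gmap b)) t p = r := by
  have hxm : x ∈ 𝔪 := by rw [← hxy]; exact Ideal.subset_span (Set.mem_insert _ _)
  have hym : y ∈ 𝔪 := by rw [← hxy]; exact Ideal.subset_span (Set.mem_insert_of_mem _ rfl)
  obtain ⟨E, hE⟩ := exists_chart_ringEquiv A 𝔪 x hxm b hb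
  have hcomp : (res (goodOpen JJ (gmap b x))).comp (gmap b) =
      E.toRingHom.comp (algebraMap A ↥(BlowUp.affineAlgebra A 𝔪 x)) := by
    ext z; exact (hE z).symm
  refine ⟨E (gen A 𝔪 x y hym), ?_, ?_⟩
  · rw [← hE y, ← hE x, ← a_mul_gen A 𝔪 x y hym, map_mul, mul_comm]
  · intro r
    obtain ⟨p, hp⟩ := Groth.Agent.Lib.H9RegBlowB.aeval_surjective x y hxy hym (E.symm r)
    refine ⟨p, ?_⟩
    rw [hcomp]
    have h1 : E.toRingHom (Polynomial.eval₂ (algebraMap A ↥(BlowUp.affineAlgebra A 𝔪 x))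
        (gen A 𝔪 x y hym) p) = Polynomial.eval₂ (E.toRingHom.comp
          (algebraMap A ↥(BlowUp.affineAlgebra A 𝔪 x))) (E.toRingHom (gen A 𝔪 x y hym)) p :=
      Polynomial.hom_eval₂ p _ E.toRingHom _
    rw [Polynomial.aeval_def] at hp
    rw [hp] at h1
    exact h1.symm.trans (E.apply_symm_apply r)

omit [IsDomain A] in
/-- `goodOpen x ⊓ goodOpen y` is the basic open of `y/x` in the chart `goodOpen x`. -/
theorem basicOpen_eq_inf (hb : BlowUp.IsBlowUp b (Curv2.idealSheaf A 𝔪)) (x y : A)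
    (hxm : x ∈ 𝔪) (hym : y ∈ 𝔪) (t : Γ(X, goodOpen JJ (gmap b x)))
    (ht : res (goodOpen JJ (gmap b x)) (gmap b y) = t * res (goodOpen JJ (gmap b x)) (gmap b x)) :
    X.basicOpen t = goodOpen JJ (gmap b x) ⊓ goodOpen JJ (gmap b y) := by
  have hU₁ := isAffineOpen_goodOpen A 𝔪 x hxm b hb
  have hg₁ := good_goodOpen A 𝔪 x hxm b hb
  apply le_antisymm
  · apply le_inf (X.basicOpen_le t)
    have hg := good_of_unit_mul JJ (gmap b y) hU₁ _ t hg₁.1 hg₁.2 ht
    exact le_goodOpen _ _ _ hg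
  · rintro u ⟨hu₁, hu₂⟩
    obtain ⟨W, hW, huW, hgW⟩ := (mem_goodOpen JJ (gmap b y)).1 hu₂
    obtain ⟨r, hrO, hur⟩ := hW.exists_basicOpen_le ⟨u, hu₁⟩ huW
    have hW' : IsAffineOpen (X.basicOpen r) := hW.basicOpen r
    have hgW' := good_basicOpen JJ (gmap b y) hW hgW r
    set W' := X.basicOpen r with hW'def
    set τ := (X.presheaf.map (homOfLE hrO).op).hom t with hτ
    have h1 : res W' (gmap b y) = τ * res W' (gmap b x) := by
      have := congrArg (X.presheaf.map (homOfLE hrO).op).hom ht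
      rw [map_mul, res_res, res_res] at this
      exact this
    have h2 : res W' (gmap b x) ∈ Scheme.IdealSheafData.ideal JJ ⟨W', hW'⟩ := by
      rw [ideal_comap_eq 𝔪 b W' hW']
      exact Ideal.mem_map_of_mem _ hxm
    rw [hgW'.2] at h2
    obtain ⟨v, hv⟩ := Ideal.mem_span_singleton'.1 h2
    have h3 : (τ * v) * res W' (gmap b y) = 1 * res W' (gmap b y) := by
      rw [one_mul, mul_assoc, hv, ← h1]
    have h4 : τ * v = 1 := (mul_cancel_right_mem_nonZeroDivisors hgW'.1).1 h3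
    have hu : IsUnit τ := IsUnit.of_mul_eq_one _ h4
    have h5 : X.basicOpen τ = W' ⊓ X.basicOpen t := Scheme.basicOpen_res _ _ _
    rw [Scheme.basicOpen_of_isUnit _ hu] at h5
    have : u ∈ W' ⊓ X.basicOpen t := h5 ▸ hur
    exact this.2

omit [IsDomain A] in
theorem exists_decomp_aux (hb : BlowUp.IsBlowUp b (Curv2.idealSheaf A 𝔪)) (x y : A)
    (hxm : x ∈ 𝔪)
    (O : X.Opens) (h₁ : O ≤ goodOpen JJ (gmap b x)) (h₂ : O ≤ goodOpen JJ (gmap b y))
    (t₁ : Γ(X, goodOpen JJ (gmap b x)))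
    (ht₁ : res (goodOpen JJ (gmap b x)) (gmap b y) = t₁ * res (goodOpen JJ (gmap b x)) (gmap b x))
    (hgen₁ : ∀ r : Γ(X, goodOpen JJ (gmap b x)), ∃ p : Polynomial A,
        Polynomial.eval₂ ((res (goodOpen JJ (gmap b x))).comp (gmap b)) t₁ p = r)
    (t₂ : Γ(X, goodOpen JJ (gmap b y)))
    (ht₂ : res (goodOpen JJ (gmap b y)) (gmap b x) = t₂ * res (goodOpen JJ (gmap b y)) (gmap b y))
    (hO : O = X.basicOpen t₁) (c : Γ(X, O)) :
    ∃ (a : Γ(X, goodOpen JJ (gmap b x))) (a' : Γ(X, goodOpen JJ (gmap b y))),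
      c = (X.presheaf.map (homOfLE h₁).op).hom a + (X.presheaf.map (homOfLE h₂).op).hom a' := by
  subst hO
  have hU₁ := isAffineOpen_goodOpen A 𝔪 x hxm b hb
  have hg₁ := good_goodOpen A 𝔪 x hxm b hb
  set ρ₁ := (X.presheaf.map (homOfLE h₁).op).hom with hρ₁
  set ρ₂ := (X.presheaf.map (homOfLE h₂).op).hom with hρ₂
  have hgO := good_basicOpen JJ (gmap b x) hU₁ hg₁ t₁
  have rel1 : res (X.basicOpen t₁) (gmap b y) = ρ₁ t₁ * res (X.basicOpen t₁) (gmap b x) := by
    have := congrArg ρ₁ ht₁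
    rw [map_mul, hρ₁, res_res, res_res] at this
    exact this
  have rel2 : res (X.basicOpen t₁) (gmap b x) = ρ₂ t₂ * res (X.basicOpen t₁) (gmap b y) := by
    have := congrArg ρ₂ ht₂
    rw [map_mul, hρ₂, res_res, res_res] at this
    exact this
  have hunit : ρ₁ t₁ * ρ₂ t₂ = 1 := by
    apply (mul_cancel_right_mem_nonZeroDivisors hgO.1).1
    rw [one_mul, mul_comm (ρ₁ t₁), mul_assoc, ← rel1, ← rel2]
  have hαeq : ∀ z : A, ρ₁ (res (goodOpen JJ (gmap b x)) (gmap b z)) =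
      ρ₂ (res (goodOpen JJ (gmap b y)) (gmap b z)) := by
    intro z
    rw [hρ₁, hρ₂, res_res, res_res]
  have inst := hU₁.isLocalization_basicOpen t₁
  have halg : ∀ r : Γ(X, goodOpen JJ (gmap b x)),
      algebraMap Γ(X, goodOpen JJ (gmap b x)) Γ(X, X.basicOpen t₁) r = ρ₁ r := fun _ => rfl
  obtain ⟨⟨r, ⟨_, n, rfl⟩⟩, hr⟩ := IsLocalization.surj (Submonoid.powers t₁) c
  have hr' : c * (ρ₁ t₁) ^ n = ρ₁ r := by
    have := hr
    simp only [halg, map_pow] at this
    exact this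
  have hc : c = ρ₁ r * (ρ₂ t₂) ^ n := by
    calc c = c * ((ρ₁ t₁) ^ n * (ρ₂ t₂) ^ n) := by rw [← mul_pow, hunit, one_pow, mul_one]
      _ = ρ₁ r * (ρ₂ t₂) ^ n := by rw [← mul_assoc, hr']
  obtain ⟨p, hp⟩ := hgen₁ r
  rw [hc, ← hp]
  clear hc hr' hr hp
  induction p using Polynomial.induction_on' with
  | add p q hp hq =>
    obtain ⟨a, a', ha⟩ := hp
    obtain ⟨e, e', he⟩ := hq
    refine ⟨a + e, a' + e', ?_⟩
    rw [Polynomial.eval₂_add, map_add, add_mul, ha, he, map_add, map_add]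
    ring
  | monomial k a₀ =>
    rw [Polynomial.eval₂_monomial, map_mul, map_pow, RingHom.comp_apply]
    by_cases hkn : n ≤ k
    · refine ⟨res (goodOpen JJ (gmap b x)) (gmap b a₀) * t₁ ^ (k - n), 0, ?_⟩
      rw [map_zero, add_zero, map_mul, map_pow]
      have hk : k = (k - n) + n := by omega
      conv_lhs => rw [hk, pow_add]
      calc ρ₁ (res (goodOpen JJ (gmap b x)) (gmap b a₀)) * (ρ₁ t₁ ^ (k - n) * ρ₁ t₁ ^ n) * ρ₂ t₂ ^ n
          = ρ₁ (res (goodOpen JJ (gmap b x)) (gmap b a₀)) * ρ₁ t₁ ^ (k - n) *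
              (ρ₁ t₁ * ρ₂ t₂) ^ n := by rw [mul_pow]; ring
        _ = _ := by rw [hunit, one_pow, mul_one]
    · refine ⟨0, res (goodOpen JJ (gmap b y)) (gmap b a₀) * t₂ ^ (n - k), ?_⟩
      rw [map_zero, zero_add, map_mul, map_pow, ← hαeq]
      have hn : n = k + (n - k) := by omega
      conv_lhs => rw [hn, pow_add]
      calc ρ₁ (res (goodOpen JJ (gmap b x)) (gmap b a₀)) * ρ₁ t₁ ^ k *
            (ρ₂ t₂ ^ k * ρ₂ t₂ ^ (n - k))
          = ρ₁ (res (goodOpen JJ (gmap b x)) (gmap b a₀)) * (ρ₁ t₁ * ρ₂ t₂) ^ k *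
              ρ₂ t₂ ^ (n - k) := by rw [mul_pow]; ring
        _ = _ := by rw [hunit, one_pow, mul_one]

/-- every function on `goodOpen x ⊓ goodOpen y` is a sum of restrictions of functions on the two
charts (`H¹(X, O_X) = 0` for the blow-up of a point with two generators). -/
theorem exists_decomp (hb : BlowUp.IsBlowUp b (Curv2.idealSheaf A 𝔪)) (x y : A)
    (hxy : Ideal.span {x, y} = 𝔪)
    (c : Γ(X, goodOpen JJ (gmap b x) ⊓ goodOpen JJ (gmap b y))) :
    ∃ (a : Γ(X, goodOpen JJ (gmap b x))) (a' : Γ(X, goodOpen JJ (gmap b y))),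
      c = (X.presheaf.map (homOfLE (inf_le_left :
            goodOpen JJ (gmap b x) ⊓ goodOpen JJ (gmap b y) ≤ goodOpen JJ (gmap b x))).op).hom a +
          (X.presheaf.map (homOfLE (inf_le_right :
            goodOpen JJ (gmap b x) ⊓ goodOpen JJ (gmap b y) ≤ goodOpen JJ (gmap b y))).op).hom a' := by
  have hxm : x ∈ 𝔪 := by rw [← hxy]; exact Ideal.subset_span (Set.mem_insert _ _)
  have hym : y ∈ 𝔪 := by rw [← hxy]; exact Ideal.subset_span (Set.mem_insert_of_mem _ rfl)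
  have hyx : Ideal.span {y, x} = 𝔪 := by rw [Set.pair_comm]; exact hxy
  obtain ⟨t₁, ht₁, hgen₁⟩ := exists_gen b hb x y hxy
  obtain ⟨t₂, ht₂, -⟩ := exists_gen b hb y x hyx
  have hO := (basicOpen_eq_inf b hb x y hxm hym t₁ ht₁).symm
  exact exists_decomp_aux b hb x y hxm _ inf_le_left inf_le_right t₁ ht₁ hgen₁ t₂ ht₂ hO c

end twochart

end Groth.Agent.Lib.H9RegBlowF
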