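import Mathlib
import Groth.Prelude
import Groth.Agent.Lib.H9RegBlowB
import Groth.Agent.Lib.H9RegBlowC
import Groth.Agent.Lib.H9RegBlowD
import Groth.Agent.Lib.H9RegBlowE
import Groth.Agent.Lib.H9RegBlowF

set_option autoImplicit false
set_option linter.style.haveILetI false
universe u

/-! helper9: the exceptional divisor of the blow-up of a two-dimensional regular local ring in its
maximal ideal is irreducible. -/

namespace Groth.Agent.Lib.H9ContrA

open IsLocalRing nonZeroDivisors CategoryTheory AlgebraicGeometry TopologicalSpace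
open Groth.Agent.Lib.H9AffBlow Groth.Agent.Lib.H9AffBlow2 Groth.Agent.Lib.Helper5.OrdVal
open Groth.Agent.Lib.H9Blow2Alg

/-- a set covered by two opens on which it is irreducible, with the two pieces meeting, is
irreducible. -/
theorem isIrreducible_of_two_opens {T : Type*} [TopologicalSpace T] (S U₁ U₂ : Set T)
    (h₁ : IsOpen U₁) (h₂ : IsOpen U₂) (hS : S ⊆ U₁ ∪ U₂)
    (i₁ : IsIrreducible (S ∩ U₁)) (i₂ : IsIrreducible (S ∩ U₂))
    (hne : (S ∩ U₁ ∩ U₂).Nonempty) : IsIrreducible S := by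
  obtain ⟨p₀, ⟨hp₀S, hp₀1⟩, hp₀2⟩ := hne
  have key : ∀ u : Set T, IsOpen u → (S ∩ u).Nonempty → ((S ∩ U₁) ∩ u).Nonempty := by
    rintro u hu ⟨p, hpS, hpu⟩
    rcases hS hpS with hp1 | hp2
    · exact ⟨p, ⟨hpS, hp1⟩, hpu⟩
    · obtain ⟨q, ⟨hqS, hq2⟩, hqu, hq1⟩ :=
        i₂.2 u U₁ hu h₁ ⟨p, ⟨hpS, hp2⟩, hpu⟩ ⟨p₀, ⟨hp₀S, hp₀2⟩, hp₀1⟩
      exact ⟨q, ⟨hqS, hq1⟩, hqu⟩
  refine ⟨⟨p₀, hp₀S⟩, ?_⟩
  intro u v hu hv hSu hSv
  obtain ⟨q, ⟨hqS, -⟩, hquv⟩ := i₁.2 u v hu hv (key u hu hSu) (key v hv hSv)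
  exact ⟨q, hqS, hquv⟩

section alg
variable {A : Type u} [CommRing A] [IsLocalRing A] [IsDomain A] (x y : A)

local notation "R" => (BlowUp.affineAlgebra A (maximalIdeal A) x)
local notation "φ" => algebraMap A (BlowUp.affineAlgebra A (maximalIdeal A) x)

theorem gen_not_mem_span (hgr : GrDomain A) (hx : ExactOrd x 1) (hy : ExactOrd y 1)
    (hym : y ∈ maximalIdeal A) :
    gen A (maximalIdeal A) x y hym ∉ (Ideal.span {φ x} : Ideal R) := by
  have hxm : x ∈ maximalIdeal A := by have := hx.1; rwa [pow_one] at this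
  have hx0 : x ≠ 0 := hx.ne_zero
  have hinj := algebraMap_injective A (maximalIdeal A) x hx0
  intro h
  obtain ⟨r, hr⟩ := Ideal.mem_span_singleton'.1 h
  obtain ⟨N, α, hα, hrα⟩ := exists_mem_pow_mul A (maximalIdeal A) x hxm r
  have h1 : φ (y * x ^ N) = φ (x ^ 2 * α) := by
    simp only [map_mul, map_pow]
    rw [← hrα, ← a_mul_gen A (maximalIdeal A) x y hym, ← hr]
    ring
  have h2 := hinj h1
  have h3 : y * x ^ N ∈ maximalIdeal A ^ (1 + N + 1) := by
    rw [h2]
    have : x ^ 2 * α ∈ maximalIdeal A ^ 2 * maximalIdeal A ^ N :=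
      Ideal.mul_mem_mul (Ideal.pow_mem_pow hxm 2) hα
    rw [← pow_add] at this
    have e : 2 + N = 1 + N + 1 := by ring
    rwa [e] at this
  exact (hy.mul hgr (ExactOrd.pow hgr hx N)).2 h3

end alg

section geom
variable {A : Type u} [CommRing A] [IsLocalRing A] [IsDomain A]
variable {X : Scheme.{u}} (b : X ⟶ Spec (CommRingCat.of A))

local notation "𝔪" => maximalIdeal A
local notation "JJ" => Scheme.IdealSheafData.comap (Curv2.idealSheaf A (maximalIdeal A)) b

/-- the exceptional divisor is irreducible on the chart `goodOpen x`, and its generic point lies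
in the chart `goodOpen y`. -/
theorem chart_irreducible (hb : BlowUp.IsBlowUp b (Curv2.idealSheaf A 𝔪)) (x y : A)
    (hxy : Ideal.span {x, y} = 𝔪) (hgr : GrDomain A) (hx : ExactOrd x 1) (hy : ExactOrd y 1) :
    IsIrreducible (((JJ).support : Set X) ∩ (goodOpen JJ (gmap b x) : Set X)) ∧
    (((JJ).support : Set X) ∩ (goodOpen JJ (gmap b x) : Set X) ∩
      (goodOpen JJ (gmap b y) : Set X)).Nonempty := by
  have hxm : x ∈ 𝔪 := by rw [← hxy]; exact Ideal.subset_span (Set.mem_insert _ _)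
  have hym : y ∈ 𝔪 := by rw [← hxy]; exact Ideal.subset_span (Set.mem_insert_of_mem _ rfl)
  set U := goodOpen JJ (gmap b x) with hUdef
  set c := res U (gmap b x) with hc
  have hU : IsAffineOpen U := Groth.Agent.Lib.H9RegBlowE.isAffineOpen_goodOpen A 𝔪 x hxm b hb
  have hg : Good JJ (gmap b x) U hU := Groth.Agent.Lib.H9RegBlowF.good_goodOpen A 𝔪 x hxm b hb
  have hE' : ∃ E : ↥(BlowUp.affineAlgebra A 𝔪 x) ≃+* Γ(X, U),
      ∀ z : A, E (algebraMap A _ z) = res U (gmap b z) :=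
    Groth.Agent.Lib.H9RegBlowF.exists_chart_ringEquiv A 𝔪 x hxm b hb
  have ht' : ∃ t : Γ(X, U), res U (gmap b y) = t * c ∧
      X.basicOpen t = U ⊓ goodOpen JJ (gmap b y) := by
    obtain ⟨t, ht, -⟩ := Groth.Agent.Lib.H9RegBlowF.exists_gen b hb x y hxy
    exact ⟨t, ht, Groth.Agent.Lib.H9RegBlowF.basicOpen_eq_inf b hb x y hxm hym t ht⟩
  obtain ⟨E, hE⟩ := hE'
  obtain ⟨t, ht, hinf⟩ := ht'
  have h2 : Ideal.span {c} = Ideal.map E
      (Ideal.span {algebraMap A ↥(BlowUp.affineAlgebra A 𝔪 x) x}) := by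
    rw [Ideal.map_span, Set.image_singleton]
    congr 2
    exact (hE x).symm
  -- the prime ideal
  have hP : (Ideal.span {c} : Ideal Γ(X, U)).IsPrime := by
    have h1 := Groth.Agent.Lib.H9RegBlowB.span_isPrime x hgr hx
    rw [h2]
    exact Ideal.map_isPrime_of_equiv E
  -- t is the image of gen y
  have htE : t = E (gen A 𝔪 x y hym) := by
    have h1 : E (gen A 𝔪 x y hym) * c = t * c := by
      rw [← ht, hc, ← hE x, ← hE y, ← map_mul, mul_comm, a_mul_gen]
    exact ((mul_cancel_right_mem_nonZeroDivisors hg.1).1 h1).symm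
  have htP : t ∉ (Ideal.span {c} : Ideal Γ(X, U)) := by
    intro h
    apply gen_not_mem_span x y hgr hx hy hym
    rw [h2, htE] at h
    obtain ⟨w, hw, hwe⟩ := (Ideal.mem_map_of_equiv E _).1 h
    have : w = gen A 𝔪 x y hym := E.injective hwe
    rwa [this] at hw
  -- the support on the chart
  have hsupp : ((JJ).support : Set X) ∩ (U : Set X) =
      hU.fromSpec '' PrimeSpectrum.zeroLocus ((Ideal.span {c} : Ideal Γ(X, U)) : Set Γ(X, U)) := by
    rw [hU.fromSpec_image_zeroLocus, ← hg.2]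
    exact Scheme.IdealSheafData.coe_support_inter (JJ) ⟨U, hU⟩
  have hirr : IsIrreducible
      (PrimeSpectrum.zeroLocus ((Ideal.span {c} : Ideal Γ(X, U)) : Set Γ(X, U))) :=
    (PrimeSpectrum.isIrreducible_zeroLocus_iff_of_radical _ hP.isRadical).2 hP
  constructor
  · rw [hsupp]
    exact IsIrreducible.image hirr _ hU.fromSpec.continuous.continuousOn
  · refine ⟨hU.fromSpec ⟨Ideal.span {c}, hP⟩, ?_, ?_⟩
    · rw [hsupp]
      refine ⟨⟨Ideal.span {c}, hP⟩, ?_, rfl⟩
      exact (PrimeSpectrum.mem_zeroLocus _ _).2 (le_refl _)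
    · have h1 : hU.fromSpec ⟨Ideal.span {c}, hP⟩ ∈ X.basicOpen t := by
        have h2 := hU.fromSpec_preimage_basicOpen t
        have h3 : (⟨Ideal.span {c}, hP⟩ : PrimeSpectrum Γ(X, U)) ∈
            (hU.fromSpec ⁻¹ᵁ X.basicOpen t) := by
          rw [h2]
          exact htP
        exact h3
      rw [hinf] at h1
      exact h1.2

end geom

section main

theorem isIrreducible_support (A : Type u) [CommRing A] [IsRegularLocalRing A]
    (hA : ringKrullDim A = 2) (X : Scheme.{u}) (b : X ⟶ Spec (CommRingCat.of A))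
    (hb : BlowUp.IsBlowUp b (Curv2.idealSheaf A (IsLocalRing.maximalIdeal A))) :
    IsIrreducible ((((Curv2.idealSheaf A (IsLocalRing.maximalIdeal A)).comap b).support : Set X)) := by
  haveI : IsDomain A := Groth.Agent.Lib.Helper5.isDomain_of_isRegularLocalRing A
  have hd : ringKrullDim A = ((2 : ℕ) : WithBot ℕ∞) := by rw [hA]; rfl
  obtain ⟨z, hz⟩ := Groth.Agent.Lib.Helper5.HilbertRLR.exists_regular_system hd
  obtain ⟨x, hx⟩ : ∃ x : A, x = (z 0 : A) := ⟨_, rfl⟩
  obtain ⟨y, hy⟩ : ∃ y : A, y = (z 1 : A) := ⟨_, rfl⟩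
  have hxy : Ideal.span {x, y} = maximalIdeal A := by
    rw [← hz, hx, hy]
    congr 1
    ext t
    simp only [Set.mem_insert_iff, Set.mem_singleton_iff, Set.mem_range]
    constructor
    · rintro (rfl | rfl)
      · exact ⟨0, rfl⟩
      · exact ⟨1, rfl⟩
    · rintro ⟨i, rfl⟩
      fin_cases i
      · exact Or.inl rfl
      · exact Or.inr rfl
  have hyx : Ideal.span {y, x} = maximalIdeal A := by rw [Set.pair_comm]; exact hxy
  obtain ⟨hgr, hxo⟩ := Groth.Agent.Lib.H9RegBlowD.grDomain_and_exactOrd A hA x y hxy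
  obtain ⟨-, hyo⟩ := Groth.Agent.Lib.H9RegBlowD.grDomain_and_exactOrd A hA y x hyx
  obtain ⟨i₁, hne⟩ := chart_irreducible b hb x y hxy hgr hxo hyo
  obtain ⟨i₂, -⟩ := chart_irreducible b hb y x hyx hgr hyo hxo
  refine isIrreducible_of_two_opens _ _ _
    (goodOpen ((Curv2.idealSheaf A (maximalIdeal A)).comap b) (gmap b x)).isOpen
    (goodOpen ((Curv2.idealSheaf A (maximalIdeal A)).comap b) (gmap b y)).isOpen ?_ i₁ i₂ hne
  intro x' _
  obtain ⟨a, ha, hx'⟩ := Groth.Agent.Lib.H9RegBlowC.exists_good_nbhd_of_span (maximalIdeal A)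
    {x, y} hxy b hb.1 x'
  rcases ha with rfl | ha
  · exact Or.inl hx'
  · have : a = y := ha
    subst this
    exact Or.inr hx'

end main

end Groth.Agent.Lib.H9ContrA
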