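import Mathlib
import Groth.Prelude
import Groth.Agent.Lib.H9ContrA
import Groth.Agent.Lib.H9BlowFlat
import Groth.Agent.Lib.Helper22IdealComap
import Groth.Agent.Lib.H9Div21Geo6

set_option autoImplicit false
set_option linter.style.haveILetI false
universe u

/-! helper9: the fibre of a blow-up in a regular closed point of dimension two is irreducible;
comparison of effective Cartier divisors with the same support. -/

namespace Groth.Agent.Lib.H9ContrB

open IsLocalRing nonZeroDivisors CategoryTheory CategoryTheory.Limits AlgebraicGeometry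
open TopologicalSpace

theorem fromSpecStalk_mem_of_mem {X' : Scheme.{u}} (y : X') (W : X'.Opens) (hyW : y ∈ W)
    (p : Spec (X'.presheaf.stalk y)) : X'.fromSpecStalk y p ∈ W := by
  have h1 : X'.fromSpecStalk y p ∈ Set.range (X'.fromSpecStalk y) := Set.mem_range_self p
  rw [Scheme.range_fromSpecStalk] at h1
  exact (h1 : X'.fromSpecStalk y p ⤳ y).mem_open W.isOpen hyW

theorem comap_fromSpecStalk_vanishingIdeal (X' : Scheme.{u}) (y : X')
    (hy : IsClosed ({y} : Set X')) :
    (Scheme.IdealSheafData.vanishingIdeal ⟨{y}, hy⟩).comap (X'.fromSpecStalk y) =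
      Curv2.idealSheaf (X'.presheaf.stalk y) (maximalIdeal (X'.presheaf.stalk y)) := by
  obtain ⟨_, ⟨W, hW0, rfl⟩, hyW, -⟩ :=
    X'.isBasis_affineOpens.exists_subset_of_mem_open (Set.mem_univ y) isOpen_univ
  have hW : IsAffineOpen W := hW0
  clear hW0
  have hle : (⊤ : (Spec (X'.presheaf.stalk y)).Opens) ≤ (X'.fromSpecStalk y) ⁻¹ᵁ W :=
    fun p _ => fromSpecStalk_mem_of_mem y W hyW p
  apply Scheme.IdealSheafData.ext_of_isAffine
  rw [Groth.Agent.Lib.Helper22.IdealComap.ideal_comap_eq_map (X'.fromSpecStalk y) _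
    ⟨⊤, isAffineOpen_top _⟩ ⟨W, hW⟩ hle]
  simp only [Curv2.idealSheaf, Scheme.IdealSheafData.ofIdealTop_ideal]
  have happ : (X'.fromSpecStalk y).appLE W ⊤ hle =
      X'.presheaf.germ W y hyW ≫ (Scheme.ΓSpecIso (X'.presheaf.stalk y)).inv := by
    rw [Scheme.Hom.appLE, Scheme.fromSpecStalk_app hyW, Category.assoc, Category.assoc,
      ← Functor.map_comp]
    have : (homOfLE (le_top : (X'.fromSpecStalk y) ⁻¹ᵁ W ≤ ⊤)).op ≫ (homOfLE hle).op = 𝟙 _ :=
      Subsingleton.elim _ _
    rw [this, CategoryTheory.Functor.map_id, Category.comp_id]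
  have hvan : (Scheme.IdealSheafData.vanishingIdeal ⟨{y}, hy⟩).ideal ⟨W, hW⟩ =
      (hW.primeIdealOf ⟨y, hyW⟩).asIdeal := by
    rw [Scheme.IdealSheafData.vanishingIdeal_ideal]
    have h2 : (hW.fromSpec ⁻¹' ({y} : Set X') : Set (PrimeSpectrum Γ(X', W))) =
        {hW.primeIdealOf ⟨y, hyW⟩} := by
      ext p
      simp only [Set.mem_preimage, Set.mem_singleton_iff]
      constructor
      · intro h
        apply hW.fromSpec.isOpenEmbedding.injective
        rw [h, hW.fromSpec_primeIdealOf ⟨y, hyW⟩]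
      · rintro rfl
        exact hW.fromSpec_primeIdealOf ⟨y, hyW⟩
    exact (congrArg PrimeSpectrum.vanishingIdeal h2).trans
      (PrimeSpectrum.vanishingIdeal_singleton _)
  have hmax : Ideal.map (X'.presheaf.germ W y hyW).hom (hW.primeIdealOf ⟨y, hyW⟩).asIdeal =
      maximalIdeal (X'.presheaf.stalk y) := by
    letI := X'.presheaf.algebra_section_stalk ⟨y, hyW⟩
    haveI := hW.isLocalization_stalk ⟨y, hyW⟩
    exact IsLocalization.AtPrime.map_eq_maximalIdeal (hW.primeIdealOf ⟨y, hyW⟩).asIdeal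
      (X'.presheaf.stalk y)
  have hres : ∀ (h : (⊤ : (Spec (X'.presheaf.stalk y)).Opens) ≤ ⊤),
      (Spec (X'.presheaf.stalk y)).presheaf.map (homOfLE h).op = 𝟙 _ := fun h => by
    have : (homOfLE h).op = 𝟙 _ := Subsingleton.elim _ _
    rw [this, CategoryTheory.Functor.map_id]
  rw [hvan, happ, CommRingCat.hom_comp, ← Ideal.map_map, hmax, hres, CommRingCat.hom_id,
    Ideal.map_id]
  rfl

/-- the fibre of a blow-up over a regular closed point of dimension two is irreducible. -/
theorem isIrreducible_fibre {X X' : Scheme.{u}} (b : X ⟶ X') (y : X')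
    (hy : IsClosed ({y} : Set X')) [IsRegularLocalRing (X'.presheaf.stalk y)]
    (hdim : ringKrullDim (X'.presheaf.stalk y) = 2)
    (hb : BlowUp.IsBlowUp b (Scheme.IdealSheafData.vanishingIdeal ⟨{y}, hy⟩)) :
    IsIrreducible (b ⁻¹' {y} : Set X) := by
  haveI := Groth.Agent.Lib.H9Div21Geo.flat_fromSpecStalk X' y
  have hb' := Groth.Agent.Lib.H9BlowFlat.isBlowUp_pullback_snd_of_flat b _ hb (X'.fromSpecStalk y)
  have e := comap_fromSpecStalk_vanishingIdeal X' y hy
  have hirr : IsIrreducible
      (((((Scheme.IdealSheafData.vanishingIdeal ⟨{y}, hy⟩).comap (X'.fromSpecStalk y)).comap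
        (pullback.snd b (X'.fromSpecStalk y))).support : Set ↥(pullback b (X'.fromSpecStalk y)))) := by
    rw [e] at hb' ⊢
    exact Groth.Agent.Lib.H9ContrA.isIrreducible_support (X'.presheaf.stalk y) hdim _ _ hb'
  have hmem : ∀ w : ↥(pullback b (X'.fromSpecStalk y)),
      w ∈ (((Scheme.IdealSheafData.vanishingIdeal ⟨{y}, hy⟩).comap (X'.fromSpecStalk y)).comap
        (pullback.snd b (X'.fromSpecStalk y))).support ↔
      X'.fromSpecStalk y (pullback.snd b (X'.fromSpecStalk y) w) = y := by
    intro w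
    rw [Scheme.IdealSheafData.support_comap, Scheme.IdealSheafData.support_comap]
    show X'.fromSpecStalk y (pullback.snd b (X'.fromSpecStalk y) w) ∈
      ((Scheme.IdealSheafData.vanishingIdeal ⟨{y}, hy⟩).support : Set X') ↔ _
    rw [Scheme.IdealSheafData.coe_support_vanishingIdeal]
    rfl
  have himg : (b ⁻¹' {y} : Set X) = (pullback.fst b (X'.fromSpecStalk y)) ''
      ((((Scheme.IdealSheafData.vanishingIdeal ⟨{y}, hy⟩).comap (X'.fromSpecStalk y)).comap
        (pullback.snd b (X'.fromSpecStalk y))).support : Set ↥(pullback b (X'.fromSpecStalk y))) := by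
    ext z
    constructor
    · intro hz
      have hz' : b z = X'.fromSpecStalk y (closedPoint (X'.presheaf.stalk y)) := by
        rw [Scheme.fromSpecStalk_closedPoint]; exact hz
      obtain ⟨w, hw1, hw2⟩ := Scheme.Pullback.exists_preimage_pullback z _ hz'
      refine ⟨w, (hmem w).2 ?_, hw1⟩
      rw [hw2, Scheme.fromSpecStalk_closedPoint]
    · rintro ⟨w, hw, rfl⟩
      have h1 := (hmem w).1 hw
      show b (pullback.fst b (X'.fromSpecStalk y) w) = y
      rw [← Scheme.Hom.comp_apply, pullback.condition, Scheme.Hom.comp_apply]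
      exact h1
  rw [himg]
  exact hirr.image _ (pullback.fst b (X'.fromSpecStalk y)).continuous.continuousOn

end Groth.Agent.Lib.H9ContrB
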