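import Mathlib
import Groth.Prelude

set_option autoImplicit false
set_option linter.style.haveILetI false
universe u

/-! helper9: effective Cartier ideals: local principal generators on common affine opens,
comparison of supports (Krull's principal ideal theorem), schematic density of the complement. -/

namespace Groth.Agent.Lib.H9ContrC

open nonZeroDivisors CategoryTheory AlgebraicGeometry TopologicalSpace Opposite

variable {X : Scheme.{u}}

/-- `c` is a regular generator of `J` on the affine open `U`. -/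
def Prin (J : X.IdealSheafData) (U : X.Opens) (hU : IsAffineOpen U) (c : Γ(X, U)) : Prop :=
  c ∈ Γ(X, U)⁰ ∧ J.ideal ⟨U, hU⟩ = Ideal.span {c}

theorem prin_basicOpen (J : X.IdealSheafData) {U : X.Opens} (hU : IsAffineOpen U) (c : Γ(X, U))
    (h : Prin J U hU c) (r : Γ(X, U)) :
    Prin J (X.basicOpen r) (hU.basicOpen r)
      ((X.presheaf.map (homOfLE (X.basicOpen_le r)).op).hom c) := by
  refine ⟨?_, ?_⟩
  · have inst := hU.isLocalization_basicOpen r
    have h1 : (X.presheaf.map (homOfLE (X.basicOpen_le r)).op).hom = algebraMap _ _ := rfl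
    rw [h1]
    exact IsLocalization.map_nonZeroDivisors_le (.powers r) _ (Submonoid.mem_map_of_mem _ h.1)
  · have h2 := J.map_ideal_basicOpen ⟨U, hU⟩ r
    rw [h.2, Ideal.map_span, Set.image_singleton] at h2
    exact h2.symm

theorem exists_prin_le (J : X.IdealSheafData) (hJ : BlowUp.IsEffCartierIdeal J) (x : X)
    (O : X.Opens) (hx : x ∈ O) :
    ∃ (U : X.Opens) (hU : IsAffineOpen U) (c : Γ(X, U)), x ∈ U ∧ U ≤ O ∧ Prin J U hU c := by
  obtain ⟨U', hxU', c, hc, hI⟩ := hJ x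
  obtain ⟨r, hrO, hxr⟩ := U'.2.exists_basicOpen_le ⟨x, hx⟩ hxU'
  exact ⟨X.basicOpen r, U'.2.basicOpen r, _, hxr, hrO, prin_basicOpen J U'.2 c ⟨hc, hI⟩ r⟩

theorem exists_common_affine (J₁ J₂ : X.IdealSheafData) (h₁ : BlowUp.IsEffCartierIdeal J₁)
    (h₂ : BlowUp.IsEffCartierIdeal J₂) (x : X) :
    ∃ (V : X.Opens) (hV : IsAffineOpen V) (f₁ f₂ : Γ(X, V)), x ∈ V ∧ Prin J₁ V hV f₁ ∧
      Prin J₂ V hV f₂ := by
  obtain ⟨U₁, hxU₁, c₁, hc₁, hI₁⟩ := h₁ x
  obtain ⟨U₂, hxU₂, c₂, hc₂, hI₂⟩ := h₂ x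
  obtain ⟨f, g, hfg, hxf⟩ := exists_basicOpen_le_affine_inter U₁.2 U₂.2 x ⟨hxU₁, hxU₂⟩
  have p₁ := prin_basicOpen J₁ U₁.2 c₁ ⟨hc₁, hI₁⟩ f
  have p₂ := prin_basicOpen J₂ U₂.2 c₂ ⟨hc₂, hI₂⟩ g
  have key : ∀ (V : X.Opens) (hV : IsAffineOpen V), V = X.basicOpen g →
      ∃ f₂ : Γ(X, V), Prin J₂ V hV f₂ := by
    intro V hV e
    subst e
    exact ⟨_, p₂⟩
  obtain ⟨f₂, hf₂⟩ := key (X.basicOpen f) (U₁.2.basicOpen f) hfg
  exact ⟨X.basicOpen f, U₁.2.basicOpen f, _, f₂, hxf, p₁, hf₂⟩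

/-- the support on an affine open where the ideal is principal. -/
theorem fromSpec_mem_support_iff (J : X.IdealSheafData) {V : X.Opens} (hV : IsAffineOpen V)
    (c : Γ(X, V)) (h : Prin J V hV c) (q : PrimeSpectrum Γ(X, V)) :
    hV.fromSpec q ∈ (J.support : Set X) ↔ c ∈ q.asIdeal := by
  have h1 := hV.fromSpec_image_zeroLocus ((J.ideal ⟨V, hV⟩ : Ideal Γ(X, V)) : Set Γ(X, V))
  have h2 := J.coe_support_inter ⟨V, hV⟩
  have hqV : hV.fromSpec q ∈ (V : Set X) := by
    have : hV.fromSpec q ∈ Set.range hV.fromSpec := Set.mem_range_self q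
    rwa [hV.range_fromSpec] at this
  constructor
  · intro hq
    have h3 : hV.fromSpec q ∈ (J.support : Set X) ∩ (V : Set X) := ⟨hq, hqV⟩
    rw [h2, ← h1] at h3
    obtain ⟨q', hq', hqq'⟩ := h3
    have : q' = q := hV.fromSpec.isOpenEmbedding.injective hqq'
    subst this
    rw [h.2] at hq'
    exact hq' (Ideal.subset_span rfl)
  · intro hq
    have h3 : hV.fromSpec q ∈ (J.support : Set X) ∩ (V : Set X) := by
      rw [h2, ← h1]
      refine ⟨q, ?_, rfl⟩
      rw [h.2]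
      intro z hz
      exact (Ideal.span_singleton_le_iff_mem (I := q.asIdeal)).2 hq hz
    exact h3.1

theorem exists_fromSpec_eq {V : X.Opens} (hV : IsAffineOpen V) (z : X) (hz : z ∈ V) :
    ∃ q : PrimeSpectrum Γ(X, V), hV.fromSpec q = z := by
  have : z ∈ Set.range hV.fromSpec := by rw [hV.range_fromSpec]; exact hz
  exact this

/-- **comparison of supports**: an effective Cartier divisor whose support is irreducible is
contained (as a set) in every nonempty effective Cartier divisor supported inside it. -/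
theorem support_subset_of_effCartier [IsLocallyNoetherian X] (J₁ J₂ : X.IdealSheafData)
    (h₁ : BlowUp.IsEffCartierIdeal J₁) (h₂ : BlowUp.IsEffCartierIdeal J₂)
    (hsub : (J₁.support : Set X) ⊆ J₂.support) (hirr : IsIrreducible (J₂.support : Set X))
    (hne : (J₁.support : Set X).Nonempty) : (J₂.support : Set X) ⊆ J₁.support := by
  obtain ⟨e₀, he₀⟩ := hne
  obtain ⟨V, hV, f₁, f₂, he₀V, p₁, p₂⟩ := exists_common_affine J₁ J₂ h₁ h₂ e₀
  haveI : IsNoetherianRing Γ(X, V) := IsLocallyNoetherian.component_noetherian ⟨V, hV⟩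
  have hs₁ := fromSpec_mem_support_iff J₁ hV f₁ p₁
  have hs₂ := fromSpec_mem_support_iff J₂ hV f₂ p₂
  obtain ⟨q₀, hq₀⟩ := exists_fromSpec_eq hV e₀ he₀V
  have hq₀1 : f₁ ∈ q₀.asIdeal := (hs₁ q₀).1 (hq₀ ▸ he₀)
  have hq₀2 : f₂ ∈ q₀.asIdeal := (hs₂ q₀).1 (hq₀ ▸ hsub he₀)
  -- irreducibility in Spec
  have hset : (hV.fromSpec ⁻¹' (J₂.support : Set X) : Set (PrimeSpectrum Γ(X, V))) =
      PrimeSpectrum.zeroLocus ({f₂} : Set Γ(X, V)) := by
    ext q
    rw [PrimeSpectrum.mem_zeroLocus, Set.singleton_subset_iff]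
    exact hs₂ q
  have hpre : IsPreirreducible (hV.fromSpec ⁻¹' (J₂.support : Set X)) :=
    hirr.2.preimage hV.fromSpec.isOpenEmbedding
  have hirr₂ : IsIrreducible (PrimeSpectrum.zeroLocus ({f₂} : Set Γ(X, V))) := by
    refine ⟨⟨q₀, ?_⟩, ?_⟩
    · rw [PrimeSpectrum.mem_zeroLocus, Set.singleton_subset_iff]; exact hq₀2
    · rw [← hset]; exact hpre
  rw [← PrimeSpectrum.zeroLocus_span, PrimeSpectrum.isIrreducible_zeroLocus_iff] at hirr₂
  obtain ⟨P, hP⟩ : ∃ P : Ideal Γ(X, V), P = (Ideal.span ({f₂} : Set Γ(X, V))).radical := ⟨_, rfl⟩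
  rw [← hP] at hirr₂
  -- a minimal prime over f₁
  have hne₁ : Ideal.span ({f₁} : Set Γ(X, V)) ≠ ⊤ := by
    intro h
    have h1 : Ideal.span ({f₁} : Set Γ(X, V)) ≤ q₀.asIdeal :=
      (Ideal.span_singleton_le_iff_mem _).2 hq₀1
    rw [h, top_le_iff] at h1
    exact q₀.isPrime.ne_top h1
  obtain ⟨Q, hQ⟩ := Ideal.nonempty_minimalPrimes hne₁
  haveI hQp : Q.IsPrime := hQ.1.1
  have hQh : Q.height ≤ 1 := Ideal.height_le_one_of_isPrincipal_of_mem_minimalPrimes _ Q hQ
  have hf₁Q : f₁ ∈ Q := hQ.1.2 (Ideal.subset_span rfl)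
  -- Q contains f₂
  have hf₂Q : f₂ ∈ Q := by
    have hQ2 : hV.fromSpec (⟨Q, hQp⟩ : PrimeSpectrum Γ(X, V)) ∈ (J₂.support : Set X) :=
      hsub ((hs₁ ⟨Q, hQp⟩).2 hf₁Q)
    exact (hs₂ ⟨Q, hQp⟩).1 hQ2
  have hPQ : P ≤ Q := by
    rw [hP]
    exact (Ideal.IsPrime.radical_le_iff hQp).2 ((Ideal.span_singleton_le_iff_mem _).2 hf₂Q)
  have hPeq : P = Q := by
    by_contra hne'
    have hlt : P < Q := lt_of_le_of_ne hPQ hne'
    have h1 := Ideal.height_strict_mono_of_isPrime hlt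
    have h2 : P.height = 0 := by
      have : P.height < 1 := lt_of_lt_of_le h1 hQh
      exact Order.lt_one_iff.1 this
    rw [Ideal.height_eq_zero_iff] at h2
    have h3 : f₂ ∈ P := by rw [hP]; exact Ideal.le_radical (Ideal.subset_span rfl)
    exact Set.disjoint_left.mp (Ideal.disjoint_nonZeroDivisors_of_mem_minimalPrimes h2) h3 p₂.1
  have hf₁P : f₁ ∈ P := hPeq ▸ hf₁Q
  -- conclusion on V
  have hV₂ : (J₂.support : Set X) ∩ (V : Set X) ⊆ J₁.support := by
    rintro z ⟨hz, hzV⟩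
    obtain ⟨q, rfl⟩ := exists_fromSpec_eq hV z hzV
    have h1 : f₂ ∈ q.asIdeal := (hs₂ q).1 hz
    refine (hs₁ q).2 ?_
    have h3 : P ≤ q.asIdeal := by
      rw [hP]
      exact (Ideal.IsPrime.radical_le_iff q.isPrime).2 ((Ideal.span_singleton_le_iff_mem _).2 h1)
    exact h3 hf₁P
  have hdense := subset_closure_inter_of_isPreirreducible_of_isOpen hirr.2 V.isOpen
    ⟨e₀, hsub he₀, he₀V⟩
  exact hdense.trans (closure_minimal hV₂ J₁.support.isClosed)

/-- the complement of an effective Cartier divisor is schematically dense. -/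
theorem eq_zero_of_res_eq_zero (J : X.IdealSheafData) (hJ : BlowUp.IsEffCartierIdeal J)
    (O O' : X.Opens) (hO' : O' ≤ O) (hcompl : ∀ x ∈ O, x ∉ J.support → x ∈ O')
    (s : Γ(X, O)) (hs : (X.presheaf.map (homOfLE hO').op).hom s = 0) : s = 0 := by
  have key : ∀ y : O, ∃ (U : X.Opens) (hU : IsAffineOpen U) (c : Γ(X, U)),
      y.1 ∈ U ∧ U ≤ O ∧ Prin J U hU c := fun y => exists_prin_le J hJ y.1 O y.2
  choose U hU c hyU hUO hp using key
  refine TopCat.Sheaf.eq_of_locally_eq' X.sheaf U O (fun y => homOfLE (hUO y)) ?_ s 0 (fun y => ?_)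
  · intro x hx
    exact Opens.mem_iSup.2 ⟨⟨x, hx⟩, hyU _⟩
  · rw [map_zero]
    obtain ⟨sU, hsU⟩ : ∃ sU : Γ(X, U y), sU = (X.presheaf.map (homOfLE (hUO y)).op).hom s :=
      ⟨_, rfl⟩
    change (X.presheaf.map (homOfLE (hUO y)).op).hom s = 0
    rw [← hsU]
    have hb : X.basicOpen (c y) ≤ O' := by
      intro z hz
      have hzU : z ∈ U y := X.basicOpen_le _ hz
      apply hcompl z (hUO y hzU)
      intro hzs
      obtain ⟨q, rfl⟩ := exists_fromSpec_eq (hU y) z hzU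
      have h1 := (fromSpec_mem_support_iff J (hU y) (c y) (hp y) q).1 hzs
      have h2 := (hU y).fromSpec_preimage_basicOpen (c y)
      have h3 : q ∈ ((hU y).fromSpec ⁻¹ᵁ X.basicOpen (c y)) := hz
      rw [h2] at h3
      exact h3 h1
    have h0 : (X.presheaf.map (homOfLE (X.basicOpen_le (c y))).op).hom sU = 0 := by
      have : (X.presheaf.map (homOfLE (X.basicOpen_le (c y))).op).hom sU =
          (X.presheaf.map (homOfLE hb).op).hom ((X.presheaf.map (homOfLE hO').op).hom s) := by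
        rw [hsU, ← CommRingCat.comp_apply, ← CommRingCat.comp_apply, ← Functor.map_comp,
          ← Functor.map_comp]
        rfl
      rw [this, hs, map_zero]
    haveI := (hU y).isLocalization_basicOpen (c y)
    have h1 : (X.presheaf.map (homOfLE (X.basicOpen_le (c y))).op).hom = algebraMap _ _ := rfl
    rw [h1] at h0
    obtain ⟨⟨_, n, rfl⟩, hm⟩ :=
      (IsLocalization.map_eq_zero_iff (Submonoid.powers (c y)) Γ(X, X.basicOpen (c y)) sU).1 h0
    have hn : (c y) ^ n ∈ Γ(X, U y)⁰ := pow_mem (hp y).1 n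
    apply (mem_nonZeroDivisors_iff_right.1 hn)
    rw [mul_comm]
    exact hm

end Groth.Agent.Lib.H9ContrC
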