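import Mathlib
import Groth.Prelude
import Groth.Agent.Lib.H9BlowExist
import Groth.Agent.Lib.H9BlowGlue

set_option autoImplicit false
set_option linter.style.haveILetI false
universe u

namespace Groth.Agent.Lib.H9FinBir

open AlgebraicGeometry CategoryTheory CategoryTheory.Limits TopologicalSpace
open nonZeroDivisors

variable {X Y Z : Scheme.{u}}

/-- gluing of local unique lifts, for an open cover. -/
theorem existsUnique_lift_of_cover (f : X ⟶ Y) (g : Z ⟶ Y) (𝒰 : Z.OpenCover)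
    (h : ∀ (i : 𝒰.I₀) (T : Scheme.{u}) (j : T ⟶ Z) [IsOpenImmersion j],
      Set.range j ⊆ Set.range (𝒰.f i) → ∃! k : T ⟶ X, k ≫ f = j ≫ g) :
    ∃! k : Z ⟶ X, k ≫ f = g := by
  choose k hk hkuniq using fun i => h i (𝒰.X i) (𝒰.f i) subset_rfl
  have hcompat : ∀ x y : 𝒰.I₀, pullback.fst (𝒰.f x) (𝒰.f y) ≫ k x = pullback.snd _ _ ≫ k y := by
    intro x y
    have hr : Set.range (pullback.fst (𝒰.f x) (𝒰.f y) ≫ 𝒰.f x) ⊆ Set.range (𝒰.f x) := by
      rintro _ ⟨p, rfl⟩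
      exact ⟨pullback.fst (𝒰.f x) (𝒰.f y) p, rfl⟩
    apply (h x _ (pullback.fst (𝒰.f x) (𝒰.f y) ≫ 𝒰.f x) hr).unique
    · rw [Category.assoc, hk x, Category.assoc]
    · rw [Category.assoc, hk y, Category.assoc, pullback.condition_assoc]
  refine ⟨𝒰.glueMorphisms k hcompat, ?_, ?_⟩
  · apply 𝒰.hom_ext
    intro z
    rw [← Category.assoc, Scheme.Cover.ι_glueMorphisms]
    exact hk z
  · intro k' hk'
    apply 𝒰.hom_ext
    intro z
    rw [Scheme.Cover.ι_glueMorphisms]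
    apply hkuniq z
    rw [Category.assoc, hk']

/-- gluing of local unique lifts. -/
theorem existsUnique_lift_of_local (f : X ⟶ Y) (g : Z ⟶ Y)
    (h : ∀ z : Z, ∃ W : Z.Opens, z ∈ W ∧ ∀ (T : Scheme.{u}) (j : T ⟶ Z) [IsOpenImmersion j],
      Set.range j ⊆ (W : Set Z) → ∃! k : T ⟶ X, k ≫ f = j ≫ g) :
    ∃! k : Z ⟶ X, k ≫ f = g := by
  choose W hzW hW using h
  have hcov : IsOpenCover W := by
    rw [IsOpenCover, eq_top_iff]
    intro z _
    exact Opens.mem_iSup.mpr ⟨z, hzW z⟩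
  apply existsUnique_lift_of_cover f g (Z.openCoverOfIsOpenCover W hcov)
  intro i T j _ hj
  have hi : Set.range ((Z.openCoverOfIsOpenCover W hcov).f i) = ((W i : Z.Opens) : Set Z) :=
    Scheme.Opens.range_ι (W i)
  exact hW i T j (hj.trans hi.le)

open Groth.Agent.Lib.H9AffBlow Groth.Agent.Lib.H9BlowExist Groth.Agent.Lib.H9BlowGlue in
/-- unique lifts over an affine open where the ring map has the blow-up chart property. -/
theorem existsUnique_lift_of_affine (f : X ⟶ Y) (I : Y.IdealSheafData) (U : Y.Opens)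
    (hU : IsAffineOpen U) (hfU : IsAffineOpen (f ⁻¹ᵁ U))
    (hinj : Function.Injective (f.app U).hom)
    (hIB : ((I.ideal ⟨U, hU⟩).map (f.app U).hom : Set Γ(X, f ⁻¹ᵁ U)) ⊆
      (f.app U).hom '' (I.ideal ⟨U, hU⟩ : Set Γ(Y, U)))
    (s : Γ(X, f ⁻¹ᵁ U)) (hgen : (I.ideal ⟨U, hU⟩).map (f.app U).hom = Ideal.span {s})
    {T : Scheme.{u}} (g' : T ⟶ Y) (hg' : Set.range g' ⊆ (U : Set Y))
    (hEC : BlowUp.IsEffCartierIdeal (I.comap g')) :
    ∃! k : T ⟶ X, k ≫ f = g' := by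
  letI : Algebra Γ(Y, U) Γ(X, f ⁻¹ᵁ U) := (f.app U).hom.toAlgebra
  have hr : Set.range g' ⊆ Set.range hU.fromSpec := by rw [hU.range_fromSpec]; exact hg'
  set g2 := IsOpenImmersion.lift hU.fromSpec g' hr with hg2
  have hfac : g2 ≫ hU.fromSpec = g' := IsOpenImmersion.lift_fac _ _ _
  have hEC' : BlowUp.IsEffCartierIdeal ((Curv2.idealSheaf Γ(Y, U) (I.ideal ⟨U, hU⟩)).comap g2) := by
    rw [← comap_fromSpec, ← Scheme.IdealSheafData.comap_comp, hfac]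
    exact hEC
  have hsq : Spec.map (f.app U) ≫ hU.fromSpec = hfU.fromSpec ≫ f := by
    have := IsAffineOpen.SpecMap_appLE_fromSpec f hU hfU le_rfl
    rwa [← Scheme.Hom.app_eq_appLE] at this
  obtain ⟨h2, hh2, huniq⟩ := existsUnique_lift_scheme (A := Γ(Y, U)) (B := Γ(X, f ⁻¹ᵁ U))
    (I.ideal ⟨U, hU⟩) hinj hIB s hgen g2 hEC'
  have hh3 : h2 ≫ Spec.map (f.app U) = g2 := hh2
  refine ⟨h2 ≫ hfU.fromSpec, ?_, ?_⟩
  · show (h2 ≫ hfU.fromSpec) ≫ f = g'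
    rw [Category.assoc, ← hsq, ← Category.assoc, hh3, hfac]
  · intro k₁ hk₁
    have hr₁ : Set.range k₁ ⊆ Set.range hfU.fromSpec := by
      rw [hfU.range_fromSpec]
      rintro _ ⟨t, rfl⟩
      show f (k₁ t) ∈ U
      have : (k₁ ≫ f) t = g' t := by rw [hk₁]
      have h2 : g' t ∈ (U : Set Y) := hg' ⟨t, rfl⟩
      rw [← this] at h2
      exact h2
    have hfac₁ : IsOpenImmersion.lift hfU.fromSpec k₁ hr₁ ≫ hfU.fromSpec = k₁ :=
      IsOpenImmersion.lift_fac _ _ _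
    have h3 : IsOpenImmersion.lift hfU.fromSpec k₁ hr₁ ≫ Spec.map (f.app U) = g2 := by
      rw [← cancel_mono hU.fromSpec, Category.assoc, hsq, ← Category.assoc, hfac₁, hk₁, hfac]
    have h4 := huniq _ h3
    rw [← hfac₁, h4]

open Groth.Agent.Lib.H9BlowGlue in
/-- a morphism which, locally over affine opens of the base, looks like an affine blow-up chart
`A ↪ B` with `I B = I = (s)`, is a blow-up. -/
theorem isBlowUp_of_affine_local (f : X ⟶ Y) (I : Y.IdealSheafData)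
    (hloc : ∀ y : Y, ∃ (U : Y.Opens) (hU : IsAffineOpen U) (_ : IsAffineOpen (f ⁻¹ᵁ U)), y ∈ U ∧
      Function.Injective (f.app U).hom ∧
      ((I.ideal ⟨U, hU⟩).map (f.app U).hom : Set Γ(X, f ⁻¹ᵁ U)) ⊆
        (f.app U).hom '' (I.ideal ⟨U, hU⟩ : Set Γ(Y, U)) ∧
      ∃ s : Γ(X, f ⁻¹ᵁ U), s ∈ Γ(X, f ⁻¹ᵁ U)⁰ ∧
        (I.ideal ⟨U, hU⟩).map (f.app U).hom = Ideal.span {s}) :
    BlowUp.IsBlowUp f I := by
  refine ⟨?_, ?_⟩
  · intro x
    obtain ⟨U, hU, hfU, hyU, -, -, s, hs, hgen⟩ := hloc (f x)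
    refine ⟨⟨f ⁻¹ᵁ U, hfU⟩, hyU, s, hs, ?_⟩
    rw [Groth.Agent.Lib.Helper22.IdealComap.ideal_comap_eq_map f I ⟨f ⁻¹ᵁ U, hfU⟩ ⟨U, hU⟩ le_rfl,
      ← hgen, ← Scheme.Hom.app_eq_appLE]
  · intro Z g hg
    apply existsUnique_lift_of_local f g
    intro z
    obtain ⟨U, hU, hfU, hyU, hinj, hIB, s, hs, hgen⟩ := hloc (g z)
    refine ⟨g ⁻¹ᵁ U, hyU, ?_⟩
    intro T j _ hj
    apply existsUnique_lift_of_affine f I U hU hfU hinj hIB s hgen (j ≫ g)
    · rintro _ ⟨t, rfl⟩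
      exact hj ⟨t, rfl⟩
    · rw [Scheme.IdealSheafData.comap_comp]
      exact effCartier_comap_of_isOpenImmersion _ hg j

end Groth.Agent.Lib.H9FinBir
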