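import Mathlib
import Groth.Prelude
import Groth.Agent.Lib.H9FinBir
import Groth.Agent.Lib.Helper20EffCartier

set_option autoImplicit false
universe u

namespace Groth.Agent.Lib.H9FinBir2

open AlgebraicGeometry CategoryTheory CategoryTheory.Limits TopologicalSpace
open nonZeroDivisors

variable {X Y : Scheme.{u}}

/-- uniform exponent from finiteness. -/
theorem exists_pow_mul_mem_range {A B : Type*} [CommRing A] [CommRing B] (φ : A →+* B)
    (hfin : φ.Finite) (t : A) (h : ∀ b : B, ∃ n : ℕ, ∃ a : A, φ a = φ t ^ n * b) :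
    ∃ N : ℕ, ∀ b : B, ∃ a : A, φ a = φ t ^ N * b := by
  letI : Algebra A B := φ.toAlgebra
  have hfin' : Module.Finite A B := hfin
  obtain ⟨s, hs⟩ := hfin'.fg_top
  choose n hn using h
  refine ⟨s.sup n, fun b => ?_⟩
  have hb : b ∈ Submodule.span A (s : Set B) := by rw [hs]; trivial
  induction hb using Submodule.span_induction with
  | mem x hx =>
    obtain ⟨a, ha⟩ := hn x
    have hle : n x ≤ s.sup n := Finset.le_sup hx
    refine ⟨t ^ (s.sup n - n x) * a, ?_⟩
    rw [map_mul, map_pow, ha, ← mul_assoc, ← pow_add, Nat.sub_add_cancel hle]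
  | zero => exact ⟨0, by simp⟩
  | add x y _ _ hx hy =>
    obtain ⟨a, ha⟩ := hx
    obtain ⟨a', ha'⟩ := hy
    exact ⟨a + a', by rw [map_add, ha, ha', mul_add]⟩
  | smul c x _ hx =>
    obtain ⟨a, ha⟩ := hx
    refine ⟨c * a, ?_⟩
    rw [map_mul, ha, Algebra.smul_def]
    show φ c * _ = _ * (φ c * x)
    ring

theorem mem_support_iff_notMem_basicOpen (L : Y.IdealSheafData) {U : Y.Opens} (hU : IsAffineOpen U)
    (t : Γ(Y, U)) (ht : L.ideal ⟨U, hU⟩ = Ideal.span {t}) (y : Y) (hy : y ∈ U) :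
    y ∈ L.support ↔ y ∉ Y.basicOpen t := by
  rw [Scheme.IdealSheafData.mem_support_iff_of_mem (U := ⟨U, hU⟩) hy, ht, Scheme.zeroLocus_span,
    Scheme.mem_zeroLocus_iff]
  simp

theorem isIso_app_of_le (f : X ⟶ Y) (V : Y.Opens) [IsIso (f ∣_ V)] (W : Y.Opens) (hW : W ≤ V) :
    IsIso (f.app W) := by
  have h1 : V.ι ''ᵁ (V.ι ⁻¹ᵁ W) = W := by
    rw [Scheme.Hom.image_preimage_eq_opensRange_inf, Scheme.Opens.opensRange_ι]
    exact inf_eq_right.mpr hW
  have h2 : IsIso ((f ∣_ V).app (V.ι ⁻¹ᵁ W)) := inferInstance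
  rw [morphismRestrict_app] at h2
  have h3 : IsIso (f.app (V.ι ''ᵁ (V.ι ⁻¹ᵁ W))) :=
    @IsIso.of_isIso_comp_right _ _ _ _ _ (f.app (V.ι ''ᵁ (V.ι ⁻¹ᵁ W)))
      (X.presheaf.map (eqToHom (image_morphismRestrict_preimage f V (V.ι ⁻¹ᵁ W))).op) inferInstance h2
  exact h1 ▸ h3

theorem app_mem_nonZeroDivisors [IsReduced X] (f : X ⟶ Y) (L : Y.IdealSheafData)
    (hdense : Dense (f.base ⁻¹' ((L.support : Set Y)ᶜ)))
    {U : Y.Opens} (hU : IsAffineOpen U) (t : Γ(Y, U)) (ht : L.ideal ⟨U, hU⟩ = Ideal.span {t}) :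
    (f.app U).hom t ∈ Γ(X, f ⁻¹ᵁ U)⁰ := by
  rw [mem_nonZeroDivisors_iff_right]
  intro b hb
  rw [← basicOpen_eq_bot_iff]
  by_contra hne
  have hne' : ((X.basicOpen b : X.Opens) : Set X).Nonempty := by
    rw [Set.nonempty_iff_ne_empty]
    intro h
    exact hne (Opens.ext h)
  obtain ⟨x, hx1, hx2⟩ := hdense.inter_open_nonempty _ (X.basicOpen b).isOpen hne'
  have hxU : x ∈ f ⁻¹ᵁ U := X.basicOpen_le b hx1
  have h2 : f x ∈ Y.basicOpen t := by
    by_contra h
    exact hx2 ((mem_support_iff_notMem_basicOpen L hU t ht (f x) hxU).mpr h)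
  have h3 : x ∈ X.basicOpen ((f.app U).hom t) := by
    rw [← Scheme.preimage_basicOpen]; exact h2
  have h4 : x ∈ X.basicOpen (b * (f.app U).hom t) := by
    rw [Scheme.basicOpen_mul]; exact ⟨hx1, h3⟩
  rw [hb, Scheme.basicOpen_zero] at h4
  exact h4

theorem app_injective (f : X ⟶ Y) {U : Y.Opens} (hU : IsAffineOpen U) (t : Γ(Y, U))
    (ht : t ∈ Γ(Y, U)⁰) [IsIso (f.app (Y.basicOpen t))] : Function.Injective (f.app U).hom := by
  rw [injective_iff_map_eq_zero]
  intro a ha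
  have hnat := f.naturality (homOfLE (Y.basicOpen_le t)).op
  have h1 : (f.app (Y.basicOpen t)).hom
      ((Y.presheaf.map (homOfLE (Y.basicOpen_le t)).op).hom a) = 0 := by
    have := congrArg (fun g => g.hom a) hnat
    simp only [CommRingCat.hom_comp, RingHom.comp_apply] at this
    rw [this, ha, map_zero]
  have hinj : Function.Injective (f.app (Y.basicOpen t)).hom :=
    ((ConcreteCategory.isIso_iff_bijective (f.app (Y.basicOpen t))).mp inferInstance).1
  have h2 : (Y.presheaf.map (homOfLE (Y.basicOpen_le t)).op).hom a = 0 :=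
    hinj (by rw [h1, map_zero])
  obtain ⟨n, hn⟩ := exists_pow_mul_eq_zero_of_res_basicOpen_eq_zero_of_isAffineOpen Y hU a t h2
  exact (mem_nonZeroDivisors_iff_left.mp (pow_mem ht n)) a hn

theorem exists_pow_mul_eq_zero' (X : Scheme.{u}) {U : X.Opens} (hU : IsAffineOpen U)
    (x s : Γ(X, U)) (V : X.Opens) (hV : V = X.basicOpen s) (hVU : V ≤ U)
    (H : (X.presheaf.map (homOfLE hVU).op).hom x = 0) : ∃ n : ℕ, s ^ n * x = 0 := by
  subst hV
  exact exists_pow_mul_eq_zero_of_res_basicOpen_eq_zero_of_isAffineOpen X hU x s H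

theorem exists_pow_mul_eq_app (f : X ⟶ Y) {U : Y.Opens} (hU : IsAffineOpen U)
    (hfU : IsAffineOpen (f ⁻¹ᵁ U)) (t : Γ(Y, U)) [IsIso (f.app (Y.basicOpen t))]
    (hφt : (f.app U).hom t ∈ Γ(X, f ⁻¹ᵁ U)⁰) (b : Γ(X, f ⁻¹ᵁ U)) :
    ∃ n : ℕ, ∃ a : Γ(Y, U), (f.app U).hom a = (f.app U).hom t ^ n * b := by
  have hnat := f.naturality (homOfLE (Y.basicOpen_le t)).op
  have hnat' : ∀ a : Γ(Y, U), (f.app (Y.basicOpen t)).hom
      ((Y.presheaf.map (homOfLE (Y.basicOpen_le t)).op).hom a) =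
      (X.presheaf.map ((Opens.map f.base).map (homOfLE (Y.basicOpen_le t))).op).hom
        ((f.app U).hom a) := by
    intro a
    have := congrArg (fun g => g.hom a) hnat
    simp only [CommRingCat.hom_comp, RingHom.comp_apply] at this
    exact this
  have hsurj : Function.Surjective (f.app (Y.basicOpen t)).hom :=
    ((ConcreteCategory.isIso_iff_bijective (f.app (Y.basicOpen t))).mp inferInstance).2
  obtain ⟨c, hc⟩ := hsurj
    ((X.presheaf.map ((Opens.map f.base).map (homOfLE (Y.basicOpen_le t))).op).hom b)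
  have inst := hU.isLocalization_basicOpen t
  obtain ⟨⟨a, s⟩, hs⟩ := IsLocalization.surj (Submonoid.powers t) c
  obtain ⟨n, hn⟩ := s.2
  have hs' : c * (Y.presheaf.map (homOfLE (Y.basicOpen_le t)).op).hom (t ^ n) =
      (Y.presheaf.map (homOfLE (Y.basicOpen_le t)).op).hom a := by
    have hn' : t ^ n = (s : Γ(Y, U)) := hn
    rw [hn']; exact hs
  have h0 : (X.presheaf.map ((Opens.map f.base).map (homOfLE (Y.basicOpen_le t))).op).hom
      ((f.app U).hom a - (f.app U).hom t ^ n * b) = 0 := by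
    rw [map_sub, map_mul, ← map_pow, ← hnat', ← hnat', ← hc, ← map_mul, ← hs', mul_comm,
      sub_self]
  obtain ⟨m, hm⟩ := exists_pow_mul_eq_zero' X hfU _ ((f.app U).hom t) (f ⁻¹ᵁ Y.basicOpen t)
    (Scheme.preimage_basicOpen f t) _ h0
  have := mem_nonZeroDivisors_iff_left.mp (pow_mem hφt m) _ hm
  exact ⟨n, a, sub_eq_zero.mp this⟩

/-- the local structure. -/
theorem local_data [IsReduced X] (f : X ⟶ Y) [IsFinite f] (L : Y.IdealSheafData)
    (hiso : IsIso (f ∣_ L.support.compl))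
    (hdense : Dense (f.base ⁻¹' ((L.support : Set Y)ᶜ)))
    {U : Y.Opens} (hU : IsAffineOpen U) (t : Γ(Y, U)) (ht : t ∈ Γ(Y, U)⁰)
    (hLt : L.ideal ⟨U, hU⟩ = Ideal.span {t}) :
    Function.Injective (f.app U).hom ∧ (f.app U).hom t ∈ Γ(X, f ⁻¹ᵁ U)⁰ ∧
      ∃ N : ℕ, ∀ b : Γ(X, f ⁻¹ᵁ U), ∃ a : Γ(Y, U), (f.app U).hom a = (f.app U).hom t ^ N * b := by
  have hle : Y.basicOpen t ≤ L.support.compl := by
    intro y hy
    have hyU : y ∈ U := Y.basicOpen_le t hy
    show y ∉ (L.support : Set Y)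
    intro h
    exact (mem_support_iff_notMem_basicOpen L hU t hLt y hyU).mp h hy
  have : IsIso (f.app (Y.basicOpen t)) := isIso_app_of_le f L.support.compl _ hle
  have hφt := app_mem_nonZeroDivisors f L hdense hU t hLt
  refine ⟨app_injective f hU t ht, hφt, ?_⟩
  exact exists_pow_mul_mem_range (f.app U).hom (IsFinite.finite_app f U hU) t
    (exists_pow_mul_eq_app f hU (hU.preimage f) t hφt)

theorem dense_compl_support [IsReduced Y] (L : Y.IdealSheafData)
    (hL : BlowUp.IsEffCartierIdeal L) : Dense ((L.support : Set Y)ᶜ) := by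
  rw [dense_iff_inter_open]
  rintro W hW ⟨y, hyW⟩
  obtain ⟨U, hU, hyU, hUW, t, ht, hLt⟩ :=
    Groth.Agent.Lib.Helper20.EffCartier.exists_le_of_isEffCartierIdeal hL y ⟨W, hW⟩ hyW
  have hne : Y.basicOpen t ≠ ⊥ := by
    rw [Ne, basicOpen_eq_bot_iff]
    intro h0
    haveI : Nonempty U := ⟨⟨y, hyU⟩⟩
    exact nonZeroDivisors.ne_zero ht h0
  obtain ⟨z, hz⟩ : ∃ z, z ∈ Y.basicOpen t := by
    by_contra h
    push Not at h
    exact hne (Opens.ext (Set.eq_empty_of_forall_notMem h))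
  refine ⟨z, hUW (Y.basicOpen_le t hz), ?_⟩
  intro hzL
  exact (mem_support_iff_notMem_basicOpen L hU t hLt z (Y.basicOpen_le t hz)).mp hzL hz

theorem surjective_of_isIso_restrict [IsReduced Y] (f : X ⟶ Y) [IsFinite f]
    (L : Y.IdealSheafData) (hL : BlowUp.IsEffCartierIdeal L)
    (hiso : IsIso (f ∣_ L.support.compl)) : Function.Surjective f := by
  have hcl : IsClosed (Set.range f) := f.isClosedMap.isClosed_range
  have hsub : (L.support : Set Y)ᶜ ⊆ Set.range f := by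
    intro y hy
    have hsurj : Function.Surjective (f ∣_ L.support.compl) :=
      (inferInstance : Surjective (f ∣_ L.support.compl)).surj
    obtain ⟨x, hx⟩ := hsurj ⟨y, hy⟩
    refine ⟨x.1, ?_⟩
    rw [← morphismRestrict_base_coe, hx]
  have hd : Dense (Set.range f) := (dense_compl_support L hL).mono hsub
  have : Set.range f = Set.univ := by rw [← hcl.closure_eq, hd.closure_eq]
  exact Set.range_eq_univ.mp this

/-- the ideal sheaf `ker (O_Y → f_* (O_X / L^N O_X))`. -/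
noncomputable def theIdeal (f : X ⟶ Y) (L : Y.IdealSheafData) (N : ℕ) : Y.IdealSheafData :=
  ((L ^ N).comap f).map f

theorem theIdeal_ideal (f : X ⟶ Y) [IsAffineHom f] (L : Y.IdealSheafData) (N : ℕ)
    {U : Y.Opens} (hU : IsAffineOpen U) (t : Γ(Y, U)) (hLt : L.ideal ⟨U, hU⟩ = Ideal.span {t}) :
    (theIdeal f L N).ideal ⟨U, hU⟩ =
      (Ideal.span {(f.app U).hom t ^ N}).comap (f.app U).hom := by
  rw [theIdeal, Scheme.IdealSheafData.ideal_map_of_isAffineHom,
    Groth.Agent.Lib.Helper22.IdealComap.ideal_comap_eq_map f _ ⟨f ⁻¹ᵁ U, hU.preimage f⟩ ⟨U, hU⟩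
      le_rfl, ← Scheme.Hom.app_eq_appLE]
  congr 1
  rw [Scheme.IdealSheafData.ideal_pow, Pi.pow_apply, hLt, Ideal.span_singleton_pow, Ideal.map_span,
    Set.image_singleton, map_pow]

theorem ring_conditions {A B : Type*} [CommRing A] [CommRing B] (φ : A →+* B) (s : B) (a₀ : A)
    (ha₀ : φ a₀ = s) (h : ∀ b : B, ∃ a : A, φ a = s * b) :
    ((((Ideal.span {s}).comap φ).map φ : Ideal B) : Set B) ⊆
        φ '' (((Ideal.span {s}).comap φ : Ideal A) : Set A) ∧
      ((Ideal.span {s}).comap φ).map φ = Ideal.span {s} := by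
  have hle : ((Ideal.span {s}).comap φ).map φ ≤ Ideal.span {s} := Ideal.map_comap_le
  refine ⟨?_, le_antisymm hle ?_⟩
  · intro b' hb'
    obtain ⟨b, rfl⟩ := Ideal.mem_span_singleton'.mp (hle hb')
    obtain ⟨a, ha⟩ := h b
    refine ⟨a, ?_, by rw [ha, mul_comm]⟩
    show φ a ∈ Ideal.span {s}
    rw [ha]
    exact Ideal.mul_mem_right _ _ (Ideal.mem_span_singleton_self s)
  · rw [Ideal.span_singleton_le_iff_mem]
    have hmem : a₀ ∈ (Ideal.span {s}).comap φ := by
      show φ a₀ ∈ Ideal.span {s}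
      rw [ha₀]
      exact Ideal.mem_span_singleton_self s
    have := Ideal.mem_map_of_mem φ hmem
    rwa [ha₀] at this

theorem main7894 [IsNoetherian X] [IsNoetherian Y] [IsReduced X] [IsReduced Y] (f : X ⟶ Y)
    [IsFinite f] (L : Y.IdealSheafData) (hL : BlowUp.IsEffCartierIdeal L)
    (hiso : IsIso (f ∣_ L.support.compl))
    (hdense : Dense (f.base ⁻¹' ((L.support : Set Y)ᶜ))) :
    ∃ I : Y.IdealSheafData, I.support = L.support ∧ BlowUp.IsBlowUp f I := by
  have h1 : ∀ y : Y, ∃ (U : Y.Opens) (hU : IsAffineOpen U) (t : Γ(Y, U)) (N : ℕ), y ∈ U ∧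
      L.ideal ⟨U, hU⟩ = Ideal.span {t} ∧ Function.Injective (f.app U).hom ∧
      (f.app U).hom t ∈ Γ(X, f ⁻¹ᵁ U)⁰ ∧
      ∀ b : Γ(X, f ⁻¹ᵁ U), ∃ a : Γ(Y, U), (f.app U).hom a = (f.app U).hom t ^ N * b := by
    intro y
    obtain ⟨U, hyU, t, ht, hLt⟩ := hL y
    obtain ⟨hinj, hφt, N, hN⟩ := local_data f L hiso hdense U.2 t ht hLt
    exact ⟨U.1, U.2, t, N, hyU, hLt, hinj, hφt, hN⟩
  choose U hU t N hyU hLt hinj hφt hN using h1
  obtain ⟨S, hS⟩ := CompactSpace.elim_nhds_subcover (fun y => (U y : Set Y))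
    (fun y => (U y).isOpen.mem_nhds (hyU y))
  have hsurj := surjective_of_isIso_restrict f L hL hiso
  refine ⟨theIdeal f L (S.sup N + 1), ?_, ?_⟩
  · rw [theIdeal, Scheme.IdealSheafData.support_map, Scheme.IdealSheafData.support_comap,
      Scheme.IdealSheafData.support_pow _ _ (Nat.succ_ne_zero _)]
    apply Closeds.ext
    rw [Closeds.coe_closure, Closeds.coe_preimage, Set.image_preimage_eq _ hsurj]
    exact L.support.isClosed.closure_eq
  · apply Groth.Agent.Lib.H9FinBir.isBlowUp_of_affine_local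
    intro y
    obtain ⟨y', hy'S, hyU'⟩ : ∃ y' ∈ S, y ∈ U y' := by
      have : y ∈ ⋃ y' ∈ S, (U y' : Set Y) := by rw [hS]; trivial
      simpa using this
    have hNM : N y' ≤ S.sup N + 1 := (Finset.le_sup hy'S).trans (Nat.le_succ _)
    have hM : ∀ b, ∃ a, (f.app (U y')).hom a =
        (f.app (U y')).hom (t y') ^ (S.sup N + 1) * b := by
      intro b
      obtain ⟨a, ha⟩ := hN y' b
      refine ⟨t y' ^ (S.sup N + 1 - N y') * a, ?_⟩
      rw [map_mul, map_pow, ha, ← mul_assoc, ← pow_add, Nat.sub_add_cancel hNM]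
    have hI := theIdeal_ideal f L (S.sup N + 1) (hU y') (t y') (hLt y')
    obtain ⟨c1, c2⟩ := ring_conditions (f.app (U y')).hom
      ((f.app (U y')).hom (t y') ^ (S.sup N + 1)) (t y' ^ (S.sup N + 1)) (map_pow _ _ _) hM
    refine ⟨U y', hU y', (hU y').preimage f, hyU', hinj y', ?_,
      (f.app (U y')).hom (t y') ^ (S.sup N + 1), pow_mem (hφt y') _, ?_⟩
    · rw [hI]; exact c1
    · rw [hI]; exact c2

end Groth.Agent.Lib.H9FinBir2
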