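import Groth.Agent.Lib.Helper27PMapTwist
import Groth.Agent.Lib.Helper27ProjClosed
import Groth.Agent.Lib.Helper27PnChart
import Groth.Prelude.Def_ega3
set_option backward.isDefEq.respectTransparency.types false

/-!
# `Proj S ⟶ P^r_A` for a graded algebra generated in degree one (helper2, round 2)

* `iso_of_pullback_iso` : pullback along an isomorphism reflects isomorphy of objects;
* `nonempty_pullback_twist_iso` : `(Proj.map φ)^* O(n) ≅ O(n)` when the source ring is covered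
  by degree-one elements;
* `psi` : the graded homomorphism `A[x_0..x_r] → S`, `x_j ↦ g_j`; `emb` : the closed immersion
  `Proj S ⟶ P^r_A`; `emb_over`; `nonempty_pullback_twistProjSpace_iso`.
-/

set_option autoImplicit false
universe u

namespace Groth.Agent.Lib.R2H2.ProjEmbed

open CategoryTheory CategoryTheory.Limits AlgebraicGeometry Opposite
open Groth.Agent.Helper13RelProj

section Gen

variable {X Y : Scheme.{u}}

/-- pullback along an isomorphism reflects isomorphy of objects -/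
theorem nonempty_iso_of_pullback_iso (f : X ⟶ Y) [IsIso f] {M N : Y.Modules}
    (E : (Scheme.Modules.pullback f).obj M ≅ (Scheme.Modules.pullback f).obj N) :
    Nonempty (M ≅ N) := by
  have h : inv f ≫ f = 𝟙 Y := IsIso.inv_hom_id f
  let T : Scheme.Modules.pullback f ⋙ Scheme.Modules.pullback (inv f) ≅ 𝟭 Y.Modules :=
    Scheme.Modules.pullbackComp (inv f) f ≪≫ Scheme.Modules.pullbackCongr h ≪≫
      Scheme.Modules.pullbackId Y
  exact ⟨(T.app M).symm ≪≫ (Scheme.Modules.pullback (inv f)).mapIso E ≪≫ T.app N⟩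

end Gen

section TwistIso

variable {R A B : Type u} [CommRing R] [CommRing A] [Algebra R A] {𝒜 : ℕ → Submodule R A}
  [GradedAlgebra 𝒜] [CommRing B] [Algebra R B] {ℬ : ℕ → Submodule R B} [GradedAlgebra ℬ]
  (φ : 𝒜 →+*ᵍ ℬ) (hφ : HomogeneousIdeal.irrelevant ℬ ≤ (HomogeneousIdeal.irrelevant 𝒜).map φ)
  {ι : Type*} (G : ι → A) (hG : ∀ i, G i ∈ 𝒜 1)

include hG in
/-- **`(Proj.map φ)^* O(n) ≅ O(n)`** when `Proj ℬ` is covered by the `D₊(φ (G i))`, `deg G i = 1` -/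
theorem nonempty_pullback_twist_iso
    (hcov : ∀ x : Proj ℬ, ∃ i, x ∈ Proj.basicOpen ℬ (φ (G i))) (n : ℤ) :
    Nonempty ((Scheme.Modules.pullback (Proj.map φ hφ)).obj (Twist.twist 𝒜 n) ≅
      Twist.twist ℬ n) := by
  let U : (Proj ℬ).Opens := ⊤
  let p : (U : Scheme.{u}) ⟶ Proj 𝒜 := U.ι ≫ Proj.map φ hφ
  have hj : IsDomOf φ U.ι := by
    intro x
    constructor
    · intro _
      obtain ⟨i, hi⟩ := hcov x
      exact ⟨1, G i, one_pos, hG i, hi⟩
    · intro _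
      exact ⟨⟨x, trivial⟩, rfl⟩
  have hp : IsPMap φ U.ι p := by
    intro d f hd hf c hc
    change c ≫ U.ι ≫ Proj.map φ hφ = _
    rw [← Category.assoc, hc]
    exact Proj.awayι_comp_map φ hφ hd f hf
  have hcov' : ∀ x : (U : Scheme.{u}), ∃ i, x ∈ p ⁻¹ᵁ Proj.basicOpen 𝒜 (G i) := by
    intro x
    obtain ⟨i, hi⟩ := hcov (U.ι.base x)
    refine ⟨i, ?_⟩
    change U.ι.base x ∈ (Proj.map φ hφ) ⁻¹ᵁ Proj.basicOpen 𝒜 (G i)
    rw [Proj.map_preimage_basicOpen]
    exact hi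
  obtain ⟨e⟩ := Groth.Agent.Lib.Helper27GrTildeSect.nonempty_pullback_twist_iso G hG hp hj hcov' n
  have e1 : (Scheme.Modules.pullback U.ι).obj
      ((Scheme.Modules.pullback (Proj.map φ hφ)).obj (Twist.twist 𝒜 n)) ≅
      (Scheme.Modules.pullback p).obj (Twist.twist 𝒜 n) :=
    (Scheme.Modules.pullbackComp U.ι (Proj.map φ hφ)).app (Twist.twist 𝒜 n)
  have e2 : (Twist.twist ℬ n).restrict U.ι ≅ (Scheme.Modules.pullback U.ι).obj (Twist.twist ℬ n) :=
    (Scheme.Modules.restrictFunctorIsoPullback U.ι).app (Twist.twist ℬ n)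
  haveI : IsIso U.ι := (Proj ℬ).topIso.isIso_hom
  exact nonempty_iso_of_pullback_iso U.ι (e1 ≪≫ e ≪≫ e2)

end TwistIso

section Embed

variable {A S : Type u} [CommRing A] [CommRing S] [Algebra A S] (𝒜 : ℕ → Submodule A S)
  [GradedAlgebra 𝒜] (r : ℕ) (g : Fin (r + 1) → S) (hg1 : ∀ i, g i ∈ 𝒜 1)

include hg1 in
theorem aeval_mem {i : ℕ} {x : MvPolynomial (Fin (r + 1)) A}
    (hx : x ∈ CohB1.polyGrading r A i) : MvPolynomial.aeval g x ∈ 𝒜 i := by
  rw [MvPolynomial.aeval_def, MvPolynomial.eval₂_eq]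
  refine Submodule.sum_mem _ (fun d hd => ?_)
  rw [← Algebra.smul_def]
  refine Submodule.smul_mem _ _ ?_
  have hdeg : ∑ j ∈ d.support, d j • 1 = i := by
    have h1 : Finsupp.weight (1 : Fin (r + 1) → ℕ) d = i := hx (MvPolynomial.mem_support_iff.1 hd)
    rw [← h1, Finsupp.weight_apply, Finsupp.sum]
    rfl
  rw [← hdeg]
  exact SetLike.prod_pow_mem_graded 𝒜 (fun _ => 1) g (fun j => d j) (fun k _ => hg1 k)

/-- the graded homomorphism `A[x_0, …, x_r] → S`, `x_j ↦ g_j` -/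
noncomputable def psi : CohB1.polyGrading r A →+*ᵍ 𝒜 where
  toRingHom := (MvPolynomial.aeval g : MvPolynomial (Fin (r + 1)) A →ₐ[A] S).toRingHom
  map_mem := fun hx => aeval_mem 𝒜 r g hg1 hx

lemma psi_apply (x : MvPolynomial (Fin (r + 1)) A) :
    psi 𝒜 r g hg1 x = MvPolynomial.aeval g x := rfl

lemma psi_X (j : Fin (r + 1)) : psi 𝒜 r g hg1 (MvPolynomial.X j) = g j := by
  rw [psi_apply, MvPolynomial.aeval_X]

lemma psi_C (a : A) : psi 𝒜 r g hg1 (MvPolynomial.C a) = algebraMap A S a := by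
  rw [psi_apply, MvPolynomial.aeval_C]

theorem psi_surjective (hgen : Algebra.adjoin A (Set.range g) = ⊤) :
    Function.Surjective (psi 𝒜 r g hg1) := by
  intro s
  have hs : s ∈ Algebra.adjoin A (Set.range g) := by rw [hgen]; trivial
  rw [Algebra.adjoin_range_eq_range_aeval] at hs
  obtain ⟨x, rfl⟩ := hs
  exact ⟨x, rfl⟩

include hg1 in
/-- the irrelevant ideal lies in the ideal generated by the `g_j` -/
theorem irrelevant_le_span (h0 : ∀ s ∈ 𝒜 0, s ∈ Set.range (algebraMap A S))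
    (hgen : Algebra.adjoin A (Set.range g) = ⊤) :
    (HomogeneousIdeal.irrelevant 𝒜).toIdeal ≤ Ideal.span (Set.range g) := by
  intro x hx
  have h0x : GradedRing.proj 𝒜 0 x = 0 := (HomogeneousIdeal.mem_irrelevant_iff _ _).1 hx
  have hdec : ∀ y : S, y ∈ Algebra.adjoin A (Set.range g) →
      ∃ (a : A) (z : S), z ∈ Ideal.span (Set.range g) ∧ y = algebraMap A S a + z := by
    intro y hy
    induction hy using Algebra.adjoin_induction with
    | mem y hy => exact ⟨0, y, Ideal.subset_span hy, by simp⟩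
    | algebraMap a => exact ⟨a, 0, Ideal.zero_mem _, by simp⟩
    | add y₁ y₂ _ _ h₁ h₂ =>
      obtain ⟨a₁, z₁, hz₁, rfl⟩ := h₁
      obtain ⟨a₂, z₂, hz₂, rfl⟩ := h₂
      exact ⟨a₁ + a₂, z₁ + z₂, Ideal.add_mem _ hz₁ hz₂, by rw [map_add]; ring⟩
    | mul y₁ y₂ _ _ h₁ h₂ =>
      obtain ⟨a₁, z₁, hz₁, rfl⟩ := h₁
      obtain ⟨a₂, z₂, hz₂, rfl⟩ := h₂
      refine ⟨a₁ * a₂, algebraMap A S a₁ * z₂ + z₁ * algebraMap A S a₂ + z₁ * z₂, ?_, by
        rw [map_mul]; ring⟩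
      exact Ideal.add_mem _ (Ideal.add_mem _ (Ideal.mul_mem_left _ _ hz₂)
        (Ideal.mul_mem_right _ _ hz₁)) (Ideal.mul_mem_left _ _ hz₂)
  obtain ⟨a, z, hz, rfl⟩ := hdec x (by rw [hgen]; trivial)
  have hle : Ideal.span (Set.range g) ≤ (HomogeneousIdeal.irrelevant 𝒜).toIdeal := by
    rw [Ideal.span_le]
    rintro _ ⟨i, rfl⟩
    change g i ∈ (HomogeneousIdeal.irrelevant 𝒜)
    rw [HomogeneousIdeal.mem_irrelevant_iff, GradedRing.proj_apply,
      DirectSum.decompose_of_mem_ne 𝒜 (hg1 i) (by norm_num)]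
  have hz0 : GradedRing.proj 𝒜 0 z = 0 := (HomogeneousIdeal.mem_irrelevant_iff _ _).1 (hle hz)
  have ha0 : GradedRing.proj 𝒜 0 (algebraMap A S a) = algebraMap A S a := by
    rw [GradedRing.proj_apply, DirectSum.decompose_of_mem_same 𝒜 (SetLike.algebraMap_mem_graded 𝒜 a)]
  rw [map_add, hz0, add_zero, ha0] at h0x
  rw [h0x, zero_add]
  exact hz

theorem irrelevant_le_map (h0 : ∀ s ∈ 𝒜 0, s ∈ Set.range (algebraMap A S))
    (hgen : Algebra.adjoin A (Set.range g) = ⊤) :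
    HomogeneousIdeal.irrelevant 𝒜 ≤
      (HomogeneousIdeal.irrelevant (CohB1.polyGrading r A)).map (psi 𝒜 r g hg1) := by
  intro x hx
  have h1 := irrelevant_le_span 𝒜 r g hg1 h0 hgen hx
  change x ∈ ((HomogeneousIdeal.irrelevant (CohB1.polyGrading r A)).map (psi 𝒜 r g hg1)).toIdeal
  rw [HomogeneousIdeal.toIdeal_map]
  refine (Ideal.span_le.2 ?_) h1
  rintro _ ⟨j, rfl⟩
  rw [← psi_X 𝒜 r g hg1 j]
  apply Ideal.mem_map_of_mem
  change MvPolynomial.X j ∈ HomogeneousIdeal.irrelevant (CohB1.polyGrading r A)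
  rw [HomogeneousIdeal.mem_irrelevant_iff, GradedRing.proj_apply,
    DirectSum.decompose_of_mem_ne (CohB1.polyGrading r A)
      (Groth.Agent.Lib.Helper27PnChart.X_mem_one r A j) (by norm_num)]

variable (h0 : ∀ s ∈ 𝒜 0, s ∈ Set.range (algebraMap A S))
  (hgen : Algebra.adjoin A (Set.range g) = ⊤)

/-- the closed immersion `Proj S ⟶ P^r_A` -/
noncomputable def emb : Proj 𝒜 ⟶ CohB1.ProjSpace r A :=
  Proj.map (psi 𝒜 r g hg1) (irrelevant_le_map 𝒜 r g hg1 h0 hgen)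

instance isClosedImmersion_emb : IsClosedImmersion (emb 𝒜 r g hg1 h0 hgen) :=
  Groth.Agent.Lib.Helper27ProjClosed.isClosedImmersion_map (psi 𝒜 r g hg1)
    (psi_surjective 𝒜 r g hg1 hgen) (irrelevant_le_map 𝒜 r g hg1 h0 hgen)

include hg1 h0 hgen in
theorem mem_basicOpen_g (x : Proj 𝒜) : ∃ j, x ∈ Proj.basicOpen 𝒜 (g j) := by
  have h := Proj.iSup_basicOpen_eq_top 𝒜 g (irrelevant_le_span 𝒜 r g hg1 h0 hgen)
  have hx : x ∈ (⨆ j, Proj.basicOpen 𝒜 (g j)) := by rw [h]; trivial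
  exact TopologicalSpace.Opens.mem_iSup.1 hx

/-- `i^* O_{P^r}(n) ≅ O_X(n)` -/
theorem nonempty_pullback_twistProjSpace_iso (n : ℤ) :
    Nonempty ((Scheme.Modules.pullback (emb 𝒜 r g hg1 h0 hgen)).obj
      (Twist.twistProjSpace r A n) ≅ Twist.twist 𝒜 n) := by
  refine nonempty_pullback_twist_iso (psi 𝒜 r g hg1) (irrelevant_le_map 𝒜 r g hg1 h0 hgen)
    (fun j : Fin (r + 1) => (MvPolynomial.X j : MvPolynomial (Fin (r + 1)) A))
    (fun j => Groth.Agent.Lib.Helper27PnChart.X_mem_one r A j) (fun x => ?_) n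
  obtain ⟨j, hj⟩ := mem_basicOpen_g 𝒜 r g hg1 h0 hgen x
  exact ⟨j, by rw [psi_X]; exact hj⟩

theorem awayι_map_toSpec {n : ℕ} (hn : 0 < n) (x : MvPolynomial (Fin (r + 1)) A)
    (hx : x ∈ CohB1.polyGrading r A n) :
    Proj.awayι 𝒜 (psi 𝒜 r g hg1 x) ((psi 𝒜 r g hg1).map_mem hx) hn ≫
      Proj.map (psi 𝒜 r g hg1) (irrelevant_le_map 𝒜 r g hg1 h0 hgen) ≫
      Proj.toSpecZero (CohB1.polyGrading r A) ≫
        Spec.map (CommRingCat.ofHom (algebraMap A (CohB1.polyGrading r A 0))) =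
    Proj.awayι 𝒜 (psi 𝒜 r g hg1 x) ((psi 𝒜 r g hg1).map_mem hx) hn ≫
      Proj.toSpecZero 𝒜 ≫ Spec.map (CommRingCat.ofHom (algebraMap A (𝒜 0))) := by
  rw [Proj.awayι_comp_map_assoc (psi 𝒜 r g hg1) (irrelevant_le_map 𝒜 r g hg1 h0 hgen) hn x hx,
    Proj.awayι_toSpecZero_assoc, Proj.awayι_toSpecZero_assoc, ← Spec.map_comp, ← Spec.map_comp,
    ← Spec.map_comp]
  congr 1
  ext a
  simp only [CommRingCat.hom_comp, CommRingCat.hom_ofHom, RingHom.coe_comp, Function.comp_apply]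
  simp only [HomogeneousLocalization.fromZeroRingHom, HomogeneousLocalization.Away.map,
    RingHom.coe_mk, MonoidHom.coe_mk, OneHom.coe_mk, HomogeneousLocalization.map_mk,
    HomogeneousLocalization.val_mk]
  have e1 : (psi 𝒜 r g hg1) ((algebraMap A (CohB1.polyGrading r A 0) a :
      CohB1.polyGrading r A 0) : MvPolynomial (Fin (r + 1)) A) =
      ((algebraMap A (𝒜 0) a : 𝒜 0) : S) := by
    change psi 𝒜 r g hg1 (algebraMap A (MvPolynomial (Fin (r + 1)) A) a) = algebraMap A S a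
    rw [MvPolynomial.algebraMap_eq, psi_C]
  congr 1
  apply Subtype.ext
  exact map_one (psi 𝒜 r g hg1)

/-- the embedding is a morphism over `Spec A` -/
theorem emb_over : emb 𝒜 r g hg1 h0 hgen ≫ CohB1.ProjSpace.toSpec r A =
    Proj 𝒜 ↘ Spec (CommRingCat.of A) := by
  change Proj.map (psi 𝒜 r g hg1) (irrelevant_le_map 𝒜 r g hg1 h0 hgen) ≫
      Proj.toSpecZero (CohB1.polyGrading r A) ≫
        Spec.map (CommRingCat.ofHom (algebraMap A (CohB1.polyGrading r A 0))) =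
    Proj.toSpecZero 𝒜 ≫ Spec.map (CommRingCat.ofHom (algebraMap A (𝒜 0)))
  refine (Proj.mapAffineOpenCover (psi 𝒜 r g hg1)
    (irrelevant_le_map 𝒜 r g hg1 h0 hgen)).openCover.hom_ext _ _ fun s => ?_
  exact awayι_map_toSpec 𝒜 r g hg1 h0 hgen s.1.2 s.2.1 s.2.2

end Embed

end Groth.Agent.Lib.R2H2.ProjEmbed
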