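import Groth.Agent.Lib.Helper27PMapTwist
import Groth.Agent.Lib.R2H2ProjEmbed
set_option backward.isDefEq.respectTransparency.types false

/-!
# `(Proj.map φ)^* O(n) ≅ O(n)` for graded algebras over different base rings (helper2, round 2)

A copy of the `PMap`/`Main` sections of `Helper27PMapSec`, `Helper27PMapTwist` and of
`R2H2ProjEmbed.nonempty_pullback_twist_iso`, with the two graded rings allowed to be algebras over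
different base rings (`𝒜 : ℕ → Submodule R A`, `ℬ : ℕ → Submodule R' B`).
-/

set_option autoImplicit false
universe u

open CategoryTheory CategoryTheory.Limits AlgebraicGeometry TopologicalSpace Opposite
  HomogeneousLocalization
open Groth.Agent.Helper13RelProj
open Groth.Agent.Lib.Helper23.SecTw Groth.Agent.Lib.Helper6 Groth.Agent.Helper13PullbackUnit
  Groth.Agent.Lib.Helper27PullGen Groth.Agent.Lib.Helper27AwayGen Groth.Agent.Lib.Helper27PMapSec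
  Groth.Agent.Lib.Helper27GrTildeSect

namespace Groth.Agent.Lib.R2H2.PMapTwist2

section PMap

variable {R R' A B : Type u} [CommRing R] [CommRing R'] [CommRing A] [Algebra R A]
  {𝒜 : ℕ → Submodule R A}
  [GradedAlgebra 𝒜] [CommRing B] [Algebra R' B] {ℬ : ℕ → Submodule R' B} [GradedAlgebra ℬ]
  {φ : 𝒜 →+*ᵍ ℬ}
variable {X : Scheme.{u}} {j : X ⟶ Proj ℬ} [IsOpenImmersion j] {p : X ⟶ Proj 𝒜}

theorem appLE_congr_hom2 {S T : Scheme.{u}} {q q' : S ⟶ T} (h : q = q') (U : T.Opens) (V : S.Opens)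
    (e : V ≤ q ⁻¹ᵁ U) : q.appLE U V e = q'.appLE U V (h ▸ e) := by
  subst h; rfl

/-- `p^♯ (a / f^k) = φ a / φ f^k`. -/
theorem appLE_awayToSection2 (hp : IsPMap φ j p) (hj : IsDomOf φ j) {d : ℕ} {f : A}
    (hf : f ∈ 𝒜 d) (hd : 0 < d) (z : Away 𝒜 f) :
    p.appLE (Proj.basicOpen 𝒜 f) (p ⁻¹ᵁ Proj.basicOpen 𝒜 f) le_rfl
        ((Proj.awayToSection 𝒜 f).hom z) =
      j.appLE (Proj.basicOpen ℬ (φ f)) (p ⁻¹ᵁ Proj.basicOpen 𝒜 f)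
        (hp.preimage_basicOpen hj hf hd).le
        ((Proj.awayToSection ℬ (φ f)).hom (Away.map φ f z)) := by
  set u := chartX hj hf hd with hu
  set W := p ⁻¹ᵁ Proj.basicOpen 𝒜 f with hW
  have hWr : W ≤ u.opensRange := by
    intro x hx
    have hx' : x ∈ j ⁻¹ᵁ Proj.basicOpen ℬ (φ f) := by
      rw [← hp.preimage_basicOpen hj hf hd]; exact hx
    have := range_chartX hj hf hd
    change x ∈ Set.range u.base
    rw [this]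
    exact hx'
  have hiso : IsIso (u.app W) := u.isIso_app W hWr
  have hinj : Function.Injective (u.app W) := (ConcreteCategory.bijective_of_isIso (u.app W)).1
  apply hinj
  -- the left hand side
  have hupW : u ⁻¹ᵁ W ≤ (u ≫ p) ⁻¹ᵁ Proj.basicOpen 𝒜 f := le_rfl
  have h1 := Scheme.Hom.appLE_comp_appLE u p (Proj.basicOpen 𝒜 f) W (u ⁻¹ᵁ W) le_rfl le_rfl
  rw [Scheme.Hom.appLE_eq_app (f := u)] at h1
  have h1' := congr($h1 ((Proj.awayToSection 𝒜 f).hom z))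
  refine h1'.trans ?_
  have hup : u ≫ p = Spec.map (CommRingCat.ofHom (Away.map φ f)) ≫ Proj.awayι 𝒜 f hf hd :=
    hp.chartX_comp hj hf hd
  rw [appLE_congr_hom2 hup]
  have h2 := Scheme.Hom.appLE_comp_appLE (Spec.map (CommRingCat.ofHom (Away.map φ f)))
    (Proj.awayι 𝒜 f hf hd) (Proj.basicOpen 𝒜 f) ⊤ (u ⁻¹ᵁ W)
    (top_le_awayι_preimage 𝒜 hf hd) le_top
  have h2' := congr($h2 ((Proj.awayToSection 𝒜 f).hom z))
  refine h2'.symm.trans ?_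
  -- the right hand side
  have h3 := Scheme.Hom.appLE_comp_appLE u j (Proj.basicOpen ℬ (φ f)) W (u ⁻¹ᵁ W)
    (hp.preimage_basicOpen hj hf hd).le le_rfl
  rw [Scheme.Hom.appLE_eq_app (f := u)] at h3
  have h3' := congr($h3 ((Proj.awayToSection ℬ (φ f)).hom (Away.map φ f z)))
  refine Eq.trans ?_ h3'.symm
  have huj : u ≫ j = Proj.awayι ℬ (φ f) (Graded.map_mem φ hf) hd := chartX_fac hj hf hd
  rw [appLE_congr_hom2 huj]
  rw [awayι_appLE_awayToSection' ℬ (Graded.map_mem φ hf) hd]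
  change (Spec.map (CommRingCat.ofHom (Away.map φ f))).appLE ⊤ (u ⁻¹ᵁ W) le_top
    ((Proj.awayι 𝒜 f hf hd).appLE (Proj.basicOpen 𝒜 f) ⊤ (top_le_awayι_preimage 𝒜 hf hd)
      ((Proj.awayToSection 𝒜 f).hom z)) = _
  rw [awayι_appLE_awayToSection 𝒜 hf hd]
  have h4 := Scheme.ΓSpecIso_inv_naturality (CommRingCat.ofHom (Away.map φ f))
  have h4' := congr($h4 z)
  change (Spec (CommRingCat.of (Away ℬ (φ f)))).presheaf.map (homOfLE _).op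
    ((Spec.map (CommRingCat.ofHom (Away.map φ f))).appTop
      ((Scheme.ΓSpecIso (CommRingCat.of (Away 𝒜 f))).inv z)) = _
  congr 1
  exact h4'.symm

end PMap

section PMapB

variable {R R' A B : Type u} [CommRing R] [CommRing R'] [CommRing A] [Algebra R A]
  {𝒜 : ℕ → Submodule R A}
  [GradedAlgebra 𝒜] [CommRing B] [Algebra R' B] {ℬ : ℕ → Submodule R' B} [GradedAlgebra ℬ]
  {φ : 𝒜 →+*ᵍ ℬ}
variable {X : Scheme.{u}} {j : X ⟶ Proj ℬ} [IsOpenImmersion j] {p : X ⟶ Proj 𝒜}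
variable {ι : Type*} (G : ι → A) (hG : ∀ i, G i ∈ 𝒜 1)

include hG in
theorem map_mem_one2 (i : ι) : φ (G i) ∈ ℬ 1 := Graded.map_mem φ (hG i)

include hG in
theorem pmap_preimage_le2 (hp : IsPMap φ j p) (hj : IsDomOf φ j) (k : ι) :
    p ⁻¹ᵁ Proj.basicOpen 𝒜 (G k) ≤ j ⁻¹ᵁ Proj.basicOpen ℬ (φ (G k)) :=
  (hp.preimage_basicOpen hj (hG k) Nat.one_pos).le

/-- `p^♯ (G i / G k) = φ (G i) / φ (G k)`. -/
theorem appLE_cfun2 (hp : IsPMap φ j p) (hj : IsDomOf φ j) (i k : ι) :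
    p.appLE (Proj.basicOpen 𝒜 (G k)) (p ⁻¹ᵁ Proj.basicOpen 𝒜 (G k)) le_rfl
        (cfun 𝒜 1 G hG i k) =
      j.appLE (Proj.basicOpen ℬ (φ (G k))) (p ⁻¹ᵁ Proj.basicOpen 𝒜 (G k))
        (pmap_preimage_le2 G hG hp hj k)
        (cfun ℬ 1 (fun i => φ (G i)) (map_mem_one2 G hG) i k) := by
  rw [← awayToSection_mk'_one 𝒜 G hG i k, appLE_awayToSection2 hp hj (hG k) Nat.one_pos,
    ← awayToSection_mk'_one ℬ (fun i => φ (G i)) (map_mem_one2 G hG) i k]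
  congr 2
  rw [mk', Away.map_mk]
  rfl

/-- `p^♯` of the transition functions of `O(n)`. -/
theorem appLE_tfun2 (hp : IsPMap φ j p) (hj : IsDomOf φ j) (p₀ q₀ : ℕ) (i k : ι) :
    p.appLE (Proj.basicOpen 𝒜 (G i) ⊓ Proj.basicOpen 𝒜 (G k))
        (p ⁻¹ᵁ Proj.basicOpen 𝒜 (G i) ⊓ p ⁻¹ᵁ Proj.basicOpen 𝒜 (G k)) le_rfl
        (tfun 𝒜 G hG p₀ q₀ i k) =
      j.appLE (Proj.basicOpen ℬ (φ (G i)) ⊓ Proj.basicOpen ℬ (φ (G k)))
        (p ⁻¹ᵁ Proj.basicOpen 𝒜 (G i) ⊓ p ⁻¹ᵁ Proj.basicOpen 𝒜 (G k))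
        (inf_le_inf (pmap_preimage_le2 G hG hp hj i) (pmap_preimage_le2 G hG hp hj k))
        (tfun ℬ (fun i => φ (G i)) (map_mem_one2 G hG) p₀ q₀ i k) := by
  rw [tfun, tfun, map_mul, map_mul, map_pow, map_pow, map_pow, map_pow]
  have e1 : p.appLE (Proj.basicOpen 𝒜 (G i) ⊓ Proj.basicOpen 𝒜 (G k))
      (p ⁻¹ᵁ Proj.basicOpen 𝒜 (G i) ⊓ p ⁻¹ᵁ Proj.basicOpen 𝒜 (G k)) le_rfl
      (resf (inf_le_right : Proj.basicOpen 𝒜 (G i) ⊓ Proj.basicOpen 𝒜 (G k) ≤ _)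
        (cfun 𝒜 1 G hG i k)) =
      resf (inf_le_right : p ⁻¹ᵁ Proj.basicOpen 𝒜 (G i) ⊓ p ⁻¹ᵁ Proj.basicOpen 𝒜 (G k) ≤ _)
        (p.appLE (Proj.basicOpen 𝒜 (G k)) (p ⁻¹ᵁ Proj.basicOpen 𝒜 (G k)) le_rfl
          (cfun 𝒜 1 G hG i k)) :=
    appLE_resf p _ _ _ _ _
  have e2 : p.appLE (Proj.basicOpen 𝒜 (G i) ⊓ Proj.basicOpen 𝒜 (G k))
      (p ⁻¹ᵁ Proj.basicOpen 𝒜 (G i) ⊓ p ⁻¹ᵁ Proj.basicOpen 𝒜 (G k)) le_rfl
      (resf (inf_le_left : Proj.basicOpen 𝒜 (G i) ⊓ Proj.basicOpen 𝒜 (G k) ≤ _)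
        (cfun 𝒜 1 G hG k i)) =
      resf (inf_le_left : p ⁻¹ᵁ Proj.basicOpen 𝒜 (G i) ⊓ p ⁻¹ᵁ Proj.basicOpen 𝒜 (G k) ≤ _)
        (p.appLE (Proj.basicOpen 𝒜 (G i)) (p ⁻¹ᵁ Proj.basicOpen 𝒜 (G i)) le_rfl
          (cfun 𝒜 1 G hG k i)) :=
    appLE_resf p _ _ _ _ _
  have e3 : j.appLE (Proj.basicOpen ℬ (φ (G i)) ⊓ Proj.basicOpen ℬ (φ (G k)))
      (p ⁻¹ᵁ Proj.basicOpen 𝒜 (G i) ⊓ p ⁻¹ᵁ Proj.basicOpen 𝒜 (G k))
      (inf_le_inf (pmap_preimage_le2 G hG hp hj i) (pmap_preimage_le2 G hG hp hj k))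
      (resf (inf_le_right : Proj.basicOpen ℬ (φ (G i)) ⊓ Proj.basicOpen ℬ (φ (G k)) ≤ _)
        (cfun ℬ 1 (fun i => φ (G i)) (map_mem_one2 G hG) i k)) =
      resf (inf_le_right : p ⁻¹ᵁ Proj.basicOpen 𝒜 (G i) ⊓ p ⁻¹ᵁ Proj.basicOpen 𝒜 (G k) ≤ _)
        (j.appLE (Proj.basicOpen ℬ (φ (G k))) (p ⁻¹ᵁ Proj.basicOpen 𝒜 (G k))
          (pmap_preimage_le2 G hG hp hj k)
          (cfun ℬ 1 (fun i => φ (G i)) (map_mem_one2 G hG) i k)) :=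
    appLE_resf j _ _ _ _ _
  have e4 : j.appLE (Proj.basicOpen ℬ (φ (G i)) ⊓ Proj.basicOpen ℬ (φ (G k)))
      (p ⁻¹ᵁ Proj.basicOpen 𝒜 (G i) ⊓ p ⁻¹ᵁ Proj.basicOpen 𝒜 (G k))
      (inf_le_inf (pmap_preimage_le2 G hG hp hj i) (pmap_preimage_le2 G hG hp hj k))
      (resf (inf_le_left : Proj.basicOpen ℬ (φ (G i)) ⊓ Proj.basicOpen ℬ (φ (G k)) ≤ _)
        (cfun ℬ 1 (fun i => φ (G i)) (map_mem_one2 G hG) k i)) =
      resf (inf_le_left : p ⁻¹ᵁ Proj.basicOpen 𝒜 (G i) ⊓ p ⁻¹ᵁ Proj.basicOpen 𝒜 (G k) ≤ _)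
        (j.appLE (Proj.basicOpen ℬ (φ (G i))) (p ⁻¹ᵁ Proj.basicOpen 𝒜 (G i))
          (pmap_preimage_le2 G hG hp hj i)
          (cfun ℬ 1 (fun i => φ (G i)) (map_mem_one2 G hG) k i)) :=
    appLE_resf j _ _ _ _ _
  rw [e1, e2, e3, e4, appLE_cfun2 G hG hp hj i k, appLE_cfun2 G hG hp hj k i]

end PMapB

section Main

variable {R R' A B : Type u} [CommRing R] [CommRing R'] [CommRing A] [Algebra R A]
  {𝒜 : ℕ → Submodule R A}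
  [GradedAlgebra 𝒜] [CommRing B] [Algebra R' B] {ℬ : ℕ → Submodule R' B} [GradedAlgebra ℬ]
  {φ : 𝒜 →+*ᵍ ℬ}
variable {U : (Proj ℬ).Opens} {p : (U : Scheme.{u}) ⟶ Proj 𝒜}
variable {ι : Type*} (G : ι → A) (hG : ∀ i, G i ∈ 𝒜 1)

include hG in
theorem image_preimage_le2 (hp : IsPMap φ U.ι p) (hj : IsDomOf φ U.ι) (i : ι) :
    U.ι ''ᵁ (p ⁻¹ᵁ Proj.basicOpen 𝒜 (G i)) ≤ Proj.basicOpen ℬ (φ (G i)) := by
  rintro _ ⟨w, hw, rfl⟩
  exact pmap_preimage_le2 G hG hp hj i hw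

include hG in
/-- **`Φ^* O(n) ≅ O(n)|_{G(φ)}`**, when `Proj 𝒜` is covered by the `D₊(G i)`, `deg G i = 1`. -/
theorem nonempty_pullback_twist_iso2 (hp : IsPMap φ U.ι p) (hj : IsDomOf φ U.ι)
    (hcov : ∀ x : (U : Scheme.{u}), ∃ i, x ∈ p ⁻¹ᵁ Proj.basicOpen 𝒜 (G i)) (n : ℤ) :
    Nonempty ((Scheme.Modules.pullback p).obj (GrTilde.tilde 𝒜 𝒜 n) ≅
      (GrTilde.tilde ℬ ℬ n).restrict U.ι) := by
  haveI : (GrTilde.tilde 𝒜 𝒜 n).IsQuasicoherent := isQuasicoherent_tilde 𝒜 𝒜 _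
  have h : ((n.toNat : ℕ) : ℤ) = ((-n).toNat : ℕ) + n := by omega
  generalize n.toNat = p₀ at h
  generalize (-n).toNat = q₀ at h
  have hH := map_mem_one2 (φ := φ) G hG
  -- the frames
  let a : ∀ i, Γ((Scheme.Modules.pullback p).obj (GrTilde.tilde 𝒜 𝒜 n),
      p ⁻¹ᵁ Proj.basicOpen 𝒜 (G i)) := fun i =>
    unitSec p (GrTilde.tilde 𝒜 𝒜 n) (le_refl (p ⁻¹ᵁ Proj.basicOpen 𝒜 (G i)))
      (zsec (hG i) n p₀ q₀ h)
  let b : ∀ i, Γ((GrTilde.tilde ℬ ℬ n).restrict U.ι, p ⁻¹ᵁ Proj.basicOpen 𝒜 (G i)) := fun i =>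
    (show Γ((GrTilde.tilde ℬ ℬ n).restrict U.ι, p ⁻¹ᵁ Proj.basicOpen 𝒜 (G i)) from
      res (GrTilde.tilde ℬ ℬ n) (image_preimage_le2 G hG hp hj i) (zsec (hH i) n p₀ q₀ h))
  have ha : ∀ i, IsGen _ _ (a i) := fun i =>
    isGen_pullback p _ _ _ (isGen_zsec (hG i) n p₀ q₀ h)
  have hb : ∀ i, IsGen _ _ (b i) := fun i =>
    isGen_restrict_of_isGen (GrTilde.tilde ℬ ℬ n) U (p ⁻¹ᵁ Proj.basicOpen 𝒜 (G i)) _
      ((isGen_zsec (hH i) n p₀ q₀ h).mono (image_preimage_le2 G hG hp hj i))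
  obtain ⟨Φ, -⟩ := exists_iso_of_frames _ _ (fun i => p ⁻¹ᵁ Proj.basicOpen 𝒜 (G i)) hcov a b ha hb
    (by
      intro i k g hg
      -- Step 1: the transition of the pulled-back frames
      have u1 := unitSec_res p (GrTilde.tilde 𝒜 𝒜 n)
        (inf_le_left : Proj.basicOpen 𝒜 (G i) ⊓ Proj.basicOpen 𝒜 (G k) ≤ _)
        (le_refl (p ⁻¹ᵁ (Proj.basicOpen 𝒜 (G i) ⊓ Proj.basicOpen 𝒜 (G k))))
        (zsec (hG i) n p₀ q₀ h)
      have u2 := unitSec_res p (GrTilde.tilde 𝒜 𝒜 n)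
        (inf_le_right : Proj.basicOpen 𝒜 (G i) ⊓ Proj.basicOpen 𝒜 (G k) ≤ _)
        (le_refl (p ⁻¹ᵁ (Proj.basicOpen 𝒜 (G i) ⊓ Proj.basicOpen 𝒜 (G k))))
        (zsec (hG k) n p₀ q₀ h)
      have s1 : res ((Scheme.Modules.pullback p).obj (GrTilde.tilde 𝒜 𝒜 n))
          (inf_le_left : p ⁻¹ᵁ Proj.basicOpen 𝒜 (G i) ⊓ p ⁻¹ᵁ Proj.basicOpen 𝒜 (G k) ≤ _) (a i) =
          p.appLE (Proj.basicOpen 𝒜 (G i) ⊓ Proj.basicOpen 𝒜 (G k))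
            (p ⁻¹ᵁ Proj.basicOpen 𝒜 (G i) ⊓ p ⁻¹ᵁ Proj.basicOpen 𝒜 (G k)) le_rfl
            (tfun 𝒜 G hG p₀ q₀ i k) •
          res ((Scheme.Modules.pullback p).obj (GrTilde.tilde 𝒜 𝒜 n))
            (inf_le_right : p ⁻¹ᵁ Proj.basicOpen 𝒜 (G i) ⊓ p ⁻¹ᵁ Proj.basicOpen 𝒜 (G k) ≤ _)
            (a k) := by
        refine u1.symm.trans ?_
        rw [res_zsec_eq_tfun 𝒜 G hG n p₀ q₀ h i k, unitSec_smul]
        congr 1
      -- Step 2: `g` is that transition function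
      have hgP : g = p.appLE (Proj.basicOpen 𝒜 (G i) ⊓ Proj.basicOpen 𝒜 (G k))
            (p ⁻¹ᵁ Proj.basicOpen 𝒜 (G i) ⊓ p ⁻¹ᵁ Proj.basicOpen 𝒜 (G k)) le_rfl
            (tfun 𝒜 G hG p₀ q₀ i k) := by
        apply ((ha k).mono (inf_le_right :
          p ⁻¹ᵁ Proj.basicOpen 𝒜 (G i) ⊓ p ⁻¹ᵁ Proj.basicOpen 𝒜 (G k) ≤ _) _ le_rfl).1
        change g • res _ le_rfl (res _ _ (a k)) = _ • res _ le_rfl (res _ _ (a k))
        rw [res_self, ← hg, s1]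
      -- Step 3: the transition of the frames of `O(n)` on `Proj ℬ`
      have hT : U.ι ''ᵁ (p ⁻¹ᵁ Proj.basicOpen 𝒜 (G i) ⊓ p ⁻¹ᵁ Proj.basicOpen 𝒜 (G k)) ≤
          Proj.basicOpen ℬ (φ (G i)) ⊓ Proj.basicOpen ℬ (φ (G k)) := by
        rintro _ ⟨w, hw, rfl⟩
        exact ⟨pmap_preimage_le2 G hG hp hj i hw.1, pmap_preimage_le2 G hG hp hj k hw.2⟩
      have t1 : res (GrTilde.tilde ℬ ℬ n) (hT.trans inf_le_left) (zsec (hH i) n p₀ q₀ h) =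
          resf hT (tfun ℬ (fun i => φ (G i)) hH p₀ q₀ i k) •
            res (GrTilde.tilde ℬ ℬ n) (hT.trans inf_le_right) (zsec (hH k) n p₀ q₀ h) := by
        have := congrArg (res (GrTilde.tilde ℬ ℬ n) hT)
          (res_zsec_eq_tfun ℬ (fun i => φ (G i)) hH n p₀ q₀ h i k)
        rw [res_res, res_smul, res_res] at this
        exact this
      have e5 : p.appLE (Proj.basicOpen 𝒜 (G i) ⊓ Proj.basicOpen 𝒜 (G k))
            (p ⁻¹ᵁ Proj.basicOpen 𝒜 (G i) ⊓ p ⁻¹ᵁ Proj.basicOpen 𝒜 (G k)) le_rfl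
            (tfun 𝒜 G hG p₀ q₀ i k) =
          (show Γ((U : Scheme.{u}),
              p ⁻¹ᵁ Proj.basicOpen 𝒜 (G i) ⊓ p ⁻¹ᵁ Proj.basicOpen 𝒜 (G k)) from
            (resf (X := Proj ℬ) hT (tfun ℬ (fun i => φ (G i)) hH p₀ q₀ i k) :
              Γ(Proj ℬ, U.ι ''ᵁ (p ⁻¹ᵁ Proj.basicOpen 𝒜 (G i) ⊓
                p ⁻¹ᵁ Proj.basicOpen 𝒜 (G k))))) := by
        rw [appLE_tfun2 G hG hp hj p₀ q₀ i k]
        have e6 := Scheme.Opens.ι_appLE U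
          (Proj.basicOpen ℬ (φ (G i)) ⊓ Proj.basicOpen ℬ (φ (G k)))
          (p ⁻¹ᵁ Proj.basicOpen 𝒜 (G i) ⊓ p ⁻¹ᵁ Proj.basicOpen 𝒜 (G k))
          (inf_le_inf (pmap_preimage_le2 G hG hp hj i) (pmap_preimage_le2 G hG hp hj k))
        exact congr($e6 (tfun ℬ (fun i => φ (G i)) hH p₀ q₀ i k))
      rw [hgP, e5, smul_restrict_eq]
      refine Eq.trans ?_ (t1.trans ?_)
      · exact res_res (GrTilde.tilde ℬ ℬ n) _ _ _
      · congr 1)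
  exact ⟨Φ⟩

end Main

section TwistIso

variable {R R' A B : Type u} [CommRing R] [CommRing R'] [CommRing A] [Algebra R A]
  {𝒜 : ℕ → Submodule R A}
  [GradedAlgebra 𝒜] [CommRing B] [Algebra R' B] {ℬ : ℕ → Submodule R' B} [GradedAlgebra ℬ]
  (φ : 𝒜 →+*ᵍ ℬ) (hφ : HomogeneousIdeal.irrelevant ℬ ≤ (HomogeneousIdeal.irrelevant 𝒜).map φ)
  {ι : Type*} (G : ι → A) (hG : ∀ i, G i ∈ 𝒜 1)

include hG in
/-- **`(Proj.map φ)^* O(n) ≅ O(n)`** when `Proj ℬ` is covered by the `D₊(φ (G i))`, `deg G i = 1` -/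
theorem nonempty_pullback_map_twist_iso
    (hcov : ∀ x : Proj ℬ, ∃ i, x ∈ Proj.basicOpen ℬ (φ (G i))) (n : ℤ) :
    Nonempty ((Scheme.Modules.pullback (Proj.map φ hφ)).obj (Twist.twist 𝒜 n) ≅
      Twist.twist ℬ n) := by
  let U : (Proj ℬ).Opens := ⊤
  let p : (U : Scheme.{u}) ⟶ Proj 𝒜 := U.ι ≫ Proj.map φ hφ
  have hj : IsDomOf φ U.ι := by
    intro x
    constructor
    · intro _
      obtain ⟨i, hi⟩ := hcov x
      exact ⟨1, G i, one_pos, hG i, hi⟩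
    · intro _
      exact ⟨⟨x, trivial⟩, rfl⟩
  have hp : IsPMap φ U.ι p := by
    intro d f hd hf c hc
    change c ≫ U.ι ≫ Proj.map φ hφ = _
    rw [← Category.assoc, hc]
    exact Proj.awayι_comp_map φ hφ hd f hf
  have hcov' : ∀ x : (U : Scheme.{u}), ∃ i, x ∈ p ⁻¹ᵁ Proj.basicOpen 𝒜 (G i) := by
    intro x
    obtain ⟨i, hi⟩ := hcov (U.ι.base x)
    refine ⟨i, ?_⟩
    change U.ι.base x ∈ (Proj.map φ hφ) ⁻¹ᵁ Proj.basicOpen 𝒜 (G i)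
    rw [Proj.map_preimage_basicOpen]
    exact hi
  obtain ⟨e⟩ := nonempty_pullback_twist_iso2 G hG hp hj hcov' n
  have e1 : (Scheme.Modules.pullback U.ι).obj
      ((Scheme.Modules.pullback (Proj.map φ hφ)).obj (Twist.twist 𝒜 n)) ≅
      (Scheme.Modules.pullback p).obj (Twist.twist 𝒜 n) :=
    (Scheme.Modules.pullbackComp U.ι (Proj.map φ hφ)).app (Twist.twist 𝒜 n)
  have e2 : (Twist.twist ℬ n).restrict U.ι ≅ (Scheme.Modules.pullback U.ι).obj (Twist.twist ℬ n) :=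
    (Scheme.Modules.restrictFunctorIsoPullback U.ι).app (Twist.twist ℬ n)
  haveI : IsIso U.ι := (Proj ℬ).topIso.isIso_hom
  exact Groth.Agent.Lib.R2H2.ProjEmbed.nonempty_iso_of_pullback_iso U.ι (e1 ≪≫ e ≪≫ e2)

end TwistIso

end Groth.Agent.Lib.R2H2.PMapTwist2
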