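import Groth.Agent.Lib.Helper16RpushNat
import Groth.Agent.Lib.Helper16Restr
import Groth.Prelude.Def_Coh

/-!
# Vanishing of a single higher direct image from vanishing over a basis (helper2, round 2)

`R^p f_* G = 0` as soon as `H^p(f⁻¹ V, G) = 0` for all `V` in a basis of the target.
-/

set_option autoImplicit false
universe u

namespace Groth.Agent.Lib.R2H2.RpushBasis

open CategoryTheory CategoryTheory.Limits TopologicalSpace Opposite AlgebraicGeometry

/-- topological form -/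
theorem isZero_Rpush_of_basis {X Y : TopCat.{u}} (g : X ⟶ Y) (G : CohTop.Ab X) (p : ℕ)
    (B : Set (Opens Y)) (hB : Opens.IsBasis B)
    (h : ∀ V ∈ B, Subsingleton (CohTop.HU G p ((Opens.map g).obj V))) :
    IsZero ((CohTop.Rpush g p).obj G) := by
  let J := Opens.grothendieckTopology X
  let K := Opens.grothendieckTopology Y
  let e : (CohTop.Rpush g p).obj G ≅
      (Groth.Agent.Lib.Helper16.RpushNat.Φ J K (Opens.map g) p).obj G :=
    (Groth.Agent.Lib.Helper16.RpushNat.natIso J K (Opens.map g) p).app G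
  refine IsZero.of_iso ?_ e
  let P : (Opens Y)ᵒᵖ ⥤ AddCommGrpCat.{u} :=
    (Groth.Agent.Lib.Helper16.RpushNat.E J (Opens.map g) p).obj G
  have hiso : IsIso ((presheafToSheaf K AddCommGrpCat.{u}).map (0 : P ⟶ P)) := by
    apply Groth.Agent.Lib.Helper16.RpushNat.isIso_sheafify_of_cover
    intro V
    refine ⟨{W : Opens Y // W ∈ B ∧ W ≤ V}, fun W => W.1, fun W => homOfLE W.2.2, ?_, ?_⟩
    · intro x hx
      obtain ⟨W, hWB, hxW, hWV⟩ := (Opens.isBasis_iff_nbhd.1 hB) hx
      exact ⟨W, homOfLE hWV,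
        Sieve.ofArrows_mk (fun W : {W : Opens Y // W ∈ B ∧ W ≤ V} => W.1)
          (fun W => homOfLE W.2.2) ⟨W, hWB, hWV⟩, hxW⟩
    · intro W
      haveI : Subsingleton (P.obj (op W.1)) := h W.1 W.2.1
      exact ⟨fun a b _ => Subsingleton.elim a b, fun b => ⟨b, Subsingleton.elim _ _⟩⟩
  rw [Functor.map_zero] at hiso
  haveI := hiso
  exact IsZero.of_epi_zero ((presheafToSheaf K AddCommGrpCat.{u}).obj P)
    ((presheafToSheaf K AddCommGrpCat.{u}).obj P)

/-- scheme form: `R^p f_* M = 0` if `H^p(f⁻¹ V, M) = 0` for all `V` in a basis of `Y` -/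
theorem isZero_RpushAb_of_basis {X Y : Scheme.{u}} (f : X ⟶ Y) (M : X.Modules) (p : ℕ)
    (B : Set Y.Opens) (hB : Opens.IsBasis B)
    (h : ∀ V ∈ B, Subsingleton (Coh.HHon X M (f ⁻¹ᵁ V) p)) :
    IsZero ((Coh.RpushAb f p).obj (Coh.toAb M)) := by
  refine isZero_Rpush_of_basis f.base (Coh.toAb M) p B hB (fun V hV => ?_)
  obtain ⟨e⟩ := Groth.Agent.Lib.Helper16.Restr.nonempty_HU_equiv (X := X.carrier) (f ⁻¹ᵁ V)
    (Coh.toAb M) p
  have h2 : Subsingleton (CohTop.H (CohTop.restr (Coh.toAb M) (f ⁻¹ᵁ V)) p) := h V hV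
  exact e.toEquiv.subsingleton

end Groth.Agent.Lib.R2H2.RpushBasis
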