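import Groth.Agent.Lib.Helper13ProjBC2
import Groth.Agent.Lib.R2H2ProjEmbed
import Groth.Agent.Lib.R2H2PMapTwist2
import Groth.Agent.Lib.R2H2PnTwEquiv
import Groth.Agent.Lib.R2H2PnFinite
import Groth.Agent.Lib.R2H2ClosedPn
import Groth.Agent.Lib.Helper2PullbackSec
import Groth.Agent.Lib.R2H2RpushBasis
set_option backward.isDefEq.respectTransparency.types false

/-!
# Projective space over a scheme, locally on the base (helper2, round 2)

* `phi`, `isPullback_phi` : `P^r_R = P^r_{R'} ×_{R'} R`;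
* `subsingleton_HH_pullback_iso_iff`, `subsingleton_HHon_opensRange_iff` : cohomology over the
  range of an open immersion;
* `a j : P^r_R ⟶ P^r_Y` over `j : Spec R ⟶ Y`, `isPullback_a`, `nonempty_pullback_twistOver_iso`;
* `subsingleton_HHon_twistOver` : `H^i(f⁻¹ V, O(d)) = H^i(P^r_R, O(d))` for `V = Spec R` open
  affine.
-/

set_option autoImplicit false
universe u

namespace Groth.Agent.Lib.R2H2.ProjOver

open CategoryTheory CategoryTheory.Limits AlgebraicGeometry TopologicalSpace Opposite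
open scoped HomogeneousIdeal

section Poly

variable (r : ℕ) (R' R : Type u) [CommRing R'] [CommRing R] [Algebra R' R]
attribute [local instance] MvPolynomial.algebraMvPolynomial

theorem isPushout_poly : IsPushout (CommRingCat.ofHom (algebraMap R' R))
    (CommRingCat.ofHom (algebraMap R' (MvPolynomial (Fin (r + 1)) R')))
    (CommRingCat.ofHom (algebraMap R (MvPolynomial (Fin (r + 1)) R)))
    (CommRingCat.ofHom (algebraMap (MvPolynomial (Fin (r + 1)) R')
      (MvPolynomial (Fin (r + 1)) R))) :=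
  CommRingCat.isPushout_of_isPushout _ _ _ _

/-- the graded base change map `R'[x] → R[x]` -/
noncomputable def phi : CohB1.polyGrading r R' →+*ᵍ CohB1.polyGrading r R where
  toRingHom := algebraMap (MvPolynomial (Fin (r + 1)) R') (MvPolynomial (Fin (r + 1)) R)
  map_mem := fun {i x} hx => by
    have h1 : x.IsHomogeneous i := (MvPolynomial.mem_homogeneousSubmodule _ _).mp hx
    exact (MvPolynomial.mem_homogeneousSubmodule _ _).mpr (h1.map (algebraMap R' R))

theorem phi_X (j : Fin (r + 1)) : phi r R' R (MvPolynomial.X j) = MvPolynomial.X j := by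
  change MvPolynomial.map (algebraMap R' R) (MvPolynomial.X j) = _
  rw [MvPolynomial.map_X]

theorem irrelevant_le_map :
    (CohB1.polyGrading r R)₊ ≤ ((CohB1.polyGrading r R')₊).map (phi r R' R) :=
  Groth.Agent.Helper13ProjBC.irrelevant_le_map_cat (isPushout_poly r R' R) (phi r R' R)
    (fun _ => rfl) (fun a => (MvPolynomial.mem_homogeneousSubmodule _ _).mpr
      (MvPolynomial.isHomogeneous_C _ a))

theorem isPullback_phi :
    IsPullback (Proj.map (phi r R' R) (irrelevant_le_map r R' R)) (CohB1.ProjSpace.toSpec r R)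
      (CohB1.ProjSpace.toSpec r R') (Spec.map (CommRingCat.ofHom (algebraMap R' R))) :=
  Groth.Agent.Helper13ProjBC.isPullback_proj_cat (isPushout_poly r R' R) (phi r R' R)
    (fun _ => rfl) (irrelevant_le_map r R' R)
    (CommRingCat.ofHom (algebraMap R' (CohB1.polyGrading r R' 0))) (fun _ => rfl)
    (CommRingCat.ofHom (algebraMap R (CohB1.polyGrading r R 0))) (fun _ => rfl)

/-- `O(d)` pulls back to `O(d)` along `P^r_R ⟶ P^r_{R'}` -/
theorem nonempty_pullback_twist_iso (d : ℤ) :
    Nonempty ((Scheme.Modules.pullback (Proj.map (phi r R' R) (irrelevant_le_map r R' R))).obj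
      (Twist.twistProjSpace r R' d) ≅ Twist.twistProjSpace r R d) := by
  have hcov : ∀ x : Proj (CohB1.polyGrading r R), ∃ j : Fin (r + 1),
      x ∈ Proj.basicOpen (CohB1.polyGrading r R) (phi r R' R (MvPolynomial.X j)) := by
    intro x
    have hx : x ∈ (⨆ i : Fin (r + 1), Proj.basicOpen (CohB1.polyGrading r R)
        (MvPolynomial.X i)) := by
      rw [Groth.Agent.Lib.Helper27PnChart.iSup_basicOpen_X]; trivial
    obtain ⟨j, hj⟩ := TopologicalSpace.Opens.mem_iSup.1 hx
    exact ⟨j, by rw [phi_X]; exact hj⟩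
  have key : Nonempty ((Scheme.Modules.pullback
      (Proj.map (phi r R' R) (irrelevant_le_map r R' R))).obj
      (Twist.twist (CohB1.polyGrading r R') d) ≅ Twist.twist (CohB1.polyGrading r R) d) :=
    Groth.Agent.Lib.R2H2.PMapTwist2.nonempty_pullback_map_twist_iso (phi r R' R)
      (irrelevant_le_map r R' R)
      (fun j : Fin (r + 1) => (MvPolynomial.X j : MvPolynomial (Fin (r + 1)) R'))
      (fun j => Groth.Agent.Lib.Helper27PnChart.X_mem_one r R' j) hcov d
  exact key

end Poly

section Iso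

variable {X Y : Scheme.{u}}

theorem isEquivalence_pullback (f : X ⟶ Y) [IsIso f] :
    (Scheme.Modules.pullback f).IsEquivalence := by
  have h1 : inv f ≫ f = 𝟙 Y := IsIso.inv_hom_id f
  have h2 : f ≫ inv f = 𝟙 X := IsIso.hom_inv_id f
  let η : 𝟭 Y.Modules ≅ Scheme.Modules.pullback f ⋙ Scheme.Modules.pullback (inv f) :=
    (Scheme.Modules.pullbackComp (inv f) f ≪≫ Scheme.Modules.pullbackCongr h1 ≪≫
      Scheme.Modules.pullbackId Y).symm
  let ε : Scheme.Modules.pullback (inv f) ⋙ Scheme.Modules.pullback f ≅ 𝟭 X.Modules :=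
    Scheme.Modules.pullbackComp f (inv f) ≪≫ Scheme.Modules.pullbackCongr h2 ≪≫
      Scheme.Modules.pullbackId X
  exact (CategoryTheory.Equivalence.mk (Scheme.Modules.pullback f) (Scheme.Modules.pullback (inv f)) η
    ε).isEquivalence_functor

/-- cohomology is invariant under pullback along an isomorphism of schemes -/
theorem subsingleton_HH_pullback_iso_iff (e : X ⟶ Y) [IsIso e] (F : Y.Modules)
    [F.IsQuasicoherent] (i : ℕ) :
    Subsingleton (Coh.HH X ((Scheme.Modules.pullback e).obj F) i) ↔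
      Subsingleton (Coh.HH Y F i) := by
  haveI := isEquivalence_pullback e
  haveI : ((Scheme.Modules.pullback e).obj F).IsQuasicoherent :=
    Groth.Agent.Lib.Helper2.PullbackSec.isQuasicoherent_pullback e F
  have h1 := Groth.Agent.Lib.R2H2.ClosedPn.subsingleton_HH_push_iff e
    ((Scheme.Modules.pullback e).obj F) inferInstance i
  rw [h1]
  let adj := Scheme.Modules.pullbackPushforwardAdjunction e
  haveI : IsIso (adj.unit.app F) := inferInstance
  let ε : F ≅ (Scheme.Modules.pushforward e).obj ((Scheme.Modules.pullback e).obj F) :=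
    asIso (adj.unit.app F)
  exact ⟨Groth.Agent.Lib.R2H2.PnSerre.subsingleton_HH_of_iso ε.symm i,
    Groth.Agent.Lib.R2H2.PnSerre.subsingleton_HH_of_iso ε i⟩

/-- cohomology over the range of an open immersion -/
theorem subsingleton_HHon_opensRange_iff (a : X ⟶ Y) [IsOpenImmersion a] (M : Y.Modules)
    [M.IsQuasicoherent] (i : ℕ) :
    Subsingleton (Coh.HHon Y M a.opensRange i) ↔
      Subsingleton (Coh.HH X ((Scheme.Modules.pullback a).obj M) i) := by
  let W : Y.Opens := a.opensRange
  let e : X ≅ (W : Scheme.{u}) := a.isoOpensRange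
  have he : e.hom ≫ W.ι = a := a.isoOpensRange_hom_ι
  let F : (W : Scheme.{u}).Modules := M.restrict W.ι
  let iso1 : (Scheme.Modules.pullback e.hom).obj F ≅ (Scheme.Modules.pullback a).obj M :=
    (Scheme.Modules.pullback e.hom).mapIso
        ((Scheme.Modules.restrictFunctorIsoPullback W.ι).app M) ≪≫
      (Scheme.Modules.pullbackComp e.hom W.ι).app M ≪≫ (Scheme.Modules.pullbackCongr he).app M
  have h1 := subsingleton_HH_pullback_iso_iff e.hom F i
  change Subsingleton (Coh.HH (W : Scheme.{u}) F i) ↔ _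
  rw [← h1]
  exact ⟨Groth.Agent.Lib.R2H2.PnSerre.subsingleton_HH_of_iso iso1 i,
    Groth.Agent.Lib.R2H2.PnSerre.subsingleton_HH_of_iso iso1.symm i⟩

end Iso

section Over

variable (r : ℕ) (R : Type u) [CommRing R]

/-- `R` as an algebra over (a universe lift of) `ℤ` -/
@[instance_reducible] noncomputable def algZ : Algebra (ULift.{u} ℤ) R :=
  ((Int.castRingHom R).comp (ULift.ringEquiv : ULift.{u} ℤ ≃+* ℤ).toRingHom).toAlgebra

attribute [local instance] algZ

variable {Y : Scheme.{u}} (j : Spec (CommRingCat.of R) ⟶ Y)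

theorem a_comm :
    Proj.map (phi r (ULift.{u} ℤ) R) (irrelevant_le_map r (ULift.{u} ℤ) R) ≫
      CohB1.ProjSpace.toSpec r (ULift.{u} ℤ) =
    (CohB1.ProjSpace.toSpec r R ≫ j) ≫ specULiftZIsTerminal.from Y := by
  rw [(isPullback_phi r (ULift.{u} ℤ) R).w, Category.assoc]
  congr 1
  exact specULiftZIsTerminal.hom_ext _ _

/-- the canonical morphism `P^r_R ⟶ P^r_Y` over `j : Spec R ⟶ Y` -/
noncomputable def a : CohB1.ProjSpace r R ⟶ CohB1.ProjSpaceOver r Y :=
  pullback.lift (Proj.map (phi r (ULift.{u} ℤ) R) (irrelevant_le_map r (ULift.{u} ℤ) R))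
    (CohB1.ProjSpace.toSpec r R ≫ j) (a_comm r R j)

theorem a_fst : a r R j ≫ pullback.fst (CohB1.ProjSpace.toSpec r (ULift.{u} ℤ))
    (specULiftZIsTerminal.from Y) =
    Proj.map (phi r (ULift.{u} ℤ) R) (irrelevant_le_map r (ULift.{u} ℤ) R) :=
  pullback.lift_fst _ _ _

theorem a_toBase : a r R j ≫ CohB1.ProjSpaceOver.toBase r Y = CohB1.ProjSpace.toSpec r R ≫ j :=
  pullback.lift_snd _ _ _

theorem isPullback_a :
    IsPullback (a r R j) (CohB1.ProjSpace.toSpec r R) (CohB1.ProjSpaceOver.toBase r Y) j := by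
  have hbig : IsPullback (a r R j ≫ pullback.fst (CohB1.ProjSpace.toSpec r (ULift.{u} ℤ))
      (specULiftZIsTerminal.from Y)) (CohB1.ProjSpace.toSpec r R)
      (CohB1.ProjSpace.toSpec r (ULift.{u} ℤ)) (j ≫ specULiftZIsTerminal.from Y) := by
    rw [a_fst]
    have h2 : j ≫ specULiftZIsTerminal.from Y =
        Spec.map (CommRingCat.ofHom (algebraMap (ULift.{u} ℤ) R)) :=
      specULiftZIsTerminal.hom_ext _ _
    rw [h2]
    exact isPullback_phi r (ULift.{u} ℤ) R
  exact IsPullback.of_right hbig (a_toBase r R j)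
    (IsPullback.of_hasPullback (CohB1.ProjSpace.toSpec r (ULift.{u} ℤ))
      (specULiftZIsTerminal.from Y))

instance isOpenImmersion_a [IsOpenImmersion j] : IsOpenImmersion (a r R j) :=
  MorphismProperty.of_isPullback (P := @IsOpenImmersion) (isPullback_a r R j).flip inferInstance

theorem opensRange_a [IsOpenImmersion j] :
    (a r R j).opensRange = CohB1.ProjSpaceOver.toBase r Y ⁻¹ᵁ j.opensRange := by
  apply TopologicalSpace.Opens.ext
  have h := Scheme.image_preimage_eq_of_isPullback (isPullback_a r R j).flip Set.univ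
  rw [Set.preimage_univ, Set.image_univ, Set.image_univ] at h
  exact h

/-- `a^* O(d) ≅ O(d)` -/
theorem nonempty_pullback_twistOver_iso (d : ℤ) :
    Nonempty ((Scheme.Modules.pullback (a r R j)).obj (Twist.twistOver r Y d) ≅
      Twist.twistProjSpace r R d) := by
  obtain ⟨e⟩ := nonempty_pullback_twist_iso r (ULift.{u} ℤ) R d
  let e1 : (Scheme.Modules.pullback (a r R j)).obj (Twist.twistOver r Y d) ≅
      (Scheme.Modules.pullback (a r R j ≫ pullback.fst (CohB1.ProjSpace.toSpec r (ULift.{u} ℤ))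
        (specULiftZIsTerminal.from Y))).obj (Twist.twistProjSpace r (ULift.{u} ℤ) d) :=
    (Scheme.Modules.pullbackComp (a r R j) (pullback.fst (CohB1.ProjSpace.toSpec r (ULift.{u} ℤ))
      (specULiftZIsTerminal.from Y))).app (Twist.twistProjSpace r (ULift.{u} ℤ) d)
  exact ⟨e1 ≪≫ (Scheme.Modules.pullbackCongr (a_fst r R j)).app _ ≪≫ e⟩

theorem isQuasicoherent_twistOver (d : ℤ) : (Twist.twistOver r Y d).IsQuasicoherent := by
  haveI := Groth.Agent.Lib.R2H2.PnFinite.isQCoh_twist r (ULift.{u} ℤ) d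
  exact Groth.Agent.Lib.Helper2.PullbackSec.isQuasicoherent_pullback _ _

/-- **cohomology of `O(d)` over the preimage of an affine open of the base** -/
theorem subsingleton_HHon_twistOver [IsOpenImmersion j] (d : ℤ) (q : ℕ)
    (h₀ : ¬ (q = 0 ∧ 0 ≤ d)) (hn : ¬ (q = r ∧ d ≤ -((r : ℤ) + 1))) :
    Subsingleton (Coh.HHon (CohB1.ProjSpaceOver r Y) (Twist.twistOver r Y d)
      (CohB1.ProjSpaceOver.toBase r Y ⁻¹ᵁ j.opensRange) q) := by
  haveI := isQuasicoherent_twistOver r (Y := Y) d
  rw [← opensRange_a r R j, subsingleton_HHon_opensRange_iff]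
  obtain ⟨e⟩ := nonempty_pullback_twistOver_iso r R j d
  exact Groth.Agent.Lib.R2H2.PnSerre.subsingleton_HH_of_iso e.symm q
    (Groth.Agent.Lib.R2H2.PnTwEquiv.subsingleton_HH_twist r R d q h₀ hn)

/-- **`R^q f_* O(d) = 0` on `P^r_Y`** outside the two exceptional ranges -/
theorem isZero_RpushAb_twistOver (Y : Scheme.{u}) (d : ℤ) (q : ℕ)
    (h₀ : ¬ (q = 0 ∧ 0 ≤ d)) (hn : ¬ (q = r ∧ d ≤ -((r : ℤ) + 1))) :
    IsZero ((Coh.RpushAb (CohB1.ProjSpaceOver.toBase r Y) q).obj
      (Coh.toAb (Twist.twistOver r Y d))) := by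
  refine Groth.Agent.Lib.R2H2.RpushBasis.isZero_RpushAb_of_basis _ _ q
    {V : Y.Opens | IsAffineOpen V} Y.isBasis_affineOpens (fun V hV => ?_)
  have hV' : IsAffineOpen V := hV
  have h := subsingleton_HHon_twistOver r Γ(Y, V) hV'.fromSpec d q h₀ hn
  rw [hV'.opensRange_fromSpec] at h
  exact h

end Over

end Groth.Agent.Lib.R2H2.ProjOver
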