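/-
helper1 (round 2): projective line facts. isPrincipalIdealRing_of_isLocalization (localization of a PID is a PID), valuationRing_stalk_of_pid (integral scheme, affine open with PID sections: stalks are valuation rings), isPrincipalIdealRing_away (chart ring of P^1 over a field), isIntegral_projSpace (Proj R[T_0..T_n] integral for a domain R), isIntegral_P1 (P^1_Y integral for Y integral), valuationRing_stalk_P1K (local rings of REq.P1K K are valuation rings).
-/
import Mathlib
import Groth.Prelude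
import Groth.Agent.Lib.R2H2ProjOver
import Groth.Agent.Lib.Helper27PnChart
import Groth.Agent.Lib.Helper13RelProjC
import Groth.Agent.Lib.R2H1P1Geom
import Groth.Agent.S3557

set_option autoImplicit false
set_option linter.style.haveILetI false
set_option linter.unusedSectionVars false
universe u v

namespace Groth.Agent.Lib.R2H1.PLineA

section Part1

open CategoryTheory CategoryTheory.Limits AlgebraicGeometry TopologicalSpace Opposite

/-- a localization of a principal ideal ring is a principal ideal ring -/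
theorem isPrincipalIdealRing_of_isLocalization {R S : Type*} [CommRing R] [CommRing S] [Algebra R S]
    (M : Submonoid R) [IsLocalization M S] [IsPrincipalIdealRing R] : IsPrincipalIdealRing S := by
  refine ⟨fun J => ?_⟩
  have h := IsLocalization.map_comap M S J
  obtain ⟨a, ha⟩ := (IsPrincipalIdealRing.principal (Ideal.under R J)).principal
  refine ⟨⟨algebraMap R S a, ?_⟩⟩
  conv_lhs => rw [← h, ha]
  rw [Ideal.submodule_span_eq, Ideal.map_span, Set.image_singleton]

/-- on an integral scheme, the local rings at points of an affine open with principal coordinate ring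
are valuation rings -/
theorem valuationRing_stalk_of_pid {Z : Scheme.{u}} [IsIntegral Z] (U : Z.Opens) (hU : IsAffineOpen U)
    (hpid : IsPrincipalIdealRing Γ(Z, U)) (x : Z) (hx : x ∈ U) :
    ValuationRing (Z.presheaf.stalk x) := by
  let xU : U := ⟨x, hx⟩
  letI := Z.presheaf.algebra_section_stalk xU
  have hloc : IsLocalization.AtPrime (Z.presheaf.stalk (xU : Z)) (hU.primeIdealOf xU).asIdeal :=
    hU.isLocalization_stalk xU
  haveI hpid' : IsPrincipalIdealRing (Z.presheaf.stalk x) :=
    @isPrincipalIdealRing_of_isLocalization Γ(Z, U) (Z.presheaf.stalk (xU : Z)) _ _ _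
      (hU.primeIdealOf xU).asIdeal.primeCompl hloc hpid
  infer_instance

/-- the chart ring of the projective line over a field is a principal ideal ring -/
theorem isPrincipalIdealRing_away (K : Type u) [Field K] (i : Fin (1 + 1)) :
    IsPrincipalIdealRing (HomogeneousLocalization.Away (CohB1.polyGrading 1 K)
      (MvPolynomial.X i : MvPolynomial (Fin (1 + 1)) K)) := by
  classical
  obtain ⟨j0, hj0⟩ := exists_ne i
  haveI : Unique {j : Fin (1 + 1) // j ≠ i} :=
    { default := ⟨j0, hj0⟩
      uniq := fun j => by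
        apply Subtype.ext
        apply Fin.ext
        have h1 := j.1.isLt
        have h2 := i.isLt
        have h3 := j0.isLt
        have h4 : j.1.val ≠ i.val := fun h => j.2 (Fin.ext h)
        have h5 : j0.val ≠ i.val := fun h => hj0 (Fin.ext h)
        show j.1.val = j0.val
        omega }
  let e1 : Polynomial K ≃ₐ[K] MvPolynomial PUnit.{1} K := (MvPolynomial.pUnitAlgEquiv K).symm
  let e2 : MvPolynomial PUnit.{1} K ≃ₐ[K] MvPolynomial {j : Fin (1 + 1) // j ≠ i} K :=
    MvPolynomial.renameEquiv K (Equiv.ofUnique PUnit.{1} {j : Fin (1 + 1) // j ≠ i})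
  let φ : Polynomial K →+* HomogeneousLocalization.Away (CohB1.polyGrading 1 K)
      (MvPolynomial.X i : MvPolynomial (Fin (1 + 1)) K) :=
    (Groth.Agent.Lib.Helper27PnChart.chart 1 K i).comp
      ((e2 : MvPolynomial PUnit.{1} K →+* MvPolynomial {j : Fin (1 + 1) // j ≠ i} K).comp
        (e1 : Polynomial K →+* MvPolynomial PUnit.{1} K))
  have hφ : Function.Surjective φ := by
    intro y
    obtain ⟨p, rfl⟩ := (Groth.Agent.Lib.Helper27PnChart.chart_bijective 1 K i).2 y
    obtain ⟨q, rfl⟩ := e2.surjective p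
    obtain ⟨r, rfl⟩ := e1.surjective q
    exact ⟨r, rfl⟩
  exact IsPrincipalIdealRing.of_surjective φ hφ

/-- projective space over a domain is integral -/
theorem isIntegral_projSpace (n : ℕ) (R : Type u) [CommRing R] [IsDomain R] :
    IsIntegral (Proj (CohB1.polyGrading n R)) := by
  refine (Groth.Agent.S3557.result (R := R) (CohB1.polyGrading n R) ?_).2 ⟨?_, ?_⟩
  · intro f _ hf
    exact hf.eq_zero
  · refine ⟨MvPolynomial.X 0, ?_, MvPolynomial.X_ne_zero _⟩
    change (MvPolynomial.X 0 : MvPolynomial (Fin (n + 1)) R) ∈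
      HomogeneousIdeal.irrelevant (CohB1.polyGrading n R)
    rw [HomogeneousIdeal.mem_irrelevant_iff, GradedRing.proj_apply]
    exact DirectSum.decompose_of_mem_ne _
      (Groth.Agent.Lib.Helper27PnChart.X_mem_one n R 0) (by norm_num)
  · intro f _ g _ h
    exact mul_eq_zero.mp h

/-- the projective line over an integral scheme is integral -/
theorem isIntegral_P1 (Y : Scheme.{u}) [IsIntegral Y] : IsIntegral (CohB1.ProjSpaceOver 1 Y) := by
  classical
  have chart : ∀ (V : Y.Opens) (hV : IsAffineOpen V), (V : Set Y).Nonempty →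
      ∃ (Q : Scheme.{u}) (_ : IsIntegral Q) (a : Q ⟶ CohB1.ProjSpaceOver 1 Y) (_ : IsOpenImmersion a),
        Set.range a = CohB1.ProjSpaceOver.toBase 1 Y ⁻¹' (V : Set Y) := by
    intro V hV hne
    haveI : Nonempty V := hne.to_subtype
    haveI : IsDomain Γ(Y, V) := inferInstance
    haveI hoi : IsOpenImmersion (hV.fromSpec : Spec (CommRingCat.of ↑Γ(Y, V)) ⟶ Y) :=
      hV.isOpenImmersion_fromSpec
    refine ⟨Proj (CohB1.polyGrading 1 Γ(Y, V)), isIntegral_projSpace 1 Γ(Y, V),
      Groth.Agent.Lib.R2H2.ProjOver.a 1 Γ(Y, V) hV.fromSpec,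
      Groth.Agent.Lib.R2H2.ProjOver.isOpenImmersion_a 1 Γ(Y, V) hV.fromSpec, ?_⟩
    have h := Groth.Agent.Lib.R2H2.ProjOver.opensRange_a 1 Γ(Y, V) hV.fromSpec
    rw [hV.opensRange_fromSpec] at h
    exact congrArg (fun W : (CohB1.ProjSpaceOver 1 Y).Opens => (W : Set (CohB1.ProjSpaceOver 1 Y))) h
  have hsect : ∀ y : Y, CohB1.ProjSpaceOver.toBase 1 Y (P1.sect Y 0 y) = y := by
    intro y
    rw [← Scheme.Hom.comp_apply, Groth.Agent.Lib.R2H1.P1Geom.sect_toBase]
    rfl
  haveI hirr : IrreducibleSpace (CohB1.ProjSpaceOver 1 Y) := by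
    haveI : Nonempty {V : Y.Opens // IsAffineOpen V ∧ (V : Set Y).Nonempty} := by
      obtain ⟨y⟩ := (inferInstance : Nonempty Y)
      obtain ⟨_, ⟨V, hV, rfl⟩, hyV, -⟩ :=
        Y.isBasis_affineOpens.exists_subset_of_mem_open (Set.mem_univ y) isOpen_univ
      exact ⟨⟨V, hV, ⟨y, hyV⟩⟩⟩
    refine Groth.Agent.Helper13RelProj.irreducibleSpace_of_cover
      (fun i : {V : Y.Opens // IsAffineOpen V ∧ (V : Set Y).Nonempty} =>
        CohB1.ProjSpaceOver.toBase 1 Y ⁻¹' (i.1 : Set Y)) ?_ ?_ ?_ ?_
    · intro i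
      exact i.1.2.preimage (CohB1.ProjSpaceOver.toBase 1 Y).continuous
    · intro x
      obtain ⟨_, ⟨V, hV, rfl⟩, hyV, -⟩ :=
        Y.isBasis_affineOpens.exists_subset_of_mem_open
          (Set.mem_univ (CohB1.ProjSpaceOver.toBase 1 Y x)) isOpen_univ
      exact ⟨⟨V, hV, ⟨_, hyV⟩⟩, hyV⟩
    · intro i
      obtain ⟨Q, hQ, a, ha, hr⟩ := chart i.1 i.2.1 i.2.2
      have h2 := (irreducibleSpace_def Q).1 inferInstance
      have h3 := h2.image a a.continuous.continuousOn
      rw [Set.top_eq_univ, Set.image_univ, hr] at h3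
      exact h3
    · intro i j
      obtain ⟨y, hy1, hy2⟩ : ((i.1 : Set Y) ∩ (j.1 : Set Y)).Nonempty :=
        nonempty_preirreducible_inter i.1.2 j.1.2 i.2.2 j.2.2
      refine ⟨P1.sect Y 0 y, ?_, ?_⟩
      · show CohB1.ProjSpaceOver.toBase 1 Y (P1.sect Y 0 y) ∈ (i.1 : Set Y)
        rw [hsect]; exact hy1
      · show CohB1.ProjSpaceOver.toBase 1 Y (P1.sect Y 0 y) ∈ (j.1 : Set Y)
        rw [hsect]; exact hy2
  haveI hred : IsReduced (CohB1.ProjSpaceOver 1 Y) := by
    haveI : ∀ x : CohB1.ProjSpaceOver 1 Y,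
        _root_.IsReduced ((CohB1.ProjSpaceOver 1 Y).presheaf.stalk x) := by
      intro x
      obtain ⟨_, ⟨V, hV, rfl⟩, hyV, -⟩ :=
        Y.isBasis_affineOpens.exists_subset_of_mem_open
          (Set.mem_univ (CohB1.ProjSpaceOver.toBase 1 Y x)) isOpen_univ
      obtain ⟨Q, hQ, a, ha, hr⟩ := chart V hV ⟨_, hyV⟩
      have hx : x ∈ Set.range a := by rw [hr]; exact hyV
      obtain ⟨x', rfl⟩ := hx
      exact isReduced_of_injective (a.stalkMap x').hom
        (ConcreteCategory.bijective_of_isIso (a.stalkMap x')).1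
    exact isReduced_of_isReduced_stalk (CohB1.ProjSpaceOver 1 Y)
  exact isIntegral_of_irreducibleSpace_of_isReduced (CohB1.ProjSpaceOver 1 Y)

/-- the local rings of the projective line over a field are valuation rings -/
theorem valuationRing_stalk_P1K (K : Type u) [Field K] [IsIntegral (REq.P1K K)] (x : REq.P1K K) :
    ValuationRing ((REq.P1K K).presheaf.stalk x) := by
  haveI hQ : IsIntegral (Proj (CohB1.polyGrading 1 K)) := isIntegral_projSpace 1 K
  have hpb := Groth.Agent.Lib.R2H2.ProjOver.isPullback_a 1 K (𝟙 (Spec (CommRingCat.of K)))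
  let a : Proj (CohB1.polyGrading 1 K) ⟶ REq.P1K K :=
    Groth.Agent.Lib.R2H2.ProjOver.a 1 K (𝟙 (Spec (CommRingCat.of K)))
  haveI : IsIso a := hpb.isIso_fst_of_isIso
  obtain ⟨x', rfl⟩ : ∃ x', a x' = x := a.homeomorph.surjective x
  have hx' : x' ∈ (⨆ i : Fin (1 + 1), Proj.basicOpen (CohB1.polyGrading 1 K)
      (MvPolynomial.X i : MvPolynomial (Fin (1 + 1)) K)) := by
    rw [Groth.Agent.Lib.Helper27PnChart.iSup_basicOpen_X 1 K]; trivial
  obtain ⟨i, hi⟩ := Opens.mem_iSup.1 hx'
  have hU := Proj.isAffineOpen_basicOpen (CohB1.polyGrading 1 K)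
    (MvPolynomial.X i : MvPolynomial (Fin (1 + 1)) K)
    (Groth.Agent.Lib.Helper27PnChart.X_mem_one 1 K i) one_pos
  have hpid : IsPrincipalIdealRing Γ(Proj (CohB1.polyGrading 1 K),
      Proj.basicOpen (CohB1.polyGrading 1 K) (MvPolynomial.X i : MvPolynomial (Fin (1 + 1)) K)) := by
    haveI := isPrincipalIdealRing_away K i
    exact IsPrincipalIdealRing.of_surjective
      (Proj.basicOpenIsoAway (CohB1.polyGrading 1 K) (MvPolynomial.X i : MvPolynomial (Fin (1 + 1)) K)
        (Groth.Agent.Lib.Helper27PnChart.X_mem_one 1 K i) one_pos).hom.hom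
      (ConcreteCategory.bijective_of_isIso (Proj.basicOpenIsoAway (CohB1.polyGrading 1 K)
        (MvPolynomial.X i : MvPolynomial (Fin (1 + 1)) K)
        (Groth.Agent.Lib.Helper27PnChart.X_mem_one 1 K i) one_pos).hom).2
  haveI hv : ValuationRing ((Proj (CohB1.polyGrading 1 K)).presheaf.stalk x') :=
    valuationRing_stalk_of_pid _ hU hpid x' hi
  exact Function.Surjective.valuationRing (inv (a.stalkMap x')).hom
    (ConcreteCategory.bijective_of_isIso (inv (a.stalkMap x'))).2

end Part1

end Groth.Agent.Lib.R2H1.PLineA
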