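import Mathlib
import Groth.Prelude
import Groth.Agent.Lib.H9ContrB
import Groth.Agent.Lib.H9ContrC
import Groth.Agent.Lib.H9FinBir2
import Groth.Agent.Lib.H9FlatBC
import Groth.Agent.Lib.Helper20BlowUp
import Groth.Agent.Lib.Helper22Hartogs2
import Groth.Agent.Lib.Helper6SmDim
import Groth.Agent.Lib.R2H1PLineA

set_option autoImplicit false
set_option linter.style.haveILetI false
universe u

/-! helper9: the universal property of the contraction of an exceptional curve of the first kind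
(S7307). -/

namespace Groth.Agent.Lib.H9ContrD

open IsLocalRing nonZeroDivisors CategoryTheory CategoryTheory.Limits AlgebraicGeometry
open TopologicalSpace

section hartogs
variable {X X' : Scheme.{u}} [IsLocallyNoetherian X'] (b : X ⟶ X') (y : X')
  (hy : IsClosed ({y} : Set X'))

theorem mem_compl_iff (t : X') :
    t ∈ Groth.Agent.Lib.Helper20.BlowUpBasic.compl
      (Scheme.IdealSheafData.vanishingIdeal ⟨{y}, hy⟩) ↔ t ≠ y := by
  show t ∈ (((Scheme.IdealSheafData.vanishingIdeal ⟨{y}, hy⟩).support : Set X'))ᶜ ↔ _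
  rw [Scheme.IdealSheafData.coe_support_vanishingIdeal]
  rfl

/-- `O_{X'} → b_* O_X` is an isomorphism for the blow-up of a closed point of depth at least two. -/
theorem isIso_app
    (hdepth : (2 : ℕ∞) ≤ LocCoh.depth (X'.presheaf.stalk y) (X'.presheaf.stalk y))
    (hb : BlowUp.IsBlowUp b (Scheme.IdealSheafData.vanishingIdeal ⟨{y}, hy⟩)) (W : X'.Opens) :
    IsIso (b.app W) := by
  obtain ⟨U₀, hU₀⟩ : ∃ U₀ : X'.Opens, U₀ = Groth.Agent.Lib.Helper20.BlowUpBasic.compl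
    (Scheme.IdealSheafData.vanishingIdeal ⟨{y}, hy⟩) := ⟨_, rfl⟩
  have hmem : ∀ t : X', t ∈ U₀ ↔ t ≠ y := fun t => by rw [hU₀]; exact mem_compl_iff y hy t
  haveI hiso : IsIso (b ∣_ U₀) := by
    rw [hU₀]
    exact Groth.Agent.Lib.Helper20.BlowUpBasic.isIso_morphismRestrict _ b hb
  have bij1 : Function.Bijective
      (X'.presheaf.map (homOfLE (inf_le_left : W ⊓ U₀ ≤ W)).op) := by
    refine Groth.Agent.Lib.Helper22.Hartogs.bijective_res_of_depth U₀ ?_ W (W ⊓ U₀) inf_le_left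
      le_rfl inf_le_right
    intro x hx
    have : x = y := by
      by_contra hne
      exact hx ((hmem x).2 hne)
    subst this
    exact hdepth
  haveI iso2 : IsIso (b.app (W ⊓ U₀)) :=
    Groth.Agent.Lib.H9FinBir2.isIso_app_of_le b U₀ (W ⊓ U₀) inf_le_right
  have bij2 : Function.Bijective (b.app (W ⊓ U₀)) :=
    (ConcreteCategory.isIso_iff_bijective _).mp iso2
  have hle : b ⁻¹ᵁ (W ⊓ U₀) ≤ b ⁻¹ᵁ W := fun x hx => hx.1
  have inj3 : ∀ s : Γ(X, b ⁻¹ᵁ W), (X.presheaf.map (homOfLE hle).op).hom s = 0 → s = 0 := by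
    intro s hs
    refine Groth.Agent.Lib.H9ContrC.eq_zero_of_res_eq_zero _ hb.1 (b ⁻¹ᵁ W) (b ⁻¹ᵁ (W ⊓ U₀))
      hle ?_ s hs
    intro x hxW hxs
    refine ⟨hxW, ?_⟩
    show b x ∈ U₀
    rw [hmem]
    intro hbx
    apply hxs
    rw [Scheme.IdealSheafData.support_comap]
    show b x ∈ ((Scheme.IdealSheafData.vanishingIdeal ⟨{y}, hy⟩).support : Set X')
    rw [Scheme.IdealSheafData.coe_support_vanishingIdeal]
    exact hbx
  have nat : ∀ t : Γ(X', W), (X.presheaf.map (homOfLE hle).op).hom ((b.app W).hom t) =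
      (b.app (W ⊓ U₀)).hom ((X'.presheaf.map (homOfLE (inf_le_left : W ⊓ U₀ ≤ W)).op).hom t) := by
    intro t
    have h := b.naturality (homOfLE (inf_le_left : W ⊓ U₀ ≤ W)).op
    exact (congrArg (fun φ => φ.hom t) h).symm
  rw [ConcreteCategory.isIso_iff_bijective]
  constructor
  · rw [injective_iff_map_eq_zero]
    intro t ht
    have h1 := nat t
    have ht' : (b.app W).hom t = 0 := ht
    rw [ht', map_zero] at h1
    have h2 := bij2.1 (h1.symm.trans (map_zero _).symm)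
    exact bij1.1 (h2.trans (map_zero _).symm)
  · intro u
    obtain ⟨t₀, ht₀⟩ := bij2.2 ((X.presheaf.map (homOfLE hle).op).hom u)
    obtain ⟨t, ht⟩ := bij1.2 t₀
    refine ⟨t, ?_⟩
    have h1 := nat t
    have ht' : (X'.presheaf.map (homOfLE (inf_le_left : W ⊓ U₀ ≤ W)).op).hom t = t₀ := ht
    have ht₀' : (b.app (W ⊓ U₀)).hom t₀ = (X.presheaf.map (homOfLE hle).op).hom u := ht₀
    rw [ht', ht₀'] at h1
    have h2 : (X.presheaf.map (homOfLE hle).op).hom ((b.app W).hom t - u) = 0 := by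
      rw [map_sub, h1, sub_self]
    exact sub_eq_zero.1 (inj3 _ h2)

end hartogs

section main
variable {E X X' : Scheme.{u}} [IsNoetherian X] (ι : E ⟶ X) [IsClosedImmersion ι]

theorem restrict_apply {P Q : Scheme.{u}} (g : P ⟶ Q) (W : Q.Opens) (x : P) (hx : g x ∈ W) :
    (g ∣_ W) ⟨x, hx⟩ = ⟨g x, hx⟩ := by
  apply Subtype.ext
  have := congr($(morphismRestrict_ι g W) ⟨x, hx⟩)
  rw [Scheme.Hom.comp_apply, Scheme.Hom.comp_apply] at this
  exact this

/-- **S7307**: the universal property of a contraction. -/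
theorem main7307 (hE : Models.IsExcCurve ι) (b : X ⟶ X') (hb : Models.IsContractionOf ι b)
    {Y : Scheme.{u}} (φ : X ⟶ Y) (y₀ : Y) (hφ : Set.range ((ι ≫ φ).base : E → Y) = {y₀}) :
    ∃! ψ : X' ⟶ Y, b ≫ ψ = φ := by
  obtain ⟨hN, hprop, y, hy, hrange, hreg, hdim, hblow⟩ := hb
  obtain ⟨hcart, k, hk, e, -⟩ := hE
  haveI := hN
  haveI := hprop
  haveI := hreg
  -- `E` is nonempty
  haveI : IsIntegral (CohB1.ProjSpace 1 k) :=
    Groth.Agent.Lib.R2H1.PLineA.isIntegral_projSpace 1 k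
  obtain ⟨p₀⟩ : Nonempty ↥(CohB1.ProjSpace 1 k) := inferInstance
  obtain ⟨e₀, he₀⟩ : ∃ e₀ : E, e₀ = e.hom p₀ := ⟨_, rfl⟩
  -- supports
  have hs1 : (ι.ker.support : Set X) = Set.range ι := by
    rw [Scheme.Hom.support_ker]
    exact ι.isClosedEmbedding.isClosed_range.closure_eq
  have hs2 : (((Scheme.IdealSheafData.vanishingIdeal ⟨{y}, hy⟩).comap b).support : Set X) =
      b ⁻¹' {y} := by
    rw [Scheme.IdealSheafData.support_comap]
    show b ⁻¹' (((Scheme.IdealSheafData.vanishingIdeal ⟨{y}, hy⟩).support : Set X')) = _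
    rw [Scheme.IdealSheafData.coe_support_vanishingIdeal]
    rfl
  have hsub : Set.range ι ⊆ b ⁻¹' {y} := by
    rintro _ ⟨z, rfl⟩
    have : (ι ≫ b).base z ∈ Set.range (ι ≫ b).base := Set.mem_range_self z
    rw [hrange] at this
    exact this
  -- the fibre over `y` is `E`
  have hfib : b ⁻¹' {y} ⊆ Set.range ι := by
    have h1 := Groth.Agent.Lib.H9ContrC.support_subset_of_effCartier ι.ker
      ((Scheme.IdealSheafData.vanishingIdeal ⟨{y}, hy⟩).comap b) hcart hblow.1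
      (by rw [hs1, hs2]; exact hsub)
      (by rw [hs2]; exact Groth.Agent.Lib.H9ContrB.isIrreducible_fibre b y hy hdim hblow)
      (by rw [hs1]; exact ⟨ι e₀, e₀, rfl⟩)
    rwa [hs1, hs2] at h1
  -- depth
  have hdepth : (2 : ℕ∞) ≤ LocCoh.depth (X'.presheaf.stalk y) (X'.presheaf.stalk y) := by
    have h := Groth.Agent.Lib.Helper6.SmDim.ringKrullDim_eq_depth_of_isRegularLocalRing
      (X'.presheaf.stalk y)
    rw [hdim] at h
    have h2 : ((2 : ℕ∞) : WithBot ℕ∞) =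
        ((LocCoh.depth (X'.presheaf.stalk y) (X'.presheaf.stalk y) : ℕ∞) : WithBot ℕ∞) := h
    exact (WithBot.coe_injective h2).le
  have hiso : ∀ W : X'.Opens, IsIso (b.app W) :=
    Groth.Agent.Lib.H9ContrD.isIso_app b y hy hdepth hblow
  -- the complement
  obtain ⟨U₀, hU₀⟩ : ∃ U₀ : X'.Opens, U₀ = Groth.Agent.Lib.Helper20.BlowUpBasic.compl
    (Scheme.IdealSheafData.vanishingIdeal ⟨{y}, hy⟩) := ⟨_, rfl⟩
  have hmem : ∀ t : X', t ∈ U₀ ↔ t ≠ y := fun t => by rw [hU₀]; exact mem_compl_iff y hy t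
  haveI hisoU : IsIso (b ∣_ U₀) := by
    rw [hU₀]
    exact Groth.Agent.Lib.Helper20.BlowUpBasic.isIso_morphismRestrict _ b hblow
  -- surjectivity
  haveI : Surjective b := by
    refine ⟨fun t => ?_⟩
    by_cases ht : t = y
    · exact ⟨ι e₀, ht ▸ hsub ⟨e₀, rfl⟩⟩
    · obtain ⟨x, hx⟩ := (b ∣_ U₀).surjective ⟨t, (hmem t).2 ht⟩
      refine ⟨x.1, ?_⟩
      have h1 := restrict_apply b U₀ x.1 x.2
      have h2 : (b ∣_ U₀) x = ⟨t, (hmem t).2 ht⟩ := hx
      have h3 : (⟨b x.1, x.2⟩ : U₀) = ⟨t, (hmem t).2 ht⟩ := h1.symm.trans h2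
      exact congrArg Subtype.val h3
  -- φ is constant on the fibres of b
  have hconst : ∀ x x' : X, b x = b x' → φ x = φ x' := by
    intro x x' hxx'
    by_cases ht : b x = y
    · have hx : x ∈ Set.range ι := hfib ht
      have hx' : x' ∈ Set.range ι := hfib (show b x' = y from hxx'.symm.trans ht)
      obtain ⟨z, rfl⟩ := hx
      obtain ⟨z', rfl⟩ := hx'
      have h1 : (ι ≫ φ).base z ∈ Set.range (ι ≫ φ).base := Set.mem_range_self z
      have h2 : (ι ≫ φ).base z' ∈ Set.range (ι ≫ φ).base := Set.mem_range_self z'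
      rw [hφ] at h1 h2
      have h1' : φ (ι z) = y₀ := h1
      have h2' : φ (ι z') = y₀ := h2
      rw [h1', h2']
    · have hxU : b x ∈ U₀ := (hmem _).2 ht
      have hx'U : b x' ∈ U₀ := hxx' ▸ hxU
      have h1 := restrict_apply b U₀ x hxU
      have h2 := restrict_apply b U₀ x' hx'U
      have h3 : (b ∣_ U₀) ⟨x, hxU⟩ = (b ∣_ U₀) ⟨x', hx'U⟩ := by
        rw [h1, h2]
        exact Subtype.ext hxx'
      have h4 := (b ∣_ U₀).isOpenEmbedding.injective h3
      have h5 : x = x' := congrArg Subtype.val h4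
      rw [h5]
  obtain ⟨ψ, hψ⟩ := Groth.Agent.Lib.H9FlatBC.exists_factor_of_collapsed b hiso φ hconst
  refine ⟨ψ, hψ, ?_⟩
  intro ψ' hψ'
  refine Groth.Agent.Lib.H9RigH.eq_of_comp_eq b
    (fun V => (ConcreteCategory.bijective_of_isIso (b.app V)).1) ψ' ψ ?_
  rw [hψ, hψ']

end main

section unique
variable {E X X₁ X₂ : Scheme.{u}} [IsNoetherian X] (ι : E ⟶ X) [IsClosedImmersion ι]

/-- **S7308**: a contraction is unique up to unique isomorphism. -/
theorem main7308 (hE : Models.IsExcCurve ι) (b₁ : X ⟶ X₁) (hb₁ : Models.IsContractionOf ι b₁)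
    (b₂ : X ⟶ X₂) (hb₂ : Models.IsContractionOf ι b₂) :
    ∃! e : X₁ ≅ X₂, b₁ ≫ e.hom = b₂ := by
  obtain ⟨y₁, hy₁⟩ : ∃ y₁ : X₁, Set.range ((ι ≫ b₁).base : E → X₁) = {y₁} := by
    obtain ⟨-, -, y, -, h, -⟩ := hb₁
    exact ⟨y, h⟩
  obtain ⟨y₂, hy₂⟩ : ∃ y₂ : X₂, Set.range ((ι ≫ b₂).base : E → X₂) = {y₂} := by
    obtain ⟨-, -, y, -, h, -⟩ := hb₂
    exact ⟨y, h⟩
  obtain ⟨ψ, hψ, hψu⟩ := main7307 ι hE b₁ hb₁ b₂ y₂ hy₂
  obtain ⟨χ, hχ, -⟩ := main7307 ι hE b₂ hb₂ b₁ y₁ hy₁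
  have h11 := (main7307 ι hE b₁ hb₁ b₁ y₁ hy₁).unique
    (show b₁ ≫ (ψ ≫ χ) = b₁ by rw [← Category.assoc, hψ, hχ]) (Category.comp_id b₁)
  have h22 := (main7307 ι hE b₂ hb₂ b₂ y₂ hy₂).unique
    (show b₂ ≫ (χ ≫ ψ) = b₂ by rw [← Category.assoc, hχ, hψ]) (Category.comp_id b₂)
  refine ⟨⟨ψ, χ, h11, h22⟩, hψ, ?_⟩
  intro e' he'
  apply Iso.ext
  exact hψu e'.hom he'

end unique

end Groth.Agent.Lib.H9ContrD
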