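import Mathlib
import Groth.Prelude.Def_Pi1
import Groth.Agent.Lib.R2LeadNormalDesc

set_option autoImplicit false
set_option linter.style.haveILetI false
universe u
open CategoryTheory CategoryTheory.Limits AlgebraicGeometry TopologicalSpace

namespace Groth.Agent.Lib.Helper8EtNormal

open TensorProduct

section Alg

variable (A B : Type*) [CommRing A] [IsDomain A] [IsIntegrallyClosed A]
    [CommRing B] [Algebra A B] [Algebra.Etale A B]

/-- `B` étale over an integrally closed domain `A` with fraction field `K`: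
`B` is integrally closed in `B ⊗[A] K`. -/
theorem isIntegrallyClosedIn_tensor (K : Type*) [Field K] [Algebra A K] [IsFractionRing A K] :
    ∀ x : B ⊗[A] K, IsIntegral B x → ∃ b : B, algebraMap B (B ⊗[A] K) b = x := by
  intro x hx
  have hbij := TensorProduct.toIntegralClosure_bijective_of_smooth (R := A) (S := B) (B := K)
  obtain ⟨z, hz⟩ := hbij.2 ⟨x, hx⟩
  have key : ∀ z : B ⊗[A] integralClosure A K,
      ((TensorProduct.toIntegralClosure A B K z : integralClosure B (B ⊗[A] K)) : B ⊗[A] K) ∈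
        (algebraMap B (B ⊗[A] K)).range := by
    intro z
    induction z with
    | zero => simp
    | add x y hx hy =>
      rw [map_add]
      exact add_mem hx hy
    | tmul b y =>
      obtain ⟨k, hk⟩ := y
      obtain ⟨a, rfl⟩ := IsIntegrallyClosed.isIntegral_iff.mp hk
      refine ⟨a • b, ?_⟩
      simp [TensorProduct.toIntegralClosure, Algebra.TensorProduct.algebraMap_apply,
        Algebra.algebraMap_eq_smul_one (R := A) (A := K), TensorProduct.smul_tmul]
  obtain ⟨b, hb⟩ := key z
  refine ⟨b, ?_⟩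
  rw [hb, hz]

include A in
/-- étale over integrally closed domain, and a domain: integrally closed. -/
theorem isIntegrallyClosed_of_etale [IsDomain B] : IsIntegrallyClosed B := by
  let K := FractionRing A
  let T := B ⊗[A] K
  -- `A → B` is injective
  have hinjAB : Function.Injective (algebraMap A B) := by
    haveI : Module.Flat A B := inferInstance
    haveI : Module.IsTorsionFree A B := inferInstance
    exact FaithfulSMul.algebraMap_injective A B
  haveI hloc : IsLocalization (Algebra.algebraMapSubmonoid B (nonZeroDivisors A)) T :=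
    inferInstance
  have hle : Algebra.algebraMapSubmonoid B (nonZeroDivisors A) ≤ nonZeroDivisors B := by
    rintro _ ⟨a, ha, rfl⟩
    have ha' : a ≠ 0 := nonZeroDivisors.ne_zero ha
    rw [mem_nonZeroDivisors_iff_ne_zero]
    exact fun h => ha' (hinjAB (by rw [h, map_zero]))
  haveI : IsDomain T := IsLocalization.isDomain_of_le_nonZeroDivisors (S := T) hle
  have hinjBT : Function.Injective (algebraMap B T) := IsLocalization.injective T hle
  -- `T` is a field: via the swapped tensor product, finite over `K`.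
  let T' := K ⊗[A] B
  let e : T ≃+* T' := (Algebra.TensorProduct.comm A B K).toRingEquiv
  haveI : IsDomain T' := e.symm.injective.isDomain e.symm.toRingHom
  haveI : Algebra.Etale K T' := inferInstance
  haveI : Module.Finite K T' := Algebra.FormallyUnramified.finite_of_free K T'
  have hT' : IsField T' := isField_of_isIntegral_of_isField' (Field.toIsField K)
  have hT : IsField T := e.toMulEquiv.isField hT'
  haveI : IsFractionRing B T := by
    refine IsLocalization.of_le (Algebra.algebraMapSubmonoid B (nonZeroDivisors A)) _ hle ?_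
    intro r hr
    rw [mem_nonZeroDivisors_iff_ne_zero] at hr
    have : algebraMap B T r ≠ 0 := fun h => hr (hinjBT (by rw [h, map_zero]))
    obtain ⟨y, hy⟩ := hT.mul_inv_cancel this
    exact IsUnit.of_mul_eq_one _ hy
  rw [isIntegrallyClosed_iff T]
  intro x hx
  exact isIntegrallyClosedIn_tensor A B K x hx

end Alg

section Glue

/-- A scheme has a basis of affine opens with integrally closed rings of sections. -/
def HasNormalBasis (Y : Scheme.{u}) : Prop :=
  ∀ (V : Y.Opens) (y : Y), y ∈ V → ∃ V' : Y.Opens, IsAffineOpen V' ∧ y ∈ V' ∧ V' ≤ V ∧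
    IsIntegrallyClosed Γ(Y, V')

variable {Y : Scheme.{u}} [IsIntegral Y]

theorem genericPoint_mem_of_mem {V : Y.Opens} {y : Y} (hy : y ∈ V) : genericPoint Y ∈ V :=
  ((genericPoint_spec Y).mem_open_set_iff V.isOpen).mpr ⟨y, trivial, hy⟩

/-- On an integral scheme with a normal basis, an element of the function field which is integral
over `Γ(Y, V)` is (the germ of) a section over `V`. -/
theorem exists_section_of_isIntegralElem (hY : HasNormalBasis Y) (V : Y.Opens)
    (hη : genericPoint Y ∈ V) (ℓ : Y.functionField)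
    (hℓ : (Y.presheaf.germ V (genericPoint Y) hη).hom.IsIntegralElem ℓ) :
    ∃ y : Γ(Y, V), Y.presheaf.germ V (genericPoint Y) hη y = ℓ := by
  choose N hNaff hwN hNV hNic using fun w : V => hY V w.1 w.2
  have hηN : ∀ w, genericPoint Y ∈ N w := fun w => genericPoint_mem_of_mem (hwN w)
  have hσ : ∀ w : V, ∃ σ : Γ(Y, N w), Y.presheaf.germ (N w) (genericPoint Y) (hηN w) σ = ℓ := by
    intro w
    haveI : Nonempty (N w) := ⟨⟨w.1, hwN w⟩⟩
    haveI : IsDomain Γ(Y, N w) := IsIntegral.component_integral (N w)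
    haveI := hNic w
    haveI : IsFractionRing Γ(Y, N w) Y.functionField :=
      functionField_isFractionRing_of_isAffineOpen Y (N w) (hNaff w)
    have hint : IsIntegral Γ(Y, N w) ℓ := by
      obtain ⟨p, hp, hpe⟩ := hℓ
      refine ⟨p.map (Y.presheaf.map (homOfLE (hNV w)).op).hom, hp.map _, ?_⟩
      rw [Polynomial.eval₂_map]
      have : (algebraMap Γ(Y, N w) Y.functionField).comp
          (Y.presheaf.map (homOfLE (hNV w)).op).hom =
          (Y.presheaf.germ V (genericPoint Y) hη).hom := by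
        ext a
        exact TopCat.Presheaf.germ_res_apply Y.presheaf (homOfLE (hNV w)) (genericPoint Y)
          (hηN w) a
      rw [this]
      exact hpe
    obtain ⟨σ, hσ⟩ := IsIntegrallyClosed.isIntegral_iff.mp hint
    exact ⟨σ, hσ⟩
  choose σ hσ using hσ
  obtain ⟨s, hs⟩ := Groth.Agent.Lib.R2Lead.NormalDesc.exists_section_of_local V N hNV hwN σ (by
    intro w v p hpw hpv
    have hηwv : genericPoint Y ∈ N w ⊓ N v := ⟨hηN w, hηN v⟩
    have hres : Y.presheaf.map (homOfLE (inf_le_left : N w ⊓ N v ≤ N w)).op (σ w) =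
        Y.presheaf.map (homOfLE (inf_le_right : N w ⊓ N v ≤ N v)).op (σ v) := by
      apply germ_injective_of_isIntegral Y (genericPoint Y) hηwv
      rw [TopCat.Presheaf.germ_res_apply, TopCat.Presheaf.germ_res_apply, hσ w, hσ v]
    have e1 := TopCat.Presheaf.germ_res_apply Y.presheaf
      (homOfLE (inf_le_left : N w ⊓ N v ≤ N w)) p ⟨hpw, hpv⟩ (σ w)
    have e2 := TopCat.Presheaf.germ_res_apply Y.presheaf
      (homOfLE (inf_le_right : N w ⊓ N v ≤ N v)) p ⟨hpw, hpv⟩ (σ v)
    rw [← e1, ← e2, hres])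
  refine ⟨s, ?_⟩
  rw [hs ⟨genericPoint Y, hη⟩ (genericPoint Y) (hηN _), hσ]

set_option backward.isDefEq.respectTransparency false in
/-- Sections of `Spec K(Y) → Y`: injective, and integral elements come from `Y`. -/
theorem fromSpecStalk_app_spec (hY : HasNormalBasis Y) (V : Y.Opens) :
    Function.Injective ((Y.fromSpecStalk (genericPoint Y)).app V) ∧
    ∀ ℓ, ((Y.fromSpecStalk (genericPoint Y)).app V).hom.IsIntegralElem ℓ →
      ∃ y, (Y.fromSpecStalk (genericPoint Y)).app V y = ℓ := by
  by_cases hη : genericPoint Y ∈ V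
  · have htop : (Y.fromSpecStalk (genericPoint Y)) ⁻¹ᵁ V = ⊤ := by
      ext z
      simp only [Scheme.Hom.mem_preimage, Opens.coe_top, Set.mem_univ, iff_true]
      have hz : (Y.fromSpecStalk (genericPoint Y)) z ⤳ genericPoint Y := by
        have : (Y.fromSpecStalk (genericPoint Y)) z ∈ Set.range (Y.fromSpecStalk (genericPoint Y)) :=
          ⟨z, rfl⟩
        rwa [Scheme.range_fromSpecStalk] at this
      exact hz.mem_open V.isOpen hη
    haveI : IsIso (homOfLE (le_top : (Y.fromSpecStalk (genericPoint Y)) ⁻¹ᵁ V ≤ ⊤)) :=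
      ⟨homOfLE htop.ge, Subsingleton.elim _ _, Subsingleton.elim _ _⟩
    let ε : Y.functionField ⟶ Γ(Spec (Y.presheaf.stalk (genericPoint Y)),
        (Y.fromSpecStalk (genericPoint Y)) ⁻¹ᵁ V) :=
      (Scheme.ΓSpecIso (Y.presheaf.stalk (genericPoint Y))).inv ≫
        (Spec (Y.presheaf.stalk (genericPoint Y))).presheaf.map (homOfLE le_top).op
    haveI : IsIso ε := by dsimp only [ε]; infer_instance
    have happ : (Y.fromSpecStalk (genericPoint Y)).app V =
        Y.presheaf.germ V (genericPoint Y) hη ≫ ε := Scheme.fromSpecStalk_app hη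
    have hεinj : Function.Injective ε := (ConcreteCategory.bijective_of_isIso ε).1
    refine ⟨?_, ?_⟩
    · rw [happ]
      intro a b hab
      exact germ_injective_of_isIntegral Y _ hη (hεinj hab)
    · intro ℓ hℓ
      obtain ⟨ℓ', rfl⟩ := (ConcreteCategory.bijective_of_isIso ε).2 ℓ
      have hℓ' : (Y.presheaf.germ V (genericPoint Y) hη).hom.IsIntegralElem ℓ' := by
        obtain ⟨p, hp, hpe⟩ := hℓ
        refine ⟨p, hp, hεinj ?_⟩
        rw [map_zero, ← hpe, happ]
        exact Polynomial.hom_eval₂ p _ ε.hom ℓ'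
      obtain ⟨y, hy⟩ := exists_section_of_isIntegralElem hY V hη ℓ' hℓ'
      refine ⟨y, ?_⟩
      rw [happ, ← hy]
      rfl
  · have hV : V = ⊥ := by
      by_contra hne
      obtain ⟨y, hy⟩ := (Opens.ne_bot_iff_nonempty _).1 hne
      exact hη (genericPoint_mem_of_mem hy)
    subst hV
    have hpre : (Y.fromSpecStalk (genericPoint Y)) ⁻¹ᵁ (⊥ : Y.Opens) = ⊥ := rfl
    haveI : Subsingleton Γ(Spec (Y.presheaf.stalk (genericPoint Y)),
        (Y.fromSpecStalk (genericPoint Y)) ⁻¹ᵁ (⊥ : Y.Opens)) := by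
      rw [hpre]; infer_instance
    exact ⟨fun a b _ => Subsingleton.elim a b, fun ℓ _ => ⟨0, Subsingleton.elim _ _⟩⟩

end Glue

section Abs

/-- abstract comparison of two integral closures -/
theorem abs_bijective {A BY BL Ng Nh : Type*} [CommRing A] [CommRing BY] [CommRing BL]
    [CommRing Ng] [CommRing Nh]
    (a : A →+* BY) (σ : BY →+* BL) (ιg : Ng →+* BY) (ιh : Nh →+* BL) (c : Ng →+* Nh)
    (hιg : Function.Injective ιg) (hιh : Function.Injective ιh)
    (hrg : ∀ y, a.IsIntegralElem y → ∃ w, ιg w = y)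
    (hrh : ∀ t, (σ.comp a).IsIntegralElem (ιh t))
    (hc : ∀ w, ιh (c w) = σ (ιg w))
    (hσ : Function.Injective σ) (hσr : ∀ ℓ, σ.IsIntegralElem ℓ → ∃ y, σ y = ℓ) :
    Function.Bijective c := by
  constructor
  · intro w w' hww
    apply hιg
    apply hσ
    rw [← hc, ← hc, hww]
  · intro t
    obtain ⟨p, hp, hpe⟩ := hrh t
    obtain ⟨y, hy⟩ := hσr (ιh t) ⟨p.map a, hp.map a, by rw [Polynomial.eval₂_map]; exact hpe⟩
    obtain ⟨w, hw⟩ := hrg y ⟨p, hp, hσ (by
      rw [map_zero, Polynomial.hom_eval₂, hy]; exact hpe)⟩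
    refine ⟨w, hιh ?_⟩
    rw [hc, hw, hy]

end Abs

section Normalization

set_option backward.isDefEq.respectTransparency false in
theorem toNormalization_appLE_spec {X Y : Scheme.{u}} (f : X ⟶ Y) [QuasiCompact f]
    [QuasiSeparated f] {U : Y.Opens} (hU : IsAffineOpen U)
    (e : f ⁻¹ᵁ U ≤ f.toNormalization ⁻¹ᵁ (f.fromNormalization ⁻¹ᵁ U)) :
    Function.Injective (f.toNormalization.appLE (f.fromNormalization ⁻¹ᵁ U) (f ⁻¹ᵁ U) e) ∧
    (∀ y, (f.app U).hom.IsIntegralElem y →
      ∃ w, f.toNormalization.appLE (f.fromNormalization ⁻¹ᵁ U) (f ⁻¹ᵁ U) e w = y) ∧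
    (∀ w, (f.app U).hom.IsIntegralElem
      (f.toNormalization.appLE (f.fromNormalization ⁻¹ᵁ U) (f ⁻¹ᵁ U) e w)) := by
  letI := (f.app U).hom.toAlgebra
  have H := f.normalizationObjIso_hom_val hU
  have Happ : ∀ w, f.toNormalization.appLE (f.fromNormalization ⁻¹ᵁ U) (f ⁻¹ᵁ U) e w =
      (((f.normalizationObjIso hU).hom w : integralClosure Γ(Y, U) Γ(X, f ⁻¹ᵁ U)) :
        Γ(X, f ⁻¹ᵁ U)) := by
    intro w
    rw [← H]
    rfl
  refine ⟨?_, ?_, ?_⟩
  · intro w w' hww
    rw [Happ, Happ] at hww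
    exact (ConcreteCategory.bijective_of_isIso (f.normalizationObjIso hU).hom).1
      (Subtype.ext hww)
  · intro y hy
    obtain ⟨w, hw⟩ := (ConcreteCategory.bijective_of_isIso (f.normalizationObjIso hU).hom).2
      ⟨y, hy⟩
    exact ⟨w, by rw [Happ, hw]⟩
  · intro w
    rw [Happ]
    exact ((f.normalizationObjIso hU).hom w).2

end Normalization

section Cmp

variable {X Y : Scheme.{u}} [IsIntegral Y] (g : Y ⟶ X) [QuasiCompact g] [QuasiSeparated g]
  [QuasiCompact (Y.fromSpecStalk (genericPoint Y) ≫ g)]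
  [QuasiSeparated (Y.fromSpecStalk (genericPoint Y) ≫ g)]

/-- The comparison morphism from the normalization of `X` in `Spec K(Y)` to the normalization of
`X` in `Y`. -/
noncomputable def cmp :
    (Y.fromSpecStalk (genericPoint Y) ≫ g).normalization ⟶ g.normalization :=
  (Y.fromSpecStalk (genericPoint Y) ≫ g).normalizationDesc
    (Y.fromSpecStalk (genericPoint Y) ≫ g.toNormalization) g.fromNormalization (by simp)

@[reassoc]
theorem toNormalization_cmp :
    (Y.fromSpecStalk (genericPoint Y) ≫ g).toNormalization ≫ cmp g =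
      Y.fromSpecStalk (genericPoint Y) ≫ g.toNormalization :=
  Scheme.Hom.toNormalization_normalizationDesc ..

@[reassoc]
theorem cmp_fromNormalization :
    cmp g ≫ g.fromNormalization = (Y.fromSpecStalk (genericPoint Y) ≫ g).fromNormalization :=
  Scheme.Hom.normalizationDesc_comp ..

instance : IsIntegralHom (cmp g) := by
  unfold cmp; infer_instance

set_option backward.isDefEq.respectTransparency false in
theorem isIso_cmp (hY : HasNormalBasis Y) : IsIso (cmp g) := by
  have hcov : ⨆ U : X.affineOpens, g.fromNormalization ⁻¹ᵁ U.1 = ⊤ :=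
    (TopologicalSpace.IsOpenCover.comap (iSup_affineOpens_eq_top X) g.fromNormalization.base.hom)
  rw [← MorphismProperty.isomorphisms.iff,
    IsZariskiLocalAtTarget.iff_of_iSup_eq_top (P := MorphismProperty.isomorphisms Scheme) _ hcov]
  intro U
  rw [MorphismProperty.isomorphisms.iff,
    isIso_morphismRestrict_iff_isIso_app (cmp g) (U.2.preimage g.fromNormalization),
    ConcreteCategory.isIso_iff_bijective]
  have hpre : (cmp g) ⁻¹ᵁ (g.fromNormalization ⁻¹ᵁ U.1) =
      (Y.fromSpecStalk (genericPoint Y) ≫ g).fromNormalization ⁻¹ᵁ U.1 := by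
    rw [← Scheme.Hom.comp_preimage, cmp_fromNormalization]
  have e_g : g ⁻¹ᵁ U.1 ≤ g.toNormalization ⁻¹ᵁ (g.fromNormalization ⁻¹ᵁ U.1) := by
    rw [← Scheme.Hom.comp_preimage, Scheme.Hom.toNormalization_fromNormalization]
  have e_h : (Y.fromSpecStalk (genericPoint Y) ≫ g) ⁻¹ᵁ U.1 ≤
      (Y.fromSpecStalk (genericPoint Y) ≫ g).toNormalization ⁻¹ᵁ
        ((Y.fromSpecStalk (genericPoint Y) ≫ g).fromNormalization ⁻¹ᵁ U.1) := by
    rw [← Scheme.Hom.comp_preimage, Scheme.Hom.toNormalization_fromNormalization]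
  obtain ⟨hg1, hg2, hg3⟩ := toNormalization_appLE_spec g U.2 e_g
  obtain ⟨hh1, hh2, hh3⟩ :=
    toNormalization_appLE_spec (Y.fromSpecStalk (genericPoint Y) ≫ g) U.2 e_h
  obtain ⟨hs1, hs2⟩ := fromSpecStalk_app_spec hY (g ⁻¹ᵁ U.1)
  have hcomm : (cmp g).app (g.fromNormalization ⁻¹ᵁ U.1) ≫
      (Y.fromSpecStalk (genericPoint Y) ≫ g).normalization.presheaf.map (eqToHom hpre.symm).op ≫
      (Y.fromSpecStalk (genericPoint Y) ≫ g).toNormalization.appLE _ _ e_h =
      g.toNormalization.appLE _ _ e_g ≫ (Y.fromSpecStalk (genericPoint Y)).app (g ⁻¹ᵁ U.1) := by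
    simp only [Scheme.Hom.app_eq_appLE, Scheme.Hom.map_appLE, Scheme.Hom.appLE_comp_appLE,
      toNormalization_cmp]
    rfl
  have hbij : Function.Bijective ((Y.fromSpecStalk (genericPoint Y) ≫ g).normalization.presheaf.map
      (eqToHom hpre.symm).op) := ConcreteCategory.bijective_of_isIso _
  refine abs_bijective (g.app U.1).hom ((Y.fromSpecStalk (genericPoint Y)).app (g ⁻¹ᵁ U.1)).hom
    (g.toNormalization.appLE _ _ e_g).hom
    ((Y.fromSpecStalk (genericPoint Y) ≫ g).normalization.presheaf.map (eqToHom hpre.symm).op ≫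
      (Y.fromSpecStalk (genericPoint Y) ≫ g).toNormalization.appLE _ _ e_h).hom
    ((cmp g).app (g.fromNormalization ⁻¹ᵁ U.1)).hom hg1 ?_ hg2 ?_ ?_ hs1 hs2
  · intro a b hab
    exact hbij.1 (hh1 hab)
  · intro t
    have := hh3 ((Y.fromSpecStalk (genericPoint Y) ≫ g).normalization.presheaf.map
      (eqToHom hpre.symm).op t)
    rw [Scheme.Hom.comp_app] at this
    exact this
  · intro w
    exact congr($hcomm w)

end Cmp

section Etale

/-- Sections of a normal integral scheme over a nonempty affine open are integrally closed. -/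
theorem isIntegrallyClosed_sections {Y : Scheme.{u}} [IsIntegral Y] (hY : Pi1.IsNormalScheme Y)
    (W : Y.Opens) (hW : IsAffineOpen W) [Nonempty W] :
    @IsIntegrallyClosed Γ(Y, W) _ := by
  haveI : IsDomain Γ(Y, W) := IsIntegral.component_integral W
  apply IsIntegrallyClosed.of_localization_maximal
  intro p _ _
  let y : PrimeSpectrum Γ(Y, W) := ⟨p, inferInstance⟩
  have hy : hW.fromSpec y ∈ (W : Set Y) := by
    rw [← hW.range_fromSpec]; exact ⟨y, rfl⟩
  letI := TopCat.Presheaf.algebra_section_stalk Y.presheaf ⟨hW.fromSpec y, hy⟩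
  haveI : IsLocalization p.primeCompl (Y.presheaf.stalk (hW.fromSpec y)) :=
    hW.isLocalization_stalk' y hy
  let e : Localization.AtPrime p ≃ₐ[Γ(Y, W)] Y.presheaf.stalk (hW.fromSpec y) :=
    IsLocalization.algEquiv p.primeCompl _ _
  haveI := (hY (hW.fromSpec y)).2
  exact IsIntegrallyClosed.of_equiv e.symm.toRingEquiv

/-- An integral scheme étale over a normal integral scheme has a normal basis. -/
theorem hasNormalBasis_of_etale {X Y : Scheme.{u}} [IsIntegral X] (hX : Pi1.IsNormalScheme X)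
    [IsIntegral Y] (g : Y ⟶ X) [Etale g] : HasNormalBasis Y := by
  intro V y hy
  obtain ⟨_, ⟨U, hU, rfl⟩, hyU, -⟩ := X.isBasis_affineOpens.exists_subset_of_mem_open
    (Set.mem_univ (g y)) isOpen_univ
  obtain ⟨_, ⟨V', hV', rfl⟩, hyV', hV'le⟩ := Y.isBasis_affineOpens.exists_subset_of_mem_open
    (show y ∈ ((V ⊓ g ⁻¹ᵁ U : Y.Opens) : Set Y) from ⟨hy, hyU⟩) (V ⊓ g ⁻¹ᵁ U).isOpen
  refine ⟨V', hV', hyV', fun z hz => (hV'le hz).1, ?_⟩
  have e : V' ≤ g ⁻¹ᵁ U := fun z hz => (hV'le hz).2
  haveI : Nonempty U := ⟨⟨g y, hyU⟩⟩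
  haveI : Nonempty V' := ⟨⟨y, hyV'⟩⟩
  haveI : IsDomain Γ(X, U) := IsIntegral.component_integral U
  haveI : IsDomain Γ(Y, V') := IsIntegral.component_integral V'
  haveI : IsIntegrallyClosed Γ(X, U) := isIntegrallyClosed_sections hX U hU
  letI := (g.appLE U V' e).hom.toAlgebra
  haveI : Algebra.Etale Γ(X, U) Γ(Y, V') := g.etale_appLE hU hV' e
  exact isIntegrallyClosed_of_etale Γ(X, U) Γ(Y, V')

end Etale

end Groth.Agent.Lib.Helper8EtNormal
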