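import Mathlib
import Groth.Prelude
import Groth.Agent.Lib.H9FlatBC
import Groth.Agent.Lib.H9ZarLocalU
import Groth.Agent.Lib.Helper8ProperO
import Groth.Agent.Lib.H9ContrD
import Groth.Agent.Lib.Helper4BirLocalIso2
import Groth.Agent.Lib.H9RigH
import Groth.Agent.S9705

set_option autoImplicit false
set_option linter.style.haveILetI false
universe u

/-! helper9: factorisation through a proper contraction with `O = f_* O` of a morphism contracting
the exceptional set to finitely many closed points. -/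

namespace Groth.Agent.Lib.H9ContrU

open CategoryTheory CategoryTheory.Limits AlgebraicGeometry TopologicalSpace

/-- a continuous map sending a preconnected set into finitely many closed points is constant on
it. -/
theorem const_of_isPreconnected {α β : Type*} [TopologicalSpace α] [TopologicalSpace β]
    (φ : α → β) (hφ : Continuous φ) (F : Set α) (hF : _root_.IsPreconnected F) (S : Set β)
    (hS : S.Finite) (hcl : ∀ s ∈ S, IsClosed ({s} : Set β)) (hFS : ∀ a ∈ F, φ a ∈ S)
    (a b : α) (ha : a ∈ F) (hb : b ∈ F) : φ a = φ b := by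
  by_contra hne
  have h1 : IsClosed (φ ⁻¹' {φ a}) := (hcl _ (hFS a ha)).preimage hφ
  have hS' : (S \ {φ a}).Finite := hS.subset Set.sdiff_subset
  have h2c : IsClosed (⋃ s ∈ S \ {φ a}, ({s} : Set β)) :=
    hS'.isClosed_biUnion (fun s hs => hcl s hs.1)
  have h2 : IsClosed (φ ⁻¹' (⋃ s ∈ S \ {φ a}, ({s} : Set β))) := h2c.preimage hφ
  have hcov : F ⊆ φ ⁻¹' {φ a} ∪ φ ⁻¹' (⋃ s ∈ S \ {φ a}, ({s} : Set β)) := by
    intro z hz
    by_cases hza : φ z = φ a
    · exact Or.inl hza
    · refine Or.inr ?_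
      simp only [Set.mem_preimage, Set.mem_iUnion, Set.mem_singleton_iff, exists_prop]
      exact ⟨φ z, ⟨hFS z hz, hza⟩, rfl⟩
  obtain ⟨z, -, hz1, hz2⟩ := isPreconnected_closed_iff.1 hF _ _ h1 h2 hcov ⟨a, ha, rfl⟩
    ⟨b, hb, by
      simp only [Set.mem_preimage, Set.mem_iUnion, Set.mem_singleton_iff, exists_prop]
      exact ⟨φ b, ⟨hFS b hb, fun h => hne h.symm⟩, rfl⟩⟩
  simp only [Set.mem_preimage, Set.mem_iUnion, Set.mem_singleton_iff, exists_prop] at hz2
  obtain ⟨s, ⟨-, hs⟩, hzs⟩ := hz2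
  apply hs
  rw [← hzs]
  exact hz1

section factor
variable {X Y₁ Y₂ : Scheme.{u}} (f₁ : X ⟶ Y₁) (f₂ : X ⟶ Y₂)

/-- the fibres of a proper morphism with `O = f_* O` over a locally Noetherian base are
preconnected subsets. -/
theorem isPreconnected_fibre [IsProper f₁] [IsLocallyNoetherian Y₁]
    (hiso : ∀ V : Y₁.Opens, IsIso (f₁.app V)) (q : Y₁) : _root_.IsPreconnected (f₁ ⁻¹' {q}) := by
  obtain ⟨_, ⟨U, hU, rfl⟩, hqU, -⟩ :=
    Y₁.isBasis_affineOpens.exists_subset_of_mem_open (Set.mem_univ q) isOpen_univ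
  haveI := Groth.Agent.Lib.H9ZarLocalU.connectedSpace_fiber_of_nhd f₁ q U hU hqU (hiso U)
  rw [← f₁.range_fiberι q]
  exact isPreconnected_range (f₁.fiberι q).continuous

theorem exists_factor [IsProper f₁] [Surjective f₁] [IsLocallyNoetherian Y₁]
    (hiso : ∀ V : Y₁.Opens, IsIso (f₁.app V)) (T : Set X)
    (hpre : f₁ ⁻¹' (f₁ '' T) = T) (hinj : ∀ x x' : X, x ∉ T → f₁ x = f₁ x' → x = x')
    (S : Set Y₂) (hS : S.Finite) (hcl : ∀ s ∈ S, IsClosed ({s} : Set Y₂))
    (hTS : ∀ x ∈ T, f₂ x ∈ S) : ∃ g : Y₁ ⟶ Y₂, f₁ ≫ g = f₂ := by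
  refine Groth.Agent.Lib.H9FlatBC.exists_factor_of_collapsed f₁ hiso f₂ ?_
  intro x x' hxx'
  by_cases hxT : x ∈ T
  · have hF : f₁ ⁻¹' {f₁ x} ⊆ T := by
      intro z hz
      rw [← hpre]
      exact ⟨x, hxT, hz.symm⟩
    exact const_of_isPreconnected f₂ f₂.continuous _ (isPreconnected_fibre f₁ hiso (f₁ x)) S hS hcl
      (fun a ha => hTS a (hF ha)) x x' rfl hxx'.symm
  · rw [hinj x x' hxT hxx']

end factor

section core
variable {X Y : Scheme.{u}} (f : X ⟶ Y)

theorem bijective_stalkSpecializes {Z : Scheme.{u}} (a b : Z) (h : a ⤳ b) (hab : a = b) :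
    Function.Bijective (Z.presheaf.stalkSpecializes h).hom := by
  subst hab
  have : IsIso (Z.presheaf.stalkSpecializes h) := by
    rw [show h = specializes_refl a from rfl, TopCat.Presheaf.stalkSpecializes_refl]
    infer_instance
  exact ConcreteCategory.bijective_of_isIso _

theorem map_genericPoint_of_isIso_restrict [IsIntegral X] [IsIntegral Y] (V : Y.Opens)
    (hV : (V : Set Y).Nonempty) (hiso : IsIso (f ∣_ V)) :
    f (genericPoint X) = genericPoint Y := by
  have hηV : genericPoint Y ∈ V :=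
    Groth.Agent.Lib.Helper8ProperO.genericPoint_mem_of_nonempty Y V hV
  obtain ⟨z, hz⟩ := (f ∣_ V).surjective ⟨genericPoint Y, hηV⟩
  have h1 := Groth.Agent.Lib.H9ContrD.restrict_apply f V z.1 z.2
  have h3 : f z.1 = genericPoint Y := congrArg Subtype.val (h1.symm.trans hz)
  have h4 : f (genericPoint X) ⤳ f z.1 := (genericPoint_specializes z.1).map f.continuous
  rw [h3] at h4
  exact (h4.antisymm (genericPoint_specializes _)).eq

/-- the basic properties of a contraction to a normal scheme. -/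
theorem contraction_core [IsIntegral X] [IsIntegral Y] [IsProper f] [IsLocallyNoetherian Y]
    (hnor : ∀ q : Y, IsIntegrallyClosed (Y.presheaf.stalk q))
    (T : Set X) (hT : IsClosed T) (hne : ∃ q : Y, q ∉ f '' T)
    (hpre : f ⁻¹' (f '' T) = T)
    (hiso : ∀ V : Y.Opens, (V : Set Y) ∩ f '' T = ∅ → IsIso (f ∣_ V)) :
    (∀ V : Y.Opens, IsIso (f.app V)) ∧ Surjective f ∧
      (∀ x x' : X, x ∉ T → f x = f x' → x = x') := by
  have hcl : IsClosed (f '' T) := f.isClosedMap _ hT
  obtain ⟨V₀, hV₀⟩ : ∃ V₀ : Y.Opens, (V₀ : Set Y) = (f '' T)ᶜ := ⟨⟨_, hcl.isOpen_compl⟩, rfl⟩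
  haveI hisoV : IsIso (f ∣_ V₀) := hiso V₀ (by rw [hV₀]; exact Set.compl_inter_self _)
  have hVne : (V₀ : Set Y).Nonempty := by
    obtain ⟨q, hq⟩ := hne
    exact ⟨q, by rw [hV₀]; exact hq⟩
  have hgen := map_genericPoint_of_isIso_restrict f V₀ hVne hisoV
  have hdom : f.base (genericPoint X) ⤳ genericPoint Y := by
    have : f (genericPoint X) ⤳ genericPoint Y := by rw [hgen]
    exact this
  haveI hst : IsIso (f.stalkMap (genericPoint X)) :=
    Groth.Agent.Lib.Helper4.BirLocalIso.isIso_stalkMap_genericPoint_of_isIso_morphismRestrict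
      f V₀ hVne hisoV
  have hsurj : Function.Surjective (CohIII.stalkToFunctionField f (genericPoint Y) hdom) := by
    unfold CohIII.stalkToFunctionField
    rw [RingHom.coe_comp]
    exact (ConcreteCategory.bijective_of_isIso (f.stalkMap (genericPoint X))).2.comp
      (bijective_stalkSpecializes _ _ hdom hgen).2
  have hN : Pi1.IsNormalScheme Y := fun q => ⟨inferInstance, hnor q⟩
  have happ : ∀ V : Y.Opens, IsIso (f.app V) :=
    Groth.Agent.Lib.Helper8ProperO.isIso_app f hN hdom (fun x _ => hsurj x)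
  refine ⟨happ, ?_, ?_⟩
  · refine ⟨fun t => ?_⟩
    have hr : IsClosed (Set.range f) := f.isClosedMap.isClosed_range
    have hsub : closure {genericPoint Y} ⊆ Set.range f := by
      apply (hr.closure_subset_iff).2
      rintro _ rfl
      exact ⟨genericPoint X, hgen⟩
    exact hsub (by rw [(genericPoint_spec Y).def]; trivial)
  · intro x x' hxT hxx'
    have hfx : f x ∈ V₀ := by
      rw [← SetLike.mem_coe, hV₀]
      intro hmem
      apply hxT
      rw [← hpre]
      exact hmem
    have hfx' : f x' ∈ V₀ := hxx' ▸ hfx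
    have h1 := Groth.Agent.Lib.H9ContrD.restrict_apply f V₀ x hfx
    have h2 := Groth.Agent.Lib.H9ContrD.restrict_apply f V₀ x' hfx'
    have h3 : (f ∣_ V₀) ⟨x, hfx⟩ = (f ∣_ V₀) ⟨x', hfx'⟩ :=
      h1.trans ((Subtype.ext hxx').trans h2.symm)
    exact congrArg Subtype.val ((f ∣_ V₀).isOpenEmbedding.injective h3)

end core

end Groth.Agent.Lib.H9ContrU
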