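import Mathlib
import Groth.Prelude
import Groth.Agent.Lib.H9ContrU

set_option autoImplicit false
set_option linter.style.haveILetI false
universe u

/-! helper9: uniqueness of the contraction of vertical prime divisors of a normal fibered
surface (S7909). -/

namespace Groth.Agent.Lib.H9ContrU2

open CategoryTheory CategoryTheory.Limits AlgebraicGeometry TopologicalSpace

theorem isProper_of_isProjectiveOver (R : Type u) [CommRing R]
    (X : Over (Spec (CommRingCat.of R))) (hproj : Neron.IsProjectiveOver R X) :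
    IsProper X.hom := by
  obtain ⟨n, i, hi, hw⟩ := hproj
  have := Groth.Agent.S9705.isProper_toBase n (Spec (CommRingCat.of R))
  rw [← hw]
  infer_instance

section half
variable (R : Type u) [CommRing R] [IsDomain R] [IsDiscreteValuationRing R]
  (X : Over (Spec (CommRingCat.of R))) [IsIntegral X.left]
  (hproj : Neron.IsProjectiveOver R X)
  {r : ℕ} (Γ : Fin r → ArSurf.VertComp R X)
  (Y : Over (Spec (CommRingCat.of R))) (f : X ⟶ Y)

include hproj in
theorem half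
    (h : IsIntegral Y.left ∧ (∀ q : Y.left, IsIntegrallyClosed (Y.left.presheaf.stalk q)) ∧
      topologicalKrullDim Y.left = 2 ∧ Flat Y.hom ∧ Neron.IsProjectiveOver R Y ∧
      (∀ i, ∃ y : Y.left, Set.range (((Γ i).ι ≫ f.left).base : (Γ i).curve.left → Y.left) = {y}) ∧
      f.left.base ⁻¹' (f.left.base '' ⋃ i, Set.range (Γ i).ι.base) = ⋃ i, Set.range (Γ i).ι.base ∧
      (∀ V : Y.left.Opens, (V : Set Y.left) ∩ f.left.base '' (⋃ i, Set.range (Γ i).ι.base) = ∅ →
        IsIso (f.left ∣_ V))) :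
    IsProper f.left ∧ IsLocallyNoetherian Y.left ∧ (∀ V : Y.left.Opens, IsIso (f.left.app V)) ∧
      Surjective f.left ∧
      (∀ x x' : X.left, x ∉ (⋃ i, Set.range (Γ i).ι.base) → f.left x = f.left x' → x = x') ∧
      ∃ S : Set Y.left, S.Finite ∧ (∀ s ∈ S, IsClosed ({s} : Set Y.left)) ∧
        ∀ x ∈ (⋃ i, Set.range (Γ i).ι.base), f.left x ∈ S := by
  obtain ⟨hint, hnor, hdimY, -, hprojY, hpt, hpre, hiso⟩ := h
  haveI := hint
  haveI hpX : IsProper X.hom := isProper_of_isProjectiveOver R X hproj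
  haveI hpY : IsProper Y.hom := isProper_of_isProjectiveOver R Y hprojY
  haveI : IsProper (f.left ≫ Y.hom) := by rw [Over.w f]; exact hpX
  haveI hpf : IsProper f.left := IsProper.of_comp f.left Y.hom
  haveI : IsLocallyNoetherian Y.left := LocallyOfFiniteType.isLocallyNoetherian Y.hom
  choose y hy using hpt
  have hclT : IsClosed (⋃ i, Set.range (Γ i).ι.base) :=
    isClosed_iUnion_of_finite fun i => (Γ i).ι.isClosedEmbedding.isClosed_range
  have hS : (Set.range y).Finite := Set.finite_range y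
  have hclS : ∀ s ∈ Set.range y, IsClosed ({s} : Set Y.left) := by
    rintro _ ⟨i, rfl⟩
    rw [← hy i]
    exact ((Γ i).ι ≫ f.left).isClosedMap.isClosed_range
  have hTS : ∀ x ∈ (⋃ i, Set.range (Γ i).ι.base), f.left x ∈ Set.range y := by
    intro x hx
    obtain ⟨i, z, rfl⟩ := Set.mem_iUnion.1 hx
    have h1 : ((Γ i).ι ≫ f.left).base z ∈ Set.range ((Γ i).ι ≫ f.left).base :=
      Set.mem_range_self z
    rw [hy i] at h1
    exact ⟨i, h1.symm⟩
  have hne : ∃ q : Y.left, q ∉ f.left '' (⋃ i, Set.range (Γ i).ι.base) := by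
    by_contra hcon
    push Not at hcon
    have hall : ∀ q : Y.left, q ∈ Set.range y := fun q => by
      obtain ⟨x, hx, rfl⟩ := hcon q
      exact hTS x hx
    haveI : Finite Y.left := by
      have : (Set.univ : Set Y.left).Finite := hS.subset (fun q _ => hall q)
      exact Set.finite_univ_iff.mp this
    haveI : T1Space Y.left := ⟨fun q => hclS q (hall q)⟩
    have h0 := topologicalKrullDim_zero_of_discreteTopology Y.left
    rw [hdimY] at h0
    exact absurd h0 (by norm_num)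
  obtain ⟨h1, h2, h3⟩ := Groth.Agent.Lib.H9ContrU.contraction_core f.left hnor
    (⋃ i, Set.range (Γ i).ι.base) hclT hne hpre hiso
  exact ⟨hpf, inferInstance, h1, h2, h3, Set.range y, hS, hclS, hTS⟩

end half

section main
variable (R : Type u) [CommRing R] [IsDomain R] [IsDiscreteValuationRing R]
  (X : Over (Spec (CommRingCat.of R))) [IsIntegral X.left]
  (hproj : Neron.IsProjectiveOver R X)
  {r : ℕ} (Γ : Fin r → ArSurf.VertComp R X)
  (Y₁ Y₂ : Over (Spec (CommRingCat.of R))) (f₁ : X ⟶ Y₁) (f₂ : X ⟶ Y₂)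

include hproj in
/-- **S7909**: the contraction is unique up to unique isomorphism. -/
theorem main7909
    (h₁ : IsIntegral Y₁.left ∧ (∀ q : Y₁.left, IsIntegrallyClosed (Y₁.left.presheaf.stalk q)) ∧
      topologicalKrullDim Y₁.left = 2 ∧ Flat Y₁.hom ∧ Neron.IsProjectiveOver R Y₁ ∧
      (∀ i, ∃ y : Y₁.left, Set.range (((Γ i).ι ≫ f₁.left).base : (Γ i).curve.left → Y₁.left) = {y}) ∧
      f₁.left.base ⁻¹' (f₁.left.base '' ⋃ i, Set.range (Γ i).ι.base) = ⋃ i, Set.range (Γ i).ι.base ∧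
      (∀ V : Y₁.left.Opens, (V : Set Y₁.left) ∩ f₁.left.base '' (⋃ i, Set.range (Γ i).ι.base) = ∅ →
        IsIso (f₁.left ∣_ V)))
    (h₂ : IsIntegral Y₂.left ∧ (∀ q : Y₂.left, IsIntegrallyClosed (Y₂.left.presheaf.stalk q)) ∧
      topologicalKrullDim Y₂.left = 2 ∧ Flat Y₂.hom ∧ Neron.IsProjectiveOver R Y₂ ∧
      (∀ i, ∃ y : Y₂.left, Set.range (((Γ i).ι ≫ f₂.left).base : (Γ i).curve.left → Y₂.left) = {y}) ∧
      f₂.left.base ⁻¹' (f₂.left.base '' ⋃ i, Set.range (Γ i).ι.base) = ⋃ i, Set.range (Γ i).ι.base ∧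
      (∀ V : Y₂.left.Opens, (V : Set Y₂.left) ∩ f₂.left.base '' (⋃ i, Set.range (Γ i).ι.base) = ∅ →
        IsIso (f₂.left ∣_ V))) :
    (∃! g : Y₁ ⟶ Y₂, f₁ ≫ g = f₂) ∧ ∀ g : Y₁ ⟶ Y₂, f₁ ≫ g = f₂ → IsIso g := by
  have hpre₁ := h₁.2.2.2.2.2.2.1
  have hpre₂ := h₂.2.2.2.2.2.2.1
  obtain ⟨hp₁, hn₁, hiso₁, hs₁, hinj₁, S₁, hS₁, hcl₁, hTS₁⟩ := half R X hproj Γ Y₁ f₁ h₁
  obtain ⟨hp₂, hn₂, hiso₂, hs₂, hinj₂, S₂, hS₂, hcl₂, hTS₂⟩ := half R X hproj Γ Y₂ f₂ h₂
  haveI := hp₁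
  haveI := hp₂
  haveI := hn₁
  haveI := hn₂
  haveI := hs₁
  haveI := hs₂
  have hinjapp₁ : ∀ V : Y₁.left.Opens, Function.Injective (f₁.left.app V).hom := fun V =>
    (ConcreteCategory.bijective_of_isIso (f₁.left.app V)).1
  have hinjapp₂ : ∀ V : Y₂.left.Opens, Function.Injective (f₂.left.app V).hom := fun V =>
    (ConcreteCategory.bijective_of_isIso (f₂.left.app V)).1
  obtain ⟨a, ha⟩ := Groth.Agent.Lib.H9ContrU.exists_factor f₁.left f₂.left hiso₁
    (⋃ i, Set.range (Γ i).ι.base) hpre₁ hinj₁ S₂ hS₂ hcl₂ hTS₂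
  obtain ⟨b, hb⟩ := Groth.Agent.Lib.H9ContrU.exists_factor f₂.left f₁.left hiso₂
    (⋃ i, Set.range (Γ i).ι.base) hpre₂ hinj₂ S₁ hS₁ hcl₁ hTS₁
  have haw : a ≫ Y₂.hom = Y₁.hom := by
    apply Groth.Agent.Lib.H9RigH.eq_of_comp_eq f₁.left hinjapp₁
    rw [← Category.assoc, ha, Over.w f₂, Over.w f₁]
  have hbw : b ≫ Y₁.hom = Y₂.hom := by
    apply Groth.Agent.Lib.H9RigH.eq_of_comp_eq f₂.left hinjapp₂
    rw [← Category.assoc, hb, Over.w f₁, Over.w f₂]
  have hab : a ≫ b = 𝟙 Y₁.left := by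
    apply Groth.Agent.Lib.H9RigH.eq_of_comp_eq f₁.left hinjapp₁
    rw [← Category.assoc, ha, hb, Category.comp_id]
  have hba : b ≫ a = 𝟙 Y₂.left := by
    apply Groth.Agent.Lib.H9RigH.eq_of_comp_eq f₂.left hinjapp₂
    rw [← Category.assoc, hb, ha, Category.comp_id]
  have huniq : ∀ g : Y₁ ⟶ Y₂, f₁ ≫ g = f₂ → g = Over.homMk a haw := by
    intro g hg
    apply Over.OverMorphism.ext
    apply Groth.Agent.Lib.H9RigH.eq_of_comp_eq f₁.left hinjapp₁
    show f₁.left ≫ g.left = f₁.left ≫ a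
    rw [ha, ← hg]
    rfl
  have hisoA : IsIso (Over.homMk a haw : Y₁ ⟶ Y₂) := by
    refine ⟨Over.homMk b hbw, ?_, ?_⟩
    · apply Over.OverMorphism.ext
      exact hab
    · apply Over.OverMorphism.ext
      exact hba
  refine ⟨⟨Over.homMk a haw, ?_, huniq⟩, ?_⟩
  · apply Over.OverMorphism.ext
    exact ha
  · intro g hg
    rw [huniq g hg]
    exact hisoA

end main

end Groth.Agent.Lib.H9ContrU2
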