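import Mathlib
import Groth.Prelude.Def_W4stkflatp2Cpct

set_option autoImplicit false
universe u
open CategoryTheory CategoryTheory.Limits AlgebraicGeometry TopologicalSpace Opposite

namespace Groth.Agent.Lib.H9Cpct1

open Cpct

variable {S : Scheme.{u}}

lemma restr_ι {A B : Pair S} (f : A ⟶ B) :
    restr f ≫ B.U.ι = A.U.ι ≫ (Pair.Hom.bar f).left :=
  Scheme.Hom.resLE_comp_ι _ _

lemma restr_id (A : Pair S) : restr (𝟙 A) = 𝟙 _ := by
  rw [← cancel_mono A.U.ι, restr_ι]
  simp

lemma restr_comp {A B C : Pair S} (f : A ⟶ B) (g : B ⟶ C) :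
    restr (f ≫ g) = restr f ≫ restr g := by
  rw [← cancel_mono C.U.ι, restr_ι, Category.assoc, restr_ι, ← Category.assoc, restr_ι]
  simp

instance isMultiplicative : (isoOpen S).IsMultiplicative where
  id_mem A := by
    show IsIso (restr (𝟙 A))
    rw [restr_id]
    infer_instance
  comp_mem f g hf hg := by
    show IsIso (restr (f ≫ g))
    rw [restr_comp]
    haveI : IsIso (restr f) := hf
    haveI : IsIso (restr g) := hg
    infer_instance

instance isSeparated_bar (B : Pair S) : IsSeparated B.bar.hom :=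
  haveI := B.isProper
  inferInstance

/-- two morphisms of compactifications agreeing on the open parts are equalized by a morphism
in `isoOpen` -/
theorem exists_equalizing {A B : Pair S} (a b : A ⟶ B) (h : restr a = restr b) :
    ∃ (A' : Pair S) (t : A' ⟶ A), isoOpen S t ∧ t ≫ a = t ≫ b := by
  let E : Over S := equalizer (Pair.Hom.bar a) (Pair.Hom.bar b)
  let e : E ⟶ A.bar := equalizer.ι (Pair.Hom.bar a) (Pair.Hom.bar b)
  haveI : IsClosedImmersion e.left := inferInstance
  haveI := A.isProper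
  have hE : IsProper E.hom := by
    have h1 : e.left ≫ A.bar.hom = E.hom := Over.w e
    rw [← h1]
    infer_instance
  let A' : Pair S :=
    { bar := E
      U := e.left ⁻¹ᵁ A.U
      isProper := hE
      isCompact := QuasiCompact.isCompact_preimage (f := e.left) _ A.U.2 A.isCompact }
  let t : A' ⟶ A := ⟨e, fun x hx => hx⟩
  refine ⟨A', t, ?_, ?_⟩
  · -- the section
    have h1 : A.U.ι ≫ (Pair.Hom.bar a).left = A.U.ι ≫ (Pair.Hom.bar b).left := by
      rw [← restr_ι, ← restr_ι, h]
    let ιA : Over.mk (A.U.ι ≫ A.bar.hom) ⟶ A.bar := Over.homMk A.U.ι rfl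
    have h2 : ιA ≫ Pair.Hom.bar a = ιA ≫ Pair.Hom.bar b := by
      ext1
      exact h1
    let l : Over.mk (A.U.ι ≫ A.bar.hom) ⟶ E := equalizer.lift ιA h2
    have hl : l.left ≫ e.left = A.U.ι := by
      have := congrArg (fun m => m.left) (equalizer.lift_ι ιA h2)
      exact this
    have hrange : Set.range l.left ⊆ Set.range A'.U.ι := by
      rintro _ ⟨x, rfl⟩
      rw [Scheme.Opens.range_ι]
      show e.left (l.left x) ∈ A.U
      have h3 : e.left (l.left x) = A.U.ι x := congrArg (fun m => m x) hl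
      rw [h3]
      exact x.2
    let l' : (A.U : Scheme.{u}) ⟶ (A'.U : Scheme.{u}) :=
      IsOpenImmersion.lift A'.U.ι l.left hrange
    have hl' : l' ≫ A'.U.ι = l.left := IsOpenImmersion.lift_fac _ _ _
    have hrt : restr t ≫ A.U.ι = A'.U.ι ≫ e.left := restr_ι t
    show IsIso (restr t)
    refine ⟨l', ?_, ?_⟩
    · rw [← cancel_mono A'.U.ι, ← cancel_mono e.left]
      simp only [Category.assoc, Category.id_comp]
      rw [← Category.assoc l', hl', hl, hrt]
    · rw [← cancel_mono A.U.ι]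
      simp only [Category.assoc, Category.id_comp]
      rw [hrt, ← Category.assoc, hl', hl]
  · apply Pair.Hom.ext
    exact equalizer.condition (Pair.Hom.bar a) (Pair.Hom.bar b)




variable {S : Scheme.{u}}

/-- completing a left fraction to a commutative square -/
theorem exists_square {A B C : Pair S} (f : A ⟶ C) (u : B ⟶ C) (hu : isoOpen S u) :
    ∃ (P : Pair S) (v : P ⟶ A) (g : P ⟶ B), isoOpen S v ∧ v ≫ f = g ≫ u := by
  haveI hiso : IsIso (restr u) := hu
  let fb : A.bar.left ⟶ C.bar.left := (Pair.Hom.bar f).left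
  let ub : B.bar.left ⟶ C.bar.left := (Pair.Hom.bar u).left
  have hfb : fb ≫ C.bar.hom = A.bar.hom := Over.w (Pair.Hom.bar f)
  have hub : ub ≫ C.bar.hom = B.bar.hom := Over.w (Pair.Hom.bar u)
  haveI := A.isProper
  haveI := B.isProper
  haveI := C.isProper
  haveI : IsProper ub := by
    haveI : IsProper (ub ≫ C.bar.hom) := by rw [hub]; infer_instance
    exact IsProper.of_comp ub C.bar.hom
  let Pb : Over S := Over.mk (pullback.fst fb ub ≫ A.bar.hom)
  have hPb : IsProper Pb.hom := by
    show IsProper (pullback.fst fb ub ≫ A.bar.hom)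
    infer_instance
  let PU : (pullback fb ub).Opens := pullback.fst fb ub ⁻¹ᵁ A.U ⊓ pullback.snd fb ub ⁻¹ᵁ B.U
  -- the section A.U ⟶ pullback
  have hcond : A.U.ι ≫ fb = (restr f ≫ inv (restr u) ≫ B.U.ι) ≫ ub := by
    have h1 : B.U.ι ≫ ub = restr u ≫ C.U.ι := (restr_ι u).symm
    have h2 : A.U.ι ≫ fb = restr f ≫ C.U.ι := (restr_ι f).symm
    rw [Category.assoc, Category.assoc, h1, IsIso.inv_hom_id_assoc, h2]
  let σ : (A.U : Scheme.{u}) ⟶ pullback fb ub :=
    pullback.lift A.U.ι (restr f ≫ inv (restr u) ≫ B.U.ι) hcond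
  have hσ1 : σ ≫ pullback.fst fb ub = A.U.ι := pullback.lift_fst _ _ _
  have hσ2 : σ ≫ pullback.snd fb ub = restr f ≫ inv (restr u) ≫ B.U.ι := pullback.lift_snd _ _ _
  have hσmem : ∀ x, σ x ∈ PU := by
    intro x
    refine ⟨?_, ?_⟩
    · show (pullback.fst fb ub) (σ x) ∈ A.U
      have h3 : (pullback.fst fb ub) (σ x) = A.U.ι x := congrArg (fun m => m x) hσ1
      rw [h3]
      exact x.2
    · show (pullback.snd fb ub) (σ x) ∈ B.U
      have h3 : (pullback.snd fb ub) (σ x) = (restr f ≫ inv (restr u) ≫ B.U.ι) x :=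
        congrArg (fun m => m x) hσ2
      rw [h3]
      exact ((restr f ≫ inv (restr u)) x).2
  -- restrictions of the projections
  let p1 : (PU : Scheme.{u}) ⟶ (A.U : Scheme.{u}) :=
    (pullback.fst fb ub).resLE A.U PU (fun x hx => hx.1)
  let p2 : (PU : Scheme.{u}) ⟶ (B.U : Scheme.{u}) :=
    (pullback.snd fb ub).resLE B.U PU (fun x hx => hx.2)
  have hp1 : p1 ≫ A.U.ι = PU.ι ≫ pullback.fst fb ub := Scheme.Hom.resLE_comp_ι _ _
  have hp2 : p2 ≫ B.U.ι = PU.ι ≫ pullback.snd fb ub := Scheme.Hom.resLE_comp_ι _ _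
  have hp12 : p1 ≫ restr f = p2 ≫ restr u := by
    rw [← cancel_mono C.U.ι, Category.assoc, Category.assoc, restr_ι, restr_ι,
      ← Category.assoc, ← Category.assoc, hp1, hp2, Category.assoc, Category.assoc]
    exact congrArg (PU.ι ≫ ·) pullback.condition
  have hkey : p1 ≫ σ = PU.ι := by
    apply pullback.hom_ext
    · rw [Category.assoc, hσ1, hp1]
    · rw [Category.assoc, hσ2, ← Category.assoc, ← Category.assoc, hp12, Category.assoc,
        Category.assoc, IsIso.hom_inv_id_assoc, hp2]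
  have hPUeq : (PU : Set ↥(pullback fb ub : Scheme.{u})) = Set.range σ := by
    apply Set.Subset.antisymm
    · intro x hx
      refine ⟨p1 ⟨x, hx⟩, ?_⟩
      have h4 : (p1 ≫ σ) ⟨x, hx⟩ = PU.ι ⟨x, hx⟩ := congrArg (fun m => m ⟨x, hx⟩) hkey
      exact h4
    · rintro _ ⟨x, rfl⟩
      exact hσmem x
  haveI : CompactSpace (A.U : Scheme.{u}) := isCompact_iff_compactSpace.mp A.isCompact
  have hPUc : IsCompact (PU : Set ↥(pullback fb ub : Scheme.{u})) := by
    rw [hPUeq]
    exact isCompact_range σ.continuous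
  let P : Pair S := { bar := Pb, U := PU, isProper := hPb, isCompact := hPUc }
  let v : P ⟶ A := ⟨Over.homMk (pullback.fst fb ub) rfl, fun x hx => hx.1⟩
  let g : P ⟶ B := ⟨Over.homMk (pullback.snd fb ub) (by
      show pullback.snd fb ub ≫ B.bar.hom = pullback.fst fb ub ≫ A.bar.hom
      rw [← hub, ← hfb, ← Category.assoc, ← Category.assoc, pullback.condition]),
    fun x hx => hx.2⟩
  refine ⟨P, v, g, ?_, ?_⟩
  · show IsIso (restr v)
    have hv : restr v = p1 := rfl
    rw [hv]
    have hrange : Set.range σ ⊆ Set.range PU.ι := by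
      rw [Scheme.Opens.range_ι, hPUeq]
    let σ' : (A.U : Scheme.{u}) ⟶ (PU : Scheme.{u}) := IsOpenImmersion.lift PU.ι σ hrange
    have hσ' : σ' ≫ PU.ι = σ := IsOpenImmersion.lift_fac _ _ _
    refine ⟨σ', ?_, ?_⟩
    · rw [← cancel_mono PU.ι, Category.assoc, hσ', hkey, Category.id_comp]
    · rw [← cancel_mono A.U.ι, Category.assoc, hp1, ← Category.assoc, hσ', hσ1, Category.id_comp]
  · apply Pair.Hom.ext
    ext1
    exact pullback.condition

instance hasRightCalculusOfFractions : (isoOpen S).HasRightCalculusOfFractions where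
  exists_rightFraction X Y φ := by
    obtain ⟨P, v, g, hv, hvg⟩ := exists_square φ.f φ.s φ.hs
    exact ⟨⟨v, hv, g⟩, hvg⟩
  ext X Y Y' f₁ f₂ s hs h := by
    haveI : IsIso (restr s) := hs
    have h1 : restr f₁ = restr f₂ := by
      rw [← cancel_mono (restr s), ← restr_comp, ← restr_comp, h]
    obtain ⟨A', t, ht, hteq⟩ := exists_equalizing f₁ f₂ h1
    exact ⟨A', t, ht, hteq⟩


end Groth.Agent.Lib.H9Cpct1
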