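import Mathlib
import Groth.Agent.Lib.H9Cpct1
import Groth.Agent.Lib.Helper18OverLoc

set_option autoImplicit false
universe v₁ v₂ u₁ u₂ u
open CategoryTheory CategoryTheory.Limits AlgebraicGeometry TopologicalSpace Opposite

namespace Groth.Agent.Lib.H9Cpct2

section general

variable {C : Type u₁} [Category.{v₁} C] {D : Type u₂} [Category.{v₂} D]
  (W : MorphismProperty C) (L : C ⥤ D)

/-- a criterion for a functor to be a localization functor for a class of morphisms with a
right calculus of fractions -/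
theorem isLocalization_of_fractions [W.HasRightCalculusOfFractions] (hL : W.IsInvertedBy L)
    [L.EssSurj]
    (hfull : ∀ (X Y : C) (φ : L.obj X ⟶ L.obj Y), ∃ z : W.RightFraction X Y, z.map L hL = φ)
    (hfaith : ∀ (X Y : C) (a b : X ⟶ Y), L.map a = L.map b →
      ∃ (X' : C) (t : X' ⟶ X), W t ∧ t ≫ a = t ≫ b) :
    L.IsLocalization W := by
  let L'' := W.Q
  have hL'' : W.IsInvertedBy L'' := Localization.inverts L'' W
  let Φ := Localization.lift L hL L''
  let e : L'' ⋙ Φ ≅ L := Localization.fac L hL L''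
  have hcomp : W.IsInvertedBy (L'' ⋙ Φ) := fun X Y f hf => by
    have := hL'' f hf
    dsimp
    infer_instance
  have key : ∀ {X Y : C} (z : W.RightFraction X Y),
      Φ.map (z.map L'' hL'') = e.hom.app X ≫ z.map L hL ≫ e.inv.app Y := by
    intro X Y z
    have h := Groth.Agent.Lib.Helper18OverLoc.map_natIso e hcomp hL z
    rw [← Groth.Agent.Lib.Helper18OverLoc.map_comp_functor L'' Φ hL'' hcomp, ← Category.assoc, ← h]
    simp
  have : L''.EssSurj := Localization.essSurj L'' W
  have hess : Φ.EssSurj := by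
    refine ⟨fun Y => ?_⟩
    exact ⟨L''.obj (L.objPreimage Y), ⟨e.app _ ≪≫ L.objObjPreimageIso Y⟩⟩
  have hfullΦ : Φ.Full := by
    refine ⟨fun {e₁ e₂} g => ?_⟩
    let a₁ : L''.obj (L''.objPreimage e₁) ≅ e₁ := L''.objObjPreimageIso e₁
    let a₂ : L''.obj (L''.objPreimage e₂) ≅ e₂ := L''.objObjPreimageIso e₂
    obtain ⟨z, hz⟩ := hfull _ _
      (e.inv.app _ ≫ Φ.map a₁.hom ≫ g ≫ Φ.map a₂.inv ≫ e.hom.app _)
    refine ⟨a₁.inv ≫ z.map L'' hL'' ≫ a₂.hom, ?_⟩
    rw [Φ.map_comp, Φ.map_comp, key, hz]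
    simp [← Φ.map_comp_assoc, ← Φ.map_comp]
  have hfaithΦ : Φ.Faithful := by
    refine ⟨fun {e₁ e₂} u v huv => ?_⟩
    let a₁ : L''.obj (L''.objPreimage e₁) ≅ e₁ := L''.objObjPreimageIso e₁
    let a₂ : L''.obj (L''.objPreimage e₂) ≅ e₂ := L''.objObjPreimageIso e₂
    obtain ⟨z₁, hz₁⟩ := Localization.exists_rightFraction L'' W (a₁.hom ≫ u ≫ a₂.inv)
    obtain ⟨z₂, hz₂⟩ := Localization.exists_rightFraction L'' W (a₁.hom ≫ v ≫ a₂.inv)
    have h3 : Φ.map (z₁.map L'' hL'') = Φ.map (z₂.map L'' hL'') := by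
      rw [← hz₁, ← hz₂]
      simp [huv]
    rw [key, key] at h3
    have h4 : z₁.map L hL = z₂.map L hL := by
      simpa using h3
    -- complete the denominators to a square
    obtain ⟨ψ, hψ⟩ := MorphismProperty.HasRightCalculusOfFractions.exists_rightFraction
      (W := W) (MorphismProperty.LeftFraction.mk z₂.s z₁.s z₁.hs)
    have hψ' : ψ.s ≫ z₂.s = ψ.f ≫ z₁.s := hψ
    have h5 : L.map (ψ.f ≫ z₁.f) = L.map (ψ.s ≫ z₂.f) := by
      have e1 : L.map z₁.s ≫ z₁.map L hL = L.map z₁.f :=
        MorphismProperty.RightFraction.map_s_comp_map z₁ L hL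
      have e2 : L.map z₂.s ≫ z₂.map L hL = L.map z₂.f :=
        MorphismProperty.RightFraction.map_s_comp_map z₂ L hL
      rw [L.map_comp, L.map_comp, ← e1, ← e2, ← Category.assoc, ← Category.assoc,
        ← L.map_comp, ← L.map_comp, ← hψ', h4]
    obtain ⟨Z, t, ht, hteq⟩ := hfaith _ _ _ _ h5
    have h6 : MorphismProperty.RightFractionRel z₁ z₂ := by
      refine ⟨Z, t ≫ ψ.f, t ≫ ψ.s, ?_, ?_, ?_⟩
      · rw [Category.assoc, Category.assoc, hψ']
      · rw [Category.assoc, Category.assoc, hteq]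
      · rw [Category.assoc, ← hψ']
        exact W.comp_mem _ _ ht (W.comp_mem _ _ ψ.hs z₂.hs)
    have h7 : z₁.map L'' hL'' = z₂.map L'' hL'' :=
      (MorphismProperty.RightFraction.map_eq_iff L'' W z₁ z₂).2 h6
    have h8 : a₁.hom ≫ u ≫ a₂.inv = a₁.hom ≫ v ≫ a₂.inv := by rw [hz₁, hz₂, h7]
    simpa using h8
  have : Φ.IsEquivalence := { }
  exact Functor.IsLocalization.of_equivalence_target L'' W L Φ.asEquivalence e


end general

section cpct

open Cpct Groth.Agent.Lib.H9Cpct1


variable {S : Scheme.{u}}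

/-- every morphism between open parts is a right fraction of morphisms of compactifications
(closure of the graph) -/
theorem exists_fraction_of_hom [QuasiSeparatedSpace S] {A B : Pair S}
    (φl : (A.U : Scheme.{u}) ⟶ (B.U : Scheme.{u}))
    (hφ : φl ≫ B.U.ι ≫ B.bar.hom = A.U.ι ≫ A.bar.hom) :
    ∃ (P : Pair S) (v : P ⟶ A) (g : P ⟶ B), isoOpen S v ∧ restr v ≫ φl = restr g := by
  haveI := A.isProper
  haveI := B.isProper
  let Q : Scheme.{u} := pullback A.bar.hom B.bar.hom
  let γ : (A.U : Scheme.{u}) ⟶ Q := pullback.lift A.U.ι (φl ≫ B.U.ι)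
    (by rw [Category.assoc, hφ])
  have hγ1 : γ ≫ pullback.fst A.bar.hom B.bar.hom = A.U.ι := pullback.lift_fst _ _ _
  have hγ2 : γ ≫ pullback.snd A.bar.hom B.bar.hom = φl ≫ B.U.ι := pullback.lift_snd _ _ _
  haveI : IsImmersion γ := by
    haveI : IsImmersion (γ ≫ pullback.fst A.bar.hom B.bar.hom) := by rw [hγ1]; infer_instance
    exact IsImmersion.of_comp γ (pullback.fst A.bar.hom B.bar.hom)
  haveI : CompactSpace (A.U : Scheme.{u}) := isCompact_iff_compactSpace.mp A.isCompact
  haveI : QuasiSeparatedSpace Q :=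
    quasiSeparatedSpace_of_quasiSeparated (pullback.fst A.bar.hom B.bar.hom ≫ A.bar.hom)
  haveI : QuasiCompact γ := inferInstance
  haveI : IsOpenImmersion γ.toImage := inferInstance
  let Pb : Over S := Over.mk (γ.imageι ≫ pullback.fst A.bar.hom B.bar.hom ≫ A.bar.hom)
  have hPb : IsProper Pb.hom := by
    show IsProper (γ.imageι ≫ pullback.fst A.bar.hom B.bar.hom ≫ A.bar.hom)
    infer_instance
  let PU : γ.image.Opens := γ.toImage.opensRange
  have hPUc : IsCompact (PU : Set ↥γ.image) := by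
    show IsCompact (Set.range γ.toImage)
    exact isCompact_range γ.toImage.continuous
  let P : Pair S := { bar := Pb, U := PU, isProper := hPb, isCompact := hPUc }
  have hti : γ.toImage ≫ γ.imageι = γ := γ.toImage_imageι
  let v : P ⟶ A := ⟨Over.homMk (γ.imageι ≫ pullback.fst A.bar.hom B.bar.hom) rfl, by
    rintro _ ⟨y, rfl⟩
    show (γ.imageι ≫ pullback.fst A.bar.hom B.bar.hom) (γ.toImage y) ∈ A.U
    have h1 : (γ.imageι ≫ pullback.fst A.bar.hom B.bar.hom) (γ.toImage y) = A.U.ι y := by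
      have := congrArg (fun m => m y) (show γ.toImage ≫ γ.imageι ≫
        pullback.fst A.bar.hom B.bar.hom = A.U.ι by rw [← Category.assoc, hti, hγ1])
      exact this
    rw [h1]
    exact y.2⟩
  let g : P ⟶ B := ⟨Over.homMk (γ.imageι ≫ pullback.snd A.bar.hom B.bar.hom) (by
      show (γ.imageι ≫ pullback.snd A.bar.hom B.bar.hom) ≫ B.bar.hom =
        γ.imageι ≫ pullback.fst A.bar.hom B.bar.hom ≫ A.bar.hom
      rw [Category.assoc, ← pullback.condition]), by
    rintro _ ⟨y, rfl⟩
    show (γ.imageι ≫ pullback.snd A.bar.hom B.bar.hom) (γ.toImage y) ∈ B.U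
    have h1 : (γ.imageι ≫ pullback.snd A.bar.hom B.bar.hom) (γ.toImage y) =
        B.U.ι (φl y) := by
      have := congrArg (fun m => m y) (show γ.toImage ≫ γ.imageι ≫
        pullback.snd A.bar.hom B.bar.hom = φl ≫ B.U.ι by rw [← Category.assoc, hti, hγ2])
      exact this
    rw [h1]
    exact (φl y).2⟩
  let θ : (A.U : Scheme.{u}) ≅ (PU : Scheme.{u}) := γ.toImage.isoOpensRange
  have hθ : θ.hom ≫ PU.ι = γ.toImage := γ.toImage.isoOpensRange_hom_ι
  have hv : restr v ≫ A.U.ι = PU.ι ≫ γ.imageι ≫ pullback.fst A.bar.hom B.bar.hom := restr_ι v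
  have hg : restr g ≫ B.U.ι = PU.ι ≫ γ.imageι ≫ pullback.snd A.bar.hom B.bar.hom := restr_ι g
  have h1 : θ.hom ≫ restr v = 𝟙 _ := by
    rw [← cancel_mono A.U.ι, Category.assoc, hv, ← Category.assoc, hθ, ← Category.assoc, hti,
      hγ1, Category.id_comp]
  refine ⟨P, v, g, ?_, ?_⟩
  · show IsIso (restr v)
    have h2 : IsIso (θ.hom ≫ restr v) := by rw [h1]; infer_instance
    exact IsIso.of_isIso_comp_left θ.hom (restr v)
  · rw [← cancel_epi θ.hom, ← Category.assoc, h1, Category.id_comp, ← cancel_mono B.U.ι,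
      Category.assoc, hg, ← Category.assoc, hθ, ← Category.assoc, hti, hγ2]



variable (S : Scheme.{u})

lemma inverts : (isoOpen S).IsInvertedBy (openFunctor S) := by
  intro A B f hf
  haveI : IsIso (restr f) := hf
  haveI : IsIso ((Over.forget S).map (openOver.map f)) := by
    show IsIso (restr f)
    infer_instance
  haveI : IsIso (openOver.map f) := isIso_of_reflects_iso _ (Over.forget S)
  haveI : IsIso ((ObjectProperty.ι (IsCompactifyable S)).map ((openFunctor S).map f)) := by
    show IsIso (openOver.map f)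
    infer_instance
  exact isIso_of_reflects_iso _ (ObjectProperty.ι (IsCompactifyable S))

instance essSurj : (openFunctor S).EssSurj := by
  refine ⟨fun X => ?_⟩
  obtain ⟨A, ⟨i⟩⟩ := X.property
  exact ⟨A, ⟨(ObjectProperty.fullyFaithfulι (IsCompactifyable S)).preimageIso i⟩⟩

theorem isLocalization [CompactSpace S] [QuasiSeparatedSpace S] :
    (openFunctor S).IsLocalization (isoOpen S) := by
  refine isLocalization_of_fractions (isoOpen S) (openFunctor S)
    (inverts S) ?_ ?_
  · intro A B φ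
    obtain ⟨P, v, g, hv, hvg⟩ := exists_fraction_of_hom (A := A) (B := B) φ.hom.left
      (Over.w φ.hom)
    refine ⟨⟨v, hv, g⟩, ?_⟩
    haveI : IsIso ((openFunctor S).map v) := inverts S v hv
    rw [← cancel_epi ((openFunctor S).map v)]
    refine (MorphismProperty.RightFraction.map_s_comp_map
      (⟨v, hv, g⟩ : (isoOpen S).RightFraction A B) (openFunctor S) (inverts S)).trans ?_
    ext
    exact hvg.symm
  · intro A B a b hab
    have h1 : restr a = restr b := by
      have h2 := congrArg (fun m => m.hom.left) hab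
      exact h2
    exact exists_equalizing a b h1


end cpct

end Groth.Agent.Lib.H9Cpct2
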