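import Mathlib
import Groth.Prelude.Def_Pi1
import Groth.Agent.Lib.Helper28FlatNormal
import Groth.Agent.Lib.Helper28Serre
import Groth.Agent.Lib.Helper28Normal
import Groth.Agent.Lib.Helper28SkLift
import Groth.Agent.Lib.Helper5FiberStalk
import Groth.Agent.Lib.Helper5RLR
import Groth.Agent.Lib.Helper4FibDimL
import Groth.Agent.Lib.Helper6SmRegSch

/-! helper9: normality of a flat family of reduced curves over a normal base with regular generic fibre. `core` (flat local hom R→T, R normal, T/m_R T reduced of dim ≤ 1 and regular when dim R = 0 ⇒ (R_1),(S_2) at the closed point of T), `pointwise` (scheme form at a point), `isNormalScheme_of_pointwise` (Serre's criterion for locally Noetherian schemes in pointwise form: (ht ≤ 1 → regular) ∧ min 2 ht ≤ depth at every stalk ⇒ Pi1.IsNormalScheme), `main` (S18352). Also `min_one_height_le_depth_of_isReduced`, `isRegularLocalRing_of_isReduced_of_height_eq_zero`, `isRegularLocalRing_of_isIntegrallyClosed_of_height_le_one`, `eq_genericPoint_of_height_eq_zero`. -/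

set_option autoImplicit false
set_option linter.style.haveILetI false
universe u

namespace Groth.Agent.Lib.H9CurveFamNormal

open Groth.Agent.Lib.Helper28 IsLocalRing

section reduced

variable (F : Type u) [CommRing F] [IsLocalRing F] [IsNoetherianRing F] [IsReduced F]

/-- a reduced Noetherian local ring has `depth ≥ min (1, dim)` -/
theorem min_one_height_le_depth_of_isReduced :
    min 1 (maximalIdeal F).height ≤ LocCoh.depth F F := by
  have h := ((isReduced_iff_hasRk_zero_and_hasSk_one (R := F)).mp inferInstance).2
  rw [hasSk_self_iff_enat] at h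
  have h1 := h (maximalIdeal F)
  rw [← depth_self_eq_of_ringEquiv (localizationMaximalIdealEquiv F)] at h1
  simpa using h1

/-- a reduced Noetherian local ring of dimension zero is regular (a field) -/
theorem isRegularLocalRing_of_isReduced_of_height_eq_zero (h0 : (maximalIdeal F).height = 0) :
    IsRegularLocalRing F := by
  have h := ((isReduced_iff_hasRk_zero_and_hasSk_one (R := F)).mp inferInstance).1
  have h1 : IsRegularLocalRing (Localization.AtPrime (maximalIdeal F)) :=
    h (maximalIdeal F) (by rw [h0]; exact le_rfl)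
  exact IsRegularLocalRing.of_ringEquiv (localizationMaximalIdealEquiv F).symm

end reduced

section normal

variable (R : Type u) [CommRing R] [IsLocalRing R] [IsNoetherianRing R] [IsDomain R]
  [IsIntegrallyClosed R]

/-- a normal Noetherian local domain of dimension at most one is regular -/
theorem isRegularLocalRing_of_isIntegrallyClosed_of_height_le_one
    (h1 : (maximalIdeal R).height ≤ 1) : IsRegularLocalRing R := by
  have hA := (forall_isIntegrallyClosed_localization_iff_hasRk_one_and_hasSk_two R).mp
    (fun P' _ => ⟨inferInstance,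
      isIntegrallyClosed_of_isLocalization _ P'.primeCompl P'.primeCompl_le_nonZeroDivisors⟩)
  have h2 : IsRegularLocalRing (Localization.AtPrime (maximalIdeal R)) :=
    hA.1 (maximalIdeal R) (by exact_mod_cast h1)
  exact IsRegularLocalRing.of_ringEquiv (localizationMaximalIdealEquiv R).symm

end normal

section core

variable {R T : Type u} [CommRing R] [CommRing T] [IsLocalRing R] [IsLocalRing T]
  [IsNoetherianRing R] [IsNoetherianRing T] [Algebra R T] [IsLocalHom (algebraMap R T)]
  [Module.Flat R T] [IsDomain R] [IsIntegrallyClosed R]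

theorem height_eq_add (J : Ideal T) (hJ : J = (maximalIdeal R).map (algebraMap R T))
    [IsLocalRing (T ⧸ J)] :
    (maximalIdeal T).height = (maximalIdeal (T ⧸ J)).height + (maximalIdeal R).height := by
  have h := ringKrullDim_eq_add_of_flat (R := R) (S := T) J hJ
  rw [← IsLocalRing.maximalIdeal_height_eq_ringKrullDim,
    ← IsLocalRing.maximalIdeal_height_eq_ringKrullDim,
    ← IsLocalRing.maximalIdeal_height_eq_ringKrullDim, ← WithBot.coe_add] at h
  exact WithBot.coe_injective h

/-- **Core**: flat local homomorphism with normal base and reduced closed fibre of dimension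
at most one, regular when the base is a field: `(R_1)` and `(S_2)` at the closed point. -/
theorem core (J : Ideal T) (hJ : J = (maximalIdeal R).map (algebraMap R T))
    [IsLocalRing (T ⧸ J)] [IsReduced (T ⧸ J)] (hdim : (maximalIdeal (T ⧸ J)).height ≤ 1)
    (hgen : (maximalIdeal R).height = 0 → IsRegularLocalRing (T ⧸ J)) :
    ((maximalIdeal T).height ≤ 1 → IsRegularLocalRing T) ∧
      min 2 (maximalIdeal T).height ≤ LocCoh.depth T T := by
  have hht := height_eq_add (R := R) J hJ
  constructor
  · intro h1
    rw [hht] at h1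
    have hR1 : (maximalIdeal R).height ≤ 1 := le_trans le_add_self h1
    haveI : IsRegularLocalRing R := isRegularLocalRing_of_isIntegrallyClosed_of_height_le_one R hR1
    haveI : IsRegularLocalRing (T ⧸ J) := by
      by_cases h0 : (maximalIdeal R).height = 0
      · exact hgen h0
      · have hR : (maximalIdeal R).height = 1 := by
          refine le_antisymm hR1 ?_
          exact Order.one_le_iff_pos.mpr (pos_iff_ne_zero.mpr h0)
        rw [hR] at h1
        have hF0 : (maximalIdeal (T ⧸ J)).height = 0 := by
          have : (maximalIdeal (T ⧸ J)).height + 1 ≤ 0 + 1 := by simpa using h1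
          have h2 := (ENat.add_le_add_iff_right (by simp : (1 : ℕ∞) ≠ ⊤)).mp this
          exact le_antisymm h2 bot_le
        exact isRegularLocalRing_of_isReduced_of_height_eq_zero (T ⧸ J) hF0
    exact isRegularLocalRing_of_flat_of_isRegularLocalRing_fibre (R := R) (S := T) J hJ
  · rw [depth_eq_depth_add_depth_quotient_of_flat (R := R) (S := T) J hJ, hht]
    have hR := min_two_height_le_depth_of_isIntegrallyClosed (F := R)
    have hF := min_one_height_le_depth_of_isReduced (T ⧸ J)
    rw [min_eq_right hdim] at hF
    calc min 2 ((maximalIdeal (T ⧸ J)).height + (maximalIdeal R).height)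
        ≤ min 2 (maximalIdeal (T ⧸ J)).height + min 2 (maximalIdeal R).height :=
          min_two_add_le _ _
      _ ≤ (maximalIdeal (T ⧸ J)).height + min 2 (maximalIdeal R).height :=
          add_le_add_left (min_le_right _ _) _
      _ ≤ LocCoh.depth (T ⧸ J) (T ⧸ J) + LocCoh.depth R R := add_le_add hF hR
      _ = LocCoh.depth R R + LocCoh.depth (T ⧸ J) (T ⧸ J) := add_comm _ _

end core


section scheme

open AlgebraicGeometry CategoryTheory

variable {S C : Scheme.{u}}

theorem eq_genericPoint_of_height_eq_zero [IsIntegral S] (s : S)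
    (h0 : (maximalIdeal (S.presheaf.stalk s)).height = 0) : s = genericPoint S := by
  have h1 : ringKrullDim (S.presheaf.stalk s) = 0 := by
    rw [← IsLocalRing.maximalIdeal_height_eq_ringKrullDim, h0]; rfl
  rw [ringKrullDim_stalk_eq_coheight] at h1
  have h2 : Order.coheight s = 0 := by exact_mod_cast h1
  rw [Order.coheight_eq_zero] at h2
  have h3 : genericPoint S ⤳ s := genericPoint_specializes s
  have h4 : s ⤳ genericPoint S := h2 h3
  exact (h4.antisymm h3).eq

/-- `(R_1)` and `(S_2)` at every point of a flat family of reduced curves over a normal base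
with regular generic fibre. -/
theorem pointwise [IsIntegral S] [IsLocallyNoetherian S] [IsLocallyNoetherian C]
    (hS : Pi1.IsNormalScheme S) (f : C ⟶ S) [Flat f]
    (hred : ∀ s : S, IsReduced (f.fiber s))
    (hdim : ∀ s : S, topologicalKrullDim ↥(f.fiber s) ≤ 1)
    (hsm : ∀ z : f.fiber (genericPoint S),
      IsRegularLocalRing ((f.fiber (genericPoint S)).presheaf.stalk z))
    (x : C) :
    ((maximalIdeal (C.presheaf.stalk x)).height ≤ 1 → IsRegularLocalRing (C.presheaf.stalk x)) ∧
      min 2 (maximalIdeal (C.presheaf.stalk x)).height ≤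
        LocCoh.depth (C.presheaf.stalk x) (C.presheaf.stalk x) := by
  letI := (f.stalkMap x).hom.toAlgebra
  haveI : IsLocalHom (algebraMap (S.presheaf.stalk (f x)) (C.presheaf.stalk x)) :=
    inferInstanceAs (IsLocalHom (f.stalkMap x).hom)
  haveI : Module.Flat (S.presheaf.stalk (f x)) (C.presheaf.stalk x) := Flat.stalkMap f x
  haveI := (hS (f x)).1
  haveI := (hS (f x)).2
  obtain ⟨e⟩ := Groth.Agent.Lib.Helper5.FiberStalk.nonempty_stalk_asFiber_equiv f x
  have hne : (maximalIdeal (S.presheaf.stalk (f x))).map (f.stalkMap x).hom ≠ ⊤ :=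
    (IsLocalRing.map_maximalIdeal_lt_top _).ne
  haveI : IsLocalRing (C.presheaf.stalk x ⧸
      (maximalIdeal (S.presheaf.stalk (f x))).map (f.stalkMap x).hom) :=
    Groth.Agent.Lib.Helper5.isLocalRing_quotient hne
  haveI := hred (f x)
  haveI : IsReduced (C.presheaf.stalk x ⧸
      (maximalIdeal (S.presheaf.stalk (f x))).map (f.stalkMap x).hom) :=
    isReduced_of_injective e.symm.toRingHom e.symm.injective
  refine core (R := S.presheaf.stalk (f x)) (T := C.presheaf.stalk x)
    ((maximalIdeal (S.presheaf.stalk (f x))).map (f.stalkMap x).hom) rfl ?_ ?_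
  · have h1 : ringKrullDim ((f.fiber (f x)).presheaf.stalk (f.asFiber x)) ≤ 1 :=
      (Groth.Agent.Lib.Helper4.FibDim.ringKrullDim_stalk_le_topologicalKrullDim _ _).trans
        (hdim _)
    rw [ringKrullDim_eq_of_ringEquiv e, ← IsLocalRing.maximalIdeal_height_eq_ringKrullDim] at h1
    exact_mod_cast h1
  · intro h0
    have hη : f x = genericPoint S := eq_genericPoint_of_height_eq_zero (f x) h0
    have key : ∀ (s : S), s = genericPoint S → ∀ z : f.fiber s,
        IsRegularLocalRing ((f.fiber s).presheaf.stalk z) := by
      rintro _ rfl z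
      exact hsm z
    haveI := key (f x) hη (f.asFiber x)
    exact IsRegularLocalRing.of_ringEquiv e


theorem height_maximalIdeal_eq_of_ringEquiv {T B : Type u} [CommRing T] [CommRing B]
    [IsLocalRing T] (Q : Ideal B) [Q.IsPrime] (e : T ≃+* Localization.AtPrime Q) :
    (maximalIdeal T).height = Q.height := by
  have h1 : ((maximalIdeal T).height : WithBot ℕ∞) = Q.height := by
    rw [IsLocalRing.maximalIdeal_height_eq_ringKrullDim, ringKrullDim_eq_of_ringEquiv e,
      IsLocalization.AtPrime.ringKrullDim_eq_height Q]
  exact WithBot.coe_injective h1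

/-- Serre's criterion for a locally Noetherian scheme, pointwise form. -/
theorem isNormalScheme_of_pointwise [IsLocallyNoetherian C]
    (h : ∀ x : C, ((maximalIdeal (C.presheaf.stalk x)).height ≤ 1 →
        IsRegularLocalRing (C.presheaf.stalk x)) ∧
      min 2 (maximalIdeal (C.presheaf.stalk x)).height ≤
        LocCoh.depth (C.presheaf.stalk x) (C.presheaf.stalk x)) :
    Pi1.IsNormalScheme C := by
  intro x
  obtain ⟨_, ⟨(U : C.Opens), (hU : IsAffineOpen U), rfl⟩, hxU, -⟩ :=
    C.isBasis_affineOpens.exists_subset_of_mem_open (Set.mem_univ x) isOpen_univ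
  haveI : IsNoetherianRing Γ(C, U) := IsLocallyNoetherian.component_noetherian ⟨U, hU⟩
  have eQ : ∀ y : Spec Γ(C, U),
      C.presheaf.stalk (hU.fromSpec y) ≃+* Localization.AtPrime y.asIdeal := fun y =>
    (asIso (hU.fromSpec.stalkMap y)).commRingCatIsoToRingEquiv.trans
      (Spec.stalkIso _ y).commRingCatIsoToRingEquiv
  have hall : ∀ (Q : Ideal Γ(C, U)) [Q.IsPrime], IsDomain (Localization.AtPrime Q) ∧
      IsIntegrallyClosed (Localization.AtPrime Q) := by
    rw [forall_isIntegrallyClosed_localization_iff_hasRk_one_and_hasSk_two]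
    constructor
    · intro Q hQ hht
      have e := eQ ⟨Q, hQ⟩
      have hh := height_maximalIdeal_eq_of_ringEquiv Q e
      haveI := (h (hU.fromSpec ⟨Q, hQ⟩)).1 (by rw [hh]; exact_mod_cast hht)
      exact IsRegularLocalRing.of_ringEquiv e
    · rw [hasSk_self_iff_enat]
      intro Q hQ
      have e := eQ ⟨Q, hQ⟩
      have hh := height_maximalIdeal_eq_of_ringEquiv Q e
      have hx' := (h (hU.fromSpec ⟨Q, hQ⟩)).2
      haveI : IsNoetherianRing (C.presheaf.stalk (hU.fromSpec ⟨Q, hQ⟩)) := inferInstance
      haveI : IsNoetherianRing (Localization.AtPrime Q) :=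
        IsLocalization.isNoetherianRing Q.primeCompl _ inferInstance
      rw [depth_self_eq_of_ringEquiv e, hh] at hx'
      exact hx'
  obtain ⟨p, rfl⟩ : ∃ p, hU.fromSpec p = x := ⟨_, hU.fromSpec_primeIdealOf ⟨x, hxU⟩⟩
  have e := eQ p
  obtain ⟨h1, h2⟩ := hall p.asIdeal
  exact ⟨e.toMulEquiv.isDomain _, IsIntegrallyClosed.of_equiv e.symm⟩

/-- **S18352**: a flat family of geometrically reduced curves over a normal integral Noetherian
base with smooth generic fibre has normal total space. -/
theorem main (S C : Scheme.{u}) [IsIntegral S] [IsNoetherian S]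
    (hS : Pi1.IsNormalScheme S) (f : C ⟶ S) [Flat f] [LocallyOfFinitePresentation f]
    [GeometricallyReduced f]
    (hdim : ∀ s : ↥S, topologicalKrullDim ↥(f.fiber s) = 1)
    (hsm : Smooth (f.fiberToSpecResidueField (genericPoint ↥S))) :
    Pi1.IsNormalScheme C := by
  haveI : IsLocallyNoetherian C := LocallyOfFiniteType.isLocallyNoetherian f
  apply isNormalScheme_of_pointwise
  intro x
  refine pointwise hS f (fun s => inferInstance) (fun s => (hdim s).le) (fun z => ?_) x
  exact Groth.Agent.Lib.Helper6.SmRegSch.isRegularLocalRing_stalk_of_smooth_over_field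
    (S.residueField (genericPoint ↥S)) (f.fiber (genericPoint ↥S))
    (f.fiberToSpecResidueField (genericPoint ↥S)) z

end scheme

end Groth.Agent.Lib.H9CurveFamNormal
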