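/-
Helper library (helper9): fibrations `O_Y ≅ f_* O_X` versus algebraic closedness of `K(Y)` in
`K(X)` and birationality (S14821, S14822).
-/
import Groth.Agent.Lib.H9FibrBirA
import Groth.Agent.Lib.H9AlgClC
import Groth.Agent.Lib.H9FlatBC
import Groth.Agent.Lib.Helper3AbHom
import Groth.Agent.Lib.H5bDimIneq
import Groth.Agent.Lib.H5bFieldSp

set_option autoImplicit false
set_option linter.style.haveILetI false
universe u

open AlgebraicGeometry CategoryTheory CategoryTheory.Limits

namespace Groth.Agent.Lib.H9FibrBirB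

variable {X Y : Scheme.{u}} [IsIntegral X] [IsIntegral Y]

/-- `K(Y)` algebraically closed in `K(X)`, `Y` normal locally Noetherian, `f` proper:
`O_Y → f_* O_X` is an isomorphism. -/
theorem isIso_app_of_algClosed [IsLocallyNoetherian Y] (f : X ⟶ Y) [IsProper f]
    (hY : Pi1.IsNormalScheme Y) (h : f.base (genericPoint X) ⤳ genericPoint Y)
    (halg : ∀ x : X.functionField,
      (CohIII.stalkToFunctionField f (genericPoint Y) h).IsIntegralElem x →
      x ∈ (CohIII.stalkToFunctionField f (genericPoint Y) h).range)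
    (U : Y.Opens) : IsIso (f.app U) := by
  apply Groth.Agent.Lib.H9FlatBC.isIso_app_of_local f
  intro y
  have halg' : ∀ x : X.functionField,
      (∃ q : Polynomial Y.functionField, q ≠ 0 ∧
        Polynomial.eval₂ (CohIII.stalkToFunctionField f (genericPoint Y) h) x q = 0) →
      x ∈ Set.range (CohIII.stalkToFunctionField f (genericPoint Y) h) := by
    rintro x ⟨q, hq0, hq⟩
    have := halg x ⟨q * Polynomial.C (q.leadingCoeff⁻¹),
      Polynomial.monic_mul_leadingCoeff_inv hq0, by rw [Polynomial.eval₂_mul, hq, zero_mul]⟩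
    exact this
  obtain ⟨-, V, hyV, hV⟩ := Groth.Agent.Lib.H9AlgClC.main f h halg' y (hY y).2
  exact ⟨V, hyV, fun W _ hW => hV W hW⟩

/-- `O_Y ≅ f_* O_X` with `X` normal: `K(Y)` is algebraically closed in `K(X)`. -/
theorem mem_range_of_isIntegralElem (f : X ⟶ Y) (hX : Pi1.IsNormalScheme X)
    (h : f.base (genericPoint X) ⤳ genericPoint Y)
    (hiso : ∀ U : Y.Opens, IsIso (f.app U)) (t : X.functionField)
    (ht : (CohIII.stalkToFunctionField f (genericPoint Y) h).IsIntegralElem t) :
    t ∈ (CohIII.stalkToFunctionField f (genericPoint Y) h).range := by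
  obtain ⟨_, ⟨U, hU, rfl⟩, hηU, -⟩ := Y.isBasis_affineOpens.exists_subset_of_mem_open
    (Set.mem_univ (genericPoint Y)) isOpen_univ
  have hηU : genericPoint Y ∈ U := hηU
  have hξW : genericPoint X ∈ f ⁻¹ᵁ U :=
    Groth.Agent.Lib.H9AlgClA.gen_mem f h (genericPoint Y) U hηU
  haveI : Nonempty U := ⟨⟨_, hηU⟩⟩
  haveI : Nonempty (f ⁻¹ᵁ U : X.Opens) := ⟨⟨_, hξW⟩⟩
  set φ := CohIII.stalkToFunctionField f (genericPoint Y) h with hφ
  haveI hfr : IsFractionRing Γ(Y, U) Y.functionField :=
    functionField_isFractionRing_of_isAffineOpen Y U hU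
  letI algK : Algebra Y.functionField X.functionField := φ.toAlgebra
  letI algA : Algebra Γ(Y, U) X.functionField :=
    (φ.comp (algebraMap Γ(Y, U) Y.functionField)).toAlgebra
  haveI : IsScalarTower Γ(Y, U) Y.functionField X.functionField :=
    IsScalarTower.of_algebraMap_eq' rfl
  have ht' : IsIntegral Y.functionField t := ht
  obtain ⟨m, hm⟩ := IsIntegral.exists_multiple_integral_of_isLocalization
    (nonZeroDivisors Γ(Y, U)) t ht'
  letI algAB : Algebra Γ(Y, U) Γ(X, f ⁻¹ᵁ U) := (f.app U).hom.toAlgebra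
  have hcompat : ∀ a : Γ(Y, U), algebraMap Γ(X, f ⁻¹ᵁ U) X.functionField ((f.app U).hom a) =
      φ (algebraMap Γ(Y, U) Y.functionField a) := fun a =>
    Groth.Agent.Lib.H9AlgClA.germ_app f h (genericPoint Y) U hηU a
  haveI : IsScalarTower Γ(Y, U) Γ(X, f ⁻¹ᵁ U) X.functionField :=
    IsScalarTower.of_algebraMap_eq (fun a => (hcompat a).symm)
  have hm' : IsIntegral Γ(X, f ⁻¹ᵁ U) (m • t) := hm.tower_top
  have hcl := Groth.Agent.Lib.H9FibrBirA.isIntegrallyClosedIn_functionField X hX (f ⁻¹ᵁ U)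
  obtain ⟨b, hb⟩ := (isIntegrallyClosedIn_iff.mp hcl).2 hm'
  haveI := hiso U
  obtain ⟨a, ha⟩ : ∃ a, (f.app U).hom a = b :=
    ((ConcreteCategory.isIso_iff_bijective (f.app U)).mp inferInstance).2 b
  have hm0 : algebraMap Γ(Y, U) Y.functionField (m : Γ(Y, U)) ≠ 0 := by
    intro h0
    have := (IsFractionRing.injective Γ(Y, U) Y.functionField)
      (h0.trans (map_zero _).symm)
    exact nonZeroDivisors.ne_zero m.2 this
  have hφm0 : φ (algebraMap Γ(Y, U) Y.functionField (m : Γ(Y, U))) ≠ 0 := by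
    intro h0
    exact hm0 (φ.injective (h0.trans (map_zero _).symm))
  refine ⟨algebraMap Γ(Y, U) Y.functionField a / algebraMap Γ(Y, U) Y.functionField (m : Γ(Y, U)),
    ?_⟩
  rw [map_div₀]
  rw [div_eq_iff hφm0]
  have h1 : m • t = φ (algebraMap Γ(Y, U) Y.functionField (m : Γ(Y, U))) * t := by
    rw [Submonoid.smul_def, Algebra.smul_def]
    rfl
  rw [← hcompat a, ha, hb, h1, mul_comm]

end Groth.Agent.Lib.H9FibrBirB
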