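import Mathlib
import Groth.Agent.Lib.Helper20FinHom
import Groth.Agent.Lib.Helper27FEtFib

/-! Degree of finite étale morphisms via geometric fibres: `card_algHom_eq_finrank`, `card_sections`, `Fib`, `card_fib` (#geometric fibre = `Scheme.Hom.finrank`), `geomPt`, `section_eq_of_apply_eq`, split criterion `isIso_desc` (as many pairwise disjoint sections as the degree), `card_le_finrank` (helper9). -/

namespace Groth.Agent.Lib.H9FEtDeg

open AlgebraicGeometry CategoryTheory Limits

universe u v

/-- the number of rational points of an étale algebra over a separably closed field is its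
dimension -/
theorem card_algHom_eq_finrank (Ω B : Type u) [Field Ω] [IsSepClosed Ω] [CommRing B] [Algebra Ω B]
    [Algebra.Etale Ω B] : Nat.card (B →ₐ[Ω] Ω) = Module.finrank Ω B := by
  haveI := Algebra.FormallyUnramified.finite_of_free Ω B
  haveI : IsArtinianRing B := isArtinian_of_tower Ω inferInstance
  haveI : Finite (PrimeSpectrum B) := inferInstance
  rw [Nat.card_congr (Algebra.IsFiniteSplit.algHomEquivPrimeSpectrum Ω B),
    (Algebra.FormallyEtale.equivPiOfIsSepClosed Ω B).toLinearEquiv.finrank_eq]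
  haveI := Fintype.ofFinite (PrimeSpectrum B)
  rw [Module.finrank_fintype_fun_eq_card, Nat.card_eq_fintype_card]

/-- sections of `Spec B ⟶ Spec Ω` are `Ω`-algebra maps `B → Ω` -/
noncomputable def secEquiv (Ω B : Type u) [Field Ω] [CommRing B] [Algebra Ω B] :
    {t : Spec (CommRingCat.of Ω) ⟶ Spec (CommRingCat.of B) //
      t ≫ Spec.map (CommRingCat.ofHom (algebraMap Ω B)) = 𝟙 _} ≃ (B →ₐ[Ω] Ω) where
  toFun t :=
    { toRingHom := (Spec.preimage t.1).hom
      commutes' := by
        intro r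
        have h1 : Spec.map (CommRingCat.ofHom (algebraMap Ω B) ≫ Spec.preimage t.1) =
            Spec.map (𝟙 (CommRingCat.of Ω)) := by
          rw [Spec.map_comp, Spec.map_preimage, Spec.map_id]
          exact t.2
        have h2 := Spec.map_injective h1
        exact congrArg (fun f => f.hom r) h2 }
  invFun φ := ⟨Spec.map (CommRingCat.ofHom φ.toRingHom), by
    rw [← Spec.map_comp]
    have : CommRingCat.ofHom (algebraMap Ω B) ≫ CommRingCat.ofHom φ.toRingHom =
        𝟙 (CommRingCat.of Ω) := by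
      ext r
      exact φ.commutes r
    rw [this, Spec.map_id]⟩
  left_inv t := by
    apply Subtype.ext
    show Spec.map (CommRingCat.ofHom (Spec.preimage t.1).hom) = t.1
    exact Spec.map_preimage t.1
  right_inv φ := by
    ext b
    show (Spec.preimage (Spec.map (CommRingCat.ofHom φ.toRingHom))).hom b = φ b
    rw [Spec.preimage_map]
    rfl

/-- the number of sections of a finite étale scheme over a separably closed field is its degree -/
theorem card_sections {P : Scheme.{u}} {Ω : Type u} [Field Ω] [IsSepClosed Ω]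
    (p : P ⟶ Spec (CommRingCat.of Ω)) [IsFinite p] [Etale p] (x : Spec (CommRingCat.of Ω)) :
    Nat.card {t : Spec (CommRingCat.of Ω) ⟶ P // t ≫ p = 𝟙 _} = p.finrank x := by
  haveI : IsAffine P := isAffine_of_isAffineHom p
  let ι : Ω →+* Γ(P, ⊤) := ((Scheme.ΓSpecIso (CommRingCat.of Ω)).inv ≫ p.appTop).hom
  letI : Algebra Ω Γ(P, ⊤) := ι.toAlgebra
  have hfac : P.isoSpec.hom ≫ Spec.map (CommRingCat.ofHom (algebraMap Ω Γ(P, ⊤))) = p := by
    have h1 := Scheme.isoSpec_hom_naturality p
    rw [Scheme.isoSpec_Spec_hom] at h1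
    have h2 : CommRingCat.ofHom (algebraMap Ω Γ(P, ⊤)) =
        (Scheme.ΓSpecIso (CommRingCat.of Ω)).inv ≫ p.appTop := rfl
    rw [h2, Spec.map_comp, ← Category.assoc, ← cancel_mono (Spec.map (Scheme.ΓSpecIso (CommRingCat.of Ω)).hom),
      Category.assoc, Category.assoc, ← Spec.map_comp, Iso.hom_inv_id, Spec.map_id, Category.comp_id]
    exact h1
  have hq : IsFinite (Spec.map (CommRingCat.ofHom (algebraMap Ω Γ(P, ⊤)))) ∧
      Etale (Spec.map (CommRingCat.ofHom (algebraMap Ω Γ(P, ⊤)))) := by
    have h3 : Spec.map (CommRingCat.ofHom (algebraMap Ω Γ(P, ⊤))) = P.isoSpec.inv ≫ p := by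
      rw [← hfac, Iso.inv_hom_id_assoc]
    rw [h3]
    exact ⟨inferInstance, inferInstance⟩
  haveI : Module.Finite Ω Γ(P, ⊤) := by
    have := (IsFinite.SpecMap_iff _).mp hq.1
    exact RingHom.finite_algebraMap.mp this
  haveI : Algebra.Etale Ω Γ(P, ⊤) := by
    have := (HasRingHomProperty.Spec_iff (P := @Etale)).mp hq.2
    exact RingHom.etale_algebraMap.mp this
  -- sections of `p` correspond to sections of the affine model
  let E : {t : Spec (CommRingCat.of Ω) ⟶ P // t ≫ p = 𝟙 _} ≃
      {t : Spec (CommRingCat.of Ω) ⟶ Spec (CommRingCat.of Γ(P, ⊤)) //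
        t ≫ Spec.map (CommRingCat.ofHom (algebraMap Ω Γ(P, ⊤))) = 𝟙 _} :=
    { toFun := fun t => ⟨t.1 ≫ P.isoSpec.hom, by rw [Category.assoc, hfac]; exact t.2⟩
      invFun := fun t => ⟨t.1 ≫ P.isoSpec.inv, by
        rw [← hfac, Category.assoc, Iso.inv_hom_id_assoc]; exact t.2⟩
      left_inv := fun t => Subtype.ext (by simp)
      right_inv := fun t => Subtype.ext (by simp) }
  haveI := hq.1
  haveI : Flat (Spec.map (CommRingCat.ofHom (algebraMap Ω Γ(P, ⊤)))) := by
    haveI := hq.2
    infer_instance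
  rw [Nat.card_congr (E.trans (secEquiv Ω Γ(P, ⊤))), card_algHom_eq_finrank, ← hfac,
    Scheme.Hom.finrank_comp_left_of_isIso]
  rw [Scheme.Hom.finrank_SpecMap_algebraMap, Module.rankAtStalk_eq_finrank_of_free]
  rfl

variable {Z T : Scheme.{u}}

/-- the geometric fibre of `g` over a field-valued point -/
def Fib (g : Z ⟶ T) {Ω : Type u} [Field Ω] (ξ : Spec (CommRingCat.of Ω) ⟶ T) : Type u :=
  {z : Spec (CommRingCat.of Ω) ⟶ Z // z ≫ g = ξ}

instance finite_fib (g : Z ⟶ T) [IsFinite g] {Ω : Type u} [Field Ω]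
    (ξ : Spec (CommRingCat.of Ω) ⟶ T) : Finite (Fib g ξ) :=
  Groth.Agent.Lib.Helper27FEtFib.finite_fiber g ξ

/-- the geometric fibre is the set of sections of the base change -/
noncomputable def fibEquivSections (g : Z ⟶ T) {Ω : Type u} [Field Ω]
    (ξ : Spec (CommRingCat.of Ω) ⟶ T) :
    Fib g ξ ≃ {t : Spec (CommRingCat.of Ω) ⟶ pullback g ξ // t ≫ pullback.snd g ξ = 𝟙 _} where
  toFun z := ⟨pullback.lift z.1 (𝟙 _) (by rw [z.2, Category.id_comp]), pullback.lift_snd _ _ _⟩
  invFun t := ⟨t.1 ≫ pullback.fst g ξ, by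
    rw [Category.assoc, pullback.condition, ← Category.assoc, t.2, Category.id_comp]⟩
  left_inv z := Subtype.ext (pullback.lift_fst _ _ _)
  right_inv t := by
    apply Subtype.ext
    apply pullback.hom_ext
    · exact pullback.lift_fst _ _ _
    · exact (pullback.lift_snd _ _ _).trans t.2.symm

/-- the number of geometric points in a fibre of a finite étale morphism is its degree -/
theorem card_fib (g : Z ⟶ T) [IsFinite g] [Etale g] {Ω : Type u} [Field Ω] [IsSepClosed Ω]
    (ξ : Spec (CommRingCat.of Ω) ⟶ T) (x : Spec (CommRingCat.of Ω)) :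
    Nat.card (Fib g ξ) = g.finrank (ξ x) := by
  rw [Nat.card_congr (fibEquivSections g ξ), card_sections (pullback.snd g ξ) x,
    Scheme.Hom.finrank_pullback_snd]

/-- a geometric point over a given point -/
noncomputable def geomPt (Z : Scheme.{u}) (z : Z) :
    Spec (CommRingCat.of (AlgebraicClosure (Z.residueField z))) ⟶ Z :=
  Spec.map (CommRingCat.ofHom (algebraMap (Z.residueField z)
    (AlgebraicClosure (Z.residueField z)))) ≫ Z.fromSpecResidueField z

theorem geomPt_apply (Z : Scheme.{u}) (z : Z) (c) : geomPt Z z c = z := by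
  rw [geomPt, Scheme.Hom.comp_apply]
  exact Z.fromSpecResidueField_apply z _

/-- two sections of an étale separated morphism over a connected base which agree at a point
are equal -/
theorem section_eq_of_apply_eq [PreconnectedSpace T] (g : Z ⟶ T) [Etale g] [IsSeparated g]
    (σ τ : T ⟶ Z) (hσ : σ ≫ g = 𝟙 T) (hτ : τ ≫ g = 𝟙 T) (t : T) (h : σ t = τ t) : σ = τ := by
  haveI : IsOpenImmersion σ := Groth.Agent.Lib.Helper20.FinHom.isOpenImmersion_of_section g σ hσ
  haveI : IsOpenImmersion τ := Groth.Agent.Lib.Helper20.FinHom.isOpenImmersion_of_section g τ hτ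
  haveI : IsClosedImmersion τ := Groth.Agent.Lib.Helper20.FinHom.isClosedImmersion_of_section g τ hτ
  have hclopen : IsClopen (σ ⁻¹' Set.range τ) :=
    ⟨τ.isClosedEmbedding.isClosed_range.preimage σ.continuous,
      τ.isOpenEmbedding.isOpen_range.preimage σ.continuous⟩
  have huniv : σ ⁻¹' Set.range τ = Set.univ :=
    IsClopen.eq_univ hclopen ⟨t, by rw [Set.mem_preimage, h]; exact ⟨t, rfl⟩⟩
  have hr : Set.range σ ⊆ Set.range τ := by
    rintro _ ⟨a, rfl⟩
    have : a ∈ σ ⁻¹' Set.range τ := by rw [huniv]; trivial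
    exact this
  have hfac := IsOpenImmersion.lift_fac τ σ hr
  have hid : IsOpenImmersion.lift τ σ hr = 𝟙 T := by
    have := congrArg (· ≫ g) hfac
    simpa only [Category.assoc, hτ, hσ, Category.comp_id] using this
  rw [hid, Category.id_comp] at hfac
  exact hfac.symm

section Split

variable {ι : Type v} [Small.{u} ι] (g : Z ⟶ T) [IsFinite g] [Etale g] (σ : ι → (T ⟶ Z))
  (hσ : ∀ i, σ i ≫ g = 𝟙 T) (hne : ∀ i j, i ≠ j → ∀ t : T, σ i t ≠ σ j t)

include hσ hne in
theorem isOpenImmersion_desc : IsOpenImmersion (Sigma.desc σ) := by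
  haveI : ∀ i, IsOpenImmersion (σ i) := fun i =>
    Groth.Agent.Lib.Helper20.FinHom.isOpenImmersion_of_section g (σ i) (hσ i)
  refine isOpenImmersion_sigmaDesc _ σ (fun i j hij => ?_)
  rw [Function.onFun, Set.disjoint_iff]
  rintro z ⟨⟨t, ht⟩, ⟨t', ht'⟩⟩
  have h1 := congrArg g ht
  have h2 := congrArg g ht'
  rw [← Scheme.Hom.comp_apply, hσ] at h1 h2
  have htt : t = t' := h1.trans h2.symm
  subst htt
  exact hne i j hij t (ht.trans ht'.symm)

/-- the tautological map from the index set to a geometric fibre -/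
noncomputable def toFib {Ω : Type u} [Field Ω] (ξ : Spec (CommRingCat.of Ω) ⟶ T) (i : ι) : Fib g ξ :=
  ⟨ξ ≫ σ i, by rw [Category.assoc, hσ, Category.comp_id]⟩

include hσ hne in
theorem toFib_injective {Ω : Type u} [Field Ω] (ξ : Spec (CommRingCat.of Ω) ⟶ T) :
    Function.Injective (toFib g σ hσ ξ) := by
  intro i j hij
  by_contra hne'
  have h1 : ξ ≫ σ i = ξ ≫ σ j := congrArg Subtype.val hij
  have h2 := congrArg (fun f => f (IsLocalRing.closedPoint Ω)) h1
  simp only [Scheme.Hom.comp_apply] at h2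
  exact hne i j hne' _ h2

include hσ hne in
/-- the number of pairwise disjoint sections is bounded by the degree -/
theorem card_le_finrank [Finite ι] (t : T) : Nat.card ι ≤ g.finrank t := by
  rw [← geomPt_apply T t (IsLocalRing.closedPoint _), ← card_fib g (geomPt T t)]
  exact Nat.card_le_card_of_injective _ (toFib_injective g σ hσ hne (geomPt T t))

include hσ hne in
theorem surjective_desc [Finite ι] (hdeg : ∀ t, g.finrank t ≤ Nat.card ι) :
    Surjective (Sigma.desc σ) := by
  refine ⟨fun z => ?_⟩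
  obtain ⟨ζ, hζ⟩ : ∃ ζ, ζ = geomPt Z z := ⟨_, rfl⟩
  have hbij : Function.Bijective (toFib g σ hσ (ζ ≫ g)) :=
    (toFib_injective g σ hσ hne (ζ ≫ g)).bijective_of_nat_card_le
      (by rw [card_fib g (ζ ≫ g) (IsLocalRing.closedPoint _)]; exact hdeg _)
  obtain ⟨i, hi⟩ := hbij.2 ⟨ζ, rfl⟩
  have hi' : (ζ ≫ g) ≫ σ i = ζ := congrArg Subtype.val hi
  refine ⟨Sigma.ι (fun _ : ι => T) i ((ζ ≫ g) (IsLocalRing.closedPoint _)), ?_⟩
  rw [← Scheme.Hom.comp_apply, Sigma.ι_desc, ← Scheme.Hom.comp_apply, hi', hζ, geomPt_apply]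

include hσ hne in
/-- split criterion: as many pairwise disjoint sections as the degree -/
theorem isIso_desc [Finite ι] (hdeg : ∀ t, g.finrank t ≤ Nat.card ι) : IsIso (Sigma.desc σ) := by
  haveI := isOpenImmersion_desc g σ hσ hne
  haveI := surjective_desc g σ hσ hne hdeg
  exact (isIso_iff_isOpenImmersion_and_surjective _).mpr ⟨inferInstance, inferInstance⟩

end Split

end Groth.Agent.Lib.H9FEtDeg
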