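import Mathlib
import Groth.Prelude.Def_Coh
import Groth.Prelude.Def_FlatMod2
import Groth.Agent.Lib.H9FEtDeg
import Groth.Agent.Lib.Helper18FinFlat2

/-! `finrank_eq_of_rank`/`rank_of_finrank_eq` (rank of `f_* O_X` vs `Scheme.Hom.finrank`), `homEquivSec`, `main` = S18918 (number of lifts of a connected scheme to a finite étale cover) (helper9). -/

namespace Groth.Agent.Lib.H9FEtDegA

open AlgebraicGeometry CategoryTheory Limits Groth.Agent.Lib.H9FEtDeg

universe u

/-- rank of the direct image of the structure sheaf vs. Mathlib's degree function -/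
theorem finrank_eq_of_rank {X Y : Scheme.{u}} (f : X ⟶ Y) [IsAffineHom f] (n : ℕ)
    (hdeg : FlatMod.IsFinLocFreeOfRank n
      ((Scheme.Modules.pushforward f).obj (Coh.structureModule X))) (y : Y) :
    f.finrank y = n :=
  ((Groth.Agent.Helper18FinFlat.main_S19692 f n).mpr ⟨inferInstance, hdeg⟩).2 y

theorem rank_of_finrank_eq {X Y : Scheme.{u}} (f : X ⟶ Y) [IsFinite f] [Flat f]
    [LocallyOfFinitePresentation f] (n : ℕ) (h : ∀ y, f.finrank y = n) :
    FlatMod.IsFinLocFreeOfRank n
      ((Scheme.Modules.pushforward f).obj (Coh.structureModule X)) :=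
  ((Groth.Agent.Helper18FinFlat.main_S19692 f n).mp ⟨⟨inferInstance, inferInstance, inferInstance⟩, h⟩).2

section

variable {X Y X' : Scheme.{u}} (f : X ⟶ Y) (φ : X' ⟶ Y)

/-- sections of the base change -/
abbrev Sec : Type u := {s : X' ⟶ pullback f φ // s ≫ pullback.snd f φ = 𝟙 X'}

/-- `Y`-morphisms `X' ⟶ X` are sections of the base change -/
noncomputable def homEquivSec : (Over.mk φ ⟶ Over.mk f) ≃ Sec f φ where
  toFun a := ⟨pullback.lift a.left (𝟙 X') (by
    have := Over.w a
    simpa using this), pullback.lift_snd _ _ _⟩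
  invFun s := Over.homMk (s.1 ≫ pullback.fst f φ) (by
    show (s.1 ≫ pullback.fst f φ) ≫ f = φ
    rw [Category.assoc, pullback.condition, ← Category.assoc, s.2, Category.id_comp])
  left_inv a := by
    ext
    exact pullback.lift_fst _ _ _
  right_inv s := by
    apply Subtype.ext
    apply pullback.hom_ext
    · exact pullback.lift_fst _ _ _
    · exact (pullback.lift_snd _ _ _).trans s.2.symm

variable [IsFinite f] [Etale f] [ConnectedSpace X']

theorem sec_ne (i j : Sec f φ) (hij : i ≠ j) (t : X') : i.1 t ≠ j.1 t := by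
  intro h
  exact hij (Subtype.ext (section_eq_of_apply_eq (pullback.snd f φ) i.1 j.1 i.2 j.2 t h))

instance finite_sec : Finite (Sec f φ) := by
  obtain ⟨t₀⟩ := (inferInstance : Nonempty X')
  exact Finite.of_injective _
    (toFib_injective (pullback.snd f φ) (fun i : Sec f φ => i.1) (fun i => i.2) (sec_ne f φ)
      (geomPt X' t₀))

theorem main (n : ℕ) (hn : ∀ y, f.finrank y = n) :
    Finite (Over.mk φ ⟶ Over.mk f) ∧ Nat.card (Over.mk φ ⟶ Over.mk f) ≤ n ∧
      (Nat.card (Over.mk φ ⟶ Over.mk f) = n ↔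
        ∃ e : pullback f φ ≅ ∐ fun _ : Fin n => X',
          e.hom ≫ Sigma.desc (fun _ : Fin n => 𝟙 X') = pullback.snd f φ) := by
  have hg : ∀ t, (pullback.snd f φ).finrank t = n := fun t => by
    rw [Scheme.Hom.finrank_pullback_snd, hn]
  obtain ⟨t₀⟩ := (inferInstance : Nonempty X')
  have hle : Nat.card (Sec f φ) ≤ n := by
    rw [← hg t₀]
    exact card_le_finrank (pullback.snd f φ) (fun i : Sec f φ => i.1) (fun i => i.2) (sec_ne f φ) t₀
  rw [Nat.card_congr (homEquivSec f φ)]
  refine ⟨Finite.of_equiv _ (homEquivSec f φ).symm, hle, ⟨fun hcard => ?_, ?_⟩⟩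
  · -- enough sections: the cover splits
    let ε : Fin n ≃ Sec f φ := (Finite.equivFinOfCardEq hcard).symm
    have hiso : IsIso (Sigma.desc fun i : Fin n => (ε i).1) := by
      refine isIso_desc (pullback.snd f φ) (fun i : Fin n => (ε i).1) (fun i => (ε i).2)
        (fun i j hij t => sec_ne f φ _ _ (fun h => hij (ε.injective h)) t) (fun t => ?_)
      rw [hg t, Nat.card_eq_fintype_card, Fintype.card_fin]
    refine ⟨(asIso (Sigma.desc fun i : Fin n => (ε i).1)).symm, ?_⟩
    rw [Iso.symm_hom, asIso_inv, IsIso.inv_comp_eq]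
    apply Sigma.hom_ext
    intro i
    rw [Sigma.ι_desc, Sigma.ι_desc_assoc, (ε i).2]
  · rintro ⟨e, he⟩
    refine le_antisymm hle ?_
    let τ : Fin n → Sec f φ := fun i => ⟨Sigma.ι (fun _ : Fin n => X') i ≫ e.inv, by
      rw [← he, Category.assoc, Iso.inv_hom_id_assoc, Sigma.ι_desc]⟩
    have hτ : Function.Injective τ := by
      intro i j hij
      by_contra hne
      have h1 : Sigma.ι (fun _ : Fin n => X') i ≫ e.inv = Sigma.ι (fun _ : Fin n => X') j ≫ e.inv :=
        congrArg Subtype.val hij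
      have h2 : Sigma.ι (fun _ : Fin n => X') i = Sigma.ι (fun _ : Fin n => X') j :=
        (cancel_mono e.inv).mp h1
      have h3 := disjoint_opensRange_sigmaι (fun _ : Fin n => X') i j hne
      have h4 : Sigma.ι (fun _ : Fin n => X') i t₀ ∈ (Sigma.ι (fun _ : Fin n => X') i).opensRange ⊓
          (Sigma.ι (fun _ : Fin n => X') j).opensRange :=
        ⟨⟨t₀, rfl⟩, ⟨t₀, by rw [h2]⟩⟩
      rw [disjoint_iff.mp h3] at h4
      exact h4
    have := Nat.card_le_card_of_injective τ hτ
    rwa [Nat.card_eq_fintype_card, Fintype.card_fin] at this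

end

end Groth.Agent.Lib.H9FEtDegA
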