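import Mathlib
set_option backward.isDefEq.respectTransparency.types false

/-!
helper1 (round 2): the algebra of a double cover of the line. Given two domains A, B inside R with ts = 1, a pole filtration F n of A with dim F n = 2n+1-g for n >= g, integrality over k[t], exhaustiveness and a quadratic integral-closedness hypothesis for B: A = k[t] + k[t] y with y^2 + Q(t) y = P(t), deg P <= 2g+2, deg Q <= g+1, sharp lower bound, dim F r = r+1 for r <= g (main). exists_algEquiv: A = k[X,Y]/(Y^2+Q(X)Y-P(X)).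
-/

set_option autoImplicit false
set_option linter.style.haveILetI false
set_option linter.unusedSectionVars false
universe u v

open CategoryTheory CategoryTheory.Limits AlgebraicGeometry TopologicalSpace Opposite

namespace Groth.Agent.Lib.R2H1.DblCoverAlg

section Part1

open Polynomial

/-- an element of a domain `A` over an integrally closed domain `D` which is integral over `D`
and a fraction of elements of `D` lies in `D` -/
theorem exists_eq_of_integral_of_mul_eq {D A : Type*} [CommRing D] [IsDomain D]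
    [IsIntegrallyClosed D] [CommRing A] [IsDomain A] (φ : D →+* A) (hφ : Function.Injective φ)
    (y : A) (hy : φ.IsIntegralElem y) (v u : D) (hv : v ≠ 0) (h : φ v * y = φ u) :
    ∃ w, φ w = y := by
  letI : Algebra D A := φ.toAlgebra
  let K := FractionRing D
  let L := FractionRing A
  have halg : ∀ z : D, algebraMap D L z = algebraMap A L (φ z) := fun z =>
    IsScalarTower.algebraMap_apply D A L z
  have hinj : Function.Injective (algebraMap D L) := by
    intro a b hab
    rw [halg, halg] at hab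
    exact hφ (IsFractionRing.injective A L hab)
  letI : Algebra K L := (IsFractionRing.lift (K := K) hinj).toAlgebra
  haveI : IsScalarTower D K L := IsScalarTower.of_algebraMap_eq (fun x => by
    change algebraMap D L x = IsFractionRing.lift (K := K) hinj (algebraMap D K x)
    rw [IsFractionRing.lift_algebraMap])
  have hvK : algebraMap D K v ≠ 0 := by
    intro h0
    exact hv ((IsFractionRing.injective D K) (by rw [h0, map_zero]))
  have hvL : algebraMap D L v ≠ 0 := by
    intro h0
    exact hv (hinj (by rw [h0, map_zero]))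
  let x : K := algebraMap D K u / algebraMap D K v
  have hx : algebraMap K L x = algebraMap A L y := by
    have h1 : algebraMap K L x = algebraMap D L u / algebraMap D L v := by
      change algebraMap K L (algebraMap D K u / algebraMap D K v) = _
      rw [map_div₀, ← IsScalarTower.algebraMap_apply, ← IsScalarTower.algebraMap_apply]
    rw [h1, div_eq_iff hvL]
    rw [halg, halg, ← h, map_mul, mul_comm]
  have hyI : IsIntegral D y := hy
  have hyL : IsIntegral D (algebraMap A L y) := hyI.algebraMap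
  rw [← hx] at hyL
  have hxI : IsIntegral D x :=
    (isIntegral_algebraMap_iff (algebraMap K L).injective).1 hyL
  obtain ⟨w, hw⟩ := IsIntegrallyClosed.isIntegral_iff.1 hxI
  refine ⟨w, ?_⟩
  apply IsFractionRing.injective A L
  rw [← hx, ← hw, ← IsScalarTower.algebraMap_apply, halg]

section Core

variable {k A B R : Type u} [Field k] [CommRing A] [CommRing B] [CommRing R] [IsDomain R]
  [Algebra k A] [Algebra k B]
  (iA : A →+* R) (iB : B →+* R) (hiA : Function.Injective iA) (hiB : Function.Injective iB)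
  (hk : ∀ c : k, iA (algebraMap k A c) = iB (algebraMap k B c))
  (t : A) (s : B) (hts : iA t * iB s = 1)
  (F : ℕ → Submodule k A) (hF : ∀ n a, a ∈ F n ↔ ∃ b : B, iB b = iB s ^ n * iA a)

include hF in
theorem F_succ (n : ℕ) : F n ≤ F (n + 1) := by
  intro a ha
  obtain ⟨b, hb⟩ := (hF n a).1 ha
  exact (hF (n + 1) a).2 ⟨s * b, by rw [map_mul, hb, pow_succ]; ring⟩

include hF in
theorem F_mono {m n : ℕ} (h : m ≤ n) : F m ≤ F n :=
  monotone_nat_of_le_succ (F_succ iA iB s F hF) h

include hF in
theorem F_mul {m n : ℕ} {a a' : A} (ha : a ∈ F m) (ha' : a' ∈ F n) : a * a' ∈ F (m + n) := by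
  obtain ⟨b, hb⟩ := (hF m a).1 ha
  obtain ⟨b', hb'⟩ := (hF n a').1 ha'
  exact (hF (m + n) _).2 ⟨b * b', by rw [map_mul, map_mul, hb, hb', pow_add]; ring⟩

include hts in
theorem st_pow (i : ℕ) : iB s ^ i * iA t ^ i = 1 := by
  rw [← mul_pow, mul_comm, hts, one_pow]

include hF hts in
theorem t_pow_mem {i n : ℕ} (h : i ≤ n) : t ^ i ∈ F n := by
  refine (hF n _).2 ⟨s ^ (n - i), ?_⟩
  have h1 : iB s ^ n = iB s ^ (n - i) * iB s ^ i := by
    rw [← pow_add, Nat.sub_add_cancel h]
  rw [map_pow, map_pow, h1, mul_assoc, st_pow iA iB t s hts]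
  ring

include hF hts in
theorem aeval_mem {n : ℕ} {p : k[X]} (hp : p ∈ degreeLT k (n + 1)) : aeval t p ∈ F n := by
  have hd : p.natDegree < n + 1 := by
    by_cases h0 : p = 0
    · rw [h0]; simp
    · exact (natDegree_lt_iff_degree_lt h0).2 (mem_degreeLT.1 hp)
  rw [aeval_eq_sum_range' hd]
  refine Submodule.sum_mem _ (fun i hi => Submodule.smul_mem _ _ ?_)
  exact t_pow_mem iA iB t s hts F hF (by have := Finset.mem_range.1 hi; omega)

include hk hts in
theorem reflect_eq (N : ℕ) (p : k[X]) (hp : p.natDegree ≤ N) :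
    iA (aeval t p) * iB s ^ N = iB (aeval s (reflect N p)) := by
  let i : k →+* R := iA.comp (algebraMap k A)
  have hi : iB.comp (algebraMap k B) = i := RingHom.ext (fun c => (hk c).symm)
  letI : Invertible (iA t) := ⟨iB s, by rw [mul_comm]; exact hts, hts⟩
  have h1 := eval₂_reflect_mul_pow i (iA t) N p hp
  have h2 : iA (aeval t p) = eval₂ i (iA t) p := by
    rw [aeval_def, hom_eval₂]
  have h3 : iB (aeval s (reflect N p)) = eval₂ i (iB s) (reflect N p) := by
    rw [aeval_def, hom_eval₂, hi]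
  have h4 : ⅟(iA t) = iB s := rfl
  rw [h2, h3, ← h1, h4, mul_assoc, ← mul_pow, hts, one_pow, mul_one]

variable (g : ℕ) (hd : ∀ n, g ≤ n → Module.finrank k (F n) = 2 * n + 1 - g)

include hF hd in
theorem not_isUnit_s : ¬ IsUnit s := by
  intro hu
  obtain ⟨s', hs'⟩ := hu.exists_right_inv
  have hle : F (g + 1) ≤ F g := by
    intro a ha
    obtain ⟨b, hb⟩ := (hF (g + 1) a).1 ha
    refine (hF g a).2 ⟨s' * b, ?_⟩
    have h1 : iB s' * iB s = 1 := by rw [← map_mul, mul_comm, hs', map_one]
    rw [map_mul, hb, pow_succ]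
    calc iB s' * (iB s ^ g * iB s * iA a) = (iB s' * iB s) * (iB s ^ g * iA a) := by ring
      _ = iB s ^ g * iA a := by rw [h1, one_mul]
  have h1 := hd g le_rfl
  have h2 := hd (g + 1) (by omega)
  haveI : Module.Finite k (F g) := Module.finite_of_finrank_pos (by rw [h1]; omega)
  have h3 := Submodule.finrank_mono hle
  omega

include hiB hk hts hF hd in
theorem natDegree_le_of_mem {n : ℕ} {p : k[X]} (hp0 : p ≠ 0) (hp : aeval t p ∈ F n) :
    p.natDegree ≤ n := by
  by_contra hcon
  push_neg at hcon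
  obtain ⟨b, hb⟩ := (hF n _).1 hp
  have h1 := reflect_eq iA iB hk t s hts p.natDegree p le_rfl
  have h2 : iA (aeval t p) * iB s ^ p.natDegree = iB (s ^ (p.natDegree - n) * b) := by
    have h3 : iB s ^ p.natDegree = iB s ^ (p.natDegree - n) * iB s ^ n := by
      rw [← pow_add, Nat.sub_add_cancel hcon.le]
    rw [map_mul, map_pow, hb, h3]
    ring
  rw [h2] at h1
  have h4 := hiB h1
  set q := reflect p.natDegree p with hq
  have hq0 : q.coeff 0 = p.leadingCoeff := by
    rw [hq]
    exact coeff_zero_reverse p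
  have h5 : aeval s q = aeval s (divX q) * s + algebraMap k B (p.leadingCoeff) := by
    conv_lhs => rw [← divX_mul_X_add q]
    rw [map_add, map_mul, aeval_X, aeval_C, hq0]
  have h6 : algebraMap k B p.leadingCoeff =
      s * (s ^ (p.natDegree - n - 1) * b - aeval s (divX q)) := by
    have h7 : s ^ (p.natDegree - n) = s * s ^ (p.natDegree - n - 1) := by
      rw [← pow_succ']
      congr 1
      omega
    rw [h7, h5] at h4
    linear_combination -h4
  have hu : IsUnit (algebraMap k B p.leadingCoeff) :=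
    (IsUnit.mk0 _ (leadingCoeff_ne_zero.2 hp0)).map _
  rw [h6] at hu
  exact not_isUnit_s iA iB s F hF g hd (isUnit_of_mul_isUnit_left hu)

include hiA in
theorem isDomain_A : IsDomain A := hiA.isDomain iA

include hiA hiB hk hts hF hd in
theorem aeval_injective : Function.Injective (aeval t : k[X] →ₐ[k] A) := by
  haveI := isDomain_A iA hiA
  rw [injective_iff_map_eq_zero]
  intro p hp
  by_contra hp0
  have h1 : aeval t p ∈ F 0 := by rw [hp]; exact zero_mem _
  have h2 := natDegree_le_of_mem iA iB hiB hk t s hts F hF g hd hp0 h1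
  have h3 : p = C (p.coeff 0) := eq_C_of_natDegree_le_zero h2
  rw [h3, aeval_C] at hp
  have h4 : p.coeff 0 = 0 := (algebraMap k A).injective (by rw [hp, map_zero])
  rw [h4, map_zero] at h3
  exact hp0 h3

/-- the span of `1, t, …, t^n` -/
noncomputable def V (n : ℕ) : Submodule k A := (degreeLT k (n + 1)).map (aeval t).toLinearMap

include hF hts in
theorem V_le (n : ℕ) : V t n ≤ F n := by
  rintro _ ⟨p, hp, rfl⟩
  exact aeval_mem iA iB t s hts F hF hp

theorem finrank_degreeLT (n : ℕ) : Module.finrank k (degreeLT k n) = n := by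
  rw [(degreeLTEquiv k n).finrank_eq, Module.finrank_fin_fun]

include hiA hiB hk hts hF hd in
theorem finrank_V (n : ℕ) : Module.finrank k (V (k := k) t n) = n + 1 := by
  have hinj : Function.Injective (aeval t : k[X] →ₐ[k] A).toLinearMap :=
    aeval_injective iA iB hiA hiB hk t s hts F hF g hd
  unfold V
  rw [(Submodule.equivMapOfInjective _ hinj (degreeLT k (n + 1))).symm.finrank_eq,
    finrank_degreeLT]

include hiA hiB hk hts hF hd in
theorem F_eq_V : F g = V t g := by
  have h1 := hd g le_rfl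
  haveI : Module.Finite k (F g) := Module.finite_of_finrank_pos (by rw [h1]; omega)
  symm
  apply Submodule.eq_of_le_of_finrank_eq (V_le iA iB t s hts F hF g)
  rw [finrank_V iA iB hiA hiB hk t s hts F hF g hd, h1]
  omega

include hiA hiB hk hts hF hd in
theorem F_eq_V_of_le {r : ℕ} (hr : r ≤ g) : F r = V t r := by
  apply le_antisymm _ (V_le iA iB t s hts F hF r)
  intro a ha
  have h1 : a ∈ V (k := k) t g := by
    rw [← F_eq_V iA iB hiA hiB hk t s hts F hF g hd]
    exact F_mono iA iB s F hF hr ha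
  obtain ⟨p, -, rfl⟩ := h1
  by_cases hp0 : p = 0
  · rw [hp0, map_zero]; exact zero_mem _
  · have h2 := natDegree_le_of_mem iA iB hiB hk t s hts F hF g hd hp0 ha
    refine ⟨p, ?_, rfl⟩
    change p ∈ degreeLT k _
    rw [mem_degreeLT]
    exact (natDegree_lt_iff_degree_lt hp0).1 (by omega)

include hiA hiB hk hts hF hd in
theorem finrank_F_of_le {r : ℕ} (hr : r ≤ g) : Module.finrank k (F r) = r + 1 := by
  rw [F_eq_V_of_le iA iB hiA hiB hk t s hts F hF g hd hr,
    finrank_V iA iB hiA hiB hk t s hts F hF g hd]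

include hiA hiB hk hts hF hd in
theorem exists_y : ∃ y ∈ F (g + 1), y ∉ Set.range (aeval t : k[X] →ₐ[k] A) := by
  by_contra hcon
  push_neg at hcon
  have hle : F (g + 1) ≤ V t (g + 1) := by
    intro a ha
    obtain ⟨p, rfl⟩ := hcon a ha
    by_cases hp0 : p = 0
    · rw [hp0, map_zero]; exact zero_mem _
    · have h2 := natDegree_le_of_mem iA iB hiB hk t s hts F hF g hd hp0 ha
      refine ⟨p, ?_, rfl⟩
      change p ∈ degreeLT k _
      rw [mem_degreeLT]
      exact (natDegree_lt_iff_degree_lt hp0).1 (by omega)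
  have h1 := finrank_V iA iB hiA hiB hk t s hts F hF g hd (g + 1)
  haveI : Module.Finite k (V (k := k) t (g + 1)) :=
    Module.finite_of_finrank_pos (by rw [h1]; omega)
  have h3 := Submodule.finrank_mono hle
  have h4 := hd (g + 1) (by omega)
  omega

end Core

end Part1

section Part2

open Polynomial


section Core

variable {k A B R : Type u} [Field k] [CommRing A] [CommRing B] [CommRing R] [IsDomain R]
  [Algebra k A] [Algebra k B]
  (iA : A →+* R) (iB : B →+* R) (hiA : Function.Injective iA) (hiB : Function.Injective iB)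
  (hk : ∀ c : k, iA (algebraMap k A c) = iB (algebraMap k B c))
  (t : A) (s : B) (hts : iA t * iB s = 1)
  (F : ℕ → Submodule k A) (hF : ∀ n a, a ∈ F n ↔ ∃ b : B, iB b = iB s ^ n * iA a)
  (g : ℕ) (hd : ∀ n, g ≤ n → Module.finrank k (F n) = 2 * n + 1 - g)
  (hint : ∀ a : A, (aeval t : k[X] →ₐ[k] A).toRingHom.IsIntegralElem a)

include hiA hiB hk hts hF hd hint in
/-- `1, y` are independent over `k[t]` when `y` is not a polynomial in `t` -/
theorem indep {y : A} (hy : y ∉ Set.range (aeval t : k[X] →ₐ[k] A)) (u v : k[X])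
    (h : aeval t u + aeval t v * y = 0) : u = 0 ∧ v = 0 := by
  haveI := isDomain_A iA hiA
  have hinj := aeval_injective iA iB hiA hiB hk t s hts F hF g hd
  have hv : v = 0 := by
    by_contra hv
    apply hy
    have h1 : (aeval t : k[X] →ₐ[k] A).toRingHom v * y = (aeval t : k[X] →ₐ[k] A).toRingHom (-u) := by
      change aeval t v * y = aeval t (-u)
      rw [map_neg]
      linear_combination h
    obtain ⟨w, hw⟩ := exists_eq_of_integral_of_mul_eq (aeval t : k[X] →ₐ[k] A).toRingHom hinj y
      (hint y) v (-u) hv h1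
    exact ⟨w, hw⟩
  refine ⟨?_, hv⟩
  rw [hv, map_zero, zero_mul, add_zero] at h
  exact hinj (by rw [h, map_zero])

/-- the map `(u, v) ↦ u(t) + v(t) y` on polynomials of bounded degree -/
noncomputable def Φ (y : A) (m n : ℕ) : (degreeLT k m × degreeLT k n) →ₗ[k] A :=
  LinearMap.coprod ((aeval t).toLinearMap.domRestrict (degreeLT k m))
    (((LinearMap.mulRight k y).comp (aeval t).toLinearMap).domRestrict (degreeLT k n))

theorem Φ_apply (y : A) (m n : ℕ) (x : degreeLT k m × degreeLT k n) :
    Φ t y m n x = aeval t (x.1 : k[X]) + aeval t (x.2 : k[X]) * y := rfl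

include hiA hiB hk hts hF hd hint in
theorem Φ_injective {y : A} (hy : y ∉ Set.range (aeval t : k[X] →ₐ[k] A)) (m n : ℕ) :
    Function.Injective (Φ (k := k) t y m n) := by
  rw [injective_iff_map_eq_zero]
  intro x hx
  rw [Φ_apply] at hx
  obtain ⟨h1, h2⟩ := indep iA iB hiA hiB hk t s hts F hF g hd hint hy _ _ hx
  exact Prod.ext (Subtype.ext h1) (Subtype.ext h2)

include hiA hiB hk hts hF hd hint in
theorem range_Φ {y : A} (hy : y ∉ Set.range (aeval t : k[X] →ₐ[k] A)) (hyF : y ∈ F (g + 1))
    (n : ℕ) (hn : g + 1 ≤ n) :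
    LinearMap.range (Φ (k := k) t y (n + 1) (n - g)) = F n := by
  have h1 := hd n (by omega)
  haveI : Module.Finite k (F n) := Module.finite_of_finrank_pos (by rw [h1]; omega)
  apply Submodule.eq_of_le_of_finrank_eq
  · rintro _ ⟨x, rfl⟩
    rw [Φ_apply]
    refine add_mem (aeval_mem iA iB t s hts F hF x.1.2) ?_
    have h2 : aeval t (x.2 : k[X]) ∈ F (n - g - 1) := by
      apply aeval_mem iA iB t s hts F hF
      have : n - g - 1 + 1 = n - g := by omega
      rw [this]
      exact x.2.2
    have h3 := F_mul iA iB s F hF h2 hyF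
    have : n - g - 1 + (g + 1) = n := by omega
    rwa [this] at h3
  · rw [LinearMap.finrank_range_of_inj (Φ_injective iA iB hiA hiB hk t s hts F hF g hd hint hy _ _),
      Module.finrank_prod, finrank_degreeLT, finrank_degreeLT, h1]
    omega

variable (hU : ∀ a : A, ∃ n, a ∈ F n)

include hiA hiB hk hts hF hd hint hU in
theorem exists_rep {y : A} (hy : y ∉ Set.range (aeval t : k[X] →ₐ[k] A)) (hyF : y ∈ F (g + 1))
    (a : A) : ∃ u v : k[X], a = aeval t u + aeval t v * y := by
  obtain ⟨n, hn⟩ := hU a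
  have h1 : a ∈ F (n + g + 1) := F_mono iA iB s F hF (by omega) hn
  rw [← range_Φ iA iB hiA hiB hk t s hts F hF g hd hint hy hyF (n + g + 1) (by omega)] at h1
  obtain ⟨x, rfl⟩ := h1
  exact ⟨x.1, x.2, Φ_apply t y _ _ x⟩

variable (hB : ∀ (w : R) (p q : B), w ^ 2 + iB q * w = iB p → ∃ b, iB b = w)

include hiA hiB hk hts hF hd hB in
/-- the lower bound on the degrees -/
theorem lower_bound (y₁ : A) (P₁ Q₁ : k[X]) (hy₁ : y₁ ∉ Set.range (aeval t : k[X] →ₐ[k] A))
    (h : y₁ ^ 2 + aeval t Q₁ * y₁ = aeval t P₁) :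
    ¬ (P₁.natDegree ≤ 2 * g ∧ Q₁.natDegree ≤ g) := by
  rintro ⟨hP, hQ⟩
  have h1 := reflect_eq iA iB hk t s hts (2 * g) P₁ hP
  have h2 := reflect_eq iA iB hk t s hts g Q₁ hQ
  obtain ⟨b, hb⟩ := hB (iA y₁ * iB s ^ g) (aeval s (reflect (2 * g) P₁)) (aeval s (reflect g Q₁)) (by
    rw [← h1, ← h2, ← h, map_add, map_mul, map_pow]
    ring)
  have h3 : y₁ ∈ F g := (hF g y₁).2 ⟨b, by rw [hb]; ring⟩
  rw [F_eq_V iA iB hiA hiB hk t s hts F hF g hd] at h3
  obtain ⟨p, -, rfl⟩ := h3
  exact hy₁ ⟨p, rfl⟩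

include hiA hiB hk hts hF hd hint hU hB in
/-- **structure of a double cover**: `A = k[t] ⊕ k[t] y` with `y² + Q(t) y = P(t)` and the degree
bounds. -/
theorem main : ∃ (y : A) (P Q : k[X]),
    Function.Injective (aeval t : k[X] →ₐ[k] A) ∧
    y ∉ Set.range (aeval t : k[X] →ₐ[k] A) ∧
    (∀ u v : k[X], aeval t u + aeval t v * y = 0 → u = 0 ∧ v = 0) ∧
    (∀ a : A, ∃ u v : k[X], a = aeval t u + aeval t v * y) ∧
    y ^ 2 + aeval t Q * y = aeval t P ∧
    P.natDegree ≤ 2 * g + 2 ∧ Q.natDegree ≤ g + 1 ∧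
    (∀ (y₁ : A) (P₁ Q₁ : k[X]), y₁ ∉ Set.range (aeval t : k[X] →ₐ[k] A) →
      y₁ ^ 2 + aeval t Q₁ * y₁ = aeval t P₁ → ¬ (P₁.natDegree ≤ 2 * g ∧ Q₁.natDegree ≤ g)) ∧
    (∀ r, r ≤ g → Module.finrank k (F r) = r + 1) := by
  obtain ⟨y, hyF, hy⟩ := exists_y iA iB hiA hiB hk t s hts F hF g hd
  have hy2 : y * y ∈ F (2 * g + 2) := by
    have := F_mul iA iB s F hF hyF hyF
    have h2 : g + 1 + (g + 1) = 2 * g + 2 := by ring
    rwa [h2] at this
  rw [← range_Φ iA iB hiA hiB hk t s hts F hF g hd hint hy hyF (2 * g + 2) (by omega)] at hy2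
  obtain ⟨x, hx⟩ := hy2
  rw [Φ_apply] at hx
  have hdeg : ∀ {n : ℕ} (p : degreeLT k (n + 1)), (p : k[X]).natDegree ≤ n := by
    intro n p
    by_cases h0 : (p : k[X]) = 0
    · rw [h0]; simp
    · have := (natDegree_lt_iff_degree_lt h0).2 (mem_degreeLT.1 p.2)
      omega
  refine ⟨y, x.1, -x.2, aeval_injective iA iB hiA hiB hk t s hts F hF g hd, hy,
    indep iA iB hiA hiB hk t s hts F hF g hd hint hy,
    exists_rep iA iB hiA hiB hk t s hts F hF g hd hint hU hy hyF, ?_, hdeg x.1, ?_,
    lower_bound iA iB hiA hiB hk t s hts F hF g hd hB,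
    fun r hr => finrank_F_of_le iA iB hiA hiB hk t s hts F hF g hd hr⟩
  · rw [map_neg]
    linear_combination -hx
  · rw [natDegree_neg]
    have h3 : 2 * g + 2 - g = g + 1 + 1 := by omega
    have : ∀ (m : ℕ) (p : degreeLT k m), m = g + 1 + 1 → (p : k[X]).natDegree ≤ g + 1 := by
      rintro _ p rfl
      exact hdeg p
    exact this _ x.2 h3

end Core

end Part2

section Part3

section Pres

variable {k A : Type u} [Field k] [CommRing A] [Algebra k A] (t y : A) (P Q : Polynomial k)

/-- the equation of the plane curve -/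
noncomputable def G : MvPolynomial (Fin 2) k :=
  MvPolynomial.X 1 ^ 2 + Polynomial.aeval (MvPolynomial.X 0 : MvPolynomial (Fin 2) k) Q * MvPolynomial.X 1 -
    Polynomial.aeval (MvPolynomial.X 0 : MvPolynomial (Fin 2) k) P

/-- the evaluation `X ↦ t`, `Y ↦ y` -/
noncomputable def φ : MvPolynomial (Fin 2) k →ₐ[k] A := MvPolynomial.aeval ![t, y]

theorem φ_X0 : φ (k := k) t y (MvPolynomial.X 0) = t := by
  unfold φ
  rw [MvPolynomial.aeval_X]
  rfl

theorem φ_X1 : φ (k := k) t y (MvPolynomial.X 1) = y := by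
  unfold φ
  rw [MvPolynomial.aeval_X]
  rfl

theorem φ_aeval (u : Polynomial k) :
    φ (k := k) t y (Polynomial.aeval (MvPolynomial.X 0 : MvPolynomial (Fin 2) k) u) =
      Polynomial.aeval t u := by
  rw [← Polynomial.aeval_algHom_apply, φ_X0]

variable (hrel : y ^ 2 + Polynomial.aeval t Q * y = Polynomial.aeval t P)

include hrel in
theorem φ_G : φ (k := k) t y (G P Q) = 0 := by
  unfold G
  rw [map_sub, map_add, map_mul, map_pow, φ_aeval, φ_aeval, φ_X1, hrel, sub_self]

/-- normal form of elements of the quotient -/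
theorem exists_normal_form (H : MvPolynomial (Fin 2) k) :
    ∃ u v : Polynomial k, Ideal.Quotient.mk (Ideal.span {G P Q}) H =
      Ideal.Quotient.mk (Ideal.span {G P Q})
        (Polynomial.aeval (MvPolynomial.X 0 : MvPolynomial (Fin 2) k) u +
          Polynomial.aeval (MvPolynomial.X 0 : MvPolynomial (Fin 2) k) v * MvPolynomial.X 1) := by
  have hG : Ideal.Quotient.mk (Ideal.span {G P Q}) (MvPolynomial.X 1 ^ 2) =
      Ideal.Quotient.mk (Ideal.span {G P Q})
        (Polynomial.aeval (MvPolynomial.X 0 : MvPolynomial (Fin 2) k) P -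
          Polynomial.aeval (MvPolynomial.X 0 : MvPolynomial (Fin 2) k) Q * MvPolynomial.X 1) := by
    rw [Ideal.Quotient.eq, Ideal.mem_span_singleton]
    refine ⟨1, ?_⟩
    unfold G
    ring
  induction H using MvPolynomial.induction_on with
  | C c =>
    refine ⟨Polynomial.C c, 0, ?_⟩
    rw [Polynomial.aeval_C, map_zero, zero_mul, add_zero]
    rfl
  | add p q hp hq =>
    obtain ⟨u, v, h⟩ := hp
    obtain ⟨u', v', h'⟩ := hq
    refine ⟨u + u', v + v', ?_⟩
    rw [map_add, h, h', ← map_add]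
    congr 1
    rw [map_add, map_add]
    ring
  | mul_X p i hp =>
    obtain ⟨u, v, h⟩ := hp
    fin_cases i
    · refine ⟨u * Polynomial.X, v * Polynomial.X, ?_⟩
      change Ideal.Quotient.mk _ (p * MvPolynomial.X 0) = _
      rw [map_mul, h, ← map_mul]
      congr 1
      rw [map_mul, map_mul, Polynomial.aeval_X]
      ring
    · refine ⟨v * P, u - v * Q, ?_⟩
      change Ideal.Quotient.mk _ (p * MvPolynomial.X 1) = _
      rw [map_mul, h, ← map_mul]
      have h1 : (Polynomial.aeval (MvPolynomial.X 0 : MvPolynomial (Fin 2) k) u +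
          Polynomial.aeval (MvPolynomial.X 0 : MvPolynomial (Fin 2) k) v * MvPolynomial.X 1) *
            MvPolynomial.X 1 =
          Polynomial.aeval (MvPolynomial.X 0 : MvPolynomial (Fin 2) k) u * MvPolynomial.X 1 +
          Polynomial.aeval (MvPolynomial.X 0 : MvPolynomial (Fin 2) k) v * MvPolynomial.X 1 ^ 2 := by
        ring
      rw [h1, map_add, map_mul _ _ (MvPolynomial.X 1 ^ 2), hG, ← map_mul, ← map_add]
      congr 1
      rw [map_mul, map_sub, map_mul]
      ring

variable (hind : ∀ u v : Polynomial k, Polynomial.aeval t u + Polynomial.aeval t v * y = 0 → u = 0 ∧ v = 0)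
  (hrep : ∀ a : A, ∃ u v : Polynomial k, a = Polynomial.aeval t u + Polynomial.aeval t v * y)

/-- the map from the plane curve -/
noncomputable def φbar : (MvPolynomial (Fin 2) k ⧸ Ideal.span {G P Q}) →ₐ[k] A :=
  Ideal.Quotient.liftₐ (Ideal.span {G P Q}) (φ t y) (fun a ha => by
    obtain ⟨c, rfl⟩ := Ideal.mem_span_singleton.1 ha
    rw [map_mul, φ_G t y P Q hrel, zero_mul])

theorem φbar_mk (H : MvPolynomial (Fin 2) k) :
    φbar t y P Q hrel (Ideal.Quotient.mk _ H) = φ t y H := rfl

include hind hrep in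
theorem φbar_bijective : Function.Bijective (φbar t y P Q hrel) := by
  constructor
  · rw [injective_iff_map_eq_zero]
    intro z hz
    obtain ⟨H, rfl⟩ := Ideal.Quotient.mk_surjective z
    obtain ⟨u, v, h⟩ := exists_normal_form P Q H
    rw [h, φbar_mk, map_add, map_mul, φ_aeval, φ_aeval, φ_X1] at hz
    obtain ⟨rfl, rfl⟩ := hind u v hz
    rw [h, map_zero, zero_mul, add_zero, map_zero]
  · intro a
    obtain ⟨u, v, rfl⟩ := hrep a
    refine ⟨Ideal.Quotient.mk _ (Polynomial.aeval (MvPolynomial.X 0 : MvPolynomial (Fin 2) k) u +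
      Polynomial.aeval (MvPolynomial.X 0 : MvPolynomial (Fin 2) k) v * MvPolynomial.X 1), ?_⟩
    rw [φbar_mk, map_add, map_mul, φ_aeval, φ_aeval, φ_X1]

include hrel hind hrep in
/-- **the plane curve presentation** -/
theorem exists_algEquiv : ∃ e : (MvPolynomial (Fin 2) k ⧸ Ideal.span {MvPolynomial.X 1 ^ 2 +
      Polynomial.aeval (MvPolynomial.X 0 : MvPolynomial (Fin 2) k) Q * MvPolynomial.X 1 -
      Polynomial.aeval (MvPolynomial.X 0 : MvPolynomial (Fin 2) k) P}) ≃ₐ[k] A,
    e (Ideal.Quotient.mk _ (MvPolynomial.X 0)) = t ∧ e (Ideal.Quotient.mk _ (MvPolynomial.X 1)) = y :=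
  ⟨AlgEquiv.ofBijective (φbar t y P Q hrel) (φbar_bijective t y P Q hrel hind hrep),
    φ_X0 t y, φ_X1 t y⟩

end Pres

end Part3

end Groth.Agent.Lib.R2H1.DblCoverAlg
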