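import Mathlib

set_option autoImplicit false
set_option linter.style.haveILetI false
set_option linter.unusedSectionVars false
open Polynomial IntermediateField

namespace Groth.Agent.Lib.R2H4.IntNorm

variable (A K L B : Type*) [CommRing A] [IsDomain A] [IsIntegrallyClosed A] [Field K] [Algebra A K]
  [IsFractionRing A K] [Field L] [Algebra K L] [Algebra A L] [IsScalarTower A K L]
  [CommRing B] [IsDomain B] [Algebra A B] [Algebra B L] [IsScalarTower A B L]
  [Algebra.IsIntegral A B]

theorem isIntegral_norm_apply (b : B) : IsIntegral A (Algebra.norm K (algebraMap B L b)) :=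
  Algebra.isIntegral_norm K ((Algebra.IsIntegral.isIntegral b).map (IsScalarTower.toAlgHom A B L))

theorem exists_norm (b : B) : ∃ a : A, algebraMap A K a = Algebra.norm K (algebraMap B L b) :=
  IsIntegrallyClosed.isIntegral_iff.mp (isIntegral_norm_apply A K L B b)

/-- The norm `B →* A` induced by the field norm, for `A` integrally closed and `B` integral over `A`
(not necessarily integrally closed). -/
noncomputable def intNorm : B →* A where
  toFun b := (exists_norm A K L B b).choose
  map_one' := by
    apply IsFractionRing.injective A K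
    rw [(exists_norm A K L B 1).choose_spec, map_one, map_one, map_one]
  map_mul' := by
    intro x y
    apply IsFractionRing.injective A K
    rw [(exists_norm A K L B (x * y)).choose_spec, map_mul, map_mul, map_mul,
      (exists_norm A K L B x).choose_spec, (exists_norm A K L B y).choose_spec]

theorem algebraMap_intNorm (b : B) :
    algebraMap A K (intNorm A K L B b) = Algebra.norm K (algebraMap B L b) :=
  (exists_norm A K L B b).choose_spec

theorem intNorm_algebraMap (a : A) :
    intNorm A K L B (algebraMap A B a) = a ^ Module.finrank K L := by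
  apply IsFractionRing.injective A K
  rw [algebraMap_intNorm, map_pow, ← IsScalarTower.algebraMap_apply A B L,
    IsScalarTower.algebraMap_apply A K L, Algebra.norm_algebraMap]

theorem dvd_algebraMap_intNorm [FiniteDimensional K L] (b : B) :
    b ∣ algebraMap A B (intNorm A K L B b) := by
  have hb : IsIntegral A b := Algebra.IsIntegral.isIntegral b
  let x : L := algebraMap B L b
  have hx : IsIntegral K x := (hb.map (IsScalarTower.toAlgHom A B L)).tower_top
  let c₀ : A := (minpoly A b).coeff 0
  let pb := IntermediateField.adjoin.powerBasis hx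
  let e := Module.finrank K⟮x⟯ L
  have he : 0 < e := Module.finrank_pos
  have h1 : Algebra.norm K x = ((-1) ^ pb.dim * algebraMap A K c₀) ^ e := by
    rw [Algebra.norm_eq_norm_adjoin K x]
    congr 1
    have h2 := Algebra.PowerBasis.norm_gen_eq_coeff_zero_minpoly pb
    rw [IntermediateField.adjoin.powerBasis_gen, IntermediateField.minpoly_gen,
      minpoly.isIntegrallyClosed_eq_field_fractions K L hb, coeff_map] at h2
    exact h2
  have h3 : intNorm A K L B b = ((-1) ^ pb.dim * c₀) ^ e := by
    apply IsFractionRing.injective A K
    rw [algebraMap_intNorm, h1]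
    simp
  -- `b ∣ c₀` in `B`
  have h4 : b ∣ algebraMap A B c₀ := by
    have h5 : aeval b (minpoly A b) = 0 := minpoly.aeval A b
    have h6 : minpoly A b = (minpoly A b).divX * X + C c₀ := (divX_mul_X_add (minpoly A b)).symm
    rw [h6, map_add, map_mul, aeval_X, aeval_C] at h5
    refine ⟨-(aeval b (minpoly A b).divX), ?_⟩
    rw [mul_neg, mul_comm]
    exact eq_neg_of_add_eq_zero_right h5
  rw [h3, map_pow, map_mul]
  exact (Dvd.dvd.mul_left h4 _).trans (dvd_pow_self _ he.ne')


section RingHom

variable {A K L B : Type*} [CommRing A] [IsDomain A] [Field K] [Field L] [CommRing B] [IsDomain B]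
  (iA : A →+* K) (iB : B →+* L) (φ : K →+* L) (f : A →+* B)

/-- ring-hom form of finite dimensionality of the fraction field extension. -/
theorem finite_of_ringHom (hcomm : iB.comp f = φ.comp iA)
    (hA : @IsFractionRing A _ K _ iA.toAlgebra) (hB : @IsFractionRing B _ L _ iB.toAlgebra)
    (hf : f.Finite) : @Module.Finite K L _ _ φ.toAlgebra.toModule := by
  letI : Algebra A K := iA.toAlgebra
  letI : Algebra B L := iB.toAlgebra
  letI : Algebra K L := φ.toAlgebra
  letI : Algebra A B := f.toAlgebra
  letI : Algebra A L := (iB.comp f).toAlgebra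
  haveI : IsScalarTower A B L := IsScalarTower.of_algebraMap_eq (fun _ => rfl)
  haveI : IsScalarTower A K L := IsScalarTower.of_algebraMap_eq (fun a => by
    change (iB.comp f) a = (φ.comp iA) a
    rw [hcomm])
  haveI : IsFractionRing A K := hA
  haveI : IsFractionRing B L := hB
  haveI : Module.Finite A B := hf
  haveI : FaithfulSMul A B := by
    rw [faithfulSMul_iff_algebraMap_injective]
    have h1 : Function.Injective (algebraMap A L) := by
      rw [IsScalarTower.algebraMap_eq A K L]
      exact (algebraMap K L).injective.comp (IsFractionRing.injective A K)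
    rw [IsScalarTower.algebraMap_eq A B L] at h1
    exact Function.Injective.of_comp h1
  haveI : Algebra.IsAlgebraic A B := Algebra.IsIntegral.isAlgebraic
  haveI : IsLocalization (Algebra.algebraMapSubmonoid B (nonZeroDivisors A)) L := inferInstance
  exact Module.Finite.of_isLocalization A B (nonZeroDivisors A)

/-- ring-hom form of the integral norm. -/
theorem exists_norm_of_ringHom [IsIntegrallyClosed A] (hcomm : iB.comp f = φ.comp iA)
    (hA : @IsFractionRing A _ K _ iA.toAlgebra) (hf : f.IsIntegral)
    (hfin : @Module.Finite K L _ _ φ.toAlgebra.toModule) :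
    ∃ N : B →* A, (∀ b, iA (N b) = @Algebra.norm K L _ _ φ.toAlgebra (iB b)) ∧
      (∀ b, b ∣ f (N b)) ∧
      (∀ a, N (f a) = a ^ @Module.finrank K L _ _ φ.toAlgebra.toModule) := by
  letI : Algebra A K := iA.toAlgebra
  letI : Algebra B L := iB.toAlgebra
  letI : Algebra K L := φ.toAlgebra
  letI : Algebra A B := f.toAlgebra
  letI : Algebra A L := (iB.comp f).toAlgebra
  haveI : IsScalarTower A B L := IsScalarTower.of_algebraMap_eq (fun _ => rfl)
  haveI : IsScalarTower A K L := IsScalarTower.of_algebraMap_eq (fun a => by
    change (iB.comp f) a = (φ.comp iA) a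
    rw [hcomm])
  haveI : IsFractionRing A K := hA
  haveI : Algebra.IsIntegral A B := ⟨hf⟩
  haveI : FiniteDimensional K L := hfin
  exact ⟨intNorm A K L B, algebraMap_intNorm A K L B, dvd_algebraMap_intNorm A K L B,
    intNorm_algebraMap A K L B⟩

end RingHom

end Groth.Agent.Lib.R2H4.IntNorm
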