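import Mathlib
import Groth.Prelude.Def_Fitting

/-!
# Norms for the reduction `X_red ⟶ X` in characteristic `p` (helper4, round 2)

* `NormGlue.hasNorm`: for a morphism `π : Z ⟶ X` which is surjective on sections over affine opens and such
  that `t ↦ t ^ q` is constant on the fibres of `π♯`, the maps `s ↦ t ^ q` (`t` a local lift of `s`) glue to a
  norm of degree `q` in the sense of `Nrm.NormOfDegree`.
* `NormRed.exists_uniform_nilpotency`: on a Noetherian scheme the sections killed by `X_red ⟶ X` are nilpotent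
  of uniformly bounded index.
* `NormRed.hasNorm_red`: `X_red ⟶ X` has a norm of degree `p ^ e` when `p = 0` on the Noetherian scheme `X`.
-/

set_option autoImplicit false
universe u
open CategoryTheory CategoryTheory.Limits AlgebraicGeometry TopologicalSpace

namespace Groth.Agent.Lib.R2H4.NormGlue

variable {Z X : Scheme.{u}} (π : Z ⟶ X)

/-- restriction on `X`. -/
noncomputable abbrev resX {U W : X.Opens} (hW : W ≤ U) : Γ(X, U) →+* Γ(X, W) :=
  (X.presheaf.map (homOfLE hW).op).hom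

/-- restriction on `Z` between preimages. -/
noncomputable abbrev resZ {U W : X.Opens} (hW : W ≤ U) : Γ(Z, π ⁻¹ᵁ U) →+* Γ(Z, π ⁻¹ᵁ W) :=
  (Z.presheaf.map ((Opens.map π.base).map (homOfLE hW)).op).hom

omit π in
lemma resX_resX {U W W' : X.Opens} (hW : W ≤ U) (hW' : W' ≤ W) (a : Γ(X, U)) :
    resX hW' (resX hW a) = resX (hW'.trans hW) a := by
  change ((X.presheaf.map (homOfLE hW).op) ≫ (X.presheaf.map (homOfLE hW').op)).hom a = _
  rw [← Functor.map_comp]; rfl

lemma resZ_resZ {U W W' : X.Opens} (hW : W ≤ U) (hW' : W' ≤ W) (a : Γ(Z, π ⁻¹ᵁ U)) :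
    resZ π hW' (resZ π hW a) = resZ π (hW'.trans hW) a := by
  change ((Z.presheaf.map ((Opens.map π.base).map (homOfLE hW)).op) ≫
    (Z.presheaf.map ((Opens.map π.base).map (homOfLE hW')).op)).hom a = _
  rw [← Functor.map_comp]; rfl

omit π in
lemma resX_self {U : X.Opens} (a : Γ(X, U)) : resX (le_refl U) a = a := by
  change (X.presheaf.map (𝟙 _)).hom a = a
  rw [X.presheaf.map_id]; rfl

lemma app_resX {U W : X.Opens} (hW : W ≤ U) (t : Γ(X, U)) :
    (π.app W).hom (resX hW t) = resZ π hW ((π.app U).hom t) := by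
  have hnat := π.naturality (homOfLE hW).op
  have := congrArg (fun φ => φ.hom t) hnat
  simp only [CommRingCat.hom_comp, RingHom.comp_apply] at this
  exact this

omit π in
/-- sections are determined by their restrictions to the affine opens inside. -/
lemma eq_of_affine_res {U : X.Opens} (a b : Γ(X, U))
    (h : ∀ (W : X.affineOpens) (hW : W.1 ≤ U), resX hW a = resX hW b) : a = b := by
  refine X.sheaf.eq_of_locally_eq' (fun W : {W : X.affineOpens // W.1 ≤ U} => W.1.1) U
    (fun W => homOfLE W.2) ?_ a b (fun W => h W.1 W.2)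
  intro x hx
  obtain ⟨_, ⟨W, hW, rfl⟩, hxW, hWU⟩ := X.isBasis_affineOpens.exists_subset_of_mem_open hx U.2
  exact Opens.mem_iSup.2 ⟨⟨⟨W, hW⟩, hWU⟩, hxW⟩

section Main

variable (q : ℕ)

/-- `n` is a norm of `s`: on every open where `s` lifts to `t`, `n` restricts to `t ^ q`. -/
def IsNormOf {U : X.Opens} (s : Γ(Z, π ⁻¹ᵁ U)) (n : Γ(X, U)) : Prop :=
  ∀ (W : X.Opens) (hW : W ≤ U) (t : Γ(X, W)), (π.app W).hom t = resZ π hW s → resX hW n = t ^ q

variable {π q}

lemma IsNormOf.unique (H2 : ∀ U : X.affineOpens, Function.Surjective (π.app U.1).hom)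
    {U : X.Opens} {s : Γ(Z, π ⁻¹ᵁ U)} {n n' : Γ(X, U)}
    (h : IsNormOf π q s n) (h' : IsNormOf π q s n') : n = n' := by
  apply eq_of_affine_res
  intro W hW
  obtain ⟨t, ht⟩ := H2 W (resZ π hW s)
  rw [h W.1 hW t ht, h' W.1 hW t ht]

lemma exists_isNormOf
    (H1 : ∀ (U : X.Opens) (t t' : Γ(X, U)), (π.app U).hom t = (π.app U).hom t' → t ^ q = t' ^ q)
    (H2 : ∀ U : X.affineOpens, Function.Surjective (π.app U.1).hom)
    {U : X.Opens} (s : Γ(Z, π ⁻¹ᵁ U)) : ∃ n, IsNormOf π q s n := by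
  classical
  have hl : ∀ W : {W : X.affineOpens // W.1 ≤ U},
      ∃ t : Γ(X, W.1.1), (π.app W.1.1).hom t = resZ π W.2 s := fun W => H2 W.1 _
  choose t ht using hl
  have hcompat : TopCat.Presheaf.IsCompatible X.sheaf.1
      (fun W : {W : X.affineOpens // W.1 ≤ U} => W.1.1) (fun W => t W ^ q) := by
    intro W W'
    change resX inf_le_left (t W ^ q) = resX inf_le_right (t W' ^ q)
    rw [map_pow, map_pow]
    apply H1
    rw [app_resX, app_resX, ht, ht, resZ_resZ, resZ_resZ]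
  have hcover : U ≤ ⨆ W : {W : X.affineOpens // W.1 ≤ U}, W.1.1 := by
    intro x hx
    obtain ⟨_, ⟨W, hW, rfl⟩, hxW, hWU⟩ := X.isBasis_affineOpens.exists_subset_of_mem_open hx U.2
    exact Opens.mem_iSup.2 ⟨⟨⟨W, hW⟩, hWU⟩, hxW⟩
  obtain ⟨n, hn, -⟩ := X.sheaf.existsUnique_gluing'
    (fun W : {W : X.affineOpens // W.1 ≤ U} => W.1.1) U (fun W => homOfLE W.2) hcover
    (fun W => t W ^ q) hcompat
  refine ⟨n, fun W' hW' t' ht' => ?_⟩
  apply eq_of_affine_res
  intro W'' hW''
  rw [resX_resX, map_pow]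
  refine (hn ⟨W'', hW''.trans hW'⟩).trans ?_
  apply H1
  rw [ht, app_resX, ht', resZ_resZ]

/-- the norm of `s`. -/
noncomputable def normFun
    (H1 : ∀ (U : X.Opens) (t t' : Γ(X, U)), (π.app U).hom t = (π.app U).hom t' → t ^ q = t' ^ q)
    (H2 : ∀ U : X.affineOpens, Function.Surjective (π.app U.1).hom)
    (U : X.Opens) (s : Γ(Z, π ⁻¹ᵁ U)) : Γ(X, U) :=
  (exists_isNormOf H1 H2 s).choose

lemma normFun_spec
    (H1 : ∀ (U : X.Opens) (t t' : Γ(X, U)), (π.app U).hom t = (π.app U).hom t' → t ^ q = t' ^ q)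
    (H2 : ∀ U : X.affineOpens, Function.Surjective (π.app U.1).hom)
    (U : X.Opens) (s : Γ(Z, π ⁻¹ᵁ U)) : IsNormOf π q s (normFun H1 H2 U s) :=
  (exists_isNormOf H1 H2 s).choose_spec

lemma normFun_eq
    (H1 : ∀ (U : X.Opens) (t t' : Γ(X, U)), (π.app U).hom t = (π.app U).hom t' → t ^ q = t' ^ q)
    (H2 : ∀ U : X.affineOpens, Function.Surjective (π.app U.1).hom)
    {U : X.Opens} {s : Γ(Z, π ⁻¹ᵁ U)} {n : Γ(X, U)} (h : IsNormOf π q s n) :
    normFun H1 H2 U s = n :=
  (normFun_spec H1 H2 U s).unique H2 h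

/-- on an affine open, with a chosen lift. -/
lemma resX_normFun
    (H1 : ∀ (U : X.Opens) (t t' : Γ(X, U)), (π.app U).hom t = (π.app U).hom t' → t ^ q = t' ^ q)
    (H2 : ∀ U : X.affineOpens, Function.Surjective (π.app U.1).hom)
    {U W : X.Opens} (hW : W ≤ U) (s : Γ(Z, π ⁻¹ᵁ U)) (t : Γ(X, W))
    (ht : (π.app W).hom t = resZ π hW s) : resX hW (normFun H1 H2 U s) = t ^ q :=
  normFun_spec H1 H2 U s W hW t ht

lemma resZ_self {U : X.Opens} (a : Γ(Z, π ⁻¹ᵁ U)) : resZ π (le_refl U) a = a := by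
  change (Z.presheaf.map (𝟙 _)).hom a = a
  rw [Z.presheaf.map_id]; rfl

theorem hasNorm (hq : 1 ≤ q)
    (H1 : ∀ (U : X.Opens) (t t' : Γ(X, U)), (π.app U).hom t = (π.app U).hom t' → t ^ q = t' ^ q)
    (H2 : ∀ U : X.affineOpens, Function.Surjective (π.app U.1).hom) : Nrm.HasNorm π q := by
  refine ⟨{ one_le := hq
            norm := fun U =>
              { toFun := normFun H1 H2 U
                map_one' := ?_
                map_mul' := ?_ }
            norm_res := ?_
            norm_app := ?_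
            norm_mem := ?_ }⟩
  · -- map_one
    apply normFun_eq
    intro W hW t ht
    rw [map_one] at ht ⊢
    have := H1 W t 1 (by rw [ht, map_one])
    rw [this, one_pow]
  · -- map_mul
    intro s s'
    apply eq_of_affine_res
    intro W hW
    obtain ⟨t, ht⟩ := H2 W (resZ π hW s)
    obtain ⟨t', ht'⟩ := H2 W (resZ π hW s')
    rw [map_mul, resX_normFun H1 H2 hW s t ht, resX_normFun H1 H2 hW s' t' ht',
      resX_normFun H1 H2 hW (s * s') (t * t') (by rw [map_mul, map_mul, ht, ht']), mul_pow]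
  · -- norm_res
    intro U V i s
    have hVU : V ≤ U := i.le
    change resX hVU (normFun H1 H2 U s) = normFun H1 H2 V (resZ π hVU s)
    symm
    apply normFun_eq
    intro W hW t ht
    rw [resZ_resZ] at ht
    rw [resX_resX]
    exact resX_normFun H1 H2 (hW.trans hVU) s t ht
  · -- norm_app
    intro U g
    change normFun H1 H2 U ((π.app U).hom g) = g ^ q
    have := resX_normFun H1 H2 (le_refl U) ((π.app U).hom g) g (by rw [resZ_self])
    rwa [resX_self] at this
  · -- norm_mem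
    intro U s x hx hs
    change X.presheaf.germ U (π.base x) hx (normFun H1 H2 U s) ∈ _
    obtain ⟨_, ⟨W, hWa, rfl⟩, hxW, hWU⟩ := X.isBasis_affineOpens.exists_subset_of_mem_open hx U.2
    have hWU' : W ≤ U := hWU
    obtain ⟨t, ht⟩ := H2 ⟨W, hWa⟩ (resZ π hWU' s)
    have h1 := resX_normFun H1 H2 hWU' s t ht
    have h2 := TopCat.Presheaf.germ_res_apply X.presheaf (homOfLE hWU') (π.base x) hxW
      (normFun H1 H2 U s)
    have h3 : X.presheaf.germ U (π.base x) hx (normFun H1 H2 U s) =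
        (X.presheaf.germ W (π.base x) hxW t) ^ q := by
      rw [← map_pow]
      refine h2.symm.trans ?_
      exact congrArg _ h1
    rw [h3]
    refine Ideal.pow_mem_of_mem _ ?_ q hq
    by_contra hcon
    rw [IsLocalRing.mem_maximalIdeal, mem_nonunits_iff, not_not] at hcon
    have h4 := hcon.map (π.stalkMap x).hom
    have h5 : (π.stalkMap x).hom (X.presheaf.germ W (π.base x) hxW t) =
        Z.presheaf.germ (π ⁻¹ᵁ U) x hx s := by
      refine (Scheme.Hom.germ_stalkMap_apply π W x hxW t).trans ?_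
      have h6 : (π.app W).hom t = resZ π hWU' s := ht
      refine (congrArg _ h6).trans ?_
      exact TopCat.Presheaf.germ_res_apply Z.presheaf
        ((Opens.map π.base).map (homOfLE hWU')) x hxW s
    rw [h5] at h4
    exact hs h4

end Main

end Groth.Agent.Lib.R2H4.NormGlue

namespace Groth.Agent.Lib.R2H4.NormRed

/-- nilradical of a basic open of an affine open with `nilradical ^ N = 0`. -/
theorem pow_eq_zero_of_basicOpen {X : Scheme.{u}} {V : X.Opens} (hV : IsAffineOpen V) (N : ℕ)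
    (hN : nilradical Γ(X, V) ^ N = ⊥) (f : Γ(X, V)) (s : Γ(X, X.basicOpen f))
    (hs : s ∈ nilradical Γ(X, X.basicOpen f)) : s ^ N = 0 := by
  have hloc := hV.isLocalization_basicOpen f
  have h1 := IsLocalization.map_radical (.powers f) Γ(X, X.basicOpen f) (⊥ : Ideal Γ(X, V))
  rw [Ideal.map_bot] at h1
  have h2 : s ∈ Ideal.map (algebraMap Γ(X, V) Γ(X, X.basicOpen f)) (nilradical Γ(X, V)) := by
    have : nilradical Γ(X, V) = (⊥ : Ideal Γ(X, V)).radical := rfl
    rw [this, h1]; exact hs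
  have h3 : s ^ N ∈ Ideal.map (algebraMap Γ(X, V) Γ(X, X.basicOpen f)) (nilradical Γ(X, V)) ^ N :=
    Ideal.pow_mem_pow h2 N
  rw [← Ideal.map_pow, hN, Ideal.map_bot] at h3
  exact h3

end Groth.Agent.Lib.R2H4.NormRed

namespace Groth.Agent.Lib.R2H4.NormRed

/-- the morphism `X_red ⟶ X`. -/
noncomputable abbrev redι (X : Scheme.{u}) : X.nilradical.subscheme ⟶ X := X.nilradical.subschemeι

theorem mem_nilradical_of_app_eq_zero {X : Scheme.{u}} {D : X.Opens} (hD : IsAffineOpen D)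
    (s : Γ(X, D)) (hs : ((redι X).app D).hom s = 0) : s ∈ nilradical Γ(X, D) := by
  have h1 : s ∈ RingHom.ker ((redι X).app D).hom := hs
  have h2 := X.nilradical.ker_subschemeι_app ⟨D, hD⟩
  change RingHom.ker ((redι X).app D).hom = _ at h2
  rw [h2] at h1
  exact h1

theorem exists_uniform_nilpotency (X : Scheme.{u}) [IsNoetherian X] :
    ∃ N : ℕ, ∀ (U : X.Opens) (s : Γ(X, U)), ((redι X).app U).hom s = 0 → s ^ N = 0 := by
  classical
  have hx : ∀ x : X, ∃ V : X.affineOpens, x ∈ V.1 := fun x => by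
    obtain ⟨_, ⟨V, hV, rfl⟩, hxV, -⟩ :=
      X.isBasis_affineOpens.exists_subset_of_mem_open (Set.mem_univ x) isOpen_univ
    exact ⟨⟨V, hV⟩, hxV⟩
  choose V hxV using hx
  have hN : ∀ x, ∃ n : ℕ, nilradical Γ(X, (V x).1) ^ n = ⊥ := fun x => by
    have : IsNoetherianRing Γ(X, (V x).1) := IsLocallyNoetherian.component_noetherian (V x)
    exact IsNoetherianRing.isNilpotent_nilradical _
  choose n hn using hN
  obtain ⟨t, ht⟩ := isCompact_univ.elim_finite_subcover (fun x => ((V x).1 : Set X))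
    (fun x => (V x).1.2) (fun y _ => Set.mem_iUnion.2 ⟨y, hxV y⟩)
  refine ⟨t.sup n, fun U s hs => ?_⟩
  apply TopCat.Presheaf.section_ext X.sheaf U
  intro y hy
  obtain ⟨x, hxt, hyx⟩ : ∃ x ∈ t, y ∈ (V x).1 := by simpa using ht (Set.mem_univ y)
  obtain ⟨f, hfU, hyf⟩ := (V x).2.exists_basicOpen_le ⟨y, hy⟩ hyx
  have hD : IsAffineOpen (X.basicOpen f) := (V x).2.basicOpen f
  set s' : Γ(X, X.basicOpen f) := (X.presheaf.map (homOfLE hfU).op).hom s with hs'
  have h0 : ((redι X).app (X.basicOpen f)).hom s' = 0 := by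
    have hnat := (redι X).naturality (homOfLE hfU).op
    have := congrArg (fun φ => φ.hom s) hnat
    simp only [CommRingCat.hom_comp, RingHom.comp_apply] at this
    rw [hs'] 
    rw [this, hs, map_zero]
  have h1 := mem_nilradical_of_app_eq_zero hD s' h0
  have h2 := pow_eq_zero_of_basicOpen (V x).2 (n x) (hn x) f s' h1
  have h3 : s' ^ (t.sup n) = 0 := by
    have hle : n x ≤ t.sup n := Finset.le_sup hxt
    rw [← Nat.sub_add_cancel hle, pow_add, h2, mul_zero]
  have h4 : (X.presheaf.map (homOfLE hfU).op).hom (s ^ t.sup n) = 0 := by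
    rw [map_pow]; exact h3
  have h5 := TopCat.Presheaf.germ_res_apply X.presheaf (homOfLE hfU) y hyf (s ^ t.sup n)
  refine h5.symm.trans ?_
  refine (congrArg _ h4).trans ?_
  rw [map_zero]
  exact (map_zero (X.presheaf.germ U y hy).hom).symm

end Groth.Agent.Lib.R2H4.NormRed

namespace Groth.Agent.Lib.R2H4.NormRed

theorem natCast_eq_zero_of_top {X : Scheme.{u}} (p : ℕ) (hpX : (p : Γ(X, ⊤)) = 0) (U : X.Opens) :
    (p : Γ(X, U)) = 0 := by
  have := congrArg (X.presheaf.map (homOfLE (le_top : U ≤ ⊤)).op).hom hpX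
  rwa [map_natCast, map_zero] at this

theorem pow_eq_pow_of_app_eq {X : Scheme.{u}} (p : ℕ) (hp : p.Prime) (hpX : (p : Γ(X, ⊤)) = 0)
    (N e : ℕ)
    (hN : ∀ (U : X.Opens) (s : Γ(X, U)), ((redι X).app U).hom s = 0 → s ^ N = 0)
    (he : N ≤ p ^ e) (U : X.Opens) (t t' : Γ(X, U))
    (h : ((redι X).app U).hom t = ((redι X).app U).hom t') : t ^ p ^ e = t' ^ p ^ e := by
  have h0 : ((redι X).app U).hom (t - t') = 0 := by rw [map_sub, h, sub_self]
  have h1 : (t - t') ^ N = 0 := hN U _ h0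
  have h2 : (t - t') ^ p ^ e = 0 := by
    rw [← Nat.sub_add_cancel he, pow_add, h1, mul_zero]
  have h3 := add_pow_prime_pow_eq hp t' (t - t') e
  rw [add_sub_cancel, h2, natCast_eq_zero_of_top p hpX U] at h3
  rw [h3]; ring

end Groth.Agent.Lib.R2H4.NormRed

namespace Groth.Agent.Lib.R2H4.NormRed

theorem hasNorm_red (X : Scheme.{u}) [IsNoetherian X] (p : ℕ) (hp : p.Prime)
    (hpX : (p : Γ(X, ⊤)) = 0) : ∃ e : ℕ, 0 < e ∧ Nrm.HasNorm X.nilradical.subschemeι (p ^ e) := by
  obtain ⟨N, hN⟩ := exists_uniform_nilpotency X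
  refine ⟨N + 1, Nat.succ_pos N, ?_⟩
  have hle : N ≤ p ^ (N + 1) := by
    have h1 : N < 2 ^ N := Nat.lt_two_pow_self
    have h2 : 2 ^ N ≤ p ^ N := Nat.pow_le_pow_left hp.two_le N
    have h3 : p ^ N ≤ p ^ (N + 1) := Nat.pow_le_pow_right hp.pos (Nat.le_succ N)
    omega
  refine NormGlue.hasNorm (π := redι X) (Nat.one_le_pow _ _ hp.pos) ?_ ?_
  · intro U t t' h
    exact pow_eq_pow_of_app_eq p hp hpX N (N + 1) hN hle U t t' h
  · intro U
    exact X.nilradical.subschemeι_app_surjective U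

end Groth.Agent.Lib.R2H4.NormRed
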