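import Mathlib
import Groth.Prelude.Def_Fitting
import Groth.Agent.Lib.R2H4NormRed

set_option autoImplicit false
universe u
open CategoryTheory CategoryTheory.Limits AlgebraicGeometry TopologicalSpace

namespace Groth.Agent.Lib.R2H4.NormAff

open Groth.Agent.Lib.R2H4.NormGlue

variable {Z X : Scheme.{u}} (π : Z ⟶ X)

/-- Norm data on affine opens of the target. -/
structure AffNormData (d : ℕ) where
  norm : ∀ U : X.affineOpens, Γ(Z, π ⁻¹ᵁ U.1) →* Γ(X, U.1)
  norm_res : ∀ (U V : X.affineOpens) (h : V.1 ≤ U.1) (s : Γ(Z, π ⁻¹ᵁ U.1)),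
    resX h (norm U s) = norm V (resZ π h s)
  norm_app : ∀ (U : X.affineOpens) (g : Γ(X, U.1)), norm U ((π.app U.1).hom g) = g ^ d
  norm_mem : ∀ (U : X.affineOpens) (s : Γ(Z, π ⁻¹ᵁ U.1)) (x : Z) (hx : π.base x ∈ U.1),
    Z.presheaf.germ (π ⁻¹ᵁ U.1) x hx s ∈ IsLocalRing.maximalIdeal (Z.presheaf.stalk x) →
      X.presheaf.germ U.1 (π.base x) hx (norm U s) ∈
        IsLocalRing.maximalIdeal (X.presheaf.stalk (π.base x))

variable {π} {d : ℕ} (N : AffNormData π d)

/-- `n` is the glued norm of `s`. -/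
def IsGlued {U : X.Opens} (s : Γ(Z, π ⁻¹ᵁ U)) (n : Γ(X, U)) : Prop :=
  ∀ (W : X.affineOpens) (hW : W.1 ≤ U), resX hW n = N.norm W (resZ π hW s)

lemma IsGlued.unique {U : X.Opens} {s : Γ(Z, π ⁻¹ᵁ U)} {n n' : Γ(X, U)}
    (h : IsGlued N s n) (h' : IsGlued N s n') : n = n' := by
  apply eq_of_affine_res
  intro W hW
  rw [h W hW, h' W hW]

lemma exists_isGlued {U : X.Opens} (s : Γ(Z, π ⁻¹ᵁ U)) : ∃ n, IsGlued N s n := by
  have hcompat : TopCat.Presheaf.IsCompatible X.sheaf.1
      (fun W : {W : X.affineOpens // W.1 ≤ U} => W.1.1)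
      (fun W => N.norm W.1 (resZ π W.2 s)) := by
    intro W W'
    change resX inf_le_left (N.norm W.1 (resZ π W.2 s)) =
      resX inf_le_right (N.norm W'.1 (resZ π W'.2 s))
    apply eq_of_affine_res
    intro W'' hW''
    rw [resX_resX, resX_resX, N.norm_res, N.norm_res, resZ_resZ, resZ_resZ]
  have hcover : U ≤ ⨆ W : {W : X.affineOpens // W.1 ≤ U}, W.1.1 := by
    intro x hx
    obtain ⟨_, ⟨W, hW, rfl⟩, hxW, hWU⟩ := X.isBasis_affineOpens.exists_subset_of_mem_open hx U.2
    exact Opens.mem_iSup.2 ⟨⟨⟨W, hW⟩, hWU⟩, hxW⟩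
  obtain ⟨n, hn, -⟩ := X.sheaf.existsUnique_gluing'
    (fun W : {W : X.affineOpens // W.1 ≤ U} => W.1.1) U (fun W => homOfLE W.2) hcover
    (fun W => N.norm W.1 (resZ π W.2 s)) hcompat
  exact ⟨n, fun W hW => hn ⟨W, hW⟩⟩

/-- the glued norm. -/
noncomputable def normFun (U : X.Opens) (s : Γ(Z, π ⁻¹ᵁ U)) : Γ(X, U) :=
  (exists_isGlued N s).choose

lemma normFun_spec (U : X.Opens) (s : Γ(Z, π ⁻¹ᵁ U)) : IsGlued N s (normFun N U s) :=
  (exists_isGlued N s).choose_spec

lemma normFun_eq {U : X.Opens} {s : Γ(Z, π ⁻¹ᵁ U)} {n : Γ(X, U)} (h : IsGlued N s n) :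
    normFun N U s = n :=
  (normFun_spec N U s).unique N h

/-- Norm data on affine opens glue to a norm. -/
noncomputable def toNormOfDegree (hd : 1 ≤ d) : Nrm.NormOfDegree π d where
  one_le := hd
  norm := fun U =>
    { toFun := normFun N U
      map_one' := by
        apply normFun_eq
        intro W hW
        rw [map_one, map_one, map_one]
      map_mul' := by
        intro s s'
        apply normFun_eq
        intro W hW
        rw [map_mul, map_mul, map_mul, normFun_spec N U s W hW, normFun_spec N U s' W hW] }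
  norm_res := by
    intro U V i s
    have hVU : V ≤ U := i.le
    change resX hVU (normFun N U s) = normFun N V (resZ π hVU s)
    symm
    apply normFun_eq
    intro W hW
    rw [resX_resX, resZ_resZ]
    exact normFun_spec N U s W (hW.trans hVU)
  norm_app := by
    intro U g
    change normFun N U ((π.app U).hom g) = g ^ d
    apply normFun_eq
    intro W hW
    rw [map_pow, ← app_resX, N.norm_app]
  norm_mem := by
    intro U s x hx hs
    change X.presheaf.germ U (π.base x) hx (normFun N U s) ∈ _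
    obtain ⟨_, ⟨W, hWa, rfl⟩, hxW, hWU⟩ := X.isBasis_affineOpens.exists_subset_of_mem_open hx U.2
    have hWU' : W ≤ U := hWU
    have h1 := normFun_spec N U s ⟨W, hWa⟩ hWU'
    have h2 := TopCat.Presheaf.germ_res_apply X.presheaf (homOfLE hWU') (π.base x) hxW
      (normFun N U s)
    have h3 : X.presheaf.germ U (π.base x) hx (normFun N U s) =
        X.presheaf.germ W (π.base x) hxW (N.norm ⟨W, hWa⟩ (resZ π hWU' s)) := by
      refine h2.symm.trans ?_
      exact congrArg _ h1
    rw [h3]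
    apply N.norm_mem ⟨W, hWa⟩ (resZ π hWU' s) x hxW
    have h4 := TopCat.Presheaf.germ_res_apply Z.presheaf
      ((Opens.map π.base).map (homOfLE hWU')) x hxW s
    exact h4.symm ▸ hs

end Groth.Agent.Lib.R2H4.NormAff
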