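import Mathlib
import Groth.Prelude.Def_Fitting

/-!
# Norms and quasi-affineness (helper4, round 2)

* `surjective_of_normOfDegree`: a finite morphism with a norm of degree `d ≥ 1` is surjective.
* `exists_basicOpen_of_finite`: prime avoidance in quasi-affine schemes.
* `isQuasiAffine_of_normOfDegree`: the target of a finite morphism with a norm from a quasi-affine scheme
  is quasi-affine.
-/

set_option autoImplicit false
universe u
open CategoryTheory CategoryTheory.Limits AlgebraicGeometry TopologicalSpace Opposite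

namespace Groth.Agent.Lib.R2H4.NormQAff

/-- sections over an empty open are all equal. -/
theorem section_eq_of_isEmpty {X : Scheme.{u}} (W : X.Opens) (hW : W = ⊥) (a b : Γ(X, W)) : a = b := by
  apply X.sheaf.eq_of_locally_eq' (fun i : PEmpty.{1} => i.elim) W (fun i => i.elim)
  · rw [hW]; exact bot_le
  · intro i; exact i.elim

/-- A finite morphism carrying a norm of degree `d ≥ 1` is surjective. -/
theorem surjective_of_normOfDegree {X Y : Scheme.{u}} (π : X ⟶ Y) [IsFinite π] {d : ℕ}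
    (N : Nrm.NormOfDegree π d) : Function.Surjective π := by
  intro y
  by_contra hy
  have hcl : IsClosed (Set.range π) := by
    rw [← Set.image_univ]
    exact π.isClosedMap _ isClosed_univ
  let U : Y.Opens := ⟨(Set.range π)ᶜ, hcl.isOpen_compl⟩
  have hyU : y ∈ U := fun ⟨x, hx⟩ => hy ⟨x, hx⟩
  have hW : π ⁻¹ᵁ U = ⊥ := by
    ext x
    simp only [Opens.coe_bot, Set.mem_empty_iff_false, iff_false]
    intro hx
    exact hx ⟨x, rfl⟩
  have h01 : (1 : Γ(X, π ⁻¹ᵁ U)) = (π.app U).hom 0 := section_eq_of_isEmpty _ hW _ _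
  have h1 : (1 : Γ(Y, U)) = 0 := by
    have := N.norm_app U 0
    rw [← h01, map_one, zero_pow (by have := N.one_le; omega)] at this
    exact this
  have h2 : (1 : Y.presheaf.stalk y) = 0 := by
    have := congrArg (Y.presheaf.germ U y hyU).hom h1
    rwa [map_one, map_zero] at this
  exact one_ne_zero h2

/-- In a quasi-affine scheme, a finite set of points inside an open `W` lies in a basic open of a
global function contained in `W`. -/
theorem exists_basicOpen_of_finite {X : Scheme.{u}} [X.IsQuasiAffine] (W : X.Opens) (F : Set X)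
    (hF : F.Finite) (hFW : F ⊆ W) :
    ∃ s : Γ(X, ⊤), X.basicOpen s ≤ W ∧ ∀ x ∈ F, x ∈ X.basicOpen s := by
  classical
  let ι := X.toSpecΓ
  let W' : (Spec Γ(X, ⊤)).Opens := ι ''ᵁ W
  let t : Set (PrimeSpectrum Γ(X, ⊤)) := (W' : Set (Spec Γ(X, ⊤)))ᶜ
  have ht : IsClosed t := W'.2.isClosed_compl
  let J : Ideal Γ(X, ⊤) := PrimeSpectrum.vanishingIdeal t
  have hJ : ∀ x ∈ F, ¬ J ≤ (ι x : PrimeSpectrum Γ(X, ⊤)).asIdeal := by
    intro x hx hle
    have h1 : (ι x : PrimeSpectrum Γ(X, ⊤)) ∈ PrimeSpectrum.zeroLocus (J : Set Γ(X, ⊤)) := hle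
    rw [PrimeSpectrum.zeroLocus_vanishingIdeal_eq_closure, ht.closure_eq] at h1
    exact h1 ⟨x, hFW hx, rfl⟩
  have hex : ∃ r ∈ J, ∀ x ∈ F, r ∉ (ι x : PrimeSpectrum Γ(X, ⊤)).asIdeal := by
    by_cases hne : F.Nonempty
    · obtain ⟨a, ha⟩ := hne
      have := (Ideal.subset_union_prime (s := hF.toFinset)
        (f := fun x : X => (ι x : PrimeSpectrum Γ(X, ⊤)).asIdeal) a a
        (fun x _ _ _ => (ι x : PrimeSpectrum Γ(X, ⊤)).isPrime) (I := J)).not
      have h2 : ¬ ∃ i ∈ hF.toFinset, J ≤ (ι i : PrimeSpectrum Γ(X, ⊤)).asIdeal := by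
        rintro ⟨i, hi, hle⟩
        exact hJ i (hF.mem_toFinset.1 hi) hle
      have h3 := this.2 h2
      rw [Set.not_subset] at h3
      obtain ⟨r, hrJ, hr⟩ := h3
      refine ⟨r, hrJ, fun x hx hrx => hr ?_⟩
      simp only [Set.mem_iUnion]
      exact ⟨x, by simpa using hx, hrx⟩
    · rw [Set.not_nonempty_iff_eq_empty] at hne
      exact ⟨0, J.zero_mem, fun x hx => by rw [hne] at hx; exact hx.elim⟩
  obtain ⟨r, hrJ, hr⟩ := hex
  refine ⟨r, ?_, ?_⟩
  · intro x hx
    rw [← X.toSpecΓ_preimage_basicOpen r] at hx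
    have hx' : r ∉ (ι x : PrimeSpectrum Γ(X, ⊤)).asIdeal := hx
    by_contra hxW
    apply hx'
    have : (ι x : PrimeSpectrum Γ(X, ⊤)) ∈ t := by
      rintro ⟨x', hx'W, hxx'⟩
      have := ι.isOpenEmbedding.injective hxx'
      exact hxW (this ▸ hx'W)
    exact (PrimeSpectrum.mem_vanishingIdeal t r).1 hrJ _ this
  · intro x hx
    rw [← X.toSpecΓ_preimage_basicOpen r]
    exact hr x hx

/-- A section all of whose germs are units is a unit. -/
theorem isUnit_of_forall_mem_basicOpen {X : Scheme.{u}} {V : X.Opens} (f : Γ(X, V))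
    (h : V ≤ X.basicOpen f) : IsUnit f := by
  apply RingedSpace.isUnit_of_isUnit_germ X.toRingedSpace
  intro x hx
  exact (X.mem_basicOpen f x hx).1 (h hx)

theorem isQuasiAffine_of_normOfDegree {X Y : Scheme.{u}} (π : X ⟶ Y) [IsFinite π] {d : ℕ}
    (N : Nrm.NormOfDegree π d) [X.IsQuasiAffine] : Y.IsQuasiAffine := by
  have hsurj := surjective_of_normOfDegree π N
  have : CompactSpace Y := by
    constructor
    rw [← Set.range_eq_univ.2 hsurj]
    exact isCompact_range π.continuous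
  apply Scheme.IsQuasiAffine.of_forall_exists_mem_basicOpen
  intro y
  obtain ⟨_, ⟨U, hU, rfl⟩, hyU, -⟩ := Y.isBasis_affineOpens.exists_subset_of_mem_open
    (Set.mem_univ y) isOpen_univ
  have hfin : (π ⁻¹' {y}).Finite := Scheme.Hom.finite_preimage_singleton π y
  obtain ⟨s, hsW, hsF⟩ := exists_basicOpen_of_finite (π ⁻¹ᵁ U) (π ⁻¹' {y}) hfin
    (fun x hx => by
      change π x ∈ U
      rw [show π x = y from hx]; exact hyU)
  let s' : Γ(X, π ⁻¹ᵁ (⊤ : Y.Opens)) := s
  let g : Γ(Y, ⊤) := N.norm ⊤ s'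
  -- Claim A
  have hA : ∀ x : X, π x ∈ Y.basicOpen g → x ∈ X.basicOpen s := by
    intro x hx
    by_contra hxs
    have h1 : X.presheaf.germ (π ⁻¹ᵁ (⊤ : Y.Opens)) x trivial s' ∈
        IsLocalRing.maximalIdeal (X.presheaf.stalk x) := by
      rw [IsLocalRing.mem_maximalIdeal, mem_nonunits_iff]
      intro hu
      exact hxs ((X.mem_basicOpen s x trivial).2 hu)
    have h2 := N.norm_mem ⊤ s' x trivial h1
    rw [IsLocalRing.mem_maximalIdeal, mem_nonunits_iff] at h2
    exact h2 ((Y.mem_basicOpen g (π x) trivial).1 hx)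
  -- Claim C
  have hC : Y.basicOpen g ≤ U := by
    intro y' hy'
    obtain ⟨x', rfl⟩ := hsurj y'
    exact hsW (hA x' hy')
  refine ⟨g, ?_, ?_⟩
  · have h1 : Y.basicOpen (Y.presheaf.map (homOfLE (le_top : U ≤ ⊤)).op g) = Y.basicOpen g := by
      rw [Scheme.basicOpen_res]
      exact inf_eq_right.2 hC
    rw [← h1]
    exact hU.basicOpen _
  · -- Claim B
    have hcl : IsClosed (π '' ((X.basicOpen s : Set X)ᶜ)) :=
      π.isClosedMap _ (X.basicOpen s).2.isClosed_compl
    let U' : Y.Opens := ⟨(π '' ((X.basicOpen s : Set X)ᶜ))ᶜ, hcl.isOpen_compl⟩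
    have hyU' : y ∈ U' := by
      rintro ⟨x, hx, hxy⟩
      exact hx (hsF x hxy)
    have hle : π ⁻¹ᵁ U' ≤ X.basicOpen s := by
      intro x hx
      by_contra hxs
      exact hx ⟨x, hxs, rfl⟩
    let i : U' ⟶ (⊤ : Y.Opens) := homOfLE le_top
    have hres := N.norm_res i s'
    have hunit : IsUnit (X.presheaf.map ((Opens.map π.base).map i).op s') := by
      apply isUnit_of_forall_mem_basicOpen
      rw [Scheme.basicOpen_res]
      exact le_inf le_rfl hle
    have hunit2 : IsUnit (Y.presheaf.map i.op g) := by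
      rw [hres]
      exact hunit.map (N.norm U')
    rw [Y.mem_basicOpen g y trivial]
    have := hunit2.map (Y.presheaf.germ U' y hyU').hom
    rwa [TopCat.Presheaf.germ_res_apply] at this

end Groth.Agent.Lib.R2H4.NormQAff
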