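import Mathlib
import Groth.Prelude.Def_Fitting
import Groth.Prelude.Def_Pi1
import Groth.Agent.Lib.R2H4NormAff
import Groth.Agent.Lib.R2H4IntNorm
import Groth.Agent.Lib.R2H4NormQAff

set_option autoImplicit false
set_option linter.style.haveILetI false
universe u
open CategoryTheory CategoryTheory.Limits AlgebraicGeometry TopologicalSpace

namespace Groth.Agent.Lib.R2H4.NormNormal

open Groth.Agent.Lib.R2H4.NormGlue Groth.Agent.Lib.R2H4.NormAff Groth.Agent.Lib.R2H4.IntNorm
  Groth.Agent.Lib.R2H4.NormQAff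

/-- Sections of a normal integral scheme over a nonempty affine open are integrally closed. -/
theorem isIntegrallyClosed_sections {Y : Scheme.{u}} [IsIntegral Y] (hY : Pi1.IsNormalScheme Y)
    (W : Y.Opens) (hW : IsAffineOpen W) [Nonempty W] :
    @IsIntegrallyClosed Γ(Y, W) _ := by
  haveI : IsDomain Γ(Y, W) := IsIntegral.component_integral W
  apply IsIntegrallyClosed.of_localization_maximal
  intro p _ _
  let y : PrimeSpectrum Γ(Y, W) := ⟨p, inferInstance⟩
  have hy : hW.fromSpec y ∈ (W : Set Y) := by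
    rw [← hW.range_fromSpec]; exact ⟨y, rfl⟩
  letI := TopCat.Presheaf.algebra_section_stalk Y.presheaf ⟨hW.fromSpec y, hy⟩
  haveI : IsLocalization p.primeCompl (Y.presheaf.stalk (hW.fromSpec y)) :=
    hW.isLocalization_stalk' y hy
  let e : Localization.AtPrime p ≃ₐ[Γ(Y, W)] Y.presheaf.stalk (hW.fromSpec y) :=
    IsLocalization.algEquiv p.primeCompl _ _
  haveI := (hY (hW.fromSpec y)).2
  exact IsIntegrallyClosed.of_equiv e.symm.toRingEquiv

variable {X Y : Scheme.{u}} (π : X ⟶ Y) [IsIntegral X] [IsIntegral Y] [Surjective π]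

lemma map_genericPoint : π.base (genericPoint X) = genericPoint Y := by
  have h := (genericPoint_spec X).image π.continuous
  have h2 : closure (π.base '' (Set.univ : Set X)) = ⊤ := by
    rw [Set.image_univ, Set.range_eq_univ.2 π.surjective, closure_univ]; rfl
  have h3 : IsGenericPoint (π.base (genericPoint X)) ⊤ := h2 ▸ h
  exact h3.eq (genericPoint_spec Y)

lemma genericPoint_mem (U : Y.Opens) [h : Nonempty U] : genericPoint Y ∈ U :=
  ((genericPoint_spec Y).mem_open_set_iff U.isOpen).mpr (by simpa using h)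

lemma genericPoint_mem_preimage (U : Y.Opens) (h : genericPoint Y ∈ U) :
    genericPoint X ∈ π ⁻¹ᵁ U := by
  change π.base (genericPoint X) ∈ U
  rw [map_genericPoint]; exact h

/-- the map of function fields. -/
noncomputable def fieldMap : Y.functionField ⟶ X.functionField :=
  Y.presheaf.stalkSpecializes (specializes_of_eq (map_genericPoint π)) ≫
    π.stalkMap (genericPoint X)

lemma fieldMap_germ (U : Y.Opens) (h : genericPoint Y ∈ U) (a : Γ(Y, U)) :
    (fieldMap π).hom (Y.presheaf.germ U (genericPoint Y) h a) =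
      X.presheaf.germ (π ⁻¹ᵁ U) (genericPoint X) (genericPoint_mem_preimage π U h)
        ((π.app U).hom a) := by
  have h1 := TopCat.Presheaf.germ_stalkSpecializes Y.presheaf h
    (specializes_of_eq (map_genericPoint π))
  have h2 := Scheme.Hom.germ_stalkMap π U (genericPoint X) (genericPoint_mem_preimage π U h)
  have h3 : Y.presheaf.germ U (genericPoint Y) h ≫ fieldMap π =
      π.app U ≫ X.presheaf.germ (π ⁻¹ᵁ U) (genericPoint X) (genericPoint_mem_preimage π U h) := by
    unfold fieldMap
    rw [← Category.assoc, h1]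
    exact h2
  exact congrArg (fun k => k.hom a) h3


section Main

variable [IsFinite π]

lemma exists_affine_nonempty (Y : Scheme.{u}) [IsIntegral Y] :
    ∃ U : Y.Opens, IsAffineOpen U ∧ Nonempty U := by
  obtain ⟨_, ⟨W, hW, rfl⟩, hxW, -⟩ := Y.isBasis_affineOpens.exists_subset_of_mem_open
    (Set.mem_univ (genericPoint Y)) isOpen_univ
  exact ⟨W, hW, ⟨⟨_, hxW⟩⟩⟩

lemma finite_fieldMap :
    @Module.Finite Y.functionField X.functionField _ _ (fieldMap π).hom.toAlgebra.toModule := by
  obtain ⟨U, hU, hne⟩ := exists_affine_nonempty Y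
  haveI := hne
  haveI : Nonempty (π ⁻¹ᵁ U) :=
    ⟨⟨genericPoint X, genericPoint_mem_preimage π U (genericPoint_mem U)⟩⟩
  have hU' : IsAffineOpen (π ⁻¹ᵁ U) := hU.preimage π
  exact finite_of_ringHom (Y.germToFunctionField U).hom (X.germToFunctionField (π ⁻¹ᵁ U)).hom
    (fieldMap π).hom (π.app U).hom
    (RingHom.ext (fun a => (fieldMap_germ π U (genericPoint_mem U) a).symm))
    (functionField_isFractionRing_of_isAffineOpen Y U hU)
    (functionField_isFractionRing_of_isAffineOpen X _ hU')
    (IsFinite.finite_app π U hU)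

lemma exists_norm_affine (hY : Pi1.IsNormalScheme Y) (U : Y.affineOpens) :
    ∃ N : Γ(X, π ⁻¹ᵁ U.1) →* Γ(Y, U.1),
      (∀ s (h : genericPoint Y ∈ U.1), Y.presheaf.germ U.1 (genericPoint Y) h (N s) =
        @Algebra.norm Y.functionField X.functionField _ _ (fieldMap π).hom.toAlgebra
          (X.presheaf.germ (π ⁻¹ᵁ U.1) (genericPoint X) (genericPoint_mem_preimage π U.1 h) s)) ∧
      (∀ s, s ∣ (π.app U.1).hom (N s)) ∧
      (∀ g, N ((π.app U.1).hom g) = g ^ @Module.finrank Y.functionField X.functionField _ _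
        (fieldMap π).hom.toAlgebra.toModule) := by
  by_cases hne : Nonempty U.1
  · haveI : Nonempty (π ⁻¹ᵁ U.1) :=
      ⟨⟨genericPoint X, genericPoint_mem_preimage π U.1 (genericPoint_mem U.1)⟩⟩
    haveI : IsDomain Γ(Y, U.1) := IsIntegral.component_integral U.1
    haveI : IsDomain Γ(X, π ⁻¹ᵁ U.1) := IsIntegral.component_integral _
    haveI : IsIntegrallyClosed Γ(Y, U.1) := isIntegrallyClosed_sections hY U.1 U.2
    obtain ⟨N, h1, h2, h3⟩ := exists_norm_of_ringHom (Y.germToFunctionField U.1).hom
      (X.germToFunctionField (π ⁻¹ᵁ U.1)).hom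
      (fieldMap π).hom (π.app U.1).hom
      (RingHom.ext (fun a => (fieldMap_germ π U.1 (genericPoint_mem U.1) a).symm))
      (functionField_isFractionRing_of_isAffineOpen Y U.1 U.2)
      (IsFinite.finite_app π U.1 U.2).to_isIntegral
      (finite_fieldMap π)
    exact ⟨N, fun s h => h1 s, h2, h3⟩
  · have hU : U.1 = ⊥ := by
      by_contra hU
      obtain ⟨x, hx⟩ := (Opens.ne_bot_iff_nonempty _).1 hU
      exact hne ⟨⟨x, hx⟩⟩
    have hU' : π ⁻¹ᵁ U.1 = ⊥ := by rw [hU]; rfl
    refine ⟨1, ?_, ?_, ?_⟩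
    · intro s h
      rw [hU] at h
      exact h.elim
    · intro s
      rw [section_eq_of_isEmpty _ hU' s 1]
      exact one_dvd _
    · intro g
      exact section_eq_of_isEmpty _ hU _ _

theorem exists_affNormData (hY : Pi1.IsNormalScheme Y) :
    ∃ d : ℕ, 1 ≤ d ∧ Nonempty (AffNormData π d) := by
  letI : Algebra Y.functionField X.functionField := (fieldMap π).hom.toAlgebra
  haveI : FiniteDimensional Y.functionField X.functionField := finite_fieldMap π
  refine ⟨Module.finrank Y.functionField X.functionField, Module.finrank_pos, ?_⟩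
  choose N hN1 hN2 hN3 using exists_norm_affine π hY
  refine ⟨{ norm := N, norm_res := ?_, norm_app := fun U g => hN3 U g, norm_mem := ?_ }⟩
  · intro U V h s
    by_cases hne : Nonempty V.1
    · have hV : genericPoint Y ∈ V.1 := genericPoint_mem V.1
      have hU : genericPoint Y ∈ U.1 := h hV
      apply germ_injective_of_isIntegral Y (genericPoint Y) hV
      have e1 := TopCat.Presheaf.germ_res_apply Y.presheaf (homOfLE h) (genericPoint Y) hV (N U s)
      have e2 := TopCat.Presheaf.germ_res_apply X.presheaf ((Opens.map π.base).map (homOfLE h))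
        (genericPoint X) (genericPoint_mem_preimage π V.1 hV) s
      refine e1.trans ?_
      rw [hN1 U s hU, hN1 V _ hV]
      exact congrArg _ e2.symm
    · have hV : V.1 = ⊥ := by
        by_contra hV
        obtain ⟨x, hx⟩ := (Opens.ne_bot_iff_nonempty _).1 hV
        exact hne ⟨⟨x, hx⟩⟩
      exact section_eq_of_isEmpty _ hV _ _
  · intro U s x hx hs
    obtain ⟨t, ht⟩ := hN2 U s
    have h1 : X.presheaf.germ (π ⁻¹ᵁ U.1) x hx ((π.app U.1).hom (N U s)) ∈
        IsLocalRing.maximalIdeal (X.presheaf.stalk x) := by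
      rw [ht, map_mul]; exact Ideal.mul_mem_right _ _ hs
    have h2 := Scheme.Hom.germ_stalkMap_apply π U.1 x hx (N U s)
    by_contra hcon
    have hu : IsUnit (Y.presheaf.germ U.1 (π.base x) hx (N U s)) := by
      by_contra hnu; exact hcon ((IsLocalRing.mem_maximalIdeal _).2 hnu)
    have hu' := hu.map (π.stalkMap x).hom
    rw [h2] at hu'
    exact (IsLocalRing.mem_maximalIdeal _).1 h1 hu'

theorem hasNorm_of_finite_surjective_normal (hY : Pi1.IsNormalScheme Y) :
    ∃ d : ℕ, Nrm.HasNorm π d := by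
  obtain ⟨d, hd, ⟨N⟩⟩ := exists_affNormData π hY
  exact ⟨d, ⟨toNormOfDegree N hd⟩⟩

end Main

end Groth.Agent.Lib.R2H4.NormNormal
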