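import Mathlib
import Groth.Prelude.Def_Pi1
import Groth.Agent.Lib.R2H4NormNormal
import Groth.Agent.Lib.Helper10CurveFin

set_option autoImplicit false
set_option linter.style.haveILetI false
universe u
open CategoryTheory CategoryTheory.Limits AlgebraicGeometry TopologicalSpace

namespace Groth.Agent.Lib.R2H4.BirIso

open Groth.Agent.Lib.R2H4.NormNormal Groth.Agent.Lib.R2H4.NormQAff

/-- An integral ring map which is birational onto an integrally closed domain is bijective. -/
theorem bijective_of_birational {A B K L : Type*} [CommRing A] [IsDomain A] [IsIntegrallyClosed A]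
    [Field K] [Field L] [CommRing B]
    (iA : A →+* K) (iB : B →+* L) (φ : K →+* L) (f : A →+* B) (hcomm : iB.comp f = φ.comp iA)
    (hA : @IsFractionRing A _ K _ iA.toAlgebra) (hiB : Function.Injective iB) (hf : f.IsIntegral)
    (hφ : Function.Surjective φ) : Function.Bijective f := by
  letI : Algebra A K := iA.toAlgebra
  haveI : IsFractionRing A K := hA
  have hiA : Function.Injective iA := IsFractionRing.injective A K
  constructor
  · have h1 : Function.Injective (iB.comp f) := by
      rw [hcomm]; exact φ.injective.comp hiA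
    exact Function.Injective.of_comp h1
  · intro b
    obtain ⟨k, hk⟩ := hφ (iB b)
    obtain ⟨p, hp, hpb⟩ := hf b
    have hint : IsIntegral A k := by
      refine ⟨p, hp, ?_⟩
      apply φ.injective
      rw [Polynomial.hom_eval₂, map_zero, hk]
      change Polynomial.eval₂ (φ.comp iA) (iB b) p = 0
      rw [← hcomm, ← Polynomial.hom_eval₂, hpb, map_zero]
    obtain ⟨a, ha⟩ := IsIntegrallyClosed.isIntegral_iff.mp hint
    refine ⟨a, hiB ?_⟩
    have h2 : iB (f a) = φ (iA a) := congrArg (fun g => g a) hcomm
    rw [h2, ← hk]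
    exact congrArg φ ha

set_option backward.isDefEq.respectTransparency false in
/-- An affine morphism inducing isomorphisms on sections over affine opens is an isomorphism. -/
theorem isIso_of_isAffineHom_of_isIso_app {X Y : Scheme.{u}} (f : X ⟶ Y) [IsAffineHom f]
    (h : ∀ U : Y.affineOpens, IsIso (f.app U.1)) : IsIso f := by
  refine HasAffineProperty.of_iSup_eq_top (P := MorphismProperty.isomorphisms Scheme)
    (fun U : Y.affineOpens => U) ?_ (fun U => ⟨?_, ?_⟩)
  · rw [eq_top_iff]
    intro y _
    obtain ⟨_, ⟨U, hU, rfl⟩, hyU, -⟩ := Y.isBasis_affineOpens.exists_subset_of_mem_open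
      (Set.mem_univ y) isOpen_univ
    exact Opens.mem_iSup.2 ⟨⟨U, hU⟩, hyU⟩
  · exact U.2.preimage f
  · simp only [Opens.map_top, morphismRestrict_app]
    have key : ∀ W : Y.Opens, W = U.1 → IsIso (f.app W) := by
      rintro W rfl
      exact h U
    refine IsIso.comp_isIso' (key _ U.1.ι_image_top) inferInstance

theorem isIso_of_finite_birational_normal {X Y : Scheme.{u}} (f : X ⟶ Y) [IsFinite f]
    [Surjective f] [IsIntegral X] [IsIntegral Y] (hY : Pi1.IsNormalScheme Y)
    (hdeg : IsIso (f.stalkMap (genericPoint X))) : IsIso f := by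
  haveI : IsIso (Y.presheaf.stalkSpecializes (specializes_of_eq (map_genericPoint f))) :=
    (Y.presheaf.stalkCongr (Inseparable.of_eq (map_genericPoint f).symm)).isIso_hom
  haveI : IsIso (fieldMap f) := by
    unfold fieldMap
    infer_instance
  have hφ : Function.Bijective (fieldMap f).hom := ConcreteCategory.bijective_of_isIso (fieldMap f)
  apply isIso_of_isAffineHom_of_isIso_app
  intro U
  rw [ConcreteCategory.isIso_iff_bijective]
  by_cases hne : Nonempty U.1
  · haveI : Nonempty (f ⁻¹ᵁ U.1) :=
      ⟨⟨genericPoint X, genericPoint_mem_preimage f U.1 (genericPoint_mem U.1)⟩⟩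
    haveI : IsDomain Γ(Y, U.1) := IsIntegral.component_integral U.1
    haveI : IsIntegrallyClosed Γ(Y, U.1) := isIntegrallyClosed_sections hY U.1 U.2
    exact bijective_of_birational (Y.germToFunctionField U.1).hom
      (X.germToFunctionField (f ⁻¹ᵁ U.1)).hom
      (fieldMap f).hom (f.app U.1).hom
      (RingHom.ext (fun a => (fieldMap_germ f U.1 (genericPoint_mem U.1) a).symm))
      (functionField_isFractionRing_of_isAffineOpen Y U.1 U.2)
      (X.germToFunctionField_injective (f ⁻¹ᵁ U.1))
      (IsFinite.finite_app f U.1 U.2).to_isIntegral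
      hφ.2
  · have hU : U.1 = ⊥ := by
      by_contra hU
      obtain ⟨x, hx⟩ := (Opens.ne_bot_iff_nonempty _).1 hU
      exact hne ⟨⟨x, hx⟩⟩
    have hU' : f ⁻¹ᵁ U.1 = ⊥ := by rw [hU]; rfl
    constructor
    · intro a b _
      exact section_eq_of_isEmpty _ hU a b
    · intro b
      exact ⟨0, section_eq_of_isEmpty _ hU' _ _⟩

end Groth.Agent.Lib.R2H4.BirIso
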