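/-
Proper birational morphisms to proper schemes of dimension at most one over a field (S1602, S1603): stalk/residue field isomorphism over the open, dim X' <= 1 via transcendence degrees, finiteness via Zariski main theorem, genus inequality, and isomorphism criterion when genera agree (X reduced, H^0 surjective).
-/
import Mathlib
import Groth.Prelude
import Groth.Agent.Lib.R2H1GenusLe
import Groth.Agent.Lib.Helper4VarDim9
import Groth.Agent.Lib.R2H4BirIso
import Groth.Agent.Lib.Helper27PnSections
import Groth.Agent.S5084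

set_option autoImplicit false
set_option linter.style.haveILetI false
set_option linter.unusedSectionVars false
universe u v

namespace Groth.Agent.Lib.R2H1.BirGenus

section Part1

open CategoryTheory CategoryTheory.Limits AlgebraicGeometry TopologicalSpace Opposite
open Groth.Agent.Lib.Helper4.VarDim

section Stalk

variable {X X' : Scheme.{u}} (f : X' ⟶ X) (U : X.Opens)

theorem isIso_stalkMap_of_isIso_restrict [IsIso (f ∣_ U)] (y : X') (hy : y ∈ f ⁻¹ᵁ U) :
    IsIso (f.stalkMap y) := by
  have e := morphismRestrictStalkMap f U ⟨y, hy⟩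
  have h : IsIso ((f ∣_ U).stalkMap ⟨y, hy⟩) := inferInstance
  exact ((MorphismProperty.isomorphisms _).arrow_mk_iso_iff e).mp h

theorem surjective_residueFieldMap (y : X') [IsIso (f.stalkMap y)] :
    Function.Surjective (f.residueFieldMap y).hom := by
  have h := Scheme.residue_residueFieldMap f y
  intro z
  obtain ⟨a, rfl⟩ : ∃ a, (X'.residue y).hom a = z := IsLocalRing.residue_surjective z
  obtain ⟨b, rfl⟩ := (ConcreteCategory.bijective_of_isIso (f.stalkMap y)).2 a
  exact ⟨(X.residue (f y)).hom b, ConcreteCategory.congr_hom h b⟩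

theorem injOn_preimage_of_isIso_restrict [IsIso (f ∣_ U)] (y y' : X') (hy : y ∈ f ⁻¹ᵁ U)
    (hy' : y' ∈ f ⁻¹ᵁ U) (h : f y = f y') : y = y' := by
  have hinj : Function.Injective (f ∣_ U) :=
    (ConcreteCategory.bijective_of_isIso ((Scheme.forgetToTop).map (f ∣_ U))).1
  have h1 : (f ∣_ U) ⟨y, hy⟩ = (f ∣_ U) ⟨y', hy'⟩ := by
    apply Subtype.ext
    rw [morphismRestrict_base_coe, morphismRestrict_base_coe]
    exact h
  exact congrArg Subtype.val (hinj h1)

end Stalk

section Dim

variable (k : Type u) [Field k] {X X' : Scheme.{u}} [X.Over (Spec (CommRingCat.of k))]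
  [X'.Over (Spec (CommRingCat.of k))]

attribute [local instance] sectionsAlgebra Curv2.resAlgebra

theorem trdegNat_le_of_surjective [LocallyOfFiniteType (X ↘ Spec (CommRingCat.of k))]
    [LocallyOfFiniteType (X' ↘ Spec (CommRingCat.of k))] (f : X' ⟶ X)
    (hf : f ≫ (X ↘ Spec (CommRingCat.of k)) = (X' ↘ Spec (CommRingCat.of k))) (y : X')
    (hs : Function.Surjective (f.residueFieldMap y).hom) :
    trdegNat k X' y ≤ trdegNat k X (f y) := by
  have h := trdeg_le_of_surjective (residueFieldAlgHom k f hf y) hs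
  rw [trdeg_eq_trdegNat k X (f y), trdeg_eq_trdegNat k X' y] at h
  exact_mod_cast h

end Dim

end Part1

section Part2

open CategoryTheory CategoryTheory.Limits AlgebraicGeometry TopologicalSpace Opposite
open Groth.Agent.Lib.Helper4.VarDim
open Groth.Agent.Lib.R2H1.GenusLe Groth.Agent.Lib.R2H1.CurveEuler Groth.Agent.Lib.R2H1.ZeroDimCoh

section Main

variable (k : Type u) [Field k] {X X' : Scheme.{u}} [X.Over (Spec (CommRingCat.of k))]
  [X'.Over (Spec (CommRingCat.of k))] [IsProper (X ↘ Spec (CommRingCat.of k))]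

/-- a dense open of a Noetherian space contains the generic points of irreducible components -/
theorem mem_of_dense_of_component {T : Type*} [TopologicalSpace T] [NoetherianSpace T]
    (O : Opens T) (hO : Dense (O : Set T)) (η : T)
    (hη : closure ({η} : Set T) ∈ irreducibleComponents T) : η ∈ O := by
  obtain ⟨o, ho, hne, hsub⟩ :=
    NoetherianSpace.exists_isOpen_nonempty_subset_irreducibleComponent _ hη
  obtain ⟨z, hzo, hzU⟩ := hO.inter_open_nonempty o ho hne
  have hsp : η ⤳ z := specializes_iff_mem_closure.mpr (hsub hzo)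
  exact hsp.mem_open O.isOpen hzU

theorem isProper_of_comp (f : X' ⟶ X) [IsProper f]
    (hf : f ≫ (X ↘ (Spec (CommRingCat.of k))) = X' ↘ (Spec (CommRingCat.of k))) :
    IsProper (X' ↘ Spec (CommRingCat.of k)) := by
  rw [← hf]
  infer_instance

theorem dim_le_one_of_birational (hdim : topologicalKrullDim X ≤ 1) (f : X' ⟶ X) [IsProper f]
    (hf : f ≫ (X ↘ (Spec (CommRingCat.of k))) = X' ↘ (Spec (CommRingCat.of k)))
    (U : X.Opens) (hU' : Dense ((f ⁻¹ᵁ U : X'.Opens) : Set X')) [IsIso (f ∣_ U)] :
    topologicalKrullDim X' ≤ 1 := by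
  haveI := isProper_of_comp k f hf
  haveI := isNoetherian_of_proper k X'
  by_cases hne : Nonempty X'
  · obtain ⟨η, hη, hdimη⟩ := exists_trdegNat_eq_topologicalKrullDim k X'
    have hηU : η ∈ f ⁻¹ᵁ U := mem_of_dense_of_component (f ⁻¹ᵁ U) hU' η hη
    haveI := isIso_stalkMap_of_isIso_restrict f U η hηU
    have h1 := trdegNat_le_of_surjective k f hf η (surjective_residueFieldMap f η)
    have h2 := trdegNat_le_topologicalKrullDim k X (f η)
    rw [hdimη]
    refine le_trans ?_ (h2.trans hdim)
    exact_mod_cast h1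
  · haveI : IsEmpty X' := not_nonempty_iff.mp hne
    rw [topologicalKrullDim_eq_bot_of_isEmpty]
    exact bot_le

theorem isFinite_of_birational (hdim : topologicalKrullDim X ≤ 1) (f : X' ⟶ X) [IsProper f]
    (hf : f ≫ (X ↘ (Spec (CommRingCat.of k))) = X' ↘ (Spec (CommRingCat.of k)))
    (U : X.Opens) (hU' : Dense ((f ⁻¹ᵁ U : X'.Opens) : Set X')) [IsIso (f ∣_ U)] :
    IsFinite f := by
  haveI := isProper_of_comp k f hf
  haveI := isNoetherian_of_proper k X'
  have hdim' := dim_le_one_of_birational k hdim f hf U hU'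
  have hZ := dim_compl_le_zero_of_dense X' hdim' (f ⁻¹ᵁ U) hU'
  haveI : Finite ↥(((f ⁻¹ᵁ U : X'.Opens) : Set X')ᶜ) := finite_of_dim_le_zero hZ
  have hZfin : (((f ⁻¹ᵁ U : X'.Opens) : Set X')ᶜ).Finite := Set.toFinite _
  haveI : LocallyQuasiFinite f := by
    rw [locallyQuasiFinite_iff_finite_preimage_singleton]
    intro x
    by_cases hx : x ∈ U
    · refine Set.Subsingleton.finite ?_
      intro y hy y' hy'
      have e1 : f y = x := hy
      have e2 : f y' = x := hy'
      exact injOn_preimage_of_isIso_restrict f U y y' (by change f y ∈ U; rw [e1]; exact hx)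
        (by change f y' ∈ U; rw [e2]; exact hx) (e1.trans e2.symm)
    · refine hZfin.subset ?_
      intro y hy hyU
      have e1 : f y = x := hy
      exact hx (e1 ▸ hyU)
  exact IsFinite.of_isProper_of_locallyQuasiFinite f

theorem genus_le_of_birational (hdim : topologicalKrullDim X ≤ 1) (f : X' ⟶ X) [IsProper f]
    (hf : f ≫ (X ↘ (Spec (CommRingCat.of k))) = X' ↘ (Spec (CommRingCat.of k)))
    (U : X.Opens) (hU : Dense (U : Set X)) (hU' : Dense ((f ⁻¹ᵁ U : X'.Opens) : Set X'))
    (hfU : IsIso (f ∣_ U)) :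
    Curv2.genus k X' ≤ Curv2.genus k X := by
  haveI := isFinite_of_birational k hdim f hf U hU'
  exact genus_le k hdim f hf U hU inferInstance

end Main

end Part2

section Part3

open CategoryTheory CategoryTheory.Limits AlgebraicGeometry TopologicalSpace Opposite

open Groth.Agent.Lib.R2H1.GenusLe Groth.Agent.Lib.R2H1.CurveEuler Groth.Agent.Lib.R2H1.ZeroDimCoh
open Groth.Agent.Lib.R2H2.HHLin Groth.Agent.Lib.R2H1.EulerAdd Groth.Agent.Lib.R2H1.FinrankChain
  Groth.Agent.Lib.R2H2.ProjOverPush

section Sect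

variable {X X' : Scheme.{u}} (f : X' ⟶ X) (U : X.Opens)

theorem bijective_app_of_isIso_restrict [IsIso (f ∣_ U)] (W : (U : Scheme.{u}).Opens) :
    Function.Bijective (f.app (U.ι ''ᵁ W)) := by
  have h2 := morphismRestrict_app f U W
  have h1 : Function.Bijective ((f ∣_ U).app W) := ConcreteCategory.bijective_of_isIso _
  have hiso : Function.Bijective
      (X'.presheaf.map (eqToHom (image_morphismRestrict_preimage f U W)).op) :=
    ConcreteCategory.bijective_of_isIso _
  rw [h2] at h1
  have h3 : Function.Bijective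
      ((X'.presheaf.map (eqToHom (image_morphismRestrict_preimage f U W)).op) ∘
        (f.app (U.ι ''ᵁ W))) := by
    exact h1
  exact (Function.Bijective.of_comp_iff' hiso _).mp h3

theorem injective_app_of_reduced [IsReduced X] (hU : Dense (U : Set X)) [IsIso (f ∣_ U)]
    (V : X.Opens) : Function.Injective (f.app V) := by
  rw [injective_iff_map_eq_zero]
  intro a ha
  rw [← basicOpen_eq_bot_iff]
  by_contra hne
  obtain ⟨x, hx⟩ := (Opens.ne_bot_iff_nonempty _).1 hne
  obtain ⟨z, hza, hzU⟩ := hU.inter_open_nonempty _ (X.basicOpen a).isOpen ⟨x, hx⟩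
  have hzV : z ∈ V := X.basicOpen_le a hza
  set W : (U : Scheme.{u}).Opens := U.ι ⁻¹ᵁ V with hW
  have hV' : U.ι ''ᵁ W ≤ V := by
    rw [hW, Scheme.Hom.image_preimage_eq_opensRange_inf]
    exact inf_le_right
  have hzV' : z ∈ U.ι ''ᵁ W := by
    rw [hW, Scheme.Hom.image_preimage_eq_opensRange_inf, Scheme.Opens.opensRange_ι]
    exact ⟨hzU, hzV⟩
  have hnat := f.naturality (homOfLE hV').op
  have h0 : f.app (U.ι ''ᵁ W) (X.presheaf.map (homOfLE hV').op a) = 0 := by
    have := ConcreteCategory.congr_hom hnat a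
    simp only [CommRingCat.comp_apply] at this
    rw [this, ha, map_zero]
  have h1 : X.presheaf.map (homOfLE hV').op a = 0 :=
    (injective_iff_map_eq_zero _).mp (bijective_app_of_isIso_restrict f U W).1 _ h0
  have h2 : z ∈ X.basicOpen (X.presheaf.map (homOfLE hV').op a) := by
    rw [Scheme.basicOpen_res]
    exact ⟨hzV', hza⟩
  rw [h1, Scheme.basicOpen_zero] at h2
  exact h2

end Sect

section H0

variable {X : Scheme.{u}}

theorem surjective_HmapL_zero {M N : X.Modules} (φ : M ⟶ N)
    (h : Function.Surjective (φ.app ⊤)) : Function.Surjective (HmapL φ 0) := by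
  intro y
  obtain ⟨s, hs⟩ := h (Groth.Agent.Lib.Helper27PnSections.hh0Equiv X N y)
  refine ⟨(Groth.Agent.Lib.Helper27PnSections.hh0Equiv X M).symm s, ?_⟩
  rw [HmapL_apply]
  have := Sheaf.H.equiv₀_symm_naturality Limits.isTerminalTop (abMap φ) s
  refine this.trans ?_
  apply (Groth.Agent.Lib.Helper27PnSections.hh0Equiv X N).injective
  refine (AddEquiv.apply_symm_apply _ _).trans ?_
  exact hs

end H0

end Part3

section Part4

open CategoryTheory CategoryTheory.Limits AlgebraicGeometry TopologicalSpace Opposite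

open Groth.Agent.Lib.R2H1.GenusLe Groth.Agent.Lib.R2H1.CurveEuler Groth.Agent.Lib.R2H1.ZeroDimCoh
open Groth.Agent.Lib.R2H2.HHLin Groth.Agent.Lib.R2H1.EulerAdd Groth.Agent.Lib.R2H1.FinrankChain
  Groth.Agent.Lib.R2H2.ProjOverPush

section Main

variable (k : Type u) [Field k] {X X' : Scheme.{u}} [X.Over (Spec (CommRingCat.of k))]
  [X'.Over (Spec (CommRingCat.of k))] [IsProper (X ↘ Spec (CommRingCat.of k))]

theorem isIso_of_birational_genus_eq [IsReduced X] (hdim : topologicalKrullDim X ≤ 1)
    (f : X' ⟶ X) [IsProper f]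
    (hf : f ≫ (X ↘ (Spec (CommRingCat.of k))) = X' ↘ (Spec (CommRingCat.of k)))
    (U : X.Opens) (hU : Dense (U : Set X)) (hU' : Dense ((f ⁻¹ᵁ U : X'.Opens) : Set X'))
    (hfU : IsIso (f ∣_ U))
    (h0 : Function.Surjective (f.app ⊤).hom) (h1 : Curv2.genus k X' = Curv2.genus k X) :
    IsIso f := by
  haveI := isNoetherian_of_proper k X
  haveI := isFinite_of_birational k hdim f hf U hU'
  haveI : CompactSpace X :=
    QuasiCompact.compactSpace_of_compactSpace (X ↘ Spec (CommRingCat.of k))
  obtain ⟨ι, hfin, V, hcov, hVa, hV⟩ :=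
    Groth.Agent.Lib.R2H2.ProperFin.exists_affine_cover_of_isSeparated
      (X ↘ Spec (CommRingCat.of k))
  have hOY := isCoh_structureModule X'
  obtain ⟨e⟩ := Groth.Agent.Lib.R2H2.AffPushLin.exists_push_linear f V k hf hcov hV
    (Coh.structureModule X') hOY.1 1
  have hA : Coh.IsCoh ((Scheme.Modules.pushforward f).obj (Coh.structureModule X')) :=
    Groth.Agent.S0019.result f _ hOY
  have hO := isCoh_structureModule X
  haveI : Mono (strToPush f) := Groth.Agent.S5084.mono_of_injective_app (strToPush f)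
    (fun W => injective_app_of_reduced f U hU W)
  -- the cokernel is flasque
  have hZ := dim_compl_le_zero_of_dense X hdim U hU
  have hZc : IsClosed ((U : Set X)ᶜ) := U.isOpen.isClosed_compl
  have hsub : ∀ C : Set X, C ⊆ (U : Set X)ᶜ → IsClosed C := fun C hC =>
    isClosed_of_subset_of_dim_le_zero _ hZc hZ C hC
  have hmem : ∀ x : X, x ∉ (U : Set X)ᶜ → x ∈ U := fun x hx => not_not.mp hx
  haveI flC : TopCat.Sheaf.IsFlasque (Coh.toAb (cokernel (strToPush f))) :=
    isFlasque_of_support (X := X.toTopCat) (Coh.toAb (cokernel (strToPush f))) _ hsub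
      (fun x hx => stalk_cokernel_strToPush f U x (hmem x hx))
  haveI HC : Subsingleton (Coh.HH X (cokernel (strToPush f)) 1) :=
    Groth.Agent.Lib.Helper16.Flasque.H_subsingleton (X := X.toTopCat)
      (Coh.toAb (cokernel (strToPush f))) 0
  -- the short exact sequence
  let S : ShortComplex X.Modules :=
    ShortComplex.mk (strToPush f) (cokernel.π (strToPush f)) (cokernel.condition _)
  have hS : S.ShortExact :=
    { exact := ShortComplex.exact_cokernel (strToPush f)
      mono_f := inferInstanceAs (Mono (strToPush f))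
      epi_g := inferInstanceAs (Epi (cokernel.π (strToPush f))) }
  have ha : Function.Surjective (HmapA k S.f 0) :=
    surjective_HmapL_zero (strToPush f) h0
  have hg0 : ∀ y, HmapA k S.g 0 y = 0 := fun y => by
    obtain ⟨x, rfl⟩ := ha y
    exact (exact_fg k S hS 0).apply_apply_eq_zero x
  have hδinj : Function.Injective (deltaA k S hS 0) := by
    rw [injective_iff_map_eq_zero]
    intro z hz
    obtain ⟨y, rfl⟩ := (exact_gd k S hS 0 z).mp hz
    exact hg0 y
  have hf1 : Function.Surjective (HmapA k S.f 1) := fun y =>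
    (exact_fg k S hS 1 y).mp (@Subsingleton.elim _ HC _ _)
  haveI := finite_HH k X S.X₁ hO 1
  haveI := finite_HH k X S.X₂ hA 1
  have hrank : Module.finrank k (Coh.HH X S.X₁ 1) = Module.finrank k (Coh.HH X S.X₂ 1) := by
    have e1 : Curv2.genus k X' = Module.finrank k (Coh.HH X S.X₂ 1) := e.finrank_eq
    have e2 : Curv2.genus k X = Module.finrank k (Coh.HH X S.X₁ 1) := rfl
    rw [← e1, ← e2, h1]
  have hf1inj : Function.Injective (HmapA k S.f 1) :=
    (LinearMap.injective_iff_surjective_of_finrank_eq_finrank hrank).mpr hf1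
  have hδ0 : ∀ z, deltaA k S hS 0 z = 0 := fun z =>
    hf1inj (by rw [map_zero]; exact (exact_df k S hS 0).apply_apply_eq_zero z)
  haveI H0C : Subsingleton (Coh.HH X (cokernel (strToPush f)) 0) :=
    ⟨fun a b => hδinj ((hδ0 a).trans (hδ0 b).symm)⟩
  haveI Htop : Subsingleton ((Coh.toAb (cokernel (strToPush f))).obj.obj (op (⊤ : Opens X))) :=
    (Groth.Agent.Lib.Helper27PnSections.hh0Equiv X (cokernel (strToPush f))).symm.toEquiv.subsingleton
  have hsec : ∀ W : X.Opens, Subsingleton ((Coh.toAb (cokernel (strToPush f))).obj.obj (op W)) := by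
    intro W
    have hepi := flC.epi (homOfLE (le_top : W ≤ ⊤)).op
    rw [AddCommGrpCat.epi_iff_surjective] at hepi
    refine ⟨fun a b => ?_⟩
    obtain ⟨a', rfl⟩ := hepi a
    obtain ⟨b', rfl⟩ := hepi b
    rw [Subsingleton.elim a' b']
  haveI : Epi (strToPush f) := by
    apply Abelian.epi_of_cokernel_π_eq_zero
    apply Scheme.Modules.hom_ext
    intro W
    ext s
    exact @Subsingleton.elim _ (hsec W) _ _
  haveI : IsIso (strToPush f) := isIso_of_mono_of_epi _
  apply Groth.Agent.Lib.R2H4.BirIso.isIso_of_isAffineHom_of_isIso_app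
  intro W
  have h3 := Scheme.Modules.Hom.isIso_iff_isIso_app.mp (inferInstance : IsIso (strToPush f)) W.1
  rw [ConcreteCategory.isIso_iff_bijective] at h3 ⊢
  exact h3

end Main

end Part4

end Groth.Agent.Lib.R2H1.BirGenus
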