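import Mathlib
import Groth.Prelude
import Groth.Agent.Lib.Helper21LocFact1
import Groth.Agent.Lib.Helper1PT4
import Groth.Agent.Lib.Helper23PB
import Groth.Agent.Lib.Helper21ModTensor7
import Groth.Agent.Lib.R2H3RpushRestrict
import Groth.Agent.Lib.Helper21Dual8
import Groth.Agent.Lib.Helper23ModLocal
import Groth.Agent.Lib.Helper21Dual12
import Groth.Agent.Lib.Helper21Dual9
import Groth.Agent.Lib.Helper21DerPost
import Groth.Agent.Lib.Helper23DerComp
import Groth.Agent.Lib.R2H2PullLF
set_option backward.isDefEq.respectTransparency.types false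

/-!
# The projection formula for finite locally free modules (helper1, round 2)

Namespace `Groth.Agent.Lib.R2H1.ProjLF`.

* `isIso_app_of_ff`, `isIso_app_iff_of_isIso_map` : abstract lemmas on natural transformations of additive functors.
* `prj f E G : E ⊗ f_* G ⟶ f_* (f^* E ⊗ G)` (adjunct of `delta ≫ (id ⊗ counit)`), natural in both variables.
* `isIso_prj_unit` : iso for `E = O_Y`; `isIso_prj` : iso for `E` finite locally free (any morphism `f`, any `G`).
* `isIso_restrict_tensor_left`, `isIso_restrict_psh`, `isIso_restrict_plb`, `plbRestrictIso` : local isomorphisms are preserved.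
* `prjIso f E hE : f_* ⋙ (E ⊗ -) ≅ (f^* E ⊗ -) ⋙ f_*`.
* `nonempty_projection_iso` : `E ⊗ R^q f_* F ≅ R^q f_* (f^* E ⊗ F)` (= S0927).
-/

set_option autoImplicit false
set_option linter.style.haveILetI false
set_option linter.unusedSectionVars false
universe u v u' v' w

open CategoryTheory CategoryTheory.Limits AlgebraicGeometry TopologicalSpace Opposite

namespace Groth.Agent.Lib.R2H1.ProjLF

section Part1

open Groth.Agent.Lib.Helper21.LocFact

variable {A : Type u} [Category.{v} A] [Preadditive A]
  {B : Type u'} [Category.{v'} B] [Preadditive B]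

/-- a natural transformation between additive functors which is an isomorphism at `U` is an
isomorphism at every finite free object over `U`. -/
theorem isIso_app_of_ff {Φ Ψ : A ⥤ B} [Φ.Additive] [Ψ.Additive] (ν : Φ ⟶ Ψ)
    {U Q : A} {I : Type w} [Fintype I] (ff : FF U Q I) (h : IsIso (ν.app U)) :
    IsIso (ν.app Q) := by
  refine ⟨∑ i, Ψ.map (ff.π i) ≫ inv (ν.app U) ≫ Φ.map (ff.ι i), ?_, ?_⟩
  · rw [Preadditive.comp_sum]
    have h1 : ∀ i ∈ (Finset.univ : Finset I),
        ν.app Q ≫ Ψ.map (ff.π i) ≫ inv (ν.app U) ≫ Φ.map (ff.ι i) =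
          Φ.map (ff.π i ≫ ff.ι i) := by
      intro i _
      rw [← Category.assoc, ← ν.naturality, Category.assoc, IsIso.hom_inv_id_assoc,
        ← Functor.map_comp]
    rw [Finset.sum_congr rfl h1, ← Functor.map_sum, ff.sum, CategoryTheory.Functor.map_id]
  · rw [Preadditive.sum_comp]
    have h1 : ∀ i ∈ (Finset.univ : Finset I),
        (Ψ.map (ff.π i) ≫ inv (ν.app U) ≫ Φ.map (ff.ι i)) ≫ ν.app Q =
          Ψ.map (ff.π i ≫ ff.ι i) := by
      intro i _
      rw [Category.assoc, Category.assoc, ν.naturality, IsIso.inv_hom_id_assoc,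
        ← Functor.map_comp]
    rw [Finset.sum_congr rfl h1, ← Functor.map_sum, ff.sum, CategoryTheory.Functor.map_id]

/-- two out of three for a naturality square. -/
theorem isIso_app_iff_of_isIso_map {C : Type*} [Category C] {D : Type*} [Category D]
    {Φ Ψ : C ⥤ D} (ν : Φ ⟶ Ψ) {P Q : C} (s : P ⟶ Q) (h1 : IsIso (Φ.map s))
    (h2 : IsIso (Ψ.map s)) : IsIso (ν.app P) ↔ IsIso (ν.app Q) := by
  have hn := ν.naturality s
  constructor
  · intro h
    have : ν.app Q = inv (Φ.map s) ≫ ν.app P ≫ Ψ.map s := by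
      rw [← hn, IsIso.inv_hom_id_assoc]
    rw [this]; infer_instance
  · intro h
    have : ν.app P = Φ.map s ≫ ν.app Q ≫ inv (Ψ.map s) := by
      rw [← Category.assoc, hn, Category.assoc, IsIso.hom_inv_id, Category.comp_id]
    rw [this]; infer_instance

end Part1

section Part2

open Groth.Agent.Lib.Helper1.PT

variable {X Y : Scheme.{u}} (f : X ⟶ Y)

/-- the projection morphism `E ⊗ f_* G ⟶ f_* (f^* E ⊗ G)`. -/
noncomputable def prj (E : Y.Modules) (G : X.Modules) :
    (DCoh.tensorBi.obj E).obj ((psh f).obj G) ⟶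
      (psh f).obj ((DCoh.tensorBi.obj ((plb f).obj E)).obj G) :=
  (ppAdj f).homEquiv _ _
    (delta f E ((psh f).obj G) ≫
      (DCoh.tensorBi.obj ((plb f).obj E)).map ((ppAdj f).counit.app G))

theorem prj_naturality_right (E : Y.Modules) {G G' : X.Modules} (g : G ⟶ G') :
    (DCoh.tensorBi.obj E).map ((psh f).map g) ≫ prj f E G' =
      prj f E G ≫ (psh f).map ((DCoh.tensorBi.obj ((plb f).obj E)).map g) := by
  unfold prj
  rw [← Adjunction.homEquiv_naturality_left, ← Adjunction.homEquiv_naturality_right]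
  congr 1
  rw [← Category.assoc, delta_naturality_right, Category.assoc, Category.assoc,
    ← Functor.map_comp, ← Functor.map_comp]
  congr 2
  exact (ppAdj f).counit.naturality g

theorem prj_naturality_left {E E' : Y.Modules} (s : E ⟶ E') (G : X.Modules) :
    (DCoh.tensorBi.map s).app ((psh f).obj G) ≫ prj f E' G =
      prj f E G ≫ (psh f).map ((DCoh.tensorBi.map ((plb f).map s)).app G) := by
  unfold prj
  rw [← Adjunction.homEquiv_naturality_left, ← Adjunction.homEquiv_naturality_right]
  congr 1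
  rw [← Category.assoc, delta_naturality_left, Category.assoc, Category.assoc]
  congr 1
  exact ((DCoh.tensorBi.map ((plb f).map s)).naturality ((ppAdj f).counit.app G)).symm

end Part2

section Part3

open Groth.Agent.Lib.Helper1.PT

variable {X Y : Scheme.{u}} (f : X ⟶ Y)

/-- the left unitor -/
noncomputable def lam (Z : Scheme.{u}) :
    (DCoh.tensorBi (X := Z)).obj (Coh.structureModule Z) ≅ 𝟭 Z.Modules :=
  Groth.Agent.Lib.Helper21.ModTensor7.tLUnitIso Z.sheaf

/-- `f^* O_Y ≅ O_X` -/
noncomputable abbrev uI : (plb f).obj (Coh.structureModule Y) ≅ Coh.structureModule X :=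
  Groth.Agent.Lib.Helper23.PB.pullbackUnitIso f

/-- an auxiliary automorphism of the pullback functor -/
noncomputable def kap : plb f ≅ plb f :=
  (Functor.leftUnitor _).symm ≪≫ Functor.isoWhiskerRight (lam Y).symm (plb f) ≪≫
    (pullTensorIso f).app (Coh.structureModule Y) ≪≫
    Functor.isoWhiskerLeft (plb f) (DCoh.tensorBi.mapIso (uI f) ≪≫ lam X) ≪≫
    Functor.rightUnitor _

theorem kap_hom_app (B : Y.Modules) :
    (kap f).hom.app B = (plb f).map ((lam Y).inv.app B) ≫ delta f (Coh.structureModule Y) B ≫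
      (DCoh.tensorBi.map (uI f).hom).app ((plb f).obj B) ≫ (lam X).hom.app ((plb f).obj B) := by
  simp [kap, pullTensorIso]


theorem prj_unit_eq (G : X.Modules) :
    prj f (Coh.structureModule Y) G =
      (lam Y).hom.app ((psh f).obj G) ≫
        (conjugateEquiv (ppAdj f) (ppAdj f) (kap f).hom).app G ≫
        (psh f).map ((lam X).inv.app G ≫ (DCoh.tensorBi.map (uI f).inv).app G) := by
  set r : G ⟶ (DCoh.tensorBi.obj ((plb f).obj (Coh.structureModule Y))).obj G :=
    (lam X).inv.app G ≫ (DCoh.tensorBi.map (uI f).inv).app G with hr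
  have h1 : (conjugateEquiv (ppAdj f) (ppAdj f) (kap f).hom).app G =
      (ppAdj f).homEquiv ((psh f).obj G) G
        ((kap f).hom.app ((psh f).obj G) ≫ (ppAdj f).counit.app G) := by
    rw [conjugateEquiv_apply_app, Adjunction.homEquiv_unit, Functor.map_comp]
  have h2 : ∀ {A : Y.Modules} {G' : X.Modules} (a : A ⟶ (psh f).obj G)
      (m : (plb f).obj ((psh f).obj G) ⟶ G) (r : G ⟶ G'),
      a ≫ (ppAdj f).homEquiv ((psh f).obj G) G m ≫ (psh f).map r =
        (ppAdj f).homEquiv _ _ ((plb f).map a ≫ m ≫ r) := by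
    intro A G' a m r
    rw [Adjunction.homEquiv_naturality_left, Adjunction.homEquiv_naturality_right]
  rw [h1]
  refine Eq.trans ?_ (h2 _ _ _).symm
  unfold prj
  congr 1
  rw [kap_hom_app, hr]
  simp only [Category.assoc]
  rw [← Functor.map_comp_assoc, Iso.hom_inv_id_app, CategoryTheory.Functor.map_id,
    Category.id_comp]
  congr 1
  have e1 : (lam X).hom.app ((plb f).obj ((psh f).obj G)) ≫ (ppAdj f).counit.app G =
      (DCoh.tensorBi.obj (Coh.structureModule X)).map ((ppAdj f).counit.app G) ≫
        (lam X).hom.app G := ((lam X).hom.naturality ((ppAdj f).counit.app G)).symm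
  rw [reassoc_of% e1, Iso.hom_inv_id_app_assoc]
  have e2 := (DCoh.tensorBi.map (uI f).hom).naturality ((ppAdj f).counit.app G)
  rw [← reassoc_of% e2, ← NatTrans.comp_app, ← Functor.map_comp, Iso.hom_inv_id,
    CategoryTheory.Functor.map_id, NatTrans.id_app, Category.comp_id]

theorem isIso_prj_unit (G : X.Modules) : IsIso (prj f (Coh.structureModule Y) G) := by
  rw [prj_unit_eq]
  infer_instance

end Part3

section Part4

open Groth.Agent.Lib.Helper1.PT

/-- tensoring preserves morphisms that become isomorphisms after pullback. -/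
theorem isIso_plb_tensor_left {Z U : Scheme.{u}} (j : U ⟶ Z) {E E' : Z.Modules} (s : E ⟶ E')
    (B : Z.Modules) (h : IsIso ((plb j).map s)) :
    IsIso ((plb j).map ((DCoh.tensorBi.map s).app B)) := by
  have h1 := delta_naturality_left j s B
  haveI := isIso_delta j E B
  haveI := isIso_delta j E' B
  haveI : IsIso ((DCoh.tensorBi.map ((plb j).map s)).app ((plb j).obj B)) := inferInstance
  have h2 : (plb j).map ((DCoh.tensorBi.map s).app B) =
      delta j E B ≫ (DCoh.tensorBi.map ((plb j).map s)).app ((plb j).obj B) ≫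
        inv (delta j E' B) := by
    rw [← Category.assoc, ← h1, Category.assoc, IsIso.hom_inv_id, Category.comp_id]
  rw [h2]
  infer_instance

/-- tensoring preserves morphisms that become isomorphisms after restriction to an open. -/
theorem isIso_restrict_tensor_left {Z U : Scheme.{u}} (j : U ⟶ Z) [IsOpenImmersion j]
    {E E' : Z.Modules} (s : E ⟶ E')
    (B : Z.Modules) (h : IsIso ((Scheme.Modules.restrictFunctor j).map s)) :
    IsIso ((Scheme.Modules.restrictFunctor j).map ((DCoh.tensorBi.map s).app B)) := by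
  rw [NatIso.isIso_map_iff (Scheme.Modules.restrictFunctorIsoPullback j)] at h ⊢
  exact isIso_plb_tensor_left j s B h

variable {X Y : Scheme.{u}} (f : X ⟶ Y) (V : Y.Opens)

theorem isIso_restrict_psh {G G' : X.Modules} (t : G ⟶ G')
    (h : IsIso ((Scheme.Modules.restrictFunctor (f ⁻¹ᵁ V).ι).map t)) :
    IsIso ((Scheme.Modules.restrictFunctor V.ι).map ((psh f).map t)) := by
  have h1 := NatIso.isIso_map_iff (Groth.Agent.Lib.R2H3.RpushRestrict.restrictPushIso f V) t
  have h2 : IsIso ((Scheme.Modules.restrictFunctor (f ⁻¹ᵁ V).ι ⋙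
      Scheme.Modules.pushforward (f ∣_ V)).map t) := by
    rw [Functor.comp_map]; infer_instance
  exact h1.2 h2

/-- `f^* ⋙ (-)|_{f⁻¹V} ≅ (-)|_V ⋙ (f|_V)^*` -/
noncomputable def plbRestrictIso :
    plb f ⋙ Scheme.Modules.restrictFunctor (f ⁻¹ᵁ V).ι ≅
      Scheme.Modules.restrictFunctor V.ι ⋙ plb (f ∣_ V) :=
  Functor.isoWhiskerLeft _ (Scheme.Modules.restrictFunctorIsoPullback (f ⁻¹ᵁ V).ι) ≪≫
    Scheme.Modules.pullbackComp (f ⁻¹ᵁ V).ι f ≪≫
    Scheme.Modules.pullbackCongr (morphismRestrict_ι f V).symm ≪≫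
    (Scheme.Modules.pullbackComp (f ∣_ V) V.ι).symm ≪≫
    Functor.isoWhiskerRight (Scheme.Modules.restrictFunctorIsoPullback V.ι).symm _

theorem isIso_restrict_plb {E E' : Y.Modules} (s : E ⟶ E')
    (h : IsIso ((Scheme.Modules.restrictFunctor V.ι).map s)) :
    IsIso ((Scheme.Modules.restrictFunctor (f ⁻¹ᵁ V).ι).map ((plb f).map s)) := by
  have h1 := NatIso.isIso_map_iff (plbRestrictIso f V) s
  have h2 : IsIso ((Scheme.Modules.restrictFunctor V.ι ⋙ plb (f ∣_ V)).map s) := by
    rw [Functor.comp_map]; infer_instance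
  exact h1.2 h2

end Part4

section Part5

open Groth.Agent.Lib.Helper1.PT Groth.Agent.Lib.Helper21.LocFact
  Groth.Agent.Lib.Helper21.Dual

variable {X Y : Scheme.{u}} (f : X ⟶ Y)

/-- `E ↦ E ⊗ f_* G` -/
noncomputable abbrev PhiF (G : X.Modules) : Y.Modules ⥤ Y.Modules :=
  DCoh.tensorBi.flip.obj ((psh f).obj G)

/-- `E ↦ f_* (f^* E ⊗ G)` -/
noncomputable abbrev PsiF (G : X.Modules) : Y.Modules ⥤ Y.Modules :=
  plb f ⋙ DCoh.tensorBi.flip.obj G ⋙ psh f

/-- the projection morphism as a natural transformation in `E` -/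
noncomputable def prjE (G : X.Modules) : PhiF f G ⟶ PsiF f G where
  app E := prj f E G
  naturality {E E'} s := prj_naturality_left f s G

instance (Z : Scheme.{u}) (B : Z.Modules) : (DCoh.tensorBi.flip.obj B).Additive :=
  Groth.Agent.Lib.Helper21.ModTensor5.tR_additive Z.sheaf B

instance {Z U : Scheme.{u}} (j : U ⟶ Z) [IsOpenImmersion j] :
    (Scheme.Modules.restrictFunctor j).Additive :=
  Functor.additive_of_preserves_binary_products _


variable (V : Y.Opens)

/-- the unit `E ⟶ j_* (E|_V)` becomes an isomorphism after restriction to `V`. -/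
theorem isIso_restrict_unit (E : Y.Modules) :
    IsIso ((Scheme.Modules.restrictFunctor V.ι).map
      ((Scheme.Modules.restrictAdjunction V.ι).unit.app E)) := by
  have h := (Scheme.Modules.restrictAdjunction V.ι).left_triangle_components E
  haveI : IsIso ((Scheme.Modules.restrictAdjunction V.ι).counit.app
      ((Scheme.Modules.restrictFunctor V.ι).obj E)) := inferInstance
  haveI : IsIso ((Scheme.Modules.restrictFunctor V.ι).map
      ((Scheme.Modules.restrictAdjunction V.ι).unit.app E) ≫
      (Scheme.Modules.restrictAdjunction V.ι).counit.app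
        ((Scheme.Modules.restrictFunctor V.ι).obj E)) := by rw [h]; infer_instance
  exact IsIso.of_isIso_comp_right _ ((Scheme.Modules.restrictAdjunction V.ι).counit.app
      ((Scheme.Modules.restrictFunctor V.ι).obj E))


/-- the restricted projection transformation -/
noncomputable abbrev prjR (G : X.Modules) :
    PhiF f G ⋙ Scheme.Modules.restrictFunctor V.ι ⟶
      PsiF f G ⋙ Scheme.Modules.restrictFunctor V.ι :=
  Functor.whiskerRight (prjE f G) (Scheme.Modules.restrictFunctor V.ι)

theorem isIso_prjR_iff (G : X.Modules) {A B : Y.Modules} (s : A ⟶ B)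
    (h : IsIso ((Scheme.Modules.restrictFunctor V.ι).map s)) :
    IsIso ((prjR f V G).app A) ↔ IsIso ((prjR f V G).app B) := by
  apply isIso_app_iff_of_isIso_map (prjR f V G) s
  · exact isIso_restrict_tensor_left V.ι s ((psh f).obj G) h
  · exact isIso_restrict_psh f V _
      (isIso_restrict_tensor_left (f ⁻¹ᵁ V).ι ((plb f).map s) G (isIso_restrict_plb f V s h))

theorem isIso_restrict_prj_of_free (G : X.Modules) (E : Y.Modules) (n : ℕ)
    (e : E.restrict V.ι ≅ FlatMod.freeMod (↑V) n) :
    IsIso ((Scheme.Modules.restrictFunctor V.ι).map (prj f E G)) := by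
  -- the unit object
  have h0 : IsIso ((prjR f V G).app (Coh.structureModule Y)) := by
    haveI := isIso_prj_unit f G
    exact inferInstanceAs (IsIso ((Scheme.Modules.restrictFunctor V.ι).map
      (prj f (Coh.structureModule Y) G)))
  -- `j_* (O|_V)`
  have h1 := (isIso_prjR_iff f V G _ (isIso_restrict_unit V (Coh.structureModule Y))).1 h0
  -- `j_* (E|_V)`
  let ff₀ : FF ((Scheme.Modules.restrictFunctor V.ι).obj (Coh.structureModule Y))
      ((Scheme.Modules.restrictFunctor V.ι).obj E) (Fin n) :=
    FF.map (ffOfIso (ffSigma (Coh.structureModule (↑V : Scheme.{u})) (Fin n)) e.symm)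
      (𝟭 _) (Scheme.Modules.restrictUnitIso V.ι).symm
  let ff : FF ((psh V.ι).obj ((Scheme.Modules.restrictFunctor V.ι).obj (Coh.structureModule Y)))
      ((psh V.ι).obj ((Scheme.Modules.restrictFunctor V.ι).obj E)) (Fin n) :=
    FF.map ff₀ (psh V.ι) (Iso.refl _)
  have h2 := isIso_app_of_ff (prjR f V G) ff h1
  exact (isIso_prjR_iff f V G _ (isIso_restrict_unit V E)).2 h2

/-- the projection morphism is an isomorphism for `E` finite locally free. -/
theorem isIso_prj (E : Y.Modules) (hE : FlatMod.IsFinLocFree E) (G : X.Modules) :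
    IsIso (prj f E G) := by
  choose U n hxU he using hE
  refine Groth.Agent.Lib.Helper23.ModLocal.isIso_of_isIso_restrict (prj f E G)
    (fun y : Y => ((U y : Y.Opens) : Scheme.{u})) (fun y => (U y).ι)
    (fun y => ⟨y, ⟨y, hxU y⟩, rfl⟩) (fun y => ?_)
  exact isIso_restrict_prj_of_free f (U y) G E (n y) (he y).some

end Part5

section Part6

open Groth.Agent.Lib.Helper1.PT
  Groth.Agent.Lib.Helper21.Dual Groth.Agent.Lib.Helper21.ModTensor3
  Groth.Agent.Lib.Helper21.ModTensor5

variable {X Y : Scheme.{u}} (f : X ⟶ Y)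

/-- the projection formula in degree zero, as a natural isomorphism in `G`. -/
noncomputable def prjIso (E : Y.Modules) (hE : FlatMod.IsFinLocFree E) :
    psh f ⋙ DCoh.tensorBi.obj E ≅ DCoh.tensorBi.obj ((plb f).obj E) ⋙ psh f :=
  NatIso.ofComponents (fun G => @asIso _ _ _ _ (prj f E G) (isIso_prj f E hE G))
    (fun {G G'} g => prj_naturality_right f E g)

instance (Z : Scheme.{u}) (B : Z.Modules) : (DCoh.tensorBi.obj B).Additive :=
  tL_additive Z.sheaf B

theorem preservesFiniteLimits_tensorBi_obj {Z : Scheme.{u}} (E : Z.Modules)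
    (hE : FlatMod.IsFinLocFree E) : PreservesFiniteLimits (DCoh.tensorBi.obj E) := by
  have hL : IsLocFF (O := Z.sheaf) E := isLocFF_of_isFinLocFree E hE
  haveI : PreservesFiniteLimits (tR Z.sheaf E) := preservesFiniteLimits_tR_of_isLocFF E hL
  exact (preservesFiniteLimits_of_natIso ((brd Z.sheaf).app E).symm :
    PreservesFiniteLimits (tL Z.sheaf E))

theorem preservesFiniteColimits_tensorBi_obj {Z : Scheme.{u}} (E : Z.Modules) :
    PreservesFiniteColimits (DCoh.tensorBi.obj E) :=
  (tL_preservesFiniteColimits Z.sheaf E : PreservesFiniteColimits (tL Z.sheaf E))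

theorem preservesInjectiveObjects_tensorBi_obj {Z : Scheme.{u}} (E : Z.Modules)
    (hE : FlatMod.IsFinLocFree E) : (DCoh.tensorBi.obj E).PreservesInjectiveObjects := by
  have hL : IsLocFF (O := Z.sheaf) E := isLocFF_of_isFinLocFree E hE
  refine ⟨fun {I} hI => ?_⟩
  exact @injective_tL_obj _ _ _ Z.sheaf E hL I hI

/-- the projection formula for higher direct images. -/
theorem nonempty_projection_iso [HasInjectiveResolutions X.Modules]
    (F : X.Modules) (E : Y.Modules) (hE : FlatMod.IsFinLocFree E) (q : ℕ) :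
    Nonempty ((DCoh.tensorBi.obj E).obj (((psh f).rightDerived q).obj F) ≅
      ((psh f).rightDerived q).obj ((DCoh.tensorBi.obj ((plb f).obj E)).obj F)) := by
  have hE' : FlatMod.IsFinLocFree ((plb f).obj E) :=
    Groth.Agent.Lib.R2H2.PullLF.isFinLocFree_pullback f E hE
  haveI := preservesFiniteLimits_tensorBi_obj E hE
  haveI := preservesFiniteColimits_tensorBi_obj E
  haveI := preservesFiniteLimits_tensorBi_obj _ hE'
  haveI := preservesFiniteColimits_tensorBi_obj ((plb f).obj E)
  haveI := preservesInjectiveObjects_tensorBi_obj _ hE'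
  haveI : (DCoh.tensorBi.obj E).PreservesHomology := inferInstance
  haveI : (DCoh.tensorBi.obj ((plb f).obj E)).PreservesHomology := inferInstance
  let e1 := (Groth.Agent.Lib.Helper21.DerPost.postIso (psh f) (DCoh.tensorBi.obj E) q).app F
  let e2 := (Groth.Agent.Lib.Helper21.DerPost.natIsoRightDerived (prjIso f E hE) q).app F
  let e3 := (Groth.Agent.Lib.Helper23DerComp.compIso (DCoh.tensorBi.obj ((plb f).obj E))
    (psh f) q).app F
  exact ⟨e1.symm ≪≫ e2 ≪≫ e3⟩

end Part6

end Groth.Agent.Lib.R2H1.ProjLF
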