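import Mathlib
import Groth.Prelude
import Groth.Agent.Lib.R2H1DegCartier
import Groth.Agent.Lib.R2H1BirGenus
import Groth.Agent.Lib.R2H1ProjLF
import Groth.Agent.Lib.Helper23TensorQCoh
import Groth.Agent.Lib.Helper20StalkExact
set_option backward.isDefEq.respectTransparency.types false

/-!
# Degree of the pullback of a vector bundle along a birational morphism of curves (helper1, round 2)

Namespace `Groth.Agent.Lib.R2H1.BirDeg`.

* `stalk_kernel_strToPush` : stalks of `ker (O_X → f_* O_Y)` vanish over an open where `f` is an isomorphism.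
* `isCoh_tensorMod` : the tensor product of coherent modules is coherent.
* `euler_push` : `χ(X', M) = χ(X, f_* M)` for an affine morphism of proper `k`-schemes.
* `dim_support_le_zero_of_stalks`.
* `s1666` : `deg (f^* E) = deg E` (= S1666).
-/

set_option autoImplicit false
set_option linter.style.haveILetI false
set_option linter.unusedSectionVars false
universe u

open CategoryTheory CategoryTheory.Limits AlgebraicGeometry TopologicalSpace Opposite

namespace Groth.Agent.Lib.R2H1.BirDeg

open Groth.Agent.Lib.R2H1.InvHom Groth.Agent.Lib.R2H1.CurveVanish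
  Groth.Agent.Lib.R2H2.ProjOverPush Groth.Agent.Lib.R2H1.BirGenus Groth.Agent.Lib.R2H1.GenusLe

section Ker

variable {X Y : Scheme.{u}} (f : Y ⟶ X) (U : X.Opens)

theorem stalk_kernel_strToPush [IsIso (f ∣_ U)] (x : X) (hx : x ∈ U) :
    Subsingleton ((kernel (strToPush f)).presheaf.stalk x) := by
  refine stalk_subsingleton_of_sections _ x fun W' hxW' q => ?_
  have hV : U.ι ''ᵁ (U.ι ⁻¹ᵁ W') ≤ W' := by
    rw [Scheme.Hom.image_preimage_eq_opensRange_inf]
    exact inf_le_right
  have hxV : x ∈ U.ι ''ᵁ (U.ι ⁻¹ᵁ W') := ⟨⟨x, hx⟩, hxW', rfl⟩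
  refine ⟨U.ι ''ᵁ (U.ι ⁻¹ᵁ W'), hV, hxV, ?_⟩
  apply Groth.Agent.Lib.Helper20.StalkExact.injective_app_of_mono (kernel.ι (strToPush f))
    (U.ι ''ᵁ (U.ι ⁻¹ᵁ W'))
  rw [map_zero]
  have h : (kernel.ι (strToPush f) ≫ strToPush f).app (U.ι ''ᵁ (U.ι ⁻¹ᵁ W'))
      (res _ hV q) = 0 := by
    rw [kernel.condition]
    rfl
  have key : f.app (U.ι ''ᵁ (U.ι ⁻¹ᵁ W'))
      ((kernel.ι (strToPush f)).app (U.ι ''ᵁ (U.ι ⁻¹ᵁ W')) (res _ hV q)) = 0 := h
  exact (bijective_app_of_isIso_restrict f U (U.ι ⁻¹ᵁ W')).1 (key.trans (map_zero _).symm)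

end Ker


section Main

open Groth.Agent.Lib.R2H1.CurveEuler Groth.Agent.Lib.R2H1.EulerAdd
  Groth.Agent.Lib.R2H1.SkyDecomp Groth.Agent.Lib.R2H1.DegCartier Groth.Agent.Lib.R2H1.ProjLF
  Groth.Agent.Lib.Helper1.PT Groth.Agent.Lib.Helper21.ModTensor5

theorem isCoh_tensorMod {Z : Scheme.{u}} {F G : Z.Modules} (hF : Coh.IsCoh F) (hG : Coh.IsCoh G) :
    Coh.IsCoh (CohB1.tensorMod F G) := by
  haveI : F.IsQuasicoherent := hF.1
  haveI : G.IsQuasicoherent := hG.1
  haveI : SheafOfModules.IsFiniteType (R := Z.ringCatSheaf) F := hF.2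
  haveI : SheafOfModules.IsFiniteType (R := Z.ringCatSheaf) G := hG.2
  exact ⟨Groth.Agent.Lib.Helper23.TensorQCoh.isQuasicoherent_tensorMod F G,
    Groth.Agent.Lib.Helper23.TensorQCoh.isFiniteType_tensorMod F G⟩

variable (k : Type u) [Field k] {X X' : Scheme.{u}} [X.Over (Spec (CommRingCat.of k))]
  [X'.Over (Spec (CommRingCat.of k))] [IsProper (X ↘ Spec (CommRingCat.of k))]

/-- `χ(X', M) = χ(X, f_* M)` for an affine morphism. -/
theorem euler_push (f : X' ⟶ X) [IsAffineHom f]
    (hf : f ≫ (X ↘ (Spec (CommRingCat.of k))) = X' ↘ (Spec (CommRingCat.of k)))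
    (M : X'.Modules) (hM : Coh.IsQCoh M) :
    Curv2.euler k X' M = Curv2.euler k X ((Scheme.Modules.pushforward f).obj M) := by
  haveI : CompactSpace X :=
    QuasiCompact.compactSpace_of_compactSpace (X ↘ Spec (CommRingCat.of k))
  obtain ⟨ι, hfin, V, hcov, hVa, hV⟩ :=
    Groth.Agent.Lib.R2H2.ProperFin.exists_affine_cover_of_isSeparated
      (X ↘ Spec (CommRingCat.of k))
  unfold Curv2.euler
  refine finsum_congr fun i => ?_
  obtain ⟨e⟩ := Groth.Agent.Lib.R2H2.AffPushLin.exists_push_linear f V k hf hcov hV M hM i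
  rw [e.finrank_eq]


theorem dim_support_le_zero_of_stalks [IsNoetherian X] (hdim : topologicalKrullDim X ≤ 1)
    (U : X.Opens) (hU : Dense (U : Set X)) (T : X.Modules)
    (hT : ∀ x ∈ U, Subsingleton (T.presheaf.stalk x)) :
    topologicalKrullDim (CohB1.support T) ≤ 0 := by
  have hZ := dim_compl_le_zero_of_dense X hdim U hU
  have hsub : CohB1.support T ⊆ (U : Set X)ᶜ := fun x hx hxU => hx (hT x hxU)
  exact le_trans (Topology.IsInducing.topologicalKrullDim_le
    (Topology.IsEmbedding.inclusion hsub).isInducing) hZ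

theorem s1666 [IsProper (X' ↘ Spec (CommRingCat.of k))]
    (hdim : topologicalKrullDim X ≤ 1)
    (f : X' ⟶ X) (hf : f ≫ (X ↘ (Spec (CommRingCat.of k))) = X' ↘ (Spec (CommRingCat.of k)))
    (U : X.Opens) (hU : Dense (U : Set X)) (hU' : Dense ((f ⁻¹ᵁ U : X'.Opens) : Set X'))
    (hfU : IsIso (f ∣_ U))
    (n : ℕ) (E : X.Modules) (hE : FlatMod.IsFinLocFreeOfRank n E) :
    Curv2.deg k X' ((Scheme.Modules.pullback f).obj E) n = Curv2.deg k X E n := by
  haveI := isNoetherian_of_proper k X
  haveI : IsProper f := by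
    haveI : IsProper (f ≫ (X ↘ Spec (CommRingCat.of k))) := by rw [hf]; infer_instance
    exact IsProper.of_comp f (X ↘ Spec (CommRingCat.of k))
  haveI := isFinite_of_birational k hdim f hf U hU'
  have hEf : FlatMod.IsFinLocFree E := fun x => by
    obtain ⟨U, hx, e⟩ := hE x
    exact ⟨U, n, hx, e⟩
  have hEc : Coh.IsCoh E := Groth.Agent.Lib.R2H2.PnLocFree.isCoh_of_isFinLocFree E hEf
  have hfl := Groth.Agent.Lib.R2H2.PullLF.isFlat_of_isFinLocFree E hEf
  have hO : Coh.IsCoh (Coh.structureModule X) := isCoh_structureModule X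
  have hO' : Coh.IsCoh (Coh.structureModule X') := isCoh_structureModule X'
  have hA : Coh.IsCoh ((psh f).obj (Coh.structureModule X')) :=
    Groth.Agent.S0019.result f _ hO'
  have hC : Coh.IsCoh (cokernel (strToPush f)) :=
    Groth.Agent.Lib.R2H2.NilFilt.isCoh_cokernel hO hA (strToPush f)
  have hK : Coh.IsCoh (kernel (strToPush f)) :=
    Groth.Agent.Lib.R2H2.PdSheaf.isCoh_kernel hO hA (strToPush f)
  have hI : Coh.IsCoh (kernel (cokernel.π (strToPush f))) :=
    Groth.Agent.Lib.R2H2.PdSheaf.isCoh_kernel hA hC (cokernel.π (strToPush f))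
  have suppK := dim_support_le_zero_of_stalks hdim U hU (kernel (strToPush f))
    (fun x hx => stalk_kernel_strToPush f U x hx)
  have suppC := dim_support_le_zero_of_stalks hdim U hU (cokernel (strToPush f))
    (fun x hx => stalk_cokernel_strToPush f U x hx)
  -- Euler characteristics of the two image sequences
  have a1 : Curv2.euler k X (Coh.structureModule X) =
      Curv2.euler k X (kernel (strToPush f)) +
        Curv2.euler k X (kernel (cokernel.π (strToPush f))) :=
    s1524 k X (imgS₁ (strToPush f)) (imgS₁_shortExact (strToPush f)) hK hO hI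
  have a2 : Curv2.euler k X ((psh f).obj (Coh.structureModule X')) =
      Curv2.euler k X (kernel (cokernel.π (strToPush f))) +
        Curv2.euler k X (cokernel (strToPush f)) :=
    s1524 k X (imgS₂ (strToPush f)) (imgS₂_shortExact (strToPush f)) hI hA hC
  have t1 := Groth.Agent.Lib.R2Lead.TensorExact.shortExact_map_tensorBi E (fun x => hfl x)
    (imgS₁ (strToPush f)) (imgS₁_shortExact (strToPush f))
  have t2 := Groth.Agent.Lib.R2Lead.TensorExact.shortExact_map_tensorBi E (fun x => hfl x)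
    (imgS₂ (strToPush f)) (imgS₂_shortExact (strToPush f))
  have c₁ : Coh.IsCoh ((imgS₁ (strToPush f)).map (DCoh.tensorBi.obj E)).X₁ :=
    isCoh_tensorMod hEc hK
  have c₂ : Coh.IsCoh ((imgS₁ (strToPush f)).map (DCoh.tensorBi.obj E)).X₂ :=
    isCoh_tensorMod hEc hO
  have c₃ : Coh.IsCoh ((imgS₁ (strToPush f)).map (DCoh.tensorBi.obj E)).X₃ :=
    isCoh_tensorMod hEc hI
  have b1₀ := s1524 k X _ t1 c₁ c₂ c₃
  have b1 : Curv2.euler k X (CohB1.tensorMod E (Coh.structureModule X)) =
      Curv2.euler k X (CohB1.tensorMod E (kernel (strToPush f))) +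
        Curv2.euler k X (CohB1.tensorMod E (kernel (cokernel.π (strToPush f)))) := b1₀
  have c₄ : Coh.IsCoh ((imgS₂ (strToPush f)).map (DCoh.tensorBi.obj E)).X₁ :=
    isCoh_tensorMod hEc hI
  have c₅ : Coh.IsCoh ((imgS₂ (strToPush f)).map (DCoh.tensorBi.obj E)).X₂ :=
    isCoh_tensorMod hEc hA
  have c₆ : Coh.IsCoh ((imgS₂ (strToPush f)).map (DCoh.tensorBi.obj E)).X₃ :=
    isCoh_tensorMod hEc hC
  have b2₀ := s1524 k X _ t2 c₄ c₅ c₆
  have b2 : Curv2.euler k X (CohB1.tensorMod E ((psh f).obj (Coh.structureModule X'))) =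
      Curv2.euler k X (CohB1.tensorMod E (kernel (cokernel.π (strToPush f)))) +
        Curv2.euler k X (CohB1.tensorMod E (cokernel (strToPush f))) := b2₀
  have c1 : Curv2.euler k X (CohB1.tensorMod E (kernel (strToPush f))) =
      n * Curv2.euler k X (kernel (strToPush f)) :=
    (euler_congr k (brdApp X.sheaf E (kernel (strToPush f)))).trans
      (s1558 k X _ hK suppK n E hE)
  have c2 : Curv2.euler k X (CohB1.tensorMod E (cokernel (strToPush f))) =
      n * Curv2.euler k X (cokernel (strToPush f)) :=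
    (euler_congr k (brdApp X.sheaf E (cokernel (strToPush f)))).trans
      (s1558 k X _ hC suppC n E hE)
  have d1 : Curv2.euler k X (CohB1.tensorMod E (Coh.structureModule X)) = Curv2.euler k X E :=
    euler_congr k (Groth.Agent.Lib.Helper21.Dual.rU X.sheaf E)
  have hE'f : FlatMod.IsFinLocFree ((plb f).obj E) :=
    Groth.Agent.Lib.R2H2.PullLF.isFinLocFree_pullback f E hEf
  have hE'c : Coh.IsCoh ((plb f).obj E) :=
    Groth.Agent.Lib.R2H2.PnLocFree.isCoh_of_isFinLocFree _ hE'f
  have d2 : Curv2.euler k X' ((plb f).obj E) =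
      Curv2.euler k X (CohB1.tensorMod E ((psh f).obj (Coh.structureModule X'))) := by
    have e1 : Curv2.euler k X' ((plb f).obj E) =
        Curv2.euler k X' (CohB1.tensorMod ((plb f).obj E) (Coh.structureModule X')) :=
      euler_congr k (Groth.Agent.Lib.Helper21.Dual.rU X'.sheaf ((plb f).obj E)).symm
    have e2 := euler_push k f hf (CohB1.tensorMod ((plb f).obj E) (Coh.structureModule X'))
      (isCoh_tensorMod hE'c hO').1
    have e3 : Curv2.euler k X
        ((psh f).obj (CohB1.tensorMod ((plb f).obj E) (Coh.structureModule X'))) =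
        Curv2.euler k X (CohB1.tensorMod E ((psh f).obj (Coh.structureModule X'))) :=
      euler_congr k ((prjIso f E hEf).app (Coh.structureModule X')).symm
    rw [e1, e2, e3]
  have d3 : Curv2.euler k X' (Coh.structureModule X') =
      Curv2.euler k X ((psh f).obj (Coh.structureModule X')) :=
    euler_push k f hf _ hO'.1
  unfold Curv2.deg
  rw [d2, d3]
  linear_combination b2 + c2 - (n : ℤ) * a2 + (n : ℤ) * a1 + d1 - b1 - c1

end Main

end Groth.Agent.Lib.R2H1.BirDeg
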