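import Groth.Agent.Lib.R2H1CurveAmple
import Groth.Agent.Lib.Helper4ModEpi
import Groth.Agent.Lib.R2H1BirDeg
import Groth.Agent.Lib.R2H1ProjLF
import Groth.Agent.Lib.R2H2AffPushLin
import Groth.Agent.Lib.R2H2PnSerre
import Groth.Agent.S0019
set_option backward.isDefEq.respectTransparency.types false

/-!
# Linear series on integral proper curves: h0(L) <= deg L + 1, with equality (deg > 0) only in genus zero (S1564).

Main tools: extension by zero of sections of modules with finite closed support (`extz`), lifting of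
sections of `coker (F -> F (x) L)` when `F` is locally generated by global sections
(`exists_lift_of_locGen`), the induction `finrank_H1_and_locGen_tensorPow`, finite morphisms to
projective space from globally generated invertible modules of positive degree
(`exists_finite_to_projSpace`), and Serre vanishing for pullbacks of `O(d)` along finite morphisms
(`exists_vanishing_pullback_twist`).
-/

set_option autoImplicit false
set_option linter.style.haveILetI false
set_option linter.unusedSectionVars false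
universe u v

open CategoryTheory CategoryTheory.Limits AlgebraicGeometry TopologicalSpace Opposite

namespace Groth.Agent.Lib.R2H1.CurveLinSeries

section Part1

open Groth.Agent.Lib.Helper23.SecTw Groth.Agent.Lib.Helper23.GenLocus
  Groth.Agent.Lib.Helper23.Extend Groth.Agent.Lib.Helper6
open Groth.Agent.Lib.R2H1.SkyDecomp Groth.Agent.Lib.R2H1.ZeroDimCoh

variable {X : Scheme.{u}}

/-- closedness data for a "discrete" closed set: all subsets are closed -/
def AllClosed (Z : Set X) : Prop := ∀ T : Set X, T ⊆ Z → IsClosed T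

/-- the neighbourhood `V ∖ (Z ∖ {x})` of `x` -/
def Vx {Z : Set X} (hZ : AllClosed Z) (x : X) (V : X.Opens) : X.Opens :=
  V ⊓ ⟨(Z \ {x})ᶜ, (hZ _ Set.diff_subset).isOpen_compl⟩

/-- the open `X ∖ (Z ∩ {x})` -/
def Ux {Z : Set X} (hZ : AllClosed Z) (x : X) : X.Opens :=
  ⟨(Z ∩ {x})ᶜ, (hZ _ Set.inter_subset_left).isOpen_compl⟩

theorem Vx_le {Z : Set X} (hZ : AllClosed Z) (x : X) (V : X.Opens) : Vx hZ x V ≤ V := inf_le_left

theorem mem_Vx {Z : Set X} (hZ : AllClosed Z) (x : X) (V : X.Opens) (hxV : x ∈ V) : x ∈ Vx hZ x V :=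
  ⟨hxV, fun h => h.2 rfl⟩

theorem Vx_mono {Z : Set X} (hZ : AllClosed Z) (x : X) {V V' : X.Opens} (h : V' ≤ V) :
    Vx hZ x V' ≤ Vx hZ x V := inf_le_inf_right _ h

variable (C : X.Modules) {Z : Set X} (hZ : AllClosed Z)
  (hC : ∀ y, y ∉ Z → Subsingleton (C.presheaf.stalk y))

include hC in
/-- global sections of a module supported on `Z` are pairs of compatible sections on `Vx` and `Ux` -/
theorem bijective_restrict_pair (x : X) (V : X.Opens) (hxV : x ∈ V) :
    Function.Bijective (fun (σ : Γ(C, ⊤)) =>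
      ((res C (le_top : Vx hZ x V ≤ ⊤) σ, res C (le_top : Ux hZ x ≤ ⊤) σ) :
        Γ(C, Vx hZ x V) × Γ(C, Ux hZ x))) := by
  classical
  let W : Fin 2 → X.Opens := fun j => Fin.cases (Vx hZ x V) (fun _ => Ux hZ x) j
  have key := bijective_restrict_pi (X := X.toTopCat) (Coh.toAb C) Z (hZ Z le_rfl) hC ⊤ W
    (fun j => le_top)
    (fun y _ hyZ => by
      by_cases hyx : y = x
      · exact ⟨0, hyx ▸ mem_Vx hZ x V hxV⟩
      · exact ⟨1, fun h => hyx h.2⟩)
    (fun i j hij y hyi hyj => by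
      have h01 : y ∈ Vx hZ x V → y ∈ Ux hZ x → y ∉ Z := fun h1 h2 hyZ =>
        h1.2 ⟨hyZ, fun hyx => h2 ⟨hyZ, hyx⟩⟩
      fin_cases i <;> fin_cases j
      · exact absurd rfl hij
      · exact h01 hyi hyj
      · exact h01 hyj hyi
      · exact absurd rfl hij)
  constructor
  · intro σ σ' h
    apply key.1
    funext j
    fin_cases j
    · exact congrArg Prod.fst h
    · exact congrArg Prod.snd h
  · rintro ⟨m₁, m₂⟩
    let t : ∀ j : Fin 2, ((Coh.toAb C).1.obj (op (W j))) :=
      Fin.cons (α := fun j => ((Coh.toAb C).1.obj (op (W j)))) m₁ (fun _ => m₂)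
    obtain ⟨σ, hσ⟩ := key.2 t
    refine ⟨σ, ?_⟩
    have h0 := congrFun hσ 0
    have h1 := congrFun hσ 1
    exact Prod.ext h0 h1

include hC in
theorem exists_extz (x : X) (V : X.Opens) (hxV : x ∈ V) (m : Γ(C, V)) :
    ∃ c : Coh.structureModule X ⟶ C, sv c (Vx hZ x V) = res C (Vx_le hZ x V) m ∧
      sv c (Ux hZ x) = 0 := by
  obtain ⟨σ, hσ⟩ := (bijective_restrict_pair C hZ hC x V hxV).2 (res C (Vx_le hZ x V) m, 0)
  refine ⟨secHom C σ, ?_, ?_⟩
  · rw [sv_secHom]; exact congrArg Prod.fst hσ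
  · rw [sv_secHom]; exact congrArg Prod.snd hσ

include hC in
theorem extz_unique (x : X) (V : X.Opens) (hxV : x ∈ V) (c c' : Coh.structureModule X ⟶ C)
    (h1 : sv c (Vx hZ x V) = sv c' (Vx hZ x V)) (h2 : sv c (Ux hZ x) = sv c' (Ux hZ x)) :
    c = c' := by
  apply Groth.Agent.Lib.Helper23.SecTw.hom_ext_of_sv
  apply (bijective_restrict_pair C hZ hC x V hxV).1
  refine Prod.ext ?_ ?_
  · show res C _ (sv c ⊤) = res C _ (sv c' ⊤)
    rw [res_sv, res_sv]; exact h1
  · show res C _ (sv c ⊤) = res C _ (sv c' ⊤)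
    rw [res_sv, res_sv]; exact h2

end Part1

section Part2


open Groth.Agent.Lib.Helper23.SecTw Groth.Agent.Lib.Helper23.GenLocus
  Groth.Agent.Lib.Helper23.Extend Groth.Agent.Lib.Helper6
open Groth.Agent.Lib.R2H1.SkyDecomp Groth.Agent.Lib.R2H1.ZeroDimCoh

variable {X : Scheme.{u}}

variable (C : X.Modules) {Z : Set X} (hZ : AllClosed Z)
  (hC : ∀ y, y ∉ Z → Subsingleton (C.presheaf.stalk y))

/-- extension by zero of a local section near `x` -/
noncomputable def extz (x : X) (V : X.Opens) (hxV : x ∈ V) (m : Γ(C, V)) :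
    Coh.structureModule X ⟶ C :=
  (exists_extz C hZ hC x V hxV m).choose

theorem sv_extz_Vx (x : X) (V : X.Opens) (hxV : x ∈ V) (m : Γ(C, V)) :
    sv (extz C hZ hC x V hxV m) (Vx hZ x V) = res C (Vx_le hZ x V) m :=
  (exists_extz C hZ hC x V hxV m).choose_spec.1

theorem sv_extz_Ux (x : X) (V : X.Opens) (hxV : x ∈ V) (m : Γ(C, V)) :
    sv (extz C hZ hC x V hxV m) (Ux hZ x) = 0 :=
  (exists_extz C hZ hC x V hxV m).choose_spec.2

theorem eq_extz (x : X) (V : X.Opens) (hxV : x ∈ V) (m : Γ(C, V)) (c : Coh.structureModule X ⟶ C)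
    (h1 : sv c (Vx hZ x V) = res C (Vx_le hZ x V) m) (h2 : sv c (Ux hZ x) = 0) :
    c = extz C hZ hC x V hxV m :=
  extz_unique C hZ hC x V hxV _ _ (h1.trans (sv_extz_Vx C hZ hC x V hxV m).symm)
    (h2.trans (sv_extz_Ux C hZ hC x V hxV m).symm)

theorem extz_add (x : X) (V : X.Opens) (hxV : x ∈ V) (m m' : Γ(C, V)) :
    extz C hZ hC x V hxV (m + m') = extz C hZ hC x V hxV m + extz C hZ hC x V hxV m' := by
  symm
  apply eq_extz
  · rw [sv_add, sv_extz_Vx, sv_extz_Vx, res_add']
  · rw [sv_add, sv_extz_Ux, sv_extz_Ux, add_zero]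

theorem extz_zero (x : X) (V : X.Opens) (hxV : x ∈ V) :
    extz C hZ hC x V hxV 0 = 0 := by
  symm
  apply eq_extz
  · rw [sv_zero, res_zero]
  · rw [sv_zero]

/-- compatibility with shrinking the neighbourhood -/
theorem extz_res (x : X) {V V' : X.Opens} (h : V' ≤ V) (hxV' : x ∈ V') (m : Γ(C, V)) :
    extz C hZ hC x V (h hxV') m = extz C hZ hC x V' hxV' (res C h m) := by
  apply eq_extz
  · have h1 := sv_extz_Vx C hZ hC x V (h hxV') m
    have h2 : sv (extz C hZ hC x V (h hxV') m) (Vx hZ x V') =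
        res C (Vx_mono hZ x h) (sv (extz C hZ hC x V (h hxV') m) (Vx hZ x V)) :=
      (res_sv _ (Vx_mono hZ x h)).symm
    rw [h2, h1, res_res, res_res]
  · exact sv_extz_Ux C hZ hC x V (h hxV') m

theorem sv_sum {M : X.Modules} {ι : Type*} (s : Finset ι) (σ : ι → (Coh.structureModule X ⟶ M))
    (W : X.Opens) : sv (∑ i ∈ s, σ i) W = ∑ i ∈ s, sv (σ i) W := by
  classical
  induction s using Finset.induction_on with
  | empty => simp [sv_zero]
  | insert a s ha ih => rw [Finset.sum_insert ha, Finset.sum_insert ha, sv_add, ih]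

end Part2

section Part3


open Groth.Agent.Lib.Helper23.SecTw Groth.Agent.Lib.Helper23.GenLocus
  Groth.Agent.Lib.Helper23.Extend Groth.Agent.Lib.Helper6
open Groth.Agent.Lib.R2H1.SkyDecomp Groth.Agent.Lib.R2H1.ZeroDimCoh

variable {X : Scheme.{u}}

variable (C : X.Modules) {Z : Set X} (hZ : AllClosed Z)
  (hC : ∀ y, y ∉ Z → Subsingleton (C.presheaf.stalk y))

/-- a global section of a module supported on a finite "discrete" closed set is the sum of its
extensions by zero at the points of that set -/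
theorem eq_sum_extz (hfin : Z.Finite) (c : Coh.structureModule X ⟶ C) :
    c = ∑ x ∈ hfin.toFinset, extz C hZ hC x ⊤ trivial (sv c ⊤) := by
  classical
  have hZcl : IsClosed Z := hZ Z le_rfl
  apply Groth.Agent.Lib.Helper23.SecTw.hom_ext_of_sv
  let Oy : X → X.Opens := fun y => if y ∈ Z then Vx hZ y ⊤ else ⟨Zᶜ, hZcl.isOpen_compl⟩
  have hmem : ∀ y : X, y ∈ Oy y := by
    intro y
    by_cases hy : y ∈ Z
    · simp only [Oy, if_pos hy]; exact mem_Vx hZ y ⊤ trivial
    · simp only [Oy, if_neg hy]; exact hy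
  refine (modSheaf C).eq_of_locally_eq' (fun y : (⊤ : X.Opens) => Oy y.1) ⊤
    (fun y => homOfLE le_top) ?_ _ _ (fun y => ?_)
  · intro z hz
    exact Opens.mem_iSup.2 ⟨⟨z, hz⟩, hmem z⟩
  · change res C (le_top : Oy y.1 ≤ ⊤) (sv c ⊤) =
      res C (le_top : Oy y.1 ≤ ⊤) (sv (∑ x ∈ hfin.toFinset, extz C hZ hC x ⊤ trivial (sv c ⊤)) ⊤)
    rw [res_sv, res_sv, sv_sum]
    by_cases hy : y.1 ∈ Z
    · have hO : Oy y.1 = Vx hZ y.1 ⊤ := by simp only [Oy, if_pos hy]
      rw [Finset.sum_eq_single y.1]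
      · rw [hO, sv_extz_Vx, res_sv]
      · intro x hx hxy
        have hxZ : x ∈ Z := hfin.mem_toFinset.mp hx
        have hle : Oy y.1 ≤ Ux hZ x := by
          rw [hO]
          intro z hz hzx
          exact hz.2 ⟨hzx.1, fun hzy => hxy (by rw [← hzx.2, hzy])⟩
        rw [← res_sv _ hle, sv_extz_Ux, res_zero]
      · intro h
        exact absurd (hfin.mem_toFinset.mpr hy) h
    · have hO : Oy y.1 = ⟨Zᶜ, hZcl.isOpen_compl⟩ := by simp only [Oy, if_neg hy]
      haveI : Subsingleton Γ(C, Oy y.1) := by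
        rw [hO]
        exact subsingleton_sections_of_disjoint (X := X.toTopCat) (Coh.toAb C) Z hC
          ⟨Zᶜ, hZcl.isOpen_compl⟩ (fun z hz => hz)
      exact Subsingleton.elim _ _

end Part3

section Part4


open Groth.Agent.Lib.Helper23.SecTw Groth.Agent.Lib.Helper23.GenLocus
  Groth.Agent.Lib.Helper23.Extend Groth.Agent.Lib.Helper6 Groth.Agent.Lib.Helper23.LocGen
open Groth.Agent.Lib.R2H1.SkyDecomp Groth.Agent.Lib.R2H1.ZeroDimCoh
open Groth.Agent.Lib.R2H1.CurveAmple

variable {X : Scheme.{u}}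

variable (F M : X.Modules) (s : Coh.structureModule X ⟶ M) [Mono s]

/-- sections killed in `coker s` are killed, after tensoring, in `coker (mulSec F s)` -/
theorem app_tm_eq_zero (U : X.Opens) (a : Γ(F, U)) (b : Γ(M, U))
    (hb : (cokernel.π s).app U b = 0) :
    (cokernel.π (mulSec F s)).app U (tm F M U a b) = 0 := by
  let S₀ : ShortComplex X.Modules := ShortComplex.mk s (cokernel.π s) (cokernel.condition s)
  have hS₀ : S₀.ShortExact :=
    { exact := ShortComplex.exact_cokernel s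
      mono_f := inferInstanceAs (Mono s)
      epi_g := inferInstanceAs (Epi (cokernel.π s)) }
  obtain ⟨w, hw⟩ := Groth.Agent.Lib.Helper20.StalkExact.exists_app_eq_of_exact S₀ hS₀ U b hb
  have h1 : b = (ofS U w) • sv s U := by
    have h2 := app_toS s U (ofS U w)
    rw [toS_ofS] at h2
    rw [← h2]
    exact hw.symm
  have h3 : tm F M U a b = (mulSec F s).app U ((ofS U w) • a) := by
    rw [mulSec_app, h1, tm_smul_right, tm_smul_left]
  rw [h3]
  have h4 : (mulSec F s ≫ cokernel.π (mulSec F s)).app U ((ofS U w) • a) = 0 := by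
    rw [cokernel.condition]
    rfl
  exact h4

variable {Z : Set X} (hZ : AllClosed Z)
  (hC : ∀ y, y ∉ Z → Subsingleton ((cokernel (mulSec F s)).presheaf.stalk y))
  (hQ : ∀ y, y ∉ Z → Subsingleton ((cokernel s).presheaf.stalk y))
  (lift₀ : ∀ q : Coh.structureModule X ⟶ cokernel s, ∃ t : Coh.structureModule X ⟶ M,
    t ≫ cokernel.π s = q)

include lift₀ hQ in
theorem exists_lift_extz (x : X) (V : X.Opens) (hxV : x ∈ V) (g : Γ(F, V)) (hg : g ∈ gspan F V) :
    ∀ q : Γ(M, V), ∃ T : Coh.structureModule X ⟶ CohB1.tensorMod F M,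
      T ≫ cokernel.π (mulSec F s) =
        extz (cokernel (mulSec F s)) hZ hC x V hxV
          ((cokernel.π (mulSec F s)).app V (tm F M V g q)) := by
  induction hg using Submodule.span_induction with
  | mem g hg =>
    obtain ⟨u, rfl⟩ := hg
    intro q
    obtain ⟨t, ht⟩ := lift₀ (extz (cokernel s) hZ hQ x V hxV ((cokernel.π s).app V q))
    refine ⟨SecTwist.tmulHom u t, ?_⟩
    apply eq_extz
    · rw [sv_comp, sv_tmulHom, ← app_res', res_tm, res_sv]
      have h1 : (cokernel.π s).app (Vx hZ x V) (sv t (Vx hZ x V) - res M (Vx_le hZ x V) q) = 0 := by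
        rw [map_sub, ← sv_comp, ht, sv_extz_Vx, app_res', sub_self]
      have h2 := app_tm_eq_zero F M s (Vx hZ x V) (sv u (Vx hZ x V)) _ h1
      have h3 : sv t (Vx hZ x V) = res M (Vx_le hZ x V) q +
          (sv t (Vx hZ x V) - res M (Vx_le hZ x V) q) := by abel
      rw [h3, tm_add_right, map_add, h2, add_zero]
    · rw [sv_comp, sv_tmulHom]
      refine app_tm_eq_zero F M s _ _ _ ?_
      rw [← sv_comp, ht, sv_extz_Ux]
  | zero =>
    intro q
    refine ⟨0, ?_⟩
    rw [zero_comp, tm_zero_left, map_zero, extz_zero]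
  | add g g' _ _ ih ih' =>
    intro q
    obtain ⟨T, hT⟩ := ih q
    obtain ⟨T', hT'⟩ := ih' q
    refine ⟨T + T', ?_⟩
    rw [Preadditive.add_comp, hT, hT', tm_add_left, map_add, extz_add]
  | smul r g _ ih =>
    intro q
    obtain ⟨T, hT⟩ := ih (r • q)
    refine ⟨T, ?_⟩
    rw [hT, tm_smul_left, tm_smul_right]

end Part4

section Part5


open Groth.Agent.Lib.Helper23.SecTw Groth.Agent.Lib.Helper23.GenLocus
  Groth.Agent.Lib.Helper23.Extend Groth.Agent.Lib.Helper6 Groth.Agent.Lib.Helper23.LocGen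
open Groth.Agent.Lib.R2H1.SkyDecomp Groth.Agent.Lib.R2H1.ZeroDimCoh
open Groth.Agent.Lib.R2H1.CurveAmple

variable {X : Scheme.{u}}

variable (F M : X.Modules) (s : Coh.structureModule X ⟶ M) [Mono s]
variable {Z : Set X} (hZ : AllClosed Z)
  (hC : ∀ y, y ∉ Z → Subsingleton ((cokernel (mulSec F s)).presheaf.stalk y))
  (hQ : ∀ y, y ∉ Z → Subsingleton ((cokernel s).presheaf.stalk y))
  (lift₀ : ∀ q : Coh.structureModule X ⟶ cokernel s, ∃ t : Coh.structureModule X ⟶ M,
    t ≫ cokernel.π s = q)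

include hZ hC hQ lift₀ in
/-- if `F` is locally generated by global sections and the sections of `coker s` lift to `M`, then the
sections of `coker (F --s--> F ⊗ M)` lift to `F ⊗ M` -/
theorem exists_lift_of_locGen (hF : PicF.IsInvertible F) (hM : PicF.IsInvertible M)
    (hfin : Z.Finite) (hgen : ∀ x : X, ∃ V : X.Opens, x ∈ V ∧ LocGen F V)
    (c : Coh.structureModule X ⟶ cokernel (mulSec F s)) :
    ∃ T : Coh.structureModule X ⟶ CohB1.tensorMod F M, T ≫ cokernel.π (mulSec F s) = c := by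
  classical
  have key : ∀ x : X, ∃ T : Coh.structureModule X ⟶ CohB1.tensorMod F M,
      T ≫ cokernel.π (mulSec F s) =
        extz (cokernel (mulSec F s)) hZ hC x ⊤ trivial (sv c ⊤) := by
    intro x
    obtain ⟨W, a, e, hxW, ha, he⟩ := exists_gen₂ F M hF hM x
    obtain ⟨V₀, hxV₀, hLG⟩ := hgen x
    obtain ⟨B, hB, hxB, hmem⟩ := hLG (W ⊓ V₀) inf_le_right (res F inf_le_left a) x ⟨hxW, hxV₀⟩
    obtain ⟨V, hVB, hxV, g, hg⟩ := Groth.Agent.Lib.Helper4.ModEpi.exists_app_eq_of_epi
      (cokernel.π (mulSec F s)) B (sv c B) x hxB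
    have hVW : V ≤ W := hVB.trans (hB.trans inf_le_left)
    obtain ⟨r, hr⟩ := (isGen_tm F M W a e ha he V hVW).2 g
    replace hr : r • res (CohB1.tensorMod F M) hVW (tm F M W a e) = g := hr
    have hg' : g = tm F M V (res F hVW a) (r • res M hVW e) := by
      rw [← hr, res_tm, tm_smul_right]
    have hav : res F hVW a ∈ gspan F V := by
      have := res_mem_gspan F hVB hmem
      rwa [res_res, res_res] at this
    obtain ⟨T, hT⟩ := exists_lift_extz F M s hZ hC hQ lift₀ x V hxV _ hav (r • res M hVW e)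
    refine ⟨T, ?_⟩
    rw [hT, ← hg']
    have h1 : (cokernel.π (mulSec F s)).app V g = sv c V := by
      rw [hg]
      exact res_sv c hVB
    rw [h1, extz_res (cokernel (mulSec F s)) hZ hC x (le_top : V ≤ ⊤) hxV (sv c ⊤), res_sv]
  choose T hT using key
  refine ⟨∑ x ∈ hfin.toFinset, T x, ?_⟩
  rw [Preadditive.sum_comp]
  conv_rhs => rw [eq_sum_extz (cokernel (mulSec F s)) hZ hC hfin c]
  exact Finset.sum_congr rfl (fun x _ => hT x)

end Part5

section Part6


open Groth.Agent.Lib.Helper23.SecTw Groth.Agent.Lib.Helper23.GenLocus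
  Groth.Agent.Lib.Helper23.Extend Groth.Agent.Lib.Helper6 Groth.Agent.Lib.Helper23.LocGen
open Groth.Agent.Lib.R2H1.SkyDecomp Groth.Agent.Lib.R2H1.ZeroDimCoh
open Groth.Agent.Lib.R2H1.CurveAmple
open Groth.Agent.Lib.R2H2.HHLin Groth.Agent.Lib.R2H1.EulerAdd Groth.Agent.Lib.R2H2.PnLinRes
  Groth.Agent.Lib.R2H2.PnBeilinson
open Groth.Agent.Lib.R2H1.GenusLe Groth.Agent.Lib.R2H1.BirDeg
  Groth.Agent.Lib.R2H1.CurveDegSec Groth.Agent.Lib.R2H1.CurveEuler
  Groth.Agent.Lib.R2H1.GenusZero Groth.Agent.Lib.R2H1.InvHom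

section Conv

variable (k : Type u) [Field k] (X : Scheme.{u}) [X.Over (Spec (CommRingCat.of k))]
    [IsProper (X ↘ (Spec (CommRingCat.of k)))]

/-- if `H¹(X₃) = 0` and every global section of `X₃` lifts to `X₂`, then `h¹(X₁) = h¹(X₂)` -/
theorem finrank_eq_of_lift (S : ShortComplex X.Modules) (hS : S.ShortExact)
    (h3 : Subsingleton (Coh.HH X S.X₃ 1))
    (hlift : ∀ c : Coh.structureModule X ⟶ S.X₃, ∃ t : Coh.structureModule X ⟶ S.X₂, t ≫ S.g = c) :
    Module.finrank k (Coh.HH X S.X₁ 1) = Module.finrank k (Coh.HH X S.X₂ 1) := by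
  have hsurj : Function.Surjective (HmapA k S.f 1) := by
    intro y
    have hy : HmapA k S.g 1 y = 0 := Subsingleton.elim _ _
    exact (exact_fg k S hS 1 y).mp hy
  have hinj : Function.Injective (HmapA k S.f 1) := by
    rw [injective_iff_map_eq_zero]
    intro y hy
    obtain ⟨z, rfl⟩ := (exact_df k S hS 0 y).mp hy
    obtain ⟨c, rfl⟩ := cls_surjective S.X₃ z
    obtain ⟨t, rfl⟩ := hlift c
    rw [← cls_comp]
    exact (exact_gd k S hS 0 _).mpr ⟨cls t, rfl⟩
  exact (LinearEquiv.ofBijective (HmapA k S.f 1) ⟨hinj, hsurj⟩).finrank_eq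

end Conv

end Part6

section Part7

open MonoidalCategory TensorProduct


open Groth.Agent.Lib.Helper23.SecTw Groth.Agent.Lib.Helper23.GenLocus
  Groth.Agent.Lib.Helper23.Extend Groth.Agent.Lib.Helper6 Groth.Agent.Lib.Helper23.LocGen
open Groth.Agent.Lib.R2H1.SkyDecomp Groth.Agent.Lib.R2H1.ZeroDimCoh
open Groth.Agent.Lib.R2H1.CurveAmple
open Groth.Agent.Lib.R2H1.GenusLe Groth.Agent.Lib.R2H1.BirDeg
  Groth.Agent.Lib.R2H1.CurveDegSec Groth.Agent.Lib.R2H1.CurveEuler
  Groth.Agent.Lib.R2H1.GenusZero Groth.Agent.Lib.R2H1.InvHom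

variable (k : Type u) [Field k] (X : Scheme.{u}) [X.Over (Spec (CommRingCat.of k))]
    [IsIntegral X] [IsProper (X ↘ (Spec (CommRingCat.of k)))]

/-- the inductive step: if `L^m` is locally generated by global sections and sections of `coker s`
lift to `L`, then `h¹(L^m) = h¹(L^{m+1})` and `L^{m+1}` is locally generated by global sections -/
theorem step (hdim : topologicalKrullDim X = 1) (L : X.Modules) (hL : PicF.IsInvertible L)
    (s : Coh.structureModule X ⟶ L) (hs : s ≠ 0)
    (lift₀ : ∀ q : Coh.structureModule X ⟶ cokernel s, ∃ t : Coh.structureModule X ⟶ L,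
      t ≫ cokernel.π s = q) (m : ℕ)
    (hgen : ∀ x : X, ∃ V : X.Opens, x ∈ V ∧ LocGen (CohB1.tensorPow L m) V) :
    Module.finrank k (Coh.HH X (CohB1.tensorPow L m) 1) =
        Module.finrank k (Coh.HH X (CohB1.tensorPow L (m + 1)) 1) ∧
      ∀ x : X, ∃ V : X.Opens, x ∈ V ∧ LocGen (CohB1.tensorPow L (m + 1)) V := by
  haveI := isNoetherian_of_proper k X
  have hO := Groth.Agent.Lib.Helper23.TensorUnit.isInvertible_structureModule X
  have hF : PicF.IsInvertible (CohB1.tensorPow L m) := isInvertible_tensorPow hL m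
  have hP : PicF.IsInvertible (CohB1.tensorMod (CohB1.tensorPow L m) L) :=
    isInvertible_tensorMod hF hL
  have hφ := mulSec_ne_zero (CohB1.tensorPow L m) hF hL s hs
  haveI hmono : Mono (mulSec (CohB1.tensorPow L m) s) := mono_of_ne_zero hF hP _ hφ
  haveI hmono₀ : Mono s := mono_of_ne_zero hO hL s hs
  obtain ⟨D, hDne, hD⟩ := exists_open_stalk_cokernel hF hP _ hφ
  obtain ⟨D₀, hD₀ne, hD₀⟩ := exists_open_stalk_cokernel hO hL s hs
  have hDD : ((D ⊓ D₀ : X.Opens) : Set X).Nonempty :=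
    nonempty_preirreducible_inter D.isOpen D₀.isOpen hDne hD₀ne
  have hdense : Dense ((D ⊓ D₀ : X.Opens) : Set X) := (D ⊓ D₀).isOpen.dense hDD
  have hZdim := dim_compl_le_zero_of_dense X hdim.le (D ⊓ D₀) hdense
  have hZcl : IsClosed (((D ⊓ D₀ : X.Opens) : Set X)ᶜ) := (D ⊓ D₀).isOpen.isClosed_compl
  have hZ : AllClosed (((D ⊓ D₀ : X.Opens) : Set X)ᶜ) := fun T hT =>
    isClosed_of_subset_of_dim_le_zero _ hZcl hZdim T hT
  have hfin : (((D ⊓ D₀ : X.Opens) : Set X)ᶜ).Finite := by
    haveI : Finite ↥(((D ⊓ D₀ : X.Opens) : Set X)ᶜ) := finite_of_dim_le_zero hZdim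
    exact Set.toFinite _
  have hC : ∀ y, y ∉ ((D ⊓ D₀ : X.Opens) : Set X)ᶜ →
      Subsingleton ((cokernel (mulSec (CohB1.tensorPow L m) s)).presheaf.stalk y) :=
    fun y hy => hD y (not_not.mp hy).1
  have hQ : ∀ y, y ∉ ((D ⊓ D₀ : X.Opens) : Set X)ᶜ →
      Subsingleton ((cokernel s).presheaf.stalk y) :=
    fun y hy => hD₀ y (not_not.mp hy).2
  have hlift := exists_lift_of_locGen (CohB1.tensorPow L m) L s hZ hC hQ lift₀ hF hL hfin hgen
  have cF := isCoh_of_isInvertible _ hF
  have cP := isCoh_of_isInvertible _ hP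
  have cC : Coh.IsCoh (cokernel (mulSec (CohB1.tensorPow L m) s)) :=
    Groth.Agent.Lib.R2H2.NilFilt.isCoh_cokernel cF cP _
  have hsupp := dim_support_le_zero_of_stalks hdim.le D (D.isOpen.dense hDne)
    (cokernel (mulSec (CohB1.tensorPow L m) s)) hD
  have h3 : Subsingleton (Coh.HH X (cokernel (mulSec (CohB1.tensorPow L m) s)) 1) :=
    s1526 k X _ cC hsupp 1 le_rfl
  let S : ShortComplex X.Modules := ShortComplex.mk (mulSec (CohB1.tensorPow L m) s)
    (cokernel.π (mulSec (CohB1.tensorPow L m) s)) (cokernel.condition _)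
  have hS : S.ShortExact :=
    { exact := ShortComplex.exact_cokernel _
      mono_f := hmono
      epi_g := inferInstanceAs (Epi (cokernel.π (mulSec (CohB1.tensorPow L m) s))) }
  have heq : Module.finrank k (Coh.HH X (CohB1.tensorPow L m) 1) =
      Module.finrank k (Coh.HH X (CohB1.tensorPow L (m + 1)) 1) :=
    finrank_eq_of_lift k X S hS h3 hlift
  refine ⟨heq, fun x => ?_⟩
  by_cases hx : x ∈ CohB1.genLocus L s
  · refine ⟨CohB1.genLocus (CohB1.tensorPow L (m + 1)) (SecTwist.powHom s (m + 1)), ?_,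
      locGen_genLocus _ _⟩
    rw [genLocus_powHom hL s (m + 1) (Nat.succ_pos m)]
    exact hx
  · exact exists_locGen_nhd (CohB1.tensorPow L m) L hF hL s hmono _ hZ hC hlift x hx

/-- all `h¹(L^m)` agree, and all `L^m` are locally generated by global sections -/
theorem finrank_H1_and_locGen_tensorPow (hdim : topologicalKrullDim X = 1) (L : X.Modules)
    (hL : PicF.IsInvertible L) (s : Coh.structureModule X ⟶ L) (hs : s ≠ 0)
    (lift₀ : ∀ q : Coh.structureModule X ⟶ cokernel s, ∃ t : Coh.structureModule X ⟶ L,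
      t ≫ cokernel.π s = q) (m : ℕ) :
    (Module.finrank k (Coh.HH X (CohB1.tensorPow L m) 1) =
      Module.finrank k (Coh.HH X (Coh.structureModule X) 1)) ∧
      ∀ x : X, ∃ V : X.Opens, x ∈ V ∧ LocGen (CohB1.tensorPow L m) V := by
  induction m with
  | zero =>
    refine ⟨rfl, fun x => ?_⟩
    refine ⟨CohB1.genLocus (Coh.structureModule X) (𝟙 _), ?_, locGen_genLocus _ _⟩
    rw [(Groth.Agent.Lib.H9YBlowUp.isIso_iff_genLocus_eq_top _ (𝟙 (Coh.structureModule X))).mp
      inferInstance]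
    trivial
  | succ n ih =>
    obtain ⟨h1, h2⟩ := step k X hdim L hL s hs lift₀ n ih.2
    exact ⟨h1.symm.trans ih.1, h2⟩

/-- all `h¹(L^m)` agree -/
theorem finrank_H1_tensorPow (hdim : topologicalKrullDim X = 1) (L : X.Modules)
    (hL : PicF.IsInvertible L) (s : Coh.structureModule X ⟶ L) (hs : s ≠ 0)
    (lift₀ : ∀ q : Coh.structureModule X ⟶ cokernel s, ∃ t : Coh.structureModule X ⟶ L,
      t ≫ cokernel.π s = q) (m : ℕ) :
    Module.finrank k (Coh.HH X (CohB1.tensorPow L m) 1) =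
      Module.finrank k (Coh.HH X (Coh.structureModule X) 1) :=
  (finrank_H1_and_locGen_tensorPow k X hdim L hL s hs lift₀ m).1

end Part7

section Part8

open Groth.Agent.Lib.Helper23.SecTw Groth.Agent.Lib.Helper23.GenLocus
  Groth.Agent.Lib.Helper23.Extend Groth.Agent.Lib.Helper6
open Groth.Agent.Lib.R2H1.CurveDegSec Groth.Agent.Lib.R2H1.CurveEuler Groth.Agent.Lib.R2H1.DegCartier
open Groth.Agent.Lib.R2H1.CurveAmple Groth.Agent.Lib.R2H1.GenusLe
open Groth.Agent.Lib.Helper1.PT Groth.Agent.Lib.R2H1.ProjLF Groth.Agent.Lib.Helper21.ModTensor5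
  Groth.Agent.Lib.R2H2.PnSerre

variable (k : Type u) [Field k] (X : Scheme.{u}) [X.Over (Spec (CommRingCat.of k))]
    [IsIntegral X] [IsProper (X ↘ (Spec (CommRingCat.of k)))]

/-- a globally generated invertible module of positive degree on an integral proper curve is the
pullback of `O(1)` along a finite morphism to a projective space -/
theorem exists_finite_to_projSpace (hdim : topologicalKrullDim X = 1) (P : X.Modules)
    (hP : PicF.IsInvertible P) (hgg : Curv2.IsGloballyGenerated P)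
    (hdeg : 0 < Curv2.deg k X P 1) :
    ∃ (n : ℕ) (r : X ⟶ CohB1.ProjSpace n k)
      (_ : r ≫ CohB1.ProjSpace.toSpec n k = X ↘ Spec (CommRingCat.of k)) (_ : IsFinite r),
      Nonempty ((Scheme.Modules.pullback r).obj (Twist.twistProjSpace n k 1) ≅ P) := by
  haveI := isNoetherian_of_proper k X
  obtain ⟨n, s, hs⟩ := exists_generating_sections P hP hgg
  obtain ⟨r, hr, τ, -⟩ := Groth.Agent.S3572.result n (X ↘ Spec (CommRingCat.of k)) P hP s hs
  haveI : IsProper (CohB1.ProjSpace.toSpec n k) :=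
    Groth.Agent.S9705.isProper_projSpace_toSpec n k
  haveI : IsProper (r ≫ CohB1.ProjSpace.toSpec n k) := by rw [hr]; infer_instance
  haveI : IsProper r := IsProper.of_comp r (CohB1.ProjSpace.toSpec n k)
  have hO1 := Groth.Agent.Lib.R2H2.QProjK0.isAmple_twistProjSpace_one n k
  have hO1inv := hO1.1
  have hpinv := Groth.Agent.Lib.Helper23.PB.isInvertible_pullback r _ hO1inv
  have hnc : ∀ p, r ⁻¹' {p} ≠ Set.univ := by
    intro p huniv
    obtain ⟨j, s', hp, -⟩ := hO1.2.2 p
    obtain ⟨s'', hs''⟩ := Groth.Agent.Lib.Helper23.PB.exists_pullback_section r _ hO1inv (j + 1) s'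
    have htop : CohB1.genLocus _ s'' = ⊤ := by
      rw [hs'', eq_top_iff]
      intro x _
      have hx : x ∈ r ⁻¹' {p} := by rw [huniv]; trivial
      have hx' : r x = p := hx
      show r x ∈ CohB1.genLocus _ s'
      rw [hx']
      exact hp
    haveI : IsIso s'' := (Groth.Agent.Lib.H9YBlowUp.isIso_iff_genLocus_eq_top _ s'').mpr htop
    have hd0 : Curv2.deg k X (CohB1.tensorPow ((Scheme.Modules.pullback r).obj
        (Twist.twistProjSpace n k 1)) (j + 1)) 1 = 0 := by
      rw [← deg_congr k X (asIso s'') 1]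
      unfold Curv2.deg
      push_cast
      ring
    have hd1 := deg_tensorPow k X hdim _ hpinv (j + 1)
    rw [hd0, deg_congr k X τ 1] at hd1
    have : (0 : ℤ) < ((j + 1 : ℕ) : ℤ) * Curv2.deg k X P 1 := by positivity
    omega
  have hfin : ∀ p, (r ⁻¹' {p}).Finite := fun p =>
    finite_preimage_singleton_of_isClosedMap hdim.le r r.continuous r.isClosedMap hnc p
  haveI : LocallyQuasiFinite r := LocallyQuasiFinite.of_finite_preimage_singleton r hfin
  exact ⟨n, r, hr, IsFinite.of_isProper_of_locallyQuasiFinite r, ⟨τ⟩⟩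

end Part8

section Part9


open Groth.Agent.Lib.Helper23.SecTw Groth.Agent.Lib.Helper23.GenLocus
  Groth.Agent.Lib.Helper23.Extend Groth.Agent.Lib.Helper6
open Groth.Agent.Lib.R2H1.CurveDegSec Groth.Agent.Lib.R2H1.CurveEuler Groth.Agent.Lib.R2H1.DegCartier
open Groth.Agent.Lib.R2H1.CurveAmple Groth.Agent.Lib.R2H1.GenusLe
open Groth.Agent.Lib.Helper1.PT Groth.Agent.Lib.R2H1.ProjLF Groth.Agent.Lib.Helper21.ModTensor5
  Groth.Agent.Lib.R2H2.PnSerre

variable (k : Type u) [Field k] (X : Scheme.{u}) [X.Over (Spec (CommRingCat.of k))]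
    [IsProper (X ↘ (Spec (CommRingCat.of k)))]

/-- Serre vanishing for the pullbacks of `O(d)` along a finite morphism to projective space -/
theorem exists_vanishing_pullback_twist (n : ℕ) (r : X ⟶ CohB1.ProjSpace n k)
    (hr : r ≫ CohB1.ProjSpace.toSpec n k = X ↘ Spec (CommRingCat.of k)) [IsFinite r] :
    ∃ d₀ : ℤ, ∀ d : ℤ, d₀ ≤ d → ∀ i : ℕ, 0 < i →
      Subsingleton (Coh.HH X ((Scheme.Modules.pullback r).obj (Twist.twistProjSpace n k d)) i) := by
  haveI : IsProper (CohB1.ProjSpace.toSpec n k) :=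
    Groth.Agent.S9705.isProper_projSpace_toSpec n k
  haveI : IsProper ((CohB1.ProjSpace n k) ↘ Spec (CommRingCat.of k)) :=
    inferInstanceAs (IsProper (CohB1.ProjSpace.toSpec n k))
  have hO : Coh.IsCoh (Coh.structureModule X) := isCoh_structureModule X
  have hA : Coh.IsCoh ((psh r).obj (Coh.structureModule X)) := Groth.Agent.S0019.result r _ hO
  obtain ⟨d₀, hd₀⟩ := serre_vanishing_all n k _ hA
  refine ⟨d₀, fun d hd i hi => ?_⟩
  have hEinv := Groth.Agent.Lib.R2Lead.KRR.isInvertible_twistProjSpace n k d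
  have hE1 := Groth.Agent.Lib.Helper23.SecTw.isFinLocFreeOfRank_one_of_isInvertible _ hEinv
  have hE : FlatMod.IsFinLocFree (Twist.twistProjSpace n k d) := fun x => by
    obtain ⟨U, hx, e⟩ := hE1 x
    exact ⟨U, 1, hx, e⟩
  have h1 := hd₀ d hd i hi
  -- `A ⊗ E ≅ E ⊗ A ≅ r_* (r^* E ⊗ O) ≅ r_* r^* E`
  have e1 : CohB1.tensorMod ((psh r).obj (Coh.structureModule X)) (Twist.twistProjSpace n k d) ≅
      CohB1.tensorMod (Twist.twistProjSpace n k d) ((psh r).obj (Coh.structureModule X)) :=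
    (brdApp (CohB1.ProjSpace n k).sheaf (Twist.twistProjSpace n k d)
      ((psh r).obj (Coh.structureModule X))).symm
  have e2 : CohB1.tensorMod (Twist.twistProjSpace n k d) ((psh r).obj (Coh.structureModule X)) ≅
      (psh r).obj (CohB1.tensorMod ((plb r).obj (Twist.twistProjSpace n k d))
        (Coh.structureModule X)) :=
    (prjIso r (Twist.twistProjSpace n k d) hE).app (Coh.structureModule X)
  have e3 : (psh r).obj (CohB1.tensorMod ((plb r).obj (Twist.twistProjSpace n k d))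
        (Coh.structureModule X)) ≅ (psh r).obj ((plb r).obj (Twist.twistProjSpace n k d)) :=
    (psh r).mapIso (Groth.Agent.Lib.Helper21.Dual.rU X.sheaf _)
  have h2 : Subsingleton (Coh.HH (CohB1.ProjSpace n k)
      ((psh r).obj ((plb r).obj (Twist.twistProjSpace n k d))) i) :=
    subsingleton_HH_of_iso (e1 ≪≫ e2 ≪≫ e3) i h1
  haveI : CompactSpace (CohB1.ProjSpace n k) :=
    QuasiCompact.compactSpace_of_compactSpace (CohB1.ProjSpace.toSpec n k)
  obtain ⟨ι, hfin, V, hcov, hVa, hV⟩ :=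
    Groth.Agent.Lib.R2H2.ProperFin.exists_affine_cover_of_isSeparated (CohB1.ProjSpace.toSpec n k)
  have hq : Coh.IsQCoh ((plb r).obj (Twist.twistProjSpace n k d)) :=
    (isCoh_of_isInvertible _
      (Groth.Agent.Lib.Helper23.PB.isInvertible_pullback r _ hEinv)).1
  obtain ⟨e⟩ := Groth.Agent.Lib.R2H2.AffPushLin.exists_push_linear r V k hr hcov hV _ hq i
  exact e.toEquiv.subsingleton

end Part9

section Part10


open Groth.Agent.Lib.Helper23.SecTw Groth.Agent.Lib.Helper23.GenLocus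
  Groth.Agent.Lib.Helper23.Extend Groth.Agent.Lib.Helper6 Groth.Agent.Lib.Helper23.LocGen
open Groth.Agent.Lib.R2H1.CurveAmple Groth.Agent.Lib.R2H2.PnSerre

variable (k : Type u) [Field k] (X : Scheme.{u}) [X.Over (Spec (CommRingCat.of k))]
    [IsIntegral X] [IsProper (X ↘ (Spec (CommRingCat.of k)))]

/-- under the lifting hypothesis and positive degree, some power of `L` has vanishing `H¹` -/
theorem exists_vanishing_tensorPow (hdim : topologicalKrullDim X = 1) (L : X.Modules)
    (hL : PicF.IsInvertible L) (s : Coh.structureModule X ⟶ L) (hs : s ≠ 0)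
    (lift₀ : ∀ q : Coh.structureModule X ⟶ cokernel s, ∃ t : Coh.structureModule X ⟶ L,
      t ≫ cokernel.π s = q) (hdeg : 0 < Curv2.deg k X L 1) :
    ∃ m : ℕ, Subsingleton (Coh.HH X (CohB1.tensorPow L m) 1) := by
  have hP : PicF.IsInvertible (CohB1.tensorPow L 1) := isInvertible_tensorPow hL 1
  have hgg : Curv2.IsGloballyGenerated (CohB1.tensorPow L 1) :=
    isGloballyGenerated_of_locGen _ (finrank_H1_and_locGen_tensorPow k X hdim L hL s hs lift₀ 1).2
  have hdegP : 0 < Curv2.deg k X (CohB1.tensorPow L 1) 1 := by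
    rw [deg_tensorPow k X hdim L hL 1]
    simpa using hdeg
  obtain ⟨n, r, hr, hfin, ⟨τ⟩⟩ := exists_finite_to_projSpace k X hdim _ hP hgg hdegP
  obtain ⟨d₀, hd₀⟩ := exists_vanishing_pullback_twist k X n r hr
  refine ⟨d₀.toNat, ?_⟩
  have h1 := hd₀ (d₀.toNat : ℤ) (Int.self_le_toNat d₀) 1 Nat.one_pos
  have hO1inv := (Groth.Agent.Lib.R2H2.QProjK0.isAmple_twistProjSpace_one n k).1
  obtain ⟨e1⟩ := Groth.Agent.Lib.R2H2.QProjK0.nonempty_twist_iso_tensorPow n k d₀.toNat
  obtain ⟨e2⟩ := Groth.Agent.Lib.Helper23.PB.nonempty_pullback_tensorPow_iso r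
    (Twist.twistProjSpace n k 1) hO1inv d₀.toNat
  obtain ⟨e4⟩ := nonempty_tensorPow_tensorPow_iso L hL 1 d₀.toNat d₀.toNat (one_mul _)
  exact subsingleton_HH_of_iso
    ((((Scheme.Modules.pullback r).mapIso e1) ≪≫ e2) ≪≫
      (Groth.Agent.Lib.Helper23.AmpleIso.tensorPowIso τ d₀.toNat) ≪≫ e4) 1 h1

end Part10

section Part11


open Groth.Agent.Lib.Helper23.SecTw Groth.Agent.Lib.Helper23.GenLocus
  Groth.Agent.Lib.Helper23.Extend Groth.Agent.Lib.Helper6 Groth.Agent.Lib.Helper23.LocGen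
open Groth.Agent.Lib.R2H1.CurveAmple Groth.Agent.Lib.R2H2.PnSerre
open Groth.Agent.Lib.R2H1.GenusLe Groth.Agent.Lib.R2H1.BirDeg
  Groth.Agent.Lib.R2H1.CurveDegSec Groth.Agent.Lib.R2H1.CurveEuler
  Groth.Agent.Lib.R2H1.GenusZero Groth.Agent.Lib.R2H1.InvHom Groth.Agent.Lib.R2H1.ZeroDimCoh
  Groth.Agent.Lib.R2H1.FinrankChain Groth.Agent.Lib.R2H1.EulerAdd

variable (k : Type u) [Field k] (X : Scheme.{u}) [X.Over (Spec (CommRingCat.of k))]
    [IsIntegral X] [IsProper (X ↘ (Spec (CommRingCat.of k)))]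

theorem s1564 (hdim : topologicalKrullDim X = 1)
    (h0 : Module.finrank k (Coh.HH X (Coh.structureModule X) 0) = 1)
    (L : X.Modules) (hL : PicF.IsInvertible L) (hs : Nontrivial (Coh.HH X L 0)) :
    (Module.finrank k (Coh.HH X L 0) : ℤ) ≤ Curv2.deg k X L 1 + 1 ∧
      ((Module.finrank k (Coh.HH X L 0) : ℤ) = Curv2.deg k X L 1 + 1 → 0 < Curv2.deg k X L 1 →
        Curv2.genus k X = 0) := by
  haveI := isNoetherian_of_proper k X
  have hO := Groth.Agent.Lib.Helper23.TensorUnit.isInvertible_structureModule X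
  have cO := isCoh_of_isInvertible _ hO
  have cL := isCoh_of_isInvertible L hL
  haveI := finite_HH k X L cL 0
  have hpos : 0 < Module.finrank k (Coh.HH X L 0) := Module.finrank_pos
  obtain ⟨s, hsne⟩ := exists_section_of_pos k X L cL hpos
  haveI hmono : Mono s := mono_of_ne_zero hO hL s hsne
  have cQ : Coh.IsCoh (cokernel s) := Groth.Agent.Lib.R2H2.NilFilt.isCoh_cokernel cO cL s
  let S : ShortComplex X.Modules := ShortComplex.mk s (cokernel.π s) (cokernel.condition _)
  have hS : S.ShortExact :=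
    { exact := ShortComplex.exact_cokernel _
      mono_f := hmono
      epi_g := inferInstanceAs (Epi (cokernel.π s)) }
  have hdeg := deg_eq k X hdim L hL s hsne
  have hle : hh k X L 0 ≤ hh k X (Coh.structureModule X) 0 + hh k X (cokernel s) 0 :=
    hh_mid_le k S hS cO cL cQ 0
  have hle' : Module.finrank k (Coh.HH X L 0) ≤
      Module.finrank k (Coh.HH X (Coh.structureModule X) 0) +
        Module.finrank k (Coh.HH X (cokernel s) 0) := hle
  refine ⟨by rw [hdeg]; rw [h0] at hle'; omega, fun heq hdpos => ?_⟩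
  -- equality case
  have eL := euler_eq_h0_sub_h1 k X hdim.le L cL.1
  have eO := euler_eq_h0_sub_h1 k X hdim.le (Coh.structureModule X) cO.1
  have hd : Curv2.deg k X L 1 = Curv2.euler k X L - Curv2.euler k X (Coh.structureModule X) := by
    unfold Curv2.deg
    simp only [Nat.cast_one, one_mul]
  have h1eq : Module.finrank k (Coh.HH X (Coh.structureModule X) 1) =
      Module.finrank k (Coh.HH X L 1) := by
    rw [eL, eO, h0] at hd
    push_cast at hd
    omega
  obtain ⟨D, hDne, hD⟩ := exists_open_stalk_cokernel hO hL s hsne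
  have hsupp := dim_support_le_zero_of_stalks hdim.le D (D.isOpen.dense hDne) (cokernel s) hD
  have h3 : Subsingleton (Coh.HH X (cokernel s) 1) := s1526 k X _ cQ hsupp 1 le_rfl
  have lift₀ : ∀ q : Coh.structureModule X ⟶ cokernel s, ∃ t : Coh.structureModule X ⟶ L,
      t ≫ cokernel.π s = q := fun q =>
    exists_lift_of_finrank_eq k X S hS cO cL h3 h1eq q
  obtain ⟨m, hm⟩ := exists_vanishing_tensorPow k X hdim L hL s hsne lift₀ hdpos
  have hfin := finrank_H1_tensorPow k X hdim L hL s hsne lift₀ m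
  unfold Curv2.genus
  rw [← hfin]
  exact Module.finrank_zero_of_subsingleton

end Part11

end Groth.Agent.Lib.R2H1.CurveLinSeries
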