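import Mathlib
import Groth.Agent.S2331
import Groth.Agent.Lib.Helper23ModLocal

/-! Y-blow-ups (Y-trivialized relatively ample modules): isIso_iff_genLocus_eq_top (s : O ⟶ L iso iff genLocus = ⊤), isIso_pullback_map_iff (f^* s iso iff f⁻¹ genLocus = ⊤, L invertible), main (composition of Y-blow-ups, S17892) (helper9). -/

set_option autoImplicit false
set_option linter.style.haveILetI false
set_option linter.unusedSimpArgs false
set_option linter.unusedVariables false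
universe u

namespace Groth.Agent.Lib.H9YBlowUp

open CategoryTheory CategoryTheory.Limits AlgebraicGeometry TopologicalSpace

-- ===== part YBlow =====
section

open Groth.Agent.Lib.Helper23.AmpleIso Groth.Agent.Lib.Helper23.SecTw Groth.Agent.Lib.Helper23.AmpleComp
open Groth.Agent.Lib.Helper23.PB

/-- a section `s : O ⟶ L` is an isomorphism iff its generating locus is everything -/
theorem isIso_iff_genLocus_eq_top {X : Scheme.{u}} (L : X.Modules) (s : Coh.structureModule X ⟶ L) :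
    IsIso s ↔ CohB1.genLocus L s = ⊤ := by
  constructor
  · intro h
    rw [eq_top_iff]
    refine le_sSup ?_
    show IsIso ((Scheme.Modules.restrictFunctor (⊤ : X.Opens).ι).map s)
    infer_instance
  · intro h
    have hx : ∀ x : X, ∃ U : X.Opens, x ∈ U ∧ IsIso ((Scheme.Modules.restrictFunctor U.ι).map s) := by
      intro x
      have hx : x ∈ CohB1.genLocus L s := by rw [h]; trivial
      unfold CohB1.genLocus at hx
      rw [Opens.mem_sSup] at hx
      obtain ⟨U, hU, hxU⟩ := hx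
      exact ⟨U, hxU, hU⟩
    choose U hxU hU using hx
    refine Groth.Agent.Lib.Helper23.ModLocal.isIso_of_isIso_restrict s (fun x : X => ((U x : X.Opens) : Scheme.{u}))
      (fun x => (U x).ι) (fun x => ⟨x, ⟨x, hxU x⟩, rfl⟩) hU

/-- the pullback of a section is an isomorphism iff the morphism factors through the generating locus -/
theorem isIso_pullback_map_iff {X Y : Scheme.{u}} (f : X ⟶ Y) (L : Y.Modules) (hL : PicF.IsInvertible L)
    (s : Coh.structureModule Y ⟶ L) :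
    IsIso ((Scheme.Modules.pullback f).map s) ↔ f ⁻¹ᵁ CohB1.genLocus L s = ⊤ := by
  rw [← genLocus_pullback f L hL s (pullbackUnitIso f).symm, ← isIso_iff_genLocus_eq_top]
  constructor
  · intro h
    infer_instance
  · intro h
    have : (Scheme.Modules.pullback f).map s =
        (pullbackUnitIso f).hom ≫ ((pullbackUnitIso f).symm.hom ≫ (Scheme.Modules.pullback f).map s) := by
      simp
    rw [this]
    infer_instance

end

-- ===== part YBlow2 =====
section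

open Groth.Agent.Lib.Helper23.AmpleIso Groth.Agent.Lib.Helper23.SecTw Groth.Agent.Lib.Helper23.AmpleComp
open Groth.Agent.Lib.Helper23.PB

theorem main {X Y : Scheme.{u}} (f : Y ⟶ X)
    [CompactSpace X] [QuasiSeparatedSpace X] [CompactSpace Y] [QuasiSeparatedSpace Y] [IsAffineHom f]
    {Xᵢ Xⱼ : Scheme.{u}} (fᵢ : Y ⟶ Xᵢ) (gᵢ : Xᵢ ⟶ X) (fⱼ : Y ⟶ Xⱼ) (gᵢⱼ : Xⱼ ⟶ Xᵢ)
    (hᵢ : IsSchemeTheoreticallyDominant fᵢ ∧ IsProper gᵢ ∧ fᵢ ≫ gᵢ = f ∧
        ∃ (L : Xᵢ.Modules) (ε : Coh.structureModule Xᵢ ⟶ L),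
          RelAmple.IsRelAmple gᵢ L ∧ IsIso ((Scheme.Modules.pullback fᵢ).map ε))
    (hⱼ : IsSchemeTheoreticallyDominant fⱼ ∧ IsProper gᵢⱼ ∧ fⱼ ≫ gᵢⱼ = fᵢ ∧
        ∃ (L : Xⱼ.Modules) (ε : Coh.structureModule Xⱼ ⟶ L),
          RelAmple.IsRelAmple gᵢⱼ L ∧ IsIso ((Scheme.Modules.pullback fⱼ).map ε)) :
    IsSchemeTheoreticallyDominant fⱼ ∧ IsProper (gᵢⱼ ≫ gᵢ) ∧ fⱼ ≫ (gᵢⱼ ≫ gᵢ) = f ∧
        ∃ (L : Xⱼ.Modules) (ε : Coh.structureModule Xⱼ ⟶ L),
          RelAmple.IsRelAmple (gᵢⱼ ≫ gᵢ) L ∧ IsIso ((Scheme.Modules.pullback fⱼ).map ε) := by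
  obtain ⟨-, hpi, hfi, Li, εi, hLi, hεi⟩ := hᵢ
  obtain ⟨hdj, hpj, hfj, Lj, εj, hLj, hεj⟩ := hⱼ
  haveI := hpi
  haveI := hpj
  refine ⟨hdj, inferInstance, by rw [← Category.assoc, hfj, hfi], ?_⟩
  have hLiinv : PicF.IsInvertible Li := isInvertible_of_isRelAmple gᵢ Li hLi
  have hLjinv : PicF.IsInvertible Lj := isInvertible_of_isRelAmple gᵢⱼ Lj hLj
  obtain ⟨n₀, hn₀, hn⟩ := Groth.Agent.S2331.result gᵢⱼ gᵢ Lj Li hLj hLi
  have hpow : PicF.IsInvertible (CohB1.tensorPow Li n₀) := isInvertible_tensorPow hLiinv n₀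
  have hpb : PicF.IsInvertible ((Scheme.Modules.pullback gᵢⱼ).obj (CohB1.tensorPow Li n₀)) :=
    isInvertible_pullback gᵢⱼ _ hpow
  refine ⟨CohB1.tensorMod Lj ((Scheme.Modules.pullback gᵢⱼ).obj (CohB1.tensorPow Li n₀)),
    SecTwist.tmulHom εj ((pullbackUnitIso gᵢⱼ).symm.hom ≫
      (Scheme.Modules.pullback gᵢⱼ).map (SecTwist.powHom εi n₀)), hn n₀ le_rfl, ?_⟩
  rw [isIso_pullback_map_iff fⱼ _ (isInvertible_tensorMod hLjinv hpb), genLocus_tmulHom hLjinv hpb,
    genLocus_pullback gᵢⱼ _ hpow, genLocus_powHom hLiinv εi n₀ hn₀]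
  rw [isIso_pullback_map_iff fⱼ Lj hLjinv] at hεj
  rw [isIso_pullback_map_iff fᵢ Li hLiinv, ← hfj] at hεi
  rw [Scheme.Hom.preimage_inf, hεj, top_inf_eq]
  exact hεi

end

end Groth.Agent.Lib.H9YBlowUp
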