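import Mathlib
import Groth.Prelude
import Groth.Agent.Lib.R2H1EulerAdd
import Groth.Agent.Lib.Helper2RankLoc
import Groth.Agent.Lib.Helper23StalkLin
import Groth.Agent.Lib.Helper2LocFree
import Groth.Agent.Lib.Helper2FibreCrit2
import Groth.Agent.Lib.R2H2KoszulShift
import Groth.Agent.Lib.R2H2PushCoh

set_option autoImplicit false
set_option linter.style.haveILetI false
universe u
open CategoryTheory Limits AlgebraicGeometry TopologicalSpace Opposite

namespace Groth.Agent.Lib.R2H4DegAdd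

open Groth.Agent.Lib.Helper4.NormDelta Groth.Agent.Lib.Helper23.StalkLin

/-- ranks add in a short exact sequence of finite free modules over a nontrivial commutative ring -/
theorem finrank_add_of_exact {R : Type*} [CommRing R] [Nontrivial R]
    {M₁ M₂ M₃ : Type*} [AddCommGroup M₁] [AddCommGroup M₂] [AddCommGroup M₃]
    [Module R M₁] [Module R M₂] [Module R M₃]
    [Module.Free R M₁] [Module.Free R M₃] [Module.Finite R M₁] [Module.Finite R M₃]
    (f : M₁ →ₗ[R] M₂) (g : M₂ →ₗ[R] M₃) (hf : Function.Injective f) (hg : Function.Surjective g)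
    (h : Function.Exact f g) :
    Module.finrank R M₂ = Module.finrank R M₁ + Module.finrank R M₃ := by
  obtain ⟨s, hs⟩ := Module.projective_lifting_property g LinearMap.id hg
  obtain ⟨e, -, -⟩ := (h.splitSurjectiveEquiv hf ⟨s, hs⟩)
  rw [e.finrank_eq, Module.finrank_prod]

variable {X : Scheme.{u}}

theorem isFinLocFree_of_rank {M : X.Modules} {r : ℕ} (h : FlatMod.IsFinLocFreeOfRank r M) :
    FlatMod.IsFinLocFree M := fun x => by
  obtain ⟨U, hxU, e⟩ := h x
  exact ⟨U, r, hxU, e⟩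

theorem isCoh_of_rank {M : X.Modules} {r : ℕ} (h : FlatMod.IsFinLocFreeOfRank r M) :
    Coh.IsCoh M := by
  haveI := Groth.Agent.Lib.Helper2.LocFree.isFP_of_isFinLocFree M (isFinLocFree_of_rank h)
  exact ⟨inferInstance, inferInstance⟩

/-- stalks of a finite locally free module of rank `r` are free of rank `r` -/
theorem stalk_facts {M : X.Modules} {r : ℕ} (h : FlatMod.IsFinLocFreeOfRank r M) (x : X) :
    Module.Free (X.presheaf.stalk x) (M.presheaf.stalk x) ∧
    Module.Finite (X.presheaf.stalk x) (M.presheaf.stalk x) ∧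
    Module.finrank (X.presheaf.stalk x) (M.presheaf.stalk x) = r := by
  obtain ⟨hq, hft⟩ := isCoh_of_rank h
  haveI : M.IsQuasicoherent := hq
  haveI : SheafOfModules.IsFiniteType (R := X.ringCatSheaf) M := hft
  obtain ⟨U, hxU, ⟨e⟩⟩ := h x
  obtain ⟨h1, h2⟩ := Groth.Agent.Lib.Helper2.RankLoc.fibreRank_eq_of_restrict_iso_freeMod U.ι M e
    ⟨x, hxU⟩
  have hx : U.ι ⟨x, hxU⟩ = x := rfl
  rw [hx] at h1 h2
  haveI := h1
  refine ⟨h1, Groth.Agent.Lib.Helper2.FibreCrit.finite_stalk M x, ?_⟩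
  rw [← h2]
  exact (Module.finrank_baseChange (R := IsLocalRing.ResidueField (X.presheaf.stalk x))
    (S := X.presheaf.stalk x) (M' := M.presheaf.stalk x)).symm

/-- ranks add in short exact sequences of finite locally free modules of constant rank -/
theorem rank_add [Nonempty X] (S : ShortComplex X.Modules) (hS : S.ShortExact)
    (n₁ n₂ n₃ : ℕ) (h₁ : FlatMod.IsFinLocFreeOfRank n₁ S.X₁) (h₂ : FlatMod.IsFinLocFreeOfRank n₂ S.X₂)
    (h₃ : FlatMod.IsFinLocFreeOfRank n₃ S.X₃) : n₂ = n₁ + n₃ := by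
  obtain ⟨x⟩ := (inferInstance : Nonempty X)
  obtain ⟨f1, t1, r1⟩ := stalk_facts h₁ x
  obtain ⟨f2, t2, r2⟩ := stalk_facts h₂ x
  obtain ⟨f3, t3, r3⟩ := stalk_facts h₃ x
  haveI := hS.mono_f
  haveI := hS.epi_g
  have := finrank_add_of_exact (stalkLin S.f x) (stalkLin S.g x) (stalkLin_injective S.f x)
    (stalkLin_surjective S.g x) (stalkLin_exact S hS x)
  rw [r1, r2, r3] at this
  exact this

theorem euler_eq_zero_of_isEmpty (k : Type u) [Field k] [X.Over (Spec (CommRingCat.of k))] [IsEmpty X]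
    (F : X.Modules) : Curv2.euler k X F = 0 := by
  unfold Curv2.euler
  apply finsum_eq_zero_of_forall_eq_zero
  intro i
  haveI := Groth.Agent.Lib.R2H2.KoszulShift.subsingleton_HH_of_isZero
    (Groth.Agent.Lib.R2H2.PushCoh.isZero_of_isEmpty F) i
  rw [Module.finrank_zero_of_subsingleton]
  simp

theorem main (k : Type u) [Field k] (X : Scheme.{u}) [X.Over (Spec (CommRingCat.of k))]
    [IsProper (X ↘ (Spec (CommRingCat.of k)))]
    (S : ShortComplex X.Modules) (hS : S.ShortExact)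
    (n₁ n₂ n₃ : ℕ) (h₁ : FlatMod.IsFinLocFreeOfRank n₁ S.X₁) (h₂ : FlatMod.IsFinLocFreeOfRank n₂ S.X₂)
    (h₃ : FlatMod.IsFinLocFreeOfRank n₃ S.X₃) :
    Curv2.deg k X S.X₂ n₂ = Curv2.deg k X S.X₁ n₁ + Curv2.deg k X S.X₃ n₃ := by
  unfold Curv2.deg
  by_cases hX : Nonempty X
  · have hr := rank_add S hS n₁ n₂ n₃ h₁ h₂ h₃
    have he := Groth.Agent.Lib.R2H1.EulerAdd.s1524 k X S hS (isCoh_of_rank h₁) (isCoh_of_rank h₂)
      (isCoh_of_rank h₃)
    rw [he, hr]
    push_cast
    ring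
  · haveI : IsEmpty X := not_nonempty_iff.1 hX
    simp [euler_eq_zero_of_isEmpty]

end Groth.Agent.Lib.R2H4DegAdd
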