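import Mathlib
import Groth.Prelude
import Groth.Agent.Lib.R2H1BirDeg
import Groth.Agent.Lib.R2H4DegAdd
import Groth.Agent.Lib.R2H2DevC
import Groth.Agent.Lib.R2H2DevI
import Groth.Agent.Lib.R2H2ResField
import Groth.Agent.Lib.Helper23StalkLin
set_option backward.isDefEq.respectTransparency.types false

/-!
# Euler characteristic of E ⊗ F on an integral proper curve (helper1, round 2)

Namespace `Groth.Agent.Lib.R2H1.EulerTensor`.

* `grk F` : generic rank; `grk_add` (additive in short exact sequences of coherent modules), `grk_congr`.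
* `defect k X n E F = χ(E ⊗ F) - grk F · deg E - n · χ(F)`; `defect_add`, `defect_congr`,
  `defect_eq_zero_of_dim_zero`, `defect_structure`, `defect_eq_zero` (dévissage).
* `s1557` : `χ(E ⊗ F) = rk F · deg E + n · χ(F)` (= S1557).
-/

set_option autoImplicit false
set_option linter.style.haveILetI false
set_option linter.unusedSectionVars false
universe u v

open CategoryTheory CategoryTheory.Limits AlgebraicGeometry TopologicalSpace Opposite

namespace Groth.Agent.Lib.R2H1.EulerTensor

section Part1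

open Groth.Agent.Lib.Helper4.NormDelta Groth.Agent.Lib.Helper23.StalkLin

section Rank

variable {X : Scheme.{u}} [IsIntegral X]

/-- the generic rank of a module on an integral scheme -/
noncomputable def grk (F : X.Modules) : ℕ :=
  Module.finrank (X.presheaf.stalk (genericPoint X)) (F.presheaf.stalk (genericPoint X))

noncomputable instance fieldStalk : Field (X.presheaf.stalk (genericPoint X)) :=
  inferInstanceAs (Field X.functionField)

theorem grk_add (S : ShortComplex X.Modules) (hS : S.ShortExact)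
    (h₁ : Coh.IsCoh S.X₁) (h₃ : Coh.IsCoh S.X₃) :
    grk S.X₂ = grk S.X₁ + grk S.X₃ := by
  haveI := hS.mono_f
  haveI := hS.epi_g
  haveI := Groth.Agent.Lib.R2H2.DevA.finite_stalk S.X₁ h₁ (genericPoint X)
  haveI := Groth.Agent.Lib.R2H2.DevA.finite_stalk S.X₃ h₃ (genericPoint X)
  exact Groth.Agent.Lib.R2H4DegAdd.finrank_add_of_exact
    (stalkLin S.f (genericPoint X)) (stalkLin S.g (genericPoint X))
    (stalkLin_injective S.f _) (stalkLin_surjective S.g _) (stalkLin_exact S hS _)

theorem grk_congr {M N : X.Modules} (e : M ≅ N) : grk M = grk N :=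
  (LinearEquiv.ofBijective (stalkLin e.hom (genericPoint X))
    ⟨stalkLin_injective e.hom _, stalkLin_surjective e.hom _⟩).finrank_eq

theorem grk_eq_zero (F : X.Modules) (h : genericPoint X ∉ CohB1.support F) : grk F = 0 := by
  haveI : Subsingleton (F.presheaf.stalk (genericPoint X)) := not_not.mp h
  exact Module.finrank_zero_of_subsingleton

end Rank

end Part1

section Part2


open Groth.Agent.Lib.Helper4.NormDelta Groth.Agent.Lib.Helper23.StalkLin
open Groth.Agent.Lib.R2H1.BirDeg Groth.Agent.Lib.R2H1.GenusLe Groth.Agent.Lib.R2H1.DegCartier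
  Groth.Agent.Lib.R2H1.EulerAdd Groth.Agent.Lib.R2H1.SkyDecomp Groth.Agent.Lib.R2H1.CurveEuler
  Groth.Agent.Lib.R2H1.CurveDegSec Groth.Agent.Lib.Helper21.Dual
  Groth.Agent.Lib.Helper21.ModTensor Groth.Agent.Lib.Helper21.ModTensor2 Groth.Agent.Lib.Helper21.ModTensor5 Groth.Agent.Lib.R2H1.ZeroDimCoh

section Main

variable (k : Type u) [Field k] (X : Scheme.{u}) [X.Over (Spec (CommRingCat.of k))]
    [IsIntegral X] [IsProper (X ↘ (Spec (CommRingCat.of k)))]

/-- the defect of the formula `χ(E ⊗ F) = rk F · deg E + n · χ(F)` -/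
noncomputable def defect (n : ℕ) (E F : X.Modules) : ℤ :=
  Curv2.euler k X (CohB1.tensorMod E F) - (grk F : ℤ) * Curv2.deg k X E n -
    n * Curv2.euler k X F

theorem dim_univ_le {T : Type*} [TopologicalSpace T] :
    topologicalKrullDim T ≤ topologicalKrullDim (Set.univ : Set T) :=
  Topology.IsInducing.topologicalKrullDim_le
    (f := fun x : T => (⟨x, trivial⟩ : (Set.univ : Set T)))
    (Homeomorph.Set.univ T).symm.isInducing

theorem generic_not_mem_support (hdim : topologicalKrullDim X = 1) (F : X.Modules)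
    (hF : Coh.IsCoh F) (hsupp : topologicalKrullDim (CohB1.support F) ≤ 0) :
    genericPoint X ∉ CohB1.support F := by
  intro hmem
  have hcl : IsClosed (CohB1.support F) := Groth.Agent.S0020.result X F hF.2
  have huniv : CohB1.support F = Set.univ := by
    rw [Set.eq_univ_iff_forall]
    intro x
    have h1 : closure {genericPoint X} ⊆ CohB1.support F :=
      closure_minimal (Set.singleton_subset_iff.mpr hmem) hcl
    rw [(genericPoint_spec X).def] at h1
    exact h1 (Set.mem_univ x)
  rw [huniv] at hsupp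
  have h2 : topologicalKrullDim X ≤ 0 := le_trans dim_univ_le hsupp
  rw [hdim] at h2
  exact absurd h2 (by decide)

theorem defect_eq_zero_of_dim_zero (hdim : topologicalKrullDim X = 1) (n : ℕ) (E : X.Modules)
    (hE : FlatMod.IsFinLocFreeOfRank n E) (F : X.Modules)
    (hF : Coh.IsCoh F) (hsupp : topologicalKrullDim (CohB1.support F) ≤ 0) :
    defect k X n E F = 0 := by
  have h1 : grk F = 0 := grk_eq_zero F (generic_not_mem_support X hdim F hF hsupp)
  have h2 : Curv2.euler k X (CohB1.tensorMod E F) = n * Curv2.euler k X F :=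
    (euler_congr k (brdApp X.sheaf E F)).trans (s1558 k X F hF hsupp n E hE)
  unfold defect
  rw [h1, h2]
  simp

end Main

end Part2

section Part3


open Groth.Agent.Lib.Helper4.NormDelta Groth.Agent.Lib.Helper23.StalkLin
open Groth.Agent.Lib.R2H1.BirDeg Groth.Agent.Lib.R2H1.GenusLe Groth.Agent.Lib.R2H1.DegCartier
  Groth.Agent.Lib.R2H1.EulerAdd Groth.Agent.Lib.R2H1.SkyDecomp Groth.Agent.Lib.R2H1.CurveEuler
  Groth.Agent.Lib.R2H1.CurveDegSec Groth.Agent.Lib.Helper21.Dual
  Groth.Agent.Lib.Helper21.ModTensor Groth.Agent.Lib.Helper21.ModTensor2 Groth.Agent.Lib.Helper21.ModTensor5 Groth.Agent.Lib.R2H1.ZeroDimCoh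

section Main

variable (k : Type u) [Field k] (X : Scheme.{u}) [X.Over (Spec (CommRingCat.of k))]
    [IsIntegral X] [IsProper (X ↘ (Spec (CommRingCat.of k)))]

theorem isFinLocFree_of_rank {n : ℕ} {E : X.Modules} (hE : FlatMod.IsFinLocFreeOfRank n E) :
    FlatMod.IsFinLocFree E := fun x => by
  obtain ⟨U, hx, e⟩ := hE x
  exact ⟨U, n, hx, e⟩

theorem defect_add (n : ℕ) (E : X.Modules) (hE : FlatMod.IsFinLocFreeOfRank n E)
    (S : ShortComplex X.Modules) (hS : S.ShortExact)
    (c₁ : Coh.IsCoh S.X₁) (c₂ : Coh.IsCoh S.X₂) (c₃ : Coh.IsCoh S.X₃) :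
    defect k X n E S.X₂ = defect k X n E S.X₁ + defect k X n E S.X₃ := by
  have hEf := isFinLocFree_of_rank X hE
  have hEc : Coh.IsCoh E := Groth.Agent.Lib.R2H2.PnLocFree.isCoh_of_isFinLocFree E hEf
  have hfl := Groth.Agent.Lib.R2H2.PullLF.isFlat_of_isFinLocFree E hEf
  have a := s1524 k X S hS c₁ c₂ c₃
  have t := Groth.Agent.Lib.R2Lead.TensorExact.shortExact_map_tensorBi E (fun x => hfl x) S hS
  have d₁ : Coh.IsCoh (S.map (DCoh.tensorBi.obj E)).X₁ := isCoh_tensorMod hEc c₁
  have d₂ : Coh.IsCoh (S.map (DCoh.tensorBi.obj E)).X₂ := isCoh_tensorMod hEc c₂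
  have d₃ : Coh.IsCoh (S.map (DCoh.tensorBi.obj E)).X₃ := isCoh_tensorMod hEc c₃
  have b₀ := s1524 k X _ t d₁ d₂ d₃
  have b : Curv2.euler k X (CohB1.tensorMod E S.X₂) =
      Curv2.euler k X (CohB1.tensorMod E S.X₁) + Curv2.euler k X (CohB1.tensorMod E S.X₃) := b₀
  have g := grk_add S hS c₁ c₃
  unfold defect
  rw [a, b, g]
  push_cast
  ring

theorem defect_congr (n : ℕ) (E : X.Modules) {M N : X.Modules} (e : M ≅ N) :
    defect k X n E M = defect k X n E N := by
  have h : Curv2.euler k X (CohB1.tensorMod E M) = Curv2.euler k X (CohB1.tensorMod E N) :=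
    euler_congr k ((DCoh.tensorBi.obj E).mapIso e)
  unfold defect
  rw [grk_congr e, euler_congr k e, h]

theorem defect_structure (n : ℕ) (E : X.Modules) (hE : FlatMod.IsFinLocFreeOfRank n E) :
    defect k X n E (Coh.structureModule X) = 0 := by
  have d1 : Curv2.euler k X (CohB1.tensorMod E (Coh.structureModule X)) = Curv2.euler k X E :=
    euler_congr k (Groth.Agent.Lib.Helper21.Dual.rU X.sheaf E)
  have h1 := Groth.Agent.Lib.Helper23.SecTw.isFinLocFreeOfRank_one_of_isInvertible _
    (Groth.Agent.Lib.Helper23.TensorUnit.isInvertible_structureModule X)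
  have h2 : grk (Coh.structureModule X) = 1 :=
    (Groth.Agent.Lib.R2H4DegAdd.stalk_facts h1 (genericPoint X)).2.2
  unfold defect Curv2.deg
  rw [d1, h2]
  push_cast
  ring

end Main

end Part3

section Part4


open Groth.Agent.Lib.Helper4.NormDelta Groth.Agent.Lib.Helper23.StalkLin
open Groth.Agent.Lib.R2H1.BirDeg Groth.Agent.Lib.R2H1.GenusLe Groth.Agent.Lib.R2H1.DegCartier
  Groth.Agent.Lib.R2H1.EulerAdd Groth.Agent.Lib.R2H1.SkyDecomp Groth.Agent.Lib.R2H1.CurveEuler
  Groth.Agent.Lib.R2H1.CurveDegSec Groth.Agent.Lib.Helper21.Dual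
  Groth.Agent.Lib.Helper21.ModTensor Groth.Agent.Lib.Helper21.ModTensor2 Groth.Agent.Lib.Helper21.ModTensor5 Groth.Agent.Lib.R2H1.ZeroDimCoh

section Main

variable (k : Type u) [Field k] (X : Scheme.{u}) [X.Over (Spec (CommRingCat.of k))]
    [IsIntegral X] [IsProper (X ↘ (Spec (CommRingCat.of k)))]

theorem defect_eq_zero (hdim : topologicalKrullDim X = 1) (n : ℕ) (E : X.Modules)
    (hE : FlatMod.IsFinLocFreeOfRank n E) (F : X.Modules) (hF : Coh.IsCoh F) :
    defect k X n E F = 0 := by
  haveI := isNoetherian_of_proper k X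
  have h0 : ∀ M : X.Modules, IsZero M → defect k X n E M = 0 := by
    intro M hM
    have cM := Groth.Agent.Lib.R2H2.KcohLoc.isCoh_of_isZero hM
    refine defect_eq_zero_of_dim_zero k X hdim n E hE M cM ?_
    have hempty : CohB1.support M = ∅ := by
      rw [Set.eq_empty_iff_forall_notMem]
      intro x hx
      exact hx (Groth.Agent.Lib.R2H2.StalkPow.subsingleton_stalk_of_isZero hM x)
    rw [hempty]
    haveI : IsEmpty (IrreducibleCloseds (∅ : Set X)) := ⟨fun c => by
      obtain ⟨x, -⟩ := c.isIrreducible.nonempty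
      exact x.2.elim⟩
    rw [topologicalKrullDim, Order.krullDim_eq_bot]
    exact bot_le
  refine Groth.Agent.Lib.R2H2.DevC.devissage (fun F => defect k X n E F = 0) h0 Set.univ
    isClosed_univ (fun s => s = 1) ?_ ?_ ?_ F hF (Set.subset_univ _)
  · intro S hS c₁ c₂ c₃ _
    have h := defect_add k X n E hE S hS c₁ c₂ c₃
    refine ⟨fun p₁ p₂ => ?_, fun p₁ p₃ => ?_, fun p₂ p₃ => ?_⟩
    · have q₁ : defect k X n E S.X₁ = 0 := p₁
      have q₂ : defect k X n E S.X₂ = 0 := p₂
      show defect k X n E S.X₃ = 0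
      omega
    · have q₁ : defect k X n E S.X₁ = 0 := p₁
      have q₃ : defect k X n E S.X₃ = 0 := p₃
      show defect k X n E S.X₂ = 0
      omega
    · have q₂ : defect k X n E S.X₂ = 0 := p₂
      have q₃ : defect k X n E S.X₃ = 0 := p₃
      show defect k X n E S.X₁ = 0
      omega
  · intro F s _ hs hp
    subst hs
    exact (defect_congr k X n E (Groth.Agent.Lib.R2H2.StalkPow.powOneIso F)).symm.trans hp
  · intro Z hZ hirr _ y hy
    by_cases hyξ : y = genericPoint X
    · subst hyξ
      refine ⟨Coh.structureModule X, isCoh_structureModule X, defect_structure k X n E hE, ?_, ?_⟩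
      · intro x _
        rw [← hy, (genericPoint_spec X).def]
        trivial
      · intro N _ _ _ _
        have h1 := Groth.Agent.Lib.Helper23.SecTw.isFinLocFreeOfRank_one_of_isInvertible _
          (Groth.Agent.Lib.Helper23.TensorUnit.isInvertible_structureModule X)
        obtain ⟨f1, t1, r1⟩ := Groth.Agent.Lib.R2H4DegAdd.stalk_facts h1 (genericPoint X)
        refine ⟨Module.finrank (X.presheaf.stalk (genericPoint X)) N, 1, rfl,
          ⟨LinearEquiv.ofFinrankEq _ _ ?_⟩⟩
        rw [Module.finrank_pi_fintype, Module.finrank_pi_fintype]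
        simp [r1]
    · have hne : Z ≠ Set.univ := by
        intro h
        apply hyξ
        rw [h] at hy
        exact ((genericPoint_spec X).eq hy).symm
      obtain ⟨W, i, hi, hW, hrange, hgen⟩ :=
        Groth.Agent.Lib.R2H2.DevD.exists_integral_closed Z hZ hirr y hy
      subst hgen
      have cG := Groth.Agent.Lib.R2H2.DevE.isCoh_pushO i
      have sG : CohB1.support ((Scheme.Modules.pushforward i).obj (Coh.structureModule W)) ⊆ Z :=
        hrange ▸ Groth.Agent.Lib.R2H2.DevE.support_push_subset i _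
      have hZ0 : topologicalKrullDim Z ≤ 0 := dim_le_zero_of_ne_univ hdim.le Z hZ hne
      have hd : topologicalKrullDim
          (CohB1.support ((Scheme.Modules.pushforward i).obj (Coh.structureModule W))) ≤ 0 :=
        le_trans (Topology.IsInducing.topologicalKrullDim_le
          (Topology.IsEmbedding.inclusion sG).isInducing) hZ0
      refine ⟨_, cG, defect_eq_zero_of_dim_zero k X hdim n E hE _ cG hd, sG, ?_⟩
      intro N _ _ _ hk
      obtain ⟨eN⟩ := Groth.Agent.Lib.R2H2.DevI.nonempty_stalk_pushO_equiv' i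
      obtain ⟨r, ⟨e⟩⟩ := Groth.Agent.Lib.R2H2.ResField.exists_equiv_pow_one N _ hk eN
      exact ⟨r, 1, rfl, ⟨LinearEquiv.funUnique (Fin 1) _ N ≪≫ₗ e⟩⟩

theorem s1557 (hdim : topologicalKrullDim X = 1)
    (n : ℕ) (E : X.Modules) (hE : FlatMod.IsFinLocFreeOfRank n E) (F : X.Modules) (hF : Coh.IsCoh F) :
    Curv2.euler k X (CohB1.tensorMod E F) =
      (Module.finrank (X.presheaf.stalk (genericPoint X)) (F.presheaf.stalk (genericPoint X)) : ℤ) * Curv2.deg k X E n +
        n * Curv2.euler k X F := by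
  have h := defect_eq_zero k X hdim n E hE F hF
  unfold defect grk at h
  linarith

end Main

end Part4

end Groth.Agent.Lib.R2H1.EulerTensor
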