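/-
Genus zero curves: invertible modules of positive degree have h0 = d+1 and H1 = 0 (S1635); nonzero maps of invertible modules on integral proper curves decrease h1.
-/
import Mathlib
import Groth.Prelude
import Groth.Agent.Lib.R2H1GenusLe

set_option autoImplicit false
set_option linter.style.haveILetI false
set_option linter.unusedSectionVars false
universe u v

namespace Groth.Agent.Lib.R2H1.GenusZero

section Part1

open CategoryTheory CategoryTheory.Limits AlgebraicGeometry TopologicalSpace Opposite
open Groth.Agent.Lib.R2H1.EulerAdd Groth.Agent.Lib.R2H1.CurveVanish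
open Groth.Agent.Lib.R2H1.CurveDegSec Groth.Agent.Lib.R2H1.CurveEuler
open Groth.Agent.Lib.R2H1.GenusLe Groth.Agent.Lib.R2H1.FinrankChain Groth.Agent.Lib.R2H1.InvHom

variable (k : Type u) [Field k] (X : Scheme.{u}) [X.Over (Spec (CommRingCat.of k))]
    [IsProper (X ↘ (Spec (CommRingCat.of k)))]

/-- a coherent module with `h^0 > 0` has a nonzero section -/
theorem exists_section_of_pos (L : X.Modules) (hLc : Coh.IsCoh L)
    (hpos : 0 < Module.finrank k (Coh.HH X L 0)) :
    ∃ s : Coh.structureModule X ⟶ L, s ≠ 0 := by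
  haveI := finite_HH k X L hLc 0
  obtain ⟨x, hx⟩ : ∃ x : Coh.HH X L 0, x ≠ 0 := by
    by_contra hcon
    push_neg at hcon
    haveI : Subsingleton (Coh.HH X L 0) := subsingleton_of_forall_eq 0 hcon
    rw [Module.finrank_zero_of_subsingleton] at hpos
    exact lt_irrefl _ hpos
  refine ⟨(Groth.Agent.Lib.R2H2.PnBeilinson.clsEquiv (k := k) L).symm x, ?_⟩
  intro h
  apply hx
  have := congrArg (Groth.Agent.Lib.R2H2.PnBeilinson.clsEquiv (k := k) L) h
  rw [LinearEquiv.apply_symm_apply, map_zero] at this
  exact this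

variable [IsIntegral X]

/-- `h^1(L) ≤ h^1(N)` for a nonzero map `N ⟶ L` of invertible modules on an integral proper
curve -/
theorem hh_one_le_of_ne_zero (hdim : topologicalKrullDim X = 1) (N L : X.Modules)
    (hN : PicF.IsInvertible N) (hL : PicF.IsInvertible L) (φ : N ⟶ L) (hφ : φ ≠ 0) :
    hh k X L 1 ≤ hh k X N 1 := by
  obtain ⟨D, hDne, hD⟩ := exists_open_stalk_cokernel hN hL φ hφ
  have hdense : Dense (D : Set X) := D.isOpen.dense hDne
  exact hh_one_le_of_generic_epi k hdim.le (isCoh_of_isInvertible N hN)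
    (isCoh_of_isInvertible L hL) φ D hdense hD

theorem s1635 (hdim : topologicalKrullDim X = 1)
    (h0 : Module.finrank k (Coh.HH X (Coh.structureModule X) 0) = 1) (hg : Curv2.genus k X = 0)
    (L : X.Modules) (hL : PicF.IsInvertible L) (d : ℕ) (hd : 0 < d)
    (hdeg : Curv2.deg k X L 1 = d) :
    Module.finrank k (Coh.HH X L 0) = d + 1 ∧ Subsingleton (Coh.HH X L 1) := by
  have hLc := isCoh_of_isInvertible L hL
  have hO := Groth.Agent.Lib.Helper23.TensorUnit.isInvertible_structureModule X
  have hOc := isCoh_of_isInvertible _ hO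
  have e1 := euler_eq_h0_sub_h1 k X hdim.le L hLc.1
  have e2 := euler_eq_h0_sub_h1 k X hdim.le (Coh.structureModule X) hOc.1
  have hg' : Module.finrank k (Coh.HH X (Coh.structureModule X) 1) = 0 := hg
  have hdeg' := hdeg
  unfold Curv2.deg at hdeg'
  rw [e1, e2, h0, hg'] at hdeg'
  have hpos : 0 < Module.finrank k (Coh.HH X L 0) := by
    push_cast at hdeg'
    omega
  obtain ⟨s, hs⟩ := exists_section_of_pos k X L hLc hpos
  have h1 := hh_one_le_of_ne_zero k X hdim _ L hO hL s hs
  have h1' : Module.finrank k (Coh.HH X L 1) = 0 := by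
    have : Module.finrank k (Coh.HH X L 1) ≤ Module.finrank k (Coh.HH X (Coh.structureModule X) 1) :=
      h1
    omega
  haveI := finite_HH k X L hLc 1
  refine ⟨?_, Module.finrank_zero_iff.mp h1'⟩
  rw [h1'] at hdeg'
  push_cast at hdeg'
  omega

end Part1

end Groth.Agent.Lib.R2H1.GenusZero
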