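import Mathlib
import Groth.Agent.Lib.Helper27ProjUniq2
import Groth.Agent.Lib.Helper23SecTw10
import Groth.Agent.Lib.Helper23Restr

/-!
# Morphisms to projective space defined by sections: charts (helper3, round 2)

For `r : X ⟶ P^n_R`, `τ : r^* O(1) ≅ L` with `τ (r^* T_i) = s i`:
* `res_eq` : on `r⁻¹ D₊(T_k)`, `s j = r^♯(T_j / T_k) • s k`
* `isGen_res` : `s k` generates `L` on `r⁻¹ D₊(T_k)`
* `preimage_eq` : `r⁻¹ D₊(T_k) = X_{s k}`.
* `generatedBy_of_cover` : sections whose loci cover generate.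
-/

set_option autoImplicit false
universe u
open CategoryTheory CategoryTheory.Limits AlgebraicGeometry TopologicalSpace Opposite

namespace Groth.Agent.Lib.R2H3.VAmpleMor

open Groth.Agent.Lib.Helper23.SecTw Groth.Agent.Lib.Helper23.GenLocus Groth.Agent.Lib.Helper6
  Groth.Agent.Lib.Helper23.AmpleIso Groth.Agent.Lib.Helper23.Extend Groth.Agent.Lib.Helper27GrTildeSect

section chart

variable {R A : Type u} [CommRing R] [CommRing A] [Algebra R A] (𝒜 : ℕ → Submodule R A) [GradedAlgebra 𝒜]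
variable {ι : Type*} (G : ι → A) (hG : ∀ j, G j ∈ 𝒜 1)
  (hcov : ∀ y : Proj 𝒜, ∃ i, G i ∉ (show ProjectiveSpectrum 𝒜 from y).asHomogeneousIdeal)
variable {X : Scheme.{u}} (r : X ⟶ Proj 𝒜) (L : X.Modules)
  (τ : (Scheme.Modules.pullback r).obj (GrTilde.tilde 𝒜 𝒜 ((1 : ℕ) : ℤ)) ≅ L)
  (s : ι → ProjUP.Γm L)
  (hτ : ∀ i, τ.hom.app ⊤ (ProjUP.pullSec r (GrTilde.tilde 𝒜 𝒜 ((1 : ℕ) : ℤ)) (gsec 𝒜 1 ⊤ (hG i))) = s i)

include hτ in
theorem res_eq_app (j k : ι) :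
    res L (le_top : r ⁻¹ᵁ Proj.basicOpen 𝒜 (G k) ≤ ⊤) (s j) =
      r.appLE (Proj.basicOpen 𝒜 (G k)) (r ⁻¹ᵁ Proj.basicOpen 𝒜 (G k)) le_rfl (cfun 𝒜 1 G hG j k) •
        τ.hom.app (r ⁻¹ᵁ Proj.basicOpen 𝒜 (G k)) (pj 𝒜 G hG r k) := by
  rw [← hτ j, ← Groth.Agent.Lib.Helper2.ModExact.app_smul]
  have h1 := res_pullSec_eq 𝒜 G hG r j k
  rw [← h1]
  exact (Groth.Agent.Lib.Helper2.ModExact.app_map τ.hom (homOfLE le_top) _).symm

include hτ in
theorem app_pj (k : ι) :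
    τ.hom.app (r ⁻¹ᵁ Proj.basicOpen 𝒜 (G k)) (pj 𝒜 G hG r k) =
      res L (le_top : r ⁻¹ᵁ Proj.basicOpen 𝒜 (G k) ≤ ⊤) (s k) := by
  have h := res_eq_app 𝒜 G hG r L τ s hτ k k
  rw [cfun_self, map_one, one_smul] at h
  exact h.symm

include hτ in
theorem res_eq (j k : ι) :
    res L (le_top : r ⁻¹ᵁ Proj.basicOpen 𝒜 (G k) ≤ ⊤) (s j) =
      r.appLE (Proj.basicOpen 𝒜 (G k)) (r ⁻¹ᵁ Proj.basicOpen 𝒜 (G k)) le_rfl (cfun 𝒜 1 G hG j k) •
        res L (le_top : r ⁻¹ᵁ Proj.basicOpen 𝒜 (G k) ≤ ⊤) (s k) := by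
  rw [← app_pj 𝒜 G hG r L τ s hτ k]
  exact res_eq_app 𝒜 G hG r L τ s hτ j k

include hτ in
theorem isGen_res (k : ι) :
    IsGen L (r ⁻¹ᵁ Proj.basicOpen 𝒜 (G k)) (res L (le_top : r ⁻¹ᵁ Proj.basicOpen 𝒜 (G k) ≤ ⊤) (s k)) := by
  rw [← app_pj 𝒜 G hG r L τ s hτ k]
  exact isGen_iso τ (isGen_pj 𝒜 G hG r k)

include hτ hcov in
theorem preimage_eq (k : ι) :
    r ⁻¹ᵁ Proj.basicOpen 𝒜 (G k) = CohB1.genLocus L (secHom L (s k)) := by
  apply le_antisymm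
  · refine le_genLocus_of_isGen L (secHom L (s k)) _ ?_
    rw [sv_secHom]
    exact isGen_res 𝒜 G hG r L τ s hτ k
  · intro x hx
    have h1 := isGen_sv_genLocus L (secHom L (s k))
    rw [sv_secHom] at h1
    have h2 := isGen_iso τ.symm h1
    have h3 : τ.symm.hom.app (CohB1.genLocus L (secHom L (s k))) (res L le_top (s k)) =
        res _ (le_top : CohB1.genLocus L (secHom L (s k)) ≤ ⊤)
          (ProjUP.pullSec r (GrTilde.tilde 𝒜 𝒜 ((1 : ℕ) : ℤ)) (gsec 𝒜 1 ⊤ (hG k))) := by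
      have h4 := Groth.Agent.Lib.Helper2.ModExact.app_map τ.hom
        (homOfLE (le_top : CohB1.genLocus L (secHom L (s k)) ≤ ⊤))
        (ProjUP.pullSec r (GrTilde.tilde 𝒜 𝒜 ((1 : ℕ) : ℤ)) (gsec 𝒜 1 ⊤ (hG k)))
      rw [hτ k] at h4
      change τ.inv.app _ (res L le_top (s k)) = _
      have h4' : res L (le_top : CohB1.genLocus L (secHom L (s k)) ≤ ⊤) (s k) =
          τ.hom.app _ (res _ le_top (ProjUP.pullSec r (GrTilde.tilde 𝒜 𝒜 ((1 : ℕ) : ℤ))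
            (gsec 𝒜 1 ⊤ (hG k)))) := h4.symm
      rw [h4']
      have h5 : τ.hom.app (CohB1.genLocus L (secHom L (s k))) ≫ τ.inv.app _ = 𝟙 _ := by
        rw [← Scheme.Modules.Hom.comp_app, τ.hom_inv_id]; rfl
      exact congr($h5 _)
    rw [h3] at h2
    exact mem_of_isGen_pullSec 𝒜 G hG hcov r k x _ hx h2

include hτ in
/-- identification of the pulled back ratio `T_j / T_k` with a coefficient -/
theorem appLE_ratio_eq (j k : ι) {U : X.Opens} (hle : U ≤ r ⁻¹ᵁ Proj.basicOpen 𝒜 (G k))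
    (hgen : IsGen L U (res L (le_top : U ≤ ⊤) (s k))) (β : Γ(X, U))
    (hβ : res L (le_top : U ≤ ⊤) (s j) = β • res L (le_top : U ≤ ⊤) (s k)) :
    r.appLE (Proj.basicOpen 𝒜 (G k)) U hle (cfun 𝒜 1 G hG j k) = β := by
  have h1 := congrArg (res L hle) (res_eq 𝒜 G hG r L τ s hτ j k)
  rw [res_res, res_smul, res_res] at h1
  have h2 : resf hle (r.appLE (Proj.basicOpen 𝒜 (G k)) (r ⁻¹ᵁ Proj.basicOpen 𝒜 (G k)) le_rfl
      (cfun 𝒜 1 G hG j k)) = r.appLE (Proj.basicOpen 𝒜 (G k)) U hle (cfun 𝒜 1 G hG j k) := by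
    have := Scheme.Hom.appLE_map r (le_refl (r ⁻¹ᵁ Proj.basicOpen 𝒜 (G k))) (homOfLE hle).op
    exact congr($this _)
  rw [h2, hβ] at h1
  apply (hgen U le_rfl).1
  change _ • res L le_rfl _ = _ • res L le_rfl _
  rw [res_self]
  exact h1.symm

end chart

section gen

variable {X : Scheme.{u}}

/-- sections whose generating loci cover `X` generate -/
theorem generatedBy_of_cover (L : X.Modules) {ι : Type*} (s : ι → ProjUP.Γm L)
    (h : ∀ x : X, ∃ i, x ∈ CohB1.genLocus L (secHom L (s i))) : ProjUP.GeneratedBy L s := by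
  intro x
  rw [eq_top_iff]
  intro z _
  obtain ⟨i, hi⟩ := h x
  obtain ⟨V, hxV, t, rfl⟩ := L.presheaf.exists_germ_eq z
  set W := CohB1.genLocus L (secHom L (s i)) with hW
  have hgen := isGen_sv_genLocus L (secHom L (s i))
  rw [sv_secHom] at hgen
  have hxV' : x ∈ V ⊓ W := ⟨hxV, hi⟩
  obtain ⟨c, hc⟩ := (hgen (V ⊓ W) inf_le_right).2 (res L inf_le_left t)
  have hc' : c • res L (le_top : V ⊓ W ≤ ⊤) (s i) = res L inf_le_left t := by
    have : c • res L (inf_le_right : V ⊓ W ≤ W) (res L le_top (s i)) = res L inf_le_left t := hc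
    rwa [res_res] at this
  have h1 : L.presheaf.germ V x hxV t = L.presheaf.germ (V ⊓ W) x hxV' (res L inf_le_left t) :=
    (TopCat.Presheaf.germ_res_apply L.presheaf (homOfLE (inf_le_left : V ⊓ W ≤ V)) x hxV' t).symm
  have h2 : L.presheaf.germ (V ⊓ W) x hxV' (res L (le_top : V ⊓ W ≤ ⊤) (s i)) =
      L.presheaf.germ ⊤ x trivial (s i) :=
    TopCat.Presheaf.germ_res_apply L.presheaf (homOfLE (le_top : V ⊓ W ≤ ⊤)) x hxV' _
  rw [h1, ← hc', Groth.Agent.Lib.Helper2.QCoh.germ_smul, h2]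
  exact Submodule.smul_mem _ _ (Submodule.subset_span ⟨i, rfl⟩)

theorem secHom_sv {M : X.Modules} (s : Coh.structureModule X ⟶ M) : secHom M (sv s ⊤) = s := by
  apply hom_ext_of_sv
  rw [sv_secHom]
  exact res_self M _

end gen

end Groth.Agent.Lib.R2H3.VAmpleMor
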