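import Mathlib
import Groth.Prelude
import Groth.Agent.Lib.R2H1EulerTensor
import Groth.Agent.Lib.Helper23SecTw10
import Groth.Agent.Lib.Helper27TmLeft
import Groth.Agent.Lib.R2H1InvHom
import Groth.Agent.Lib.R2H1GenusZero
import Groth.Agent.Lib.R2H2PnBeilinson
import Groth.Agent.Lib.R2H1SkyDecomp
import Groth.Agent.Lib.Helper20StalkExact
import Groth.Agent.Lib.Helper23LocGen
import Groth.Agent.S3572
import Groth.Agent.S9705
import Groth.Agent.Lib.H9YBlowUp
import Groth.Agent.Lib.R2H3VAmpleMor
import Groth.Agent.Lib.R2H2QProjK0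
import Groth.Agent.Lib.Helper23GG
import Groth.Agent.Lib.Helper23PB
import Groth.Agent.Lib.Helper23Restr2
set_option backward.isDefEq.respectTransparency.types false

/-!
# Ampleness on integral proper curves: `L` ample iff `deg L > 0` (helper1, round 2)

Namespace `Groth.Agent.Lib.R2H1.CurveAmple`.

* `mulSec F s : F ⟶ F ⊗ M` (multiplication by a section `s` of `M`), `mulSec_app`, `tensorBi_map_tm`,
  `unitorR_inv_app`, `mulSec_ne_zero`, `exists_gen₂`.
* `exists_lift_of_finrank_eq` : if `H¹(X₃)=0` and `h¹(X₁)=h¹(X₂)` every global section of `X₃` lifts.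
* `exists_stationary`; `exists_global_of_local` (extension by zero for zero-dimensional support).
* `exists_locGen_nhd`, `isGloballyGenerated_of_stable`, `exists_isGloballyGenerated_pow` : some power of
  an invertible module with a nonzero section on an integral proper curve is globally generated.
* `euler_tensor_invertible`, `deg_tensorMod`, `deg_tensorPow`, `euler_tensorPow`, `exists_section_pow`.
* `finite_preimage_singleton_of_isClosedMap`, `exists_generating_sections`,
  `isAmple_of_isGloballyGenerated` (globally generated of positive degree is ample, via a finite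
  morphism to projective space), `not_isAffine`, `s1530`.
-/

set_option autoImplicit false
set_option linter.style.haveILetI false
set_option linter.unusedSectionVars false
universe u v

open CategoryTheory CategoryTheory.Limits AlgebraicGeometry TopologicalSpace Opposite
  MonoidalCategory TensorProduct

namespace Groth.Agent.Lib.R2H1.CurveAmple

section Part1

open Groth.Agent.Lib.Helper23.SecTw Groth.Agent.Lib.Helper23.GenLocus
  Groth.Agent.Lib.Helper23.Extend Groth.Agent.Lib.Helper6

variable {X : Scheme.{u}}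

/-- multiplication by a section `s` of `M`: `F ⟶ F ⊗ M` -/
noncomputable def mulSec (F : X.Modules) {M : X.Modules} (s : Coh.structureModule X ⟶ M) :
    F ⟶ CohB1.tensorMod F M :=
  (SecTwist.unitorR F).inv ≫ (DCoh.tensorBi.obj F).map s

theorem tensorBi_map_tm (F : X.Modules) {A B : X.Modules} (χ : A ⟶ B) (U : X.Opens)
    (t : Γ(F, U)) (x : Γ(A, U)) :
    ((DCoh.tensorBi.obj F).map χ).app U (tm F A U t x) = tm F B U t (χ.app U x) := by
  have h1 := (PresheafOfModules.sheafificationAdjunction (𝟙 X.ringCatSheaf.obj)).unit.naturality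
    (CohB1.toPMod F ◁ (show CohB1.toPMod A ⟶ CohB1.toPMod B from χ.val))
  have h2 := congrArg (fun φ => (φ.app (op U)).hom (t ⊗ₜ x)) h1
  exact h2.symm

theorem unitorR_inv_app (F : X.Modules) (U : X.Opens) (a : Γ(F, U)) :
    (SecTwist.unitorR F).inv.app U a = tm F (Coh.structureModule X) U a (toS U 1) := by
  have h1 : (SecTwist.unitorR F).hom.app U (tm F (Coh.structureModule X) U a (toS U 1)) = a := by
    have := SecTwist.unitorR_tmul F U a (1 : X.ringCatSheaf.obj.obj (op U))
    rw [one_smul] at this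
    exact this
  have h2 : (SecTwist.unitorR F).inv.app U ((SecTwist.unitorR F).hom.app U
      (tm F (Coh.structureModule X) U a (toS U 1))) = tm F (Coh.structureModule X) U a (toS U 1) := by
    have h3 : ((SecTwist.unitorR F).hom ≫ (SecTwist.unitorR F).inv).app U
        (tm F (Coh.structureModule X) U a (toS U 1)) = tm F (Coh.structureModule X) U a (toS U 1) := by
      rw [Iso.hom_inv_id]
      rfl
    exact h3
  rw [h1] at h2
  exact h2

theorem mulSec_app (F : X.Modules) {M : X.Modules} (s : Coh.structureModule X ⟶ M) (U : X.Opens)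
    (a : Γ(F, U)) : (mulSec F s).app U a = tm F M U a (sv s U) := by
  have h : (mulSec F s).app U a =
      ((DCoh.tensorBi.obj F).map s).app U ((SecTwist.unitorR F).inv.app U a) := rfl
  rw [h, unitorR_inv_app, tensorBi_map_tm]
  rfl

end Part1

section Part2


open Groth.Agent.Lib.Helper23.SecTw Groth.Agent.Lib.Helper23.GenLocus
  Groth.Agent.Lib.Helper23.Extend Groth.Agent.Lib.Helper6

variable {X : Scheme.{u}}

/-- common generators of two invertible modules near a point -/
theorem exists_gen₂ (F M : X.Modules) (hF : PicF.IsInvertible F) (hM : PicF.IsInvertible M) (x : X) :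
    ∃ (W : X.Opens) (a : Γ(F, W)) (e : Γ(M, W)), x ∈ W ∧ IsGen F W a ∧ IsGen M W e := by
  obtain ⟨W₁, a, hx₁, ha⟩ := exists_gen F hF x
  obtain ⟨W₂, e, hx₂, he⟩ := exists_gen M hM x
  exact ⟨W₁ ⊓ W₂, res F inf_le_left a, res M inf_le_right e, ⟨hx₁, hx₂⟩,
    ha.mono inf_le_left, he.mono inf_le_right⟩

theorem mulSec_ne_zero [IsIntegral X] (F : X.Modules) (hF : PicF.IsInvertible F) {M : X.Modules}
    (hM : PicF.IsInvertible M) (s : Coh.structureModule X ⟶ M) (hs : s ≠ 0) :
    mulSec F s ≠ 0 := by
  intro h0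
  apply hs
  obtain ⟨x⟩ := (inferInstance : Nonempty X)
  obtain ⟨W, a, e, hxW, ha, he⟩ := exists_gen₂ F M hF hM x
  refine Groth.Agent.Lib.R2H1.InvHom.eq_zero_of_local hM s W ⟨x, hxW⟩ fun W' hW' n => ?_
  have h1 : (mulSec F s).app W' (res F hW' a) = 0 := by
    rw [h0]; rfl
  rw [mulSec_app] at h1
  have h2 : tm F M W' (res F hW' a) (sv s W') = tm F M W' (res F hW' a) 0 := by
    rw [h1, tm_zero_right]
  have h3 : sv s W' = 0 :=
    Groth.Agent.Lib.Helper27TmLeft.injective_tm_of_isGen_left F M W a ha W' hW' h2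
  have h4 := app_toS s W' (ofS W' n)
  rw [toS_ofS] at h4
  rw [h4, h3, smul_zero]

end Part2

section Part3


open Groth.Agent.Lib.Helper23.SecTw Groth.Agent.Lib.Helper23.GenLocus
  Groth.Agent.Lib.Helper23.Extend Groth.Agent.Lib.Helper6
open Groth.Agent.Lib.R2H2.HHLin Groth.Agent.Lib.R2H1.EulerAdd Groth.Agent.Lib.R2H2.PnLinRes
  Groth.Agent.Lib.R2H2.PnBeilinson

section Lift

variable (k : Type u) [Field k] (X : Scheme.{u}) [X.Over (Spec (CommRingCat.of k))]
    [IsProper (X ↘ (Spec (CommRingCat.of k)))]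

/-- if `H¹(X₃) = 0` and `h¹(X₂) = h¹(X₁)`, every global section of `X₃` lifts to `X₂` -/
theorem exists_lift_of_finrank_eq (S : ShortComplex X.Modules) (hS : S.ShortExact)
    (c₁ : Coh.IsCoh S.X₁) (c₂ : Coh.IsCoh S.X₂) (h3 : Subsingleton (Coh.HH X S.X₃ 1))
    (heq : Module.finrank k (Coh.HH X S.X₁ 1) = Module.finrank k (Coh.HH X S.X₂ 1))
    (c : Coh.structureModule X ⟶ S.X₃) : ∃ t : Coh.structureModule X ⟶ S.X₂, t ≫ S.g = c := by
  haveI := finite_HH k X S.X₁ c₁ 1
  haveI := finite_HH k X S.X₂ c₂ 1
  have hsurj : Function.Surjective (HmapA k S.f 1) := by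
    intro y
    have hy : HmapA k S.g 1 y = 0 := Subsingleton.elim _ _
    exact (exact_fg k S hS 1 y).mp hy
  have hinj : Function.Injective (HmapA k S.f 1) :=
    (LinearMap.injective_iff_surjective_of_finrank_eq_finrank heq).mpr hsurj
  have hδ : ∀ z : Coh.HH X S.X₃ 0, deltaA k S hS 0 z = 0 := by
    intro z
    apply hinj
    rw [map_zero]
    exact (exact_df k S hS 0 (deltaA k S hS 0 z)).mpr ⟨z, rfl⟩
  obtain ⟨y, hy⟩ := (exact_gd k S hS 0 (cls c)).mp (hδ (cls c))
  obtain ⟨t, rfl⟩ := cls_surjective S.X₂ y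
  refine ⟨t, ?_⟩
  have h1 : cls (t ≫ S.g) = cls c := by
    rw [← cls_comp]
    exact hy
  exact clsL_injective (k := k) S.X₃ h1

end Lift

section Stab

/-- a non-increasing sequence of natural numbers is stationary somewhere -/
theorem exists_stationary (a : ℕ → ℕ) (h : ∀ m, a (m + 1) ≤ a m) : ∃ m, a (m + 1) = a m := by
  by_contra hcon
  push_neg at hcon
  have hlt : ∀ m, a (m + 1) < a m := fun m => lt_of_le_of_ne (h m) (hcon m)
  have hb : ∀ m, a m + m ≤ a 0 := by
    intro m
    induction m with
    | zero => simp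
    | succ n ih => have := hlt n; omega
  have := hb (a 0 + 1)
  omega

end Stab

end Part3

section Part4


open Groth.Agent.Lib.Helper23.SecTw Groth.Agent.Lib.Helper23.GenLocus
  Groth.Agent.Lib.Helper23.Extend Groth.Agent.Lib.Helper6
open Groth.Agent.Lib.R2H1.SkyDecomp

variable {X : Scheme.{u}}

/-- a local section of a module whose support is a set all of whose subsets are closed agrees near a
given point with a global section (extension by zero) -/
theorem exists_global_of_local (C : X.Modules) (Z : Set X) (hZ : ∀ T : Set X, T ⊆ Z → IsClosed T)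
    (hC : ∀ y, y ∉ Z → Subsingleton (C.presheaf.stalk y)) (x : X) (V : X.Opens) (hxV : x ∈ V)
    (m : Γ(C, V)) :
    ∃ (V' : X.Opens) (hV' : V' ≤ V) (c : Coh.structureModule X ⟶ C), x ∈ V' ∧
      sv c V' = res C hV' m := by
  classical
  have hZ₁ : IsClosed (Z \ {x}) := hZ _ Set.diff_subset
  have hZ₂ : IsClosed (Z ∩ {x}) := hZ _ Set.inter_subset_left
  let V' : X.Opens := V ⊓ ⟨(Z \ {x})ᶜ, hZ₁.isOpen_compl⟩
  let U₂ : X.Opens := ⟨(Z ∩ {x})ᶜ, hZ₂.isOpen_compl⟩
  have hV' : V' ≤ V := inf_le_left
  have hxV' : x ∈ V' := ⟨hxV, fun h => h.2 rfl⟩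
  let W : Fin 2 → X.Opens := fun j => Fin.cases V' (fun _ => U₂) j
  have key := bijective_restrict_pi (X := X.toTopCat) (Coh.toAb C) Z (hZ Z le_rfl) hC ⊤ W
    (fun j => le_top)
    (fun y _ hyZ => by
      by_cases hyx : y = x
      · exact ⟨0, hyx ▸ hxV'⟩
      · exact ⟨1, fun h => hyx h.2⟩)
    (fun i j hij y hyi hyj => by
      have h01 : y ∈ V' → y ∈ U₂ → y ∉ Z := fun h1 h2 hyZ =>
        h1.2 ⟨hyZ, fun hyx => h2 ⟨hyZ, hyx⟩⟩
      fin_cases i <;> fin_cases j
      · exact absurd rfl hij
      · exact h01 hyi hyj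
      · exact h01 hyj hyi
      · exact absurd rfl hij)
  let t : ∀ j : Fin 2, ((Coh.toAb C).1.obj (op (W j))) :=
    Fin.cons (α := fun j => ((Coh.toAb C).1.obj (op (W j)))) (res C hV' m) (fun _ => 0)
  obtain ⟨σ, hσ⟩ := key.2 t
  have h0 := congrFun hσ 0
  refine ⟨V', hV', secHom C σ, hxV', ?_⟩
  rw [sv_secHom]
  exact h0

end Part4

section Part5


open Groth.Agent.Lib.Helper23.SecTw Groth.Agent.Lib.Helper23.GenLocus
  Groth.Agent.Lib.Helper23.Extend Groth.Agent.Lib.Helper6
open Groth.Agent.Lib.Helper23.LocGen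
open Groth.Agent.Lib.R2H1.SkyDecomp Groth.Agent.Lib.R2H1.GenusLe Groth.Agent.Lib.R2H1.BirDeg
  Groth.Agent.Lib.R2H1.CurveDegSec Groth.Agent.Lib.R2H1.ZeroDimCoh Groth.Agent.Lib.R2H1.CurveEuler

variable {X : Scheme.{u}}

theorem app_res' {N L : X.Modules} (φ : N ⟶ L) {V W : X.Opens} (h : W ≤ V) (n : Γ(N, V)) :
    φ.app W (res N h n) = res L h (φ.app V n) :=
  app_map φ (homOfLE h) n

/-- the local step: near a point where `s` does not generate `M`, the module `F ⊗ M` is generated by
global sections provided all global sections of the cokernel of multiplication by `s` lift. -/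
theorem exists_locGen_nhd (F M : X.Modules) (hF : PicF.IsInvertible F) (hM : PicF.IsInvertible M)
    (s : Coh.structureModule X ⟶ M) (hmono : Mono (mulSec F s))
    (Z : Set X) (hZ : ∀ T : Set X, T ⊆ Z → IsClosed T)
    (hC : ∀ y, y ∉ Z → Subsingleton ((cokernel (mulSec F s)).presheaf.stalk y))
    (hlift : ∀ c : Coh.structureModule X ⟶ cokernel (mulSec F s),
      ∃ t : Coh.structureModule X ⟶ CohB1.tensorMod F M, t ≫ cokernel.π (mulSec F s) = c)
    (x : X) (hx : x ∉ CohB1.genLocus M s) :
    ∃ V : X.Opens, x ∈ V ∧ LocGen (CohB1.tensorMod F M) V := by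
  set P := CohB1.tensorMod F M with hP
  set φ := mulSec F s with hφ
  set π := cokernel.π φ with hπ
  obtain ⟨W, a, e, hxW, ha, he⟩ := exists_gen₂ F M hF hM x
  have hg : IsGen P W (tm F M W a e) := isGen_tm F M W a e ha he
  -- the coefficient of `s`
  have hb := sv_eq_coef_smul s he
  have hxb : x ∉ X.basicOpen (coef he le_rfl (sv s W)) := by
    rw [← genLocus_inf_eq_coef s he]
    exact fun h => hx h.1
  -- extend the class of the generator to a global section of the cokernel and lift it
  obtain ⟨V', hV', c, hxV', hc⟩ := exists_global_of_local (cokernel φ) Z hZ hC x W hxW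
    (π.app W (tm F M W a e))
  obtain ⟨t, ht⟩ := hlift c
  -- the difference lies in the image of `φ`
  let S : ShortComplex X.Modules := ShortComplex.mk φ π (cokernel.condition φ)
  have hS : S.ShortExact :=
    { exact := ShortComplex.exact_cokernel φ
      mono_f := hmono
      epi_g := inferInstanceAs (Epi (cokernel.π φ)) }
  have hdiff : π.app V' (res P hV' (tm F M W a e) - sv t V') = 0 := by
    rw [map_sub, app_res', ← hc, ← ht, sv_comp, sub_self]
  obtain ⟨u, hu⟩ := Groth.Agent.Lib.Helper20.StalkExact.exists_app_eq_of_exact S hS V' _ hdiff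
  -- compute `φ u`
  have hu1 := coef_spec ha hV' u
  have hsV' : sv s V' = resf hV' (coef he le_rfl (sv s W)) • res M hV' e := by
    rw [← res_sv s hV', hb, res_smul]
    congr 1
    rw [← hb]
  have hφu : φ.app V' u = (coef ha hV' u * resf hV' (coef he le_rfl (sv s W))) •
      res P hV' (tm F M W a e) := by
    rw [hφ, mulSec_app, hsV']
    conv_lhs => rw [← hu1]
    rw [tm_smul_left, tm_smul_right, ← mul_smul, res_tm, mul_comm]
  set q := coef ha hV' u * resf hV' (coef he le_rfl (sv s W)) with hq
  have hst : sv t V' = (1 - q) • res P hV' (tm F M W a e) := by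
    have h1 : φ.app V' u = res P hV' (tm F M W a e) - sv t V' := hu
    rw [hφu] at h1
    rw [sub_smul, one_smul, h1]
    abel
  -- `1 - q` is invertible at `x`
  have hxq : x ∈ X.basicOpen (1 - q) := by
    have h1 : x ∈ X.basicOpen ((1 - q) + q) := by
      have : (1 - q) + q = 1 := by ring
      rw [this, Scheme.basicOpen_of_isUnit _ isUnit_one]
      exact hxV'
    rcases basicOpen_add_le _ _ h1 with h | h
    · exact h
    · exfalso
      rw [hq, Scheme.basicOpen_mul] at h
      have h2 : x ∈ X.basicOpen (resf hV' (coef he le_rfl (sv s W))) := h.2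
      have h3 : X.basicOpen (resf hV' (coef he le_rfl (sv s W))) ≤
          X.basicOpen (coef he le_rfl (sv s W)) := by
        change X.basicOpen (X.presheaf.map (homOfLE hV').op _) ≤ _
        rw [Scheme.basicOpen_res]
        exact inf_le_right
      exact hxb (h3 h2)
  refine ⟨X.basicOpen (1 - q), hxq, ?_⟩
  intro A hA m y hy
  refine ⟨A, le_rfl, hy, ?_⟩
  rw [res_self]
  have hAV' : A ≤ V' := hA.trans (X.basicOpen_le _)
  obtain ⟨r, hr⟩ := (hg A (hAV'.trans hV')).2 m
  replace hr : r • res P (hAV'.trans hV') (tm F M W a e) = m := hr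
  obtain ⟨w, hw⟩ := (Groth.Agent.Lib.R2H1.InvHom.isUnit_res_of_le_basicOpen (1 - q) hAV' hA).exists_left_inv
  have h5 : sv t A = resf hAV' (1 - q) • res P (hAV'.trans hV') (tm F M W a e) := by
    rw [← res_sv t hAV', hst, res_smul, res_res]
  have h6 : res P (hAV'.trans hV') (tm F M W a e) = w • sv t A := by
    rw [h5, ← mul_smul]
    have : w * resf hAV' (1 - q) = 1 := hw
    rw [this, one_smul]
  rw [← hr, h6, ← mul_smul]
  exact Submodule.smul_mem _ _ (sv_mem_gspan P t A)

end Part5

section Part6


open Groth.Agent.Lib.Helper23.SecTw Groth.Agent.Lib.Helper23.GenLocus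
  Groth.Agent.Lib.Helper23.Extend Groth.Agent.Lib.Helper6
open Groth.Agent.Lib.Helper23.LocGen
open Groth.Agent.Lib.R2H1.SkyDecomp Groth.Agent.Lib.R2H1.GenusLe Groth.Agent.Lib.R2H1.BirDeg
  Groth.Agent.Lib.R2H1.CurveDegSec Groth.Agent.Lib.R2H1.ZeroDimCoh Groth.Agent.Lib.R2H1.CurveEuler
  Groth.Agent.Lib.R2H1.GenusZero Groth.Agent.Lib.R2H1.InvHom

variable (k : Type u) [Field k] (X : Scheme.{u}) [X.Over (Spec (CommRingCat.of k))]
    [IsIntegral X] [IsProper (X ↘ (Spec (CommRingCat.of k)))]

/-- if `h¹(M^m) = h¹(M^{m+1})` for an invertible `M` with a nonzero section on an integral proper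
curve, then `M^{m+1}` is globally generated -/
theorem isGloballyGenerated_of_stable (hdim : topologicalKrullDim X = 1) (M : X.Modules)
    (hM : PicF.IsInvertible M) (s : Coh.structureModule X ⟶ M) (hs : s ≠ 0) (m : ℕ)
    (heq : Module.finrank k (Coh.HH X (CohB1.tensorPow M m) 1) =
      Module.finrank k (Coh.HH X (CohB1.tensorPow M (m + 1)) 1)) :
    Curv2.IsGloballyGenerated (CohB1.tensorPow M (m + 1)) := by
  haveI := isNoetherian_of_proper k X
  have hF : PicF.IsInvertible (CohB1.tensorPow M m) := isInvertible_tensorPow hM m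
  have hP : PicF.IsInvertible (CohB1.tensorMod (CohB1.tensorPow M m) M) :=
    isInvertible_tensorMod hF hM
  have hφ := mulSec_ne_zero (CohB1.tensorPow M m) hF hM s hs
  haveI hmono : Mono (mulSec (CohB1.tensorPow M m) s) := mono_of_ne_zero hF hP _ hφ
  obtain ⟨D, hDne, hD⟩ := exists_open_stalk_cokernel hF hP _ hφ
  have hdense : Dense (D : Set X) := D.isOpen.dense hDne
  have hZdim := dim_compl_le_zero_of_dense X hdim.le D hdense
  have hZcl : IsClosed ((D : Set X)ᶜ) := D.isOpen.isClosed_compl
  have hZ : ∀ T : Set X, T ⊆ (D : Set X)ᶜ → IsClosed T := fun T hT =>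
    isClosed_of_subset_of_dim_le_zero _ hZcl hZdim T hT
  have hC : ∀ y, y ∉ (D : Set X)ᶜ →
      Subsingleton ((cokernel (mulSec (CohB1.tensorPow M m) s)).presheaf.stalk y) :=
    fun y hy => hD y (not_not.mp hy)
  have cF := isCoh_of_isInvertible _ hF
  have cP := isCoh_of_isInvertible _ hP
  have cC : Coh.IsCoh (cokernel (mulSec (CohB1.tensorPow M m) s)) :=
    Groth.Agent.Lib.R2H2.NilFilt.isCoh_cokernel cF cP _
  have hsupp := dim_support_le_zero_of_stalks hdim.le D hdense
    (cokernel (mulSec (CohB1.tensorPow M m) s)) hD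
  have h3 : Subsingleton (Coh.HH X (cokernel (mulSec (CohB1.tensorPow M m) s)) 1) :=
    s1526 k X _ cC hsupp 1 le_rfl
  let S : ShortComplex X.Modules := ShortComplex.mk (mulSec (CohB1.tensorPow M m) s)
    (cokernel.π (mulSec (CohB1.tensorPow M m) s)) (cokernel.condition _)
  have hS : S.ShortExact :=
    { exact := ShortComplex.exact_cokernel _
      mono_f := hmono
      epi_g := inferInstanceAs (Epi (cokernel.π (mulSec (CohB1.tensorPow M m) s))) }
  have hlift := exists_lift_of_finrank_eq k X S hS cF cP h3 heq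
  refine isGloballyGenerated_of_locGen _ (fun x => ?_)
  by_cases hx : x ∈ CohB1.genLocus M s
  · refine ⟨CohB1.genLocus (CohB1.tensorPow M (m + 1)) (SecTwist.powHom s (m + 1)), ?_,
      locGen_genLocus _ _⟩
    rw [genLocus_powHom hM s (m + 1) (Nat.succ_pos m)]
    exact hx
  · exact exists_locGen_nhd (CohB1.tensorPow M m) M hF hM s hmono _ hZ hC hlift x hx

include k in
/-- some positive power of an invertible module with a nonzero section on an integral proper curve is
globally generated -/
theorem exists_isGloballyGenerated_pow (hdim : topologicalKrullDim X = 1) (M : X.Modules)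
    (hM : PicF.IsInvertible M) (s : Coh.structureModule X ⟶ M) (hs : s ≠ 0) :
    ∃ m : ℕ, Curv2.IsGloballyGenerated (CohB1.tensorPow M (m + 1)) := by
  obtain ⟨m, hm⟩ := exists_stationary
    (fun m => Module.finrank k (Coh.HH X (CohB1.tensorPow M m) 1)) (fun m => by
      have hF : PicF.IsInvertible (CohB1.tensorPow M m) := isInvertible_tensorPow hM m
      have hP : PicF.IsInvertible (CohB1.tensorMod (CohB1.tensorPow M m) M) :=
        isInvertible_tensorMod hF hM
      exact hh_one_le_of_ne_zero k X hdim _ _ hF hP (mulSec (CohB1.tensorPow M m) s)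
        (mulSec_ne_zero _ hF hM s hs))
  exact ⟨m, isGloballyGenerated_of_stable k X hdim M hM s hs m hm.symm⟩

end Part6

section Part7

open Groth.Agent.Lib.Helper23.SecTw Groth.Agent.Lib.Helper23.GenLocus
  Groth.Agent.Lib.Helper23.Extend Groth.Agent.Lib.Helper6
open Groth.Agent.Lib.R2H1.CurveDegSec Groth.Agent.Lib.R2H1.CurveEuler Groth.Agent.Lib.R2H1.EulerTensor

variable (k : Type u) [Field k] (X : Scheme.{u}) [X.Over (Spec (CommRingCat.of k))]
    [IsIntegral X] [IsProper (X ↘ (Spec (CommRingCat.of k)))]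

theorem grk_of_isInvertible (L : X.Modules) (hL : PicF.IsInvertible L) : grk L = 1 :=
  (Groth.Agent.Lib.R2H4DegAdd.stalk_facts
    (Groth.Agent.Lib.Helper23.SecTw.isFinLocFreeOfRank_one_of_isInvertible L hL) (genericPoint X)).2.2

/-- `χ(E ⊗ L) = deg E + χ(L)` for invertible modules on an integral proper curve -/
theorem euler_tensor_invertible (hdim : topologicalKrullDim X = 1) (E L : X.Modules)
    (hE : PicF.IsInvertible E) (hL : PicF.IsInvertible L) :
    Curv2.euler k X (CohB1.tensorMod E L) = Curv2.deg k X E 1 + Curv2.euler k X L := by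
  have h := s1557 k X hdim 1 E
    (Groth.Agent.Lib.Helper23.SecTw.isFinLocFreeOfRank_one_of_isInvertible E hE) L
    (isCoh_of_isInvertible L hL)
  have h1 : (Module.finrank (X.presheaf.stalk (genericPoint X))
      (L.presheaf.stalk (genericPoint X)) : ℤ) = 1 := by
    have := grk_of_isInvertible X L hL
    unfold grk at this
    exact_mod_cast this
  rw [h1] at h
  rw [h]
  push_cast
  ring

theorem deg_tensorMod (hdim : topologicalKrullDim X = 1) (E L : X.Modules)
    (hE : PicF.IsInvertible E) (hL : PicF.IsInvertible L) :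
    Curv2.deg k X (CohB1.tensorMod E L) 1 = Curv2.deg k X E 1 + Curv2.deg k X L 1 := by
  have h := euler_tensor_invertible k X hdim E L hE hL
  unfold Curv2.deg at h ⊢
  rw [h]
  ring

theorem deg_tensorPow (hdim : topologicalKrullDim X = 1) (L : X.Modules)
    (hL : PicF.IsInvertible L) (n : ℕ) :
    Curv2.deg k X (CohB1.tensorPow L n) 1 = n * Curv2.deg k X L 1 := by
  induction n with
  | zero =>
    show Curv2.deg k X (Coh.structureModule X) 1 = _
    unfold Curv2.deg
    push_cast
    ring
  | succ n ih =>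
    show Curv2.deg k X (CohB1.tensorMod (CohB1.tensorPow L n) L) 1 = _
    rw [deg_tensorMod k X hdim _ _ (isInvertible_tensorPow hL n) hL, ih]
    push_cast
    ring

theorem euler_tensorPow (hdim : topologicalKrullDim X = 1) (L : X.Modules)
    (hL : PicF.IsInvertible L) (n : ℕ) :
    Curv2.euler k X (CohB1.tensorPow L n) =
      n * Curv2.deg k X L 1 + Curv2.euler k X (Coh.structureModule X) := by
  have h := deg_tensorPow k X hdim L hL n
  unfold Curv2.deg at h
  unfold Curv2.deg
  simp only [Nat.cast_one, one_mul] at h ⊢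
  linarith

/-- a module of positive degree has a power with a nonzero section -/
theorem exists_section_pow (hdim : topologicalKrullDim X = 1) (L : X.Modules)
    (hL : PicF.IsInvertible L) (hdeg : 0 < Curv2.deg k X L 1) :
    ∃ (N : ℕ) (s : Coh.structureModule X ⟶ CohB1.tensorPow L (N + 1)), s ≠ 0 := by
  set N := (Curv2.euler k X (Coh.structureModule X)).natAbs with hN
  refine ⟨N, ?_⟩
  have hLN := isInvertible_tensorPow hL (N + 1)
  have hc := isCoh_of_isInvertible _ hLN
  have h1 := euler_tensorPow k X hdim L hL (N + 1)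
  have h2 := euler_eq_h0_sub_h1 k X hdim.le (CohB1.tensorPow L (N + 1)) hc.1
  have h3 : (1 : ℤ) ≤ Curv2.euler k X (CohB1.tensorPow L (N + 1)) := by
    rw [h1]
    have h4 : ((N + 1 : ℕ) : ℤ) ≤ ((N + 1 : ℕ) : ℤ) * Curv2.deg k X L 1 := by
      have : (0 : ℤ) ≤ ((N + 1 : ℕ) : ℤ) := by positivity
      nlinarith
    have h5 : -(N : ℤ) ≤ Curv2.euler k X (Coh.structureModule X) := by
      omega
    push_cast at h4 ⊢
    linarith
  have hpos : 0 < Module.finrank k (Coh.HH X (CohB1.tensorPow L (N + 1)) 0) := by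
    rw [h2] at h3
    omega
  exact Groth.Agent.Lib.R2H1.GenusZero.exists_section_of_pos k X _ hc hpos

end Part7

section Part8

open Groth.Agent.Lib.R2H1.CurveDegSec Groth.Agent.Lib.R2H1.ZeroDimCoh

/-- a closed continuous map out of an irreducible Noetherian T0 space of dimension at most one, no
fibre of which is the whole space, has finite fibres -/
theorem finite_preimage_singleton_of_isClosedMap {X Y : Type*} [TopologicalSpace X]
    [TopologicalSpace Y] [T0Space X] [NoetherianSpace X] [IrreducibleSpace X]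
    (hdim : topologicalKrullDim X ≤ 1) (f : X → Y) (hf : Continuous f) (hcl : IsClosedMap f)
    (hnc : ∀ p, f ⁻¹' {p} ≠ Set.univ) (p : Y) : (f ⁻¹' {p}).Finite := by
  by_cases hp : IsClosed ({p} : Set Y)
  · have hZ : IsClosed (f ⁻¹' {p}) := hp.preimage hf
    have hd := dim_le_zero_of_ne_univ hdim _ hZ (hnc p)
    haveI : Finite (f ⁻¹' {p}) := finite_of_dim_le_zero hd
    exact Set.toFinite _
  · refine Set.Subsingleton.finite ?_
    have key : ∀ x ∈ f ⁻¹' {p}, closure ({x} : Set X) = Set.univ := by
      intro x hx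
      by_contra hne
      have hd := dim_le_zero_of_ne_univ hdim _ isClosed_closure hne
      have hx' : IsClosed ({x} : Set X) :=
        isClosed_of_subset_of_dim_le_zero _ isClosed_closure hd {x}
          (Set.singleton_subset_iff.mpr (subset_closure (Set.mem_singleton x)))
      apply hp
      have h1 := hcl _ hx'
      rw [Set.image_singleton] at h1
      have hx2 : f x = p := hx
      rwa [hx2] at h1
    intro x hx y hy
    have hxy : x ⤳ y := by
      rw [specializes_iff_mem_closure, key x hx]; trivial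
    have hyx : y ⤳ x := by
      rw [specializes_iff_mem_closure, key y hy]; trivial
    exact (hxy.antisymm hyx).eq

end Part8

section Part9


open Groth.Agent.Lib.Helper23.SecTw Groth.Agent.Lib.Helper23.GenLocus
  Groth.Agent.Lib.Helper23.Extend Groth.Agent.Lib.Helper6
open Groth.Agent.Lib.R2H1.CurveDegSec Groth.Agent.Lib.R2H1.CurveEuler Groth.Agent.Lib.R2H1.DegCartier

section Gen

variable {X : Scheme.{u}}

/-- a globally generated invertible module on a nonempty quasi-compact scheme is generated by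
finitely many global sections -/
theorem exists_generating_sections [CompactSpace X] [Nonempty X] (P : X.Modules)
    (hP : PicF.IsInvertible P) (hgg : Curv2.IsGloballyGenerated P) :
    ∃ (n : ℕ) (s : Fin (n + 1) → ProjUP.Γm P), ProjUP.GeneratedBy P s := by
  classical
  choose t ht using Groth.Agent.Lib.Helper23.GG.exists_section_mem_genLocus P hP hgg
  obtain ⟨T, hT⟩ := isCompact_univ.elim_finite_subcover
    (fun x : X => ((CohB1.genLocus P (t x) : X.Opens) : Set X))
    (fun x => (CohB1.genLocus P (t x)).isOpen)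
    (fun x _ => Set.mem_iUnion.2 ⟨x, ht x⟩)
  have hTne : T.card ≠ 0 := by
    intro h0
    rw [Finset.card_eq_zero] at h0
    obtain ⟨x⟩ := (inferInstance : Nonempty X)
    have := hT (Set.mem_univ x)
    rw [h0] at this
    simp at this
  obtain ⟨n, hn⟩ : ∃ n, T.card = n + 1 := ⟨T.card - 1, by omega⟩
  let e : {x // x ∈ T} ≃ Fin (n + 1) := T.equivFin.trans (finCongr hn)
  refine ⟨n, fun i => sv (t (e.symm i).1) ⊤, ?_⟩
  refine Groth.Agent.Lib.R2H3.VAmpleMor.generatedBy_of_cover P _ (fun x => ?_)
  have hx := hT (Set.mem_univ x)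
  rw [Set.mem_iUnion₂] at hx
  obtain ⟨y, hyT, hxy⟩ := hx
  refine ⟨e ⟨y, hyT⟩, ?_⟩
  rw [Groth.Agent.Lib.R2H3.VAmpleMor.secHom_sv, Equiv.symm_apply_apply]
  exact hxy

end Gen

end Part9

section Part10


open Groth.Agent.Lib.Helper23.SecTw Groth.Agent.Lib.Helper23.GenLocus
  Groth.Agent.Lib.Helper23.Extend Groth.Agent.Lib.Helper6
open Groth.Agent.Lib.R2H1.CurveDegSec Groth.Agent.Lib.R2H1.CurveEuler Groth.Agent.Lib.R2H1.DegCartier

variable (k : Type u) [Field k] (X : Scheme.{u}) [X.Over (Spec (CommRingCat.of k))]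
    [IsIntegral X] [IsProper (X ↘ (Spec (CommRingCat.of k)))]

theorem deg_congr {M N : X.Modules} (e : M ≅ N) (n : ℕ) :
    Curv2.deg k X M n = Curv2.deg k X N n := by
  unfold Curv2.deg
  rw [euler_congr k e]

/-- a globally generated invertible module of positive degree on an integral proper curve is ample -/
theorem isAmple_of_isGloballyGenerated (hdim : topologicalKrullDim X = 1) (P : X.Modules)
    (hP : PicF.IsInvertible P) (hgg : Curv2.IsGloballyGenerated P)
    (hdeg : 0 < Curv2.deg k X P 1) : CohB1.IsAmple P := by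
  haveI := isNoetherian_of_proper k X
  obtain ⟨n, s, hs⟩ := exists_generating_sections P hP hgg
  obtain ⟨r, hr, τ, -⟩ := Groth.Agent.S3572.result n (X ↘ Spec (CommRingCat.of k)) P hP s hs
  haveI : IsProper (CohB1.ProjSpace.toSpec n k) :=
    Groth.Agent.S9705.isProper_projSpace_toSpec n k
  haveI : IsProper (r ≫ CohB1.ProjSpace.toSpec n k) := by rw [hr]; infer_instance
  haveI : IsProper r := IsProper.of_comp r (CohB1.ProjSpace.toSpec n k)
  have hO1 := Groth.Agent.Lib.R2H2.QProjK0.isAmple_twistProjSpace_one n k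
  have hO1inv := hO1.1
  have hpinv := Groth.Agent.Lib.Helper23.PB.isInvertible_pullback r _ hO1inv
  -- no fibre is everything
  have hnc : ∀ p, r ⁻¹' {p} ≠ Set.univ := by
    intro p huniv
    obtain ⟨j, s', hp, -⟩ := hO1.2.2 p
    obtain ⟨s'', hs''⟩ := Groth.Agent.Lib.Helper23.PB.exists_pullback_section r _ hO1inv (j + 1) s'
    have htop : CohB1.genLocus _ s'' = ⊤ := by
      rw [hs'', eq_top_iff]
      intro x _
      have hx : x ∈ r ⁻¹' {p} := by rw [huniv]; trivial
      have hx' : r x = p := hx
      show r x ∈ CohB1.genLocus _ s'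
      rw [hx']
      exact hp
    haveI : IsIso s'' := (Groth.Agent.Lib.H9YBlowUp.isIso_iff_genLocus_eq_top _ s'').mpr htop
    have hd0 : Curv2.deg k X (CohB1.tensorPow ((Scheme.Modules.pullback r).obj
        (Twist.twistProjSpace n k 1)) (j + 1)) 1 = 0 := by
      rw [← deg_congr k X (asIso s'') 1]
      unfold Curv2.deg
      push_cast
      ring
    have hd1 := deg_tensorPow k X hdim _ hpinv (j + 1)
    rw [hd0, deg_congr k X τ 1] at hd1
    have : (0 : ℤ) < ((j + 1 : ℕ) : ℤ) * Curv2.deg k X P 1 := by positivity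
    omega
  have hfin : ∀ p, (r ⁻¹' {p}).Finite := fun p =>
    finite_preimage_singleton_of_isClosedMap hdim.le r r.continuous r.isClosedMap hnc p
  haveI : LocallyQuasiFinite r := LocallyQuasiFinite.of_finite_preimage_singleton r hfin
  haveI : IsFinite r := IsFinite.of_isProper_of_locallyQuasiFinite r
  exact Groth.Agent.Lib.Helper23.AmpleIso.isAmple_of_iso τ
    (Groth.Agent.Lib.Helper23.PB.isAmple_pullback_of_isAffineHom r _ hO1)

end Part10

section Part11


open Groth.Agent.Lib.Helper23.SecTw Groth.Agent.Lib.Helper23.GenLocus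
  Groth.Agent.Lib.Helper23.Extend Groth.Agent.Lib.Helper6
open Groth.Agent.Lib.R2H1.CurveDegSec Groth.Agent.Lib.R2H1.CurveEuler Groth.Agent.Lib.R2H1.DegCartier

variable (k : Type u) [Field k] (X : Scheme.{u}) [X.Over (Spec (CommRingCat.of k))]
    [IsIntegral X] [IsProper (X ↘ (Spec (CommRingCat.of k)))]

include k in
/-- a proper scheme of dimension one over a field is not affine -/
theorem not_isAffine (hdim : topologicalKrullDim X = 1) : ¬ IsAffine X := by
  intro haff
  haveI : IsAffineHom (X ↘ Spec (CommRingCat.of k)) := inferInstance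
  haveI : IsFinite (X ↘ Spec (CommRingCat.of k)) :=
    IsFinite.iff_isProper_and_isAffineHom.mpr ⟨inferInstance, inferInstance⟩
  obtain ⟨x⟩ := (inferInstance : Nonempty X)
  have hd := (X ↘ Spec (CommRingCat.of k)).isDiscrete_preimage_singleton
    ((X ↘ Spec (CommRingCat.of k)) x)
  have huniv : (X ↘ Spec (CommRingCat.of k)) ⁻¹' {(X ↘ Spec (CommRingCat.of k)) x} = Set.univ := by
    rw [Set.eq_univ_iff_forall]
    intro y
    haveI : Subsingleton (Spec (CommRingCat.of k)) :=
      inferInstanceAs (Subsingleton (PrimeSpectrum k))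
    exact Subsingleton.elim _ _
  rw [huniv, isDiscrete_univ_iff] at hd
  haveI := hd
  have h0 := topologicalKrullDim_zero_of_discreteTopology X
  rw [hdim] at h0
  exact absurd h0 (by decide)

theorem s1530 (hdim : topologicalKrullDim X = 1)
    (L : X.Modules) (hL : PicF.IsInvertible L) :
    CohB1.IsAmple L ↔ 0 < Curv2.deg k X L 1 := by
  constructor
  · intro hample
    obtain ⟨x⟩ := (inferInstance : Nonempty X)
    obtain ⟨n, s, hx, haff⟩ := hample.2.2 x
    have hinv := isInvertible_tensorPow hL (n + 1)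
    have hs : s ≠ 0 := by
      rintro rfl
      rw [genLocus_zero _ hinv] at hx
      exact hx
    have hne : CohB1.genLocus _ s ≠ ⊤ := by
      intro htop
      rw [htop] at haff
      apply not_isAffine k X hdim
      have : IsAffine (⊤ : X.Opens).toScheme := haff
      exact IsAffine.of_isIso (X.topIso).inv
    obtain ⟨x', hx'⟩ : ∃ x' : X, x' ∉ CohB1.genLocus _ s := by
      by_contra hcon
      push_neg at hcon
      exact hne (eq_top_iff.mpr fun y _ => hcon y)
    have h1 := s1519 k X hdim _ hinv s hs x' hx'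
    rw [deg_tensorPow k X hdim L hL (n + 1)] at h1
    have h2 : (0 : ℤ) < ((n + 1 : ℕ) : ℤ) := by positivity
    by_contra hcon
    push_neg at hcon
    nlinarith
  · intro hdeg
    obtain ⟨N, s, hs⟩ := exists_section_pow k X hdim L hL hdeg
    have hM := isInvertible_tensorPow hL (N + 1)
    obtain ⟨m, hgg⟩ := exists_isGloballyGenerated_pow k X hdim _ hM s hs
    have hP := isInvertible_tensorPow hM (m + 1)
    have hdegP : 0 < Curv2.deg k X (CohB1.tensorPow (CohB1.tensorPow L (N + 1)) (m + 1)) 1 := by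
      rw [deg_tensorPow k X hdim _ hM (m + 1), deg_tensorPow k X hdim L hL (N + 1)]
      positivity
    have h1 := isAmple_of_isGloballyGenerated k X hdim _ hP hgg hdegP
    have h2 := (Groth.Agent.Lib.Helper23.SecTw.isAmple_tensorPow_iff _ hM (m + 1)
      (Nat.succ_pos m)).mpr h1
    exact (Groth.Agent.Lib.Helper23.SecTw.isAmple_tensorPow_iff L hL (N + 1)
      (Nat.succ_pos N)).mpr h2

end Part11

end Groth.Agent.Lib.R2H1.CurveAmple
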