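import Groth.Agent.Lib.R2H1EulerTensor
import Groth.Agent.Lib.Helper23UnitStalk
import Groth.Agent.Lib.Helper4NormDelta
import Groth.Agent.Lib.R2H1CurveAmple
import Groth.Agent.Lib.R2H1BirDeg
set_option backward.isDefEq.respectTransparency.types false

/-!
# Degree of a pullback along a non-constant morphism of integral proper curves (S7640)

* `fwd f x : (f_* O_X)_{f x} -> (O_X)_x`, bijective when `f` is a closed map with `f^{-1}{f x} = {x}`
  (`fwd_injective`, `fwd_surjective`), semilinear over the stalk map (`fwd_smul`);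
  `finrank_stalk_pushO`.
* `finrank_stalk_eq_residueDegree` : the degree of the local ring extension at a point whose local
  rings are fields is the residue degree.
* `fiber_generic`, `isFinite_of_nonconstant` : a non-constant morphism of integral proper curves
  is finite.
* `s7640` : `deg (f^* E) = [K(X):K(Y)] * deg E`.
-/

set_option autoImplicit false
set_option linter.style.haveILetI false
set_option linter.unusedSectionVars false
universe u v

open CategoryTheory CategoryTheory.Limits AlgebraicGeometry TopologicalSpace Opposite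

namespace Groth.Agent.Lib.R2H1.DegPullback

section Part1

open Groth.Agent.Lib.Helper4.NormDelta Groth.Agent.Lib.Helper23.UnitStalk
  Groth.Agent.Lib.Helper23.GenLocus

variable {X Y : Scheme.{u}} (f : X ⟶ Y)

/-- the canonical map `(f_* O_X)_{f x} ⟶ (O_X)_x` on stalks of modules -/
noncomputable def fwd (x : X) :
    (pushO f).presheaf.stalk (f x) ⟶ (Coh.structureModule X).presheaf.stalk x :=
  TopCat.Presheaf.stalkPushforward _ f.base (Coh.structureModule X).presheaf x

theorem fwd_germ (x : X) (V : Y.Opens) (hx : f x ∈ V) (t : Γ(pushO f, V)) :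
    fwd f x ((pushO f).presheaf.germ V (f x) hx t) =
      (Coh.structureModule X).presheaf.germ (f ⁻¹ᵁ V) x hx t := by
  have := TopCat.Presheaf.stalkPushforward_germ _ f.base (Coh.structureModule X).presheaf V x hx
  exact ConcreteCategory.congr_hom this t

/-- for a closed map with `f⁻¹ {f x} = {x}`, preimages of neighbourhoods of `f x` are cofinal among
neighbourhoods of `x` -/
theorem exists_nhd (hcl : IsClosedMap f) (x : X) (hfib : f ⁻¹' {f x} = {x})
    (U : X.Opens) (hxU : x ∈ U) : ∃ V : Y.Opens, f x ∈ V ∧ f ⁻¹ᵁ V ≤ U := by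
  refine ⟨⟨(f '' (U : Set X)ᶜ)ᶜ, (hcl _ U.isOpen.isClosed_compl).isOpen_compl⟩, ?_, ?_⟩
  · rintro ⟨x', hx'U, hx'⟩
    have : x' ∈ f ⁻¹' {f x} := hx'
    rw [hfib] at this
    rw [Set.mem_singleton_iff.mp this] at hx'U
    exact hx'U hxU
  · intro x' hx'
    by_contra hcon
    exact hx' ⟨x', hcon, rfl⟩

theorem fwd_surjective (hcl : IsClosedMap f) (x : X) (hfib : f ⁻¹' {f x} = {x}) :
    Function.Surjective (fwd f x) := by
  intro m
  obtain ⟨U, hxU, s, rfl⟩ := (Coh.structureModule X).presheaf.exists_germ_eq m
  obtain ⟨V, hxV, hle⟩ := exists_nhd f hcl x hfib U hxU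
  refine ⟨(pushO f).presheaf.germ V (f x) hxV
    ((Coh.structureModule X).presheaf.map (homOfLE hle).op s), ?_⟩
  rw [fwd_germ]
  exact TopCat.Presheaf.germ_res_apply (Coh.structureModule X).presheaf (homOfLE hle) x hxV s

theorem fwd_injective (hcl : IsClosedMap f) (x : X) (hfib : f ⁻¹' {f x} = {x}) :
    Function.Injective (fwd f x) := by
  rw [injective_iff_map_eq_zero]
  intro m hm
  obtain ⟨V, hxV, t, rfl⟩ := (pushO f).presheaf.exists_germ_eq m
  rw [fwd_germ] at hm
  have h0 : (Coh.structureModule X).presheaf.germ (f ⁻¹ᵁ V) x hxV t =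
      (Coh.structureModule X).presheaf.germ (f ⁻¹ᵁ V) x hxV 0 := by rw [hm, map_zero]
  obtain ⟨W, hxW, i₁, i₂, hW⟩ := (Coh.structureModule X).presheaf.germ_eq x hxV hxV _ 0 h0
  rw [map_zero] at hW
  obtain ⟨V', hxV', hle⟩ := exists_nhd f hcl x hfib W hxW
  have hV'' : f x ∈ V ⊓ V' := ⟨hxV, hxV'⟩
  have hle' : f ⁻¹ᵁ (V ⊓ V') ≤ W := fun z hz => hle hz.2
  rw [← TopCat.Presheaf.germ_res_apply (pushO f).presheaf (homOfLE (inf_le_left : V ⊓ V' ≤ V))
    (f x) hV'' t]
  have hres : (pushO f).presheaf.map (homOfLE (inf_le_left : V ⊓ V' ≤ V)).op t = 0 := by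
    have h1 : (Coh.structureModule X).presheaf.map (homOfLE hle').op
        ((Coh.structureModule X).presheaf.map i₁.op t) = 0 := by rw [hW, map_zero]
    rw [← ConcreteCategory.comp_apply, ← Functor.map_comp] at h1
    exact h1
  rw [hres, map_zero]

/-- semilinearity of `fwd` over the stalk map -/
theorem fwd_smul (x : X) (a : Y.presheaf.stalk (f x)) (m : (pushO f).presheaf.stalk (f x)) :
    fwd f x (a • m) = (f.stalkMap x a) • fwd f x m := by
  obtain ⟨V₁, hV₁, r, rfl⟩ := Y.presheaf.exists_germ_eq (x := f x) a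
  obtain ⟨V₂, hV₂, t, rfl⟩ := (pushO f).presheaf.exists_germ_eq m
  have hV : f x ∈ V₁ ⊓ V₂ := ⟨hV₁, hV₂⟩
  rw [← TopCat.Presheaf.germ_res_apply Y.presheaf (homOfLE (inf_le_left : V₁ ⊓ V₂ ≤ V₁)) (f x) hV r,
    ← TopCat.Presheaf.germ_res_apply (pushO f).presheaf (homOfLE (inf_le_right : V₁ ⊓ V₂ ≤ V₂))
      (f x) hV t]
  set r' := Y.presheaf.map (homOfLE (inf_le_left : V₁ ⊓ V₂ ≤ V₁)).op r
  set t' := (pushO f).presheaf.map (homOfLE (inf_le_right : V₁ ⊓ V₂ ≤ V₂)).op t
  rw [← Mero.germ_smul (pushO f) (V₁ ⊓ V₂) (f x) hV r' t', fwd_germ, fwd_germ,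
    Scheme.Hom.germ_stalkMap_apply,
    ← Mero.germ_smul (Coh.structureModule X) (f ⁻¹ᵁ (V₁ ⊓ V₂)) x hV ((f.app (V₁ ⊓ V₂)).hom r') t']
  rfl

/-- the rank of the stalk of `f_* O_X` at `f x` is the degree of the local ring extension, when `f`
is a closed map and `x` is the only point over `f x` -/
theorem finrank_stalk_pushO (hcl : IsClosedMap f) (x : X) (hfib : f ⁻¹' {f x} = {x}) :
    letI := (f.stalkMap x).hom.toAlgebra
    Module.finrank (Y.presheaf.stalk (f x)) ((pushO f).presheaf.stalk (f x)) =
      Module.finrank (Y.presheaf.stalk (f x)) (X.presheaf.stalk x) := by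
  letI := (f.stalkMap x).hom.toAlgebra
  let j₁ : (pushO f).presheaf.stalk (f x) ≃+ (Coh.structureModule X).presheaf.stalk x :=
    AddEquiv.ofBijective (fwd f x).hom ⟨fwd_injective f hcl x hfib, fwd_surjective f hcl x hfib⟩
  let j : (pushO f).presheaf.stalk (f x) ≃+ X.presheaf.stalk x :=
    j₁.trans (unitStalkEquiv x).symm.toAddEquiv
  have hc : ∀ (r : Y.presheaf.stalk (f x)) (m : (pushO f).presheaf.stalk (f x)),
      j (r • m) = (id r : Y.presheaf.stalk (f x)) • j m := by
    intro r m
    show (unitStalkEquiv x).symm (fwd f x (r • m)) = r • (unitStalkEquiv x).symm (fwd f x m)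
    rw [fwd_smul, map_smul, Algebra.smul_def]
    rfl
  have h := rank_eq_of_equiv_equiv (id : Y.presheaf.stalk (f x) → Y.presheaf.stalk (f x)) j
    Function.bijective_id hc
  unfold Module.finrank
  rw [h]

end Part1

section Part2


open Groth.Agent.Lib.Helper4.NormDelta Groth.Agent.Lib.Helper23.UnitStalk
  Groth.Agent.Lib.Helper23.GenLocus
open Groth.Agent.Lib.R2H1.CurveDegSec Groth.Agent.Lib.R2H1.ZeroDimCoh Groth.Agent.Lib.R2H1.CurveAmple

/-- the stalk at (a point equal to) the generic point of an integral scheme is a field -/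
theorem isField_stalk_of_eq_genericPoint {Y : Scheme.{u}} [IsIntegral Y] (y : Y)
    (hy : y = genericPoint Y) : IsField (Y.presheaf.stalk y) := by
  subst hy
  exact @Field.toIsField Y.functionField inferInstance

theorem residue_bijective_of_isField {Y : Scheme.{u}} (y : Y) (h : IsField (Y.presheaf.stalk y)) :
    Function.Bijective (Y.residue y).hom := by
  refine ⟨?_, IsLocalRing.residue_surjective⟩
  have h1 : IsLocalRing.maximalIdeal (Y.presheaf.stalk y) = ⊥ :=
    IsLocalRing.isField_iff_maximalIdeal_eq.mp h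
  show Function.Injective (IsLocalRing.residue (Y.presheaf.stalk y))
  rw [RingHom.injective_iff_ker_eq_bot, IsLocalRing.ker_residue, h1]

variable {X Y : Scheme.{u}} (f : X ⟶ Y)

/-- the degree of the local ring extension at a point whose local rings are fields is the residue
degree -/
theorem finrank_stalk_eq_residueDegree (x : X) (hX : IsField (X.presheaf.stalk x))
    (hY : IsField (Y.presheaf.stalk (f x))) :
    letI := (f.stalkMap x).hom.toAlgebra
    Module.finrank (Y.presheaf.stalk (f x)) (X.presheaf.stalk x) = f.residueDegree x := by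
  letI := (f.stalkMap x).hom.toAlgebra
  letI := (f.residueFieldMap x).hom.toAlgebra
  let i : Y.presheaf.stalk (f x) ≃+* Y.residueField (f x) :=
    RingEquiv.ofBijective (Y.residue (f x)).hom (residue_bijective_of_isField (f x) hY)
  let j : X.presheaf.stalk x ≃+* X.residueField x :=
    RingEquiv.ofBijective (X.residue x).hom (residue_bijective_of_isField x hX)
  have hc : (algebraMap (Y.residueField (f x)) (X.residueField x)).comp i.toRingHom =
      j.toRingHom.comp (algebraMap (Y.presheaf.stalk (f x)) (X.presheaf.stalk x)) := by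
    ext a
    exact ConcreteCategory.congr_hom (Scheme.residue_residueFieldMap f x) a
  exact Algebra.finrank_eq_of_equiv_equiv i j hc

end Part2

section Part3


open Groth.Agent.Lib.Helper4.NormDelta Groth.Agent.Lib.Helper23.UnitStalk
  Groth.Agent.Lib.Helper23.GenLocus
open Groth.Agent.Lib.R2H1.CurveDegSec Groth.Agent.Lib.R2H1.ZeroDimCoh Groth.Agent.Lib.R2H1.CurveAmple
  Groth.Agent.Lib.R2H1.CurveEuler Groth.Agent.Lib.R2H1.BirDeg Groth.Agent.Lib.R2H1.EulerTensor
  Groth.Agent.Lib.R2H1.ProjLF Groth.Agent.Lib.Helper1.PT Groth.Agent.Lib.Helper21.ModTensor5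

section Top

variable {X Y : Type*} [TopologicalSpace X] [TopologicalSpace Y]

/-- on an irreducible Noetherian `T₀` space of dimension `≤ 1`, a point whose closure is not
everything is closed -/
theorem isClosed_singleton_of_closure_ne_univ [T0Space X] [NoetherianSpace X] [IrreducibleSpace X]
    (hdim : topologicalKrullDim X ≤ 1) (x : X) (hne : closure ({x} : Set X) ≠ Set.univ) :
    IsClosed ({x} : Set X) := by
  have hd := dim_le_zero_of_ne_univ hdim _ isClosed_closure hne
  exact isClosed_of_subset_of_dim_le_zero _ isClosed_closure hd {x}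
    (Set.singleton_subset_iff.mpr (subset_closure rfl))

/-- a closed map from an irreducible one-dimensional space to a space with a non-closed point `y`
has at most the generic point over `y` -/
theorem fiber_subset_of_not_isClosed [T0Space X] [NoetherianSpace X] [IrreducibleSpace X]
    (hdim : topologicalKrullDim X ≤ 1) (f : X → Y) (hcl : IsClosedMap f) (y : Y)
    (hy : ¬ IsClosed ({y} : Set Y)) (x : X) (hx : f x = y) : closure ({x} : Set X) = Set.univ := by
  by_contra hne
  have h1 := isClosed_singleton_of_closure_ne_univ hdim x hne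
  have h2 := hcl _ h1
  rw [Set.image_singleton, hx] at h2
  exact hy h2

end Top

variable {X Y : Scheme.{u}} [IsIntegral X] [IsIntegral Y] (f : X ⟶ Y)

theorem not_isClosed_genericPoint (hY : topologicalKrullDim Y = 1) :
    ¬ IsClosed ({genericPoint Y} : Set Y) := by
  intro hcl
  have h1 : closure ({genericPoint Y} : Set Y) = Set.univ := (genericPoint_spec Y).def
  rw [hcl.closure_eq] at h1
  haveI : Subsingleton Y := ⟨fun a b => by
    have ha : a ∈ ({genericPoint Y} : Set Y) := h1 ▸ Set.mem_univ a
    have hb : b ∈ ({genericPoint Y} : Set Y) := h1 ▸ Set.mem_univ b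
    rw [Set.mem_singleton_iff.mp ha, Set.mem_singleton_iff.mp hb]⟩
  have h0 := topologicalKrullDim_zero_of_discreteTopology Y
  rw [hY] at h0
  exact absurd h0 (by decide)

/-- over the generic point of a one-dimensional integral target, a closed map from a
one-dimensional integral Noetherian scheme has only the generic point -/
theorem fiber_generic [IsNoetherian X] (hX : topologicalKrullDim X ≤ 1)
    (hY : topologicalKrullDim Y = 1) (hcl : IsClosedMap f)
    (hξ : f (genericPoint X) = genericPoint Y) :
    f ⁻¹' {f (genericPoint X)} = {genericPoint X} := by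
  ext x
  constructor
  · intro hx
    have hx' : f x = genericPoint Y := by rw [← hξ]; exact hx
    have h1 := fiber_subset_of_not_isClosed hX f hcl (genericPoint Y)
      (not_isClosed_genericPoint hY) x hx'
    have hg : IsGenericPoint x (⊤ : Set X) := h1
    exact hg.eq (genericPoint_spec X)
  · rintro rfl
    rfl

end Part3

section Part4


open Groth.Agent.Lib.Helper4.NormDelta Groth.Agent.Lib.Helper23.UnitStalk
  Groth.Agent.Lib.Helper23.GenLocus
open Groth.Agent.Lib.R2H1.CurveDegSec Groth.Agent.Lib.R2H1.ZeroDimCoh Groth.Agent.Lib.R2H1.CurveAmple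
  Groth.Agent.Lib.R2H1.CurveEuler Groth.Agent.Lib.R2H1.BirDeg Groth.Agent.Lib.R2H1.EulerTensor
  Groth.Agent.Lib.R2H1.ProjLF Groth.Agent.Lib.Helper1.PT Groth.Agent.Lib.Helper21.ModTensor5
  Groth.Agent.Lib.R2H1.EulerAdd Groth.Agent.Lib.R2H1.GenusLe Groth.Agent.Lib.R2H1.DegCartier

theorem finrank_stalk_congr {Y : Scheme.{u}} (G : Y.Modules) (y y' : Y) (h : y = y') :
    Module.finrank (Y.presheaf.stalk y) (G.presheaf.stalk y) =
      Module.finrank (Y.presheaf.stalk y') (G.presheaf.stalk y') := by
  subst h
  rfl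

theorem univ_ne_singleton {X : Scheme.{u}} (hX : topologicalKrullDim X = 1) (x : X) :
    (Set.univ : Set X) ≠ {x} := by
  intro h1
  haveI : Subsingleton X := ⟨fun a b => by
    have ha : a ∈ ({x} : Set X) := h1 ▸ Set.mem_univ a
    have hb : b ∈ ({x} : Set X) := h1 ▸ Set.mem_univ b
    rw [Set.mem_singleton_iff.mp ha, Set.mem_singleton_iff.mp hb]⟩
  have h0 := topologicalKrullDim_zero_of_discreteTopology X
  rw [hX] at h0
  exact absurd h0 (by decide)

variable (k : Type u) [Field k] (X Y : Scheme.{u})
    [X.Over (Spec (CommRingCat.of k))] [Y.Over (Spec (CommRingCat.of k))] [IsIntegral X] [IsIntegral Y]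
    [IsProper (X ↘ (Spec (CommRingCat.of k)))] [IsProper (Y ↘ (Spec (CommRingCat.of k)))]

/-- a non-constant morphism of integral proper curves is finite -/
theorem isFinite_of_nonconstant (hX : topologicalKrullDim X = 1) (hY : topologicalKrullDim Y = 1)
    (f : X ⟶ Y) (hf : f ≫ (Y ↘ (Spec (CommRingCat.of k))) = X ↘ (Spec (CommRingCat.of k)))
    (hξ : f.base (genericPoint X) = genericPoint Y) : IsFinite f := by
  haveI := isNoetherian_of_proper k X
  haveI : IsProper f := by
    haveI : IsProper (f ≫ (Y ↘ Spec (CommRingCat.of k))) := by rw [hf]; infer_instance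
    exact IsProper.of_comp f (Y ↘ Spec (CommRingCat.of k))
  have hcl : IsClosedMap f := f.isClosedMap
  have hfib := fiber_generic f hX.le hY hcl hξ
  have hnc : ∀ p, f ⁻¹' {p} ≠ Set.univ := by
    intro p hp
    have h1 : f (genericPoint X) = p := by
      have : genericPoint X ∈ f ⁻¹' {p} := hp ▸ Set.mem_univ _
      exact this
    rw [← h1, hfib] at hp
    exact univ_ne_singleton hX _ hp.symm
  have hfin : ∀ p, (f ⁻¹' {p}).Finite := fun p =>
    finite_preimage_singleton_of_isClosedMap hX.le f f.continuous hcl hnc p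
  haveI : LocallyQuasiFinite f := LocallyQuasiFinite.of_finite_preimage_singleton f hfin
  exact IsFinite.of_isProper_of_locallyQuasiFinite f

theorem s7640 (hX : topologicalKrullDim X = 1) (hY : topologicalKrullDim Y = 1)
    (f : X ⟶ Y) (hf : f ≫ (Y ↘ (Spec (CommRingCat.of k))) = X ↘ (Spec (CommRingCat.of k)))
    (hξ : f.base (genericPoint X) = genericPoint Y)
    (n : ℕ) (E : Y.Modules) (hE : FlatMod.IsFinLocFreeOfRank n E) :
    Curv2.deg k X ((Scheme.Modules.pullback f).obj E) n =
      (f.residueDegree (genericPoint X) : ℤ) * Curv2.deg k Y E n := by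
  haveI := isNoetherian_of_proper k X
  haveI := isNoetherian_of_proper k Y
  haveI := isFinite_of_nonconstant k X Y hX hY f hf hξ
  have hcl : IsClosedMap f := f.isClosedMap
  have hfib := fiber_generic f hX.le hY hcl hξ
  have hEf : FlatMod.IsFinLocFree E := fun x => by
    obtain ⟨U, hx, e⟩ := hE x
    exact ⟨U, n, hx, e⟩
  have hO' : Coh.IsCoh (Coh.structureModule X) := isCoh_structureModule X
  have hA : Coh.IsCoh ((psh f).obj (Coh.structureModule X)) :=
    Groth.Agent.S0019.result f _ hO'
  -- the generic rank of `f_* O_X`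
  have hrank : Module.finrank (Y.presheaf.stalk (genericPoint Y))
      (((psh f).obj (Coh.structureModule X)).presheaf.stalk (genericPoint Y)) =
      f.residueDegree (genericPoint X) := by
    rw [← finrank_stalk_congr ((psh f).obj (Coh.structureModule X)) _ _ hξ]
    have h1 := finrank_stalk_pushO f hcl (genericPoint X) hfib
    have h2 := finrank_stalk_eq_residueDegree f (genericPoint X)
      (isField_stalk_of_eq_genericPoint _ rfl) (isField_stalk_of_eq_genericPoint _ hξ)
    exact h1.trans h2
  have hE'f : FlatMod.IsFinLocFree ((plb f).obj E) :=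
    Groth.Agent.Lib.R2H2.PullLF.isFinLocFree_pullback f E hEf
  have hE'c : Coh.IsCoh ((plb f).obj E) :=
    Groth.Agent.Lib.R2H2.PnLocFree.isCoh_of_isFinLocFree _ hE'f
  have d2 : Curv2.euler k X ((plb f).obj E) =
      Curv2.euler k Y (CohB1.tensorMod E ((psh f).obj (Coh.structureModule X))) := by
    have e1 : Curv2.euler k X ((plb f).obj E) =
        Curv2.euler k X (CohB1.tensorMod ((plb f).obj E) (Coh.structureModule X)) :=
      euler_congr k (Groth.Agent.Lib.Helper21.Dual.rU X.sheaf ((plb f).obj E)).symm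
    have e2 := euler_push k f hf (CohB1.tensorMod ((plb f).obj E) (Coh.structureModule X))
      (isCoh_tensorMod hE'c hO').1
    have e3 : Curv2.euler k Y
        ((psh f).obj (CohB1.tensorMod ((plb f).obj E) (Coh.structureModule X))) =
        Curv2.euler k Y (CohB1.tensorMod E ((psh f).obj (Coh.structureModule X))) :=
      euler_congr k ((prjIso f E hEf).app (Coh.structureModule X)).symm
    rw [e1, e2, e3]
  have d3 : Curv2.euler k X (Coh.structureModule X) =
      Curv2.euler k Y ((psh f).obj (Coh.structureModule X)) :=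
    euler_push k f hf _ hO'.1
  have h57 := s1557 k Y hY n E hE ((psh f).obj (Coh.structureModule X)) hA
  rw [hrank] at h57
  show Curv2.deg k X ((plb f).obj E) n = _
  unfold Curv2.deg
  rw [d2, d3, h57]
  unfold Curv2.deg
  ring

end Part4

end Groth.Agent.Lib.R2H1.DegPullback
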