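import Groth.Agent.Lib.R2H2PnGG
import Groth.Agent.Lib.R2H2PnFinite
import Groth.Agent.Lib.Helper27PnSections

/-!
# One step of a linear resolution of a regular sheaf on `P^n_R` (helper2, round 2)
-/

set_option autoImplicit false
universe u

namespace Groth.Agent.Lib.R2H2.PnLinRes

open CategoryTheory CategoryTheory.Limits AlgebraicGeometry TopologicalSpace Opposite
  MonoidalCategory
open Groth.Agent.Lib.R2H2.HHLin Groth.Agent.Lib.R2H2.PnSerre Groth.Agent.Lib.R2H2.PnMulSurj
  Groth.Agent.Lib.R2H2.PnGG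
open Groth.Agent.Lib.Helper6 Groth.Agent.Lib.Helper23.SecTw Groth.Agent.Lib.Helper23.GenLocus
open Groth.Agent.Lib.Helper27PnSections Groth.Agent.Lib.Helper23.QCohLocal

attribute [local instance] Abelian.hasFiniteBiproducts

section General

variable {X : Scheme.{u}}

theorem deltaL_HmapL_g (S : ShortComplex X.Modules) (hS : S.ShortExact) (i : ℕ)
    (y : Coh.HH X S.X₂ i) : deltaL S hS i (HmapL S.g i y) = 0 := by
  rw [deltaL_apply, HmapL_apply, Sheaf.H.map_apply, Abelian.Ext.comp_assoc_of_second_deg_zero]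
  have h : (Abelian.Ext.mk₀ (abMap S.g)).comp (shortExact_toAbF S hS).extClass (zero_add 1) = 0 :=
    (shortExact_toAbF S hS).comp_extClass
  rw [h, Abelian.Ext.comp_zero]
  rfl

/-- the class in `H^0` of a section -/
noncomputable def cls {M : X.Modules} (σ : Coh.structureModule X ⟶ M) : Coh.HH X M 0 :=
  (hh0Equiv X M).symm (sv σ ⊤)

theorem cls_comp {M N : X.Modules} (σ : Coh.structureModule X ⟶ M) (ψ : M ⟶ N) :
    HmapL ψ 0 (cls σ) = cls (σ ≫ ψ) := by
  apply (hh0Equiv X N).injective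
  have h := Sheaf.H.equiv₀_naturality Limits.isTerminalTop (abMap ψ)
    ((hh0Equiv X M).symm (sv σ ⊤))
  have h1 : hh0Equiv X N (cls (σ ≫ ψ)) = sv (σ ≫ ψ) ⊤ := AddEquiv.apply_symm_apply _ _
  have h2 : hh0Equiv X M ((hh0Equiv X M).symm (sv σ ⊤)) = sv σ ⊤ := AddEquiv.apply_symm_apply _ _
  rw [h1, sv_comp]
  refine Eq.trans h.symm ?_
  exact congrArg ((abMap ψ).hom.app (op ⊤)) h2

theorem cls_surjective (M : X.Modules) : Function.Surjective (cls (M := M)) := by
  intro x
  refine ⟨secHom M (hh0Equiv X M x), ?_⟩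
  rw [cls, sv_top_secHom']
  exact AddEquiv.symm_apply_apply _ x

theorem eq_zero_of_cls {M : X.Modules} (σ : Coh.structureModule X ⟶ M) (h : cls σ = 0) :
    σ = 0 := by
  apply hom_ext_of_sv
  rw [sv_zero ⊤]
  have h1 := congrArg (hh0Equiv X M) h
  rw [map_zero] at h1
  exact (AddEquiv.apply_symm_apply _ _).symm.trans h1

/-- a morphism out of a globally generated module killing all sections vanishes -/
theorem eq_zero_of_globallyGenerated {M C : X.Modules} (hM : Curv2.IsGloballyGenerated M)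
    (π : M ⟶ C) (h : ∀ σ : Coh.structureModule X ⟶ M, σ ≫ π = 0) : π = 0 := by
  obtain ⟨ι, p, hp⟩ := hM
  have h1 : p ≫ π = 0 := by
    apply (SheafOfModules.freeHomEquiv C).injective
    funext i
    change SheafOfModules.unitHomEquiv C (SheafOfModules.ιFree i ≫ p ≫ π) =
      SheafOfModules.unitHomEquiv C (SheafOfModules.ιFree i ≫ 0)
    have h2 := h (SheafOfModules.ιFree i ≫ p)
    rw [Category.assoc] at h2
    exact congrArg _ (h2.trans comp_zero.symm)
  exact (cancel_epi p).1 (h1.trans comp_zero.symm)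

/-- **lifting generators of `H^0` through an equivalence**: if `H^0(T F)` is generated by
`x_1, …, x_b` over a ring acting through global functions and `T A ≅ O`, there is
`φ : A^b ⟶ F` such that `H^0(T φ)` is surjective. -/
theorem exists_desc (T : X.Modules ⥤ X.Modules) [T.Full] (F A : X.Modules)
    (w : T.obj A ≅ Coh.structureModule X) (b : ℕ) (x : Fin b → Coh.HH X (T.obj F) 0)
    (hx : ∀ y : Coh.HH X (T.obj F) 0, ∃ c : Fin b → Coh.Γtop X, y = ∑ j, c j • x j) :
    ∃ φ : (∐ fun _ : Fin b => A) ⟶ F, Function.Surjective (HmapL (T.map φ) 0) := by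
  let σ : Fin b → (Coh.structureModule X ⟶ T.obj F) := fun j => secHom _ (hh0Equiv X _ (x j))
  have hσ : ∀ j, cls (σ j) = x j := fun j => by
    rw [cls, sv_top_secHom']
    exact AddEquiv.symm_apply_apply _ _
  let φj : Fin b → (A ⟶ F) := fun j => T.preimage (w.hom ≫ σ j)
  let φ : (∐ fun _ : Fin b => A) ⟶ F := Limits.Sigma.desc φj
  refine ⟨φ, ?_⟩
  have h1 : ∀ j, ∃ y, HmapL (T.map φ) 0 y = x j := by
    intro j
    refine ⟨cls (w.inv ≫ T.map (Limits.Sigma.ι (fun _ : Fin b => A) j)), ?_⟩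
    rw [cls_comp, ← hσ j]
    congr 1
    rw [Category.assoc, ← T.map_comp, Limits.Sigma.ι_desc]
    change w.inv ≫ T.map (T.preimage (w.hom ≫ σ j)) = σ j
    rw [T.map_preimage, Iso.inv_hom_id_assoc]
  choose y hy using h1
  intro z
  obtain ⟨c, hc⟩ := hx z
  refine ⟨∑ j, c j • y j, ?_⟩
  rw [map_sum, hc]
  refine Finset.sum_congr rfl fun j _ => ?_
  rw [map_smul, hy j]

/-- if `H^0(ψ)` is surjective and the target is globally generated then `ψ` is an epimorphism -/
theorem epi_of_surjective_H0 {N M : X.Modules} (ψ : N ⟶ M) (hM : Curv2.IsGloballyGenerated M)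
    (hψ : Function.Surjective (HmapL ψ 0)) : Epi ψ := by
  apply Abelian.epi_of_cokernel_π_eq_zero
  apply eq_zero_of_globallyGenerated hM
  intro σ
  apply eq_zero_of_cls
  obtain ⟨y, hy⟩ := hψ (cls σ)
  rw [← cls_comp, ← hy, ← HmapL_comp, cokernel.condition, HmapL_zero]

end General

section Pn

variable (n : ℕ) (R : Type u) [CommRing R]

local notation "PX" => CohB1.ProjSpace n R

/-- cohomology of a twisted finite coproduct of twisting sheaves -/
theorem subsingleton_HH_twR_coprod (b : ℕ) (d e : ℤ) (i : ℕ) (h₀ : ¬ (i = 0 ∧ 0 ≤ d + e))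
    (hn : ¬ (i = n ∧ d + e ≤ -((n : ℤ) + 1))) :
    Subsingleton (Coh.HH PX ((twR (Twist.twistProjSpace n R e)).obj
      (∐ fun _ : Fin b => Twist.twistProjSpace n R d)) i) := by
  let f : Fin b → (PX).Modules := fun _ => Twist.twistProjSpace n R d
  let L : (PX).Modules := Twist.twistProjSpace n R e
  let e0 : (twR L).obj (∐ f) ≅ (twR L).obj (⨁ f) :=
    (twR L).mapIso (biproduct.isoCoproduct f).symm
  let e1 : (twR L).obj (⨁ f) ≅ ⨁ ((twR L).obj ∘ f) := (twR L).mapBiproduct f
  refine subsingleton_HH_of_iso (e0 ≪≫ e1).symm i (subsingleton_HH_biproduct _ i (fun j => ?_))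
  obtain ⟨e2⟩ := Groth.Agent.Lib.R2Lead.KRR.nonempty_twistProjSpace_tensor_iso n R d e
  refine subsingleton_HH_of_iso e2.symm i ?_
  exact Groth.Agent.Lib.R2H2.PnTwEquiv.subsingleton_HH_twist n R (d + e) i h₀ hn

/-- the kernel of a `H^0`-surjective presentation `O(-m)^b ↠ F` of an `m`-regular module is
`(m+1)`-regular -/
theorem kernel_regular (F : (PX).Modules) (m : ℤ) (b : ℕ)
    (φ : (∐ fun _ : Fin b => Twist.twistProjSpace n R (-m)) ⟶ F) (hφ : Epi φ)
    (hreg : ∀ i : ℕ, 1 ≤ i → i ≤ n →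
      Subsingleton (Coh.HH PX (CohB1.tensorMod F (Twist.twistProjSpace n R (m - i))) i))
    (hsurj : Function.Surjective (HmapL ((twR (Twist.twistProjSpace n R m)).map φ) 0)) :
    ∀ i : ℕ, 1 ≤ i → i ≤ n →
      Subsingleton (Coh.HH PX (CohB1.tensorMod (kernel φ)
        (Twist.twistProjSpace n R (m + 1 - i))) i) := by
  intro i hi1 hin
  obtain ⟨i', rfl⟩ : ∃ i', i = i' + 1 := ⟨i - 1, by omega⟩
  let S : ShortComplex (PX).Modules := ShortComplex.mk (kernel.ι φ) φ (kernel.condition φ)
  have hS : S.ShortExact :=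
    { exact := ShortComplex.exact_kernel φ
      mono_f := equalizer.ι_mono
      epi_g := hφ }
  have key : ∀ e : ℤ, e = m - i' →
      Subsingleton (Coh.HH PX (CohB1.tensorMod (kernel φ) (Twist.twistProjSpace n R e))
        (i' + 1)) := by
    intro e he
    have hS' : (S.map (twR (Twist.twistProjSpace n R e))).ShortExact :=
      shortExact_map_twR _ (isInv n R e) S hS
    have h2 : Subsingleton (Coh.HH PX (S.map (twR (Twist.twistProjSpace n R e))).X₂ (i' + 1)) :=
      subsingleton_HH_twR_coprod n R b (-m) e (i' + 1) (by omega) (by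
        rintro ⟨h1, h2⟩
        omega)
    have hx3 : ∀ x₃ : Coh.HH PX (S.map (twR (Twist.twistProjSpace n R e))).X₃ i',
        deltaL (S.map (twR (Twist.twistProjSpace n R e))) hS' i' x₃ = 0 := by
      intro x₃
      by_cases hi0 : i' = 0
      · subst hi0
        have hem : e = m := by
          rw [he]
          push_cast
          ring
        subst hem
        obtain ⟨y, hy⟩ := hsurj x₃
        rw [← hy]
        exact deltaL_HmapL_g (S.map (twR (Twist.twistProjSpace n R e))) hS' 0 y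
      · have h3 : Subsingleton (Coh.HH PX (S.map (twR (Twist.twistProjSpace n R e))).X₃ i') := by
          subst he
          exact hreg i' (by omega) (by omega)
        rw [Subsingleton.elim x₃ 0, map_zero]
    have h0 : ∀ x₁ : Coh.HH PX (S.map (twR (Twist.twistProjSpace n R e))).X₁ (i' + 1),
        x₁ = 0 := by
      intro x₁
      obtain ⟨x₃, hx₃⟩ := exact₁ (S.map (twR (Twist.twistProjSpace n R e))) hS' i' x₁
        (Subsingleton.elim _ _)
      rw [← hx₃, hx3 x₃]
    exact ⟨fun a b' => (h0 a).trans (h0 b').symm⟩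
  exact key _ (by push_cast; ring)

open Groth.Agent.Lib.Helper23.QCohLocal in
/-- a quotient of `O(-m)^b` with `(m+1)`-regular kernel is `m`-regular -/
theorem regular_of_kernel (F : (PX).Modules) (hF : F.IsQuasicoherent) (m : ℤ) (b : ℕ)
    (φ : (∐ fun _ : Fin b => Twist.twistProjSpace n R (-m)) ⟶ F) (hφ : Epi φ)
    (hK : ∀ i : ℕ, 1 ≤ i → i ≤ n →
      Subsingleton (Coh.HH PX (CohB1.tensorMod (kernel φ)
        (Twist.twistProjSpace n R (m + 1 - i))) i)) :
    ∀ i : ℕ, 1 ≤ i → i ≤ n →
      Subsingleton (Coh.HH PX (CohB1.tensorMod F (Twist.twistProjSpace n R (m - i))) i) := by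
  intro i hi1 hin
  let S : ShortComplex (PX).Modules := ShortComplex.mk (kernel.ι φ) φ (kernel.condition φ)
  have hS : S.ShortExact :=
    { exact := ShortComplex.exact_kernel φ
      mono_f := equalizer.ι_mono
      epi_g := hφ }
  let f : Fin b → (PX).Modules := fun _ => Twist.twistProjSpace n R (-m)
  have hEq0 : (⨁ f : (PX).Modules).IsQuasicoherent :=
    isQuasicoherent_biproduct f (fun _ => Groth.Agent.Lib.R2H2.PnFinite.isQCoh_twist n R (-m))
  have hEq : (∐ f : (PX).Modules).IsQuasicoherent :=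
    Groth.Agent.Lib.Helper23.TensorQCoh.isQuasicoherent_of_iso (biproduct.isoCoproduct f)
  have hKq : (kernel φ).IsQuasicoherent := isQuasicoherent_kernel φ
  have hLq : (Twist.twistProjSpace n R (m - i)).IsQuasicoherent :=
    Groth.Agent.Lib.R2H2.PnFinite.isQCoh_twist n R _
  have hS' : (S.map (twR (Twist.twistProjSpace n R (m - i)))).ShortExact :=
    shortExact_map_twR _ (isInv n R _) S hS
  have h2 : Subsingleton (Coh.HH PX (S.map (twR (Twist.twistProjSpace n R (m - i)))).X₂ i) :=
    subsingleton_HH_twR_coprod n R b (-m) (m - i) i (by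
      rintro ⟨h1, -⟩
      omega) (by
      rintro ⟨h1, h2⟩
      omega)
  have h1 : Subsingleton (Coh.HH PX (S.map (twR (Twist.twistProjSpace n R (m - i)))).X₁
      (i + 1)) := by
    by_cases hlt : i + 1 ≤ n
    · have h3 := hK (i + 1) (by omega) hlt
      have e : m + 1 - ((i + 1 : ℕ) : ℤ) = m - i := by
        push_cast
        ring
      rw [e] at h3
      exact h3
    · have hq : Coh.IsQCoh (S.map (twR (Twist.twistProjSpace n R (m - i)))).X₁ :=
        Groth.Agent.Lib.Helper23.TensorQCoh.isQuasicoherent_tensorMod (kernel φ)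
          (Twist.twistProjSpace n R (m - i))
      exact Groth.Agent.S0022.result n R _ (i + 1) (by omega)
  have h0 : ∀ x₃ : Coh.HH PX (S.map (twR (Twist.twistProjSpace n R (m - i)))).X₃ i, x₃ = 0 := by
    intro x₃
    obtain ⟨x₂, hx₂⟩ := exact₃ (S.map (twR (Twist.twistProjSpace n R (m - i)))) hS' i x₃
      (Subsingleton.elim _ _)
    rw [← hx₂, Subsingleton.elim x₂ 0, map_zero]
  exact ⟨fun a b' => (h0 a).trans (h0 b').symm⟩

/-- **one step of the linear resolution of an `m`-regular coherent module** -/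
theorem exists_linear_step [IsNoetherianRing R] (F : (PX).Modules) (hF : Coh.IsCoh F) (m : ℤ)
    (hreg : ∀ i : ℕ, 1 ≤ i → i ≤ n →
      Subsingleton (Coh.HH PX (CohB1.tensorMod F (Twist.twistProjSpace n R (m - i))) i)) :
    ∃ (b : ℕ) (φ : (∐ fun _ : Fin b => Twist.twistProjSpace n R (-m)) ⟶ F), Epi φ ∧
      ∀ i : ℕ, 1 ≤ i → i ≤ n →
        Subsingleton (Coh.HH PX (CohB1.tensorMod (kernel φ)
          (Twist.twistProjSpace n R (m + 1 - i))) i) := by
  let T : (PX).Modules ⥤ (PX).Modules := twR (Twist.twistProjSpace n R m)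
  have hT : T.IsEquivalence := isEquivalence_twR n R m
  have i1 : F.IsQuasicoherent := hF.1
  have i2 : SheafOfModules.IsFiniteType (R := (PX).ringCatSheaf) F := hF.2
  have i3 : (Twist.twistProjSpace n R m).IsQuasicoherent :=
    Groth.Agent.Lib.R2H2.PnFinite.isQCoh_twist n R m
  have i4 : SheafOfModules.IsFiniteType (R := (PX).ringCatSheaf) (Twist.twistProjSpace n R m) :=
    Groth.Agent.Lib.R2H2.PnFinite.isFiniteType_twist n R m
  have hcoh : Coh.IsCoh (T.obj F) :=
    ⟨Groth.Agent.Lib.Helper23.TensorQCoh.isQuasicoherent_tensorMod F _,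
      Groth.Agent.Lib.Helper23.TensorQCoh.isFiniteType_tensorMod F _⟩
  have hfin : Module.Finite R (Coh.HH PX (T.obj F) 0) :=
    Groth.Agent.Lib.R2H2.PnFinite.finite_HH n R _ hcoh 0
  obtain ⟨b, x, hx⟩ := Module.Finite.exists_fin (R := R) (M := Coh.HH PX (T.obj F) 0)
  obtain ⟨e⟩ := Groth.Agent.Lib.R2Lead.KRR.nonempty_twistProjSpace_tensor_iso n R (-m) m
  obtain ⟨z⟩ := Groth.Agent.Lib.R2Lead.KRR.nonempty_twistProjSpace_zero_iso n R
  let w : T.obj (Twist.twistProjSpace n R (-m)) ≅ Coh.structureModule PX :=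
    e ≪≫ eqToIso (by rw [neg_add_cancel]) ≪≫ z
  obtain ⟨φ, hφ⟩ := exists_desc T F (Twist.twistProjSpace n R (-m)) w b x (fun y => by
    have hy : y ∈ Submodule.span R (Set.range x) := by
      rw [hx]
      trivial
    obtain ⟨c, hc⟩ := (Submodule.mem_span_range_iff_exists_fun R).1 hy
    refine ⟨fun j => Coh.toGlobal (PX ↘ Spec (CommRingCat.of R)) (c j), ?_⟩
    rw [← hc]
    rfl)
  have hgg := globallyGenerated_of_regular n R F hF m hreg
  have hep : Epi (T.map φ) := epi_of_surjective_H0 (T.map φ) hgg hφ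
  have hepφ : Epi φ := T.epi_of_epi_map hep
  exact ⟨b, φ, hepφ, kernel_regular n R F m b φ hepφ hreg hφ⟩

end Pn

end Groth.Agent.Lib.R2H2.PnLinRes
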