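import Groth.Agent.Lib.R2H1DegComponents
import Groth.Agent.Lib.R2H1CurveAmple
import Groth.Agent.Lib.R2H2PnLinRes
import Groth.Agent.Lib.Helper23PB
set_option backward.isDefEq.respectTransparency.types false

/-!
# Invertible modules of non-positive degree on the components of a reduced connected curve (S7641)

* `eq_zero_of_genLocus_eq_bot` : on a reduced scheme a section of an invertible module generating
  nowhere vanishes.
* `component_alternative` : a section of `L` with `deg (L|_Z) ≤ 0` generates `L` everywhere or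
  nowhere on the one-dimensional irreducible component `Z`.
* `s7641`.
-/

set_option autoImplicit false
set_option linter.style.haveILetI false
set_option linter.unusedSectionVars false
universe u v

open CategoryTheory CategoryTheory.Limits AlgebraicGeometry TopologicalSpace Opposite

namespace Groth.Agent.Lib.R2H1.DegNonpos

section Part1

open Groth.Agent.Lib.R2H1.DegComponents
open Groth.Agent.Lib.Helper23.SecTw Groth.Agent.Lib.Helper23.GenLocus
  Groth.Agent.Lib.Helper23.Extend Groth.Agent.Lib.Helper6
open Groth.Agent.Lib.R2H1.CurveDegSec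

/-- on a reduced scheme, a section of an invertible module which generates nowhere is zero -/
theorem eq_zero_of_genLocus_eq_bot {X : Scheme.{u}} [IsReduced X] (L : X.Modules)
    (hL : PicF.IsInvertible L) (s : Coh.structureModule X ⟶ L) (h : CohB1.genLocus L s = ⊥) :
    s = 0 := by
  apply hom_ext_of_sv
  rw [sv_zero]
  have hloc : ∀ x : X, ∃ W : X.Opens, x ∈ W ∧ sv s W = 0 := by
    intro x
    obtain ⟨W, e, hxW, he⟩ := exists_gen L hL x
    refine ⟨W, hxW, ?_⟩
    have h1 := genLocus_inf_eq_coef s he
    rw [h, bot_inf_eq] at h1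
    have h2 : coef he le_rfl (sv s W) = 0 := (basicOpen_eq_bot_iff _).mp h1.symm
    rw [sv_eq_coef_smul s he, h2, zero_smul]
  choose Oy hmem hzero using hloc
  refine (modSheaf L).eq_of_locally_eq' (fun y : (⊤ : X.Opens) => Oy y.1) ⊤
    (fun y => homOfLE le_top) ?_ _ _ (fun y => ?_)
  · intro z hz
    exact Opens.mem_iSup.2 ⟨⟨z, hz⟩, hmem z⟩
  · change res L (le_top : Oy y.1 ≤ ⊤) (sv s ⊤) = res L (le_top : Oy y.1 ≤ ⊤) 0
    rw [res_sv, hzero, res_zero]

end Part1

section Part2


open Groth.Agent.Lib.R2H1.DegComponents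
open Groth.Agent.Lib.Helper23.SecTw Groth.Agent.Lib.Helper23.GenLocus
  Groth.Agent.Lib.Helper23.Extend Groth.Agent.Lib.Helper6
open Groth.Agent.Lib.R2H1.CurveDegSec Groth.Agent.Lib.Helper23.PB

variable (k : Type u) [Field k] (X : Scheme.{u}) [X.Over (Spec (CommRingCat.of k))]
    [IsProper (X ↘ (Spec (CommRingCat.of k)))] [IsNoetherian X]

/-- a section of an invertible module of non-positive degree on a one-dimensional reduced
irreducible component either generates everywhere or nowhere on that component -/
theorem component_alternative (L : X.Modules) (hL : PicF.IsInvertible L)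
    (s : Coh.structureModule X ⟶ L) (Z : irreducibleComponents (X : Type u))
    (hdimZ : topologicalKrullDim (Z.1 : Set X) = 1)
    (hdeg : @Curv2.deg k _ (X.irreducibleComponentIdeal Z.1 Z.2).radical.subscheme
      ⟨(X.irreducibleComponentIdeal Z.1 Z.2).radical.subschemeι ≫ (X ↘ (Spec (CommRingCat.of k)))⟩
      ((Scheme.Modules.pullback (X.irreducibleComponentIdeal Z.1 Z.2).radical.subschemeι).obj L) 1 ≤ 0) :
    Z.1 ⊆ (CohB1.genLocus L s : Set X) ∨ Disjoint Z.1 (CohB1.genLocus L s : Set X) := by
  haveI := isIntegral_cS Z.1 Z.2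
  letI : (cI Z.1 Z.2).subscheme.Over (Spec (CommRingCat.of k)) :=
    ⟨(cI Z.1 Z.2).subschemeι ≫ (X ↘ Spec (CommRingCat.of k))⟩
  haveI : IsProper ((cI Z.1 Z.2).subscheme ↘ Spec (CommRingCat.of k)) :=
    inferInstanceAs (IsProper ((cI Z.1 Z.2).subschemeι ≫ (X ↘ Spec (CommRingCat.of k))))
  have hdimW : topologicalKrullDim (cI Z.1 Z.2).subscheme = 1 := (dim_cS Z.1 Z.2).trans hdimZ
  have hL' := isInvertible_pullback (cI Z.1 Z.2).subschemeι L hL
  have hgl := genLocus_pullback (cI Z.1 Z.2).subschemeι L hL s
    (pullbackUnitIso (cI Z.1 Z.2).subschemeι).symm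
  set s' := (pullbackUnitIso (cI Z.1 Z.2).subschemeι).symm.hom ≫
    (Scheme.Modules.pullback (cI Z.1 Z.2).subschemeι).map s with hs'def
  have hrange := range_cι Z.1 Z.2
  by_cases hs' : s' = 0
  · right
    rw [hs', genLocus_zero _ hL'] at hgl
    rw [Set.disjoint_left]
    intro x hxZ hxG
    rw [← hrange] at hxZ
    obtain ⟨w, rfl⟩ := hxZ
    have : w ∈ (cI Z.1 Z.2).subschemeι ⁻¹ᵁ CohB1.genLocus L s := hxG
    rw [← hgl] at this
    exact this
  · left
    haveI := isIso_of_deg_nonpos k (cI Z.1 Z.2).subscheme hdimW _ hL' s' hs' hdeg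
    have htop := (Groth.Agent.Lib.H9YBlowUp.isIso_iff_genLocus_eq_top _ s').mp inferInstance
    rw [htop] at hgl
    intro x hxZ
    rw [← hrange] at hxZ
    obtain ⟨w, rfl⟩ := hxZ
    have : w ∈ (cI Z.1 Z.2).subschemeι ⁻¹ᵁ CohB1.genLocus L s := hgl ▸ (Opens.mem_top w)
    exact this

theorem s7641 [IsReduced X] [ConnectedSpace X]
    (hdim : ∀ (C : Set X), C ∈ irreducibleComponents (X : Type u) → topologicalKrullDim C = 1)
    (L : X.Modules) (hL : PicF.IsInvertible L)
    (hdeg : ∀ (C : Set X) (hC : C ∈ irreducibleComponents (X : Type u)), @Curv2.deg k _ (X.irreducibleComponentIdeal C hC).radical.subscheme ⟨(X.irreducibleComponentIdeal C hC).radical.subschemeι ≫ (X ↘ (Spec (CommRingCat.of k)))⟩ ((Scheme.Modules.pullback (X.irreducibleComponentIdeal C hC).radical.subschemeι).obj L) 1 ≤ 0) :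
    Subsingleton (Coh.HH X L 0) ∨ Nonempty (L ≅ Coh.structureModule X) := by
  by_cases hex : ∃ s : Coh.structureModule X ⟶ L, s ≠ 0
  · obtain ⟨s, hs⟩ := hex
    right
    have halt : ∀ Z : irreducibleComponents (X : Type u),
        Z.1 ⊆ (CohB1.genLocus L s : Set X) ∨ Disjoint Z.1 (CohB1.genLocus L s : Set X) :=
      fun Z => component_alternative k X L hL s Z (hdim Z.1 Z.2) (hdeg Z.1 Z.2)
    have hG : (CohB1.genLocus L s : Set X) =
        ⋃ Z ∈ {Z : irreducibleComponents (X : Type u) | Z.1 ⊆ (CohB1.genLocus L s : Set X)}, Z.1 := by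
      ext x
      simp only [Set.mem_iUnion, Set.mem_setOf_eq, exists_prop]
      constructor
      · intro hx
        refine ⟨⟨irreducibleComponent x, irreducibleComponent_mem_irreducibleComponents x⟩, ?_,
          mem_irreducibleComponent⟩
        rcases halt ⟨irreducibleComponent x, irreducibleComponent_mem_irreducibleComponents x⟩
          with h | h
        · exact h
        · exact absurd hx (Set.disjoint_left.mp h mem_irreducibleComponent)
      · rintro ⟨Z, hZ, hxZ⟩
        exact hZ hxZ
    have hclosed : IsClosed (CohB1.genLocus L s : Set X) := by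
      rw [hG]
      exact Set.Finite.isClosed_biUnion (Set.toFinite _)
        (fun Z _ => isClosed_of_mem_irreducibleComponents Z.1 Z.2)
    have hclopen : IsClopen (CohB1.genLocus L s : Set X) := ⟨hclosed, (CohB1.genLocus L s).isOpen⟩
    rcases isClopen_iff.mp hclopen with h | h
    · exfalso
      apply hs
      apply eq_zero_of_genLocus_eq_bot L hL s
      ext x
      simp only [Opens.coe_bot, Set.mem_empty_iff_false, iff_false]
      intro hx
      have : x ∈ (CohB1.genLocus L s : Set X) := hx
      rw [h] at this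
      exact this
    · have htop : CohB1.genLocus L s = ⊤ := by
        ext x
        simp only [Opens.coe_top, Set.mem_univ, iff_true]
        show x ∈ (CohB1.genLocus L s : Set X)
        rw [h]
        trivial
      haveI : IsIso s := (Groth.Agent.Lib.H9YBlowUp.isIso_iff_genLocus_eq_top _ s).mpr htop
      exact ⟨(asIso s).symm⟩
  · left
    push_neg at hex
    refine ⟨fun a b => ?_⟩
    obtain ⟨σ, rfl⟩ := Groth.Agent.Lib.R2H2.PnLinRes.cls_surjective L a
    obtain ⟨τ, rfl⟩ := Groth.Agent.Lib.R2H2.PnLinRes.cls_surjective L b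
    rw [hex σ, hex τ]

end Part2

end Groth.Agent.Lib.R2H1.DegNonpos
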