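import Mathlib
import Groth.Prelude.Def_MeroDiv
import Groth.Prelude.Def_SecTwist
import Groth.Agent.Lib.Helper18Tens1
import Groth.Agent.Lib.Helper20Kmod5
import Groth.Agent.S5096
import Groth.Agent.S5097
import Groth.Agent.Lib.R2H1InvHom
import Groth.Agent.Lib.Helper23SecTw6
import Groth.Agent.Lib.Helper23Serre
set_option backward.isDefEq.respectTransparency.types false

/-!
helper1 (run 2): multiplication O(D) tensor O(E) -> O(DE) of Mero divisor modules on an integral scheme is an isomorphism (S19455). API: divCond_mul, mulSec, mulHom D E, mulHom_tmul, exists_smul_invSec (local generator f^-1 where D = div f), exists_common, germOf_mul, invSec_mul, mul_germ, isIso_mulHom, s19455.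
-/

set_option autoImplicit false
set_option linter.style.haveILetI false
set_option linter.unusedSectionVars false
universe u v

open CategoryTheory CategoryTheory.Limits AlgebraicGeometry TopologicalSpace Opposite

namespace Groth.Agent.Lib.R2H1.DivMul

section Part1

open Mero Groth.Agent.Lib.Helper20.Kmod Groth.Agent.Lib.Helper20.Kmod5 Groth.Agent.S5097
  Groth.Agent.S5096

variable {X : Scheme.{u}}

/-- the pointwise condition is multiplicative -/
theorem divCond_mul (D E : Divisor X) (x : X) {t t' : KStalk X x} (h : DivCond D x t)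
    (h' : DivCond E x t') : DivCond (D * E) x (t * t') := by
  intro g hg
  obtain ⟨g₁, hg₁⟩ := QuotientGroup.mk_surjective (D.1 x)
  obtain ⟨g₂, hg₂⟩ := QuotientGroup.mk_surjective (E.1 x)
  have hmul : (D * E).1 x = D.1 x * E.1 x := rfl
  rw [hmul, ← hg₁, ← hg₂, ← QuotientGroup.mk_mul] at hg
  have h1 : (g₁ * g₂)⁻¹ * g ∈ stalkUnits X x := QuotientGroup.eq.1 hg
  obtain ⟨u, hu⟩ := h1
  have hu' : ((g₁ * g₂)⁻¹ * g : (KStalk X x)ˣ) =
      Units.map (algebraMap (X.presheaf.stalk x) (KStalk X x)).toMonoidHom u := hu.symm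
  have hg' : (g : KStalk X x) = (g₁ : KStalk X x) * (g₂ : KStalk X x) *
      algebraMap (X.presheaf.stalk x) (KStalk X x) u.1 := by
    have h2 : g = (g₁ * g₂) * ((g₁ * g₂)⁻¹ * g) := by group
    rw [h2, hu']
    rfl
  have e : t * t' * (g : KStalk X x) = (t * g₁) * (t' * g₂) *
      algebraMap (X.presheaf.stalk x) (KStalk X x) u.1 := by
    rw [hg']; ring
  rw [e]
  exact mul_mem (mul_mem (h g₁ hg₁.symm) (h' g₂ hg₂.symm)) ⟨u.1, rfl⟩

/-- the product of sections of `O(D)` and `O(E)` as a section of `O(DE)` -/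
noncomputable def mulSec (D E : Divisor X) (Z : (Opens X)ᵒᵖ) (m : (divMod D).val.obj Z)
    (n : (divMod E).val.obj Z) : (divMod (D * E)).val.obj Z :=
  (⟨fun y => m.1 y * n.1 y,
    ⟨kLoc_mul X Z.unop _ _ m.2.1 n.2.1, fun y => divCond_mul D E y.1 (m.2.2 y) (n.2.2 y)⟩⟩ :
      Γ(divMod (D * E), Z.unop))

theorem mulSec_apply (D E : Divisor X) (Z : (Opens X)ᵒᵖ) (m : (divMod D).val.obj Z)
    (n : (divMod E).val.obj Z) (y : Z.unop) : (mulSec D E Z m n).1 y = m.1 y * n.1 y := rfl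

/-- the multiplication map `O(D) ⊗ O(E) ⟶ O(DE)` -/
noncomputable def mulHom (D E : Divisor X) :
    CohB1.tensorMod (divMod D) (divMod E) ⟶ divMod (D * E) :=
  Groth.Agent.Helper18Tens.ofBilinSch (divMod D) (divMod E) (divMod (D * E)) (mulSec D E)
    (fun Z m₁ m₂ n => Subtype.ext (funext fun y => add_mul _ _ _))
    (fun Z a m n => Subtype.ext (funext fun y => smul_mul_assoc _ _ _))
    (fun Z m n₁ n₂ => Subtype.ext (funext fun y => mul_add _ _ _))
    (fun Z a m n => Subtype.ext (funext fun y => mul_smul_comm _ _ _))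
    (fun f m n => rfl)


theorem mulHom_tmul (D E : Divisor X) (U : X.Opens) (m : Γ(divMod D, U)) (n : Γ(divMod E, U)) :
    (mulHom D E).app U (SecTwist.tmul (divMod D) (divMod E) U m n) = mulSec D E (op U) m n :=
  Groth.Agent.Helper18Tens.ofBilinSch_tmul (divMod D) (divMod E) (divMod (D * E)) (mulSec D E)
    (fun Z m₁ m₂ n => Subtype.ext (funext fun y => add_mul _ _ _))
    (fun Z a m n => Subtype.ext (funext fun y => smul_mul_assoc _ _ _))
    (fun Z m n₁ n₂ => Subtype.ext (funext fun y => mul_add _ _ _))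
    (fun Z a m n => Subtype.ext (funext fun y => mul_smul_comm _ _ _))
    (fun f m n => rfl) U m n

/-- local generator: where `D = div f`, every section of `O(D)` is a multiple of `f⁻¹` -/
theorem exists_smul_invSec (D : Divisor X) {U : X.Opens} (f : (Γ(kmod X, U))ˣ)
    (hf : ∀ y : U, D.1 y.1 = germOf f y) (W : X.Opens) (hW : W ≤ U) (t : Γ(divMod D, W)) :
    ∃ r : Γ(X, W), r • invSec D f hf W hW = t := by
  let tK : Γ(kmod X, W) := ⟨t.1, t.2.1⟩
  let fW : Γ(kmod X, W) := (kmod X).presheaf.map (homOfLE hW).op (f : Γ(kmod X, U))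
  have hfinv : ∀ y : U, ((f : Γ(kmod X, U)).1 y) *
      ((f⁻¹ : (Γ(kmod X, U))ˣ) : Γ(kmod X, U)).1 y = 1 := by
    intro y
    have h1 : (f : Γ(kmod X, U)) * ((f⁻¹ : (Γ(kmod X, U))ˣ) : Γ(kmod X, U)) = 1 := f.mul_inv
    exact congrArg (fun g : Γ(kmod X, U) => g.1 y) h1
  have hrange : ∀ y : W, (tK * fW).1 y ∈
      (algebraMap (X.presheaf.stalk y.1) (KStalk X y.1)).range := by
    intro y
    exact t.2.2 y (valU f ⟨y.1, hW y.2⟩) (hf ⟨y.1, hW y.2⟩)
  obtain ⟨r, hr⟩ := exists_toK_eq (tK * fW) hrange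
  refine ⟨r, ?_⟩
  apply Subtype.ext
  funext y
  change X.presheaf.germ _ y.1 y.2 r • ((f⁻¹ : (Γ(kmod X, U))ˣ) : Γ(kmod X, U)).1 ⟨y.1, hW y.2⟩ =
    t.1 y
  rw [Algebra.smul_def, Groth.Agent.S10856.algebraMap_eq_mk, ← toK_apply, hr]
  change (t.1 y * (f : Γ(kmod X, U)).1 ⟨y.1, hW y.2⟩) * _ = _
  rw [mul_assoc, hfinv, mul_one]

/-- two divisors are principal on a common neighbourhood -/
theorem exists_common (D E : Divisor X) (x : X) :
    ∃ (U : X.Opens) (_ : x ∈ U) (f h : (Γ(kmod X, U))ˣ),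
      (∀ y : U, D.1 y.1 = germOf f y) ∧ (∀ y : U, E.1 y.1 = germOf h y) := by
  obtain ⟨U₁, hx₁, f, hf⟩ := D.2 x
  obtain ⟨U₂, hx₂, h, hh⟩ := E.2 x
  refine ⟨U₁ ⊓ U₂, ⟨hx₁, hx₂⟩,
    Units.map ((kring X).obj.map (homOfLE inf_le_left).op).hom.toMonoidHom f,
    Units.map ((kring X).obj.map (homOfLE inf_le_right).op).hom.toMonoidHom h, ?_, ?_⟩
  · intro y
    rw [hf ⟨y.1, y.2.1⟩]
    exact congrArg _ (Units.ext rfl)
  · intro y
    rw [hh ⟨y.1, y.2.2⟩]
    exact congrArg _ (Units.ext rfl)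

theorem germOf_mul {U : X.Opens} (f h : (Γ(kmod X, U))ˣ) (y : U) :
    germOf (f * h) y = germOf f y * germOf h y := by
  unfold germOf
  rw [map_mul, QuotientGroup.mk_mul]

theorem invSec_mul (D E : Divisor X) {U : X.Opens} (f h : (Γ(kmod X, U))ˣ)
    (hf : ∀ y : U, D.1 y.1 = germOf f y) (hh : ∀ y : U, E.1 y.1 = germOf h y)
    (hfh : ∀ y : U, (D * E).1 y.1 = germOf (f * h) y) (W : X.Opens) (hW : W ≤ U) :
    mulSec D E (op W) (invSec D f hf W hW) (invSec E h hh W hW) =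
      invSec (D * E) (f * h) hfh W hW := by
  apply Subtype.ext
  funext y
  change ((f⁻¹ : (Γ(kmod X, U))ˣ) : Γ(kmod X, U)).1 ⟨y.1, hW y.2⟩ *
      ((h⁻¹ : (Γ(kmod X, U))ˣ) : Γ(kmod X, U)).1 ⟨y.1, hW y.2⟩ =
    (((f * h)⁻¹ : (Γ(kmod X, U))ˣ) : Γ(kmod X, U)).1 ⟨y.1, hW y.2⟩
  rw [mul_inv, Units.val_mul]
  rfl


theorem mul_germ (D E : Divisor X) {U : X.Opens} (f h : (Γ(kmod X, U))ˣ)
    (hf : ∀ y : U, D.1 y.1 = germOf f y) (hh : ∀ y : U, E.1 y.1 = germOf h y) (y : U) :
    (D * E).1 y.1 = germOf (f * h) y := by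
  rw [germOf_mul, ← hf y, ← hh y]
  rfl

theorem isIso_mulHom [IsIntegral X] (D E : Divisor X) : IsIso (mulHom D E) := by
  have hN : PicF.IsInvertible (CohB1.tensorMod (divMod D) (divMod E)) :=
    Groth.Agent.Lib.Helper23.SecTw.isInvertible_tensorMod (Groth.Agent.S5096.result X D)
      (Groth.Agent.S5096.result X E)
  have hL : PicF.IsInvertible (divMod (D * E)) := Groth.Agent.S5096.result X _
  have hne : mulHom D E ≠ 0 := by
    intro h0
    obtain ⟨x⟩ := (inferInstance : Nonempty X)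
    obtain ⟨U, hxU, f, h, hf, hh⟩ := exists_common D E x
    have hfh := mul_germ D E f h hf hh
    have h1 := mulHom_tmul D E U (invSec D f hf U le_rfl) (invSec E h hh U le_rfl)
    rw [h0, invSec_mul D E f h hf hh hfh U le_rfl] at h1
    have h2 : (invSec (D * E) (f * h) hfh U le_rfl).1 ⟨x, hxU⟩ = 0 := by
      rw [← h1]; rfl
    have h3 : (((f * h)⁻¹ : (Γ(kmod X, U))ˣ) : Γ(kmod X, U)).1 ⟨x, hxU⟩ = 0 := h2
    rw [← coe_valU_inv] at h3
    exact (Units.ne_zero _) h3
  haveI : Mono (mulHom D E) := Groth.Agent.Lib.R2H1.InvHom.mono_of_ne_zero hN hL _ hne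
  haveI : Epi (mulHom D E) := by
    apply Groth.Agent.Lib.Helper23.Serre.epi_of_locally_surjective
    intro V t x hxV
    obtain ⟨U, hxU, f, h, hf, hh⟩ := exists_common D E x
    have hfh := mul_germ D E f h hf hh
    refine ⟨V ⊓ U, inf_le_left, ⟨hxV, hxU⟩, ?_⟩
    obtain ⟨r, hr⟩ := exists_smul_invSec (D * E) (f * h) hfh (V ⊓ U) inf_le_right
      ((divMod (D * E)).presheaf.map (homOfLE (inf_le_left : V ⊓ U ≤ V)).op t)
    let a : Γ(CohB1.tensorMod (divMod D) (divMod E), V ⊓ U) :=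
      SecTwist.tmul _ _ (V ⊓ U) (invSec D f hf _ inf_le_right) (invSec E h hh _ inf_le_right)
    refine ⟨r • a, ?_⟩
    refine (Scheme.Modules.Hom.app_smul (mulHom D E) r a).trans ?_
    have ha : (mulHom D E).app (V ⊓ U) a = invSec (D * E) (f * h) hfh (V ⊓ U) inf_le_right := by
      rw [mulHom_tmul, invSec_mul D E f h hf hh hfh]
    rw [ha]
    exact hr
  exact isIso_of_mono_of_epi _

/-- **S19455** -/
theorem s19455 (X : Scheme.{u}) [AlgebraicGeometry.IsIntegral X] (D E : Mero.Divisor X) :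
    ∃ μ : CohB1.tensorMod (Mero.divMod D) (Mero.divMod E) ⟶ Mero.divMod (D * E),
      (∀ (U : X.Opens) (t : Γ(Mero.divMod D, U)) (t' : Γ(Mero.divMod E, U)),
        (Mero.divModι (D * E)).app U (μ.app U (SecTwist.tmul (Mero.divMod D) (Mero.divMod E) U t t')) =
          (Mero.divModι D).app U t * (Mero.divModι E).app U t') ∧
      IsIso μ := by
  refine ⟨mulHom D E, fun U t t' => ?_, isIso_mulHom D E⟩
  rw [mulHom_tmul]
  rfl

end Part1

end Groth.Agent.Lib.R2H1.DivMul
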