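import Mathlib
import Groth.Agent.Lib.R2H1DivMul
import Groth.Agent.S5089
set_option backward.isDefEq.respectTransparency.types false

/-!
helper1 (run 2): on an integral scheme every invertible module has an inverse (exists_inverse), via L = O(D) (S5089), O(D) tensor O(D^-1) = O(1) (R2H1DivMul) and O(1) = O (oneHom, isIso_oneHom).
-/

set_option autoImplicit false
set_option linter.style.haveILetI false
set_option linter.unusedSectionVars false
universe u v

open CategoryTheory CategoryTheory.Limits AlgebraicGeometry TopologicalSpace Opposite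

namespace Groth.Agent.Lib.R2H1.InvExists

section Part1

open Mero Groth.Agent.Lib.Helper20.Kmod Groth.Agent.Lib.Helper20.Kmod5 Groth.Agent.S5097
  Groth.Agent.S5096 Groth.Agent.Lib.R2H1.DivMul

variable {X : Scheme.{u}}

theorem one_germ (y : (⊤ : X.Opens)) :
    (1 : Divisor X).1 y.1 = germOf (1 : (Γ(kmod X, (⊤ : X.Opens)))ˣ) y := by
  rw [germOf, map_one, QuotientGroup.mk_one]
  rfl

/-- the section `1` of `O_X(1)` -/
noncomputable def oneHom (X : Scheme.{u}) : Coh.structureModule X ⟶ divMod (1 : Divisor X) :=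
  (divMod (1 : Divisor X)).unitHomEquiv.symm (PresheafOfModules.sectionsMk
    (fun V => (invSec (1 : Divisor X) 1 one_germ V.unop le_top : Γ(divMod (1 : Divisor X), V.unop)))
    (fun V V' i => rfl))

theorem oneHom_app (V : X.Opens) (r : Γ(X, V)) :
    (oneHom X).app V r = r • invSec (1 : Divisor X) 1 one_germ V le_top := rfl

/-- `O_X(1) ≅ O_X` on an integral scheme -/
theorem isIso_oneHom [IsIntegral X] : IsIso (oneHom X) := by
  have hN : PicF.IsInvertible (Coh.structureModule X) :=
    Groth.Agent.Lib.Helper23.TensorUnit.isInvertible_structureModule X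
  have hL : PicF.IsInvertible (divMod (1 : Divisor X)) := Groth.Agent.S5096.result X _
  have hne : oneHom X ≠ 0 := by
    intro h0
    obtain ⟨x⟩ := (inferInstance : Nonempty X)
    have h1 := oneHom_app (X := X) ⊤ 1
    rw [h0, one_smul] at h1
    have h2 : (invSec (1 : Divisor X) 1 one_germ ⊤ le_top).1 ⟨x, trivial⟩ = 0 := by
      rw [← h1]; rfl
    have h3 : (((1 : (Γ(kmod X, (⊤ : X.Opens)))ˣ)⁻¹ : (Γ(kmod X, (⊤ : X.Opens)))ˣ) :
        Γ(kmod X, (⊤ : X.Opens))).1 ⟨x, trivial⟩ = 0 := h2
    rw [← coe_valU_inv] at h3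
    exact (Units.ne_zero _) h3
  haveI : Mono (oneHom X) := Groth.Agent.Lib.R2H1.InvHom.mono_of_ne_zero hN hL _ hne
  haveI : Epi (oneHom X) := by
    apply Groth.Agent.Lib.Helper23.Serre.epi_of_locally_surjective
    intro V t x hxV
    refine ⟨V, le_rfl, hxV, ?_⟩
    obtain ⟨r, hr⟩ := exists_smul_invSec (1 : Divisor X) 1 one_germ V le_top t
    refine ⟨r, ?_⟩
    rw [oneHom_app, hr]
    rfl
  exact isIso_of_mono_of_epi _

/-- on an integral scheme every invertible module has an inverse -/
theorem exists_inverse [IsIntegral X] (L : X.Modules) (hL : PicF.IsInvertible L) :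
    ∃ M : X.Modules, PicF.IsInvertible M ∧
      Nonempty (CohB1.tensorMod L M ≅ Coh.structureModule X) := by
  have hX : ∀ x : ↥X, ∃ W : X.Opens, x ∈ W ∧
      {Z : Set ↥X | Z ∈ irreducibleComponents ↥X ∧ (Z ∩ (W : Set ↥X)).Nonempty}.Finite := by
    intro x
    refine ⟨⊤, trivial, ?_⟩
    refine Set.Finite.subset (Set.finite_singleton (Set.univ : Set X)) ?_
    rintro Z ⟨hZ, -⟩
    rw [irreducibleComponents_eq_singleton] at hZ
    exact hZ
  obtain ⟨D, ⟨e⟩⟩ := Groth.Agent.S5089.result X hX L hL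
  refine ⟨divMod D⁻¹, Groth.Agent.S5096.result X _, ⟨?_⟩⟩
  haveI := isIso_mulHom D D⁻¹
  haveI := isIso_oneHom (X := X)
  have h1 : D * D⁻¹ = 1 := mul_inv_cancel D
  exact PicGrp.tensorModIso e (Iso.refl _) ≪≫ asIso (mulHom D D⁻¹) ≪≫
    eqToIso (by rw [h1]) ≪≫ (asIso (oneHom X)).symm

end Part1

end Groth.Agent.Lib.R2H1.InvExists
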