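import Mathlib

set_option autoImplicit false
set_option linter.style.haveILetI false
universe u
open CategoryTheory CategoryTheory.Limits AlgebraicGeometry TopologicalSpace

namespace Groth.Agent.Lib.Helper8ClImm

/-- A finite ring map which is surjective modulo every maximal ideal is surjective. -/
theorem surjective_of_forall_maximal {A B : Type*} [CommRing A] [CommRing B] (φ : A →+* B)
    (hφ : φ.Finite)
    (h : ∀ (m : Ideal A), m.IsMaximal → ∀ b : B, ∃ a : A, b - φ a ∈ m.map φ) :
    Function.Surjective φ := by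
  algebraize [φ]
  let N : Submodule A B := LinearMap.range (Algebra.linearMap A B)
  suffices hN : N = ⊤ by
    intro b
    have hb : b ∈ N := hN ▸ Submodule.mem_top
    obtain ⟨a, ha⟩ := hb
    exact ⟨a, ha⟩
  by_contra hne
  let I : Ideal A := N.colon (⊤ : Submodule A B)
  have hI : I ≠ ⊤ := by
    intro hI
    apply hne
    rw [eq_top_iff]
    intro b _
    have h1 : (1 : A) ∈ I := hI ▸ Submodule.mem_top
    rw [Submodule.mem_colon] at h1
    simpa using h1 b Submodule.mem_top
  obtain ⟨m, hm, hIm⟩ := Ideal.exists_le_maximal I hI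
  have hfg : (⊤ : Submodule A (B ⧸ N)).FG := Module.Finite.fg_top
  have hle : (⊤ : Submodule A (B ⧸ N)) ≤ m • ⊤ := by
    intro z _
    obtain ⟨b, rfl⟩ := N.mkQ_surjective z
    obtain ⟨a, ha⟩ := h m hm b
    have h1 : N.mkQ b = N.mkQ (b - φ a) := by
      rw [map_sub]
      have : N.mkQ (φ a) = 0 := by
        rw [Submodule.mkQ_apply, Submodule.Quotient.mk_eq_zero]
        exact ⟨a, rfl⟩
      rw [this, sub_zero]
    rw [h1]
    have h2 : b - φ a ∈ (m • ⊤ : Submodule A B) := by
      rw [Ideal.smul_top_eq_map]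
      exact ha
    have h3 := Submodule.mem_map_of_mem (f := N.mkQ) h2
    rwa [Submodule.map_smul'', Submodule.map_top, Submodule.range_mkQ] at h3
  obtain ⟨r, hr1, hr2⟩ :=
    Submodule.exists_sub_one_mem_and_smul_eq_zero_of_fg_of_le_smul m ⊤ hfg hle
  have hrI : r ∈ I := by
    rw [Submodule.mem_colon]
    intro b _
    have h4 := hr2 (N.mkQ b) Submodule.mem_top
    rw [← map_smul, Submodule.mkQ_apply, Submodule.Quotient.mk_eq_zero] at h4
    exact h4
  have h1m : (1 : A) ∈ m := by
    have := m.sub_mem (hIm hrI) hr1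
    simpa using this
  exact hm.ne_top ((Ideal.eq_top_iff_one _).mpr h1m)

section Fin

variable {X Y : Scheme.{u}} (f : X ⟶ Y)

/-- the fibre through a closed point (with closed image) is that point, if `f` is injective on
closed points -/
theorem preimage_eq_singleton [JacobsonSpace X]
    (hinj : Set.InjOn f.base {x : X | IsClosed ({x} : Set X)})
    (x : X) (hx : IsClosed ({x} : Set X)) (hy : IsClosed ({f x} : Set Y)) :
    f ⁻¹' {f x} = {x} := by
  have hF : IsClosed (f ⁻¹' {f x}) := hy.preimage f.continuous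
  have h1 := JacobsonSpace.closure_inter_closedPoints hF
  have h2 : f ⁻¹' {f x} ∩ closedPoints X ⊆ {x} := by
    rintro x' ⟨hx'1, hx'2⟩
    exact hinj hx'2 hx hx'1
  apply subset_antisymm
  · rw [← h1]
    exact closure_minimal h2 hx
  · simp

theorem quasiFiniteAt_of_preimage_eq_singleton [LocallyOfFiniteType f] (x : X)
    (h : f ⁻¹' {f x} = {x}) : f.QuasiFiniteAt x := by
  rw [Scheme.Hom.quasiFiniteAt_iff_isOpen_singleton_asFiber]
  have hs : Subsingleton (f ⁻¹' {f x}) := by
    rw [h]
    infer_instance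
  have hs' : Subsingleton (f.fiber (f x)) := (f.fiberHomeo (f x)).injective.subsingleton
  have : ({f.asFiber x} : Set (f.fiber (f x))) = Set.univ := by
    ext z
    simp [Subsingleton.elim z (f.asFiber x)]
  rw [this]
  exact isOpen_univ

theorem isFinite_of_injOn_closedPoints [IsProper f] [JacobsonSpace X] [JacobsonSpace Y]
    (hinj : Set.InjOn f.base {x : X | IsClosed ({x} : Set X)}) : IsFinite f := by
  haveI : LocallyQuasiFinite f := by
    rw [← Scheme.Hom.quasiFiniteLocus_eq_top_iff]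
    by_contra hne
    have hcl : IsClosed ((f.quasiFiniteLocus : Set X)ᶜ) := f.quasiFiniteLocus.2.isClosed_compl
    have hne' : ((f.quasiFiniteLocus : Set X)ᶜ).Nonempty := by
      rw [Set.nonempty_compl]
      intro h
      apply hne
      ext z
      simp [h]
    obtain ⟨x, hx1, hx2⟩ := nonempty_inter_closedPoints hne' hcl.isLocallyClosed
    apply hx1
    have hy : IsClosed ({f x} : Set Y) := f.closePoints_subset_preimage_closedPoints hx2
    exact quasiFiniteAt_of_preimage_eq_singleton f x (preimage_eq_singleton f hinj x hx2 hy)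
  exact IsFinite.of_isProper_of_locallyQuasiFinite f

end Fin

section Alg

open IsLocalRing

variable {A B R' S : Type*} [CommRing A] [CommRing B] [CommRing R'] [CommRing S]
  [Algebra A R'] [Algebra B S] (φ : A →+* B) (m : Ideal A) [hm : m.IsMaximal] (n : Ideal B)
  [hn : n.IsPrime] [IsLocalization.AtPrime R' m] [IsLocalization.AtPrime S n] [IsLocalRing R']
  [IsLocalRing S] (σ : R' →+* S) (hσ : σ.comp (algebraMap A R') = (algebraMap B S).comp φ)
  (hmn : n.comap φ = m)

include hσ in
theorem map_maximalIdeal_eq :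
    Ideal.map σ (maximalIdeal R') = Ideal.map (algebraMap B S) (m.map φ) := by
  rw [← IsLocalization.AtPrime.map_eq_maximalIdeal m R', Ideal.map_map, hσ, ← Ideal.map_map]

include hσ in
theorem le_map_of_cotangent [IsNoetherianRing S]
    (hT : Ideal.map σ (maximalIdeal R') ⊔ maximalIdeal S ^ 2 = maximalIdeal S)
    (huniq : ∀ n' : Ideal B, n'.IsPrime → m.map φ ≤ n' → n' = n) : n ≤ m.map φ := by
  have h1 : maximalIdeal S ≤ Ideal.map σ (maximalIdeal R') := by
    refine Submodule.le_of_le_smul_of_le_jacobson_bot (I := maximalIdeal S)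
      (IsNoetherian.noetherian _) (IsLocalRing.maximalIdeal_le_jacobson _) ?_
    rw [smul_eq_mul, ← pow_two, hT]
  rw [map_maximalIdeal_eq φ m σ hσ] at h1
  intro b hb
  have hb' : algebraMap B S b ∈ maximalIdeal S :=
    (IsLocalization.AtPrime.to_map_mem_maximal_iff S n b).mpr hb
  obtain ⟨t, ht, htb⟩ :=
    (IsLocalization.algebraMap_mem_map_algebraMap_iff n.primeCompl S _ b).mp (h1 hb')
  have hJ : Ideal.span {t} ⊔ m.map φ = ⊤ := by
    by_contra hne
    obtain ⟨n', hn', hle⟩ := Ideal.exists_le_maximal _ hne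
    have := huniq n' hn'.isPrime (le_sup_right.trans hle)
    subst this
    exact ht (hle (Ideal.mem_sup_left (Ideal.mem_span_singleton_self t)))
  have h1J : (1 : B) ∈ Ideal.span {t} ⊔ m.map φ := hJ ▸ Submodule.mem_top
  obtain ⟨u, c, hc, huc⟩ := Ideal.mem_span_singleton_sup.mp h1J
  have : b = u * (t * b) + c * b := by
    calc b = (u * t + c) * b := by rw [huc, one_mul]
      _ = u * (t * b) + c * b := by ring
  rw [this]
  exact Ideal.add_mem _ (Ideal.mul_mem_left _ _ htb) (Ideal.mul_mem_right _ _ hc)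

include hσ hmn in
theorem exists_sub_mem_of_residue (hres : ∀ s : S, ∃ r : R', s - σ r ∈ maximalIdeal S) (b : B) :
    ∃ a : A, b - φ a ∈ n := by
  obtain ⟨r, hr⟩ := hres (algebraMap B S b)
  obtain ⟨a, s, rfl⟩ := IsLocalization.exists_mk'_eq m.primeCompl r
  have hσ' : ∀ z : A, σ (algebraMap A R' z) = algebraMap B S (φ z) := fun z =>
    congrArg (fun g : A →+* S => g z) hσ
  have h1 : algebraMap B S (b * φ s - φ a) ∈ maximalIdeal S := by
    have h2 := Ideal.mul_mem_right (algebraMap B S (φ s)) _ hr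
    have h3 : σ (IsLocalization.mk' R' a s) * algebraMap B S (φ s) = algebraMap B S (φ a) := by
      rw [← hσ', ← map_mul, IsLocalization.mk'_spec, hσ']
    rw [sub_mul, h3, ← map_mul, ← map_sub] at h2
    exact h2
  have h4 : b * φ s - φ a ∈ n := (IsLocalization.AtPrime.to_map_mem_maximal_iff S n _).mp h1
  obtain ⟨s', i, hi, hsi⟩ := hm.exists_inv (x := (s : A)) s.2
  refine ⟨s' * a, ?_⟩
  have hφi : φ i ∈ n := by
    rw [← hmn] at hi
    exact hi
  have : b - φ (s' * a) = b * φ i + φ s' * (b * φ s - φ a) := by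
    have h5 : φ i = 1 - φ s' * φ s := by
      rw [← map_mul, ← map_one φ, ← hsi, map_add, add_sub_cancel_left]
    rw [h5, map_mul]
    ring
  rw [this]
  exact Ideal.add_mem _ (Ideal.mul_mem_left _ _ hφi) (Ideal.mul_mem_left _ _ h4)

end Alg

section Sch

variable {X Y : Scheme.{u}}

theorem exists_primeIdealOf_eq {V : X.Opens} (hV : IsAffineOpen V) (p : PrimeSpectrum Γ(X, V)) :
    ∃ (x : X) (hx : x ∈ V), hV.primeIdealOf ⟨x, hx⟩ = p := by
  have hx : hV.fromSpec p ∈ V := by
    have : hV.fromSpec p ∈ Set.range hV.fromSpec := Set.mem_range_self p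
    rw [hV.range_fromSpec] at this
    exact this
  refine ⟨hV.fromSpec p, hx, ?_⟩
  apply hV.fromSpec.isOpenEmbedding.injective
  rw [hV.fromSpec_primeIdealOf]

theorem eq_of_primeIdealOf_eq {V : X.Opens} (hV : IsAffineOpen V) {x x' : X} (hx : x ∈ V)
    (hx' : x' ∈ V) (h : hV.primeIdealOf ⟨x, hx⟩ = hV.primeIdealOf ⟨x', hx'⟩) : x = x' := by
  have := congrArg hV.fromSpec h
  rwa [hV.fromSpec_primeIdealOf, hV.fromSpec_primeIdealOf] at this

set_option backward.isDefEq.respectTransparency false in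
theorem exists_sub_mem_map (f : X ⟶ Y) [IsAffineHom f] [JacobsonSpace X] [JacobsonSpace Y]
    [IsLocallyNoetherian X]
    (hinj : Set.InjOn f.base {x : X | IsClosed ({x} : Set X)})
    (hres : ∀ x : X, IsClosed ({x} : Set X) → Function.Surjective (f.residueFieldMap x).hom)
    (hT : ∀ x : X, IsClosed ({x} : Set X) →
      Ideal.map (f.stalkMap x).hom (IsLocalRing.maximalIdeal (Y.presheaf.stalk (f.base x))) ⊔
        IsLocalRing.maximalIdeal (X.presheaf.stalk x) ^ 2 =
          IsLocalRing.maximalIdeal (X.presheaf.stalk x))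
    (U : Y.Opens) (hU : IsAffineOpen U) (m : Ideal Γ(Y, U)) (hm : m.IsMaximal)
    (b : Γ(X, f ⁻¹ᵁ U)) :
    ∃ a : Γ(Y, U), b - (f.app U).hom a ∈ m.map (f.app U).hom := by
  have hV : IsAffineOpen (f ⁻¹ᵁ U) := hU.preimage f
  obtain ⟨P, hP⟩ : ∃ P : PrimeSpectrum Γ(Y, U), P.asIdeal = m := ⟨⟨m, hm.isPrime⟩, rfl⟩
  subst hP
  obtain ⟨y, hyU, hyP⟩ := exists_primeIdealOf_eq hU P
  subst hyP
  have hycl : IsClosed ({y} : Set Y) := by
    have h1 : hU.primeIdealOf ⟨y, hyU⟩ ∈ closedPoints (PrimeSpectrum Γ(Y, U)) :=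
      (PrimeSpectrum.isClosed_singleton_iff_isMaximal _).mpr hm
    have h2 := hU.fromSpec.isOpenEmbedding.preimage_closedPoints
    have h3 : hU.primeIdealOf ⟨y, hyU⟩ ∈ hU.fromSpec ⁻¹' closedPoints Y := by
      rw [h2]
      exact h1
    have h4 : hU.fromSpec (hU.primeIdealOf ⟨y, hyU⟩) ∈ closedPoints Y := h3
    rwa [hU.fromSpec_primeIdealOf] at h4
  have hcomap : ∀ (x : X) (hx : x ∈ f ⁻¹ᵁ U),
      (hV.primeIdealOf ⟨x, hx⟩).asIdeal.comap (f.app U).hom =
        (hU.primeIdealOf ⟨f x, hx⟩).asIdeal := by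
    intro x hx
    have := IsAffineOpen.comap_primeIdealOf_appLE U hU (f ⁻¹ᵁ U) hV le_rfl hx
    rw [Scheme.Hom.app_eq_appLE]
    exact congrArg PrimeSpectrum.asIdeal this
  by_cases hne : (f ⁻¹' {y}).Nonempty
  · obtain ⟨x, hx1, hx2⟩ :=
      nonempty_inter_closedPoints hne (hycl.preimage f.continuous).isLocallyClosed
    have hx1' : f x = y := hx1
    subst hx1'
    have hx2' : IsClosed ({x} : Set X) := hx2
    have hfib := preimage_eq_singleton f hinj x hx2' hycl
    have hxV : x ∈ f ⁻¹ᵁ U := hyU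
    letI := Y.presheaf.algebra_section_stalk ⟨f x, hyU⟩
    letI := X.presheaf.algebra_section_stalk ⟨x, hxV⟩
    haveI := hU.isLocalization_stalk ⟨f x, hyU⟩
    haveI := hV.isLocalization_stalk ⟨x, hxV⟩
    have hσ : (f.stalkMap x).hom.comp (algebraMap Γ(Y, U) (Y.presheaf.stalk (f x))) =
        (algebraMap Γ(X, f ⁻¹ᵁ U) (X.presheaf.stalk x)).comp (f.app U).hom := by
      have := f.germ_stalkMap U x hyU
      exact congrArg CommRingCat.Hom.hom this
    have hle : (hV.primeIdealOf ⟨x, hxV⟩).asIdeal ≤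
        (hU.primeIdealOf ⟨f x, hyU⟩).asIdeal.map (f.app U).hom := by
      refine le_map_of_cotangent (f.app U).hom _ _ (f.stalkMap x).hom hσ (hT x hx2') ?_
      intro n' hn' hle'
      obtain ⟨x', hx'V, hx'⟩ := exists_primeIdealOf_eq hV ⟨n', hn'⟩
      have h1 : (hU.primeIdealOf ⟨f x, hyU⟩).asIdeal ≤ n'.comap (f.app U).hom :=
        Ideal.map_le_iff_le_comap.mp hle'
      have h2 : (hU.primeIdealOf ⟨f x, hyU⟩).asIdeal = n'.comap (f.app U).hom :=
        hm.eq_of_le (Ideal.comap_ne_top _ hn'.ne_top) h1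
      have h3 := hcomap x' hx'V
      rw [hx'] at h3
      have h4 : hU.primeIdealOf ⟨f x', hx'V⟩ = hU.primeIdealOf ⟨f x, hyU⟩ :=
        PrimeSpectrum.ext (h3.symm.trans h2.symm)
      have h5 : f x' = f x := eq_of_primeIdealOf_eq hU _ _ h4
      have h6 : x' ∈ f ⁻¹' {f x} := h5
      rw [hfib] at h6
      have h7 : x' = x := h6
      subst h7
      exact (congrArg PrimeSpectrum.asIdeal hx').symm
    have hres' : ∀ s : X.presheaf.stalk x, ∃ r : Y.presheaf.stalk (f x),
        s - (f.stalkMap x).hom r ∈ IsLocalRing.maximalIdeal (X.presheaf.stalk x) := by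
      intro s
      obtain ⟨rb, hrb⟩ := hres x hx2' (X.residue x s)
      obtain ⟨r, rfl⟩ := IsLocalRing.residue_surjective rb
      refine ⟨r, ?_⟩
      have h1 : X.residue x ((f.stalkMap x).hom r) =
          (f.residueFieldMap x).hom (Y.residue (f x) r) := by
        have := Scheme.residue_residueFieldMap f x
        exact (congrArg (fun g => g.hom r) this).symm
      rw [← Ideal.Quotient.eq_zero_iff_mem]
      change IsLocalRing.residue _ (s - (f.stalkMap x).hom r) = 0
      rw [map_sub, sub_eq_zero]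
      exact hrb.symm.trans h1.symm
    obtain ⟨a, ha⟩ := exists_sub_mem_of_residue (f.app U).hom
      (hU.primeIdealOf ⟨f x, hyU⟩).asIdeal (hV.primeIdealOf ⟨x, hxV⟩).asIdeal
      (f.stalkMap x).hom hσ (hcomap x hxV) hres' b
    exact ⟨a, hle ha⟩
  · refine ⟨0, ?_⟩
    have htop : (hU.primeIdealOf ⟨y, hyU⟩).asIdeal.map (f.app U).hom = ⊤ := by
      by_contra hne'
      obtain ⟨n', hn', hle'⟩ := Ideal.exists_le_maximal _ hne'
      obtain ⟨x', hx'V, hx'⟩ := exists_primeIdealOf_eq hV ⟨n', hn'.isPrime⟩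
      have h1 : (hU.primeIdealOf ⟨y, hyU⟩).asIdeal ≤ n'.comap (f.app U).hom :=
        Ideal.map_le_iff_le_comap.mp hle'
      have h2 : (hU.primeIdealOf ⟨y, hyU⟩).asIdeal = n'.comap (f.app U).hom :=
        hm.eq_of_le (Ideal.comap_ne_top _ hn'.ne_top) h1
      have h3 := hcomap x' hx'V
      rw [hx'] at h3
      have h4 : hU.primeIdealOf ⟨f x', hx'V⟩ = hU.primeIdealOf ⟨y, hyU⟩ :=
        PrimeSpectrum.ext (h3.symm.trans h2.symm)
      have h5 : f x' = y := eq_of_primeIdealOf_eq hU _ _ h4
      exact hne ⟨x', h5⟩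
    rw [htop]
    exact Submodule.mem_top

end Sch

section Main

variable (k : Type u) [Field k] [IsAlgClosed k] {X Y : Scheme.{u}} (f : X ⟶ Y)
  (q : Y ⟶ Spec (CommRingCat.of k)) [LocallyOfFiniteType q] [LocallyOfFiniteType (f ≫ q)]

include q in
theorem residueFieldMap_bijective (x : X) (hx : IsClosed ({x} : Set X))
    (hy : IsClosed ({f x} : Set Y)) : Function.Bijective (f.residueFieldMap x).hom := by
  have h1 := SpecMap_residueFieldIsoBase_inv (f ≫ q) x hx
  have h2 := SpecMap_residueFieldIsoBase_inv q (f x) hy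
  have h3 : (residueFieldIsoBase q (f x) hy).inv ≫ f.residueFieldMap x =
      (residueFieldIsoBase (f ≫ q) x hx).inv := by
    apply Spec.map_injective
    rw [Spec.map_comp, h1, h2, Scheme.Hom.SpecMap_residueFieldMap_fromSpecResidueField_assoc]
  have h4 : f.residueFieldMap x =
      (residueFieldIsoBase q (f x) hy).hom ≫ (residueFieldIsoBase (f ≫ q) x hx).inv := by
    rw [← h3, Iso.hom_inv_id_assoc]
  rw [h4]
  exact ConcreteCategory.bijective_of_isIso _

include q in
theorem main [IsProper f]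
    (hinj : Set.InjOn f.base {x : X | IsClosed ({x} : Set X)})
    (hT : ∀ x : X, IsClosed ({x} : Set X) →
      Ideal.map (f.stalkMap x).hom (IsLocalRing.maximalIdeal (Y.presheaf.stalk (f.base x))) ⊔
        IsLocalRing.maximalIdeal (X.presheaf.stalk x) ^ 2 =
          IsLocalRing.maximalIdeal (X.presheaf.stalk x)) :
    IsClosedImmersion f := by
  haveI : JacobsonSpace Y := LocallyOfFiniteType.jacobsonSpace q
  haveI : JacobsonSpace X := LocallyOfFiniteType.jacobsonSpace (f ≫ q)
  haveI : IsFinite f := isFinite_of_injOn_closedPoints f hinj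
  haveI : IsLocallyNoetherian X := LocallyOfFiniteType.isLocallyNoetherian (f ≫ q)
  have hres : ∀ x : X, IsClosed ({x} : Set X) →
      Function.Surjective (f.residueFieldMap x).hom := fun x hx =>
    (residueFieldMap_bijective k f q x hx (f.closePoints_subset_preimage_closedPoints hx)).2
  rw [isClosedImmersion_iff_isAffineHom]
  refine ⟨inferInstance, fun U hU => ?_⟩
  exact surjective_of_forall_maximal (f.app U).hom (f.finite_app U hU)
    (fun m hm b => exists_sub_mem_map f hinj hres hT U hU m hm b)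

end Main

end Groth.Agent.Lib.Helper8ClImm
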