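import Mathlib
import Groth.Agent.Lib.R2H4BirIso

set_option autoImplicit false
set_option linter.style.haveILetI false
universe u
open CategoryTheory CategoryTheory.Limits AlgebraicGeometry TopologicalSpace

namespace Groth.Agent.Lib.Helper8FlatBir

/-- A faithfully flat ring map which is birational is bijective. -/
theorem bijective_of_faithfullyFlat_birational {A B K L : Type*} [CommRing A] [CommRing B]
    [Field K] [Field L]
    (iA : A →+* K) (iB : B →+* L) (φ : K →+* L) (f : A →+* B) (hcomm : iB.comp f = φ.comp iA)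
    (hA : @IsFractionRing A _ K _ iA.toAlgebra) (hiB : Function.Injective iB)
    (hf : f.FaithfullyFlat) (hφ : Function.Surjective φ) : Function.Bijective f := by
  letI : Algebra A K := iA.toAlgebra
  haveI : IsFractionRing A K := hA
  have hiA : Function.Injective iA := IsFractionRing.injective A K
  have hcomm' : ∀ a, iB (f a) = φ (iA a) := fun a => congrArg (fun g => g a) hcomm
  constructor
  · have h1 : Function.Injective (iB.comp f) := by
      rw [hcomm]; exact φ.injective.comp hiA
    exact Function.Injective.of_comp h1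
  · intro b
    obtain ⟨k, hk⟩ := hφ (iB b)
    obtain ⟨x, y, hy, hxy⟩ := IsFractionRing.div_surjective (A := A) k
    haveI : Nontrivial A := iA.domain_nontrivial
    have hy0 : y ≠ 0 := nonZeroDivisors.ne_zero hy
    have hiy : iA y ≠ 0 := fun h => hy0 (hiA (by rw [h, map_zero]))
    -- b * f y = f x
    have hb : b * f y = f x := by
      apply hiB
      rw [map_mul, hcomm', hcomm', ← hk, ← hxy, ← map_mul]
      congr 1
      change algebraMap A K x / algebraMap A K y * algebraMap A K y = algebraMap A K x
      rw [div_mul_cancel₀]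
      exact hiy
    letI : Algebra A B := f.toAlgebra
    haveI : Module.FaithfullyFlat A B := hf
    have hmem : x ∈ (Ideal.span {y} : Ideal A) := by
      rw [← Ideal.comap_map_eq_self_of_faithfullyFlat (B := B) (Ideal.span {y})]
      rw [Ideal.mem_comap, Ideal.map_span, Set.image_singleton, Ideal.mem_span_singleton']
      exact ⟨b, hb⟩
    obtain ⟨a, ha⟩ := Ideal.mem_span_singleton'.mp hmem
    refine ⟨a, ?_⟩
    have hfy : f y ≠ 0 := by
      intro h
      apply hiy
      have := hcomm' y
      rw [h, map_zero] at this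
      exact (map_eq_zero φ).mp this.symm
    have h2 : f a * f y = b * f y := by rw [hb, ← map_mul, ha]
    have hfy' : iB (f y) ≠ 0 := fun h => hfy (hiB (by rw [h, map_zero]))
    apply hiB
    have := congrArg iB h2
    rw [map_mul, map_mul] at this
    exact mul_right_cancel₀ hfy' this

set_option backward.isDefEq.respectTransparency false in
theorem faithfullyFlat_app {X Y : Scheme.{u}} (f : X ⟶ Y) [Flat f] [Surjective f] (U : Y.Opens)
    (hU : IsAffineOpen U) (hfU : IsAffineOpen (f ⁻¹ᵁ U)) : (f.app U).hom.FaithfullyFlat := by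
  haveI : IsAffine U.toScheme := hU
  haveI : IsAffine (f ⁻¹ᵁ U).toScheme := hfU
  haveI : Flat (f ∣_ U) := MorphismProperty.of_isPullback (isPullback_morphismRestrict f U).flip ‹_›
  haveI : Surjective (f ∣_ U) :=
    MorphismProperty.of_isPullback (isPullback_morphismRestrict f U).flip ‹_›
  have h1 : ((f ∣_ U).appTop).hom.FaithfullyFlat :=
    (Flat.flat_and_surjective_iff_faithfullyFlat_of_isAffine (f ∣_ U)).mp
      ⟨inferInstance, inferInstance⟩
  rw [morphismRestrict_appTop] at h1
  have h2 : (f.app (U.ι ''ᵁ ⊤)).hom.FaithfullyFlat := by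
    rw [CommRingCat.hom_comp] at h1
    exact (RingHom.FaithfullyFlat.respectsIso.cancel_right_isIso _
      (X.presheaf.map (eqToHom (image_morphismRestrict_preimage f U ⊤)).op)).mp h1
  have key : ∀ W : Y.Opens, W = U → (f.app W).hom.FaithfullyFlat →
      (f.app U).hom.FaithfullyFlat := by
    rintro W rfl h; exact h
  exact key _ U.ι_image_top h2

open Groth.Agent.Lib.R2H4.NormNormal Groth.Agent.Lib.R2H4.NormQAff Groth.Agent.Lib.R2H4.BirIso in
/-- Affine, flat, surjective, birational morphism of integral schemes is an isomorphism. -/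
theorem isIso_of_affine_flat_birational {X Y : Scheme.{u}} (f : X ⟶ Y) [IsAffineHom f] [Flat f]
    [Surjective f] [IsIntegral X] [IsIntegral Y]
    (hdeg : IsIso (f.stalkMap (genericPoint X))) : IsIso f := by
  haveI : IsIso (Y.presheaf.stalkSpecializes (specializes_of_eq (map_genericPoint f))) :=
    (Y.presheaf.stalkCongr (Inseparable.of_eq (map_genericPoint f).symm)).isIso_hom
  haveI : IsIso (fieldMap f) := by
    unfold fieldMap
    infer_instance
  have hφ : Function.Bijective (fieldMap f).hom := ConcreteCategory.bijective_of_isIso (fieldMap f)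
  apply isIso_of_isAffineHom_of_isIso_app
  intro U
  rw [ConcreteCategory.isIso_iff_bijective]
  by_cases hne : Nonempty U.1
  · haveI : Nonempty (f ⁻¹ᵁ U.1) :=
      ⟨⟨genericPoint X, genericPoint_mem_preimage f U.1 (genericPoint_mem U.1)⟩⟩
    exact bijective_of_faithfullyFlat_birational (Y.germToFunctionField U.1).hom
      (X.germToFunctionField (f ⁻¹ᵁ U.1)).hom
      (fieldMap f).hom (f.app U.1).hom
      (RingHom.ext (fun a => (fieldMap_germ f U.1 (genericPoint_mem U.1) a).symm))
      (functionField_isFractionRing_of_isAffineOpen Y U.1 U.2)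
      (X.germToFunctionField_injective (f ⁻¹ᵁ U.1))
      (faithfullyFlat_app f U.1 U.2 (U.2.preimage f))
      hφ.2
  · have hU : U.1 = ⊥ := by
      by_contra hU
      obtain ⟨x, hx⟩ := (Opens.ne_bot_iff_nonempty _).1 hU
      exact hne ⟨⟨x, hx⟩⟩
    have hU' : f ⁻¹ᵁ U.1 = ⊥ := by rw [hU]; rfl
    constructor
    · intro a b _
      exact section_eq_of_isEmpty _ hU a b
    · intro b
      exact ⟨0, section_eq_of_isEmpty _ hU' _ _⟩

theorem isDominant_SpecMap_of_injective {R S : CommRingCat.{u}} (φ : R ⟶ S)
    (hφ : Function.Injective φ) : IsDominant (Spec.map φ) := by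
  refine ⟨?_⟩
  change DenseRange (PrimeSpectrum.comap φ.hom)
  rw [PrimeSpectrum.denseRange_comap_iff_ker_le_nilRadical]
  rw [(RingHom.injective_iff_ker_eq_bot _).mp hφ]
  exact bot_le

section Stalk

open Groth.Agent.Lib.R2H4.NormNormal

variable {X Y : Scheme.{u}} (f : X ⟶ Y) [IsIntegral X] [IsIntegral Y] [Surjective f]

/-- compatibility of stalk maps with the function field map -/
theorem stalkMap_comm (x : X) :
    f.stalkMap x ≫ X.presheaf.stalkSpecializes ((genericPoint_spec X).specializes trivial) =
      Y.presheaf.stalkSpecializes ((genericPoint_spec Y).specializes trivial) ≫ fieldMap f := by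
  unfold fieldMap
  rw [← Category.assoc, TopCat.Presheaf.stalkSpecializes_comp,
    ← Scheme.Hom.stalkSpecializes_stalkMap f (genericPoint X) x
      ((genericPoint_spec X).specializes trivial)]

theorem stalkMap_bijective [Flat f] (hdeg : IsIso (f.stalkMap (genericPoint X))) (x : X) :
    Function.Bijective (f.stalkMap x).hom := by
  haveI : IsIso (Y.presheaf.stalkSpecializes (specializes_of_eq (map_genericPoint f))) :=
    (Y.presheaf.stalkCongr (Inseparable.of_eq (map_genericPoint f).symm)).isIso_hom
  haveI : IsIso (fieldMap f) := by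
    unfold fieldMap
    infer_instance
  have hφ : Function.Bijective (fieldMap f).hom := ConcreteCategory.bijective_of_isIso (fieldMap f)
  have hff : (f.stalkMap x).hom.FaithfullyFlat := by
    algebraize [(f.stalkMap x).hom]
    exact @Module.FaithfullyFlat.of_flat_of_isLocalHom _ _ _ _ _ _ _
      (Flat.stalkMap f x) (f.toLRSHom.prop x)
  refine bijective_of_faithfullyFlat_birational
    (Y.presheaf.stalkSpecializes ((genericPoint_spec Y).specializes trivial)).hom
    (X.presheaf.stalkSpecializes ((genericPoint_spec X).specializes trivial)).hom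
    (fieldMap f).hom (f.stalkMap x).hom ?_ ?_ ?_ hff hφ.2
  · have := stalkMap_comm f x
    exact congrArg CommRingCat.Hom.hom this
  · exact inferInstanceAs (IsFractionRing (Y.presheaf.stalk (f x)) Y.functionField)
  · exact IsFractionRing.injective (X.presheaf.stalk x) X.functionField

end Stalk

section Inj

open Groth.Agent.Lib.R2H4.NormNormal

variable {X Y : Scheme.{u}} (f : X ⟶ Y) [IsIntegral X] [IsIntegral Y] [Surjective f]

/-- the canonical lift `Spec O_{Y,y} → X` through a point `x` over `y` with iso stalk map -/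
theorem specializes_of_map_eq [IsSeparated f] (hst : ∀ x, IsIso (f.stalkMap x))
    (x₁ x₂ : X) (h : f x₁ = f x₂) : x₁ ⤳ x₂ := by
  haveI : IsIso (Y.presheaf.stalkSpecializes (specializes_of_eq (map_genericPoint f))) :=
    (Y.presheaf.stalkCongr (Inseparable.of_eq (map_genericPoint f).symm)).isIso_hom
  haveI : IsIso (fieldMap f) := by
    unfold fieldMap
    infer_instance
  haveI : IsIso (Y.presheaf.stalkSpecializes (specializes_of_eq h)) :=
    (Y.presheaf.stalkCongr (Inseparable.of_eq h.symm)).isIso_hom
  let a₁ : Spec (Y.presheaf.stalk (f x₁)) ⟶ X :=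
    Spec.map (inv (f.stalkMap x₁)) ≫ X.fromSpecStalk x₁
  let a₂ : Spec (Y.presheaf.stalk (f x₁)) ⟶ X :=
    Spec.map (inv (f.stalkMap x₂) ≫ Y.presheaf.stalkSpecializes (specializes_of_eq h)) ≫
      X.fromSpecStalk x₂
  have h1 : a₁ ≫ f = Y.fromSpecStalk (f x₁) := by
    dsimp only [a₁]
    rw [Category.assoc, ← Scheme.SpecMap_stalkMap_fromSpecStalk, ← Spec.map_comp_assoc,
      IsIso.hom_inv_id, Spec.map_id, Category.id_comp]
  have h2 : a₂ ≫ f = Y.fromSpecStalk (f x₁) := by
    dsimp only [a₂]
    rw [Category.assoc, ← Scheme.SpecMap_stalkMap_fromSpecStalk, ← Spec.map_comp_assoc,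
      IsIso.hom_inv_id_assoc, Scheme.SpecMap_stalkSpecializes_fromSpecStalk]
  let ι : Spec Y.functionField ⟶ Spec (Y.presheaf.stalk (f x₁)) :=
    Spec.map (Y.presheaf.stalkSpecializes ((genericPoint_spec Y).specializes trivial))
  haveI : IsDominant ι := isDominant_SpecMap_of_injective _
    (IsFractionRing.injective (Y.presheaf.stalk (f x₁)) Y.functionField)
  have e1 : inv (f.stalkMap x₁) ≫
      Y.presheaf.stalkSpecializes ((genericPoint_spec Y).specializes trivial) =
      X.presheaf.stalkSpecializes ((genericPoint_spec X).specializes trivial) ≫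
        inv (fieldMap f) := by
    rw [IsIso.inv_comp_eq, ← Category.assoc, IsIso.eq_comp_inv, stalkMap_comm]
  have e2 : inv (f.stalkMap x₂) ≫
      Y.presheaf.stalkSpecializes ((genericPoint_spec Y).specializes trivial) =
      X.presheaf.stalkSpecializes ((genericPoint_spec X).specializes trivial) ≫
        inv (fieldMap f) := by
    rw [IsIso.inv_comp_eq, ← Category.assoc, IsIso.eq_comp_inv, stalkMap_comm]
  have hι1 : ι ≫ a₁ = Spec.map (inv (fieldMap f)) ≫ X.fromSpecStalk (genericPoint X) := by
    dsimp only [ι, a₁]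
    rw [← Spec.map_comp_assoc, e1, Spec.map_comp_assoc,
      Scheme.SpecMap_stalkSpecializes_fromSpecStalk]
  have hι2 : ι ≫ a₂ = Spec.map (inv (fieldMap f)) ≫ X.fromSpecStalk (genericPoint X) := by
    dsimp only [ι, a₂]
    rw [← Spec.map_comp_assoc, Category.assoc, TopCat.Presheaf.stalkSpecializes_comp, e2,
      Spec.map_comp_assoc, Scheme.SpecMap_stalkSpecializes_fromSpecStalk]
  have heq : a₁ = a₂ :=
    ext_of_isDominant_of_isSeparated f (h1.trans h2.symm) ι (hι1.trans hι2.symm)
  have hx₁ : x₁ ∈ Set.range a₁ := by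
    have hsurj : Function.Surjective (Spec.map (inv (f.stalkMap x₁))) :=
      (Spec.map (inv (f.stalkMap x₁))).surjective
    dsimp only [a₁]
    rw [Scheme.Hom.comp_base, TopCat.coe_comp, Set.range_comp, hsurj.range_eq, Set.image_univ,
      Scheme.range_fromSpecStalk]
    exact specializes_rfl
  rw [heq] at hx₁
  have hsub : Set.range a₂ ⊆ Set.range (X.fromSpecStalk x₂) := by
    dsimp only [a₂]
    rw [Scheme.Hom.comp_base, TopCat.coe_comp]
    exact Set.range_comp_subset_range _ _
  have := hsub hx₁
  rwa [Scheme.range_fromSpecStalk] at this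

theorem isIso_of_lfp_flat_birational [Flat f] [LocallyOfFinitePresentation f] [IsSeparated f]
    (hdeg : IsIso (f.stalkMap (genericPoint X))) : IsIso f := by
  have hst : ∀ x, IsIso (f.stalkMap x) := fun x =>
    (ConcreteCategory.isIso_iff_bijective _).mpr (stalkMap_bijective f hdeg x)
  have hinj : Function.Injective f := fun x₁ x₂ h =>
    ((specializes_of_map_eq f hst x₁ x₂ h).antisymm
      (specializes_of_map_eq f hst x₂ x₁ h.symm)).eq
  have hemb : Topology.IsOpenEmbedding f :=
    .of_continuous_injective_isOpenMap f.continuous hinj f.isOpenMap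
  haveI : IsOpenImmersion f := IsOpenImmersion.of_isIso_stalkMap f hemb
  exact (isIso_iff_isOpenImmersion_and_surjective f).mpr ⟨inferInstance, inferInstance⟩

end Inj

end Groth.Agent.Lib.Helper8FlatBir
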