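import Mathlib
import Groth.Agent.Lib.Helper8EtNormal

set_option autoImplicit false
set_option linter.style.haveILetI false
universe u
open CategoryTheory CategoryTheory.Limits AlgebraicGeometry TopologicalSpace

namespace Groth.Agent.Lib.Helper8NormSmooth

open Groth.Agent.Lib.Helper8EtNormal

section Alg

/-- A smooth algebra over a field which is a domain is integrally closed. -/
theorem isIntegrallyClosed_of_smooth_field (K C : Type*) [Field K] [CommRing C] [IsDomain C]
    [Algebra K C] [Algebra.Smooth K C] : IsIntegrallyClosed C := by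
  apply IsIntegrallyClosed.of_localization_maximal
  intro p _ _
  haveI : Algebra.IsSmoothAt K p := inferInstance
  obtain ⟨f, hfp, n, _, _, hst⟩ :=
    Algebra.IsSmoothAt.exists_isStandardEtale_mvPolynomial (R := K) (p := p)
  have hf0 : f ≠ 0 := fun h => hfp (h ▸ p.zero_mem)
  have hle : Submonoid.powers f ≤ p.primeCompl := by
    rintro _ ⟨k, rfl⟩
    exact fun h => hfp (Ideal.IsPrime.mem_of_pow_mem inferInstance k h)
  have hle0 : Submonoid.powers f ≤ nonZeroDivisors C := by
    rintro _ ⟨k, rfl⟩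
    exact mem_nonZeroDivisors_iff_ne_zero.mpr (pow_ne_zero k hf0)
  haveI : IsDomain (Localization.Away f) := IsLocalization.isDomain_localization hle0
  haveI : Algebra.Etale (MvPolynomial (Fin n) K) (Localization.Away f) := inferInstance
  haveI : IsIntegrallyClosed (Localization.Away f) :=
    isIntegrallyClosed_of_etale (MvPolynomial (Fin n) K) (Localization.Away f)
  letI := IsLocalization.localizationAlgebraOfSubmonoidLe (Localization.Away f)
    (Localization.AtPrime p) (Submonoid.powers f) p.primeCompl hle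
  haveI := IsLocalization.localization_isScalarTower_of_submonoid_le (Localization.Away f)
    (Localization.AtPrime p) (Submonoid.powers f) p.primeCompl hle
  haveI := IsLocalization.isLocalization_of_submonoid_le (Localization.Away f)
    (Localization.AtPrime p) (Submonoid.powers f) p.primeCompl hle
  refine isIntegrallyClosed_of_isLocalization (R := Localization.Away f)
    (S := Localization.AtPrime p) (p.primeCompl.map (algebraMap C (Localization.Away f))) ?_
  rintro _ ⟨c, hc, rfl⟩
  rw [mem_nonZeroDivisors_iff_ne_zero]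
  have hc0 : c ≠ 0 := fun h => hc (h ▸ p.zero_mem)
  exact fun h => hc0 (IsLocalization.injective (Localization.Away f) hle0 (by rw [h, map_zero]))

set_option backward.isDefEq.respectTransparency false in
/-- Generic fibre algebra: `C = K ⊗_A B` for `A → B` smooth, `K = Frac A`, `L = Frac B`:
`C → L` is injective and `C` is integrally closed in `L`. -/
theorem sigma_spec {A B C K L : Type u} [CommRing A] [IsDomain A] [CommRing B] [IsDomain B]
    [CommRing C] [Field K] [Field L]
    (a : A →+* B) (k : A →+* K) (b : B →+* C) (c : K →+* C) (σ : C →+* L) (lam : B →+* L)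
    (hsq : IsPushout (CommRingCat.ofHom k) (CommRingCat.ofHom a) (CommRingCat.ofHom c)
      (CommRingCat.ofHom b))
    (ha : a.Smooth) (hk : @IsFractionRing A _ K _ k.toAlgebra)
    (hlam : @IsFractionRing B _ L _ lam.toAlgebra) (hσ : σ.comp b = lam) :
    Function.Injective σ ∧ ∀ ℓ, σ.IsIntegralElem ℓ → ∃ y, σ y = ℓ := by
  letI : Algebra A B := a.toAlgebra
  letI : Algebra A K := k.toAlgebra
  letI : Algebra B C := b.toAlgebra
  letI : Algebra K C := c.toAlgebra
  letI : Algebra A C := (b.comp a).toAlgebra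
  letI : Algebra C L := σ.toAlgebra
  letI : Algebra B L := lam.toAlgebra
  haveI : IsScalarTower A B C := .of_algebraMap_eq' rfl
  have hw : c.comp k = b.comp a := by
    have := hsq.w
    exact congrArg CommRingCat.Hom.hom this
  haveI : IsScalarTower A K C := .of_algebraMap_eq' hw.symm
  haveI : IsScalarTower B C L := .of_algebraMap_eq' hσ.symm
  haveI : IsFractionRing A K := hk
  haveI : IsFractionRing B L := hlam
  haveI : Algebra.Smooth A B := ha
  have hpo : Algebra.IsPushout A K B C := CommRingCat.isPushout_iff_isPushout.mp hsq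
  haveI : IsLocalization (Algebra.algebraMapSubmonoid B (nonZeroDivisors A)) C :=
    (Algebra.isLocalization_iff_isPushout (nonZeroDivisors A) K).mpr hpo.symm
  have hinjAB : Function.Injective (algebraMap A B) := by
    haveI : Module.Flat A B := inferInstance
    haveI : Module.IsTorsionFree A B := inferInstance
    exact FaithfulSMul.algebraMap_injective A B
  have hle : Algebra.algebraMapSubmonoid B (nonZeroDivisors A) ≤ nonZeroDivisors B := by
    rintro _ ⟨x, hx, rfl⟩
    have hx' : x ≠ 0 := nonZeroDivisors.ne_zero hx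
    rw [mem_nonZeroDivisors_iff_ne_zero]
    exact fun h => hx' (hinjAB (by rw [h, map_zero]))
  haveI : IsDomain C := IsLocalization.isDomain_of_le_nonZeroDivisors (S := C) hle
  haveI : IsFractionRing C L := IsFractionRing.isFractionRing_of_isDomain_of_isLocalization
    (Algebra.algebraMapSubmonoid B (nonZeroDivisors A)) C L
  haveI : Algebra.Smooth K C := by
    haveI := hpo.symm
    have := RingHom.Smooth.isStableUnderBaseChange A B K C (RingHom.smooth_algebraMap.mpr ‹_›)
    exact RingHom.smooth_algebraMap.mp this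
  haveI : IsIntegrallyClosed C := isIntegrallyClosed_of_smooth_field K C
  refine ⟨IsFractionRing.injective C L, fun ℓ hℓ => ?_⟩
  exact (isIntegrallyClosed_iff L).mp ‹_› hℓ

end Alg

section Cmp

variable {X Z T : Scheme.{u}} (g : Z ⟶ X) (s : T ⟶ Z) (v : T ⟶ X) (hv : s ≫ g = v)
  [QuasiCompact g] [QuasiSeparated g] [QuasiCompact v] [QuasiSeparated v]

/-- The comparison morphism from the normalization of `X` in `T` to the normalization of
`X` in `Z`, for `T ⟶ Z ⟶ X`. -/
noncomputable def cmp' : v.normalization ⟶ g.normalization :=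
  v.normalizationDesc (s ≫ g.toNormalization) g.fromNormalization
    (by rw [Category.assoc, Scheme.Hom.toNormalization_fromNormalization, hv])

@[reassoc]
theorem toNormalization_cmp' :
    v.toNormalization ≫ cmp' g s v hv = s ≫ g.toNormalization :=
  Scheme.Hom.toNormalization_normalizationDesc ..

@[reassoc]
theorem cmp'_fromNormalization :
    cmp' g s v hv ≫ g.fromNormalization = v.fromNormalization :=
  Scheme.Hom.normalizationDesc_comp ..

instance : IsIntegralHom (cmp' g s v hv) := by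
  unfold cmp'; infer_instance

include hv in
theorem preimage_le (U : X.Opens) : v ⁻¹ᵁ U ≤ s ⁻¹ᵁ (g ⁻¹ᵁ U) := by
  rw [← Scheme.Hom.comp_preimage, hv]

set_option backward.isDefEq.respectTransparency false in
theorem isIso_cmp' {ι : Type*} (U : ι → X.Opens) (hU : ∀ i, IsAffineOpen (U i))
    (hcov : ⨆ i, U i = ⊤)
    (hs : ∀ i, Function.Injective (s.appLE (g ⁻¹ᵁ U i) (v ⁻¹ᵁ U i) (preimage_le g s v hv _)) ∧
      ∀ ℓ, (s.appLE (g ⁻¹ᵁ U i) (v ⁻¹ᵁ U i) (preimage_le g s v hv _)).hom.IsIntegralElem ℓ →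
        ∃ y, s.appLE (g ⁻¹ᵁ U i) (v ⁻¹ᵁ U i) (preimage_le g s v hv _) y = ℓ) :
    IsIso (cmp' g s v hv) := by
  have hcov' : ⨆ i, g.fromNormalization ⁻¹ᵁ U i = ⊤ :=
    (TopologicalSpace.IsOpenCover.comap hcov g.fromNormalization.base.hom)
  rw [← MorphismProperty.isomorphisms.iff,
    IsZariskiLocalAtTarget.iff_of_iSup_eq_top (P := MorphismProperty.isomorphisms Scheme) _ hcov']
  intro i
  rw [MorphismProperty.isomorphisms.iff,
    isIso_morphismRestrict_iff_isIso_app (cmp' g s v hv) ((hU i).preimage g.fromNormalization),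
    ConcreteCategory.isIso_iff_bijective]
  have hpre : (cmp' g s v hv) ⁻¹ᵁ (g.fromNormalization ⁻¹ᵁ U i) =
      v.fromNormalization ⁻¹ᵁ U i := by
    rw [← Scheme.Hom.comp_preimage, cmp'_fromNormalization]
  have e_g : g ⁻¹ᵁ U i ≤ g.toNormalization ⁻¹ᵁ (g.fromNormalization ⁻¹ᵁ U i) := by
    rw [← Scheme.Hom.comp_preimage, Scheme.Hom.toNormalization_fromNormalization]
  have e_h : v ⁻¹ᵁ U i ≤ v.toNormalization ⁻¹ᵁ (v.fromNormalization ⁻¹ᵁ U i) := by
    rw [← Scheme.Hom.comp_preimage, Scheme.Hom.toNormalization_fromNormalization]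
  obtain ⟨hg1, hg2, hg3⟩ := toNormalization_appLE_spec g (hU i) e_g
  obtain ⟨hh1, hh2, hh3⟩ := toNormalization_appLE_spec v (hU i) e_h
  obtain ⟨hs1, hs2⟩ := hs i
  have hcomm : (cmp' g s v hv).app (g.fromNormalization ⁻¹ᵁ U i) ≫
      v.normalization.presheaf.map (eqToHom hpre.symm).op ≫
      v.toNormalization.appLE _ _ e_h =
      g.toNormalization.appLE _ _ e_g ≫
        s.appLE (g ⁻¹ᵁ U i) (v ⁻¹ᵁ U i) (preimage_le g s v hv _) := by
    simp only [Scheme.Hom.app_eq_appLE, Scheme.Hom.map_appLE, Scheme.Hom.appLE_comp_appLE,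
      toNormalization_cmp']
  have hbij : Function.Bijective (v.normalization.presheaf.map
      (eqToHom hpre.symm).op) := ConcreteCategory.bijective_of_isIso _
  have hvapp : (v.app (U i)).hom =
      (s.appLE (g ⁻¹ᵁ U i) (v ⁻¹ᵁ U i) (preimage_le g s v hv _)).hom.comp (g.app (U i)).hom := by
    rw [← CommRingCat.hom_comp, Scheme.Hom.app_eq_appLE, Scheme.Hom.app_eq_appLE,
      Scheme.Hom.appLE_comp_appLE]
    simp only [hv]
  refine abs_bijective (g.app (U i)).hom
    (s.appLE (g ⁻¹ᵁ U i) (v ⁻¹ᵁ U i) (preimage_le g s v hv _)).hom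
    (g.toNormalization.appLE _ _ e_g).hom
    (v.normalization.presheaf.map (eqToHom hpre.symm).op ≫
      v.toNormalization.appLE _ _ e_h).hom
    ((cmp' g s v hv).app (g.fromNormalization ⁻¹ᵁ U i)).hom hg1 ?_ hg2 ?_ ?_ hs1 hs2
  · intro a b hab
    exact hbij.1 (hh1 hab)
  · intro t
    have := hh3 (v.normalization.presheaf.map (eqToHom hpre.symm).op t)
    rw [hvapp] at this
    exact this
  · intro w
    exact congr($hcomm w)

end Cmp

section Eps

variable (X : Scheme.{u}) (x : X) (U : X.Opens) (hx : x ∈ U)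

include hx in
theorem fromSpecStalk_preimage_eq_top : X.fromSpecStalk x ⁻¹ᵁ U = ⊤ := by
  ext z
  simp only [Opens.coe_top, Set.mem_univ, iff_true]
  have hz : (X.fromSpecStalk x) z ⤳ x := by
    have : (X.fromSpecStalk x) z ∈ Set.range (X.fromSpecStalk x) := ⟨z, rfl⟩
    rwa [Scheme.range_fromSpecStalk] at this
  exact hz.mem_open U.isOpen hx

/-- the map `stalk x ⟶ Γ(Spec stalk, (fromSpecStalk x)⁻¹U)`, an iso for `x ∈ U`. -/
noncomputable def eps : X.presheaf.stalk x ⟶
    Γ(Spec (X.presheaf.stalk x), X.fromSpecStalk x ⁻¹ᵁ U) :=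
  (Scheme.ΓSpecIso (X.presheaf.stalk x)).inv ≫
    (Spec (X.presheaf.stalk x)).presheaf.map (homOfLE le_top).op

include hx in
theorem isIso_eps : IsIso (eps X x U) := by
  haveI : IsIso (homOfLE (le_top : (X.fromSpecStalk x) ⁻¹ᵁ U ≤ ⊤)) :=
    ⟨homOfLE (fromSpecStalk_preimage_eq_top X x U hx).ge, Subsingleton.elim _ _,
      Subsingleton.elim _ _⟩
  dsimp only [eps]; infer_instance

theorem fromSpecStalk_app_eq : (X.fromSpecStalk x).app U = X.presheaf.germ U x hx ≫ eps X x U :=
  Scheme.fromSpecStalk_app hx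

end Eps

section Geo

variable {X Y : Scheme.{u}} (f : X ⟶ Y) [IsIntegral X] [IsIntegral Y]

theorem map_genericPoint_of_isOpenMap (hf : IsOpenMap f) :
    f (genericPoint X) = genericPoint Y := by
  have hopen : IsOpen (Set.range f) := hf.isOpen_range
  have hne : (Set.range f).Nonempty := ⟨f (genericPoint X), ⟨_, rfl⟩⟩
  obtain ⟨x, hx⟩ : genericPoint Y ∈ Set.range f :=
    ((genericPoint_spec Y).mem_open_set_iff hopen).mpr
      (by obtain ⟨y, hy⟩ := hne; exact ⟨y, trivial, hy⟩)
  have h1 : genericPoint X ⤳ x := (genericPoint_spec X).specializes trivial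
  have h2 : f (genericPoint X) ⤳ genericPoint Y := hx ▸ h1.map f.continuous
  have h3 : genericPoint Y ⤳ f (genericPoint X) := (genericPoint_spec Y).specializes trivial
  exact (h2.antisymm h3).eq

variable [Smooth f]

theorem map_genericPoint : f (genericPoint X) = genericPoint Y :=
  map_genericPoint_of_isOpenMap f f.isOpenMap

/-- the map of function fields -/
noncomputable def kappa : Y.functionField ⟶ X.functionField :=
  Y.presheaf.stalkSpecializes (specializes_of_eq (map_genericPoint f)) ≫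
    f.stalkMap (genericPoint X)

theorem kappa_comm : Spec.map (kappa f) ≫ Y.fromSpecStalk (genericPoint Y) =
    X.fromSpecStalk (genericPoint X) ≫ f := by
  unfold kappa
  rw [Spec.map_comp, Category.assoc, Scheme.SpecMap_stalkSpecializes_fromSpecStalk,
    Scheme.SpecMap_stalkMap_fromSpecStalk]

/-- the lift of the generic point of `X` to the generic fibre -/
noncomputable def sLift :
    Spec X.functionField ⟶ pullback (Y.fromSpecStalk (genericPoint Y)) f :=
  pullback.lift (Spec.map (kappa f)) (X.fromSpecStalk (genericPoint X)) (kappa_comm f)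

theorem sLift_snd : sLift f ≫ pullback.snd (Y.fromSpecStalk (genericPoint Y)) f =
    X.fromSpecStalk (genericPoint X) := pullback.lift_snd ..

set_option backward.isDefEq.respectTransparency false in
theorem sLift_appLE_spec {U : X.Opens} (hU : IsAffineOpen U) {V : Y.Opens} (hV : IsAffineOpen V)
    (hUV : U ≤ f ⁻¹ᵁ V) (hη : genericPoint X ∈ U)
    (e : X.fromSpecStalk (genericPoint X) ⁻¹ᵁ U ≤
      sLift f ⁻¹ᵁ (pullback.snd (Y.fromSpecStalk (genericPoint Y)) f ⁻¹ᵁ U)) :
    Function.Injective ((sLift f).appLE (pullback.snd (Y.fromSpecStalk (genericPoint Y)) f ⁻¹ᵁ U)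
      (X.fromSpecStalk (genericPoint X) ⁻¹ᵁ U) e) ∧
    ∀ ℓ, ((sLift f).appLE (pullback.snd (Y.fromSpecStalk (genericPoint Y)) f ⁻¹ᵁ U)
      (X.fromSpecStalk (genericPoint X) ⁻¹ᵁ U) e).hom.IsIntegralElem ℓ →
      ∃ y, (sLift f).appLE (pullback.snd (Y.fromSpecStalk (genericPoint Y)) f ⁻¹ᵁ U)
        (X.fromSpecStalk (genericPoint X) ⁻¹ᵁ U) e y = ℓ := by
  have hηV : genericPoint Y ∈ V := by rw [← map_genericPoint f]; exact hUV hη
  haveI : Nonempty U := ⟨⟨_, hη⟩⟩
  haveI : Nonempty V := ⟨⟨_, hηV⟩⟩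
  haveI : IsDomain Γ(X, U) := IsIntegral.component_integral U
  haveI : IsDomain Γ(Y, V) := IsIntegral.component_integral V
  have H : IsPullback (pullback.snd (Y.fromSpecStalk (genericPoint Y)) f)
      (pullback.fst (Y.fromSpecStalk (genericPoint Y)) f) f (Y.fromSpecStalk (genericPoint Y)) :=
    (IsPullback.of_hasPullback (Y.fromSpecStalk (genericPoint Y)) f).flip
  have hUY : pullback.snd (Y.fromSpecStalk (genericPoint Y)) f ⁻¹ᵁ U =
      pullback.snd (Y.fromSpecStalk (genericPoint Y)) f ⁻¹ᵁ U ⊓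
        pullback.fst (Y.fromSpecStalk (genericPoint Y)) f ⁻¹ᵁ
          (Y.fromSpecStalk (genericPoint Y) ⁻¹ᵁ V) := by
    simp_rw [← Scheme.Hom.comp_preimage, pullback.condition, Scheme.Hom.comp_preimage,
      ← Scheme.Hom.preimage_inf, inf_eq_left.mpr hUV]
  have hUT : IsAffineOpen (Y.fromSpecStalk (genericPoint Y) ⁻¹ᵁ V) := by
    rw [fromSpecStalk_preimage_eq_top Y _ V hηV]; exact isAffineOpen_top _
  have hiso := isIso_pushoutSection_of_isAffineOpen H (le_refl _) hUV hUY hV hUT hU
  have hpo := (isIso_pushoutSection_iff H (le_refl _) hUV hUY).mp hiso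
  haveI := isIso_eps Y _ V hηV
  haveI := isIso_eps X _ U hη
  have hsYapp : (Y.fromSpecStalk (genericPoint Y)).appLE V
      (Y.fromSpecStalk (genericPoint Y) ⁻¹ᵁ V) (le_refl _) =
      Y.presheaf.germ V (genericPoint Y) hηV ≫ eps Y (genericPoint Y) V := by
    rw [Scheme.Hom.appLE_eq_app, fromSpecStalk_app_eq Y _ V hηV]
  have hpo' : IsPushout (Y.presheaf.germ V (genericPoint Y) hηV) (f.appLE V U hUV)
      (eps Y (genericPoint Y) V ≫
        (pullback.fst (Y.fromSpecStalk (genericPoint Y)) f).appLE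
          (Y.fromSpecStalk (genericPoint Y) ⁻¹ᵁ V)
          (pullback.snd (Y.fromSpecStalk (genericPoint Y)) f ⁻¹ᵁ U) (hUY.le.trans inf_le_right))
      ((pullback.snd (Y.fromSpecStalk (genericPoint Y)) f).appLE U
          (pullback.snd (Y.fromSpecStalk (genericPoint Y)) f ⁻¹ᵁ U) le_rfl) := by
    refine hpo.flip.of_iso (Iso.refl _) (asIso (eps Y (genericPoint Y) V)).symm (Iso.refl _)
      (Iso.refl _) ?_ ?_ ?_ ?_
    · simp [hsYapp]
    · simp
    · simp
    · simp
  -- the comparison to the function field of X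
  have hlam : (pullback.snd (Y.fromSpecStalk (genericPoint Y)) f).appLE U
          (pullback.snd (Y.fromSpecStalk (genericPoint Y)) f ⁻¹ᵁ U) le_rfl ≫
        (sLift f).appLE (pullback.snd (Y.fromSpecStalk (genericPoint Y)) f ⁻¹ᵁ U)
          (X.fromSpecStalk (genericPoint X) ⁻¹ᵁ U) e ≫ inv (eps X (genericPoint X) U) =
      X.presheaf.germ U (genericPoint X) hη := by
    rw [← Category.assoc, Scheme.Hom.appLE_comp_appLE, IsIso.comp_inv_eq,
      ← fromSpecStalk_app_eq X _ U hη, Scheme.Hom.app_eq_appLE]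
    simp only [sLift_snd]
  obtain ⟨h1, h2⟩ := sigma_spec (f.appLE V U hUV).hom (Y.germToFunctionField V).hom
    ((pullback.snd (Y.fromSpecStalk (genericPoint Y)) f).appLE U
          (pullback.snd (Y.fromSpecStalk (genericPoint Y)) f ⁻¹ᵁ U) le_rfl).hom
    (eps Y (genericPoint Y) V ≫
        (pullback.fst (Y.fromSpecStalk (genericPoint Y)) f).appLE
          (Y.fromSpecStalk (genericPoint Y) ⁻¹ᵁ V)
          (pullback.snd (Y.fromSpecStalk (genericPoint Y)) f ⁻¹ᵁ U)
          (hUY.le.trans inf_le_right)).hom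
    ((sLift f).appLE (pullback.snd (Y.fromSpecStalk (genericPoint Y)) f ⁻¹ᵁ U)
          (X.fromSpecStalk (genericPoint X) ⁻¹ᵁ U) e ≫ inv (eps X (genericPoint X) U)).hom
    (X.germToFunctionField U).hom hpo' (f.smooth_appLE hV hU hUV)
    (functionField_isFractionRing_of_isAffineOpen Y V hV)
    (functionField_isFractionRing_of_isAffineOpen X U hU)
    (congrArg CommRingCat.Hom.hom hlam)
  have hεinj : Function.Injective (inv (eps X (genericPoint X) U)) :=
    (ConcreteCategory.bijective_of_isIso _).1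
  refine ⟨fun a b hab => h1 ?_, fun ℓ hℓ => ?_⟩
  · simpa using congrArg (inv (eps X (genericPoint X) U)).hom hab
  · obtain ⟨p, hp, hpe⟩ := hℓ
    obtain ⟨y, hy⟩ := h2 (inv (eps X (genericPoint X) U) ℓ) ⟨p, hp, by
      rw [CommRingCat.hom_comp, ← Polynomial.hom_eval₂, hpe, map_zero]⟩
    exact ⟨y, hεinj hy⟩

end Geo

section Uniq

set_option backward.isDefEq.respectTransparency false in
/-- Two morphisms landing in an affine open are equal if they agree on its sections. -/
theorem hom_ext_of_appLE {T N : Scheme.{u}} (t t' : T ⟶ N) (W : N.Opens) (hW : IsAffineOpen W)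
    (ht : t ⁻¹ᵁ W = ⊤) (ht' : t' ⁻¹ᵁ W = ⊤)
    (h : t.appLE W ⊤ ht.ge = t'.appLE W ⊤ ht'.ge) : t = t' := by
  have hr : Set.range t ⊆ Set.range W.ι := by
    rintro _ ⟨x, rfl⟩
    have : x ∈ t ⁻¹ᵁ W := ht ▸ trivial
    simpa using this
  have hr' : Set.range t' ⊆ Set.range W.ι := by
    rintro _ ⟨x, rfl⟩
    have : x ∈ t' ⁻¹ᵁ W := ht' ▸ trivial
    simpa using this
  obtain ⟨l, hl⟩ : ∃ l : T ⟶ W, l ≫ W.ι = t :=
    ⟨IsOpenImmersion.lift W.ι t hr, IsOpenImmersion.lift_fac _ _ _⟩
  obtain ⟨l', hl'⟩ : ∃ l' : T ⟶ W, l' ≫ W.ι = t' :=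
    ⟨IsOpenImmersion.lift W.ι t' hr', IsOpenImmersion.lift_fac _ _ _⟩
  haveI : IsAffine W.toScheme := hW
  have hll : l = l' := by
    apply ext_of_isAffine
    have hιle : (⊤ : W.toScheme.Opens) ≤ W.ι ⁻¹ᵁ W := by
      intro x _; exact x.2
    haveI : IsIso (W.ι.appLE W ⊤ hιle) := by
      rw [Scheme.Opens.ι_appLE]
      have heq : W.ι ''ᵁ (⊤ : W.toScheme.Opens) = W := W.ι_image_top
      have : homOfLE (x := W.ι ''ᵁ ⊤) (Set.image_subset_iff.mpr hιle) = eqToHom heq :=
        Subsingleton.elim _ _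
      rw [this]
      infer_instance
    have e1 : W.ι.appLE W ⊤ hιle ≫ l.appTop = t.appLE W ⊤ ht.ge := by
      rw [Scheme.Hom.appTop, Scheme.Hom.app_eq_appLE, Scheme.Hom.appLE_comp_appLE]
      simp only [hl]
      rfl
    have e2 : W.ι.appLE W ⊤ hιle ≫ l'.appTop = t'.appLE W ⊤ ht'.ge := by
      rw [Scheme.Hom.appTop, Scheme.Hom.app_eq_appLE, Scheme.Hom.appLE_comp_appLE]
      simp only [hl']
      rfl
    rw [← cancel_epi (W.ι.appLE W ⊤ hιle), e1, e2, h]
  rw [← hl, ← hl', hll]

theorem ringHom_ext_of_fraction {A A' K R : Type*} [CommRing A] [CommRing A'] [CommRing K]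
    [CommRing R] (n : A →+* A') (ι : A' →+* K) (k : A →+* K)
    (hk : @IsFractionRing A _ K _ k.toAlgebra) (hι : Function.Injective ι) (hιn : ι.comp n = k)
    (ρ : K →+* R) (α α' : A' →+* R) (hα : α.comp n = ρ.comp k) (hα' : α'.comp n = ρ.comp k) :
    α = α' := by
  letI : Algebra A K := k.toAlgebra
  haveI : IsFractionRing A K := hk
  ext a'
  obtain ⟨⟨x, y⟩, hxy⟩ := IsLocalization.surj (nonZeroDivisors A) (ι a')
  have hxy' : ι a' * k y = k x := hxy
  have hn : ∀ z, ι (n z) = k z := fun z => congrArg (fun g => g z) hιn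
  have h1 : a' * n y = n x := by
    apply hι
    rw [map_mul, hn, hn, hxy']
  have hu : IsUnit (ρ (k y)) := (IsLocalization.map_units K y).map ρ
  have hαn : ∀ z, α (n z) = ρ (k z) := fun z => congrArg (fun g => g z) hα
  have hαn' : ∀ z, α' (n z) = ρ (k z) := fun z => congrArg (fun g => g z) hα'
  have e1 : α a' * ρ (k y) = ρ (k x) := by rw [← hαn, ← map_mul, h1, hαn]
  have e2 : α' a' * ρ (k y) = ρ (k x) := by rw [← hαn', ← map_mul, h1, hαn']
  exact hu.mul_left_inj.mp (e1.trans e2.symm)

set_option backward.isDefEq.respectTransparency false in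
/-- Lifts to the normalization of a morphism factoring through the generic point are unique. -/
theorem lift_unique {Y T : Scheme.{u}} [IsIntegral Y]
    [QuasiCompact (Y.fromSpecStalk (genericPoint Y))]
    [QuasiSeparated (Y.fromSpecStalk (genericPoint Y))]
    (t t' : T ⟶ (Y.fromSpecStalk (genericPoint Y)).normalization)
    (w : T ⟶ Spec Y.functionField)
    (ht : t ≫ (Y.fromSpecStalk (genericPoint Y)).fromNormalization =
      w ≫ Y.fromSpecStalk (genericPoint Y))
    (ht' : t' ≫ (Y.fromSpecStalk (genericPoint Y)).fromNormalization =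
      w ≫ Y.fromSpecStalk (genericPoint Y)) : t = t' := by
  obtain ⟨_, ⟨V, hV, rfl⟩, hηV, -⟩ := Y.isBasis_affineOpens.exists_subset_of_mem_open
    (Set.mem_univ (genericPoint Y)) isOpen_univ
  have hηV : genericPoint Y ∈ V := hηV
  haveI : Nonempty V := ⟨⟨_, hηV⟩⟩
  have hsV := fromSpecStalk_preimage_eq_top Y _ V hηV
  have hwtop : w ⁻¹ᵁ (Y.fromSpecStalk (genericPoint Y) ⁻¹ᵁ V) = ⊤ := by rw [hsV]; rfl
  have htW : t ⁻¹ᵁ ((Y.fromSpecStalk (genericPoint Y)).fromNormalization ⁻¹ᵁ V) = ⊤ := by
    rw [← Scheme.Hom.comp_preimage, ht, Scheme.Hom.comp_preimage, hwtop]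
  have htW' : t' ⁻¹ᵁ ((Y.fromSpecStalk (genericPoint Y)).fromNormalization ⁻¹ᵁ V) = ⊤ := by
    rw [← Scheme.Hom.comp_preimage, ht', Scheme.Hom.comp_preimage, hwtop]
  refine hom_ext_of_appLE t t' _ (hV.preimage _) htW htW' ?_
  haveI := isIso_eps Y _ V hηV
  have e_j : Y.fromSpecStalk (genericPoint Y) ⁻¹ᵁ V ≤
      (Y.fromSpecStalk (genericPoint Y)).toNormalization ⁻¹ᵁ
        ((Y.fromSpecStalk (genericPoint Y)).fromNormalization ⁻¹ᵁ V) := by
    rw [← Scheme.Hom.comp_preimage, Scheme.Hom.toNormalization_fromNormalization]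
  obtain ⟨hj1, -, -⟩ := toNormalization_appLE_spec (Y.fromSpecStalk (genericPoint Y)) hV e_j
  have hεinj : Function.Injective (inv (eps Y (genericPoint Y) V)) :=
    (ConcreteCategory.bijective_of_isIso _).1
  have hιn : (Y.fromSpecStalk (genericPoint Y)).fromNormalization.app V ≫
      (Y.fromSpecStalk (genericPoint Y)).toNormalization.appLE _ _ e_j ≫
        inv (eps Y (genericPoint Y) V) = Y.germToFunctionField V := by
    rw [← Category.assoc, IsIso.comp_inv_eq, Scheme.Hom.app_eq_appLE,
      Scheme.Hom.appLE_comp_appLE]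
    simp only [Scheme.Hom.toNormalization_fromNormalization]
    rw [Scheme.Hom.appLE_eq_app, fromSpecStalk_app_eq Y _ V hηV]
  have hρ : ∀ (τ : T ⟶ (Y.fromSpecStalk (genericPoint Y)).normalization)
      (hτ : τ ≫ (Y.fromSpecStalk (genericPoint Y)).fromNormalization =
        w ≫ Y.fromSpecStalk (genericPoint Y))
      (hτW : τ ⁻¹ᵁ ((Y.fromSpecStalk (genericPoint Y)).fromNormalization ⁻¹ᵁ V) = ⊤),
      (Y.fromSpecStalk (genericPoint Y)).fromNormalization.app V ≫ τ.appLE _ ⊤ hτW.ge =
      Y.germToFunctionField V ≫ eps Y (genericPoint Y) V ≫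
        w.appLE (Y.fromSpecStalk (genericPoint Y) ⁻¹ᵁ V) ⊤ hwtop.ge := by
    intro τ hτ hτW
    rw [← Category.assoc, ← fromSpecStalk_app_eq Y _ V hηV, Scheme.Hom.app_eq_appLE,
      Scheme.Hom.app_eq_appLE, Scheme.Hom.appLE_comp_appLE, Scheme.Hom.appLE_comp_appLE]
    simp only [hτ]
  apply CommRingCat.hom_ext
  exact ringHom_ext_of_fraction
    ((Y.fromSpecStalk (genericPoint Y)).fromNormalization.app V).hom
    ((Y.fromSpecStalk (genericPoint Y)).toNormalization.appLE _ _ e_j ≫
        inv (eps Y (genericPoint Y) V)).hom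
    (Y.germToFunctionField V).hom
    (functionField_isFractionRing_of_isAffineOpen Y V hV)
    (by
      rw [CommRingCat.hom_comp]
      exact hεinj.comp hj1)
    (congrArg CommRingCat.Hom.hom hιn)
    (eps Y (genericPoint Y) V ≫
        w.appLE (Y.fromSpecStalk (genericPoint Y) ⁻¹ᵁ V) ⊤ hwtop.ge).hom
    _ _ (congrArg CommRingCat.Hom.hom (hρ t ht htW)) (congrArg CommRingCat.Hom.hom (hρ t' ht' htW'))

end Uniq

section Main

variable {X Y : Scheme.{u}} (f : X ⟶ Y) [Smooth f] [IsIntegral X] [IsIntegral Y]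
    [QuasiCompact (X.fromSpecStalk (genericPoint X))]
    [QuasiSeparated (X.fromSpecStalk (genericPoint X))]
    [QuasiCompact (Y.fromSpecStalk (genericPoint Y))]
    [QuasiSeparated (Y.fromSpecStalk (genericPoint Y))]

theorem isIso_cmp_genericFibre :
    IsIso (cmp' (pullback.snd (Y.fromSpecStalk (genericPoint Y)) f) (sLift f)
      (X.fromSpecStalk (genericPoint X)) (sLift_snd f)) := by
  let ι := {p : X.Opens × Y.Opens // IsAffineOpen p.1 ∧ IsAffineOpen p.2 ∧ p.1 ≤ f ⁻¹ᵁ p.2 ∧
    genericPoint X ∈ p.1}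
  refine isIso_cmp' _ _ _ _ (fun i : ι => i.1.1) (fun i => i.2.1) ?_ (fun i => ?_)
  · rw [eq_top_iff]
    intro x _
    obtain ⟨_, ⟨V, hV, rfl⟩, hxV, -⟩ := Y.isBasis_affineOpens.exists_subset_of_mem_open
      (Set.mem_univ (f x)) isOpen_univ
    obtain ⟨_, ⟨U, hU, rfl⟩, hxU, hUV⟩ := X.isBasis_affineOpens.exists_subset_of_mem_open
      (show x ∈ ((f ⁻¹ᵁ V : X.Opens) : Set X) from hxV) (f ⁻¹ᵁ V).isOpen
    exact Opens.mem_iSup.2 ⟨⟨(U, V), hU, hV, hUV, genericPoint_mem_of_mem hxU⟩, hxU⟩
  · exact sLift_appLE_spec f i.2.1 i.2.2.1 i.2.2.2.1 i.2.2.2.2 _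

theorem main :
    ∃! e : (X.fromSpecStalk (genericPoint X)).normalization ≅
        pullback f (Y.fromSpecStalk (genericPoint Y)).fromNormalization,
      e.hom ≫ pullback.fst f (Y.fromSpecStalk (genericPoint Y)).fromNormalization =
        (X.fromSpecStalk (genericPoint X)).fromNormalization := by
  haveI := isIso_cmp_genericFibre f
  let e : (X.fromSpecStalk (genericPoint X)).normalization ≅
        pullback f (Y.fromSpecStalk (genericPoint Y)).fromNormalization :=
    asIso (cmp' (pullback.snd (Y.fromSpecStalk (genericPoint Y)) f) (sLift f)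
      (X.fromSpecStalk (genericPoint X)) (sLift_snd f)) ≪≫
    asIso ((Y.fromSpecStalk (genericPoint Y)).normalizationPullback f) ≪≫
    pullbackSymmetry _ _
  have he : e.hom ≫ pullback.fst f (Y.fromSpecStalk (genericPoint Y)).fromNormalization =
      (X.fromSpecStalk (genericPoint X)).fromNormalization := by
    simp only [e, Iso.trans_hom, asIso_hom, Category.assoc, pullbackSymmetry_hom_comp_fst,
      Scheme.Hom.normalizationPullback_snd, cmp'_fromNormalization]
  refine ⟨e, he, fun e' he' => ?_⟩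
  apply Iso.ext
  refine Scheme.Hom.normalization.hom_ext (X.fromSpecStalk (genericPoint X)) e'.hom e.hom
    (pullback.fst f (Y.fromSpecStalk (genericPoint Y)).fromNormalization) ?_ he' he
  apply pullback.hom_ext
  · simp only [Category.assoc, he, he']
  · simp only [Category.assoc]
    refine lift_unique _ _ (Spec.map (kappa f)) ?_ ?_
    · rw [Category.assoc, Category.assoc, ← pullback.condition, reassoc_of% he',
        Scheme.Hom.toNormalization_fromNormalization_assoc, kappa_comm]
    · rw [Category.assoc, Category.assoc, ← pullback.condition, reassoc_of% he,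
        Scheme.Hom.toNormalization_fromNormalization_assoc, kappa_comm]

end Main

end Groth.Agent.Lib.Helper8NormSmooth
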