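import Mathlib
import Groth.Agent.Lib.Helper8FlatBir
import Groth.Agent.Lib.Helper8NormSmooth
import Groth.Agent.Lib.Helper10CurveFlat

set_option autoImplicit false
set_option linter.style.haveILetI false
universe u
open CategoryTheory CategoryTheory.Limits AlgebraicGeometry TopologicalSpace

namespace Groth.Agent.Lib.Helper8CurveBir

open Groth.Agent.Lib.Helper8FlatBir

section Gen

variable {X Y : Scheme.{u}} (f : X ⟶ Y) [IsIntegral X] [IsIntegral Y]
  (e : f (genericPoint X) = genericPoint Y)

/-- the map of function fields -/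
noncomputable def phi : Y.functionField ⟶ X.functionField :=
  Y.presheaf.stalkSpecializes (specializes_of_eq e) ≫ f.stalkMap (genericPoint X)

theorem stalkMap_comm (x : X) :
    f.stalkMap x ≫ X.presheaf.stalkSpecializes ((genericPoint_spec X).specializes trivial) =
      Y.presheaf.stalkSpecializes ((genericPoint_spec Y).specializes trivial) ≫ phi f e := by
  unfold phi
  rw [← Category.assoc, TopCat.Presheaf.stalkSpecializes_comp,
    ← Scheme.Hom.stalkSpecializes_stalkMap f (genericPoint X) x
      ((genericPoint_spec X).specializes trivial)]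

theorem stalkMap_bijective [Flat f] (hbir : Function.Bijective (phi f e).hom) (x : X) :
    Function.Bijective (f.stalkMap x).hom := by
  have hff : (f.stalkMap x).hom.FaithfullyFlat := by
    algebraize [(f.stalkMap x).hom]
    exact @Module.FaithfullyFlat.of_flat_of_isLocalHom _ _ _ _ _ _ _
      (Flat.stalkMap f x) (f.toLRSHom.prop x)
  refine bijective_of_faithfullyFlat_birational
    (Y.presheaf.stalkSpecializes ((genericPoint_spec Y).specializes trivial)).hom
    (X.presheaf.stalkSpecializes ((genericPoint_spec X).specializes trivial)).hom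
    (phi f e).hom (f.stalkMap x).hom ?_ ?_ ?_ hff hbir.2
  · have := stalkMap_comm f e x
    exact congrArg CommRingCat.Hom.hom this
  · exact inferInstanceAs (IsFractionRing (Y.presheaf.stalk (f x)) Y.functionField)
  · exact IsFractionRing.injective (X.presheaf.stalk x) X.functionField

theorem specializes_of_map_eq [IsSeparated f] (hbir : Function.Bijective (phi f e).hom)
    (hst : ∀ x, IsIso (f.stalkMap x))
    (x₁ x₂ : X) (h : f x₁ = f x₂) : x₁ ⤳ x₂ := by
  haveI : IsIso (phi f e) := (ConcreteCategory.isIso_iff_bijective _).mpr hbir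
  haveI : IsIso (Y.presheaf.stalkSpecializes (specializes_of_eq h)) :=
    (Y.presheaf.stalkCongr (Inseparable.of_eq h.symm)).isIso_hom
  let a₁ : Spec (Y.presheaf.stalk (f x₁)) ⟶ X :=
    Spec.map (inv (f.stalkMap x₁)) ≫ X.fromSpecStalk x₁
  let a₂ : Spec (Y.presheaf.stalk (f x₁)) ⟶ X :=
    Spec.map (inv (f.stalkMap x₂) ≫ Y.presheaf.stalkSpecializes (specializes_of_eq h)) ≫
      X.fromSpecStalk x₂
  have h1 : a₁ ≫ f = Y.fromSpecStalk (f x₁) := by
    dsimp only [a₁]
    rw [Category.assoc, ← Scheme.SpecMap_stalkMap_fromSpecStalk, ← Spec.map_comp_assoc,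
      IsIso.hom_inv_id, Spec.map_id, Category.id_comp]
  have h2 : a₂ ≫ f = Y.fromSpecStalk (f x₁) := by
    dsimp only [a₂]
    rw [Category.assoc, ← Scheme.SpecMap_stalkMap_fromSpecStalk, ← Spec.map_comp_assoc,
      IsIso.hom_inv_id_assoc, Scheme.SpecMap_stalkSpecializes_fromSpecStalk]
  let ι : Spec Y.functionField ⟶ Spec (Y.presheaf.stalk (f x₁)) :=
    Spec.map (Y.presheaf.stalkSpecializes ((genericPoint_spec Y).specializes trivial))
  haveI : IsDominant ι := isDominant_SpecMap_of_injective _
    (IsFractionRing.injective (Y.presheaf.stalk (f x₁)) Y.functionField)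
  have e1 : inv (f.stalkMap x₁) ≫
      Y.presheaf.stalkSpecializes ((genericPoint_spec Y).specializes trivial) =
      X.presheaf.stalkSpecializes ((genericPoint_spec X).specializes trivial) ≫
        inv (phi f e) := by
    rw [IsIso.inv_comp_eq, ← Category.assoc, IsIso.eq_comp_inv, stalkMap_comm]
  have e2 : inv (f.stalkMap x₂) ≫
      Y.presheaf.stalkSpecializes ((genericPoint_spec Y).specializes trivial) =
      X.presheaf.stalkSpecializes ((genericPoint_spec X).specializes trivial) ≫
        inv (phi f e) := by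
    rw [IsIso.inv_comp_eq, ← Category.assoc, IsIso.eq_comp_inv, stalkMap_comm]
  have hι1 : ι ≫ a₁ = Spec.map (inv (phi f e)) ≫ X.fromSpecStalk (genericPoint X) := by
    dsimp only [ι, a₁]
    rw [← Spec.map_comp_assoc, e1, Spec.map_comp_assoc,
      Scheme.SpecMap_stalkSpecializes_fromSpecStalk]
  have hι2 : ι ≫ a₂ = Spec.map (inv (phi f e)) ≫ X.fromSpecStalk (genericPoint X) := by
    dsimp only [ι, a₂]
    rw [← Spec.map_comp_assoc, Category.assoc, TopCat.Presheaf.stalkSpecializes_comp, e2,
      Spec.map_comp_assoc, Scheme.SpecMap_stalkSpecializes_fromSpecStalk]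
  have heq : a₁ = a₂ :=
    ext_of_isDominant_of_isSeparated f (h1.trans h2.symm) ι (hι1.trans hι2.symm)
  have hx₁ : x₁ ∈ Set.range a₁ := by
    have hsurj : Function.Surjective (Spec.map (inv (f.stalkMap x₁))) :=
      (Spec.map (inv (f.stalkMap x₁))).surjective
    dsimp only [a₁]
    rw [Scheme.Hom.comp_base, TopCat.coe_comp, Set.range_comp, hsurj.range_eq, Set.image_univ,
      Scheme.range_fromSpecStalk]
    exact specializes_rfl
  rw [heq] at hx₁
  have hsub : Set.range a₂ ⊆ Set.range (X.fromSpecStalk x₂) := by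
    dsimp only [a₂]
    rw [Scheme.Hom.comp_base, TopCat.coe_comp]
    exact Set.range_comp_subset_range _ _
  have := hsub hx₁
  rwa [Scheme.range_fromSpecStalk] at this

/-- a flat, locally finitely presented, separated birational morphism of integral schemes is an
open immersion -/
theorem isOpenImmersion_of_flat_birational [Flat f] [LocallyOfFinitePresentation f]
    [IsSeparated f] (hbir : Function.Bijective (phi f e).hom) : IsOpenImmersion f := by
  have hst : ∀ x, IsIso (f.stalkMap x) := fun x =>
    (ConcreteCategory.isIso_iff_bijective _).mpr (stalkMap_bijective f e hbir x)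
  have hinj : Function.Injective f := fun x₁ x₂ h =>
    ((specializes_of_map_eq f e hbir hst x₁ x₂ h).antisymm
      (specializes_of_map_eq f e hbir hst x₂ x₁ h.symm)).eq
  have hemb : Topology.IsOpenEmbedding f :=
    .of_continuous_injective_isOpenMap f.continuous hinj f.isOpenMap
  exact IsOpenImmersion.of_isIso_stalkMap f hemb

end Gen

section Curve

open Groth.Agent.Lib.Helper8NormSmooth Groth.Agent.Lib.Helper10.CurveFlat

variable (k : Type u) [Field k] {Y : Scheme.{u}} (q : Y ⟶ Spec (CommRingCat.of k)) [Smooth q]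
  [IsIntegral Y]

include q in
/-- stalks of an integral scheme smooth over a field are integrally closed -/
theorem isIntegrallyClosed_stalk (y : Y) : IsIntegrallyClosed (Y.presheaf.stalk y) := by
  obtain ⟨_, ⟨U, hU : IsAffineOpen U, rfl⟩, hyU, -⟩ :=
    Y.isBasis_affineOpens.exists_subset_of_mem_open (Set.mem_univ y) isOpen_univ
  have h1 : (q.appLE ⊤ U le_top).hom.Smooth :=
    HasRingHomProperty.appLE @Smooth q inferInstance ⟨⊤, isAffineOpen_top _⟩ ⟨U, hU⟩ le_top
  have h2 : ((Scheme.ΓSpecIso (CommRingCat.of k)).inv ≫ q.appLE ⊤ U le_top).hom.Smooth :=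
    (RingHom.Smooth.propertyIsLocal.respectsIso.cancel_left_isIso _ _).mpr h1
  letI : Algebra k Γ(Y, U) :=
    ((Scheme.ΓSpecIso (CommRingCat.of k)).inv ≫ q.appLE ⊤ U le_top).hom.toAlgebra
  haveI : Algebra.Smooth k Γ(Y, U) := h2
  haveI : Nonempty U := ⟨⟨y, hyU⟩⟩
  haveI : IsIntegrallyClosed Γ(Y, U) := isIntegrallyClosed_of_smooth_field k Γ(Y, U)
  letI := Y.presheaf.algebra_section_stalk ⟨y, hyU⟩
  haveI := hU.isLocalization_stalk ⟨y, hyU⟩
  exact isIntegrallyClosed_of_isLocalization (R := Γ(Y, U)) (S := Y.presheaf.stalk y)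
    (hU.primeIdealOf ⟨y, hyU⟩).asIdeal.primeCompl
    (Ideal.primeCompl_le_nonZeroDivisors _)

include q in
theorem isOpenImmersion_of_birational_curve {X : Scheme.{u}} [IsIntegral X]
    (pX : X ⟶ Spec (CommRingCat.of k)) [IsSeparated pX] [LocallyOfFiniteType pX]
    [LocallyOfFiniteType q] (hdimY : topologicalKrullDim Y = 1)
    (f : X ⟶ Y) (hf : f ≫ q = pX) (e : f (genericPoint X) = genericPoint Y)
    (hbir : Function.Bijective (phi f e).hom) : IsOpenImmersion f := by
  haveI : IsLocallyNoetherian Y := LocallyOfFiniteType.isLocallyNoetherian q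
  haveI : Flat f := by
    rw [Flat.iff_flat_stalkMap]
    intro x
    have := isDedekindDomain_stalk Y hdimY.le (f x) (isIntegrallyClosed_stalk k q (f x))
    exact flat_of_injective_of_isDedekindDomain _ (stalkMap_injective_of_generic f e x)
  haveI : LocallyOfFiniteType (f ≫ q) := hf ▸ inferInstance
  haveI : IsSeparated (f ≫ q) := hf ▸ inferInstance
  haveI : LocallyOfFiniteType f := locallyOfFiniteType_of_comp f q
  haveI : LocallyOfFinitePresentation f :=
    LocallyOfFinitePresentation.iff_locallyOfFiniteType.mpr inferInstance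
  haveI : IsSeparated f := IsSeparated.of_comp f q
  exact isOpenImmersion_of_flat_birational f e hbir

end Curve

end Groth.Agent.Lib.Helper8CurveBir
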