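/-
Wedge of DVRs (S12463): a strictly henselian reduced Noetherian local ring of dimension one with delta + 1 = number of geometric branches is a wedge of DVRs. Contains: length_le_add_of_exact; wedge_abstract (length count forcing surjectivity on residue fields and Jacobson radical inside the image); isStrictHenselization_self; numGeomBranches_eq_card; isDiscreteValuationRing_localization; normal_localization_integralClosure.
-/
import Mathlib
import Groth.Prelude
import Groth.Agent.S9237
import Groth.Agent.S9238
import Groth.Agent.Lib.R2H1BrCompl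
import Groth.Agent.Lib.Helper4TotalFrac

set_option autoImplicit false
set_option linter.style.haveILetI false
set_option linter.unusedSectionVars false
universe u

open IsLocalRing Function

namespace Groth.Agent.Lib.R2H1.Wedge

section Part1

/-- right exact sequences: `length M₂ ≤ length M₁ + length M₃` -/
theorem length_le_add_of_exact {R M₁ M₂ M₃ : Type*} [Ring R] [AddCommGroup M₁] [Module R M₁]
    [AddCommGroup M₂] [Module R M₂] [AddCommGroup M₃] [Module R M₃]
    (f : M₁ →ₗ[R] M₂) (g : M₂ →ₗ[R] M₃) (hg : Function.Surjective g) (H : Function.Exact f g) :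
    Module.length R M₂ ≤ Module.length R M₁ + Module.length R M₃ := by
  rw [Module.length_eq_add_of_exact (LinearMap.ker g).subtype g (Submodule.subtype_injective _) hg
    (LinearMap.exact_subtype_ker_map g)]
  gcongr
  rw [LinearMap.exact_iff.mp H]
  exact Module.length_le_of_surjective f.rangeRestrict f.surjective_rangeRestrict

theorem wedge_abstract {A B : Type*} [CommRing A] [CommRing B] [Algebra A B] {ι : Type*} [Fintype ι]
    (𝔪' : ι → Ideal B) (hmax : ∀ i, (𝔪' i).IsMaximal) (hcop : Pairwise (IsCoprime on 𝔪'))
    (𝔪 : Ideal A) [h𝔪max : 𝔪.IsMaximal] (h𝔪 : ∀ a ∈ 𝔪, ∀ i, algebraMap A B a ∈ 𝔪' i)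
    (hlen : Module.length A (B ⧸ LinearMap.range (Algebra.linearMap A B)) + 1 =
      (Fintype.card ι : ℕ∞)) :
    (∀ i, Function.Surjective ((Ideal.Quotient.mk (𝔪' i)).comp (algebraMap A B))) ∧
    ∀ b : B, (∀ i, b ∈ 𝔪' i) → b ∈ (algebraMap A B).range := by
  classical
  set N : Submodule A B := LinearMap.range (Algebra.linearMap A B) with hN
  let J' : Submodule A B := (⨅ i, 𝔪' i).restrictScalars A
  let M' : ι → Submodule A B := fun i => (𝔪' i).restrictScalars A
  let C : Submodule A B := N ⊔ J'
  have hJ'mem : ∀ b : B, b ∈ J' ↔ ∀ i, b ∈ 𝔪' i := by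
    intro b
    show b ∈ (⨅ i, 𝔪' i) ↔ _
    rw [Ideal.mem_iInf]
  -- g₁ : B/N → B/C
  let g₁ : (B ⧸ N) →ₗ[A] (B ⧸ C) := Submodule.mapQ N C LinearMap.id (by
    intro x hx; exact Submodule.mem_sup_left hx)
  have hg₁ : Function.Surjective g₁ := by
    intro y
    obtain ⟨b, rfl⟩ := Submodule.Quotient.mk_surjective _ y
    exact ⟨Submodule.Quotient.mk b, rfl⟩
  have e₁ := Module.length_eq_add_of_exact (LinearMap.ker g₁).subtype g₁
    (Submodule.subtype_injective _) hg₁ (LinearMap.exact_subtype_ker_map g₁)
  -- g₂ : B/J' → B/C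
  let g₂ : (B ⧸ J') →ₗ[A] (B ⧸ C) := Submodule.mapQ J' C LinearMap.id (by
    intro x hx; exact Submodule.mem_sup_right hx)
  have hg₂ : Function.Surjective g₂ := by
    intro y
    obtain ⟨b, rfl⟩ := Submodule.Quotient.mk_surjective _ y
    exact ⟨Submodule.Quotient.mk b, rfl⟩
  -- φ : A/𝔪 → B/J'
  let φ : (A ⧸ 𝔪) →ₗ[A] (B ⧸ J') := Submodule.liftQ 𝔪 (J'.mkQ ∘ₗ Algebra.linearMap A B) (by
    intro a ha
    rw [LinearMap.mem_ker, LinearMap.comp_apply, Submodule.mkQ_apply,
      Submodule.Quotient.mk_eq_zero, hJ'mem]
    exact h𝔪 a ha)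
  have hexact : Function.Exact φ g₂ := by
    intro y
    obtain ⟨b, rfl⟩ := Submodule.Quotient.mk_surjective _ y
    constructor
    · intro h0
      have hbC : b ∈ C := by
        have : (Submodule.Quotient.mk b : B ⧸ C) = 0 := h0
        rwa [Submodule.Quotient.mk_eq_zero] at this
      obtain ⟨n, hn, j, hj, rfl⟩ := Submodule.mem_sup.mp hbC
      obtain ⟨a, rfl⟩ := hn
      refine ⟨Submodule.Quotient.mk a, ?_⟩
      show J'.mkQ (Algebra.linearMap A B a) = Submodule.Quotient.mk (Algebra.linearMap A B a + j)
      rw [Submodule.mkQ_apply, Submodule.Quotient.eq]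
      simpa using J'.neg_mem hj
    · rintro ⟨x, hx⟩
      obtain ⟨a, rfl⟩ := Submodule.Quotient.mk_surjective _ x
      rw [← hx]
      show (Submodule.Quotient.mk (Algebra.linearMap A B a) : B ⧸ C) = 0
      rw [Submodule.Quotient.mk_eq_zero]
      exact Submodule.mem_sup_left ⟨a, rfl⟩
  have e₂ := length_le_add_of_exact φ g₂ hg₂ hexact
  have hsimple : Module.length A (A ⧸ 𝔪) = 1 := by
    rw [Module.length_eq_one_iff]
    exact isSimpleModule_iff_isCoatom.mpr (Ideal.isMaximal_def.mp h𝔪max)
  rw [hsimple] at e₂
  -- g₃ : B/J' → Π B/M'_i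
  let g₃ : (B ⧸ J') →ₗ[A] (∀ i, B ⧸ M' i) :=
    Submodule.liftQ J' (LinearMap.pi fun i => (M' i).mkQ) (by
      intro b hb
      rw [LinearMap.mem_ker]
      ext i
      rw [LinearMap.pi_apply, Submodule.mkQ_apply, Pi.zero_apply, Submodule.Quotient.mk_eq_zero]
      exact (hJ'mem b).mp hb i)
  have hg₃ : Function.Surjective g₃ := by
    intro y
    choose b hb using fun i => Submodule.Quotient.mk_surjective _ (y i)
    obtain ⟨x, hx⟩ := Ideal.quotientInfToPiQuotient_surj hcop
      (fun i => Ideal.Quotient.mk (𝔪' i) (b i))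
    obtain ⟨b₀, rfl⟩ := Ideal.Quotient.mk_surjective x
    refine ⟨Submodule.Quotient.mk b₀, ?_⟩
    ext i
    have h1 := congrFun hx i
    rw [Ideal.quotientInfToPiQuotient_mk', Ideal.Quotient.eq] at h1
    show (Submodule.Quotient.mk b₀ : B ⧸ M' i) = y i
    rw [← hb i, Submodule.Quotient.eq]
    exact h1
  have e₃ := Module.length_le_of_surjective g₃ hg₃
  rw [Module.length_pi_of_fintype] at e₃
  have hpos : ∀ i, 1 ≤ Module.length A (B ⧸ M' i) := by
    intro i
    rw [Order.one_le_iff_pos, Module.length_pos_iff]
    have : (M' i) ≠ ⊤ := by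
      intro h
      apply (hmax i).ne_top
      rw [Ideal.eq_top_iff_one]
      have : (1 : B) ∈ M' i := by rw [h]; trivial
      exact this
    exact Submodule.Quotient.nontrivial_iff.mpr this
  -- arithmetic
  set x := Module.length A (LinearMap.ker g₁) with hx
  set y := Module.length A (B ⧸ C) with hy
  have hxy : x + y + 1 = (Fintype.card ι : ℕ∞) := by rw [← e₁]; exact hlen
  have hxne : x ≠ ⊤ := by
    intro h; rw [h] at hxy; simp at hxy
  have hyne : y ≠ ⊤ := by
    intro h; rw [h] at hxy; simp at hxy
  have hcard : (Fintype.card ι : ℕ∞) ≤ ∑ i, Module.length A (B ⧸ M' i) := by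
    calc (Fintype.card ι : ℕ∞) = ∑ _i : ι, (1 : ℕ∞) := by simp
      _ ≤ _ := Finset.sum_le_sum fun i _ => hpos i
  have hsum_le : ∑ i, Module.length A (B ⧸ M' i) ≤ 1 + y := e₃.trans e₂
  lift x to ℕ using hxne with x' hx'
  lift y to ℕ using hyne with y' hy'
  have hxy' : x' + y' + 1 = Fintype.card ι := by exact_mod_cast hxy
  have h1 : (Fintype.card ι : ℕ∞) ≤ 1 + (y' : ℕ∞) := hcard.trans hsum_le
  have h1' : Fintype.card ι ≤ 1 + y' := by exact_mod_cast h1
  have hx0 : x' = 0 := by omega
  have hsum_eq : ∑ i, Module.length A (B ⧸ M' i) = (Fintype.card ι : ℕ∞) := by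
    apply le_antisymm _ hcard
    refine hsum_le.trans ?_
    have : 1 + y' = Fintype.card ι := by omega
    exact_mod_cast this.le
  have hfin : ∀ i, Module.length A (B ⧸ M' i) ≠ ⊤ := by
    intro i h
    have : Module.length A (B ⧸ M' i) ≤ ∑ j, Module.length A (B ⧸ M' j) :=
      Finset.single_le_sum (f := fun j => Module.length A (B ⧸ M' j)) (fun _ _ => zero_le)
        (Finset.mem_univ i)
    rw [hsum_eq, h] at this
    simp at this
  have hone : ∀ i, Module.length A (B ⧸ M' i) = 1 := by
    let ℓ : ι → ℕ := fun i => (Module.length A (B ⧸ M' i)).toNat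
    have hℓ : ∀ i, (ℓ i : ℕ∞) = Module.length A (B ⧸ M' i) := fun i => ENat.coe_toNat (hfin i)
    have hℓ1 : ∀ i ∈ (Finset.univ : Finset ι), 1 ≤ ℓ i := by
      intro i _
      have := hpos i
      rw [← hℓ i] at this
      exact_mod_cast this
    have hℓsum : ∑ i, ℓ i = Fintype.card ι := by
      have : ((∑ i, ℓ i : ℕ) : ℕ∞) = (Fintype.card ι : ℕ∞) := by
        rw [Nat.cast_sum, ← hsum_eq]
        exact Finset.sum_congr rfl fun i _ => hℓ i
      exact_mod_cast this
    have h11 : ∑ _i : ι, 1 = ∑ i, ℓ i := by rw [hℓsum]; simp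
    have := (Finset.sum_eq_sum_iff_of_le hℓ1).mp h11
    intro i
    rw [← hℓ i, ← this i (Finset.mem_univ i)]
    rfl
  constructor
  · intro i z
    obtain ⟨b, rfl⟩ := Ideal.Quotient.mk_surjective z
    have hs : IsSimpleModule A (B ⧸ M' i) := Module.length_eq_one_iff.mp (hone i)
    let ψ : A →ₗ[A] (B ⧸ M' i) := (M' i).mkQ ∘ₗ Algebra.linearMap A B
    have hne : LinearMap.range ψ ≠ ⊥ := by
      intro h
      have h1 : ψ 1 ∈ LinearMap.range ψ := ⟨1, rfl⟩
      rw [h, Submodule.mem_bot] at h1
      have h2 : (Submodule.Quotient.mk (1 : B) : B ⧸ M' i) = 0 := by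
        have : ψ 1 = Submodule.Quotient.mk (1 : B) := by
          show (M' i).mkQ (Algebra.linearMap A B 1) = _
          rw [Algebra.linearMap_apply, map_one]; rfl
        rw [← this]; exact h1
      rw [Submodule.Quotient.mk_eq_zero] at h2
      exact (hmax i).ne_top ((Ideal.eq_top_iff_one _).mpr h2)
    have htop : LinearMap.range ψ = ⊤ := (eq_bot_or_eq_top _).resolve_left hne
    have : (Submodule.Quotient.mk b : B ⧸ M' i) ∈ LinearMap.range ψ := by rw [htop]; trivial
    obtain ⟨a, ha⟩ := this
    refine ⟨a, ?_⟩
    rw [RingHom.comp_apply, Ideal.Quotient.eq]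
    have : (Submodule.Quotient.mk (algebraMap A B a) : B ⧸ M' i) = Submodule.Quotient.mk b := ha
    rw [Submodule.Quotient.eq] at this
    exact this
  · intro b hb
    have hker : LinearMap.ker g₁ = ⊥ := by
      have : Module.length A (LinearMap.ker g₁) = 0 := by rw [← hx, hx0]; rfl
      rw [Module.length_eq_zero_iff] at this
      exact Submodule.eq_bot_of_subsingleton
    have hbC : b ∈ C := Submodule.mem_sup_right ((hJ'mem b).mpr hb)
    have h0 : g₁ (Submodule.Quotient.mk b) = 0 := by
      show (Submodule.Quotient.mk b : B ⧸ C) = 0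
      rwa [Submodule.Quotient.mk_eq_zero]
    have h1 : (Submodule.Quotient.mk b : B ⧸ N) ∈ LinearMap.ker g₁ := h0
    rw [hker, Submodule.mem_bot, Submodule.Quotient.mk_eq_zero] at h1
    obtain ⟨a, ha⟩ := h1
    exact ⟨a, ha⟩

end Part1

section Part2

open Groth.Agent.Lib.Helper3

theorem isStrictHenselization_self (A : Type u) [CommRing A] [HenselianLocalRing A]
    [IsSepClosed (ResidueField A)] : Hensel.IsStrictHenselization A A := by
  refine { henselian := inferInstance, isSepClosure := ?_, universal := ?_ }
  · refine @IsSepClosure.mk _ _ _ _ ResidueField.instAlgebra inferInstance ?_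
    refine @Algebra.IsSeparable.mk _ _ _ _ ResidueField.instAlgebra ?_
    intro x
    have : x = @algebraMap (ResidueField A) (ResidueField A) _ _ ResidueField.instAlgebra x := by
      obtain ⟨a, rfl⟩ := residue_surjective x
      rfl
    rw [this]
    exact @isSeparable_algebraMap _ _ _ _ ResidueField.instAlgebra _
  · intro T _ _ f _ τ hτ
    refine ⟨f, ⟨rfl, fun x => ?_⟩, fun g hg => hg.1⟩
    have := congr($hτ (residue A x))
    rw [RingHom.comp_apply] at this
    exact this.symm

/-- For a henselian local ring with separably closed residue field (finitely many minimal primes),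
the number of geometric branches is the number of maximal ideals of the normalization. -/
theorem numGeomBranches_eq_card (A : Type u) [CommRing A] [HenselianLocalRing A]
    [IsSepClosed (ResidueField A)] (hfin : (minimalPrimes A).Finite) :
    Brnch.numGeomBranches A = ENat.card (MaximalSpectrum (CAlg2.normRed A)) := by
  haveI := isStrictHenselization_self A
  haveI := Branch.isHenselization_self A
  have h1 := Groth.Agent.S9238.result A A
  have h2 := Groth.Agent.S9237.result A A
  rw [← h1, h2]
  unfold Brnch.numBranches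
  rw [if_pos hfin]

end Part2

section Part3

open Groth.Agent.Lib.Helper3 Groth.Agent.Lib.R2H1.BrCompl

/-- DVR version of `exists_generator_maximalIdeal_localization`. -/
theorem isDiscreteValuationRing_localization (A B : Type*) [CommRing A] [IsLocalRing A]
    [Ring.KrullDimLE 1 A] [CommRing B] [IsNoetherianRing B] [Algebra A B] [Algebra.IsIntegral A B]
    (a : A) (ham : a ∈ maximalIdeal A) (ha : algebraMap A B a ∈ nonZeroDivisors B)
    (P : Ideal B) [hP : P.IsMaximal] [IsDomain (Localization.AtPrime P)]
    [IsIntegrallyClosed (Localization.AtPrime P)] :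
    IsDiscreteValuationRing (Localization.AtPrime P) := by
  obtain ⟨π', hπ0, hπ⟩ := exists_generator_maximalIdeal_localization A B a ham ha P
  have hnf : ¬ IsField (Localization.AtPrime P) := by
    rw [IsLocalRing.isField_iff_maximalIdeal_eq, hπ]
    intro h
    apply hπ0
    have : π' ∈ (⊥ : Ideal (Localization.AtPrime P)) := by
      rw [← h]; exact Ideal.subset_span rfl
    simpa using this
  have h40 := (IsDiscreteValuationRing.TFAE (Localization.AtPrime P) hnf).out 4 0
  exact h40.mp ⟨⟨π', hπ⟩⟩

variable (A : Type u) [CommRing A] [IsReduced A]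

theorem algebraMap_integralClosure_mem_nonZeroDivisors (a : A) (ha : a ∈ nonZeroDivisors A) :
    algebraMap A (integralClosure A (FractionRing A)) a ∈
      nonZeroDivisors (integralClosure A (FractionRing A)) := by
  have h2 : IsUnit (algebraMap A (FractionRing A) a) :=
    IsLocalization.map_units (FractionRing A) ⟨a, ha⟩
  rw [mem_nonZeroDivisors_iff_right]
  intro x hx
  have h3 : (x : FractionRing A) * algebraMap A (FractionRing A) a = 0 := by
    have := congrArg (Subtype.val) hx
    exact this
  have h4 : (x : FractionRing A) = 0 := h2.mul_left_eq_zero.mp h3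
  exact Subtype.ext h4

theorem normal_localization_integralClosure [IsNoetherianRing A]
    (P : Ideal (integralClosure A (FractionRing A))) [P.IsPrime] :
    IsDomain (Localization.AtPrime P) ∧ IsIntegrallyClosed (Localization.AtPrime P) :=
  Groth.Agent.Lib.Helper4.TotalFrac.isDomain_isIntegrallyClosed_localization_of_ringEquiv
    (normEquiv A) P
    (fun Q _ => Branch.normal_normRed A (minimalPrimes.finite_of_isNoetherianRing A) Q)

end Part3

section Part4

open Groth.Agent.Lib.Helper3 Groth.Agent.Lib.R2H1.BrCompl

theorem main_12463 (A : Type u) [CommRing A] [HenselianLocalRing A]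
    [IsSepClosed (IsLocalRing.ResidueField A)] [IsReduced A] (hN : CAlg.IsNagata A)
    (hdim : ringKrullDim A = 1)
    (heq : Curv2.deltaInv A + 1 = Brnch.numGeomBranches A) :
    (∀ m' : MaximalSpectrum ↥(integralClosure A (FractionRing A)),
        (∃ _ : IsDomain (Localization.AtPrime m'.asIdeal),
          IsDiscreteValuationRing (Localization.AtPrime m'.asIdeal)) ∧
        Function.Surjective (⇑(IsLocalRing.residue (Localization.AtPrime m'.asIdeal)) ∘
          ⇑(algebraMap ↥(integralClosure A (FractionRing A)) (Localization.AtPrime m'.asIdeal)) ∘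
          ⇑(algebraMap A ↥(integralClosure A (FractionRing A))))) ∧
    ∀ a' : ↥(integralClosure A (FractionRing A)),
      (∃ a : A, ∀ m' : MaximalSpectrum ↥(integralClosure A (FractionRing A)),
          a' - algebraMap A _ a ∈ m'.asIdeal) →
      a' ∈ (algebraMap A ↥(integralClosure A (FractionRing A))).range := by
  haveI : IsNoetherianRing A := hN.1
  have hfinMin : (minimalPrimes A).Finite := minimalPrimes.finite_of_isNoetherianRing A
  -- the count
  have hcard1 := numGeomBranches_eq_card A hfinMin
  have hcard2 : ENat.card (MaximalSpectrum (CAlg2.normRed A)) =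
      ENat.card (MaximalSpectrum (integralClosure A (FractionRing A))) := by
    refine (ENat.card_congr ?_).symm
    refine Equiv.trans ?_ (maxEquiv A)
    exact ⟨fun m => ⟨m.asIdeal, m.isMaximal⟩, fun p => ⟨p.1, p.2⟩, fun _ => rfl, fun _ => rfl⟩
  have hfinite : Finite (MaximalSpectrum (integralClosure A (FractionRing A))) := by
    by_contra hinf
    rw [not_finite_iff_infinite] at hinf
    have h1 : ENat.card (MaximalSpectrum (integralClosure A (FractionRing A))) = ⊤ :=
      ENat.card_eq_top_of_infinite
    haveI := Branch.isHenselization_self A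
    have h2 := Groth.Agent.S9237.result A A
    unfold Brnch.numBranches at h2
    rw [if_pos hfinMin, hcard2, h1] at h2
    haveI : Finite (minimalPrimes A) := hfinMin.to_subtype
    have h3 : ENat.card (minimalPrimes A) ≠ ⊤ := by
      rw [ENat.card_eq_coe_natCard]; exact ENat.coe_ne_top _
    exact h3 h2
  letI : Fintype (MaximalSpectrum (integralClosure A (FractionRing A))) := Fintype.ofFinite _
  have hlen : Module.length A ((integralClosure A (FractionRing A)) ⧸
      LinearMap.range (Algebra.linearMap A (integralClosure A (FractionRing A)))) + 1 =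
      (Fintype.card (MaximalSpectrum (integralClosure A (FractionRing A))) : ℕ∞) := by
    have : Curv2.deltaInv A + 1 =
        (Fintype.card (MaximalSpectrum (integralClosure A (FractionRing A))) : ℕ∞) := by
      rw [heq, hcard1, hcard2, ENat.card_eq_coe_fintype_card]
    exact this
  -- finiteness of the normalization
  have hlenfin : Module.length A ((integralClosure A (FractionRing A)) ⧸
      LinearMap.range (Algebra.linearMap A (integralClosure A (FractionRing A)))) ≠ ⊤ := by
    intro h
    rw [h] at hlen
    simp at hlen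
  haveI hfinA' : Module.Finite A (integralClosure A (FractionRing A)) := by
    have h1 : IsFiniteLength A ((integralClosure A (FractionRing A)) ⧸
        LinearMap.range (Algebra.linearMap A (integralClosure A (FractionRing A)))) :=
      Module.length_ne_top_iff.mp hlenfin
    obtain ⟨h2, -⟩ := isFiniteLength_iff_isNoetherian_isArtinian.mp h1
    haveI := h2
    haveI : Module.Finite A (LinearMap.range
        (Algebra.linearMap A (integralClosure A (FractionRing A)))) :=
      Module.Finite.range _
    exact Module.Finite.of_submodule_quotient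
      (LinearMap.range (Algebra.linearMap A (integralClosure A (FractionRing A))))
  haveI : Algebra.IsIntegral A (integralClosure A (FractionRing A)) := inferInstance
  haveI : IsNoetherianRing (integralClosure A (FractionRing A)) :=
    Algebra.FiniteType.isNoetherianRing A _
  have hcomap : ∀ m' : MaximalSpectrum (integralClosure A (FractionRing A)),
      m'.asIdeal.comap (algebraMap A (integralClosure A (FractionRing A))) = maximalIdeal A := by
    intro m'
    haveI := m'.isMaximal
    exact IsLocalRing.eq_maximalIdeal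
      (Ideal.isMaximal_comap_of_isIntegral_of_isMaximal m'.asIdeal)
  obtain ⟨hW1, hW2⟩ := wedge_abstract (A := A) (B := integralClosure A (FractionRing A))
    (fun m' : MaximalSpectrum (integralClosure A (FractionRing A)) => m'.asIdeal)
    (fun m' => m'.isMaximal)
    (fun m₁ m₂ hne => by
      haveI := m₁.isMaximal
      haveI := m₂.isMaximal
      exact Ideal.isCoprime_of_isMaximal (MaximalSpectrum.ext_iff.ne.mp hne))
    (maximalIdeal A)
    (fun a ha m' => by
      have : a ∈ m'.asIdeal.comap (algebraMap A (integralClosure A (FractionRing A))) := by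
        rw [hcomap m']; exact ha
      exact this)
    hlen
  haveI : Ring.KrullDimLE 1 A := Ring.krullDimLE_iff.mpr (by rw [hdim]; rfl)
  obtain ⟨a₀, ha₀m, ha₀⟩ := exists_nzd_mem_maximalIdeal A hdim
  refine ⟨fun m' => ?_, ?_⟩
  · haveI := m'.isMaximal
    obtain ⟨hdom, hic⟩ := normal_localization_integralClosure A m'.asIdeal
    haveI := hdom
    haveI := hic
    refine ⟨⟨hdom, isDiscreteValuationRing_localization A (integralClosure A (FractionRing A))
      a₀ ha₀m (algebraMap_integralClosure_mem_nonZeroDivisors A a₀ ha₀) m'.asIdeal⟩, ?_⟩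
    intro z
    let e := IsLocalization.AtPrime.equivQuotMaximalIdeal m'.asIdeal
      (Localization.AtPrime m'.asIdeal)
    obtain ⟨a, ha⟩ := hW1 m' (e.symm z)
    refine ⟨a, ?_⟩
    have h1 : e (Ideal.Quotient.mk m'.asIdeal
        (algebraMap A (integralClosure A (FractionRing A)) a)) = z := by
      rw [RingHom.comp_apply] at ha
      rw [ha, RingEquiv.apply_symm_apply]
    rw [IsLocalization.AtPrime.equivQuotMaximalIdeal_apply_mk] at h1
    exact h1
  · rintro a' ⟨a, ha⟩
    obtain ⟨b, hb⟩ := hW2 (a' - algebraMap A _ a) ha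
    refine ⟨b + a, ?_⟩
    rw [map_add, hb]
    ring

end Part4

end Groth.Agent.Lib.R2H1.Wedge
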