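/-
R2H1DeltaBC (helper1, round 2): the delta invariant of a reduced Nagata local ring of dimension one is
unchanged under flat local base change A -> B with m_A B = m_B that is either residue-trivial
(henselization, completion) or ind-etale (strict henselization).  Main tools: DVR criterion for
localizations of N (x) B (N the normalization of A), length under flat base change, injectivity of
B (x) N -> Frac B and identification of its range with the integral closure of B.
-/
import Mathlib
import Groth.Prelude
import Groth.Agent.Lib.R2H1BrCompl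
import Groth.Agent.Lib.R2H1Wedge
import Groth.Agent.Lib.Helper3IndEt
import Groth.Agent.Lib.Helper3HzP
import Groth.Agent.Lib.Helper3IndEtHz
import Groth.Agent.Lib.Helper19ComplNoeth
import Groth.Agent.S0733
import Groth.Agent.S7652

set_option autoImplicit false
set_option linter.style.haveILetI false
set_option linter.unusedSectionVars false
universe u

open IsLocalRing Function TensorProduct

namespace Groth.Agent.Lib.R2H1.DeltaBC

section Part1

open Groth.Agent.Lib.R2H1.BrCompl

/-- DVR criterion along a flat ring map, with the fibre condition stated locally. -/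
theorem isDVR_localization_of_flat_of_principal (B T : Type*) [CommRing B] [CommRing T]
    [Algebra B T] [Module.Flat B T] [IsNoetherianRing T] (M : Ideal T) [M.IsPrime]
    (P : Ideal B) [P.IsPrime] (hPM : M.comap (algebraMap B T) = P)
    (hMP : ∀ t ∈ M, ∃ u, u ∉ M ∧ u * t ∈ P.map (algebraMap B T))
    [IsDomain (Localization.AtPrime P)] (π' : Localization.AtPrime P) (hπ0 : π' ≠ 0)
    (hπ : maximalIdeal (Localization.AtPrime P) = Ideal.span {π'}) :
    ∃ _ : IsDomain (Localization.AtPrime M), IsDiscreteValuationRing (Localization.AtPrime M) := by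
  let f : Localization.AtPrime P →+* Localization.AtPrime M :=
    Localization.localRingHom P M (algebraMap B T) hPM.symm
  letI : Algebra (Localization.AtPrime P) (Localization.AtPrime M) := f.toAlgebra
  haveI : IsScalarTower B (Localization.AtPrime P) (Localization.AtPrime M) :=
    IsScalarTower.of_algebraMap_eq (fun b => by
      show _ = f (algebraMap B (Localization.AtPrime P) b)
      rw [Localization.localRingHom_to_map]
      exact IsScalarTower.algebraMap_apply B T (Localization.AtPrime M) b)
  haveI : Module.Flat B (Localization.AtPrime M) := Module.Flat.trans B T _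
  haveI : Module.Flat (Localization.AtPrime P) (Localization.AtPrime M) :=
    (Module.flat_iff_of_isLocalization (Localization.AtPrime P) P.primeCompl _).mpr inferInstance
  have hreg : IsSMulRegular (Localization.AtPrime M) (f π') := by
    have h1 : IsSMulRegular (Localization.AtPrime P) π' := by
      intro a b hab
      exact mul_left_cancel₀ hπ0 hab
    exact IsSMulRegular.of_flat h1
  have hPle : (P.map (algebraMap B T)).map (algebraMap T (Localization.AtPrime M)) ≤
      Ideal.span {f π'} := by
    rw [Ideal.map_map, Ideal.map_le_iff_le_comap]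
    intro b hb
    rw [Ideal.mem_comap, RingHom.comp_apply,
      ← IsScalarTower.algebraMap_apply B T (Localization.AtPrime M),
      IsScalarTower.algebraMap_apply B (Localization.AtPrime P) (Localization.AtPrime M)]
    have h1 : algebraMap B (Localization.AtPrime P) b ∈ maximalIdeal (Localization.AtPrime P) := by
      rw [← Localization.AtPrime.map_eq_maximalIdeal]
      exact Ideal.mem_map_of_mem _ hb
    rw [hπ, Ideal.mem_span_singleton'] at h1
    obtain ⟨c, hc⟩ := h1
    rw [← hc, map_mul]
    exact Ideal.mul_mem_left _ _ (Ideal.subset_span rfl)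
  have hmax : maximalIdeal (Localization.AtPrime M) = Ideal.span {f π'} := by
    apply le_antisymm
    · rw [← Localization.AtPrime.map_eq_maximalIdeal, Ideal.map_le_iff_le_comap]
      intro t ht
      obtain ⟨u, hu, hut⟩ := hMP t ht
      rw [Ideal.mem_comap]
      have h1 : algebraMap T (Localization.AtPrime M) (u * t) ∈ Ideal.span {f π'} :=
        hPle (Ideal.mem_map_of_mem _ hut)
      have hunit : IsUnit (algebraMap T (Localization.AtPrime M) u) :=
        IsLocalization.map_units (Localization.AtPrime M) (⟨u, hu⟩ : M.primeCompl)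
      rw [map_mul] at h1
      exact (Ideal.unit_mul_mem_iff_mem _ hunit).mp h1
    · rw [Ideal.span_singleton_le_iff_mem]
      have h1 : π' ∈ maximalIdeal (Localization.AtPrime P) := by
        rw [hπ]; exact Ideal.subset_span rfl
      have hloc : IsLocalHom f := Localization.isLocalHom_localRingHom P M _ hPM.symm
      rw [mem_maximalIdeal, mem_nonunits_iff] at h1 ⊢
      intro hu
      exact h1 (hloc.map_nonunit _ hu)
  have hdom := isDomain_of_maximalIdeal_eq_span_regular _ (f π') hmax hreg
  refine ⟨hdom, ?_⟩
  haveI := hdom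
  have hne0 : f π' ≠ 0 := by
    intro h0
    have : (1 : Localization.AtPrime M) = 0 := by
      apply hreg
      simp [h0]
    exact one_ne_zero this
  have hnf : ¬ IsField (Localization.AtPrime M) := by
    rw [IsLocalRing.isField_iff_maximalIdeal_eq, hmax]
    intro h
    apply hne0
    have : f π' ∈ (⊥ : Ideal (Localization.AtPrime M)) := by
      rw [← h]; exact Ideal.subset_span rfl
    simpa using this
  have h40 := (IsDiscreteValuationRing.TFAE (Localization.AtPrime M) hnf).out 4 0
  exact h40.mp ⟨⟨f π', hmax⟩⟩

end Part1

section Part2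

section Length

variable {A B : Type u} [CommRing A] [CommRing B] [IsLocalRing A] [IsLocalRing B] [Algebra A B]

/-- base change of a simple module along a local map with `m_A B = m_B` is simple -/
theorem isSimpleModule_baseChange (hm : (maximalIdeal A).map (algebraMap A B) = maximalIdeal B)
    (Q : Type u) [AddCommGroup Q] [Module A Q] [hQ : IsSimpleModule A Q] :
    IsSimpleModule B (B ⊗[A] Q) := by
  obtain ⟨I, hI, ⟨e⟩⟩ := isSimpleModule_iff_quot_maximal.mp hQ
  have hIm : I = maximalIdeal A := IsLocalRing.eq_maximalIdeal hI
  subst hIm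
  let e1 : B ⊗[A] Q ≃ₗ[B] B ⊗[A] (A ⧸ maximalIdeal A) := e.baseChange A B Q _
  let e2 : (B ⧸ (maximalIdeal A).map (algebraMap A B)) ≃ₗ[B] B ⊗[A] (A ⧸ maximalIdeal A) :=
    (Algebra.TensorProduct.quotIdealMapEquivTensorQuot B (maximalIdeal A)).toLinearEquiv
  have h3 : IsSimpleModule B (B ⧸ (maximalIdeal A).map (algebraMap A B)) := by
    rw [hm]
    exact isSimpleModule_iff_isCoatom.mpr (Ideal.isMaximal_def.mp (maximalIdeal.isMaximal B))
  exact (e1.trans e2.symm).isSimpleModule_iff.mpr h3

theorem length_baseChange_eq [Module.Flat A B]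
    (hm : (maximalIdeal A).map (algebraMap A B) = maximalIdeal B)
    (M : Type u) [AddCommGroup M] [Module A M] (hM : IsFiniteLength A M) :
    Module.length B (B ⊗[A] M) = Module.length A M := by
  induction hM with
  | of_subsingleton =>
    rw [Module.length_eq_zero, Module.length_eq_zero]
  | @of_simple_quotient M _ _ N hs hN ih =>
    have hinj : Function.Injective (LinearMap.baseChange B N.subtype) := by
      rw [LinearMap.baseChange_eq_ltensor]
      exact Module.Flat.lTensor_preserves_injective_linearMap _ N.subtype_injective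
    have hsurj : Function.Surjective (LinearMap.baseChange B N.mkQ) := by
      rw [LinearMap.baseChange_eq_ltensor]
      exact LinearMap.lTensor_surjective _ N.mkQ_surjective
    have hex : Function.Exact (LinearMap.baseChange B N.subtype) (LinearMap.baseChange B N.mkQ) := by
      rw [LinearMap.baseChange_eq_ltensor, LinearMap.baseChange_eq_ltensor]
      exact lTensor_exact B (LinearMap.exact_subtype_mkQ N) N.mkQ_surjective
    rw [Module.length_eq_add_of_exact _ _ hinj hsurj hex, ih,
      Module.length_eq_add_of_exact N.subtype N.mkQ N.subtype_injective N.mkQ_surjective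
        (LinearMap.exact_subtype_mkQ N)]
    haveI := isSimpleModule_baseChange hm (M ⧸ N)
    rw [Module.length_eq_one B (B ⊗[A] (M ⧸ N)), Module.length_eq_one A (M ⧸ N)]

end Length

end Part2

section Part3

section Mu

variable (A B : Type u) [CommRing A] [CommRing B] [Algebra A B]

/-- the conductor element -/
theorem exists_conductor [Module.Finite A (integralClosure A (FractionRing A))] :
    ∃ c ∈ nonZeroDivisors A, ∀ x : integralClosure A (FractionRing A),
      ∃ a : A, c • x = algebraMap A (integralClosure A (FractionRing A)) a := by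
  classical
  obtain ⟨s, hs⟩ := (Module.finite_def.mp
    (inferInstance : Module.Finite A (integralClosure A (FractionRing A))))
  obtain ⟨c, hc⟩ := IsLocalization.exist_integer_multiples_of_finset (nonZeroDivisors A)
    (s.image (fun x : integralClosure A (FractionRing A) => (x : FractionRing A)))
  refine ⟨c.1, c.2, ?_⟩
  intro x
  have hx : x ∈ Submodule.span A (s : Set (integralClosure A (FractionRing A))) := by
    rw [hs]; trivial
  induction hx using Submodule.span_induction with
  | mem y hy =>
    obtain ⟨a, ha⟩ := hc (y : FractionRing A) (Finset.mem_image_of_mem _ hy)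
    refine ⟨a, Subtype.ext ?_⟩
    exact ha.symm
  | zero => exact ⟨0, by simp⟩
  | add y z _ _ hy hz =>
    obtain ⟨a, ha⟩ := hy
    obtain ⟨b, hb⟩ := hz
    exact ⟨a + b, by rw [smul_add, ha, hb, map_add]⟩
  | smul r y _ hy =>
    obtain ⟨a, ha⟩ := hy
    exact ⟨r * a, by rw [smul_comm, ha, map_mul, Algebra.smul_def]⟩

variable [Module.Flat A B]

theorem algebraMap_mem_nonZeroDivisors_of_flat {a : A} (ha : a ∈ nonZeroDivisors A) :
    algebraMap A B a ∈ nonZeroDivisors B := by
  have h1 : IsSMulRegular A a := by
    intro x y hxy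
    have h0 : a * (x - y) = 0 := by
      rw [mul_sub]; exact sub_eq_zero.mpr hxy
    have := (mem_nonZeroDivisors_iff_right.mp ha) (x - y) (by rw [mul_comm]; exact h0)
    exact sub_eq_zero.mp this
  have h2 : IsSMulRegular B (algebraMap A B a) := IsSMulRegular.of_flat h1
  rw [mem_nonZeroDivisors_iff_right]
  intro x hx
  apply h2
  simp only [smul_eq_mul, mul_zero]
  rw [mul_comm]; exact hx

/-- `Frac A → Frac B` for flat `A → B` -/
noncomputable def fracMap : FractionRing A →ₐ[A] FractionRing B :=
  IsLocalization.liftAlgHom (M := nonZeroDivisors A) (f := Algebra.ofId A (FractionRing B))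
    (fun y => by
      have h1 : algebraMap A B y.1 ∈ nonZeroDivisors B :=
        algebraMap_mem_nonZeroDivisors_of_flat A B y.2
      have : Algebra.ofId A (FractionRing B) y.1 =
          algebraMap B (FractionRing B) (algebraMap A B y.1) :=
        IsScalarTower.algebraMap_apply A B (FractionRing B) y.1
      rw [this]
      exact IsLocalization.map_units (FractionRing B) ⟨_, h1⟩)

/-- the comparison map `B ⊗ A' → Frac B` -/
noncomputable def mu : B ⊗[A] (integralClosure A (FractionRing A)) →ₐ[B] FractionRing B :=
  Algebra.TensorProduct.lift (Algebra.ofId B (FractionRing B))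
    ((fracMap A B).comp (integralClosure A (FractionRing A)).val) (fun _ _ => Commute.all _ _)

theorem mu_tmul (b : B) (x : integralClosure A (FractionRing A)) :
    mu A B (b ⊗ₜ[A] x) = algebraMap B (FractionRing B) b * fracMap A B (x : FractionRing A) := by
  simp [mu]

end Mu

end Part3

section Part4

section MuInj

variable (A B : Type u) [CommRing A] [CommRing B] [Algebra A B] [Module.Flat A B]

theorem fracMap_algebraMap (a : A) :
    fracMap A B (algebraMap A (FractionRing A) a) =
      algebraMap B (FractionRing B) (algebraMap A B a) := by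
  rw [AlgHom.commutes]
  exact IsScalarTower.algebraMap_apply A B (FractionRing B) a

/-- a nonzerodivisor of `A` acts injectively on `B ⊗ A'` -/
theorem smul_injective_tensor {c : A} (hc : c ∈ nonZeroDivisors A)
    (x : B ⊗[A] (integralClosure A (FractionRing A))) (hx : c • x = 0) : x = 0 := by
  have hinj : Function.Injective
      (LinearMap.lsmul A (integralClosure A (FractionRing A)) c) := by
    rw [injective_iff_map_eq_zero]
    intro y hy
    have h1 : algebraMap A (FractionRing A) c * (y : FractionRing A) = 0 := by
      have := congrArg Subtype.val hy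
      simpa [Algebra.smul_def] using this
    have hu : IsUnit (algebraMap A (FractionRing A) c) :=
      IsLocalization.map_units (FractionRing A) ⟨c, hc⟩
    exact Subtype.ext (hu.mul_right_eq_zero.mp h1)
  have h2 := Module.Flat.lTensor_preserves_injective_linearMap (M := B) _ hinj
  have h3 : ∀ z : B ⊗[A] (integralClosure A (FractionRing A)),
      LinearMap.lTensor B (LinearMap.lsmul A (integralClosure A (FractionRing A)) c) z
      = c • z := by
    intro z
    induction z with
    | zero => simp
    | tmul b y => simp [TensorProduct.tmul_smul]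
    | add x y hx hy => rw [map_add, hx, hy, smul_add]
  apply h2
  rw [h3, hx, map_zero]

variable [Module.Finite A (integralClosure A (FractionRing A))]

theorem mu_injective : Function.Injective (mu A B) := by
  obtain ⟨c, hc, hcx⟩ := exists_conductor A
  rw [injective_iff_map_eq_zero]
  intro x hx
  have key : ∀ t : B ⊗[A] (integralClosure A (FractionRing A)),
      ∃ b : B, c • t = b ⊗ₜ[A] (1 : integralClosure A (FractionRing A)) := by
    intro t
    induction t with
    | zero => exact ⟨0, by simp⟩
    | tmul b y =>
      obtain ⟨a, ha⟩ := hcx y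
      refine ⟨a • b, ?_⟩
      rw [TensorProduct.smul_tmul', TensorProduct.smul_tmul, ha, Algebra.algebraMap_eq_smul_one,
        ← TensorProduct.smul_tmul]
    | add t₁ t₂ h₁ h₂ =>
      obtain ⟨b₁, hb₁⟩ := h₁
      obtain ⟨b₂, hb₂⟩ := h₂
      exact ⟨b₁ + b₂, by rw [smul_add, hb₁, hb₂, TensorProduct.add_tmul]⟩
  obtain ⟨b₀, hb₀⟩ := key x
  have h1 : mu A B (c • x) = 0 := by
    rw [← algebraMap_smul B c x, map_smul, hx, smul_zero]
  rw [hb₀, mu_tmul] at h1
  have h2 : fracMap A B ((1 : integralClosure A (FractionRing A)) : FractionRing A) = 1 := by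
    simp
  rw [h2, mul_one] at h1
  have h3 : b₀ = 0 := by
    apply IsFractionRing.injective B (FractionRing B)
    rw [h1, map_zero]
  rw [h3, TensorProduct.zero_tmul] at hb₀
  exact smul_injective_tensor A B hc x hb₀

theorem mu_isIntegral (t : B ⊗[A] (integralClosure A (FractionRing A))) :
    IsIntegral B (mu A B t) := by
  haveI : Algebra.IsIntegral B (B ⊗[A] (integralClosure A (FractionRing A))) :=
    Algebra.IsIntegral.of_finite B _
  exact (Algebra.IsIntegral.isIntegral (R := B) t).map (mu A B)

end MuInj

end Part4

section Part5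

section IC

/-- If `B → T ↪ L = Frac B` and all localizations of `T` at maximal ideals are normal domains,
then every element of `L` integral over `B` lies in the image of `T`. -/
theorem mem_range_of_isIntegral (B T L : Type*) [CommRing B] [CommRing T] [CommRing L]
    [Algebra B T] [Algebra B L] [IsLocalization (nonZeroDivisors B) L]
    (μ : T →ₐ[B] L) (hμ : Function.Injective μ)
    (hT : ∀ (M : Ideal T) [M.IsMaximal], IsDomain (Localization.AtPrime M) ∧
      IsIntegrallyClosed (Localization.AtPrime M))
    (x : L) (hx : IsIntegral B x) : x ∈ μ.range := by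
  classical
  obtain ⟨b, s, rfl⟩ := IsLocalization.exists_mk'_eq (nonZeroDivisors B) x
  -- the denominator ideal
  let D : Ideal T :=
    { carrier := {t | μ t * IsLocalization.mk' L b s ∈ μ.range}
      add_mem' := by
        intro t₁ t₂ h₁ h₂
        simp only [Set.mem_setOf_eq] at h₁ h₂ ⊢
        rw [map_add, add_mul]
        exact add_mem h₁ h₂
      zero_mem' := by
        simp only [Set.mem_setOf_eq, map_zero, zero_mul]
        exact zero_mem _
      smul_mem' := by
        intro c t ht
        simp only [Set.mem_setOf_eq, smul_eq_mul] at ht ⊢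
        rw [map_mul, mul_assoc]
        exact mul_mem ⟨c, rfl⟩ ht }
  by_cases hD : D = ⊤
  · have h1 : (1 : T) ∈ D := by rw [hD]; trivial
    have h2 : μ 1 * IsLocalization.mk' L b s ∈ μ.range := h1
    rwa [map_one, one_mul] at h2
  exfalso
  obtain ⟨M, hM, hDM⟩ := Ideal.exists_le_maximal D hD
  obtain ⟨hdom, hic⟩ := hT M
  let TM := Localization.AtPrime M
  let K := FractionRing TM
  let g' : B →+* TM := (algebraMap T TM).comp (algebraMap B T)
  let g : B →+* K := (algebraMap TM K).comp g'
  -- the image of `s` in `T` is a nonzerodivisor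
  have hunit : ∀ y : nonZeroDivisors B, IsUnit (algebraMap B L y.1) := fun y =>
    IsLocalization.map_units L y
  have hsT : ∀ y : nonZeroDivisors B, algebraMap B T y.1 ∈ nonZeroDivisors T := by
    intro y
    rw [mem_nonZeroDivisors_iff_right]
    intro t ht
    apply hμ
    have h1 : μ t * algebraMap B L y.1 = 0 := by
      have := congrArg μ ht
      rwa [map_mul, AlgHom.commutes, map_zero] at this
    rw [map_zero]
    exact (hunit y).mul_left_eq_zero.mp h1
  have hgunit : ∀ y : nonZeroDivisors B, IsUnit (g y.1) := by
    intro y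
    have h1 : algebraMap T TM (algebraMap B T y.1) ∈ nonZeroDivisors TM :=
      IsLocalization.map_nonZeroDivisors_le M.primeCompl TM
        (Submonoid.mem_map_of_mem _ (hsT y))
    have h2 : algebraMap TM K (algebraMap T TM (algebraMap B T y.1)) ≠ 0 := by
      intro h0
      have := (IsFractionRing.injective TM K) (h0.trans (map_zero _).symm)
      exact nonZeroDivisors.ne_zero h1 this
    exact isUnit_iff_ne_zero.mpr h2
  let ν : L →+* K := IsLocalization.lift (M := nonZeroDivisors B) (g := g) hgunit
  have hν : ∀ a : B, ν (algebraMap B L a) = g a := fun a => IsLocalization.lift_eq _ a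
  -- `ν x` is integral over `TM`
  obtain ⟨p, hp, hpx⟩ := hx
  have hint : IsIntegral TM (ν (IsLocalization.mk' L b s)) := by
    refine ⟨p.map g', hp.map g', ?_⟩
    rw [Polynomial.eval₂_map]
    have h1 := congrArg ν hpx
    rw [Polynomial.hom_eval₂, map_zero] at h1
    have h2 : ν.comp (algebraMap B L) = g := RingHom.ext hν
    rw [h2] at h1
    exact h1
  obtain ⟨y, hy⟩ := (IsIntegrallyClosed.isIntegral_iff (R := TM) (K := K)).mp hint
  obtain ⟨t, u, rfl⟩ := IsLocalization.exists_mk'_eq M.primeCompl y
  -- `y * σ = β` in `TM`
  have h3 : IsLocalization.mk' L b s * algebraMap B L s.1 = algebraMap B L b :=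
    IsLocalization.mk'_spec L b s
  have h4 : algebraMap TM K (IsLocalization.mk' TM t u) * g s.1 = g b := by
    rw [hy, ← hν, ← hν, ← map_mul, h3]
  have h5 : IsLocalization.mk' TM t u * g' s.1 = g' b := by
    apply IsFractionRing.injective TM K
    rw [map_mul]
    exact h4
  have h6 : algebraMap T TM (t * algebraMap B T s.1) = algebraMap T TM (algebraMap B T b * u.1) := by
    have h7 : algebraMap T TM t = IsLocalization.mk' TM t u * algebraMap T TM u.1 :=
      (IsLocalization.mk'_spec TM t u).symm
    rw [map_mul, map_mul, h7]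
    have h8 : g' s.1 = algebraMap T TM (algebraMap B T s.1) := rfl
    have h9 : g' b = algebraMap T TM (algebraMap B T b) := rfl
    rw [← h8, ← h9, ← h5]
    ring
  obtain ⟨v, hv⟩ := (IsLocalization.eq_iff_exists M.primeCompl TM).mp h6
  -- so `v * u ∈ D`
  have h10 : v.1 * u.1 ∈ D := by
    show μ (v.1 * u.1) * IsLocalization.mk' L b s ∈ μ.range
    refine ⟨v.1 * t, ?_⟩
    have h11 := congrArg μ hv
    simp only [map_mul, AlgHom.commutes] at h11 ⊢
    -- h11 : μ v * (μ t * s) = μ v * (b * μ u)
    have h12 : IsUnit (algebraMap B L s.1) := hunit s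
    apply h12.mul_left_injective
    show μ v.1 * μ t * algebraMap B L s.1 =
      μ v.1 * μ u.1 * IsLocalization.mk' L b s * algebraMap B L s.1
    rw [mul_assoc (μ v.1 * μ u.1), h3, mul_assoc, h11]
    ring
  have h13 : v.1 * u.1 ∈ M := hDM h10
  rcases (Ideal.IsPrime.mem_or_mem inferInstance h13) with h | h
  · exact v.2 h
  · exact u.2 h

end IC

end Part5

section Part6

section Chain

variable (A B : Type u) [CommRing A] [CommRing B] [IsLocalRing A] [IsLocalRing B]
    [Algebra A B] [Module.Flat A B]

theorem deltaInv_eq_of_flat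
    (hm : (maximalIdeal A).map (algebraMap A B) = maximalIdeal B)
    [Module.Finite A (integralClosure A (FractionRing A))]
    (hfin : Curv2.deltaInv A ≠ ⊤)
    (hT : ∀ (M : Ideal (B ⊗[A] (integralClosure A (FractionRing A)))) [M.IsMaximal],
      IsDomain (Localization.AtPrime M) ∧ IsIntegrallyClosed (Localization.AtPrime M)) :
    Curv2.deltaInv B = Curv2.deltaInv A := by
  classical
  let A' := integralClosure A (FractionRing A)
  let T := B ⊗[A] A'
  let B' := integralClosure B (FractionRing B)
  let Q := A' ⧸ LinearMap.range (Algebra.linearMap A A')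
  -- step 1: `μ` is a bijection onto `B'`
  let μ' : T →ₗ[B] B' :=
    (mu A B).toLinearMap.codRestrict (Subalgebra.toSubmodule B') (fun t => mu_isIntegral A B t)
  have hμ' : ∀ t, ((μ' t : B') : FractionRing B) = mu A B t := fun t => rfl
  have hbij : Function.Bijective μ' := by
    constructor
    · intro t₁ t₂ h
      apply mu_injective A B
      rw [← hμ', ← hμ', h]
    · intro x
      obtain ⟨t, ht⟩ := mem_range_of_isIntegral B T (FractionRing B) (mu A B) (mu_injective A B)
        hT x.1 x.2
      exact ⟨t, Subtype.ext ht⟩
  let e : T ≃ₗ[B] B' := LinearEquiv.ofBijective μ' hbij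
  have he : ∀ b : B, e (algebraMap B T b) = algebraMap B B' b := by
    intro b
    apply Subtype.ext
    show mu A B (algebraMap B T b) = _
    rw [AlgHom.commutes]
    rfl
  -- step 2
  have hmap : (LinearMap.range (Algebra.linearMap B T)).map (e : T →ₗ[B] B') =
      LinearMap.range (Algebra.linearMap B B') := by
    ext x
    constructor
    · rintro ⟨t, ⟨b, rfl⟩, rfl⟩
      exact ⟨b, (he b).symm⟩
    · rintro ⟨b, rfl⟩
      exact ⟨algebraMap B T b, ⟨b, rfl⟩, he b⟩
  let e1 := Submodule.Quotient.equiv _ _ e hmap
  -- step 3
  let q : T →ₗ[B] B ⊗[A] Q :=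
    LinearMap.baseChange B (Submodule.mkQ (LinearMap.range (Algebra.linearMap A A')))
  have hq : Function.Surjective q := by
    show Function.Surjective (LinearMap.baseChange B
      (Submodule.mkQ (LinearMap.range (Algebra.linearMap A A'))))
    rw [LinearMap.baseChange_eq_ltensor]
    exact LinearMap.lTensor_surjective _ (Submodule.mkQ_surjective _)
  have hker : LinearMap.ker q = LinearMap.range (Algebra.linearMap B T) := by
    ext z
    constructor
    · intro hz
      have hex : Function.Exact (LinearMap.lTensor B (Algebra.linearMap A A'))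
          (LinearMap.lTensor B (Submodule.mkQ (LinearMap.range (Algebra.linearMap A A')))) := by
        apply lTensor_exact B _ (Submodule.mkQ_surjective _)
        exact LinearMap.exact_map_mkQ_range (Algebra.linearMap A A')
      have hz' : LinearMap.lTensor B
          (Submodule.mkQ (LinearMap.range (Algebra.linearMap A A'))) z = 0 := by
        have : q z = 0 := hz
        rw [← this]
        rfl
      obtain ⟨w, hw⟩ := (hex z).mp hz'
      -- every `w : B ⊗[A] A` is `b ⊗ 1`
      have hw1 : ∃ b : B, w = b ⊗ₜ[A] (1 : A) := by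
        refine ⟨TensorProduct.rid A B w, ?_⟩
        have := (TensorProduct.rid A B).symm_apply_apply w
        rw [TensorProduct.rid_symm_apply] at this
        exact this.symm
      obtain ⟨b, rfl⟩ := hw1
      refine ⟨b, ?_⟩
      rw [← hw]
      show algebraMap B (B ⊗[A] A') b = _
      rw [Algebra.TensorProduct.algebraMap_apply, LinearMap.lTensor_tmul]
      simp
    · rintro ⟨b, rfl⟩
      show q (algebraMap B T b) = 0
      have h1 : algebraMap B T b = b ⊗ₜ[A] (1 : A') := by
        rw [Algebra.TensorProduct.algebraMap_apply]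
        simp
      rw [h1]
      show b ⊗ₜ[A] (Submodule.mkQ (LinearMap.range (Algebra.linearMap A A')) (1 : A')) = 0
      have h2 : Submodule.mkQ (LinearMap.range (Algebra.linearMap A A')) (1 : A') = 0 := by
        rw [Submodule.mkQ_apply, Submodule.Quotient.mk_eq_zero]
        exact ⟨1, by simp⟩
      rw [h2, TensorProduct.tmul_zero]
  let e2 : (T ⧸ LinearMap.ker q) ≃ₗ[B] B ⊗[A] Q := q.quotKerEquivOfSurjective hq
  have hQ : IsFiniteLength A Q := Module.length_ne_top_iff.mp hfin
  show Module.length B (B' ⧸ LinearMap.range (Algebra.linearMap B B')) = Module.length A Q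
  rw [← length_baseChange_eq hm Q hQ]
  exact LinearEquiv.length_eq (e1.symm.trans ((Submodule.quotEquivOfEq _ _ hker.symm).trans e2))

end Chain

end Part6

section Part7

open Groth.Agent.Lib.R2H1.BrCompl Groth.Agent.Lib.R2H1.Wedge

section Transport

/-- Transport of "localization at a maximal ideal is a normal domain" along a ring isomorphism. -/
theorem normal_localization_of_ringEquiv_maximal {R R' : Type*} [CommRing R]
    [CommRing R'] (ψ : R ≃+* R') (p : Ideal R) [hp : p.IsMaximal]
    (h : ∀ (P : Ideal R') [P.IsMaximal],
      IsDomain (Localization.AtPrime P) ∧ IsIntegrallyClosed (Localization.AtPrime P)) :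
    IsDomain (Localization.AtPrime p) ∧ IsIntegrallyClosed (Localization.AtPrime p) := by
  let P : Ideal R' := p.map ψ
  haveI hP : P.IsMaximal := Ideal.map_isMaximal_of_equiv ψ
  obtain ⟨h1, h2⟩ := h P
  have hmap : p.primeCompl.map ψ.toMonoidHom = P.primeCompl := by
    ext y
    simp only [Submonoid.mem_map, Ideal.mem_primeCompl_iff]
    constructor
    · rintro ⟨x, hx, rfl⟩ hy
      apply hx
      have := (Ideal.mem_map_of_equiv ψ (ψ x)).mp hy
      obtain ⟨z, hz, hzx⟩ := this
      rwa [← ψ.injective hzx]
    · intro hy
      refine ⟨ψ.symm y, fun h => hy ?_, ψ.apply_symm_apply y⟩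
      have := Ideal.mem_map_of_mem ψ h
      simpa using this
  let e : Localization.AtPrime p ≃+* Localization.AtPrime P :=
    IsLocalization.ringEquivOfRingEquiv (Localization.AtPrime p) (Localization.AtPrime P) ψ hmap
  haveI := h1
  haveI := h2
  exact ⟨e.toMulEquiv.isDomain (Localization.AtPrime P), IsIntegrallyClosed.of_equiv e.symm⟩

end Transport

section TensorNormal

theorem isNoetherianRing_tensor_left (A N S : Type u) [CommRing A] [CommRing N] [Algebra A N]
    [Module.Finite A N] [CommRing S] [Algebra A S] [IsNoetherianRing S] :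
    IsNoetherianRing (N ⊗[A] S) := by
  haveI : IsNoetherianRing (S ⊗[A] N) := Algebra.FiniteType.isNoetherianRing S _
  exact isNoetherianRing_of_ringEquiv _ (Algebra.TensorProduct.comm A N S).symm.toRingEquiv

/-- The local condition (N') implies that `N ⊗ S` is a DVR at each maximal ideal. -/
theorem normal_localization_tensor_generic (A N S : Type u) [CommRing A] [IsLocalRing A]
    [Ring.KrullDimLE 1 A] [CommRing N] [Algebra A N] [IsNoetherianRing N] [Algebra.IsIntegral A N]
    (a : A) (ham : a ∈ maximalIdeal A) (ha : algebraMap A N a ∈ nonZeroDivisors N)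
    (hnorm : ∀ (P : Ideal N) [P.IsPrime],
      IsDomain (Localization.AtPrime P) ∧ IsIntegrallyClosed (Localization.AtPrime P))
    [CommRing S] [Algebra A S] [Module.Flat A S] [IsNoetherianRing (N ⊗[A] S)]
    (M : Ideal (N ⊗[A] S)) [M.IsMaximal]
    (hmax : (M.comap (algebraMap N (N ⊗[A] S))).IsMaximal)
    (hloc : ∀ t ∈ M, ∃ u, u ∉ M ∧ u * t ∈
      (M.comap (algebraMap N (N ⊗[A] S))).map (algebraMap N (N ⊗[A] S))) :
    IsDomain (Localization.AtPrime M) ∧ IsIntegrallyClosed (Localization.AtPrime M) := by
  haveI := hmax
  obtain ⟨hd, hic⟩ := hnorm (M.comap (algebraMap N (N ⊗[A] S)))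
  haveI := hd
  haveI := hic
  obtain ⟨π', hπ0, hπ⟩ := exists_generator_maximalIdeal_localization A N a ham ha
    (M.comap (algebraMap N (N ⊗[A] S)))
  obtain ⟨hD, hDVR⟩ := isDVR_localization_of_flat_of_principal N (N ⊗[A] S) M
    (M.comap (algebraMap N (N ⊗[A] S))) rfl hloc π' hπ0 hπ
  exact ⟨hD, inferInstance⟩

end TensorNormal

section Final

variable (A B : Type u) [CommRing A] [IsLocalRing A] [IsNoetherianRing A] [IsReduced A]
  [CommRing B] [IsLocalRing B] [Algebra A B] [Module.Flat A B] [IsNoetherianRing B]

/-- The general base change theorem for the δ-invariant. -/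
theorem deltaInv_eq_of_localCond (hdim : ringKrullDim A = 1)
    (hm : (maximalIdeal A).map (algebraMap A B) = maximalIdeal B)
    [Module.Finite A (integralClosure A (FractionRing A))]
    (hfin : Curv2.deltaInv A ≠ ⊤)
    (hloc : ∀ (N : Type u) [CommRing N] [Algebra A N] [Module.Finite A N]
      (M : Ideal (N ⊗[A] B)) [M.IsMaximal],
      (M.comap (algebraMap N (N ⊗[A] B))).IsMaximal ∧
      ∀ t ∈ M, ∃ u, u ∉ M ∧ u * t ∈
        (M.comap (algebraMap N (N ⊗[A] B))).map (algebraMap N (N ⊗[A] B))) :
    Curv2.deltaInv B = Curv2.deltaInv A := by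
  haveI : Algebra.IsIntegral A (integralClosure A (FractionRing A)) :=
    Algebra.IsIntegral.of_finite A _
  haveI : IsNoetherianRing (integralClosure A (FractionRing A)) :=
    Algebra.FiniteType.isNoetherianRing A _
  haveI := isNoetherianRing_tensor_left A (integralClosure A (FractionRing A)) B
  haveI : Ring.KrullDimLE 1 A := Ring.krullDimLE_iff.mpr (by rw [hdim]; rfl)
  obtain ⟨a, ham, ha⟩ := exists_nzd_mem_maximalIdeal A hdim
  have ha' := algebraMap_integralClosure_mem_nonZeroDivisors A a ha
  apply deltaInv_eq_of_flat A B hm hfin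
  intro M hM
  exact normal_localization_of_ringEquiv_maximal
    (Algebra.TensorProduct.comm A B (integralClosure A (FractionRing A))).toRingEquiv M
    (fun P hP => normal_localization_tensor_generic A (integralClosure A (FractionRing A)) B
      a ham ha' (fun Q _ => normal_localization_integralClosure A Q) P
      (hloc (integralClosure A (FractionRing A)) P).1
      (hloc (integralClosure A (FractionRing A)) P).2)

end Final

end Part7

section Part8

open Groth.Agent.Lib.Helper3.IndEt

section LemmaU

/-- For an ind-étale (in the sense of the factorization property) `R`-algebra `T` and a prime `M`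
of `T` over `P`, every element of `M` is, up to an element outside `M`, in `P T`. -/
theorem exists_mul_mem_map_of_factor {R T : Type u} [CommRing R] [CommRing T] [Algebra R T]
    (H : Obj.Factor R T) (M : Ideal T) [M.IsPrime] (t : T) (ht : t ∈ M) :
    ∃ u, u ∉ M ∧ u * t ∈ (M.comap (algebraMap R T)).map (algebraMap R T) := by
  classical
  let ψ : Polynomial R →ₐ[R] T := Polynomial.aeval t
  obtain ⟨E, _, _, _, f, g, hfg⟩ := H (Polynomial R) ψ
  let e₀ : E := f Polynomial.X
  have he₀ : g e₀ = t := by
    have := congrArg (fun φ : Polynomial R →ₐ[R] T => φ Polynomial.X) hfg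
    simpa [ψ] using this
  let P : Ideal R := M.comap (algebraMap R T)
  let Q : Ideal E := M.comap g.toRingHom
  haveI hQ : Q.IsPrime := Ideal.comap_isPrime _ _
  haveI hP : P.IsPrime := Ideal.comap_isPrime _ _
  haveI hQP : Q.LiesOver P := ⟨by
    show P = Q.comap (algebraMap R E)
    ext r
    show algebraMap R T r ∈ M ↔ g (algebraMap R E r) ∈ M
    rw [AlgHom.commutes]⟩
  letI := Localization.AtPrime.algebraOfLiesOver P Q
  haveI : Algebra.FormallyUnramified R (Localization.AtPrime Q) :=
    Algebra.FormallyUnramified.comp R E (Localization.AtPrime Q)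
  have h1 : P.map (algebraMap R (Localization.AtPrime Q)) = maximalIdeal (Localization.AtPrime Q) :=
    ((Algebra.isUnramifiedAt_iff_map_eq R P Q).mp inferInstance).2
  have h2 : algebraMap E (Localization.AtPrime Q) e₀ ∈
      (P.map (algebraMap R E)).map (algebraMap E (Localization.AtPrime Q)) := by
    rw [Ideal.map_map, ← IsScalarTower.algebraMap_eq, h1]
    have he₀Q : e₀ ∈ Q := by
      show g e₀ ∈ M
      rw [he₀]; exact ht
    rw [← Localization.AtPrime.map_eq_maximalIdeal]
    exact Ideal.mem_map_of_mem _ he₀Q
  obtain ⟨⟨i, s⟩, his⟩ := (IsLocalization.mem_map_algebraMap_iff Q.primeCompl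
    (Localization.AtPrime Q)).mp h2
  rw [← map_mul] at his
  obtain ⟨c, hc⟩ := (IsLocalization.eq_iff_exists Q.primeCompl (Localization.AtPrime Q)).mp his
  refine ⟨g (c.1 * s.1), ?_, ?_⟩
  · intro hmem
    have : c.1 * s.1 ∈ Q := hmem
    rcases hQ.mem_or_mem this with h | h
    · exact c.2 h
    · exact s.2 h
  · have h3 : g (c.1 * s.1) * t = g (c.1 * i.1) := by
      rw [← he₀, ← map_mul]
      congr 1
      simp only at hc
      rw [mul_assoc, mul_comm s.1 e₀]
      exact hc
    rw [h3, map_mul]
    apply Ideal.mul_mem_left
    have h4 : g i.1 ∈ (P.map (algebraMap R E)).map g.toRingHom :=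
      Ideal.mem_map_of_mem _ i.2
    rw [Ideal.map_map] at h4
    have h5 : g.toRingHom.comp (algebraMap R E) = algebraMap R T := by
      ext r; exact g.commutes r
    rw [h5] at h4
    exact h4

end LemmaU

end Part8

section Part9

open Groth.Agent.Lib.Helper3.IndEt Groth.Agent.Lib.Helper3 Groth.Agent.Lib.Helper3.TensorLocal
open Groth.Agent.Lib.R2H1.BrCompl

section Cases

variable (A B : Type u) [CommRing A] [IsLocalRing A] [IsNoetherianRing A] [IsReduced A]
  [CommRing B] [IsLocalRing B] [Algebra A B] [Module.Flat A B] [IsNoetherianRing B]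

/-- residue-trivial case (henselization, completion) -/
theorem deltaInv_eq_of_hres (hdim : ringKrullDim A = 1)
    (hm : (maximalIdeal A).map (algebraMap A B) = maximalIdeal B)
    [Module.Finite A (integralClosure A (FractionRing A))]
    (hfin : Curv2.deltaInv A ≠ ⊤)
    (hres : ∀ s : B, ∃ a : A, s - algebraMap A B a ∈ maximalIdeal B) :
    Curv2.deltaInv B = Curv2.deltaInv A := by
  apply deltaInv_eq_of_localCond A B hdim hm hfin
  intro N _ _ _ M hM
  haveI : Algebra.IsIntegral A N := Algebra.IsIntegral.of_finite A N
  refine ⟨isMaximal_comap_algebraMap (B := N) hres M, fun t ht => ⟨1, ?_, ?_⟩⟩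
  · exact (Ideal.ne_top_iff_one M).mp hM.ne_top
  · rw [one_mul]
    exact le_map_comap_of_isMaximal hres (maximalIdeal A) hm.symm M ht

/-- ind-étale case (strict henselization) -/
theorem deltaInv_eq_of_isIndEtale [IsLocalHom (algebraMap A B)] (hdim : ringKrullDim A = 1)
    (hm : (maximalIdeal A).map (algebraMap A B) = maximalIdeal B)
    [Module.Finite A (integralClosure A (FractionRing A))]
    (hfin : Curv2.deltaInv A ≠ ⊤)
    (hind : EtPBC.IsIndEtale A B) :
    Curv2.deltaInv B = Curv2.deltaInv A := by
  apply deltaInv_eq_of_localCond A B hdim hm hfin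
  intro N _ _ _ M hM
  haveI : Algebra.IsIntegral A N := Algebra.IsIntegral.of_finite A N
  have H : Obj.Factor N (N ⊗[A] B) := factor_of_isIndEtale (Groth.Agent.S0733.result A B N hind)
  refine ⟨?_, fun t ht => exists_mul_mem_map_of_factor H M t ht⟩
  -- maximality of the contraction
  have h1 : (M.comap (Algebra.TensorProduct.includeRight : B →ₐ[A] N ⊗[A] B).toRingHom).IsMaximal :=
    Ideal.isMaximal_comap_of_isIntegral_of_isMaximal' _ includeRight_isIntegral M
  have h2 : M.comap (Algebra.TensorProduct.includeRight : B →ₐ[A] N ⊗[A] B).toRingHom =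
      maximalIdeal B := IsLocalRing.eq_maximalIdeal h1
  have h3 : (maximalIdeal B).comap (algebraMap A B) = maximalIdeal A :=
    ((IsLocalRing.local_hom_TFAE (algebraMap A B)).out 0 4).mp ‹IsLocalHom (algebraMap A B)›
  have h4 : (M.comap (algebraMap N (N ⊗[A] B))).comap (algebraMap A N) = maximalIdeal A := by
    rw [← h3, ← h2, Ideal.comap_comap, Ideal.comap_comap]
    congr 1
    ext a
    show algebraMap N (N ⊗[A] B) (algebraMap A N a) =
      (Algebra.TensorProduct.includeRight : B →ₐ[A] N ⊗[A] B) (algebraMap A B a)
    rw [AlgHom.commutes, ← IsScalarTower.algebraMap_apply]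
  haveI : (M.comap (algebraMap N (N ⊗[A] B))).IsPrime := Ideal.comap_isPrime _ _
  apply Ideal.isMaximal_of_isIntegral_of_isMaximal_comap (R := A)
  rw [h4]
  exact maximalIdeal.isMaximal A

end Cases

section Main

theorem main_7654 (A : Type u) [CommRing A] [IsLocalRing A]
    [IsReduced A] (hN : CAlg.IsNagata A) (hdim : ringKrullDim A = 1) :
    (∀ (B : Type u) [CommRing B] [IsLocalRing B] [Algebra A B] [IsLocalHom (algebraMap A B)],
        Hensel.IsHenselization A B → Curv2.deltaInv B = Curv2.deltaInv A) ∧
      (∀ (B : Type u) [CommRing B] [IsLocalRing B] [Algebra A B] [IsLocalHom (algebraMap A B)],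
        Hensel.IsStrictHenselization A B → Curv2.deltaInv B = Curv2.deltaInv A) ∧
      Curv2.deltaInv (Curv2.cpl A) = Curv2.deltaInv A := by
  haveI : IsNoetherianRing A := hN.1
  obtain ⟨hfin, -, hδ⟩ := Groth.Agent.S7652.result A hN hdim
  haveI := hfin
  refine ⟨?_, ?_, ?_⟩
  · intro B _ _ _ _ hB
    haveI := hB
    haveI : Module.FaithfullyFlat A B := HzP.hz_faithfullyFlat A B
    haveI : IsNoetherianRing B := HzP.hz_isNoetherianRing A B
    exact deltaInv_eq_of_hres A B hdim (HzP.hz_map_maximalIdeal A B) hδ.ne
      (HzP.hz_exists_sub_mem_maximalIdeal A B)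
  · intro B _ _ _ _ hB
    haveI := hB
    haveI : Module.FaithfullyFlat A B := HzP.sh_faithfullyFlat A B
    haveI : IsNoetherianRing B := HzP.sh_isNoetherianRing A B
    exact deltaInv_eq_of_isIndEtale A B hdim (HzP.sh_map_maximalIdeal A B) hδ.ne
      (isIndEtale_of_isStrictHenselization A B)
  · haveI : IsNoetherianRing (AdicCompletion (maximalIdeal A) A) :=
      Groth.Agent.Lib.Helper19.isNoetherianRing_adicCompletion _
    exact deltaInv_eq_of_hres A (AdicCompletion (maximalIdeal A) A) hdim
      AdicCompletion.maximalIdeal_eq_map.symm hδ.ne (hres_completion A)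

end Main

end Part9

end Groth.Agent.Lib.R2H1.DeltaBC
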