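/-
R2H1McRing (helper1): the multicross ring k[[T_1..T_n]]/(T_i T_j) as the ring of tuples of power series with common constant term: axis projections, kernel and range; minimal primes, delta invariant and cotangent dimension of any ring of that shape.
-/
import Mathlib
import Groth.Prelude.Def_Curv2

set_option autoImplicit false
set_option linter.style.haveILetI false
set_option linter.unusedSectionVars false
universe u

namespace Groth.Agent.Lib.R2H1.McRing

section Part1

open MvPowerSeries

section Proj

variable {σ : Type*} [DecidableEq σ] {k : Type*} [CommRing k]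

/-- restriction of a multivariate power series to the `i`-th coordinate axis (function) -/
noncomputable def projFun (i : σ) (f : MvPowerSeries σ k) : PowerSeries k :=
  PowerSeries.mk fun m => MvPowerSeries.coeff (Finsupp.single i m) f

theorem coeff_projFun (i : σ) (f : MvPowerSeries σ k) (m : ℕ) :
    PowerSeries.coeff m (projFun i f) = MvPowerSeries.coeff (Finsupp.single i m) f := by
  unfold projFun
  rw [PowerSeries.coeff_mk]

/-- restriction of a multivariate power series to the `i`-th coordinate axis -/
noncomputable def proj (i : σ) : MvPowerSeries σ k →+* PowerSeries k where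
  toFun f := projFun i f
  map_one' := by
    ext m
    rw [coeff_projFun, MvPowerSeries.coeff_one, PowerSeries.coeff_one]
    simp only [Finsupp.single_eq_zero]
  map_zero' := by
    ext m
    rw [coeff_projFun]
    simp
  map_add' f g := by
    ext m
    rw [map_add, coeff_projFun, coeff_projFun, coeff_projFun, map_add]
  map_mul' f g := by
    ext m
    rw [coeff_projFun, PowerSeries.coeff_mul (R := k) m (projFun i f) (projFun i g),
      MvPowerSeries.coeff_mul, Finsupp.antidiagonal_single, Finset.sum_map]
    refine Finset.sum_congr rfl ?_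
    intro p _
    rw [coeff_projFun, coeff_projFun]
    rfl

theorem coeff_proj (i : σ) (f : MvPowerSeries σ k) (m : ℕ) :
    PowerSeries.coeff m (proj i f) = MvPowerSeries.coeff (Finsupp.single i m) f := by
  exact coeff_projFun i f m

theorem constantCoeff_proj (i : σ) (f : MvPowerSeries σ k) :
    PowerSeries.constantCoeff (proj i f) = MvPowerSeries.constantCoeff f := by
  rw [← PowerSeries.coeff_zero_eq_constantCoeff_apply, coeff_proj, Finsupp.single_zero,
    MvPowerSeries.coeff_zero_eq_constantCoeff_apply]

theorem proj_C (i : σ) (c : k) : proj i (MvPowerSeries.C c : MvPowerSeries σ k) = PowerSeries.C c := by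
  ext m
  rw [coeff_proj, MvPowerSeries.coeff_C, PowerSeries.coeff_C]
  simp only [Finsupp.single_eq_zero]

theorem proj_X_of_ne {i j : σ} (h : i ≠ j) : proj i (MvPowerSeries.X j : MvPowerSeries σ k) = 0 := by
  ext m
  rw [coeff_proj, MvPowerSeries.coeff_X, map_zero, if_neg]
  intro h1
  rcases (Finsupp.single_eq_single_iff _ _ _ _).mp h1 with ⟨h2, -⟩ | ⟨-, h2⟩
  · exact h h2
  · exact one_ne_zero h2

theorem proj_X_self (i : σ) : proj i (MvPowerSeries.X i : MvPowerSeries σ k) = PowerSeries.X := by
  ext m
  rw [coeff_proj, MvPowerSeries.coeff_X, PowerSeries.coeff_X]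
  by_cases hm : m = 1
  · subst hm
    simp
  · rw [if_neg hm, if_neg]
    intro h1
    rcases (Finsupp.single_eq_single_iff _ _ _ _).mp h1 with ⟨-, h2⟩ | ⟨-, h2⟩
    · exact hm h2
    · exact one_ne_zero h2

/-- the product of all axis restrictions -/
noncomputable def Psi : MvPowerSeries σ k →+* (σ → PowerSeries k) :=
  Pi.ringHom (fun i => proj i)

theorem Psi_apply (f : MvPowerSeries σ k) (i : σ) : Psi f i = proj i f := rfl

theorem Psi_C (c : k) : Psi (MvPowerSeries.C c : MvPowerSeries σ k) = fun _ => PowerSeries.C c := by
  funext i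
  rw [Psi_apply, proj_C]

end Proj

end Part1

section Part2

open MvPowerSeries

section Ker

variable {σ : Type*} [DecidableEq σ] {k : Type*} [CommRing k]

/-- the ideal of the coordinate axes -/
noncomputable abbrev axesIdeal (σ : Type*) (k : Type*) [CommRing k] : Ideal (MvPowerSeries σ k) :=
  Ideal.span {f : MvPowerSeries σ k | ∃ i j : σ, i ≠ j ∧ f = MvPowerSeries.X i * MvPowerSeries.X j}

theorem axesIdeal_le_ker : axesIdeal σ k ≤ RingHom.ker (Psi : MvPowerSeries σ k →+* _) := by
  unfold axesIdeal
  rw [Ideal.span_le]
  rintro f ⟨i, j, hij, rfl⟩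
  rw [SetLike.mem_coe, RingHom.mem_ker]
  funext l
  rw [Psi_apply, map_mul]
  by_cases hl : l = i
  · subst hl
    rw [proj_X_of_ne hij, mul_zero]
    rfl
  · rw [proj_X_of_ne hl, zero_mul]
    rfl

/-- an exponent is "big" if its support contains two distinct variables -/
def Big (d : σ →₀ ℕ) : Prop := ∃ i j : σ, i ≠ j ∧ i ∈ d.support ∧ j ∈ d.support

theorem eq_single_of_not_big [Nonempty σ] (d : σ →₀ ℕ) (h : ¬ Big d) : ∃ i : σ, d = Finsupp.single i (d i) := by
  by_cases h0 : d = 0
  · obtain ⟨i⟩ := ‹Nonempty σ›
    refine ⟨i, ?_⟩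
    rw [h0]
    simp
  · obtain ⟨i, hi⟩ := Finsupp.support_nonempty_iff.mpr h0
    refine ⟨i, ?_⟩
    ext j
    by_cases hj : j = i
    · subst hj
      simp
    · rw [Finsupp.single_apply, if_neg (Ne.symm hj)]
      by_contra hne
      exact h ⟨i, j, Ne.symm hj, hi, Finsupp.mem_support_iff.mpr hne⟩

open Classical in
/-- a chosen pair of distinct variables in the support of a big exponent -/
noncomputable def pr [Inhabited σ] (d : σ →₀ ℕ) : σ × σ :=
  if h : Big d then (Classical.choose h, Classical.choose (Classical.choose_spec h)) else (default, default)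

theorem pr_spec [Inhabited σ] (d : σ →₀ ℕ) (h : Big d) :
    (pr d).1 ≠ (pr d).2 ∧ (pr d).1 ∈ d.support ∧ (pr d).2 ∈ d.support := by
  unfold pr
  rw [dif_pos h]
  exact Classical.choose_spec (Classical.choose_spec h)

/-- the sum of two distinct unit exponents -/
noncomputable def ss (i j : σ) : σ →₀ ℕ := Finsupp.single i 1 + Finsupp.single j 1

theorem ss_le_iff {i j : σ} (hij : i ≠ j) (d : σ →₀ ℕ) :
    ss i j ≤ d ↔ i ∈ d.support ∧ j ∈ d.support := by
  constructor
  · intro h
    have h1 := h i
    have h2 := h j
    unfold ss at h1 h2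
    rw [Finsupp.add_apply, Finsupp.single_eq_same, Finsupp.single_apply, if_neg (Ne.symm hij)] at h1
    rw [Finsupp.add_apply, Finsupp.single_eq_same, Finsupp.single_apply, if_neg hij] at h2
    rw [Finsupp.mem_support_iff, Finsupp.mem_support_iff]
    omega
  · rintro ⟨h1, h2⟩ l
    rw [Finsupp.mem_support_iff] at h1 h2
    unfold ss
    rw [Finsupp.add_apply, Finsupp.single_apply, Finsupp.single_apply]
    by_cases hl1 : i = l
    · subst hl1
      rw [if_pos rfl, if_neg (Ne.symm hij)]
      omega
    · rw [if_neg hl1]
      by_cases hl2 : j = l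
      · subst hl2
        rw [if_pos rfl]
        omega
      · rw [if_neg hl2]
        omega

theorem X_mul_X_eq_monomial (i j : σ) :
    (MvPowerSeries.X i * MvPowerSeries.X j : MvPowerSeries σ k) = MvPowerSeries.monomial (ss i j) 1 := by
  unfold ss
  rw [MvPowerSeries.X_def, MvPowerSeries.X_def, MvPowerSeries.monomial_mul_monomial, one_mul]

open Classical in
/-- the `(i,j)` part of `f`, divided by `X i * X j` -/
noncomputable def part [Inhabited σ] (f : MvPowerSeries σ k) (p : σ × σ) : MvPowerSeries σ k :=
  fun d => if pr (d + ss p.1 p.2) = p then MvPowerSeries.coeff (d + ss p.1 p.2) f else 0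

open Classical in
theorem coeff_part [Inhabited σ] (f : MvPowerSeries σ k) (p : σ × σ) (d : σ →₀ ℕ) :
    MvPowerSeries.coeff d (part f p) =
      if pr (d + ss p.1 p.2) = p then MvPowerSeries.coeff (d + ss p.1 p.2) f else 0 := rfl

open Classical in
theorem coeff_X_mul_X_mul_part [Inhabited σ] (f : MvPowerSeries σ k) (p : σ × σ) (e : σ →₀ ℕ) :
    MvPowerSeries.coeff e (MvPowerSeries.X p.1 * MvPowerSeries.X p.2 * part f p) =
      if ss p.1 p.2 ≤ e ∧ pr e = p then MvPowerSeries.coeff e f else 0 := by
  rw [X_mul_X_eq_monomial, MvPowerSeries.coeff_monomial_mul]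
  by_cases h : ss p.1 p.2 ≤ e
  · rw [if_pos h, one_mul, coeff_part, tsub_add_cancel_of_le h]
    by_cases h2 : pr e = p
    · rw [if_pos h2, if_pos ⟨h, h2⟩]
    · rw [if_neg h2, if_neg (fun hh => h2 hh.2)]
  · rw [if_neg h, if_neg (fun hh => h hh.1)]

open Classical in
theorem mem_axesIdeal_of_coeff [Fintype σ] [Nonempty σ] (f : MvPowerSeries σ k)
    (hf : ∀ (i : σ) (m : ℕ), MvPowerSeries.coeff (Finsupp.single i m) f = 0) :
    f ∈ axesIdeal σ k := by
  obtain ⟨i₀⟩ := ‹Nonempty σ›
  letI : Inhabited σ := ⟨i₀⟩
  have hsum : f = ∑ p ∈ (Finset.univ : Finset (σ × σ)).filter (fun p => p.1 ≠ p.2),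
      MvPowerSeries.X p.1 * MvPowerSeries.X p.2 * part f p := by
    ext e
    rw [map_sum]
    simp only [coeff_X_mul_X_mul_part]
    by_cases hB : Big e
    · obtain ⟨h1, h2, h3⟩ := pr_spec e hB
      rw [Finset.sum_eq_single (pr e)]
      · rw [if_pos ⟨(ss_le_iff h1 e).mpr ⟨h2, h3⟩, rfl⟩]
      · intro p _ hp
        rw [if_neg (fun hh => hp hh.2.symm)]
      · intro hp
        exfalso
        exact hp (Finset.mem_filter.mpr ⟨Finset.mem_univ _, h1⟩)
    · obtain ⟨i, hi⟩ := eq_single_of_not_big e hB
      rw [hi, hf]
      symm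
      refine Finset.sum_eq_zero ?_
      intro p hp
      rw [Finset.mem_filter] at hp
      rw [if_neg]
      rintro ⟨h1, -⟩
      rw [← hi] at h1
      obtain ⟨h2, h3⟩ := (ss_le_iff hp.2 e).mp h1
      exact hB ⟨p.1, p.2, hp.2, h2, h3⟩
  rw [hsum]
  refine Ideal.sum_mem _ ?_
  intro p hp
  rw [Finset.mem_filter] at hp
  refine Ideal.mul_mem_right _ _ ?_
  exact Ideal.subset_span ⟨p.1, p.2, hp.2, rfl⟩

theorem ker_Psi [Fintype σ] [Nonempty σ] :
    RingHom.ker (Psi : MvPowerSeries σ k →+* _) = axesIdeal σ k := by
  refine le_antisymm ?_ axesIdeal_le_ker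
  intro f hf
  rw [RingHom.mem_ker] at hf
  refine mem_axesIdeal_of_coeff f ?_
  intro i m
  rw [← coeff_proj, ← Psi_apply, hf]
  simp

end Ker

section Range

variable {σ : Type*} [DecidableEq σ] {k : Type*} [CommRing k]

/-- tuples of power series with a common constant term -/
def commonConst (σ : Type*) (k : Type*) [CommRing k] : Set (σ → PowerSeries k) :=
  {f | ∀ i j : σ, PowerSeries.constantCoeff (f i) = PowerSeries.constantCoeff (f j)}

open Classical in
/-- gluing one-variable series with a common constant term along the axes -/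
noncomputable def glue (v : σ → PowerSeries k) : MvPowerSeries σ k :=
  fun d => if h : ∃ i : σ, d = Finsupp.single i (d i) then
    PowerSeries.coeff (d (Classical.choose h)) (v (Classical.choose h)) else 0

theorem proj_glue (v : σ → PowerSeries k) (hv : v ∈ commonConst σ k) (i : σ) :
    proj i (glue v) = v i := by
  classical
  ext m
  rw [coeff_proj]
  have h : ∃ l : σ, Finsupp.single i m = Finsupp.single l ((Finsupp.single i m) l) :=
    ⟨i, by rw [Finsupp.single_eq_same]⟩
  show (glue v) (Finsupp.single i m) = _
  unfold glue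
  rw [dif_pos h]
  have hs := Classical.choose_spec h
  set l := Classical.choose h
  by_cases hm : m = 0
  · subst hm
    rw [Finsupp.single_zero, Finsupp.zero_apply, PowerSeries.coeff_zero_eq_constantCoeff_apply,
      PowerSeries.coeff_zero_eq_constantCoeff_apply]
    exact hv l i
  · rcases (Finsupp.single_eq_single_iff _ _ _ _).mp hs with ⟨h2, -⟩ | ⟨h2, -⟩
    · rw [← h2, Finsupp.single_eq_same]
    · exact absurd h2 hm

theorem range_Psi : Set.range (Psi : MvPowerSeries σ k →+* _) = commonConst σ k := by
  ext v
  constructor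
  · rintro ⟨f, rfl⟩ i j
    rw [Psi_apply, Psi_apply, constantCoeff_proj, constantCoeff_proj]
  · intro hv
    refine ⟨glue v, ?_⟩
    funext i
    rw [Psi_apply, proj_glue v hv]

end Range

end Part2

section Part3

open MvPowerSeries

section Quot

variable {σ : Type*} [DecidableEq σ] {k : Type*} [CommRing k]

/-- the induced map from the quotient by the axes ideal -/
noncomputable def psi : (MvPowerSeries σ k ⧸ axesIdeal σ k) →+* (σ → PowerSeries k) :=
  Ideal.Quotient.lift (axesIdeal σ k) Psi (fun f hf => by
    rw [← RingHom.mem_ker]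
    exact axesIdeal_le_ker hf)

theorem psi_mk (f : MvPowerSeries σ k) : psi (Ideal.Quotient.mk (axesIdeal σ k) f) = Psi f := rfl

theorem psi_injective [Fintype σ] [Nonempty σ] :
    Function.Injective (psi : (MvPowerSeries σ k ⧸ axesIdeal σ k) →+* _) := by
  rw [injective_iff_map_eq_zero]
  intro x hx
  obtain ⟨f, rfl⟩ := Ideal.Quotient.mk_surjective x
  rw [psi_mk, ← RingHom.mem_ker, ker_Psi] at hx
  exact Ideal.Quotient.eq_zero_iff_mem.mpr hx

theorem range_psi : Set.range (psi : (MvPowerSeries σ k ⧸ axesIdeal σ k) →+* _) = commonConst σ k := by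
  rw [← range_Psi]
  ext v
  constructor
  · rintro ⟨x, rfl⟩
    obtain ⟨f, rfl⟩ := Ideal.Quotient.mk_surjective x
    exact ⟨f, rfl⟩
  · rintro ⟨f, rfl⟩
    exact ⟨Ideal.Quotient.mk _ f, rfl⟩

theorem psi_C (c : k) :
    psi (Ideal.Quotient.mk (axesIdeal σ k) (MvPowerSeries.C c)) = fun _ => PowerSeries.C c := by
  rw [psi_mk, Psi_C]

end Quot

section Basic

variable {k : Type*} [Field k] {ι : Type*} [Fintype ι] [DecidableEq ι] [Nonempty ι]
  {R : Type*} [CommRing R] (φ : R →+* (ι → PowerSeries k))

theorem exists_of_common (hrange : Set.range φ = commonConst ι k) (v : ι → PowerSeries k)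
    (hv : v ∈ commonConst ι k) : ∃ r, φ r = v := by
  rw [← hrange] at hv
  exact hv

theorem const_eq (hrange : Set.range φ = commonConst ι k) (r : R) (i j : ι) :
    PowerSeries.constantCoeff (φ r i) = PowerSeries.constantCoeff (φ r j) := by
  have h : φ r ∈ commonConst ι k := by
    rw [← hrange]
    exact ⟨r, rfl⟩
  exact h i j

/-- the augmentation -/
noncomputable def eps : R →+* k :=
  (PowerSeries.constantCoeff (R := k)).comp
    ((Pi.evalRingHom (fun _ : ι => PowerSeries k) (Classical.arbitrary ι)).comp φ)

theorem eps_eq (hrange : Set.range φ = commonConst ι k) (r : R) (i : ι) :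
    PowerSeries.constantCoeff (φ r i) = eps φ r :=
  const_eq φ hrange r i _

theorem exists_const (hrange : Set.range φ = commonConst ι k) (c : k) :
    ∃ r, φ r = fun _ => PowerSeries.C c :=
  exists_of_common φ hrange _ (fun _ _ => rfl)

theorem eps_surjective (hrange : Set.range φ = commonConst ι k) : Function.Surjective (eps φ) := by
  intro c
  obtain ⟨r, hr⟩ := exists_const φ hrange c
  refine ⟨r, ?_⟩
  rw [← eps_eq φ hrange r (Classical.arbitrary ι), hr]
  simp

theorem exists_X_mul (hrange : Set.range φ = commonConst ι k) (v : ι → PowerSeries k) :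
    ∃ r, φ r = fun i => PowerSeries.X * v i := by
  refine exists_of_common φ hrange _ ?_
  intro i j
  simp

theorem exists_tau (hrange : Set.range φ = commonConst ι k) :
    ∃ r, φ r = fun _ => PowerSeries.X := by
  refine exists_of_common φ hrange _ ?_
  intro i j
  rfl

theorem exists_single (hrange : Set.range φ = commonConst ι k) (i : ι) :
    ∃ r, φ r = Pi.single i PowerSeries.X := by
  refine exists_of_common φ hrange _ ?_
  intro j l
  have h : ∀ j : ι, PowerSeries.constantCoeff
      ((Pi.single i PowerSeries.X : ι → PowerSeries k) j) = 0 := by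
    intro j
    by_cases hj : j = i
    · subst hj
      rw [Pi.single_eq_same]
      simp
    · rw [Pi.single_eq_of_ne hj]
      simp
  rw [h, h]

end Basic

section MinPrimes

variable {k : Type*} [Field k] {ι : Type*} [Fintype ι] [DecidableEq ι] [Nonempty ι]
  {R : Type*} [CommRing R] (φ : R →+* (ι → PowerSeries k))

/-- kernel of the `i`-th component -/
noncomputable def P (i : ι) : Ideal R :=
  RingHom.ker ((Pi.evalRingHom (fun _ : ι => PowerSeries k) i).comp φ)

theorem mem_P (i : ι) (r : R) : r ∈ P φ i ↔ φ r i = 0 := by
  unfold P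
  rw [RingHom.mem_ker]
  rfl

instance P_isPrime (i : ι) : (P φ i).IsPrime := by
  unfold P
  exact RingHom.ker_isPrime _

theorem P_le_imp (hrange : Set.range φ = commonConst ι k) {i j : ι} (h : P φ i ≤ P φ j) : i = j := by
  by_contra hij
  obtain ⟨r, hr⟩ := exists_single φ hrange j
  have h1 : r ∈ P φ i := by
    rw [mem_P, hr, Pi.single_eq_of_ne hij]
  have h2 := h h1
  rw [mem_P, hr, Pi.single_eq_same] at h2
  exact PowerSeries.X_ne_zero h2

theorem exists_P_le (hinj : Function.Injective φ) (q : Ideal R) [hq : q.IsPrime] :
    ∃ i, P φ i ≤ q := by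
  have h1 : (Finset.univ : Finset ι).inf (P φ) ≤ q := by
    intro x hx
    have h2 : x = 0 := by
      apply hinj
      rw [map_zero]
      funext i
      have h3 : x ∈ P φ i := (Finset.inf_le (Finset.mem_univ i) : _ ≤ P φ i) hx
      exact (mem_P φ i x).mp h3
    rw [h2]
    exact q.zero_mem
  obtain ⟨i, -, hi⟩ := hq.inf_le'.mp h1
  exact ⟨i, hi⟩

theorem minimalPrimes_eq (hinj : Function.Injective φ) (hrange : Set.range φ = commonConst ι k) :
    minimalPrimes R = Set.range (P φ) := by
  ext q
  constructor
  · intro hq
    haveI : q.IsPrime := hq.1.1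
    obtain ⟨j, hj⟩ := exists_P_le φ hinj q
    refine ⟨j, ?_⟩
    exact le_antisymm hj (hq.2 ⟨P_isPrime φ j, bot_le⟩ hj)
  · rintro ⟨i, rfl⟩
    refine ⟨⟨P_isPrime φ i, bot_le⟩, ?_⟩
    rintro q ⟨hq, -⟩ hqP
    haveI := hq
    obtain ⟨j, hj⟩ := exists_P_le φ hinj q
    have hji : j = i := P_le_imp φ hrange (hj.trans hqP)
    rw [← hji]
    exact hj

theorem ncard_minimalPrimes (hinj : Function.Injective φ) (hrange : Set.range φ = commonConst ι k) :
    (minimalPrimes R).ncard = Fintype.card ι := by
  rw [minimalPrimes_eq φ hinj hrange, Set.ncard_range_of_injective, Nat.card_eq_fintype_card]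
  intro i j hij
  exact P_le_imp φ hrange hij.le

end MinPrimes

end Part3

section Part4

open MvPowerSeries

section Delta1

variable {k : Type*} [Field k] {ι : Type*} [Fintype ι] [DecidableEq ι] [Nonempty ι]
  {R : Type*} [CommRing R] [Algebra R (ι → PowerSeries k)]

local notation "V" => (ι → PowerSeries k)
local notation "K" => FractionRing (PowerSeries k)
local notation "QV" => (ι → FractionRing (PowerSeries k))

theorem ne_zero_of_mem_nonZeroDivisors
    (hinj : Function.Injective (algebraMap R V))
    (hrange : Set.range (algebraMap R V) = commonConst ι k)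
    {s : R} (hs : s ∈ nonZeroDivisors R) (i : ι) : algebraMap R V s i ≠ 0 := by
  intro h0
  obtain ⟨r, hr⟩ := exists_single (algebraMap R V) hrange i
  have h1 : s * r = 0 := by
    apply hinj
    rw [map_mul, map_zero, hr]
    funext j
    rw [Pi.mul_apply]
    by_cases hj : j = i
    · subst hj
      rw [h0, zero_mul]
      rfl
    · rw [Pi.single_eq_of_ne hj, mul_zero]
      rfl
  have h2 : r = 0 := (mul_left_mem_nonZeroDivisors_eq_zero_iff hs).mp h1
  rw [h2, map_zero] at hr
  have h3 := congrFun hr i
  rw [Pi.single_eq_same] at h3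
  exact PowerSeries.X_ne_zero h3.symm

theorem tau_mem_nonZeroDivisors
    (hinj : Function.Injective (algebraMap R V))
    {τ : R} (hτ : algebraMap R V τ = fun _ => PowerSeries.X) : τ ∈ nonZeroDivisors R := by
  rw [mem_nonZeroDivisors_iff_left]
  intro x hx
  apply hinj
  rw [map_zero]
  have h1 : algebraMap R V τ * algebraMap R V x = 0 := by
    rw [← map_mul, hx, map_zero]
  funext i
  have h2 := congrFun h1 i
  rw [Pi.mul_apply, hτ] at h2
  rcases mul_eq_zero.mp h2 with h3 | h3
  · exact absurd h3 PowerSeries.X_ne_zero
  · exact h3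

/-- componentwise inclusion into the fraction fields -/
noncomputable def iotaV : V →+* QV :=
  Pi.ringHom (fun i => (algebraMap (PowerSeries k) K).comp (Pi.evalRingHom (fun _ : ι => PowerSeries k) i))

omit [Fintype ι] [DecidableEq ι] [Nonempty ι] in
theorem iotaV_apply (v : V) (i : ι) : iotaV v i = algebraMap (PowerSeries k) K (v i) := rfl

omit [Fintype ι] [DecidableEq ι] [Nonempty ι] in
theorem iotaV_injective : Function.Injective (iotaV : V →+* QV) := by
  intro v w h
  funext i
  have h1 := congrFun h i
  rw [iotaV_apply, iotaV_apply] at h1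
  exact IsFractionRing.injective (PowerSeries k) K h1

/-- the map from `R` to the product of fraction fields -/
noncomputable def gmap : R →+* QV := (iotaV : V →+* QV).comp (algebraMap R V)

omit [Fintype ι] [DecidableEq ι] [Nonempty ι] in
theorem gmap_apply (r : R) : (gmap r : QV) = iotaV (algebraMap R V r) := rfl

omit [Fintype ι] [DecidableEq ι] [Nonempty ι] in
theorem gmap_injective (hinj : Function.Injective (algebraMap R V)) :
    Function.Injective (gmap : R →+* QV) :=
  iotaV_injective.comp hinj

theorem isUnit_gmap (hinj : Function.Injective (algebraMap R V))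
    (hrange : Set.range (algebraMap R V) = commonConst ι k) (s : nonZeroDivisors R) :
    IsUnit (gmap (s : R) : QV) := by
  rw [Pi.isUnit_iff]
  intro i
  rw [gmap_apply, iotaV_apply, isUnit_iff_ne_zero]
  intro h
  exact ne_zero_of_mem_nonZeroDivisors hinj hrange s.2 i
    (IsFractionRing.injective (PowerSeries k) K (by rw [h, map_zero]))

/-- the extension to the total ring of fractions -/
noncomputable def jhat (hinj : Function.Injective (algebraMap R V))
    (hrange : Set.range (algebraMap R V) = commonConst ι k) : FractionRing R →+* QV :=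
  IsLocalization.lift (M := nonZeroDivisors R) (g := (gmap : R →+* QV)) (isUnit_gmap hinj hrange)

theorem jhat_algebraMap (hinj : Function.Injective (algebraMap R V))
    (hrange : Set.range (algebraMap R V) = commonConst ι k) (r : R) :
    jhat hinj hrange (algebraMap R (FractionRing R) r) = gmap r :=
  IsLocalization.lift_eq _ r

theorem jhat_injective (hinj : Function.Injective (algebraMap R V))
    (hrange : Set.range (algebraMap R V) = commonConst ι k) :
    Function.Injective (jhat hinj hrange) := by
  unfold jhat
  rw [IsLocalization.lift_injective_iff]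
  intro x y
  constructor
  · intro h
    rw [IsLocalization.injective (FractionRing R) (le_refl (nonZeroDivisors R)) h]
  · intro h
    rw [gmap_injective hinj h]

/-- integrality passes to components -/
theorem exists_eq_iotaV_of_isIntegral (hinj : Function.Injective (algebraMap R V))
    (hrange : Set.range (algebraMap R V) = commonConst ι k) (x : FractionRing R)
    (hx : IsIntegral R x) : ∃ v : V, jhat hinj hrange x = iotaV v := by
  obtain ⟨p, hmonic, hp⟩ := hx
  have hcomp : ∀ i : ι, ∃ y : PowerSeries k, algebraMap (PowerSeries k) K y = jhat hinj hrange x i := by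
    intro i
    let fi : FractionRing R →+* K := (Pi.evalRingHom (fun _ : ι => K) i).comp (jhat hinj hrange)
    let hi : R →+* PowerSeries k :=
      (Pi.evalRingHom (fun _ : ι => PowerSeries k) i).comp (algebraMap R V)
    have h1 : fi.comp (algebraMap R (FractionRing R)) = (algebraMap (PowerSeries k) K).comp hi := by
      ext r
      show jhat hinj hrange (algebraMap R (FractionRing R) r) i = _
      rw [jhat_algebraMap]
      rfl
    have h2 : Polynomial.eval₂ (algebraMap (PowerSeries k) K) (fi x) (p.map hi) = 0 := by
      rw [Polynomial.eval₂_map, ← h1, ← Polynomial.hom_eval₂, hp, map_zero]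
    have h3 : IsIntegral (PowerSeries k) (fi x) := ⟨p.map hi, hmonic.map hi, h2⟩
    exact IsIntegrallyClosed.isIntegral_iff.mp h3
  choose v hv using hcomp
  refine ⟨v, ?_⟩
  funext i
  rw [iotaV_apply, hv]

/-- every tuple is integral over `R` -/
theorem isIntegral_V (hrange : Set.range (algebraMap R V) = commonConst ι k) (v : V) :
    IsIntegral R v := by
  have h1 : v = ∑ i, (Pi.single i 1 : V) * (fun _ => v i) := by
    funext j
    rw [Finset.sum_apply]
    rw [Finset.sum_eq_single j]
    · rw [Pi.mul_apply, Pi.single_eq_same, one_mul]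
    · intro i _ hij
      rw [Pi.mul_apply, Pi.single_eq_of_ne (Ne.symm hij), zero_mul]
    · intro h
      exact absurd (Finset.mem_univ j) h
  rw [h1]
  refine IsIntegral.sum _ ?_
  intro i _
  refine IsIntegral.mul ?_ ?_
  · -- idempotent
    refine ⟨Polynomial.X * (Polynomial.X - Polynomial.C 1), ?_, ?_⟩
    · exact Polynomial.monic_X.mul (Polynomial.monic_X_sub_C 1)
    · rw [Polynomial.eval₂_mul, Polynomial.eval₂_sub, Polynomial.eval₂_X, Polynomial.eval₂_C,
        map_one, mul_sub, mul_one, sub_eq_zero]
      funext j
      rw [Pi.mul_apply]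
      by_cases hj : j = i
      · subst hj
        rw [Pi.single_eq_same, one_mul]
      · rw [Pi.single_eq_of_ne hj, zero_mul]
  · obtain ⟨r, hr⟩ := exists_of_common (algebraMap R V) hrange (fun _ => v i) (fun _ _ => rfl)
    rw [← hr]
    exact isIntegral_algebraMap

end Delta1

end Part4

section Part5

open MvPowerSeries

section Delta2

variable {k : Type*} [Field k] {ι : Type*} [Fintype ι] [DecidableEq ι] [Nonempty ι]
  {R : Type u} [CommRing R] [Algebra R (ι → PowerSeries k)]

local notation "V" => (ι → PowerSeries k)
local notation "K" => FractionRing (PowerSeries k)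
local notation "QV" => (ι → FractionRing (PowerSeries k))

/-- the `R`-algebra structure on the product of fraction fields -/
noncomputable def algQV : Algebra R QV := (gmap : R →+* QV).toAlgebra

attribute [local instance] algQV

omit [Fintype ι] [DecidableEq ι] [Nonempty ι] in
theorem algebraMap_QV (r : R) : algebraMap R QV r = gmap r := rfl

theorem exists_integral_preimage (hinj : Function.Injective (algebraMap R V))
    (hrange : Set.range (algebraMap R V) = commonConst ι k) (v : V) :
    ∃ x : FractionRing R, IsIntegral R x ∧ jhat hinj hrange x = iotaV v := by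
  obtain ⟨τ, hτ⟩ := exists_tau (algebraMap R V) hrange
  obtain ⟨r, hr⟩ := exists_X_mul (algebraMap R V) hrange v
  have hτ' := tau_mem_nonZeroDivisors hinj hτ
  let x := IsLocalization.mk' (FractionRing R) r ⟨τ, hτ'⟩
  have hx : x * algebraMap R (FractionRing R) τ = algebraMap R (FractionRing R) r :=
    IsLocalization.mk'_spec _ _ _
  have h1 : jhat hinj hrange x * gmap τ = gmap r := by
    rw [← jhat_algebraMap hinj hrange, ← map_mul, hx, jhat_algebraMap]
  have h2 : (gmap r : QV) = iotaV v * gmap τ := by
    rw [gmap_apply, gmap_apply, hr, hτ, ← map_mul]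
    congr 1
    funext i
    rw [Pi.mul_apply, mul_comm]
  have h3 : jhat hinj hrange x = iotaV v := by
    have hu := isUnit_gmap hinj hrange ⟨τ, hτ'⟩
    exact hu.mul_left_injective
      (show jhat hinj hrange x * gmap τ = iotaV v * gmap τ by rw [h1, h2])
  refine ⟨x, ?_, h3⟩
  let ja : FractionRing R →ₐ[R] QV :=
    { jhat hinj hrange with commutes' := fun r => jhat_algebraMap hinj hrange r }
  let ia : V →ₐ[R] QV := { (iotaV : V →+* QV) with commutes' := fun r => rfl }
  have h4 : IsIntegral R (ia v) := (isIntegral_V hrange v).map ia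
  have h5 : ja x = ia v := h3
  rw [← h5] at h4
  exact (isIntegral_algHom_iff ja (jhat_injective hinj hrange)).mp h4

/-- `iotaV` as an `R`-linear map -/
noncomputable def iotaL : V →ₗ[R] QV where
  toFun := iotaV
  map_add' := map_add _
  map_smul' r v := by
    rw [Algebra.smul_def, map_mul, RingHom.id_apply, Algebra.smul_def]
    rfl

/-- `jhat` restricted to the integral closure, as an `R`-linear map -/
noncomputable def jL (hinj : Function.Injective (algebraMap R V))
    (hrange : Set.range (algebraMap R V) = commonConst ι k) :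
    integralClosure R (FractionRing R) →ₗ[R] QV where
  toFun x := jhat hinj hrange x.1
  map_add' x y := by
    rw [← map_add]
    rfl
  map_smul' r x := by
    rw [RingHom.id_apply]
    show jhat hinj hrange ((r • x : integralClosure R (FractionRing R)) : FractionRing R) =
      r • jhat hinj hrange x.1
    have h1 : ((r • x : integralClosure R (FractionRing R)) : FractionRing R) =
        algebraMap R (FractionRing R) r * x.1 := by
      rw [← Algebra.smul_def]
      rfl
    rw [h1, map_mul, jhat_algebraMap, Algebra.smul_def r (jhat hinj hrange x.1)]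
    rfl

theorem range_jL (hinj : Function.Injective (algebraMap R V))
    (hrange : Set.range (algebraMap R V) = commonConst ι k) :
    LinearMap.range (jL hinj hrange) = LinearMap.range (iotaL : V →ₗ[R] QV) := by
  ext y
  constructor
  · rintro ⟨x, rfl⟩
    obtain ⟨v, hv⟩ := exists_eq_iotaV_of_isIntegral hinj hrange x.1 x.2
    exact ⟨v, hv.symm⟩
  · rintro ⟨v, rfl⟩
    obtain ⟨x, hx, hxv⟩ := exists_integral_preimage hinj hrange v
    exact ⟨⟨x, hx⟩, hxv⟩

theorem jL_injective (hinj : Function.Injective (algebraMap R V))
    (hrange : Set.range (algebraMap R V) = commonConst ι k) :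
    Function.Injective (jL hinj hrange) := by
  intro x y h
  exact Subtype.ext (jhat_injective hinj hrange h)

omit [Fintype ι] [DecidableEq ι] [Nonempty ι] in
theorem iotaL_injective : Function.Injective (iotaL : V →ₗ[R] QV) := iotaV_injective

/-- the integral closure of `R` in its total ring of fractions is the full product -/
noncomputable def normEquivV (hinj : Function.Injective (algebraMap R V))
    (hrange : Set.range (algebraMap R V) = commonConst ι k) :
    integralClosure R (FractionRing R) ≃ₗ[R] V :=
  (LinearEquiv.ofInjective (jL hinj hrange) (jL_injective hinj hrange)).trans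
    ((LinearEquiv.ofEq _ _ (range_jL hinj hrange)).trans
      (LinearEquiv.ofInjective (iotaL : V →ₗ[R] QV) (iotaL_injective (R := R))).symm)

theorem ofInjective_symm_spec {R M N : Type*} [CommRing R] [AddCommGroup M] [AddCommGroup N]
    [Module R M] [Module R N] (f : M →ₗ[R] N) (h : Function.Injective f) (z : LinearMap.range f) :
    f ((LinearEquiv.ofInjective f h).symm z) = z.1 := by
  have h1 := LinearEquiv.apply_symm_apply (LinearEquiv.ofInjective f h) z
  have h2 := congrArg Subtype.val h1
  rwa [LinearEquiv.ofInjective_apply] at h2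

theorem iotaL_normEquivV (hinj : Function.Injective (algebraMap R V))
    (hrange : Set.range (algebraMap R V) = commonConst ι k)
    (x : integralClosure R (FractionRing R)) :
    (iotaL : V →ₗ[R] QV) (normEquivV hinj hrange x) = jL hinj hrange x := by
  show (iotaL : V →ₗ[R] QV) ((LinearEquiv.ofInjective (iotaL : V →ₗ[R] QV) (iotaL_injective (R := R))).symm
    ((LinearEquiv.ofEq _ _ (range_jL hinj hrange))
      ((LinearEquiv.ofInjective (jL hinj hrange) (jL_injective hinj hrange)) x))) = _
  rw [ofInjective_symm_spec]
  rfl

theorem normEquivV_algebraMap (hinj : Function.Injective (algebraMap R V))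
    (hrange : Set.range (algebraMap R V) = commonConst ι k) (r : R) :
    normEquivV hinj hrange (algebraMap R (integralClosure R (FractionRing R)) r) =
      algebraMap R V r := by
  apply iotaL_injective (R := R)
  rw [iotaL_normEquivV]
  show jhat hinj hrange (algebraMap R (FractionRing R) r) = iotaV (algebraMap R V r)
  rw [jhat_algebraMap]
  rfl

/-- the quotient by `R` -/
noncomputable def quotEquivV (hinj : Function.Injective (algebraMap R V))
    (hrange : Set.range (algebraMap R V) = commonConst ι k) :
    (integralClosure R (FractionRing R) ⧸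
      LinearMap.range (Algebra.linearMap R (integralClosure R (FractionRing R)))) ≃ₗ[R]
      (V ⧸ LinearMap.range (Algebra.linearMap R V)) :=
  Submodule.Quotient.equiv _ _ (normEquivV hinj hrange) (by
    rw [← LinearMap.range_comp]
    congr 1
    refine LinearMap.ext_ring ?_
    show normEquivV hinj hrange (algebraMap R (integralClosure R (FractionRing R)) 1) =
      algebraMap R V 1
    exact normEquivV_algebraMap hinj hrange 1)

end Delta2

end Part5

section Part6

open MvPowerSeries

section Delta3

theorem length_compHom_of_surjective {R S : Type*} [CommRing R] [CommRing S] (f : R →+* S)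
    (hf : Function.Surjective f) (M : Type*) [AddCommGroup M] [Module S M] :
    @Module.length R M _ _ (Module.compHom M f) = Module.length S M := by
  letI : Algebra R S := f.toAlgebra
  letI : Module R M := Module.compHom M f
  haveI : IsScalarTower R S M := ⟨fun r s m => by
    show (f r * s) • m = f r • (s • m)
    rw [mul_smul]⟩
  exact Module.length_eq_of_surjective hf

/-- the diagonal in `k^ι` -/
noncomputable def diag (k : Type*) (ι : Type*) [Field k] : Submodule k (ι → k) :=
  LinearMap.range (LinearMap.pi (fun _ : ι => (LinearMap.id : k →ₗ[k] k)))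

theorem mem_diag {k : Type*} {ι : Type*} [Field k] (c : ι → k) :
    c ∈ diag k ι ↔ ∃ a : k, (fun _ => a) = c := by
  unfold diag
  rw [LinearMap.mem_range]
  rfl

/-- length of `k^ι` modulo the diagonal, over a ring surjecting onto `k` -/
theorem length_quot_diag (R : Type*) (k : Type*) (ι : Type*) [CommRing R] [Field k] (f : R →+* k)
    (hε : Function.Surjective f) [Fintype ι] [Nonempty ι] :
    @Module.length R ((ι → k) ⧸ diag k ι) _ _ (Module.compHom _ f) + 1 =
      (Fintype.card ι : ℕ∞) := by
  rw [length_compHom_of_surjective f hε, Module.length_eq_finrank]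
  have h1 := Submodule.finrank_quotient_add_finrank (diag k ι)
  have h2 : Module.finrank k (diag k ι) = 1 := by
    unfold diag
    rw [LinearMap.finrank_range_of_inj, Module.finrank_self]
    intro a b hab
    obtain ⟨i⟩ := ‹Nonempty ι›
    exact congrFun hab i
  rw [h2, Module.finrank_fintype_fun_eq_card] at h1
  exact_mod_cast h1

variable {k : Type*} [Field k] {ι : Type*} [Fintype ι] [DecidableEq ι] [Nonempty ι]
  {R : Type u} [CommRing R] [Algebra R (ι → PowerSeries k)]

local notation "V" => (ι → PowerSeries k)

theorem length_quot_V (hrange : Set.range (algebraMap R V) = commonConst ι k) :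
    Module.length R (V ⧸ LinearMap.range (Algebra.linearMap R V)) + 1 = (Fintype.card ι : ℕ∞) := by
  have hsurj : Function.Surjective (eps (algebraMap R V)) := eps_surjective _ hrange
  letI : Module R ((ι → k) ⧸ diag k ι) := Module.compHom _ (eps (algebraMap R V))
  have hsmul : ∀ (r : R) (n : (ι → k) ⧸ diag k ι), r • n = eps (algebraMap R V) r • n :=
    fun r n => rfl
  let cc : V → (ι → k) := fun v i => PowerSeries.constantCoeff (v i)
  have hcc : ∀ v i, cc v i = PowerSeries.constantCoeff (v i) := fun v i => rfl
  let q : V →ₗ[R] ((ι → k) ⧸ diag k ι) :=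
    { toFun := fun v => (diag k ι).mkQ (cc v)
      map_add' := fun v w => by
        rw [← map_add]
        congr 1 <;> (funext i; simp [hcc])
      map_smul' := fun r v => by
        rw [RingHom.id_apply, hsmul, ← map_smul]
        congr 1
        funext i
        rw [hcc, Algebra.smul_def, Pi.mul_apply, map_mul, eps_eq _ hrange, Pi.smul_apply, hcc]
        rfl }
  have hqdef : ∀ v, q v = (diag k ι).mkQ (cc v) := fun v => rfl
  have hq : Function.Surjective q := by
    intro y
    obtain ⟨c, rfl⟩ := Submodule.mkQ_surjective (diag k ι) y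
    refine ⟨fun i => PowerSeries.C (c i), ?_⟩
    rw [hqdef]
    congr 1 <;> (funext i; rw [hcc]; simp)
  have hker : LinearMap.ker q = LinearMap.range (Algebra.linearMap R V) := by
    ext v
    rw [LinearMap.mem_ker, hqdef, Submodule.mkQ_apply, Submodule.Quotient.mk_eq_zero, mem_diag,
      LinearMap.mem_range]
    constructor
    · rintro ⟨c, hc⟩
      have hv : v ∈ commonConst ι k := by
        intro i j
        have hi := congrFun hc i
        have hj := congrFun hc j
        rw [hcc] at hi hj
        rw [← hi, ← hj]
      obtain ⟨r, hr⟩ := exists_of_common _ hrange v hv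
      exact ⟨r, hr⟩
    · rintro ⟨r, rfl⟩
      refine ⟨eps (algebraMap R V) r, ?_⟩
      funext i
      rw [hcc]
      show eps (algebraMap R V) r = PowerSeries.constantCoeff (algebraMap R V r i)
      rw [eps_eq _ hrange]
  have e : (V ⧸ LinearMap.range (Algebra.linearMap R V)) ≃ₗ[R] ((ι → k) ⧸ diag k ι) :=
    (Submodule.quotEquivOfEq _ _ hker.symm).trans (q.quotKerEquivOfSurjective hq)
  rw [e.length_eq]
  exact length_quot_diag R k ι _ hsurj

/-- the δ-invariant of a ring of multicross type -/
theorem deltaInv_add_one_alg (hinj : Function.Injective (algebraMap R V))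
    (hrange : Set.range (algebraMap R V) = commonConst ι k) :
    Curv2.deltaInv R + 1 = (Fintype.card ι : ℕ∞) := by
  unfold Curv2.deltaInv
  rw [(quotEquivV hinj hrange).length_eq]
  exact length_quot_V hrange

end Delta3

section Final

variable {k : Type*} [Field k] {ι : Type*} [Fintype ι] [DecidableEq ι] [Nonempty ι]
  {R : Type u} [CommRing R]

theorem deltaInv_add_one (φ : R →+* (ι → PowerSeries k)) (hinj : Function.Injective φ)
    (hrange : Set.range φ = commonConst ι k) :
    Curv2.deltaInv R + 1 = (Fintype.card ι : ℕ∞) := by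
  letI : Algebra R (ι → PowerSeries k) := φ.toAlgebra
  exact deltaInv_add_one_alg (R := R) (k := k) (ι := ι) hinj hrange

end Final

end Part6

section Part7

open MvPowerSeries IsLocalRing

section Cotangent

variable {k : Type*} [Field k] {ι : Type*} [Fintype ι] [DecidableEq ι] [Nonempty ι]
  {R : Type*} [CommRing R] (φ : R →+* (ι → PowerSeries k))

theorem isUnit_of_eps_ne_zero (hinj : Function.Injective φ)
    (hrange : Set.range φ = commonConst ι k) (r : R) (h : eps φ r ≠ 0) : IsUnit r := by
  have h1 : ∀ i, PowerSeries.constantCoeff (φ r i) ≠ 0 := fun i => by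
    rw [eps_eq φ hrange]
    exact h
  obtain ⟨r', hr'⟩ := exists_of_common φ hrange (fun i => (φ r i)⁻¹) (by
    intro i j
    rw [PowerSeries.constantCoeff_inv, PowerSeries.constantCoeff_inv, eps_eq φ hrange,
      eps_eq φ hrange])
  refine IsUnit.of_mul_eq_one r' ?_
  apply hinj
  rw [map_mul, map_one, hr']
  funext i
  rw [Pi.mul_apply, Pi.one_apply]
  exact PowerSeries.mul_inv_cancel _ (h1 i)

theorem mem_maximalIdeal_iff [IsLocalRing R] (hinj : Function.Injective φ)
    (hrange : Set.range φ = commonConst ι k) (r : R) :
    r ∈ maximalIdeal R ↔ eps φ r = 0 := by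
  constructor
  · intro hr
    by_contra h
    exact (mem_maximalIdeal r).mp hr (isUnit_of_eps_ne_zero φ hinj hrange r h)
  · intro h
    rw [mem_maximalIdeal, mem_nonunits_iff]
    intro hu
    have := hu.map (eps φ)
    rw [h] at this
    exact not_isUnit_zero this

theorem coeff_one_mul (a b : PowerSeries k) :
    PowerSeries.coeff 1 (a * b) =
      PowerSeries.constantCoeff a * PowerSeries.coeff 1 b +
        PowerSeries.coeff 1 a * PowerSeries.constantCoeff b := by
  rw [PowerSeries.coeff_mul]
  have h : Finset.HasAntidiagonal.antidiagonal (1 : ℕ) =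
      {((0 : ℕ), (1 : ℕ)), ((1 : ℕ), (0 : ℕ))} := by decide
  rw [h, Finset.sum_pair (by decide)]
  simp

theorem finrank_cotangentSpace [IsLocalRing R] [IsNoetherianRing R] (hinj : Function.Injective φ)
    (hrange : Set.range φ = commonConst ι k) :
    Module.finrank (ResidueField R) (CotangentSpace R) = Fintype.card ι := by
  have hsurj : Function.Surjective (eps φ) := eps_surjective φ hrange
  letI : Module R (ι → k) := Module.compHom _ (eps φ)
  have hsmul : ∀ (r : R) (c : ι → k), r • c = eps φ r • c := fun r c => rfl
  have hmem := mem_maximalIdeal_iff φ hinj hrange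
  let θ : maximalIdeal R →ₗ[R] (ι → k) :=
    { toFun := fun x i => PowerSeries.coeff 1 (φ x.1 i)
      map_add' := fun x y => by
        funext i
        simp
      map_smul' := fun r x => by
        funext i
        rw [RingHom.id_apply, hsmul, Pi.smul_apply]
        show PowerSeries.coeff 1 (φ (r * x.1) i) = eps φ r * PowerSeries.coeff 1 (φ x.1 i)
        rw [map_mul, Pi.mul_apply, coeff_one_mul, eps_eq φ hrange, eps_eq φ hrange,
          (hmem x.1).mp x.2, mul_zero, add_zero] }
  have hθ : ∀ (x : maximalIdeal R) (i : ι), θ x i = PowerSeries.coeff 1 (φ x.1 i) :=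
    fun x i => rfl
  have hker : ∀ x : maximalIdeal R, θ x = 0 → (x : R) ∈ maximalIdeal R ^ 2 := by
    intro x hx
    have h1 : ∀ i, (PowerSeries.X : PowerSeries k) ^ 2 ∣ φ x.1 i := by
      intro i
      rw [PowerSeries.X_pow_dvd_iff]
      intro m hm
      interval_cases m
      · rw [PowerSeries.coeff_zero_eq_constantCoeff_apply, eps_eq φ hrange]
        exact (hmem x.1).mp x.2
      · rw [← hθ, hx]
        rfl
    choose w hw using h1
    obtain ⟨τ, hτ⟩ := exists_tau φ hrange
    obtain ⟨r, hr⟩ := exists_X_mul φ hrange w
    have hτm : τ ∈ maximalIdeal R := by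
      rw [hmem, ← eps_eq φ hrange τ (Classical.arbitrary ι), hτ]
      simp
    have hrm : r ∈ maximalIdeal R := by
      rw [hmem, ← eps_eq φ hrange r (Classical.arbitrary ι), hr]
      simp
    have hx2 : x.1 = τ * r := by
      apply hinj
      rw [map_mul, hτ, hr]
      funext i
      rw [hw i, Pi.mul_apply, sq, mul_assoc]
    rw [hx2, sq]
    exact Ideal.mul_mem_mul hτm hrm
  have hθsurj : Function.Surjective θ := by
    intro c
    obtain ⟨r, hr⟩ := exists_X_mul φ hrange (fun i => PowerSeries.C (c i))
    have hrm : r ∈ maximalIdeal R := by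
      rw [hmem, ← eps_eq φ hrange r (Classical.arbitrary ι), hr]
      simp
    refine ⟨⟨r, hrm⟩, ?_⟩
    funext i
    rw [hθ]
    show PowerSeries.coeff 1 (φ r i) = c i
    rw [hr]
    simp
  have hle : (maximalIdeal R • ⊤ : Submodule R (maximalIdeal R)) ≤ LinearMap.ker θ := by
    rw [Submodule.smul_le]
    intro a ha y _
    rw [LinearMap.mem_ker, map_smul, hsmul, (hmem a).mp ha, zero_smul]
  let θbar : (maximalIdeal R).Cotangent →ₗ[R] (ι → k) := Submodule.liftQ _ θ hle
  have hθbar : ∀ x, θbar ((maximalIdeal R).toCotangent x) = θ x := fun x => rfl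
  have hbij : Function.Bijective θbar := by
    constructor
    · rw [← LinearMap.ker_eq_bot, LinearMap.ker_eq_bot']
      intro y hy
      obtain ⟨x, rfl⟩ := Ideal.toCotangent_surjective _ y
      rw [hθbar] at hy
      exact (Ideal.toCotangent_eq_zero _ x).mpr (hker x hy)
    · intro c
      obtain ⟨x, hx⟩ := hθsurj c
      exact ⟨(maximalIdeal R).toCotangent x, by rw [hθbar, hx]⟩
  have e : (maximalIdeal R).Cotangent ≃ₗ[R] (ι → k) := LinearEquiv.ofBijective θbar hbij
  have h1 : Module.length (ResidueField R) (CotangentSpace R) =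
      Module.length R (CotangentSpace R) :=
    (Module.length_eq_of_surjective (S := R) (R := ResidueField R) (M := CotangentSpace R)
      IsLocalRing.residue_surjective).symm
  have h2 : Module.length R (CotangentSpace R) = Module.length R (ι → k) := e.length_eq
  have h3 : Module.length R (ι → k) = Module.length k (ι → k) :=
    length_compHom_of_surjective (eps φ) hsurj (ι → k)
  rw [h2, h3, Module.length_eq_finrank, Module.length_eq_finrank,
    Module.finrank_fintype_fun_eq_card] at h1
  exact_mod_cast h1

end Cotangent

end Part7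

end Groth.Agent.Lib.R2H1.McRing
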