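/-
Completion of a one-dimensional reduced local k-algebra with delta = n - 1 is the multicross ring (S12218). Contains: complMap (map on adic completions induced by a ring hom f with I.map f ≤ J), evalₐ_complMap, complMap_jointly_injective, exists_complMap_eq; mem_maximalIdeal_iff_evalₐ_one; exists_algEquiv_powerSeries (completion of a DVR over k with residue field k is k[[X]], via the Cohen structure library); constantCoeff_eq_iff; multicross_abstract; mem_iInf_pow_of_forall_mem_pow; multicross_of_wedge_aux; main_12218.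
-/
import Mathlib
import Groth.Prelude
import Groth.Agent.Lib.Helper19CohenStructure
import Groth.Agent.Lib.Helper19ComplDVR
import Groth.Agent.Lib.R2H1Wedge

set_option autoImplicit false
set_option linter.style.haveILetI false
set_option linter.unusedSectionVars false
universe u

open IsLocalRing Function

namespace Groth.Agent.Lib.R2H1.Multicross

section Part1

section ComplMap

variable {R S : Type*} [CommRing R] [CommRing S] (f : R →+* S) (I : Ideal R) (J : Ideal S)

theorem pow_le_comap_pow (h : I.map f ≤ J) (n : ℕ) : I ^ n ≤ (J ^ n).comap f := by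
  rw [← Ideal.map_le_iff_le_comap, Ideal.map_pow]
  exact Ideal.pow_right_mono h n

/-- the maps `R/I^n → S/J^n` -/
noncomputable def levelMap (h : I.map f ≤ J) (n : ℕ) : R ⧸ I ^ n →+* S ⧸ J ^ n :=
  Ideal.quotientMap (J ^ n) f (pow_le_comap_pow f I J h n)

@[simp]
theorem levelMap_mk (h : I.map f ≤ J) (n : ℕ) (r : R) :
    levelMap f I J h n (Ideal.Quotient.mk _ r) = Ideal.Quotient.mk _ (f r) := by
  simp [levelMap]

theorem factorPow_evalₐ {m n : ℕ} (hle : m ≤ n) (x : AdicCompletion I R) :
    Ideal.Quotient.factorPow I hle (AdicCompletion.evalₐ I n x) = AdicCompletion.evalₐ I m x := by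
  induction x using AdicCompletion.induction_on with
  | h s =>
    rw [AdicCompletion.evalₐ_mk, AdicCompletion.evalₐ_mk]
    rw [Ideal.Quotient.factorPow, Ideal.Quotient.factor_mk, Ideal.Quotient.eq]
    have := (s.property hle).symm
    rw [SModEq.sub_mem] at this
    simpa using this

theorem levelMap_compat (h : I.map f ≤ J) {m n : ℕ} (hle : m ≤ n) :
    (Ideal.Quotient.factorPow J hle).comp ((levelMap f I J h n).comp
      (AdicCompletion.evalₐ I n : AdicCompletion I R →+* R ⧸ I ^ n)) =
    (levelMap f I J h m).comp (AdicCompletion.evalₐ I m : AdicCompletion I R →+* R ⧸ I ^ m) := by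
  ext x
  simp only [RingHom.comp_apply]
  obtain ⟨r, hr⟩ := Ideal.Quotient.mk_surjective (AdicCompletion.evalₐ I n x)
  have h2 : AdicCompletion.evalₐ I m x = Ideal.Quotient.mk _ r := by
    rw [← factorPow_evalₐ I hle x]
    show Ideal.Quotient.factorPow I hle ((AdicCompletion.evalₐ I n) x) = _
    rw [← hr]
    simp [Ideal.Quotient.factorPow]
  show Ideal.Quotient.factorPow J hle (levelMap f I J h n ((AdicCompletion.evalₐ I n) x)) =
    levelMap f I J h m ((AdicCompletion.evalₐ I m) x)
  rw [h2, ← hr, levelMap_mk, levelMap_mk]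
  simp [Ideal.Quotient.factorPow]

/-- the induced map on completions -/
noncomputable def complMap (h : I.map f ≤ J) : AdicCompletion I R →+* AdicCompletion J S :=
  AdicCompletion.liftRingHom J
    (fun n => (levelMap f I J h n).comp (AdicCompletion.evalₐ I n : AdicCompletion I R →+* R ⧸ I ^ n))
    (fun hle => levelMap_compat f I J h hle)

theorem evalₐ_complMap (h : I.map f ≤ J) (n : ℕ) (x : AdicCompletion I R) :
    AdicCompletion.evalₐ J n (complMap f I J h x) =
      levelMap f I J h n (AdicCompletion.evalₐ I n x) :=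
  AdicCompletion.evalₐ_liftRingHom J _ (fun hle => levelMap_compat f I J h hle) n x

theorem complMap_of (h : I.map f ≤ J) (r : R) :
    complMap f I J h (AdicCompletion.of I R r) = AdicCompletion.of J S (f r) := by
  apply AdicCompletion.ext_evalₐ
  intro n
  rw [evalₐ_complMap, AdicCompletion.evalₐ_of, AdicCompletion.evalₐ_of, levelMap_mk]

end ComplMap

section Joint

variable {R : Type*} [CommRing R] (I : Ideal R) {ι : Type*} (S : ι → Type*) [∀ i, CommRing (S i)]
  (f : ∀ i, R →+* S i) (J : ∀ i, Ideal (S i)) (h : ∀ i, I.map (f i) ≤ J i)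

theorem complMap_jointly_injective
    (hinj : ∀ (n : ℕ) (a : R), (∀ i, f i a ∈ J i ^ n) → a ∈ I ^ n)
    (x : AdicCompletion I R) (hx : ∀ i, complMap (f i) I (J i) (h i) x = 0) : x = 0 := by
  apply AdicCompletion.ext_evalₐ
  intro n
  obtain ⟨a, ha⟩ := Ideal.Quotient.mk_surjective (AdicCompletion.evalₐ I n x)
  rw [← ha, map_zero, Ideal.Quotient.eq_zero_iff_mem]
  apply hinj
  intro i
  have h1 := evalₐ_complMap (f i) I (J i) (h i) n x
  rw [hx i, map_zero, ← ha, levelMap_mk] at h1
  exact Ideal.Quotient.eq_zero_iff_mem.mp h1.symm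

theorem exists_complMap_eq
    (hinj : ∀ (n : ℕ) (a : R), (∀ i, f i a ∈ J i ^ n) → a ∈ I ^ n)
    (y : ∀ i, AdicCompletion (J i) (S i))
    (hy : ∀ n : ℕ, ∃ a : R, ∀ i, AdicCompletion.evalₐ (J i) n (y i) = Ideal.Quotient.mk _ (f i a)) :
    ∃ x : AdicCompletion I R, ∀ i, complMap (f i) I (J i) (h i) x = y i := by
  choose a ha using hy
  have hc : AdicCompletion.IsAdicCauchy I R a := by
    intro m n hmn
    rw [SModEq.sub_mem]
    have : a m - a n ∈ I ^ m := by
      apply hinj
      intro i
      rw [map_sub, ← Ideal.Quotient.eq, ← ha m i, ← factorPow_evalₐ (J i) hmn (y i), ha n i]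
      simp [Ideal.Quotient.factorPow]
    simpa using this
  refine ⟨AdicCompletion.mk I R ⟨a, hc⟩, fun i => ?_⟩
  apply AdicCompletion.ext_evalₐ
  intro n
  rw [evalₐ_complMap, AdicCompletion.evalₐ_mk, levelMap_mk, ha n i]

end Joint

end Part1

section Part2

section Cohen

theorem mem_maximalIdeal_iff_evalₐ_one {V : Type*} [CommRing V] [IsNoetherianRing V] [IsLocalRing V]
    (x : AdicCompletion (maximalIdeal V) V) :
    x ∈ maximalIdeal (AdicCompletion (maximalIdeal V) V) ↔
      AdicCompletion.evalₐ (maximalIdeal V) 1 x = 0 := by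
  rw [AdicCompletion.mem_maximalIdeal_iff_eval_one_eq_zero]
  have h1 : (maximalIdeal V ^ 1 • ⊤ : Ideal V) ≤ maximalIdeal V ^ 1 := by simp
  have h2 : maximalIdeal V ^ 1 ≤ (maximalIdeal V ^ 1 • ⊤ : Ideal V) := by simp
  constructor
  · intro h
    rw [← AdicCompletion.factor_eval_eq_evalₐ (maximalIdeal V) x h1, AdicCompletion.eval_apply, h,
      map_zero]
  · intro h
    rw [← AdicCompletion.eval_apply, ← AdicCompletion.factor_evalₐ_eq_eval (maximalIdeal V) x h2, h,
      map_zero]

variable (k : Type u) [Field k] (V : Type u) [CommRing V] [IsDomain V] [IsDiscreteValuationRing V]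
  [Algebra k V]

theorem hres_completion (hres : ∀ v : V, ∃ c : k, v - algebraMap k V c ∈ maximalIdeal V)
    (r : AdicCompletion (maximalIdeal V) V) :
    ∃ c : k, r - algebraMap k (AdicCompletion (maximalIdeal V) V) c ∈
      maximalIdeal (AdicCompletion (maximalIdeal V) V) := by
  obtain ⟨v, hv⟩ := Ideal.Quotient.mk_surjective (AdicCompletion.evalₐ (maximalIdeal V) 1 r)
  obtain ⟨c, hc⟩ := hres v
  refine ⟨c, ?_⟩
  rw [mem_maximalIdeal_iff_evalₐ_one, map_sub, AdicCompletion.algebraMap_apply,
    AdicCompletion.evalₐ_of, ← hv, ← map_sub, Ideal.Quotient.eq_zero_iff_mem, pow_one]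
  exact hc

theorem exists_algEquiv_powerSeries
    (hres : ∀ v : V, ∃ c : k, v - algebraMap k V c ∈ maximalIdeal V) :
    Nonempty (PowerSeries k ≃ₐ[k] AdicCompletion (maximalIdeal V) V) := by
  obtain ⟨ϖ, hϖ⟩ := IsDiscreteValuationRing.exists_irreducible V
  have hmax : maximalIdeal V = Ideal.span {ϖ} := hϖ.maximalIdeal_eq
  haveI : IsAdicComplete (maximalIdeal k) k := by
    have : maximalIdeal k = ⊥ := by
      rw [eq_bot_iff]
      intro x hx
      rw [mem_maximalIdeal, mem_nonunits_iff, isUnit_iff_ne_zero, not_not] at hx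
      simp [hx]
    rw [this]
    infer_instance
  obtain ⟨ev, hev⟩ := Groth.Agent.Lib.Helper19.CohenStructure.exists_surjective_algHom_mvPowerSeries
    (Λ := k) (A := AdicCompletion (maximalIdeal V) V) 1
    (fun _ => AdicCompletion.of (maximalIdeal V) V ϖ)
    (by
      rw [AdicCompletion.maximalIdeal_eq_map, hmax, Ideal.map_span, Set.image_singleton,
        Set.range_const]
      rfl)
    (by
      intro x hx
      rw [mem_maximalIdeal, mem_nonunits_iff, isUnit_iff_ne_zero, not_not] at hx
      rw [hx, map_zero]
      exact Ideal.zero_mem _)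
    (hres_completion k V hres)
  let e0 : PowerSeries k ≃ₐ[k] MvPowerSeries (Fin 1) k :=
    MvPowerSeries.renameEquiv k (Equiv.ofUnique Unit (Fin 1))
  let Ψ : PowerSeries k →ₐ[k] AdicCompletion (maximalIdeal V) V := ev.comp e0.toAlgHom
  have hΨs : Function.Surjective Ψ := hev.comp e0.surjective
  obtain ⟨hdom, hdvr⟩ := (Groth.Agent.Lib.Helper19.isDiscreteValuationRing_iff_adicCompletion V).mp
    ⟨inferInstance, inferInstance⟩
  haveI := hdom
  haveI := hdvr
  have hΨi : Function.Injective Ψ := by
    rw [injective_iff_map_eq_zero]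
    by_contra hne
    push_neg at hne
    obtain ⟨g, hg0, hgne⟩ := hne
    have hker_prime : (RingHom.ker Ψ.toRingHom).IsPrime := RingHom.ker_isPrime _
    have hker_ne : RingHom.ker Ψ.toRingHom ≠ ⊥ := by
      intro h
      apply hgne
      have : g ∈ RingHom.ker Ψ.toRingHom := hg0
      rw [h] at this
      simpa using this
    have hker_max : (RingHom.ker Ψ.toRingHom).IsMaximal :=
      hker_prime.isMaximal hker_ne
    have hfield : IsField (AdicCompletion (maximalIdeal V) V) := by
      have e := RingHom.quotientKerEquivOfSurjective (f := Ψ.toRingHom) hΨs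
      have h1 : IsField (PowerSeries k ⧸ RingHom.ker Ψ.toRingHom) :=
        (Ideal.Quotient.maximal_ideal_iff_isField_quotient _).mp hker_max
      exact e.symm.toMulEquiv.isField h1
    exact IsDiscreteValuationRing.not_isField _ hfield
  exact ⟨AlgEquiv.ofBijective Ψ ⟨hΨi, hΨs⟩⟩

end Cohen

end Part2

section Part3

section Assembly

theorem constantCoeff_eq_iff {k : Type*} [Field k] {W : Type*} [CommRing W] [IsLocalRing W]
    [Algebra k W] (ψ : PowerSeries k ≃ₐ[k] W) (g : PowerSeries k) (c : k) :
    ψ g - algebraMap k W c ∈ maximalIdeal W ↔ PowerSeries.constantCoeff g = c := by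
  have h1 : ψ g - algebraMap k W c = ψ (g - algebraMap k (PowerSeries k) c) := by
    rw [map_sub, ψ.commutes]
  rw [h1, mem_maximalIdeal, mem_nonunits_iff]
  have h2 : IsUnit (ψ (g - algebraMap k (PowerSeries k) c)) ↔
      IsUnit (g - algebraMap k (PowerSeries k) c) :=
    isUnit_map_iff ψ.toRingEquiv _
  rw [h2, PowerSeries.isUnit_iff_constantCoeff, map_sub, isUnit_iff_ne_zero, not_not, sub_eq_zero]
  have h3 : PowerSeries.constantCoeff (algebraMap k (PowerSeries k) c) = c := by
    simp
  rw [h3]

theorem multicross_abstract (k A : Type u) [Field k] [CommRing A] [IsLocalRing A] [Algebra k A]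
    [IsNoetherianRing A]
    {ι : Type*} [Nonempty ι]
    (V : ι → Type u) [∀ i, CommRing (V i)] [∀ i, IsDomain (V i)]
    [∀ i, IsDiscreteValuationRing (V i)]
    [∀ i, Algebra A (V i)] [∀ i, Algebra k (V i)] [∀ i, IsScalarTower k A (V i)]
    (hresA : ∀ a : A, ∃ c : k, a - algebraMap k A c ∈ maximalIdeal A)
    (hloc : ∀ i, ∀ a ∈ maximalIdeal A, algebraMap A (V i) a ∈ maximalIdeal (V i))
    (hres : ∀ i, ∀ v : V i, ∃ c : k, v - algebraMap k (V i) c ∈ maximalIdeal (V i))
    (hinj : ∀ (j : ℕ) (a : A), (∀ i, algebraMap A (V i) a ∈ maximalIdeal (V i) ^ j) →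
      a ∈ maximalIdeal A ^ j)
    (hsurj : ∀ (j : ℕ) (v : ∀ i, V i) (c : k),
      (∀ i, v i - algebraMap k (V i) c ∈ maximalIdeal (V i)) →
      ∃ a : A, ∀ i, algebraMap A (V i) a - v i ∈ maximalIdeal (V i) ^ j) :
    ∃ φ : AdicCompletion (maximalIdeal A) A →+* (ι → PowerSeries k), Injective φ ∧
      (∀ c : k, φ (algebraMap A (AdicCompletion (maximalIdeal A) A) (algebraMap k A c)) =
        fun _ => algebraMap k (PowerSeries k) c) ∧
      Set.range φ = {f : ι → PowerSeries k | ∀ i j : ι,
        PowerSeries.constantCoeff (f i) = PowerSeries.constantCoeff (f j)} := by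
  have hle : ∀ i, (maximalIdeal A).map (algebraMap A (V i)) ≤ maximalIdeal (V i) := fun i =>
    Ideal.map_le_iff_le_comap.mpr (fun a ha => hloc i a ha)
  let ρ : ∀ i, AdicCompletion (maximalIdeal A) A →+* AdicCompletion (maximalIdeal (V i)) (V i) :=
    fun i => complMap (algebraMap A (V i)) (maximalIdeal A) (maximalIdeal (V i)) (hle i)
  let ψ : ∀ i, PowerSeries k ≃ₐ[k] AdicCompletion (maximalIdeal (V i)) (V i) := fun i =>
    (exists_algEquiv_powerSeries k (V i) (hres i)).some
  let φ : AdicCompletion (maximalIdeal A) A →+* (ι → PowerSeries k) :=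
    Pi.ringHom (fun i => ((ψ i).symm : _ →+* PowerSeries k).comp (ρ i))
  have hφ : ∀ x i, φ x i = (ψ i).symm (ρ i x) := fun x i => rfl
  -- residues
  have hresx : ∀ x : AdicCompletion (maximalIdeal A) A, ∃ c : k, ∀ i,
      ρ i x - algebraMap k (AdicCompletion (maximalIdeal (V i)) (V i)) c ∈
        maximalIdeal (AdicCompletion (maximalIdeal (V i)) (V i)) := by
    intro x
    obtain ⟨a, ha⟩ := Ideal.Quotient.mk_surjective (AdicCompletion.evalₐ (maximalIdeal A) 1 x)
    obtain ⟨c, hc⟩ := hresA a
    refine ⟨c, fun i => ?_⟩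
    rw [mem_maximalIdeal_iff_evalₐ_one, map_sub, evalₐ_complMap, ← ha, levelMap_mk,
      AdicCompletion.algebraMap_apply, AdicCompletion.evalₐ_of, ← map_sub,
      Ideal.Quotient.eq_zero_iff_mem, pow_one, IsScalarTower.algebraMap_apply k A (V i), ← map_sub]
    exact hloc i _ hc
  refine ⟨φ, ?_, ?_, ?_⟩
  · rw [injective_iff_map_eq_zero]
    intro x hx
    apply complMap_jointly_injective (maximalIdeal A) V (fun i => algebraMap A (V i))
      (fun i => maximalIdeal (V i)) hle hinj x
    intro i
    have h1 : (ψ i).symm (ρ i x) = 0 := by rw [← hφ, hx]; rfl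
    exact (map_eq_zero_iff _ (ψ i).symm.injective).mp h1
  · intro c
    funext i
    rw [hφ]
    have h1 : ρ i (algebraMap A (AdicCompletion (maximalIdeal A) A) (algebraMap k A c)) =
        algebraMap k (AdicCompletion (maximalIdeal (V i)) (V i)) c := by
      rw [AdicCompletion.algebraMap_apply, AdicCompletion.algebraMap_apply]
      show complMap _ _ _ _ (AdicCompletion.of _ _ _) = _
      rw [complMap_of, Algebra.algebraMap_self, RingHom.id_apply,
        ← IsScalarTower.algebraMap_apply k A (V i)]
    rw [h1, AlgEquiv.commutes]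
  · ext f
    simp only [Set.mem_range, Set.mem_setOf_eq]
    constructor
    · rintro ⟨x, rfl⟩ i j
      obtain ⟨c, hc⟩ := hresx x
      have key : ∀ i, PowerSeries.constantCoeff (φ x i) = c := by
        intro i
        rw [← constantCoeff_eq_iff (ψ i), hφ, AlgEquiv.apply_symm_apply]
        exact hc i
      rw [key i, key j]
    · intro hf
      obtain ⟨i₀⟩ := ‹Nonempty ι›
      set c := PowerSeries.constantCoeff (f i₀) with hcdef
      have hcc : ∀ i, PowerSeries.constantCoeff (f i) = c := fun i => hf i i₀
      have hy : ∀ i, ψ i (f i) - algebraMap k _ c ∈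
          maximalIdeal (AdicCompletion (maximalIdeal (V i)) (V i)) := fun i =>
        (constantCoeff_eq_iff (ψ i) (f i) c).mpr (hcc i)
      obtain ⟨x, hx⟩ := exists_complMap_eq (maximalIdeal A) V (fun i => algebraMap A (V i))
        (fun i => maximalIdeal (V i)) hle hinj (fun i => ψ i (f i)) (by
          intro n
          choose v hv using fun i => Ideal.Quotient.mk_surjective
            (AdicCompletion.evalₐ (maximalIdeal (V i)) n (ψ i (f i)))
          rcases Nat.eq_zero_or_pos n with hn | hn
          · subst hn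
            refine ⟨0, fun i => ?_⟩
            rw [← hv i, Ideal.Quotient.eq, pow_zero, Ideal.one_eq_top]
            trivial
          · have hvc : ∀ i, v i - algebraMap k (V i) c ∈ maximalIdeal (V i) := by
              intro i
              have h1 := (mem_maximalIdeal_iff_evalₐ_one _).mp (hy i)
              rw [map_sub, AdicCompletion.algebraMap_apply, AdicCompletion.evalₐ_of,
                ← factorPow_evalₐ (maximalIdeal (V i)) (show 1 ≤ n from hn), ← hv i] at h1
              have h2 : Ideal.Quotient.factorPow (maximalIdeal (V i)) (show 1 ≤ n from hn)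
                  (Ideal.Quotient.mk _ (v i)) = Ideal.Quotient.mk _ (v i) := by
                simp [Ideal.Quotient.factorPow]
              rw [h2, ← map_sub, Ideal.Quotient.eq_zero_iff_mem, pow_one] at h1
              exact h1
            obtain ⟨a, ha⟩ := hsurj n v c hvc
            refine ⟨a, fun i => ?_⟩
            rw [← hv i, eq_comm, Ideal.Quotient.eq]
            exact ha i)
      refine ⟨x, ?_⟩
      funext i
      rw [hφ]
      show (ψ i).symm (complMap _ _ _ _ x) = f i
      rw [hx i, AlgEquiv.symm_apply_apply]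

end Assembly

end Part3

section Part4

section Semilocal

variable {N : Type*} [CommRing N]

theorem pairwise_coprime_maxSpec :
    Pairwise (IsCoprime on fun P : MaximalSpectrum N => P.asIdeal) := by
  intro P Q hne
  haveI := P.isMaximal
  haveI := Q.isMaximal
  exact Ideal.isCoprime_of_isMaximal (MaximalSpectrum.ext_iff.ne.mp hne)

theorem pairwise_coprime_maxSpec_pow (j : ℕ) :
    Pairwise (IsCoprime on fun P : MaximalSpectrum N => P.asIdeal ^ j) := by
  intro P Q hne
  exact (pairwise_coprime_maxSpec hne).pow

theorem mem_iInf_pow_of_forall_mem_pow [Finite (MaximalSpectrum N)] (j : ℕ) (b : N)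
    (h : ∀ P : MaximalSpectrum N, b ∈ P.asIdeal ^ j) :
    b ∈ (⨅ P : MaximalSpectrum N, P.asIdeal) ^ j := by
  classical
  letI : Fintype (MaximalSpectrum N) := Fintype.ofFinite _
  have h1 : (∏ P ∈ (Finset.univ : Finset (MaximalSpectrum N)), P.asIdeal ^ j) =
      ⨅ P ∈ (Finset.univ : Finset (MaximalSpectrum N)), P.asIdeal ^ j :=
    Ideal.prod_eq_iInf_of_pairwise_isCoprime (fun P _ Q _ hne => pairwise_coprime_maxSpec_pow j hne)
  have h2 : (∏ P ∈ (Finset.univ : Finset (MaximalSpectrum N)), P.asIdeal) =
      ⨅ P ∈ (Finset.univ : Finset (MaximalSpectrum N)), P.asIdeal :=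
    Ideal.prod_eq_iInf_of_pairwise_isCoprime (fun P _ Q _ hne => pairwise_coprime_maxSpec hne)
  have h3 : (⨅ P : MaximalSpectrum N, P.asIdeal) ^ j = ⨅ P : MaximalSpectrum N, P.asIdeal ^ j := by
    have e1 : (⨅ P : MaximalSpectrum N, P.asIdeal) =
        ⨅ P ∈ (Finset.univ : Finset (MaximalSpectrum N)), P.asIdeal := by simp
    have e2 : (⨅ P : MaximalSpectrum N, P.asIdeal ^ j) =
        ⨅ P ∈ (Finset.univ : Finset (MaximalSpectrum N)), P.asIdeal ^ j := by simp
    rw [e1, e2, ← h1, ← h2, Finset.prod_pow]
  rw [h3, Ideal.mem_iInf]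
  exact h

end Semilocal

section Wedge

variable {A N : Type*} [CommRing A] [IsLocalRing A] [CommRing N] [Algebra A N]

/-- elements of `J^j` come from `m^j` when `J = ⨅ P ⊆ A`. -/
theorem exists_mem_pow_of_mem_iInf_pow
    (hcomap : ∀ P : MaximalSpectrum N, P.asIdeal.comap (algebraMap A N) = maximalIdeal A)
    [Nonempty (MaximalSpectrum N)]
    (hW2 : ∀ b : N, (∀ P : MaximalSpectrum N, b ∈ P.asIdeal) → b ∈ (algebraMap A N).range)
    (j : ℕ) (b : N) (hb : b ∈ (⨅ P : MaximalSpectrum N, P.asIdeal) ^ (j + 1)) :
    ∃ a ∈ maximalIdeal A ^ (j + 1), algebraMap A N a = b := by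
  have base : ∀ b ∈ (⨅ P : MaximalSpectrum N, P.asIdeal), ∃ a ∈ maximalIdeal A,
      algebraMap A N a = b := by
    intro b hb
    rw [Ideal.mem_iInf] at hb
    obtain ⟨a, ha⟩ := hW2 b hb
    refine ⟨a, ?_, ha⟩
    obtain ⟨P⟩ := ‹Nonempty (MaximalSpectrum N)›
    rw [← hcomap P, Ideal.mem_comap, ha]
    exact hb P
  induction j generalizing b with
  | zero =>
    rw [zero_add, pow_one] at hb ⊢
    exact base b hb
  | succ j ih =>
    rw [pow_succ] at hb
    refine Submodule.mul_induction_on hb ?_ ?_
    · intro x hx y hy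
      obtain ⟨a₁, ha₁, rfl⟩ := ih x hx
      obtain ⟨a₂, ha₂, rfl⟩ := base y hy
      refine ⟨a₁ * a₂, ?_, map_mul _ _ _⟩
      rw [pow_succ]
      exact Ideal.mul_mem_mul ha₁ ha₂
    · rintro x y ⟨a₁, ha₁, rfl⟩ ⟨a₂, ha₂, rfl⟩
      exact ⟨a₁ + a₂, Ideal.add_mem _ ha₁ ha₂, map_add _ _ _⟩

end Wedge

end Part4

section Part5

section Main

variable (k A N : Type u) [Field k] [CommRing A] [IsLocalRing A] [IsNoetherianRing A] [Algebra k A]
  [CommRing N] [Algebra A N] [Algebra k N] [IsScalarTower k A N]

theorem multicross_of_wedge_aux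
    (hinjAN : Function.Injective (algebraMap A N))
    (hresA : ∀ a : A, ∃ c : k, a - algebraMap k A c ∈ maximalIdeal A)
    [Finite (MaximalSpectrum N)]
    (hdvr : ∀ P : MaximalSpectrum N, ∃ _ : IsDomain (Localization.AtPrime P.asIdeal),
      IsDiscreteValuationRing (Localization.AtPrime P.asIdeal))
    (hcomap : ∀ P : MaximalSpectrum N, P.asIdeal.comap (algebraMap A N) = maximalIdeal A)
    (hW1 : ∀ P : MaximalSpectrum N,
      Function.Surjective ((Ideal.Quotient.mk P.asIdeal).comp (algebraMap A N)))
    (hW2 : ∀ b : N, (∀ P : MaximalSpectrum N, b ∈ P.asIdeal) → b ∈ (algebraMap A N).range) :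
    ∃ φ : AdicCompletion (maximalIdeal A) A →+* (MaximalSpectrum N → PowerSeries k), Injective φ ∧
      (∀ c : k, φ (algebraMap A (AdicCompletion (maximalIdeal A) A) (algebraMap k A c)) =
        fun _ => algebraMap k (PowerSeries k) c) ∧
      Set.range φ = {f : MaximalSpectrum N → PowerSeries k | ∀ i j : MaximalSpectrum N,
        PowerSeries.constantCoeff (f i) = PowerSeries.constantCoeff (f j)} := by
  haveI : Nontrivial N := hinjAN.nontrivial
  haveI : Nonempty (MaximalSpectrum N) := by
    obtain ⟨P, hP⟩ := Ideal.exists_maximal N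
    exact ⟨⟨P, hP⟩⟩
  haveI hd : ∀ P : MaximalSpectrum N, IsDomain (Localization.AtPrime P.asIdeal) := fun P =>
    (hdvr P).choose
  haveI hv : ∀ P : MaximalSpectrum N, IsDiscreteValuationRing (Localization.AtPrime P.asIdeal) :=
    fun P => (hdvr P).choose_spec
  -- abbreviations
  have halg : ∀ (P : MaximalSpectrum N) (a : A),
      algebraMap A (Localization.AtPrime P.asIdeal) a =
        algebraMap N (Localization.AtPrime P.asIdeal) (algebraMap A N a) := fun P a =>
    IsScalarTower.algebraMap_apply A N (Localization.AtPrime P.asIdeal) a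
  have halgk : ∀ (P : MaximalSpectrum N) (c : k),
      algebraMap k (Localization.AtPrime P.asIdeal) c =
        algebraMap N (Localization.AtPrime P.asIdeal) (algebraMap k N c) := fun P c =>
    IsScalarTower.algebraMap_apply k N (Localization.AtPrime P.asIdeal) c
  have hmemP : ∀ (P : MaximalSpectrum N) (b : N),
      algebraMap N (Localization.AtPrime P.asIdeal) b ∈
        maximalIdeal (Localization.AtPrime P.asIdeal) ↔ b ∈ P.asIdeal := fun P b =>
    IsLocalization.AtPrime.to_map_mem_maximal_iff (Localization.AtPrime P.asIdeal) P.asIdeal b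
  have hmemPpow : ∀ (P : MaximalSpectrum N) (j : ℕ) (b : N),
      algebraMap N (Localization.AtPrime P.asIdeal) b ∈
        maximalIdeal (Localization.AtPrime P.asIdeal) ^ j ↔ b ∈ P.asIdeal ^ j := by
    intro P j b
    haveI := P.isMaximal
    rw [← IsLocalization.AtPrime.under_maximalIdeal_pow P.asIdeal
      (Localization.AtPrime P.asIdeal) j, Ideal.under_def, Ideal.mem_comap]
  -- approximation of elements of the localization
  have happrox : ∀ (P : MaximalSpectrum N) (j : ℕ) (v : Localization.AtPrime P.asIdeal),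
      ∃ b : N, algebraMap N (Localization.AtPrime P.asIdeal) b - v ∈
        maximalIdeal (Localization.AtPrime P.asIdeal) ^ j := by
    intro P j v
    haveI := P.isMaximal
    let e := IsLocalization.AtPrime.equivQuotMaximalIdealPow P.asIdeal
      (Localization.AtPrime P.asIdeal) j
    obtain ⟨b, hb⟩ := Ideal.Quotient.mk_surjective (e.symm (Ideal.Quotient.mk _ v))
    refine ⟨b, ?_⟩
    have h1 : e (Ideal.Quotient.mk _ b) = Ideal.Quotient.mk _ v := by
      rw [hb, AlgEquiv.apply_symm_apply]
    rw [IsLocalization.AtPrime.equivQuotMaximalIdealPow_apply_mk] at h1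
    exact Ideal.Quotient.eq.mp h1
  refine multicross_abstract k A (fun P : MaximalSpectrum N => Localization.AtPrime P.asIdeal)
    hresA ?_ ?_ ?_ ?_
  · -- hloc
    intro P a ha
    rw [halg, hmemP, ← Ideal.mem_comap, hcomap P]
    exact ha
  · -- hres
    intro P v
    obtain ⟨b, hb⟩ := happrox P 1 v
    rw [pow_one] at hb
    obtain ⟨a, ha⟩ := hW1 P (Ideal.Quotient.mk _ b)
    rw [RingHom.comp_apply, Ideal.Quotient.eq] at ha
    obtain ⟨c, hc⟩ := hresA a
    refine ⟨c, ?_⟩
    have h1 : algebraMap N (Localization.AtPrime P.asIdeal) (algebraMap A N a - b) ∈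
        maximalIdeal (Localization.AtPrime P.asIdeal) := (hmemP P _).mpr ha
    have h2 : algebraMap A (Localization.AtPrime P.asIdeal) (a - algebraMap k A c) ∈
        maximalIdeal (Localization.AtPrime P.asIdeal) := by
      rw [halg, hmemP, ← Ideal.mem_comap, hcomap P]
      exact hc
    have h3 : v - algebraMap k (Localization.AtPrime P.asIdeal) c =
        -(algebraMap N (Localization.AtPrime P.asIdeal) b - v) +
          -(algebraMap N (Localization.AtPrime P.asIdeal) (algebraMap A N a - b)) +
          algebraMap A (Localization.AtPrime P.asIdeal) (a - algebraMap k A c) := by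
      rw [map_sub, map_sub, ← halg, ← IsScalarTower.algebraMap_apply k A]
      ring
    rw [h3]
    exact Ideal.add_mem _ (Ideal.add_mem _ (neg_mem hb) (neg_mem h1)) h2
  · -- hinj
    intro j a ha
    rcases Nat.eq_zero_or_pos j with hj | hj
    · subst hj
      rw [pow_zero, Ideal.one_eq_top]
      trivial
    · obtain ⟨j', rfl⟩ : ∃ j', j = j' + 1 := ⟨j - 1, by omega⟩
      have h1 : ∀ P : MaximalSpectrum N, algebraMap A N a ∈ P.asIdeal ^ (j' + 1) := by
        intro P
        rw [← hmemPpow, ← halg]
        exact ha P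
      have h2 := mem_iInf_pow_of_forall_mem_pow (j' + 1) (algebraMap A N a) h1
      obtain ⟨a', ha', hEq⟩ := exists_mem_pow_of_mem_iInf_pow hcomap hW2 j' _ h2
      rw [← hinjAN hEq]
      exact ha'
  · -- hsurj
    intro j v c hvc
    rcases Nat.eq_zero_or_pos j with hj | hj
    · subst hj
      refine ⟨0, fun P => ?_⟩
      rw [pow_zero, Ideal.one_eq_top]
      trivial
    · choose b hb using fun P => happrox P j (v P)
      obtain ⟨b₀, hb₀⟩ := Ideal.exists_forall_sub_mem_ideal (pairwise_coprime_maxSpec_pow j) b
      have hb₀' : ∀ P : MaximalSpectrum N,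
          algebraMap N (Localization.AtPrime P.asIdeal) b₀ - v P ∈
            maximalIdeal (Localization.AtPrime P.asIdeal) ^ j := by
        intro P
        have h1 : algebraMap N (Localization.AtPrime P.asIdeal) (b₀ - b P) ∈
            maximalIdeal (Localization.AtPrime P.asIdeal) ^ j := (hmemPpow P j _).mpr (hb₀ P)
        have h2 : algebraMap N (Localization.AtPrime P.asIdeal) b₀ - v P =
            algebraMap N (Localization.AtPrime P.asIdeal) (b₀ - b P) +
              (algebraMap N (Localization.AtPrime P.asIdeal) (b P) - v P) := by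
          rw [map_sub]; ring
        rw [h2]
        exact Ideal.add_mem _ h1 (hb P)
      have hJ : ∀ P : MaximalSpectrum N, b₀ - algebraMap k N c ∈ P.asIdeal := by
        intro P
        rw [← hmemP, map_sub, ← halgk]
        have h1 : algebraMap N (Localization.AtPrime P.asIdeal) b₀ - v P ∈
            maximalIdeal (Localization.AtPrime P.asIdeal) :=
          Ideal.pow_le_self (Nat.pos_iff_ne_zero.mp hj) (hb₀' P)
        have h2 : algebraMap N (Localization.AtPrime P.asIdeal) b₀ -
            algebraMap k (Localization.AtPrime P.asIdeal) c =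
            (algebraMap N (Localization.AtPrime P.asIdeal) b₀ - v P) +
              (v P - algebraMap k (Localization.AtPrime P.asIdeal) c) := by ring
        rw [h2]
        exact Ideal.add_mem _ h1 (hvc P)
      obtain ⟨a₀, ha₀⟩ := hW2 _ hJ
      refine ⟨a₀ + algebraMap k A c, fun P => ?_⟩
      have h3 : algebraMap A (Localization.AtPrime P.asIdeal) (a₀ + algebraMap k A c) =
          algebraMap N (Localization.AtPrime P.asIdeal) b₀ := by
        rw [halg, map_add, ha₀, ← IsScalarTower.algebraMap_apply k A N]
        congr 1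
        ring
      rw [h3]
      exact hb₀' P

end Main

end Part5

section Part6

section Final

theorem reindex {R : Type*} [CommRing R] {ι κ : Type*} (e : κ ≃ ι) (k : Type*) [Field k]
    (g : k → R)
    (φ' : R →+* (ι → PowerSeries k)) (hinj : Injective φ')
    (hk : ∀ c : k, φ' (g c) = fun _ => algebraMap k (PowerSeries k) c)
    (hrange : Set.range φ' = {f : ι → PowerSeries k | ∀ i j : ι,
        PowerSeries.constantCoeff (f i) = PowerSeries.constantCoeff (f j)}) :
    ∃ φ : R →+* (κ → PowerSeries k), Injective φ ∧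
      (∀ c : k, φ (g c) = fun _ => algebraMap k (PowerSeries k) c) ∧
      Set.range φ = {f : κ → PowerSeries k | ∀ i j : κ,
        PowerSeries.constantCoeff (f i) = PowerSeries.constantCoeff (f j)} := by
  let φ : R →+* (κ → PowerSeries k) :=
    Pi.ringHom (fun i => (Pi.evalRingHom (fun _ : ι => PowerSeries k) (e i)).comp φ')
  have hφ : ∀ x i, φ x i = φ' x (e i) := fun x i => rfl
  refine ⟨φ, ?_, ?_, ?_⟩
  · intro x y hxy
    apply hinj
    funext j
    have := congrFun hxy (e.symm j)
    rw [hφ, hφ, Equiv.apply_symm_apply] at this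
    exact this
  · intro c
    funext i
    rw [hφ, hk]
  · ext f
    simp only [Set.mem_range, Set.mem_setOf_eq]
    constructor
    · rintro ⟨x, rfl⟩ i j
      have h1 : φ' x ∈ Set.range φ' := ⟨x, rfl⟩
      rw [hrange] at h1
      rw [hφ, hφ]
      exact h1 (e i) (e j)
    · intro hf
      have h1 : (fun j => f (e.symm j)) ∈ Set.range φ' := by
        rw [hrange]
        intro i j
        exact hf _ _
      obtain ⟨x, hx⟩ := h1
      refine ⟨x, ?_⟩
      funext i
      rw [hφ, hx]
      show f (e.symm (e i)) = f i
      rw [Equiv.symm_apply_apply]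

open Groth.Agent.Lib.Helper3 Groth.Agent.Lib.R2H1.BrCompl Groth.Agent.Lib.R2H1.Wedge

theorem main_12218 (k : Type u) [Field k]
    (A : Type u) [CommRing A] [IsLocalRing A] [Algebra k A] [IsReduced A]
    (hdim : ringKrullDim A = 1) (hN : CAlg.IsNagata A)
    (hres : Function.Bijective (algebraMap k (IsLocalRing.ResidueField A)))
    (n : ℕ) (hn : Brnch.numBranches A = n) (hδ : Curv2.deltaInv A + 1 = n) :
    ∃ φ : AdicCompletion (IsLocalRing.maximalIdeal A) A →+* (Fin n → PowerSeries k),
      Function.Injective φ ∧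
      (∀ c : k, φ (algebraMap A (AdicCompletion (IsLocalRing.maximalIdeal A) A) (algebraMap k A c)) =
        fun _ => algebraMap k (PowerSeries k) c) ∧
      Set.range φ = {f : Fin n → PowerSeries k | ∀ i j : Fin n,
        PowerSeries.constantCoeff (f i) = PowerSeries.constantCoeff (f j)} := by
  haveI : IsNoetherianRing A := hN.1
  have hfinMin : (minimalPrimes A).Finite := minimalPrimes.finite_of_isNoetherianRing A
  have hcard2 : ENat.card (MaximalSpectrum (CAlg2.normRed A)) =
      ENat.card (MaximalSpectrum (integralClosure A (FractionRing A))) := by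
    refine (ENat.card_congr ?_).symm
    refine Equiv.trans ?_ (maxEquiv A)
    exact ⟨fun m => ⟨m.asIdeal, m.isMaximal⟩, fun p => ⟨p.1, p.2⟩, fun _ => rfl, fun _ => rfl⟩
  have hcardN : ENat.card (MaximalSpectrum (integralClosure A (FractionRing A))) = n := by
    rw [← hcard2, ← hn]
    unfold Brnch.numBranches
    rw [if_pos hfinMin]
  haveI hfinite : Finite (MaximalSpectrum (integralClosure A (FractionRing A))) := by
    by_contra hinf
    rw [not_finite_iff_infinite] at hinf
    have h1 : ENat.card (MaximalSpectrum (integralClosure A (FractionRing A))) = ⊤ :=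
      ENat.card_eq_top_of_infinite
    rw [h1] at hcardN
    exact ENat.top_ne_coe n hcardN
  letI : Fintype (MaximalSpectrum (integralClosure A (FractionRing A))) := Fintype.ofFinite _
  have hcardF : Fintype.card (MaximalSpectrum (integralClosure A (FractionRing A))) = n := by
    rw [ENat.card_eq_coe_fintype_card] at hcardN
    exact_mod_cast hcardN
  have hlen : Module.length A ((integralClosure A (FractionRing A)) ⧸
      LinearMap.range (Algebra.linearMap A (integralClosure A (FractionRing A)))) + 1 =
      (Fintype.card (MaximalSpectrum (integralClosure A (FractionRing A))) : ℕ∞) := by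
    rw [hcardF]
    exact hδ
  have hlenfin : Module.length A ((integralClosure A (FractionRing A)) ⧸
      LinearMap.range (Algebra.linearMap A (integralClosure A (FractionRing A)))) ≠ ⊤ := by
    intro h
    rw [h] at hlen
    simp at hlen
  haveI hfinA' : Module.Finite A (integralClosure A (FractionRing A)) := by
    have h1 : IsFiniteLength A ((integralClosure A (FractionRing A)) ⧸
        LinearMap.range (Algebra.linearMap A (integralClosure A (FractionRing A)))) :=
      Module.length_ne_top_iff.mp hlenfin
    obtain ⟨h2, -⟩ := isFiniteLength_iff_isNoetherian_isArtinian.mp h1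
    haveI := h2
    haveI : Module.Finite A (LinearMap.range
        (Algebra.linearMap A (integralClosure A (FractionRing A)))) :=
      Module.Finite.range _
    exact Module.Finite.of_submodule_quotient
      (LinearMap.range (Algebra.linearMap A (integralClosure A (FractionRing A))))
  haveI : Algebra.IsIntegral A (integralClosure A (FractionRing A)) := inferInstance
  haveI : IsNoetherianRing (integralClosure A (FractionRing A)) :=
    Algebra.FiniteType.isNoetherianRing A _
  have hcomap : ∀ m' : MaximalSpectrum (integralClosure A (FractionRing A)),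
      m'.asIdeal.comap (algebraMap A (integralClosure A (FractionRing A))) = maximalIdeal A := by
    intro m'
    haveI := m'.isMaximal
    exact IsLocalRing.eq_maximalIdeal
      (Ideal.isMaximal_comap_of_isIntegral_of_isMaximal m'.asIdeal)
  obtain ⟨hW1, hW2⟩ := wedge_abstract (A := A) (B := integralClosure A (FractionRing A))
    (fun m' : MaximalSpectrum (integralClosure A (FractionRing A)) => m'.asIdeal)
    (fun m' => m'.isMaximal)
    (fun m₁ m₂ hne => by
      haveI := m₁.isMaximal
      haveI := m₂.isMaximal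
      exact Ideal.isCoprime_of_isMaximal (MaximalSpectrum.ext_iff.ne.mp hne))
    (maximalIdeal A)
    (fun a ha m' => by
      have : a ∈ m'.asIdeal.comap (algebraMap A (integralClosure A (FractionRing A))) := by
        rw [hcomap m']; exact ha
      exact this)
    hlen
  haveI : Ring.KrullDimLE 1 A := Ring.krullDimLE_iff.mpr (by rw [hdim]; rfl)
  obtain ⟨a₀, ha₀m, ha₀⟩ := exists_nzd_mem_maximalIdeal A hdim
  have hdvr : ∀ P : MaximalSpectrum (integralClosure A (FractionRing A)),
      ∃ _ : IsDomain (Localization.AtPrime P.asIdeal),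
        IsDiscreteValuationRing (Localization.AtPrime P.asIdeal) := by
    intro m'
    haveI := m'.isMaximal
    obtain ⟨hdom, hic⟩ := normal_localization_integralClosure A m'.asIdeal
    haveI := hdom
    haveI := hic
    exact ⟨hdom, isDiscreteValuationRing_localization A (integralClosure A (FractionRing A))
      a₀ ha₀m (algebraMap_integralClosure_mem_nonZeroDivisors A a₀ ha₀) m'.asIdeal⟩
  have hresA : ∀ a : A, ∃ c : k, a - algebraMap k A c ∈ maximalIdeal A := by
    intro a
    obtain ⟨c, hc⟩ := hres.2 (IsLocalRing.residue A a)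
    refine ⟨c, ?_⟩
    rw [← IsLocalRing.residue_eq_zero_iff, map_sub, ← hc, sub_eq_zero,
      IsScalarTower.algebraMap_apply k A (IsLocalRing.ResidueField A)]
    rfl
  have hinjAN : Function.Injective (algebraMap A (integralClosure A (FractionRing A))) := by
    intro x y hxy
    have h1 : algebraMap A (FractionRing A) x = algebraMap A (FractionRing A) y := by
      have := congrArg (Subtype.val) hxy
      exact this
    exact IsFractionRing.injective A (FractionRing A) h1
  obtain ⟨φ', h1, h2, h3⟩ := multicross_of_wedge_aux k A (integralClosure A (FractionRing A))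
    hinjAN hresA hdvr hcomap hW1 hW2
  let e : Fin n ≃ MaximalSpectrum (integralClosure A (FractionRing A)) :=
    (Fintype.equivFinOfCardEq hcardF).symm
  exact reindex e k
    (fun c => algebraMap A (AdicCompletion (IsLocalRing.maximalIdeal A) A) (algebraMap k A c))
    φ' h1 h2 h3

end Final

end Part6

end Groth.Agent.Lib.R2H1.Multicross
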