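/-
R2H1McSch (helper1): closed points of reduced 1-equidimensional schemes locally of finite type over an algebraically closed field: local ring is Nagata of dimension one with residue field k; converse of the multicross completion theorem (S11568, S11567).
-/
import Mathlib
import Groth.Prelude
import Groth.Agent.Lib.Helper6BcBridge
import Groth.Agent.Lib.Helper14Japanese
import Groth.Agent.Lib.Helper4FieldJapanese
import Groth.Agent.Lib.R2H1Multicross
import Groth.Agent.Lib.R2H1DeltaBC
import Groth.Agent.Lib.R2H1BrCompl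
import Groth.Agent.S7652
import Groth.Agent.Lib.R2H1McRing

set_option autoImplicit false
set_option linter.style.haveILetI false
set_option linter.unusedSectionVars false
universe u

namespace Groth.Agent.Lib.R2H1.McSch

section Part1

open TopologicalSpace Order

section Top

variable {X : Type*} [TopologicalSpace X]

/-- closure of a point as an irreducible closed set -/
def cl (a : X) : IrreducibleCloseds X :=
  ⟨closure {a}, isIrreducible_singleton.closure, isClosed_closure⟩

theorem cl_le_iff (a b : X) : cl a ≤ cl b ↔ b ⤳ a := by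
  rw [specializes_iff_closure_subset]
  rfl

attribute [local instance] specializationPreorder

theorem coheight_eq_one [QuasiSober X] [T0Space X]
    (hequi : ∀ Z ∈ irreducibleComponents X, topologicalKrullDim Z = 1)
    (x : X) (hx : IsClosed ({x} : Set X)) : Order.coheight x = 1 := by
  have hle_iff : ∀ a b : X, a ≤ b ↔ b ⤳ a := fun a b => Iff.rfl
  apply le_antisymm
  · -- upper bound
    have h1 : Order.coheight x ≤ ((1 : ℕ) : ℕ∞) := by
      rw [Order.coheight_le_coe_iff]
      intro y hy
      have hy0 : Order.coheight y = 0 := by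
        rw [Order.coheight_eq_zero]
        by_contra hmax
        rw [not_isMax_iff] at hmax
        obtain ⟨w, hw⟩ := hmax
        -- chain x < y < w
        have hwy : w ⤳ y := (hle_iff y w).mp hw.le
        have hyx : y ⤳ x := (hle_iff x y).mp hy.le
        have hnyw : ¬ y ⤳ w := fun h => hw.not_ge ((hle_iff w y).mpr h)
        have hnxy : ¬ x ⤳ y := fun h => hy.not_ge ((hle_iff y x).mpr h)
        set Z := irreducibleComponent w with hZ
        have hZmem : Z ∈ irreducibleComponents X := irreducibleComponent_mem_irreducibleComponents w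
        have hZcl : IsClosed Z := isClosed_irreducibleComponent
        have hwZ : w ∈ Z := mem_irreducibleComponent
        have hyZ : y ∈ Z := hwy.mem_closed hZcl hwZ
        have hxZ : x ∈ Z := hyx.mem_closed hZcl hyZ
        have hdim := hequi Z hZmem
        have hdim1 : Order.krullDim (IrreducibleCloseds Z) ≤ 1 := le_of_eq hdim
        rw [Order.krullDim_le_one_iff] at hdim1
        rcases hdim1 (cl (⟨y, hyZ⟩ : Z)) with hmin | hmax
        · have h2 : cl (⟨x, hxZ⟩ : Z) ≤ cl (⟨y, hyZ⟩ : Z) := by
            rw [cl_le_iff, subtype_specializes_iff]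
            exact hyx
          have h3 := hmin h2
          rw [cl_le_iff, subtype_specializes_iff] at h3
          exact hnxy h3
        · have h2 : cl (⟨y, hyZ⟩ : Z) ≤ cl (⟨w, hwZ⟩ : Z) := by
            rw [cl_le_iff, subtype_specializes_iff]
            exact hwy
          have h3 := hmax h2
          rw [cl_le_iff, subtype_specializes_iff] at h3
          exact hnyw h3
      rw [hy0]
      exact Nat.cast_pos.mpr one_pos
    exact_mod_cast h1
  · -- lower bound
    rw [ENat.one_le_iff_ne_zero, Order.coheight_ne_zero, not_isMax_iff]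
    set Z := irreducibleComponent x with hZ
    have hZmem : Z ∈ irreducibleComponents X := irreducibleComponent_mem_irreducibleComponents x
    have hZcl : IsClosed Z := isClosed_irreducibleComponent
    have hZirr : IsIrreducible Z := isIrreducible_irreducibleComponent
    have hxZ : x ∈ Z := mem_irreducibleComponent
    have hη := hZirr.isGenericPoint_genericPoint hZcl
    set η := hZirr.genericPoint with hηdef
    have hηx : η ⤳ x := hη.specializes hxZ
    refine ⟨η, lt_of_le_not_ge ((hle_iff x η).mpr hηx) ?_⟩
    intro h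
    have hxη : x ⤳ η := (hle_iff η x).mp h
    have h1 : η = x := by
      have := hxη.mem_closed hx rfl
      exact this
    -- then Z = {x}
    have h2 : Z = {x} := by
      rw [← hη.def, h1]
      exact hx.closure_eq
    have hdim := hequi Z hZmem
    haveI : Subsingleton Z := by
      rw [h2]
      infer_instance
    have h3 := topologicalKrullDim_zero_of_discreteTopology Z
    rw [hdim] at h3
    exact absurd h3 (by decide)

end Top

end Part1

section Part2

open AlgebraicGeometry CategoryTheory IsLocalRing

theorem ringKrullDim_stalk (X : Scheme.{u})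
    (hequi : ∀ Z ∈ irreducibleComponents (X : Type u), topologicalKrullDim Z = 1)
    (x : X) (hx : IsClosed ({x} : Set X)) : ringKrullDim (X.presheaf.stalk x) = 1 := by
  rw [AlgebraicGeometry.ringKrullDim_stalk_eq_coheight, coheight_eq_one hequi x hx]
  rfl

attribute [local instance] Curv2.stalkAlgebra

theorem stalk_nagata_res (k : Type u) [Field k] [IsAlgClosed k]
    (X : Scheme.{u}) [X.Over (Spec (CommRingCat.of k))]
    [LocallyOfFiniteType (X ↘ (Spec (CommRingCat.of k)))]
    (x : X) (hx : IsClosed ({x} : Set X)) :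
    CAlg.IsNagata (X.presheaf.stalk x) ∧
      Function.Bijective (algebraMap k (ResidueField (X.presheaf.stalk x))) := by
  obtain ⟨R, _, _, ι, _, hι, z, rfl⟩ := Groth.Agent.Lib.Helper6.BcBridge.exists_chart k X x
  -- finite type
  haveI hft : Algebra.FiniteType k R := by
    have h1 : LocallyOfFiniteType (ι ≫ (X ↘ (Spec (CommRingCat.of k)))) := inferInstance
    rw [hι] at h1
    have h2 := (HasRingHomProperty.Spec_iff (P := @LocallyOfFiniteType)).mp h1
    exact RingHom.finiteType_algebraMap.mp h2
  -- the point is closed in the chart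
  haveI hmax : z.asIdeal.IsMaximal := by
    rw [← PrimeSpectrum.isClosed_singleton_iff_isMaximal]
    have h1 : ({z} : Set (PrimeSpectrum R)) = ι.base ⁻¹' {ι.base z} := by
      ext w
      simp only [Set.mem_singleton_iff, Set.mem_preimage]
      exact ⟨fun h => by rw [h]; rfl, fun h => ι.isOpenEmbedding.injective h⟩
    rw [h1]
    exact hx.preimage ι.continuous
  let e := Groth.Agent.Lib.Helper6.BcBridge.stalkAlgEquiv k X ι hι z
  letI algRS : Algebra R (X.presheaf.stalk (ι z)) :=
    (e.symm.toRingEquiv.toRingHom.comp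
      (algebraMap R (Localization.AtPrime z.asIdeal))).toAlgebra
  have halg : ∀ r : R, algebraMap R (X.presheaf.stalk (ι z)) r =
      e.symm (algebraMap R (Localization.AtPrime z.asIdeal) r) := fun r => rfl
  let e' : Localization.AtPrime z.asIdeal ≃ₐ[R] X.presheaf.stalk (ι z) :=
    { e.symm.toRingEquiv with commutes' := fun r => rfl }
  haveI hloc : IsLocalization.AtPrime (X.presheaf.stalk (ι z)) z.asIdeal :=
    IsLocalization.isLocalization_of_algEquiv z.asIdeal.primeCompl e'
  refine ⟨Groth.Agent.Lib.Helper14.isNagata_of_isLocalization R z.asIdeal.primeCompl _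
    (Groth.Agent.Lib.Helper4.FieldJapanese.isNagata_of_finiteType_field k R), ?_⟩
  haveI : IsScalarTower k R (X.presheaf.stalk (ι z)) := IsScalarTower.of_algebraMap_eq (fun c => by
    rw [halg, ← IsScalarTower.algebraMap_apply k R (Localization.AtPrime z.asIdeal), e.symm.commutes])
  refine ⟨(algebraMap k (ResidueField (X.presheaf.stalk (ι z)))).injective, ?_⟩
  intro y
  obtain ⟨a, rfl⟩ := IsLocalRing.residue_surjective y
  let eq := IsLocalization.AtPrime.equivQuotMaximalIdeal z.asIdeal (X.presheaf.stalk (ι z))
  obtain ⟨r, hr⟩ := Ideal.Quotient.mk_surjective (eq.symm (Ideal.Quotient.mk _ a))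
  have h1 : eq (Ideal.Quotient.mk _ r) = Ideal.Quotient.mk _ a := by
    rw [hr, RingEquiv.apply_symm_apply]
  rw [IsLocalization.AtPrime.equivQuotMaximalIdeal_apply_mk, Ideal.Quotient.eq] at h1
  letI : Field (R ⧸ z.asIdeal) := Ideal.Quotient.field z.asIdeal
  haveI : Module.Finite k (R ⧸ z.asIdeal) := finite_of_finite_type_of_isJacobsonRing k (R ⧸ z.asIdeal)
  haveI : Algebra.IsIntegral k (R ⧸ z.asIdeal) := Algebra.IsIntegral.of_finite k (R ⧸ z.asIdeal)
  have hbij := IsAlgClosed.algebraMap_bijective_of_isIntegral (k := k) (K := R ⧸ z.asIdeal)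
  obtain ⟨c, hc⟩ := hbij.2 (Ideal.Quotient.mk z.asIdeal r)
  have h2 : algebraMap k R c - r ∈ z.asIdeal := by
    rw [← Ideal.Quotient.eq, ← hc]
    rfl
  refine ⟨c, ?_⟩
  rw [IsScalarTower.algebraMap_apply k (X.presheaf.stalk (ι z))
    (ResidueField (X.presheaf.stalk (ι z)))]
  show IsLocalRing.residue _ (algebraMap k (X.presheaf.stalk (ι z)) c) = IsLocalRing.residue _ a
  rw [← sub_eq_zero, ← map_sub, IsLocalRing.residue_eq_zero_iff]
  have h3 : algebraMap R (X.presheaf.stalk (ι z)) (algebraMap k R c - r) ∈
      maximalIdeal (X.presheaf.stalk (ι z)) :=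
    (IsLocalization.AtPrime.to_map_mem_maximal_iff (X.presheaf.stalk (ι z)) z.asIdeal _).mpr h2
  have h4 : algebraMap k (X.presheaf.stalk (ι z)) c - a =
      algebraMap R (X.presheaf.stalk (ι z)) (algebraMap k R c - r) +
        (algebraMap R (X.presheaf.stalk (ι z)) r - a) := by
    rw [map_sub, ← IsScalarTower.algebraMap_apply k R (X.presheaf.stalk (ι z))]
    ring
  rw [h4]
  exact Ideal.add_mem _ h3 h1

end Part2

section Part3

open IsLocalRing Groth.Agent.Lib.R2H1.McRing

section Core

theorem exists_ringEquiv_of_range_eq {A B V : Type*} [CommRing A] [CommRing B] [CommRing V]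
    (φ : A →+* V) (ψ : B →+* V) (hφ : Function.Injective φ) (hψ : Function.Injective ψ)
    (h : Set.range φ = Set.range ψ) : ∃ e : A ≃+* B, ∀ a, ψ (e a) = φ a := by
  have hex : ∀ a : A, ∃ b : B, ψ b = φ a := by
    intro a
    have : φ a ∈ Set.range ψ := by
      rw [← h]
      exact ⟨a, rfl⟩
    exact this
  choose f hf using hex
  have hex' : ∀ b : B, ∃ a : A, φ a = ψ b := by
    intro b
    have : ψ b ∈ Set.range φ := by
      rw [h]
      exact ⟨b, rfl⟩
    exact this
  choose g hg using hex'
  refine ⟨{ toFun := f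
            invFun := g
            left_inv := fun a => hφ (by rw [hg, hf])
            right_inv := fun b => hψ (by rw [hf, hg])
            map_mul' := fun a a' => hψ (by rw [map_mul, hf, hf, hf, map_mul])
            map_add' := fun a a' => hψ (by rw [map_add, hf, hf, hf, map_add]) }, hf⟩

variable (k : Type u) [Field k]

/-- `n = 0` is impossible -/
theorem false_of_zero (A : Type u) [CommRing A] [IsLocalRing A] [IsNoetherianRing A]
    (hdim : ringKrullDim A = 1)
    (e : AdicCompletion (maximalIdeal A) A ≃+* (MvPowerSeries (Fin 0) k ⧸ axesIdeal (Fin 0) k)) :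
    False := by
  have hC : ∀ f : MvPowerSeries (Fin 0) k, f = MvPowerSeries.C (MvPowerSeries.constantCoeff f) := by
    intro f
    ext d
    have hd : d = 0 := Subsingleton.elim _ _
    rw [hd, MvPowerSeries.coeff_zero_eq_constantCoeff_apply,
      MvPowerSeries.coeff_zero_eq_constantCoeff_apply, MvPowerSeries.constantCoeff_C]
  have hm : maximalIdeal (AdicCompletion (maximalIdeal A) A) = ⊥ := by
    rw [eq_bot_iff]
    intro y hy
    rw [Ideal.mem_bot]
    obtain ⟨f, hf⟩ := Ideal.Quotient.mk_surjective (e y)
    rw [hC f] at hf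
    by_cases hc : MvPowerSeries.constantCoeff f = 0
    · rw [hc, map_zero, map_zero] at hf
      exact (map_eq_zero_iff e e.injective).mp hf.symm
    · exfalso
      have hu : IsUnit (e y) := by
        rw [← hf]
        exact ((isUnit_iff_ne_zero.mpr hc).map MvPowerSeries.C).map (Ideal.Quotient.mk _)
      have hu' : IsUnit y := (isUnit_map_iff e y).mp hu
      exact (mem_maximalIdeal y).mp hy hu'
  haveI : Module.FaithfullyFlat A (AdicCompletion (maximalIdeal A) A) :=
    Module.FaithfullyFlat.of_flat_of_isLocalHom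
  have hinj : Function.Injective (algebraMap A (AdicCompletion (maximalIdeal A) A)) :=
    FaithfulSMul.algebraMap_injective A _
  have hmA : maximalIdeal A = ⊥ := by
    rw [eq_bot_iff]
    intro a ha
    rw [Ideal.mem_bot]
    apply hinj
    rw [map_zero]
    have h1 : algebraMap A (AdicCompletion (maximalIdeal A) A) a ∈
        maximalIdeal (AdicCompletion (maximalIdeal A) A) := by
      rw [AdicCompletion.maximalIdeal_eq_map]
      exact Ideal.mem_map_of_mem _ ha
    rw [hm] at h1
    exact h1
  have hfield : IsField A := IsLocalRing.isField_iff_maximalIdeal_eq.mpr hmA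
  rw [ringKrullDim_eq_zero_of_isField hfield] at hdim
  exact absurd hdim (by decide)

theorem core (A : Type u) [CommRing A] [IsLocalRing A] [IsReduced A]
    (hN : CAlg.IsNagata A) (hdim : ringKrullDim A = 1) (n : ℕ)
    (e : AdicCompletion (maximalIdeal A) A ≃+* (MvPowerSeries (Fin n) k ⧸ axesIdeal (Fin n) k)) :
    Brnch.numBranches A = n ∧ Curv2.deltaInv A + 1 = n := by
  haveI : IsNoetherianRing A := hN.1
  rcases Nat.eq_zero_or_pos n with hn0 | hnpos
  · subst hn0
    exact (false_of_zero k A hdim e).elim
  haveI : Nonempty (Fin n) := ⟨⟨0, hnpos⟩⟩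
  let φ : AdicCompletion (maximalIdeal A) A →+* (Fin n → PowerSeries k) :=
    (psi : (MvPowerSeries (Fin n) k ⧸ axesIdeal (Fin n) k) →+* _).comp e.toRingHom
  have hφinj : Function.Injective φ := psi_injective.comp e.injective
  have hφrange : Set.range φ = commonConst (Fin n) k := by
    rw [← range_psi]
    ext v
    constructor
    · rintro ⟨y, rfl⟩
      exact ⟨e y, rfl⟩
    · rintro ⟨y, rfl⟩
      exact ⟨e.symm y, by simp [φ]⟩
  obtain ⟨hfin, -, -⟩ := Groth.Agent.S7652.result A hN hdim
  have hδ := (Groth.Agent.Lib.R2H1.DeltaBC.main_7654 A hN hdim).2.2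
  have h1 := deltaInv_add_one φ hφinj hφrange
  rw [Fintype.card_fin] at h1
  have hδ' : Curv2.deltaInv A + 1 = n := by
    rw [← hδ]
    exact h1
  refine ⟨?_, hδ'⟩
  have h2 := Groth.Agent.Lib.R2H1.BrCompl.main_12529 A hdim hfin
  rw [ncard_minimalPrimes φ hφinj hφrange, Fintype.card_fin] at h2
  have hfinset : {P : Ideal (integralClosure A (FractionRing A)) | P.IsMaximal}.Finite := by
    apply Set.finite_of_ncard_pos
    rw [h2]
    exact hnpos
  have hfinMin : (minimalPrimes A).Finite := minimalPrimes.finite_of_isNoetherianRing A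
  unfold Brnch.numBranches
  rw [if_pos hfinMin, ← ENat.card_congr (Groth.Agent.Lib.R2H1.BrCompl.maxEquiv A)]
  show ENat.card ↥{P : Ideal (integralClosure A (FractionRing A)) | P.IsMaximal} = n
  rw [ENat.card_coe_set_eq, ← hfinset.cast_ncard_eq, h2]

end Core

end Part3

section Part4

open IsLocalRing Groth.Agent.Lib.R2H1.McRing

section Core2

variable (k : Type u) [Field k]

theorem core_11567 (A : Type u) [CommRing A] [IsLocalRing A] [Algebra k A] [IsReduced A]
    (hN : CAlg.IsNagata A) (hdim : ringKrullDim A = 1)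
    (hres : Function.Bijective (algebraMap k (IsLocalRing.ResidueField A)))
    (m : ℕ) (hm : Brnch.numBranches A = m) :
    (Curv2.deltaInv A + 1 = m ↔
      ∃ e : AdicCompletion (maximalIdeal A) A ≃+*
          (MvPowerSeries (Fin m) k ⧸ axesIdeal (Fin m) k),
        ∀ c : k, e (algebraMap A (AdicCompletion (maximalIdeal A) A) (algebraMap k A c)) =
          Ideal.Quotient.mk _ (MvPowerSeries.C c)) ∧
    (Curv2.deltaInv A + 1 = m →
      Module.finrank (IsLocalRing.ResidueField A) (IsLocalRing.CotangentSpace A) = m) := by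
  haveI : IsNoetherianRing A := hN.1
  have hmpos : Curv2.deltaInv A + 1 = m → 0 < m := by
    intro hδ
    rcases Nat.eq_zero_or_pos m with h0 | h0
    · exfalso
      rw [h0] at hδ
      simp at hδ
    · exact h0
  refine ⟨⟨?_, ?_⟩, ?_⟩
  · intro hδ
    haveI : Nonempty (Fin m) := ⟨⟨0, hmpos hδ⟩⟩
    obtain ⟨φ, hinj, hk, hrange⟩ :=
      Groth.Agent.Lib.R2H1.Multicross.main_12218 k A hdim hN hres m hm hδ
    obtain ⟨e, he⟩ := exists_ringEquiv_of_range_eq φ
      (psi : (MvPowerSeries (Fin m) k ⧸ axesIdeal (Fin m) k) →+* _) hinj psi_injective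
      (hrange.trans range_psi.symm)
    refine ⟨e, fun c => ?_⟩
    apply psi_injective (σ := Fin m) (k := k)
    rw [he, hk, psi_C]
    rfl
  · rintro ⟨e, -⟩
    exact (core k A hN hdim m e).2
  · intro hδ
    haveI : Nonempty (Fin m) := ⟨⟨0, hmpos hδ⟩⟩
    obtain ⟨φ, hinj, hk, hrange⟩ :=
      Groth.Agent.Lib.R2H1.Multicross.main_12218 k A hdim hN hres m hm hδ
    haveI : IsNoetherianRing (AdicCompletion (maximalIdeal A) A) :=
      Groth.Agent.Lib.Helper19.isNoetherianRing_adicCompletion _
    have h1 := finrank_cotangentSpace φ hinj hrange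
    rw [Fintype.card_fin] at h1
    rw [← IsLocalRing.spanFinrank_maximalIdeal_eq_finrank_cotangentSpace,
      ← AdicCompletion.spanFinrank_maximalIdeal_eq,
      IsLocalRing.spanFinrank_maximalIdeal_eq_finrank_cotangentSpace]
    exact h1

end Core2

end Part4

section Part5

open IsLocalRing Groth.Agent.Lib.R2H1.McRing AlgebraicGeometry CategoryTheory

section Main

theorem main_11568 (k : Type u) [Field k] [IsAlgClosed k]
    (X : Scheme.{u}) [X.Over (Spec (CommRingCat.of k))]
    [LocallyOfFiniteType (X ↘ (Spec (CommRingCat.of k)))] [IsReduced X]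
    (hequi : ∀ Z ∈ irreducibleComponents (X : Type u), topologicalKrullDim Z = 1)
    (x : X) (hx : IsClosed ({x} : Set X)) (n : ℕ)
    (e : Curv2.cpl (X.presheaf.stalk x) ≃+*
      (MvPowerSeries (Fin n) k ⧸ Ideal.span {f : MvPowerSeries (Fin n) k |
        ∃ i j : Fin n, i ≠ j ∧ f = MvPowerSeries.X i * MvPowerSeries.X j})) :
    Brnch.numBranchesAt X x = n ∧ Curv2.deltaInv (X.presheaf.stalk x) + 1 = n := by
  obtain ⟨hN, -⟩ := stalk_nagata_res k X x hx
  exact core k (X.presheaf.stalk x) hN (ringKrullDim_stalk X hequi x hx) n e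

theorem main_11567 (k : Type u) [Field k] [IsAlgClosed k]
    (X : Scheme.{u}) [X.Over (Spec (CommRingCat.of k))]
    [LocallyOfFiniteType (X ↘ (Spec (CommRingCat.of k)))] [IsReduced X]
    (hequi : ∀ Z ∈ irreducibleComponents (X : Type u), topologicalKrullDim Z = 1)
    (x : X) (hx : IsClosed ({x} : Set X)) (m : ℕ) (hm : Brnch.numBranchesAt X x = m) :
    (Curv2.deltaInv (X.presheaf.stalk x) + 1 = m ↔
      ∃ e : Curv2.cpl (X.presheaf.stalk x) ≃+*
          (MvPowerSeries (Fin m) k ⧸ Ideal.span {f : MvPowerSeries (Fin m) k |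
            ∃ i j : Fin m, i ≠ j ∧ f = MvPowerSeries.X i * MvPowerSeries.X j}),
        ∀ c : k, e (algebraMap (X.presheaf.stalk x) (Curv2.cpl (X.presheaf.stalk x))
          (Curv2.stalkMap k X x c)) = Ideal.Quotient.mk _ (MvPowerSeries.C c)) ∧
    (Curv2.deltaInv (X.presheaf.stalk x) + 1 = m →
      Module.finrank (IsLocalRing.ResidueField (X.presheaf.stalk x))
        (IsLocalRing.CotangentSpace (X.presheaf.stalk x)) = m) := by
  obtain ⟨hN, hres⟩ := stalk_nagata_res k X x hx
  letI := Curv2.stalkAlgebra k X x
  exact core_11567 k (X.presheaf.stalk x) hN (ringKrullDim_stalk X hequi x hx) hres m hm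

end Main

end Part5

end Groth.Agent.Lib.R2H1.McSch
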