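import Mathlib
import Groth.Agent.Lib.Helper8CurveBir
import Groth.Agent.Lib.Helper8ClImm
import Groth.Agent.Lib.Helper4CurveTop
import Groth.Agent.Lib.Helper4FibDimL
import Groth.Agent.Lib.R2H1McSch

set_option autoImplicit false
set_option linter.style.haveILetI false
universe u
open CategoryTheory CategoryTheory.Limits AlgebraicGeometry TopologicalSpace

namespace Groth.Agent.Lib.Helper8CurveEt

section Unram

variable {X Y : Scheme.{u}}

lemma formallyUnramified_stalkMap_iff {f : X ⟶ Y} {x : X} (U : Y.Opens)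
    (hU : IsAffineOpen U) (V : X.Opens) (hV : IsAffineOpen V) (hVU : V ≤ f ⁻¹ᵁ U)
    (hx : x ∈ V) :
    letI := (f.appLE U V hVU).hom.toAlgebra
    (f.stalkMap x).hom.FormallyUnramified ↔
      hV.primeIdealOf ⟨x, hx⟩ ∈ Algebra.unramifiedLocus Γ(Y, U) Γ(X, V) := by
  let := (f.appLE U V hVU).hom.toAlgebra
  let p := (hU.primeIdealOf ⟨f x, hVU hx⟩).asIdeal
  let q := (hV.primeIdealOf ⟨x, hx⟩).asIdeal
  have : q.LiesOver p :=
    ⟨congr($(IsAffineOpen.comap_primeIdealOf_appLE U hU V hV hVU hx).1).symm⟩
  let := Localization.AtPrime.algebraOfLiesOver p q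
  trans Algebra.FormallyUnramified (Localization.AtPrime p) (Localization.AtPrime q)
  · rw [← RingHom.formallyUnramified_algebraMap]
    exact RingHom.FormallyUnramified.respectsIso.arrow_mk_iso_iff
      (IsAffineOpen.arrowStalkMapIso f U hU V hV hVU hx)
  · constructor
    · intro _
      exact Algebra.FormallyUnramified.comp _ (Localization.AtPrime p) _
    · intro h
      haveI : Algebra.FormallyUnramified Γ(Y, U) (Localization.AtPrime q) := h
      exact .of_restrictScalars Γ(Y, U) _ _

set_option backward.defeqAttrib.useBackward true in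
set_option backward.isDefEq.respectTransparency false in
/-- a flat morphism locally of finite presentation whose stalk map at `x` is formally unramified
is étale on a neighbourhood of `x` -/
theorem exists_etale_of_unramified_flat (f : X ⟶ Y) [LocallyOfFinitePresentation f] [Flat f]
    (x : X) (H : (f.stalkMap x).hom.FormallyUnramified) :
    ∃ W : X.Opens, x ∈ W ∧ Etale (W.ι ≫ f) := by
  obtain ⟨_, ⟨U, hU, rfl⟩, hxU, -⟩ :=
    Y.isBasis_affineOpens.exists_subset_of_mem_open (Set.mem_univ (f x)) isOpen_univ
  obtain ⟨_, ⟨V, hV, rfl⟩, hxV, hVU⟩ :=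
    X.isBasis_affineOpens.exists_subset_of_mem_open hxU (U.2.preimage f.continuous)
  have hfp := f.finitePresentation_appLE hU hV hVU
  have hfl := f.flat_appLE hU hV hVU
  algebraize [(f.appLE U V hVU).hom]
  haveI : Algebra.IsUnramifiedAt Γ(Y, U) (hV.primeIdealOf ⟨x, hxV⟩).asIdeal :=
    (formallyUnramified_stalkMap_iff U hU V hV hVU hxV).mp H
  obtain ⟨r, hrx, hr⟩ := Algebra.exists_unramified_of_isUnramifiedAt (R := Γ(Y, U))
    (hV.primeIdealOf ⟨x, hxV⟩).asIdeal
  haveI : Module.Flat Γ(Y, U) (Localization.Away r) :=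
    Module.Flat.trans Γ(Y, U) Γ(X, V) (Localization.Away r)
  haveI : Algebra.FinitePresentation Γ(Y, U) (Localization.Away r) :=
    Algebra.FinitePresentation.trans Γ(Y, U) Γ(X, V) (Localization.Away r)
  have het : Algebra.Etale Γ(Y, U) (Localization.Away r) :=
    Algebra.Etale.of_formallyUnramified_of_flat
  have hxW : x ∈ X.basicOpen r := by
    rwa [← PrimeSpectrum.mem_basicOpen, IsAffineOpen.primeIdealOf,
      ← hV.fromSpec_preimage_basicOpen, Scheme.Hom.mem_preimage, ← Scheme.Hom.comp_apply,
      IsAffineOpen.isoSpec_hom, IsAffineOpen.toSpecΓ_fromSpec] at hrx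
  have hle : X.basicOpen r ≤ f ⁻¹ᵁ U := (X.basicOpen_le r).trans hVU
  have hring : (f.appLE U (X.basicOpen r) hle).hom.Etale := by
    have := hV.isLocalization_basicOpen r
    rw [← RingHom.etale_algebraMap] at het
    convert!
      RingHom.Etale.propertyIsLocal.respectsIso.1 _
        (IsLocalization.algEquiv (.powers r) _ Γ(X, X.basicOpen r)).toRingEquiv het
    ext
    dsimp
    simp only [IsScalarTower.algebraMap_apply Γ(Y, U) Γ(X, V) (Localization _),
      IsLocalization.map_eq]
    simp only [RingHom.algebraMap_toAlgebra, RingHomCompTriple.comp_apply,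
      ← ConcreteCategory.comp_apply, Scheme.Hom.appLE_map]
  refine ⟨X.basicOpen r, hxW, ?_⟩
  have hWaff : IsAffineOpen (X.basicOpen r) := hV.basicOpen r
  have : IsAffine _ := hWaff
  have : IsAffine _ := hU
  haveI : Etale (f.resLE U (X.basicOpen r) hle) := by
    rw [HasRingHomProperty.iff_of_isAffine (P := @Etale)]
    exact (RingHom.Etale.propertyIsLocal.respectsIso.arrow_mk_iso_iff
      (arrowResLEAppIso f U (X.basicOpen r) hle)).mpr hring
  rw [← Scheme.Hom.resLE_comp_ι f hle]
  infer_instance

end Unram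

section Curve

open IsLocalRing

variable {X Y : Scheme.{u}}

theorem ringKrullDim_stalk_eq_one [IsIntegral X] (hdX : topologicalKrullDim X = 1) (x : X)
    (hx : IsClosed ({x} : Set X)) : ringKrullDim (X.presheaf.stalk x) = 1 := by
  refine Groth.Agent.Lib.R2H1.McSch.ringKrullDim_stalk X ?_ x hx
  intro Z hZ
  rw [irreducibleComponents_eq_singleton] at hZ
  obtain rfl : Z = Set.univ := hZ
  rw [← hdX]
  exact IsHomeomorph.topologicalKrullDim_eq _ (Homeomorph.Set.univ X).isHomeomorph

theorem maximalIdeal_ne_bot [IsIntegral X] (hdX : topologicalKrullDim X = 1) (x : X)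
    (hx : IsClosed ({x} : Set X)) : maximalIdeal (X.presheaf.stalk x) ≠ ⊥ := by
  intro h
  have h1 := ringKrullDim_stalk_eq_one hdX x hx
  have hF : IsField (X.presheaf.stalk x) := IsLocalRing.isField_iff_maximalIdeal_eq.mpr h
  rw [ringKrullDim_eq_zero_of_isField hF] at h1
  exact zero_ne_one h1

theorem map_genericPoint_of_map_eq [IsIntegral X] [IsIntegral Y] (φ : X ⟶ Y)
    (hdY : topologicalKrullDim Y = 1) (x : X)
    (h : Ideal.map (φ.stalkMap x).hom (maximalIdeal (Y.presheaf.stalk (φ.base x))) =
      maximalIdeal (X.presheaf.stalk x))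
    (hne : maximalIdeal (X.presheaf.stalk x) ≠ ⊥) : φ (genericPoint X) = genericPoint Y := by
  by_contra hgen
  have hspX : genericPoint X ⤳ x := genericPoint_specializes x
  have hsp : φ (genericPoint X) ⤳ φ x := φ.base.hom.map_specializes hspX
  have hη : genericPoint Y ⤳ φ (genericPoint X) := genericPoint_specializes _
  have hdim : ringKrullDim (Y.presheaf.stalk (φ x)) ≤ 1 := by
    rw [← hdY]
    exact Groth.Agent.Lib.Helper4.FibDim.ringKrullDim_stalk_le_topologicalKrullDim Y (φ x)
  rcases Groth.Agent.Lib.Helper4.CurveTop.eq_or_eq_of_specializes_of_dim_le_one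
    (genericPoint Y) (φ (genericPoint X)) (φ x) hη hsp hdim with h1 | h1
  · exact hgen h1.symm
  · apply hne
    rw [← h, Ideal.map_eq_bot_iff_le_ker]
    intro a ha
    rw [RingHom.mem_ker]
    have hinj : Function.Injective (X.presheaf.stalkSpecializes hspX).hom :=
      Groth.Agent.Lib.Helper10.CurveFlat.stalkSpecializes_injective hspX
    apply hinj
    rw [map_zero]
    have h2 := Scheme.Hom.stalkSpecializes_stalkMap_apply φ _ _ hspX a
    refine h2.symm.trans ?_
    have hsp' : φ x ⤳ φ (genericPoint X) := specializes_of_eq h1.symm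
    have hu : ¬ IsUnit ((Y.presheaf.stalkSpecializes hsp).hom a) := by
      intro hu
      have h3 := hu.map (Y.presheaf.stalkSpecializes hsp').hom
      have h4 : (Y.presheaf.stalkSpecializes hsp').hom ((Y.presheaf.stalkSpecializes hsp).hom a)
          = a := by
        have := Y.presheaf.stalkSpecializes_comp hsp' hsp
        have h5 := congrArg (fun g => g.hom a) this
        simp only [TopCat.Presheaf.stalkSpecializes_refl] at h5
        exact h5
      rw [h4] at h3
      exact ha h3
    have hu2 : ¬ IsUnit ((φ.stalkMap (genericPoint X)).hom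
        ((Y.presheaf.stalkSpecializes hsp).hom a)) := fun h6 => hu (isUnit_of_map_unit _ _ h6)
    have : (φ.stalkMap (genericPoint X)).hom ((Y.presheaf.stalkSpecializes hsp).hom a) =
        (0 : X.functionField) := by
      by_contra h7
      exact hu2 (isUnit_iff_ne_zero.mpr h7)
    exact this

end Curve

section Main

open IsLocalRing Groth.Agent.Lib.Helper10.CurveFlat Groth.Agent.Lib.Helper8CurveBir

variable {X Y : Scheme.{u}} (φ : X ⟶ Y)

theorem map_maximalIdeal_of_formallyUnramified [LocallyOfFiniteType φ] (x : X)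
    (h : (φ.stalkMap x).hom.FormallyUnramified) :
    Ideal.map (φ.stalkMap x).hom (maximalIdeal (Y.presheaf.stalk (φ.base x))) =
      maximalIdeal (X.presheaf.stalk x) := by
  algebraize [(φ.stalkMap x).hom]
  haveI : IsLocalHom (algebraMap (Y.presheaf.stalk (φ x)) (X.presheaf.stalk x)) :=
    inferInstanceAs <| IsLocalHom (φ.stalkMap x).hom
  haveI : Algebra.EssFiniteType (Y.presheaf.stalk (φ x)) (X.presheaf.stalk x) := by
    rw [← RingHom.essFiniteType_algebraMap, RingHom.algebraMap_toAlgebra]
    exact LocallyOfFiniteType.stalkMap φ x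
  exact (Algebra.FormallyUnramified.iff_map_maximalIdeal_eq.mp
    (inferInstanceAs (Algebra.FormallyUnramified (Y.presheaf.stalk (φ x))
      (X.presheaf.stalk x)))).2

theorem formallyUnramified_of_map_maximalIdeal [LocallyOfFiniteType φ] (x : X)
    (hres : Function.Surjective (φ.residueFieldMap x).hom)
    (h : Ideal.map (φ.stalkMap x).hom (maximalIdeal (Y.presheaf.stalk (φ.base x))) =
      maximalIdeal (X.presheaf.stalk x)) :
    (φ.stalkMap x).hom.FormallyUnramified := by
  algebraize [(φ.stalkMap x).hom]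
  haveI : IsLocalHom (algebraMap (Y.presheaf.stalk (φ x)) (X.presheaf.stalk x)) :=
    inferInstanceAs <| IsLocalHom (φ.stalkMap x).hom
  haveI : Algebra.EssFiniteType (Y.presheaf.stalk (φ x)) (X.presheaf.stalk x) := by
    rw [← RingHom.essFiniteType_algebraMap, RingHom.algebraMap_toAlgebra]
    exact LocallyOfFiniteType.stalkMap φ x
  change Algebra.FormallyUnramified (Y.presheaf.stalk (φ x)) (X.presheaf.stalk x)
  rw [Algebra.FormallyUnramified.iff_map_maximalIdeal_eq]
  refine ⟨⟨fun s => ?_⟩, h⟩
  obtain ⟨r, hr⟩ := hres s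
  have hr' : algebraMap (ResidueField (Y.presheaf.stalk (φ x)))
      (ResidueField (X.presheaf.stalk x)) r = s := hr
  rw [← hr']
  exact isSeparable_algebraMap (F := ResidueField (Y.presheaf.stalk (φ x)))
    (K := ResidueField (X.presheaf.stalk x)) r

variable (k : Type u) [Field k] [IsAlgClosed k]
  (pX : X ⟶ Spec (CommRingCat.of k)) (pY : Y ⟶ Spec (CommRingCat.of k)) (w : φ ≫ pY = pX)
  [IsIntegral X] [LocallyOfFiniteType pX] [IsIntegral Y] [Smooth pY]

set_option backward.isDefEq.respectTransparency false in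
include w in
theorem etale_iff (hdX : topologicalKrullDim X = 1) (hdY : topologicalKrullDim Y = 1)
    (x : X) (hx : IsClosed ({x} : Set X)) :
    (∃ U : X.Opens, x ∈ U ∧ Etale (U.ι ≫ φ)) ↔
      Ideal.map (φ.stalkMap x).hom (maximalIdeal (Y.presheaf.stalk (φ.base x))) =
        maximalIdeal (X.presheaf.stalk x) := by
  haveI : LocallyOfFiniteType (φ ≫ pY) := w ▸ inferInstance
  haveI : LocallyOfFiniteType φ := locallyOfFiniteType_of_comp φ pY
  haveI : IsLocallyNoetherian Y := LocallyOfFiniteType.isLocallyNoetherian pY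
  haveI : LocallyOfFinitePresentation φ :=
    LocallyOfFinitePresentation.iff_locallyOfFiniteType.mpr inferInstance
  haveI : JacobsonSpace Y := LocallyOfFiniteType.jacobsonSpace pY
  constructor
  · rintro ⟨U, hxU, hE⟩
    haveI := hE
    obtain ⟨x', rfl⟩ : ∃ x' : U.toScheme, U.ι x' = x := ⟨⟨x, hxU⟩, rfl⟩
    haveI : AlgebraicGeometry.FormallyUnramified (U.ι ≫ φ) := inferInstance
    have h1 : ((U.ι ≫ φ).stalkMap x').hom.FormallyUnramified :=
      AlgebraicGeometry.FormallyUnramified.stalkMap (U.ι ≫ φ) x'
    simp only [Scheme.Hom.stalkMap_comp, CommRingCat.hom_comp,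
      RingHom.FormallyUnramified.respectsIso.cancel_right_isIso] at h1
    exact map_maximalIdeal_of_formallyUnramified φ _ h1
  · intro h
    have hne := maximalIdeal_ne_bot hdX x hx
    have hgen := map_genericPoint_of_map_eq φ hdY x h hne
    haveI : Flat φ := by
      rw [Flat.iff_flat_stalkMap]
      intro x'
      have := isDedekindDomain_stalk Y hdY.le (φ x') (isIntegrallyClosed_stalk k pY (φ x'))
      exact flat_of_injective_of_isDedekindDomain _ (stalkMap_injective_of_generic φ hgen x')
    have hy : IsClosed ({φ x} : Set Y) := φ.closePoints_subset_preimage_closedPoints hx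
    have hres := (Groth.Agent.Lib.Helper8ClImm.residueFieldMap_bijective k φ pY x hx hy).2
    exact exists_etale_of_unramified_flat φ x
      (formallyUnramified_of_map_maximalIdeal φ x hres h)

end Main

end Groth.Agent.Lib.Helper8CurveEt
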