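import Mathlib

namespace Groth.Agent.Lib.R2LeadSmoothPSA

universe u

open CategoryTheory CategoryTheory.Limits AlgebraicGeometry IsLocalRing

/-- base change of a family over `C` along a morphism from the spectrum of a local ring `R` with
fraction field `K`. -/
theorem of_phi (k : Type u) [Field k] (R K : Type u) [CommRing R] [Field K]
    (aug : R →+* k) (frac : R →+* K)
    (X : Scheme.{u}) (pX : X ⟶ Spec (CommRingCat.of k))
    (C : Scheme.{u}) (c : Spec (CommRingCat.of k) ⟶ C)
    (Y : Scheme.{u}) (π : Y ⟶ C) [Flat π] [IsProper π] (j : X ⟶ Y) (hsq : IsPullback j pX π c)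
    (η : C) (hgen : Smooth (π.fiberToSpecResidueField η))
    (φ : Spec (CommRingCat.of R) ⟶ C)
    (h1 : Spec.map (CommRingCat.ofHom aug) ≫ φ = c)
    (h2 : (Spec.map (CommRingCat.ofHom frac) ≫ φ) (closedPoint K) = η) :
    ∃ (P : Scheme.{u}) (p : P ⟶ Spec (CommRingCat.of R)) (_ : Flat p) (_ : IsProper p)
      (i : X ⟶ P),
      IsPullback i pX p (Spec.map (CommRingCat.ofHom aug)) ∧
      Smooth (pullback.snd p (Spec.map (CommRingCat.ofHom frac))) := by
  subst h2
  have hw : j ≫ π = (pX ≫ Spec.map (CommRingCat.ofHom aug)) ≫ φ := by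
    rw [hsq.w, Category.assoc, h1]
  refine ⟨pullback π φ, pullback.snd π φ, MorphismProperty.pullback_snd _ _ inferInstance,
    MorphismProperty.pullback_snd _ _ inferInstance,
    pullback.lift j (pX ≫ Spec.map (CommRingCat.ofHom aug)) hw, ?_, ?_⟩
  · refine IsPullback.of_right ?_ (pullback.lift_snd _ _ _) (IsPullback.of_hasPullback π φ)
    rw [pullback.lift_fst, h1]
    exact hsq
  · set r := Spec.map (CommRingCat.ofHom frac) with hr
    set g := r ≫ φ with hg
    have hfac := Scheme.descResidueField_stalkClosedPointTo_fromSpecResidueField K C g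
    set ρ := Scheme.descResidueField (Scheme.stalkClosedPointTo g) with hρ
    have hbig : IsPullback (pullback.fst (pullback.snd π φ) r ≫ pullback.fst π φ)
        (pullback.snd (pullback.snd π φ) r) π (r ≫ φ) :=
      IsPullback.paste_horiz (IsPullback.of_hasPullback (pullback.snd π φ) r)
        (IsPullback.of_hasPullback π φ)
    have hcomm : (pullback.fst (pullback.snd π φ) r ≫ pullback.fst π φ) ≫ π =
        (pullback.snd (pullback.snd π φ) r ≫ Spec.map ρ) ≫
          C.fromSpecResidueField (g (closedPoint K)) := by
      rw [hbig.w, Category.assoc, hfac]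
    have hpb : IsPullback (pullback.lift (pullback.fst (pullback.snd π φ) r ≫ pullback.fst π φ)
        (pullback.snd (pullback.snd π φ) r ≫ Spec.map ρ) hcomm)
        (pullback.snd (pullback.snd π φ) r)
        (π.fiberToSpecResidueField (g (closedPoint K))) (Spec.map ρ) := by
      refine IsPullback.of_right ?_ (pullback.lift_snd _ _ _)
        (IsPullback.of_hasPullback π (C.fromSpecResidueField (g (closedPoint K))))
      rw [pullback.lift_fst, hfac]
      exact hbig
    exact MorphismProperty.of_isPullback (P := @Smooth) hpb hgen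

end Groth.Agent.Lib.R2LeadSmoothPSA
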