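import Mathlib
import Groth.Agent.Lib.R2LeadSmoothPSA
import Groth.Agent.Lib.R2H1Multicross
import Groth.Agent.Lib.Helper6SmRegSch
import Groth.Agent.Lib.Helper8CurveEt

namespace Groth.Agent.Lib.R2LeadSmoothPSB

universe u

open CategoryTheory CategoryTheory.Limits AlgebraicGeometry IsLocalRing

/-- regular local domain of dimension one is a DVR -/
theorem isDVR_of_regular_dim_one (V : Type u) [CommRing V] [IsDomain V] [IsRegularLocalRing V]
    (hdim : ringKrullDim V = 1) : IsDiscreteValuationRing V := by
  have hnf : ¬ IsField V := fun h => by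
    rw [ringKrullDim_eq_zero_of_isField h] at hdim; exact zero_ne_one hdim
  have h1 := (IsRegularLocalRing.iff_finrank_cotangentSpace V).mp inferInstance
  rw [hdim] at h1
  have hfr : Module.finrank (ResidueField V) (CotangentSpace V) = 1 := by exact_mod_cast h1
  exact ((IsDiscreteValuationRing.TFAE V hnf).out 0 5).mpr hfr

theorem exists_phi (k : Type u) [Field k] [IsAlgClosed k] (C : Scheme.{u})
    (qC : C ⟶ Spec (CommRingCat.of k)) (c : Spec (CommRingCat.of k) ⟶ C)
    (hc : c ≫ qC = 𝟙 (Spec (CommRingCat.of k))) [IsIntegral C] [Smooth qC]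
    (hC : topologicalKrullDim C = 1) :
    ∃ φ : Spec (CommRingCat.of (PowerSeries k)) ⟶ C,
      Spec.map (CommRingCat.ofHom (PowerSeries.constantCoeff (R := k))) ≫ φ = c ∧
      (Spec.map (CommRingCat.ofHom (algebraMap (PowerSeries k) (FractionRing (PowerSeries k)))) ≫ φ)
        (closedPoint (FractionRing (PowerSeries k))) = genericPoint C := by
  classical
  have hxclosed : IsClosed ({c (closedPoint k)} : Set C) :=
    ((pointEquivClosedPoint qC) ⟨c, hc⟩).2
  have hχ : Spec.map (Scheme.stalkClosedPointTo c) ≫ C.fromSpecStalk (c (closedPoint k)) = c :=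
    Scheme.Spec_stalkClosedPointTo_fromSpecStalk c
  -- the `k`-algebra structure on the stalk
  let a : CommRingCat.of k ⟶ C.presheaf.stalk (c (closedPoint k)) :=
    (Scheme.ΓSpecIso (CommRingCat.of k)).inv ≫ qC.appTop ≫
      C.presheaf.germ ⊤ (c (closedPoint k)) trivial
  have haχ : a ≫ Scheme.stalkClosedPointTo c = 𝟙 _ := by
    have h1 := congrArg Scheme.Hom.appTop hc
    rw [Scheme.Hom.comp_appTop] at h1
    dsimp only [a]
    rw [Category.assoc, Category.assoc, Scheme.germ_stalkClosedPointTo]
    simp only [Iso.trans_hom, Functor.mapIso_hom, Iso.op_hom, eqToIso.hom]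
    change _ ≫ qC.appTop ≫ c.appTop ≫ _ ≫ _ = _
    rw [reassoc_of% h1]
    simp
  have haχ' : ∀ κ : k, (Scheme.stalkClosedPointTo c).hom (a.hom κ) = κ := fun κ =>
    congrArg (fun f => f.hom κ) haχ
  letI : Algebra k (C.presheaf.stalk (c (closedPoint k))) := a.hom.toAlgebra
  haveI : IsRegularLocalRing (C.presheaf.stalk (c (closedPoint k))) :=
    Groth.Agent.Lib.Helper6.SmRegSch.isRegularLocalRing_stalk_of_smooth_over_field k C qC _
  have hdim : ringKrullDim (C.presheaf.stalk (c (closedPoint k))) = 1 :=
    Groth.Agent.Lib.Helper8CurveEt.ringKrullDim_stalk_eq_one hC _ hxclosed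
  haveI : IsDiscreteValuationRing (C.presheaf.stalk (c (closedPoint k))) :=
    isDVR_of_regular_dim_one _ hdim
  have hres : ∀ v : C.presheaf.stalk (c (closedPoint k)), ∃ κ : k,
      v - algebraMap k (C.presheaf.stalk (c (closedPoint k))) κ ∈
        maximalIdeal (C.presheaf.stalk (c (closedPoint k))) := by
    intro v
    refine ⟨(Scheme.stalkClosedPointTo c).hom v, ?_⟩
    by_contra hnot
    have hu : IsUnit (v - algebraMap k (C.presheaf.stalk (c (closedPoint k)))
        ((Scheme.stalkClosedPointTo c).hom v)) := by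
      by_contra hnu
      exact hnot hnu
    have h2 := hu.map (Scheme.stalkClosedPointTo c).hom
    rw [map_sub] at h2
    have h3 : (Scheme.stalkClosedPointTo c).hom (algebraMap k (C.presheaf.stalk (c (closedPoint k)))
        ((Scheme.stalkClosedPointTo c).hom v)) = (Scheme.stalkClosedPointTo c).hom v :=
      haχ' _
    rw [h3, sub_self] at h2
    exact not_isUnit_zero h2
  obtain ⟨e⟩ := Groth.Agent.Lib.R2H1.Multicross.exists_algEquiv_powerSeries k
    (C.presheaf.stalk (c (closedPoint k))) hres
  let ψ : C.presheaf.stalk (c (closedPoint k)) →+* PowerSeries k :=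
    (e.symm : AdicCompletion (maximalIdeal (C.presheaf.stalk (c (closedPoint k))))
      (C.presheaf.stalk (c (closedPoint k))) →+* PowerSeries k).comp
      (algebraMap (C.presheaf.stalk (c (closedPoint k)))
        (AdicCompletion (maximalIdeal (C.presheaf.stalk (c (closedPoint k))))
          (C.presheaf.stalk (c (closedPoint k)))))
  have hψinj : Function.Injective ψ := by
    refine e.symm.injective.comp ?_
    exact AdicCompletion.of_injective _ _
  have hψk : ∀ κ : k, ψ (algebraMap k _ κ) = PowerSeries.C κ := by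
    intro κ
    change e.symm (algebraMap _ _ (algebraMap k _ κ)) = _
    rw [← IsScalarTower.algebraMap_apply, e.symm.commutes]
    rfl
  have hψm : ∀ m ∈ maximalIdeal (C.presheaf.stalk (c (closedPoint k))),
      PowerSeries.constantCoeff (ψ m) = 0 := by
    intro m hm
    by_contra hne
    have hu : IsUnit (ψ m) := PowerSeries.isUnit_iff_constantCoeff.mpr (IsUnit.mk0 _ hne)
    have hu2 : IsUnit (algebraMap (C.presheaf.stalk (c (closedPoint k)))
        (AdicCompletion (maximalIdeal (C.presheaf.stalk (c (closedPoint k))))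
          (C.presheaf.stalk (c (closedPoint k)))) m) := by
      have := hu.map e.toAlgHom.toRingHom
      simpa [ψ] using this
    exact hm (isUnit_of_map_unit _ m hu2)
  have hcomp : CommRingCat.ofHom ψ ≫ CommRingCat.ofHom (PowerSeries.constantCoeff (R := k)) =
      Scheme.stalkClosedPointTo c := by
    refine CommRingCat.hom_ext (RingHom.ext fun v => ?_)
    obtain ⟨κ, hκ⟩ := hres v
    change PowerSeries.constantCoeff (ψ v) = (Scheme.stalkClosedPointTo c).hom v
    have hv : v = algebraMap k _ κ + (v - algebraMap k _ κ) := by ring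
    have h4 : (Scheme.stalkClosedPointTo c).hom (v - algebraMap k _ κ) = 0 := by
      by_contra hne
      have hu := isUnit_of_map_unit (Scheme.stalkClosedPointTo c).hom _ (IsUnit.mk0 _ hne)
      exact hκ hu
    rw [hv, map_add, map_add, map_add, hψk, hψm _ hκ, h4]
    rw [PowerSeries.constantCoeff_C]
    exact congrArg (· + 0) (haχ' κ).symm
  refine ⟨Spec.map (CommRingCat.ofHom ψ) ≫ C.fromSpecStalk (c (closedPoint k)), ?_, ?_⟩
  · rw [← Category.assoc, ← Spec.map_comp, hcomp, hχ]
  · -- the image point in `Spec V`
    set z : Spec (C.presheaf.stalk (c (closedPoint k))) :=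
      (Spec.map (CommRingCat.ofHom ψ))
        ((Spec.map (CommRingCat.ofHom (algebraMap (PowerSeries k) (FractionRing (PowerSeries k)))))
          (closedPoint (FractionRing (PowerSeries k)))) with hz
    have hzbot : z.asIdeal = ⊥ := by
      rw [eq_bot_iff]
      intro v hv
      have h5 : algebraMap (PowerSeries k) (FractionRing (PowerSeries k)) (ψ v) ∈
          (closedPoint (FractionRing (PowerSeries k))).asIdeal := hv
      have h6 : (closedPoint (FractionRing (PowerSeries k))).asIdeal = ⊥ := by
        change maximalIdeal (FractionRing (PowerSeries k)) = ⊥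
        exact IsLocalRing.maximalIdeal_eq_bot
      rw [h6, Ideal.mem_bot] at h5
      have h7 : ψ v = 0 := (IsFractionRing.injective (PowerSeries k)
        (FractionRing (PowerSeries k))) (by rw [h5, map_zero])
      rw [Ideal.mem_bot]
      exact hψinj (by rw [h7, map_zero])
    change (C.fromSpecStalk (c (closedPoint k))) z = genericPoint C
    have hmem : genericPoint C ∈ Set.range (C.fromSpecStalk (c (closedPoint k))) := by
      rw [Scheme.range_fromSpecStalk]
      exact genericPoint_specializes _
    obtain ⟨z', hz'⟩ := hmem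
    have hzz' : z ⤳ z' := by
      refine (PrimeSpectrum.le_iff_specializes (R := C.presheaf.stalk (c (closedPoint k)))
        z z').mp ?_
      change z.asIdeal ≤ z'.asIdeal
      rw [hzbot]
      exact bot_le
    have h8 : (C.fromSpecStalk (c (closedPoint k))) z ⤳ genericPoint C := by
      rw [← hz']
      exact hzz'.map (C.fromSpecStalk (c (closedPoint k))).continuous
    exact (h8.antisymm (genericPoint_specializes _)).eq

theorem main
    (k : Type u) [Field k] [IsAlgClosed k]
    (X : Scheme.{u}) (pX : X ⟶ Spec (CommRingCat.of k))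
    (C : Scheme.{u}) (qC : C ⟶ Spec (CommRingCat.of k)) (c : Spec (CommRingCat.of k) ⟶ C)
    (hc : c ≫ qC = 𝟙 (Spec (CommRingCat.of k))) [IsIntegral C] [Smooth qC]
    (hC : topologicalKrullDim C = 1)
    (Y : Scheme.{u}) (π : Y ⟶ C) [Flat π] [IsProper π] (j : X ⟶ Y) (hsq : IsPullback j pX π c)
    (hgen : Smooth (π.fiberToSpecResidueField (genericPoint C))) :
    ∃ (P : Scheme.{u}) (p : P ⟶ Spec (CommRingCat.of (PowerSeries k))) (_ : Flat p) (_ : IsProper p)
      (i : X ⟶ P),
      IsPullback i pX p (Spec.map (CommRingCat.ofHom (PowerSeries.constantCoeff (R := k)))) ∧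
      Smooth (pullback.snd p
        (Spec.map (CommRingCat.ofHom (algebraMap (PowerSeries k) (FractionRing (PowerSeries k)))))) := by
  obtain ⟨φ, h1, h2⟩ := exists_phi k C qC c hc hC
  exact Groth.Agent.Lib.R2LeadSmoothPSA.of_phi k (PowerSeries k) (FractionRing (PowerSeries k))
    (PowerSeries.constantCoeff (R := k)) (algebraMap (PowerSeries k) (FractionRing (PowerSeries k)))
    X pX C c Y π j hsq (genericPoint C) hgen φ h1 h2

end Groth.Agent.Lib.R2LeadSmoothPSB
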