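import Mathlib
import Groth.Prelude.Def_BlowUp2
import Groth.Agent.Lib.Helper6SmRegSch
import Groth.Agent.Lib.Helper8CurveEt
import Groth.Agent.Lib.R2LeadSmoothPSB
import Groth.Agent.Lib.Helper20AbsCurve
import Groth.Agent.Lib.H9SteinH0
import Groth.Agent.Lib.Helper10RedInd
import Groth.Agent.Lib.R2H2AffPushLin
import Groth.Agent.Lib.R2H2ProperFin
import Groth.Agent.Lib.R2H1DegCartier
set_option backward.isDefEq.respectTransparency.types false

/-!
helper1 (run 2): regular closed points on curves. isRegularLocalRing_stalk_of_mem_smoothLocus (points of the smooth locus over a field have regular local rings), exists_closed_dvr_mem_open (perfect field, integral dim-1 loc. finite type: every nonempty open has a closed point with DVR local ring), exists_mul_mem_span, isEffCartier_vanishingIdeal_singleton (ideal sheaf of a closed DVR point is effective Cartier), finrank_H0_structure_eq_one (integral proper over alg closed k: h0(O)=1), isIntegral_subscheme_point, finrank_H0_quotMod_point (h0 of the structure sheaf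 of a closed point = 1 over alg closed k).
-/

set_option autoImplicit false
set_option linter.style.haveILetI false
set_option linter.unusedSectionVars false
universe u v

open CategoryTheory CategoryTheory.Limits AlgebraicGeometry TopologicalSpace Opposite

namespace Groth.Agent.Lib.R2H1.RegPoint

section Part1

/-- points of the smooth locus over a field have regular local rings -/
theorem isRegularLocalRing_stalk_of_mem_smoothLocus (k : Type u) [Field k] (X : Scheme.{u})
    (f : X ⟶ Spec (CommRingCat.of k)) [LocallyOfFinitePresentation f] (x : X)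
    (hx : x ∈ f.smoothLocus) : IsRegularLocalRing (X.presheaf.stalk x) := by
  have h1 : (f.smoothLocus.ι ≫ f).smoothLocus = ⊤ := by
    rw [← Scheme.Hom.preimage_smoothLocus_eq]
    exact f.smoothLocus.ι_preimage_self
  haveI : Smooth (f.smoothLocus.ι ≫ f) := Scheme.Hom.smoothLocus_eq_top_iff.mp h1
  haveI := Groth.Agent.Lib.Helper6.SmRegSch.isRegularLocalRing_stalk_of_smooth_over_field k
    f.smoothLocus (f.smoothLocus.ι ≫ f) ⟨x, hx⟩
  exact IsRegularLocalRing.of_ringEquiv
    (f.smoothLocus.stalkIso ⟨x, hx⟩).commRingCatIsoToRingEquiv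

/-- over a perfect field, every nonempty open of an integral curve of finite type contains a
closed point whose local ring is a discrete valuation ring -/
theorem exists_closed_dvr_mem_open (k : Type u) [Field k] [PerfectField k] (X : Scheme.{u})
    [IsIntegral X] (f : X ⟶ Spec (CommRingCat.of k)) [LocallyOfFiniteType f]
    (hdim : topologicalKrullDim X = 1) (W : X.Opens) (hW : (W : Set X).Nonempty) :
    ∃ x : X, x ∈ W ∧ IsClosed ({x} : Set X) ∧ IsDiscreteValuationRing (X.presheaf.stalk x) := by
  haveI : LocallyOfFinitePresentation f :=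
    LocallyOfFinitePresentation.iff_locallyOfFiniteType.mpr inferInstance
  haveI : JacobsonSpace X := LocallyOfFiniteType.jacobsonSpace f
  have hgen : genericPoint X ∈ f.smoothLocus :=
    Scheme.Hom.genericPoint_mem_smoothLocus_of_perfectField f
  have hne : ((W ⊓ f.smoothLocus : X.Opens) : Set X).Nonempty := by
    obtain ⟨w, hw⟩ := hW
    refine ⟨genericPoint X, ?_, hgen⟩
    exact (genericPoint_spec X).specializes (Set.mem_univ w) |>.mem_open W.isOpen hw
  obtain ⟨x, ⟨hxW, hxS⟩, hxc⟩ := nonempty_inter_closedPoints hne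
    (W ⊓ f.smoothLocus).isOpen.isLocallyClosed
  refine ⟨x, hxW, hxc, ?_⟩
  haveI := isRegularLocalRing_stalk_of_mem_smoothLocus k X f x hxS
  exact Groth.Agent.Lib.R2LeadSmoothPSB.isDVR_of_regular_dim_one _
    (Groth.Agent.Lib.Helper8CurveEt.ringKrullDim_stalk_eq_one hdim x hxc)

end Part1

section Part2

/-- algebra: in a noetherian domain `A` with a prime `p` whose localization has principal maximal
ideal generated by the image of `a`, some `g ∉ p` multiplies `p` into `(a)` -/
theorem exists_mul_mem_span {A B : Type*} [CommRing A] [IsDomain A] [IsNoetherianRing A]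
    [CommRing B] [Algebra A B] (p : Ideal A) [p.IsPrime] [IsLocalization.AtPrime B p]
    [IsLocalRing B] (a : A)
    (ha : IsLocalRing.maximalIdeal B = Ideal.span {algebraMap A B a}) :
    ∃ g : A, g ∉ p ∧ ∀ b ∈ p, g * b ∈ Ideal.span ({a} : Set A) := by
  classical
  have hinj : Function.Injective (algebraMap A B) :=
    IsLocalization.injective B (Ideal.primeCompl_le_nonZeroDivisors p)
  have h1 : ∀ b ∈ p, ∃ t : A, t ∉ p ∧ t * b ∈ Ideal.span ({a} : Set A) := by
    intro b hb
    have hb' : algebraMap A B b ∈ IsLocalRing.maximalIdeal B :=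
      (IsLocalization.AtPrime.to_map_mem_maximal_iff B p b).mpr hb
    rw [ha] at hb'
    obtain ⟨c, hc⟩ := Ideal.mem_span_singleton'.mp hb'
    obtain ⟨⟨c', t⟩, hct⟩ := IsLocalization.surj p.primeCompl c
    refine ⟨t.1, t.2, Ideal.mem_span_singleton'.mpr ⟨c', hinj ?_⟩⟩
    rw [map_mul, map_mul, ← hct, ← hc]
    ring
  obtain ⟨S, hS⟩ := (isNoetherianRing_iff_ideal_fg A).mp inferInstance p
  have hSp : ∀ b ∈ S, b ∈ p := fun b hb => hS ▸ Ideal.subset_span hb
  choose! t ht1 ht2 using h1
  refine ⟨∏ b ∈ S, t b, ?_, ?_⟩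
  · intro h
    obtain ⟨b, hbS, hb⟩ := (Ideal.IsPrime.prod_mem_iff).mp h
    exact ht1 b (hSp b hbS) hb
  · intro b hb
    have hle : p ≤ Submodule.comap (LinearMap.mulLeft A (∏ b ∈ S, t b))
        (Ideal.span ({a} : Set A)) := by
      rw [← hS]
      refine Ideal.span_le.mpr fun b hbS => ?_
      show (∏ b ∈ S, t b) * b ∈ Ideal.span ({a} : Set A)
      obtain ⟨r, hr⟩ := Finset.dvd_prod_of_mem t hbS
      rw [hr, mul_comm (t b) r, mul_assoc]
      exact Ideal.mul_mem_left _ _ (ht2 b (hSp b hbS))
    exact hle hb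


open Groth.Agent.Lib.Helper20.AbsCurve in
/-- the ideal sheaf of a closed point with DVR local ring on an integral locally noetherian scheme
is an effective Cartier divisor -/
theorem isEffCartier_vanishingIdeal_singleton (X : Scheme.{u}) [IsIntegral X]
    [IsLocallyNoetherian X] (x : X) (hx : IsClosed ({x} : Set X))
    [IsDiscreteValuationRing (X.presheaf.stalk x)] :
    BlowUp.IsEffCartierIdeal (Scheme.IdealSheafData.vanishingIdeal ⟨{x}, hx⟩) := by
  intro y
  by_cases hy : y = x
  · subst hy
    obtain ⟨U, hU₀, hxU, -⟩ :=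
      (Opens.isBasis_iff_nbhd.mp X.isBasis_affineOpens) (Opens.mem_top y)
    have hU : IsAffineOpen U := hU₀
    haveI : Nonempty U := ⟨⟨y, hxU⟩⟩
    haveI : IsNoetherianRing Γ(X, U) := IsLocallyNoetherian.component_noetherian ⟨U, hU⟩
    letI : Algebra Γ(X, U) (X.presheaf.stalk y) :=
      TopCat.Presheaf.algebra_section_stalk X.presheaf ⟨y, hxU⟩
    haveI : IsLocalization.AtPrime (X.presheaf.stalk y) (hU.primeIdealOf ⟨y, hxU⟩).asIdeal :=
      hU.isLocalization_stalk ⟨y, hxU⟩
    -- the ideal over `U` is the prime of `y`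
    have hid : (Scheme.IdealSheafData.vanishingIdeal ⟨{y}, hx⟩).ideal ⟨U, hU⟩ =
        (hU.primeIdealOf ⟨y, hxU⟩).asIdeal := by
      rw [Scheme.IdealSheafData.vanishingIdeal_ideal]
      have : (hU.fromSpec ⁻¹' ((⟨{y}, hx⟩ : Closeds X) : Set X)) = {hU.primeIdealOf ⟨y, hxU⟩} := by
        ext q
        simp only [Set.mem_preimage, Closeds.coe_mk, Set.mem_singleton_iff]
        constructor
        · intro h
          exact hU.fromSpec.isOpenEmbedding.injective
            (h.trans (hU.fromSpec_primeIdealOf ⟨y, hxU⟩).symm)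
        · rintro rfl
          exact hU.fromSpec_primeIdealOf ⟨y, hxU⟩
      exact (congrArg PrimeSpectrum.vanishingIdeal this).trans
        (PrimeSpectrum.vanishingIdeal_singleton _)
    -- a uniformizer coming from `Γ(X, U)`
    obtain ⟨ϖ, hϖ⟩ := IsDiscreteValuationRing.exists_irreducible (X.presheaf.stalk y)
    have hmax : IsLocalRing.maximalIdeal (X.presheaf.stalk y) = Ideal.span {ϖ} :=
      hϖ.maximalIdeal_eq
    obtain ⟨⟨a, s⟩, has⟩ :=
      IsLocalization.surj (hU.primeIdealOf ⟨y, hxU⟩).asIdeal.primeCompl ϖ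
    have hsu : IsUnit (algebraMap Γ(X, U) (X.presheaf.stalk y) s.1) :=
      IsLocalization.map_units _ s
    have hmax' : IsLocalRing.maximalIdeal (X.presheaf.stalk y) =
        Ideal.span {algebraMap Γ(X, U) (X.presheaf.stalk y) a} := by
      rw [hmax, ← has]
      exact (Ideal.span_singleton_mul_right_unit hsu ϖ).symm
    have hap : a ∈ (hU.primeIdealOf ⟨y, hxU⟩).asIdeal := by
      rw [← IsLocalization.AtPrime.to_map_mem_maximal_iff (X.presheaf.stalk y)
        (hU.primeIdealOf ⟨y, hxU⟩).asIdeal a, hmax']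
      exact Ideal.subset_span rfl
    have ha0 : a ≠ 0 := by
      rintro rfl
      rw [map_zero, Ideal.span_singleton_zero] at hmax'
      exact IsDiscreteValuationRing.not_a_field _ hmax'
    obtain ⟨g, hgp, hg⟩ := @exists_mul_mem_span Γ(X, U) (X.presheaf.stalk y) _ _ _ _ _
      (hU.primeIdealOf ⟨y, hxU⟩).asIdeal _ (hU.isLocalization_stalk ⟨y, hxU⟩) _ a hmax'
    have hyg : y ∈ X.basicOpen g :=
      (Groth.Agent.Lib.Helper2.mem_basicOpen_iff_notMem_primeIdealOf hU y hxU g).2 hgp
    haveI : Nonempty (X.basicOpen g) := ⟨⟨y, hyg⟩⟩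
    haveI : IsDomain Γ(X, (X.affineBasicOpen (U := ⟨U, hU⟩) g).1) :=
      inferInstanceAs (IsDomain Γ(X, X.basicOpen g))
    refine ⟨X.affineBasicOpen (U := ⟨U, hU⟩) g, hyg, X.presheaf.map (homOfLE (X.basicOpen_le g)).op a, ?_, ?_⟩
    · apply mem_nonZeroDivisors_of_ne_zero
      intro h0
      exact ha0 (map_injective_of_isIntegral X (homOfLE (X.basicOpen_le g))
        (h0.trans (map_zero _).symm))
    · rw [← (Scheme.IdealSheafData.vanishingIdeal ⟨{y}, hx⟩).map_ideal_basicOpen ⟨U, hU⟩ g, hid]
      apply le_antisymm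
      · refine Ideal.map_le_iff_le_comap.mpr ?_
        intro b hb
        obtain ⟨c, hc⟩ := Ideal.mem_span_singleton'.mp (hg b hb)
        have hu : IsUnit ((X.presheaf.map (homOfLE (X.basicOpen_le g)).op).hom g) :=
          RingedSpace.isUnit_res_basicOpen X.toRingedSpace g
        rw [Ideal.mem_comap]
        have h2 := congrArg (X.presheaf.map (homOfLE (X.basicOpen_le g)).op).hom hc
        rw [map_mul, map_mul] at h2
        obtain ⟨v, hv⟩ := hu
        have h3 : (X.presheaf.map (homOfLE (X.basicOpen_le g)).op).hom b =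
            (↑v⁻¹ * (X.presheaf.map (homOfLE (X.basicOpen_le g)).op).hom c) *
              (X.presheaf.map (homOfLE (X.basicOpen_le g)).op).hom a := by
          rw [mul_assoc, h2, ← hv, ← mul_assoc, Units.inv_mul, one_mul]
        rw [h3]
        exact Ideal.mem_span_singleton'.mpr ⟨_, rfl⟩
      · rw [Ideal.span_le, Set.singleton_subset_iff]
        exact Ideal.mem_map_of_mem _ hap
  · have hyV : y ∈ (⟨({x} : Set X)ᶜ, hx.isOpen_compl⟩ : X.Opens) := hy
    obtain ⟨U, hU₀, hyU, hle⟩ :=
      (Opens.isBasis_iff_nbhd.mp X.isBasis_affineOpens) hyV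
    have hU : IsAffineOpen U := hU₀
    refine ⟨⟨U, hU⟩, hyU, 1, one_mem _, ?_⟩
    rw [Scheme.IdealSheafData.vanishingIdeal_ideal]
    have : (hU.fromSpec ⁻¹' ((⟨{x}, hx⟩ : Closeds X) : Set X)) = ∅ := by
      ext q
      simp only [Set.mem_preimage, Closeds.coe_mk, Set.mem_singleton_iff, Set.mem_empty_iff_false,
        iff_false]
      intro h
      have hq : hU.fromSpec q ∈ U := by
        have := hU.range_fromSpec
        have h2 : hU.fromSpec q ∈ Set.range hU.fromSpec := ⟨q, rfl⟩
        rw [this] at h2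
        exact h2
      rw [h] at hq
      exact hle hq rfl
    exact ((congrArg PrimeSpectrum.vanishingIdeal this).trans
      PrimeSpectrum.vanishingIdeal_empty).trans Ideal.span_singleton_one.symm

end Part2

section Part3

open Groth.Agent.Lib.H9SteinH0 Groth.Agent.Lib.H9SteinConn Groth.Agent.Lib.H9NormFin in
/-- an integral proper scheme over an algebraically closed field has only constant functions -/
theorem finrank_H0_structure_eq_one (k : Type u) [Field k] [IsAlgClosed k] (Z : Scheme.{u})
    [Z.Over (Spec (CommRingCat.of k))] [IsProper (Z ↘ (Spec (CommRingCat.of k)))] [IsIntegral Z] :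
    Module.finrank k (Coh.HH Z (Coh.structureModule Z) 0) = 1 := by
  letI := algΓ k (Z ↘ Spec (CommRingCat.of k))
  rw [(hh0LinearEquiv k Z).finrank_eq]
  haveI : Module.Finite k Γ(Z, ⊤) := finite_toGlobal k (Z ↘ Spec (CommRingCat.of k))
  haveI : Algebra.IsIntegral k Γ(Z, ⊤) := Algebra.IsIntegral.of_finite k _
  have hbij : Function.Bijective (algebraMap k Γ(Z, ⊤)) :=
    IsAlgClosed.algebraMap_bijective_of_isIntegral
  have := (LinearEquiv.ofBijective (Algebra.linearMap k Γ(Z, ⊤)) hbij).finrank_eq
  rw [← this, Module.finrank_self]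

/-- the reduced closed subscheme on a closed point is integral -/
theorem isIntegral_subscheme_point (X : Scheme.{u}) (x : X) (hx : IsClosed ({x} : Set X)) :
    IsIntegral (Scheme.IdealSheafData.vanishingIdeal ⟨{x}, hx⟩).subscheme := by
  haveI := Groth.Agent.Lib.Helper10.RedInd.isReduced_subscheme_vanishingIdeal
    (⟨{x}, hx⟩ : Closeds X)
  have hrange : Set.range ⇑(Scheme.IdealSheafData.vanishingIdeal ⟨{x}, hx⟩).subschemeι = {x} := by
    rw [Scheme.IdealSheafData.range_subschemeι]
    rfl
  have hinj := (Scheme.IdealSheafData.vanishingIdeal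
    ⟨{x}, hx⟩).subschemeι.isClosedEmbedding.isEmbedding.injective
  haveI : Subsingleton (Scheme.IdealSheafData.vanishingIdeal ⟨{x}, hx⟩).subscheme :=
    ⟨fun a b => hinj (by
      have ha : (Scheme.IdealSheafData.vanishingIdeal ⟨{x}, hx⟩).subschemeι a ∈ ({x} : Set X) :=
        hrange.le ⟨a, rfl⟩
      have hb : (Scheme.IdealSheafData.vanishingIdeal ⟨{x}, hx⟩).subschemeι b ∈ ({x} : Set X) :=
        hrange.le ⟨b, rfl⟩
      exact ha.trans hb.symm)⟩
  haveI : Nonempty (Scheme.IdealSheafData.vanishingIdeal ⟨{x}, hx⟩).subscheme := by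
    have : x ∈ Set.range ⇑(Scheme.IdealSheafData.vanishingIdeal ⟨{x}, hx⟩).subschemeι := by
      rw [hrange]; rfl
    obtain ⟨z, -⟩ := this
    exact ⟨z⟩
  haveI : IrreducibleSpace (Scheme.IdealSheafData.vanishingIdeal ⟨{x}, hx⟩).subscheme :=
    { toPreirreducibleSpace := inferInstance, toNonempty := inferInstance }
  exact isIntegral_of_irreducibleSpace_of_isReduced _

/-- over an algebraically closed field the structure sheaf of a closed point has a
one-dimensional space of sections -/
theorem finrank_H0_quotMod_point (k : Type u) [Field k] [IsAlgClosed k] (X : Scheme.{u})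
    [X.Over (Spec (CommRingCat.of k))] [IsProper (X ↘ (Spec (CommRingCat.of k)))]
    (x : X) (hx : IsClosed ({x} : Set X)) :
    Module.finrank k
      (Coh.HH X (ClSub.quotMod (Scheme.IdealSheafData.vanishingIdeal ⟨{x}, hx⟩)) 0) = 1 := by
  haveI : CompactSpace X :=
    QuasiCompact.compactSpace_of_compactSpace (X ↘ Spec (CommRingCat.of k))
  letI : (Scheme.IdealSheafData.vanishingIdeal ⟨{x}, hx⟩).subscheme.Over
      (Spec (CommRingCat.of k)) :=
    ⟨(Scheme.IdealSheafData.vanishingIdeal ⟨{x}, hx⟩).subschemeι ≫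
      (X ↘ Spec (CommRingCat.of k))⟩
  haveI : IsProper ((Scheme.IdealSheafData.vanishingIdeal ⟨{x}, hx⟩).subscheme ↘
      Spec (CommRingCat.of k)) :=
    inferInstanceAs (IsProper ((Scheme.IdealSheafData.vanishingIdeal ⟨{x}, hx⟩).subschemeι ≫
      (X ↘ Spec (CommRingCat.of k))))
  haveI := isIntegral_subscheme_point X x hx
  obtain ⟨ι, hfin, V, hcov, hVa, hV⟩ :=
    Groth.Agent.Lib.R2H2.ProperFin.exists_affine_cover_of_isSeparated
      (X ↘ Spec (CommRingCat.of k))
  obtain ⟨e⟩ := Groth.Agent.Lib.R2H2.AffPushLin.exists_push_linear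
    (Scheme.IdealSheafData.vanishingIdeal ⟨{x}, hx⟩).subschemeι V k rfl hcov hV
    (Coh.structureModule (Scheme.IdealSheafData.vanishingIdeal ⟨{x}, hx⟩).subscheme)
    (Groth.Agent.Lib.R2H1.GenusLe.isCoh_structureModule _).1 0
  rw [← e.finrank_eq]
  exact finrank_H0_structure_eq_one k _

end Part3

end Groth.Agent.Lib.R2H1.RegPoint
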