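/-
Degree comparison for a generically-iso mono of coherent modules on an integral proper curve (S15028): chi(F) = chi(E) + h^0(coker), h^0(coker) = 0 iff iso; cohomology of a zero object vanishes.
-/
import Mathlib
import Groth.Prelude
import Groth.Agent.Lib.R2H1CurveDegSec

set_option autoImplicit false
set_option linter.style.haveILetI false
set_option linter.unusedSectionVars false
universe u v

namespace Groth.Agent.Lib.R2H1.TFDeg

section Part1

open CategoryTheory CategoryTheory.Limits AlgebraicGeometry TopologicalSpace Opposite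
open Groth.Agent.Lib.R2H1.EulerAdd Groth.Agent.Lib.R2H1.ZeroDimCoh Groth.Agent.Lib.R2H1.CurveDegSec
open Groth.Agent.Lib.R2H2.HHLin

variable (k : Type u) [Field k] (X : Scheme.{u}) [X.Over (Spec (CommRingCat.of k))]
    [IsProper (X ↘ (Spec (CommRingCat.of k)))]

/-- cohomology of a zero object vanishes -/
theorem subsingleton_HH_of_isZero (Q : X.Modules) (hQ : IsZero Q) (i : ℕ) :
    Subsingleton (Coh.HH X Q i) := by
  refine subsingleton_of_forall_eq 0 fun x => ?_
  have h1 : HmapL (𝟙 Q) i x = x := by rw [HmapL_id]
  have h2 : (𝟙 Q : Q ⟶ Q) = 0 := hQ.eq_of_src _ _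
  rw [h2, HmapL_zero] at h1
  exact h1.symm

variable [IsIntegral X]

/-- general form: a mono of coherent modules on an integral proper curve whose cokernel vanishes at
the generic point. -/
theorem main' (hdim : topologicalKrullDim X = 1) (E F : X.Modules) (hE : Coh.IsCoh E)
    (hF : Coh.IsCoh F) (f : E ⟶ F) [Mono f]
    (hgen : Subsingleton ((cokernel f).presheaf.stalk (genericPoint X))) :
    Curv2.euler k X F =
        Curv2.euler k X E + (Module.finrank k (Coh.HH X (cokernel f) 0) : ℤ) ∧
      (Module.finrank k (Coh.HH X (cokernel f) 0) = 0 ↔ IsIso f) := by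
  have hQc : Coh.IsCoh (cokernel f) := Groth.Agent.Lib.R2H2.NilFilt.isCoh_cokernel hE hF f
  have hcl : IsClosed (CohB1.support (cokernel f)) := Groth.Agent.S0020.result X _ hQc.2
  have hne : CohB1.support (cokernel f) ≠ Set.univ := by
    intro h
    have : genericPoint X ∈ CohB1.support (cokernel f) := h ▸ Set.mem_univ _
    exact this hgen
  have hsupp : topologicalKrullDim (CohB1.support (cokernel f)) ≤ 0 :=
    dim_le_zero_of_ne_univ hdim.le _ hcl hne
  let S : ShortComplex X.Modules := ShortComplex.mk f (cokernel.π f) (cokernel.condition f)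
  have hS : S.ShortExact :=
    { exact := ShortComplex.exact_cokernel f
      mono_f := inferInstanceAs (Mono f)
      epi_g := inferInstanceAs (Epi (cokernel.π f)) }
  refine ⟨?_, fun h0 => ?_, fun hiso => ?_⟩
  · have h := s1524 k X S hS hE hF hQc
    rw [euler_eq_h0 k X (cokernel f) hQc hsupp] at h
    exact h
  · have hzero : cokernel.π f = 0 := by
      refine Scheme.Modules.hom_ext _ _ fun U => ?_
      ext l
      haveI := subsingleton_sections_of_h0 k X (cokernel f) hQc hsupp h0 U
      exact Subsingleton.elim _ _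
    haveI : Epi f := Abelian.epi_of_cokernel_π_eq_zero f hzero
    exact isIso_of_mono_of_epi f
  · haveI := hiso
    haveI := subsingleton_HH_of_isZero X (cokernel f) (isZero_cokernel_of_epi f) 0
    exact Module.finrank_zero_of_subsingleton

theorem s15028 (hdim : topologicalKrullDim X = 1) (E F : X.Modules) (hEc : Coh.IsCoh E)
    (hFc : Coh.IsCoh F) (n : ℕ) (f : E ⟶ F) [Mono f]
    (hgen : Subsingleton ((cokernel f).presheaf.stalk (genericPoint X))) :
    Curv2.deg k X E n ≤ Curv2.deg k X F n ∧ (Curv2.deg k X E n = Curv2.deg k X F n ↔ IsIso f) := by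
  obtain ⟨h1, h2⟩ := main' k X hdim E F hEc hFc f hgen
  unfold Curv2.deg
  rw [h1]
  refine ⟨by linarith [Int.natCast_nonneg (Module.finrank k (Coh.HH X (cokernel f) 0))],
    fun h => h2.mp ?_, fun h => ?_⟩
  · have : (Module.finrank k (Coh.HH X (cokernel f) 0) : ℤ) = 0 := by linarith
    exact_mod_cast this
  · have := h2.mpr h
    rw [this]
    simp

end Part1

end Groth.Agent.Lib.R2H1.TFDeg
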