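import Groth.Agent.Lib.Helper2FPAff
import Groth.Agent.Lib.Helper20LocFree
import Groth.Agent.Lib.Helper2FlatOver
set_option backward.isDefEq.respectTransparency.types false

/-!
# Spreading out an isomorphism of stalks (helper2, round 2)

* `restrictIsoOfΓIso` : for quasi-coherent `F`, `G` and an affine open `D`, an isomorphism of the
  modules of sections over `D` gives `F|_D ≅ G|_D`.
* `exists_restrict_iso_of_stalk_equiv` : for quasi-coherent `F`, `G` with finitely presented modules
  of sections over an affine open `U ∋ y`, a linear isomorphism `F_y ≃ G_y` of stalks extends to an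
  isomorphism `F|_D ≅ G|_D` over an open neighbourhood `D ⊆ U` of `y`.
-/

set_option autoImplicit false
set_option linter.style.haveILetI false
universe u

open CategoryTheory CategoryTheory.Limits AlgebraicGeometry

namespace Groth.Agent.Lib.R2H2.Spread

open Groth.Agent.Lib.Helper20.Thickening Groth.Agent.Lib.Helper20.PullbackAff
  Groth.Agent.Lib.Helper20.OmegaAff Groth.Agent.Lib.Helper20.LocFree
  Groth.Agent.Lib.Helper2.FPAff Groth.Agent.Lib.Helper2.FlatOver

variable {X : Scheme.{u}}

/-- an isomorphism of sections over an affine open gives an isomorphism of the restrictions -/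
noncomputable def restrictIsoOfΓIso (F G : X.Modules) [F.IsQuasicoherent] [G.IsQuasicoherent]
    {D : X.Opens} (hD : IsAffineOpen D) (e : (ΓUF hD).obj F ≅ (ΓUF hD).obj G) :
    F.restrict D.ι ≅ G.restrict D.ι := by
  haveI : (F.restrict hD.fromSpec).IsQuasicoherent :=
    Scheme.Modules.isQuasicoherent_restrictFunctor hD.fromSpec F
  haveI : (G.restrict hD.fromSpec).IsQuasicoherent :=
    Scheme.Modules.isQuasicoherent_restrictFunctor hD.fromSpec G
  exact restrictιIso F hD ≪≫
    (Scheme.Modules.restrictFunctor hD.isoSpec.hom).mapIso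
      (isoTildeOfΓIso (F.restrict hD.fromSpec) ((ΓUF hD).obj F) (Iso.refl _) ≪≫
        (tilde.functor Γ(X, D)).mapIso e ≪≫
        (isoTildeOfΓIso (G.restrict hD.fromSpec) ((ΓUF hD).obj G) (Iso.refl _)).symm) ≪≫
    (restrictιIso G hD).symm

theorem exists_restrict_iso_of_stalk_equiv (F G : X.Modules) [F.IsQuasicoherent]
    [G.IsQuasicoherent] {U : X.Opens} (hU : IsAffineOpen U) (y : X) (hy : y ∈ U)
    [Module.FinitePresentation Γ(X, U) Γ(F, U)] [Module.FinitePresentation Γ(X, U) Γ(G, U)]
    (e : F.presheaf.stalk y ≃ₗ[X.presheaf.stalk y] G.presheaf.stalk y) :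
    ∃ D : X.Opens, y ∈ D ∧ D ≤ U ∧ Nonempty (F.restrict D.ι ≅ G.restrict D.ι) := by
  letI := moduleStalkSections F U y hy
  letI := moduleStalkSections G U y hy
  haveI := isLocalizedModule_germ hU F y hy
  haveI := isLocalizedModule_germ hU G y hy
  let l : F.presheaf.stalk y ≃ₗ[Γ(X, U)] G.presheaf.stalk y :=
    { e.toAddEquiv with
      map_smul' := fun r m => e.map_smul (X.presheaf.germ U y hy r) m }
  obtain ⟨r, hr, l', -⟩ := Module.FinitePresentation.exists_lift_equiv_of_isLocalizedModule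
    (hU.primeIdealOf ⟨y, hy⟩).asIdeal.primeCompl (germₗ F U y hy) (germₗ G U y hy) l
  have hD : IsAffineOpen (X.basicOpen r) := hU.basicOpen r
  have hyD : y ∈ X.basicOpen r :=
    (Groth.Agent.Lib.Helper2.mem_basicOpen_iff_notMem_primeIdealOf hU y hy r).2 hr
  letI := moduleRes F (X.basicOpen_le r)
  letI := moduleRes G (X.basicOpen_le r)
  haveI := isScalarTower_basicOpen F r
  haveI := isScalarTower_basicOpen G r
  haveI := isLocalizedModule_basicOpen F hU r
  haveI := isLocalizedModule_basicOpen G hU r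
  haveI : IsLocalization.Away r Γ(X, X.basicOpen r) := hU.isLocalization_basicOpen r
  let eA : Γ(F, X.basicOpen r) ≃ₗ[Γ(X, U)] Γ(G, X.basicOpen r) :=
    (IsLocalizedModule.iso (Submonoid.powers r) (resₗ F (X.basicOpen_le r))).symm ≪≫ₗ
      (l'.restrictScalars Γ(X, U)) ≪≫ₗ
      IsLocalizedModule.iso (Submonoid.powers r) (resₗ G (X.basicOpen_le r))
  let eD : Γ(F, X.basicOpen r) ≃ₗ[Γ(X, X.basicOpen r)] Γ(G, X.basicOpen r) :=
    eA.extendScalarsOfIsLocalization (Submonoid.powers r) Γ(X, X.basicOpen r)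
  let eΓ : (ΓUF hD).obj F ≃ₗ[Γ(X, X.basicOpen r)] (ΓUF hD).obj G :=
    (ΓUEquiv hD F).symm ≪≫ₗ eD ≪≫ₗ ΓUEquiv hD G
  exact ⟨X.basicOpen r, hyD, X.basicOpen_le r, ⟨restrictIsoOfΓIso F G hD eΓ.toModuleIso⟩⟩

end Groth.Agent.Lib.R2H2.Spread
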