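import Groth.Agent.Lib.Helper4ModEpi
import Groth.Agent.Lib.Helper2ModExact
import Groth.Agent.Lib.R2H2PdSheaf
import Groth.Agent.Lib.Helper20SuppClosed
import Groth.Agent.Lib.R2H2KcohLoc
set_option backward.isDefEq.respectTransparency.types false

/-!
# Stalks of finite direct sums of `O_X`-modules (helper2, round 2)

* `stalkLin_id`, `stalkLin_comp`, `stalkLin_zero`, `stalkLin_add` : functoriality/additivity of the
  stalk linear map (helper4's `stalkLin`).
* `stalkBiprod` : `(A ⊞ B)_x ≃ₗ A_x × B_x`.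
* `pow F n` : `F ⊞ (F ⊞ ⋯ ⊞ 0)`, coherent when `F` is; `stalkPow` : `(pow F n)_x ≃ₗ (Fin n → F_x)`.
* `powOneIso : pow F 1 ≅ F`; `powι`, `powπ` : `F` is a retract of `pow F (n+1)`.
-/

set_option autoImplicit false
universe u

open CategoryTheory CategoryTheory.Limits AlgebraicGeometry ZeroObject

namespace Groth.Agent.Lib.R2H2.StalkPow

open Groth.Agent.Lib.Helper2.QCoh Groth.Agent.Lib.Helper2.ModExact Groth.Agent.Lib.Helper4.ModEpi

variable {X : Scheme.{u}}

/-! ### the stalk linear map (copied from helper4's `Helper4NormDelta`, to avoid its heavy imports) -/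

/-- The stalk map of a morphism of `O_X`-modules, as a map of abelian groups. -/
noncomputable abbrev stalkHom {F G : X.Modules} (φ : F ⟶ G) (x : X) :
    F.presheaf.stalk x ⟶ G.presheaf.stalk x :=
  (TopCat.Presheaf.stalkFunctor AddCommGrpCat.{u} x).map (Scheme.Modules.Hom.mapPresheaf φ)

theorem stalkHom_germ {F G : X.Modules} (φ : F ⟶ G) (x : X) (U : X.Opens) (hx : x ∈ U)
    (m : Γ(F, U)) :
    stalkHom φ x (F.presheaf.germ U x hx m) =
      G.presheaf.germ U x hx (Scheme.Modules.Hom.app φ U m) :=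
  (germ_app φ U x hx m).symm

theorem stalkHom_smul {F G : X.Modules} (φ : F ⟶ G) (x : X) (r : X.presheaf.stalk x)
    (y : F.presheaf.stalk x) : stalkHom φ x (r • y) = r • stalkHom φ x y := by
  obtain ⟨V, hxV, t, rfl⟩ := F.presheaf.exists_germ_eq y
  obtain ⟨V', hxV', r', rfl⟩ := X.presheaf.exists_germ_eq r
  have hxW : x ∈ V ⊓ V' := ⟨hxV, hxV'⟩
  have h1 : F.presheaf.germ V x hxV t = F.presheaf.germ (V ⊓ V') x hxW
      (F.presheaf.map (homOfLE inf_le_left).op t) :=
    (TopCat.Presheaf.germ_res_apply F.presheaf (homOfLE inf_le_left) x hxW t).symm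
  have h2 : X.presheaf.germ V' x hxV' r' = X.presheaf.germ (V ⊓ V') x hxW
      (X.presheaf.map (homOfLE inf_le_right).op r') :=
    (TopCat.Presheaf.germ_res_apply X.presheaf (homOfLE inf_le_right) x hxW r').symm
  rw [h1, h2, ← germ_smul, stalkHom_germ, stalkHom_germ, app_smul, germ_smul]

/-- The stalk map of a morphism of `O_X`-modules, as a linear map over the local ring. -/
noncomputable def stalkLin {F G : X.Modules} (φ : F ⟶ G) (x : X) :
    F.presheaf.stalk x →ₗ[X.presheaf.stalk x] G.presheaf.stalk x where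
  toFun := stalkHom φ x
  map_add' := map_add _
  map_smul' := stalkHom_smul φ x

theorem stalkLin_germ {F G : X.Modules} (φ : F ⟶ G) (x : X) (U : X.Opens) (hx : x ∈ U)
    (m : Γ(F, U)) :
    stalkLin φ x (F.presheaf.germ U x hx m) =
      G.presheaf.germ U x hx (Scheme.Modules.Hom.app φ U m) :=
  stalkHom_germ φ x U hx m

theorem stalkLin_id (F : X.Modules) (x : X) : stalkLin (𝟙 F) x = LinearMap.id := by
  ext y
  obtain ⟨V, hxV, t, rfl⟩ := F.presheaf.exists_germ_eq y
  rw [stalkLin_germ]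
  rfl

theorem stalkLin_comp {F G H : X.Modules} (φ : F ⟶ G) (ψ : G ⟶ H) (x : X) :
    stalkLin (φ ≫ ψ) x = (stalkLin ψ x).comp (stalkLin φ x) := by
  ext y
  obtain ⟨V, hxV, t, rfl⟩ := F.presheaf.exists_germ_eq y
  rw [LinearMap.comp_apply, stalkLin_germ, stalkLin_germ, stalkLin_germ]
  rfl

theorem stalkLin_zero (F G : X.Modules) (x : X) : stalkLin (0 : F ⟶ G) x = 0 := by
  ext y
  obtain ⟨V, hxV, t, rfl⟩ := F.presheaf.exists_germ_eq y
  rw [stalkLin_germ, LinearMap.zero_apply]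
  exact map_zero _

theorem stalkLin_add {F G : X.Modules} (φ ψ : F ⟶ G) (x : X) :
    stalkLin (φ + ψ) x = stalkLin φ x + stalkLin ψ x := by
  ext y
  obtain ⟨V, hxV, t, rfl⟩ := F.presheaf.exists_germ_eq y
  rw [LinearMap.add_apply, stalkLin_germ, stalkLin_germ, stalkLin_germ, ← map_add]
  rfl

theorem stalkLin_comp_apply {F G H : X.Modules} (φ : F ⟶ G) (ψ : G ⟶ H) (x : X)
    (y : F.presheaf.stalk x) : stalkLin ψ x (stalkLin φ x y) = stalkLin (φ ≫ ψ) x y := by
  rw [stalkLin_comp]; rfl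

/-- the stalk of a binary biproduct -/
noncomputable def stalkBiprod (A B : X.Modules) (x : X) :
    (A ⊞ B).presheaf.stalk x ≃ₗ[X.presheaf.stalk x]
      (A.presheaf.stalk x × B.presheaf.stalk x) :=
  LinearEquiv.ofLinear
    ((stalkLin (biprod.fst : A ⊞ B ⟶ A) x).prod (stalkLin (biprod.snd : A ⊞ B ⟶ B) x))
    ((stalkLin (biprod.inl : A ⟶ A ⊞ B) x).coprod (stalkLin (biprod.inr : B ⟶ A ⊞ B) x))
    (by
      refine LinearMap.ext (fun p => ?_)
      obtain ⟨a, b⟩ := p
      have h1 : stalkLin (biprod.fst : A ⊞ B ⟶ A) x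
          (stalkLin (biprod.inl : A ⟶ A ⊞ B) x a + stalkLin (biprod.inr : B ⟶ A ⊞ B) x b) = a := by
        rw [map_add, stalkLin_comp_apply, stalkLin_comp_apply, biprod.inl_fst, biprod.inr_fst,
          stalkLin_id, stalkLin_zero]
        simp
      have h2 : stalkLin (biprod.snd : A ⊞ B ⟶ B) x
          (stalkLin (biprod.inl : A ⟶ A ⊞ B) x a + stalkLin (biprod.inr : B ⟶ A ⊞ B) x b) = b := by
        rw [map_add, stalkLin_comp_apply, stalkLin_comp_apply, biprod.inl_snd, biprod.inr_snd,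
          stalkLin_id, stalkLin_zero]
        simp
      exact Prod.ext h1 h2)
    (by
      refine LinearMap.ext (fun y => ?_)
      change stalkLin (biprod.inl : A ⟶ A ⊞ B) x (stalkLin (biprod.fst : A ⊞ B ⟶ A) x y) +
        stalkLin (biprod.inr : B ⟶ A ⊞ B) x (stalkLin (biprod.snd : A ⊞ B ⟶ B) x y) = y
      rw [stalkLin_comp_apply, stalkLin_comp_apply, ← LinearMap.add_apply, ← stalkLin_add,
        biprod.total, stalkLin_id]
      rfl)

/-- `F ⊞ (F ⊞ ⋯ ⊞ 0)` -/
noncomputable def pow (F : X.Modules) : ℕ → X.Modules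
  | 0 => 0
  | n + 1 => F ⊞ pow F n

theorem isZero_pow_zero (F : X.Modules) : IsZero (pow F 0) := by
  rw [pow]
  exact isZero_zero _

theorem pow_succ (F : X.Modules) (n : ℕ) : pow F (n + 1) = (F ⊞ pow F n) := by
  rw [pow]

theorem isCoh_pow [IsNoetherian X] (F : X.Modules) (hF : Coh.IsCoh F) : ∀ n, Coh.IsCoh (pow F n)
  | 0 => Groth.Agent.Lib.R2H2.KcohLoc.isCoh_of_isZero (isZero_pow_zero F)
  | n + 1 => by
    rw [pow_succ]
    exact Groth.Agent.Lib.R2H2.PdSheaf.isCoh_biprod F (pow F n) hF (isCoh_pow F hF n)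

theorem subsingleton_stalk_of_isZero {M : X.Modules} (hM : IsZero M) (x : X) :
    Subsingleton (M.presheaf.stalk x) := by
  refine ⟨fun a b => ?_⟩
  obtain ⟨V, hxV, t, rfl⟩ := M.presheaf.exists_germ_eq a
  obtain ⟨V', hxV', t', rfl⟩ := M.presheaf.exists_germ_eq b
  haveI := Groth.Agent.Lib.Helper20.OmegaUnr.subsingleton_sections_of_isZero hM V
  haveI := Groth.Agent.Lib.Helper20.OmegaUnr.subsingleton_sections_of_isZero hM V'
  have h1 : t = 0 := Subsingleton.elim _ _
  have h2 : t' = 0 := Subsingleton.elim _ _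
  rw [h1, h2, map_zero, map_zero]

/-- the stalk of `pow F n` -/
noncomputable def stalkPow (F : X.Modules) (x : X) : ∀ n : ℕ,
    (pow F n).presheaf.stalk x ≃ₗ[X.presheaf.stalk x] (Fin n → F.presheaf.stalk x)
  | 0 => by
    haveI : Subsingleton ((pow F 0).presheaf.stalk x) :=
      subsingleton_stalk_of_isZero (isZero_pow_zero F) x
    exact LinearEquiv.ofSubsingleton _ _
  | n + 1 =>
    stalkBiprod F (pow F n) x ≪≫ₗ
      (LinearEquiv.refl _ _).prodCongr (stalkPow F x n) ≪≫ₗ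
      Fin.consLinearEquiv (X.presheaf.stalk x) (fun _ : Fin (n + 1) => F.presheaf.stalk x)

/-- `pow F 1 ≅ F` -/
noncomputable def powOneIso (F : X.Modules) : pow F 1 ≅ F where
  hom := biprod.fst
  inv := biprod.inl
  hom_inv_id := by
    change (biprod.fst : F ⊞ pow F 0 ⟶ F) ≫ biprod.inl = 𝟙 (F ⊞ pow F 0)
    apply biprod.hom_ext
    · rw [Category.assoc, biprod.inl_fst, Category.comp_id, Category.id_comp]
    · exact (isZero_pow_zero F).eq_of_tgt _ _
  inv_hom_id := biprod.inl_fst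

/-- `F` is a retract of `pow F (n+1)` -/
noncomputable def powι (F : X.Modules) (n : ℕ) : F ⟶ pow F (n + 1) := biprod.inl

noncomputable def powπ (F : X.Modules) (n : ℕ) : pow F (n + 1) ⟶ F := biprod.fst

theorem powι_π (F : X.Modules) (n : ℕ) : powι F n ≫ powπ F n = 𝟙 F := biprod.inl_fst

end Groth.Agent.Lib.R2H2.StalkPow
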