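import Groth.Agent.Lib.R2H2NilFilt
import Groth.Agent.Lib.R2H2KcohLoc
import Groth.Agent.Lib.Helper20StalkExact
import Groth.Agent.Lib.Helper23Support
import Groth.Agent.Lib.R2H2StalkPow
import Groth.Agent.Lib.R2H2Spread
import Groth.Agent.Lib.R2H2ResField
set_option backward.isDefEq.respectTransparency.types false

/-!
# Dévissage of coherent modules, part A: supports, generic points, stalks (helper2, round 2)

* `support_subset_of_mono`, `support_subset_of_epi`, `support_biprod`, `support_pow`,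
  `not_mem_support_of_isZero_restrict`, `isZero_of_support_subset_empty`.
* `exists_generic_component` : a nonempty closed subset `Y` of a Noetherian quasi-sober space has a
  point `y` and an open `V ∋ y` with `Y ∩ V ⊆ closure {y}` (a generic point of a component).
* `mem_vanishingIdeal_ideal_iff`.
* `stalk_smul_eq_zero` : if `F` is killed by the vanishing ideal of `Y` and `y` is such a point, the
  stalk `F_y` is killed by the maximal ideal.
* `finite_stalk` : stalks of coherent modules are finite.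
* `exists_local_iso` : from `(F_y)^s ≃ (G_y)^r` to `(pow F s)|_D ≅ (pow G r)|_D`.
-/

set_option autoImplicit false
set_option linter.style.haveILetI false
universe u

open CategoryTheory CategoryTheory.Limits AlgebraicGeometry TopologicalSpace

namespace Groth.Agent.Lib.R2H2.DevA

open Groth.Agent.Lib.R2H2.StalkPow

variable {X : Scheme.{u}}

/-! ### supports -/

theorem support_subset_of_mono {A B : X.Modules} (f : A ⟶ B) [Mono f] :
    CohB1.support A ⊆ CohB1.support B := by
  intro x hx hB
  apply hx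
  let S : ShortComplex X.Modules := ShortComplex.mk f (cokernel.π f) (cokernel.condition f)
  have hS : S.ShortExact :=
    { exact := ShortComplex.exact_cokernel f
      mono_f := inferInstanceAs (Mono f)
      epi_g := inferInstanceAs (Epi (cokernel.π f)) }
  exact ((Groth.Agent.Lib.Helper20.StalkExact.subsingleton_stalk_iff S hS x).1 hB).1

theorem support_subset_of_epi {A B : X.Modules} (f : A ⟶ B) [Epi f] :
    CohB1.support B ⊆ CohB1.support A := by
  intro x hx hA
  apply hx
  let S : ShortComplex X.Modules := ShortComplex.mk (kernel.ι f) f (kernel.condition f)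
  have hS : S.ShortExact :=
    { exact := ShortComplex.exact_kernel f
      mono_f := inferInstanceAs (Mono (kernel.ι f))
      epi_g := inferInstanceAs (Epi f) }
  exact ((Groth.Agent.Lib.Helper20.StalkExact.subsingleton_stalk_iff S hS x).1 hA).2

theorem support_biprod (A B : X.Modules) :
    CohB1.support (A ⊞ B) ⊆ CohB1.support A ∪ CohB1.support B := by
  intro x hx
  by_contra hne
  rw [Set.mem_union, not_or] at hne
  simp only [CohB1.support, Set.mem_ofPred_eq, not_not] at hne
  apply hx
  haveI := hne.1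
  haveI := hne.2
  exact (stalkBiprod A B x).toEquiv.subsingleton

theorem support_pow (F : X.Modules) (n : ℕ) : CohB1.support (pow F n) ⊆ CohB1.support F := by
  intro x hx hF
  apply hx
  haveI : Subsingleton (F.presheaf.stalk x) := hF
  exact (stalkPow F x n).toEquiv.subsingleton

/-- if `M|_W = 0` then the support of `M` misses `W` (as in helper6's `H6xSuppPushB`) -/
theorem not_mem_support_of_isZero_restrict {W : Scheme.{u}} (j : W ⟶ X) [IsOpenImmersion j]
    (M : X.Modules) (h : IsZero ((Scheme.Modules.restrictFunctor j).obj M)) (y : W) :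
    j y ∉ CohB1.support M := by
  intro hy
  apply hy
  have e' := (Scheme.Modules.restrictStalkNatIso j y).app M
  have eq : (((Scheme.Modules.restrictFunctor j).obj M).presheaf.stalk y) ≃
      (M.presheaf.stalk (j y)) := e'.addCommGroupIsoToAddEquiv.toEquiv
  haveI : Subsingleton (((Scheme.Modules.restrictFunctor j).obj M).presheaf.stalk y) :=
    subsingleton_stalk_of_isZero h y
  exact eq.symm.subsingleton

theorem not_mem_support_of_isZero_restrict_opens (D : X.Opens) (M : X.Modules)
    (h : IsZero ((Scheme.Modules.restrictFunctor D.ι).obj M)) (x : X) (hx : x ∈ D) :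
    x ∉ CohB1.support M :=
  not_mem_support_of_isZero_restrict D.ι M h ⟨x, hx⟩

theorem isZero_of_support_subset_empty (F : X.Modules) (h : CohB1.support F ⊆ ∅) : IsZero F :=
  Groth.Agent.Lib.Helper23.ModLocal.isZero_of_forall_eq_zero (fun U s =>
    Groth.Agent.Lib.Helper23.Support.eq_zero_of_disjoint_support F U (fun x _ hx => h hx) s)

theorem support_of_isZero {F : X.Modules} (h : IsZero F) : CohB1.support F = ∅ := by
  ext x
  simp only [CohB1.support, Set.mem_ofPred_eq, Set.mem_empty_iff_false, iff_false, not_not]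
  exact subsingleton_stalk_of_isZero h x

/-! ### a generic point of a component -/

theorem exists_generic_component {T : Type*} [TopologicalSpace T] [NoetherianSpace T]
    [QuasiSober T] (Y : Set T) (hY : IsClosed Y) (hne : Y.Nonempty) :
    ∃ (y : T) (V : Set T), IsOpen V ∧ y ∈ Y ∧ y ∈ V ∧ Y ∩ V ⊆ closure {y} := by
  obtain ⟨S, hSf, hSc, hSi, hSU⟩ := NoetherianSpace.exists_finite_set_isClosed_irreducible hY
  have hSne : S.Nonempty := by
    obtain ⟨x, hx⟩ := hne
    rw [hSU] at hx
    obtain ⟨t, ht, -⟩ := hx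
    exact ⟨t, ht⟩
  obtain ⟨Z, hZmax⟩ := hSf.exists_maximal hSne
  have hZS : Z ∈ S := hZmax.1
  obtain ⟨y, hy⟩ := QuasiSober.sober (hSi Z hZS) (hSc Z hZS)
  have hyZ : y ∈ Z := hy.mem
  have hcl : closure {y} = Z := hy
  let T' : Set T := ⋃₀ (S \ {Z})
  have hT'cl : IsClosed T' := by
    change IsClosed (⋃₀ (S \ {Z}))
    rw [Set.sUnion_eq_biUnion]
    exact (hSf.subset Set.diff_subset).isClosed_biUnion (fun t ht => hSc t ht.1)
  have hyT' : y ∉ T' := by
    rintro ⟨t, ⟨htS, htZ⟩, hyt⟩
    have hZt : Z ⊆ t := by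
      rw [← hcl]
      exact (hSc t htS).closure_subset_iff.2 (Set.singleton_subset_iff.2 hyt)
    have htZ' : t ⊆ Z := hZmax.2 htS hZt
    exact htZ (Set.Subset.antisymm htZ' hZt)
  refine ⟨y, T'ᶜ, hT'cl.isOpen_compl, ?_, hyT', ?_⟩
  · rw [hSU]
    exact ⟨Z, hZS, hyZ⟩
  · rintro x ⟨hxY, hxV⟩
    rw [hSU] at hxY
    obtain ⟨t, htS, hxt⟩ := hxY
    by_cases htZ : t = Z
    · rw [hcl, ← htZ]
      exact hxt
    · exact (hxV ⟨t, ⟨htS, htZ⟩, hxt⟩).elim

/-! ### the vanishing ideal and stalks -/

open Groth.Agent.Lib.Helper2.QCoh Groth.Agent.Lib.Helper2.FlatOver in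
theorem mem_vanishingIdeal_ideal_iff (Y : Closeds X) (U : X.affineOpens) (a : Γ(X, U.1)) :
    a ∈ (Scheme.IdealSheafData.vanishingIdeal Y).ideal U ↔
      ∀ x ∈ (Y : Set X), x ∈ U.1 → x ∉ X.basicOpen a := by
  rw [Scheme.IdealSheafData.vanishingIdeal_ideal, PrimeSpectrum.mem_vanishingIdeal]
  constructor
  · intro h x hxY hxU hxa
    have h1 := h (U.2.primeIdealOf ⟨x, hxU⟩) (by
      change U.2.fromSpec (U.2.primeIdealOf ⟨x, hxU⟩) ∈ (Y : Set X)
      rw [U.2.fromSpec_primeIdealOf]; exact hxY)
    exact ((Groth.Agent.Lib.Helper2.mem_basicOpen_iff_notMem_primeIdealOf U.2 x hxU a).1 hxa) h1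
  · intro h p hp
    by_contra hne
    exact h (U.2.fromSpec p) hp (fromSpec_mem U.2 p) ((mem_basicOpen_fromSpec_iff U.2 p a).2 hne)

open Groth.Agent.Lib.Helper2.QCoh Groth.Agent.Lib.R2H2.NilFilt in
/-- if `F` is killed by the vanishing ideal of `Y` and, near `y`, `Y` is contained in the closure
of `y`, then the stalk `F_y` is killed by the maximal ideal -/
theorem stalk_smul_eq_zero (Y : Closeds X) (F : X.Modules)
    (hk : ClSub.KilledByIdeal (Scheme.IdealSheafData.vanishingIdeal Y) F)
    (y : X) (V : Set X) (hV : IsOpen V) (hyV : y ∈ V) (hYV : (Y : Set X) ∩ V ⊆ closure {y})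
    (a : X.presheaf.stalk y) (ha : a ∈ IsLocalRing.maximalIdeal (X.presheaf.stalk y))
    (s : F.presheaf.stalk y) : a • s = 0 := by
  obtain ⟨V₁, hy₁, a', rfl⟩ := X.presheaf.exists_germ_eq a
  obtain ⟨V₂, hy₂, s', rfl⟩ := F.presheaf.exists_germ_eq s
  obtain ⟨W, hW, hyW, hWle⟩ := exists_isAffineOpen_mem_and_subset (x := y)
    (U := V₁ ⊓ V₂ ⊓ ⟨V, hV⟩) ⟨⟨hy₁, hy₂⟩, hyV⟩
  have hW₁ : W ≤ V₁ := fun x hx => (hWle hx).1.1
  have hW₂ : W ≤ V₂ := fun x hx => (hWle hx).1.2
  have h1 : X.presheaf.germ V₁ y hy₁ a' = X.presheaf.germ W y hyW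
      (X.presheaf.map (homOfLE hW₁).op a') :=
    (TopCat.Presheaf.germ_res_apply X.presheaf (homOfLE hW₁) y hyW a').symm
  have h2 : F.presheaf.germ V₂ y hy₂ s' = F.presheaf.germ W y hyW
      (F.presheaf.map (homOfLE hW₂).op s') :=
    (TopCat.Presheaf.germ_res_apply F.presheaf (homOfLE hW₂) y hyW s').symm
  have hmem : X.presheaf.map (homOfLE hW₁).op a' ∈
      (Scheme.IdealSheafData.vanishingIdeal Y).ideal ⟨W, hW⟩ := by
    rw [mem_vanishingIdeal_ideal_iff]
    intro x hxY hxW hxa
    have hxcl : x ∈ closure {y} := hYV ⟨hxY, (hWle hxW).2⟩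
    have hspec : y ⤳ x := specializes_iff_mem_closure.2 hxcl
    have hya : y ∈ X.basicOpen (X.presheaf.map (homOfLE hW₁).op a') :=
      hspec.mem_open (X.basicOpen _).2 hxa
    rw [Scheme.mem_basicOpen _ _ _ hyW, ← h1] at hya
    exact ((IsLocalRing.mem_maximalIdeal _).1 ha) hya
  have h0 := (killed_iff _ _).1 hk ⟨W, hW⟩ _ hmem (F.presheaf.map (homOfLE hW₂).op s')
  rw [h1, h2, ← germ_smul, h0, map_zero]

open Groth.Agent.Lib.Helper2.FlatOver in
/-- stalks of coherent modules are finite -/
theorem finite_stalk (F : X.Modules) (hF : Coh.IsCoh F) (y : X) :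
    Module.Finite (X.presheaf.stalk y) (F.presheaf.stalk y) := by
  haveI : F.IsQuasicoherent := hF.1
  haveI : SheafOfModules.IsFiniteType (R := X.ringCatSheaf) F := hF.2
  obtain ⟨U, hU, hyU, -⟩ := exists_isAffineOpen_mem_and_subset (x := y) (U := ⊤) trivial
  haveI : Module.Finite Γ(X, U) Γ(F, U) :=
    Groth.Agent.Lib.Helper23.FinType.finite_of_isFiniteType F hU
  letI := X.presheaf.algebra_section_stalk ⟨y, hyU⟩
  haveI := hU.isLocalization_stalk ⟨y, hyU⟩
  letI := moduleStalkSections F U y hyU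
  haveI : IsScalarTower Γ(X, U) (X.presheaf.stalk y) (F.presheaf.stalk y) := by
    refine ⟨fun a b z => ?_⟩
    change (X.presheaf.germ U y hyU a * b) • z = X.presheaf.germ U y hyU a • (b • z)
    rw [mul_smul]
  haveI := isLocalizedModule_germ hU F y hyU
  exact Module.Finite.of_isLocalizedModule (hU.primeIdealOf ⟨y, hyU⟩).asIdeal.primeCompl
    (germₗ F U y hyU)

/-- from an isomorphism of powers of stalks to a local isomorphism of powers -/
theorem exists_local_iso [IsNoetherian X] (F G : X.Modules) (hF : Coh.IsCoh F) (hG : Coh.IsCoh G)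
    (y : X) (r s : ℕ)
    (e : (Fin s → F.presheaf.stalk y) ≃ₗ[X.presheaf.stalk y] (Fin r → G.presheaf.stalk y)) :
    ∃ D : X.Opens, y ∈ D ∧ Nonempty ((pow F s).restrict D.ι ≅ (pow G r).restrict D.ι) := by
  have hFs := isCoh_pow F hF s
  have hGr := isCoh_pow G hG r
  haveI : (pow F s).IsQuasicoherent := hFs.1
  haveI : (pow G r).IsQuasicoherent := hGr.1
  haveI : SheafOfModules.IsFiniteType (R := X.ringCatSheaf) (pow F s) := hFs.2
  haveI : SheafOfModules.IsFiniteType (R := X.ringCatSheaf) (pow G r) := hGr.2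
  obtain ⟨U, hU, hyU, -⟩ := exists_isAffineOpen_mem_and_subset (x := y) (U := ⊤) trivial
  haveI : IsNoetherianRing Γ(X, U) := IsLocallyNoetherian.component_noetherian ⟨U, hU⟩
  haveI : Module.Finite Γ(X, U) Γ(pow F s, U) :=
    Groth.Agent.Lib.Helper23.FinType.finite_of_isFiniteType (pow F s) hU
  haveI : Module.Finite Γ(X, U) Γ(pow G r, U) :=
    Groth.Agent.Lib.Helper23.FinType.finite_of_isFiniteType (pow G r) hU
  haveI : Module.FinitePresentation Γ(X, U) Γ(pow F s, U) :=
    Module.finitePresentation_of_finite _ _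
  haveI : Module.FinitePresentation Γ(X, U) Γ(pow G r, U) :=
    Module.finitePresentation_of_finite _ _
  obtain ⟨D, hyD, -, hD⟩ := Groth.Agent.Lib.R2H2.Spread.exists_restrict_iso_of_stalk_equiv
    (pow F s) (pow G r) hU y hyU (stalkPow F y s ≪≫ₗ e ≪≫ₗ (stalkPow G y r).symm)
  exact ⟨D, hyD, hD⟩

end Groth.Agent.Lib.R2H2.DevA
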