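import Mathlib

/-!
# Integer sequences with vanishing `m`-th finite difference are polynomial (helper2, round 2)

* `exists_polynomial` : if `∑_{i ≤ m} (-1)^i (m choose i) f(a+i) = 0` for all `a : ℤ`, then `f` is
  given by a rational polynomial.
-/

set_option autoImplicit false

namespace Groth.Agent.Lib.R2H2.FwdDiffPoly

open Finset Polynomial fwdDiff

/-- the binomial polynomial `x ↦ (x choose k)` -/
noncomputable def binomPoly (k : ℕ) : ℚ[X] :=
  Polynomial.C ((k.factorial : ℚ)⁻¹) * descPochhammer ℚ k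

lemma binomPoly_eval_nat (k n : ℕ) : (binomPoly k).eval (n : ℚ) = (n.choose k : ℚ) := by
  unfold binomPoly
  rw [eval_mul, eval_C, Nat.cast_choose_eq_descPochhammer_div, div_eq_inv_mul]

lemma fwdDiff_iter_zero (j : ℕ) : (fwdDiff (1 : ℤ))^[j] (fun _ : ℤ => (0 : ℚ)) = fun _ => 0 := by
  induction j with
  | zero => rfl
  | succ j ih => rw [Function.iterate_succ_apply', ih, fwdDiff_const]

/-- the Newton polynomial of `g` based at `y` -/
noncomputable def newton (m : ℕ) (g : ℤ → ℚ) (y : ℤ) : ℚ[X] :=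
  ∑ k ∈ range m, Polynomial.C ((fwdDiff (1 : ℤ))^[k] g y) * binomPoly k

lemma newton_eval_nat (m : ℕ) (g : ℤ → ℚ) (y : ℤ) (n : ℕ) :
    (newton m g y).eval (n : ℚ) = ∑ k ∈ range m, (n.choose k : ℚ) * (fwdDiff (1 : ℤ))^[k] g y := by
  unfold newton
  rw [eval_finset_sum]
  apply Finset.sum_congr rfl
  intro k _
  rw [eval_mul, eval_C, binomPoly_eval_nat, mul_comm]

theorem eq_newton_eval (m : ℕ) (g : ℤ → ℚ) (hg : (fwdDiff (1 : ℤ))^[m] g = fun _ => 0) (y : ℤ) (n : ℕ) :
    g (y + n) = (newton m g y).eval (n : ℚ) := by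
  have hk : ∀ k : ℕ, m ≤ k → (fwdDiff (1 : ℤ))^[k] g y = 0 := by
    intro k hk
    obtain ⟨j, rfl⟩ := Nat.exists_eq_add_of_le hk
    rw [add_comm, Function.iterate_add_apply, hg, fwdDiff_iter_zero]
  have h1 := shift_eq_sum_fwdDiff_iter (1 : ℤ) g n y
  rw [newton_eval_nat]
  have h2 : y + (n : ℤ) = y + n • (1 : ℤ) := by simp
  rw [h2, h1]
  have hA : ∑ k ∈ range (n + 1), n.choose k • (fwdDiff (1 : ℤ))^[k] g y =
      ∑ k ∈ range (max (n + 1) m), n.choose k • (fwdDiff (1 : ℤ))^[k] g y := by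
    apply Finset.sum_subset (range_subset_range.2 (le_max_left _ _))
    intro k _ hk2
    rw [mem_range, not_lt] at hk2
    rw [Nat.choose_eq_zero_of_lt (by omega), zero_smul]
  have hB : ∑ k ∈ range m, (n.choose k : ℚ) * (fwdDiff (1 : ℤ))^[k] g y =
      ∑ k ∈ range (max (n + 1) m), (n.choose k : ℚ) * (fwdDiff (1 : ℤ))^[k] g y := by
    apply Finset.sum_subset (range_subset_range.2 (le_max_right _ _))
    intro k _ hk2
    rw [mem_range, not_lt] at hk2
    rw [hk k hk2, mul_zero]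
  rw [hA, hB]
  apply Finset.sum_congr rfl
  intro k _
  rw [nsmul_eq_mul]

theorem exists_polynomial_rat (m : ℕ) (g : ℤ → ℚ) (hg : (fwdDiff (1 : ℤ))^[m] g = fun _ => 0) :
    ∃ P : ℚ[X], ∀ n : ℤ, g n = P.eval (n : ℚ) := by
  refine ⟨newton m g 0, ?_⟩
  have h0 : ∀ s : ℕ, g (s : ℤ) = (newton m g 0).eval (s : ℚ) := by
    intro s
    have := eq_newton_eval m g hg 0 s
    rwa [zero_add] at this
  intro n
  rcases le_or_gt 0 n with hn | hn
  · obtain ⟨s, rfl⟩ := Int.eq_ofNat_of_zero_le hn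
    have := h0 s
    simpa using this
  · -- negative `n`
    let Q : ℚ[X] := (newton m g n).comp (X - C (n : ℚ))
    have hQ : newton m g 0 = Q := by
      apply Polynomial.eq_of_infinite_eval_eq
      apply Set.infinite_of_injective_forall_mem (f := fun s : ℕ => (s : ℚ)) Nat.cast_injective
      intro s
      change (newton m g 0).eval (s : ℚ) = Q.eval (s : ℚ)
      rw [← h0 s]
      dsimp only [Q]
      rw [eval_comp, eval_sub, eval_X, eval_C]
      obtain ⟨t, ht⟩ : ∃ t : ℕ, (t : ℤ) = s - n := ⟨(s - n).toNat, by omega⟩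
      have ht' : ((s : ℚ) - (n : ℚ)) = (t : ℚ) := by
        have : ((t : ℤ) : ℚ) = (((s : ℤ) - n : ℤ) : ℚ) := by rw [ht]
        push_cast at this
        exact this.symm
      rw [ht', ← eq_newton_eval m g hg n t]
      congr 1
      omega
    rw [hQ]
    dsimp only [Q]
    rw [eval_comp, eval_sub, eval_X, eval_C, sub_self]
    have := eq_newton_eval m g hg n 0
    simpa using this

/-- **integer sequences with vanishing `m`-th difference are polynomial** -/
theorem exists_polynomial (m : ℕ) (f : ℤ → ℤ)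
    (h : ∀ a : ℤ, ∑ i ∈ range (m + 1), (-1 : ℤ) ^ i * ((m.choose i : ℤ) * f (a + i)) = 0) :
    ∃ P : ℚ[X], ∀ n : ℤ, (f n : ℚ) = P.eval (n : ℚ) := by
  apply exists_polynomial_rat m (fun n => (f n : ℚ))
  funext y
  rw [fwdDiff_iter_eq_sum_shift]
  have h1 := h y
  have h2 : ((∑ i ∈ range (m + 1), (-1 : ℤ) ^ i * ((m.choose i : ℤ) * f (y + i)) : ℤ) : ℚ) = 0 := by
    rw [h1]; rfl
  push_cast at h2
  have h3 : ∑ k ∈ range (m + 1), ((-1 : ℤ) ^ (m - k) * (m.choose k : ℤ)) • ((f (y + k • (1 : ℤ)) : ℤ) : ℚ) =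
      (-1 : ℚ) ^ m * ∑ i ∈ range (m + 1), (-1 : ℚ) ^ i * ((m.choose i : ℚ) * (f (y + i) : ℚ)) := by
    rw [Finset.mul_sum]
    apply Finset.sum_congr rfl
    intro k hk
    rw [mem_range] at hk
    have hk' : k ≤ m := by omega
    have e1 : (-1 : ℚ) ^ (m - k) = (-1 : ℚ) ^ m * (-1 : ℚ) ^ k := by
      have : (-1 : ℚ) ^ m = (-1 : ℚ) ^ (m - k) * (-1 : ℚ) ^ k := by
        rw [← pow_add, Nat.sub_add_cancel hk']
      rw [this, mul_assoc, ← pow_add, ← two_mul, pow_mul]
      simp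
    have e2 : y + k • (1 : ℤ) = y + k := by simp
    rw [e2, zsmul_eq_mul]
    push_cast
    rw [e1]
    ring
  rw [h3, h2, mul_zero]

end Groth.Agent.Lib.R2H2.FwdDiffPoly
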