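import Groth.Agent.Lib.R2H2KoszulAbs

/-!
# The Koszul cochain complex attached to Koszul data (helper2, round 2)

`cx D` (indexed by `ℕ`) and `cxZ D` (indexed by `ℤ`), their exactness from exactness of the short
complexes, and the identification of the terms.
-/

set_option autoImplicit false
universe v u

namespace Groth.Agent.Lib.R2H2.KoszulCx

open CategoryTheory CategoryTheory.Limits
open Groth.Agent.Lib.R2H2.KoszulAbs

variable {𝒞 : Type u} [Category.{v} 𝒞] [Abelian 𝒞] {r : ℕ} (D : KData 𝒞 r)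

/-- the Koszul cochain complex, indexed by `ℕ` -/
noncomputable def cx : CochainComplex 𝒞 ℕ := CochainComplex.of D.K D.d D.d_comp_d

lemma cx_X (i : ℕ) : (cx D).X i = D.K i := rfl

lemma cx_d (i : ℕ) : (cx D).d i (i + 1) = D.d i := CochainComplex.of_d _ _ _

variable (hex : ∀ i : ℕ, (ShortComplex.mk (D.d i) (D.d (i + 1)) (D.d_comp_d i)).Exact)
  (hmono : Mono (D.d 0))

include hex hmono in
theorem cx_exactAt (i : ℕ) : (cx D).ExactAt i := by
  cases i with
  | zero =>
    rw [HomologicalComplex.exactAt_iff' _ 0 0 1 (by simp) (by simp)]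
    have hf : ((cx D).sc' 0 0 1).f = 0 := by
      change (cx D).d 0 0 = 0
      exact (cx D).shape 0 0 (by simp)
    rw [ShortComplex.exact_iff_mono _ hf]
    change Mono ((cx D).d 0 1)
    rw [cx_d]
    exact hmono
  | succ i =>
    rw [HomologicalComplex.exactAt_iff' _ i (i + 1) (i + 2) (by simp) (by simp)]
    refine ShortComplex.exact_of_iso ?_ (hex i)
    refine ShortComplex.isoMk (Iso.refl _) (Iso.refl _) (Iso.refl _) ?_ ?_
    · change 𝟙 _ ≫ (cx D).d i (i + 1) = D.d i ≫ 𝟙 _
      rw [cx_d, Category.comp_id, Category.id_comp]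
    · change 𝟙 _ ≫ (cx D).d (i + 1) (i + 1 + 1) = D.d (i + 1) ≫ 𝟙 _
      rw [cx_d, Category.comp_id, Category.id_comp]

/-- the Koszul cochain complex, indexed by `ℤ` -/
noncomputable def cxZ : CochainComplex 𝒞 ℤ := (cx D).extend ComplexShape.embeddingUpNat

/-- the terms in nonnegative degrees -/
noncomputable def cxZIso (i : ℕ) : (cxZ D).X (i : ℤ) ≅ D.K i :=
  (cx D).extendXIso ComplexShape.embeddingUpNat (by simp)

lemma isZero_cxZ_neg (j : ℤ) (hj : j < 0) : IsZero ((cxZ D).X j) := by
  apply (cx D).isZero_extend_X ComplexShape.embeddingUpNat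
  intro i
  simp only [ComplexShape.embeddingUpNat_f]
  omega

lemma isZero_cxZ_large (j : ℤ) (hj : (r : ℤ) < j) : IsZero ((cxZ D).X j) := by
  obtain ⟨i, rfl⟩ := Int.eq_ofNat_of_zero_le (show 0 ≤ j by omega)
  exact IsZero.of_iso (D.isZero_K i (by omega)) (cxZIso D i)

include hex hmono in
theorem cxZ_exactAt (j : ℤ) : (cxZ D).ExactAt j := by
  rcases lt_or_ge j 0 with hj | hj
  · apply HomologicalComplex.extend_exactAt
    intro i
    simp only [ComplexShape.embeddingUpNat_f]
    omega
  · obtain ⟨i, rfl⟩ := Int.eq_ofNat_of_zero_le hj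
    exact (HomologicalComplex.extend_exactAt_iff (cx D) ComplexShape.embeddingUpNat
      (j := i) (j' := (i : ℤ)) (by simp)).2 (cx_exactAt D hex hmono i)

end Groth.Agent.Lib.R2H2.KoszulCx
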