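import Mathlib
import Groth.Agent.Lib.R2H2K0Gen

/-!
# Additivity of the length Euler characteristic along a long exact sequence (helper2, round 2)
-/

set_option autoImplicit false
universe u w

namespace Groth.Agent.Lib.R2H2.LengthLes

open Groth.Agent.Lib.R2H2.K0Gen

variable {R : Type u} [Ring R]

/-- `length M = length (ker f) + length (range f)` -/
theorem length_eq_ker_add_range {M N : Type*} [AddCommGroup M] [AddCommGroup N] [Module R M]
    [Module R N] (f : M →ₗ[R] N) :
    Module.length R M = Module.length R (LinearMap.ker f) + Module.length R (LinearMap.range f) := by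
  refine Module.length_eq_add_of_exact (LinearMap.ker f).subtype f.rangeRestrict
    (Submodule.subtype_injective _) f.surjective_rangeRestrict ?_
  intro x
  constructor
  · intro hx
    refine ⟨⟨x, ?_⟩, rfl⟩
    have : (f.rangeRestrict x : N) = 0 := by rw [hx]; rfl
    exact this
  · rintro ⟨y, rfl⟩
    apply Subtype.ext
    exact y.2

theorem length_ne_top_of_finite {A : Type u} [CommRing A] [IsArtinianRing A] (M : Type*)
    [AddCommGroup M] [Module A M] [Module.Finite A M] : Module.length A M ≠ ⊤ := by
  haveI : IsNoetherian A M := isNoetherian_of_isNoetherianRing_of_finite A M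
  haveI : IsArtinian A M := isArtinian_of_fg_of_artinian'
  exact Module.length_ne_top

/-- the integer-valued length -/
noncomputable def len (M : Type*) [AddCommGroup M] [Module R M] : ℤ :=
  ((Module.length R M).toNat : ℤ)

theorem len_eq_of_add {M N P : Type*} [AddCommGroup M] [Module R M] [AddCommGroup N] [Module R N]
    [AddCommGroup P] [Module R P] (h : Module.length R M = Module.length R N + Module.length R P)
    (hM : Module.length R M ≠ ⊤) : len (R := R) M = len (R := R) N + len (R := R) P := by
  unfold len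
  have hN : Module.length R N ≠ ⊤ := by
    intro hN
    rw [hN, top_add] at h
    exact hM h
  have hP : Module.length R P ≠ ⊤ := by
    intro hP
    rw [hP, add_top] at h
    exact hM h
  rw [h, ENat.toNat_add hN hP]
  push_cast
  rfl

theorem len_eq_of_equiv {M N : Type*} [AddCommGroup M] [Module R M] [AddCommGroup N] [Module R N]
    (e : M ≃ₗ[R] N) : len (R := R) M = len (R := R) N := by
  unfold len
  rw [e.length_eq]

theorem len_eq_zero_of_subsingleton {M : Type*} [AddCommGroup M] [Module R M] [Subsingleton M] :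
    len (R := R) M = 0 := by
  unfold len
  rw [Module.length_eq_zero]
  rfl

/-- additivity of the Euler characteristic along a long exact sequence of modules of finite
length -/
theorem les_euler_length (A B C : ℕ → Type w) [∀ i, AddCommGroup (A i)] [∀ i, Module R (A i)]
    [∀ i, AddCommGroup (B i)] [∀ i, Module R (B i)] [∀ i, AddCommGroup (C i)]
    [∀ i, Module R (C i)] (hA : ∀ i, Module.length R (A i) ≠ ⊤)
    (hB : ∀ i, Module.length R (B i) ≠ ⊤) (hC : ∀ i, Module.length R (C i) ≠ ⊤)
    (α : ∀ i, A i →ₗ[R] B i) (β : ∀ i, B i →ₗ[R] C i) (δ : ∀ i, C i →ₗ[R] A (i + 1))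
    (h0 : Function.Injective (α 0))
    (h1 : ∀ i, Function.Exact (α i) (β i)) (h2 : ∀ i, Function.Exact (β i) (δ i))
    (h3 : ∀ i, Function.Exact (δ i) (α (i + 1))) (d : ℕ) (hd : Subsingleton (A (d + 1))) :
    ∑ i ∈ Finset.range (d + 1), (-1 : ℤ) ^ i * len (R := R) (B i) =
      ∑ i ∈ Finset.range (d + 1), (-1 : ℤ) ^ i * len (R := R) (A i) +
        ∑ i ∈ Finset.range (d + 1), (-1 : ℤ) ^ i * len (R := R) (C i) := by
  let κ : ℕ → ℤ := fun i => len (R := R) (LinearMap.ker (α i))
  have key : ∀ i, len (R := R) (A i) + len (R := R) (C i) - len (R := R) (B i) =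
      κ i + κ (i + 1) := by
    intro i
    have e1 := len_eq_of_add (length_eq_ker_add_range (α i)) (hA i)
    have e2 := len_eq_of_add (length_eq_ker_add_range (β i)) (hB i)
    have e3 := len_eq_of_add (length_eq_ker_add_range (δ i)) (hC i)
    rw [(LinearMap.exact_iff.1 (h1 i))] at e2
    rw [(LinearMap.exact_iff.1 (h2 i)), ← (LinearMap.exact_iff.1 (h3 i))] at e3
    dsimp only [κ]
    omega
  have hκ0 : κ 0 = 0 := by
    dsimp only [κ]
    rw [LinearMap.ker_eq_bot.2 h0]
    exact len_eq_zero_of_subsingleton
  have hκd : κ (d + 1) = 0 := by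
    dsimp only [κ]
    have : Subsingleton (LinearMap.ker (α (d + 1))) :=
      ⟨fun x y => Subtype.ext (Subsingleton.elim _ _)⟩
    exact len_eq_zero_of_subsingleton
  have h4 := telescopeZ κ d
  rw [hκ0, hκd, mul_zero, add_zero] at h4
  have h5 : ∑ i ∈ Finset.range (d + 1), (-1 : ℤ) ^ i * len (R := R) (A i) +
      ∑ i ∈ Finset.range (d + 1), (-1 : ℤ) ^ i * len (R := R) (C i) -
      ∑ i ∈ Finset.range (d + 1), (-1 : ℤ) ^ i * len (R := R) (B i) = 0 := by
    rw [← h4, ← Finset.sum_add_distrib, ← Finset.sum_sub_distrib]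
    apply Finset.sum_congr rfl
    intro i _
    rw [← key i]
    ring
  linarith

end Groth.Agent.Lib.R2H2.LengthLes
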