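import Groth.Agent.Lib.R2H2KoszulSheaf
import Groth.Agent.Lib.R2H2KoszulShift
import Groth.Agent.Lib.R2H2PnDual
import Groth.Agent.Lib.Helper27PnSections
import Groth.Agent.Lib.Helper27PnChart

/-!
# Castelnuovo–Mumford regularity on `P^n_R` via the Koszul complex (helper2, round 2)

* `KD F a` : the Koszul data `F ⊗ O(a + i)` on `P^n_R`, exact (`KD_exact`, `KD_mono`);
* `vanish_top` : `H^q(F(a + n + 1)) = 0` if `H^{q + (n - i)}(F(a + i)) = 0` for `i ≤ n`;
* `regular_succ` : `m`-regular implies `(m+1)`-regular; `regular_le`.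
-/

set_option autoImplicit false
universe u

namespace Groth.Agent.Lib.R2H2.PnReg

open CategoryTheory CategoryTheory.Limits AlgebraicGeometry
open Groth.Agent.Lib.R2H2.KoszulAbs Groth.Agent.Lib.R2H2.KoszulSheaf
  Groth.Agent.Lib.R2H2.KoszulShift Groth.Agent.Lib.R2H2.PnDual

variable (n : ℕ) (R : Type u) [CommRing R]

local notation "PX" => CohB1.ProjSpace n R
local notation "𝒫" => CohB1.polyGrading n R

/-- the homogeneous coordinates -/
noncomputable def xs : Fin (n + 1) → MvPolynomial (Fin (n + 1)) R := fun i => MvPolynomial.X i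

lemma xs_mem (l : Fin (n + 1)) : xs n R l ∈ CohB1.polyGrading n R 1 :=
  Groth.Agent.Lib.Helper27PnChart.X_mem_one n R l

lemma xs_cov (y : ProjectiveSpectrum 𝒫) : ∃ l, xs n R l ∉ y.asHomogeneousIdeal :=
  Groth.Agent.Lib.Helper27PnSections.exists_X_not_mem n R y

/-- the Koszul data of `F` on `P^n_R` -/
noncomputable def KD (F : (PX).Modules) (a : ℤ) : KData (PX).Modules (n + 1) :=
  kdata 𝒫 (xs n R) (xs_mem n R) F a

lemma KD_G (F : (PX).Modules) (a : ℤ) (i : ℕ) :
    (KD n R F a).G i = CohB1.tensorMod F (Otw R n (a + i)) := rfl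

theorem KD_exact (F : (PX).Modules) (a : ℤ) (i : ℕ) :
    (ShortComplex.mk ((KD n R F a).d i) ((KD n R F a).d (i + 1))
      ((KD n R F a).d_comp_d i)).Exact :=
  exact_kdata 𝒫 (xs n R) (xs_mem n R) F a (xs_cov n R) i

theorem KD_mono (F : (PX).Modules) (a : ℤ) : Mono ((KD n R F a).d 0) :=
  mono_kdata 𝒫 (xs n R) (xs_mem n R) F a (xs_cov n R)

/-- vanishing at the end of the Koszul complex, `GrTilde` form -/
theorem vanish_top_tilde (F : (PX).Modules) (a : ℤ) (q : ℕ)
    (h : ∀ i : ℕ, i < n + 1 →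
      Subsingleton (Coh.HH PX (CohB1.tensorMod F (Otw R n (a + i))) (q + (n + 1 - (i + 1))))) :
    Subsingleton (Coh.HH PX (CohB1.tensorMod F (Otw R n (a + ((n + 1 : ℕ) : ℤ)))) q) :=
  subsingleton_HH_G_top (KD n R F a) (KD_exact n R F a) (KD_mono n R F a) q h

/-- vanishing at the end of the Koszul complex -/
theorem vanish_top (F : (PX).Modules) (a : ℤ) (q : ℕ)
    (h : ∀ i : ℕ, i < n + 1 →
      Subsingleton (Coh.HH PX (CohB1.tensorMod F (Twist.twistProjSpace n R (a + i)))
        (q + (n + 1 - (i + 1))))) :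
    Subsingleton (Coh.HH PX (CohB1.tensorMod F
      (Twist.twistProjSpace n R (a + ((n + 1 : ℕ) : ℤ)))) q) := by
  have key : ∀ T : ℤ → (PX).Modules, T = (fun d => Otw R n d) →
      (∀ i : ℕ, i < n + 1 →
        Subsingleton (Coh.HH PX (CohB1.tensorMod F (T (a + i))) (q + (n + 1 - (i + 1))))) →
      Subsingleton (Coh.HH PX (CohB1.tensorMod F (T (a + ((n + 1 : ℕ) : ℤ)))) q) := by
    intro T hT
    subst hT
    exact vanish_top_tilde n R F a q
  exact key (fun d => Twist.twistProjSpace n R d) (funext fun d => twist_eq R n d) h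

/-- `m`-regular (in all degrees) implies `(m+1)`-regular -/
theorem regular_succ (F : (PX).Modules) (m : ℤ)
    (hreg : ∀ p : ℕ, 1 ≤ p →
      Subsingleton (Coh.HH PX (CohB1.tensorMod F (Twist.twistProjSpace n R (m - p))) p))
    (q : ℕ) (hq : 1 ≤ q) :
    Subsingleton (Coh.HH PX (CohB1.tensorMod F (Twist.twistProjSpace n R (m + 1 - q))) q) := by
  have h1 := vanish_top n R F (m + 1 - q - ((n + 1 : ℕ) : ℤ)) q (by
    intro i hi
    have e : m + 1 - q - ((n + 1 : ℕ) : ℤ) + (i : ℤ) =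
        m - ((q + (n + 1 - (i + 1)) : ℕ) : ℤ) := by omega
    rw [e]
    exact hreg _ (by omega))
  have e : m + 1 - q - ((n + 1 : ℕ) : ℤ) + ((n + 1 : ℕ) : ℤ) = m + 1 - q := by ring
  rw [e] at h1
  exact h1

/-- `m`-regular implies `m'`-regular for `m ≤ m'` -/
theorem regular_le (F : (PX).Modules) (m : ℤ)
    (hreg : ∀ p : ℕ, 1 ≤ p →
      Subsingleton (Coh.HH PX (CohB1.tensorMod F (Twist.twistProjSpace n R (m - p))) p))
    (t : ℕ) : ∀ p : ℕ, 1 ≤ p →
      Subsingleton (Coh.HH PX (CohB1.tensorMod F (Twist.twistProjSpace n R (m + t - p))) p) := by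
  induction t with
  | zero =>
    intro p hp
    have e : m + ((0 : ℕ) : ℤ) - p = m - p := by push_cast; ring
    rw [e]
    exact hreg p hp
  | succ t ih =>
    intro p hp
    have h1 := regular_succ n R F (m + t) ih p hp
    have e : m + ((t + 1 : ℕ) : ℤ) - p = m + t + 1 - p := by push_cast; ring
    rw [e]
    exact h1

end Groth.Agent.Lib.R2H2.PnReg
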