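import Groth.Agent.Lib.R2H2PnK0
import Groth.Agent.Lib.R2H2PnReg
import Groth.Agent.Lib.R2H2KoszulCx
import Groth.Agent.Lib.R2H2LengthLes
import Groth.Agent.Lib.R2H2FwdDiffPoly
set_option backward.isDefEq.respectTransparency.types false

/-!
# The Hilbert polynomial of a coherent sheaf on `P^r_A`, `A` Artinian (helper2, round 2)

* `chi` : the length Euler characteristic of a coherent module on `P^r_A`;
* `chi_shortExact` : additivity;
* `koszul_rel` : `∑ (-1)^i (r+1 choose i) χ(G(a+i)) = 0`;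
* `exists_hilbert_polynomial` : `n ↦ χ(G(n))` is a rational polynomial.
-/

set_option autoImplicit false
set_option linter.style.haveILetI false
universe u

namespace Groth.Agent.Lib.R2H2.PnHilbPoly

open CategoryTheory CategoryTheory.Limits AlgebraicGeometry Opposite KZero
open Groth.Agent.Lib.R2H2.HHLin Groth.Agent.Lib.R2H2.PnSerre
  Groth.Agent.Lib.R2H2.K0Gen Groth.Agent.Lib.R2H2.DualExtGen Groth.Agent.Lib.Helper23.QCohLocal
  Groth.Agent.Lib.R2H2.LengthLes Groth.Agent.Lib.R2H2.KoszulAbs Groth.Agent.Lib.R2H2.KoszulCx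
  Groth.Agent.Lib.R2H2.PnK0

attribute [local instance] Abelian.hasFiniteBiproducts

section Gen

variable {X : Scheme.{u}}

theorem isCoh_of_iso {M N : X.Modules} (e : M ≅ N) (hM : Coh.IsCoh M) : Coh.IsCoh N := by
  have i1 : M.IsQuasicoherent := hM.1
  have i2 : SheafOfModules.IsFiniteType (R := X.ringCatSheaf) M := hM.2
  exact ⟨Groth.Agent.Lib.Helper23.TensorQCoh.isQuasicoherent_of_iso e,
    Groth.Agent.Lib.Helper23.FinType.isFiniteType_of_iso e⟩

theorem isCoh_kernel [IsLocallyNoetherian X] {A B : X.Modules} (hA : Coh.IsCoh A)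
    (hB : Coh.IsCoh B) (φ : A ⟶ B) : Coh.IsCoh (kernel φ) := by
  have hAq : A.IsQuasicoherent := hA.1
  have hAf : SheafOfModules.IsFiniteType (R := X.ringCatSheaf) A := hA.2
  have hBq : B.IsQuasicoherent := hB.1
  have hKq : (kernel φ).IsQuasicoherent :=
    Groth.Agent.Lib.Helper23.QCohLocal.isQuasicoherent_kernel φ
  have hmono : Mono (kernel.ι φ) := inferInstance
  exact ⟨hKq, @Groth.Agent.Lib.Helper23.FinType.isFiniteType_of_mono X _ _ _ (kernel.ι φ) hmono
    hAq hAf hKq⟩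

theorem isCoh_biproduct_const (L : X.Modules) (hL : Coh.IsCoh L) (b : ℕ) :
    Coh.IsCoh (⨁ fun _ : Fin b => L) :=
  ⟨isQuasicoherent_biproduct _ (fun _ => hL.1),
    Groth.Agent.Lib.R2H2.PnFinite.isFiniteType_biproduct _ (fun _ => hL.1) (fun _ => hL.2)⟩

theorem isCoh_coprod_const (L : X.Modules) (hL : Coh.IsCoh L) (b : ℕ) :
    Coh.IsCoh (∐ fun _ : Fin b => L) :=
  isCoh_of_iso (biproduct.isoCoproduct (fun _ : Fin b => L)) (isCoh_biproduct_const L hL b)

/-- isomorphic modules have cohomology of the same length -/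
theorem length_HH_of_iso (A : Type u) [CommRing A] {Z : Scheme.{u}}
    [Z.Over (Spec (CommRingCat.of A))] {M N : Z.Modules} (e : M ≅ N) (q : ℕ) :
    Module.length A (Coh.HH Z M q) = Module.length A (Coh.HH Z N q) := by
  apply LinearEquiv.length_eq
  refine LinearEquiv.ofBijective (HmapA A e.hom q) ?_
  refine Function.bijective_iff_has_inverse.2 ⟨HmapA A e.inv q, fun x => ?_, fun x => ?_⟩
  · rw [HmapA_apply, HmapA_apply, ← HmapL_comp, e.hom_inv_id, HmapL_id]
  · rw [HmapA_apply, HmapA_apply, ← HmapL_comp, e.inv_hom_id, HmapL_id]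

end Gen

variable (A : Type u) [CommRing A] [IsArtinianRing A] (r : ℕ)

local notation "PX" => CohB1.ProjSpace r A

/-- the property of being coherent -/
abbrev PC : ObjectProperty (CohB1.ProjSpace r A).Modules :=
  fun M : (CohB1.ProjSpace r A).Modules => Coh.IsCoh M

theorem isCoh_twistSheaf (d : ℤ) : Coh.IsCoh (Twist.twistProjSpace r A d) :=
  ⟨Groth.Agent.Lib.R2H2.PnFinite.isQCoh_twist r A d,
    Groth.Agent.Lib.R2H2.PnFinite.isFiniteType_twist r A d⟩

theorem isCoh_twist (E : (PX).Modules) (hE : Coh.IsCoh E) (l : ℤ) :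
    Coh.IsCoh (CohB1.tensorMod E (Twist.twistProjSpace r A l)) := by
  have i1 : E.IsQuasicoherent := hE.1
  have i2 : SheafOfModules.IsFiniteType (R := (PX).ringCatSheaf) E := hE.2
  have i3 : (Twist.twistProjSpace r A l).IsQuasicoherent :=
    Groth.Agent.Lib.R2H2.PnFinite.isQCoh_twist r A l
  have i4 : SheafOfModules.IsFiniteType (R := (PX).ringCatSheaf) (Twist.twistProjSpace r A l) :=
    Groth.Agent.Lib.R2H2.PnFinite.isFiniteType_twist r A l
  exact ⟨Groth.Agent.Lib.Helper23.TensorQCoh.isQuasicoherent_tensorMod E _,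
    Groth.Agent.Lib.Helper23.TensorQCoh.isFiniteType_tensorMod E _⟩

theorem isCoh_of_isZero (Z : (PX).Modules) (hZ : IsZero Z) : Coh.IsCoh Z := by
  have h0 : Coh.IsCoh (kernel (𝟙 (Twist.twistProjSpace r A 0))) :=
    isCoh_kernel (isCoh_twistSheaf A r 0) (isCoh_twistSheaf A r 0) _
  have hz : IsZero (kernel (𝟙 (Twist.twistProjSpace r A 0))) := isZero_kernel_of_mono _
  exact isCoh_of_iso (hz.iso hZ) h0

/-- the length Euler characteristic -/
noncomputable def chi (G : (PX).Modules) : ℤ :=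
  ∑ q ∈ Finset.range (r + 1), (-1 : ℤ) ^ q * len (R := A) (Coh.HH PX G q)

theorem length_HH_ne_top (G : (PX).Modules) (hG : Coh.IsCoh G) (q : ℕ) :
    Module.length A (Coh.HH PX G q) ≠ ⊤ := by
  haveI : Module.Finite A (Coh.HH PX G q) := Groth.Agent.Lib.R2H2.PnFinite.finite_HH r A G hG q
  exact length_ne_top_of_finite _

/-- additivity of the Euler characteristic -/
theorem chi_shortExact (S : ShortComplex (PX).Modules) (hS : S.ShortExact)
    (h₁ : Coh.IsCoh S.X₁) (h₂ : Coh.IsCoh S.X₂) (h₃ : Coh.IsCoh S.X₃) :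
    chi A r S.X₂ = chi A r S.X₁ + chi A r S.X₃ := by
  have hmono : Mono S.f := hS.mono_f
  have hq : Coh.IsQCoh S.X₁ := h₁.1
  have hd : Subsingleton (Coh.HH PX S.X₁ (r + 1)) :=
    Groth.Agent.S0022.result r A _ (r + 1) (by omega)
  have e1 : ∀ i, Function.Exact (HmapA A S.f i) (HmapA A S.g i) := fun i y =>
    ⟨fun hy => exact₂ S hS i y hy, by
      rintro ⟨a, rfl⟩
      exact HmapL_g_f S i a⟩
  have e2 : ∀ i, Function.Exact (HmapA A S.g i) (deltaA A S hS i) := fun i y =>
    ⟨fun hy => exact₃ S hS i y hy, by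
      rintro ⟨a, rfl⟩
      exact deltaL_HmapL_g S hS i a⟩
  have e3 : ∀ i, Function.Exact (deltaA A S hS i) (HmapA A S.f (i + 1)) := fun i y =>
    ⟨fun hy => exact₁ S hS i y hy, by
      rintro ⟨a, rfl⟩
      exact HmapL_f_deltaL S hS i a⟩
  exact les_euler_length (R := A) (fun i => Coh.HH PX S.X₁ i) (fun i => Coh.HH PX S.X₂ i)
    (fun i => Coh.HH PX S.X₃ i) (fun i => length_HH_ne_top A r _ h₁ i)
    (fun i => length_HH_ne_top A r _ h₂ i) (fun i => length_HH_ne_top A r _ h₃ i)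
    (fun i => HmapA A S.f i) (fun i => HmapA A S.g i)
    (fun i => deltaA A S hS i) (injective_HmapL_zero S.f) e1 e2 e3 r hd

/-- the additive map `χ : K_0 → ℤ` -/
noncomputable def chiHom : K0sub (PC A r) →+ ℤ :=
  liftAdd (PC A r) (chi A r) (fun S hS h₁ h₂ h₃ => chi_shortExact A r S hS h₁ h₂ h₃)

theorem chiHom_clSub (G : (PX).Modules) (hG : Coh.IsCoh G) :
    chiHom A r (clSub (PC A r) G) = chi A r G :=
  liftAdd_clSub (PC A r) (chi A r) _ hG

/-- the Koszul relation in `K_0` for an arbitrary coherent `G` -/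
theorem koszul_rel_K0 (G : (PX).Modules) (hG : Coh.IsCoh G) (a : ℤ) :
    ∑ i ∈ Finset.range (r + 1 + 1), (-1 : ℤ) ^ i • (Nat.choose (r + 1) i •
      clSub (PC A r) (CohB1.tensorMod G (Twist.twistProjSpace r A (a + i)))) = 0 := by
  let D := Groth.Agent.Lib.R2H2.PnReg.KD r A G a
  let C : CochainComplex (PX).Modules ℤ := cxZ D
  have hex : ∀ i : ℤ, C.ExactAt i := cxZ_exactAt D
    (Groth.Agent.Lib.R2H2.PnReg.KD_exact r A G a) (Groth.Agent.Lib.R2H2.PnReg.KD_mono r A G a)
  have hGi : ∀ i : ℕ, Coh.IsCoh (CohB1.tensorMod G (Twist.twistProjSpace r A (a + i))) :=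
    fun i => isCoh_twist A r G hG _
  have hX : ∀ i : ℕ, Nonempty (C.X (i : ℤ) ≅
      ∐ fun _ : Fin (Nat.choose (r + 1) i) =>
        CohB1.tensorMod G (Twist.twistProjSpace r A (a + i))) := by
    intro i
    have e1 : D.K i ≅ ∐ (fun _ : Idx (r + 1) i =>
        CohB1.tensorMod G (Twist.twistProjSpace r A (a + i))) :=
      biproduct.isoCoproduct (fun _ : Idx (r + 1) i =>
        CohB1.tensorMod G (Twist.twistProjSpace r A (a + i)))
    have hc : Fintype.card (Idx (r + 1) i) = Nat.choose (r + 1) i := by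
      rw [Fintype.card_finset_len, Fintype.card_fin]
    let ε : Fin (Nat.choose (r + 1) i) ≃ Idx (r + 1) i := (Fintype.equivFinOfCardEq hc).symm
    have e2 := Sigma.reindex ε (fun _ : Idx (r + 1) i =>
      CohB1.tensorMod G (Twist.twistProjSpace r A (a + i)))
    exact ⟨cxZIso D i ≪≫ e1 ≪≫ e2.symm⟩
  have hzero : ∀ i : ℤ, i < 0 ∨ ((r + 1 : ℕ) : ℤ) < i → IsZero (C.X i) := by
    rintro i (hi | hi)
    · exact isZero_cxZ_neg D i hi
    · exact isZero_cxZ_large D i hi
  have hP : ∀ i : ℤ, PC A r (C.X i) := by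
    intro i
    by_cases hi : i < 0 ∨ ((r + 1 : ℕ) : ℤ) < i
    · exact isCoh_of_isZero A r _ (hzero i hi)
    · push Not at hi
      obtain ⟨j, rfl⟩ : ∃ j : ℕ, i = (j : ℤ) := ⟨i.toNat, by omega⟩
      obtain ⟨e⟩ := hX j
      exact isCoh_of_iso e.symm (isCoh_coprod_const _ (hGi j) _)
  have h := alternating_sum_eq_zero (PC A r) (isCoh_of_isZero A r)
    (fun {X Y} f hX hY => isCoh_kernel hX hY f) C hex hP (r + 1) hzero
  rw [← h]
  apply Finset.sum_congr rfl
  intro i hi
  obtain ⟨e⟩ := hX i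
  rw [clSub_of_iso (PC A r) (isCoh_of_isZero A r) e (hP i) (isCoh_coprod_const _ (hGi i) _),
    clSub_coprod_const (PC A r) (isCoh_of_isZero A r) _ (hGi i)
      (fun b => isCoh_coprod_const _ (hGi i) b)]

/-- the Koszul relation for Euler characteristics -/
theorem koszul_rel (G : (PX).Modules) (hG : Coh.IsCoh G) (a : ℤ) :
    ∑ i ∈ Finset.range (r + 1 + 1), (-1 : ℤ) ^ i * (((r + 1).choose i : ℤ) *
      chi A r (CohB1.tensorMod G (Twist.twistProjSpace r A (a + i)))) = 0 := by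
  have h := congrArg (chiHom A r) (koszul_rel_K0 A r G hG a)
  rw [map_zero, map_sum] at h
  rw [← h]
  apply Finset.sum_congr rfl
  intro i _
  rw [map_zsmul, map_nsmul, chiHom_clSub A r _ (isCoh_twist A r G hG _), smul_eq_mul,
    nsmul_eq_mul]

/-- **the Hilbert polynomial** of a coherent module on `P^r_A` -/
theorem exists_hilbert_polynomial (G : (PX).Modules) (hG : Coh.IsCoh G) :
    ∃ P : Polynomial ℚ, ∀ n : ℤ,
      (chi A r (CohB1.tensorMod G (Twist.twistProjSpace r A n)) : ℚ) = P.eval (n : ℚ) :=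
  Groth.Agent.Lib.R2H2.FwdDiffPoly.exists_polynomial (r + 1)
    (fun n => chi A r (CohB1.tensorMod G (Twist.twistProjSpace r A n)))
    (fun a => koszul_rel A r G hG a)

end Groth.Agent.Lib.R2H2.PnHilbPoly
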