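import Groth.Agent.Lib.R2H2ClosedPn
import Groth.Agent.Lib.R2H2PnHilbPoly
import Groth.Agent.Lib.Helper23AmpleIso
set_option backward.isDefEq.respectTransparency.types false

/-!
# Global sections of large twists on a closed subscheme of `P^r_A` (helper2, round 2)

* `serre_vanishing_closed` : Serre vanishing on a closed subscheme `X` of `P^r_A` for a family of
  modules `L n ≅ i^* O(n)`;
* `exists_gamma_exact` : for an exact `F → G → H` of coherent modules on `X`, the sequences of
  global sections of the twists are exact for large twists.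
-/

set_option autoImplicit false
set_option linter.style.haveILetI false
universe u

namespace Groth.Agent.Lib.R2H2.ClosedPnGamma

open CategoryTheory CategoryTheory.Limits AlgebraicGeometry Opposite
open Groth.Agent.Lib.R2H2.HHLin Groth.Agent.Lib.R2H2.PnSerre Groth.Agent.Lib.R2H2.ClosedPn
  Groth.Agent.Lib.R2H2.K0Gen Groth.Agent.Lib.R2H2.DualExtGen Groth.Agent.Lib.R2H2.PnK0
  Groth.Agent.Lib.Helper27PnSections

variable (r : ℕ) (A : Type u) [CommRing A] [IsNoetherianRing A] {X : Scheme.{u}}
  (i : X ⟶ CohB1.ProjSpace r A) [IsClosedImmersion i]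
  (L : ℤ → X.Modules)
  (hL : ∀ n : ℤ, Nonempty ((Scheme.Modules.pullback i).obj (Twist.twistProjSpace r A n) ≅ L n))

include hL in
theorem isInvertible_L (n : ℤ) : PicF.IsInvertible (L n) := by
  obtain ⟨e⟩ := hL n
  exact Groth.Agent.Lib.Helper23.AmpleIso.isInvertible_of_iso e
    (Groth.Agent.Lib.Helper23.PB.isInvertible_pullback i _ (isInv r A n))

include hL in
/-- Serre vanishing on a closed subscheme of `P^r_A` -/
theorem serre_vanishing_closed (K : X.Modules) (hK : Coh.IsCoh K) :
    ∃ d₀ : ℤ, ∀ n : ℤ, d₀ ≤ n → ∀ q : ℕ, 0 < q →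
      Subsingleton (Coh.HH X (CohB1.tensorMod K (L n)) q) := by
  have hG : Coh.IsCoh ((Scheme.Modules.pushforward i).obj K) := isCoh_push i K hK
  obtain ⟨d₀, hd₀⟩ := serre_vanishing_all r A _ hG
  refine ⟨d₀, fun n hn q hq => ?_⟩
  have h1 : Subsingleton (Coh.HH X (CohB1.tensorMod K
      ((Scheme.Modules.pullback i).obj (Twist.twistProjSpace r A n))) q) :=
    (subsingleton_HH_twistOn_iff r A i K hK.1 n q).2 (hd₀ n hn q hq)
  obtain ⟨e⟩ := hL n
  exact subsingleton_HH_of_iso ((DCoh.tensorBi.obj K).mapIso e) q h1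

theorem mono_twR_map (M : X.Modules) (hM : PicF.IsInvertible M) {P Q : X.Modules} (m : P ⟶ Q)
    [Mono m] : Mono ((twR M).map m) := by
  let S : ShortComplex X.Modules := ShortComplex.mk m (cokernel.π m) (cokernel.condition m)
  have hS : S.ShortExact :=
    { exact := ShortComplex.exact_cokernel m
      mono_f := by dsimp [S]; infer_instance
      epi_g := by dsimp [S]; infer_instance }
  exact (shortExact_map_twR M hM S hS).mono_f

include hL in
/-- **global sections of large twists are exact** -/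
theorem exists_gamma_exact (C : ShortComplex X.Modules) (hC : C.Exact) (h1 : Coh.IsCoh C.X₁)
    (h2 : Coh.IsCoh C.X₂) :
    ∃ N : ℤ, ∀ n : ℤ, N ≤ n → ∀ x : Γ((twR (L n)).obj C.X₂, ⊤),
      ((twR (L n)).map C.g).app ⊤ x = 0 → ∃ y : Γ((twR (L n)).obj C.X₁, ⊤),
        ((twR (L n)).map C.f).app ⊤ y = x := by
  haveI : IsLocallyNoetherian X := LocallyOfFiniteType.isLocallyNoetherian i
  have hK : Coh.IsCoh (kernel C.f) := Groth.Agent.Lib.R2H2.PnHilbPoly.isCoh_kernel h1 h2 C.f
  obtain ⟨N, hN⟩ := serre_vanishing_closed r A i L hL (kernel C.f) hK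
  refine ⟨N, fun n hn x0 hx0 => ?_⟩
  have hinv := isInvertible_L r A i L hL n
  let T := twR (L n)
  -- the two short exact sequences
  let Sa : ShortComplex X.Modules := kerS C
  have hSa : Sa.ShortExact := kerS_shortExact C hC
  have hTa : (Sa.map T).ShortExact := shortExact_map_twR (L n) hinv Sa hSa
  let Sb : ShortComplex X.Modules :=
    ShortComplex.mk (kernel.ι C.g) (cokernel.π (kernel.ι C.g)) (cokernel.condition _)
  have hSb : Sb.ShortExact :=
    { exact := ShortComplex.exact_cokernel _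
      mono_f := by dsimp [Sb]; infer_instance
      epi_g := by dsimp [Sb]; infer_instance }
  have hTb : (Sb.map T).ShortExact := shortExact_map_twR (L n) hinv Sb hSb
  -- `g` factors through the coimage by a monomorphism
  let gbar : cokernel (kernel.ι C.g) ⟶ C.X₃ := Abelian.factorThruCoimage C.g
  have hgbar : cokernel.π (kernel.ι C.g) ≫ gbar = C.g := Abelian.coimage.fac C.g
  haveI : Mono gbar := by dsimp only [gbar]; infer_instance
  haveI : Mono (T.map gbar) := mono_twR_map (L n) hinv gbar
  -- pass to `H^0`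
  let x : Coh.HH X (T.obj C.X₂) 0 := (hh0Equiv X (T.obj C.X₂)).symm x0
  have hx : hh0Equiv X (T.obj C.X₂) x = x0 := AddEquiv.apply_symm_apply _ _
  have hx1 : HmapL (T.map C.g) 0 x = 0 := by
    apply (hh0Equiv X (T.obj C.X₃)).injective
    rw [map_zero]
    have h := Sheaf.H.equiv₀_naturality Limits.isTerminalTop (abMap (T.map C.g)) x
    refine h.symm.trans ?_
    exact (congrArg ((abMap (T.map C.g)).hom.app (op ⊤)) hx).trans hx0
  have hx2 : HmapL (T.map (cokernel.π (kernel.ι C.g))) 0 x = 0 := by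
    apply injective_HmapL_zero (T.map gbar)
    rw [map_zero, ← HmapL_comp, ← T.map_comp, hgbar]
    exact hx1
  obtain ⟨z, hz⟩ := exact₂ (Sb.map T) hTb 0 x hx2
  have hd : Subsingleton (Coh.HH X (Sa.map T).X₁ (0 + 1)) := hN n hn 1 Nat.one_pos
  obtain ⟨y, hy⟩ := exact₃ (Sa.map T) hTa 0 z (@Subsingleton.elim _ hd _ _)
  refine ⟨hh0Equiv X (T.obj C.X₁) y, ?_⟩
  have hfac : kernel.lift C.g C.f C.zero ≫ kernel.ι C.g = C.f := kernel.lift_ι _ _ _
  have hy2 : HmapL (T.map C.f) 0 y = x := by
    rw [← hfac, T.map_comp, HmapL_comp]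
    exact (congrArg (HmapL (T.map (kernel.ι C.g)) 0) hy).trans hz
  have h := Sheaf.H.equiv₀_naturality Limits.isTerminalTop (abMap (T.map C.f)) y
  refine h.trans ?_
  exact (congrArg (hh0Equiv X (T.obj C.X₂)) hy2).trans hx

end Groth.Agent.Lib.R2H2.ClosedPnGamma
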