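import Groth.Agent.Lib.R2H2AmpleRes
import Groth.Agent.Lib.R2H2PdRes
import Groth.Agent.Lib.R2LeadKRR
import Groth.Agent.Lib.Helper27TwistAmple2
import Groth.Agent.Lib.Helper27PnSections
import Groth.Agent.Lib.R2H2ClosedPn
import Groth.Agent.Lib.R2H2PnFinite
import Groth.Agent.Lib.Helper6SmRegSch
import Groth.Agent.Lib.Helper2LocFree
import Groth.Agent.Lib.R2H2K0Chain
set_option backward.isDefEq.respectTransparency.types false

/-!
# `K⁰ → K₀` is bijective on smooth quasi-projective schemes (helper2, round 2)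

* `isAmple_twistProjSpace_one` : `O(1)` on `P^n_R` is ample (`R` Noetherian).
* `hasEnoughLocFree_of_embedding` : a quasi-compact locally Noetherian scheme with a topological
  embedding into `P^n_R` has enough locally free modules.
* `bijective_of_smooth` : the final statement.
-/

set_option autoImplicit false
universe u

open CategoryTheory CategoryTheory.Limits AlgebraicGeometry TopologicalSpace Opposite

namespace Groth.Agent.Lib.R2H2.QProjK0

section Gen

variable {R A : Type u} [CommRing R] [CommRing A] [Algebra R A] (𝒜 : ℕ → Submodule R A)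
  [GradedAlgebra 𝒜]

theorem isAmple_twist_one_of_cover {ι : Type*} (G : ι → A) (hG : ∀ i, G i ∈ 𝒜 1)
    (hcov : ∀ y : Proj 𝒜, ∃ i, G i ∉ (show ProjectiveSpectrum 𝒜 from y).asHomogeneousIdeal)
    [CompactSpace (Proj 𝒜)] : CohB1.IsAmple (Twist.twist 𝒜 1) := by
  have h := Groth.Agent.Lib.Helper27GrTildeSect.isAmple_of_cover 𝒜 1 G hG hcov one_pos
  have h1 : ((1 : ℕ) : ℤ) = 1 := Nat.cast_one
  rw [h1] at h
  exact h

theorem nonempty_twist_iso_tensorPow_gen
    (hcov : ∀ y : Proj 𝒜, ∃ f : 𝒜 1, y ∈ Proj.basicOpen 𝒜 (f : A))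
    (m : ℕ) : Nonempty (Twist.twist 𝒜 (m : ℤ) ≅ CohB1.tensorPow (Twist.twist 𝒜 1) m) := by
  have h := Groth.Agent.Lib.Helper27GrTildeSect.nonempty_pow_iso 𝒜 hcov m
  exact h

end Gen

section Pn

variable (n : ℕ) (R : Type u) [CommRing R] [IsNoetherianRing R]

theorem isNoetherian_projSpace : IsNoetherian (CohB1.ProjSpace n R) := by
  have : IsNoetherianRing (MvPolynomial (Fin (n + 1)) R) := inferInstance
  exact Groth.Agent.S2357.result (CohB1.polyGrading n R)

theorem isAmple_twistProjSpace_one : CohB1.IsAmple (Twist.twistProjSpace n R 1) := by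
  haveI : IsNoetherian (Proj (CohB1.polyGrading n R)) := isNoetherian_projSpace n R
  haveI : CompactSpace (Proj (CohB1.polyGrading n R)) := inferInstance
  exact isAmple_twist_one_of_cover (CohB1.polyGrading n R)
    (fun i : Fin (n + 1) => (MvPolynomial.X i : MvPolynomial (Fin (n + 1)) R))
    (Groth.Agent.Lib.Helper27PnChart.X_mem_one n R)
    (fun y => Groth.Agent.Lib.Helper27PnSections.exists_X_not_mem n R y)

omit [IsNoetherianRing R] in
theorem nonempty_twist_iso_tensorPow (m : ℕ) :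
    Nonempty (Twist.twistProjSpace n R (m : ℤ) ≅
      CohB1.tensorPow (Twist.twistProjSpace n R 1) m) := by
  refine nonempty_twist_iso_tensorPow_gen (CohB1.polyGrading n R) ?_ m
  intro y
  obtain ⟨i, hi⟩ := Groth.Agent.Lib.Helper27PnSections.exists_X_not_mem n R y
  exact ⟨⟨MvPolynomial.X i, Groth.Agent.Lib.Helper27PnChart.X_mem_one n R i⟩,
    (ProjectiveSpectrum.mem_basicOpen _ _ y).mpr hi⟩

omit [IsNoetherianRing R] in
theorem nonempty_twist_tensor_neg_iso (m : ℤ) :
    Nonempty ((DCoh.tensorBi.obj (Twist.twistProjSpace n R m)).obj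
      (Twist.twistProjSpace n R (-m)) ≅ Coh.structureModule (CohB1.ProjSpace n R)) := by
  obtain ⟨e1⟩ := Groth.Agent.Lib.R2Lead.KRR.nonempty_twistProjSpace_tensor_iso n R m (-m)
  obtain ⟨e2⟩ := Groth.Agent.Lib.R2Lead.KRR.nonempty_twistProjSpace_zero_iso n R
  have h0 : m + -m = 0 := by omega
  exact ⟨e1 ≪≫ eqToIso (by rw [h0]) ≪≫ e2⟩

variable {X : Scheme.{u}} (f : X ⟶ CohB1.ProjSpace n R)

theorem hasEnoughLocFree_of_embedding [IsLocallyNoetherian X] [CompactSpace X]
    (hf : Topology.IsEmbedding f) : KRR.HasEnoughLocFree X := by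
  have hL1 := Groth.Agent.Lib.R2Lead.KRR.isInvertible_twistProjSpace n R 1
  refine Groth.Agent.Lib.R2H2.AmpleRes.hasEnoughLocFree_of_inverses
    ((Scheme.Modules.pullback f).obj (Twist.twistProjSpace n R 1))
    (Groth.Agent.Lib.Helper23.PB.isAmple_pullback_of_isEmbedding f hf _
      (isAmple_twistProjSpace_one n R)) (fun m => ?_)
  obtain ⟨e1⟩ := Groth.Agent.Lib.Helper23.PB.nonempty_pullback_tensorPow_iso f
    (Twist.twistProjSpace n R 1) hL1 m
  obtain ⟨e2⟩ := nonempty_twist_iso_tensorPow n R m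
  obtain ⟨e3⟩ := nonempty_twist_tensor_neg_iso n R (m : ℤ)
  refine ⟨(Scheme.Modules.pullback f).obj (Twist.twistProjSpace n R (-(m : ℤ))),
    Groth.Agent.Lib.Helper23.PB.isInvertible_pullback f _
      (Groth.Agent.Lib.R2Lead.KRR.isInvertible_twistProjSpace n R _), ⟨?_⟩⟩
  exact (DCoh.tensorBi.mapIso (e1.symm ≪≫ (Scheme.Modules.pullback f).mapIso e2.symm)).app _ ≪≫
    Groth.Agent.Lib.R2H2.ClosedPn.pullTensorUnitIso f _ _ e3

end Pn

section Main

theorem isCoh_of_isFinLocFree {X : Scheme.{u}} (M : X.Modules) (hM : FlatMod.IsFinLocFree M) :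
    Coh.IsCoh M := by
  haveI := Groth.Agent.Lib.Helper2.LocFree.isFP_of_isFinLocFree M hM
  exact ⟨inferInstance, inferInstance⟩

theorem bijective_of_smooth (k : Type u) [Field k] (N : ℕ)
    (X : Scheme.{u}) (s : X ⟶ Spec (CommRingCat.of k)) [Smooth s]
    (ι : X ⟶ CohB1.ProjSpace N k) [IsImmersion ι] :
    ∃ α : KZero.K0sub (fun M : X.Modules => FlatMod.IsFinLocFree M) →+
        KZero.K0sub (fun M : X.Modules => Coh.IsCoh M),
      (∀ E : X.Modules, FlatMod.IsFinLocFree E →
        α (KZero.clSub (fun M : X.Modules => FlatMod.IsFinLocFree M) E) =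
          KZero.clSub (fun M : X.Modules => Coh.IsCoh M) E) ∧
      Function.Bijective α := by
  haveI : IsNoetherian (CohB1.ProjSpace N k) := isNoetherian_projSpace N k
  have hemb : Topology.IsEmbedding ι := ι.isEmbedding
  haveI : NoetherianSpace X := hemb.isInducing.noetherianSpace
  haveI : CompactSpace X := inferInstance
  haveI : IsLocallyNoetherian X := LocallyOfFiniteType.isLocallyNoetherian s
  haveI : IsNoetherian X := {}
  have hreg : ∀ x : X, IsRegularLocalRing (X.presheaf.stalk x) := fun x =>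
    Groth.Agent.Lib.Helper6.SmRegSch.isRegularLocalRing_stalk_of_smooth_over_field k X s x
  have hX : KRR.HasEnoughLocFree X := hasEnoughLocFree_of_embedding N k ι hemb
  have h : ∀ M : X.Modules, FlatMod.IsFinLocFree M → Coh.IsCoh M := isCoh_of_isFinLocFree
  refine ⟨SGA6.mapSub (𝟭 X.Modules) (KRR.vbP X) (fun M : X.Modules => Coh.IsCoh M) h,
    fun E hE => ?_, Groth.Agent.Lib.R2H2.PdRes.main3746 hreg hX h⟩
  exact Groth.Agent.Lib.R2H2.K0Chain.mapSub_clSub h hE

end Main

end Groth.Agent.Lib.R2H2.QProjK0
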