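import Mathlib

/-!
# An immersion criterion by affine charts (helper3, round 2)

* `isClosedImmersion_of_affine_cover` : a morphism is a closed immersion if the target has a cover by affine opens with
  affine preimages on which the morphism is surjective on sections
* `isImmersion_of_charts` : `i : X ⟶ P` is an immersion if there are affine opens `Ω k` of `P` whose preimages are affine and
  cover `X`, and `Γ(P, Ω k) → Γ(X, i⁻¹ Ω k)` is surjective.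
-/

set_option autoImplicit false
universe u
open CategoryTheory CategoryTheory.Limits AlgebraicGeometry TopologicalSpace Opposite

namespace Groth.Agent.Lib.R2H3.VAmpleImm

theorem surjective_map_eqToHom {X : Scheme.{u}} {U V : X.Opens} (h : U = V) :
    Function.Surjective (X.presheaf.map (eqToHom h).op) := by
  subst h
  intro x
  exact ⟨x, by simp⟩

theorem surjective_map_of_eq {X : Scheme.{u}} {U V : X.Opens} (h : U = V) (e : U ≤ V) :
    Function.Surjective (X.presheaf.map (homOfLE e).op) := by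
  subst h
  intro x
  exact ⟨x, by simp⟩

theorem isClosedImmersion_of_affine_cover {X Y : Scheme.{u}} (f : X ⟶ Y) {ι : Type*}
    (U : ι → Y.Opens) (hU : ∀ i, IsAffineOpen (U i)) (hcov : ⨆ i, U i = ⊤)
    (hpre : ∀ i, IsAffineOpen (f ⁻¹ᵁ U i))
    (hs : ∀ i, Function.Surjective (f.app (U i))) : IsClosedImmersion f := by
  rw [@HasAffineProperty.iff_of_iSup_eq_top @IsClosedImmersion _
    IsClosedImmersion.hasAffineProperty _ _ f _ (fun i => ⟨U i, hU i⟩) hcov]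
  intro i
  show IsAffine _ ∧ Function.Surjective ((f ∣_ U i).appTop)
  refine ⟨hpre i, ?_⟩
  rw [morphismRestrict_appTop]
  have key : ∀ U' : Y.Opens, U' = U i → Function.Surjective (f.app U') := by
    rintro _ rfl; exact hs i
  have := key ((U i).ι ''ᵁ ⊤) (by simp)
  exact (surjective_map_eqToHom (image_morphismRestrict_preimage f (U i) ⊤)).comp this

/-- **Immersion criterion by affine charts.** -/
theorem isImmersion_of_charts {X P : Scheme.{u}} (i : X ⟶ P) {κ : Type*} (Ω : κ → P.Opens)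
    (hΩ : ∀ k, IsAffineOpen (Ω k)) (hpre : ∀ k, IsAffineOpen (i ⁻¹ᵁ Ω k))
    (hcov : ⨆ k, i ⁻¹ᵁ Ω k = ⊤) (hs : ∀ k, Function.Surjective (i.app (Ω k))) :
    IsImmersion i := by
  set W : P.Opens := ⨆ k, Ω k with hW
  have hrange : Set.range i ⊆ Set.range W.ι := by
    rintro _ ⟨x, rfl⟩
    have hx : x ∈ (⨆ k, i ⁻¹ᵁ Ω k : X.Opens) := by rw [hcov]; trivial
    obtain ⟨k, hk⟩ := Opens.mem_iSup.1 hx
    have : i x ∈ W := Opens.mem_iSup.2 ⟨k, hk⟩
    rw [Scheme.Opens.range_ι]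
    exact this
  let i' : X ⟶ W.toScheme := IsOpenImmersion.lift W.ι i hrange
  have hi' : i' ≫ W.ι = i := IsOpenImmersion.lift_fac _ _ _
  have hΩW : ∀ k, Ω k ≤ W := fun k => le_iSup Ω k
  rw [IsImmersion.isImmersion_iff_exists]
  refine ⟨W.toScheme, i', W.ι, ?_, inferInstance, hi'⟩
  have hpre' : ∀ k, i' ⁻¹ᵁ (W.ι ⁻¹ᵁ Ω k) = i ⁻¹ᵁ Ω k := by
    intro k
    rw [← Scheme.Hom.comp_preimage, hi']
  refine isClosedImmersion_of_affine_cover i' (fun k => W.ι ⁻¹ᵁ Ω k) (fun k => ?_) ?_ (fun k => ?_) (fun k => ?_)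
  · exact (hΩ k).preimage_of_isOpenImmersion W.ι (by rw [Scheme.Opens.opensRange_ι]; exact hΩW k)
  · rw [eq_top_iff]
    rintro ⟨y, hy⟩ -
    obtain ⟨k, hk⟩ := Opens.mem_iSup.1 hy
    exact Opens.mem_iSup.2 ⟨k, hk⟩
  · rw [hpre' k]; exact hpre k
  · -- surjectivity
    have hle : i' ⁻¹ᵁ (W.ι ⁻¹ᵁ Ω k) ≤ i ⁻¹ᵁ Ω k := (hpre' k).le
    have h1 : Function.Surjective (i.appLE (Ω k) (i' ⁻¹ᵁ (W.ι ⁻¹ᵁ Ω k)) hle) := by
      rw [Scheme.Hom.appLE]
      exact (surjective_map_of_eq (hpre' k) hle).comp (hs k)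
    have h2 : ∀ (j : X ⟶ P) (hj : j = i) (e : i' ⁻¹ᵁ (W.ι ⁻¹ᵁ Ω k) ≤ j ⁻¹ᵁ Ω k),
        Function.Surjective (j.appLE (Ω k) (i' ⁻¹ᵁ (W.ι ⁻¹ᵁ Ω k)) e) := by
      rintro _ rfl e; exact h1
    have h3 := h2 (i' ≫ W.ι) hi' le_rfl
    rw [← Scheme.Hom.appLE_comp_appLE _ _ (Ω k) (W.ι ⁻¹ᵁ Ω k) _ le_rfl le_rfl] at h3
    have h4 : Function.Surjective (i'.appLE (W.ι ⁻¹ᵁ Ω k) (i' ⁻¹ᵁ (W.ι ⁻¹ᵁ Ω k)) le_rfl) := by
      intro z
      obtain ⟨w, hw⟩ := h3 z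
      exact ⟨_, hw⟩
    rwa [Scheme.Hom.appLE_eq_app] at h4

theorem injective_map_of_eq {X : Scheme.{u}} {U V : X.Opens} (h : U = V) (e : U ≤ V) :
    Function.Injective (X.presheaf.map (homOfLE e).op) := by
  subst h
  intro x y hxy
  simpa using hxy

/-- variant with prescribed preimages -/
theorem isImmersion_of_charts' {X P : Scheme.{u}} (i : X ⟶ P) {κ : Type*} (Ω : κ → P.Opens) (U : κ → X.Opens)
    (hΩ : ∀ k, IsAffineOpen (Ω k)) (hU : ∀ k, IsAffineOpen (U k)) (hpre : ∀ k, i ⁻¹ᵁ Ω k = U k)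
    (hcov : ⨆ k, U k = ⊤) (hs : ∀ k, Function.Surjective (i.appLE (Ω k) (U k) (hpre k).ge)) :
    IsImmersion i := by
  refine isImmersion_of_charts i Ω hΩ (fun k => by rw [hpre k]; exact hU k) ?_ (fun k => ?_)
  · have : (fun k => i ⁻¹ᵁ Ω k) = U := funext hpre
    rw [this]; exact hcov
  · intro z
    obtain ⟨w, hw⟩ := hs k (X.presheaf.map (homOfLE (hpre k).ge).op z)
    refine ⟨w, ?_⟩
    apply injective_map_of_eq (hpre k).symm (hpre k).ge
    rw [← hw, Scheme.Hom.appLE]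
    rfl

theorem appLE_congr {X Y : Scheme.{u}} {g g' : X ⟶ Y} (h : g = g') {V : Y.Opens} {U : X.Opens}
    (e : U ≤ g ⁻¹ᵁ V) : g.appLE V U e = g'.appLE V U (h ▸ e) := by
  subst h; rfl

/-- surjectivity on a product chart -/
theorem chart_surjective {X P Q S : Scheme.{u}} (i : X ⟶ P) (p : P ⟶ Q) (q : P ⟶ S) (r : X ⟶ Q) (f : X ⟶ S)
    (hr : i ≫ p = r) (hf : i ≫ q = f) {D : Q.Opens} {V : S.Opens} {U : X.Opens}
    (hUD : U ≤ r ⁻¹ᵁ D) (hUV : U ≤ f ⁻¹ᵁ V) (hle : U ≤ i ⁻¹ᵁ (p ⁻¹ᵁ D ⊓ q ⁻¹ᵁ V))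
    (H : ∀ T : Subring Γ(X, U), (∀ a, (f.appLE V U hUV).hom a ∈ T) → (∀ z, (r.appLE D U hUD).hom z ∈ T) → T = ⊤) :
    Function.Surjective (i.appLE (p ⁻¹ᵁ D ⊓ q ⁻¹ᵁ V) U hle) := by
  have hT := H (i.appLE (p ⁻¹ᵁ D ⊓ q ⁻¹ᵁ V) U hle).hom.range ?_ ?_
  · intro z
    have : z ∈ (i.appLE (p ⁻¹ᵁ D ⊓ q ⁻¹ᵁ V) U hle).hom.range := by rw [hT]; trivial
    exact this
  · intro a
    have h1 : f.appLE V U hUV = q.appLE V (p ⁻¹ᵁ D ⊓ q ⁻¹ᵁ V) inf_le_right ≫
        i.appLE (p ⁻¹ᵁ D ⊓ q ⁻¹ᵁ V) U hle := by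
      rw [Scheme.Hom.appLE_comp_appLE]
      exact appLE_congr hf.symm hUV
    rw [h1]
    exact ⟨_, rfl⟩
  · intro z
    have h1 : r.appLE D U hUD = p.appLE D (p ⁻¹ᵁ D ⊓ q ⁻¹ᵁ V) inf_le_left ≫
        i.appLE (p ⁻¹ᵁ D ⊓ q ⁻¹ᵁ V) U hle := by
      rw [Scheme.Hom.appLE_comp_appLE]
      exact appLE_congr hr.symm hUD
    rw [h1]
    exact ⟨_, rfl⟩

/-- finite type: finitely many generators, in subring form -/
theorem exists_gens {A B : Type u} [CommRing A] [CommRing B] (φ : A →+* B) (h : φ.FiniteType) :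
    ∃ (m : ℕ) (b : Fin m → B), ∀ T : Subring B, (∀ a, φ a ∈ T) → (∀ j, b j ∈ T) → T = ⊤ := by
  algebraize [φ]
  obtain ⟨s, hs⟩ := (Algebra.FiniteType.out : (⊤ : Subalgebra A B).FG)
  refine ⟨s.card, fun j => (s.equivFin.symm j : B), fun T hT hb => ?_⟩
  rw [eq_top_iff]
  intro z _
  have hz : z ∈ Algebra.adjoin A (s : Set B) := by rw [hs]; trivial
  have h2 : (Algebra.adjoin A (s : Set B)).toSubring ≤ T := by
    rw [Algebra.adjoin_eq_ring_closure, Subring.closure_le]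
    rintro y (⟨a, rfl⟩ | hy)
    · exact hT a
    · have := hb (s.equivFin ⟨y, hy⟩)
      simpa using this
  exact h2 hz

end Groth.Agent.Lib.R2H3.VAmpleImm
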