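import Mathlib
import Groth.Agent.Lib.Helper23SecTw10
import Groth.Agent.S15744
import Groth.Agent.Lib.Helper23Restr

/-!
# Sections of large twists with prescribed ratios (helper3, round 2)

Setting: `X` quasi-compact quasi-separated, `P` invertible, `σ : O ⟶ P`, `U = X_σ`, `Q` invertible with a generator on `U`,
`b : Fin m → Γ(X, U)` finitely many functions on `U`.

* `Good U b Q` : there are a global section `s` of `Q` with `U ≤ X_s` and global sections `t j` with `t j = b j • s` on `U`.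
* `good_of_iso`, `good_tensor_pow`, `good_snoc`, `exists_good`, `exists_good_eventually`
* `exists_good_ample` : for `L` ample, `E` invertible, `σ` a section of `L^(d+1)` with generators of `E` and `L` on `X_σ`: for all
  `N ≥ N₀` the module `E ⊗ L^N` is `Good` (with `X_s = X_σ`).
-/

set_option autoImplicit false
universe u
open CategoryTheory CategoryTheory.Limits AlgebraicGeometry TopologicalSpace Opposite

namespace Groth.Agent.Lib.R2H3.VAmpleSec

open Groth.Agent.Lib.Helper23.SecTw Groth.Agent.Lib.Helper23.GenLocus Groth.Agent.Lib.Helper6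
  Groth.Agent.Lib.Helper23.AmpleIso Groth.Agent.Lib.Helper23.Extend

variable {X : Scheme.{u}}

/-- a global section `s` of `Q` with `X_s = U`, and global sections `t j` with `t j = b j • s` on `U` -/
def Good (U : X.Opens) {m : ℕ} (b : Fin m → Γ(X, U)) (Q : X.Modules) : Prop :=
  ∃ s : Coh.structureModule X ⟶ Q, CohB1.genLocus Q s = U ∧
    ∀ j, ∃ t : Coh.structureModule X ⟶ Q, sv t U = b j • sv s U

theorem good_of_iso {U : X.Opens} {m : ℕ} {b : Fin m → Γ(X, U)} {Q Q' : X.Modules} (e : Q ≅ Q')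
    (h : Good U b Q) : Good U b Q' := by
  obtain ⟨s, hs, ht⟩ := h
  refine ⟨s ≫ e.hom, by rw [genLocus_comp_iso]; exact hs, fun j => ?_⟩
  obtain ⟨t, ht⟩ := ht j
  refine ⟨t ≫ e.hom, ?_⟩
  rw [sv_comp, sv_comp, ht, Scheme.Modules.Hom.app_smul]

/-- multiply everything by `σ^k` -/
theorem good_tensor_pow {U : X.Opens} {m : ℕ} {b : Fin m → Γ(X, U)} {Q P : X.Modules}
    (hQ : PicF.IsInvertible Q) (hP : PicF.IsInvertible P) (σ : Coh.structureModule X ⟶ P)
    (hσ : CohB1.genLocus P σ = U) (h : Good U b Q) (k : ℕ) (hk : 0 < k) :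
    Good U b (CohB1.tensorMod Q (CohB1.tensorPow P k)) := by
  obtain ⟨s, hs, ht⟩ := h
  refine ⟨SecTwist.tmulHom s (SecTwist.powHom σ k), ?_, fun j => ?_⟩
  · rw [genLocus_tmulHom hQ (isInvertible_tensorPow hP k), genLocus_powHom hP σ k hk, hs, hσ, inf_idem]
  · obtain ⟨t, ht⟩ := ht j
    refine ⟨SecTwist.tmulHom t (SecTwist.powHom σ k), ?_⟩
    rw [sv_tmulHom, sv_tmulHom, ht, tm_smul_left]

/-- add one more function -/
theorem good_snoc [CompactSpace X] [QuasiSeparatedSpace X] {m : ℕ} {Q P : X.Modules}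
    (hQ : PicF.IsInvertible Q) (hP : PicF.IsInvertible P) (σ : Coh.structureModule X ⟶ P)
    (b : Fin m → Γ(X, CohB1.genLocus P σ)) (h : Good (CohB1.genLocus P σ) b Q) (c : Γ(X, CohB1.genLocus P σ)) :
    ∃ n : ℕ, 0 < n ∧ Good (CohB1.genLocus P σ) (Fin.snoc (α := fun _ => Γ(X, CohB1.genLocus P σ)) b c)
      (CohB1.tensorMod Q (CohB1.tensorPow P n)) := by
  obtain ⟨s, hs, ht⟩ := h
  haveI : Q.IsQuasicoherent := isQuasicoherent_of_isInvertible Q hQ
  obtain ⟨n, hn, t', ht'⟩ := Groth.Agent.S15744.main X P hP σ Q (c • sv s (CohB1.genLocus P σ))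
  refine ⟨n, hn, SecTwist.tmulHom s (SecTwist.powHom σ n), ?_, fun j => ?_⟩
  · rw [genLocus_tmulHom hQ (isInvertible_tensorPow hP n), genLocus_powHom hP σ n hn, hs, inf_idem]
  · refine Fin.lastCases ?_ (fun j => ?_) j
    · refine ⟨secHom _ t', ?_⟩
      rw [Fin.snoc_last, sv_secHom, ht', sv_tmulHom, sv_powHom]
      exact tm_smul_left _ _ _ _ _ _
    · obtain ⟨t, ht⟩ := ht j
      refine ⟨SecTwist.tmulHom t (SecTwist.powHom σ n), ?_⟩
      rw [Fin.snoc_castSucc, sv_tmulHom, sv_tmulHom, ht, tm_smul_left]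

/-- start: extend a generator -/
theorem exists_good_base [CompactSpace X] [QuasiSeparatedSpace X] {Q P : X.Modules}
    (hQ : PicF.IsInvertible Q) (hP : PicF.IsInvertible P) (σ : Coh.structureModule X ⟶ P)
    (e : Γ(Q, CohB1.genLocus P σ)) (he : IsGen Q (CohB1.genLocus P σ) e)
    (b : Fin 0 → Γ(X, CohB1.genLocus P σ)) :
    ∃ n : ℕ, 0 < n ∧ Good (CohB1.genLocus P σ) b (CohB1.tensorMod Q (CohB1.tensorPow P n)) := by
  obtain ⟨n, u, hn, hu⟩ := exists_section_extending_gen P hP σ Q hQ e he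
  obtain ⟨Φ⟩ := nonempty_tensorMod_tensorPow_add_iso Q P hQ hP n 1 (n + 1) rfl
  refine ⟨n + 1, Nat.succ_pos n, good_of_iso Φ ?_⟩
  refine ⟨SecTwist.tmulHom u (SecTwist.powHom σ 1), ?_, fun j => j.elim0⟩
  rw [genLocus_tmulHom (isInvertible_tensorMod hQ (isInvertible_tensorPow hP n)) (isInvertible_tensorPow hP 1),
    genLocus_powHom hP σ 1 one_pos]
  exact inf_eq_right.2 hu

theorem exists_good [CompactSpace X] [QuasiSeparatedSpace X] {Q P : X.Modules}
    (hQ : PicF.IsInvertible Q) (hP : PicF.IsInvertible P) (σ : Coh.structureModule X ⟶ P)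
    (e : Γ(Q, CohB1.genLocus P σ)) (he : IsGen Q (CohB1.genLocus P σ) e) :
    ∀ (m : ℕ) (b : Fin m → Γ(X, CohB1.genLocus P σ)),
      ∃ n : ℕ, 0 < n ∧ Good (CohB1.genLocus P σ) b (CohB1.tensorMod Q (CohB1.tensorPow P n)) := by
  intro m
  induction m with
  | zero => exact fun b => exists_good_base hQ hP σ e he b
  | succ m ih =>
    intro b
    obtain ⟨n₁, hn₁, h₁⟩ := ih (Fin.init (α := fun _ => Γ(X, CohB1.genLocus P σ)) b)
    obtain ⟨n₂, hn₂, h₂⟩ := good_snoc (isInvertible_tensorMod hQ (isInvertible_tensorPow hP n₁)) hP σ _ h₁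
      (b (Fin.last m))
    obtain ⟨Φ⟩ := nonempty_tensorMod_tensorPow_add_iso Q P hQ hP n₁ n₂ (n₁ + n₂) rfl
    refine ⟨n₁ + n₂, Nat.add_pos_left hn₁ _, ?_⟩
    have h₃ := good_of_iso Φ h₂
    rwa [Fin.snoc_init_self] at h₃

theorem exists_good_eventually [CompactSpace X] [QuasiSeparatedSpace X] {Q P : X.Modules}
    (hQ : PicF.IsInvertible Q) (hP : PicF.IsInvertible P) (σ : Coh.structureModule X ⟶ P)
    (e : Γ(Q, CohB1.genLocus P σ)) (he : IsGen Q (CohB1.genLocus P σ) e)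
    {m : ℕ} (b : Fin m → Γ(X, CohB1.genLocus P σ)) :
    ∃ n₁ : ℕ, ∀ k : ℕ, n₁ ≤ k →
      Good (CohB1.genLocus P σ) b (CohB1.tensorMod Q (CohB1.tensorPow P k)) := by
  obtain ⟨n, -, h⟩ := exists_good hQ hP σ e he m b
  refine ⟨n + 1, fun k hk => ?_⟩
  obtain ⟨j, rfl⟩ : ∃ j, k = n + (j + 1) := ⟨k - n - 1, by omega⟩
  obtain ⟨Φ⟩ := nonempty_tensorMod_tensorPow_add_iso Q P hQ hP n (j + 1) (n + (j + 1)) rfl
  exact good_of_iso Φ (good_tensor_pow (isInvertible_tensorMod hQ (isInvertible_tensorPow hP n)) hP σ rfl h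
    (j + 1) (Nat.succ_pos j))

/-- **Sections of all large twists with prescribed ratios.** -/
theorem exists_good_ample [CompactSpace X] [QuasiSeparatedSpace X] (L : X.Modules) (hL : PicF.IsInvertible L)
    (E : X.Modules) (hE : PicF.IsInvertible E) (d : ℕ)
    (σ : Coh.structureModule X ⟶ CohB1.tensorPow L (d + 1))
    (eE : Γ(E, CohB1.genLocus _ σ)) (heE : IsGen E _ eE) (eL : Γ(L, CohB1.genLocus _ σ)) (heL : IsGen L _ eL)
    {m : ℕ} (b : Fin m → Γ(X, CohB1.genLocus _ σ)) :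
    ∃ N₀ : ℕ, ∀ N : ℕ, N₀ ≤ N →
      Good (CohB1.genLocus _ σ) b (CohB1.tensorMod E (CohB1.tensorPow L N)) := by
  have hP := isInvertible_tensorPow hL (d + 1)
  have hQ : ∀ r : ℕ, PicF.IsInvertible (CohB1.tensorMod E (CohB1.tensorPow L r)) :=
    fun r => isInvertible_tensorMod hE (isInvertible_tensorPow hL r)
  have hK : ∀ r : ℕ, ∃ n₁ : ℕ, ∀ k : ℕ, n₁ ≤ k → Good (CohB1.genLocus _ σ) b
      (CohB1.tensorMod (CohB1.tensorMod E (CohB1.tensorPow L r)) (CohB1.tensorPow (CohB1.tensorPow L (d + 1)) k)) :=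
    fun r => exists_good_eventually (hQ r) hP σ _ (isGen_tm _ _ _ _ _ heE (isGen_pw L _ _ heL r)) b
  choose n hn using hK
  refine ⟨(d + 1) * ((Finset.range (d + 1)).sup n + 1), fun N hN => ?_⟩
  have ha : 0 < d + 1 := Nat.succ_pos _
  have hr : N % (d + 1) < d + 1 := Nat.mod_lt _ ha
  have hq : (Finset.range (d + 1)).sup n + 1 ≤ N / (d + 1) := by
    rw [Nat.le_div_iff_mul_le ha, mul_comm]; exact hN
  have hnr : n (N % (d + 1)) ≤ (Finset.range (d + 1)).sup n :=
    Finset.le_sup (f := n) (Finset.mem_range.2 hr)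
  have h1 := hn (N % (d + 1)) (N / (d + 1)) (by omega)
  obtain ⟨Ψ⟩ := nonempty_tensorPow_tensorPow_iso L hL (d + 1) (N / (d + 1)) ((d + 1) * (N / (d + 1))) rfl
  obtain ⟨Φ₃⟩ := nonempty_tensorMod_tensorPow_add_iso E L hE hL (N % (d + 1)) ((d + 1) * (N / (d + 1))) N
    (Nat.mod_add_div N (d + 1))
  exact good_of_iso (tensorModIso (Iso.refl _) Ψ ≪≫ Φ₃) h1

end Groth.Agent.Lib.R2H3.VAmpleSec
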