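import Mathlib
import Groth.Agent.Lib.R2H3VAmpleMor
import Groth.Agent.Lib.R2H3VAmpleSec
import Groth.Agent.Lib.R2H3VAmpleImm
import Groth.Agent.Lib.R2H3ProdChart
import Groth.Agent.Lib.Helper13ProjUPb
import Groth.Prelude.Def_LCI2

/-!
# Ample implies very ample powers (helper3, round 2)

* `exists_mor_data` : the morphism to `P^n_R` defined by finitely many sections whose loci cover (from `Helper13ProjUP`)
* `main` : for `f : X ⟶ S` locally of finite type, `L` ample and `E` invertible on `X`, `E ⊗ L^N` is very ample relative to `f`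
  (pull-back of `O(1)` along an immersion into `P^n_S`) for all `N ≥ N₀`.
-/

set_option autoImplicit false
universe u
open CategoryTheory CategoryTheory.Limits AlgebraicGeometry TopologicalSpace Opposite

namespace Groth.Agent.Lib.R2H3.VAmpleMain

open Groth.Agent.Lib.Helper23.SecTw Groth.Agent.Lib.Helper23.GenLocus Groth.Agent.Lib.Helper6
  Groth.Agent.Lib.Helper23.AmpleIso Groth.Agent.Lib.Helper23.Extend Groth.Agent.Lib.Helper27GrTildeSect
  Groth.Agent.Lib.R2H3.VAmpleMor Groth.Agent.Lib.R2H3.VAmpleSec Groth.Agent.Lib.R2H3.VAmpleImm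

theorem twist_eq (R : Type u) [CommRing R] (n : ℕ) (d : ℤ) :
    Twist.twistProjSpace n R d = GrTilde.tilde (CohB1.polyGrading n R) (CohB1.polyGrading n R) d := rfl

section mor

open Groth.Agent.Helper13ProjUP Groth.Agent.Helper13PullbackUnit in
theorem unitSec_top {X Y : Scheme.{u}} (r : X ⟶ Y) (F : Y.Modules) (x : ProjUP.Γm F) :
    unitSec r F (le_top : (⊤ : X.Opens) ≤ r ⁻¹ᵁ ⊤) x = ProjUP.pullSec r F x :=
  (unitSec_apply r F _ x).trans
    (Groth.Agent.Lib.Helper23.SecTw.res_self ((Scheme.Modules.pullback r).obj F) (ProjUP.pullSec r F x))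

theorem gsec_congr {R A : Type u} [CommRing R] [CommRing A] [Algebra R A] (𝒜 : ℕ → Submodule R A)
    [GradedAlgebra 𝒜] {b b' : A} (hb : b ∈ 𝒜 1) (hb' : b' ∈ 𝒜 1) (h : b = b') :
    gsec 𝒜 1 ⊤ hb = gsec 𝒜 1 ⊤ hb' := by
  subst h
  rfl

variable {R : Type u} [CommRing R] (n : ℕ)

theorem hX (i : Fin (n + 1)) :
    (MvPolynomial.X i : MvPolynomial (Fin (n + 1)) R) ∈ CohB1.polyGrading n R 1 :=
  MvPolynomial.isHomogeneous_X R i

theorem hcovX (y : Proj (CohB1.polyGrading n R)) :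
    ∃ i : Fin (n + 1), (MvPolynomial.X i : MvPolynomial (Fin (n + 1)) R) ∉
      (show ProjectiveSpectrum (CohB1.polyGrading n R) from y).asHomogeneousIdeal := by
  obtain ⟨i, _, hi⟩ := Groth.Agent.Lib.Helper27ProjCover.exists_not_mem (CohB1.polyGrading n R)
    (fun i : Fin (n + 1) => (MvPolynomial.X i : MvPolynomial (Fin (n + 1)) R))
    (fun _ => 1) (hX n) MvPolynomial.adjoin_range_X
    (show ProjectiveSpectrum (CohB1.polyGrading n R) from y)
  exact ⟨i, hi⟩

/-- the morphism to projective space defined by finitely many sections whose loci cover -/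
theorem exists_mor_data {X : Scheme.{u}} (q : X ⟶ Spec (CommRingCat.of R)) (L : X.Modules) (hL : PicF.IsInvertible L)
    (s : Fin (n + 1) → ProjUP.Γm L) (hs : ProjUP.GeneratedBy L s) :
    ∃ (r : X ⟶ Proj (CohB1.polyGrading n R)) (_ : r ≫ Groth.Agent.Helper13ProjUP.toBase (CohB1.polyGrading n R) = q)
      (τ : (Scheme.Modules.pullback r).obj
        (GrTilde.tilde (CohB1.polyGrading n R) (CohB1.polyGrading n R) ((1 : ℕ) : ℤ)) ≅ L),
      ∀ i, τ.hom.app ⊤ (ProjUP.pullSec r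
        (GrTilde.tilde (CohB1.polyGrading n R) (CohB1.polyGrading n R) ((1 : ℕ) : ℤ))
          (gsec (CohB1.polyGrading n R) 1 ⊤ (hX n i))) = s i := by
  classical
  let b : Module.Basis (Fin (n + 1)) R (Fin (n + 1) → R) := Pi.basisFun R (Fin (n + 1))
  let ι : (Fin (n + 1) → R) →ₗ[R] MvPolynomial (Fin (n + 1)) R :=
    Module.Basis.constr b R (MvPolynomial.X : Fin (n + 1) → MvPolynomial (Fin (n + 1)) R)
  have hsym : IsSymmetricAlgebra ι := SymmetricAlgebra.IsSymmetricAlgebra.mvPolynomial (Fin (n + 1)) b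
  have hιb : ∀ i, ι (Pi.single i 1) = MvPolynomial.X i := by
    intro i
    have := Module.Basis.constr_basis b R (MvPolynomial.X : Fin (n + 1) → MvPolynomial (Fin (n + 1)) R) i
    rwa [Pi.basisFun_apply] at this
  have hι : ∀ m, ι m ∈ CohB1.polyGrading n R 1 := by
    intro m
    have hm : m = ∑ i, m i • (Pi.single i (1 : R) : Fin (n + 1) → R) := by
      ext j
      simp [Finset.sum_apply, Pi.single_apply]
    rw [hm, map_sum]
    refine Submodule.sum_mem _ (fun i _ => ?_)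
    rw [map_smul, hιb]
    exact Submodule.smul_mem _ _ (MvPolynomial.isHomogeneous_X R i)
  let v : (Fin (n + 1) → R) →+ ProjUP.Γm L :=
    { toFun := fun m => ∑ i, ProjUP.toGlobal q (m i) • s i
      map_zero' := by simp
      map_add' := fun m m' => by
        simp only [Pi.add_apply, map_add, add_smul, Finset.sum_add_distrib] }
  have hv : ∀ (c : R) (m : Fin (n + 1) → R), v (c • m) = ProjUP.toGlobal q c • v m := by
    intro c m
    change ∑ i, ProjUP.toGlobal q ((c • m) i) • s i = ProjUP.toGlobal q c • ∑ i, ProjUP.toGlobal q (m i) • s i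
    rw [Finset.smul_sum]
    refine Finset.sum_congr rfl (fun i _ => ?_)
    rw [Pi.smul_apply, smul_eq_mul, map_mul, mul_smul]
  have hvb : ∀ i, v (Pi.single i 1) = s i := by
    intro i
    change ∑ j, ProjUP.toGlobal q ((Pi.single i (1 : R) : Fin (n + 1) → R) j) • s j = s i
    rw [Finset.sum_eq_single i]
    · rw [Pi.single_eq_same, map_one, one_smul]
    · intro j _ hj
      rw [Pi.single_eq_of_ne hj, map_zero, zero_smul]
    · intro h
      exact absurd (Finset.mem_univ i) h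
  have hgen : ProjUP.GeneratedBy L v := by
    intro x
    rw [eq_top_iff, ← hs x]
    apply Submodule.span_mono
    rintro _ ⟨i, rfl⟩
    exact ⟨Pi.single i 1, by simp only [hvb]⟩
  obtain ⟨r, hrq, τ, hτ⟩ := Groth.Agent.Helper13ProjUP.exists_mor_iso (CohB1.polyGrading n R) ι q L v hι hsym hL hv hgen
  refine ⟨r, hrq, τ, fun i => ?_⟩
  have h1 := hτ (Pi.single i 1)
  rw [unitSec_top, hvb] at h1
  rw [← h1]
  congr 2
  exact (gsec_congr (CohB1.polyGrading n R) (hι (Pi.single i 1)) (hX n i) (hιb i)).symm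

end mor

section main

/-- the index type of the sections: a dummy, and for each chart the generator and the extended functions -/
abbrev Idx {X : Scheme.{u}} (T : Finset X) (m : X → ℕ) : Type u := Option (Σ x : T, Option (Fin (m x)))

theorem exists_equiv_fin {X : Scheme.{u}} (T : Finset X) (m : X → ℕ) :
    ∃ n : ℕ, Nonempty (Idx T m ≃ Fin (n + 1)) :=
  ⟨Fintype.card (Σ x : T, Option (Fin (m x))), ⟨Fintype.equivFinOfCardEq Fintype.card_option⟩⟩

theorem exists_affine_nhd {S : Scheme.{u}} (y : S) : ∃ V : S.Opens, IsAffineOpen V ∧ y ∈ V := by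
  obtain ⟨V, hV, hyV, -⟩ := exists_isAffineOpen_mem_and_subset (X := S) (x := y) (U := ⊤) trivial
  exact ⟨V, hV, hyV⟩

/-- very ampleness from charts with enough sections -/
theorem isRelVeryAmplePn_of_charts {X S : Scheme.{u}} (f : X ⟶ S) (M : X.Modules) (hM : PicF.IsInvertible M)
    (T : Finset X) (V : X → S.Opens) (hV : ∀ x, IsAffineOpen (V x)) (U : X → X.Opens)
    (hUV : ∀ x, U x ≤ f ⁻¹ᵁ V x) (haff : ∀ x, IsAffineOpen (U x)) (hT : ∀ y : X, ∃ x ∈ T, y ∈ U x)
    (m : X → ℕ) (b : ∀ x, Fin (m x) → Γ(X, U x))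
    (hb : ∀ x (T' : Subring Γ(X, U x)), (∀ a, (f.appLE (V x) (U x) (hUV x)).hom a ∈ T') →
      (∀ j, b x j ∈ T') → T' = ⊤)
    (hgood : ∀ x ∈ T, Good (U x) (b x) M) : RelAmple.IsRelVeryAmplePn f M := by
  classical
  have hgood' : ∀ x : T, ∃ s : Coh.structureModule X ⟶ M, CohB1.genLocus M s = U x ∧
      ∀ j, ∃ t : Coh.structureModule X ⟶ M, sv t (U x) = b x j • sv s (U x) := fun x => hgood x.1 x.2
  choose s hs t ht using hgood'
  obtain ⟨n, ⟨e⟩⟩ := exists_equiv_fin T m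
  -- the sections
  let v : Idx T m → ProjUP.Γm M := fun a =>
    match a with
    | none => 0
    | some ⟨x, none⟩ => sv (s x) ⊤
    | some ⟨x, some j⟩ => sv (t x j) ⊤
  let w : Fin (n + 1) → ProjUP.Γm M := fun k => v (e.symm k)
  have hw0 : ∀ x : T, w (e (some ⟨x, none⟩)) = sv (s x) ⊤ := by
    intro x
    change v (e.symm (e _)) = _
    rw [Equiv.symm_apply_apply]
  have hw1 : ∀ (x : T) (j : Fin (m x)), w (e (some ⟨x, some j⟩)) = sv (t x j) ⊤ := by
    intro x j
    change v (e.symm (e _)) = _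
    rw [Equiv.symm_apply_apply]
  have hlocus : ∀ x : T, CohB1.genLocus M (secHom M (w (e (some ⟨x, none⟩)))) = U x := by
    intro x
    rw [hw0, secHom_sv, hs]
  have hcovw : ∀ y : X, ∃ k, y ∈ CohB1.genLocus M (secHom M (w k)) := by
    intro y
    obtain ⟨x, hx, hy⟩ := hT y
    refine ⟨e (some ⟨⟨x, hx⟩, none⟩), ?_⟩
    rw [hlocus ⟨x, hx⟩]
    exact hy
  have hgenw := generatedBy_of_cover M w hcovw
  obtain ⟨r, hrq, τ, hτ⟩ := exists_mor_data (R := ULift.{u} ℤ) n (specULiftZIsTerminal.from X) M hM w hgenw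
  have hpre := fun k => preimage_eq (CohB1.polyGrading n (ULift.{u} ℤ))
    (fun i : Fin (n + 1) => (MvPolynomial.X i : MvPolynomial (Fin (n + 1)) (ULift.{u} ℤ))) (hX n) (hcovX n) r M τ w hτ k
  -- the morphism
  have hcomm : (show X ⟶ CohB1.ProjSpace n (ULift.{u} ℤ) from r) ≫ CohB1.ProjSpace.toSpec n (ULift.{u} ℤ) =
      f ≫ specULiftZIsTerminal.from S := specULiftZIsTerminal.hom_ext _ _
  let i : X ⟶ CohB1.ProjSpaceOver n S :=
    pullback.lift (show X ⟶ CohB1.ProjSpace n (ULift.{u} ℤ) from r) f hcomm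
  have hfst : i ≫ pullback.fst (CohB1.ProjSpace.toSpec n (ULift.{u} ℤ)) (specULiftZIsTerminal.from S) = r :=
    pullback.lift_fst _ _ _
  have hsnd : i ≫ pullback.snd (CohB1.ProjSpace.toSpec n (ULift.{u} ℤ)) (specULiftZIsTerminal.from S) = f :=
    pullback.lift_snd _ _ _
  refine ⟨n, i, ?_, hsnd, ?_⟩
  · -- the immersion
    let D : T → (CohB1.ProjSpace n (ULift.{u} ℤ)).Opens := fun x =>
      Proj.basicOpen (CohB1.polyGrading n (ULift.{u} ℤ))
        (MvPolynomial.X (e (some ⟨x, none⟩)) : MvPolynomial (Fin (n + 1)) (ULift.{u} ℤ))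
    have hDU : ∀ x : T, r ⁻¹ᵁ D x = U x := fun x => (hpre (e (some ⟨x, none⟩))).trans (hlocus x)
    have hpreim : ∀ x : T, i ⁻¹ᵁ (pullback.fst (CohB1.ProjSpace.toSpec n (ULift.{u} ℤ)) (specULiftZIsTerminal.from S) ⁻¹ᵁ D x ⊓
        pullback.snd (CohB1.ProjSpace.toSpec n (ULift.{u} ℤ)) (specULiftZIsTerminal.from S) ⁻¹ᵁ V x) = U x := by
      intro x
      calc i ⁻¹ᵁ (pullback.fst (CohB1.ProjSpace.toSpec n (ULift.{u} ℤ)) (specULiftZIsTerminal.from S) ⁻¹ᵁ D x ⊓
            pullback.snd (CohB1.ProjSpace.toSpec n (ULift.{u} ℤ)) (specULiftZIsTerminal.from S) ⁻¹ᵁ V x)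
          = (i ≫ pullback.fst (CohB1.ProjSpace.toSpec n (ULift.{u} ℤ)) (specULiftZIsTerminal.from S)) ⁻¹ᵁ D x ⊓
            (i ≫ pullback.snd (CohB1.ProjSpace.toSpec n (ULift.{u} ℤ)) (specULiftZIsTerminal.from S)) ⁻¹ᵁ V x := rfl
        _ = r ⁻¹ᵁ D x ⊓ f ⁻¹ᵁ V x := by rw [hfst, hsnd]; rfl
        _ = U x := by rw [hDU x]; exact inf_eq_left.2 (hUV x)
    refine isImmersion_of_charts' i (κ := T)
      (fun x => pullback.fst (CohB1.ProjSpace.toSpec n (ULift.{u} ℤ)) (specULiftZIsTerminal.from S) ⁻¹ᵁ D x ⊓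
        pullback.snd (CohB1.ProjSpace.toSpec n (ULift.{u} ℤ)) (specULiftZIsTerminal.from S) ⁻¹ᵁ V x)
      (fun x => U x) (fun x => ?_) (fun x => haff x) hpreim ?_ (fun x => ?_)
    · exact Groth.Agent.Lib.R2H3.ProdChart.isAffineOpen_inf (IsPullback.of_hasPullback _ _)
        (isAffineOpen_top _) (Proj.isAffineOpen_basicOpen _ _ (hX n _) Nat.one_pos) (hV x) le_top le_top
    · rw [eq_top_iff]
      intro y _
      obtain ⟨x, hx, hy⟩ := hT y
      exact Opens.mem_iSup.2 ⟨⟨x, hx⟩, hy⟩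
    · -- surjectivity on the chart
      have hgen : IsGen M (U x) (res M (le_top : U x ≤ ⊤) (w (e (some ⟨x, none⟩)))) := by
        have h1 := isGen_sv_genLocus M (s x)
        rw [hs x] at h1
        rw [hw0, res_sv]
        exact h1
      refine chart_surjective i _ _ r f hfst hsnd (D := D x) (V := V x) (U := U x) (hDU x).ge (hUV x)
        (hpreim x).ge (fun T' h1 h2 => hb x T' h1 (fun j => ?_))
      have h3 := appLE_ratio_eq (CohB1.polyGrading n (ULift.{u} ℤ))
        (fun i : Fin (n + 1) => (MvPolynomial.X i : MvPolynomial (Fin (n + 1)) (ULift.{u} ℤ))) (hX n) r M τ w hτ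
        (e (some ⟨x, some j⟩)) (e (some ⟨x, none⟩)) (U := U x) (hDU x).ge hgen (b x j)
        (by rw [hw1, hw0, res_sv, res_sv]; exact ht x j)
      rw [← h3]
      exact h2 _
  · -- the isomorphism
    have e1 := (Scheme.Modules.pullbackComp i (pullback.fst (CohB1.ProjSpace.toSpec n (ULift.{u} ℤ))
      (specULiftZIsTerminal.from S))).app (Twist.twistProjSpace n (ULift.{u} ℤ) 1)
    have e2 := (Scheme.Modules.pullbackCongr hfst).app (Twist.twistProjSpace n (ULift.{u} ℤ) 1)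
    have e3 := (Scheme.Modules.pullback r).mapIso (eqToIso (twist_eq (ULift.{u} ℤ) n ((1 : ℕ) : ℤ)))
    exact ⟨(e1 ≪≫ e2 ≪≫ e3 ≪≫ τ).symm⟩

/-- **Ample implies very ample**: for `f : X ⟶ S` locally of finite type, `L` ample and `E` invertible, all large
twists `E ⊗ L^N` are pull-backs of `O(1)` along an immersion of `X` into a projective space over `S`. -/
theorem main {X S : Scheme.{u}} (f : X ⟶ S) [LocallyOfFiniteType f] (L : X.Modules) (hL : CohB1.IsAmple L)
    (E : X.Modules) (hE : PicF.IsInvertible E) :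
    ∃ N₀ : ℕ, ∀ N, N₀ ≤ N → RelAmple.IsRelVeryAmplePn f (CohB1.tensorMod E (CohB1.tensorPow L N)) := by
  classical
  haveI := hL.2.1
  haveI := quasiSeparatedSpace_of_isAmple L hL
  have hLinv := hL.1
  -- local data
  have hloc : ∀ x : X, ∃ (V : S.Opens) (_ : IsAffineOpen V) (d : ℕ)
      (σ : Coh.structureModule X ⟶ CohB1.tensorPow L (d + 1))
      (hUV : CohB1.genLocus _ σ ≤ f ⁻¹ᵁ V) (_ : x ∈ CohB1.genLocus _ σ) (_ : IsAffineOpen (CohB1.genLocus _ σ))
      (m : ℕ) (b : Fin m → Γ(X, CohB1.genLocus _ σ)),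
      (∀ T : Subring Γ(X, CohB1.genLocus _ σ), (∀ a, (f.appLE V (CohB1.genLocus _ σ) hUV).hom a ∈ T) →
        (∀ j, b j ∈ T) → T = ⊤) ∧
      ∃ N₀ : ℕ, ∀ N, N₀ ≤ N → Good (CohB1.genLocus _ σ) b (CohB1.tensorMod E (CohB1.tensorPow L N)) := by
    intro x
    obtain ⟨V, hV, hxV⟩ := exists_affine_nhd (f x)
    obtain ⟨d, σ, hxσ, hσV, haff, ⟨eE, heE⟩, ⟨eL, heL⟩⟩ := exists_frame_of_finite L hL E hE {x}
      (Set.finite_singleton x) (f ⁻¹ᵁ V) (by simpa using hxV)
    have hft : RingHom.FiniteType (f.appLE V _ hσV).hom :=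
      HasRingHomProperty.appLE (P := @LocallyOfFiniteType) f inferInstance ⟨V, hV⟩ ⟨_, haff⟩ hσV
    obtain ⟨m, b, hb⟩ := exists_gens _ hft
    obtain ⟨N₀, hN₀⟩ := exists_good_ample L hLinv E hE d σ eE heE eL heL b
    exact ⟨V, hV, d, σ, hσV, hxσ rfl, haff, m, b, hb, N₀, hN₀⟩
  choose V hV d σ hUV hxU haff m b hb N₀ hN₀ using hloc
  -- finite subcover
  obtain ⟨T, hT⟩ : ∃ T : Finset X, ∀ y : X, ∃ x ∈ T, y ∈ CohB1.genLocus _ (σ x) := by
    obtain ⟨T, hT⟩ := isCompact_univ.elim_finite_subcover (fun x : X => ((CohB1.genLocus _ (σ x) : X.Opens) : Set X))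
      (fun x => (CohB1.genLocus _ (σ x)).2) (fun x _ => Set.mem_iUnion.2 ⟨x, hxU x⟩)
    refine ⟨T, fun y => ?_⟩
    have := hT (Set.mem_univ y)
    simp only [Set.mem_iUnion] at this
    obtain ⟨x, hx, hy⟩ := this
    exact ⟨x, hx, hy⟩
  refine ⟨T.sup N₀, fun N hN => ?_⟩
  exact isRelVeryAmplePn_of_charts f _ (isInvertible_tensorMod hE (isInvertible_tensorPow hLinv N)) T V hV
    (fun x => CohB1.genLocus _ (σ x)) hUV haff hT m b hb (fun x hx => hN₀ x N ((Finset.le_sup hx).trans hN))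

theorem isRelVeryAmplePn_of_iso {X S : Scheme.{u}} (f : X ⟶ S) {M M' : X.Modules} (e : M ≅ M')
    (h : RelAmple.IsRelVeryAmplePn f M) : RelAmple.IsRelVeryAmplePn f M' := by
  obtain ⟨n, i, hi, hif, ⟨φ⟩⟩ := h
  exact ⟨n, i, hi, hif, ⟨e.symm ≪≫ φ⟩⟩

/-- `L^N` is very ample relative to `f` for all large `N` -/
theorem eventually_tensorPow {X S : Scheme.{u}} (f : X ⟶ S) [LocallyOfFiniteType f] (L : X.Modules)
    (hL : CohB1.IsAmple L) :
    ∃ N₀ : ℕ, ∀ N, N₀ ≤ N → RelAmple.IsRelVeryAmplePn f (CohB1.tensorPow L N) := by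
  have hO := Groth.Agent.Lib.Helper23.TensorUnit.isInvertible_structureModule X
  obtain ⟨N₀, h⟩ := main f L hL (Coh.structureModule X) hO
  refine ⟨N₀, fun N hN => ?_⟩
  obtain ⟨Φ⟩ := nonempty_tensorMod_comm_iso (Coh.structureModule X) (CohB1.tensorPow L N) hO
    (isInvertible_tensorPow hL.1 N)
  exact isRelVeryAmplePn_of_iso f (Φ ≪≫ SecTwist.unitorR _) (h N hN)

/-- `L^N ⊗ L'` is very ample relative to `f` for all large `N` -/
theorem eventually_tensorPow_tensor {X S : Scheme.{u}} (f : X ⟶ S) [LocallyOfFiniteType f] (L L' : X.Modules)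
    (hL : CohB1.IsAmple L) (hL' : PicF.IsInvertible L') :
    ∃ N₀ : ℕ, ∀ N, N₀ ≤ N → RelAmple.IsRelVeryAmplePn f (CohB1.tensorMod (CohB1.tensorPow L N) L') := by
  obtain ⟨N₀, h⟩ := main f L hL L' hL'
  refine ⟨N₀, fun N hN => ?_⟩
  obtain ⟨Φ⟩ := nonempty_tensorMod_comm_iso L' (CohB1.tensorPow L N) hL' (isInvertible_tensorPow hL.1 N)
  exact isRelVeryAmplePn_of_iso f Φ (h N hN)

end main

end Groth.Agent.Lib.R2H3.VAmpleMain
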