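import Mathlib
import Groth.Agent.Lib.R2H3VAmpleMain
import Groth.Agent.S9705

/-!
# Very ample implies ample over an affine base (helper3, round 2)

* `isAmple_twistOver` : `O(1)` on `P^m_Y` is ample for affine `Y`
* `isAmple_of_isRelVeryAmplePn` : an invertible module which is very ample (`P^m` form) relative to a quasi-compact
  morphism to an affine scheme is ample.
-/

set_option autoImplicit false
universe u
open CategoryTheory CategoryTheory.Limits AlgebraicGeometry TopologicalSpace Opposite

namespace Groth.Agent.Lib.R2H3.VAmpleConv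

open Groth.Agent.Lib.Helper23.SecTw Groth.Agent.Lib.Helper23.GenLocus Groth.Agent.Lib.Helper6
  Groth.Agent.Lib.Helper23.AmpleIso Groth.Agent.Lib.Helper23.Extend Groth.Agent.Lib.Helper27GrTildeSect
  Groth.Agent.Lib.R2H3.VAmpleMain

theorem isAmple_twistProjSpace_one (m : ℕ) (R : Type u) [CommRing R] :
    CohB1.IsAmple (Twist.twistProjSpace m R 1) := by
  haveI : CompactSpace (Proj (CohB1.polyGrading m R)) := by
    have hp : IsProper (CohB1.ProjSpace.toSpec m R) := Groth.Agent.S9705.isProper_projSpace_toSpec m R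
    have h : CompactSpace (CohB1.ProjSpace m R) :=
      QuasiCompact.compactSpace_of_compactSpace (CohB1.ProjSpace.toSpec m R)
    exact h
  have h1 := isAmple_of_cover (CohB1.polyGrading m R) 1
    (fun i : Fin (m + 1) => (MvPolynomial.X i : MvPolynomial (Fin (m + 1)) R)) (hX m) (hcovX m) one_pos
  rw [twist_eq R m 1]
  exact h1

theorem isAmple_twistOver (m : ℕ) (Y : Scheme.{u}) [IsAffine Y] : CohB1.IsAmple (Twist.twistOver m Y 1) := by
  have h0 : IsAffineHom (specULiftZIsTerminal.from Y) := inferInstance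
  have h1 : IsAffineHom (pullback.fst (CohB1.ProjSpace.toSpec m (ULift.{u} ℤ)) (specULiftZIsTerminal.from Y)) :=
    MorphismProperty.of_isPullback (P := @IsAffineHom)
      (IsPullback.of_hasPullback (CohB1.ProjSpace.toSpec m (ULift.{u} ℤ)) (specULiftZIsTerminal.from Y)).flip h0
  exact Groth.Agent.Lib.Helper23.PB.isAmple_pullback_of_isAffineHom
    (pullback.fst (CohB1.ProjSpace.toSpec m (ULift.{u} ℤ)) (specULiftZIsTerminal.from Y))
    (Twist.twistProjSpace m (ULift.{u} ℤ) 1) (isAmple_twistProjSpace_one m (ULift.{u} ℤ))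

theorem isAmple_of_isRelVeryAmplePn {X Y : Scheme.{u}} [IsAffine Y] (q : X ⟶ Y) [QuasiCompact q] (M : X.Modules)
    (h : RelAmple.IsRelVeryAmplePn q M) : CohB1.IsAmple M := by
  obtain ⟨m, i, hi, -, ⟨φ⟩⟩ := h
  haveI : CompactSpace X := QuasiCompact.compactSpace_of_compactSpace q
  have h3 := Groth.Agent.Lib.Helper23.PB.isAmple_pullback_of_isEmbedding i i.isEmbedding _ (isAmple_twistOver m Y)
  exact isAmple_of_iso φ.symm h3

end Groth.Agent.Lib.R2H3.VAmpleConv
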