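import Mathlib
import Groth.Agent.Lib.R2H3VAmpleConv
import Groth.Agent.S2331
import Groth.Agent.S2332
import Groth.Agent.S2333
import Groth.Agent.S2359
import Groth.Agent.S4381
import Groth.Agent.S9815

/-!
# Immersions into projective space over a base and ampleness (helper3, round 2)

* `isRelAmple_twistOver` : `O(1)` on `P^n_S` is ample relative to `P^n_S ⟶ S`
* `quasiCompact_of_comp_toBase` : an `S`-morphism `X ⟶ P^n_S` is quasi-compact as soon as `X ⟶ S` is
* `isRelAmple_pullback_twistOver` : `i^* O(1)` is `f`-ample for an `S`-immersion `i : X ⟶ P^n_S`, `f` quasi-compact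
* `isRelAmple_of_isRelVeryAmplePn`
* `exists_isAmple_of_immersion` : if `S` has an ample module then so has every `X` quasi-compactly immersed in `P^n_S`
* `exists_immersion_of_isAmple` : `f : X ⟶ S` locally of finite type and `X` has an ample module gives an
  `S`-immersion `X ⟶ P^n_S` (from `VAmpleMain.main`)
* `isClosedImmersion_of_isProper`
-/

set_option autoImplicit false
universe u
open CategoryTheory CategoryTheory.Limits AlgebraicGeometry TopologicalSpace Opposite

namespace Groth.Agent.Lib.R2H3.QProj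

open Groth.Agent.Lib.Helper23.SecTw Groth.Agent.Lib.Helper23.AmpleIso Groth.Agent.Lib.R2H3.VAmpleMain
  Groth.Agent.Lib.R2H3.VAmpleConv

/-- the projection `P^n_S ⟶ S` in the form used by `RelAmple.IsRelVeryAmplePn` -/
noncomputable abbrev π (n : ℕ) (S : Scheme.{u}) : CohB1.ProjSpaceOver n S ⟶ S :=
  pullback.snd (CohB1.ProjSpace.toSpec n (ULift.{u} ℤ)) (specULiftZIsTerminal.from S)

theorem isProper_π (n : ℕ) (S : Scheme.{u}) : IsProper (π n S) := Groth.Agent.S9705.isProper_toBase n S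

theorem isRelAmple_twistOver (n : ℕ) (S : Scheme.{u}) : RelAmple.IsRelAmple (π n S) (Twist.twistOver n S 1) := by
  have hp : IsProper (CohB1.ProjSpace.toSpec n (ULift.{u} ℤ)) :=
    Groth.Agent.S9705.isProper_projSpace_toSpec n (ULift.{u} ℤ)
  have h1 : RelAmple.IsRelAmple (CohB1.ProjSpace.toSpec n (ULift.{u} ℤ)) (Twist.twistProjSpace n (ULift.{u} ℤ) 1) :=
    (Groth.Agent.S4381.result _ _).2 (isAmple_twistProjSpace_one n (ULift.{u} ℤ))
  exact Groth.Agent.S2332.result (CohB1.ProjSpace.toSpec n (ULift.{u} ℤ)) (specULiftZIsTerminal.from S) _ h1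

theorem quasiCompact_of_comp_toBase {X S : Scheme.{u}} (f : X ⟶ S) [QuasiCompact f] (n : ℕ)
    (i : X ⟶ CohB1.ProjSpaceOver n S) (hi : i ≫ π n S = f) : QuasiCompact i := by
  have := isProper_π n S
  have : QuasiCompact (i ≫ π n S) := by rw [hi]; infer_instance
  exact QuasiCompact.of_comp i (π n S)

theorem isRelAmple_pullback_twistOver {X S : Scheme.{u}} (f : X ⟶ S) [QuasiCompact f] (n : ℕ)
    (i : X ⟶ CohB1.ProjSpaceOver n S) [IsImmersion i] (hi : i ≫ π n S = f) :
    RelAmple.IsRelAmple f ((Scheme.Modules.pullback i).obj (Twist.twistOver n S 1)) := by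
  have := isProper_π n S
  have := quasiCompact_of_comp_toBase f n i hi
  have h := Groth.Agent.S2359.result (π n S) i i.isEmbedding _ (isRelAmple_twistOver n S)
  rw [hi] at h
  exact h

theorem isRelAmple_of_iso {X S : Scheme.{u}} (f : X ⟶ S) {L L' : X.Modules} (e : L ≅ L')
    (h : RelAmple.IsRelAmple f L) : RelAmple.IsRelAmple f L' :=
  ⟨h.1, fun V => isAmple_of_iso ((Scheme.Modules.restrictFunctor (f ⁻¹ᵁ V.1).ι).mapIso e) (h.2 V)⟩

theorem isRelAmple_of_isRelVeryAmplePn {X S : Scheme.{u}} (f : X ⟶ S) [QuasiCompact f] (M : X.Modules)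
    (h : RelAmple.IsRelVeryAmplePn f M) : RelAmple.IsRelAmple f M := by
  obtain ⟨n, i, hi, hif, ⟨φ⟩⟩ := h
  exact isRelAmple_of_iso f φ.symm (isRelAmple_pullback_twistOver f n i hif)

/-- the terminal morphism -/
noncomputable abbrev toZ (S : Scheme.{u}) : S ⟶ Spec (CommRingCat.of (ULift.{u} ℤ)) := specULiftZIsTerminal.from S

theorem isRelAmple_toZ_iff {S : Scheme.{u}} [CompactSpace S] (g : S ⟶ Spec (CommRingCat.of (ULift.{u} ℤ)))
    (N : S.Modules) : RelAmple.IsRelAmple g N ↔ CohB1.IsAmple N :=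
  Groth.Agent.S4381.result g N

/-- if `S` has an ample module and `f : X ⟶ S` is quasi-compact, any `f`-ample module can be twisted to an ample one -/
theorem exists_isAmple_of_isRelAmple {X S : Scheme.{u}} (f : X ⟶ S) (L : X.Modules) (hL : RelAmple.IsRelAmple f L)
    (N : S.Modules) (hN : CohB1.IsAmple N) : ∃ L' : X.Modules, CohB1.IsAmple L' := by
  have := hL.1
  have : CompactSpace S := hN.2.1
  have : CompactSpace X := QuasiCompact.compactSpace_of_compactSpace f
  have hN' : RelAmple.IsRelAmple (toZ S) N := (isRelAmple_toZ_iff _ N).2 hN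
  obtain ⟨n₀, -, h⟩ := Groth.Agent.S2331.result f (toZ S) L N hL hN'
  exact ⟨_, (isRelAmple_toZ_iff (f ≫ toZ S) _).1 (h n₀ le_rfl)⟩

theorem exists_isAmple_of_immersion {X S : Scheme.{u}} (f : X ⟶ S) [QuasiCompact f] (n : ℕ)
    (i : X ⟶ CohB1.ProjSpaceOver n S) [IsImmersion i] (hi : i ≫ π n S = f)
    (N : S.Modules) (hN : CohB1.IsAmple N) : ∃ L : X.Modules, CohB1.IsAmple L :=
  exists_isAmple_of_isRelAmple f _ (isRelAmple_pullback_twistOver f n i hi) N hN

theorem isRelAmple_of_isAmple {X S : Scheme.{u}} (f : X ⟶ S) [QuasiCompact f] (L : X.Modules)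
    (hL : CohB1.IsAmple L) : RelAmple.IsRelAmple f L := by
  have : CompactSpace X := hL.2.1
  have h : RelAmple.IsRelAmple (f ≫ toZ S) L := (isRelAmple_toZ_iff _ L).2 hL
  exact Groth.Agent.S2333.result f (toZ S) L h

theorem exists_immersion_of_isAmple {X S : Scheme.{u}} (f : X ⟶ S) [LocallyOfFiniteType f] (L : X.Modules)
    (hL : CohB1.IsAmple L) : ∃ (n : ℕ) (i : X ⟶ CohB1.ProjSpaceOver n S), IsImmersion i ∧ i ≫ π n S = f := by
  obtain ⟨N₀, h⟩ := eventually_tensorPow f L hL
  obtain ⟨n, i, hi, hif, -⟩ := h N₀ le_rfl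
  exact ⟨n, i, hi, hif⟩

theorem isClosedImmersion_of_isProper {X S : Scheme.{u}} (f : X ⟶ S) [IsProper f] (n : ℕ)
    (i : X ⟶ CohB1.ProjSpaceOver n S) [IsImmersion i] (hi : i ≫ π n S = f) : IsClosedImmersion i := by
  have := isProper_π n S
  have : IsProper (i ≫ π n S) := by rw [hi]; infer_instance
  have : IsProper i := IsProper.of_comp i (π n S)
  exact IsClosedImmersion.of_isPreimmersion i (i.isClosedMap.isClosed_range)

end Groth.Agent.Lib.R2H3.QProj
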