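import Mathlib
import Groth.Agent.Lib.R2H3QProj
import Groth.Agent.Lib.R2H2ClosedPnGamma
import Groth.Agent.Lib.R2H2ProjOver
import Groth.Agent.Lib.R2H2QProjK0
import Groth.Agent.Lib.Helper23LocGen
import Groth.Agent.Lib.Helper23TensorQCoh
import Groth.Agent.Lib.R2H2PnFinite
import Groth.Agent.Lib.Helper23RestrTensor
import Groth.Agent.Lib.Helper23Restr

/-!
# Serre vanishing for an abstract ample module on a proper scheme over a Noetherian ring (helper3, round 2)

* `isCoh_tensorMod_invertible`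
* `exists_closedImmersion_projSpace` : `f : X ⟶ Spec A` proper, `L` ample: some positive power `L^d` is the pull-back of `O(1)`
  along a closed immersion `i : X ⟶ P^r_A` over `A`
* `serre_vanishing_ample` : `A` Noetherian, `f : X ⟶ Spec A` proper, `L` ample, `K` coherent: `H^q(X, K ⊗ L^n) = 0` for all
  `q > 0` and all `n ≥ n₀`.
-/

set_option autoImplicit false
universe u
open CategoryTheory CategoryTheory.Limits AlgebraicGeometry TopologicalSpace Opposite

namespace Groth.Agent.Lib.R2H3.AmpleSV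

open Groth.Agent.Lib.Helper23.SecTw Groth.Agent.Lib.Helper23.AmpleIso Groth.Agent.Lib.R2H3.VAmpleMain
  Groth.Agent.Lib.R2H3.QProj

theorem isCoh_tensorMod_invertible {X : Scheme.{u}} (K L : X.Modules) (hK : Coh.IsCoh K) (hL : PicF.IsInvertible L) :
    Coh.IsCoh (CohB1.tensorMod K L) := by
  have i1 : K.IsQuasicoherent := hK.1
  have i2 : SheafOfModules.IsFiniteType (R := X.ringCatSheaf) K := hK.2
  have i3 : L.IsQuasicoherent := isQuasicoherent_of_isInvertible L hL
  have i4 : SheafOfModules.IsFiniteType (R := X.ringCatSheaf) L :=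
    Groth.Agent.Lib.R2H2.PnFinite.isFiniteType_of_isInvertible L hL
  exact ⟨Groth.Agent.Lib.Helper23.TensorQCoh.isQuasicoherent_tensorMod K L,
    Groth.Agent.Lib.Helper23.TensorQCoh.isFiniteType_tensorMod K L⟩

/-- `L^a ⊗ L^b ≅ L^(a+b)` for any module `L` -/
noncomputable def tensorPowAdd {X : Scheme.{u}} (L : X.Modules) (a : ℕ) :
    (b : ℕ) → (CohB1.tensorMod (CohB1.tensorPow L a) (CohB1.tensorPow L b) ≅ CohB1.tensorPow L (a + b))
  | 0 => SecTwist.unitorR _
  | b + 1 => (Groth.Agent.Lib.Helper23.LocGen.tensorAssoc _ _ _).symm ≪≫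
      tensorModIso (tensorPowAdd L a b) (Iso.refl L)

/-- `(K ⊗ L^a) ⊗ L^b ≅ K ⊗ L^c` when `a + b = c`, for arbitrary modules -/
theorem nonempty_tensor_tensorPow_add_iso {X : Scheme.{u}} (K L : X.Modules) (a b c : ℕ) (h : a + b = c) :
    Nonempty (CohB1.tensorMod (CohB1.tensorMod K (CohB1.tensorPow L a)) (CohB1.tensorPow L b) ≅
      CohB1.tensorMod K (CohB1.tensorPow L c)) := by
  subst h
  exact ⟨Groth.Agent.Lib.Helper23.LocGen.tensorAssoc _ _ _ ≪≫ tensorModIso (Iso.refl K) (tensorPowAdd L a b)⟩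

section

variable (A : Type u) [CommRing A]

open Groth.Agent.Lib.R2H2.ProjOver in
theorem exists_closedImmersion_projSpace {X : Scheme.{u}} (f : X ⟶ Spec (CommRingCat.of A)) [IsProper f]
    (L : X.Modules) (hL : CohB1.IsAmple L) :
    ∃ (d : ℕ) (_ : 0 < d) (r : ℕ) (i : X ⟶ CohB1.ProjSpace r A), IsClosedImmersion i ∧
      i ≫ CohB1.ProjSpace.toSpec r A = f ∧
      Nonempty (CohB1.tensorPow L d ≅ (Scheme.Modules.pullback i).obj (Twist.twistProjSpace r A 1)) := by
  obtain ⟨N₀, h⟩ := eventually_tensorPow f L hL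
  obtain ⟨r, j, hj, hjf, ⟨φ⟩⟩ := h (N₀ + 1) (Nat.le_succ _)
  have := hj
  have hjc : IsClosedImmersion j := isClosedImmersion_of_isProper f r j hjf
  have hpb := isPullback_a r A (𝟙 (Spec (CommRingCat.of A)))
  have hiso : IsIso (a r A (𝟙 (Spec (CommRingCat.of A)))) := hpb.isIso_fst_of_isIso
  obtain ⟨e⟩ := nonempty_pullback_twistOver_iso r A (𝟙 (Spec (CommRingCat.of A))) 1
  refine ⟨N₀ + 1, Nat.succ_pos _, r, j ≫ inv (a r A (𝟙 (Spec (CommRingCat.of A)))), inferInstance, ?_, ?_⟩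
  · have h1 : inv (a r A (𝟙 (Spec (CommRingCat.of A)))) ≫ CohB1.ProjSpace.toSpec r A =
        CohB1.ProjSpaceOver.toBase r (Spec (CommRingCat.of A)) := by
      rw [IsIso.inv_comp_eq, a_toBase, Category.comp_id]
    rw [Category.assoc, h1]
    exact hjf
  · -- the isomorphism
    let T := Twist.twistOver r (Spec (CommRingCat.of A)) 1
    let α := a r A (𝟙 (Spec (CommRingCat.of A)))
    have e1 : (Scheme.Modules.pullback (inv α)).obj ((Scheme.Modules.pullback α).obj T) ≅ T :=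
      (Scheme.Modules.pullbackComp (inv α) α).app T ≪≫
        (Scheme.Modules.pullbackCongr (IsIso.inv_hom_id α)).app T ≪≫ (Scheme.Modules.pullbackId _).app T
    have e2 : (Scheme.Modules.pullback (inv α)).obj (Twist.twistProjSpace r A 1) ≅ T :=
      (Scheme.Modules.pullback (inv α)).mapIso e.symm ≪≫ e1
    have e3 : (Scheme.Modules.pullback (j ≫ inv α)).obj (Twist.twistProjSpace r A 1) ≅
        (Scheme.Modules.pullback j).obj T :=
      ((Scheme.Modules.pullbackComp j (inv α)).app (Twist.twistProjSpace r A 1)).symm ≪≫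
        (Scheme.Modules.pullback j).mapIso e2
    exact ⟨φ ≪≫ e3.symm⟩

variable [IsNoetherianRing A]

/-- **Serre vanishing for an ample module** on a proper scheme over a Noetherian ring -/
theorem serre_vanishing_ample {X : Scheme.{u}} (f : X ⟶ Spec (CommRingCat.of A)) [IsProper f]
    (L : X.Modules) (hL : CohB1.IsAmple L) (K : X.Modules) (hK : Coh.IsCoh K) :
    ∃ n₀ : ℕ, ∀ n : ℕ, n₀ ≤ n → ∀ q : ℕ, 0 < q →
      Subsingleton (Coh.HH X (CohB1.tensorMod K (CohB1.tensorPow L n)) q) := by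
  classical
  obtain ⟨d, hd, r, i, hi, -, ⟨φ⟩⟩ := exists_closedImmersion_projSpace A f L hL
  have := hi
  have hLinv := hL.1
  let Lf : ℤ → X.Modules := fun n => (Scheme.Modules.pullback i).obj (Twist.twistProjSpace r A n)
  have hLf : ∀ n : ℤ, Nonempty ((Scheme.Modules.pullback i).obj (Twist.twistProjSpace r A n) ≅ Lf n) :=
    fun n => ⟨Iso.refl _⟩
  -- the twists are powers of L
  have hpow : ∀ m : ℕ, Nonempty (Lf (m : ℤ) ≅ CohB1.tensorPow L (d * m)) := by
    intro m
    obtain ⟨e1⟩ := Groth.Agent.Lib.R2H2.QProjK0.nonempty_twist_iso_tensorPow r A m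
    obtain ⟨e2⟩ := Groth.Agent.Lib.Helper23.PB.nonempty_pullback_tensorPow_iso i (Twist.twistProjSpace r A 1)
      (Groth.Agent.Lib.R2H2.PnSerre.isInv r A 1) m
    obtain ⟨e3⟩ := nonempty_tensorPow_tensorPow_iso L hLinv d m (d * m) rfl
    exact ⟨(Scheme.Modules.pullback i).mapIso e1 ≪≫ e2 ≪≫ (tensorPowIso φ m).symm ≪≫ e3⟩
  -- vanishing for the finitely many K ⊗ L^c
  have hvan : ∀ c : ℕ, ∃ d₀ : ℤ, ∀ n : ℤ, d₀ ≤ n → ∀ q : ℕ, 0 < q →
      Subsingleton (Coh.HH X (CohB1.tensorMod (CohB1.tensorMod K (CohB1.tensorPow L c)) (Lf n)) q) := fun c =>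
    Groth.Agent.Lib.R2H2.ClosedPnGamma.serre_vanishing_closed r A i Lf hLf _
      (isCoh_tensorMod_invertible K _ hK (isInvertible_tensorPow hLinv c))
  choose d₀ hd₀ using hvan
  let M : ℕ := (Finset.range d).sup (fun c => (d₀ c).toNat)
  refine ⟨d * M, fun n hn q hq => ?_⟩
  have hc : n % d < d := Nat.mod_lt _ hd
  have hm : M ≤ n / d := by
    rw [Nat.le_div_iff_mul_le hd, mul_comm]
    exact hn
  have h1 : d₀ (n % d) ≤ ((n / d : ℕ) : ℤ) := by
    have h2 : (d₀ (n % d)).toNat ≤ M := Finset.le_sup (f := fun c => (d₀ c).toNat) (Finset.mem_range.2 hc)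
    have h3 : d₀ (n % d) ≤ ((d₀ (n % d)).toNat : ℤ) := Int.self_le_toNat _
    exact h3.trans (by exact_mod_cast h2.trans hm)
  have h4 := hd₀ (n % d) _ h1 q hq
  obtain ⟨e1⟩ := hpow (n / d)
  obtain ⟨e2⟩ := nonempty_tensor_tensorPow_add_iso K L (n % d) (d * (n / d)) n (Nat.mod_add_div n d)
  exact Groth.Agent.Lib.R2H2.PnSerre.subsingleton_HH_of_iso
    (tensorModIso (Iso.refl _) e1 ≪≫ e2) q h4

end

/-- Serre vanishing over an affine Noetherian base scheme -/
theorem serre_vanishing_ample_of_isAffine {X Y : Scheme.{u}} [IsAffine Y] [IsNoetherian Y] (f : X ⟶ Y) [IsProper f]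
    (L : X.Modules) (hL : CohB1.IsAmple L) (K : X.Modules) (hK : Coh.IsCoh K) :
    ∃ n₀ : ℕ, ∀ n : ℕ, n₀ ≤ n → ∀ q : ℕ, 0 < q →
      Subsingleton (Coh.HH X (CohB1.tensorMod K (CohB1.tensorPow L n)) q) := by
  have hN : IsNoetherianRing Γ(Y, ⊤) :=
    IsLocallyNoetherian.component_noetherian ⟨⊤, isAffineOpen_top Y⟩
  exact serre_vanishing_ample (A := Γ(Y, ⊤)) (f ≫ Y.isoSpec.hom) L hL K hK

/-- restriction to an open commutes with the twists `K ⊗ L^n` -/
theorem nonempty_restrict_twist_iso {X : Scheme.{u}} (K L : X.Modules) (hL : PicF.IsInvertible L) (U : X.Opens) (n : ℕ) :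
    Nonempty ((CohB1.tensorMod K (CohB1.tensorPow L n)).restrict U.ι ≅
      CohB1.tensorMod (K.restrict U.ι) (CohB1.tensorPow (L.restrict U.ι) n)) := by
  obtain ⟨Φ⟩ := nonempty_restrict_tensorPow_iso L hL U n
  exact ⟨Groth.Agent.Lib.Helper23.RestrTensor.restrictTensorIso K (CohB1.tensorPow L n) U.ι ≪≫
    tensorModIso (Iso.refl _) Φ⟩

end Groth.Agent.Lib.R2H3.AmpleSV
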