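import Mathlib
import Groth.Agent.Lib.R2H1RegPoint
import Groth.Agent.Lib.R2H1InvExists
import Groth.Agent.Lib.R2H1DegCartier
import Groth.Agent.Lib.R2H2DevA
import Groth.Agent.Lib.R2H2PnLinRes
import Groth.Agent.Lib.R2H1GenusZero
import Groth.Agent.Lib.R2H1DegNonpos
import Groth.Agent.Lib.R2H1TFDeg
import Groth.Agent.Lib.Helper18Cart1
import Groth.Agent.Lib.R2H1CurveAmple
import Groth.Agent.Lib.R2H2ClosedPnLin
import Groth.Agent.Lib.R2H3AmpleSV
import Groth.Agent.Lib.R2H1FinrankChain
set_option backward.isDefEq.respectTransparency.types false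

/-!
helper1 (run 2): non-special invertible modules on integral proper curves over an algebraically closed field (S1523, S1522). API: isZero_X₃_of_comp_eq_zero, euler_of_isZero, step_gen (twist down by a degree-one effective Cartier divisor away from the zeros of a section: h0 drops by one, H1 stays 0), step, exists_deg_one (invertible of degree 1 = inverse of the ideal of a regular closed point), exists_start (ample power with H1=0 and sections), exists_h0_one, s1523, s1522 (deg >= 2g-1 => H1 = 0 via N with h0=h1=0 and a nonzero map N -> L).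
-/

set_option autoImplicit false
set_option linter.style.haveILetI false
set_option linter.unusedSectionVars false
universe u v

open CategoryTheory CategoryTheory.Limits AlgebraicGeometry TopologicalSpace Opposite

namespace Groth.Agent.Lib.R2H1.NonSpecial

section Part1

open Groth.Agent.Lib.R2H1.DegCartier Groth.Agent.Lib.R2H1.SkyDecomp Groth.Agent.Lib.R2H2.DevA
open Groth.Agent.Lib.Helper21.ModTensor Groth.Agent.Lib.Helper21.ModTensor2
open Groth.Agent.Lib.Helper21.ModTensor5 Groth.Agent.Lib.Helper21.ModTensor6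
open Groth.Agent.Lib.Helper21.ModTensor7 Groth.Agent.Lib.Helper21.ModTensor3

variable {X : Scheme.{u}}

/-- if a section of `L ⊗ O` which generates near the support of `D` dies in `L ⊗ O_D`, then
`L ⊗ O_D = 0` -/
theorem isZero_X₃_of_comp_eq_zero (D : X.IdealSheafData) (L : X.Modules)
    (hS : ((idealSeq D).map (DCoh.tensorBi.obj L)).ShortExact)
    (σ : Coh.structureModule X ⟶ ((idealSeq D).map (DCoh.tensorBi.obj L)).X₂) (U : X.Opens)
    (hiso : IsIso ((Scheme.Modules.restrictFunctor U.ι).map σ))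
    (hU : (D.support : Set X) ⊆ (U : Set X))
    (h0 : σ ≫ ((idealSeq D).map (DCoh.tensorBi.obj L)).g = 0) :
    IsZero ((idealSeq D).map (DCoh.tensorBi.obj L)).X₃ := by
  haveI := hiso
  haveI : Epi ((idealSeq D).map (DCoh.tensorBi.obj L)).g := hS.epi_g
  have h1 : (Scheme.Modules.restrictFunctor U.ι).map
      ((idealSeq D).map (DCoh.tensorBi.obj L)).g = 0 := by
    have h2 : (Scheme.Modules.restrictFunctor U.ι).map σ ≫
        (Scheme.Modules.restrictFunctor U.ι).map
          ((idealSeq D).map (DCoh.tensorBi.obj L)).g = 0 := by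
      rw [← Functor.map_comp, h0, Functor.map_zero]
    exact (cancel_epi ((Scheme.Modules.restrictFunctor U.ι).map σ)).1 (h2.trans comp_zero.symm)
  haveI : Epi ((Scheme.Modules.restrictFunctor U.ι).map
      ((idealSeq D).map (DCoh.tensorBi.obj L)).g) := inferInstance
  have hz : IsZero ((Scheme.Modules.restrictFunctor U.ι).obj
      ((idealSeq D).map (DCoh.tensorBi.obj L)).X₃) := IsZero.of_epi_eq_zero _ h1
  apply isZero_of_support_subset_empty
  intro y hy
  by_cases hyU : y ∈ U
  · exact not_mem_support_of_isZero_restrict_opens U _ hz y hyU hy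
  · have hyD : y ∉ (D.support : Set X) := fun h => hyU (hU h)
    have h3 := stalk_tensor_subsingleton (ClSub.quotMod D) L (D.support : Set X)
      D.support.isClosed (fun x hx => stalk_quotMod_subsingleton D x hx) y hyD
    have h4 := support_subset_of_epi (brdApp X.sheaf L (ClSub.quotMod D)).inv hy
    exact h4 h3


open Groth.Agent.Lib.R2H1.RegPoint Groth.Agent.Lib.R2H1.CurveEuler Groth.Agent.Lib.R2H1.CurveDegSec
  Groth.Agent.Lib.R2H1.EulerAdd Groth.Agent.Lib.R2H2.HHLin Groth.Agent.Lib.R2H2.PnLinRes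
  Groth.Agent.Lib.R2H1.GenusZero Groth.Agent.Lib.R2H1.DegNonpos

theorem euler_of_isZero (k : Type u) [Field k] (X : Scheme.{u})
    [X.Over (Spec (CommRingCat.of k))] (F : X.Modules) (hF : IsZero F) :
    Curv2.euler k X F = 0 := by
  unfold Curv2.euler
  apply finsum_eq_zero_of_forall_eq_zero
  intro i
  haveI : Subsingleton (Coh.HH X F i) := by
    refine subsingleton_of_forall_eq 0 fun x => ?_
    have h1 : HmapL (𝟙 F) i x = x := by rw [HmapL_id]
    have h2 : (𝟙 F : F ⟶ F) = 0 := hF.eq_of_src _ _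
    rw [h2, HmapL_zero] at h1
    exact h1.symm
  rw [Module.finrank_zero_of_subsingleton]
  simp

section General

variable (k : Type u) [Field k] (X : Scheme.{u}) [X.Over (Spec (CommRingCat.of k))]
    [IsProper (X ↘ (Spec (CommRingCat.of k)))]

/-- the step for a general effective Cartier divisor of degree one -/
theorem step_gen (hdim : topologicalKrullDim X ≤ 1) (D : X.IdealSheafData)
    (hD : BlowUp.IsEffCartierIdeal D)
    (hQ1 : Module.finrank k (Coh.HH X (ClSub.quotMod D) 0) = 1)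
    (L : X.Modules) (hL : PicF.IsInvertible L)
    (h1 : Subsingleton (Coh.HH X L 1)) (m : ℕ)
    (h0 : Module.finrank k (Coh.HH X L 0) = m + 1)
    (s : Coh.structureModule X ⟶ L) (U : X.Opens)
    (hUiso : IsIso ((Scheme.Modules.restrictFunctor U.ι).map s))
    (hsupp : (D.support : Set X) ⊆ (U : Set X)) :
    PicF.IsInvertible (CohB1.tensorMod L (ClSub.idealMod D)) ∧
      Subsingleton (Coh.HH X (CohB1.tensorMod L (ClSub.idealMod D)) 1) ∧
      Module.finrank k (Coh.HH X (CohB1.tensorMod L (ClSub.idealMod D)) 0) = m := by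
  haveI := isNoetherian_of_proper k X
  have cL := isCoh_of_isInvertible L hL
  have hI : PicF.IsInvertible (ClSub.idealMod D) :=
    Groth.Agent.Helper18Cart.isInvertible_of_isEffCartier D hD
  have hL' : PicF.IsInvertible (CohB1.tensorMod L (ClSub.idealMod D)) :=
    Groth.Agent.Lib.Helper23.SecTw.isInvertible_tensorMod hL hI
  have cL' := isCoh_of_isInvertible _ hL'
  have hL1 : FlatMod.IsFinLocFreeOfRank 1 L :=
    Groth.Agent.Lib.Helper23.SecTw.isFinLocFreeOfRank_one_of_isInvertible L hL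
  have hLf : FlatMod.IsFinLocFree L := fun y => by
    obtain ⟨V, hy, e⟩ := hL1 y
    exact ⟨V, 1, hy, e⟩
  have hfl := Groth.Agent.Lib.R2H2.PullLF.isFlat_of_isFinLocFree L hLf
  have hS : ((idealSeq D).map (DCoh.tensorBi.obj L)).ShortExact :=
    Groth.Agent.Lib.R2Lead.TensorExact.shortExact_map_tensorBi L (fun y => hfl y)
      (idealSeq D) (idealSeq_shortExact D)
  have hQ : Coh.IsCoh (ClSub.quotMod D) :=
    Groth.Agent.S0019.result D.subschemeι _
      (Groth.Agent.Lib.R2H1.GenusLe.isCoh_structureModule _)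
  have hsuppQ := dim_support_quotMod_le_zero D hdim hD
  have main := euler_tensor_ideal k X D 1 L hL1 hQ hsuppQ cL'
  have e1 := euler_eq_h0 k X (ClSub.quotMod D) hQ hsuppQ
  have e2 := euler_eq_h0_sub_h1 k X hdim L cL.1
  have e3 := euler_eq_h0_sub_h1 k X hdim (CohB1.tensorMod L (ClSub.idealMod D)) cL'.1
  haveI := h1
  have e4 : Module.finrank k (Coh.HH X L 1) = 0 := Module.finrank_zero_of_subsingleton
  -- the section `σ` of `L ⊗ O`
  have c₂ : Coh.IsCoh ((idealSeq D).map (DCoh.tensorBi.obj L)).X₂ :=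
    Groth.Agent.Lib.R2H2.PdSheaf.isCoh_of_iso (Groth.Agent.Lib.Helper21.Dual.rU X.sheaf L).symm cL
  have c₁ : Coh.IsCoh ((idealSeq D).map (DCoh.tensorBi.obj L)).X₁ := cL'
  have c₃ := isCoh_X₃ _ hS c₁ c₂
  have hadd := s1524 k X _ hS c₁ c₂ c₃
  have e₂ : Curv2.euler k X ((idealSeq D).map (DCoh.tensorBi.obj L)).X₂ = Curv2.euler k X L :=
    euler_congr k (Groth.Agent.Lib.Helper21.Dual.rU X.sheaf L)
  have eU : ((idealSeq D).map (DCoh.tensorBi.obj L)).X₂ ≅ L :=
    Groth.Agent.Lib.Helper21.Dual.rU X.sheaf L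
  obtain ⟨σ, hσ⟩ : ∃ σ : Coh.structureModule X ⟶ ((idealSeq D).map (DCoh.tensorBi.obj L)).X₂,
      σ = s ≫ eU.inv := ⟨_, rfl⟩
  have hσiso : IsIso ((Scheme.Modules.restrictFunctor U.ι).map σ) := by
    haveI := hUiso
    rw [hσ, Functor.map_comp]
    infer_instance
  -- `cls σ` is not in the image of `H⁰(L')`
  have hnot : cls σ ∉
      LinearMap.range (HmapA k ((idealSeq D).map (DCoh.tensorBi.obj L)).f 0) := by
    rintro ⟨y, hy⟩
    have h2 : HmapL ((idealSeq D).map (DCoh.tensorBi.obj L)).g 0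
        (cls σ) = 0 := by
      have h := congrArg (HmapL ((idealSeq D).map (DCoh.tensorBi.obj L)).g 0) hy.symm
      refine h.trans ?_
      show HmapL ((idealSeq D).map (DCoh.tensorBi.obj L)).g 0
        (HmapL ((idealSeq D).map (DCoh.tensorBi.obj L)).f 0 y) = 0
      rw [← HmapL_comp, ((idealSeq D).map (DCoh.tensorBi.obj L)).zero, HmapL_zero]
    rw [cls_comp] at h2
    have h3 := eq_zero_of_cls _ h2
    have hz := isZero_X₃_of_comp_eq_zero D L hS σ U hσiso hsupp h3
    have h4 := euler_of_isZero k X _ hz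
    have e3' : Curv2.euler k X ((idealSeq D).map (DCoh.tensorBi.obj L)).X₁ =
      (Module.finrank k (Coh.HH X (CohB1.tensorMod L (ClSub.idealMod D)) 0) : ℤ) -
      (Module.finrank k (Coh.HH X (CohB1.tensorMod L (ClSub.idealMod D)) 1) : ℤ) := e3
    rw [h4, e₂, e2, e3'] at hadd
    rw [e1, e2, e3, hQ1] at main
    omega
  haveI := finite_HH k X _ c₂ 0
  haveI := finite_HH k X _ c₁ 0
  have hinj : Function.Injective (HmapA k ((idealSeq D).map (DCoh.tensorBi.obj L)).f 0) :=
    injective_f_zero k _ hS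
  have hlt : Module.finrank k (Coh.HH X ((idealSeq D).map (DCoh.tensorBi.obj L)).X₁ 0) <
      Module.finrank k (Coh.HH X ((idealSeq D).map (DCoh.tensorBi.obj L)).X₂ 0) := by
    rw [← LinearMap.finrank_range_of_inj hinj]
    apply Submodule.finrank_lt
    intro htop
    exact hnot (by rw [htop]; exact Submodule.mem_top)
  have hX₂ : Module.finrank k (Coh.HH X ((idealSeq D).map (DCoh.tensorBi.obj L)).X₂ 0) = m + 1 := by
    have e : ((idealSeq D).map (DCoh.tensorBi.obj L)).X₂ ≅ L :=
      Groth.Agent.Lib.Helper21.Dual.rU X.sheaf L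
    rw [Groth.Agent.Lib.R2H2.ClosedPnLin.finrank_HH_of_iso k e 0]
    exact h0
  have hlt' : Module.finrank k (Coh.HH X (CohB1.tensorMod L (ClSub.idealMod D)) 0) < m + 1 := by
    rw [← hX₂]; exact hlt
  rw [e1, e2, e3, hQ1, h0, e4] at main
  have hh1 : Module.finrank k (Coh.HH X (CohB1.tensorMod L (ClSub.idealMod D)) 1) = 0 := by
    omega
  have hh0 : Module.finrank k (Coh.HH X (CohB1.tensorMod L (ClSub.idealMod D)) 0) = m := by
    omega
  haveI := finite_HH k X _ cL' 1
  exact ⟨hL', Module.finrank_zero_iff.mp hh1, hh0⟩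

end General


section AlgClosed

variable (k : Type u) [Field k] [IsAlgClosed k] (X : Scheme.{u}) [X.Over (Spec (CommRingCat.of k))]
    [IsIntegral X] [IsProper (X ↘ (Spec (CommRingCat.of k)))]

/-- twisting down by a regular closed point where a section does not vanish -/
theorem step (hdim : topologicalKrullDim X = 1) (L : X.Modules) (hL : PicF.IsInvertible L)
    (h1 : Subsingleton (Coh.HH X L 1)) (m : ℕ)
    (h0 : Module.finrank k (Coh.HH X L 0) = m + 1) :
    ∃ L' : X.Modules, PicF.IsInvertible L' ∧ Subsingleton (Coh.HH X L' 1) ∧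
      Module.finrank k (Coh.HH X L' 0) = m := by
  haveI := isNoetherian_of_proper k X
  have cL := isCoh_of_isInvertible L hL
  obtain ⟨s, hs⟩ := exists_section_of_pos k X L cL (by rw [h0]; omega)
  have hW : ((CohB1.genLocus L s : X.Opens) : Set X).Nonempty := by
    by_contra hne
    apply hs
    apply eq_zero_of_genLocus_eq_bot L hL s
    ext y
    simp only [Opens.coe_bot, Set.mem_empty_iff_false, iff_false]
    exact fun hy => hne ⟨y, hy⟩
  obtain ⟨x, hxW, hxc, hdvr⟩ := exists_closed_dvr_mem_open k X (X ↘ Spec (CommRingCat.of k))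
    hdim _ hW
  haveI := hdvr
  obtain ⟨U, hUiso, hxU⟩ : ∃ U : X.Opens,
      IsIso ((Scheme.Modules.restrictFunctor U.ι).map s) ∧ x ∈ U := by
    obtain ⟨U, h, hx⟩ := Opens.mem_sSup.mp hxW
    exact ⟨U, h, hx⟩
  have hD : BlowUp.IsEffCartierIdeal (Scheme.IdealSheafData.vanishingIdeal ⟨{x}, hxc⟩) :=
    isEffCartier_vanishingIdeal_singleton X x hxc
  have hsupp : ((Scheme.IdealSheafData.vanishingIdeal ⟨{x}, hxc⟩).support : Set X) ⊆
      (U : Set X) := by
    intro y hy
    have : y = x := hy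
    rw [this]
    exact hxU
  exact ⟨_, step_gen k X hdim.le _ hD (finrank_H0_quotMod_point k X x hxc) L hL h1 m h0 s U
    hUiso hsupp⟩

end AlgClosed

end Part1

section Part2


open Groth.Agent.Lib.R2H1.DegCartier Groth.Agent.Lib.R2H1.SkyDecomp Groth.Agent.Lib.R2H2.DevA
open Groth.Agent.Lib.Helper21.ModTensor Groth.Agent.Lib.Helper21.ModTensor2
open Groth.Agent.Lib.Helper21.ModTensor5 Groth.Agent.Lib.Helper21.ModTensor6
open Groth.Agent.Lib.Helper21.ModTensor7 Groth.Agent.Lib.Helper21.ModTensor3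
open Groth.Agent.Lib.R2H1.RegPoint Groth.Agent.Lib.R2H1.CurveEuler Groth.Agent.Lib.R2H1.CurveDegSec
  Groth.Agent.Lib.R2H1.EulerAdd Groth.Agent.Lib.R2H2.HHLin Groth.Agent.Lib.R2H2.PnLinRes
  Groth.Agent.Lib.R2H1.GenusZero Groth.Agent.Lib.R2H1.DegNonpos Groth.Agent.Lib.R2H1.InvExists

variable (k : Type u) [Field k] [IsAlgClosed k] (X : Scheme.{u}) [X.Over (Spec (CommRingCat.of k))]
    [IsIntegral X] [IsProper (X ↘ (Spec (CommRingCat.of k)))]

/-- an invertible module of degree one -/
theorem exists_deg_one (hdim : topologicalKrullDim X = 1) :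
    ∃ M : X.Modules, PicF.IsInvertible M ∧ Curv2.deg k X M 1 = 1 := by
  haveI := isNoetherian_of_proper k X
  obtain ⟨x, -, hxc, hdvr⟩ := exists_closed_dvr_mem_open k X (X ↘ Spec (CommRingCat.of k))
    hdim ⊤ ⟨(inferInstance : Nonempty X).some, trivial⟩
  haveI := hdvr
  have hD : BlowUp.IsEffCartierIdeal (Scheme.IdealSheafData.vanishingIdeal ⟨{x}, hxc⟩) :=
    isEffCartier_vanishingIdeal_singleton X x hxc
  have hI : PicF.IsInvertible (ClSub.idealMod (Scheme.IdealSheafData.vanishingIdeal ⟨{x}, hxc⟩)) :=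
    Groth.Agent.Helper18Cart.isInvertible_of_isEffCartier _ hD
  obtain ⟨M, hM, ⟨e⟩⟩ := exists_inverse _ hI
  have hLD : ClSub.IsInverseOf M
      (ClSub.idealMod (Scheme.IdealSheafData.vanishingIdeal ⟨{x}, hxc⟩)) :=
    ⟨brdApp X.sheaf M _ ≪≫ e⟩
  have hO := Groth.Agent.Lib.Helper23.TensorUnit.isInvertible_structureModule X
  have hO1 : FlatMod.IsFinLocFreeOfRank 1 (Coh.structureModule X) :=
    Groth.Agent.Lib.Helper23.SecTw.isFinLocFreeOfRank_one_of_isInvertible _ hO
  have h := (s1604 k X hdim.le _ hD M hM hLD 1 (Coh.structureModule X) hO1).2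
  rw [finrank_H0_quotMod_point k X x hxc] at h
  refine ⟨M, hM, ?_⟩
  have e2 : CohB1.tensorMod (Coh.structureModule X) M ≅ M :=
    brdApp X.sheaf (Coh.structureModule X) M ≪≫ Groth.Agent.Lib.Helper21.Dual.rU X.sheaf M
  have h3 : Curv2.deg k X (CohB1.tensorMod (Coh.structureModule X) M) 1 = Curv2.deg k X M 1 := by
    unfold Curv2.deg
    rw [euler_congr k e2]
  have h4 : Curv2.deg k X (Coh.structureModule X) 1 = 0 := by
    unfold Curv2.deg
    push_cast
    ring
  rw [h3, h4] at h
  push_cast at h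
  omega


/-- an invertible module with vanishing `H¹` and a nonzero section -/
theorem exists_start (hdim : topologicalKrullDim X = 1) :
    ∃ (L : X.Modules) (m : ℕ), PicF.IsInvertible L ∧ Subsingleton (Coh.HH X L 1) ∧
      Module.finrank k (Coh.HH X L 0) = m + 1 := by
  haveI := isNoetherian_of_proper k X
  obtain ⟨M, hM, hdeg⟩ := exists_deg_one k X hdim
  have hample : CohB1.IsAmple M :=
    (Groth.Agent.Lib.R2H1.CurveAmple.s1530 k X hdim M hM).mpr (by rw [hdeg]; exact one_pos)
  have hO := Groth.Agent.Lib.Helper23.TensorUnit.isInvertible_structureModule X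
  have cO := isCoh_of_isInvertible _ hO
  obtain ⟨n₀, hn₀⟩ := Groth.Agent.Lib.R2H3.AmpleSV.serre_vanishing_ample k
    (X ↘ Spec (CommRingCat.of k)) M hample (Coh.structureModule X) cO
  -- choose `n` large
  obtain ⟨n, hn1, hn2⟩ : ∃ n : ℕ, n₀ ≤ n ∧
      1 ≤ (n : ℤ) + Curv2.euler k X (Coh.structureModule X) := by
    refine ⟨n₀ + (1 - Curv2.euler k X (Coh.structureModule X)).toNat, Nat.le_add_right _ _, ?_⟩
    have := Int.self_le_toNat (1 - Curv2.euler k X (Coh.structureModule X))
    push_cast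
    omega
  have hLn : PicF.IsInvertible (CohB1.tensorMod (Coh.structureModule X) (CohB1.tensorPow M n)) :=
    Groth.Agent.Lib.Helper23.SecTw.isInvertible_tensorMod hO
      (Groth.Agent.Lib.Helper23.SecTw.isInvertible_tensorPow hM n)
  have cLn := isCoh_of_isInvertible _ hLn
  haveI h1 := hn₀ n hn1 1 one_pos
  have e2 : CohB1.tensorMod (Coh.structureModule X) (CohB1.tensorPow M n) ≅ CohB1.tensorPow M n :=
    brdApp X.sheaf (Coh.structureModule X) _ ≪≫ Groth.Agent.Lib.Helper21.Dual.rU X.sheaf _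
  have hχ : Curv2.euler k X (CohB1.tensorMod (Coh.structureModule X) (CohB1.tensorPow M n)) =
      (n : ℤ) + Curv2.euler k X (Coh.structureModule X) := by
    rw [euler_congr k e2]
    have hd := Groth.Agent.Lib.R2H1.CurveAmple.deg_tensorPow k X hdim M hM n
    rw [hdeg] at hd
    unfold Curv2.deg at hd
    push_cast at hd
    linarith
  have hχ' := euler_eq_h0_sub_h1 k X hdim.le _ cLn.1
  rw [hχ, Module.finrank_zero_of_subsingleton
    (M := Coh.HH X (CohB1.tensorMod (Coh.structureModule X) (CohB1.tensorPow M n)) 1)] at hχ'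
  have hpos : 1 ≤ Module.finrank k
      (Coh.HH X (CohB1.tensorMod (Coh.structureModule X) (CohB1.tensorPow M n)) 0) := by
    push_cast at hχ'
    omega
  refine ⟨_, Module.finrank k
    (Coh.HH X (CohB1.tensorMod (Coh.structureModule X) (CohB1.tensorPow M n)) 0) - 1, hLn, h1, ?_⟩
  omega

/-- descending induction -/
theorem exists_h0_one (hdim : topologicalKrullDim X = 1) (m : ℕ) :
    ∀ (L : X.Modules), PicF.IsInvertible L → Subsingleton (Coh.HH X L 1) →
      Module.finrank k (Coh.HH X L 0) = m + 1 →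
      ∃ L' : X.Modules, PicF.IsInvertible L' ∧ Module.finrank k (Coh.HH X L' 0) = 1 ∧
        Subsingleton (Coh.HH X L' 1) := by
  induction m with
  | zero =>
    intro L hL h1 h0
    exact ⟨L, hL, by simpa using h0, h1⟩
  | succ m ih =>
    intro L hL h1 h0
    obtain ⟨L', hL', h1', h0'⟩ := step k X hdim L hL h1 (m + 1) h0
    exact ih L' hL' h1' h0'

/-- **S1523** -/
theorem s1523 (hdim : topologicalKrullDim X = 1) :
    (∃ L : X.Modules, PicF.IsInvertible L ∧ Module.finrank k (Coh.HH X L 0) = 1 ∧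
      Subsingleton (Coh.HH X L 1)) ∧
    (∃ N : X.Modules, PicF.IsInvertible N ∧ Subsingleton (Coh.HH X N 0) ∧
      Subsingleton (Coh.HH X N 1)) := by
  obtain ⟨L₀, m, hL₀, h1, h0⟩ := exists_start k X hdim
  obtain ⟨L, hL, hL0, hL1⟩ := exists_h0_one k X hdim m L₀ hL₀ h1 h0
  refine ⟨⟨L, hL, hL0, hL1⟩, ?_⟩
  obtain ⟨N, hN, hN1, hN0⟩ := step k X hdim L hL hL1 0 (by simpa using hL0)
  haveI := finite_HH k X N (isCoh_of_isInvertible N hN) 0
  exact ⟨N, hN, Module.finrank_zero_iff.mp hN0, hN1⟩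

end Part2

section Part3


open Groth.Agent.Lib.R2H1.DegCartier Groth.Agent.Lib.R2H1.SkyDecomp Groth.Agent.Lib.R2H2.DevA
open Groth.Agent.Lib.Helper21.ModTensor Groth.Agent.Lib.Helper21.ModTensor2
open Groth.Agent.Lib.Helper21.ModTensor5 Groth.Agent.Lib.Helper21.ModTensor6
open Groth.Agent.Lib.Helper21.ModTensor7 Groth.Agent.Lib.Helper21.ModTensor3
open Groth.Agent.Lib.R2H1.RegPoint Groth.Agent.Lib.R2H1.CurveEuler Groth.Agent.Lib.R2H1.CurveDegSec
  Groth.Agent.Lib.R2H1.EulerAdd Groth.Agent.Lib.R2H2.HHLin Groth.Agent.Lib.R2H2.PnLinRes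
  Groth.Agent.Lib.R2H1.GenusZero Groth.Agent.Lib.R2H1.DegNonpos Groth.Agent.Lib.R2H1.InvExists
  Groth.Agent.Lib.R2H1.CurveAmple Groth.Agent.Lib.R2H1.FinrankChain

variable (k : Type u) [Field k] [IsAlgClosed k] (X : Scheme.{u}) [X.Over (Spec (CommRingCat.of k))]
    [IsIntegral X] [IsProper (X ↘ (Spec (CommRingCat.of k)))]

/-- **S1522** -/
theorem s1522 (hdim : topologicalKrullDim X = 1)
    (L : X.Modules) (hL : PicF.IsInvertible L)
    (hdeg : 2 * (Curv2.genus k X : ℤ) - 1 ≤ Curv2.deg k X L 1) :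
    Subsingleton (Coh.HH X L 1) := by
  haveI := isNoetherian_of_proper k X
  have hO := Groth.Agent.Lib.Helper23.TensorUnit.isInvertible_structureModule X
  have cO := isCoh_of_isInvertible _ hO
  have cL := isCoh_of_isInvertible L hL
  obtain ⟨-, N, hN, hN0, hN1⟩ := s1523 k X hdim
  have cN := isCoh_of_isInvertible N hN
  obtain ⟨P, hP, ⟨e⟩⟩ := exists_inverse N hN
  -- Euler characteristics
  have χO : Curv2.euler k X (Coh.structureModule X) = 1 - (Curv2.genus k X : ℤ) := by
    rw [euler_eq_h0_sub_h1 k X hdim.le _ cO.1, finrank_H0_structure_eq_one k X]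
    rfl
  have χN : Curv2.euler k X N = 0 := by
    rw [euler_eq_h0_sub_h1 k X hdim.le _ cN.1]
    haveI := hN0
    haveI := hN1
    rw [Module.finrank_zero_of_subsingleton, Module.finrank_zero_of_subsingleton]
    simp
  have hNP : Curv2.deg k X N 1 + Curv2.deg k X P 1 = 0 := by
    rw [← deg_tensorMod k X hdim N P hN hP]
    unfold Curv2.deg
    rw [euler_congr k e]
    push_cast
    ring
  have hLP := deg_tensorMod k X hdim L P hL hP
  have hLPinv := Groth.Agent.Lib.Helper23.SecTw.isInvertible_tensorMod hL hP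
  have cLP := isCoh_of_isInvertible _ hLPinv
  have χLP := euler_eq_h0_sub_h1 k X hdim.le _ cLP.1
  have hpos : 0 < Module.finrank k (Coh.HH X (CohB1.tensorMod L P) 0) := by
    unfold Curv2.deg at hNP hLP hdeg
    push_cast at hNP hLP hdeg
    have : (0 : ℤ) < (Module.finrank k (Coh.HH X (CohB1.tensorMod L P) 0) : ℤ) := by
      have h1 : (0 : ℤ) ≤ (Module.finrank k (Coh.HH X (CohB1.tensorMod L P) 1) : ℤ) :=
        Int.natCast_nonneg _
      linarith
    exact_mod_cast this
  obtain ⟨t, ht⟩ := exists_section_of_pos k X _ cLP hpos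
  -- the nonzero map `N ⟶ L`
  have e' : CohB1.tensorMod P N ≅ Coh.structureModule X := brdApp X.sheaf P N ≪≫ e
  obtain ⟨φ, hφ⟩ : ∃ φ : N ⟶ L, φ ≠ 0 := by
    refine ⟨mulSec N t ≫ (brdApp X.sheaf N (CohB1.tensorMod L P)).hom ≫
      (tensorInvIso L P N e').hom, ?_⟩
    intro h0
    apply mulSec_ne_zero N hN hLPinv t ht
    have h1 : mulSec N t ≫ ((brdApp X.sheaf N (CohB1.tensorMod L P)) ≪≫
        (tensorInvIso L P N e')).hom = 0 := by
      rw [Iso.trans_hom]; exact h0
    exact (cancel_mono ((brdApp X.sheaf N (CohB1.tensorMod L P)) ≪≫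
        (tensorInvIso L P N e')).hom).1 (h1.trans zero_comp.symm)
  haveI : Mono φ := Groth.Agent.Lib.R2H1.InvHom.mono_of_ne_zero hN hL φ hφ
  have hmain := (main k X hdim N L hN hL φ hφ).1
  have cC : Coh.IsCoh (cokernel φ) := Groth.Agent.Lib.R2H2.NilFilt.isCoh_cokernel cN cL φ
  let S : ShortComplex X.Modules := ShortComplex.mk φ (cokernel.π φ) (cokernel.condition _)
  have hS : S.ShortExact :=
    { exact := ShortComplex.exact_cokernel _
      mono_f := inferInstanceAs (Mono φ)
      epi_g := inferInstanceAs (Epi (cokernel.π φ)) }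
  have hle : hh k X L 0 ≤ hh k X N 0 + hh k X (cokernel φ) 0 := hh_mid_le k S hS cN cL cC 0
  have hN0' : hh k X N 0 = 0 := by
    haveI := hN0
    exact Module.finrank_zero_of_subsingleton
  have χL := euler_eq_h0_sub_h1 k X hdim.le L cL.1
  rw [χN, χL] at hmain
  have hle' : Module.finrank k (Coh.HH X L 0) ≤ Module.finrank k (Coh.HH X (cokernel φ) 0) := by
    have : hh k X L 0 ≤ hh k X (cokernel φ) 0 := by omega
    exact this
  have h10 : Module.finrank k (Coh.HH X L 1) = 0 := by omega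
  haveI := finite_HH k X L cL 1
  exact Module.finrank_zero_iff.mp h10

end Part3

end Groth.Agent.Lib.R2H1.NonSpecial
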