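import Mathlib
import Groth.Agent.Lib.R2H1CurveAmple
import Groth.Agent.Lib.R2H1DegCartier
import Groth.Agent.Lib.R2H1NonSpecial
set_option backward.isDefEq.respectTransparency.types false

/-!
helper1 (run 2): sections vanishing along an ideal lift to L tensor I (exists_lift), twisting down by a zero of the unique section (step_down), invertible modules of every degree r <= g with h0 = 1 on a smooth proper integral curve over an algebraically closed field (main = S14152).
hom_eq_zero_of_locally, sv_comp, toSubscheme_app_eq_zero, stalk_X₃_subsingleton, exists_lift, exists_vanishing_data, step_down, isIso_of_genLocus_eq_top, exists_closed_notMem_genLocus, euler_structure, main.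
-/

set_option autoImplicit false
set_option linter.style.haveILetI false
set_option linter.unusedSectionVars false
universe u v

open CategoryTheory CategoryTheory.Limits AlgebraicGeometry TopologicalSpace Opposite

namespace Groth.Agent.Lib.R2H1.LiftZero

section Part1

open Groth.Agent.Lib.Helper23.SecTw Groth.Agent.Lib.Helper23.GenLocus Groth.Agent.Lib.Helper6
open Groth.Agent.Lib.R2H1.DegCartier Groth.Agent.Lib.R2H1.CurveAmple

variable {X : Scheme.{u}}

/-- a morphism from `O_X` is zero if its sections vanish locally -/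
theorem hom_eq_zero_of_locally {M : X.Modules} (φ : Coh.structureModule X ⟶ M)
    (h : ∀ x : X, ∃ V : X.Opens, x ∈ V ∧ sv φ V = 0) : φ = 0 := by
  refine Scheme.Modules.hom_ext _ _ fun U => ?_
  ext n
  change φ.app U n = 0
  have h1 : sv φ U = 0 := by
    refine M.isSheaf.section_ext (U := op U) fun x hx => ?_
    obtain ⟨V, hxV, hV⟩ := h x
    refine ⟨U ⊓ V, inf_le_left, ⟨hx, hxV⟩, ?_⟩
    change res M inf_le_left (sv φ U) = res M inf_le_left 0
    rw [res_sv, ← res_sv φ (inf_le_right : U ⊓ V ≤ V), hV]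
    exact (map_zero _).trans (map_zero _).symm
  have h2 := app_toS φ U (ofS U n)
  rw [toS_ofS] at h2
  rw [h2, h1, smul_zero]

theorem sv_comp {M N : X.Modules} (φ : Coh.structureModule X ⟶ M) (ψ : M ⟶ N) (V : X.Opens) :
    sv (φ ≫ ψ) V = ψ.app V (sv φ V) := rfl

/-- sections of the ideal die in `O_X / I` -/
theorem toSubscheme_app_eq_zero (D : X.IdealSheafData) (V : X.affineOpens) (a : Γ(X, V.1))
    (ha : a ∈ D.ideal V) : (ClSub.toSubscheme D).app V.1 (toS V.1 a) = 0 := by
  have h1 : a ∈ D.subschemeι.ker.ideal V := by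
    rw [Scheme.IdealSheafData.ker_subschemeι]; exact ha
  rw [Scheme.Hom.ker_apply] at h1
  exact h1

open Groth.Agent.Lib.R2H1.SkyDecomp Groth.Agent.Lib.R2H2.DevA Groth.Agent.Lib.R2H1.ZeroDimCoh in
theorem stalk_X₃_subsingleton (D : X.IdealSheafData) (L : X.Modules) (y : X)
    (hy : y ∉ D.support) :
    Subsingleton (((idealSeq D).map (DCoh.tensorBi.obj L)).X₃.presheaf.stalk y) := by
  by_contra hns
  have hy' : y ∈ CohB1.support ((idealSeq D).map (DCoh.tensorBi.obj L)).X₃ := hns
  have h3 := stalk_tensor_subsingleton (ClSub.quotMod D) L (D.support : Set X)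
    D.support.isClosed (fun x hx => stalk_quotMod_subsingleton D x hx) y hy
  have h4 := support_subset_of_epi
    (Groth.Agent.Lib.Helper21.ModTensor5.brdApp X.sheaf L (ClSub.quotMod D)).inv hy'
  exact h4 h3

open Groth.Agent.Lib.R2H1.ZeroDimCoh in
/-- a section of an invertible module which vanishes along `D` lifts to `L ⊗ I_D` -/
theorem exists_lift (D : X.IdealSheafData) (L : X.Modules)
    (hS : ((idealSeq D).map (DCoh.tensorBi.obj L)).ShortExact)
    (s : Coh.structureModule X ⟶ L)
    (hvan : ∀ x ∈ D.support, ∃ (U : X.affineOpens) (t : Γ(L, U.1)) (a : Γ(X, U.1)),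
        x ∈ U.1 ∧ sv s U.1 = a • t ∧ a ∈ D.ideal U) :
    ∃ σ' : Coh.structureModule X ⟶ ((idealSeq D).map (DCoh.tensorBi.obj L)).X₁,
      σ' ≫ ((idealSeq D).map (DCoh.tensorBi.obj L)).f = s ≫ (SecTwist.unitorR L).inv := by
  have h0 : (s ≫ (SecTwist.unitorR L).inv) ≫ ((idealSeq D).map (DCoh.tensorBi.obj L)).g = 0 := by
    apply hom_eq_zero_of_locally
    intro x
    by_cases hx : x ∈ D.support
    · obtain ⟨U, t, a, hxU, hsa, ha⟩ := hvan x hx
      refine ⟨U.1, hxU, ?_⟩
      rw [sv_comp, sv_comp]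
      change ((DCoh.tensorBi.obj L).map (ClSub.toSubscheme D)).app U.1
        ((SecTwist.unitorR L).inv.app U.1 (sv s U.1)) = 0
      rw [unitorR_inv_app, tensorBi_map_tm, hsa, tm_smul_left, ← tm_smul_right,
        ← Scheme.Modules.Hom.app_smul, smul_toS, mul_one, toSubscheme_app_eq_zero D U a ha,
        tm_zero_right]
      rfl
    · refine ⟨⟨(D.support : Set X)ᶜ, D.support.isClosed.isOpen_compl⟩, hx, ?_⟩
      have hsub : Subsingleton Γ(((idealSeq D).map (DCoh.tensorBi.obj L)).X₃,
          (⟨(D.support : Set X)ᶜ, D.support.isClosed.isOpen_compl⟩ : X.Opens)) :=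
        subsingleton_sections_of_disjoint (X := X.toTopCat)
          (Coh.toAb ((idealSeq D).map (DCoh.tensorBi.obj L)).X₃) (D.support : Set X)
          (fun y hy => stalk_X₃_subsingleton D L y hy)
          ⟨(D.support : Set X)ᶜ, D.support.isClosed.isOpen_compl⟩ (fun y hy => hy)
      exact @Subsingleton.elim _ hsub _ _
  haveI := hS.mono_f
  exact ⟨hS.exact.lift _ h0, hS.exact.lift_f _ h0⟩

end Part1

section Part2

open Groth.Agent.Lib.Helper23.SecTw Groth.Agent.Lib.Helper23.GenLocus Groth.Agent.Lib.Helper6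
open Groth.Agent.Lib.R2H1.DegCartier Groth.Agent.Lib.R2H1.CurveAmple

open Groth.Agent.Lib.R2H1.RegPoint Groth.Agent.Lib.R2H1.CurveEuler Groth.Agent.Lib.R2H1.CurveDegSec
  Groth.Agent.Lib.R2H1.EulerAdd Groth.Agent.Lib.R2H2.HHLin Groth.Agent.Lib.R2H2.PnLinRes
  Groth.Agent.Lib.R2H1.GenusZero Groth.Agent.Lib.R2H1.NonSpecial

/-- the coefficient of a section at a point where it does not generate lies in the ideal of the
point -/
theorem exists_vanishing_data {X : Scheme.{u}} (L : X.Modules) (hL : PicF.IsInvertible L)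
    (s : Coh.structureModule X ⟶ L) (P : X) (hP : IsClosed ({P} : Set X))
    (hPs : P ∉ CohB1.genLocus L s) :
    ∃ (U : X.affineOpens) (t : Γ(L, U.1)) (a : Γ(X, U.1)),
      P ∈ U.1 ∧ sv s U.1 = a • t ∧
        a ∈ (Scheme.IdealSheafData.vanishingIdeal ⟨{P}, hP⟩).ideal U := by
  obtain ⟨W, e, hPW, he⟩ := exists_gen L hL P
  obtain ⟨U, hU, hPU, hUW₀⟩ := exists_isAffineOpen_mem_and_subset (x := P) (U := W) hPW
  have hUW : U ≤ W := hUW₀
  have ht : IsGen L U (res L hUW e) := he.mono hUW
  refine ⟨⟨U, hU⟩, res L hUW e, coef ht le_rfl (sv s U), hPU, sv_eq_coef_smul s ht, ?_⟩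
  have h1 := genLocus_inf_eq_coef s ht
  have hPb : P ∉ X.basicOpen (coef ht le_rfl (sv s U)) := by
    rw [← h1]
    exact fun h => hPs h.1
  rw [Scheme.IdealSheafData.vanishingIdeal_ideal, PrimeSpectrum.mem_vanishingIdeal]
  intro p hp
  have hp' : hU.fromSpec p = P := hp
  have h2 : p = hU.primeIdealOf ⟨P, hPU⟩ := by
    apply hU.fromSpec.isOpenEmbedding.injective
    rw [hp', IsAffineOpen.fromSpec_primeIdealOf]
  rw [h2]
  by_contra hcon
  exact hPb ((Groth.Agent.Lib.Helper2.mem_basicOpen_iff_notMem_primeIdealOf hU P hPU _).mpr hcon)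

variable (k : Type u) [Field k] [IsAlgClosed k] (X : Scheme.{u}) [X.Over (Spec (CommRingCat.of k))]
    [IsIntegral X] [IsProper (X ↘ (Spec (CommRingCat.of k)))]

/-- twisting down by a regular closed point where the unique section vanishes -/
theorem step_down (hdim : topologicalKrullDim X = 1) (L : X.Modules) (hL : PicF.IsInvertible L)
    (h0 : Module.finrank k (Coh.HH X L 0) = 1)
    (s : Coh.structureModule X ⟶ L) (hs : s ≠ 0) (P : X) (hP : IsClosed ({P} : Set X))
    [IsDiscreteValuationRing (X.presheaf.stalk P)] (hPs : P ∉ CohB1.genLocus L s) :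
    ∃ L' : X.Modules, PicF.IsInvertible L' ∧ Module.finrank k (Coh.HH X L' 0) = 1 ∧
      Curv2.deg k X L' 1 = Curv2.deg k X L 1 - 1 := by
  haveI := isNoetherian_of_proper k X
  set D := Scheme.IdealSheafData.vanishingIdeal ⟨{P}, hP⟩ with hDdef
  have hD : BlowUp.IsEffCartierIdeal D := isEffCartier_vanishingIdeal_singleton X P hP
  have cL := isCoh_of_isInvertible L hL
  have hI : PicF.IsInvertible (ClSub.idealMod D) :=
    Groth.Agent.Helper18Cart.isInvertible_of_isEffCartier D hD
  have hL' : PicF.IsInvertible (CohB1.tensorMod L (ClSub.idealMod D)) :=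
    Groth.Agent.Lib.Helper23.SecTw.isInvertible_tensorMod hL hI
  have cL' := isCoh_of_isInvertible _ hL'
  have hL1 : FlatMod.IsFinLocFreeOfRank 1 L :=
    Groth.Agent.Lib.Helper23.SecTw.isFinLocFreeOfRank_one_of_isInvertible L hL
  have hLf : FlatMod.IsFinLocFree L := fun y => by
    obtain ⟨V, hy, e⟩ := hL1 y
    exact ⟨V, 1, hy, e⟩
  have hfl := Groth.Agent.Lib.R2H2.PullLF.isFlat_of_isFinLocFree L hLf
  have hS : ((idealSeq D).map (DCoh.tensorBi.obj L)).ShortExact :=
    Groth.Agent.Lib.R2Lead.TensorExact.shortExact_map_tensorBi L (fun y => hfl y)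
      (idealSeq D) (idealSeq_shortExact D)
  have hQ : Coh.IsCoh (ClSub.quotMod D) :=
    Groth.Agent.S0019.result D.subschemeι _
      (Groth.Agent.Lib.R2H1.GenusLe.isCoh_structureModule _)
  have hsuppQ := dim_support_quotMod_le_zero D hdim.le hD
  have main := euler_tensor_ideal k X D 1 L hL1 hQ hsuppQ cL'
  have e1 := euler_eq_h0 k X (ClSub.quotMod D) hQ hsuppQ
  have hQ1 : Module.finrank k (Coh.HH X (ClSub.quotMod D) 0) = 1 :=
    finrank_H0_quotMod_point k X P hP
  -- the lift
  have hvan : ∀ x ∈ D.support, ∃ (U : X.affineOpens) (t : Γ(L, U.1)) (a : Γ(X, U.1)),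
      x ∈ U.1 ∧ sv s U.1 = a • t ∧ a ∈ D.ideal U := by
    intro x hx
    have hxP : x = P := by
      have : x ∈ ((Scheme.IdealSheafData.vanishingIdeal ⟨{P}, hP⟩).support : Set X) := hx
      rw [Scheme.IdealSheafData.coe_support_vanishingIdeal] at this
      exact this
    subst hxP
    exact exists_vanishing_data L hL s x hP hPs
  obtain ⟨σ', hσ'⟩ := exists_lift D L hS s hvan
  have hσ'ne : σ' ≠ 0 := by
    rintro rfl
    rw [zero_comp] at hσ'
    apply hs
    have h2 : s ≫ (SecTwist.unitorR L).inv = 0 := hσ'.symm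
    have h3 := congrArg (fun φ => φ ≫ (SecTwist.unitorR L).hom) h2
    simp only [Category.assoc, Iso.inv_hom_id, Category.comp_id, zero_comp] at h3
    exact h3
  have c₂ : Coh.IsCoh ((idealSeq D).map (DCoh.tensorBi.obj L)).X₂ :=
    Groth.Agent.Lib.R2H2.PdSheaf.isCoh_of_iso (Groth.Agent.Lib.Helper21.Dual.rU X.sheaf L).symm cL
  have c₁ : Coh.IsCoh ((idealSeq D).map (DCoh.tensorBi.obj L)).X₁ := cL'
  haveI := finite_HH k X _ c₂ 0
  haveI := finite_HH k X _ c₁ 0
  have hinj : Function.Injective (HmapA k ((idealSeq D).map (DCoh.tensorBi.obj L)).f 0) :=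
    injective_f_zero k _ hS
  have hX₂ : Module.finrank k (Coh.HH X ((idealSeq D).map (DCoh.tensorBi.obj L)).X₂ 0) = 1 := by
    have e : ((idealSeq D).map (DCoh.tensorBi.obj L)).X₂ ≅ L :=
      Groth.Agent.Lib.Helper21.Dual.rU X.sheaf L
    rw [Groth.Agent.Lib.R2H2.ClosedPnLin.finrank_HH_of_iso k e 0]
    exact h0
  have hle : Module.finrank k (Coh.HH X ((idealSeq D).map (DCoh.tensorBi.obj L)).X₁ 0) ≤ 1 := by
    rw [← hX₂]
    exact LinearMap.finrank_le_finrank_of_injective hinj
  have hge : 0 < Module.finrank k (Coh.HH X ((idealSeq D).map (DCoh.tensorBi.obj L)).X₁ 0) := by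
    rw [Module.finrank_pos_iff_exists_ne_zero]
    exact ⟨cls σ', fun h => hσ'ne (eq_zero_of_cls σ' h)⟩
  refine ⟨CohB1.tensorMod L (ClSub.idealMod D), hL', ?_, ?_⟩
  · have hle' : Module.finrank k (Coh.HH X (CohB1.tensorMod L (ClSub.idealMod D)) 0) ≤ 1 := hle
    have hge' : 0 < Module.finrank k (Coh.HH X (CohB1.tensorMod L (ClSub.idealMod D)) 0) := hge
    omega
  · unfold Curv2.deg
    rw [e1, hQ1] at main
    rw [main]
    push_cast
    ring

end Part2

section Part3

open Groth.Agent.Lib.Helper23.SecTw Groth.Agent.Lib.Helper23.GenLocus Groth.Agent.Lib.Helper6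
open Groth.Agent.Lib.R2H1.DegCartier Groth.Agent.Lib.R2H1.CurveAmple

open Groth.Agent.Lib.R2H1.RegPoint Groth.Agent.Lib.R2H1.CurveEuler Groth.Agent.Lib.R2H1.CurveDegSec
  Groth.Agent.Lib.R2H1.EulerAdd Groth.Agent.Lib.R2H2.HHLin Groth.Agent.Lib.R2H2.PnLinRes
  Groth.Agent.Lib.R2H1.GenusZero Groth.Agent.Lib.R2H1.NonSpecial

/-- a section generating everywhere is an isomorphism -/
theorem isIso_of_genLocus_eq_top {X : Scheme.{u}} [IsIntegral X] (L : X.Modules)
    (hL : PicF.IsInvertible L) (s : Coh.structureModule X ⟶ L) (hs : s ≠ 0)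
    (h : CohB1.genLocus L s = ⊤) : IsIso s := by
  have hO := Groth.Agent.Lib.Helper23.TensorUnit.isInvertible_structureModule X
  haveI : Mono s := Groth.Agent.Lib.R2H1.InvHom.mono_of_ne_zero hO hL s hs
  haveI : Epi s := by
    apply Groth.Agent.Lib.Helper23.Serre.epi_of_locally_surjective
    intro V t x hxV
    refine ⟨V, le_rfl, hxV, ?_⟩
    have hb : Function.Bijective (s.app V) :=
      bijective_app_of_cover s V (fun y _ => (mem_genLocus_iff L s y).1 (h ▸ trivial))
    obtain ⟨r, hr⟩ := hb.2 t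
    refine ⟨r, ?_⟩
    rw [hr]
    exact (Groth.Agent.Lib.Helper23.SecTw.res_self L t).symm
  exact isIso_of_mono_of_epi s

variable (k : Type u) [Field k] [IsAlgClosed k] (X : Scheme.{u}) [X.Over (Spec (CommRingCat.of k))]
    [IsIntegral X] [IsProper (X ↘ (Spec (CommRingCat.of k)))]

theorem exists_closed_notMem_genLocus (L : X.Modules)
    (hL : PicF.IsInvertible L) (s : Coh.structureModule X ⟶ L) (hs : s ≠ 0)
    (hdeg : Curv2.deg k X L 1 ≠ 0) :
    ∃ P : X, IsClosed ({P} : Set X) ∧ P ∉ CohB1.genLocus L s := by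
  haveI : CompactSpace X :=
    QuasiCompact.compactSpace_of_compactSpace (X ↘ Spec (CommRingCat.of k))
  have hne : ((CohB1.genLocus L s : X.Opens) : Set X)ᶜ.Nonempty := by
    rw [Set.nonempty_compl]
    intro htop
    have h : CohB1.genLocus L s = ⊤ := by
      ext x
      simp only [Opens.coe_top, Set.mem_univ, iff_true]
      exact htop ▸ trivial
    haveI := isIso_of_genLocus_eq_top L hL s hs h
    apply hdeg
    unfold Curv2.deg
    rw [← euler_congr k (asIso s)]
    ring
  obtain ⟨P, hP, hPc⟩ := (CohB1.genLocus L s).isOpen.isClosed_compl.exists_closed_singleton hne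
  exact ⟨P, hPc, hP⟩

theorem euler_structure (hdim : topologicalKrullDim X = 1) :
    Curv2.euler k X (Coh.structureModule X) = 1 - (Curv2.genus k X : ℤ) := by
  haveI := isNoetherian_of_proper k X
  have hO := Groth.Agent.Lib.Helper23.TensorUnit.isInvertible_structureModule X
  have cO := isCoh_of_isInvertible _ hO
  rw [euler_eq_h0_sub_h1 k X hdim.le _ cO.1, finrank_H0_structure_eq_one k X]
  rfl

theorem main [Smooth (X ↘ Spec (CommRingCat.of k))]
    (hdim : topologicalKrullDim ↥X = 1) (g : ℕ) (hg : Curv2.genus k X = g)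
    (r : ℕ) (hr : r ≤ g) :
    ∃ L : X.Modules, PicF.IsInvertible L ∧ Curv2.deg k X L 1 = (r : ℤ) ∧
      Module.finrank k (Coh.HH X L 0) = 1 := by
  haveI := isNoetherian_of_proper k X
  have χO := euler_structure k X hdim
  rw [hg] at χO
  have key : ∀ j : ℕ, j ≤ g → ∃ L : X.Modules, PicF.IsInvertible L ∧
      Module.finrank k (Coh.HH X L 0) = 1 ∧ Curv2.deg k X L 1 = (g : ℤ) - j := by
    intro j
    induction j with
    | zero =>
      intro _
      obtain ⟨⟨L, hL, hL0, hL1⟩, -⟩ := s1523 k X hdim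
      refine ⟨L, hL, hL0, ?_⟩
      have cL := isCoh_of_isInvertible L hL
      have e2 := euler_eq_h0_sub_h1 k X hdim.le L cL.1
      haveI := hL1
      have e4 : Module.finrank k (Coh.HH X L 1) = 0 := Module.finrank_zero_of_subsingleton
      unfold Curv2.deg
      rw [e2, hL0, e4, χO]
      push_cast
      ring
    | succ j ih =>
      intro hj
      obtain ⟨L, hL, hL0, hdeg⟩ := ih (by omega)
      have cL := isCoh_of_isInvertible L hL
      obtain ⟨s, hs⟩ := exists_section_of_pos k X L cL (by rw [hL0]; omega)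
      have hdeg0 : Curv2.deg k X L 1 ≠ 0 := by rw [hdeg]; omega
      obtain ⟨P, hPc, hPs⟩ := exists_closed_notMem_genLocus k X L hL s hs hdeg0
      haveI : LocallyOfFinitePresentation (X ↘ Spec (CommRingCat.of k)) := inferInstance
      haveI : IsRegularLocalRing (X.presheaf.stalk P) :=
        isRegularLocalRing_stalk_of_mem_smoothLocus k X (X ↘ Spec (CommRingCat.of k)) P
          (by rw [Scheme.Hom.smoothLocus_eq_top]; trivial)
      haveI : IsDiscreteValuationRing (X.presheaf.stalk P) :=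
        Groth.Agent.Lib.R2LeadSmoothPSB.isDVR_of_regular_dim_one _
          (Groth.Agent.Lib.Helper8CurveEt.ringKrullDim_stalk_eq_one hdim P hPc)
      obtain ⟨L', hL', hL'0, hdeg'⟩ := step_down k X hdim L hL hL0 s hs P hPc hPs
      refine ⟨L', hL', hL'0, ?_⟩
      rw [hdeg', hdeg]
      push_cast
      ring
  obtain ⟨L, hL, hL0, hdeg⟩ := key (g - r) (by omega)
  refine ⟨L, hL, ?_, hL0⟩
  rw [hdeg]
  push_cast [Nat.cast_sub hr]
  ring

end Part3

end Groth.Agent.Lib.R2H1.LiftZero
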