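import Mathlib
import Groth.Agent.Lib.H9ModFibSch
import Groth.Agent.Lib.Helper2PullbackSec3
import Groth.Agent.Lib.Helper3FibreFree
import Groth.Agent.Lib.Helper3FibreFlat
import Groth.Agent.Lib.Helper2FlatOpen
import Groth.Agent.Lib.Helper26FlatLimC
import Groth.Agent.Lib.Helper18Strict6
import Groth.Agent.Lib.Helper2LocFree
import Groth.Agent.Lib.Helper23FinPres

/-! S9769/S12050: freeness of stalks of f.p. modules flat over the base is detected on fibres (free_stalk_iff_fiber), is invariant under base change of the fibre (free_fiber_stalk_baseChange), main9769 (free locus commutes with base change), isOpen_free_stalk, isFinLocFree_iff_forall_free, main12050 (proper: fibrewise finite locally free is open on the base). -/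

set_option autoImplicit false
set_option linter.style.haveILetI false
set_option linter.unusedSimpArgs false
set_option linter.unusedVariables false
universe u

namespace Groth.Agent.Lib.H9FreeFib

-- ===== part FrA =====
section

open AlgebraicGeometry CategoryTheory Limits IsLocalRing TensorProduct

/-- ring lemma: `B → L` surjective with kernel `J`; `L ⊗ M` flat over `L` implies `M/JM` flat over
`B/J`. -/
theorem flat_quot_of_flat_tensor {B L M : Type u} [CommRing B] [CommRing L] [Algebra B L]
    [AddCommGroup M] [Module B M] (hs : Function.Surjective (algebraMap B L))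
    (J : Ideal B) (hJ : RingHom.ker (algebraMap B L) = J)
    (hfl : Module.Flat L (L ⊗[B] M)) :
    Module.Flat (B ⧸ J) (M ⧸ J • (⊤ : Submodule B M)) := by
  subst hJ
  set J := RingHom.ker (algebraMap B L) with hJdef
  let e : (B ⧸ J) ≃+* L := RingHom.quotientKerEquivOfSurjective hs
  letI algQL : Algebra (B ⧸ J) L := e.toRingHom.toAlgebra
  haveI tow : IsScalarTower B (B ⧸ J) L := IsScalarTower.of_algebraMap_eq (fun b => by
    change algebraMap B L b = e (Ideal.Quotient.mk J b)
    rfl)
  haveI ff : Module.FaithfullyFlat (B ⧸ J) L := by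
    let el : (B ⧸ J) ≃ₗ[B ⧸ J] L :=
      { e.toAddEquiv with
        map_smul' := fun r x => by
          change e (r * x) = e r * e x
          exact map_mul e r x }
    exact Module.FaithfullyFlat.of_linearEquiv (B ⧸ J) (B ⧸ J) el.symm
  -- `(B/J) ⊗ M` is flat over `B/J`
  have h1 : Module.Flat L (L ⊗[B ⧸ J] ((B ⧸ J) ⊗[B] M)) :=
    Module.Flat.of_linearEquiv
      (AlgebraTensorModule.cancelBaseChange B (B ⧸ J) L L M)
  have h2 : Module.Flat (B ⧸ J) ((B ⧸ J) ⊗[B] M) :=
    Module.Flat.of_flat_tensorProduct (R := B ⧸ J) (M := (B ⧸ J) ⊗[B] M) L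
  have hb : IsBaseChange (B ⧸ J) (J • (⊤ : Submodule B M)).mkQ :=
    Groth.Agent.Lib.Helper3.FibreFree.isBaseChange_mkQ J
  exact Module.Flat.of_linearEquiv hb.equiv.symm

section Sch

variable {X S : Scheme.{u}} (f : X ⟶ S)

/-- the stalk of a finitely presented quasi-coherent module is finitely presented. -/
theorem finitePresentation_stalk (F : X.Modules) [F.IsQuasicoherent]
    [SheafOfModules.IsFinitePresentation (R := X.ringCatSheaf) F] (x : X) :
    Module.FinitePresentation (X.presheaf.stalk x) (F.presheaf.stalk x) := by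
  obtain ⟨U, hU, hxU, -, hfp⟩ :=
    Groth.Agent.Lib.Helper2.FinPres.exists_affine_nhds_finitePresentation F x ⊤ trivial
  letI := Groth.Agent.Lib.Helper2.FlatOver.moduleStalkSections F U x hxU
  letI : Algebra Γ(X, U) (X.presheaf.stalk x) := X.presheaf.algebra_section_stalk ⟨x, hxU⟩
  haveI : IsScalarTower Γ(X, U) (X.presheaf.stalk x) (F.presheaf.stalk x) :=
    ⟨fun r s y => by
      change (X.presheaf.germ U x hxU r * s) • y = X.presheaf.germ U x hxU r • (s • y)
      rw [mul_smul]⟩
  haveI := hU.isLocalization_stalk ⟨x, hxU⟩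
  haveI := Groth.Agent.Lib.Helper2.FlatOver.isLocalizedModule_germ hU F x hxU
  haveI := hfp
  exact FinitePresentation.of_isBaseChange
    (Groth.Agent.Lib.Helper2.FlatOver.germₗ F U x hxU)
    (IsLocalizedModule.isBaseChange (hU.primeIdealOf ⟨x, hxU⟩).asIdeal.primeCompl
      (X.presheaf.stalk x) (Groth.Agent.Lib.Helper2.FlatOver.germₗ F U x hxU))

/-- **Freeness on the fibre**: for a finitely presented quasi-coherent module flat over the base at
a point of a fibre, the stalk is free iff the stalk of the restriction to the fibre is free. -/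
theorem free_stalk_iff_fiber (F : X.Modules) [F.IsQuasicoherent]
    [SheafOfModules.IsFinitePresentation (R := X.ringCatSheaf) F] (s : S) (z : f.fiber s)
    (hfl : FlatMod.IsFlatOverAt f F (f.fiberι s z)) :
    Module.Free (X.presheaf.stalk (f.fiberι s z)) (F.presheaf.stalk (f.fiberι s z)) ↔
      Module.Free ((f.fiber s).presheaf.stalk z)
        (((Scheme.Modules.pullback (f.fiberι s)).obj F).presheaf.stalk z) := by
  letI algBL : Algebra (X.presheaf.stalk (f.fiberι s z)) ((f.fiber s).presheaf.stalk z) :=
    ((f.fiberι s).stalkMap z).hom.toAlgebra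
  obtain ⟨e⟩ := Groth.Agent.Lib.Helper2.PullbackSec.nonempty_stalk_linearEquiv (f.fiberι s) F z
  constructor
  · intro hfree
    haveI := hfree
    exact Module.Free.of_equiv e
  · intro hfree
    haveI := hfree
    haveI h1 : Module.Free ((f.fiber s).presheaf.stalk z)
        (((f.fiber s).presheaf.stalk z) ⊗[X.presheaf.stalk (f.fiberι s z)]
          (F.presheaf.stalk (f.fiberι s z))) := Module.Free.of_equiv e.symm
    have h2 : Module.Flat ((f.fiber s).presheaf.stalk z)
        (((f.fiber s).presheaf.stalk z) ⊗[X.presheaf.stalk (f.fiberι s z)]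
          (F.presheaf.stalk (f.fiberι s z))) := inferInstance
    have hsurj : Function.Surjective (algebraMap (X.presheaf.stalk (f.fiberι s z))
        ((f.fiber s).presheaf.stalk z)) := (f.fiberι s).stalkMap_surjective z
    have hker := Groth.Agent.Lib.H9ModFibSch.ker_stalkMap_fiberι f s z
    letI algAB : Algebra (S.presheaf.stalk (f (f.fiberι s z))) (X.presheaf.stalk (f.fiberι s z)) :=
      (f.stalkMap (f.fiberι s z)).hom.toAlgebra
    letI modA := FlatMod.moduleStalkOver f F (f.fiberι s z)
    haveI : IsScalarTower (S.presheaf.stalk (f (f.fiberι s z))) (X.presheaf.stalk (f.fiberι s z))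
        (F.presheaf.stalk (f.fiberι s z)) :=
      ⟨fun r t y => by
        change ((f.stalkMap (f.fiberι s z)).hom r * t) • y =
          (f.stalkMap (f.fiberι s z)).hom r • (t • y)
        rw [mul_smul]⟩
    haveI : Module.Flat (S.presheaf.stalk (f (f.fiberι s z))) (F.presheaf.stalk (f.fiberι s z)) :=
      hfl
    haveI := finitePresentation_stalk F (f.fiberι s z)
    have hq := flat_quot_of_flat_tensor hsurj
      ((maximalIdeal (S.presheaf.stalk (f (f.fiberι s z)))).map
        (algebraMap (S.presheaf.stalk (f (f.fiberι s z))) (X.presheaf.stalk (f.fiberι s z))))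
      hker h2
    have hI : (maximalIdeal (S.presheaf.stalk (f (f.fiberι s z)))).map
        (algebraMap (S.presheaf.stalk (f (f.fiberι s z))) (X.presheaf.stalk (f.fiberι s z))) ≤
        maximalIdeal (X.presheaf.stalk (f.fiberι s z)) := by
      rw [Ideal.map_le_iff_le_comap]
      intro a ha
      rw [Ideal.mem_comap]
      exact (IsLocalRing.mem_maximalIdeal _).mpr fun hu =>
        (IsLocalRing.mem_maximalIdeal a).mp ha
          (isUnit_of_map_unit (f.stalkMap (f.fiberι s z)).hom a hu)
    exact Groth.Agent.Lib.Helper3.FibreFree.free_of_flat_of_flat_quotient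
      (maximalIdeal (S.presheaf.stalk (f (f.fiberι s z)))) hI hq

end Sch

end

-- ===== part FrB =====
section

open AlgebraicGeometry CategoryTheory Limits IsLocalRing TensorProduct
open Groth.Agent.Lib.Helper4.NormDelta Groth.Agent.Lib.Helper26.FlatLim

/-- an isomorphism of modules induces linear equivalences on stalks. -/
noncomputable def stalkEquivOfIso {X : Scheme.{u}} {M N : X.Modules} (e : M ≅ N) (x : X) :
    M.presheaf.stalk x ≃ₗ[X.presheaf.stalk x] N.presheaf.stalk x :=
  { toFun := stalkLin e.hom x
    invFun := stalkLin e.inv x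
    map_add' := map_add _
    map_smul' := (stalkLin e.hom x).map_smul
    left_inv := fun m => by
      show stalkHom e.inv x (stalkHom e.hom x m) = m
      rw [stalkHom_comp, e.hom_inv_id, stalkHom_id]
    right_inv := fun m => by
      show stalkHom e.hom x (stalkHom e.inv x m) = m
      rw [stalkHom_comp, e.inv_hom_id, stalkHom_id] }

/-- descent of freeness along a flat local homomorphism. -/
theorem free_of_free_tensor {O O' N : Type u} [CommRing O] [CommRing O'] [IsLocalRing O]
    [IsLocalRing O'] [Algebra O O'] [Module.Flat O O'] [IsLocalHom (algebraMap O O')]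
    [AddCommGroup N] [Module O N] [Module.Finite O N]
    (h : Module.Free O' (O' ⊗[O] N)) : Module.Free O N := by
  haveI := h
  haveI : Module.FaithfullyFlat O O' := Module.FaithfullyFlat.of_flat_of_isLocalHom
  haveI : Module.Flat O' (O' ⊗[O] N) := inferInstance
  haveI : Module.Flat O N := Module.Flat.of_flat_tensorProduct (R := O) (M := N) O'
  exact Module.free_of_flat_of_isLocalRing

section BC

variable {X S X' S' : Scheme.{u}} {f : X ⟶ S} {g : S' ⟶ S} {f' : X' ⟶ S'} {g' : X' ⟶ X}

/-- base change of freeness of the stalks of the fibre modules. -/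
theorem free_fiber_stalk_baseChange (hsq : IsPullback g' f' f g) (F : X.Modules)
    [F.IsQuasicoherent] [SheafOfModules.IsFinitePresentation (R := X.ringCatSheaf) F]
    (s' : S') (z' : f'.fiber s') :
    ∃ z : f.fiber (g s'), f.fiberι (g s') z = g' (f'.fiberι s' z') ∧
      (Module.Free ((f'.fiber s').presheaf.stalk z')
          (((Scheme.Modules.pullback (f'.fiberι s')).obj
            ((Scheme.Modules.pullback g').obj F)).presheaf.stalk z') ↔
        Module.Free ((f.fiber (g s')).presheaf.stalk z)
          (((Scheme.Modules.pullback (f.fiberι (g s'))).obj F).presheaf.stalk z)) := by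
  obtain ⟨h, hpb, hcomm⟩ : ∃ h : f'.fiber s' ⟶ f.fiber (g s'),
      IsPullback h (f'.fiberToSpecResidueField s')
        (f.fiberToSpecResidueField (g s')) (Spec.map (g.residueFieldMap s')) ∧
      h ≫ f.fiberι (g s') = f'.fiberι s' ≫ g' :=
    ⟨_, isPullback_fiberToSpecResidueField_of_isPullback hsq s', pullback.lift_fst _ _ _⟩
  haveI : Flat (Spec.map (g.residueFieldMap s')) := inferInstance
  haveI hflat : Flat h := MorphismProperty.of_isPullback (P := @Flat) hpb.flip inferInstance
  refine ⟨h z', ?_, ?_⟩
  · rw [← Scheme.Hom.comp_apply, hcomm, Scheme.Hom.comp_apply]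
  set G := (Scheme.Modules.pullback (f.fiberι (g s'))).obj F with hG
  haveI : G.IsQuasicoherent :=
    Groth.Agent.Lib.Helper2.PullbackSec.isQuasicoherent_pullback (f.fiberι (g s')) F
  -- the isomorphism of modules
  let E : (Scheme.Modules.pullback (f'.fiberι s')).obj ((Scheme.Modules.pullback g').obj F) ≅
      (Scheme.Modules.pullback h).obj G :=
    (Scheme.Modules.pullbackComp (f'.fiberι s') g').app F ≪≫
      (Scheme.Modules.pullbackCongr hcomm.symm).app F ≪≫
      ((Scheme.Modules.pullbackComp h (f.fiberι (g s'))).symm).app F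
  let e1 := stalkEquivOfIso E z'
  letI algOO' : Algebra ((f.fiber (g s')).presheaf.stalk (h z'))
      ((f'.fiber s').presheaf.stalk z') := (h.stalkMap z').hom.toAlgebra
  obtain ⟨e2⟩ := Groth.Agent.Lib.Helper2.PullbackSec.nonempty_stalk_linearEquiv h G z'
  haveI : Module.Flat ((f.fiber (g s')).presheaf.stalk (h z'))
      ((f'.fiber s').presheaf.stalk z') := (Flat.stalkMap h z')
  haveI : IsLocalHom (algebraMap ((f.fiber (g s')).presheaf.stalk (h z'))
      ((f'.fiber s').presheaf.stalk z')) :=
    inferInstanceAs (IsLocalHom (h.stalkMap z').hom)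
  constructor
  · intro hfree
    haveI := hfree
    haveI : Module.Free ((f'.fiber s').presheaf.stalk z')
        (((f'.fiber s').presheaf.stalk z') ⊗[(f.fiber (g s')).presheaf.stalk (h z')]
          (G.presheaf.stalk (h z'))) := Module.Free.of_equiv (e1 ≪≫ₗ e2.symm)
    haveI : Module.Finite ((f.fiber (g s')).presheaf.stalk (h z')) (G.presheaf.stalk (h z')) := by
      haveI : SheafOfModules.IsFinitePresentation (R := (f.fiber (g s')).ringCatSheaf) G :=
        Groth.Agent.Helper18Strict.isFP_pullback (f.fiberι (g s')) F inferInstance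
      haveI := finitePresentation_stalk G (h z')
      infer_instance
    exact free_of_free_tensor (O' := (f'.fiber s').presheaf.stalk z') inferInstance
  · intro hfree
    haveI := hfree
    exact Module.Free.of_equiv (e2 ≪≫ₗ e1.symm)

end BC

end

-- ===== part FrC =====
section

open AlgebraicGeometry CategoryTheory Limits IsLocalRing TensorProduct

theorem free_stalk_congr {X : Scheme.{u}} (F : X.Modules) {x y : X} (h : x = y) :
    Module.Free (X.presheaf.stalk x) (F.presheaf.stalk x) ↔
      Module.Free (X.presheaf.stalk y) (F.presheaf.stalk y) := by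
  subst h
  rfl

theorem main9769 {X S X' S' : Scheme.{u}} (f : X ⟶ S)
    (F : X.Modules) (hF : CohB1.IsFP F) (hfl : FlatMod.IsFlatOver f F)
    (g : S' ⟶ S) (f' : X' ⟶ S') (g' : X' ⟶ X) (hc : IsPullback g' f' f g) :
    {x' : ↑X' | Module.Free ↑(X'.presheaf.stalk x')
        ↑(((Scheme.Modules.pullback g').obj F).presheaf.stalk x')} =
      g' ⁻¹' {x : ↑X | Module.Free ↑(X.presheaf.stalk x) ↑(F.presheaf.stalk x)} := by
  haveI : SheafOfModules.IsFinitePresentation (R := X.ringCatSheaf) F := hF
  haveI : F.IsQuasicoherent := inferInstance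
  set F' := (Scheme.Modules.pullback g').obj F with hF'
  haveI hF'fp : SheafOfModules.IsFinitePresentation (R := X'.ringCatSheaf) F' :=
    Groth.Agent.Helper18Strict.isFP_pullback g' F hF
  haveI : F'.IsQuasicoherent := inferInstance
  ext x'
  simp only [Set.mem_setOf_eq, Set.mem_preimage]
  have e1 : f'.fiberι (f' x') (f'.asFiber x') = x' := f'.fiberι_asFiber x'
  have hfl' : FlatMod.IsFlatOverAt f' F' (f'.fiberι (f' x') (f'.asFiber x')) :=
    Groth.Agent.Lib.Helper2.PullbackSec.isFlatOverAt_pullback_of_isPullback hc F _ (hfl _)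
  obtain ⟨z, hz, hiff⟩ := free_fiber_stalk_baseChange hc F (f' x') (f'.asFiber x')
  rw [← free_stalk_congr F' e1, free_stalk_iff_fiber f' F' (f' x') (f'.asFiber x') hfl', hiff,
    ← free_stalk_iff_fiber f F (g (f' x')) z (hfl _), free_stalk_congr F (hz.trans (by rw [e1]))]

end

-- ===== part FrD =====
section

open AlgebraicGeometry CategoryTheory Limits IsLocalRing TensorProduct

section

variable {X : Scheme.{u}} (M : X.Modules) [M.IsQuasicoherent]
  [SheafOfModules.IsFinitePresentation (R := X.ringCatSheaf) M]

/-- for a finitely presented quasi-coherent module, freeness of the stalk is flatness at the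
point. -/
theorem free_stalk_iff_isFlatAt (x : X) :
    Module.Free (X.presheaf.stalk x) (M.presheaf.stalk x) ↔ FlatMod.IsFlatAt M x := by
  haveI := finitePresentation_stalk M x
  constructor
  · intro h
    haveI := h
    exact (inferInstance : Module.Flat (X.presheaf.stalk x) (M.presheaf.stalk x))
  · intro h
    haveI : Module.Flat (X.presheaf.stalk x) (M.presheaf.stalk x) := h
    exact Module.free_of_flat_of_isLocalRing

/-- the locus of free stalks of a finitely presented quasi-coherent module is open. -/
theorem isOpen_free_stalk :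
    IsOpen {x : X | Module.Free (X.presheaf.stalk x) (M.presheaf.stalk x)} := by
  rw [isOpen_iff_forall_mem_open]
  intro x hx
  obtain ⟨D, m, hxD, ⟨e⟩⟩ :=
    Groth.Agent.Lib.Helper2.LocFree.exists_restrict_iso_freeMod_of_isFlatAt M x
      ((free_stalk_iff_isFlatAt M x).mp hx)
  refine ⟨D, ?_, D.isOpen, hxD⟩
  intro y hy
  have := Groth.Agent.Lib.Helper2.LocFree.isFlatAt_of_restrict_iso_freeMod D.ι M e ⟨y, hy⟩
  exact (free_stalk_iff_isFlatAt M y).mpr this

/-- finite local freeness is freeness of all stalks. -/
theorem isFinLocFree_iff_forall_free :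
    FlatMod.IsFinLocFree M ↔ ∀ x : X, Module.Free (X.presheaf.stalk x) (M.presheaf.stalk x) := by
  constructor
  · intro h x
    exact (free_stalk_iff_isFlatAt M x).mpr
      (Groth.Agent.Lib.Helper2.LocFree.isFlat_of_isFinLocFree M h x)
  · intro h x
    obtain ⟨D, m, hxD, he⟩ :=
      Groth.Agent.Lib.Helper2.LocFree.exists_restrict_iso_freeMod_of_isFlatAt M x
        ((free_stalk_iff_isFlatAt M x).mp (h x))
    exact ⟨D, m, hxD, he⟩

end

theorem main12050 (X S : Scheme.{u}) [IsNoetherian X] [IsNoetherian S]
    (f : X ⟶ S) [IsProper f] (F : X.Modules) (hF : Coh.IsCoh F) (hfl : FlatMod.IsFlatOver f F) :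
    IsOpen {s : S | FlatMod.IsFinLocFree ((Scheme.Modules.pullback (f.fiberι s)).obj F)} := by
  haveI : F.IsQuasicoherent := hF.1
  haveI : SheafOfModules.IsFiniteType (R := X.ringCatSheaf) F := hF.2
  haveI hfp : SheafOfModules.IsFinitePresentation (R := X.ringCatSheaf) F :=
    Groth.Agent.Lib.Helper23.FinType.isFinitePresentation_of_isFiniteType F
  have hfpG : ∀ s : S, SheafOfModules.IsFinitePresentation (R := (f.fiber s).ringCatSheaf)
      ((Scheme.Modules.pullback (f.fiberι s)).obj F) := fun s =>
    Groth.Agent.Helper18Strict.isFP_pullback (f.fiberι s) F hfp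
  have heq : {s : S | FlatMod.IsFinLocFree ((Scheme.Modules.pullback (f.fiberι s)).obj F)} =
      {s : S | ∀ z : f.fiber s, Module.Free ((f.fiber s).presheaf.stalk z)
        (((Scheme.Modules.pullback (f.fiberι s)).obj F).presheaf.stalk z)} := by
    ext s
    haveI := hfpG s
    haveI : ((Scheme.Modules.pullback (f.fiberι s)).obj F).IsQuasicoherent := inferInstance
    exact isFinLocFree_iff_forall_free _
  rw [heq]
  refine Groth.Agent.Lib.H9ModFibSch.isOpen_forall_fiber f
    (fun s z => Module.Free ((f.fiber s).presheaf.stalk z)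
        (((Scheme.Modules.pullback (f.fiberι s)).obj F).presheaf.stalk z)) ?_
  have h2 : {x : X | Module.Free ((f.fiber (f x)).presheaf.stalk (f.asFiber x))
        (((Scheme.Modules.pullback (f.fiberι (f x))).obj F).presheaf.stalk (f.asFiber x))} =
      {x : X | Module.Free (X.presheaf.stalk x) (F.presheaf.stalk x)} := by
    ext x
    simp only [Set.mem_setOf_eq]
    have e1 : f.fiberι (f x) (f.asFiber x) = x := f.fiberι_asFiber x
    rw [← free_stalk_iff_fiber f F (f x) (f.asFiber x) (hfl _), free_stalk_congr F e1]
  rw [h2]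
  exact isOpen_free_stalk F

end

end Groth.Agent.Lib.H9FreeFib
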