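import Mathlib
import Groth.Agent.Lib.R2H1LiftZero
set_option backward.isDefEq.respectTransparency.types false

/-!
Weierstrass gaps at a point of a smooth proper curve: counting lemma gaps_card, section of O(p), main (=S11836).
-/

set_option autoImplicit false
set_option linter.style.haveILetI false
set_option linter.unusedSectionVars false
universe u v

open CategoryTheory CategoryTheory.Limits AlgebraicGeometry TopologicalSpace Opposite

namespace Groth.Agent.Lib.R2H1.WeierGaps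

section Part1

/-- counting the jumps of `h^1` -/
theorem gaps_card (a b : ℕ → ℕ) (g N : ℕ)
    (hχ : ∀ n : ℕ, (a n : ℤ) - b n = n + 1 - g) (hmono : ∀ n, a n ≤ a (n + 1))
    (hb : ∀ n, b (n + 1) ≤ b n) (hb0 : b 0 = g) (hbN : ∀ n, N ≤ n → b n = 0) :
    {n : ℕ | 1 ≤ n ∧ a n = a (n - 1)}.Finite ∧
      {n : ℕ | 1 ≤ n ∧ a n = a (n - 1)}.ncard = g := by
  classical
  have hiff : ∀ m, a (m + 1) = a m ↔ b m = b (m + 1) + 1 := by
    intro m
    have h1 := hχ m
    have h2 := hχ (m + 1)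
    push_cast at h2
    constructor <;> intro h <;> omega
  have hset : {n : ℕ | 1 ≤ n ∧ a n = a (n - 1)} =
      ↑(((Finset.range N).filter (fun m => b m = b (m + 1) + 1)).image (· + 1)) := by
    ext n
    simp only [Set.mem_setOf_eq, Finset.coe_image, Finset.coe_filter, Finset.mem_range,
      Set.mem_image]
    constructor
    · rintro ⟨hn, han⟩
      obtain ⟨m, rfl⟩ : ∃ m, n = m + 1 := ⟨n - 1, by omega⟩
      have hbm : b m = b (m + 1) + 1 := (hiff m).1 (by simpa using han)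
      refine ⟨m, ⟨?_, hbm⟩, rfl⟩
      by_contra hmN
      have := hbN m (by omega)
      omega
    · rintro ⟨m, ⟨-, hbm⟩, rfl⟩
      exact ⟨by omega, by simpa using (hiff m).2 hbm⟩
  rw [hset]
  refine ⟨Finset.finite_toSet _, ?_⟩
  rw [Set.ncard_coe_finset, Finset.card_image_of_injective _ (add_left_injective 1),
    Finset.card_filter]
  have key : ∀ m, (if b m = b (m + 1) + 1 then (1 : ℤ) else 0) = (b m : ℤ) - b (m + 1) := by
    intro m
    have h1 := hχ m
    have h2 := hχ (m + 1)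
    have h3 := hmono m
    have h4 := hb m
    push_cast at h2
    split_ifs with h <;> omega
  have hsum : ((∑ m ∈ Finset.range N, if b m = b (m + 1) + 1 then 1 else 0 : ℕ) : ℤ) = g := by
    push_cast
    rw [Finset.sum_congr rfl (fun m _ => key m), Finset.sum_range_sub', hb0, hbN N le_rfl]
    simp
  exact_mod_cast hsum

end Part1

section Part2

open Groth.Agent.Lib.R2H1.DegCartier Groth.Agent.Lib.R2H1.SkyDecomp Groth.Agent.Lib.R2H2.DevA
open Groth.Agent.Lib.Helper21.ModTensor Groth.Agent.Lib.Helper21.ModTensor2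
open Groth.Agent.Lib.Helper21.ModTensor5 Groth.Agent.Lib.Helper21.ModTensor6
open Groth.Agent.Lib.Helper21.ModTensor7 Groth.Agent.Lib.Helper21.ModTensor3
open Groth.Agent.Lib.R2H1.RegPoint Groth.Agent.Lib.R2H1.CurveEuler Groth.Agent.Lib.R2H1.CurveDegSec
  Groth.Agent.Lib.R2H1.EulerAdd Groth.Agent.Lib.R2H2.HHLin Groth.Agent.Lib.R2H2.PnLinRes
  Groth.Agent.Lib.R2H1.GenusZero Groth.Agent.Lib.R2H1.DegNonpos Groth.Agent.Lib.R2H1.InvExists
  Groth.Agent.Lib.R2H1.CurveAmple Groth.Agent.Lib.R2H1.FinrankChain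
  Groth.Agent.Lib.R2H1.NonSpecial Groth.Agent.Lib.R2H1.LiftZero
open Groth.Agent.Lib.Helper23.GenLocus

variable (k : Type u) [Field k] [IsAlgClosed k] (X : Scheme.{u}) [X.Over (Spec (CommRingCat.of k))]
    [IsIntegral X] [IsProper (X ↘ (Spec (CommRingCat.of k)))]

theorem id_structureModule_ne_zero : (𝟙 (Coh.structureModule X)) ≠ 0 := by
  intro h
  haveI : Nonempty ↥((⊤ : X.Opens) : Scheme.{u}) := by
    obtain ⟨x⟩ := (inferInstance : Nonempty X)
    exact ⟨⟨x, trivial⟩⟩
  haveI : IsDomain Γ(X, ⊤) := IsIntegral.component_integral ⊤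
  have h1 := congrArg (fun φ : Coh.structureModule X ⟶ Coh.structureModule X =>
    ofS ⊤ (φ.app ⊤ (toS ⊤ 1))) h
  have h2 : (1 : Γ(X, ⊤)) = 0 := h1
  exact one_ne_zero h2

/-- the section `1` of `O(p)` and its degree -/
theorem exists_section_deg_one (hdim : topologicalKrullDim X = 1)
    (p : X) (hp : IsClosed ({p} : Set X)) [IsDiscreteValuationRing (X.presheaf.stalk p)]
    (L : X.Modules) (hL : PicF.IsInvertible L)
    (hLp : ClSub.IsInverseOf L (ClSub.idealMod
      (Scheme.IdealSheafData.vanishingIdeal (⟨{p}, hp⟩ : TopologicalSpace.Closeds X)))) :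
    (∃ s : Coh.structureModule X ⟶ L, s ≠ 0) ∧ Curv2.deg k X L 1 = 1 := by
  haveI := isNoetherian_of_proper k X
  set D := Scheme.IdealSheafData.vanishingIdeal ⟨{p}, hp⟩ with hDdef
  obtain ⟨e⟩ := hLp
  have hD : BlowUp.IsEffCartierIdeal D := isEffCartier_vanishingIdeal_singleton X p hp
  have cL := isCoh_of_isInvertible L hL
  have hI : PicF.IsInvertible (ClSub.idealMod D) :=
    Groth.Agent.Helper18Cart.isInvertible_of_isEffCartier D hD
  have hL' : PicF.IsInvertible (CohB1.tensorMod L (ClSub.idealMod D)) :=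
    Groth.Agent.Lib.Helper23.SecTw.isInvertible_tensorMod hL hI
  have cL' := isCoh_of_isInvertible _ hL'
  have hL1 : FlatMod.IsFinLocFreeOfRank 1 L :=
    Groth.Agent.Lib.Helper23.SecTw.isFinLocFreeOfRank_one_of_isInvertible L hL
  have hLf : FlatMod.IsFinLocFree L := fun y => by
    obtain ⟨V, hy, e⟩ := hL1 y
    exact ⟨V, 1, hy, e⟩
  have hfl := Groth.Agent.Lib.R2H2.PullLF.isFlat_of_isFinLocFree L hLf
  have hS : ((idealSeq D).map (DCoh.tensorBi.obj L)).ShortExact :=
    Groth.Agent.Lib.R2Lead.TensorExact.shortExact_map_tensorBi L (fun y => hfl y)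
      (idealSeq D) (idealSeq_shortExact D)
  have hQ : Coh.IsCoh (ClSub.quotMod D) :=
    Groth.Agent.S0019.result D.subschemeι _
      (Groth.Agent.Lib.R2H1.GenusLe.isCoh_structureModule _)
  have hsuppQ := dim_support_quotMod_le_zero D hdim.le hD
  have main := euler_tensor_ideal k X D 1 L hL1 hQ hsuppQ cL'
  have e1 := euler_eq_h0 k X (ClSub.quotMod D) hQ hsuppQ
  have hQ1 : Module.finrank k (Coh.HH X (ClSub.quotMod D) 0) = 1 :=
    finrank_H0_quotMod_point k X p hp
  refine ⟨?_, ?_⟩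
  · haveI := hS.mono_f
    obtain ⟨f₁, hf₁⟩ : ∃ f₁ : CohB1.tensorMod L (ClSub.idealMod D) ⟶
        ((idealSeq D).map (DCoh.tensorBi.obj L)).X₂,
        f₁ = ((idealSeq D).map (DCoh.tensorBi.obj L)).f := ⟨_, rfl⟩
    haveI : Mono f₁ := hf₁ ▸ hS.mono_f
    refine ⟨e.inv ≫ f₁ ≫ (Groth.Agent.Lib.Helper21.Dual.rU X.sheaf L).hom, ?_⟩
    intro h0
    apply id_structureModule_ne_zero X
    have h1 : 𝟙 (Coh.structureModule X) ≫
        (e.inv ≫ f₁ ≫ (Groth.Agent.Lib.Helper21.Dual.rU X.sheaf L).hom) =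
        0 ≫ (e.inv ≫ f₁ ≫ (Groth.Agent.Lib.Helper21.Dual.rU X.sheaf L).hom) := by
      rw [Category.id_comp, zero_comp, h0]
    exact (cancel_mono _).1 h1
  · unfold Curv2.deg
    rw [main, e1, hQ1, euler_congr k e]
    push_cast
    ring

end Part2

section Part3

open Groth.Agent.Lib.R2H1.DegCartier Groth.Agent.Lib.R2H1.SkyDecomp Groth.Agent.Lib.R2H2.DevA
open Groth.Agent.Lib.Helper21.ModTensor Groth.Agent.Lib.Helper21.ModTensor2
open Groth.Agent.Lib.Helper21.ModTensor5 Groth.Agent.Lib.Helper21.ModTensor6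
open Groth.Agent.Lib.Helper21.ModTensor7 Groth.Agent.Lib.Helper21.ModTensor3
open Groth.Agent.Lib.R2H1.RegPoint Groth.Agent.Lib.R2H1.CurveEuler Groth.Agent.Lib.R2H1.CurveDegSec
  Groth.Agent.Lib.R2H1.EulerAdd Groth.Agent.Lib.R2H2.HHLin Groth.Agent.Lib.R2H2.PnLinRes
  Groth.Agent.Lib.R2H1.GenusZero Groth.Agent.Lib.R2H1.DegNonpos Groth.Agent.Lib.R2H1.InvExists
  Groth.Agent.Lib.R2H1.CurveAmple Groth.Agent.Lib.R2H1.FinrankChain
  Groth.Agent.Lib.R2H1.NonSpecial Groth.Agent.Lib.R2H1.LiftZero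
open Groth.Agent.Lib.Helper23.GenLocus

variable (k : Type u) [Field k] [IsAlgClosed k] (X : Scheme.{u}) [X.Over (Spec (CommRingCat.of k))]
    [IsIntegral X] [IsProper (X ↘ (Spec (CommRingCat.of k)))]

/-- `h⁰` is monotone along a nonzero map of invertible modules -/
theorem hh_zero_le_of_ne_zero (N L : X.Modules)
    (hN : PicF.IsInvertible N) (hL : PicF.IsInvertible L) (φ : N ⟶ L) (hφ : φ ≠ 0) :
    hh k X N 0 ≤ hh k X L 0 := by
  haveI := isNoetherian_of_proper k X
  haveI : Mono φ := Groth.Agent.Lib.R2H1.InvHom.mono_of_ne_zero hN hL φ hφ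
  have cN := isCoh_of_isInvertible N hN
  have cL := isCoh_of_isInvertible L hL
  have hS : (ShortComplex.mk φ (cokernel.π φ) (cokernel.condition φ)).ShortExact :=
    { exact := ShortComplex.exact_cokernel φ
      mono_f := inferInstance
      epi_g := inferInstance }
  exact hh_left_zero_le k _ hS cN cL

theorem main (hdim : topologicalKrullDim X = 1)
    (p : X) (hp : IsClosed ({p} : Set X)) [IsDiscreteValuationRing (X.presheaf.stalk p)]
    (L : X.Modules) (hL : PicF.IsInvertible L)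
    (hLp : ClSub.IsInverseOf L (ClSub.idealMod
      (Scheme.IdealSheafData.vanishingIdeal (⟨{p}, hp⟩ : TopologicalSpace.Closeds X)))) :
    {n : ℕ | 1 ≤ n ∧ Module.finrank k (Coh.HH X (CohB1.tensorPow L n) 0) =
        Module.finrank k (Coh.HH X (CohB1.tensorPow L (n - 1)) 0)}.Finite ∧
      {n : ℕ | 1 ≤ n ∧ Module.finrank k (Coh.HH X (CohB1.tensorPow L n) 0) =
        Module.finrank k (Coh.HH X (CohB1.tensorPow L (n - 1)) 0)}.ncard = Curv2.genus k X := by
  haveI := isNoetherian_of_proper k X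
  obtain ⟨⟨s, hs⟩, hdeg⟩ := exists_section_deg_one k X hdim p hp L hL hLp
  have hPow : ∀ n, PicF.IsInvertible (CohB1.tensorPow L n) := fun n =>
    Groth.Agent.Lib.Helper23.SecTw.isInvertible_tensorPow hL n
  have hφ : ∀ n, mulSec (CohB1.tensorPow L n) s ≠ 0 := fun n =>
    mulSec_ne_zero (CohB1.tensorPow L n) (hPow n) hL s hs
  have hdegn : ∀ n : ℕ, Curv2.deg k X (CohB1.tensorPow L n) 1 = n := by
    intro n
    rw [deg_tensorPow k X hdim L hL n, hdeg, mul_one]
  have hχO := euler_structure k X hdim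
  refine gaps_card (fun n => Module.finrank k (Coh.HH X (CohB1.tensorPow L n) 0))
    (fun n => Module.finrank k (Coh.HH X (CohB1.tensorPow L n) 1)) (Curv2.genus k X)
    (2 * Curv2.genus k X) ?_ ?_ ?_ ?_ ?_
  · intro n
    have cn := isCoh_of_isInvertible _ (hPow n)
    have h1 := euler_eq_h0_sub_h1 k X hdim.le _ cn.1
    have h2 := hdegn n
    unfold Curv2.deg at h2
    show (Module.finrank k (Coh.HH X (CohB1.tensorPow L n) 0) : ℤ) -
      (Module.finrank k (Coh.HH X (CohB1.tensorPow L n) 1) : ℤ) = n + 1 - Curv2.genus k X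
    rw [← h1]
    rw [hχO] at h2
    push_cast at h2
    linarith
  · intro n
    exact hh_zero_le_of_ne_zero k X _ _ (hPow n) (hPow (n + 1)) _ (hφ n)
  · intro n
    exact hh_one_le_of_ne_zero k X hdim _ _ (hPow n) (hPow (n + 1)) _ (hφ n)
  · rfl
  · intro n hn
    haveI := s1522 k X hdim (CohB1.tensorPow L n) (hPow n) (by rw [hdegn n]; push_cast; omega)
    exact Module.finrank_zero_of_subsingleton

end Part3

end Groth.Agent.Lib.R2H1.WeierGaps
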