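import Mathlib
import Groth.Agent.Lib.R2H1WeierGaps
set_option backward.isDefEq.respectTransparency.types false

/-!
id_structureModule_ne_zero' (X nonempty), h0_structure_pos, s18774 (deg of a locally free subsheaf bounded by h0 of the ambient).
-/

set_option autoImplicit false
set_option linter.style.haveILetI false
set_option linter.unusedSectionVars false
universe u v

open CategoryTheory CategoryTheory.Limits AlgebraicGeometry TopologicalSpace Opposite

namespace Groth.Agent.Lib.R2H1.SubDegBound

section Part1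

open Groth.Agent.Lib.R2H1.CurveEuler Groth.Agent.Lib.R2H1.EulerAdd Groth.Agent.Lib.R2H2.PnLinRes
  Groth.Agent.Lib.R2H1.FinrankChain
open Groth.Agent.Lib.Helper23.GenLocus Groth.Agent.Lib.Helper23.SecTw

variable (k : Type u) [Field k] (X : Scheme.{u}) [X.Over (Spec (CommRingCat.of k))]
    [IsProper (X ↘ (Spec (CommRingCat.of k)))]

theorem id_structureModule_ne_zero' [Nonempty X] : (𝟙 (Coh.structureModule X)) ≠ 0 := by
  intro h
  haveI : Nontrivial Γ(X, ⊤) := by
    obtain ⟨x⟩ := (inferInstance : Nonempty X)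
    haveI : Nonempty ↥(⊤ : X.Opens) := ⟨⟨x, trivial⟩⟩
    infer_instance
  have h1 := congrArg (fun φ : Coh.structureModule X ⟶ Coh.structureModule X =>
    ofS ⊤ (φ.app ⊤ (toS ⊤ 1))) h
  have h2 : (1 : Γ(X, ⊤)) = 0 := h1
  exact one_ne_zero h2

theorem h0_structure_pos [Nonempty X] :
    0 < Module.finrank k (Coh.HH X (Coh.structureModule X) 0) := by
  haveI := isNoetherian_of_proper k X
  have cO : Coh.IsCoh (Coh.structureModule X) :=
    Groth.Agent.Lib.R2H1.GenusLe.isCoh_structureModule X
  haveI := finite_HH k X _ cO 0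
  rw [Module.finrank_pos_iff_exists_ne_zero]
  refine ⟨cls (𝟙 (Coh.structureModule X)), fun h => ?_⟩
  exact id_structureModule_ne_zero' X (eq_zero_of_cls _ h)

theorem s18774 (hdim : topologicalKrullDim ↥X = 1)
    (E : X.Modules) (hE : FlatMod.IsFinLocFree E) (F : X.Modules) (r' : ℕ) (hr' : 0 < r')
    (hF : FlatMod.IsFinLocFreeOfRank r' F) (i : F ⟶ E) [Mono i] :
    Curv2.deg k X F r' ≤ (r' : ℤ) * ((Module.finrank k (Coh.HH X E 0) : ℤ) +
      (Curv2.genus k X : ℤ) - 1) := by
  haveI := isNoetherian_of_proper k X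
  haveI : Nonempty X := by
    by_contra hne
    haveI : IsEmpty X := not_nonempty_iff.1 hne
    have : topologicalKrullDim ↥X = ⊥ := by
      unfold topologicalKrullDim
      haveI : IsEmpty (IrreducibleCloseds ↥X) := ⟨fun Z => isEmptyElim Z.2.nonempty.some⟩
      exact Order.krullDim_eq_bot
    rw [this] at hdim
    exact absurd hdim (by decide)
  have cE := Groth.Agent.Lib.R2H2.PnLocFree.isCoh_of_isFinLocFree E hE
  have cF := Groth.Agent.Lib.R2H1.DegTensor.isCoh_of_rank' hF
  have cO : Coh.IsCoh (Coh.structureModule X) :=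
    Groth.Agent.Lib.R2H1.GenusLe.isCoh_structureModule X
  have hS : (ShortComplex.mk i (cokernel.π i) (cokernel.condition i)).ShortExact :=
    { exact := ShortComplex.exact_cokernel i
      mono_f := inferInstance
      epi_g := inferInstance }
  have h1 : hh k X F 0 ≤ hh k X E 0 := hh_left_zero_le k _ hS cF cE
  have h2 := euler_eq_h0_sub_h1 k X hdim.le F cF.1
  have h3 := euler_eq_h0_sub_h1 k X hdim.le _ cO.1
  have h4 := h0_structure_pos k X
  unfold Curv2.deg
  rw [h2, h3]
  have h5 : (Module.finrank k (Coh.HH X (Coh.structureModule X) 1) : ℤ) = Curv2.genus k X := rfl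
  rw [h5]
  have h1' : (Module.finrank k (Coh.HH X F 0) : ℤ) ≤ Module.finrank k (Coh.HH X E 0) := by
    exact_mod_cast h1
  have h4' : (1 : ℤ) ≤ Module.finrank k (Coh.HH X (Coh.structureModule X) 0) := by
    exact_mod_cast h4
  have hr : (1 : ℤ) ≤ r' := by exact_mod_cast hr'
  have h6 : (0 : ℤ) ≤ Module.finrank k (Coh.HH X F 1) := by positivity
  have h7 : (0 : ℤ) ≤ Module.finrank k (Coh.HH X E 0) := by positivity
  nlinarith [mul_le_mul_of_nonneg_left h4' (by linarith : (0 : ℤ) ≤ r'),
    mul_le_mul_of_nonneg_right hr h7]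

end Part1

end Groth.Agent.Lib.R2H1.SubDegBound
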