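import Groth.Agent.Lib.R2H2KoszulRel
import Groth.Agent.Lib.R2H2PnReg
import Groth.Agent.Lib.R2LeadKRR
import Groth.Agent.Lib.Helper1Sky3
import Groth.Agent.Lib.Helper1KBC3
import Groth.Prelude.Def_KRR

/-!
# The Koszul complex on `P^n_T` and Castelnuovo–Mumford regularity relative to `P^n_T ⟶ T`
(helper2, round 2)

* `KDT n T F a` : Koszul data on `P^n_T` with terms `F(a + i) = O(a + i) ⊗ F`, pulled back from
  `P^n_ℤ`; `exact_KDT`, `mono_KDT`;
* `van_twF_top` : `R^q p_* F(a + n + 1) = 0` if `R^{q + (n - i)} p_* F(a + i) = 0` for `i ≤ n`;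
* `isRegSheaf_twF_nat` : a regular sheaf stays regular after twisting by `O(m)`, `m ≥ 0` (Mumford);
* `isZero_RpushAb_of_isRegSheaf` : `R^i p_* F = 0` for `i ≥ 1` and `F` regular.
-/

set_option autoImplicit false
universe u

namespace Groth.Agent.Lib.R2H2.KoszulPnT

open CategoryTheory CategoryTheory.Limits AlgebraicGeometry TopologicalSpace Opposite
  MonoidalCategory
open Groth.Agent.Lib.R2H2.KoszulAbs Groth.Agent.Lib.R2H2.KoszulSheaf
  Groth.Agent.Lib.R2H2.KoszulRel Groth.Agent.Lib.R2H2.PnReg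
open Groth.Agent.Lib.Helper1.BKF Groth.Agent.Lib.Helper1.Sky Groth.Agent.Lib.Helper1.StalkTensor
  Groth.Agent.Lib.Helper1.KBC
open Groth.Agent.Lib.R2Lead.KRR

variable (n : ℕ) (T : Scheme.{u})

/-- the projection `P^n_T ⟶ P^n_ℤ` -/
noncomputable abbrev fstZ : KRR.PY n T ⟶ CohB1.ProjSpace n (ULift.{u} ℤ) :=
  pullback.fst (CohB1.ProjSpace.toSpec n (ULift.{u} ℤ)) (specULiftZIsTerminal.from T)

variable (F : (KRR.PY n T).Modules)

/-- `G ↦ (pr₁^* G) ⊗ F` -/
noncomputable def Φ :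
    (Proj (CohB1.polyGrading n (ULift.{u} ℤ))).Modules ⥤ (KRR.PY n T).Modules :=
  Scheme.Modules.pullback (fstZ n T) ⋙ (DCoh.tensorBi (X := KRR.PY n T)).flip.obj F

noncomputable instance : (Φ n T F).Additive := by
  haveI : ((DCoh.tensorBi (X := KRR.PY n T)).flip.obj F).Additive :=
    { map_add := by
        intro A B g h
        change ((DCoh.tensorBi (X := KRR.PY n T)).map (g + h)).app F =
          ((DCoh.tensorBi (X := KRR.PY n T)).map g).app F +
            ((DCoh.tensorBi (X := KRR.PY n T)).map h).app F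
        rw [Functor.map_add]
        rfl }
  unfold Φ
  infer_instance

variable (a : ℤ)

/-- the Koszul data `F(a + i)` on `P^n_T` -/
noncomputable def KDT : KData (KRR.PY n T).Modules (n + 1) :=
  (kdata0 (CohB1.polyGrading n (ULift.{u} ℤ)) (xs n (ULift.{u} ℤ)) (xs_mem n (ULift.{u} ℤ)) a).map
    (Φ n T F)

lemma KDT_G (i : ℕ) : (KDT n T F a).G i = KRR.twF n T (a + i) F := rfl

/-- the Koszul differential `x_j` is an isomorphism on stalks at points over `D₊(x_j)` -/
theorem isIso_stalk_X (y : KRR.PY n T) (j : Fin (n + 1))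
    (hj : xs n (ULift.{u} ℤ) j ∉
      (show ProjectiveSpectrum (CohB1.polyGrading n (ULift.{u} ℤ)) from
        (fstZ n T) y).asHomogeneousIdeal) (i : ℕ) :
    IsIso ((stalkFun y).map ((KDT n T F a).X j i)) := by
  let μ := mulX (CohB1.polyGrading n (ULift.{u} ℤ)) (xs n (ULift.{u} ℤ)) (xs_mem n (ULift.{u} ℤ))
    a j i
  let ν := (Scheme.Modules.pullback (fstZ n T)).map μ
  -- step 0: `μ` is an isomorphism on the stalk at the image point
  have h0 : IsIso ((stalkFun ((fstZ n T) y)).map μ) :=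
    isIso_stalk_mulP (CohB1.polyGrading n (ULift.{u} ℤ)) (CohB1.polyGrading n (ULift.{u} ℤ))
      (xs_mem n (ULift.{u} ℤ) j) (hidx a i) ((fstZ n T) y) hj
  -- step A: so is its pullback at `y`
  have hA : IsIso ((stalkFun y).map ν) := by
    have e := stalkPullbackIso (fstZ n T) y
    have h1 : IsIso ((stalkFun ((fstZ n T) y) ⋙
        ModuleCat.extendScalars.{u, u, u} ((fstZ n T).stalkMap y).hom).map μ) := by
      change IsIso ((ModuleCat.extendScalars.{u, u, u} ((fstZ n T).stalkMap y).hom).map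
        ((stalkFun ((fstZ n T) y)).map μ))
      infer_instance
    exact (NatIso.isIso_map_iff e μ).2 h1
  -- step B: tensoring with `F`
  have hB : IsIso ((G₂ y).map ν) := by
    change IsIso ((curriedTensor (ModuleCat.{u} (Ox y)) ⋙
      (Functor.whiskeringLeft _ _ _).obj (stalkFun y)).map ((stalkFun y).map ν))
    infer_instance
  have hC : IsIso ((G₁ y).map ν) := (NatIso.isIso_map_iff (stalkTensorIso y) ν).2 hB
  have hD : IsIso (((G₁ y).map ν).app F) := inferInstance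
  exact hD

theorem exact_KDT (i : ℕ) :
    (ShortComplex.mk ((KDT n T F a).d i) ((KDT n T F a).d (i + 1))
      ((KDT n T F a).d_comp_d i)).Exact := by
  apply exact_of_forall_stalk
  intro y
  obtain ⟨j, hj⟩ := xs_cov n (ULift.{u} ℤ)
    (show ProjectiveSpectrum (CohB1.polyGrading n (ULift.{u} ℤ)) from (fstZ n T) y)
  exact exact_map (KDT n T F a) (stalkFun y) j (fun i => isIso_stalk_X n T F a y j hj i) i

theorem mono_KDT : Mono ((KDT n T F a).d 0) := by
  apply mono_of_forall_stalk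
  intro y
  obtain ⟨j, hj⟩ := xs_cov n (ULift.{u} ℤ)
    (show ProjectiveSpectrum (CohB1.polyGrading n (ULift.{u} ℤ)) from (fstZ n T) y)
  exact mono_map (KDT n T F a) (stalkFun y) j (fun i => isIso_stalk_X n T F a y j hj i)

/-- vanishing at the end of the Koszul complex -/
theorem van_twF_top (q : ℕ)
    (h : ∀ i : ℕ, i < n + 1 →
      Van (KRR.pr n T) (q + (n + 1 - (i + 1))) (KRR.twF n T (a + i) F)) :
    Van (KRR.pr n T) q (KRR.twF n T (a + ((n + 1 : ℕ) : ℤ)) F) :=
  van_G_top (KRR.pr n T) (KDT n T F a) (exact_KDT n T F a) (mono_KDT n T F a) q h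

/-- Mumford's lemma: one twist up -/
theorem van_twF_one (hreg : KRR.IsRegSheaf n T F) (q : ℕ) (hq : 1 ≤ q) :
    Van (KRR.pr n T) q (KRR.twF n T (1 - (q : ℤ)) F) := by
  have key := van_twF_top n T F (-(q : ℤ) - n) q (fun i hi => by
    have e : -(q : ℤ) - n + i = -(((q + (n + 1 - (i + 1)) : ℕ)) : ℤ) := by omega
    rw [e]
    exact hreg (q + (n + 1 - (i + 1))) (by omega))
  have e2 : -(q : ℤ) - n + ((n + 1 : ℕ) : ℤ) = 1 - (q : ℤ) := by
    push_cast
    ring
  rw [e2] at key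
  exact key

theorem isRegSheaf_of_iso {F G : (KRR.PY n T).Modules} (e : F ≅ G)
    (h : KRR.IsRegSheaf n T F) : KRR.IsRegSheaf n T G := by
  intro i hi
  exact van_of_iso (KRR.pr n T) i ((twFun n T (-(i : ℤ))).mapIso e) (h i hi)

theorem isRegSheaf_twF_one (hreg : KRR.IsRegSheaf n T F) :
    KRR.IsRegSheaf n T (KRR.twF n T 1 F) := by
  intro i hi
  obtain ⟨e⟩ := nonempty_twFun_comp_iso n T (-(i : ℤ)) 1
  have e' : KRR.twF n T (-(i : ℤ)) (KRR.twF n T 1 F) ≅ KRR.twF n T (-(i : ℤ) + 1) F := e.app F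
  have h := van_twF_one n T F hreg i hi
  have h2 : (1 - (i : ℤ)) = -(i : ℤ) + 1 := by ring
  rw [h2] at h
  exact van_of_iso (KRR.pr n T) i e'.symm h

/-- **Mumford**: a regular sheaf stays regular after twisting by `O(m)`, `m ≥ 0` -/
theorem isRegSheaf_twF_nat (hreg : KRR.IsRegSheaf n T F) (m : ℕ) :
    KRR.IsRegSheaf n T (KRR.twF n T (m : ℤ) F) := by
  induction m with
  | zero =>
    obtain ⟨e⟩ := nonempty_twFun_zero_iso n T
    have e' : KRR.twF n T ((0 : ℕ) : ℤ) F ≅ F := by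
      rw [Nat.cast_zero]
      exact e.app F
    exact isRegSheaf_of_iso n T e'.symm hreg
  | succ m ih =>
    obtain ⟨e⟩ := nonempty_twFun_comp_iso n T 1 (m : ℤ)
    have hc : ((m + 1 : ℕ) : ℤ) = 1 + (m : ℤ) := by
      push_cast
      ring
    have e' : KRR.twF n T 1 (KRR.twF n T (m : ℤ) F) ≅ KRR.twF n T (1 + (m : ℤ)) F := e.app F
    rw [hc]
    exact isRegSheaf_of_iso n T e' (isRegSheaf_twF_one n T _ ih)

/-- the higher direct images of a regular sheaf vanish -/
theorem isZero_RpushAb_of_isRegSheaf (hreg : KRR.IsRegSheaf n T F) (i : ℕ) (hi : 1 ≤ i) :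
    IsZero ((Coh.RpushAb (KRR.pr n T) i).obj (Coh.toAb F)) := by
  have h1 := isRegSheaf_twF_nat n T F hreg i i hi
  obtain ⟨e⟩ := nonempty_twFun_comp_iso n T (-(i : ℤ)) (i : ℤ)
  have hc : -(i : ℤ) + (i : ℤ) = 0 := by ring
  rw [hc] at e
  obtain ⟨e0⟩ := nonempty_twFun_zero_iso n T
  have e' : KRR.twF n T (-(i : ℤ)) (KRR.twF n T (i : ℤ) F) ≅ F := e.app F ≪≫ e0.app F
  exact van_of_iso (KRR.pr n T) i e' h1

end Groth.Agent.Lib.R2H2.KoszulPnT
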