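import Groth.Agent.Lib.R2H2PushTwistB
import Groth.Agent.Lib.R2H2KoszulPnT
import Groth.Agent.Lib.R2LeadKRR
import Groth.Agent.Lib.Helper2LocFree
set_option backward.isDefEq.respectTransparency.types false

/-!
# `p_K [O(m)] = C(n+m, m)` (helper2, round 2)
-/

set_option autoImplicit false
universe u

open CategoryTheory CategoryTheory.Limits AlgebraicGeometry TopologicalSpace Opposite

namespace Groth.Agent.Lib.R2H2.PushTwistK

open Groth.Agent.Lib.R2H2.ProjOverPush

variable (n : ℕ) (Y : Scheme.{u})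

theorem isFinLocFree_twF_structureModule (d : ℤ) :
    FlatMod.IsFinLocFree (KRR.twF n Y d (Coh.structureModule (KRR.PY n Y))) :=
  isFinLocFree_of_iso
    (Groth.Agent.Lib.Helper23.TensorUnit.tensorUnitIso (Twist.twistOver n Y d)).symm
    (isFinLocFree_of_isInvertible (Groth.Agent.Lib.R2Lead.KRR.isInvertible_twistOver n Y d))

theorem isFinLocFree_freeMod (b : ℕ) :
    FlatMod.IsFinLocFree (∐ fun _ : Fin b => Coh.structureModule Y) :=
  Groth.Agent.Lib.Helper2.LocFree.isFinLocFree_of_iso_freeMod _ (Iso.refl _)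

/-- `[p_* O(m)] = C(n+m, m) • [O_Y]` in `Kvb Y` -/
theorem cl_push_twF (m : ℕ) :
    KRR.cl Y ((Scheme.Modules.pushforward (KRR.pr n Y)).obj
      (KRR.twF n Y (m : ℤ) (Coh.structureModule (KRR.PY n Y)))) =
      (Nat.choose (n + m) m) • KRR.cl Y (Coh.structureModule Y) := by
  obtain ⟨ε⟩ := Groth.Agent.Lib.R2H2.PushTwist.nonempty_push_twistOver_iso n Y m
  have e1 : (Scheme.Modules.pushforward (KRR.pr n Y)).obj
      (KRR.twF n Y (m : ℤ) (Coh.structureModule (KRR.PY n Y))) ≅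
      (Scheme.Modules.pushforward (KRR.pr n Y)).obj (Twist.twistOver n Y (m : ℤ)) :=
    (Scheme.Modules.pushforward (KRR.pr n Y)).mapIso
      (Groth.Agent.Lib.Helper23.TensorUnit.tensorUnitIso (Twist.twistOver n Y (m : ℤ)))
  have e2 : (∐ fun _ : Fin (Nat.choose (n + m) m) => Coh.structureModule Y) ≅
      (Scheme.Modules.pushforward (KRR.pr n Y)).obj
        (KRR.twF n Y (m : ℤ) (Coh.structureModule (KRR.PY n Y))) := ε ≪≫ e1.symm
  have hz : ∀ Z : Y.Modules, IsZero Z → FlatMod.IsFinLocFree Z :=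
    fun Z hZ => isFinLocFree_of_isZero Z hZ
  have hO : FlatMod.IsFinLocFree (Coh.structureModule Y) :=
    isFinLocFree_of_isInvertible
      (Groth.Agent.Lib.Helper23.TensorUnit.isInvertible_structureModule Y)
  have hP := isFinLocFree_freeMod Y
  have hcl : KRR.cl Y ((Scheme.Modules.pushforward (KRR.pr n Y)).obj
      (KRR.twF n Y (m : ℤ) (Coh.structureModule (KRR.PY n Y)))) =
      KRR.cl Y (∐ fun _ : Fin (Nat.choose (n + m) m) => Coh.structureModule Y) :=
    Groth.Agent.Lib.R2H2.K0Gen.clSub_of_iso (KRR.vbP Y) hz e2.symm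
      (isFinLocFree_of_iso e2 (hP _)) (hP _)
  rw [hcl]
  exact Groth.Agent.Lib.R2H2.K0Gen.clSub_coprod_const (KRR.vbP Y) hz (Coh.structureModule Y) hO hP _

/-- S3760 -/
theorem main3760 {KP KY : Type*} [CommRing KP] [CommRing KY]
    (φP : SGA6.Kvb (KRR.PY n Y) →+ KP) (φY : SGA6.Kvb Y →+ KY)
    (hone : φY (KRR.cl Y (Coh.structureModule Y)) = 1)
    (g : KP →+ KY) (hg : KRR.IsPushPr n Y φP φY g) (m : ℕ) :
    g (φP (KRR.cl (KRR.PY n Y) (KRR.twF n Y (m : ℤ) (Coh.structureModule (KRR.PY n Y))))) =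
      (Nat.choose (n + m) m : KY) := by
  have hreg : KRR.IsRegSheaf n Y (KRR.twF n Y (m : ℤ) (Coh.structureModule (KRR.PY n Y))) :=
    Groth.Agent.Lib.R2H2.KoszulPnT.isRegSheaf_twF_nat n Y _ (isRegSheaf_structureModule n Y) m
  rw [hg _ (isFinLocFree_twF_structureModule n Y (m : ℤ)) hreg, cl_push_twF n Y m, map_nsmul, hone,
    nsmul_eq_mul, mul_one]

end Groth.Agent.Lib.R2H2.PushTwistK
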