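import Groth.Agent.Lib.R2H2FinGen
import Groth.Agent.Lib.R2H2FLFKernel
import Groth.Agent.Lib.R2H2PullLF
import Groth.Agent.Lib.R2H2K0Gen
import Groth.Agent.Lib.R2H2ProjOverPush
import Groth.Agent.Lib.R2H2PushTwistK
import Groth.Agent.Lib.Helper26ModRank
import Groth.Agent.Lib.Helper23QAffSec
import Groth.Agent.Lib.Helper23ModLocal
import Groth.Agent.Lib.Helper1FLF1
import Groth.Agent.Lib.Helper23TensorUnit
set_option backward.isDefEq.respectTransparency.types false

/-!
# The class of an ample invertible module is an ample line element (helper2, round 2)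

* `exists_rank` : a finite locally free module on a connected scheme has constant rank;
* `isZero_of_rank_zero` : a module locally free of rank `0` is zero;
* `main3743` : `[L]` is an ample line element of `K(X)` for `L` ample, `X` connected Noetherian.
-/

set_option autoImplicit false
set_option linter.unusedSectionVars false
set_option linter.style.haveILetI false
universe v u

namespace Groth.Agent.Lib.R2H2.AmpleElt

open CategoryTheory CategoryTheory.Limits AlgebraicGeometry TopologicalSpace KZero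

variable {X : Scheme.{u}}

theorem isFinLocFree_of_rank {M : X.Modules} {r : ℕ} (h : FlatMod.IsFinLocFreeOfRank r M) :
    FlatMod.IsFinLocFree M := fun x => by
  obtain ⟨U, hx, e⟩ := h x
  exact ⟨U, r, hx, e⟩

/-- **constant rank on a connected scheme** -/
theorem exists_rank [PreconnectedSpace X] [Nonempty X] (M : X.Modules)
    (hM : FlatMod.IsFinLocFree M) : ∃ r : ℕ, FlatMod.IsFinLocFreeOfRank r M := by
  haveI := Groth.Agent.Lib.R2H2.PullLF.isQuasicoherent_of_isFinLocFree M hM
  choose U n hxU he using hM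
  have hloc : IsLocallyConstant n := by
    rw [IsLocallyConstant.iff_exists_open]
    intro x
    refine ⟨(U x : Set X), (U x).2, hxU x, fun y hy => ?_⟩
    obtain ⟨e1⟩ := he y
    obtain ⟨e2⟩ := he x
    exact Groth.Agent.Lib.Helper26.ModRank.eq_of_restrict_iso_freeMod M e1 e2 y (hxU y) hy
  obtain ⟨x₀⟩ := (inferInstance : Nonempty X)
  refine ⟨n x₀, fun x => ⟨U x, hxU x, ?_⟩⟩
  have h1 : n x = n x₀ := hloc.apply_eq_of_preconnectedSpace x x₀
  rw [← h1]
  exact he x

theorem isZero_freeMod_zero (Z : Scheme.{u}) : IsZero (FlatMod.freeMod Z 0) := by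
  rw [IsZero.iff_id_eq_zero]
  apply Sigma.hom_ext
  intro j
  exact j.elim0

/-- a module locally free of rank `0` is zero -/
theorem isZero_of_rank_zero {M : X.Modules} (h : FlatMod.IsFinLocFreeOfRank 0 M) : IsZero M := by
  choose U hxU he using h
  refine Groth.Agent.Lib.Helper23.ModLocal.isZero_of_isZero_restrict (fun x : X => (U x : Scheme.{u}))
    (fun x => (U x).ι) (fun x => ⟨x, ⟨x, hxU x⟩, rfl⟩) (fun x => ?_)
  obtain ⟨e⟩ := he x
  exact IsZero.of_iso (isZero_freeMod_zero _) e

section Main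

variable (X) [IsNoetherian X] [ConnectedSpace X] {K : Type v} [CommRing K]
  [LambdaRing.LambdaOps K] (P : LambdaRing.PosStructure K) (φ : SGA6.Kvb X →+ K)
  (hK : KRR.IsModel X K P φ)

include hK in
/-- the class of a bundle is positive or zero -/
theorem cl_mem_pos_or_zero (M : X.Modules) (hM : FlatMod.IsFinLocFree M) :
    φ (KRR.cl X M) ∈ P.pos ∨ φ (KRR.cl X M) = 0 := by
  obtain ⟨r, hr⟩ := exists_rank M hM
  rcases Nat.eq_zero_or_pos r with h0 | hpos
  · right
    subst h0
    have hz := isZero_of_rank_zero hr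
    have : KRR.cl X M = 0 := Groth.Agent.Lib.R2H2.K0Gen.clSub_of_isZero (KRR.vbP X) hz hM
    rw [this, map_zero]
  · left
    exact (hK.mem_pos_iff _).2 ⟨r, M, hpos, hr, rfl⟩

include hK in
/-- **S3743** -/
theorem main3743 (L : X.Modules) (hL : CohB1.IsAmple L) :
    KRR.IsAmpleElt P (φ (KRR.cl X L)) := by
  have hL1 : FlatMod.IsFinLocFreeOfRank 1 L :=
    Groth.Agent.Lib.Helper23.SecTw.isFinLocFreeOfRank_one_of_isInvertible L hL.1
  have hLf : FlatMod.IsFinLocFree L := isFinLocFree_of_rank hL1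
  have hO : FlatMod.IsFinLocFree (Coh.structureModule X) :=
    Groth.Agent.Lib.R2H2.ProjOverPush.isFinLocFree_of_isInvertible
      (Groth.Agent.Lib.Helper23.TensorUnit.isInvertible_structureModule X)
  have hupos : φ (KRR.cl X L) ∈ P.pos := (hK.mem_pos_iff _).2 ⟨1, L, le_rfl, hL1, rfl⟩
  have haug : P.aug (φ (KRR.cl X L)) = 1 := by
    have := hK.aug_cl 1 L hL1
    simpa using this
  -- powers of `u`
  have hpow : ∀ n : ℕ, FlatMod.IsFinLocFree (CohB1.tensorPow L n) ∧
      φ (KRR.cl X L) ^ n = φ (KRR.cl X (CohB1.tensorPow L n)) := by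
    intro n
    induction n with
    | zero => exact ⟨hO, by rw [pow_zero]; exact hK.map_one.symm⟩
    | succ n ih =>
      refine ⟨Groth.Agent.Lib.Helper1.FLF.isFinLocFree_tensor _ _ ih.1 hLf, ?_⟩
      rw [pow_succ, ih.2, hK.map_mul _ _ ih.1 hLf]
      rfl
  have hpowpos : ∀ n : ℕ, φ (KRR.cl X L) ^ n ∈ P.pos := by
    intro n
    induction n with
    | zero =>
      rw [pow_zero]
      have := P.natCast_mem 1 Nat.one_pos
      simpa using this
    | succ n ih =>
      rw [pow_succ]
      exact P.mul_mem _ _ ih hupos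
  refine ⟨⟨hupos, haug⟩, fun x => ?_⟩
  obtain ⟨e, f, he, hf, rfl⟩ := P.exists_sub x
  obtain ⟨b, F, -, hF, rfl⟩ := (hK.mem_pos_iff f).1 hf
  have hFf : FlatMod.IsFinLocFree F := isFinLocFree_of_rank hF
  haveI hFq : F.IsQuasicoherent := Groth.Agent.Lib.R2H2.PullLF.isQuasicoherent_of_isFinLocFree F hFf
  haveI hFt : SheafOfModules.IsFiniteType (R := X.ringCatSheaf) F := by
    have hFfp : CohB1.IsFP F := Groth.Agent.Lib.Helper2.LocFree.isFP_of_isFinLocFree F hFf
    haveI : SheafOfModules.IsFinitePresentation (R := X.ringCatSheaf) F := hFfp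
    infer_instance
  obtain ⟨n₀, hn₀⟩ :=
    Groth.Agent.Lib.Helper23.LocGen.isGloballyGenerated_twist_eventually L hL F
  refine ⟨n₀, fun n hn => ?_⟩
  have hNf : FlatMod.IsFinLocFree (CohB1.tensorMod F (CohB1.tensorPow L n)) :=
    Groth.Agent.Lib.Helper1.FLF.isFinLocFree_tensor _ _ hFf (hpow n).1
  haveI hNq : (CohB1.tensorMod F (CohB1.tensorPow L n)).IsQuasicoherent :=
    Groth.Agent.Lib.R2H2.PullLF.isQuasicoherent_of_isFinLocFree _ hNf
  haveI hNt : SheafOfModules.IsFiniteType (R := X.ringCatSheaf)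
      (CohB1.tensorMod F (CohB1.tensorPow L n)) := by
    have hfp : CohB1.IsFP (CohB1.tensorMod F (CohB1.tensorPow L n)) :=
      Groth.Agent.Lib.Helper2.LocFree.isFP_of_isFinLocFree _ hNf
    haveI : SheafOfModules.IsFinitePresentation (R := X.ringCatSheaf)
      (CohB1.tensorMod F (CohB1.tensorPow L n)) := hfp
    infer_instance
  obtain ⟨k, q, hq⟩ := Groth.Agent.Lib.R2H2.FinGen.exists_finite_epi _ (hn₀ n hn)
  haveI := hq
  have hPk : FlatMod.IsFinLocFree (FlatMod.freeMod X k) :=
    Groth.Agent.Lib.R2H2.PushTwistK.isFinLocFree_freeMod X k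
  have hKq : FlatMod.IsFinLocFree (kernel q) :=
    Groth.Agent.Lib.R2H2.FLFKernel.isFinLocFree_kernel_of_epi q hPk hNf
  -- the class relation
  let S : ShortComplex X.Modules := ShortComplex.mk (kernel.ι q) q (kernel.condition q)
  have hS : S.ShortExact :=
    { exact := ShortComplex.exact_kernel q
      mono_f := equalizer.ι_mono
      epi_g := hq }
  have hcl : KRR.cl X (FlatMod.freeMod X k) = KRR.cl X (kernel q) +
      KRR.cl X (CohB1.tensorMod F (CohB1.tensorPow L n)) :=
    Groth.Agent.Lib.R2H2.K0Gen.clSub_shortExact (KRR.vbP X) S hS hKq hPk hNf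
  have hz : ∀ Z : X.Modules, IsZero Z → FlatMod.IsFinLocFree Z :=
    fun Z hZ => Groth.Agent.Lib.R2H2.ProjOverPush.isFinLocFree_of_isZero Z hZ
  have hfree : KRR.cl X (FlatMod.freeMod X k) = k • KRR.cl X (Coh.structureModule X) :=
    Groth.Agent.Lib.R2H2.K0Gen.clSub_coprod_const (KRR.vbP X) hz (Coh.structureModule X) hO
      (Groth.Agent.Lib.R2H2.PushTwistK.isFinLocFree_freeMod X) k
  have h1 : φ (KRR.cl X (CohB1.tensorMod F (CohB1.tensorPow L n))) =
      (k : K) - φ (KRR.cl X (kernel q)) := by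
    have h2 := congrArg φ hcl
    rw [hfree, map_nsmul, hK.map_one, map_add, nsmul_eq_mul, mul_one] at h2
    rw [h2]
    ring
  have h3 : φ (KRR.cl X L) ^ n * φ (KRR.cl X F) =
      φ (KRR.cl X (CohB1.tensorMod F (CohB1.tensorPow L n))) := by
    rw [mul_comm, (hpow n).2, hK.map_mul _ _ hFf (hpow n).1]
    rfl
  have hue : φ (KRR.cl X L) ^ n * e ∈ P.pos := P.mul_mem _ _ (hpowpos n) he
  rcases cl_mem_pos_or_zero X P φ hK (kernel q) hKq with hpos | hzero
  · refine ⟨φ (KRR.cl X L) ^ n * e + φ (KRR.cl X (kernel q)), k, P.add_mem _ _ hue hpos, ?_⟩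
    rw [mul_sub, h3, h1]
    ring
  · refine ⟨φ (KRR.cl X L) ^ n * e, k, hue, ?_⟩
    rw [mul_sub, h3, h1, hzero]
    ring

end Main

end Groth.Agent.Lib.R2H2.AmpleElt
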