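import Mathlib
import Groth.Agent.Lib.H9FreeFib
import Groth.Agent.Lib.Helper2FibreCrit2
import Groth.Agent.Lib.Helper23FinTypeLocal
import Groth.Prelude.Def_Pi1
import Groth.Prelude.Def_Coh
import Groth.Prelude.Def_FlatMod2

/-!
# Torsion-free coherent modules on normal Noetherian schemes are locally free in codimension one (helper4, S7862)
-/
set_option autoImplicit false
universe u
open CategoryTheory CategoryTheory.Limits AlgebraicGeometry TopologicalSpace

namespace Groth.Agent.Lib.R2H4TorsFreeNormal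

/-- finite torsion-free modules over a normal Noetherian local domain of dimension `< 2` are free -/
theorem free_of_dim_lt_two (R M : Type*) [CommRing R] [IsLocalRing R] [IsNoetherianRing R] [IsDomain R]
    [IsIntegrallyClosed R] [AddCommGroup M] [Module R M] [Module.Finite R M]
    [Module.IsTorsionFree R M] (h : ringKrullDim R < 2) : Module.Free R M := by
  have h1 : ringKrullDim R ≤ 1 := by
    have : ringKrullDim R < ((1 : ℕ) : WithBot ℕ∞) + 1 := by
      have e : (((1 : ℕ) : WithBot ℕ∞) + 1) = 2 := by norm_num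
      rw [e]; exact h
    exact_mod_cast ENat.WithBot.lt_add_one_iff.mp this
  haveI : Ring.KrullDimLE 1 R := Ring.krullDimLE_iff.mpr (by exact_mod_cast h1)
  haveI : Ring.DimensionLEOne R :=
    ⟨fun {p} hp hp' => (Ring.krullDimLE_one_iff_of_isPrime_bot.mp inferInstance) p hp hp'⟩
  haveI : IsDedekindRing R := { }
  haveI : IsDedekindDomain R := { }
  exact Module.free_of_finite_type_torsion_free'

theorem main (X : Scheme.{u}) [IsNoetherian X]
    (hX : Pi1.IsNormalScheme X) (M : X.Modules) (hM : Coh.IsCoh M)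
    (htf : ∀ x : ↥X, Module.IsTorsionFree (X.presheaf.stalk x) (M.presheaf.stalk x)) :
    ∃ U : X.Opens, (∀ x : ↥X, x ∉ U → (2 : WithBot ℕ∞) ≤ ringKrullDim (X.presheaf.stalk x)) ∧
      FlatMod.IsFinLocFree (M.restrict U.ι) := by
  haveI : M.IsQuasicoherent := hM.1
  haveI : SheafOfModules.IsFiniteType (R := X.ringCatSheaf) M := hM.2
  haveI : SheafOfModules.IsFinitePresentation (R := X.ringCatSheaf) M :=
    Groth.Agent.Lib.Helper23.FinType.isFinitePresentation_of_isFiniteType M
  let U : X.Opens := ⟨{x : X | Module.Free (X.presheaf.stalk x) (M.presheaf.stalk x)},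
    Groth.Agent.Lib.H9FreeFib.isOpen_free_stalk M⟩
  refine ⟨U, fun x hx => ?_, ?_⟩
  · by_contra hlt
    rw [not_le] at hlt
    apply hx
    haveI := (hX x).1
    haveI := (hX x).2
    haveI := htf x
    haveI : Module.Finite (X.presheaf.stalk x) (M.presheaf.stalk x) :=
      Groth.Agent.Lib.Helper2.FibreCrit.finite_stalk M x
    exact free_of_dim_lt_two _ _ hlt
  · set N := M.restrict U.ι with hN
    haveI : N.IsQuasicoherent := Scheme.Modules.isQuasicoherent_restrictFunctor U.ι M
    haveI : SheafOfModules.IsFiniteType (R := (U : Scheme.{u}).ringCatSheaf) N :=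
      Groth.Agent.Lib.Helper23.FinType.isFiniteType_restrict U.ι M
    haveI : SheafOfModules.IsFinitePresentation (R := (U : Scheme.{u}).ringCatSheaf) N :=
      Groth.Agent.Lib.Helper23.FinType.isFinitePresentation_of_isFiniteType N
    rw [Groth.Agent.Lib.H9FreeFib.isFinLocFree_iff_forall_free]
    intro y
    rw [Groth.Agent.Lib.H9FreeFib.free_stalk_iff_isFlatAt]
    obtain ⟨_, ⟨V, hV : IsAffineOpen V, rfl⟩, hyV, -⟩ :=
      (U : Scheme.{u}).isBasis_affineOpens.exists_subset_of_mem_open (Set.mem_univ y) isOpen_univ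
    have hV' : IsAffineOpen (U.ι ''ᵁ V) := hV.image_of_isOpenImmersion U.ι
    haveI hflat : Module.Flat Γ(X, U.ι ''ᵁ V) Γ(M, U.ι ''ᵁ V) := by
      refine Groth.Agent.Lib.Helper2.LocFree.flat_sections_of_isFlatAt M hV' (fun x hx => ?_)
      obtain ⟨z, -, rfl⟩ := hx
      have hz : Module.Free (X.presheaf.stalk (U.ι z)) (M.presheaf.stalk (U.ι z)) := z.2
      exact (Groth.Agent.Lib.H9FreeFib.free_stalk_iff_isFlatAt M _).mp hz
    have hflat2 : Module.Flat Γ((U : Scheme.{u}), V) Γ(N, V) := by
      refine Groth.Agent.Lib.Helper2.FlatOver.flat_of_semilinear_equiv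
        (R := Γ(X, U.ι ''ᵁ V)) (M := Γ(M, U.ι ''ᵁ V))
        (σ := (U.ι.appIso V).commRingCatIsoToRingEquiv)
        (e := (M.restrictAppIso U.ι V).symm.addCommGroupIsoToAddEquiv) (he := fun r m => ?_)
      exact Scheme.Modules.smul_restrictAppIso_inv_apply U.ι M V r m
    exact Groth.Agent.Lib.Helper2.LocFree.isFlatAt_of_flat_sections N hV hflat2 y hyV

end Groth.Agent.Lib.R2H4TorsFreeNormal
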