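import Mathlib
import Groth.Agent.Lib.R2H1SubDegBound
import Groth.Agent.Lib.R2H4DegAdd
import Groth.Agent.Lib.R2H4TorsFreeNormal
import Groth.Agent.Lib.H9FreeFib
import Groth.Agent.Lib.Helper4FibDimL
import Groth.Agent.Lib.Helper11SmInt
import Groth.Agent.Lib.R2LeadSmoothPSB
import Groth.Agent.Lib.R2H1CurveDegSec
import Groth.Agent.S0020
import Groth.Agent.Lib.Helper6SmRegSch
import Groth.Agent.Lib.R2H2PdSheaf
import Groth.Agent.Lib.R2H2AmpleElt
import Groth.Agent.Lib.Helper23QAffSec
set_option backward.isDefEq.respectTransparency.types false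

/-!
Vector bundles on regular integral proper curves: subsheaves of locally free are locally free of constant rank (exists_rank_of_mono), rank_le_of_mono, deg_le_of_mono_same_rank, exists_ker_im (kernel/image decomposition with rank and degree additivity), slope-stability lemmas (S15331 S11826 S14136 S14137 S15332 S15333 S11810).
-/

set_option autoImplicit false
set_option linter.style.haveILetI false
set_option linter.unusedSectionVars false
universe u v

open CategoryTheory CategoryTheory.Limits AlgebraicGeometry TopologicalSpace Opposite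

namespace Groth.Agent.Lib.R2H1.VBSub

section Part1

open Groth.Agent.Lib.Helper4.NormDelta Groth.Agent.Lib.Helper23.StalkLin

/-- a regular local domain of dimension at most one is a PID -/
theorem isPrincipalIdealRing_of_regular_dim_le_one (V : Type u) [CommRing V] [IsDomain V]
    [IsRegularLocalRing V] (h : ringKrullDim V ≤ 1) : IsPrincipalIdealRing V := by
  by_cases hf : IsField V
  · letI := hf.toField
    infer_instance
  · have h0 : ¬ ringKrullDim V ≤ 0 := fun h' => hf (by
      haveI : Ring.KrullDimLE 0 V := Ring.krullDimLE_iff.mpr h'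
      exact Ring.KrullDimLE.isField_of_isDomain)
    have h1 : ringKrullDim V = 1 := le_antisymm h (Order.succ_le_of_lt (lt_of_not_ge h0))
    haveI := Groth.Agent.Lib.R2LeadSmoothPSB.isDVR_of_regular_dim_one V h1
    infer_instance

variable {X : Scheme.{u}}

/-- rank data at a point of a trivialising open -/
theorem stalk_rank_of_iso (M : X.Modules) [M.IsQuasicoherent]
    [SheafOfModules.IsFiniteType (R := X.ringCatSheaf) M] (U : X.Opens) (n : ℕ)
    (e : M.restrict U.ι ≅ FlatMod.freeMod (↑U) n) (x : X) (hxU : x ∈ U) :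
    Module.Free (X.presheaf.stalk x) (M.presheaf.stalk x) ∧
    Module.finrank (X.presheaf.stalk x) (M.presheaf.stalk x) = n := by
  obtain ⟨h1, h2⟩ := Groth.Agent.Lib.Helper2.RankLoc.fibreRank_eq_of_restrict_iso_freeMod U.ι M e
    ⟨x, hxU⟩
  have hx : U.ι ⟨x, hxU⟩ = x := rfl
  rw [hx] at h1 h2
  haveI := h1
  haveI : Module.Finite (X.presheaf.stalk x) (M.presheaf.stalk x) :=
    Groth.Agent.Lib.Helper2.FibreCrit.finite_stalk M x
  refine ⟨h1, ?_⟩
  rw [← h2]
  exact (Module.finrank_baseChange (R := IsLocalRing.ResidueField (X.presheaf.stalk x))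
    (S := X.presheaf.stalk x) (M' := M.presheaf.stalk x)).symm

/-- on an irreducible scheme a finite locally free module has constant rank -/
theorem exists_rank_of_isFinLocFree [IrreducibleSpace X] (M : X.Modules)
    (hM : FlatMod.IsFinLocFree M) : ∃ r : ℕ, FlatMod.IsFinLocFreeOfRank r M := by
  obtain ⟨hq, hft⟩ := Groth.Agent.Lib.R2H2.PnLocFree.isCoh_of_isFinLocFree M hM
  haveI : M.IsQuasicoherent := hq
  haveI : SheafOfModules.IsFiniteType (R := X.ringCatSheaf) M := hft
  refine ⟨Module.finrank (X.presheaf.stalk (genericPoint X)) (M.presheaf.stalk (genericPoint X)),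
    fun y => ?_⟩
  obtain ⟨U, n, hyU, ⟨e⟩⟩ := hM y
  have hξ : genericPoint X ∈ U :=
    ((genericPoint_spec X).mem_open_set_iff U.isOpen).mpr ⟨y, trivial, hyU⟩
  obtain ⟨-, h2⟩ := stalk_rank_of_iso M U n e _ hξ
  rw [h2]
  exact ⟨U, hyU, ⟨e⟩⟩

/-- a coherent subsheaf of a finite locally free sheaf on a regular integral scheme of
dimension at most one is finite locally free of constant rank -/
theorem exists_rank_of_mono [IsIntegral X] [IsNoetherian X]
    (hdim : topologicalKrullDim X ≤ 1) (hreg : ∀ x : X, IsRegularLocalRing (X.presheaf.stalk x))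
    (E : X.Modules) (hE : FlatMod.IsFinLocFree E) (G : X.Modules) (hG : Coh.IsCoh G)
    (i : G ⟶ E) [Mono i] : ∃ r' : ℕ, FlatMod.IsFinLocFreeOfRank r' G := by
  haveI : G.IsQuasicoherent := hG.1
  haveI : SheafOfModules.IsFiniteType (R := X.ringCatSheaf) G := hG.2
  haveI : SheafOfModules.IsFinitePresentation (R := X.ringCatSheaf) G :=
    Groth.Agent.Lib.Helper23.FinType.isFinitePresentation_of_isFiniteType G
  obtain ⟨hqE, hftE⟩ := Groth.Agent.Lib.R2H2.PnLocFree.isCoh_of_isFinLocFree E hE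
  haveI : E.IsQuasicoherent := hqE
  haveI : SheafOfModules.IsFiniteType (R := X.ringCatSheaf) E := hftE
  haveI : SheafOfModules.IsFinitePresentation (R := X.ringCatSheaf) E :=
    Groth.Agent.Lib.Helper23.FinType.isFinitePresentation_of_isFiniteType E
  apply exists_rank_of_isFinLocFree
  rw [Groth.Agent.Lib.H9FreeFib.isFinLocFree_iff_forall_free]
  intro x
  haveI := hreg x
  haveI : IsPrincipalIdealRing (X.presheaf.stalk x) :=
    isPrincipalIdealRing_of_regular_dim_le_one _
      ((Groth.Agent.Lib.Helper4.FibDim.ringKrullDim_stalk_le_topologicalKrullDim X x).trans hdim)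
  haveI : Module.Free (X.presheaf.stalk x) (E.presheaf.stalk x) :=
    (Groth.Agent.Lib.H9FreeFib.isFinLocFree_iff_forall_free E).mp hE x
  haveI : Module.Finite (X.presheaf.stalk x) (G.presheaf.stalk x) :=
    Groth.Agent.Lib.Helper2.FibreCrit.finite_stalk G x
  haveI : Module.IsTorsionFree (X.presheaf.stalk x) (G.presheaf.stalk x) :=
    Function.Injective.moduleIsTorsionFree (stalkLin i x) (stalkLin_injective i x)
      (fun r m => (stalkLin i x).map_smul r m)
  infer_instance

end Part1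

section Part2

open Groth.Agent.Lib.Helper4.NormDelta Groth.Agent.Lib.Helper23.StalkLin

open Groth.Agent.Lib.R2H1.EulerAdd Groth.Agent.Lib.R2H1.ZeroDimCoh Groth.Agent.Lib.R2H1.CurveDegSec

theorem surjective_of_injective_of_isField {R : Type*} [CommRing R] (hR : IsField R)
    {V W : Type*} [AddCommGroup V] [Module R V] [AddCommGroup W] [Module R W]
    [Module.Finite R V] [Module.Finite R W] (f : V →ₗ[R] W) (hf : Function.Injective f)
    (h : Module.finrank R V = Module.finrank R W) : Function.Surjective f := by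
  letI := hR.toField
  exact (LinearMap.injective_iff_surjective_of_finrank_eq_finrank h).mp hf

section A

variable {X : Scheme.{u}}

theorem isField_stalk_genericPoint [IsIntegral X] :
    IsField (X.presheaf.stalk (genericPoint X)) :=
  (inferInstance : Field X.functionField).toIsField

/-- ranks increase along monomorphisms -/
theorem rank_le_of_mono [Nonempty X] {G E : X.Modules} {r' r : ℕ}
    (hG : FlatMod.IsFinLocFreeOfRank r' G) (hE : FlatMod.IsFinLocFreeOfRank r E)
    (i : G ⟶ E) [Mono i] : r' ≤ r := by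
  obtain ⟨x⟩ := (inferInstance : Nonempty X)
  obtain ⟨f1, t1, r1⟩ := Groth.Agent.Lib.R2H4DegAdd.stalk_facts hG x
  obtain ⟨f2, t2, r2⟩ := Groth.Agent.Lib.R2H4DegAdd.stalk_facts hE x
  have := LinearMap.finrank_le_finrank_of_injective (stalkLin_injective i x)
  rw [r1, r2] at this
  exact this

/-- the cokernel of a monomorphism of locally free modules of the same rank vanishes at the
generic point -/
theorem stalk_cokernel_subsingleton_generic [IsIntegral X] {N L : X.Modules} {r : ℕ}
    (hN : FlatMod.IsFinLocFreeOfRank r N) (hL : FlatMod.IsFinLocFreeOfRank r L)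
    (φ : N ⟶ L) [Mono φ] :
    Subsingleton ((cokernel φ).presheaf.stalk (genericPoint X)) := by
  set ξ := genericPoint X
  obtain ⟨f1, t1, r1⟩ := Groth.Agent.Lib.R2H4DegAdd.stalk_facts hN ξ
  obtain ⟨f2, t2, r2⟩ := Groth.Agent.Lib.R2H4DegAdd.stalk_facts hL ξ
  have hsurj := surjective_of_injective_of_isField (isField_stalk_genericPoint (X := X))
    (stalkLin φ ξ) (stalkLin_injective φ ξ) (r1.trans r2.symm)
  let S : ShortComplex X.Modules := ShortComplex.mk φ (cokernel.π φ) (cokernel.condition φ)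
  have hS : S.ShortExact :=
    { exact := ShortComplex.exact_cokernel φ
      mono_f := inferInstanceAs (Mono φ)
      epi_g := inferInstanceAs (Epi (cokernel.π φ)) }
  have hex := stalkLin_exact S hS ξ
  haveI : Epi S.g := hS.epi_g
  have hπ := stalkLin_surjective S.g ξ
  refine ⟨fun a b => ?_⟩
  obtain ⟨a', rfl⟩ := hπ a
  obtain ⟨b', rfl⟩ := hπ b
  obtain ⟨a'', rfl⟩ := hsurj a'
  obtain ⟨b'', rfl⟩ := hsurj b'
  have h1 : stalkLin S.g ξ (stalkLin S.f ξ a'') = 0 := (hex _).mpr ⟨a'', rfl⟩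
  have h2 : stalkLin S.g ξ (stalkLin S.f ξ b'') = 0 := (hex _).mpr ⟨b'', rfl⟩
  exact h1.trans h2.symm

end A

variable (k : Type u) [Field k] (X : Scheme.{u}) [X.Over (Spec (CommRingCat.of k))]
    [IsProper (X ↘ (Spec (CommRingCat.of k)))] [IsIntegral X]

/-- for a monomorphism of locally free modules of the same rank on an integral proper curve:
`χ(L) = χ(N) + h⁰(coker)`, and `h⁰(coker) = 0` forces an isomorphism -/
theorem euler_mono_same_rank (hdim : topologicalKrullDim X = 1) {N L : X.Modules} {r : ℕ}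
    (hN : FlatMod.IsFinLocFreeOfRank r N) (hL : FlatMod.IsFinLocFreeOfRank r L)
    (φ : N ⟶ L) [Mono φ] :
    Curv2.euler k X L =
        Curv2.euler k X N + (Module.finrank k (Coh.HH X (cokernel φ) 0) : ℤ) ∧
      (Module.finrank k (Coh.HH X (cokernel φ) 0) = 0 → IsIso φ) := by
  have hNc := Groth.Agent.Lib.R2H1.DegTensor.isCoh_of_rank' hN
  have hLc := Groth.Agent.Lib.R2H1.DegTensor.isCoh_of_rank' hL
  have hQc : Coh.IsCoh (cokernel φ) := Groth.Agent.Lib.R2H2.NilFilt.isCoh_cokernel hNc hLc φ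
  have hcl : IsClosed (CohB1.support (cokernel φ)) := Groth.Agent.S0020.result X _ hQc.2
  have hne : CohB1.support (cokernel φ) ≠ Set.univ := by
    intro h
    have : genericPoint X ∈ CohB1.support (cokernel φ) := h ▸ Set.mem_univ _
    exact this (stalk_cokernel_subsingleton_generic hN hL φ)
  have hsupp : topologicalKrullDim (CohB1.support (cokernel φ)) ≤ 0 :=
    dim_le_zero_of_ne_univ hdim.le _ hcl hne
  let S : ShortComplex X.Modules := ShortComplex.mk φ (cokernel.π φ) (cokernel.condition φ)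
  have hS : S.ShortExact :=
    { exact := ShortComplex.exact_cokernel φ
      mono_f := inferInstanceAs (Mono φ)
      epi_g := inferInstanceAs (Epi (cokernel.π φ)) }
  refine ⟨?_, fun h0 => ?_⟩
  · have h := s1524 k X S hS hNc hLc hQc
    rw [euler_eq_h0 k X (cokernel φ) hQc hsupp] at h
    exact h
  · have hzero : cokernel.π φ = 0 := by
      refine Scheme.Modules.hom_ext _ _ fun U => ?_
      ext l
      haveI := subsingleton_sections_of_h0 k X (cokernel φ) hQc hsupp h0 U
      exact Subsingleton.elim _ _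
    haveI : Epi φ := Abelian.epi_of_cokernel_π_eq_zero φ hzero
    exact isIso_of_mono_of_epi φ

theorem deg_le_of_mono_same_rank (hdim : topologicalKrullDim X = 1) {N L : X.Modules} {r : ℕ}
    (hN : FlatMod.IsFinLocFreeOfRank r N) (hL : FlatMod.IsFinLocFreeOfRank r L)
    (φ : N ⟶ L) [Mono φ] :
    Curv2.deg k X N r ≤ Curv2.deg k X L r ∧
      (Curv2.deg k X N r = Curv2.deg k X L r → IsIso φ) := by
  obtain ⟨h1, h2⟩ := euler_mono_same_rank k X hdim hN hL φ
  unfold Curv2.deg
  rw [h1]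
  refine ⟨by linarith [Int.natCast_nonneg (Module.finrank k (Coh.HH X (cokernel φ) 0))],
    fun h => h2 ?_⟩
  have : (Module.finrank k (Coh.HH X (cokernel φ) 0) : ℤ) = 0 := by linarith
  exact_mod_cast this

end Part2

section Part3

open Groth.Agent.Lib.Helper4.NormDelta Groth.Agent.Lib.Helper23.StalkLin

open Groth.Agent.Lib.R2H1.EulerAdd Groth.Agent.Lib.R2H1.ZeroDimCoh Groth.Agent.Lib.R2H1.CurveDegSec
open Groth.Agent.Lib.R2H1.CurveEuler Groth.Agent.Lib.R2H1.FinrankChain
open Groth.Agent.Lib.R2H1.SubDegBound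

variable (k : Type u) [Field k] (X : Scheme.{u}) [X.Over (Spec (CommRingCat.of k))]
    [IsProper (X ↘ (Spec (CommRingCat.of k)))]

/-- smooth over a field: regular stalks -/
theorem hreg_of_smooth [Smooth (X ↘ Spec (CommRingCat.of k))] :
    ∀ x : X, IsRegularLocalRing (X.presheaf.stalk x) := fun x =>
  Groth.Agent.Lib.Helper6.SmRegSch.isRegularLocalRing_stalk_of_smooth_over_field k X
    (X ↘ Spec (CommRingCat.of k)) x

/-- smooth, proper and geometrically connected over a field: integral -/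
theorem isIntegral_of_smooth_geomConn [Smooth (X ↘ Spec (CommRingCat.of k))]
    [GeometricallyConnected (X ↘ Spec (CommRingCat.of k))] : IsIntegral X := by
  haveI := isNoetherian_of_proper k X
  haveI : ConnectedSpace X :=
    GeometricallyConnected.connectedSpace_of_subsingleton (f := X ↘ Spec (CommRingCat.of k))
  exact Groth.Agent.Lib.Helper11SmInt.isIntegral_of_connected_of_isDomain_stalk
    (fun x => Groth.Agent.Lib.Helper11SmInt.isDomain_stalk_of_smooth k
      (X ↘ Spec (CommRingCat.of k)) x)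

/-- the Euler characteristic of a zero module vanishes -/
theorem euler_of_isZero (F : X.Modules) (hF : IsZero F) : Curv2.euler k X F = 0 := by
  unfold Curv2.euler
  apply finsum_eq_zero_of_forall_eq_zero
  intro i
  haveI := Groth.Agent.Lib.R2H2.KoszulShift.subsingleton_HH_of_isZero hF i
  rw [Module.finrank_zero_of_subsingleton]
  simp

/-- degree bound for subsheaves: `deg F ≤ h⁰(E) + r'(g - 1)` -/
theorem deg_sub_le (hdim : topologicalKrullDim ↥X = 1)
    (E : X.Modules) (hE : FlatMod.IsFinLocFree E) (F : X.Modules) (r' : ℕ)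
    (hF : FlatMod.IsFinLocFreeOfRank r' F) (i : F ⟶ E) [Mono i] :
    Curv2.deg k X F r' ≤ (Module.finrank k (Coh.HH X E 0) : ℤ) +
      (r' : ℤ) * ((Curv2.genus k X : ℤ) - 1) := by
  haveI := isNoetherian_of_proper k X
  haveI : Nonempty X := by
    by_contra hne
    haveI : IsEmpty X := not_nonempty_iff.1 hne
    have : topologicalKrullDim ↥X = ⊥ := by
      unfold topologicalKrullDim
      haveI : IsEmpty (IrreducibleCloseds ↥X) := ⟨fun Z => isEmptyElim Z.2.nonempty.some⟩
      exact Order.krullDim_eq_bot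
    rw [this] at hdim
    exact absurd hdim (by decide)
  have cE := Groth.Agent.Lib.R2H2.PnLocFree.isCoh_of_isFinLocFree E hE
  have cF := Groth.Agent.Lib.R2H1.DegTensor.isCoh_of_rank' hF
  have cO : Coh.IsCoh (Coh.structureModule X) :=
    Groth.Agent.Lib.R2H1.GenusLe.isCoh_structureModule X
  have hS : (ShortComplex.mk i (cokernel.π i) (cokernel.condition i)).ShortExact :=
    { exact := ShortComplex.exact_cokernel i
      mono_f := inferInstance
      epi_g := inferInstance }
  have h1 : hh k X F 0 ≤ hh k X E 0 := hh_left_zero_le k _ hS cF cE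
  have h2 := euler_eq_h0_sub_h1 k X hdim.le F cF.1
  have h3 := euler_eq_h0_sub_h1 k X hdim.le _ cO.1
  have h4 := h0_structure_pos k X
  unfold Curv2.deg
  rw [h2, h3]
  have h5 : (Module.finrank k (Coh.HH X (Coh.structureModule X) 1) : ℤ) = Curv2.genus k X := rfl
  rw [h5]
  have h1' : (Module.finrank k (Coh.HH X F 0) : ℤ) ≤ Module.finrank k (Coh.HH X E 0) := by
    exact_mod_cast h1
  have h4' : (1 : ℤ) ≤ Module.finrank k (Coh.HH X (Coh.structureModule X) 0) := by
    exact_mod_cast h4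
  have h6 : (0 : ℤ) ≤ Module.finrank k (Coh.HH X F 1) := by positivity
  have h7 : (0 : ℤ) ≤ (r' : ℤ) := by positivity
  nlinarith [mul_le_mul_of_nonneg_left h4' h7]

variable [IsIntegral X]

/-- kernel/image decomposition of a map of locally free modules on a regular integral proper
curve -/
theorem exists_ker_im (hdim : topologicalKrullDim X = 1)
    (hreg : ∀ x : X, IsRegularLocalRing (X.presheaf.stalk x))
    {E F : X.Modules} {r s : ℕ} (hE : FlatMod.IsFinLocFreeOfRank r E)
    (hF : FlatMod.IsFinLocFreeOfRank s F) (f : E ⟶ F) :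
    ∃ (K I : X.Modules) (a : K ⟶ E) (p : E ⟶ I) (j : I ⟶ F) (r₀ r₁ : ℕ),
      Mono a ∧ Epi p ∧ Mono j ∧ p ≫ j = f ∧ a ≫ p = 0 ∧
      FlatMod.IsFinLocFreeOfRank r₀ K ∧ FlatMod.IsFinLocFreeOfRank r₁ I ∧ r = r₀ + r₁ ∧
      Curv2.deg k X E r = Curv2.deg k X K r₀ + Curv2.deg k X I r₁ ∧
      (r₀ = 0 → Mono f) ∧ (r₁ = 0 → f = 0) ∧ r₁ ≤ s := by
  haveI := isNoetherian_of_proper k X
  have cE := Groth.Agent.Lib.R2H1.DegTensor.isCoh_of_rank' hE
  have cF := Groth.Agent.Lib.R2H1.DegTensor.isCoh_of_rank' hF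
  have lE := Groth.Agent.Lib.R2H4DegAdd.isFinLocFree_of_rank hE
  have lF := Groth.Agent.Lib.R2H4DegAdd.isFinLocFree_of_rank hF
  have cQ : Coh.IsCoh (cokernel f) := Groth.Agent.Lib.R2H2.NilFilt.isCoh_cokernel cE cF f
  have cI : Coh.IsCoh (Abelian.image f) :=
    Groth.Agent.Lib.R2H2.PdSheaf.isCoh_kernel cF cQ (cokernel.π f)
  have cK : Coh.IsCoh (kernel (Abelian.factorThruImage f)) :=
    Groth.Agent.Lib.R2H2.PdSheaf.isCoh_kernel cE cI (Abelian.factorThruImage f)
  obtain ⟨r₁, hI⟩ := exists_rank_of_mono hdim.le hreg F lF (Abelian.image f) cI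
    (Abelian.image.ι f)
  obtain ⟨r₀, hK⟩ := exists_rank_of_mono hdim.le hreg E lE _ cK
    (kernel.ι (Abelian.factorThruImage f))
  let S : ShortComplex X.Modules := ShortComplex.mk (kernel.ι (Abelian.factorThruImage f))
    (Abelian.factorThruImage f) (kernel.condition _)
  have hS : S.ShortExact :=
    { exact := ShortComplex.exact_kernel _
      mono_f := inferInstanceAs (Mono (kernel.ι (Abelian.factorThruImage f)))
      epi_g := inferInstanceAs (Epi (Abelian.factorThruImage f)) }
  have hrk : r = r₀ + r₁ := Groth.Agent.Lib.R2H4DegAdd.rank_add S hS r₀ r r₁ hK hE hI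
  have hdeg := Groth.Agent.Lib.R2H4DegAdd.main k X S hS r₀ r r₁ hK hE hI
  refine ⟨_, _, kernel.ι (Abelian.factorThruImage f), Abelian.factorThruImage f,
    Abelian.image.ι f, r₀, r₁, inferInstance, inferInstance, inferInstance,
    Abelian.image.fac f, kernel.condition _, hK, hI, hrk, hdeg, ?_, ?_, ?_⟩
  · intro h0
    subst h0
    have hz : IsZero (kernel (Abelian.factorThruImage f)) :=
      Groth.Agent.Lib.R2H2.AmpleElt.isZero_of_rank_zero hK
    haveI : Mono (Abelian.factorThruImage f) :=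
      Preadditive.mono_of_kernel_zero (hz.eq_of_src _ _)
    rw [← Abelian.image.fac f]
    infer_instance
  · intro h1
    subst h1
    have hz : IsZero (Abelian.image f) :=
      Groth.Agent.Lib.R2H2.AmpleElt.isZero_of_rank_zero hI
    rw [← Abelian.image.fac f, hz.eq_of_tgt (Abelian.factorThruImage f) 0, zero_comp]
  · exact rank_le_of_mono hI hF (Abelian.image.ι f)

end Part3

section Part4


open Groth.Agent.Lib.R2H1.CurveEuler

variable (k : Type u) [Field k] (X : Scheme.{u}) [X.Over (Spec (CommRingCat.of k))]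
    [IsProper (X ↘ (Spec (CommRingCat.of k)))] [IsIntegral X]

/-- S15331 -/
theorem bddAbove_deg_sub (hdim : topologicalKrullDim X = 1)
    (r : ℕ) (E : X.Modules) (hE : FlatMod.IsFinLocFreeOfRank r E) :
    ∃ N : ℤ, ∀ (F : X.Modules) (r' : ℕ) (i : F ⟶ E), Mono i → FlatMod.IsFinLocFreeOfRank r' F →
      Curv2.deg k X F r' ≤ N := by
  refine ⟨(Module.finrank k (Coh.HH X E 0) : ℤ) + (r : ℤ) * (Curv2.genus k X : ℤ),
    fun F r' i hi hF => ?_⟩
  haveI := hi
  have h1 := deg_sub_le k X hdim E (Groth.Agent.Lib.R2H4DegAdd.isFinLocFree_of_rank hE) F r' hF i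
  have h2 : r' ≤ r := rank_le_of_mono hF hE i
  have h2' : (r' : ℤ) ≤ r := by exact_mod_cast h2
  have h3 : (0 : ℤ) ≤ Curv2.genus k X := by positivity
  have h4 : (0 : ℤ) ≤ r' := by positivity
  nlinarith [mul_le_mul_of_nonneg_right h2' h3]

/-- S11826 -/
theorem bddAbove_deg_invertible_sub (hdim : topologicalKrullDim X = 1)
    (r : ℕ) (E : X.Modules) (hE : FlatMod.IsFinLocFreeOfRank r E) :
    ∃ N : ℤ, ∀ (M : X.Modules) (i : M ⟶ E), Mono i → PicF.IsInvertible M →
      Curv2.deg k X M 1 ≤ N := by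
  obtain ⟨N, hN⟩ := bddAbove_deg_sub k X hdim r E hE
  exact ⟨N, fun M i hi hM => hN M 1 i hi
    (Groth.Agent.Lib.Helper23.SecTw.isFinLocFreeOfRank_one_of_isInvertible M hM)⟩

/-- S14136 core -/
theorem hom_eq_zero_of_slope_gt (hdim : topologicalKrullDim X = 1)
    (hreg : ∀ x : X, IsRegularLocalRing (X.presheaf.stalk x))
    (r s : ℕ) (hr : 0 < r) (hs : 0 < s) (E F : X.Modules)
    (hE : FlatMod.IsFinLocFreeOfRank r E) (hF : FlatMod.IsFinLocFreeOfRank s F)
    (hEss : ∀ (G : X.Modules) (r' : ℕ) (i : G ⟶ E), Mono i → 0 < r' →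
      FlatMod.IsFinLocFreeOfRank r' G → Curv2.deg k X G r' * (r : ℤ) ≤ Curv2.deg k X E r * (r' : ℤ))
    (hFss : ∀ (G : X.Modules) (r' : ℕ) (i : G ⟶ F), Mono i → 0 < r' →
      FlatMod.IsFinLocFreeOfRank r' G → Curv2.deg k X G r' * (s : ℤ) ≤ Curv2.deg k X F s * (r' : ℤ))
    (hslope : Curv2.deg k X F s * (r : ℤ) < Curv2.deg k X E r * (s : ℤ)) (f : E ⟶ F) : f = 0 := by
  obtain ⟨K, I, a, p, j, r₀, r₁, ha, hp, hj, hpj, hap, hK, hI, hrk, hdeg, h0, h1, hle⟩ :=
    exists_ker_im k X hdim hreg hE hF f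
  by_contra hf
  have hr₁ : 0 < r₁ := Nat.pos_of_ne_zero fun h => hf (h1 h)
  have e2 := hFss I r₁ j hj hr₁ hI
  have hr' : (0 : ℤ) < r := by exact_mod_cast hr
  have hs' : (0 : ℤ) < s := by exact_mod_cast hs
  have hr₁' : (0 : ℤ) < r₁ := by exact_mod_cast hr₁
  rcases Nat.eq_zero_or_pos r₀ with h | h
  · haveI := h0 h
    have := hFss E r f inferInstance hr hE
    linarith
  · have e1 := hEss K r₀ a ha h hK
    have hrk' : (r : ℤ) = r₀ + r₁ := by exact_mod_cast hrk
    have e3 : Curv2.deg k X E r * (r₁ : ℤ) ≤ Curv2.deg k X I r₁ * (r : ℤ) := by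
      rw [hdeg] at e1 ⊢
      rw [hrk'] at e1 ⊢
      nlinarith
    nlinarith [mul_le_mul_of_nonneg_right e3 hs'.le, mul_le_mul_of_nonneg_right e2 hr'.le,
      mul_pos (sub_pos.mpr hslope) hr₁']

/-- S15332 core -/
theorem hom_eq_zero_of_sub_slopes_lt (hdim : topologicalKrullDim X = 1)
    (hreg : ∀ x : X, IsRegularLocalRing (X.presheaf.stalk x))
    (r s : ℕ) (hr : 0 < r) (hs : 0 < s) (E F : X.Modules)
    (hE : FlatMod.IsFinLocFreeOfRank r E) (hF : FlatMod.IsFinLocFreeOfRank s F)
    (hEss : ModFun.IsSlopeSemistable k X E r)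
    (hmax : ∀ (G : X.Modules) (r' : ℕ) (i : G ⟶ F), Mono i → 0 < r' →
      FlatMod.IsFinLocFreeOfRank r' G → Curv2.deg k X G r' * (r : ℤ) < Curv2.deg k X E r * (r' : ℤ))
    (f : E ⟶ F) : f = 0 := by
  obtain ⟨K, I, a, p, j, r₀, r₁, ha, hp, hj, hpj, hap, hK, hI, hrk, hdeg, h0, h1, hle⟩ :=
    exists_ker_im k X hdim hreg hE hF f
  by_contra hf
  have hr₁ : 0 < r₁ := Nat.pos_of_ne_zero fun h => hf (h1 h)
  have e2 := hmax I r₁ j hj hr₁ hI
  rcases Nat.eq_zero_or_pos r₀ with h | h
  · haveI := h0 h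
    have := hmax E r f inferInstance hr hE
    linarith
  · have e1 := hEss K r₀ a ha h hK
    have hrk' : (r : ℤ) = r₀ + r₁ := by exact_mod_cast hrk
    rw [hdeg] at e1 e2
    rw [hrk'] at e1 e2
    nlinarith

/-- S14137 core -/
theorem isIso_of_ne_zero_endo_of_stable (hdim : topologicalKrullDim X = 1)
    (hreg : ∀ x : X, IsRegularLocalRing (X.presheaf.stalk x))
    (r : ℕ) (hr : 0 < r) (E : X.Modules) (hE : FlatMod.IsFinLocFreeOfRank r E)
    (hEst : ∀ (G : X.Modules) (r' : ℕ) (i : G ⟶ E), Mono i → 0 < r' →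
      FlatMod.IsFinLocFreeOfRank r' G → (¬ IsIso i) →
      Curv2.deg k X G r' * (r : ℤ) < Curv2.deg k X E r * (r' : ℤ))
    (f : E ⟶ E) (hf : f ≠ 0) : IsIso f := by
  obtain ⟨K, I, a, p, j, r₀, r₁, ha, hp, hj, hpj, hap, hK, hI, hrk, hdeg, h0, h1, hle⟩ :=
    exists_ker_im k X hdim hreg hE hE f
  have hr₁ : 0 < r₁ := Nat.pos_of_ne_zero fun h => hf (h1 h)
  rcases Nat.eq_zero_or_pos r₀ with h | h
  · haveI := h0 h
    by_contra hni
    have := hEst E r f inferInstance hr hE hni
    linarith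
  · exfalso
    have hna : ¬ IsIso a := by
      intro hia
      apply hf
      have : p = 0 := by
        rw [← cancel_epi a, hap, comp_zero]
      rw [← hpj, this, zero_comp]
    have hnj : ¬ IsIso j := by
      intro hij
      haveI := hij
      have h2 : r ≤ r₁ := rank_le_of_mono hE hI (inv j)
      omega
    have e1 := hEst K r₀ a ha h hK hna
    have e2 := hEst I r₁ j hj hr₁ hI hnj
    have hrk' : (r : ℤ) = r₀ + r₁ := by exact_mod_cast hrk
    rw [hdeg] at e1 e2
    rw [hrk'] at e1 e2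
    nlinarith

/-- S15333 core -/
theorem isIso_of_ne_zero_hom_stable_slope_eq (hdim : topologicalKrullDim X = 1)
    (hreg : ∀ x : X, IsRegularLocalRing (X.presheaf.stalk x))
    (r s : ℕ) (hr : 0 < r) (hs : 0 < s) (E F : X.Modules)
    (hE : FlatMod.IsFinLocFreeOfRank r E) (hF : FlatMod.IsFinLocFreeOfRank s F)
    (hEst : ModFun.IsSlopeStable k X E r)
    (hFss : ModFun.IsSlopeSemistable k X F s) (hFst : ModFun.IsSlopeStable k X F s)
    (hμ : Curv2.deg k X E r * (s : ℤ) = Curv2.deg k X F s * (r : ℤ))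
    (f : E ⟶ F) (hf : f ≠ 0) : IsIso f := by
  obtain ⟨K, I, a, p, j, r₀, r₁, ha, hp, hj, hpj, hap, hK, hI, hrk, hdeg, h0, h1, hle⟩ :=
    exists_ker_im k X hdim hreg hE hF f
  have hr₁ : 0 < r₁ := Nat.pos_of_ne_zero fun h => hf (h1 h)
  have hr' : (0 : ℤ) < r := by exact_mod_cast hr
  have hs' : (0 : ℤ) < s := by exact_mod_cast hs
  have hr₁' : (0 : ℤ) < r₁ := by exact_mod_cast hr₁
  rcases Nat.eq_zero_or_pos r₀ with h | h
  · haveI := h0 h
    have hrs : r ≤ s := rank_le_of_mono hE hF f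
    rcases Nat.lt_or_ge r s with hlt | hge
    · have := hFst E r f inferInstance hr hlt hE
      linarith
    · obtain rfl : r = s := le_antisymm hrs hge
      have hd : Curv2.deg k X E r = Curv2.deg k X F r := by
        have := mul_right_cancel₀ (ne_of_gt hr') hμ
        exact this
      exact (deg_le_of_mono_same_rank k X hdim hE hF f).2 hd
  · exfalso
    have e1 := hEst K r₀ a ha h (by omega) hK
    have e2 := hFss I r₁ j hj hr₁ hI
    have hrk' : (r : ℤ) = r₀ + r₁ := by exact_mod_cast hrk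
    have e3 : Curv2.deg k X E r * (r₁ : ℤ) < Curv2.deg k X I r₁ * (r : ℤ) := by
      rw [hdeg] at e1 ⊢
      rw [hrk'] at e1 ⊢
      nlinarith
    nlinarith [mul_lt_mul_of_pos_right e3 hs', mul_le_mul_of_nonneg_right e2 hr'.le]

/-- S11810 core -/
theorem isIso_of_ne_zero_hom_semistable_eq_rank_deg (hdim : topologicalKrullDim X = 1)
    (hreg : ∀ x : X, IsRegularLocalRing (X.presheaf.stalk x))
    (r : ℕ) (hr : 0 < r) (E E' : X.Modules) (hE : FlatMod.IsFinLocFreeOfRank r E)
    (hE' : FlatMod.IsFinLocFreeOfRank r E')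
    (hdeg : Curv2.deg k X E r = Curv2.deg k X E' r)
    (hss : (∀ (F : X.Modules) (r' : ℕ) (i : F ⟶ E), Mono i → 0 < r' →
      FlatMod.IsFinLocFreeOfRank r' F →
      Curv2.deg k X F r' * (r : ℤ) ≤ Curv2.deg k X E r * (r' : ℤ)))
    (hss' : (∀ (F : X.Modules) (r' : ℕ) (i : F ⟶ E'), Mono i → 0 < r' →
      FlatMod.IsFinLocFreeOfRank r' F →
      Curv2.deg k X F r' * (r : ℤ) ≤ Curv2.deg k X E' r * (r' : ℤ)))
    (hst : (∀ (F : X.Modules) (r' : ℕ) (i : F ⟶ E), Mono i → 0 < r' → r' < r →
      FlatMod.IsFinLocFreeOfRank r' F →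
      Curv2.deg k X F r' * (r : ℤ) < Curv2.deg k X E r * (r' : ℤ)) ∨
      (∀ (F : X.Modules) (r' : ℕ) (i : F ⟶ E'), Mono i → 0 < r' → r' < r →
      FlatMod.IsFinLocFreeOfRank r' F →
      Curv2.deg k X F r' * (r : ℤ) < Curv2.deg k X E' r * (r' : ℤ)))
    (f : E ⟶ E') (hf : f ≠ 0) : IsIso f := by
  obtain ⟨K, I, a, p, j, r₀, r₁, ha, hp, hj, hpj, hap, hK, hI, hrk, hdg, h0, h1, hle⟩ :=
    exists_ker_im k X hdim hreg hE hE' f
  have hr₁ : 0 < r₁ := Nat.pos_of_ne_zero fun h => hf (h1 h)
  rcases Nat.eq_zero_or_pos r₀ with h | h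
  · haveI := h0 h
    exact (deg_le_of_mono_same_rank k X hdim hE hE' f).2 hdeg
  · exfalso
    have e1 := hss K r₀ a ha h hK
    have e2 := hss' I r₁ j hj hr₁ hI
    have hrk' : (r : ℤ) = r₀ + r₁ := by exact_mod_cast hrk
    rcases hst with hst | hst
    · have e1' := hst K r₀ a ha h (by omega) hK
      rw [← hdeg] at e2
      rw [hdg] at e1' e2
      rw [hrk'] at e1' e2
      nlinarith
    · have e2' := hst I r₁ j hj hr₁ (by omega) hI
      rw [← hdeg] at e2'
      rw [hdg] at e1 e2'
      rw [hrk'] at e1 e2'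
      nlinarith

end Part4

end Groth.Agent.Lib.R2H1.VBSub
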