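import Mathlib
import Groth.Agent.Lib.R2H1VBSub
import Groth.Agent.Lib.R2H1SkyDecomp
set_option backward.isDefEq.respectTransparency.types false

/-!
Line subbundles of rank two bundles on integral proper curves: not_isZero_of_rank_pos, iso_of_comp_eq_zero, deg_rank_two, s11827, s11816, s11830, s11829 (Krull-Schmidt for sums of two line bundles).
-/

set_option autoImplicit false
set_option linter.style.haveILetI false
set_option linter.unusedSectionVars false
universe u v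

open CategoryTheory CategoryTheory.Limits AlgebraicGeometry TopologicalSpace Opposite

namespace Groth.Agent.Lib.R2H1.VBRankTwo

section Part1

open Groth.Agent.Lib.R2H1.VBSub
open Groth.Agent.Lib.R2H1.CurveEuler Groth.Agent.Lib.R2H1.CurveDegSec
open Groth.Agent.Lib.R2H1.InvHom

section A

variable {X : Scheme.{u}}

/-- a locally free module of positive rank on a nonempty scheme is not zero -/
theorem not_isZero_of_rank_pos [Nonempty X] {M : X.Modules} {r : ℕ}
    (hM : FlatMod.IsFinLocFreeOfRank r M) (hr : 0 < r) : ¬ IsZero M := by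
  intro hz
  obtain ⟨x⟩ := (inferInstance : Nonempty X)
  obtain ⟨f1, t1, r1⟩ := Groth.Agent.Lib.R2H4DegAdd.stalk_facts hM x
  haveI : Subsingleton (M.presheaf.stalk x) := by
    refine subsingleton_of_forall_eq 0 fun y => ?_
    obtain ⟨U, hxU, m, rfl⟩ := TopCat.Presheaf.exists_germ_eq M.presheaf (x := x) y
    haveI := Groth.Agent.Lib.R2H1.SkyDecomp.subsingleton_sections_of_isZero hz U
    rw [Subsingleton.elim m 0, map_zero]
  rw [Module.finrank_zero_of_subsingleton] at r1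
  omega

theorem not_isZero_of_isInvertible [Nonempty X] {M : X.Modules} (hM : PicF.IsInvertible M) :
    ¬ IsZero M :=
  not_isZero_of_rank_pos
    (Groth.Agent.Lib.Helper23.SecTw.isFinLocFreeOfRank_one_of_isInvertible M hM) Nat.one_pos

theorem mono_ne_zero_of_isInvertible [Nonempty X] {M E : X.Modules} (hM : PicF.IsInvertible M)
    (i : M ⟶ E) [Mono i] : i ≠ 0 := by
  intro h
  apply not_isZero_of_isInvertible hM
  rw [IsZero.iff_id_eq_zero, ← cancel_mono i, h, comp_zero, comp_zero]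

end A

variable (k : Type u) [Field k] (X : Scheme.{u}) [X.Over (Spec (CommRingCat.of k))]
    [IsProper (X ↘ (Spec (CommRingCat.of k)))] [IsIntegral X]

/-- if an invertible `N ↪ E` with invertible cokernel maps to zero in the quotient `E/L` of an
invertible `L ↪ E`, then `N ≅ L` compatibly. -/
theorem iso_of_comp_eq_zero {E L N : X.Modules} (hL : PicF.IsInvertible L)
    (hN : PicF.IsInvertible N) (i : L ⟶ E) [Mono i] (j : N ⟶ E) [Mono j]
    (hq : PicF.IsInvertible (cokernel j)) (h : j ≫ cokernel.π i = 0) :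
    ∃ φ : N ≅ L, φ.hom ≫ i = j := by
  set φ := Abelian.monoLift i j h with hφdef
  have hφ : φ ≫ i = j := Abelian.monoLift_comp i j h
  have hψ : i ≫ cokernel.π j = 0 := by
    by_contra hne
    haveI := mono_of_ne_zero hL hq _ hne
    have h1 : φ ≫ (i ≫ cokernel.π j) = 0 := by
      rw [← Category.assoc, hφ, cokernel.condition]
    have hφ0 : φ = 0 := by
      rw [← cancel_mono (i ≫ cokernel.π j), h1, zero_comp]
    exact mono_ne_zero_of_isInvertible hN j (by rw [← hφ, hφ0, zero_comp])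
  set θ := Abelian.monoLift j i hψ with hθdef
  have hθ : θ ≫ j = i := Abelian.monoLift_comp j i hψ
  refine ⟨⟨φ, θ, ?_, ?_⟩, hφ⟩
  · rw [← cancel_mono j, Category.assoc, hθ, hφ, Category.id_comp]
  · rw [← cancel_mono i, Category.assoc, hφ, hθ, Category.id_comp]

/-- S11827 core -/
theorem s11827 (hdim : topologicalKrullDim X = 1)
    (S : ShortComplex X.Modules) (hS : S.ShortExact)
    (hL : PicF.IsInvertible S.X₁) (hM : PicF.IsInvertible S.X₃)
    (N : X.Modules) (hN : PicF.IsInvertible N) (j : N ⟶ S.X₂) [Mono j]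
    (hq : PicF.IsInvertible (cokernel j)) :
    (∃ φ : N ≅ S.X₁, φ.hom ≫ S.f = j) ∨ Curv2.deg k X N 1 ≤ Curv2.deg k X S.X₃ 1 := by
  haveI := hS.mono_f
  haveI := hS.epi_g
  by_cases h : j ≫ S.g = 0
  · left
    refine iso_of_comp_eq_zero X hL hN S.f j hq ?_
    have h1 : hS.exact.lift j h ≫ S.f = j := hS.exact.lift_f j h
    rw [← h1, Category.assoc, cokernel.condition, comp_zero]
  · right
    exact (s1521 k X hdim N S.X₃ hN hM (j ≫ S.g) h).1

/-- degree additivity for an invertible submodule of a rank two bundle with invertible cokernel -/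
theorem deg_rank_two (E : X.Modules) (hE : FlatMod.IsFinLocFreeOfRank 2 E) {M : X.Modules}
    (hM : PicF.IsInvertible M) (i : M ⟶ E) [Mono i] (hq : PicF.IsInvertible (cokernel i)) :
    Curv2.deg k X E 2 = Curv2.deg k X M 1 + Curv2.deg k X (cokernel i) 1 := by
  let S : ShortComplex X.Modules := ShortComplex.mk i (cokernel.π i) (cokernel.condition i)
  have hS : S.ShortExact :=
    { exact := ShortComplex.exact_cokernel i
      mono_f := inferInstanceAs (Mono i)
      epi_g := inferInstanceAs (Epi (cokernel.π i)) }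
  exact Groth.Agent.Lib.R2H4DegAdd.main k X S hS 1 2 1
    (Groth.Agent.Lib.Helper23.SecTw.isFinLocFreeOfRank_one_of_isInvertible M hM) hE
    (Groth.Agent.Lib.Helper23.SecTw.isFinLocFreeOfRank_one_of_isInvertible _ hq)

/-- S11816 core -/
theorem s11816 (hdim : topologicalKrullDim X = 1)
    (E : X.Modules) (hE : FlatMod.IsFinLocFreeOfRank 2 E)
    (M M' : X.Modules) (hM : PicF.IsInvertible M) (hM' : PicF.IsInvertible M')
    (i : M ⟶ E) (i' : M' ⟶ E) [Mono i] [Mono i']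
    (hq : PicF.IsInvertible (cokernel i)) (hq' : PicF.IsInvertible (cokernel i'))
    (hd : Curv2.deg k X E 2 < 2 * Curv2.deg k X M 1)
    (hd' : Curv2.deg k X E 2 < 2 * Curv2.deg k X M' 1) :
    ∃ φ : M ≅ M', φ.hom ≫ i' = i := by
  refine iso_of_comp_eq_zero X hM' hM i' i hq ?_
  by_contra hne
  have h1 := (s1521 k X hdim M (cokernel i') hM hq' (i ≫ cokernel.π i') hne).1
  have h2 := deg_rank_two k X E hE hM' i' hq'
  linarith

/-- S11830 core -/
theorem s11830 (hdim : topologicalKrullDim X = 1)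
    (E : X.Modules) (hE : FlatMod.IsFinLocFreeOfRank 2 E)
    (L L' : X.Modules) (hL : PicF.IsInvertible L) (hL' : PicF.IsInvertible L')
    (i : L ⟶ E) (i' : L' ⟶ E) [Mono i] [Mono i']
    (hq : PicF.IsInvertible (cokernel i)) (hq' : PicF.IsInvertible (cokernel i'))
    (hd : 2 * Curv2.deg k X L 1 = Curv2.deg k X E 2)
    (hd' : 2 * Curv2.deg k X L' 1 = Curv2.deg k X E 2) :
    Nonempty (L ⊞ cokernel i ≅ L' ⊞ cokernel i') := by
  have h2 := deg_rank_two k X E hE hL i hq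
  have h2' := deg_rank_two k X E hE hL' i' hq'
  by_cases h : i ≫ cokernel.π i' = 0
  · obtain ⟨φ, hφ⟩ := iso_of_comp_eq_zero X hL' hL i' i hq h
    have e2 : cokernel i ≅ cokernel i' :=
      cokernel.mapIso i i' φ (Iso.refl E) (by rw [Iso.refl_hom, Category.comp_id, hφ])
    exact ⟨biprod.mapIso φ e2⟩
  · haveI : IsIso (i ≫ cokernel.π i') :=
      (s1521 k X hdim L (cokernel i') hL hq' (i ≫ cokernel.π i') h).2 (by linarith)
    have h' : i' ≫ cokernel.π i ≠ 0 := by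
      intro h0
      obtain ⟨ψ, hψ⟩ := iso_of_comp_eq_zero X hL hL' i i' hq' h0
      apply h
      have : i = ψ.inv ≫ i' := by rw [← hψ, Iso.inv_hom_id_assoc]
      rw [this, Category.assoc, cokernel.condition, comp_zero]
    haveI : IsIso (i' ≫ cokernel.π i) :=
      (s1521 k X hdim L' (cokernel i) hL' hq (i' ≫ cokernel.π i) h').2 (by linarith)
    exact ⟨biprod.mapIso (asIso (i ≫ cokernel.π i')) (asIso (i' ≫ cokernel.π i)).symm ≪≫
      biprod.braiding _ _⟩

include k in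
/-- S11829 core -/
theorem s11829 (hdim : topologicalKrullDim X = 1)
    (L₁ L₂ M₁ M₂ : X.Modules) (h₁ : PicF.IsInvertible L₁) (h₂ : PicF.IsInvertible L₂)
    (h₃ : PicF.IsInvertible M₁) (h₄ : PicF.IsInvertible M₂) (e : L₁ ⊞ L₂ ≅ M₁ ⊞ M₂) :
    (Nonempty (L₁ ≅ M₁) ∧ Nonempty (L₂ ≅ M₂)) ∨ (Nonempty (L₁ ≅ M₂) ∧ Nonempty (L₂ ≅ M₁)) := by
  have hid : (biprod.inl ≫ e.hom ≫ biprod.fst) ≫ (biprod.inl ≫ e.inv ≫ biprod.fst) +
      (biprod.inl ≫ e.hom ≫ biprod.snd) ≫ (biprod.inr ≫ e.inv ≫ biprod.fst) = 𝟙 L₁ := by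
    have h1 : (biprod.inl : L₁ ⟶ L₁ ⊞ L₂) ≫ e.hom ≫ (biprod.fst ≫ biprod.inl +
        biprod.snd ≫ biprod.inr) ≫ e.inv ≫ biprod.fst = 𝟙 L₁ := by
      rw [biprod.total, Category.id_comp, Iso.hom_inv_id_assoc, biprod.inl_fst]
    rw [← h1]
    simp only [Preadditive.add_comp, Preadditive.comp_add, Category.assoc]
  have hne : 𝟙 L₁ ≠ 0 := fun h => not_isZero_of_isInvertible h₁ ((IsZero.iff_id_eq_zero _).mpr h)
  by_cases hA : (biprod.inl ≫ e.hom ≫ biprod.fst : L₁ ⟶ M₁) ≫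
      (biprod.inl ≫ e.inv ≫ biprod.fst : M₁ ⟶ L₁) = 0
  · -- second summand is nonzero
    right
    have hB : (biprod.inl ≫ e.hom ≫ biprod.snd : L₁ ⟶ M₂) ≫
        (biprod.inr ≫ e.inv ≫ biprod.fst : M₂ ⟶ L₁) ≠ 0 := by
      intro hB
      rw [hA, hB, add_zero] at hid
      exact hne hid.symm
    have ha : (biprod.inl ≫ e.hom ≫ biprod.snd : L₁ ⟶ M₂) ≠ 0 := fun h => hB (by rw [h, zero_comp])
    have hb : (biprod.inr ≫ e.inv ≫ biprod.fst : M₂ ⟶ L₁) ≠ 0 := fun h => hB (by rw [h, comp_zero])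
    have d1 := (s1521 k X hdim L₁ M₂ h₁ h₄ _ ha)
    have d2 := (s1521 k X hdim M₂ L₁ h₄ h₁ _ hb)
    haveI : IsIso (biprod.inl ≫ e.hom ≫ biprod.snd : L₁ ⟶ M₂) := d1.2 (le_antisymm d1.1 d2.1)
    let e' : L₁ ⊞ L₂ ≅ M₂ ⊞ M₁ := e ≪≫ biprod.braiding M₁ M₂
    have he' : (biprod.inl ≫ e'.hom ≫ biprod.fst : L₁ ⟶ M₂) = biprod.inl ≫ e.hom ≫ biprod.snd := by
      simp [e']
    haveI : IsIso (biprod.inl ≫ e'.hom ≫ biprod.fst : L₁ ⟶ M₂) := by rw [he']; infer_instance
    exact ⟨⟨asIso (biprod.inl ≫ e.hom ≫ biprod.snd : L₁ ⟶ M₂)⟩, ⟨Biprod.isoElim e'⟩⟩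
  · left
    have ha : (biprod.inl ≫ e.hom ≫ biprod.fst : L₁ ⟶ M₁) ≠ 0 := fun h => hA (by rw [h, zero_comp])
    have hb : (biprod.inl ≫ e.inv ≫ biprod.fst : M₁ ⟶ L₁) ≠ 0 := fun h => hA (by rw [h, comp_zero])
    have d1 := (s1521 k X hdim L₁ M₁ h₁ h₃ _ ha)
    have d2 := (s1521 k X hdim M₁ L₁ h₃ h₁ _ hb)
    haveI : IsIso (biprod.inl ≫ e.hom ≫ biprod.fst : L₁ ⟶ M₁) := d1.2 (le_antisymm d1.1 d2.1)
    exact ⟨⟨asIso (biprod.inl ≫ e.hom ≫ biprod.fst : L₁ ⟶ M₁)⟩, ⟨Biprod.isoElim e⟩⟩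

end Part1

end Groth.Agent.Lib.R2H1.VBRankTwo
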