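import Mathlib
import Groth.Agent.Lib.R2H1VBRankTwo
set_option backward.isDefEq.respectTransparency.types false

/-!
More slope stability on regular integral proper curves: isIso_of_ne_zero_endo_of_slopeStable, indecomposable_of_slopeStable, hom_quotient_to_sub_eq_zero, pullback_ses (abelian categories), deg_rank_zero, semistable_extension_iff, slope_sub_biprod_le_max.
-/

set_option autoImplicit false
set_option linter.style.haveILetI false
set_option linter.unusedSectionVars false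
universe u v

open CategoryTheory CategoryTheory.Limits AlgebraicGeometry TopologicalSpace Opposite

namespace Groth.Agent.Lib.R2H1.VBSlopeB

section Part1

open Groth.Agent.Lib.R2H1.VBSub Groth.Agent.Lib.R2H1.VBRankTwo

variable (k : Type u) [Field k] (X : Scheme.{u}) [X.Over (Spec (CommRingCat.of k))]
    [IsProper (X ↘ (Spec (CommRingCat.of k)))] [IsIntegral X]

/-- nonzero endomorphisms of slope-stable bundles are isomorphisms -/
theorem isIso_of_ne_zero_endo_of_slopeStable (hdim : topologicalKrullDim X = 1)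
    (hreg : ∀ x : X, IsRegularLocalRing (X.presheaf.stalk x))
    (r : ℕ) (E : X.Modules) (hE : FlatMod.IsFinLocFreeOfRank r E)
    (hst : ModFun.IsSlopeStable k X E r) (f : E ⟶ E) (hf : f ≠ 0) : IsIso f := by
  obtain ⟨K, I, a, p, j, r₀, r₁, ha, hp, hj, hpj, hap, hK, hI, hrk, hdeg, h0, h1, hle⟩ :=
    exists_ker_im k X hdim hreg hE hE f
  have hr₁ : 0 < r₁ := Nat.pos_of_ne_zero fun h => hf (h1 h)
  rcases Nat.eq_zero_or_pos r₀ with h | h
  · haveI := h0 h
    exact (deg_le_of_mono_same_rank k X hdim hE hE f).2 rfl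
  · exfalso
    have e1 := hst K r₀ a ha h (by omega) hK
    have e2 := hst I r₁ j hj hr₁ (by omega) hI
    have hrk' : (r : ℤ) = r₀ + r₁ := by exact_mod_cast hrk
    rw [hdeg] at e1 e2
    rw [hrk'] at e1 e2
    nlinarith

/-- S15340 core -/
theorem indecomposable_of_slopeStable (hdim : topologicalKrullDim X = 1)
    (hreg : ∀ x : X, IsRegularLocalRing (X.presheaf.stalk x))
    (r : ℕ) (hr : 0 < r) (E : X.Modules) (hE : FlatMod.IsFinLocFreeOfRank r E)
    (hst : ModFun.IsSlopeStable k X E r) :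
    ¬ IsZero E ∧ ∀ (E₁ E₂ : X.Modules), Nonempty (E ≅ E₁ ⊞ E₂) → IsZero E₁ ∨ IsZero E₂ := by
  refine ⟨not_isZero_of_rank_pos hE hr, ?_⟩
  rintro E₁ E₂ ⟨e⟩
  set p₁ : E ⟶ E := e.hom ≫ biprod.fst ≫ biprod.inl ≫ e.inv with hp₁
  by_cases h : p₁ = 0
  · left
    rw [IsZero.iff_id_eq_zero]
    have : 𝟙 E₁ = biprod.inl ≫ e.inv ≫ p₁ ≫ e.hom ≫ biprod.fst := by
      rw [hp₁]
      simp
    rw [this, h]
    simp
  · right
    haveI := isIso_of_ne_zero_endo_of_slopeStable k X hdim hreg r E hE hst p₁ h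
    have hidem : p₁ ≫ p₁ = p₁ := by
      rw [hp₁]
      simp
    have hone : p₁ = 𝟙 E := by
      have := congrArg (fun φ => inv p₁ ≫ φ) hidem
      simpa using this
    rw [IsZero.iff_id_eq_zero]
    have h2 : (biprod.inr : E₂ ⟶ E₁ ⊞ E₂) ≫ e.inv ≫ p₁ = 0 := by
      rw [hp₁]
      simp
    rw [hone, Category.comp_id] at h2
    have h3 : (biprod.inr : E₂ ⟶ E₁ ⊞ E₂) = 0 := by
      rw [← cancel_mono e.inv, h2, zero_comp]
    have : 𝟙 E₂ = (biprod.inr : E₂ ⟶ E₁ ⊞ E₂) ≫ biprod.snd := by simp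
    rw [this, h3, zero_comp]

/-- S16137 core -/
theorem hom_quotient_to_sub_eq_zero (hdim : topologicalKrullDim X = 1)
    (hreg : ∀ x : X, IsRegularLocalRing (X.presheaf.stalk x))
    (T : ShortComplex X.Modules) (hT : T.ShortExact)
    (r : ℕ) (hr : 0 < r) (hE : FlatMod.IsFinLocFreeOfRank r T.X₂)
    (hst : ModFun.IsSlopeStable k X T.X₂ r)
    (φ : T.X₃ ⟶ T.X₁) : φ = 0 := by
  haveI := hT.mono_f
  haveI := hT.epi_g
  set ψ : T.X₂ ⟶ T.X₂ := T.g ≫ φ ≫ T.f with hψ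
  have hsq : ψ ≫ ψ = 0 := by
    rw [hψ]
    simp only [Category.assoc]
    rw [T.zero_assoc]
    simp
  have hψ0 : ψ = 0 := by
    by_contra hne
    haveI := isIso_of_ne_zero_endo_of_slopeStable k X hdim hreg r T.X₂ hE hst ψ hne
    apply hne
    have := congrArg (fun χ => inv ψ ≫ χ) hsq
    simpa using this
  have h1 : φ ≫ T.f = 0 := by
    rw [← cancel_epi T.g, comp_zero]
    exact hψ0
  rw [← cancel_mono T.f, h1, zero_comp]

end Part1

section Part2

open Groth.Agent.Lib.R2H1.VBSub Groth.Agent.Lib.R2H1.VBRankTwo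
open Groth.Agent.Lib.R2H1.CurveEuler

section Cat

variable {C : Type*} [Category C] [Abelian C]

/-- the preimage of a subobject of the quotient in a short exact sequence -/
theorem pullback_ses (T : ShortComplex C) (hT : T.ShortExact) {G : C} (i : G ⟶ T.X₃) [Mono i] :
    ∃ (P : C) (a : T.X₁ ⟶ P) (q : P ⟶ G) (b : P ⟶ T.X₂) (w : a ≫ q = 0),
      Mono b ∧ (ShortComplex.mk a q w).ShortExact ∧ a ≫ b = T.f := by
  haveI := hT.mono_f
  haveI := hT.epi_g
  have w0 : T.f ≫ T.g = (0 : T.X₁ ⟶ G) ≫ i := by rw [T.zero, zero_comp]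
  let a : T.X₁ ⟶ pullback T.g i := pullback.lift T.f 0 w0
  have hab : a ≫ pullback.fst T.g i = T.f := pullback.lift_fst _ _ _
  have haq : a ≫ pullback.snd T.g i = 0 := pullback.lift_snd _ _ _
  haveI : Mono a := mono_of_mono_fac hab
  refine ⟨pullback T.g i, a, pullback.snd T.g i, pullback.fst T.g i, haq, inferInstance, ?_, hab⟩
  refine { exact := ?_, mono_f := inferInstanceAs (Mono a),
           epi_g := inferInstanceAs (Epi (pullback.snd T.g i)) }
  refine ShortComplex.exact_of_f_is_kernel _ ?_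
  refine KernelFork.IsLimit.ofι' a haq fun {A} g' hg' => ?_
  have h1 : (g' ≫ pullback.fst T.g i) ≫ T.g = 0 := by
    rw [Category.assoc, pullback.condition, ← Category.assoc, hg', zero_comp]
  refine ⟨hT.exact.lift (g' ≫ pullback.fst T.g i) h1, ?_⟩
  apply pullback.hom_ext
  · rw [Category.assoc, hab, hT.exact.lift_f]
  · rw [Category.assoc, haq, comp_zero, hg']

end Cat

variable (k : Type u) [Field k] (X : Scheme.{u}) [X.Over (Spec (CommRingCat.of k))]
    [IsProper (X ↘ (Spec (CommRingCat.of k)))] [IsIntegral X]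

/-- the degree of a rank zero module is zero -/
theorem deg_rank_zero {K : X.Modules} (hK : FlatMod.IsFinLocFreeOfRank 0 K) :
    Curv2.deg k X K 0 = 0 := by
  unfold Curv2.deg
  rw [euler_of_isZero k X K (Groth.Agent.Lib.R2H2.AmpleElt.isZero_of_rank_zero hK)]
  simp

/-- S14139 core -/
theorem semistable_extension_iff (hdim : topologicalKrullDim X = 1)
    (hreg : ∀ x : X, IsRegularLocalRing (X.presheaf.stalk x))
    (T : ShortComplex X.Modules) (hT : T.ShortExact)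
    (r₁ r r₂ : ℕ) (hr₁ : 0 < r₁) (hr : 0 < r) (hr₂ : 0 < r₂)
    (hE₁ : FlatMod.IsFinLocFreeOfRank r₁ T.X₁) (hE : FlatMod.IsFinLocFreeOfRank r T.X₂)
    (hE₂ : FlatMod.IsFinLocFreeOfRank r₂ T.X₃)
    (hμ₁ : Curv2.deg k X T.X₁ r₁ * (r : ℤ) = Curv2.deg k X T.X₂ r * (r₁ : ℤ))
    (hμ₂ : Curv2.deg k X T.X₃ r₂ * (r : ℤ) = Curv2.deg k X T.X₂ r * (r₂ : ℤ)) :
    (∀ (G : X.Modules) (r' : ℕ) (i : G ⟶ T.X₂), Mono i → 0 < r' →
      FlatMod.IsFinLocFreeOfRank r' G →
      Curv2.deg k X G r' * (r : ℤ) ≤ Curv2.deg k X T.X₂ r * (r' : ℤ)) ↔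
      ((∀ (G : X.Modules) (r' : ℕ) (i : G ⟶ T.X₁), Mono i → 0 < r' →
        FlatMod.IsFinLocFreeOfRank r' G →
        Curv2.deg k X G r' * (r₁ : ℤ) ≤ Curv2.deg k X T.X₁ r₁ * (r' : ℤ)) ∧
       (∀ (G : X.Modules) (r' : ℕ) (i : G ⟶ T.X₃), Mono i → 0 < r' →
        FlatMod.IsFinLocFreeOfRank r' G →
        Curv2.deg k X G r' * (r₂ : ℤ) ≤ Curv2.deg k X T.X₃ r₂ * (r' : ℤ))) := by
  haveI := isNoetherian_of_proper k X
  haveI := hT.mono_f
  haveI := hT.epi_g
  have hrZ : (0 : ℤ) < r := by exact_mod_cast hr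
  have hr₁Z : (0 : ℤ) < r₁ := by exact_mod_cast hr₁
  have hr₂Z : (0 : ℤ) < r₂ := by exact_mod_cast hr₂
  constructor
  · intro hss
    refine ⟨fun G r' i hi hr' hG => ?_, fun G r' i hi hr' hG => ?_⟩
    · haveI := hi
      have e := hss G r' (i ≫ T.f) (mono_comp i T.f) hr' hG
      have h1 : Curv2.deg k X G r' * (r₁ : ℤ) * r ≤ Curv2.deg k X T.X₁ r₁ * (r' : ℤ) * r := by
        nlinarith [mul_le_mul_of_nonneg_right e hr₁Z.le, congrArg (· * (r' : ℤ)) hμ₁]
      exact le_of_mul_le_mul_right h1 hrZ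
    · haveI := hi
      obtain ⟨P, a, q, b, w, hb, hS, hab⟩ := pullback_ses T hT i
      haveI := hb
      have cG := Groth.Agent.Lib.R2H1.DegTensor.isCoh_of_rank' hG
      have c₁ := Groth.Agent.Lib.R2H1.DegTensor.isCoh_of_rank' hE₁
      have cP : Coh.IsCoh P := Groth.Agent.Lib.R2H2.PdSheaf.isCoh_X₂ _ hS c₁ cG
      obtain ⟨rP, hP⟩ := exists_rank_of_mono hdim.le hreg T.X₂
        (Groth.Agent.Lib.R2H4DegAdd.isFinLocFree_of_rank hE) P cP b
      have hrk : rP = r₁ + r' := Groth.Agent.Lib.R2H4DegAdd.rank_add _ hS r₁ rP r' hE₁ hP hG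
      have hdeg := Groth.Agent.Lib.R2H4DegAdd.main k X _ hS r₁ rP r' hE₁ hP hG
      have e := hss P rP b hb (by omega) hP
      have hrk' : (rP : ℤ) = r₁ + r' := by exact_mod_cast hrk
      have hdeg' : Curv2.deg k X P rP = Curv2.deg k X T.X₁ r₁ + Curv2.deg k X G r' := hdeg
      rw [hdeg', hrk'] at e
      have e' : Curv2.deg k X G r' * (r : ℤ) ≤ Curv2.deg k X T.X₂ r * (r' : ℤ) := by
        nlinarith
      have h1 : Curv2.deg k X G r' * (r₂ : ℤ) * r ≤ Curv2.deg k X T.X₃ r₂ * (r' : ℤ) * r := by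
        nlinarith [mul_le_mul_of_nonneg_right e' hr₂Z.le, congrArg (· * (r' : ℤ)) hμ₂]
      exact le_of_mul_le_mul_right h1 hrZ
  · rintro ⟨hss₁, hss₂⟩ G r' i hi hr' hG
    haveI := hi
    obtain ⟨K, I, a, p, j, s₀, s₁, ha, hp, hj, hpj, hap, hK, hI, hrk, hdeg, h0, h1, hle⟩ :=
      exists_ker_im k X hdim hreg hG hE₂ (i ≫ T.g)
    haveI := ha
    have hz : (a ≫ i) ≫ T.g = 0 := by
      rw [Category.assoc, ← hpj, ← Category.assoc, hap, zero_comp]
    set c := hT.exact.lift (a ≫ i) hz with hc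
    have hcf : c ≫ T.f = a ≫ i := hT.exact.lift_f _ _
    haveI : Mono (a ≫ i) := mono_comp a i
    haveI : Mono c := mono_of_mono_fac hcf
    have eK : Curv2.deg k X K s₀ * (r : ℤ) ≤ Curv2.deg k X T.X₂ r * (s₀ : ℤ) := by
      rcases Nat.eq_zero_or_pos s₀ with h | h
      · subst h
        rw [deg_rank_zero k X hK]
        simp
      · have e := hss₁ K s₀ c inferInstance h hK
        have h1 : Curv2.deg k X K s₀ * (r : ℤ) * r₁ ≤ Curv2.deg k X T.X₂ r * (s₀ : ℤ) * r₁ := by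
          nlinarith [mul_le_mul_of_nonneg_right e hrZ.le, congrArg (· * (s₀ : ℤ)) hμ₁]
        exact le_of_mul_le_mul_right h1 hr₁Z
    have eI : Curv2.deg k X I s₁ * (r : ℤ) ≤ Curv2.deg k X T.X₂ r * (s₁ : ℤ) := by
      rcases Nat.eq_zero_or_pos s₁ with h | h
      · subst h
        rw [deg_rank_zero k X hI]
        simp
      · have e := hss₂ I s₁ j hj h hI
        have h1 : Curv2.deg k X I s₁ * (r : ℤ) * r₂ ≤ Curv2.deg k X T.X₂ r * (s₁ : ℤ) * r₂ := by
          nlinarith [mul_le_mul_of_nonneg_right e hrZ.le, congrArg (· * (s₁ : ℤ)) hμ₂]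
        exact le_of_mul_le_mul_right h1 hr₂Z
    have hrk' : (r' : ℤ) = s₀ + s₁ := by exact_mod_cast hrk
    rw [hdeg, hrk']
    nlinarith

/-- S15335 core -/
theorem slope_sub_biprod_le_max (hdim : topologicalKrullDim X = 1)
    (hreg : ∀ x : X, IsRegularLocalRing (X.presheaf.stalk x))
    (r₂ : ℕ) (E₁ E₂ : X.Modules)
    (hE₂ : FlatMod.IsFinLocFreeOfRank r₂ E₂) (m₁ m₂ : ℚ)
    (h₁ : ∀ (G : X.Modules) (r' : ℕ) (i : G ⟶ E₁), Mono i → 0 < r' →
      FlatMod.IsFinLocFreeOfRank r' G → (Curv2.deg k X G r' : ℚ) / r' ≤ m₁)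
    (h₂ : ∀ (G : X.Modules) (r' : ℕ) (i : G ⟶ E₂), Mono i → 0 < r' →
      FlatMod.IsFinLocFreeOfRank r' G → (Curv2.deg k X G r' : ℚ) / r' ≤ m₂)
    (F : X.Modules) (r' : ℕ) (i : F ⟶ E₁ ⊞ E₂) (hi : Mono i) (hr' : 0 < r')
    (hF : FlatMod.IsFinLocFreeOfRank r' F) :
    (Curv2.deg k X F r' : ℚ) / r' ≤ max m₁ m₂ := by
  haveI := hi
  obtain ⟨K, I, a, p, j, s₀, s₁, ha, hp, hj, hpj, hap, hK, hI, hrk, hdeg, h0, h1, hle⟩ :=
    exists_ker_im k X hdim hreg hF hE₂ (i ≫ biprod.snd)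
  haveI := ha
  haveI : Mono (a ≫ i) := mono_comp a i
  have hz : a ≫ i ≫ biprod.snd = 0 := by
    rw [← hpj, ← Category.assoc, hap, zero_comp]
  haveI : Mono (a ≫ i ≫ biprod.fst) := by
    refine Preadditive.mono_of_cancel_zero _ fun {P} x hx => ?_
    have h3 : x ≫ (a ≫ i) = 0 := by
      have ht : x ≫ (a ≫ i) = x ≫ (a ≫ i) ≫ (biprod.fst ≫ biprod.inl + biprod.snd ≫ biprod.inr) := by
        rw [biprod.total, Category.comp_id]
      rw [ht, Preadditive.comp_add, Preadditive.comp_add]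
      have e1 : x ≫ (a ≫ i) ≫ biprod.fst ≫ (biprod.inl : E₁ ⟶ E₁ ⊞ E₂) = 0 := by
        have : x ≫ (a ≫ i) ≫ biprod.fst ≫ (biprod.inl : E₁ ⟶ E₁ ⊞ E₂) =
            (x ≫ a ≫ i ≫ biprod.fst) ≫ biprod.inl := by simp only [Category.assoc]
        rw [this, hx, zero_comp]
      have e2 : x ≫ (a ≫ i) ≫ biprod.snd ≫ (biprod.inr : E₂ ⟶ E₁ ⊞ E₂) = 0 := by
        have : x ≫ (a ≫ i) ≫ biprod.snd ≫ (biprod.inr : E₂ ⟶ E₁ ⊞ E₂) =
            x ≫ (a ≫ i ≫ biprod.snd) ≫ biprod.inr := by simp only [Category.assoc]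
        rw [this, hz, zero_comp, comp_zero]
      rw [e1, e2, add_zero]
    exact (cancel_mono (a ≫ i)).1 (by rw [h3, zero_comp])
  have eK : (Curv2.deg k X K s₀ : ℚ) ≤ max m₁ m₂ * s₀ := by
    rcases Nat.eq_zero_or_pos s₀ with h | h
    · subst h
      rw [deg_rank_zero k X hK]
      simp
    · have e := h₁ K s₀ (a ≫ i ≫ biprod.fst) inferInstance h hK
      have hpos : (0 : ℚ) < s₀ := by exact_mod_cast h
      rw [div_le_iff₀ hpos] at e
      exact e.trans (mul_le_mul_of_nonneg_right (le_max_left _ _) hpos.le)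
  have eI : (Curv2.deg k X I s₁ : ℚ) ≤ max m₁ m₂ * s₁ := by
    rcases Nat.eq_zero_or_pos s₁ with h | h
    · subst h
      rw [deg_rank_zero k X hI]
      simp
    · have e := h₂ I s₁ j hj h hI
      have hpos : (0 : ℚ) < s₁ := by exact_mod_cast h
      rw [div_le_iff₀ hpos] at e
      exact e.trans (mul_le_mul_of_nonneg_right (le_max_right _ _) hpos.le)
  have hpos : (0 : ℚ) < r' := by exact_mod_cast hr'
  rw [div_le_iff₀ hpos, hdeg, hrk]
  push_cast
  linarith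

end Part2

end Groth.Agent.Lib.R2H1.VBSlopeB
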