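import Mathlib
import Groth.Agent.Lib.R2H1VBSlopeB
set_option backward.isDefEq.respectTransparency.types false

/-!
Maximal slope subsheaves: score_cmp (integer score comparing slope then rank), exists_maxSlope_sub (S14149 core).
-/

set_option autoImplicit false
set_option linter.style.haveILetI false
set_option linter.unusedSectionVars false
universe u v

open CategoryTheory CategoryTheory.Limits AlgebraicGeometry TopologicalSpace Opposite

namespace Groth.Agent.Lib.R2H1.VBMaxSlope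

section Part1

open Groth.Agent.Lib.R2H1.VBSub Groth.Agent.Lib.R2H1.VBRankTwo Groth.Agent.Lib.R2H1.VBSlopeB

/-- arithmetic core: comparing scores compares slopes, then ranks -/
theorem score_cmp (r r' r₁ : ℕ) (d d₁ : ℤ) (hr' : 0 < r') (hr'r : r' ≤ r) (hr₁ : 0 < r₁)
    (hr₁r : r₁ ≤ r)
    (h : d * ((r.factorial / r' : ℕ) : ℤ) * (r + 1) + r' ≤
      d₁ * ((r.factorial / r₁ : ℕ) : ℤ) * (r + 1) + r₁) :
    d * (r₁ : ℤ) ≤ d₁ * (r' : ℤ) ∧ (d * (r₁ : ℤ) = d₁ * (r' : ℤ) → r' ≤ r₁) := by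
  set q' : ℤ := ((r.factorial / r' : ℕ) : ℤ) with hq'
  set q₁ : ℤ := ((r.factorial / r₁ : ℕ) : ℤ) with hq₁
  have e' : q' * (r' : ℤ) = (r.factorial : ℤ) := by
    rw [hq']
    exact_mod_cast Nat.div_mul_cancel (Nat.dvd_factorial hr' hr'r)
  have e₁ : q₁ * (r₁ : ℤ) = (r.factorial : ℤ) := by
    rw [hq₁]
    exact_mod_cast Nat.div_mul_cancel (Nat.dvd_factorial hr₁ hr₁r)
  have hf : (0 : ℤ) < (r.factorial : ℤ) := by exact_mod_cast Nat.factorial_pos r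
  have hr'Z : (1 : ℤ) ≤ r' := by exact_mod_cast hr'
  have hr₁Z : (1 : ℤ) ≤ r₁ := by exact_mod_cast hr₁
  have hr'rZ : (r' : ℤ) ≤ r := by exact_mod_cast hr'r
  have hr₁rZ : (r₁ : ℤ) ≤ r := by exact_mod_cast hr₁r
  have hrZ : (0 : ℤ) ≤ r := by positivity
  have hA : d * q' ≤ d₁ * q₁ := by
    by_contra hcon
    have h1 : d₁ * q₁ + 1 ≤ d * q' := by omega
    have := mul_le_mul_of_nonneg_right h1 (by linarith : (0 : ℤ) ≤ (r : ℤ) + 1)
    nlinarith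
  have key : ∀ a b : ℤ, a * q' ≤ b * q₁ → a * (r₁ : ℤ) ≤ b * (r' : ℤ) := by
    intro a b hab
    have h2 : a * (r₁ : ℤ) * (r.factorial : ℤ) ≤ b * (r' : ℤ) * (r.factorial : ℤ) := by
      have h3 := mul_le_mul_of_nonneg_right hab
        (by positivity : (0 : ℤ) ≤ (r' : ℤ) * (r₁ : ℤ))
      have l1 : a * q' * ((r' : ℤ) * (r₁ : ℤ)) = a * (r₁ : ℤ) * (r.factorial : ℤ) := by
        rw [← e']; ring
      have l2 : b * q₁ * ((r' : ℤ) * (r₁ : ℤ)) = b * (r' : ℤ) * (r.factorial : ℤ) := by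
        rw [← e₁]; ring
      rw [l1, l2] at h3
      exact h3
    exact le_of_mul_le_mul_right h2 hf
  refine ⟨key d d₁ hA, fun heq => ?_⟩
  have hB : d * q' = d₁ * q₁ := by
    have h2 : d * q' * (r.factorial : ℤ) = d₁ * q₁ * (r.factorial : ℤ) := by
      have l1 : d * q' * (r.factorial : ℤ) = d * (r₁ : ℤ) * (q' * q₁) := by
        rw [← e₁]; ring
      have l2 : d₁ * q₁ * (r.factorial : ℤ) = d₁ * (r' : ℤ) * (q' * q₁) := by
        rw [← e']; ring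
      rw [l1, l2, heq]
    exact mul_right_cancel₀ (ne_of_gt hf) h2
  rw [hB] at h
  have : (r' : ℤ) ≤ r₁ := by linarith
  exact_mod_cast this

variable (k : Type u) [Field k] (X : Scheme.{u}) [X.Over (Spec (CommRingCat.of k))]
    [IsProper (X ↘ (Spec (CommRingCat.of k)))] [IsIntegral X]

/-- S14149 core: a subsheaf of maximal slope, and of maximal rank among those -/
theorem exists_maxSlope_sub (hdim : topologicalKrullDim X = 1)
    (r : ℕ) (hr : 0 < r) (E : X.Modules) (hE : FlatMod.IsFinLocFreeOfRank r E) :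
    ∃ (E₁ : X.Modules) (r₁ : ℕ) (i₁ : E₁ ⟶ E), Mono i₁ ∧ 0 < r₁ ∧
      FlatMod.IsFinLocFreeOfRank r₁ E₁ ∧
      (∀ (G : X.Modules) (r' : ℕ) (j : G ⟶ E), Mono j → 0 < r' →
        FlatMod.IsFinLocFreeOfRank r' G →
        Curv2.deg k X G r' * (r₁ : ℤ) ≤ Curv2.deg k X E₁ r₁ * (r' : ℤ)) ∧
      (∀ (G : X.Modules) (r' : ℕ) (j : G ⟶ E), Mono j → 0 < r' →
        FlatMod.IsFinLocFreeOfRank r' G →
        Curv2.deg k X G r' * (r₁ : ℤ) = Curv2.deg k X E₁ r₁ * (r' : ℤ) → r' ≤ r₁) := by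
  obtain ⟨N, hN⟩ := bddAbove_deg_sub k X hdim r E hE
  let sc : ℕ → ℤ → ℤ := fun r' d => d * ((r.factorial / r' : ℕ) : ℤ) * ((r : ℤ) + 1) + (r' : ℤ)
  let P : ℤ → Prop := fun z => ∃ (G : X.Modules) (r' : ℕ) (j : G ⟶ E), Mono j ∧ 0 < r' ∧
    FlatMod.IsFinLocFreeOfRank r' G ∧ z = sc r' (Curv2.deg k X G r')
  have Hbdd : ∃ b : ℤ, ∀ z, P z → z ≤ b := by
    refine ⟨max N 0 * (r.factorial : ℤ) * ((r : ℤ) + 1) + r, ?_⟩
    rintro z ⟨G, r', j, hj, hr', hG, rfl⟩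
    haveI := hj
    have h1 : Curv2.deg k X G r' ≤ max N 0 := (hN G r' j hj hG).trans (le_max_left _ _)
    have h2 : r' ≤ r := rank_le_of_mono hG hE j
    have h3 : ((r.factorial / r' : ℕ) : ℤ) ≤ (r.factorial : ℤ) := by
      exact_mod_cast Nat.div_le_self _ _
    have h4 : (0 : ℤ) ≤ ((r.factorial / r' : ℕ) : ℤ) := by positivity
    have h5 : (0 : ℤ) ≤ max N 0 := le_max_right _ _
    have h6 : Curv2.deg k X G r' * ((r.factorial / r' : ℕ) : ℤ) ≤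
        max N 0 * (r.factorial : ℤ) :=
      (mul_le_mul_of_nonneg_right h1 h4).trans (mul_le_mul_of_nonneg_left h3 h5)
    have h7 : (0 : ℤ) ≤ (r : ℤ) + 1 := by positivity
    have h2' : (r' : ℤ) ≤ r := by exact_mod_cast h2
    show Curv2.deg k X G r' * ((r.factorial / r' : ℕ) : ℤ) * ((r : ℤ) + 1) + (r' : ℤ) ≤ _
    linarith [mul_le_mul_of_nonneg_right h6 h7]
  have Hinh : ∃ z, P z := ⟨_, E, r, 𝟙 E, inferInstance, hr, hE, rfl⟩
  obtain ⟨z₀, ⟨E₁, r₁, i₁, hi₁, hr₁, hE₁, hz₀⟩, hmax⟩ := Int.exists_greatest_of_bdd Hbdd Hinh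
  haveI := hi₁
  have hr₁r : r₁ ≤ r := rank_le_of_mono hE₁ hE i₁
  have hcmp : ∀ (G : X.Modules) (r' : ℕ) (j : G ⟶ E), Mono j → 0 < r' →
      FlatMod.IsFinLocFreeOfRank r' G →
      Curv2.deg k X G r' * (r₁ : ℤ) ≤ Curv2.deg k X E₁ r₁ * (r' : ℤ) ∧
      (Curv2.deg k X G r' * (r₁ : ℤ) = Curv2.deg k X E₁ r₁ * (r' : ℤ) → r' ≤ r₁) := by
    intro G r' j hj hr' hG
    haveI := hj
    have hle := hmax _ ⟨G, r', j, hj, hr', hG, rfl⟩
    rw [hz₀] at hle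
    exact score_cmp r r' r₁ _ _ hr' (rank_le_of_mono hG hE j) hr₁ hr₁r hle
  exact ⟨E₁, r₁, i₁, hi₁, hr₁, hE₁, fun G r' j hj hr' hG => (hcmp G r' j hj hr' hG).1,
    fun G r' j hj hr' hG => (hcmp G r' j hj hr' hG).2⟩

end Part1

end Groth.Agent.Lib.R2H1.VBMaxSlope
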