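import Mathlib
import Groth.Agent.Lib.R2H1VBMaxSlope
import Groth.Agent.Lib.R2H1CurveVanish
import Groth.Agent.Lib.Helper23QCohLocal
import Groth.Agent.Lib.Helper23QCohAbelian
import Groth.Agent.Lib.Helper23FinType
set_option backward.isDefEq.respectTransparency.types false

/-!
Saturation of subsheaves of vector bundles on regular integral proper curves: exists_torsion_section (non-locally-free coherent module has a local torsion section), eta_app_eq_zero, exists_app_eq_of_kernel (sections of a kernel), exists_enlarge (non-saturated subsheaf sits in a bigger one of same rank and larger degree), exists_saturation, exists_saturation' (with rank/degree bookkeeping of the locally free quotient), kernel_of_epi, s14151 (quotient-(semi)stability iff sub-(semi)stability).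
-/

set_option autoImplicit false
set_option linter.style.haveILetI false
set_option linter.unusedSectionVars false
universe u v

open CategoryTheory CategoryTheory.Limits AlgebraicGeometry TopologicalSpace Opposite

namespace Groth.Agent.Lib.R2H1.VBSat

section Part1

open Groth.Agent.Lib.R2H1.VBSub Groth.Agent.Lib.R2H1.InvHom Groth.Agent.Lib.R2H1.CurveVanish
open Groth.Agent.Lib.Helper4.NormDelta Groth.Agent.Lib.Helper23.StalkLin

section A
variable {X : Scheme.{u}}

theorem res_zero (M : X.Modules) {V W : X.Opens} (h : W ≤ V) : res M h (0 : Γ(M, V)) = 0 := by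
  unfold res
  exact map_zero _

/-- a coherent module on a regular integral curve which is not locally free has a local torsion
section -/
theorem exists_torsion_section [IsIntegral X] [IsNoetherian X]
    (hdim : topologicalKrullDim X ≤ 1) (hreg : ∀ x : X, IsRegularLocalRing (X.presheaf.stalk x))
    (C : X.Modules) (hC : Coh.IsCoh C) (hnf : ¬ FlatMod.IsFinLocFree C) :
    ∃ (x : X) (W : X.Opens) (hx : x ∈ W) (a : Γ(X, W)) (t : Γ(C, W)),
      a • t = 0 ∧ X.presheaf.germ W x hx a ≠ 0 ∧ C.presheaf.germ W x hx t ≠ 0 := by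
  haveI : C.IsQuasicoherent := hC.1
  haveI : SheafOfModules.IsFiniteType (R := X.ringCatSheaf) C := hC.2
  haveI : SheafOfModules.IsFinitePresentation (R := X.ringCatSheaf) C :=
    Groth.Agent.Lib.Helper23.FinType.isFinitePresentation_of_isFiniteType C
  rw [Groth.Agent.Lib.H9FreeFib.isFinLocFree_iff_forall_free] at hnf
  push_neg at hnf
  obtain ⟨x, hxf⟩ := hnf
  haveI := hreg x
  haveI : IsPrincipalIdealRing (X.presheaf.stalk x) :=
    isPrincipalIdealRing_of_regular_dim_le_one _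
      ((Groth.Agent.Lib.Helper4.FibDim.ringKrullDim_stalk_le_topologicalKrullDim X x).trans hdim)
  haveI : Module.Finite (X.presheaf.stalk x) (C.presheaf.stalk x) :=
    Groth.Agent.Lib.Helper2.FibreCrit.finite_stalk C x
  have hnt : ¬ Module.IsTorsionFree (X.presheaf.stalk x) (C.presheaf.stalk x) := fun h => by
    haveI := h
    exact hxf inferInstance
  have hex : ∃ (r : X.presheaf.stalk x) (m : C.presheaf.stalk x), r • m = 0 ∧ r ≠ 0 ∧ m ≠ 0 := by
    by_contra hcon
    push_neg at hcon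
    apply hnt
    refine Module.IsTorsionFree.of_smul_eq_zero (fun r m h => ?_)
    by_contra h'
    push_neg at h'
    exact h'.2 (hcon r m h h'.1)
  obtain ⟨r, m, hrm, hr, hm⟩ := hex
  obtain ⟨W₁, hxW₁, a₁, rfl⟩ := X.presheaf.exists_germ_eq r
  obtain ⟨W₂, hxW₂, t₂, rfl⟩ := C.presheaf.exists_germ_eq m
  have hxW : x ∈ W₁ ⊓ W₂ := ⟨hxW₁, hxW₂⟩
  set a : Γ(X, W₁ ⊓ W₂) := X.presheaf.map (homOfLE (inf_le_left : W₁ ⊓ W₂ ≤ W₁)).op a₁ with ha
  set t : Γ(C, W₁ ⊓ W₂) := res C (inf_le_right : W₁ ⊓ W₂ ≤ W₂) t₂ with ht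
  have hga : X.presheaf.germ (W₁ ⊓ W₂) x hxW a = X.presheaf.germ W₁ x hxW₁ a₁ :=
    TopCat.Presheaf.germ_res_apply X.presheaf (homOfLE inf_le_left) x hxW a₁
  have hgt : C.presheaf.germ (W₁ ⊓ W₂) x hxW t = C.presheaf.germ W₂ x hxW₂ t₂ :=
    TopCat.Presheaf.germ_res_apply C.presheaf (homOfLE inf_le_right) x hxW t₂
  have h0 : C.presheaf.germ (W₁ ⊓ W₂) x hxW (a • t) = C.presheaf.germ (W₁ ⊓ W₂) x hxW 0 := by
    rw [Groth.Agent.Lib.Helper2.QCoh.germ_smul, hga, hgt, hrm, map_zero]
  obtain ⟨W₃, hxW₃, iU, iV, he⟩ := TopCat.Presheaf.germ_eq C.presheaf x hxW hxW _ _ h0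
  have hle : W₃ ≤ W₁ ⊓ W₂ := iU.le
  refine ⟨x, W₃, hxW₃, X.presheaf.map (homOfLE hle).op a, res C hle t, ?_, ?_, ?_⟩
  · rw [← res_smul]
    have h1 : res C hle (a • t) = C.presheaf.map iU.op (a • t) := rfl
    rw [h1, he, map_zero]
  · rw [TopCat.Presheaf.germ_res_apply X.presheaf (homOfLE hle) x hxW₃ a, hga]
    exact hr
  · have := TopCat.Presheaf.germ_res_apply C.presheaf (homOfLE hle) x hxW₃ t
    rw [this, hgt]
    exact hm

/-- a section killed by `a` dies under the unit to the pushforward from `D(a)` -/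
theorem eta_app_eq_zero (C : X.Modules) (W : X.Opens) (a : Γ(X, W)) (t : Γ(C, W))
    (hat : a • t = 0) : (eta (X.basicOpen a) C).app W t = 0 := by
  set U : X.Opens := X.basicOpen a with hU
  set V : (U : Scheme.{u}).Opens := U.ι ⁻¹ᵁ W with hV
  have himg : U.ι ''ᵁ V = U ⊓ W := by
    rw [hV, Scheme.Hom.image_preimage_eq_opensRange_inf, Scheme.Opens.opensRange_ι]
  have hle : U.ι ''ᵁ V ≤ W := by rw [himg]; exact inf_le_right
  have hD : U.ι ''ᵁ V ≤ X.basicOpen a := by rw [himg]; exact inf_le_left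
  have hunit := isUnit_res_of_le_basicOpen a hle hD
  have h1 : res C hle t = 0 := by
    have h2 : res C hle (a • t) = 0 := by rw [hat, res_zero]
    rw [res_smul] at h2
    exact (hunit.smul_eq_zero).1 h2
  set P := (Scheme.Modules.pushforward U.ι).obj (C.restrict U.ι) with hP
  have h3 : res P hle ((eta U C).app W t) = 0 := by
    rw [← app_res, h1, map_zero]
  -- restriction of pushforward sections along equal preimages is injective
  have hpre : U.ι ⁻¹ᵁ (U.ι ''ᵁ V) = V := Scheme.Hom.preimage_image_eq _ _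
  have hge : (Opens.map U.ι.base).obj W ≤ (Opens.map U.ι.base).obj (U.ι ''ᵁ V) := by
    show U.ι ⁻¹ᵁ W ≤ U.ι ⁻¹ᵁ (U.ι ''ᵁ V)
    rw [hpre]
  haveI : IsIso ((Opens.map U.ι.base).map (homOfLE hle)) :=
    ⟨⟨homOfLE hge, Subsingleton.elim _ _, Subsingleton.elim _ _⟩⟩
  have hiso : IsIso ((C.restrict U.ι).presheaf.map ((Opens.map U.ι.base).map (homOfLE hle)).op) :=
    inferInstance
  have hinj : Function.Injective (res P hle) := by
    have : res P hle = fun m => (C.restrict U.ι).presheaf.map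
        ((Opens.map U.ι.base).map (homOfLE hle)).op m := rfl
    rw [this]
    exact (ConcreteCategory.bijective_of_isIso _).1
  apply hinj
  rw [h3, res_zero]

/-- sections of a kernel -/
theorem exists_app_eq_of_kernel {E P : X.Modules} (ψ : E ⟶ P) (V : X.Opens) (e : Γ(E, V))
    (he : ψ.app V e = 0) : ∃ s : Γ(kernel ψ, V), (kernel.ι ψ).app V s = e := by
  let S : ShortComplex X.Modules := ShortComplex.mk (kernel.ι ψ) ψ (kernel.condition ψ)
  have hS : S.Exact := ShortComplex.exact_kernel ψ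
  haveI : Mono S.f := inferInstanceAs (Mono (kernel.ι ψ))
  haveI : (Groth.Agent.Lib.Helper20.StalkExact.secF (X := X) V).PreservesZeroMorphisms :=
    ⟨fun _ _ => rfl⟩
  have h1 : (S.map (Groth.Agent.Lib.Helper20.StalkExact.secF V)).Exact :=
    hS.map_of_mono_of_preservesKernel (Groth.Agent.Lib.Helper20.StalkExact.secF V)
      inferInstance inferInstance
  rw [ShortComplex.ab_exact_iff] at h1
  exact h1 e he

end A

section B

open Groth.Agent.Lib.R2H1.CurveEuler

variable (k : Type u) [Field k] (X : Scheme.{u}) [X.Over (Spec (CommRingCat.of k))]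
    [IsProper (X ↘ (Spec (CommRingCat.of k)))] [IsIntegral X]

/-- enlarging a non-saturated subsheaf: if the quotient `E/G` is not locally free there is a
larger subsheaf of the same rank and strictly bigger degree -/
theorem exists_enlarge (hdim : topologicalKrullDim X = 1)
    (hreg : ∀ x : X, IsRegularLocalRing (X.presheaf.stalk x))
    {G E : X.Modules} {r' r : ℕ} (hG : FlatMod.IsFinLocFreeOfRank r' G)
    (hE : FlatMod.IsFinLocFreeOfRank r E) (i : G ⟶ E) [Mono i]
    (hnf : ¬ FlatMod.IsFinLocFree (cokernel i)) :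
    ∃ (G'' : X.Modules) (j : G'' ⟶ E) (ℓ : G ⟶ G''), Mono j ∧ ℓ ≫ j = i ∧
      FlatMod.IsFinLocFreeOfRank r' G'' ∧ Curv2.deg k X G r' < Curv2.deg k X G'' r' := by
  haveI := isNoetherian_of_proper k X
  have cG := Groth.Agent.Lib.R2H1.DegTensor.isCoh_of_rank' hG
  have cE := Groth.Agent.Lib.R2H1.DegTensor.isCoh_of_rank' hE
  have lE := Groth.Agent.Lib.R2H4DegAdd.isFinLocFree_of_rank hE
  have cC : Coh.IsCoh (cokernel i) := Groth.Agent.Lib.R2H2.NilFilt.isCoh_cokernel cG cE i
  obtain ⟨x, W, hxW, a, t, hat, hga, hgt⟩ := exists_torsion_section hdim.le hreg _ cC hnf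
  have ha0 : a ≠ 0 := fun h => hga (by rw [h, map_zero])
  have hUne : X.basicOpen a ≠ ⊥ := fun h => ha0 ((basicOpen_eq_bot_iff a).1 h)
  obtain ⟨y, hyU⟩ : ∃ y, y ∈ X.basicOpen a := by
    by_contra hcon
    push_neg at hcon
    exact hUne (le_bot_iff.1 fun y hy => (hcon y hy).elim)
  set U : X.Opens := X.basicOpen a with hU
  set ξ := genericPoint X with hξ
  have hξU : ξ ∈ U := ((genericPoint_spec X).mem_open_set_iff U.isOpen).mpr ⟨y, trivial, hyU⟩
  have hη0 : (eta U (cokernel i)).app W t = 0 := eta_app_eq_zero (cokernel i) W a t hat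
  set P := (Scheme.Modules.pushforward U.ι).obj ((cokernel i).restrict U.ι) with hP
  set ψ : E ⟶ P := cokernel.π i ≫ eta U (cokernel i) with hψ
  haveI : (cokernel i).IsQuasicoherent := cC.1
  haveI : E.IsQuasicoherent := cE.1
  haveI : ((cokernel i).restrict U.ι).IsQuasicoherent := inferInstance
  haveI : P.IsQuasicoherent :=
    Groth.Agent.Lib.Helper23.QCohLocal.isQuasicoherent_pushforward U.ι _
  haveI : (kernel ψ).IsQuasicoherent :=
    Groth.Agent.Lib.Helper23.QCohLocal.isQuasicoherent_kernel ψ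
  haveI : SheafOfModules.IsFiniteType (R := X.ringCatSheaf) E := cE.2
  have cG'' : Coh.IsCoh (kernel ψ) :=
    ⟨inferInstance, Groth.Agent.Lib.Helper23.FinType.isFiniteType_of_mono (kernel.ι ψ)⟩
  obtain ⟨r'', hG''⟩ := exists_rank_of_mono hdim.le hreg E lE (kernel ψ) cG'' (kernel.ι ψ)
  have hiψ : i ≫ ψ = 0 := by
    rw [hψ, ← Category.assoc, cokernel.condition, zero_comp]
  set ℓ : G ⟶ kernel ψ := kernel.lift ψ i hiψ with hℓ
  have hℓj : ℓ ≫ kernel.ι ψ = i := kernel.lift_ι _ _ _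
  haveI : Mono ℓ := mono_of_mono_fac hℓj
  let S : ShortComplex X.Modules := ShortComplex.mk i (cokernel.π i) (cokernel.condition i)
  have hS : S.ShortExact :=
    { exact := ShortComplex.exact_cokernel i
      mono_f := inferInstanceAs (Mono i)
      epi_g := inferInstanceAs (Epi (cokernel.π i)) }
  -- ranks agree: ℓ is bijective on the generic stalk
  have hsurj : Function.Surjective (stalkLin ℓ ξ) := by
    intro z
    obtain ⟨W', hξW', s, rfl⟩ := (kernel ψ).presheaf.exists_germ_eq z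
    obtain ⟨V, hV, hξV⟩ := exists_image_le U ξ hξU W' hξW'
    set s' := res (kernel ψ) hV s with hs'
    have hgs : (kernel ψ).presheaf.germ (U.ι ''ᵁ V) ξ hξV s' =
        (kernel ψ).presheaf.germ W' ξ hξW' s :=
      TopCat.Presheaf.germ_res_apply (kernel ψ).presheaf (homOfLE hV) ξ hξV s
    have h1 : (eta U (cokernel i)).app (U.ι ''ᵁ V)
        ((cokernel.π i).app (U.ι ''ᵁ V) ((kernel.ι ψ).app (U.ι ''ᵁ V) s')) = 0 := by
      have h : (kernel.ι ψ ≫ ψ).app (U.ι ''ᵁ V) s' = 0 := by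
        rw [kernel.condition]
        rfl
      exact h
    have h2 : (cokernel.π i).app (U.ι ''ᵁ V) ((kernel.ι ψ).app (U.ι ''ᵁ V) s') = 0 := by
      apply (bijective_eta_app U (cokernel i) V).1
      rw [h1, map_zero]
    obtain ⟨g, hg⟩ := Groth.Agent.Lib.Helper20.StalkExact.exists_app_eq_of_exact S hS
      (U.ι ''ᵁ V) _ h2
    have h3 : ℓ.app (U.ι ''ᵁ V) g = s' := by
      apply Groth.Agent.Lib.Helper20.StalkExact.injective_app_of_mono (kernel.ι ψ)
      have h4 : (kernel.ι ψ).app (U.ι ''ᵁ V) (ℓ.app (U.ι ''ᵁ V) g) =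
          (ℓ ≫ kernel.ι ψ).app (U.ι ''ᵁ V) g := rfl
      rw [h4, hℓj]
      exact hg
    refine ⟨G.presheaf.germ (U.ι ''ᵁ V) ξ hξV g, ?_⟩
    rw [stalkLin_germ, h3, hgs]
  have hrank : r'' = r' := by
    obtain ⟨f1, t1, r1⟩ := Groth.Agent.Lib.R2H4DegAdd.stalk_facts hG ξ
    obtain ⟨f2, t2, r2⟩ := Groth.Agent.Lib.R2H4DegAdd.stalk_facts hG'' ξ
    have := (LinearEquiv.ofBijective (stalkLin ℓ ξ) ⟨stalkLin_injective ℓ ξ, hsurj⟩).finrank_eq
    rw [r1, r2] at this
    exact this.symm
  subst hrank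
  have hniso : ¬ IsIso ℓ := by
    intro hiso
    obtain ⟨W₁, hW₁, hxW₁, e, he⟩ :=
      Groth.Agent.Lib.Helper23.SectCmpLib.exists_local_lift (cokernel.π i) W t x hxW
    have he' : (cokernel.π i).app W₁ e = res (cokernel i) hW₁ t := he
    have h1 : ψ.app W₁ e = 0 := by
      show (eta U (cokernel i)).app W₁ ((cokernel.π i).app W₁ e) = 0
      rw [he', app_res, hη0, res_zero]
    obtain ⟨s, hs⟩ := exists_app_eq_of_kernel ψ W₁ e h1
    haveI : IsIso (ℓ.app W₁) := inferInstance
    obtain ⟨g, hg⟩ := (ConcreteCategory.bijective_of_isIso (ℓ.app W₁)).2 s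
    have h2 : i.app W₁ g = e := by
      rw [← hs, ← hg, ← hℓj]
      rfl
    have h3 : res (cokernel i) hW₁ t = 0 := by
      rw [← he', ← h2]
      have : (i ≫ cokernel.π i).app W₁ g = 0 := by
        rw [cokernel.condition]
        rfl
      exact this
    apply hgt
    have h4 := TopCat.Presheaf.germ_res_apply (cokernel i).presheaf (homOfLE hW₁) x hxW₁ t
    rw [← h4]
    show (cokernel i).presheaf.germ W₁ x hxW₁ (res (cokernel i) hW₁ t) = 0
    rw [h3, map_zero]
  obtain ⟨h1, h2⟩ := deg_le_of_mono_same_rank k X hdim hG hG'' ℓ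
  exact ⟨kernel ψ, kernel.ι ψ, ℓ, inferInstance, hℓj, hG'',
    lt_of_le_of_ne h1 (fun h => hniso (h2 h))⟩

/-- saturation: every locally free subsheaf is contained in one of the same rank, at least the
same degree, with locally free quotient -/
theorem exists_saturation (hdim : topologicalKrullDim X = 1)
    (hreg : ∀ x : X, IsRegularLocalRing (X.presheaf.stalk x))
    {E : X.Modules} {r : ℕ} (hE : FlatMod.IsFinLocFreeOfRank r E)
    {G : X.Modules} {r' : ℕ} (hG : FlatMod.IsFinLocFreeOfRank r' G) (i : G ⟶ E) [Mono i] :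
    ∃ (G'' : X.Modules) (j : G'' ⟶ E) (ℓ : G ⟶ G''), Mono j ∧ ℓ ≫ j = i ∧
      FlatMod.IsFinLocFreeOfRank r' G'' ∧ Curv2.deg k X G r' ≤ Curv2.deg k X G'' r' ∧
      FlatMod.IsFinLocFree (cokernel j) := by
  obtain ⟨N, hN⟩ := bddAbove_deg_sub k X hdim r E hE
  have key : ∀ (n : ℕ) (G : X.Modules) (hG : FlatMod.IsFinLocFreeOfRank r' G) (i : G ⟶ E),
      Mono i → N - Curv2.deg k X G r' ≤ (n : ℤ) →
      ∃ (G'' : X.Modules) (j : G'' ⟶ E) (ℓ : G ⟶ G''), Mono j ∧ ℓ ≫ j = i ∧
        FlatMod.IsFinLocFreeOfRank r' G'' ∧ Curv2.deg k X G r' ≤ Curv2.deg k X G'' r' ∧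
        FlatMod.IsFinLocFree (cokernel j) := by
    intro n
    induction n with
    | zero =>
      intro G hG i hi hn
      haveI := hi
      by_cases hlf : FlatMod.IsFinLocFree (cokernel i)
      · exact ⟨G, i, 𝟙 G, hi, Category.id_comp _, hG, le_rfl, hlf⟩
      · obtain ⟨G₁, j₁, ℓ₁, hj₁, hℓ₁, hG₁, hlt⟩ := exists_enlarge k X hdim hreg hG hE i hlf
        have := hN G₁ r' j₁ hj₁ hG₁
        exfalso
        simp only [Nat.cast_zero] at hn
        linarith
    | succ n ih =>
      intro G hG i hi hn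
      haveI := hi
      by_cases hlf : FlatMod.IsFinLocFree (cokernel i)
      · exact ⟨G, i, 𝟙 G, hi, Category.id_comp _, hG, le_rfl, hlf⟩
      · obtain ⟨G₁, j₁, ℓ₁, hj₁, hℓ₁, hG₁, hlt⟩ := exists_enlarge k X hdim hreg hG hE i hlf
        have hn' : N - Curv2.deg k X G₁ r' ≤ (n : ℤ) := by
          push_cast at hn
          linarith
        obtain ⟨G'', j, ℓ', hj, hℓ', hG'', hle, hlf''⟩ := ih G₁ hG₁ j₁ hj₁ hn'
        refine ⟨G'', j, ℓ₁ ≫ ℓ', hj, ?_, hG'', hlt.le.trans hle, hlf''⟩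
        rw [Category.assoc, hℓ', hℓ₁]
  have h0 : (0 : ℤ) ≤ N - Curv2.deg k X G r' := by
    have := hN G r' i inferInstance hG
    linarith
  exact key (N - Curv2.deg k X G r').toNat G hG i inferInstance (Int.self_le_toNat _)

/-- saturation with rank and degree bookkeeping for the quotient -/
theorem exists_saturation' (hdim : topologicalKrullDim X = 1)
    (hreg : ∀ x : X, IsRegularLocalRing (X.presheaf.stalk x))
    {E : X.Modules} {r : ℕ} (hE : FlatMod.IsFinLocFreeOfRank r E)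
    {G : X.Modules} {r' : ℕ} (hG : FlatMod.IsFinLocFreeOfRank r' G) (i : G ⟶ E) [Mono i] :
    ∃ (G'' : X.Modules) (j : G'' ⟶ E) (ℓ : G ⟶ G'') (s : ℕ), Mono j ∧ ℓ ≫ j = i ∧
      FlatMod.IsFinLocFreeOfRank r' G'' ∧ Curv2.deg k X G r' ≤ Curv2.deg k X G'' r' ∧
      FlatMod.IsFinLocFreeOfRank s (cokernel j) ∧ r = r' + s ∧
      Curv2.deg k X E r = Curv2.deg k X G'' r' + Curv2.deg k X (cokernel j) s := by
  obtain ⟨G'', j, ℓ, hj, hℓ, hG'', hle, hlf⟩ := exists_saturation k X hdim hreg hE hG i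
  haveI := hj
  obtain ⟨s, hQ⟩ := exists_rank_of_isFinLocFree (cokernel j) hlf
  let S : ShortComplex X.Modules := ShortComplex.mk j (cokernel.π j) (cokernel.condition j)
  have hS : S.ShortExact :=
    { exact := ShortComplex.exact_cokernel j
      mono_f := inferInstanceAs (Mono j)
      epi_g := inferInstanceAs (Epi (cokernel.π j)) }
  exact ⟨G'', j, ℓ, s, hj, hℓ, hG'', hle, hQ,
    Groth.Agent.Lib.R2H4DegAdd.rank_add S hS r' r s hG'' hE hQ,
    Groth.Agent.Lib.R2H4DegAdd.main k X S hS r' r s hG'' hE hQ⟩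

/-- kernel of an epimorphism of locally free modules: rank and degree bookkeeping -/
theorem kernel_of_epi (hdim : topologicalKrullDim X = 1)
    (hreg : ∀ x : X, IsRegularLocalRing (X.presheaf.stalk x))
    {E F : X.Modules} {r s : ℕ} (hE : FlatMod.IsFinLocFreeOfRank r E)
    (hF : FlatMod.IsFinLocFreeOfRank s F) (p : E ⟶ F) [Epi p] :
    ∃ r₀ : ℕ, FlatMod.IsFinLocFreeOfRank r₀ (kernel p) ∧ r = r₀ + s ∧
      Curv2.deg k X E r = Curv2.deg k X (kernel p) r₀ + Curv2.deg k X F s := by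
  haveI := isNoetherian_of_proper k X
  have cE := Groth.Agent.Lib.R2H1.DegTensor.isCoh_of_rank' hE
  have cF := Groth.Agent.Lib.R2H1.DegTensor.isCoh_of_rank' hF
  have lE := Groth.Agent.Lib.R2H4DegAdd.isFinLocFree_of_rank hE
  have cK : Coh.IsCoh (kernel p) := Groth.Agent.Lib.R2H2.PdSheaf.isCoh_kernel cE cF p
  obtain ⟨r₀, hK⟩ := exists_rank_of_mono hdim.le hreg E lE _ cK (kernel.ι p)
  let S : ShortComplex X.Modules := ShortComplex.mk (kernel.ι p) p (kernel.condition p)
  have hS : S.ShortExact :=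
    { exact := ShortComplex.exact_kernel p
      mono_f := inferInstanceAs (Mono (kernel.ι p))
      epi_g := inferInstanceAs (Epi p) }
  exact ⟨r₀, hK, Groth.Agent.Lib.R2H4DegAdd.rank_add S hS r₀ r s hK hE hF,
    Groth.Agent.Lib.R2H4DegAdd.main k X S hS r₀ r s hK hE hF⟩

end B

end Part1

section Part2

open Groth.Agent.Lib.R2H1.VBSub Groth.Agent.Lib.R2H1.VBRankTwo Groth.Agent.Lib.R2H1.VBSlopeB

/-- S14151 core -/
theorem s14151 (k : Type u) [Field k] (X : Scheme.{u}) [X.Over (Spec (CommRingCat.of k))]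
    [IsProper (X ↘ Spec (CommRingCat.of k))] [Smooth (X ↘ Spec (CommRingCat.of k))]
    [GeometricallyConnected (X ↘ Spec (CommRingCat.of k))] (hdim : topologicalKrullDim ↥X = 1)
    (r : ℕ) (hr : 0 < r) (E : X.Modules) (hE : FlatMod.IsFinLocFreeOfRank r E) :
    ((∀ (F : X.Modules) (s : ℕ) (p : E ⟶ F), Epi p → 0 < s → FlatMod.IsFinLocFreeOfRank s F →
      Curv2.deg k X E r * (s : ℤ) ≤ Curv2.deg k X F s * (r : ℤ)) ↔
      (∀ (G : X.Modules) (r' : ℕ) (i : G ⟶ E), Mono i → 0 < r' → FlatMod.IsFinLocFreeOfRank r' G →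
      Curv2.deg k X G r' * (r : ℤ) ≤ Curv2.deg k X E r * (r' : ℤ))) ∧
    ((∀ (F : X.Modules) (s : ℕ) (p : E ⟶ F), Epi p → 0 < s → FlatMod.IsFinLocFreeOfRank s F → (¬ IsIso p) →
      Curv2.deg k X E r * (s : ℤ) < Curv2.deg k X F s * (r : ℤ)) ↔
      (∀ (G : X.Modules) (r' : ℕ) (i : G ⟶ E), Mono i → 0 < r' → FlatMod.IsFinLocFreeOfRank r' G → (¬ IsIso i) →
      Curv2.deg k X G r' * (r : ℤ) < Curv2.deg k X E r * (r' : ℤ))) := by
  haveI : IsIntegral X := isIntegral_of_smooth_geomConn k X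
  have hreg := hreg_of_smooth k X
  refine ⟨⟨fun hq G r' i hi hr' hG => ?_, fun hs F s p hp hs' hF => ?_⟩,
    ⟨fun hq G r' i hi hr' hG hni => ?_, fun hs F s p hp hs' hF hni => ?_⟩⟩
  · haveI := hi
    obtain ⟨G'', j, ℓ, s, hj, hℓ, hG'', hle, hQ, hrk, hdeg⟩ :=
      exists_saturation' k X hdim hreg hE hG i
    haveI := hj
    have hrk' : (r : ℤ) = (r' : ℤ) + (s : ℤ) := by exact_mod_cast hrk
    have hpos : (0 : ℤ) ≤ (r' : ℤ) + (s : ℤ) := by positivity
    have hm := mul_le_mul_of_nonneg_right hle hpos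
    rcases Nat.eq_zero_or_pos s with hs0 | hs0
    · subst hs0
      have hz := deg_rank_zero k X hQ
      rw [hdeg, hz, hrk']
      simp only [Nat.cast_zero, add_zero] at hm ⊢
      exact hm
    · have hq' := hq (cokernel j) s (cokernel.π j) inferInstance hs0 hQ
      rw [hdeg, hrk'] at hq'
      rw [hdeg, hrk']
      nlinarith
  · haveI := hp
    obtain ⟨r₀, hK, hrk, hdeg⟩ := kernel_of_epi k X hdim hreg hE hF p
    have hrk' : (r : ℤ) = (r₀ : ℤ) + (s : ℤ) := by exact_mod_cast hrk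
    rcases Nat.eq_zero_or_pos r₀ with h0 | h0
    · subst h0
      have hz := deg_rank_zero k X hK
      rw [hdeg, hz, hrk']
      simp
    · have h := hs (kernel p) r₀ (kernel.ι p) inferInstance h0 hK
      rw [hdeg, hrk'] at h
      rw [hdeg, hrk']
      nlinarith
  · haveI := hi
    by_cases hrr : r' = r
    · subst hrr
      obtain ⟨h1, h2⟩ := deg_le_of_mono_same_rank k X hdim hG hE i
      have hlt : Curv2.deg k X G r' < Curv2.deg k X E r' :=
        lt_of_le_of_ne h1 (fun h => hni (h2 h))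
      exact mul_lt_mul_of_pos_right hlt (by exact_mod_cast hr)
    · obtain ⟨G'', j, ℓ, s, hj, hℓ, hG'', hle, hQ, hrk, hdeg⟩ :=
        exists_saturation' k X hdim hreg hE hG i
      haveI := hj
      have hs0 : 0 < s := by omega
      have hrk' : (r : ℤ) = (r' : ℤ) + (s : ℤ) := by exact_mod_cast hrk
      have hpos : (0 : ℤ) ≤ (r' : ℤ) + (s : ℤ) := by positivity
      have hm := mul_le_mul_of_nonneg_right hle hpos
      have hπ : ¬ IsIso (cokernel.π j) := by
        intro hiso
        have hj0 : j = 0 := zero_of_comp_mono (cokernel.π j) (cokernel.condition j)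
        exact not_isZero_of_rank_pos hG'' hr' (IsZero.of_mono_eq_zero j hj0)
      have hq' := hq (cokernel j) s (cokernel.π j) inferInstance hs0 hQ hπ
      rw [hdeg, hrk'] at hq'
      rw [hdeg, hrk']
      nlinarith
  · haveI := hp
    obtain ⟨r₀, hK, hrk, hdeg⟩ := kernel_of_epi k X hdim hreg hE hF p
    have hrk' : (r : ℤ) = (r₀ : ℤ) + (s : ℤ) := by exact_mod_cast hrk
    rcases Nat.eq_zero_or_pos r₀ with h0 | h0
    · subst h0
      exfalso
      have hz : IsZero (kernel p) := Groth.Agent.Lib.R2H2.AmpleElt.isZero_of_rank_zero hK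
      haveI : Mono p := Preadditive.mono_of_kernel_zero (hz.eq_of_src _ _)
      exact hni (isIso_of_mono_of_epi p)
    · have hι : ¬ IsIso (kernel.ι p) := by
        intro hiso
        have hp0 : p = 0 := zero_of_epi_comp (kernel.ι p) (kernel.condition p)
        exact not_isZero_of_rank_pos hF hs' (IsZero.of_epi_eq_zero p hp0)
      have h := hs (kernel p) r₀ (kernel.ι p) inferInstance h0 hK hι
      rw [hdeg, hrk'] at h
      rw [hdeg, hrk']
      nlinarith

end Part2

end Groth.Agent.Lib.R2H1.VBSat
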