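import Mathlib
import Groth.Agent.Lib.R2H1VBSat
set_option backward.isDefEq.respectTransparency.types false

/-!
Semistable bundles of fixed slope on a regular integral proper curve form an abelian subcategory (s16469): kernel and cokernel of a map between semistable bundles of the same slope are locally free, semistable, of the same slope. Also cokernel_iso (cokernel of first map of a short exact sequence), isFinLocFree_of_iso, isFinLocFreeOfRank_of_iso.
-/

set_option autoImplicit false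
set_option linter.style.haveILetI false
set_option linter.unusedSectionVars false
universe u v

open CategoryTheory CategoryTheory.Limits AlgebraicGeometry TopologicalSpace Opposite

namespace Groth.Agent.Lib.R2H1.VBSsCat

section Part1

open Groth.Agent.Lib.R2H1.VBSub Groth.Agent.Lib.R2H1.VBRankTwo Groth.Agent.Lib.R2H1.VBSlopeB
open Groth.Agent.Lib.R2H1.VBSat Groth.Agent.Lib.R2H1.CurveEuler

section Cat
variable {C : Type*} [Category C] [Abelian C]

/-- the cokernel of the first map of a short exact sequence is the third term -/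
theorem cokernel_iso (T : ShortComplex C) (hT : T.ShortExact) :
    ∃ e : cokernel T.f ≅ T.X₃, cokernel.π T.f ≫ e.hom = T.g := by
  haveI := hT.epi_g
  have h1 := hT.exact.gIsCokernel
  have h2 := colimit.isColimit (parallelPair T.f 0)
  refine ⟨h2.coconePointUniqueUpToIso h1, ?_⟩
  exact h2.comp_coconePointUniqueUpToIso_hom h1 WalkingParallelPair.one

end Cat

section Iso
variable {X : Scheme.{u}}

theorem isFinLocFree_of_iso {M N : X.Modules} (e : M ≅ N)
    (h : FlatMod.IsFinLocFree M) : FlatMod.IsFinLocFree N := by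
  intro x
  obtain ⟨U, n, hx, ⟨i⟩⟩ := h x
  exact ⟨U, n, hx, ⟨(Scheme.Modules.restrictFunctor U.ι).mapIso e.symm ≪≫ i⟩⟩

theorem isFinLocFreeOfRank_of_iso {M N : X.Modules} (e : M ≅ N) {r : ℕ}
    (h : FlatMod.IsFinLocFreeOfRank r M) : FlatMod.IsFinLocFreeOfRank r N := by
  intro x
  obtain ⟨U, hx, ⟨i⟩⟩ := h x
  exact ⟨U, hx, ⟨(Scheme.Modules.restrictFunctor U.ι).mapIso e.symm ≪≫ i⟩⟩

end Iso

variable (k : Type u) [Field k] (X : Scheme.{u}) [X.Over (Spec (CommRingCat.of k))]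
    [IsProper (X ↘ (Spec (CommRingCat.of k)))] [IsIntegral X]

/-- S16469 core: semistable bundles of fixed slope form an abelian subcategory -/
theorem s16469 (hdim : topologicalKrullDim X = 1)
    (hreg : ∀ x : X, IsRegularLocalRing (X.presheaf.stalk x))
    (r s : ℕ) (hr : 0 < r) (hs : 0 < s) (E F : X.Modules)
    (hE : FlatMod.IsFinLocFreeOfRank r E) (hF : FlatMod.IsFinLocFreeOfRank s F)
    (hEss : ModFun.IsSlopeSemistable k X E r) (hFss : ModFun.IsSlopeSemistable k X F s)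
    (hμ : Curv2.deg k X E r * (s : ℤ) = Curv2.deg k X F s * (r : ℤ)) (f : E ⟶ F) :
    (∃ r₀ : ℕ, FlatMod.IsFinLocFreeOfRank r₀ (kernel f) ∧
        Curv2.deg k X (kernel f) r₀ * (r : ℤ) = Curv2.deg k X E r * (r₀ : ℤ) ∧
        ∀ (G : X.Modules) (n : ℕ) (j : G ⟶ kernel f), Mono j → 0 < n → FlatMod.IsFinLocFreeOfRank n G →
          Curv2.deg k X G n * (r₀ : ℤ) ≤ Curv2.deg k X (kernel f) r₀ * (n : ℤ)) ∧
      (∃ s₀ : ℕ, FlatMod.IsFinLocFreeOfRank s₀ (cokernel f) ∧
        Curv2.deg k X (cokernel f) s₀ * (s : ℤ) = Curv2.deg k X F s * (s₀ : ℤ) ∧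
        ∀ (G : X.Modules) (n : ℕ) (j : G ⟶ cokernel f), Mono j → 0 < n → FlatMod.IsFinLocFreeOfRank n G →
          Curv2.deg k X G n * (s₀ : ℤ) ≤ Curv2.deg k X (cokernel f) s₀ * (n : ℤ)) := by
  haveI := isNoetherian_of_proper k X
  have cE := Groth.Agent.Lib.R2H1.DegTensor.isCoh_of_rank' hE
  have cF := Groth.Agent.Lib.R2H1.DegTensor.isCoh_of_rank' hF
  have lE := Groth.Agent.Lib.R2H4DegAdd.isFinLocFree_of_rank hE
  have lF := Groth.Agent.Lib.R2H4DegAdd.isFinLocFree_of_rank hF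
  have cQ : Coh.IsCoh (cokernel f) := Groth.Agent.Lib.R2H2.NilFilt.isCoh_cokernel cE cF f
  have cI : Coh.IsCoh (Abelian.image f) :=
    Groth.Agent.Lib.R2H2.PdSheaf.isCoh_kernel cF cQ (cokernel.π f)
  have cK : Coh.IsCoh (kernel f) := Groth.Agent.Lib.R2H2.PdSheaf.isCoh_kernel cE cF f
  obtain ⟨r₁, hI⟩ := exists_rank_of_mono hdim.le hreg F lF (Abelian.image f) cI
    (Abelian.image.ι f)
  obtain ⟨r₀, hK⟩ := exists_rank_of_mono hdim.le hreg E lE _ cK (kernel.ι f)
  have hz1 : kernel.ι f ≫ Abelian.factorThruImage f = 0 := by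
    rw [← cancel_mono (Abelian.image.ι f), Category.assoc, Abelian.image.fac, kernel.condition,
      zero_comp]
  let S₁ : ShortComplex X.Modules :=
    ShortComplex.mk (kernel.ι f) (Abelian.factorThruImage f) hz1
  have hS₁ : S₁.ShortExact :=
    { exact := ShortComplex.exact_of_f_is_kernel _
        (KernelFork.IsLimit.ofι' (kernel.ι f) hz1 fun {A} g hg =>
          ⟨kernel.lift f g (by
            rw [← Abelian.image.fac f, ← Category.assoc, hg, zero_comp]), kernel.lift_ι _ _ _⟩)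
      mono_f := inferInstanceAs (Mono (kernel.ι f))
      epi_g := inferInstanceAs (Epi (Abelian.factorThruImage f)) }
  have hrk₁ : r = r₀ + r₁ := Groth.Agent.Lib.R2H4DegAdd.rank_add S₁ hS₁ r₀ r r₁ hK hE hI
  have hdeg₁ : Curv2.deg k X E r = Curv2.deg k X (kernel f) r₀ + Curv2.deg k X (Abelian.image f) r₁ :=
    Groth.Agent.Lib.R2H4DegAdd.main k X S₁ hS₁ r₀ r r₁ hK hE hI
  let S₂ : ShortComplex X.Modules :=
    ShortComplex.mk (Abelian.image.ι f) (cokernel.π f) (kernel.condition (cokernel.π f))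
  have hS₂ : S₂.ShortExact :=
    { exact := ShortComplex.exact_kernel (cokernel.π f)
      mono_f := inferInstanceAs (Mono (Abelian.image.ι f))
      epi_g := inferInstanceAs (Epi (cokernel.π f)) }
  have hrZ : (0 : ℤ) < (r : ℤ) := by exact_mod_cast hr
  have hsZ : (0 : ℤ) < (s : ℤ) := by exact_mod_cast hs
  have hr₀Z : (0 : ℤ) ≤ (r₀ : ℤ) := by positivity
  have hr₁Z : (0 : ℤ) ≤ (r₁ : ℤ) := by positivity
  have hrk₁' : (r : ℤ) = (r₀ : ℤ) + (r₁ : ℤ) := by exact_mod_cast hrk₁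
  have hA : Curv2.deg k X (kernel f) r₀ * (r : ℤ) ≤ Curv2.deg k X E r * (r₀ : ℤ) := by
    rcases Nat.eq_zero_or_pos r₀ with h0 | h0
    · subst h0
      rw [deg_rank_zero k X hK]
      simp
    · exact hEss _ r₀ (kernel.ι f) inferInstance h0 hK
  have hB0 : Curv2.deg k X (Abelian.image f) r₁ * (s : ℤ) ≤ Curv2.deg k X F s * (r₁ : ℤ) := by
    rcases Nat.eq_zero_or_pos r₁ with h0 | h0
    · subst h0
      rw [deg_rank_zero k X hI]
      simp
    · exact hFss _ r₁ (Abelian.image.ι f) inferInstance h0 hI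
  set dE := Curv2.deg k X E r with hdE
  set dF := Curv2.deg k X F s with hdF
  set dK := Curv2.deg k X (kernel f) r₀ with hdK
  set dI := Curv2.deg k X (Abelian.image f) r₁ with hdI
  have hB : dI * (r : ℤ) ≤ dE * (r₁ : ℤ) := by
    have h1 : dI * (r : ℤ) * (s : ℤ) ≤ dE * (r₁ : ℤ) * (s : ℤ) := by
      nlinarith [mul_le_mul_of_nonneg_right hB0 hrZ.le, congrArg (· * (r₁ : ℤ)) hμ]
    exact le_of_mul_le_mul_right h1 hsZ
  have hKeq : dK * (r : ℤ) = dE * (r₀ : ℤ) := by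
    refine le_antisymm hA ?_
    rw [hrk₁', hdeg₁] at hB ⊢
    nlinarith
  have hIeq : dI * (r : ℤ) = dE * (r₁ : ℤ) := by
    refine le_antisymm hB ?_
    rw [hrk₁', hdeg₁] at hA ⊢
    nlinarith
  have hIeq' : dI * (s : ℤ) = dF * (r₁ : ℤ) := by
    have h1 : dI * (s : ℤ) * (r : ℤ) = dF * (r₁ : ℤ) * (r : ℤ) := by
      nlinarith [congrArg (· * (s : ℤ)) hIeq, congrArg (· * (r₁ : ℤ)) hμ]
    exact mul_right_cancel₀ hrZ.ne' h1
  refine ⟨⟨r₀, hK, hKeq, fun G n j hj hn hG => ?_⟩, ?_⟩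
  · haveI := hj
    have h := hEss G n (j ≫ kernel.ι f) (mono_comp _ _) hn hG
    have h1 : Curv2.deg k X G n * (r₀ : ℤ) * (r : ℤ) ≤ dK * (n : ℤ) * (r : ℤ) := by
      nlinarith [mul_le_mul_of_nonneg_right h hr₀Z, congrArg (· * (n : ℤ)) hKeq]
    exact le_of_mul_le_mul_right h1 hrZ
  · have hlfQ : FlatMod.IsFinLocFree (cokernel f) := by
      by_contra hnf
      obtain ⟨e, -⟩ := cokernel_iso S₂ hS₂
      have hnf' : ¬ FlatMod.IsFinLocFree (cokernel (Abelian.image.ι f)) :=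
        fun h => hnf (isFinLocFree_of_iso e h)
      obtain ⟨I'', j, ℓ, hj, hℓ, hI'', hlt⟩ :=
        exists_enlarge k X hdim hreg hI hF (Abelian.image.ι f) hnf'
      rcases Nat.eq_zero_or_pos r₁ with h0 | h0
      · subst h0
        rw [deg_rank_zero k X hI, deg_rank_zero k X hI''] at hlt
        exact lt_irrefl _ hlt
      · have h := hFss I'' r₁ j hj h0 hI''
        nlinarith [mul_lt_mul_of_pos_right hlt hsZ]
    obtain ⟨s₀, hQ⟩ := exists_rank_of_isFinLocFree (cokernel f) hlfQ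
    have hrk₂ : s = r₁ + s₀ := Groth.Agent.Lib.R2H4DegAdd.rank_add S₂ hS₂ r₁ s s₀ hI hF hQ
    have hdeg₂ : dF = dI + Curv2.deg k X (cokernel f) s₀ :=
      Groth.Agent.Lib.R2H4DegAdd.main k X S₂ hS₂ r₁ s s₀ hI hF hQ
    have hrk₂' : (s : ℤ) = (r₁ : ℤ) + (s₀ : ℤ) := by exact_mod_cast hrk₂
    have hs₀Z : (0 : ℤ) ≤ (s₀ : ℤ) := by positivity
    set dQ := Curv2.deg k X (cokernel f) s₀ with hdQ
    have hQeq : dQ * (s : ℤ) = dF * (s₀ : ℤ) := by
      have h1 : dQ = dF - dI := by linarith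
      rw [h1]
      have h2 : dF * (s₀ : ℤ) = dF * (s : ℤ) - dF * (r₁ : ℤ) := by rw [hrk₂']; ring
      rw [h2, ← hIeq']
      ring
    refine ⟨s₀, hQ, hQeq, fun G n j hj hn hG => ?_⟩
    haveI := hj
    obtain ⟨P, a, q, b, w, hb, hS, hab⟩ := pullback_ses S₂ hS₂ j
    haveI := hb
    have cG := Groth.Agent.Lib.R2H1.DegTensor.isCoh_of_rank' hG
    have cP : Coh.IsCoh P := Groth.Agent.Lib.R2H2.PdSheaf.isCoh_X₂ _ hS cI cG
    obtain ⟨rP, hP⟩ := exists_rank_of_mono hdim.le hreg F lF P cP b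
    have hrkP : rP = r₁ + n := Groth.Agent.Lib.R2H4DegAdd.rank_add _ hS r₁ rP n hI hP hG
    have hdegP : Curv2.deg k X P rP = dI + Curv2.deg k X G n :=
      Groth.Agent.Lib.R2H4DegAdd.main k X _ hS r₁ rP n hI hP hG
    have e := hFss P rP b hb (by omega) hP
    have hrkP' : (rP : ℤ) = (r₁ : ℤ) + (n : ℤ) := by exact_mod_cast hrkP
    rw [hdegP, hrkP'] at e
    have e' : Curv2.deg k X G n * (s : ℤ) ≤ dF * (n : ℤ) := by nlinarith
    have h1 : Curv2.deg k X G n * (s₀ : ℤ) * (s : ℤ) ≤ dQ * (n : ℤ) * (s : ℤ) := by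
      nlinarith [mul_le_mul_of_nonneg_right e' hs₀Z, congrArg (· * (n : ℤ)) hQeq]
    exact le_of_mul_le_mul_right h1 hsZ

end Part1

end Groth.Agent.Lib.R2H1.VBSsCat
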