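import Mathlib
import Groth.Agent.Lib.R2H1VBSsCat
set_option backward.isDefEq.respectTransparency.types false

/-!
Destabilising (maximal slope, maximal rank) sub-bundle of a vector bundle on a regular integral proper curve: drop_of_max (slope drops strictly on the quotient), comp_cokernel_eq_zero (maximal-slope subsheaves map to zero in the quotient), s16470 (existence and uniqueness).
-/

set_option autoImplicit false
set_option linter.style.haveILetI false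
set_option linter.unusedSectionVars false
universe u v

open CategoryTheory CategoryTheory.Limits AlgebraicGeometry TopologicalSpace Opposite

namespace Groth.Agent.Lib.R2H1.VBDestab

section Part1

open Groth.Agent.Lib.R2H1.VBSub Groth.Agent.Lib.R2H1.VBRankTwo Groth.Agent.Lib.R2H1.VBSlopeB
open Groth.Agent.Lib.R2H1.VBSat Groth.Agent.Lib.R2H1.CurveEuler Groth.Agent.Lib.R2H1.VBMaxSlope

variable (k : Type u) [Field k] (X : Scheme.{u}) [X.Over (Spec (CommRingCat.of k))]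
    [IsProper (X ↘ (Spec (CommRingCat.of k)))] [IsIntegral X]

/-- the slope drops strictly on the quotient by a maximal-slope, maximal-rank subsheaf -/
theorem drop_of_max (hdim : topologicalKrullDim X = 1)
    (hreg : ∀ x : X, IsRegularLocalRing (X.presheaf.stalk x))
    {E E₁ : X.Modules} {r r₁ : ℕ} (hE : FlatMod.IsFinLocFreeOfRank r E)
    (hE₁ : FlatMod.IsFinLocFreeOfRank r₁ E₁) (hr₁ : 0 < r₁) (i₁ : E₁ ⟶ E) [Mono i₁]
    (hmax : ∀ (G : X.Modules) (r' : ℕ) (j : G ⟶ E), Mono j → 0 < r' →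
      FlatMod.IsFinLocFreeOfRank r' G → Curv2.deg k X G r' * (r₁ : ℤ) ≤ Curv2.deg k X E₁ r₁ * (r' : ℤ))
    (hrank : ∀ (G : X.Modules) (r' : ℕ) (j : G ⟶ E), Mono j → 0 < r' →
      FlatMod.IsFinLocFreeOfRank r' G →
      Curv2.deg k X G r' * (r₁ : ℤ) = Curv2.deg k X E₁ r₁ * (r' : ℤ) → r' ≤ r₁)
    (Q : X.Modules) (s : ℕ) (j : Q ⟶ cokernel i₁) (hj : Mono j) (hs : 0 < s)
    (hQ : FlatMod.IsFinLocFreeOfRank s Q) :
    Curv2.deg k X Q s * (r₁ : ℤ) < Curv2.deg k X E₁ r₁ * (s : ℤ) := by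
  haveI := isNoetherian_of_proper k X
  haveI := hj
  let T : ShortComplex X.Modules := ShortComplex.mk i₁ (cokernel.π i₁) (cokernel.condition i₁)
  have hT : T.ShortExact :=
    { exact := ShortComplex.exact_cokernel i₁
      mono_f := inferInstanceAs (Mono i₁)
      epi_g := inferInstanceAs (Epi (cokernel.π i₁)) }
  obtain ⟨P, a, q, b, w, hb, hS, hab⟩ := pullback_ses T hT j
  haveI := hb
  have cQ := Groth.Agent.Lib.R2H1.DegTensor.isCoh_of_rank' hQ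
  have c₁ := Groth.Agent.Lib.R2H1.DegTensor.isCoh_of_rank' hE₁
  have cP : Coh.IsCoh P := Groth.Agent.Lib.R2H2.PdSheaf.isCoh_X₂ _ hS c₁ cQ
  obtain ⟨rP, hP⟩ := exists_rank_of_mono hdim.le hreg E
    (Groth.Agent.Lib.R2H4DegAdd.isFinLocFree_of_rank hE) P cP b
  have hrk : rP = r₁ + s := Groth.Agent.Lib.R2H4DegAdd.rank_add _ hS r₁ rP s hE₁ hP hQ
  have hdeg : Curv2.deg k X P rP = Curv2.deg k X E₁ r₁ + Curv2.deg k X Q s :=
    Groth.Agent.Lib.R2H4DegAdd.main k X _ hS r₁ rP s hE₁ hP hQ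
  have hrk' : (rP : ℤ) = (r₁ : ℤ) + (s : ℤ) := by exact_mod_cast hrk
  have e := hmax P rP b hb (by omega) hP
  have e2 := hrank P rP b hb (by omega) hP
  rw [hdeg, hrk'] at e e2
  have hle : Curv2.deg k X Q s * (r₁ : ℤ) ≤ Curv2.deg k X E₁ r₁ * (s : ℤ) := by nlinarith
  refine lt_of_le_of_ne hle fun heq => ?_
  have : rP ≤ r₁ := e2 (by nlinarith)
  omega

/-- a maximal-slope subsheaf maps to zero in the quotient by the destabilising subsheaf -/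
theorem comp_cokernel_eq_zero (hdim : topologicalKrullDim X = 1)
    (hreg : ∀ x : X, IsRegularLocalRing (X.presheaf.stalk x))
    {E E₁ E₁' : X.Modules} {r r₁ r₁' : ℕ} (hE : FlatMod.IsFinLocFreeOfRank r E)
    (hE₁ : FlatMod.IsFinLocFreeOfRank r₁ E₁) (hE₁' : FlatMod.IsFinLocFreeOfRank r₁' E₁')
    (hr₁ : 0 < r₁) (hr₁' : 0 < r₁') (i₁ : E₁ ⟶ E) (i₁' : E₁' ⟶ E) [Mono i₁] [Mono i₁']
    (hmax : ∀ (G : X.Modules) (r' : ℕ) (j : G ⟶ E), Mono j → 0 < r' →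
      FlatMod.IsFinLocFreeOfRank r' G → Curv2.deg k X G r' * (r₁ : ℤ) ≤ Curv2.deg k X E₁ r₁ * (r' : ℤ))
    (hdrop : ∀ (Q : X.Modules) (s : ℕ) (j : Q ⟶ cokernel i₁), Mono j → 0 < s →
      FlatMod.IsFinLocFreeOfRank s Q → Curv2.deg k X Q s * (r₁ : ℤ) < Curv2.deg k X E₁ r₁ * (s : ℤ))
    (hge : Curv2.deg k X E₁ r₁ * (r₁' : ℤ) ≤ Curv2.deg k X E₁' r₁' * (r₁ : ℤ)) :
    i₁' ≫ cokernel.π i₁ = 0 := by
  haveI := isNoetherian_of_proper k X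
  -- the quotient is locally free
  have hlf : FlatMod.IsFinLocFree (cokernel i₁) := by
    by_contra hnf
    obtain ⟨G'', j, ℓ, hj, hℓ, hG'', hlt⟩ := exists_enlarge k X hdim hreg hE₁ hE i₁ hnf
    have h := hmax G'' r₁ j hj hr₁ hG''
    have hr₁Z : (0 : ℤ) < (r₁ : ℤ) := by exact_mod_cast hr₁
    nlinarith [mul_lt_mul_of_pos_right hlt hr₁Z]
  obtain ⟨s₁, hQ₁⟩ := exists_rank_of_isFinLocFree (cokernel i₁) hlf
  obtain ⟨K, I, a, p, j, ρ₀, ρ₁, ha, hp, hj, hpj, hap, hK, hI, hrk, hdeg, h0, h1, hle⟩ :=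
    exists_ker_im k X hdim hreg hE₁' hQ₁ (i₁' ≫ cokernel.π i₁)
  haveI := ha
  haveI := hj
  rcases Nat.eq_zero_or_pos ρ₁ with hρ | hρ
  · exact h1 hρ
  · exfalso
    have e1 := hdrop I ρ₁ j hj hρ hI
    have e0 : Curv2.deg k X K ρ₀ * (r₁ : ℤ) ≤ Curv2.deg k X E₁ r₁ * (ρ₀ : ℤ) := by
      rcases Nat.eq_zero_or_pos ρ₀ with h | h
      · subst h
        rw [deg_rank_zero k X hK]
        simp
      · exact hmax K ρ₀ (a ≫ i₁') (mono_comp _ _) h hK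
    have hrk' : (r₁' : ℤ) = (ρ₀ : ℤ) + (ρ₁ : ℤ) := by exact_mod_cast hrk
    rw [hdeg, hrk'] at hge
    nlinarith

/-- S16470 core: existence and uniqueness of the destabilising sub-bundle -/
theorem s16470 (hdim : topologicalKrullDim X = 1)
    (hreg : ∀ x : X, IsRegularLocalRing (X.presheaf.stalk x))
    (r : ℕ) (hr : 0 < r) (E : X.Modules) (hE : FlatMod.IsFinLocFreeOfRank r E) :
    (∃ (E₁ : X.Modules) (r₁ : ℕ) (i₁ : E₁ ⟶ E), Mono i₁ ∧ 0 < r₁ ∧ FlatMod.IsFinLocFreeOfRank r₁ E₁ ∧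
      (∀ (F : X.Modules) (r' : ℕ) (j : F ⟶ E), Mono j → 0 < r' → FlatMod.IsFinLocFreeOfRank r' F →
        Curv2.deg k X F r' * (r₁ : ℤ) ≤ Curv2.deg k X E₁ r₁ * (r' : ℤ)) ∧
      (∀ (Q : X.Modules) (s : ℕ) (j : Q ⟶ cokernel i₁), Mono j → 0 < s → FlatMod.IsFinLocFreeOfRank s Q →
        Curv2.deg k X Q s * (r₁ : ℤ) < Curv2.deg k X E₁ r₁ * (s : ℤ))) ∧
    (∀ (E₁ E₁' : X.Modules) (r₁ r₁' : ℕ) (i₁ : E₁ ⟶ E) (i₁' : E₁' ⟶ E),
      Mono i₁ → 0 < r₁ → FlatMod.IsFinLocFreeOfRank r₁ E₁ →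
      (∀ (F : X.Modules) (r' : ℕ) (j : F ⟶ E), Mono j → 0 < r' → FlatMod.IsFinLocFreeOfRank r' F →
        Curv2.deg k X F r' * (r₁ : ℤ) ≤ Curv2.deg k X E₁ r₁ * (r' : ℤ)) →
      (∀ (Q : X.Modules) (s : ℕ) (j : Q ⟶ cokernel i₁), Mono j → 0 < s → FlatMod.IsFinLocFreeOfRank s Q →
        Curv2.deg k X Q s * (r₁ : ℤ) < Curv2.deg k X E₁ r₁ * (s : ℤ)) →
      Mono i₁' → 0 < r₁' → FlatMod.IsFinLocFreeOfRank r₁' E₁' →
      (∀ (F : X.Modules) (r' : ℕ) (j : F ⟶ E), Mono j → 0 < r' → FlatMod.IsFinLocFreeOfRank r' F →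
        Curv2.deg k X F r' * (r₁' : ℤ) ≤ Curv2.deg k X E₁' r₁' * (r' : ℤ)) →
      (∀ (Q : X.Modules) (s : ℕ) (j : Q ⟶ cokernel i₁'), Mono j → 0 < s → FlatMod.IsFinLocFreeOfRank s Q →
        Curv2.deg k X Q s * (r₁' : ℤ) < Curv2.deg k X E₁' r₁' * (s : ℤ)) →
      ∃ e : E₁ ≅ E₁', e.hom ≫ i₁' = i₁) := by
  constructor
  · obtain ⟨E₁, r₁, i₁, hi₁, hr₁, hE₁, hmax, hrank⟩ := exists_maxSlope_sub k X hdim r hr E hE
    haveI := hi₁
    exact ⟨E₁, r₁, i₁, hi₁, hr₁, hE₁, hmax, fun Q s j hj hs hQ =>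
      drop_of_max k X hdim hreg hE hE₁ hr₁ i₁ hmax hrank Q s j hj hs hQ⟩
  · intro E₁ E₁' r₁ r₁' i₁ i₁' hi₁ hr₁ hE₁ hmax hdrop hi₁' hr₁' hE₁' hmax' hdrop'
    haveI := hi₁
    haveI := hi₁'
    have hge : Curv2.deg k X E₁ r₁ * (r₁' : ℤ) ≤ Curv2.deg k X E₁' r₁' * (r₁ : ℤ) :=
      hmax' E₁ r₁ i₁ hi₁ hr₁ hE₁
    have hge' : Curv2.deg k X E₁' r₁' * (r₁ : ℤ) ≤ Curv2.deg k X E₁ r₁ * (r₁' : ℤ) :=
      hmax E₁' r₁' i₁' hi₁' hr₁' hE₁'
    have hz := comp_cokernel_eq_zero k X hdim hreg hE hE₁ hE₁' hr₁ hr₁' i₁ i₁' hmax hdrop hge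
    have hz' := comp_cokernel_eq_zero k X hdim hreg hE hE₁' hE₁ hr₁' hr₁ i₁' i₁ hmax' hdrop' hge'
    let u : E₁' ⟶ E₁ := Abelian.monoLift i₁ i₁' hz
    let v : E₁ ⟶ E₁' := Abelian.monoLift i₁' i₁ hz'
    have hu : u ≫ i₁ = i₁' := Abelian.monoLift_comp i₁ i₁' hz
    have hv : v ≫ i₁' = i₁ := Abelian.monoLift_comp i₁' i₁ hz'
    refine ⟨⟨v, u, ?_, ?_⟩, hv⟩
    · rw [← cancel_mono i₁, Category.assoc, hu, hv, Category.id_comp]
    · rw [← cancel_mono i₁', Category.assoc, hv, hu, Category.id_comp]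

end Part1

end Groth.Agent.Lib.R2H1.VBDestab
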