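import Mathlib
import Groth.Agent.Lib.R2H1VBSlopeB
set_option backward.isDefEq.respectTransparency.types false

/-!
Endomorphisms of bundles on proper curves over algebraically closed fields: resMap_bijective (k -> residue field at closed point), exists_not_bijective_sub_smul, stalkLin_smul/sub/id, exists_not_isIso_sub_smul (eigenvalue lemma), endo_eq_smul_of_slopeStable, endo_invertible_eq_smul, s11818.
-/

set_option autoImplicit false
set_option linter.style.haveILetI false
set_option linter.unusedSectionVars false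
universe u v

open CategoryTheory CategoryTheory.Limits AlgebraicGeometry TopologicalSpace Opposite

namespace Groth.Agent.Lib.R2H1.VBEndo

section Part1

open Groth.Agent.Lib.R2H1.VBSub Groth.Agent.Lib.R2H1.VBRankTwo Groth.Agent.Lib.R2H1.VBSlopeB
open Groth.Agent.Lib.Helper4.NormDelta Groth.Agent.Lib.Helper23.StalkLin

section A

variable {X : Scheme.{u}}

theorem fromSpecResidueField_comp_eq {R : CommRingCat.{u}} (f : X ⟶ Spec R) (x : X) :
    X.fromSpecResidueField x ≫ f = Spec.map ((Scheme.ΓSpecIso R).inv ≫ f.appTop ≫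
      X.presheaf.germ ⊤ x trivial ≫ X.residue x) := by
  have h1 : f = X.toSpecΓ ≫ Spec.map f.appTop ≫ Spec.map (Scheme.ΓSpecIso R).inv := by
    rw [← Scheme.toSpecΓ_naturality_assoc, toSpecΓ_SpecMap_ΓSpecIso_inv, Category.comp_id]
  conv_lhs => rw [h1]
  rw [Scheme.fromSpecResidueField, Category.assoc, Scheme.fromSpecStalk_toSpecΓ_assoc]
  simp only [← Spec.map_comp, Category.assoc]

/-- the canonical map from the base field to the residue field at a point -/
noncomputable def resMap (k : Type u) [Field k] (f : X ⟶ Spec (CommRingCat.of k)) (x : X) :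
    k →+* X.residueField x :=
  ((Scheme.ΓSpecIso (CommRingCat.of k)).inv ≫ f.appTop ≫
      X.presheaf.germ ⊤ x trivial ≫ X.residue x).hom

theorem resMap_apply (k : Type u) [Field k] (f : X ⟶ Spec (CommRingCat.of k)) (x : X) (c : k) :
    resMap k f x c = X.residue x (X.presheaf.germ ⊤ x trivial (Coh.toGlobal f c)) := rfl

theorem resMap_bijective (k : Type u) [Field k] [IsAlgClosed k]
    (f : X ⟶ Spec (CommRingCat.of k)) [LocallyOfFiniteType f] (x : X)
    (hx : IsClosed ({x} : Set X)) : Function.Bijective (resMap k f x) := by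
  haveI : JacobsonSpace X := LocallyOfFiniteType.jacobsonSpace f
  haveI h1 : LocallyOfFiniteType (X.fromSpecResidueField x) :=
    isClosed_singleton_iff_locallyOfFiniteType.mp hx
  have h2 : LocallyOfFiniteType (X.fromSpecResidueField x ≫ f) := inferInstance
  rw [fromSpecResidueField_comp_eq, HasRingHomProperty.Spec_iff (P := @LocallyOfFiniteType)] at h2
  algebraize [(resMap k f x)]
  haveI : Algebra.FiniteType k (X.residueField x) := h2
  haveI : Module.Finite k (X.residueField x) := finite_of_finite_type_of_isJacobsonRing k _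
  exact IsAlgClosed.algebraMap_bijective_of_isIntegral

end A

section LinAlg

open TensorProduct

/-- over a local ring whose residue field is algebraically closed and reached from `k`, any
endomorphism of a nonzero finite free module has an "eigenvalue" in `k` -/
theorem exists_not_bijective_sub_smul {R : Type u} [CommRing R] [IsLocalRing R]
    {M : Type u} [AddCommGroup M] [Module R M] [Module.Free R M] [Module.Finite R M]
    (hpos : 0 < Module.finrank R M) {k : Type u} [Field k] [IsAlgClosed k] (ι : k →+* R)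
    (hι : Function.Surjective ((IsLocalRing.residue R).comp ι)) (f : M →ₗ[R] M) :
    ∃ c : k, ¬ Function.Bijective (f - ι c • (LinearMap.id : M →ₗ[R] M)) := by
  set κ := IsLocalRing.ResidueField R
  have hinj : Function.Injective ((IsLocalRing.residue R).comp ι) := RingHom.injective _
  let e : k ≃+* κ := RingEquiv.ofBijective _ ⟨hinj, hι⟩
  haveI : IsAlgClosed κ := IsAlgClosed.of_ringEquiv k κ e
  haveI : Nontrivial (κ ⊗[R] M) := by
    apply Module.nontrivial_of_finrank_pos (R := κ)
    rw [Module.finrank_baseChange]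
    exact hpos
  obtain ⟨μ, hμ⟩ := Module.End.exists_eigenvalue (f.baseChange κ)
  obtain ⟨v, hv⟩ := hμ.exists_hasEigenvector
  obtain ⟨c, hc⟩ := hι μ
  refine ⟨c, fun hbij => ?_⟩
  let g := LinearEquiv.ofBijective (f - ι c • (LinearMap.id : M →ₗ[R] M)) hbij
  have hg : (g.baseChange R κ M M : κ ⊗[R] M →ₗ[κ] κ ⊗[R] M) =
      (f - ι c • (LinearMap.id : M →ₗ[R] M)).baseChange κ := rfl
  have h1 : (f - ι c • (LinearMap.id : M →ₗ[R] M)).baseChange κ v = 0 := by
    rw [LinearMap.baseChange_sub, LinearMap.baseChange_smul, LinearMap.sub_apply,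
      hv.apply_eq_smul, LinearMap.smul_apply, LinearMap.baseChange_id, LinearMap.id_apply]
    have : (ι c) • v = μ • v := by
      rw [← hc]
      rw [← algebraMap_smul κ (ι c) v]
      rfl
    rw [this, sub_self]
  have h2 : v = 0 := by
    have := (g.baseChange R κ M M).injective
    apply this
    rw [map_zero]
    have h3 : (g.baseChange R κ M M) v = (g.baseChange R κ M M : κ ⊗[R] M →ₗ[κ] κ ⊗[R] M) v := rfl
    rw [h3, hg, h1]
  exact hv.2 h2

end LinAlg

section B

variable (k : Type u) [Field k] (X : Scheme.{u}) [X.Over (Spec (CommRingCat.of k))]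

/-- the germ at `x` of the global function attached to `c : k` -/
noncomputable def iotaAt (x : X) : k →+* X.presheaf.stalk x :=
  (X.presheaf.germ ⊤ x trivial).hom.comp (Coh.toGlobal (X ↘ Spec (CommRingCat.of k)))

variable {X}

theorem stalkLin_smul {E F : X.Modules} (c : k) (φ : E ⟶ F) (x : X) :
    stalkLin (c • φ) x = iotaAt k X x c • stalkLin φ x := by
  apply LinearMap.ext
  intro y
  obtain ⟨U, hxU, m, rfl⟩ := TopCat.Presheaf.exists_germ_eq E.presheaf (x := x) y
  rw [stalkLin_germ, KLin.smul_app_apply, Groth.Agent.Lib.Helper2.QCoh.germ_smul,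
    LinearMap.smul_apply, stalkLin_germ]
  congr 1
  exact TopCat.Presheaf.germ_res_apply X.presheaf (homOfLE (le_top : U ≤ ⊤)) x hxU _

theorem stalkLin_sub {E F : X.Modules} (φ ψ : E ⟶ F) (x : X) :
    stalkLin (φ - ψ) x = stalkLin φ x - stalkLin ψ x := by
  apply LinearMap.ext
  intro y
  obtain ⟨U, hxU, m, rfl⟩ := TopCat.Presheaf.exists_germ_eq E.presheaf (x := x) y
  rw [LinearMap.sub_apply, stalkLin_germ, stalkLin_germ, stalkLin_germ, ← map_sub]
  rfl

theorem stalkLin_id' (E : X.Modules) (x : X) :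
    stalkLin (𝟙 E) x = LinearMap.id := by
  apply LinearMap.ext
  intro y
  obtain ⟨U, hxU, m, rfl⟩ := TopCat.Presheaf.exists_germ_eq E.presheaf (x := x) y
  rw [stalkLin_germ]
  rfl

variable [IsProper (X ↘ (Spec (CommRingCat.of k)))] [IsAlgClosed k]

/-- eigenvalue lemma: every endomorphism of a locally free module of positive rank on a nonempty
proper scheme over an algebraically closed field becomes a non-isomorphism after subtracting a
suitable scalar -/
theorem exists_not_isIso_sub_smul [Nonempty X] (r : ℕ) (hr : 0 < r) (E : X.Modules)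
    (hE : FlatMod.IsFinLocFreeOfRank r E) (φ : E ⟶ E) :
    ∃ c : k, ¬ IsIso (φ - c • 𝟙 E) := by
  haveI := Groth.Agent.Lib.R2H1.CurveEuler.isNoetherian_of_proper k X
  obtain ⟨x, hx⟩ := IsClosed.exists_closed_singleton (isClosed_univ (X := X))
    (Set.univ_nonempty)
  obtain ⟨f1, t1, r1⟩ := Groth.Agent.Lib.R2H4DegAdd.stalk_facts hE x
  haveI := f1
  haveI := t1
  have hsurj : Function.Surjective
      ((IsLocalRing.residue (X.presheaf.stalk x)).comp (iotaAt k X x)) :=
    (resMap_bijective k (X ↘ Spec (CommRingCat.of k)) x hx.2).2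
  obtain ⟨c, hc⟩ := exists_not_bijective_sub_smul (R := X.presheaf.stalk x)
    (M := E.presheaf.stalk x) (by rw [r1]; exact hr) (iotaAt k X x) hsurj (stalkLin φ x)
  refine ⟨c, fun hiso => hc ?_⟩
  haveI := hiso
  have h1 : stalkLin (φ - c • 𝟙 E) x = stalkLin φ x - iotaAt k X x c • LinearMap.id := by
    rw [stalkLin_sub, stalkLin_smul, stalkLin_id']
  rw [← h1]
  exact ⟨stalkLin_injective _ x, stalkLin_surjective _ x⟩

end B

end Part1

section Part2

open Groth.Agent.Lib.R2H1.VBSub Groth.Agent.Lib.R2H1.VBRankTwo Groth.Agent.Lib.R2H1.VBSlopeB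

variable (k : Type u) [Field k] (X : Scheme.{u}) [X.Over (Spec (CommRingCat.of k))]

theorem toSheaf_map_smul_id (E : X.Modules) (c : k) :
    (SheafOfModules.toSheaf X.ringCatSheaf).map (c • 𝟙 E) =
      Coh.smulAb E (Coh.toGlobal (X ↘ Spec (CommRingCat.of k)) c) := by
  rw [KLin.smul_id]
  rfl

variable [IsProper (X ↘ (Spec (CommRingCat.of k)))] [IsIntegral X] [IsAlgClosed k]

/-- S19668 core: endomorphisms of slope-stable bundles are scalars -/
theorem endo_eq_smul_of_slopeStable (hdim : topologicalKrullDim X = 1)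
    (hreg : ∀ x : X, IsRegularLocalRing (X.presheaf.stalk x))
    (r : ℕ) (E : X.Modules) (hE : FlatMod.IsFinLocFreeOfRank r E)
    (hst : ModFun.IsSlopeStable k X E r) (φ : E ⟶ E) : ∃ c : k, φ = c • 𝟙 E := by
  rcases Nat.eq_zero_or_pos r with h | h
  · subst h
    have hz := Groth.Agent.Lib.R2H2.AmpleElt.isZero_of_rank_zero hE
    exact ⟨0, hz.eq_of_src _ _⟩
  · obtain ⟨c, hc⟩ := exists_not_isIso_sub_smul k r h E hE φ
    refine ⟨c, ?_⟩
    by_contra hne
    exact hc (isIso_of_ne_zero_endo_of_slopeStable k X hdim hreg r E hE hst _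
      (fun h0 => hne (sub_eq_zero.mp h0)))

/-- S15334 / S11811 core -/
theorem endo_scalar_of_slopeStable (hdim : topologicalKrullDim X = 1)
    (hreg : ∀ x : X, IsRegularLocalRing (X.presheaf.stalk x))
    (r : ℕ) (E : X.Modules) (hE : FlatMod.IsFinLocFreeOfRank r E)
    (hst : ModFun.IsSlopeStable k X E r) (φ : E ⟶ E) :
    ∃ c : k, (SheafOfModules.toSheaf X.ringCatSheaf).map φ =
      Coh.smulAb E (Coh.toGlobal (X ↘ Spec (CommRingCat.of k)) c) := by
  obtain ⟨c, hc⟩ := endo_eq_smul_of_slopeStable k X hdim hreg r E hE hst φ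
  exact ⟨c, by rw [hc, toSheaf_map_smul_id]⟩

end Part2

section Part3

open Groth.Agent.Lib.R2H1.VBSub Groth.Agent.Lib.R2H1.VBRankTwo Groth.Agent.Lib.R2H1.VBSlopeB

open Groth.Agent.Lib.R2H1.CurveDegSec

variable (k : Type u) [Field k] (X : Scheme.{u}) [X.Over (Spec (CommRingCat.of k))]
    [IsProper (X ↘ (Spec (CommRingCat.of k)))] [IsIntegral X] [IsAlgClosed k]

/-- endomorphisms of an invertible module on an integral proper curve over an algebraically closed
field are scalars -/
theorem endo_invertible_eq_smul (hdim : topologicalKrullDim X = 1)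
    (L : X.Modules) (hL : PicF.IsInvertible L) (φ : L ⟶ L) : ∃ c : k, φ = c • 𝟙 L := by
  obtain ⟨c, hc⟩ := exists_not_isIso_sub_smul k 1 Nat.one_pos L
    (Groth.Agent.Lib.Helper23.SecTw.isFinLocFreeOfRank_one_of_isInvertible L hL) φ
  refine ⟨c, ?_⟩
  by_contra hne
  exact hc ((s1521 k X hdim L L hL hL _ (fun h0 => hne (sub_eq_zero.mp h0))).2 rfl)

theorem smul_id_eq_zero_iff {E : X.Modules} (hE : ¬ IsZero E) (c : k) :
    c • 𝟙 E = 0 ↔ c = 0 := by
  constructor
  · intro h
    by_contra hc
    apply hE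
    rw [IsZero.iff_id_eq_zero]
    have : 𝟙 E = c⁻¹ • (c • 𝟙 E) := by rw [smul_smul, inv_mul_cancel₀ hc, one_smul]
    rw [this, h, smul_zero]
  · rintro rfl
    rw [zero_smul]

/-- S11818 core -/
theorem s11818 (hdim : topologicalKrullDim X = 1)
    (S : ShortComplex X.Modules) (hS : S.ShortExact)
    (hL : PicF.IsInvertible S.X₁) (hM : PicF.IsInvertible S.X₃)
    (hdeg : Curv2.deg k X S.X₃ 1 < Curv2.deg k X S.X₁ 1)
    (hhom : ∀ g : S.X₃ ⟶ S.X₁, g = 0) (hns : ¬ IsSplitEpi S.g)
    (φ : S.X₂ ⟶ S.X₂) : ∃ c : k, φ = c • 𝟙 S.X₂ := by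
  haveI := hS.mono_f
  haveI := hS.epi_g
  have h1 : (S.f ≫ φ) ≫ S.g = 0 := by
    by_contra hne
    have := (s1521 k X hdim S.X₁ S.X₃ hL hM _ hne).1
    linarith
  obtain ⟨a, ha⟩ := endo_invertible_eq_smul k X hdim S.X₁ hL (hS.exact.lift (S.f ≫ φ) h1)
  have hα : (a • 𝟙 S.X₁) ≫ S.f = S.f ≫ φ := by
    rw [← ha]
    exact hS.exact.lift_f _ _
  have h3 : S.f ≫ (φ - a • 𝟙 S.X₂) = 0 := by
    rw [Preadditive.comp_sub, ← hα, Linear.smul_comp, Linear.comp_smul, Category.id_comp,
      Category.comp_id, sub_self]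
  set h := hS.exact.desc (φ - a • 𝟙 S.X₂) h3 with hh
  have hgh : S.g ≫ h = φ - a • 𝟙 S.X₂ := hS.exact.g_desc _ _
  obtain ⟨b, hb⟩ := endo_invertible_eq_smul k X hdim S.X₃ hM (h ≫ S.g)
  have hb0 : b = 0 := by
    by_contra hbne
    apply hns
    refine IsSplitEpi.mk' ⟨b⁻¹ • h, ?_⟩
    rw [Linear.smul_comp, hb, smul_smul, inv_mul_cancel₀ hbne, one_smul]
  rw [hb0, zero_smul] at hb
  have h4 : hS.exact.lift h hb = 0 := hhom _
  have h5 : h = 0 := by
    rw [← hS.exact.lift_f h hb, h4, zero_comp]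
  refine ⟨a, ?_⟩
  rw [← sub_eq_zero, ← hgh, h5, comp_zero]

end Part3

end Groth.Agent.Lib.R2H1.VBEndo
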