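import Mathlib
import Groth.Agent.Lib.R2H1VBEndo
set_option backward.isDefEq.respectTransparency.types false

/-!
Nonsplit extensions of line bundles: endo_decomp (End = scalars + nilpotents through Hom(M,L)), s11819 (indecomposable, not simple).
-/

set_option autoImplicit false
set_option linter.style.haveILetI false
set_option linter.unusedSectionVars false
universe u v

open CategoryTheory CategoryTheory.Limits AlgebraicGeometry TopologicalSpace Opposite

namespace Groth.Agent.Lib.R2H1.VBExt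

section Part1

open Groth.Agent.Lib.R2H1.VBSub Groth.Agent.Lib.R2H1.VBRankTwo Groth.Agent.Lib.R2H1.VBSlopeB
open Groth.Agent.Lib.R2H1.VBEndo
open Groth.Agent.Lib.R2H1.CurveDegSec

variable (k : Type u) [Field k] (X : Scheme.{u}) [X.Over (Spec (CommRingCat.of k))]
    [IsProper (X ↘ (Spec (CommRingCat.of k)))] [IsIntegral X] [IsAlgClosed k]

/-- endomorphisms of a nonsplit extension of `M` by `L` with `Hom(M, L) ≠ 0` -/
theorem endo_decomp (hdim : topologicalKrullDim X = 1)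
    (S : ShortComplex X.Modules) (hS : S.ShortExact)
    (hL : PicF.IsInvertible S.X₁) (hM : PicF.IsInvertible S.X₃)
    (g : S.X₃ ⟶ S.X₁) (hg : g ≠ 0) (hns : ¬ IsSplitEpi S.g) (φ : S.X₂ ⟶ S.X₂) :
    ∃ (a : k) (h' : S.X₃ ⟶ S.X₁), φ = a • 𝟙 S.X₂ + S.g ≫ h' ≫ S.f := by
  haveI := hS.mono_f
  haveI := hS.epi_g
  have h1 : (S.f ≫ φ) ≫ S.g = 0 := by
    by_contra hne
    have d1 := s1521 k X hdim S.X₁ S.X₃ hL hM _ hne
    have d2 := s1521 k X hdim S.X₃ S.X₁ hM hL g hg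
    haveI : IsIso ((S.f ≫ φ) ≫ S.g) := d1.2 (le_antisymm d1.1 d2.1)
    apply hns
    refine IsSplitEpi.mk' ⟨inv ((S.f ≫ φ) ≫ S.g) ≫ S.f ≫ φ, ?_⟩
    have : (inv ((S.f ≫ φ) ≫ S.g) ≫ S.f ≫ φ) ≫ S.g = inv ((S.f ≫ φ) ≫ S.g) ≫ (S.f ≫ φ) ≫ S.g := by
      simp only [Category.assoc]
    rw [this, IsIso.inv_hom_id]
  obtain ⟨a, ha⟩ := endo_invertible_eq_smul k X hdim S.X₁ hL (hS.exact.lift (S.f ≫ φ) h1)
  have hα : (a • 𝟙 S.X₁) ≫ S.f = S.f ≫ φ := by
    rw [← ha]
    exact hS.exact.lift_f _ _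
  have h3 : S.f ≫ (φ - a • 𝟙 S.X₂) = 0 := by
    rw [Preadditive.comp_sub, ← hα, Linear.smul_comp, Linear.comp_smul, Category.id_comp,
      Category.comp_id, sub_self]
  set h := hS.exact.desc (φ - a • 𝟙 S.X₂) h3 with hh
  have hgh : S.g ≫ h = φ - a • 𝟙 S.X₂ := hS.exact.g_desc _ _
  obtain ⟨b, hb⟩ := endo_invertible_eq_smul k X hdim S.X₃ hM (h ≫ S.g)
  have hb0 : b = 0 := by
    by_contra hbne
    apply hns
    refine IsSplitEpi.mk' ⟨b⁻¹ • h, ?_⟩
    rw [Linear.smul_comp, hb, smul_smul, inv_mul_cancel₀ hbne, one_smul]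
  rw [hb0, zero_smul] at hb
  refine ⟨a, hS.exact.lift h hb, ?_⟩
  rw [hS.exact.lift_f h hb, hgh]
  abel

/-- S11819 core -/
theorem s11819 (hdim : topologicalKrullDim X = 1)
    (S : ShortComplex X.Modules) (hS : S.ShortExact)
    (hL : PicF.IsInvertible S.X₁) (hM : PicF.IsInvertible S.X₃)
    (g : S.X₃ ⟶ S.X₁) (hg : g ≠ 0) (hns : ¬ IsSplitEpi S.g) :
    (¬ IsZero S.X₂ ∧ ∀ (E₁ E₂ : X.Modules), Nonempty (S.X₂ ≅ E₁ ⊞ E₂) → IsZero E₁ ∨ IsZero E₂) ∧
      ∃ φ : S.X₂ ⟶ S.X₂, ∀ c : k, φ ≠ c • 𝟙 S.X₂ := by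
  haveI := hS.mono_f
  haveI := hS.epi_g
  have hfne : S.f ≠ 0 := mono_ne_zero_of_isInvertible hL S.f
  have hE : ¬ IsZero S.X₂ := fun hz => hfne (hz.eq_of_tgt _ _)
  have hsmulf : ∀ c : k, c • S.f = 0 → c = 0 := by
    intro c hc
    by_contra hne
    apply hfne
    have : S.f = c⁻¹ • (c • S.f) := by rw [smul_smul, inv_mul_cancel₀ hne, one_smul]
    rw [this, hc, smul_zero]
  refine ⟨⟨hE, ?_⟩, ?_⟩
  · rintro E₁ E₂ ⟨e⟩
    set p₁ : S.X₂ ⟶ S.X₂ := e.hom ≫ biprod.fst ≫ biprod.inl ≫ e.inv with hp₁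
    have hidem : p₁ ≫ p₁ = p₁ := by
      rw [hp₁]
      simp
    obtain ⟨a, h', hp⟩ := endo_decomp k X hdim S hS hL hM g hg hns p₁
    set N : S.X₂ ⟶ S.X₂ := S.g ≫ h' ≫ S.f with hN
    have hfN : S.f ≫ N = 0 := by rw [hN, S.zero_assoc, zero_comp]
    have hNN : N ≫ N = 0 := by
      rw [hN]
      simp only [Category.assoc]
      rw [S.zero_assoc]
      simp
    -- expand idempotency
    have hsq : p₁ ≫ p₁ = (a * a) • 𝟙 S.X₂ + (2 * a) • N := by
      rw [hp]
      have e1 : (a • 𝟙 S.X₂ + N) ≫ (a • 𝟙 S.X₂ + N) =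
          (a • 𝟙 S.X₂) ≫ (a • 𝟙 S.X₂) + (a • 𝟙 S.X₂) ≫ N + (N ≫ (a • 𝟙 S.X₂) + N ≫ N) := by
        rw [Preadditive.add_comp, Preadditive.comp_add, Preadditive.comp_add]
      have e2 : (a • 𝟙 S.X₂) ≫ (a • 𝟙 S.X₂) = (a * a) • 𝟙 S.X₂ := by
        rw [Linear.smul_comp, Linear.comp_smul, Category.id_comp, smul_smul]
      have e3 : (a • 𝟙 S.X₂) ≫ N = a • N := by
        rw [Linear.smul_comp, Category.id_comp]
      have e4 : N ≫ (a • 𝟙 S.X₂) = a • N := by
        rw [Linear.comp_smul, Category.comp_id]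
      rw [e1, e2, e3, e4, hNN, add_zero, two_mul, add_smul, add_assoc]
    have hrel : (a * a - a) • 𝟙 S.X₂ + (2 * a - 1) • N = 0 := by
      have h0 : p₁ ≫ p₁ - p₁ = 0 := sub_eq_zero.mpr hidem
      rw [hsq] at h0
      conv at h0 => enter [1, 2]; rw [hp]
      rw [sub_smul, sub_smul, one_smul]
      rw [← h0]
      abel
    have ha : a * a - a = 0 := by
      apply hsmulf
      have := congrArg (fun χ => S.f ≫ χ) hrel
      simp only [Preadditive.comp_add, Linear.comp_smul, Category.comp_id, hfN, smul_zero,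
        add_zero, comp_zero] at this
      exact this
    have hN0 : N = 0 := by
      rw [ha, zero_smul, zero_add] at hrel
      have hunit : (2 * a - 1) * (2 * a - 1) = 1 := by
        have : (2 * a - 1) * (2 * a - 1) = 4 * (a * a - a) + 1 := by ring
        rw [this, ha, mul_zero, zero_add]
      have : N = (2 * a - 1) • ((2 * a - 1) • N) := by rw [smul_smul, hunit, one_smul]
      rw [this, hrel, smul_zero]
    have hp' : p₁ = a • 𝟙 S.X₂ := by rw [hp, hN0, add_zero]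
    have ha01 : a = 0 ∨ a = 1 := by
      have : a * (a - 1) = 0 := by rw [mul_sub, mul_one]; exact ha
      rcases mul_eq_zero.mp this with h | h
      · exact Or.inl h
      · exact Or.inr (sub_eq_zero.mp h)
    rcases ha01 with h | h
    · left
      rw [IsZero.iff_id_eq_zero]
      have : 𝟙 E₁ = biprod.inl ≫ e.inv ≫ p₁ ≫ e.hom ≫ biprod.fst := by
        rw [hp₁]
        simp
      rw [this, hp', h, zero_smul]
      simp
    · right
      rw [IsZero.iff_id_eq_zero]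
      have h2 : (biprod.inr : E₂ ⟶ E₁ ⊞ E₂) ≫ e.inv ≫ p₁ = 0 := by
        rw [hp₁]
        simp
      rw [hp', h, one_smul, Category.comp_id] at h2
      have h3 : (biprod.inr : E₂ ⟶ E₁ ⊞ E₂) = 0 := by
        rw [← cancel_mono e.inv, h2, zero_comp]
      have : 𝟙 E₂ = (biprod.inr : E₂ ⟶ E₁ ⊞ E₂) ≫ biprod.snd := by simp
      rw [this, h3, zero_comp]
  · refine ⟨S.g ≫ g ≫ S.f, fun c hc => ?_⟩
    have hne : S.g ≫ g ≫ S.f ≠ 0 := by
      intro h0
      apply hg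
      rw [← cancel_epi S.g, ← cancel_mono S.f, Category.assoc, h0, comp_zero, zero_comp]
    have hsq : (S.g ≫ g ≫ S.f) ≫ (S.g ≫ g ≫ S.f) = 0 := by
      simp only [Category.assoc]
      rw [S.zero_assoc]
      simp
    rw [hc] at hsq hne
    rw [Linear.smul_comp, Linear.comp_smul, Category.id_comp, smul_smul] at hsq
    have hcc : c * c = 0 := (smul_id_eq_zero_iff k X hE (c * c)).mp hsq
    have hc0 : c = 0 := by
      rcases mul_eq_zero.mp hcc with h | h <;> exact h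
    exact hne (by rw [hc0, zero_smul])

end Part1

end Groth.Agent.Lib.R2H1.VBExt
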