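import Mathlib
import Groth.Agent.Lib.R2H1VBDestab
import Groth.Agent.Lib.R2H1VBExt
set_option backward.isDefEq.respectTransparency.types false

/-!
Fitting decomposition for endomorphisms of vector bundles on regular integral proper curves: stalkLin_comp', stalkLin_zero, stalkLin_pow, mono_of_injective_generic, isIso_neg, exists_iso_biprod_of_retraction, isIso_of_mono_endo (mono endomorphism of a bundle on a proper curve is iso), fitting (E = I + N, I zero => nilpotent, N zero => iso), s11820 (indecomposable iff End local), s11821 (unique eigenvalue).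
-/

set_option autoImplicit false
set_option linter.style.haveILetI false
set_option linter.unusedSectionVars false
universe u v

open CategoryTheory CategoryTheory.Limits AlgebraicGeometry TopologicalSpace Opposite

namespace Groth.Agent.Lib.R2H1.VBFitting

section Part1

open Groth.Agent.Lib.R2H1.VBSub Groth.Agent.Lib.R2H1.VBRankTwo Groth.Agent.Lib.R2H1.VBSlopeB
open Groth.Agent.Lib.R2H1.VBSat Groth.Agent.Lib.R2H1.CurveEuler Groth.Agent.Lib.R2H1.VBEndo
open Groth.Agent.Lib.Helper4.NormDelta Groth.Agent.Lib.Helper23.StalkLin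

section A
variable {X : Scheme.{u}}

theorem stalkLin_comp' {F G H : X.Modules} (φ : F ⟶ G) (ψ : G ⟶ H) (x : X)
    (y : F.presheaf.stalk x) : stalkLin (φ ≫ ψ) x y = stalkLin ψ x (stalkLin φ x y) := by
  obtain ⟨V, hxV, t, rfl⟩ := F.presheaf.exists_germ_eq y
  rw [stalkLin_germ, stalkLin_germ, stalkLin_germ]
  rfl

theorem stalkLin_zero {F G : X.Modules} (x : X) (y : F.presheaf.stalk x) :
    stalkLin (0 : F ⟶ G) x y = 0 := by
  obtain ⟨V, hxV, t, rfl⟩ := F.presheaf.exists_germ_eq y
  rw [stalkLin_germ]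
  exact map_zero _

/-- the stalk of a power of an endomorphism -/
theorem stalkLin_pow (E : X.Modules) (φ : End E) (n : ℕ) (x : X) :
    stalkLin (φ ^ n : End E) x =
      (stalkLin φ x : Module.End (X.presheaf.stalk x) (E.presheaf.stalk x)) ^ n := by
  induction n with
  | zero =>
    rw [pow_zero, pow_zero]
    exact stalkLin_id' E x
  | succ n ih =>
    rw [pow_succ, pow_succ, End.mul_def, ← ih]
    apply LinearMap.ext
    intro y
    rw [stalkLin_comp']
    rfl

/-- a map out of a locally free module on a regular integral curve which is injective at the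
generic point is a monomorphism -/
theorem mono_of_injective_generic [IsIntegral X] [IsNoetherian X]
    (hdim : topologicalKrullDim X ≤ 1) (hreg : ∀ x : X, IsRegularLocalRing (X.presheaf.stalk x))
    {N L : X.Modules} {n : ℕ} (hN : FlatMod.IsFinLocFreeOfRank n N) (cL : Coh.IsCoh L)
    (θ : N ⟶ L) (hinj : Function.Injective (stalkLin θ (genericPoint X))) : Mono θ := by
  have cN := Groth.Agent.Lib.R2H1.DegTensor.isCoh_of_rank' hN
  have cK : Coh.IsCoh (kernel θ) := Groth.Agent.Lib.R2H2.PdSheaf.isCoh_kernel cN cL θ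
  obtain ⟨ρ, hK⟩ := exists_rank_of_mono hdim hreg N
    (Groth.Agent.Lib.R2H4DegAdd.isFinLocFree_of_rank hN) _ cK (kernel.ι θ)
  obtain ⟨f1, t1, r1⟩ := Groth.Agent.Lib.R2H4DegAdd.stalk_facts hK (genericPoint X)
  haveI hsub : Subsingleton ((kernel θ).presheaf.stalk (genericPoint X)) := by
    refine subsingleton_of_forall_eq 0 fun z => ?_
    apply stalkLin_injective (kernel.ι θ) (genericPoint X)
    apply hinj
    rw [← stalkLin_comp', kernel.condition, stalkLin_zero, map_zero, map_zero]
  have hρ : ρ = 0 := by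
    rw [← r1]
    exact Module.finrank_zero_of_subsingleton
  subst hρ
  have hz : IsZero (kernel θ) := Groth.Agent.Lib.R2H2.AmpleElt.isZero_of_rank_zero hK
  exact Preadditive.mono_of_kernel_zero (hz.eq_of_src _ _)

end A

section Cat
variable {C : Type*} [Category C] [Abelian C]

theorem isIso_neg {A B : C} (g : A ⟶ B) [IsIso g] : IsIso (-g) :=
  ⟨⟨-inv g, by rw [Preadditive.neg_comp, Preadditive.comp_neg, neg_neg, IsIso.hom_inv_id],
    by rw [Preadditive.neg_comp, Preadditive.comp_neg, neg_neg, IsIso.inv_hom_id]⟩⟩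

/-- a split monomorphism gives a direct sum decomposition with the kernel of the retraction -/
theorem exists_iso_biprod_of_retraction {I E : C} (j : I ⟶ E) (ρ : E ⟶ I) (h : j ≫ ρ = 𝟙 I) :
    Nonempty (E ≅ I ⊞ kernel ρ) := by
  have h0 : (𝟙 E - ρ ≫ j) ≫ ρ = 0 := by
    rw [Preadditive.sub_comp, Category.id_comp, Category.assoc, h, Category.comp_id, sub_self]
  let π : E ⟶ kernel ρ := kernel.lift ρ (𝟙 E - ρ ≫ j) h0
  have hπ : π ≫ kernel.ι ρ = 𝟙 E - ρ ≫ j := kernel.lift_ι _ _ _
  refine ⟨⟨biprod.lift ρ π, biprod.desc j (kernel.ι ρ), ?_, ?_⟩⟩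
  · rw [biprod.lift_desc, hπ]
    abel
  · apply biprod.hom_ext'
    · apply biprod.hom_ext
      · simp only [biprod.inl_desc_assoc, Category.assoc, biprod.lift_fst, Category.comp_id,
          biprod.inl_fst]
        exact h
      · simp only [biprod.inl_desc_assoc, Category.assoc, biprod.lift_snd, Category.comp_id,
          biprod.inl_snd]
        rw [← cancel_mono (kernel.ι ρ), Category.assoc, hπ, Preadditive.comp_sub, Category.comp_id,
          ← Category.assoc, h, Category.id_comp, sub_self, zero_comp]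
    · apply biprod.hom_ext
      · simp only [biprod.inr_desc_assoc, Category.assoc, biprod.lift_fst, Category.comp_id,
          biprod.inr_fst]
        exact kernel.condition ρ
      · simp only [biprod.inr_desc_assoc, Category.assoc, biprod.lift_snd, Category.comp_id,
          biprod.inr_snd]
        rw [← cancel_mono (kernel.ι ρ), Category.assoc, hπ, Preadditive.comp_sub, Category.comp_id,
          ← Category.assoc, kernel.condition, zero_comp, sub_zero, Category.id_comp]

end Cat

section B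

variable (k : Type u) [Field k] (X : Scheme.{u}) [X.Over (Spec (CommRingCat.of k))]
    [IsProper (X ↘ (Spec (CommRingCat.of k)))] [IsIntegral X]

include k in
/-- a monomorphic endomorphism of a vector bundle on a proper curve is an isomorphism -/
theorem isIso_of_mono_endo (hdim : topologicalKrullDim X = 1) {E : X.Modules} {r : ℕ}
    (hE : FlatMod.IsFinLocFreeOfRank r E) (ψ : E ⟶ E) [Mono ψ] : IsIso ψ :=
  (deg_le_of_mono_same_rank k X hdim hE hE ψ).2 rfl

include k in
/-- Fitting decomposition for an endomorphism of a vector bundle on a regular integral proper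
curve -/
theorem fitting (hdim : topologicalKrullDim X = 1)
    (hreg : ∀ x : X, IsRegularLocalRing (X.presheaf.stalk x))
    {E : X.Modules} {r : ℕ} (hE : FlatMod.IsFinLocFreeOfRank r E) (φ : End E) :
    ∃ (n : ℕ) (I N : X.Modules), Nonempty (E ≅ I ⊞ N) ∧ 0 < n ∧
      (IsZero I → φ ^ n = 0) ∧ (IsZero N → IsIso (show E ⟶ E from φ)) := by
  haveI := isNoetherian_of_proper k X
  set ξ := genericPoint X with hξ
  obtain ⟨f1, t1, r1⟩ := Groth.Agent.Lib.R2H4DegAdd.stalk_facts hE ξ
  haveI := t1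
  haveI : IsNoetherian (X.presheaf.stalk ξ) (E.presheaf.stalk ξ) :=
    isNoetherian_of_isNoetherianRing_of_finite _ _
  obtain ⟨n₀, hn₀⟩ := Filter.eventually_atTop.mp
    (Module.End.eventually_disjoint_ker_pow_range_pow
      (stalkLin φ ξ : Module.End (X.presheaf.stalk ξ) (E.presheaf.stalk ξ)))
  set n := n₀ + 1 with hn
  have hdisj := hn₀ n (by omega)
  set ψ : E ⟶ E := (φ ^ n : End E) with hψ
  rw [← stalkLin_pow E φ n ξ] at hdisj
  have cE := Groth.Agent.Lib.R2H1.DegTensor.isCoh_of_rank' hE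
  have lE := Groth.Agent.Lib.R2H4DegAdd.isFinLocFree_of_rank hE
  have cQ : Coh.IsCoh (cokernel ψ) := Groth.Agent.Lib.R2H2.NilFilt.isCoh_cokernel cE cE ψ
  have cI : Coh.IsCoh (Abelian.image ψ) :=
    Groth.Agent.Lib.R2H2.PdSheaf.isCoh_kernel cE cQ (cokernel.π ψ)
  obtain ⟨r₁, hI⟩ := exists_rank_of_mono hdim.le hreg E lE (Abelian.image ψ) cI
    (Abelian.image.ι ψ)
  set p := Abelian.factorThruImage ψ with hp
  set j := Abelian.image.ι ψ with hj
  have hpj : p ≫ j = ψ := Abelian.image.fac ψ
  set θ : Abelian.image ψ ⟶ Abelian.image ψ := j ≫ p with hθ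
  have hθinj : Function.Injective (stalkLin θ ξ) := by
    rw [injective_iff_map_eq_zero]
    intro y hy
    apply stalkLin_injective j ξ
    rw [map_zero]
    have hψz : ∀ z, stalkLin ψ ξ z = stalkLin j ξ (stalkLin p ξ z) := by
      intro z
      have := stalkLin_comp' p j ξ z
      rw [hpj] at this
      exact this
    have h1 : stalkLin j ξ y ∈ LinearMap.ker (stalkLin ψ ξ) := by
      rw [LinearMap.mem_ker, hψz, ← stalkLin_comp' j p, hy, map_zero]
    have h2 : stalkLin j ξ y ∈ LinearMap.range (stalkLin ψ ξ) := by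
      obtain ⟨e, rfl⟩ := stalkLin_surjective p ξ y
      exact ⟨e, hψz e⟩
    exact (Submodule.disjoint_def.mp hdisj) _ h1 h2
  haveI : Mono θ := mono_of_injective_generic hdim.le hreg hI cI θ hθinj
  haveI : IsIso θ := isIso_of_mono_endo k X hdim hI θ
  set ρ : E ⟶ Abelian.image ψ := p ≫ inv θ with hρ
  have hjρ : j ≫ ρ = 𝟙 _ := by
    rw [hρ, ← Category.assoc, ← hθ, IsIso.hom_inv_id]
  obtain ⟨e⟩ := exists_iso_biprod_of_retraction j ρ hjρ
  refine ⟨n, Abelian.image ψ, kernel ρ, ⟨e⟩, by omega, fun hz => ?_, fun hz => ?_⟩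
  · show ψ = 0
    rw [← hpj, hz.eq_of_tgt p 0, zero_comp]
  · haveI : Mono ρ := Preadditive.mono_of_kernel_zero (hz.eq_of_src _ _)
    haveI : Mono p := by
      have : p = ρ ≫ θ := by rw [hρ, Category.assoc, IsIso.inv_hom_id, Category.comp_id]
      rw [this]
      infer_instance
    haveI : Mono ψ := by
      rw [← hpj]
      infer_instance
    have hiso : IsIso ψ := isIso_of_mono_endo k X hdim hE ψ
    have hu : IsUnit (φ ^ n) := (isUnit_iff_isIso _).2 hiso
    exact (isUnit_iff_isIso φ).1 ((isUnit_pow_iff (by omega)).1 hu)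

include k in
/-- S11820 core: indecomposable iff the endomorphism ring is local -/
theorem s11820 (hdim : topologicalKrullDim X = 1)
    (hreg : ∀ x : X, IsRegularLocalRing (X.presheaf.stalk x))
    (r : ℕ) (hr : 0 < r) (E : X.Modules) (hE : FlatMod.IsFinLocFreeOfRank r E) :
    (¬ IsZero E ∧ ∀ (E₁ E₂ : X.Modules), Nonempty (E ≅ E₁ ⊞ E₂) → IsZero E₁ ∨ IsZero E₂) ↔
      ∀ f₁ f₂ : E ⟶ E, IsIso (f₁ + f₂) → IsIso f₁ ∨ IsIso f₂ := by
  constructor
  · rintro ⟨-, hind⟩ f₁ f₂ hiso
    haveI := hiso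
    set g := f₁ + f₂ with hg
    set φ : End E := f₁ ≫ inv g with hφ
    set φ₂ : End E := f₂ ≫ inv g with hφ₂
    have hsum : φ + φ₂ = 1 := by
      show f₁ ≫ inv g + f₂ ≫ inv g = 𝟙 E
      rw [← Preadditive.add_comp, ← hg, IsIso.hom_inv_id]
    obtain ⟨n, I, N, he, hn, hI, hN⟩ := fitting k X hdim hreg hE φ
    rcases hind I N he with hz | hz
    · right
      have hnil : IsNilpotent φ := ⟨n, hI hz⟩
      have hu : IsUnit ((1 : End E) - φ) := hnil.isUnit_one_sub
      have h2 : φ₂ = (1 : End E) - φ := eq_sub_of_add_eq' hsum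
      haveI : IsIso (f₂ ≫ inv g) := by
        show IsIso (show E ⟶ E from φ₂)
        rw [h2]
        exact (isUnit_iff_isIso _).1 hu
      have : f₂ = (f₂ ≫ inv g) ≫ g := by rw [Category.assoc, IsIso.inv_hom_id, Category.comp_id]
      rw [this]
      infer_instance
    · left
      haveI : IsIso φ := hN hz
      have : f₁ = φ ≫ g := by rw [hφ, Category.assoc, IsIso.inv_hom_id, Category.comp_id]
      rw [this]
      infer_instance
  · intro h
    refine ⟨not_isZero_of_rank_pos hE hr, fun E₁ E₂ ⟨e⟩ => ?_⟩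
    obtain ⟨e₁, he₁⟩ : ∃ e₁ : E ⟶ E, e₁ = e.hom ≫ biprod.fst ≫ biprod.inl ≫ e.inv := ⟨_, rfl⟩
    obtain ⟨e₂, he₂⟩ : ∃ e₂ : E ⟶ E, e₂ = e.hom ≫ biprod.snd ≫ biprod.inr ≫ e.inv := ⟨_, rfl⟩
    have hsum : e₁ + e₂ = 𝟙 E := by
      rw [he₁, he₂]
      have : e.hom ≫ biprod.fst ≫ biprod.inl ≫ e.inv + e.hom ≫ biprod.snd ≫ biprod.inr ≫ e.inv =
          e.hom ≫ (biprod.fst ≫ biprod.inl + biprod.snd ≫ biprod.inr) ≫ e.inv := by
        simp only [Preadditive.comp_add, Preadditive.add_comp, Category.assoc]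
      rw [this, biprod.total, Category.id_comp, Iso.hom_inv_id]
    have hiso : IsIso (e₁ + e₂) := by rw [hsum]; infer_instance
    have h12 : e₁ ≫ e₂ = 0 := by
      rw [he₁, he₂]
      simp
    rcases h e₁ e₂ hiso with h1 | h1
    · right
      haveI := h1
      have h20 : e₂ = 0 := by
        rw [← cancel_epi e₁, h12, comp_zero]
      rw [IsZero.iff_id_eq_zero]
      have : 𝟙 E₂ = biprod.inr ≫ e.inv ≫ e₂ ≫ e.hom ≫ biprod.snd := by
        rw [he₂]
        simp
      rw [this, h20]
      simp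
    · left
      haveI := h1
      have h10 : e₁ = 0 := by
        rw [← cancel_mono e₂, h12, zero_comp]
      rw [IsZero.iff_id_eq_zero]
      have : 𝟙 E₁ = biprod.inl ≫ e.inv ≫ e₁ ≫ e.hom ≫ biprod.fst := by
        rw [he₁]
        simp
      rw [this, h10]
      simp

/-- S11821 core: an endomorphism of an indecomposable bundle has at most one eigenvalue -/
theorem s11821 (hdim : topologicalKrullDim X = 1)
    (hreg : ∀ x : X, IsRegularLocalRing (X.presheaf.stalk x))
    (r : ℕ) (hr : 0 < r) (E : X.Modules) (hE : FlatMod.IsFinLocFreeOfRank r E)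
    (hind : (¬ IsZero E ∧ ∀ (E₁ E₂ : X.Modules), Nonempty (E ≅ E₁ ⊞ E₂) → IsZero E₁ ∨ IsZero E₂))
    (f : E ⟶ E) (a b : k)
    (ha : ¬ IsIso ((SheafOfModules.toSheaf X.ringCatSheaf).map f -
      Coh.smulAb E (Coh.toGlobal (X ↘ Spec (CommRingCat.of k)) a)))
    (hb : ¬ IsIso ((SheafOfModules.toSheaf X.ringCatSheaf).map f -
      Coh.smulAb E (Coh.toGlobal (X ↘ Spec (CommRingCat.of k)) b))) :
    a = b := by
  by_contra hab
  have hba : b - a ≠ 0 := sub_ne_zero.mpr (Ne.symm hab)
  have ha' : ¬ IsIso (f - a • 𝟙 E) := by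
    intro h
    apply ha
    rw [← toSheaf_map_smul_id, ← Functor.map_sub]
    exact @Functor.map_isIso _ _ _ _ _ _ (SheafOfModules.toSheaf X.ringCatSheaf) _ h
  have hb' : ¬ IsIso (f - b • 𝟙 E) := by
    intro h
    apply hb
    rw [← toSheaf_map_smul_id, ← Functor.map_sub]
    exact @Functor.map_isIso _ _ _ _ _ _ (SheafOfModules.toSheaf X.ringCatSheaf) _ h
  have hsum : (f - a • 𝟙 E) + (b • 𝟙 E - f) = (b - a) • 𝟙 E := by
    rw [sub_smul]
    abel
  have hiso : IsIso ((f - a • 𝟙 E) + (b • 𝟙 E - f)) := by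
    rw [hsum]
    refine ⟨⟨(b - a)⁻¹ • 𝟙 E, ?_, ?_⟩⟩
    · rw [Linear.smul_comp, Linear.comp_smul, Category.id_comp, smul_smul, mul_inv_cancel₀ hba,
        one_smul]
    · rw [Linear.smul_comp, Linear.comp_smul, Category.id_comp, smul_smul, inv_mul_cancel₀ hba,
        one_smul]
  rcases (s11820 k X hdim hreg r hr E hE).1 hind _ _ hiso with h | h
  · exact ha' h
  · apply hb'
    have : f - b • 𝟙 E = -(b • 𝟙 E - f) := by abel
    rw [this]
    haveI := h
    exact isIso_neg _

end B

end Part1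

end Groth.Agent.Lib.R2H1.VBFitting
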