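import Mathlib
import Groth.Agent.Lib.R2H1VBFitting
import Groth.Agent.Lib.R2H2PnBeilinson
import Groth.Agent.Lib.H9SteinSm
set_option backward.isDefEq.respectTransparency.types false

/-!
Sections of semistable bundles of degree zero on regular integral proper curves with h0(O)=1: structure_rank_one, deg_structure, mono_of_section_ne_zero, h0_le_rank_of_semistable_deg_zero (h0(G) <= rank G for semistable G of degree 0), used for S18778.
-/

set_option autoImplicit false
set_option linter.style.haveILetI false
set_option linter.unusedSectionVars false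
universe u v

open CategoryTheory CategoryTheory.Limits AlgebraicGeometry TopologicalSpace Opposite

namespace Groth.Agent.Lib.R2H1.VBHZero

section Part1

open Groth.Agent.Lib.R2H1.VBSub Groth.Agent.Lib.R2H1.VBRankTwo Groth.Agent.Lib.R2H1.VBSlopeB
open Groth.Agent.Lib.R2H1.VBSat Groth.Agent.Lib.R2H1.CurveEuler Groth.Agent.Lib.R2H1.FinrankChain

variable (k : Type u) [Field k] (X : Scheme.{u}) [X.Over (Spec (CommRingCat.of k))]
    [IsProper (X ↘ (Spec (CommRingCat.of k)))] [IsIntegral X]

theorem structure_rank_one : FlatMod.IsFinLocFreeOfRank 1 (Coh.structureModule X) :=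
  Groth.Agent.Lib.Helper23.SecTw.isFinLocFreeOfRank_one_of_isInvertible _
    (Groth.Agent.Lib.Helper23.TensorUnit.isInvertible_structureModule X)

theorem deg_structure : Curv2.deg k X (Coh.structureModule X) 1 = 0 := by
  unfold Curv2.deg
  simp

include k in
/-- a nonzero section of a vector bundle on a regular integral proper curve is a monomorphism -/
theorem mono_of_section_ne_zero (hdim : topologicalKrullDim X = 1)
    (hreg : ∀ x : X, IsRegularLocalRing (X.presheaf.stalk x))
    {G : X.Modules} {r : ℕ} (hG : FlatMod.IsFinLocFreeOfRank r G)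
    (s : Coh.structureModule X ⟶ G) (hs : s ≠ 0) : Mono s := by
  obtain ⟨K, I, a, p, j, ρ₀, ρ₁, ha, hp, hj, hpj, hap, hK, hI, hrk, hdeg, h0, h1, hle⟩ :=
    exists_ker_im k X hdim hreg (structure_rank_one X) hG s
  have : ρ₁ ≠ 0 := fun h => hs (h1 h)
  exact h0 (by omega)

/-- a semistable bundle of degree zero has at most rank many independent sections -/
theorem h0_le_rank_of_semistable_deg_zero (hdim : topologicalKrullDim X = 1)
    (hreg : ∀ x : X, IsRegularLocalRing (X.presheaf.stalk x))
    (hO : Module.finrank k (Coh.HH X (Coh.structureModule X) 0) = 1) :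
    ∀ (r : ℕ) (G : X.Modules), FlatMod.IsFinLocFreeOfRank r G → Curv2.deg k X G r = 0 →
      (∀ (H : X.Modules) (r' : ℕ) (i : H ⟶ G), Mono i → 0 < r' →
        FlatMod.IsFinLocFreeOfRank r' H → Curv2.deg k X H r' ≤ 0) →
      Module.finrank k (Coh.HH X G 0) ≤ r := by
  haveI := isNoetherian_of_proper k X
  intro r
  induction r with
  | zero =>
    intro G hG _ _
    have hz : IsZero G := Groth.Agent.Lib.R2H2.AmpleElt.isZero_of_rank_zero hG
    haveI := Groth.Agent.Lib.R2H2.KoszulShift.subsingleton_HH_of_isZero hz 0
    rw [Module.finrank_zero_of_subsingleton]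
  | succ r ih =>
    intro G hG hdeg hss
    by_cases hall : ∀ s : Coh.structureModule X ⟶ G, s = 0
    · haveI : Subsingleton (Coh.structureModule X ⟶ G) :=
        ⟨fun a b => (hall a).trans (hall b).symm⟩
      haveI : Subsingleton (Coh.HH X G 0) :=
        (Groth.Agent.Lib.R2H2.PnBeilinson.clsEquiv (k := k) G).symm.toEquiv.subsingleton
      rw [Module.finrank_zero_of_subsingleton]
      omega
    · push_neg at hall
      obtain ⟨s, hs⟩ := hall
      have hO1 := structure_rank_one X
      haveI : Mono s := mono_of_section_ne_zero k X hdim hreg hG s hs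
      obtain ⟨L, j, ℓ, s', hj, hℓ, hL, hle, hQ, hrk, hdegG⟩ :=
        exists_saturation' k X hdim hreg hG hO1 s
      haveI := hj
      have hs' : s' = r := by omega
      subst hs'
      have hL0 : Curv2.deg k X L 1 ≤ 0 := hss L 1 j hj (by omega) hL
      rw [deg_structure k X] at hle
      have hL0' : Curv2.deg k X L 1 = 0 := le_antisymm hL0 hle
      haveI : Mono ℓ := mono_of_mono_fac hℓ
      haveI : IsIso ℓ := (deg_le_of_mono_same_rank k X hdim hO1 hL ℓ).2
        (by rw [deg_structure k X, hL0'])
      have hLh : Module.finrank k (Coh.HH X L 0) = 1 := by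
        rw [← (Groth.Agent.Lib.R2H1.SkyDecomp.HHEquivOfIso k (asIso ℓ) 0).finrank_eq, hO]
      have hQdeg : Curv2.deg k X (cokernel j) s' = 0 := by
        rw [hdeg, hL0'] at hdegG
        linarith
      let T : ShortComplex X.Modules := ShortComplex.mk j (cokernel.π j) (cokernel.condition j)
      have hT : T.ShortExact :=
        { exact := ShortComplex.exact_cokernel j
          mono_f := inferInstanceAs (Mono j)
          epi_g := inferInstanceAs (Epi (cokernel.π j)) }
      have cL := Groth.Agent.Lib.R2H1.DegTensor.isCoh_of_rank' hL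
      have cG := Groth.Agent.Lib.R2H1.DegTensor.isCoh_of_rank' hG
      have cQ := Groth.Agent.Lib.R2H1.DegTensor.isCoh_of_rank' hQ
      have hQss : ∀ (H : X.Modules) (r' : ℕ) (i : H ⟶ cokernel j), Mono i → 0 < r' →
          FlatMod.IsFinLocFreeOfRank r' H → Curv2.deg k X H r' ≤ 0 := by
        intro H r' i hi hr' hH
        haveI := hi
        obtain ⟨P, a, q, b, w, hb, hS, hab⟩ := pullback_ses T hT i
        haveI := hb
        have cH := Groth.Agent.Lib.R2H1.DegTensor.isCoh_of_rank' hH
        have cP : Coh.IsCoh P := Groth.Agent.Lib.R2H2.PdSheaf.isCoh_X₂ _ hS cL cH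
        obtain ⟨rP, hP⟩ := exists_rank_of_mono hdim.le hreg G
          (Groth.Agent.Lib.R2H4DegAdd.isFinLocFree_of_rank hG) P cP b
        have hrkP : rP = 1 + r' := Groth.Agent.Lib.R2H4DegAdd.rank_add _ hS 1 rP r' hL hP hH
        have hdegP : Curv2.deg k X P rP = Curv2.deg k X L 1 + Curv2.deg k X H r' :=
          Groth.Agent.Lib.R2H4DegAdd.main k X _ hS 1 rP r' hL hP hH
        have := hss P rP b hb (by omega) hP
        rw [hdegP, hL0'] at this
        linarith
      have h1 := ih (cokernel j) hQ hQdeg hQss
      have h2 := hh_mid_le k T hT cL cG cQ 0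
      have h2' : Module.finrank k (Coh.HH X G 0) ≤
          Module.finrank k (Coh.HH X L 0) + Module.finrank k (Coh.HH X (cokernel j) 0) := h2
      rw [hLh] at h2'
      omega

end Part1

end Groth.Agent.Lib.R2H1.VBHZero
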