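import Mathlib
import Groth.Agent.Lib.R2H1VBHZero
import Groth.Agent.Lib.R2H1InvExists
import Groth.Agent.Lib.Helper21ModTensor7
import Groth.Agent.Lib.R2H1DegTensor
import Groth.Agent.Lib.R2H1CurveAmple
set_option backward.isDefEq.respectTransparency.types false

/-!
Twisting by invertible modules with a tensor inverse: isInvertible_of_rank_one, faithful_tL_of_inverse, exists_section_twist_ne_zero (nonzero L -> E gives a nonzero section of E tensor M when L tensor M = O), deg_inverse, isFinLocFree_cokernel_section_of_normalized, s12430 (sections of normalized rank two bundles have invertible cokernel).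
-/

set_option autoImplicit false
set_option linter.style.haveILetI false
set_option linter.unusedSectionVars false
universe u v

open CategoryTheory CategoryTheory.Limits AlgebraicGeometry TopologicalSpace Opposite

namespace Groth.Agent.Lib.R2H1.VBTwist

section Part1

open Groth.Agent.Lib.R2H1.VBSub Groth.Agent.Lib.R2H1.VBRankTwo Groth.Agent.Lib.R2H1.VBSlopeB
open Groth.Agent.Lib.R2H1.VBSat Groth.Agent.Lib.R2H1.CurveEuler Groth.Agent.Lib.R2H1.VBHZero
open Groth.Agent.Lib.Helper21.ModTensor3 Groth.Agent.Lib.Helper21.ModTensor5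
  Groth.Agent.Lib.Helper21.ModTensor6 Groth.Agent.Lib.Helper21.ModTensor7

section A
variable {X : Scheme.{u}}

theorem isInvertible_of_rank_one {L : X.Modules} (hL : FlatMod.IsFinLocFreeOfRank 1 L) :
    PicF.IsInvertible L := by
  intro x
  obtain ⟨U, hxU, ⟨ε⟩⟩ := hL x
  exact ⟨U, hxU, ⟨ε ≪≫ Limits.coproductUniqueIso
    (fun _ : Fin 1 => Coh.structureModule (↑U : Scheme.{u}))⟩⟩

end A

section Site
variable {C : Type u} [SmallCategory C] {J : GrothendieckTopology C} (O : Sheaf J CommRingCat.{u})

/-- tensoring on the left with a module admitting a tensor inverse is faithful -/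
theorem faithful_tL_of_inverse (L M : ModSite.Mod O)
    (e : ((ModSite.tensorBi O).obj L).obj M ≅ ModSite.unit O) : (tL O M).Faithful := by
  let e2 : tL O M ⋙ tL O L ≅ 𝟭 _ :=
    (tLTensorIso O L M).symm ≪≫ (ModSite.tensorBi O).mapIso e ≪≫ tLUnitIso O
  haveI : (tL O M ⋙ tL O L).Faithful := Functor.Faithful.of_iso e2.symm
  exact Functor.Faithful.of_comp (tL O M) (tL O L)

/-- twisting a nonzero map by a module with an inverse gives a nonzero section -/
theorem exists_section_twist_ne_zero_site {L E M : ModSite.Mod O}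
    (e : ((ModSite.tensorBi O).obj L).obj M ≅ ModSite.unit O) (j : L ⟶ E) (hj : j ≠ 0) :
    ∃ σ : ModSite.unit O ⟶ ((ModSite.tensorBi O).obj E).obj M, σ ≠ 0 := by
  haveI := faithful_tL_of_inverse O L M e
  have h1 : (tL O M).map j ≠ 0 := by
    intro h
    apply hj
    apply (tL O M).map_injective
    rw [h, Functor.map_zero]
  refine ⟨e.inv ≫ (brdApp O L M).hom ≫ (tL O M).map j ≫ (brdApp O M E).hom,
    fun h => h1 ?_⟩
  have h2 : (tL O M).map j = (brdApp O L M).inv ≫ e.hom ≫
      (e.inv ≫ (brdApp O L M).hom ≫ (tL O M).map j ≫ (brdApp O M E).hom) ≫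
      (brdApp O M E).inv := by
    simp
  rw [h2, h]
  simp

end Site

section A'
variable {X : Scheme.{u}}

theorem exists_section_twist_ne_zero {L E M : X.Modules}
    (e : CohB1.tensorMod L M ≅ Coh.structureModule X) (j : L ⟶ E) (hj : j ≠ 0) :
    ∃ σ : Coh.structureModule X ⟶ CohB1.tensorMod E M, σ ≠ 0 :=
  exists_section_twist_ne_zero_site X.sheaf e j hj

end A'


section B

variable (k : Type u) [Field k] (X : Scheme.{u}) [X.Over (Spec (CommRingCat.of k))]
    [IsProper (X ↘ (Spec (CommRingCat.of k)))] [IsIntegral X]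

/-- the degree of a tensor inverse -/
theorem deg_inverse (hdim : topologicalKrullDim X = 1) {L M : X.Modules}
    (hL : FlatMod.IsFinLocFreeOfRank 1 L) (hM : FlatMod.IsFinLocFreeOfRank 1 M)
    (e : CohB1.tensorMod L M ≅ Coh.structureModule X) :
    Curv2.deg k X M 1 = - Curv2.deg k X L 1 := by
  have h1 := Groth.Agent.Lib.R2H1.DegTensor.s7637 k X hdim.le 1 1 L M hL hM
  have h2 := Groth.Agent.Lib.R2H1.CurveAmple.deg_congr k X e 1
  rw [deg_structure k X] at h2
  simp only [Nat.cast_one, one_mul, mul_one] at h1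
  rw [h2] at h1
  linarith

/-- normalised bundles: the saturation of a section has degree zero, so sections are
sub-bundles (core of S12430, any rank) -/
theorem isFinLocFree_cokernel_section_of_normalized (hdim : topologicalKrullDim X = 1)
    (hreg : ∀ x : X, IsRegularLocalRing (X.presheaf.stalk x))
    {E : X.Modules} {r : ℕ} (hE : FlatMod.IsFinLocFreeOfRank r E)
    (hEneg : ∀ M : X.Modules, PicF.IsInvertible M → Curv2.deg k X M 1 < 0 →
      Subsingleton (Coh.HH X (CohB1.tensorMod E M) 0))
    (s : Coh.structureModule X ⟶ E) (hs : s ≠ 0) :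
    FlatMod.IsFinLocFree (cokernel s) := by
  haveI : Mono s := mono_of_section_ne_zero k X hdim hreg hE s hs
  have hO1 := structure_rank_one X
  by_contra hnf
  obtain ⟨L, j, ℓ, hj, hℓ, hL, hlt⟩ := exists_enlarge k X hdim hreg hO1 hE s hnf
  rw [deg_structure k X] at hlt
  have hLinv : PicF.IsInvertible L := isInvertible_of_rank_one hL
  obtain ⟨M, hM, ⟨e⟩⟩ := Groth.Agent.Lib.R2H1.InvExists.exists_inverse L hLinv
  have hM1 := Groth.Agent.Lib.Helper23.SecTw.isFinLocFreeOfRank_one_of_isInvertible M hM
  have hdegM : Curv2.deg k X M 1 < 0 := by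
    rw [deg_inverse k X hdim hL hM1 e]
    linarith
  haveI := hEneg M hM hdegM
  have hj0 : j ≠ 0 := by
    intro h0
    haveI := hj
    exact not_isZero_of_rank_pos hL (by omega) (IsZero.of_mono_eq_zero j h0)
  obtain ⟨σ, hσ⟩ := exists_section_twist_ne_zero e j hj0
  exact hσ ((Groth.Agent.Lib.R2H2.PnBeilinson.clsEquiv (k := k) _).injective
    (Subsingleton.elim _ _))

/-- S12430 core -/
theorem s12430 (hdim : topologicalKrullDim X = 1)
    (hreg : ∀ x : X, IsRegularLocalRing (X.presheaf.stalk x))
    (E : X.Modules) (hE : FlatMod.IsFinLocFreeOfRank 2 E)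
    (hEneg : ∀ M : X.Modules, PicF.IsInvertible M → Curv2.deg k X M 1 < 0 →
      Subsingleton (Coh.HH X (CohB1.tensorMod E M) 0))
    (s : Coh.structureModule X ⟶ E) (hs : s ≠ 0) :
    PicF.IsInvertible (cokernel s) := by
  haveI : Mono s := mono_of_section_ne_zero k X hdim hreg hE s hs
  have hlf := isFinLocFree_cokernel_section_of_normalized k X hdim hreg hE hEneg s hs
  obtain ⟨s', hQ⟩ := exists_rank_of_isFinLocFree (cokernel s) hlf
  let T : ShortComplex X.Modules := ShortComplex.mk s (cokernel.π s) (cokernel.condition s)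
  have hT : T.ShortExact :=
    { exact := ShortComplex.exact_cokernel s
      mono_f := inferInstanceAs (Mono s)
      epi_g := inferInstanceAs (Epi (cokernel.π s)) }
  have hrk : 2 = 1 + s' :=
    Groth.Agent.Lib.R2H4DegAdd.rank_add T hT 1 2 s' (structure_rank_one X) hE hQ
  have hs' : s' = 1 := by omega
  subst hs'
  exact isInvertible_of_rank_one hQ

end B

end Part1

end Groth.Agent.Lib.R2H1.VBTwist
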