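import Mathlib
import Groth.Agent.Lib.R2H1VBTwist
import Groth.Agent.Lib.Helper21Dual5
import Groth.Agent.Lib.R2H1LiftZero
import Groth.Agent.Lib.R2H1BirDeg
set_option backward.isDefEq.respectTransparency.types false

/-!
More twisting by invertible modules: exists_section_ne_zero, deg_le_zero_of_normalized, s11353 (decomposable normalized rank two), isEquivalence_tL_of_inverse (tensoring with a module having a tensor inverse is an equivalence, site level), exists_lift_section (sections lift along epi when H1 of kernel vanishes), s12632 (splitting criterion), exists_hom_ne_zero_of_section (section of Q' tensor L gives Q -> L), isInverseOf_symm, s11817 (simple rank two: 2 deg L <= deg E + g - 2).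
-/

set_option autoImplicit false
set_option linter.style.haveILetI false
set_option linter.unusedSectionVars false
universe u v

open CategoryTheory CategoryTheory.Limits AlgebraicGeometry TopologicalSpace Opposite

namespace Groth.Agent.Lib.R2H1.VBTwistB

section Part1

open Groth.Agent.Lib.R2H1.VBSub Groth.Agent.Lib.R2H1.VBRankTwo Groth.Agent.Lib.R2H1.VBSlopeB
open Groth.Agent.Lib.R2H1.VBSat Groth.Agent.Lib.R2H1.CurveEuler Groth.Agent.Lib.R2H1.VBHZero
open Groth.Agent.Lib.R2H1.VBTwist Groth.Agent.Lib.R2H1.CurveDegSec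

variable (k : Type u) [Field k] (X : Scheme.{u}) [X.Over (Spec (CommRingCat.of k))]
    [IsProper (X ↘ (Spec (CommRingCat.of k)))] [IsIntegral X]

include k in
/-- nonvanishing `H⁰` gives a nonzero section -/
theorem exists_section_ne_zero (E : X.Modules) (h : Nontrivial (Coh.HH X E 0)) :
    ∃ s : Coh.structureModule X ⟶ E, s ≠ 0 := by
  by_contra hall
  push_neg at hall
  haveI : Subsingleton (Coh.structureModule X ⟶ E) :=
    ⟨fun a b => (hall a).trans (hall b).symm⟩
  haveI : Subsingleton (Coh.HH X E 0) :=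
    (Groth.Agent.Lib.R2H2.PnBeilinson.clsEquiv (k := k) E).symm.toEquiv.subsingleton
  exact not_subsingleton _ ‹_›

/-- an invertible submodule of a normalized module has nonpositive degree -/
theorem deg_le_zero_of_normalized (hdim : topologicalKrullDim X = 1) {E A : X.Modules}
    (hA : PicF.IsInvertible A) (j : A ⟶ E) (hj : j ≠ 0)
    (hneg : ∀ M : X.Modules, PicF.IsInvertible M → Curv2.deg k X M 1 < 0 →
      Subsingleton (Coh.HH X (CohB1.tensorMod E M) 0)) :
    Curv2.deg k X A 1 ≤ 0 := by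
  by_contra hpos
  push_neg at hpos
  obtain ⟨M, hM, ⟨e⟩⟩ := Groth.Agent.Lib.R2H1.InvExists.exists_inverse A hA
  have hA1 := Groth.Agent.Lib.Helper23.SecTw.isFinLocFreeOfRank_one_of_isInvertible A hA
  have hM1 := Groth.Agent.Lib.Helper23.SecTw.isFinLocFreeOfRank_one_of_isInvertible M hM
  have hdegM : Curv2.deg k X M 1 < 0 := by
    rw [deg_inverse k X hdim hA1 hM1 e]
    linarith
  haveI := hneg M hM hdegM
  obtain ⟨σ, hσ⟩ := exists_section_twist_ne_zero e j hj
  exact hσ ((Groth.Agent.Lib.R2H2.PnBeilinson.clsEquiv (k := k) _).injective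
    (Subsingleton.elim _ _))

/-- one case of S11353 -/
theorem s11353_aux (hdim : topologicalKrullDim X = 1) (E A B : X.Modules)
    (hA : PicF.IsInvertible A) (hB : PicF.IsInvertible B) (φ : E ≅ A ⊞ B)
    (hneg : ∀ M : X.Modules, PicF.IsInvertible M → Curv2.deg k X M 1 < 0 →
      Subsingleton (Coh.HH X (CohB1.tensorMod E M) 0))
    (t : Coh.structureModule X ⟶ A) (ht : t ≠ 0) :
    ∃ L : X.Modules, PicF.IsInvertible L ∧ Curv2.deg k X L 1 ≤ 0 ∧
      Nonempty (E ≅ Coh.structureModule X ⊞ L) := by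
  have hO := Groth.Agent.Lib.Helper23.TensorUnit.isInvertible_structureModule X
  have jA : (biprod.inl ≫ φ.inv : A ⟶ E) ≠ 0 := by
    haveI : Mono (biprod.inl ≫ φ.inv : A ⟶ E) := mono_comp _ _
    exact mono_ne_zero_of_isInvertible hA _
  have jB : (biprod.inr ≫ φ.inv : B ⟶ E) ≠ 0 := by
    haveI : Mono (biprod.inr ≫ φ.inv : B ⟶ E) := mono_comp _ _
    exact mono_ne_zero_of_isInvertible hB _
  have hA0 := deg_le_zero_of_normalized k X hdim hA _ jA hneg
  have hB0 := deg_le_zero_of_normalized k X hdim hB _ jB hneg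
  obtain ⟨h1, h2⟩ := s1521 k X hdim _ A hO hA t ht
  rw [deg_structure k X] at h1 h2
  haveI : IsIso t := h2 (le_antisymm h1 hA0)
  exact ⟨B, hB, hB0, ⟨φ ≪≫ biprod.mapIso (asIso t).symm (Iso.refl B)⟩⟩

/-- S11353 core -/
theorem s11353 (hdim : topologicalKrullDim X = 1) (E L₁ L₂ : X.Modules)
    (hL₁ : PicF.IsInvertible L₁) (hL₂ : PicF.IsInvertible L₂) (hE : Nonempty (E ≅ L₁ ⊞ L₂))
    (hn0 : Nontrivial (Coh.HH X E 0))
    (hneg : ∀ M : X.Modules, PicF.IsInvertible M → Curv2.deg k X M 1 < 0 →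
      Subsingleton (Coh.HH X (CohB1.tensorMod E M) 0)) :
    ∃ L : X.Modules, PicF.IsInvertible L ∧ Curv2.deg k X L 1 ≤ 0 ∧
      Nonempty (E ≅ Coh.structureModule X ⊞ L) := by
  obtain ⟨φ⟩ := hE
  obtain ⟨s, hs⟩ := exists_section_ne_zero k X E hn0
  by_cases h1 : s ≫ φ.hom ≫ biprod.fst = 0
  · have h2 : s ≫ φ.hom ≫ biprod.snd ≠ 0 := by
      intro h2
      apply hs
      rw [← cancel_mono φ.hom, zero_comp]
      apply biprod.hom_ext
      · rw [Category.assoc, h1, zero_comp]
      · rw [Category.assoc, h2, zero_comp]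
    exact s11353_aux k X hdim E L₂ L₁ hL₂ hL₁ (φ ≪≫ biprod.braiding L₁ L₂) hneg _ h2
  · exact s11353_aux k X hdim E L₁ L₂ hL₁ hL₂ φ hneg _ h1

end Part1

section Part2

open Groth.Agent.Lib.R2H1.VBSub Groth.Agent.Lib.R2H1.VBRankTwo Groth.Agent.Lib.R2H1.VBSlopeB
open Groth.Agent.Lib.R2H1.VBSat Groth.Agent.Lib.R2H1.CurveEuler Groth.Agent.Lib.R2H1.VBHZero
open Groth.Agent.Lib.R2H1.VBTwist
open Groth.Agent.Lib.Helper21.ModTensor3 Groth.Agent.Lib.Helper21.ModTensor5
  Groth.Agent.Lib.Helper21.ModTensor6 Groth.Agent.Lib.Helper21.ModTensor7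

section Site
variable {C : Type u} [SmallCategory C] {J : GrothendieckTopology C} (O : Sheaf J CommRingCat.{u})

/-- tensoring with a module admitting a tensor inverse is an equivalence -/
theorem isEquivalence_tL_of_inverse (L' L : ModSite.Mod O)
    (e : ((ModSite.tensorBi O).obj L').obj L ≅ ModSite.unit O) : (tL O L').IsEquivalence := by
  let e' : ((ModSite.tensorBi O).obj L).obj L' ≅ ModSite.unit O := brdApp O L L' ≪≫ e
  let iso1 : tL O L' ⋙ tL O L ≅ 𝟭 _ :=
    (tLTensorIso O L L').symm ≪≫ (ModSite.tensorBi O).mapIso e' ≪≫ tLUnitIso O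
  let iso2 : tL O L ⋙ tL O L' ≅ 𝟭 _ :=
    (tLTensorIso O L' L).symm ≪≫ (ModSite.tensorBi O).mapIso e ≪≫ tLUnitIso O
  exact (CategoryTheory.Equivalence.mk (tL O L') (tL O L) iso1.symm iso2).isEquivalence_functor

end Site

section B
open Groth.Agent.Lib.R2H2.HHLin Groth.Agent.Lib.R2H2.PnLinRes

variable (k : Type u) [Field k] (X : Scheme.{u}) [X.Over (Spec (CommRingCat.of k))]
    [IsProper (X ↘ (Spec (CommRingCat.of k)))]

include k in
/-- sections of the quotient lift when `H¹` of the sub vanishes -/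
theorem exists_lift_section (T : ShortComplex X.Modules) (hT : T.ShortExact)
    (h1 : Subsingleton (Coh.HH X T.X₁ 1)) (σ : Coh.structureModule X ⟶ T.X₃) :
    ∃ τ : Coh.structureModule X ⟶ T.X₂, τ ≫ T.g = σ := by
  obtain ⟨x₂, hx₂⟩ := exact₃ T hT 0 (cls σ) (Subsingleton.elim _ _)
  obtain ⟨τ, rfl⟩ := cls_surjective T.X₂ x₂
  refine ⟨τ, ?_⟩
  rw [cls_comp] at hx₂
  exact Groth.Agent.Lib.R2H2.PnBeilinson.clsL_injective (k := k) T.X₃ hx₂

include k in
/-- S12632 core: an extension by `M` of an invertible `L` splits when `H¹(L' ⊗ M) = 0` -/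
theorem s12632 (S : ShortComplex X.Modules) (hS : S.ShortExact)
    (L' : X.Modules) (hL' : ClSub.IsInverseOf L' S.X₃)
    (h1 : Subsingleton (Coh.HH X (CohB1.tensorMod L' S.X₁) 1)) :
    IsSplitEpi S.g := by
  obtain ⟨e⟩ := hL'
  haveI : (DCoh.tensorBi.obj L' : X.Modules ⥤ X.Modules).IsEquivalence :=
    isEquivalence_tL_of_inverse X.sheaf L' S.X₃ e
  have hTS : (S.map (DCoh.tensorBi.obj L')).ShortExact := hS.map_of_exact _
  obtain ⟨τ, hτ⟩ := exists_lift_section k X (S.map (DCoh.tensorBi.obj L')) hTS h1 e.inv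
  let σ' : (DCoh.tensorBi.obj L').obj S.X₃ ⟶ (DCoh.tensorBi.obj L').obj S.X₂ := e.hom ≫ τ
  have hσ' : σ' ≫ (DCoh.tensorBi.obj L').map S.g = 𝟙 _ := by
    show (e.hom ≫ τ) ≫ (DCoh.tensorBi.obj L').map S.g = 𝟙 _
    rw [Category.assoc]
    have : τ ≫ (DCoh.tensorBi.obj L').map S.g = e.inv := hτ
    rw [this]
    exact e.hom_inv_id
  refine IsSplitEpi.mk' ⟨(DCoh.tensorBi.obj L').preimage σ', ?_⟩
  apply (DCoh.tensorBi.obj L').map_injective
  rw [CategoryTheory.Functor.map_comp, CategoryTheory.Functor.map_preimage, hσ',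
    CategoryTheory.Functor.map_id]

end B

end Part2

section Part3

open Groth.Agent.Lib.R2H1.VBSub Groth.Agent.Lib.R2H1.VBRankTwo Groth.Agent.Lib.R2H1.VBSlopeB
open Groth.Agent.Lib.R2H1.VBSat Groth.Agent.Lib.R2H1.CurveEuler Groth.Agent.Lib.R2H1.VBHZero
open Groth.Agent.Lib.R2H1.VBTwist
open Groth.Agent.Lib.Helper21.ModTensor3 Groth.Agent.Lib.Helper21.ModTensor5
  Groth.Agent.Lib.Helper21.ModTensor6 Groth.Agent.Lib.Helper21.ModTensor7

section Site
variable {C : Type u} [SmallCategory C] {J : GrothendieckTopology C} (O : Sheaf J CommRingCat.{u})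

/-- a nonzero section of `Q' ⊗ L` gives a nonzero map `Q ⟶ L` when `Q ⊗ Q' ≅ O` -/
theorem exists_hom_ne_zero_of_section_site {Q Q' L : ModSite.Mod O}
    (e : ((ModSite.tensorBi O).obj Q).obj Q' ≅ ModSite.unit O)
    (σ : ModSite.unit O ⟶ ((ModSite.tensorBi O).obj Q').obj L) (hσ : σ ≠ 0) :
    ∃ ψ : Q ⟶ L, ψ ≠ 0 := by
  let e' : ((ModSite.tensorBi O).obj Q').obj Q ≅ ModSite.unit O := brdApp O Q' Q ≪≫ e
  haveI := faithful_tL_of_inverse O Q' Q e'
  let iso2 : tL O Q' ⋙ tL O Q ≅ 𝟭 _ :=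
    (tLTensorIso O Q Q').symm ≪≫ (ModSite.tensorBi O).mapIso e ≪≫ tLUnitIso O
  have h1 : (tL O Q).map σ ≠ 0 := by
    intro h
    apply hσ
    apply (tL O Q).map_injective
    rw [h, CategoryTheory.Functor.map_zero]
  refine ⟨(Groth.Agent.Lib.Helper21.Dual.rU O Q).inv ≫ (tL O Q).map σ ≫ iso2.hom.app L,
    fun h => h1 ?_⟩
  have h2 : (tL O Q).map σ = (Groth.Agent.Lib.Helper21.Dual.rU O Q).hom ≫
      ((Groth.Agent.Lib.Helper21.Dual.rU O Q).inv ≫ (tL O Q).map σ ≫ iso2.hom.app L) ≫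
      iso2.inv.app L := by
    simp
  rw [h2, h]
  simp

end Site

section A
variable {X : Scheme.{u}}

theorem exists_hom_ne_zero_of_section {Q Q' L : X.Modules}
    (e : CohB1.tensorMod Q Q' ≅ Coh.structureModule X)
    (σ : Coh.structureModule X ⟶ CohB1.tensorMod Q' L) (hσ : σ ≠ 0) :
    ∃ ψ : Q ⟶ L, ψ ≠ 0 :=
  exists_hom_ne_zero_of_section_site X.sheaf e σ hσ

theorem isInverseOf_symm {Q Q' : X.Modules}
    (e : CohB1.tensorMod Q Q' ≅ Coh.structureModule X) : ClSub.IsInverseOf Q' Q :=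
  ⟨brdApp X.sheaf Q' Q ≪≫ e⟩

end A

section B
open Groth.Agent.Lib.R2H1.VBEndo Groth.Agent.Lib.R2H1.CurveDegSec

variable (k : Type u) [Field k] [IsAlgClosed k] (X : Scheme.{u}) [X.Over (Spec (CommRingCat.of k))]
    [IsProper (X ↘ (Spec (CommRingCat.of k)))] [IsIntegral X]

/-- S11817 core: sub-line-bundles of simple rank two bundles -/
theorem s11817 (hdim : topologicalKrullDim X = 1)
    (E : X.Modules) (hE : FlatMod.IsFinLocFreeOfRank 2 E)
    (hsimple : ∀ φ : E ⟶ E, ∃ c : k, φ = c • 𝟙 E)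
    (L : X.Modules) (hL : PicF.IsInvertible L) (i : L ⟶ E) [Mono i]
    (hq : PicF.IsInvertible (cokernel i)) :
    2 * Curv2.deg k X L 1 ≤ Curv2.deg k X E 2 + (Curv2.genus k X : ℤ) - 2 := by
  haveI := isNoetherian_of_proper k X
  let S : ShortComplex X.Modules := ShortComplex.mk i (cokernel.π i) (cokernel.condition i)
  have hS : S.ShortExact :=
    { exact := ShortComplex.exact_cokernel i
      mono_f := inferInstanceAs (Mono i)
      epi_g := inferInstanceAs (Epi (cokernel.π i)) }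
  have hL1 := Groth.Agent.Lib.Helper23.SecTw.isFinLocFreeOfRank_one_of_isInvertible L hL
  have hQ1 := Groth.Agent.Lib.Helper23.SecTw.isFinLocFreeOfRank_one_of_isInvertible _ hq
  have hdegE : Curv2.deg k X E 2 = Curv2.deg k X L 1 + Curv2.deg k X (cokernel i) 1 :=
    Groth.Agent.Lib.R2H4DegAdd.main k X S hS 1 2 1 hL1 hE hQ1
  have hEne : ¬ IsZero E := not_isZero_of_rank_pos hE (by norm_num)
  -- the sequence does not split
  have hns : ¬ IsSplitEpi (cokernel.π i) := by
    intro hsp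
    haveI := hsp
    obtain ⟨c, hc⟩ := hsimple (cokernel.π i ≫ section_ (cokernel.π i))
    have hidem : (cokernel.π i ≫ section_ (cokernel.π i)) ≫
        (cokernel.π i ≫ section_ (cokernel.π i)) = cokernel.π i ≫ section_ (cokernel.π i) := by
      simp
    rw [hc, Linear.smul_comp, Linear.comp_smul, Category.id_comp, smul_smul] at hidem
    have h0 : (c * c - c) • 𝟙 E = 0 := by rw [sub_smul, hidem, sub_self]
    have hcc : c * c - c = 0 := (smul_id_eq_zero_iff k X hEne _).1 h0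
    have hc01 : c = 0 ∨ c = 1 := by
      have : c * (c - 1) = 0 := by ring_nf; ring_nf at hcc; exact hcc
      rcases mul_eq_zero.1 this with h | h
      · exact Or.inl h
      · exact Or.inr (sub_eq_zero.1 h)
    rcases hc01 with h | h
    · rw [h, zero_smul] at hc
      have hsec : section_ (cokernel.π i) = 0 := by
        rw [← cancel_epi (cokernel.π i), hc, comp_zero]
      apply not_isZero_of_isInvertible hq
      rw [IsZero.iff_id_eq_zero, ← IsSplitEpi.id (cokernel.π i), hsec, zero_comp]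
    · rw [h, one_smul] at hc
      apply mono_ne_zero_of_isInvertible hL i
      have : i = i ≫ (cokernel.π i ≫ section_ (cokernel.π i)) := by rw [hc, Category.comp_id]
      rw [this, ← Category.assoc, cokernel.condition, zero_comp]
  obtain ⟨Q', hQ', ⟨e⟩⟩ := Groth.Agent.Lib.R2H1.InvExists.exists_inverse _ hq
  have hQ'1 := Groth.Agent.Lib.Helper23.SecTw.isFinLocFreeOfRank_one_of_isInvertible Q' hQ'
  have hH1 : ¬ Subsingleton (Coh.HH X (CohB1.tensorMod Q' L) 1) :=
    fun h => hns (s12632 k X S hS Q' (isInverseOf_symm e) h)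
  -- no maps from the quotient to the sub
  have hhom : ∀ ψ : cokernel i ⟶ L, ψ = 0 := by
    intro ψ
    obtain ⟨c, hc⟩ := hsimple (cokernel.π i ≫ ψ ≫ i)
    have hsq : (cokernel.π i ≫ ψ ≫ i) ≫ (cokernel.π i ≫ ψ ≫ i) = 0 := by
      simp
    rw [hc, Linear.smul_comp, Linear.comp_smul, Category.id_comp, smul_smul] at hsq
    have hcc : c * c = 0 := (smul_id_eq_zero_iff k X hEne _).1 hsq
    have hc0 : c = 0 := by
      rcases mul_eq_zero.1 hcc with h | h <;> exact h
    rw [hc0, zero_smul] at hc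
    have h1 : ψ ≫ i = 0 := by
      rw [← cancel_epi (cokernel.π i), hc, comp_zero]
    rw [← cancel_mono i, h1, zero_comp]
  have hH0 : Subsingleton (Coh.HH X (CohB1.tensorMod Q' L) 0) := by
    by_contra hns0
    rw [not_subsingleton_iff_nontrivial] at hns0
    obtain ⟨σ, hσ⟩ := exists_section_ne_zero k X _ hns0
    obtain ⟨ψ, hψ⟩ := exists_hom_ne_zero_of_section e σ hσ
    exact hψ (hhom ψ)
  -- Riemann–Roch for Q' ⊗ L
  have cL := isCoh_of_isInvertible L hL
  have cQ' := isCoh_of_isInvertible Q' hQ'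
  have cN : Coh.IsCoh (CohB1.tensorMod Q' L) :=
    Groth.Agent.Lib.R2H1.BirDeg.isCoh_tensorMod cQ' cL
  have hχ := euler_eq_h0_sub_h1 k X hdim.le _ cN.1
  haveI := Groth.Agent.Lib.R2H1.EulerAdd.finite_HH k X _ cN 1
  have h1pos : 1 ≤ Module.finrank k (Coh.HH X (CohB1.tensorMod Q' L) 1) := by
    by_contra hlt
    have h0 : Module.finrank k (Coh.HH X (CohB1.tensorMod Q' L) 1) = 0 := by omega
    exact hH1 (Module.finrank_zero_iff.mp h0)
  have h0z : Module.finrank k (Coh.HH X (CohB1.tensorMod Q' L) 0) = 0 :=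
    Module.finrank_zero_of_subsingleton
  have hdegN := Groth.Agent.Lib.R2H1.DegTensor.s7637 k X hdim.le 1 1 Q' L hQ'1 hL1
  have hdegQ' := deg_inverse k X hdim hQ1 hQ'1 e
  have hO := Groth.Agent.Lib.R2H1.LiftZero.euler_structure k X hdim
  simp only [Nat.cast_one, one_mul, mul_one] at hdegN
  unfold Curv2.deg at hdegN hdegQ' hdegE ⊢
  rw [hχ, h0z] at hdegN
  have h1pos' : (1 : ℤ) ≤ Module.finrank k (Coh.HH X (CohB1.tensorMod Q' L) 1) := by
    exact_mod_cast h1pos
  push_cast at hdegN hdegQ' hdegE ⊢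
  rw [hO] at hdegN hdegQ' hdegE ⊢
  linarith

end B

end Part3

end Groth.Agent.Lib.R2H1.VBTwistB
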