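import Mathlib
import Groth.Agent.Lib.R2H1VBTwistB
import Groth.Agent.Lib.R2H1NonSpecial
import Groth.Agent.Lib.Helper23SecTw6
set_option backward.isDefEq.respectTransparency.types false

/-!
Indecomposable rank two bundles on curves over algebraically closed fields: deg_tensor_invertible, exists_invertible_deg (invertible modules of every integer degree), mono_of_rank_one_ne_zero, s11482 (degree bounds for invertible subsheaves of indecomposable rank two bundles).
-/

set_option autoImplicit false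
set_option linter.style.haveILetI false
set_option linter.unusedSectionVars false
universe u v

open CategoryTheory CategoryTheory.Limits AlgebraicGeometry TopologicalSpace Opposite

namespace Groth.Agent.Lib.R2H1.VBIndecTwo

section Part1

open Groth.Agent.Lib.R2H1.VBSub Groth.Agent.Lib.R2H1.VBRankTwo Groth.Agent.Lib.R2H1.VBSlopeB
open Groth.Agent.Lib.R2H1.VBSat Groth.Agent.Lib.R2H1.CurveEuler Groth.Agent.Lib.R2H1.VBHZero
open Groth.Agent.Lib.R2H1.VBTwist Groth.Agent.Lib.R2H1.VBTwistB Groth.Agent.Lib.R2H1.CurveDegSec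
open Groth.Agent.Lib.Helper21.ModTensor5

section B

variable (k : Type u) [Field k] [IsAlgClosed k] (X : Scheme.{u}) [X.Over (Spec (CommRingCat.of k))]
    [IsProper (X ↘ (Spec (CommRingCat.of k)))] [IsIntegral X]

/-- the degree of a tensor product of invertible modules -/
theorem deg_tensor_invertible (hdim : topologicalKrullDim X = 1) {A B : X.Modules}
    (hA : PicF.IsInvertible A) (hB : PicF.IsInvertible B) :
    Curv2.deg k X (CohB1.tensorMod A B) 1 = Curv2.deg k X A 1 + Curv2.deg k X B 1 := by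
  have hA1 := Groth.Agent.Lib.Helper23.SecTw.isFinLocFreeOfRank_one_of_isInvertible A hA
  have hB1 := Groth.Agent.Lib.Helper23.SecTw.isFinLocFreeOfRank_one_of_isInvertible B hB
  have h := Groth.Agent.Lib.R2H1.DegTensor.s7637 k X hdim.le 1 1 A B hA1 hB1
  simp only [Nat.cast_one, one_mul, mul_one] at h
  rw [h]
  ring

/-- invertible modules of every degree -/
theorem exists_invertible_deg (hdim : topologicalKrullDim X = 1) (n : ℤ) :
    ∃ N : X.Modules, PicF.IsInvertible N ∧ Curv2.deg k X N 1 = n := by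
  obtain ⟨M₁, hM₁, hd₁⟩ := Groth.Agent.Lib.R2H1.NonSpecial.exists_deg_one k X hdim
  have hO := Groth.Agent.Lib.Helper23.TensorUnit.isInvertible_structureModule X
  have hnat : ∀ m : ℕ, ∃ N : X.Modules, PicF.IsInvertible N ∧ Curv2.deg k X N 1 = (m : ℤ) := by
    intro m
    induction m with
    | zero => exact ⟨_, hO, by rw [deg_structure k X]; simp⟩
    | succ m ih =>
      obtain ⟨N, hN, hdN⟩ := ih
      refine ⟨CohB1.tensorMod N M₁,
        Groth.Agent.Lib.Helper23.SecTw.isInvertible_tensorMod hN hM₁, ?_⟩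
      rw [deg_tensor_invertible k X hdim hN hM₁, hdN, hd₁]
      push_cast
      ring
  rcases Int.eq_nat_or_neg n with ⟨m, rfl | rfl⟩
  · exact hnat m
  · obtain ⟨N, hN, hdN⟩ := hnat m
    obtain ⟨N', hN', ⟨e⟩⟩ := Groth.Agent.Lib.R2H1.InvExists.exists_inverse N hN
    refine ⟨N', hN', ?_⟩
    have hN1 := Groth.Agent.Lib.Helper23.SecTw.isFinLocFreeOfRank_one_of_isInvertible N hN
    have hN'1 := Groth.Agent.Lib.Helper23.SecTw.isFinLocFreeOfRank_one_of_isInvertible N' hN'
    rw [deg_inverse k X hdim hN1 hN'1 e, hdN]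

include k in
/-- a nonzero map from a rank one bundle to a bundle is a monomorphism -/
theorem mono_of_rank_one_ne_zero (hdim : topologicalKrullDim X = 1)
    (hreg : ∀ x : X, IsRegularLocalRing (X.presheaf.stalk x))
    {A G : X.Modules} {r : ℕ} (hA : FlatMod.IsFinLocFreeOfRank 1 A)
    (hG : FlatMod.IsFinLocFreeOfRank r G) (s : A ⟶ G) (hs : s ≠ 0) : Mono s := by
  obtain ⟨K, I, a, p, j, ρ₀, ρ₁, ha, hp, hj, hpj, hap, hK, hI, hrk, hdeg, h0, h1, hle⟩ :=
    exists_ker_im k X hdim hreg hA hG s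
  have : ρ₁ ≠ 0 := fun h => hs (h1 h)
  exact h0 (by omega)

/-- S11482 core -/
theorem s11482 (hdim : topologicalKrullDim X = 1)
    (hreg : ∀ x : X, IsRegularLocalRing (X.presheaf.stalk x))
    (E : X.Modules) (hE : FlatMod.IsFinLocFreeOfRank 2 E)
    (hind : ∀ (E₁ E₂ : X.Modules), Nonempty (E ≅ E₁ ⊞ E₂) → IsZero E₁ ∨ IsZero E₂) :
    (∀ (L : X.Modules) (ι : L ⟶ E), PicF.IsInvertible L → Mono ι →
        2 * Curv2.deg k X L 1 ≤ Curv2.deg k X E 2 + 2 * (Curv2.genus k X : ℤ) - 2) ∧
      ∃ (L : X.Modules) (ι : L ⟶ E), PicF.IsInvertible L ∧ Mono ι ∧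
        Curv2.deg k X E 2 - 2 * (Curv2.genus k X : ℤ) ≤ 2 * Curv2.deg k X L 1 := by
  haveI := isNoetherian_of_proper k X
  constructor
  · intro L ι hL hι
    haveI := hι
    have hL1 := Groth.Agent.Lib.Helper23.SecTw.isFinLocFreeOfRank_one_of_isInvertible L hL
    obtain ⟨L₁, j, ℓ, s, hj, hℓ, hL₁, hle, hQ, hrk, hdegE⟩ :=
      exists_saturation' k X hdim hreg hE hL1 ι
    haveI := hj
    have hs1 : s = 1 := by omega
    subst hs1
    have hL₁i := isInvertible_of_rank_one hL₁
    have hQi := isInvertible_of_rank_one hQ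
    let S : ShortComplex X.Modules := ShortComplex.mk j (cokernel.π j) (cokernel.condition j)
    have hS : S.ShortExact :=
      { exact := ShortComplex.exact_cokernel j
        mono_f := inferInstanceAs (Mono j)
        epi_g := inferInstanceAs (Epi (cokernel.π j)) }
    have hns : ¬ IsSplitEpi (cokernel.π j) := by
      intro hsp
      haveI := hsp
      let sp : S.Splitting := ShortComplex.Splitting.ofExactOfSection S hS.exact
        (section_ (cokernel.π j)) (IsSplitEpi.id (cokernel.π j)) (inferInstanceAs (Mono j))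
      rcases hind L₁ (cokernel j) ⟨sp.isoBinaryBiproduct⟩ with hz | hz
      · exact not_isZero_of_isInvertible hL₁i hz
      · exact not_isZero_of_isInvertible hQi hz
    obtain ⟨Q', hQ', ⟨e⟩⟩ := Groth.Agent.Lib.R2H1.InvExists.exists_inverse _ hQi
    have hQ'1 := Groth.Agent.Lib.Helper23.SecTw.isFinLocFreeOfRank_one_of_isInvertible Q' hQ'
    have hH1 : ¬ Subsingleton (Coh.HH X (CohB1.tensorMod Q' L₁) 1) :=
      fun h => hns (s12632 k X S hS Q' (isInverseOf_symm e) h)
    have hNi : PicF.IsInvertible (CohB1.tensorMod Q' L₁) :=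
      Groth.Agent.Lib.Helper23.SecTw.isInvertible_tensorMod hQ' hL₁i
    have hdegN : ¬ (2 * (Curv2.genus k X : ℤ) - 1 ≤ Curv2.deg k X (CohB1.tensorMod Q' L₁) 1) :=
      fun h => hH1 (Groth.Agent.Lib.R2H1.NonSpecial.s1522 k X hdim _ hNi h)
    rw [deg_tensor_invertible k X hdim hQ' hL₁i, deg_inverse k X hdim hQ hQ'1 e] at hdegN
    push_neg at hdegN
    linarith
  · set d := Curv2.deg k X E 2 with hd
    set g : ℤ := (Curv2.genus k X : ℤ) with hg
    obtain ⟨N, hN, hdN⟩ := exists_invertible_deg k X hdim ((2 * g - d) / 2)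
    have hn1 : 2 * ((2 * g - d) / 2) ≤ 2 * g - d := by omega
    have hn2 : 2 * g - d - 1 ≤ 2 * ((2 * g - d) / 2) := by omega
    have hN1 := Groth.Agent.Lib.Helper23.SecTw.isFinLocFreeOfRank_one_of_isInvertible N hN
    obtain ⟨N', hN', ⟨e⟩⟩ := Groth.Agent.Lib.R2H1.InvExists.exists_inverse N hN
    have hN'1 := Groth.Agent.Lib.Helper23.SecTw.isFinLocFreeOfRank_one_of_isInvertible N' hN'
    have cE := Groth.Agent.Lib.R2H1.DegTensor.isCoh_of_rank' hE
    have cN := isCoh_of_isInvertible N hN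
    have cEN : Coh.IsCoh (CohB1.tensorMod E N) :=
      Groth.Agent.Lib.R2H1.BirDeg.isCoh_tensorMod cE cN
    have hχ := euler_eq_h0_sub_h1 k X hdim.le _ cEN.1
    have hdegEN := Groth.Agent.Lib.R2H1.DegTensor.s7637 k X hdim.le 2 1 E N hE hN1
    have hO := Groth.Agent.Lib.R2H1.LiftZero.euler_structure k X hdim
    have hpos : 1 ≤ Module.finrank k (Coh.HH X (CohB1.tensorMod E N) 0) := by
      simp only [Nat.cast_one, mul_one, Nat.cast_ofNat, one_mul] at hdegEN
      rw [hdN] at hdegEN
      unfold Curv2.deg at hdegEN hd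
      rw [hχ, hO] at hdegEN
      rw [hO] at hd
      have h1 : (0 : ℤ) ≤ Module.finrank k (Coh.HH X (CohB1.tensorMod E N) 1) := by positivity
      push_cast at hdegEN hd
      have : (1 : ℤ) ≤ Module.finrank k (Coh.HH X (CohB1.tensorMod E N) 0) := by linarith
      exact_mod_cast this
    haveI := Groth.Agent.Lib.R2H1.EulerAdd.finite_HH k X _ cEN 0
    have hnt : Nontrivial (Coh.HH X (CohB1.tensorMod E N) 0) := by
      rw [← not_subsingleton_iff_nontrivial]
      intro hsub
      rw [Module.finrank_zero_of_subsingleton] at hpos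
      omega
    obtain ⟨σ, hσ⟩ := exists_section_ne_zero k X _ hnt
    have hσ' : σ ≫ (brdApp X.sheaf E N).hom ≠ 0 := by
      intro h
      apply hσ
      exact (cancel_mono (brdApp X.sheaf E N).hom).1 (h.trans zero_comp.symm)
    obtain ⟨ψ, hψ⟩ := exists_hom_ne_zero_of_section
      (brdApp X.sheaf N' N ≪≫ e) (σ ≫ (brdApp X.sheaf E N).hom) hσ'
    refine ⟨N', ψ, hN', mono_of_rank_one_ne_zero k X hdim hreg hN'1 hE ψ hψ, ?_⟩
    rw [deg_inverse k X hdim hN1 hN'1 e, hdN]
    linarith

end B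

end Part1

end Groth.Agent.Lib.R2H1.VBIndecTwo
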