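import Mathlib
import Groth.Agent.Lib.R2H1VBIndecTwo
set_option backward.isDefEq.respectTransparency.types false

/-!
Normalized rank two bundles: exists_sub_deg_ge (every rank two bundle has an invertible subsheaf L with d - 2g <= 2 deg L), s11347 (2-2g <= deg E <= 2g for normalized indecomposable rank two).
-/

set_option autoImplicit false
set_option linter.style.haveILetI false
set_option linter.unusedSectionVars false
universe u v

open CategoryTheory CategoryTheory.Limits AlgebraicGeometry TopologicalSpace Opposite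

namespace Groth.Agent.Lib.R2H1.VBNormTwo

section Part1

open Groth.Agent.Lib.R2H1.VBSub Groth.Agent.Lib.R2H1.VBRankTwo Groth.Agent.Lib.R2H1.VBSlopeB
open Groth.Agent.Lib.R2H1.VBSat Groth.Agent.Lib.R2H1.CurveEuler Groth.Agent.Lib.R2H1.VBHZero
open Groth.Agent.Lib.R2H1.VBTwist Groth.Agent.Lib.R2H1.VBTwistB Groth.Agent.Lib.R2H1.CurveDegSec
open Groth.Agent.Lib.R2H1.VBIndecTwo
open Groth.Agent.Lib.Helper21.ModTensor5

variable (k : Type u) [Field k] [IsAlgClosed k] (X : Scheme.{u}) [X.Over (Spec (CommRingCat.of k))]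
    [IsProper (X ↘ (Spec (CommRingCat.of k)))] [IsIntegral X]

/-- every rank two bundle has an invertible subsheaf of degree at least `(d - 2g)/2` -/
theorem exists_sub_deg_ge (hdim : topologicalKrullDim X = 1)
    (hreg : ∀ x : X, IsRegularLocalRing (X.presheaf.stalk x))
    (E : X.Modules) (hE : FlatMod.IsFinLocFreeOfRank 2 E) :
    ∃ (L : X.Modules) (ι : L ⟶ E), PicF.IsInvertible L ∧ Mono ι ∧
      Curv2.deg k X E 2 - 2 * (Curv2.genus k X : ℤ) ≤ 2 * Curv2.deg k X L 1 := by
  haveI := isNoetherian_of_proper k X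
  set d := Curv2.deg k X E 2 with hd
  set g : ℤ := (Curv2.genus k X : ℤ) with hg
  obtain ⟨N, hN, hdN⟩ := exists_invertible_deg k X hdim ((2 * g - d) / 2)
  have hn1 : 2 * ((2 * g - d) / 2) ≤ 2 * g - d := by omega
  have hn2 : 2 * g - d - 1 ≤ 2 * ((2 * g - d) / 2) := by omega
  have hN1 := Groth.Agent.Lib.Helper23.SecTw.isFinLocFreeOfRank_one_of_isInvertible N hN
  obtain ⟨N', hN', ⟨e⟩⟩ := Groth.Agent.Lib.R2H1.InvExists.exists_inverse N hN
  have hN'1 := Groth.Agent.Lib.Helper23.SecTw.isFinLocFreeOfRank_one_of_isInvertible N' hN'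
  have cE := Groth.Agent.Lib.R2H1.DegTensor.isCoh_of_rank' hE
  have cN := isCoh_of_isInvertible N hN
  have cEN : Coh.IsCoh (CohB1.tensorMod E N) :=
    Groth.Agent.Lib.R2H1.BirDeg.isCoh_tensorMod cE cN
  have hχ := euler_eq_h0_sub_h1 k X hdim.le _ cEN.1
  have hdegEN := Groth.Agent.Lib.R2H1.DegTensor.s7637 k X hdim.le 2 1 E N hE hN1
  have hO := Groth.Agent.Lib.R2H1.LiftZero.euler_structure k X hdim
  have hpos : 1 ≤ Module.finrank k (Coh.HH X (CohB1.tensorMod E N) 0) := by
    simp only [Nat.cast_one, mul_one, Nat.cast_ofNat, one_mul] at hdegEN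
    rw [hdN] at hdegEN
    unfold Curv2.deg at hdegEN hd
    rw [hχ, hO] at hdegEN
    rw [hO] at hd
    have h1 : (0 : ℤ) ≤ Module.finrank k (Coh.HH X (CohB1.tensorMod E N) 1) := by positivity
    push_cast at hdegEN hd
    have : (1 : ℤ) ≤ Module.finrank k (Coh.HH X (CohB1.tensorMod E N) 0) := by linarith
    exact_mod_cast this
  haveI := Groth.Agent.Lib.R2H1.EulerAdd.finite_HH k X _ cEN 0
  have hnt : Nontrivial (Coh.HH X (CohB1.tensorMod E N) 0) := by
    rw [← not_subsingleton_iff_nontrivial]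
    intro hsub
    rw [Module.finrank_zero_of_subsingleton] at hpos
    omega
  obtain ⟨σ, hσ⟩ := exists_section_ne_zero k X _ hnt
  have hσ' : σ ≫ (brdApp X.sheaf E N).hom ≠ 0 := by
    intro h
    apply hσ
    exact (cancel_mono (brdApp X.sheaf E N).hom).1 (h.trans zero_comp.symm)
  obtain ⟨ψ, hψ⟩ := exists_hom_ne_zero_of_section
    (brdApp X.sheaf N' N ≪≫ e) (σ ≫ (brdApp X.sheaf E N).hom) hσ'
  refine ⟨N', ψ, hN', mono_of_rank_one_ne_zero k X hdim hreg hN'1 hE ψ hψ, ?_⟩
  rw [deg_inverse k X hdim hN1 hN'1 e, hdN]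
  linarith

/-- S11347 core -/
theorem s11347 (hdim : topologicalKrullDim X = 1)
    (hreg : ∀ x : X, IsRegularLocalRing (X.presheaf.stalk x))
    (E : X.Modules) (hE : FlatMod.IsFinLocFreeOfRank 2 E)
    (hn0 : Nontrivial (Coh.HH X E 0))
    (hneg : ∀ M : X.Modules, PicF.IsInvertible M → Curv2.deg k X M 1 < 0 →
      Subsingleton (Coh.HH X (CohB1.tensorMod E M) 0))
    (hind : ∀ L₁ L₂ : X.Modules, PicF.IsInvertible L₁ → PicF.IsInvertible L₂ →
      IsEmpty (E ≅ L₁ ⊞ L₂)) :
    2 - 2 * (Curv2.genus k X : ℤ) ≤ Curv2.deg k X E 2 ∧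
      Curv2.deg k X E 2 ≤ 2 * (Curv2.genus k X : ℤ) := by
  haveI := isNoetherian_of_proper k X
  constructor
  · obtain ⟨s, hs⟩ := exists_section_ne_zero k X E hn0
    haveI : Mono s := mono_of_section_ne_zero k X hdim hreg hE s hs
    have hQi := s12430 k X hdim hreg E hE hneg s hs
    have hQ := Groth.Agent.Lib.Helper23.SecTw.isFinLocFreeOfRank_one_of_isInvertible _ hQi
    have hO := Groth.Agent.Lib.Helper23.TensorUnit.isInvertible_structureModule X
    let S : ShortComplex X.Modules := ShortComplex.mk s (cokernel.π s) (cokernel.condition s)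
    have hS : S.ShortExact :=
      { exact := ShortComplex.exact_cokernel s
        mono_f := inferInstanceAs (Mono s)
        epi_g := inferInstanceAs (Epi (cokernel.π s)) }
    have hdegE : Curv2.deg k X E 2 = Curv2.deg k X (Coh.structureModule X) 1 +
        Curv2.deg k X (cokernel s) 1 :=
      Groth.Agent.Lib.R2H4DegAdd.main k X S hS 1 2 1 (structure_rank_one X) hE hQ
    rw [deg_structure k X, zero_add] at hdegE
    have hns : ¬ IsSplitEpi (cokernel.π s) := by
      intro hsp
      haveI := hsp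
      let sp : S.Splitting := ShortComplex.Splitting.ofExactOfSection S hS.exact
        (section_ (cokernel.π s)) (IsSplitEpi.id (cokernel.π s)) (inferInstanceAs (Mono s))
      exact (hind _ _ hO hQi).false sp.isoBinaryBiproduct
    obtain ⟨Q', hQ', ⟨e⟩⟩ := Groth.Agent.Lib.R2H1.InvExists.exists_inverse _ hQi
    have hQ'1 := Groth.Agent.Lib.Helper23.SecTw.isFinLocFreeOfRank_one_of_isInvertible Q' hQ'
    have hH1 : ¬ Subsingleton (Coh.HH X (CohB1.tensorMod Q' (Coh.structureModule X)) 1) :=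
      fun h => hns (s12632 k X S hS Q' (isInverseOf_symm e) h)
    have hNi : PicF.IsInvertible (CohB1.tensorMod Q' (Coh.structureModule X)) :=
      Groth.Agent.Lib.Helper23.SecTw.isInvertible_tensorMod hQ' hO
    have hdegN : ¬ (2 * (Curv2.genus k X : ℤ) - 1 ≤
        Curv2.deg k X (CohB1.tensorMod Q' (Coh.structureModule X)) 1) :=
      fun h => hH1 (Groth.Agent.Lib.R2H1.NonSpecial.s1522 k X hdim _ hNi h)
    rw [deg_tensor_invertible k X hdim hQ' hO, deg_inverse k X hdim hQ hQ'1 e,
      deg_structure k X] at hdegN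
    push_neg at hdegN
    linarith
  · obtain ⟨L, ι, hL, hι, hle⟩ := exists_sub_deg_ge k X hdim hreg E hE
    haveI := hι
    have h0 := deg_le_zero_of_normalized k X hdim hL ι (mono_ne_zero_of_isInvertible hL ι) hneg
    linarith

end Part1

end Groth.Agent.Lib.R2H1.VBNormTwo
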