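import Mathlib
import Groth.Agent.Lib.R2H1VBNormTwo
set_option backward.isDefEq.respectTransparency.types false

/-!
Rank two bundles on genus one curves: indecomposable implies semistable; TFAE for odd degree (S12633).
-/

set_option autoImplicit false
set_option linter.style.haveILetI false
set_option linter.unusedSectionVars false
universe u v

open CategoryTheory CategoryTheory.Limits AlgebraicGeometry TopologicalSpace Opposite

namespace Groth.Agent.Lib.R2H1.VBGenusOne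

section Part1

open Groth.Agent.Lib.R2H1.VBSub Groth.Agent.Lib.R2H1.VBRankTwo Groth.Agent.Lib.R2H1.VBSlopeB
open Groth.Agent.Lib.R2H1.VBSat Groth.Agent.Lib.R2H1.CurveEuler Groth.Agent.Lib.R2H1.VBHZero
open Groth.Agent.Lib.R2H1.VBTwist Groth.Agent.Lib.R2H1.VBTwistB Groth.Agent.Lib.R2H1.CurveDegSec
open Groth.Agent.Lib.R2H1.VBIndecTwo Groth.Agent.Lib.R2H1.VBEndo

variable (k : Type u) [Field k] [IsAlgClosed k] (X : Scheme.{u}) [X.Over (Spec (CommRingCat.of k))]
    [IsProper (X ↘ (Spec (CommRingCat.of k)))] [IsIntegral X]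

/-- simple bundles are indecomposable -/
theorem indecomposable_of_simple {E : X.Modules} (hE : ¬ IsZero E)
    (hsimple : ∀ φ : E ⟶ E, ∃ c : k, φ = c • 𝟙 E) :
    ∀ (E₁ E₂ : X.Modules), Nonempty (E ≅ E₁ ⊞ E₂) → IsZero E₁ ∨ IsZero E₂ := by
  rintro E₁ E₂ ⟨e⟩
  obtain ⟨e₁, he₁⟩ : ∃ e₁ : E ⟶ E, e₁ = e.hom ≫ biprod.fst ≫ biprod.inl ≫ e.inv := ⟨_, rfl⟩
  obtain ⟨c, hc⟩ := hsimple e₁
  have hidem : e₁ ≫ e₁ = e₁ := by
    rw [he₁]
    simp
  rw [hc, Linear.smul_comp, Linear.comp_smul, Category.id_comp, smul_smul] at hidem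
  have h0 : (c * c - c) • 𝟙 E = 0 := by rw [sub_smul, hidem, sub_self]
  have hcc : c * c - c = 0 := (smul_id_eq_zero_iff k X hE _).1 h0
  have hc01 : c = 0 ∨ c = 1 := by
    have : c * (c - 1) = 0 := by ring_nf; ring_nf at hcc; exact hcc
    rcases mul_eq_zero.1 this with h | h
    · exact Or.inl h
    · exact Or.inr (sub_eq_zero.1 h)
  rcases hc01 with h | h
  · left
    rw [h, zero_smul] at hc
    rw [IsZero.iff_id_eq_zero]
    have : 𝟙 E₁ = biprod.inl ≫ e.inv ≫ e₁ ≫ e.hom ≫ biprod.fst := by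
      rw [he₁]
      simp
    rw [this, hc]
    simp
  · right
    rw [h, one_smul] at hc
    rw [IsZero.iff_id_eq_zero]
    have h2 : (0 : E₂ ⟶ E₂) = biprod.inr ≫ e.inv ≫ e₁ ≫ e.hom ≫ biprod.snd := by
      rw [he₁]
      simp
    rw [h2, hc]
    simp

/-- indecomposable rank two bundles on a genus one curve are semistable -/
theorem semistable_of_indecomposable_rank_two_genus_one (hdim : topologicalKrullDim X = 1)
    (hreg : ∀ x : X, IsRegularLocalRing (X.presheaf.stalk x)) (hg : Curv2.genus k X = 1)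
    (E : X.Modules) (hE : FlatMod.IsFinLocFreeOfRank 2 E)
    (hind : ∀ (E₁ E₂ : X.Modules), Nonempty (E ≅ E₁ ⊞ E₂) → IsZero E₁ ∨ IsZero E₂) :
    ∀ (F : X.Modules) (r' : ℕ) (i : F ⟶ E), Mono i → 0 < r' → FlatMod.IsFinLocFreeOfRank r' F →
      Curv2.deg k X F r' * (2 : ℤ) ≤ Curv2.deg k X E 2 * (r' : ℤ) := by
  intro F r' i hi hr' hF
  haveI := hi
  have hle : r' ≤ 2 := rank_le_of_mono hF hE i
  have h12 : r' = 1 ∨ r' = 2 := by omega
  rcases h12 with rfl | rfl
  · have h := (s11482 k X hdim hreg E hE hind).1 F i (isInvertible_of_rank_one hF) hi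
    rw [hg] at h
    push_cast at h ⊢
    linarith
  · have h := (deg_le_of_mono_same_rank k X hdim hF hE i).1
    push_cast
    linarith

/-- S12633 core -/
theorem s12633 (hdim : topologicalKrullDim X = 1)
    (hreg : ∀ x : X, IsRegularLocalRing (X.presheaf.stalk x))
    (hg : Curv2.genus k X = 1) (E : X.Modules) (hE : FlatMod.IsFinLocFreeOfRank 2 E)
    (hodd : Odd (Curv2.deg k X E 2)) :
    List.TFAE [
      (¬ IsZero E ∧ ∀ (E₁ E₂ : X.Modules), Nonempty (E ≅ E₁ ⊞ E₂) → IsZero E₁ ∨ IsZero E₂),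
      (∀ φ : E ⟶ E, ∃ c : k, (SheafOfModules.toSheaf X.ringCatSheaf).map φ = Coh.smulAb E (Coh.toGlobal (X ↘ Spec (CommRingCat.of k)) c)),
      (∀ (F : X.Modules) (r' : ℕ) (i : F ⟶ E), Mono i → 0 < r' → r' < 2 → FlatMod.IsFinLocFreeOfRank r' F →
        Curv2.deg k X F r' * (2 : ℤ) < Curv2.deg k X E 2 * (r' : ℤ)),
      (∀ (F : X.Modules) (r' : ℕ) (i : F ⟶ E), Mono i → 0 < r' → FlatMod.IsFinLocFreeOfRank r' F →
        Curv2.deg k X F r' * (2 : ℤ) ≤ Curv2.deg k X E 2 * (r' : ℤ))] := by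
  have hEne : ¬ IsZero E := not_isZero_of_rank_pos hE (by norm_num)
  tfae_have 1 → 4 := fun h =>
    semistable_of_indecomposable_rank_two_genus_one k X hdim hreg hg E hE h.2
  tfae_have 4 → 3 := by
    intro h F r' i hi hr' hr'2 hF
    have h1 : r' = 1 := by omega
    subst h1
    have h2 := h F 1 i hi hr' hF
    refine lt_of_le_of_ne h2 fun heq => ?_
    obtain ⟨m, hm⟩ := hodd
    push_cast at heq
    omega
  tfae_have 3 → 2 := by
    intro h φ
    have hst : ModFun.IsSlopeStable k X E 2 := by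
      intro F r' i hi hr' hr'2 hF
      have := h F r' i hi hr' hr'2 hF
      exact_mod_cast this
    exact endo_scalar_of_slopeStable k X hdim hreg 2 E hE hst φ
  tfae_have 2 → 1 := by
    intro h
    refine ⟨hEne, indecomposable_of_simple k X hEne fun φ => ?_⟩
    obtain ⟨c, hc⟩ := h φ
    rw [← toSheaf_map_smul_id] at hc
    exact ⟨c, (SheafOfModules.toSheaf X.ringCatSheaf).map_injective hc⟩
  tfae_finish

end Part1

end Groth.Agent.Lib.R2H1.VBGenusOne
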