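import Mathlib
import Groth.Agent.Lib.R2H1VBGenusOne
set_option backward.isDefEq.respectTransparency.types false

/-!
H0-semistability of rank two bundles: exists_hom_tensor_ne_zero, exists_deg_one_section (O(p) with its section), exists_mono_deg_add (M embeds in invertible modules of any larger degree), h0_le_of_mono, h0_le_genus (deg <= 2g-1 => h0 <= g), s11822.
-/

set_option autoImplicit false
set_option linter.style.haveILetI false
set_option linter.unusedSectionVars false
universe u v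

open CategoryTheory CategoryTheory.Limits AlgebraicGeometry TopologicalSpace Opposite

namespace Groth.Agent.Lib.R2H1.VBHSemi

section Part1

open Groth.Agent.Lib.R2H1.VBSub Groth.Agent.Lib.R2H1.VBRankTwo Groth.Agent.Lib.R2H1.VBSlopeB
open Groth.Agent.Lib.R2H1.VBSat Groth.Agent.Lib.R2H1.CurveEuler Groth.Agent.Lib.R2H1.VBHZero
open Groth.Agent.Lib.R2H1.VBTwist Groth.Agent.Lib.R2H1.VBTwistB Groth.Agent.Lib.R2H1.CurveDegSec
open Groth.Agent.Lib.R2H1.VBIndecTwo Groth.Agent.Lib.R2H1.VBEndo
open Groth.Agent.Lib.R2H1.DegCartier Groth.Agent.Lib.R2H1.SkyDecomp Groth.Agent.Lib.R2H2.DevA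
open Groth.Agent.Lib.Helper21.ModTensor3 Groth.Agent.Lib.Helper21.ModTensor5
  Groth.Agent.Lib.Helper21.ModTensor6 Groth.Agent.Lib.Helper21.ModTensor7
open Groth.Agent.Lib.R2H1.RegPoint Groth.Agent.Lib.R2H1.InvExists Groth.Agent.Lib.R2H1.NonSpecial

section Site
variable {C : Type u} [SmallCategory C] {J : GrothendieckTopology C} (O : Sheaf J CommRingCat.{u})

/-- tensoring a nonzero section with a module having a tensor inverse -/
theorem exists_hom_tensor_ne_zero_site {M M' P : ModSite.Mod O}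
    (e : ((ModSite.tensorBi O).obj M').obj M ≅ ModSite.unit O)
    (s : ModSite.unit O ⟶ P) (hs : s ≠ 0) :
    ∃ j : M ⟶ ((ModSite.tensorBi O).obj M).obj P, j ≠ 0 := by
  haveI := faithful_tL_of_inverse O M' M e
  have h1 : (tL O M).map s ≠ 0 := by
    intro h
    apply hs
    apply (tL O M).map_injective
    rw [h, CategoryTheory.Functor.map_zero]
  refine ⟨(Groth.Agent.Lib.Helper21.Dual.rU O M).inv ≫ (tL O M).map s, fun h => h1 ?_⟩
  have h2 : (tL O M).map s = (Groth.Agent.Lib.Helper21.Dual.rU O M).hom ≫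
      ((Groth.Agent.Lib.Helper21.Dual.rU O M).inv ≫ (tL O M).map s) := by
    rw [Iso.hom_inv_id_assoc]
  rw [h2, h, comp_zero]

end Site

section A
variable {X : Scheme.{u}}

theorem exists_hom_tensor_ne_zero {M M' P : X.Modules}
    (e : CohB1.tensorMod M' M ≅ Coh.structureModule X)
    (s : Coh.structureModule X ⟶ P) (hs : s ≠ 0) :
    ∃ j : M ⟶ CohB1.tensorMod M P, j ≠ 0 :=
  exists_hom_tensor_ne_zero_site X.sheaf e s hs

end A

variable (k : Type u) [Field k] [IsAlgClosed k] (X : Scheme.{u}) [X.Over (Spec (CommRingCat.of k))]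
    [IsProper (X ↘ (Spec (CommRingCat.of k)))] [IsIntegral X]

/-- an invertible module of degree one with a nonzero section -/
theorem exists_deg_one_section (hdim : topologicalKrullDim X = 1) :
    ∃ (P : X.Modules) (s : Coh.structureModule X ⟶ P), PicF.IsInvertible P ∧
      Curv2.deg k X P 1 = 1 ∧ s ≠ 0 := by
  haveI := isNoetherian_of_proper k X
  obtain ⟨x, -, hxc, hdvr⟩ := exists_closed_dvr_mem_open k X (X ↘ Spec (CommRingCat.of k))
    hdim ⊤ ⟨(inferInstance : Nonempty X).some, trivial⟩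
  haveI := hdvr
  have hD : BlowUp.IsEffCartierIdeal (Scheme.IdealSheafData.vanishingIdeal ⟨{x}, hxc⟩) :=
    isEffCartier_vanishingIdeal_singleton X x hxc
  have hI : PicF.IsInvertible (ClSub.idealMod (Scheme.IdealSheafData.vanishingIdeal ⟨{x}, hxc⟩)) :=
    Groth.Agent.Helper18Cart.isInvertible_of_isEffCartier _ hD
  obtain ⟨M, hM, ⟨e⟩⟩ := exists_inverse _ hI
  have hLD : ClSub.IsInverseOf M
      (ClSub.idealMod (Scheme.IdealSheafData.vanishingIdeal ⟨{x}, hxc⟩)) :=
    ⟨brdApp X.sheaf M _ ≪≫ e⟩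
  have hO := Groth.Agent.Lib.Helper23.TensorUnit.isInvertible_structureModule X
  have hO1 : FlatMod.IsFinLocFreeOfRank 1 (Coh.structureModule X) :=
    Groth.Agent.Lib.Helper23.SecTw.isFinLocFreeOfRank_one_of_isInvertible _ hO
  have h := (s1604 k X hdim.le _ hD M hM hLD 1 (Coh.structureModule X) hO1).2
  rw [finrank_H0_quotMod_point k X x hxc] at h
  let e2 : CohB1.tensorMod (Coh.structureModule X) M ≅ M :=
    brdApp X.sheaf (Coh.structureModule X) M ≪≫ Groth.Agent.Lib.Helper21.Dual.rU X.sheaf M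
  have hdegM : Curv2.deg k X M 1 = 1 := by
    have h3 : Curv2.deg k X (CohB1.tensorMod (Coh.structureModule X) M) 1 = Curv2.deg k X M 1 := by
      unfold Curv2.deg
      rw [euler_congr k e2]
    have h4 : Curv2.deg k X (Coh.structureModule X) 1 = 0 := by
      unfold Curv2.deg
      push_cast
      ring
    rw [h3, h4] at h
    push_cast at h
    omega
  haveI : Mono (ClSub.idealModι (Scheme.IdealSheafData.vanishingIdeal ⟨{x}, hxc⟩)) := by
    unfold ClSub.idealModι
    exact equalizer.ι_mono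
  obtain ⟨σ, hσ⟩ := exists_section_twist_ne_zero e
    (ClSub.idealModι (Scheme.IdealSheafData.vanishingIdeal ⟨{x}, hxc⟩))
    (mono_ne_zero_of_isInvertible hI _)
  refine ⟨M, σ ≫ e2.hom, hM, hdegM, fun h => hσ ?_⟩
  exact (cancel_mono e2.hom).1 (h.trans zero_comp.symm)

end Part1

section Part2

open Groth.Agent.Lib.R2H1.VBSub Groth.Agent.Lib.R2H1.VBRankTwo Groth.Agent.Lib.R2H1.VBSlopeB
open Groth.Agent.Lib.R2H1.VBSat Groth.Agent.Lib.R2H1.CurveEuler Groth.Agent.Lib.R2H1.VBHZero
open Groth.Agent.Lib.R2H1.VBTwist Groth.Agent.Lib.R2H1.VBTwistB Groth.Agent.Lib.R2H1.CurveDegSec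
open Groth.Agent.Lib.R2H1.VBIndecTwo Groth.Agent.Lib.R2H1.VBEndo
open Groth.Agent.Lib.Helper21.ModTensor3 Groth.Agent.Lib.Helper21.ModTensor5
  Groth.Agent.Lib.Helper21.ModTensor6 Groth.Agent.Lib.Helper21.ModTensor7
open Groth.Agent.Lib.R2H1.InvExists Groth.Agent.Lib.R2H1.NonSpecial

variable (k : Type u) [Field k] [IsAlgClosed k] (X : Scheme.{u}) [X.Over (Spec (CommRingCat.of k))]
    [IsProper (X ↘ (Spec (CommRingCat.of k)))] [IsIntegral X]

/-- every invertible module embeds in invertible modules of all larger degrees -/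
theorem exists_mono_deg_add (hdim : topologicalKrullDim X = 1)
    (hreg : ∀ x : X, IsRegularLocalRing (X.presheaf.stalk x)) (n : ℕ) :
    ∀ (M : X.Modules), PicF.IsInvertible M →
      ∃ (M' : X.Modules) (j : M ⟶ M'), PicF.IsInvertible M' ∧ Mono j ∧
        Curv2.deg k X M' 1 = Curv2.deg k X M 1 + n := by
  induction n with
  | zero =>
    intro M hM
    exact ⟨M, 𝟙 M, hM, inferInstance, by simp⟩
  | succ n ih =>
    intro M hM
    obtain ⟨M₁, j₁, hM₁, hj₁, hdeg₁⟩ := ih M hM
    haveI := hj₁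
    obtain ⟨P, s, hP, hdegP, hs⟩ := exists_deg_one_section k X hdim
    obtain ⟨M₁', hM₁', ⟨e⟩⟩ := exists_inverse M₁ hM₁
    obtain ⟨j₂, hj₂⟩ := exists_hom_tensor_ne_zero (brdApp X.sheaf M₁' M₁ ≪≫ e) s hs
    have hM₂ : PicF.IsInvertible (CohB1.tensorMod M₁ P) :=
      Groth.Agent.Lib.Helper23.SecTw.isInvertible_tensorMod hM₁ hP
    have hM₁1 := Groth.Agent.Lib.Helper23.SecTw.isFinLocFreeOfRank_one_of_isInvertible _ hM₁
    have hM₂1 := Groth.Agent.Lib.Helper23.SecTw.isFinLocFreeOfRank_one_of_isInvertible _ hM₂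
    haveI : Mono j₂ := mono_of_rank_one_ne_zero k X hdim hreg hM₁1 hM₂1 j₂ hj₂
    refine ⟨_, j₁ ≫ j₂, hM₂, mono_comp j₁ j₂, ?_⟩
    rw [deg_tensor_invertible k X hdim hM₁ hP, hdeg₁, hdegP]
    push_cast
    ring

include k in
/-- `h⁰` is monotone along monomorphisms -/
theorem h0_le_of_mono {M M' : X.Modules} (cM' : Coh.IsCoh M') (j : M ⟶ M') [Mono j] :
    Module.finrank k (Coh.HH X M 0) ≤ Module.finrank k (Coh.HH X M' 0) := by
  haveI := Groth.Agent.Lib.R2H1.EulerAdd.finite_HH k X _ cM' 0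
  haveI : Module.Finite k (Coh.structureModule X ⟶ M') :=
    Module.Finite.equiv (Groth.Agent.Lib.R2H2.PnBeilinson.clsEquiv (k := k) _).symm
  have hinj : Function.Injective (Linear.rightComp k (Coh.structureModule X) j) := by
    intro a b hab
    exact (cancel_mono j).1 hab
  have h1 := LinearMap.finrank_le_finrank_of_injective hinj
  rw [(Groth.Agent.Lib.R2H2.PnBeilinson.clsEquiv (k := k) M).finrank_eq,
    (Groth.Agent.Lib.R2H2.PnBeilinson.clsEquiv (k := k) M').finrank_eq] at h1
  exact h1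

/-- special invertible modules have at most `g` sections -/
theorem h0_le_genus (hdim : topologicalKrullDim X = 1)
    (hreg : ∀ x : X, IsRegularLocalRing (X.presheaf.stalk x))
    (M : X.Modules) (hM : PicF.IsInvertible M)
    (hdeg : Curv2.deg k X M 1 ≤ 2 * (Curv2.genus k X : ℤ) - 1) :
    Module.finrank k (Coh.HH X M 0) ≤ Curv2.genus k X := by
  haveI := isNoetherian_of_proper k X
  obtain ⟨M', j, hM', hj, hdeg'⟩ := exists_mono_deg_add k X hdim hreg
    (2 * (Curv2.genus k X : ℤ) - 1 - Curv2.deg k X M 1).toNat M hM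
  haveI := hj
  have hd : Curv2.deg k X M' 1 = 2 * (Curv2.genus k X : ℤ) - 1 := by
    rw [hdeg']
    have := Int.toNat_of_nonneg (a := 2 * (Curv2.genus k X : ℤ) - 1 - Curv2.deg k X M 1)
      (by linarith)
    omega
  have cM' := isCoh_of_isInvertible _ hM'
  haveI h1 := s1522 k X hdim M' hM' (by rw [hd])
  have hχ := euler_eq_h0_sub_h1 k X hdim.le _ cM'.1
  have hO := Groth.Agent.Lib.R2H1.LiftZero.euler_structure k X hdim
  rw [Module.finrank_zero_of_subsingleton (M := Coh.HH X M' 1)] at hχ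
  have h0 : (Module.finrank k (Coh.HH X M' 0) : ℤ) = Curv2.genus k X := by
    unfold Curv2.deg at hd
    rw [hχ, hO] at hd
    push_cast at hd
    linarith
  have := h0_le_of_mono k X cM' j
  omega

/-- S11822 core -/
theorem s11822 (hdim : topologicalKrullDim X = 1)
    (hreg : ∀ x : X, IsRegularLocalRing (X.presheaf.stalk x))
    (E : X.Modules) (hE : FlatMod.IsFinLocFreeOfRank 2 E) (h1 : Subsingleton (Coh.HH X E 1))
    (hdeg : 4 * (Curv2.genus k X : ℤ) - 2 ≤ Curv2.deg k X E 2) :
    (∀ (M : X.Modules) (i : M ⟶ E), Mono i → PicF.IsInvertible M →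
        2 * Module.finrank k (Coh.HH X M 0) ≤ Module.finrank k (Coh.HH X E 0)) ↔
      (∀ (F : X.Modules) (r' : ℕ) (i : F ⟶ E), Mono i → 0 < r' → FlatMod.IsFinLocFreeOfRank r' F →
      Curv2.deg k X F r' * (2 : ℤ) ≤ Curv2.deg k X E 2 * (r' : ℤ)) := by
  haveI := isNoetherian_of_proper k X
  have cE := Groth.Agent.Lib.R2H1.DegTensor.isCoh_of_rank' hE
  have hχE := euler_eq_h0_sub_h1 k X hdim.le _ cE.1
  have hO := Groth.Agent.Lib.R2H1.LiftZero.euler_structure k X hdim
  rw [Module.finrank_zero_of_subsingleton (M := Coh.HH X E 1)] at hχE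
  have hdE : Curv2.deg k X E 2 = (Module.finrank k (Coh.HH X E 0) : ℤ) -
      2 * (1 - (Curv2.genus k X : ℤ)) := by
    unfold Curv2.deg
    rw [hχE, hO]
    push_cast
    ring
  constructor
  · intro hss F r' i hi hr' hF
    haveI := hi
    have hle : r' ≤ 2 := rank_le_of_mono hF hE i
    have h12 : r' = 1 ∨ r' = 2 := by omega
    rcases h12 with rfl | rfl
    · have hFi := isInvertible_of_rank_one hF
      have h2 := hss F i hi hFi
      have cF := isCoh_of_isInvertible _ hFi
      have hχF := euler_eq_h0_sub_h1 k X hdim.le _ cF.1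
      have hdF : Curv2.deg k X F 1 = (Module.finrank k (Coh.HH X F 0) : ℤ) -
          (Module.finrank k (Coh.HH X F 1) : ℤ) - (1 - (Curv2.genus k X : ℤ)) := by
        unfold Curv2.deg
        rw [hχF, hO]
        push_cast
        ring
      have h3 : (0 : ℤ) ≤ Module.finrank k (Coh.HH X F 1) := by positivity
      have h4 : (2 : ℤ) * Module.finrank k (Coh.HH X F 0) ≤ Module.finrank k (Coh.HH X E 0) := by
        exact_mod_cast h2
      push_cast
      linarith
    · have h := (deg_le_of_mono_same_rank k X hdim hF hE i).1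
      push_cast
      linarith
  · intro hss M i hi hM
    haveI := hi
    have hM1 := Groth.Agent.Lib.Helper23.SecTw.isFinLocFreeOfRank_one_of_isInvertible _ hM
    have h2 := hss M 1 i hi Nat.one_pos hM1
    push_cast at h2
    by_cases hc : 2 * (Curv2.genus k X : ℤ) - 1 ≤ Curv2.deg k X M 1
    · haveI := s1522 k X hdim M hM hc
      have cM := isCoh_of_isInvertible _ hM
      have hχM := euler_eq_h0_sub_h1 k X hdim.le _ cM.1
      rw [Module.finrank_zero_of_subsingleton (M := Coh.HH X M 1)] at hχM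
      have hdM : Curv2.deg k X M 1 = (Module.finrank k (Coh.HH X M 0) : ℤ) -
          (1 - (Curv2.genus k X : ℤ)) := by
        unfold Curv2.deg
        rw [hχM, hO]
        push_cast
        ring
      have : (2 : ℤ) * Module.finrank k (Coh.HH X M 0) ≤ Module.finrank k (Coh.HH X E 0) := by
        linarith
      exact_mod_cast this
    · push_neg at hc
      have h3 := h0_le_genus k X hdim hreg M hM (by linarith)
      have : (2 : ℤ) * Module.finrank k (Coh.HH X M 0) ≤ Module.finrank k (Coh.HH X E 0) := by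
        have h4 : (Module.finrank k (Coh.HH X M 0) : ℤ) ≤ Curv2.genus k X := by exact_mod_cast h3
        linarith
      exact_mod_cast this

end Part2

end Groth.Agent.Lib.R2H1.VBHSemi
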