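import Mathlib
import Groth.Agent.Lib.R2H1NonSpecial
import Groth.Agent.Lib.R2H1LiftZero
import Groth.Agent.Lib.Helper23GG
import Groth.Agent.Lib.Helper23SecTw10
import Groth.Agent.Lib.R2H1VBHSemi
import Groth.Agent.Lib.R2H1VBIndecTwo
import Groth.Agent.Lib.R2H1VBSub
set_option backward.isDefEq.respectTransparency.types false

/-!
helper1 (run 2): twisting by points on curves. API: twist_seq_facts (0 -> G(x)I_D -> G -> G(x)O_D -> 0 exact, coherent, h0(G(x)O_D) = n h0(O_D)), twist_bounds (h0(G(-D)) <= h0(G) <= h0(G(-D)) + n h0(O_D)), comp_g_ne_zero, twist_eq_of_section, isDVR_of_closed, point_isEffCartier, h0_point_twist_bounds, h0_point_twist_of_mem_genLocus, exists_mem_genLocus_of_h0_lt, mem_open_of_not_isClosed, s11330, genLocus_nonempty, exists_closed_mem_genLocus₂, h0_add_le_aux, s11352, h0_tensorPow_ge, deg_tensorPow, h0_le_deg (S18895).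
-/

set_option autoImplicit false
set_option linter.style.haveILetI false
set_option linter.unusedSectionVars false
universe u v

open CategoryTheory CategoryTheory.Limits AlgebraicGeometry TopologicalSpace Opposite

namespace Groth.Agent.Lib.R2H1.PointTwist

section Part1

open Groth.Agent.Lib.R2H1.DegCartier Groth.Agent.Lib.R2H1.SkyDecomp Groth.Agent.Lib.R2H2.DevA
open Groth.Agent.Lib.Helper21.ModTensor Groth.Agent.Lib.Helper21.ModTensor2
open Groth.Agent.Lib.Helper21.ModTensor5 Groth.Agent.Lib.Helper21.ModTensor6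
open Groth.Agent.Lib.Helper21.ModTensor7 Groth.Agent.Lib.Helper21.ModTensor3
open Groth.Agent.Lib.R2H1.RegPoint Groth.Agent.Lib.R2H1.CurveEuler Groth.Agent.Lib.R2H1.CurveDegSec
  Groth.Agent.Lib.R2H1.EulerAdd Groth.Agent.Lib.R2H2.HHLin Groth.Agent.Lib.R2H2.PnLinRes
  Groth.Agent.Lib.R2H1.GenusZero Groth.Agent.Lib.R2H1.DegNonpos Groth.Agent.Lib.R2H1.NonSpecial

variable (k : Type u) [Field k] (X : Scheme.{u}) [X.Over (Spec (CommRingCat.of k))]
    [IsProper (X ↘ (Spec (CommRingCat.of k)))]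

/-- data of the twisted ideal sequence `0 → G ⊗ I_D → G ⊗ O → G ⊗ O_D → 0` -/
theorem twist_seq_facts (hdim : topologicalKrullDim X ≤ 1) (D : X.IdealSheafData)
    (hD : BlowUp.IsEffCartierIdeal D) (n : ℕ) (G : X.Modules)
    (hG : FlatMod.IsFinLocFreeOfRank n G) :
    ((idealSeq D).map (DCoh.tensorBi.obj G)).ShortExact ∧
    Coh.IsCoh ((idealSeq D).map (DCoh.tensorBi.obj G)).X₁ ∧
    Coh.IsCoh ((idealSeq D).map (DCoh.tensorBi.obj G)).X₂ ∧
    Coh.IsCoh ((idealSeq D).map (DCoh.tensorBi.obj G)).X₃ ∧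
    (Module.finrank k (Coh.HH X ((idealSeq D).map (DCoh.tensorBi.obj G)).X₃ 0) : ℤ) =
      n * Module.finrank k (Coh.HH X (ClSub.quotMod D) 0) := by
  haveI := isNoetherian_of_proper k X
  have hI : PicF.IsInvertible (ClSub.idealMod D) :=
    Groth.Agent.Helper18Cart.isInvertible_of_isEffCartier D hD
  have hG' : FlatMod.IsFinLocFreeOfRank n (CohB1.tensorMod G (ClSub.idealMod D)) :=
    isFinLocFreeOfRank_tensor_invertible n G _ hG hI
  have hGf : FlatMod.IsFinLocFree G := fun y => by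
    obtain ⟨V, hy, e⟩ := hG y
    exact ⟨V, n, hy, e⟩
  have hGf' : FlatMod.IsFinLocFree (CohB1.tensorMod G (ClSub.idealMod D)) := fun y => by
    obtain ⟨V, hy, e⟩ := hG' y
    exact ⟨V, n, hy, e⟩
  have cG : Coh.IsCoh G := Groth.Agent.Lib.R2H2.PnLocFree.isCoh_of_isFinLocFree G hGf
  have cG' : Coh.IsCoh (CohB1.tensorMod G (ClSub.idealMod D)) :=
    Groth.Agent.Lib.R2H2.PnLocFree.isCoh_of_isFinLocFree _ hGf'
  have hfl := Groth.Agent.Lib.R2H2.PullLF.isFlat_of_isFinLocFree G hGf
  have hS : ((idealSeq D).map (DCoh.tensorBi.obj G)).ShortExact :=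
    Groth.Agent.Lib.R2Lead.TensorExact.shortExact_map_tensorBi G (fun y => hfl y)
      (idealSeq D) (idealSeq_shortExact D)
  have hQ : Coh.IsCoh (ClSub.quotMod D) :=
    Groth.Agent.S0019.result D.subschemeι _
      (Groth.Agent.Lib.R2H1.GenusLe.isCoh_structureModule _)
  have hsuppQ := dim_support_quotMod_le_zero D hdim hD
  have main := euler_tensor_ideal k X D n G hG hQ hsuppQ cG'
  have e1 := euler_eq_h0 k X (ClSub.quotMod D) hQ hsuppQ
  have c₂ : Coh.IsCoh ((idealSeq D).map (DCoh.tensorBi.obj G)).X₂ :=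
    Groth.Agent.Lib.R2H2.PdSheaf.isCoh_of_iso (Groth.Agent.Lib.Helper21.Dual.rU X.sheaf G).symm cG
  have c₁ : Coh.IsCoh ((idealSeq D).map (DCoh.tensorBi.obj G)).X₁ := cG'
  have c₃ := isCoh_X₃ _ hS c₁ c₂
  have hadd := s1524 k X _ hS c₁ c₂ c₃
  have e₂ : Curv2.euler k X ((idealSeq D).map (DCoh.tensorBi.obj G)).X₂ = Curv2.euler k X G :=
    euler_congr k (Groth.Agent.Lib.Helper21.Dual.rU X.sheaf G)
  -- support of X₃
  have hsupp₃ : CohB1.support ((idealSeq D).map (DCoh.tensorBi.obj G)).X₃ ⊆ (D.support : Set X) := by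
    intro y hy
    by_contra hcon
    exact hy (Groth.Agent.Lib.R2H1.LiftZero.stalk_X₃_subsingleton D G y hcon)
  have hdim₃ : topologicalKrullDim (CohB1.support ((idealSeq D).map (DCoh.tensorBi.obj G)).X₃) ≤ 0 :=
    le_trans (Topology.IsInducing.topologicalKrullDim_le
      (Topology.IsEmbedding.inclusion hsupp₃).isInducing) (dim_support_le_zero D hdim hD)
  have e3 := euler_eq_h0 k X _ c₃ hdim₃
  refine ⟨hS, c₁, c₂, c₃, ?_⟩
  have e₁' : Curv2.euler k X ((idealSeq D).map (DCoh.tensorBi.obj G)).X₁ =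
      Curv2.euler k X (CohB1.tensorMod G (ClSub.idealMod D)) := rfl
  rw [e₂, e₁'] at hadd
  rw [e1] at main
  rw [← e3]
  linarith

end Part1

section Part2


open Groth.Agent.Lib.R2H1.DegCartier Groth.Agent.Lib.R2H1.SkyDecomp Groth.Agent.Lib.R2H2.DevA
open Groth.Agent.Lib.Helper21.ModTensor Groth.Agent.Lib.Helper21.ModTensor2
open Groth.Agent.Lib.Helper21.ModTensor5 Groth.Agent.Lib.Helper21.ModTensor6
open Groth.Agent.Lib.Helper21.ModTensor7 Groth.Agent.Lib.Helper21.ModTensor3
open Groth.Agent.Lib.R2H1.RegPoint Groth.Agent.Lib.R2H1.CurveEuler Groth.Agent.Lib.R2H1.CurveDegSec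
  Groth.Agent.Lib.R2H1.EulerAdd Groth.Agent.Lib.R2H2.HHLin Groth.Agent.Lib.R2H2.PnLinRes
  Groth.Agent.Lib.R2H1.GenusZero Groth.Agent.Lib.R2H1.DegNonpos Groth.Agent.Lib.R2H1.NonSpecial

variable (k : Type u) [Field k] (X : Scheme.{u}) [X.Over (Spec (CommRingCat.of k))]
    [IsProper (X ↘ (Spec (CommRingCat.of k)))]

/-- `h⁰(G ⊗ I_D) ≤ h⁰(G) ≤ h⁰(G ⊗ I_D) + n · h⁰(O_D)` -/
theorem twist_bounds (hdim : topologicalKrullDim X ≤ 1) (D : X.IdealSheafData)
    (hD : BlowUp.IsEffCartierIdeal D) (n : ℕ) (G : X.Modules)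
    (hG : FlatMod.IsFinLocFreeOfRank n G) :
    Module.finrank k (Coh.HH X (CohB1.tensorMod G (ClSub.idealMod D)) 0) ≤
      Module.finrank k (Coh.HH X G 0) ∧
    Module.finrank k (Coh.HH X G 0) ≤
      Module.finrank k (Coh.HH X (CohB1.tensorMod G (ClSub.idealMod D)) 0) +
        n * Module.finrank k (Coh.HH X (ClSub.quotMod D) 0) := by
  haveI := isNoetherian_of_proper k X
  obtain ⟨hS, c₁, c₂, c₃, h₃⟩ := twist_seq_facts k X hdim D hD n G hG
  haveI := finite_HH k X _ c₂ 0
  haveI := finite_HH k X _ c₁ 0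
  haveI := finite_HH k X _ c₃ 0
  have hinj : Function.Injective (HmapA k ((idealSeq D).map (DCoh.tensorBi.obj G)).f 0) :=
    injective_f_zero k _ hS
  have hX₂ : Module.finrank k (Coh.HH X ((idealSeq D).map (DCoh.tensorBi.obj G)).X₂ 0) =
      Module.finrank k (Coh.HH X G 0) :=
    Groth.Agent.Lib.R2H2.ClosedPnLin.finrank_HH_of_iso k
      (Groth.Agent.Lib.Helper21.Dual.rU X.sheaf G) 0
  have hX₁ : Module.finrank k (Coh.HH X ((idealSeq D).map (DCoh.tensorBi.obj G)).X₁ 0) =
      Module.finrank k (Coh.HH X (CohB1.tensorMod G (ClSub.idealMod D)) 0) := rfl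
  have hrange : Module.finrank k (LinearMap.range
      (HmapA k ((idealSeq D).map (DCoh.tensorBi.obj G)).f 0)) =
      Module.finrank k (Coh.HH X ((idealSeq D).map (DCoh.tensorBi.obj G)).X₁ 0) :=
    LinearMap.finrank_range_of_inj hinj
  have hker : LinearMap.ker (HmapA k ((idealSeq D).map (DCoh.tensorBi.obj G)).g 0) ≤
      LinearMap.range (HmapA k ((idealSeq D).map (DCoh.tensorBi.obj G)).f 0) := by
    intro x hx
    obtain ⟨x₁, hx₁⟩ := exact₂ _ hS 0 x hx
    exact ⟨x₁, hx₁⟩
  have hrn := LinearMap.finrank_range_add_finrank_ker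
    (HmapA k ((idealSeq D).map (DCoh.tensorBi.obj G)).g 0)
  have h1 := Submodule.finrank_mono hker
  have h2 := Submodule.finrank_le (LinearMap.range
    (HmapA k ((idealSeq D).map (DCoh.tensorBi.obj G)).g 0))
  have h3 := Submodule.finrank_le (LinearMap.range
    (HmapA k ((idealSeq D).map (DCoh.tensorBi.obj G)).f 0))
  have h₃' : Module.finrank k (Coh.HH X ((idealSeq D).map (DCoh.tensorBi.obj G)).X₃ 0) =
      n * Module.finrank k (Coh.HH X (ClSub.quotMod D) 0) := by exact_mod_cast h₃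
  constructor
  · rw [← hX₂, ← hX₁, ← hrange]; exact h3
  · rw [← hX₂, ← hX₁, ← h₃']
    omega

end Part2

section Part3


open Groth.Agent.Lib.R2H1.DegCartier Groth.Agent.Lib.R2H1.SkyDecomp Groth.Agent.Lib.R2H2.DevA
open Groth.Agent.Lib.Helper21.ModTensor Groth.Agent.Lib.Helper21.ModTensor2
open Groth.Agent.Lib.Helper21.ModTensor5 Groth.Agent.Lib.Helper21.ModTensor6
open Groth.Agent.Lib.Helper21.ModTensor7 Groth.Agent.Lib.Helper21.ModTensor3
open Groth.Agent.Lib.R2H1.RegPoint Groth.Agent.Lib.R2H1.CurveEuler Groth.Agent.Lib.R2H1.CurveDegSec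
  Groth.Agent.Lib.R2H1.EulerAdd Groth.Agent.Lib.R2H2.HHLin Groth.Agent.Lib.R2H2.PnLinRes
  Groth.Agent.Lib.R2H1.GenusZero Groth.Agent.Lib.R2H1.DegNonpos Groth.Agent.Lib.R2H1.NonSpecial

variable (k : Type u) [Field k] (X : Scheme.{u}) [X.Over (Spec (CommRingCat.of k))]
    [IsProper (X ↘ (Spec (CommRingCat.of k)))]

/-- a section of `L ⊗ O` which generates near the support of `D` does not die in `L ⊗ O_D` -/
theorem comp_g_ne_zero (hdim : topologicalKrullDim X ≤ 1) (D : X.IdealSheafData)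
    (hD : BlowUp.IsEffCartierIdeal D)
    (hQ1 : Module.finrank k (Coh.HH X (ClSub.quotMod D) 0) = 1)
    (L : X.Modules) (hL : PicF.IsInvertible L)
    (τ : Coh.structureModule X ⟶ ((idealSeq D).map (DCoh.tensorBi.obj L)).X₂) (U : X.Opens)
    (hUiso : IsIso ((Scheme.Modules.restrictFunctor U.ι).map τ))
    (hsupp : (D.support : Set X) ⊆ (U : Set X)) :
    τ ≫ ((idealSeq D).map (DCoh.tensorBi.obj L)).g ≠ 0 := by
  intro h0
  have hL1 : FlatMod.IsFinLocFreeOfRank 1 L :=
    Groth.Agent.Lib.Helper23.SecTw.isFinLocFreeOfRank_one_of_isInvertible L hL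
  obtain ⟨hS, c₁, c₂, c₃, h₃⟩ := twist_seq_facts k X hdim D hD 1 L hL1
  have hz := isZero_X₃_of_comp_eq_zero D L hS τ U hUiso hsupp h0
  haveI := Groth.Agent.Lib.R2H2.KoszulShift.subsingleton_HH_of_isZero hz 0
  rw [Module.finrank_zero_of_subsingleton, hQ1] at h₃
  simp at h₃

/-- twisting down by a degree-one effective Cartier divisor near which some section generates
drops `h⁰` by exactly one -/
theorem twist_eq_of_section (hdim : topologicalKrullDim X ≤ 1) (D : X.IdealSheafData)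
    (hD : BlowUp.IsEffCartierIdeal D)
    (hQ1 : Module.finrank k (Coh.HH X (ClSub.quotMod D) 0) = 1)
    (L : X.Modules) (hL : PicF.IsInvertible L)
    (s : Coh.structureModule X ⟶ L) (U : X.Opens)
    (hUiso : IsIso ((Scheme.Modules.restrictFunctor U.ι).map s))
    (hsupp : (D.support : Set X) ⊆ (U : Set X)) :
    Module.finrank k (Coh.HH X (CohB1.tensorMod L (ClSub.idealMod D)) 0) + 1 =
      Module.finrank k (Coh.HH X L 0) := by
  haveI := isNoetherian_of_proper k X
  have hL1 : FlatMod.IsFinLocFreeOfRank 1 L :=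
    Groth.Agent.Lib.Helper23.SecTw.isFinLocFreeOfRank_one_of_isInvertible L hL
  obtain ⟨hS, c₁, c₂, c₃, h₃⟩ := twist_seq_facts k X hdim D hD 1 L hL1
  obtain ⟨hb1, hb2⟩ := twist_bounds k X hdim D hD 1 L hL1
  rw [hQ1] at hb2
  have eU : ((idealSeq D).map (DCoh.tensorBi.obj L)).X₂ ≅ L :=
    Groth.Agent.Lib.Helper21.Dual.rU X.sheaf L
  obtain ⟨σ, hσ⟩ : ∃ σ : Coh.structureModule X ⟶ ((idealSeq D).map (DCoh.tensorBi.obj L)).X₂,
      σ = s ≫ eU.inv := ⟨_, rfl⟩
  have hσiso : IsIso ((Scheme.Modules.restrictFunctor U.ι).map σ) := by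
    haveI := hUiso
    rw [hσ, Functor.map_comp]
    infer_instance
  have hne := comp_g_ne_zero k X hdim D hD hQ1 L hL σ U hσiso hsupp
  have hnot : cls σ ∉
      LinearMap.range (HmapA k ((idealSeq D).map (DCoh.tensorBi.obj L)).f 0) := by
    rintro ⟨y, hy⟩
    have h2 : HmapL ((idealSeq D).map (DCoh.tensorBi.obj L)).g 0 (cls σ) = 0 := by
      have h := congrArg (HmapL ((idealSeq D).map (DCoh.tensorBi.obj L)).g 0) hy.symm
      refine h.trans ?_
      show HmapL ((idealSeq D).map (DCoh.tensorBi.obj L)).g 0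
        (HmapL ((idealSeq D).map (DCoh.tensorBi.obj L)).f 0 y) = 0
      rw [← HmapL_comp, ((idealSeq D).map (DCoh.tensorBi.obj L)).zero, HmapL_zero]
    rw [cls_comp] at h2
    exact hne (eq_zero_of_cls _ h2)
  haveI := finite_HH k X _ c₂ 0
  haveI := finite_HH k X _ c₁ 0
  have hinj : Function.Injective (HmapA k ((idealSeq D).map (DCoh.tensorBi.obj L)).f 0) :=
    injective_f_zero k _ hS
  have hlt : Module.finrank k (Coh.HH X ((idealSeq D).map (DCoh.tensorBi.obj L)).X₁ 0) <
      Module.finrank k (Coh.HH X ((idealSeq D).map (DCoh.tensorBi.obj L)).X₂ 0) := by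
    rw [← LinearMap.finrank_range_of_inj hinj]
    apply Submodule.finrank_lt
    intro htop
    exact hnot (by rw [htop]; exact Submodule.mem_top)
  have hX₂ : Module.finrank k (Coh.HH X ((idealSeq D).map (DCoh.tensorBi.obj L)).X₂ 0) =
      Module.finrank k (Coh.HH X L 0) :=
    Groth.Agent.Lib.R2H2.ClosedPnLin.finrank_HH_of_iso k eU 0
  have hX₁ : Module.finrank k (Coh.HH X ((idealSeq D).map (DCoh.tensorBi.obj L)).X₁ 0) =
      Module.finrank k (Coh.HH X (CohB1.tensorMod L (ClSub.idealMod D)) 0) := rfl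
  rw [hX₂, hX₁] at hlt
  omega

end Part3

section Part4


open Groth.Agent.Lib.R2H1.DegCartier Groth.Agent.Lib.R2H1.SkyDecomp Groth.Agent.Lib.R2H2.DevA
open Groth.Agent.Lib.Helper21.ModTensor Groth.Agent.Lib.Helper21.ModTensor2
open Groth.Agent.Lib.Helper21.ModTensor5 Groth.Agent.Lib.Helper21.ModTensor6
open Groth.Agent.Lib.Helper21.ModTensor7 Groth.Agent.Lib.Helper21.ModTensor3
open Groth.Agent.Lib.R2H1.RegPoint Groth.Agent.Lib.R2H1.CurveEuler Groth.Agent.Lib.R2H1.CurveDegSec
  Groth.Agent.Lib.R2H1.EulerAdd Groth.Agent.Lib.R2H2.HHLin Groth.Agent.Lib.R2H2.PnLinRes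
  Groth.Agent.Lib.R2H1.GenusZero Groth.Agent.Lib.R2H1.DegNonpos Groth.Agent.Lib.R2H1.NonSpecial
  Groth.Agent.Lib.R2H1.LiftZero

variable (k : Type u) [Field k] [IsAlgClosed k] (X : Scheme.{u}) [X.Over (Spec (CommRingCat.of k))]
    [IsIntegral X] [IsProper (X ↘ (Spec (CommRingCat.of k)))]

include k in
/-- the local ring of a regular curve at a closed point is a DVR -/
theorem isDVR_of_closed (hdim : topologicalKrullDim X = 1)
    (hreg : ∀ x : X, IsRegularLocalRing (X.presheaf.stalk x))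
    (P : X) (hP : IsClosed ({P} : Set X)) : IsDiscreteValuationRing (X.presheaf.stalk P) := by
  haveI := hreg P
  exact Groth.Agent.Lib.R2LeadSmoothPSB.isDVR_of_regular_dim_one _
    (Groth.Agent.Lib.Helper8CurveEt.ringKrullDim_stalk_eq_one hdim P hP)

include k in
/-- the ideal of a closed point of a regular curve is effective Cartier -/
theorem point_isEffCartier (hdim : topologicalKrullDim X = 1)
    (hreg : ∀ x : X, IsRegularLocalRing (X.presheaf.stalk x))
    (P : X) (hP : IsClosed ({P} : Set X)) :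
    BlowUp.IsEffCartierIdeal (Scheme.IdealSheafData.vanishingIdeal ⟨{P}, hP⟩) := by
  haveI := isNoetherian_of_proper k X
  haveI := isDVR_of_closed k X hdim hreg P hP
  exact isEffCartier_vanishingIdeal_singleton X P hP

/-- `h⁰(G(-P)) ≤ h⁰(G) ≤ h⁰(G(-P)) + rank G` -/
theorem h0_point_twist_bounds (hdim : topologicalKrullDim X = 1)
    (hreg : ∀ x : X, IsRegularLocalRing (X.presheaf.stalk x))
    (n : ℕ) (G : X.Modules) (hG : FlatMod.IsFinLocFreeOfRank n G)
    (P : X) (hP : IsClosed ({P} : Set X)) :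
    Module.finrank k (Coh.HH X (CohB1.tensorMod G (ClSub.idealMod
        (Scheme.IdealSheafData.vanishingIdeal ⟨{P}, hP⟩))) 0) ≤ Module.finrank k (Coh.HH X G 0) ∧
    Module.finrank k (Coh.HH X G 0) ≤
      Module.finrank k (Coh.HH X (CohB1.tensorMod G (ClSub.idealMod
        (Scheme.IdealSheafData.vanishingIdeal ⟨{P}, hP⟩))) 0) + n := by
  have h := twist_bounds k X hdim.le _ (point_isEffCartier k X hdim hreg P hP) n G hG
  rw [finrank_H0_quotMod_point k X P hP, mul_one] at h
  exact h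

/-- twisting down by a closed point where a section generates drops `h⁰` by one -/
theorem h0_point_twist_of_mem_genLocus (hdim : topologicalKrullDim X = 1)
    (hreg : ∀ x : X, IsRegularLocalRing (X.presheaf.stalk x))
    (L : X.Modules) (hL : PicF.IsInvertible L) (s : Coh.structureModule X ⟶ L)
    (P : X) (hP : IsClosed ({P} : Set X)) (hPs : P ∈ CohB1.genLocus L s) :
    Module.finrank k (Coh.HH X (CohB1.tensorMod L (ClSub.idealMod
        (Scheme.IdealSheafData.vanishingIdeal ⟨{P}, hP⟩))) 0) + 1 =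
      Module.finrank k (Coh.HH X L 0) := by
  obtain ⟨U, hUiso, hxU⟩ : ∃ U : X.Opens,
      IsIso ((Scheme.Modules.restrictFunctor U.ι).map s) ∧ P ∈ U := by
    obtain ⟨U, h, hx⟩ := Opens.mem_sSup.mp hPs
    exact ⟨U, h, hx⟩
  have hsupp : ((Scheme.IdealSheafData.vanishingIdeal ⟨{P}, hP⟩).support : Set X) ⊆
      (U : Set X) := by
    intro y hy
    have : y = P := hy
    rw [this]
    exact hxU
  exact twist_eq_of_section k X hdim.le _ (point_isEffCartier k X hdim hreg P hP)
    (finrank_H0_quotMod_point k X P hP) L hL s U hUiso hsupp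

/-- if `h⁰` drops on twisting down by a closed point then some section generates there -/
theorem exists_mem_genLocus_of_h0_lt (hdim : topologicalKrullDim X = 1)
    (hreg : ∀ x : X, IsRegularLocalRing (X.presheaf.stalk x))
    (L : X.Modules) (hL : PicF.IsInvertible L)
    (P : X) (hP : IsClosed ({P} : Set X))
    (hlt : Module.finrank k (Coh.HH X (CohB1.tensorMod L (ClSub.idealMod
        (Scheme.IdealSheafData.vanishingIdeal ⟨{P}, hP⟩))) 0) <
      Module.finrank k (Coh.HH X L 0)) :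
    ∃ s : Coh.structureModule X ⟶ L, P ∈ CohB1.genLocus L s := by
  haveI := isNoetherian_of_proper k X
  by_contra hcon
  push_neg at hcon
  have hL1 : FlatMod.IsFinLocFreeOfRank 1 L :=
    Groth.Agent.Lib.Helper23.SecTw.isFinLocFreeOfRank_one_of_isInvertible L hL
  have hD := point_isEffCartier k X hdim hreg P hP
  obtain ⟨hS, c₁, c₂, c₃, h₃⟩ := twist_seq_facts k X hdim.le _ hD 1 L hL1
  haveI := finite_HH k X _ c₂ 0
  haveI := finite_HH k X _ c₁ 0
  have hsurj : Function.Surjective (HmapA k ((idealSeq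
      (Scheme.IdealSheafData.vanishingIdeal ⟨{P}, hP⟩)).map (DCoh.tensorBi.obj L)).f 0) := by
    intro x₂
    obtain ⟨τ, hτ⟩ := cls_surjective _ x₂
    have hvan := exists_vanishing_data L hL (τ ≫ (SecTwist.unitorR L).hom) P hP (hcon _)
    obtain ⟨σ', hσ'⟩ := exists_lift (Scheme.IdealSheafData.vanishingIdeal ⟨{P}, hP⟩) L hS
      (τ ≫ (SecTwist.unitorR L).hom) (fun x hx => by
        have hxP : x = P := hx
        rw [hxP]
        exact hvan)
    have hτ' : (τ ≫ (SecTwist.unitorR L).hom) ≫ (SecTwist.unitorR L).inv = τ := by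
      rw [Category.assoc]
      exact (congrArg (fun z => τ ≫ z) (SecTwist.unitorR L).hom_inv_id).trans
        (Category.comp_id τ)
    rw [hτ'] at hσ'
    refine ⟨cls σ', ?_⟩
    rw [HmapA_apply, cls_comp, hσ', hτ]
  have hinj : Function.Injective (HmapA k ((idealSeq
      (Scheme.IdealSheafData.vanishingIdeal ⟨{P}, hP⟩)).map (DCoh.tensorBi.obj L)).f 0) :=
    injective_f_zero k _ hS
  have heq := LinearEquiv.finrank_eq (LinearEquiv.ofBijective _ ⟨hinj, hsurj⟩)
  have hX₂ : Module.finrank k (Coh.HH X ((idealSeq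
      (Scheme.IdealSheafData.vanishingIdeal ⟨{P}, hP⟩)).map (DCoh.tensorBi.obj L)).X₂ 0) =
      Module.finrank k (Coh.HH X L 0) :=
    Groth.Agent.Lib.R2H2.ClosedPnLin.finrank_HH_of_iso k
      (Groth.Agent.Lib.Helper21.Dual.rU X.sheaf L) 0
  have hX₁ : Module.finrank k (Coh.HH X ((idealSeq
      (Scheme.IdealSheafData.vanishingIdeal ⟨{P}, hP⟩)).map (DCoh.tensorBi.obj L)).X₁ 0) =
      Module.finrank k (Coh.HH X (CohB1.tensorMod L (ClSub.idealMod
        (Scheme.IdealSheafData.vanishingIdeal ⟨{P}, hP⟩))) 0) := rfl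
  rw [hX₂, hX₁] at heq
  omega

end Part4

section Part5


open Groth.Agent.Lib.R2H1.DegCartier Groth.Agent.Lib.R2H1.SkyDecomp Groth.Agent.Lib.R2H2.DevA
open Groth.Agent.Lib.R2H1.RegPoint Groth.Agent.Lib.R2H1.CurveEuler Groth.Agent.Lib.R2H1.CurveDegSec
  Groth.Agent.Lib.R2H1.EulerAdd Groth.Agent.Lib.R2H2.HHLin Groth.Agent.Lib.R2H2.PnLinRes
  Groth.Agent.Lib.R2H1.GenusZero Groth.Agent.Lib.R2H1.DegNonpos Groth.Agent.Lib.R2H1.NonSpecial
  Groth.Agent.Lib.R2H1.LiftZero Groth.Agent.Lib.R2H1.ZeroDimCoh Groth.Agent.Lib.R2H1.GenusLe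

variable (k : Type u) [Field k] [IsAlgClosed k] (X : Scheme.{u}) [X.Over (Spec (CommRingCat.of k))]
    [IsIntegral X] [IsProper (X ↘ (Spec (CommRingCat.of k)))]

include k in
/-- a non-closed point of an integral proper curve lies in every nonempty open -/
theorem mem_open_of_not_isClosed (hdim : topologicalKrullDim X = 1) (W : X.Opens)
    (hW : (W : Set X).Nonempty) (x : X) (hx : ¬ IsClosed ({x} : Set X)) : x ∈ W := by
  haveI := isNoetherian_of_proper k X
  by_contra hxW
  have hdense : Dense (W : Set X) := W.isOpen.dense hW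
  have hZdim := dim_compl_le_zero_of_dense X hdim.le W hdense
  have hZcl : IsClosed ((W : Set X)ᶜ) := W.isOpen.isClosed_compl
  exact hx (isClosed_of_subset_of_dim_le_zero _ hZcl hZdim {x}
    (Set.singleton_subset_iff.mpr hxW))

theorem s11330 (hdim : topologicalKrullDim X = 1)
    (hreg : ∀ x : X, IsRegularLocalRing (X.presheaf.stalk x)) (L : X.Modules)
    (hL : PicF.IsInvertible L) :
    Curv2.IsGloballyGenerated L ↔
      ∀ (P : X) (hP : IsClosed ({P} : Set X)),
        Module.finrank k (Coh.HH X (CohB1.tensorMod L (ClSub.idealMod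
          (Scheme.IdealSheafData.vanishingIdeal ⟨{P}, hP⟩))) 0) + 1 =
          Module.finrank k (Coh.HH X L 0) := by
  haveI := isNoetherian_of_proper k X
  constructor
  · intro hgg P hP
    obtain ⟨t, ht⟩ := Groth.Agent.Lib.Helper23.GG.exists_section_mem_genLocus L hL hgg P
    exact h0_point_twist_of_mem_genLocus k X hdim hreg L hL t P hP ht
  · intro h
    apply Groth.Agent.Lib.Helper23.SecTw.isGloballyGenerated_of_forall_mem_genLocus
    intro x
    by_cases hx : IsClosed ({x} : Set X)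
    · exact exists_mem_genLocus_of_h0_lt k X hdim hreg L hL x hx (by have := h x hx; omega)
    · haveI : CompactSpace X :=
        QuasiCompact.compactSpace_of_compactSpace (X ↘ Spec (CommRingCat.of k))
      obtain ⟨P, -, hPc⟩ := isClosed_univ.exists_closed_singleton
        (Set.univ_nonempty (α := X))
      have cL := isCoh_of_isInvertible L hL
      obtain ⟨s, hs⟩ := exists_section_of_pos k X L cL (by have := h P hPc; omega)
      have hW : ((CohB1.genLocus L s : X.Opens) : Set X).Nonempty := by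
        by_contra hne
        apply hs
        apply eq_zero_of_genLocus_eq_bot L hL s
        ext y
        simp only [Opens.coe_bot, Set.mem_empty_iff_false, iff_false]
        exact fun hy => hne ⟨y, hy⟩
      exact ⟨s, mem_open_of_not_isClosed k X hdim _ hW x hx⟩

end Part5

section Part6


open Groth.Agent.Lib.R2H1.DegCartier Groth.Agent.Lib.R2H1.SkyDecomp Groth.Agent.Lib.R2H2.DevA
open Groth.Agent.Lib.Helper21.ModTensor Groth.Agent.Lib.Helper21.ModTensor2
open Groth.Agent.Lib.Helper21.ModTensor5 Groth.Agent.Lib.Helper21.ModTensor6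
open Groth.Agent.Lib.Helper21.ModTensor7 Groth.Agent.Lib.Helper21.ModTensor3
open Groth.Agent.Lib.R2H1.RegPoint Groth.Agent.Lib.R2H1.CurveEuler Groth.Agent.Lib.R2H1.CurveDegSec
  Groth.Agent.Lib.R2H1.EulerAdd Groth.Agent.Lib.R2H2.HHLin Groth.Agent.Lib.R2H2.PnLinRes
  Groth.Agent.Lib.R2H1.GenusZero Groth.Agent.Lib.R2H1.DegNonpos Groth.Agent.Lib.R2H1.NonSpecial
  Groth.Agent.Lib.R2H1.LiftZero Groth.Agent.Lib.R2H1.ZeroDimCoh Groth.Agent.Lib.R2H1.GenusLe
  Groth.Agent.Lib.R2H1.CurveAmple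

variable (k : Type u) [Field k] [IsAlgClosed k] (X : Scheme.{u}) [X.Over (Spec (CommRingCat.of k))]
    [IsIntegral X] [IsProper (X ↘ (Spec (CommRingCat.of k)))]

include k in
/-- the locus where a nonzero section of an invertible module generates is nonempty -/
theorem genLocus_nonempty (L : X.Modules) (hL : PicF.IsInvertible L)
    (s : Coh.structureModule X ⟶ L) (hs : s ≠ 0) :
    ((CohB1.genLocus L s : X.Opens) : Set X).Nonempty := by
  by_contra hne
  apply hs
  apply eq_zero_of_genLocus_eq_bot L hL s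
  ext y
  simp only [Opens.coe_bot, Set.mem_empty_iff_false, iff_false]
  exact fun hy => hne ⟨y, hy⟩

include k in
/-- a closed point where two given nonzero sections both generate -/
theorem exists_closed_mem_genLocus₂ (hdim : topologicalKrullDim X = 1)
    (L L' : X.Modules) (hL : PicF.IsInvertible L) (hL' : PicF.IsInvertible L')
    (v : Coh.structureModule X ⟶ L) (hv : v ≠ 0) (w : Coh.structureModule X ⟶ L') (hw : w ≠ 0) :
    ∃ p : X, IsClosed ({p} : Set X) ∧ p ∈ CohB1.genLocus L v ∧ p ∈ CohB1.genLocus L' w := by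
  obtain ⟨a, ha⟩ := genLocus_nonempty k X L hL v hv
  obtain ⟨b, hb⟩ := genLocus_nonempty k X L' hL' w hw
  have hW : ((CohB1.genLocus L v ⊓ CohB1.genLocus L' w : X.Opens) : Set X).Nonempty := by
    refine ⟨genericPoint X, ?_, ?_⟩
    · exact (genericPoint_spec X).specializes (Set.mem_univ a) |>.mem_open
        (CohB1.genLocus L v).isOpen ha
    · exact (genericPoint_spec X).specializes (Set.mem_univ b) |>.mem_open
        (CohB1.genLocus L' w).isOpen hb
  obtain ⟨p, hpW, hpc, -⟩ := exists_closed_dvr_mem_open k X (X ↘ Spec (CommRingCat.of k))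
    hdim _ hW
  exact ⟨p, hpc, hpW.1, hpW.2⟩

theorem h0_add_le_aux (hdim : topologicalKrullDim X = 1)
    (hreg : ∀ x : X, IsRegularLocalRing (X.presheaf.stalk x)) :
    ∀ (n : ℕ) (L L' : X.Modules), PicF.IsInvertible L → PicF.IsInvertible L' →
      1 ≤ Module.finrank k (Coh.HH X L 0) → Module.finrank k (Coh.HH X L' 0) = n + 1 →
      Module.finrank k (Coh.HH X L 0) + (n + 1) ≤
        Module.finrank k (Coh.HH X (CohB1.tensorMod L L') 0) + 1 := by
  haveI := isNoetherian_of_proper k X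
  intro n
  induction n with
  | zero =>
    intro L L' hL hL' h1 h0
    have cL' := isCoh_of_isInvertible L' hL'
    obtain ⟨w, hw⟩ := exists_section_of_pos k X L' cL' (by rw [h0]; omega)
    have hP : PicF.IsInvertible (CohB1.tensorMod L L') :=
      Groth.Agent.Lib.Helper23.SecTw.isInvertible_tensorMod hL hL'
    have hφ := mulSec_ne_zero L hL hL' w hw
    haveI : Mono (mulSec L w) := Groth.Agent.Lib.R2H1.InvHom.mono_of_ne_zero hL hP _ hφ
    have := Groth.Agent.Lib.R2H1.VBHSemi.h0_le_of_mono k X (isCoh_of_isInvertible _ hP) (mulSec L w)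
    omega
  | succ n ih =>
    intro L L' hL hL' h1 h0
    have cL := isCoh_of_isInvertible L hL
    have cL' := isCoh_of_isInvertible L' hL'
    obtain ⟨v, hv⟩ := exists_section_of_pos k X L cL (by omega)
    obtain ⟨w, hw⟩ := exists_section_of_pos k X L' cL' (by rw [h0]; omega)
    obtain ⟨p, hpc, hpv, hpw⟩ := exists_closed_mem_genLocus₂ k X hdim L L' hL hL' v hv w hw
    have hI : PicF.IsInvertible (ClSub.idealMod (Scheme.IdealSheafData.vanishingIdeal ⟨{p}, hpc⟩)) :=
      Groth.Agent.Helper18Cart.isInvertible_of_isEffCartier _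
        (point_isEffCartier k X hdim hreg p hpc)
    have hL'' : PicF.IsInvertible (CohB1.tensorMod L' (ClSub.idealMod
        (Scheme.IdealSheafData.vanishingIdeal ⟨{p}, hpc⟩))) :=
      Groth.Agent.Lib.Helper23.SecTw.isInvertible_tensorMod hL' hI
    have hP : PicF.IsInvertible (CohB1.tensorMod L L') :=
      Groth.Agent.Lib.Helper23.SecTw.isInvertible_tensorMod hL hL'
    have e1 := h0_point_twist_of_mem_genLocus k X hdim hreg L' hL' w p hpc hpw
    have hpvw : p ∈ CohB1.genLocus (CohB1.tensorMod L L') (SecTwist.tmulHom v w) := by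
      rw [Groth.Agent.Lib.Helper23.SecTw.genLocus_tmulHom hL hL']
      exact ⟨hpv, hpw⟩
    have e2 := h0_point_twist_of_mem_genLocus k X hdim hreg _ hP (SecTwist.tmulHom v w) p hpc hpvw
    have e : CohB1.tensorMod (CohB1.tensorMod L L') (ClSub.idealMod
        (Scheme.IdealSheafData.vanishingIdeal ⟨{p}, hpc⟩)) ≅
        CohB1.tensorMod L (CohB1.tensorMod L' (ClSub.idealMod
        (Scheme.IdealSheafData.vanishingIdeal ⟨{p}, hpc⟩))) :=
      (tLTensorIso X.sheaf L L').app _
    have e3 := Groth.Agent.Lib.R2H2.ClosedPnLin.finrank_HH_of_iso k e 0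
    have := ih L _ hL hL'' h1 (by omega)
    omega

theorem s11352 (hdim : topologicalKrullDim X = 1)
    (hreg : ∀ x : X, IsRegularLocalRing (X.presheaf.stalk x))
    (L L' : X.Modules) (hL : PicF.IsInvertible L) (hL' : PicF.IsInvertible L')
    (hs : Nontrivial (Coh.HH X L 0)) (hs' : Nontrivial (Coh.HH X L' 0)) :
    Module.finrank k (Coh.HH X L 0) + Module.finrank k (Coh.HH X L' 0) ≤
      Module.finrank k (Coh.HH X (CohB1.tensorMod L L') 0) + 1 := by
  haveI := isNoetherian_of_proper k X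
  haveI := finite_HH k X _ (isCoh_of_isInvertible L hL) 0
  haveI := finite_HH k X _ (isCoh_of_isInvertible L' hL') 0
  have h1 : 1 ≤ Module.finrank k (Coh.HH X L 0) := Module.finrank_pos
  have h2 : 1 ≤ Module.finrank k (Coh.HH X L' 0) := Module.finrank_pos
  obtain ⟨n, hn⟩ : ∃ n, Module.finrank k (Coh.HH X L' 0) = n + 1 := ⟨_, (Nat.sub_add_cancel h2).symm⟩
  have := h0_add_le_aux k X hdim hreg n L L' hL hL' h1 hn
  omega

end Part6

section Part7


open Groth.Agent.Lib.R2H1.DegCartier Groth.Agent.Lib.R2H1.SkyDecomp Groth.Agent.Lib.R2H2.DevA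
open Groth.Agent.Lib.R2H1.RegPoint Groth.Agent.Lib.R2H1.CurveEuler Groth.Agent.Lib.R2H1.CurveDegSec
  Groth.Agent.Lib.R2H1.EulerAdd Groth.Agent.Lib.R2H2.HHLin Groth.Agent.Lib.R2H2.PnLinRes
  Groth.Agent.Lib.R2H1.GenusZero Groth.Agent.Lib.R2H1.DegNonpos Groth.Agent.Lib.R2H1.NonSpecial
  Groth.Agent.Lib.R2H1.LiftZero Groth.Agent.Lib.R2H1.ZeroDimCoh Groth.Agent.Lib.R2H1.GenusLe
  Groth.Agent.Lib.R2H1.CurveAmple

variable (k : Type u) [Field k] [IsAlgClosed k] (X : Scheme.{u}) [X.Over (Spec (CommRingCat.of k))]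
    [IsIntegral X] [IsProper (X ↘ (Spec (CommRingCat.of k)))]

/-- `h⁰(L^n) ≥ n (h⁰(L) - 1) + 1` -/
theorem h0_tensorPow_ge (hdim : topologicalKrullDim X = 1)
    (hreg : ∀ x : X, IsRegularLocalRing (X.presheaf.stalk x))
    (L : X.Modules) (hL : PicF.IsInvertible L) (h : ℕ)
    (hh : Module.finrank k (Coh.HH X L 0) = h + 1) :
    ∀ n : ℕ, n * h + 1 ≤ Module.finrank k (Coh.HH X (CohB1.tensorPow L n) 0) := by
  haveI := isNoetherian_of_proper k X
  intro n
  induction n with
  | zero =>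
    have : Module.finrank k (Coh.HH X (CohB1.tensorPow L 0) 0) = 1 :=
      finrank_H0_structure_eq_one k X
    omega
  | succ n ih =>
    have hP := Groth.Agent.Lib.Helper23.SecTw.isInvertible_tensorPow hL n
    have h1 := h0_add_le_aux k X hdim hreg h (CohB1.tensorPow L n) L hP hL (by omega) hh
    have e : CohB1.tensorPow L (n + 1) = CohB1.tensorMod (CohB1.tensorPow L n) L := rfl
    rw [e]
    have : (n + 1) * h = n * h + h := by ring
    omega

/-- `deg (L^n) = n deg L` -/
theorem deg_tensorPow (hdim : topologicalKrullDim X = 1)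
    (L : X.Modules) (hL : PicF.IsInvertible L) :
    ∀ n : ℕ, Curv2.deg k X (CohB1.tensorPow L n) 1 = n * Curv2.deg k X L 1 := by
  intro n
  induction n with
  | zero =>
    have e : CohB1.tensorPow L 0 = Coh.structureModule X := rfl
    rw [e]
    unfold Curv2.deg
    simp
  | succ n ih =>
    have hP := Groth.Agent.Lib.Helper23.SecTw.isInvertible_tensorPow hL n
    have e : CohB1.tensorPow L (n + 1) = CohB1.tensorMod (CohB1.tensorPow L n) L := rfl
    rw [e, Groth.Agent.Lib.R2H1.VBIndecTwo.deg_tensor_invertible k X hdim hP hL, ih]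
    push_cast
    ring

/-- on a regular curve of positive genus, `h⁰(L) ≤ deg L` for `deg L > 0` -/
theorem h0_le_deg (hdim : topologicalKrullDim X = 1)
    (hreg : ∀ x : X, IsRegularLocalRing (X.presheaf.stalk x))
    (hg : 1 ≤ Curv2.genus k X) (L : X.Modules) (hL : PicF.IsInvertible L)
    (hdeg : 0 < Curv2.deg k X L 1) :
    (Module.finrank k (Coh.HH X L 0) : ℤ) ≤ Curv2.deg k X L 1 := by
  haveI := isNoetherian_of_proper k X
  by_contra hcon
  push_neg at hcon
  obtain ⟨h, hh⟩ : ∃ h : ℕ, Module.finrank k (Coh.HH X L 0) = h + 1 := by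
    refine ⟨Module.finrank k (Coh.HH X L 0) - 1, ?_⟩
    have : 1 ≤ Module.finrank k (Coh.HH X L 0) := by omega
    omega
  have hhd : Curv2.deg k X L 1 ≤ (h : ℤ) := by rw [hh] at hcon; push_cast at hcon; omega
  obtain ⟨N, hN⟩ : ∃ N : ℕ, N = 2 * Curv2.genus k X := ⟨_, rfl⟩
  have hPN := Groth.Agent.Lib.Helper23.SecTw.isInvertible_tensorPow hL N
  have cPN := isCoh_of_isInvertible _ hPN
  have h1 := h0_tensorPow_ge k X hdim hreg L hL h hh N
  have h2 := deg_tensorPow k X hdim L hL N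
  have hNpos : (1 : ℤ) ≤ N := by rw [hN]; push_cast; omega
  have hdN : 2 * (Curv2.genus k X : ℤ) - 1 ≤ Curv2.deg k X (CohB1.tensorPow L N) 1 := by
    rw [h2]
    have : (N : ℤ) * 1 ≤ N * Curv2.deg k X L 1 :=
      mul_le_mul_of_nonneg_left (by omega) (by omega)
    have hN' : (N : ℤ) = 2 * Curv2.genus k X := by rw [hN]; push_cast; ring
    omega
  haveI := s1522 k X hdim _ hPN hdN
  have e2 := euler_eq_h0_sub_h1 k X hdim.le _ cPN.1
  have e4 : Module.finrank k (Coh.HH X (CohB1.tensorPow L N) 1) = 0 :=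
    Module.finrank_zero_of_subsingleton
  have χO := euler_structure k X hdim
  have hd : Curv2.deg k X (CohB1.tensorPow L N) 1 =
      Curv2.euler k X (CohB1.tensorPow L N) - 1 * Curv2.euler k X (Coh.structureModule X) := by
    unfold Curv2.deg; simp
  have h3 : (N : ℤ) * Curv2.deg k X L 1 ≤ N * h :=
    mul_le_mul_of_nonneg_left hhd (by omega)
  have h1' : ((N * h + 1 : ℕ) : ℤ) ≤ Module.finrank k (Coh.HH X (CohB1.tensorPow L N) 0) := by
    exact_mod_cast h1
  push_cast at h1'
  rw [e4] at e2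
  have hg' : (1 : ℤ) ≤ Curv2.genus k X := by exact_mod_cast hg
  push_cast at e2
  linarith

end Part7

end Groth.Agent.Lib.R2H1.PointTwist
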