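import Mathlib
import Groth.Agent.Lib.R2H1DegPullback
import Groth.Agent.Lib.R2H1P1Inter
import Groth.Agent.Lib.R2H1PLineA
import Groth.Agent.Lib.R2H4BirIso
import Groth.Agent.Lib.Helper27ProjDim
import Groth.Agent.S10829
import Groth.Agent.Lib.R2H1VBSub
import Groth.Agent.Lib.R2H1CurveLinSeries
import Groth.Agent.Lib.R2H3VAmpleMor
import Groth.Agent.Lib.R2H1PointTwist
set_option backward.isDefEq.respectTransparency.types false

/-!
A proper integral curve over a field with a degree one invertible sheaf generated by two sections is isomorphic to the projective line.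
-/

set_option autoImplicit false
set_option linter.style.haveILetI false
set_option linter.unusedSectionVars false
universe u v

open CategoryTheory CategoryTheory.Limits AlgebraicGeometry TopologicalSpace Opposite

namespace Groth.Agent.Lib.R2H1.IsoP1

section Part1

variable (k : Type u) [Field k]

theorem isIntegral_P1k : IsIntegral (CohB1.ProjSpace 1 k) :=
  Groth.Agent.Lib.R2H1.PLineA.isIntegral_projSpace 1 k

theorem dim_P1k : topologicalKrullDim (CohB1.ProjSpace 1 k) = 1 := by
  have h := Groth.Agent.S10829.result k 1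
  rw [h]; rfl

theorem isProper_P1k : IsProper ((CohB1.ProjSpace 1 k) ↘ Spec (CommRingCat.of k)) :=
  Groth.Agent.S9705.isProper_projSpace_toSpec 1 k

/-- the projective line over a field is a normal scheme -/
theorem isNormalScheme_P1k : Pi1.IsNormalScheme (CohB1.ProjSpace 1 k) := by
  haveI := isIntegral_P1k k
  intro x
  haveI : Smooth (CohB1.ProjSpace.toSpec 1 k) := Groth.Agent.Lib.R2H1.P1Inter.smooth_toSpec 1 k
  haveI : IsRegularLocalRing ((CohB1.ProjSpace 1 k).presheaf.stalk x) :=
    Groth.Agent.Lib.Helper6.SmRegSch.isRegularLocalRing_stalk_of_smooth_over_field k _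
      (CohB1.ProjSpace.toSpec 1 k) x
  haveI : IsDomain ((CohB1.ProjSpace 1 k).presheaf.stalk x) := inferInstance
  have hle : ringKrullDim ((CohB1.ProjSpace 1 k).presheaf.stalk x) ≤ 1 :=
    (Groth.Agent.Lib.Helper4.FibDim.ringKrullDim_stalk_le_topologicalKrullDim _ x).trans
      (dim_P1k k).le
  haveI := Groth.Agent.Lib.R2H1.VBSub.isPrincipalIdealRing_of_regular_dim_le_one _ hle
  exact ⟨inferInstance, inferInstance⟩

end Part1

section Part2


open Groth.Agent.Lib.Helper23.SecTw Groth.Agent.Lib.Helper23.GenLocus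
  Groth.Agent.Lib.Helper23.Extend Groth.Agent.Lib.Helper6
open Groth.Agent.Lib.R2H1.CurveDegSec Groth.Agent.Lib.R2H1.CurveEuler Groth.Agent.Lib.R2H1.DegCartier
open Groth.Agent.Lib.R2H1.CurveAmple Groth.Agent.Lib.R2H1.GenusLe
open Groth.Agent.Lib.R2H1.DegPullback Groth.Agent.Lib.R2H1.PointTwist

variable (k : Type u) [Field k] (X : Scheme.{u}) [X.Over (Spec (CommRingCat.of k))]
    [IsIntegral X] [IsProper (X ↘ (Spec (CommRingCat.of k)))]

/-- an integral proper curve carrying an invertible module of degree one generated by two global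
sections is isomorphic to the projective line -/
theorem exists_iso_P1 (hdim : topologicalKrullDim X = 1) (L : X.Modules)
    (hL : PicF.IsInvertible L) (hdeg : Curv2.deg k X L 1 = 1)
    (t₀ t₁ : Coh.structureModule X ⟶ L)
    (hcov : ∀ x : X, x ∈ CohB1.genLocus L t₀ ∨ x ∈ CohB1.genLocus L t₁) :
    ∃ e : X ≅ CohB1.ProjSpace 1 k,
      e.hom ≫ CohB1.ProjSpace.toSpec 1 k = X ↘ (Spec (CommRingCat.of k)) := by
  haveI := isNoetherian_of_proper k X
  haveI := isIntegral_P1k k
  haveI := isProper_P1k k
  have hdimP := dim_P1k k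
  haveI := isNoetherian_of_proper k (CohB1.ProjSpace 1 k)
  -- the two sections generate
  obtain ⟨s, hs0, hs1⟩ : ∃ s : Fin (1 + 1) → ProjUP.Γm L, s 0 = sv t₀ ⊤ ∧ s 1 = sv t₁ ⊤ :=
    ⟨![sv t₀ ⊤, sv t₁ ⊤], rfl, rfl⟩
  have hs : ProjUP.GeneratedBy L s := by
    refine Groth.Agent.Lib.R2H3.VAmpleMor.generatedBy_of_cover L s (fun x => ?_)
    rcases hcov x with h | h
    · exact ⟨0, by rw [hs0, Groth.Agent.Lib.R2H3.VAmpleMor.secHom_sv]; exact h⟩
    · exact ⟨1, by rw [hs1, Groth.Agent.Lib.R2H3.VAmpleMor.secHom_sv]; exact h⟩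
  obtain ⟨r, hr, τ, -⟩ := Groth.Agent.S3572.result 1 (X ↘ Spec (CommRingCat.of k)) L hL s hs
  have hr' : r ≫ ((CohB1.ProjSpace 1 k) ↘ Spec (CommRingCat.of k)) =
      X ↘ Spec (CommRingCat.of k) := hr
  haveI : IsProper (CohB1.ProjSpace.toSpec 1 k) :=
    Groth.Agent.S9705.isProper_projSpace_toSpec 1 k
  haveI : IsProper (r ≫ CohB1.ProjSpace.toSpec 1 k) := by rw [hr]; infer_instance
  haveI : IsProper r := IsProper.of_comp r (CohB1.ProjSpace.toSpec 1 k)
  have hO1 := Groth.Agent.Lib.R2H2.QProjK0.isAmple_twistProjSpace_one 1 k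
  have hO1inv := hO1.1
  have hpinv := Groth.Agent.Lib.Helper23.PB.isInvertible_pullback r _ hO1inv
  -- no fibre is everything
  have hnc : ∀ p, r ⁻¹' {p} ≠ Set.univ := by
    intro p huniv
    obtain ⟨j, s', hp, -⟩ := hO1.2.2 p
    obtain ⟨s'', hs''⟩ := Groth.Agent.Lib.Helper23.PB.exists_pullback_section r _ hO1inv (j + 1) s'
    have htop : CohB1.genLocus _ s'' = ⊤ := by
      rw [hs'', eq_top_iff]
      intro x _
      have hx : x ∈ r ⁻¹' {p} := by rw [huniv]; trivial
      have hx' : r x = p := hx
      show r x ∈ CohB1.genLocus _ s'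
      rw [hx']
      exact hp
    haveI : IsIso s'' := (Groth.Agent.Lib.H9YBlowUp.isIso_iff_genLocus_eq_top _ s'').mpr htop
    have hd0 : Curv2.deg k X (CohB1.tensorPow ((Scheme.Modules.pullback r).obj
        (Twist.twistProjSpace 1 k 1)) (j + 1)) 1 = 0 := by
      rw [← deg_congr k X (asIso s'') 1]
      unfold Curv2.deg
      push_cast
      ring
    have hd1 := deg_tensorPow k X hdim _ hpinv (j + 1)
    rw [hd0, deg_congr k X τ 1, hdeg] at hd1
    have : (0 : ℤ) < ((j + 1 : ℕ) : ℤ) := by positivity
    omega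
  -- the generic point goes to the generic point
  have hξ : r.base (genericPoint X) = genericPoint (CohB1.ProjSpace 1 k) := by
    by_contra hne
    have hcl : closure ({r.base (genericPoint X)} : Set (CohB1.ProjSpace 1 k)) ≠ Set.univ := by
      intro h
      have hg : IsGenericPoint (r.base (genericPoint X)) (⊤ : Set (CohB1.ProjSpace 1 k)) := h
      exact hne (hg.eq (genericPoint_spec _))
    have hc := isClosed_singleton_of_closure_ne_univ hdimP.le _ hcl
    have hpre : IsClosed (r ⁻¹' {r.base (genericPoint X)}) := hc.preimage r.continuous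
    apply hnc (r.base (genericPoint X))
    rw [← hpre.closure_eq]
    apply Set.eq_univ_of_univ_subset
    have h1 : closure ({genericPoint X} : Set X) = Set.univ := (genericPoint_spec X).def
    rw [← h1]
    exact closure_mono (Set.singleton_subset_iff.mpr rfl)
  haveI := isFinite_of_nonconstant k X (CohB1.ProjSpace 1 k) hdim hdimP r hr' hξ
  have hO1rank : FlatMod.IsFinLocFreeOfRank 1 (Twist.twistProjSpace 1 k 1) :=
    Groth.Agent.Lib.Helper23.SecTw.isFinLocFreeOfRank_one_of_isInvertible _ hO1inv
  have h7640 := s7640 k X (CohB1.ProjSpace 1 k) hdim hdimP r hr' hξ 1 _ hO1rank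
  rw [deg_congr k X τ 1, hdeg] at h7640
  have hres : r.residueDegree (genericPoint X) = 1 := by
    have hu := Int.isUnit_iff.mp (IsUnit.of_mul_eq_one _ h7640.symm)
    rcases hu with h | h
    · exact_mod_cast h
    · have : (0 : ℤ) ≤ (r.residueDegree (genericPoint X) : ℤ) := Int.natCast_nonneg _
      omega
  have hXf : IsField (X.presheaf.stalk (genericPoint X)) :=
    Groth.Agent.Lib.R2H1.VBSub.isField_stalk_genericPoint
  have hYf : IsField ((CohB1.ProjSpace 1 k).presheaf.stalk (r.base (genericPoint X))) := by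
    rw [hξ]; exact Groth.Agent.Lib.R2H1.VBSub.isField_stalk_genericPoint
  have hfr := finrank_stalk_eq_residueDegree r (genericPoint X) hXf hYf
  rw [hres] at hfr
  have hbij : Function.Bijective (r.stalkMap (genericPoint X)).hom := by
    letI := (r.stalkMap (genericPoint X)).hom.toAlgebra
    letI : Field ((CohB1.ProjSpace 1 k).presheaf.stalk (r.base (genericPoint X))) := hYf.toField
    exact Module.Free.bijective_algebraMap_of_finrank_eq_one hfr
  haveI : IsIso (r.stalkMap (genericPoint X)) :=
    (ConcreteCategory.isIso_iff_bijective _).mpr hbij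
  haveI : Surjective r := by
    constructor
    have hcl : IsClosed (Set.range r) := r.isClosedMap.isClosed_range
    have : Set.range r = Set.univ := by
      rw [← hcl.closure_eq]
      apply Set.eq_univ_of_univ_subset
      have h1 : closure ({genericPoint (CohB1.ProjSpace 1 k)} : Set (CohB1.ProjSpace 1 k)) =
        Set.univ := (genericPoint_spec _).def
      rw [← h1]
      exact closure_mono (Set.singleton_subset_iff.mpr ⟨genericPoint X, hξ⟩)
    exact Set.range_eq_univ.mp this
  haveI : IsIso r := Groth.Agent.Lib.R2H4.BirIso.isIso_of_finite_birational_normal r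
    (isNormalScheme_P1k k) inferInstance
  exact ⟨asIso r, hr⟩

end Part2

end Groth.Agent.Lib.R2H1.IsoP1
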