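import Mathlib
import Groth.Agent.Lib.R2H4NormQAff

set_option autoImplicit false
set_option linter.style.haveILetI false
universe u
open CategoryTheory CategoryTheory.Limits AlgebraicGeometry TopologicalSpace

namespace Groth.Agent.Lib.R2H4.QAClopen

open Groth.Agent.Lib.R2H4.NormQAff

/-- extension by zero of a section over a clopen subset. -/
theorem exists_section_of_clopen (Y : Scheme.{u}) (W : Y.Opens) (hW : IsClosed (W : Set Y))
    (r₁ : Γ(Y, W)) :
    ∃ r : Γ(Y, ⊤), Y.presheaf.map (homOfLE (le_top : W ≤ ⊤)).op r = r₁ ∧ Y.basicOpen r ≤ W := by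
  let W' : Y.Opens := ⟨(W : Set Y)ᶜ, hW.isOpen_compl⟩
  let U : Bool → Y.Opens := fun b => Bool.rec W' W b
  let sf : ∀ b : Bool, Γ(Y, U b) := fun b => Bool.rec (0 : Γ(Y, W')) r₁ b
  have hdisj : W ⊓ W' = ⊥ := by
    ext x
    simp only [Opens.coe_inf, Opens.coe_bot, Set.mem_inter_iff, Set.mem_empty_iff_false, iff_false]
    rintro ⟨h1, h2⟩
    exact h2 h1
  have hdisj' : W' ⊓ W = ⊥ := by rw [inf_comm]; exact hdisj
  have hcompat : TopCat.Presheaf.IsCompatible Y.sheaf.1 U sf := by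
    intro i j
    cases i <;> cases j
    · rfl
    · exact section_eq_of_isEmpty _ hdisj' _ _
    · exact section_eq_of_isEmpty _ hdisj _ _
    · rfl
  have hcover : (⊤ : Y.Opens) ≤ iSup U := by
    intro x _
    by_cases hx : x ∈ W
    · exact Opens.mem_iSup.2 ⟨true, hx⟩
    · exact Opens.mem_iSup.2 ⟨false, hx⟩
  obtain ⟨r, hr, -⟩ := Y.sheaf.existsUnique_gluing' U ⊤ (fun b => homOfLE le_top) hcover sf hcompat
  refine ⟨r, hr true, ?_⟩
  intro x hx
  by_contra hxW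
  have hxW' : x ∈ W' := hxW
  have h1 := (Y.mem_basicOpen r x trivial).1 hx
  have h2 := TopCat.Presheaf.germ_res_apply Y.presheaf (homOfLE (le_top : W' ≤ ⊤)) x hxW' r
  have h3 : Y.presheaf.map (homOfLE (le_top : W' ≤ ⊤)).op r = 0 := hr false
  rw [h3, map_zero] at h2
  rw [← h2] at h1
  exact not_isUnit_zero h1

/-- A compact scheme in which every point has a clopen quasi-affine neighbourhood is quasi-affine. -/
theorem isQuasiAffine_of_clopen_cover (Y : Scheme.{u}) [CompactSpace Y]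
    (H : ∀ y : Y, ∃ W : Y.Opens, IsClosed (W : Set Y) ∧ y ∈ W ∧ W.toScheme.IsQuasiAffine) :
    Y.IsQuasiAffine := by
  apply Scheme.IsQuasiAffine.of_forall_exists_mem_basicOpen
  intro y
  obtain ⟨W, hWc, hyW, hQ⟩ := H y
  haveI := hQ
  obtain ⟨_, ⟨r₀, hr₀, rfl⟩, hx, -⟩ := Opens.isBasis_iff_nbhd.mp
    (Scheme.IsQuasiAffine.isBasis_basicOpen W.toScheme) (U := ⊤) (x := ⟨y, hyW⟩) trivial
  let W₁ : Y.Opens := W.ι ''ᵁ ⊤
  have hW₁ : W₁ = W := W.ι_image_top
  let r₁ : Γ(Y, W₁) := (W.ι.appIso ⊤).inv r₀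
  have hW₁c : IsClosed (W₁ : Set Y) := by rw [hW₁]; exact hWc
  obtain ⟨r, hr1, hr2⟩ := exists_section_of_clopen Y W₁ hW₁c r₁
  have h1 : Y.basicOpen r = Y.basicOpen r₁ := by
    rw [← hr1, Scheme.basicOpen_res]
    exact (inf_eq_right.2 hr2).symm
  have h2 : W.ι ''ᵁ W.toScheme.basicOpen r₀ = Y.basicOpen r₁ := Scheme.image_basicOpen W.ι r₀
  refine ⟨r, ?_, ?_⟩
  · rw [h1, ← h2]
    exact hr₀.image_of_isOpenImmersion W.ι
  · rw [h1, ← h2]
    exact ⟨⟨y, hyW⟩, hx, rfl⟩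

end Groth.Agent.Lib.R2H4.QAClopen
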