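import Mathlib
import Groth.Prelude.Def_CAlg
import Groth.Prelude.Def_CInt
import Groth.Agent.Lib.H9SteinH0
import Groth.Agent.Lib.Helper20ZClos20
import Groth.Agent.Lib.Helper28DepthLoc
import Groth.Agent.Lib.Helper20AbsCurve
import Groth.Agent.Lib.Helper4FibDimL
import Groth.Agent.Lib.R2H4QAClopen
import Groth.Agent.Lib.R2H1ZeroDimCoh
import Groth.Agent.Lib.R2H1CurveEuler
set_option backward.isDefEq.respectTransparency.types false

/-!
helper1 (run 2): proper dim-1 scheme with h^0(O)=1 is connected, all local rings CM, components of dim 1 (S1534). Key API: exists_algebraMap_eq, eq_zero_or_isUnit_of_finrank_eq_one, isSchematicallyDense_compl_singleton (complement of a closed point is schematically dense when global functions form a field), ringKrullDim_stalk_le_zero_of_not_isClosed', topologicalKrullDim_le_zero_of_subsingleton, subsingleton_of_irreducible_of_dim_le_zero, s1534.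
-/

set_option autoImplicit false
set_option linter.style.haveILetI false
set_option linter.unusedSectionVars false
universe u v

open CategoryTheory CategoryTheory.Limits AlgebraicGeometry TopologicalSpace Opposite

namespace Groth.Agent.Lib.R2H1.H0One

section Part1

/-- a one-dimensional algebra over a field consists of the constants -/
theorem exists_algebraMap_eq {k A : Type*} [Field k] [CommRing A] [Algebra k A]
    (h : Module.finrank k A = 1) (a : A) : ∃ c : k, algebraMap k A c = a := by
  haveI : Nontrivial A := Module.nontrivial_of_finrank_eq_succ h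
  obtain ⟨c, hc⟩ := (finrank_eq_one_iff_of_nonzero' (1 : A) one_ne_zero).mp h a
  exact ⟨c, by rw [Algebra.algebraMap_eq_smul_one]; exact hc⟩

theorem eq_zero_or_isUnit_of_finrank_eq_one {k A : Type*} [Field k] [CommRing A] [Algebra k A]
    (h : Module.finrank k A = 1) (a : A) : a = 0 ∨ IsUnit a := by
  obtain ⟨c, rfl⟩ := exists_algebraMap_eq h a
  by_cases hc : c = 0
  · left; rw [hc, map_zero]
  · right; exact (isUnit_iff_ne_zero.mpr hc).map (algebraMap k A)

/-- the complement of a closed point is schematically dense when the global functions form a field -/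
theorem isSchematicallyDense_compl_singleton (X : Scheme.{u})
    (hΓ : ∀ r : Γ(X, ⊤), r = 0 ∨ IsUnit r) (x : X) (hx : IsClosed ({x} : Set X))
    (hne : ∃ y : X, y ≠ x) :
    CInt.IsSchematicallyDense (⟨({x} : Set X)ᶜ, hx.isOpen_compl⟩ : X.Opens) := by
  intro W
  set V : X.Opens := ⟨({x} : Set X)ᶜ, hx.isOpen_compl⟩ with hV
  refine (injective_iff_map_eq_zero (X.presheaf.map (homOfLE (inf_le_left : W ⊓ V ≤ W)).op).hom).2 ?_
  intro b hb
  by_cases hxW : x ∈ W
  · let U : Bool → X.Opens := fun i => Bool.rec V W i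
    let sf : ∀ i : Bool, Γ(X, U i) := fun i => Bool.rec (0 : Γ(X, V)) b i
    have key : X.presheaf.map (Opens.infLERight V W).op b = 0 := by
      have h1 : X.presheaf.map (Opens.infLERight V W).op b =
          X.presheaf.map (homOfLE (by rw [inf_comm] : V ⊓ W ≤ W ⊓ V)).op
            (X.presheaf.map (homOfLE (inf_le_left : W ⊓ V ≤ W)).op b) := by
        rw [← CommRingCat.comp_apply, ← Functor.map_comp]
        rfl
      rw [h1]
      have hb' : (X.presheaf.map (homOfLE (inf_le_left : W ⊓ V ≤ W)).op) b = 0 := hb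
      rw [hb', map_zero]
    have key' : X.presheaf.map (Opens.infLELeft W V).op b = 0 := hb
    have hcompat : TopCat.Presheaf.IsCompatible X.sheaf.1 U sf := by
      intro i j
      cases i <;> cases j
      · rfl
      · change X.presheaf.map (Opens.infLELeft V W).op (0 : Γ(X, V)) =
          X.presheaf.map (Opens.infLERight V W).op b
        rw [key, map_zero]
      · change X.presheaf.map (Opens.infLELeft W V).op b =
          X.presheaf.map (Opens.infLERight W V).op (0 : Γ(X, V))
        rw [key', map_zero]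
      · rfl
    have hcover : (⊤ : X.Opens) ≤ iSup U := by
      intro y _
      by_cases hy : y = x
      · exact Opens.mem_iSup.2 ⟨true, hy ▸ hxW⟩
      · exact Opens.mem_iSup.2 ⟨false, hy⟩
    obtain ⟨r, hr, -⟩ :=
      X.sheaf.existsUnique_gluing' U ⊤ (fun _ => homOfLE le_top) hcover sf hcompat
    have hrV : X.presheaf.map (homOfLE (le_top : V ≤ ⊤)).op r = 0 := hr false
    have hrW : X.presheaf.map (homOfLE (le_top : W ≤ ⊤)).op r = b := hr true
    rcases hΓ r with h | h
    · rw [← hrW, h, map_zero]
    · exfalso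
      have hu := h.map (X.presheaf.map (homOfLE (le_top : V ≤ ⊤)).op).hom
      have hrV' : (X.presheaf.map (homOfLE (le_top : V ≤ ⊤)).op).hom r = 0 := hrV
      rw [hrV'] at hu
      obtain ⟨y, hy⟩ := hne
      haveI : Nonempty V := ⟨⟨y, hy⟩⟩
      exact not_isUnit_zero hu
  · have hWV : W ≤ W ⊓ V := le_inf le_rfl (fun y hy h => hxW (h ▸ hy))
    have h1 : b = X.presheaf.map (homOfLE hWV).op
        (X.presheaf.map (homOfLE (inf_le_left : W ⊓ V ≤ W)).op b) := by
      rw [← CommRingCat.comp_apply, ← Functor.map_comp]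
      have : (homOfLE (inf_le_left : W ⊓ V ≤ W)).op ≫ (homOfLE hWV).op = 𝟙 _ := rfl
      rw [this, X.presheaf.map_id]
      rfl
    have hb' : (X.presheaf.map (homOfLE (inf_le_left : W ⊓ V ≤ W)).op) b = 0 := hb
    rw [h1, hb', map_zero]


open Groth.Agent.Lib.Helper20.AbsCurve in
/-- on a quasi-compact scheme whose local rings have dimension at most one, the local rings at the
non-closed points are zero-dimensional. -/
theorem ringKrullDim_stalk_le_zero_of_not_isClosed' (X : Scheme.{u}) [CompactSpace X]
    (hC : ∀ x : X, ringKrullDim (X.presheaf.stalk x) ≤ 1)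
    (x : X) (hx : ¬ IsClosed ({x} : Set X)) : ringKrullDim (X.presheaf.stalk x) ≤ 0 := by
  obtain ⟨y, hy, hycl⟩ := (isClosed_closure (s := ({x} : Set X))).exists_closed_singleton
    ⟨x, subset_closure rfl⟩
  have hxy : x ⤳ y := specializes_iff_mem_closure.2 hy
  have hne : x ≠ y := fun h => hx (h ▸ hycl)
  obtain ⟨W, hW, hyW, -⟩ :=
    (TopologicalSpace.Opens.isBasis_iff_nbhd.mp X.isBasis_affineOpens) (Opens.mem_top y)
  have hxW : x ∈ W := hxy.mem_open W.isOpen hyW
  have hle := primeIdealOf_le_of_specializes hW x y hxW hyW hxy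
  have hlt : (hW.primeIdealOf ⟨x, hxW⟩).asIdeal < (hW.primeIdealOf ⟨y, hyW⟩).asIdeal := by
    refine lt_of_le_of_ne hle ?_
    intro h
    exact hne (eq_of_primeIdealOf_eq hW x y hxW hyW (PrimeSpectrum.ext h))
  have h1 : ((hW.primeIdealOf ⟨y, hyW⟩).asIdeal.height : WithBot ℕ∞) ≤ 1 := by
    rw [← ringKrullDim_stalk_eq_height hW y hyW]; exact hC y
  have h1' : (hW.primeIdealOf ⟨y, hyW⟩).asIdeal.height ≤ 1 := by exact_mod_cast h1
  haveI : (hW.primeIdealOf ⟨y, hyW⟩).asIdeal.FiniteHeight := by
    rw [Ideal.finiteHeight_iff]; right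
    exact ne_top_of_le_ne_top ENat.one_ne_top h1'
  have h2 := Ideal.height_strict_mono_of_isPrime_of_isPrime hlt
  rw [ringKrullDim_stalk_eq_height hW x hxW]
  have h3 : (hW.primeIdealOf ⟨x, hxW⟩).asIdeal.height = 0 :=
    Order.lt_one_iff.1 (lt_of_lt_of_le h2 h1')
  rw [h3]; rfl

theorem topologicalKrullDim_le_zero_of_subsingleton (T : Type*) [TopologicalSpace T]
    [Subsingleton T] : topologicalKrullDim T ≤ 0 := by
  haveI : Subsingleton (IrreducibleCloseds T) := ⟨fun a b => by
    apply IrreducibleCloseds.ext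
    obtain ⟨x, hx⟩ := a.isIrreducible.nonempty
    obtain ⟨y, hy⟩ := b.isIrreducible.nonempty
    ext z
    rw [Subsingleton.elim z x] at *
    constructor
    · intro _; rw [Subsingleton.elim x y]; exact hy
    · intro _; exact hx⟩
  exact Order.krullDim_nonpos_of_subsingleton

/-- an irreducible T0 space of dimension `≤ 0` is a point -/
theorem subsingleton_of_irreducible_of_dim_le_zero (T : Type*) [TopologicalSpace T] [T0Space T]
    [IrreducibleSpace T] (h : topologicalKrullDim T ≤ 0) : Subsingleton T := by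
  have hmin := Order.krullDim_nonpos_iff_forall_isMin.mp h
  have hgen : ∀ a : T, closure ({a} : Set T) = Set.univ := by
    intro a
    let T₁ : IrreducibleCloseds T := ⟨Set.univ, IrreducibleSpace.isIrreducible_univ T, isClosed_univ⟩
    let T₂ : IrreducibleCloseds T := ⟨closure {a}, isIrreducible_singleton.closure, isClosed_closure⟩
    have hle : T₂ ≤ T₁ := fun _ _ => Set.mem_univ _
    have hle' : T₁ ≤ T₂ := hmin T₁ hle
    exact Set.eq_univ_of_univ_subset hle'
  refine ⟨fun a b => ?_⟩
  have h1 : a ⤳ b := specializes_iff_mem_closure.2 (by rw [hgen a]; trivial)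
  have h2 : b ⤳ a := specializes_iff_mem_closure.2 (by rw [hgen b]; trivial)
  exact (h1.antisymm h2).eq


theorem eq_one_of_le_one_of_not_le_zero' (d : WithBot ℕ∞) (h1 : d ≤ 1) (h0 : ¬ d ≤ 0) : d = 1 := by
  induction d using WithBot.recBotCoe with
  | bot => exact absurd bot_le h0
  | coe a =>
    have h1' : a ≤ 1 := by exact_mod_cast h1
    have h0' : ¬ a ≤ 0 := fun h => h0 (by exact_mod_cast h)
    have : a = 1 := le_antisymm h1' (Order.one_le_iff_pos.mpr (lt_of_not_ge h0'))
    rw [this]; rfl

open Groth.Agent.Lib.H9SteinH0 Groth.Agent.Lib.H9SteinConn Groth.Agent.Lib.H9SteinAlg in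
/-- **S1534** -/
theorem s1534 (k : Type u) [Field k] (X : Scheme.{u}) [X.Over (Spec (CommRingCat.of k))]
    [IsProper (X ↘ (Spec (CommRingCat.of k)))] (hdim : topologicalKrullDim X = 1)
    (h0 : Module.finrank k (Coh.HH X (Coh.structureModule X) 0) = 1) :
    ConnectedSpace X ∧ (∀ x : X, LocCoh.IsCohenMacaulayLocalRing (X.presheaf.stalk x)) ∧
      ∀ Z ∈ irreducibleComponents (X : Type u), topologicalKrullDim Z = 1 := by
  haveI := Groth.Agent.Lib.R2H1.CurveEuler.isNoetherian_of_proper k X
  letI := algΓ k (X ↘ Spec (CommRingCat.of k))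
  have hfr : Module.finrank k Γ(X, ⊤) = 1 := by
    rw [← (hh0LinearEquiv k X).finrank_eq]; exact h0
  have hΓ : ∀ r : Γ(X, ⊤), r = 0 ∨ IsUnit r := eq_zero_or_isUnit_of_finrank_eq_one hfr
  have hnsub : ¬ Subsingleton X := fun h => by
    have := topologicalKrullDim_le_zero_of_subsingleton X
    rw [hdim] at this
    exact absurd this (by decide)
  have hne : ∀ x : X, ∃ y, y ≠ x := by
    intro x
    by_contra h
    push_neg at h
    exact hnsub ⟨fun a b => (h a).trans (h b).symm⟩
  haveI : Nonempty X := by
    by_contra h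
    rw [not_nonempty_iff] at h
    exact hnsub inferInstance
  have hdense : ∀ (x : X) (hx : IsClosed ({x} : Set X)),
      CInt.IsSchematicallyDense (⟨({x} : Set X)ᶜ, hx.isOpen_compl⟩ : X.Opens) :=
    fun x hx => isSchematicallyDense_compl_singleton X hΓ x hx (hne x)
  have hconn : ConnectedSpace X := by
    rw [connectedSpace_iff_trivIdem]
    refine ⟨inferInstance, fun e he => ?_⟩
    rcases hΓ e with h | h
    · left; exact h
    · right; exact (IsIdempotentElem.iff_eq_one_of_isUnit h).mp he
  have hstalk1 : ∀ x : X, ringKrullDim (X.presheaf.stalk x) ≤ 1 := fun x =>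
    (Groth.Agent.Lib.Helper4.FibDim.ringKrullDim_stalk_le_topologicalKrullDim X x).trans hdim.le
  refine ⟨hconn, ?_, ?_⟩
  · intro x
    have hsd : Module.supportDim (X.presheaf.stalk x) (X.presheaf.stalk x) =
        ringKrullDim (X.presheaf.stalk x) := Module.supportDim_self_eq_ringKrullDim _
    have hle := Groth.Agent.Lib.Helper28.depth_le_supportDim
      (R := X.presheaf.stalk x) (M := X.presheaf.stalk x)
    refine @LocCoh.IsCohenMacaulayLocalRing.mk _ _ inferInstance inferInstance ?_
    by_cases hx : IsClosed ({x} : Set X)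
    · have h1 := Groth.Agent.Lib.Helper20.ZClosLib.one_le_depth_of_isSchematicallyDense _
        (hdense x hx) x (fun h => h rfl)
      apply le_antisymm _ hle
      rw [hsd]
      refine (hstalk1 x).trans ?_
      exact_mod_cast h1
    · have h0' := ringKrullDim_stalk_le_zero_of_not_isClosed' X hstalk1 x hx
      apply le_antisymm _ hle
      rw [hsd]
      refine h0'.trans ?_
      exact WithBot.coe_le_coe.mpr zero_le
  · intro Z hZ
    have hle : topologicalKrullDim Z ≤ 1 := (topologicalKrullDim_subspace_le X Z).trans hdim.le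
    apply eq_one_of_le_one_of_not_le_zero' _ hle
    intro hz0
    haveI : IrreducibleSpace Z := Subtype.irreducibleSpace hZ.1
    haveI := subsingleton_of_irreducible_of_dim_le_zero Z hz0
    obtain ⟨z, hz⟩ := hZ.1.nonempty
    have hZeq : Z = {z} := by
      ext y
      constructor
      · intro hy
        exact congrArg Subtype.val (Subsingleton.elim (⟨y, hy⟩ : Z) ⟨z, hz⟩)
      · rintro rfl; exact hz
    obtain ⟨o, ho, hone, hoZ⟩ :=
      NoetherianSpace.exists_isOpen_nonempty_subset_irreducibleComponent Z hZ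
    have hoeq : o = {z} := by
      rw [hZeq] at hoZ
      exact (Set.subset_singleton_iff_eq.mp hoZ).resolve_left hone.ne_empty
    have hclopen : IsClopen ({z} : Set X) :=
      ⟨hZeq ▸ isClosed_of_mem_irreducibleComponents Z hZ, hoeq ▸ ho⟩
    have huniv := hclopen.eq_univ ⟨z, rfl⟩
    refine hnsub ⟨fun a b => ?_⟩
    have ha : a ∈ ({z} : Set X) := huniv ▸ Set.mem_univ a
    have hb : b ∈ ({z} : Set X) := huniv ▸ Set.mem_univ b
    exact ha.trans hb.symm

end Part1

end Groth.Agent.Lib.R2H1.H0One
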