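import Mathlib
import Groth.Agent.Lib.R2H1VBGenusOne
import Groth.Agent.Lib.Helper20CDiv2
set_option backward.isDefEq.respectTransparency.types false

/-!
Genus one rank two bundles: local algebra (not_range_le_smul_of_projective, exists_sub_smul_range_le), exists_section_bad (a combination of two sections vanishing at a point), isFinLocFree_cokernel_section_of_max, deg_le_one_of_max (rank two with section and all invertible subsheaves of degree <= 0 has degree <= 1), exists_hom_ne_zero_of_twist, s11348, exists_twist_max.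
-/

set_option autoImplicit false
set_option linter.style.haveILetI false
set_option linter.unusedSectionVars false
universe u v

open CategoryTheory CategoryTheory.Limits AlgebraicGeometry TopologicalSpace Opposite

namespace Groth.Agent.Lib.R2H1.VBGenusOneB

section Part1

section Alg

variable {R : Type u} [CommRing R] [IsLocalRing R]
  {A B C : Type u} [AddCommGroup A] [AddCommGroup B] [AddCommGroup C]
  [Module R A] [Module R B] [Module R C]

/-- a split injection from a nonzero module does not land in `m B` -/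
theorem not_range_le_smul_of_projective [Module.Finite R B] [Nontrivial A] [Module.Projective R C]
    (f : A →ₗ[R] B) (g : B →ₗ[R] C) (hf : Function.Injective f) (hg : Function.Surjective g)
    (hfg : Function.Exact f g) :
    ¬ LinearMap.range f ≤ (IsLocalRing.maximalIdeal R) • (⊤ : Submodule R B) := by
  intro hle
  obtain ⟨sec, hsec⟩ := Module.projective_lifting_property g LinearMap.id hg
  have hsec' : ∀ c, g (sec c) = c := fun c => LinearMap.congr_fun hsec c
  have htop : (⊤ : Submodule R B) ≤ LinearMap.range sec ⊔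
      (IsLocalRing.maximalIdeal R) • (⊤ : Submodule R B) := by
    intro y _
    have h1 : g (y - sec (g y)) = 0 := by rw [map_sub, hsec', sub_self]
    obtain ⟨a, ha⟩ := (hfg _).1 h1
    have h2 : y = sec (g y) + f a := by rw [ha]; abel
    rw [h2]
    exact Submodule.add_mem_sup ⟨_, rfl⟩ (hle ⟨a, rfl⟩)
  have hN := Submodule.le_of_le_smul_of_le_jacobson_bot (I := IsLocalRing.maximalIdeal R)
    (N := LinearMap.range sec) (N' := (⊤ : Submodule R B)) Module.Finite.fg_top
    (IsLocalRing.maximalIdeal_le_jacobson ⊥) htop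
  obtain ⟨a, b, hab⟩ := exists_pair_ne A
  apply hab
  apply hf
  have key : ∀ a : A, f a = 0 := by
    intro a
    obtain ⟨c, hc⟩ := hN (Submodule.mem_top (x := f a))
    have h3 : g (f a) = 0 := (hfg _).2 ⟨a, rfl⟩
    rw [← hc, hsec'] at h3
    rw [← hc, h3, map_zero]
  rw [key a, key b]

/-- the key fibre computation: two sections whose images in the rank one quotient are dependent
at the closed point -/
theorem exists_sub_smul_range_le {k : Type u} [Field k] (ι : k →+* R)
    (hι : Function.Surjective ((IsLocalRing.residue R).comp ι))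
    (b : A) (hb : ∀ y : A, ∃ r : R, y = r • b) (q : C) (hq : ∀ y : C, ∃ r : R, y = r • q)
    (s₁ s₂ : A →ₗ[R] B) (π : B →ₗ[R] C) (hπ : Function.Surjective π)
    (hex : Function.Exact s₁ π) (ht : ¬ Function.Surjective (π ∘ₗ s₂)) :
    ∃ α : k, LinearMap.range (s₂ - ι α • s₁) ≤
      (IsLocalRing.maximalIdeal R) • (⊤ : Submodule R B) := by
  obtain ⟨c, hc⟩ := hq (π (s₂ b))
  have hcm : c ∈ IsLocalRing.maximalIdeal R := by
    by_contra hcn
    have hu : IsUnit c := by
      by_contra h
      exact hcn ((IsLocalRing.mem_maximalIdeal c).2 h)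
    obtain ⟨u, rfl⟩ := hu
    apply ht
    intro y
    obtain ⟨r, rfl⟩ := hq y
    refine ⟨(r * ↑u⁻¹) • b, ?_⟩
    rw [LinearMap.comp_apply, map_smul, map_smul, hc, smul_smul, mul_assoc, Units.inv_mul,
      mul_one]
  obtain ⟨e₂, he₂⟩ := hπ q
  have h1 : π (s₂ b - c • e₂) = 0 := by rw [map_sub, map_smul, he₂, hc, sub_self]
  obtain ⟨y, hy⟩ := (hex _).1 h1
  obtain ⟨r, rfl⟩ := hb y
  obtain ⟨α, hα⟩ := hι (IsLocalRing.residue R r)
  have hrm : r - ι α ∈ IsLocalRing.maximalIdeal R := by
    rw [← Ideal.Quotient.eq_zero_iff_mem]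
    change IsLocalRing.residue R (r - ι α) = 0
    rw [map_sub, ← hα]
    simp
  refine ⟨α, ?_⟩
  rintro _ ⟨z, rfl⟩
  obtain ⟨w, rfl⟩ := hb z
  have h2 : (s₂ - ι α • s₁) (w • b) = w • ((r - ι α) • s₁ b + c • e₂) := by
    rw [map_smul, LinearMap.sub_apply, LinearMap.smul_apply, sub_smul]
    have : s₂ b = s₁ (r • b) + c • e₂ := by rw [hy]; abel
    rw [this, map_smul]
    abel
  rw [h2]
  apply Submodule.smul_mem
  apply Submodule.add_mem
  · exact Submodule.smul_mem_smul hrm Submodule.mem_top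
  · exact Submodule.smul_mem_smul hcm Submodule.mem_top

/-- a free module of rank one is cyclic -/
theorem exists_generator_of_finrank_one [Module.Free R A] [Module.Finite R A]
    (h : Module.finrank R A = 1) : ∃ b : A, ∀ y : A, ∃ r : R, y = r • b := by
  let bs := Module.finBasisOfFinrankEq R A h
  refine ⟨bs 0, fun y => ⟨bs.repr y 0, ?_⟩⟩
  conv_lhs => rw [← bs.sum_repr y]
  simp

end Alg

end Part1

section Part2

open Groth.Agent.Lib.R2H1.VBSub Groth.Agent.Lib.R2H1.VBRankTwo Groth.Agent.Lib.R2H1.VBSlopeB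
open Groth.Agent.Lib.R2H1.VBSat Groth.Agent.Lib.R2H1.CurveEuler Groth.Agent.Lib.R2H1.VBHZero
open Groth.Agent.Lib.R2H1.VBTwist Groth.Agent.Lib.R2H1.VBTwistB Groth.Agent.Lib.R2H1.CurveDegSec
open Groth.Agent.Lib.R2H1.VBIndecTwo Groth.Agent.Lib.R2H1.VBEndo Groth.Agent.Lib.R2H1.VBFitting
open Groth.Agent.Lib.Helper4.NormDelta Groth.Agent.Lib.Helper23.StalkLin

variable (k : Type u) [Field k] [IsAlgClosed k] (X : Scheme.{u}) [X.Over (Spec (CommRingCat.of k))]
    [IsProper (X ↘ (Spec (CommRingCat.of k)))] [IsIntegral X]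

/-- if the image of a second section in the invertible quotient by a first section is a nonzero
non-isomorphism, then some combination of the two sections has a non-locally-free cokernel -/
theorem exists_section_bad (hdim : topologicalKrullDim X = 1)
    (hreg : ∀ x : X, IsRegularLocalRing (X.presheaf.stalk x))
    {E : X.Modules} (hE : FlatMod.IsFinLocFreeOfRank 2 E)
    (s₁ s₂ : Coh.structureModule X ⟶ E) [Mono s₁]
    (hQ : FlatMod.IsFinLocFreeOfRank 1 (cokernel s₁))
    (ht : s₂ ≫ cokernel.π s₁ ≠ 0) (hni : ¬ IsIso (s₂ ≫ cokernel.π s₁)) :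
    ∃ α : k, s₂ - α • s₁ ≠ 0 ∧ ¬ FlatMod.IsFinLocFree (cokernel (s₂ - α • s₁)) := by
  haveI := isNoetherian_of_proper k X
  have hO1 := structure_rank_one X
  obtain ⟨t, htdef⟩ : ∃ t : Coh.structureModule X ⟶ cokernel s₁, t = s₂ ≫ cokernel.π s₁ :=
    ⟨_, rfl⟩
  rw [← htdef] at ht hni
  haveI : Mono t := mono_of_section_ne_zero k X hdim hreg hQ t ht
  have hnepi : ¬ Epi t := fun h => hni (isIso_of_mono_of_epi t)
  have hnz : ¬ IsZero (cokernel t) := by
    intro hz
    exact hnepi (Abelian.epi_of_cokernel_π_eq_zero t (hz.eq_of_tgt _ _))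
  have hex : ∃ x : X, ¬ Subsingleton ((cokernel t).presheaf.stalk x) := by
    by_contra hcon
    push_neg at hcon
    exact hnz (Groth.Agent.Helper18Epi.isZero_of_subsingleton_stalk _ hcon)
  obtain ⟨x, hx⟩ := hex
  have hxne : x ≠ genericPoint X := by
    rintro rfl
    exact hx (stalk_cokernel_subsingleton_generic hO1 hQ t)
  have hxcl : IsClosed ({x} : Set X) :=
    Groth.Agent.Lib.Helper20.CDivLib.isClosed_singleton_of_ne_genericPoint hdim.le x hxne
  have hnsurj : ¬ Function.Surjective (stalkLin t x) := by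
    intro hsurj
    apply hx
    refine ⟨fun a b => ?_⟩
    have key : ∀ c : (cokernel t).presheaf.stalk x, c = 0 := by
      intro c
      obtain ⟨c', rfl⟩ := stalkLin_surjective (cokernel.π t) x c
      obtain ⟨c'', rfl⟩ := hsurj c'
      rw [← stalkLin_comp', cokernel.condition, stalkLin_zero]
    rw [key a, key b]
  have hιsurj : Function.Surjective
      ((IsLocalRing.residue (X.presheaf.stalk x)).comp (iotaAt k X x)) :=
    (resMap_bijective k (X ↘ Spec (CommRingCat.of k)) x hxcl).2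
  obtain ⟨f1, t1, r1⟩ := Groth.Agent.Lib.R2H4DegAdd.stalk_facts hO1 x
  obtain ⟨f2, t2, r2⟩ := Groth.Agent.Lib.R2H4DegAdd.stalk_facts hQ x
  obtain ⟨f3, t3, r3⟩ := Groth.Agent.Lib.R2H4DegAdd.stalk_facts hE x
  haveI := f1
  haveI := t1
  haveI := f2
  haveI := t2
  haveI := f3
  haveI := t3
  obtain ⟨b, hb⟩ := exists_generator_of_finrank_one r1
  obtain ⟨q, hq⟩ := exists_generator_of_finrank_one r2
  let S : ShortComplex X.Modules := ShortComplex.mk s₁ (cokernel.π s₁) (cokernel.condition s₁)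
  have hS : S.ShortExact :=
    { exact := ShortComplex.exact_cokernel s₁
      mono_f := inferInstanceAs (Mono s₁)
      epi_g := inferInstanceAs (Epi (cokernel.π s₁)) }
  have hexS : Function.Exact (stalkLin s₁ x) (stalkLin (cokernel.π s₁) x) := stalkLin_exact S hS x
  have hπs : Function.Surjective (stalkLin (cokernel.π s₁) x) :=
    stalkLin_surjective (cokernel.π s₁) x
  have hcomp : stalkLin t x = (stalkLin (cokernel.π s₁) x) ∘ₗ (stalkLin s₂ x) := by
    apply LinearMap.ext
    intro y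
    rw [htdef, stalkLin_comp']
    rfl
  rw [hcomp] at hnsurj
  obtain ⟨α, hα⟩ := exists_sub_smul_range_le (iotaAt k X x) hιsurj b hb q hq
    (stalkLin s₁ x) (stalkLin s₂ x) (stalkLin (cokernel.π s₁) x) hπs hexS hnsurj
  have hσπ : (s₂ - α • s₁) ≫ cokernel.π s₁ = t := by
    rw [Preadditive.sub_comp, Linear.smul_comp, cokernel.condition, smul_zero, sub_zero, htdef]
  have hσ : s₂ - α • s₁ ≠ 0 := by
    intro h
    apply ht
    rw [← hσπ, h, zero_comp]
  refine ⟨α, hσ, fun hlf => ?_⟩
  haveI : Mono (s₂ - α • s₁) := mono_of_section_ne_zero k X hdim hreg hE _ hσ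
  obtain ⟨s', hC⟩ := exists_rank_of_isFinLocFree (cokernel (s₂ - α • s₁)) hlf
  obtain ⟨f4, t4, r4⟩ := Groth.Agent.Lib.R2H4DegAdd.stalk_facts hC x
  haveI := f4
  let S' : ShortComplex X.Modules := ShortComplex.mk (s₂ - α • s₁) (cokernel.π (s₂ - α • s₁))
    (cokernel.condition _)
  have hS' : S'.ShortExact :=
    { exact := ShortComplex.exact_cokernel _
      mono_f := inferInstanceAs (Mono (s₂ - α • s₁))
      epi_g := inferInstanceAs (Epi (cokernel.π (s₂ - α • s₁))) }
  haveI : Nontrivial ((Coh.structureModule X).presheaf.stalk x) :=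
    Module.nontrivial_of_finrank_pos (R := X.presheaf.stalk x) (by rw [r1]; norm_num)
  refine not_range_le_smul_of_projective (stalkLin (s₂ - α • s₁) x)
    (stalkLin (cokernel.π (s₂ - α • s₁)) x) (stalkLin_injective _ x)
    (stalkLin_surjective _ x) (stalkLin_exact S' hS' x) ?_
  rw [stalkLin_sub, stalkLin_smul]
  exact hα

end Part2

section Part3

open Groth.Agent.Lib.R2H1.VBSub Groth.Agent.Lib.R2H1.VBRankTwo Groth.Agent.Lib.R2H1.VBSlopeB
open Groth.Agent.Lib.R2H1.VBSat Groth.Agent.Lib.R2H1.CurveEuler Groth.Agent.Lib.R2H1.VBHZero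
open Groth.Agent.Lib.R2H1.VBTwist Groth.Agent.Lib.R2H1.VBTwistB Groth.Agent.Lib.R2H1.CurveDegSec
open Groth.Agent.Lib.R2H1.VBIndecTwo Groth.Agent.Lib.R2H1.VBEndo Groth.Agent.Lib.R2H1.VBFitting

variable (k : Type u) [Field k] [IsAlgClosed k] (X : Scheme.{u}) [X.Over (Spec (CommRingCat.of k))]
    [IsProper (X ↘ (Spec (CommRingCat.of k)))] [IsIntegral X]

/-- if all invertible subsheaves have nonpositive degree, nonzero sections have locally free
cokernel -/
theorem isFinLocFree_cokernel_section_of_max (hdim : topologicalKrullDim X = 1)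
    (hreg : ∀ x : X, IsRegularLocalRing (X.presheaf.stalk x))
    {F : X.Modules} {r : ℕ} (hF : FlatMod.IsFinLocFreeOfRank r F)
    (hmax : ∀ (N : X.Modules) (j : N ⟶ F), FlatMod.IsFinLocFreeOfRank 1 N → Mono j →
      Curv2.deg k X N 1 ≤ 0)
    (s : Coh.structureModule X ⟶ F) (hs : s ≠ 0) :
    FlatMod.IsFinLocFree (cokernel s) := by
  haveI : Mono s := mono_of_section_ne_zero k X hdim hreg hF s hs
  have hO1 := structure_rank_one X
  by_contra hnf
  obtain ⟨L, j, ℓ, hj, hℓ, hL, hlt⟩ := exists_enlarge k X hdim hreg hO1 hF s hnf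
  rw [deg_structure k X] at hlt
  have := hmax L j hL hj
  omega

/-- genus one: a rank two bundle with a section all of whose invertible subsheaves have
nonpositive degree has degree at most one -/
theorem deg_le_one_of_max (hdim : topologicalKrullDim X = 1)
    (hreg : ∀ x : X, IsRegularLocalRing (X.presheaf.stalk x)) (hg : Curv2.genus k X = 1)
    {F : X.Modules} (hF : FlatMod.IsFinLocFreeOfRank 2 F)
    (s₁ : Coh.structureModule X ⟶ F) (hs₁ : s₁ ≠ 0)
    (hmax : ∀ (N : X.Modules) (j : N ⟶ F), FlatMod.IsFinLocFreeOfRank 1 N → Mono j →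
      Curv2.deg k X N 1 ≤ 0) :
    Curv2.deg k X F 2 ≤ 1 := by
  haveI := isNoetherian_of_proper k X
  by_contra hcon
  push_neg at hcon
  have hO1 := structure_rank_one X
  haveI : Mono s₁ := mono_of_section_ne_zero k X hdim hreg hF s₁ hs₁
  have hlf := isFinLocFree_cokernel_section_of_max k X hdim hreg hF hmax s₁ hs₁
  obtain ⟨s', hQ⟩ := exists_rank_of_isFinLocFree (cokernel s₁) hlf
  let T : ShortComplex X.Modules := ShortComplex.mk s₁ (cokernel.π s₁) (cokernel.condition s₁)
  have hT : T.ShortExact :=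
    { exact := ShortComplex.exact_cokernel s₁
      mono_f := inferInstanceAs (Mono s₁)
      epi_g := inferInstanceAs (Epi (cokernel.π s₁)) }
  have hrk : 2 = 1 + s' := Groth.Agent.Lib.R2H4DegAdd.rank_add T hT 1 2 s' hO1 hF hQ
  have hs' : s' = 1 := by omega
  subst hs'
  have hdegF : Curv2.deg k X F 2 = Curv2.deg k X (Coh.structureModule X) 1 +
      Curv2.deg k X (cokernel s₁) 1 :=
    Groth.Agent.Lib.R2H4DegAdd.main k X T hT 1 2 1 hO1 hF hQ
  rw [deg_structure k X, zero_add] at hdegF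
  -- h⁰(F) ≥ 2
  have cF := Groth.Agent.Lib.R2H1.DegTensor.isCoh_of_rank' hF
  have hχ := euler_eq_h0_sub_h1 k X hdim.le _ cF.1
  have hO := Groth.Agent.Lib.R2H1.LiftZero.euler_structure k X hdim
  rw [hg] at hO
  have h0F : 2 ≤ Module.finrank k (Coh.HH X F 0) := by
    have hd : Curv2.deg k X F 2 = Curv2.euler k X F - 2 * Curv2.euler k X (Coh.structureModule X) := by
      unfold Curv2.deg
      push_cast
      ring
    rw [hO, hχ] at hd
    have h1 : (0 : ℤ) ≤ Module.finrank k (Coh.HH X F 1) := by positivity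
    have : (2 : ℤ) ≤ Module.finrank k (Coh.HH X F 0) := by
      push_cast at hd
      linarith
    exact_mod_cast this
  -- a second section with nonzero image in the quotient
  have hex : ∃ s₂ : Coh.structureModule X ⟶ F, s₂ ≫ cokernel.π s₁ ≠ 0 := by
    by_contra hall
    push_neg at hall
    have hsurj : Function.Surjective (Linear.rightComp k (Coh.structureModule X) s₁) := by
      intro s₂
      exact ⟨Abelian.monoLift s₁ s₂ (hall s₂), Abelian.monoLift_comp s₁ s₂ (hall s₂)⟩
    haveI := Groth.Agent.Lib.R2H1.EulerAdd.finite_HH k X _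
      (Groth.Agent.Lib.R2H1.DegTensor.isCoh_of_rank' hO1) 0
    haveI : Module.Finite k (Coh.structureModule X ⟶ Coh.structureModule X) :=
      Module.Finite.equiv (Groth.Agent.Lib.R2H2.PnBeilinson.clsEquiv (k := k) _).symm
    have h1 := LinearMap.finrank_le_finrank_of_surjective hsurj
    rw [(Groth.Agent.Lib.R2H2.PnBeilinson.clsEquiv (k := k) F).finrank_eq,
      (Groth.Agent.Lib.R2H2.PnBeilinson.clsEquiv (k := k) (Coh.structureModule X)).finrank_eq,
      Groth.Agent.Lib.R2H1.RegPoint.finrank_H0_structure_eq_one k X] at h1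
    omega
  obtain ⟨s₂, hs₂⟩ := hex
  have hni : ¬ IsIso (s₂ ≫ cokernel.π s₁) := by
    intro hiso
    have := Groth.Agent.Lib.R2H1.CurveAmple.deg_congr k X (asIso (s₂ ≫ cokernel.π s₁)) 1
    rw [deg_structure k X] at this
    omega
  obtain ⟨α, hσ, hbad⟩ := exists_section_bad k X hdim hreg hF s₁ s₂ hQ hs₂ hni
  exact hbad (isFinLocFree_cokernel_section_of_max k X hdim hreg hF hmax _ hσ)

end Part3

section Part4

open Groth.Agent.Lib.R2H1.VBSub Groth.Agent.Lib.R2H1.VBRankTwo Groth.Agent.Lib.R2H1.VBSlopeB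
open Groth.Agent.Lib.R2H1.VBSat Groth.Agent.Lib.R2H1.CurveEuler Groth.Agent.Lib.R2H1.VBHZero
open Groth.Agent.Lib.R2H1.VBTwist Groth.Agent.Lib.R2H1.VBTwistB Groth.Agent.Lib.R2H1.CurveDegSec
open Groth.Agent.Lib.R2H1.VBIndecTwo Groth.Agent.Lib.R2H1.VBEndo Groth.Agent.Lib.R2H1.VBFitting
open Groth.Agent.Lib.R2H1.VBNormTwo
open Groth.Agent.Lib.Helper21.ModTensor3 Groth.Agent.Lib.Helper21.ModTensor5
  Groth.Agent.Lib.Helper21.ModTensor6 Groth.Agent.Lib.Helper21.ModTensor7

section Site
variable {C : Type u} [SmallCategory C] {J : GrothendieckTopology C} (O : Sheaf J CommRingCat.{u})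

/-- untwisting a nonzero map into `E ⊗ L'` -/
theorem exists_hom_ne_zero_of_twist_site {N E L L' : ModSite.Mod O}
    (e' : ((ModSite.tensorBi O).obj L').obj L ≅ ModSite.unit O)
    (j : N ⟶ ((ModSite.tensorBi O).obj E).obj L') (hj : j ≠ 0) :
    ∃ ψ : ((ModSite.tensorBi O).obj L).obj N ⟶ E, ψ ≠ 0 := by
  haveI := faithful_tL_of_inverse O L' L e'
  have h1 : (tL O L).map j ≠ 0 := by
    intro h
    apply hj
    apply (tL O L).map_injective
    rw [h, CategoryTheory.Functor.map_zero]
  let Φ : (tL O L).obj (((ModSite.tensorBi O).obj E).obj L') ≅ E :=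
    brdApp O L (((ModSite.tensorBi O).obj E).obj L') ≪≫ (tLTensorIso O E L').app L ≪≫
      (tL O E).mapIso e' ≪≫ Groth.Agent.Lib.Helper21.Dual.rU O E
  refine ⟨(tL O L).map j ≫ Φ.hom, fun h => h1 ?_⟩
  have h2 : (tL O L).map j = ((tL O L).map j ≫ Φ.hom) ≫ Φ.inv := by
    rw [Category.assoc, Iso.hom_inv_id, Category.comp_id]
  rw [h2, h, zero_comp]

end Site

section A
variable {X : Scheme.{u}}

theorem exists_hom_ne_zero_of_twist {N E L L' : X.Modules}
    (e' : CohB1.tensorMod L' L ≅ Coh.structureModule X)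
    (j : N ⟶ CohB1.tensorMod E L') (hj : j ≠ 0) :
    ∃ ψ : CohB1.tensorMod L N ⟶ E, ψ ≠ 0 :=
  exists_hom_ne_zero_of_twist_site X.sheaf e' j hj

end A

variable (k : Type u) [Field k] [IsAlgClosed k] (X : Scheme.{u}) [X.Over (Spec (CommRingCat.of k))]
    [IsProper (X ↘ (Spec (CommRingCat.of k)))] [IsIntegral X]

/-- S11348 core -/
theorem s11348 (hdim : topologicalKrullDim X = 1)
    (hreg : ∀ x : X, IsRegularLocalRing (X.presheaf.stalk x)) (hg : Curv2.genus k X = 1)
    (E : X.Modules) (hE : FlatMod.IsFinLocFreeOfRank 2 E)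
    (hn0 : Nontrivial (Coh.HH X E 0))
    (hneg : ∀ M : X.Modules, PicF.IsInvertible M → Curv2.deg k X M 1 < 0 →
      Subsingleton (Coh.HH X (CohB1.tensorMod E M) 0))
    (hind : ∀ L₁ L₂ : X.Modules, PicF.IsInvertible L₁ → PicF.IsInvertible L₂ →
      IsEmpty (E ≅ L₁ ⊞ L₂)) :
    Curv2.deg k X E 2 = 0 ∨ Curv2.deg k X E 2 = 1 := by
  obtain ⟨h1, h2⟩ := s11347 k X hdim hreg E hE hn0 hneg hind
  rw [hg] at h1 h2
  obtain ⟨s, hs⟩ := exists_section_ne_zero k X E hn0
  have h3 := deg_le_one_of_max k X hdim hreg hg hE s hs (fun N j hN hj => by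
    haveI := hj
    exact deg_le_zero_of_normalized k X hdim (isInvertible_of_rank_one hN) j
      (mono_ne_zero_of_isInvertible (isInvertible_of_rank_one hN) j) hneg)
  push_cast at h1 h2
  omega

/-- twisting by the inverse of a maximal invertible subsheaf normalises -/
theorem exists_twist_max (hdim : topologicalKrullDim X = 1)
    (hreg : ∀ x : X, IsRegularLocalRing (X.presheaf.stalk x))
    {E : X.Modules} (hE : FlatMod.IsFinLocFreeOfRank 2 E) (L : X.Modules)
    (hL : PicF.IsInvertible L) (ι : L ⟶ E) [Mono ι]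
    (hmaxE : ∀ (N : X.Modules) (j : N ⟶ E), FlatMod.IsFinLocFreeOfRank 1 N → Mono j →
      Curv2.deg k X N 1 ≤ Curv2.deg k X L 1) :
    ∃ (F : X.Modules) (s : Coh.structureModule X ⟶ F), FlatMod.IsFinLocFreeOfRank 2 F ∧ s ≠ 0 ∧
      Curv2.deg k X F 2 = Curv2.deg k X E 2 - 2 * Curv2.deg k X L 1 ∧
      (∀ (N : X.Modules) (j : N ⟶ F), FlatMod.IsFinLocFreeOfRank 1 N → Mono j →
        Curv2.deg k X N 1 ≤ 0) := by
  haveI := isNoetherian_of_proper k X
  obtain ⟨L', hL', ⟨e⟩⟩ := Groth.Agent.Lib.R2H1.InvExists.exists_inverse L hL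
  have hL1 := Groth.Agent.Lib.Helper23.SecTw.isFinLocFreeOfRank_one_of_isInvertible L hL
  have hL'1 := Groth.Agent.Lib.Helper23.SecTw.isFinLocFreeOfRank_one_of_isInvertible L' hL'
  obtain ⟨s, hs⟩ := exists_section_twist_ne_zero e ι (mono_ne_zero_of_isInvertible hL ι)
  have hF : FlatMod.IsFinLocFreeOfRank 2 (CohB1.tensorMod E L') :=
    Groth.Agent.Lib.R2H1.DegCartier.isFinLocFreeOfRank_tensor_invertible 2 E L' hE hL'
  have hdeg := Groth.Agent.Lib.R2H1.DegTensor.s7637 k X hdim.le 2 1 E L' hE hL'1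
  simp only [Nat.cast_one, mul_one, Nat.cast_ofNat, one_mul] at hdeg
  rw [deg_inverse k X hdim hL1 hL'1 e] at hdeg
  refine ⟨CohB1.tensorMod E L', s, hF, hs, by rw [hdeg]; ring, ?_⟩
  intro N j hN hj
  haveI := hj
  have hNi := isInvertible_of_rank_one hN
  obtain ⟨ψ, hψ⟩ := exists_hom_ne_zero_of_twist (brdApp X.sheaf L' L ≪≫ e) j
    (mono_ne_zero_of_isInvertible hNi j)
  have hLN : PicF.IsInvertible (CohB1.tensorMod L N) :=
    Groth.Agent.Lib.Helper23.SecTw.isInvertible_tensorMod hL hNi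
  have hLN1 := Groth.Agent.Lib.Helper23.SecTw.isFinLocFreeOfRank_one_of_isInvertible _ hLN
  have hmono : Mono ψ := mono_of_rank_one_ne_zero k X hdim hreg hLN1 hE ψ hψ
  have h1 := hmaxE _ ψ hLN1 hmono
  rw [deg_tensor_invertible k X hdim hL hNi] at h1
  linarith

end Part4

end Groth.Agent.Lib.R2H1.VBGenusOneB
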