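import Mathlib
import Groth.Agent.Lib.R2H1VBGenusOneB
import Groth.Agent.Lib.R2H1VBDestab
set_option backward.isDefEq.respectTransparency.types false

/-!
Twisted (Higgs) pairs on curves: isEquivalence_tR_of_inverse, exists_lift_of_exact, deg_sub_twist_lt, s16004 (semistable pair with degree zero twist has semistable underlying bundle; via the maximal destabilising subsheaf).
-/

set_option autoImplicit false
set_option linter.style.haveILetI false
set_option linter.unusedSectionVars false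
universe u v

open CategoryTheory CategoryTheory.Limits AlgebraicGeometry TopologicalSpace Opposite

namespace Groth.Agent.Lib.R2H1.VBHiggs

section Part1

open Groth.Agent.Lib.R2H1.VBSub Groth.Agent.Lib.R2H1.VBRankTwo Groth.Agent.Lib.R2H1.VBSlopeB
open Groth.Agent.Lib.R2H1.VBSat Groth.Agent.Lib.R2H1.CurveEuler Groth.Agent.Lib.R2H1.VBHZero
open Groth.Agent.Lib.R2H1.VBTwist Groth.Agent.Lib.R2H1.VBTwistB Groth.Agent.Lib.R2H1.CurveDegSec
open Groth.Agent.Lib.R2H1.VBDestab Groth.Agent.Lib.R2H1.DegCartier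
open Groth.Agent.Lib.Helper21.ModTensor3 Groth.Agent.Lib.Helper21.ModTensor5
  Groth.Agent.Lib.Helper21.ModTensor6 Groth.Agent.Lib.Helper21.ModTensor7

section Site
variable {C : Type u} [SmallCategory C] {J : GrothendieckTopology C} (O : Sheaf J CommRingCat.{u})

/-- tensoring on the right with a module admitting a tensor inverse is an equivalence -/
theorem isEquivalence_tR_of_inverse (L L' : ModSite.Mod O)
    (e : ((ModSite.tensorBi O).obj L).obj L' ≅ ModSite.unit O) : (tR O L).IsEquivalence := by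
  haveI := isEquivalence_tL_of_inverse O L L' e
  exact Functor.isEquivalence_of_iso ((brd O).app L)

end Site

section Cat
variable {C D : Type*} [Category C] [Category D] [Abelian C] [Abelian D]

/-- lifting through the image of a short exact sequence under an exact functor -/
theorem exists_lift_of_exact (F : C ⥤ D) [F.Additive] [PreservesFiniteLimits F]
    [PreservesFiniteColimits F] (T : ShortComplex C) (hT : T.ShortExact) {A : D}
    (g : A ⟶ F.obj T.X₂) (h : g ≫ F.map T.g = 0) : ∃ χ : A ⟶ F.obj T.X₁, χ ≫ F.map T.f = g := by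
  have hTF : (T.map F).ShortExact := hT.map_of_exact F
  haveI := hTF.mono_f
  exact ⟨hTF.exact.lift g h, hTF.exact.lift_f g h⟩

end Cat

variable (k : Type u) [Field k] (X : Scheme.{u}) [X.Over (Spec (CommRingCat.of k))]
    [IsProper (X ↘ (Spec (CommRingCat.of k)))] [IsIntegral X]

/-- submodules of a twist by a degree zero invertible module -/
theorem deg_sub_twist_lt (hdim : topologicalKrullDim X = 1)
    {Q L L' : X.Modules} (hL : PicF.IsInvertible L) (hL' : PicF.IsInvertible L')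
    (e : CohB1.tensorMod L L' ≅ Coh.structureModule X) (hL0 : Curv2.deg k X L 1 = 0)
    {r₁ : ℕ} (d₁ : ℤ)
    (hdrop : ∀ (G : X.Modules) (s : ℕ) (j : G ⟶ Q), Mono j → 0 < s →
      FlatMod.IsFinLocFreeOfRank s G → Curv2.deg k X G s * (r₁ : ℤ) < d₁ * (s : ℤ))
    (G : X.Modules) (r' : ℕ) (i : G ⟶ CohB1.tensorMod Q L) (hi : Mono i) (hr' : 0 < r')
    (hG : FlatMod.IsFinLocFreeOfRank r' G) :
    Curv2.deg k X G r' * (r₁ : ℤ) < d₁ * (r' : ℤ) := by
  haveI := hi
  have hL1 := Groth.Agent.Lib.Helper23.SecTw.isFinLocFreeOfRank_one_of_isInvertible _ hL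
  have hL'1 := Groth.Agent.Lib.Helper23.SecTw.isFinLocFreeOfRank_one_of_isInvertible _ hL'
  haveI : (tR X.sheaf L').IsEquivalence :=
    isEquivalence_tR_of_inverse X.sheaf L' L (brdApp X.sheaf L' L ≪≫ e)
  have hmono : Mono ((tR X.sheaf L').map i ≫ (tensorInvIso Q L L' e).hom) := by
    haveI : Mono ((tR X.sheaf L').map i) :=
      @Functor.map_mono _ _ _ _ (tR X.sheaf L') inferInstance _ _ i hi
    exact mono_comp _ _
  have hG' : FlatMod.IsFinLocFreeOfRank r' (CohB1.tensorMod G L') :=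
    isFinLocFreeOfRank_tensor_invertible r' G L' hG hL'
  have h := hdrop (CohB1.tensorMod G L') r'
    ((tR X.sheaf L').map i ≫ (tensorInvIso Q L L' e).hom) hmono hr' hG'
  have hdeg := Groth.Agent.Lib.R2H1.DegTensor.s7637 k X hdim.le r' 1 G L' hG hL'1
  simp only [Nat.cast_one, mul_one, one_mul] at hdeg
  rw [deg_inverse k X hdim hL1 hL'1 e, hL0] at hdeg
  rw [hdeg] at h
  simpa using h

/-- S16004 core -/
theorem s16004 (hdim : topologicalKrullDim X = 1)
    (hreg : ∀ x : X, IsRegularLocalRing (X.presheaf.stalk x))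
    (L : X.Modules) (hL : PicF.IsInvertible L) (hL0 : Curv2.deg k X L 1 = 0)
    (r : ℕ) (hr : 0 < r) (E : X.Modules) (hE : FlatMod.IsFinLocFreeOfRank r E)
    (φ : E ⟶ CohB1.tensorMod E L)
    (hss : (∀ (G : X.Modules) (n : ℕ) (j : G ⟶ E) (χ : G ⟶ CohB1.tensorMod G L), Mono j → 0 < n →
      FlatMod.IsFinLocFreeOfRank n G →
      χ ≫ (CohB1.sheafifyMod X).map (MonoidalCategoryStruct.whiskerRight (C := CohB1.PMod X) j.val (CohB1.toPMod L)) = j ≫ φ →
      Curv2.deg k X G n * (r : ℤ) ≤ Curv2.deg k X E r * (n : ℤ))) :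
    ∀ (G : X.Modules) (n : ℕ) (j : G ⟶ E), Mono j → 0 < n → FlatMod.IsFinLocFreeOfRank n G →
      Curv2.deg k X G n * (r : ℤ) ≤ Curv2.deg k X E r * (n : ℤ) := by
  haveI := isNoetherian_of_proper k X
  obtain ⟨⟨E₁, r₁, i₁, hi₁, hr₁, hE₁, hmax, hdrop⟩, -⟩ := s16470 k X hdim hreg r hr E hE
  haveI := hi₁
  have hE₁ss : ModFun.IsSlopeSemistable k X E₁ r₁ := fun G r' i hi hr' hG => by
    haveI := hi
    exact hmax G r' (i ≫ i₁) (mono_comp _ _) hr' hG
  have hlf : FlatMod.IsFinLocFree (cokernel i₁) := by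
    by_contra hnf
    obtain ⟨G'', j, ℓ, hj, hℓ, hG'', hlt⟩ := exists_enlarge k X hdim hreg hE₁ hE i₁ hnf
    have h := hmax G'' r₁ j hj hr₁ hG''
    have hr₁Z : (0 : ℤ) < (r₁ : ℤ) := by exact_mod_cast hr₁
    nlinarith [mul_lt_mul_of_pos_right hlt hr₁Z]
  obtain ⟨s, hQ⟩ := exists_rank_of_isFinLocFree (cokernel i₁) hlf
  obtain ⟨L', hL', ⟨e⟩⟩ := Groth.Agent.Lib.R2H1.InvExists.exists_inverse L hL
  haveI : (tR X.sheaf L).IsEquivalence := isEquivalence_tR_of_inverse X.sheaf L L' e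
  let T : ShortComplex X.Modules := ShortComplex.mk i₁ (cokernel.π i₁) (cokernel.condition i₁)
  have hT : T.ShortExact :=
    { exact := ShortComplex.exact_cokernel i₁
      mono_f := inferInstanceAs (Mono i₁)
      epi_g := inferInstanceAs (Epi (cokernel.π i₁)) }
  have hc : (i₁ ≫ φ) ≫ (tR X.sheaf L).map (cokernel.π i₁) = 0 := by
    rcases Nat.eq_zero_or_pos s with hs | hs
    · subst hs
      have hz : IsZero (cokernel i₁) := Groth.Agent.Lib.R2H2.AmpleElt.isZero_of_rank_zero hQ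
      have hz' : IsZero ((tR X.sheaf L).obj (cokernel i₁)) :=
        (tR X.sheaf L).map_isZero hz
      exact hz'.eq_of_tgt _ _
    · have hQL : FlatMod.IsFinLocFreeOfRank s (CohB1.tensorMod (cokernel i₁) L) :=
        isFinLocFreeOfRank_tensor_invertible s _ L hQ hL
      exact hom_eq_zero_of_sub_slopes_lt k X hdim hreg r₁ s hr₁ hs E₁
        (CohB1.tensorMod (cokernel i₁) L) hE₁ hQL hE₁ss
        (fun G r' i hi hr' hG => deg_sub_twist_lt k X hdim hL hL' e hL0 (Curv2.deg k X E₁ r₁)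
          hdrop G r' i hi hr' hG) _
  obtain ⟨χ, hχ⟩ := exists_lift_of_exact (tR X.sheaf L) T hT (i₁ ≫ φ) hc
  have h1 := hss E₁ r₁ i₁ χ hi₁ hr₁ hE₁ hχ
  intro G n j hj hn hG
  have h2 := hmax G n j hj hn hG
  have hr₁Z : (0 : ℤ) < (r₁ : ℤ) := by exact_mod_cast hr₁
  have hnZ : (0 : ℤ) < (n : ℤ) := by exact_mod_cast hn
  have hrZ : (0 : ℤ) < (r : ℤ) := by exact_mod_cast hr
  refine le_of_mul_le_mul_right ?_ hr₁Z
  nlinarith [mul_le_mul_of_nonneg_right h2 hrZ.le, mul_le_mul_of_nonneg_right h1 hnZ.le]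

end Part1

end Groth.Agent.Lib.R2H1.VBHiggs
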