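import Mathlib
import Groth.Agent.Lib.R2H1PointTwist
import Groth.Agent.Lib.R2H1VBHiggs
import Groth.Agent.Lib.R2H1VBTwist
set_option backward.isDefEq.respectTransparency.types false

/-!
helper1 (run 2): twisting vector bundles by points, naturality. API: eU, twistMap (G (x) I_D -> G), twistMap_nat, mono_twistMap, not_factor_of_section, not_factor_of_mem_genLocus, h0_twist_rank_two (rank 2 bundle filtered by line bundles having sections generating at p: h0 drops by 2), s12634.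
-/

set_option autoImplicit false
set_option linter.style.haveILetI false
set_option linter.unusedSectionVars false
universe u v

open CategoryTheory CategoryTheory.Limits AlgebraicGeometry TopologicalSpace Opposite

namespace Groth.Agent.Lib.R2H1.PointTwistB

section Part1

open Groth.Agent.Lib.R2H1.PointTwist

open Groth.Agent.Lib.R2H1.DegCartier Groth.Agent.Lib.R2H1.SkyDecomp Groth.Agent.Lib.R2H2.DevA
open Groth.Agent.Lib.Helper21.ModTensor Groth.Agent.Lib.Helper21.ModTensor2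
open Groth.Agent.Lib.Helper21.ModTensor5 Groth.Agent.Lib.Helper21.ModTensor6
open Groth.Agent.Lib.Helper21.ModTensor7 Groth.Agent.Lib.Helper21.ModTensor3
open Groth.Agent.Lib.Helper21.Dual
open Groth.Agent.Lib.R2H1.RegPoint Groth.Agent.Lib.R2H1.CurveEuler Groth.Agent.Lib.R2H1.CurveDegSec
  Groth.Agent.Lib.R2H1.EulerAdd Groth.Agent.Lib.R2H2.HHLin Groth.Agent.Lib.R2H2.PnLinRes
  Groth.Agent.Lib.R2H1.GenusZero Groth.Agent.Lib.R2H1.DegNonpos Groth.Agent.Lib.R2H1.NonSpecial

variable {X : Scheme.{u}}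

/-- the unit isomorphism `G ⊗ O ≅ G`, typed on the twisted ideal sequence -/
noncomputable def eU (D : X.IdealSheafData) (G : X.Modules) :
    ((idealSeq D).map (DCoh.tensorBi.obj G)).X₂ ≅ G := rU X.sheaf G

/-- the canonical map `G ⊗ I_D ⟶ G` -/
noncomputable def twistMap (D : X.IdealSheafData) (G : X.Modules) :
    ((idealSeq D).map (DCoh.tensorBi.obj G)).X₁ ⟶ G :=
  ((idealSeq D).map (DCoh.tensorBi.obj G)).f ≫ (eU D G).hom

theorem twistMap_nat (D : X.IdealSheafData) {G G' : X.Modules} (φ : G ⟶ G')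
    (ψ : ((idealSeq D).map (DCoh.tensorBi.obj G)).X₁ ⟶
      ((idealSeq D).map (DCoh.tensorBi.obj G')).X₁)
    (hψ : ψ = (tR X.sheaf (ClSub.idealMod D)).map φ) :
    ψ ≫ twistMap D G' = twistMap D G ≫ φ := by
  subst hψ
  have h1 : (tR X.sheaf (ClSub.idealMod D)).map φ ≫ ((idealSeq D).map (DCoh.tensorBi.obj G')).f =
      ((idealSeq D).map (DCoh.tensorBi.obj G)).f ≫ (tR X.sheaf (ModSite.unit X.sheaf)).map φ :=
    ((DCoh.tensorBi.map φ).naturality (idealSeq D).f).symm
  have h2 : (tR X.sheaf (ModSite.unit X.sheaf)).map φ ≫ (eU D G').hom = (eU D G).hom ≫ φ :=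
    rU_nat X.sheaf φ
  have e1 := congrArg (fun z => z ≫ (eU D G').hom) h1
  have e2 := congrArg (fun z => ((idealSeq D).map (DCoh.tensorBi.obj G)).f ≫ z) h2
  exact (Category.assoc _ _ _).symm.trans (e1.trans ((Category.assoc _ _ _).trans
    (e2.trans (Category.assoc _ _ _).symm)))

end Part1

section Part2

open Groth.Agent.Lib.R2H1.PointTwist

open Groth.Agent.Lib.R2H1.DegCartier Groth.Agent.Lib.R2H1.SkyDecomp Groth.Agent.Lib.R2H2.DevA
open Groth.Agent.Lib.Helper21.ModTensor Groth.Agent.Lib.Helper21.ModTensor2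
open Groth.Agent.Lib.Helper21.ModTensor5 Groth.Agent.Lib.Helper21.ModTensor6
open Groth.Agent.Lib.Helper21.ModTensor7 Groth.Agent.Lib.Helper21.ModTensor3
open Groth.Agent.Lib.Helper21.Dual
open Groth.Agent.Lib.R2H1.RegPoint Groth.Agent.Lib.R2H1.CurveEuler Groth.Agent.Lib.R2H1.CurveDegSec
  Groth.Agent.Lib.R2H1.EulerAdd Groth.Agent.Lib.R2H2.HHLin Groth.Agent.Lib.R2H2.PnLinRes
  Groth.Agent.Lib.R2H1.GenusZero Groth.Agent.Lib.R2H1.DegNonpos Groth.Agent.Lib.R2H1.NonSpecial
  Groth.Agent.Lib.R2H1.VBHiggs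

section General

variable (k : Type u) [Field k] (X : Scheme.{u}) [X.Over (Spec (CommRingCat.of k))]
    [IsProper (X ↘ (Spec (CommRingCat.of k)))]

include k in
/-- the twist map of a finite locally free module is a monomorphism -/
theorem mono_twistMap (hdim : topologicalKrullDim X ≤ 1) (D : X.IdealSheafData)
    (hD : BlowUp.IsEffCartierIdeal D) (n : ℕ) (G : X.Modules)
    (hG : FlatMod.IsFinLocFreeOfRank n G) : Mono (twistMap D G) := by
  obtain ⟨hS, -⟩ := twist_seq_facts k X hdim D hD n G hG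
  haveI := hS.mono_f
  unfold twistMap
  exact mono_comp _ _

/-- a section generating near the support of `D` does not factor through the twist map -/
theorem not_factor_of_section (hdim : topologicalKrullDim X ≤ 1) (D : X.IdealSheafData)
    (hD : BlowUp.IsEffCartierIdeal D)
    (hQ1 : Module.finrank k (Coh.HH X (ClSub.quotMod D) 0) = 1)
    (L : X.Modules) (hL : PicF.IsInvertible L)
    (w : Coh.structureModule X ⟶ L) (U : X.Opens)
    (hUiso : IsIso ((Scheme.Modules.restrictFunctor U.ι).map w))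
    (hsupp : (D.support : Set X) ⊆ (U : Set X))
    (σ : Coh.structureModule X ⟶ ((idealSeq D).map (DCoh.tensorBi.obj L)).X₁) :
    σ ≫ twistMap D L ≠ w := by
  intro h
  obtain ⟨τ, hτ⟩ : ∃ τ : Coh.structureModule X ⟶ ((idealSeq D).map (DCoh.tensorBi.obj L)).X₂,
      τ = w ≫ (eU D L).inv := ⟨_, rfl⟩
  have hτiso : IsIso ((Scheme.Modules.restrictFunctor U.ι).map τ) := by
    haveI := hUiso
    rw [hτ, Functor.map_comp]
    infer_instance
  have hne := comp_g_ne_zero k X hdim D hD hQ1 L hL τ U hτiso hsupp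
  apply hne
  have h1 : τ = σ ≫ ((idealSeq D).map (DCoh.tensorBi.obj L)).f := by
    rw [hτ, ← h]
    unfold twistMap
    rw [Category.assoc, Category.assoc, Iso.hom_inv_id, Category.comp_id]
  rw [h1]
  exact (Category.assoc _ _ _).trans ((congrArg (fun z => σ ≫ z)
    ((idealSeq D).map (DCoh.tensorBi.obj L)).zero).trans comp_zero)

end General

section AlgClosed

variable (k : Type u) [Field k] [IsAlgClosed k] (X : Scheme.{u}) [X.Over (Spec (CommRingCat.of k))]
    [IsIntegral X] [IsProper (X ↘ (Spec (CommRingCat.of k)))]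

include k in
/-- a section generating at a closed point does not factor through the twist by that point -/
theorem not_factor_of_mem_genLocus (hdim : topologicalKrullDim X = 1)
    (hreg : ∀ x : X, IsRegularLocalRing (X.presheaf.stalk x))
    (L : X.Modules) (hL : PicF.IsInvertible L) (w : Coh.structureModule X ⟶ L)
    (P : X) (hP : IsClosed ({P} : Set X)) (hPw : P ∈ CohB1.genLocus L w)
    (σ : Coh.structureModule X ⟶ ((idealSeq
      (Scheme.IdealSheafData.vanishingIdeal ⟨{P}, hP⟩)).map (DCoh.tensorBi.obj L)).X₁) :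
    σ ≫ twistMap (Scheme.IdealSheafData.vanishingIdeal ⟨{P}, hP⟩) L ≠ w := by
  obtain ⟨U, hUiso, hxU⟩ : ∃ U : X.Opens,
      IsIso ((Scheme.Modules.restrictFunctor U.ι).map w) ∧ P ∈ U := by
    obtain ⟨U, h, hx⟩ := Opens.mem_sSup.mp hPw
    exact ⟨U, h, hx⟩
  have hsupp : ((Scheme.IdealSheafData.vanishingIdeal ⟨{P}, hP⟩).support : Set X) ⊆
      (U : Set X) := by
    intro y hy
    have : y = P := hy
    rw [this]
    exact hxU
  exact not_factor_of_section k X hdim.le _ (point_isEffCartier k X hdim hreg P hP)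
    (finrank_H0_quotMod_point k X P hP) L hL w U hUiso hsupp σ

end AlgClosed

end Part2

section Part3

open Groth.Agent.Lib.R2H1.PointTwist

open Groth.Agent.Lib.R2H1.DegCartier Groth.Agent.Lib.R2H1.SkyDecomp Groth.Agent.Lib.R2H2.DevA
open Groth.Agent.Lib.Helper21.ModTensor Groth.Agent.Lib.Helper21.ModTensor2
open Groth.Agent.Lib.Helper21.ModTensor5 Groth.Agent.Lib.Helper21.ModTensor6
open Groth.Agent.Lib.Helper21.ModTensor7 Groth.Agent.Lib.Helper21.ModTensor3
open Groth.Agent.Lib.Helper21.Dual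
open Groth.Agent.Lib.R2H1.RegPoint Groth.Agent.Lib.R2H1.CurveEuler Groth.Agent.Lib.R2H1.CurveDegSec
  Groth.Agent.Lib.R2H1.EulerAdd Groth.Agent.Lib.R2H2.HHLin Groth.Agent.Lib.R2H2.PnLinRes
  Groth.Agent.Lib.R2H1.GenusZero Groth.Agent.Lib.R2H1.DegNonpos Groth.Agent.Lib.R2H1.NonSpecial
  Groth.Agent.Lib.R2H1.VBHiggs

variable (k : Type u) [Field k] [IsAlgClosed k] (X : Scheme.{u}) [X.Over (Spec (CommRingCat.of k))]
    [IsIntegral X] [IsProper (X ↘ (Spec (CommRingCat.of k)))]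

/-- twisting a rank two bundle, filtered by line bundles each having a section generating at `p`,
down by `p` drops `h⁰` by two -/
theorem h0_twist_rank_two (hdim : topologicalKrullDim X = 1)
    (hreg : ∀ x : X, IsRegularLocalRing (X.presheaf.stalk x))
    (E : X.Modules) (hE : FlatMod.IsFinLocFreeOfRank 2 E)
    (M₁ : X.Modules) (hM₁ : PicF.IsInvertible M₁) (j : M₁ ⟶ E) [Mono j]
    (hM₂ : PicF.IsInvertible (cokernel j))
    (ℓ : Coh.structureModule X ⟶ M₁) (s₂ : Coh.structureModule X ⟶ E)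
    (p : X) (hp : IsClosed ({p} : Set X)) (hpℓ : p ∈ CohB1.genLocus M₁ ℓ)
    (hpw : p ∈ CohB1.genLocus (cokernel j) (s₂ ≫ cokernel.π j)) :
    Module.finrank k (Coh.HH X (CohB1.tensorMod E (ClSub.idealMod
        (Scheme.IdealSheafData.vanishingIdeal ⟨{p}, hp⟩))) 0) + 2 =
      Module.finrank k (Coh.HH X E 0) := by
  haveI := isNoetherian_of_proper k X
  obtain ⟨D, hDdef⟩ : ∃ D : X.IdealSheafData, D = Scheme.IdealSheafData.vanishingIdeal ⟨{p}, hp⟩ :=
    ⟨_, rfl⟩
  have hD : BlowUp.IsEffCartierIdeal D := hDdef ▸ point_isEffCartier k X hdim hreg p hp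
  have hI : PicF.IsInvertible (ClSub.idealMod D) :=
    Groth.Agent.Helper18Cart.isInvertible_of_isEffCartier D hD
  obtain ⟨I', hI', ⟨e⟩⟩ := Groth.Agent.Lib.R2H1.InvExists.exists_inverse _ hI
  haveI : (tR X.sheaf (ClSub.idealMod D)).IsEquivalence :=
    isEquivalence_tR_of_inverse X.sheaf (ClSub.idealMod D) I' e
  let T : ShortComplex X.Modules := ShortComplex.mk j (cokernel.π j) (cokernel.condition j)
  have hT : T.ShortExact :=
    { exact := ShortComplex.exact_cokernel j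
      mono_f := inferInstanceAs (Mono j)
      epi_g := inferInstanceAs (Epi (cokernel.π j)) }
  have hM₁1 := Groth.Agent.Lib.Helper23.SecTw.isFinLocFreeOfRank_one_of_isInvertible _ hM₁
  have hM₂1 := Groth.Agent.Lib.Helper23.SecTw.isFinLocFreeOfRank_one_of_isInvertible _ hM₂
  haveI mE := mono_twistMap k X hdim.le D hD 2 E hE
  haveI mM₂ := mono_twistMap k X hdim.le D hD 1 (cokernel j) hM₂1
  -- naturality
  obtain ⟨ψπ, hψπ⟩ : ∃ ψ : ((idealSeq D).map (DCoh.tensorBi.obj E)).X₁ ⟶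
      ((idealSeq D).map (DCoh.tensorBi.obj (cokernel j))).X₁,
      ψ = (tR X.sheaf (ClSub.idealMod D)).map (cokernel.π j) := ⟨_, rfl⟩
  obtain ⟨ψj, hψj⟩ : ∃ ψ : ((idealSeq D).map (DCoh.tensorBi.obj M₁)).X₁ ⟶
      ((idealSeq D).map (DCoh.tensorBi.obj E)).X₁,
      ψ = (tR X.sheaf (ClSub.idealMod D)).map j := ⟨_, rfl⟩
  have nπ := twistMap_nat D (cokernel.π j) ψπ hψπ
  have nj := twistMap_nat D j ψj hψj
  -- the sections do not factor
  have nfℓ : ∀ σ : Coh.structureModule X ⟶ ((idealSeq D).map (DCoh.tensorBi.obj M₁)).X₁,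
      σ ≫ twistMap D M₁ ≠ ℓ := by
    subst hDdef
    exact fun σ => not_factor_of_mem_genLocus k X hdim hreg M₁ hM₁ ℓ p hp hpℓ σ
  have nfw : ∀ σ : Coh.structureModule X ⟶ ((idealSeq D).map (DCoh.tensorBi.obj (cokernel j))).X₁,
      σ ≫ twistMap D (cokernel j) ≠ s₂ ≫ cokernel.π j := by
    subst hDdef
    exact fun σ => not_factor_of_mem_genLocus k X hdim hreg _ hM₂ _ p hp hpw σ
  -- `ℓ ≫ j` is not in the image
  have nfs₁ : ∀ σ : Coh.structureModule X ⟶ ((idealSeq D).map (DCoh.tensorBi.obj E)).X₁,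
      σ ≫ twistMap D E ≠ ℓ ≫ j := by
    intro σ hσ
    have h1 : (σ ≫ ψπ) ≫ twistMap D (cokernel j) = 0 := by
      rw [Category.assoc, nπ, ← Category.assoc, hσ, Category.assoc, cokernel.condition, comp_zero]
    have h2 : σ ≫ ψπ = 0 := (cancel_mono (twistMap D (cokernel j))).1 (h1.trans zero_comp.symm)
    obtain ⟨χ₀, hχ₀⟩ := exists_lift_of_exact (tR X.sheaf (ClSub.idealMod D)) T hT σ
      (by rw [← hψπ]; exact h2)
    obtain ⟨χ, hχ'⟩ : ∃ χ : Coh.structureModule X ⟶ ((idealSeq D).map (DCoh.tensorBi.obj M₁)).X₁,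
        χ ≫ ψj = σ := ⟨χ₀, by rw [hψj]; exact hχ₀⟩
    have h3 : (χ ≫ twistMap D M₁) ≫ j = ℓ ≫ j := by
      rw [Category.assoc, ← nj, ← Category.assoc, hχ', hσ]
    exact nfℓ χ ((cancel_mono j).1 h3)
  -- linear algebra
  have cE : Coh.IsCoh E := Groth.Agent.Lib.R2H1.DegTensor.isCoh_of_rank' hE
  obtain ⟨hS, c₁, c₂, c₃, -⟩ := twist_seq_facts k X hdim.le D hD 2 E hE
  haveI := finite_HH k X _ cE 0
  haveI := finite_HH k X _ c₁ 0
  haveI fE : Module.Finite k (Coh.structureModule X ⟶ E) :=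
    Module.Finite.equiv (Groth.Agent.Lib.R2H2.PnBeilinson.clsEquiv (k := k) E).symm
  haveI f₁ : Module.Finite k
      (Coh.structureModule X ⟶ ((idealSeq D).map (DCoh.tensorBi.obj E)).X₁) :=
    Module.Finite.equiv (Groth.Agent.Lib.R2H2.PnBeilinson.clsEquiv (k := k) _).symm
  obtain ⟨Φ, hΦ⟩ : ∃ Φ : (Coh.structureModule X ⟶ ((idealSeq D).map (DCoh.tensorBi.obj E)).X₁)
      →ₗ[k] (Coh.structureModule X ⟶ E), ∀ σ, Φ σ = σ ≫ twistMap D E :=
    ⟨Linear.rightComp k (Coh.structureModule X) (twistMap D E), fun σ => rfl⟩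
  have hΦinj : Function.Injective Φ := fun a b hab => by
    rw [hΦ, hΦ] at hab
    exact (cancel_mono (twistMap D E)).1 hab
  obtain ⟨Ts, hTs⟩ : ∃ Ts : Submodule k (Coh.structureModule X ⟶ E),
      ∀ s, s ∈ Ts ↔ ∃ σ : Coh.structureModule X ⟶
        ((idealSeq D).map (DCoh.tensorBi.obj (cokernel j))).X₁,
        σ ≫ twistMap D (cokernel j) = s ≫ cokernel.π j :=
    ⟨(LinearMap.range (Linear.rightComp k (Coh.structureModule X)
      (twistMap D (cokernel j)))).comap (Linear.rightComp k (Coh.structureModule X)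
        (cokernel.π j)), fun s => Iff.rfl⟩
  have hle : LinearMap.range Φ ≤ Ts := by
    rintro _ ⟨σ, rfl⟩
    rw [hTs, hΦ]
    refine ⟨σ ≫ ψπ, ?_⟩
    rw [Category.assoc, nπ, Category.assoc]
  have hs₂ : s₂ ∉ Ts := by
    rw [hTs]
    rintro ⟨σ, hσ⟩
    exact nfw σ hσ
  have hs₁ : ℓ ≫ j ∈ Ts := by
    rw [hTs]
    refine ⟨0, ?_⟩
    rw [zero_comp, Category.assoc, cokernel.condition, comp_zero]
  have hs₁' : ℓ ≫ j ∉ LinearMap.range Φ := by
    rintro ⟨σ, hσ⟩
    rw [hΦ] at hσ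
    exact nfs₁ σ hσ
  have hlt1 : LinearMap.range Φ < Ts := lt_of_le_of_ne hle (fun h => hs₁' (h ▸ hs₁))
  have hlt2 : Ts < ⊤ := lt_top_iff_ne_top.2 (fun h => hs₂ (h ▸ Submodule.mem_top))
  have d1 := Submodule.finrank_lt_finrank_of_lt hlt1
  have d2 := Submodule.finrank_lt_finrank_of_lt hlt2
  rw [finrank_top] at d2
  have d0 := LinearMap.finrank_range_of_inj hΦinj
  have eE := (Groth.Agent.Lib.R2H2.PnBeilinson.clsEquiv (k := k) E).finrank_eq
  have e₁ := (Groth.Agent.Lib.R2H2.PnBeilinson.clsEquiv (k := k)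
    ((idealSeq D).map (DCoh.tensorBi.obj E)).X₁).finrank_eq
  have hb := (h0_point_twist_bounds k X hdim hreg 2 E hE p hp).2
  subst hDdef
  have hX₁ : Module.finrank k (Coh.HH X ((idealSeq (Scheme.IdealSheafData.vanishingIdeal
      ⟨{p}, hp⟩)).map (DCoh.tensorBi.obj E)).X₁ 0) =
      Module.finrank k (Coh.HH X (CohB1.tensorMod E (ClSub.idealMod
        (Scheme.IdealSheafData.vanishingIdeal ⟨{p}, hp⟩))) 0) := rfl
  omega

end Part3

section Part4

open Groth.Agent.Lib.R2H1.PointTwist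

open Groth.Agent.Lib.R2H1.DegCartier Groth.Agent.Lib.R2H1.SkyDecomp Groth.Agent.Lib.R2H2.DevA
open Groth.Agent.Lib.R2H1.RegPoint Groth.Agent.Lib.R2H1.CurveEuler Groth.Agent.Lib.R2H1.CurveDegSec
  Groth.Agent.Lib.R2H1.EulerAdd Groth.Agent.Lib.R2H2.HHLin Groth.Agent.Lib.R2H2.PnLinRes
  Groth.Agent.Lib.R2H1.GenusZero Groth.Agent.Lib.R2H1.DegNonpos Groth.Agent.Lib.R2H1.NonSpecial
  Groth.Agent.Lib.R2H1.VBSat Groth.Agent.Lib.R2H1.VBHZero Groth.Agent.Lib.R2H1.VBTwist
  Groth.Agent.Lib.R2H1.ZeroDimCoh Groth.Agent.Lib.R2H1.GenusLe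

variable (k : Type u) [Field k] [IsAlgClosed k] (X : Scheme.{u}) [X.Over (Spec (CommRingCat.of k))]
    [IsIntegral X] [IsProper (X ↘ (Spec (CommRingCat.of k)))]

theorem s12634 (hdim : topologicalKrullDim X = 1)
    (hreg : ∀ x : X, IsRegularLocalRing (X.presheaf.stalk x))
    (E : X.Modules) (hE : FlatMod.IsFinLocFreeOfRank 2 E)
    (hss : (∀ (M : X.Modules) (i : M ⟶ E), Mono i → PicF.IsInvertible M →
      2 * Module.finrank k (Coh.HH X M 0) ≤ Module.finrank k (Coh.HH X E 0)))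
    (h2 : 2 ≤ Module.finrank k (Coh.HH X E 0)) :
    ∃ Z : Set X, Z.Finite ∧ ∀ (p : X) (hp : IsClosed ({p} : Set X)), p ∉ Z →
      Module.finrank k (Coh.HH X (CohB1.tensorMod E (ClSub.idealMod
        (Scheme.IdealSheafData.vanishingIdeal (⟨{p}, hp⟩ : TopologicalSpace.Closeds X)))) 0) + 2
        = Module.finrank k (Coh.HH X E 0) := by
  haveI := isNoetherian_of_proper k X
  have cE : Coh.IsCoh E := Groth.Agent.Lib.R2H1.DegTensor.isCoh_of_rank' hE
  obtain ⟨s₁, hs₁⟩ := exists_section_of_pos k X E cE (by omega)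
  haveI := mono_of_section_ne_zero k X hdim hreg hE s₁ hs₁
  obtain ⟨M₁, j, ℓ, s, hj, hℓ, hM₁, -, hQ, hr, -⟩ :=
    exists_saturation' k X hdim hreg hE (structure_rank_one X) s₁
  haveI := hj
  have hs : s = 1 := by omega
  subst hs
  have hM₁i := isInvertible_of_rank_one hM₁
  have hM₂i := isInvertible_of_rank_one hQ
  have hℓ0 : ℓ ≠ 0 := fun h => hs₁ (by rw [← hℓ, h, zero_comp])
  have h1 := hss M₁ j hj hM₁i
  have cM₁ := isCoh_of_isInvertible _ hM₁i
  haveI := finite_HH k X _ cE 0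
  haveI := finite_HH k X _ cM₁ 0
  haveI fE : Module.Finite k (Coh.structureModule X ⟶ E) :=
    Module.Finite.equiv (Groth.Agent.Lib.R2H2.PnBeilinson.clsEquiv (k := k) E).symm
  haveI fM : Module.Finite k (Coh.structureModule X ⟶ M₁) :=
    Module.Finite.equiv (Groth.Agent.Lib.R2H2.PnBeilinson.clsEquiv (k := k) M₁).symm
  let T : ShortComplex X.Modules := ShortComplex.mk j (cokernel.π j) (cokernel.condition j)
  have hT : T.ShortExact :=
    { exact := ShortComplex.exact_cokernel j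
      mono_f := inferInstanceAs (Mono j)
      epi_g := inferInstanceAs (Epi (cokernel.π j)) }
  obtain ⟨s₂, hs₂⟩ : ∃ s₂ : Coh.structureModule X ⟶ E, s₂ ≫ cokernel.π j ≠ 0 := by
    by_contra hcon
    push_neg at hcon
    have hsurj : Function.Surjective (Linear.rightComp k (Coh.structureModule X) j) := by
      intro t
      haveI := hT.mono_f
      exact ⟨hT.exact.lift t (hcon t), hT.exact.lift_f t (hcon t)⟩
    have hle := LinearMap.finrank_le_finrank_of_surjective hsurj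
    rw [(Groth.Agent.Lib.R2H2.PnBeilinson.clsEquiv (k := k) E).finrank_eq,
      (Groth.Agent.Lib.R2H2.PnBeilinson.clsEquiv (k := k) M₁).finrank_eq] at hle
    omega
  obtain ⟨a, ha⟩ := genLocus_nonempty k X M₁ hM₁i ℓ hℓ0
  obtain ⟨b, hb⟩ := genLocus_nonempty k X (cokernel j) hM₂i _ hs₂
  obtain ⟨W, hWdef⟩ : ∃ W : X.Opens, W = CohB1.genLocus M₁ ℓ ⊓
      CohB1.genLocus (cokernel j) (s₂ ≫ cokernel.π j) := ⟨_, rfl⟩
  have hW : (W : Set X).Nonempty := by
    rw [hWdef]
    refine ⟨genericPoint X, ?_, ?_⟩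
    · exact (genericPoint_spec X).specializes (Set.mem_univ a) |>.mem_open
        (CohB1.genLocus M₁ ℓ).isOpen ha
    · exact (genericPoint_spec X).specializes (Set.mem_univ b) |>.mem_open
        (CohB1.genLocus (cokernel j) _).isOpen hb
  have hdense : Dense (W : Set X) := W.isOpen.dense hW
  have hZdim := dim_compl_le_zero_of_dense X hdim.le W hdense
  haveI : Finite ↥((W : Set X)ᶜ) := finite_of_dim_le_zero hZdim
  refine ⟨(W : Set X)ᶜ, Set.toFinite _, fun p hp hpZ => ?_⟩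
  have hpW : p ∈ W := not_not.mp hpZ
  rw [hWdef] at hpW
  exact h0_twist_rank_two k X hdim hreg E hE M₁ hM₁i j hM₂i ℓ s₂ p hp hpW.1 hpW.2

end Part4

end Groth.Agent.Lib.R2H1.PointTwistB
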