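import Mathlib
import Groth.Agent.Lib.R2H1PointTwistB
import Groth.Agent.Lib.R2H1InvExists
set_option backward.isDefEq.respectTransparency.types false

/-!
helper1 (run 2): the group law PicGrp.Law X on the Picard set of an integral scheme. API: assocI ((L⊗M)⊗N ≅ L⊗(M⊗N)), commI (L⊗M ≅ M⊗L), runitI (L⊗O ≅ L) typed on CohB1.tensorMod; mulP, mulP_cls, exists_inv, lawOfIntegral (noncomputable def : PicGrp.Law X for [IsIntegral X]; use via letI := lawOfIntegral X).
-/

set_option autoImplicit false
set_option linter.style.haveILetI false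
set_option linter.unusedSectionVars false
universe u v

open CategoryTheory CategoryTheory.Limits AlgebraicGeometry TopologicalSpace Opposite

namespace Groth.Agent.Lib.R2H1.PicLaw

section Part1

open Groth.Agent.Lib.Helper21.ModTensor Groth.Agent.Lib.Helper21.ModTensor2
open Groth.Agent.Lib.Helper21.ModTensor5 Groth.Agent.Lib.Helper21.ModTensor6
open Groth.Agent.Lib.Helper21.ModTensor7 Groth.Agent.Lib.Helper21.ModTensor3
open Groth.Agent.Lib.Helper21.Dual

variable {X : Scheme.{u}}

/-- associativity of the tensor product of modules -/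
noncomputable def assocI (L M N : X.Modules) :
    CohB1.tensorMod (CohB1.tensorMod L M) N ≅ CohB1.tensorMod L (CohB1.tensorMod M N) :=
  (tLTensorIso X.sheaf L M).app N

/-- symmetry of the tensor product of modules -/
noncomputable def commI (L M : X.Modules) :
    CohB1.tensorMod L M ≅ CohB1.tensorMod M L :=
  brdApp X.sheaf L M

/-- right unit of the tensor product of modules -/
noncomputable def runitI (L : X.Modules) :
    CohB1.tensorMod L (Coh.structureModule X) ≅ L :=
  rU X.sheaf L

end Part1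

section Part2


variable (X : Scheme.{u})

theorem isInvertibleCl_mulCl (a b : PicLoc.PicSet X) : PicF.IsInvertibleCl (PicGrp.mulCl a.1 b.1) := by
  obtain ⟨L, hL, rfl⟩ := PicGrp.exists_eq_cls a
  obtain ⟨M, hM, rfl⟩ := PicGrp.exists_eq_cls b
  exact ⟨CohB1.tensorMod L M, rfl, Groth.Agent.Lib.Helper23.SecTw.isInvertible_tensorMod hL hM⟩

/-- multiplication of invertible classes -/
noncomputable def mulP (a b : PicLoc.PicSet X) : PicLoc.PicSet X :=
  ⟨PicGrp.mulCl a.1 b.1, isInvertibleCl_mulCl X a b⟩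

theorem mulP_cls {L M : X.Modules} (hL : PicF.IsInvertible L) (hM : PicF.IsInvertible M) :
    mulP X (PicGrp.cls L hL) (PicGrp.cls M hM) =
      PicGrp.cls (CohB1.tensorMod L M)
        (Groth.Agent.Lib.Helper23.SecTw.isInvertible_tensorMod hL hM) := rfl

theorem exists_inv [IsIntegral X] (a : PicLoc.PicSet X) :
    ∃ b : PicLoc.PicSet X, mulP X b a = PicLoc.unitPicSet X := by
  obtain ⟨L, hL, rfl⟩ := PicGrp.exists_eq_cls a
  obtain ⟨M, hM, ⟨e⟩⟩ := Groth.Agent.Lib.R2H1.InvExists.exists_inverse L hL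
  refine ⟨PicGrp.cls M hM, ?_⟩
  rw [mulP_cls, PicGrp.unitPicSet_eq_cls, PicGrp.cls_eq_cls_iff]
  exact ⟨commI M L ≪≫ e⟩

/-- the group law on the Picard set of an integral scheme -/
noncomputable def lawOfIntegral [IsIntegral X] : PicGrp.Law X :=
  letI iM : Mul (PicLoc.PicSet X) := ⟨mulP X⟩
  letI iI : Inv (PicLoc.PicSet X) := ⟨fun a => (exists_inv X a).choose⟩
  letI iO : One (PicLoc.PicSet X) := ⟨PicLoc.unitPicSet X⟩
  letI G : Group (PicLoc.PicSet X) := Group.ofLeftAxioms
    (by
      intro a b c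
      obtain ⟨L, hL, rfl⟩ := PicGrp.exists_eq_cls a
      obtain ⟨M, hM, rfl⟩ := PicGrp.exists_eq_cls b
      obtain ⟨N, hN, rfl⟩ := PicGrp.exists_eq_cls c
      change mulP X (mulP X _ _) _ = mulP X _ (mulP X _ _)
      rw [mulP_cls, mulP_cls, mulP_cls, mulP_cls, PicGrp.cls_eq_cls_iff]
      exact ⟨assocI L M N⟩)
    (by
      intro a
      obtain ⟨L, hL, rfl⟩ := PicGrp.exists_eq_cls a
      change mulP X (PicLoc.unitPicSet X) _ = _
      rw [PicGrp.unitPicSet_eq_cls, mulP_cls, PicGrp.cls_eq_cls_iff]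
      exact ⟨commI _ _ ≪≫ runitI L⟩)
    (by
      intro a
      exact (exists_inv X a).choose_spec)
  { G with
    mul_comm := by
      intro a b
      obtain ⟨L, hL, rfl⟩ := PicGrp.exists_eq_cls a
      obtain ⟨M, hM, rfl⟩ := PicGrp.exists_eq_cls b
      change mulP X _ _ = mulP X _ _
      rw [mulP_cls, mulP_cls, PicGrp.cls_eq_cls_iff]
      exact ⟨commI L M⟩
    mul_val := fun a b => rfl
    one_eq := rfl }

end Part2

end Groth.Agent.Lib.R2H1.PicLaw
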