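import Mathlib
import Groth.Agent.Lib.R2H1PicLaw
set_option backward.isDefEq.respectTransparency.types false

/-!
helper1 (run 2): Clifford inequality on regular integral proper curves over an algebraically closed field WITHOUT Serre duality. API: isoOn_twistMap (G(-D) -> G iso away from D), exists_pos_twist (O(p) with section generating away from p), cls_mul / cls_mul_eq_of_iso / iso_of_cls_mul_eq (Picard group bookkeeping under [PicGrp.Law X]), euler_point_twist, untwist_facts, nonempty_inf_compl, exists_base_point_aux (special M: general p is a base point of M(p)), h1_tensor_le, hopf_h1_aux (h0(L) + h1(M(x)L) <= h1(M) + 1), clifford (h0,h1 >= 1 => 2 h0 <= deg + 2), h0_of_nonspecial, s19205, s19204, s16966.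
-/

set_option autoImplicit false
set_option linter.style.haveILetI false
set_option linter.unusedSectionVars false
universe u v

open CategoryTheory CategoryTheory.Limits AlgebraicGeometry TopologicalSpace Opposite

namespace Groth.Agent.Lib.R2H1.Clifford

section Part1

open Groth.Agent.Lib.R2H1.PicLaw
open Groth.Agent.Lib.R2H1.PointTwist Groth.Agent.Lib.R2H1.PointTwistB
open Groth.Agent.Lib.R2H1.DegCartier Groth.Agent.Lib.R2H1.SkyDecomp Groth.Agent.Lib.R2H2.DevA
open Groth.Agent.Lib.Helper21.ModTensor Groth.Agent.Lib.Helper21.ModTensor2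
open Groth.Agent.Lib.Helper21.ModTensor5 Groth.Agent.Lib.Helper21.ModTensor6
open Groth.Agent.Lib.Helper21.ModTensor7 Groth.Agent.Lib.Helper21.ModTensor3
open Groth.Agent.Lib.Helper21.Dual
open Groth.Agent.Lib.R2H1.RegPoint Groth.Agent.Lib.R2H1.CurveEuler Groth.Agent.Lib.R2H1.CurveDegSec
  Groth.Agent.Lib.R2H1.EulerAdd Groth.Agent.Lib.R2H2.HHLin Groth.Agent.Lib.R2H2.PnLinRes
  Groth.Agent.Lib.R2H1.GenusZero Groth.Agent.Lib.R2H1.DegNonpos Groth.Agent.Lib.R2H1.NonSpecial
open Groth.Agent.Lib.Helper23.Extend Groth.Agent.Lib.Helper23.GenLocus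

section General

variable (k : Type u) [Field k] (X : Scheme.{u}) [X.Over (Spec (CommRingCat.of k))]
    [IsProper (X ↘ (Spec (CommRingCat.of k)))]

include k in
/-- the twist map `G ⊗ I_D ⟶ G` is an isomorphism away from the support of `D` -/
theorem isoOn_twistMap (hdim : topologicalKrullDim X ≤ 1) (D : X.IdealSheafData)
    (hD : BlowUp.IsEffCartierIdeal D) (n : ℕ) (G : X.Modules)
    (hG : FlatMod.IsFinLocFreeOfRank n G) (W : X.Opens) (hW : ∀ y, y ∈ W → y ∉ D.support) :
    IsoOn (twistMap D G) W := by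
  obtain ⟨hS, -⟩ := twist_seq_facts k X hdim D hD n G hG
  intro W' hW'
  unfold twistMap
  rw [Scheme.Modules.Hom.comp_app]
  haveI : IsIso ((eU D G).hom.app W') := Scheme.Modules.Hom.isIso_iff_isIso_app.1 inferInstance _
  haveI : IsIso (((idealSeq D).map (DCoh.tensorBi.obj G)).f.app W') := by
    rw [ConcreteCategory.isIso_iff_bijective]
    constructor
    · haveI := hS.mono_f
      exact Groth.Agent.Lib.Helper20.StalkExact.injective_app_of_mono _ W'
    · intro t
      have ht : ((idealSeq D).map (DCoh.tensorBi.obj G)).g.app W' t = 0 := by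
        apply Groth.Agent.Lib.Helper23.Support.eq_zero_of_disjoint_support
        intro x hxW' hx
        have hyD : x ∉ (D.support : Set X) := hW x (hW' hxW')
        have h3 := stalk_tensor_subsingleton (ClSub.quotMod D) G (D.support : Set X)
          D.support.isClosed (fun x hx => stalk_quotMod_subsingleton D x hx) x hyD
        have h4 := support_subset_of_epi (brdApp X.sheaf G (ClSub.quotMod D)).inv hx
        exact h4 h3
      exact Groth.Agent.Lib.Helper20.StalkExact.exists_app_eq_of_exact _ hS W' t ht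
  infer_instance

end General

section AlgClosed

variable (k : Type u) [Field k] [IsAlgClosed k] (X : Scheme.{u}) [X.Over (Spec (CommRingCat.of k))]
    [IsIntegral X] [IsProper (X ↘ (Spec (CommRingCat.of k)))]

include k in
/-- the positive twist `O(p)` with its canonical section, generating away from `p` -/
theorem exists_pos_twist (hdim : topologicalKrullDim X = 1)
    (hreg : ∀ x : X, IsRegularLocalRing (X.presheaf.stalk x))
    (p : X) (hp : IsClosed ({p} : Set X)) :
    ∃ (J : X.Modules) (_ : PicF.IsInvertible J),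
      Nonempty (CohB1.tensorMod (ClSub.idealMod
        (Scheme.IdealSheafData.vanishingIdeal ⟨{p}, hp⟩)) J ≅ Coh.structureModule X) ∧
      ∃ σ : Coh.structureModule X ⟶ J, ∀ q : X, q ≠ p → q ∈ CohB1.genLocus J σ := by
  have hD := point_isEffCartier k X hdim hreg p hp
  have hI : PicF.IsInvertible (ClSub.idealMod (Scheme.IdealSheafData.vanishingIdeal ⟨{p}, hp⟩)) :=
    Groth.Agent.Helper18Cart.isInvertible_of_isEffCartier _ hD
  obtain ⟨J, hJ, ⟨e⟩⟩ := Groth.Agent.Lib.R2H1.InvExists.exists_inverse _ hI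
  have hJ1 : FlatMod.IsFinLocFreeOfRank 1 J :=
    Groth.Agent.Lib.Helper23.SecTw.isFinLocFreeOfRank_one_of_isInvertible J hJ
  obtain ⟨ε, -⟩ : ∃ ε : ((idealSeq (Scheme.IdealSheafData.vanishingIdeal ⟨{p}, hp⟩)).map
      (DCoh.tensorBi.obj J)).X₁ ≅ Coh.structureModule X, True := ⟨commI J _ ≪≫ e, trivial⟩
  refine ⟨J, hJ, ⟨e⟩, ε.inv ≫ twistMap _ J, fun q hq => ?_⟩
  rw [mem_genLocus_iff]
  refine ⟨⟨({p} : Set X)ᶜ, hp.isOpen_compl⟩, hq, ?_⟩
  refine IsoOn.comp (fun W' _ => Scheme.Modules.Hom.isIso_iff_isIso_app.1 inferInstance _) ?_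
  refine isoOn_twistMap k X hdim.le _ hD 1 J hJ1 _ (fun y hy hyD => ?_)
  have : y = p := hyD
  exact hy this

end AlgClosed

end Part1

section Part2

open Groth.Agent.Lib.R2H1.PicLaw
open Groth.Agent.Lib.R2H1.PointTwist Groth.Agent.Lib.R2H1.PointTwistB
open Groth.Agent.Lib.R2H1.DegCartier Groth.Agent.Lib.R2H1.SkyDecomp Groth.Agent.Lib.R2H2.DevA
open Groth.Agent.Lib.R2H1.RegPoint Groth.Agent.Lib.R2H1.CurveEuler Groth.Agent.Lib.R2H1.CurveDegSec
  Groth.Agent.Lib.R2H1.EulerAdd Groth.Agent.Lib.R2H2.HHLin Groth.Agent.Lib.R2H2.PnLinRes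
  Groth.Agent.Lib.R2H1.GenusZero Groth.Agent.Lib.R2H1.DegNonpos Groth.Agent.Lib.R2H1.NonSpecial
  Groth.Agent.Lib.R2H1.LiftZero Groth.Agent.Lib.R2H1.CurveAmple
open Groth.Agent.Lib.Helper23.Extend Groth.Agent.Lib.Helper23.GenLocus

section Grp

variable {X : Scheme.{u}} [PicGrp.Law X]

theorem cls_mul {L M : X.Modules} (hL : PicF.IsInvertible L) (hM : PicF.IsInvertible M) :
    PicGrp.cls L hL * PicGrp.cls M hM = PicGrp.cls (CohB1.tensorMod L M)
      (Groth.Agent.Lib.Helper23.SecTw.isInvertible_tensorMod hL hM) :=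
  Subtype.ext (PicGrp.cls_mul_cls_val hL hM)

theorem cls_mul_eq_of_iso {A B C : X.Modules} (hA : PicF.IsInvertible A) (hB : PicF.IsInvertible B)
    (hC : PicF.IsInvertible C) (e : CohB1.tensorMod A B ≅ C) :
    PicGrp.cls A hA * PicGrp.cls B hB = PicGrp.cls C hC := by
  rw [cls_mul, PicGrp.cls_eq_cls_iff]
  exact ⟨e⟩

theorem iso_of_cls_mul_eq {A B C : X.Modules} (hA : PicF.IsInvertible A) (hB : PicF.IsInvertible B)
    (hC : PicF.IsInvertible C) (h : PicGrp.cls A hA * PicGrp.cls B hB = PicGrp.cls C hC) :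
    Nonempty (CohB1.tensorMod A B ≅ C) := by
  rw [cls_mul, PicGrp.cls_eq_cls_iff] at h
  exact h

end Grp

section AlgClosed

variable (k : Type u) [Field k] [IsAlgClosed k] (X : Scheme.{u}) [X.Over (Spec (CommRingCat.of k))]
    [IsIntegral X] [IsProper (X ↘ (Spec (CommRingCat.of k)))]

/-- `χ(L) = χ(L(-p)) + 1` -/
theorem euler_point_twist (hdim : topologicalKrullDim X = 1)
    (hreg : ∀ x : X, IsRegularLocalRing (X.presheaf.stalk x))
    (L : X.Modules) (hL : PicF.IsInvertible L) (p : X) (hp : IsClosed ({p} : Set X)) :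
    Curv2.euler k X L = Curv2.euler k X (CohB1.tensorMod L (ClSub.idealMod
      (Scheme.IdealSheafData.vanishingIdeal ⟨{p}, hp⟩))) + 1 := by
  haveI := isNoetherian_of_proper k X
  have hD := point_isEffCartier k X hdim hreg p hp
  have hQ : Coh.IsCoh (ClSub.quotMod (Scheme.IdealSheafData.vanishingIdeal ⟨{p}, hp⟩)) :=
    Groth.Agent.S0019.result (Scheme.IdealSheafData.vanishingIdeal ⟨{p}, hp⟩).subschemeι _
      (Groth.Agent.Lib.R2H1.GenusLe.isCoh_structureModule _)
  have hsuppQ := dim_support_quotMod_le_zero _ hdim.le hD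
  have hL1 : FlatMod.IsFinLocFreeOfRank 1 L :=
    Groth.Agent.Lib.Helper23.SecTw.isFinLocFreeOfRank_one_of_isInvertible L hL
  have hI : PicF.IsInvertible (ClSub.idealMod (Scheme.IdealSheafData.vanishingIdeal ⟨{p}, hp⟩)) :=
    Groth.Agent.Helper18Cart.isInvertible_of_isEffCartier _ hD
  have hLI := Groth.Agent.Lib.Helper23.SecTw.isInvertible_tensorMod hL hI
  have h₁ := isCoh_of_isInvertible _ hLI
  have main := euler_tensor_ideal k X _ 1 L hL1 hQ hsuppQ h₁
  rw [euler_eq_h0 k X _ hQ hsuppQ, finrank_H0_quotMod_point k X p hp] at main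
  simpa using main

/-- numerical facts on an untwist `M'` of `M` at `p` (i.e. `M'(-p) ≅ M`) -/
theorem untwist_facts (hdim : topologicalKrullDim X = 1)
    (hreg : ∀ x : X, IsRegularLocalRing (X.presheaf.stalk x))
    (M M' : X.Modules) (hM : PicF.IsInvertible M) (hM' : PicF.IsInvertible M')
    (p : X) (hp : IsClosed ({p} : Set X))
    (e : CohB1.tensorMod M' (ClSub.idealMod
      (Scheme.IdealSheafData.vanishingIdeal ⟨{p}, hp⟩)) ≅ M) :
    Curv2.deg k X M' 1 = Curv2.deg k X M 1 + 1 ∧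
    Module.finrank k (Coh.HH X M 0) ≤ Module.finrank k (Coh.HH X M' 0) ∧
    Module.finrank k (Coh.HH X M' 0) ≤ Module.finrank k (Coh.HH X M 0) + 1 ∧
    (Module.finrank k (Coh.HH X M' 0) : ℤ) - Module.finrank k (Coh.HH X M' 1) =
      (Module.finrank k (Coh.HH X M 0) : ℤ) - Module.finrank k (Coh.HH X M 1) + 1 := by
  haveI := isNoetherian_of_proper k X
  have hM'1 : FlatMod.IsFinLocFreeOfRank 1 M' :=
    Groth.Agent.Lib.Helper23.SecTw.isFinLocFreeOfRank_one_of_isInvertible M' hM'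
  obtain ⟨b1, b2⟩ := h0_point_twist_bounds k X hdim hreg 1 M' hM'1 p hp
  have i0 := Groth.Agent.Lib.R2H2.ClosedPnLin.finrank_HH_of_iso k e 0
  have eu := euler_point_twist k X hdim hreg M' hM' p hp
  rw [euler_congr k e] at eu
  have e1 := euler_eq_h0_sub_h1 k X hdim.le M (isCoh_of_isInvertible M hM).1
  have e2 := euler_eq_h0_sub_h1 k X hdim.le M' (isCoh_of_isInvertible M' hM').1
  rw [i0] at b1 b2
  refine ⟨?_, b1, b2, ?_⟩
  · unfold Curv2.deg
    rw [eu]
    ring
  · rw [← e1, ← e2, eu]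

include k in
/-- a nonempty open minus a closed point is nonempty -/
theorem nonempty_inf_compl (hdim : topologicalKrullDim X = 1)
    (hreg : ∀ x : X, IsRegularLocalRing (X.presheaf.stalk x))
    (W : X.Opens) (hW : (W : Set X).Nonempty) (p : X) (hp : IsClosed ({p} : Set X)) :
    ((W ⊓ ⟨({p} : Set X)ᶜ, hp.isOpen_compl⟩ : X.Opens) : Set X).Nonempty := by
  obtain ⟨a, ha⟩ := hW
  refine ⟨genericPoint X, ?_, ?_⟩
  · exact (genericPoint_spec X).specializes (Set.mem_univ a) |>.mem_open W.isOpen ha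
  · intro h
    have h' : genericPoint X = p := h
    subst h'
    haveI := isDVR_of_closed k X hdim hreg _ hp
    have hf := Groth.Agent.Lib.R2H1.VBSub.isField_stalk_genericPoint (X := X)
    exact IsDiscreteValuationRing.not_isField _ hf

end AlgClosed

end Part2

section Part3

open Groth.Agent.Lib.R2H1.PicLaw
open Groth.Agent.Lib.R2H1.PointTwist Groth.Agent.Lib.R2H1.PointTwistB
open Groth.Agent.Lib.R2H1.DegCartier Groth.Agent.Lib.R2H1.SkyDecomp Groth.Agent.Lib.R2H2.DevA
open Groth.Agent.Lib.R2H1.RegPoint Groth.Agent.Lib.R2H1.CurveEuler Groth.Agent.Lib.R2H1.CurveDegSec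
  Groth.Agent.Lib.R2H1.EulerAdd Groth.Agent.Lib.R2H2.HHLin Groth.Agent.Lib.R2H2.PnLinRes
  Groth.Agent.Lib.R2H1.GenusZero Groth.Agent.Lib.R2H1.DegNonpos Groth.Agent.Lib.R2H1.NonSpecial
  Groth.Agent.Lib.R2H1.LiftZero Groth.Agent.Lib.R2H1.CurveAmple
open Groth.Agent.Lib.Helper23.Extend Groth.Agent.Lib.Helper23.GenLocus

variable (k : Type u) [Field k] [IsAlgClosed k] (X : Scheme.{u}) [X.Over (Spec (CommRingCat.of k))]
    [IsIntegral X] [IsProper (X ↘ (Spec (CommRingCat.of k)))]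

/-- for a special invertible module `M` and any nonempty open `W`, there is a closed point `p ∈ W`
which is a base point of `M(p)` -/
theorem exists_base_point_aux (hdim : topologicalKrullDim X = 1)
    (hreg : ∀ x : X, IsRegularLocalRing (X.presheaf.stalk x)) :
    ∀ (n : ℕ) (M : X.Modules), PicF.IsInvertible M →
      2 * (Curv2.genus k X : ℤ) - 1 - n ≤ Curv2.deg k X M 1 →
      1 ≤ Module.finrank k (Coh.HH X M 1) →
      ∀ W : X.Opens, (W : Set X).Nonempty →
      ∃ (p : X) (hp : IsClosed ({p} : Set X)), p ∈ W ∧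
        ∀ M' : X.Modules, PicF.IsInvertible M' →
          Nonempty (CohB1.tensorMod M' (ClSub.idealMod
            (Scheme.IdealSheafData.vanishingIdeal ⟨{p}, hp⟩)) ≅ M) →
          Module.finrank k (Coh.HH X M' 0) = Module.finrank k (Coh.HH X M 0) := by
  haveI := isNoetherian_of_proper k X
  intro n
  induction n with
  | zero =>
    intro M hM hd h1 W hW
    exfalso
    haveI := s1522 k X hdim M hM (by simpa using hd)
    have : Module.finrank k (Coh.HH X M 1) = 0 := Module.finrank_zero_of_subsingleton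
    omega
  | succ n ih =>
    intro M hM hd h1 W hW
    by_contra hcon
    push_neg at hcon
    obtain ⟨p₁, hp₁W, hp₁c, -⟩ := exists_closed_dvr_mem_open k X (X ↘ Spec (CommRingCat.of k))
      hdim W hW
    obtain ⟨M₁, hM₁, ⟨e₁⟩, hne₁⟩ := hcon p₁ hp₁c hp₁W
    obtain ⟨d₁, a₁, b₁, c₁⟩ := untwist_facts k X hdim hreg M M₁ hM hM₁ p₁ hp₁c e₁
    have hW₁ := nonempty_inf_compl k X hdim hreg W hW p₁ hp₁c
    have hd₁ : 2 * (Curv2.genus k X : ℤ) - 1 - n ≤ Curv2.deg k X M₁ 1 := by
      rw [d₁]; push_cast at hd; linarith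
    have h1₁ : 1 ≤ Module.finrank k (Coh.HH X M₁ 1) := by omega
    obtain ⟨q, hqc, hqW₁, hq⟩ := ih M₁ hM₁ hd₁ h1₁ _ hW₁
    have hqW : q ∈ W := hqW₁.1
    have hqp : q ≠ p₁ := hqW₁.2
    obtain ⟨M₂, hM₂, ⟨e₂⟩, hne₂⟩ := hcon q hqc hqW
    obtain ⟨d₂, a₂, b₂, c₂⟩ := untwist_facts k X hdim hreg M M₂ hM hM₂ q hqc e₂
    have i₂ := Groth.Agent.Lib.R2H2.ClosedPnLin.finrank_HH_of_iso k e₂ 0
    obtain ⟨s, hs⟩ := exists_mem_genLocus_of_h0_lt k X hdim hreg M₂ hM₂ q hqc (by omega)
    obtain ⟨J, hJ, ⟨eJ⟩, σ, hσ⟩ := exists_pos_twist k X hdim hreg p₁ hp₁c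
    have hM'' := Groth.Agent.Lib.Helper23.SecTw.isInvertible_tensorMod hM₂ hJ
    have hqt : q ∈ CohB1.genLocus (CohB1.tensorMod M₂ J) (SecTwist.tmulHom s σ) := by
      rw [Groth.Agent.Lib.Helper23.SecTw.genLocus_tmulHom hM₂ hJ]
      exact ⟨hs, hσ q hqp⟩
    have e3 := h0_point_twist_of_mem_genLocus k X hdim hreg _ hM'' _ q hqc hqt
    have hIp : PicF.IsInvertible (ClSub.idealMod
        (Scheme.IdealSheafData.vanishingIdeal ⟨{p₁}, hp₁c⟩)) :=
      Groth.Agent.Helper18Cart.isInvertible_of_isEffCartier _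
        (point_isEffCartier k X hdim hreg p₁ hp₁c)
    have hIq : PicF.IsInvertible (ClSub.idealMod
        (Scheme.IdealSheafData.vanishingIdeal ⟨{q}, hqc⟩)) :=
      Groth.Agent.Helper18Cart.isInvertible_of_isEffCartier _
        (point_isEffCartier k X hdim hreg q hqc)
    have hiso : Nonempty (CohB1.tensorMod (CohB1.tensorMod M₂ J) (ClSub.idealMod
        (Scheme.IdealSheafData.vanishingIdeal ⟨{q}, hqc⟩)) ≅ M₁) := by
      letI := lawOfIntegral X
      apply iso_of_cls_mul_eq hM'' hIq hM₁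
      have g1 := cls_mul_eq_of_iso hM₁ hIp hM e₁
      have g2 := cls_mul_eq_of_iso hM₂ hIq hM e₂
      have g3 := cls_mul_eq_of_iso hIp hJ
        (Groth.Agent.Lib.Helper23.TensorUnit.isInvertible_structureModule X) eJ
      rw [PicGrp.cls_structureModule_eq_one] at g3
      rw [← cls_mul hM₂ hJ, mul_right_comm, g2, ← g1, mul_assoc, g3, mul_one]
    obtain ⟨e4⟩ := hiso
    have i4 := Groth.Agent.Lib.R2H2.ClosedPnLin.finrank_HH_of_iso k e4 0
    have := hq _ hM'' ⟨e4⟩
    omega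

end Part3

section Part4

open Groth.Agent.Lib.R2H1.PicLaw
open Groth.Agent.Lib.R2H1.PointTwist Groth.Agent.Lib.R2H1.PointTwistB
open Groth.Agent.Lib.R2H1.DegCartier Groth.Agent.Lib.R2H1.SkyDecomp Groth.Agent.Lib.R2H2.DevA
open Groth.Agent.Lib.R2H1.RegPoint Groth.Agent.Lib.R2H1.CurveEuler Groth.Agent.Lib.R2H1.CurveDegSec
  Groth.Agent.Lib.R2H1.EulerAdd Groth.Agent.Lib.R2H2.HHLin Groth.Agent.Lib.R2H2.PnLinRes
  Groth.Agent.Lib.R2H1.GenusZero Groth.Agent.Lib.R2H1.DegNonpos Groth.Agent.Lib.R2H1.NonSpecial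
  Groth.Agent.Lib.R2H1.LiftZero Groth.Agent.Lib.R2H1.CurveAmple
open Groth.Agent.Lib.Helper23.Extend Groth.Agent.Lib.Helper23.GenLocus

variable (k : Type u) [Field k] [IsAlgClosed k] (X : Scheme.{u}) [X.Over (Spec (CommRingCat.of k))]
    [IsIntegral X] [IsProper (X ↘ (Spec (CommRingCat.of k)))]

/-- tensoring with an invertible module having a nonzero section does not increase `h¹` -/
theorem h1_tensor_le (hdim : topologicalKrullDim X = 1)
    (L M : X.Modules) (hL : PicF.IsInvertible L) (hM : PicF.IsInvertible M)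
    (h0 : 1 ≤ Module.finrank k (Coh.HH X L 0)) :
    Module.finrank k (Coh.HH X (CohB1.tensorMod M L) 1) ≤ Module.finrank k (Coh.HH X M 1) := by
  haveI := isNoetherian_of_proper k X
  have cL := isCoh_of_isInvertible L hL
  obtain ⟨v, hv⟩ := exists_section_of_pos k X L cL (by omega)
  have hML := Groth.Agent.Lib.Helper23.SecTw.isInvertible_tensorMod hM hL
  have hne := mulSec_ne_zero M hM hL v hv
  exact hh_one_le_of_ne_zero k X hdim M _ hM hML _ hne

/-- Hopf-type inequality for `H¹`: `h⁰(L) + h¹(M ⊗ L) ≤ h¹(M) + 1` -/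
theorem hopf_h1_aux (hdim : topologicalKrullDim X = 1)
    (hreg : ∀ x : X, IsRegularLocalRing (X.presheaf.stalk x)) :
    ∀ (n : ℕ) (L M : X.Modules), PicF.IsInvertible L → PicF.IsInvertible M →
      Module.finrank k (Coh.HH X L 0) = n + 1 →
      1 ≤ Module.finrank k (Coh.HH X (CohB1.tensorMod M L) 1) →
      (n + 1) + Module.finrank k (Coh.HH X (CohB1.tensorMod M L) 1) ≤
        Module.finrank k (Coh.HH X M 1) + 1 := by
  haveI := isNoetherian_of_proper k X
  intro n
  induction n with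
  | zero =>
    intro L M hL hM h0 h1
    have := h1_tensor_le k X hdim L M hL hM (by omega)
    omega
  | succ n ih =>
    intro L M hL hM h0 h1
    have hle := h1_tensor_le k X hdim L M hL hM (by omega)
    have cL := isCoh_of_isInvertible L hL
    obtain ⟨v, hv⟩ := exists_section_of_pos k X L cL (by omega)
    have hW := genLocus_nonempty k X L hL v hv
    have hdN : 2 * (Curv2.genus k X : ℤ) - 1 -
        ((2 * (Curv2.genus k X : ℤ) - 1 - Curv2.deg k X M 1).toNat : ℕ) ≤ Curv2.deg k X M 1 := by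
      have := Int.self_le_toNat (2 * (Curv2.genus k X : ℤ) - 1 - Curv2.deg k X M 1)
      linarith
    obtain ⟨p, hpc, hpW, hp⟩ := exists_base_point_aux k X hdim hreg _ M hM hdN (by omega) _ hW
    obtain ⟨J, hJ, ⟨eJ⟩, σ, hσ⟩ := exists_pos_twist k X hdim hreg p hpc
    have hI : PicF.IsInvertible (ClSub.idealMod
        (Scheme.IdealSheafData.vanishingIdeal ⟨{p}, hpc⟩)) :=
      Groth.Agent.Helper18Cart.isInvertible_of_isEffCartier _
        (point_isEffCartier k X hdim hreg p hpc)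
    have hM' := Groth.Agent.Lib.Helper23.SecTw.isInvertible_tensorMod hM hJ
    have hL' := Groth.Agent.Lib.Helper23.SecTw.isInvertible_tensorMod hL hI
    have hML := Groth.Agent.Lib.Helper23.SecTw.isInvertible_tensorMod hM hL
    letI := lawOfIntegral X
    have g3 := cls_mul_eq_of_iso hI hJ
      (Groth.Agent.Lib.Helper23.TensorUnit.isInvertible_structureModule X) eJ
    rw [PicGrp.cls_structureModule_eq_one] at g3
    have hiso1 : Nonempty (CohB1.tensorMod (CohB1.tensorMod M J) (ClSub.idealMod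
        (Scheme.IdealSheafData.vanishingIdeal ⟨{p}, hpc⟩)) ≅ M) := by
      apply iso_of_cls_mul_eq hM' hI hM
      rw [← cls_mul hM hJ, mul_assoc, mul_comm (PicGrp.cls J hJ), g3, mul_one]
    obtain ⟨e1⟩ := hiso1
    have f1 := hp _ hM' ⟨e1⟩
    obtain ⟨-, -, -, c1⟩ := untwist_facts k X hdim hreg M _ hM hM' p hpc e1
    have e2 := h0_point_twist_of_mem_genLocus k X hdim hreg L hL v p hpc hpW
    have hiso2 : Nonempty (CohB1.tensorMod (CohB1.tensorMod M J) (CohB1.tensorMod L (ClSub.idealMod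
        (Scheme.IdealSheafData.vanishingIdeal ⟨{p}, hpc⟩))) ≅ CohB1.tensorMod M L) := by
      apply iso_of_cls_mul_eq hM' hL' hML
      rw [← cls_mul hM hJ, ← cls_mul hL hI, ← cls_mul hM hL, mul_mul_mul_comm,
        mul_comm (PicGrp.cls J hJ), g3, mul_one]
    obtain ⟨e3⟩ := hiso2
    have i3 := Groth.Agent.Lib.R2H2.ClosedPnLin.finrank_HH_of_iso k e3 1
    have := ih _ _ hL' hM' (by omega) (by omega)
    omega

/-- Clifford's inequality -/
theorem clifford (hdim : topologicalKrullDim X = 1)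
    (hreg : ∀ x : X, IsRegularLocalRing (X.presheaf.stalk x))
    (L : X.Modules) (hL : PicF.IsInvertible L)
    (h0 : 1 ≤ Module.finrank k (Coh.HH X L 0)) (h1 : 1 ≤ Module.finrank k (Coh.HH X L 1)) :
    2 * (Module.finrank k (Coh.HH X L 0) : ℤ) ≤ Curv2.deg k X L 1 + 2 := by
  haveI := isNoetherian_of_proper k X
  have hO := Groth.Agent.Lib.Helper23.TensorUnit.isInvertible_structureModule X
  obtain ⟨n, hn⟩ : ∃ n, Module.finrank k (Coh.HH X L 0) = n + 1 := ⟨_, (Nat.sub_add_cancel h0).symm⟩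
  have e : CohB1.tensorMod (Coh.structureModule X) L ≅ L := commI _ _ ≪≫ runitI L
  have i1 := Groth.Agent.Lib.R2H2.ClosedPnLin.finrank_HH_of_iso k e 1
  have key := hopf_h1_aux k X hdim hreg n L _ hL hO hn (by omega)
  have hg : Module.finrank k (Coh.HH X (Coh.structureModule X) 1) = Curv2.genus k X := rfl
  have e1 := euler_eq_h0_sub_h1 k X hdim.le L (isCoh_of_isInvertible L hL).1
  have χO := euler_structure k X hdim
  have hd : Curv2.deg k X L 1 = Curv2.euler k X L - 1 * Curv2.euler k X (Coh.structureModule X) := by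
    unfold Curv2.deg; simp
  rw [hd, e1, χO]
  have key' : ((n + 1 + Module.finrank k (Coh.HH X (CohB1.tensorMod (Coh.structureModule X) L) 1) : ℕ) : ℤ) ≤
      ((Module.finrank k (Coh.HH X (Coh.structureModule X) 1) + 1 : ℕ) : ℤ) := by exact_mod_cast key
  rw [i1, hg, ← hn] at key'
  push_cast at key'
  linarith

/-- non-special invertible modules: `h⁰ = deg + 1 - g` -/
theorem h0_of_nonspecial (hdim : topologicalKrullDim X = 1)
    (L : X.Modules) (hL : PicF.IsInvertible L)
    (h1 : Module.finrank k (Coh.HH X L 1) = 0) :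
    (Module.finrank k (Coh.HH X L 0) : ℤ) = Curv2.deg k X L 1 + 1 - Curv2.genus k X := by
  haveI := isNoetherian_of_proper k X
  have e1 := euler_eq_h0_sub_h1 k X hdim.le L (isCoh_of_isInvertible L hL).1
  have χO := euler_structure k X hdim
  have hd : Curv2.deg k X L 1 = Curv2.euler k X L - 1 * Curv2.euler k X (Coh.structureModule X) := by
    unfold Curv2.deg; simp
  rw [hd, e1, χO, h1]
  push_cast
  ring

end Part4

section Part5

open Groth.Agent.Lib.R2H1.PicLaw
open Groth.Agent.Lib.R2H1.PointTwist Groth.Agent.Lib.R2H1.PointTwistB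
open Groth.Agent.Lib.R2H1.DegCartier Groth.Agent.Lib.R2H1.SkyDecomp Groth.Agent.Lib.R2H2.DevA
open Groth.Agent.Lib.R2H1.RegPoint Groth.Agent.Lib.R2H1.CurveEuler Groth.Agent.Lib.R2H1.CurveDegSec
  Groth.Agent.Lib.R2H1.EulerAdd Groth.Agent.Lib.R2H2.HHLin Groth.Agent.Lib.R2H2.PnLinRes
  Groth.Agent.Lib.R2H1.GenusZero Groth.Agent.Lib.R2H1.DegNonpos Groth.Agent.Lib.R2H1.NonSpecial
  Groth.Agent.Lib.R2H1.LiftZero Groth.Agent.Lib.R2H1.CurveAmple

variable (k : Type u) [Field k] [IsAlgClosed k] (X : Scheme.{u}) [X.Over (Spec (CommRingCat.of k))]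
    [IsIntegral X] [IsProper (X ↘ (Spec (CommRingCat.of k)))]

theorem s19205 (hdim : topologicalKrullDim X = 1)
    (hreg : ∀ x : X, IsRegularLocalRing (X.presheaf.stalk x))
    (d : ℤ) (hd : 2 * (Curv2.genus k X : ℤ) ≤ d)
    (M : X.Modules) (hM : PicF.IsInvertible M) (m : ℕ) (hm : 1 ≤ m)
    (hsec : m + 1 ≤ Module.finrank k (Coh.HH X M 0)) (hdeg : Curv2.deg k X M 1 ≤ d) :
    d * (m : ℤ) ≤ Curv2.deg k X M 1 * (d - Curv2.genus k X) := by
  have hg0 : (0 : ℤ) ≤ Curv2.genus k X := Int.natCast_nonneg _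
  have hsec' : ((m + 1 : ℕ) : ℤ) ≤ Module.finrank k (Coh.HH X M 0) := by exact_mod_cast hsec
  push_cast at hsec'
  rcases Nat.eq_zero_or_pos (Module.finrank k (Coh.HH X M 1)) with h1 | h1
  · have h0 := h0_of_nonspecial k X hdim M hM h1
    have hm' : (m : ℤ) ≤ Curv2.deg k X M 1 - Curv2.genus k X := by linarith
    nlinarith [mul_le_mul_of_nonneg_left hm' (by linarith : (0 : ℤ) ≤ d),
      mul_nonneg (by linarith : (0 : ℤ) ≤ d - Curv2.deg k X M 1) hg0]
  · have hc := clifford k X hdim hreg M hM (by omega) h1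
    have hm' : 2 * (m : ℤ) ≤ Curv2.deg k X M 1 := by linarith
    have hm0 : (1 : ℤ) ≤ m := by exact_mod_cast hm
    nlinarith [mul_le_mul_of_nonneg_left hm' (by linarith : (0 : ℤ) ≤ d),
      mul_nonneg (by linarith : (0 : ℤ) ≤ Curv2.deg k X M 1)
        (by linarith : (0 : ℤ) ≤ d - 2 * Curv2.genus k X)]

theorem s19204 (hdim : topologicalKrullDim X = 1)
    (hreg : ∀ x : X, IsRegularLocalRing (X.presheaf.stalk x))
    (hg : 1 ≤ Curv2.genus k X) (d : ℤ) (hd : 2 * (Curv2.genus k X : ℤ) < d)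
    (M : X.Modules) (hM : PicF.IsInvertible M) (m : ℕ) (hm : 1 ≤ m)
    (hsec : m + 1 ≤ Module.finrank k (Coh.HH X M 0)) (hdeg : Curv2.deg k X M 1 ≤ d)
    (hlt : Curv2.deg k X M 1 < d ∨ (m : ℤ) < d - Curv2.genus k X) :
    d * (m : ℤ) < Curv2.deg k X M 1 * (d - Curv2.genus k X) := by
  have hg0 : (1 : ℤ) ≤ Curv2.genus k X := by exact_mod_cast hg
  have hsec' : ((m + 1 : ℕ) : ℤ) ≤ Module.finrank k (Coh.HH X M 0) := by exact_mod_cast hsec
  push_cast at hsec'
  have hm0 : (1 : ℤ) ≤ m := by exact_mod_cast hm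
  rcases Nat.eq_zero_or_pos (Module.finrank k (Coh.HH X M 1)) with h1 | h1
  · have h0 := h0_of_nonspecial k X hdim M hM h1
    have hm' : (m : ℤ) ≤ Curv2.deg k X M 1 - Curv2.genus k X := by linarith
    rcases lt_or_eq_of_le hdeg with hlt' | heq
    · nlinarith [mul_le_mul_of_nonneg_left hm' (by linarith : (0 : ℤ) ≤ d),
        mul_pos (by linarith : (0 : ℤ) < d - Curv2.deg k X M 1) (by linarith : (0 : ℤ) < Curv2.genus k X)]
    · rcases hlt with hlt | hlt
      · exact absurd heq (ne_of_lt hlt)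
      · rw [heq]
        exact mul_lt_mul_of_pos_left hlt (by linarith)
  · have hc := clifford k X hdim hreg M hM (by omega) h1
    have hm' : 2 * (m : ℤ) ≤ Curv2.deg k X M 1 := by linarith
    nlinarith [mul_le_mul_of_nonneg_left hm' (by linarith : (0 : ℤ) ≤ d),
      mul_pos (by linarith : (0 : ℤ) < Curv2.deg k X M 1)
        (by linarith : (0 : ℤ) < d - 2 * Curv2.genus k X)]

theorem s16966 (hdim : topologicalKrullDim X = 1)
    (hreg : ∀ x : X, IsRegularLocalRing (X.presheaf.stalk x))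
    (hg : 1 ≤ Curv2.genus k X) (L : X.Modules) (hL : PicF.IsInvertible L)
    (hdeg : 2 * (Curv2.genus k X : ℤ) < Curv2.deg k X L 1)
    (M : X.Modules) (hM : PicF.IsInvertible M) (ι : M ⟶ L) [Mono ι] (hι : ¬ IsIso ι)
    (h2 : 2 ≤ Module.finrank k (Coh.HH X M 0)) :
    Curv2.deg k X L 1 * ((Module.finrank k (Coh.HH X M 0) : ℤ) - 1) <
      Curv2.deg k X M 1 * ((Module.finrank k (Coh.HH X L 0) : ℤ) - 1) := by
  have hM1 : FlatMod.IsFinLocFreeOfRank 1 M :=
    Groth.Agent.Lib.Helper23.SecTw.isFinLocFreeOfRank_one_of_isInvertible M hM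
  have hL1 : FlatMod.IsFinLocFreeOfRank 1 L :=
    Groth.Agent.Lib.Helper23.SecTw.isFinLocFreeOfRank_one_of_isInvertible L hL
  obtain ⟨hle, heq⟩ := Groth.Agent.Lib.R2H1.VBSub.deg_le_of_mono_same_rank k X hdim hM1 hL1 ι
  have hlt : Curv2.deg k X M 1 < Curv2.deg k X L 1 :=
    lt_of_le_of_ne hle (fun h => hι (heq h))
  haveI := s1522 k X hdim L hL (by linarith)
  have h1 : Module.finrank k (Coh.HH X L 1) = 0 := Module.finrank_zero_of_subsingleton
  have h0 := h0_of_nonspecial k X hdim L hL h1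
  obtain ⟨m, hm⟩ : ∃ m : ℕ, Module.finrank k (Coh.HH X M 0) = m + 1 :=
    ⟨Module.finrank k (Coh.HH X M 0) - 1, by omega⟩
  have key := s19204 k X hdim hreg hg (Curv2.deg k X L 1) hdeg M hM m (by omega) (by omega)
    hlt.le (Or.inl hlt)
  rw [h0, hm]
  push_cast
  have e1 : ((m : ℤ) + 1 - 1) = m := by ring
  have e2 : (Curv2.deg k X L 1 + 1 - (Curv2.genus k X : ℤ) - 1) =
      Curv2.deg k X L 1 - Curv2.genus k X := by ring
  rw [e1, e2]
  exact key

end Part5

end Groth.Agent.Lib.R2H1.Clifford
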