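import Mathlib
import Groth.Agent.Lib.R2H1Clifford
import Groth.Agent.Lib.R2H2DualRep
import Groth.Agent.Lib.R2H2DualExtGen
import Groth.Agent.Lib.R2H2TensorLin
import Groth.Agent.Lib.R2H2PnBeilinson
import Groth.Agent.Lib.H3FLF
import Groth.Agent.Lib.R2H1VBSat
import Groth.Agent.Lib.R2H2AmpleRes
import Groth.Agent.Lib.R2H1VBSub
import Groth.Agent.Lib.R2H1VBSlopeB
set_option backward.isDefEq.respectTransparency.types false

/-!
# Serre duality on regular integral proper curves over an algebraically closed field (helper1, round 2)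

Elementary (Riemann-Roch based) construction of a dualizing invertible module: `exists_omega` picks
a special invertible module of maximal degree, `inj_of_invertible`/`sur_of_invertible` show that
`Hom(L, ω) → H¹(L)^∨` is bijective for invertible `L`, `exists_epi_biproduct_invertible` resolves
coherent modules, `exists_dualizing` packages the result for all coherent modules.  Applications:
`exists_sub_of_h1_ne_zero`, `h1_subsingleton_of_semistable` (S11812), `h1_subsingleton_of_stable`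
(S11813).
-/

set_option autoImplicit false
set_option linter.style.haveILetI false
set_option linter.unusedSectionVars false
universe u v

open CategoryTheory CategoryTheory.Limits AlgebraicGeometry TopologicalSpace Opposite

namespace Groth.Agent.Lib.R2H1.SerreDual

section Part1

open Groth.Agent.Lib.R2H1.PicLaw Groth.Agent.Lib.R2H1.Clifford
open Groth.Agent.Lib.R2H1.PointTwist Groth.Agent.Lib.R2H1.PointTwistB
open Groth.Agent.Lib.R2H1.CurveEuler Groth.Agent.Lib.R2H1.CurveDegSec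
  Groth.Agent.Lib.R2H1.EulerAdd Groth.Agent.Lib.R2H2.HHLin Groth.Agent.Lib.R2H2.PnLinRes
  Groth.Agent.Lib.R2H1.GenusZero Groth.Agent.Lib.R2H1.NonSpecial
  Groth.Agent.Lib.R2H1.LiftZero Groth.Agent.Lib.R2H1.CurveAmple
  Groth.Agent.Lib.R2H1.GenusLe Groth.Agent.Lib.R2H1.ZeroDimCoh Groth.Agent.Lib.R2H1.InvHom
  Groth.Agent.Lib.R2H1.RegPoint
open Groth.Agent.Lib.R2H2.DualRep

section Gen

variable (k : Type u) [Field k] (X : Scheme.{u}) [X.Over (Spec (CommRingCat.of k))]
    [IsProper (X ↘ (Spec (CommRingCat.of k)))] [IsIntegral X]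

include k in
/-- `H¹` of the cokernel of a nonzero map of invertible modules on a curve vanishes -/
theorem subsingleton_H1_cokernel (hdim : topologicalKrullDim X = 1) {N L : X.Modules}
    (hN : PicF.IsInvertible N) (hL : PicF.IsInvertible L) (φ : N ⟶ L) (hφ : φ ≠ 0) :
    Subsingleton (Coh.HH X (cokernel φ) 1) := by
  haveI := isNoetherian_of_proper k X
  obtain ⟨U, hUne, hU⟩ := exists_open_stalk_cokernel hN hL φ hφ
  have hdense : Dense (U : Set X) := U.isOpen.dense hUne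
  have hZ := dim_compl_le_zero_of_dense X hdim.le U hdense
  have hZc : IsClosed ((U : Set X)ᶜ) := U.isOpen.isClosed_compl
  have hsub : ∀ C : Set X, C ⊆ (U : Set X)ᶜ → IsClosed C := fun C hC =>
    isClosed_of_subset_of_dim_le_zero _ hZc hZ C hC
  have hmem : ∀ x : X, x ∉ (U : Set X)ᶜ → x ∈ U := fun x hx => not_not.mp hx
  haveI flC : TopCat.Sheaf.IsFlasque (Coh.toAb (cokernel φ)) :=
    isFlasque_of_support (X := X.toTopCat) (Coh.toAb (cokernel φ)) _ hsub
      (fun x hx => hU x (hmem x hx))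
  exact Groth.Agent.Lib.Helper16.Flasque.H_subsingleton (X := X.toTopCat)
    (Coh.toAb (cokernel φ)) 0

include k in
/-- a nonzero map of invertible modules on a curve is surjective on `H¹` -/
theorem surjective_H1_of_ne_zero (hdim : topologicalKrullDim X = 1) {N L : X.Modules}
    (hN : PicF.IsInvertible N) (hL : PicF.IsInvertible L) (φ : N ⟶ L) (hφ : φ ≠ 0) :
    Function.Surjective (HmapL φ 1) := by
  haveI := subsingleton_H1_cokernel k X hdim hN hL φ hφ
  haveI : Mono φ := mono_of_ne_zero hN hL φ hφ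
  let S : ShortComplex X.Modules := ShortComplex.mk φ (cokernel.π φ) (cokernel.condition φ)
  have hS : S.ShortExact :=
    { exact := ShortComplex.exact_cokernel φ
      mono_f := inferInstanceAs (Mono φ)
      epi_g := inferInstanceAs (Epi (cokernel.π φ)) }
  intro y
  obtain ⟨x, hx⟩ := exact₂ S hS 1 y (Subsingleton.elim _ _)
  exact ⟨x, hx⟩

include k in
/-- the duality map into a fixed invertible module with a nonzero linear form on its `H¹` is
injective on maps from invertible modules -/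
theorem inj_of_invertible (hdim : topologicalKrullDim X = 1) {ω : X.Modules}
    (hω : PicF.IsInvertible ω) (t : Coh.HH X ω 1 →ₗ[k] k) (ht : t ≠ 0)
    (L : X.Modules) (hL : PicF.IsInvertible L) : Inj t L := by
  intro φ hφ
  by_contra hne
  apply ht
  ext y
  obtain ⟨x, rfl⟩ := surjective_H1_of_ne_zero k X hdim hL hω φ hne y
  rw [hφ x, LinearMap.zero_apply]

end Gen

section AlgClosed

variable (k : Type u) [Field k] [IsAlgClosed k] (X : Scheme.{u}) [X.Over (Spec (CommRingCat.of k))]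
    [IsIntegral X] [IsProper (X ↘ (Spec (CommRingCat.of k)))]

/-- the ideal of a closed point has degree `-1` -/
theorem deg_pointIdeal (hdim : topologicalKrullDim X = 1)
    (hreg : ∀ x : X, IsRegularLocalRing (X.presheaf.stalk x))
    (p : X) (hp : IsClosed ({p} : Set X)) :
    Curv2.deg k X (ClSub.idealMod (Scheme.IdealSheafData.vanishingIdeal ⟨{p}, hp⟩)) 1 = -1 := by
  have hI : PicF.IsInvertible (ClSub.idealMod (Scheme.IdealSheafData.vanishingIdeal ⟨{p}, hp⟩)) :=
    Groth.Agent.Helper18Cart.isInvertible_of_isEffCartier _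
      (point_isEffCartier k X hdim hreg p hp)
  have hO := Groth.Agent.Lib.Helper23.TensorUnit.isInvertible_structureModule X
  obtain ⟨d, -, -, -⟩ := untwist_facts k X hdim hreg _ _ hI hO p hp (commI _ _ ≪≫ runitI _)
  have h0 : Curv2.deg k X (Coh.structureModule X) 1 = 0 := by
    unfold Curv2.deg; simp
  rw [h0] at d
  linarith

/-- a special invertible module exists -/
theorem exists_special (hdim : topologicalKrullDim X = 1)
    (hreg : ∀ x : X, IsRegularLocalRing (X.presheaf.stalk x)) :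
    ∃ M : X.Modules, PicF.IsInvertible M ∧ 1 ≤ Module.finrank k (Coh.HH X M 1) := by
  haveI := isNoetherian_of_proper k X
  obtain ⟨x⟩ := (inferInstance : Nonempty X)
  obtain ⟨p, -, hpc, -⟩ := exists_closed_dvr_mem_open k X (X ↘ Spec (CommRingCat.of k)) hdim ⊤
    ⟨x, trivial⟩
  have hI : PicF.IsInvertible (ClSub.idealMod (Scheme.IdealSheafData.vanishingIdeal ⟨{p}, hpc⟩)) :=
    Groth.Agent.Helper18Cart.isInvertible_of_isEffCartier _
      (point_isEffCartier k X hdim hreg p hpc)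
  have hM := Groth.Agent.Lib.Helper23.SecTw.isInvertible_tensorMod hI hI
  refine ⟨_, hM, ?_⟩
  have hd : Curv2.deg k X (CohB1.tensorMod (ClSub.idealMod
      (Scheme.IdealSheafData.vanishingIdeal ⟨{p}, hpc⟩)) (ClSub.idealMod
      (Scheme.IdealSheafData.vanishingIdeal ⟨{p}, hpc⟩))) 1 = -2 := by
    rw [Groth.Agent.Lib.R2H1.VBIndecTwo.deg_tensor_invertible k X hdim hI hI,
      deg_pointIdeal k X hdim hreg p hpc]
    norm_num
  have cM := isCoh_of_isInvertible _ hM
  have h0 : Module.finrank k (Coh.HH X (CohB1.tensorMod (ClSub.idealMod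
      (Scheme.IdealSheafData.vanishingIdeal ⟨{p}, hpc⟩)) (ClSub.idealMod
      (Scheme.IdealSheafData.vanishingIdeal ⟨{p}, hpc⟩))) 0) = 0 := by
    by_contra hne
    obtain ⟨σ, hσ⟩ := exists_section_of_pos k X _ cM (Nat.pos_of_ne_zero hne)
    have := s1518 k X hdim _ hM σ hσ
    rw [hd] at this
    omega
  have e1 := euler_eq_h0_sub_h1 k X hdim.le _ cM.1
  have χO := euler_structure k X hdim
  unfold Curv2.deg at hd
  rw [e1, χO, h0] at hd
  push_cast at hd
  have : (Module.finrank k (Coh.HH X (CohB1.tensorMod (ClSub.idealMod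
      (Scheme.IdealSheafData.vanishingIdeal ⟨{p}, hpc⟩)) (ClSub.idealMod
      (Scheme.IdealSheafData.vanishingIdeal ⟨{p}, hpc⟩))) 1) : ℤ) = 1 + Curv2.genus k X := by
    linarith
  omega

/-- an invertible module with `H¹ ≠ 0` of maximal degree -/
theorem exists_omega (hdim : topologicalKrullDim X = 1)
    (hreg : ∀ x : X, IsRegularLocalRing (X.presheaf.stalk x)) :
    ∃ ω : X.Modules, PicF.IsInvertible ω ∧ 1 ≤ Module.finrank k (Coh.HH X ω 1) ∧
      ∀ M : X.Modules, PicF.IsInvertible M → 1 ≤ Module.finrank k (Coh.HH X M 1) →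
        Curv2.deg k X M 1 ≤ Curv2.deg k X ω 1 := by
  have hbdd : ∃ b : ℤ, ∀ z : ℤ, (∃ M : X.Modules, PicF.IsInvertible M ∧
      1 ≤ Module.finrank k (Coh.HH X M 1) ∧ Curv2.deg k X M 1 = z) → z ≤ b := by
    refine ⟨2 * (Curv2.genus k X : ℤ) - 2, ?_⟩
    rintro z ⟨M, hM, h1, rfl⟩
    by_contra hcon
    haveI := s1522 k X hdim M hM (by omega)
    have : Module.finrank k (Coh.HH X M 1) = 0 := Module.finrank_zero_of_subsingleton
    omega
  have hinh : ∃ z : ℤ, ∃ M : X.Modules, PicF.IsInvertible M ∧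
      1 ≤ Module.finrank k (Coh.HH X M 1) ∧ Curv2.deg k X M 1 = z := by
    obtain ⟨M, hM, h1⟩ := exists_special k X hdim hreg
    exact ⟨_, M, hM, h1, rfl⟩
  obtain ⟨d, ⟨ω, hω, h1, hd⟩, hmax⟩ := Int.exists_greatest_of_bdd hbdd hinh
  refine ⟨ω, hω, h1, fun M hM hM1 => ?_⟩
  rw [hd]
  exact hmax _ ⟨M, hM, hM1, rfl⟩

end AlgClosed

end Part1

section Part2


open Groth.Agent.Lib.R2H1.PicLaw Groth.Agent.Lib.R2H1.Clifford
open Groth.Agent.Lib.R2H1.PointTwist Groth.Agent.Lib.R2H1.PointTwistB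
open Groth.Agent.Lib.R2H1.CurveEuler Groth.Agent.Lib.R2H1.CurveDegSec
  Groth.Agent.Lib.R2H1.EulerAdd Groth.Agent.Lib.R2H2.HHLin Groth.Agent.Lib.R2H2.PnLinRes
  Groth.Agent.Lib.R2H1.GenusZero Groth.Agent.Lib.R2H1.NonSpecial
  Groth.Agent.Lib.R2H1.LiftZero Groth.Agent.Lib.R2H1.CurveAmple
  Groth.Agent.Lib.R2H1.GenusLe Groth.Agent.Lib.R2H1.ZeroDimCoh Groth.Agent.Lib.R2H1.InvHom
  Groth.Agent.Lib.R2H1.RegPoint
open Groth.Agent.Lib.R2H2.DualRep Groth.Agent.Lib.R2H2.DualExtGen Groth.Agent.Lib.R2H2.PnBeilinson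

section LinAlg

variable {K : Type*} [Field K] {V₁ V₂ W : Type*} [AddCommGroup V₁] [Module K V₁]
  [AddCommGroup V₂] [Module K V₂] [AddCommGroup W] [Module K W]
  [Module.Finite K V₁] [Module.Finite K V₂] [Module.Finite K W]

/-- two injective linear maps whose sources are too big for the target have a common value -/
theorem exists_eq_of_finrank_lt (f : V₁ →ₗ[K] W) (g : V₂ →ₗ[K] W)
    (hg : Function.Injective g)
    (h : Module.finrank K W < Module.finrank K V₁ + Module.finrank K V₂) :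
    ∃ (v₁ : V₁) (v₂ : V₂), v₁ ≠ 0 ∧ f v₁ = g v₂ := by
  have h' : Module.finrank K W < Module.finrank K (V₁ × V₂) := by
    rw [Module.finrank_prod]; exact h
  obtain ⟨⟨v₁, v₂⟩, hv, hne⟩ : ∃ v : V₁ × V₂, v ∈ LinearMap.ker (f.coprod (-g)) ∧ v ≠ 0 := by
    have := LinearMap.ker_ne_bot_of_finrank_lt (f := f.coprod (-g)) h'
    exact Submodule.exists_mem_ne_zero_of_ne_bot this
  rw [LinearMap.mem_ker, LinearMap.coprod_apply, LinearMap.neg_apply] at hv
  have heq : f v₁ = g v₂ := by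
    have h1 : f v₁ - g v₂ = 0 := by rw [sub_eq_add_neg]; exact hv
    exact sub_eq_zero.mp h1
  refine ⟨v₁, v₂, ?_, heq⟩
  intro h0
  apply hne
  rw [h0, map_zero] at heq
  have : v₂ = 0 := hg (heq.symm.trans (map_zero g).symm)
  rw [h0, this]
  rfl

end LinAlg

section Lin

variable (k : Type u) [Field k] {X : Scheme.{u}} [X.Over (Spec (CommRingCat.of k))]

/-- tensoring on the left is `k`-linear -/
instance tensorBi_linear (N : X.Modules) : (DCoh.tensorBi.obj N).Linear k where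
  map_smul f r := by
    rw [KLin.smul_def, KLin.smul_def, Functor.map_comp]
    congr 1
    exact Groth.Agent.Lib.R2H2.TensorLin.tensorBi_map_smulModΓ N _ _

/-- multiplication of a module by sections of another module, as a linear map -/
noncomputable def mulSecL (N T : X.Modules) :
    (Coh.structureModule X ⟶ T) →ₗ[k] (N ⟶ CohB1.tensorMod N T) :=
  Linear.leftComp k _ (SecTwist.unitorR N).inv ∘ₗ (DCoh.tensorBi.obj N).mapLinearMap k

theorem mulSecL_apply (N T : X.Modules) (s : Coh.structureModule X ⟶ T) :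
    mulSecL k N T s = mulSec N s := rfl

theorem mulSecL_injective [IsIntegral X] (N T : X.Modules) (hN : PicF.IsInvertible N)
    (hT : PicF.IsInvertible T) : Function.Injective (mulSecL k N T) := by
  rw [injective_iff_map_eq_zero]
  intro s hs
  by_contra hne
  exact mulSec_ne_zero N hN hT s hne hs

end Lin

end Part2

section Part3


open Groth.Agent.Lib.R2H1.PicLaw Groth.Agent.Lib.R2H1.Clifford
open Groth.Agent.Lib.R2H1.PointTwist Groth.Agent.Lib.R2H1.PointTwistB
open Groth.Agent.Lib.R2H1.CurveEuler Groth.Agent.Lib.R2H1.CurveDegSec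
  Groth.Agent.Lib.R2H1.EulerAdd Groth.Agent.Lib.R2H2.HHLin Groth.Agent.Lib.R2H2.PnLinRes
  Groth.Agent.Lib.R2H1.GenusZero Groth.Agent.Lib.R2H1.NonSpecial
  Groth.Agent.Lib.R2H1.LiftZero Groth.Agent.Lib.R2H1.CurveAmple
  Groth.Agent.Lib.R2H1.GenusLe Groth.Agent.Lib.R2H1.ZeroDimCoh Groth.Agent.Lib.R2H1.InvHom
  Groth.Agent.Lib.R2H1.RegPoint
open Groth.Agent.Lib.R2H2.DualRep Groth.Agent.Lib.R2H2.DualExtGen Groth.Agent.Lib.R2H2.PnBeilinson

variable (k : Type u) [Field k] [IsAlgClosed k] (X : Scheme.{u}) [X.Over (Spec (CommRingCat.of k))]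
    [IsIntegral X] [IsProper (X ↘ (Spec (CommRingCat.of k)))]

/-- `h¹` of an invertible module of negative degree -/
theorem h1_of_deg_neg (hdim : topologicalKrullDim X = 1) (N : X.Modules)
    (hN : PicF.IsInvertible N) (hd : Curv2.deg k X N 1 < 0) :
    (Module.finrank k (Coh.HH X N 1) : ℤ) = -Curv2.deg k X N 1 - 1 + Curv2.genus k X := by
  haveI := isNoetherian_of_proper k X
  have cN := isCoh_of_isInvertible N hN
  have h0 : Module.finrank k (Coh.HH X N 0) = 0 := by
    by_contra hne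
    obtain ⟨σ, hσ⟩ := exists_section_of_pos k X _ cN (Nat.pos_of_ne_zero hne)
    have := s1518 k X hdim _ hN σ hσ
    omega
  have e1 := euler_eq_h0_sub_h1 k X hdim.le _ cN.1
  have χO := euler_structure k X hdim
  have hd' : Curv2.deg k X N 1 = Curv2.euler k X N - 1 * Curv2.euler k X (Coh.structureModule X) := by
    unfold Curv2.deg; simp
  rw [hd', e1, χO, h0]
  push_cast
  ring

/-- Riemann's inequality -/
theorem h0_ge (hdim : topologicalKrullDim X = 1) (T : X.Modules) (hT : PicF.IsInvertible T) :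
    Curv2.deg k X T 1 + 1 - Curv2.genus k X ≤ (Module.finrank k (Coh.HH X T 0) : ℤ) := by
  haveI := isNoetherian_of_proper k X
  have cT := isCoh_of_isInvertible T hT
  have e1 := euler_eq_h0_sub_h1 k X hdim.le _ cT.1
  have χO := euler_structure k X hdim
  have hd' : Curv2.deg k X T 1 = Curv2.euler k X T - 1 * Curv2.euler k X (Coh.structureModule X) := by
    unfold Curv2.deg; simp
  rw [hd', e1, χO]
  have : (0 : ℤ) ≤ Module.finrank k (Coh.HH X T 1) := Int.natCast_nonneg _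
  linarith

/-- invertible modules of every negative degree, with an inverse -/
theorem exists_neg (hdim : topologicalKrullDim X = 1)
    (hreg : ∀ x : X, IsRegularLocalRing (X.presheaf.stalk x)) (m : ℕ) :
    ∃ (P N : X.Modules), PicF.IsInvertible P ∧ PicF.IsInvertible N ∧
      Nonempty (CohB1.tensorMod P N ≅ Coh.structureModule X) ∧
      Curv2.deg k X P 1 = m ∧ Curv2.deg k X N 1 = -(m : ℤ) := by
  haveI := isNoetherian_of_proper k X
  obtain ⟨x⟩ := (inferInstance : Nonempty X)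
  obtain ⟨p, -, hpc, -⟩ := exists_closed_dvr_mem_open k X (X ↘ Spec (CommRingCat.of k)) hdim ⊤
    ⟨x, trivial⟩
  obtain ⟨J, hJ, ⟨eJ⟩, -⟩ := exists_pos_twist k X hdim hreg p hpc
  have hI : PicF.IsInvertible (ClSub.idealMod (Scheme.IdealSheafData.vanishingIdeal ⟨{p}, hpc⟩)) :=
    Groth.Agent.Helper18Cart.isInvertible_of_isEffCartier _
      (point_isEffCartier k X hdim hreg p hpc)
  have hI1 := Groth.Agent.Lib.Helper23.SecTw.isFinLocFreeOfRank_one_of_isInvertible _ hI
  have hJ1 := Groth.Agent.Lib.Helper23.SecTw.isFinLocFreeOfRank_one_of_isInvertible _ hJ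
  have hdJ : Curv2.deg k X J 1 = 1 := by
    rw [Groth.Agent.Lib.R2H1.VBTwist.deg_inverse k X hdim hI1 hJ1 eJ,
      deg_pointIdeal k X hdim hreg p hpc]
    norm_num
  have hP := Groth.Agent.Lib.Helper23.SecTw.isInvertible_tensorPow hJ m
  have hdP : Curv2.deg k X (CohB1.tensorPow J m) 1 = m := by
    rw [Groth.Agent.Lib.R2H1.PointTwist.deg_tensorPow k X hdim J hJ m, hdJ, mul_one]
  obtain ⟨N, hN, ⟨e⟩⟩ := Groth.Agent.Lib.R2H1.InvExists.exists_inverse _ hP
  have hP1 := Groth.Agent.Lib.Helper23.SecTw.isFinLocFreeOfRank_one_of_isInvertible _ hP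
  have hN1 := Groth.Agent.Lib.Helper23.SecTw.isFinLocFreeOfRank_one_of_isInvertible _ hN
  refine ⟨_, N, hP, hN, ⟨e⟩, hdP, ?_⟩
  rw [Groth.Agent.Lib.R2H1.VBTwist.deg_inverse k X hdim hP1 hN1 e, hdP]

/-- the sections-to-maps injection `H⁰(P ⊗ L) → Hom(N, L)` for `N` inverse to `P` -/
theorem exists_hom_injection (hdim : topologicalKrullDim X = 1) {P N L : X.Modules}
    (hP : PicF.IsInvertible P) (hN : PicF.IsInvertible N) (hL : PicF.IsInvertible L)
    (e : CohB1.tensorMod P N ≅ Coh.structureModule X) :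
    ∃ Φ : (Coh.structureModule X ⟶ CohB1.tensorMod P L) →ₗ[k] (N ⟶ L), Function.Injective Φ := by
  have hT := Groth.Agent.Lib.Helper23.SecTw.isInvertible_tensorMod hP hL
  have hNT := Groth.Agent.Lib.Helper23.SecTw.isInvertible_tensorMod hN hT
  have hO := Groth.Agent.Lib.Helper23.TensorUnit.isInvertible_structureModule X
  obtain ⟨θ⟩ : Nonempty (CohB1.tensorMod N (CohB1.tensorMod P L) ≅ L) := by
    letI := lawOfIntegral X
    apply iso_of_cls_mul_eq hN hT hL
    have g := cls_mul_eq_of_iso hP hN hO e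
    rw [PicGrp.cls_structureModule_eq_one] at g
    rw [← cls_mul hP hL, ← mul_assoc, mul_comm (PicGrp.cls N hN), g, one_mul]
  refine ⟨Linear.rightComp k N θ.hom ∘ₗ mulSecL k N (CohB1.tensorMod P L), ?_⟩
  intro s s' h
  apply mulSecL_injective k N _ hN hT
  have h' : mulSecL k N (CohB1.tensorMod P L) s ≫ θ.hom =
      mulSecL k N (CohB1.tensorMod P L) s' ≫ θ.hom := h
  exact (cancel_mono θ.hom).1 h'

/-- the duality map is injective on maps out of invertible modules -/
theorem dualityL_injective (hdim : topologicalKrullDim X = 1) {ω : X.Modules}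
    (hω : PicF.IsInvertible ω) (t : Coh.HH X ω 1 →ₗ[k] k) (ht : t ≠ 0)
    (N : X.Modules) (hN : PicF.IsInvertible N) : Function.Injective (dualityL t N) := by
  rw [injective_iff_map_eq_zero]
  intro φ hφ
  exact inj_of_invertible k X hdim hω t ht N hN φ (fun x => LinearMap.congr_fun hφ x)

/-- proportionality: two nonzero linear forms on `H¹` of invertible modules agree after
pulling back to a sufficiently negative invertible module -/
theorem exists_proportional (hdim : topologicalKrullDim X = 1)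
    (hreg : ∀ x : X, IsRegularLocalRing (X.presheaf.stalk x)) {L ω : X.Modules}
    (hL : PicF.IsInvertible L) (hω : PicF.IsInvertible ω)
    (η : Coh.HH X L 1 →ₗ[k] k) (hη : η ≠ 0) (t : Coh.HH X ω 1 →ₗ[k] k) (ht : t ≠ 0) :
    ∃ (N : X.Modules) (_ : PicF.IsInvertible N) (a : N ⟶ L) (b : N ⟶ ω), a ≠ 0 ∧
      ∀ x : Coh.HH X N 1, η (HmapL a 1 x) = t (HmapL b 1 x) := by
  haveI := isNoetherian_of_proper k X
  obtain ⟨m, hm1, hm2⟩ : ∃ m : ℕ, (1 : ℤ) ≤ m ∧
      3 * (Curv2.genus k X : ℤ) - 3 - Curv2.deg k X L 1 - Curv2.deg k X ω 1 < m := by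
    refine ⟨(max (3 * (Curv2.genus k X : ℤ) - 3 - Curv2.deg k X L 1 - Curv2.deg k X ω 1) 0).toNat + 1,
      ?_, ?_⟩
    · push_cast; omega
    · push_cast
      rw [Int.toNat_of_nonneg (le_max_right _ _)]
      have := le_max_left (3 * (Curv2.genus k X : ℤ) - 3 - Curv2.deg k X L 1 - Curv2.deg k X ω 1) 0
      omega
  obtain ⟨P, N, hP, hN, ⟨e⟩, hdP, hdN⟩ := exists_neg k X hdim hreg m
  have hT₁ := Groth.Agent.Lib.Helper23.SecTw.isInvertible_tensorMod hP hL
  have hT₂ := Groth.Agent.Lib.Helper23.SecTw.isInvertible_tensorMod hP hω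
  obtain ⟨Φ₁, hΦ₁⟩ := exists_hom_injection k X hdim hP hN hL e
  obtain ⟨Φ₂, hΦ₂⟩ := exists_hom_injection k X hdim hP hN hω e
  have cT₁ := isCoh_of_isInvertible _ hT₁
  have cT₂ := isCoh_of_isInvertible _ hT₂
  have cN := isCoh_of_isInvertible _ hN
  haveI := finite_HH k X _ cT₁ 0
  haveI := finite_HH k X _ cT₂ 0
  haveI := finite_HH k X _ cN 1
  haveI : Module.Finite k (Coh.structureModule X ⟶ CohB1.tensorMod P L) :=
    Module.Finite.equiv (clsEquiv (k := k) _).symm
  haveI : Module.Finite k (Coh.structureModule X ⟶ CohB1.tensorMod P ω) :=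
    Module.Finite.equiv (clsEquiv (k := k) _).symm
  have d₁ := h0_ge k X hdim _ hT₁
  have d₂ := h0_ge k X hdim _ hT₂
  rw [Groth.Agent.Lib.R2H1.VBIndecTwo.deg_tensor_invertible k X hdim hP hL, hdP] at d₁
  rw [Groth.Agent.Lib.R2H1.VBIndecTwo.deg_tensor_invertible k X hdim hP hω, hdP] at d₂
  have d₃ := h1_of_deg_neg k X hdim N hN (by rw [hdN]; omega)
  rw [hdN] at d₃
  have f₁ := (clsEquiv (k := k) (CohB1.tensorMod P L)).finrank_eq
  have f₂ := (clsEquiv (k := k) (CohB1.tensorMod P ω)).finrank_eq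
  have f₃ : Module.finrank k (Module.Dual k (Coh.HH X N 1)) = Module.finrank k (Coh.HH X N 1) :=
    Subspace.dual_finrank_eq
  have hlt : Module.finrank k (Module.Dual k (Coh.HH X N 1)) <
      Module.finrank k (Coh.structureModule X ⟶ CohB1.tensorMod P L) +
        Module.finrank k (Coh.structureModule X ⟶ CohB1.tensorMod P ω) := by
    rw [f₁, f₂, f₃]
    have : (Module.finrank k (Coh.HH X N 1) : ℤ) <
        (Module.finrank k (Coh.HH X (CohB1.tensorMod P L) 0) : ℤ) +
          Module.finrank k (Coh.HH X (CohB1.tensorMod P ω) 0) := by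
      rw [d₃]; linarith
    exact_mod_cast this
  obtain ⟨v₁, v₂, hv₁, hv⟩ := exists_eq_of_finrank_lt
    (dualityL η N ∘ₗ Φ₁) (dualityL t N ∘ₗ Φ₂)
    ((dualityL_injective k X hdim hω t ht N hN).comp hΦ₂) hlt
  refine ⟨N, hN, Φ₁ v₁, Φ₂ v₂, fun h0 => hv₁ (hΦ₁ (h0.trans (map_zero Φ₁).symm)), fun x => ?_⟩
  exact LinearMap.congr_fun hv x

end Part3

section Part4


open Groth.Agent.Lib.R2H1.PicLaw Groth.Agent.Lib.R2H1.Clifford
open Groth.Agent.Lib.R2H1.PointTwist Groth.Agent.Lib.R2H1.PointTwistB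
open Groth.Agent.Lib.R2H1.CurveEuler Groth.Agent.Lib.R2H1.CurveDegSec
  Groth.Agent.Lib.R2H1.EulerAdd Groth.Agent.Lib.R2H2.HHLin Groth.Agent.Lib.R2H2.PnLinRes
  Groth.Agent.Lib.R2H1.GenusZero Groth.Agent.Lib.R2H1.NonSpecial
  Groth.Agent.Lib.R2H1.LiftZero Groth.Agent.Lib.R2H1.CurveAmple
  Groth.Agent.Lib.R2H1.GenusLe Groth.Agent.Lib.R2H1.ZeroDimCoh Groth.Agent.Lib.R2H1.InvHom
  Groth.Agent.Lib.R2H1.RegPoint
open Groth.Agent.Lib.R2H2.DualRep Groth.Agent.Lib.R2H2.DualExtGen Groth.Agent.Lib.R2H2.PnBeilinson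
open Groth.Agent.H3.FLF

attribute [local instance] Abelian.hasFiniteBiproducts

section Gen

variable {X : Scheme.{u}}

/-- a binary biproduct of finite locally free modules of ranks `n`, `m` has rank `n + m` -/
theorem isFinLocFreeOfRank_biprod (M N : X.Modules) {n m : ℕ}
    (hM : FlatMod.IsFinLocFreeOfRank n M) (hN : FlatMod.IsFinLocFreeOfRank m N) :
    FlatMod.IsFinLocFreeOfRank (n + m) (M ⊞ N) := fun x => by
  obtain ⟨U1, hx1, ⟨e1⟩⟩ := hM x
  obtain ⟨U2, hx2, ⟨e2⟩⟩ := hN x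
  obtain ⟨a⟩ := nonempty_restrict_iso_freeMod_of_le M (inf_le_left : U1 ⊓ U2 ≤ U1) e1
  obtain ⟨b⟩ := nonempty_restrict_iso_freeMod_of_le N (inf_le_right : U1 ⊓ U2 ≤ U2) e2
  obtain ⟨c⟩ := nonempty_biprod_freeMod_iso (X := ((U1 ⊓ U2 : X.Opens) : Scheme.{u})) n m
  refine ⟨U1 ⊓ U2, ⟨hx1, hx2⟩, ⟨?_⟩⟩
  have := preservesBinaryBiproducts_of_preservesBiproducts
    (Scheme.Modules.restrictFunctor (U1 ⊓ U2).ι)
  exact (Scheme.Modules.restrictFunctor (U1 ⊓ U2).ι).mapBiprod M N ≪≫ biprod.mapIso a b ≪≫ c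

end Gen

variable (k : Type u) [Field k] [IsAlgClosed k] (X : Scheme.{u}) [X.Over (Spec (CommRingCat.of k))]
    [IsIntegral X] [IsProper (X ↘ (Spec (CommRingCat.of k)))]

/-- every linear form on `H¹` of an invertible module is induced by a map to `ω` -/
theorem sur_of_invertible (hdim : topologicalKrullDim X = 1)
    (hreg : ∀ x : X, IsRegularLocalRing (X.presheaf.stalk x)) {ω : X.Modules}
    (hω : PicF.IsInvertible ω)
    (hmax : ∀ M : X.Modules, PicF.IsInvertible M → 1 ≤ Module.finrank k (Coh.HH X M 1) →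
        Curv2.deg k X M 1 ≤ Curv2.deg k X ω 1)
    (t : Coh.HH X ω 1 →ₗ[k] k) (ht : t ≠ 0) (L : X.Modules) (hL : PicF.IsInvertible L) :
    Sur t L := by
  haveI := isNoetherian_of_proper k X
  intro η
  by_cases hη : η = 0
  · refine ⟨0, fun x => ?_⟩
    rw [hη, HmapL_zero, map_zero, LinearMap.zero_apply]
  obtain ⟨N, hN, a, b, ha, hab⟩ := exists_proportional k X hdim hreg hL hω η hη t ht
  have hL1 := Groth.Agent.Lib.Helper23.SecTw.isFinLocFreeOfRank_one_of_isInvertible _ hL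
  have hω1 := Groth.Agent.Lib.Helper23.SecTw.isFinLocFreeOfRank_one_of_isInvertible _ hω
  have hN1 := Groth.Agent.Lib.Helper23.SecTw.isFinLocFreeOfRank_one_of_isInvertible _ hN
  have hE : FlatMod.IsFinLocFreeOfRank 2 (L ⊞ ω) := isFinLocFreeOfRank_biprod L ω hL1 hω1
  haveI : Mono a := mono_of_ne_zero hN hL a ha
  obtain ⟨ψ, hψ⟩ : ∃ ψ : N ⟶ L ⊞ ω, ψ = biprod.lift a b := ⟨_, rfl⟩
  have hψ₁ : ψ ≫ biprod.fst = a := by rw [hψ]; exact biprod.lift_fst _ _
  have hψ₂ : ψ ≫ biprod.snd = b := by rw [hψ]; exact biprod.lift_snd _ _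
  haveI : Mono ψ := by
    haveI : Mono (ψ ≫ biprod.fst) := by rw [hψ₁]; infer_instance
    exact mono_of_mono ψ biprod.fst
  obtain ⟨M', j, ℓ, s, hj, hℓj, hM', -, hQ, hrk, -⟩ :=
    Groth.Agent.Lib.R2H1.VBSat.exists_saturation' k X hdim hreg hE hN1 ψ
  haveI := hj
  have hs : s = 1 := by omega
  subst hs
  have hM'inv := Groth.Agent.Lib.R2H1.VBTwist.isInvertible_of_rank_one hM'
  have hQinv := Groth.Agent.Lib.R2H1.VBTwist.isInvertible_of_rank_one hQ
  have hℓ0 : ℓ ≠ 0 := by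
    intro h
    apply ha
    rw [← hψ₁, ← hℓj, h, zero_comp, zero_comp]
  have hℓsurj := surjective_H1_of_ne_zero k X hdim hN hM'inv ℓ hℓ0
  let S : ShortComplex X.Modules := ShortComplex.mk j (cokernel.π j) (cokernel.condition j)
  have hS : S.ShortExact :=
    { exact := ShortComplex.exact_cokernel j
      mono_f := inferInstanceAs (Mono j)
      epi_g := inferInstanceAs (Epi (cokernel.π j)) }
  -- the key fact
  have key : ∀ z : Coh.HH X (L ⊞ ω) 1, HmapL (cokernel.π j) 1 z = 0 →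
      η (HmapL biprod.fst 1 z) = t (HmapL biprod.snd 1 z) := by
    intro z hz
    obtain ⟨y, hy⟩ := exact₂ S hS 1 z hz
    obtain ⟨x, hx⟩ := hℓsurj y
    have hzx : z = HmapL ψ 1 x := by
      rw [← hy, ← hx, ← hℓj, HmapL_comp]
    rw [hzx, ← HmapL_comp, ← HmapL_comp, hψ₁, hψ₂]
    exact hab x
  -- `v ≠ 0`
  have hv : (biprod.inr : ω ⟶ L ⊞ ω) ≫ cokernel.π j ≠ 0 := by
    intro h0
    apply ht
    ext y
    have := key (HmapL biprod.inr 1 y) (by rw [← HmapL_comp, h0, HmapL_zero])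
    rw [← HmapL_comp, ← HmapL_comp, biprod.inr_fst, biprod.inr_snd, HmapL_zero, HmapL_id,
      map_zero] at this
    rw [← this, LinearMap.zero_apply]
  -- `H¹(P') ≠ 0`
  have hQ1 : 1 ≤ Module.finrank k (Coh.HH X (cokernel j) 1) := by
    by_contra hcon
    haveI := finite_HH k X _ (isCoh_of_isInvertible _ hQinv) 1
    have hz : Module.finrank k (Coh.HH X (cokernel j) 1) = 0 := by omega
    haveI : Subsingleton (Coh.HH X (cokernel j) 1) :=
      (Module.finrank_zero_iff (R := k)).mp hz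
    apply ht
    ext y
    have := key (HmapL biprod.inr 1 y) (Subsingleton.elim _ _)
    rw [← HmapL_comp, ← HmapL_comp, biprod.inr_fst, biprod.inr_snd, HmapL_zero, HmapL_id,
      map_zero] at this
    rw [← this, LinearMap.zero_apply]
  have hdeg := hmax _ hQinv hQ1
  obtain ⟨hle, hiso⟩ := s1521 k X hdim ω _ hω hQinv _ hv
  haveI : IsIso ((biprod.inr : ω ⟶ L ⊞ ω) ≫ cokernel.π j) := hiso (le_antisymm hle hdeg)
  obtain ⟨ψ', hψ'⟩ : ∃ ψ' : L ⟶ ω, ψ' = ((biprod.inl : L ⟶ L ⊞ ω) ≫ cokernel.π j) ≫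
      inv ((biprod.inr : ω ⟶ L ⊞ ω) ≫ cokernel.π j) := ⟨_, rfl⟩
  have hψ'v : ψ' ≫ ((biprod.inr : ω ⟶ L ⊞ ω) ≫ cokernel.π j) =
      (biprod.inl : L ⟶ L ⊞ ω) ≫ cokernel.π j := by
    rw [hψ', Category.assoc, IsIso.inv_hom_id, Category.comp_id]
  refine ⟨0 - ψ', fun x => ?_⟩
  have e1 : HmapL (biprod.fst : L ⊞ ω ⟶ L) 1 (HmapL biprod.inl 1 x) = x := by
    rw [← HmapL_comp, biprod.inl_fst, HmapL_id]
  have e2 : HmapL (biprod.fst : L ⊞ ω ⟶ L) 1 (HmapL biprod.inr 1 (HmapL ψ' 1 x)) = 0 := by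
    rw [← HmapL_comp, biprod.inr_fst, HmapL_zero]
  have e3 : HmapL (biprod.snd : L ⊞ ω ⟶ ω) 1 (HmapL biprod.inl 1 x) = 0 := by
    rw [← HmapL_comp, biprod.inl_snd, HmapL_zero]
  have e4 : HmapL (biprod.snd : L ⊞ ω ⟶ ω) 1 (HmapL biprod.inr 1 (HmapL ψ' 1 x)) =
      HmapL ψ' 1 x := by
    rw [← HmapL_comp, biprod.inr_snd, HmapL_id]
  have e5 : HmapL (cokernel.π j) 1 (HmapL biprod.inl 1 x - HmapL biprod.inr 1 (HmapL ψ' 1 x)) =
      0 := by
    rw [map_sub, ← HmapL_comp, ← HmapL_comp, ← HmapL_comp, hψ'v, sub_self]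
  have := key _ e5
  simp only [map_sub] at this
  rw [e1, e2, e3, e4, map_zero, map_zero, sub_zero, zero_sub] at this
  rw [this, HmapL_sub, HmapL_zero, zero_sub, map_neg]

end Part4

section Part5


open Groth.Agent.Lib.R2H1.PicLaw Groth.Agent.Lib.R2H1.Clifford
open Groth.Agent.Lib.R2H1.PointTwist Groth.Agent.Lib.R2H1.PointTwistB
open Groth.Agent.Lib.R2H1.CurveEuler Groth.Agent.Lib.R2H1.CurveDegSec
  Groth.Agent.Lib.R2H1.EulerAdd Groth.Agent.Lib.R2H2.HHLin Groth.Agent.Lib.R2H2.PnLinRes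
  Groth.Agent.Lib.R2H1.GenusZero Groth.Agent.Lib.R2H1.NonSpecial
  Groth.Agent.Lib.R2H1.LiftZero Groth.Agent.Lib.R2H1.CurveAmple
  Groth.Agent.Lib.R2H1.GenusLe Groth.Agent.Lib.R2H1.ZeroDimCoh Groth.Agent.Lib.R2H1.InvHom
  Groth.Agent.Lib.R2H1.RegPoint
open Groth.Agent.Lib.R2H2.DualRep Groth.Agent.Lib.R2H2.DualExtGen Groth.Agent.Lib.R2H2.PnBeilinson
open Groth.Agent.Lib.R2H2.PnSerre Groth.Agent.Lib.R2H2.AmpleRes

attribute [local instance] Abelian.hasFiniteBiproducts

variable (k : Type u) [Field k] [IsAlgClosed k] (X : Scheme.{u}) [X.Over (Spec (CommRingCat.of k))]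
    [IsIntegral X] [IsProper (X ↘ (Spec (CommRingCat.of k)))]

include k in
/-- every coherent module on a regular integral proper curve is a quotient of a finite direct sum
of copies of one invertible module -/
theorem exists_epi_biproduct_invertible (hdim : topologicalKrullDim X = 1)
    (hreg : ∀ x : X, IsRegularLocalRing (X.presheaf.stalk x)) (F : X.Modules)
    (hF : Coh.IsCoh F) :
    ∃ (r : ℕ) (B : X.Modules) (_ : PicF.IsInvertible B) (q : (⨁ fun _ : Fin r => B) ⟶ F),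
      Epi q := by
  haveI := isNoetherian_of_proper k X
  obtain ⟨x⟩ := (inferInstance : Nonempty X)
  obtain ⟨p, -, hpc, -⟩ := exists_closed_dvr_mem_open k X (X ↘ Spec (CommRingCat.of k)) hdim ⊤
    ⟨x, trivial⟩
  obtain ⟨J, hJ, ⟨eJ⟩, -⟩ := exists_pos_twist k X hdim hreg p hpc
  have hI : PicF.IsInvertible (ClSub.idealMod (Scheme.IdealSheafData.vanishingIdeal ⟨{p}, hpc⟩)) :=
    Groth.Agent.Helper18Cart.isInvertible_of_isEffCartier _
      (point_isEffCartier k X hdim hreg p hpc)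
  have hI1 := Groth.Agent.Lib.Helper23.SecTw.isFinLocFreeOfRank_one_of_isInvertible _ hI
  have hJ1 := Groth.Agent.Lib.Helper23.SecTw.isFinLocFreeOfRank_one_of_isInvertible _ hJ
  have hdJ : Curv2.deg k X J 1 = 1 := by
    rw [Groth.Agent.Lib.R2H1.VBTwist.deg_inverse k X hdim hI1 hJ1 eJ,
      deg_pointIdeal k X hdim hreg p hpc]
    norm_num
  have hamp : CohB1.IsAmple J := (s1530 k X hdim J hJ).2 (by rw [hdJ]; norm_num)
  obtain ⟨n, r, q, hq⟩ := exists_finite_epi_twist J hamp F hF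
  have hP := Groth.Agent.Lib.Helper23.SecTw.isInvertible_tensorPow hJ n
  obtain ⟨N, hN, ⟨e⟩⟩ := Groth.Agent.Lib.R2H1.InvExists.exists_inverse _ hP
  haveI := hq
  haveI := epi_twR_map N hN q
  let f : Fin r → X.Modules := fun _ => Coh.structureModule X
  let e1 : (twR N).obj (⨁ f) ≅ ⨁ ((twR N).obj ∘ f) := (twR N).mapBiproduct f
  let e2 : ⨁ f ≅ ∐ f := biproduct.isoCoproduct f
  refine ⟨r, (twR N).obj (Coh.structureModule X),
    Groth.Agent.Lib.Helper23.SecTw.isInvertible_tensorMod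
      (Groth.Agent.Lib.Helper23.TensorUnit.isInvertible_structureModule X) hN,
    e1.inv ≫ (twR N).map e2.hom ≫ (twR N).map q ≫ (cancelIso F (CohB1.tensorPow J n) N e).hom, ?_⟩
  haveI : Epi ((twR N).map q ≫ (cancelIso F (CohB1.tensorPow J n) N e).hom) := epi_comp _ _
  haveI : Epi ((twR N).map e2.hom ≫ (twR N).map q ≫
      (cancelIso F (CohB1.tensorPow J n) N e).hom) := epi_comp _ _
  exact epi_comp _ _

section Dual

variable (hdim : topologicalKrullDim X = 1)
    (hreg : ∀ x : X, IsRegularLocalRing (X.presheaf.stalk x)) {ω : X.Modules}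
    (hω : PicF.IsInvertible ω)
    (hmax : ∀ M : X.Modules, PicF.IsInvertible M → 1 ≤ Module.finrank k (Coh.HH X M 1) →
        Curv2.deg k X M 1 ≤ Curv2.deg k X ω 1)
    (t : Coh.HH X ω 1 →ₗ[k] k) (ht : t ≠ 0)

include hdim hreg hω ht in
/-- the duality map into `ω` is injective for every coherent module -/
theorem inj_of_isCoh (F : X.Modules) (hF : Coh.IsCoh F) : Inj t F := by
  obtain ⟨r, B, hB, q, hq⟩ := exists_epi_biproduct_invertible k X hdim hreg F hF
  haveI := hq
  exact inj_of_epi q (inj_biproduct _ (fun _ => inj_of_invertible k X hdim hω t ht B hB))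

include hdim hreg hω hmax ht in
/-- the duality map into `ω` is surjective for every coherent module -/
theorem sur_of_isCoh (F : X.Modules) (hF : Coh.IsCoh F) : Sur t F := by
  haveI := isNoetherian_of_proper k X
  obtain ⟨r, B, hB, q, hq⟩ := exists_epi_biproduct_invertible k X hdim hreg F hF
  haveI := hq
  have cB : Coh.IsCoh (⨁ fun _ : Fin r => B) :=
    Groth.Agent.Lib.R2H2.PnLocFree.isCoh_of_isFinLocFree _
      (Groth.Agent.Lib.Helper1.FLF.isFinLocFree_biproduct _ (fun _ =>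
        Groth.Agent.Lib.R2H2.ProjOverPush.isFinLocFree_of_isInvertible hB))
  have cK : Coh.IsCoh (kernel q) := Groth.Agent.Lib.R2H2.PdSheaf.isCoh_kernel cB hF q
  let S : ShortComplex X.Modules := ShortComplex.mk (kernel.ι q) q (kernel.condition q)
  have hS : S.ShortExact :=
    { exact := ShortComplex.exact_kernel q
      mono_f := inferInstanceAs (Mono (kernel.ι q))
      epi_g := inferInstanceAs (Epi q) }
  haveI : Epi S.g := inferInstanceAs (Epi q)
  have hsurj : Function.Surjective (HmapL S.g 1) := by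
    intro y
    haveI : Subsingleton (Coh.HH X S.X₁ (1 + 1)) :=
      subsingleton_HH_curve k X hdim.le (kernel q) cK.1 2 le_rfl
    obtain ⟨z, hz⟩ := exact₃ S hS 1 y (Subsingleton.elim _ _)
    exact ⟨z, hz⟩
  exact sur_of_exact S hS.exact (inj_of_isCoh k X hdim hreg hω t ht _ cK)
    (sur_biproduct _ (fun _ => sur_of_invertible k X hdim hreg hω hmax t ht B hB)) hsurj

end Dual

end Part5

section Part6


open Groth.Agent.Lib.R2H1.PicLaw Groth.Agent.Lib.R2H1.Clifford
open Groth.Agent.Lib.R2H1.PointTwist Groth.Agent.Lib.R2H1.PointTwistB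
open Groth.Agent.Lib.R2H1.CurveEuler Groth.Agent.Lib.R2H1.CurveDegSec
  Groth.Agent.Lib.R2H1.EulerAdd Groth.Agent.Lib.R2H2.HHLin Groth.Agent.Lib.R2H2.PnLinRes
  Groth.Agent.Lib.R2H1.GenusZero Groth.Agent.Lib.R2H1.NonSpecial
  Groth.Agent.Lib.R2H1.LiftZero Groth.Agent.Lib.R2H1.CurveAmple
  Groth.Agent.Lib.R2H1.GenusLe Groth.Agent.Lib.R2H1.ZeroDimCoh Groth.Agent.Lib.R2H1.InvHom
  Groth.Agent.Lib.R2H1.RegPoint
open Groth.Agent.Lib.R2H2.DualRep Groth.Agent.Lib.R2H2.DualExtGen Groth.Agent.Lib.R2H2.PnBeilinson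

variable (k : Type u) [Field k] [IsAlgClosed k] (X : Scheme.{u}) [X.Over (Spec (CommRingCat.of k))]
    [IsIntegral X] [IsProper (X ↘ (Spec (CommRingCat.of k)))]

/-- existence of a dualizing invertible module with a trace form: an invertible `ω` of degree at
most `2g - 2` and a nonzero linear form `t` on `H¹(ω)` such that `φ ↦ t ∘ H¹(φ)` is a bijection
`Hom(F, ω) → H¹(F)^∨` for every coherent `F` -/
theorem exists_dualizing (hdim : topologicalKrullDim X = 1)
    (hreg : ∀ x : X, IsRegularLocalRing (X.presheaf.stalk x)) :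
    ∃ (ω : X.Modules) (_ : PicF.IsInvertible ω) (t : Coh.HH X ω 1 →ₗ[k] k),
      Curv2.deg k X ω 1 ≤ 2 * (Curv2.genus k X : ℤ) - 2 ∧ t ≠ 0 ∧
      ∀ F : X.Modules, Coh.IsCoh F → Inj t F ∧ Sur t F := by
  haveI := isNoetherian_of_proper k X
  obtain ⟨ω, hω, h1, hmax⟩ := exists_omega k X hdim hreg
  have hdeg : Curv2.deg k X ω 1 ≤ 2 * (Curv2.genus k X : ℤ) - 2 := by
    by_contra hcon
    haveI := s1522 k X hdim ω hω (by omega)
    have : Module.finrank k (Coh.HH X ω 1) = 0 := Module.finrank_zero_of_subsingleton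
    omega
  haveI := finite_HH k X ω (isCoh_of_isInvertible _ hω) 1
  obtain ⟨v, hv⟩ : ∃ v : Coh.HH X ω 1, v ≠ 0 := by
    by_contra hcon
    push_neg at hcon
    haveI : Subsingleton (Coh.HH X ω 1) := ⟨fun a b => (hcon a).trans (hcon b).symm⟩
    have : Module.finrank k (Coh.HH X ω 1) = 0 := Module.finrank_zero_of_subsingleton
    omega
  obtain ⟨t, ht⟩ : ∃ t : Coh.HH X ω 1 →ₗ[k] k, t v ≠ 0 := by
    by_contra hcon
    push_neg at hcon
    exact hv ((Module.forall_dual_apply_eq_zero_iff k v).1 hcon)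
  have ht0 : t ≠ 0 := fun h => ht (by rw [h, LinearMap.zero_apply])
  exact ⟨ω, hω, t, hdeg, ht0, fun F hF =>
    ⟨inj_of_isCoh k X hdim hreg hω t ht0 F hF, sur_of_isCoh k X hdim hreg hω hmax t ht0 F hF⟩⟩

/-- a finite locally free module with `H¹ ≠ 0` has a rank-one quotient of degree at most `2g - 2`
(in the form: a corank-one saturated subsheaf of large degree) -/
theorem exists_sub_of_h1_ne_zero (hdim : topologicalKrullDim X = 1)
    (hreg : ∀ x : X, IsRegularLocalRing (X.presheaf.stalk x)) {r : ℕ} {E : X.Modules}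
    (hE : FlatMod.IsFinLocFreeOfRank r E) (h1 : ¬ Subsingleton (Coh.HH X E 1)) :
    ∃ (K : X.Modules) (r₀ : ℕ) (a : K ⟶ E) (d : ℤ), Mono a ∧ FlatMod.IsFinLocFreeOfRank r₀ K ∧
      r = r₀ + 1 ∧ Curv2.deg k X E r = Curv2.deg k X K r₀ + d ∧
      d ≤ 2 * (Curv2.genus k X : ℤ) - 2 := by
  haveI := isNoetherian_of_proper k X
  obtain ⟨ω, hω, t, hdeg, ht0, hrep⟩ := exists_dualizing k X hdim hreg
  have cE := Groth.Agent.Lib.R2H1.DegTensor.isCoh_of_rank' hE
  haveI := finite_HH k X E cE 1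
  obtain ⟨x, hx⟩ : ∃ x : Coh.HH X E 1, x ≠ 0 := by
    by_contra hcon
    push_neg at hcon
    exact h1 ⟨fun a b => (hcon a).trans (hcon b).symm⟩
  obtain ⟨η, hη⟩ : ∃ η : Coh.HH X E 1 →ₗ[k] k, η x ≠ 0 := by
    by_contra hcon
    push_neg at hcon
    exact hx ((Module.forall_dual_apply_eq_zero_iff k x).1 hcon)
  obtain ⟨φ, hφ⟩ := (hrep E cE).2 η
  have hφ0 : φ ≠ 0 := by
    intro h
    apply hη
    rw [hφ x, h, HmapL_zero, map_zero]
  have hω1 := Groth.Agent.Lib.Helper23.SecTw.isFinLocFreeOfRank_one_of_isInvertible _ hω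
  obtain ⟨K, I, a, p, j, r₀, r₁, ha, hp, hj, hpj, -, hK, hI, hr, hd, -, hr1, hle⟩ :=
    Groth.Agent.Lib.R2H1.VBSub.exists_ker_im k X hdim hreg hE hω1 φ
  have hr1' : r₁ = 1 := by
    rcases Nat.lt_or_ge r₁ 1 with h | h
    · exact absurd (hr1 (by omega)) hφ0
    · omega
  subst hr1'
  have hIinv := Groth.Agent.Lib.R2H1.VBTwist.isInvertible_of_rank_one hI
  have hj0 : j ≠ 0 := by
    intro h
    apply hφ0
    rw [← hpj, h, comp_zero]
  obtain ⟨hle', -⟩ := s1521 k X hdim I ω hIinv hω j hj0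
  exact ⟨K, r₀, a, Curv2.deg k X I 1, ha, hK, hr, hd, hle'.trans hdeg⟩

/-- S11812 core -/
theorem h1_subsingleton_of_semistable (hdim : topologicalKrullDim X = 1)
    (hreg : ∀ x : X, IsRegularLocalRing (X.presheaf.stalk x))
    (r : ℕ) (hr : 0 < r) (E : X.Modules) (hE : FlatMod.IsFinLocFreeOfRank r E)
    (hss : (∀ (F : X.Modules) (r' : ℕ) (i : F ⟶ E), Mono i → 0 < r' →
      FlatMod.IsFinLocFreeOfRank r' F →
      Curv2.deg k X F r' * (r : ℤ) ≤ Curv2.deg k X E r * (r' : ℤ)))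
    (hdeg : (r : ℤ) * (2 * (Curv2.genus k X : ℤ) - 2) < Curv2.deg k X E r) :
    Subsingleton (Coh.HH X E 1) := by
  by_contra h1
  obtain ⟨K, r₀, a, d, ha, hK, hr0, hd, hdle⟩ := exists_sub_of_h1_ne_zero k X hdim hreg hE h1
  subst hr0
  rcases Nat.eq_zero_or_pos r₀ with h0 | h0
  · subst h0
    rw [Groth.Agent.Lib.R2H1.VBSlopeB.deg_rank_zero k X hK] at hd
    push_cast at hdeg
    linarith
  · have h := hss K r₀ a ha h0 hK
    push_cast at h hdeg
    have hr0' : (0 : ℤ) ≤ (r₀ : ℤ) := Int.natCast_nonneg _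
    nlinarith

/-- S11813 core -/
theorem h1_subsingleton_of_stable (hdim : topologicalKrullDim X = 1)
    (hreg : ∀ x : X, IsRegularLocalRing (X.presheaf.stalk x))
    (r : ℕ) (hr : 2 ≤ r) (E : X.Modules) (hE : FlatMod.IsFinLocFreeOfRank r E)
    (hst : (∀ (F : X.Modules) (r' : ℕ) (i : F ⟶ E), Mono i → 0 < r' → r' < r →
      FlatMod.IsFinLocFreeOfRank r' F →
      Curv2.deg k X F r' * (r : ℤ) < Curv2.deg k X E r * (r' : ℤ)))
    (hdeg : (r : ℤ) * (2 * (Curv2.genus k X : ℤ) - 2) ≤ Curv2.deg k X E r) :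
    Subsingleton (Coh.HH X E 1) := by
  by_contra h1
  obtain ⟨K, r₀, a, d, ha, hK, hr0, hd, hdle⟩ := exists_sub_of_h1_ne_zero k X hdim hreg hE h1
  subst hr0
  have h0 : 0 < r₀ := by omega
  have h := hst K r₀ a ha h0 (by omega) hK
  push_cast at h hdeg
  have hr0' : (0 : ℤ) ≤ (r₀ : ℤ) := Int.natCast_nonneg _
  nlinarith

end Part6

end Groth.Agent.Lib.R2H1.SerreDual
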