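import Mathlib
import Groth.Agent.Lib.R2H1SerreDual
import Groth.Agent.Lib.Helper4ModEpi
set_option backward.isDefEq.respectTransparency.types false

/-!
# Global generation of vector bundles on regular integral proper curves over an algebraically closed field (helper1, round 2)

`isGloballyGenerated_of_epi_desc`, `kernel_comp_eq_zero` / `exists_desc_of_epi` (sections of a cyclic module are endomorphisms), `h0_le_one_of_sections_epi` (coherent module all of whose nonzero sections generate has h0 at most one), `Fam` (proper full-rank submodules containing all sections), `exists_codeg_one`, `not_subsingleton_H1`, `exists_fam_of_not_gg`, `exists_sub_of_not_gg` (not globally generated implies a corank-one submodule K with deg E - deg K at most 2g-1), `gg_of_semistable` (S11814), `gg_of_stable` (S11815).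
-/

set_option autoImplicit false
set_option linter.style.haveILetI false
set_option linter.unusedSectionVars false
universe u v

open CategoryTheory CategoryTheory.Limits AlgebraicGeometry TopologicalSpace Opposite

namespace Groth.Agent.Lib.R2H1.VBGlobGen

section Part1

open Groth.Agent.Lib.R2H1.SerreDual
open Groth.Agent.Lib.R2H1.PicLaw Groth.Agent.Lib.R2H1.Clifford
open Groth.Agent.Lib.R2H1.PointTwist Groth.Agent.Lib.R2H1.PointTwistB
open Groth.Agent.Lib.R2H1.CurveEuler Groth.Agent.Lib.R2H1.CurveDegSec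
  Groth.Agent.Lib.R2H1.EulerAdd Groth.Agent.Lib.R2H2.HHLin Groth.Agent.Lib.R2H2.PnLinRes
  Groth.Agent.Lib.R2H1.GenusZero Groth.Agent.Lib.R2H1.NonSpecial
  Groth.Agent.Lib.R2H1.LiftZero Groth.Agent.Lib.R2H1.CurveAmple
  Groth.Agent.Lib.R2H1.GenusLe Groth.Agent.Lib.R2H1.ZeroDimCoh Groth.Agent.Lib.R2H1.InvHom
  Groth.Agent.Lib.R2H1.RegPoint
open Groth.Agent.Lib.R2H2.DualRep Groth.Agent.Lib.R2H2.DualExtGen Groth.Agent.Lib.R2H2.PnBeilinson
open Groth.Agent.Lib.Helper23.SecTw Groth.Agent.Lib.Helper23.GenLocus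

attribute [local instance] Abelian.hasFiniteBiproducts

section Gen

variable {X : Scheme.{u}}

/-- a module receiving an epimorphism from a finite sum of copies of `O_X` is globally generated -/
theorem isGloballyGenerated_of_epi_desc {E : X.Modules} {N : ℕ}
    (b : Fin N → (Coh.structureModule X ⟶ E))
    (h : Epi (biproduct.desc b : (⨁ fun _ : Fin N => Coh.structureModule X) ⟶ E)) :
    Curv2.IsGloballyGenerated E := by
  let p : (SheafOfModules.free (Coh.structureModule X ⟶ E) : X.Modules) ⟶ E :=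
    Sigma.desc (C := SheafOfModules X.ringCatSheaf) (fun s : (Coh.structureModule X ⟶ E) => s)
  have hp : ∀ s : Coh.structureModule X ⟶ E,
      (show Coh.structureModule X ⟶ (SheafOfModules.free (Coh.structureModule X ⟶ E) : X.Modules) from
        SheafOfModules.ιFree (R := X.ringCatSheaf) s) ≫ p = s := fun s =>
    Sigma.ι_desc (C := SheafOfModules X.ringCatSheaf) (fun s : (Coh.structureModule X ⟶ E) => s) s
  refine ⟨(Coh.structureModule X ⟶ E), p, ?_⟩
  obtain ⟨w, hw⟩ : ∃ w : (⨁ fun _ : Fin N => Coh.structureModule X) ⟶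
      (SheafOfModules.free (Coh.structureModule X ⟶ E) : X.Modules),
      w = biproduct.desc (fun j => (show Coh.structureModule X ⟶
        (SheafOfModules.free (Coh.structureModule X ⟶ E) : X.Modules) from
        SheafOfModules.ιFree (R := X.ringCatSheaf) (b j))) := ⟨_, rfl⟩
  have hfac : w ≫ p = biproduct.desc b := by
    apply biproduct.hom_ext'
    intro j
    rw [hw, biproduct.ι_desc_assoc, biproduct.ι_desc]
    exact hp (b j)
  haveI : Epi (w ≫ p) := by rw [hfac]; exact h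
  exact epi_of_epi w p

/-- a section of a cyclic module kills the annihilator of a generator -/
theorem kernel_comp_eq_zero {T : X.Modules} (s t : Coh.structureModule X ⟶ T) [Epi s] :
    kernel.ι s ≫ t = 0 := by
  refine Scheme.Modules.hom_ext _ _ fun U => ?_
  ext a
  change t.app U ((kernel.ι s).app U a) = 0
  obtain ⟨a', ha'⟩ : ∃ a' : Γ(Coh.structureModule X, U), a' = (kernel.ι s).app U a := ⟨_, rfl⟩
  rw [← ha']
  have hs : s.app U a' = 0 := by
    rw [ha']
    have h1 : (kernel.ι s ≫ s).app U a = 0 := by rw [kernel.condition]; rfl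
    exact h1
  have e1 : t.app U a' = ofS U a' • sv t U := by
    have := app_toS t U (ofS U a'); rwa [toS_ofS] at this
  have e2 : s.app U a' = ofS U a' • sv s U := by
    have := app_toS s U (ofS U a'); rwa [toS_ofS] at this
  refine T.isSheaf.section_ext (U := op U) fun x hx => ?_
  obtain ⟨V, hVU, hxV, g, hg⟩ :=
    Groth.Agent.Lib.Helper4.ModEpi.exists_app_eq_of_epi s U (sv t U) x hx
  refine ⟨V, hVU, hxV, ?_⟩
  change res T hVU (t.app U a') = res T hVU 0
  have e3 : s.app V g = ofS V g • sv s V := by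
    have := app_toS s V (ofS V g); rwa [toS_ofS] at this
  have hg' : res T hVU (sv t U) = ofS V g • sv s V := by
    rw [← e3]; exact hg.symm
  have e4 : res T hVU (ofS U a' • sv s U) = 0 := by
    rw [← e2, hs]; exact map_zero _
  rw [res_smul] at e4
  rw [e1, res_smul, hg', smul_comm]
  have e5 : res T hVU (sv s U) = sv s V := res_sv s hVU
  rw [e5] at e4
  rw [e4, smul_zero]
  exact (map_zero _).symm

/-- endomorphisms of a cyclic module realise all sections -/
theorem exists_desc_of_epi {T : X.Modules} (s t : Coh.structureModule X ⟶ T) [Epi s] :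
    ∃ f : T ⟶ T, s ≫ f = t := by
  let S : ShortComplex X.Modules := ShortComplex.mk (kernel.ι s) s (kernel.condition s)
  have hS : S.Exact := ShortComplex.exact_kernel s
  haveI : Epi S.g := inferInstanceAs (Epi s)
  exact ⟨hS.desc t (kernel_comp_eq_zero s t), hS.g_desc t _⟩

end Gen

variable (k : Type u) [Field k] [IsAlgClosed k] (X : Scheme.{u}) [X.Over (Spec (CommRingCat.of k))]
    [IsProper (X ↘ (Spec (CommRingCat.of k)))]

/-- a coherent module all of whose nonzero sections generate has at most one section up to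
scalars -/
theorem h0_le_one_of_sections_epi (T : X.Modules) (cT : Coh.IsCoh T)
    (h : ∀ s : Coh.structureModule X ⟶ T, s ≠ 0 → Epi s) :
    Module.finrank k (Coh.HH X T 0) ≤ 1 := by
  haveI := isNoetherian_of_proper k X
  haveI := finite_HH k X T cT 0
  rw [← (clsEquiv (k := k) T).finrank_eq]
  haveI : Module.Finite k (Coh.structureModule X ⟶ T) :=
    Module.Finite.equiv (clsEquiv (k := k) T).symm
  by_cases h0 : ∀ s : Coh.structureModule X ⟶ T, s = 0
  · haveI : Subsingleton (Coh.structureModule X ⟶ T) := ⟨fun a b => (h0 a).trans (h0 b).symm⟩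
    rw [Module.finrank_zero_of_subsingleton]
    omega
  push_neg at h0
  obtain ⟨s, hs⟩ := h0
  haveI := h s hs
  apply finrank_le_one s
  intro t
  obtain ⟨f, hf⟩ := exists_desc_of_epi s t
  haveI : Nontrivial (Coh.structureModule X ⟶ T) := ⟨⟨s, 0, hs⟩⟩
  obtain ⟨c, hc⟩ := Module.End.exists_eigenvalue
    (Linear.rightComp k (Coh.structureModule X) f)
  obtain ⟨v, hv⟩ := hc.exists_hasEigenvector
  have hv1 : v ≫ f = c • v := hv.apply_eq_smul
  haveI := h v hv.2
  have hf' : f = c • 𝟙 T := by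
    rw [← cancel_epi v, hv1, Linear.comp_smul, Category.comp_id]
  refine ⟨c, ?_⟩
  rw [← hf, hf', Linear.comp_smul, Category.comp_id]

end Part1

section Part2


open Groth.Agent.Lib.R2H1.SerreDual
open Groth.Agent.Lib.R2H1.PicLaw Groth.Agent.Lib.R2H1.Clifford
open Groth.Agent.Lib.R2H1.PointTwist Groth.Agent.Lib.R2H1.PointTwistB
open Groth.Agent.Lib.R2H1.CurveEuler Groth.Agent.Lib.R2H1.CurveDegSec
  Groth.Agent.Lib.R2H1.EulerAdd Groth.Agent.Lib.R2H2.HHLin Groth.Agent.Lib.R2H2.PnLinRes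
  Groth.Agent.Lib.R2H1.GenusZero Groth.Agent.Lib.R2H1.NonSpecial
  Groth.Agent.Lib.R2H1.LiftZero Groth.Agent.Lib.R2H1.CurveAmple
  Groth.Agent.Lib.R2H1.GenusLe Groth.Agent.Lib.R2H1.ZeroDimCoh Groth.Agent.Lib.R2H1.InvHom
  Groth.Agent.Lib.R2H1.RegPoint Groth.Agent.Lib.R2H1.VBSub
open Groth.Agent.Lib.R2H2.DualRep Groth.Agent.Lib.R2H2.DualExtGen Groth.Agent.Lib.R2H2.PnBeilinson

/-- full-rank proper submodules containing all global sections -/
def Fam {X : Scheme.{u}} (E : X.Modules) (r : ℕ) (G : X.Modules) (i : G ⟶ E) : Prop :=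
  Mono i ∧ ¬ IsIso i ∧ FlatMod.IsFinLocFreeOfRank r G ∧
    ∀ s : Coh.structureModule X ⟶ E, ∃ s' : Coh.structureModule X ⟶ G, s' ≫ i = s

variable (k : Type u) [Field k] [IsAlgClosed k] (X : Scheme.{u}) [X.Over (Spec (CommRingCat.of k))]
    [IsIntegral X] [IsProper (X ↘ (Spec (CommRingCat.of k)))]

/-- a member of the family of maximal degree has colength one -/
theorem exists_codeg_one (hdim : topologicalKrullDim X = 1)
    (hreg : ∀ x : X, IsRegularLocalRing (X.presheaf.stalk x)) {r : ℕ} {E : X.Modules}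
    (hE : FlatMod.IsFinLocFreeOfRank r E) (G₀ : X.Modules) (i₀ : G₀ ⟶ E) (h₀ : Fam E r G₀ i₀) :
    ∃ (G : X.Modules) (i : G ⟶ E), Fam E r G i ∧
      Module.finrank k (Coh.HH X (cokernel i) 0) = 1 ∧
      Curv2.deg k X E r = Curv2.deg k X G r + 1 := by
  haveI := isNoetherian_of_proper k X
  have cE := Groth.Agent.Lib.R2H1.DegTensor.isCoh_of_rank' hE
  have lE := Groth.Agent.Lib.R2H4DegAdd.isFinLocFree_of_rank hE
  have hbdd : ∃ b : ℤ, ∀ z : ℤ, (∃ (G : X.Modules) (i : G ⟶ E), Fam E r G i ∧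
      Curv2.deg k X G r = z) → z ≤ b := by
    refine ⟨Curv2.deg k X E r, ?_⟩
    rintro z ⟨G, i, ⟨hm, -, hG, -⟩, rfl⟩
    haveI := hm
    exact (deg_le_of_mono_same_rank k X hdim hG hE i).1
  have hinh : ∃ z : ℤ, ∃ (G : X.Modules) (i : G ⟶ E), Fam E r G i ∧ Curv2.deg k X G r = z :=
    ⟨_, G₀, i₀, h₀, rfl⟩
  obtain ⟨d, ⟨G, i, hF, hd⟩, hmax⟩ := Int.exists_greatest_of_bdd hbdd hinh
  obtain ⟨hm, hni, hG, hfac⟩ := hF
  haveI := hm
  have cG := Groth.Agent.Lib.R2H1.DegTensor.isCoh_of_rank' hG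
  have cT : Coh.IsCoh (cokernel i) := Groth.Agent.Lib.R2H2.NilFilt.isCoh_cokernel cG cE i
  obtain ⟨he, hiso⟩ := euler_mono_same_rank k X hdim hG hE i
  have hT1 : 1 ≤ Module.finrank k (Coh.HH X (cokernel i) 0) := by
    by_contra h
    exact hni (hiso (by omega))
  have hepi : ∀ t : Coh.structureModule X ⟶ cokernel i, t ≠ 0 → Epi t := by
    intro t ht
    by_contra hne
    obtain ⟨ρ, hρ⟩ : ∃ ρ : E ⟶ cokernel t, ρ = cokernel.π i ≫ cokernel.π t := ⟨_, rfl⟩
    haveI : Epi ρ := by rw [hρ]; exact epi_comp _ _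
    have cC : Coh.IsCoh (cokernel t) :=
      Groth.Agent.Lib.R2H2.NilFilt.isCoh_cokernel (isCoh_structureModule X) cT t
    have cK : Coh.IsCoh (kernel ρ) := Groth.Agent.Lib.R2H2.PdSheaf.isCoh_kernel cE cC ρ
    obtain ⟨r_t, hKr⟩ := exists_rank_of_mono hdim.le hreg E lE _ cK (kernel.ι ρ)
    have hiρ : i ≫ ρ = 0 := by rw [hρ, cokernel.condition_assoc, zero_comp]
    obtain ⟨w, hw⟩ : ∃ w : G ⟶ kernel ρ, w = kernel.lift ρ i hiρ := ⟨_, rfl⟩
    have hw' : w ≫ kernel.ι ρ = i := by rw [hw]; exact kernel.lift_ι _ _ _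
    haveI : Mono w := by
      haveI : Mono (w ≫ kernel.ι ρ) := by rw [hw']; infer_instance
      exact mono_of_mono w (kernel.ι ρ)
    have h1 : r ≤ r_t := rank_le_of_mono hG hKr w
    have h2 : r_t ≤ r := rank_le_of_mono hKr hE (kernel.ι ρ)
    have hrr : r_t = r := le_antisymm h2 h1
    subst hrr
    have hni' : ¬ IsIso (kernel.ι ρ) := by
      intro hiso'
      have hρ0 : ρ = 0 := by rw [← cancel_epi (kernel.ι ρ), kernel.condition, comp_zero]
      have hπ0 : cokernel.π t = 0 := by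
        rw [← cancel_epi (cokernel.π i), ← hρ, hρ0, comp_zero]
      exact hne (Preadditive.epi_of_cokernel_zero hπ0)
    have hFam : Fam E r_t (kernel ρ) (kernel.ι ρ) := ⟨inferInstance, hni', hKr, fun s => by
      obtain ⟨s', hs'⟩ := hfac s
      exact ⟨s' ≫ w, by rw [Category.assoc, hw', hs']⟩⟩
    have hle : Curv2.deg k X (kernel ρ) r_t ≤ d := hmax _ ⟨_, _, hFam, rfl⟩
    obtain ⟨hle', hiso'⟩ := deg_le_of_mono_same_rank k X hdim hG hKr w
    haveI : IsIso w := hiso' (by rw [hd] at hle' ⊢; exact le_antisymm hle' hle)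
    apply ht
    have h3 : kernel.ι ρ ≫ cokernel.π i = 0 := by
      rw [← cancel_epi w, ← Category.assoc, hw', cokernel.condition, comp_zero]
    let S : ShortComplex X.Modules := ShortComplex.mk (kernel.ι ρ) ρ (kernel.condition ρ)
    have hS : S.Exact := ShortComplex.exact_kernel ρ
    haveI : Epi S.g := inferInstanceAs (Epi ρ)
    obtain ⟨dd, hdd⟩ : ∃ dd : cokernel t ⟶ cokernel i, ρ ≫ dd = cokernel.π i :=
      ⟨hS.desc _ h3, hS.g_desc _ _⟩
    have h4 : cokernel.π t ≫ dd = 𝟙 _ := by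
      rw [← cancel_epi (cokernel.π i), ← Category.assoc, ← hρ, hdd, Category.comp_id]
    calc t = t ≫ 𝟙 _ := (Category.comp_id t).symm
      _ = t ≫ cokernel.π t ≫ dd := by rw [h4]
      _ = 0 := by rw [cokernel.condition_assoc, zero_comp]
  have hT2 := h0_le_one_of_sections_epi k X (cokernel i) cT hepi
  have hT : Module.finrank k (Coh.HH X (cokernel i) 0) = 1 := le_antisymm hT2 hT1
  refine ⟨G, i, ⟨hm, hni, hG, hfac⟩, hT, ?_⟩
  unfold Curv2.deg
  rw [he, hT]
  push_cast
  ring

/-- a member of the family with colength one has nonzero `H¹` -/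
theorem not_subsingleton_H1 {r : ℕ} {E : X.Modules} (G : X.Modules) (i : G ⟶ E)
    (hF : Fam E r G i) (hT : Module.finrank k (Coh.HH X (cokernel i) 0) = 1) :
    ¬ Subsingleton (Coh.HH X G 1) := by
  intro hsub
  obtain ⟨hm, -, hG, hfac⟩ := hF
  haveI := hm
  let S : ShortComplex X.Modules := ShortComplex.mk i (cokernel.π i) (cokernel.condition i)
  have hS : S.ShortExact :=
    { exact := ShortComplex.exact_cokernel i
      mono_f := inferInstanceAs (Mono i)
      epi_g := inferInstanceAs (Epi (cokernel.π i)) }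
  have hzero : ∀ x : Coh.HH X (cokernel i) 0, x = 0 := by
    intro x
    haveI : Subsingleton (Coh.HH X S.X₁ (0 + 1)) := hsub
    obtain ⟨y, hy⟩ := exact₃ S hS 0 x (Subsingleton.elim _ _)
    obtain ⟨σ, rfl⟩ := cls_surjective _ y
    obtain ⟨σ', hσ'⟩ := hfac σ
    rw [← hy, cls_comp, ← hσ']
    have : (σ' ≫ i) ≫ S.g = 0 := by
      rw [Category.assoc]
      have : i ≫ S.g = 0 := cokernel.condition i
      rw [this, comp_zero]
    rw [this]
    exact (clsEquiv (k := k) (cokernel i)).map_zero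
  haveI : Subsingleton (Coh.HH X (cokernel i) 0) := ⟨fun a b => (hzero a).trans (hzero b).symm⟩
  have : Module.finrank k (Coh.HH X (cokernel i) 0) = 0 := Module.finrank_zero_of_subsingleton
  omega

end Part2

section Part3


open Groth.Agent.Lib.R2H1.SerreDual
open Groth.Agent.Lib.R2H1.PicLaw Groth.Agent.Lib.R2H1.Clifford
open Groth.Agent.Lib.R2H1.PointTwist Groth.Agent.Lib.R2H1.PointTwistB
open Groth.Agent.Lib.R2H1.CurveEuler Groth.Agent.Lib.R2H1.CurveDegSec
  Groth.Agent.Lib.R2H1.EulerAdd Groth.Agent.Lib.R2H2.HHLin Groth.Agent.Lib.R2H2.PnLinRes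
  Groth.Agent.Lib.R2H1.GenusZero Groth.Agent.Lib.R2H1.NonSpecial
  Groth.Agent.Lib.R2H1.LiftZero Groth.Agent.Lib.R2H1.CurveAmple
  Groth.Agent.Lib.R2H1.GenusLe Groth.Agent.Lib.R2H1.ZeroDimCoh Groth.Agent.Lib.R2H1.InvHom
  Groth.Agent.Lib.R2H1.RegPoint Groth.Agent.Lib.R2H1.VBSub
open Groth.Agent.Lib.R2H2.DualRep Groth.Agent.Lib.R2H2.DualExtGen Groth.Agent.Lib.R2H2.PnBeilinson
open Groth.Agent.Lib.R2H1.DegCartier

attribute [local instance] Abelian.hasFiniteBiproducts

variable (k : Type u) [Field k] [IsAlgClosed k] (X : Scheme.{u}) [X.Over (Spec (CommRingCat.of k))]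
    [IsIntegral X] [IsProper (X ↘ (Spec (CommRingCat.of k)))]

include k in
/-- a finite family of sections through which every section factors -/
theorem exists_finite_sections {E : X.Modules} (cE : Coh.IsCoh E) :
    ∃ (N : ℕ) (b : Fin N → (Coh.structureModule X ⟶ E)),
      ∀ s : Coh.structureModule X ⟶ E,
        ∃ w : Coh.structureModule X ⟶ (⨁ fun _ : Fin N => Coh.structureModule X),
          w ≫ biproduct.desc b = s := by
  haveI := isNoetherian_of_proper k X
  haveI := finite_HH k X E cE 0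
  haveI : Module.Finite k (Coh.structureModule X ⟶ E) :=
    Module.Finite.equiv (clsEquiv (k := k) E).symm
  let B := Module.finBasis k (Coh.structureModule X ⟶ E)
  refine ⟨_, fun j => B j, fun s => ?_⟩
  refine ⟨∑ j, (B.repr s j) • biproduct.ι (fun _ : Fin _ => Coh.structureModule X) j, ?_⟩
  rw [Preadditive.sum_comp]
  have : ∀ j, ((B.repr s j) • biproduct.ι (fun _ : Fin _ => Coh.structureModule X) j) ≫
      biproduct.desc (fun j => B j) = (B.repr s j) • B j := fun j => by
    rw [Linear.smul_comp, biproduct.ι_desc]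
  rw [Finset.sum_congr rfl (fun j _ => this j)]
  exact B.sum_repr s

include k in
/-- a finite locally free module which is not globally generated has a proper full-rank submodule
containing all global sections -/
theorem exists_fam_of_not_gg (hdim : topologicalKrullDim X = 1)
    (hreg : ∀ x : X, IsRegularLocalRing (X.presheaf.stalk x)) {r : ℕ} {E : X.Modules}
    (hE : FlatMod.IsFinLocFreeOfRank r E) (hng : ¬ Curv2.IsGloballyGenerated E) :
    ∃ (G : X.Modules) (i : G ⟶ E), Fam E r G i := by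
  haveI := isNoetherian_of_proper k X
  have cE := Groth.Agent.Lib.R2H1.DegTensor.isCoh_of_rank' hE
  have lE := Groth.Agent.Lib.R2H4DegAdd.isFinLocFree_of_rank hE
  obtain ⟨N, b, hb⟩ := exists_finite_sections k X cE
  obtain ⟨q, hq⟩ : ∃ q : (⨁ fun _ : Fin N => Coh.structureModule X) ⟶ E,
      q = biproduct.desc b := ⟨_, rfl⟩
  rw [← hq] at hb
  have hqne : ¬ Epi q := fun h => hng (isGloballyGenerated_of_epi_desc b (hq ▸ h))
  have cB : Coh.IsCoh (⨁ fun _ : Fin N => Coh.structureModule X) :=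
    Groth.Agent.Lib.R2H2.PnLocFree.isCoh_of_isFinLocFree _
      (Groth.Agent.Lib.Helper1.FLF.isFinLocFree_biproduct _ (fun _ =>
        Groth.Agent.Lib.R2H2.ProjOverPush.isFinLocFree_of_isInvertible
          (Groth.Agent.Lib.Helper23.TensorUnit.isInvertible_structureModule X)))
  have cQ : Coh.IsCoh (cokernel q) := Groth.Agent.Lib.R2H2.NilFilt.isCoh_cokernel cB cE q
  have cI : Coh.IsCoh (Abelian.image q) :=
    Groth.Agent.Lib.R2H2.PdSheaf.isCoh_kernel cE cQ (cokernel.π q)
  obtain ⟨r₁, hI⟩ := exists_rank_of_mono hdim.le hreg E lE (Abelian.image q) cI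
    (Abelian.image.ι q)
  have hr₁ : r₁ ≤ r := rank_le_of_mono hI hE (Abelian.image.ι q)
  have hfacI : ∀ s : Coh.structureModule X ⟶ E,
      ∃ s' : Coh.structureModule X ⟶ Abelian.image q, s' ≫ Abelian.image.ι q = s := fun s => by
    obtain ⟨w, hw⟩ := hb s
    exact ⟨w ≫ Abelian.factorThruImage q, by rw [Category.assoc, Abelian.image.fac, hw]⟩
  have hniI : ¬ IsIso (Abelian.image.ι q) := by
    intro h
    apply hqne
    rw [← Abelian.image.fac q]
    exact epi_comp _ _
  rcases Nat.lt_or_ge r₁ r with hlt | hge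
  swap
  · obtain rfl : r₁ = r := le_antisymm hr₁ hge
    exact ⟨_, _, inferInstance, hniI, hI, hfacI⟩
  -- rank-deficient case: saturate and twist down at a point
  obtain ⟨M', j, ℓ, s, hj, hℓj, hM', -, hQ, hrs, -⟩ :=
    Groth.Agent.Lib.R2H1.VBSat.exists_saturation' k X hdim hreg hE hI (Abelian.image.ι q)
  haveI := hj
  have hs1 : 1 ≤ s := by omega
  obtain ⟨x⟩ := (inferInstance : Nonempty X)
  obtain ⟨p, -, hpc, -⟩ := exists_closed_dvr_mem_open k X (X ↘ Spec (CommRingCat.of k)) hdim ⊤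
    ⟨x, trivial⟩
  obtain ⟨D, hDdef⟩ : ∃ D : X.IdealSheafData,
      D = Scheme.IdealSheafData.vanishingIdeal ⟨{p}, hpc⟩ := ⟨_, rfl⟩
  have hD : BlowUp.IsEffCartierIdeal D := hDdef ▸ point_isEffCartier k X hdim hreg p hpc
  have hIinv : PicF.IsInvertible (ClSub.idealMod D) :=
    Groth.Agent.Helper18Cart.isInvertible_of_isEffCartier D hD
  have hI1 := Groth.Agent.Lib.Helper23.SecTw.isFinLocFreeOfRank_one_of_isInvertible _ hIinv
  obtain ⟨-, c₁, -, -, -⟩ := twist_seq_facts k X hdim.le D hD s (cokernel j) hQ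
  haveI hτm : Mono (twistMap D (cokernel j)) := mono_twistMap k X hdim.le D hD s (cokernel j) hQ
  have cF := Groth.Agent.Lib.R2H1.DegTensor.isCoh_of_rank' hQ
  -- the twist map is not an epimorphism
  have hτne : ¬ Epi (twistMap D (cokernel j)) := by
    intro hepi
    haveI : IsIso (twistMap D (cokernel j)) := isIso_of_mono_of_epi _
    have h1 : Curv2.deg k X (CohB1.tensorMod (cokernel j) (ClSub.idealMod D)) s =
        Curv2.deg k X (cokernel j) s := deg_congr k X (asIso (twistMap D (cokernel j))) s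
    have h2 := Groth.Agent.Lib.R2H1.DegTensor.s7637 k X hdim.le s 1 (cokernel j) (ClSub.idealMod D)
      hQ hI1
    have h3 : Curv2.deg k X (ClSub.idealMod D) 1 = -1 := by
      rw [hDdef]; exact deg_pointIdeal k X hdim hreg p hpc
    rw [mul_one, h1, h3] at h2
    have hs' : (1 : ℤ) ≤ (s : ℤ) := by exact_mod_cast hs1
    push_cast at h2
    linarith
  obtain ⟨ρ, hρ⟩ : ∃ ρ : E ⟶ cokernel (twistMap D (cokernel j)),
      ρ = cokernel.π j ≫ cokernel.π (twistMap D (cokernel j)) := ⟨_, rfl⟩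
  have cC : Coh.IsCoh (cokernel (twistMap D (cokernel j))) :=
    Groth.Agent.Lib.R2H2.NilFilt.isCoh_cokernel c₁ cF _
  have cK : Coh.IsCoh (kernel ρ) := Groth.Agent.Lib.R2H2.PdSheaf.isCoh_kernel cE cC ρ
  obtain ⟨rG, hKr⟩ := exists_rank_of_mono hdim.le hreg E lE _ cK (kernel.ι ρ)
  have h2 : rG ≤ r := rank_le_of_mono hKr hE (kernel.ι ρ)
  -- `E(-p)` maps into the kernel
  have hτE : twistMap D E ≫ ρ = 0 := by
    rw [hρ, ← Category.assoc, ← twistMap_nat D (cokernel.π j) _ rfl, Category.assoc,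
      cokernel.condition, comp_zero]
  haveI hτEm : Mono (twistMap D E) := mono_twistMap k X hdim.le D hD r E hE
  obtain ⟨w, hw⟩ : ∃ w : ((idealSeq D).map (DCoh.tensorBi.obj E)).X₁ ⟶ kernel ρ,
      w ≫ kernel.ι ρ = twistMap D E := ⟨kernel.lift ρ _ hτE, kernel.lift_ι _ _ _⟩
  haveI : Mono w := by
    haveI : Mono (w ≫ kernel.ι ρ) := by rw [hw]; infer_instance
    exact mono_of_mono w (kernel.ι ρ)
  have hEtw : FlatMod.IsFinLocFreeOfRank r ((idealSeq D).map (DCoh.tensorBi.obj E)).X₁ :=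
    isFinLocFreeOfRank_tensor_invertible r E _ hE hIinv
  have h1 : r ≤ rG := rank_le_of_mono hEtw hKr w
  obtain rfl : rG = r := le_antisymm h2 h1
  have hni : ¬ IsIso (kernel.ι ρ) := by
    intro hiso'
    have hρ0 : ρ = 0 := by rw [← cancel_epi (kernel.ι ρ), kernel.condition, comp_zero]
    have hπ0 : cokernel.π (twistMap D (cokernel j)) = 0 := by
      rw [← cancel_epi (cokernel.π j), ← hρ, hρ0, comp_zero]
    exact hτne (Preadditive.epi_of_cokernel_zero hπ0)
  refine ⟨kernel ρ, kernel.ι ρ, inferInstance, hni, hKr, fun σ => ?_⟩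
  obtain ⟨σ', hσ'⟩ := hfacI σ
  have h0 : σ ≫ ρ = 0 := by
    rw [← hσ', ← hℓj, hρ, Category.assoc, Category.assoc, cokernel.condition_assoc, zero_comp,
      comp_zero, comp_zero]
  exact ⟨kernel.lift ρ σ h0, kernel.lift_ι _ _ _⟩

end Part3

section Part4


open Groth.Agent.Lib.R2H1.SerreDual
open Groth.Agent.Lib.R2H1.CurveEuler Groth.Agent.Lib.R2H1.CurveDegSec
  Groth.Agent.Lib.R2H1.EulerAdd Groth.Agent.Lib.R2H2.HHLin Groth.Agent.Lib.R2H2.PnLinRes
  Groth.Agent.Lib.R2H1.VBSub

variable (k : Type u) [Field k] [IsAlgClosed k] (X : Scheme.{u}) [X.Over (Spec (CommRingCat.of k))]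
    [IsIntegral X] [IsProper (X ↘ (Spec (CommRingCat.of k)))]

/-- a finite locally free module which is not globally generated has a corank-one submodule of
large degree -/
theorem exists_sub_of_not_gg (hdim : topologicalKrullDim X = 1)
    (hreg : ∀ x : X, IsRegularLocalRing (X.presheaf.stalk x)) {r : ℕ} {E : X.Modules}
    (hE : FlatMod.IsFinLocFreeOfRank r E) (hng : ¬ Curv2.IsGloballyGenerated E) :
    ∃ (K : X.Modules) (r₀ : ℕ) (a : K ⟶ E) (d : ℤ), Mono a ∧ FlatMod.IsFinLocFreeOfRank r₀ K ∧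
      r = r₀ + 1 ∧ Curv2.deg k X E r = Curv2.deg k X K r₀ + d ∧
      d ≤ 2 * (Curv2.genus k X : ℤ) - 1 := by
  obtain ⟨G₀, i₀, h₀⟩ := exists_fam_of_not_gg k X hdim hreg hE hng
  obtain ⟨G, i, hF, hT, hdeg⟩ := exists_codeg_one k X hdim hreg hE G₀ i₀ h₀
  have h1 := not_subsingleton_H1 k X G i hF hT
  obtain ⟨hm, -, hG, -⟩ := hF
  haveI := hm
  obtain ⟨K, r₀, a, d, ha, hK, hr0, hd, hdle⟩ := exists_sub_of_h1_ne_zero k X hdim hreg hG h1
  haveI := ha
  exact ⟨K, r₀, a ≫ i, d + 1, mono_comp a i, hK, hr0, by rw [hdeg, hd]; ring, by omega⟩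

/-- S11814 core -/
theorem gg_of_semistable (hdim : topologicalKrullDim X = 1)
    (hreg : ∀ x : X, IsRegularLocalRing (X.presheaf.stalk x))
    (r : ℕ) (hr : 0 < r) (E : X.Modules) (hE : FlatMod.IsFinLocFreeOfRank r E)
    (hss : (∀ (F : X.Modules) (r' : ℕ) (i : F ⟶ E), Mono i → 0 < r' →
      FlatMod.IsFinLocFreeOfRank r' F →
      Curv2.deg k X F r' * (r : ℤ) ≤ Curv2.deg k X E r * (r' : ℤ)))
    (hdeg : (r : ℤ) * (2 * (Curv2.genus k X : ℤ) - 1) < Curv2.deg k X E r) :
    Curv2.IsGloballyGenerated E := by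
  by_contra hng
  obtain ⟨K, r₀, a, d, ha, hK, hr0, hd, hdle⟩ := exists_sub_of_not_gg k X hdim hreg hE hng
  subst hr0
  rcases Nat.eq_zero_or_pos r₀ with h0 | h0
  · subst h0
    rw [Groth.Agent.Lib.R2H1.VBSlopeB.deg_rank_zero k X hK] at hd
    push_cast at hdeg
    linarith
  · have h := hss K r₀ a ha h0 hK
    push_cast at h hdeg
    have hr0' : (0 : ℤ) ≤ (r₀ : ℤ) := Int.natCast_nonneg _
    nlinarith

/-- S11815 core -/
theorem gg_of_stable (hdim : topologicalKrullDim X = 1)
    (hreg : ∀ x : X, IsRegularLocalRing (X.presheaf.stalk x))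
    (r : ℕ) (hr : 2 ≤ r) (E : X.Modules) (hE : FlatMod.IsFinLocFreeOfRank r E)
    (hst : (∀ (F : X.Modules) (r' : ℕ) (i : F ⟶ E), Mono i → 0 < r' → r' < r →
      FlatMod.IsFinLocFreeOfRank r' F →
      Curv2.deg k X F r' * (r : ℤ) < Curv2.deg k X E r * (r' : ℤ)))
    (hdeg : (r : ℤ) * (2 * (Curv2.genus k X : ℤ) - 1) ≤ Curv2.deg k X E r) :
    Curv2.IsGloballyGenerated E := by
  by_contra hng
  obtain ⟨K, r₀, a, d, ha, hK, hr0, hd, hdle⟩ := exists_sub_of_not_gg k X hdim hreg hE hng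
  subst hr0
  have h0 : 0 < r₀ := by omega
  have h := hst K r₀ a ha h0 (by omega) hK
  push_cast at h hdeg
  have hr0' : (0 : ℤ) ≤ (r₀ : ℤ) := Int.natCast_nonneg _
  nlinarith

end Part4

end Groth.Agent.Lib.R2H1.VBGlobGen
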