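import Mathlib
import Groth.Agent.Lib.R2H1VBGlobGen
import Groth.Agent.Lib.R2H1SubDegBound
import Groth.Agent.Lib.R2H2PdSheaf
import Groth.Agent.Lib.R2H1VBSsCat
import Groth.Agent.Lib.Helper23AmpleIso
import Groth.Agent.Lib.R2H1VBTwist
set_option backward.isDefEq.respectTransparency.types false

/-!
# Filtrations by negative line bundles (helper1, round 2)

Regular integral proper curve over an algebraically closed field.
* `Fam2`, `exists_colength_one`: a proper full-rank submodule lies in one of colength one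
* `rank_one_of_sub_structure`, `exists_nonepi_comb`
* `id_ne_zero_of_rank_succ`, `rank_kernel_epi`, `exists_section_of_all_epi`
* `eq_zero_of_comp_freeMod`, `exists_neg_quotient`, `exists_filtration` (S12913)
-/

set_option autoImplicit false
set_option linter.style.haveILetI false
set_option linter.unusedSectionVars false
universe u v

open CategoryTheory CategoryTheory.Limits AlgebraicGeometry TopologicalSpace Opposite

namespace Groth.Agent.Lib.R2H1.NegFilt

section Part1

open Groth.Agent.Lib.R2H1.SerreDual Groth.Agent.Lib.R2H1.VBGlobGen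
open Groth.Agent.Lib.R2H1.CurveEuler Groth.Agent.Lib.R2H1.CurveDegSec
  Groth.Agent.Lib.R2H1.EulerAdd Groth.Agent.Lib.R2H2.HHLin Groth.Agent.Lib.R2H2.PnLinRes
  Groth.Agent.Lib.R2H1.VBSub Groth.Agent.Lib.R2H1.RegPoint Groth.Agent.Lib.R2H1.GenusLe
open Groth.Agent.Lib.R2H2.DualRep Groth.Agent.Lib.R2H2.PnBeilinson

/-- proper full-rank submodules of `E` containing a given one -/
def Fam2 {X : Scheme.{u}} (E : X.Modules) (r : ℕ) (G₀ : X.Modules) (i₀ : G₀ ⟶ E)
    (G : X.Modules) (i : G ⟶ E) : Prop :=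
  Mono i ∧ ¬ IsIso i ∧ FlatMod.IsFinLocFreeOfRank r G ∧ ∃ w : G₀ ⟶ G, w ≫ i = i₀

variable (k : Type u) [Field k] [IsAlgClosed k] (X : Scheme.{u}) [X.Over (Spec (CommRingCat.of k))]
    [IsIntegral X] [IsProper (X ↘ (Spec (CommRingCat.of k)))]

/-- a proper full-rank submodule is contained in one of colength one -/
theorem exists_colength_one (hdim : topologicalKrullDim X = 1)
    (hreg : ∀ x : X, IsRegularLocalRing (X.presheaf.stalk x)) {r : ℕ} {E : X.Modules}
    (hE : FlatMod.IsFinLocFreeOfRank r E) (G₀ : X.Modules) (i₀ : G₀ ⟶ E) [Mono i₀]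
    (hni₀ : ¬ IsIso i₀) (hG₀ : FlatMod.IsFinLocFreeOfRank r G₀) :
    ∃ (G : X.Modules) (i : G ⟶ E), Fam2 E r G₀ i₀ G i ∧
      Module.finrank k (Coh.HH X (cokernel i) 0) = 1 := by
  haveI := isNoetherian_of_proper k X
  have cE := Groth.Agent.Lib.R2H1.DegTensor.isCoh_of_rank' hE
  have lE := Groth.Agent.Lib.R2H4DegAdd.isFinLocFree_of_rank hE
  have hbdd : ∃ b : ℤ, ∀ z : ℤ, (∃ (G : X.Modules) (i : G ⟶ E), Fam2 E r G₀ i₀ G i ∧
      Curv2.deg k X G r = z) → z ≤ b := by
    refine ⟨Curv2.deg k X E r, ?_⟩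
    rintro z ⟨G, i, ⟨hm, -, hG, -⟩, rfl⟩
    haveI := hm
    exact (deg_le_of_mono_same_rank k X hdim hG hE i).1
  have hinh : ∃ z : ℤ, ∃ (G : X.Modules) (i : G ⟶ E), Fam2 E r G₀ i₀ G i ∧
      Curv2.deg k X G r = z :=
    ⟨_, G₀, i₀, ⟨inferInstance, hni₀, hG₀, 𝟙 _, Category.id_comp _⟩, rfl⟩
  obtain ⟨d, ⟨G, i, hF, hd⟩, hmax⟩ := Int.exists_greatest_of_bdd hbdd hinh
  obtain ⟨hm, hni, hG, w₀, hw₀⟩ := hF
  haveI := hm
  have cG := Groth.Agent.Lib.R2H1.DegTensor.isCoh_of_rank' hG
  have cT : Coh.IsCoh (cokernel i) := Groth.Agent.Lib.R2H2.NilFilt.isCoh_cokernel cG cE i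
  obtain ⟨he, hiso⟩ := euler_mono_same_rank k X hdim hG hE i
  have hT1 : 1 ≤ Module.finrank k (Coh.HH X (cokernel i) 0) := by
    by_contra h
    exact hni (hiso (by omega))
  have hepi : ∀ t : Coh.structureModule X ⟶ cokernel i, t ≠ 0 → Epi t := by
    intro t ht
    by_contra hne
    obtain ⟨ρ, hρ⟩ : ∃ ρ : E ⟶ cokernel t, ρ = cokernel.π i ≫ cokernel.π t := ⟨_, rfl⟩
    haveI : Epi ρ := by rw [hρ]; exact epi_comp _ _
    have cC : Coh.IsCoh (cokernel t) :=
      Groth.Agent.Lib.R2H2.NilFilt.isCoh_cokernel (isCoh_structureModule X) cT t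
    have cK : Coh.IsCoh (kernel ρ) := Groth.Agent.Lib.R2H2.PdSheaf.isCoh_kernel cE cC ρ
    obtain ⟨r_t, hKr⟩ := exists_rank_of_mono hdim.le hreg E lE _ cK (kernel.ι ρ)
    have hiρ : i ≫ ρ = 0 := by rw [hρ, cokernel.condition_assoc, zero_comp]
    obtain ⟨w, hw⟩ : ∃ w : G ⟶ kernel ρ, w = kernel.lift ρ i hiρ := ⟨_, rfl⟩
    have hw' : w ≫ kernel.ι ρ = i := by rw [hw]; exact kernel.lift_ι _ _ _
    haveI : Mono w := by
      haveI : Mono (w ≫ kernel.ι ρ) := by rw [hw']; infer_instance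
      exact mono_of_mono w (kernel.ι ρ)
    have h1 : r ≤ r_t := rank_le_of_mono hG hKr w
    have h2 : r_t ≤ r := rank_le_of_mono hKr hE (kernel.ι ρ)
    have hrr : r_t = r := le_antisymm h2 h1
    subst hrr
    have hni' : ¬ IsIso (kernel.ι ρ) := by
      intro hiso'
      have hρ0 : ρ = 0 := by rw [← cancel_epi (kernel.ι ρ), kernel.condition, comp_zero]
      have hπ0 : cokernel.π t = 0 := by
        rw [← cancel_epi (cokernel.π i), ← hρ, hρ0, comp_zero]
      exact hne (Preadditive.epi_of_cokernel_zero hπ0)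
    have hFam : Fam2 E r_t G₀ i₀ (kernel ρ) (kernel.ι ρ) :=
      ⟨inferInstance, hni', hKr, w₀ ≫ w, by rw [Category.assoc, hw', hw₀]⟩
    have hle : Curv2.deg k X (kernel ρ) r_t ≤ d := hmax _ ⟨_, _, hFam, rfl⟩
    obtain ⟨hle', hiso'⟩ := deg_le_of_mono_same_rank k X hdim hG hKr w
    haveI : IsIso w := hiso' (by rw [hd] at hle' ⊢; exact le_antisymm hle' hle)
    apply ht
    have h3 : kernel.ι ρ ≫ cokernel.π i = 0 := by
      rw [← cancel_epi w, ← Category.assoc, hw', cokernel.condition, comp_zero]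
    let S : ShortComplex X.Modules := ShortComplex.mk (kernel.ι ρ) ρ (kernel.condition ρ)
    have hS : S.Exact := ShortComplex.exact_kernel ρ
    haveI : Epi S.g := inferInstanceAs (Epi ρ)
    obtain ⟨dd, hdd⟩ : ∃ dd : cokernel t ⟶ cokernel i, ρ ≫ dd = cokernel.π i :=
      ⟨hS.desc _ h3, hS.g_desc _ _⟩
    have h4 : cokernel.π t ≫ dd = 𝟙 _ := by
      rw [← cancel_epi (cokernel.π i), ← Category.assoc, ← hρ, hdd, Category.comp_id]
    calc t = t ≫ 𝟙 _ := (Category.comp_id t).symm
      _ = t ≫ cokernel.π t ≫ dd := by rw [h4]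
      _ = 0 := by rw [cokernel.condition_assoc, zero_comp]
  have hT2 := h0_le_one_of_sections_epi k X (cokernel i) cT hepi
  have hT : Module.finrank k (Coh.HH X (cokernel i) 0) = 1 := le_antisymm hT2 hT1
  exact ⟨G, i, ⟨hm, hni, hG, w₀, hw₀⟩, hT⟩

include k in
/-- a nonzero submodule of the structure module of a regular curve is invertible -/
theorem rank_one_of_sub_structure (hdim : topologicalKrullDim X = 1)
    (hreg : ∀ x : X, IsRegularLocalRing (X.presheaf.stalk x)) {J : X.Modules} (cJ : Coh.IsCoh J)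
    (j : J ⟶ Coh.structureModule X) [Mono j] (hj : j ≠ 0) :
    FlatMod.IsFinLocFreeOfRank 1 J := by
  haveI := isNoetherian_of_proper k X
  have hO := Groth.Agent.Lib.R2H1.VBHZero.structure_rank_one X
  have lO := Groth.Agent.Lib.R2H4DegAdd.isFinLocFree_of_rank hO
  obtain ⟨r₁, hJ⟩ := exists_rank_of_mono hdim.le hreg _ lO J cJ j
  have h1 : r₁ ≤ 1 := rank_le_of_mono hJ hO j
  rcases Nat.eq_zero_or_pos r₁ with h0 | h0
  · subst h0
    exfalso
    exact hj ((Groth.Agent.Lib.R2H2.AmpleElt.isZero_of_rank_zero hJ).eq_of_src _ _)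
  · have : r₁ = 1 := by omega
    subst this
    exact hJ

/-- if `p` is an epimorphism onto `O` and `p'` restricted to its kernel is neither zero nor
epi, then some combination `p' - c p` is neither zero nor epi -/
theorem exists_nonepi_comb (hdim : topologicalKrullDim X = 1)
    (hreg : ∀ x : X, IsRegularLocalRing (X.presheaf.stalk x)) {N : X.Modules} (cN : Coh.IsCoh N)
    (p p' : N ⟶ Coh.structureModule X) [Epi p]
    (hne : kernel.ι p ≫ p' ≠ 0) (hnepi : ¬ Epi (kernel.ι p ≫ p')) :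
    ∃ c : k, p' - c • p ≠ 0 ∧ ¬ Epi (p' - c • p) := by
  haveI := isNoetherian_of_proper k X
  have cO := isCoh_structureModule X
  have hO := Groth.Agent.Lib.R2H1.VBHZero.structure_rank_one X
  have cK : Coh.IsCoh (kernel p) := Groth.Agent.Lib.R2H2.PdSheaf.isCoh_kernel cN cO p
  obtain ⟨g, hg⟩ : ∃ g : kernel p ⟶ Coh.structureModule X, g = kernel.ι p ≫ p' := ⟨_, rfl⟩
  rw [← hg] at hne hnepi
  have cQ : Coh.IsCoh (cokernel g) := Groth.Agent.Lib.R2H2.NilFilt.isCoh_cokernel cK cO g
  have cJ : Coh.IsCoh (Abelian.image g) :=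
    Groth.Agent.Lib.R2H2.PdSheaf.isCoh_kernel cO cQ (cokernel.π g)
  have hfac : Abelian.factorThruImage g ≫ Abelian.image.ι g = g := Abelian.image.fac g
  have hj0 : Abelian.image.ι g ≠ 0 := by
    intro h
    apply hne
    rw [← hfac, h, comp_zero]
  have hJ := rank_one_of_sub_structure k X hdim hreg cJ (Abelian.image.ι g) hj0
  have hjni : ¬ IsIso (Abelian.image.ι g) := by
    intro h
    apply hnepi
    rw [← hfac]
    infer_instance
  obtain ⟨J', i, ⟨hm, hni, hJ', w, hw⟩, hT⟩ :=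
    exists_colength_one k X hdim hreg hO (Abelian.image g) (Abelian.image.ι g) hjni hJ
  haveI := hm
  have cJ' := Groth.Agent.Lib.R2H1.DegTensor.isCoh_of_rank' hJ'
  have cT : Coh.IsCoh (cokernel i) := Groth.Agent.Lib.R2H2.NilFilt.isCoh_cokernel cJ' cO i
  haveI := finite_HH k X (cokernel i) cT 0
  have hq0 : cokernel.π i ≠ 0 := by
    intro h
    haveI : Epi i := Preadditive.epi_of_cokernel_zero h
    exact hni (isIso_of_mono_of_epi i)
  have h1 : Module.finrank k (Coh.structureModule X ⟶ cokernel i) = 1 := by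
    rw [(clsEquiv (k := k) (cokernel i)).finrank_eq]
    exact hT
  have hgq : g ≫ cokernel.π i = 0 := by
    rw [← hfac, ← hw, Category.assoc, Category.assoc, cokernel.condition, comp_zero, comp_zero]
  let S : ShortComplex X.Modules := ShortComplex.mk (kernel.ι p) p (kernel.condition p)
  have hS : S.Exact := ShortComplex.exact_kernel p
  haveI : Epi S.g := inferInstanceAs (Epi p)
  obtain ⟨lam, hlam⟩ : ∃ lam : Coh.structureModule X ⟶ cokernel i,
      p ≫ lam = p' ≫ cokernel.π i :=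
    ⟨hS.desc (p' ≫ cokernel.π i) (by
      change kernel.ι p ≫ p' ≫ cokernel.π i = 0
      rw [← Category.assoc, ← hg, hgq]), hS.g_desc _ _⟩
  obtain ⟨c, hc⟩ := (finrank_eq_one_iff_of_nonzero' (cokernel.π i) hq0).1 h1 lam
  have hz : (p' - c • p) ≫ cokernel.π i = 0 := by
    rw [Preadditive.sub_comp, Linear.smul_comp, ← hlam, ← hc, Linear.comp_smul, sub_self]
  let S' : ShortComplex X.Modules := ShortComplex.mk i (cokernel.π i) (cokernel.condition i)
  have hS' : S'.Exact := ShortComplex.exact_cokernel i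
  haveI : Mono S'.f := inferInstanceAs (Mono i)
  obtain ⟨v, hv⟩ : ∃ v : N ⟶ J', v ≫ i = p' - c • p := ⟨hS'.lift _ hz, hS'.lift_f _ _⟩
  refine ⟨c, ?_, ?_⟩
  · intro h
    apply hne
    have : p' = c • p := sub_eq_zero.1 h
    rw [hg, this, Linear.comp_smul, kernel.condition, smul_zero]
  · intro h
    rw [← hv] at h
    haveI : Epi i := epi_of_epi v i
    exact hni (isIso_of_mono_of_epi i)

end Part1

section Part2


open Groth.Agent.Lib.R2H1.SerreDual Groth.Agent.Lib.R2H1.VBGlobGen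
open Groth.Agent.Lib.R2H1.CurveEuler Groth.Agent.Lib.R2H1.CurveDegSec
  Groth.Agent.Lib.R2H1.EulerAdd Groth.Agent.Lib.R2H2.HHLin Groth.Agent.Lib.R2H2.PnLinRes
  Groth.Agent.Lib.R2H1.VBSub Groth.Agent.Lib.R2H1.RegPoint Groth.Agent.Lib.R2H1.GenusLe
open Groth.Agent.Lib.R2H2.DualRep Groth.Agent.Lib.R2H2.PnBeilinson

variable (k : Type u) [Field k] [IsAlgClosed k] (X : Scheme.{u}) [X.Over (Spec (CommRingCat.of k))]
    [IsIntegral X] [IsProper (X ↘ (Spec (CommRingCat.of k)))]

/-- a locally free module of positive rank is not zero -/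
theorem id_ne_zero_of_rank_succ {n : ℕ} {N : X.Modules}
    (hN : FlatMod.IsFinLocFreeOfRank (n + 1) N) : 𝟙 N ≠ 0 := by
  intro h
  have hz : IsZero N := (IsZero.iff_id_eq_zero N).2 h
  let S : ShortComplex X.Modules := ShortComplex.mk (𝟙 N) (0 : N ⟶ N) (by simp)
  have hS : S.ShortExact :=
    { exact := ShortComplex.exact_of_isZero_X₂ S hz
      mono_f := inferInstanceAs (Mono (𝟙 N))
      epi_g := ⟨fun g h _ => hz.eq_of_src g h⟩ }
  have := Groth.Agent.Lib.R2H4DegAdd.rank_add S hS (n + 1) (n + 1) (n + 1) hN hN hN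
  omega

include k in
/-- the kernel of an epimorphism from a module of rank `n + 1` onto `O` has rank `n` -/
theorem rank_kernel_epi (hdim : topologicalKrullDim X = 1)
    (hreg : ∀ x : X, IsRegularLocalRing (X.presheaf.stalk x)) {n : ℕ} {N : X.Modules}
    (hN : FlatMod.IsFinLocFreeOfRank (n + 1) N) {I : X.Modules}
    (hI : FlatMod.IsFinLocFreeOfRank 1 I) (p : N ⟶ I) [Epi p] :
    FlatMod.IsFinLocFreeOfRank n (kernel p) := by
  haveI := isNoetherian_of_proper k X
  have cN := Groth.Agent.Lib.R2H1.DegTensor.isCoh_of_rank' hN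
  have lN := Groth.Agent.Lib.R2H4DegAdd.isFinLocFree_of_rank hN
  have cI := Groth.Agent.Lib.R2H1.DegTensor.isCoh_of_rank' hI
  have cK : Coh.IsCoh (kernel p) := Groth.Agent.Lib.R2H2.PdSheaf.isCoh_kernel cN cI p
  obtain ⟨r₀, hK⟩ := exists_rank_of_mono hdim.le hreg N lN _ cK (kernel.ι p)
  let S : ShortComplex X.Modules := ShortComplex.mk (kernel.ι p) p (kernel.condition p)
  have hS : S.ShortExact :=
    { exact := ShortComplex.exact_kernel p
      mono_f := inferInstanceAs (Mono (kernel.ι p))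
      epi_g := inferInstanceAs (Epi p) }
  have hrk : n + 1 = r₀ + 1 := Groth.Agent.Lib.R2H4DegAdd.rank_add S hS r₀ (n + 1) 1 hK hN hI
  have : r₀ = n := by omega
  subst this
  exact hK

/-- a module of positive rank with a jointly monic space of maps to `O`, all of whose nonzero
members are epimorphisms, has a nonzero section -/
theorem exists_section_of_all_epi (hdim : topologicalKrullDim X = 1)
    (hreg : ∀ x : X, IsRegularLocalRing (X.presheaf.stalk x)) (n : ℕ) :
    ∀ (N : X.Modules) (_ : FlatMod.IsFinLocFreeOfRank (n + 1) N)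
      (W : Submodule k (N ⟶ Coh.structureModule X)),
      (∀ (Z : X.Modules) (a : Z ⟶ N), (∀ p ∈ W, a ≫ p = 0) → a = 0) →
      (∀ p ∈ W, p ≠ 0 → Epi p) → ∃ s : Coh.structureModule X ⟶ N, s ≠ 0 := by
  haveI := isNoetherian_of_proper k X
  have hO := Groth.Agent.Lib.R2H1.VBHZero.structure_rank_one X
  have hid : (𝟙 (Coh.structureModule X)) ≠ 0 :=
    Groth.Agent.Lib.R2H1.SubDegBound.id_structureModule_ne_zero' X
  induction n with
  | zero =>
    intro N hN W hW1 hW2
    have hN0 : 𝟙 N ≠ 0 := id_ne_zero_of_rank_succ X hN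
    obtain ⟨p, hpW, hp⟩ : ∃ p ∈ W, 𝟙 N ≫ p ≠ 0 := by
      by_contra hcon
      push_neg at hcon
      exact hN0 (hW1 N (𝟙 N) hcon)
    rw [Category.id_comp] at hp
    haveI : Epi p := hW2 p hpW hp
    have hK := rank_kernel_epi k X hdim hreg hN hO p
    have hz : IsZero (kernel p) := Groth.Agent.Lib.R2H2.AmpleElt.isZero_of_rank_zero hK
    haveI : Mono p := Preadditive.mono_of_kernel_zero (hz.eq_of_src _ _)
    haveI : IsIso p := isIso_of_mono_of_epi p
    refine ⟨inv p, fun h => hid ?_⟩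
    rw [← IsIso.inv_hom_id p, h, zero_comp]
  | succ n ih =>
    intro N hN W hW1 hW2
    have cN := Groth.Agent.Lib.R2H1.DegTensor.isCoh_of_rank' hN
    have hN0 : 𝟙 N ≠ 0 := id_ne_zero_of_rank_succ X hN
    obtain ⟨p, hpW, hp⟩ : ∃ p ∈ W, 𝟙 N ≫ p ≠ 0 := by
      by_contra hcon
      push_neg at hcon
      exact hN0 (hW1 N (𝟙 N) hcon)
    rw [Category.id_comp] at hp
    haveI : Epi p := hW2 p hpW hp
    have hK := rank_kernel_epi k X hdim hreg hN hO p
    obtain ⟨s, hs⟩ := ih (kernel p) hK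
      (W.map (Linear.leftComp k (Coh.structureModule X) (kernel.ι p)))
      (by
        intro Z a ha
        have h1 : a ≫ kernel.ι p = 0 := by
          apply hW1
          intro p' hp'
          rw [Category.assoc]
          exact ha _ (Submodule.mem_map.2 ⟨p', hp', rfl⟩)
        exact zero_of_comp_mono (kernel.ι p) h1)
      (by
        intro p'' hp'' hne
        obtain ⟨p', hp', rfl⟩ := Submodule.mem_map.1 hp''
        by_contra hnepi
        obtain ⟨c, hc1, hc2⟩ := exists_nonepi_comb k X hdim hreg cN p p' hne hnepi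
        exact hc2 (hW2 _ (W.sub_mem hp' (W.smul_mem c hpW)) hc1))
    exact ⟨s ≫ kernel.ι p, fun h => hs (zero_of_comp_mono (kernel.ι p) h)⟩

end Part2

section Part3


open Groth.Agent.Lib.R2H1.SerreDual Groth.Agent.Lib.R2H1.VBGlobGen
open Groth.Agent.Lib.R2H1.CurveEuler Groth.Agent.Lib.R2H1.CurveDegSec
  Groth.Agent.Lib.R2H1.EulerAdd Groth.Agent.Lib.R2H2.HHLin Groth.Agent.Lib.R2H2.PnLinRes
  Groth.Agent.Lib.R2H1.VBSub Groth.Agent.Lib.R2H1.RegPoint Groth.Agent.Lib.R2H1.GenusLe
open Groth.Agent.Lib.R2H2.DualRep Groth.Agent.Lib.R2H2.PnBeilinson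

section Gen

variable {X : Scheme.{u}}

/-- maps from a finite free module to `O` are jointly monic -/
theorem eq_zero_of_comp_freeMod {Z : X.Modules} (m : ℕ) (a : Z ⟶ FlatMod.freeMod X m)
    (h : ∀ ℓ : FlatMod.freeMod X m ⟶ Coh.structureModule X, a ≫ ℓ = 0) : a = 0 := by
  classical
  let f : Fin m → X.Modules := fun _ => Coh.structureModule X
  let π : (i : Fin m) → ((∐ f) ⟶ Coh.structureModule X) := fun i =>
    Sigma.desc (fun j => if j = i then 𝟙 (Coh.structureModule X) else 0)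
  have hι : ∀ i j : Fin m, Sigma.ι f j ≫ π i = if j = i then 𝟙 _ else 0 := fun i j =>
    Sigma.ι_desc _ _
  have hid : 𝟙 (∐ f) = ∑ i : Fin m, π i ≫ Sigma.ι f i := by
    apply Sigma.hom_ext
    intro j
    rw [Category.comp_id, Preadditive.comp_sum]
    rw [Finset.sum_eq_single j]
    · rw [← Category.assoc, hι, if_pos rfl, Category.id_comp]
    · intro i _ hij
      rw [← Category.assoc, hι, if_neg (Ne.symm hij), zero_comp]
    · intro hj
      exact absurd (Finset.mem_univ j) hj
  have h1 : a = a ≫ 𝟙 (∐ f) := (Category.comp_id a).symm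
  rw [h1, hid, Preadditive.comp_sum]
  apply Finset.sum_eq_zero
  intro i _
  rw [← Category.assoc, h (π i), zero_comp]

end Gen

variable (k : Type u) [Field k] [IsAlgClosed k] (X : Scheme.{u}) [X.Over (Spec (CommRingCat.of k))]
    [IsIntegral X] [IsProper (X ↘ (Spec (CommRingCat.of k)))]

/-- a submodule of positive rank of a finite free module without sections has an invertible
quotient of negative degree -/
theorem exists_neg_quotient (hdim : topologicalKrullDim X = 1)
    (hreg : ∀ x : X, IsRegularLocalRing (X.presheaf.stalk x)) {n m : ℕ} (N : X.Modules)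
    (hN : FlatMod.IsFinLocFreeOfRank (n + 1) N) (ι : N ⟶ FlatMod.freeMod X m) [Mono ι]
    (h0 : ∀ s : Coh.structureModule X ⟶ N, s = 0) :
    ∃ (K : X.Modules) (a : K ⟶ N), Mono a ∧ FlatMod.IsFinLocFreeOfRank n K ∧
      PicF.IsInvertible (cokernel a) ∧ Curv2.deg k X (cokernel a) 1 < 0 := by
  haveI := isNoetherian_of_proper k X
  have cO := isCoh_structureModule X
  have hO := Groth.Agent.Lib.R2H1.VBHZero.structure_rank_one X
  have cN := Groth.Agent.Lib.R2H1.DegTensor.isCoh_of_rank' hN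
  obtain ⟨p, hp0, hpne⟩ : ∃ p : N ⟶ Coh.structureModule X, p ≠ 0 ∧ ¬ Epi p := by
    by_contra hcon
    push_neg at hcon
    obtain ⟨s, hs⟩ := exists_section_of_all_epi k X hdim hreg n N hN
      (LinearMap.range (Linear.leftComp k (Coh.structureModule X) ι))
      (by
        intro Z a ha
        have h1 : a ≫ ι = 0 := eq_zero_of_comp_freeMod m (a ≫ ι) (fun ℓ => by
          rw [Category.assoc]
          exact ha _ ⟨ℓ, rfl⟩)
        exact zero_of_comp_mono ι h1)
      (fun p _ hp => hcon p hp)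
    exact hs (h0 s)
  have cQ : Coh.IsCoh (cokernel p) := Groth.Agent.Lib.R2H2.NilFilt.isCoh_cokernel cN cO p
  have cI : Coh.IsCoh (Abelian.image p) :=
    Groth.Agent.Lib.R2H2.PdSheaf.isCoh_kernel cO cQ (cokernel.π p)
  have hfac : Abelian.factorThruImage p ≫ Abelian.image.ι p = p := Abelian.image.fac p
  have hj0 : Abelian.image.ι p ≠ 0 := by
    intro h
    apply hp0
    rw [← hfac, h, comp_zero]
  have hI := rank_one_of_sub_structure k X hdim hreg cI (Abelian.image.ι p) hj0
  have hjni : ¬ IsIso (Abelian.image.ι p) := by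
    intro h
    apply hpne
    rw [← hfac]
    infer_instance
  obtain ⟨hle, hiso⟩ := deg_le_of_mono_same_rank k X hdim hI hO (Abelian.image.ι p)
  have hdeg : Curv2.deg k X (Abelian.image p) 1 < 0 := by
    rw [← Groth.Agent.Lib.R2H1.VBHZero.deg_structure k X]
    exact lt_of_le_of_ne hle (fun h => hjni (hiso h))
  have hK := rank_kernel_epi k X hdim hreg hN hI (Abelian.factorThruImage p)
  let S : ShortComplex X.Modules := ShortComplex.mk (kernel.ι (Abelian.factorThruImage p))
    (Abelian.factorThruImage p) (kernel.condition _)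
  have hS : S.ShortExact :=
    { exact := ShortComplex.exact_kernel _
      mono_f := inferInstanceAs (Mono (kernel.ι (Abelian.factorThruImage p)))
      epi_g := inferInstanceAs (Epi (Abelian.factorThruImage p)) }
  obtain ⟨φ, -⟩ := Groth.Agent.Lib.R2H1.VBSsCat.cokernel_iso S hS
  refine ⟨_, kernel.ι (Abelian.factorThruImage p), inferInstance, hK, ?_, ?_⟩
  · exact Groth.Agent.Lib.Helper23.AmpleIso.isInvertible_of_iso φ.symm
      (Groth.Agent.Lib.R2H1.VBTwist.isInvertible_of_rank_one hI)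
  · rw [Groth.Agent.Lib.R2H1.CurveAmple.deg_congr k X φ 1]
    exact hdeg

/-- S12913: a locally free submodule without sections of a finite free module on a regular curve
has a filtration with invertible quotients of negative degree -/
theorem exists_filtration (hdim : topologicalKrullDim X = 1)
    (hreg : ∀ x : X, IsRegularLocalRing (X.presheaf.stalk x)) (r : ℕ) :
    ∀ (N : X.Modules) (_ : FlatMod.IsFinLocFreeOfRank r N) (m : ℕ)
      (ι : N ⟶ FlatMod.freeMod X m) (_ : Mono ι)
      (_ : ∀ s : Coh.structureModule X ⟶ N, s = 0),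
    ∃ (M : Fin (r + 1) → X.Modules) (f : (j : Fin r) → (M j.succ ⟶ M j.castSucc)),
      Nonempty (M 0 ≅ N) ∧ IsZero (M (Fin.last r)) ∧
        ∀ j : Fin r, Mono (f j) ∧ PicF.IsInvertible (cokernel (f j)) ∧
          Curv2.deg k X (cokernel (f j)) 1 < 0 := by
  induction r with
  | zero =>
    intro N hN m ι _ h0
    exact ⟨fun _ => N, fun j => j.elim0, ⟨Iso.refl _⟩,
      Groth.Agent.Lib.R2H2.AmpleElt.isZero_of_rank_zero hN, fun j => j.elim0⟩
  | succ r ih =>
    intro N hN m ι hι h0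
    haveI := hι
    obtain ⟨K, a, ha, hK, hinv, hdeg⟩ := exists_neg_quotient k X hdim hreg N hN ι h0
    haveI := ha
    obtain ⟨M', f', ⟨e'⟩, hz', hf'⟩ := ih K hK m (a ≫ ι) (mono_comp a ι)
      (fun s => zero_of_comp_mono a (h0 (s ≫ a)))
    refine ⟨Fin.cons (α := fun _ => X.Modules) N M',
      fun j => Fin.cases (motive := fun j : Fin (r + 1) =>
        ((Fin.cons (α := fun _ => X.Modules) N M' : Fin (r + 2) → X.Modules) j.succ ⟶
          (Fin.cons (α := fun _ => X.Modules) N M' : Fin (r + 2) → X.Modules) j.castSucc))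
        (e'.hom ≫ a) (fun j' => f' j') j,
      ⟨Iso.refl _⟩, hz', ?_⟩
    intro j
    refine Fin.cases ?_ (fun j' => ?_) j
    · haveI : Mono (e'.hom ≫ a) := mono_comp _ _
      refine ⟨inferInstanceAs (Mono (e'.hom ≫ a)), ?_, ?_⟩
      · exact Groth.Agent.Lib.Helper23.AmpleIso.isInvertible_of_iso
          (cokernelEpiComp e'.hom a).symm hinv
      · have := Groth.Agent.Lib.R2H1.CurveAmple.deg_congr k X (cokernelEpiComp e'.hom a) 1
        exact this ▸ hdeg
    · exact hf' j'

end Part3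

end Groth.Agent.Lib.R2H1.NegFilt
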