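import Mathlib
import Groth.Agent.Lib.R2H1NegFilt
import Groth.Agent.Lib.R2H1NonSpecial
import Groth.Agent.Lib.R2H1Clifford
import Groth.Agent.Lib.Helper18Cart1
set_option backward.isDefEq.respectTransparency.types false

/-!
# Twisting by ideals of finite colength on a regular curve (helper1, round 2)

* `isEffCartier_of_h0_ne_one`: on a regular integral proper curve over an algebraically closed field an ideal
  whose quotient has `h⁰ ≠ 1` is nonzero, hence effective Cartier
* `h0_tensor_ideal`: if `deg L ≥ 2g - 1 + n` and `h⁰(O/I) = n ≠ 1` then `h⁰(L ⊗ I) + n = h⁰(L)` (S18804 for n = 4)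
-/

set_option autoImplicit false
set_option linter.style.haveILetI false
set_option linter.unusedSectionVars false
universe u v

open CategoryTheory CategoryTheory.Limits AlgebraicGeometry TopologicalSpace Opposite

namespace Groth.Agent.Lib.R2H1.IdealTwist

section Part1

open Groth.Agent.Lib.R2H1.PicLaw Groth.Agent.Lib.R2H1.Clifford
open Groth.Agent.Lib.R2H1.PointTwist Groth.Agent.Lib.R2H1.PointTwistB
open Groth.Agent.Lib.R2H1.CurveEuler Groth.Agent.Lib.R2H1.CurveDegSec
  Groth.Agent.Lib.R2H1.EulerAdd Groth.Agent.Lib.R2H2.HHLin Groth.Agent.Lib.R2H2.PnLinRes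
  Groth.Agent.Lib.R2H1.GenusLe Groth.Agent.Lib.R2H1.RegPoint Groth.Agent.Lib.R2H1.DegCartier
open Groth.Agent.Lib.R2H2.PnBeilinson

variable (k : Type u) [Field k] [IsAlgClosed k] (X : Scheme.{u}) [X.Over (Spec (CommRingCat.of k))]
    [IsIntegral X] [IsProper (X ↘ (Spec (CommRingCat.of k)))]

/-- an ideal of finite colength `≠ 1` in cohomological terms on a regular curve is effective
Cartier -/
theorem isEffCartier_of_h0_ne_one (hdim : topologicalKrullDim X = 1)
    (hreg : ∀ x : X, IsRegularLocalRing (X.presheaf.stalk x)) (I : X.IdealSheafData)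
    (hI : Module.finrank k (Coh.HH X (ClSub.quotMod I) 0) ≠ 1) :
    BlowUp.IsEffCartierIdeal I := by
  haveI := isNoetherian_of_proper k X
  have cO := isCoh_structureModule X
  have cQ : Coh.IsCoh (ClSub.quotMod I) :=
    Groth.Agent.S0019.result I.subschemeι _ (isCoh_structureModule _)
  have cI : Coh.IsCoh (ClSub.idealMod I) :=
    Groth.Agent.Lib.R2H2.PdSheaf.isCoh_kernel cO cQ (ClSub.toSubscheme I)
  have hι0 : ClSub.idealModι I ≠ 0 := by
    intro h
    apply hI
    haveI : Mono (ClSub.toSubscheme I) := (idealSeq_shortExact I).exact.mono_g h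
    haveI : Epi (ClSub.toSubscheme I) := (idealSeq_shortExact I).epi_g
    haveI : IsIso (ClSub.toSubscheme I) := isIso_of_mono_of_epi _
    rw [← Groth.Agent.Lib.R2H2.ClosedPnLin.finrank_HH_of_iso k (asIso (ClSub.toSubscheme I)) 0]
    exact finrank_H0_structure_eq_one k X
  haveI : Mono (ClSub.idealModι I) := (idealSeq_shortExact I).mono_f
  have hI1 := Groth.Agent.Lib.R2H1.NegFilt.rank_one_of_sub_structure k X hdim hreg cI
    (ClSub.idealModι I) hι0
  exact Groth.Agent.Helper18Cart.isEffCartier_of_isInvertible I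
    (Groth.Agent.Lib.R2H1.VBTwist.isInvertible_of_rank_one hI1)

/-- twisting by an ideal of colength `n` with vanishing `H¹` drops `h⁰` by `n` -/
theorem h0_tensor_ideal (hdim : topologicalKrullDim X = 1)
    (hreg : ∀ x : X, IsRegularLocalRing (X.presheaf.stalk x))
    (L : X.Modules) (hL : PicF.IsInvertible L) (I : X.IdealSheafData) (n : ℕ) (hn : n ≠ 1)
    (hI : Module.finrank k (Coh.HH X (ClSub.quotMod I) 0) = n)
    (hdeg : 2 * (Curv2.genus k X : ℤ) - 1 + n ≤ Curv2.deg k X L 1) :
    Module.finrank k (Coh.HH X (CohB1.tensorMod L (ClSub.idealMod I)) 0) + n =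
      Module.finrank k (Coh.HH X L 0) := by
  haveI := isNoetherian_of_proper k X
  have hD := isEffCartier_of_h0_ne_one k X hdim hreg I (by rw [hI]; exact hn)
  have cQ : Coh.IsCoh (ClSub.quotMod I) :=
    Groth.Agent.S0019.result I.subschemeι _ (isCoh_structureModule _)
  have hsuppQ := dim_support_quotMod_le_zero _ hdim.le hD
  have hL1 : FlatMod.IsFinLocFreeOfRank 1 L :=
    Groth.Agent.Lib.Helper23.SecTw.isFinLocFreeOfRank_one_of_isInvertible L hL
  have hIinv : PicF.IsInvertible (ClSub.idealMod I) :=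
    Groth.Agent.Helper18Cart.isInvertible_of_isEffCartier _ hD
  have hLI := Groth.Agent.Lib.Helper23.SecTw.isInvertible_tensorMod hL hIinv
  have h₁ := isCoh_of_isInvertible _ hLI
  have cL := isCoh_of_isInvertible _ hL
  have main := euler_tensor_ideal k X _ 1 L hL1 cQ hsuppQ h₁
  rw [euler_eq_h0 k X _ cQ hsuppQ, hI] at main
  have e1 := euler_eq_h0_sub_h1 k X hdim.le L cL.1
  have e2 := euler_eq_h0_sub_h1 k X hdim.le _ h₁.1
  haveI s1 : Subsingleton (Coh.HH X L 1) :=
    Groth.Agent.Lib.R2H1.NonSpecial.s1522 k X hdim L hL (by linarith [Int.natCast_nonneg n])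
  haveI s2 : Subsingleton (Coh.HH X (CohB1.tensorMod L (ClSub.idealMod I)) 1) := by
    apply Groth.Agent.Lib.R2H1.NonSpecial.s1522 k X hdim _ hLI
    unfold Curv2.deg at hdeg ⊢
    rw [main] at hdeg
    push_cast at hdeg ⊢
    linarith
  have z1 : Module.finrank k (Coh.HH X L 1) = 0 := Module.finrank_zero_of_subsingleton
  have z2 : Module.finrank k (Coh.HH X (CohB1.tensorMod L (ClSub.idealMod I)) 1) = 0 :=
    Module.finrank_zero_of_subsingleton
  rw [z1] at e1
  rw [z2] at e2
  rw [e1, e2] at main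
  push_cast at main
  have : (Module.finrank k (Coh.HH X L 0) : ℤ) =
      Module.finrank k (Coh.HH X (CohB1.tensorMod L (ClSub.idealMod I)) 0) + n := by linarith
  exact_mod_cast this.symm

end Part1

end Groth.Agent.Lib.R2H1.IdealTwist
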