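import Mathlib
import Groth.Agent.Lib.R2H1Clifford
import Groth.Agent.Lib.R2H2PnBeilinson
set_option backward.isDefEq.respectTransparency.types false

/-!
helper1 (run 2): uniqueness of the g^1_2 on a curve of genus >= 2 (S11355). API: sv_smul, sv_sum, le_finrank_of_linIndep (LinSer.LinIndep of n sections => n <= h0), E2 (O+O as biproduct over Fin 2), isFinLocFreeOfRank_E2, deg_E2, h0_le_three, epi_desc_of_g12 (basis of sections of a degree 2 bundle with h0 = 2 generates it), exists_dual_of_g12 (kernel K of O^2 -> M is an inverse of every g12), s11355.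
-/

set_option autoImplicit false
set_option linter.style.haveILetI false
set_option linter.unusedSectionVars false
universe u v

open CategoryTheory CategoryTheory.Limits AlgebraicGeometry TopologicalSpace Opposite

namespace Groth.Agent.Lib.R2H1.G12

section Part1

open Groth.Agent.Lib.R2H1.PicLaw Groth.Agent.Lib.R2H1.Clifford
open Groth.Agent.Lib.R2H1.PointTwist Groth.Agent.Lib.R2H1.PointTwistB
open Groth.Agent.Lib.R2H1.CurveEuler Groth.Agent.Lib.R2H1.CurveDegSec
  Groth.Agent.Lib.R2H1.EulerAdd Groth.Agent.Lib.R2H2.HHLin Groth.Agent.Lib.R2H2.PnLinRes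
  Groth.Agent.Lib.R2H1.GenusZero Groth.Agent.Lib.R2H1.NonSpecial
  Groth.Agent.Lib.R2H1.LiftZero Groth.Agent.Lib.R2H1.CurveAmple
open Groth.Agent.Lib.Helper23.SecTw Groth.Agent.Lib.R2H2.PnBeilinson

section Lin

variable (k : Type u) [Field k] (X : Scheme.{u}) [X.Over (Spec (CommRingCat.of k))]

/-- the value at `⊤` of a scalar multiple of a section -/
theorem sv_smul {L : X.Modules} (a : k) (σ : Coh.structureModule X ⟶ L) (x : LinSer.Sect X L)
    (hx : sv σ ⊤ = x) :
    sv (a • σ) ⊤ = ((Coh.toGlobal (X ↘ Spec (CommRingCat.of k)) a) • x : LinSer.Sect X L) := by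
  subst hx
  rw [val_eq_app, val_eq_app, KLin.smul_app_apply]
  have h1 : X.presheaf.map (homOfLE (le_top : (⊤ : X.Opens) ≤ ⊤)).op = 𝟙 _ :=
    X.presheaf.map_id (op ⊤)
  rw [h1]
  rfl

theorem sv_sum {L : X.Modules} {ι : Type*} (S : Finset ι) (σ : ι → (Coh.structureModule X ⟶ L)) :
    sv (∑ i ∈ S, σ i) ⊤ = ∑ i ∈ S, sv (σ i) ⊤ := by
  classical
  induction S using Finset.induction_on with
  | empty => simp [sv_zero]
  | insert j S hj ih => rw [Finset.sum_insert hj, Finset.sum_insert hj, sv_add, ih]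

/-- `k`-linearly independent global sections give a lower bound for `h⁰` -/
theorem le_finrank_of_linIndep (L : X.Modules) [Module.Finite k (Coh.HH X L 0)] {n : ℕ}
    (s : Fin n → LinSer.Sect X L) (h : LinSer.LinIndep k X L s) :
    n ≤ Module.finrank k (Coh.HH X L 0) := by
  have hli : LinearIndependent k (fun i => clsEquiv (k := k) L (secHom L (s i))) := by
    rw [Fintype.linearIndependent_iff]
    intro c hc i
    have h1 : clsEquiv (k := k) L (∑ j, c j • secHom L (s j)) = 0 := by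
      rw [map_sum]
      simp only [map_smul]
      exact hc
    have h2 : ∑ j, c j • secHom L (s j) = 0 := by
      have := (clsEquiv (k := k) L).injective (h1.trans (map_zero _).symm)
      exact this
    have h3 : sv (∑ j, c j • secHom L (s j)) ⊤ = sv (0 : Coh.structureModule X ⟶ L) ⊤ := by
      rw [h2]
    rw [sv_sum, sv_zero] at h3
    have h4 : ∑ j, (Coh.toGlobal (X ↘ Spec (CommRingCat.of k)) (c j)) • s j = 0 := by
      refine Eq.trans ?_ h3
      refine Finset.sum_congr rfl fun j _ => ?_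
      exact (sv_smul k X (c j) (secHom L (s j)) (s j)
        ((sv_secHom L (s j) ⊤).trans (res_self L (s j)))).symm
    exact congrFun (h c h4) i
  have := hli.fintype_card_le_finrank
  simpa using this

end Lin

end Part1

section Part2


open Groth.Agent.Lib.R2H1.PicLaw Groth.Agent.Lib.R2H1.Clifford
open Groth.Agent.Lib.R2H1.PointTwist Groth.Agent.Lib.R2H1.PointTwistB
open Groth.Agent.Lib.R2H1.CurveEuler Groth.Agent.Lib.R2H1.CurveDegSec
  Groth.Agent.Lib.R2H1.EulerAdd Groth.Agent.Lib.R2H2.HHLin Groth.Agent.Lib.R2H2.PnLinRes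
  Groth.Agent.Lib.R2H1.GenusZero Groth.Agent.Lib.R2H1.NonSpecial
  Groth.Agent.Lib.R2H1.LiftZero Groth.Agent.Lib.R2H1.CurveAmple Groth.Agent.Lib.R2H1.SkyDecomp
open Groth.Agent.Lib.Helper23.SecTw Groth.Agent.Lib.R2H2.PnBeilinson

attribute [local instance] Abelian.hasFiniteBiproducts

section Gen

variable (X : Scheme.{u})

/-- `O ⊕ O` -/
noncomputable abbrev E2 : X.Modules := ⨁ (fun _ : Fin 2 => Coh.structureModule X)

theorem isFinLocFreeOfRank_E2 : FlatMod.IsFinLocFreeOfRank 2 (E2 X) := by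
  have h : FlatMod.IsFinLocFreeOfRank 2 (FlatMod.freeMod X 2) := fun x =>
    ⟨⊤, trivial, ⟨Groth.Agent.Lib.Helper20.LocFree.restrictFreeMod _ 2⟩⟩
  exact Groth.Agent.Lib.R2H1.VBSsCat.isFinLocFreeOfRank_of_iso
    (biproduct.isoCoproduct (fun _ : Fin 2 => Coh.structureModule X)).symm h

end Gen

section Main

variable (k : Type u) [Field k] [IsAlgClosed k] (X : Scheme.{u}) [X.Over (Spec (CommRingCat.of k))]
    [IsIntegral X] [IsProper (X ↘ (Spec (CommRingCat.of k)))]

theorem deg_E2 (hdim : topologicalKrullDim X = 1) : Curv2.deg k X (E2 X) 2 = 0 := by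
  haveI := isNoetherian_of_proper k X
  have hO := Groth.Agent.Lib.Helper23.TensorUnit.isInvertible_structureModule X
  have cO := isCoh_of_isInvertible _ hO
  have cE := Groth.Agent.Lib.R2H1.DegTensor.isCoh_of_rank' (isFinLocFreeOfRank_E2 X)
  have e1 := euler_eq_h0_sub_h1 k X hdim.le (E2 X) cE.1
  have e2 := euler_eq_h0_sub_h1 k X hdim.le (Coh.structureModule X) cO.1
  have f0 := finrank_HH_biproduct k (fun _ : Fin 2 => Coh.structureModule X) 0
    (fun _ => finite_HH k X _ cO 0)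
  have f1 := finrank_HH_biproduct k (fun _ : Fin 2 => Coh.structureModule X) 1
    (fun _ => finite_HH k X _ cO 1)
  unfold Curv2.deg
  rw [e1, e2, f0, f1]
  simp
  ring

/-- an invertible module of degree 4 on a curve of genus at least two has `h⁰ ≤ 3` -/
theorem h0_le_three (hdim : topologicalKrullDim X = 1)
    (hreg : ∀ x : X, IsRegularLocalRing (X.presheaf.stalk x)) (hg : 2 ≤ Curv2.genus k X)
    (N : X.Modules) (hN : PicF.IsInvertible N) (hdeg : Curv2.deg k X N 1 = 4) :
    Module.finrank k (Coh.HH X N 0) ≤ 3 := by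
  have hg' : (2 : ℤ) ≤ Curv2.genus k X := by exact_mod_cast hg
  rcases Nat.eq_zero_or_pos (Module.finrank k (Coh.HH X N 1)) with h1 | h1
  · have h0 := h0_of_nonspecial k X hdim N hN h1
    rw [hdeg] at h0
    omega
  · rcases Nat.eq_zero_or_pos (Module.finrank k (Coh.HH X N 0)) with h0 | h0
    · omega
    · have hc := clifford k X hdim hreg N hN h0 h1
      rw [hdeg] at hc
      omega

end Main

end Part2

section Part3


open Groth.Agent.Lib.R2H1.PicLaw Groth.Agent.Lib.R2H1.Clifford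
open Groth.Agent.Lib.R2H1.PointTwist Groth.Agent.Lib.R2H1.PointTwistB
open Groth.Agent.Lib.R2H1.CurveEuler Groth.Agent.Lib.R2H1.CurveDegSec
  Groth.Agent.Lib.R2H1.EulerAdd Groth.Agent.Lib.R2H2.HHLin Groth.Agent.Lib.R2H2.PnLinRes
  Groth.Agent.Lib.R2H1.GenusZero Groth.Agent.Lib.R2H1.NonSpecial
  Groth.Agent.Lib.R2H1.LiftZero Groth.Agent.Lib.R2H1.CurveAmple Groth.Agent.Lib.R2H1.SkyDecomp
open Groth.Agent.Lib.Helper23.SecTw Groth.Agent.Lib.R2H2.PnBeilinson
open Groth.Agent.Lib.R2H1.VBSub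

attribute [local instance] Abelian.hasFiniteBiproducts

variable (k : Type u) [Field k] [IsAlgClosed k] (X : Scheme.{u}) [X.Over (Spec (CommRingCat.of k))]
    [IsIntegral X] [IsProper (X ↘ (Spec (CommRingCat.of k)))]

/-- a basis of the two-dimensional space of sections of a degree two invertible module on a curve
of positive genus generates it -/
theorem epi_desc_of_g12 (hdim : topologicalKrullDim X = 1)
    (hreg : ∀ x : X, IsRegularLocalRing (X.presheaf.stalk x)) (hg : 1 ≤ Curv2.genus k X)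
    (M : X.Modules) (hM : PicF.IsInvertible M) (hdeg : Curv2.deg k X M 1 = 2)
    (b : Module.Basis (Fin 2) k (Coh.structureModule X ⟶ M)) :
    Epi (biproduct.desc (fun i => b i) : E2 X ⟶ M) := by
  haveI := isNoetherian_of_proper k X
  have hM1 : FlatMod.IsFinLocFreeOfRank 1 M :=
    Groth.Agent.Lib.Helper23.SecTw.isFinLocFreeOfRank_one_of_isInvertible M hM
  have cM := isCoh_of_isInvertible M hM
  obtain ⟨φ, hφ⟩ : ∃ φ : E2 X ⟶ M, φ = biproduct.desc (fun i => b i) := ⟨_, rfl⟩
  rw [← hφ]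
  have hφι : ∀ i, biproduct.ι (fun _ : Fin 2 => Coh.structureModule X) i ≫ φ = b i := by
    intro i; rw [hφ]; exact biproduct.ι_desc _ _
  obtain ⟨K₀, I, a, p, j, r₀, r₁, ha, hp, hj, hpj, hap, hK₀, hI, hrk, hdg, h0, h1, hle⟩ :=
    exists_ker_im k X hdim hreg (isFinLocFreeOfRank_E2 X) hM1 φ
  have hφ0 : φ ≠ 0 := by
    intro h
    have := hφι 0
    rw [h, comp_zero] at this
    exact b.ne_zero 0 this.symm
  have hr₁ : r₁ = 1 := by
    have : r₁ ≠ 0 := fun h => hφ0 (h1 h)
    omega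
  subst hr₁
  have hIinv : PicF.IsInvertible I := Groth.Agent.Lib.R2H1.VBTwist.isInvertible_of_rank_one hI
  have cI := isCoh_of_isInvertible I hIinv
  haveI := finite_HH k X M cM 0
  haveI := finite_HH k X I cI 0
  haveI : Module.Finite k (Coh.structureModule X ⟶ I) :=
    Module.Finite.equiv (clsEquiv (k := k) I).symm
  haveI : Module.Finite k (Coh.structureModule X ⟶ M) :=
    Module.Finite.equiv (clsEquiv (k := k) M).symm
  -- sections of I
  have hsurj : Function.Surjective (Linear.rightComp k (Coh.structureModule X) j) := by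
    rw [← LinearMap.range_eq_top, eq_top_iff, ← b.span_eq, Submodule.span_le]
    rintro _ ⟨i, rfl⟩
    refine ⟨biproduct.ι (fun _ : Fin 2 => Coh.structureModule X) i ≫ p, ?_⟩
    show (biproduct.ι (fun _ : Fin 2 => Coh.structureModule X) i ≫ p) ≫ j = b i
    rw [Category.assoc, hpj, hφι]
  have hfr := LinearMap.finrank_le_finrank_of_surjective hsurj
  have hM2 : Module.finrank k (Coh.structureModule X ⟶ M) = 2 := by
    have := Module.finrank_eq_card_basis b
    simpa using this
  have hI2 : 2 ≤ Module.finrank k (Coh.HH X I 0) := by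
    rw [← (clsEquiv (k := k) I).finrank_eq]
    omega
  have ht0 : biproduct.ι (fun _ : Fin 2 => Coh.structureModule X) 0 ≫ p ≠ 0 := by
    intro h
    have := hφι 0
    rw [← hpj, ← Category.assoc, h, zero_comp] at this
    exact b.ne_zero 0 this.symm
  have hdI0 := s1518 k X hdim I hIinv _ ht0
  have hdIpos : 0 < Curv2.deg k X I 1 := by
    by_contra hcon
    obtain ⟨e⟩ := s1520 k X hdim I hIinv _ ht0 (not_lt.mp hcon)
    have := Groth.Agent.Lib.R2H2.ClosedPnLin.finrank_HH_of_iso k e 0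
    rw [Groth.Agent.Lib.R2H1.RegPoint.finrank_H0_structure_eq_one k X] at this
    omega
  have hle' := h0_le_deg k X hdim hreg hg I hIinv hdIpos
  have hj0 : j ≠ 0 := by
    intro h
    apply hφ0
    rw [← hpj, h, comp_zero]
  obtain ⟨hdle, hiso⟩ := s1521 k X hdim I M hIinv hM j hj0
  have hI2' : (2 : ℤ) ≤ Module.finrank k (Coh.HH X I 0) := by exact_mod_cast hI2
  haveI : IsIso j := hiso (by omega)
  rw [← hpj]
  infer_instance

end Part3

section Part4


open Groth.Agent.Lib.R2H1.PicLaw Groth.Agent.Lib.R2H1.Clifford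
open Groth.Agent.Lib.R2H1.PointTwist Groth.Agent.Lib.R2H1.PointTwistB
open Groth.Agent.Lib.R2H1.CurveEuler Groth.Agent.Lib.R2H1.CurveDegSec
  Groth.Agent.Lib.R2H1.EulerAdd Groth.Agent.Lib.R2H2.HHLin Groth.Agent.Lib.R2H2.PnLinRes
  Groth.Agent.Lib.R2H1.GenusZero Groth.Agent.Lib.R2H1.NonSpecial
  Groth.Agent.Lib.R2H1.LiftZero Groth.Agent.Lib.R2H1.CurveAmple Groth.Agent.Lib.R2H1.SkyDecomp
open Groth.Agent.Lib.Helper23.SecTw Groth.Agent.Lib.R2H2.PnBeilinson
open Groth.Agent.Lib.R2H1.VBSub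

attribute [local instance] Abelian.hasFiniteBiproducts

variable (k : Type u) [Field k] [IsAlgClosed k] (X : Scheme.{u}) [X.Over (Spec (CommRingCat.of k))]
    [IsIntegral X] [IsProper (X ↘ (Spec (CommRingCat.of k)))]

/-- the kernel of the evaluation map of a `g¹₂` is an inverse of every `g¹₂` -/
theorem exists_dual_of_g12 (hdim : topologicalKrullDim X = 1)
    (hreg : ∀ x : X, IsRegularLocalRing (X.presheaf.stalk x)) (hg : 2 ≤ Curv2.genus k X)
    (M : X.Modules) (hM : PicF.IsInvertible M) (hdeg : Curv2.deg k X M 1 = 2)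
    (h2 : 2 ≤ Module.finrank k (Coh.HH X M 0)) :
    ∃ K : X.Modules, PicF.IsInvertible K ∧ ∀ M' : X.Modules, PicF.IsInvertible M' →
      Curv2.deg k X M' 1 = 2 → 2 ≤ Module.finrank k (Coh.HH X M' 0) →
      Nonempty (CohB1.tensorMod M' K ≅ Coh.structureModule X) := by
  haveI := isNoetherian_of_proper k X
  have hM1 : FlatMod.IsFinLocFreeOfRank 1 M :=
    Groth.Agent.Lib.Helper23.SecTw.isFinLocFreeOfRank_one_of_isInvertible M hM
  have cM := isCoh_of_isInvertible M hM
  haveI := finite_HH k X M cM 0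
  have hle := h0_le_deg k X hdim hreg (by omega) M hM (by omega)
  rw [hdeg] at hle
  have hM2 : Module.finrank k (Coh.structureModule X ⟶ M) = 2 := by
    rw [(clsEquiv (k := k) M).finrank_eq]
    have : ((Module.finrank k (Coh.HH X M 0) : ℕ) : ℤ) ≤ 2 := hle
    omega
  haveI : Module.Finite k (Coh.structureModule X ⟶ M) :=
    Module.Finite.equiv (clsEquiv (k := k) M).symm
  obtain ⟨b⟩ : Nonempty (Module.Basis (Fin 2) k (Coh.structureModule X ⟶ M)) :=
    ⟨Module.finBasisOfFinrankEq k _ hM2⟩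
  haveI hepi := epi_desc_of_g12 k X hdim hreg (by omega) M hM hdeg b
  obtain ⟨φ, hφ⟩ : ∃ φ : E2 X ⟶ M, φ = biproduct.desc (fun i => b i) := ⟨_, rfl⟩
  rw [← hφ] at hepi
  have hE2 := isFinLocFreeOfRank_E2 X
  have cE := Groth.Agent.Lib.R2H1.DegTensor.isCoh_of_rank' hE2
  have lE := Groth.Agent.Lib.R2H4DegAdd.isFinLocFree_of_rank hE2
  have cK : Coh.IsCoh (kernel φ) := Groth.Agent.Lib.R2H2.PdSheaf.isCoh_kernel cE cM φ
  obtain ⟨r₀, hK⟩ := exists_rank_of_mono hdim.le hreg (E2 X) lE _ cK (kernel.ι φ)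
  let S : ShortComplex X.Modules := ShortComplex.mk (kernel.ι φ) φ (kernel.condition φ)
  have hS : S.ShortExact :=
    { exact := ShortComplex.exact_kernel φ
      mono_f := inferInstanceAs (Mono (kernel.ι φ))
      epi_g := hepi }
  have hrk : 2 = r₀ + 1 := Groth.Agent.Lib.R2H4DegAdd.rank_add S hS r₀ 2 1 hK hE2 hM1
  have hr₀ : r₀ = 1 := by omega
  subst hr₀
  have hdK := Groth.Agent.Lib.R2H4DegAdd.main k X S hS 1 2 1 hK hE2 hM1
  have hdK' : Curv2.deg k X (kernel φ) 1 = -2 := by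
    have h1 : Curv2.deg k X S.X₂ 2 = 0 := deg_E2 k X hdim
    have h3 : Curv2.deg k X S.X₃ 1 = 2 := hdeg
    have h4 : Curv2.deg k X S.X₁ 1 = Curv2.deg k X (kernel φ) 1 := rfl
    rw [h1, h3, h4] at hdK
    linarith
  have hKinv : PicF.IsInvertible (kernel φ) :=
    Groth.Agent.Lib.R2H1.VBTwist.isInvertible_of_rank_one hK
  refine ⟨kernel φ, hKinv, fun M' hM' hdeg' h2' => ?_⟩
  have cM' := isCoh_of_isInvertible M' hM'
  have hS' := Groth.Agent.Lib.R2Lead.TensorExact.shortExact_map_tensorBi_of_isInvertible M' hM' S hS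
  have hMK : PicF.IsInvertible (CohB1.tensorMod M' (kernel φ)) := isInvertible_tensorMod hM' hKinv
  have hMM : PicF.IsInvertible (CohB1.tensorMod M' M) := isInvertible_tensorMod hM' hM
  have hdMK : Curv2.deg k X (CohB1.tensorMod M' (kernel φ)) 1 = 0 := by
    rw [Groth.Agent.Lib.R2H1.VBIndecTwo.deg_tensor_invertible k X hdim hM' hKinv, hdeg', hdK']
    norm_num
  have hdMM : Curv2.deg k X (CohB1.tensorMod M' M) 1 = 4 := by
    rw [Groth.Agent.Lib.R2H1.VBIndecTwo.deg_tensor_invertible k X hdim hM' hM, hdeg', hdeg]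
    norm_num
  have h3 := h0_le_three k X hdim hreg hg _ hMM hdMM
  -- `h⁰(M' ⊗ E2) = 4`
  have e : (DCoh.tensorBi.obj M').obj (E2 X) ≅
      ⨁ (fun _ : Fin 2 => (DCoh.tensorBi.obj M').obj (Coh.structureModule X)) :=
    (DCoh.tensorBi.obj M').mapBiproduct (fun _ : Fin 2 => Coh.structureModule X)
  have i1 := Groth.Agent.Lib.R2H2.ClosedPnLin.finrank_HH_of_iso k e 0
  have eO : (DCoh.tensorBi.obj M').obj (Coh.structureModule X) ≅ M' := runitI M'
  have i2 := Groth.Agent.Lib.R2H2.ClosedPnLin.finrank_HH_of_iso k eO 0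
  haveI := finite_HH k X M' cM' 0
  have hfin : ∀ _ : Fin 2, Module.Finite k
      (Coh.HH X ((DCoh.tensorBi.obj M').obj (Coh.structureModule X)) 0) := fun _ =>
    Module.Finite.equiv (LinearEquiv.ofBijective (HmapA k eO.inv 0) (by
      refine Function.bijective_iff_has_inverse.2 ⟨HmapA k eO.hom 0, fun x => ?_, fun x => ?_⟩
      · rw [HmapA_apply, HmapA_apply, ← HmapL_comp, eO.inv_hom_id, HmapL_id]
      · rw [HmapA_apply, HmapA_apply, ← HmapL_comp, eO.hom_inv_id, HmapL_id]))
  have i3 := finrank_HH_biproduct k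
    (fun _ : Fin 2 => (DCoh.tensorBi.obj M').obj (Coh.structureModule X)) 0 hfin
  have h4 : 4 ≤ Module.finrank k (Coh.HH X (S.map (DCoh.tensorBi.obj M')).X₂ 0) := by
    have : Module.finrank k (Coh.HH X (S.map (DCoh.tensorBi.obj M')).X₂ 0) =
        Module.finrank k (Coh.HH X ((DCoh.tensorBi.obj M').obj (E2 X)) 0) := rfl
    rw [this, i1, i3]
    simp only [Finset.sum_const, Finset.card_univ, Fintype.card_fin, smul_eq_mul]
    rw [i2]
    omega
  -- a nonzero section of `M' ⊗ K`
  have hpos : 0 < Module.finrank k (Coh.HH X (CohB1.tensorMod M' (kernel φ)) 0) := by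
    by_contra hcon
    have hz : Module.finrank k (Coh.HH X (S.map (DCoh.tensorBi.obj M')).X₁ 0) = 0 := by
      have : Module.finrank k (Coh.HH X (S.map (DCoh.tensorBi.obj M')).X₁ 0) =
        Module.finrank k (Coh.HH X (CohB1.tensorMod M' (kernel φ)) 0) := rfl
      omega
    haveI := finite_HH k X _ (isCoh_of_isInvertible _ hMK) 0
    haveI : Module.Finite k (Coh.HH X (S.map (DCoh.tensorBi.obj M')).X₁ 0) :=
      finite_HH k X _ (isCoh_of_isInvertible _ hMK) 0
    haveI : Subsingleton (Coh.HH X (S.map (DCoh.tensorBi.obj M')).X₁ 0) :=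
      Module.finrank_zero_iff.mp hz
    haveI : Module.Finite k (Coh.HH X (S.map (DCoh.tensorBi.obj M')).X₃ 0) :=
      finite_HH k X _ (isCoh_of_isInvertible _ hMM) 0
    have hinj : Function.Injective (HmapA k (S.map (DCoh.tensorBi.obj M')).g 0) := by
      rw [injective_iff_map_eq_zero]
      intro x hx
      obtain ⟨x₁, hx₁⟩ := exact₂ _ hS' 0 x hx
      rw [← hx₁, Subsingleton.elim x₁ 0, map_zero]
    have := LinearMap.finrank_le_finrank_of_injective hinj
    have h3' : Module.finrank k (Coh.HH X (S.map (DCoh.tensorBi.obj M')).X₃ 0) ≤ 3 := h3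
    omega
  obtain ⟨σ, hσ⟩ := exists_section_of_pos k X _ (isCoh_of_isInvertible _ hMK) hpos
  exact s1520 k X hdim _ hMK σ hσ (by omega)

end Part4

section Part5


open Groth.Agent.Lib.R2H1.PicLaw Groth.Agent.Lib.R2H1.Clifford
open Groth.Agent.Lib.R2H1.CurveEuler Groth.Agent.Lib.R2H1.EulerAdd Groth.Agent.Lib.R2H1.GenusZero
  Groth.Agent.Lib.R2H1.CurveDegSec

variable (k : Type u) [Field k] [IsAlgClosed k] (X : Scheme.{u}) [X.Over (Spec (CommRingCat.of k))]
    [IsIntegral X] [IsProper (X ↘ (Spec (CommRingCat.of k)))]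

theorem s11355 (hdim : topologicalKrullDim X = 1)
    (hreg : ∀ x : X, IsRegularLocalRing (X.presheaf.stalk x)) (hg : 2 ≤ Curv2.genus k X)
    (M : X.Modules) (s : Fin 2 → LinSer.Sect X M) (hM : LinSer.IsLinSer k X M 2 1 s)
    (M' : X.Modules) (s' : Fin 2 → LinSer.Sect X M') (hM' : LinSer.IsLinSer k X M' 2 1 s') :
    Nonempty (M ≅ M') := by
  haveI := isNoetherian_of_proper k X
  obtain ⟨hMi, hd, hli⟩ := hM
  obtain ⟨hMi', hd', hli'⟩ := hM'
  haveI := finite_HH k X M (isCoh_of_isInvertible M hMi) 0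
  haveI := finite_HH k X M' (isCoh_of_isInvertible M' hMi') 0
  have h2 := le_finrank_of_linIndep k X M s hli
  have h2' := le_finrank_of_linIndep k X M' s' hli'
  have hd2 : Curv2.deg k X M 1 = 2 := by rw [hd]; norm_num
  have hd2' : Curv2.deg k X M' 1 = 2 := by rw [hd']; norm_num
  obtain ⟨K, hK, hKall⟩ := exists_dual_of_g12 k X hdim hreg hg M hMi hd2 h2
  obtain ⟨e1⟩ := hKall M hMi hd2 h2
  obtain ⟨e2⟩ := hKall M' hMi' hd2' h2'
  letI := lawOfIntegral X
  have hO := Groth.Agent.Lib.Helper23.TensorUnit.isInvertible_structureModule X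
  have g1 := cls_mul_eq_of_iso hMi hK hO e1
  have g2 := cls_mul_eq_of_iso hMi' hK hO e2
  rw [PicGrp.cls_structureModule_eq_one] at g1 g2
  have : PicGrp.cls M hMi = PicGrp.cls M' hMi' := by
    rw [eq_inv_of_mul_eq_one_left g1, eq_inv_of_mul_eq_one_left g2]
  exact (PicGrp.cls_eq_cls_iff hMi hMi').1 this

end Part5

end Groth.Agent.Lib.R2H1.G12
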