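import Groth.Agent.Lib.R2H2PnTop

/-!
# The Euler characteristic of `O(n)` on projective space (helper2, round 2)
-/

set_option autoImplicit false
set_option linter.unusedSectionVars false
universe u

namespace Groth.Agent.Lib.R2H2.PnEuler

open MvPolynomial

/-- the number of monomials of degree `d` in `r + 1` variables -/
theorem finrank_homogeneousSubmodule (K : Type u) [Field K] (r d : ℕ) :
    Module.finrank K ↥(MvPolynomial.homogeneousSubmodule (Fin (r + 1)) K d) =
      Nat.choose (d + r) r := by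
  classical
  rw [MvPolynomial.homogeneousSubmodule_eq_finsupp_supported]
  have e1 := AddMonoidAlgebra.supportedEquivFinsupp (R := K) (S := K)
    ({u : Fin (r + 1) →₀ ℕ | u.degree = d} : Set (Fin (r + 1) →₀ ℕ))
  rw [e1.finrank_eq]
  have e2 : ↥({u : Fin (r + 1) →₀ ℕ | u.degree = d} : Set (Fin (r + 1) →₀ ℕ)) ≃
      Sym (Fin (r + 1)) d := (Sym.equivNatSum (Fin (r + 1)) d).symm
  have : Fintype ↥({u : Fin (r + 1) →₀ ℕ | u.degree = d} : Set (Fin (r + 1) →₀ ℕ)) :=
    Fintype.ofEquiv _ e2.symm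
  rw [Module.finrank_finsupp_self, Fintype.card_congr e2, Sym.card_sym_eq_choose, Fintype.card_fin]
  have h1 : r + 1 + d - 1 = d + r := by omega
  rw [h1, Nat.choose_symm_add]

section Euler

open CategoryTheory AlgebraicGeometry

variable (K : Type u) [Field K] (r : ℕ)

lemma finrank_HH_zero (n : ℤ) (j : ℕ) (h₀ : ¬ (j = 0 ∧ 0 ≤ n))
    (hn : ¬ (j = r ∧ n ≤ -((r : ℤ) + 1))) :
    Module.finrank K (Coh.HH (CohB1.ProjSpace r K) (Twist.twistProjSpace r K n) j) = 0 := by
  have : Subsingleton (Coh.HH (CohB1.ProjSpace r K) (Twist.twistProjSpace r K n) j) :=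
    Groth.Agent.Lib.R2H2.PnCoh.subsingleton_HH_tilde K r n j h₀ hn
  exact Module.finrank_zero_of_subsingleton

lemma finrank_HH_nonneg (d : ℕ) :
    Module.finrank K (Coh.HH (CohB1.ProjSpace r K) (Twist.twistProjSpace r K (d : ℤ)) 0) =
      Nat.choose (d + r) r := by
  obtain ⟨e⟩ := Groth.Agent.Lib.Helper27PnSections.nonempty_linearEquiv r K d
  rw [e.finrank_eq, finrank_homogeneousSubmodule]

lemma finrank_HH_top (k : ℕ) :
    Module.finrank K (Coh.HH (CohB1.ProjSpace r K)
      (Twist.twistProjSpace r K (-((r : ℤ) + 1 + k))) r) = Nat.choose (k + r) r := by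
  obtain ⟨e⟩ := Groth.Agent.Lib.R2H2.PnTop.nonempty_top_linearEquiv K r k
  rw [e.finrank_eq, finrank_homogeneousSubmodule]

/-- **the Euler characteristic of `O(n)` on `P^r_K`** -/
theorem euler_char (hr : 0 < r) (n : ℤ) :
    ((Finset.range (r + 1)).sum fun j => (-1 : ℤ) ^ j *
        (Module.finrank K (Coh.HH (CohB1.ProjSpace r K) (Twist.twistProjSpace r K n) j) : ℤ)) =
      Ring.choose (n + r) r := by
  rcases le_or_gt 0 n with h0 | h0
  · obtain ⟨d, rfl⟩ := Int.eq_ofNat_of_zero_le h0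
    rw [Finset.sum_eq_single 0]
    · rw [finrank_HH_nonneg, pow_zero, one_mul]
      have h1 : ((d : ℤ) + (r : ℤ)) = ((d + r : ℕ) : ℤ) := by push_cast; rfl
      rw [h1, Ring.choose_natCast]
    · intro j _ hj
      have h2 : ¬ (j = r ∧ (d : ℤ) ≤ -((r : ℤ) + 1)) := by
        rintro ⟨-, h3⟩
        omega
      rw [finrank_HH_zero K r _ j (fun h => hj h.1) h2]
      simp
    · intro h
      exact absurd (Finset.mem_range.mpr (Nat.succ_pos r)) h
  · rcases lt_or_ge (-((r : ℤ) + 1)) n with h1 | h1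
    · rw [Finset.sum_eq_zero]
      · obtain ⟨m, hm⟩ := Int.eq_ofNat_of_zero_le (show 0 ≤ n + r by omega)
        rw [hm, Ring.choose_natCast, Nat.choose_eq_zero_of_lt (by omega)]
        simp
      · intro j _
        have h2 : ¬ (j = 0 ∧ 0 ≤ n) := by
          rintro ⟨-, h3⟩
          omega
        have h3 : ¬ (j = r ∧ n ≤ -((r : ℤ) + 1)) := by
          rintro ⟨-, h4⟩
          omega
        rw [finrank_HH_zero K r n j h2 h3]
        simp
    · obtain ⟨k, hk⟩ := Int.eq_ofNat_of_zero_le (show 0 ≤ -n - ((r : ℤ) + 1) by omega)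
      have hn : n = -((r : ℤ) + 1 + k) := by omega
      rw [hn, Finset.sum_eq_single r]
      · rw [finrank_HH_top]
        have h2 : -((r : ℤ) + 1 + k) + r = -((k : ℤ) + 1) := by ring
        have h3 : (k : ℤ) + 1 + (r : ℤ) - 1 = ((k + r : ℕ) : ℤ) := by push_cast; ring
        rw [h2, Ring.choose_neg, h3, Ring.choose_natCast, Units.smul_def,
          Int.coe_negOnePow_natCast, smul_eq_mul]
      · intro j hj hjr
        have h2 : ¬ (j = 0 ∧ 0 ≤ -((r : ℤ) + 1 + k)) := by
          rintro ⟨-, h3⟩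
          omega
        rw [finrank_HH_zero K r _ j h2 (fun h => hjr h.1)]
        simp
      · intro h
        exact absurd (Finset.mem_range.mpr (Nat.lt_succ_self r)) h

end Euler

end Groth.Agent.Lib.R2H2.PnEuler
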