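import Mathlib
import Groth.Agent.Lib.R2H1Clifford
import Groth.Agent.Lib.R2H3PnChart
import Groth.Agent.Lib.R2H1G12
import Groth.Agent.Lib.R2H2PnEuler
import Groth.Agent.Lib.Helper23PB
import Groth.Agent.Lib.R2LeadKRR
set_option backward.isDefEq.respectTransparency.types false

/-!
# Degree of a nondegenerate curve in projective space (helper1, round 2)

* `euler_point_twist'`, `le_deg_of_h0`: on an integral proper curve over an algebraically closed field an
  invertible module with `n + 1` independent sections has degree at least `n` (no regularity needed)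
* `pullHom`, `sv_pullHom`, `pullHomL`, `pullHomL_injective`: pulling back global sections along a morphism
  of `k`-schemes as a `k`-linear map `Hom(O_P, M) → Hom(O_X, i^*M)`
* `s12912`
-/

set_option autoImplicit false
set_option linter.style.haveILetI false
set_option linter.unusedSectionVars false
universe u v

open CategoryTheory CategoryTheory.Limits AlgebraicGeometry TopologicalSpace Opposite

namespace Groth.Agent.Lib.R2H1.NonDeg

section Part1

open Groth.Agent.Lib.R2H1.PicLaw Groth.Agent.Lib.R2H1.Clifford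
open Groth.Agent.Lib.R2H1.PointTwist Groth.Agent.Lib.R2H1.PointTwistB
open Groth.Agent.Lib.R2H1.CurveEuler Groth.Agent.Lib.R2H1.CurveDegSec
  Groth.Agent.Lib.R2H1.EulerAdd Groth.Agent.Lib.R2H2.HHLin Groth.Agent.Lib.R2H2.PnLinRes
  Groth.Agent.Lib.R2H1.GenusLe Groth.Agent.Lib.R2H1.RegPoint Groth.Agent.Lib.R2H1.DegCartier
open Groth.Agent.Lib.R2H2.PnBeilinson

variable (k : Type u) [Field k] [IsAlgClosed k] (X : Scheme.{u}) [X.Over (Spec (CommRingCat.of k))]
    [IsIntegral X] [IsProper (X ↘ (Spec (CommRingCat.of k)))]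

/-- `χ(L) = χ(L(-p)) + 1` at a Cartier closed point -/
theorem euler_point_twist' (hdim : topologicalKrullDim X = 1)
    (L : X.Modules) (hL : PicF.IsInvertible L) (p : X) (hp : IsClosed ({p} : Set X))
    (hD : BlowUp.IsEffCartierIdeal (Scheme.IdealSheafData.vanishingIdeal ⟨{p}, hp⟩)) :
    Curv2.euler k X L = Curv2.euler k X (CohB1.tensorMod L (ClSub.idealMod
      (Scheme.IdealSheafData.vanishingIdeal ⟨{p}, hp⟩))) + 1 := by
  haveI := isNoetherian_of_proper k X
  have hQ : Coh.IsCoh (ClSub.quotMod (Scheme.IdealSheafData.vanishingIdeal ⟨{p}, hp⟩)) :=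
    Groth.Agent.S0019.result (Scheme.IdealSheafData.vanishingIdeal ⟨{p}, hp⟩).subschemeι _
      (Groth.Agent.Lib.R2H1.GenusLe.isCoh_structureModule _)
  have hsuppQ := dim_support_quotMod_le_zero _ hdim.le hD
  have hL1 : FlatMod.IsFinLocFreeOfRank 1 L :=
    Groth.Agent.Lib.Helper23.SecTw.isFinLocFreeOfRank_one_of_isInvertible L hL
  have hI : PicF.IsInvertible (ClSub.idealMod (Scheme.IdealSheafData.vanishingIdeal ⟨{p}, hp⟩)) :=
    Groth.Agent.Helper18Cart.isInvertible_of_isEffCartier _ hD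
  have hLI := Groth.Agent.Lib.Helper23.SecTw.isInvertible_tensorMod hL hI
  have h₁ := isCoh_of_isInvertible _ hLI
  have main := euler_tensor_ideal k X _ 1 L hL1 hQ hsuppQ h₁
  rw [euler_eq_h0 k X _ hQ hsuppQ, finrank_H0_quotMod_point k X p hp] at main
  simpa using main

/-- on an integral proper curve over an algebraically closed field `h⁰(L) ≤ deg L + 1` for an
invertible module with a section -/
theorem le_deg_of_h0 (hdim : topologicalKrullDim X = 1) :
    ∀ (n : ℕ) (L : X.Modules), PicF.IsInvertible L →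
      n + 1 ≤ Module.finrank k (Coh.HH X L 0) → (n : ℤ) ≤ Curv2.deg k X L 1 := by
  haveI := isNoetherian_of_proper k X
  intro n
  induction n with
  | zero =>
    intro L hL h
    haveI : Nontrivial (Coh.HH X L 0) := Module.nontrivial_of_finrank_pos (R := k) (by omega)
    obtain ⟨x, hx⟩ := exists_ne (0 : Coh.HH X L 0)
    obtain ⟨σ, rfl⟩ := cls_surjective _ x
    have hσ : σ ≠ 0 := by
      intro h
      apply hx
      rw [h]
      exact (clsEquiv (k := k) L).map_zero
    simpa using s1518 k X hdim L hL σ hσ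
  | succ n ih =>
    intro L hL h
    obtain ⟨p, -, hp, hdvr⟩ := exists_closed_dvr_mem_open k X (X ↘ Spec (CommRingCat.of k)) hdim ⊤
      ⟨genericPoint X, trivial⟩
    haveI := hdvr
    have hD := isEffCartier_vanishingIdeal_singleton X p hp
    have hL1 : FlatMod.IsFinLocFreeOfRank 1 L :=
      Groth.Agent.Lib.Helper23.SecTw.isFinLocFreeOfRank_one_of_isInvertible L hL
    have hI : PicF.IsInvertible (ClSub.idealMod (Scheme.IdealSheafData.vanishingIdeal ⟨{p}, hp⟩)) :=
      Groth.Agent.Helper18Cart.isInvertible_of_isEffCartier _ hD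
    have hLI := Groth.Agent.Lib.Helper23.SecTw.isInvertible_tensorMod hL hI
    have hb := (twist_bounds k X hdim.le _ hD 1 L hL1).2
    rw [finrank_H0_quotMod_point k X p hp, mul_one] at hb
    have h1 := ih _ hLI (by omega)
    have he := euler_point_twist' k X hdim L hL p hp hD
    unfold Curv2.deg at h1 ⊢
    rw [he]
    push_cast at h1 ⊢
    linarith

end Part1

section Part2

open Groth.Agent.Lib.R2H3.PnChart
open Groth.Agent.Lib.Helper23.SecTw Groth.Agent.Lib.Helper23.GenLocus

variable {X P : Scheme.{u}} (i : X ⟶ P) (M : P.Modules)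

/-- the pullback of a section -/
noncomputable def pullHom (σ : Coh.structureModule P ⟶ M) :
    Coh.structureModule X ⟶ (Scheme.Modules.pullback i).obj M :=
  inv (pullbackUnitHom i) ≫ (Scheme.Modules.pullback i).map σ

theorem inv_unit_app (U : P.Opens) (b : Γ(P, U)) :
    (inv (pullbackUnitHom i)).app (i ⁻¹ᵁ U) (OmegaSh.strSect X (i ⁻¹ᵁ U) (i.app U b)) =
      OmegaSh.pullSect i (Coh.structureModule P) U (OmegaSh.strSect P U b) := by
  rw [← pullbackUnitHom_pullSect i U b]
  change (pullbackUnitHom i ≫ inv (pullbackUnitHom i)).app (i ⁻¹ᵁ U) _ = _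
  rw [IsIso.hom_inv_id]
  rfl

theorem map_app_pullSect (σ : Coh.structureModule P ⟶ M) (U : P.Opens)
    (x : Γ(Coh.structureModule P, U)) :
    ((Scheme.Modules.pullback i).map σ).app (i ⁻¹ᵁ U)
        (OmegaSh.pullSect i (Coh.structureModule P) U x) =
      OmegaSh.pullSect i M U (σ.app U x) := by
  rw [← homEquiv_app, Adjunction.homEquiv_unit]
  have h := (Scheme.Modules.pullbackPushforwardAdjunction i).unit.naturality σ
  have h' : (Scheme.Modules.pullbackPushforwardAdjunction i).unit.app (Coh.structureModule P) ≫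
      (Scheme.Modules.pushforward i).map ((Scheme.Modules.pullback i).map σ) =
      σ ≫ (Scheme.Modules.pullbackPushforwardAdjunction i).unit.app M := h.symm
  rw [h']
  rfl

theorem sv_pullHom (σ : Coh.structureModule P ⟶ M) :
    sv (pullHom i M σ) (i ⁻¹ᵁ ⊤) = OmegaSh.pullSect i M ⊤ (sv σ ⊤) := by
  have h1 : toS (i ⁻¹ᵁ ⊤) (1 : Γ(X, i ⁻¹ᵁ ⊤)) =
      OmegaSh.strSect X (i ⁻¹ᵁ ⊤) (i.app ⊤ (1 : Γ(P, ⊤))) := by
    rw [map_one]
    rfl
  rw [val_eq_app, val_eq_app]
  unfold pullHom
  change ((Scheme.Modules.pullback i).map σ).app (i ⁻¹ᵁ ⊤)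
    ((inv (pullbackUnitHom i)).app (i ⁻¹ᵁ ⊤) (toS (i ⁻¹ᵁ ⊤) 1)) = _
  rw [h1, inv_unit_app, map_app_pullSect]
  rfl

section Lin

variable (k : Type u) [Field k] [X.Over (Spec (CommRingCat.of k))]
  [P.Over (Spec (CommRingCat.of k))]

theorem app_toGlobal (hi : i ≫ (P ↘ Spec (CommRingCat.of k)) = X ↘ Spec (CommRingCat.of k))
    (a : k) :
    i.app ⊤ (Coh.toGlobal (P ↘ Spec (CommRingCat.of k)) a) =
      Coh.toGlobal (X ↘ Spec (CommRingCat.of k)) a := by
  unfold Coh.toGlobal
  rw [← hi]
  simp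
  rfl

/-- pulling back sections, as a linear map -/
noncomputable def pullHomL
    (hi : i ≫ (P ↘ Spec (CommRingCat.of k)) = X ↘ Spec (CommRingCat.of k)) :
    (Coh.structureModule P ⟶ M) →ₗ[k]
      (Coh.structureModule X ⟶ (Scheme.Modules.pullback i).obj M) where
  toFun := pullHom i M
  map_add' σ τ := by
    apply hom_ext_of_sv
    change sv _ (i ⁻¹ᵁ ⊤) = sv _ (i ⁻¹ᵁ ⊤)
    rw [sv_pullHom, sv_add, sv_add, map_add, sv_pullHom, sv_pullHom]
  map_smul' a σ := by
    apply hom_ext_of_sv
    have h1 := Groth.Agent.Lib.R2H1.G12.sv_smul k P a σ _ rfl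
    have h2 := Groth.Agent.Lib.R2H1.G12.sv_smul k X a (pullHom i M σ) _ rfl
    rw [RingHom.id_apply, h2]
    change sv _ (i ⁻¹ᵁ ⊤) = _
    rw [sv_pullHom, h1]
    have h3 := OmegaSh.pullSect_smul i M ⊤ (Coh.toGlobal (P ↘ Spec (CommRingCat.of k)) a)
      (sv σ ⊤)
    rw [app_toGlobal i k hi a] at h3
    rw [← sv_pullHom] at h3
    exact h3

theorem pullHomL_apply (hi : i ≫ (P ↘ Spec (CommRingCat.of k)) = X ↘ Spec (CommRingCat.of k))
    (σ : Coh.structureModule P ⟶ M) : pullHomL i M k hi σ = pullHom i M σ := rfl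

theorem pullHomL_injective
    (hi : i ≫ (P ↘ Spec (CommRingCat.of k)) = X ↘ Spec (CommRingCat.of k))
    (hinj : ∀ s : LinSer.Sect P M, s ≠ 0 → OmegaSh.pullSect i M ⊤ s ≠ 0) :
    Function.Injective (pullHomL i M k hi) := by
  rw [injective_iff_map_eq_zero]
  intro σ hσ
  by_contra hne
  have h1 : sv σ ⊤ ≠ 0 := by
    intro h
    apply hne
    apply hom_ext_of_sv
    rw [h, sv_zero]
  apply hinj _ h1
  rw [← sv_pullHom, ← pullHomL_apply i M k hi, hσ]
  exact sv_zero _

end Lin

end Part2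

section Part3


open Groth.Agent.Lib.R2H1.CurveEuler Groth.Agent.Lib.R2H1.CurveDegSec
  Groth.Agent.Lib.R2H1.EulerAdd Groth.Agent.Lib.R2H2.PnBeilinson

/-- S12912 -/
theorem s12912 (k : Type u) [Field k] [IsAlgClosed k] (r : ℕ)
    (X : Scheme.{u}) [X.Over (Spec (CommRingCat.of k))] [IsIntegral X]
    [IsProper (X ↘ (Spec (CommRingCat.of k)))]
    (hdim : topologicalKrullDim X = 1)
    (i : X ⟶ CohB1.ProjSpace r k)
    (hi : i ≫ CohB1.ProjSpace.toSpec r k = (X ↘ (Spec (CommRingCat.of k))))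
    (hplane : ∀ s : LinSer.Sect (CohB1.ProjSpace r k) (Twist.twistProjSpace r k 1), s ≠ 0 →
      OmegaSh.pullSect i (Twist.twistProjSpace r k 1) ⊤ s ≠ 0) :
    (r : ℤ) ≤ Curv2.deg k X ((Scheme.Modules.pullback i).obj (Twist.twistProjSpace r k 1)) 1 := by
  haveI := isNoetherian_of_proper k X
  have hO1 := Groth.Agent.Lib.R2Lead.KRR.isInvertible_twistProjSpace r k 1
  have hL := Groth.Agent.Lib.Helper23.PB.isInvertible_pullback i _ hO1
  have cL := isCoh_of_isInvertible _ hL
  haveI := finite_HH k X _ cL 0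
  haveI : Module.Finite k (Coh.structureModule X ⟶
      (Scheme.Modules.pullback i).obj (Twist.twistProjSpace r k 1)) :=
    Module.Finite.equiv (clsEquiv (k := k) _).symm
  have h1 := LinearMap.finrank_le_finrank_of_injective
    (pullHomL_injective i (Twist.twistProjSpace r k 1) k hi hplane)
  rw [(clsEquiv (k := k) (Twist.twistProjSpace r k 1)).finrank_eq,
    (clsEquiv (k := k) ((Scheme.Modules.pullback i).obj (Twist.twistProjSpace r k 1))).finrank_eq]
    at h1
  have h2 := Groth.Agent.Lib.R2H2.PnEuler.finrank_HH_nonneg k r 1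
  have h3 : Nat.choose (1 + r) r = r + 1 := by
    rw [add_comm, Nat.choose_succ_self_right]
  rw [Nat.cast_one, h3] at h2
  rw [h2] at h1
  exact le_deg_of_h0 k X hdim r _ hL h1

end Part3

end Groth.Agent.Lib.R2H1.NonDeg
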