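import Mathlib
import Groth.Agent.Lib.R2H1IdealTwist
import Groth.Agent.Lib.R2H1NonDeg
import Groth.Agent.Lib.Helper6SmRegSch3
import Groth.Agent.Lib.R2H1BirDeg
import Groth.Agent.Lib.R2H1H0One
set_option backward.isDefEq.respectTransparency.types false

/-!
helper1 (run 2): an integral proper curve of genus zero over an algebraically closed field is smooth (S14512). API: isRegularLocalRing_of_isEffCartier_point (closed point of an integral locally noetherian scheme with effective Cartier ideal has a regular stalk), exists_deg_one (degree one invertible module with two sections), tensor_point_ideal_iso (L tensor I_q trivial for every closed q), isInvertible_point_ideal, isRegularLocalRing_closed, smooth_of_genus_zero.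
-/

set_option autoImplicit false
set_option linter.style.haveILetI false
set_option linter.unusedSectionVars false
universe u v

open CategoryTheory CategoryTheory.Limits AlgebraicGeometry TopologicalSpace Opposite

namespace Groth.Agent.Lib.R2H1.GenusZeroSm

section Part1

/-- a closed point of an integral locally noetherian scheme whose ideal is effective Cartier has a
regular local ring -/
theorem isRegularLocalRing_of_isEffCartier_point (X : Scheme.{u}) [IsIntegral X]
    [IsLocallyNoetherian X] (x : X) (hx : IsClosed ({x} : Set X))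
    (hD : BlowUp.IsEffCartierIdeal (Scheme.IdealSheafData.vanishingIdeal ⟨{x}, hx⟩)) :
    IsRegularLocalRing (X.presheaf.stalk x) := by
  obtain ⟨⟨U, hU⟩, hxU, f, -, hfI⟩ := hD x
  haveI : Nonempty U := ⟨⟨x, hxU⟩⟩
  haveI : IsNoetherianRing Γ(X, U) := IsLocallyNoetherian.component_noetherian ⟨U, hU⟩
  letI : Algebra Γ(X, U) (X.presheaf.stalk x) :=
    TopCat.Presheaf.algebra_section_stalk X.presheaf ⟨x, hxU⟩
  haveI : IsLocalization.AtPrime (X.presheaf.stalk x) (hU.primeIdealOf ⟨x, hxU⟩).asIdeal :=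
    hU.isLocalization_stalk ⟨x, hxU⟩
  have hid : (Scheme.IdealSheafData.vanishingIdeal ⟨{x}, hx⟩).ideal ⟨U, hU⟩ =
      (hU.primeIdealOf ⟨x, hxU⟩).asIdeal := by
    rw [Scheme.IdealSheafData.vanishingIdeal_ideal]
    have : (hU.fromSpec ⁻¹' ((⟨{x}, hx⟩ : Closeds X) : Set X)) = {hU.primeIdealOf ⟨x, hxU⟩} := by
      ext q
      simp only [Set.mem_preimage, Closeds.coe_mk, Set.mem_singleton_iff]
      constructor
      · intro h
        exact hU.fromSpec.isOpenEmbedding.injective
          (h.trans (hU.fromSpec_primeIdealOf ⟨x, hxU⟩).symm)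
      · rintro rfl
        exact hU.fromSpec_primeIdealOf ⟨x, hxU⟩
    exact (congrArg PrimeSpectrum.vanishingIdeal this).trans
      (PrimeSpectrum.vanishingIdeal_singleton _)
  have hmax : IsLocalRing.maximalIdeal (X.presheaf.stalk x) =
      Ideal.span {algebraMap Γ(X, U) (X.presheaf.stalk x) f} := by
    rw [← IsLocalization.AtPrime.map_eq_maximalIdeal (hU.primeIdealOf ⟨x, hxU⟩).asIdeal
      (X.presheaf.stalk x), ← hid, hfI, Ideal.map_span, Set.image_singleton]
  haveI : IsNoetherianRing (X.presheaf.stalk x) :=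
    IsLocalization.isNoetherianRing (hU.primeIdealOf ⟨x, hxU⟩).asIdeal.primeCompl _ inferInstance
  have hpr : (IsLocalRing.maximalIdeal (X.presheaf.stalk x)).IsPrincipal := ⟨⟨_, hmax⟩⟩
  haveI : IsPrincipalIdealRing (X.presheaf.stalk x) :=
    ((tfae_of_isNoetherianRing_of_isLocalRing_of_isDomain (X.presheaf.stalk x)).out 4 0).mp hpr
  infer_instance

end Part1

section Part2

open Groth.Agent.Lib.R2H1.PicLaw Groth.Agent.Lib.R2H1.Clifford
open Groth.Agent.Lib.R2H1.PointTwist Groth.Agent.Lib.R2H1.PointTwistB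
open Groth.Agent.Lib.R2H1.CurveEuler Groth.Agent.Lib.R2H1.CurveDegSec
  Groth.Agent.Lib.R2H1.EulerAdd Groth.Agent.Lib.R2H2.HHLin Groth.Agent.Lib.R2H2.PnLinRes
  Groth.Agent.Lib.R2H1.GenusLe Groth.Agent.Lib.R2H1.RegPoint Groth.Agent.Lib.R2H1.DegCartier
open Groth.Agent.Lib.R2H2.PnBeilinson Groth.Agent.Lib.R2H1.NonDeg

variable (k : Type u) [Field k] [IsAlgClosed k] (X : Scheme.{u}) [X.Over (Spec (CommRingCat.of k))]
    [IsIntegral X] [IsProper (X ↘ (Spec (CommRingCat.of k)))]

/-- on an integral proper curve of genus zero over an algebraically closed field there is an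
invertible module of degree one with two sections, inverse to the ideal of a closed point -/
theorem exists_deg_one (hdim : topologicalKrullDim X = 1) (hg : Curv2.genus k X = 0) :
    ∃ (p : X) (hp : IsClosed ({p} : Set X)) (L : X.Modules), PicF.IsInvertible L ∧
      PicF.IsInvertible (ClSub.idealMod (Scheme.IdealSheafData.vanishingIdeal ⟨{p}, hp⟩)) ∧
      Nonempty (CohB1.tensorMod (ClSub.idealMod (Scheme.IdealSheafData.vanishingIdeal ⟨{p}, hp⟩)) L ≅
        Coh.structureModule X) ∧
      Curv2.deg k X L 1 = 1 ∧ Module.finrank k (Coh.HH X L 0) = 2 := by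
  haveI := isNoetherian_of_proper k X
  obtain ⟨p, -, hp, hdvr⟩ := exists_closed_dvr_mem_open k X (X ↘ Spec (CommRingCat.of k)) hdim ⊤
    ⟨genericPoint X, trivial⟩
  have hDp := isEffCartier_vanishingIdeal_singleton X p hp
  have hIp := Groth.Agent.Helper18Cart.isInvertible_of_isEffCartier _ hDp
  obtain ⟨L, hL, ⟨e⟩⟩ := Groth.Agent.Lib.R2H1.InvExists.exists_inverse _ hIp
  have h1 := euler_point_twist' k X hdim L hL p hp hDp
  have h2 : Curv2.euler k X (CohB1.tensorMod L (ClSub.idealMod
      (Scheme.IdealSheafData.vanishingIdeal ⟨{p}, hp⟩))) = Curv2.euler k X (Coh.structureModule X) :=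
    euler_congr k ((commI L _) ≪≫ e)
  have hdeg : Curv2.deg k X L 1 = 1 := by
    unfold Curv2.deg
    rw [h1, h2]
    push_cast
    ring
  have h0 := finrank_H0_structure_eq_one k X
  have h3 := Groth.Agent.Lib.R2H1.GenusZero.s1635 k X hdim h0 hg L hL 1 one_pos (by rw [hdeg]; rfl)
  exact ⟨p, hp, L, hL, hIp, ⟨e⟩, hdeg, h3.1⟩

end Part2

section Part3

open Groth.Agent.Lib.R2H1.PicLaw Groth.Agent.Lib.R2H1.Clifford
open Groth.Agent.Lib.R2H1.PointTwist Groth.Agent.Lib.R2H1.PointTwistB
open Groth.Agent.Lib.R2H1.CurveEuler Groth.Agent.Lib.R2H1.CurveDegSec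
  Groth.Agent.Lib.R2H1.EulerAdd Groth.Agent.Lib.R2H2.HHLin Groth.Agent.Lib.R2H2.PnLinRes
  Groth.Agent.Lib.R2H1.GenusLe Groth.Agent.Lib.R2H1.RegPoint Groth.Agent.Lib.R2H1.DegCartier
open Groth.Agent.Lib.R2H2.PnBeilinson Groth.Agent.Lib.R2H1.NonDeg
open Groth.Agent.Lib.R2H1.InvHom Groth.Agent.Lib.R2H2.DevA

variable (k : Type u) [Field k] [IsAlgClosed k] (X : Scheme.{u}) [X.Over (Spec (CommRingCat.of k))]
    [IsIntegral X] [IsProper (X ↘ (Spec (CommRingCat.of k)))]

/-- a degree one invertible module with two sections on an integral proper curve with `χ(O) = 1`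
becomes trivial after twisting down by any closed point -/
theorem tensor_point_ideal_iso (hdim : topologicalKrullDim X = 1)
    (hχ : Curv2.euler k X (Coh.structureModule X) = 1)
    (L : X.Modules) (hL : PicF.IsInvertible L) (hdeg : Curv2.deg k X L 1 = 1)
    (h2 : Module.finrank k (Coh.HH X L 0) = 2) (q : X) (hq : IsClosed ({q} : Set X)) :
    Nonempty (CohB1.tensorMod L (ClSub.idealMod (Scheme.IdealSheafData.vanishingIdeal ⟨{q}, hq⟩)) ≅
      Coh.structureModule X) := by
  haveI := isNoetherian_of_proper k X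
  obtain ⟨D, hDdef⟩ : ∃ D : X.IdealSheafData, D = Scheme.IdealSheafData.vanishingIdeal ⟨{q}, hq⟩ :=
    ⟨_, rfl⟩
  rw [← hDdef]
  have hL1 : FlatMod.IsFinLocFreeOfRank 1 L :=
    Groth.Agent.Lib.Helper23.SecTw.isFinLocFreeOfRank_one_of_isInvertible L hL
  have hLf : FlatMod.IsFinLocFree L := fun y => by
    obtain ⟨V, hy, e⟩ := hL1 y
    exact ⟨V, 1, hy, e⟩
  have cL := isCoh_of_isInvertible L hL
  have cO := isCoh_structureModule X
  have cQ : Coh.IsCoh (ClSub.quotMod D) :=
    Groth.Agent.S0019.result D.subschemeι _ (isCoh_structureModule _)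
  have cI : Coh.IsCoh (ClSub.idealMod D) :=
    Groth.Agent.Lib.R2H2.PdSheaf.isCoh_kernel cO cQ (ClSub.toSubscheme D)
  have hfl := Groth.Agent.Lib.R2H2.PullLF.isFlat_of_isFinLocFree L hLf
  have c₁' : Coh.IsCoh (CohB1.tensorMod L (ClSub.idealMod D)) :=
    Groth.Agent.Lib.R2H1.BirDeg.isCoh_tensorMod cL cI
  obtain ⟨S, hSdef⟩ : ∃ S : ShortComplex X.Modules,
      S = (idealSeq D).map (DCoh.tensorBi.obj L) := ⟨_, rfl⟩
  have hS : S.ShortExact := by
    rw [hSdef]
    exact Groth.Agent.Lib.R2Lead.TensorExact.shortExact_map_tensorBi L (fun y => hfl y)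
      (idealSeq D) (idealSeq_shortExact D)
  have c₁ : Coh.IsCoh S.X₁ := by rw [hSdef]; exact c₁'
  have c₂ : Coh.IsCoh S.X₂ := by
    rw [hSdef]
    exact Groth.Agent.Lib.R2H2.PdSheaf.isCoh_of_iso (Groth.Agent.Lib.Helper21.Dual.rU X.sheaf L).symm cL
  have c₃ := isCoh_X₃ _ hS c₁ c₂
  -- supports
  have hsuppD : (D.support : Set X) = {q} := by
    rw [hDdef]; exact Scheme.IdealSheafData.coe_support_vanishingIdeal _
  have hdimD : topologicalKrullDim (D.support : Set X) ≤ 0 := by
    rw [hsuppD]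
    exact Groth.Agent.Lib.R2H1.H0One.topologicalKrullDim_le_zero_of_subsingleton _
  have hsuppQ : topologicalKrullDim (CohB1.support (ClSub.quotMod D)) ≤ 0 :=
    le_trans (Topology.IsInducing.topologicalKrullDim_le
      (Topology.IsEmbedding.inclusion (support_quotMod_subset D)).isInducing) hdimD
  have hQ1 : Module.finrank k (Coh.HH X (ClSub.quotMod D) 0) = 1 := by
    rw [hDdef]; exact finrank_H0_quotMod_point k X q hq
  have eQ := euler_eq_h0 k X (ClSub.quotMod D) cQ hsuppQ
  have main := euler_tensor_ideal k X D 1 L hL1 cQ hsuppQ c₁'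
  have hadd := s1524 k X S hS c₁ c₂ c₃
  have e₂ : Curv2.euler k X S.X₂ = Curv2.euler k X L := by
    rw [hSdef]; exact euler_congr k (Groth.Agent.Lib.Helper21.Dual.rU X.sheaf L)
  have e₁ : Curv2.euler k X S.X₁ = Curv2.euler k X (CohB1.tensorMod L (ClSub.idealMod D)) := by
    rw [hSdef]; rfl
  have hχL : Curv2.euler k X L = 2 := by
    unfold Curv2.deg at hdeg
    rw [hχ] at hdeg
    push_cast at hdeg
    linarith
  have hsupp₃ : CohB1.support S.X₃ ⊆ (D.support : Set X) := by
    intro y hy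
    by_contra hcon
    rw [hSdef] at hy
    exact hy (Groth.Agent.Lib.R2H1.LiftZero.stalk_X₃_subsingleton D L y hcon)
  have hdim₃ : topologicalKrullDim (CohB1.support S.X₃) ≤ 0 :=
    le_trans (Topology.IsInducing.topologicalKrullDim_le
      (Topology.IsEmbedding.inclusion hsupp₃).isInducing) hdimD
  have e3 := euler_eq_h0 k X _ c₃ hdim₃
  have h0X₃ : Module.finrank k (Coh.HH X S.X₃ 0) = 1 := by
    have : (Module.finrank k (Coh.HH X S.X₃ 0) : ℤ) = 1 := by
      rw [← e3]
      rw [e₂, e₁] at hadd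
      rw [eQ, hQ1] at main
      push_cast at main
      linarith
    exact_mod_cast this
  have h0X₂ : Module.finrank k (Coh.HH X S.X₂ 0) = 2 := by
    rw [hSdef]
    exact (Groth.Agent.Lib.R2H2.ClosedPnLin.finrank_HH_of_iso k
      (Groth.Agent.Lib.Helper21.Dual.rU X.sheaf L) 0).trans h2
  -- a section vanishing at `q`
  haveI := finite_HH k X S.X₂ c₂ 0
  haveI := finite_HH k X S.X₃ c₃ 0
  haveI : Module.Finite k (Coh.structureModule X ⟶ S.X₂) :=
    Module.Finite.equiv (clsEquiv (k := k) S.X₂).symm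
  haveI : Module.Finite k (Coh.structureModule X ⟶ S.X₃) :=
    Module.Finite.equiv (clsEquiv (k := k) S.X₃).symm
  have hlt : Module.finrank k (Coh.structureModule X ⟶ S.X₃) <
      Module.finrank k (Coh.structureModule X ⟶ S.X₂) := by
    rw [(clsEquiv (k := k) S.X₃).finrank_eq, (clsEquiv (k := k) S.X₂).finrank_eq, h0X₃, h0X₂]
    norm_num
  have hker := LinearMap.ker_ne_bot_of_finrank_lt
    (f := Linear.rightComp k (Coh.structureModule X) S.g) hlt
  obtain ⟨τ, hτker, hτ0⟩ := Submodule.exists_mem_ne_zero_of_ne_bot hker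
  have hτg : τ ≫ S.g = 0 := hτker
  have hX₂ : PicF.IsInvertible S.X₂ := by
    rw [hSdef]
    exact Groth.Agent.Lib.Helper23.AmpleIso.isInvertible_of_iso
      (Groth.Agent.Lib.Helper21.Dual.rU X.sheaf L).symm hL
  have hO := Groth.Agent.Lib.Helper23.TensorUnit.isInvertible_structureModule X
  haveI : Mono τ := mono_of_ne_zero hO hX₂ τ hτ0
  obtain ⟨hmain, -⟩ := Groth.Agent.Lib.R2H1.CurveDegSec.main k X hdim _ S.X₂ hO hX₂ τ hτ0
  have cT : Coh.IsCoh (cokernel τ) := Groth.Agent.Lib.R2H2.NilFilt.isCoh_cokernel cO c₂ τ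
  have hcl : IsClosed (CohB1.support (cokernel τ)) := Groth.Agent.S0020.result X _ cT.2
  obtain ⟨W, ⟨x, hx⟩, hW⟩ := exists_open_stalk_cokernel hO hX₂ τ hτ0
  have hne : CohB1.support (cokernel τ) ≠ Set.univ := by
    intro h
    have : x ∈ CohB1.support (cokernel τ) := h ▸ Set.mem_univ x
    exact this (hW x hx)
  have hsuppT : topologicalKrullDim (CohB1.support (cokernel τ)) ≤ 0 :=
    dim_le_zero_of_ne_univ hdim.le _ hcl hne
  have eT := euler_eq_h0 k X (cokernel τ) cT hsuppT
  -- the induced map on cokernels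
  obtain ⟨g', hg'⟩ : ∃ g' : cokernel τ ⟶ S.X₃, g' = cokernel.desc τ S.g hτg := ⟨_, rfl⟩
  have hπg : cokernel.π τ ≫ g' = S.g := by rw [hg']; exact cokernel.π_desc _ _ _
  haveI : Epi S.g := hS.epi_g
  haveI : Epi g' := by
    haveI : Epi (cokernel.π τ ≫ g') := by rw [hπg]; infer_instance
    exact epi_of_epi (cokernel.π τ) g'
  have cK : Coh.IsCoh (kernel g') := Groth.Agent.Lib.R2H2.PdSheaf.isCoh_kernel cT c₃ g'
  let S' : ShortComplex X.Modules := ShortComplex.mk (kernel.ι g') g' (kernel.condition g')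
  have hS' : S'.ShortExact :=
    { exact := ShortComplex.exact_kernel g'
      mono_f := inferInstanceAs (Mono (kernel.ι g'))
      epi_g := inferInstanceAs (Epi g') }
  have hadd' := s1524 k X S' hS' cK cT c₃
  have hsuppK : topologicalKrullDim (CohB1.support (kernel g')) ≤ 0 :=
    le_trans (Topology.IsInducing.topologicalKrullDim_le
      (Topology.IsEmbedding.inclusion (support_subset_of_mono (kernel.ι g'))).isInducing) hsuppT
  have eK := euler_eq_h0 k X (kernel g') cK hsuppK
  have hK0 : Module.finrank k (Coh.HH X (kernel g') 0) = 0 := by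
    have h1 : Curv2.euler k X S'.X₂ = Curv2.euler k X (cokernel τ) := rfl
    have h2' : Curv2.euler k X S'.X₁ = Curv2.euler k X (kernel g') := rfl
    have h3 : Curv2.euler k X S'.X₃ = Curv2.euler k X S.X₃ := rfl
    rw [h1, h2', h3, eK, eT, e3, h0X₃] at hadd'
    rw [e₂, hχL, hχ] at hmain
    push_cast at hadd'
    omega
  have hid0 : 𝟙 (kernel g') = 0 := by
    refine Scheme.Modules.hom_ext _ _ fun U => ?_
    ext l
    haveI := subsingleton_sections_of_h0 k X (kernel g') cK hsuppK hK0 U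
    exact Subsingleton.elim _ _
  have hzero : kernel.ι g' = 0 := by
    rw [← Category.id_comp (kernel.ι g'), hid0, zero_comp]
  haveI : Mono g' := Abelian.mono_of_kernel_ι_eq_zero g' hzero
  haveI : IsIso g' := isIso_of_mono_of_epi g'
  -- the two lifts
  haveI : Mono S.f := hS.mono_f
  have hfπ : S.f ≫ cokernel.π τ = 0 := by
    have : (S.f ≫ cokernel.π τ) ≫ g' = 0 ≫ g' := by
      rw [Category.assoc, hπg, S.zero, zero_comp]
    exact (cancel_mono g').mp this
  obtain ⟨ρ, hρ⟩ : ∃ ρ : S.X₁ ⟶ Coh.structureModule X, ρ ≫ τ = S.f :=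
    ⟨Abelian.monoLift τ S.f hfπ, Abelian.monoLift_comp τ S.f hfπ⟩
  obtain ⟨σ, hσ⟩ : ∃ σ : Coh.structureModule X ⟶ S.X₁, σ ≫ S.f = τ :=
    ⟨hS.exact.lift τ hτg, hS.exact.lift_f τ hτg⟩
  have h1 : ρ ≫ σ = 𝟙 _ := by
    rw [← cancel_mono S.f, Category.assoc, hσ, hρ, Category.id_comp]
  have h2' : σ ≫ ρ = 𝟙 _ := by
    rw [← cancel_mono τ, Category.assoc, hρ, hσ, Category.id_comp]
  subst hSdef
  exact ⟨⟨ρ, σ, h1, h2'⟩⟩

end Part3

section Part4


open Groth.Agent.Lib.R2H1.PicLaw Groth.Agent.Lib.R2H1.Clifford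
open Groth.Agent.Lib.R2H1.PointTwist Groth.Agent.Lib.R2H1.PointTwistB
open Groth.Agent.Lib.R2H1.CurveEuler Groth.Agent.Lib.R2H1.CurveDegSec
  Groth.Agent.Lib.R2H1.EulerAdd Groth.Agent.Lib.R2H2.HHLin Groth.Agent.Lib.R2H2.PnLinRes
  Groth.Agent.Lib.R2H1.GenusLe Groth.Agent.Lib.R2H1.RegPoint Groth.Agent.Lib.R2H1.DegCartier
open Groth.Agent.Lib.R2H2.PnBeilinson Groth.Agent.Lib.R2H1.NonDeg
open Groth.Agent.Lib.R2H1.InvHom Groth.Agent.Lib.R2H2.DevA

variable (k : Type u) [Field k] [IsAlgClosed k] (X : Scheme.{u}) [X.Over (Spec (CommRingCat.of k))]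
    [IsIntegral X] [IsProper (X ↘ (Spec (CommRingCat.of k)))]

/-- on an integral proper curve of genus zero over an algebraically closed field the ideals of any
two closed points are isomorphic; in particular they are all invertible -/
theorem isInvertible_point_ideal (hdim : topologicalKrullDim X = 1) (hg : Curv2.genus k X = 0)
    (q : X) (hq : IsClosed ({q} : Set X)) :
    PicF.IsInvertible (ClSub.idealMod (Scheme.IdealSheafData.vanishingIdeal ⟨{q}, hq⟩)) := by
  haveI := isNoetherian_of_proper k X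
  obtain ⟨p, hp, L, hL, hIp, ⟨e⟩, hdeg, h2⟩ := exists_deg_one k X hdim hg
  have hχ : Curv2.euler k X (Coh.structureModule X) = 1 := by
    rw [euler_eq_h0_sub_h1 k X hdim.le _ (isCoh_structureModule X).1,
      finrank_H0_structure_eq_one k X]
    have : Module.finrank k (Coh.HH X (Coh.structureModule X) 1) = 0 := hg
    rw [this]
    norm_num
  obtain ⟨φ⟩ := tensor_point_ideal_iso k X hdim hχ L hL hdeg h2 q hq
  obtain ⟨Iq, hIq⟩ : ∃ Iq : X.Modules,
      Iq = ClSub.idealMod (Scheme.IdealSheafData.vanishingIdeal ⟨{q}, hq⟩) := ⟨_, rfl⟩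
  obtain ⟨Ip, hIpdef⟩ : ∃ Ip : X.Modules,
      Ip = ClSub.idealMod (Scheme.IdealSheafData.vanishingIdeal ⟨{p}, hp⟩) := ⟨_, rfl⟩
  rw [← hIq] at φ ⊢
  rw [← hIpdef] at e hIp
  have e' : CohB1.tensorMod L Ip ≅ Coh.structureModule X := commI L Ip ≪≫ e
  have ψ : Iq ≅ Ip :=
    (tensorInvIso Iq L Ip e').symm ≪≫
      (Groth.Agent.Lib.Helper21.ModTensor3.tR X.sheaf Ip).mapIso (commI Iq L ≪≫ φ) ≪≫
      commI (Coh.structureModule X) Ip ≪≫ runitI Ip
  exact Groth.Agent.Lib.Helper23.AmpleIso.isInvertible_of_iso ψ.symm hIp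

/-- an integral proper curve of genus zero over an algebraically closed field has regular local
rings at closed points -/
theorem isRegularLocalRing_closed (hdim : topologicalKrullDim X = 1) (hg : Curv2.genus k X = 0)
    (q : X) (hq : IsClosed ({q} : Set X)) : IsRegularLocalRing (X.presheaf.stalk q) := by
  haveI := isNoetherian_of_proper k X
  exact isRegularLocalRing_of_isEffCartier_point X q hq
    (Groth.Agent.Helper18Cart.isEffCartier_of_isInvertible _
      (isInvertible_point_ideal k X hdim hg q hq))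

/-- S14512 -/
theorem smooth_of_genus_zero (hdim : topologicalKrullDim X = 1) (hg : Curv2.genus k X = 0) :
    Smooth (X ↘ (Spec (CommRingCat.of k))) := by
  haveI := isNoetherian_of_proper k X
  haveI : LocallyOfFinitePresentation (X ↘ Spec (CommRingCat.of k)) :=
    LocallyOfFinitePresentation.iff_locallyOfFiniteType.mpr inferInstance
  rw [← Scheme.Hom.smoothLocus_eq_top_iff, eq_top_iff]
  intro x _
  by_cases hx : IsClosed ({x} : Set X)
  · rw [Groth.Agent.Lib.Helper6.SmRegSch3.mem_smoothLocus_iff_isRegularLocalRing k X _ x]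
    exact isRegularLocalRing_closed k X hdim hg x hx
  · exact mem_open_of_not_isClosed k X hdim _
      ⟨genericPoint X, Scheme.Hom.genericPoint_mem_smoothLocus_of_perfectField _⟩ x hx

end Part4

end Groth.Agent.Lib.R2H1.GenusZeroSm
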