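import Mathlib
import Groth.Agent.Lib.R2H1IsoP1
import Groth.Agent.Lib.R2H1GenusZeroSm
set_option backward.isDefEq.respectTransparency.types false

/-!
helper1 (run 2): criterion for the projective line. API: exists_section_lift (sections are left exact), mem_genLocus_of_subsingleton_stalk, h0_quotMod_point_pos, core (degree one invertible module with a section vanishing at a closed point p: L tensor I_p trivial, p rational, section generates off p), exists_mem_genLocus_of_h0_lt' (any field), s6541.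
-/

set_option autoImplicit false
set_option linter.style.haveILetI false
set_option linter.unusedSectionVars false
universe u v

open CategoryTheory CategoryTheory.Limits AlgebraicGeometry TopologicalSpace Opposite

namespace Groth.Agent.Lib.R2H1.IsoP1B

section Part1

open Groth.Agent.Lib.Helper23.SecTw Groth.Agent.Lib.Helper23.GenLocus Groth.Agent.Lib.Helper6

set_option backward.isDefEq.respectTransparency.types true in
/-- sections functor is left exact: a section killed by `g` comes from `f` -/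
theorem exists_section_lift {X : Scheme.{u}} (S : ShortComplex X.Modules) (hS : S.Exact)
    [Mono S.f] (W : X.Opens) (b : Γ(S.X₂, W)) (hb : S.g.app W b = 0) :
    ∃ a : Γ(S.X₁, W), S.f.app W a = b := by
  let F : X.Modules ⥤ ModuleCat.{u} (X.ringCatSheaf.obj.obj (op W)) :=
    SheafOfModules.evaluation X.ringCatSheaf (op W)
  haveI : F.PreservesZeroMorphisms := ⟨fun M N => rfl⟩
  haveI : PreservesFiniteLimits F :=
    inferInstanceAs (PreservesFiniteLimits (SheafOfModules.evaluation X.ringCatSheaf (op W)))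
  have h1 : (S.map F).Exact :=
    hS.map_of_mono_of_preservesKernel _ inferInstance inferInstance
  rw [ShortComplex.moduleCat_exact_iff] at h1
  exact h1 b hb

/-- a point where the cokernel of a (mono) section has trivial stalk lies in the generating locus -/
theorem mem_genLocus_of_subsingleton_stalk {X : Scheme.{u}} (L : X.Modules)
    (hL : PicF.IsInvertible L) (s : Coh.structureModule X ⟶ L) [Mono s] (y : X)
    (h : Subsingleton ((cokernel s).presheaf.stalk y)) : y ∈ CohB1.genLocus L s := by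
  obtain ⟨W, e, hyW, he⟩ := exists_gen L hL y
  have hz : (cokernel s).presheaf.germ W y hyW ((cokernel.π s).app W e) =
      (cokernel s).presheaf.germ W y hyW 0 := Subsingleton.elim _ _
  obtain ⟨W₁, hyW₁, iU, iV, hres⟩ := TopCat.Presheaf.germ_eq _ y hyW hyW _ _ hz
  have hle : W₁ ≤ W := leOfHom iU
  have h0 : (cokernel.π s).app W₁ (res L hle e) = 0 := by
    rw [Groth.Agent.Lib.R2H1.InvHom.app_res]
    have h5 : res (cokernel s) hle ((cokernel.π s).app W e) = 0 := by
      refine hres.trans ?_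
      exact map_zero _
    exact h5
  obtain ⟨a, ha⟩ := exists_section_lift (ShortComplex.mk s (cokernel.π s) (cokernel.condition s))
    (ShortComplex.exact_cokernel s) W₁ (res L hle e) h0
  have he₁ : IsGen L W₁ (res L hle e) := he.mono hle
  have h1 : s.app W₁ (toS W₁ (ofS W₁ a)) = ofS W₁ a • sv s W₁ := app_toS s W₁ _
  rw [toS_ofS] at h1
  have ha' : s.app W₁ a = res L hle e := ha
  rw [ha', sv_eq_coef_smul s he₁, ← mul_smul] at h1
  have h2 : ofS W₁ a * coef he₁ le_rfl (sv s W₁) = 1 := by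
    apply (he₁ W₁ le_rfl).1
    simp only []
    rw [res_self, one_smul]
    exact h1.symm
  have hu : IsUnit (coef he₁ le_rfl (sv s W₁)) := IsUnit.of_mul_eq_one _ (by rw [mul_comm]; exact h2)
  have h3 := genLocus_inf_eq_coef s he₁
  rw [X.basicOpen_of_isUnit hu] at h3
  have : y ∈ CohB1.genLocus L s ⊓ W₁ := by rw [h3]; exact hyW₁
  exact this.1

end Part1

section Part2


open Groth.Agent.Lib.R2H1.PicLaw Groth.Agent.Lib.R2H1.Clifford
open Groth.Agent.Lib.R2H1.PointTwist Groth.Agent.Lib.R2H1.PointTwistB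
open Groth.Agent.Lib.R2H1.CurveEuler Groth.Agent.Lib.R2H1.CurveDegSec
  Groth.Agent.Lib.R2H1.EulerAdd Groth.Agent.Lib.R2H2.HHLin Groth.Agent.Lib.R2H2.PnLinRes
  Groth.Agent.Lib.R2H1.GenusLe Groth.Agent.Lib.R2H1.RegPoint Groth.Agent.Lib.R2H1.DegCartier
open Groth.Agent.Lib.R2H2.PnBeilinson Groth.Agent.Lib.R2H1.NonDeg
open Groth.Agent.Lib.R2H1.InvHom Groth.Agent.Lib.R2H2.DevA Groth.Agent.Lib.R2H1.LiftZero

open Groth.Agent.Lib.H9SteinH0 Groth.Agent.Lib.H9SteinConn Groth.Agent.Lib.H9NormFin in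
/-- the structure sheaf of a closed point has nonzero sections -/
theorem h0_quotMod_point_pos (k : Type u) [Field k] (X : Scheme.{u})
    [X.Over (Spec (CommRingCat.of k))] [IsProper (X ↘ (Spec (CommRingCat.of k)))]
    (x : X) (hx : IsClosed ({x} : Set X)) :
    0 < Module.finrank k
      (Coh.HH X (ClSub.quotMod (Scheme.IdealSheafData.vanishingIdeal ⟨{x}, hx⟩)) 0) := by
  haveI : CompactSpace X :=
    QuasiCompact.compactSpace_of_compactSpace (X ↘ Spec (CommRingCat.of k))
  letI : (Scheme.IdealSheafData.vanishingIdeal ⟨{x}, hx⟩).subscheme.Over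
      (Spec (CommRingCat.of k)) :=
    ⟨(Scheme.IdealSheafData.vanishingIdeal ⟨{x}, hx⟩).subschemeι ≫
      (X ↘ Spec (CommRingCat.of k))⟩
  haveI : IsProper ((Scheme.IdealSheafData.vanishingIdeal ⟨{x}, hx⟩).subscheme ↘
      Spec (CommRingCat.of k)) :=
    inferInstanceAs (IsProper ((Scheme.IdealSheafData.vanishingIdeal ⟨{x}, hx⟩).subschemeι ≫
      (X ↘ Spec (CommRingCat.of k))))
  haveI := isIntegral_subscheme_point X x hx
  obtain ⟨ι, hfin, V, hcov, hVa, hV⟩ :=
    Groth.Agent.Lib.R2H2.ProperFin.exists_affine_cover_of_isSeparated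
      (X ↘ Spec (CommRingCat.of k))
  obtain ⟨e⟩ := Groth.Agent.Lib.R2H2.AffPushLin.exists_push_linear
    (Scheme.IdealSheafData.vanishingIdeal ⟨{x}, hx⟩).subschemeι V k rfl hcov hV
    (Coh.structureModule (Scheme.IdealSheafData.vanishingIdeal ⟨{x}, hx⟩).subscheme)
    (Groth.Agent.Lib.R2H1.GenusLe.isCoh_structureModule _).1 0
  rw [← e.finrank_eq]
  obtain ⟨Z, hZ⟩ : ∃ Z : Scheme.{u}, Z = (Scheme.IdealSheafData.vanishingIdeal ⟨{x}, hx⟩).subscheme :=
    ⟨_, rfl⟩
  letI := algΓ k ((Scheme.IdealSheafData.vanishingIdeal ⟨{x}, hx⟩).subscheme ↘ Spec (CommRingCat.of k))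
  rw [(hh0LinearEquiv k (Scheme.IdealSheafData.vanishingIdeal ⟨{x}, hx⟩).subscheme).finrank_eq]
  haveI : Module.Finite k Γ((Scheme.IdealSheafData.vanishingIdeal ⟨{x}, hx⟩).subscheme, ⊤) :=
    finite_toGlobal k ((Scheme.IdealSheafData.vanishingIdeal ⟨{x}, hx⟩).subscheme ↘ Spec (CommRingCat.of k))
  exact Module.finrank_pos


variable (k : Type u) [Field k] (X : Scheme.{u}) [X.Over (Spec (CommRingCat.of k))]
    [IsIntegral X] [IsProper (X ↘ (Spec (CommRingCat.of k)))]

/-- a degree one invertible module with a nonzero section vanishing at a closed point `p`: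
twisting down by `p` gives the trivial module, `p` is a rational point, and the section generates
away from `p` -/
theorem core (hdim : topologicalKrullDim X = 1)
    (L : X.Modules) (hL : PicF.IsInvertible L) (hdeg : Curv2.deg k X L 1 = 1)
    (t₀ : Coh.structureModule X ⟶ L) (ht₀ : t₀ ≠ 0) (p : X) (hp : IsClosed ({p} : Set X))
    (hpt : p ∉ CohB1.genLocus L t₀) :
    Nonempty (CohB1.tensorMod L (ClSub.idealMod (Scheme.IdealSheafData.vanishingIdeal ⟨{p}, hp⟩)) ≅
      Coh.structureModule X) ∧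
    Module.finrank k (Coh.HH X
      (ClSub.quotMod (Scheme.IdealSheafData.vanishingIdeal ⟨{p}, hp⟩)) 0) = 1 ∧
    (∀ y : X, y ≠ p → y ∈ CohB1.genLocus L t₀) := by
  haveI := isNoetherian_of_proper k X
  have hQpos := h0_quotMod_point_pos k X p hp
  obtain ⟨D, hDdef⟩ : ∃ D : X.IdealSheafData, D = Scheme.IdealSheafData.vanishingIdeal ⟨{p}, hp⟩ :=
    ⟨_, rfl⟩
  rw [← hDdef] at hQpos ⊢
  have hL1 : FlatMod.IsFinLocFreeOfRank 1 L :=
    Groth.Agent.Lib.Helper23.SecTw.isFinLocFreeOfRank_one_of_isInvertible L hL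
  have hLf : FlatMod.IsFinLocFree L := fun y => by
    obtain ⟨V, hy, e⟩ := hL1 y
    exact ⟨V, 1, hy, e⟩
  have cL := isCoh_of_isInvertible L hL
  have cO := isCoh_structureModule X
  have cQ : Coh.IsCoh (ClSub.quotMod D) :=
    Groth.Agent.S0019.result D.subschemeι _ (isCoh_structureModule _)
  have cI : Coh.IsCoh (ClSub.idealMod D) :=
    Groth.Agent.Lib.R2H2.PdSheaf.isCoh_kernel cO cQ (ClSub.toSubscheme D)
  have hfl := Groth.Agent.Lib.R2H2.PullLF.isFlat_of_isFinLocFree L hLf
  have c₁' : Coh.IsCoh (CohB1.tensorMod L (ClSub.idealMod D)) :=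
    Groth.Agent.Lib.R2H1.BirDeg.isCoh_tensorMod cL cI
  obtain ⟨S, hSdef⟩ : ∃ S : ShortComplex X.Modules,
      S = (idealSeq D).map (DCoh.tensorBi.obj L) := ⟨_, rfl⟩
  have hS : S.ShortExact := by
    rw [hSdef]
    exact Groth.Agent.Lib.R2Lead.TensorExact.shortExact_map_tensorBi L (fun y => hfl y)
      (idealSeq D) (idealSeq_shortExact D)
  have c₁ : Coh.IsCoh S.X₁ := by rw [hSdef]; exact c₁'
  have c₂ : Coh.IsCoh S.X₂ := by
    rw [hSdef]
    exact Groth.Agent.Lib.R2H2.PdSheaf.isCoh_of_iso (Groth.Agent.Lib.Helper21.Dual.rU X.sheaf L).symm cL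
  have c₃ := isCoh_X₃ _ hS c₁ c₂
  -- supports
  have hsuppD : (D.support : Set X) = {p} := by
    rw [hDdef]; exact Scheme.IdealSheafData.coe_support_vanishingIdeal _
  have hdimD : topologicalKrullDim (D.support : Set X) ≤ 0 := by
    rw [hsuppD]
    exact Groth.Agent.Lib.R2H1.H0One.topologicalKrullDim_le_zero_of_subsingleton _
  have hsuppQ : topologicalKrullDim (CohB1.support (ClSub.quotMod D)) ≤ 0 :=
    le_trans (Topology.IsInducing.topologicalKrullDim_le
      (Topology.IsEmbedding.inclusion (support_quotMod_subset D)).isInducing) hdimD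
  have eQ := euler_eq_h0 k X (ClSub.quotMod D) cQ hsuppQ
  have main := euler_tensor_ideal k X D 1 L hL1 cQ hsuppQ c₁'
  have hadd := s1524 k X S hS c₁ c₂ c₃
  have e₂ : Curv2.euler k X S.X₂ = Curv2.euler k X L := by
    rw [hSdef]; exact euler_congr k (Groth.Agent.Lib.Helper21.Dual.rU X.sheaf L)
  have e₁ : Curv2.euler k X S.X₁ = Curv2.euler k X (CohB1.tensorMod L (ClSub.idealMod D)) := by
    rw [hSdef]; rfl
  have hsupp₃ : CohB1.support S.X₃ ⊆ (D.support : Set X) := by
    intro y hy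
    by_contra hcon
    rw [hSdef] at hy
    exact hy (Groth.Agent.Lib.R2H1.LiftZero.stalk_X₃_subsingleton D L y hcon)
  have hdim₃ : topologicalKrullDim (CohB1.support S.X₃) ≤ 0 :=
    le_trans (Topology.IsInducing.topologicalKrullDim_le
      (Topology.IsEmbedding.inclusion hsupp₃).isInducing) hdimD
  have e3 := euler_eq_h0 k X _ c₃ hdim₃
  have h0X₃ : Module.finrank k (Coh.HH X S.X₃ 0) =
      Module.finrank k (Coh.HH X (ClSub.quotMod D) 0) := by
    have : (Module.finrank k (Coh.HH X S.X₃ 0) : ℤ) =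
        (Module.finrank k (Coh.HH X (ClSub.quotMod D) 0) : ℤ) := by
      rw [← e3]
      rw [e₂, e₁] at hadd
      rw [eQ] at main
      push_cast at main
      linarith
    exact_mod_cast this
  -- the section as a map to `L ⊗ O`, vanishing at `p`
  have hvan : ∀ x ∈ D.support, ∃ (U : X.affineOpens) (t : Γ(L, U.1)) (a : Γ(X, U.1)),
      x ∈ U.1 ∧ Groth.Agent.Lib.Helper23.SecTw.sv t₀ U.1 = a • t ∧ a ∈ D.ideal U := by
    intro x hx
    have hxP : x = p := by
      have : x ∈ (D.support : Set X) := hx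
      rw [hsuppD] at this
      exact this
    subst hxP
    rw [hDdef]
    exact exists_vanishing_data L hL t₀ x hp hpt
  obtain ⟨τ, hτ0, hτg, hτgen⟩ : ∃ τ : Coh.structureModule X ⟶ S.X₂, τ ≠ 0 ∧ τ ≫ S.g = 0 ∧
      (∀ y, y ∈ CohB1.genLocus S.X₂ τ → y ∈ CohB1.genLocus L t₀) := by
    subst hSdef
    obtain ⟨σ, hσ⟩ := exists_lift D L hS t₀ hvan
    obtain ⟨τ', hτ'⟩ : ∃ τ' : Coh.structureModule X ⟶ ((idealSeq D).map (DCoh.tensorBi.obj L)).X₂,
        τ' = t₀ ≫ (SecTwist.unitorR L).inv := ⟨_, rfl⟩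
    have hστ : σ ≫ ((idealSeq D).map (DCoh.tensorBi.obj L)).f = τ' := hσ.trans hτ'.symm
    have hback : τ' ≫ (SecTwist.unitorR L).hom = t₀ := by
      have h6 : τ' ≫ (SecTwist.unitorR L).hom =
          (t₀ ≫ (SecTwist.unitorR L).inv) ≫ (SecTwist.unitorR L).hom :=
        congrArg (fun z => z ≫ (SecTwist.unitorR L).hom) hτ'
      refine h6.trans ?_
      rw [Category.assoc]
      exact (congrArg (fun z => t₀ ≫ z) (SecTwist.unitorR L).inv_hom_id).trans (Category.comp_id t₀)
    refine ⟨τ', ?_, ?_, ?_⟩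
    · intro h
      apply ht₀
      rw [← hback, h, zero_comp]
    · rw [← hστ, Category.assoc, ShortComplex.zero, comp_zero]
    · intro y hy
      have h5 := Groth.Agent.Lib.Helper23.AmpleIso.genLocus_comp_iso (SecTwist.unitorR L) τ'
      have h8 : y ∈ CohB1.genLocus L (τ' ≫ (SecTwist.unitorR L).hom) :=
        (congrArg (fun U : X.Opens => y ∈ U) h5).mpr hy
      exact (congrArg (fun z => y ∈ CohB1.genLocus L z) hback).mp h8
  have hX₂ : PicF.IsInvertible S.X₂ := by
    rw [hSdef]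
    exact Groth.Agent.Lib.Helper23.AmpleIso.isInvertible_of_iso
      (Groth.Agent.Lib.Helper21.Dual.rU X.sheaf L).symm hL
  have hO := Groth.Agent.Lib.Helper23.TensorUnit.isInvertible_structureModule X
  haveI : Mono τ := mono_of_ne_zero hO hX₂ τ hτ0
  obtain ⟨hmain, -⟩ := Groth.Agent.Lib.R2H1.CurveDegSec.main k X hdim _ S.X₂ hO hX₂ τ hτ0
  have cT : Coh.IsCoh (cokernel τ) := Groth.Agent.Lib.R2H2.NilFilt.isCoh_cokernel cO c₂ τ
  have hcl : IsClosed (CohB1.support (cokernel τ)) := Groth.Agent.S0020.result X _ cT.2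
  obtain ⟨W, ⟨x, hx⟩, hW⟩ := exists_open_stalk_cokernel hO hX₂ τ hτ0
  have hne : CohB1.support (cokernel τ) ≠ Set.univ := by
    intro h
    have : x ∈ CohB1.support (cokernel τ) := h ▸ Set.mem_univ x
    exact this (hW x hx)
  have hsuppT : topologicalKrullDim (CohB1.support (cokernel τ)) ≤ 0 :=
    dim_le_zero_of_ne_univ hdim.le _ hcl hne
  have eT := euler_eq_h0 k X (cokernel τ) cT hsuppT
  have hT1 : Module.finrank k (Coh.HH X (cokernel τ) 0) = 1 := by
    unfold Curv2.deg at hdeg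
    rw [e₂] at hmain
    push_cast at hdeg
    have : (Module.finrank k (Coh.HH X (cokernel τ) 0) : ℤ) = 1 := by linarith
    exact_mod_cast this
  -- the induced map on cokernels
  obtain ⟨g', hg'⟩ : ∃ g' : cokernel τ ⟶ S.X₃, g' = cokernel.desc τ S.g hτg := ⟨_, rfl⟩
  have hπg : cokernel.π τ ≫ g' = S.g := by rw [hg']; exact cokernel.π_desc _ _ _
  haveI : Epi S.g := hS.epi_g
  haveI : Epi g' := by
    haveI : Epi (cokernel.π τ ≫ g') := by rw [hπg]; infer_instance
    exact epi_of_epi (cokernel.π τ) g'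
  have cK : Coh.IsCoh (kernel g') := Groth.Agent.Lib.R2H2.PdSheaf.isCoh_kernel cT c₃ g'
  let S' : ShortComplex X.Modules := ShortComplex.mk (kernel.ι g') g' (kernel.condition g')
  have hS' : S'.ShortExact :=
    { exact := ShortComplex.exact_kernel g'
      mono_f := inferInstanceAs (Mono (kernel.ι g'))
      epi_g := inferInstanceAs (Epi g') }
  have hadd' := s1524 k X S' hS' cK cT c₃
  have hsuppK : topologicalKrullDim (CohB1.support (kernel g')) ≤ 0 :=
    le_trans (Topology.IsInducing.topologicalKrullDim_le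
      (Topology.IsEmbedding.inclusion (support_subset_of_mono (kernel.ι g'))).isInducing) hsuppT
  have eK := euler_eq_h0 k X (kernel g') cK hsuppK
  have hK0 : Module.finrank k (Coh.HH X (kernel g') 0) = 0 ∧
      Module.finrank k (Coh.HH X (ClSub.quotMod D) 0) = 1 := by
    have h1 : Curv2.euler k X S'.X₂ = Curv2.euler k X (cokernel τ) := rfl
    have h2' : Curv2.euler k X S'.X₁ = Curv2.euler k X (kernel g') := rfl
    have h3 : Curv2.euler k X S'.X₃ = Curv2.euler k X S.X₃ := rfl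
    rw [h1, h2', h3, eK, eT, e3, h0X₃, hT1] at hadd'
    push_cast at hadd'
    omega
  obtain ⟨hK0, hQ1⟩ := hK0
  have hid0 : 𝟙 (kernel g') = 0 := by
    refine Scheme.Modules.hom_ext _ _ fun U => ?_
    ext l
    haveI := subsingleton_sections_of_h0 k X (kernel g') cK hsuppK hK0 U
    exact Subsingleton.elim _ _
  have hzero : kernel.ι g' = 0 := by
    rw [← Category.id_comp (kernel.ι g'), hid0, zero_comp]
  haveI : Mono g' := Abelian.mono_of_kernel_ι_eq_zero g' hzero
  haveI : IsIso g' := isIso_of_mono_of_epi g'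
  -- the two lifts
  haveI : Mono S.f := hS.mono_f
  have hfπ : S.f ≫ cokernel.π τ = 0 := by
    have : (S.f ≫ cokernel.π τ) ≫ g' = 0 ≫ g' := by
      rw [Category.assoc, hπg, S.zero, zero_comp]
    exact (cancel_mono g').mp this
  obtain ⟨ρ, hρ⟩ : ∃ ρ : S.X₁ ⟶ Coh.structureModule X, ρ ≫ τ = S.f :=
    ⟨Abelian.monoLift τ S.f hfπ, Abelian.monoLift_comp τ S.f hfπ⟩
  obtain ⟨σ, hσ⟩ : ∃ σ : Coh.structureModule X ⟶ S.X₁, σ ≫ S.f = τ :=
    ⟨hS.exact.lift τ hτg, hS.exact.lift_f τ hτg⟩
  have h1 : ρ ≫ σ = 𝟙 _ := by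
    rw [← cancel_mono S.f, Category.assoc, hσ, hρ, Category.id_comp]
  have h2' : σ ≫ ρ = 𝟙 _ := by
    rw [← cancel_mono τ, Category.assoc, hρ, hσ, Category.id_comp]
  refine ⟨?_, hQ1, ?_⟩
  · subst hSdef
    exact ⟨⟨ρ, σ, h1, h2'⟩⟩
  · intro y hy
    apply hτgen
    apply mem_genLocus_of_subsingleton_stalk S.X₂ hX₂ τ y
    by_contra hns
    have hy1 : y ∈ CohB1.support (cokernel τ) := hns
    have hy2 : y ∈ CohB1.support S.X₃ := support_subset_of_mono g' hy1
    have hy3 : y ∈ (D.support : Set X) := hsupp₃ hy2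
    rw [hsuppD] at hy3
    exact hy hy3

end Part2

section Part3


open Groth.Agent.Lib.R2H1.PicLaw Groth.Agent.Lib.R2H1.Clifford
open Groth.Agent.Lib.R2H1.PointTwist Groth.Agent.Lib.R2H1.PointTwistB
open Groth.Agent.Lib.R2H1.CurveEuler Groth.Agent.Lib.R2H1.CurveDegSec
  Groth.Agent.Lib.R2H1.EulerAdd Groth.Agent.Lib.R2H2.HHLin Groth.Agent.Lib.R2H2.PnLinRes
  Groth.Agent.Lib.R2H1.GenusLe Groth.Agent.Lib.R2H1.RegPoint Groth.Agent.Lib.R2H1.DegCartier
open Groth.Agent.Lib.R2H2.PnBeilinson Groth.Agent.Lib.R2H1.NonDeg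
open Groth.Agent.Lib.R2H1.InvHom Groth.Agent.Lib.R2H2.DevA Groth.Agent.Lib.R2H1.LiftZero
open Groth.Agent.Lib.R2H1.GenusZero

variable (k : Type u) [Field k] (X : Scheme.{u}) [X.Over (Spec (CommRingCat.of k))]
    [IsIntegral X] [IsProper (X ↘ (Spec (CommRingCat.of k)))]

/-- if `h⁰` drops on twisting down by a closed point then some section generates there
(any ground field, no regularity) -/
theorem exists_mem_genLocus_of_h0_lt' 
    (L : X.Modules) (hL : PicF.IsInvertible L)
    (P : X) (hP : IsClosed ({P} : Set X))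
    (hlt : Module.finrank k (Coh.HH X (CohB1.tensorMod L (ClSub.idealMod
        (Scheme.IdealSheafData.vanishingIdeal ⟨{P}, hP⟩))) 0) <
      Module.finrank k (Coh.HH X L 0)) :
    ∃ s : Coh.structureModule X ⟶ L, P ∈ CohB1.genLocus L s := by
  haveI := isNoetherian_of_proper k X
  by_contra hcon
  push_neg at hcon
  have hL1 : FlatMod.IsFinLocFreeOfRank 1 L :=
    Groth.Agent.Lib.Helper23.SecTw.isFinLocFreeOfRank_one_of_isInvertible L hL
  have hLf : FlatMod.IsFinLocFree L := fun y => by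
    obtain ⟨V, hy, e⟩ := hL1 y
    exact ⟨V, 1, hy, e⟩
  have cL := isCoh_of_isInvertible L hL
  have cO := isCoh_structureModule X
  have cQ : Coh.IsCoh (ClSub.quotMod (Scheme.IdealSheafData.vanishingIdeal ⟨{P}, hP⟩)) :=
    Groth.Agent.S0019.result (Scheme.IdealSheafData.vanishingIdeal ⟨{P}, hP⟩).subschemeι _
      (isCoh_structureModule _)
  have cI : Coh.IsCoh (ClSub.idealMod (Scheme.IdealSheafData.vanishingIdeal ⟨{P}, hP⟩)) :=
    Groth.Agent.Lib.R2H2.PdSheaf.isCoh_kernel cO cQ (ClSub.toSubscheme _)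
  have hfl := Groth.Agent.Lib.R2H2.PullLF.isFlat_of_isFinLocFree L hLf
  have c₁ : Coh.IsCoh ((idealSeq
      (Scheme.IdealSheafData.vanishingIdeal ⟨{P}, hP⟩)).map (DCoh.tensorBi.obj L)).X₁ :=
    Groth.Agent.Lib.R2H1.BirDeg.isCoh_tensorMod cL cI
  have hS : ((idealSeq
      (Scheme.IdealSheafData.vanishingIdeal ⟨{P}, hP⟩)).map (DCoh.tensorBi.obj L)).ShortExact :=
    Groth.Agent.Lib.R2Lead.TensorExact.shortExact_map_tensorBi L (fun y => hfl y)
      (idealSeq _) (idealSeq_shortExact _)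
  have c₂ : Coh.IsCoh ((idealSeq
      (Scheme.IdealSheafData.vanishingIdeal ⟨{P}, hP⟩)).map (DCoh.tensorBi.obj L)).X₂ :=
    Groth.Agent.Lib.R2H2.PdSheaf.isCoh_of_iso (Groth.Agent.Lib.Helper21.Dual.rU X.sheaf L).symm cL
  haveI := finite_HH k X _ c₂ 0
  haveI := finite_HH k X _ c₁ 0
  have hsurj : Function.Surjective (HmapA k ((idealSeq
      (Scheme.IdealSheafData.vanishingIdeal ⟨{P}, hP⟩)).map (DCoh.tensorBi.obj L)).f 0) := by
    intro x₂
    obtain ⟨τ, hτ⟩ := cls_surjective _ x₂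
    have hvan := exists_vanishing_data L hL (τ ≫ (SecTwist.unitorR L).hom) P hP (hcon _)
    obtain ⟨σ', hσ'⟩ := exists_lift (Scheme.IdealSheafData.vanishingIdeal ⟨{P}, hP⟩) L hS
      (τ ≫ (SecTwist.unitorR L).hom) (fun x hx => by
        have hxP : x = P := hx
        rw [hxP]
        exact hvan)
    have hτ' : (τ ≫ (SecTwist.unitorR L).hom) ≫ (SecTwist.unitorR L).inv = τ := by
      rw [Category.assoc]
      exact (congrArg (fun z => τ ≫ z) (SecTwist.unitorR L).hom_inv_id).trans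
        (Category.comp_id τ)
    rw [hτ'] at hσ'
    refine ⟨cls σ', ?_⟩
    rw [HmapA_apply, cls_comp, hσ', hτ]
  have hinj : Function.Injective (HmapA k ((idealSeq
      (Scheme.IdealSheafData.vanishingIdeal ⟨{P}, hP⟩)).map (DCoh.tensorBi.obj L)).f 0) :=
    injective_f_zero k _ hS
  have heq := LinearEquiv.finrank_eq (LinearEquiv.ofBijective _ ⟨hinj, hsurj⟩)
  have hX₂ : Module.finrank k (Coh.HH X ((idealSeq
      (Scheme.IdealSheafData.vanishingIdeal ⟨{P}, hP⟩)).map (DCoh.tensorBi.obj L)).X₂ 0) =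
      Module.finrank k (Coh.HH X L 0) :=
    Groth.Agent.Lib.R2H2.ClosedPnLin.finrank_HH_of_iso k
      (Groth.Agent.Lib.Helper21.Dual.rU X.sheaf L) 0
  have hX₁ : Module.finrank k (Coh.HH X ((idealSeq
      (Scheme.IdealSheafData.vanishingIdeal ⟨{P}, hP⟩)).map (DCoh.tensorBi.obj L)).X₁ 0) =
      Module.finrank k (Coh.HH X (CohB1.tensorMod L (ClSub.idealMod
        (Scheme.IdealSheafData.vanishingIdeal ⟨{P}, hP⟩))) 0) := rfl
  rw [hX₂, hX₁] at heq
  omega


/-- S6541: an integral proper curve with `H¹(O) = 0` carrying a degree one invertible module is the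
projective line -/
theorem s6541 (hdim : topologicalKrullDim X = 1)
    (h1 : Subsingleton (Coh.HH X (Coh.structureModule X) 1))
    (L : X.Modules) (hL : PicF.IsInvertible L) (hdeg : Curv2.deg k X L 1 = 1) :
    ∃ e : X ≅ CohB1.ProjSpace 1 k,
      e.hom ≫ CohB1.ProjSpace.toSpec 1 k = X ↘ (Spec (CommRingCat.of k)) := by
  haveI := isNoetherian_of_proper k X
  haveI : CompactSpace X :=
    QuasiCompact.compactSpace_of_compactSpace (X ↘ Spec (CommRingCat.of k))
  have cL := isCoh_of_isInvertible L hL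
  have cO := isCoh_structureModule X
  have eL := euler_eq_h0_sub_h1 k X hdim.le L cL.1
  have eO := euler_eq_h0_sub_h1 k X hdim.le _ cO.1
  have hO1 : Module.finrank k (Coh.HH X (Coh.structureModule X) 1) = 0 :=
    Module.finrank_zero_of_subsingleton
  have hχ : Curv2.euler k X L = 1 + Curv2.euler k X (Coh.structureModule X) := by
    unfold Curv2.deg at hdeg
    push_cast at hdeg
    linarith
  have hh0 : Module.finrank k (Coh.HH X (Coh.structureModule X) 0) + 1 ≤
      Module.finrank k (Coh.HH X L 0) := by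
    rw [hO1] at eO
    push_cast at eO
    have : (Module.finrank k (Coh.HH X (Coh.structureModule X) 0) : ℤ) + 1 ≤
        (Module.finrank k (Coh.HH X L 0) : ℤ) := by
      have hnn : (0 : ℤ) ≤ (Module.finrank k (Coh.HH X L 1) : ℤ) := Int.natCast_nonneg _
      linarith
    exact_mod_cast this
  obtain ⟨t₀, ht₀⟩ := exists_section_of_pos k X L cL (by omega)
  -- a closed zero of `t₀`
  obtain ⟨p, hp, hpt⟩ : ∃ p : X, IsClosed ({p} : Set X) ∧ p ∉ CohB1.genLocus L t₀ := by
    have hne : ((CohB1.genLocus L t₀ : X.Opens) : Set X)ᶜ.Nonempty := by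
      rw [Set.nonempty_compl]
      intro htop
      have h : CohB1.genLocus L t₀ = ⊤ := by
        ext x
        simp only [Opens.coe_top, Set.mem_univ, iff_true]
        exact htop ▸ trivial
      haveI := isIso_of_genLocus_eq_top L hL t₀ ht₀ h
      have := euler_congr k (X := X) (asIso t₀)
      linarith
    obtain ⟨P, hP, hPc⟩ := (CohB1.genLocus L t₀).isOpen.isClosed_compl.exists_closed_singleton hne
    exact ⟨P, hPc, hP⟩
  obtain ⟨⟨eI⟩, hQ1, hgen⟩ := core k X hdim L hL hdeg t₀ ht₀ p hp hpt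
  have hI0 := Groth.Agent.Lib.R2H2.ClosedPnLin.finrank_HH_of_iso k eI 0
  obtain ⟨t₁, ht₁⟩ := exists_mem_genLocus_of_h0_lt' k X L hL p hp (by rw [hI0]; omega)
  refine Groth.Agent.Lib.R2H1.IsoP1.exists_iso_P1 k X hdim L hL hdeg t₀ t₁ (fun x => ?_)
  by_cases hx : x = p
  · right; rw [hx]; exact ht₁
  · left; exact hgen x hx

end Part3

end Groth.Agent.Lib.R2H1.IsoP1B
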