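import Mathlib
import Groth.Agent.Lib.R2H1IsoP1B
import Groth.Agent.Lib.R2LeadKRR
import Groth.Agent.Lib.R2H2PnEuler
set_option backward.isDefEq.respectTransparency.types false

/-!
helper1 (run 2): more on the projective line criterion. API: h0_structure_le (h0(O) <= h0(O/I) for a nonzero quotient on an integral proper curve), exists_closed_notMem_genLocus' (any field), iso_P1_of_two_le_h0 (deg L = 1 and h0(L) >= 2 imply X iso P1), isIso_unitPush (O_Y -> f_* O_X iso for iso f), exists_deg_one_of_iso, s11573.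
-/

set_option autoImplicit false
set_option linter.style.haveILetI false
set_option linter.unusedSectionVars false
universe u v

open CategoryTheory CategoryTheory.Limits AlgebraicGeometry TopologicalSpace Opposite

namespace Groth.Agent.Lib.R2H1.IsoP1C

section Part1

open Groth.Agent.Lib.R2H1.IsoP1B
open Groth.Agent.Lib.R2H1.PicLaw Groth.Agent.Lib.R2H1.Clifford
open Groth.Agent.Lib.R2H1.PointTwist Groth.Agent.Lib.R2H1.PointTwistB
open Groth.Agent.Lib.R2H1.CurveEuler Groth.Agent.Lib.R2H1.CurveDegSec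
  Groth.Agent.Lib.R2H1.EulerAdd Groth.Agent.Lib.R2H2.HHLin Groth.Agent.Lib.R2H2.PnLinRes
  Groth.Agent.Lib.R2H1.GenusLe Groth.Agent.Lib.R2H1.RegPoint Groth.Agent.Lib.R2H1.DegCartier
open Groth.Agent.Lib.R2H2.PnBeilinson Groth.Agent.Lib.R2H1.NonDeg
open Groth.Agent.Lib.R2H1.InvHom Groth.Agent.Lib.R2H2.DevA Groth.Agent.Lib.R2H1.LiftZero
open Groth.Agent.Lib.R2H1.GenusZero

variable (k : Type u) [Field k] (X : Scheme.{u}) [X.Over (Spec (CommRingCat.of k))]
    [IsIntegral X] [IsProper (X ↘ (Spec (CommRingCat.of k)))]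

/-- global functions inject into the functions on a nonempty closed subscheme -/
theorem h0_structure_le (hdim : topologicalKrullDim X = 1) (D : X.IdealSheafData)
    (hpos : 0 < Module.finrank k (Coh.HH X (ClSub.quotMod D) 0)) :
    Module.finrank k (Coh.HH X (Coh.structureModule X) 0) ≤
      Module.finrank k (Coh.HH X (ClSub.quotMod D) 0) := by
  haveI := isNoetherian_of_proper k X
  have cO := isCoh_structureModule X
  have cQ : Coh.IsCoh (ClSub.quotMod D) :=
    Groth.Agent.S0019.result D.subschemeι _ (isCoh_structureModule _)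
  have hS := idealSeq_shortExact D
  haveI := finite_HH k X _ cO 0
  haveI := finite_HH k X _ cQ 0
  haveI : Module.Finite k (Coh.structureModule X ⟶ Coh.structureModule X) :=
    Module.Finite.equiv (clsEquiv (k := k) (Coh.structureModule X)).symm
  haveI : Module.Finite k (Coh.structureModule X ⟶ (idealSeq D).X₃) :=
    Module.Finite.equiv (clsEquiv (k := k) (ClSub.quotMod D)).symm
  have hO := Groth.Agent.Lib.Helper23.TensorUnit.isInvertible_structureModule X
  have hinj : Function.Injective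
      (Linear.rightComp k (Coh.structureModule X) (idealSeq D).g) := by
    rw [injective_iff_map_eq_zero]
    intro f hf
    have hfg : f ≫ (idealSeq D).g = 0 := hf
    by_contra hne
    obtain ⟨hχ, hiso⟩ := Groth.Agent.Lib.R2H1.CurveDegSec.main k X hdim _ _ hO hO f hne
    have hχ' : Curv2.euler k X (Coh.structureModule X) =
        Curv2.euler k X (Coh.structureModule X) +
          (Module.finrank k (Coh.HH X (cokernel f) 0) : ℤ) := hχ
    haveI : IsIso f := hiso (by
      have : (Module.finrank k (Coh.HH X (cokernel f) 0) : ℤ) = 0 := by linarith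
      exact_mod_cast this)
    haveI := hS.mono_f
    obtain ⟨s, hs⟩ : ∃ s : Coh.structureModule X ⟶ (idealSeq D).X₁, s ≫ (idealSeq D).f = f :=
      ⟨hS.exact.lift f hfg, hS.exact.lift_f f hfg⟩
    haveI : Epi (idealSeq D).f := by
      have h1 : (inv f ≫ s) ≫ (idealSeq D).f = 𝟙 _ := by
        rw [Category.assoc, hs, IsIso.inv_hom_id]
      haveI : Epi ((inv f ≫ s) ≫ (idealSeq D).f) := by rw [h1]; infer_instance
      exact epi_of_epi (inv f ≫ s) _
    have hg0 : (idealSeq D).g = 0 := by
      rw [← cancel_epi (idealSeq D).f, (idealSeq D).zero, comp_zero]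
    haveI := hS.epi_g
    have hz : IsZero (idealSeq D).X₃ := by
      rw [IsZero.iff_id_eq_zero, ← cancel_epi (idealSeq D).g, hg0, zero_comp, zero_comp]
    haveI := Groth.Agent.Lib.R2H2.KoszulShift.subsingleton_HH_of_isZero hz 0
    have h0 : Module.finrank k (Coh.HH X (idealSeq D).X₃ 0) = 0 :=
      Module.finrank_zero_of_subsingleton
    have hpos' : 0 < Module.finrank k (Coh.HH X (idealSeq D).X₃ 0) := hpos
    omega
  have hle := LinearMap.finrank_le_finrank_of_injective hinj
  have h1 : Module.finrank k (Coh.structureModule X ⟶ (idealSeq D).X₂) =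
      Module.finrank k (Coh.HH X (Coh.structureModule X) 0) :=
    (clsEquiv (k := k) (Coh.structureModule X)).finrank_eq
  have h2 : Module.finrank k (Coh.structureModule X ⟶ (idealSeq D).X₃) =
      Module.finrank k (Coh.HH X (ClSub.quotMod D) 0) :=
    (clsEquiv (k := k) (ClSub.quotMod D)).finrank_eq
  rw [h1, h2] at hle
  exact hle


/-- a nonzero section of an invertible module of nonzero degree has a closed zero (any field) -/
theorem exists_closed_notMem_genLocus' (L : X.Modules)
    (hL : PicF.IsInvertible L) (s : Coh.structureModule X ⟶ L) (hs : s ≠ 0)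
    (hdeg : Curv2.deg k X L 1 ≠ 0) :
    ∃ P : X, IsClosed ({P} : Set X) ∧ P ∉ CohB1.genLocus L s := by
  haveI : CompactSpace X :=
    QuasiCompact.compactSpace_of_compactSpace (X ↘ Spec (CommRingCat.of k))
  have hne : ((CohB1.genLocus L s : X.Opens) : Set X)ᶜ.Nonempty := by
    rw [Set.nonempty_compl]
    intro htop
    have h : CohB1.genLocus L s = ⊤ := by
      ext x
      simp only [Opens.coe_top, Set.mem_univ, iff_true]
      exact htop ▸ trivial
    haveI := isIso_of_genLocus_eq_top L hL s hs h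
    apply hdeg
    unfold Curv2.deg
    rw [← euler_congr k (asIso s)]
    ring
  obtain ⟨P, hP, hPc⟩ := (CohB1.genLocus L s).isOpen.isClosed_compl.exists_closed_singleton hne
  exact ⟨P, hPc, hP⟩

/-- an integral proper curve with an invertible module of degree one having two independent
sections is the projective line -/
theorem iso_P1_of_two_le_h0 (hdim : topologicalKrullDim X = 1)
    (L : X.Modules) (hL : PicF.IsInvertible L) (hdeg : Curv2.deg k X L 1 = 1)
    (h2 : 2 ≤ Module.finrank k (Coh.HH X L 0)) :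
    ∃ e : X ≅ CohB1.ProjSpace 1 k,
      e.hom ≫ CohB1.ProjSpace.toSpec 1 k = X ↘ (Spec (CommRingCat.of k)) := by
  haveI := isNoetherian_of_proper k X
  have cL := isCoh_of_isInvertible L hL
  obtain ⟨t₀, ht₀⟩ := exists_section_of_pos k X L cL (by omega)
  obtain ⟨p, hp, hpt⟩ := exists_closed_notMem_genLocus' k X L hL t₀ ht₀ (by rw [hdeg]; norm_num)
  obtain ⟨⟨eI⟩, hQ1, hgen⟩ := core k X hdim L hL hdeg t₀ ht₀ p hp hpt
  have hI0 := Groth.Agent.Lib.R2H2.ClosedPnLin.finrank_HH_of_iso k eI 0
  have hle := h0_structure_le k X hdim (Scheme.IdealSheafData.vanishingIdeal ⟨{p}, hp⟩)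
    (by rw [hQ1]; norm_num)
  rw [hQ1] at hle
  obtain ⟨t₁, ht₁⟩ := exists_mem_genLocus_of_h0_lt' k X L hL p hp (by rw [hI0]; omega)
  refine Groth.Agent.Lib.R2H1.IsoP1.exists_iso_P1 k X hdim L hL hdeg t₀ t₁ (fun x => ?_)
  by_cases hx : x = p
  · right; rw [hx]; exact ht₁
  · left; exact hgen x hx

end Part1

section Part2

open Groth.Agent.Lib.R2H1.IsoP1B Groth.Agent.Lib.R2H1.IsoP1
open Groth.Agent.Lib.R2H1.CurveEuler Groth.Agent.Lib.R2H1.CurveDegSec
  Groth.Agent.Lib.R2H1.EulerAdd Groth.Agent.Lib.R2H2.HHLin Groth.Agent.Lib.R2H2.PnLinRes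
  Groth.Agent.Lib.R2H1.GenusLe Groth.Agent.Lib.R2H1.RegPoint Groth.Agent.Lib.R2H1.DegCartier
open Groth.Agent.Lib.Helper23.Serre Groth.Agent.Lib.Helper23.GenLocus

/-- for an isomorphism `f`, the canonical map `O_Y ⟶ f_* O_X` is an isomorphism -/
theorem isIso_unitPush {X Y : Scheme.{u}} (f : X ⟶ Y) [IsIso f] : IsIso (unitPush f) := by
  rw [Scheme.Modules.Hom.isIso_iff_isIso_app]
  intro W
  rw [ConcreteCategory.isIso_iff_bijective]
  have hb : Function.Bijective (f.app W) := ConcreteCategory.bijective_of_isIso _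
  constructor
  · intro a b hab
    have ha := unitPush_app f W (ofS W a)
    have hb' := unitPush_app f W (ofS W b)
    rw [toS_ofS] at ha hb'
    have h1 : toS (f ⁻¹ᵁ W) (f.app W (ofS W a)) = toS (f ⁻¹ᵁ W) (f.app W (ofS W b)) :=
      ha.symm.trans (hab.trans hb')
    have h2 : f.app W (ofS W a) = f.app W (ofS W b) := congrArg (ofS (f ⁻¹ᵁ W)) h1
    exact congrArg (toS W) (hb.1 h2)
  · intro b
    obtain ⟨a, ha⟩ := hb.2 (ofS (f ⁻¹ᵁ W) b)
    exact ⟨toS W a, (unitPush_app f W a).trans (congrArg (toS (f ⁻¹ᵁ W)) ha)⟩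


open Groth.Agent.Lib.R2Lead.KRR Groth.Agent.Lib.R2H2.PnEuler Groth.Agent.Lib.R2H1.BirDeg

variable (k : Type u) [Field k] (X : Scheme.{u}) [X.Over (Spec (CommRingCat.of k))]
    [IsIntegral X] [IsProper (X ↘ (Spec (CommRingCat.of k)))]

/-- the projective line carries a degree one invertible module with two sections; transported
along an isomorphism -/
theorem exists_deg_one_of_iso (hdim : topologicalKrullDim X = 1)
    (e : X ≅ CohB1.ProjSpace 1 k)
    (he : e.hom ≫ CohB1.ProjSpace.toSpec 1 k = X ↘ (Spec (CommRingCat.of k))) :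
    ∃ L : X.Modules, PicF.IsInvertible L ∧ Curv2.deg k X L 1 = 1 ∧
      2 ≤ Module.finrank k (Coh.HH X L 0) := by
  haveI := isNoetherian_of_proper k X
  haveI := isIntegral_P1k k
  haveI := isProper_P1k k
  have hdimP := dim_P1k k
  haveI := isNoetherian_of_proper k (CohB1.ProjSpace 1 k)
  have hE := isInvertible_twistProjSpace 1 k 1
  have hE1 := Groth.Agent.Lib.Helper23.SecTw.isFinLocFreeOfRank_one_of_isInvertible _ hE
  have hf : e.hom ≫ ((CohB1.ProjSpace 1 k) ↘ Spec (CommRingCat.of k)) =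
      X ↘ Spec (CommRingCat.of k) := he
  have hL := Groth.Agent.Lib.Helper23.PB.isInvertible_pullback e.hom _ hE
  have cL := isCoh_of_isInvertible _ hL
  have cO := isCoh_structureModule X
  -- the degree
  have hd := s1666 k hdimP.le e.hom hf ⊤ (by simp) (by simp) inferInstance 1 _ hE1
  -- Euler characteristics on the projective line
  have cE := isCoh_of_isInvertible _ hE
  have e1 := euler_eq_h0_sub_h1 k (CohB1.ProjSpace 1 k) hdimP.le _ cE.1
  have h01 : Module.finrank k (Coh.HH (CohB1.ProjSpace 1 k) (Twist.twistProjSpace 1 k 1) 0) = 2 :=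
    finrank_HH_nonneg k 1 1
  have h11 : Module.finrank k (Coh.HH (CohB1.ProjSpace 1 k) (Twist.twistProjSpace 1 k 1) 1) = 0 :=
    finrank_HH_zero k 1 1 1 (by omega) (by omega)
  rw [h01, h11] at e1
  obtain ⟨e0⟩ := nonempty_twistProjSpace_zero_iso 1 k
  have c0 := isCoh_of_isInvertible _ (isInvertible_twistProjSpace 1 k 0)
  have e2 := euler_eq_h0_sub_h1 k (CohB1.ProjSpace 1 k) hdimP.le _ c0.1
  have h00 : Module.finrank k (Coh.HH (CohB1.ProjSpace 1 k) (Twist.twistProjSpace 1 k 0) 0) = 1 :=
    finrank_HH_nonneg k 1 0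
  have h10 : Module.finrank k (Coh.HH (CohB1.ProjSpace 1 k) (Twist.twistProjSpace 1 k 0) 1) = 0 :=
    finrank_HH_zero k 1 0 1 (by omega) (by omega)
  rw [h00, h10] at e2
  have e3 := euler_congr k (X := CohB1.ProjSpace 1 k) e0
  -- the structure sheaf of `X`
  haveI := isIso_unitPush e.hom
  have e4 := euler_push k e.hom hf (Coh.structureModule X) cO.1
  have e5 := euler_congr k (X := CohB1.ProjSpace 1 k) (asIso (unitPush e.hom))
  have hdegL : Curv2.deg k X ((Scheme.Modules.pullback e.hom).obj (Twist.twistProjSpace 1 k 1)) 1 = 1 := by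
    rw [hd]
    unfold Curv2.deg
    push_cast at e1 e2 ⊢
    linarith
  refine ⟨_, hL, hdegL, ?_⟩
  have eL := euler_eq_h0_sub_h1 k X hdim.le _ cL.1
  unfold Curv2.deg at hdegL
  push_cast at hdegL e1 e2
  have hnn : (0 : ℤ) ≤ (Module.finrank k (Coh.HH X
    ((Scheme.Modules.pullback e.hom).obj (Twist.twistProjSpace 1 k 1)) 1) : ℤ) := Int.natCast_nonneg _
  have : (2 : ℤ) ≤ (Module.finrank k (Coh.HH X
    ((Scheme.Modules.pullback e.hom).obj (Twist.twistProjSpace 1 k 1)) 0) : ℤ) := by linarith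
  exact_mod_cast this


omit [IsProper (X ↘ (Spec (CommRingCat.of k)))] in
/-- S11573 -/
theorem s11573
    (hprojX : ∃ (N : ℕ) (i : X ⟶ CohB1.ProjSpace N k), IsClosedImmersion i ∧
      i ≫ CohB1.ProjSpace.toSpec N k = X ↘ (Spec (CommRingCat.of k)))
    (hdim : topologicalKrullDim X = 1) :
    (∃ e : X ≅ CohB1.ProjSpace 1 k,
        e.hom ≫ CohB1.ProjSpace.toSpec 1 k = X ↘ (Spec (CommRingCat.of k))) ↔
      ∃ L : X.Modules, PicF.IsInvertible L ∧ Curv2.deg k X L 1 = 1 ∧
        2 ≤ Module.finrank k (Coh.HH X L 0) := by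
  obtain ⟨N, i, hi, hcomp⟩ := hprojX
  haveI : IsProper (X ↘ Spec (CommRingCat.of k)) := by
    rw [← hcomp]
    haveI := hi
    haveI := Groth.Agent.S9705.isProper_projSpace_toSpec N k
    infer_instance
  constructor
  · rintro ⟨e, he⟩
    exact exists_deg_one_of_iso k X hdim e he
  · rintro ⟨L, hL, hdeg, h2⟩
    exact iso_P1_of_two_le_h0 k X hdim L hL hdeg h2

end Part2

end Groth.Agent.Lib.R2H1.IsoP1C
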