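import Mathlib
import Groth.Agent.Lib.R2H1IsoP1C
import Groth.Agent.Lib.Helper8CurveEt
import Groth.Agent.Lib.Helper11SmInt
import Groth.Agent.Lib.R2H1InvExists
import Groth.Agent.Lib.R2H1PicLaw
set_option backward.isDefEq.respectTransparency.types false

/-!
helper1 (run 2): rational points on curves and the projective line. API: isDVR_of_normal_closed, ker_eq_vanishingIdeal (kernel of a morphism from a reduced scheme onto a closed point), h0_quotMod_ker (h0(O/ker j) = dim of functions on the source of a closed immersion j), h0_quotMod_section (rational point: = 1), mem_genLocus_of_exact, exists_inverse_point (inverse of the ideal of a closed DVR point, with degree), exists_section_of_trivialisation, eq_of_ker_eq, s7820.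
-/

set_option autoImplicit false
set_option linter.style.haveILetI false
set_option linter.unusedSectionVars false
universe u v

open CategoryTheory CategoryTheory.Limits AlgebraicGeometry TopologicalSpace Opposite

namespace Groth.Agent.Lib.R2H1.IsoP1D

section Part1

/-- the local ring of an integral curve at a closed point with integrally closed local ring is a
discrete valuation ring -/
theorem isDVR_of_normal_closed {X : Scheme.{u}} [IsIntegral X] [IsLocallyNoetherian X]
    (hdim : topologicalKrullDim X = 1) (x : X) (hx : IsClosed ({x} : Set X))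
    (hn : IsIntegrallyClosed (X.presheaf.stalk x)) :
    IsDiscreteValuationRing (X.presheaf.stalk x) := by
  have hd := Groth.Agent.Lib.Helper8CurveEt.ringKrullDim_stalk_eq_one hdim x hx
  have hne := Groth.Agent.Lib.Helper8CurveEt.maximalIdeal_ne_bot hdim x hx
  haveI : Ring.KrullDimLE 1 (X.presheaf.stalk x) := Ring.krullDimLE_iff.mpr hd.le
  have h3 : IsIntegrallyClosed (X.presheaf.stalk x) ∧
      ∀ P : Ideal (X.presheaf.stalk x), P ≠ ⊥ → P.IsPrime →
        P = IsLocalRing.maximalIdeal (X.presheaf.stalk x) := by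
    refine ⟨hn, fun P hP hP' => ?_⟩
    exact IsLocalRing.eq_maximalIdeal (hP'.isMaximal_of_ne_bot hP)
  haveI : IsPrincipalIdealRing (X.presheaf.stalk x) :=
    ((tfae_of_isNoetherianRing_of_isLocalRing_of_isDomain
      (X.presheaf.stalk x)).out 3 0).mp h3
  exact { not_a_field' := hne }

/-- the kernel of a morphism from a reduced scheme with image a closed point is the vanishing
ideal of this point -/
theorem ker_eq_vanishingIdeal {X Y : Scheme.{u}} (j : Y ⟶ X) [IsReduced Y] (p : X)
    (hp : IsClosed ({p} : Set X)) (hrange : Set.range j = {p}) :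
    j.ker = Scheme.IdealSheafData.vanishingIdeal ⟨{p}, hp⟩ := by
  rw [← Scheme.IdealSheafData.map_bot, ← Scheme.nilradical_eq_bot,
    ← Scheme.IdealSheafData.vanishingIdeal_top, Scheme.IdealSheafData.map_vanishingIdeal]
  congr 1
  ext z
  simp only [Closeds.coe_closure, Closeds.coe_top, Set.image_univ, Closeds.coe_mk]
  rw [hrange, hp.closure_eq]


open Groth.Agent.Lib.H9SteinH0 Groth.Agent.Lib.H9SteinConn Groth.Agent.Lib.H9NormFin in
/-- the sections of the structure sheaf of a closed subscheme, computed on the source of a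
closed immersion -/
theorem h0_quotMod_ker (k : Type u) [Field k] (X : Scheme.{u})
    [X.Over (Spec (CommRingCat.of k))] [IsProper (X ↘ (Spec (CommRingCat.of k)))]
    {Y : Scheme.{u}} (j : Y ⟶ X) [IsClosedImmersion j] :
    letI := algΓ k (j ≫ (X ↘ Spec (CommRingCat.of k)))
    Module.finrank k (Coh.HH X (ClSub.quotMod j.ker) 0) = Module.finrank k Γ(Y, ⊤) := by
  letI := algΓ k (j ≫ (X ↘ Spec (CommRingCat.of k)))
  haveI : CompactSpace X :=
    QuasiCompact.compactSpace_of_compactSpace (X ↘ Spec (CommRingCat.of k))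
  letI : j.ker.subscheme.Over (Spec (CommRingCat.of k)) :=
    ⟨j.ker.subschemeι ≫ (X ↘ Spec (CommRingCat.of k))⟩
  obtain ⟨ι, hfin, V, hcov, hVa, hV⟩ :=
    Groth.Agent.Lib.R2H2.ProperFin.exists_affine_cover_of_isSeparated
      (X ↘ Spec (CommRingCat.of k))
  obtain ⟨e⟩ := Groth.Agent.Lib.R2H2.AffPushLin.exists_push_linear
    j.ker.subschemeι V k rfl hcov hV
    (Coh.structureModule j.ker.subscheme)
    (Groth.Agent.Lib.R2H1.GenusLe.isCoh_structureModule _).1 0
  rw [← e.finrank_eq]
  letI := algΓ k (j.ker.subscheme ↘ Spec (CommRingCat.of k))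
  rw [(hh0LinearEquiv k j.ker.subscheme).finrank_eq]
  haveI : IsIso j.toImage := inferInstance
  haveI : IsIso j.toImage.appTop := inferInstanceAs (IsIso (j.toImage.app ⊤))
  have hbij : Function.Bijective j.toImage.appTop.hom :=
    ConcreteCategory.bijective_of_isIso j.toImage.appTop
  have hcomp : j.toImage ≫ j.ker.subschemeι = j := j.toImage_imageι
  let L : Γ(j.ker.subscheme, ⊤) →ₗ[k] Γ(Y, ⊤) :=
    { toFun := j.toImage.appTop.hom
      map_add' := map_add _
      map_smul' := fun r z => by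
        simp only [RingHom.id_apply]
        rw [Algebra.smul_def, Algebra.smul_def, map_mul]
        congr 1
        change j.toImage.appTop.hom (((j.ker.subschemeι ≫ (X ↘ Spec (CommRingCat.of k))).appTop.hom.comp
          (Scheme.ΓSpecIso (CommRingCat.of k)).inv.hom) r) =
          ((j ≫ (X ↘ Spec (CommRingCat.of k))).appTop.hom.comp
            (Scheme.ΓSpecIso (CommRingCat.of k)).inv.hom) r
        conv_rhs => rw [← hcomp]
        rfl }
  exact (LinearEquiv.ofBijective L hbij).finrank_eq


open Groth.Agent.Lib.H9SteinH0 Groth.Agent.Lib.H9SteinConn Groth.Agent.Lib.H9NormFin in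
/-- a rational point has a one-dimensional space of functions -/
theorem h0_quotMod_section (k : Type u) [Field k] (X : Scheme.{u})
    [X.Over (Spec (CommRingCat.of k))] [IsProper (X ↘ (Spec (CommRingCat.of k)))]
    (x : Spec (CommRingCat.of k) ⟶ X) (hx : x ≫ (X ↘ Spec (CommRingCat.of k)) = 𝟙 _) :
    Module.finrank k (Coh.HH X (ClSub.quotMod x.ker) 0) = 1 := by
  haveI : IsClosedImmersion x := by
    haveI : IsClosedImmersion (x ≫ (X ↘ Spec (CommRingCat.of k))) := by rw [hx]; infer_instance
    exact IsClosedImmersion.of_comp x (X ↘ Spec (CommRingCat.of k))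
  rw [h0_quotMod_ker k X x]
  letI := algΓ k (x ≫ (X ↘ Spec (CommRingCat.of k)))
  have hbij : Function.Bijective (algebraMap k Γ(Spec (CommRingCat.of k), ⊤)) := by
    change Function.Bijective ((x ≫ (X ↘ Spec (CommRingCat.of k))).appTop.hom.comp
      (Scheme.ΓSpecIso (CommRingCat.of k)).inv.hom)
    rw [hx]
    exact ConcreteCategory.bijective_of_isIso (Scheme.ΓSpecIso (CommRingCat.of k)).inv
  have := (LinearEquiv.ofBijective (Algebra.linearMap k Γ(Spec (CommRingCat.of k), ⊤)) hbij).finrank_eq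
  rw [← this, Module.finrank_self]

end Part1

section Part2

section GenEx
open Groth.Agent.Lib.Helper23.SecTw Groth.Agent.Lib.Helper23.GenLocus Groth.Agent.Lib.Helper6 Groth.Agent.Lib.R2H1.IsoP1B
/-- a point where the third term of an exact sequence `O → L → Q` has trivial stalk lies in the
generating locus of the section -/
theorem mem_genLocus_of_exact {X : Scheme.{u}} (L : X.Modules)
    (hL : PicF.IsInvertible L) (s : Coh.structureModule X ⟶ L) [Mono s] {Q : X.Modules}
    (g : L ⟶ Q) (w : s ≫ g = 0) (hex : (ShortComplex.mk s g w).Exact) (y : X)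
    (h : Subsingleton (Q.presheaf.stalk y)) : y ∈ CohB1.genLocus L s := by
  obtain ⟨W, e, hyW, he⟩ := exists_gen L hL y
  have hz : Q.presheaf.germ W y hyW (g.app W e) = Q.presheaf.germ W y hyW 0 :=
    Subsingleton.elim _ _
  obtain ⟨W₁, hyW₁, iU, iV, hres⟩ := TopCat.Presheaf.germ_eq _ y hyW hyW _ _ hz
  have hle : W₁ ≤ W := leOfHom iU
  have h0 : g.app W₁ (res L hle e) = 0 := by
    rw [Groth.Agent.Lib.R2H1.InvHom.app_res]
    have h5 : res Q hle (g.app W e) = 0 := by
      refine hres.trans ?_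
      exact map_zero _
    exact h5
  obtain ⟨a, ha⟩ := exists_section_lift (ShortComplex.mk s g w) hex W₁ (res L hle e) h0
  have he₁ : IsGen L W₁ (res L hle e) := he.mono hle
  have h1 : s.app W₁ (toS W₁ (ofS W₁ a)) = ofS W₁ a • sv s W₁ := app_toS s W₁ _
  rw [toS_ofS] at h1
  have ha' : s.app W₁ a = res L hle e := ha
  rw [ha', sv_eq_coef_smul s he₁, ← mul_smul] at h1
  have h2 : ofS W₁ a * coef he₁ le_rfl (sv s W₁) = 1 := by
    apply (he₁ W₁ le_rfl).1
    simp only []
    rw [res_self, one_smul]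
    exact h1.symm
  have hu : IsUnit (coef he₁ le_rfl (sv s W₁)) := IsUnit.of_mul_eq_one _ (by rw [mul_comm]; exact h2)
  have h3 := genLocus_inf_eq_coef s he₁
  rw [X.basicOpen_of_isUnit hu] at h3
  have : y ∈ CohB1.genLocus L s ⊓ W₁ := by rw [h3]; exact hyW₁
  exact this.1

end GenEx



open Groth.Agent.Lib.R2H1.IsoP1B Groth.Agent.Lib.R2H1.IsoP1 Groth.Agent.Lib.R2H1.IsoP1C
open Groth.Agent.Lib.R2H1.PicLaw
open Groth.Agent.Lib.R2H1.CurveEuler Groth.Agent.Lib.R2H1.CurveDegSec
  Groth.Agent.Lib.R2H1.EulerAdd Groth.Agent.Lib.R2H2.HHLin Groth.Agent.Lib.R2H2.PnLinRes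
  Groth.Agent.Lib.R2H1.GenusLe Groth.Agent.Lib.R2H1.RegPoint Groth.Agent.Lib.R2H1.DegCartier
open Groth.Agent.Lib.R2H1.InvHom Groth.Agent.Lib.R2H2.DevA Groth.Agent.Lib.R2H1.LiftZero

variable (k : Type u) [Field k] (X : Scheme.{u}) [X.Over (Spec (CommRingCat.of k))]
    [IsIntegral X] [IsProper (X ↘ (Spec (CommRingCat.of k)))]

/-- the inverse of the ideal sheaf of a closed point with DVR local ring, and its degree -/
theorem exists_inverse_point (hdim : topologicalKrullDim X = 1) (p : X)
    (hp : IsClosed ({p} : Set X)) [IsDiscreteValuationRing (X.presheaf.stalk p)] :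
    ∃ L : X.Modules, PicF.IsInvertible L ∧
      Nonempty (CohB1.tensorMod L
        (ClSub.idealMod (Scheme.IdealSheafData.vanishingIdeal ⟨{p}, hp⟩)) ≅
          Coh.structureModule X) ∧
      Curv2.deg k X L 1 = (Module.finrank k (Coh.HH X
        (ClSub.quotMod (Scheme.IdealSheafData.vanishingIdeal ⟨{p}, hp⟩)) 0) : ℤ) := by
  haveI := isNoetherian_of_proper k X
  obtain ⟨D, hDdef⟩ : ∃ D : X.IdealSheafData, D = Scheme.IdealSheafData.vanishingIdeal ⟨{p}, hp⟩ :=
    ⟨_, rfl⟩
  have hD : BlowUp.IsEffCartierIdeal D := by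
    rw [hDdef]; exact isEffCartier_vanishingIdeal_singleton X p hp
  rw [← hDdef]
  have hI : PicF.IsInvertible (ClSub.idealMod D) :=
    Groth.Agent.Helper18Cart.isInvertible_of_isEffCartier D hD
  obtain ⟨L, hL, ⟨e⟩⟩ := Groth.Agent.Lib.R2H1.InvExists.exists_inverse _ hI
  have eI : CohB1.tensorMod L (ClSub.idealMod D) ≅ Coh.structureModule X :=
    (commI L (ClSub.idealMod D)) ≪≫ e
  refine ⟨L, hL, ⟨eI⟩, ?_⟩
  have hL1 : FlatMod.IsFinLocFreeOfRank 1 L :=
    Groth.Agent.Lib.Helper23.SecTw.isFinLocFreeOfRank_one_of_isInvertible L hL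
  have cQ : Coh.IsCoh (ClSub.quotMod D) :=
    Groth.Agent.S0019.result D.subschemeι _ (isCoh_structureModule _)
  have hsuppD : (D.support : Set X) = {p} := by
    rw [hDdef]; exact Scheme.IdealSheafData.coe_support_vanishingIdeal _
  have hdimD : topologicalKrullDim (D.support : Set X) ≤ 0 := by
    rw [hsuppD]
    exact Groth.Agent.Lib.R2H1.H0One.topologicalKrullDim_le_zero_of_subsingleton _
  have hsuppQ : topologicalKrullDim (CohB1.support (ClSub.quotMod D)) ≤ 0 :=
    le_trans (Topology.IsInducing.topologicalKrullDim_le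
      (Topology.IsEmbedding.inclusion (support_quotMod_subset D)).isInducing) hdimD
  have eQ := euler_eq_h0 k X (ClSub.quotMod D) cQ hsuppQ
  have c₁' : Coh.IsCoh (CohB1.tensorMod L (ClSub.idealMod D)) :=
    Groth.Agent.Lib.R2H2.PdSheaf.isCoh_of_iso eI.symm (isCoh_structureModule X)
  have main := euler_tensor_ideal k X D 1 L hL1 cQ hsuppQ c₁'
  have e1 := euler_congr k eI
  unfold Curv2.deg
  rw [main, e1, eQ]
  push_cast
  ring


/-- a trivialisation of `L ⊗ I_D` gives a section of `L` generating away from the support of `D` -/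
theorem exists_section_of_trivialisation {X : Scheme.{u}} [IsIntegral X] (D : X.IdealSheafData)
    (L : X.Modules) (hL : PicF.IsInvertible L)
    (a : Coh.structureModule X ≅ CohB1.tensorMod L (ClSub.idealMod D)) :
    ∃ t : Coh.structureModule X ⟶ L, ∀ y : X, y ∉ D.support → y ∈ CohB1.genLocus L t := by
  have hL1 : FlatMod.IsFinLocFreeOfRank 1 L :=
    Groth.Agent.Lib.Helper23.SecTw.isFinLocFreeOfRank_one_of_isInvertible L hL
  have hLf : FlatMod.IsFinLocFree L := fun y => by
    obtain ⟨V, hy, e⟩ := hL1 y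
    exact ⟨V, 1, hy, e⟩
  have hfl := Groth.Agent.Lib.R2H2.PullLF.isFlat_of_isFinLocFree L hLf
  obtain ⟨S, hSdef⟩ : ∃ S : ShortComplex X.Modules,
      S = (idealSeq D).map (DCoh.tensorBi.obj L) := ⟨_, rfl⟩
  have hS : S.ShortExact := by
    rw [hSdef]
    exact Groth.Agent.Lib.R2Lead.TensorExact.shortExact_map_tensorBi L (fun y => hfl y)
      (idealSeq D) (idealSeq_shortExact D)
  have hX₂ : PicF.IsInvertible S.X₂ := by
    rw [hSdef]
    exact Groth.Agent.Lib.Helper23.AmpleIso.isInvertible_of_iso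
      (Groth.Agent.Lib.Helper21.Dual.rU X.sheaf L).symm hL
  obtain ⟨a', ha'⟩ : ∃ a' : Coh.structureModule X ≅ S.X₁, a' = hSdef ▸ a := ⟨_, rfl⟩
  obtain ⟨τ, hτ⟩ : ∃ τ : Coh.structureModule X ⟶ S.X₂, τ = a'.hom ≫ S.f := ⟨_, rfl⟩
  haveI := hS.mono_f
  haveI : Mono τ := by rw [hτ]; infer_instance
  have w : τ ≫ S.g = 0 := by rw [hτ, Category.assoc, S.zero, comp_zero]
  have hex : (ShortComplex.mk τ S.g w).Exact := by
    refine (ShortComplex.exact_iff_of_iso
      (ShortComplex.isoMk a' (Iso.refl _) (Iso.refl _) ?_ ?_ :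
        ShortComplex.mk τ S.g w ≅ S)).mpr hS.exact
    · simp [hτ]
    · simp
  have key : ∀ y : X, y ∉ D.support → y ∈ CohB1.genLocus S.X₂ τ := by
    intro y hy
    refine mem_genLocus_of_exact S.X₂ hX₂ τ S.g w hex y ?_
    rw [hSdef]
    exact Groth.Agent.Lib.R2H1.LiftZero.stalk_X₃_subsingleton D L y hy
  subst hSdef
  refine ⟨τ ≫ (SecTwist.unitorR L).hom, fun y hy => ?_⟩
  have h5 := Groth.Agent.Lib.Helper23.AmpleIso.genLocus_comp_iso (SecTwist.unitorR L) τ
  exact (congrArg (fun U : X.Opens => y ∈ U) h5).mpr (key y hy)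

/-- two sections of a separated morphism which are closed immersions with the same ideal
coincide -/
theorem eq_of_ker_eq {S C : Scheme.{u}} (q : C ⟶ S) (x y : S ⟶ C) [IsClosedImmersion x]
    (hx : x ≫ q = 𝟙 _) (hy : y ≫ q = 𝟙 _) (h : x.ker = y.ker) : x = y := by
  have h1 := IsClosedImmersion.lift_fac x y h.le
  have h2 : IsClosedImmersion.lift x y h.le = 𝟙 _ := by
    have := congrArg (fun z => z ≫ q) h1
    simp only [Category.assoc, hx, hy, Category.comp_id] at this
    exact this
  rw [h2, Category.id_comp] at h1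
  exact h1


/-- S7820 -/
theorem s7820 (k : Type u) [Field k] {C : Scheme.{u}} (p : C ⟶ Spec (CommRingCat.of k))
    [IsProper p] [ConnectedSpace C] (hN : Pi1.IsNormalScheme C) (hC : topologicalKrullDim C = 1)
    (x y : Spec (CommRingCat.of k) ⟶ C) (hx : x ≫ p = 𝟙 _) (hy : y ≫ p = 𝟙 _) (hxy : x ≠ y)
    (hlin : Nonempty (ClSub.idealMod x.ker ≅ ClSub.idealMod y.ker)) :
    ∃ e : C ≅ CohB1.ProjSpace 1 k, e.hom ≫ CohB1.ProjSpace.toSpec 1 k = p := by
  letI : C.Over (Spec (CommRingCat.of k)) := ⟨p⟩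
  haveI : IsProper (C ↘ Spec (CommRingCat.of k)) := ‹IsProper p›
  haveI := isNoetherian_of_proper k C
  haveI : IsIntegral C :=
    Groth.Agent.Lib.Helper11SmInt.isIntegral_of_connected_of_isDomain_stalk (fun z => (hN z).1)
  haveI : IsClosedImmersion x := by
    haveI : IsClosedImmersion (x ≫ p) := by rw [hx]; infer_instance
    exact IsClosedImmersion.of_comp x p
  haveI : IsClosedImmersion y := by
    haveI : IsClosedImmersion (y ≫ p) := by rw [hy]; infer_instance
    exact IsClosedImmersion.of_comp y p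
  obtain ⟨pt, hpt⟩ : ∃ pt : Spec (CommRingCat.of k), pt = IsLocalRing.closedPoint k := ⟨_, rfl⟩
  have huniq : ∀ a : Spec (CommRingCat.of k), a = pt := fun a =>
    @Subsingleton.elim (PrimeSpectrum k) inferInstance a pt
  have hrx : Set.range x = {x pt} := by
    ext z
    constructor
    · rintro ⟨a, rfl⟩
      rw [huniq a]; rfl
    · rintro rfl
      exact ⟨pt, rfl⟩
  have hry : Set.range y = {y pt} := by
    ext z
    constructor
    · rintro ⟨a, rfl⟩
      rw [huniq a]; rfl
    · rintro rfl
      exact ⟨pt, rfl⟩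
  have hpx : IsClosed ({x pt} : Set C) := hrx ▸ x.isClosedEmbedding.isClosed_range
  have hpy : IsClosed ({y pt} : Set C) := hry ▸ y.isClosedEmbedding.isClosed_range
  have hkx := ker_eq_vanishingIdeal x (x pt) hpx hrx
  have hky := ker_eq_vanishingIdeal y (y pt) hpy hry
  haveI := isDVR_of_normal_closed hC (x pt) hpx (hN _).2
  obtain ⟨L, hL, ⟨eI⟩, hdegL⟩ := exists_inverse_point k C hC (x pt) hpx
  rw [← hkx] at eI hdegL
  rw [h0_quotMod_section k C x hx] at hdegL
  obtain ⟨hlin⟩ := hlin
  obtain ⟨t₀, ht₀⟩ := exists_section_of_trivialisation x.ker L hL eI.symm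
  obtain ⟨t₁, ht₁⟩ := exists_section_of_trivialisation y.ker L hL
    (eI.symm ≪≫ (DCoh.tensorBi.obj L).mapIso hlin)
  refine exists_iso_P1 k C hC L hL (by exact_mod_cast hdegL) t₀ t₁ (fun z => ?_)
  by_cases hz : z ∈ x.ker.support
  · right
    apply ht₁
    intro hz'
    apply hxy
    have h1 : z ∈ (x.ker.support : Set C) := hz
    have h2 : z ∈ (y.ker.support : Set C) := hz'
    rw [hkx, Scheme.IdealSheafData.coe_support_vanishingIdeal] at h1
    rw [hky, Scheme.IdealSheafData.coe_support_vanishingIdeal] at h2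
    have h3 : x pt = y pt := (Set.mem_singleton_iff.mp h1).symm.trans (Set.mem_singleton_iff.mp h2)
    have hker : x.ker = y.ker := by
      rw [hkx, hky]
      exact congrArg Scheme.IdealSheafData.vanishingIdeal (Closeds.ext (by simp [h3]))
    exact eq_of_ker_eq p x y hx hy hker
  · left
    exact ht₀ z hz

end Part2

end Groth.Agent.Lib.R2H1.IsoP1D
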