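import Mathlib
import Groth.Agent.Lib.R2H1IsoP1D
import Groth.Agent.Lib.Helper11SepPts
import Groth.Agent.Lib.Helper5GenSmooth
import Groth.Agent.Lib.Helper20SmoothDescSch
import Groth.Agent.Lib.Helper6SmRegSch
import Groth.Agent.Lib.R2LeadSmoothPSB
set_option backward.isDefEq.respectTransparency.types false

/-!
helper1 (run 2): genus zero curves over separably closed fields. API: exists_smooth_rational_point (geometrically reduced integral scheme lfp over a separably closed field has a rational point with regular local ring), iso_P1_of_regular_rational_point (H1(O)=0 and a regular rational point give P1), s7834.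
-/

set_option autoImplicit false
set_option linter.style.haveILetI false
set_option linter.unusedSectionVars false
universe u v

open CategoryTheory CategoryTheory.Limits AlgebraicGeometry TopologicalSpace Opposite

namespace Groth.Agent.Lib.R2H1.IsoP1E

section Part1

open Groth.Agent.Lib.R2H1.IsoP1B Groth.Agent.Lib.R2H1.IsoP1 Groth.Agent.Lib.R2H1.IsoP1C
  Groth.Agent.Lib.R2H1.IsoP1D
open Groth.Agent.Lib.R2H1.CurveEuler Groth.Agent.Lib.R2H1.CurveDegSec
  Groth.Agent.Lib.R2H1.EulerAdd Groth.Agent.Lib.R2H2.HHLin Groth.Agent.Lib.R2H2.PnLinRes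
  Groth.Agent.Lib.R2H1.GenusLe Groth.Agent.Lib.R2H1.RegPoint Groth.Agent.Lib.R2H1.DegCartier

/-- a geometrically reduced integral scheme locally of finite type over a separably closed field
has a rational point in its smooth locus -/
theorem exists_smooth_rational_point (k : Type u) [Field k] [IsSepClosed k] (X : Scheme.{u})
    [X.Over (Spec (CommRingCat.of k))] [IsIntegral X]
    [LocallyOfFinitePresentation (X ↘ Spec (CommRingCat.of k))]
    [GeometricallyReduced (X ↘ Spec (CommRingCat.of k))] :
    ∃ x : Spec (CommRingCat.of k) ⟶ X, x ≫ (X ↘ Spec (CommRingCat.of k)) = 𝟙 _ ∧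
      IsRegularLocalRing (X.presheaf.stalk (x (IsLocalRing.closedPoint k))) := by
  haveI : IsDominant (X ↘ Spec (CommRingCat.of k)) := by
    constructor
    have hsurj : Function.Surjective (X ↘ Spec (CommRingCat.of k)) := by
      intro a
      obtain ⟨z⟩ := (inferInstance : Nonempty X)
      exact ⟨z, @Subsingleton.elim (PrimeSpectrum k) inferInstance _ _⟩
    exact hsurj.denseRange
  have hdense := Groth.Agent.Lib.Helper5.GenSmooth.dense_smoothLocus_of_geometricallyReduced X
    (Spec (CommRingCat.of k)) (X ↘ Spec (CommRingCat.of k)) inferInstance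
  obtain ⟨x₀, hx₀⟩ := hdense.nonempty
  obtain ⟨U, hx₀U, hU⟩ := Groth.Agent.Lib.Helper20.FlatDesc.exists_smooth_nbhd
    (X ↘ Spec (CommRingCat.of k)) x₀ hx₀
  haveI := hU
  haveI : Smooth (Over.mk (U.ι ≫ (X ↘ Spec (CommRingCat.of k)))).hom := hU
  obtain ⟨pp, -⟩ := Groth.Agent.Lib.Helper11SepPts.exists_point_mem_open k k
    (X := Over.mk (U.ι ≫ (X ↘ Spec (CommRingCat.of k)))) ⊤ ⟨x₀, hx₀U⟩ trivial
  have hw : pp.left ≫ (U.ι ≫ (X ↘ Spec (CommRingCat.of k))) =
      Spec.map (CommRingCat.ofHom (algebraMap k k)) := Over.w pp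
  have hid : Spec.map (CommRingCat.ofHom (algebraMap k k)) = 𝟙 (Spec (CommRingCat.of k)) := by
    rw [Algebra.algebraMap_self]
    exact Spec.map_id _
  refine ⟨pp.left ≫ U.ι, ?_, ?_⟩
  · rw [Category.assoc, hw, hid]
  · haveI := Groth.Agent.Lib.Helper6.SmRegSch.isRegularLocalRing_stalk_of_smooth_over_field k U
      (U.ι ≫ (X ↘ Spec (CommRingCat.of k))) (pp.left (IsLocalRing.closedPoint k))
    exact IsRegularLocalRing.of_ringEquiv
      (asIso (U.ι.stalkMap (pp.left (IsLocalRing.closedPoint k)))).commRingCatIsoToRingEquiv.symm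


/-- an integral proper curve with `H¹(O) = 0` and a regular rational point is the projective
line -/
theorem iso_P1_of_regular_rational_point (k : Type u) [Field k] (X : Scheme.{u})
    [X.Over (Spec (CommRingCat.of k))] [IsIntegral X] [IsProper (X ↘ (Spec (CommRingCat.of k)))]
    (hdim : topologicalKrullDim X = 1)
    (h1 : Subsingleton (Coh.HH X (Coh.structureModule X) 1))
    (x : Spec (CommRingCat.of k) ⟶ X) (hx : x ≫ (X ↘ Spec (CommRingCat.of k)) = 𝟙 _)
    (hreg : IsRegularLocalRing (X.presheaf.stalk (x (IsLocalRing.closedPoint k)))) :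
    ∃ e : X ≅ CohB1.ProjSpace 1 k,
      e.hom ≫ CohB1.ProjSpace.toSpec 1 k = X ↘ (Spec (CommRingCat.of k)) := by
  haveI := isNoetherian_of_proper k X
  haveI : IsClosedImmersion x := by
    haveI : IsClosedImmersion (x ≫ (X ↘ Spec (CommRingCat.of k))) := by rw [hx]; infer_instance
    exact IsClosedImmersion.of_comp x (X ↘ Spec (CommRingCat.of k))
  obtain ⟨pt, hpt⟩ : ∃ pt : Spec (CommRingCat.of k), pt = IsLocalRing.closedPoint k := ⟨_, rfl⟩
  rw [← hpt] at hreg
  have huniq : ∀ a : Spec (CommRingCat.of k), a = pt := fun a =>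
    @Subsingleton.elim (PrimeSpectrum k) inferInstance a pt
  have hrx : Set.range x = {x pt} := by
    ext z
    constructor
    · rintro ⟨a, rfl⟩
      rw [huniq a]; rfl
    · rintro rfl
      exact ⟨pt, rfl⟩
  have hpx : IsClosed ({x pt} : Set X) := hrx ▸ x.isClosedEmbedding.isClosed_range
  have hkx := ker_eq_vanishingIdeal x (x pt) hpx hrx
  haveI := hreg
  haveI : IsDiscreteValuationRing (X.presheaf.stalk (x pt)) :=
    Groth.Agent.Lib.R2LeadSmoothPSB.isDVR_of_regular_dim_one _
      (Groth.Agent.Lib.Helper8CurveEt.ringKrullDim_stalk_eq_one hdim (x pt) hpx)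
  obtain ⟨L, hL, -, hdegL⟩ := exists_inverse_point k X hdim (x pt) hpx
  rw [← hkx, h0_quotMod_section k X x hx] at hdegL
  exact s6541 k X hdim h1 L hL (by exact_mod_cast hdegL)

/-- S7834 -/
theorem s7834 (k : Type u) [Field k] [IsSepClosed k] (X : Scheme.{u})
    [X.Over (Spec (CommRingCat.of k))]
    [IsProper (X ↘ (Spec (CommRingCat.of k)))]
    [GeometricallyIntegral (X ↘ (Spec (CommRingCat.of k)))]
    (hdim : topologicalKrullDim X = 1) (hg : Curv2.genus k X = 0) :
    ∃ e : X ≅ CohB1.ProjSpace 1 k,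
      e.hom ≫ CohB1.ProjSpace.toSpec 1 k = X ↘ (Spec (CommRingCat.of k)) := by
  haveI : IsIntegral X :=
    (‹GeometricallyIntegral (X ↘ (Spec (CommRingCat.of k)))›).geometrically_isIntegral
      (𝟙 _) (𝟙 X) (X ↘ Spec (CommRingCat.of k)) IsPullback.of_id_fst
  haveI := isNoetherian_of_proper k X
  haveI : LocallyOfFinitePresentation (X ↘ Spec (CommRingCat.of k)) :=
    LocallyOfFinitePresentation.iff_locallyOfFiniteType.mpr inferInstance
  obtain ⟨x, hx, hreg⟩ := exists_smooth_rational_point k X
  have cO := isCoh_structureModule X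
  haveI := finite_HH k X _ cO 1
  have h1 : Subsingleton (Coh.HH X (Coh.structureModule X) 1) :=
    Module.finrank_zero_iff.mp hg
  exact iso_P1_of_regular_rational_point k X hdim h1 x hx hreg

end Part1

end Groth.Agent.Lib.R2H1.IsoP1E
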