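import Mathlib
import Groth.Agent.Lib.R2H1IsoP1E
import Groth.Agent.Lib.R2H1DegTensor
set_option backward.isDefEq.respectTransparency.types false

/-!
helper1 (run 2): residue degrees and the group of degrees. API: fromSpecResidueField_appTop_ΓSpecIso, h0_quotMod_point_eq (h0(O/I_x) = [k(x):k] for a closed point x), degSubgroup (degrees of invertible modules on an integral proper curve), s6542.
-/

set_option autoImplicit false
set_option linter.style.haveILetI false
set_option linter.unusedSectionVars false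
universe u v

open CategoryTheory CategoryTheory.Limits AlgebraicGeometry TopologicalSpace Opposite

namespace Groth.Agent.Lib.R2H1.IsoP1F

section Part1

theorem fromSpecResidueField_appTop_ΓSpecIso {X : Scheme.{u}} (x : X) :
    (X.fromSpecResidueField x).appTop ≫ (Scheme.ΓSpecIso (X.residueField x)).hom =
      X.presheaf.germ ⊤ x trivial ≫ X.residue x := by
  rw [Scheme.fromSpecResidueField, Scheme.Hom.comp_appTop, Category.assoc,
    Scheme.ΓSpecIso_naturality, Scheme.fromSpecStalk_appTop]
  simp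


attribute [local instance] Curv2.resAlgebra

open Groth.Agent.Lib.R2H1.IsoP1D

open Groth.Agent.Lib.H9SteinH0 Groth.Agent.Lib.H9SteinConn Groth.Agent.Lib.H9NormFin in
/-- the functions on a closed point form the residue field -/
theorem h0_quotMod_point_eq (k : Type u) [Field k] (X : Scheme.{u})
    [X.Over (Spec (CommRingCat.of k))] [IsProper (X ↘ (Spec (CommRingCat.of k)))]
    (x : X) (hx : IsClosed ({x} : Set X)) :
    Module.finrank k (Coh.HH X
      (ClSub.quotMod (Scheme.IdealSheafData.vanishingIdeal ⟨{x}, hx⟩)) 0) =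
      Module.finrank k (X.residueField x) := by
  haveI : IsClosedImmersion (X.fromSpecResidueField x) :=
    IsClosedImmersion.of_isPreimmersion _ (by rw [Scheme.range_fromSpecResidueField]; exact hx)
  have hk := ker_eq_vanishingIdeal (X.fromSpecResidueField x) x hx
    (Scheme.range_fromSpecResidueField x)
  rw [← hk, h0_quotMod_ker k X (X.fromSpecResidueField x)]
  letI := algΓ k (X.fromSpecResidueField x ≫ (X ↘ Spec (CommRingCat.of k)))
  have hbij : Function.Bijective (Scheme.ΓSpecIso (X.residueField x)).hom.hom :=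
    ConcreteCategory.bijective_of_isIso (Scheme.ΓSpecIso (X.residueField x)).hom
  let L : Γ(Spec (X.residueField x), ⊤) →ₗ[k] X.residueField x :=
    { toFun := (Scheme.ΓSpecIso (X.residueField x)).hom.hom
      map_add' := map_add _
      map_smul' := fun r z => by
        simp only [RingHom.id_apply]
        rw [Algebra.smul_def, Algebra.smul_def, map_mul]
        congr 1
        have h1 := congrArg (fun φ => φ.hom ((X ↘ Spec (CommRingCat.of k)).appTop.hom
          ((Scheme.ΓSpecIso (CommRingCat.of k)).inv.hom r)))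
          (fromSpecResidueField_appTop_ΓSpecIso x)
        exact h1 }
  exact (LinearEquiv.ofBijective L hbij).finrank_eq


open Groth.Agent.Lib.R2H1.IsoP1B Groth.Agent.Lib.R2H1.IsoP1 Groth.Agent.Lib.R2H1.IsoP1C
open Groth.Agent.Lib.R2H1.CurveEuler Groth.Agent.Lib.R2H1.CurveDegSec
  Groth.Agent.Lib.R2H1.EulerAdd Groth.Agent.Lib.R2H1.GenusLe Groth.Agent.Lib.R2H1.DegCartier

variable (k : Type u) [Field k] (X : Scheme.{u}) [X.Over (Spec (CommRingCat.of k))]
    [IsIntegral X] [IsProper (X ↘ (Spec (CommRingCat.of k)))]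

/-- the degrees of invertible modules on an integral proper curve form a subgroup of `ℤ` -/
noncomputable def degSubgroup (hdim : topologicalKrullDim X = 1) : AddSubgroup ℤ where
  carrier := {d | ∃ L : X.Modules, PicF.IsInvertible L ∧ Curv2.deg k X L 1 = d}
  zero_mem' := ⟨Coh.structureModule X,
    Groth.Agent.Lib.Helper23.TensorUnit.isInvertible_structureModule X, by
      unfold Curv2.deg; push_cast; ring⟩
  add_mem' := by
    rintro a b ⟨L, hL, rfl⟩ ⟨M, hM, rfl⟩
    refine ⟨CohB1.tensorMod L M, Groth.Agent.Lib.Helper23.SecTw.isInvertible_tensorMod hL hM, ?_⟩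
    have h := Groth.Agent.Lib.R2H1.DegTensor.s7637 k X hdim.le 1 1 L M
      (Groth.Agent.Lib.Helper23.SecTw.isFinLocFreeOfRank_one_of_isInvertible L hL)
      (Groth.Agent.Lib.Helper23.SecTw.isFinLocFreeOfRank_one_of_isInvertible M hM)
    have h' : Curv2.deg k X (CohB1.tensorMod L M) 1 =
        1 * Curv2.deg k X M 1 + 1 * Curv2.deg k X L 1 := h
    rw [h']
    ring
  neg_mem' := by
    rintro a ⟨L, hL, rfl⟩
    obtain ⟨M, hM, ⟨e⟩⟩ := Groth.Agent.Lib.R2H1.InvExists.exists_inverse L hL
    refine ⟨M, hM, ?_⟩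
    have h := Groth.Agent.Lib.R2H1.DegTensor.s7637 k X hdim.le 1 1 L M
      (Groth.Agent.Lib.Helper23.SecTw.isFinLocFreeOfRank_one_of_isInvertible L hL)
      (Groth.Agent.Lib.Helper23.SecTw.isFinLocFreeOfRank_one_of_isInvertible M hM)
    have h' : Curv2.deg k X (CohB1.tensorMod L M) 1 =
        1 * Curv2.deg k X M 1 + 1 * Curv2.deg k X L 1 := h
    have h0 : Curv2.deg k X (CohB1.tensorMod L M) 1 = 0 := by
      unfold Curv2.deg
      rw [euler_congr k e]
      push_cast; ring
    rw [h0] at h'
    linarith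

/-- S6542 -/
theorem s6542 (hdim : topologicalKrullDim X = 1)
    (h1 : Subsingleton (Coh.HH X (Coh.structureModule X) 1))
    (s : Finset X) (hcl : ∀ x ∈ s, IsClosed ({x} : Set X))
    (hn : ∀ x ∈ s, IsIntegrallyClosed (X.presheaf.stalk x))
    (hgcd : s.gcd (fun x => Module.finrank k (X.residueField x)) = 1) :
    ∃ e : X ≅ CohB1.ProjSpace 1 k,
      e.hom ≫ CohB1.ProjSpace.toSpec 1 k = X ↘ (Spec (CommRingCat.of k)) := by
  haveI := isNoetherian_of_proper k X
  have hmem : ∀ x ∈ s, (Module.finrank k (X.residueField x) : ℤ) ∈ degSubgroup k X hdim := by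
    intro x hxs
    haveI := isDVR_of_normal_closed hdim x (hcl x hxs) (hn x hxs)
    obtain ⟨L, hL, -, hdegL⟩ := exists_inverse_point k X hdim x (hcl x hxs)
    rw [h0_quotMod_point_eq k X x (hcl x hxs)] at hdegL
    exact ⟨L, hL, hdegL⟩
  obtain ⟨a, ha⟩ := Int.subgroup_cyclic (degSubgroup k X hdim)
  have hdvd : ∀ x ∈ s, a.natAbs ∣ Module.finrank k (X.residueField x) := by
    intro x hxs
    have h2 := hmem x hxs
    rw [ha, AddSubgroup.mem_closure_singleton] at h2
    obtain ⟨n, hn'⟩ := h2
    have : a ∣ (Module.finrank k (X.residueField x) : ℤ) := ⟨n, by rw [← hn', smul_eq_mul, mul_comm]⟩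
    exact Int.natAbs_dvd_natAbs.mpr this
  have h3 : a.natAbs ∣ 1 := by
    rw [← hgcd]
    exact Finset.dvd_gcd hdvd
  have h4 : a.natAbs = 1 := Nat.dvd_one.mp h3
  have h5 : (1 : ℤ) ∈ degSubgroup k X hdim := by
    rw [ha, AddSubgroup.mem_closure_singleton]
    rcases Int.natAbs_eq a with h | h
    · exact ⟨1, by rw [one_smul, h, h4]; rfl⟩
    · exact ⟨-1, by rw [neg_smul, one_smul, h, h4]; simp⟩
  obtain ⟨L, hL, hdeg⟩ := h5
  exact s6541 k X hdim h1 L hL hdeg

end Part1

end Groth.Agent.Lib.R2H1.IsoP1F
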