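import Groth.Agent.Lib.R2H2PnDualCoh
import Groth.Agent.Lib.R2H2PnTwEquiv
import Groth.Agent.Lib.R2H2DualExtGen
import Groth.Agent.Lib.R2H2PnSerre
import Groth.Agent.Lib.Helper27SerreGen4

/-!
# Serre duality on `P^n_k` for coherent modules: `Ext^i(F, ω) ≅ H^{n-i}(F)^*` (helper2, round 2)
-/

set_option autoImplicit false
set_option linter.unusedSectionVars false
universe u

namespace Groth.Agent.Lib.R2H2.PnDualExt

open MvPolynomial CategoryTheory CategoryTheory.Limits Opposite AlgebraicGeometry Abelian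
open Groth.Agent.Lib.R2H2.HHLin Groth.Agent.Lib.R2H2.DualRep Groth.Agent.Lib.R2H2.PnFinite
  Groth.Agent.Lib.R2H2.PnDual Groth.Agent.Lib.R2H2.DualExtGen Groth.Agent.Lib.R2H2.PnTwEquiv
  Groth.Agent.Lib.Helper23.QCohLocal Groth.Agent.Lib.Helper23.FinType

attribute [local instance] Abelian.hasFiniteBiproducts

section Epi

variable (n : ℕ) (R : Type u) [CommRing R]

local notation "PX" => CohB1.ProjSpace n R

/-- every coherent module on `P^n_R` is a quotient of `O(-q)^r` for some `q ≥ 1` -/
theorem exists_epi_neg (F : (PX).Modules) (hF : Coh.IsCoh F) :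
    ∃ (q : ℕ) (_ : 1 ≤ q) (r : ℕ)
      (p : (⨁ fun _ : Fin r => Twist.twistProjSpace n R (-(q : ℤ))) ⟶ F), Epi p := by
  have key : ∀ T : ℤ → (PX).Modules, T = (fun d => Otw R n d) →
      ∃ (q : ℕ) (_ : 1 ≤ q) (r : ℕ) (p : (⨁ fun _ : Fin r => T (-(q : ℤ))) ⟶ F), Epi p := by
    intro T hT
    subst hT
    let F' : (Proj (CohB1.polyGrading n R)).Modules := F
    have i1 : F'.IsQuasicoherent := hF.1
    have i2 : SheafOfModules.IsFiniteType (R := (Proj (CohB1.polyGrading n R)).ringCatSheaf) F' :=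
      hF.2
    obtain ⟨n₀, hn₀⟩ := Groth.Agent.Lib.Helper27GrTildeSect.exists_epi_twist
      (CohB1.polyGrading n R) 1 (fun i : Fin (n + 1) => (X i : MvPolynomial (Fin (n + 1)) R))
      (Groth.Agent.Lib.Helper27PnChart.X_mem_one n R)
      (fun y => Groth.Agent.Lib.Helper27PnSections.exists_X_not_mem n R y) Nat.one_pos F'
    obtain ⟨r, p, hp⟩ := hn₀ (max n₀ 1) (le_max_left _ _) (-((max n₀ 1 : ℕ) : ℤ)) (by
      push_cast
      ring)
    refine ⟨max n₀ 1, le_max_right _ _, r, ?_⟩
    let f : Fin r → (PX).Modules := fun _ => Otw R n (-((max n₀ 1 : ℕ) : ℤ))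
    let p' : (∐ f) ⟶ F := p
    have hp' : Epi p' := hp
    exact ⟨(biproduct.isoCoproduct f).hom ≫ p', epi_comp _ _⟩
  exact key (fun d => Twist.twistProjSpace n R d) (funext fun d => twist_eq R n d)

end Epi

section Main

variable (k : Type u) [Field k] (n : ℕ) [HasExt.{u} (CohB1.ProjSpace n k).Modules]

local notation "PX" => CohB1.ProjSpace n k
local notation "ωX" => Twist.twistProjSpace n k (-((n : ℤ) + 1))

/-- the dimension statement of Serre duality in degree `i` -/
def Good (i : ℕ) (F : (PX).Modules) : Prop :=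
  Module.Finite k (Ext F ωX i) ∧
    (∀ j : ℕ, i + j = n → Module.finrank k (Ext F ωX i) = Module.finrank k (Coh.HH PX F j)) ∧
    (n < i → Module.finrank k (Ext F ωX i) = 0)

theorem good_zero (F : (PX).Modules) (hF : Coh.IsCoh F) : Good k n 0 F := by
  obtain ⟨t, ht⟩ := Groth.Agent.Lib.R2H2.PnDualCoh.main k n
  have e1 : Ext F ωX 0 ≃ₗ[k] (F ⟶ ωX) := Ext.linearEquiv₀
  have e2 : (F ⟶ ωX) ≃ₗ[k] Module.Dual k (Coh.HH PX F n) := dualityEquiv _ (ht F hF)
  have hfin : Module.Finite k (Coh.HH PX F n) := finite_HH n k F hF n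
  have hfinD : Module.Finite k (Module.Dual k (Coh.HH PX F n)) := inferInstance
  have hfinE : Module.Finite k (Ext F ωX 0) := Module.Finite.equiv (e1.trans e2).symm
  refine ⟨hfinE, ?_, fun h => absurd h (Nat.not_lt_zero n)⟩
  intro j hj
  have hj' : j = n := by omega
  subst hj'
  rw [LinearEquiv.finrank_eq (e1.trans e2), Subspace.dual_finrank_eq]

/-- the coherence of a finite direct sum of twisting sheaves -/
theorem isCoh_biproduct_twist {r : ℕ} (d : Fin r → ℤ) :
    Coh.IsCoh (⨁ fun j : Fin r => Twist.twistProjSpace n k (d j)) :=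
  ⟨isQuasicoherent_biproduct _ (fun j => isQCoh_twist n k (d j)),
    isFiniteType_biproduct _ (fun j => isQCoh_twist n k (d j))
      (fun j => isFiniteType_twist n k (d j))⟩

theorem good_succ (i : ℕ) (ih : ∀ F : (PX).Modules, Coh.IsCoh F → Good k n i F)
    (F : (PX).Modules) (hF : Coh.IsCoh F) : Good k n (i + 1) F := by
  obtain ⟨q, hq, r, p, hp⟩ := exists_epi_neg n k F hF
  let f : Fin r → (PX).Modules := fun _ => Twist.twistProjSpace n k (-(q : ℤ))
  have hE : Coh.IsCoh (⨁ f) := isCoh_biproduct_twist k n (fun _ => -(q : ℤ))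
  have hEq : (⨁ f : (PX).Modules).IsQuasicoherent := hE.1
  have hMq : F.IsQuasicoherent := hF.1
  have hKq : (kernel p).IsQuasicoherent := isQuasicoherent_kernel p
  have hmono : Mono (kernel.ι p) := equalizer.ι_mono
  have hKf : SheafOfModules.IsFiniteType (R := (PX).ringCatSheaf) (kernel p) :=
    @isFiniteType_of_mono PX _ _ _ (kernel.ι p) hmono hEq hE.2 hKq
  have hK : Coh.IsCoh (kernel p) := ⟨hKq, hKf⟩
  let S : ShortComplex (PX).Modules := ShortComplex.mk (kernel.ι p) p (kernel.condition p)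
  have hS : S.ShortExact :=
    { exact := ShortComplex.exact_kernel p
      mono_f := hmono
      epi_g := hp }
  -- vanishing for `E`
  have hV1 : ∀ j : ℕ, 1 ≤ j → Subsingleton (Ext S.X₂ ωX j) := by
    intro j hj
    have e := Ext.biproductAddEquiv (biproduct.isBilimit f) ωX j
    have hsub : ∀ a : Fin r, Subsingleton (Ext (f a) ωX j) := fun a =>
      subsingleton_ext_twist n k (-(q : ℤ)) (-((n : ℤ) + 1)) j (by omega) (by
        intro h
        have := h.2
        omega)
    have : Subsingleton (∀ a : Fin r, Ext (f a) ωX j) :=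
      ⟨fun x y => _root_.funext fun a => (hsub a).elim _ _⟩
    exact e.toEquiv.subsingleton
  have hV2 : ∀ j : ℕ, j ≠ n → Subsingleton (Coh.HH PX S.X₂ j) := by
    intro j hj
    exact Groth.Agent.Lib.R2H2.PnSerre.subsingleton_HH_biproduct f j (fun a =>
      subsingleton_HH_twist n k (-(q : ℤ)) j (by
        intro h
        have := h.2
        omega) (fun h => hj h.1))
  have hV3 : ∀ (M : (PX).Modules), M.IsQuasicoherent → ∀ j : ℕ, n < j →
      Subsingleton (Coh.HH PX M j) := by
    intro M hM j hj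
    have hq : Coh.IsQCoh M := hM
    exact Groth.Agent.S0022.result n k M j hj
  have hfinH : ∀ (M : (PX).Modules), Coh.IsCoh M → ∀ j : ℕ, Module.Finite k (Coh.HH PX M j) :=
    fun M hM j => finite_HH n k M hM j
  rcases Nat.eq_zero_or_pos i with hi | hi
  · -- the case `i + 1 = 1`
    subst hi
    obtain ⟨f3, g3, -⟩ := ih F hF
    obtain ⟨f2, g2, -⟩ := ih (⨁ f) hE
    obtain ⟨f1, g1, -⟩ := ih (kernel p) hK
    have f3' : Module.Finite k (Ext S.X₃ ωX 0) := f3
    have f2' : Module.Finite k (Ext S.X₂ ωX 0) := f2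
    have f1' : Module.Finite k (Ext S.X₁ ωX 0) := f1
    obtain ⟨hfin, hcount⟩ := ext_four_term (k := k) hS ωX (hV1 1 le_rfl)
    have g3' := g3 n (zero_add n)
    have g2' := g2 n (zero_add n)
    have g1' := g1 n (zero_add n)
    refine ⟨hfin, ?_, ?_⟩
    · intro j hj
      have hn : n = j + 1 := by omega
      have c3 : Module.Finite k (Coh.HH PX S.X₃ j) := hfinH F hF j
      have c1 : Module.Finite k (Coh.HH PX S.X₁ (j + 1)) := hfinH (kernel p) hK (j + 1)
      have c2 : Module.Finite k (Coh.HH PX S.X₂ (j + 1)) := hfinH (⨁ f) hE (j + 1)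
      obtain ⟨-, hc⟩ := hh_four_term (k := k) S hS j (hV2 j (by omega))
        (hV3 (kernel p) hKq (j + 1 + 1) (by omega))
      have g3'' : Module.finrank k (Ext S.X₃ ωX 0) = Module.finrank k (Coh.HH PX S.X₃ (j + 1)) :=
        g3 (j + 1) (by omega)
      have g2'' : Module.finrank k (Ext S.X₂ ωX 0) = Module.finrank k (Coh.HH PX S.X₂ (j + 1)) :=
        g2 (j + 1) (by omega)
      have g1'' : Module.finrank k (Ext S.X₁ ωX 0) = Module.finrank k (Coh.HH PX S.X₁ (j + 1)) :=
        g1 (j + 1) (by omega)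
      change Module.finrank k (Ext S.X₃ ωX (0 + 1)) = Module.finrank k (Coh.HH PX S.X₃ j)
      have hcount' : Module.finrank k (Ext S.X₃ ωX (0 + 1)) + Module.finrank k (Ext S.X₂ ωX 0) =
        Module.finrank k (Ext S.X₁ ωX 0) + Module.finrank k (Ext S.X₃ ωX 0) := hcount
      omega
    · intro hn
      have hn0 : n = 0 := by omega
      have c3 : Module.Finite k (Coh.HH PX S.X₃ 0) := hfinH F hF 0
      have c1 : Module.Finite k (Coh.HH PX S.X₁ 0) := hfinH (kernel p) hK 0
      have c2 : Module.Finite k (Coh.HH PX S.X₂ 0) := hfinH (⨁ f) hE 0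
      have hc := hh_three_term (k := k) S hS (hV3 (kernel p) hKq 1 (by omega))
      have g3'' : Module.finrank k (Ext S.X₃ ωX 0) = Module.finrank k (Coh.HH PX S.X₃ 0) :=
        g3 0 (by omega)
      have g2'' : Module.finrank k (Ext S.X₂ ωX 0) = Module.finrank k (Coh.HH PX S.X₂ 0) :=
        g2 0 (by omega)
      have g1'' : Module.finrank k (Ext S.X₁ ωX 0) = Module.finrank k (Coh.HH PX S.X₁ 0) :=
        g1 0 (by omega)
      change Module.finrank k (Ext S.X₃ ωX (0 + 1)) = 0
      have hcount' : Module.finrank k (Ext S.X₃ ωX (0 + 1)) + Module.finrank k (Ext S.X₂ ωX 0) =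
        Module.finrank k (Ext S.X₁ ωX 0) + Module.finrank k (Ext S.X₃ ωX 0) := hcount
      omega
  · -- the case `i ≥ 1`
    obtain ⟨e⟩ := nonempty_ext_shift (k := k) hS ωX i (hV1 i hi) (hV1 (i + 1) (by omega))
    obtain ⟨f1, g1, z1⟩ := ih (kernel p) hK
    have f1' : Module.Finite k (Ext S.X₁ ωX i) := f1
    have hfin : Module.Finite k (Ext S.X₃ ωX (i + 1)) := Module.Finite.equiv e
    have hrank : Module.finrank k (Ext S.X₃ ωX (i + 1)) = Module.finrank k (Ext S.X₁ ωX i) :=
      (LinearEquiv.finrank_eq e).symm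
    refine ⟨hfin, ?_, ?_⟩
    · intro j hj
      obtain ⟨e'⟩ := nonempty_hh_shift (k := k) S hS j (hV2 j (by omega)) (hV2 (j + 1) (by omega))
      have h1 : Module.finrank k (Ext S.X₁ ωX i) = Module.finrank k (Coh.HH PX S.X₁ (j + 1)) :=
        g1 (j + 1) (by omega)
      have h2 : Module.finrank k (Coh.HH PX S.X₃ j) = Module.finrank k (Coh.HH PX S.X₁ (j + 1)) :=
        LinearEquiv.finrank_eq e'
      change Module.finrank k (Ext S.X₃ ωX (i + 1)) = Module.finrank k (Coh.HH PX S.X₃ j)
      omega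
    · intro hn
      change Module.finrank k (Ext S.X₃ ωX (i + 1)) = 0
      rw [hrank]
      by_cases hni : n < i
      · exact z1 hni
      · have hni' : i = n := by omega
        have h1 : Module.finrank k (Ext S.X₁ ωX i) = Module.finrank k (Coh.HH PX S.X₁ 0) :=
          g1 0 (by omega)
        rw [h1]
        have hsub2 : Subsingleton (Coh.HH PX S.X₂ 0) := hV2 0 (by omega)
        have hinj : Function.Injective (HmapL S.f 0) := injective_HmapL_zero S.f
        have hsub1 : Subsingleton (Coh.HH PX S.X₁ 0) := hinj.subsingleton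
        exact Module.finrank_zero_of_subsingleton

theorem good_all : ∀ (i : ℕ) (F : (PX).Modules), Coh.IsCoh F → Good k n i F := by
  intro i
  induction i with
  | zero => exact fun F hF => good_zero k n F hF
  | succ i ih => exact fun F hF => good_succ k n i ih F hF

/-- **Serre duality on `P^n_k`**: `Ext^i(F, ω) ≅ H^{n-i}(F)^*` for `i ≤ n`, and `Ext^i(F, ω) = 0`
for `i > n` -/
theorem main (F : (PX).Modules) (hF : Coh.IsCoh F) :
    (∀ i : ℕ, i ≤ n → Nonempty (Ext F ωX i ≃ₗ[k] Module.Dual k (Coh.HH PX F (n - i)))) ∧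
      ∀ i : ℕ, n < i → Subsingleton (Ext F ωX i) := by
  constructor
  · intro i hi
    obtain ⟨h1, h2, -⟩ := good_all k n i F hF
    have hfin : Module.Finite k (Coh.HH PX F (n - i)) := finite_HH n k F hF (n - i)
    have hfinD : Module.Finite k (Module.Dual k (Coh.HH PX F (n - i))) := inferInstance
    apply FiniteDimensional.nonempty_linearEquiv_of_finrank_eq
    rw [Subspace.dual_finrank_eq]
    exact h2 (n - i) (by omega)
  · intro i hi
    obtain ⟨h1, -, h3⟩ := good_all k n i F hF
    exact (Module.finrank_eq_zero_iff_of_free k _).mp (h3 hi)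

/-- the vanishing criterion -/
theorem subsingleton_iff (F : (PX).Modules) (hF : Coh.IsCoh F) (i : ℕ) (hi : i ≤ n) :
    Subsingleton (Ext F ωX i) ↔ Subsingleton (Coh.HH PX F (n - i)) := by
  obtain ⟨h1, h2, -⟩ := good_all k n i F hF
  have hfin : Module.Finite k (Coh.HH PX F (n - i)) := finite_HH n k F hF (n - i)
  rw [← Module.finrank_eq_zero_iff_of_free k, ← Module.finrank_eq_zero_iff_of_free k,
    h2 (n - i) (by omega)]

end Main

end Groth.Agent.Lib.R2H2.PnDualExt
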