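import Groth.Agent.Lib.R2H2PnMulSurj
import Groth.Agent.Lib.R2H2PnDualExt
import Groth.Agent.Lib.R2H2PnTwEquiv
import Groth.Agent.Lib.Helper23SecTw3
import Groth.Agent.Lib.Helper23Restr
import Groth.Agent.Lib.Helper1StalkTensorA

/-!
# Global generation of regular sheaves on `P^n_R` (helper2, round 2)
-/

set_option autoImplicit false
universe u

namespace Groth.Agent.Lib.R2H2.PnGG

open CategoryTheory CategoryTheory.Limits AlgebraicGeometry TopologicalSpace Opposite
  MonoidalCategory
open Groth.Agent.Lib.R2H2.HHLin Groth.Agent.Lib.R2H2.PnSerre Groth.Agent.Lib.R2H2.PnMulSurj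
open Groth.Agent.Lib.Helper6 Groth.Agent.Lib.Helper23.SecTw Groth.Agent.Lib.Helper23.GenLocus

section General

variable {X : Scheme.{u}}

/-- the presheaf map `M ⊗ N ⟶ M' ⊗ N` on global sections -/
noncomputable abbrev preTopL {M M' : X.Modules} (φ : M ⟶ M') (N : X.Modules) :=
  ((PresheafOfModules.toPresheaf _).map
    ((show CohB1.toPMod M ⟶ CohB1.toPMod M' from φ.val) ▷ (CohB1.toPMod N))).app (op ⊤)

theorem tsTop_naturality_left {M M' : X.Modules} (φ : M ⟶ M') (N : X.Modules)
    (s : ((CohB1.tensorPre M N).presheaf.obj (op ⊤) : AddCommGrpCat.{u})) :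
    (abMap ((twR N).map φ)).hom.app (op ⊤) (tsTop M N s) = tsTop M' N (preTopL φ N s) := by
  have h := toSheafify_naturality (Opens.grothendieckTopology X)
    ((PresheafOfModules.toPresheaf _).map
      ((show CohB1.toPMod M ⟶ CohB1.toPMod M' from φ.val) ▷ (CohB1.toPMod N)))
  have h2 := congrArg (fun η => (η.app (op ⊤)) s) h
  exact h2.symm

theorem preTopL_eq_zero {M M' : X.Modules} (φ : M ⟶ M') (N : X.Modules)
    (h : ∀ m : Γ(M, ⊤), φ.app ⊤ m = 0)
    (s : ((CohB1.tensorPre M N).presheaf.obj (op ⊤) : AddCommGrpCat.{u})) :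
    preTopL φ N s = 0 := by
  change ((show CohB1.toPMod M ⟶ CohB1.toPMod M' from φ.val) ▷ (CohB1.toPMod N)).app (op ⊤) s = 0
  induction s using Groth.Agent.Lib.Helper1.StalkTensor.tm_induction with
  | zero => exact map_zero _
  | tmul p q =>
    have h1 : φ.val.app (op ⊤) p = 0 := h p
    have h2 : ((show CohB1.toPMod M ⟶ CohB1.toPMod M' from φ.val) ▷ (CohB1.toPMod N)).app (op ⊤)
        (Groth.Agent.Lib.Helper1.StalkTensor.tm _ _ p q) =
        Groth.Agent.Lib.Helper1.StalkTensor.tm (CohB1.toPMod M') (CohB1.toPMod N)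
          (φ.val.app (op ⊤) p) q := rfl
    rw [h2, h1]
    exact TensorProduct.zero_tmul _ _
  | add s t hs ht => rw [map_add, hs, ht, add_zero]

theorem sv_top_secHom' (M : X.Modules) (σ : Γ(M, ⊤)) : sv (secHom M σ) ⊤ = σ := by
  rw [sv_secHom]
  change M.presheaf.map (𝟙 _) σ = σ
  rw [M.presheaf.map_id]
  rfl

/-- a morphism killing all "sections" `O ⟶ M` kills all global sections -/
theorem app_top_eq_zero {M C : X.Modules} (π : M ⟶ C)
    (h : ∀ σ : Coh.structureModule X ⟶ M, σ ≫ π = 0) (m : Γ(M, ⊤)) : π.app ⊤ m = 0 := by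
  have h1 := h (secHom M m)
  have h2 : sv (secHom M m ≫ π) ⊤ = sv (0 : Coh.structureModule X ⟶ C) ⊤ := by rw [h1]
  rw [sv_comp, sv_top_secHom', sv_zero ⊤] at h2
  exact h2

/-- **global generation from surjectivity of a multiplication map**: if `M ⊗ L` is generated by
global sections, `- ⊗ L` is faithful and `Γ(M) ⊗ Γ(L) → Γ(M ⊗ L)` is surjective, then `M` is
generated by global sections. -/
theorem isGloballyGenerated_of_tsTop_surjective (M L : X.Modules) [(twR L).Faithful]
    (hu : ∀ {C : X.Modules} (f : CohB1.tensorMod M L ⟶ C),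
      (∀ u : Coh.structureModule X ⟶ CohB1.tensorMod M L, u ≫ f = 0) → f = 0)
    (hs : Function.Surjective (tsTop M L)) :
    Curv2.IsGloballyGenerated M := by
  let F0 : X.Modules := SheafOfModules.free (Coh.structureModule X ⟶ M)
  let p : F0 ⟶ M := (SheafOfModules.freeHomEquiv M).symm
    (fun σ : (Coh.structureModule X ⟶ M) => SheafOfModules.unitHomEquiv M σ)
  refine ⟨(Coh.structureModule X ⟶ M), p, ?_⟩
  let C : X.Modules := cokernel p
  let π : M ⟶ C := cokernel.π p
  have hpπ : p ≫ π = 0 := cokernel.condition p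
  have hπ : ∀ σ : Coh.structureModule X ⟶ M, σ ≫ π = 0 := by
    intro σ
    let ισ : Coh.structureModule X ⟶ F0 := SheafOfModules.ιFree σ
    have h0 : SheafOfModules.freeHomEquiv M p =
        (fun σ : (Coh.structureModule X ⟶ M) => SheafOfModules.unitHomEquiv M σ) :=
      Equiv.apply_symm_apply _ _
    have h1 : ισ ≫ p = σ := by
      have h2 := SheafOfModules.unitHomEquiv_symm_freeHomEquiv_apply p σ
      rw [h0] at h2
      exact h2.symm.trans (Equiv.symm_apply_apply _ _)
    rw [← h1, Category.assoc, hpπ, comp_zero]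
  have hΓ : ∀ m : Γ(M, ⊤), π.app ⊤ m = 0 := app_top_eq_zero π hπ
  have key : (twR L).map π = 0 := by
    apply hu
    intro u
    apply hom_ext_of_sv
    rw [sv_comp, sv_zero ⊤]
    obtain ⟨s, hs'⟩ := hs (sv u ⊤)
    have h3 := tsTop_naturality_left π L s
    rw [preTopL_eq_zero π L hΓ s] at h3
    have h4 : tsTop C L 0 = 0 := (tsTop C L).hom.map_zero
    rw [← hs']
    exact h3.trans h4
  have hπ0 : π = 0 := (twR L).map_injective (key.trans ((twR L).map_zero _ _).symm)
  exact Abelian.epi_of_cokernel_π_eq_zero p hπ0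

end General

section Pn

variable (n : ℕ) (R : Type u) [CommRing R]

local notation "PX" => CohB1.ProjSpace n R

theorem isEquivalence_twR (q : ℤ) : (twR (Twist.twistProjSpace n R q)).IsEquivalence := by
  have := Groth.Agent.Lib.R2H2.PnTwEquiv.isEquivalence_tw n R q
  exact Functor.isEquivalence_of_iso (twIso (Twist.twistProjSpace n R q))

/-- global sections generate `M(q)` when `M` is a quotient of `O(-q)^r` -/
theorem sections_generate (M : (PX).Modules) (q : ℤ) (r : ℕ)
    (p : (⨁ fun _ : Fin r => Twist.twistProjSpace n R (-q)) ⟶ M) (hp : Epi p)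
    {C : (PX).Modules} (f : CohB1.tensorMod M (Twist.twistProjSpace n R q) ⟶ C)
    (hf : ∀ u : Coh.structureModule PX ⟶ CohB1.tensorMod M (Twist.twistProjSpace n R q),
      u ≫ f = 0) : f = 0 := by
  let L : (PX).Modules := Twist.twistProjSpace n R q
  let G : (PX).Modules ⥤ (PX).Modules := twR L
  have hG : G.IsEquivalence := isEquivalence_twR n R q
  let g : Fin r → (PX).Modules := fun _ => Twist.twistProjSpace n R (-q)
  have hep : Epi (G.map p) := inferInstance
  obtain ⟨e⟩ := Groth.Agent.Lib.R2Lead.KRR.nonempty_twistProjSpace_tensor_iso n R (-q) q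
  obtain ⟨z⟩ := Groth.Agent.Lib.R2Lead.KRR.nonempty_twistProjSpace_zero_iso n R
  let w : G.obj (Twist.twistProjSpace n R (-q)) ≅ Coh.structureModule PX :=
    e ≪≫ eqToIso (by rw [neg_add_cancel]) ≪≫ z
  have h1 : G.map p ≫ f = 0 := by
    have h2 : (G.mapBiproduct g).inv ≫ G.map p ≫ f = 0 := by
      apply biproduct.hom_ext'
      intro j
      have h3 : biproduct.ι (G.obj ∘ g) j ≫ (G.mapBiproduct g).inv = G.map (biproduct.ι g j) := by
        rw [Functor.mapBiproduct_inv, biproduct.ι_desc]
      rw [comp_zero, ← Category.assoc, h3]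
      have h4 := hf (w.inv ≫ G.map (biproduct.ι g j) ≫ G.map p)
      rw [Category.assoc, Category.assoc] at h4
      exact (cancel_epi w.inv).1 (h4.trans comp_zero.symm)
    exact (cancel_epi (G.mapBiproduct g).inv).1 (h2.trans comp_zero.symm)
  exact (cancel_epi (G.map p)).1 (h1.trans comp_zero.symm)

/-- **a regular coherent sheaf twisted by its regularity is globally generated** -/
theorem globallyGenerated_of_regular (F : (PX).Modules) (hF : Coh.IsCoh F) (m : ℤ)
    (hreg : ∀ i : ℕ, 1 ≤ i → i ≤ n →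
      Subsingleton (Coh.HH PX (CohB1.tensorMod F (Twist.twistProjSpace n R (m - i))) i)) :
    Curv2.IsGloballyGenerated (CohB1.tensorMod F (Twist.twistProjSpace n R m)) := by
  have i1 : F.IsQuasicoherent := hF.1
  have i2 : SheafOfModules.IsFiniteType (R := (PX).ringCatSheaf) F := hF.2
  have i3 : (Twist.twistProjSpace n R m).IsQuasicoherent :=
    Groth.Agent.Lib.R2H2.PnFinite.isQCoh_twist n R m
  have i4 : SheafOfModules.IsFiniteType (R := (PX).ringCatSheaf) (Twist.twistProjSpace n R m) :=
    Groth.Agent.Lib.R2H2.PnFinite.isFiniteType_twist n R m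
  have hM : Coh.IsCoh (CohB1.tensorMod F (Twist.twistProjSpace n R m)) :=
    ⟨Groth.Agent.Lib.Helper23.TensorQCoh.isQuasicoherent_tensorMod F _,
      Groth.Agent.Lib.Helper23.TensorQCoh.isFiniteType_tensorMod F _⟩
  obtain ⟨q, -, r, p, hp⟩ := Groth.Agent.Lib.R2H2.PnDualExt.exists_epi_neg n R _ hM
  have hG := isEquivalence_twR n R (q : ℤ)
  have hfa : (twR (Twist.twistProjSpace n R (q : ℤ))).Faithful := inferInstance
  exact isGloballyGenerated_of_tsTop_surjective _ (Twist.twistProjSpace n R (q : ℤ))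
    (fun f hf => sections_generate n R _ (q : ℤ) r p hp f hf)
    (mul_surj_regular n R F hF.1 m hreg m le_rfl q)

end Pn

end Groth.Agent.Lib.R2H2.PnGG
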