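import Groth.Agent.Lib.R2H2PnFlat
import Groth.Agent.Lib.R2H2ProjOver
import Groth.Agent.Lib.R2H2PnGG
import Groth.Agent.Lib.R2H2PnCoh
import Groth.Agent.Lib.R2H2CoprodCoh
import Groth.Agent.Lib.Helper26FpqcMod
import Groth.Agent.Lib.Helper21FlatCalc
import Groth.Agent.Lib.Helper23PB
import Groth.Agent.Lib.Helper23RestrTensor
import Groth.Agent.Lib.Helper23ModLocal
import Groth.Agent.Lib.Helper23TensorUnit
import Groth.Agent.Lib.Helper23TensorQCoh
import Groth.Agent.Lib.Helper23SecTw3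
import Groth.Agent.Lib.Helper2PullbackSec
import Groth.Agent.Lib.R2H2RpushBasis
import Groth.Agent.Lib.R2H2PnTwEquiv
import Groth.Agent.S0022

/-!
# Cohomology of `O(d) ⊗ π^* 𝒩` on projective space (helper2, round 2)

* `exists_epi_sigma_unit` : a quasi-coherent module on an affine scheme is a quotient of a free one;
* `Ψ n R d : 𝒩 ↦ π^* 𝒩 ⊗ O(d)` on `P^n_R`, exact (`shortExact_map_Ψ`, flatness of `π`) and
  commuting with coproducts;
* `subsingleton_HH_Ψ` : `H^q(P^n_R, π^* 𝒩 ⊗ O(d)) = 0` for `q ≥ 1`, `d ≥ -n`, `𝒩` quasi-coherent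
  on `Spec R` (any ring `R`); `subsingleton_HH_Ψ_zero` : also for `q = 0` if moreover `d < 0`;
* `isZero_RpushAb_of_gt` : `R^q p_* M = 0` for `q > n`, `M` quasi-coherent on `P^n_T`;
* `isZero_RpushAb_twF_pullback` : `R^q p_* (O(d) ⊗ p^* G) = 0` for `q ≥ 1`, `d ≥ -n`, `G`
  quasi-coherent on an arbitrary scheme `T`; `isZero_RpushAb_zero_twF_pullback` for `q = 0`,
  `-n ≤ d < 0`.
-/

set_option autoImplicit false
set_option linter.unusedSectionVars false
set_option linter.style.haveILetI false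
universe u

namespace Groth.Agent.Lib.R2H2.PnPullVan

open CategoryTheory CategoryTheory.Limits AlgebraicGeometry TopologicalSpace Opposite
open Groth.Agent.Lib.R2H2.HHLin Groth.Agent.Lib.R2H2.PnSerre
open Groth.Agent.Lib.Helper23.SecTw Groth.Agent.Lib.Helper23.QCohLocal Groth.Agent.Lib.Helper6
open Groth.Agent.Lib.R2H2.CoprodSec Groth.Agent.Lib.R2H2.CoprodCoh
  Groth.Agent.Lib.R2H2.PnCoh Groth.Agent.Lib.R2H2.ProjSec Groth.Agent.Lib.R2H2.KoszulPoly

section Affine

theorem isQuasicoherent_structureModule (P : Scheme.{u}) :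
    (Coh.structureModule P).IsQuasicoherent := by
  unfold Coh.structureModule
  have h : (SheafOfModules.free (R := P.ringCatSheaf) PUnit.{u+1}).IsQuasicoherent :=
    inferInstance
  exact (SheafOfModules.isQuasicoherent P.ringCatSheaf).prop_of_iso
    (coproductUniqueIso (fun (_ : PUnit.{u+1}) ↦ SheafOfModules.unit P.ringCatSheaf)) h

variable (R : CommRingCat.{u})

/-- a quasi-coherent module on an affine scheme is a quotient of a free module -/
theorem exists_epi_sigma_unit (N : (Spec R).Modules) [N.IsQuasicoherent] :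
    ∃ (I : Type u) (φ : (∐ fun _ : I => Coh.structureModule (Spec R)) ⟶ N), Epi φ := by
  classical
  let I : Type u := Γ(N, ⊤)
  let E : I → (Spec R).Modules := fun _ => Coh.structureModule (Spec R)
  haveI hO : (Coh.structureModule (Spec R)).IsQuasicoherent :=
    isQuasicoherent_structureModule (Spec R)
  haveI : (∐ E).IsQuasicoherent := isQuasicoherent_sigma E (fun _ => hO)
  let φ : (∐ E) ⟶ N := Sigma.desc (fun σ : I => secHom N σ)
  refine ⟨I, φ, Groth.Agent.Lib.Helper23.ModLocal.epi_of_surjective_Γ R φ ?_⟩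
  intro σ
  refine ⟨(Sigma.ι E σ).app ⊤ (1 : Γ(Spec R, ⊤)), ?_⟩
  have h1 : Sigma.ι E σ ≫ φ = secHom N σ := Sigma.ι_desc _ _
  have h2 := sv_secHom N σ ⊤
  have h3 : res N le_top σ = σ := by
    change N.presheaf.map (homOfLE (le_top : (⊤ : (Spec R).Opens) ≤ ⊤)).op σ = σ
    have : (homOfLE (le_top : (⊤ : (Spec R).Opens) ≤ ⊤)).op = 𝟙 _ := rfl
    rw [this, N.presheaf.map_id]
    rfl
  rw [h3] at h2
  refine Eq.trans ?_ h2
  rw [← h1]
  rfl

end Affine

section Pn

variable (n : ℕ) (R : Type u) [CommRing R]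

local notation "PX" => CohB1.ProjSpace n R
local notation "SR" => Spec (CommRingCat.of R)
local notation "πR" => CohB1.ProjSpace.toSpec n R

/-- `𝒩 ↦ π^* 𝒩 ⊗ O(d)` -/
noncomputable abbrev Ψ (d : ℤ) : (SR).Modules ⥤ (PX).Modules :=
  Scheme.Modules.pullback πR ⋙ twR (Twist.twistProjSpace n R d)

instance Ψ_additive (d : ℤ) : (Ψ n R d).Additive := by
  infer_instance

theorem preservesColimits_Ψ (d : ℤ) : PreservesColimitsOfSize.{u, u} (Ψ n R d) := by
  haveI := Groth.Agent.Lib.R2H2.PnGG.isEquivalence_twR n R d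
  infer_instance

lemma Ψ_obj (d : ℤ) (N : (SR).Modules) : (Ψ n R d).obj N =
    CohB1.tensorMod ((Scheme.Modules.pullback πR).obj N) (Twist.twistProjSpace n R d) := rfl

theorem shortExact_map_Ψ (d : ℤ) (S : ShortComplex (SR).Modules) (hS : S.ShortExact) :
    (S.map (Ψ n R d)).ShortExact := by
  haveI := hS.mono_f
  have h1 : (S.map (Scheme.Modules.pullback πR)).ShortExact :=
    Groth.Agent.Lib.Helper21.FlatCalc.shortExact_map_of_mono _ S hS
      (Groth.Agent.Lib.Helper26.FpqcMod.mono_pullback_of_flat πR S.f)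
  have h2 : ((S.map (Scheme.Modules.pullback πR)).map
      (twR (Twist.twistProjSpace n R d))).ShortExact :=
    shortExact_map_twR (Twist.twistProjSpace n R d) (isInv n R d)
      (S.map (Scheme.Modules.pullback πR)) h1
  exact h2

theorem isQuasicoherent_Ψ (d : ℤ) (N : (SR).Modules) [N.IsQuasicoherent] :
    ((Ψ n R d).obj N).IsQuasicoherent := by
  haveI : ((Scheme.Modules.pullback πR).obj N).IsQuasicoherent :=
    Groth.Agent.Lib.Helper2.PullbackSec.isQuasicoherent_pullback _ _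
  haveI := Groth.Agent.Lib.R2H2.PnFinite.isQCoh_twist n R d
  exact Groth.Agent.Lib.Helper23.TensorQCoh.isQuasicoherent_tensorMod _ _

theorem nonempty_Ψ_unit_iso (d : ℤ) :
    Nonempty ((Ψ n R d).obj (Coh.structureModule SR) ≅ Twist.twistProjSpace n R d) :=
  ⟨PicGrp.tensorModIso (Groth.Agent.Lib.Helper23.PB.pullbackUnitIso πR) (Iso.refl _) ≪≫
    Groth.Agent.Lib.Helper23.TensorUnit.unitTensorIso _⟩

/-- the cohomology of `Ψ` of a free module -/
theorem subsingleton_HH_Ψ_sigma (d : ℤ) (q : ℕ) (h₀ : ¬ (q = 0 ∧ 0 ≤ d))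
    (hn : ¬ (q = n ∧ d ≤ -((n : ℤ) + 1))) (I : Type u) :
    Subsingleton (Coh.HH PX ((Ψ n R d).obj (∐ fun _ : I => Coh.structureModule SR)) q) := by
  classical
  haveI := Groth.Agent.Lib.R2H2.PnGG.isEquivalence_twR n R d
  haveI hO := isQuasicoherent_structureModule SR
  let E : I → (PX).Modules := fun _ => (Ψ n R d).obj (Coh.structureModule SR)
  have hEq : ∀ j, (E j).IsQuasicoherent := fun _ => isQuasicoherent_Ψ n R d _
  have hE0 : ∀ j (y : Coh.HH PX (E j) q), y = 0 := fun _ y => by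
    obtain ⟨e⟩ := nonempty_Ψ_unit_iso n R d
    haveI := subsingleton_HH_of_iso e.symm q
      (Groth.Agent.Lib.R2H2.PnTwEquiv.subsingleton_HH_twist n R d q h₀ hn)
    exact Subsingleton.elim _ _
  have h1 : Subsingleton (Coh.HH PX (∐ E) q) := by
    have key : ∀ x : Coh.HH PX (∐ E) q, x = 0 := fun x => by
      obtain ⟨S, hS⟩ := exists_sum_HH E (Wp (CohB1.polyGrading n R) (vars R n)) (iSup_Wp_vars R n)
        (isAffineOpen_biInf_Wp (CohB1.polyGrading n R) (vars R n) (hfs_vars R n)) hEq q x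
      rw [hS]
      refine Finset.sum_eq_zero (fun j _ => ?_)
      have h0 : ∀ y : Coh.HH PX (E j) q, HmapL (Sigma.ι E j) q y = 0 := fun y => by
        rw [hE0 j y, map_zero]
      exact h0 _
    exact ⟨fun a b => (key a).trans (key b).symm⟩
  haveI := preservesColimits_Ψ n R d
  let e : (Ψ n R d).obj (∐ fun _ : I => Coh.structureModule SR) ≅ ∐ E :=
    PreservesCoproduct.iso (Ψ n R d) (fun _ : I => Coh.structureModule SR)
  exact subsingleton_HH_of_iso e.symm q h1

/-- the presentation of a quasi-coherent module on `Spec R` and the long exact sequence -/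
theorem subsingleton_HH_Ψ_step (d : ℤ) (q : ℕ) (h₀ : ¬ (q = 0 ∧ 0 ≤ d))
    (hn : ¬ (q = n ∧ d ≤ -((n : ℤ) + 1)))
    (ih : ∀ (N : (SR).Modules), N.IsQuasicoherent →
      Subsingleton (Coh.HH PX ((Ψ n R d).obj N) (q + 1)))
    (N : (SR).Modules) (hN : N.IsQuasicoherent) :
    Subsingleton (Coh.HH PX ((Ψ n R d).obj N) q) := by
  haveI := hN
  obtain ⟨I, φ, hφ⟩ := exists_epi_sigma_unit (CommRingCat.of R) N
  haveI hO := isQuasicoherent_structureModule SR
  haveI hSig : (∐ fun _ : I => Coh.structureModule SR).IsQuasicoherent := by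
    classical
    exact isQuasicoherent_sigma _ (fun _ => hO)
  have hKq : (kernel φ).IsQuasicoherent := isQuasicoherent_kernel φ
  let S : ShortComplex (SR).Modules := ShortComplex.mk (kernel.ι φ) φ (kernel.condition φ)
  have hS : S.ShortExact :=
    { exact := ShortComplex.exact_kernel φ
      mono_f := equalizer.ι_mono
      epi_g := hφ }
  have hS' := shortExact_map_Ψ n R d S hS
  have h2 : Subsingleton (Coh.HH PX (S.map (Ψ n R d)).X₂ q) :=
    subsingleton_HH_Ψ_sigma n R d q h₀ hn I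
  have h1 : Subsingleton (Coh.HH PX (S.map (Ψ n R d)).X₁ (q + 1)) := ih (kernel φ) hKq
  have key : ∀ x : Coh.HH PX (S.map (Ψ n R d)).X₃ q, x = 0 := fun x => by
    obtain ⟨y, hy⟩ := exact₃ (S.map (Ψ n R d)) hS' q x (Subsingleton.elim _ _)
    rw [← hy, Subsingleton.elim y 0, map_zero]
  exact ⟨fun a b => (key a).trans (key b).symm⟩

theorem subsingleton_HH_Ψ_aux (d : ℤ) (hd : -(n : ℤ) ≤ d) (k : ℕ) :
    ∀ q : ℕ, 1 ≤ q → n + 1 ≤ q + k → ∀ (N : (SR).Modules), N.IsQuasicoherent →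
      Subsingleton (Coh.HH PX ((Ψ n R d).obj N) q) := by
  induction k with
  | zero =>
    intro q _ hq N hN
    haveI := hN
    have hq3 : Coh.IsQCoh ((Ψ n R d).obj N) := isQuasicoherent_Ψ n R d N
    exact Groth.Agent.S0022.result n R _ q (by omega)
  | succ k ih =>
    intro q hq1 hq N hN
    exact subsingleton_HH_Ψ_step n R d q (by omega) (by omega)
      (ih (q + 1) (by omega) (by omega)) N hN

/-- **`H^q(P^n_R, π^* 𝒩 ⊗ O(d)) = 0` for `q ≥ 1` and `d ≥ -n`** -/
theorem subsingleton_HH_Ψ (d : ℤ) (hd : -(n : ℤ) ≤ d) (q : ℕ) (hq : 1 ≤ q)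
    (N : (SR).Modules) [hN : N.IsQuasicoherent] :
    Subsingleton (Coh.HH PX ((Ψ n R d).obj N) q) :=
  subsingleton_HH_Ψ_aux n R d hd (n + 1) q hq (by omega) N hN

/-- `H^0(P^n_R, π^* 𝒩 ⊗ O(d)) = 0` for `-n ≤ d < 0` -/
theorem subsingleton_HH_Ψ_zero (d : ℤ) (hd : -(n : ℤ) ≤ d) (hd' : d < 0)
    (N : (SR).Modules) [hN : N.IsQuasicoherent] :
    Subsingleton (Coh.HH PX ((Ψ n R d).obj N) 0) :=
  subsingleton_HH_Ψ_step n R d 0 (by omega) (by omega)
    (fun N' hN' => by
      haveI := hN'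
      exact subsingleton_HH_Ψ n R d hd 1 le_rfl N') N hN

end Pn

section Over

open Groth.Agent.Lib.R2H2.ProjOver

variable (n : ℕ) {T : Scheme.{u}}

/-- `R^q p_* M = 0` for `q > n` and `M` quasi-coherent on `P^n_T` -/
theorem isZero_RpushAb_of_gt (M : (KRR.PY n T).Modules) [M.IsQuasicoherent] (q : ℕ)
    (hq : n < q) :
    IsZero ((Coh.RpushAb (KRR.pr n T) q).obj (Coh.toAb M)) := by
  refine Groth.Agent.Lib.R2H2.RpushBasis.isZero_RpushAb_of_basis _ _ q
    {V : T.Opens | IsAffineOpen V} T.isBasis_affineOpens (fun V hV => ?_)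
  have hV' : IsAffineOpen V := hV
  have h : Subsingleton (Coh.HHon (CohB1.ProjSpaceOver n T) M
      (CohB1.ProjSpaceOver.toBase n T ⁻¹ᵁ hV'.fromSpec.opensRange) q) := by
    rw [← opensRange_a n Γ(T, V) hV'.fromSpec, subsingleton_HHon_opensRange_iff]
    haveI : Coh.IsQCoh ((Scheme.Modules.pullback (a n Γ(T, V) hV'.fromSpec)).obj M) :=
      Groth.Agent.Lib.Helper2.PullbackSec.isQuasicoherent_pullback _ _
    exact Groth.Agent.S0022.result n Γ(T, V) _ q hq
  rw [hV'.opensRange_fromSpec] at h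
  exact h

theorem isQuasicoherent_twF_pullback (G : T.Modules) [G.IsQuasicoherent] (d : ℤ) :
    (KRR.twF n T d ((Scheme.Modules.pullback (KRR.pr n T)).obj G)).IsQuasicoherent := by
  haveI := isQuasicoherent_twistOver n (Y := T) d
  haveI : ((Scheme.Modules.pullback (KRR.pr n T)).obj G).IsQuasicoherent :=
    Groth.Agent.Lib.Helper2.PullbackSec.isQuasicoherent_pullback _ _
  exact Groth.Agent.Lib.Helper23.TensorQCoh.isQuasicoherent_tensorMod _ _

variable (R : Type u) [CommRing R] (j : Spec (CommRingCat.of R) ⟶ T)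

/-- `a^* (O(d) ⊗ p^* G) ≅ π^* j^* G ⊗ O(d)` -/
theorem nonempty_pullback_twF_pullback_iso (G : T.Modules) (d : ℤ) :
    Nonempty ((Scheme.Modules.pullback (a n R j)).obj
        (KRR.twF n T d ((Scheme.Modules.pullback (KRR.pr n T)).obj G)) ≅
      (Ψ n R d).obj ((Scheme.Modules.pullback j).obj G)) := by
  obtain ⟨e0⟩ := nonempty_pullback_twistOver_iso n R j d
  let e1 := Groth.Agent.Lib.Helper23.RestrTensor.pullbackTensorIso (Twist.twistOver n T d)
    ((Scheme.Modules.pullback (KRR.pr n T)).obj G) (a n R j)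
  let e2 : (Scheme.Modules.pullback (a n R j)).obj ((Scheme.Modules.pullback (KRR.pr n T)).obj G) ≅
      (Scheme.Modules.pullback (CohB1.ProjSpace.toSpec n R)).obj
        ((Scheme.Modules.pullback j).obj G) :=
    (Scheme.Modules.pullbackComp (a n R j) (KRR.pr n T)).app G ≪≫
      (Scheme.Modules.pullbackCongr (a_toBase n R j)).app G ≪≫
      ((Scheme.Modules.pullbackComp (CohB1.ProjSpace.toSpec n R) j).app G).symm
  let e3 := PicGrp.tensorModIso e0 e2
  let e4 := (twIso (Twist.twistProjSpace n R d)).app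
    ((Scheme.Modules.pullback (CohB1.ProjSpace.toSpec n R)).obj ((Scheme.Modules.pullback j).obj G))
  exact ⟨e1 ≪≫ e3 ≪≫ e4⟩

theorem subsingleton_HHon_twF_pullback [IsOpenImmersion j] (G : T.Modules) [G.IsQuasicoherent]
    (d : ℤ) (q : ℕ)
    (h : Subsingleton (Coh.HH (CohB1.ProjSpace n R)
      ((Ψ n R d).obj ((Scheme.Modules.pullback j).obj G)) q)) :
    Subsingleton (Coh.HHon (CohB1.ProjSpaceOver n T)
      (KRR.twF n T d ((Scheme.Modules.pullback (KRR.pr n T)).obj G))
      (CohB1.ProjSpaceOver.toBase n T ⁻¹ᵁ j.opensRange) q) := by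
  haveI := isQuasicoherent_twF_pullback n G d
  rw [← opensRange_a n R j, subsingleton_HHon_opensRange_iff]
  obtain ⟨e⟩ := nonempty_pullback_twF_pullback_iso n R j G d
  exact subsingleton_HH_of_iso e.symm q h

end Over

section Main

open Groth.Agent.Lib.R2H2.ProjOver

variable (n : ℕ) (T : Scheme.{u})

/-- **`R^q p_* (O(d) ⊗ p^* G) = 0` for `q ≥ 1`, `d ≥ -n`, `G` quasi-coherent** -/
theorem isZero_RpushAb_twF_pullback (G : T.Modules) [G.IsQuasicoherent] (d : ℤ)
    (hd : -(n : ℤ) ≤ d) (q : ℕ) (hq : 1 ≤ q) :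
    IsZero ((Coh.RpushAb (KRR.pr n T) q).obj
      (Coh.toAb (KRR.twF n T d ((Scheme.Modules.pullback (KRR.pr n T)).obj G)))) := by
  refine Groth.Agent.Lib.R2H2.RpushBasis.isZero_RpushAb_of_basis _ _ q
    {V : T.Opens | IsAffineOpen V} T.isBasis_affineOpens (fun V hV => ?_)
  have hV' : IsAffineOpen V := hV
  haveI : ((Scheme.Modules.pullback hV'.fromSpec).obj G).IsQuasicoherent :=
    Groth.Agent.Lib.Helper2.PullbackSec.isQuasicoherent_pullback _ _
  have h := subsingleton_HHon_twF_pullback n Γ(T, V) hV'.fromSpec G d q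
    (subsingleton_HH_Ψ n Γ(T, V) d hd q hq _)
  rw [hV'.opensRange_fromSpec] at h
  exact h

/-- `p_* (O(d) ⊗ p^* G) = 0` (as an abelian sheaf, `R^0`) for `-n ≤ d < 0` -/
theorem isZero_RpushAb_zero_twF_pullback (G : T.Modules) [G.IsQuasicoherent] (d : ℤ)
    (hd : -(n : ℤ) ≤ d) (hd' : d < 0) :
    IsZero ((Coh.RpushAb (KRR.pr n T) 0).obj
      (Coh.toAb (KRR.twF n T d ((Scheme.Modules.pullback (KRR.pr n T)).obj G)))) := by
  refine Groth.Agent.Lib.R2H2.RpushBasis.isZero_RpushAb_of_basis _ _ 0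
    {V : T.Opens | IsAffineOpen V} T.isBasis_affineOpens (fun V hV => ?_)
  have hV' : IsAffineOpen V := hV
  haveI : ((Scheme.Modules.pullback hV'.fromSpec).obj G).IsQuasicoherent :=
    Groth.Agent.Lib.Helper2.PullbackSec.isQuasicoherent_pullback _ _
  have h := subsingleton_HHon_twF_pullback n Γ(T, V) hV'.fromSpec G d 0
    (subsingleton_HH_Ψ_zero n Γ(T, V) d hd hd' _)
  rw [hV'.opensRange_fromSpec] at h
  exact h

end Main

end Groth.Agent.Lib.R2H2.PnPullVan
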