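import Groth.Agent.Lib.R2H2PnLinRes
import Groth.Agent.Lib.R2H2CoprodCoh
import Groth.Agent.Lib.R2H2PnPullVan
import Groth.Agent.Lib.R2H2PnGG
import Groth.Prelude.Def_KLin
set_option backward.isDefEq.respectTransparency.types false

/-!
# An Eilenberg–Watts type flatness criterion (helper2, round 2)

`X` a scheme over `Spec A`, `Ψ : (Spec A).Modules ⥤ X.Modules` an exact `A`-linear functor commuting
with coproducts such that `H^1(X, Ψ N) = 0` for all quasi-coherent `N`.  Then
`Hom(O_X, Ψ O)` is a flat `A`-module (`flat_hom_of_exact`).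

* `exists_lift_of_subsingleton_H1` : sections lift along an epimorphism whose kernel has no `H^1`;
* `exists_finset_sum` : a section of a coproduct of quasi-coherent modules is a finite sum;
* `exists_smulMod_eq` / `smulMod_injective` : `End(O_{Spec A}) = A`.
-/

set_option autoImplicit false
set_option linter.unusedSectionVars false
set_option linter.style.haveILetI false
universe u

namespace Groth.Agent.Lib.R2H2.EWFlat

open CategoryTheory CategoryTheory.Limits AlgebraicGeometry TopologicalSpace Opposite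
open Groth.Agent.Lib.R2H2.HHLin Groth.Agent.Lib.R2H2.PnLinRes Groth.Agent.Lib.Helper23.SecTw
  Groth.Agent.Lib.Helper23.GenLocus Groth.Agent.Lib.R2H2.CoprodCoh
  Groth.Agent.Lib.Helper23.QCohLocal

section Lift

variable {X : Scheme.{u}}

theorem cls_add' {M : X.Modules} (σ τ : Coh.structureModule X ⟶ M) :
    cls (σ + τ) = cls σ + cls τ := by
  unfold cls
  rw [Groth.Agent.Lib.Helper23.SecTw.sv_add]
  exact map_add (Groth.Agent.Lib.Helper27PnSections.hh0Equiv X M).symm _ _

theorem cls_zero' {M : X.Modules} : cls (0 : Coh.structureModule X ⟶ M) = 0 := by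
  have h := cls_add' (0 : Coh.structureModule X ⟶ M) 0
  rw [add_zero] at h
  exact left_eq_add.mp h

/-- the class map as an additive map -/
noncomputable def clsHom (M : X.Modules) : (Coh.structureModule X ⟶ M) →+ Coh.HH X M 0 where
  toFun := cls
  map_zero' := cls_zero'
  map_add' := cls_add'

theorem clsHom_injective (M : X.Modules) : Function.Injective (clsHom M) := by
  rw [injective_iff_map_eq_zero]
  intro σ hσ
  exact eq_zero_of_cls σ hσ

theorem cls_injective' {M : X.Modules} (σ τ : Coh.structureModule X ⟶ M)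
    (h : cls σ = cls τ) : σ = τ := clsHom_injective M h

theorem cls_sum' {M : X.Modules} {ι : Type*} (s : Finset ι)
    (σ : ι → (Coh.structureModule X ⟶ M)) : cls (∑ j ∈ s, σ j) = ∑ j ∈ s, cls (σ j) :=
  map_sum (clsHom M) σ s

/-- sections lift along an epimorphism whose kernel has vanishing `H^1` -/
theorem exists_lift_of_subsingleton_H1 (S : ShortComplex X.Modules) (hS : S.ShortExact)
    (h1 : Subsingleton (Coh.HH X S.X₁ (0 + 1))) (τ : Coh.structureModule X ⟶ S.X₃) :
    ∃ σ : Coh.structureModule X ⟶ S.X₂, σ ≫ S.g = τ := by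
  have h0 : deltaL S hS 0 (cls τ) = 0 := @Subsingleton.elim _ h1 _ _
  obtain ⟨x₂, hx₂⟩ := exact₃ S hS 0 (cls τ) h0
  obtain ⟨σ, rfl⟩ := cls_surjective S.X₂ x₂
  refine ⟨σ, cls_injective' _ _ ?_⟩
  rw [← cls_comp]
  exact hx₂

variable {J : Type u} [DecidableEq J] (E : J → X.Modules)

/-- a section of a coproduct of quasi-coherent modules is a finite sum of sections of summands -/
theorem exists_finset_sum {ι : Type u} [Finite ι] (U : ι → X.Opens) (hcov : ⨆ i, U i = ⊤)
    (hU : ∀ s : Finset ι, s.Nonempty → IsAffineOpen (⨅ i ∈ s, U i))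
    (hE : ∀ j, (E j).IsQuasicoherent) (W : Coh.structureModule X ⟶ ∐ E) :
    ∃ T : Finset J, W = ∑ j ∈ T, (W ≫ Sigma.π E j) ≫ Sigma.ι E j := by
  obtain ⟨T, hT⟩ := exists_sum_HH E U hcov hU hE 0 (cls W)
  refine ⟨T, cls_injective' _ _ ?_⟩
  rw [cls_sum']
  refine hT.trans (Finset.sum_congr rfl (fun j _ => ?_))
  rw [cls_comp, cls_comp]

end Lift

section EndO

variable (A : Type u) [CommRing A]

local notation "SA" => Spec (CommRingCat.of A)

theorem over_self : (SA ↘ SA) = 𝟙 SA := by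
  change Spec.map (CommRingCat.ofHom (algebraMap A A)) = 𝟙 SA
  rw [Algebra.algebraMap_self]
  exact Spec.map_id _

theorem toGlobal_self (a : A) :
    Coh.toGlobal (SA ↘ SA) a = (Scheme.ΓSpecIso (CommRingCat.of A)).inv.hom a := by
  have h2 : Coh.toGlobal (SA ↘ SA) a =
      ((SA ↘ SA).appTop).hom ((Scheme.ΓSpecIso (CommRingCat.of A)).inv.hom a) := rfl
  rw [h2, over_self]
  simp

theorem toGlobal_self_bijective : Function.Bijective (Coh.toGlobal (SA ↘ SA)) := by
  have h : ⇑(Coh.toGlobal (SA ↘ SA)) = ⇑(Scheme.ΓSpecIso (CommRingCat.of A)).inv.hom :=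
    funext (toGlobal_self A)
  rw [h]
  exact (ConcreteCategory.bijective_of_isIso (Scheme.ΓSpecIso (CommRingCat.of A)).inv)

theorem smulModΓ_one_app (r : Coh.Γtop SA) :
    ofS ⊤ ((Formal.smulModΓ (Coh.structureModule SA) r).app ⊤ (toS ⊤ 1)) = r := by
  rw [KLin.smulModΓ_app_apply]
  have h3 : (SA).presheaf.map (homOfLE (le_top : (⊤ : (SA).Opens) ≤ ⊤)).op r = r := by
    have : (homOfLE (le_top : (⊤ : (SA).Opens) ≤ ⊤)).op = 𝟙 _ := rfl
    rw [this, (SA).presheaf.map_id]
    rfl
  rw [h3]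
  exact mul_one r

/-- every endomorphism of the structure sheaf of `Spec A` is multiplication by a scalar -/
theorem exists_smulMod_eq (g : Coh.structureModule SA ⟶ Coh.structureModule SA) :
    ∃ a : A, g = Formal.smulMod A (Coh.structureModule SA) a := by
  obtain ⟨a, ha⟩ := (toGlobal_self_bijective A).2 (ofS ⊤ (sv g ⊤))
  refine ⟨a, ?_⟩
  apply hom_ext_of_sv
  rw [Formal.smulMod, ha]
  have h := smulModΓ_one_app A (ofS ⊤ (sv g ⊤))
  exact h.symm

/-- multiplication by a scalar on the structure sheaf of `Spec A` vanishes only for `0` -/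
theorem eq_zero_of_smulMod_eq_zero (a : A)
    (h : Formal.smulMod A (Coh.structureModule SA) a = 0) : a = 0 := by
  apply (toGlobal_self_bijective A).1
  rw [map_zero]
  have h2 := smulModΓ_one_app A (Coh.toGlobal (SA ↘ SA) a)
  rw [← h2]
  have h3 : Formal.smulModΓ (Coh.structureModule SA) (Coh.toGlobal (SA ↘ SA) a) = 0 := h
  rw [h3]
  rfl

end EndO

section Main

variable {A : Type u} [CommRing A] {X : Scheme.{u}} [X.Over (Spec (CommRingCat.of A))]

local notation "SA" => Spec (CommRingCat.of A)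
local notation "OS" => Coh.structureModule (Spec (CommRingCat.of A))
local notation "OX" => Coh.structureModule X

attribute [local instance] Abelian.hasFiniteBiproducts

theorem comp_smulMod {Z : Scheme.{u}} [Z.Over (Spec (CommRingCat.of A))] {M N : Z.Modules}
    (σ : M ⟶ N) (a : A) :
    σ ≫ Formal.smulMod A N a = Formal.smulMod A M a ≫ σ := KLin.comp_smulModΓ σ _

theorem smulMod_mul {Z : Scheme.{u}} [Z.Over (Spec (CommRingCat.of A))] (M : Z.Modules)
    (a b : A) : Formal.smulMod A M (a * b) = Formal.smulMod A M a ≫ Formal.smulMod A M b := by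
  unfold Formal.smulMod
  rw [map_mul, KLin.smulModΓ_mul]

theorem smulMod_sum {Z : Scheme.{u}} [Z.Over (Spec (CommRingCat.of A))] (M : Z.Modules)
    {κ : Type*} (s : Finset κ) (g : κ → A) :
    Formal.smulMod A M (∑ i ∈ s, g i) = ∑ i ∈ s, Formal.smulMod A M (g i) := by
  classical
  induction s using Finset.induction_on with
  | empty =>
    rw [Finset.sum_empty, Finset.sum_empty]
    unfold Formal.smulMod
    rw [map_zero, KLin.smulModΓ_zero]
  | insert a s ha ih =>
    rw [Finset.sum_insert ha, Finset.sum_insert ha, ← ih]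
    unfold Formal.smulMod
    rw [map_add, KLin.smulModΓ_add]

/-- **flatness from exactness**: if `Ψ` is an exact `A`-linear functor from `O_{Spec A}`-modules to
`O_X`-modules commuting with coproducts and `H^1(X, Ψ N) = 0` for quasi-coherent `N`, then
`Hom(O_X, Ψ O)` is flat over `A`. -/
theorem flat_hom_of_exact
    (Ψ : (SA).Modules ⥤ X.Modules) [Ψ.Additive] [PreservesFiniteLimits Ψ]
    [PreservesFiniteColimits Ψ]
    (hcop : ∀ J : Type u, PreservesColimitsOfShape (Discrete J) Ψ)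
    (hlin : ∀ (N : (SA).Modules) (a : A),
      Ψ.map (Formal.smulMod A N a) = Formal.smulMod A (Ψ.obj N) a)
    (hqc : ∀ N : (SA).Modules, N.IsQuasicoherent → (Ψ.obj N).IsQuasicoherent)
    (hH1 : ∀ N : (SA).Modules, N.IsQuasicoherent → Subsingleton (Coh.HH X (Ψ.obj N) (0 + 1)))
    {ι : Type u} [Finite ι] (U : ι → X.Opens) (hcov : ⨆ i, U i = ⊤)
    (hU : ∀ s : Finset ι, s.Nonempty → IsAffineOpen (⨅ i ∈ s, U i))
    (F : X.Modules) (e : Ψ.obj OS ≅ F) :
    Module.Flat A (OX ⟶ F) := by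
  classical
  refine Module.Flat.of_forall_isTrivialRelation ?_
  intro l f x hfx
  haveI hO : (OS).IsQuasicoherent :=
    Groth.Agent.Lib.R2H2.PnPullVan.isQuasicoherent_structureModule SA
  let c : Fin l → (SA).Modules := fun _ => OS
  let φ : (⨁ c) ⟶ OS := biproduct.desc (fun i => Formal.smulMod A OS (f i))
  haveI hB : (⨁ c).IsQuasicoherent := by
    haveI h : (∐ c).IsQuasicoherent :=
      Groth.Agent.Lib.Helper20.LocFree.isQuasicoherent_freeMod SA l
    exact Groth.Agent.Lib.Helper23.TensorQCoh.isQuasicoherent_of_iso (biproduct.isoCoproduct c).symm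
  haveI hK : (kernel φ).IsQuasicoherent := isQuasicoherent_kernel φ
  have hιφ : ∀ i, biproduct.ι c i ≫ φ = Formal.smulMod A OS (f i) := fun i =>
    biproduct.ι_desc _ i
  -- the section of `Ψ(O^l)` defined by `x`
  obtain ⟨Xt, hXt⟩ : ∃ Xt : OX ⟶ Ψ.obj (⨁ c),
      Xt = ∑ i, x i ≫ e.inv ≫ Ψ.map (biproduct.ι c i) := ⟨_, rfl⟩
  have hX : Xt ≫ Ψ.map φ = 0 := by
    rw [hXt]
    have hi : ∀ i, (x i ≫ e.inv ≫ Ψ.map (biproduct.ι c i)) ≫ Ψ.map φ = (f i • x i) ≫ e.inv := by
      intro i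
      rw [Category.assoc, Category.assoc, ← Ψ.map_comp, hιφ, hlin, comp_smulMod e.inv,
        ← Category.assoc, comp_smulMod (x i), KLin.smul_def]
    rw [Preadditive.sum_comp, Finset.sum_congr rfl (fun i _ => hi i), ← Preadditive.sum_comp, hfx,
      zero_comp]
  -- it comes from `Ψ(ker)`
  let hker := KernelFork.mapIsLimit _ (kernelIsKernel φ) Ψ
  obtain ⟨Z, hZ⟩ : ∃ Z : OX ⟶ Ψ.obj (kernel φ), Z ≫ Ψ.map (kernel.ι φ) = Xt :=
    ⟨hker.lift (KernelFork.ofι Xt hX), hker.fac (KernelFork.ofι Xt hX) WalkingParallelPair.zero⟩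
  -- a presentation of the kernel
  obtain ⟨J, π, hπ⟩ :=
    Groth.Agent.Lib.R2H2.PnPullVan.exists_epi_sigma_unit (CommRingCat.of A) (kernel φ)
  let d : J → (SA).Modules := fun _ => OS
  haveI hSig : (∐ d).IsQuasicoherent := isQuasicoherent_sigma d (fun _ => hO)
  have hK' : (kernel π).IsQuasicoherent := isQuasicoherent_kernel π
  let S : ShortComplex (SA).Modules := ShortComplex.mk (kernel.ι π) π (kernel.condition π)
  have hS : S.ShortExact :=
    { exact := ShortComplex.exact_kernel π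
      mono_f := equalizer.ι_mono
      epi_g := hπ }
  have hS' : (S.map Ψ).ShortExact := hS.map_of_exact Ψ
  obtain ⟨W, hW'⟩ : ∃ W : OX ⟶ Ψ.obj (∐ d), W ≫ Ψ.map π = Z :=
    exists_lift_of_subsingleton_H1 (S.map Ψ) hS' (hH1 _ hK') Z
  -- finite decomposition
  haveI := hcop J
  let cΨ : Ψ.obj (∐ d) ≅ ∐ (fun j => Ψ.obj (d j)) := PreservesCoproduct.iso Ψ d
  obtain ⟨T, hT⟩ := exists_finset_sum (fun j => Ψ.obj (d j)) U hcov hU (fun j => hqc _ hO)
    (W ≫ cΨ.hom)
  obtain ⟨w, hw⟩ : ∃ w : J → (OX ⟶ Ψ.obj OS),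
      ∀ j, w j = (W ≫ cΨ.hom) ≫ Sigma.π (fun j => Ψ.obj (d j)) j := ⟨_, fun _ => rfl⟩
  have hιc : ∀ j, Sigma.ι (fun j => Ψ.obj (d j)) j ≫ cΨ.inv = Ψ.map (Sigma.ι d j) := fun j =>
    ι_comp_sigmaComparison Ψ d j
  have hW2 : W = ∑ j ∈ T, w j ≫ Ψ.map (Sigma.ι d j) := by
    have h1 : W = (W ≫ cΨ.hom) ≫ cΨ.inv := by
      rw [Category.assoc, Iso.hom_inv_id, Category.comp_id]
    have h2 : (W ≫ cΨ.hom) ≫ cΨ.inv = ∑ j ∈ T, (w j ≫ Sigma.ι (fun j => Ψ.obj (d j)) j) ≫ cΨ.inv := by
      rw [← Preadditive.sum_comp]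
      refine congrArg (· ≫ cΨ.inv) (hT.trans (Finset.sum_congr rfl (fun j _ => ?_)))
      rw [hw]
    rw [h1, h2]
    refine Finset.sum_congr rfl (fun j _ => ?_)
    rw [Category.assoc, hιc]
  -- the scalars
  have hg : ∀ (j : J) (i : Fin l), ∃ a : A,
      Sigma.ι d j ≫ π ≫ kernel.ι φ ≫ biproduct.π c i = Formal.smulMod A OS a := fun j i =>
    exists_smulMod_eq A _
  choose a ha using hg
  have ha' : ∀ (j : J) (i : Fin l),
      (Sigma.ι d j ≫ π ≫ kernel.ι φ) ≫ biproduct.π c i = Formal.smulMod A OS (a j i) := by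
    intro j i
    rw [← ha j i]
    simp only [Category.assoc]
  have hrel : ∀ j, ∑ i, f i * a j i = 0 := by
    intro j
    apply eq_zero_of_smulMod_eq_zero A
    have h0 : (Sigma.ι d j ≫ π ≫ kernel.ι φ) ≫ φ = 0 := by
      rw [Category.assoc, Category.assoc, kernel.condition, comp_zero, comp_zero]
    have h1 : (Sigma.ι d j ≫ π ≫ kernel.ι φ) ≫ φ =
        ∑ i, ((Sigma.ι d j ≫ π ≫ kernel.ι φ) ≫ biproduct.π c i) ≫ (biproduct.ι c i ≫ φ) := by
      have h2 : (Sigma.ι d j ≫ π ≫ kernel.ι φ) ≫ φ =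
          (Sigma.ι d j ≫ π ≫ kernel.ι φ) ≫ (∑ i, biproduct.π c i ≫ biproduct.ι c i) ≫ φ := by
        rw [biproduct.total, Category.id_comp]
      rw [h2, Preadditive.sum_comp, Preadditive.comp_sum]
      refine Finset.sum_congr rfl (fun i _ => ?_)
      simp only [Category.assoc]
    rw [smulMod_sum, ← h0, h1]
    refine Finset.sum_congr rfl (fun i _ => ?_)
    rw [ha', hιφ, mul_comm, smulMod_mul]
  have hx : ∀ i, x i = ∑ j ∈ T, a j i • (w j ≫ e.hom) := by
    intro i
    have h1 : Xt ≫ Ψ.map (biproduct.π c i) ≫ e.hom = x i := by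
      rw [hXt, Preadditive.sum_comp, Finset.sum_eq_single i]
      · rw [Category.assoc, Category.assoc, ← Ψ.map_comp_assoc, biproduct.ι_π_self, Ψ.map_id,
          Category.id_comp, Iso.inv_hom_id, Category.comp_id]
      · intro i' _ hne
        rw [Category.assoc, Category.assoc, ← Ψ.map_comp_assoc, biproduct.ι_π_ne _ hne,
          Ψ.map_zero, zero_comp, comp_zero, comp_zero]
      · intro h
        exact absurd (Finset.mem_univ i) h
    have h2 : ∀ j, w j ≫ Ψ.map (Sigma.ι d j ≫ π ≫ kernel.ι φ ≫ biproduct.π c i) ≫ e.hom =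
        a j i • (w j ≫ e.hom) := by
      intro j
      rw [ha, hlin, ← Category.assoc, comp_smulMod (w j), Category.assoc, KLin.smul_def]
    have h3 : Xt ≫ Ψ.map (biproduct.π c i) ≫ e.hom =
        ∑ j ∈ T, w j ≫ Ψ.map (Sigma.ι d j ≫ π ≫ kernel.ι φ ≫ biproduct.π c i) ≫ e.hom := by
      rw [← hZ, ← hW', hW2]
      simp only [Category.assoc, Preadditive.sum_comp, Functor.map_comp]
    rw [← h1, h3]
    exact Finset.sum_congr rfl (fun j _ => h2 j)
  refine ⟨T.card, fun i t => a (T.equivFin.symm t).1 i,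
    fun t => w (T.equivFin.symm t).1 ≫ e.hom, ?_, ?_⟩
  · intro i
    rw [hx i, ← Finset.sum_coe_sort T (fun j => a j i • (w j ≫ e.hom))]
    exact (Equiv.sum_comp T.equivFin.symm (fun j : T => a j.1 i • (w j.1 ≫ e.hom))).symm
  · intro t
    exact hrel _

end Main

end Groth.Agent.Lib.R2H2.EWFlat
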