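import Mathlib
import Groth.Agent.Lib.R2H1IsoP1F
import Groth.Agent.Lib.R2H1ZeroDimCoh
import Groth.Agent.Lib.R2H2EWFlat
import Groth.Agent.Lib.Helper4NormCurve
import Groth.Agent.Lib.Helper4NormalLocus
import Groth.Agent.Lib.R2H1SubDegBound
set_option backward.isDefEq.respectTransparency.types false

/-!
helper1 (run 2): genus-zero curves over an infinite field: Picard group generated by a regular closed point of minimal degree. API: exists_gen_section (genus 0: invertible module with a nonzero section is generated by global sections at every point), mem_genLocus_iff_isUnit, coef_add_smul, bad_subsingleton, exists_gen_finset (infinite field: simultaneous generation at finitely many points), deg_point_le (section vanishing at a DVR closed point: deg point le deg module), exists_open_normal (nonempty open of normal points, any field), isRegularLocalRing_of_normal_closed, finite_not_regular, exists_regular_closed, notMem_genLocus_zero, exists_section_of_deg_nonneg, exists_section_gen_finset, exists_regular_zero,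 exists_minimal_regular, s16302, deg_tensor, exists_twist, s16301.
-/

set_option autoImplicit false
set_option linter.style.haveILetI false
set_option linter.unusedSectionVars false
universe u v

open CategoryTheory CategoryTheory.Limits AlgebraicGeometry TopologicalSpace Opposite

namespace Groth.Agent.Lib.R2H1.GenusZeroPic

section Part1

open Groth.Agent.Lib.Helper23.SecTw Groth.Agent.Lib.Helper23.GenLocus Groth.Agent.Lib.Helper6
open Groth.Agent.Lib.R2H1.CurveEuler Groth.Agent.Lib.R2H1.CurveDegSec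
  Groth.Agent.Lib.R2H1.GenusLe Groth.Agent.Lib.R2H1.InvHom Groth.Agent.Lib.R2H1.IsoP1B

variable (k : Type u) [Field k] (X : Scheme.{u}) [X.Over (Spec (CommRingCat.of k))]
    [IsIntegral X] [IsProper (X ↘ (Spec (CommRingCat.of k)))]

include k in
/-- on a genus zero curve an invertible module with a nonzero section is generated by global
sections at every point -/
theorem exists_gen_section (hdim : topologicalKrullDim X = 1)
    (h1 : Subsingleton (Coh.HH X (Coh.structureModule X) 1))
    (N : X.Modules) (hN : PicF.IsInvertible N) (s : Coh.structureModule X ⟶ N) (hs : s ≠ 0)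
    (y : X) : ∃ t : Coh.structureModule X ⟶ N, y ∈ CohB1.genLocus N t := by
  haveI := isNoetherian_of_proper k X
  by_cases hy : y ∈ CohB1.genLocus N s
  · exact ⟨s, hy⟩
  have hO := Groth.Agent.Lib.Helper23.TensorUnit.isInvertible_structureModule X
  haveI : Mono s := mono_of_ne_zero hO hN s hs
  have cN := isCoh_of_isInvertible N hN
  have cO := isCoh_structureModule X
  have cT : Coh.IsCoh (cokernel s) := Groth.Agent.Lib.R2H2.NilFilt.isCoh_cokernel cO cN s
  have hcl : IsClosed (CohB1.support (cokernel s)) := Groth.Agent.S0020.result X _ cT.2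
  obtain ⟨W₀, ⟨x, hx⟩, hW₀⟩ := exists_open_stalk_cokernel hO hN s hs
  have hne : CohB1.support (cokernel s) ≠ Set.univ := by
    intro h
    have : x ∈ CohB1.support (cokernel s) := h ▸ Set.mem_univ x
    exact this (hW₀ x hx)
  have hsuppT : topologicalKrullDim (CohB1.support (cokernel s)) ≤ 0 :=
    dim_le_zero_of_ne_univ hdim.le _ hcl hne
  have hfl := Groth.Agent.Lib.R2H1.ZeroDimCoh.isFlasque_toAb_of_dim_support_le_zero X
    (cokernel s) cT hsuppT
  obtain ⟨W, e, hyW, he⟩ := exists_gen N hN y
  have hepi := hfl.epi (homOfLE (le_top : W ≤ ⊤)).op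
  rw [AddCommGrpCat.epi_iff_surjective] at hepi
  obtain ⟨τ', hτ'⟩ := hepi ((cokernel.π s).app W e)
  obtain ⟨S, hSdef⟩ : ∃ S : ShortComplex X.Modules,
      S = ShortComplex.mk s (cokernel.π s) (cokernel.condition s) := ⟨_, rfl⟩
  have hS : S.ShortExact := by
    subst hSdef
    exact { exact := ShortComplex.exact_cokernel s
            mono_f := inferInstanceAs (Mono s)
            epi_g := inferInstanceAs (Epi (cokernel.π s)) }
  have h1' : Subsingleton (Coh.HH X S.X₁ (0 + 1)) := by subst hSdef; exact h1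
  obtain ⟨t, ht⟩ := Groth.Agent.Lib.R2H2.EWFlat.exists_lift_of_subsingleton_H1 S hS h1'
    (by subst hSdef; exact secHom (cokernel s) τ')
  subst hSdef
  refine ⟨t, ?_⟩
  have hπt : (cokernel.π s).app W (sv t W) = (cokernel.π s).app W e := by
    have h2 : (cokernel.π s).app W (sv t W) = sv (t ≫ cokernel.π s) W := rfl
    rw [h2]
    have h3 : sv (t ≫ cokernel.π s) W = sv (secHom (cokernel s) τ') W :=
      congrArg (fun z => sv z W) ht
    rw [h3, sv_secHom]
    exact hτ'
  have h0 : (cokernel.π s).app W (sv t W - e) = 0 := by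
    rw [map_sub, hπt, sub_self]
  obtain ⟨a, ha⟩ := exists_section_lift (ShortComplex.mk s (cokernel.π s) (cokernel.condition s))
    (ShortComplex.exact_cokernel s) W (sv t W - e) h0
  have ha' : s.app W a = sv t W - e := ha
  have h4 : s.app W (toS W (ofS W a)) = ofS W a • sv s W := app_toS s W _
  rw [toS_ofS, ha', sv_eq_coef_smul s he, ← mul_smul] at h4
  have h5 : sv t W = (1 + ofS W a * coef he le_rfl (sv s W)) • e := by
    rw [add_smul, one_smul, ← h4]
    abel
  have h6 : (1 + ofS W a * coef he le_rfl (sv s W)) = coef he le_rfl (sv t W) := by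
    apply coef_unique he le_rfl
    rw [Groth.Agent.Lib.Helper23.SecTw.res_self]
    exact h5.symm
  have h7 := genLocus_inf_eq_coef t he
  have h8 := genLocus_inf_eq_coef s he
  have hyc : y ∉ X.basicOpen (coef he le_rfl (sv s W)) := by
    rw [← h8]
    exact fun h => hy h.1
  rw [Scheme.mem_basicOpen _ _ y hyW] at hyc
  have hyt : y ∈ X.basicOpen (coef he le_rfl (sv t W)) := by
    rw [Scheme.mem_basicOpen _ _ y hyW, ← h6, map_add, map_one, map_mul]
    have hsum : (1 + X.presheaf.germ W y hyW (ofS W a) *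
        X.presheaf.germ W y hyW (coef he le_rfl (sv s W))) +
        (-(X.presheaf.germ W y hyW (ofS W a) *
        X.presheaf.germ W y hyW (coef he le_rfl (sv s W)))) = 1 := by ring
    rcases IsLocalRing.isUnit_or_isUnit_of_add_one hsum with h | h
    · exact h
    · exfalso
      apply hyc
      rw [IsUnit.neg_iff] at h
      exact isUnit_of_mul_isUnit_right h
  rw [← h7] at hyt
  exact hyt.1

end Part1

section Part2

open Groth.Agent.Lib.Helper23.SecTw Groth.Agent.Lib.Helper23.GenLocus Groth.Agent.Lib.Helper6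

section Local

variable {X : Scheme.{u}}

/-- membership in the generating locus through the coefficient in a local frame -/
theorem mem_genLocus_iff_isUnit {N : X.Modules} (t : Coh.structureModule X ⟶ N) {W : X.Opens}
    {e : Γ(N, W)} (he : IsGen N W e) (z : X) (hz : z ∈ W) :
    z ∈ CohB1.genLocus N t ↔ IsUnit (X.presheaf.germ W z hz (coef he le_rfl (sv t W))) := by
  rw [← Scheme.mem_basicOpen _ _ z hz, ← genLocus_inf_eq_coef t he]
  exact ⟨fun h => ⟨h, hz⟩, fun h => h.1⟩

variable (k : Type u) [Field k] [X.Over (Spec (CommRingCat.of k))]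

theorem coef_add_smul {N : X.Modules} (t t' : Coh.structureModule X ⟶ N) (c : k) {W : X.Opens}
    {e : Γ(N, W)} (he : IsGen N W e) :
    coef he le_rfl (sv (t' + c • t) W) = coef he le_rfl (sv t' W) +
      X.presheaf.map (homOfLE (le_top : W ≤ ⊤)).op
        (Coh.toGlobal (X ↘ Spec (CommRingCat.of k)) c) * coef he le_rfl (sv t W) := by
  rw [sv_add, coef_add]
  congr 1
  have h1 : sv (c • t) W = X.presheaf.map (homOfLE (le_top : W ≤ ⊤)).op
        (Coh.toGlobal (X ↘ Spec (CommRingCat.of k)) c) • sv t W :=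
    KLin.smul_app_apply c t W _
  rw [h1, coef_smul]

/-- the set of scalars `c` for which `t' + c • t` fails to generate at `z` has at most one element,
as soon as one of `t`, `t'` generates at `z` -/
theorem bad_subsingleton {N : X.Modules} (hN : PicF.IsInvertible N)
    (t t' : Coh.structureModule X ⟶ N) (z : X)
    (hz : z ∈ CohB1.genLocus N t ∨ z ∈ CohB1.genLocus N t') :
    {c : k | z ∉ CohB1.genLocus N (t' + c • t)}.Subsingleton := by
  obtain ⟨W, e, hzW, he⟩ := exists_gen N hN z
  intro c₁ hc₁ c₂ hc₂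
  simp only [Set.mem_setOf_eq] at hc₁ hc₂
  rw [mem_genLocus_iff_isUnit _ he z hzW, coef_add_smul k t t' _ he, map_add, map_mul] at hc₁ hc₂
  obtain ⟨φ, hφ⟩ : ∃ φ : k →+* X.presheaf.stalk z, φ =
      ((X.presheaf.germ W z hzW).hom.comp (X.presheaf.map (homOfLE (le_top : W ≤ ⊤)).op).hom).comp
        (Coh.toGlobal (X ↘ Spec (CommRingCat.of k))) := ⟨_, rfl⟩
  have hφ' : ∀ c : k, X.presheaf.germ W z hzW (X.presheaf.map (homOfLE (le_top : W ≤ ⊤)).op
      (Coh.toGlobal (X ↘ Spec (CommRingCat.of k)) c)) = φ c := fun c => by rw [hφ]; rfl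
  rw [hφ'] at hc₁ hc₂
  by_cases hzt : z ∈ CohB1.genLocus N t
  · rw [mem_genLocus_iff_isUnit _ he z hzW] at hzt
    by_contra hne
    have hsub : ¬ IsUnit ((X.presheaf.germ W z hzW (coef he le_rfl (sv t' W)) +
        φ c₁ * X.presheaf.germ W z hzW (coef he le_rfl (sv t W))) -
        (X.presheaf.germ W z hzW (coef he le_rfl (sv t' W)) +
        φ c₂ * X.presheaf.germ W z hzW (coef he le_rfl (sv t W)))) := by
      have h1 := mem_nonunits_iff.mpr hc₁
      have h2 := mem_nonunits_iff.mpr hc₂
      rw [← IsLocalRing.mem_maximalIdeal] at h1 h2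
      have h3 := Ideal.sub_mem _ h1 h2
      rw [IsLocalRing.mem_maximalIdeal] at h3
      exact h3
    apply hsub
    have h4 : (X.presheaf.germ W z hzW (coef he le_rfl (sv t' W)) +
        φ c₁ * X.presheaf.germ W z hzW (coef he le_rfl (sv t W))) -
        (X.presheaf.germ W z hzW (coef he le_rfl (sv t' W)) +
        φ c₂ * X.presheaf.germ W z hzW (coef he le_rfl (sv t W))) =
        φ (c₁ - c₂) * X.presheaf.germ W z hzW (coef he le_rfl (sv t W)) := by
      rw [map_sub]; ring
    rw [h4]
    have hu : IsUnit (c₁ - c₂) := (sub_ne_zero.mpr hne).isUnit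
    exact (hu.map φ).mul hzt
  · exfalso
    have hzt' : z ∈ CohB1.genLocus N t' := hz.resolve_left hzt
    rw [mem_genLocus_iff_isUnit _ he z hzW] at hzt hzt'
    apply hc₁
    have h1 : φ c₁ * X.presheaf.germ W z hzW (coef he le_rfl (sv t W)) ∈
        IsLocalRing.maximalIdeal (X.presheaf.stalk z) :=
      Ideal.mul_mem_left _ _ ((IsLocalRing.mem_maximalIdeal _).mpr (mem_nonunits_iff.mpr hzt))
    by_contra hnu
    have h2 := (IsLocalRing.mem_maximalIdeal _).mpr (mem_nonunits_iff.mpr hnu)
    have h3 := Ideal.sub_mem _ h2 h1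
    rw [add_sub_cancel_right, IsLocalRing.mem_maximalIdeal, mem_nonunits_iff] at h3
    exact h3 hzt'

/-- over an infinite field: if every point of a finite set has a section generating there, then
one section generates at all points of the set -/
theorem exists_gen_finset [Infinite k] {N : X.Modules} (hN : PicF.IsInvertible N) (F : Finset X)
    (h : ∀ y ∈ F, ∃ t : Coh.structureModule X ⟶ N, y ∈ CohB1.genLocus N t) :
    ∃ t : Coh.structureModule X ⟶ N, ∀ y ∈ F, y ∈ CohB1.genLocus N t := by
  classical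
  induction F using Finset.induction_on with
  | empty => exact ⟨0, fun y hy => absurd hy (Finset.notMem_empty y)⟩
  | insert y F' hy ih =>
    obtain ⟨t, ht⟩ := ih (fun z hz => h z (Finset.mem_insert_of_mem hz))
    obtain ⟨t', ht'⟩ := h y (Finset.mem_insert_self y F')
    have hfin : (⋃ z ∈ (insert y F' : Finset X),
        {c : k | z ∉ CohB1.genLocus N (t' + c • t)}).Finite := by
      refine Set.Finite.biUnion (Finset.finite_toSet _) fun z hz => ?_
      refine (bad_subsingleton k hN t t' z ?_).finite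
      rcases Finset.mem_insert.mp hz with rfl | hz'
      · exact Or.inr ht'
      · exact Or.inl (ht z hz')
    obtain ⟨c, hc⟩ := hfin.exists_notMem
    refine ⟨t' + c • t, fun z hz => ?_⟩
    by_contra hcon
    exact hc (Set.mem_biUnion hz hcon)

end Local

end Part2

section Part3

open Groth.Agent.Lib.R2H1.PicLaw
open Groth.Agent.Lib.R2H1.CurveEuler Groth.Agent.Lib.R2H1.CurveDegSec
  Groth.Agent.Lib.R2H1.EulerAdd Groth.Agent.Lib.R2H2.HHLin Groth.Agent.Lib.R2H2.PnLinRes
  Groth.Agent.Lib.R2H1.GenusLe Groth.Agent.Lib.R2H1.RegPoint Groth.Agent.Lib.R2H1.DegCartier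
open Groth.Agent.Lib.R2H1.InvHom Groth.Agent.Lib.R2H2.DevA Groth.Agent.Lib.R2H1.LiftZero

variable (k : Type u) [Field k] (X : Scheme.{u}) [X.Over (Spec (CommRingCat.of k))]
    [IsIntegral X] [IsProper (X ↘ (Spec (CommRingCat.of k)))]

/-- a nonzero section of an invertible module vanishing at a closed point with DVR local ring:
the degree of the point is at most the degree of the module -/
theorem deg_point_le (hdim : topologicalKrullDim X = 1)
    (N : X.Modules) (hN : PicF.IsInvertible N) (t : Coh.structureModule X ⟶ N) (ht : t ≠ 0)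
    (Q : X) (hQ : IsClosed ({Q} : Set X)) [IsDiscreteValuationRing (X.presheaf.stalk Q)]
    (hQt : Q ∉ CohB1.genLocus N t) :
    (Module.finrank k (Coh.HH X
      (ClSub.quotMod (Scheme.IdealSheafData.vanishingIdeal ⟨{Q}, hQ⟩)) 0) : ℤ) ≤
      Curv2.deg k X N 1 := by
  haveI := isNoetherian_of_proper k X
  obtain ⟨D, hDdef⟩ : ∃ D : X.IdealSheafData, D = Scheme.IdealSheafData.vanishingIdeal ⟨{Q}, hQ⟩ :=
    ⟨_, rfl⟩
  have hD : BlowUp.IsEffCartierIdeal D := by
    rw [hDdef]; exact isEffCartier_vanishingIdeal_singleton X Q hQ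
  have hI : PicF.IsInvertible (ClSub.idealMod D) :=
    Groth.Agent.Helper18Cart.isInvertible_of_isEffCartier D hD
  have hvan : ∀ x ∈ D.support, ∃ (U : X.affineOpens) (t' : Γ(N, U.1)) (a : Γ(X, U.1)),
      x ∈ U.1 ∧ Groth.Agent.Lib.Helper23.SecTw.sv t U.1 = a • t' ∧ a ∈ D.ideal U := by
    intro x hx
    have hsuppD : (D.support : Set X) = {Q} := by
      rw [hDdef]; exact Scheme.IdealSheafData.coe_support_vanishingIdeal _
    have hxP : x = Q := by
      have : x ∈ (D.support : Set X) := hx
      rw [hsuppD] at this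
      exact this
    subst hxP
    rw [hDdef]
    exact exists_vanishing_data N hN t x hQ hQt
  rw [← hDdef]
  have hN1 : FlatMod.IsFinLocFreeOfRank 1 N :=
    Groth.Agent.Lib.Helper23.SecTw.isFinLocFreeOfRank_one_of_isInvertible N hN
  have hNf : FlatMod.IsFinLocFree N := fun y => by
    obtain ⟨V, hy, e⟩ := hN1 y
    exact ⟨V, 1, hy, e⟩
  have hfl := Groth.Agent.Lib.R2H2.PullLF.isFlat_of_isFinLocFree N hNf
  have hS : ((idealSeq D).map (DCoh.tensorBi.obj N)).ShortExact :=
    Groth.Agent.Lib.R2Lead.TensorExact.shortExact_map_tensorBi N (fun y => hfl y)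
      (idealSeq D) (idealSeq_shortExact D)
  have hX₁ : PicF.IsInvertible (CohB1.tensorMod N (ClSub.idealMod D)) :=
    Groth.Agent.Lib.Helper23.SecTw.isInvertible_tensorMod hN hI
  have c₁' : Coh.IsCoh (CohB1.tensorMod N (ClSub.idealMod D)) := isCoh_of_isInvertible _ hX₁
  have cQ : Coh.IsCoh (ClSub.quotMod D) :=
    Groth.Agent.S0019.result D.subschemeι _ (isCoh_structureModule _)
  have hsuppD : (D.support : Set X) = {Q} := by
    rw [hDdef]; exact Scheme.IdealSheafData.coe_support_vanishingIdeal _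
  have hdimD : topologicalKrullDim (D.support : Set X) ≤ 0 := by
    rw [hsuppD]
    exact Groth.Agent.Lib.R2H1.H0One.topologicalKrullDim_le_zero_of_subsingleton _
  have hsuppQ : topologicalKrullDim (CohB1.support (ClSub.quotMod D)) ≤ 0 :=
    le_trans (Topology.IsInducing.topologicalKrullDim_le
      (Topology.IsEmbedding.inclusion (support_quotMod_subset D)).isInducing) hdimD
  have eQ := euler_eq_h0 k X (ClSub.quotMod D) cQ hsuppQ
  have main := euler_tensor_ideal k X D 1 N hN1 cQ hsuppQ c₁'
  obtain ⟨σ, hσ⟩ := exists_lift D N hS t hvan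
  have hσ0 : σ ≠ 0 := by
    intro h
    apply ht
    rw [h, zero_comp] at hσ
    have h6 : (t ≫ (SecTwist.unitorR N).inv) ≫ (SecTwist.unitorR N).hom = 0 :=
      (congrArg (fun z => z ≫ (SecTwist.unitorR N).hom) hσ.symm).trans zero_comp
    rw [Category.assoc] at h6
    exact ((congrArg (fun z => t ≫ z) (SecTwist.unitorR N).inv_hom_id).trans
      (Category.comp_id t)).symm.trans h6
  have hpos := s1518 k X hdim (CohB1.tensorMod N (ClSub.idealMod D)) hX₁ σ hσ0
  unfold Curv2.deg at hpos ⊢
  rw [main, eQ]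
  push_cast at hpos ⊢
  linarith

end Part3

section Part4

variable (k : Type u) [Field k] (X : Scheme.{u}) [X.Over (Spec (CommRingCat.of k))]
    [IsIntegral X] [LocallyOfFiniteType (X ↘ (Spec (CommRingCat.of k)))]

include k in
/-- an integral scheme locally of finite type over a field has a nonempty open set of points with
integrally closed local ring -/
theorem exists_open_normal :
    ∃ W : X.Opens, (W : Set X).Nonempty ∧
      ∀ x ∈ W, IsIntegrallyClosed (X.presheaf.stalk x) := by
  obtain ⟨x₀⟩ : Nonempty X := inferInstance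
  obtain ⟨U, hU, hxU, -⟩ := exists_isAffineOpen_mem_and_subset (x := x₀) (U := ⊤) trivial
  haveI hne : Nonempty U := ⟨⟨x₀, hxU⟩⟩
  haveI : IsDomain Γ(X, U) := IsIntegral.component_integral (X := X) U
  have hN2 := Groth.Agent.Lib.Helper4.NormCurve.isN2_sections_of_locallyOfFiniteType_field k X U hU
  have hN1 : CAlg.IsN1 Γ(X, U) := Groth.Agent.Lib.Helper14.IsN2.isN1 hN2
  obtain ⟨f, hf0, hf⟩ := Groth.Agent.Lib.Helper4.NormalLocus.exists_isIntegrallyClosed_away
    (R := Γ(X, U)) (K := FractionRing Γ(X, U)) hN1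
  have hne' : ((X.basicOpen f : X.Opens) : Set X).Nonempty := by
    rw [Set.nonempty_iff_ne_empty]
    intro h
    apply hf0
    rw [← basicOpen_eq_bot_iff]
    exact Opens.ext h
  refine ⟨X.basicOpen f, hne', ?_⟩
  intro x hx
  have hW : IsAffineOpen (X.basicOpen f) := hU.basicOpen f
  haveI : Nonempty (X.basicOpen f) := ⟨⟨x, hx⟩⟩
  haveI : IsDomain Γ(X, X.basicOpen f) := IsIntegral.component_integral (X := X) _
  haveI := hU.isLocalization_basicOpen f
  haveI : IsIntegrallyClosed Γ(X, X.basicOpen f) :=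
    IsIntegrallyClosed.of_equiv (IsLocalization.algEquiv (Submonoid.powers f)
      (Localization.Away f) Γ(X, X.basicOpen f)).toRingEquiv
  exact (Groth.Agent.Lib.Helper4.NormCurve.normal_stalk_of_isAffineOpen hW x hx).2

include k in
/-- closed points of an integral curve with integrally closed local ring are regular -/
theorem isRegularLocalRing_of_normal_closed (hdim : topologicalKrullDim X = 1) (x : X)
    (hx : IsClosed ({x} : Set X)) (hn : IsIntegrallyClosed (X.presheaf.stalk x)) :
    IsRegularLocalRing (X.presheaf.stalk x) := by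
  haveI : IsLocallyNoetherian X :=
    LocallyOfFiniteType.isLocallyNoetherian (X ↘ Spec (CommRingCat.of k))
  haveI := Groth.Agent.Lib.R2H1.IsoP1D.isDVR_of_normal_closed hdim x hx hn
  infer_instance

include k in
/-- an integral curve of finite type over a field has finitely many closed points with
non-regular local ring -/
theorem finite_not_regular [QuasiCompact (X ↘ (Spec (CommRingCat.of k)))]
    (hdim : topologicalKrullDim X = 1) :
    {x : X | IsClosed ({x} : Set X) ∧ ¬ IsRegularLocalRing (X.presheaf.stalk x)}.Finite := by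
  haveI : CompactSpace X :=
    QuasiCompact.compactSpace_of_compactSpace (X ↘ Spec (CommRingCat.of k))
  haveI : IsLocallyNoetherian X :=
    LocallyOfFiniteType.isLocallyNoetherian (X ↘ Spec (CommRingCat.of k))
  haveI : IsNoetherian X := {}
  obtain ⟨W, ⟨w, hw⟩, hW⟩ := exists_open_normal k X
  have hcl : IsClosed ((W : Set X)ᶜ) := W.isOpen.isClosed_compl
  have hne : ((W : Set X)ᶜ) ≠ Set.univ := by
    intro h
    have : w ∈ ((W : Set X)ᶜ) := h ▸ Set.mem_univ w
    exact this hw
  have hd := Groth.Agent.Lib.R2H1.CurveDegSec.dim_le_zero_of_ne_univ hdim.le _ hcl hne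
  haveI := Groth.Agent.Lib.R2H1.ZeroDimCoh.finite_of_dim_le_zero hd
  have hfin : ((W : Set X)ᶜ).Finite := Set.toFinite _
  refine hfin.subset ?_
  rintro x ⟨hxc, hxr⟩ hxW
  exact hxr (isRegularLocalRing_of_normal_closed k X hdim x hxc (hW x hxW))

include k in
/-- an integral curve of finite type over a field has a closed point with regular local ring -/
theorem exists_regular_closed (hdim : topologicalKrullDim X = 1) :
    ∃ x : X, IsClosed ({x} : Set X) ∧ IsRegularLocalRing (X.presheaf.stalk x) := by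
  haveI : JacobsonSpace X := LocallyOfFiniteType.jacobsonSpace (X ↘ Spec (CommRingCat.of k))
  obtain ⟨W, hne, hW⟩ := exists_open_normal k X
  obtain ⟨x, hxW, hxc⟩ := nonempty_inter_closedPoints hne W.isOpen.isLocallyClosed
  exact ⟨x, hxc, isRegularLocalRing_of_normal_closed k X hdim x hxc (hW x hxW)⟩

end Part4

section Part5


open Groth.Agent.Lib.Helper23.SecTw Groth.Agent.Lib.Helper23.GenLocus Groth.Agent.Lib.Helper6
open Groth.Agent.Lib.R2H1.CurveEuler Groth.Agent.Lib.R2H1.CurveDegSec
  Groth.Agent.Lib.R2H1.GenusLe Groth.Agent.Lib.R2H1.EulerAdd Groth.Agent.Lib.R2H1.DegCartier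

/-- the zero section generates nowhere -/
theorem notMem_genLocus_zero {X : Scheme.{u}} {N : X.Modules} (hN : PicF.IsInvertible N) (z : X) :
    z ∉ CohB1.genLocus N (0 : Coh.structureModule X ⟶ N) := by
  obtain ⟨W, e, hzW, he⟩ := exists_gen N hN z
  rw [mem_genLocus_iff_isUnit _ he z hzW]
  have h0 : (0 : Γ(X, W)) = coef he le_rfl (sv (0 : Coh.structureModule X ⟶ N) W) := by
    apply coef_unique he le_rfl
    rw [zero_smul]
    rfl
  rw [← h0, map_zero]
  exact not_isUnit_zero

variable (k : Type u) [Field k] (X : Scheme.{u}) [X.Over (Spec (CommRingCat.of k))]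
    [IsIntegral X] [IsProper (X ↘ (Spec (CommRingCat.of k)))]

/-- genus zero: an invertible module of nonnegative degree has a nonzero section -/
theorem exists_section_of_deg_nonneg (hdim : topologicalKrullDim X = 1)
    (h1 : Subsingleton (Coh.HH X (Coh.structureModule X) 1))
    (N : X.Modules) (hN : PicF.IsInvertible N) (hdeg : 0 ≤ Curv2.deg k X N 1) :
    ∃ s : Coh.structureModule X ⟶ N, s ≠ 0 := by
  haveI := isNoetherian_of_proper k X
  have cN := isCoh_of_isInvertible N hN
  have cO := isCoh_structureModule X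
  have eN := euler_eq_h0_sub_h1 k X hdim.le N cN.1
  have eO := euler_eq_h0_sub_h1 k X hdim.le _ cO.1
  have h0 := Groth.Agent.Lib.R2H1.SubDegBound.h0_structure_pos k X
  have h1' : Module.finrank k (Coh.HH X (Coh.structureModule X) 1) = 0 :=
    Module.finrank_zero_of_subsingleton
  unfold Curv2.deg at hdeg
  rw [eN, eO, h1'] at hdeg
  push_cast at hdeg
  refine Groth.Agent.Lib.R2H1.GenusZero.exists_section_of_pos k X N cN ?_
  omega

/-- genus zero over an infinite field: an invertible module of nonnegative degree has a nonzero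
section generating at all points of a given finite set -/
theorem exists_section_gen_finset [Infinite k] (hdim : topologicalKrullDim X = 1)
    (h1 : Subsingleton (Coh.HH X (Coh.structureModule X) 1))
    (N : X.Modules) (hN : PicF.IsInvertible N) (hdeg : 0 ≤ Curv2.deg k X N 1) (F : Finset X) :
    ∃ t : Coh.structureModule X ⟶ N, t ≠ 0 ∧ ∀ y ∈ F, y ∈ CohB1.genLocus N t := by
  classical
  obtain ⟨s, hs⟩ := exists_section_of_deg_nonneg k X hdim h1 N hN hdeg
  obtain ⟨x₀⟩ : Nonempty X := inferInstance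
  obtain ⟨t, ht⟩ := exists_gen_finset k hN (insert x₀ F)
    (fun y _ => exists_gen_section k X hdim h1 N hN s hs y)
  refine ⟨t, ?_, fun y hy => ht y (Finset.mem_insert_of_mem hy)⟩
  intro h
  have := ht x₀ (Finset.mem_insert_self _ _)
  rw [h] at this
  exact notMem_genLocus_zero hN x₀ this

/-- genus zero over an infinite field: an invertible module of positive degree has a section
vanishing at a regular closed point outside a given finite set containing the non-regular closed
points; the degree of this point is at most the degree of the module -/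
theorem exists_regular_zero [Infinite k] (hdim : topologicalKrullDim X = 1)
    (h1 : Subsingleton (Coh.HH X (Coh.structureModule X) 1))
    (N : X.Modules) (hN : PicF.IsInvertible N) (hdeg : 0 < Curv2.deg k X N 1) (F : Finset X)
    (hF : ∀ x : X, IsClosed ({x} : Set X) → ¬ IsRegularLocalRing (X.presheaf.stalk x) → x ∈ F) :
    ∃ (Q : X) (hQ : IsClosed ({Q} : Set X)), Q ∉ F ∧ IsRegularLocalRing (X.presheaf.stalk Q) ∧
      (Module.finrank k (Coh.HH X
        (ClSub.quotMod (Scheme.IdealSheafData.vanishingIdeal ⟨{Q}, hQ⟩)) 0) : ℤ) ≤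
        Curv2.deg k X N 1 := by
  obtain ⟨t, ht0, ht⟩ := exists_section_gen_finset k X hdim h1 N hN hdeg.le F
  obtain ⟨Q, hQ, hQt⟩ := Groth.Agent.Lib.R2H1.IsoP1C.exists_closed_notMem_genLocus' k X N hN t ht0
    hdeg.ne'
  have hQF : Q ∉ F := fun h => hQt (ht Q h)
  have hreg : IsRegularLocalRing (X.presheaf.stalk Q) := by
    by_contra hcon
    exact hQF (hF Q hQ hcon)
  haveI : IsDiscreteValuationRing (X.presheaf.stalk Q) :=
    Groth.Agent.Lib.R2LeadSmoothPSB.isDVR_of_regular_dim_one _
      (Groth.Agent.Lib.Helper8CurveEt.ringKrullDim_stalk_eq_one hdim Q hQ)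
  exact ⟨Q, hQ, hQF, hreg, deg_point_le k X hdim N hN t ht0 Q hQ hQt⟩

end Part5

section Part6


variable (k : Type u) [Field k] (X : Scheme.{u}) [X.Over (Spec (CommRingCat.of k))]
    [IsIntegral X] [IsProper (X ↘ (Spec (CommRingCat.of k)))]

/-- there is a regular closed point of minimal degree -/
theorem exists_minimal_regular (hdim : topologicalKrullDim X = 1) :
    ∃ (P : X) (hPc : IsClosed ({P} : Set X)), IsRegularLocalRing (X.presheaf.stalk P) ∧
      ∀ (Q : X) (hQc : IsClosed ({Q} : Set X)), IsRegularLocalRing (X.presheaf.stalk Q) →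
        Module.finrank k (Coh.HH X (ClSub.quotMod
          (Scheme.IdealSheafData.vanishingIdeal ⟨{P}, hPc⟩)) 0) ≤
        Module.finrank k (Coh.HH X (ClSub.quotMod
          (Scheme.IdealSheafData.vanishingIdeal ⟨{Q}, hQc⟩)) 0) := by
  obtain ⟨x₀, hx₀c, hx₀r⟩ := exists_regular_closed k X hdim
  let S : Set ℕ := {n | ∃ (Q : X) (hQc : IsClosed ({Q} : Set X)),
    IsRegularLocalRing (X.presheaf.stalk Q) ∧
      Module.finrank k (Coh.HH X (ClSub.quotMod
        (Scheme.IdealSheafData.vanishingIdeal ⟨{Q}, hQc⟩)) 0) = n}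
  have hne : S.Nonempty := ⟨_, x₀, hx₀c, hx₀r, rfl⟩
  obtain ⟨P, hPc, hPr, hPd⟩ := Nat.sInf_mem hne
  refine ⟨P, hPc, hPr, fun Q hQc hQr => ?_⟩
  rw [hPd]
  exact Nat.sInf_le ⟨Q, hQc, hQr, rfl⟩

/-- S16302 -/
theorem s16302 [Infinite k] (hdim : topologicalKrullDim X = 1)
    (h1 : Subsingleton (Coh.HH X (Coh.structureModule X) 1)) :
    {P : X | ∃ hPc : IsClosed ({P} : Set X), IsRegularLocalRing (X.presheaf.stalk P) ∧
      ∀ (Q : X) (hQc : IsClosed ({Q} : Set X)), IsRegularLocalRing (X.presheaf.stalk Q) →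
        Module.finrank k (Coh.HH X (ClSub.quotMod (Scheme.IdealSheafData.vanishingIdeal ⟨{P}, hPc⟩)) 0) ≤ Module.finrank k (Coh.HH X (ClSub.quotMod (Scheme.IdealSheafData.vanishingIdeal ⟨{Q}, hQc⟩)) 0)}.Infinite := by
  classical
  intro hfin
  have hsing := finite_not_regular k X hdim
  obtain ⟨P, hPc, hPr, hPmin⟩ := exists_minimal_regular k X hdim
  haveI : IsDiscreteValuationRing (X.presheaf.stalk P) :=
    Groth.Agent.Lib.R2LeadSmoothPSB.isDVR_of_regular_dim_one _
      (Groth.Agent.Lib.Helper8CurveEt.ringKrullDim_stalk_eq_one hdim P hPc)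
  obtain ⟨L, hL, -, hdegL⟩ := Groth.Agent.Lib.R2H1.IsoP1D.exists_inverse_point k X hdim P hPc
  have hpos := Groth.Agent.Lib.R2H1.IsoP1B.h0_quotMod_point_pos k X P hPc
  have hdeg : 0 < Curv2.deg k X L 1 := by rw [hdegL]; exact_mod_cast hpos
  obtain ⟨Q, hQ, hQF, hQr, hQd⟩ := exists_regular_zero k X hdim h1 L hL hdeg
    (hsing.toFinset ∪ hfin.toFinset) (fun x hxc hxr => by
      rw [Finset.mem_union, Set.Finite.mem_toFinset]
      exact Or.inl ⟨hxc, hxr⟩)
  apply hQF
  rw [Finset.mem_union, Set.Finite.mem_toFinset, Set.Finite.mem_toFinset]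
  refine Or.inr ⟨hQ, hQr, fun Q' hQ'c hQ'r => ?_⟩
  rw [hdegL] at hQd
  have h2 : Module.finrank k (Coh.HH X (ClSub.quotMod
      (Scheme.IdealSheafData.vanishingIdeal ⟨{Q}, hQ⟩)) 0) ≤
      Module.finrank k (Coh.HH X (ClSub.quotMod
      (Scheme.IdealSheafData.vanishingIdeal ⟨{P}, hPc⟩)) 0) := by exact_mod_cast hQd
  exact h2.trans (hPmin Q' hQ'c hQ'r)

end Part6

section Part7


open Groth.Agent.Lib.R2H1.CurveEuler Groth.Agent.Lib.R2H1.CurveDegSec
  Groth.Agent.Lib.R2H1.GenusLe Groth.Agent.Lib.R2H1.EulerAdd Groth.Agent.Lib.R2H1.DegCartier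
open Groth.Agent.Lib.R2H1.PicLaw

variable (k : Type u) [Field k] (X : Scheme.{u}) [X.Over (Spec (CommRingCat.of k))]
    [IsIntegral X] [IsProper (X ↘ (Spec (CommRingCat.of k)))]

/-- additivity of the degree on invertible modules -/
theorem deg_tensor (hdim : topologicalKrullDim X = 1) (L M : X.Modules)
    (hL : PicF.IsInvertible L) (hM : PicF.IsInvertible M) :
    Curv2.deg k X (CohB1.tensorMod L M) 1 = Curv2.deg k X L 1 + Curv2.deg k X M 1 := by
  have h := Groth.Agent.Lib.R2H1.DegTensor.s7637 k X hdim.le 1 1 L M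
    (Groth.Agent.Lib.Helper23.SecTw.isFinLocFreeOfRank_one_of_isInvertible L hL)
    (Groth.Agent.Lib.Helper23.SecTw.isFinLocFreeOfRank_one_of_isInvertible M hM)
  have h' : Curv2.deg k X (CohB1.tensorMod L M) 1 =
      1 * Curv2.deg k X M 1 + 1 * Curv2.deg k X L 1 := h
  rw [h']
  ring

/-- twisting by integer powers of an invertible module `I` with inverse `L` -/
theorem exists_twist [PicGrp.Law X] (hdim : topologicalKrullDim X = 1)
    (I L : X.Modules) (hI : PicF.IsInvertible I) (hL : PicF.IsInvertible L)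
    (e : CohB1.tensorMod L I ≅ Coh.structureModule X)
    (M : X.Modules) (hM : PicF.IsInvertible M) (q : ℤ) :
    ∃ (N : X.Modules) (hN : PicF.IsInvertible N),
      PicGrp.cls N hN = PicGrp.cls M hM * PicGrp.cls I hI ^ q ∧
      Curv2.deg k X N 1 = Curv2.deg k X M 1 - q * Curv2.deg k X L 1 := by
  have hdegI : Curv2.deg k X I 1 = - Curv2.deg k X L 1 := by
    have h := deg_tensor k X hdim L I hL hI
    have h0 : Curv2.deg k X (CohB1.tensorMod L I) 1 = 0 := by
      unfold Curv2.deg
      rw [euler_congr k e]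
      push_cast; ring
    rw [h0] at h
    linarith
  have hinv : PicGrp.cls L hL = (PicGrp.cls I hI)⁻¹ :=
    (PicGrp.cls_inv_eq_cls hI hL ⟨commI I L ≪≫ e⟩).symm
  induction q using Int.induction_on with
  | zero => exact ⟨M, hM, by rw [zpow_zero, mul_one], by ring⟩
  | succ i ih =>
    obtain ⟨N, hN, hcls, hdeg⟩ := ih
    refine ⟨CohB1.tensorMod N I, Groth.Agent.Lib.Helper23.SecTw.isInvertible_tensorMod hN hI,
      ?_, ?_⟩
    · have h1 : PicGrp.cls (CohB1.tensorMod N I)
          (Groth.Agent.Lib.Helper23.SecTw.isInvertible_tensorMod hN hI) =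
          PicGrp.cls N hN * PicGrp.cls I hI :=
        Subtype.ext (PicGrp.cls_mul_cls_val hN hI).symm
      rw [h1, hcls, zpow_add_one, mul_assoc]
    · rw [deg_tensor k X hdim N I hN hI, hdeg, hdegI]
      push_cast
      ring
  | pred i ih =>
    obtain ⟨N, hN, hcls, hdeg⟩ := ih
    refine ⟨CohB1.tensorMod N L, Groth.Agent.Lib.Helper23.SecTw.isInvertible_tensorMod hN hL,
      ?_, ?_⟩
    · have h1 : PicGrp.cls (CohB1.tensorMod N L)
          (Groth.Agent.Lib.Helper23.SecTw.isInvertible_tensorMod hN hL) =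
          PicGrp.cls N hN * PicGrp.cls L hL :=
        Subtype.ext (PicGrp.cls_mul_cls_val hN hL).symm
      rw [h1, hcls, hinv, zpow_sub_one, mul_assoc]
    · rw [deg_tensor k X hdim N L hN hL, hdeg]
      push_cast
      ring

/-- S16301 -/
theorem s16301 [Infinite k] (hdim : topologicalKrullDim X = 1)
    (h1 : Subsingleton (Coh.HH X (Coh.structureModule X) 1))
    (P : X) (hPc : IsClosed ({P} : Set X)) (hPreg : IsRegularLocalRing (X.presheaf.stalk P))
    (hmin : ∀ (Q : X) (hQc : IsClosed ({Q} : Set X)), IsRegularLocalRing (X.presheaf.stalk Q) →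
      Module.finrank k (Coh.HH X (ClSub.quotMod (Scheme.IdealSheafData.vanishingIdeal ⟨{P}, hPc⟩)) 0) ≤ Module.finrank k (Coh.HH X (ClSub.quotMod (Scheme.IdealSheafData.vanishingIdeal ⟨{Q}, hQc⟩)) 0))
    (hI : PicF.IsInvertible (ClSub.idealMod (Scheme.IdealSheafData.vanishingIdeal ⟨{P}, hPc⟩))) [PicGrp.Law X]
    (c : PicLoc.PicSet X) :
    c ∈ Subgroup.zpowers (PicGrp.cls (ClSub.idealMod (Scheme.IdealSheafData.vanishingIdeal ⟨{P}, hPc⟩)) hI) := by
  classical
  have hsing := finite_not_regular k X hdim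
  haveI : IsDiscreteValuationRing (X.presheaf.stalk P) :=
    Groth.Agent.Lib.R2LeadSmoothPSB.isDVR_of_regular_dim_one _
      (Groth.Agent.Lib.Helper8CurveEt.ringKrullDim_stalk_eq_one hdim P hPc)
  obtain ⟨L, hL, ⟨e⟩, hdegL⟩ := Groth.Agent.Lib.R2H1.IsoP1D.exists_inverse_point k X hdim P hPc
  have hpos := Groth.Agent.Lib.R2H1.IsoP1B.h0_quotMod_point_pos k X P hPc
  obtain ⟨d, hd⟩ : ∃ d : ℕ, d = Module.finrank k (Coh.HH X (ClSub.quotMod
    (Scheme.IdealSheafData.vanishingIdeal ⟨{P}, hPc⟩)) 0) := ⟨_, rfl⟩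
  rw [← hd] at hpos hdegL hmin
  have hdpos : (0 : ℤ) < d := by exact_mod_cast hpos
  obtain ⟨M, hM, rfl⟩ := PicGrp.exists_eq_cls c
  obtain ⟨N, hN, hcls, hdeg⟩ := exists_twist k X hdim _ L hI hL e M hM
    (Curv2.deg k X M 1 / d)
  rw [hdegL] at hdeg
  have hr : Curv2.deg k X N 1 = Curv2.deg k X M 1 % d := by
    rw [hdeg, Int.emod_def]
    ring
  have hr0 : 0 ≤ Curv2.deg k X N 1 := by rw [hr]; exact Int.emod_nonneg _ hdpos.ne'
  have hrd : Curv2.deg k X N 1 < d := by rw [hr]; exact Int.emod_lt_of_pos _ hdpos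
  have hzero : Curv2.deg k X N 1 ≤ 0 := by
    by_contra hcon
    push_neg at hcon
    obtain ⟨Q, hQ, -, hQr, hQd⟩ := exists_regular_zero k X hdim h1 N hN hcon hsing.toFinset
      (fun x hxc hxr => by
        rw [Set.Finite.mem_toFinset]
        exact ⟨hxc, hxr⟩)
    have h2 := hmin Q hQ hQr
    have h3 : (d : ℤ) ≤ Module.finrank k (Coh.HH X (ClSub.quotMod
      (Scheme.IdealSheafData.vanishingIdeal ⟨{Q}, hQ⟩)) 0) := by exact_mod_cast h2
    linarith
  obtain ⟨s, hs⟩ := exists_section_of_deg_nonneg k X hdim h1 N hN hr0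
  obtain ⟨eN⟩ := s1520 k X hdim N hN s hs hzero
  have hone : PicGrp.cls N hN = 1 := (PicGrp.cls_eq_one_iff hN).mpr ⟨eN⟩
  rw [hone] at hcls
  rw [Subgroup.mem_zpowers_iff]
  refine ⟨-(Curv2.deg k X M 1 / d), ?_⟩
  rw [zpow_neg]
  exact (eq_inv_of_mul_eq_one_left hcls.symm).symm

end Part7

end Groth.Agent.Lib.R2H1.GenusZeroPic
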