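import Mathlib
import Groth.Agent.Lib.R2H1BirGenus
import Groth.Agent.Lib.Helper4NormCurve
import Groth.Agent.Lib.R2H1EulerAdd
set_option backward.isDefEq.respectTransparency.types false

/-!
helper1 (run 2): the normalization of an integral proper curve with H1(O)=0 has H1(O)=0 (S16298). API: h1_normalization.
-/

set_option autoImplicit false
set_option linter.style.haveILetI false
set_option linter.unusedSectionVars false
universe u v

open CategoryTheory CategoryTheory.Limits AlgebraicGeometry TopologicalSpace Opposite

namespace Groth.Agent.Lib.R2H1.NormGenusZero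

section Part1

open Groth.Agent.Lib.Helper4.NormCurve Groth.Agent.Lib.R2H1.BirGenus
  Groth.Agent.Lib.R2H1.CurveEuler Groth.Agent.Lib.R2H1.EulerAdd

variable (k : Type u) [Field k] (X : Scheme.{u}) [X.Over (Spec (CommRingCat.of k))]
    [IsIntegral X] [IsProper (X ↘ (Spec (CommRingCat.of k)))]

include k in
/-- the normalization of a genus zero curve has genus zero -/
theorem h1_normalization (hdim : topologicalKrullDim X = 1)
    (h1 : Subsingleton (Coh.HH X (Coh.structureModule X) 1))
    (g : Spec (CommRingCat.of X.functionField) ⟶ X)
    (hg : g = gen X X.functionField (RingHom.id _)) [QuasiCompact g] [QuasiSeparated g] :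
    Subsingleton (Coh.HH g.normalization (Coh.structureModule g.normalization) 1) := by
  have hN2 : ∀ (U : X.Opens), IsAffineOpen U → ∀ (hne : Nonempty ↥U),
      @CAlg.IsN2 Γ(X, U) _ (@IsIntegral.component_integral X _ U hne) := fun U hU hne =>
    isN2_sections_of_locallyOfFiniteType_field k X U hU (hne := hne)
  haveI : IsFinite g.fromNormalization :=
    isFinite_fromNormalization_of_eq X.functionField (RingHom.id _) g hg
      (RingHom.Finite.id _) hN2
  obtain ⟨V, hVne, hV⟩ := exists_isIso_morphismRestrict_of_eq g hg
    (fun U hU hne => @Groth.Agent.Lib.Helper14.IsN2.isN1 _ _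
        (@IsIntegral.component_integral X _ U hne) (hN2 U hU hne))
  letI : g.normalization.Over (Spec (CommRingCat.of k)) :=
    ⟨g.fromNormalization ≫ (X ↘ Spec (CommRingCat.of k))⟩
  have hVd : Dense (V : Set X) := V.isOpen.dense hVne
  have hsurj := surjective_fromNormalization_of_eq X.functionField (RingHom.id _) g hg
  have hV'ne : ((g.fromNormalization ⁻¹ᵁ V : g.normalization.Opens) : Set g.normalization).Nonempty := by
    obtain ⟨v, hv⟩ := hVne
    obtain ⟨y, hy⟩ := hsurj.surj v
    exact ⟨y, by change g.fromNormalization y ∈ V; rw [hy]; exact hv⟩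
  have hV'd : Dense ((g.fromNormalization ⁻¹ᵁ V : g.normalization.Opens) : Set g.normalization) :=
    (g.fromNormalization ⁻¹ᵁ V).isOpen.dense hV'ne
  have hle := genus_le_of_birational k hdim.le g.fromNormalization rfl V hVd hV'd hV
  haveI : IsProper (g.normalization ↘ Spec (CommRingCat.of k)) :=
    isProper_of_comp k g.fromNormalization rfl
  haveI := isNoetherian_of_proper k g.normalization
  have h0 : Curv2.genus k X = 0 := by
    unfold Curv2.genus
    exact Module.finrank_zero_of_subsingleton
  rw [h0] at hle
  have h0' : Module.finrank k (Coh.HH g.normalization (Coh.structureModule g.normalization) 1) = 0 :=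
    Nat.le_zero.mp hle
  haveI := finite_HH k g.normalization _
    (Groth.Agent.Lib.R2H1.GenusLe.isCoh_structureModule g.normalization) 1
  exact Module.finrank_zero_iff.mp h0'

end Part1

end Groth.Agent.Lib.R2H1.NormGenusZero
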