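import Mathlib
import Groth.Agent.Lib.Helper5FFR
import Groth.Agent.Lib.Helper5RLR
import Groth.Agent.Lib.Helper28RegLoc

/-!
# Auslander–Buchsbaum: a regular local ring is a UFD (helper8)

* `invertible_of_locally_principal`: a nonzero ideal of a domain which is locally (at every maximal
  ideal) contained, up to a unit, in the principal ideal of one of its elements is an invertible
  module.
* `ufd_of_isRegularLocalRing`: a regular local ring is a unique factorization domain.
-/

set_option autoImplicit false
universe u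

namespace Groth.Agent.Lib.Helper8.AB

open IsLocalRing

theorem invertible_of_locally_principal {S : Type u} [CommRing S] [IsDomain S] (Q : Ideal S)
    (hQ : Q ≠ ⊥)
    (h : ∀ 𝔫 : Ideal S, 𝔫.IsMaximal → ∃ a ∈ Q, ∃ s ∉ 𝔫, ∀ q ∈ Q, s * q ∈ Ideal.span {a}) :
    Module.Invertible S Q := by
  classical
  set K := FractionRing S with hK
  set I : Submodule S K := Submodule.map (Algebra.linearMap S K) Q with hI
  have hmul : I * (1 / I) = 1 := by
    apply le_antisymm Submodule.mul_one_div_le_one
    rw [Submodule.one_le]
    by_contra h1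
    set J0 : Ideal S := Submodule.comap (Algebra.linearMap S K) (I * (1 / I)) with hJ0
    have hJ0top : J0 ≠ ⊤ := by
      intro htop
      apply h1
      have h1' : (1 : S) ∈ J0 := by rw [htop]; trivial
      rw [hJ0, Submodule.mem_comap, Algebra.linearMap_apply, map_one] at h1'
      exact h1'
    obtain ⟨𝔫, h𝔫, hle⟩ := Ideal.exists_le_maximal J0 hJ0top
    obtain ⟨a, haQ, s, hs, hsq⟩ := h 𝔫 h𝔫
    have ha0 : a ≠ 0 := by
      rintro rfl
      obtain ⟨q, hq, hq0⟩ := Submodule.exists_mem_ne_zero_of_ne_bot hQ
      have h2 := hsq q hq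
      rw [Ideal.span_singleton_eq_bot.mpr rfl, Ideal.mem_bot, mul_eq_zero] at h2
      rcases h2 with h2 | h2
      · exact hs (h2 ▸ zero_mem _)
      · exact hq0 h2
    have ha' : algebraMap S K a ≠ 0 := by
      rw [Ne, map_eq_zero_iff _ (IsFractionRing.injective S K)]
      exact ha0
    have hy : algebraMap S K s / algebraMap S K a ∈ (1 / I : Submodule S K) := by
      rw [Submodule.mem_div_iff_forall_mul_mem]
      rintro _ ⟨q, hq, rfl⟩
      obtain ⟨c, hc⟩ := Ideal.mem_span_singleton'.mp (hsq q hq)
      rw [Submodule.mem_one]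
      refine ⟨c, ?_⟩
      rw [Algebra.linearMap_apply, div_mul_eq_mul_div, eq_div_iff ha', ← map_mul, ← map_mul, hc]
    have hs' : s ∈ J0 := by
      rw [hJ0, Submodule.mem_comap, Algebra.linearMap_apply]
      have h3 : algebraMap S K s = algebraMap S K a * (algebraMap S K s / algebraMap S K a) := by
        rw [mul_div_cancel₀ _ ha']
      rw [h3]
      exact Submodule.mul_mem_mul ⟨a, haQ, rfl⟩ hy
    exact hs (hle hs')
  have hunit : IsUnit I := IsUnit.of_mul_eq_one (1 / I) hmul
  haveI hinv : Module.Invertible S (hunit.unit : Submodule S K) := inferInstance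
  have e1 : (hunit.unit : Submodule S K) ≃ₗ[S] I := LinearEquiv.ofEq _ _ hunit.unit_spec
  have e2 : Q ≃ₗ[S] I :=
    Submodule.equivMapOfInjective (Algebra.linearMap S K) (IsFractionRing.injective S K) Q
  exact Module.Invertible.congr (e1.trans e2.symm)


/-- Local generation of a height one prime at a prime where the local ring is factorial. -/
theorem exists_local_generator {R : Type u} [CommRing R] [IsDomain R] [IsNoetherianRing R]
    (P p : Ideal R) [hPp : P.IsPrime] [hpp : p.IsPrime] (hP1 : P.height = 1)
    [UniqueFactorizationMonoid (Localization.AtPrime p)] :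
    ∃ a ∈ P, ∃ w ∉ p, ∀ q ∈ P, w * q ∈ Ideal.span {a} := by
  classical
  by_cases hle : P ≤ p
  · set T := Localization.AtPrime p with hT
    have hdisj : Disjoint (p.primeCompl : Set R) (P : Set R) :=
      Set.disjoint_left.mpr fun y hy hyP => hy (hle hyP)
    haveI hPT : (P.map (algebraMap R T)).IsPrime :=
      IsLocalization.isPrime_of_isPrime_disjoint p.primeCompl T P hPp hdisj
    have hht : (P.map (algebraMap R T)).height = 1 := by
      rw [IsLocalization.height_map_of_disjoint p.primeCompl P hdisj, hP1]
    obtain ⟨g, hg⟩ := (UniqueFactorizationMonoid.isPrincipal_of_height_eq_one hht).principal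
    have hgmem : g ∈ P.map (algebraMap R T) := by
      rw [hg]; exact Submodule.mem_span_singleton_self g
    obtain ⟨⟨⟨a, haP⟩, t⟩, hat⟩ := (IsLocalization.mem_map_algebraMap_iff p.primeCompl T).mp hgmem
    simp only at hat
    have key : ∀ q ∈ P, ∃ w ∉ p, w * q ∈ Ideal.span {a} := by
      intro q hq
      have hqT : algebraMap R T q ∈ P.map (algebraMap R T) := Ideal.mem_map_of_mem _ hq
      rw [hg] at hqT
      obtain ⟨c, hc⟩ := Submodule.mem_span_singleton.mp hqT
      obtain ⟨⟨b, u⟩, hbu⟩ := IsLocalization.surj p.primeCompl c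
      simp only at hbu
      have h1 : algebraMap R T (q * u * t) = algebraMap R T (b * a) := by
        rw [map_mul, map_mul, map_mul, ← hc, ← hbu, ← hat, smul_eq_mul]
        ring
      obtain ⟨v, hv⟩ := (IsLocalization.eq_iff_exists p.primeCompl T).mp h1
      refine ⟨v * u * t, (v * u * t).2, ?_⟩
      rw [Ideal.mem_span_singleton']
      refine ⟨v * b, ?_⟩
      linear_combination (-1 : R) * hv
    obtain ⟨F, hF⟩ := (IsNoetherian.noetherian P : P.FG)
    have hFP : ∀ f ∈ F, f ∈ P := fun f hf => hF ▸ Submodule.subset_span hf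
    choose w hwp hw using fun f : F => key f.1 (hFP f.1 f.2)
    refine ⟨a, haP, ∏ f ∈ F.attach, w f, ?_, ?_⟩
    · intro hmem
      obtain ⟨f, -, hf⟩ := (Ideal.IsPrime.prod_mem_iff).mp hmem
      exact hwp f hf
    · intro q hq
      rw [← hF] at hq
      induction hq using Submodule.span_induction with
      | mem f hf =>
        rw [← Finset.mul_prod_erase F.attach w (Finset.mem_attach F ⟨f, hf⟩)]
        have h3 : w ⟨f, hf⟩ * (∏ x ∈ F.attach.erase ⟨f, hf⟩, w x) * f =
            (∏ x ∈ F.attach.erase ⟨f, hf⟩, w x) * (w ⟨f, hf⟩ * f) := by ring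
        rw [h3]
        exact Ideal.mul_mem_left _ _ (hw ⟨f, hf⟩)
      | zero => rw [mul_zero]; exact zero_mem _
      | add y z _ _ hy hz => rw [mul_add]; exact add_mem hy hz
      | smul r y _ hy =>
        rw [smul_eq_mul, mul_left_comm]
        exact Ideal.mul_mem_left _ _ hy
  · obtain ⟨a, haP, hap⟩ := SetLike.not_le_iff_exists.mp hle
    exact ⟨a, haP, a, hap, fun q _ => Ideal.mem_span_singleton'.mpr ⟨q, mul_comm q a⟩⟩

theorem ufd_aux (d : ℕ) : ∀ (R : Type u) [CommRing R] [IsRegularLocalRing R],
    ringKrullDim R = d → ∀ [IsDomain R], UniqueFactorizationMonoid R := by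
  induction d using Nat.strong_induction_on with
  | _ d ih =>
  intro R _ _ hd _
  by_cases hm : maximalIdeal R = ⊥
  · rw [UniqueFactorizationMonoid.iff_exists_prime_mem_of_isPrime]
    intro I hI hIp
    exact absurd (le_bot_iff.mp (hm ▸ le_maximalIdeal hIp.ne_top)) hI
  · have hex : ∃ x ∈ maximalIdeal R, x ∉ maximalIdeal R ^ 2 := by
      by_contra hcon
      push Not at hcon
      apply hm
      have hle : maximalIdeal R ≤ maximalIdeal R • maximalIdeal R := by
        intro y hy
        have := hcon y hy
        rwa [pow_two] at this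
      exact Submodule.eq_bot_of_le_smul_of_le_jacobson_bot _ _ (IsNoetherian.noetherian _) hle
        (by rw [IsLocalRing.jacobson_eq_maximalIdeal ⊥ bot_ne_top])
    obtain ⟨x, hxm, hx2⟩ := hex
    have hxne : Ideal.span {x} ≠ ⊤ :=
      ne_top_of_le_ne_top (maximalIdeal.isMaximal R).ne_top
        ((Ideal.span_singleton_le_iff_mem _).mpr hxm)
    haveI : IsLocalRing (R ⧸ Ideal.span {x}) := Groth.Agent.Lib.Helper5.isLocalRing_quotient hxne
    obtain ⟨hreg, hdim⟩ :=
      Groth.Agent.Lib.Helper5.isRegularLocalRing_quotient_span_singleton hxm hx2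
    haveI := Groth.Agent.Lib.Helper5.isDomain_of_isRegularLocalRing (R ⧸ Ideal.span {x})
    have hx0 : x ≠ 0 := by
      rintro rfl
      exact hx2 (zero_mem _)
    have hxprime : Prime x := by
      rw [← Ideal.span_singleton_prime hx0]
      exact (Ideal.Quotient.isDomain_iff_prime _).mp inferInstance
    rw [UniqueFactorizationMonoid.iff_localizationAway_of_prime hxprime]
    set S := Localization.Away x with hS
    haveI : IsDomain S := IsLocalization.Away.isDomain S hx0
    apply UniqueFactorizationMonoid.of_forall_isPrincipal_of_height_eq_one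
    intro Q hQp hQ1
    have hQ0 : Q ≠ ⊥ := Q.ne_bot_of_height_eq_one hQ1
    set P := Q.comap (algebraMap R S) with hP
    haveI hPp : P.IsPrime := Ideal.comap_isPrime _ Q
    have hP1 : P.height = 1 := by
      rw [← hQ1]
      exact IsLocalization.height_under (Submonoid.powers x) Q
    have hPQ : P.map (algebraMap R S) = Q := IsLocalization.map_under (Submonoid.powers x) S Q
    have hloc : ∀ 𝔫 : Ideal S, 𝔫.IsMaximal →
        ∃ a ∈ Q, ∃ s ∉ 𝔫, ∀ q ∈ Q, s * q ∈ Ideal.span {a} := by
      intro 𝔫 h𝔫
      set p := 𝔫.comap (algebraMap R S) with hp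
      haveI hpp : p.IsPrime := Ideal.comap_isPrime _ 𝔫
      have hxp : x ∉ p := by
        intro hxp
        have hu : IsUnit (algebraMap R S x) := IsLocalization.Away.algebraMap_isUnit x
        exact h𝔫.ne_top (Ideal.eq_top_of_isUnit_mem _ (Ideal.mem_comap.mp hxp) hu)
      have hplt : p < maximalIdeal R :=
        lt_of_le_of_ne (le_maximalIdeal hpp.ne_top) (fun h => hxp (h ▸ hxm))
      haveI hregT : IsRegularLocalRing (Localization.AtPrime p) :=
        Groth.Agent.Lib.Helper28.isRegularLocalRing_localization_of_isRegularLocalRing R p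
      haveI hdomT : IsDomain (Localization.AtPrime p) :=
        Groth.Agent.Lib.Helper5.isDomain_of_isRegularLocalRing _
      obtain ⟨d', hd'⟩ := Groth.Agent.Lib.Helper5.exists_nat_ringKrullDim_eq (Localization.AtPrime p)
      have hlt : d' < d := by
        have h1 : ringKrullDim (Localization.AtPrime p) = p.height :=
          IsLocalization.AtPrime.ringKrullDim_eq_height p _
        have h2 : ((maximalIdeal R).height : WithBot ℕ∞) = ringKrullDim R :=
          IsLocalRing.maximalIdeal_height_eq_ringKrullDim
        have h3 : p.height < (maximalIdeal R).height := Ideal.height_strict_mono_of_isPrime hplt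
        have h4 : ((d' : ℕ∞) : WithBot ℕ∞) < ((d : ℕ∞) : WithBot ℕ∞) := by
          have e1 : ((d' : ℕ∞) : WithBot ℕ∞) = (p.height : WithBot ℕ∞) := by
            rw [← h1, hd']; rfl
          have e2 : ((d : ℕ∞) : WithBot ℕ∞) = ((maximalIdeal R).height : WithBot ℕ∞) := by
            rw [h2, hd]; rfl
          rw [e1, e2]
          exact WithBot.coe_lt_coe.mpr h3
        exact_mod_cast h4
      haveI hufdT : UniqueFactorizationMonoid (Localization.AtPrime p) :=
        ih d' hlt (Localization.AtPrime p) hd'
      obtain ⟨a, haP, w, hwp, hw⟩ := exists_local_generator P p hP1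
      refine ⟨algebraMap R S a, haP, algebraMap R S w, hwp, ?_⟩
      intro q hq
      rw [← hPQ, Ideal.map] at hq
      induction hq using Submodule.span_induction with
      | mem y hy =>
        obtain ⟨q', hq', rfl⟩ := hy
        have h5 := Ideal.mem_map_of_mem (algebraMap R S) (hw q' hq')
        rwa [Ideal.map_span, Set.image_singleton, map_mul] at h5
      | zero => rw [mul_zero]; exact zero_mem _
      | add y z _ _ hy hz => rw [mul_add]; exact add_mem hy hz
      | smul r y _ hy =>
        rw [smul_eq_mul, mul_left_comm]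
        exact Ideal.mul_mem_left _ _ hy
    haveI hinv : Module.Invertible S Q := invertible_of_locally_principal Q hQ0 hloc
    haveI hfree : Module.Free S Q := Groth.Agent.Lib.Helper5.FFR.free_of_invertible_away x Q
    obtain ⟨e⟩ := Module.Invertible.free_iff_linearEquiv.mp hfree
    refine ⟨⟨((e.symm 1 : Q) : S), ?_⟩⟩
    ext y
    rw [Submodule.mem_span_singleton]
    constructor
    · intro hy
      refine ⟨e ⟨y, hy⟩, ?_⟩
      have h6 : e.symm (e ⟨y, hy⟩) = e ⟨y, hy⟩ • e.symm 1 := by
        rw [← map_smul, smul_eq_mul, mul_one]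
      have h7 := congrArg (fun z : Q => (z : S)) h6
      simp only [LinearEquiv.symm_apply_apply] at h7
      exact h7.symm
    · rintro ⟨c, rfl⟩
      exact Q.smul_mem c (e.symm 1).2

/-- **Auslander–Buchsbaum**: a regular local ring is a unique factorization domain. -/
theorem ufd_of_isRegularLocalRing (R : Type u) [CommRing R] [IsRegularLocalRing R] [IsDomain R] :
    UniqueFactorizationMonoid R := by
  obtain ⟨d, hd⟩ := Groth.Agent.Lib.Helper5.exists_nat_ringKrullDim_eq R
  exact ufd_aux d R hd

end Groth.Agent.Lib.Helper8.AB
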