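/-
Intersection multiplicity for V cut out by a regular sequence and W Cohen-Macaulay (helper1, round 2, S6452): quotSmulTopEquiv, chi_eq_length_of_cm (ring level), dims (dimensions of O_X,xi, O_V,xi, O_W,xi at a point of a proper intersection), eq_maximalIdeal_of_le (maximal point of V cap W: only prime over I_V+I_W is m), ringKrullDim_quotient_eq_zero, main.
-/
import Mathlib
import Groth.Prelude
import Groth.Agent.Lib.R2H1MultOne
import Groth.Agent.Lib.Helper5CM2
import Groth.Agent.Lib.Helper28DepthCM2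
import Groth.Agent.Lib.Helper28FlatNormal
import Groth.Agent.Lib.R2H1IntMultCartier
import Groth.Agent.Lib.R2H1LocQuot
import Groth.Agent.Lib.Helper4DimFormulaAE

set_option autoImplicit false
set_option linter.style.haveILetI false
set_option linter.unusedSectionVars false
universe u v

namespace Groth.Agent.Lib.R2H1.MultCM

section Part1

open IsLocalRing Module Groth.Agent.Lib.Helper5 RingTheory.Sequence Groth.Agent.Helper13Kz Pointwise
open Groth.Agent.Lib.R2H1.MultOne Groth.Agent.Lib.R2H1.IntMultCartier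

/-- `(A/Q)/P(A/Q) ≃ A/(Q+P)`. -/
noncomputable def quotSmulTopEquiv {A : Type u} [CommRing A] (P Q : Ideal A) :
    ((A ⧸ P) ⧸ (Q • ⊤ : Submodule A (A ⧸ P))) ≃ₗ[A] (A ⧸ (P ⊔ Q)) := by
  have h1 : (Q • ⊤ : Submodule A (A ⧸ P)) = Submodule.map (Submodule.mkQ P) Q := by
    rw [← Submodule.range_mkQ, ← Submodule.map_top, ← Submodule.map_smul'']
    congr 1
    exact Ideal.mul_top Q
  exact (Submodule.quotEquivOfEq _ _ h1).trans (Submodule.quotientQuotientEquivQuotientSup P Q)

theorem chi_eq_length_of_cm (A : Type u) [CommRing A] [IsLocalRing A] [IsNoetherianRing A]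
    (Q : Ideal A) [IsLocalRing (A ⧸ Q)] (hW : LocCoh.IsCohenMacaulayLocalRing (A ⧸ Q))
    (c : ℕ) (g : Fin c → A) (hreg : IsRegular A (List.ofFn g))
    (hdim0 : ringKrullDim (A ⧸ (Q ⊔ Ideal.span (Set.range g))) = 0)
    (hdimQ : (c : WithBot ℕ∞) ≤ ringKrullDim (A ⧸ Q)) :
    IntMult.chi A (A ⧸ Q) (A ⧸ Ideal.span (Set.range g)) =
      ((Module.length A (A ⧸ (Q ⊔ Ideal.span (Set.range g)))).toNat : ℤ) := by
  rw [← ofList_ofFn] at hdim0 ⊢
  set l := List.ofFn g with hl
  have hlen : l.length = c := List.length_ofFn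
  have hne : Ideal.ofList l ≠ ⊤ := by
    intro htop
    apply hreg.top_ne_smul
    rw [htop, Submodule.top_smul]
  have hlm : ∀ x ∈ l, x ∈ maximalIdeal A := by
    intro x hx
    exact IsLocalRing.le_maximalIdeal hne (Ideal.subset_span hx)
  -- CM as a module
  have hM : LocCoh.IsCohenMacaulayModule A (A ⧸ Q) := by
    unfold LocCoh.IsCohenMacaulayModule
    rw [Module.supportDim_quotient_eq_ringKrullDim, ← Groth.Agent.Lib.Helper28.depth_quotient_self_eq,
      ← hW.supportDim_eq_depth, Module.supportDim_self_eq_ringKrullDim]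
  -- the dimension equality
  have hdim : Module.supportDim A ((A ⧸ Q) ⧸ (Ideal.ofList l • ⊤ : Submodule A (A ⧸ Q))) +
      (l.length : WithBot ℕ∞) = Module.supportDim A (A ⧸ Q) := by
    have h0 : Module.supportDim A ((A ⧸ Q) ⧸ (Ideal.ofList l • ⊤ : Submodule A (A ⧸ Q))) = 0 := by
      rw [Module.supportDim_eq_of_equiv (quotSmulTopEquiv Q (Ideal.ofList l)),
        Module.supportDim_quotient_eq_ringKrullDim, hdim0]
    have h1 := Groth.Agent.Lib.Helper28.supportDim_le_supportDim_quot_ofList_add_length_local l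
      (A ⧸ Q) hlm
    rw [h0, zero_add] at h1 ⊢
    rw [Module.supportDim_quotient_eq_ringKrullDim] at h1 ⊢
    rw [hlen] at h1 ⊢
    exact le_antisymm hdimQ h1
  have hwr : IsWeaklyRegular (A ⧸ Q) l :=
    ((isWeaklyRegular_iff_of_isCohenMacaulayModule l (A ⧸ Q) hM hlm).1).mpr hdim
  rw [chi_symm, intMult_chi_eq_chi l hreg.toIsWeaklyRegular (A ⧸ Q),
    chi_of_isWeaklyRegular l (A ⧸ Q) hwr, length_quot_smul_top]

end Part1

section Part2

open CategoryTheory AlgebraicGeometry TopologicalSpace IsLocalRing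
open Groth.Agent.Lib.Helper4.VarDim Groth.Agent.Lib.Helper4.DimFormula
open Groth.Agent.Lib.R2H3.SuppCodim Groth.Agent.Lib.R2H1.IntMultCartier
open Groth.Agent.Lib.R2H1.MultOne Groth.Agent.Lib.R2H1.LocQuot

attribute [local instance] sectionsAlgebra Curv2.resAlgebra

/-- the dimensions of the local rings of `X`, `V`, `W` at a point of a proper intersection. -/
theorem dims (K : Type u) [Field K] (X : Scheme.{u})
    (f : X ⟶ Spec (CommRingCat.of K)) [Smooth f] [IsIntegral X]
    (IV IW : X.IdealSheafData) [IsIntegral IV.subscheme] [IsIntegral IW.subscheme] (n r s : ℕ)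
    (hn : topologicalKrullDim X = n) (hr : topologicalKrullDim IV.support = r)
    (hs : topologicalKrullDim IW.support = s)
    (hprop : IntMult.ProperInt (IV.support : Set X) (IW.support : Set X) n r s) (ξ : X)
    (hξV : ξ ∈ IV.support) (hξW : ξ ∈ IW.support) :
    ∃ a b c e : ℕ, ringKrullDim (X.presheaf.stalk ξ) = a ∧
      ringKrullDim (↑(X.presheaf.stalk ξ) ⧸ IntMult.stalkIdeal IV ξ) = b ∧
      ringKrullDim (↑(X.presheaf.stalk ξ) ⧸ IntMult.stalkIdeal IW ξ) = c ∧
      a + e = n ∧ r = e + b ∧ s = e + c ∧ e ≤ r + s - n ∧ n ≤ r + s := by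
  letI : X.Over (Spec (CommRingCat.of K)) := ⟨f⟩
  haveI : LocallyOfFiniteType (X ↘ Spec (CommRingCat.of K)) :=
    inferInstanceAs (LocallyOfFiniteType f)
  haveI : IsLocallyNoetherian X := LocallyOfFiniteType.isLocallyNoetherian f
  have hspec : ∀ (I : X.IdealSheafData) [IsIntegral I.subscheme], ξ ∈ I.support →
      I.subschemeι (genericPoint I.subscheme) ⤳ ξ := by
    intro I _ hξ
    rw [specializes_iff_mem_closure, ← support_eq_closure]
    exact hξ
  have hspV := hspec IV hξV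
  have hspW := hspec IW hξW
  have hIV := stalkIdeal_eq_ker_specMap_generic IV ξ hξV hspV
  have hIW := stalkIdeal_eq_ker_specMap_generic IW ξ hξW hspW
  have hdim : ∀ (I : X.IdealSheafData) [IsIntegral I.subscheme] (t : ℕ),
      topologicalKrullDim I.support = t →
      trdegNat K X (I.subschemeι (genericPoint I.subscheme)) = t := by
    intro I _ t ht
    have ht' : topologicalKrullDim ↥(I.support : Set X) = t := ht
    rw [support_eq_closure, topologicalKrullDim_closure_singleton K X] at ht'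
    exact_mod_cast ht'
  have hrV := hdim IV r hr
  have hsW := hdim IW s hs
  obtain ⟨a, ha, hae⟩ := ringKrullDim_stalk_add_trdegNat K X n hn ξ
  have hδ := isDimFun_trdegNat K X
  obtain ⟨b, hb, hbe⟩ := isDimFun_eq_add_locQuotDim X _ hδ ξ _ hspV
  obtain ⟨c, hc, hce⟩ := isDimFun_eq_add_locQuotDim X _ hδ ξ _ hspW
  simp only at hbe hce
  rw [hrV] at hbe
  rw [hsW] at hce
  obtain ⟨hnrs, hdimVW⟩ := hprop ⟨ξ, hξV, hξW⟩
  have hle := trdegNat_le_topologicalKrullDim_of_isLocallyClosed K X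
    ((IV.support : Set X) ∩ IW.support)
    (IV.support.isClosed.inter IW.support.isClosed).isLocallyClosed ξ ⟨hξV, hξW⟩
  have hle2 : trdegNat K X ξ ≤ r + s - n := by exact_mod_cast hle.trans hdimVW
  unfold Cyc.LocQuot at hb hc
  rw [← hIV] at hb
  rw [← hIW] at hc
  exact ⟨a, b, c, trdegNat K X ξ, ha, hb, hc, hae, by omega, by omega, hle2, hnrs⟩

variable {X : Scheme.{u}}

/-- at a maximal point of `V ∩ W`, the only prime containing both stalk ideals is the maximal
ideal. -/
theorem eq_maximalIdeal_of_le (IV IW : X.IdealSheafData) (ξ : X)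
    (hmax : ∀ ξ' : X, ξ' ∈ IV.support → ξ' ∈ IW.support → ξ' ⤳ ξ → ξ' = ξ)
    (p : Ideal (X.presheaf.stalk ξ)) [hp : p.IsPrime]
    (hle : IntMult.stalkIdeal IW ξ ⊔ IntMult.stalkIdeal IV ξ ≤ p) :
    p = maximalIdeal (X.presheaf.stalk ξ) := by
  have hsp : X.fromSpecStalk ξ ⟨p, hp⟩ ⤳ ξ := fromSpecStalk_specializes ξ _
  have hker := ker_specMap_fromSpecStalk ξ p hsp
  have hV : X.fromSpecStalk ξ ⟨p, hp⟩ ∈ IV.support := by
    rw [mem_support_iff_stalkIdeal_le IV ξ _ hsp, hker]
    exact le_sup_right.trans hle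
  have hW : X.fromSpecStalk ξ ⟨p, hp⟩ ∈ IW.support := by
    rw [mem_support_iff_stalkIdeal_le IW ξ _ hsp, hker]
    exact le_sup_left.trans hle
  have heq := hmax _ hV hW hsp
  have h2 : X.fromSpecStalk ξ ⟨p, hp⟩ =
      X.fromSpecStalk ξ ⟨maximalIdeal (X.presheaf.stalk ξ), inferInstance⟩ := by
    rw [heq]
    exact (Scheme.fromSpecStalk_closedPoint (x := ξ)).symm
  exact fromSpecStalk_injective ξ _ _ h2

theorem ringKrullDim_quotient_eq_zero {A : Type u} [CommRing A] [IsLocalRing A] (I : Ideal A)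
    (hI : I ≠ ⊤) (h : ∀ (p : Ideal A) [p.IsPrime], I ≤ p → p = maximalIdeal A) :
    ringKrullDim (A ⧸ I) = 0 := by
  haveI : Nontrivial (A ⧸ I) := Ideal.Quotient.nontrivial_iff.mpr hI
  rw [← ringKrullDimZero_iff_ringKrullDim_eq_zero]
  apply Ring.KrullDimLE.mk₀
  intro q hq
  have hc : (q.comap (Ideal.Quotient.mk I)) = maximalIdeal A := by
    haveI := hq
    apply h
    intro x hx
    rw [Ideal.mem_comap, Ideal.Quotient.eq_zero_iff_mem.mpr hx]
    exact q.zero_mem
  have hq' : q = (maximalIdeal A).map (Ideal.Quotient.mk I) := by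
    rw [← hc, Ideal.map_comap_of_surjective _ Ideal.Quotient.mk_surjective]
  rcases Ideal.map_eq_top_or_isMaximal_of_surjective (Ideal.Quotient.mk I)
    Ideal.Quotient.mk_surjective (maximalIdeal.isMaximal A) with h1 | h1
  · exact absurd (hq'.trans h1) hq.ne_top
  · rw [hq']; exact h1

theorem main (K : Type u) [Field K] (X : Scheme.{u})
    (f : X ⟶ Spec (CommRingCat.of K)) [Smooth f] [IsIntegral X]
    (IV IW : X.IdealSheafData) [IsIntegral IV.subscheme] [IsIntegral IW.subscheme] (n r s : ℕ)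
    (hn : topologicalKrullDim X = n) (hr : topologicalKrullDim IV.support = r)
    (hs : topologicalKrullDim IW.support = s)
    (hprop : IntMult.ProperInt (IV.support : Set X) (IW.support : Set X) n r s) (ξ : X)
    (hξV : ξ ∈ IV.support) (hξW : ξ ∈ IW.support)
    (hmax : ∀ ξ' : X, ξ' ∈ IV.support → ξ' ∈ IW.support → ξ' ⤳ ξ → ξ' = ξ)
    (c : ℕ) (g : Fin c → ↑(X.presheaf.stalk ξ))
    (hg : IntMult.stalkIdeal IV ξ = Ideal.span (Set.range g))
    (hreg : RingTheory.Sequence.IsRegular (↑(X.presheaf.stalk ξ)) (List.ofFn g))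
    (hW : LocCoh.IsCohenMacaulayLocalRing (↑(X.presheaf.stalk ξ) ⧸ IntMult.stalkIdeal IW ξ)) :
    (IntMult.mult IV IW ξ : ℤ) = (Module.length (X.presheaf.stalk ξ)
      (↑(X.presheaf.stalk ξ) ⧸ (IntMult.stalkIdeal IW ξ ⊔ IntMult.stalkIdeal IV ξ))).toNat := by
  haveI : IsRegularLocalRing (X.presheaf.stalk ξ) :=
    Groth.Agent.Lib.Helper6.SmRegSch.isRegularLocalRing_stalk_of_smooth_over_field K X f ξ
  obtain ⟨a, b, c', e, ha, hb, hc, hae, hrb, hsc, hle, hnrs⟩ :=
    dims K X f IV IW n r s hn hr hs hprop ξ hξV hξW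
  haveI : IsLocalRing (↑(X.presheaf.stalk ξ) ⧸ IntMult.stalkIdeal IW ξ) := hW.toIsLocalRing
  -- b + c = a from the regular sequence
  have hreg2 := ringKrullDim_add_length_eq_ringKrullDim_of_isRegular (List.ofFn g) hreg
  rw [ofList_ofFn, ← hg, hb, ha, List.length_ofFn] at hreg2
  have hbc : b + c = a := by exact_mod_cast hreg2
  have hdimQ : (c : WithBot ℕ∞) ≤
      ringKrullDim (↑(X.presheaf.stalk ξ) ⧸ IntMult.stalkIdeal IW ξ) := by
    rw [hc]
    have : c ≤ c' := by omega
    exact_mod_cast this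
  have hne : IntMult.stalkIdeal IW ξ ⊔ IntMult.stalkIdeal IV ξ ≠ ⊤ := by
    intro htop
    have h1 := (mem_support_iff_stalkIdeal_le IV ξ ξ specializes_rfl).mp hξV
    have h2 := (mem_support_iff_stalkIdeal_le IW ξ ξ specializes_rfl).mp hξW
    have h3 : (⊤ : Ideal (X.presheaf.stalk ξ)) ≤ RingHom.ker (Cyc.specMap ξ ξ specializes_rfl) := by
      rw [← htop]; exact sup_le h2 h1
    exact (RingHom.ker_ne_top _) (top_le_iff.mp h3)
  have hdim0 : ringKrullDim (↑(X.presheaf.stalk ξ) ⧸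
      (IntMult.stalkIdeal IW ξ ⊔ IntMult.stalkIdeal IV ξ)) = 0 :=
    ringKrullDim_quotient_eq_zero _ hne (fun p _ hp => eq_maximalIdeal_of_le IV IW ξ hmax p hp)
  unfold IntMult.mult
  rw [hg] at hdim0 ⊢
  exact chi_eq_length_of_cm _ _ hW c g hreg hdim0 hdimQ

end Part2

end Groth.Agent.Lib.R2H1.MultCM
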