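/-
Decomposition of an effective Cartier divisor on a regular noetherian scheme into the irreducible
components of its support (with multiplicities the lengths at the generic points), and the special
fibre of a regular model over a DVR as the sum of its components (S3313).
Main results: secHom, specialFibreIdeal_ideal, stalkIdeal_specialFibreIdeal,
isEffCartier_specialFibreIdeal, maximal_point_of_maximal, maximal_of_maximal_point,
ringKrullDim_stalk_eq_one, stalkIdeal_mul/one/pow/prod, eq_generic, stalkIdeal_generic,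
stalkIdeal_of_closure_eq, length_quot_pow_dim_one, main_abstract,
mem_support_idealSheaf_maximalIdeal, support_specialFibreIdeal, isIntegral_ker_subscheme,
support_ker_eq_range, closure_genPtOf, main.
-/
import Mathlib
import Groth.Prelude
import Groth.Agent.Lib.R2H1CartierProd
import Groth.Agent.Lib.Helper20EffCartier
import Groth.Agent.Lib.R2H1MultCM
import Groth.Agent.Lib.Helper8AB
import Groth.Agent.Lib.Helper5RLR
import Groth.Agent.Lib.Helper5HilbertRLR

set_option autoImplicit false
set_option linter.style.haveILetI false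
set_option linter.unusedSectionVars false
universe u v

namespace Groth.Agent.Lib.R2H1.SpecialFibreProd

section Part1

open CategoryTheory AlgebraicGeometry TopologicalSpace IsLocalRing
open Groth.Agent.Lib.R2H1.CartierProd

variable (R : Type u) [CommRing R] [IsDomain R] [IsDiscreteValuationRing R]
variable (X : Scheme.{u}) (p : X ⟶ Spec (CommRingCat.of R))

/-- the ring map `R → Γ(X, U)`. -/
noncomputable def secHom (U : X.Opens) : R →+* Γ(X, U) :=
  (p.appLE ⊤ U le_top).hom.comp (Scheme.ΓSpecIso (CommRingCat.of R)).inv.hom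

theorem specialFibreIdeal_ideal (U : X.affineOpens) :
    (Models.specialFibreIdeal R (Over.mk p)).ideal U =
      (maximalIdeal R).map (secHom R X p U.1) := by
  unfold Models.specialFibreIdeal
  have h1 := Groth.Agent.Lib.Helper20.EffCartier.ideal_comap_eq_map p
    (Curv2.idealSheaf R (maximalIdeal R)) U.2 (isAffineOpen_top _) (le_top : U.1 ≤ p ⁻¹ᵁ ⊤)
  show ((Curv2.idealSheaf R (maximalIdeal R)).comap p).ideal ⟨U.1, U.2⟩ = _
  rw [h1]
  unfold Curv2.idealSheaf secHom
  rw [Scheme.IdealSheafData.ofIdealTop_ideal, Ideal.map_map, Ideal.map_map]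
  congr 1

theorem germ_secHom (U : X.Opens) (x : X) (hx : x ∈ U) (r : R) :
    (X.presheaf.germ U x hx).hom (secHom R X p U r) = Models.stalkHom R (Over.mk p) x r := by
  unfold Models.stalkHom Coh.toGlobal secHom
  simp only [RingHom.comp_apply]
  have : p.appLE ⊤ U le_top = p.appTop ≫ X.presheaf.map (homOfLE (le_top : U ≤ ⊤)).op := by
    rw [Scheme.Hom.appLE]
    rfl
  rw [this, CommRingCat.comp_apply]
  exact ConcreteCategory.congr_hom (X.presheaf.germ_res (homOfLE (le_top : U ≤ ⊤)) x hx) _

theorem stalkIdeal_specialFibreIdeal (x : X) :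
    IntMult.stalkIdeal (Models.specialFibreIdeal R (Over.mk p)) x =
      (maximalIdeal R).map (Models.stalkHom R (Over.mk p) x) := by
  obtain ⟨V, hV, hxV, -⟩ := exists_isAffineOpen_mem_and_subset (x := x) (U := ⊤) trivial
  rw [stalkIdeal_eq_map_germ _ ⟨V, hV⟩ x hxV, specialFibreIdeal_ideal, Ideal.map_map]
  congr 1
  ext r
  exact germ_secHom R X p V x hxV r

theorem isEffCartier_specialFibreIdeal [Flat p] :
    BlowUp.IsEffCartierIdeal (Models.specialFibreIdeal R (Over.mk p)) := by
  intro x
  obtain ⟨V, hV, hxV, -⟩ := exists_isAffineOpen_mem_and_subset (x := x) (U := ⊤) trivial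
  obtain ⟨ϖ, hϖ⟩ := IsDiscreteValuationRing.exists_irreducible R
  have hm : maximalIdeal R = Ideal.span {ϖ} :=
    (IsDiscreteValuationRing.irreducible_iff_uniformizer ϖ).mp hϖ
  refine ⟨⟨V, hV⟩, hxV, secHom R X p V ϖ, ?_, ?_⟩
  · have hflat : (p.appLE ⊤ V le_top).hom.Flat :=
      Scheme.Hom.flat_appLE p (isAffineOpen_top _) hV le_top
    have hflat2 : (secHom R X p V).Flat := by
      unfold secHom
      refine RingHom.Flat.comp ?_ hflat
      exact RingHom.Flat.of_bijective
        (Scheme.ΓSpecIso (CommRingCat.of R)).symm.commRingCatIsoToRingEquiv.bijective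
    letI := (secHom R X p V).toAlgebra
    haveI : Module.Flat R Γ(X, V) := hflat2
    have hreg : IsSMulRegular R ϖ := (isRegular_of_ne_zero hϖ.ne_zero).left.isSMulRegular
    have h2 := IsSMulRegular.of_flat (S := Γ(X, V)) hreg
    have h3 : IsLeftRegular (secHom R X p V ϖ) := fun a b hab => h2 hab
    exact isRegular_iff_mem_nonZeroDivisors.mp (isLeftRegular_iff_isRegular.mp h3)
  · rw [specialFibreIdeal_ideal, hm, Ideal.map_span, Set.image_singleton]
    rfl

end Part1

section Part2

open CategoryTheory AlgebraicGeometry TopologicalSpace IsLocalRing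
open Groth.Agent.Lib.R2H1.CartierProd Groth.Agent.Lib.R2H1.IntMultCartier

variable {X : Scheme.{u}}

/-- a point whose closure is a maximal irreducible subset of a closed set is a maximal point. -/
theorem maximal_point_of_maximal (Z : Set X) (hZ : IsClosed Z) (ξ : X)
    (hmax : Maximal (fun S : Set X => IsIrreducible S ∧ S ⊆ Z) (closure {ξ})) :
    ∀ ζ ∈ Z, ζ ⤳ ξ → ζ = ξ := by
  intro ζ hζ hsp
  have h1 : IsIrreducible (closure {ζ}) ∧ closure {ζ} ⊆ Z :=
    ⟨isIrreducible_singleton.closure, hZ.closure_subset_iff.mpr (Set.singleton_subset_iff.mpr hζ)⟩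
  have h2 : closure {ξ} ⊆ closure {ζ} := specializes_iff_closure_subset.mp hsp
  have h3 : closure {ζ} ⊆ closure {ξ} := hmax.2 h1 h2
  have h4 : ξ ⤳ ζ := specializes_iff_closure_subset.mpr h3
  exact (hsp.antisymm h4).eq

/-- the closure of a maximal point of a closed subset is a maximal irreducible subset. -/
theorem maximal_of_maximal_point (Z : Set X) (hZ : IsClosed Z) (η : X) (hη : η ∈ Z)
    (hmax : ∀ ζ ∈ Z, ζ ⤳ η → ζ = η) :
    Maximal (fun S : Set X => IsIrreducible S ∧ S ⊆ Z) (closure {η}) := by
  refine ⟨⟨isIrreducible_singleton.closure,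
    hZ.closure_subset_iff.mpr (Set.singleton_subset_iff.mpr hη)⟩, ?_⟩
  intro S ⟨hSirr, hSZ⟩ hle
  have hcl : IsIrreducible (closure S) := hSirr.closure
  obtain ⟨ζ, hζ⟩ := QuasiSober.sober hcl isClosed_closure
  have hζZ : ζ ∈ Z := by
    have : ζ ∈ closure S := by rw [← hζ.def]; exact subset_closure rfl
    exact (hZ.closure_subset_iff.mpr hSZ) this
  have hsp : ζ ⤳ η := by
    rw [specializes_iff_mem_closure, hζ.def]
    exact subset_closure (hle (subset_closure rfl))
  have heq := hmax ζ hζZ hsp
  rw [← heq, hζ.def]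
  exact subset_closure

/-- at a maximal point of the support of an effective Cartier divisor on a locally noetherian scheme
the local ring has dimension one. -/
theorem ringKrullDim_stalk_eq_one [IsLocallyNoetherian X] (D : X.IdealSheafData)
    (hD : BlowUp.IsEffCartierIdeal D) (η : X) (hηD : η ∈ D.support)
    (hmax : ∀ ζ ∈ D.support, ζ ⤳ η → ζ = η) :
    ringKrullDim (X.presheaf.stalk η) = 1 := by
  obtain ⟨f, hf, hDf⟩ := stalkIdeal_principal hD η
  haveI : IsNoetherianRing (X.presheaf.stalk η) := inferInstance
  have hmin : ∀ (q : Ideal (X.presheaf.stalk η)) [q.IsPrime], Ideal.span {f} ≤ q →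
      q = maximalIdeal (X.presheaf.stalk η) := by
    intro q hq hfq
    have hsp : X.fromSpecStalk η ⟨q, hq⟩ ⤳ η :=
      Groth.Agent.Lib.Helper4.DimFormula.fromSpecStalk_specializes η _
    have hker := Groth.Agent.Lib.R2H1.LocQuot.ker_specMap_fromSpecStalk η q hsp
    have hV : X.fromSpecStalk η ⟨q, hq⟩ ∈ D.support := by
      rw [mem_support_iff_stalkIdeal_le D η _ hsp, hker, hDf]
      exact hfq
    have heq := hmax _ hV hsp
    have h2 : X.fromSpecStalk η ⟨q, hq⟩ =
        X.fromSpecStalk η ⟨maximalIdeal (X.presheaf.stalk η), inferInstance⟩ := by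
      rw [heq]
      exact (Scheme.fromSpecStalk_closedPoint (x := η)).symm
    exact Groth.Agent.Lib.Helper4.DimFormula.fromSpecStalk_injective η _ _ h2
  have hfm : f ∈ maximalIdeal (X.presheaf.stalk η) := by
    have h1 := (mem_support_iff_stalkIdeal_le D η η specializes_rfl).mp hηD
    rw [hDf, Ideal.span_le, Set.singleton_subset_iff] at h1
    have hne : RingHom.ker (Cyc.specMap η η specializes_rfl) ≠ ⊤ := RingHom.ker_ne_top _
    exact IsLocalRing.le_maximalIdeal hne h1
  have hne : Ideal.span {f} ≠ ⊤ := by
    intro h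
    have : (1 : X.presheaf.stalk η) ∈ Ideal.span {f} := by rw [h]; trivial
    have h2 : Ideal.span {f} ≤ maximalIdeal (X.presheaf.stalk η) := by
      rw [Ideal.span_le, Set.singleton_subset_iff]; exact hfm
    exact (Ideal.ne_top_iff_one _).mp (IsLocalRing.maximalIdeal.isMaximal _).ne_top (h2 this)
  have h0 := Groth.Agent.Lib.R2H1.MultCM.ringKrullDim_quotient_eq_zero (Ideal.span {f}) hne hmin
  have h1 := ringKrullDim_quotient_span_singleton_succ_eq_ringKrullDim_of_mem_nonZeroDivisors hf hfm
  rw [h0, zero_add] at h1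
  exact h1.symm

end Part2

section Part3

open CategoryTheory AlgebraicGeometry TopologicalSpace IsLocalRing
open Groth.Agent.Lib.R2H1.CartierProd Groth.Agent.Lib.R2H1.IntMultCartier

variable {X : Scheme.{u}}

theorem stalkIdeal_mul (I J : X.IdealSheafData) (x : X) :
    IntMult.stalkIdeal (I * J) x = IntMult.stalkIdeal I x * IntMult.stalkIdeal J x := by
  obtain ⟨V, hV, hxV, -⟩ := exists_isAffineOpen_mem_and_subset (x := x) (U := ⊤) trivial
  rw [stalkIdeal_eq_map_germ _ ⟨V, hV⟩ x hxV, stalkIdeal_eq_map_germ I ⟨V, hV⟩ x hxV,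
    stalkIdeal_eq_map_germ J ⟨V, hV⟩ x hxV, Scheme.IdealSheafData.ideal_mul, Pi.mul_apply, Ideal.map_mul]

theorem stalkIdeal_one (x : X) : IntMult.stalkIdeal (1 : X.IdealSheafData) x = 1 := by
  obtain ⟨V, hV, hxV, -⟩ := exists_isAffineOpen_mem_and_subset (x := x) (U := ⊤) trivial
  rw [stalkIdeal_eq_map_germ _ ⟨V, hV⟩ x hxV]
  have : (1 : X.IdealSheafData) = ⊤ := rfl
  rw [this, Scheme.IdealSheafData.ideal_top, Pi.top_apply, Ideal.map_top, Ideal.one_eq_top]

theorem stalkIdeal_pow (I : X.IdealSheafData) (n : ℕ) (x : X) :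
    IntMult.stalkIdeal (I ^ n) x = IntMult.stalkIdeal I x ^ n := by
  induction n with
  | zero => rw [pow_zero, pow_zero, stalkIdeal_one]
  | succ n ih => rw [pow_succ, pow_succ, stalkIdeal_mul, ih]

theorem stalkIdeal_prod {ι : Type*} (s : Finset ι) (I : ι → X.IdealSheafData) (x : X) :
    IntMult.stalkIdeal (∏ i ∈ s, I i) x = ∏ i ∈ s, IntMult.stalkIdeal (I i) x := by
  classical
  induction s using Finset.induction_on with
  | empty => rw [Finset.prod_empty, Finset.prod_empty, stalkIdeal_one]
  | insert a s ha ih => rw [Finset.prod_insert ha, Finset.prod_insert ha, stalkIdeal_mul, ih]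

theorem eq_generic (I : X.IdealSheafData) [IsIntegral I.subscheme] (ξ : X)
    (h : closure {ξ} = (I.support : Set X)) : ξ = I.subschemeι (genericPoint I.subscheme) := by
  rw [Groth.Agent.Lib.R2H1.MultOne.support_eq_closure] at h
  have h1 : IsGenericPoint ξ (closure {I.subschemeι (genericPoint I.subscheme)}) := h
  have h2 : IsGenericPoint (I.subschemeι (genericPoint I.subscheme))
      (closure {I.subschemeι (genericPoint I.subscheme)}) := rfl
  exact h1.eq h2

theorem stalkIdeal_generic (I : X.IdealSheafData) [IsIntegral I.subscheme] :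
    IntMult.stalkIdeal I (I.subschemeι (genericPoint I.subscheme)) =
      maximalIdeal (X.presheaf.stalk (I.subschemeι (genericPoint I.subscheme))) := by
  have hξ : I.subschemeι (genericPoint I.subscheme) ∈ I.support := by
    have : I.subschemeι (genericPoint I.subscheme) ∈ Set.range I.subschemeι := ⟨_, rfl⟩
    rw [Scheme.IdealSheafData.range_subschemeι] at this
    exact this
  rw [stalkIdeal_eq_ker_specMap_generic I _ hξ specializes_rfl]
  refine ((IsLocalRing.maximalIdeal.isMaximal _).eq_of_le (RingHom.ker_ne_top _) ?_).symm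
  intro a ha
  rw [RingHom.mem_ker]
  unfold Cyc.specMap
  have hrefl : X.presheaf.stalkSpecializes
      (specializes_rfl : I.subschemeι (genericPoint I.subscheme) ⤳ _) = 𝟙 _ :=
    TopCat.Presheaf.stalkSpecializes_refl _ _
  rw [hrefl, Category.id_comp]
  exact (IsLocalRing.residue_eq_zero_iff _).mpr ha

theorem stalkIdeal_of_closure_eq (I : X.IdealSheafData) [IsIntegral I.subscheme] (ξ : X)
    (h : closure {ξ} = (I.support : Set X)) :
    IntMult.stalkIdeal I ξ = maximalIdeal (X.presheaf.stalk ξ) := by
  have := eq_generic I ξ h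
  subst this
  exact stalkIdeal_generic I

theorem length_quot_pow_dim_one (A : Type u) [CommRing A] [IsRegularLocalRing A]
    (hd : ringKrullDim A = 1) (a : ℕ) :
    Module.length A (A ⧸ maximalIdeal A ^ a) = a := by
  rcases Nat.eq_zero_or_pos a with rfl | ha
  · rw [Groth.Agent.Lib.Helper5.HilbertRLR.length_quotient_pow_zero]; rfl
  · have := Groth.Agent.Lib.Helper5.HilbertRLR.length_quotient_pow_of_isRegularLocalRing 1 A
      (by exact_mod_cast hd) a ha
    rw [this]
    simp

end Part3

section Part4

open CategoryTheory AlgebraicGeometry TopologicalSpace IsLocalRing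
open Groth.Agent.Lib.R2H1.CartierProd Groth.Agent.Lib.R2H1.IntMultCartier

/-- **Decomposition of an effective Cartier divisor on a regular noetherian scheme** into the
irreducible components of its support, with multiplicities the lengths at the generic points. -/
theorem main_abstract (X : Scheme.{u}) [IsNoetherian X]
    (hreg : ∀ x : X, IsRegularLocalRing (X.presheaf.stalk x))
    (D : X.IdealSheafData) (hD : BlowUp.IsEffCartierIdeal D) {n : ℕ}
    (E : Fin n → X.IdealSheafData) (hint : ∀ i, IsIntegral (E i).subscheme)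
    (ξ : Fin n → X) (hξ : ∀ i, closure {ξ i} = ((E i).support : Set X))
    (hinj : Function.Injective (fun i => ((E i).support : Set X)))
    (hrange : Set.range (fun i => ((E i).support : Set X)) =
      {Z | Maximal (fun S : Set X => IsIrreducible S ∧ S ⊆ (D.support : Set X)) Z}) :
    (∀ i, BlowUp.IsEffCartierIdeal (E i)) ∧
      D = ∏ i, E i ^ (Module.length (X.presheaf.stalk (ξ i))
        (X.presheaf.stalk (ξ i) ⧸ IntMult.stalkIdeal D (ξ i))).toNat := by
  have hmaxset : ∀ i, Maximal (fun S : Set X => IsIrreducible S ∧ S ⊆ (D.support : Set X))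
      ((E i).support : Set X) := by
    intro i
    have : ((E i).support : Set X) ∈ Set.range (fun i => ((E i).support : Set X)) := ⟨i, rfl⟩
    rw [hrange] at this
    exact this
  have hmaxpt : ∀ i, ∀ ζ ∈ D.support, ζ ⤳ ξ i → ζ = ξ i := fun i =>
    maximal_point_of_maximal (D.support : Set X) D.support.isClosed (ξ i)
      (by rw [hξ i]; exact hmaxset i)
  have hξD : ∀ i, ξ i ∈ D.support := by
    intro i
    apply (hmaxset i).1.2
    rw [← hξ i]
    exact subset_closure rfl
  have hdim : ∀ i, ringKrullDim (X.presheaf.stalk (ξ i)) = 1 := fun i =>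
    ringKrullDim_stalk_eq_one D hD (ξ i) (hξD i) (hmaxpt i)
  have hcart : ∀ i, BlowUp.IsEffCartierIdeal (E i) := by
    intro i
    haveI := hint i
    apply Groth.Agent.Lib.Helper8.EffCart.isEffCartier_of_integral_codim_one_ufd
    · rw [← eq_generic (E i) (ξ i) (hξ i)]
      exact hdim i
    · intro x _
      haveI := hreg x
      haveI := Groth.Agent.Lib.Helper5.isDomain_of_isRegularLocalRing (X.presheaf.stalk x)
      exact ⟨inferInstance, Groth.Agent.Lib.Helper8.AB.ufd_of_isRegularLocalRing _⟩
  have hsub : (D.support : Set X) ⊆ ⋃ i, ((E i).support : Set X) := by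
    intro x hx
    obtain ⟨η, hηD, hηx, hηmax⟩ :=
      Groth.Agent.Lib.H9AffIncl.exists_maximal_point D.support.isClosed hx
    have h1 := maximal_of_maximal_point (D.support : Set X) D.support.isClosed η hηD hηmax
    have h2 : closure {η} ∈ Set.range (fun i => ((E i).support : Set X)) := by
      rw [hrange]; exact h1
    obtain ⟨i, hi⟩ := h2
    refine Set.mem_iUnion.mpr ⟨i, ?_⟩
    have hi' : ((E i).support : Set X) = closure {η} := hi
    rw [hi']
    exact hηx.mem_closure
  obtain ⟨a, ha⟩ := Groth.Agent.Lib.R2H1.CartierProd.main X n E hcart hint D hD hsub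
  refine ⟨hcart, ?_⟩
  have hnotmem : ∀ i j, j ≠ i → ξ i ∉ (E j).support := by
    intro i j hji hmem
    apply hji
    apply hinj
    show ((E j).support : Set X) = ((E i).support : Set X)
    have h1 : ((E i).support : Set X) ⊆ ((E j).support : Set X) := by
      rw [← hξ i]
      exact (E j).support.isClosed.closure_subset_iff.mpr (Set.singleton_subset_iff.mpr hmem)
    exact Set.Subset.antisymm ((hmaxset i).2 (hmaxset j).1 h1) h1
  have hst : ∀ i, IntMult.stalkIdeal D (ξ i) = maximalIdeal (X.presheaf.stalk (ξ i)) ^ a i := by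
    intro i
    haveI := hint i
    rw [ha, stalkIdeal_prod, Finset.prod_eq_single i]
    · rw [stalkIdeal_pow, stalkIdeal_of_closure_eq (E i) (ξ i) (hξ i)]
    · intro j _ hj
      rw [stalkIdeal_pow, stalkIdeal_eq_top_of_notMem (E j) (ξ i) (hnotmem i j hj),
        ← Ideal.one_eq_top, one_pow]
    · intro h; exact absurd (Finset.mem_univ i) h
  have hexp : ∀ i, (Module.length (X.presheaf.stalk (ξ i))
      (X.presheaf.stalk (ξ i) ⧸ IntMult.stalkIdeal D (ξ i))).toNat = a i := by
    intro i
    haveI := hreg (ξ i)
    rw [hst i, length_quot_pow_dim_one _ (hdim i)]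
    rfl
  conv_lhs => rw [ha]
  exact Finset.prod_congr rfl (fun i _ => by rw [hexp i])

end Part4

section Part5

open CategoryTheory AlgebraicGeometry TopologicalSpace IsLocalRing
open Groth.Agent.Lib.R2H1.CartierProd Groth.Agent.Lib.R2H1.IntMultCartier

variable (R : Type u) [CommRing R] [IsDomain R] [IsDiscreteValuationRing R]

theorem mem_support_idealSheaf_maximalIdeal (x : Spec (CommRingCat.of R)) :
    x ∈ (Curv2.idealSheaf R (maximalIdeal R)).support ↔ x = closedPoint R := by
  rw [← SetLike.mem_coe]
  unfold Curv2.idealSheaf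
  rw [Scheme.IdealSheafData.coe_support_ofIdealTop, Spec_zeroLocus]
  constructor
  · intro h
    replace h := (PrimeSpectrum.mem_zeroLocus (x : PrimeSpectrum R) _).mp h
    have hle : maximalIdeal R ≤ x.asIdeal := by
      intro a ha
      apply h
      exact Ideal.mem_map_of_mem _ ha
    have := (IsLocalRing.maximalIdeal.isMaximal R).eq_of_le x.2.ne_top hle
    exact PrimeSpectrum.ext this.symm
  · rintro rfl
    refine (PrimeSpectrum.mem_zeroLocus (closedPoint R) _).mpr ?_
    intro a ha
    have hbij : Function.Bijective (Scheme.ΓSpecIso (CommRingCat.of R)).inv.hom :=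
      (Scheme.ΓSpecIso (CommRingCat.of R)).symm.commRingCatIsoToRingEquiv.bijective
    have h2 : a ∈ ((maximalIdeal R).map (Scheme.ΓSpecIso (CommRingCat.of R)).inv.hom).comap
        (Scheme.ΓSpecIso (CommRingCat.of R)).inv.hom := ha
    rw [Ideal.comap_map_of_bijective _ hbij] at h2
    exact h2

variable (Y : Over (Spec (CommRingCat.of R)))

theorem support_specialFibreIdeal :
    ((Models.specialFibreIdeal R Y).support : Set Y.left) = Models.specialFibreSet R Y := by
  unfold Models.specialFibreIdeal Models.specialFibreSet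
  rw [Scheme.IdealSheafData.support_comap, TopologicalSpace.Closeds.coe_preimage]
  ext x
  rw [Set.mem_preimage, Set.mem_preimage, SetLike.mem_coe, mem_support_idealSheaf_maximalIdeal]
  rfl

variable {R Y}

theorem isIntegral_ker_subscheme (Γ : ArSurf.VertComp R Y) :
    IsIntegral Γ.ι.ker.subscheme :=
  IsIntegral.of_isIso Γ.ι.toImage

theorem support_ker_eq_range (Γ : ArSurf.VertComp R Y) :
    (Γ.ι.ker.support : Set Y.left) = Set.range (Γ.ι.base : Γ.curve.left → Y.left) := by
  rw [Scheme.Hom.support_ker]
  exact Γ.ι.isClosedEmbedding.isClosed_range.closure_eq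

theorem closure_genPtOf (Γ : ArSurf.VertComp R Y) :
    closure {Models.genPtOf R Y Γ} = (Γ.ι.ker.support : Set Y.left) := by
  rw [support_ker_eq_range]
  unfold Models.genPtOf
  have h1 := Γ.ι.isClosedEmbedding.closure_image_eq ({genericPoint Γ.curve.left} : Set _)
  rw [Set.image_singleton] at h1
  have h2 : closure {genericPoint Γ.curve.left} = Set.univ := (genericPoint_spec _).def
  rw [h2, Set.image_univ] at h1
  exact h1

end Part5

section Part6

open CategoryTheory AlgebraicGeometry TopologicalSpace IsLocalRing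
open Groth.Agent.Lib.R2H1.CartierProd Groth.Agent.Lib.R2H1.IntMultCartier


/-- the closed fibre of a flat, finite type, regular scheme over a discrete valuation ring is the
sum of its irreducible components with multiplicities, as effective Cartier divisors. -/
theorem main (R : Type u) [CommRing R] [IsDomain R] [IsDiscreteValuationRing R]
    (X : Scheme.{u}) (p : X ⟶ Spec (CommRingCat.of R)) [Flat p] [LocallyOfFiniteType p]
    [QuasiCompact p] (hreg : ∀ x : X, IsRegularLocalRing (X.presheaf.stalk x))
    {n : ℕ} (Γ : Fin n → ArSurf.VertComp R (Over.mk p))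
    (hΓ : Models.IsComponentList R (Over.mk p) Γ) :
    (∀ i, BlowUp.IsEffCartierIdeal (Γ i).ι.ker) ∧
      Models.specialFibreIdeal R (Over.mk p) =
        ∏ i, (Γ i).ι.ker ^ Models.mult R (Over.mk p) (Γ i) := by
  haveI : IsLocallyNoetherian X := LocallyOfFiniteType.isLocallyNoetherian p
  haveI : CompactSpace X := QuasiCompact.compactSpace_of_compactSpace p
  haveI : IsNoetherian X := {}
  have hfun : (fun i => (((Γ i).ι.ker.support : Set (Over.mk p).left))) =
      fun i => Set.range ((Γ i).ι.base : (Γ i).curve.left → (Over.mk p).left) :=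
    funext (fun i => support_ker_eq_range (Γ i))
  have hinj : Function.Injective (fun i => (((Γ i).ι.ker.support : Set (Over.mk p).left))) := by
    rw [hfun]; exact hΓ.1
  have hrange : Set.range (fun i => (((Γ i).ι.ker.support : Set (Over.mk p).left))) =
      {Z | Maximal (fun S : Set (Over.mk p).left => IsIrreducible S ∧
        S ⊆ ((Models.specialFibreIdeal R (Over.mk p)).support : Set (Over.mk p).left)) Z} := by
    rw [hfun, hΓ.2, support_specialFibreIdeal]
    rfl
  have key := main_abstract X hreg (Models.specialFibreIdeal R (Over.mk p))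
    (isEffCartier_specialFibreIdeal R X p)
    (fun i => (Γ i).ι.ker) (fun i => isIntegral_ker_subscheme (Γ i))
    (fun i => Models.genPtOf R (Over.mk p) (Γ i)) (fun i => closure_genPtOf (Γ i)) hinj hrange
  refine ⟨key.1, ?_⟩
  conv_lhs => rw [key.2]
  refine Finset.prod_congr rfl (fun i _ => ?_)
  congr 1
  unfold Models.mult
  rw [stalkIdeal_specialFibreIdeal]
  rfl

end Part6

end Groth.Agent.Lib.R2H1.SpecialFibreProd
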