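import Mathlib
import Groth.Prelude
import Groth.Agent.Lib.Helper1StalkTensorB
import Groth.Agent.Lib.Helper20ZClos9
import Groth.Agent.Lib.Helper23IdealSec
import Groth.Agent.Lib.Helper23UnitStalk
import Groth.Agent.Lib.Helper18Cart1
import Groth.Agent.Lib.Helper23SecTw6
import Groth.Agent.Lib.Helper2QCoh

/-!
# Tensoring with the ideal of an effective Cartier divisor avoiding the associated points
(helper4, round 2)

If `D` is an effective Cartier divisor whose support contains no associated point of the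
quasi-coherent module `F` (on a locally Noetherian scheme), then `F ⊗ I_D ⟶ F ⊗ O_X` is a
monomorphism.
-/

set_option autoImplicit false
set_option linter.style.haveILetI false
universe u
open CategoryTheory CategoryTheory.Limits AlgebraicGeometry TopologicalSpace Opposite TensorProduct

noncomputable section

namespace Groth.Agent.Lib.R2H4CartierMono

open Groth.Agent.Lib.Helper1.StalkTensor Groth.Agent.Lib.Helper23.SecTw
  Groth.Agent.Lib.Helper23.GenLocus Groth.Agent.Lib.Helper6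

theorem lTensor_injective_of_gen {R : Type*} [CommRing R] {I S N : Type*} [AddCommGroup I]
    [Module R I] [AddCommGroup S] [Module R S] [AddCommGroup N] [Module R N]
    (ι : I →ₗ[R] S) (u : R ≃ₗ[R] S) (g : I) (hgen : ∀ i : I, ∃ r : R, i = r • g) (f : R)
    (hf : ι g = u f) (hreg : ∀ n : N, f • n = 0 → n = 0) :
    Function.Injective (LinearMap.lTensor N ι) := by
  rw [injective_iff_map_eq_zero]
  intro z hz
  have hrep : ∀ z : N ⊗[R] I, ∃ n : N, z = n ⊗ₜ[R] g := by
    intro z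
    induction z using TensorProduct.induction_on with
    | zero => exact ⟨0, (TensorProduct.zero_tmul _ _).symm⟩
    | tmul n i =>
      obtain ⟨r, rfl⟩ := hgen i
      exact ⟨r • n, by rw [TensorProduct.tmul_smul, TensorProduct.smul_tmul']⟩
    | add a b ha hb =>
      obtain ⟨n, rfl⟩ := ha
      obtain ⟨n', rfl⟩ := hb
      exact ⟨n + n', (TensorProduct.add_tmul _ _ _).symm⟩
  obtain ⟨n, rfl⟩ := hrep z
  rw [LinearMap.lTensor_tmul, hf] at hz
  have h1 := congrArg (fun t => TensorProduct.rid R N (LinearMap.lTensor N u.symm.toLinearMap t)) hz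
  simp only [LinearMap.lTensor_tmul, LinearEquiv.coe_coe, LinearEquiv.symm_apply_apply,
    TensorProduct.rid_tmul, map_zero] at h1
  rw [hreg n h1, TensorProduct.zero_tmul]

variable {X : Scheme.{u}} [IsLocallyNoetherian X]

/-- the local generator of the ideal of an effective Cartier divisor is regular on the stalks of
`F`, if no associated point of `F` lies on the divisor -/
theorem regular_of_hass (D : X.IdealSheafData) (F : X.Modules) [F.IsQuasicoherent]
    (hass : ∀ x ∈ D.support, ¬ Curv2.IsAssPoint F x) (x : X) (W : X.Opens) (hxW : x ∈ W)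
    (e : Γ(ClSub.idealMod D, W)) (hgen : IsGen (ClSub.idealMod D) W e)
    (n : F.presheaf.stalk x)
    (hn : X.presheaf.germ W x hxW (ofS W ((ClSub.idealModι D).app W e)) • n = 0) : n = 0 := by
  by_contra hne
  set f : Γ(X, W) := ofS W ((ClSub.idealModι D).app W e) with hf
  obtain ⟨V, hxV, m, rfl⟩ := F.presheaf.exists_germ_eq n
  -- an affine neighbourhood on which `f • m = 0`
  obtain ⟨W₁, hW₁, hxW₁, hW₁le⟩ : ∃ W₁ : X.Opens, IsAffineOpen W₁ ∧ x ∈ W₁ ∧ W₁ ≤ V ⊓ W := by
    obtain ⟨W₁, hW₁, hxW₁, hle⟩ := Opens.isBasis_iff_nbhd.1 X.isBasis_affineOpens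
      (show x ∈ V ⊓ W from ⟨hxV, hxW⟩)
    exact ⟨W₁, hW₁, hxW₁, hle⟩
  have hW₁V : W₁ ≤ V := hW₁le.trans inf_le_left
  have hW₁W : W₁ ≤ W := hW₁le.trans inf_le_right
  -- the germ of `f • m` vanishes
  have hg0 : F.presheaf.germ W₁ x hxW₁ (resf hW₁W f • res F hW₁V m) =
      F.presheaf.germ W₁ x hxW₁ 0 := by
    rw [Groth.Agent.Lib.Helper2.QCoh.germ_smul, map_zero]
    have h1 : X.presheaf.germ W₁ x hxW₁ (resf hW₁W f) = X.presheaf.germ W x hxW f :=
      TopCat.Presheaf.germ_res_apply X.presheaf (homOfLE hW₁W) x hxW₁ f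
    have h2 : F.presheaf.germ W₁ x hxW₁ (res F hW₁V m) = F.presheaf.germ V x hxV m :=
      TopCat.Presheaf.germ_res_apply F.presheaf (homOfLE hW₁V) x hxW₁ m
    rw [h1, h2]
    exact hn
  obtain ⟨W₂, hxW₂, i₁, i₂, heq⟩ := TopCat.Presheaf.germ_eq F.presheaf x hxW₁ hxW₁ _ _ hg0
  rw [map_zero] at heq
  obtain ⟨W₃, hW₃, hxW₃, hW₃le⟩ : ∃ W₃ : X.Opens, IsAffineOpen W₃ ∧ x ∈ W₃ ∧ W₃ ≤ W₂ := by
    obtain ⟨W₃, hW₃, hxW₃, hle⟩ := Opens.isBasis_iff_nbhd.1 X.isBasis_affineOpens hxW₂
    exact ⟨W₃, hW₃, hxW₃, hle⟩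
  have hW₃W₁ : W₃ ≤ W₁ := hW₃le.trans i₁.le
  have hW₃V : W₃ ≤ V := hW₃W₁.trans hW₁V
  have hW₃W : W₃ ≤ W := hW₃W₁.trans hW₁W
  have hzero : resf hW₃W f • res F hW₃V m = 0 := by
    have h1 : res F hW₃W₁ (resf hW₁W f • res F hW₁V m) = 0 := by
      have : res F hW₃W₁ (resf hW₁W f • res F hW₁V m) =
          res F hW₃le (res F i₁.le (resf hW₁W f • res F hW₁V m)) := (res_res F _ _ _).symm
      rw [this]
      have h2 : res F i₁.le (resf hW₁W f • res F hW₁V m) = 0 := heq
      rw [h2]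
      exact map_zero (F.presheaf.map (homOfLE hW₃le).op).hom
    rw [res_smul, res_res, resf_resf] at h1
    exact h1
  have hne' : F.presheaf.germ W₃ x hxW₃ (res F hW₃V m) ≠ 0 := by
    have h2 : F.presheaf.germ W₃ x hxW₃ (res F hW₃V m) = F.presheaf.germ V x hxV m :=
      TopCat.Presheaf.germ_res_apply F.presheaf (homOfLE hW₃V) x hxW₃ m
    rw [h2]
    exact hne
  obtain ⟨x', hx'W₃, -, hassx', hmem⟩ :=
    Groth.Agent.Lib.Helper20.ZClosLib.exists_assPoint_of_germ_ne_zero' F hW₃ x hxW₃ _ hne'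
  have hfp := hmem _ hzero
  refine hass x' ?_ hassx'
  rw [Scheme.IdealSheafData.mem_support_iff_of_mem (U := ⟨W₃, hW₃⟩) hx'W₃, Scheme.mem_zeroLocus_iff]
  intro a ha
  rw [Groth.Agent.Lib.Helper2.mem_basicOpen_iff_notMem_primeIdealOf hW₃ x' hx'W₃, not_not]
  obtain ⟨j, hj⟩ := Groth.Agent.Lib.Helper23.IdealSec.exists_ι_eq D ⟨W₃, hW₃⟩ a ha
  obtain ⟨r, hr⟩ := (hgen W₃ hW₃W).2 j
  have hr' : r • res (ClSub.idealMod D) hW₃W e = j := hr
  have h3 : toS W₃ a = toS W₃ (r * resf hW₃W f) := by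
    rw [← hj, ← hr', Scheme.Modules.Hom.app_smul]
    have h4 : (ClSub.idealModι D).app W₃ (res (ClSub.idealMod D) hW₃W e) =
        toS W₃ (resf hW₃W f) := by
      have := Groth.Agent.Lib.Helper23.Extend.app_map (ClSub.idealModι D) (homOfLE hW₃W) e
      rw [this]
      rfl
    rw [h4, smul_toS]
  have h5 : a = r * resf hW₃W f := by
    have := congrArg (ofS W₃) h3
    simpa using this
  rw [h5]
  exact Ideal.mul_mem_left _ _ hfp

/-- injectivity on stalks of `F ⊗ I_D ⟶ F ⊗ O_X` -/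
theorem lTensor_injective (D : X.IdealSheafData) (hD : BlowUp.IsEffCartierIdeal D)
    (F : X.Modules) [F.IsQuasicoherent]
    (hass : ∀ x ∈ D.support, ¬ Curv2.IsAssPoint F x) (x : X) :
    Function.Injective (LinearMap.lTensor (St (toPM F) x)
      (smₗ (toPMMap (ClSub.idealModι D)) x)) := by
  obtain ⟨W, e, hxW, hgen⟩ := exists_gen (ClSub.idealMod D)
    (Groth.Agent.Helper18Cart.isInvertible_of_isEffCartier D hD) x
  refine lTensor_injective_of_gen _ (Groth.Agent.Lib.Helper23.UnitStalk.unitStalkEquiv x)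
    (gm (toPM (ClSub.idealMod D)) x W hxW e) ?_
    (X.presheaf.germ W x hxW (ofS W ((ClSub.idealModι D).app W e))) ?_ ?_
  · intro a
    obtain ⟨V, hxV, j, rfl⟩ := exists_gm_eq a
    obtain ⟨r, hr⟩ := (hgen (V ⊓ W) inf_le_right).2
      (res (ClSub.idealMod D) (inf_le_left : V ⊓ W ≤ V) j)
    have hr' : r • res (ClSub.idealMod D) (inf_le_right : V ⊓ W ≤ W) e =
        res (ClSub.idealMod D) (inf_le_left : V ⊓ W ≤ V) j := hr
    refine ⟨X.presheaf.germ (V ⊓ W) x ⟨hxV, hxW⟩ r, ?_⟩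
    have h1 : gm (toPM (ClSub.idealMod D)) x V hxV j =
        (ClSub.idealMod D).presheaf.germ (V ⊓ W) x ⟨hxV, hxW⟩
          (res (ClSub.idealMod D) (inf_le_left : V ⊓ W ≤ V) j) :=
      (TopCat.Presheaf.germ_res_apply (ClSub.idealMod D).presheaf
        (homOfLE (inf_le_left : V ⊓ W ≤ V)) x ⟨hxV, hxW⟩ j).symm
    have h2 : gm (toPM (ClSub.idealMod D)) x W hxW e =
        (ClSub.idealMod D).presheaf.germ (V ⊓ W) x ⟨hxV, hxW⟩
          (res (ClSub.idealMod D) (inf_le_right : V ⊓ W ≤ W) e) :=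
      (TopCat.Presheaf.germ_res_apply (ClSub.idealMod D).presheaf
        (homOfLE (inf_le_right : V ⊓ W ≤ W)) x ⟨hxV, hxW⟩ e).symm
    rw [h1, h2, ← hr']
    exact Groth.Agent.Lib.Helper2.QCoh.germ_smul _ x _ _ r _
  · rw [smₗ_apply, sm_gm]
    have := Groth.Agent.Lib.Helper23.UnitStalk.toUnitStalk_germ x W hxW
      (ofS W ((ClSub.idealModι D).app W e))
    rw [toS_ofS] at this
    exact this.symm
  · intro n hn
    exact regular_of_hass D F hass x W hxW e hgen n hn

/-- `F ⊗ I_D ⟶ F ⊗ O_X` is a monomorphism when no associated point of `F` lies on `D` -/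
theorem mono_tensor_ideal (D : X.IdealSheafData) (hD : BlowUp.IsEffCartierIdeal D)
    (F : X.Modules) [F.IsQuasicoherent]
    (hass : ∀ x ∈ D.support, ¬ Curv2.IsAssPoint F x) :
    Mono ((DCoh.tensorBi.obj F).map (ClSub.idealModι D)) := by
  rw [tensorBi_obj_map]
  apply mono_shX_map_of_sm_injective
  intro x a b hab
  have h2 := congrArg (α (toPM F) (toPM (Coh.structureModule X)) x) hab
  rw [α_nat_right, α_nat_right] at h2
  exact (α_bijective).1 (lTensor_injective D hD F hass x h2)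

end Groth.Agent.Lib.R2H4CartierMono
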