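import Mathlib
import Groth.Prelude.Def_Dual3
import Groth.Prelude.Def_Omega4
import Groth.Agent.Lib.R2H2PullSec
import Groth.Agent.Lib.Helper23FinType2

/-!
# Sections of `I · F` and Krull's intersection theorem for coherent modules (helper2, round 2)

`Dual3.idealMul J F = ker (F ⟶ i_* i^* F)` for the closed subscheme `i` of `J`:
* `un_app_eq_zero_iff`: over an affine open `U`, a section of a quasi-coherent `F` is killed by the unit iff it lies in
  `J(U) • F(U)`;
* `mem_range_idealMulι_iff`: sections of `idealMul J F` = sections killed by the unit;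
* `un_app_eq_zero_of_res_eq_zero`, `exists_nhd_res_eq_zero` (Krull), `forall_un_eq_zero_iff`: on a locally Noetherian
  scheme, a global section of a coherent `F` lies in `I^n F` for all `n` iff it vanishes near the support of `I`.
-/

set_option autoImplicit false
set_option linter.style.haveILetI false
universe u
open CategoryTheory CategoryTheory.Limits AlgebraicGeometry TopologicalSpace Opposite

namespace Groth.Agent.Lib.R2H2.IdealMulSec

open Groth.Agent.Helper13PullbackUnit Groth.Agent.Lib.R2H3.PullUnit Groth.Agent.Lib.R2H2.PullSec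

variable {X : Scheme.{u}} (J : X.IdealSheafData) (F : X.Modules)

/-- the unit `F ⟶ i_* i^* F` of the closed subscheme of `J`. -/
noncomputable abbrev un : F ⟶ (Scheme.Modules.pushforward J.subschemeι).obj
    ((Scheme.Modules.pullback J.subschemeι).obj F) :=
  (Scheme.Modules.pullbackPushforwardAdjunction J.subschemeι).unit.app F

theorem un_app_eq_uS (U : X.Opens) (m : Γ(F, U)) :
    (un J F).app U m = uS J.subschemeι F m :=
  (unitSec_le_rfl J.subschemeι F U m).symm

/-- sections of `F` over an affine open killed by the unit are the multiples of the ideal. -/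
theorem un_app_eq_zero_iff [F.IsQuasicoherent] {U : X.Opens} (hU : IsAffineOpen U) (m : Γ(F, U)) :
    (un J F).app U m = 0 ↔ m ∈ J.ideal ⟨U, hU⟩ • (⊤ : Submodule Γ(X, U) Γ(F, U)) := by
  have hU' : IsAffineOpen (J.subschemeι ⁻¹ᵁ U) := hU.preimage J.subschemeι
  have h1 : (un J F).app U m = uS J.subschemeι F m := un_app_eq_uS J F U m
  have h2 := uS_eq_zero_iff J.subschemeι F hU hU' (J.subschemeι_app_surjective ⟨U, hU⟩) m
  rw [J.ker_subschemeι_app ⟨U, hU⟩] at h2
  constructor
  · intro h
    exact h2.1 (h1.symm.trans h)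
  · intro h
    exact h1.trans (h2.2 h)

/-- membership in the global sections of `J F`. -/
theorem mem_range_idealMulι_iff (U : X.Opens) (s : Γ(F, U)) :
    (∃ t : Γ((Dual3.idealMul J).obj F, U), (Dual3.idealMulι J F).app U t = s) ↔
      (un J F).app U s = 0 := by
  constructor
  · rintro ⟨t, rfl⟩
    have h : Dual3.idealMulι J F ≫ un J F = 0 := kernel.condition _
    rw [← ConcreteCategory.comp_apply, ← Scheme.Modules.Hom.comp_app, h,
      Scheme.Modules.Hom.zero_app]
    rfl
  · intro h
    exact ⟨OmegaSh.kerLift (un J F) U s h, OmegaSh.ι_kerLift (un J F) U s h⟩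

/-- a section vanishing on an open containing the support of `J` is killed by the unit. -/
theorem un_app_eq_zero_of_res_eq_zero (V : X.Opens) (hV : J.supportSet ⊆ (V : Set X)) (s : Γ(F, ⊤))
    (hs : F.presheaf.map (homOfLE (le_top : V ≤ ⊤)).op s = 0) : (un J F).app ⊤ s = 0 := by
  have h1 := app_res (un J F) (le_top : V ≤ ⊤) s
  rw [hs, map_zero] at h1
  have heq : J.subschemeι ⁻¹ᵁ V = J.subschemeι ⁻¹ᵁ ⊤ := by
    ext z
    simp only [Opens.map_top, Opens.coe_top, Set.mem_univ, iff_true]
    show J.subschemeι.base z ∈ (V : Set X)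
    apply hV
    have : J.subschemeι.base z ∈ Set.range J.subschemeι.base := ⟨z, rfl⟩
    rw [J.range_subschemeι] at this
    exact this
  have hinj : Function.Injective (((Scheme.Modules.pushforward J.subschemeι).obj
      ((Scheme.Modules.pullback J.subschemeι).obj F)).presheaf.map
        (homOfLE (le_top : V ≤ ⊤)).op) :=
    (map_bijective_of_eq ((Scheme.Modules.pullback J.subschemeι).obj F) heq _).1
  exact hinj (h1.symm.trans (map_zero _).symm)

theorem supportSet_pow_subset (I : X.IdealSheafData) (n : ℕ) :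
    (I ^ n).supportSet ⊆ I.supportSet := by
  cases n with
  | zero =>
    rw [pow_zero]
    intro x hx
    have : (1 : X.IdealSheafData).supportSet = ∅ := by
      show (⊤ : X.IdealSheafData).supportSet = ∅
      rfl
    rw [this] at hx
    exact hx.elim
  | succ n => exact le_of_eq rfl

section krull

open Groth.Agent.Lib.Helper23.FinType

variable (I : X.IdealSheafData) [IsLocallyNoetherian X] [F.IsQuasicoherent]
  [hft : SheafOfModules.IsFiniteType (R := X.ringCatSheaf) F]

/-- Krull's intersection theorem on an affine open: a section lying in `I^n F` for all `n` vanishes near every point of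
the support of `I`. -/
theorem exists_nhd_res_eq_zero {U : X.Opens} (hU : IsAffineOpen U) (m : Γ(F, U))
    (hm : ∀ n : ℕ, (un (I ^ n) F).app U m = 0) (x : X) (hxU : x ∈ U) (hx : x ∈ I.supportSet) :
    ∃ (W : X.Opens) (hWU : W ≤ U), x ∈ W ∧ F.presheaf.map (homOfLE hWU).op m = 0 := by
  haveI : IsNoetherianRing Γ(X, U) := IsLocallyNoetherian.component_noetherian ⟨U, hU⟩
  haveI : Module.Finite Γ(X, U) Γ(F, U) := finite_of_isFiniteType F hU
  have hmem : m ∈ (⨅ n : ℕ, (I.ideal ⟨U, hU⟩) ^ n • ⊤ : Submodule Γ(X, U) Γ(F, U)) := by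
    rw [Submodule.mem_iInf]
    intro n
    have h1 := (un_app_eq_zero_iff (I ^ n) F hU m).1 (hm n)
    rw [Scheme.IdealSheafData.ideal_pow] at h1
    exact h1
  obtain ⟨⟨r, hr⟩, hrm⟩ := (Ideal.mem_iInf_smul_pow_eq_bot_iff _ m).1 hmem
  have hrm' : r • m = m := hrm
  refine ⟨X.basicOpen (1 - r), X.basicOpen_le _, ?_, ?_⟩
  · rw [Scheme.mem_basicOpen _ _ x hxU, map_sub, map_one]
    have hz : x ∈ X.zeroLocus (U := U) (I.ideal ⟨U, hU⟩ : Set Γ(X, U)) :=
      (Scheme.IdealSheafData.mem_supportSet_iff_of_mem (U := ⟨U, hU⟩) hxU).1 hx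
    have hnr : x ∉ X.basicOpen r := (Scheme.mem_zeroLocus_iff _ _ x).1 hz r hr
    rw [Scheme.mem_basicOpen _ _ x hxU] at hnr
    exact IsLocalRing.isUnit_one_sub_self_of_mem_nonunits _ hnr
  · have h0 : (1 - r) • m = 0 := by rw [sub_smul, one_smul, hrm', sub_self]
    have h1 := congrArg (F.presheaf.map (homOfLE (X.basicOpen_le (1 - r))).op) h0
    rw [Scheme.Modules.map_smul, map_zero] at h1
    have hu : IsUnit (X.presheaf.map (homOfLE (X.basicOpen_le (1 - r))).op (1 - r)) :=
      X.toRingedSpace.isUnit_res_basicOpen (1 - r)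
    exact hu.smul_left_cancel.1 (h1.trans (smul_zero _).symm)

omit [IsLocallyNoetherian X] [F.IsQuasicoherent] hft in
theorem res_res {U W : X.Opens} (hWU : W ≤ U) (s : Γ(F, ⊤)) :
    F.presheaf.map (homOfLE hWU).op (F.presheaf.map (homOfLE (le_top : U ≤ ⊤)).op s) =
      F.presheaf.map (homOfLE (le_top : W ≤ ⊤)).op s := by
  rw [← ConcreteCategory.comp_apply, ← Functor.map_comp]
  rfl

/-- a global section lying in `I^n F` for all `n` vanishes on a neighbourhood of the support of `I`, and conversely. -/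
theorem forall_un_eq_zero_iff (s : Γ(F, ⊤)) :
    (∀ n : ℕ, (un (I ^ n) F).app ⊤ s = 0) ↔
      ∃ V : X.Opens, I.supportSet ⊆ (V : Set X) ∧
        F.presheaf.map (homOfLE (le_top : V ≤ ⊤)).op s = 0 := by
  constructor
  · intro h
    have key : ∀ x : I.supportSet, ∃ W : X.Opens, (x : X) ∈ W ∧
        F.presheaf.map (homOfLE (le_top : W ≤ ⊤)).op s = 0 := by
      rintro ⟨x, hx⟩
      obtain ⟨_, ⟨U, hU, rfl⟩, hxU, -⟩ :=
        X.isBasis_affineOpens.exists_subset_of_mem_open (Set.mem_univ x) isOpen_univ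
      have hm : ∀ n : ℕ, (un (I ^ n) F).app U (F.presheaf.map (homOfLE (le_top : U ≤ ⊤)).op s) = 0 := by
        intro n
        rw [app_res (un (I ^ n) F) (le_top : U ≤ ⊤) s, h n, map_zero]
      obtain ⟨W, hWU, hxW, hW⟩ := exists_nhd_res_eq_zero F I hU _ hm x hxU hx
      refine ⟨W, hxW, ?_⟩
      rw [← res_res F hWU s]
      exact hW
    choose W hxW hW using key
    refine ⟨⨆ x, W x, ?_, ?_⟩
    · intro x hx
      exact Opens.mem_iSup.2 ⟨⟨x, hx⟩, hxW ⟨x, hx⟩⟩
    · refine TopCat.Sheaf.eq_of_locally_eq' ⟨F.presheaf, F.isSheaf⟩ W (⨆ x, W x)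
        (fun x => homOfLE (le_iSup W x)) (le_refl _) _ 0 (fun x => ?_)
      rw [map_zero]
      have h2 := hW x
      rw [← h2, ← ConcreteCategory.comp_apply, ← Functor.map_comp]
      rfl
  · rintro ⟨V, hV, hs⟩ n
    exact un_app_eq_zero_of_res_eq_zero (I ^ n) F V ((supportSet_pow_subset I n).trans hV) s hs

end krull

end Groth.Agent.Lib.R2H2.IdealMulSec
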