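import Mathlib
import Groth.Agent.Lib.R2H2PullSec
import Groth.Agent.Lib.Helper18PBUnit4
import Groth.Agent.Lib.Helper13AffBC
import Groth.Agent.Lib.Helper23QCohLocal

/-!
# Pushforward along a closed immersion is fully faithful on quasi-coherent modules (helper3, round 2)

* `isIso_counit_app` : `i^* i_* N ≅ N` for a closed immersion `i` and quasi-coherent `N`.
* `pushPreimage`, `map_pushPreimage` : every `ψ : i_* M ⟶ i_* N` (`M` quasi-coherent) is `i_* φ` for `φ = pushPreimage i ψ`.
* `push_map_injective` : `i_*` is faithful on maps out of quasi-coherent modules.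
-/

set_option autoImplicit false
set_option linter.style.haveILetI false
universe u
open CategoryTheory CategoryTheory.Limits AlgebraicGeometry TopologicalSpace Opposite

namespace Groth.Agent.Lib.R2H3.ClosedPush

open Scheme.Modules Groth.Agent.Helper13PullbackUnit Groth.Agent.Lib.R2H2.PullSec

variable {Z X : Scheme.{u}} (i : Z ⟶ X) [IsClosedImmersion i]

theorem isBasis_preimage_affine :
    Opens.IsBasis (Set.range (fun U : X.affineOpens => i ⁻¹ᵁ U.1)) := by
  rw [Opens.isBasis_iff_nbhd]
  intro W z hz
  obtain ⟨V, hV, hVW⟩ := i.isClosedEmbedding.isEmbedding.isInducing.isOpen_iff.1 W.2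
  have hzV : i z ∈ V := by
    have : z ∈ (i : Z → X) ⁻¹' V := by rw [hVW]; exact hz
    exact this
  obtain ⟨_, ⟨U, hU, rfl⟩, hzU, hUV⟩ := X.isBasis_affineOpens.exists_subset_of_mem_open hzV hV
  refine ⟨i ⁻¹ᵁ U, ⟨⟨U, hU⟩, rfl⟩, hzU, ?_⟩
  intro y hy
  have : y ∈ (i : Z → X) ⁻¹' V := hUV hy
  rw [hVW] at this
  exact this

theorem bijective_counit_app (N : Z.Modules) [N.IsQuasicoherent] (U : X.Opens) (hU : IsAffineOpen U) :
    Function.Bijective (((pullbackPushforwardAdjunction i).counit.app N).app (i ⁻¹ᵁ U)) := by
  haveI : ((pushforward i).obj N).IsQuasicoherent :=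
    Groth.Agent.Lib.Helper23.QCohLocal.isQuasicoherent_pushforward i N
  have hU' : IsAffineOpen (i ⁻¹ᵁ U) := hU.preimage i
  have hs : Function.Surjective (i.app U).hom := i.app_surjective U hU
  have hsurj := uS_surjective i ((pushforward i).obj N) hU hU' hs
  have htri : ∀ x : Γ((pushforward i).obj N, U),
      ((pullbackPushforwardAdjunction i).counit.app N).app (i ⁻¹ᵁ U)
        (uS i ((pushforward i).obj N) x) = x := by
    intro x
    have h1 := (pullbackPushforwardAdjunction i).right_triangle_components N
    have h2 := congrArg (fun φ => φ.app U x) h1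
    dsimp only at h2
    rw [← Groth.Agent.Helper18PBUnit.unit_app_eq_unitSec]
    exact h2
  constructor
  · intro y y' hyy'
    obtain ⟨x, rfl⟩ := hsurj y
    obtain ⟨x', rfl⟩ := hsurj y'
    rw [htri, htri] at hyy'
    rw [hyy']
  · intro x
    exact ⟨uS i ((pushforward i).obj N) x, htri x⟩

/-- the counit `i^* i_* N → N` is an isomorphism for quasi-coherent `N` -/
theorem isIso_counit_app (N : Z.Modules) [N.IsQuasicoherent] :
    IsIso ((pullbackPushforwardAdjunction i).counit.app N) :=
  Groth.Agent.Helper13AffBC.isIso_of_bijective_on_basis _ (fun U : X.affineOpens => i ⁻¹ᵁ U.1)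
    (isBasis_preimage_affine i) (fun U => bijective_counit_app i N U.1 U.2)

/-- the preimage of a morphism between pushforwards -/
noncomputable def pushPreimage {M N : Z.Modules} [M.IsQuasicoherent]
    (ψ : (pushforward i).obj M ⟶ (pushforward i).obj N) : M ⟶ N :=
  haveI := isIso_counit_app i M
  inv ((pullbackPushforwardAdjunction i).counit.app M) ≫
    ((pullbackPushforwardAdjunction i).homEquiv _ _).symm ψ

theorem map_pushPreimage {M N : Z.Modules} [M.IsQuasicoherent]
    (ψ : (pushforward i).obj M ⟶ (pushforward i).obj N) :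
    (pushforward i).map (pushPreimage i ψ) = ψ := by
  haveI := isIso_counit_app i M
  set adj := pullbackPushforwardAdjunction i
  obtain ⟨φ, hφ⟩ : ∃ φ : M ⟶ N, φ = pushPreimage i ψ := ⟨_, rfl⟩
  rw [← hφ]
  have h1 : φ = inv (adj.counit.app M) ≫ (adj.homEquiv _ _).symm ψ := hφ
  have h2 : ψ = adj.homEquiv _ _ ((adj.homEquiv _ _).symm ψ) := (Equiv.apply_symm_apply _ _).symm
  rw [Adjunction.homEquiv_unit] at h2
  have h3 : (adj.homEquiv _ _).symm ψ = adj.counit.app M ≫ φ := by
    rw [h1]
    exact (IsIso.hom_inv_id_assoc (adj.counit.app M) _).symm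
  have h4 : adj.unit.app ((pushforward i).obj M) ≫ (pushforward i).map (adj.counit.app M) =
      𝟙 _ := adj.right_triangle_components M
  have h5 : (pushforward i).map (adj.counit.app M ≫ φ) =
      (pushforward i).map (adj.counit.app M) ≫ (pushforward i).map φ := Functor.map_comp _ _ _
  rw [h3, h5, ← Category.assoc, h4] at h2
  rw [h2]
  exact (Category.id_comp _).symm

theorem push_map_injective {M N : Z.Modules} [M.IsQuasicoherent] (φ φ' : M ⟶ N)
    (h : (pushforward i).map φ = (pushforward i).map φ') : φ = φ' := by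
  haveI := isIso_counit_app i M
  set adj := pullbackPushforwardAdjunction i
  have key : adj.counit.app M ≫ φ = adj.counit.app M ≫ φ' :=
    calc adj.counit.app M ≫ φ
        = (Scheme.Modules.pullback i).map ((pushforward i).map φ) ≫ adj.counit.app N :=
          (adj.counit_naturality φ).symm
      _ = (Scheme.Modules.pullback i).map ((pushforward i).map φ') ≫ adj.counit.app N := by rw [h]
      _ = adj.counit.app M ≫ φ' := adj.counit_naturality φ'
  exact (cancel_epi (adj.counit.app M)).1 key

end Groth.Agent.Lib.R2H3.ClosedPush
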