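import Mathlib
import Groth.Prelude.Def_KZero
import Groth.Prelude.Def_SGA6
import Groth.Agent.Lib.R2H2K0Gen

/-!
# One dévissage step for `K₀` (helper4, round 2)

`Q ≤ P` object properties of an abelian category, `s` an endofunctor with a natural monomorphism
`ι : s F ⟶ F` such that for `F ∈ P` both `s F` and `F / s F` lie in `Q`, and `s` preserves
epimorphisms between objects of `P`.  Then `F ↦ [s F] + [F / s F] ∈ K₀(Q)` is additive on the short
exact sequences of `P`.  The only diagram lemma used is Mathlib's kernel–cokernel sequence of a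
composition.
-/

set_option autoImplicit false
set_option linter.style.haveILetI false
set_option linter.unusedSectionVars false
universe v u

namespace Groth.Agent.Lib.R2H4K0Dev

open CategoryTheory CategoryTheory.Limits KZero
open Groth.Agent.Lib.R2H2.K0Gen

variable {A : Type u} [Category.{v} A] [Abelian A]

section FourTerm

variable (Q : ObjectProperty A) (hz : ∀ Z : A, IsZero Z → Q Z)
  (hker : ∀ {X Y : A} (f : X ⟶ Y), Q X → Q Y → Q (kernel f))

include hz hker in
/-- a four-term exact sequence `0 → A₁ → A₂ → A₃ → A₄ → 0` in `Q` -/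
theorem four_term {A₁ A₂ A₃ A₄ : A} (α : A₁ ⟶ A₂) (β : A₂ ⟶ A₃) (γ : A₃ ⟶ A₄) [Mono α] [Epi γ]
    (w₁ : α ≫ β = 0) (w₂ : β ≫ γ = 0)
    (e₁ : (ShortComplex.mk α β w₁).Exact) (e₂ : (ShortComplex.mk β γ w₂).Exact)
    (h₁ : Q A₁) (h₂ : Q A₂) (h₃ : Q A₃) (h₄ : Q A₄) :
    clSub Q A₁ + clSub Q A₃ = clSub Q A₂ + clSub Q A₄ := by
  have hkα : Q (kernel α) := hker α h₁ h₂
  have hkβ : Q (kernel β) := hker β h₂ h₃
  have hkγ : Q (kernel γ) := hker γ h₃ h₄
  have r1 := clSub_shortExact Q _ (kerS_shortExact _ e₁) hkα h₁ hkβ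
  have r2 := clSub_shortExact Q _ (kerS_shortExact _ e₂) hkβ h₂ hkγ
  have hS3 : (ShortComplex.mk (kernel.ι γ) γ (kernel.condition γ)).ShortExact :=
    { exact := ShortComplex.exact_kernel γ
      mono_f := inferInstanceAs (Mono (kernel.ι γ))
      epi_g := inferInstanceAs (Epi γ) }
  have r3 := clSub_shortExact Q _ hS3 hkγ h₃ h₄
  have z : clSub Q (kernel α) = 0 := clSub_of_isZero Q (isZero_kernel_of_mono α) hkα
  change clSub Q A₁ = clSub Q (kernel α) + clSub Q (kernel β) at r1
  change clSub Q A₂ = clSub Q (kernel β) + clSub Q (kernel γ) at r2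
  change clSub Q A₃ = clSub Q (kernel γ) + clSub Q A₄ at r3
  rw [r1, r2, r3, z]
  abel

end FourTerm

section Comp

variable {X Y Z : A} (f : X ⟶ Y) (g : Y ⟶ Z)

/-- `ker (f ≫ g) ⟶ ker g` -/
noncomputable abbrev κ : kernel (f ≫ g) ⟶ kernel g := kernel.map (f ≫ g) g f (𝟙 _) (by simp)

/-- `coker f ⟶ coker (f ≫ g)` -/
noncomputable abbrev γγ : cokernel f ⟶ cokernel (f ≫ g) := cokernel.map f (f ≫ g) (𝟙 _) g (by simp)

instance mono_κ [Mono f] : Mono (κ f g) := by
  have h : κ f g ≫ kernel.ι g = kernel.ι (f ≫ g) ≫ f := by simp [κ]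
  haveI : Mono (κ f g ≫ kernel.ι g) := by rw [h]; infer_instance
  exact mono_of_mono (κ f g) (kernel.ι g)

instance epi_γγ [Epi g] : Epi (γγ f g) := by
  have h : cokernel.π f ≫ γγ f g = g ≫ cokernel.π (f ≫ g) := by simp [γγ]
  haveI : Epi (cokernel.π f ≫ γγ f g) := by rw [h]; infer_instance
  exact epi_of_epi (cokernel.π f) (γγ f g)

theorem exact₁ : (ShortComplex.mk (κ f g) (kernelCokernelCompSequence.δ f g)
    ((kernelCokernelCompSequence_exact f g).toIsComplex.zero 1)).Exact :=
  (kernelCokernelCompSequence_exact f g).exact 1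

theorem exact₂ : (ShortComplex.mk (kernelCokernelCompSequence.δ f g) (γγ f g)
    ((kernelCokernelCompSequence_exact f g).toIsComplex.zero 2)).Exact :=
  (kernelCokernelCompSequence_exact f g).exact 2

theorem exact₃ : (ShortComplex.mk (γγ f g) (cokernel.map (f ≫ g) g f (𝟙 _) (by simp))
    ((kernelCokernelCompSequence_exact f g).toIsComplex.zero 3)).Exact :=
  (kernelCokernelCompSequence_exact f g).exact 3

end Comp

section Step

variable (P Q : ObjectProperty A) (s : A ⥤ A) (ι : ∀ F : A, s.obj F ⟶ F)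

/-- the hypotheses of one dévissage step -/
structure StepHyp : Prop where
  nat : ∀ {F G : A} (φ : F ⟶ G), s.map φ ≫ ι G = ι F ≫ φ
  mono : ∀ F : A, Mono (ι F)
  hQP : ∀ F : A, Q F → P F
  hz : ∀ Z : A, IsZero Z → Q Z
  hQiso : ∀ {X Y : A}, (X ≅ Y) → Q X → Q Y
  hQker : ∀ {X Y : A} (f : X ⟶ Y), Q X → Q Y → Q (kernel f)
  hPcoker : ∀ {X Y : A} (f : X ⟶ Y), P X → P Y → P (cokernel f)
  hs : ∀ F : A, P F → Q (s.obj F)
  hq : ∀ F : A, P F → Q (cokernel (ι F))
  hepi : ∀ {F G : A} (p : F ⟶ G), Epi p → P F → P G → Epi (s.map p)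

/-- `χ(F) = [s F] + [F / s F]` in `K₀(Q)` -/
noncomputable def chi (F : A) : K0sub Q := clSub Q (s.obj F) + clSub Q (cokernel (ι F))

variable {P Q s ι}

theorem chi_iso (H : StepHyp P Q s ι) {F G : A} (e : F ≅ G) (hF : P F) (hG : P G) :
    chi Q s ι F = chi Q s ι G := by
  unfold chi
  have e1 : s.obj F ≅ s.obj G := s.mapIso e
  have e2 : cokernel (ι F) ≅ cokernel (ι G) :=
    cokernel.mapIso (ι F) (ι G) (s.mapIso e) e (by simpa using (H.nat e.hom).symm)
  rw [clSub_of_iso Q H.hz e1 (H.hs F hF) (H.hs G hG),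
    clSub_of_iso Q H.hz e2 (H.hq F hF) (H.hq G hG)]

/-- key lemma: for an epimorphism `p : F ⟶ G` in `P` whose kernel lies in `Q`,
`χ(F) = [ker p] + χ(G)` -/
theorem chi_epi (H : StepHyp P Q s ι) {F G : A} (p : F ⟶ G) [Epi p] (hF : P F) (hG : P G)
    (hN : Q (kernel p)) : chi Q s ι F = clSub Q (kernel p) + chi Q s ι G := by
  haveI := H.mono F
  haveI := H.mono G
  haveI : Epi (s.map p) := H.hepi p inferInstance hF hG
  have hsF := H.hs F hF
  have hsG := H.hs G hG
  have hnat : ι F ≫ p = s.map p ≫ ι G := (H.nat p).symm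
  -- kernel and cokernel of `ι F ≫ p`
  let eK : kernel (ι F ≫ p) ≅ kernel (s.map p) :=
    kernelIsoOfEq hnat ≪≫ kernelCompMono (s.map p) (ι G)
  let eC : cokernel (ι F ≫ p) ≅ cokernel (ι G) :=
    cokernelIsoOfEq hnat ≪≫ cokernelEpiComp (s.map p) (ι G)
  have hK : Q (kernel (s.map p)) := H.hQker _ hsF hsG
  have hK' : Q (kernel (ι F ≫ p)) := H.hQiso eK.symm hK
  have hC' : Q (cokernel (ι F ≫ p)) := H.hQiso eC.symm (H.hq G hG)
  have h4 := four_term Q H.hz (fun f => H.hQker f) (κ (ι F) p)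
    (kernelCokernelCompSequence.δ (ι F) p) (γγ (ι F) p) _ _ (exact₁ (ι F) p) (exact₂ (ι F) p)
    hK' hN (H.hq F hF) hC'
  rw [clSub_of_iso Q H.hz eK hK' hK, clSub_of_iso Q H.hz eC hC' (H.hq G hG)] at h4
  -- `0 → ker (s p) → s F → s G → 0`
  have hS : (ShortComplex.mk (kernel.ι (s.map p)) (s.map p) (kernel.condition _)).ShortExact :=
    { exact := ShortComplex.exact_kernel _
      mono_f := inferInstanceAs (Mono (kernel.ι (s.map p)))
      epi_g := inferInstanceAs (Epi (s.map p)) }
  have r := clSub_shortExact Q _ hS hK hsF hsG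
  change clSub Q (s.obj F) = clSub Q (kernel (s.map p)) + clSub Q (s.obj G) at r
  unfold chi
  rw [r]
  calc clSub Q (kernel (s.map p)) + clSub Q (s.obj G) + clSub Q (cokernel (ι F))
      = (clSub Q (kernel (s.map p)) + clSub Q (cokernel (ι F))) + clSub Q (s.obj G) := by abel
    _ = (clSub Q (kernel p) + clSub Q (cokernel (ι G))) + clSub Q (s.obj G) := by rw [h4]
    _ = clSub Q (kernel p) + (clSub Q (s.obj G) + clSub Q (cokernel (ι G))) := by abel

/-- `χ` is additive on the short exact sequences of `P` -/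
theorem chi_add (H : StepHyp P Q s ι) (S : ShortComplex A) (hS : S.ShortExact) (h₁ : P S.X₁)
    (h₂ : P S.X₂) (h₃ : P S.X₃) : chi Q s ι S.X₂ = chi Q s ι S.X₁ + chi Q s ι S.X₃ := by
  haveI := H.mono S.X₁
  haveI := hS.mono_f
  haveI := hS.epi_g
  have hs1 := H.hs _ h₁
  have hq1 := H.hq _ h₁
  -- `a : s F' ⟶ F`
  let a : s.obj S.X₁ ⟶ S.X₂ := ι S.X₁ ≫ S.f
  haveI : Mono a := mono_comp _ _
  have hK : P (cokernel a) := H.hPcoker a (H.hQP _ hs1) h₂
  -- first step: `F ⟶ F / s F'`
  let e1 : s.obj S.X₁ ≅ kernel (cokernel.π a) := asIso (Abelian.factorThruImage a)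
  have hk1 : Q (kernel (cokernel.π a)) := H.hQiso e1 hs1
  have r1 := chi_epi H (cokernel.π a) h₂ hK hk1
  rw [← clSub_of_iso Q H.hz e1 hs1 hk1] at r1
  -- second step: `F / s F' ⟶ coker f`
  let c : cokernel a ⟶ cokernel S.f := cokernel.map (ι S.X₁ ≫ S.f) S.f (ι S.X₁) (𝟙 _) (by simp)
  haveI : Epi c := by
    have h : cokernel.π a ≫ c = cokernel.π S.f := by simp [c, a]
    haveI : Epi (cokernel.π a ≫ c) := by rw [h]; infer_instance
    exact epi_of_epi (cokernel.π a) c
  have hC : P (cokernel S.f) := H.hPcoker S.f h₁ h₂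
  haveI : Mono (γγ (ι S.X₁) S.f) := by
    -- from exactness at `coker (ι F')` and `ker f = 0`
    have hex := exact₂ (ι S.X₁) S.f
    have h0 : kernelCokernelCompSequence.δ (ι S.X₁) S.f = 0 :=
      (isZero_kernel_of_mono S.f).eq_of_src _ _
    exact (ShortComplex.exact_iff_mono _ h0).1 hex
  have wc : γγ (ι S.X₁) S.f ≫ c = 0 :=
    (kernelCokernelCompSequence_exact (ι S.X₁) S.f).toIsComplex.zero 3
  have hlim : IsLimit (KernelFork.ofι (γγ (ι S.X₁) S.f) wc) := (exact₃ (ι S.X₁) S.f).fIsKernel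
  let e2 : cokernel (ι S.X₁) ≅ kernel c :=
    IsLimit.conePointUniqueUpToIso hlim (limit.isLimit (parallelPair c 0))
  have hk2 : Q (kernel c) := H.hQiso e2 hq1
  have r2 := chi_epi H c hK hC hk2
  rw [← clSub_of_iso Q H.hz e2 hq1 hk2] at r2
  -- `coker f ≅ F''`
  let e3 : cokernel S.f ≅ S.X₃ :=
    IsColimit.coconePointUniqueUpToIso (cokernelIsCokernel S.f) hS.exact.gIsCokernel
  rw [chi_iso H e3 hC h₃] at r2
  rw [r1, r2]
  unfold chi
  abel

theorem chi_of_Q (H : StepHyp P Q s ι) {F : A} (hF : Q F) : chi Q s ι F = clSub Q F := by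
  haveI := H.mono F
  have hP := H.hQP F hF
  have hS : (ShortComplex.mk (ι F) (cokernel.π (ι F)) (cokernel.condition _)).ShortExact :=
    { exact := ShortComplex.exact_cokernel _
      mono_f := inferInstanceAs (Mono (ι F))
      epi_g := inferInstanceAs (Epi (cokernel.π (ι F))) }
  exact (clSub_shortExact Q _ hS (H.hs F hP) hF (H.hq F hP)).symm

theorem chi_in_P (H : StepHyp P Q s ι) {F : A} (hF : P F) :
    clSub P (s.obj F) + clSub P (cokernel (ι F)) = clSub P F := by
  haveI := H.mono F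
  have hS : (ShortComplex.mk (ι F) (cokernel.π (ι F)) (cokernel.condition _)).ShortExact :=
    { exact := ShortComplex.exact_cokernel _
      mono_f := inferInstanceAs (Mono (ι F))
      epi_g := inferInstanceAs (Epi (cokernel.π (ι F))) }
  exact (clSub_shortExact P _ hS (H.hQP _ (H.hs F hF)) hF (H.hQP _ (H.hq F hF))).symm

end Step

section Chain

/-- two homomorphisms out of `K0sub P` agreeing on the classes are equal -/
theorem hom_ext' {G : Type*} [AddCommGroup G] (P : ObjectProperty A) (f g : K0sub P →+ G)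
    (h : ∀ X, P X → f (clSub P X) = g (clSub P X)) : f = g := by
  apply AddMonoidHom.ext
  intro x
  exact K0sub_induction P (AddMonoidHom.eqLocus f g) h x

/-- the map on `K₀` induced by an inclusion of object properties -/
noncomputable def incl (Q P : ObjectProperty A) (h : ∀ F, Q F → P F) : K0sub Q →+ K0sub P :=
  liftAdd Q (fun F => clSub P F) (fun S hS h1 h2 h3 =>
    clSub_shortExact P S hS (h _ h1) (h _ h2) (h _ h3))

theorem incl_clSub (Q P : ObjectProperty A) (h : ∀ F, Q F → P F) {F : A} (hF : Q F) :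
    incl Q P h (clSub Q F) = clSub P F :=
  liftAdd_clSub Q _ _ hF

theorem incl_comp (Q₁ Q₂ Q₃ : ObjectProperty A) (h₁₂ : ∀ F, Q₁ F → Q₂ F) (h₂₃ : ∀ F, Q₂ F → Q₃ F) :
    (incl Q₂ Q₃ h₂₃).comp (incl Q₁ Q₂ h₁₂) = incl Q₁ Q₃ (fun F hF => h₂₃ F (h₁₂ F hF)) := by
  apply hom_ext'
  intro X hX
  rw [AddMonoidHom.comp_apply, incl_clSub _ _ _ hX, incl_clSub _ _ _ (h₁₂ X hX),
    incl_clSub _ _ _ hX]

variable {P Q : ObjectProperty A} {s : A ⥤ A} {ι : ∀ F : A, s.obj F ⟶ F}

/-- one dévissage step: `K₀(Q) → K₀(P)` is bijective -/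
theorem bijective_incl_step (H : StepHyp P Q s ι) : Function.Bijective (incl Q P H.hQP) := by
  let ψ : K0sub P →+ K0sub Q := liftAdd P (chi Q s ι) (chi_add H)
  have h1 : ψ.comp (incl Q P H.hQP) = AddMonoidHom.id _ := by
    apply hom_ext'
    intro X hX
    rw [AddMonoidHom.comp_apply, incl_clSub _ _ _ hX, AddMonoidHom.id_apply]
    change liftAdd P (chi Q s ι) (chi_add H) (clSub P X) = _
    rw [liftAdd_clSub P _ _ (H.hQP X hX), chi_of_Q H hX]
  have h2 : (incl Q P H.hQP).comp ψ = AddMonoidHom.id _ := by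
    apply hom_ext'
    intro X hX
    rw [AddMonoidHom.comp_apply, AddMonoidHom.id_apply]
    change incl Q P H.hQP (liftAdd P (chi Q s ι) (chi_add H) (clSub P X)) = _
    rw [liftAdd_clSub P _ _ hX]
    unfold chi
    rw [map_add, incl_clSub _ _ _ (H.hs X hX), incl_clSub _ _ _ (H.hq X hX), chi_in_P H hX]
  exact ⟨Function.LeftInverse.injective (fun x => DFunLike.congr_fun h1 x),
    Function.RightInverse.surjective (fun x => DFunLike.congr_fun h2 x)⟩

/-- an exhaustive chain of dévissage steps: `K₀(Q 0) → K₀(P)` is bijective -/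
theorem bijective_incl_chain (P : ObjectProperty A) (Q : ℕ → ObjectProperty A)
    (s : A ⥤ A) (ι : ∀ F : A, s.obj F ⟶ F)
    (H : ∀ k, StepHyp (Q (k + 1)) (Q k) s ι)
    (hsub : ∀ k F, Q k F → P F) (hexh : ∀ F, P F → ∃ k, Q k F) :
    Function.Bijective (incl (Q 0) P (hsub 0)) := by
  have hmono : ∀ k l, k ≤ l → ∀ F, Q k F → Q l F := by
    intro k l hkl
    induction l, hkl using Nat.le_induction with
    | base => exact fun F hF => hF
    | succ l _ ih => exact fun F hF => (H l).hQP F (ih F hF)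
  -- `K₀(Q 0) → K₀(Q k)` is bijective
  have hk : ∀ k, Function.Bijective (incl (Q 0) (Q k) (hmono 0 k (Nat.zero_le k))) := by
    intro k
    induction k with
    | zero =>
      have : incl (Q 0) (Q 0) (hmono 0 0 (Nat.zero_le 0)) = AddMonoidHom.id _ := by
        apply hom_ext'
        intro X hX
        rw [incl_clSub _ _ _ hX, AddMonoidHom.id_apply]
      rw [this]
      exact Function.bijective_id
    | succ k ih =>
      have e := incl_comp (Q 0) (Q k) (Q (k + 1)) (hmono 0 k (Nat.zero_le k)) (H k).hQP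
      have hb := (bijective_incl_step (H k)).comp ih
      have e' : incl (Q 0) (Q (k + 1)) (hmono 0 (k + 1) (Nat.zero_le (k + 1))) =
          (incl (Q k) (Q (k + 1)) (H k).hQP).comp (incl (Q 0) (Q k) (hmono 0 k (Nat.zero_le k))) :=
        e.symm
      rw [e']
      exact hb
  constructor
  · -- injective
    intro x y hxy
    -- both come from some common level: use injectivity into `K₀(P)` via a retraction argument
    -- we show: the kernel is trivial using that every relation lives at a finite level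
    classical
    -- construct the retraction `K₀(P) → K₀(Q 0)`
    let lev : ∀ F, P F → ℕ := fun F hF => Nat.find (hexh F hF)
    let back : ∀ k, K0sub (Q k) → K0sub (Q 0) := fun k z => (Equiv.ofBijective _ (hk k)).symm z
    have back_incl : ∀ k (z : K0sub (Q 0)),
        back k (incl (Q 0) (Q k) (hmono 0 k (Nat.zero_le k)) z) = z := fun k z =>
      (Equiv.ofBijective _ (hk k)).symm_apply_apply z
    have incl_back : ∀ k (z : K0sub (Q k)),
        incl (Q 0) (Q k) (hmono 0 k (Nat.zero_le k)) (back k z) = z := fun k z =>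
      (Equiv.ofBijective _ (hk k)).apply_symm_apply z
    have back_add : ∀ k (z w : K0sub (Q k)), back k (z + w) = back k z + back k w := by
      intro k z w
      apply (hk k).1
      rw [map_add, incl_back, incl_back, incl_back]
    have back_le : ∀ k l (hkl : k ≤ l) F (hF : Q k F),
        back l (clSub (Q l) F) = back k (clSub (Q k) F) := by
      intro k l hkl F hF
      apply (hk l).1
      rw [incl_back]
      have e := incl_comp (Q 0) (Q k) (Q l) (hmono 0 k (Nat.zero_le k)) (hmono k l hkl)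
      have e2 := DFunLike.congr_fun e (back k (clSub (Q k) F))
      rw [AddMonoidHom.comp_apply, incl_back, incl_clSub _ _ _ hF] at e2
      exact e2
    let rfun : A → K0sub (Q 0) := fun F =>
      if hF : P F then back (lev F hF) (clSub (Q _) F) else 0
    have rfun_eq : ∀ k F (hF : Q k F), rfun F = back k (clSub (Q k) F) := by
      intro k F hF
      have hP := hsub k F hF
      simp only [rfun, dif_pos hP]
      exact (back_le _ _ (Nat.find_min' (hexh F hP) hF) F (Nat.find_spec (hexh F hP))).symm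
    have rfun_add : ∀ S : ShortComplex A, S.ShortExact → P S.X₁ → P S.X₂ → P S.X₃ →
        rfun S.X₂ = rfun S.X₁ + rfun S.X₃ := by
      intro S hS h₁ h₂ h₃
      obtain ⟨k₁, hk₁⟩ := hexh _ h₁
      obtain ⟨k₂, hk₂⟩ := hexh _ h₂
      obtain ⟨k₃, hk₃⟩ := hexh _ h₃
      have q₁ : Q (max k₁ (max k₂ k₃)) S.X₁ := hmono _ _ (le_max_left _ _) _ hk₁
      have q₂ : Q (max k₁ (max k₂ k₃)) S.X₂ :=
        hmono _ _ ((le_max_left _ _).trans (le_max_right _ _)) _ hk₂
      have q₃ : Q (max k₁ (max k₂ k₃)) S.X₃ :=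
        hmono _ _ ((le_max_right _ _).trans (le_max_right _ _)) _ hk₃
      rw [rfun_eq _ _ q₁, rfun_eq _ _ q₂, rfun_eq _ _ q₃, clSub_shortExact _ S hS q₁ q₂ q₃,
        back_add]
    let retr : K0sub P →+ K0sub (Q 0) := liftAdd P rfun rfun_add
    have hretr : retr.comp (incl (Q 0) P (hsub 0)) = AddMonoidHom.id _ := by
      apply hom_ext'
      intro X hX
      rw [AddMonoidHom.comp_apply, incl_clSub _ _ _ hX, AddMonoidHom.id_apply]
      change liftAdd P rfun rfun_add (clSub P X) = _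
      rw [liftAdd_clSub P _ _ (hsub 0 X hX), rfun_eq 0 X hX]
      have := back_incl 0 (clSub (Q 0) X)
      rw [incl_clSub _ _ _ hX] at this
      exact this
    have := congrArg retr hxy
    rw [← AddMonoidHom.comp_apply, ← AddMonoidHom.comp_apply, hretr] at this
    exact this
  · -- surjective
    intro y
    have hy : y ∈ (incl (Q 0) P (hsub 0)).range := by
      refine K0sub_induction P _ (fun F hF => ?_) y
      obtain ⟨k, hkF⟩ := hexh F hF
      obtain ⟨z, hz⟩ := (hk k).2 (clSub (Q k) F)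
      refine ⟨z, ?_⟩
      have e := incl_comp (Q 0) (Q k) P (hmono 0 k (Nat.zero_le k)) (hsub k)
      have e2 := DFunLike.congr_fun e z
      rw [AddMonoidHom.comp_apply, hz, incl_clSub _ _ _ hkF] at e2
      exact e2.symm
    exact hy

end Chain

end Groth.Agent.Lib.R2H4K0Dev
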