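import Groth.Agent.Lib.R2H2DevE
import Groth.Agent.Lib.R2H2IdealMulSec
set_option backward.isDefEq.respectTransparency.types false

/-!
# Dévissage of coherent modules, part F: Artin–Rees for coherent modules (helper2, round 2)

For `Dual3.idealMul J T = J · T ⊆ T`:
* `isCoh_idealMul`, `idealMulι_app_mem`, `isIso_restrict_idealMulι` (`J T = T` away from `V(J)`).
* `exists_mono_idealMul_comp` : if the kernel of `p : T ⟶ M` has no sections off `V(J)`, then
  `J^m T ⟶ T ⟶ M` is a monomorphism for `m` large (Artin–Rees).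
-/

set_option autoImplicit false
set_option linter.style.haveILetI false
universe u

open CategoryTheory CategoryTheory.Limits AlgebraicGeometry TopologicalSpace

namespace Groth.Agent.Lib.R2H2.DevF

open Groth.Agent.Lib.R2H2.DevA Groth.Agent.Lib.R2H2.NilFilt Groth.Agent.Lib.R2H2.IdealMulSec
  Groth.Agent.Lib.Helper2.FlatOver

variable {X : Scheme.{u}}

instance mono_idealMulι (J : X.IdealSheafData) (T : X.Modules) : Mono (Dual3.idealMulι J T) := by
  unfold Dual3.idealMulι
  exact equalizer.ι_mono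

/-- sections of `J T` over an affine open lie in `J(U) • T(U)` -/
theorem idealMulι_app_mem (J : X.IdealSheafData) (T : X.Modules) [T.IsQuasicoherent]
    {U : X.Opens} (hU : IsAffineOpen U) (t : Γ((Dual3.idealMul J).obj T, U)) :
    (Dual3.idealMulι J T).app U t ∈
      J.ideal ⟨U, hU⟩ • (⊤ : Submodule Γ(X, U) Γ(T, U)) :=
  (un_app_eq_zero_iff J T hU _).1 ((mem_range_idealMulι_iff J T U _).1 ⟨t, rfl⟩)

/-- `J T = T` away from the support of `J` -/
theorem isIso_restrict_idealMulι (J : X.IdealSheafData) (T : X.Modules) (D : X.Opens)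
    (hD : Disjoint (D : Set X) (J.support : Set X)) :
    IsIso ((Scheme.Modules.restrictFunctor D.ι).map (Dual3.idealMulι J T)) := by
  let u := (Scheme.Modules.pullbackPushforwardAdjunction J.subschemeι).unit.app T
  have h0 : IsZero ((Scheme.Modules.restrictFunctor D.ι).obj
      ((Scheme.Modules.pushforward J.subschemeι).obj
        ((Scheme.Modules.pullback J.subschemeι).obj T))) := by
    refine Groth.Agent.Lib.R2H2.KcohLoc.isZero_restrict_push J.subschemeι D.ι (fun z y h => ?_) _
    have h1 : J.subschemeι z ∈ (J.support : Set X) := by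
      rw [← Scheme.IdealSheafData.range_subschemeι]
      exact ⟨z, rfl⟩
    have h2 : D.ι y ∈ (D : Set X) := y.2
    exact Set.disjoint_left.1 hD h2 (h ▸ h1)
  have hu0 : (Scheme.Modules.restrictFunctor D.ι).map u = 0 := h0.eq_of_tgt _ _
  haveI := Groth.Agent.Lib.Helper26.ModSec.isIso_kernel_ι_of_eq_zero
    ((Scheme.Modules.restrictFunctor D.ι).map u) hu0
  have hfac : (Scheme.Modules.restrictFunctor D.ι).map (kernel.ι u) =
      (PreservesKernel.iso (Scheme.Modules.restrictFunctor D.ι) u).hom ≫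
        kernel.ι ((Scheme.Modules.restrictFunctor D.ι).map u) := by
    rw [PreservesKernel.iso_hom, kernelComparison_comp_ι]
  change IsIso ((Scheme.Modules.restrictFunctor D.ι).map (kernel.ι u))
  rw [hfac]
  infer_instance

/-- sections of the kernel -/
theorem exists_kernel_app_eq {T M : X.Modules} (p : T ⟶ M) (V : X.Opens) (t : Γ(T, V))
    (ht : Scheme.Modules.Hom.app p V t = 0) :
    ∃ r : Γ(kernel p, V), Scheme.Modules.Hom.app (kernel.ι p) V r = t := by
  haveI : (Groth.Agent.Lib.Helper20.StalkExact.secF (X := X) V).PreservesZeroMorphisms :=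
    ⟨fun _ _ => rfl⟩
  have h1 : ((ShortComplex.mk (kernel.ι p) p (kernel.condition p)).map
      (Groth.Agent.Lib.Helper20.StalkExact.secF V)).Exact :=
    (ShortComplex.exact_kernel p).map_of_mono_of_preservesKernel
      (Groth.Agent.Lib.Helper20.StalkExact.secF V)
      (inferInstanceAs (Mono (kernel.ι p))) inferInstance
  rw [ShortComplex.ab_exact_iff] at h1
  exact h1 t ht

variable [IsNoetherian X]

theorem isCoh_idealMul (J : X.IdealSheafData) (T : X.Modules) (hT : Coh.IsCoh T) :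
    Coh.IsCoh ((Dual3.idealMul J).obj T) := by
  haveI : T.IsQuasicoherent := hT.1
  haveI : SheafOfModules.IsFiniteType (R := X.ringCatSheaf) T := hT.2
  haveI : ((𝟭 X.Modules).obj T).IsQuasicoherent := hT.1
  haveI h1 : ((Scheme.Modules.pushforward J.subschemeι).obj
      ((Scheme.Modules.pullback J.subschemeι).obj T)).IsQuasicoherent :=
    Groth.Agent.Lib.Helper23.QCohLocal.isQuasicoherent_pushforward J.subschemeι
      ((Scheme.Modules.pullback J.subschemeι).obj T)
  haveI : ((Scheme.Modules.pullback J.subschemeι ⋙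
      Scheme.Modules.pushforward J.subschemeι).obj T).IsQuasicoherent := h1
  haveI hq : ((Dual3.idealMul J).obj T).IsQuasicoherent := by
    change (kernel ((Scheme.Modules.pullbackPushforwardAdjunction J.subschemeι).unit.app T)).IsQuasicoherent
    exact Groth.Agent.Lib.Helper23.QCohLocal.isQuasicoherent_kernel _
  exact ⟨hq, Groth.Agent.Lib.Helper23.FinType.isFiniteType_of_mono (Dual3.idealMulι J T)⟩

theorem exists_mono_idealMul_comp (T M : X.Modules) (hT : Coh.IsCoh T) (hM : Coh.IsCoh M)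
    (p : T ⟶ M) (J : X.IdealSheafData)
    (hvan : ∀ W : X.Opens, Disjoint (W : Set X) (J.support : Set X) →
      Subsingleton Γ(kernel p, W)) :
    ∃ m₀ : ℕ, ∀ m ≥ m₀, Mono (Dual3.idealMulι (J ^ m) T ≫ p) := by
  haveI : T.IsQuasicoherent := hT.1
  haveI : SheafOfModules.IsFiniteType (R := X.ringCatSheaf) T := hT.2
  have hK : Coh.IsCoh (kernel p) := Groth.Agent.Lib.R2H2.PdSheaf.isCoh_kernel hT hM p
  obtain ⟨c, hc⟩ := exists_killed_pow J (kernel p) hK hvan
  have hc' := (killed_iff _ _).1 hc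
  -- per affine open
  have hU : ∀ U : X.affineOpens, ∃ k : ℕ, ∀ n ≥ k, ∀ t : Γ(T, U.1),
      t ∈ (J.ideal U) ^ n • (⊤ : Submodule Γ(X, U.1) Γ(T, U.1)) →
      Scheme.Modules.Hom.app p U.1 t = 0 → t = 0 := by
    intro U
    haveI : IsNoetherianRing Γ(X, U.1) := IsLocallyNoetherian.component_noetherian U
    haveI : Module.Finite Γ(X, U.1) Γ(T, U.1) :=
      Groth.Agent.Lib.Helper23.FinType.finite_of_isFiniteType T U.2
    let KU : Submodule Γ(X, U.1) Γ(T, U.1) :=
      { carrier := {t | Scheme.Modules.Hom.app p U.1 t = 0}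
        add_mem' := fun {a b} ha hb => by
          change Scheme.Modules.Hom.app p U.1 (a + b) = 0
          rw [map_add, ha, hb, add_zero]
        zero_mem' := map_zero _
        smul_mem' := fun r a ha => by
          change Scheme.Modules.Hom.app p U.1 (r • a) = 0
          rw [Scheme.Modules.Hom.app_smul, ha, smul_zero] }
    obtain ⟨k, hk⟩ := Ideal.exists_pow_inf_eq_pow_smul (J.ideal U) KU
    refine ⟨k + c, fun n hn t ht hpt => ?_⟩
    have h1 : t ∈ (J.ideal U) ^ n • (⊤ : Submodule Γ(X, U.1) Γ(T, U.1)) ⊓ KU := ⟨ht, hpt⟩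
    rw [hk n (by omega)] at h1
    have h2 : (J.ideal U) ^ (n - k) • ((J.ideal U) ^ k • (⊤ : Submodule Γ(X, U.1) Γ(T, U.1)) ⊓ KU) ≤
        (⊥ : Submodule Γ(X, U.1) Γ(T, U.1)) := by
      rw [Submodule.smul_le]
      intro a ha t' ht'
      have ha' : a ∈ (J.ideal U) ^ c := Ideal.pow_le_pow_right (by omega) ha
      obtain ⟨t'', rfl⟩ := exists_kernel_app_eq p U.1 t' ht'.2
      rw [Submodule.mem_bot, ← Scheme.Modules.Hom.app_smul, hc' U a ha' t'', map_zero]
    exact (Submodule.mem_bot _).1 (h2 h1)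
  choose kU hkU using hU
  obtain ⟨s, hs⟩ : ∃ s : Finset X.affineOpens, (Set.univ : Set X) ⊆ ⋃ U ∈ s, (U.1 : Set X) :=
    isCompact_univ.elim_finite_subcover (fun U : X.affineOpens => (U.1 : Set X))
      (fun U => U.1.2) (fun x _ => by
        obtain ⟨V, hV, hxV, -⟩ := exists_isAffineOpen_mem_and_subset (x := x) (U := ⊤) trivial
        exact Set.mem_iUnion.2 ⟨⟨V, hV⟩, hxV⟩)
  refine ⟨s.sup kU, fun m hm => ?_⟩
  have hTm := isCoh_idealMul (J ^ m) T hT
  have hK' : Coh.IsCoh (kernel (Dual3.idealMulι (J ^ m) T ≫ p)) :=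
    Groth.Agent.Lib.R2H2.PdSheaf.isCoh_kernel hTm hM _
  haveI : (kernel (Dual3.idealMulι (J ^ m) T ≫ p)).IsQuasicoherent := hK'.1
  apply Preadditive.mono_of_isZero_kernel
  refine isZero_of_support_subset_empty _ (fun x hx => hx ?_)
  obtain ⟨U, hU⟩ := Set.mem_iUnion.1 (hs (Set.mem_univ x))
  obtain ⟨hUs, hxU⟩ := Set.mem_iUnion.1 hU
  -- sections over `U` vanish
  have hsec : ∀ t'' : Γ(kernel (Dual3.idealMulι (J ^ m) T ≫ p), U.1), t'' = 0 := by
    intro t''
    set t' := Scheme.Modules.Hom.app (kernel.ι (Dual3.idealMulι (J ^ m) T ≫ p)) U.1 t'' with ht'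
    set t := Scheme.Modules.Hom.app (Dual3.idealMulι (J ^ m) T) U.1 t' with ht
    have hpt : Scheme.Modules.Hom.app p U.1 t = 0 := by
      have h0 : kernel.ι (Dual3.idealMulι (J ^ m) T ≫ p) ≫ Dual3.idealMulι (J ^ m) T ≫ p = 0 :=
        kernel.condition _
      have h1 := congrArg (fun φ => Scheme.Modules.Hom.app φ U.1 t'') h0
      exact h1
    have hmem : t ∈ (J.ideal U) ^ m • (⊤ : Submodule Γ(X, U.1) Γ(T, U.1)) :=
      idealMulι_app_mem (J ^ m) T U.2 t'
    have ht0 : t = 0 := hkU U m (le_trans (Finset.le_sup hUs) hm) t hmem hpt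
    have ht'0 : t' = 0 := by
      apply Groth.Agent.Lib.Helper20.StalkExact.injective_app_of_mono (Dual3.idealMulι (J ^ m) T) U.1
      rw [← ht, ht0, map_zero]
    apply Groth.Agent.Lib.Helper20.StalkExact.injective_app_of_mono
      (kernel.ι (Dual3.idealMulι (J ^ m) T ≫ p)) U.1
    rw [← ht', ht'0, map_zero]
  -- the stalk
  letI := moduleStalkSections (kernel (Dual3.idealMulι (J ^ m) T ≫ p)) U.1 x hxU
  haveI := isLocalizedModule_germ U.2 (kernel (Dual3.idealMulι (J ^ m) T ≫ p)) x hxU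
  refine ⟨fun a b => ?_⟩
  have key : ∀ y : (kernel (Dual3.idealMulι (J ^ m) T ≫ p)).presheaf.stalk x, y = 0 := by
    intro y
    obtain ⟨⟨t'', sx⟩, hy⟩ := IsLocalizedModule.surj (U.2.primeIdealOf ⟨x, hxU⟩).asIdeal.primeCompl
      (germₗ (kernel (Dual3.idealMulι (J ^ m) T ≫ p)) U.1 x hxU) y
    rw [hsec t'', map_zero] at hy
    have hu := IsLocalizedModule.map_units
      (germₗ (kernel (Dual3.idealMulι (J ^ m) T ≫ p)) U.1 x hxU) sx
    rw [Module.End.isUnit_iff] at hu
    apply hu.1
    rw [map_zero]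
    exact hy
  rw [key a, key b]

end Groth.Agent.Lib.R2H2.DevF
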