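import Groth.Agent.Lib.R2H2StalkPow
set_option backward.isDefEq.respectTransparency.types false

/-!
# `pow F n` is the `n`-fold coproduct (helper2, round 2)

`nonempty_pow_iso_sigma : Nonempty (pow F n ≅ ∐ fun _ : Fin n => F)`.
-/

set_option autoImplicit false
universe u

open CategoryTheory CategoryTheory.Limits AlgebraicGeometry

namespace Groth.Agent.Lib.R2H2.PowSigma

open Groth.Agent.Lib.R2H2.StalkPow

variable {X : Scheme.{u}}

theorem isZero_sigma_fin_zero (f : Fin 0 → X.Modules) : IsZero (∐ f) := by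
  rw [IsZero.iff_id_eq_zero]
  exact Sigma.hom_ext _ _ (fun i => i.elim0)

theorem nonempty_pow_iso_sigma (F : X.Modules) :
    ∀ n : ℕ, Nonempty (pow F n ≅ ∐ fun _ : Fin n => F)
  | 0 => ⟨(isZero_pow_zero F).iso (isZero_sigma_fin_zero _)⟩
  | n + 1 => by
    obtain ⟨e⟩ := nonempty_pow_iso_sigma F n
    let f : Fin (n + 1) → X.Modules := fun _ => F
    let c₁ : Cofan (fun i : Fin n => f i.succ) := colimit.cocone _
    let c₂ : BinaryCofan (f 0) c₁.pt := colimit.cocone _
    have t : IsColimit (extendCofan c₁ c₂) :=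
      extendCofanIsColimit f (colimit.isColimit _) (colimit.isColimit _)
    have e2 : (extendCofan c₁ c₂).pt ≅ ∐ f :=
      t.coconePointUniqueUpToIso (colimit.isColimit _)
    have e3 : F ⨿ (∐ fun _ : Fin n => F) ≅ ∐ f := e2
    exact ⟨eqToIso (pow_succ F n) ≪≫ biprod.isoCoprod F (pow F n) ≪≫
      coprod.mapIso (Iso.refl F) e ≪≫ e3⟩

end Groth.Agent.Lib.R2H2.PowSigma
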