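import Groth.Agent.Lib.R2H2DevI
import Groth.Agent.Lib.R2H2PowSigma
set_option backward.isDefEq.respectTransparency.types false

/-!
# Dévissage of coherent modules, part J: auxiliary lemmas for the variants with roots
(helper2, round 2)

* `prop_cokernel_of_IH` : the cokernel of a map of coherent modules supported in `Y` which is an
  isomorphism over an open `D` meeting `Y` is supported in a strictly smaller closed subset.
* `exists_stalk_data_push` : for an integral closed subscheme `i : W ⟶ X` and coherent `H` on `W`
  with nonzero generic stalk, the stalk of `i_* H` at the image of the generic point is finite,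
  killed by the maximal ideal and nonzero.
-/

set_option autoImplicit false
set_option linter.style.haveILetI false
universe u

open CategoryTheory CategoryTheory.Limits AlgebraicGeometry TopologicalSpace

namespace Groth.Agent.Lib.R2H2.DevJ

open Groth.Agent.Lib.R2H2.StalkPow Groth.Agent.Lib.R2H2.DevA Groth.Agent.Lib.R2H2.NilFilt

variable {X : Scheme.{u}} [IsNoetherian X]

omit [AlgebraicGeometry.IsNoetherian X] in
theorem prop_cokernel_of_IH (P : X.Modules → Prop) (Y : Closeds X)
    (IH : ∀ Y' : Closeds X, Y' < Y → ∀ F : X.Modules, Coh.IsCoh F →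
      CohB1.support F ⊆ (Y' : Set X) → P F)
    {A B : X.Modules} (cA : Coh.IsCoh A) (cB : Coh.IsCoh B) (sB : CohB1.support B ⊆ (Y : Set X))
    (j : A ⟶ B) (D : X.Opens) (hDY : ((D : Set X) ∩ (Y : Set X)).Nonempty)
    [IsIso ((Scheme.Modules.restrictFunctor D.ι).map j)] : P (cokernel j) := by
  let Y' : Closeds X := ⟨(Y : Set X) ∩ (D : Set X)ᶜ, Y.2.inter D.2.isClosed_compl⟩
  have hY' : Y' < Y := by
    refine lt_of_le_of_ne (fun x hx => hx.1) ?_
    intro heq
    obtain ⟨x, hxD, hxY⟩ := hDY
    have : x ∈ (Y' : Set X) := by rw [heq]; exact hxY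
    exact this.2 hxD
  haveI : PreservesColimitsOfSize.{0, 0} (Scheme.Modules.restrictFunctor D.ι) :=
    (Scheme.Modules.restrictAdjunction D.ι).leftAdjoint_preservesColimits
  have cC : Coh.IsCoh (cokernel j) := isCoh_cokernel cA cB j
  have hC0 : IsZero ((Scheme.Modules.restrictFunctor D.ι).obj (cokernel j)) :=
    IsZero.of_iso (isZero_cokernel_of_epi _)
      (PreservesCokernel.iso (Scheme.Modules.restrictFunctor D.ι) j)
  have sC : CohB1.support (cokernel j) ⊆ (Y' : Set X) := fun x hx =>
    ⟨sB (support_subset_of_epi (cokernel.π j) hx), fun hxD =>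
      not_mem_support_of_isZero_restrict_opens D _ hC0 x hxD hx⟩
  exact IH Y' hY' _ cC sC

end Groth.Agent.Lib.R2H2.DevJ
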