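import Mathlib
import Groth.Agent.S4458
import Groth.Agent.S0020
import Groth.Agent.Lib.R2H2DevJ
import Groth.Agent.Lib.R2H2DevF
import Groth.Agent.Lib.Helper20StalkExact
import Groth.Agent.Lib.Helper23TensorQCoh
set_option backward.isDefEq.respectTransparency.types false

/-!
# The Serre subcategory of coherent modules generated by one coherent module (helper4, run 2)

`main` : on a Noetherian scheme, `E` lies in every Serre class of coherent modules containing `F`
iff `Supp E ⊆ Supp F`.
-/

set_option autoImplicit false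
set_option linter.style.haveILetI false
universe u

open CategoryTheory CategoryTheory.Limits AlgebraicGeometry TopologicalSpace
open scoped ZeroObject

namespace Groth.Agent.Lib.R2H4SerreSupp

open Groth.Agent.Lib.R2H2.DevA Groth.Agent.Lib.R2H2.NilFilt Groth.Agent.Lib.R2H2.DevF
  Groth.Agent.Lib.R2H2.IdealMulSec Groth.Agent.Lib.Helper20.StalkExact

variable {X : Scheme.{u}}

theorem support_eq_union (S : ShortComplex X.Modules) (hS : S.ShortExact) :
    CohB1.support S.X₂ = CohB1.support S.X₁ ∪ CohB1.support S.X₃ := by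
  ext x
  change ¬ Subsingleton _ ↔ (¬ Subsingleton _) ∨ (¬ Subsingleton _)
  rw [subsingleton_stalk_iff S hS x]
  tauto

theorem killed_of_mono (J : X.IdealSheafData) {A B : X.Modules} (φ : A ⟶ B) [Mono φ]
    (hB : ClSub.KilledByIdeal J B) : ClSub.KilledByIdeal J A := by
  rw [killed_iff] at hB ⊢
  intro U a ha m
  apply injective_app_of_mono φ U.1
  rw [Scheme.Modules.Hom.app_smul, hB U a ha, map_zero]

/-- `F / J F` -/
noncomputable def quo (J : X.IdealSheafData) (F : X.Modules) : X.Modules :=
  cokernel (Dual3.idealMulι J F)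

noncomputable def quoπ (J : X.IdealSheafData) (F : X.Modules) : F ⟶ quo J F := cokernel.π _

noncomputable def quoSC (J : X.IdealSheafData) (F : X.Modules) : ShortComplex X.Modules :=
  ShortComplex.mk (Dual3.idealMulι J F) (quoπ J F) (cokernel.condition _)

theorem shortExact (J : X.IdealSheafData) (F : X.Modules) : (quoSC J F).ShortExact := by
  haveI : Mono (quoSC J F).f := mono_idealMulι J F
  haveI : Epi (quoSC J F).g := inferInstanceAs (Epi (cokernel.π _))
  exact ShortComplex.ShortExact.mk (ShortComplex.exact_cokernel _)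

theorem killed_quo (J : X.IdealSheafData) (F : X.Modules) : ClSub.KilledByIdeal J (quo J F) := by
  have h1 : ClSub.KilledByIdeal J ((Scheme.Modules.pushforward J.subschemeι).obj
      ((Scheme.Modules.pullback J.subschemeι).obj F)) := by
    have := Groth.Agent.Lib.R2H2.DevE.killed_push J.subschemeι
      ((Scheme.Modules.pullback J.subschemeι).obj F)
    rwa [Scheme.IdealSheafData.ker_subschemeι] at this
  have h2 : ClSub.KilledByIdeal J (Abelian.coimage (un J F)) :=
    killed_of_mono J (Abelian.factorThruCoimage (un J F)) h1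
  exact h2

theorem support_quo (J : X.IdealSheafData) (F : X.Modules) :
    CohB1.support (quo J F) ⊆ (J.support : Set X) := by
  intro x hx
  by_contra hxJ
  let D : X.Opens := J.support.compl
  have hxD : x ∈ D := hxJ
  have hD : Disjoint (D : Set X) (J.support : Set X) := by
    rw [Set.disjoint_left]
    intro z hz hz'
    exact hz hz'
  haveI := isIso_restrict_idealMulι J F D hD
  haveI : PreservesColimitsOfSize.{0, 0} (Scheme.Modules.restrictFunctor D.ι) :=
    (Scheme.Modules.restrictAdjunction D.ι).leftAdjoint_preservesColimits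
  have hC0 : IsZero ((Scheme.Modules.restrictFunctor D.ι).obj (cokernel (Dual3.idealMulι J F))) :=
    IsZero.of_iso (isZero_cokernel_of_epi _)
      (PreservesCokernel.iso (Scheme.Modules.restrictFunctor D.ι) (Dual3.idealMulι J F))
  exact not_mem_support_of_isZero_restrict_opens D _ hC0 x hxD hx

theorem isCoh_quo [IsNoetherian X] (J : X.IdealSheafData) (F : X.Modules) (hF : Coh.IsCoh F) :
    Coh.IsCoh (quo J F) :=
  isCoh_cokernel (isCoh_idealMul J F hF) hF _

open Groth.Agent.Lib.Helper2.QCoh in
/-- Nakayama: at a point `y` of `Y`, `F_y ≠ 0` implies `(F / I_Y F)_y ≠ 0`. -/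
theorem mem_support_quo (Y : Closeds X) (F : X.Modules)
    (hF : Coh.IsCoh F) (y : X) (hyY : y ∈ (Y : Set X)) (hy : y ∈ CohB1.support F) :
    y ∈ CohB1.support (quo (Scheme.IdealSheafData.vanishingIdeal Y) F) := by
  set J := Scheme.IdealSheafData.vanishingIdeal Y with hJ
  haveI : F.IsQuasicoherent := hF.1
  intro hsub
  apply hy
  haveI := finite_stalk F hF y
  -- every germ lies in `m_y • ⊤`
  have key : ∀ s : F.presheaf.stalk y,
      s ∈ IsLocalRing.maximalIdeal (X.presheaf.stalk y) •
        (⊤ : Submodule (X.presheaf.stalk y) (F.presheaf.stalk y)) := by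
    intro s
    obtain ⟨U, hyU, t, rfl⟩ := F.presheaf.exists_germ_eq s
    have hg : (quo J F).presheaf.germ U y hyU (Scheme.Modules.Hom.app (quoπ J F) U t) =
        (quo J F).presheaf.germ U y hyU 0 := Subsingleton.elim _ _
    obtain ⟨V, hyV, iU, _, e⟩ := (quo J F).presheaf.germ_eq y hyU hyU _ _ hg
    rw [map_zero] at e
    have e' : Scheme.Modules.Hom.app (quoπ J F) V (F.presheaf.map iU.op t) = 0 := by
      rw [← e]
      exact congr($((Scheme.Modules.Hom.mapPresheaf (quoπ J F)).naturality iU.op) t)
    obtain ⟨W, hW, hyW, hWV⟩ := exists_isAffineOpen_mem_and_subset (x := y) (U := V) hyV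
    have iV : W ⟶ V := homOfLE hWV
    have e'' : Scheme.Modules.Hom.app (quoπ J F) W (F.presheaf.map iV.op (F.presheaf.map iU.op t)) = 0 := by
      have h5 := congr($((Scheme.Modules.Hom.mapPresheaf (quoπ J F)).naturality iV.op)
        (F.presheaf.map iU.op t))
      rw [ConcreteCategory.comp_apply, ConcreteCategory.comp_apply] at h5
      erw [e', map_zero] at h5
      exact h5
    obtain ⟨r, hr⟩ := exists_app_eq_of_exact (quoSC J F) (shortExact J F) W _ e''
    have hmem := idealMulι_app_mem J F hW r
    have hr' : Scheme.Modules.Hom.app (Dual3.idealMulι J F) W r =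
        F.presheaf.map iV.op (F.presheaf.map iU.op t) := hr
    rw [hr'] at hmem
    rw [← F.presheaf.germ_res_apply iU y hyV t, ← F.presheaf.germ_res_apply iV y hyW]
    refine Submodule.smul_induction_on hmem (fun a ha m _ => ?_) (fun m₁ m₂ h₁ h₂ => ?_)
    · rw [germ_smul]
      refine Submodule.smul_mem_smul ?_ Submodule.mem_top
      rw [IsLocalRing.mem_maximalIdeal, mem_nonunits_iff, ← Scheme.mem_basicOpen _ _ _ hyW]
      exact (mem_vanishingIdeal_ideal_iff Y ⟨W, hW⟩ a).1 ha y hyY hyW
    · rw [map_add]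
      exact Submodule.add_mem _ h₁ h₂
  have htop : (⊤ : Submodule (X.presheaf.stalk y) (F.presheaf.stalk y)) ≤
      IsLocalRing.maximalIdeal (X.presheaf.stalk y) • ⊤ := fun s _ => key s
  have hbot := Submodule.eq_bot_of_le_smul_of_le_jacobson_bot _ _ Module.Finite.fg_top htop
    (IsLocalRing.maximalIdeal_le_jacobson ⊥)
  exact (Submodule.subsingleton_iff (X.presheaf.stalk y)).1
    (subsingleton_of_bot_eq_top hbot.symm)

theorem isCoh_of_iso {M N : X.Modules} (e : M ≅ N) (hM : Coh.IsCoh M) : Coh.IsCoh N := by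
  haveI : M.IsQuasicoherent := hM.1
  haveI : SheafOfModules.IsFiniteType (R := X.ringCatSheaf) M := hM.2
  haveI hN : N.IsQuasicoherent := Groth.Agent.Lib.Helper23.TensorQCoh.isQuasicoherent_of_iso e
  exact ⟨hN, Groth.Agent.Lib.Helper23.FinType.isFiniteType_of_epi e.hom⟩

theorem main (X : Scheme.{u}) [IsNoetherian X]
    (F E : X.Modules) (hF : Coh.IsCoh F) (hE : Coh.IsCoh E) :
    (∀ P : ObjectProperty X.Modules, P F →
      (∀ S : ShortComplex X.Modules, S.ShortExact → Coh.IsCoh S.X₁ → Coh.IsCoh S.X₂ →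
        Coh.IsCoh S.X₃ → (P S.X₂ ↔ P S.X₁ ∧ P S.X₃)) → P E) ↔
    CohB1.support E ⊆ CohB1.support F := by
  constructor
  · intro h
    refine h (fun M => CohB1.support M ⊆ CohB1.support F) subset_rfl ?_
    intro S hS _ _ _
    change CohB1.support S.X₂ ⊆ _ ↔ CohB1.support S.X₁ ⊆ _ ∧ CohB1.support S.X₃ ⊆ _
    rw [support_eq_union S hS, Set.union_subset_iff]
  · intro hsupp P hPF hP
    let K' : ObjectProperty X.Modules := fun M => Coh.IsCoh M → P M
    have hzc : ∀ M : X.Modules, IsZero M → Coh.IsCoh M :=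
      fun M hM => Groth.Agent.Lib.R2H2.KcohLoc.isCoh_of_isZero hM
    have h0P : ∀ M : X.Modules, IsZero M → P M := by
      intro M hM
      let S : ShortComplex X.Modules := ShortComplex.mk (0 : M ⟶ F) (𝟙 F) (by simp)
      haveI : Mono S.f := hM.mono _
      haveI : Epi S.g := inferInstanceAs (Epi (𝟙 F))
      have hS : S.ShortExact :=
        ShortComplex.ShortExact.mk ((S.exact_iff_mono rfl).2 (inferInstanceAs (Mono (𝟙 F))))
      exact ((hP S hS (hzc M hM) hF hF).1 hPF).1
    haveI : K'.IsClosedUnderIsomorphisms := by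
      refine ⟨fun {M N} e hM cN => ?_⟩
      have cM : Coh.IsCoh M := isCoh_of_iso e.symm cN
      have hz : IsZero (0 : X.Modules) := isZero_zero _
      let S : ShortComplex X.Modules := ShortComplex.mk (0 : (0 : X.Modules) ⟶ M) e.hom (by simp)
      haveI : Mono S.f := hz.mono _
      haveI : Epi S.g := inferInstanceAs (Epi e.hom)
      have hS : S.ShortExact :=
        ShortComplex.ShortExact.mk ((S.exact_iff_mono rfl).2 (inferInstanceAs (Mono e.hom)))
      exact ((hP S hS (hzc _ hz) cM cN).1 (hM cM)).2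
    refine Groth.Agent.S4458.result X K' (fun M hM _ => h0P M hM) ?_ ?_ (CohB1.support F)
      (Groth.Agent.S0020.result X F hF.2) ?_ E hE hsupp hE
    · intro S hS c₁ c₂ c₃
      have h := hP S hS c₁ c₂ c₃
      exact ⟨fun _ h2 _ => (h.1 (h2 c₂)).2, fun h1 h3 _ => h.2 ⟨h1 c₁, h3 c₃⟩,
        fun h2 _ _ => (h.1 (h2 c₂)).1⟩
    · intro M N i r hir cM cN hM _
      haveI : IsSplitMono i := IsSplitMono.mk' ⟨r, hir⟩
      let S : ShortComplex X.Modules := ShortComplex.mk i (cokernel.π i) (cokernel.condition i)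
      haveI : Mono S.f := inferInstanceAs (Mono i)
      haveI : Epi S.g := inferInstanceAs (Epi (cokernel.π i))
      have hS : S.ShortExact := ShortComplex.ShortExact.mk (ShortComplex.exact_cokernel i)
      exact ((hP S hS cN cM (isCoh_cokernel cN cM i)).1 (hM cM)).1
    · intro Z hZ hirr hZF y hy
      set J := Scheme.IdealSheafData.vanishingIdeal ⟨Z, hZ⟩ with hJ
      have hyZ : y ∈ Z := by rw [← hy]; exact subset_closure rfl
      refine ⟨quo J F, isCoh_quo J F hF, fun cG => ?_, ?_, killed_quo J F,
        mem_support_quo ⟨Z, hZ⟩ F hF y hyZ (hZF hyZ)⟩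
      · exact ((hP (quoSC J F) (shortExact J F) (isCoh_idealMul J F hF) hF cG).1 hPF).2
      · refine (support_quo J F).trans ?_
        rw [hJ, Scheme.IdealSheafData.coe_support_vanishingIdeal]
        exact fun x hx => hx

end Groth.Agent.Lib.R2H4SerreSupp
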