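import Mathlib
import Groth.Prelude.Def_KZero
import Groth.Prelude.Def_SGA6
import Groth.Prelude.Def_Dual3
import Groth.Agent.Lib.R2H4K0Dev
import Groth.Agent.Lib.R2H4SerreSupp
import Groth.Agent.Lib.R2H2NilFilt
import Groth.Agent.Lib.R2H2IdealMulSec
import Groth.Agent.Lib.R2H2KcohLoc
import Groth.Agent.Lib.R2H2DevH
import Groth.Agent.Lib.R2H2PdSheaf
import Groth.Agent.Lib.Helper18OmLS10
import Groth.Agent.Lib.Helper18PBUnit4
import Groth.Agent.Lib.R2H3ClosedPush
import Groth.Agent.Lib.R2H4SSDescent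
set_option backward.isDefEq.respectTransparency.types false

/-!
# Dévissage for `K₀(Coh)` along a nilpotent closed immersion (helper4, round 2)
-/

set_option autoImplicit false
set_option linter.style.haveILetI false
set_option linter.unusedSectionVars false
universe u

open CategoryTheory CategoryTheory.Limits AlgebraicGeometry TopologicalSpace KZero

namespace Groth.Agent.Lib.R2H4K0DevGeom

open Groth.Agent.Lib.R2H4K0Dev Groth.Agent.Lib.R2H2.NilFilt Groth.Agent.Lib.R2H2.IdealMulSec
  Groth.Agent.Lib.R2H4SerreSupp Groth.Agent.Lib.R2H2.K0Gen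

variable {X : Scheme.{u}}

section Killed

theorem killed_of_epi (J : X.IdealSheafData) {F G : X.Modules} [F.IsQuasicoherent]
    [G.IsQuasicoherent] (p : F ⟶ G) [Epi p] (hF : ClSub.KilledByIdeal J F) :
    ClSub.KilledByIdeal J G := by
  rw [killed_iff] at hF ⊢
  intro U a ha y
  obtain ⟨x, rfl⟩ := Groth.Agent.Lib.Helper23.FinType.surjective_app_of_epi p U.2 y
  rw [← Scheme.Modules.Hom.app_smul, hF U a ha, map_zero]

theorem killed_of_isZero (J : X.IdealSheafData) {Z : X.Modules} (hZ : IsZero Z) :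
    ClSub.KilledByIdeal J Z := by
  rw [killed_iff]
  intro U a _ m
  have h : (𝟙 Z : Z ⟶ Z) = 0 := hZ.eq_of_src _ _
  have h1 := congrArg (fun φ : Z ⟶ Z => φ.app U.1 m) h
  have hm : m = 0 := by simpa using h1
  rw [hm, smul_zero]

theorem killed_of_le {J J' : X.IdealSheafData} (h : ∀ U : X.affineOpens, J'.ideal U ≤ J.ideal U)
    {F : X.Modules} (hF : ClSub.KilledByIdeal J F) : ClSub.KilledByIdeal J' F :=
  fun U a ha m => hF U a (h U ha) m

theorem pow_ideal_le (I : X.IdealSheafData) {k l : ℕ} (hkl : k ≤ l) (U : X.affineOpens) :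
    (I ^ l).ideal U ≤ (I ^ k).ideal U := by
  change (I.ideal U) ^ l ≤ (I.ideal U) ^ k
  exact Ideal.pow_le_pow_right hkl

/-- sections of `I·F` over an affine open are multiples of the ideal -/
theorem ι_app_mem (I : X.IdealSheafData) (F : X.Modules) [F.IsQuasicoherent] (U : X.affineOpens)
    (t : Γ((Dual3.idealMul I).obj F, U.1)) :
    (Dual3.idealMulι I F).app U.1 t ∈ I.ideal U • (⊤ : Submodule Γ(X, U.1) Γ(F, U.1)) := by
  have h := (mem_range_idealMulι_iff I F U.1 ((Dual3.idealMulι I F).app U.1 t)).1 ⟨t, rfl⟩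
  exact (un_app_eq_zero_iff I F U.2 _).1 h

theorem exists_of_mem (I : X.IdealSheafData) (F : X.Modules) [F.IsQuasicoherent] (U : X.affineOpens)
    (x : Γ(F, U.1)) (hx : x ∈ I.ideal U • (⊤ : Submodule Γ(X, U.1) Γ(F, U.1))) :
    ∃ t : Γ((Dual3.idealMul I).obj F, U.1), (Dual3.idealMulι I F).app U.1 t = x :=
  (mem_range_idealMulι_iff I F U.1 x).2 ((un_app_eq_zero_iff I F U.2 x).2 hx)

/-- if `I^(k+1)` kills `F` then `I^k` kills `I·F` -/
theorem killed_idealMul (I : X.IdealSheafData) (F : X.Modules) [F.IsQuasicoherent] (k : ℕ)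
    (hF : ClSub.KilledByIdeal (I ^ (k + 1)) F) :
    ClSub.KilledByIdeal (I ^ k) ((Dual3.idealMul I).obj F) := by
  rw [killed_iff] at hF ⊢
  intro U b hb t
  apply Groth.Agent.Lib.Helper20.StalkExact.injective_app_of_mono (Dual3.idealMulι I F) U.1
  rw [Scheme.Modules.Hom.app_smul, map_zero]
  have hx := ι_app_mem I F U t
  refine Submodule.smul_induction_on hx (fun a ha y _ => ?_) (fun y z hy hz => ?_)
  · rw [← mul_smul]
    refine hF U (b * a) ?_ y
    change b * a ∈ (I.ideal U) ^ (k + 1)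
    rw [pow_succ]
    exact Ideal.mul_mem_mul hb ha
  · rw [smul_add, hy, hz, add_zero]

/-- `I·(−)` preserves epimorphisms of quasi-coherent modules -/
theorem epi_idealMul_map (I : X.IdealSheafData) {F G : X.Modules} [F.IsQuasicoherent]
    [G.IsQuasicoherent] [((Dual3.idealMul I).obj F).IsQuasicoherent]
    [((Dual3.idealMul I).obj G).IsQuasicoherent] (p : F ⟶ G) [Epi p] :
    Epi ((Dual3.idealMul I).map p) := by
  refine Groth.Agent.Helper18OmLS.epi_of_surjective_app_cover _
    (fun U : X.affineOpens => U.1) (IsOpenCover.mk (iSup_affineOpens_eq_top X)) (fun U => U.2) (fun U t => ?_)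
  have hy := ι_app_mem I G U t
  have key : ∀ y ∈ I.ideal U • (⊤ : Submodule Γ(X, U.1) Γ(G, U.1)),
      ∃ x ∈ I.ideal U • (⊤ : Submodule Γ(X, U.1) Γ(F, U.1)), p.app U.1 x = y := by
    intro y hy
    refine Submodule.smul_induction_on hy (fun a ha y _ => ?_) (fun y z hy hz => ?_)
    · obtain ⟨x, rfl⟩ := Groth.Agent.Lib.Helper23.FinType.surjective_app_of_epi p U.2 y
      exact ⟨a • x, Submodule.smul_mem_smul ha trivial, Scheme.Modules.Hom.app_smul _ _ _⟩
    · obtain ⟨x, hx, rfl⟩ := hy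
      obtain ⟨x', hx', rfl⟩ := hz
      exact ⟨x + x', Submodule.add_mem _ hx hx', map_add _ _ _⟩
  obtain ⟨x, hx, hpx⟩ := key _ hy
  obtain ⟨t', ht'⟩ := exists_of_mem I F U x hx
  refine ⟨t', ?_⟩
  apply Groth.Agent.Lib.Helper20.StalkExact.injective_app_of_mono (Dual3.idealMulι I G) U.1
  have hnat := congrArg (fun φ : (Dual3.idealMul I).obj F ⟶ G => φ.app U.1 t')
    (Dual3.idealMul_map_ι I p)
  simp only [Scheme.Modules.Hom.comp_app, ConcreteCategory.comp_apply] at hnat
  rw [hnat, ht', hpx]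

end Killed

section Step

variable [IsNoetherian X] (I : X.IdealSheafData)

/-- coherent and killed by `I^(k+1)` -/
def QQ (k : ℕ) : ObjectProperty X.Modules :=
  fun F => Coh.IsCoh F ∧ ClSub.KilledByIdeal (I ^ (k + 1)) F

theorem stepHyp (k : ℕ) :
    StepHyp (QQ I (k + 1)) (QQ I k) (Dual3.idealMul I) (fun F => Dual3.idealMulι I F) where
  nat φ := Dual3.idealMul_map_ι I φ
  mono F := Dual3.mono_idealMulι I F
  hQP F hF := ⟨hF.1, killed_of_le (pow_ideal_le I (Nat.le_succ _)) hF.2⟩
  hz Z hZ := ⟨Groth.Agent.Lib.R2H2.KcohLoc.isCoh_of_isZero hZ, killed_of_isZero _ hZ⟩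
  hQiso e hX := ⟨Groth.Agent.Lib.R2H2.PdSheaf.isCoh_of_iso e hX.1, killed_of_mono _ e.inv hX.2⟩
  hQker f hX hY := ⟨Groth.Agent.Lib.R2H2.PdSheaf.isCoh_kernel hX.1 hY.1 f,
    killed_of_mono _ (kernel.ι f) hX.2⟩
  hPcoker f hX hY := by
    have hc := isCoh_cokernel hX.1 hY.1 f
    haveI := hY.1.1
    haveI := hc.1
    exact ⟨hc, killed_of_epi _ (cokernel.π f) hY.2⟩
  hs F hF := by
    haveI := hF.1.1
    exact ⟨Groth.Agent.Lib.R2H2.DevF.isCoh_idealMul I F hF.1, killed_idealMul I F (k + 1) hF.2⟩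
  hq F hF := by
    refine ⟨isCoh_quo I F hF.1, killed_of_le (fun U => ?_) (killed_quo I F)⟩
    change (I.ideal U) ^ (k + 1) ≤ I.ideal U
    exact Ideal.pow_le_self (Nat.succ_ne_zero k)
  hepi p hp hF hG := by
    haveI := hp
    haveI := hF.1.1
    haveI := hG.1.1
    haveI := (Groth.Agent.Lib.R2H2.DevF.isCoh_idealMul I _ hF.1).1
    haveI := (Groth.Agent.Lib.R2H2.DevF.isCoh_idealMul I _ hG.1).1
    exact epi_idealMul_map I p

/-- `K₀(coherent modules killed by I) → K₀(Coh X)` is bijective when every coherent module is killed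
by a power of `I` -/
theorem bijective_incl (hexh : ∀ F : X.Modules, Coh.IsCoh F → ∃ k, ClSub.KilledByIdeal (I ^ k) F) :
    Function.Bijective (incl (QQ I 0) (fun F : X.Modules => Coh.IsCoh F) (fun _ hF => hF.1)) := by
  refine bijective_incl_chain (fun F : X.Modules => Coh.IsCoh F) (QQ I) (Dual3.idealMul I)
    (fun F => Dual3.idealMulι I F) (stepHyp I) (fun _ _ hF => hF.1) (fun F hF => ?_)
  obtain ⟨k, hk⟩ := hexh F hF
  exact ⟨k, hF, killed_of_le (pow_ideal_le I (Nat.le_succ _)) hk⟩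

end Step

section Closed

variable [IsNoetherian X] {X' : Scheme.{u}} (i : X' ⟶ X) [IsClosedImmersion i]
  [(Scheme.Modules.pushforward i).Additive] [PreservesFiniteLimits (Scheme.Modules.pushforward i)]
  [PreservesFiniteColimits (Scheme.Modules.pushforward i)]
  (hi : ∀ M : X'.Modules, Coh.IsCoh M → Coh.IsCoh ((Scheme.Modules.pushforward i).obj M))


include hi in
theorem hQ0 (M : X'.Modules) (hM : Coh.IsCoh M) : QQ i.ker 0 ((Scheme.Modules.pushforward i).obj M) := by
  refine ⟨hi M hM, killed_of_le (fun U => ?_) (Groth.Agent.Lib.R2H2.DevE.killed_push i M)⟩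
  change (i.ker.ideal U) ^ (0 + 1) ≤ i.ker.ideal U
  rw [zero_add, pow_one]

theorem isIso_unit {F : X.Modules} (hF : QQ i.ker 0 F) : IsIso ((Scheme.Modules.pullbackPushforwardAdjunction i).unit.app F) := by
  haveI := hF.1.1
  refine (Groth.Agent.Helper18PBUnit.main_S9376 i F).2 (fun U a ha s => hF.2 U a ?_ s)
  change a ∈ (i.ker.ideal U) ^ (0 + 1)
  rw [zero_add, pow_one]
  exact ha

theorem shortExact_pullback (S : ShortComplex X.Modules) (hS : S.ShortExact)
    (h₁ : QQ i.ker 0 S.X₁) (h₂ : QQ i.ker 0 S.X₂) (h₃ : QQ i.ker 0 S.X₃) :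
    (S.map (Scheme.Modules.pullback i)).ShortExact := by
  have u₁ : IsIso ((Scheme.Modules.pullbackPushforwardAdjunction i).unit.app S.X₁) :=
    isIso_unit i h₁
  have u₂ : IsIso ((Scheme.Modules.pullbackPushforwardAdjunction i).unit.app S.X₂) :=
    isIso_unit i h₂
  have u₃ : IsIso ((Scheme.Modules.pullbackPushforwardAdjunction i).unit.app S.X₃) :=
    isIso_unit i h₃
  let e : S ≅ (S.map (Scheme.Modules.pullback i)).map (Scheme.Modules.pushforward i) :=
    ShortComplex.isoMk
      (@asIso _ _ _ _ ((Scheme.Modules.pullbackPushforwardAdjunction i).unit.app S.X₁) u₁)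
      (@asIso _ _ _ _ ((Scheme.Modules.pullbackPushforwardAdjunction i).unit.app S.X₂) u₂)
      (@asIso _ _ _ _ ((Scheme.Modules.pullbackPushforwardAdjunction i).unit.app S.X₃) u₃)
      ((Scheme.Modules.pullbackPushforwardAdjunction i).unit.naturality S.f).symm
      ((Scheme.Modules.pullbackPushforwardAdjunction i).unit.naturality S.g).symm
  have hE : ((S.map (Scheme.Modules.pullback i)).map (Scheme.Modules.pushforward i)).ShortExact := ShortComplex.shortExact_of_iso e hS
  haveI := hE.mono_f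
  haveI := hE.epi_g
  exact
    { exact := ((S.map (Scheme.Modules.pullback i)).exact_map_iff_of_faithful (Scheme.Modules.pushforward i)).1 hE.exact
      mono_f := Functor.mono_of_mono_map (Scheme.Modules.pushforward i) (inferInstanceAs (Mono ((S.map (Scheme.Modules.pullback i)).map (Scheme.Modules.pushforward i)).f))
      epi_g := Functor.epi_of_epi_map (Scheme.Modules.pushforward i) (inferInstanceAs (Epi ((S.map (Scheme.Modules.pullback i)).map (Scheme.Modules.pushforward i)).g)) }

/-- `K₀(Coh X') → K₀(coherent modules killed by ker i)` -/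
noncomputable def rho : SGA6.Kcoh X' →+ K0sub (QQ i.ker 0) :=
  SGA6.mapSub (Scheme.Modules.pushforward i) (fun M : X'.Modules => Coh.IsCoh M) (QQ i.ker 0) (hQ0 i hi)

/-- its inverse, induced by `i^*` -/
noncomputable def phi : K0sub (QQ i.ker 0) →+ SGA6.Kcoh X' :=
  liftAdd (QQ i.ker 0) (fun F => clSub (fun M : X'.Modules => Coh.IsCoh M) ((Scheme.Modules.pullback i).obj F))
    (fun S hS h₁ h₂ h₃ =>
      clSub_shortExact (fun M : X'.Modules => Coh.IsCoh M) (S.map (Scheme.Modules.pullback i))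
        (shortExact_pullback i S hS h₁ h₂ h₃)
        (Groth.Agent.Lib.R2H4SSDescent.isCoh_pullback i _ h₁.1)
        (Groth.Agent.Lib.R2H4SSDescent.isCoh_pullback i _ h₂.1)
        (Groth.Agent.Lib.R2H4SSDescent.isCoh_pullback i _ h₃.1))

theorem bijective_rho : Function.Bijective (rho i hi) := by
  have h1 : (phi i).comp (rho i hi) = AddMonoidHom.id _ := by
    apply hom_ext'
    intro M hM
    haveI := hM.1
    haveI := Groth.Agent.Lib.R2H3.ClosedPush.isIso_counit_app i M
    rw [AddMonoidHom.comp_apply, AddMonoidHom.id_apply]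
    unfold rho phi
    rw [Groth.Agent.Lib.R2H2.KcohLoc.mapSub_clSub_gen _ _ _ (hQ0 i hi) hM,
      liftAdd_clSub _ _ _ (hQ0 i hi M hM)]
    exact clSub_of_iso _ (Groth.Agent.Lib.R2H2.KcohLoc.hz X') (asIso ((Scheme.Modules.pullbackPushforwardAdjunction i).counit.app M))
      (Groth.Agent.Lib.R2H4SSDescent.isCoh_pullback i _ (hi M hM)) hM
  have h2 : (rho i hi).comp (phi i) = AddMonoidHom.id _ := by
    apply hom_ext'
    intro F hF
    haveI := isIso_unit i hF
    have hc := Groth.Agent.Lib.R2H4SSDescent.isCoh_pullback i _ hF.1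
    rw [AddMonoidHom.comp_apply, AddMonoidHom.id_apply]
    unfold rho phi
    rw [liftAdd_clSub _ _ _ hF,
      Groth.Agent.Lib.R2H2.KcohLoc.mapSub_clSub_gen _ _ _ (hQ0 i hi) hc]
    exact (clSub_of_iso _ (stepHyp i.ker 0).hz (asIso ((Scheme.Modules.pullbackPushforwardAdjunction i).unit.app F)) hF
      (hQ0 i hi _ hc)).symm
  exact ⟨Function.LeftInverse.injective (fun x => DFunLike.congr_fun h1 x),
    Function.RightInverse.surjective (fun x => DFunLike.congr_fun h2 x)⟩

/-- **S16236** -/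
theorem s16236 [Surjective i] :
    Function.Bijective (SGA6.mapSub (Scheme.Modules.pushforward i) (fun M : X'.Modules => Coh.IsCoh M)
      (fun M : X.Modules => Coh.IsCoh M) hi) := by
  have hexh : ∀ F : X.Modules, Coh.IsCoh F → ∃ k, ClSub.KilledByIdeal (i.ker ^ k) F := by
    intro F hF
    refine exists_killed_pow i.ker F hF (fun W hW => ?_)
    have hsupp : (i.ker.support : Set X) = Set.univ := by
      rw [Scheme.Hom.support_ker, (inferInstance : Surjective i).surj.range_eq, closure_univ]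
    have hW' : W = ⊥ := by
      rw [hsupp, Set.disjoint_univ] at hW
      exact Opens.ext hW
    subst hW'
    refine ⟨fun t t' => Groth.Agent.Lib.R2H2.SubFam.eq_of_locally_eq t t' (fun x hx => ?_)⟩
    exact absurd hx (by simp)
  have hb := (bijective_incl i.ker hexh).comp (bijective_rho i hi)
  have e : SGA6.mapSub (Scheme.Modules.pushforward i) (fun M : X'.Modules => Coh.IsCoh M)
      (fun M : X.Modules => Coh.IsCoh M) hi =
      (incl (QQ i.ker 0) (fun F : X.Modules => Coh.IsCoh F) (fun _ hF => hF.1)).comp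
        (rho i hi) := by
    apply hom_ext'
    intro M hM
    rw [AddMonoidHom.comp_apply]
    unfold rho
    rw [Groth.Agent.Lib.R2H2.KcohLoc.mapSub_clSub_gen _ _ _ hi hM,
      Groth.Agent.Lib.R2H2.KcohLoc.mapSub_clSub_gen _ _ _ (hQ0 i hi) hM,
      incl_clSub _ _ _ (hQ0 i hi M hM)]
  rw [e]
  exact hb

end Closed

end Groth.Agent.Lib.R2H4K0DevGeom
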