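import Mathlib
import Groth.Prelude
import Groth.Agent.Lib.R2H4SerreSupp
import Groth.Agent.Lib.R2H4K0DevGeom
import Groth.Agent.Lib.Helper18PBUnit4
import Groth.Agent.Lib.R2H1DegCartier
import Groth.Agent.Lib.Helper23IdealSec
import Groth.Agent.Lib.Helper18OmLS11
import Groth.Agent.Lib.Helper18OmLS15
import Groth.Agent.Lib.Helper18Strict1
import Groth.Agent.Lib.R2H4BCGlue
import Groth.Agent.S0019
import Groth.Agent.Lib.Helper23TensorMap
import Groth.Agent.Lib.Helper23SecTw4
import Groth.Agent.Lib.Helper23SecTw6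
import Groth.Agent.Lib.R2H4CartierMono
import Groth.Agent.Lib.Helper18OmLS10
import Groth.Agent.Lib.Helper18Cart1
import Groth.Agent.Lib.Helper2QcPush
import Groth.Agent.Lib.Helper23Extend
import Groth.Agent.Lib.R2H4SSDescent
set_option backward.isDefEq.respectTransparency.types false

/-!
# Calculus of the quotients `F / J F` (helper4, round 2)

* `idealMulι_comp_eq_zero` : a morphism into a module killed by `J` kills `J F`.
* `quoDesc` : the induced morphism `F / J F ⟶ G`.
* `quoQuoIso` : `(F / I F) / J (F / I F) ≅ F / (I ⊔ J) F`.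
* `quoStructureIso` : `O_X / J O_X ≅ O_X / J` (`ClSub.quotMod`).
-/

set_option autoImplicit false
set_option linter.style.haveILetI false
set_option linter.unusedSectionVars false
universe u
open CategoryTheory CategoryTheory.Limits AlgebraicGeometry TopologicalSpace

noncomputable section

namespace Groth.Agent.Lib.R2H4Quo

open Groth.Agent.Lib.R2H4SerreSupp Groth.Agent.Lib.R2H4K0DevGeom Groth.Agent.Lib.R2H2.NilFilt
  Groth.Agent.Lib.Helper23.GenLocus Groth.Agent.Lib.Helper6

variable {X : Scheme.{u}}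

/-- a morphism into a module killed by `J` kills `J H` -/
theorem idealMulι_comp_eq_zero (J : X.IdealSheafData) {H G : X.Modules} [G.IsQuasicoherent]
    (hG : ClSub.KilledByIdeal J G) (φ : H ⟶ G) : Dual3.idealMulι J H ≫ φ = 0 := by
  rw [← Dual3.idealMul_map_ι]
  have hiso : IsIso ((Scheme.Modules.pullbackPushforwardAdjunction J.subschemeι).unit.app G) := by
    rw [Groth.Agent.Helper18PBUnit.main_S9376 J.subschemeι G, Scheme.IdealSheafData.ker_subschemeι]
    exact hG
  have h0 : Dual3.idealMulι J G = 0 := by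
    change kernel.ι ((Scheme.Modules.pullbackPushforwardAdjunction J.subschemeι).unit.app G) = 0
    exact kernel.ι_of_mono _
  rw [h0, comp_zero]

/-- the morphism `F / J F ⟶ G` induced by `φ : F ⟶ G` with `G` killed by `J` -/
def quoDesc (J : X.IdealSheafData) {F G : X.Modules} [G.IsQuasicoherent]
    (hG : ClSub.KilledByIdeal J G) (φ : F ⟶ G) : quo J F ⟶ G :=
  cokernel.desc _ φ (idealMulι_comp_eq_zero J hG φ)

@[reassoc (attr := simp)]
theorem quoπ_quoDesc (J : X.IdealSheafData) {F G : X.Modules} [G.IsQuasicoherent]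
    (hG : ClSub.KilledByIdeal J G) (φ : F ⟶ G) : quoπ J F ≫ quoDesc J hG φ = φ :=
  cokernel.π_desc _ _ _

instance epi_quoπ (J : X.IdealSheafData) (F : X.Modules) : Epi (quoπ J F) :=
  inferInstanceAs (Epi (cokernel.π _))

theorem killed_sup {I J : X.IdealSheafData} {G : X.Modules} (hI : ClSub.KilledByIdeal I G)
    (hJ : ClSub.KilledByIdeal J G) : ClSub.KilledByIdeal (I ⊔ J) G := by
  intro U a ha m
  rw [Scheme.IdealSheafData.ideal_sup] at ha
  obtain ⟨b, hb, c, hc, rfl⟩ := Submodule.mem_sup.1 ha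
  rw [add_smul, hI U b hb m, hJ U c hc m, add_zero]

section Noeth

variable [IsNoetherian X]

/-- `(F / I F) / J (F / I F) ≅ F / (I ⊔ J) F` -/
def quoQuoIso (I J : X.IdealSheafData) (F : X.Modules) (hF : Coh.IsCoh F) :
    quo J (quo I F) ≅ quo (I ⊔ J) F := by
  have c1 : Coh.IsCoh (quo I F) := isCoh_quo I F hF
  have c2 : Coh.IsCoh (quo J (quo I F)) := isCoh_quo J _ c1
  have c3 : Coh.IsCoh (quo (I ⊔ J) F) := isCoh_quo _ F hF
  haveI : F.IsQuasicoherent := hF.1
  haveI : (quo I F).IsQuasicoherent := c1.1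
  haveI : (quo J (quo I F)).IsQuasicoherent := c2.1
  haveI : (quo (I ⊔ J) F).IsQuasicoherent := c3.1
  have k3 : ClSub.KilledByIdeal (I ⊔ J) (quo (I ⊔ J) F) := killed_quo _ F
  have k3I : ClSub.KilledByIdeal I (quo (I ⊔ J) F) :=
    killed_of_le (fun U => by rw [Scheme.IdealSheafData.ideal_sup]; exact le_sup_left) k3
  have k3J : ClSub.KilledByIdeal J (quo (I ⊔ J) F) :=
    killed_of_le (fun U => by rw [Scheme.IdealSheafData.ideal_sup]; exact le_sup_right) k3
  have k2J : ClSub.KilledByIdeal J (quo J (quo I F)) := killed_quo _ _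
  have k2I : ClSub.KilledByIdeal I (quo J (quo I F)) :=
    killed_of_epi I (quoπ J (quo I F)) (killed_quo I F)
  have k2 : ClSub.KilledByIdeal (I ⊔ J) (quo J (quo I F)) := killed_sup k2I k2J
  let q₁ : quo I F ⟶ quo (I ⊔ J) F := quoDesc I k3I (quoπ (I ⊔ J) F)
  let q₂ : quo J (quo I F) ⟶ quo (I ⊔ J) F := quoDesc J k3J q₁
  let r : quo (I ⊔ J) F ⟶ quo J (quo I F) := quoDesc (I ⊔ J) k2 (quoπ I F ≫ quoπ J (quo I F))
  refine ⟨q₂, r, ?_, ?_⟩
  · rw [← cancel_epi (quoπ J (quo I F)), ← cancel_epi (quoπ I F)]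
    simp only [q₂, q₁, r, quoπ_quoDesc_assoc, quoπ_quoDesc, Category.comp_id]
  · rw [← cancel_epi (quoπ (I ⊔ J) F)]
    simp only [q₂, q₁, r, quoπ_quoDesc_assoc, quoπ_quoDesc, Category.comp_id, Category.assoc]

theorem isCoh_quotMod (K : X.IdealSheafData) : Coh.IsCoh (ClSub.quotMod K) :=
  Groth.Agent.S0019.result K.subschemeι _
    (Groth.Agent.Lib.R2H4BCGlue.isCoh_structureModule K.subscheme)

theorem killed_quotMod (K : X.IdealSheafData) : ClSub.KilledByIdeal K (ClSub.quotMod K) := by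
  have := Groth.Agent.Lib.R2H2.DevE.killed_push K.subschemeι (Coh.structureModule K.subscheme)
  rwa [Scheme.IdealSheafData.ker_subschemeι] at this

/-- `idealMod K ⟶ O_X ⟶ O_X / K O_X` vanishes -/
theorem idealModι_comp_quoπ (K : X.IdealSheafData) :
    ClSub.idealModι K ≫ quoπ K (Coh.structureModule X) = 0 := by
  refine Groth.Agent.Helper18Strict.hom_eq_zero_of_basis _ _ X.isBasis_affineOpens ?_
  intro V hV j
  have h1 := Groth.Agent.Lib.Helper23.IdealSec.ι_mem_ideal K ⟨V, hV⟩ j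
  have h2 : (ClSub.idealModι K).app V j =
      ofS V ((ClSub.idealModι K).app V j) • toS V (1 : Γ(X, V)) := by
    rw [smul_toS, mul_one, toS_ofS]
  rw [Scheme.Modules.Hom.comp_app, ConcreteCategory.comp_apply, h2, Scheme.Modules.Hom.app_smul]
  exact killed_quo K (Coh.structureModule X) ⟨V, hV⟩ _ h1 _

/-- `O_X / K O_X ≅ O_X / K` -/
def quoStructureIso (K : X.IdealSheafData) :
    quo K (Coh.structureModule X) ≅ ClSub.quotMod K := by
  haveI : (ClSub.quotMod K).IsQuasicoherent := (isCoh_quotMod K).1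
  have hS := Groth.Agent.Lib.R2H1.DegCartier.idealSeq_shortExact K
  haveI : Epi (ClSub.toSubscheme K) := hS.epi_g
  haveI : Epi (Groth.Agent.Lib.R2H1.DegCartier.idealSeq K).g := hS.epi_g
  let t : quo K (Coh.structureModule X) ⟶ ClSub.quotMod K :=
    quoDesc K (killed_quotMod K) (ClSub.toSubscheme K)
  let r : ClSub.quotMod K ⟶ quo K (Coh.structureModule X) :=
    hS.exact.desc (quoπ K (Coh.structureModule X)) (idealModι_comp_quoπ K)
  have hr : ClSub.toSubscheme K ≫ r = quoπ K (Coh.structureModule X) :=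
    hS.exact.g_desc _ _
  refine ⟨t, r, ?_, ?_⟩
  · rw [← cancel_epi (quoπ K (Coh.structureModule X))]
    simp only [t, quoπ_quoDesc_assoc, hr, Category.comp_id]
  · rw [← cancel_epi (ClSub.toSubscheme K), ← Category.assoc, hr]
    simp only [t, quoπ_quoDesc, Category.comp_id]

end Noeth

section MulR

open MonoidalCategory Opposite Groth.Agent.Lib.Helper23.TensorMap Groth.Agent.Lib.Helper23.SecTw

/-- presheaf-level map `t ⊗ a ↦ ι(a) • t` -/
def mulPreR {A : X.Modules} (ι : A ⟶ Coh.structureModule X) (F : X.Modules) :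
    CohB1.tensorPre F A ⟶ CohB1.toPMod F :=
  (CohB1.toPMod F ◁ (show CohB1.toPMod A ⟶ CohB1.toPMod (Coh.structureModule X) from ι.val)) ≫
    (Groth.Agent.Lib.Helper23.TensorUnit.rho F).hom

theorem mulPreR_app {A : X.Modules} (ι : A ⟶ Coh.structureModule X) (F : X.Modules) (W : X.Opens)
    (t : Γ(F, W)) (a : Γ(A, W)) :
    ((mulPreR ι F).app (op W)).hom (t ⊗ₜ a) = (ofS W (ι.app W a)) • t := by
  rfl

/-- the morphism `F ⊗ A ⟶ F` induced by `ι : A ⟶ O_X`, `t ⊗ a ↦ ι(a) • t` -/
def mulR {A : X.Modules} (ι : A ⟶ Coh.structureModule X) (F : X.Modules) :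
    CohB1.tensorMod F A ⟶ F :=
  lift (show (CohB1.tensorPre F A : X.PresheafOfModules) ⟶
      (PresheafOfModules.restrictScalars (𝟙 X.ringCatSheaf.obj)).obj F.val from mulPreR ι F)

theorem mulR_tm {A : X.Modules} (ι : A ⟶ Coh.structureModule X) (F : X.Modules) (W : X.Opens)
    (t : Γ(F, W)) (a : Γ(A, W)) :
    (mulR ι F).app W (tm F A W t a) = (ofS W (ι.app W a)) • t := by
  unfold mulR
  rw [lift_tm]
  exact mulPreR_app ι F W t a

end MulR

section Cartier

open Groth.Agent.Lib.Helper23.TensorMap Groth.Agent.Lib.Helper23.SecTw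
  Groth.Agent.Lib.R2H4CartierMono

variable [IsLocallyNoetherian X]

/-- affine opens on which the ideal module has a generator -/
def genBasis (D : X.IdealSheafData) : Set X.Opens :=
  {V | IsAffineOpen V ∧ ∃ (W : X.Opens) (e : Γ(ClSub.idealMod D, W)), V ≤ W ∧
    IsGen (ClSub.idealMod D) W e}

theorem isBasis_genBasis (D : X.IdealSheafData) (hD : BlowUp.IsEffCartierIdeal D) :
    Opens.IsBasis (genBasis D) := by
  rw [Opens.isBasis_iff_nbhd]
  intro U x hxU
  obtain ⟨W, e, hxW, hgen⟩ := exists_gen (ClSub.idealMod D)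
    (Groth.Agent.Helper18Cart.isInvertible_of_isEffCartier D hD) x
  obtain ⟨V, hV, hxV, hle⟩ := Opens.isBasis_iff_nbhd.1 X.isBasis_affineOpens
    (show x ∈ U ⊓ W from ⟨hxU, hxW⟩)
  exact ⟨V, ⟨hV, W, e, hle.trans inf_le_right, hgen⟩, hxV, hle.trans inf_le_left⟩

theorem ι_res_eq (D : X.IdealSheafData) {W V : X.Opens} (hVW : V ≤ W)
    (e : Γ(ClSub.idealMod D, W)) :
    ofS V ((ClSub.idealModι D).app V (res (ClSub.idealMod D) hVW e)) =
      resf hVW (ofS W ((ClSub.idealModι D).app W e)) := by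
  have := Groth.Agent.Lib.Helper23.Extend.app_map (ClSub.idealModι D) (homOfLE hVW) e
  have h2 : (ClSub.idealModι D).app V (res (ClSub.idealMod D) hVW e) =
      toS V (resf hVW (ofS W ((ClSub.idealModι D).app W e))) := by
    rw [show res (ClSub.idealMod D) hVW e = (ClSub.idealMod D).presheaf.map (homOfLE hVW).op e
      from rfl, this]
    rfl
  rw [h2, ofS_toS]

/-- `F ⊗ I_D ⟶ F` is a monomorphism if no associated point of `F` lies on `D` -/
theorem mono_mulR (D : X.IdealSheafData) (hD : BlowUp.IsEffCartierIdeal D) (F : X.Modules)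
    [F.IsQuasicoherent] (hass : ∀ x ∈ D.support, ¬ Curv2.IsAssPoint F x) :
    Mono (mulR (ClSub.idealModι D) F) := by
  refine Groth.Agent.Helper18OmLS.mono_of_injective_app_basis _ (genBasis D)
    (isBasis_genBasis D hD) ?_
  rintro V ⟨hV, W, e, hVW, hgen⟩
  intro z z' hzz'
  obtain ⟨t, rfl⟩ := (bijective_tm_of_isGen F (ClSub.idealMod D) W e hgen V hVW).2 z
  obtain ⟨t', rfl⟩ := (bijective_tm_of_isGen F (ClSub.idealMod D) W e hgen V hVW).2 z'
  simp only at hzz' ⊢
  rw [mulR_tm, mulR_tm, ι_res_eq] at hzz'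
  have ht : t - t' = 0 := by
    apply Groth.Agent.Lib.Helper2.QcPush.section_eq_zero_of_germ
    intro x hx
    refine regular_of_hass D F hass x W (hVW hx) e hgen _ ?_
    have h1 : X.presheaf.germ V x hx (resf hVW (ofS W ((ClSub.idealModι D).app W e))) =
        X.presheaf.germ W x (hVW hx) (ofS W ((ClSub.idealModι D).app W e)) :=
      TopCat.Presheaf.germ_res_apply X.presheaf (homOfLE hVW) x hx _
    rw [← h1, ← Groth.Agent.Lib.Helper2.QCoh.germ_smul, smul_sub, hzz', sub_self, map_zero]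
  rw [sub_eq_zero.1 ht]

/-- `F ⊗ I_D ⟶ F ⟶ F / D F` vanishes -/
theorem mulR_comp_quoπ (D : X.IdealSheafData) (hD : BlowUp.IsEffCartierIdeal D) (F : X.Modules) :
    mulR (ClSub.idealModι D) F ≫ quoπ D F = 0 := by
  refine Groth.Agent.Helper18Strict.hom_eq_zero_of_basis _ (genBasis D) (isBasis_genBasis D hD) ?_
  rintro V ⟨hV, W, e, hVW, hgen⟩ z
  obtain ⟨t, rfl⟩ := (bijective_tm_of_isGen F (ClSub.idealMod D) W e hgen V hVW).2 z
  simp only
  rw [Scheme.Modules.Hom.comp_app, ConcreteCategory.comp_apply, mulR_tm,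
    Scheme.Modules.Hom.app_smul]
  exact killed_quo D F ⟨V, hV⟩ _
    (Groth.Agent.Lib.Helper23.IdealSec.ι_mem_ideal D ⟨V, hV⟩ _) _

end Cartier

section CartierIso

open Groth.Agent.Lib.Helper23.TensorMap Groth.Agent.Lib.Helper23.SecTw
  Groth.Agent.Lib.R2H4CartierMono

variable [IsNoetherian X]

/-- the factorisation `F ⊗ I_D ⟶ D F` of the multiplication -/
def mulRLift (D : X.IdealSheafData) (hD : BlowUp.IsEffCartierIdeal D) (F : X.Modules) :
    CohB1.tensorMod F (ClSub.idealMod D) ⟶ (Dual3.idealMul D).obj F :=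
  haveI : Mono (quoSC D F).f := Dual3.mono_idealMulι D F
  (shortExact D F).exact.lift (mulR (ClSub.idealModι D) F) (mulR_comp_quoπ D hD F)

theorem mulRLift_ι (D : X.IdealSheafData) (hD : BlowUp.IsEffCartierIdeal D) (F : X.Modules) :
    mulRLift D hD F ≫ Dual3.idealMulι D F = mulR (ClSub.idealModι D) F := by
  haveI : Mono (quoSC D F).f := Dual3.mono_idealMulι D F
  exact (shortExact D F).exact.lift_f _ _

/-- elements of the ideal over a small affine open are multiples of the local equation -/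
theorem exists_mul_of_mem (D : X.IdealSheafData) {W V : X.Opens} (hV : IsAffineOpen V)
    (hVW : V ≤ W) (e : Γ(ClSub.idealMod D, W)) (hgen : IsGen (ClSub.idealMod D) W e)
    (a : Γ(X, V)) (ha : a ∈ D.ideal ⟨V, hV⟩) :
    ∃ r : Γ(X, V), a = r * ofS V ((ClSub.idealModι D).app V (res (ClSub.idealMod D) hVW e)) := by
  obtain ⟨j, hj⟩ := Groth.Agent.Lib.Helper23.IdealSec.exists_ι_eq D ⟨V, hV⟩ a ha
  obtain ⟨r, hr⟩ := (hgen V hVW).2 j
  have hr' : r • res (ClSub.idealMod D) hVW e = j := hr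
  refine ⟨r, ?_⟩
  have h3 : toS V a = toS V (r * ofS V ((ClSub.idealModι D).app V
      (res (ClSub.idealMod D) hVW e))) := by
    rw [← hj, ← hr', Scheme.Modules.Hom.app_smul, ← smul_toS, toS_ofS]
  have := congrArg (ofS V) h3
  simpa using this

theorem isIso_mulRLift (D : X.IdealSheafData) (hD : BlowUp.IsEffCartierIdeal D) (F : X.Modules)
    (hF : Coh.IsCoh F) (hass : ∀ x ∈ D.support, ¬ Curv2.IsAssPoint F x) :
    IsIso (mulRLift D hD F) := by
  haveI : F.IsQuasicoherent := hF.1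
  have cI : Coh.IsCoh (ClSub.idealMod D) :=
    Groth.Agent.Lib.R2H4SSDescent.isCoh_of_isInvertible _
      (Groth.Agent.Helper18Cart.isInvertible_of_isEffCartier D hD)
  have c₁ : Coh.IsCoh (CohB1.tensorMod F (ClSub.idealMod D)) :=
    Groth.Agent.Lib.R2H4SSDescent.isCoh_tensorMod _ _ hF cI
  have c₂ : Coh.IsCoh ((Dual3.idealMul D).obj F) := Groth.Agent.Lib.R2H2.DevF.isCoh_idealMul D F hF
  haveI : (CohB1.tensorMod F (ClSub.idealMod D)).IsQuasicoherent := c₁.1
  haveI : ((Dual3.idealMul D).obj F).IsQuasicoherent := c₂.1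
  haveI : Mono (mulR (ClSub.idealModι D) F) := mono_mulR D hD F hass
  haveI : Mono (mulRLift D hD F) := by
    haveI : Mono (mulRLift D hD F ≫ Dual3.idealMulι D F) := by
      rw [mulRLift_ι]; infer_instance
    exact mono_of_mono (mulRLift D hD F) (Dual3.idealMulι D F)
  haveI : Epi (mulRLift D hD F) := by
    refine Groth.Agent.Helper18OmLS.epi_of_surjective_app_cover _
      (fun V : genBasis D => V.1) ?_ (fun V => V.2.1) ?_
    · refine IsOpenCover.mk (eq_top_iff.2 fun x _ => ?_)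
      obtain ⟨V, hV, hxV, -⟩ := Opens.isBasis_iff_nbhd.1 (isBasis_genBasis D hD)
        (show x ∈ (⊤ : X.Opens) from trivial)
      exact Opens.mem_iSup.2 ⟨⟨V, hV⟩, hxV⟩
    · rintro ⟨V, hV, W, e, hVW, hgen⟩ s
      have hmem := ι_app_mem D F ⟨V, hV⟩ s
      set f := ofS V ((ClSub.idealModι D).app V (res (ClSub.idealMod D) hVW e)) with hf
      have key : ∀ y ∈ D.ideal ⟨V, hV⟩ • (⊤ : Submodule Γ(X, V) Γ(F, V)),
          ∃ t : Γ(F, V), y = f • t := by
        intro y hy
        refine Submodule.smul_induction_on hy (fun a ha y _ => ?_) (fun y z hy hz => ?_)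
        · obtain ⟨r, rfl⟩ := exists_mul_of_mem D hV hVW e hgen a ha
          exact ⟨r • y, by rw [smul_smul, mul_comm]⟩
        · obtain ⟨t, rfl⟩ := hy
          obtain ⟨t', rfl⟩ := hz
          exact ⟨t + t', (smul_add _ _ _).symm⟩
      obtain ⟨t, ht⟩ := key _ hmem
      refine ⟨tm F (ClSub.idealMod D) V t (res (ClSub.idealMod D) hVW e), ?_⟩
      apply Groth.Agent.Lib.Helper20.StalkExact.injective_app_of_mono (Dual3.idealMulι D F) V
      have hnat := congrArg (fun φ : CohB1.tensorMod F (ClSub.idealMod D) ⟶ F =>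
        φ.app V (tm F (ClSub.idealMod D) V t (res (ClSub.idealMod D) hVW e))) (mulRLift_ι D hD F)
      simp only [Scheme.Modules.Hom.comp_app, ConcreteCategory.comp_apply] at hnat
      rw [hnat, mulR_tm, ht]
  exact isIso_of_mono_of_epi _

end CartierIso

end Groth.Agent.Lib.R2H4Quo
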