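import Mathlib
import Groth.Prelude.Def_PicF2
import Groth.Prelude.Def_SecTwist
import Groth.Agent.Lib.Helper2FPAff
import Groth.Agent.Lib.Helper23SecTw3
import Groth.Agent.Lib.R2H2PnFinite
import Groth.Agent.Lib.Helper23FinType2
import Groth.Agent.Lib.Helper20MeroDivIso
import Groth.Agent.Lib.Helper20WeakAss
import Groth.Agent.Lib.R2H1InvHom
set_option backward.isDefEq.respectTransparency.types false

/-!
helper1 (run 2): the zero scheme of a nonzero section s of an invertible module L on an integral scheme is an effective Cartier divisor D with L = O(D), s = 1 (S19456).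
colon_map_eq: the colon ideal (R s : N) of a finite module commutes with localization; zeroJ / zeroScheme_ideal: for L invertible,
(PicF2.zeroScheme L s).ideal U = PicF2.zeroIdealOn L s U on every affine open; zeroIdealOn_eq_span; regStalk_eq (integral X);
exists_local_data; sm (the meromorphic section of s), isRegularMero_sm, setup (a Helper20.MeroDivIso.Setup); main.
-/

set_option autoImplicit false
set_option linter.style.haveILetI false
set_option linter.unusedSectionVars false
universe u v

open CategoryTheory CategoryTheory.Limits AlgebraicGeometry TopologicalSpace Opposite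

namespace Groth.Agent.Lib.R2H1.ZeroSchemeDiv

section Part1

open Groth.Agent.Lib.Helper2.FPAff

/-- the colon ideal `(R s : N)` of a finite module commutes with localization. -/
theorem colon_map_eq {R : Type*} [CommRing R] (S : Submonoid R) {R' : Type*} [CommRing R']
    [Algebra R R'] [IsLocalization S R'] {N N' : Type*} [AddCommGroup N] [Module R N]
    [AddCommGroup N'] [Module R N'] [Module R' N'] [IsScalarTower R R' N'] (r : N →ₗ[R] N')
    [IsLocalizedModule S r] [Module.Finite R N] (s : N) (I : Ideal R) (I' : Ideal R')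
    (hI : ∀ a, a ∈ I ↔ ∀ m : N, ∃ b : R, a • m = b • s)
    (hI' : ∀ a', a' ∈ I' ↔ ∀ m' : N', ∃ b' : R', a' • m' = b' • r s) :
    I.map (algebraMap R R') = I' := by
  apply le_antisymm
  · rw [Ideal.map_le_iff_le_comap]
    intro a ha
    rw [Ideal.mem_comap, hI']
    intro m'
    obtain ⟨⟨m, t⟩, ht⟩ := IsLocalizedModule.surj S r m'
    obtain ⟨b, hb⟩ := (hI a).1 ha m
    refine ⟨IsLocalization.mk' R' b t, ?_⟩
    apply IsLocalizedModule.smul_injective r t
    change (t : R) • (algebraMap R R' a • m') = (t : R) • (IsLocalization.mk' R' b t • r s)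
    have h3 : (t : R) • m' = r m := ht
    have h1 : (t : R) • (algebraMap R R' a • m') = r (b • s) := by
      rw [algebraMap_smul, smul_comm, h3, ← map_smul, hb]
    have h2 : (t : R) • (IsLocalization.mk' R' b t • r s) = r (b • s) := by
      rw [← algebraMap_smul R' (t : R), smul_smul, mul_comm, IsLocalization.mk'_spec, algebraMap_smul,
        map_smul]
    rw [h1, h2]
  · intro y hy
    obtain ⟨a, t, rfl⟩ := IsLocalization.exists_mk'_eq S y
    rw [IsLocalization.mk'_mem_map_algebraMap_iff]
    have ha : algebraMap R R' a ∈ I' := by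
      rw [← IsLocalization.mk'_spec R' a t]
      exact Ideal.mul_mem_right _ _ hy
    obtain ⟨G, hG⟩ := (Module.Finite.fg_top : (⊤ : Submodule R N).FG)
    have h1 : ∀ m : N, ∃ (u : S) (b : R), ((u : R) * a) • m = b • s := by
      intro m
      obtain ⟨b', hb'⟩ := (hI' _).1 ha (r m)
      obtain ⟨b, u, rfl⟩ := IsLocalization.exists_mk'_eq S b'
      have h2 : r (((u : R) * a) • m) = r (b • s) := by
        rw [map_smul, map_smul, mul_smul, ← algebraMap_smul R' a, hb', ← algebraMap_smul R' (u : R),
          smul_smul, mul_comm, IsLocalization.mk'_spec, algebraMap_smul]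
      obtain ⟨v, hv⟩ := (IsLocalizedModule.eq_iff_exists S r).1 h2
      refine ⟨v * u, (v : R) * b, ?_⟩
      have hv' : (v : R) • (((u : R) * a) • m) = (v : R) • (b • s) := hv
      rw [Submonoid.coe_mul, mul_assoc, mul_smul, hv', mul_smul]
    choose u b hub using h1
    classical
    refine ⟨((∏ m ∈ G, u m : S) : R), (∏ m ∈ G, u m : S).2, ?_⟩
    rw [hI]
    have hspan : ∀ m ∈ Submodule.span R (G : Set N),
        ∃ c : R, (((∏ m ∈ G, u m : S) : R) * a) • m = c • s := by
      intro m hm
      induction hm using Submodule.span_induction with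
      | mem x hx =>
        have hd : ((∏ m ∈ G, u m : S) : R) = ((∏ m ∈ G.erase x, u m : S) : R) * (u x : R) := by
          rw [← Finset.prod_erase_mul G _ hx]
          simp
        refine ⟨((∏ m ∈ G.erase x, u m : S) : R) * b x, ?_⟩
        rw [hd, mul_assoc, mul_smul, hub x, mul_smul]
      | zero => exact ⟨0, by rw [smul_zero, zero_smul]⟩
      | add x y _ _ hx hy =>
        obtain ⟨c, hc⟩ := hx
        obtain ⟨c', hc'⟩ := hy
        exact ⟨c + c', by rw [smul_add, hc, hc', add_smul]⟩
      | smul c x _ hx =>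
        obtain ⟨c', hc'⟩ := hx
        exact ⟨c * c', by rw [smul_comm, hc', mul_smul]⟩
    intro m
    exact hspan m (hG ▸ Submodule.mem_top)

variable {X : Scheme.{u}}

theorem res_secVal (L : X.Modules) (s : Coh.structureModule X ⟶ L) {U V : X.Opens} (h : V ≤ U) :
    L.presheaf.map (homOfLE h).op (PicF2.secVal L s U) = PicF2.secVal L s V :=
  SecTwist.map_val s (homOfLE h)

/-- the ideal sheaf with the ideals `zeroIdealOn L s U` on affine opens, for `L` invertible. -/
noncomputable def zeroJ (L : X.Modules) (hL : PicF.IsInvertible L)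
    (s : Coh.structureModule X ⟶ L) : X.IdealSheafData where
  ideal V := show Ideal Γ(X, V.1) from PicF2.zeroIdealOn L s V.1
  map_ideal_basicOpen V g := by
    haveI : L.IsQuasicoherent := Groth.Agent.Lib.Helper23.SecTw.isQuasicoherent_of_isInvertible L hL
    haveI : SheafOfModules.IsFiniteType (R := X.ringCatSheaf) L :=
      Groth.Agent.Lib.R2H2.PnFinite.isFiniteType_of_isInvertible L hL
    haveI : Module.Finite Γ(X, V.1) Γ(L, V.1) :=
      Groth.Agent.Lib.Helper23.FinType.finite_of_isFiniteType L V.2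
    letI := moduleRes L (X.basicOpen_le g)
    haveI := isScalarTower_basicOpen L g
    haveI := isLocalizedModule_basicOpen L V.2 g
    haveI : IsLocalization.Away g Γ(X, X.basicOpen g) := V.2.isLocalization_basicOpen g
    refine colon_map_eq (Submonoid.powers g) (resₗ L (X.basicOpen_le g)) (PicF2.secVal L s V.1) _ _
      (fun a => Iff.rfl) (fun a' => ?_)
    rw [resₗ_apply, res_secVal]
    exact Iff.rfl

theorem zeroScheme_eq (L : X.Modules) (hL : PicF.IsInvertible L)
    (s : Coh.structureModule X ⟶ L) : PicF2.zeroScheme L s = zeroJ L hL s :=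
  Scheme.IdealSheafData.ofIdeals_ideal (zeroJ L hL s)

theorem zeroScheme_ideal (L : X.Modules) (hL : PicF.IsInvertible L)
    (s : Coh.structureModule X ⟶ L) (U : X.affineOpens) :
    (PicF2.zeroScheme L s).ideal U = (show Ideal Γ(X, U.1) from PicF2.zeroIdealOn L s U.1) := by
  rw [zeroScheme_eq L hL s]
  rfl

/-- on an open where `L` is freely generated by `t` and `s = a • t`, the zero ideal is `(a)`. -/
theorem zeroIdealOn_eq_span (L : X.Modules) (s : Coh.structureModule X ⟶ L) (U : X.Opens)
    (t : Γ(L, U)) (a : Γ(X, U)) (hb : Function.Bijective (fun r : Γ(X, U) => r • t))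
    (hs : PicF2.secVal L s U = a • t) :
    (show Ideal Γ(X, U) from PicF2.zeroIdealOn L s U) = Ideal.span {a} := by
  apply le_antisymm
  · intro c hc
    obtain ⟨b, hb'⟩ : ∃ b : Γ(X, U), c • t = b • PicF2.secVal L s U := hc t
    rw [Ideal.mem_span_singleton']
    refine ⟨b, ?_⟩
    apply hb.1
    change (b * a) • t = c • t
    rw [mul_smul, ← hs]
    exact hb'.symm
  · rw [Ideal.span_le, Set.singleton_subset_iff]
    change ∀ m : Γ(L, U), ∃ b : Γ(X, U), a • m = b • PicF2.secVal L s U
    intro m
    obtain ⟨r, hr⟩ := hb.2 m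
    have hr' : r • t = m := hr
    refine ⟨r, ?_⟩
    rw [hs, ← hr']
    exact smul_comm a r t

end Part1

section Part2

open Mero Groth.Agent.Lib.Helper20.RegMero Groth.Agent.Lib.Helper20.MeroDivIso

variable {X : Scheme.{u}} [IsIntegral X]

theorem mem_regSub_of_ne_zero {U : X.Opens} (f : Γ(X, U)) (hf : f ≠ 0) : f ∈ regSub X U := by
  intro y
  have h1 : X.presheaf.germ U y.1 y.2 f ≠ 0 := by
    intro h0
    exact hf (germ_injective_of_isIntegral X y.1 y.2 (h0.trans (map_zero _).symm))
  exact mem_nonZeroDivisors_of_ne_zero h1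

theorem regStalk_eq (x : X) : regStalk X x = nonZeroDivisors (X.presheaf.stalk x) := by
  apply le_antisymm (regStalk_le_nonZeroDivisors x)
  intro g hg
  obtain ⟨V, hxV, f, rfl⟩ := X.presheaf.exists_germ_eq g
  have hf : f ≠ 0 := by
    rintro rfl
    rw [map_zero] at hg
    exact nonZeroDivisors.ne_zero hg rfl
  exact ⟨V, hxV, f, mem_regSub_of_ne_zero f hf, rfl⟩

theorem app_eq_smul_secVal (L : X.Modules) (s : Coh.structureModule X ⟶ L) (W : X.Opens)
    (n : Γ(X, W)) :
    s.app W (show Γ(Coh.structureModule X, W) from n) = n • PicF2.secVal L s W := by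
  have h := Scheme.Modules.Hom.app_smul s n
    (show Γ(Coh.structureModule X, W) from (1 : Γ(X, W)))
  have h1 : n • (show Γ(Coh.structureModule X, W) from (1 : Γ(X, W))) =
      (show Γ(Coh.structureModule X, W) from n) := mul_one n
  rw [h1] at h
  exact h

theorem exists_local_data (L : X.Modules) (hL : PicF.IsInvertible L)
    (s : Coh.structureModule X ⟶ L) (hs : s ≠ 0) (x : X) :
    ∃ (U : X.affineOpens) (_ : x ∈ U.1) (t : Γ(L, U.1)) (a : Γ(X, U.1)),
      (∀ (y : X) (hy : y ∈ U.1), IsGen L y (L.presheaf.germ U.1 y hy t)) ∧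
      Function.Bijective (fun r : Γ(X, U.1) => r • t) ∧ a ∈ regSub X U.1 ∧
      PicF2.secVal L s U.1 = a • t := by
  obtain ⟨W, t₀, hxW, hgen, hbij⟩ :=
    Groth.Agent.Lib.Helper20.WeakAss.exists_local_generator' L hL x
  obtain ⟨U, hU, hxU, hUW⟩ := exists_isAffineOpen_mem_and_subset (x := x) (U := W) hxW
  have hb := hbij U hUW
  obtain ⟨a, ha⟩ := hb.2 (PicF2.secVal L s U)
  have ha' : a • L.presheaf.map (homOfLE hUW).op t₀ = PicF2.secVal L s U := ha
  refine ⟨⟨U, hU⟩, hxU, L.presheaf.map (homOfLE hUW).op t₀, a, ?_, hb, ?_, ha'.symm⟩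
  · intro y hy
    have := hgen y (hUW hy)
    rwa [← TopCat.Presheaf.germ_res_apply L.presheaf (homOfLE hUW) y hy t₀] at this
  · apply mem_regSub_of_ne_zero
    rintro rfl
    apply hs
    refine Groth.Agent.Lib.R2H1.InvHom.eq_zero_of_local hL s U ⟨x, hxU⟩ fun W' hW' n => ?_
    have h1 := app_eq_smul_secVal L s W' n
    have h2 : PicF2.secVal L s W' = 0 := by
      rw [← res_secVal L s hW', ← ha', zero_smul]
      exact map_zero _
    rw [h2, smul_zero] at h1
    exact h1

/-- the meromorphic section of a regular global section -/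
noncomputable def sm (L : X.Modules) (s : Coh.structureModule X ⟶ L) : Γ(merMod L, ⊤) :=
  toMerFun L ⊤ (PicF2.secVal L s ⊤)

theorem sm_apply (L : X.Modules) (s : Coh.structureModule X ⟶ L) (x : X) :
    (sm L s).1 ⟨x, Opens.mem_top x⟩ =
      LocalizedModule.mk (L.presheaf.germ ⊤ x (Opens.mem_top x) (PicF2.secVal L s ⊤)) 1 := rfl

theorem germ_secVal (L : X.Modules) (s : Coh.structureModule X ⟶ L) (U : X.Opens) (x : X)
    (hx : x ∈ U) :
    L.presheaf.germ ⊤ x (Opens.mem_top x) (PicF2.secVal L s ⊤) =
      L.presheaf.germ U x hx (PicF2.secVal L s U) := by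
  rw [← res_secVal L s (le_top : U ≤ ⊤), TopCat.Presheaf.germ_res_apply]

theorem isRegularMero_sm (L : X.Modules) (hL : PicF.IsInvertible L)
    (s : Coh.structureModule X ⟶ L) (hs : s ≠ 0) : IsRegularMero L (sm L s) := by
  intro x q hq
  obtain ⟨U, hxU, t, a, hgen, hb, ha, hsa⟩ := exists_local_data L hL s hs x
  have h1 : L.presheaf.germ ⊤ x (Opens.mem_top x) (PicF2.secVal L s ⊤) =
      X.presheaf.germ U.1 x hxU a • L.presheaf.germ U.1 x hxU t := by
    rw [germ_secVal L s U.1 x hxU, hsa, Mero.germ_smul]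
  induction q using Localization.induction_on with
  | H cb =>
    obtain ⟨c, b⟩ := cb
    rw [sm_apply, LocalizedModule.mk_smul_mk, h1, ← LocalizedModule.zero_mk (b * 1),
      LocalizedModule.mk_eq] at hq
    obtain ⟨u, hu⟩ := hq
    rw [smul_zero, smul_zero] at hu
    have hu' : ((u : X.presheaf.stalk x) * ((b * 1 : regStalk X x) : X.presheaf.stalk x) *
        (c * X.presheaf.germ U.1 x hxU a)) • L.presheaf.germ U.1 x hxU t =
        (0 : X.presheaf.stalk x) • L.presheaf.germ U.1 x hxU t := by
      rw [zero_smul, ← hu, mul_smul, mul_smul, mul_smul]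
      rfl
    have h2 := (hgen x hxU).1 hu'
    have hnz1 := regStalk_le_nonZeroDivisors x u.2
    have hnz2 := regStalk_le_nonZeroDivisors x (b * 1 : regStalk X x).2
    have hnz3 := ha ⟨x, hxU⟩
    have h3 : c * X.presheaf.germ U.1 x hxU a = 0 := by
      have := (mul_left_mem_nonZeroDivisors_eq_zero_iff (mul_mem hnz1 hnz2)).1 h2
      exact this
    have h4 : c = 0 := (mul_right_mem_nonZeroDivisors_eq_zero_iff hnz3).1 h3
    rw [h4, Localization.mk_zero]

theorem setup (L : X.Modules) (hL : PicF.IsInvertible L)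
    (s : Coh.structureModule X ⟶ L) (hs : s ≠ 0) : Setup L (sm L s) :=
  ⟨regStalk_eq, hL, isRegularMero_sm L hL s hs⟩

end Part2

section Part3

open Mero Groth.Agent.Lib.Helper20.RegMero Groth.Agent.Lib.Helper20.MeroDivIso

variable {X : Scheme.{u}} [IsIntegral X]

/-- the local structure of `sm L s` given by local data -/
noncomputable def lsOf (L : X.Modules) (s : Coh.structureModule X ⟶ L) (U : X.Opens)
    (t : Γ(L, U)) (a : Γ(X, U))
    (hgen : ∀ (y : X) (hy : y ∈ U), IsGen L y (L.presheaf.germ U y hy t))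
    (ha : a ∈ regSub X U) (hsa : PicF2.secVal L s U = a • t) : LS L (sm L s) where
  V := U
  t := t
  ht := hgen
  a := a
  b := 1
  ha := ha
  hb := Submonoid.one_mem _
  hs := fun y hy => by
    rw [sm_apply]
    refine mk_congr ?_ ?_
    · rw [germ_secVal L s U y hy, hsa]
    · exact (map_one _).symm

theorem main (L : X.Modules) (hL : PicF.IsInvertible L)
    (s : Coh.structureModule X ⟶ L) (hs : s ≠ 0) :
    ∃ D : Mero.Divisor X, Mero.IsDivOfIdeal D (PicF2.zeroScheme L s) ∧
      ∃ e : L ≅ Mero.divMod D,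
        (Mero.divModι D).app ⊤ (e.hom.app ⊤ (SecTwist.val s ⊤)) = 1 := by
  have H := setup L hL s hs
  refine ⟨divisor H, ?_, ?_⟩
  · intro x
    obtain ⟨U, hxU, t, a, hgen, hb, ha, hsa⟩ := exists_local_data L hL s hs x
    refine ⟨U, hxU, a, ha, ?_, fun y => ?_⟩
    · rw [zeroScheme_ideal L hL s U]
      exact zeroIdealOn_eq_span L s U.1 t a hb hsa
    · rw [divisor_apply H (lsOf L s U.1 t a hgen ha hsa) y.1 y.2]
      refine congrArg _ (Units.ext ?_)
      change ((toK X U.1 a * Groth.Agent.Lib.Helper20.Kmod.invReg ⟨1, Submonoid.one_mem _⟩ :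
        Γ(kmod X, U.1))).1 y = algebraMap _ (KStalk X y.1) (X.presheaf.germ U.1 y.1 y.2 a)
      rw [Mero.kmod_mul_apply, Mero.toK_apply, Groth.Agent.Lib.Helper20.Kmod.invReg_apply]
      refine LocalizedModule.mk_mul_mk.trans ?_
      rw [Groth.Agent.S10856.algebraMap_eq_mk]
      exact mk_congr (mul_one _) (by rw [one_mul]; exact map_one _)
  · have h1 : ∀ (U : X.Opens) (m : Γ(L, U)), (divLoc X (divisor H)).pred
        (fun x : U => quot H x.1 (L.presheaf.germ U x.1 x.2 m)) :=
      fun U m => ⟨kLoc_quot H U m, fun x => divCond_quot H x.1 _⟩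
    have hiso : IsIso (toModOf (divLoc X (divisor H)) L (quot H) h1) :=
      isIso_toModOf (divLoc X (divisor H)) L (quot H) h1 (quot_injective H)
        (fun U f hf x => exists_local_preimage H U f hf x)
    refine ⟨@asIso _ _ _ _ _ hiso, ?_⟩
    refine Subtype.ext (funext fun x => ?_)
    change quot H x.1 (L.presheaf.germ ⊤ x.1 x.2 (PicF2.secVal L s ⊤)) = 1
    apply smul_injective H.hs x.1
    rw [quot_spec, one_smul]
    rfl

end Part3

end Groth.Agent.Lib.R2H1.ZeroSchemeDiv
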