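import Mathlib
import Groth.Agent.Lib.R2H1ZeroSchemeDiv
import Groth.Agent.Lib.Helper23SecTw6
set_option backward.isDefEq.respectTransparency.types false

/-!
helper1 (run 2): Z(s1 tensor s2) = Z(s1) + Z(s2) for sections of invertible modules on an integral scheme, in the IsDivOfIdeal form (S19459).
exists_coef_ideal (ideal of the zero scheme on an affine open with a generator), ideal_res_span, main.
-/

set_option autoImplicit false
set_option linter.style.haveILetI false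
set_option linter.unusedSectionVars false
universe u v

open CategoryTheory CategoryTheory.Limits AlgebraicGeometry TopologicalSpace Opposite

namespace Groth.Agent.Lib.R2H1.ZeroSchemeMul

section Part1

open Mero Groth.Agent.Lib.Helper23.SecTw Groth.Agent.Lib.Helper6 Groth.Agent.Lib.R2H1.ZeroSchemeDiv

variable {X : Scheme.{u}}

/-- the ideal of the zero scheme on an affine open with a generator -/
theorem exists_coef_ideal (L : X.Modules) (hL : PicF.IsInvertible L)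
    (s : Coh.structureModule X ⟶ L) (U : X.affineOpens) (t : Γ(L, U.1)) (ht : IsGen L U.1 t) :
    ∃ a : Γ(X, U.1), sv s U.1 = a • t ∧ (PicF2.zeroScheme L s).ideal U = Ideal.span {a} := by
  have hb : Function.Bijective (fun r : Γ(X, U.1) => r • t) := by
    have := ht U.1 le_rfl
    rwa [show (fun r : Γ(X, U.1) => r • res L le_rfl t) = fun r : Γ(X, U.1) => r • t from by
      funext r; rw [Groth.Agent.Lib.Helper23.SecTw.res_self]] at this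
  obtain ⟨a, ha⟩ := hb.2 (sv s U.1)
  have ha' : a • t = sv s U.1 := ha
  refine ⟨a, ha'.symm, ?_⟩
  rw [zeroScheme_ideal L hL s U]
  exact zeroIdealOn_eq_span L s U.1 t a hb ha'.symm

theorem ideal_res_span (I : X.IdealSheafData) {U V : X.affineOpens} (h : U ≤ V) (f : Γ(X, V.1))
    (hf : I.ideal V = Ideal.span {f}) :
    I.ideal U = Ideal.span {X.presheaf.map (homOfLE h).op f} := by
  rw [← I.map_ideal h, hf, Ideal.map_span, Set.image_singleton]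

theorem main [IsIntegral X]
    (L₁ L₂ : X.Modules) (hL₁ : PicF.IsInvertible L₁) (hL₂ : PicF.IsInvertible L₂)
    (s₁ : Coh.structureModule X ⟶ L₁) (s₂ : Coh.structureModule X ⟶ L₂)
    (D₁ D₂ : Mero.Divisor X) (hD₁ : Mero.IsDivOfIdeal D₁ (PicF2.zeroScheme L₁ s₁))
    (hD₂ : Mero.IsDivOfIdeal D₂ (PicF2.zeroScheme L₂ s₂)) :
    Mero.IsDivOfIdeal (D₁ * D₂)
      (PicF2.zeroScheme (CohB1.tensorMod L₁ L₂) (SecTwist.tmulHom s₁ s₂)) := by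
  intro x
  obtain ⟨U₁, hxU₁, f₁, hf₁, hI₁, hG₁⟩ := hD₁ x
  obtain ⟨U₂, hxU₂, f₂, hf₂, hI₂, hG₂⟩ := hD₂ x
  obtain ⟨W₁, e₁, hxW₁, he₁⟩ := exists_gen L₁ hL₁ x
  obtain ⟨W₂, e₂, hxW₂, he₂⟩ := exists_gen L₂ hL₂ x
  obtain ⟨U, hU, hxU, hUle₀⟩ := exists_isAffineOpen_mem_and_subset (x := x)
    (U := U₁.1 ⊓ U₂.1 ⊓ (W₁ ⊓ W₂)) ⟨⟨hxU₁, hxU₂⟩, ⟨hxW₁, hxW₂⟩⟩
  have hUle : U ≤ U₁.1 ⊓ U₂.1 ⊓ (W₁ ⊓ W₂) := hUle₀
  have hUU₁ : U ≤ U₁.1 := hUle.trans (inf_le_left.trans inf_le_left)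
  have hUU₂ : U ≤ U₂.1 := hUle.trans (inf_le_left.trans inf_le_right)
  have hUW₁ : U ≤ W₁ := hUle.trans (inf_le_right.trans inf_le_left)
  have hUW₂ : U ≤ W₂ := hUle.trans (inf_le_right.trans inf_le_right)
  haveI : Nonempty ↥((U : X.Opens) : Scheme.{u}) := ⟨⟨x, hxU⟩⟩
  haveI : IsDomain Γ(X, U) := IsIntegral.component_integral U
  have ht₁ : IsGen L₁ U (res L₁ hUW₁ e₁) := he₁.mono hUW₁
  have ht₂ : IsGen L₂ U (res L₂ hUW₂ e₂) := he₂.mono hUW₂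
  obtain ⟨a₁, hsa₁, hJ₁⟩ := exists_coef_ideal L₁ hL₁ s₁ ⟨U, hU⟩ _ ht₁
  obtain ⟨a₂, hsa₂, hJ₂⟩ := exists_coef_ideal L₂ hL₂ s₂ ⟨U, hU⟩ _ ht₂
  have hτ := isGen_tm L₁ L₂ U _ _ ht₁ ht₂
  obtain ⟨a, hsa, hJ⟩ := exists_coef_ideal (CohB1.tensorMod L₁ L₂)
    (isInvertible_tensorMod hL₁ hL₂) (SecTwist.tmulHom s₁ s₂) ⟨U, hU⟩ _ hτ
  -- a = a₁ a₂
  have ha : a = a₁ * a₂ := by
    have hb := hτ U le_rfl
    apply hb.1
    change a • res _ le_rfl (tm L₁ L₂ U (res L₁ hUW₁ e₁) (res L₂ hUW₂ e₂)) =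
      (a₁ * a₂) • res _ le_rfl (tm L₁ L₂ U (res L₁ hUW₁ e₁) (res L₂ hUW₂ e₂))
    rw [Groth.Agent.Lib.Helper23.SecTw.res_self, ← hsa, sv_tmulHom, hsa₁, hsa₂, tm_smul_left,
      tm_smul_right, smul_smul]
  set g₁ : Γ(X, U) := X.presheaf.map (homOfLE hUU₁).op f₁ with hg₁
  set g₂ : Γ(X, U) := X.presheaf.map (homOfLE hUU₂).op f₂ with hg₂
  have hK₁ : Ideal.span {a₁} = Ideal.span {g₁} :=
    hJ₁.symm.trans (ideal_res_span _ (U := ⟨U, hU⟩) (V := U₁) hUU₁ f₁ hI₁)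
  have hK₂ : Ideal.span {a₂} = Ideal.span {g₂} :=
    hJ₂.symm.trans (ideal_res_span _ (U := ⟨U, hU⟩) (V := U₂) hUU₂ f₂ hI₂)
  have hg₁reg : g₁ ∈ regSub X U := regSub_res _ hf₁
  have hg₂reg : g₂ ∈ regSub X U := regSub_res _ hf₂
  refine ⟨⟨U, hU⟩, hxU, g₁ * g₂, Submonoid.mul_mem _ hg₁reg hg₂reg, ?_, fun y => ?_⟩
  · rw [hJ, ha, ← Ideal.span_singleton_mul_span_singleton, hK₁, hK₂,
      Ideal.span_singleton_mul_span_singleton]
  · have h1 : (D₁ * D₂).1 y.1 = D₁.1 y.1 * D₂.1 y.1 := rfl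
    rw [h1, hG₁ ⟨y.1, hUU₁ y.2⟩, hG₂ ⟨y.1, hUU₂ y.2⟩, ← QuotientGroup.mk_mul]
    refine congrArg _ (Units.ext ?_)
    change algebraMap _ (KStalk X y.1) (X.presheaf.germ U₁.1 y.1 (hUU₁ y.2) f₁) *
      algebraMap _ (KStalk X y.1) (X.presheaf.germ U₂.1 y.1 (hUU₂ y.2) f₂) =
      algebraMap _ (KStalk X y.1) (X.presheaf.germ U y.1 y.2 (g₁ * g₂))
    rw [map_mul, map_mul, hg₁, hg₂, TopCat.Presheaf.germ_res_apply, TopCat.Presheaf.germ_res_apply]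

end Part1

end Groth.Agent.Lib.R2H1.ZeroSchemeMul
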