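import Mathlib
import Groth.Prelude
import Groth.Agent.Lib.Helper23SecTw10
import Groth.Agent.Lib.Helper23AssAffine
import Groth.Agent.Lib.Helper2Ass
import Groth.Agent.Lib.R2H3AmpleSV
import Groth.Agent.Lib.Helper2TensorInv
import Groth.Agent.S8890
import Groth.Agent.Lib.Helper2FibreCrit2
import Groth.Agent.S0002
import Groth.Agent.Lib.Helper27PnSections
import Groth.Agent.Lib.R2H2HHLin

/-!
# Vanishing of `H⁰(X, F ⊗ L^{-n})` for `n ≫ 0` (helper3, round 2)

Namespace `Groth.Agent.Lib.R2H3.NegTwist`.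

Part A: associated points (`isAssPoint_tensor_iff`, `finite_assPoints`).
Part B: sections vanishing on an open containing all associated points vanish (`eq_zero_of_res_eq_zero`),
  `mulSec`, `mulSec_app_injective`.
-/

set_option autoImplicit false
set_option linter.style.haveILetI false
set_option linter.unusedSectionVars false
universe u
open CategoryTheory CategoryTheory.Limits AlgebraicGeometry TopologicalSpace Opposite MonoidalCategory TensorProduct

namespace Groth.Agent.Lib.R2H3.NegTwist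

open Groth.Agent.Lib.Helper23.SecTw Groth.Agent.Lib.Helper23.GenLocus Groth.Agent.Lib.Helper6
  Groth.Agent.Lib.Helper23.AmpleIso Groth.Agent.Lib.Helper23.Extend
  Groth.Agent.Lib.Helper2.Ass Groth.Agent.Lib.Helper23.AssAffine

variable {X : Scheme.{u}}

section PartA

/-- tensoring with an invertible module does not change the associated points -/
theorem isAssPoint_tensor_iff [IsLocallyNoetherian X] (F P : X.Modules) [F.IsQuasicoherent]
    [(CohB1.tensorMod F P).IsQuasicoherent] (hP : PicF.IsInvertible P) (x : X) :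
    Curv2.IsAssPoint (CohB1.tensorMod F P) x ↔ Curv2.IsAssPoint F x := by
  obtain ⟨W, e, hxW, he⟩ := exists_gen P hP x
  obtain ⟨U, hU, hxU, hUW⟩ : ∃ U : X.Opens, IsAffineOpen U ∧ x ∈ U ∧ U ≤ W := by
    obtain ⟨U, hU, hxU, hle⟩ := Opens.isBasis_iff_nbhd.1 X.isBasis_affineOpens hxW
    exact ⟨U, hU, hxU, hle⟩
  haveI : IsNoetherianRing Γ(X, U) := IsLocallyNoetherian.component_noetherian ⟨U, hU⟩
  rw [isAssPoint_iff_mem_associatedPrimes hU _ x hxU, isAssPoint_iff_mem_associatedPrimes hU F x hxU]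
  let φ₀ : Γ(F, U) →ₗ[Γ(X, U)] Γ(CohB1.tensorMod F P, U) :=
    { toFun := fun t => tm F P U t (res P hUW e)
      map_add' := fun a b => tm_add_left F P U a b _
      map_smul' := fun r a => tm_smul_left F P U r a _ }
  let φ : Γ(F, U) ≃ₗ[Γ(X, U)] Γ(CohB1.tensorMod F P, U) :=
    LinearEquiv.ofBijective φ₀ (bijective_tm_of_isGen F P W e he U hUW)
  rw [LinearEquiv.AssociatedPrimes.eq φ]

/-- a coherent module on a Noetherian scheme has finitely many associated points -/
theorem finite_assPoints [IsNoetherian X] (F : X.Modules) (hF : Coh.IsCoh F) :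
    {x : X | Curv2.IsAssPoint F x}.Finite := by
  haveI : F.IsQuasicoherent := hF.1
  haveI : SheafOfModules.IsFiniteType (R := X.ringCatSheaf) F := hF.2
  have hloc : ∀ (U : X.Opens), IsAffineOpen U → {x : X | x ∈ U ∧ Curv2.IsAssPoint F x}.Finite := by
    intro U hU
    haveI : IsNoetherianRing Γ(X, U) := IsLocallyNoetherian.component_noetherian ⟨U, hU⟩
    haveI : Module.Finite Γ(X, U) Γ(F, U) := Groth.Agent.Lib.Helper23.FinType.finite_of_isFiniteType F hU
    have h1 : (associatedPrimes Γ(X, U) Γ(F, U)).Finite := associatedPrimes.finite _ _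
    have h2 : {p : PrimeSpectrum Γ(X, U) | p.asIdeal ∈ associatedPrimes Γ(X, U) Γ(F, U)}.Finite :=
      h1.preimage (fun p _ q _ h => PrimeSpectrum.ext h)
    refine (h2.image (fun p => hU.fromSpec p)).subset ?_
    rintro x ⟨hxU, hx⟩
    refine ⟨hU.primeIdealOf ⟨x, hxU⟩, ?_, hU.fromSpec_primeIdealOf ⟨x, hxU⟩⟩
    exact (isAssPoint_iff_mem_associatedPrimes hU F x hxU).1 hx
  choose V hV hxV using fun x : X => (show ∃ U : X.Opens, IsAffineOpen U ∧ x ∈ U from by
    obtain ⟨_, ⟨U, hU, rfl⟩, hxU, -⟩ :=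
      X.isBasis_affineOpens.exists_subset_of_mem_open (Set.mem_univ x) isOpen_univ
    exact ⟨U, hU, hxU⟩)
  obtain ⟨t, ht⟩ := isCompact_univ.elim_finite_subcover (fun x : X => ((V x : X.Opens) : Set X))
    (fun x => (V x).2) (fun x _ => Set.mem_iUnion.2 ⟨x, hxV x⟩)
  refine (Set.Finite.biUnion t.finite_toSet (fun y _ => hloc (V y) (hV y))).subset ?_
  intro x hx
  obtain ⟨y, hy, hxy⟩ := Set.mem_iUnion₂.1 (ht (Set.mem_univ x))
  exact Set.mem_iUnion₂.2 ⟨y, hy, hxy, hx⟩

end PartA

section PartB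

/-- a section of a quasi-coherent module vanishing on an open containing all associated points is zero -/
theorem eq_zero_of_res_eq_zero (G : X.Modules) [G.IsQuasicoherent] (U : X.Opens)
    (hU : ∀ x, Curv2.IsAssPoint G x → x ∈ U) (V : X.Opens) (t : Γ(G, V))
    (h : res G (inf_le_right : U ⊓ V ≤ V) t = 0) : t = 0 := by
  by_contra hne
  obtain ⟨y, hyV, hass, hgerm⟩ := exists_isWeakAssPoint_of_ne_zero_open G V t hne
  have hyU : y ∈ U := hU y ((isAssPoint_iff_isWeakAssPoint G y).2 hass)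
  apply hgerm
  have h1 := TopCat.Presheaf.germ_res_apply G.presheaf (homOfLE (inf_le_right : U ⊓ V ≤ V)) y ⟨hyU, hyV⟩ t
  rw [← h1]
  change G.presheaf.germ (U ⊓ V) y _ (res G inf_le_right t) = 0
  rw [h, map_zero]

/-- `F ⊗ -` on morphisms -/
noncomputable def tmapR (F : X.Modules) {A B : X.Modules} (χ : A ⟶ B) :
    CohB1.tensorMod F A ⟶ CohB1.tensorMod F B :=
  (DCoh.tensorBi.obj F).map (X := A) (Y := B) χ

/-- multiplication by a section `s` of `M`: `F ⟶ F ⊗ M` -/
noncomputable def mulSec (F : X.Modules) {M : X.Modules} (s : Coh.structureModule X ⟶ M) :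
    F ⟶ CohB1.tensorMod F M :=
  (SecTwist.unitorR F).inv ≫ tmapR F s

theorem tmapR_tm (F : X.Modules) {A B : X.Modules} (χ : A ⟶ B) (U : X.Opens)
    (t : Γ(F, U)) (x : Γ(A, U)) :
    (tmapR F χ).app U (tm F A U t x) = tm F B U t (χ.app U x) := by
  have h1 := (PresheafOfModules.sheafificationAdjunction (𝟙 X.ringCatSheaf.obj)).unit.naturality
    (CohB1.toPMod F ◁ (show CohB1.toPMod A ⟶ CohB1.toPMod B from χ.val))
  have h2 := congrArg (fun φ => (φ.app (op U)).hom (t ⊗ₜ x)) h1
  exact h2.symm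

set_option backward.isDefEq.respectTransparency.types false in
theorem unitorR_inv_app (F : X.Modules) (U : X.Opens) (a : Γ(F, U)) :
    (SecTwist.unitorR F).inv.app U a = tm F (Coh.structureModule X) U a (toS U 1) := by
  have h1 : (SecTwist.unitorR F).hom.app U (tm F (Coh.structureModule X) U a (toS U 1)) = a := by
    have := SecTwist.unitorR_tmul F U a (1 : X.ringCatSheaf.obj.obj (op U))
    rw [one_smul] at this
    exact this
  have h3 : ((SecTwist.unitorR F).hom ≫ (SecTwist.unitorR F).inv).app U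
      (tm F (Coh.structureModule X) U a (toS U 1)) = tm F (Coh.structureModule X) U a (toS U 1) := by
    rw [Iso.hom_inv_id]
    rfl
  have h2 : (SecTwist.unitorR F).inv.app U ((SecTwist.unitorR F).hom.app U
      (tm F (Coh.structureModule X) U a (toS U 1))) = tm F (Coh.structureModule X) U a (toS U 1) := h3
  rw [h1] at h2
  exact h2

theorem mulSec_app (F : X.Modules) {M : X.Modules} (s : Coh.structureModule X ⟶ M) (U : X.Opens)
    (a : Γ(F, U)) : (mulSec F s).app U a = tm F M U a (sv s U) := by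
  have h : (mulSec F s).app U a =
      (tmapR F s).app U ((SecTwist.unitorR F).inv.app U a) := rfl
  rw [h, unitorR_inv_app, tmapR_tm]
  rfl

theorem app_res {M N : X.Modules} (φ : M ⟶ N) {U V : X.Opens} (e : V ≤ U) (m : Γ(M, U)) :
    φ.app V (res M e m) = res N e (φ.app U m) :=
  congr($((Scheme.Modules.Hom.mapPresheaf φ).naturality (homOfLE e).op) m)

/-- multiplication by a section not vanishing at any associated point is injective on sections -/
theorem mulSec_app_injective (G : X.Modules) [G.IsQuasicoherent] {P : X.Modules}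
    (σ : Coh.structureModule X ⟶ P) (hU : ∀ x, Curv2.IsAssPoint G x → x ∈ CohB1.genLocus P σ)
    (V : X.Opens) : Function.Injective ((mulSec G σ).app V) := by
  have key : ∀ t : Γ(G, V), (mulSec G σ).app V t = 0 → t = 0 := by
    intro t ht
    apply eq_zero_of_res_eq_zero G _ hU V t
    have h1 : (mulSec G σ).app _ (res G (inf_le_right : CohB1.genLocus P σ ⊓ V ≤ V) t) = 0 := by
      rw [app_res, ht, res_zero]
    rw [mulSec_app, ← res_sv σ (inf_le_left : CohB1.genLocus P σ ⊓ V ≤ CohB1.genLocus P σ)] at h1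
    apply (bijective_tm_of_isGen G P _ _ (isGen_sv_genLocus P σ) _ inf_le_left).1
    change tm G P _ _ _ = tm G P _ 0 _
    rw [h1, tm_zero_left]
  intro a b hab
  have := key (a - b) (by rw [map_sub, hab, sub_self])
  exact sub_eq_zero.1 this

end PartB

section PartC

open Groth.Agent.S8890 Groth.Agent.Lib.Helper2.QCoh

/-- the `j`-th power of the maximal ideal times the stalk -/
noncomputable abbrev mpow (G : X.Modules) (x : X) (j : ℕ) :
    Submodule (X.presheaf.stalk x) (G.presheaf.stalk x) :=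
  (IsLocalRing.maximalIdeal (X.presheaf.stalk x)) ^ j • (⊤ : Submodule (X.presheaf.stalk x) (G.presheaf.stalk x))

/-- stalk maps preserve the `𝔪`-adic filtration -/
theorem ψ_mem_mpow {A B : X.Modules} (φ : A ⟶ B) (x : X) (j : ℕ) (g : A.presheaf.stalk x)
    (hg : g ∈ mpow A x j) : ψ φ x g ∈ mpow B x j := by
  have h1 : ψₗ φ x g ∈ (mpow A x j).map (ψₗ φ x) := Submodule.mem_map_of_mem hg
  rw [Submodule.map_smul''] at h1
  exact Submodule.smul_mono le_rfl le_top h1

/-- at a point outside `X_σ`, multiplication by `σ` has image in `𝔪 (G ⊗ P)_x` -/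
theorem ψ_mulSec_mem_one (G : X.Modules) {P : X.Modules} (hP : PicF.IsInvertible P)
    (σ : Coh.structureModule X ⟶ P) (x : X) (hx : x ∉ CohB1.genLocus P σ) (g : G.presheaf.stalk x) :
    ψ (mulSec G σ) x g ∈ mpow (CohB1.tensorMod G P) x 1 := by
  obtain ⟨W', hxW', g', rfl⟩ := G.presheaf.exists_germ_eq g
  obtain ⟨W, e, hxW, he⟩ := exists_gen P hP x
  have hVW : W' ⊓ W ≤ W := inf_le_right
  have hVW' : W' ⊓ W ≤ W' := inf_le_left
  have hxV : x ∈ W' ⊓ W := ⟨hxW', hxW⟩
  have heV : IsGen P (W' ⊓ W) (res P hVW e) := he.mono hVW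
  rw [← TopCat.Presheaf.germ_res_apply G.presheaf (homOfLE hVW') x hxV g', ψ_germ]
  change (CohB1.tensorMod G P).presheaf.germ _ x hxV ((mulSec G σ).app _ (res G hVW' g')) ∈ _
  rw [mulSec_app]
  have hc : sv σ (W' ⊓ W) = coef heV le_rfl (sv σ (W' ⊓ W)) • res P hVW e := sv_eq_coef_smul σ heV
  have hloc := genLocus_inf_eq_of_isGen P σ (W' ⊓ W) (res P hVW e) _ heV hc
  rw [hc, tm_smul_right, germ_smul, mpow, pow_one]
  refine Submodule.smul_mem_smul ?_ Submodule.mem_top
  rw [IsLocalRing.mem_maximalIdeal, mem_nonunits_iff, ← Scheme.mem_basicOpen, ← hloc]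
  exact fun h => hx h.1

/-- at a point outside `X_σ`, multiplication by `σ` raises the `𝔪`-adic filtration degree -/
theorem ψ_mulSec_mem (G : X.Modules) {P : X.Modules} (hP : PicF.IsInvertible P)
    (σ : Coh.structureModule X ⟶ P) (x : X) (hx : x ∉ CohB1.genLocus P σ) (j : ℕ)
    (g : G.presheaf.stalk x) (hg : g ∈ mpow G x j) :
    ψ (mulSec G σ) x g ∈ mpow (CohB1.tensorMod G P) x (j + 1) := by
  have h1 : ψₗ (mulSec G σ) x g ∈ (mpow G x j).map (ψₗ (mulSec G σ) x) := Submodule.mem_map_of_mem hg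
  rw [Submodule.map_smul''] at h1
  have h2 : (⊤ : Submodule (X.presheaf.stalk x) (G.presheaf.stalk x)).map (ψₗ (mulSec G σ) x) ≤
      mpow (CohB1.tensorMod G P) x 1 := by
    rintro _ ⟨y, -, rfl⟩
    exact ψ_mulSec_mem_one G hP σ x hx y
  have h3 := Submodule.smul_mono (le_refl (IsLocalRing.maximalIdeal (X.presheaf.stalk x) ^ j)) h2 h1
  rw [mpow, ← Submodule.mul_smul, ← pow_add] at h3
  exact h3

/-- Krull's intersection theorem for the stalks of a coherent module -/
theorem eq_zero_of_forall_mem_mpow [IsLocallyNoetherian X] (G : X.Modules) (hG : Coh.IsCoh G) (x : X)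
    (g : G.presheaf.stalk x) (hg : ∀ j, g ∈ mpow G x j) : g = 0 := by
  haveI : G.IsQuasicoherent := hG.1
  haveI : SheafOfModules.IsFiniteType (R := X.ringCatSheaf) G := hG.2
  haveI : Module.Finite (X.presheaf.stalk x) (G.presheaf.stalk x) :=
    Groth.Agent.Lib.Helper2.FibreCrit.finite_stalk G x
  have h := Ideal.iInf_pow_smul_eq_bot_of_isLocalRing (M := G.presheaf.stalk x)
    (IsLocalRing.maximalIdeal (X.presheaf.stalk x)) (Ideal.IsPrime.ne_top inferInstance)
  have h2 : g ∈ (⨅ i : ℕ, mpow G x i) := (Submodule.mem_iInf _).2 hg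
  rw [h] at h2
  exact (Submodule.mem_bot _).1 h2

end PartC

section PartD

/-- the open set where a global section vanishes -/
theorem exists_open_res_eq_zero (G : X.Modules) (U : X.Opens) (t : Γ(G, ⊤))
    (ht : ∀ x, x ∉ U → G.presheaf.germ ⊤ x trivial t = 0) :
    ∃ V₀ : X.Opens, U ⊔ V₀ = ⊤ ∧ res G (le_top : V₀ ≤ ⊤) t = 0 := by
  have hopen : IsOpen {x : X | G.presheaf.germ ⊤ x trivial t = 0} := by
    rw [isOpen_iff_forall_mem_open]
    intro x hx
    have h0 : G.presheaf.germ ⊤ x trivial t = G.presheaf.germ ⊤ x trivial 0 := by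
      rw [show G.presheaf.germ ⊤ x trivial t = 0 from hx, map_zero]
    obtain ⟨W, hxW, i₁, i₂, hW⟩ := G.presheaf.germ_eq x (show x ∈ (⊤ : X.Opens) from trivial)
      (show x ∈ (⊤ : X.Opens) from trivial) t 0 h0
    rw [map_zero] at hW
    refine ⟨W.1, fun y hy => ?_, W.2, hxW⟩
    have h1 := TopCat.Presheaf.germ_res_apply G.presheaf i₁ y hy t
    change G.presheaf.germ ⊤ y trivial t = 0
    rw [← h1, hW, map_zero]
  refine ⟨⟨_, hopen⟩, ?_, ?_⟩
  · rw [eq_top_iff]
    intro x _
    by_cases hx : x ∈ U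
    · exact Or.inl hx
    · exact Or.inr (ht x hx)
  · apply TopCat.Presheaf.section_ext (⟨G.presheaf, G.isSheaf⟩ : TopCat.Sheaf _ _)
    intro y hy
    rw [map_zero]
    have h1 := TopCat.Presheaf.germ_res_apply G.presheaf
      (homOfLE (le_top : (⟨_, hopen⟩ : X.Opens) ≤ ⊤)) y hy t
    exact h1.trans hy

/-- multiples of the restriction of a global section supported in `U` by functions on `U` extend to
global sections -/
theorem exists_glue_smul (G : X.Modules) (U : X.Opens) (t : Γ(G, ⊤))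
    (ht : ∀ x, x ∉ U → G.presheaf.germ ⊤ x trivial t = 0) (b : Γ(X, U)) :
    ∃ s : Γ(G, ⊤), res G (le_top : U ≤ ⊤) s = b • res G (le_top : U ≤ ⊤) t := by
  obtain ⟨V₀, hcov, hV₀⟩ := exists_open_res_eq_zero G U t ht
  obtain ⟨s, hs, -⟩ := exists_res_eq₂ G (le_top : U ≤ ⊤) (le_top : V₀ ≤ ⊤) hcov.ge
    (inf_le_left : U ⊓ V₀ ≤ U) (inf_le_right : U ⊓ V₀ ≤ V₀) le_rfl
    (b • res G (le_top : U ≤ ⊤) t) 0 (by
      rw [res_smul, res_res, res_zero]
      have : res G (le_top : U ⊓ V₀ ≤ ⊤) t = res G (inf_le_right : U ⊓ V₀ ≤ V₀) (res G le_top t) :=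
        (res_res G _ _ t).symm
      rw [this, hV₀, res_zero, smul_zero])
  exact ⟨s, hs⟩

end PartD

section PartE

open Submodule in
/-- an element spanning a finite-dimensional submodule is supported at a maximal associated prime -/
theorem exists_isMaximal_isAssociatedPrime {k B N : Type*} [Field k] [CommRing B] [Algebra k B]
    [IsNoetherianRing B] [AddCommGroup N] [Module B N] [Module k N] [IsScalarTower k B N]
    (t : N) (ht : t ≠ 0) (V : Submodule k N) [Module.Finite k V] (hV : ∀ b : B, b • t ∈ V) :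
    ∃ q : Ideal B, IsAssociatedPrime q N ∧ q.IsMaximal ∧ (⊥ : Submodule B N).colon {t} ≤ q := by
  obtain ⟨q, hq, hle⟩ := exists_le_isAssociatedPrime_of_isNoetherianRing B t ht
  refine ⟨q, hq, ?_, hle⟩
  haveI : q.IsPrime := hq.isPrime
  let f : B →ₗ[k] V :=
    { toFun := fun b => ⟨b • t, hV b⟩
      map_add' := fun a b => Subtype.ext (add_smul a b t)
      map_smul' := fun r b => Subtype.ext (smul_assoc r b t) }
  let g : B →ₗ[k] (B ⧸ q) := (Ideal.Quotient.mkₐ k q).toLinearMap
  have hker : LinearMap.ker f ≤ LinearMap.ker g := by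
    intro b hb
    have h1 : b • t = 0 := congrArg Subtype.val (LinearMap.mem_ker.1 hb)
    have h2 : b ∈ q := hle (by rw [mem_colon_singleton, mem_bot]; exact h1)
    rw [LinearMap.mem_ker]
    exact Ideal.Quotient.eq_zero_iff_mem.2 h2
  haveI : Module.Finite k (LinearMap.range f) := inferInstance
  haveI : Module.Finite k (B ⧸ LinearMap.ker f) := Module.Finite.equiv (LinearMap.quotKerEquivRange f).symm
  have hsurj : Function.Surjective ((LinearMap.ker f).liftQ g hker) := by
    intro y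
    obtain ⟨b, rfl⟩ := Ideal.Quotient.mk_surjective y
    exact ⟨Submodule.Quotient.mk b, rfl⟩
  haveI : Module.Finite k (B ⧸ q) := Module.Finite.of_surjective _ hsurj
  haveI : Algebra.IsIntegral k (B ⧸ q) := Algebra.IsIntegral.of_finite k (B ⧸ q)
  exact Ideal.Quotient.maximal_of_isField q (isField_of_isIntegral_of_isField' (Field.toIsField k))

/-- a non-increasing sequence along steps of size `e` is eventually `e`-periodic -/
theorem exists_eventually_const (e : ℕ) (he : 0 < e) (a : ℕ → ℕ) (h : ∀ n, a (n + e) ≤ a n) :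
    ∃ n₁, ∀ n, n₁ ≤ n → a (n + e) = a n := by
  -- for each residue class
  have key : ∀ r : ℕ, ∃ m₀, ∀ m, m₀ ≤ m → a (r + e * (m + 1)) = a (r + e * m) := by
    intro r
    let b : ℕ → ℕ := fun m => a (r + e * m)
    have hb : Antitone b := antitone_nat_of_succ_le (fun m => by
      change a (r + e * (m + 1)) ≤ a (r + e * m)
      have := h (r + e * m)
      rwa [show r + e * m + e = r + e * (m + 1) by ring] at this)
    -- the minimum value is attained
    obtain ⟨m₀, hm₀⟩ : ∃ m₀, ∀ m, b m₀ ≤ b m := by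
      have hne : (Set.range b).Nonempty := ⟨b 0, 0, rfl⟩
      obtain ⟨m₀, hm₀⟩ := Nat.sInf_mem hne
      exact ⟨m₀, fun m => hm₀ ▸ Nat.sInf_le ⟨m, rfl⟩⟩
    refine ⟨m₀, fun m hm => ?_⟩
    change b (m + 1) = b m
    have h1 : b (m + 1) ≤ b m₀ := hb (by omega)
    have h2 : b m ≤ b m₀ := hb hm
    exact le_antisymm (hb (Nat.le_succ m)) (h2.trans ((hm₀ (m + 1))))
  choose m₀ hm₀ using key
  refine ⟨e * ((Finset.range e).sup m₀), fun n hn => ?_⟩
  have hr : n % e < e := Nat.mod_lt _ he
  have hq : (Finset.range e).sup m₀ ≤ n / e := by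
    rw [Nat.le_div_iff_mul_le he, mul_comm]; exact hn
  have hle : m₀ (n % e) ≤ n / e := (Finset.le_sup (f := m₀) (Finset.mem_range.2 hr)).trans hq
  have h1 := hm₀ (n % e) (n / e) hle
  have e1 : n % e + e * (n / e) = n := Nat.mod_add_div n e
  have e2 : n % e + e * (n / e + 1) = n + e := by rw [mul_add, mul_one, ← add_assoc, e1]
  rwa [e1, e2] at h1

end PartE

section PartF

open Groth.Agent.Lib.R2H2.HHLin Groth.Agent.Lib.Helper27PnSections

/-- `H⁰(X, G) ≃ Γ(X, G)` -/
noncomputable def h0Equiv (G : X.Modules) : Coh.HH X G 0 ≃+ Γ(G, ⊤) := hh0Equiv X G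

theorem hh0_nat {G G' : X.Modules} (φ : G ⟶ G') (x : Coh.HH X G 0) :
    h0Equiv G' (HmapL φ 0 x) = φ.app ⊤ (h0Equiv G x) := by
  have h := (Sheaf.H.equiv₀_naturality Limits.isTerminalTop (abMap φ) x).symm
  exact h

theorem h0Equiv_smul (G : X.Modules) (r : Coh.Γtop X) (ξ : Coh.HH X G 0) :
    h0Equiv G (r • ξ) = (show Γ(X, ⊤) from r) • h0Equiv G ξ := by
  have h := Groth.Agent.Lib.Helper27PnSections.hh0Equiv_smul X G r ξ
  rw [Coh.smulAb_app, resTop_top] at h
  exact h

variable (k : Type u) [Field k] [X.Over (Spec (CommRingCat.of k))]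

theorem HmapA_injective {G G' : X.Modules} (φ : G ⟶ G') (h : Function.Injective (φ.app ⊤)) :
    Function.Injective (HmapA k φ 0) := by
  intro x y hxy
  apply (h0Equiv G).injective
  apply h
  rw [← hh0_nat, ← hh0_nat]
  exact congrArg (h0Equiv G') hxy

variable [IsProper (X ↘ Spec (CommRingCat.of k))]

/-- the dimension of `H⁰` -/
noncomputable def h0 (G : X.Modules) : ℕ := Module.finrank k (Coh.HH X G 0)

theorem h0_le {G G' : X.Modules} (hG' : Coh.IsCoh G') (φ : G ⟶ G')
    (h : Function.Injective (φ.app ⊤)) : h0 k G ≤ h0 k G' := by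
  haveI : Module.Finite k (Coh.HH X G' 0) := Groth.Agent.S0002.result k X G' hG' 0
  exact LinearMap.finrank_le_finrank_of_injective (HmapA_injective k φ h)

theorem surjective_app_of_h0_eq {G G' : X.Modules} (hG : Coh.IsCoh G) (hG' : Coh.IsCoh G') (φ : G ⟶ G')
    (h : Function.Injective (φ.app ⊤)) (heq : h0 k G = h0 k G') : Function.Surjective (φ.app ⊤) := by
  haveI : Module.Finite k (Coh.HH X G 0) := Groth.Agent.S0002.result k X G hG 0
  haveI : Module.Finite k (Coh.HH X G' 0) := Groth.Agent.S0002.result k X G' hG' 0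
  have hs : Function.Surjective (HmapA k φ 0) :=
    (LinearMap.injective_iff_surjective_of_finrank_eq_finrank heq).1 (HmapA_injective k φ h)
  intro y
  obtain ⟨ξ, hξ⟩ := hs ((h0Equiv G').symm y)
  refine ⟨h0Equiv G ξ, ?_⟩
  rw [← hh0_nat]
  have : HmapL φ 0 ξ = (h0Equiv G').symm y := hξ
  rw [this]
  exact (h0Equiv G').apply_symm_apply y

end PartF

section PartG

open Groth.Agent.Lib.R2H2.HHLin Groth.Agent.Lib.Helper27PnSections Groth.Agent.S8890
  Groth.Agent.Lib.Helper2.QCoh

variable (k : Type u) [Field k] [X.Over (Spec (CommRingCat.of k))]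
  [IsProper (X ↘ Spec (CommRingCat.of k))]

/-- the ring map `k → Γ(X, U)` -/
noncomputable def kMap (U : X.Opens) : k →+* Γ(X, U) :=
  (X.presheaf.map (homOfLE (le_top : U ≤ ⊤)).op).hom.comp
    (Coh.toGlobal (X ↘ Spec (CommRingCat.of k)))

/-- restriction of `H⁰` classes to an open, as a linear map over `k` -/
noncomputable def resLin (G : X.Modules) (U : X.Opens) :
    letI : Module k Γ(G, U) := Module.compHom _ (kMap k U)
    Coh.HH X G 0 →ₗ[k] Γ(G, U) :=
  letI : Module k Γ(G, U) := Module.compHom _ (kMap k U)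
  { toFun := fun ξ => res G (le_top : U ≤ ⊤) (h0Equiv G ξ)
    map_add' := fun a b => by rw [map_add]; exact map_add _ _ _
    map_smul' := fun r ξ => by
      have h1 : h0Equiv G (r • ξ) =
          h0Equiv G ((Coh.toGlobal (X ↘ Spec (CommRingCat.of k)) r) • ξ) := rfl
      rw [h1, h0Equiv_smul]
      exact res_smul G (le_top : U ≤ ⊤) _ _ }

theorem resLin_apply (G : X.Modules) (U : X.Opens) (ξ : Coh.HH X G 0) :
    resLin k G U ξ = res G (le_top : U ≤ ⊤) (h0Equiv G ξ) := rfl

end PartG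

section PartH

open Groth.Agent.Lib.R2H2.HHLin Groth.Agent.Lib.Helper27PnSections Groth.Agent.S8890
  Groth.Agent.Lib.Helper2.QCoh

/-- **Core**: modules `G n` with `G (n + e) ⊗ P ≅ G n`, all associated points in the affine `X_σ` and none closed:
global sections vanish for large `n`. -/
theorem core (k : Type u) [Field k] [X.Over (Spec (CommRingCat.of k))]
    [IsProper (X ↘ Spec (CommRingCat.of k))] [IsNoetherian X] {P : X.Modules} (hP : PicF.IsInvertible P)
    (σ : Coh.structureModule X ⟶ P) (hU : IsAffineOpen (CohB1.genLocus P σ))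
    (e : ℕ) (he : 0 < e) (G : ℕ → X.Modules) (hG : ∀ n, Coh.IsCoh (G n))
    (φ : ∀ n, CohB1.tensorMod (G (n + e)) P ≅ G n)
    (hass : ∀ n x, Curv2.IsAssPoint (G n) x → x ∈ CohB1.genLocus P σ)
    (hncl : ∀ n x, IsClosed ({x} : Set X) → ¬ Curv2.IsAssPoint (G n) x) :
    ∃ n₁ : ℕ, ∀ n, n₁ ≤ n → ∀ t : Γ(G n, ⊤), t = 0 := by
  haveI : ∀ n, (G n).IsQuasicoherent := fun n => (hG n).1
  let μ : ∀ n, G (n + e) ⟶ G n := fun n => mulSec (G (n + e)) σ ≫ (φ n).hom
  have hμapp : ∀ n (t : Γ(G (n + e), ⊤)),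
      (μ n).app ⊤ t = (φ n).hom.app ⊤ ((mulSec (G (n + e)) σ).app ⊤ t) := fun n t => rfl
  have hφbij : ∀ n, Function.Bijective ((φ n).hom.app ⊤) := fun n => by
    haveI : IsIso ((φ n).hom.app ⊤) := Scheme.Modules.Hom.isIso_iff_isIso_app.1 inferInstance _
    exact ConcreteCategory.bijective_of_isIso _
  have hμinj : ∀ n, Function.Injective ((μ n).app ⊤) := by
    intro n a b hab
    rw [hμapp, hμapp] at hab
    exact mulSec_app_injective (G (n + e)) σ (hass (n + e)) ⊤ ((hφbij n).1 hab)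
  have hle : ∀ n, h0 k (G (n + e)) ≤ h0 k (G n) := fun n => h0_le k (hG n) (μ n) (hμinj n)
  obtain ⟨n₁, hn₁⟩ := exists_eventually_const e he (fun n => h0 k (G n)) hle
  have hsurj : ∀ n, n₁ ≤ n → Function.Surjective ((μ n).app ⊤) := fun n hn =>
    surjective_app_of_h0_eq k (hG (n + e)) (hG n) (μ n) (hμinj n) (hn₁ n hn)
  -- divisibility of germs outside `X_σ`
  have hdiv : ∀ j n, n₁ ≤ n → ∀ (t : Γ(G n, ⊤)) (x : X), x ∉ CohB1.genLocus P σ →
      (G n).presheaf.germ ⊤ x trivial t ∈ mpow (G n) x j := by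
    intro j
    induction j with
    | zero =>
      intro n _ t x _
      rw [mpow, pow_zero, Ideal.one_eq_top, Submodule.top_smul]
      exact Submodule.mem_top
    | succ j ih =>
      intro n hn t x hx
      obtain ⟨t', rfl⟩ := hsurj n hn t
      have h1 := ih (n + e) (by omega) t' x hx
      have h2 := ψ_mulSec_mem (G (n + e)) hP σ x hx j _ h1
      have h3 := ψ_mem_mpow (φ n).hom x (j + 1) _ h2
      have e1 := ψ_germ (mulSec (G (n + e)) σ) x (show x ∈ (⊤ : X.Opens) from trivial) t'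
      have e2 := ψ_germ (φ n).hom x (show x ∈ (⊤ : X.Opens) from trivial)
        ((mulSec (G (n + e)) σ).app ⊤ t')
      rw [e1, e2] at h3
      exact h3
  refine ⟨n₁, fun n hn t => ?_⟩
  have hgerm : ∀ x, x ∉ CohB1.genLocus P σ → (G n).presheaf.germ ⊤ x trivial t = 0 := fun x hx =>
    eq_zero_of_forall_mem_mpow (G n) (hG n) x _ (fun j => hdiv j n hn t x hx)
  by_contra hne
  obtain ⟨V₀, hcov, hV₀⟩ := exists_open_res_eq_zero (G n) (CohB1.genLocus P σ) t hgerm
  obtain ⟨U, hUdef⟩ : ∃ U : X.Opens, U = CohB1.genLocus P σ := ⟨_, rfl⟩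
  rw [← hUdef] at hU hgerm hcov
  have hassU : ∀ x, Curv2.IsAssPoint (G n) x → x ∈ U := fun x hx => hUdef ▸ hass n x hx
  haveI : IsNoetherianRing Γ(X, U) := IsLocallyNoetherian.component_noetherian ⟨U, hU⟩
  have hresne : res (G n) (le_top : U ≤ ⊤) t ≠ 0 := by
    intro h0
    apply hne
    apply eq_zero_of_res_eq_zero (G n) U hassU ⊤ t
    have := congrArg (res (G n) (inf_le_left : U ⊓ ⊤ ≤ U)) h0
    rw [res_res, res_zero] at this
    exact this
  -- the algebra
  letI algB : Algebra k Γ(X, U) := (kMap k U).toAlgebra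
  letI modN : Module k Γ(G n, U) := Module.compHom _ (kMap k U)
  haveI : IsScalarTower k Γ(X, U) Γ(G n, U) := IsScalarTower.of_algebraMap_smul (fun r x => rfl)
  haveI : Module.Finite k (Coh.HH X (G n) 0) := Groth.Agent.S0002.result k X (G n) (hG n) 0
  haveI : Module.Finite k (LinearMap.range (resLin k (G n) U)) := Module.Finite.range _
  obtain ⟨q, hqass, hqmax, hann⟩ := exists_isMaximal_isAssociatedPrime (k := k) (B := Γ(X, U))
    (res (G n) (le_top : U ≤ ⊤) t) hresne (LinearMap.range (resLin k (G n) U)) (fun b => by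
      obtain ⟨s, hs⟩ := exists_glue_smul (G n) U t hgerm b
      refine ⟨(h0Equiv (G n)).symm s, ?_⟩
      rw [resLin_apply, AddEquiv.apply_symm_apply, hs])
  haveI := hqmax.isPrime
  let Q : PrimeSpectrum Γ(X, U) := ⟨q, hqmax.isPrime⟩
  obtain ⟨z, hz⟩ : ∃ z : X, z = hU.fromSpec Q := ⟨_, rfl⟩
  have hzU : z ∈ U := hz ▸ fromSpec_mem hU Q
  have hprime : hU.primeIdealOf ⟨z, hzU⟩ = Q := by
    subst hz
    exact primeIdealOf_fromSpec hU Q
  have hzass : Curv2.IsAssPoint (G n) z := by
    rw [isAssPoint_iff_mem_associatedPrimes hU (G n) z hzU, hprime]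
    exact hqass
  have hgz : (G n).presheaf.germ U z hzU (res (G n) (le_top : U ≤ ⊤) t) ≠ 0 := by
    intro h0
    obtain ⟨s, hzs, hs⟩ := exists_smul_eq_zero_of_germ_eq_zero hU (G n) z hzU _ h0
    rw [Groth.Agent.Lib.Helper2.mem_basicOpen_iff_notMem_primeIdealOf hU z hzU, hprime] at hzs
    exact hzs (hann (by rw [Submodule.mem_colon_singleton, Submodule.mem_bot]; exact hs))
  have hgz' : (G n).presheaf.germ ⊤ z trivial t ≠ 0 := by
    rw [← TopCat.Presheaf.germ_res_apply (G n).presheaf (homOfLE (le_top : U ≤ ⊤)) z hzU t]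
    exact hgz
  have hzcl : IsClosed ({z} : Set X) := by
    rw [← closure_subset_iff_isClosed]
    intro y hy
    have hsp : z ⤳ y := specializes_iff_mem_closure.2 hy
    have hyU : y ∈ U := by
      by_contra hyU
      have hyV : y ∈ V₀ := by
        have : y ∈ U ⊔ V₀ := hcov ▸ (trivial : y ∈ (⊤ : X.Opens))
        rcases this with h | h
        · exact absurd h hyU
        · exact h
      have hzV : z ∈ V₀ := hsp.mem_open V₀.2 hyV
      apply hgz'
      rw [← TopCat.Presheaf.germ_res_apply (G n).presheaf (homOfLE (le_top : V₀ ≤ ⊤)) z hzV t]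
      change (G n).presheaf.germ V₀ z hzV (res (G n) le_top t) = 0
      rw [hV₀, map_zero]
    have hle := primeIdealOf_le_of_specializes hU y z hyU hzU hsp
    rw [hprime] at hle
    have heq : q = (hU.primeIdealOf ⟨y, hyU⟩).asIdeal :=
      hqmax.eq_of_le (hU.primeIdealOf ⟨y, hyU⟩).isPrime.ne_top hle
    have h1 : hU.primeIdealOf ⟨y, hyU⟩ = Q := PrimeSpectrum.ext heq.symm
    have h2 := hU.fromSpec_primeIdealOf ⟨y, hyU⟩
    rw [h1, ← hz] at h2
    exact Set.mem_singleton_iff.2 h2.symm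
  exact hncl n z hzcl hzass

end PartH

section PartI

open Groth.Agent.Lib.R2H2.HHLin Groth.Agent.Lib.Helper27PnSections

/-- symmetry of the tensor product of `O_X`-modules -/
noncomputable def braidMod (M N : X.Modules) : CohB1.tensorMod M N ≅ CohB1.tensorMod N M :=
  (CohB1.sheafifyMod X).mapIso
    (show (CohB1.tensorPre M N : X.PresheafOfModules) ≅ CohB1.tensorPre N M from
      β_ (CohB1.toPMod M) (CohB1.toPMod N))

/-- an inverse of an invertible module is invertible -/
theorem isInvertible_of_isInverseOf (L M : X.Modules) (hM : ClSub.IsInverseOf L M) : PicF.IsInvertible M := by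
  obtain ⟨e₀⟩ := hM
  exact Groth.Agent.Lib.Helper2.TensorInv.isInvertible_of_tensor_iso M L (braidMod M L ≪≫ e₀)

/-- `(F ⊗ M^(n+e)) ⊗ L^e ≅ F ⊗ M^n` when `M` is an inverse of `L` -/
theorem nonempty_step_iso (F L M : X.Modules) (hLi : PicF.IsInvertible L) (hM : ClSub.IsInverseOf L M)
    (n e : ℕ) :
    Nonempty (CohB1.tensorMod (CohB1.tensorMod F (CohB1.tensorPow M (n + e))) (CohB1.tensorPow L e) ≅
      CohB1.tensorMod F (CohB1.tensorPow M n)) := by
  have hMi := isInvertible_of_isInverseOf L M hM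
  obtain ⟨e₀⟩ := hM
  obtain ⟨a⟩ := Groth.Agent.Lib.R2H3.AmpleSV.nonempty_tensor_tensorPow_add_iso F M n e (n + e) rfl
  obtain ⟨b⟩ := nonempty_tensorPow_tensorMod_iso M L hMi hLi e
  let c : CohB1.tensorPow (CohB1.tensorMod M L) e ≅ Coh.structureModule X :=
    tensorPowIso (braidMod M L ≪≫ e₀) e ≪≫ Groth.Agent.Lib.Helper23.TensorUnit.tensorPowUnitIso e
  exact ⟨tensorModIso a.symm (Iso.refl _) ≪≫ Groth.Agent.Lib.Helper23.LocGen.tensorAssoc _ _ _ ≪≫
    tensorModIso (Iso.refl _) (b ≪≫ c) ≪≫ SecTwist.unitorR _⟩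

/-- **`H⁰(X, F ⊗ L^{-n}) = 0` for `n ≫ 0`** when `F` is coherent without closed associated points on a
proper scheme over a field and `L` is ample (`M` an inverse of `L`). -/
theorem main (k : Type u) [Field k] (X : Scheme.{u}) [X.Over (Spec (CommRingCat.of k))]
    [IsProper (X ↘ (Spec (CommRingCat.of k)))]
    (L : X.Modules) (hL : CohB1.IsAmple L) (M : X.Modules) (hM : ClSub.IsInverseOf L M)
    (F : X.Modules) (hF : Coh.IsCoh F)
    (hass : ∀ x : X, IsClosed ({x} : Set X) → ¬ Curv2.IsAssPoint F x) :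
    ∃ n₀ : ℕ, ∀ n : ℕ, n₀ ≤ n →
      Subsingleton (Coh.HH X (CohB1.tensorMod F (CohB1.tensorPow M n)) 0) := by
  have hLi := hL.1
  haveI : CompactSpace X := hL.2.1
  haveI : IsLocallyNoetherian X := LocallyOfFiniteType.isLocallyNoetherian (X ↘ Spec (CommRingCat.of k))
  haveI : IsNoetherian X := {}
  have hMi := isInvertible_of_isInverseOf L M hM
  haveI : F.IsQuasicoherent := hF.1
  obtain ⟨d, σ, hAσ, -, haff⟩ := exists_affine_genLocus_of_finite L hL _ (finite_assPoints F hF) ⊤
    (fun _ _ => trivial)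
  have hP := isInvertible_tensorPow hLi (d + 1)
  have hG : ∀ n, Coh.IsCoh (CohB1.tensorMod F (CohB1.tensorPow M n)) := fun n =>
    Groth.Agent.Lib.R2H3.AmpleSV.isCoh_tensorMod_invertible F _ hF (isInvertible_tensorPow hMi n)
  have hassG : ∀ n x, Curv2.IsAssPoint (CohB1.tensorMod F (CohB1.tensorPow M n)) x ↔ Curv2.IsAssPoint F x := by
    intro n x
    haveI : (CohB1.tensorMod F (CohB1.tensorPow M n)).IsQuasicoherent := (hG n).1
    exact isAssPoint_tensor_iff F _ (isInvertible_tensorPow hMi n) x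
  have hφ := fun n => nonempty_step_iso F L M hLi hM n (d + 1)
  obtain ⟨n₁, hn₁⟩ := core k hP σ haff (d + 1) (Nat.succ_pos d)
    (fun n => CohB1.tensorMod F (CohB1.tensorPow M n)) hG (fun n => (hφ n).some)
    (fun n x hx => hAσ ((hassG n x).1 hx)) (fun n x hcl hx => hass x hcl ((hassG n x).1 hx))
  refine ⟨n₁, fun n hn => ⟨fun a b => ?_⟩⟩
  apply (h0Equiv _).injective
  rw [hn₁ n hn (h0Equiv _ a), hn₁ n hn (h0Equiv _ b)]

end PartI

end Groth.Agent.Lib.R2H3.NegTwist
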