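import Mathlib
import Groth.Prelude
import Groth.Agent.Lib.R2H4Quo
import Groth.Agent.Lib.R2H3NegTwist
import Groth.Agent.Lib.R2H1ZeroSchemeMul
import Groth.Agent.Lib.Helper23FinTypeLocal

set_option autoImplicit false
set_option linter.style.haveILetI false
set_option linter.unusedSectionVars false
universe u
open CategoryTheory CategoryTheory.Limits AlgebraicGeometry TopologicalSpace Opposite MonoidalCategory

noncomputable section

namespace Groth.Agent.Lib.R2H4RegSeq

open Groth.Agent.Lib.R2H4SerreSupp Groth.Agent.Lib.R2H4K0DevGeom Groth.Agent.Lib.R2H2.NilFilt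
  Groth.Agent.Lib.R2H4Quo Groth.Agent.Lib.Helper23.SecTw Groth.Agent.Lib.R2H3.NegTwist
  Groth.Agent.Lib.Helper23.GenLocus Groth.Agent.Lib.Helper6

variable {X : Scheme.{u}}

section TmapL

/-- `f ⊗ L` -/
def tmapL {A B : X.Modules} (f : A ⟶ B) (L : X.Modules) :
    CohB1.tensorMod A L ⟶ CohB1.tensorMod B L :=
  (DCoh.tensorBi.map f).app L

theorem tmapL_tm {A B : X.Modules} (f : A ⟶ B) (L : X.Modules) (U : X.Opens)
    (a : Γ(A, U)) (x : Γ(L, U)) :
    (tmapL f L).app U (tm A L U a x) = tm B L U (f.app U a) x := by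
  have h1 := (PresheafOfModules.sheafificationAdjunction (𝟙 X.ringCatSheaf.obj)).unit.naturality
    ((show CohB1.toPMod A ⟶ CohB1.toPMod B from f.val) ▷ CohB1.toPMod L)
  have h2 := congrArg (fun φ => (φ.app (op U)).hom (a ⊗ₜ x)) h1
  exact h2.symm

end TmapL

section Basis

/-- affine opens on which `L` has a generator -/
def genB (L : X.Modules) : Set X.Opens :=
  {V | IsAffineOpen V ∧ ∃ e : Γ(L, V), IsGen L V e}

theorem isBasis_genB (L : X.Modules) (hL : PicF.IsInvertible L) : Opens.IsBasis (genB L) := by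
  rw [Opens.isBasis_iff_nbhd]
  intro U x hxU
  obtain ⟨W, e, hxW, hgen⟩ := exists_gen L hL x
  obtain ⟨V, hV, hxV, hle⟩ := Opens.isBasis_iff_nbhd.1 X.isBasis_affineOpens
    (show x ∈ U ⊓ W from ⟨hxU, hxW⟩)
  exact ⟨V, ⟨hV, res L (hle.trans inf_le_right) e, hgen.mono _⟩, hxV, hle.trans inf_le_left⟩

theorem isOpenCover_genB (L : X.Modules) (hL : PicF.IsInvertible L) :
    IsOpenCover (fun V : genB L => V.1) := by
  refine IsOpenCover.mk (eq_top_iff.2 fun x _ => ?_)
  obtain ⟨V, hV, hxV, -⟩ := Opens.isBasis_iff_nbhd.1 (isBasis_genB L hL)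
    (show x ∈ (⊤ : X.Opens) from trivial)
  exact Opens.mem_iSup.2 ⟨⟨V, hV⟩, hxV⟩

theorem tm_surj {M L : X.Modules} {V : X.Opens} (e : Γ(L, V)) (hgen : IsGen L V e)
    (y : Γ(CohB1.tensorMod M L, V)) : ∃ t : Γ(M, V), tm M L V t e = y := by
  obtain ⟨t, ht⟩ := (bijective_tm_of_isGen M L V e hgen V le_rfl).2 y
  refine ⟨t, ?_⟩
  rw [res_self] at ht
  exact ht

theorem tm_inj {M L : X.Modules} {V : X.Opens} (e : Γ(L, V)) (hgen : IsGen L V e)
    (t t' : Γ(M, V)) (h : tm M L V t e = tm M L V t' e) : t = t' := by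
  apply (bijective_tm_of_isGen M L V e hgen V le_rfl).1
  simp only [res_self]
  exact h

end Basis

end Groth.Agent.Lib.R2H4RegSeq
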