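import Mathlib
import Groth.Prelude
import Groth.Agent.Lib.R2H4RegSeqA

set_option autoImplicit false
set_option linter.style.haveILetI false
set_option linter.unusedSectionVars false
universe u
open CategoryTheory CategoryTheory.Limits AlgebraicGeometry TopologicalSpace Opposite MonoidalCategory

noncomputable section

namespace Groth.Agent.Lib.R2H4RegSeq

open Groth.Agent.Lib.R2H4SerreSupp Groth.Agent.Lib.R2H4K0DevGeom Groth.Agent.Lib.R2H2.NilFilt
  Groth.Agent.Lib.R2H4Quo Groth.Agent.Lib.Helper23.SecTw Groth.Agent.Lib.R2H3.NegTwist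
  Groth.Agent.Lib.Helper23.GenLocus Groth.Agent.Lib.Helper6

variable {X : Scheme.{u}}

section RegSec

variable [IsNoetherian X] (L : X.Modules) (hL : PicF.IsInvertible L)
  (s : Coh.structureModule X ⟶ L)

/-- elements of `(a) • M` are multiples of `a` -/
theorem exists_smul_of_mem_span_smul {R M : Type*} [CommRing R] [AddCommGroup M] [Module R M]
    (a : R) (y : M) (hy : y ∈ Ideal.span {a} • (⊤ : Submodule R M)) : ∃ t : M, y = a • t := by
  refine Submodule.smul_induction_on hy (fun r hr y _ => ?_) (fun y z hy hz => ?_)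
  · obtain ⟨c, rfl⟩ := Ideal.mem_span_singleton'.1 hr
    exact ⟨c • y, by rw [smul_smul, mul_comm]⟩
  · obtain ⟨t, rfl⟩ := hy
    obtain ⟨t', rfl⟩ := hz
    exact ⟨t + t', (smul_add _ _ _).symm⟩

include hL in
/-- `G ⟶ G ⊗ L ⟶ (G / Z(s) G) ⊗ L` vanishes -/
theorem mulSec_comp_tmapL (G : X.Modules) :
    mulSec G s ≫ tmapL (quoπ (PicF2.zeroScheme L s) G) L = 0 := by
  refine Groth.Agent.Helper18Strict.hom_eq_zero_of_basis _ (genB L) (isBasis_genB L hL) ?_
  rintro V ⟨hV, e, hgen⟩ g
  obtain ⟨a, ha, hJ⟩ := Groth.Agent.Lib.R2H1.ZeroSchemeMul.exists_coef_ideal L hL s ⟨V, hV⟩ e hgen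
  rw [Scheme.Modules.Hom.comp_app, ConcreteCategory.comp_apply, mulSec_app, tmapL_tm, ha,
    tm_smul_right, ← tm_smul_left]
  have h0 : a • (quoπ (PicF2.zeroScheme L s) G).app V g = 0 :=
    killed_quo (PicF2.zeroScheme L s) G ⟨V, hV⟩ a (by rw [hJ]; exact Ideal.mem_span_singleton_self a) _
  rw [h0, tm_zero_left]

/-- the comparison `coker (G → G ⊗ L) ⟶ (G / Z(s) G) ⊗ L` -/
def cokerDesc (G : X.Modules) :
    cokernel (mulSec G s) ⟶ CohB1.tensorMod (quo (PicF2.zeroScheme L s) G) L :=
  cokernel.desc _ (tmapL (quoπ (PicF2.zeroScheme L s) G) L) (mulSec_comp_tmapL L hL s G)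

theorem isIso_cokerDesc (G : X.Modules) (hG : Coh.IsCoh G) : IsIso (cokerDesc L hL s G) := by
  set J := PicF2.zeroScheme L s with hJdef
  have cL : Coh.IsCoh L := Groth.Agent.Lib.R2H4SSDescent.isCoh_of_isInvertible L hL
  have cGL : Coh.IsCoh (CohB1.tensorMod G L) := Groth.Agent.Lib.R2H4SSDescent.isCoh_tensorMod _ _ hG cL
  have cq : Coh.IsCoh (quo J G) := isCoh_quo J G hG
  have cqL : Coh.IsCoh (CohB1.tensorMod (quo J G) L) :=
    Groth.Agent.Lib.R2H4SSDescent.isCoh_tensorMod _ _ cq cL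
  have cC : Coh.IsCoh (cokernel (mulSec G s)) := isCoh_cokernel hG cGL _
  haveI : G.IsQuasicoherent := hG.1
  haveI : (CohB1.tensorMod G L).IsQuasicoherent := cGL.1
  haveI : (quo J G).IsQuasicoherent := cq.1
  haveI : (CohB1.tensorMod (quo J G) L).IsQuasicoherent := cqL.1
  haveI : (cokernel (mulSec G s)).IsQuasicoherent := cC.1
  have hfac : cokernel.π (mulSec G s) ≫ cokerDesc L hL s G = tmapL (quoπ J G) L :=
    cokernel.π_desc _ _ _
  -- `p` is an epimorphism
  haveI hp : Epi (tmapL (quoπ J G) L) := by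
    refine Groth.Agent.Helper18OmLS.epi_of_surjective_app_cover _ (fun V : genB L => V.1)
      (isOpenCover_genB L hL) (fun V => V.2.1) ?_
    rintro ⟨V, hV, e, hgen⟩ z
    obtain ⟨q, rfl⟩ := tm_surj e hgen z
    obtain ⟨g, rfl⟩ := Groth.Agent.Lib.Helper23.FinType.surjective_app_of_epi (quoπ J G) hV q
    exact ⟨tm G L V g e, tmapL_tm _ _ _ _ _⟩
  haveI : Epi (cokerDesc L hL s G) := by
    haveI : Epi (cokernel.π (mulSec G s) ≫ cokerDesc L hL s G) := by rw [hfac]; exact hp
    exact epi_of_epi (cokernel.π (mulSec G s)) (cokerDesc L hL s G)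
  haveI : Mono (cokerDesc L hL s G) := by
    refine Groth.Agent.Helper18OmLS.mono_of_injective_app_basis _ (genB L) (isBasis_genB L hL) ?_
    rintro V ⟨hV, e, hgen⟩
    have key : ∀ z : Γ(cokernel (mulSec G s), V), (cokerDesc L hL s G).app V z = 0 → z = 0 := by
      intro z hz
      obtain ⟨y, rfl⟩ := Groth.Agent.Lib.Helper23.FinType.surjective_app_of_epi
        (cokernel.π (mulSec G s)) hV z
      have h1 : (cokerDesc L hL s G).app V ((cokernel.π (mulSec G s)).app V y) =
          (tmapL (quoπ J G) L).app V y := by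
        have := congrArg (fun φ : CohB1.tensorMod G L ⟶ CohB1.tensorMod (quo J G) L => φ.app V y) hfac
        simpa only [Scheme.Modules.Hom.comp_app, ConcreteCategory.comp_apply] using this
      rw [h1] at hz
      obtain ⟨g, rfl⟩ := tm_surj e hgen y
      rw [tmapL_tm] at hz
      have hπg : (quoπ J G).app V g = 0 := by
        apply tm_inj e hgen
        rw [hz, tm_zero_left]
      obtain ⟨w, hw⟩ := Groth.Agent.Lib.Helper20.StalkExact.exists_app_eq_of_exact (quoSC J G)
        (shortExact J G) V g hπg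
      have hmem := ι_app_mem J G ⟨V, hV⟩ w
      obtain ⟨a, ha, hJ⟩ := Groth.Agent.Lib.R2H1.ZeroSchemeMul.exists_coef_ideal L hL s ⟨V, hV⟩ e hgen
      rw [hJ] at hmem
      obtain ⟨g', hg'⟩ := exists_smul_of_mem_span_smul a _ hmem
      have hg : g = a • g' := hw.symm.trans hg'
      have h2 : tm G L V g e = (mulSec G s).app V g' := by
        rw [mulSec_app, ha, tm_smul_right, hg, tm_smul_left]
      rw [h2]
      have h3 := congrArg (fun φ : G ⟶ cokernel (mulSec G s) => φ.app V g')
        (cokernel.condition (mulSec G s))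
      simp only [Scheme.Modules.Hom.comp_app, ConcreteCategory.comp_apply] at h3
      exact h3.trans rfl
    intro z z' hzz'
    have := key (z - z') (by rw [map_sub, hzz', sub_self])
    exact sub_eq_zero.1 this
  exact isIso_of_mono_of_epi _

end RegSec

end Groth.Agent.Lib.R2H4RegSeq
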