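import Mathlib
import Groth.Prelude
import Groth.Agent.Lib.R2H4RegSeqA2
import Groth.Agent.Lib.R2H4TensorPows

set_option autoImplicit false
set_option linter.style.haveILetI false
set_option linter.unusedSectionVars false
universe u
open CategoryTheory CategoryTheory.Limits AlgebraicGeometry TopologicalSpace Opposite MonoidalCategory

noncomputable section

namespace Groth.Agent.Lib.R2H4RegSeq

open Groth.Agent.Lib.R2H4SerreSupp Groth.Agent.Lib.R2H4K0DevGeom Groth.Agent.Lib.R2H2.NilFilt
  Groth.Agent.Lib.R2H4Quo Groth.Agent.Lib.Helper23.SecTw Groth.Agent.Lib.R2H3.NegTwist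
  Groth.Agent.Lib.Helper23.GenLocus Groth.Agent.Lib.Helper6 Groth.Agent.Lib.R2H4TensorPows

variable {X : Scheme.{u}}

section Locus

variable (L : X.Modules) (hL : PicF.IsInvertible L) (s : Coh.structureModule X ⟶ L)

include hL in
/-- outside the zero scheme the section generates -/
theorem mem_genLocus_of_notMem_support (x : X) (hx : x ∉ (PicF2.zeroScheme L s).support) :
    x ∈ CohB1.genLocus L s := by
  obtain ⟨V, ⟨hV, e, hgen⟩, hxV, -⟩ := Opens.isBasis_iff_nbhd.1 (isBasis_genB L hL)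
    (show x ∈ (⊤ : X.Opens) from trivial)
  obtain ⟨a, ha, hJ⟩ := Groth.Agent.Lib.R2H1.ZeroSchemeMul.exists_coef_ideal L hL s ⟨V, hV⟩ e hgen
  rw [Scheme.IdealSheafData.mem_support_iff_of_mem (U := ⟨V, hV⟩) hxV, Scheme.mem_zeroLocus_iff,
    hJ] at hx
  rw [not_forall] at hx
  obtain ⟨f, hf⟩ := hx
  rw [Classical.not_imp, not_not] at hf
  obtain ⟨hfa, hxf⟩ := hf
  obtain ⟨c, rfl⟩ := Ideal.mem_span_singleton'.1 hfa
  rw [Scheme.basicOpen_mul] at hxf
  have h1 : x ∈ CohB1.genLocus L s ⊓ V := by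
    rw [genLocus_inf_eq_of_isGen L s V e a hgen ha]
    exact hxf.2
  exact h1.1

end Locus

section SES

variable (k : Type u) [Field k] [X.Over (Spec (CommRingCat.of k))]
  [IsProper (X ↘ Spec (CommRingCat.of k))]
  (L : X.Modules) (hL : PicF.IsInvertible L) (s : Coh.structureModule X ⟶ L)

include hL in
theorem mono_mulSec [IsNoetherian X] (G : X.Modules) [G.IsQuasicoherent]
    (hreg : ∀ x : X, Curv2.IsAssPoint G x → x ∉ (PicF2.zeroScheme L s).support) :
    Mono (mulSec G s) := by
  refine Groth.Agent.Helper18OmLS.mono_of_injective_app_basis _ _ X.isBasis_affineOpens ?_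
  intro V _
  exact mulSec_app_injective G s (fun x hx => mem_genLocus_of_notMem_support L hL s x (hreg x hx)) V

include hL in
/-- `χ(G ⊗ L^{m+1}) = χ(G ⊗ L^m) + χ((G / Z(s) G) ⊗ L^{m+1})` for an `G`-regular section `s` -/
theorem fE_step (G : X.Modules) (hG : Coh.IsCoh G)
    (hreg : ∀ x : X, Curv2.IsAssPoint G x → x ∉ (PicF2.zeroScheme L s).support) (m : ℕ) :
    fE k X 1 (fun _ => L) G (fun _ => m + 1) =
      fE k X 1 (fun _ => L) G (fun _ => m) +
        fE k X 1 (fun _ => L) (quo (PicF2.zeroScheme L s) G) (fun _ => m + 1) := by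
  haveI := Groth.Agent.Lib.R2H1.CurveEuler.isNoetherian_of_proper k X
  haveI : G.IsQuasicoherent := hG.1
  set J := PicF2.zeroScheme L s with hJdef
  have cL : Coh.IsCoh L := Groth.Agent.Lib.R2H4SSDescent.isCoh_of_isInvertible L hL
  have cGL : Coh.IsCoh (CohB1.tensorMod G L) := Groth.Agent.Lib.R2H4SSDescent.isCoh_tensorMod _ _ hG cL
  have cC : Coh.IsCoh (cokernel (mulSec G s)) := isCoh_cokernel hG cGL _
  haveI : Mono (mulSec G s) := mono_mulSec L hL s G hreg
  let S : ShortComplex X.Modules :=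
    ShortComplex.mk (mulSec G s) (cokernel.π (mulSec G s)) (cokernel.condition _)
  have hS : S.ShortExact :=
    { exact := ShortComplex.exact_cokernel _
      mono_f := inferInstanceAs (Mono (mulSec G s))
      epi_g := inferInstanceAs (Epi (cokernel.π (mulSec G s))) }
  have hadd := fE_add k 1 (fun _ => L) (fun _ => hL) S hS hG cGL cC (fun _ => m)
  haveI := isIso_cokerDesc L hL s G hG
  have hcongr := fE_congr k 1 (fun _ => L) (asIso (cokerDesc L hL s G)) (fun _ => m)
  have hsh1 := fE_shift k 1 (fun _ => L) G 0 (fun _ => m)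
  have hsh2 := fE_shift k 1 (fun _ => L) (quo J G) 0 (fun _ => m)
  have hfun : ((fun _ => m) + Pi.single (0 : Fin 1) 1 : Fin 1 → ℕ) = fun _ => m + 1 := by
    funext i
    have hi : i = 0 := Subsingleton.elim _ _
    subst hi
    simp
  rw [hfun] at hsh1 hsh2
  rw [← hsh1, ← hsh2, ← hcongr]
  exact hadd

end SES

end Groth.Agent.Lib.R2H4RegSeq
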