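import Mathlib
import Groth.Prelude
import Groth.Agent.Lib.R2H4GVSch
import Groth.Agent.Lib.R2H1CurveDegSec
import Groth.Agent.Lib.R2H1CurveAmple
import Groth.Agent.Lib.R2H4RegSeqA3
import Groth.Agent.Lib.R2H4Quo
import Groth.Agent.Lib.R2H1SkyDecomp
import Groth.Agent.Lib.R2H1DegCartier
import Groth.Agent.Lib.R2H4TensorPows

/-! helper4 (round 2): on an integral proper curve, the degree of an invertible module is the
`h^0` of the structure sheaf of the zero scheme of any nonzero section. -/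
set_option autoImplicit false
set_option linter.style.haveILetI false
set_option linter.unusedSectionVars false
universe u
open CategoryTheory CategoryTheory.Limits AlgebraicGeometry TopologicalSpace Opposite

noncomputable section

namespace Groth.Agent.Lib.R2H4ModCurve

open Groth.Agent.Lib.R2H4RegSeq Groth.Agent.Lib.R2H4Quo Groth.Agent.Lib.R2H3.NegTwist
  Groth.Agent.Lib.R2H4TensorPows Groth.Agent.Lib.R2H4SerreSupp

variable (k : Type u) [Field k] (Y : Scheme.{u}) [Y.Over (Spec (CommRingCat.of k))]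
  [IsProper (Y ↘ Spec (CommRingCat.of k))]

theorem curveDeg_eq_deg (hdim : topologicalKrullDim Y ≤ 1) (M : Y.Modules) :
    ArSurf.curveDeg k Y M = Curv2.deg k Y M 1 := by
  unfold ArSurf.curveDeg Curv2.deg
  rw [Groth.Agent.Lib.R2H4GVSch.eulerCharLE_eq_euler k Y 1 hdim,
    Groth.Agent.Lib.R2H4GVSch.eulerCharLE_eq_euler k Y 1 hdim]
  push_cast
  ring

variable [IsIntegral Y]

theorem deg_eq_h0_zeroScheme (hdim : topologicalKrullDim Y = 1) (M : Y.Modules)
    (hM : PicF.IsInvertible M) (τ : Coh.structureModule Y ⟶ M) (hτ : τ ≠ 0)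
    (hZ : ((PicF2.zeroScheme M τ).support : Set Y) ≠ Set.univ) :
    Curv2.deg k Y M 1 =
      (Module.finrank k (Coh.HH Y (ClSub.quotMod (PicF2.zeroScheme M τ)) 0) : ℤ) := by
  haveI := Groth.Agent.Lib.R2H1.CurveEuler.isNoetherian_of_proper k Y
  let O := Coh.structureModule Y
  let Z := PicF2.zeroScheme M τ
  have hO : PicF.IsInvertible O := Groth.Agent.Lib.Helper23.TensorUnit.isInvertible_structureModule Y
  have hOM : PicF.IsInvertible (CohB1.tensorMod O M) :=
    Groth.Agent.Lib.Helper23.SecTw.isInvertible_tensorMod hO hM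
  have cO : Coh.IsCoh O := Groth.Agent.Lib.R2H1.GenusLe.isCoh_structureModule Y
  have cM : Coh.IsCoh M := Groth.Agent.Lib.R2H4SSDescent.isCoh_of_isInvertible M hM
  have cOM : Coh.IsCoh (CohB1.tensorMod O M) :=
    Groth.Agent.Lib.R2H4SSDescent.isCoh_tensorMod _ _ cO cM
  have hφ : mulSec O τ ≠ 0 :=
    Groth.Agent.Lib.R2H1.CurveAmple.mulSec_ne_zero O hO hM τ hτ
  haveI : Mono (mulSec O τ) := Groth.Agent.Lib.R2H1.InvHom.mono_of_ne_zero hO hOM _ hφ
  have cC : Coh.IsCoh (cokernel (mulSec O τ)) :=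
    Groth.Agent.Lib.R2H2.NilFilt.isCoh_cokernel cO cOM _
  let S : ShortComplex Y.Modules :=
    ShortComplex.mk (mulSec O τ) (cokernel.π (mulSec O τ)) (cokernel.condition _)
  have hS : S.ShortExact :=
    { exact := ShortComplex.exact_cokernel _
      mono_f := inferInstanceAs (Mono (mulSec O τ))
      epi_g := inferInstanceAs (Epi (cokernel.π (mulSec O τ))) }
  have h1 : Curv2.euler k Y (CohB1.tensorMod O M) =
      Curv2.euler k Y O + Curv2.euler k Y (cokernel (mulSec O τ)) :=
    Groth.Agent.Lib.R2H1.EulerAdd.s1524 k Y S hS cO cOM cC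
  have h2 : Curv2.euler k Y (CohB1.tensorMod O M) = Curv2.euler k Y M :=
    Groth.Agent.Lib.R2H1.DegCartier.euler_congr k (lUnit M)
  haveI := isIso_cokerDesc M hM τ O cO
  have h3 : Curv2.euler k Y (cokernel (mulSec O τ)) =
      Curv2.euler k Y (CohB1.tensorMod (quo Z O) M) :=
    Groth.Agent.Lib.R2H1.DegCartier.euler_congr k (asIso (cokerDesc M hM τ O))
  have h4 : Curv2.euler k Y (CohB1.tensorMod (quo Z O) M) =
      Curv2.euler k Y (CohB1.tensorMod (ClSub.quotMod Z) M) :=
    Groth.Agent.Lib.R2H1.DegCartier.euler_congr k (tIso (quoStructureIso Z) (Iso.refl M))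
  have cQ : Coh.IsCoh (ClSub.quotMod Z) := isCoh_quotMod Z
  have hcl : IsClosed (CohB1.support (ClSub.quotMod Z)) := Groth.Agent.S0020.result Y _ cQ.2
  have hne : CohB1.support (ClSub.quotMod Z) ≠ Set.univ := by
    intro h
    apply hZ
    apply Set.eq_univ_of_univ_subset
    rw [← h]
    exact Groth.Agent.Lib.R2H1.DegCartier.support_quotMod_subset Z
  have hsupp : topologicalKrullDim (CohB1.support (ClSub.quotMod Z)) ≤ 0 :=
    Groth.Agent.Lib.R2H1.CurveDegSec.dim_le_zero_of_ne_univ hdim.le _ hcl hne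
  have h5 : Curv2.euler k Y (CohB1.tensorMod (ClSub.quotMod Z) M) =
      (1 : ℕ) * Curv2.euler k Y (ClSub.quotMod Z) :=
    Groth.Agent.Lib.R2H1.SkyDecomp.s1558 k Y _ cQ hsupp 1 M
      (Groth.Agent.Lib.Helper23.SecTw.isFinLocFreeOfRank_one_of_isInvertible M hM)
  have h6 : Curv2.euler k Y (ClSub.quotMod Z) =
      (Module.finrank k (Coh.HH Y (ClSub.quotMod Z) 0) : ℤ) :=
    Groth.Agent.Lib.R2H1.CurveDegSec.euler_eq_h0 k Y _ cQ hsupp
  unfold Curv2.deg
  rw [← h2, h1, h3, h4, h5, h6]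
  push_cast
  ring

end Groth.Agent.Lib.R2H4ModCurve
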