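import Mathlib
import Groth.Prelude
import Groth.Agent.Lib.Helper23IdealSec
import Groth.Agent.Lib.R2H1ZeroSchemeMul
import Groth.Agent.Lib.R2H4TensorPows

/-!
# The canonical section of an inverse of an ideal module (helper4, round 2)

For an ideal sheaf `J` and an invertible `L` with `L ⊗ J ≅ O_X`, the canonical section `O_X ⟶ L`
(the "dual" of `J ⊆ O_X`), its local form and its zero scheme.
-/

set_option autoImplicit false
set_option linter.style.haveILetI false
set_option linter.unusedSectionVars false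
universe u
open CategoryTheory CategoryTheory.Limits AlgebraicGeometry MonoidalCategory TopologicalSpace Opposite

noncomputable section

namespace Groth.Agent.Lib.R2H4ModSec

open Groth.Agent.Lib.Helper23.SecTw Groth.Agent.Lib.Helper23.GenLocus Groth.Agent.Lib.Helper6
  Groth.Agent.Lib.Helper23.LocGen Groth.Agent.Lib.Helper23.Serre Groth.Agent.Lib.Helper23.TensorMap
  Groth.Agent.Lib.Helper20.IdealModSec Groth.Agent.Lib.Helper23.IdealSec
  Groth.Agent.Lib.R2H4TensorPows

variable {X : Scheme.{u}} (J : X.IdealSheafData) (L : X.Modules) (hL : PicF.IsInvertible L)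
  (e : CohB1.tensorMod L (ClSub.idealMod J) ≅ Coh.structureModule X)

/-- the isomorphism `O ≅ J ⊗ L` -/
def σ₀ : Coh.structureModule X ⟶ CohB1.tensorMod (ClSub.idealMod J) L :=
  e.inv ≫ (tComm L (ClSub.idealMod J)).hom

instance : IsIso (σ₀ J L e) := by
  unfold σ₀
  infer_instance

/-- the canonical section of `L = O(D)` -/
def canSec : Coh.structureModule X ⟶ L :=
  σ₀ J L e ≫ mulHom (ClSub.idealModι J) L

include hL in
/-- local form of the canonical section -/
theorem canSec_local (W : X.affineOpens) (e₀ : Γ(L, W.1)) (hgen : IsGen L W.1 e₀) :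
    ∃ a : Γ(X, W.1), sv (canSec J L e) W.1 = a • e₀ ∧ J.ideal W = Ideal.span {a} := by
  have hbij := bijective_tm_of_isGen (ClSub.idealMod J) L W.1 e₀ hgen W.1 le_rfl
  obtain ⟨j', hj'⟩ := hbij.2 (sv (σ₀ J L e) W.1)
  rw [res_self] at hj'
  have h1 : sv (canSec J L e) W.1 =
      (mulHom (ClSub.idealModι J) L).app W.1 (sv (σ₀ J L e) W.1) := rfl
  refine ⟨ofS W.1 ((ClSub.idealModι J).app W.1 j'), ?_, ?_⟩
  · rw [h1, ← hj', mulHom_tm]
  · apply le_antisymm
    · intro b hb
      obtain ⟨jb, hjb⟩ := exists_ι_eq J W b hb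
      -- `σ₀` is surjective on sections
      have hiso : IsIso ((σ₀ J L e).app W.1) :=
        Scheme.Modules.Hom.isIso_iff_isIso_app.1 inferInstance _
      have hsurj : Function.Surjective ((σ₀ J L e).app W.1) :=
        ((ConcreteCategory.isIso_iff_bijective _).1 hiso).2
      obtain ⟨c', hc'⟩ := hsurj (tm (ClSub.idealMod J) L W.1 jb e₀)
      have hc1 : c' = ofS W.1 c' • toS W.1 1 := by
        rw [smul_toS, mul_one, toS_ofS]
      have h2 : (σ₀ J L e).app W.1 c' = ofS W.1 c' • sv (σ₀ J L e) W.1 := by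
        conv_lhs => rw [hc1]
        rw [Scheme.Modules.Hom.app_smul]
        rfl
      rw [h2, ← hj', ← tm_smul_left] at hc'
      have h3 : ofS W.1 c' • j' = jb := by
        apply hbij.1
        change tm (ClSub.idealMod J) L W.1 (ofS W.1 c' • j') (res L le_rfl e₀) =
          tm (ClSub.idealMod J) L W.1 jb (res L le_rfl e₀)
        rw [res_self]
        exact hc'
      have h4 : b = ofS W.1 c' * ofS W.1 ((ClSub.idealModι J).app W.1 j') := by
        have : toS W.1 b = (ClSub.idealModι J).app W.1 (ofS W.1 c' • j') := by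
          rw [h3, hjb]
        rw [Scheme.Modules.Hom.app_smul] at this
        have h5 : b = ofS W.1 (ofS W.1 c' • (ClSub.idealModι J).app W.1 j') := by
          rw [← this, ofS_toS]
        rw [h5]
        rfl
      rw [h4]
      exact Ideal.mul_mem_left _ _ (Ideal.mem_span_singleton_self _)
    · rw [Ideal.span_singleton_le_iff_mem]
      exact ι_mem_ideal J W j'

/-- affine opens with a generator of `L` -/
def GenOpen (L : X.Modules) : Type u := {V : X.affineOpens // ∃ e₀ : Γ(L, V.1), IsGen L V.1 e₀}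

include hL in
theorem iSup_genOpen : ⨆ V : GenOpen L, (V.1 : X.affineOpens).1 = ⊤ := by
  rw [eq_top_iff]
  intro x _
  obtain ⟨W, e₀, hxW, hgen⟩ := exists_gen L hL x
  obtain ⟨V, hV, hxV, hle⟩ := exists_isAffineOpen_mem_and_subset (X := X) (x := x) (U := W) hxW
  exact Opens.mem_iSup.2 ⟨⟨⟨V, hV⟩, res L hle e₀, hgen.mono hle⟩, hxV⟩

include hL in
/-- the zero scheme of the canonical section is `J` -/
theorem zeroScheme_canSec : PicF2.zeroScheme L (canSec J L e) = J := by
  refine Scheme.IdealSheafData.ext_of_iSup_eq_top (fun V : GenOpen L => V.1) (iSup_genOpen L hL) ?_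
  rintro ⟨V, e₀, hgen⟩
  obtain ⟨a, ha, hJ⟩ := canSec_local J L hL e V e₀ hgen
  obtain ⟨a', ha', hJ'⟩ :=
    Groth.Agent.Lib.R2H1.ZeroSchemeMul.exists_coef_ideal L hL (canSec J L e) V e₀ hgen
  have haa' : a = a' := by
    apply (hgen V.1 le_rfl).1
    change a • res L le_rfl e₀ = a' • res L le_rfl e₀
    rw [res_self, ← ha, ← ha']
  change (PicF2.zeroScheme L (canSec J L e)).ideal V = J.ideal V
  rw [hJ, hJ', haa']

section Locus

variable (s : Coh.structureModule X ⟶ L)

include hL in
/-- the support of the zero scheme is the complement of the generating locus -/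
theorem mem_support_zeroScheme_iff (x : X) :
    x ∈ (PicF2.zeroScheme L s).support ↔ x ∉ CohB1.genLocus L s := by
  obtain ⟨W, e₀, hxW, hgen⟩ := exists_gen L hL x
  obtain ⟨V, hV, hxV, hle⟩ := exists_isAffineOpen_mem_and_subset (X := X) (x := x) (U := W) hxW
  have hgenV : IsGen L V (res L hle e₀) := hgen.mono hle
  obtain ⟨a, ha, hJ⟩ :=
    Groth.Agent.Lib.R2H1.ZeroSchemeMul.exists_coef_ideal L hL s ⟨V, hV⟩ _ hgenV
  have hloc := genLocus_inf_eq_of_isGen L s V _ a hgenV ha
  rw [Scheme.IdealSheafData.mem_support_iff_of_mem (U := ⟨V, hV⟩) hxV, Scheme.mem_zeroLocus_iff, hJ]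
  constructor
  · intro h hx
    have h1 : x ∈ CohB1.genLocus L s ⊓ V := ⟨hx, hxV⟩
    rw [hloc] at h1
    exact h a (Ideal.mem_span_singleton_self a) h1
  · intro h f hf hxf
    obtain ⟨c, rfl⟩ := Ideal.mem_span_singleton'.1 hf
    rw [Scheme.basicOpen_mul] at hxf
    have h1 : x ∈ CohB1.genLocus L s ⊓ V := by
      rw [hloc]
      exact hxf.2
    exact h h1.1

end Locus

include hL in
/-- the canonical section generates exactly outside the support of `J` -/
theorem mem_genLocus_canSec_iff (x : X) :
    x ∈ CohB1.genLocus L (canSec J L e) ↔ x ∉ J.support := by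
  have h := mem_support_zeroScheme_iff L hL (canSec J L e) x
  rw [zeroScheme_canSec J L hL e] at h
  rw [h, not_not]

end Groth.Agent.Lib.R2H4ModSec
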