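import Mathlib
import Groth.Prelude
import Groth.Agent.Lib.R2H4ModSec
import Groth.Agent.Lib.Helper23PB
import Groth.Agent.Lib.Helper22IdealComap

/-!
# Pull-back of sections of invertible modules and of their zero schemes (helper4, round 2)

`Z(f^* s) = f^{-1} Z(s)` as ideal sheaves.
-/

set_option autoImplicit false
set_option linter.style.haveILetI false
set_option linter.unusedSectionVars false
universe u
open CategoryTheory CategoryTheory.Limits AlgebraicGeometry MonoidalCategory TopologicalSpace Opposite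

noncomputable section

namespace Groth.Agent.Lib.R2H4ModPull

open Groth.Agent.Lib.Helper23.SecTw Groth.Agent.Lib.Helper23.GenLocus Groth.Agent.Lib.Helper6
  Groth.Agent.Lib.Helper23.LocGen Groth.Agent.Lib.Helper23.Serre
  Groth.Agent.Lib.Helper23.AmpleIso Groth.Agent.Lib.Helper23.Extend
  Groth.Agent.Helper13PullbackUnit Groth.Agent.Lib.Helper23.PB Groth.Agent.Lib.R2H4ModSec

variable {X Y : Scheme.{u}} (f : X ⟶ Y)

/-- the pulled back section `O_X ≅ f^* O_Y ⟶ f^* L` -/
def pullSec (L : Y.Modules) (s : Coh.structureModule Y ⟶ L) :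
    Coh.structureModule X ⟶ (Scheme.Modules.pullback f).obj L :=
  (pullbackUnitIso f).inv ≫ (Scheme.Modules.pullback f).map s

theorem genLocus_pullSec (L : Y.Modules) (hL : PicF.IsInvertible L)
    (s : Coh.structureModule Y ⟶ L) :
    CohB1.genLocus ((Scheme.Modules.pullback f).obj L) (pullSec f L s) =
      f ⁻¹ᵁ CohB1.genLocus L s :=
  genLocus_pullback f L hL s (pullbackUnitIso f).symm

/-- local form of the pulled back section -/
theorem sv_pullSec (L : Y.Modules) (hL : PicF.IsInvertible L) (s : Coh.structureModule Y ⟶ L)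
    (W : Y.Opens) (hW : IsAffineOpen W) (ε : Γ(L, W)) (hε : IsGen L W ε) (c : Γ(Y, W))
    (hcs : sv s W = c • ε) :
    ∃ α : Γ(X, f ⁻¹ᵁ W), IsUnit α ∧
      sv (pullSec f L s) (f ⁻¹ᵁ W) = (α * f.app W c) • unitSec f L le_rfl ε := by
  haveI : L.IsQuasicoherent := isQuasicoherent_of_isInvertible L hL
  haveI : (Coh.structureModule Y).IsQuasicoherent :=
    Groth.Agent.Lib.Helper23.Serre.isQuasicoherent_structureModule' Y
  set e : Coh.structureModule X ≅ (Scheme.Modules.pullback f).obj (Coh.structureModule Y) :=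
    (pullbackUnitIso f).symm with he
  have hω := isGen_unitSec f (Coh.structureModule Y) hW (toS W 1) (isGen_one W)
  have hγ : IsGen ((Scheme.Modules.pullback f).obj (Coh.structureModule Y)) (f ⁻¹ᵁ W)
      (e.hom.app (f ⁻¹ᵁ W) (toS (f ⁻¹ᵁ W) 1)) := isGen_of_iso e (isGen_one (f ⁻¹ᵁ W))
  obtain ⟨α, hα⟩ : ∃ α : Γ(X, f ⁻¹ᵁ W),
      α = coef hω le_rfl (e.hom.app (f ⁻¹ᵁ W) (toS (f ⁻¹ᵁ W) 1)) := ⟨_, rfl⟩
  have hαu : IsUnit α := hα ▸ isUnit_coef_of_isGen hω hγ
  have hαs : α • unitSec f (Coh.structureModule Y) le_rfl (toS W 1) =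
      e.hom.app (f ⁻¹ᵁ W) (toS (f ⁻¹ᵁ W) 1) := by
    have := coef_spec hω le_rfl (e.hom.app (f ⁻¹ᵁ W) (toS (f ⁻¹ᵁ W) 1))
    rw [res_self] at this
    rw [hα]
    exact this
  refine ⟨α, hαu, ?_⟩
  change sv (e.hom ≫ (Scheme.Modules.pullback f).map s) (f ⁻¹ᵁ W) = _
  rw [sv_comp]
  change ((Scheme.Modules.pullback f).map s).app (f ⁻¹ᵁ W)
    (e.hom.app (f ⁻¹ᵁ W) (toS (f ⁻¹ᵁ W) 1)) = _
  rw [← hαs, Scheme.Modules.Hom.app_smul, map_unitSec, mul_smul]
  congr 1
  have h1 : s.app W (toS W 1) = c • ε := hcs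
  rw [h1, unitSec_smul, Scheme.Hom.appLE_eq_app]

/-- affine opens of `X` mapping into an affine open of `Y` carrying a generator of `L` -/
def GoodOpen (L : Y.Modules) : Type u :=
  {U : X.affineOpens // ∃ W : Y.affineOpens, U.1 ≤ f ⁻¹ᵁ W.1 ∧ ∃ ε : Γ(L, W.1), IsGen L W.1 ε}

theorem iSup_goodOpen (L : Y.Modules) (hL : PicF.IsInvertible L) :
    ⨆ U : GoodOpen f L, (U.1 : X.affineOpens).1 = ⊤ := by
  rw [eq_top_iff]
  intro x _
  obtain ⟨W, ε, hyW, hW, hε⟩ := exists_affine_gen L hL (f x)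
  obtain ⟨U, hU, hxU, hle⟩ := exists_isAffineOpen_mem_and_subset (X := X) (x := x)
    (U := f ⁻¹ᵁ W) hyW
  exact Opens.mem_iSup.2 ⟨⟨⟨U, hU⟩, ⟨W, hW⟩, hle, ε, hε⟩, hxU⟩

/-- **the zero scheme of a pulled back section is the pull-back of the zero scheme** -/
theorem zeroScheme_pullSec (L : Y.Modules) (hL : PicF.IsInvertible L)
    (s : Coh.structureModule Y ⟶ L) :
    PicF2.zeroScheme ((Scheme.Modules.pullback f).obj L) (pullSec f L s) =
      (PicF2.zeroScheme L s).comap f := by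
  haveI : L.IsQuasicoherent := isQuasicoherent_of_isInvertible L hL
  have hL' : PicF.IsInvertible ((Scheme.Modules.pullback f).obj L) := isInvertible_pullback f L hL
  refine Scheme.IdealSheafData.ext_of_iSup_eq_top (fun U : GoodOpen f L => U.1)
    (iSup_goodOpen f L hL) ?_
  rintro ⟨U, W, hUW, ε, hε⟩
  obtain ⟨c, hc, hJ⟩ := Groth.Agent.Lib.R2H1.ZeroSchemeMul.exists_coef_ideal L hL s W ε hε
  obtain ⟨α, hαu, hsv⟩ := sv_pullSec f L hL s W.1 W.2 ε hε c hc
  -- the generator upstairs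
  have hσ := isGen_unitSec f L W.2 ε hε
  have ht : IsGen ((Scheme.Modules.pullback f).obj L) U.1 (unitSec f L hUW ε) := by
    have h1 := hσ.mono hUW
    have h2 : res ((Scheme.Modules.pullback f).obj L) hUW (unitSec f L le_rfl ε) =
        unitSec f L hUW ε := by
      rw [res_unitSec f L le_rfl hUW le_rfl hUW ε, res_self]
    rwa [h2] at h1
  obtain ⟨a, ha, hJ'⟩ := Groth.Agent.Lib.R2H1.ZeroSchemeMul.exists_coef_ideal _ hL'
    (pullSec f L s) U (unitSec f L hUW ε) ht
  have hsvU : sv (pullSec f L s) U.1 =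
      (resf hUW α * f.appLE W.1 U.1 hUW c) • unitSec f L hUW ε := by
    rw [← res_sv (pullSec f L s) hUW, hsv, res_smul, resf_mul, res_unitSec f L le_rfl hUW le_rfl hUW ε,
      res_self]
    congr 2
  have haeq : a = resf hUW α * f.appLE W.1 U.1 hUW c := by
    apply (ht U.1 le_rfl).1
    change a • res _ le_rfl (unitSec f L hUW ε) =
      (resf hUW α * f.appLE W.1 U.1 hUW c) • res _ le_rfl (unitSec f L hUW ε)
    rw [res_self, ← ha, ← hsvU]
  have hunit : IsUnit (resf hUW α) := hαu.map _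
  change (PicF2.zeroScheme ((Scheme.Modules.pullback f).obj L) (pullSec f L s)).ideal U =
    ((PicF2.zeroScheme L s).comap f).ideal U
  rw [hJ', Groth.Agent.Lib.Helper22.IdealComap.ideal_comap_eq_map f _ U W hUW, hJ, Ideal.map_span,
    Set.image_singleton, haeq]
  exact Ideal.span_singleton_mul_left_unit hunit _

end Groth.Agent.Lib.R2H4ModPull
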