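import Mathlib
import Groth.Prelude
import Groth.Agent.Lib.R2H2AffPushLin
import Groth.Agent.Lib.R2H2ProperFin
import Groth.Agent.Lib.Helper27PnSections
import Groth.Agent.Lib.R2H1GenusLe

/-! helper4 (round 2): `h^0` of the structure sheaf of a closed subscheme as the dimension of its
ring of global functions; symmetry of the scheme-theoretic intersection of two closed subschemes
lying over a common field. -/
set_option autoImplicit false
set_option linter.style.haveILetI false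
set_option linter.unusedSectionVars false
universe u
open CategoryTheory CategoryTheory.Limits AlgebraicGeometry TopologicalSpace Opposite

noncomputable section

namespace Groth.Agent.Lib.R2H4ModSym

variable (k : Type u) [CommRing k]

/-- the ring map `k → Γ(T, O_T)` of `g : T ⟶ Spec k` -/
def toG {T : Scheme.{u}} (g : T ⟶ Spec (CommRingCat.of k)) : k →+* Γ(T, ⊤) :=
  (g.appTop).hom.comp (Scheme.ΓSpecIso (CommRingCat.of k)).inv.hom

/-- global functions of `T`, as a `k`-algebra through `g : T ⟶ Spec k` -/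
def GF {T : Scheme.{u}} (_g : T ⟶ Spec (CommRingCat.of k)) : Type u := Γ(T, ⊤)

instance {T : Scheme.{u}} (g : T ⟶ Spec (CommRingCat.of k)) : CommRing (GF k g) :=
  inferInstanceAs (CommRing Γ(T, ⊤))

instance {T : Scheme.{u}} (g : T ⟶ Spec (CommRingCat.of k)) : Algebra k (GF k g) :=
  RingHom.toAlgebra (show k →+* GF k g from toG k g)

theorem algebraMap_GF {T : Scheme.{u}} (g : T ⟶ Spec (CommRingCat.of k)) (r : k) :
    algebraMap k (GF k g) r = toG k g r := rfl

/-- `dim_k Γ(T, O_T)` -/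
def gdim {T : Scheme.{u}} (g : T ⟶ Spec (CommRingCat.of k)) : ℕ := Module.finrank k (GF k g)

theorem toG_comp {T T' : Scheme.{u}} (h : T ⟶ T') (g' : T' ⟶ Spec (CommRingCat.of k)) (r : k) :
    toG k (h ≫ g') r = (h.appTop).hom (toG k g' r) := by
  unfold toG
  rw [Scheme.Hom.comp_appTop]
  rfl

/-- pullback of functions as a ring map -/
def pullRing {T T' : Scheme.{u}} (h : T ⟶ T') (g : T ⟶ Spec (CommRingCat.of k))
    (g' : T' ⟶ Spec (CommRingCat.of k)) : GF k g' →+* GF k g :=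
  (h.appTop).hom

/-- pullback of functions as an algebra map -/
def pullAlg {T T' : Scheme.{u}} (h : T ⟶ T') (g : T ⟶ Spec (CommRingCat.of k))
    (g' : T' ⟶ Spec (CommRingCat.of k)) (hg : h ≫ g' = g) : GF k g' →ₐ[k] GF k g :=
  { pullRing k h g g' with
    commutes' := fun r => by
      change (h.appTop).hom (toG k g' r) = toG k g r
      rw [← hg, toG_comp] }

theorem gdim_eq_of_iso {T T' : Scheme.{u}} (φ : T ≅ T') (g : T ⟶ Spec (CommRingCat.of k))
    (g' : T' ⟶ Spec (CommRingCat.of k)) (hg : φ.hom ≫ g' = g) : gdim k g = gdim k g' := by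
  unfold gdim
  have hbij : Function.Bijective (pullAlg k φ.hom g g' hg) := by
    have : IsIso (φ.hom.app ⊤) := inferInstance
    exact (ConcreteCategory.isIso_iff_bijective (φ.hom.app ⊤)).1 this
  exact (AlgEquiv.ofBijective _ hbij).toLinearEquiv.finrank_eq.symm

section H0

variable (T : Scheme.{u}) [T.Over (Spec (CommRingCat.of k))]

/-- the identity, as an additive equivalence -/
def castEquiv : (Coh.toAb (Coh.structureModule T)).obj.obj (op (⊤ : Opens T)) ≃+
    GF k (T ↘ Spec (CommRingCat.of k)) :=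
  { toFun := fun x => x
    invFun := fun x => x
    left_inv := fun _ => rfl
    right_inv := fun _ => rfl
    map_add' := fun _ _ => rfl }

/-- `H^0(T, O_T) ≃ₗ[k] Γ(T, O_T)` -/
def h0LinEquiv : Coh.HH T (Coh.structureModule T) 0 ≃ₗ[k] GF k (T ↘ Spec (CommRingCat.of k)) :=
  { (Groth.Agent.Lib.Helper27PnSections.hh0Equiv T (Coh.structureModule T)).trans
      (castEquiv k T) with
    map_smul' := fun r x => by
      change castEquiv k T (Groth.Agent.Lib.Helper27PnSections.hh0Equiv T (Coh.structureModule T)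
          (Coh.toGlobal (T ↘ Spec (CommRingCat.of k)) r • x)) = _
      rw [Groth.Agent.Lib.Helper27PnSections.hh0Equiv_smul, Coh.smulAb_app,
        Groth.Agent.Lib.Helper27PnSections.resTop_top]
      rfl }

theorem finrank_h0_eq_gdim :
    Module.finrank k (Coh.HH T (Coh.structureModule T) 0) = gdim k (T ↘ Spec (CommRingCat.of k)) :=
  (h0LinEquiv k T).finrank_eq

end H0

section Quot

variable (Y : Scheme.{u}) [Y.Over (Spec (CommRingCat.of k))]
  [IsSeparated (Y ↘ Spec (CommRingCat.of k))] [CompactSpace Y]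

theorem nonempty_h0_quotMod_equiv (D : Y.IdealSheafData) :
    Nonempty (Coh.HH Y (ClSub.quotMod D) 0 ≃ₗ[k]
      GF k (D.subschemeι ≫ (Y ↘ Spec (CommRingCat.of k)))) := by
  letI : D.subscheme.Over (Spec (CommRingCat.of k)) :=
    ⟨D.subschemeι ≫ (Y ↘ Spec (CommRingCat.of k))⟩
  obtain ⟨ι, hfin, V, hcov, hVa, hV⟩ :=
    Groth.Agent.Lib.R2H2.ProperFin.exists_affine_cover_of_isSeparated
      (Y ↘ Spec (CommRingCat.of k))
  obtain ⟨e⟩ := Groth.Agent.Lib.R2H2.AffPushLin.exists_push_linear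
    D.subschemeι V k rfl hcov hV (Coh.structureModule D.subscheme)
    (Groth.Agent.Lib.R2H1.GenusLe.isCoh_structureModule _).1 0
  exact ⟨e.symm.trans (h0LinEquiv k D.subscheme)⟩

theorem finrank_h0_quotMod (D : Y.IdealSheafData) :
    Module.finrank k (Coh.HH Y (ClSub.quotMod D) 0) =
      gdim k (D.subschemeι ≫ (Y ↘ Spec (CommRingCat.of k))) := by
  obtain ⟨e⟩ := nonempty_h0_quotMod_equiv k Y D
  exact e.finrank_eq

end Quot

section Sym

variable {X S Y₁ Y₂ : Scheme.{u}} (p : X ⟶ S) (q : Spec (CommRingCat.of k) ⟶ S) [Mono q]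
  (ι₁ : Y₁ ⟶ X) (ι₂ : Y₂ ⟶ X) [IsClosedImmersion ι₁] [IsClosedImmersion ι₂]
  (g₁ : Y₁ ⟶ Spec (CommRingCat.of k)) (g₂ : Y₂ ⟶ Spec (CommRingCat.of k))

/-- the closed subscheme `ι₁⁻¹(Y₂)` of `Y₁` is the fibre product -/
def comapIsoPullback : (ι₂.ker.comap ι₁).subscheme ≅ pullback ι₁ ι₂ :=
  ι₂.ker.comapIso ι₁ ≪≫
    asIso (pullback.map ι₁ ι₂.ker.subschemeι ι₁ ι₂ (𝟙 _) (inv ι₂.toImage) (𝟙 _) (by simp)
      (by rw [Category.comp_id, IsIso.eq_inv_comp, Scheme.Hom.toImage_imageι]))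

theorem comapIsoPullback_hom_fst :
    (comapIsoPullback ι₁ ι₂).hom ≫ pullback.fst ι₁ ι₂ = (ι₂.ker.comap ι₁).subschemeι := by
  unfold comapIsoPullback
  rw [Iso.trans_hom, asIso_hom, Category.assoc, pullback.lift_fst, Category.comp_id]
  exact Scheme.IdealSheafData.comapIso_hom_fst _ _

include p q in
theorem gdim_comap_symm (w₁ : ι₁ ≫ p = g₁ ≫ q) (w₂ : ι₂ ≫ p = g₂ ≫ q) :
    gdim k ((ι₂.ker.comap ι₁).subschemeι ≫ g₁) = gdim k ((ι₁.ker.comap ι₂).subschemeι ≫ g₂) := by
  have h1 : gdim k ((ι₂.ker.comap ι₁).subschemeι ≫ g₁) = gdim k (pullback.fst ι₁ ι₂ ≫ g₁) :=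
    gdim_eq_of_iso k (comapIsoPullback ι₁ ι₂) _ _
      (by rw [← Category.assoc, comapIsoPullback_hom_fst])
  have h2 : gdim k ((ι₁.ker.comap ι₂).subschemeι ≫ g₂) = gdim k (pullback.fst ι₂ ι₁ ≫ g₂) :=
    gdim_eq_of_iso k (comapIsoPullback ι₂ ι₁) _ _
      (by rw [← Category.assoc, comapIsoPullback_hom_fst])
  have h3 : gdim k (pullback.snd ι₁ ι₂ ≫ g₂) = gdim k (pullback.fst ι₂ ι₁ ≫ g₂) :=
    gdim_eq_of_iso k (pullbackSymmetry ι₁ ι₂) _ _
      (by rw [← Category.assoc, pullbackSymmetry_hom_comp_fst])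
  have h4 : pullback.fst ι₁ ι₂ ≫ g₁ = pullback.snd ι₁ ι₂ ≫ g₂ := by
    rw [← cancel_mono q, Category.assoc, Category.assoc, ← w₁, ← w₂, ← Category.assoc,
      ← Category.assoc, pullback.condition]
  rw [h1, h2, ← h3, h4]

end Sym

end Groth.Agent.Lib.R2H4ModSym
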