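import Mathlib
import Groth.Prelude
import Groth.Agent.Lib.R2H4ModSec
import Groth.Agent.Lib.R2H4ModPull
import Groth.Agent.Lib.R2H4ModCurve
import Groth.Agent.Lib.R2H4ModSym
import Groth.Agent.Lib.R2H1SpecialFibreProd
import Groth.Agent.Lib.R2H1LiftZero
import Groth.Agent.Lib.Helper23SecTw9
import Groth.Agent.Lib.Helper2TensorInv
import Groth.Agent.Lib.H9YBlowUp

/-! helper4 (round 2): intersection numbers of vertical prime divisors on a model over a discrete
valuation ring: non-negativity, vanishing criterion, and the symmetric formula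
`(D · Γ) = dim_k Γ(Γ ∩ D, O)` for effective Cartier `D` not containing `Γ`. -/
set_option autoImplicit false
set_option linter.style.haveILetI false
set_option linter.unusedSectionVars false
universe u
open CategoryTheory CategoryTheory.Limits AlgebraicGeometry TopologicalSpace Opposite

noncomputable section

namespace Groth.Agent.Lib.R2H4ModComp

open Groth.Agent.Lib.R2H4ModSec Groth.Agent.Lib.R2H4ModPull Groth.Agent.Lib.R2H4ModCurve
  Groth.Agent.Lib.R2H4ModSym

variable (R : Type u) [CommRing R] [IsDomain R] [IsDiscreteValuationRing R]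

/-- the closed point of `Spec R` as a morphism -/
abbrev qq : Spec (CommRingCat.of (IsLocalRing.ResidueField R)) ⟶ Spec (CommRingCat.of R) :=
  Spec.map (CommRingCat.ofHom (IsLocalRing.residue R))

instance : IsClosedImmersion (qq R) :=
  IsClosedImmersion.spec_of_surjective _ IsLocalRing.residue_surjective

variable {R} {X : Scheme.{u}} {p : X ⟶ Spec (CommRingCat.of R)}

theorem isProper_curve [IsProper p] (Γ : ArSurf.VertComp R (Over.mk p)) :
    IsProper (Γ.curve.left ↘ Spec (CommRingCat.of (IsLocalRing.ResidueField R))) := by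
  have hw : Γ.ι ≫ p = Γ.curve.hom ≫ qq R := Γ.w
  haveI : IsProper (Γ.curve.hom ≫ qq R) := by
    rw [← hw]
    infer_instance
  exact IsProper.of_comp Γ.curve.hom (qq R)

section General

variable [IsProper p] (Γ : ArSurf.VertComp R (Over.mk p))
  (J : X.IdealSheafData) (L : X.Modules)
  (e : CohB1.tensorMod L (ClSub.idealMod J) ≅ Coh.structureModule X)

/-- the restriction to `Γ` of the canonical section of `L = O(D)` -/
def resSec : Coh.structureModule Γ.curve.left ⟶ (Scheme.Modules.pullback Γ.ι).obj L :=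
  pullSec Γ.ι L (canSec J L e)

include e in
theorem isInvertible_of_iso : PicF.IsInvertible L :=
  Groth.Agent.Lib.Helper2.TensorInv.isInvertible_of_tensor_iso L _ e

theorem mem_genLocus_resSec_iff (y : Γ.curve.left) :
    y ∈ CohB1.genLocus _ (resSec Γ J L e) ↔ Γ.ι.base y ∉ J.support := by
  have hL := isInvertible_of_iso J L e
  unfold resSec
  rw [genLocus_pullSec Γ.ι L hL]
  exact mem_genLocus_canSec_iff J L hL e (Γ.ι.base y)

theorem resSec_ne_zero (hne : ¬ Set.range (Γ.ι.base : Γ.curve.left → X) ⊆ (J.support : Set X)) :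
    resSec Γ J L e ≠ 0 := by
  have hL := isInvertible_of_iso J L e
  intro h0
  apply hne
  rintro _ ⟨y, rfl⟩
  by_contra hy
  have h1 := (mem_genLocus_resSec_iff Γ J L e y).2 hy
  rw [h0, Groth.Agent.Lib.Helper23.SecTw.genLocus_zero _
    (Groth.Agent.Lib.Helper23.PB.isInvertible_pullback Γ.ι L hL)] at h1
  exact h1

theorem inter_eq_deg :
    ArSurf.inter R (Over.mk p) L Γ =
      @Curv2.deg (IsLocalRing.ResidueField R) _ Γ.curve.left _
        ((Scheme.Modules.pullback Γ.ι).obj L) 1 := by
  haveI := isProper_curve Γ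
  unfold ArSurf.inter
  exact curveDeg_eq_deg _ _ Γ.dim_eq.le _

include e in
theorem inter_nonneg (hne : ¬ Set.range (Γ.ι.base : Γ.curve.left → X) ⊆ (J.support : Set X)) :
    0 ≤ ArSurf.inter R (Over.mk p) L Γ := by
  haveI := isProper_curve Γ
  have hL := isInvertible_of_iso J L e
  rw [inter_eq_deg]
  exact Groth.Agent.Lib.R2H1.CurveDegSec.s1518 _ _ Γ.dim_eq _
    (Groth.Agent.Lib.Helper23.PB.isInvertible_pullback Γ.ι L hL) (resSec Γ J L e)
    (resSec_ne_zero Γ J L e hne)

include e in
theorem inter_eq_zero_iff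
    (hne : ¬ Set.range (Γ.ι.base : Γ.curve.left → X) ⊆ (J.support : Set X)) :
    ArSurf.inter R (Over.mk p) L Γ = 0 ↔
      Disjoint (Set.range (Γ.ι.base : Γ.curve.left → X)) (J.support : Set X) := by
  haveI := isProper_curve Γ
  have hL := isInvertible_of_iso J L e
  have hM := Groth.Agent.Lib.Helper23.PB.isInvertible_pullback Γ.ι L hL
  have hτ := resSec_ne_zero Γ J L e hne
  rw [inter_eq_deg]
  constructor
  · intro h0
    haveI := Groth.Agent.Lib.R2H1.CurveDegSec.isIso_of_deg_nonpos _ _ Γ.dim_eq _ hM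
      (resSec Γ J L e) hτ h0.le
    have htop := (Groth.Agent.Lib.H9YBlowUp.isIso_iff_genLocus_eq_top _ (resSec Γ J L e)).1
      inferInstance
    rw [Set.disjoint_left]
    rintro _ ⟨y, rfl⟩ hy
    have : y ∈ CohB1.genLocus _ (resSec Γ J L e) := by rw [htop]; trivial
    exact (mem_genLocus_resSec_iff Γ J L e y).1 this hy
  · intro hdis
    have htop : CohB1.genLocus _ (resSec Γ J L e) = ⊤ := by
      rw [eq_top_iff]
      intro y _
      rw [mem_genLocus_resSec_iff]
      intro hy
      exact (Set.disjoint_left.1 hdis) ⟨y, rfl⟩ hy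
    haveI := Groth.Agent.Lib.R2H1.LiftZero.isIso_of_genLocus_eq_top _ hM (resSec Γ J L e) hτ htop
    unfold Curv2.deg
    rw [← Groth.Agent.Lib.R2H1.DegCartier.euler_congr _ (asIso (resSec Γ J L e))]
    push_cast
    ring

include e in
/-- the symmetric formula -/
theorem inter_eq_gdim
    (hne : ¬ Set.range (Γ.ι.base : Γ.curve.left → X) ⊆ (J.support : Set X)) :
    ArSurf.inter R (Over.mk p) L Γ =
      (gdim (IsLocalRing.ResidueField R) ((J.comap Γ.ι).subschemeι ≫ Γ.curve.hom) : ℤ) := by
  haveI := isProper_curve Γ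
  have hL := isInvertible_of_iso J L e
  have hM := Groth.Agent.Lib.Helper23.PB.isInvertible_pullback Γ.ι L hL
  have hτ := resSec_ne_zero Γ J L e hne
  have hZ : PicF2.zeroScheme _ (resSec Γ J L e) = J.comap Γ.ι := by
    unfold resSec
    rw [zeroScheme_pullSec Γ.ι L hL, zeroScheme_canSec J L hL e]
  have hZne : ((PicF2.zeroScheme _ (resSec Γ J L e)).support : Set Γ.curve.left) ≠ Set.univ := by
    intro huniv
    apply hne
    rintro _ ⟨y, rfl⟩
    have hy : y ∈ (PicF2.zeroScheme _ (resSec Γ J L e)).support := by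
      rw [← SetLike.mem_coe, huniv]; trivial
    rw [mem_support_zeroScheme_iff _ hM, mem_genLocus_resSec_iff, not_not] at hy
    exact hy
  haveI : CompactSpace Γ.curve.left :=
    QuasiCompact.compactSpace_of_compactSpace
      (Γ.curve.left ↘ Spec (CommRingCat.of (IsLocalRing.ResidueField R)))
  rw [inter_eq_deg, deg_eq_h0_zeroScheme _ _ Γ.dim_eq _ hM (resSec Γ J L e) hτ hZne, hZ,
    finrank_h0_quotMod]
  rfl

end General

end Groth.Agent.Lib.R2H4ModComp
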