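import Mathlib
import Groth.Prelude
import Groth.Agent.Lib.R2H4ModSec

/-!
# Zero schemes of products of sections (helper4, round 2)

`Z(s₁ ⊗ s₂) = Z(s₁) · Z(s₂)`, `Z(s^{⊗ m}) = Z(s)^m`, and the big product
`⊗_i L_i^{⊗ m_i}` with its section `⊗_i s_i^{⊗ m_i}`, whose zero scheme is `∏ Z(s_i)^{m_i}`.
-/

set_option autoImplicit false
set_option linter.style.haveILetI false
set_option linter.unusedSectionVars false
universe u
open CategoryTheory CategoryTheory.Limits AlgebraicGeometry MonoidalCategory TopologicalSpace Opposite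

noncomputable section

namespace Groth.Agent.Lib.R2H4ModProd

open Groth.Agent.Lib.Helper23.SecTw Groth.Agent.Lib.Helper23.GenLocus Groth.Agent.Lib.Helper6
  Groth.Agent.Lib.R2H4ModSec

variable {X : Scheme.{u}}

/-- affine opens with generators of both `L₁` and `L₂` -/
def Gen2 (L₁ L₂ : X.Modules) : Type u :=
  {V : X.affineOpens // ∃ (e₁ : Γ(L₁, V.1)) (e₂ : Γ(L₂, V.1)), IsGen L₁ V.1 e₁ ∧ IsGen L₂ V.1 e₂}

theorem iSup_gen2 (L₁ L₂ : X.Modules) (hL₁ : PicF.IsInvertible L₁) (hL₂ : PicF.IsInvertible L₂) :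
    ⨆ V : Gen2 L₁ L₂, (V.1 : X.affineOpens).1 = ⊤ := by
  rw [eq_top_iff]
  intro x _
  obtain ⟨W₁, e₁, hxW₁, he₁⟩ := exists_gen L₁ hL₁ x
  obtain ⟨W₂, e₂, hxW₂, he₂⟩ := exists_gen L₂ hL₂ x
  obtain ⟨V, hV, hxV, hle⟩ := exists_isAffineOpen_mem_and_subset (X := X) (x := x)
    (U := W₁ ⊓ W₂) ⟨hxW₁, hxW₂⟩
  have h1 : V ≤ W₁ := fun y hy => (hle hy).1
  have h2 : V ≤ W₂ := fun y hy => (hle hy).2
  exact Opens.mem_iSup.2 ⟨⟨⟨V, hV⟩, res L₁ h1 e₁, res L₂ h2 e₂, he₁.mono h1, he₂.mono h2⟩, hxV⟩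

theorem zeroScheme_tmulHom (L₁ L₂ : X.Modules) (hL₁ : PicF.IsInvertible L₁)
    (hL₂ : PicF.IsInvertible L₂) (s₁ : Coh.structureModule X ⟶ L₁)
    (s₂ : Coh.structureModule X ⟶ L₂) :
    PicF2.zeroScheme (CohB1.tensorMod L₁ L₂) (SecTwist.tmulHom s₁ s₂) =
      PicF2.zeroScheme L₁ s₁ * PicF2.zeroScheme L₂ s₂ := by
  refine Scheme.IdealSheafData.ext_of_iSup_eq_top (fun V : Gen2 L₁ L₂ => V.1)
    (iSup_gen2 L₁ L₂ hL₁ hL₂) ?_
  rintro ⟨V, e₁, e₂, h₁, h₂⟩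
  obtain ⟨a₁, hsa₁, hJ₁⟩ :=
    Groth.Agent.Lib.R2H1.ZeroSchemeMul.exists_coef_ideal L₁ hL₁ s₁ V e₁ h₁
  obtain ⟨a₂, hsa₂, hJ₂⟩ :=
    Groth.Agent.Lib.R2H1.ZeroSchemeMul.exists_coef_ideal L₂ hL₂ s₂ V e₂ h₂
  have hτ := isGen_tm L₁ L₂ V.1 _ _ h₁ h₂
  obtain ⟨a, hsa, hJ⟩ := Groth.Agent.Lib.R2H1.ZeroSchemeMul.exists_coef_ideal
    (CohB1.tensorMod L₁ L₂) (isInvertible_tensorMod hL₁ hL₂) (SecTwist.tmulHom s₁ s₂) V _ hτ
  have ha : a = a₁ * a₂ := by
    apply (hτ V.1 le_rfl).1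
    change a • res _ le_rfl (tm L₁ L₂ V.1 e₁ e₂) = (a₁ * a₂) • res _ le_rfl (tm L₁ L₂ V.1 e₁ e₂)
    rw [res_self, ← hsa, sv_tmulHom, hsa₁, hsa₂, tm_smul_left, tm_smul_right, smul_smul]
  change (PicF2.zeroScheme (CohB1.tensorMod L₁ L₂) (SecTwist.tmulHom s₁ s₂)).ideal V =
    (PicF2.zeroScheme L₁ s₁ * PicF2.zeroScheme L₂ s₂).ideal V
  rw [hJ, ha, Scheme.IdealSheafData.ideal_mul, Pi.mul_apply, hJ₁, hJ₂,
    Ideal.span_singleton_mul_span_singleton]

theorem iSup_affineOpens : ⨆ V : X.affineOpens, (V : X.affineOpens).1 = ⊤ := by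
  rw [eq_top_iff]
  intro x _
  obtain ⟨V, hV, hxV, -⟩ := exists_isAffineOpen_mem_and_subset (X := X) (x := x) (U := ⊤) trivial
  exact Opens.mem_iSup.2 ⟨⟨V, hV⟩, hxV⟩

theorem zeroScheme_id :
    PicF2.zeroScheme (Coh.structureModule X) (𝟙 (Coh.structureModule X)) = ⊤ := by
  have hO := Groth.Agent.Lib.Helper23.TensorUnit.isInvertible_structureModule X
  refine Scheme.IdealSheafData.ext_of_iSup_eq_top (fun V : X.affineOpens => V)
    iSup_affineOpens ?_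
  intro V
  have hgen := isGen_one (X := X) V.1
  obtain ⟨a, ha, hJ⟩ := Groth.Agent.Lib.R2H1.ZeroSchemeMul.exists_coef_ideal
    (Coh.structureModule X) hO (𝟙 _) V _ hgen
  change (PicF2.zeroScheme (Coh.structureModule X) (𝟙 _)).ideal V =
    (⊤ : X.IdealSheafData).ideal V
  rw [hJ, Scheme.IdealSheafData.ideal_top, Pi.top_apply, Ideal.span_singleton_eq_top]
  have h1 : sv (𝟙 (Coh.structureModule X)) V.1 = (1 : Γ(X, V.1)) • toS V.1 1 := by
    rw [one_smul]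
    rfl
  have h4 : a = 1 := by
    apply (hgen V.1 le_rfl).1
    change a • res _ le_rfl (toS V.1 1) = (1 : Γ(X, V.1)) • res _ le_rfl (toS V.1 1)
    rw [res_self, ← ha, ← h1]
  rw [h4]
  exact isUnit_one

theorem zeroScheme_powHom (L : X.Modules) (hL : PicF.IsInvertible L)
    (s : Coh.structureModule X ⟶ L) (m : ℕ) :
    PicF2.zeroScheme (CohB1.tensorPow L m) (SecTwist.powHom s m) = PicF2.zeroScheme L s ^ m := by
  induction m with
  | zero =>
    rw [pow_zero]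
    exact zeroScheme_id
  | succ m ih =>
    change PicF2.zeroScheme (CohB1.tensorMod (CohB1.tensorPow L m) L)
      (SecTwist.tmulHom (SecTwist.powHom s m) s) = _
    rw [zeroScheme_tmulHom _ _ (isInvertible_tensorPow hL m) hL, ih, pow_succ]

/-- `⊗_i L_i^{⊗ m_i}` -/
def bigMod : (n : ℕ) → (Fin n → X.Modules) → (Fin n → ℕ) → X.Modules
  | 0, _, _ => Coh.structureModule X
  | n + 1, L, m => CohB1.tensorMod (bigMod n (fun i => L i.castSucc) (fun i => m i.castSucc))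
      (CohB1.tensorPow (L (Fin.last n)) (m (Fin.last n)))

/-- `⊗_i s_i^{⊗ m_i}` -/
def bigSec : (n : ℕ) → (L : Fin n → X.Modules) → (∀ i, Coh.structureModule X ⟶ L i) →
    (m : Fin n → ℕ) → (Coh.structureModule X ⟶ bigMod n L m)
  | 0, _, _, _ => 𝟙 _
  | n + 1, L, s, m => SecTwist.tmulHom
      (bigSec n (fun i => L i.castSucc) (fun i => s i.castSucc) (fun i => m i.castSucc))
      (SecTwist.powHom (s (Fin.last n)) (m (Fin.last n)))

theorem isInvertible_bigMod : ∀ (n : ℕ) (L : Fin n → X.Modules) (m : Fin n → ℕ),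
    (∀ i, PicF.IsInvertible (L i)) → PicF.IsInvertible (bigMod n L m)
  | 0, _, _, _ => Groth.Agent.Lib.Helper23.TensorUnit.isInvertible_structureModule X
  | n + 1, _, _, hL => isInvertible_tensorMod
      (isInvertible_bigMod n _ _ (fun i => hL i.castSucc))
      (isInvertible_tensorPow (hL (Fin.last n)) _)

theorem zeroScheme_bigSec : ∀ (n : ℕ) (L : Fin n → X.Modules)
    (s : ∀ i, Coh.structureModule X ⟶ L i) (m : Fin n → ℕ), (∀ i, PicF.IsInvertible (L i)) →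
    PicF2.zeroScheme (bigMod n L m) (bigSec n L s m) = ∏ i, PicF2.zeroScheme (L i) (s i) ^ m i
  | 0, _, _, _, _ => by
    rw [Finset.univ_eq_empty, Finset.prod_empty]
    exact zeroScheme_id
  | n + 1, L, s, m, hL => by
    change PicF2.zeroScheme (CohB1.tensorMod _ _) (SecTwist.tmulHom _ _) = _
    rw [zeroScheme_tmulHom _ _ (isInvertible_bigMod n _ _ (fun i => hL i.castSucc))
      (isInvertible_tensorPow (hL (Fin.last n)) _),
      zeroScheme_bigSec n _ _ _ (fun i => hL i.castSucc), zeroScheme_powHom _ (hL (Fin.last n)),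
      Fin.prod_univ_castSucc]

end Groth.Agent.Lib.R2H4ModProd
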