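import Mathlib
import Groth.Prelude
import Groth.Agent.Lib.R2H4ModProd
import Groth.Agent.Lib.R2H1CurveAmple
import Groth.Agent.Lib.R2H1DegCartier
import Groth.Agent.Lib.Helper23PB

/-!
# Degree of the restriction of `⊗_i L_i^{⊗ m_i}` to a curve (helper4, round 2)
-/

set_option autoImplicit false
set_option linter.style.haveILetI false
set_option linter.unusedSectionVars false
universe u
open CategoryTheory CategoryTheory.Limits AlgebraicGeometry MonoidalCategory TopologicalSpace Opposite

noncomputable section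

namespace Groth.Agent.Lib.R2H4ModDeg

open Groth.Agent.Lib.Helper23.SecTw Groth.Agent.Lib.R2H4ModProd

variable (k : Type u) [Field k] (Y : Scheme.{u}) [Y.Over (Spec (CommRingCat.of k))]
  [IsProper (Y ↘ Spec (CommRingCat.of k))]

theorem deg_congr {M N : Y.Modules} (e : M ≅ N) : Curv2.deg k Y M 1 = Curv2.deg k Y N 1 := by
  unfold Curv2.deg
  rw [Groth.Agent.Lib.R2H1.DegCartier.euler_congr k e]

theorem deg_structure : Curv2.deg k Y (Coh.structureModule Y) 1 = 0 := by
  unfold Curv2.deg
  push_cast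
  ring

variable [IsIntegral Y] {X : Scheme.{u}} (f : Y ⟶ X)

theorem deg_pullback_bigMod (hdim : topologicalKrullDim Y = 1) :
    ∀ (n : ℕ) (L : Fin n → X.Modules) (m : Fin n → ℕ), (∀ i, PicF.IsInvertible (L i)) →
      Curv2.deg k Y ((Scheme.Modules.pullback f).obj (bigMod n L m)) 1 =
        ∑ i, (m i : ℤ) * Curv2.deg k Y ((Scheme.Modules.pullback f).obj (L i)) 1
  | 0, _, _, _ => by
    rw [Finset.univ_eq_empty, Finset.sum_empty]
    change Curv2.deg k Y ((Scheme.Modules.pullback f).obj (Coh.structureModule X)) 1 = 0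
    rw [deg_congr k Y (Groth.Agent.Lib.Helper23.PB.pullbackUnitIso f), deg_structure]
  | n + 1, L, m, hL => by
    have hA := isInvertible_bigMod n (fun i => L i.castSucc) (fun i => m i.castSucc)
      (fun i => hL i.castSucc)
    have hB := isInvertible_tensorPow (hL (Fin.last n)) (m (Fin.last n))
    obtain ⟨e₁⟩ := Groth.Agent.Lib.Helper23.PB.nonempty_pullback_tensorMod_iso f _ _ hA hB
    obtain ⟨e₂⟩ := Groth.Agent.Lib.Helper23.PB.nonempty_pullback_tensorPow_iso f _
      (hL (Fin.last n)) (m (Fin.last n))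
    have hfL := Groth.Agent.Lib.Helper23.PB.isInvertible_pullback f _ (hL (Fin.last n))
    change Curv2.deg k Y ((Scheme.Modules.pullback f).obj (CohB1.tensorMod _ _)) 1 = _
    rw [deg_congr k Y e₁, Groth.Agent.Lib.R2H1.CurveAmple.deg_tensorMod k Y hdim _ _
      (Groth.Agent.Lib.Helper23.PB.isInvertible_pullback f _ hA)
      (Groth.Agent.Lib.Helper23.PB.isInvertible_pullback f _ hB),
      deg_pullback_bigMod hdim n _ _ (fun i => hL i.castSucc), deg_congr k Y e₂,
      Groth.Agent.Lib.R2H1.CurveAmple.deg_tensorPow k Y hdim _ hfL, Fin.sum_univ_castSucc]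

end Groth.Agent.Lib.R2H4ModDeg
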