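import Mathlib
import Groth.Prelude
import Groth.Agent.Lib.R2H4ModSec
import Groth.Agent.Lib.R2H4RegSeqA
import Groth.Agent.Lib.H9YBlowUp

/-!
# An invertible module with a section whose zero scheme is globally principal is trivial
(helper4, round 2)
-/

set_option autoImplicit false
set_option linter.style.haveILetI false
set_option linter.unusedSectionVars false
universe u
open CategoryTheory CategoryTheory.Limits AlgebraicGeometry MonoidalCategory TopologicalSpace Opposite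

noncomputable section

namespace Groth.Agent.Lib.R2H4ModTriv

open Groth.Agent.Lib.Helper23.SecTw Groth.Agent.Lib.Helper23.GenLocus Groth.Agent.Lib.Helper6
  Groth.Agent.Lib.R2H4ModSec Groth.Agent.Lib.R2H4RegSeq

variable {X : Scheme.{u}}

/-- restriction of a global function -/
def rT (ϖ : Γ(X, ⊤)) (U : X.Opens) : Γ(X, U) :=
  (X.presheaf.map (homOfLE (le_top : U ≤ ⊤)).op).hom ϖ

theorem rT_res (ϖ : Γ(X, ⊤)) {U V : X.Opens} (h : V ≤ U) : resf h (rT ϖ U) = rT ϖ V := by
  unfold rT resf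
  rw [← CommRingCat.comp_apply, ← Functor.map_comp]
  rfl

theorem smulEnd_aux (P : X.Modules) (ϖ : Γ(X, ⊤)) (U : X.Opens) (r : Γ(X, U)) (m : Γ(P, U)) :
    rT ϖ U • (r • m) = r • (rT ϖ U • m) := by
  rw [smul_smul, smul_smul, mul_comm]

/-- multiplication by a global function, as an endomorphism of a module -/
def smulEnd (P : X.Modules) (ϖ : Γ(X, ⊤)) : P ⟶ P :=
  ⟨PresheafOfModules.homMk
    { app := fun U => AddCommGrpCat.ofHom
        (DistribSMul.toAddMonoidHom (P.val.obj U) (Coh.resTop X U ϖ))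
      naturality := fun U V f => by
        ext m
        change Coh.resTop X V ϖ • (P.val.map f).hom m =
          (P.val.map f).hom (@HSMul.hSMul (X.ringCatSheaf.obj.obj U) (P.val.obj U) (P.val.obj U) _
            (Coh.resTop X U ϖ) m)
        rw [← Coh.resTop_comp U V f ϖ]
        exact (P.val.map_smul f (Coh.resTop X U ϖ) m).symm }
    (fun U r m => smulEnd_aux P ϖ U.unop r m)⟩

theorem smulEnd_app (P : X.Modules) (ϖ : Γ(X, ⊤)) (U : X.Opens) (m : Γ(P, U)) :
    (smulEnd P ϖ).app U m = rT ϖ U • m := rfl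

variable (P : X.Modules) (hP : PicF.IsInvertible P) (t : Coh.structureModule X ⟶ P)
  (ϖ : Γ(X, ⊤))
  (hprin : ∀ U : X.affineOpens, (PicF2.zeroScheme P t).ideal U = Ideal.span {rT ϖ U.1})
  (hnzd : ∀ U : X.affineOpens, rT ϖ U.1 ∈ nonZeroDivisors Γ(X, U.1))

include hP hnzd in
theorem mono_smulEnd : Mono (smulEnd P ϖ) := by
  refine Groth.Agent.Helper18OmLS.mono_of_injective_app_basis _ (genB P) (isBasis_genB P hP) ?_
  rintro V ⟨hV, e, hgen⟩
  rw [injective_iff_map_eq_zero]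
  intro m hm
  obtain ⟨a, rfl⟩ : ∃ a : Γ(X, V), a • e = m := by
    have := (hgen V le_rfl).2 m
    simpa only [res_self] using this
  rw [smulEnd_app, smul_smul] at hm
  have h0 : rT ϖ V * a = 0 := by
    apply (hgen V le_rfl).1
    change (rT ϖ V * a) • res P le_rfl e = (0 : Γ(X, V)) • res P le_rfl e
    rw [res_self, hm, zero_smul]
  have ha : a = 0 := by
    rw [mul_comm] at h0
    exact (mem_nonZeroDivisors_iff_right.1 (hnzd ⟨V, hV⟩)) a h0
  rw [ha, zero_smul]

include hP hprin in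
theorem comp_cokernel_eq_zero : t ≫ cokernel.π (smulEnd P ϖ) = 0 := by
  refine Groth.Agent.Helper18Strict.hom_eq_zero_of_basis _ (genB P) (isBasis_genB P hP) ?_
  rintro V ⟨hV, e, hgen⟩ g
  obtain ⟨a, ha, hJ⟩ :=
    Groth.Agent.Lib.R2H1.ZeroSchemeMul.exists_coef_ideal P hP t ⟨V, hV⟩ e hgen
  have hmem : a ∈ Ideal.span {rT ϖ V} := by
    rw [← hprin ⟨V, hV⟩, hJ]
    exact Ideal.mem_span_singleton_self a
  obtain ⟨c, rfl⟩ := Ideal.mem_span_singleton'.1 hmem
  have hg : g = toS V (ofS V g) := rfl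
  rw [Scheme.Modules.Hom.comp_app, ConcreteCategory.comp_apply, hg, app_toS, ha]
  have h1 : ofS V g • (c * rT ϖ V) • e = (smulEnd P ϖ).app V ((ofS V g * c) • e) := by
    rw [smulEnd_app, smul_smul, smul_smul]
    congr 1
    ring
  rw [h1, ← ConcreteCategory.comp_apply, ← Scheme.Modules.Hom.comp_app, cokernel.condition]
  rfl

include hP hprin hnzd in
/-- the quotient section `t / ϖ` -/
theorem exists_div : ∃ u : Coh.structureModule X ⟶ P, u ≫ smulEnd P ϖ = t ∧ IsIso u := by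
  haveI := mono_smulEnd P hP ϖ hnzd
  refine ⟨Abelian.monoLift (smulEnd P ϖ) t (comp_cokernel_eq_zero P hP t ϖ hprin),
    Abelian.monoLift_comp _ _ _, ?_⟩
  set u := Abelian.monoLift (smulEnd P ϖ) t (comp_cokernel_eq_zero P hP t ϖ hprin) with hu
  have hut : u ≫ smulEnd P ϖ = t := Abelian.monoLift_comp _ _ _
  rw [Groth.Agent.Lib.H9YBlowUp.isIso_iff_genLocus_eq_top, eq_top_iff]
  intro x _
  obtain ⟨V, ⟨hV, e, hgen⟩, hxV, -⟩ := Opens.isBasis_iff_nbhd.1 (isBasis_genB P hP)
    (show x ∈ (⊤ : X.Opens) from trivial)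
  obtain ⟨a, ha, hJ⟩ :=
    Groth.Agent.Lib.R2H1.ZeroSchemeMul.exists_coef_ideal P hP t ⟨V, hV⟩ e hgen
  obtain ⟨b, hb⟩ : ∃ b : Γ(X, V), b • e = sv u V := by
    have := (hgen V le_rfl).2 (sv u V)
    simpa only [res_self] using this
  -- `ϖ b = a`
  have hab : rT ϖ V * b = a := by
    apply (hgen V le_rfl).1
    change (rT ϖ V * b) • res P le_rfl e = a • res P le_rfl e
    rw [res_self, ← ha, ← hut, mul_smul, hb]
    rfl
  -- `ϖ = d a`
  have hmem : rT ϖ V ∈ Ideal.span {a} := by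
    rw [← hJ, hprin ⟨V, hV⟩]
    exact Ideal.mem_span_singleton_self _
  obtain ⟨d, hd⟩ := Ideal.mem_span_singleton'.1 hmem
  have hunit : IsUnit b := by
    have h1 : rT ϖ V * (d * b - 1) = 0 := by
      rw [mul_sub, mul_one, ← mul_assoc, mul_comm (rT ϖ V) d, mul_assoc, hab, hd, sub_self]
    have h2 : d * b - 1 = 0 := by
      rw [mul_comm] at h1
      exact (mem_nonZeroDivisors_iff_right.1 (hnzd ⟨V, hV⟩)) _ h1
    exact IsUnit.of_mul_eq_one _ (by rw [mul_comm]; exact sub_eq_zero.1 h2)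
  have h3 : CohB1.genLocus P u ⊓ V = X.basicOpen b :=
    genLocus_inf_eq_of_isGen P u V e b hgen hb.symm
  have h4 : x ∈ CohB1.genLocus P u ⊓ V := by
    rw [h3, X.basicOpen_of_isUnit hunit]
    exact hxV
  exact h4.1

include hP hprin hnzd in
theorem nonempty_iso : Nonempty (Coh.structureModule X ≅ P) := by
  obtain ⟨u, -, hu⟩ := exists_div P hP t ϖ hprin hnzd
  exact ⟨asIso u⟩

end Groth.Agent.Lib.R2H4ModTriv
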