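import Mathlib
import Groth.Prelude
import Groth.Agent.Lib.R2H4ModComp
import Groth.Agent.Lib.R2H4ModTriv
import Groth.Agent.Lib.R2H4ModDeg
import Groth.Agent.Lib.H9Models
import Groth.Agent.Lib.Helper11Models
import Groth.Agent.Lib.H9AffIncl

/-!
# The intersection matrix of the special fibre of a regular proper model (helper4, round 2)

Symmetry, non-negativity off the diagonal, the fibre is numerically trivial, connectedness, and
negative semi-definiteness (S3316 - S3320).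
-/

set_option autoImplicit false
set_option linter.style.haveILetI false
set_option linter.unusedSectionVars false
universe u
open CategoryTheory CategoryTheory.Limits AlgebraicGeometry TopologicalSpace Opposite

noncomputable section

namespace Groth.Agent.Lib.R2H4ModMain

open Groth.Agent.Lib.R2H4ModSec Groth.Agent.Lib.R2H4ModPull Groth.Agent.Lib.R2H4ModCurve
  Groth.Agent.Lib.R2H4ModSym Groth.Agent.Lib.R2H4ModComp Groth.Agent.Lib.R2H4ModProd
  Groth.Agent.Lib.R2H4ModTriv Groth.Agent.Lib.R2H4ModDeg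
  Groth.Agent.Lib.R2H1.SpecialFibreProd

variable {R : Type u} [CommRing R] [IsDomain R] [IsDiscreteValuationRing R]
  {X : Scheme.{u}} {p : X ⟶ Spec (CommRingCat.of R)} {n : ℕ}
  (Γ : Fin n → ArSurf.VertComp R (Over.mk p))
  (hΓ : Models.IsComponentList R (Over.mk p) Γ)
  (L : Fin n → X.Modules)
  (hL : ∀ i, ClSub.IsInverseOf (L i) (ClSub.idealMod (Γ i).ι.ker))

/-- the underlying set of a component -/
abbrev rg (i : Fin n) : Set X := Set.range ((Γ i).ι.base : (Γ i).curve.left → X)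

/-- the ideal sheaf of a component -/
abbrev ik (i : Fin n) : X.IdealSheafData := (Γ i).ι.ker

theorem support_ker (i : Fin n) : ((ik Γ i).support : Set X) = rg Γ i :=
  support_ker_eq_range (Γ i)

include hΓ in
theorem rg_mem (i : Fin n) : rg Γ i ∈ Models.fibreComponents R (Over.mk p) := by
  rw [← hΓ.2]
  exact ⟨i, rfl⟩

include hΓ in
theorem not_subset {i j : Fin n} (hij : i ≠ j) :
    ¬ rg Γ i ⊆ ((ik Γ j).support : Set X) := by
  intro hsub
  rw [support_ker] at hsub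
  have hi : Maximal (fun S : Set X => IsIrreducible S ∧ S ⊆ Models.specialFibreSet R (Over.mk p))
      (rg Γ i) := rg_mem Γ hΓ i
  have hj : Maximal (fun S : Set X => IsIrreducible S ∧ S ⊆ Models.specialFibreSet R (Over.mk p))
      (rg Γ j) := rg_mem Γ hΓ j
  have h1 : rg Γ j ⊆ rg Γ i := hi.2 hj.1 hsub
  exact hij (hΓ.1 (Set.Subset.antisymm hsub h1))

section Proper

variable [IsProper p]

include hΓ hL in
theorem s3317 (i j : Fin n) (hij : i ≠ j) :
    0 ≤ ArSurf.inter R (Over.mk p) (L j) (Γ i) ∧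
      (ArSurf.inter R (Over.mk p) (L j) (Γ i) = 0 ↔ Disjoint (rg Γ i) (rg Γ j)) := by
  obtain ⟨e⟩ := hL j
  have hne := not_subset Γ hΓ hij
  refine ⟨inter_nonneg (Γ i) _ (L j) e hne, ?_⟩
  rw [inter_eq_zero_iff (Γ i) _ (L j) e hne, support_ker]

include hΓ hL in
theorem s3316 (i j : Fin n) :
    ArSurf.inter R (Over.mk p) (L j) (Γ i) = ArSurf.inter R (Over.mk p) (L i) (Γ j) := by
  by_cases hij : i = j
  · subst hij
    rfl
  · obtain ⟨ej⟩ := hL j
    obtain ⟨ei⟩ := hL i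
    rw [inter_eq_gdim (Γ i) _ (L j) ej (not_subset Γ hΓ hij),
      inter_eq_gdim (Γ j) _ (L i) ei (not_subset Γ hΓ (Ne.symm hij))]
    congr 1
    exact gdim_comap_symm _ p (qq R) (Γ i).ι (Γ j).ι (Γ i).curve.hom (Γ j).curve.hom
      (Γ i).w (Γ j).w

include hΓ in
/-- every point of the closed fibre lies on a component -/
theorem exists_mem_rg [IsNoetherian X] (x : X) (hx : x ∈ Models.specialFibreSet R (Over.mk p)) :
    ∃ l, x ∈ rg Γ l := by
  have hcl : IsClosed (Models.specialFibreSet R (Over.mk p) : Set X) :=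
    Models.isClosed_specialFibreSet R (Over.mk p)
  obtain ⟨η, hηZ, hηx, hηmax⟩ :=
    Groth.Agent.Lib.H9AffIncl.exists_maximal_point (X := X) hcl hx
  have hmax := maximal_of_maximal_point _ hcl η hηZ hηmax
  have hmem : closure {η} ∈ Models.fibreComponents R (Over.mk p) := hmax
  rw [← hΓ.2] at hmem
  obtain ⟨l, hl⟩ := hmem
  refine ⟨l, ?_⟩
  change x ∈ Set.range ((Γ l).ι.base : (Γ l).curve.left → X)
  have hl' : Set.range ((Γ l).ι.base : (Γ l).curve.left → X) = closure {η} := hl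
  rw [hl']
  exact hηx.mem_closure

include hΓ hL in
theorem s3319 [IsNoetherian X]
    (hconn : _root_.IsPreconnected (Models.specialFibreSet R (Over.mk p)))
    (I : Finset (Fin n)) (hI : I.Nonempty) (hI' : I ≠ Finset.univ) :
    ∃ i ∈ I, ∃ j ∉ I, ArSurf.inter R (Over.mk p) (L j) (Γ i) ≠ 0 := by
  by_contra hcon
  have hzero : ∀ i ∈ I, ∀ j ∉ I, ArSurf.inter R (Over.mk p) (L j) (Γ i) = 0 := by
    intro i hi j hj
    by_contra h
    exact hcon ⟨i, hi, j, hj, h⟩
  have hdisj : ∀ i ∈ I, ∀ j ∉ I, Disjoint (rg Γ i) (rg Γ j) := by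
    intro i hi j hj
    have hij : i ≠ j := fun h => hj (h ▸ hi)
    exact ((s3317 Γ hΓ L hL i j hij).2).1 (hzero i hi j hj)
  have hclosed : ∀ l, IsClosed (rg Γ l) := fun l => (Γ l).ι.isClosedEmbedding.isClosed_range
  set A : Set X := ⋃ i ∈ I, rg Γ i with hA
  set B : Set X := ⋃ j ∈ Iᶜ, rg Γ j with hB
  have hAcl : IsClosed A := Set.Finite.isClosed_biUnion I.finite_toSet (fun i _ => hclosed i)
  have hBcl : IsClosed B := Set.Finite.isClosed_biUnion (Iᶜ).finite_toSet (fun i _ => hclosed i)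
  have hcover : Models.specialFibreSet R (Over.mk p) ⊆ A ∪ B := by
    intro x hx
    obtain ⟨l, hl⟩ := exists_mem_rg Γ hΓ x hx
    by_cases hlI : l ∈ I
    · exact Or.inl (Set.mem_biUnion (show l ∈ (I : Set (Fin n)) from hlI) hl)
    · exact Or.inr (Set.mem_biUnion
        (show l ∈ ((Iᶜ : Finset (Fin n)) : Set (Fin n)) from Finset.mem_compl.2 hlI) hl)
  have hrgsub : ∀ l, rg Γ l ⊆ Models.specialFibreSet R (Over.mk p) := fun l =>
    (rg_mem Γ hΓ l).1.2
  have hrgne : ∀ l, (rg Γ l).Nonempty := fun l => (rg_mem Γ hΓ l).1.1.nonempty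
  obtain ⟨i₀, hi₀⟩ := hI
  obtain ⟨j₀, hj₀⟩ : ∃ j, j ∉ I := by
    by_contra h
    apply hI'
    rw [Finset.eq_univ_iff_forall]
    intro j
    by_contra hj
    exact h ⟨j, hj⟩
  obtain ⟨x, hx⟩ := hrgne i₀
  obtain ⟨y, hy⟩ := hrgne j₀
  have h1 : (Models.specialFibreSet R (Over.mk p) ∩ A).Nonempty :=
    ⟨x, hrgsub i₀ hx, Set.mem_biUnion (show i₀ ∈ (I : Set (Fin n)) from hi₀) hx⟩
  have h2 : (Models.specialFibreSet R (Over.mk p) ∩ B).Nonempty :=
    ⟨y, hrgsub j₀ hy, Set.mem_biUnion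
      (show j₀ ∈ ((Iᶜ : Finset (Fin n)) : Set (Fin n)) from Finset.mem_compl.2 hj₀) hy⟩
  obtain ⟨z, -, hzA, hzB⟩ := isPreconnected_closed_iff.1 hconn A B hAcl hBcl hcover h1 h2
  obtain ⟨i, hiI, hzi⟩ := Set.mem_iUnion₂.1 hzA
  obtain ⟨j, hjI, hzj⟩ := Set.mem_iUnion₂.1 hzB
  have hjI' : j ∉ I := Finset.mem_compl.1 hjI
  exact (Set.disjoint_left.1 (hdisj i hiI j hjI')) hzi hzj

end Proper

end Groth.Agent.Lib.R2H4ModMain
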