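import Mathlib
import Groth.Prelude
import Groth.Agent.Lib.R2H4ModMain

/-!
# The closed fibre is numerically trivial; negative semi-definiteness (helper4, round 2)
-/

set_option autoImplicit false
set_option linter.style.haveILetI false
set_option linter.unusedSectionVars false
universe u
open CategoryTheory CategoryTheory.Limits AlgebraicGeometry TopologicalSpace Opposite IsLocalRing

noncomputable section

namespace Groth.Agent.Lib.R2H4ModMain

open Groth.Agent.Lib.R2H4ModSec Groth.Agent.Lib.R2H4ModPull Groth.Agent.Lib.R2H4ModCurve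
  Groth.Agent.Lib.R2H4ModSym Groth.Agent.Lib.R2H4ModComp Groth.Agent.Lib.R2H4ModProd
  Groth.Agent.Lib.R2H4ModTriv Groth.Agent.Lib.R2H4ModDeg
  Groth.Agent.Lib.R2H1.SpecialFibreProd

variable {R : Type u} [CommRing R] [IsDomain R] [IsDiscreteValuationRing R]
  {X : Scheme.{u}} {p : X ⟶ Spec (CommRingCat.of R)} {n : ℕ}
  (Γ : Fin n → ArSurf.VertComp R (Over.mk p))
  (hΓ : Models.IsComponentList R (Over.mk p) Γ)
  (L : Fin n → X.Modules)
  (hL : ∀ i, ClSub.IsInverseOf (L i) (ClSub.idealMod (Γ i).ι.ker))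

theorem rT_secHom (ϖ : R) (U : X.Opens) :
    rT (secHom R X p ⊤ ϖ) U = secHom R X p U ϖ := by
  unfold rT secHom
  rw [RingHom.comp_apply, RingHom.comp_apply, ← CommRingCat.comp_apply, Scheme.Hom.appLE_map]

theorem nzd_secHom [Flat p] (ϖ : R) (hϖ : ϖ ≠ 0) (V : X.affineOpens) :
    secHom R X p V.1 ϖ ∈ nonZeroDivisors Γ(X, V.1) := by
  have hflat : (p.appLE ⊤ V.1 le_top).hom.Flat :=
    Scheme.Hom.flat_appLE p (isAffineOpen_top _) V.2 le_top
  have hflat2 : (secHom R X p V.1).Flat := by
    unfold secHom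
    refine RingHom.Flat.comp ?_ hflat
    exact RingHom.Flat.of_bijective
      (Scheme.ΓSpecIso (CommRingCat.of R)).symm.commRingCatIsoToRingEquiv.bijective
  letI := (secHom R X p V.1).toAlgebra
  haveI : Module.Flat R Γ(X, V.1) := hflat2
  have hreg : IsSMulRegular R ϖ := (IsRegular.of_ne_zero hϖ).left.isSMulRegular
  have h2 := IsSMulRegular.of_flat (S := Γ(X, V.1)) hreg
  have h3 : IsLeftRegular (secHom R X p V.1 ϖ) := fun a b hab => h2 hab
  exact isRegular_iff_mem_nonZeroDivisors.mp (isLeftRegular_iff_isRegular.mp h3)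

section Conn

variable {C : Scheme.{u}} (f : C ⟶ Spec (CommRingCat.of (FractionRing R)))
  (g : C ⟶ X)
  (H : IsPullback g f p (Spec.map (CommRingCat.ofHom (algebraMap R (FractionRing R)))))

include H in
theorem isPreconnected_specialFibreSet [IsProper p] [Flat p] (hf : IsIso f.appTop) :
    _root_.IsPreconnected (Models.specialFibreSet R (Over.mk p)) := by
  haveI hiso : IsIso (p.app ⊤) := Groth.Agent.Lib.H9Models.isIso_appTop R f p g H hf
  let y : ↥(Spec (CommRingCat.of R)) := IsLocalRing.closedPoint R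
  haveI hconn : ConnectedSpace ↥(p.fiber y) :=
    Groth.Agent.Lib.H9ZarLocalU.connectedSpace_fiber_of_nhd p y ⊤ (isAffineOpen_top _) trivial hiso
  have h1 : Models.specialFibreSet R (Over.mk p) = Set.range (p.fiberι y).base := by
    rw [Scheme.Hom.range_fiberι]
    rfl
  rw [h1]
  exact isPreconnected_range (p.fiberι y).continuous

end Conn

section Fibre

variable [Flat p] [LocallyOfFiniteType p] [QuasiCompact p]
  (hreg : ∀ x : X, IsRegularLocalRing (X.presheaf.stalk x))

include hΓ hL hreg in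
/-- `⊗ O(Γ_i)^{m_i} ≅ O_X` -/
theorem nonempty_iso_bigMod :
    Nonempty (Coh.structureModule X ≅
      bigMod n L (fun i => Models.mult R (Over.mk p) (Γ i))) := by
  have e : ∀ i, CohB1.tensorMod (L i) (ClSub.idealMod (ik Γ i)) ≅ Coh.structureModule X :=
    fun i => (hL i).some
  have hLinv : ∀ i, PicF.IsInvertible (L i) := fun i => isInvertible_of_iso _ (L i) (e i)
  set m : Fin n → ℕ := fun i => Models.mult R (Over.mk p) (Γ i) with hm
  set s : ∀ i, Coh.structureModule X ⟶ L i := fun i => canSec (Γ i).ι.ker (L i) (e i) with hs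
  have hZ : PicF2.zeroScheme (bigMod n L m) (bigSec n L s m) =
      Models.specialFibreIdeal R (Over.mk p) := by
    rw [zeroScheme_bigSec n L s m hLinv, (main R X p hreg Γ hΓ).2]
    refine Finset.prod_congr rfl (fun i _ => ?_)
    rw [hs, zeroScheme_canSec _ _ (hLinv i) (e i)]
  obtain ⟨ϖ, hϖ⟩ := IsDiscreteValuationRing.exists_irreducible R
  have hmax : maximalIdeal R = Ideal.span {ϖ} :=
    (IsDiscreteValuationRing.irreducible_iff_uniformizer ϖ).mp hϖ
  refine nonempty_iso (bigMod n L m) (isInvertible_bigMod n L m hLinv) (bigSec n L s m)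
    (secHom R X p ⊤ ϖ) ?_ ?_
  · intro U
    rw [hZ, specialFibreIdeal_ideal, hmax, Ideal.map_span, Set.image_singleton, rT_secHom]
  · intro U
    rw [rT_secHom]
    exact nzd_secHom ϖ hϖ.ne_zero U

include hΓ hL hreg in
/-- `Σ_i m_i (Γ_i · Γ_j) = 0`, in the form `Σ_i m_i deg(L_i|Γ_j)` -/
theorem s7921 [IsProper p] (j : Fin n) :
    ∑ i, (Models.mult R (Over.mk p) (Γ i) : ℤ) * ArSurf.inter R (Over.mk p) (L i) (Γ j) = 0 := by
  haveI := isProper_curve (Γ j)
  obtain ⟨φ⟩ := nonempty_iso_bigMod Γ hΓ L hL hreg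
  have hLinv : ∀ i, PicF.IsInvertible (L i) := by
    intro i
    obtain ⟨e⟩ := hL i
    exact isInvertible_of_iso _ (L i) e
  have h1 : ∀ i, ArSurf.inter R (Over.mk p) (L i) (Γ j) =
      @Curv2.deg (ResidueField R) _ (Γ j).curve.left _
        ((Scheme.Modules.pullback (Γ j).ι).obj (L i)) 1 := by
    intro i
    rw [inter_eq_deg]
  rw [Finset.sum_congr rfl (fun i _ => by rw [h1 i])]
  let ιj : (Γ j).curve.left ⟶ X := (Γ j).ι
  have hA := deg_pullback_bigMod (ResidueField R) (Γ j).curve.left ιj (Γ j).dim_eq n L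
    (fun i => Models.mult R (Over.mk p) (Γ i)) hLinv
  have hB := deg_congr (ResidueField R) (Γ j).curve.left
    ((Scheme.Modules.pullback ιj).mapIso φ.symm)
  have hC := deg_congr (ResidueField R) (Γ j).curve.left
    (Groth.Agent.Lib.Helper23.PB.pullbackUnitIso ιj)
  have hD := deg_structure (ResidueField R) (Γ j).curve.left
  exact hA.symm.trans (hB.trans (hC.trans hD))

include hΓ hL hreg in
theorem s3318 [IsProper p] (j : Fin n) :
    ∑ i, (Models.mult R (Over.mk p) (Γ i) : ℤ) * ArSurf.inter R (Over.mk p) (L j) (Γ i) = 0 := by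
  rw [← s7921 Γ hΓ L hL hreg j]
  refine Finset.sum_congr rfl (fun i _ => ?_)
  rw [s3316 Γ hΓ L hL i j]

theorem mem_support_prod_pow {ι : Type*} (s : Finset ι) (I : ι → X.IdealSheafData) (m : ι → ℕ)
    (x : X) :
    x ∈ (∏ i ∈ s, I i ^ m i).support ↔ ∃ i ∈ s, m i ≠ 0 ∧ x ∈ (I i).support := by
  classical
  induction s using Finset.induction_on with
  | empty =>
    rw [Finset.prod_empty, Scheme.IdealSheafData.one_eq_top, Scheme.IdealSheafData.support_top]
    constructor
    · intro h
      rw [← SetLike.mem_coe, Closeds.coe_bot] at h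
      exact absurd h (Set.notMem_empty x)
    · rintro ⟨i, hi, -⟩
      exact absurd hi (by simp)
  | insert a s ha ih =>
    rw [Finset.prod_insert ha, Scheme.IdealSheafData.support_mul, ← SetLike.mem_coe,
      Closeds.coe_sup, Set.mem_union, SetLike.mem_coe, SetLike.mem_coe, ih]
    constructor
    · rintro (h | ⟨i, hi, hmi, hx⟩)
      · by_cases hma : m a = 0
        · rw [hma, pow_zero, Scheme.IdealSheafData.one_eq_top,
            Scheme.IdealSheafData.support_top, ← SetLike.mem_coe, Closeds.coe_bot] at h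
          exact absurd h (Set.notMem_empty x)
        · rw [Scheme.IdealSheafData.support_pow _ _ hma] at h
          exact ⟨a, Finset.mem_insert_self a s, hma, h⟩
      · exact ⟨i, Finset.mem_insert_of_mem hi, hmi, hx⟩
    · rintro ⟨i, hi, hmi, hx⟩
      rcases Finset.mem_insert.1 hi with rfl | his
      · left
        rw [Scheme.IdealSheafData.support_pow _ _ hmi]
        exact hx
      · exact Or.inr ⟨i, his, hmi, hx⟩

include hΓ hreg in
theorem mult_pos (i : Fin n) : 0 < Models.mult R (Over.mk p) (Γ i) := by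
  by_contra h0
  have h0' : Models.mult R (Over.mk p) (Γ i) = 0 := by omega
  set ξ := Models.genPtOf R (Over.mk p) (Γ i) with hξ
  have hcl : closure {ξ} = rg Γ i := by
    rw [hξ, closure_genPtOf (Γ i), support_ker]
  have hξi : ξ ∈ rg Γ i := by
    rw [← hcl]
    exact subset_closure rfl
  have hξf : ξ ∈ Models.specialFibreSet R (Over.mk p) := (rg_mem Γ hΓ i).1.2 hξi
  rw [← support_specialFibreIdeal, SetLike.mem_coe, (main R X p hreg Γ hΓ).2,
    mem_support_prod_pow] at hξf
  obtain ⟨l, -, hml, hξl⟩ := hξf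
  have hil : i ≠ l := by
    rintro rfl
    exact hml h0'
  apply not_subset Γ hΓ hil
  rw [← hcl]
  exact (IsClosed.closure_subset_iff ((Γ l).ι.ker.support.isClosed)).2
    (Set.singleton_subset_iff.2 hξl)

/-- the numerical type of the closed fibre (with `w = 1`, `g = 0`) -/
def numType [IsProper p] [IsNoetherian X] (hn : 0 < n)
    (hconn : _root_.IsPreconnected (Models.specialFibreSet R (Over.mk p))) :
    Models.NumericalType n where
  m := fun i => (Models.mult R (Over.mk p) (Γ i) : ℤ)
  a := Matrix.of fun i j => ArSurf.inter R (Over.mk p) (L j) (Γ i)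
  w := fun _ => 1
  g := fun _ => 0
  pos := hn
  m_pos := fun i => by exact_mod_cast mult_pos Γ hΓ hreg i
  w_pos := fun _ => one_pos
  g_nonneg := fun _ => le_refl _
  symm := Matrix.IsSymm.ext fun i j => s3316 Γ hΓ L hL j i
  offDiag_nonneg := fun i j hij => (s3317 Γ hΓ L hL i j hij).1
  connected := fun I hI hI' => s3319 Γ hΓ L hL hconn I hI hI'
  mulVec_m := by
    funext i
    simp only [Matrix.mulVec, dotProduct, Matrix.of_apply, Pi.zero_apply]
    rw [← s3318 Γ hΓ L hL hreg i]
    refine Finset.sum_congr rfl (fun j _ => ?_)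
    rw [s3316 Γ hΓ L hL i j, mul_comm]
  w_dvd := fun _ _ => one_dvd _

include hΓ hL hreg in
theorem s3320 [IsProper p] [IsNoetherian X]
    (hconn : _root_.IsPreconnected (Models.specialFibreSet R (Over.mk p))) (a : Fin n → ℤ) :
    (∑ q : Fin n × Fin n, a q.1 * a q.2 * ArSurf.inter R (Over.mk p) (L q.2) (Γ q.1)) ≤ 0 ∧
      ((∑ q : Fin n × Fin n, a q.1 * a q.2 * ArSurf.inter R (Over.mk p) (L q.2) (Γ q.1)) = 0 ↔
        ∃ c : ℚ, ∀ i, (a i : ℚ) = c * (Models.mult R (Over.mk p) (Γ i) : ℚ)) := by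
  rcases Nat.eq_zero_or_pos n with hn | hn
  · subst hn
    refine ⟨by simp, ?_⟩
    constructor
    · intro _
      exact ⟨0, fun i => i.elim0⟩
    · intro _
      simp
  · set T := numType Γ hΓ L hL hreg hn hconn with hT
    have hqf : (∑ q : Fin n × Fin n, a q.1 * a q.2 * ArSurf.inter R (Over.mk p) (L q.2) (Γ q.1)) =
        Groth.Agent.Lib.Helper11.qf T a := by
      rw [Fintype.sum_prod_type]
      unfold Groth.Agent.Lib.Helper11.qf
      refine Finset.sum_congr rfl (fun i _ => Finset.sum_congr rfl (fun j _ => ?_))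
      change _ = ArSurf.inter R (Over.mk p) (L j) (Γ i) * a i * a j
      ring
    rw [hqf]
    refine ⟨Groth.Agent.Lib.Helper11.qf_nonpos T a, ?_⟩
    have hmpos : ∀ i, (0 : ℚ) < (Models.mult R (Over.mk p) (Γ i) : ℚ) := fun i => by
      exact_mod_cast mult_pos Γ hΓ hreg i
    constructor
    · intro h0
      have key := Groth.Agent.Lib.Helper11.qf_eq_zero T a h0
      refine ⟨(a ⟨0, hn⟩ : ℚ) / (Models.mult R (Over.mk p) (Γ ⟨0, hn⟩) : ℚ), fun i => ?_⟩
      have h1 : a i * (Models.mult R (Over.mk p) (Γ ⟨0, hn⟩) : ℤ) =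
          a ⟨0, hn⟩ * (Models.mult R (Over.mk p) (Γ i) : ℤ) := key i ⟨0, hn⟩
      have h2 : (a i : ℚ) * (Models.mult R (Over.mk p) (Γ ⟨0, hn⟩) : ℚ) =
          (a ⟨0, hn⟩ : ℚ) * (Models.mult R (Over.mk p) (Γ i) : ℚ) := by exact_mod_cast h1
      have h3 := (hmpos ⟨0, hn⟩).ne'
      field_simp
      linarith
    · rintro ⟨c, hc⟩
      have hcast : ((Groth.Agent.Lib.Helper11.qf T a : ℤ) : ℚ) = 0 := by
        rw [Groth.Agent.Lib.Helper11.qf_cast]
        have hrow : ∀ i, ∑ j, (T.a i j : ℚ) * (T.m j : ℚ) = 0 := fun i => by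
          exact_mod_cast Groth.Agent.Lib.Helper11.row_sum T i
        calc ∑ i, ∑ j, (T.a i j : ℚ) * (a i : ℚ) * (a j : ℚ)
            = ∑ i, (c * c * (T.m i : ℚ)) * ∑ j, (T.a i j : ℚ) * (T.m j : ℚ) := by
              refine Finset.sum_congr rfl (fun i _ => ?_)
              rw [Finset.mul_sum]
              refine Finset.sum_congr rfl (fun j _ => ?_)
              rw [hc i, hc j]
              change _ = c * c * ((Models.mult R (Over.mk p) (Γ i) : ℤ) : ℚ) *
                ((T.a i j : ℚ) * ((Models.mult R (Over.mk p) (Γ j) : ℤ) : ℚ))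
              push_cast
              ring
          _ = 0 := by
              refine Finset.sum_eq_zero (fun i _ => ?_)
              rw [hrow i, mul_zero]
      exact_mod_cast hcast

end Fibre

end Groth.Agent.Lib.R2H4ModMain
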