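import Mathlib
import Groth.Prelude
import Groth.Agent.Lib.R2H4ModMain2
import Groth.Agent.Lib.Helper8Conn
import Groth.Agent.S9705

/-!
# Vertical divisors on arithmetic surfaces (helper4, round 2)

The `ArSurf.IsArithSurface` versions: symmetry for distinct vertical primes, non-negativity against
an effective Cartier divisor, self-intersection through the conormal sheaf, numerical triviality of
the fibre, kernel of the intersection form.
-/

set_option autoImplicit false
set_option linter.style.haveILetI false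
set_option linter.unusedSectionVars false
universe u
open CategoryTheory CategoryTheory.Limits AlgebraicGeometry TopologicalSpace Opposite IsLocalRing

noncomputable section

namespace Groth.Agent.Lib.R2H4ModArith

open Groth.Agent.Lib.R2H4ModSec Groth.Agent.Lib.R2H4ModPull Groth.Agent.Lib.R2H4ModCurve
  Groth.Agent.Lib.R2H4ModSym Groth.Agent.Lib.R2H4ModComp Groth.Agent.Lib.R2H4ModProd
  Groth.Agent.Lib.R2H4ModTriv Groth.Agent.Lib.R2H4ModDeg Groth.Agent.Lib.R2H4ModMain
  Groth.Agent.Lib.R2H1.SpecialFibreProd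

variable {R : Type u} [CommRing R] [IsDomain R] [IsDiscreteValuationRing R]
  {X : Scheme.{u}} {p : X ⟶ Spec (CommRingCat.of R)}

/-- the ideal sheaf of a vertical prime divisor -/
abbrev kerOf (Γ : ArSurf.VertComp R (Over.mk p)) : X.IdealSheafData := Γ.ι.ker

theorem isProper_of_isArithSurface (hX : ArSurf.IsArithSurface R (Over.mk p)) : IsProper p := by
  obtain ⟨-, -, -, -, n, i, hi, hip⟩ := hX
  haveI := hi
  haveI := Groth.Agent.S9705.isProper_toBase n (Spec (CommRingCat.of R))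
  have h : i ≫ CohB1.ProjSpaceOver.toBase n (Spec (CommRingCat.of R)) = p := hip
  rw [← h]
  infer_instance

/-- the underlying set of a vertical prime divisor has dimension one -/
theorem dim_range (Γ : ArSurf.VertComp R (Over.mk p)) :
    topologicalKrullDim (Set.range (Γ.ι.base : Γ.curve.left → X)) = 1 := by
  rw [← Γ.dim_eq]
  exact (IsHomeomorph.topologicalKrullDim_eq _
    (Γ.ι.isEmbedding.toHomeomorph.isHomeomorph)).symm

theorem isIrreducible_range (Γ : ArSurf.VertComp R (Over.mk p)) :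
    IsIrreducible (Set.range (Γ.ι.base : Γ.curve.left → X)) :=
  (IrreducibleSpace.isIrreducible_univ _).image _ Γ.ι.continuous.continuousOn |>
    fun h => by rwa [Set.image_univ] at h

theorem range_eq_of_subset (Γ₁ Γ₂ : ArSurf.VertComp R (Over.mk p))
    (h : Set.range (Γ₁.ι.base : Γ₁.curve.left → X) ⊆ Set.range (Γ₂.ι.base : Γ₂.curve.left → X)) :
    Set.range (Γ₁.ι.base : Γ₁.curve.left → X) = Set.range (Γ₂.ι.base : Γ₂.curve.left → X) := by
  by_contra hne
  have hlt := Groth.Agent.Lib.Helper8.Conn.dim_lt_of_proper_closed (isIrreducible_range Γ₂)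
    Γ₁.ι.isClosedEmbedding.isClosed_range h hne
    (by rw [dim_range]; decide)
  rw [dim_range, dim_range] at hlt
  exact lt_irrefl _ hlt

/-- a vertical prime divisor lies in the closed fibre -/
theorem range_subset_fibre (Γ : ArSurf.VertComp R (Over.mk p)) :
    Set.range (Γ.ι.base : Γ.curve.left → X) ⊆ Models.specialFibreSet R (Over.mk p) := by
  rintro _ ⟨y, rfl⟩
  change p.base (Γ.ι.base y) ∈ ({closedPoint R} : Set _)
  have hw : Γ.ι ≫ p = Γ.curve.hom ≫ qq R := Γ.w
  have h1 : p.base (Γ.ι.base y) = (qq R).base (Γ.curve.hom.base y) := by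
    have := congrArg (fun φ => φ.base y) hw
    simpa using this
  rw [h1]
  exact IsLocalRing.PrimeSpectrum.comap_residue R (Γ.curve.hom.base y)

section Pair

variable [IsProper p] (Γ₁ Γ₂ : ArSurf.VertComp R (Over.mk p))
  (L₁ L₂ : X.Modules) (h₁ : ClSub.IsInverseOf L₁ (ClSub.idealMod Γ₁.ι.ker))
  (h₂ : ClSub.IsInverseOf L₂ (ClSub.idealMod Γ₂.ι.ker))

include h₁ h₂ in
theorem s8730 (hne : Set.range (Γ₁.ι.base : Γ₁.curve.left → X) ≠
      Set.range (Γ₂.ι.base : Γ₂.curve.left → X)) :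
    ArSurf.inter R (Over.mk p) L₂ Γ₁ = ArSurf.inter R (Over.mk p) L₁ Γ₂ := by
  obtain ⟨e₁⟩ := h₁
  obtain ⟨e₂⟩ := h₂
  have hn12 : ¬ Set.range (Γ₁.ι.base : Γ₁.curve.left → X) ⊆ ((kerOf Γ₂).support : Set X) := by
    rw [support_ker_eq_range Γ₂]
    exact fun h => hne (range_eq_of_subset Γ₁ Γ₂ h)
  have hn21 : ¬ Set.range (Γ₂.ι.base : Γ₂.curve.left → X) ⊆ ((kerOf Γ₁).support : Set X) := by
    rw [support_ker_eq_range Γ₁]
    exact fun h => hne (range_eq_of_subset Γ₂ Γ₁ h).symm
  rw [inter_eq_gdim Γ₁ _ L₂ e₂ hn12, inter_eq_gdim Γ₂ _ L₁ e₁ hn21]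
  congr 1
  exact gdim_comap_symm _ p (qq R) Γ₁.ι Γ₂.ι Γ₁.curve.hom Γ₂.curve.hom Γ₁.w Γ₂.w

end Pair

section Single

variable [IsProper p] (Γ : ArSurf.VertComp R (Over.mk p))

theorem s8728 (J : X.IdealSheafData)
    (hΓ : Γ.ι.base (genericPoint ↥Γ.curve.left) ∉ (J.support : Set X))
    (L : X.Modules) (hL : ClSub.IsInverseOf L (ClSub.idealMod J)) :
    0 ≤ ArSurf.inter R (Over.mk p) L Γ ∧
      (ArSurf.inter R (Over.mk p) L Γ = 0 ↔
        Disjoint (Set.range (Γ.ι.base : Γ.curve.left → X)) (J.support : Set X)) := by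
  obtain ⟨e⟩ := hL
  have hne : ¬ Set.range (Γ.ι.base : Γ.curve.left → X) ⊆ (J.support : Set X) :=
    fun h => hΓ (h ⟨_, rfl⟩)
  exact ⟨inter_nonneg Γ J L e hne, inter_eq_zero_iff Γ J L e hne⟩

theorem s8729 (L : X.Modules) (hL : ClSub.IsInverseOf L (ClSub.idealMod Γ.ι.ker)) :
    ArSurf.inter R (Over.mk p) L Γ =
      - ArSurf.curveDeg (ResidueField R) Γ.curve.left (Omega.conormal Γ.ι) := by
  haveI := isProper_curve Γ
  obtain ⟨e⟩ := hL
  have hLi : PicF.IsInvertible L := isInvertible_of_iso _ L e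
  have hMi : PicF.IsInvertible (ClSub.idealMod Γ.ι.ker) :=
    Groth.Agent.Lib.R2H3.NegTwist.isInvertible_of_isInverseOf L _ ⟨e⟩
  let ιΓ : Γ.curve.left ⟶ X := Γ.ι
  obtain ⟨τ⟩ := Groth.Agent.Lib.Helper23.PB.nonempty_pullback_tensorMod_iso ιΓ L
    (ClSub.idealMod Γ.ι.ker) hLi hMi
  have h1 := Groth.Agent.Lib.R2H1.CurveAmple.deg_tensorMod (ResidueField R) Γ.curve.left Γ.dim_eq
    _ _ (Groth.Agent.Lib.Helper23.PB.isInvertible_pullback ιΓ L hLi)
    (Groth.Agent.Lib.Helper23.PB.isInvertible_pullback ιΓ _ hMi)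
  have h2 := deg_congr (ResidueField R) Γ.curve.left τ
  have h3 := deg_congr (ResidueField R) Γ.curve.left ((Scheme.Modules.pullback ιΓ).mapIso e)
  have h4 := deg_congr (ResidueField R) Γ.curve.left
    (Groth.Agent.Lib.Helper23.PB.pullbackUnitIso ιΓ)
  have h5 := deg_structure (ResidueField R) Γ.curve.left
  have h6 : ArSurf.inter R (Over.mk p) L Γ =
      @Curv2.deg (ResidueField R) _ Γ.curve.left _ ((Scheme.Modules.pullback ιΓ).obj L) 1 :=
    inter_eq_deg Γ L
  have h7 : ArSurf.curveDeg (ResidueField R) Γ.curve.left (Omega.conormal Γ.ι) =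
      @Curv2.deg (ResidueField R) _ Γ.curve.left _
        ((Scheme.Modules.pullback ιΓ).obj (ClSub.idealMod Γ.ι.ker)) 1 :=
    curveDeg_eq_deg _ _ Γ.dim_eq.le _
  rw [h6, h7]
  linarith

end Single

section List

variable {n : ℕ} (Γ : Fin n → ArSurf.VertComp R (Over.mk p))
  (L : Fin n → X.Modules)
  (hL : ∀ i, ClSub.IsInverseOf (L i) (ClSub.idealMod (Γ i).ι.ker))

/-- distinct vertical primes covering the closed fibre are its components -/
theorem isComponentList_of_cover
    (hdist : Function.Injective fun i => Set.range ((Γ i).ι.base : (Γ i).curve.left → X))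
    (hcov : ∀ x : X, p.base x = closedPoint R →
      ∃ i, x ∈ Set.range ((Γ i).ι.base : (Γ i).curve.left → X)) :
    Models.IsComponentList R (Over.mk p) Γ := by
  classical
  refine ⟨hdist, ?_⟩
  have hclosed : ∀ l, IsClosed (rg Γ l) := fun l => (Γ l).ι.isClosedEmbedding.isClosed_range
  -- an irreducible subset of the fibre lies in one of the `Γ l`
  have hkey : ∀ S : Set X, IsIrreducible S → S ⊆ Models.specialFibreSet R (Over.mk p) →
      ∃ l, S ⊆ rg Γ l := by
    intro S hS hSf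
    have hsub : S ⊆ ⋃₀ ((Finset.univ.image (rg Γ) : Finset (Set X)) : Set (Set X)) := by
      intro x hx
      obtain ⟨l, hl⟩ := hcov x (hSf hx)
      exact Set.mem_sUnion.2 ⟨rg Γ l, by simp, hl⟩
    obtain ⟨z, hz, hSz⟩ := (isIrreducible_iff_sUnion_isClosed.1 hS) (Finset.univ.image (rg Γ))
      (by
        intro z hz
        obtain ⟨l, -, rfl⟩ := Finset.mem_image.1 hz
        exact hclosed l) hsub
    obtain ⟨l, -, rfl⟩ := Finset.mem_image.1 hz
    exact ⟨l, hSz⟩
  ext Z
  constructor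
  · rintro ⟨i, rfl⟩
    refine ⟨⟨isIrreducible_range (Γ i), range_subset_fibre (Γ i)⟩, ?_⟩
    rintro S ⟨hS, hSf⟩ hle
    obtain ⟨l, hl⟩ := hkey S hS hSf
    have h1 : rg Γ i = rg Γ l := range_eq_of_subset (Γ i) (Γ l) (hle.trans hl)
    change S ⊆ rg Γ i
    rw [h1]
    exact hl
  · rintro ⟨⟨hZ, hZf⟩, hmax⟩
    obtain ⟨l, hl⟩ := hkey Z hZ hZf
    refine ⟨l, ?_⟩
    have h2 : rg Γ l ⊆ Z :=
      hmax ⟨isIrreducible_range (Γ l), range_subset_fibre (Γ l)⟩ hl
    exact Set.Subset.antisymm h2 hl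

include hL in
/-- the kernel of the intersection form is spanned by the fibre -/
theorem s8727 [IsProper p] [Flat p] (hreg : ∀ x : X, IsRegularLocalRing (X.presheaf.stalk x))
    (hdist : Function.Injective fun i => Set.range ((Γ i).ι.base : (Γ i).curve.left → X))
    (hcov : ∀ x : X, p.base x = closedPoint R →
      ∃ i, x ∈ Set.range ((Γ i).ι.base : (Γ i).curve.left → X))
    (hconn : _root_.IsPreconnected (Models.specialFibreSet R (Over.mk p))) (a : Fin n → ℤ) :
    (∀ i, ∑ j, a j * ArSurf.inter R (Over.mk p) (L j) (Γ i) = 0) ↔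
      ∃ c : ℚ, ∀ i, (a i : ℚ) = c * (Models.mult R (Over.mk p) (Γ i) : ℚ) := by
  have hΓ := isComponentList_of_cover Γ hdist hcov
  haveI : IsLocallyNoetherian X := LocallyOfFiniteType.isLocallyNoetherian p
  haveI : CompactSpace X := QuasiCompact.compactSpace_of_compactSpace p
  haveI : IsNoetherian X := {}
  have h20 := s3320 Γ hΓ L hL hreg hconn a
  constructor
  · intro h
    apply h20.2.1
    rw [Fintype.sum_prod_type]
    refine Finset.sum_eq_zero (fun i _ => ?_)
    have hi := h i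
    calc ∑ j, a i * a j * ArSurf.inter R (Over.mk p) (L j) (Γ i)
        = a i * ∑ j, a j * ArSurf.inter R (Over.mk p) (L j) (Γ i) := by
          rw [Finset.mul_sum]
          exact Finset.sum_congr rfl (fun j _ => by ring)
      _ = 0 := by rw [hi, mul_zero]
  · rintro ⟨c, hc⟩ i
    have h21 := s7921 Γ hΓ L hL hreg i
    have h21q : ∑ j, (Models.mult R (Over.mk p) (Γ j) : ℚ) *
        (ArSurf.inter R (Over.mk p) (L j) (Γ i) : ℚ) = 0 := by
      exact_mod_cast h21
    have key : ((∑ j, a j * ArSurf.inter R (Over.mk p) (L j) (Γ i) : ℤ) : ℚ) = 0 := by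
      push_cast
      calc ∑ j, (a j : ℚ) * (ArSurf.inter R (Over.mk p) (L j) (Γ i) : ℚ)
          = c * ∑ j, (Models.mult R (Over.mk p) (Γ j) : ℚ) *
              (ArSurf.inter R (Over.mk p) (L j) (Γ i) : ℚ) := by
            rw [Finset.mul_sum]
            exact Finset.sum_congr rfl (fun j _ => by rw [hc j]; ring)
        _ = 0 := by rw [h21q, mul_zero]
    exact_mod_cast key

end List

end Groth.Agent.Lib.R2H4ModArith
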