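import Mathlib
import Groth.Prelude
import Groth.Agent.Lib.R2H4ModArith
import Groth.Agent.Lib.Helper23PB
import Groth.Agent.Lib.Helper23SecTw3
import Groth.Agent.Lib.Helper20WeakAss

/-!
# The pullback of an invertible module has degree zero on a contracted curve (helper4, round 2)
-/

set_option autoImplicit false
set_option linter.style.haveILetI false
set_option linter.unusedSectionVars false
universe u
open CategoryTheory CategoryTheory.Limits AlgebraicGeometry TopologicalSpace Opposite IsLocalRing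

noncomputable section

namespace Groth.Agent.Lib.R2H4ModContr

open Groth.Agent.Lib.Helper23.GenLocus Groth.Agent.Lib.Helper6 Groth.Agent.Lib.Helper23.AmpleIso
open Groth.Agent.Lib.Helper23.Extend Groth.Agent.Lib.Helper23.SecTw
open Groth.Agent.Helper13PullbackUnit
open Groth.Agent.Lib.R2H4ModComp Groth.Agent.Lib.R2H4ModDeg

/-- the pullback of an invertible module along a morphism with one-point image is trivial -/
theorem nonempty_iso_of_range_subset {E Y : Scheme.{u}} (g : E ⟶ Y) (y : Y)
    (hg : Set.range g.base ⊆ {y}) (M : Y.Modules) (hM : PicF.IsInvertible M) :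
    Nonempty (Coh.structureModule E ≅ (Scheme.Modules.pullback g).obj M) := by
  haveI : M.IsQuasicoherent :=
    Groth.Agent.Lib.Helper20.WeakAss.isQuasicoherent_of_isInvertible M hM
  obtain ⟨W, e, hyW, hW, he⟩ := Groth.Agent.Lib.Helper23.PB.exists_affine_gen M hM y
  have htop : (⊤ : E.Opens) ≤ g ⁻¹ᵁ W := fun x _ => by
    have hx : g.base x = y := hg ⟨x, rfl⟩
    change g.base x ∈ W
    rw [hx]
    exact hyW
  have h1 := Groth.Agent.Lib.Helper23.PB.isGen_unitSec g M hW e he
  have h2 := h1.mono htop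
  set N := (Scheme.Modules.pullback g).obj M with hN
  set σ : Γ(N, ⊤) := res N htop (unitSec g M le_rfl e) with hσ
  have h3 : CohB1.genLocus N (secHom N σ) ⊓ ⊤ = E.basicOpen (1 : Γ(E, ⊤)) :=
    genLocus_inf_eq_of_isGen N (secHom N σ) ⊤ σ 1 h2 (by rw [sv_secHom, res_self, one_smul])
  have h4 : CohB1.genLocus N (secHom N σ) = ⊤ := by
    rw [inf_top_eq] at h3
    rw [h3]
    exact E.basicOpen_of_isUnit isUnit_one
  haveI : IsIso (secHom N σ) :=
    (Groth.Agent.Lib.H9YBlowUp.isIso_iff_genLocus_eq_top N (secHom N σ)).2 h4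
  exact ⟨asIso (secHom N σ)⟩

variable {R : Type u} [CommRing R] [IsDomain R] [IsDiscreteValuationRing R]
  {X : Scheme.{u}} {p : X ⟶ Spec (CommRingCat.of R)} [IsProper p]
  (Γ : ArSurf.VertComp R (Over.mk p))

theorem inter_eq_zero_of_iso (N : X.Modules)
    (e : Coh.structureModule Γ.curve.left ≅ (Scheme.Modules.pullback Γ.ι).obj N) :
    ArSurf.inter R (Over.mk p) N Γ = 0 := by
  haveI := isProper_curve Γ
  rw [inter_eq_deg]
  exact (deg_congr (ResidueField R) Γ.curve.left e.symm).trans
    (deg_structure (ResidueField R) Γ.curve.left)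

/-- **S7935** -/
theorem s7935 {Y : Scheme.{u}} (f : X ⟶ Y) (y : Y)
    (hE : Set.range ((Γ.ι ≫ f).base : Γ.curve.left → Y) = {y})
    (M : Y.Modules) (hM : PicF.IsInvertible M) :
    ArSurf.inter R (Over.mk p) ((Scheme.Modules.pullback f).obj M) Γ = 0 := by
  let ιΓ : Γ.curve.left ⟶ X := Γ.ι
  obtain ⟨φ⟩ := nonempty_iso_of_range_subset (ιΓ ≫ f) y hE.le M hM
  exact inter_eq_zero_of_iso Γ _ (φ ≪≫ ((Scheme.Modules.pullbackComp ιΓ f).app M).symm)

end Groth.Agent.Lib.R2H4ModContr
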