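import Mathlib
import Groth.Prelude
import Groth.Agent.Lib.R2H4ModContr
import Groth.Agent.Lib.R2H1DegPullback
import Groth.Agent.Lib.Helper11RedCl
import Groth.Agent.Lib.Helper7Dim
import Groth.Agent.Lib.Helper10CurveFin

/-!
# Numerical equivalence is preserved by pullback (helper4, round 2)
-/

set_option autoImplicit false
set_option linter.style.haveILetI false
set_option linter.unusedSectionVars false
universe u
open CategoryTheory CategoryTheory.Limits AlgebraicGeometry TopologicalSpace Opposite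

noncomputable section

namespace Groth.Agent.Lib.R2H4NumEqPull

open Groth.Agent.Lib.R2H4ModDeg

variable (k : Type u) [Field k]

/-- the degree of a module on a curve given with its structure morphism -/
theorem curveDeg_eq_deg {Y : Scheme.{u}} (q : Y ⟶ Spec (CommRingCat.of k)) [IsProper q]
    (hdim : topologicalKrullDim Y ≤ 1) (M : Y.Modules) :
    Pic13.curveDeg k q M = @Curv2.deg k _ Y ⟨q⟩ M 1 := by
  letI : Y.Over (Spec (CommRingCat.of k)) := ⟨q⟩
  haveI : IsProper (Y ↘ Spec (CommRingCat.of k)) := inferInstanceAs (IsProper q)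
  exact Groth.Agent.Lib.R2H4ModCurve.curveDeg_eq_deg k Y hdim M

theorem curveDeg_congr {Y : Scheme.{u}} (q : Y ⟶ Spec (CommRingCat.of k)) [IsProper q]
    (hdim : topologicalKrullDim Y ≤ 1) {M N : Y.Modules} (e : M ≅ N) :
    Pic13.curveDeg k q M = Pic13.curveDeg k q N := by
  letI : Y.Over (Spec (CommRingCat.of k)) := ⟨q⟩
  haveI : IsProper (Y ↘ Spec (CommRingCat.of k)) := inferInstanceAs (IsProper q)
  rw [curveDeg_eq_deg k q hdim, curveDeg_eq_deg k q hdim]
  exact deg_congr k Y e

theorem curveDeg_structure {Y : Scheme.{u}} (q : Y ⟶ Spec (CommRingCat.of k)) [IsProper q]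
    (hdim : topologicalKrullDim Y ≤ 1) :
    Pic13.curveDeg k q (Coh.structureModule Y) = 0 := by
  letI : Y.Over (Spec (CommRingCat.of k)) := ⟨q⟩
  haveI : IsProper (Y ↘ Spec (CommRingCat.of k)) := inferInstanceAs (IsProper q)
  rw [curveDeg_eq_deg k q hdim]
  exact deg_structure k Y

section Main

variable (X : Scheme.{u}) [X.Over (Spec (CommRingCat.of k))]
  [IsProper (X ↘ Spec (CommRingCat.of k))]
  (L N : X.Modules) (hL : PicF.IsInvertible L) (hN : PicF.IsInvertible N)
  (hnum : ∀ (Y : Scheme.{u}) (ι : Y ⟶ X) [IsClosedImmersion ι], IsIntegral Y →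
    topologicalKrullDim Y = 1 →
    Pic13.curveDeg k (ι ≫ (X ↘ Spec (CommRingCat.of k))) ((Scheme.Modules.pullback ι).obj L) =
      Pic13.curveDeg k (ι ≫ (X ↘ Spec (CommRingCat.of k))) ((Scheme.Modules.pullback ι).obj N))

/-- the degree of the pullback of `L` along a morphism from an integral proper curve:
either zero, or a multiple of the degree on the image curve -/
theorem exists_curveDeg_pullback {Y : Scheme.{u}} [IsIntegral Y] (hY : topologicalKrullDim Y = 1)
    (h : Y ⟶ X) [IsProper (h ≫ (X ↘ Spec (CommRingCat.of k)))] :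
    (∀ M : X.Modules, PicF.IsInvertible M →
      Pic13.curveDeg k (h ≫ (X ↘ Spec (CommRingCat.of k)))
        ((Scheme.Modules.pullback h).obj M) = 0) ∨
    ∃ (Y₀ : Scheme.{u}) (ι₀ : Y₀ ⟶ X) (_ : IsClosedImmersion ι₀) (_ : IsIntegral Y₀)
      (_ : topologicalKrullDim Y₀ = 1) (c : ℤ),
      ∀ M : X.Modules, PicF.IsInvertible M →
        Pic13.curveDeg k (h ≫ (X ↘ Spec (CommRingCat.of k)))
          ((Scheme.Modules.pullback h).obj M) =
        c * Pic13.curveDeg k (ι₀ ≫ (X ↘ Spec (CommRingCat.of k)))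
          ((Scheme.Modules.pullback ι₀).obj M) := by
  classical
  haveI : IsProper h := IsProper.of_comp h (X ↘ Spec (CommRingCat.of k))
  by_cases hpt : ∃ x : X, Set.range h.base ⊆ {x}
  · left
    obtain ⟨x, hx⟩ := hpt
    intro M hM
    obtain ⟨φ⟩ := Groth.Agent.Lib.R2H4ModContr.nonempty_iso_of_range_subset h x hx M hM
    rw [← curveDeg_congr k _ hY.le φ]
    exact curveDeg_structure k _ hY.le
  · right
    let Zc : Closeds X := ⟨Set.range h.base, h.isClosedMap.isClosed_range⟩
    let I₀ := Scheme.IdealSheafData.vanishingIdeal Zc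
    let Y₀ : Scheme.{u} := I₀.subscheme
    let ι₀ : Y₀ ⟶ X := I₀.subschemeι
    obtain ⟨h₀, hh₀⟩ := Groth.Agent.Lib.Helper11RedCl.exists_lift_of_range_subset h Zc
      (le_refl _)
    have hrange : Set.range ι₀.base = Set.range h.base :=
      Groth.Agent.Lib.Helper11RedCl.range_subschemeι_vanishingIdeal Zc
    -- `h₀` is surjective
    have hsurj : Function.Surjective h₀.base := by
      intro y₀
      have : ι₀.base y₀ ∈ Set.range h.base := hrange ▸ ⟨y₀, rfl⟩
      obtain ⟨y, hy⟩ := this
      refine ⟨y, ι₀.isEmbedding.injective ?_⟩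
      rw [← hy, ← hh₀]
      rfl
    haveI : IsReduced Y₀ :=
      Groth.Agent.Lib.Helper11RedCl.isReduced_subscheme_vanishingIdeal Zc
    haveI : IrreducibleSpace Y₀ := by
      have hirr : IsIrreducible (Set.univ : Set Y₀) := by
        have := (IrreducibleSpace.isIrreducible_univ Y).image h₀.base
          h₀.continuous.continuousOn
        rwa [Set.image_univ, Set.range_eq_univ.2 hsurj] at this
      exact (irreducibleSpace_def Y₀).2 hirr
    haveI : IsIntegral Y₀ := isIntegral_of_irreducibleSpace_of_isReduced Y₀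
    haveI : IsProper (ι₀ ≫ (X ↘ Spec (CommRingCat.of k))) := inferInstance
    haveI : IsProper h₀ := by
      haveI : IsProper (h₀ ≫ ι₀) := by rw [hh₀]; infer_instance
      exact IsProper.of_comp h₀ ι₀
    -- dimension of `Y₀`
    have hle : topologicalKrullDim Y₀ ≤ 1 := by
      rw [← hY]
      exact Groth.Agent.Lib.Helper7.topologicalKrullDim_le_of_specializingMap h₀.base hsurj
        h₀.isClosedMap.specializingMap
    have hge : 1 ≤ topologicalKrullDim Y₀ := by
      by_contra hlt
      apply hpt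
      -- all points of `Y₀` coincide with the generic point
      refine ⟨ι₀.base (genericPoint Y₀), ?_⟩
      rw [← hrange]
      rintro _ ⟨a, rfl⟩
      by_contra hane
      apply hlt
      refine Groth.Agent.Lib.Helper10.CurveFin.one_le_topologicalKrullDim_of_specializes
        (a := a) (b := genericPoint Y₀) (genericPoint_specializes a) ?_
      intro hab
      apply hane
      have : a = genericPoint Y₀ := ((genericPoint_specializes a).antisymm hab).symm.eq
      rw [this]
      rfl
    have hY₀ : topologicalKrullDim Y₀ = 1 := le_antisymm hle hge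
    letI : Y.Over (Spec (CommRingCat.of k)) := ⟨h ≫ (X ↘ Spec (CommRingCat.of k))⟩
    letI : Y₀.Over (Spec (CommRingCat.of k)) := ⟨ι₀ ≫ (X ↘ Spec (CommRingCat.of k))⟩
    haveI : IsProper (Y ↘ Spec (CommRingCat.of k)) :=
      inferInstanceAs (IsProper (h ≫ (X ↘ Spec (CommRingCat.of k))))
    haveI : IsProper (Y₀ ↘ Spec (CommRingCat.of k)) :=
      inferInstanceAs (IsProper (ι₀ ≫ (X ↘ Spec (CommRingCat.of k))))
    have hover : h₀ ≫ (Y₀ ↘ Spec (CommRingCat.of k)) = Y ↘ Spec (CommRingCat.of k) := by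
      change h₀ ≫ ι₀ ≫ (X ↘ Spec (CommRingCat.of k)) = h ≫ (X ↘ Spec (CommRingCat.of k))
      rw [← Category.assoc, hh₀]
    have hgen : h₀.base (genericPoint Y) = genericPoint Y₀ := by
      have h1 := (genericPoint_spec Y).image h₀.continuous
      rw [Set.image_univ, Set.range_eq_univ.2 hsurj, closure_univ] at h1
      exact (genericPoint_spec Y₀).eq h1 |>.symm
    refine ⟨Y₀, ι₀, inferInstance, inferInstance, hY₀,
      (h₀.residueDegree (genericPoint Y) : ℤ), ?_⟩
    intro M hM
    have hM₀ := Groth.Agent.Lib.Helper23.PB.isInvertible_pullback ι₀ M hM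
    have key := Groth.Agent.Lib.R2H1.DegPullback.s7640 k Y Y₀ hY hY₀ h₀ hover hgen 1
      ((Scheme.Modules.pullback ι₀).obj M)
      (Groth.Agent.Lib.Helper23.SecTw.isFinLocFreeOfRank_one_of_isInvertible _ hM₀)
    have e : (Scheme.Modules.pullback h).obj M ≅
        (Scheme.Modules.pullback h₀).obj ((Scheme.Modules.pullback ι₀).obj M) :=
      ((Scheme.Modules.pullbackCongr hh₀).app M).symm ≪≫
        ((Scheme.Modules.pullbackComp h₀ ι₀).app M).symm
    rw [curveDeg_congr k _ hY.le e, curveDeg_eq_deg k _ hY.le, curveDeg_eq_deg k _ hY₀.le]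
    exact key

include hL hN hnum in
/-- numerically equivalent modules have the same degree on every curve mapping to `X` -/
theorem curveDeg_pullback_eq {Y : Scheme.{u}} [IsIntegral Y] (hY : topologicalKrullDim Y = 1)
    (h : Y ⟶ X) [IsProper (h ≫ (X ↘ Spec (CommRingCat.of k)))] :
    Pic13.curveDeg k (h ≫ (X ↘ Spec (CommRingCat.of k))) ((Scheme.Modules.pullback h).obj L) =
      Pic13.curveDeg k (h ≫ (X ↘ Spec (CommRingCat.of k)))
        ((Scheme.Modules.pullback h).obj N) := by
  rcases exists_curveDeg_pullback k X hY h with h0 | ⟨Y₀, ι₀, hι₀, hint, hdim, c, hc⟩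
  · rw [h0 L hL, h0 N hN]
  · rw [hc L hL, hc N hN, hnum Y₀ ι₀ hint hdim]

end Main

section S11749

variable (X X' : Scheme.{u})
  [X.Over (Spec (CommRingCat.of k))] [X'.Over (Spec (CommRingCat.of k))]
  [IsProper (X ↘ Spec (CommRingCat.of k))] [IsProper (X' ↘ Spec (CommRingCat.of k))]
  (g : X' ⟶ X) (hg : g ≫ (X ↘ Spec (CommRingCat.of k)) = X' ↘ Spec (CommRingCat.of k))
  (L N : X.Modules) (hL : PicF.IsInvertible L) (hN : PicF.IsInvertible N)
  (hnum : ∀ (Y : Scheme.{u}) (ι : Y ⟶ X) [IsClosedImmersion ι], IsIntegral Y →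
    topologicalKrullDim Y = 1 →
    Pic13.curveDeg k (ι ≫ (X ↘ Spec (CommRingCat.of k))) ((Scheme.Modules.pullback ι).obj L) =
      Pic13.curveDeg k (ι ≫ (X ↘ Spec (CommRingCat.of k))) ((Scheme.Modules.pullback ι).obj N))

include hg hL hN hnum in
theorem s11749 (Y : Scheme.{u}) (ι : Y ⟶ X') [IsClosedImmersion ι] (hint : IsIntegral Y)
    (hY : topologicalKrullDim Y = 1) :
    Pic13.curveDeg k (ι ≫ (X' ↘ Spec (CommRingCat.of k)))
        ((Scheme.Modules.pullback ι).obj ((Scheme.Modules.pullback g).obj L)) =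
      Pic13.curveDeg k (ι ≫ (X' ↘ Spec (CommRingCat.of k)))
        ((Scheme.Modules.pullback ι).obj ((Scheme.Modules.pullback g).obj N)) := by
  haveI := hint
  have hcomp : (ι ≫ g) ≫ (X ↘ Spec (CommRingCat.of k)) =
      ι ≫ (X' ↘ Spec (CommRingCat.of k)) := by
    rw [Category.assoc, hg]
  haveI : IsProper (ι ≫ (X' ↘ Spec (CommRingCat.of k))) := inferInstance
  haveI : IsProper ((ι ≫ g) ≫ (X ↘ Spec (CommRingCat.of k))) := by
    rw [hcomp]; infer_instance
  have key := curveDeg_pullback_eq k X L N hL hN hnum hY (ι ≫ g)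
  have eL : (Scheme.Modules.pullback ι).obj ((Scheme.Modules.pullback g).obj L) ≅
      (Scheme.Modules.pullback (ι ≫ g)).obj L := (Scheme.Modules.pullbackComp ι g).app L
  have eN : (Scheme.Modules.pullback ι).obj ((Scheme.Modules.pullback g).obj N) ≅
      (Scheme.Modules.pullback (ι ≫ g)).obj N := (Scheme.Modules.pullbackComp ι g).app N
  rw [curveDeg_congr k _ hY.le eL, curveDeg_congr k _ hY.le eN]
  have hkey : ∀ M : X.Modules,
      Pic13.curveDeg k (ι ≫ (X' ↘ Spec (CommRingCat.of k)))
        ((Scheme.Modules.pullback (ι ≫ g)).obj M) =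
      Pic13.curveDeg k ((ι ≫ g) ≫ (X ↘ Spec (CommRingCat.of k)))
        ((Scheme.Modules.pullback (ι ≫ g)).obj M) := by
    intro M
    congr 1
    exact hcomp.symm
  change Pic13.curveDeg k (ι ≫ (X' ↘ Spec (CommRingCat.of k)))
      ((Scheme.Modules.pullback (ι ≫ g)).obj L) =
    Pic13.curveDeg k (ι ≫ (X' ↘ Spec (CommRingCat.of k)))
      ((Scheme.Modules.pullback (ι ≫ g)).obj N)
  rw [hkey L, hkey N]
  exact key

end S11749

end Groth.Agent.Lib.R2H4NumEqPull
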