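import Mathlib
import Groth.Prelude
import Groth.Agent.Lib.R2H4NumEqPull
import Groth.Agent.Lib.Helper4IrrFib
import Groth.Agent.Lib.Helper4VarDim11
import Groth.Agent.Lib.Helper6EquiSubB
import Groth.Agent.Lib.Helper20ResMap

/-!
# Numerical equivalence descends along a surjective morphism (helper4, round 2)
-/

set_option autoImplicit false
set_option linter.style.haveILetI false
set_option linter.unusedSectionVars false
universe u
open CategoryTheory CategoryTheory.Limits AlgebraicGeometry TopologicalSpace Opposite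

noncomputable section

namespace Groth.Agent.Lib.R2H4NumEqDesc

open Groth.Agent.Lib.R2H4NumEqPull Groth.Agent.Lib.R2H4ModDeg
  Groth.Agent.Lib.Helper4.VarDim Groth.Agent.Lib.Helper4.IrrFib

variable (k : Type u) [Field k]

section Point

variable {X X' : Scheme.{u}}
  [X.Over (Spec (CommRingCat.of k))] [X'.Over (Spec (CommRingCat.of k))]
  [LocallyOfFiniteType (X ↘ Spec (CommRingCat.of k))]
  [LocallyOfFiniteType (X' ↘ Spec (CommRingCat.of k))]

/-- a point of a non-empty fibre which is closed in the fibre: same transcendence degree -/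
theorem exists_point_trdegNat_eq (g : X' ⟶ X)
    (hg : g ≫ (X ↘ Spec (CommRingCat.of k)) = X' ↘ Spec (CommRingCat.of k)) [QuasiCompact g]
    (η : X) (hη : η ∈ Set.range g.base) :
    ∃ x' : X', g.base x' = η ∧ trdegNat k X' x' = trdegNat k X η := by
  haveI : LocallyOfFiniteType g := by
    haveI : LocallyOfFiniteType (g ≫ (X ↘ Spec (CommRingCat.of k))) := by rw [hg]; infer_instance
    exact locallyOfFiniteType_of_comp g (X ↘ Spec (CommRingCat.of k))
  obtain ⟨x0, hx0⟩ := hη
  let z0 : g.fiber η := (g.fiberHomeo η).symm ⟨x0, hx0⟩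
  obtain ⟨z, -, hz⟩ := IsClosed.exists_closed_singleton (X := g.fiber η) isClosed_univ
    ⟨z0, trivial⟩
  have hgz : g.base (g.fiberι η z) = η := by
    have : g.fiberι η z ∈ g.base ⁻¹' {η} := by
      rw [← g.range_fiberι η]
      exact ⟨z, rfl⟩
    exact this
  refine ⟨g.fiberι η z, hgz, ?_⟩
  letI : (g.fiber η).Over (Spec (CommRingCat.of (X.residueField η))) :=
    ⟨g.fiberToSpecResidueField η⟩
  haveI : LocallyOfFiniteType ((g.fiber η) ↘ Spec (CommRingCat.of (X.residueField η))) :=
    MorphismProperty.pullback_snd _ _ inferInstance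
  have h1 := trdegNat_eq_add_fiber k g hg η z _ rfl
  have h2 := trdegNat_eq_zero_of_isClosed (X.residueField η) (g.fiber η) z hz
  rw [h1, h2, add_zero, hgz]

end Point

section Curve

variable {X' : Scheme.{u}} [X'.Over (Spec (CommRingCat.of k))]
  [LocallyOfFiniteType (X' ↘ Spec (CommRingCat.of k))]

/-- the closure of a point, with its reduced structure -/
theorem exists_closed_integral (x' : X') :
    ∃ (Y' : Scheme.{u}) (ι' : Y' ⟶ X') (_ : IsClosedImmersion ι') (_ : IsIntegral Y'),
      Set.range ι'.base = closure {x'} ∧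
      topologicalKrullDim Y' = ((trdegNat k X' x' : ℕ) : WithBot ℕ∞) := by
  let Zc : Closeds X' := ⟨closure {x'}, isClosed_closure⟩
  let I := Scheme.IdealSheafData.vanishingIdeal Zc
  haveI : IrreducibleSpace ↥I.subscheme :=
    Groth.Agent.Lib.Helper6.EquiSub.irreducibleSpace_subscheme (X' := Zc) x' rfl
  haveI : IsReduced I.subscheme :=
    Groth.Agent.Lib.Helper11RedCl.isReduced_subscheme_vanishingIdeal Zc
  have hrange : Set.range I.subschemeι.base = closure {x'} :=
    Groth.Agent.Lib.Helper11RedCl.range_subschemeι_vanishingIdeal Zc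
  refine ⟨I.subscheme, I.subschemeι, inferInstance,
    isIntegral_of_irreducibleSpace_of_isReduced _, hrange, ?_⟩
  rw [← topologicalKrullDim_closure_singleton k X' x', ← hrange]
  exact IsHomeomorph.topologicalKrullDim_eq _
    (I.subschemeι.isEmbedding.toHomeomorph).isHomeomorph

end Curve

section Deg

variable (X : Scheme.{u}) [X.Over (Spec (CommRingCat.of k))]
  [IsProper (X ↘ Spec (CommRingCat.of k))]

/-- the degree of the pullback along a morphism from an integral proper curve onto a given
integral closed curve: a positive multiple of the degree on that curve -/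
theorem exists_pos_curveDeg_pullback {Y' Y : Scheme.{u}} [IsIntegral Y'] [IsIntegral Y]
    (hY' : topologicalKrullDim Y' = 1) (hY : topologicalKrullDim Y = 1)
    (h : Y' ⟶ X) [IsProper (h ≫ (X ↘ Spec (CommRingCat.of k)))]
    (ι : Y ⟶ X) [IsClosedImmersion ι] (hr : Set.range h.base = Set.range ι.base) :
    ∃ c : ℤ, 0 < c ∧ ∀ M : X.Modules, PicF.IsInvertible M →
      Pic13.curveDeg k (h ≫ (X ↘ Spec (CommRingCat.of k)))
          ((Scheme.Modules.pullback h).obj M) =
        c * Pic13.curveDeg k (ι ≫ (X ↘ Spec (CommRingCat.of k)))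
          ((Scheme.Modules.pullback ι).obj M) := by
  classical
  haveI : IsProper h := IsProper.of_comp h (X ↘ Spec (CommRingCat.of k))
  have hker : ι.ker ≤ h.ker := by
    rw [Groth.Agent.Lib.Helper11RedCl.ker_eq_of_isReduced ι,
      Groth.Agent.Lib.Helper11RedCl.ker_eq_of_isReduced h]
    apply le_of_eq
    congr 2
    exact hr.symm
  let h₀ : Y' ⟶ Y := IsClosedImmersion.lift ι h hker
  have hh₀ : h₀ ≫ ι = h := IsClosedImmersion.lift_fac ι h hker
  have hsurj : Function.Surjective h₀.base := by
    intro y₀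
    have : ι.base y₀ ∈ Set.range h.base := hr ▸ ⟨y₀, rfl⟩
    obtain ⟨y, hy⟩ := this
    refine ⟨y, ι.isEmbedding.injective ?_⟩
    rw [← hy, ← hh₀]
    rfl
  haveI : IsProper (ι ≫ (X ↘ Spec (CommRingCat.of k))) := inferInstance
  haveI : IsProper h₀ := by
    haveI : IsProper (h₀ ≫ ι) := by rw [hh₀]; infer_instance
    exact IsProper.of_comp h₀ ι
  letI : Y'.Over (Spec (CommRingCat.of k)) := ⟨h ≫ (X ↘ Spec (CommRingCat.of k))⟩
  letI : Y.Over (Spec (CommRingCat.of k)) := ⟨ι ≫ (X ↘ Spec (CommRingCat.of k))⟩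
  haveI : IsProper (Y' ↘ Spec (CommRingCat.of k)) :=
    inferInstanceAs (IsProper (h ≫ (X ↘ Spec (CommRingCat.of k))))
  haveI : IsProper (Y ↘ Spec (CommRingCat.of k)) :=
    inferInstanceAs (IsProper (ι ≫ (X ↘ Spec (CommRingCat.of k))))
  have hover : h₀ ≫ (Y ↘ Spec (CommRingCat.of k)) = Y' ↘ Spec (CommRingCat.of k) := by
    change h₀ ≫ ι ≫ (X ↘ Spec (CommRingCat.of k)) = h ≫ (X ↘ Spec (CommRingCat.of k))
    rw [← Category.assoc, hh₀]
  have hgen : h₀.base (genericPoint Y') = genericPoint Y := by
    have h1 := (genericPoint_spec Y').image h₀.continuous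
    rw [Set.image_univ, Set.range_eq_univ.2 hsurj, closure_univ] at h1
    exact (genericPoint_spec Y).eq h1 |>.symm
  haveI : IsFinite h₀ :=
    Groth.Agent.Lib.R2H1.DegPullback.isFinite_of_nonconstant k Y' Y hY' hY h₀ hover hgen
  have hpos : 0 < h₀.residueDegree (genericPoint Y') := by
    have hfin := Groth.Agent.Lib.Helper20.ResFld.finite_residueFieldMap_of_quasiFiniteAt h₀
      (genericPoint Y') (h₀.quasiFiniteAt _)
    unfold Scheme.Hom.residueDegree
    letI := (h₀.residueFieldMap (genericPoint Y')).hom.toAlgebra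
    haveI : Module.Finite (Y.residueField (h₀.base (genericPoint Y')))
        (Y'.residueField (genericPoint Y')) := hfin
    exact Module.finrank_pos
  refine ⟨(h₀.residueDegree (genericPoint Y') : ℤ), by exact_mod_cast hpos, ?_⟩
  intro M hM
  have hM₀ := Groth.Agent.Lib.Helper23.PB.isInvertible_pullback ι M hM
  have key := Groth.Agent.Lib.R2H1.DegPullback.s7640 k Y' Y hY' hY h₀ hover hgen 1
    ((Scheme.Modules.pullback ι).obj M)
    (Groth.Agent.Lib.Helper23.SecTw.isFinLocFreeOfRank_one_of_isInvertible _ hM₀)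
  have e : (Scheme.Modules.pullback h).obj M ≅
      (Scheme.Modules.pullback h₀).obj ((Scheme.Modules.pullback ι).obj M) :=
    ((Scheme.Modules.pullbackCongr hh₀).app M).symm ≪≫
      ((Scheme.Modules.pullbackComp h₀ ι).app M).symm
  rw [curveDeg_congr k _ hY'.le e, curveDeg_eq_deg k _ hY'.le, curveDeg_eq_deg k _ hY.le]
  exact key

end Deg

section S11750

variable (X X' : Scheme.{u})
  [X.Over (Spec (CommRingCat.of k))] [X'.Over (Spec (CommRingCat.of k))]
  [IsProper (X ↘ Spec (CommRingCat.of k))] [IsProper (X' ↘ Spec (CommRingCat.of k))]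
  (g : X' ⟶ X) (hg : g ≫ (X ↘ Spec (CommRingCat.of k)) = X' ↘ Spec (CommRingCat.of k))
  [Surjective g]
  (L N : X.Modules) (hL : PicF.IsInvertible L) (hN : PicF.IsInvertible N)
  (hnum : ∀ (Y : Scheme.{u}) (ι : Y ⟶ X') [IsClosedImmersion ι], IsIntegral Y →
    topologicalKrullDim Y = 1 →
    Pic13.curveDeg k (ι ≫ (X' ↘ Spec (CommRingCat.of k)))
        ((Scheme.Modules.pullback ι).obj ((Scheme.Modules.pullback g).obj L)) =
      Pic13.curveDeg k (ι ≫ (X' ↘ Spec (CommRingCat.of k)))
        ((Scheme.Modules.pullback ι).obj ((Scheme.Modules.pullback g).obj N)))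

include hg hL hN hnum in
theorem s11750 (Y : Scheme.{u}) (ι : Y ⟶ X) [IsClosedImmersion ι] (hint : IsIntegral Y)
    (hY : topologicalKrullDim Y = 1) :
    Pic13.curveDeg k (ι ≫ (X ↘ Spec (CommRingCat.of k))) ((Scheme.Modules.pullback ι).obj L) =
      Pic13.curveDeg k (ι ≫ (X ↘ Spec (CommRingCat.of k)))
        ((Scheme.Modules.pullback ι).obj N) := by
  haveI := hint
  haveI : QuasiCompact g := by
    haveI : IsProper (g ≫ (X ↘ Spec (CommRingCat.of k))) := by rw [hg]; infer_instance
    haveI : IsProper g := IsProper.of_comp g (X ↘ Spec (CommRingCat.of k))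
    infer_instance
  haveI : IsProper g := by
    haveI : IsProper (g ≫ (X ↘ Spec (CommRingCat.of k))) := by rw [hg]; infer_instance
    exact IsProper.of_comp g (X ↘ Spec (CommRingCat.of k))
  let η : X := ι.base (genericPoint Y)
  have hcl : closure {η} = Set.range ι.base := by
    have h1 := (genericPoint_spec Y).image ι.continuous
    rw [Set.image_univ] at h1
    rw [h1.def]
    exact ι.isClosedEmbedding.isClosed_range.closure_eq
  have htr : trdegNat k X η = 1 := by
    have h1 := topologicalKrullDim_closure_singleton k X η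
    rw [hcl] at h1
    have h2 : topologicalKrullDim (Set.range ι.base) = topologicalKrullDim Y :=
      (IsHomeomorph.topologicalKrullDim_eq _
        (ι.isEmbedding.toHomeomorph).isHomeomorph).symm
    rw [h2, hY] at h1
    exact_mod_cast h1.symm
  obtain ⟨x', hx', htr'⟩ := exists_point_trdegNat_eq k g hg η (g.surjective η)
  obtain ⟨Y', ι', hι', hint', hrange', hdim'⟩ := exists_closed_integral k x'
  have hY' : topologicalKrullDim Y' = 1 := by
    rw [hdim', htr', htr]
    rfl
  have hr : Set.range (ι' ≫ g).base = Set.range ι.base := by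
    have h1 : Set.range (ι' ≫ g).base = g.base '' (Set.range ι'.base) := by
      rw [← Set.range_comp]
      rfl
    rw [h1, hrange', ← hcl, ← hx',
      ← g.isClosedMap.closure_image_eq_of_continuous g.continuous, Set.image_singleton]
  have hcomp : (ι' ≫ g) ≫ (X ↘ Spec (CommRingCat.of k)) =
      ι' ≫ (X' ↘ Spec (CommRingCat.of k)) := by
    rw [Category.assoc, hg]
  haveI : IsProper (ι' ≫ (X' ↘ Spec (CommRingCat.of k))) := inferInstance
  haveI : IsProper ((ι' ≫ g) ≫ (X ↘ Spec (CommRingCat.of k))) := by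
    rw [hcomp]; infer_instance
  obtain ⟨c, hc, hform⟩ := exists_pos_curveDeg_pullback k X hY' hY (ι' ≫ g) ι hr
  have key := hnum Y' ι' hint' hY'
  have eL : (Scheme.Modules.pullback ι').obj ((Scheme.Modules.pullback g).obj L) ≅
      (Scheme.Modules.pullback (ι' ≫ g)).obj L := (Scheme.Modules.pullbackComp ι' g).app L
  have eN : (Scheme.Modules.pullback ι').obj ((Scheme.Modules.pullback g).obj N) ≅
      (Scheme.Modules.pullback (ι' ≫ g)).obj N := (Scheme.Modules.pullbackComp ι' g).app N
  rw [curveDeg_congr k _ hY'.le eL, curveDeg_congr k _ hY'.le eN] at key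
  have hkey : ∀ M : X.Modules,
      Pic13.curveDeg k (ι' ≫ (X' ↘ Spec (CommRingCat.of k)))
        ((Scheme.Modules.pullback (ι' ≫ g)).obj M) =
      Pic13.curveDeg k ((ι' ≫ g) ≫ (X ↘ Spec (CommRingCat.of k)))
        ((Scheme.Modules.pullback (ι' ≫ g)).obj M) := by
    intro M
    congr 1
    exact hcomp.symm
  have key2 : Pic13.curveDeg k (ι' ≫ (X' ↘ Spec (CommRingCat.of k)))
      ((Scheme.Modules.pullback (ι' ≫ g)).obj L) =
    Pic13.curveDeg k (ι' ≫ (X' ↘ Spec (CommRingCat.of k)))
      ((Scheme.Modules.pullback (ι' ≫ g)).obj N) := key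
  rw [hkey L, hkey N, hform L hL, hform N hN] at key2
  exact mul_left_cancel₀ hc.ne' key2

end S11750

end Groth.Agent.Lib.R2H4NumEqDesc
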