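import Mathlib
import Groth.Agent.Lib.R2H4NumEqDesc
import Groth.Agent.Lib.R2H1NormGenusZero
import Groth.Agent.Lib.R2H1GenusZeroPic
import Groth.Agent.Lib.R2H1CurveDeg
import Groth.Agent.Lib.Helper6DimAff
import Groth.Agent.Lib.R2H1DegPullback
set_option backward.isDefEq.respectTransparency.types false

/-!
helper1 (run 2): lifting curves along surjective morphisms of proper schemes. s17287 (integral curve in X is the image of one in Y), trdegNat_eq_of_isFinite, topologicalKrullDim_eq_of_isFinite_of_surjective, exists_regular_model (integral proper curve is finitely dominated by a regular integral proper curve: normalization), exists_lift_curve (regular curve C -> X lifts to regular C1 -> Y with finite C1 -> C), s17283 (curve-test nefness descends along surjective morphisms).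
-/

set_option autoImplicit false
set_option linter.style.haveILetI false
set_option linter.unusedSectionVars false
universe u v

open CategoryTheory CategoryTheory.Limits AlgebraicGeometry TopologicalSpace Opposite

namespace Groth.Agent.Lib.R2H1.CurveLift

section Part1

open Groth.Agent.Lib.R2H4NumEqDesc Groth.Agent.Lib.Helper4.VarDim

/-- S17287: lifting integral curves along a surjective morphism of proper schemes -/
theorem s17287 (k : Type u) [Field k] (X Y : Scheme.{u})
    [X.Over (Spec (CommRingCat.of k))] [IsProper (X ↘ (Spec (CommRingCat.of k)))] [Y.Over (Spec (CommRingCat.of k))] [IsProper (Y ↘ (Spec (CommRingCat.of k)))]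
    (f : Y ⟶ X) (hf : f ≫ (X ↘ (Spec (CommRingCat.of k))) = Y ↘ (Spec (CommRingCat.of k))) [Surjective f]
    (C : X.IdealSheafData) [IsIntegral C.subscheme] (hC : topologicalKrullDim (C.support : Set X) = 1) :
    ∃ C' : Y.IdealSheafData, IsIntegral C'.subscheme ∧ topologicalKrullDim (C'.support : Set Y) = 1 ∧
      f.base '' (C'.support : Set Y) = (C.support : Set X) := by
  haveI : IsProper f := by
    haveI : IsProper (f ≫ (X ↘ Spec (CommRingCat.of k))) := by rw [hf]; infer_instance
    exact IsProper.of_comp f (X ↘ Spec (CommRingCat.of k))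
  let η : X := C.subschemeι.base (genericPoint C.subscheme)
  have hcl : closure {η} = (C.support : Set X) := by
    have h1 := (genericPoint_spec C.subscheme).image C.subschemeι.continuous
    rw [Set.image_univ] at h1
    rw [h1.def, ← Scheme.IdealSheafData.range_subschemeι]
    exact C.subschemeι.isClosedEmbedding.isClosed_range.closure_eq
  have htr : trdegNat k X η = 1 := by
    have h1 := topologicalKrullDim_closure_singleton k X η
    rw [hcl, hC] at h1
    exact_mod_cast h1.symm
  obtain ⟨x', hx', htr'⟩ := exists_point_trdegNat_eq k f hf η (f.surjective η)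
  let Zc : Closeds Y := ⟨closure {x'}, isClosed_closure⟩
  let I := Scheme.IdealSheafData.vanishingIdeal Zc
  haveI : IrreducibleSpace ↥I.subscheme :=
    Groth.Agent.Lib.Helper6.EquiSub.irreducibleSpace_subscheme (X' := Zc) x' rfl
  haveI : IsReduced I.subscheme :=
    Groth.Agent.Lib.Helper11RedCl.isReduced_subscheme_vanishingIdeal Zc
  have hsupp : (I.support : Set Y) = closure {x'} :=
    Scheme.IdealSheafData.coe_support_vanishingIdeal Zc
  refine ⟨I, isIntegral_of_irreducibleSpace_of_isReduced _, ?_, ?_⟩
  · rw [hsupp, topologicalKrullDim_closure_singleton k Y x', htr', htr]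
    rfl
  · rw [hsupp, ← hcl, ← hx',
      ← f.isClosedMap.closure_image_eq_of_continuous f.continuous, Set.image_singleton]

end Part1

section Part2

open Groth.Agent.Lib.Helper4.VarDim Groth.Agent.Lib.Helper4.NormCurve
  Groth.Agent.Lib.R2H1.BirGenus

section Dim

variable (k : Type u) [Field k] {X X' : Scheme.{u}}
  [X.Over (Spec (CommRingCat.of k))] [X'.Over (Spec (CommRingCat.of k))]
  [LocallyOfFiniteType (X ↘ Spec (CommRingCat.of k))]
  [LocallyOfFiniteType (X' ↘ Spec (CommRingCat.of k))]

/-- finite morphisms preserve the transcendence degree of residue fields -/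
theorem trdegNat_eq_of_isFinite (f : X' ⟶ X)
    (hf : f ≫ (X ↘ Spec (CommRingCat.of k)) = X' ↘ Spec (CommRingCat.of k)) [IsFinite f]
    (t : X') : trdegNat k X (f t) = trdegNat k X' t := by
  have h1 := trdeg_add_trdeg_residueFieldMap k f hf t
  rw [trdeg_residueFieldMap_eq_zero_of_locallyQuasiFinite f t, add_zero,
    trdeg_eq_trdegNat k _ (f t), trdeg_eq_trdegNat k X' t] at h1
  exact_mod_cast h1

/-- a finite surjective morphism of finite type `k`-schemes preserves the dimension -/
theorem topologicalKrullDim_eq_of_isFinite_of_surjective (f : X' ⟶ X)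
    (hf : f ≫ (X ↘ Spec (CommRingCat.of k)) = X' ↘ Spec (CommRingCat.of k)) [IsFinite f]
    [Surjective f] [CompactSpace X] [Nonempty X] :
    topologicalKrullDim X' = topologicalKrullDim X := by
  apply le_antisymm
  · refine topologicalKrullDim_le_of_forall_trdegNat_le' k X' _ fun t => ?_
    rw [← trdegNat_eq_of_isFinite k f hf t]
    exact trdegNat_le_topologicalKrullDim k X (f t)
  · obtain ⟨η, -, hη⟩ := exists_trdegNat_eq_topologicalKrullDim k X
    obtain ⟨w, rfl⟩ := f.surjective η
    rw [hη, trdegNat_eq_of_isFinite k f hf w]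
    exact trdegNat_le_topologicalKrullDim k X' w

end Dim

section Model

variable (k : Type u) [Field k] (X : Scheme.{u}) [X.Over (Spec (CommRingCat.of k))]
    [IsIntegral X] [IsProper (X ↘ (Spec (CommRingCat.of k)))]

include k in
/-- an integral proper curve over a field is dominated by a regular one, finitely -/
theorem exists_regular_model (hdim : topologicalKrullDim X = 1) :
    ∃ (C : Scheme.{u}) (ν : C ⟶ X), IsIntegral C ∧ IsFinite ν ∧ Surjective ν ∧
      topologicalKrullDim C = 1 ∧ ∀ x : C, IsRegularLocalRing (C.presheaf.stalk x) := by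
  obtain ⟨g, hg⟩ : ∃ g : Spec (CommRingCat.of X.functionField) ⟶ X,
      g = gen X X.functionField (RingHom.id _) := ⟨_, rfl⟩
  haveI : QuasiCompact g := inferInstance
  haveI : QuasiSeparated g := inferInstance
  have hN2 : ∀ (U : X.Opens), IsAffineOpen U → ∀ (hne : Nonempty ↥U),
      @CAlg.IsN2 Γ(X, U) _ (@IsIntegral.component_integral X _ U hne) := fun U hU hne =>
    isN2_sections_of_locallyOfFiniteType_field k X U hU (hne := hne)
  haveI : IsFinite g.fromNormalization :=
    isFinite_fromNormalization_of_eq X.functionField (RingHom.id _) g hg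
      (RingHom.Finite.id _) hN2
  haveI hsurj := surjective_fromNormalization_of_eq X.functionField (RingHom.id _) g hg
  have hnorm := isNormalScheme_normalization_of_eq X.functionField (RingHom.id _) g hg
  letI : g.normalization.Over (Spec (CommRingCat.of k)) :=
    ⟨g.fromNormalization ≫ (X ↘ Spec (CommRingCat.of k))⟩
  haveI : IsProper (g.normalization ↘ Spec (CommRingCat.of k)) :=
    isProper_of_comp k g.fromNormalization rfl
  haveI : CompactSpace X :=
    QuasiCompact.compactSpace_of_compactSpace (X ↘ Spec (CommRingCat.of k))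
  have hdim' : topologicalKrullDim g.normalization = 1 := by
    rw [topologicalKrullDim_eq_of_isFinite_of_surjective k g.fromNormalization rfl, hdim]
  refine ⟨g.normalization, g.fromNormalization, inferInstance, inferInstance, hsurj, hdim',
    fun x => ?_⟩
  by_cases hx : x = genericPoint g.normalization
  · subst hx
    exact inferInstanceAs (IsRegularLocalRing g.normalization.functionField)
  · have hcl := Groth.Agent.Lib.R2H1.CurveDeg.isClosed_of_ne_generic k g.normalization hdim' x hx
    exact Groth.Agent.Lib.R2H1.GenusZeroPic.isRegularLocalRing_of_normal_closed k g.normalization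
      hdim' x hcl (hnorm x).2

end Model

end Part2

section Part3

open Groth.Agent.Lib.Helper4.VarDim Groth.Agent.Lib.Helper4.NormCurve
  Groth.Agent.Lib.R2H1.BirGenus Groth.Agent.Lib.R2H4NumEqDesc

/-- dominating a regular curve mapping to `X` by a regular curve mapping to `Y`, along a
surjective morphism `Y ⟶ X` of proper schemes -/
theorem exists_lift_curve (k : Type u) [Field k] (X Y : Scheme.{u})
    [X.Over (Spec (CommRingCat.of k))] [IsProper (X ↘ (Spec (CommRingCat.of k)))]
    [Y.Over (Spec (CommRingCat.of k))] [IsProper (Y ↘ (Spec (CommRingCat.of k)))]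
    (f : Y ⟶ X) (hf : f ≫ (X ↘ (Spec (CommRingCat.of k))) = Y ↘ (Spec (CommRingCat.of k)))
    [Surjective f]
    (C : Scheme.{u}) [C.Over (Spec (CommRingCat.of k))]
    [IsProper (C ↘ (Spec (CommRingCat.of k)))] [IsIntegral C]
    (hdim : topologicalKrullDim C = 1)
    (g : C ⟶ X) (hg : g ≫ (X ↘ (Spec (CommRingCat.of k))) = C ↘ (Spec (CommRingCat.of k))) :
    ∃ (C' : Scheme.{u}) (_ : IsIntegral C') (π : C' ⟶ C) (g' : C' ⟶ Y), IsFinite π ∧
      topologicalKrullDim C' = 1 ∧ (∀ x : C', IsRegularLocalRing (C'.presheaf.stalk x)) ∧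
      π.base (genericPoint C') = genericPoint C ∧ π ≫ g = g' ≫ f := by
  haveI : IsProper f := by
    haveI : IsProper (f ≫ (X ↘ Spec (CommRingCat.of k))) := by rw [hf]; infer_instance
    exact IsProper.of_comp f (X ↘ Spec (CommRingCat.of k))
  obtain ⟨p₁, hp₁⟩ : ∃ p₁ : pullback g f ⟶ C, p₁ = pullback.fst g f := ⟨_, rfl⟩
  obtain ⟨p₂, hp₂⟩ : ∃ p₂ : pullback g f ⟶ Y, p₂ = pullback.snd g f := ⟨_, rfl⟩
  have hcond : p₁ ≫ g = p₂ ≫ f := by rw [hp₁, hp₂]; exact pullback.condition
  haveI : IsProper p₁ := by rw [hp₁]; infer_instance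
  haveI : Surjective p₁ := by rw [hp₁]; infer_instance
  letI : (pullback g f).Over (Spec (CommRingCat.of k)) :=
    ⟨p₁ ≫ (C ↘ Spec (CommRingCat.of k))⟩
  haveI : IsProper ((pullback g f) ↘ Spec (CommRingCat.of k)) :=
    isProper_of_comp k p₁ rfl
  have htr : trdegNat k C (genericPoint C) = 1 :=
    trdegNat_eq_of_trdeg_eq k C (genericPoint C) 1
      (by simpa using (Groth.Agent.Lib.R2H1.CurveDeg.dim_facts k C hdim).1)
  obtain ⟨z, hz, htrz⟩ := exists_point_trdegNat_eq k p₁ rfl (genericPoint C)
    (p₁.surjective (genericPoint C))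
  obtain ⟨Y', ι', hι', hint', hrange', hdim'⟩ := exists_closed_integral k z
  have hY' : topologicalKrullDim Y' = 1 := by
    rw [hdim', htrz, htr]
    rfl
  letI : Y'.Over (Spec (CommRingCat.of k)) :=
    ⟨ι' ≫ ((pullback g f) ↘ Spec (CommRingCat.of k))⟩
  haveI : IsProper (Y' ↘ Spec (CommRingCat.of k)) := isProper_of_comp k ι' rfl
  obtain ⟨C', ν, hintC', hfinν, hsurjν, hdimC', hreg⟩ := exists_regular_model k Y' hY'
  obtain ⟨π, hπ⟩ : ∃ π : C' ⟶ C, π = ν ≫ ι' ≫ p₁ := ⟨_, rfl⟩
  letI : C'.Over (Spec (CommRingCat.of k)) := ⟨ν ≫ (Y' ↘ Spec (CommRingCat.of k))⟩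
  haveI : IsProper (C' ↘ Spec (CommRingCat.of k)) := isProper_of_comp k ν rfl
  have hover : π ≫ (C ↘ Spec (CommRingCat.of k)) = C' ↘ Spec (CommRingCat.of k) := by
    rw [hπ]
    simp only [Category.assoc]
    rfl
  have hgen : π.base (genericPoint C') = genericPoint C := by
    obtain ⟨y', hy'⟩ : ∃ y' : Y', ι'.base y' = z := by
      have : z ∈ Set.range ι'.base := by rw [hrange']; exact subset_closure rfl
      exact this
    obtain ⟨c, hc⟩ := ν.surjective y'
    have hπc : π.base c = genericPoint C := by
      rw [hπ]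
      change p₁.base (ι'.base (ν.base c)) = _
      rw [hc, hy', hz]
    have hsp : genericPoint C' ⤳ c := (genericPoint_spec C').specializes trivial
    have hsp' : π.base (genericPoint C') ⤳ genericPoint C := hπc ▸ hsp.map π.continuous
    exact (((genericPoint_spec C).specializes trivial).antisymm hsp').eq.symm
  haveI : IsFinite π :=
    Groth.Agent.Lib.R2H1.DegPullback.isFinite_of_nonconstant k C' C hdimC' hdim π hover hgen
  refine ⟨C', hintC', π, ν ≫ ι' ≫ p₂, inferInstance, hdimC', hreg, hgen, ?_⟩
  rw [hπ]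
  simp only [Category.assoc]
  rw [hcond]

/-- S17283 -/
theorem s17283 (k : Type u) [Field k] (X Y : Scheme.{u})
    [X.Over (Spec (CommRingCat.of k))] [IsProper (X ↘ (Spec (CommRingCat.of k)))] [Y.Over (Spec (CommRingCat.of k))] [IsProper (Y ↘ (Spec (CommRingCat.of k)))]
    (f : Y ⟶ X) (hf : f ≫ (X ↘ (Spec (CommRingCat.of k))) = Y ↘ (Spec (CommRingCat.of k))) [Surjective f]
    (E : X.Modules) (hE : FlatMod.IsFinLocFree E)
    (hnef : ∀ (C : Scheme.{u}) [C.Over (Spec (CommRingCat.of k))] [IsProper (C ↘ (Spec (CommRingCat.of k)))] [IsIntegral C],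
      topologicalKrullDim C = 1 → (∀ x : C, IsRegularLocalRing (C.presheaf.stalk x)) →
      ∀ (g : C ⟶ Y), g ≫ (Y ↘ (Spec (CommRingCat.of k))) = C ↘ (Spec (CommRingCat.of k)) →
      ∀ (M : C.Modules), PicF.IsInvertible M →
      ∀ (q : (Scheme.Modules.pullback g).obj ((Scheme.Modules.pullback f).obj E) ⟶ M), Epi q → 0 ≤ Curv2.deg k C M 1) :
    ∀ (C : Scheme.{u}) [C.Over (Spec (CommRingCat.of k))] [IsProper (C ↘ (Spec (CommRingCat.of k)))] [IsIntegral C],
    topologicalKrullDim C = 1 → (∀ x : C, IsRegularLocalRing (C.presheaf.stalk x)) →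
    ∀ (g : C ⟶ X), g ≫ (X ↘ (Spec (CommRingCat.of k))) = C ↘ (Spec (CommRingCat.of k)) →
    ∀ (M : C.Modules), PicF.IsInvertible M →
    ∀ (q : (Scheme.Modules.pullback g).obj E ⟶ M), Epi q → 0 ≤ Curv2.deg k C M 1 := by
  intro C _ _ _ hdim _ g hg M hM q hq
  obtain ⟨C', hintC', π, g', hfinπ, hdimC', hreg, hgen, hcomm⟩ :=
    exists_lift_curve k X Y f hf C hdim g hg
  letI : C'.Over (Spec (CommRingCat.of k)) := ⟨π ≫ (C ↘ Spec (CommRingCat.of k))⟩
  haveI : IsProper (C' ↘ Spec (CommRingCat.of k)) := isProper_of_comp k π rfl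
  have hg' : g' ≫ (Y ↘ Spec (CommRingCat.of k)) = C' ↘ Spec (CommRingCat.of k) := by
    change _ = π ≫ (C ↘ Spec (CommRingCat.of k))
    rw [← hf, ← hg, ← Category.assoc, ← Category.assoc, hcomm]
  have hM' := Groth.Agent.Lib.Helper23.PB.isInvertible_pullback π M hM
  have hM1 : FlatMod.IsFinLocFreeOfRank 1 M :=
    Groth.Agent.Lib.Helper23.SecTw.isFinLocFreeOfRank_one_of_isInvertible M hM
  have key := Groth.Agent.Lib.R2H1.DegPullback.s7640 k C' C hdimC' hdim π rfl hgen 1 M hM1
  have hpos : 0 < π.residueDegree (genericPoint C') := by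
    have hfin := Groth.Agent.Lib.Helper20.ResFld.finite_residueFieldMap_of_quasiFiniteAt π
      (genericPoint C') (π.quasiFiniteAt _)
    unfold Scheme.Hom.residueDegree
    letI := (π.residueFieldMap (genericPoint C')).hom.toAlgebra
    haveI : Module.Finite (C.residueField (π.base (genericPoint C')))
        (C'.residueField (genericPoint C')) := hfin
    exact Module.finrank_pos
  haveI : (Scheme.Modules.pullback π).IsLeftAdjoint :=
    (Scheme.Modules.pullbackPushforwardAdjunction π).isLeftAdjoint
  haveI : Epi ((Scheme.Modules.pullback π).map q) := inferInstance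
  have e : (Scheme.Modules.pullback g').obj ((Scheme.Modules.pullback f).obj E) ≅
      (Scheme.Modules.pullback π).obj ((Scheme.Modules.pullback g).obj E) :=
    (Scheme.Modules.pullbackComp g' f).app E ≪≫
      ((Scheme.Modules.pullbackCongr hcomm).app E).symm ≪≫
      ((Scheme.Modules.pullbackComp π g).app E).symm
  have h0 := hnef C' hdimC' hreg g' hg' _ hM' (e.hom ≫ (Scheme.Modules.pullback π).map q)
    inferInstance
  rw [key] at h0
  have hpos' : (0 : ℤ) < (π.residueDegree (genericPoint C') : ℤ) := by exact_mod_cast hpos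
  exact (mul_nonneg_iff_of_pos_left hpos').mp h0

end Part3

end Groth.Agent.Lib.R2H1.CurveLift
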