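import Mathlib
import Groth.Prelude.Def_CurvBase
import Groth.Agent.Lib.R2H1IsoP1F
import Groth.Agent.Lib.R2H1Clifford
import Groth.Agent.Lib.H9SteinSm
import Groth.Agent.Lib.R2H1VBSub
import Groth.Agent.Lib.R2H1PointTwist
import Groth.Agent.Lib.Helper18Cart1
set_option backward.isDefEq.respectTransparency.types false

/-!
helper1 (run 2): genus one curves with a rational point: every degree zero invertible module is O(P - O) for a unique rational point P (S14341). iso_P1_of_iso_ideals (two distinct DVR closed points, one of degree one, with isomorphic ideal sheaves: X iso P^1), euler_structure_of_iso_P1 (chi(O) = 1), bijective_resMap_iff (closed point rational iff h0(O/I_x) = 1), s14341.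
-/

set_option autoImplicit false
set_option linter.style.haveILetI false
set_option linter.unusedSectionVars false
universe u v

open CategoryTheory CategoryTheory.Limits AlgebraicGeometry TopologicalSpace Opposite

namespace Groth.Agent.Lib.R2H1.EllPt

section Part1

open Groth.Agent.Lib.R2H1.IsoP1B Groth.Agent.Lib.R2H1.IsoP1 Groth.Agent.Lib.R2H1.IsoP1C
  Groth.Agent.Lib.R2H1.IsoP1D Groth.Agent.Lib.R2H1.IsoP1F
open Groth.Agent.Lib.R2H1.CurveEuler Groth.Agent.Lib.R2H1.CurveDegSec
  Groth.Agent.Lib.R2H1.EulerAdd Groth.Agent.Lib.R2H1.GenusLe Groth.Agent.Lib.R2H1.DegCartier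
open Groth.Agent.Lib.R2Lead.KRR Groth.Agent.Lib.R2H2.PnEuler Groth.Agent.Lib.R2H1.BirDeg

variable (k : Type u) [Field k] (X : Scheme.{u}) [X.Over (Spec (CommRingCat.of k))]
    [IsIntegral X] [IsProper (X ↘ (Spec (CommRingCat.of k)))]

/-- two distinct closed points with DVR local rings, one of them of degree one, with isomorphic
ideal sheaves: the curve is the projective line -/
theorem iso_P1_of_iso_ideals (hdim : topologicalKrullDim X = 1) (p p' : X)
    (hp : IsClosed ({p} : Set X)) (hp' : IsClosed ({p'} : Set X))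
    [IsDiscreteValuationRing (X.presheaf.stalk p)] (hne : p ≠ p')
    (hdeg : Module.finrank k (Coh.HH X
      (ClSub.quotMod (Scheme.IdealSheafData.vanishingIdeal ⟨{p}, hp⟩)) 0) = 1)
    (hlin : Nonempty (ClSub.idealMod (Scheme.IdealSheafData.vanishingIdeal ⟨{p}, hp⟩) ≅
      ClSub.idealMod (Scheme.IdealSheafData.vanishingIdeal ⟨{p'}, hp'⟩))) :
    ∃ e : X ≅ CohB1.ProjSpace 1 k,
      e.hom ≫ CohB1.ProjSpace.toSpec 1 k = X ↘ (Spec (CommRingCat.of k)) := by
  haveI := isNoetherian_of_proper k X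
  obtain ⟨L, hL, ⟨eI⟩, hdegL⟩ := exists_inverse_point k X hdim p hp
  rw [hdeg] at hdegL
  obtain ⟨hlin⟩ := hlin
  obtain ⟨t₀, ht₀⟩ := exists_section_of_trivialisation
    (Scheme.IdealSheafData.vanishingIdeal ⟨{p}, hp⟩) L hL eI.symm
  obtain ⟨t₁, ht₁⟩ := exists_section_of_trivialisation
    (Scheme.IdealSheafData.vanishingIdeal ⟨{p'}, hp'⟩) L hL
    (eI.symm ≪≫ (DCoh.tensorBi.obj L).mapIso hlin)
  refine exists_iso_P1 k X hdim L hL (by exact_mod_cast hdegL) t₀ t₁ (fun z => ?_)
  by_cases hz : z ∈ (Scheme.IdealSheafData.vanishingIdeal ⟨{p}, hp⟩).support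
  · right
    apply ht₁
    intro hz'
    apply hne
    have h1 : z ∈ ((Scheme.IdealSheafData.vanishingIdeal ⟨{p}, hp⟩).support : Set X) := hz
    have h2 : z ∈ ((Scheme.IdealSheafData.vanishingIdeal ⟨{p'}, hp'⟩).support : Set X) := hz'
    rw [Scheme.IdealSheafData.coe_support_vanishingIdeal] at h1 h2
    exact (Set.mem_singleton_iff.mp h1).symm.trans (Set.mem_singleton_iff.mp h2)
  · left
    exact ht₀ z hz

/-- a curve isomorphic to the projective line has `χ(O) = 1` -/
theorem euler_structure_of_iso_P1 (hdim : topologicalKrullDim X = 1)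
    (e : X ≅ CohB1.ProjSpace 1 k)
    (he : e.hom ≫ CohB1.ProjSpace.toSpec 1 k = X ↘ (Spec (CommRingCat.of k))) :
    Curv2.euler k X (Coh.structureModule X) = 1 := by
  haveI := isNoetherian_of_proper k X
  haveI := isIntegral_P1k k
  haveI := isProper_P1k k
  have hdimP := dim_P1k k
  haveI := isNoetherian_of_proper k (CohB1.ProjSpace 1 k)
  have hf : e.hom ≫ ((CohB1.ProjSpace 1 k) ↘ Spec (CommRingCat.of k)) =
      X ↘ Spec (CommRingCat.of k) := he
  have cO := isCoh_structureModule X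
  obtain ⟨e0⟩ := nonempty_twistProjSpace_zero_iso 1 k
  have c0 := isCoh_of_isInvertible _ (isInvertible_twistProjSpace 1 k 0)
  have e2 := euler_eq_h0_sub_h1 k (CohB1.ProjSpace 1 k) hdimP.le _ c0.1
  have h00 : Module.finrank k (Coh.HH (CohB1.ProjSpace 1 k) (Twist.twistProjSpace 1 k 0) 0) = 1 :=
    finrank_HH_nonneg k 1 0
  have h10 : Module.finrank k (Coh.HH (CohB1.ProjSpace 1 k) (Twist.twistProjSpace 1 k 0) 1) = 0 :=
    finrank_HH_zero k 1 0 1 (by omega) (by omega)
  rw [h00, h10] at e2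
  have e3 := euler_congr k (X := CohB1.ProjSpace 1 k) e0
  haveI := isIso_unitPush e.hom
  have e4 := euler_push k e.hom hf (Coh.structureModule X) cO.1
  have e5 := euler_congr k (X := CohB1.ProjSpace 1 k) (asIso (Groth.Agent.Lib.Helper23.Serre.unitPush e.hom))
  push_cast at e2
  linarith

end Part1

section Part2

open Groth.Agent.Lib.R2H1.IsoP1B Groth.Agent.Lib.R2H1.IsoP1 Groth.Agent.Lib.R2H1.IsoP1C
  Groth.Agent.Lib.R2H1.IsoP1D Groth.Agent.Lib.R2H1.IsoP1F
open Groth.Agent.Lib.R2H1.CurveEuler Groth.Agent.Lib.R2H1.CurveDegSec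
  Groth.Agent.Lib.R2H1.EulerAdd Groth.Agent.Lib.R2H1.GenusLe Groth.Agent.Lib.R2H1.DegCartier
open Groth.Agent.Lib.R2H1.VBSub Groth.Agent.Lib.R2H1.PointTwist Groth.Agent.Lib.R2H1.PicLaw
  Groth.Agent.Lib.R2H1.Clifford Groth.Agent.Lib.R2H1.GenusZero

attribute [local instance] Curv2.resAlgebra

section rat

variable (k : Type u) [Field k] (X : Scheme.{u}) [X.Over (Spec (CommRingCat.of k))]
    [IsProper (X ↘ (Spec (CommRingCat.of k)))]

/-- a closed point is rational iff its structure sheaf has a one-dimensional space of sections -/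
theorem bijective_resMap_iff (x : X) (hx : IsClosed ({x} : Set X)) :
    Function.Bijective (Curv2.resMap k X x) ↔ Module.finrank k (Coh.HH X
      (ClSub.quotMod (Scheme.IdealSheafData.vanishingIdeal ⟨{x}, hx⟩)) 0) = 1 := by
  rw [h0_quotMod_point_eq k X x hx]
  constructor
  · intro h
    have h1 : Function.Bijective (Algebra.linearMap k (X.residueField x)) := h
    rw [← (LinearEquiv.ofBijective _ h1).finrank_eq, Module.finrank_self]
  · intro h
    refine ⟨(Curv2.resMap k X x).injective, ?_⟩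
    have h2 : Function.Surjective (algebraMap k (X.residueField x)) :=
      Algebra.surjective_algebraMap_iff.2 (Subalgebra.bot_eq_top_of_finrank_eq_one h).symm
    exact h2

end rat

end Part2

section Part3

open Groth.Agent.Lib.R2H1.IsoP1B Groth.Agent.Lib.R2H1.IsoP1 Groth.Agent.Lib.R2H1.IsoP1C
  Groth.Agent.Lib.R2H1.IsoP1D Groth.Agent.Lib.R2H1.IsoP1F
open Groth.Agent.Lib.R2H1.CurveEuler Groth.Agent.Lib.R2H1.CurveDegSec
  Groth.Agent.Lib.R2H1.EulerAdd Groth.Agent.Lib.R2H1.GenusLe Groth.Agent.Lib.R2H1.DegCartier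
open Groth.Agent.Lib.R2H1.VBSub Groth.Agent.Lib.R2H1.PointTwist Groth.Agent.Lib.R2H1.PicLaw
  Groth.Agent.Lib.R2H1.Clifford Groth.Agent.Lib.R2H1.GenusZero

variable (k : Type u) [Field k] (X : Scheme.{u}) [X.Over (Spec (CommRingCat.of k))]
    [IsProper (X ↘ (Spec (CommRingCat.of k)))]

theorem s14341 [Smooth (X ↘ Spec (CommRingCat.of k))]
    [GeometricallyConnected (X ↘ Spec (CommRingCat.of k))] (hX : topologicalKrullDim X = 1)
    (hg : Curv2.genus k X = 1) (O : X) (hOc : IsClosed ({O} : Set X))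
    (hO : Function.Bijective (Curv2.resMap k X O)) (L : X.Modules) (hL : PicF.IsInvertible L)
    (hdeg : Curv2.deg k X L 1 = 0) :
    ∃! P : {x : X // IsClosed ({x} : Set X) ∧ Function.Bijective (Curv2.resMap k X x)},
      Nonempty (CohB1.tensorMod L (ClSub.idealMod (Scheme.IdealSheafData.vanishingIdeal ⟨{P.1}, P.2.1⟩)) ≅
        ClSub.idealMod (Scheme.IdealSheafData.vanishingIdeal ⟨{O}, hOc⟩)) := by
  haveI : IsIntegral X := isIntegral_of_smooth_geomConn k X
  have hreg := hreg_of_smooth k X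
  haveI := isNoetherian_of_proper k X
  haveI : GeometricallyReduced (X ↘ Spec (CommRingCat.of k)) :=
    Groth.Agent.Lib.H9SteinSm.geometricallyReduced_of_smooth _
  have hh0 : Module.finrank k (Coh.HH X (Coh.structureModule X) 0) = 1 :=
    Groth.Agent.Lib.H9SteinH0.main k X
  have cO := isCoh_structureModule X
  have eO := euler_eq_h0_sub_h1 k X hX.le _ cO.1
  have hχ : Curv2.euler k X (Coh.structureModule X) = 0 := by
    unfold Curv2.genus at hg
    rw [eO, hh0, hg]; norm_num
  have hO' := Groth.Agent.Lib.Helper23.TensorUnit.isInvertible_structureModule X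
  have hdvr : ∀ (x : X) (hx : IsClosed ({x} : Set X)),
      IsDiscreteValuationRing (X.presheaf.stalk x) := fun x hx => by
    haveI := hreg x
    exact Groth.Agent.Lib.R2LeadSmoothPSB.isDVR_of_regular_dim_one _
      (Groth.Agent.Lib.Helper8CurveEt.ringKrullDim_stalk_eq_one hX x hx)
  have hinvI : ∀ (x : X) (hx : IsClosed ({x} : Set X)),
      PicF.IsInvertible (ClSub.idealMod (Scheme.IdealSheafData.vanishingIdeal ⟨{x}, hx⟩)) :=
    fun x hx => by
      haveI := hdvr x hx
      exact Groth.Agent.Helper18Cart.isInvertible_of_isEffCartier _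
        (Groth.Agent.Lib.R2H1.RegPoint.isEffCartier_vanishingIdeal_singleton X x hx)
  haveI := hdvr O hOc
  obtain ⟨J, hJ, ⟨eJ⟩, hdegJ⟩ := exists_inverse_point k X hX O hOc
  rw [(bijective_resMap_iff k X O hOc).1 hO] at hdegJ
  obtain ⟨M, hMdef⟩ : ∃ M : X.Modules, M = CohB1.tensorMod L J := ⟨_, rfl⟩
  have hM : PicF.IsInvertible M := by
    rw [hMdef]; exact Groth.Agent.Lib.Helper23.SecTw.isInvertible_tensorMod hL hJ
  have hdegM : Curv2.deg k X M 1 = 1 := by
    have h := Groth.Agent.Lib.R2H1.DegTensor.s7637 k X hX.le 1 1 L J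
      (Groth.Agent.Lib.Helper23.SecTw.isFinLocFreeOfRank_one_of_isInvertible L hL)
      (Groth.Agent.Lib.Helper23.SecTw.isFinLocFreeOfRank_one_of_isInvertible J hJ)
    have h' : Curv2.deg k X (CohB1.tensorMod L J) 1 =
        1 * Curv2.deg k X J 1 + 1 * Curv2.deg k X L 1 := h
    rw [hMdef, h', hdegJ, hdeg]; norm_num
  have cM := isCoh_of_isInvertible M hM
  have eM := euler_eq_h0_sub_h1 k X hX.le M cM.1
  have hpos : 0 < Module.finrank k (Coh.HH X M 0) := by
    have h1 : Curv2.euler k X M = 1 := by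
      unfold Curv2.deg at hdegM
      rw [hχ] at hdegM
      push_cast at hdegM
      linarith
    rw [eM] at h1
    have : (0 : ℤ) < (Module.finrank k (Coh.HH X M 0) : ℤ) := by
      have := Int.natCast_nonneg (Module.finrank k (Coh.HH X M 1))
      linarith
    exact_mod_cast this
  obtain ⟨t₀, ht₀⟩ := exists_section_of_pos k X M cM hpos
  obtain ⟨p, hp, hpt⟩ := exists_closed_notMem_genLocus' k X M hM t₀ ht₀ (by rw [hdegM]; norm_num)
  obtain ⟨⟨eI⟩, hQ1, -⟩ := core k X hX M hM hdegM t₀ ht₀ p hp hpt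
  have hpr : Function.Bijective (Curv2.resMap k X p) := (bijective_resMap_iff k X p hp).2 hQ1
  letI := lawOfIntegral X
  have g0 : PicGrp.cls L hL * PicGrp.cls J hJ = PicGrp.cls M hM :=
    cls_mul_eq_of_iso hL hJ hM (eqToIso hMdef.symm)
  have g1 := cls_mul_eq_of_iso hM (hinvI p hp) hO' eI
  have g2 := cls_mul_eq_of_iso hJ (hinvI O hOc) hO' eJ
  rw [PicGrp.cls_structureModule_eq_one] at g1 g2
  have hIO : PicGrp.cls _ (hinvI O hOc) = (PicGrp.cls J hJ)⁻¹ := eq_inv_of_mul_eq_one_right g2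
  have key : PicGrp.cls L hL * PicGrp.cls _ (hinvI p hp) = PicGrp.cls _ (hinvI O hOc) := by
    rw [hIO]
    apply eq_inv_of_mul_eq_one_left
    rw [mul_right_comm, g0, g1]
  refine ⟨⟨p, hp, hpr⟩, iso_of_cls_mul_eq hL (hinvI p hp) (hinvI O hOc) key, ?_⟩
  rintro ⟨p', hp', hpr'⟩ ⟨e'⟩
  apply Subtype.ext
  show p' = p
  by_contra hne
  have key' := cls_mul_eq_of_iso hL (hinvI p' hp') (hinvI O hOc) e'
  have h3 : PicGrp.cls _ (hinvI p hp) = PicGrp.cls _ (hinvI p' hp') :=
    mul_left_cancel (key.trans key'.symm)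
  have hlin := (PicGrp.cls_eq_cls_iff _ _).1 h3
  haveI := hdvr p hp
  obtain ⟨e, he⟩ := iso_P1_of_iso_ideals k X hX p p' hp hp' (Ne.symm hne) hQ1 hlin
  have := euler_structure_of_iso_P1 k X hX e he
  rw [hχ] at this
  norm_num at this

end Part3

end Groth.Agent.Lib.R2H1.EllPt
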