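import Groth.Agent.Lib.R2H1TwistBC
import Groth.Agent.Lib.R2H1LiftZero
import Groth.Agent.Lib.Helper20BlowUp
import Groth.Agent.Lib.Helper20IdealModSec
import Groth.Agent.Lib.R2H1EllPt
import Groth.Agent.Lib.R2H3NegTwist
import Groth.Agent.S9705
import Groth.Agent.Lib.R2H1SubDegBound
set_option backward.isDefEq.respectTransparency.types false

/-!
helper1 (run 2): product of effective Cartier ideals on an integral scheme: idealMod(I*J) iso idealMod I tensor idealMod J (hom_ext_tm, hom_ext_tm_affine, mulι, idealMulHom, epi_idealMulHom, mono_mulHom_of_mono, mono_idealMulHom, nonempty_idealMod_mul_iso), isEffCartierIdeal_pow, isInverseOf_step, twist_numerics, exists_mem_genLocus_of_notMem_support (canonical section of O(D) generates off D), twist_pow (genus one: h0(O((n+1)D)) = n+1, h1 = 0), s7933.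
-/

set_option autoImplicit false
set_option linter.style.haveILetI false
set_option linter.unusedSectionVars false
universe u v

open CategoryTheory CategoryTheory.Limits AlgebraicGeometry TopologicalSpace Opposite

namespace Groth.Agent.Lib.R2H1.IdealProd

section Part1

open Groth.Agent.Lib.Helper23.SecTw Groth.Agent.Lib.Helper23.GenLocus Groth.Agent.Lib.Helper6
open Groth.Agent.Lib.Helper23.TensorMap Groth.Agent.Lib.R2H1.LiftZero
open Groth.Agent.Lib.Helper20.IdealModSec Groth.Agent.Lib.Helper23.Extend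

variable {X : Scheme.{u}}

/-- morphisms out of a tensor product are determined by their values on pure tensors -/
theorem hom_ext_tm {M N F : X.Modules} (f g : CohB1.tensorMod M N ⟶ F)
    (h : ∀ (W : X.Opens) (m : Γ(M, W)) (n : Γ(N, W)),
      f.app W (tm M N W m n) = g.app W (tm M N W m n)) : f = g := by
  apply ((adj X).homEquiv _ _).injective
  have key : ∀ (φ : CohB1.tensorMod M N ⟶ F) (W : X.Opens) (m : Γ(M, W)) (n : Γ(N, W)),
      ((((adj X).homEquiv (show X.PresheafOfModules from CohB1.tensorPre M N) F) φ).app (op W)).hom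
        (m ⊗ₜ n) = φ.app W (tm M N W m n) := by
    intro φ W m n
    have h1 : ((adj X).homEquiv (show X.PresheafOfModules from CohB1.tensorPre M N) F) φ =
        SecTwist.toTensor M N ≫ (SheafOfModules.forget _ ⋙
          PresheafOfModules.restrictScalars (𝟙 X.ringCatSheaf.obj)).map φ := by
      erw [Adjunction.homEquiv_unit]
      rfl
    rw [h1]
    rfl
  ext W : 2
  obtain ⟨W⟩ := W
  apply LinearMap.ext
  intro z
  refine TensorProduct.induction_on z ?_ ?_ ?_
  · exact (map_zero _).trans (map_zero _).symm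
  · intro m n
    exact (key f W m n).trans ((h W m n).trans (key g W m n).symm)
  · intro a b ha hb
    exact (map_add _ a b).trans ((congrArg₂ (· + ·) ha hb).trans (map_add _ a b).symm)

/-- morphisms out of a tensor product are determined by their values on pure tensors over affine
opens -/
theorem hom_ext_tm_affine {M N F : X.Modules} (f g : CohB1.tensorMod M N ⟶ F)
    (h : ∀ (U : X.affineOpens) (m : Γ(M, U.1)) (n : Γ(N, U.1)),
      f.app U.1 (tm M N U.1 m n) = g.app U.1 (tm M N U.1 m n)) : f = g := by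
  apply hom_ext_tm
  intro W m n
  refine F.isSheaf.section_ext (U := op W) fun x hx => ?_
  obtain ⟨_, ⟨U, hU, rfl⟩, hxU, hle⟩ :=
    X.isBasis_affineOpens.exists_subset_of_mem_open hx W.isOpen
  refine ⟨U, hle, hxU, ?_⟩
  change res F hle (f.app W (tm M N W m n)) = res F hle (g.app W (tm M N W m n))
  have h1 : ∀ φ : CohB1.tensorMod M N ⟶ F, res F hle (φ.app W (tm M N W m n)) =
      φ.app U (tm M N U (res M hle m) (res N hle n)) := by
    intro φ
    rw [← res_tm M N hle m n]
    exact (app_map φ (homOfLE hle) _).symm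
  rw [h1 f, h1 g]
  exact h ⟨U, hU⟩ _ _

variable (I J : X.IdealSheafData)

/-- the product map `I ⊗ J ⟶ O` -/
noncomputable def mulι : CohB1.tensorMod (ClSub.idealMod I) (ClSub.idealMod J) ⟶
    Coh.structureModule X :=
  mulHom (ClSub.idealModι I) (ClSub.idealMod J) ≫ ClSub.idealModι J

theorem mulι_tm (W : X.Opens) (a : Γ(ClSub.idealMod I, W)) (b : Γ(ClSub.idealMod J, W)) :
    (mulι I J).app W (tm _ _ W a b) =
      toS W (ofS W ((ClSub.idealModι I).app W a) * ofS W ((ClSub.idealModι J).app W b)) := by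
  unfold mulι
  change (ClSub.idealModι J).app W ((mulHom (ClSub.idealModι I) (ClSub.idealMod J)).app W
    (tm _ _ W a b)) = _
  rw [mulHom_tm, Scheme.Modules.Hom.app_smul]
  rfl

/-- sections of the ideal module lie in the ideal -/
theorem ι_mem_ideal (U : X.affineOpens) (a : Γ(ClSub.idealMod I, U.1)) :
    ofS U.1 ((ClSub.idealModι I).app U.1 a) ∈ I.ideal U := by
  have h1 := ι_toSubscheme I U.1 a
  have h2 : ofS U.1 ((ClSub.idealModι I).app U.1 a) ∈ I.subschemeι.ker.ideal U := by
    rw [Scheme.Hom.ker_apply]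
    exact h1
  rw [Scheme.IdealSheafData.ker_subschemeι] at h2
  exact h2

/-- elements of the ideal are sections of the ideal module -/
theorem exists_ι_eq_of_mem (U : X.affineOpens) (a : Γ(X, U.1)) (ha : a ∈ I.ideal U) :
    ∃ α : Γ(ClSub.idealMod I, U.1), (ClSub.idealModι I).app U.1 α = toS U.1 a :=
  exists_eq_ι I U.1 (toS U.1 a) (toSubscheme_app_eq_zero I U a ha)

theorem mulι_comp_toSubscheme : mulι I J ≫ ClSub.toSubscheme (I * J) = 0 := by
  apply hom_ext_tm_affine
  intro U a b
  change (ClSub.toSubscheme (I * J)).app U.1 ((mulι I J).app U.1 (tm _ _ U.1 a b)) = 0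
  rw [mulι_tm]
  apply toSubscheme_app_eq_zero (I * J) U
  rw [Scheme.IdealSheafData.ideal_mul]
  exact Ideal.mul_mem_mul (ι_mem_ideal I U a) (ι_mem_ideal J U b)

/-- the multiplication map `I ⊗ J ⟶ IJ` -/
noncomputable def idealMulHom : CohB1.tensorMod (ClSub.idealMod I) (ClSub.idealMod J) ⟶
    ClSub.idealMod (I * J) :=
  kernel.lift (ClSub.toSubscheme (I * J)) (mulι I J) (mulι_comp_toSubscheme I J)

theorem idealMulHom_ι : idealMulHom I J ≫ ClSub.idealModι (I * J) = mulι I J :=
  kernel.lift_ι _ _ _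

open Groth.Agent.Lib.Helper23.Serre in
/-- the multiplication map is an epimorphism when `J` is effective Cartier -/
theorem epi_idealMulHom (hJ : BlowUp.IsEffCartierIdeal J) : Epi (idealMulHom I J) := by
  apply epi_of_locally_surjective
  intro V t x hx
  obtain ⟨U, hU, hxU, hUV, f, hf, hJf⟩ :=
    Groth.Agent.Lib.Helper20.EffCartier.exists_le_of_isEffCartierIdeal hJ x V hx
  refine ⟨U, hUV, hxU, ?_⟩
  have ha := ι_mem_ideal (I * J) ⟨U, hU⟩ (res _ hUV t)
  rw [Scheme.IdealSheafData.ideal_mul] at ha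
  change _ ∈ I.ideal ⟨U, hU⟩ * J.ideal ⟨U, hU⟩ at ha
  rw [hJf, Ideal.mem_mul_span_singleton] at ha
  obtain ⟨b, hb, hba⟩ := ha
  obtain ⟨β, hβ⟩ := exists_ι_eq_of_mem I ⟨U, hU⟩ b hb
  obtain ⟨φ, hφ⟩ := exists_ι_eq_of_mem J ⟨U, hU⟩ f
    (by rw [hJf]; exact Ideal.mem_span_singleton_self f)
  refine ⟨tm _ _ U β φ, ?_⟩
  apply ι_injective (I * J) U
  have h1 : (ClSub.idealModι (I * J)).app U ((idealMulHom I J).app U (tm _ _ U β φ)) =
      (mulι I J).app U (tm _ _ U β φ) := by
    rw [← idealMulHom_ι I J]; rfl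
  rw [h1, mulι_tm, hβ, hφ, ofS_toS, ofS_toS, hba, toS_ofS]

/-- multiplication by an invertible ideal is injective on an integral scheme -/
theorem mono_mulHom_of_mono [IsIntegral X] {A : X.Modules} (ι : A ⟶ Coh.structureModule X)
    [Mono ι] (hA : PicF.IsInvertible A) (M : X.Modules) (hM : PicF.IsInvertible M) :
    Mono (mulHom ι M) := by
  refine Groth.Agent.Lib.R2H1.InvHom.mono_of_ne_zero (isInvertible_tensorMod hA hM) hM _ ?_
  intro h0
  obtain ⟨x⟩ : Nonempty X := inferInstance
  obtain ⟨W, ν, μ, hxW, hν, hμ⟩ := Groth.Agent.Lib.R2H1.CurveAmple.exists_gen₂ _ M hA hM x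
  have h1 : (mulHom ι M).app W (tm _ M W ν μ) = 0 := by
    rw [h0]; rfl
  rw [mulHom_tm] at h1
  have h2 : ofS W (ι.app W ν) = 0 := by
    apply (hμ W le_rfl).1
    change ofS W (ι.app W ν) • res M le_rfl μ = (0 : Γ(X, W)) • res M le_rfl μ
    rw [res_self, h1, zero_smul]
  have h3 : ι.app W ν = ι.app W 0 := by
    rw [map_zero]; exact h2
  have h4 : ν = 0 := injective_app_of_mono ι W h3
  haveI : Nonempty W := ⟨⟨x, hxW⟩⟩
  have h5 : (1 : Γ(X, W)) = 0 := by
    apply (hν W le_rfl).1
    change (1 : Γ(X, W)) • res _ le_rfl ν = (0 : Γ(X, W)) • res _ le_rfl ν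
    rw [res_self, h4, smul_zero, smul_zero]
  exact one_ne_zero h5

/-- the multiplication map is a monomorphism for effective Cartier ideals on an integral scheme -/
theorem mono_idealMulHom [IsIntegral X] (hI : BlowUp.IsEffCartierIdeal I)
    (hJ : BlowUp.IsEffCartierIdeal J) : Mono (idealMulHom I J) := by
  have hIi := Groth.Agent.Helper18Cart.isInvertible_of_isEffCartier I hI
  have hJi := Groth.Agent.Helper18Cart.isInvertible_of_isEffCartier J hJ
  haveI := mono_mulHom_of_mono (ClSub.idealModι I) hIi _ hJi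
  haveI : Mono (mulι I J) := by unfold mulι; infer_instance
  haveI : Mono (idealMulHom I J ≫ ClSub.idealModι (I * J)) := by
    rw [idealMulHom_ι]; infer_instance
  exact mono_of_mono (idealMulHom I J) (ClSub.idealModι (I * J))

/-- `I ⊗ J ≅ IJ` for effective Cartier ideals on an integral scheme -/
theorem nonempty_idealMod_mul_iso [IsIntegral X] (hI : BlowUp.IsEffCartierIdeal I)
    (hJ : BlowUp.IsEffCartierIdeal J) :
    Nonempty (CohB1.tensorMod (ClSub.idealMod I) (ClSub.idealMod J) ≅ ClSub.idealMod (I * J)) := by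
  haveI := mono_idealMulHom I J hI hJ
  haveI := epi_idealMulHom I J hJ
  haveI : IsIso (idealMulHom I J) := isIso_of_mono_of_epi _
  exact ⟨asIso (idealMulHom I J)⟩

end Part1

section Part2


open Groth.Agent.Lib.Helper23.SecTw Groth.Agent.Lib.Helper23.GenLocus
open Groth.Agent.Lib.R2H1.DegCartier Groth.Agent.Lib.R2H1.CurveEuler Groth.Agent.Lib.R2H1.CurveDegSec
  Groth.Agent.Lib.R2H1.EulerAdd Groth.Agent.Lib.R2H2.HHLin Groth.Agent.Lib.R2H2.PnLinRes
  Groth.Agent.Lib.R2H1.PointTwist Groth.Agent.Lib.R2H1.GenusLe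

section Alg

variable {X : Scheme.{u}}

/-- powers of an effective Cartier ideal are effective Cartier -/
theorem isEffCartierIdeal_pow {I : X.IdealSheafData} (hI : BlowUp.IsEffCartierIdeal I) (n : ℕ) :
    BlowUp.IsEffCartierIdeal (I ^ (n + 1)) := by
  induction n with
  | zero => rw [zero_add, pow_one]; exact hI
  | succ n ih =>
    rw [pow_succ]
    exact Groth.Agent.Lib.Helper20.BlowUpBasic.isEffCartierIdeal_mul ih hI

/-- if `L` is inverse to `IJ` then `L ⊗ J` is inverse to `I` -/
theorem isInverseOf_step [IsIntegral X] (I J : X.IdealSheafData) (hI : BlowUp.IsEffCartierIdeal I)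
    (hJ : BlowUp.IsEffCartierIdeal J) (L : X.Modules)
    (hL : ClSub.IsInverseOf L (ClSub.idealMod (I * J))) :
    ClSub.IsInverseOf (CohB1.tensorMod L (ClSub.idealMod J)) (ClSub.idealMod I) := by
  obtain ⟨e⟩ := hL
  obtain ⟨m⟩ := nonempty_idealMod_mul_iso I J hI hJ
  exact ⟨Groth.Agent.Lib.Helper23.LocGen.tensorAssoc _ _ _ ≪≫
    Groth.Agent.Lib.Helper23.AmpleIso.tensorModIso (Iso.refl L)
      (Groth.Agent.Lib.R2H3.NegTwist.braidMod _ _ ≪≫ m) ≪≫ e⟩

end Alg

section Num

variable (k : Type u) [Field k] (X : Scheme.{u}) [X.Over (Spec (CommRingCat.of k))]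
    [IsIntegral X] [IsProper (X ↘ (Spec (CommRingCat.of k)))]

/-- numerics of twisting down by an effective Cartier divisor of degree one -/
theorem twist_numerics (hdim : topologicalKrullDim X ≤ 1) (D : X.IdealSheafData)
    (hD : BlowUp.IsEffCartierIdeal D)
    (hQ1 : Module.finrank k (Coh.HH X (ClSub.quotMod D) 0) = 1)
    (M : X.Modules) (hM : PicF.IsInvertible M) :
    Curv2.euler k X M = Curv2.euler k X (CohB1.tensorMod M (ClSub.idealMod D)) + 1 ∧
    Module.finrank k (Coh.HH X (CohB1.tensorMod M (ClSub.idealMod D)) 0) ≤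
      Module.finrank k (Coh.HH X M 0) ∧
    Module.finrank k (Coh.HH X M 0) ≤
      Module.finrank k (Coh.HH X (CohB1.tensorMod M (ClSub.idealMod D)) 0) + 1 ∧
    Module.finrank k (Coh.HH X M 1) ≤
      Module.finrank k (Coh.HH X (CohB1.tensorMod M (ClSub.idealMod D)) 1) := by
  haveI := isNoetherian_of_proper k X
  have hM1 : FlatMod.IsFinLocFreeOfRank 1 M :=
    Groth.Agent.Lib.Helper23.SecTw.isFinLocFreeOfRank_one_of_isInvertible M hM
  have hDi := Groth.Agent.Helper18Cart.isInvertible_of_isEffCartier D hD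
  have hMD : PicF.IsInvertible (CohB1.tensorMod M (ClSub.idealMod D)) :=
    isInvertible_tensorMod hM hDi
  have cM := isCoh_of_isInvertible M hM
  have cMD := isCoh_of_isInvertible _ hMD
  have hQ : Coh.IsCoh (ClSub.quotMod D) :=
    Groth.Agent.S0019.result D.subschemeι _ (isCoh_structureModule D.subscheme)
  have hsuppQ := dim_support_quotMod_le_zero D hdim hD
  have hb := twist_bounds k X hdim D hD 1 M hM1
  rw [hQ1] at hb
  have he := euler_tensor_ideal k X D 1 M hM1 hQ hsuppQ cMD
  rw [euler_eq_h0 k X _ hQ hsuppQ, hQ1] at he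
  have e1 := euler_eq_h0_sub_h1 k X hdim M cM.1
  have e2 := euler_eq_h0_sub_h1 k X hdim _ cMD.1
  push_cast at he
  refine ⟨by linarith, hb.1, by omega, ?_⟩
  have := hb.2
  omega

end Num

end Part2

section Part3


open Groth.Agent.Lib.Helper23.SecTw Groth.Agent.Lib.Helper23.GenLocus
open Groth.Agent.Lib.R2H1.DegCartier Groth.Agent.Lib.R2H1.CurveEuler Groth.Agent.Lib.R2H1.CurveDegSec
  Groth.Agent.Lib.R2H1.EulerAdd Groth.Agent.Lib.R2H2.HHLin Groth.Agent.Lib.R2H2.PnLinRes
  Groth.Agent.Lib.R2H1.PointTwist Groth.Agent.Lib.R2H1.GenusLe Groth.Agent.Lib.R2H2.DevA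

section Canon

variable {X : Scheme.{u}}

/-- the canonical section of `O(D)` generates away from `D` -/
theorem exists_mem_genLocus_of_notMem_support (D : X.IdealSheafData) (L : X.Modules)
    (hL : PicF.IsInvertible L) (e : CohB1.tensorMod L (ClSub.idealMod D) ≅ Coh.structureModule X)
    (y : X) (hy : y ∉ D.support) :
    ∃ s : Coh.structureModule X ⟶ L, y ∈ CohB1.genLocus L s := by
  have hL1 : FlatMod.IsFinLocFreeOfRank 1 L :=
    Groth.Agent.Lib.Helper23.SecTw.isFinLocFreeOfRank_one_of_isInvertible L hL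
  have hLf : FlatMod.IsFinLocFree L := fun y => by
    obtain ⟨V, hy, e⟩ := hL1 y
    exact ⟨V, 1, hy, e⟩
  have hfl := Groth.Agent.Lib.R2H2.PullLF.isFlat_of_isFinLocFree L hLf
  have hS : ((idealSeq D).map (DCoh.tensorBi.obj L)).ShortExact :=
    Groth.Agent.Lib.R2Lead.TensorExact.shortExact_map_tensorBi L (fun y => hfl y)
      (idealSeq D) (idealSeq_shortExact D)
  have hX₂ : PicF.IsInvertible ((idealSeq D).map (DCoh.tensorBi.obj L)).X₂ :=
    Groth.Agent.Lib.Helper23.AmpleIso.isInvertible_of_iso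
      (Groth.Agent.Lib.Helper21.Dual.rU X.sheaf L).symm hL
  have h3 : Subsingleton (((idealSeq D).map (DCoh.tensorBi.obj L)).X₃.presheaf.stalk y) :=
    Groth.Agent.Lib.R2H1.LiftZero.stalk_X₃_subsingleton D L y hy
  haveI := hS.mono_f
  haveI := hS.epi_g
  obtain ⟨e', he'⟩ : ∃ e' : Coh.structureModule X ≅
      ((idealSeq D).map (DCoh.tensorBi.obj L)).X₁, e' = e.symm := ⟨_, rfl⟩
  obtain ⟨τ, hτ⟩ : ∃ τ : Coh.structureModule X ⟶ ((idealSeq D).map (DCoh.tensorBi.obj L)).X₂,
      τ = e'.hom ≫ ((idealSeq D).map (DCoh.tensorBi.obj L)).f := ⟨_, rfl⟩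
  haveI : Mono τ := by rw [hτ]; infer_instance
  have i1 : cokernel τ ≅ cokernel ((idealSeq D).map (DCoh.tensorBi.obj L)).f := by
    rw [hτ]; exact cokernelEpiComp e'.hom _
  have i2 : cokernel ((idealSeq D).map (DCoh.tensorBi.obj L)).f ≅
      ((idealSeq D).map (DCoh.tensorBi.obj L)).X₃ :=
    (colimit.isColimit _).coconePointUniqueUpToIso hS.exact.gIsCokernel
  have hsub : Subsingleton ((cokernel τ).presheaf.stalk y) := by
    by_contra hns
    have hy1 : y ∈ CohB1.support (cokernel τ) := hns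
    exact support_subset_of_mono (i1 ≪≫ i2).hom hy1 h3
  have hmem := Groth.Agent.Lib.R2H1.IsoP1B.mem_genLocus_of_subsingleton_stalk _ hX₂ τ y hsub
  refine ⟨τ ≫ (SecTwist.unitorR L).hom, ?_⟩
  have h5 := Groth.Agent.Lib.Helper23.AmpleIso.genLocus_comp_iso (SecTwist.unitorR L) τ
  exact (congrArg (fun U : X.Opens => y ∈ U) h5).mpr hmem

end Canon

end Part3

section Part4


open Groth.Agent.Lib.Helper23.SecTw Groth.Agent.Lib.Helper23.GenLocus
open Groth.Agent.Lib.R2H1.DegCartier Groth.Agent.Lib.R2H1.CurveEuler Groth.Agent.Lib.R2H1.CurveDegSec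
  Groth.Agent.Lib.R2H1.EulerAdd Groth.Agent.Lib.R2H2.HHLin Groth.Agent.Lib.R2H2.PnLinRes
  Groth.Agent.Lib.R2H1.PointTwist Groth.Agent.Lib.R2H1.GenusLe Groth.Agent.Lib.R2H2.DevA

section Main

variable (k : Type u) [Field k] (X : Scheme.{u}) [X.Over (Spec (CommRingCat.of k))]
    [IsIntegral X] [IsProper (X ↘ (Spec (CommRingCat.of k)))]

/-- on an integral proper curve with `χ(O) = 0` and `h⁰(O) = 1`, for an effective Cartier divisor
`D` of degree one: `h⁰(O((n+1)D)) = n + 1` and `h¹(O((n+1)D)) = 0` -/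
theorem twist_pow (hdim : topologicalKrullDim X = 1)
    (hpa : Curv2.euler k X (Coh.structureModule X) = 0)
    (h0O : Module.finrank k (Coh.HH X (Coh.structureModule X) 0) = 1)
    (D : X.IdealSheafData) (hD : BlowUp.IsEffCartierIdeal D)
    (hQ1 : Module.finrank k (Coh.HH X (ClSub.quotMod D) 0) = 1) (n : ℕ) :
    ∀ L : X.Modules, ClSub.IsInverseOf L (ClSub.idealMod (D ^ (n + 1))) →
      PicF.IsInvertible L ∧ Module.finrank k (Coh.HH X L 0) = n + 1 ∧
        Module.finrank k (Coh.HH X L 1) = 0 := by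
  haveI := isNoetherian_of_proper k X
  induction n with
  | zero =>
    intro L hL
    rw [zero_add, pow_one] at hL
    obtain ⟨e⟩ := hL
    have hLi : PicF.IsInvertible L :=
      Groth.Agent.Lib.Helper2.TensorInv.isInvertible_of_tensor_iso L _ e
    obtain ⟨hχ, hle, hge, -⟩ := twist_numerics k X hdim.le D hD hQ1 L hLi
    rw [euler_congr k e, hpa] at hχ
    rw [Groth.Agent.Lib.R2H2.ClosedPnLin.finrank_HH_of_iso k e 0, h0O] at hle hge
    have cL := isCoh_of_isInvertible L hLi
    have e1 := euler_eq_h0_sub_h1 k X hdim.le L cL.1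
    have hne : ¬ 2 ≤ Module.finrank k (Coh.HH X L 0) := by
      intro h2
      have hdeg : Curv2.deg k X L 1 = 1 := by
        unfold Curv2.deg
        rw [hχ, hpa]; norm_num
      obtain ⟨i, hi⟩ := Groth.Agent.Lib.R2H1.IsoP1C.iso_P1_of_two_le_h0 k X hdim L hLi hdeg h2
      have := Groth.Agent.Lib.R2H1.EllPt.euler_structure_of_iso_P1 k X hdim i hi
      rw [hpa] at this
      exact zero_ne_one this
    refine ⟨hLi, by omega, ?_⟩
    have h01 : Module.finrank k (Coh.HH X L 0) = 1 := by omega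
    rw [hχ, h01] at e1
    push_cast at e1
    omega
  | succ n ih =>
    intro L hL
    have hL' := hL
    obtain ⟨e⟩ := hL'
    have hLi : PicF.IsInvertible L :=
      Groth.Agent.Lib.Helper2.TensorInv.isInvertible_of_tensor_iso L _ e
    rw [pow_succ] at hL
    have hstep := isInverseOf_step (D ^ (n + 1)) D (isEffCartierIdeal_pow hD n) hD L hL
    obtain ⟨hL'i, h0', h1'⟩ := ih _ hstep
    obtain ⟨hχ, hle, hge, h1le⟩ := twist_numerics k X hdim.le D hD hQ1 L hLi
    have cL := isCoh_of_isInvertible L hLi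
    have cL' := isCoh_of_isInvertible _ hL'i
    have e1 := euler_eq_h0_sub_h1 k X hdim.le L cL.1
    have e2 := euler_eq_h0_sub_h1 k X hdim.le _ cL'.1
    rw [h0', h1'] at e2
    rw [h1'] at h1le
    have h1 : Module.finrank k (Coh.HH X L 1) = 0 := by omega
    refine ⟨hLi, ?_, h1⟩
    rw [h1, hχ, e2] at e1
    push_cast at e1
    omega

end Main

end Part4

section Part5



open Groth.Agent.Lib.Helper23.SecTw Groth.Agent.Lib.Helper23.GenLocus
open Groth.Agent.Lib.R2H1.DegCartier Groth.Agent.Lib.R2H1.CurveEuler Groth.Agent.Lib.R2H1.CurveDegSec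
  Groth.Agent.Lib.R2H1.EulerAdd Groth.Agent.Lib.R2H2.HHLin Groth.Agent.Lib.R2H2.PnLinRes
  Groth.Agent.Lib.R2H1.PointTwist Groth.Agent.Lib.R2H1.GenusLe Groth.Agent.Lib.R2H2.DevA

theorem s7933 (k : Type u) [Field k] (C : Scheme.{u}) [C.Over (Spec (CommRingCat.of k))]
    [IsIntegral C] (hdim : topologicalKrullDim C = 1)
    (hproj : ∃ (N : ℕ) (i : C ⟶ CohB1.ProjSpace N k), IsClosedImmersion i ∧
      i ≫ CohB1.ProjSpace.toSpec N k = C ↘ Spec (CommRingCat.of k))
    (hpa : Curv2.euler k C (Coh.structureModule C) = 0)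
    (p : C) (hp : IsClosed ({p} : Set C)) (hrat : Function.Surjective (Curv2.resMap k C p))
    (hreg : IsRegularLocalRing (C.presheaf.stalk p))
    (n : ℕ) (L : C.Modules)
    (hL : ClSub.IsInverseOf L (ClSub.idealMod ((Scheme.IdealSheafData.vanishingIdeal ⟨{p}, hp⟩) ^ n))) :
    Module.finrank k (Coh.HH C (Coh.structureModule C) 0) = 1 ∧
      Module.finrank k (Coh.HH C (Coh.structureModule C) 1) = 1 ∧
      (n = 1 → Module.finrank k (Coh.HH C L 0) = 1) ∧
      (2 ≤ n → Module.finrank k (Coh.HH C L 0) = n) ∧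
      (1 ≤ n → Subsingleton (Coh.HH C L 1)) ∧
      (2 ≤ n → Curv2.IsGloballyGenerated L) := by
  obtain ⟨N, i, hi, hcomp⟩ := hproj
  haveI : IsProper (C ↘ Spec (CommRingCat.of k)) := by
    haveI := Groth.Agent.S9705.isProper_projSpace_toSpec N k
    rw [← hcomp]; infer_instance
  haveI := isNoetherian_of_proper k C
  haveI := hreg
  haveI : IsDiscreteValuationRing (C.presheaf.stalk p) :=
    Groth.Agent.Lib.R2LeadSmoothPSB.isDVR_of_regular_dim_one _
      (Groth.Agent.Lib.Helper8CurveEt.ringKrullDim_stalk_eq_one hdim p hp)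
  have hD := Groth.Agent.Lib.R2H1.RegPoint.isEffCartier_vanishingIdeal_singleton C p hp
  have hQ1 := (Groth.Agent.Lib.R2H1.EllPt.bijective_resMap_iff k C p hp).1
    ⟨(Curv2.resMap k C p).injective, hrat⟩
  have hle := Groth.Agent.Lib.R2H1.IsoP1C.h0_structure_le k C hdim _ (by rw [hQ1]; norm_num)
  rw [hQ1] at hle
  have hpos := Groth.Agent.Lib.R2H1.SubDegBound.h0_structure_pos k C
  have h0O : Module.finrank k (Coh.HH C (Coh.structureModule C) 0) = 1 := by omega
  have cO := isCoh_structureModule C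
  have e0 := euler_eq_h0_sub_h1 k C hdim.le _ cO.1
  rw [hpa, h0O] at e0
  push_cast at e0
  have h1O : Module.finrank k (Coh.HH C (Coh.structureModule C) 1) = 1 := by omega
  have key : ∀ m : ℕ, n = m + 1 → PicF.IsInvertible L ∧
      Module.finrank k (Coh.HH C L 0) = m + 1 ∧ Module.finrank k (Coh.HH C L 1) = 0 := by
    intro m hm
    subst hm
    exact twist_pow k C hdim hpa h0O _ hD hQ1 m L hL
  refine ⟨h0O, h1O, ?_, ?_, ?_, ?_⟩
  · intro hn
    exact (key 0 hn).2.1
  · intro hn
    obtain ⟨m, rfl⟩ : ∃ m, n = m + 1 := ⟨n - 1, by omega⟩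
    exact (key m rfl).2.1
  · intro hn
    obtain ⟨m, rfl⟩ : ∃ m, n = m + 1 := ⟨n - 1, by omega⟩
    obtain ⟨hLi, -, h1⟩ := key m rfl
    have cL := isCoh_of_isInvertible L hLi
    haveI := finite_HH k C L cL 1
    exact Module.finrank_zero_iff.1 h1
  · intro hn
    obtain ⟨m, rfl⟩ : ∃ m, n = m + 2 := ⟨n - 2, by omega⟩
    obtain ⟨hLi, h0, -⟩ := key (m + 1) rfl
    apply Groth.Agent.Lib.Helper23.SecTw.isGloballyGenerated_of_forall_mem_genLocus
    intro x
    by_cases hx : x = p
    · subst hx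
      have hL2 := hL
      rw [pow_succ] at hL2
      have hstep := isInverseOf_step _ _ (isEffCartierIdeal_pow hD m) hD L hL2
      obtain ⟨-, h0', -⟩ := twist_pow k C hdim hpa h0O _ hD hQ1 m _ hstep
      exact Groth.Agent.Lib.R2H1.IsoP1B.exists_mem_genLocus_of_h0_lt' k C L hLi x hp
        (by rw [h0', h0]; omega)
    · obtain ⟨e⟩ := hL
      refine exists_mem_genLocus_of_notMem_support _ L hLi e x ?_
      intro hmem
      have h2 : x ∈ ((Scheme.IdealSheafData.vanishingIdeal ⟨{p}, hp⟩).support : Set C) := by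
        rw [← Scheme.IdealSheafData.support_pow_succ _ (m + 1)]
        exact hmem
      rw [Scheme.IdealSheafData.coe_support_vanishingIdeal] at h2
      exact hx h2

end Part5

end Groth.Agent.Lib.R2H1.IdealProd
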