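import Mathlib
import Groth.Prelude.Def_Neron

/-!
Helper library (helper8): sections of proper schemes over a Dedekind base extend from the generic
point (valuative criterion at every stalk + spreading out + gluing by separatedness).
-/

set_option autoImplicit false
set_option backward.isDefEq.respectTransparency false
set_option backward.isDefEq.respectTransparency.types false
universe u
open CategoryTheory CategoryTheory.Limits AlgebraicGeometry TopologicalSpace

namespace Groth.Agent.Lib.Helper8Dedekind

lemma valuationRing_of_isField {A : Type*} [CommRing A] [IsDomain A] (h : IsField A) :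
    ValuationRing A := by
  refine { cond' := fun a b => ?_ }
  by_cases ha : a = 0
  · exact ⟨0, Or.inr (by simp [ha])⟩
  · obtain ⟨c, hc⟩ := h.mul_inv_cancel ha
    exact ⟨c * b, Or.inl (by rw [← mul_assoc, hc, one_mul])⟩

/-- A morphism from the spectrum of the function field of an irreducible scheme `S` into an open
subscheme of `S`, compatible with the canonical map to `S`, is dominant. -/
lemma isDominant_of_comp_eq_fromSpecStalk {S P : Scheme.{u}} [IrreducibleSpace S] (j : P ⟶ S)
    [IsOpenImmersion j] (ι : Spec S.functionField ⟶ P)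
    (h : ι ≫ j = S.fromSpecStalk (genericPoint S)) : IsDominant ι := by
  constructor
  let c : Spec S.functionField := IsLocalRing.closedPoint S.functionField
  have hc : j (ι c) = genericPoint S := by
    rw [← Scheme.Hom.comp_apply, h, Scheme.fromSpecStalk_closedPoint]
  have hd : Dense ({ι c} : Set P) := by
    rw [dense_iff_closure_eq, j.isOpenEmbedding.isInducing.closure_eq_preimage_closure_image,
      Set.image_singleton, hc, (genericPoint_spec S).def]
    rfl
  exact hd.mono (by rintro _ rfl; exact ⟨c, rfl⟩)

/-- Over an integral scheme all of whose stalks are valuation rings, a proper morphism with a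
section over the generic point has a section. -/
theorem exists_section_of_valuationRing_stalks {S X : Scheme.{u}} [IsIntegral S]
    (hS : ∀ x : S, ValuationRing (S.presheaf.stalk x))
    (f : X ⟶ S) [IsProper f]
    (s : Spec S.functionField ⟶ X)
    (hs : s ≫ f = S.fromSpecStalk (genericPoint S)) :
    ∃ t : S ⟶ X, t ≫ f = 𝟙 S := by
  classical
  have hex : ValuativeCriterion.Existence f := by
    have h1 : UniversallyClosed f := inferInstance
    rw [UniversallyClosed.eq_valuativeCriterion] at h1
    exact h1.1
  have key : ∀ x : S, ∃ (U : S.Opens) (_ : x ∈ U) (g : U.toScheme ⟶ X),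
      g ≫ f = U.ι ∧ ∀ (hη : genericPoint S ∈ U),
        U.fromSpecStalkOfMem (genericPoint S) hη ≫ g = s := by
    intro x
    haveI := hS x
    have hspec : genericPoint S ⤳ x := (genericPoint_spec S).specializes trivial
    have hal : CommRingCat.ofHom (algebraMap (S.presheaf.stalk x) S.functionField) =
        S.presheaf.stalkSpecializes hspec := rfl
    let Sq : ValuativeCommSq f :=
      { R := S.presheaf.stalk x
        K := S.functionField
        i₁ := s
        i₂ := S.fromSpecStalk x
        commSq := ⟨by
          rw [hs, hal, Scheme.SpecMap_stalkSpecializes_fromSpecStalk]⟩ }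
    obtain ⟨⟨l, hl1, hl2⟩⟩ := hex Sq
    have hl1' : Spec.map (S.presheaf.stalkSpecializes hspec) ≫ l = s := hl1
    have hl2' : l ≫ f = S.fromSpecStalk x := hl2
    obtain ⟨U, hxU, g, hg1, hg2⟩ := spread_out_of_isGermInjective' (𝟙 S) f (x := x) l
      (by rw [hl2', Category.comp_id])
    refine ⟨U, hxU, g, by rw [hg2, Category.comp_id], fun hη => ?_⟩
    rw [← hl1', hg1, ← Category.assoc]
    congr 1
    rw [← cancel_mono U.ι, Category.assoc, Scheme.Opens.fromSpecStalkOfMem_ι,
      Scheme.Opens.fromSpecStalkOfMem_ι, Scheme.SpecMap_stalkSpecializes_fromSpecStalk]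
  choose U hxU g hg1 hg2 using key
  have hη : ∀ x, genericPoint S ∈ U x := fun x =>
    ((genericPoint_spec S).mem_open_set_iff (U x).2).mpr ⟨x, trivial, hxU x⟩
  let 𝒰 : S.OpenCover := S.openCoverOfIsOpenCover U (IsOpenCover.mk (by
    rw [eq_top_iff]; intro x _; exact Opens.mem_iSup.mpr ⟨x, hxU x⟩))
  have compat : ∀ x y : S, pullback.fst (𝒰.f x) (𝒰.f y) ≫ g x =
      pullback.snd (𝒰.f x) (𝒰.f y) ≫ g y := by
    intro x y
    change pullback.fst (U x).ι (U y).ι ≫ g x = pullback.snd (U x).ι (U y).ι ≫ g y
    let ι : Spec S.functionField ⟶ pullback (U x).ι (U y).ι :=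
      pullback.lift ((U x).fromSpecStalkOfMem _ (hη x)) ((U y).fromSpecStalkOfMem _ (hη y))
        (by rw [Scheme.Opens.fromSpecStalkOfMem_ι, Scheme.Opens.fromSpecStalkOfMem_ι])
    haveI : IsDominant ι :=
      isDominant_of_comp_eq_fromSpecStalk (pullback.fst (U x).ι (U y).ι ≫ (U x).ι) ι (by
        rw [pullback.lift_fst_assoc, Scheme.Opens.fromSpecStalkOfMem_ι])
    haveI : IsReduced (pullback (U x).ι (U y).ι) :=
      isReduced_of_isOpenImmersion (pullback.fst (U x).ι (U y).ι ≫ (U x).ι)
    refine ext_of_isDominant_of_isSeparated f ?_ ι ?_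
    · rw [Category.assoc, Category.assoc, hg1, hg1]
      exact pullback.condition
    · rw [pullback.lift_fst_assoc, pullback.lift_snd_assoc, hg2, hg2]
  refine ⟨𝒰.glueMorphisms g compat, ?_⟩
  refine 𝒰.hom_ext _ _ fun x => ?_
  rw [← Category.assoc, 𝒰.ι_glueMorphisms, Category.comp_id]
  exact hg1 x

/-- The stalks of the spectrum of a Dedekind domain are valuation rings. -/
theorem valuationRing_stalk_of_dedekind (R : Type u) [CommRing R] [IsDedekindDomain R]
    (x : Spec (CommRingCat.of R)) :
    ValuationRing ((Spec (CommRingCat.of R)).presheaf.stalk x) := by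
  letI alg : Algebra R ((Spec (CommRingCat.of R)).presheaf.stalk x) :=
    StructureSheaf.stalkAlgebra (R := R) x
  haveI hloc : IsLocalization.AtPrime ((Spec (CommRingCat.of R)).presheaf.stalk x) x.asIdeal :=
    StructureSheaf.IsLocalization.to_stalk R x
  by_cases hx : x.asIdeal = ⊥
  · have hmax : IsLocalRing.maximalIdeal ((Spec (CommRingCat.of R)).presheaf.stalk x) = ⊥ := by
      rw [← IsLocalization.AtPrime.map_eq_maximalIdeal x.asIdeal
        ((Spec (CommRingCat.of R)).presheaf.stalk x), hx, Ideal.map_bot]
    exact valuationRing_of_isField (IsLocalRing.isField_iff_maximalIdeal_eq.mpr hmax)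
  · haveI := IsLocalization.AtPrime.isDiscreteValuationRing_of_dedekind_domain R hx
      ((Spec (CommRingCat.of R)).presheaf.stalk x)
    infer_instance

/-- A proper scheme over the spectrum of a Dedekind domain with a point over the fraction field
has a section. -/
theorem exists_section_of_genPt (R : Type u) [CommRing R] [IsDedekindDomain R]
    {X : Scheme.{u}} (f : X ⟶ Spec (CommRingCat.of R)) [IsProper f]
    (s : Spec (CommRingCat.of (FractionRing R)) ⟶ X) (hs : s ≫ f = Neron.genPt R) :
    ∃ t : Spec (CommRingCat.of R) ⟶ X, t ≫ f = 𝟙 _ := by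
  letI alg : Algebra R (Spec (CommRingCat.of R)).functionField :=
    AlgebraicGeometry.instAlgebraCarrierFunctionFieldSpec (CommRingCat.of R)
  haveI : IsFractionRing R (Spec (CommRingCat.of R)).functionField :=
    AlgebraicGeometry.functionField_isFractionRing_of_affine (CommRingCat.of R)
  let a : FractionRing R →ₐ[R] (Spec (CommRingCat.of R)).functionField :=
    (FractionRing.algEquiv R (Spec (CommRingCat.of R)).functionField).toAlgHom
  have h1 : (a : FractionRing R →+* (Spec (CommRingCat.of R)).functionField).comp
      (algebraMap R (FractionRing R)) =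
      algebraMap R (Spec (CommRingCat.of R)).functionField := a.comp_algebraMap
  refine exists_section_of_valuationRing_stalks (valuationRing_stalk_of_dedekind R) f
    (Spec.map (CommRingCat.ofHom
      (a : FractionRing R →+* (Spec (CommRingCat.of R)).functionField)) ≫ s) ?_
  rw [Category.assoc, hs, Neron.genPt, ← Spec.map_comp, ← CommRingCat.ofHom_comp, h1,
    Spec.fromSpecStalk_eq']
  rfl

end Groth.Agent.Lib.Helper8Dedekind
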