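/-
A bivariant class is determined by its restriction to an envelope (S17576; helper1, round 2).
Reusable: lft_g' (the projection X' -> X of a square is lft), isSetup_Y', isSetup_X' (test schemes of squares inherit IsSetup),
bcSq s0 s (base change of the square s0 along the test scheme of s, as a square over s0.f'), main17576.
-/
import Mathlib
import Groth.Prelude
import Groth.Agent.Lib.R2H1ChowDesc

set_option autoImplicit false
set_option linter.style.haveILetI false
set_option linter.unusedSectionVars false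
universe u v

namespace Groth.Agent.Lib.R2H1.BivarEnv

section Part1

open CategoryTheory AlgebraicGeometry CategoryTheory.Limits TopologicalSpace
open Bivar Groth.Agent.Lib.R2H1.ChowDesc Groth.Agent.Lib.R2H1.MVClosed

variable {X Y : Scheme.{u}} {f : X ⟶ Y} {δX : X → ℤ} {δY : Y → ℤ}

theorem lft_g' (s : Sq f δX δY) : LocallyOfFiniteType s.g' :=
  MorphismProperty.of_isPullback (P := @LocallyOfFiniteType) s.isPullback s.lft

theorem isSetup_Y' (hY : Cyc.IsSetup Y δY) (s : Sq f δX δY) : Cyc.IsSetup s.Y' s.δY' := by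
  haveI := s.lft
  exact isSetup_of_lft s.g δY hY s.δY' s.compatY

theorem isSetup_X' (hX : Cyc.IsSetup X δX) (s : Sq f δX δY) : Cyc.IsSetup s.X' s.δX' := by
  haveI := lft_g' s
  exact isSetup_of_lft s.g' δX hX s.δX' s.compatX

/-- the base change of a square `s₀` over `f` along the test scheme of a square `s`, as a square
over `s₀.f'`. -/
noncomputable def bcSq (s₀ s : Sq f δX δY) : Sq s₀.f' s₀.δX' s₀.δY' :=
  haveI := s.lft
  haveI := s₀.lft
  let h := pullback.fst s.g s₀.g
  let tg := pullback.snd s.g s₀.g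
  let tf' := pullback.fst h s.f'
  let h' := pullback.snd h s.f'
  have comm : (tf' ≫ tg) ≫ s₀.g = (h' ≫ s.g') ≫ f := by
    rw [Category.assoc, ← pullback.condition, ← Category.assoc, pullback.condition,
      Category.assoc, s.isPullback.w, Category.assoc]
  let tg' : pullback h s.f' ⟶ s₀.X' := s₀.isPullback.lift (tf' ≫ tg) (h' ≫ s.g') comm
  have hpb : IsPullback tf' tg' tg s₀.f' := by
    have hA : IsPullback tf' h' h s.f' := IsPullback.of_hasPullback h s.f'
    have hbig : IsPullback tf' (h' ≫ s.g') (h ≫ s.g) f := hA.paste_vert s.isPullback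
    have e1 : h' ≫ s.g' = tg' ≫ s₀.g' := (s₀.isPullback.lift_snd _ _ comm).symm
    have e2 : h ≫ s.g = tg ≫ s₀.g := pullback.condition
    rw [e1, e2] at hbig
    exact IsPullback.of_bot hbig (s₀.isPullback.lift_fst _ _ comm).symm s₀.isPullback
  haveI : LocallyOfFiniteType tg' :=
    MorphismProperty.of_isPullback (P := @LocallyOfFiniteType) hpb
      (inferInstance : LocallyOfFiniteType tg)
  { Y' := pullback s.g s₀.g
    X' := pullback h s.f'
    g := tg
    f' := tf'
    g' := tg'
    isPullback := hpb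
    lft := inferInstance
    δY' := indDelta tg s₀.δY'
    δX' := indDelta tg' s₀.δX'
    compatY := deltaCompat_indDelta tg s₀.δY'
    compatX := deltaCompat_indDelta tg' s₀.δX' }

theorem main17576 (hX : Cyc.IsSetup X δX) (hY : Cyc.IsSetup Y δY) (p : ℤ)
    (s₀ : Sq f δX δY) [IsProper s₀.g] (hcd : Cyc.IsCompletelyDecomposed s₀.g)
    (c₁ c₂ : Cl p f δX δY) (heq : c₁.res s₀ = c₂.res s₀) : c₁ = c₂ := by
  apply Cl.ext
  funext s k
  apply AddMonoidHom.ext
  intro a
  obtain ⟨α, hα, rfl⟩ := exists_rep a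
  haveI := s.lft
  haveI := s₀.lft
  let t : Sq s₀.f' s₀.δX' s₀.δY' := bcSq s₀ s
  let u : Sq f δX δY := s₀.paste t
  let h : u.Y' ⟶ s.Y' := pullback.fst s.g s₀.g
  let h' : u.X' ⟶ s.X' := pullback.snd (pullback.fst s.g s₀.g) s.f'
  haveI i1 : IsProper (pullback.fst s.g s₀.g) := inferInstance
  haveI i2 : IsProper (pullback.snd (pullback.fst s.g s₀.g) s.f') := inferInstance
  haveI : IsProper h := i1
  haveI : IsProper h' := i2
  have w₁ : h ≫ s.g = u.g := pullback.condition
  have w₂ : h' ≫ s.f' = u.f' ≫ h := pullback.condition.symm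
  have w₃ : h' ≫ s.g' = u.g' := (s₀.isPullback.lift_snd _ _ _).symm
  -- dimension functions
  have hδh : Cyc.DeltaCompat h u.δY' s.δY' := by
    apply deltaCompat_cancel h s.g _ s.compatY
    rw [w₁]
    exact u.compatY
  haveI : LocallyOfFiniteType s.g' := lft_g' s
  have hδh' : Cyc.DeltaCompat h' u.δX' s.δX' := by
    apply deltaCompat_cancel h' s.g' _ s.compatX
    rw [w₃]
    exact u.compatX
  -- the envelope property
  have hcdh : Cyc.IsCompletelyDecomposed h :=
    isCompletelyDecomposed_of_isPullback (IsPullback.of_hasPullback s.g s₀.g) hcd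
  obtain ⟨α'', hα'', hpush⟩ := exists_preimage_cycle h hcdh u.δY' s.δY' hδh k α hα
  obtain ⟨β₁, hβ₁, h11, h12⟩ := c₁.push s u h h' w₁ w₂ w₃ k α'' hα''
  obtain ⟨β₂, hβ₂, h21, h22⟩ := c₂.push s u h h' w₁ w₂ w₃ k α'' hα''
  have hop : c₁.op u k = c₂.op u k := congrArg (fun c : Cl p s₀.f' s₀.δX' s₀.δY' => c.op t k) heq
  have hcl : ChowOps.cl β₁ hβ₁ = ChowOps.cl β₂ hβ₂ := by rw [← h11, ← h21, hop]
  have hpcl := push_cl_eq (isSetup_X' hX u) (isSetup_X' hX s) h' hδh' (k - p) β₁ β₂ hβ₁ hβ₂ hcl
  have e : ChowOps.cl α hα = ChowOps.cl (AlgebraicCycle.map h u.δY' s.δY' α'')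
      (cycMap_mem_Zk h u.δY' s.δY' k hα'') := cl_congr hpush.symm _ _
  rw [e, h12, h22, hpcl]

end Part1

end Groth.Agent.Lib.R2H1.BivarEnv
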