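/-
Independence of c_1(L) cap alpha of the chosen rational sections, up to rational equivalence (helper1, round 2; S6456). Contains: c1Cap_indep, main6456.
-/
import Mathlib
import Groth.Prelude.Def_Cyc
import Groth.Prelude.Def_C1
import Groth.Agent.Lib.R2H1C1Rel
import Groth.Agent.Lib.R2H1C1Tensor
import Groth.Agent.Lib.R2H1Gysin

set_option autoImplicit false
set_option linter.style.haveILetI false
set_option linter.unusedSectionVars false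
universe u v

namespace Groth.Agent.Lib.R2H1.C1Indep

section Part1

open AlgebraicGeometry CategoryTheory TopologicalSpace IsLocalRing CycAlg Opposite
  Groth.Agent.Lib.R2H1.C1Comm Groth.Agent.Lib.R2H1.C1Rel Groth.Agent.Lib.R2H1.LocQuot
  Groth.Agent.Lib.R2H1.RatEquivClosed Groth.Agent.Lib.R2H1.C1Tensor Groth.Agent.Lib.R2H1.Gysin
  Groth.Agent.Lib.R2H1.FlatDivSum

/-- `c_1(L) ∩ α` does not depend, up to rational equivalence, on the rational sections chosen. -/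
theorem c1Cap_indep (X : Scheme.{u}) (δ : X → ℤ) (hX : Cyc.IsSetup X δ) (L : X.Modules)
    (hL : PicF.IsInvertible L) (k : ℤ) (α : AlgebraicCycle X ℤ) (hα : α ∈ Cyc.Zk X δ (k + 1))
    (u : (ξ : X) → Cyc.secFibre L ξ) (hu : ∀ ξ, u ξ ≠ 0)
    (t : (ξ : X) → Cyc.secFibre L ξ) (ht : ∀ ξ, t ξ ≠ 0) (γ₁ γ₂ : AlgebraicCycle X ℤ)
    (h₁ : ⇑γ₁ = Cyc.c1CapFun δ L ⇑α u) (h₂ : ⇑γ₂ = Cyc.c1CapFun δ L ⇑α t) :
    Cyc.RatEquiv δ k γ₁ γ₂ := by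
  classical
  haveI : IsLocallyNoetherian X := hX.1
  have hδ := hX.2.2
  choose gL hgL using exists_gen L hL
  set φ : (ξ : X) → X.residueField ξ := fun ξ =>
    (gL ξ).fib ξ (hgL ξ) (u ξ) / (gL ξ).fib ξ (hgL ξ) (t ξ) with hφ
  have hφ0 : ∀ ξ, φ ξ ≠ 0 := fun ξ =>
    div_ne_zero ((gL ξ).fib_ne_zero ξ (hgL ξ) (u ξ) (hu ξ))
      ((gL ξ).fib_ne_zero ξ (hgL ξ) (t ξ) (ht ξ))
  have key : ∀ ξ₀ x : X, Cyc.secDivFun δ L ξ₀ (u ξ₀) x =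
      Cyc.divFun δ ξ₀ (φ ξ₀) x + Cyc.secDivFun δ L ξ₀ (t ξ₀) x := by
    intro ξ₀ x
    unfold Cyc.secDivFun Cyc.divFun
    by_cases hc : ξ₀ ⤳ x ∧ δ x + 1 = δ ξ₀
    · rw [dif_pos hc, dif_pos hc, dif_pos hc]
      have hm : ξ₀ ∈ (gL x).W := hc.1.mem_open (gL x).W.isOpen (hgL x)
      rw [(gL x).secOrdAt_eq hδ ξ₀ x hc.1 hc.2 (hgL x) (u ξ₀),
        (gL x).secOrdAt_eq hδ ξ₀ x hc.1 hc.2 (hgL x) (t ξ₀)]
      have eU := (gL x).fib_change (gL ξ₀) ξ₀ hm (hgL ξ₀) (u ξ₀)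
      have eT := (gL x).fib_change (gL ξ₀) ξ₀ hm (hgL ξ₀) (t ξ₀)
      have hTx : (gL x).fib ξ₀ hm (t ξ₀) ≠ 0 := (gL x).fib_ne_zero ξ₀ hm (t ξ₀) (ht ξ₀)
      have hT0 : (gL ξ₀).fib ξ₀ (hgL ξ₀) (t ξ₀) ≠ 0 :=
        (gL ξ₀).fib_ne_zero ξ₀ (hgL ξ₀) (t ξ₀) (ht ξ₀)
      have hprod : (gL x).fib ξ₀ hm (u ξ₀) = φ ξ₀ * (gL x).fib ξ₀ hm (t ξ₀) := by
        rw [eU, eT]
        change _ = (gL ξ₀).fib ξ₀ (hgL ξ₀) (u ξ₀) / (gL ξ₀).fib ξ₀ (hgL ξ₀) (t ξ₀) * _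
        field_simp
      rw [hprod, ordAt_mul hδ x ξ₀ hc.1 hc.2 (hφ0 ξ₀) hTx]
    · rw [dif_neg hc, dif_neg hc, dif_neg hc]
      ring
  unfold Cyc.RatEquiv
  refine ratEquivZero_of_support X δ hX k α hα φ hφ0 (γ₁ - γ₂) ?_
  intro x
  have hsub : (γ₁ - γ₂) x = γ₁ x - γ₂ x := by
    rw [Function.locallyFinsuppWithin.coe_sub]
    rfl
  rw [hsub, h₁, h₂]
  unfold Cyc.c1CapFun
  have hS := finite_support_specializes α x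
  have hfin : ∀ f : X → ℤ, (∀ ξ, f ξ ≠ 0 → ξ ⤳ x) →
      (Function.support (fun ξ => α ξ * f ξ)).Finite := by
    intro f hf
    refine hS.subset ?_
    intro ξ hξ
    rw [Function.mem_support] at hξ
    exact ⟨fun h0 => hξ (by rw [h0, zero_mul]), hf ξ (fun h0 => hξ (by rw [h0, mul_zero]))⟩
  have hfU := hfin (fun ξ => Cyc.secDivFun δ L ξ (u ξ) x)
    (fun ξ h => (secDivFun_ne_zero_specializes h).1)
  have hfT := hfin (fun ξ => Cyc.secDivFun δ L ξ (t ξ) x)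
    (fun ξ h => (secDivFun_ne_zero_specializes h).1)
  rw [← finsum_sub_distrib hfU hfT]
  refine finsum_congr (fun ξ => ?_)
  rw [key ξ x]
  ring

/-- S6456: `i_* i^* α ∼ c_1(L) ∩ α`. -/
theorem main6456 (X D : Scheme.{u}) (δ : X → ℤ) (hX : Cyc.IsSetup X δ) (L : X.Modules)
    (hL : PicF.IsInvertible L) (s : L.presheaf.obj (Opposite.op ⊤)) (k : ℤ)
    (α : AlgebraicCycle X ℤ) (hα : α ∈ Cyc.Zk X δ (k + 1))
    (w : (ξ : X) → Cyc.secFibre L ξ) (hw : ∀ ξ, w ξ ≠ 0)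
    (t : (ξ : X) → Cyc.secFibre L ξ) (ht : ∀ ξ, t ξ ≠ 0) (γ₁ γ₂ : AlgebraicCycle X ℤ)
    (h₁ : ⇑γ₁ = Cyc.c1CapFun δ L ⇑α (Cyc.gysinChoice L s w))
    (h₂ : ⇑γ₂ = Cyc.c1CapFun δ L ⇑α t) : Cyc.RatEquiv δ k γ₁ γ₂ :=
  c1Cap_indep X δ hX L hL k α hα (Cyc.gysinChoice L s w) (gysinChoice_ne_zero s w hw) t ht
    γ₁ γ₂ h₁ h₂

end Part1

end Groth.Agent.Lib.R2H1.C1Indep
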