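/-
Cycles on inverse limits of schemes, part A (S6496; helper1, round 2).
Reusable: map_fromSpecStalk_of_le (points of Spec O_{X',x'} over the closed fibre map to p x'), length_toNat_ne_zero
(at a fibre-generic point of a morphism from a locally Noetherian scheme the fibre multiplicity in Cyc.pullFun is finite and
non-zero), notMem_range_of_pullFun_eq_zero, disjoint_closure_of_generalizing (image of a generalizing map misses the closure
of a finite set of points outside the image), main6496.
-/
import Mathlib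
import Groth.Prelude.Def_Cyc
import Groth.Agent.Lib.R2H1FlatPullRat
import Groth.Agent.Lib.R2H3CycFlat

set_option autoImplicit false
set_option linter.style.haveILetI false
set_option linter.unusedSectionVars false
universe u v

namespace Groth.Agent.Lib.R2H1.CycLimA

section Part1

open AlgebraicGeometry CategoryTheory TopologicalSpace CategoryTheory.Limits IsLocalRing
  Groth.Agent.Lib.R2H1.LocQuot

variable {X X' : Scheme.{u}}

/-- the image under `p` of the point of `Spec O_{X',x'}` attached to a prime containing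
`m_{p x'} O_{X',x'}` is `p x'`. -/
theorem map_fromSpecStalk_of_le (p : X' ⟶ X) (x' : X')
    (q : PrimeSpectrum (X'.presheaf.stalk x'))
    (hq : Ideal.map (p.stalkMap x').hom (maximalIdeal (X.presheaf.stalk (p x'))) ≤ q.asIdeal) :
    p (X'.fromSpecStalk x' q) = p x' := by
  have nat := Scheme.SpecMap_stalkMap_fromSpecStalk p (x := x')
  have h1 : p (X'.fromSpecStalk x' q) =
      X.fromSpecStalk (p x') (Spec.map (p.stalkMap x') q) := by
    rw [← Scheme.Hom.comp_apply, ← nat, Scheme.Hom.comp_apply]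
  rw [h1]
  have h2 : Spec.map (p.stalkMap x') q = closedPoint (X.presheaf.stalk (p x')) := by
    apply PrimeSpectrum.ext
    change Ideal.comap (p.stalkMap x').hom q.asIdeal = maximalIdeal _
    have h3 : maximalIdeal (X.presheaf.stalk (p x')) ≤ Ideal.comap (p.stalkMap x').hom q.asIdeal :=
      Ideal.map_le_iff_le_comap.mp hq
    exact ((maximalIdeal.isMaximal _).eq_of_le (Ideal.IsPrime.ne_top inferInstance) h3).symm
  rw [h2, Scheme.fromSpecStalk_closedPoint]

/-- at a point which is generic in its fibre, the multiplicity of the fibre is finite and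
non-zero. -/
theorem length_toNat_ne_zero (p : X' ⟶ X) [IsLocallyNoetherian X'] (x' : X')
    (hgen : ∀ y, p y = p x' → y ⤳ x' → y = x') :
    (Module.length (X'.presheaf.stalk x')
      (X'.presheaf.stalk x' ⧸ Ideal.map (p.stalkMap x').hom
        (maximalIdeal (X.presheaf.stalk (p x'))))).toNat ≠ 0 := by
  set T := X'.presheaf.stalk x' with hT
  set J := Ideal.map (p.stalkMap x').hom (maximalIdeal (X.presheaf.stalk (p x'))) with hJ
  have hJle : J ≤ maximalIdeal T := IsLocalRing.map_maximalIdeal_le (p.stalkMap x').hom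
  have hJtop : J ≠ ⊤ := fun h => (maximalIdeal.isMaximal T).ne_top (top_le_iff.mp (h ▸ hJle))
  haveI : Nontrivial (T ⧸ J) := Ideal.Quotient.nontrivial_iff.mpr hJtop
  haveI : IsLocalRing (T ⧸ J) :=
    IsLocalRing.of_surjective' (Ideal.Quotient.mk J) Ideal.Quotient.mk_surjective
  haveI : Ring.KrullDimLE 0 (T ⧸ J) := by
    rw [Ring.krullDimLE_zero_iff]
    intro Q hQ
    by_contra hmax
    have hne : Q ≠ maximalIdeal (T ⧸ J) := fun h => hmax (h ▸ maximalIdeal.isMaximal _)
    have h1 := Groth.Agent.Lib.R2H1.FlatPullRat.ptOf_ne_of_ne_maximal x' J hJtop ⟨Q, hQ⟩ hne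
    apply h1
    apply hgen
    · apply map_fromSpecStalk_of_le
      intro r hr
      change r ∈ Ideal.comap (Ideal.Quotient.mk J) Q
      rw [Ideal.mem_comap, Ideal.Quotient.eq_zero_iff_mem.mpr hr]
      exact zero_mem _
    · exact Groth.Agent.Lib.R2H1.FlatPullRat.ptOf_specializes x' J ⟨Q, hQ⟩
  haveI : IsArtinianRing (T ⧸ J) := isArtinianRing_iff_krullDimLE_zero.mpr inferInstance
  have hfin : IsFiniteLength (T ⧸ J) (T ⧸ J) := (isArtinianRing_iff_isFiniteLength _).mp inferInstance
  have hlen : Module.length T (T ⧸ J) = Module.length (T ⧸ J) (T ⧸ J) :=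
    Module.length_eq_of_surjective (S := T) (R := T ⧸ J) Ideal.Quotient.mk_surjective
  rw [hlen]
  intro h0
  rcases (ENat.toNat_eq_zero).mp h0 with h | h
  · exact (Module.length_pos (R := T ⧸ J) (M := T ⧸ J)).ne' h
  · exact (Module.length_ne_top_iff.mpr hfin) h

end Part1

section Part2

open AlgebraicGeometry CategoryTheory TopologicalSpace CategoryTheory.Limits IsLocalRing Groth.Agent.Lib.R2H1.FlatPullRat Groth.Agent.Lib.R2H3.CycFlat

variable {X X' : Scheme.{u}}

/-- if the shift-0 pullback of `α` along a flat morphism vanishes, no point of the support of `α`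
is in the image. -/
theorem notMem_range_of_pullFun_eq_zero (p : X' ⟶ X) [IsLocallyNoetherian X'] (δ' : X' → ℤ)
    (δ : X → ℤ) (c : ℤ)
    (hshift : ∀ x : X', (∀ y, p y = p x → y ⤳ x → y = x) → δ' x = δ (p x) + c)
    (α : X → ℤ) (h0 : Cyc.pullFun p δ' δ c α = 0) (x : X) (hx : α x ≠ 0) :
    x ∉ Set.range p := by
  rintro ⟨x'', rfl⟩
  obtain ⟨x', hx'1, -, hx'3⟩ := exists_fibGen p x''
  have h1 := congrFun h0 x'
  rw [pullFun_eq, if_pos (hshift x' hx'3), hx'1] at h1
  have h2 : mult p x' ≠ 0 := by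
    unfold mult
    exact_mod_cast length_toNat_ne_zero p x' hx'3
  exact (mul_ne_zero hx h2) h1

/-- the image of a generalizing map misses the closure of a set of points outside the image. -/
theorem disjoint_closure_of_generalizing (p : X' ⟶ X) (hp : GeneralizingMap p) (S : Set X)
    (hS : S.Finite) (hSr : ∀ x ∈ S, x ∉ Set.range p) (x' : X') : p x' ∉ closure S := by
  intro h
  have h1 : closure S = ⋃ x ∈ S, closure {x} := by
    conv_lhs => rw [← Set.biUnion_of_singleton S]
    exact hS.closure_biUnion _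
  rw [h1] at h
  obtain ⟨x, hxS, hx⟩ := Set.mem_iUnion₂.mp h
  have hsp : x ⤳ p x' := specializes_iff_mem_closure.mpr hx
  obtain ⟨x'', -, hx''⟩ := hp hsp
  exact hSr x hxS ⟨x'', hx''⟩

/-- S6496. -/
theorem main6496 (I : Type u) [Preorder I] [IsDirected I (fun a b => a ≤ b)] [Nonempty I]
    (D : Iᵒᵖ ⥤ Scheme.{u}) (c : Limits.Cone D) (hc : Limits.IsLimit c)
    (haff : ∀ (i j : Iᵒᵖ) (f : i ⟶ j), IsAffineHom (D.map f))
    (hqc : ∀ i, CompactSpace ↥(D.obj i)) (δ : (i : Iᵒᵖ) → ↥(D.obj i) → ℤ) (δ' : ↥c.pt → ℤ)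
    (hset' : Cyc.IsSetup c.pt δ') (hflat' : ∀ i, Flat (c.π.app i))
    (hshift' : ∀ (i : Iᵒᵖ) (x : ↥c.pt),
      (∀ y, c.π.app i y = c.π.app i x → y ⤳ x → y = x) → δ' x = δ i (c.π.app i x))
    (i : Iᵒᵖ) (α : AlgebraicCycle (D.obj i) ℤ)
    (h0 : Cyc.pullFun (c.π.app i) δ' (δ i) 0 ⇑α = 0) :
    ∃ (j : Iᵒᵖ) (f : j ⟶ i), Cyc.pullFun (D.map f) (δ j) (δ i) 0 ⇑α = 0 := by
  classical
  haveI : IsLocallyNoetherian c.pt := hset'.1
  haveI : IsLocallyNoetherian (((Functor.const Iᵒᵖ).obj c.pt).obj i) := hset'.1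
  haveI : ∀ {i j : Iᵒᵖ} (f : i ⟶ j), IsAffineHom (D.map f) := fun f => haff _ _ f
  haveI : ∀ i, CompactSpace ↥(D.obj i) := hqc
  haveI := hflat' i
  have hSfin : (Function.support ⇑α).Finite := by
    have := α.locallyFiniteSupport.finite_inter_support_of_isCompact isCompact_univ
    rwa [Set.univ_inter] at this
  have hA : ∀ x ∈ Function.support ⇑α, x ∉ Set.range (c.π.app i) := by
    intro x hx
    exact notMem_range_of_pullFun_eq_zero (c.π.app i) δ' (δ i) 0
      (fun x' hx' => by rw [add_zero]; exact hshift' i x' hx') _ h0 x hx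
  let U : (D.obj i).Opens := ⟨(closure (Function.support ⇑α))ᶜ, isClosed_closure.isOpen_compl⟩
  have hU : c.π.app i ⁻¹ᵁ U = ⊤ := by
    ext x'
    simp only [Opens.map_coe, Set.mem_preimage, SetLike.mem_coe, Opens.coe_top, Set.mem_univ,
      iff_true]
    exact disjoint_closure_of_generalizing (c.π.app i) (Flat.generalizingMap _) _ hSfin hA x'
  obtain ⟨j, f, hj⟩ := exists_map_eq_top D c hc U hU
  refine ⟨j, f, ?_⟩
  funext z
  rw [pullFun_eq]
  have hz : D.map f z ∈ U := by
    have : z ∈ D.map f ⁻¹ᵁ U := by rw [hj]; trivial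
    exact this
  have hα : α (D.map f z) = 0 := by
    by_contra hne
    exact hz (subset_closure hne)
  rw [hα, zero_mul, ite_self]
  rfl

end Part2

end Groth.Agent.Lib.R2H1.CycLimA
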