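/-
Cycles on inverse limits of schemes, part C (S6497; helper1, round 2).
Reusable: pullFun_divFun_of_good (flat pullback of the divisor of s on the closure of p x is the divisor of the image of s on
the closure of x when x is good for p: closure x = preimage of closure p x and m_x generated by m_{p x}), pullFun_sub',
pullFun_finsum, exists_pullCycle (the flat pullback of a cycle as an AlgebraicCycle), exists_good123, main6497.
-/
import Mathlib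
import Groth.Prelude.Def_Cyc
import Groth.Prelude.Def_Bivar
import Groth.Agent.Lib.R2H1FlatPullC1
import Groth.Agent.Lib.R2H1ProperPushRat
import Groth.Agent.Lib.R2H1CycLimA
import Groth.Agent.Lib.R2H1CycLimB

set_option autoImplicit false
set_option linter.style.haveILetI false
set_option linter.unusedSectionVars false
universe u v

namespace Groth.Agent.Lib.R2H1.CycLimC

section Part1

open AlgebraicGeometry CategoryTheory TopologicalSpace CategoryTheory.Limits IsLocalRing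
  Groth.Agent.Lib.R2H1.FlatPullRat Groth.Agent.Lib.R2H3.CycFlat Groth.Agent.Lib.R2H1.CycLimB
  Groth.Agent.Lib.R2H1.RatEquivClosed

variable {X X' : Scheme.{u}}

/-- the flat pullback of the divisor of `s` on the closure of `p ξ'` is the divisor of the image of
`s` on the closure of `ξ'`, when `ξ'` is good for `p`. -/
theorem pullFun_divFun_of_good {δ : X → ℤ} {δ' : X' → ℤ} (hX : Cyc.IsSetup X δ)
    (hX' : Cyc.IsSetup X' δ') (p : X' ⟶ X) [Flat p]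
    (hc : ∀ x' : X', (∀ y, p y = p x' → y ⤳ x' → y = x') → δ' x' = δ (p x') + 0)
    (ξ' : X') (h1 : ∀ y' : X', p ξ' ⤳ p y' → ξ' ⤳ y')
    (h2 : maximalIdeal (X'.presheaf.stalk ξ') ≤ Ideal.map (p.stalkMap ξ').hom
      (maximalIdeal (X.presheaf.stalk (p ξ'))))
    (s : X.residueField (p ξ')) (hs : s ≠ 0) (x' : X') :
    Cyc.pullFun p δ' δ 0 (Cyc.divFun δ (p ξ') s) x' =
      Cyc.divFun δ' ξ' ((p.residueFieldMap ξ').hom s) x' := by
  rw [(pointwise hX hX' p 0 hc (p ξ') s hs x').2, finsum_eq_single _ ξ']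
  · rw [Mterm_pos p δ' δ 0 (p ξ') s x' ξ' rfl (hc ξ' (fibGen_of_good p ξ' h1)),
      mult_eq_one p ξ' h2, one_mul]
    rfl
  · intro ζ' hζ'
    by_contra hne
    obtain ⟨e, hd, -, -⟩ := Mterm_ne_zero p δ' δ 0 (p ξ') s x' ζ' hne
    have hgen := (delta_le p δ δ' hX'.2.2 0 hc ζ').2 (by rw [e]; exact hd)
    have hsp : ξ' ⤳ ζ' := h1 ζ' (by rw [e])
    exact hζ' (hgen ξ' e.symm hsp).symm

theorem pullFun_sub' (p : X' ⟶ X) (δ' : X' → ℤ) (δ : X → ℤ) (c : ℤ) (a b : X → ℤ) :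
    Cyc.pullFun p δ' δ c (a - b) = Cyc.pullFun p δ' δ c a - Cyc.pullFun p δ' δ c b := by
  funext x
  simp only [Cyc.pullFun, Pi.sub_apply]
  split_ifs <;> ring

theorem pullFun_finsum (p : X' ⟶ X) (δ' : X' → ℤ) (δ : X → ℤ) (c : ℤ) {ι : Type*} [Finite ι]
    (F : ι → X → ℤ) (x' : X') :
    Cyc.pullFun p δ' δ c (fun x => ∑ᶠ a, F a x) x' = ∑ᶠ a, Cyc.pullFun p δ' δ c (F a) x' := by
  classical
  haveI := Fintype.ofFinite ι
  simp only [Cyc.pullFun]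
  split_ifs
  · rw [finsum_eq_sum_of_fintype, finsum_eq_sum_of_fintype, Finset.sum_mul]
  · simp

/-- the flat pullback of a cycle as a cycle. -/
theorem exists_pullCycle {δ : X → ℤ} {δ' : X' → ℤ} (hX' : Cyc.IsSetup X' δ')
    (p : X' ⟶ X) (c : ℤ)
    (hc : ∀ x' : X', (∀ y, p y = p x' → y ⤳ x' → y = x') → δ' x' = δ (p x') + c)
    (α : AlgebraicCycle X ℤ) :
    ∃ β : AlgebraicCycle X' ℤ, ⇑β = Cyc.pullFun p δ' δ c ⇑α := by
  refine ⟨⟨Cyc.pullFun p δ' δ c ⇑α, fun _ _ => Set.mem_univ _, fun z _ => ?_⟩, rfl⟩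
  obtain ⟨U, hU, hzU, hfin⟩ :=
    Groth.Agent.Lib.R2H1.FlatPullC1.pullFun_support_locallyFinite hX' p c hc α z
  refine ⟨U, hU.mem_nhds hzU, ?_⟩
  refine (hfin.image Subtype.val).subset ?_
  rintro ζ ⟨hζU, hζ⟩
  exact ⟨⟨ζ, hζ⟩, ⟨ζ, subset_closure rfl, hζU⟩, rfl⟩

end Part1

section Part2

open AlgebraicGeometry CategoryTheory TopologicalSpace CategoryTheory.Limits IsLocalRing
  Groth.Agent.Lib.R2H1.FlatPullRat Groth.Agent.Lib.R2H3.CycFlat Groth.Agent.Lib.R2H1.CycLimB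
  Groth.Agent.Lib.R2H1.RatEquivClosed

variable {I : Type u} [Category.{u} I] (D : I ⥤ Scheme.{u}) (c : Cone D) (hc : IsLimit c)

include hc in
theorem exists_good123 [IsCofiltered I] [∀ {i j} (f : i ⟶ j), IsAffineHom (D.map f)]
    [∀ i, CompactSpace (D.obj i)] [IsLocallyNoetherian c.pt] (x' : c.pt)
    (r : c.pt.residueField x') :
    ∃ i, Good1 D c i x' ∧ Good2 D c i x' ∧ Good3 D c i x' r := by
  obtain ⟨i₁, h₁⟩ := exists_good1 D c hc x'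
  obtain ⟨i₂, h₂⟩ := exists_good2 D c hc x'
  obtain ⟨i₃, h₃⟩ := exists_good3 D c hc x' r
  refine ⟨IsCofiltered.min (IsCofiltered.min i₁ i₂) i₃, ?_, ?_, ?_⟩
  · exact good1_mono D c (IsCofiltered.minToLeft _ _ ≫ IsCofiltered.minToLeft _ _) x' h₁
  · exact good2_mono D c (IsCofiltered.minToLeft _ _ ≫ IsCofiltered.minToRight _ _) x' h₂
  · exact good3_mono D c (IsCofiltered.minToRight _ _) x' r h₃

/-- S6497. -/
theorem main6497 (I : Type u) [Preorder I] [IsDirected I (fun a b => a ≤ b)] [Nonempty I]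
    (D : Iᵒᵖ ⥤ Scheme.{u}) (c : Limits.Cone D) (hc : Limits.IsLimit c)
    (haff : ∀ (i j : Iᵒᵖ) (f : i ⟶ j), IsAffineHom (D.map f))
    (hflat : ∀ (i j : Iᵒᵖ) (f : i ⟶ j), Flat (D.map f)) (hqc : ∀ i, CompactSpace ↥(D.obj i))
    (δ : (i : Iᵒᵖ) → ↥(D.obj i) → ℤ) (δ' : ↥c.pt → ℤ)
    (hset : ∀ i, Cyc.IsSetup (D.obj i) (δ i)) (hset' : Cyc.IsSetup c.pt δ')
    (hshift : ∀ (i j : Iᵒᵖ) (f : i ⟶ j) (x : ↥(D.obj i)),
      (∀ y, D.map f y = D.map f x → y ⤳ x → y = x) → δ i x = δ j (D.map f x))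
    (hflat' : ∀ i, Flat (c.π.app i))
    (hshift' : ∀ (i : Iᵒᵖ) (x : ↥c.pt),
      (∀ y, c.π.app i y = c.π.app i x → y ⤳ x → y = x) → δ' x = δ i (c.π.app i x))
    (k : ℤ) (i : Iᵒᵖ) (α : AlgebraicCycle (D.obj i) ℤ)
    (α' : AlgebraicCycle c.pt ℤ) (hα' : ⇑α' = Cyc.pullFun (c.π.app i) δ' (δ i) 0 ⇑α)
    (h0 : Cyc.RatEquivZero δ' k α') :
    ∃ (j : Iᵒᵖ) (f : j ⟶ i) (αj : AlgebraicCycle (D.obj j) ℤ),
      ⇑αj = Cyc.pullFun (D.map f) (δ j) (δ i) 0 ⇑α ∧ Cyc.RatEquivZero (δ j) k αj := by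
  classical
  haveI : IsLocallyNoetherian c.pt := hset'.1
  haveI : ∀ {i j : Iᵒᵖ} (f : i ⟶ j), IsAffineHom (D.map f) := fun f => haff _ _ f
  haveI : ∀ i, CompactSpace ↥(D.obj i) := hqc
  haveI : CompactSpace c.pt := Scheme.compactSpace_of_isLimit D c hc
  -- shift conditions in the `+ 0` form
  have hsh : ∀ (i j : Iᵒᵖ) (f : i ⟶ j) (x : ↥(D.obj i)),
      (∀ y, D.map f y = D.map f x → y ⤳ x → y = x) → δ i x = δ j (D.map f x) + 0 :=
    fun i j f x h => by rw [add_zero]; exact hshift i j f x h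
  have hsh' : ∀ (i : Iᵒᵖ) (x : ↥c.pt),
      (∀ y, c.π.app i y = c.π.app i x → y ⤳ x → y = x) → δ' x = δ i (c.π.app i x) + 0 :=
    fun i x h => by rw [add_zero]; exact hshift' i x h
  obtain ⟨ι, ξ, r, hξk, hr0, hlf, hsum⟩ := h0
  haveI hfinι : Finite ι := by
    have h := Groth.Agent.Lib.R2H1.ProperPushRat.finite_of_locallyFinite_of_isCompact ξ hlf
      Set.univ isCompact_univ
    have h2 : (Set.univ : Set ι).Finite := h.subset (fun a _ => Set.mem_univ _)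
    exact Set.finite_univ_iff.mp h2
  haveI := Fintype.ofFinite ι
  -- a common good stage
  obtain ⟨i₀, hi₀⟩ := exists_common (Finset.univ : Finset ι)
    (fun a j => Good1 D c j (ξ a) ∧ Good2 D c j (ξ a) ∧ Good3 D c j (ξ a) (r a))
    (fun a i j f h => ⟨good1_mono D c f _ h.1, good2_mono D c f _ h.2.1,
      good3_mono D c f _ _ h.2.2⟩)
    (fun a _ => exists_good123 D c hc (ξ a) (r a))
  set j₁ := IsCofiltered.min i₀ i with hj₁
  let f₁ : j₁ ⟶ i := IsCofiltered.minToRight i₀ i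
  have hgood : ∀ a, Good1 D c j₁ (ξ a) ∧ Good2 D c j₁ (ξ a) ∧ Good3 D c j₁ (ξ a) (r a) := by
    intro a
    obtain ⟨g1, g2, g3⟩ := hi₀ a (Finset.mem_univ a)
    exact ⟨good1_mono D c (IsCofiltered.minToLeft i₀ i) _ g1,
      good2_mono D c (IsCofiltered.minToLeft i₀ i) _ g2,
      good3_mono D c (IsCofiltered.minToLeft i₀ i) _ _ g3⟩
  haveI : Flat (c.π.app j₁) := hflat' j₁
  haveI : IsLocallyNoetherian (D.obj j₁) := (hset j₁).1
  choose s hs using fun a => (hgood a).2.2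
  have hs0 : ∀ a, s a ≠ 0 := by
    intro a h
    apply hr0 a
    rw [← hs a, h, map_zero]
  have hηk : ∀ a, δ j₁ (c.π.app j₁ (ξ a)) = k + 1 := by
    intro a
    rw [← hshift' j₁ (ξ a) (fibGen_of_good (c.π.app j₁) (ξ a) (hgood a).1)]
    exact hξk a
  have hlfη : ∀ x : ↥(D.obj j₁), ∃ U : Set ↥(D.obj j₁), IsOpen U ∧ x ∈ U ∧
      {a | (closure {c.π.app j₁ (ξ a)} ∩ U).Nonempty}.Finite :=
    fun x => ⟨Set.univ, isOpen_univ, Set.mem_univ x, Set.toFinite _⟩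
  let β : AlgebraicCycle (D.obj j₁) ℤ :=
    ⟨fun x => ∑ᶠ a, Cyc.divFun (δ j₁) (c.π.app j₁ (ξ a)) (s a) x,
      fun _ _ => Set.mem_univ _, fun z _ =>
      finsum_divFun_locallyFinite (hset j₁).2.2 (fun a => c.π.app j₁ (ξ a)) s hlfη z⟩
  have hβ : ∀ x, β x = ∑ᶠ a, Cyc.divFun (δ j₁) (c.π.app j₁ (ξ a)) (s a) x := fun x => rfl
  have hβ0 : Cyc.RatEquivZero (δ j₁) k β :=
    ⟨ι, fun a => c.π.app j₁ (ξ a), s, hηk, hs0, hlfη, hβ⟩
  -- the pullback of β to the limit is α'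
  have hpullβ : Cyc.pullFun (c.π.app j₁) δ' (δ j₁) 0 ⇑β = ⇑α' := by
    funext x'
    have e1 : ⇑β = fun x => ∑ᶠ a, Cyc.divFun (δ j₁) (c.π.app j₁ (ξ a)) (s a) x := funext hβ
    rw [e1, pullFun_finsum, hsum x']
    refine finsum_congr (fun a => ?_)
    rw [pullFun_divFun_of_good (hset j₁) hset' (c.π.app j₁) (hsh' j₁) (ξ a) (hgood a).1
      (hgood a).2.1 (s a) (hs0 a) x', hs a]
  -- the pullback of α to stage j₁
  obtain ⟨α₁, hα₁⟩ := exists_pullCycle (hset j₁) (D.map f₁) 0 (hsh j₁ i f₁) α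
  have hpullα₁ : Cyc.pullFun (c.π.app j₁) δ' (δ j₁) 0 ⇑α₁ = ⇑α' := by
    rw [hα₁, ← pullFun_comp (D.map f₁) (c.π.app j₁) (δ i) (δ j₁) δ' (hset j₁).2.2 hset'.2.2 0 0
      (hsh j₁ i f₁) (hsh' j₁) ⇑α, hα']
    have hw : c.π.app j₁ ≫ D.map f₁ = c.π.app i := c.w f₁
    rw [hw, add_zero]
  have hγ0 : Cyc.pullFun (c.π.app j₁) δ' (δ j₁) 0 ⇑(α₁ - β) = 0 := by
    rw [Function.locallyFinsuppWithin.coe_sub, pullFun_sub', hpullα₁, hpullβ, sub_self]
  obtain ⟨j₂, f₂, h2⟩ := Groth.Agent.Lib.R2H1.CycLimA.main6496 I D c hc haff hqc δ δ' hset' hflat'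
    hshift' j₁ (α₁ - β) hγ0
  haveI : Flat (D.map f₂) := hflat _ _ f₂
  obtain ⟨αj, hαj⟩ := exists_pullCycle (hset j₂) (D.map (f₂ ≫ f₁)) 0 (hsh j₂ i (f₂ ≫ f₁)) α
  refine ⟨j₂, f₂ ≫ f₁, αj, hαj, ?_⟩
  have hkey : ⇑αj = Cyc.pullFun (D.map f₂) (δ j₂) (δ j₁) 0 ⇑β := by
    rw [hαj, D.map_comp]
    have e := pullFun_comp (D.map f₁) (D.map f₂) (δ i) (δ j₁) (δ j₂) (hset j₁).2.2 (hset j₂).2.2
      0 0 (hsh j₁ i f₁) (hsh j₂ j₁ f₂) ⇑α
    rw [add_zero] at e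
    rw [e, ← hα₁]
    have e2 : ⇑α₁ = ⇑(α₁ - β) + ⇑β := by
      rw [Function.locallyFinsuppWithin.coe_sub, sub_add_cancel]
    rw [e2, Bivar.pullFun_add, h2, zero_add]
  have := main1940 (D.obj j₁) (D.obj j₂) (δ j₁) (δ j₂) (hset j₁) (hset j₂) (D.map f₂) 0
    (hsh j₂ j₁ f₂) k β hβ0 αj hkey
  rwa [add_zero] at this

end Part2

end Groth.Agent.Lib.R2H1.CycLimC
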