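/-
Gysin maps of two zero schemes commute (helper1, round 2): ordAt_FfunR_eq_zero_of_unit_left, divFun_Ftot_eq_zero_of_unit_left (left version of the unit lemma for the commutator functions), isZeroSchemeOf_iso_comp, isZeroSchemeOf_fst_symm, range_fst_symm, divFun_psi_gysin_eq_zero, finsum_divFun_restrict, family_add (union of two locally finite families of principal divisors), coef_sum_eq_c1CapFun, c1CapFun_gysin_props (support, local finiteness and dimension of c_1(L) cap alpha with the Gysin choice), gysin_side, gysin_comm_family (commutator as principal divisors at points where both sections vanish), main1931 (S1931).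
-/
import Mathlib
import Groth.Prelude.Def_Cyc
import Groth.Prelude.Def_C1
import Groth.Agent.Lib.R2H1C1Rel
import Groth.Agent.Lib.R2H1C1Tensor
import Groth.Agent.Lib.R2H1Gysin
import Groth.Agent.Lib.R2H1FlatPullRat
import Groth.Agent.Lib.Helper23SecTw6
import Groth.Agent.Lib.R2H1PullInv3
import Groth.Agent.Lib.R2H1CIPush
import Groth.Agent.Lib.R2H1FlatPullC1
import Groth.Agent.Lib.R2H1RelCartier
import Groth.Agent.Lib.R2H1PullbackKer
import Groth.Agent.Lib.R2H1GysinFlat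

set_option autoImplicit false
set_option linter.style.haveILetI false
set_option linter.unusedSectionVars false
universe u v

namespace Groth.Agent.Lib.R2H1.GysinComm

section Part1

open AlgebraicGeometry CategoryTheory TopologicalSpace IsLocalRing CycAlg
  Groth.Agent.Lib.R2H1.LocQuot Groth.Agent.Lib.R2H1.RatEquivOpen
  Groth.Agent.Lib.R2H1.FlatDivSum Groth.Agent.Lib.R2H1.TameLaws
  Groth.Agent.Lib.R2H1.C1Comm Groth.Agent.Lib.R2H1.C1Rel

variable {X : Scheme.{u}} {ξ₀ : X} (CL CN : CData ξ₀)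

/-- if the first datum is, at `ξ`, a unit multiple `w` of the generator both for the section on
the closure of `ξ₀` and for the auxiliary section at `ξ`, the rational function `FfunR ξ` has
trivial divisor. -/
theorem ordAt_FfunR_eq_zero_of_unit_left (δ : X → ℤ) (hX : Cyc.IsSetup X δ) (ξ x : X) (h : ξ ⤳ x)
    (h₀ : ξ₀ ⤳ ξ) (hd : δ x + 1 = δ ξ) (hξ : δ ξ + 1 = δ ξ₀) (w : (X.presheaf.stalk ξ)ˣ)
    (hw : CL.lamAt ξ h₀ = Cyc.specMap ξ ξ₀ h₀ (w : _)) (hub : CL.ub ξ = X.residue ξ (w : _)) :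
    Cyc.ordAt x ξ h (FfunR CL CN ξ h₀) = 0 := by
  haveI : IsLocallyNoetherian X := hX.1
  have hR : ringKrullDim (Cyc.LocQuot ξ ξ₀ h₀) = 1 := ringKrullDim_locQuot hX.2.2 ξ ξ₀ h₀ hξ
  have ho : ∀ y z : ResidueField (Cyc.LocQuot ξ ξ₀ h₀), y ≠ 0 → z ≠ 0 →
      oR x ξ ξ₀ h h₀ (y * z) = oR x ξ ξ₀ h h₀ y + oR x ξ ξ₀ h h₀ z :=
    fun y z hy hz => oR_mul hX.2.2 x ξ ξ₀ h h₀ hd y z hy hz
  rw [ordAt_FfunR CL CN δ hX ξ x h h₀ hd hξ, alR_eq_zero_of_isU CL ξ h₀ ⟨w, hw⟩, hub]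
  have hT : Cyc.ordAt x ξ h (TsymR ξ ξ₀ h₀ (CL.num ξ h₀) (CL.den ξ h₀) (CN.num ξ h₀)
      (CN.den ξ h₀)) = oR x ξ ξ₀ h h₀ (Tsym (Cyc.LocQuot ξ ξ₀ h₀) (qm ξ ξ₀ h₀ (CL.num ξ h₀))
        (qm ξ ξ₀ h₀ (CL.den ξ h₀)) (qm ξ ξ₀ h₀ (CN.num ξ h₀)) (qm ξ ξ₀ h₀ (CN.den ξ h₀))) := rfl
  set w' : (Cyc.LocQuot ξ ξ₀ h₀)ˣ :=
    Units.map (qm ξ ξ₀ h₀ : X.presheaf.stalk ξ →* Cyc.LocQuot ξ ξ₀ h₀) w with hw'
  have ha := qm_ne_zero ξ ξ₀ h₀ (CL.num_ne ξ h₀)
  have hb := qm_ne_zero ξ ξ₀ h₀ (CL.den_ne ξ h₀)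
  have hc := qm_ne_zero ξ ξ₀ h₀ (CN.num_ne ξ h₀)
  have hdd := qm_ne_zero ξ ξ₀ h₀ (CN.den_ne ξ h₀)
  have hwne : (w' : Cyc.LocQuot ξ ξ₀ h₀) ≠ 0 := w'.ne_zero
  have e1 : oR x ξ ξ₀ h h₀ (residue _ (w' : Cyc.LocQuot ξ ξ₀ h₀)) =
      Cyc.ordAt x ξ h (X.residue ξ (w : X.presheaf.stalk ξ)) := by
    rw [hw', Units.coe_map]
    exact oR_residue_qm x ξ ξ₀ h h₀ _
  have e2 : alR CN ξ h₀ = ordZ (qm ξ ξ₀ h₀ (CN.num ξ h₀)) - ordZ (qm ξ ξ₀ h₀ (CN.den ξ h₀)) := by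
    unfold alR
    rw [CN.lam_eq ξ h₀]
    exact ordAt_ratio_rel δ hX ξ ξ₀ h₀ hξ _ _ (CN.num_ne ξ h₀) (CN.den_ne ξ h₀)
  rw [hT, o_Tsym hR (oR x ξ ξ₀ h h₀) ho ha hb hc hdd, num_eq_of_isU CL ξ h₀ w hw,
    D_mul_left hR (oR x ξ ξ₀ h h₀) ho hwne hb hc, D_mul_left hR (oR x ξ ξ₀ h h₀) ho hwne hb hdd,
    D_unit_left hR (oR x ξ ξ₀ h h₀) ho w' hc, D_unit_left hR (oR x ξ ξ₀ h h₀) ho w' hdd, e1, e2]
  ring

theorem divFun_Ftot_eq_zero_of_unit_left (δ : X → ℤ) (hX : Cyc.IsSetup X δ) (ξ : X)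
    (h₀ : ξ₀ ⤳ ξ) (hξ : δ ξ + 1 = δ ξ₀) (w : (X.presheaf.stalk ξ)ˣ)
    (hw : CL.lamAt ξ h₀ = Cyc.specMap ξ ξ₀ h₀ (w : _)) (hub : CL.ub ξ = X.residue ξ (w : _))
    (x : X) : Cyc.divFun δ ξ (Ftot CL CN ξ) x = 0 := by
  unfold Cyc.divFun
  by_cases hc : ξ ⤳ x ∧ δ x + 1 = δ ξ
  · rw [dif_pos hc, Ftot_pos CL CN ξ h₀]
    exact ordAt_FfunR_eq_zero_of_unit_left CL CN δ hX ξ x hc.1 h₀ hc.2 hξ w hw hub
  · rw [dif_neg hc]

end Part1

section Part2

open AlgebraicGeometry CategoryTheory Limits TopologicalSpace IsLocalRing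

variable {X D D' : Scheme.{u}}

/-- being the zero scheme of a section is invariant under isomorphisms of the source. -/
theorem isZeroSchemeOf_iso_comp {P P' : Scheme.{u}} (e : P' ≅ P) (j : P ⟶ X) (L : X.Modules)
    (s : L.presheaf.obj (Opposite.op ⊤)) (hj : Cyc.IsZeroSchemeOf j L s) :
    Cyc.IsZeroSchemeOf (e.hom ≫ j) L s := by
  refine ⟨?_, ?_⟩
  · rw [← hj.1]
    ext x
    constructor
    · rintro ⟨z, rfl⟩
      exact ⟨e.hom z, rfl⟩
    · rintro ⟨z, rfl⟩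
      refine ⟨e.inv z, ?_⟩
      change j (e.hom (e.inv z)) = j z
      congr 1
      have := congrArg (fun φ : P ⟶ P => φ z) e.inv_hom_id
      simpa using this
  · intro z
    obtain ⟨t, f, ht, hs, hker⟩ := hj.2 (e.hom z)
    refine ⟨t, f, ht, hs, ?_⟩
    have hinj : Function.Injective (e.hom.stalkMap z).hom :=
      ((ConcreteCategory.isIso_iff_bijective (e.hom.stalkMap z)).mp inferInstance).1
    have e1 : ((e.hom ≫ j).stalkMap z).hom =
        (e.hom.stalkMap z).hom.comp (j.stalkMap (e.hom z)).hom := by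
      rw [Scheme.Hom.stalkMap_comp]
      rfl
    have e2 : RingHom.ker ((e.hom.stalkMap z).hom.comp (j.stalkMap (e.hom z)).hom) =
        RingHom.ker (j.stalkMap (e.hom z)).hom := by
      ext a
      rw [RingHom.mem_ker, RingHom.mem_ker, RingHom.comp_apply]
      constructor
      · intro h0
        exact hinj (by rw [h0, map_zero])
      · intro h0
        rw [h0, map_zero]
    rw [e1]
    exact e2.trans hker

/-- the second projection of a fibre product of closed subschemes as the first projection of the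
flipped fibre product. -/
theorem isZeroSchemeOf_fst_symm (i : D ⟶ X) (i' : D' ⟶ X) (N : D'.Modules)
    (σ : N.presheaf.obj (Opposite.op ⊤)) (h : Cyc.IsZeroSchemeOf (pullback.snd i i') N σ) :
    Cyc.IsZeroSchemeOf (pullback.fst i' i) N σ := by
  have := isZeroSchemeOf_iso_comp (pullbackSymmetry i' i) (pullback.snd i i') N σ h
  rwa [pullbackSymmetry_hom_comp_snd] at this

theorem range_fst_symm (i : D ⟶ X) (i' : D' ⟶ X) :
    Set.range (pullback.fst i' i) = Set.range (pullback.snd i i') := by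
  rw [Scheme.Pullback.range_fst, Scheme.Pullback.range_snd]

end Part2

section Part3

open AlgebraicGeometry CategoryTheory Limits TopologicalSpace IsLocalRing CycAlg Opposite
  Groth.Agent.Lib.R2H1.C1Comm Groth.Agent.Lib.R2H1.C1Rel Groth.Agent.Lib.R2H1.C1Tensor
  Groth.Agent.Lib.R2H1.RatEquivOpen
  Groth.Agent.Lib.R2H1.RatEquivClosed Groth.Agent.Lib.R2H1.LocQuot Groth.Agent.Lib.R2H1.Gysin
  Groth.Agent.Lib.Helper23.SecTw Groth.Agent.Lib.R2H1.FlatPullRat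
  Groth.Agent.Lib.R2H1.PullInv Groth.Agent.Lib.R2H1.PullInv2 Groth.Agent.Lib.R2H1.PullInv3
  Groth.Agent.Lib.R2H1.FlatPullC1 Groth.Agent.Lib.R2H1.RelCartier
  Groth.Agent.Lib.R2H1.PullbackKer Groth.Agent.Lib.R2H1.CIPush Groth.Agent.Lib.R2H1.GysinFlat

variable {X X' D : Scheme.{u}}

/-- off the pulled back divisor, the comparison function of the Gysin choices has trivial divisor
at the points of the pulled back divisor. -/
theorem divFun_psi_gysin_eq_zero (f : X' ⟶ X) (i : D ⟶ X) [IsClosedImmersion i]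
    (L : X.Modules) [L.IsQuasicoherent] (WL : X → X.Opens)
    (eL : ∀ z, Γ(L, WL z)) (hz : ∀ z, z ∈ WL z) (hgen : ∀ z, IsGen L (WL z) (eL z))
    (s : L.presheaf.obj (Opposite.op ⊤)) (hD : Cyc.IsZeroSchemeOf i L s)
    (s' : ((Scheme.Modules.pullback f).obj L).presheaf.obj (Opposite.op ⊤))
    (hD' : Cyc.IsZeroSchemeOf (pullback.fst f i) ((Scheme.Modules.pullback f).obj L) s')
    (w : (ξ : X) → Cyc.secFibre L ξ)
    (w' : (ξ : X') → Cyc.secFibre ((Scheme.Modules.pullback f).obj L) ξ) (δ' : X' → ℤ)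
    (y : X') (hy : y ∈ Set.range (pullback.fst f i)) (ξ' : X')
    (hξ' : ξ' ∉ Set.range (pullback.fst f i)) :
    Cyc.divFun δ' ξ' (psi f L WL eL hz hgen ξ' (Cyc.gysinChoice L s w (f ξ'))
      (Cyc.gysinChoice ((Scheme.Modules.pullback f).obj L) s' w' ξ')) y = 0 := by
  obtain ⟨z, rfl⟩ := hy
  by_cases hcond : ξ' ⤳ pullback.fst f i z ∧ δ' (pullback.fst f i z) + 1 = δ' ξ'
  · obtain ⟨u, hu⟩ := psi_gysin_eq_unit f i L WL eL hz hgen s hD s' hD' w w' z ξ' hcond.1 hξ'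
    have h1 := ordAt_unit (pullback.fst f i z) ξ' hcond.1 (u : X'.presheaf.stalk _) u.isUnit
    have h0 : Cyc.ordAt (pullback.fst f i z) ξ' hcond.1
        (Cyc.specMap (pullback.fst f i z) ξ' hcond.1 (u : X'.presheaf.stalk _)) = 0 := h1
    unfold Cyc.divFun
    rw [dif_pos hcond, hu, h0]
  · unfold Cyc.divFun
    rw [dif_neg hcond]

/-- restricting a weighted sum of principal divisors to a closed subscheme outside of which the
divisors are trivial. -/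
theorem finsum_divFun_restrict {Z Y : Scheme.{u}} (j : Z ⟶ Y) [IsClosedImmersion j]
    (δY : Y → ℤ) (β : Y → ℤ) (φ : (y : Y) → Y.residueField y) (z : Z)
    (h0 : ∀ y, y ∉ Set.range j → Cyc.divFun δY y (φ y) (j z) = 0) :
    ∑ᶠ y, β y * Cyc.divFun δY y (φ y) (j z) =
      ∑ᶠ z', β (j z') * Cyc.divFun (fun z => δY (j z)) z'
        ((j.residueFieldMap z').hom (φ (j z'))) z := by
  rw [finsum_comp_of_injective j j.isClosedEmbedding.injective]
  · refine finsum_congr (fun z' => ?_)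
    rw [divFun_preimmersion j δY z' z]
  · intro y hne
    by_contra hnot
    exact hne (by rw [h0 y hnot, mul_zero])

/-- the union of two locally finite families of principal divisors. -/
theorem family_add {X : Scheme.{u}} (δ : X → ℤ) (k : ℤ) {ι₁ ι₂ : Type u} (ξ₁ : ι₁ → X)
    (f₁ : (j : ι₁) → X.residueField (ξ₁ j)) (hξ₁ : ∀ j, δ (ξ₁ j) = k + 1) (hf₁ : ∀ j, f₁ j ≠ 0)
    (hlf₁ : ∀ x : X, ∃ U : Set X, IsOpen U ∧ x ∈ U ∧ {j | (closure {ξ₁ j} ∩ U).Nonempty}.Finite)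
    (ξ₂ : ι₂ → X)
    (f₂ : (j : ι₂) → X.residueField (ξ₂ j)) (hξ₂ : ∀ j, δ (ξ₂ j) = k + 1) (hf₂ : ∀ j, f₂ j ≠ 0)
    (hlf₂ : ∀ x : X, ∃ U : Set X, IsOpen U ∧ x ∈ U ∧
      {j | (closure {ξ₂ j} ∩ U).Nonempty}.Finite) :
    ∃ (J : Type u) (ζ : J → X) (g : (j : J) → X.residueField (ζ j)),
      (∀ j, δ (ζ j) = k + 1) ∧ (∀ j, g j ≠ 0) ∧
      (∀ x : X, ∃ U : Set X, IsOpen U ∧ x ∈ U ∧ {j | (closure {ζ j} ∩ U).Nonempty}.Finite) ∧
      ∀ x, ∑ᶠ j, Cyc.divFun δ (ζ j) (g j) x =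
        ∑ᶠ j, Cyc.divFun δ (ξ₁ j) (f₁ j) x + ∑ᶠ j, Cyc.divFun δ (ξ₂ j) (f₂ j) x := by
  classical
  refine ⟨ι₁ ⊕ ι₂, Sum.elim ξ₁ ξ₂,
    fun j => Sum.rec (motive := fun j => X.residueField (Sum.elim ξ₁ ξ₂ j))
      (fun j => f₁ j) (fun j => f₂ j) j, ?_, ?_, ?_, ?_⟩
  · rintro (j | j)
    · exact hξ₁ j
    · exact hξ₂ j
  · rintro (j | j)
    · exact hf₁ j
    · exact hf₂ j
  · intro x
    obtain ⟨U₁, hU₁, hx₁, hfin₁⟩ := hlf₁ x
    obtain ⟨U₂, hU₂, hx₂, hfin₂⟩ := hlf₂ x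
    refine ⟨U₁ ∩ U₂, hU₁.inter hU₂, ⟨hx₁, hx₂⟩, ?_⟩
    refine ((hfin₁.image Sum.inl).union (hfin₂.image Sum.inr)).subset ?_
    rintro (j | j) ⟨y, hy, hyU⟩
    · exact Or.inl ⟨j, ⟨y, hy, hyU.1⟩, rfl⟩
    · exact Or.inr ⟨j, ⟨y, hy, hyU.2⟩, rfl⟩
  · intro x
    have hfin1 := family_divFun_support_finite δ ξ₁ f₁ hlf₁ x
    have hfin2 := family_divFun_support_finite δ ξ₂ f₂ hlf₂ x
    rw [finsum_sum_type _ hfin1 hfin2]
    rfl

end Part3

section Part4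

open AlgebraicGeometry CategoryTheory Limits TopologicalSpace IsLocalRing CycAlg Opposite
  Groth.Agent.Lib.R2H1.C1Comm Groth.Agent.Lib.R2H1.C1Rel Groth.Agent.Lib.R2H1.C1Tensor
  Groth.Agent.Lib.R2H1.RatEquivOpen
  Groth.Agent.Lib.R2H1.RatEquivClosed Groth.Agent.Lib.R2H1.LocQuot Groth.Agent.Lib.R2H1.Gysin
  Groth.Agent.Lib.Helper23.SecTw Groth.Agent.Lib.R2H1.FlatPullRat
  Groth.Agent.Lib.R2H1.PullInv Groth.Agent.Lib.R2H1.PullInv2 Groth.Agent.Lib.R2H1.PullInv3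
  Groth.Agent.Lib.R2H1.FlatPullC1 Groth.Agent.Lib.R2H1.RelCartier
  Groth.Agent.Lib.R2H1.PullbackKer Groth.Agent.Lib.R2H1.CIPush Groth.Agent.Lib.R2H1.GysinFlat

variable {X D : Scheme.{u}}

/-- the sum over the support of a cycle of the divisors of the sections. -/
theorem coef_sum_eq_c1CapFun {L : X.Modules} (gL : X → Gen L) (hgL : ∀ z, z ∈ (gL z).W)
    (δ : X → ℤ) (hX : Cyc.IsSetup X δ) (α : AlgebraicCycle X ℤ)
    (v : (ξ : X) → Cyc.secFibre L ξ) (hv : ∀ ξ, v ξ ≠ 0) (ξ : X) :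
    ∑ᶠ ζ : {ζ : X // α ζ ≠ 0}, α ζ.1 * (ofMod gL hgL ζ.1 (v ζ.1) (hv _) v hv).coef δ ξ =
      Cyc.c1CapFun δ L ⇑α v ξ := by
  unfold Cyc.c1CapFun
  have e : ∀ ζ : {ζ : X // α ζ ≠ 0}, α ζ.1 *
      (ofMod gL hgL ζ.1 (v ζ.1) (hv _) v hv).coef δ ξ =
      α ζ.1 * Cyc.secDivFun δ L ζ.1 (v ζ.1) ξ := fun ζ => by
    rw [ofMod_coef gL hgL ζ.1 (v ζ.1) (hv _) v hv δ hX ξ]
  rw [finsum_congr e]
  exact finsum_subtype_of_support (fun ζ => α ζ ≠ 0)
    (fun ζ => α ζ * Cyc.secDivFun δ L ζ (v ζ) ξ)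
    (fun ζ h h0 => h (by rw [h0, zero_mul]))

/-- support, local finiteness and dimension of the coefficient function `c_1(L) ∩ α` computed
with the Gysin choice of sections. -/
theorem c1CapFun_gysin_props (i : D ⟶ X) (δ : X → ℤ) (hX : Cyc.IsSetup X δ) (L : X.Modules)
    (hL : PicF.IsInvertible L) (s : L.presheaf.obj (Opposite.op ⊤))
    (hD : Cyc.IsZeroSchemeOf i L s) (k : ℤ) (α : AlgebraicCycle X ℤ)
    (hα : α ∈ Cyc.Zk X δ k) (w : (ξ : X) → Cyc.secFibre L ξ) (hw : ∀ ξ, w ξ ≠ 0) :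
    (∀ ξ, Cyc.c1CapFun δ L ⇑α (Cyc.gysinChoice L s w) ξ ≠ 0 → ξ ∈ Set.range i) ∧
    (∀ x₀ : X, ∃ U : Set X, IsOpen U ∧ x₀ ∈ U ∧
      {ξ : X | ξ ∈ U ∧ Cyc.c1CapFun δ L ⇑α (Cyc.gysinChoice L s w) ξ ≠ 0}.Finite) ∧
    (∀ ξ, Cyc.c1CapFun δ L ⇑α (Cyc.gysinChoice L s w) ξ ≠ 0 → δ ξ = k - 2 + 1) := by
  classical
  choose gL hgL using Groth.Agent.Lib.R2H1.C1Comm.exists_gen L hL
  have hgc := gysinChoice_ne_zero s w hw
  refine ⟨?_, ?_, ?_⟩
  · intro ξ hξ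
    by_contra hnot
    apply hξ
    refine c1CapFun_gysin_eq_zero hL δ hX s w hw _ ξ ?_
    intro h0
    apply hnot
    rw [hD.1]
    exact h0
  · intro x₀
    obtain ⟨U, hU, hxU, hfin⟩ := coef_family_support_locallyFinite δ hX
      (ι := {ζ : X // α ζ ≠ 0}) (fun ζ => ζ.1) (cycle_support_locallyFinite α)
      (fun ζ => ofMod gL hgL ζ.1 (Cyc.gysinChoice L s w ζ.1) (hgc _) (Cyc.gysinChoice L s w) hgc)
      (fun ζ => α ζ.1) x₀
    refine ⟨U, hU, hxU, hfin.subset ?_⟩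
    rintro ξ ⟨hξU, hξ⟩
    refine ⟨hξU, ?_⟩
    rw [coef_sum_eq_c1CapFun gL hgL δ hX α (Cyc.gysinChoice L s w) hgc ξ]
    exact hξ
  · intro ξ hξ
    have : ∃ ζ, α ζ * Cyc.secDivFun δ L ζ (Cyc.gysinChoice L s w ζ) ξ ≠ 0 := by
      by_contra hall
      push_neg at hall
      apply hξ
      change ∑ᶠ ζ : X, α ζ * Cyc.secDivFun δ L ζ (Cyc.gysinChoice L s w ζ) ξ = 0
      rw [finsum_congr hall, finsum_zero]
    obtain ⟨ζ', hζ'⟩ := this
    have h1 : α ζ' ≠ 0 := fun h0 => hζ' (by rw [h0, zero_mul])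
    have h2 : Cyc.secDivFun δ L ζ' (Cyc.gysinChoice L s w ζ') ξ ≠ 0 :=
      fun h0 => hζ' (by rw [h0, mul_zero])
    have h3 := (secDivFun_ne_zero_specializes h2).2
    have h4 : δ ζ' = k := by
      by_contra hne
      exact h1 (hα ζ' hne)
    omega

/-- one side of the double Gysin formula: the Gysin pullback to a closed subscheme `P` of `D` of a
coefficient function on `D`, in terms of the corresponding operation on `X` and principal
divisors on `P`. -/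
theorem gysin_side (i : D ⟶ X) [IsClosedImmersion i] {δ : X → ℤ} (hX : Cyc.IsSetup X δ)
    (N : X.Modules) [N.IsQuasicoherent] (WN : X → X.Opens)
    (eN : ∀ z, Γ(N, WN z)) (hz : ∀ z, z ∈ WN z) (hgen : ∀ z, IsGen N (WN z) (eN z))
    (A : X → ℤ) (hAsupp : ∀ ξ, A ξ ≠ 0 → ξ ∈ Set.range i)
    (hAlf : ∀ x₀ : X, ∃ U : Set X, IsOpen U ∧ x₀ ∈ U ∧ {ξ : X | ξ ∈ U ∧ A ξ ≠ 0}.Finite)
    (v : (ξ : X) → Cyc.secFibre N ξ) (hv : ∀ ξ, v ξ ≠ 0)
    (τ : (d : D) → Cyc.secFibre ((Scheme.Modules.pullback i).obj N) d) (hτ : ∀ d, τ d ≠ 0)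
    {P : Scheme.{u}} (j : P ⟶ D) [IsClosedImmersion j]
    (hunit : ∀ d, d ∉ Set.range j → ∀ z, Cyc.divFun (fun d => δ (i d)) d
      (psi i N WN eN hz hgen d (v (i d)) (τ d)) (j z) = 0) (z : P) :
    Cyc.c1CapFun (fun d => δ (i d)) ((Scheme.Modules.pullback i).obj N) (fun d => A (i d)) τ
        (j z) =
      Cyc.c1CapFun δ N A v (i (j z)) -
        ∑ᶠ z' : P, A (i (j z')) * Cyc.divFun (fun z => δ (i (j z))) z'
          ((j.residueFieldMap z').hom (psi i N WN eN hz hgen (j z') (v (i (j z'))) (τ (j z'))))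
          z := by
  have hγlf := restrict_support_locallyFinite i A hAlf
  have e3 : Cyc.c1CapFun δ N A v (i (j z)) =
      ∑ᶠ d' : D, A (i d') * Cyc.secDivFun δ N (i d') (v (i d')) (i (j z)) := by
    unfold Cyc.c1CapFun
    rw [finsum_comp_of_injective i i.isClosedEmbedding.injective]
    intro ξ hξ
    exact hAsupp ξ (fun h0 => hξ (by rw [h0, zero_mul]))
  have hfin : {d' : D | A (i d') ≠ 0 ∧ d' ⤳ j z}.Finite := by
    obtain ⟨U, hU, hdU, hfin⟩ := hγlf (j z)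
    refine (hfin.image Subtype.val).subset ?_
    rintro d' ⟨h1, h2⟩
    exact ⟨⟨d', h1⟩, ⟨j z, specializes_iff_mem_closure.mp h2, hdU⟩, rfl⟩
  have e4 := compare_sum i hX N WN eN hz hgen (fun d => A (i d)) (j z) hfin v hv τ hτ
  have e5 := finsum_divFun_restrict j (fun d => δ (i d)) (fun d => A (i d))
    (fun d => psi i N WN eN hz hgen d (v (i d)) (τ d)) z (fun d hd => hunit d hd z)
  rw [e3, e4, e5]
  unfold Cyc.c1CapFun
  ring

end Part4

section Part5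

open AlgebraicGeometry CategoryTheory Limits TopologicalSpace IsLocalRing CycAlg Opposite
  Groth.Agent.Lib.R2H1.C1Comm Groth.Agent.Lib.R2H1.C1Rel Groth.Agent.Lib.R2H1.C1Tensor
  Groth.Agent.Lib.R2H1.RatEquivOpen
  Groth.Agent.Lib.R2H1.RatEquivClosed Groth.Agent.Lib.R2H1.LocQuot Groth.Agent.Lib.R2H1.Gysin
  Groth.Agent.Lib.Helper23.SecTw Groth.Agent.Lib.R2H1.FlatPullRat
  Groth.Agent.Lib.R2H1.PullInv Groth.Agent.Lib.R2H1.PullInv2 Groth.Agent.Lib.R2H1.PullInv3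
  Groth.Agent.Lib.R2H1.FlatPullC1 Groth.Agent.Lib.R2H1.RelCartier
  Groth.Agent.Lib.R2H1.PullbackKer Groth.Agent.Lib.R2H1.CIPush Groth.Agent.Lib.R2H1.GysinFlat

variable {X : Scheme.{u}}

/-- the commutator of the two Gysin operations on `X` is a locally finite sum of principal
divisors at points where both sections vanish. -/
theorem gysin_comm_family (δ : X → ℤ) (hX : Cyc.IsSetup X δ) (L L' : X.Modules)
    (hL : PicF.IsInvertible L) (hL' : PicF.IsInvertible L')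
    (s : L.presheaf.obj (Opposite.op ⊤)) (s' : L'.presheaf.obj (Opposite.op ⊤)) (T : Set X)
    (hT : ∀ ξ, ξ ∉ T →
      (Submodule.Quotient.mk ((L.presheaf.germ ⊤ ξ trivial) s) : Cyc.secFibre L ξ) ≠ 0 ∨
      (Submodule.Quotient.mk ((L'.presheaf.germ ⊤ ξ trivial) s') : Cyc.secFibre L' ξ) ≠ 0)
    (k : ℤ) (α : AlgebraicCycle X ℤ) (hα : α ∈ Cyc.Zk X δ k)
    (w : (ξ : X) → Cyc.secFibre L ξ) (hw : ∀ ξ, w ξ ≠ 0)
    (w' : (ξ : X) → Cyc.secFibre L' ξ) (hw' : ∀ ξ, w' ξ ≠ 0) :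
    ∃ (ι' : Type u) (ξ' : ι' → X) (F : (j : ι') → X.residueField (ξ' j)),
      (∀ j, ξ' j ∈ T) ∧ (∀ j, δ (ξ' j) = k - 2 + 1) ∧ (∀ j, F j ≠ 0) ∧
      (∀ x : X, ∃ U : Set X, IsOpen U ∧ x ∈ U ∧ {j | (closure {ξ' j} ∩ U).Nonempty}.Finite) ∧
      ∀ x, Cyc.c1CapFun δ L' (Cyc.c1CapFun δ L ⇑α (Cyc.gysinChoice L s w))
          (Cyc.gysinChoice L' s' w') x -
        Cyc.c1CapFun δ L (Cyc.c1CapFun δ L' ⇑α (Cyc.gysinChoice L' s' w'))
          (Cyc.gysinChoice L s w) x = ∑ᶠ j, Cyc.divFun δ (ξ' j) (F j) x := by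
  classical
  choose gL hgL using Groth.Agent.Lib.R2H1.C1Comm.exists_gen L hL
  choose gL' hgL' using Groth.Agent.Lib.R2H1.C1Comm.exists_gen L' hL'
  have hgc := gysinChoice_ne_zero s w hw
  have hgc' := gysinChoice_ne_zero s' w' hw'
  set gc := Cyc.gysinChoice L s w with hgcdef
  set gc' := Cyc.gysinChoice L' s' w' with hgcdef'
  have hαdim : ∀ ζ : {ζ : X // α ζ ≠ 0}, δ ζ.1 = k - 2 + 2 := by
    intro ζ
    rw [sub_add_cancel]
    by_contra hne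
    exact ζ.2 (hα ζ.1 hne)
  have e1 := coef_sum_eq_c1CapFun gL hgL δ hX α gc hgc
  have e2 := coef_sum_eq_c1CapFun gL' hgL' δ hX α gc' hgc'
  exact family_main_on δ hX (k - 2) (ι := {ζ : X // α ζ ≠ 0}) (fun ζ => ζ.1) hαdim
      (cycle_support_locallyFinite α)
      (fun ζ => ofMod gL hgL ζ.1 (gc ζ.1) (hgc _) gc hgc)
      (fun ζ => ofMod gL' hgL' ζ.1 (gc' ζ.1) (hgc' _) gc' hgc')
      (fun ζ => α ζ.1) (fun ξ x => Cyc.secDivFun δ L ξ (gc ξ) x)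
      (fun ξ x => Cyc.secDivFun δ L' ξ (gc' ξ) x)
      (fun ζ ξ x => ofMod_dv gL hgL ζ.1 (gc ζ.1) (hgc _) gc hgc δ hX ξ x)
      (fun ζ ξ x => ofMod_dv gL' hgL' ζ.1 (gc' ζ.1) (hgc' _) gc' hgc' δ hX ξ x)
      T
      (by
        rintro ζ ξ ⟨h₀, hξ, -⟩ hnot x
        rcases hT ξ hnot with hne | hne
        · obtain ⟨u, hu, hub⟩ := gysin_unit gL hgL s w hw ζ.1 ξ h₀ hne
          exact divFun_Ftot_eq_zero_of_unit_left _ _ δ hX ξ h₀ hξ u hu hub x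
        · obtain ⟨u, hu, hub⟩ := gysin_unit gL' hgL' s' w' hw' ζ.1 ξ h₀ hne
          exact divFun_Ftot_eq_zero_of_unit _ _ δ hX ξ h₀ hξ u hu hub x)
      (fun x => Cyc.c1CapFun δ L' (Cyc.c1CapFun δ L ⇑α gc) gc' x -
        Cyc.c1CapFun δ L (Cyc.c1CapFun δ L' ⇑α gc') gc x)
      (by
        intro x
        simp only [e1, e2]
        rfl)

end Part5

section Part6

open AlgebraicGeometry CategoryTheory Limits TopologicalSpace IsLocalRing CycAlg Opposite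
  Groth.Agent.Lib.R2H1.C1Comm Groth.Agent.Lib.R2H1.C1Rel Groth.Agent.Lib.R2H1.C1Tensor
  Groth.Agent.Lib.R2H1.RatEquivOpen
  Groth.Agent.Lib.R2H1.RatEquivClosed Groth.Agent.Lib.R2H1.LocQuot Groth.Agent.Lib.R2H1.Gysin
  Groth.Agent.Lib.Helper23.SecTw Groth.Agent.Lib.R2H1.FlatPullRat
  Groth.Agent.Lib.R2H1.PullInv Groth.Agent.Lib.R2H1.PullInv2 Groth.Agent.Lib.R2H1.PullInv3
  Groth.Agent.Lib.R2H1.FlatPullC1 Groth.Agent.Lib.R2H1.RelCartier
  Groth.Agent.Lib.R2H1.PullbackKer Groth.Agent.Lib.R2H1.CIPush Groth.Agent.Lib.R2H1.GysinFlat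

/-- S1931: Gysin maps commute. -/
theorem main1931 (X D D' : Scheme.{u}) (δ : X → ℤ) (hX : Cyc.IsSetup X δ) (L L' : X.Modules)
    (hL : PicF.IsInvertible L) (hL' : PicF.IsInvertible L')
    (s : L.presheaf.obj (Opposite.op ⊤)) (s' : L'.presheaf.obj (Opposite.op ⊤)) (i : D ⟶ X)
    (i' : D' ⟶ X) [IsClosedImmersion i] [IsClosedImmersion i'] (hD : Cyc.IsZeroSchemeOf i L s)
    (hD' : Cyc.IsZeroSchemeOf i' L' s')
    (σ' : ((Scheme.Modules.pullback i).obj L').presheaf.obj (Opposite.op ⊤))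
    (hσ' : Cyc.IsZeroSchemeOf (pullback.fst i i') ((Scheme.Modules.pullback i).obj L') σ')
    (σ : ((Scheme.Modules.pullback i').obj L).presheaf.obj (Opposite.op ⊤))
    (hσ : Cyc.IsZeroSchemeOf (pullback.snd i i') ((Scheme.Modules.pullback i').obj L) σ) (k : ℤ)
    (α : AlgebraicCycle X ℤ) (hα : α ∈ Cyc.Zk X δ k) (w : (ξ : X) → Cyc.secFibre L ξ)
    (hw : ∀ ξ, w ξ ≠ 0) (w' : (ξ : X) → Cyc.secFibre L' ξ) (hw' : ∀ ξ, w' ξ ≠ 0)
    (w₁ : (d : D) → Cyc.secFibre ((Scheme.Modules.pullback i).obj L') d) (hw₁ : ∀ d, w₁ d ≠ 0)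
    (w₂ : (d : D') → Cyc.secFibre ((Scheme.Modules.pullback i').obj L) d) (hw₂ : ∀ d, w₂ d ≠ 0)
    (γ : D → ℤ) (hγ : γ = fun d => Cyc.c1CapFun δ L ⇑α (Cyc.gysinChoice L s w) (i d))
    (γ' : D' → ℤ) (hγ' : γ' = fun d => Cyc.c1CapFun δ L' ⇑α (Cyc.gysinChoice L' s' w') (i' d))
    (ζ₁ ζ₂ : AlgebraicCycle (pullback i i') ℤ)
    (h₁ : ∀ z, ζ₁ z = Cyc.c1CapFun (fun d => δ (i d)) ((Scheme.Modules.pullback i).obj L') γ
      (Cyc.gysinChoice ((Scheme.Modules.pullback i).obj L') σ' w₁) (pullback.fst i i' z))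
    (h₂ : ∀ z, ζ₂ z = Cyc.c1CapFun (fun d => δ (i' d)) ((Scheme.Modules.pullback i').obj L) γ'
      (Cyc.gysinChoice ((Scheme.Modules.pullback i').obj L) σ w₂) (pullback.snd i i' z)) :
    Cyc.RatEquiv (fun z => δ (i (pullback.fst i i' z))) (k - 2) ζ₁ ζ₂ := by
  classical
  haveI : L.IsQuasicoherent := isQuasicoherent_of_isInvertible L hL
  haveI : L'.IsQuasicoherent := isQuasicoherent_of_isInvertible L' hL'
  choose WL eL hzL hgenL using Groth.Agent.Lib.Helper23.SecTw.exists_gen L hL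
  choose WL' eL' hzL' hgenL' using Groth.Agent.Lib.Helper23.SecTw.exists_gen L' hL'
  have hgc := gysinChoice_ne_zero s w hw
  have hgc' := gysinChoice_ne_zero s' w' hw'
  have hτ₁ := gysinChoice_ne_zero σ' w₁ hw₁
  have hτ₂ := gysinChoice_ne_zero σ w₂ hw₂
  obtain ⟨hAsupp, hAlf, hAdim⟩ := c1CapFun_gysin_props i δ hX L hL s hD k α hα w hw
  obtain ⟨hA'supp, hA'lf, hA'dim⟩ := c1CapFun_gysin_props i' δ hX L' hL' s' hD' k α hα w' hw'
  subst hγ hγ'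
  have hDs := isSetup_of_closedImmersion i hX
  have hPs : Cyc.IsSetup (pullback i i') (fun z => δ (i (pullback.fst i i' z))) :=
    isSetup_of_closedImmersion (pullback.fst i i') hDs
  have hδeq : (fun z : ↥(pullback i i') => δ (i' (pullback.snd i i' z))) =
      fun z => δ (i (pullback.fst i i' z)) := funext (fun z => by rw [pullback_cond_apply])
  -- the two sides
  have side1 := fun z => gysin_side i hX L' WL' eL' hzL' hgenL'
    (Cyc.c1CapFun δ L ⇑α (Cyc.gysinChoice L s w)) hAsupp hAlf (Cyc.gysinChoice L' s' w') hgc'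
    (Cyc.gysinChoice ((Scheme.Modules.pullback i).obj L') σ' w₁) hτ₁ (pullback.fst i i')
    (fun d hd z => divFun_psi_gysin_eq_zero i i' L' WL' eL' hzL' hgenL' s' hD' σ' hσ' w' w₁
      (fun d => δ (i d)) (pullback.fst i i' z) ⟨z, rfl⟩ d hd) z
  have hσf := isZeroSchemeOf_fst_symm i i' _ σ hσ
  have side2 := fun z => gysin_side i' hX L WL eL hzL hgenL
    (Cyc.c1CapFun δ L' ⇑α (Cyc.gysinChoice L' s' w')) hA'supp hA'lf (Cyc.gysinChoice L s w) hgc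
    (Cyc.gysinChoice ((Scheme.Modules.pullback i').obj L) σ w₂) hτ₂ (pullback.snd i i')
    (fun d hd z => divFun_psi_gysin_eq_zero i' i L WL eL hzL hgenL s hD σ hσf w w₂
      (fun d => δ (i' d)) (pullback.snd i i' z) (by rw [range_fst_symm]; exact ⟨z, rfl⟩) d
      (by rw [range_fst_symm]; exact hd)) z
  rw [hδeq] at side2
  -- the commutator
  have hT : ∀ ξ, ξ ∉ Set.range (pullback.fst i i' ≫ i) →
      (Submodule.Quotient.mk ((L.presheaf.germ ⊤ ξ trivial) s) : Cyc.secFibre L ξ) ≠ 0 ∨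
      (Submodule.Quotient.mk ((L'.presheaf.germ ⊤ ξ trivial) s') : Cyc.secFibre L' ξ) ≠ 0 := by
    intro ξ hξ
    by_contra hcon
    push_neg at hcon
    apply hξ
    rw [Scheme.Pullback.range_fst_comp]
    refine ⟨?_, ?_⟩
    · rw [hD.1]
      exact hcon.1
    · rw [hD'.1]
      exact hcon.2
  obtain ⟨ι', ξ', F, hξ'T, hξ'δ, hF, hlf', hsum⟩ := gysin_comm_family δ hX L L' hL hL' s s'
    (Set.range (pullback.fst i i' ≫ i)) hT k α hα w hw w' hw'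
  obtain ⟨ζ₀, g₀, hζ₀, hg₀, hlf₀, hdiv₀⟩ :=
    exists_restrict_family (pullback.fst i i' ≫ i) δ ξ' F hξ'T hlf'
  -- the families of comparison functions
  have hAPlf := restrict_support_locallyFinite (pullback.fst i i' ≫ i)
    (Cyc.c1CapFun δ L ⇑α (Cyc.gysinChoice L s w)) hAlf
  have hA'Plf := restrict_support_locallyFinite (pullback.snd i i' ≫ i')
    (Cyc.c1CapFun δ L' ⇑α (Cyc.gysinChoice L' s' w')) hA'lf
  obtain ⟨J₁, ζ₁', g₁, hζ₁, hg₁, hlf₁, hsum₁⟩ := family_of_support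
    (fun z => δ (i (pullback.fst i i' z))) hPs (k - 2)
    (fun z' => Cyc.c1CapFun δ L ⇑α (Cyc.gysinChoice L s w) (i (pullback.fst i i' z')))
    (fun z' h => hAdim _ h) hAPlf
    (fun z' => (((pullback.fst i i').residueFieldMap z').hom
      (psi i L' WL' eL' hzL' hgenL' (pullback.fst i i' z')
        (Cyc.gysinChoice L' s' w' (i (pullback.fst i i' z')))
        (Cyc.gysinChoice ((Scheme.Modules.pullback i).obj L') σ' w₁ (pullback.fst i i' z'))))⁻¹)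
    (fun z' => inv_ne_zero ((map_ne_zero _).mpr
      (psi_ne_zero i L' WL' eL' hzL' hgenL' _ _ _ (hgc' _) (hτ₁ _))))
  obtain ⟨J₂, ζ₂', g₂, hζ₂, hg₂, hlf₂, hsum₂⟩ := family_of_support
    (fun z => δ (i (pullback.fst i i' z))) hPs (k - 2)
    (fun z' => Cyc.c1CapFun δ L' ⇑α (Cyc.gysinChoice L' s' w') (i' (pullback.snd i i' z')))
    (fun z' h => by
      have := hA'dim _ h
      rw [← pullback_cond_apply] at this
      exact this) hA'Plf
    (fun z' => ((pullback.snd i i').residueFieldMap z').hom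
      (psi i' L WL eL hzL hgenL (pullback.snd i i' z')
        (Cyc.gysinChoice L s w (i' (pullback.snd i i' z')))
        (Cyc.gysinChoice ((Scheme.Modules.pullback i').obj L) σ w₂ (pullback.snd i i' z'))))
    (fun z' => (map_ne_zero _).mpr
      (psi_ne_zero i' L WL eL hzL hgenL _ _ _ (hgc _) (hτ₂ _)))
  -- combine
  obtain ⟨J₃, ζ₃, g₃, hζ₃, hg₃, hlf₃, hsum₃⟩ := family_add
    (fun z => δ (i (pullback.fst i i' z))) (k - 2) ζ₀ g₀
    (fun j => by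
      show δ ((pullback.fst i i' ≫ i) (ζ₀ j)) = k - 2 + 1
      rw [hζ₀ j]
      exact hξ'δ j)
    (fun j => hg₀ j (hF j)) hlf₀ ζ₁' g₁ hζ₁ hg₁ hlf₁
  obtain ⟨J₄, ζ₄, g₄, hζ₄, hg₄, hlf₄, hsum₄⟩ := family_add
    (fun z => δ (i (pullback.fst i i' z))) (k - 2) ζ₃ g₃ hζ₃ hg₃ hlf₃ ζ₂' g₂ hζ₂ hg₂ hlf₂
  refine ⟨J₄, ζ₄, g₄, hζ₄, hg₄, hlf₄, fun z => ?_⟩
  rw [hsum₄ z, hsum₃ z, ← hsum₁ z, ← hsum₂ z]
  have hsub : (ζ₁ - ζ₂) z = ζ₁ z - ζ₂ z := by
    rw [Function.locallyFinsuppWithin.coe_sub]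
    rfl
  rw [hsub, h₁ z, h₂ z, side1 z, side2 z]
  have e0 : ∑ᶠ j, Cyc.divFun (fun z => δ (i (pullback.fst i i' z))) (ζ₀ j) (g₀ j) z =
      ∑ᶠ j, Cyc.divFun δ (ξ' j) (F j) (i (pullback.fst i i' z)) :=
    finsum_congr (fun j => hdiv₀ j z)
  have hs := hsum (i (pullback.fst i i' z))
  rw [e0, ← hs, ← pullback_cond_apply i i' z]
  have e1 : ∀ z' : ↥(pullback i i'),
      Cyc.c1CapFun δ L ⇑α (Cyc.gysinChoice L s w) (i (pullback.fst i i' z')) *
      Cyc.divFun (fun z => δ (i (pullback.fst i i' z))) z'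
        (((pullback.fst i i').residueFieldMap z').hom
          (psi i L' WL' eL' hzL' hgenL' (pullback.fst i i' z')
            (Cyc.gysinChoice L' s' w' (i (pullback.fst i i' z')))
            (Cyc.gysinChoice ((Scheme.Modules.pullback i).obj L') σ' w₁
              (pullback.fst i i' z'))))⁻¹ z =
      - (Cyc.c1CapFun δ L ⇑α (Cyc.gysinChoice L s w) (i (pullback.fst i i' z')) *
      Cyc.divFun (fun z => δ (i (pullback.fst i i' z))) z'
        (((pullback.fst i i').residueFieldMap z').hom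
          (psi i L' WL' eL' hzL' hgenL' (pullback.fst i i' z')
            (Cyc.gysinChoice L' s' w' (i (pullback.fst i i' z')))
            (Cyc.gysinChoice ((Scheme.Modules.pullback i).obj L') σ' w₁
              (pullback.fst i i' z')))) z) := fun z' => by
    rw [divFun_inv, mul_neg]
  rw [finsum_congr e1, finsum_neg_distrib]
  ring

end Part6

end Groth.Agent.Lib.R2H1.GysinComm
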