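/-
Projection formula for c_1 and proper pushforward (S1926; helper1, round 2): p_*(c_1(p^*L) cap alpha) ~ c_1(L) cap p_*alpha.
Reusable: psiP (ratio of a rational section of p^*L and the pullback of one of L), hfun, compare_pull (divisor of a
rational section of p^*L = div(psiP) + div(pullback coordinate), any morphism p), secDivFun_eq_divFun,
exists_cycle_of_support (sum of alpha(xi) div(phi xi) is a cycle rationally equivalent to 0), term_formula,
finite_support_preimage, main.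
-/
import Mathlib
import Groth.Prelude.Def_Cyc
import Groth.Prelude.Def_C1
import Groth.Agent.Lib.R2H1PullInv
import Groth.Agent.Lib.R2H1ProperPushRat

set_option autoImplicit false
set_option linter.style.haveILetI false
set_option linter.unusedSectionVars false
universe u v

namespace Groth.Agent.Lib.R2H1.ProjFormula

section Part1

open AlgebraicGeometry CategoryTheory TopologicalSpace IsLocalRing CycAlg Opposite
  Groth.Agent.Lib.R2H1.C1Comm Groth.Agent.Lib.R2H1.C1Rel Groth.Agent.Lib.R2H1.C1Tensor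
  Groth.Agent.Lib.R2H1.RatEquivClosed Groth.Agent.Lib.R2H1.LocQuot
  Groth.Agent.Lib.Helper23.SecTw Groth.Agent.Lib.R2H1.PullInv

variable {X Y : Scheme.{u}}

/-- the ratio of a rational section of `p^*L` on the closure of `ξ` and the pullback of a rational
section of `L` on the closure of `p ξ`. -/
noncomputable def psiP (p : X ⟶ Y) (L : Y.Modules) [L.IsQuasicoherent] (WL : Y → Y.Opens)
    (eL : ∀ z, Γ(L, WL z)) (hz : ∀ z, z ∈ WL z) (hgen : ∀ z, IsGen L (WL z) (eL z)) (ξ : X)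
    (u : Cyc.secFibre ((Scheme.Modules.pullback p).obj L) ξ) (v : Cyc.secFibre L (p ξ)) :
    X.residueField ξ :=
  (pullGen p L (WL (p ξ)) (eL (p ξ)) (hgen (p ξ))).fib ξ (hz (p ξ)) u /
    (p.residueFieldMap ξ).hom
      ((genOfIsGen L (WL (p ξ)) (eL (p ξ)) (hgen (p ξ))).fib (p ξ) (hz (p ξ)) v)

theorem psiP_ne_zero (p : X ⟶ Y) (L : Y.Modules) [L.IsQuasicoherent] (WL : Y → Y.Opens)
    (eL : ∀ z, Γ(L, WL z)) (hz : ∀ z, z ∈ WL z) (hgen : ∀ z, IsGen L (WL z) (eL z)) (ξ : X)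
    (u : Cyc.secFibre ((Scheme.Modules.pullback p).obj L) ξ) (v : Cyc.secFibre L (p ξ))
    (hu : u ≠ 0) (hv : v ≠ 0) : psiP p L WL eL hz hgen ξ u v ≠ 0 := by
  unfold psiP
  refine div_ne_zero (Gen.fib_ne_zero _ ξ _ u hu) ?_
  rw [Ne, map_eq_zero_iff _ (RingHom.injective _)]
  exact Gen.fib_ne_zero _ (p ξ) _ v hv

/-- the pullback to `κ(ξ)` of the coordinate of a rational section of `L` on the closure of `p ξ`
with respect to the generator chosen at `y`. -/
noncomputable def hfun (p : X ⟶ Y) (L : Y.Modules) [L.IsQuasicoherent] (WL : Y → Y.Opens)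
    (eL : ∀ z, Γ(L, WL z)) (hgen : ∀ z, IsGen L (WL z) (eL z)) (y : Y) (ξ : X)
    (v : Cyc.secFibre L (p ξ)) : X.residueField ξ := by
  classical
  exact if hm : p ξ ∈ WL y then
    (p.residueFieldMap ξ).hom ((genOfIsGen L (WL y) (eL y) (hgen y)).fib (p ξ) hm v)
  else 1

theorem hfun_pos (p : X ⟶ Y) (L : Y.Modules) [L.IsQuasicoherent] (WL : Y → Y.Opens)
    (eL : ∀ z, Γ(L, WL z)) (hgen : ∀ z, IsGen L (WL z) (eL z)) (y : Y) (ξ : X)
    (v : Cyc.secFibre L (p ξ)) (hm : p ξ ∈ WL y) :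
    hfun p L WL eL hgen y ξ v =
      (p.residueFieldMap ξ).hom ((genOfIsGen L (WL y) (eL y) (hgen y)).fib (p ξ) hm v) := by
  unfold hfun
  rw [dif_pos hm]

theorem hfun_ne_zero (p : X ⟶ Y) (L : Y.Modules) [L.IsQuasicoherent] (WL : Y → Y.Opens)
    (eL : ∀ z, Γ(L, WL z)) (hgen : ∀ z, IsGen L (WL z) (eL z)) (y : Y) (ξ : X)
    (v : Cyc.secFibre L (p ξ)) (hv : v ≠ 0) : hfun p L WL eL hgen y ξ v ≠ 0 := by
  unfold hfun
  split_ifs with hm
  · rw [Ne, map_eq_zero_iff _ (RingHom.injective _)]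
    exact Gen.fib_ne_zero _ (p ξ) _ v hv
  · exact one_ne_zero

/-- comparison of the divisor of a rational section of `p^*L` with the divisor of the pullback
of a rational section of `L`. -/
theorem compare_pull (p : X ⟶ Y) {δX : X → ℤ} (hX : Cyc.IsSetup X δX)
    (L : Y.Modules) [L.IsQuasicoherent] (WL : Y → Y.Opens)
    (eL : ∀ z, Γ(L, WL z)) (hz : ∀ z, z ∈ WL z) (hgen : ∀ z, IsGen L (WL z) (eL z)) (x ξ : X)
    (u : Cyc.secFibre ((Scheme.Modules.pullback p).obj L) ξ) (v : Cyc.secFibre L (p ξ))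
    (hu : u ≠ 0) (hv : v ≠ 0) :
    Cyc.secDivFun δX ((Scheme.Modules.pullback p).obj L) ξ u x =
      Cyc.divFun δX ξ (psiP p L WL eL hz hgen ξ u v) x +
        Cyc.divFun δX ξ (hfun p L WL eL hgen (p x) ξ v) x := by
  haveI : IsLocallyNoetherian X := hX.1
  have hδX := hX.2.2
  unfold Cyc.secDivFun Cyc.divFun
  by_cases hc : ξ ⤳ x ∧ δX x + 1 = δX ξ
  · rw [dif_pos hc, dif_pos hc, dif_pos hc]
    have hsp : p ξ ⤳ p x := p.base.hom.map_specializes hc.1
    have hmX : p ξ ∈ WL (p x) := hsp.mem_open (WL (p x)).isOpen (hz (p x))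
    set GY := genOfIsGen L (WL (p x)) (eL (p x)) (hgen (p x)) with hGY
    set GY' := genOfIsGen L (WL (p ξ)) (eL (p ξ)) (hgen (p ξ)) with hGY'
    set GX := pullGen p L (WL (p x)) (eL (p x)) (hgen (p x)) with hGX
    set GX' := pullGen p L (WL (p ξ)) (eL (p ξ)) (hgen (p ξ)) with hGX'
    rw [GX.secOrdAt_eq hδX ξ x hc.1 hc.2 (hz (p x)) u, hfun_pos p L WL eL hgen (p x) ξ v hmX]
    have e1 := GX.fib_change GX' ξ hmX (hz (p ξ)) u
    have e2 := GY.fib_change GY' (p ξ) hmX (hz (p ξ)) v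
    have ecc : GX.cc GX' ξ hmX (hz (p ξ)) = p.stalkMap ξ (GY.cc GY' (p ξ) hmX (hz (p ξ))) :=
      cc_pullGen p L (eL (p x)) (hgen (p x)) (eL (p ξ)) (hgen (p ξ)) ξ hmX (hz (p ξ))
    have hres : (p.residueFieldMap ξ).hom (Y.residue (p ξ) (GY.cc GY' (p ξ) hmX (hz (p ξ)))) =
        X.residue ξ (GX.cc GX' ξ hmX (hz (p ξ))) := by
      rw [ecc]
      exact ConcreteCategory.congr_hom (Scheme.residue_residueFieldMap p ξ) _
    have hB : (p.residueFieldMap ξ).hom (GY'.fib (p ξ) (hz (p ξ)) v) ≠ 0 := by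
      rw [Ne, map_eq_zero_iff _ (RingHom.injective _)]
      exact GY'.fib_ne_zero (p ξ) _ v hv
    have hprod : GX.fib ξ hmX u = psiP p L WL eL hz hgen ξ u v *
        (p.residueFieldMap ξ).hom (GY.fib (p ξ) hmX v) := by
      rw [e1, e2, map_mul, hres]
      change _ = GX'.fib ξ (hz (p ξ)) u / (p.residueFieldMap ξ).hom (GY'.fib (p ξ) (hz (p ξ)) v) *
        ((p.residueFieldMap ξ).hom (GY'.fib (p ξ) (hz (p ξ)) v) * _)
      field_simp
    have hne2 : (p.residueFieldMap ξ).hom (GY.fib (p ξ) hmX v) ≠ 0 := by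
      rw [Ne, map_eq_zero_iff _ (RingHom.injective _)]
      exact GY.fib_ne_zero (p ξ) _ v hv
    rw [hprod, ordAt_mul hδX x ξ hc.1 hc.2 (psiP_ne_zero p L WL eL hz hgen ξ u v hu hv) hne2]
  · rw [dif_neg hc, dif_neg hc, dif_neg hc]
    ring

/-- the divisor on `Y` of a rational section of `L` in terms of the coordinate with respect to the
generator chosen at the point. -/
theorem secDivFun_eq_divFun {δY : Y → ℤ} (hY : Cyc.IsSetup Y δY)
    (L : Y.Modules) [L.IsQuasicoherent] (WL : Y → Y.Opens)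
    (eL : ∀ z, Γ(L, WL z)) (hz : ∀ z, z ∈ WL z) (hgen : ∀ z, IsGen L (WL z) (eL z)) (y η : Y)
    (v : Cyc.secFibre L η) (hm : η ∈ WL y) :
    Cyc.secDivFun δY L η v y =
      Cyc.divFun δY η ((genOfIsGen L (WL y) (eL y) (hgen y)).fib η hm v) y := by
  haveI : IsLocallyNoetherian Y := hY.1
  unfold Cyc.secDivFun Cyc.divFun
  by_cases hc : η ⤳ y ∧ δY y + 1 = δY η
  · rw [dif_pos hc, dif_pos hc]
    exact (genOfIsGen L (WL y) (eL y) (hgen y)).secOrdAt_eq hY.2.2 η y hc.1 hc.2 (hz y) v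
  · rw [dif_neg hc, dif_neg hc]

end Part1

section Part2

open AlgebraicGeometry CategoryTheory TopologicalSpace IsLocalRing CycAlg Opposite
  Groth.Agent.Lib.R2H1.C1Comm Groth.Agent.Lib.R2H1.C1Rel Groth.Agent.Lib.R2H1.C1Tensor
  Groth.Agent.Lib.R2H1.RatEquivClosed Groth.Agent.Lib.R2H1.LocQuot
  Groth.Agent.Lib.Helper23.SecTw Groth.Agent.Lib.R2H1.PullInv
  Groth.Agent.Lib.R2H1.PullPush Groth.Agent.Lib.R2H1.ProperPushRat

variable {X Y : Scheme.{u}}

/-- the weighted sum of the principal divisors of rational functions on the closures of the points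
of the support of a cycle is a cycle, rationally equivalent to zero. -/
theorem exists_cycle_of_support (X : Scheme.{u}) (δ : X → ℤ) (hX : Cyc.IsSetup X δ) (k : ℤ)
    (α : AlgebraicCycle X ℤ) (hα : α ∈ Cyc.Zk X δ (k + 1)) (φ : (ξ : X) → X.residueField ξ)
    (hφ : ∀ ξ, φ ξ ≠ 0) :
    ∃ ζ : AlgebraicCycle X ℤ, (∀ x, ζ x = ∑ᶠ ξ : X, α ξ * Cyc.divFun δ ξ (φ ξ) x) ∧
      Cyc.RatEquivZero δ k ζ := by
  classical
  haveI : IsLocallyNoetherian X := hX.1
  let ζ : AlgebraicCycle X ℤ :=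
    ⟨fun x => ∑ᶠ i : {ξ : X // α ξ ≠ 0}, Cyc.divFun δ i.1 ((φ i.1) ^ (α i.1)) x,
      fun _ _ => Set.mem_univ _, fun z _ =>
      finsum_divFun_locallyFinite hX.2.2 (fun i : {ξ : X // α ξ ≠ 0} => i.1)
        (fun i => (φ i.1) ^ (α i.1)) (cycle_support_locallyFinite α) z⟩
  have hζ : ∀ x, ζ x = ∑ᶠ ξ : X, α ξ * Cyc.divFun δ ξ (φ ξ) x := by
    intro x
    change ∑ᶠ i : {ξ : X // α ξ ≠ 0}, Cyc.divFun δ i.1 ((φ i.1) ^ (α i.1)) x = _
    have e : ∀ i : {ξ : X // α ξ ≠ 0}, Cyc.divFun δ i.1 ((φ i.1) ^ (α i.1)) x =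
        α i.1 * Cyc.divFun δ i.1 (φ i.1) x := fun i => divFun_zpow δ hX i.1 x (hφ i.1) (α i.1)
    rw [finsum_congr e]
    exact finsum_subtype_of_support (fun ξ => α ξ ≠ 0)
      (fun ξ => α ξ * Cyc.divFun δ ξ (φ ξ) x) (fun ξ h h0 => h (by rw [h0, zero_mul]))
  exact ⟨ζ, hζ, ratEquivZero_of_support X δ hX k α hα φ hφ ζ hζ⟩

/-- the term on `Y`. -/
theorem term_formula (p : X ⟶ Y) [LocallyOfFiniteType p] {δX : X → ℤ} {δY : Y → ℤ}
    (hY : Cyc.IsSetup Y δY)
    (L : Y.Modules) [L.IsQuasicoherent] (WL : Y → Y.Opens)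
    (eL : ∀ z, Γ(L, WL z)) (hz : ∀ z, z ∈ WL z) (hgen : ∀ z, IsGen L (WL z) (eL z)) (y : Y)
    (ξ : X) (v : Cyc.secFibre L (p ξ)) (hv : v ≠ 0) :
    (if δX ξ = δY (p ξ) then
      Cyc.divFun δY (p ξ) (Cyc.normGen p ξ (hfun p L WL eL hgen y ξ v)) y else 0) =
      (AlgebraicCycle.mapCoeff p δX δY ξ : ℤ) * Cyc.secDivFun δY L (p ξ) v y := by
  classical
  unfold AlgebraicCycle.mapCoeff
  by_cases hn : δX ξ = δY (p ξ)
  · rw [if_pos hn, if_pos hn]
    by_cases hm : p ξ ∈ WL y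
    · rw [hfun_pos p L WL eL hgen y ξ v hm, secDivFun_eq_divFun hY L WL eL hz hgen y (p ξ) v hm]
      have hnorm : Cyc.normGen p ξ ((p.residueFieldMap ξ).hom
          ((genOfIsGen L (WL y) (eL y) (hgen y)).fib (p ξ) hm v)) =
          ((genOfIsGen L (WL y) (eL y) (hgen y)).fib (p ξ) hm v) ^ (p.residueDegree ξ) := by
        unfold Cyc.normGen Scheme.Hom.residueDegree
        letI := (p.residueFieldMap ξ).hom.toAlgebra
        exact Algebra.norm_algebraMap _
      rw [hnorm, ← zpow_natCast, divFun_zpow δY hY (p ξ) y (Gen.fib_ne_zero _ (p ξ) _ v hv)]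
    · have hns : ¬ (p ξ ⤳ y) := fun h => hm (h.mem_open (WL y).isOpen (hz y))
      unfold Cyc.divFun Cyc.secDivFun
      rw [dif_neg (fun h => hns h.1), dif_neg (fun h => hns h.1), mul_zero]
  · rw [if_neg hn, if_neg hn]
    simp

end Part2

section Part3

open AlgebraicGeometry CategoryTheory TopologicalSpace IsLocalRing CycAlg Opposite
  Groth.Agent.Lib.R2H1.C1Comm Groth.Agent.Lib.R2H1.C1Rel Groth.Agent.Lib.R2H1.C1Tensor
  Groth.Agent.Lib.R2H1.RatEquivClosed Groth.Agent.Lib.R2H1.LocQuot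
  Groth.Agent.Lib.Helper23.SecTw Groth.Agent.Lib.R2H1.PullInv
  Groth.Agent.Lib.R2H1.PullPush Groth.Agent.Lib.R2H1.ProperPushRat

variable {X Y : Scheme.{u}}

/-- the points of the support of a cycle lying over a quasi-compact open form a finite set. -/
theorem finite_support_preimage (p : X ⟶ Y) [QuasiCompact p] (α : AlgebraicCycle X ℤ) (y : Y) :
    ∃ U : Set Y, IsOpen U ∧ y ∈ U ∧ {ξ : X | α ξ ≠ 0 ∧ p ξ ∈ U}.Finite := by
  obtain ⟨_, ⟨U, hU, rfl⟩, hyU, -⟩ :=
    Y.isBasis_affineOpens.exists_subset_of_mem_open (Set.mem_univ y) isOpen_univ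
  refine ⟨U, U.isOpen, hyU, ?_⟩
  have hc : IsCompact (p ⁻¹' (U : Set Y)) :=
    QuasiCompact.isCompact_preimage U.1 U.isOpen hU.isCompact
  refine (α.locallyFiniteSupport.finite_inter_support_of_isCompact hc).subset ?_
  rintro ξ ⟨h1, h2⟩
  exact ⟨h2, h1⟩

/-- **projection formula** for the first Chern class and proper pushforward (S1926). -/
theorem main (X Y : Scheme.{u}) (δX : X → ℤ) (δY : Y → ℤ) (hX : Cyc.IsSetup X δX)
    (hY : Cyc.IsSetup Y δY) (p : X ⟶ Y) [IsProper p] (hδ : Cyc.DeltaCompat p δX δY)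
    (L : Y.Modules) (hL : PicF.IsInvertible L) (k : ℤ) (α : AlgebraicCycle X ℤ)
    (hα : α ∈ Cyc.Zk X δX (k + 1))
    (u : (ξ : X) → Cyc.secFibre ((Scheme.Modules.pullback p).obj L) ξ) (hu : ∀ ξ, u ξ ≠ 0)
    (v : (η : Y) → Cyc.secFibre L η) (hv : ∀ η, v η ≠ 0) (γ : AlgebraicCycle X ℤ)
    (hγ : ⇑γ = Cyc.c1CapFun δX ((Scheme.Modules.pullback p).obj L) ⇑α u)
    (γ' : AlgebraicCycle Y ℤ)
    (hγ' : ⇑γ' = Cyc.c1CapFun δY L ⇑(AlgebraicCycle.map p δX δY α) v) :
    Cyc.RatEquiv δY k (AlgebraicCycle.map p δX δY γ) γ' := by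
  classical
  haveI : IsLocallyNoetherian X := hX.1
  haveI : L.IsQuasicoherent := isQuasicoherent_of_isInvertible L hL
  choose WL eL hz hgen using Groth.Agent.Lib.Helper23.SecTw.exists_gen L hL
  obtain ⟨ζ, hζ, hζ0⟩ := exists_cycle_of_support X δX hX k α hα
    (fun ξ => psiP p L WL eL hz hgen ξ (u ξ) (v (p ξ)))
    (fun ξ => psiP_ne_zero p L WL eL hz hgen ξ (u ξ) (v (p ξ)) (hu ξ) (hv (p ξ)))
  -- finiteness of supports of sums over ξ at a point x
  have hfin : ∀ (x : X) (F : X → ℤ), (∀ ξ, F ξ ≠ 0 → ξ ⤳ x) →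
      (Function.support (fun ξ => α ξ * F ξ)).Finite := by
    intro x F hF
    refine (finite_support_specializes α x).subset ?_
    intro ξ hξ
    rw [Function.mem_support] at hξ
    exact ⟨fun h0 => hξ (by rw [h0, zero_mul]), hF ξ (fun h0 => hξ (by rw [h0, mul_zero]))⟩
  have hγ₂ : ∀ x, (γ - ζ) x =
      ∑ᶠ ξ, α ξ * Cyc.divFun δX ξ (hfun p L WL eL hgen (p x) ξ (v (p ξ))) x := by
    intro x
    rw [Function.locallyFinsuppWithin.coe_sub, Pi.sub_apply, hγ, hζ x]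
    unfold Cyc.c1CapFun
    have e : ∀ ξ, α ξ * Cyc.secDivFun δX ((Scheme.Modules.pullback p).obj L) ξ (u ξ) x =
        α ξ * Cyc.divFun δX ξ (psiP p L WL eL hz hgen ξ (u ξ) (v (p ξ))) x +
        α ξ * Cyc.divFun δX ξ (hfun p L WL eL hgen (p x) ξ (v (p ξ))) x := by
      intro ξ
      rw [compare_pull p hX L WL eL hz hgen x ξ (u ξ) (v (p ξ)) (hu ξ) (hv (p ξ)), mul_add]
    rw [finsum_congr e, finsum_add_distrib
      (hfin x _ (fun ξ h => (divFun_ne_zero_specializes h).1))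
      (hfin x _ (fun ξ h => (divFun_ne_zero_specializes h).1))]
    ring
  have hrat : Cyc.RatEquiv δX k γ (γ - ζ) := by
    unfold Cyc.RatEquiv
    rw [sub_sub_cancel]
    exact hζ0
  have h1855 := Groth.Agent.Lib.R2H1.ProperPushRat.main X Y δX δY hX hY p hδ k γ (γ - ζ) hrat
  have heq : AlgebraicCycle.map p δX δY (γ - ζ) = γ' := by
    ext y
    rw [map_apply', hγ']
    unfold Cyc.c1CapFun
    -- step 1
    have h1 : ∀ x ∈ p ⁻¹' {y}, (γ - ζ) x * (AlgebraicCycle.mapCoeff p δX δY x : ℤ) =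
        ∑ᶠ ξ, α ξ * (Cyc.divFun δX ξ (hfun p L WL eL hgen y ξ (v (p ξ))) x *
          (AlgebraicCycle.mapCoeff p δX δY x : ℤ)) := by
      intro x hx
      rw [hγ₂ x, show p x = y from hx, finsum_mul]
      exact finsum_congr (fun ξ => mul_assoc _ _ _)
    rw [finsum_mem_congr rfl h1]
    -- finiteness data
    obtain ⟨U, hUo, hyU, hUf⟩ := finite_support_preimage p α y
    have hTi : ∀ ξ, (p ⁻¹' {y} ∩ Function.support
        (Cyc.divFun δX ξ (hfun p L WL eL hgen y ξ (v (p ξ))))).Finite := by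
      intro ξ
      exact (divCycle hX.2.2 ξ _).locallyFiniteSupport.finite_inter_support_of_isCompact
        (p.isCompact_preimage_singleton y)
    have hT : (⋃ ξ ∈ hUf.toFinset, (p ⁻¹' {y} ∩ Function.support
        (Cyc.divFun δX ξ (hfun p L WL eL hgen y ξ (v (p ξ)))))).Finite :=
      Set.Finite.biUnion hUf.toFinset.finite_toSet (fun ξ _ => hTi ξ)
    rw [finsum_mem_finsum_comm (p ⁻¹' {y})
      (fun x ξ => α ξ * (Cyc.divFun δX ξ (hfun p L WL eL hgen y ξ (v (p ξ))) x *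
          (AlgebraicCycle.mapCoeff p δX δY x : ℤ))) hUf.toFinset hT.toFinset ?_ ?_]
    · -- step 3: point formula and regrouping
      have h3 : ∀ ξ, ∑ᶠ x ∈ p ⁻¹' {y}, α ξ *
          (Cyc.divFun δX ξ (hfun p L WL eL hgen y ξ (v (p ξ))) x *
            (AlgebraicCycle.mapCoeff p δX δY x : ℤ)) =
          α ξ * (AlgebraicCycle.mapCoeff p δX δY ξ : ℤ) *
            Cyc.secDivFun δY L (p ξ) (v (p ξ)) y := by
        intro ξ
        rw [← mul_finsum_mem, point_formula p δX δY hX hY hδ ξ _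
          (hfun_ne_zero p L WL eL hgen y ξ (v (p ξ)) (hv (p ξ))) y,
          term_formula p hY L WL eL hz hgen y ξ (v (p ξ)) (hv (p ξ)), mul_assoc]
      rw [finsum_congr h3]
      have hfinF : ((Set.univ : Set X) ∩ Function.support (fun ξ => α ξ *
          (AlgebraicCycle.mapCoeff p δX δY ξ : ℤ) * Cyc.secDivFun δY L (p ξ) (v (p ξ)) y)).Finite := by
        refine hUf.subset ?_
        rintro ξ ⟨-, hξ⟩
        rw [Function.mem_support] at hξ
        refine ⟨fun h0 => hξ (by rw [h0, zero_mul, zero_mul]), ?_⟩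
        have hs : Cyc.secDivFun δY L (p ξ) (v (p ξ)) y ≠ 0 := fun h0 => hξ (by rw [h0, mul_zero])
        exact (secDivFun_ne_zero_specializes hs).1.mem_open hUo hyU
      rw [← finsum_mem_univ, finsum_mem_fiberwise Set.univ Set.univ p _ (fun _ _ => Set.mem_univ _)
        hfinF, finsum_mem_univ]
      refine finsum_congr (fun η => ?_)
      rw [map_apply', Set.univ_inter, finsum_mem_mul]
      refine finsum_mem_congr rfl (fun ξ hξ => ?_)
      rw [show p ξ = η from hξ]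
    · intro x hx
      rw [Set.Finite.coe_toFinset] at hx
      obtain ⟨ξ, -, hξ⟩ := Set.mem_iUnion₂.mp hx
      exact hξ.1
    · intro x hx ξ hne
      have hα0 : α ξ ≠ 0 := left_ne_zero_of_mul hne
      have hd : Cyc.divFun δX ξ (hfun p L WL eL hgen y ξ (v (p ξ))) x ≠ 0 :=
        left_ne_zero_of_mul (right_ne_zero_of_mul hne)
      have hsp := (divFun_ne_zero_specializes hd).1
      have hpξ : p ξ ∈ U := by
        have h2 : p ξ ⤳ p x := p.base.hom.map_specializes hsp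
        rw [show p x = y from hx] at h2
        exact h2.mem_open hUo hyU
      have hiJ : ξ ∈ hUf.toFinset := by
        rw [Set.Finite.mem_toFinset]
        exact ⟨hα0, hpξ⟩
      refine ⟨hiJ, ?_⟩
      rw [Set.Finite.mem_toFinset]
      exact Set.mem_iUnion₂.mpr ⟨ξ, hiJ, hx, hd⟩
  rw [heq] at h1855
  exact h1855

end Part3

end Groth.Agent.Lib.R2H1.ProjFormula
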