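/-
c_1(M) cap - on the Chow groups of the prelude (helper1, round 2).
Reusable: stalkEquiv e x (linear equivalence of stalks from an iso of modules), genMap, fibMap, fib_fibMap, fibMap_ne_zero,
secDivFun_fibMap, c1CapFun_fibMap (c_1 coefficient functions transport along module isos), exists_nowhereZero,
exists_cycle_of_locallyFinite, c1CapFun_props, exists_c1Cap (c_1(M) cap alpha is a cycle in Z_{k-1}), cl_eq_of_ratEquiv,
cl_eq_zero_of_ratEquivZero, v0, c1Cyc, c1Zk, c1CH (c_1(M) cap - : CH_k ->+ CH_{k-1}), c1CH_cl (any sections), c1CH_congr (iso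
modules), c1CH_pushOK (projection formula), c1CH_pullOK (flat pullback), exists_restrict_cycle, c1CH_gysinOK (Gysin).
-/
import Mathlib
import Groth.Prelude
import Groth.Agent.Lib.Helper4NormDelta
import Groth.Agent.Lib.R2H1C1Comm
import Groth.Agent.Lib.R2H1GysinComm
import Groth.Agent.Lib.R2H1C1Indep
import Groth.Agent.Lib.R2H1ProjFormula
import Groth.Agent.Lib.R2H1FlatPullC1
import Groth.Agent.Lib.R2H1CycLimC
import Groth.Agent.Lib.R2H1PullInv3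

set_option autoImplicit false
set_option linter.style.haveILetI false
set_option linter.unusedSectionVars false
universe u v

namespace Groth.Agent.Lib.R2H1.C1Chow

section Part1

open CategoryTheory AlgebraicGeometry CategoryTheory.Limits TopologicalSpace
open Groth.Agent.Lib.R2H1.C1Comm Groth.Agent.Lib.Helper4.NormDelta

variable {X : Scheme.{u}} {M N : X.Modules}

theorem stalkLin_comp_apply {K : X.Modules} (φ : M ⟶ N) (ψ : N ⟶ K) (x : X)
    (m : M.presheaf.stalk x) : stalkLin (φ ≫ ψ) x m = stalkLin ψ x (stalkLin φ x m) := by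
  obtain ⟨V, hxV, t, rfl⟩ := M.presheaf.exists_germ_eq m
  rw [stalkLin_germ, stalkLin_germ, stalkLin_germ]
  rfl

theorem stalkLin_id_apply (x : X) (m : M.presheaf.stalk x) : stalkLin (𝟙 M) x m = m := by
  obtain ⟨V, hxV, t, rfl⟩ := M.presheaf.exists_germ_eq m
  rw [stalkLin_germ]
  rfl

/-- the linear equivalence of stalks induced by an isomorphism of modules. -/
noncomputable def stalkEquiv (e : M ≅ N) (x : X) :
    M.presheaf.stalk x ≃ₗ[X.presheaf.stalk x] N.presheaf.stalk x :=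
  LinearEquiv.ofLinear (stalkLin e.hom x) (stalkLin e.inv x)
    (LinearMap.ext fun n => by
      rw [LinearMap.comp_apply, ← stalkLin_comp_apply, e.inv_hom_id, stalkLin_id_apply]; rfl)
    (LinearMap.ext fun m => by
      rw [LinearMap.comp_apply, ← stalkLin_comp_apply, e.hom_inv_id, stalkLin_id_apply]; rfl)

theorem stalkEquiv_germ (e : M ≅ N) (x : X) (U : X.Opens) (hx : x ∈ U) (m : Γ(M, U)) :
    stalkEquiv e x (M.presheaf.germ U x hx m) =
      N.presheaf.germ U x hx (Scheme.Modules.Hom.app e.hom U m) :=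
  stalkLin_germ e.hom x U hx m

/-- transport of a local generator along an isomorphism of modules. -/
noncomputable def genMap (e : M ≅ N) (G : Gen M) : Gen N where
  W := G.W
  t := Scheme.Modules.Hom.app e.hom G.W G.t
  bij := by
    intro y hy
    have h : (fun c : X.presheaf.stalk y => c • N.presheaf.germ G.W y hy
        (Scheme.Modules.Hom.app e.hom G.W G.t)) =
        (stalkEquiv e y) ∘ (fun c : X.presheaf.stalk y => c • M.presheaf.germ G.W y hy G.t) := by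
      funext c
      rw [Function.comp_apply, map_smul, stalkEquiv_germ]
    rw [h]
    exact (stalkEquiv e y).bijective.comp (G.bij y hy)

theorem genMap_W (e : M ≅ N) (G : Gen M) : (genMap e G).W = G.W := rfl

theorem genMap_g (e : M ≅ N) (G : Gen M) (y : X) (hy : y ∈ G.W) :
    (genMap e G).g y hy = stalkEquiv e y (G.g y hy) :=
  (stalkEquiv_germ e y G.W hy G.t).symm

/-- the map on fibres induced by an isomorphism of modules. -/
noncomputable def fibMap (e : M ≅ N) (ξ : X) : Cyc.secFibre M ξ →ₗ[X.presheaf.stalk ξ]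
    Cyc.secFibre N ξ :=
  Submodule.mapQ _ _ (stalkEquiv e ξ).toLinearMap (by
    rw [Submodule.smul_le]
    intro r hr m _
    rw [Submodule.mem_comap]
    change (stalkEquiv e ξ) (r • m) ∈ _
    rw [map_smul]
    exact Submodule.smul_mem_smul hr trivial)

theorem fibMap_mk (e : M ≅ N) (ξ : X) (m : M.presheaf.stalk ξ) :
    fibMap e ξ (Submodule.Quotient.mk m) = Submodule.Quotient.mk (stalkEquiv e ξ m) := rfl

theorem fib_fibMap (e : M ≅ N) (G : Gen M) (y : X) (hy : y ∈ G.W) (σ : Cyc.secFibre M y) :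
    (genMap e G).fib y hy (fibMap e y σ) = G.fib y hy σ := by
  obtain ⟨φ, hφ⟩ := G.exists_rep y hy σ
  rw [hφ, map_smul, fibMap_mk, ← genMap_g e G y hy, Gen.fib_smul, Gen.fib_smul]

theorem fibMap_ne_zero (e : M ≅ N) (hM : PicF.IsInvertible M) (ξ : X) (σ : Cyc.secFibre M ξ)
    (hσ : σ ≠ 0) : fibMap e ξ σ ≠ 0 := by
  obtain ⟨G, hG⟩ := exists_gen M hM ξ
  intro h0
  have h1 := fib_fibMap e G ξ hG σ
  rw [h0] at h1
  have h2 : (genMap e G).fib ξ hG (0 : Cyc.secFibre N ξ) = 0 := by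
    have := (genMap e G).fib_smul ξ hG 0
    rw [zero_smul, map_zero] at this
    exact this
  rw [h2] at h1
  exact G.fib_ne_zero ξ hG σ hσ h1.symm

theorem secDivFun_fibMap [IsLocallyNoetherian X] {δ : X → ℤ} (hδ : Cyc.IsDimFun X δ)
    (e : M ≅ N) (hM : PicF.IsInvertible M) (ξ : X) (σ : Cyc.secFibre M ξ) (x : X) :
    Cyc.secDivFun δ N ξ (fibMap e ξ σ) x = Cyc.secDivFun δ M ξ σ x := by
  unfold Cyc.secDivFun
  by_cases hc : ξ ⤳ x ∧ δ x + 1 = δ ξ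
  · rw [dif_pos hc, dif_pos hc]
    obtain ⟨G, hG⟩ := exists_gen M hM x
    rw [(genMap e G).secOrdAt_eq hδ ξ x hc.1 hc.2 hG, G.secOrdAt_eq hδ ξ x hc.1 hc.2 hG,
      fib_fibMap]
  · rw [dif_neg hc, dif_neg hc]

theorem c1CapFun_fibMap [IsLocallyNoetherian X] {δ : X → ℤ} (hδ : Cyc.IsDimFun X δ)
    (e : M ≅ N) (hM : PicF.IsInvertible M) (α : X → ℤ) (v : (ξ : X) → Cyc.secFibre M ξ) :
    Cyc.c1CapFun δ N α (fun ξ => fibMap e ξ (v ξ)) = Cyc.c1CapFun δ M α v := by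
  funext x
  unfold Cyc.c1CapFun
  exact finsum_congr (fun ξ => by rw [secDivFun_fibMap hδ e hM])

end Part1

section Part2

open CategoryTheory AlgebraicGeometry CategoryTheory.Limits TopologicalSpace
open Groth.Agent.Lib.R2H1.C1Comm Groth.Agent.Lib.R2H1.C1Rel Groth.Agent.Lib.R2H1.C1Tensor
  Groth.Agent.Lib.R2H1.PullInv2 Groth.Agent.Lib.R2H1.PullInv3 Groth.Agent.Lib.R2H1.GysinComm

variable {X : Scheme.{u}}

/-- an invertible module has a nowhere-zero family of rational sections. -/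
theorem exists_nowhereZero (M : X.Modules) (hM : PicF.IsInvertible M) :
    ∃ v : (ξ : X) → Cyc.secFibre M ξ, ∀ ξ, v ξ ≠ 0 := by
  choose gM hgM using exists_gen M hM
  exact ⟨fun ξ => Submodule.Quotient.mk ((gM ξ).g ξ (hgM ξ)), fun ξ => mk_g_ne_zero (gM ξ) ξ (hgM ξ)⟩

/-- a function with locally finite support is the coefficient function of a cycle. -/
theorem exists_cycle_of_locallyFinite (F : X → ℤ)
    (hF : ∀ x₀ : X, ∃ U : Set X, IsOpen U ∧ x₀ ∈ U ∧ {ξ : X | ξ ∈ U ∧ F ξ ≠ 0}.Finite) :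
    ∃ γ : AlgebraicCycle X ℤ, ⇑γ = F := by
  refine ⟨⟨F, fun _ _ => Set.mem_univ _, fun z _ => ?_⟩, rfl⟩
  obtain ⟨U, hU, hzU, hfin⟩ := hF z
  exact ⟨U, hU.mem_nhds hzU, hfin.subset (fun ξ hξ => ⟨hξ.1, hξ.2⟩)⟩

/-- local finiteness and dimension of `c_1(M) ∩ α`. -/
theorem c1CapFun_props (δ : X → ℤ) (hX : Cyc.IsSetup X δ) (M : X.Modules)
    (hM : PicF.IsInvertible M) (k : ℤ) (α : AlgebraicCycle X ℤ) (hα : α ∈ Cyc.Zk X δ k)
    (v : (ξ : X) → Cyc.secFibre M ξ) (hv : ∀ ξ, v ξ ≠ 0) :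
    (∀ x₀ : X, ∃ U : Set X, IsOpen U ∧ x₀ ∈ U ∧
      {ξ : X | ξ ∈ U ∧ Cyc.c1CapFun δ M ⇑α v ξ ≠ 0}.Finite) ∧
    (∀ ξ, Cyc.c1CapFun δ M ⇑α v ξ ≠ 0 → δ ξ = k - 1) := by
  classical
  choose gM hgM using exists_gen M hM
  refine ⟨?_, ?_⟩
  · intro x₀
    obtain ⟨U, hU, hxU, hfin⟩ := coef_family_support_locallyFinite δ hX
      (ι := {ζ : X // α ζ ≠ 0}) (fun ζ => ζ.1) (cycle_support_locallyFinite α)
      (fun ζ => ofMod gM hgM ζ.1 (v ζ.1) (hv _) v hv)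
      (fun ζ => α ζ.1) x₀
    refine ⟨U, hU, hxU, hfin.subset ?_⟩
    rintro ξ ⟨hξU, hξ⟩
    refine ⟨hξU, ?_⟩
    rw [coef_sum_eq_c1CapFun gM hgM δ hX α v hv ξ]
    exact hξ
  · intro ξ hξ
    have : ∃ ζ, α ζ * Cyc.secDivFun δ M ζ (v ζ) ξ ≠ 0 := by
      by_contra hall
      push_neg at hall
      apply hξ
      change ∑ᶠ ζ : X, α ζ * Cyc.secDivFun δ M ζ (v ζ) ξ = 0
      rw [finsum_congr hall, finsum_zero]
    obtain ⟨ζ', hζ'⟩ := this
    have h1 : α ζ' ≠ 0 := fun h0 => hζ' (by rw [h0, zero_mul])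
    have h2 : Cyc.secDivFun δ M ζ' (v ζ') ξ ≠ 0 := fun h0 => hζ' (by rw [h0, mul_zero])
    have h3 := (secDivFun_ne_zero_specializes h2).2
    have h4 : δ ζ' = k := by
      by_contra hne
      exact h1 (hα ζ' hne)
    omega

/-- `c_1(M) ∩ α` is a cycle. -/
theorem exists_c1Cap (δ : X → ℤ) (hX : Cyc.IsSetup X δ) (M : X.Modules)
    (hM : PicF.IsInvertible M) (k : ℤ) (α : AlgebraicCycle X ℤ) (hα : α ∈ Cyc.Zk X δ k)
    (v : (ξ : X) → Cyc.secFibre M ξ) (hv : ∀ ξ, v ξ ≠ 0) :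
    ∃ γ : AlgebraicCycle X ℤ, ⇑γ = Cyc.c1CapFun δ M ⇑α v ∧ γ ∈ Cyc.Zk X δ (k - 1) := by
  obtain ⟨h1, h2⟩ := c1CapFun_props δ hX M hM k α hα v hv
  obtain ⟨γ, hγ⟩ := exists_cycle_of_locallyFinite _ h1
  refine ⟨γ, hγ, ?_⟩
  intro ξ hξ
  by_contra h
  rw [hγ] at h
  exact hξ (h2 ξ h)

/-- rationally equivalent cycles have the same class. -/
theorem cl_eq_of_ratEquiv {δ : X → ℤ} {k : ℤ} {α β : AlgebraicCycle X ℤ}
    (hα : α ∈ Cyc.Zk X δ k) (hβ : β ∈ Cyc.Zk X δ k) (h : Cyc.RatEquiv δ k α β) :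
    ChowOps.cl α hα = ChowOps.cl β hβ := by
  unfold ChowOps.cl ChowOps.clHom
  rw [QuotientAddGroup.mk'_apply, QuotientAddGroup.mk'_apply, QuotientAddGroup.eq_iff_sub_mem]
  apply AddSubgroup.subset_closure
  exact h

/-- a cycle rationally equivalent to zero has class zero. -/
theorem cl_eq_zero_of_ratEquivZero {δ : X → ℤ} {k : ℤ} {α : AlgebraicCycle X ℤ}
    (hα : α ∈ Cyc.Zk X δ k) (h : Cyc.RatEquivZero δ k α) : ChowOps.cl α hα = 0 := by
  unfold ChowOps.cl ChowOps.clHom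
  rw [QuotientAddGroup.mk'_apply, QuotientAddGroup.eq_zero_iff]
  exact AddSubgroup.subset_closure h

/-- the chosen nowhere-zero family of rational sections. -/
noncomputable def v₀ (M : X.Modules) (hM : PicF.IsInvertible M) : (ξ : X) → Cyc.secFibre M ξ :=
  Classical.choose (exists_nowhereZero M hM)

theorem v₀_ne (M : X.Modules) (hM : PicF.IsInvertible M) (ξ : X) : v₀ M hM ξ ≠ 0 :=
  Classical.choose_spec (exists_nowhereZero M hM) ξ

/-- the chosen cycle representing `c_1(M) ∩ α`. -/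
noncomputable def c1Cyc (δ : X → ℤ) (hX : Cyc.IsSetup X δ) (M : X.Modules)
    (hM : PicF.IsInvertible M) (k : ℤ) (a : ↥(ChowOps.zk X δ k)) : ↥(ChowOps.zk X δ (k - 1)) :=
  ⟨Classical.choose (exists_c1Cap δ hX M hM k a.1 a.2 (v₀ M hM) (v₀_ne M hM)),
    (Classical.choose_spec (exists_c1Cap δ hX M hM k a.1 a.2 (v₀ M hM) (v₀_ne M hM))).2⟩

theorem c1Cyc_coe (δ : X → ℤ) (hX : Cyc.IsSetup X δ) (M : X.Modules)
    (hM : PicF.IsInvertible M) (k : ℤ) (a : ↥(ChowOps.zk X δ k)) :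
    ⇑(c1Cyc δ hX M hM k a).1 = Cyc.c1CapFun δ M ⇑a.1 (v₀ M hM) :=
  (Classical.choose_spec (exists_c1Cap δ hX M hM k a.1 a.2 (v₀ M hM) (v₀_ne M hM))).1

/-- `c_1(M) ∩ -` on the groups of cycles (with the chosen sections). -/
noncomputable def c1Zk (δ : X → ℤ) (hX : Cyc.IsSetup X δ) (M : X.Modules)
    (hM : PicF.IsInvertible M) (k : ℤ) : ↥(ChowOps.zk X δ k) →+ ↥(ChowOps.zk X δ (k - 1)) where
  toFun := c1Cyc δ hX M hM k
  map_zero' := by
    apply Subtype.ext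
    apply DFunLike.coe_injective
    rw [c1Cyc_coe]
    change Cyc.c1CapFun δ M ⇑(0 : AlgebraicCycle X ℤ) (v₀ M hM) = ⇑(0 : AlgebraicCycle X ℤ)
    rw [Function.locallyFinsuppWithin.coe_zero, Bivar.c1CapFun_zero]
  map_add' a b := by
    apply Subtype.ext
    apply DFunLike.coe_injective
    rw [c1Cyc_coe]
    change Cyc.c1CapFun δ M ⇑(a.1 + b.1) (v₀ M hM) =
      ⇑((c1Cyc δ hX M hM k a).1 + (c1Cyc δ hX M hM k b).1)
    rw [Function.locallyFinsuppWithin.coe_add, Function.locallyFinsuppWithin.coe_add,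
      Bivar.c1CapFun_add, c1Cyc_coe, c1Cyc_coe]

theorem c1Zk_mem_ratTriv (δ : X → ℤ) (hX : Cyc.IsSetup X δ) (M : X.Modules)
    (hM : PicF.IsInvertible M) (k : ℤ) :
    ChowOps.ratTriv X δ k ≤ ((ChowOps.clHom X δ (k - 1)).comp (c1Zk δ hX M hM k)).ker := by
  unfold ChowOps.ratTriv
  rw [AddSubgroup.closure_le]
  intro a ha
  change Cyc.RatEquivZero δ k (a : AlgebraicCycle X ℤ) at ha
  rw [SetLike.mem_coe, AddMonoidHom.mem_ker]
  change ChowOps.clHom X δ (k - 1) (c1Zk δ hX M hM k a) = 0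
  unfold ChowOps.clHom
  rw [QuotientAddGroup.mk'_apply, QuotientAddGroup.eq_zero_iff]
  apply AddSubgroup.subset_closure
  change Cyc.RatEquivZero δ (k - 1) (c1Cyc δ hX M hM k a).1
  have ha' : Cyc.RatEquivZero δ (k - 1 + 1) (a : AlgebraicCycle X ℤ) := by
    rw [sub_add_cancel]; exact ha
  exact main1921 X δ hX M hM (k - 1) a.1 ha' (v₀ M hM) (v₀_ne M hM) _ (c1Cyc_coe δ hX M hM k a)

/-- `c_1(M) ∩ -` on Chow groups. -/
noncomputable def c1CH (δ : X → ℤ) (hX : Cyc.IsSetup X δ) (M : X.Modules)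
    (hM : PicF.IsInvertible M) (k : ℤ) : ChowOps.CH X δ k →+ ChowOps.CH X δ (k - 1) :=
  QuotientAddGroup.lift (ChowOps.ratTriv X δ k)
    ((ChowOps.clHom X δ (k - 1)).comp (c1Zk δ hX M hM k)) (c1Zk_mem_ratTriv δ hX M hM k)

/-- `c_1(M) ∩ [α]` is the class of `c_1(M) ∩ α` computed with any rational sections. -/
theorem c1CH_cl (δ : X → ℤ) (hX : Cyc.IsSetup X δ) (M : X.Modules)
    (hM : PicF.IsInvertible M) (k : ℤ) (α : AlgebraicCycle X ℤ) (hα : α ∈ Cyc.Zk X δ k)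
    (v : (ξ : X) → Cyc.secFibre M ξ) (hv : ∀ ξ, v ξ ≠ 0) (γ : AlgebraicCycle X ℤ)
    (hγ : ⇑γ = Cyc.c1CapFun δ M ⇑α v) (hγk : γ ∈ Cyc.Zk X δ (k - 1)) :
    c1CH δ hX M hM k (ChowOps.cl α hα) = ChowOps.cl γ hγk := by
  change ChowOps.cl (c1Cyc δ hX M hM k ⟨α, hα⟩).1 (c1Cyc δ hX M hM k ⟨α, hα⟩).2 = _
  apply cl_eq_of_ratEquiv
  have hα' : α ∈ Cyc.Zk X δ (k - 1 + 1) := by rw [sub_add_cancel]; exact hα
  exact Groth.Agent.Lib.R2H1.C1Indep.c1Cap_indep X δ hX M hM (k - 1) α hα' (v₀ M hM) (v₀_ne M hM)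
    v hv _ γ (c1Cyc_coe δ hX M hM k ⟨α, hα⟩) hγ

/-- isomorphic modules have the same first Chern class operation. -/
theorem c1CH_congr (δ : X → ℤ) (hX : Cyc.IsSetup X δ) {M N : X.Modules} (e : M ≅ N)
    (hM : PicF.IsInvertible M) (hN : PicF.IsInvertible N) (k : ℤ) :
    c1CH δ hX M hM k = c1CH δ hX N hN k := by
  haveI : IsLocallyNoetherian X := hX.1
  apply AddMonoidHom.ext
  intro a
  obtain ⟨α, hα, rfl⟩ := Bivar.exists_rep a
  obtain ⟨γ, hγ, hγk⟩ := exists_c1Cap δ hX M hM k α hα (v₀ M hM) (v₀_ne M hM)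
  rw [c1CH_cl δ hX M hM k α hα (v₀ M hM) (v₀_ne M hM) γ hγ hγk,
    c1CH_cl δ hX N hN k α hα (fun ξ => fibMap e ξ (v₀ M hM ξ))
      (fun ξ => fibMap_ne_zero e hM ξ _ (v₀_ne M hM ξ)) γ
      (by rw [c1CapFun_fibMap hX.2.2 e hM]; exact hγ) hγk]

end Part2

section Part3

open CategoryTheory AlgebraicGeometry CategoryTheory.Limits TopologicalSpace
open Groth.Agent.Lib.R2H1.C1Comm Groth.Agent.Lib.R2H1.C1Rel Groth.Agent.Lib.R2H1.C1Tensor
  Groth.Agent.Lib.R2H1.PullInv2 Groth.Agent.Lib.R2H1.PullInv3 Groth.Agent.Lib.R2H1.GysinComm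
  Groth.Agent.Lib.R2H1.Gysin

variable {T S D : Scheme.{u}}

/-- projection formula on Chow groups, in the representative form of the prelude. -/
theorem c1CH_pushOK (δT : T → ℤ) (δS : S → ℤ) (hT : Cyc.IsSetup T δT) (hS : Cyc.IsSetup S δS)
    (h : T ⟶ S) [IsProper h] (hδ : Cyc.DeltaCompat h δT δS) (M : S.Modules)
    (hM : PicF.IsInvertible M) (hM' : PicF.IsInvertible ((Scheme.Modules.pullback h).obj M))
    (k : ℤ) :
    Bivar.PushOK δT δT δS δS h h (c1CH δT hT ((Scheme.Modules.pullback h).obj M) hM' k)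
      (c1CH δS hS M hM k) := by
  intro α hα
  obtain ⟨γ, hγ, hγk⟩ := exists_c1Cap δT hT _ hM' k α hα (v₀ _ hM') (v₀_ne _ hM')
  refine ⟨γ, hγk, c1CH_cl δT hT _ hM' k α hα _ (v₀_ne _ hM') γ hγ hγk, ?_⟩
  obtain ⟨γ', hγ', hγ'k⟩ := exists_c1Cap δS hS M hM k (AlgebraicCycle.map h δT δS α)
    (Bivar.cycMap_mem_Zk h δT δS k hα) (v₀ M hM) (v₀_ne M hM)
  rw [c1CH_cl δS hS M hM k _ _ (v₀ M hM) (v₀_ne M hM) γ' hγ' hγ'k]
  symm
  apply cl_eq_of_ratEquiv
  have hα' : α ∈ Cyc.Zk T δT (k - 1 + 1) := by rw [sub_add_cancel]; exact hα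
  exact Groth.Agent.Lib.R2H1.ProjFormula.main T S δT δS hT hS h hδ M hM (k - 1) α hα'
    (v₀ _ hM') (v₀_ne _ hM') (v₀ M hM) (v₀_ne M hM) γ hγ γ' hγ'

/-- `c_1` commutes with flat pullback on Chow groups, in the representative form of the prelude. -/
theorem c1CH_pullOK (δT : T → ℤ) (δS : S → ℤ) (hT : Cyc.IsSetup T δT) (hS : Cyc.IsSetup S δS)
    (h : T ⟶ S) [Flat h] [LocallyOfFiniteType h] (r : ℕ) (hr : Cyc.HasRelDim h r)
    (hδ : Cyc.DeltaCompat h δT δS) (M : S.Modules)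
    (hM : PicF.IsInvertible M) (hM' : PicF.IsInvertible ((Scheme.Modules.pullback h).obj M))
    (k : ℤ) :
    Bivar.PullOK δS δS δT δT h h (r : ℤ) (c1CH δS hS M hM k)
      (c1CH δT hT ((Scheme.Modules.pullback h).obj M) hM' (k + r)) := by
  intro α hα
  obtain ⟨γ, hγ, hγk⟩ := exists_c1Cap δS hS M hM k α hα (v₀ M hM) (v₀_ne M hM)
  refine ⟨γ, hγk, c1CH_cl δS hS M hM k α hα _ (v₀_ne M hM) γ hγ hγk, ?_⟩
  intro α₁ hα₁c hα₁
  obtain ⟨β₁, hβ₁⟩ := Groth.Agent.Lib.R2H1.CycLimC.exists_pullCycle hT h (r : ℤ)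
    (fun a ha => Groth.Agent.Lib.R2H3.CycFlatRel.shift_of_hasRelDim h r δT δS hr hδ a ha) γ
  have hβ₁k : β₁ ∈ Cyc.Zk T δT (k + r - 1) := by
    have := Bivar.pullFun_mem_Zk h δT δS (r : ℤ) (k - 1) hγk β₁ hβ₁
    rwa [show k - 1 + (r : ℤ) = k + r - 1 by ring] at this
  refine ⟨β₁, hβ₁k, hβ₁, ?_⟩
  obtain ⟨γ₂, hγ₂, hγ₂k⟩ := exists_c1Cap δT hT _ hM' (k + r) α₁ hα₁ (v₀ _ hM') (v₀_ne _ hM')
  rw [c1CH_cl δT hT _ hM' (k + r) α₁ hα₁ _ (v₀_ne _ hM') γ₂ hγ₂ hγ₂k]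
  symm
  apply cl_eq_of_ratEquiv
  exact Groth.Agent.Lib.R2H1.FlatPullC1.main1927 T S δT δS hT hS h r hr hδ M hM k α hα
    (v₀ M hM) (v₀_ne M hM) (v₀ _ hM') (v₀_ne _ hM') β₁ γ₂ (by rw [hβ₁, hγ]) (by rw [hγ₂, hα₁c])

/-- restriction to a closed subscheme of a function with locally finite support. -/
theorem exists_restrict_cycle (i : D ⟶ S) (hinj : Function.Injective i) (F : S → ℤ)
    (hF : ∀ x₀ : S, ∃ U : Set S, IsOpen U ∧ x₀ ∈ U ∧ {ξ : S | ξ ∈ U ∧ F ξ ≠ 0}.Finite) :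
    ∃ ζ : AlgebraicCycle D ℤ, ∀ d, ζ d = F (i d) := by
  obtain ⟨ζ, hζ⟩ := exists_cycle_of_locallyFinite (X := D) (fun d => F (i d)) (by
    intro d₀
    obtain ⟨U, hU, hdU, hfin⟩ := hF (i d₀)
    refine ⟨i ⁻¹' U, hU.preimage i.continuous, hdU, ?_⟩
    refine (hfin.preimage hinj.injOn).subset ?_
    rintro d ⟨hd1, hd2⟩
    exact ⟨hd1, hd2⟩)
  exact ⟨ζ, fun d => congrFun hζ d⟩

/-- `c_1` commutes with the Gysin map on Chow groups, in the representative form of the prelude. -/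
theorem c1CH_gysinOK (δS : S → ℤ) (hS : Cyc.IsSetup S δS) (i : D ⟶ S) [IsClosedImmersion i]
    (N : S.Modules) (hN : PicF.IsInvertible N) (σ : N.presheaf.obj (Opposite.op ⊤))
    (hσ : Cyc.IsZeroSchemeOf i N σ) (M : S.Modules) (hM : PicF.IsInvertible M)
    (hM' : PicF.IsInvertible ((Scheme.Modules.pullback i).obj M))
    (hD : Cyc.IsSetup D (fun d => δS (i d))) (k : ℤ) :
    Bivar.GysinOK₁ δS (fun d => δS (i d)) i N σ (c1CH δS hS M hM k)
      (c1CH (fun d => δS (i d)) hD ((Scheme.Modules.pullback i).obj M) hM' (k - 1)) := by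
  classical
  intro α hα
  obtain ⟨γ, hγ, hγk⟩ := exists_c1Cap δS hS M hM k α hα (v₀ M hM) (v₀_ne M hM)
  refine ⟨γ, hγk, c1CH_cl δS hS M hM k α hα _ (v₀_ne M hM) γ hγ hγk, ?_⟩
  intro w hw γD hγDc hγD
  obtain ⟨hsupp, hlf, hdim⟩ := c1CapFun_gysin_props i δS hS N hN σ hσ (k - 1) γ hγk w hw
  obtain ⟨ζ, hζ⟩ := exists_restrict_cycle i i.isClosedEmbedding.injective _ hlf
  have hζk : ζ ∈ Cyc.Zk D (fun d => δS (i d)) (k - 1 - 1) := by
    intro d hd
    rw [hζ]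
    by_contra hne
    apply hd
    have := hdim (i d) hne
    change δS (i d) = k - 1 - 1
    omega
  refine ⟨ζ, hζk, hζ, ?_⟩
  obtain ⟨ζ₂, hζ₂, hζ₂k⟩ := exists_c1Cap (fun d => δS (i d)) hD _ hM' (k - 1) γD hγD
    (v₀ _ hM') (v₀_ne _ hM')
  rw [c1CH_cl (fun d => δS (i d)) hD _ hM' (k - 1) γD hγD _ (v₀_ne _ hM') ζ₂ hζ₂ hζ₂k]
  symm
  apply cl_eq_of_ratEquiv
  rw [show k - 1 - 1 = k - 2 by ring]
  refine gysin_c1_core S D δS hS N M hN hM σ i hσ k (ι := {ζ : S // α ζ ≠ 0})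
    (fun j => j.1) (fun j => by by_contra hne; exact j.2 (hα j.1 hne))
    (cycle_support_locallyFinite α) (fun j => α j.1) (fun j => v₀ M hM j.1)
    (fun j => v₀_ne M hM j.1) w hw (v₀ M hM) (v₀_ne M hM) (v₀ _ hM') (v₀_ne _ hM') ζ ζ₂ ?_ ?_
  · intro d
    rw [hζ]
    unfold Cyc.c1CapFun
    refine finsum_congr (fun ξ => ?_)
    congr 1
    rw [hγ]
    unfold Cyc.c1CapFun
    exact (finsum_subtype_of_support (fun ζ' => α ζ' ≠ 0)
      (fun ζ' => α ζ' * Cyc.secDivFun δS M ζ' (v₀ M hM ζ') ξ)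
      (fun ζ' h h0 => h (by rw [h0, zero_mul]))).symm
  · intro d
    rw [hζ₂]
    unfold Cyc.c1CapFun
    refine finsum_congr (fun d' => ?_)
    congr 1
    rw [hγDc d']
    unfold Cyc.c1CapFun
    exact (finsum_subtype_of_support (fun ζ' => α ζ' ≠ 0)
      (fun ζ' => α ζ' * Cyc.secDivFun δS N ζ' (Cyc.gysinChoice N σ w ζ') (i d'))
      (fun ζ' h h0 => h (by rw [h0, zero_mul]))).symm

end Part3

end Groth.Agent.Lib.R2H1.C1Chow
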