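/-
The operational first Chern class c_1(L) in A^1(X) exists (S17570; helper1, round 2).
Reusable: osq_isSetup (test schemes inherit IsSetup), inv_pull, deltaCompat_closedImmersion, pullIso (h^* g^* L = g'^* L),
osq_deltaCompat, gysinOK_transport, c1Op hX L hL : OpCl 1 X dX, c1Op_isC1Class.
-/
import Mathlib
import Groth.Prelude
import Groth.Agent.Lib.Helper23PB
import Groth.Agent.Lib.R2H1ChowDesc
import Groth.Agent.Lib.R2H1PullInv
import Groth.Agent.Lib.R2H1C1Chow

set_option autoImplicit false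
set_option linter.style.haveILetI false
set_option linter.unusedSectionVars false
universe u v

namespace Groth.Agent.Lib.R2H1.BivarC1

section Part1

open CategoryTheory AlgebraicGeometry CategoryTheory.Limits TopologicalSpace
open Bivar Groth.Agent.Lib.R2H1.ChowDesc Groth.Agent.Lib.R2H1.MVClosed Groth.Agent.Lib.R2H1.PerfCyc
  Groth.Agent.Lib.R2H1.C1Chow

variable {X : Scheme.{u}} {δX : X → ℤ}

theorem osq_isSetup (hX : Cyc.IsSetup X δX) (s : OSq X δX) : Cyc.IsSetup s.Y s.δ := by
  haveI := s.lft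
  exact isSetup_of_lft s.g δX hX s.δ s.compat

theorem inv_pull {A B : Scheme.{u}} (g : A ⟶ B) (L : B.Modules) (hL : PicF.IsInvertible L) :
    PicF.IsInvertible ((Scheme.Modules.pullback g).obj L) :=
  Groth.Agent.Lib.Helper23.PB.isInvertible_pullback g L hL

theorem deltaCompat_closedImmersion {D S : Scheme.{u}} (i : D ⟶ S) [IsClosedImmersion i]
    (δ : S → ℤ) : Cyc.DeltaCompat i (fun d => δ (i d)) δ := by
  rw [deltaCompat_iff]
  intro d
  exact ⟨0, by rw [resTrdeg_eq_zero_of_universallyInjective i d]; simp, by simp⟩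

/-- the comparison isomorphism of pulled back modules over a test scheme. -/
noncomputable def pullIso {A B : Scheme.{u}} (h : A ⟶ B) (g : B ⟶ X) (g' : A ⟶ X)
    (w : h ≫ g = g') (L : X.Modules) :
    (Scheme.Modules.pullback h).obj ((Scheme.Modules.pullback g).obj L) ≅
      (Scheme.Modules.pullback g').obj L :=
  (Scheme.Modules.pullbackComp h g).app L ≪≫ (Scheme.Modules.pullbackCongr w).app L

theorem osq_deltaCompat (s t : OSq X δX) (h : t.Y ⟶ s.Y) [LocallyOfFiniteType h]
    (w : h ≫ s.g = t.g) : Cyc.DeltaCompat h t.δ s.δ := by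
  apply deltaCompat_cancel h s.g _ s.compat
  rw [w]
  exact t.compat

theorem gysinOK_transport {S D : Scheme.{u}} (δS : S → ℤ) (δD : D → ℤ) (i : D ⟶ S)
    (hδeq : δD = fun d => δS (i d)) (hD' : Cyc.IsSetup D δD)
    (hD : Cyc.IsSetup D (fun d => δS (i d))) (N : S.Modules) (σ : N.presheaf.obj (Opposite.op ⊤))
    (M' : D.Modules) (hM' : PicF.IsInvertible M') {k l : ℤ} (k' : ℤ)
    (φ : ChowOps.CH S δS k →+ ChowOps.CH S δS l)
    (h1 : GysinOK₁ δS (fun d => δS (i d)) i N σ φ (c1CH (fun d => δS (i d)) hD M' hM' k')) :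
    GysinOK₁ δS δD i N σ φ (c1CH δD hD' M' hM' k') := by
  subst hδeq
  exact h1

/-- the operational first Chern class of an invertible module. -/
noncomputable def c1Op (hX : Cyc.IsSetup X δX) (L : X.Modules) (hL : PicF.IsInvertible L) :
    OpCl 1 X δX where
  op s k := c1CH s.δ (osq_isSetup hX s) ((Scheme.Modules.pullback s.g).obj L) (inv_pull s.g L hL) k
  push s t h _ w k := by
    have hδ := osq_deltaCompat s t h w
    have h1 := c1CH_pushOK t.δ s.δ (osq_isSetup hX t) (osq_isSetup hX s) h hδ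
      ((Scheme.Modules.pullback s.g).obj L) (inv_pull s.g L hL) (inv_pull h _ (inv_pull s.g L hL)) k
    rwa [c1CH_congr t.δ (osq_isSetup hX t) (pullIso h s.g t.g w L)
      (inv_pull h _ (inv_pull s.g L hL)) (inv_pull t.g L hL) k] at h1
  pull s t h _ r hr w k := by
    haveI := t.lft
    haveI : LocallyOfFiniteType (h ≫ s.g) := by rw [w]; infer_instance
    haveI : LocallyOfFiniteType h := locallyOfFiniteType_of_comp h s.g
    have hδ := osq_deltaCompat s t h w
    have h1 := c1CH_pullOK t.δ s.δ (osq_isSetup hX t) (osq_isSetup hX s) h r hr hδ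
      ((Scheme.Modules.pullback s.g).obj L) (inv_pull s.g L hL) (inv_pull h _ (inv_pull s.g L hL)) k
    rwa [c1CH_congr t.δ (osq_isSetup hX t) (pullIso h s.g t.g w L)
      (inv_pull h _ (inv_pull s.g L hL)) (inv_pull t.g L hL) (k + r)] at h1
  gysin s t i _ w N hN σ hσ k := by
    have hδ := osq_deltaCompat s t i w
    have hδeq : t.δ = fun d => s.δ (i d) :=
      deltaCompat_unique i hδ (deltaCompat_closedImmersion i s.δ)
    have hD : Cyc.IsSetup t.Y (fun d => s.δ (i d)) := hδeq ▸ osq_isSetup hX t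
    have h1 := c1CH_gysinOK s.δ (osq_isSetup hX s) i N hN σ hσ
      ((Scheme.Modules.pullback s.g).obj L) (inv_pull s.g L hL) (inv_pull i _ (inv_pull s.g L hL))
      hD k
    rw [c1CH_congr (fun d => s.δ (i d)) hD (pullIso i s.g t.g w L)
      (inv_pull i _ (inv_pull s.g L hL)) (inv_pull t.g L hL) (k - 1)] at h1
    exact gysinOK_transport s.δ t.δ i hδeq (osq_isSetup hX t) hD N σ _ (inv_pull t.g L hL) (k - 1) _ h1

theorem c1Op_isC1Class (hX : Cyc.IsSetup X δX) (L : X.Modules) (hL : PicF.IsInvertible L) :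
    IsC1Class L (c1Op hX L hL) := by
  refine ⟨hL, ?_⟩
  intro s k α hα v hv γ hγ hγk
  exact c1CH_cl s.δ (osq_isSetup hX s) _ (inv_pull s.g L hL) k α hα v hv γ hγ hγk

end Part1

end Groth.Agent.Lib.R2H1.BivarC1
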