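/-
The flat pullback bivariant class (S17567; helper1, round 2).
Reusable: shift_of, exists_pull, pullCyc, pullZk, pullCH dT dS hT hS h r hr hd k : CH_k S ->+ CH_{k+r} T (flat pullback on
Chow groups), pullCH_cl, flat_f', lft_f', relDim_f', compat_f' (a square over f inherits flat/lft/HasRelDim/DeltaCompat),
isPullback_of_sq s t h h' w1 w2 w3 : IsPullback t.f' h' h s.f', opS, opS_cl, exists_opS_rep, opS_push, opS_pull, opS_gysin,
flatCl hX hY r hr hd : Cl (-r) f dX dY, flatCl_isFlatPullClass.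
-/
import Mathlib
import Groth.Prelude
import Groth.Agent.Lib.R2H1FlatPullRat
import Groth.Agent.Lib.R2H1CycLimC
import Groth.Agent.Lib.R2H3CycFlatRel
import Groth.Agent.Lib.R2H1BivarEnv
import Groth.Agent.Lib.R2H1C1Chow
import Groth.Agent.Lib.R2H1GysinComm
import Groth.Agent.Lib.R2H1BivarC1
import Groth.Agent.Lib.R2H1IsoTransport

set_option autoImplicit false
set_option linter.style.haveILetI false
set_option linter.unusedSectionVars false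
universe u v

namespace Groth.Agent.Lib.R2H1.BivarFlat

section Part1

open CategoryTheory AlgebraicGeometry CategoryTheory.Limits TopologicalSpace
open Bivar Groth.Agent.Lib.R2H1.ChowDesc Groth.Agent.Lib.R2H1.MVClosed Groth.Agent.Lib.R2H1.C1Chow
  Groth.Agent.Lib.R2H1.BivarEnv Groth.Agent.Lib.R2H1.RelDimBC

variable {T S : Scheme.{u}}

theorem shift_of (δT : T → ℤ) (δS : S → ℤ) (h : T ⟶ S) [LocallyOfFiniteType h] (r : ℕ)
    (hr : Cyc.HasRelDim h r) (hδ : Cyc.DeltaCompat h δT δS) :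
    ∀ x' : T, (∀ y, h y = h x' → y ⤳ x' → y = x') → δT x' = δS (h x') + (r : ℤ) :=
  fun a ha => Groth.Agent.Lib.R2H3.CycFlatRel.shift_of_hasRelDim h r δT δS hr hδ a ha

/-- the flat pullback of a cycle, as a cycle. -/
theorem exists_pull (δT : T → ℤ) (δS : S → ℤ) (hT : Cyc.IsSetup T δT) (h : T ⟶ S)
    [LocallyOfFiniteType h] (r : ℕ) (hr : Cyc.HasRelDim h r) (hδ : Cyc.DeltaCompat h δT δS)
    (k : ℤ) (α : AlgebraicCycle S ℤ) (hα : α ∈ Cyc.Zk S δS k) :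
    ∃ β : AlgebraicCycle T ℤ, ⇑β = Cyc.pullFun h δT δS (r : ℤ) ⇑α ∧ β ∈ Cyc.Zk T δT (k + r) := by
  obtain ⟨β, hβ⟩ := Groth.Agent.Lib.R2H1.CycLimC.exists_pullCycle hT h (r : ℤ)
    (shift_of δT δS h r hr hδ) α
  exact ⟨β, hβ, Bivar.pullFun_mem_Zk h δT δS (r : ℤ) k hα β hβ⟩

/-- the chosen cycle representing the flat pullback. -/
noncomputable def pullCyc (δT : T → ℤ) (δS : S → ℤ) (hT : Cyc.IsSetup T δT) (h : T ⟶ S)
    [LocallyOfFiniteType h] (r : ℕ) (hr : Cyc.HasRelDim h r) (hδ : Cyc.DeltaCompat h δT δS)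
    (k : ℤ) (a : ↥(ChowOps.zk S δS k)) : ↥(ChowOps.zk T δT (k + r)) :=
  ⟨Classical.choose (exists_pull δT δS hT h r hr hδ k a.1 a.2),
    (Classical.choose_spec (exists_pull δT δS hT h r hr hδ k a.1 a.2)).2⟩

theorem pullCyc_coe (δT : T → ℤ) (δS : S → ℤ) (hT : Cyc.IsSetup T δT) (h : T ⟶ S)
    [LocallyOfFiniteType h] (r : ℕ) (hr : Cyc.HasRelDim h r) (hδ : Cyc.DeltaCompat h δT δS)
    (k : ℤ) (a : ↥(ChowOps.zk S δS k)) :
    ⇑(pullCyc δT δS hT h r hr hδ k a).1 = Cyc.pullFun h δT δS (r : ℤ) ⇑a.1 :=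
  (Classical.choose_spec (exists_pull δT δS hT h r hr hδ k a.1 a.2)).1

noncomputable def pullZk (δT : T → ℤ) (δS : S → ℤ) (hT : Cyc.IsSetup T δT) (h : T ⟶ S)
    [LocallyOfFiniteType h] (r : ℕ) (hr : Cyc.HasRelDim h r) (hδ : Cyc.DeltaCompat h δT δS)
    (k : ℤ) : ↥(ChowOps.zk S δS k) →+ ↥(ChowOps.zk T δT (k + r)) where
  toFun := pullCyc δT δS hT h r hr hδ k
  map_zero' := by
    apply Subtype.ext
    apply DFunLike.coe_injective
    rw [pullCyc_coe]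
    change Cyc.pullFun h δT δS (r : ℤ) ⇑(0 : AlgebraicCycle S ℤ) = ⇑(0 : AlgebraicCycle T ℤ)
    rw [Function.locallyFinsuppWithin.coe_zero, Bivar.pullFun_zero]
    rfl
  map_add' a b := by
    apply Subtype.ext
    apply DFunLike.coe_injective
    rw [pullCyc_coe]
    change Cyc.pullFun h δT δS (r : ℤ) ⇑(a.1 + b.1) =
      ⇑((pullCyc δT δS hT h r hr hδ k a).1 + (pullCyc δT δS hT h r hr hδ k b).1)
    rw [Function.locallyFinsuppWithin.coe_add, Function.locallyFinsuppWithin.coe_add,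
      Bivar.pullFun_add, pullCyc_coe, pullCyc_coe]

theorem pullZk_mem_ratTriv (δT : T → ℤ) (δS : S → ℤ) (hT : Cyc.IsSetup T δT)
    (hS : Cyc.IsSetup S δS) (h : T ⟶ S) [Flat h]
    [LocallyOfFiniteType h] (r : ℕ) (hr : Cyc.HasRelDim h r) (hδ : Cyc.DeltaCompat h δT δS)
    (k : ℤ) :
    ChowOps.ratTriv S δS k ≤
      ((ChowOps.clHom T δT (k + r)).comp (pullZk δT δS hT h r hr hδ k)).ker := by
  unfold ChowOps.ratTriv
  rw [AddSubgroup.closure_le]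
  intro a ha
  change Cyc.RatEquivZero δS k (a : AlgebraicCycle S ℤ) at ha
  rw [SetLike.mem_coe, AddMonoidHom.mem_ker]
  change ChowOps.clHom T δT (k + r) (pullZk δT δS hT h r hr hδ k a) = 0
  unfold ChowOps.clHom
  rw [QuotientAddGroup.mk'_apply, QuotientAddGroup.eq_zero_iff]
  apply AddSubgroup.subset_closure
  change Cyc.RatEquivZero δT (k + r) (pullCyc δT δS hT h r hr hδ k a).1
  exact Groth.Agent.Lib.R2H1.FlatPullRat.main1940 S T δS δT hS hT h (r : ℤ)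
    (shift_of δT δS h r hr hδ) k a.1 ha _ (pullCyc_coe δT δS hT h r hr hδ k a)

/-- flat pullback on Chow groups. -/
noncomputable def pullCH (δT : T → ℤ) (δS : S → ℤ) (hT : Cyc.IsSetup T δT)
    (hS : Cyc.IsSetup S δS) (h : T ⟶ S) [Flat h]
    [LocallyOfFiniteType h] (r : ℕ) (hr : Cyc.HasRelDim h r) (hδ : Cyc.DeltaCompat h δT δS)
    (k : ℤ) : ChowOps.CH S δS k →+ ChowOps.CH T δT (k + r) :=
  QuotientAddGroup.lift (ChowOps.ratTriv S δS k)
    ((ChowOps.clHom T δT (k + r)).comp (pullZk δT δS hT h r hr hδ k))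
    (pullZk_mem_ratTriv δT δS hT hS h r hr hδ k)

theorem pullCH_cl (δT : T → ℤ) (δS : S → ℤ) (hT : Cyc.IsSetup T δT)
    (hS : Cyc.IsSetup S δS) (h : T ⟶ S) [Flat h]
    [LocallyOfFiniteType h] (r : ℕ) (hr : Cyc.HasRelDim h r) (hδ : Cyc.DeltaCompat h δT δS)
    (k : ℤ) (α : AlgebraicCycle S ℤ) (hα : α ∈ Cyc.Zk S δS k) (α₁ : AlgebraicCycle T ℤ)
    (hα₁c : ⇑α₁ = Cyc.pullFun h δT δS (r : ℤ) ⇑α) (hα₁ : α₁ ∈ Cyc.Zk T δT (k + r)) :
    pullCH δT δS hT hS h r hr hδ k (ChowOps.cl α hα) = ChowOps.cl α₁ hα₁ := by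
  change ChowOps.cl (pullCyc δT δS hT h r hr hδ k ⟨α, hα⟩).1 _ = _
  apply Bivar.cl_congr
  apply DFunLike.coe_injective
  rw [pullCyc_coe, hα₁c]

end Part1

section Part2

open CategoryTheory AlgebraicGeometry CategoryTheory.Limits TopologicalSpace
open Bivar Groth.Agent.Lib.R2H1.ChowDesc Groth.Agent.Lib.R2H1.MVClosed Groth.Agent.Lib.R2H1.C1Chow
  Groth.Agent.Lib.R2H1.BivarEnv Groth.Agent.Lib.R2H1.RelDimBC Groth.Agent.Lib.R2H1.IsoTransport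
  Groth.Agent.Lib.R2H1.IsoTransport Groth.Agent.Lib.R2H1.BivarC1

variable {X Y : Scheme.{u}} {f : X ⟶ Y} {δX : X → ℤ} {δY : Y → ℤ}

theorem flat_f' [Flat f] (s : Sq f δX δY) : Flat s.f' :=
  MorphismProperty.of_isPullback (P := @Flat) s.isPullback.flip inferInstance

theorem lft_f' [LocallyOfFiniteType f] (s : Sq f δX δY) : LocallyOfFiniteType s.f' :=
  MorphismProperty.of_isPullback (P := @LocallyOfFiniteType) s.isPullback.flip inferInstance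

theorem relDim_f' [LocallyOfFiniteType f] (r : ℕ) (hr : Cyc.HasRelDim f r) (s : Sq f δX δY) :
    Cyc.HasRelDim s.f' r :=
  hasRelDim_of_isPullback s.isPullback r hr

theorem compat_f' [LocallyOfFiniteType f] (hδ : Cyc.DeltaCompat f δX δY) (s : Sq f δX δY) :
    Cyc.DeltaCompat s.f' s.δX' s.δY' := by
  haveI := lft_f' s
  apply deltaCompat_cancel s.f' s.g _ s.compatY
  rw [s.isPullback.w]
  exact deltaCompat_comp s.g' f s.δX' δX δY s.compatX hδ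

/-- the square between two squares over `f`. -/
theorem isPullback_of_sq (s t : Sq f δX δY) (h : t.Y' ⟶ s.Y') (h' : t.X' ⟶ s.X')
    (w₁ : h ≫ s.g = t.g) (w₂ : h' ≫ s.f' = t.f' ≫ h) (w₃ : h' ≫ s.g' = t.g') :
    IsPullback t.f' h' h s.f' := by
  refine IsPullback.of_bot ?_ w₂.symm s.isPullback
  rw [w₁, w₃]
  exact t.isPullback

/-- the flat pullback operation on a square. -/
noncomputable def opS (hX : Cyc.IsSetup X δX) (hY : Cyc.IsSetup Y δY) [Flat f]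
    [LocallyOfFiniteType f] (r : ℕ) (hr : Cyc.HasRelDim f r) (hδ : Cyc.DeltaCompat f δX δY)
    (s : Sq f δX δY) (k : ℤ) : ChowOps.CH s.Y' s.δY' k →+ ChowOps.CH s.X' s.δX' (k - -(r : ℤ)) :=
  haveI := flat_f' s
  haveI := lft_f' s
  (chCast s.X' s.δX' (show k + (r : ℤ) = k - -(r : ℤ) by ring)).toAddMonoidHom.comp
    (pullCH s.δX' s.δY' (isSetup_X' hX s) (isSetup_Y' hY s) s.f' r (relDim_f' r hr s)
      (compat_f' hδ s) k)

theorem opS_cl (hX : Cyc.IsSetup X δX) (hY : Cyc.IsSetup Y δY) [Flat f]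
    [LocallyOfFiniteType f] (r : ℕ) (hr : Cyc.HasRelDim f r) (hδ : Cyc.DeltaCompat f δX δY)
    (s : Sq f δX δY) (k : ℤ) (α : AlgebraicCycle s.Y' ℤ) (hα : α ∈ Cyc.Zk s.Y' s.δY' k)
    (α₁ : AlgebraicCycle s.X' ℤ) (hα₁c : ⇑α₁ = Cyc.pullFun s.f' s.δX' s.δY' (r : ℤ) ⇑α)
    (hα₁ : α₁ ∈ Cyc.Zk s.X' s.δX' (k - -(r : ℤ))) :
    opS hX hY r hr hδ s k (ChowOps.cl α hα) = ChowOps.cl α₁ hα₁ := by
  haveI := flat_f' s
  haveI := lft_f' s
  have hα₁' : α₁ ∈ Cyc.Zk s.X' s.δX' (k + r) := Bivar.pullFun_mem_Zk s.f' s.δX' s.δY' r k hα α₁ hα₁c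
  change chCast s.X' s.δX' _ (pullCH s.δX' s.δY' (isSetup_X' hX s) (isSetup_Y' hY s) s.f' r
    (relDim_f' r hr s) (compat_f' hδ s) k (ChowOps.cl α hα)) = _
  rw [pullCH_cl s.δX' s.δY' (isSetup_X' hX s) (isSetup_Y' hY s) s.f' r (relDim_f' r hr s)
    (compat_f' hδ s) k α hα α₁ hα₁c hα₁', chCast_cl]

theorem exists_opS_rep (hX : Cyc.IsSetup X δX) [Flat f]
    [LocallyOfFiniteType f] (r : ℕ) (hr : Cyc.HasRelDim f r) (hδ : Cyc.DeltaCompat f δX δY)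
    (s : Sq f δX δY) (k : ℤ) (α : AlgebraicCycle s.Y' ℤ) (hα : α ∈ Cyc.Zk s.Y' s.δY' k) :
    ∃ (α₁ : AlgebraicCycle s.X' ℤ), ⇑α₁ = Cyc.pullFun s.f' s.δX' s.δY' (r : ℤ) ⇑α ∧
      α₁ ∈ Cyc.Zk s.X' s.δX' (k - -(r : ℤ)) := by
  haveI := flat_f' s
  haveI := lft_f' s
  obtain ⟨β, hβ, hβk⟩ := exists_pull s.δX' s.δY' (isSetup_X' hX s) s.f' r (relDim_f' r hr s)
    (compat_f' hδ s) k α hα
  refine ⟨β, hβ, ?_⟩
  rw [show k - -(r : ℤ) = k + r by ring]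
  exact hβk

end Part2

section Part3

open CategoryTheory AlgebraicGeometry CategoryTheory.Limits TopologicalSpace
open Bivar Groth.Agent.Lib.R2H1.ChowDesc Groth.Agent.Lib.R2H1.MVClosed Groth.Agent.Lib.R2H1.C1Chow
  Groth.Agent.Lib.R2H1.BivarEnv Groth.Agent.Lib.R2H1.RelDimBC Groth.Agent.Lib.R2H1.IsoTransport
  Groth.Agent.Lib.R2H1.IsoTransport Groth.Agent.Lib.R2H1.BivarC1

variable {X Y : Scheme.{u}} {f : X ⟶ Y} {δX : X → ℤ} {δY : Y → ℤ}

theorem opS_push (hX : Cyc.IsSetup X δX) (hY : Cyc.IsSetup Y δY) [Flat f]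
    [LocallyOfFiniteType f] (r : ℕ) (hr : Cyc.HasRelDim f r) (hδ : Cyc.DeltaCompat f δX δY)
    (s t : Sq f δX δY) (h : t.Y' ⟶ s.Y') [IsProper h] (h' : t.X' ⟶ s.X') [IsProper h']
    (w₁ : h ≫ s.g = t.g) (w₂ : h' ≫ s.f' = t.f' ≫ h) (w₃ : h' ≫ s.g' = t.g') (k : ℤ) :
    PushOK t.δY' t.δX' s.δY' s.δX' h h' (opS hX hY r hr hδ t k) (opS hX hY r hr hδ s k) := by
  intro α hα
  obtain ⟨β, hβc, hβ⟩ := exists_opS_rep hX r hr hδ t k α hα
  refine ⟨β, hβ, opS_cl hX hY r hr hδ t k α hα β hβc hβ, ?_⟩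
  refine opS_cl hX hY r hr hδ s k _ _ _ ?_ _
  haveI := lft_f' (f := f) s
  haveI := flat_f' (f := f) s
  haveI : LocallyOfFiniteType s.g' := lft_g' s
  have hδh : Cyc.DeltaCompat h t.δY' s.δY' := by
    apply deltaCompat_cancel h s.g _ s.compatY
    rw [w₁]
    exact t.compatY
  have hδh' : Cyc.DeltaCompat h' t.δX' s.δX' := by
    apply deltaCompat_cancel h' s.g' _ s.compatX
    rw [w₃]
    exact t.compatX
  refine ML_sq (isPullback_of_sq s t h h' w₁ w₂ w₃) t.δY' s.δY' s.δX' t.δX' (r : ℤ) hδh hδh' ?_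
    α β hβc
  intro y'
  exact (Groth.Agent.Lib.R2H3.CycFlat.delta_le s.f' s.δY' s.δX' (isSetup_X' hX s).2.2 (r : ℤ)
    (shift_of s.δX' s.δY' s.f' r (relDim_f' r hr s) (compat_f' hδ s)) y').1

theorem opS_pull (hX : Cyc.IsSetup X δX) (hY : Cyc.IsSetup Y δY) [Flat f]
    [LocallyOfFiniteType f] (r : ℕ) (hr : Cyc.HasRelDim f r) (hδ : Cyc.DeltaCompat f δX δY)
    (s t : Sq f δX δY) (h : t.Y' ⟶ s.Y') [Flat h] (h' : t.X' ⟶ s.X') [Flat h'] (r' : ℕ)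
    (hr₁ : Cyc.HasRelDim h r') (hr₂ : Cyc.HasRelDim h' r')
    (w₁ : h ≫ s.g = t.g) (w₂ : h' ≫ s.f' = t.f' ≫ h) (w₃ : h' ≫ s.g' = t.g') (k : ℤ) :
    PullOK s.δY' s.δX' t.δY' t.δX' h h' (r' : ℤ) (opS hX hY r hr hδ s k)
      (opS hX hY r hr hδ t (k + r')) := by
  intro α hα
  obtain ⟨β, hβc, hβ⟩ := exists_opS_rep hX r hr hδ s k α hα
  refine ⟨β, hβ, opS_cl hX hY r hr hδ s k α hα β hβc hβ, ?_⟩
  intro α₁ hα₁c hα₁
  obtain ⟨β₁, hβ₁c, hβ₁⟩ := exists_opS_rep hX r hr hδ t (k + r') α₁ hα₁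
  refine ⟨β₁, hβ₁, ?_, opS_cl hX hY r hr hδ t (k + r') α₁ hα₁ β₁ hβ₁c hβ₁⟩
  haveI := lft_f' (f := f) s
  haveI := flat_f' (f := f) s
  haveI := lft_f' (f := f) t
  haveI := flat_f' (f := f) t
  haveI : LocallyOfFiniteType s.g' := lft_g' s
  haveI : LocallyOfFiniteType t.g' := lft_g' t
  haveI := s.lft
  haveI := t.lft
  haveI : LocallyOfFiniteType h := by
    haveI : LocallyOfFiniteType (h ≫ s.g) := by rw [w₁]; infer_instance
    exact locallyOfFiniteType_of_comp h s.g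
  haveI : LocallyOfFiniteType h' := by
    haveI : LocallyOfFiniteType (h' ≫ s.g') := by rw [w₃]; infer_instance
    exact locallyOfFiniteType_of_comp h' s.g'
  have hδh : Cyc.DeltaCompat h t.δY' s.δY' := by
    apply deltaCompat_cancel h s.g _ s.compatY
    rw [w₁]
    exact t.compatY
  have hδh' : Cyc.DeltaCompat h' t.δX' s.δX' := by
    apply deltaCompat_cancel h' s.g' _ s.compatX
    rw [w₃]
    exact t.compatX
  have e1 := Groth.Agent.Lib.R2H3.CycFlat.pullFun_comp h t.f' s.δY' t.δY' t.δX'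
    (isSetup_Y' hY t).2.2 (isSetup_X' hX t).2.2 (r' : ℤ) (r : ℤ)
    (shift_of t.δY' s.δY' h r' hr₁ hδh)
    (shift_of t.δX' t.δY' t.f' r (relDim_f' r hr t) (compat_f' hδ t)) ⇑α
  have e2 := Groth.Agent.Lib.R2H3.CycFlat.pullFun_comp s.f' h' s.δY' s.δX' t.δX'
    (isSetup_X' hX s).2.2 (isSetup_X' hX t).2.2 (r : ℤ) (r' : ℤ)
    (shift_of s.δX' s.δY' s.f' r (relDim_f' r hr s) (compat_f' hδ s))
    (shift_of t.δX' s.δX' h' r' hr₂ hδh') ⇑α
  rw [hβ₁c, hα₁c, hβc, ← e1, ← e2, w₂, add_comm]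

end Part3

section Part4

open CategoryTheory AlgebraicGeometry CategoryTheory.Limits TopologicalSpace
open Bivar Groth.Agent.Lib.R2H1.ChowDesc Groth.Agent.Lib.R2H1.MVClosed Groth.Agent.Lib.R2H1.C1Chow
  Groth.Agent.Lib.R2H1.BivarEnv Groth.Agent.Lib.R2H1.RelDimBC Groth.Agent.Lib.R2H1.IsoTransport
  Groth.Agent.Lib.R2H1.IsoTransport Groth.Agent.Lib.R2H1.BivarC1 Groth.Agent.Lib.R2H1.GysinComm

variable {X Y : Scheme.{u}} {f : X ⟶ Y} {δX : X → ℤ} {δY : Y → ℤ}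

theorem opS_gysin (hX : Cyc.IsSetup X δX) (hY : Cyc.IsSetup Y δY) [Flat f]
    [LocallyOfFiniteType f] (r : ℕ) (hr : Cyc.HasRelDim f r) (hδ : Cyc.DeltaCompat f δX δY)
    (s t : Sq f δX δY) (i : t.Y' ⟶ s.Y') [IsClosedImmersion i] (j : t.X' ⟶ s.X')
    [IsClosedImmersion j]
    (w₁ : i ≫ s.g = t.g) (w₂ : j ≫ s.f' = t.f' ≫ i) (w₃ : j ≫ s.g' = t.g')
    (L : s.Y'.Modules) (hL : PicF.IsInvertible L) (σ : L.presheaf.obj (Opposite.op ⊤))
    (hσ : Cyc.IsZeroSchemeOf i L σ)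
    (τ : ((Scheme.Modules.pullback s.f').obj L).presheaf.obj (Opposite.op ⊤))
    (hτ : Cyc.IsZeroSchemeOf j ((Scheme.Modules.pullback s.f').obj L) τ) (k : ℤ) :
    GysinOK s.δY' t.δY' s.δX' t.δX' i L σ j ((Scheme.Modules.pullback s.f').obj L) τ
      (opS hX hY r hr hδ s k) (opS hX hY r hr hδ t (k - 1)) := by
  intro α hα
  obtain ⟨β, hβc, hβ⟩ := exists_opS_rep hX r hr hδ s k α hα
  refine ⟨β, hβ, opS_cl hX hY r hr hδ s k α hα β hβc hβ, ?_⟩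
  intro w hw γ hγc hγ w' hw'
  haveI := lft_f' (f := f) s
  haveI := flat_f' (f := f) s
  haveI := lft_f' (f := f) t
  haveI := flat_f' (f := f) t
  haveI : LocallyOfFiniteType s.g' := lft_g' s
  haveI : LocallyOfFiniteType t.g' := lft_g' t
  haveI := s.lft
  haveI := t.lft
  have hδi : Cyc.DeltaCompat i t.δY' s.δY' := by
    apply deltaCompat_cancel i s.g _ s.compatY
    rw [w₁]
    exact t.compatY
  have hδj : Cyc.DeltaCompat j t.δX' s.δX' := by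
    apply deltaCompat_cancel j s.g' _ s.compatX
    rw [w₃]
    exact t.compatX
  have eY : t.δY' = fun d => s.δY' (i d) :=
    deltaCompat_unique i hδi (deltaCompat_closedImmersion i s.δY')
  have eX : t.δX' = fun z => s.δX' (j z) :=
    deltaCompat_unique j hδj (deltaCompat_closedImmersion j s.δX')
  have hN := inv_pull s.f' L hL
  -- the Gysin pullback of β
  obtain ⟨hsupp, hlf, hdim⟩ := c1CapFun_gysin_props j s.δX' (isSetup_X' hX s) _ hN τ hτ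
    (k - -(r : ℤ)) β hβ w' hw'
  obtain ⟨ζ, hζ⟩ := exists_restrict_cycle j j.isClosedEmbedding.injective _ hlf
  have hζk : ζ ∈ Cyc.Zk t.X' t.δX' (k - 1 - -(r : ℤ)) := by
    intro d hd
    rw [hζ]
    by_contra hne
    apply hd
    have := hdim (j d) hne
    rw [eX]
    change s.δX' (j d) = k - 1 - -(r : ℤ)
    omega
  refine ⟨ζ, hζk, hζ, ?_⟩
  obtain ⟨ζ₂, hζ₂c, hζ₂⟩ := exists_opS_rep hX r hr hδ t (k - 1) γ hγ
  rw [opS_cl hX hY r hr hδ t (k - 1) γ hγ ζ₂ hζ₂c hζ₂]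
  symm
  apply cl_eq_of_ratEquiv
  have hsq : IsPullback j t.f' s.f' i := (isPullback_of_sq s t i j w₁ w₂ w₃).flip
  have hα' : α ∈ Cyc.Zk s.Y' s.δY' (k - 1 + 1) := by
    rw [show k - 1 + 1 = k by ring]; exact hα
  have key := main1933_sq s.Y' s.X' t.Y' t.X' s.δY' s.δX' (isSetup_Y' hY s) (isSetup_X' hX s)
    s.f' r (relDim_f' r hr s) (compat_f' hδ s) L hL σ i hσ j t.f' hsq τ hτ (k - 1) α hα'
    w hw w' hw' ζ ζ₂
    (fun z => by rw [hζ z, hβc])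
    (by
      rw [hζ₂c]
      have : ⇑γ = fun d => Cyc.c1CapFun s.δY' L ⇑α (Cyc.gysinChoice L σ w) (i d) := funext hγc
      rw [← this, ← eX, ← eY])
  rw [← eX, show k - 1 + (r : ℤ) = k - 1 - -(r : ℤ) by ring] at key
  exact key

end Part4

section Part5

open CategoryTheory AlgebraicGeometry CategoryTheory.Limits TopologicalSpace
open Bivar

variable {X Y : Scheme.{u}} {f : X ⟶ Y} {δX : X → ℤ} {δY : Y → ℤ}

/-- the flat pullback class of a flat morphism of relative dimension `r`. -/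
noncomputable def flatCl (hX : Cyc.IsSetup X δX) (hY : Cyc.IsSetup Y δY) [Flat f]
    [LocallyOfFiniteType f] (r : ℕ) (hr : Cyc.HasRelDim f r) (hδ : Cyc.DeltaCompat f δX δY) :
    Cl (-(r : ℤ)) f δX δY where
  op s k := opS hX hY r hr hδ s k
  push s t h _ h' _ w₁ w₂ w₃ k := opS_push hX hY r hr hδ s t h h' w₁ w₂ w₃ k
  pull s t h _ h' _ r' hr₁ hr₂ w₁ w₂ w₃ k := opS_pull hX hY r hr hδ s t h h' r' hr₁ hr₂ w₁ w₂ w₃ k
  gysin s t i _ j _ w₁ w₂ w₃ L hL σ hσ τ hτ k :=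
    opS_gysin hX hY r hr hδ s t i j w₁ w₂ w₃ L hL σ hσ τ hτ k

theorem flatCl_isFlatPullClass (hX : Cyc.IsSetup X δX) (hY : Cyc.IsSetup Y δY) [Flat f]
    [LocallyOfFiniteType f] (r : ℕ) (hr : Cyc.HasRelDim f r) (hδ : Cyc.DeltaCompat f δX δY) :
    IsFlatPullClass f r (flatCl hX hY r hr hδ) :=
  ⟨inferInstance, inferInstance, hr, hδ, fun s k α hα α₁ hα₁c hα₁ =>
    opS_cl hX hY r hr hδ s k α hα α₁ hα₁c hα₁⟩

end Part5

end Groth.Agent.Lib.R2H1.BivarFlat
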