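/-
Gysin maps commute with proper pushforward (S1932; helper1, round 2).
Reusable: push_hfun_sum (p_* of the sum of alpha(xi) div(pulled back coordinate) = c_1(L) cap p_*alpha exactly),
psiP_eq_inv_psi, restrict_support_locallyFinite (support of a cycle restricted to a closed subscheme),
ordAt_specMap_unit, divFun_psi_eq_zero, main.
-/
import Mathlib
import Groth.Prelude.Def_Cyc
import Groth.Prelude.Def_C1
import Groth.Agent.Lib.R2H1PullInv
import Groth.Agent.Lib.R2H1ProperPushRat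
import Groth.Agent.Lib.R2H1ProjFormula
import Groth.Agent.Lib.R2H1GysinFlat

set_option autoImplicit false
set_option linter.style.haveILetI false
set_option linter.unusedSectionVars false
universe u v

namespace Groth.Agent.Lib.R2H1.GysinPush

section Part1

open AlgebraicGeometry CategoryTheory TopologicalSpace IsLocalRing CycAlg Opposite
  Groth.Agent.Lib.R2H1.C1Comm Groth.Agent.Lib.R2H1.C1Rel Groth.Agent.Lib.R2H1.C1Tensor
  Groth.Agent.Lib.R2H1.RatEquivClosed Groth.Agent.Lib.R2H1.LocQuot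
  Groth.Agent.Lib.Helper23.SecTw Groth.Agent.Lib.R2H1.PullInv
  Groth.Agent.Lib.R2H1.PullPush Groth.Agent.Lib.R2H1.ProperPushRat
  Groth.Agent.Lib.R2H1.ProjFormula

variable {X Y : Scheme.{u}}

/-- the proper pushforward of the sum of the divisors of the pulled back coordinates is
`c_1(L) ∩ p_*α`, exactly. -/
theorem push_hfun_sum (p : X ⟶ Y) [IsProper p] {δX : X → ℤ} {δY : Y → ℤ}
    (hX : Cyc.IsSetup X δX) (hY : Cyc.IsSetup Y δY) (hδ : Cyc.DeltaCompat p δX δY)
    (L : Y.Modules) [L.IsQuasicoherent] (WL : Y → Y.Opens)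
    (eL : ∀ z, Γ(L, WL z)) (hz : ∀ z, z ∈ WL z) (hgen : ∀ z, IsGen L (WL z) (eL z))
    (α : AlgebraicCycle X ℤ) (v : (η : Y) → Cyc.secFibre L η) (hv : ∀ η, v η ≠ 0) (y : Y) :
    ∑ᶠ x ∈ p ⁻¹' {y},
      (∑ᶠ ξ, α ξ * Cyc.divFun δX ξ (hfun p L WL eL hgen y ξ (v (p ξ))) x) *
        (AlgebraicCycle.mapCoeff p δX δY x : ℤ) =
      Cyc.c1CapFun δY L ⇑(AlgebraicCycle.map p δX δY α) v y := by
  classical
  haveI : IsLocallyNoetherian X := hX.1
  unfold Cyc.c1CapFun
  have h1 : ∀ x ∈ p ⁻¹' {y},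
      (∑ᶠ ξ, α ξ * Cyc.divFun δX ξ (hfun p L WL eL hgen y ξ (v (p ξ))) x) *
        (AlgebraicCycle.mapCoeff p δX δY x : ℤ) =
      ∑ᶠ ξ, α ξ * (Cyc.divFun δX ξ (hfun p L WL eL hgen y ξ (v (p ξ))) x *
        (AlgebraicCycle.mapCoeff p δX δY x : ℤ)) := by
    intro x _
    rw [finsum_mul]
    exact finsum_congr (fun ξ => mul_assoc _ _ _)
  rw [finsum_mem_congr rfl h1]
  obtain ⟨U, hUo, hyU, hUf⟩ := finite_support_preimage p α y
  have hTi : ∀ ξ, (p ⁻¹' {y} ∩ Function.support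
      (Cyc.divFun δX ξ (hfun p L WL eL hgen y ξ (v (p ξ))))).Finite := by
    intro ξ
    exact (divCycle hX.2.2 ξ _).locallyFiniteSupport.finite_inter_support_of_isCompact
      (p.isCompact_preimage_singleton y)
  have hT : (⋃ ξ ∈ hUf.toFinset, (p ⁻¹' {y} ∩ Function.support
      (Cyc.divFun δX ξ (hfun p L WL eL hgen y ξ (v (p ξ)))))).Finite :=
    Set.Finite.biUnion hUf.toFinset.finite_toSet (fun ξ _ => hTi ξ)
  rw [finsum_mem_finsum_comm (p ⁻¹' {y})
    (fun x ξ => α ξ * (Cyc.divFun δX ξ (hfun p L WL eL hgen y ξ (v (p ξ))) x *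
        (AlgebraicCycle.mapCoeff p δX δY x : ℤ))) hUf.toFinset hT.toFinset ?_ ?_]
  · have h3 : ∀ ξ, ∑ᶠ x ∈ p ⁻¹' {y}, α ξ *
        (Cyc.divFun δX ξ (hfun p L WL eL hgen y ξ (v (p ξ))) x *
          (AlgebraicCycle.mapCoeff p δX δY x : ℤ)) =
        α ξ * (AlgebraicCycle.mapCoeff p δX δY ξ : ℤ) *
          Cyc.secDivFun δY L (p ξ) (v (p ξ)) y := by
      intro ξ
      rw [← mul_finsum_mem, point_formula p δX δY hX hY hδ ξ _
        (hfun_ne_zero p L WL eL hgen y ξ (v (p ξ)) (hv (p ξ))) y,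
        term_formula p hY L WL eL hz hgen y ξ (v (p ξ)) (hv (p ξ)), mul_assoc]
    rw [finsum_congr h3]
    have hfinF : ((Set.univ : Set X) ∩ Function.support (fun ξ => α ξ *
        (AlgebraicCycle.mapCoeff p δX δY ξ : ℤ) * Cyc.secDivFun δY L (p ξ) (v (p ξ)) y)).Finite := by
      refine hUf.subset ?_
      rintro ξ ⟨-, hξ⟩
      rw [Function.mem_support] at hξ
      refine ⟨fun h0 => hξ (by rw [h0, zero_mul, zero_mul]), ?_⟩
      have hs : Cyc.secDivFun δY L (p ξ) (v (p ξ)) y ≠ 0 := fun h0 => hξ (by rw [h0, mul_zero])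
      exact (secDivFun_ne_zero_specializes hs).1.mem_open hUo hyU
    rw [← finsum_mem_univ, finsum_mem_fiberwise Set.univ Set.univ p _ (fun _ _ => Set.mem_univ _)
      hfinF, finsum_mem_univ]
    refine finsum_congr (fun η => ?_)
    rw [map_apply', Set.univ_inter, finsum_mem_mul]
    refine finsum_mem_congr rfl (fun ξ hξ => ?_)
    rw [show p ξ = η from hξ]
  · intro x hx
    rw [Set.Finite.coe_toFinset] at hx
    obtain ⟨ξ, -, hξ⟩ := Set.mem_iUnion₂.mp hx
    exact hξ.1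
  · intro x hx ξ hne
    have hα0 : α ξ ≠ 0 := left_ne_zero_of_mul hne
    have hd : Cyc.divFun δX ξ (hfun p L WL eL hgen y ξ (v (p ξ))) x ≠ 0 :=
      left_ne_zero_of_mul (right_ne_zero_of_mul hne)
    have hsp := (divFun_ne_zero_specializes hd).1
    have hpξ : p ξ ∈ U := by
      have h2 : p ξ ⤳ p x := p.base.hom.map_specializes hsp
      rw [show p x = y from hx] at h2
      exact h2.mem_open hUo hyU
    have hiJ : ξ ∈ hUf.toFinset := by
      rw [Set.Finite.mem_toFinset]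
      exact ⟨hα0, hpξ⟩
    refine ⟨hiJ, ?_⟩
    rw [Set.Finite.mem_toFinset]
    exact Set.mem_iUnion₂.mpr ⟨ξ, hiJ, hx, hd⟩

theorem psiP_eq_inv_psi (p : X ⟶ Y) (L : Y.Modules) [L.IsQuasicoherent] (WL : Y → Y.Opens)
    (eL : ∀ z, Γ(L, WL z)) (hz : ∀ z, z ∈ WL z) (hgen : ∀ z, IsGen L (WL z) (eL z)) (ξ : X)
    (u : Cyc.secFibre ((Scheme.Modules.pullback p).obj L) ξ) (v : Cyc.secFibre L (p ξ)) :
    psiP p L WL eL hz hgen ξ u v =
      (Groth.Agent.Lib.R2H1.PullInv.psi p L WL eL hz hgen ξ v u)⁻¹ := by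
  unfold psiP Groth.Agent.Lib.R2H1.PullInv.psi
  rw [inv_div]

/-- the restriction of the support of a cycle to a closed subscheme is locally finite. -/
theorem restrict_support_locallyFinite {Z : Scheme.{u}} (α : AlgebraicCycle X ℤ) (j : Z ⟶ X)
    [IsClosedImmersion j] (z : Z) :
    ∃ U : Set Z, IsOpen U ∧ z ∈ U ∧
      {ζ : {ζ : Z // α (j ζ) ≠ 0} | (closure {ζ.1} ∩ U).Nonempty}.Finite := by
  obtain ⟨U, hU, hxU, hfin⟩ := cycle_support_locallyFinite α (j z)
  refine ⟨j ⁻¹' U, hU.preimage j.continuous, hxU, ?_⟩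
  let e : {ζ : Z // α (j ζ) ≠ 0} → {ζ : X // α ζ ≠ 0} := fun ζ => ⟨j ζ.1, ζ.2⟩
  have he : Function.Injective e := by
    intro a b hab
    apply Subtype.ext
    exact j.isClosedEmbedding.injective (congrArg Subtype.val hab)
  refine (hfin.preimage he.injOn).subset ?_
  rintro ζ ⟨z', hz'1, hz'2⟩
  refine ⟨j z', ?_, hz'2⟩
  have h1 : ζ.1 ⤳ z' := specializes_iff_mem_closure.mpr hz'1
  exact specializes_iff_mem_closure.mp (h1.map j.continuous)

end Part1

section Part2

open AlgebraicGeometry CategoryTheory Limits TopologicalSpace IsLocalRing CycAlg Opposite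
  Groth.Agent.Lib.R2H1.C1Comm Groth.Agent.Lib.R2H1.C1Rel Groth.Agent.Lib.R2H1.C1Tensor
  Groth.Agent.Lib.R2H1.RatEquivOpen
  Groth.Agent.Lib.R2H1.RatEquivClosed Groth.Agent.Lib.R2H1.LocQuot Groth.Agent.Lib.R2H1.Gysin
  Groth.Agent.Lib.Helper23.SecTw Groth.Agent.Lib.R2H1.PullInv
  Groth.Agent.Lib.R2H1.GysinFlat Groth.Agent.Lib.R2H1.PullbackKer

variable {X X' D : Scheme.{u}}

theorem ordAt_specMap_unit (x ξ : X) (h : ξ ⤳ x) (c : X.presheaf.stalk x) (hc : IsUnit c) :
    Cyc.ordAt x ξ h (Cyc.specMap x ξ h c) = 0 :=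
  ordAt_unit x ξ h c hc

/-- off the pulled back divisor, the comparison function of the Gysin choices has trivial divisor
along the points of the divisor. -/
theorem divFun_psi_eq_zero (f : X' ⟶ X) (i : D ⟶ X) [IsClosedImmersion i]
    (L : X.Modules) [L.IsQuasicoherent] (WL : X → X.Opens)
    (eL : ∀ z, Γ(L, WL z)) (hz : ∀ z, z ∈ WL z) (hgen : ∀ z, IsGen L (WL z) (eL z))
    (s : L.presheaf.obj (Opposite.op ⊤)) (hD : Cyc.IsZeroSchemeOf i L s)
    (s' : ((Scheme.Modules.pullback f).obj L).presheaf.obj (Opposite.op ⊤))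
    (hD' : Cyc.IsZeroSchemeOf (pullback.fst f i) ((Scheme.Modules.pullback f).obj L) s')
    (w : (ξ : X) → Cyc.secFibre L ξ)
    (w' : (ξ : X') → Cyc.secFibre ((Scheme.Modules.pullback f).obj L) ξ) (δ' : X' → ℤ)
    (z : ↥(pullback f i)) (ξ' : X') (hξ' : ξ' ∉ Set.range (pullback.fst f i)) :
    Cyc.divFun δ' ξ' (Groth.Agent.Lib.R2H1.PullInv.psi f L WL eL hz hgen ξ'
      (Cyc.gysinChoice L s w (f ξ'))
      (Cyc.gysinChoice ((Scheme.Modules.pullback f).obj L) s' w' ξ')) (pullback.fst f i z) = 0 := by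
  by_cases hcond : ξ' ⤳ pullback.fst f i z ∧ δ' (pullback.fst f i z) + 1 = δ' ξ'
  · obtain ⟨u, hu⟩ := psi_gysin_eq_unit f i L WL eL hz hgen s hD s' hD' w w' z ξ' hcond.1 hξ'
    unfold Cyc.divFun
    rw [dif_pos hcond, hu]
    exact ordAt_specMap_unit (pullback.fst f i z) ξ' hcond.1 _ u.isUnit
  · unfold Cyc.divFun
    rw [dif_neg hcond]

end Part2

section Part3

open AlgebraicGeometry CategoryTheory Limits TopologicalSpace IsLocalRing CycAlg Opposite
  Groth.Agent.Lib.R2H1.C1Comm Groth.Agent.Lib.R2H1.C1Rel Groth.Agent.Lib.R2H1.C1Tensor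
  Groth.Agent.Lib.R2H1.RatEquivOpen
  Groth.Agent.Lib.R2H1.RatEquivClosed Groth.Agent.Lib.R2H1.LocQuot Groth.Agent.Lib.R2H1.Gysin
  Groth.Agent.Lib.Helper23.SecTw Groth.Agent.Lib.R2H1.PullInv
  Groth.Agent.Lib.R2H1.PullPush Groth.Agent.Lib.R2H1.ProperPushRat
  Groth.Agent.Lib.R2H1.ProjFormula Groth.Agent.Lib.R2H1.CIPush
  Groth.Agent.Lib.R2H1.GysinFlat Groth.Agent.Lib.R2H1.PullbackKer

/-- **Gysin maps commute with proper pushforward** (S1932). -/
theorem main (X X' D : Scheme.{u}) (δ : X → ℤ) (δ' : X' → ℤ) (hX : Cyc.IsSetup X δ)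
    (hX' : Cyc.IsSetup X' δ') (f : X' ⟶ X) [IsProper f] (hδ : Cyc.DeltaCompat f δ' δ)
    (L : X.Modules) (hL : PicF.IsInvertible L) (s : L.presheaf.obj (Opposite.op ⊤)) (i : D ⟶ X)
    [IsClosedImmersion i] (hD : Cyc.IsZeroSchemeOf i L s)
    (s' : ((Scheme.Modules.pullback f).obj L).presheaf.obj (Opposite.op ⊤))
    (hD' : Cyc.IsZeroSchemeOf (pullback.fst f i) ((Scheme.Modules.pullback f).obj L) s') (k : ℤ)
    (α' : AlgebraicCycle X' ℤ) (hα' : α' ∈ Cyc.Zk X' δ' (k + 1))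
    (w : (ξ : X) → Cyc.secFibre L ξ) (hw : ∀ ξ, w ξ ≠ 0)
    (w' : (ξ : X') → Cyc.secFibre ((Scheme.Modules.pullback f).obj L) ξ) (hw' : ∀ ξ, w' ξ ≠ 0)
    (γ : AlgebraicCycle D ℤ)
    (hγ : ∀ d, γ d = Cyc.c1CapFun δ L ⇑(AlgebraicCycle.map f δ' δ α') (Cyc.gysinChoice L s w) (i d))
    (γ' : AlgebraicCycle (pullback f i) ℤ)
    (hγ' : ∀ z, γ' z = Cyc.c1CapFun δ' ((Scheme.Modules.pullback f).obj L) ⇑α'
      (Cyc.gysinChoice ((Scheme.Modules.pullback f).obj L) s' w') (pullback.fst f i z)) :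
    Cyc.RatEquiv (fun d => δ (i d)) k γ
      (AlgebraicCycle.map (pullback.snd f i) (fun z => δ' (pullback.fst f i z))
        (fun d => δ (i d)) γ') := by
  classical
  haveI : L.IsQuasicoherent := isQuasicoherent_of_isInvertible L hL
  haveI : IsLocallyNoetherian X' := hX'.1
  have hDS' := isSetup_of_closedImmersion (pullback.fst f i) hX'
  have hDS := isSetup_of_closedImmersion i hX
  haveI : IsLocallyNoetherian (pullback f i) := hDS'.1
  choose WL eL hz hgen using Groth.Agent.Lib.Helper23.SecTw.exists_gen L hL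
  have hgc := gysinChoice_ne_zero s w hw
  have hgc' := gysinChoice_ne_zero s' w' hw'
  have hcomm : pullback.snd f i ≫ i = pullback.fst f i ≫ f := pullback.condition.symm
  have hδg : Cyc.DeltaCompat (pullback.snd f i) (fun z => δ' (pullback.fst f i z))
      (fun d => δ (i d)) :=
    deltaCompat_of_comm (pullback.fst f i) i f (pullback.snd f i) hcomm δ' δ hδ
  have hΨ : ∀ ξ' : X', Groth.Agent.Lib.R2H1.PullInv.psi f L WL eL hz hgen ξ'
      (Cyc.gysinChoice L s w (f ξ'))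
      (Cyc.gysinChoice ((Scheme.Modules.pullback f).obj L) s' w' ξ') ≠ 0 :=
    fun ξ' => Groth.Agent.Lib.R2H1.PullInv.psi_ne_zero f L WL eL hz hgen ξ' _ _ (hgc _) (hgc' _)
  have hβdim : ∀ z' : ↥(pullback f i), α' (pullback.fst f i z') ≠ 0 →
      δ' (pullback.fst f i z') = k + 1 := by
    intro z' hne
    by_contra hne'
    exact hne (hα' _ hne')
  obtain ⟨J, ζ, gJ, hζ, hgJ, hlf, hsum⟩ := family_of_support
    (fun z => δ' (pullback.fst f i z)) hDS' k (fun z' => α' (pullback.fst f i z')) hβdim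
    (fun z => restrict_support_locallyFinite α' (pullback.fst f i) z)
    (fun z' => ((pullback.fst f i).residueFieldMap z').hom
      (Groth.Agent.Lib.R2H1.PullInv.psi f L WL eL hz hgen (pullback.fst f i z')
        (Cyc.gysinChoice L s w (f (pullback.fst f i z')))
        (Cyc.gysinChoice ((Scheme.Modules.pullback f).obj L) s' w' (pullback.fst f i z'))))
    (fun z' => (map_ne_zero _).mpr (hΨ _))
  let ζc : AlgebraicCycle (pullback f i) ℤ :=
    ⟨fun z => ∑ᶠ j, Cyc.divFun (fun z => δ' (pullback.fst f i z)) (ζ j) (gJ j) z,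
      fun _ _ => Set.mem_univ _, fun z _ =>
      finsum_divFun_locallyFinite hDS'.2.2 ζ gJ hlf z⟩
  have hζc : ∀ z, ζc z = ∑ᶠ j, Cyc.divFun (fun z => δ' (pullback.fst f i z)) (ζ j) (gJ j) z :=
    fun z => rfl
  have hζc0 : Cyc.RatEquivZero (fun z => δ' (pullback.fst f i z)) k ζc :=
    ⟨J, ζ, gJ, hζ, hgJ, hlf, hζc⟩
  have hrat : Cyc.RatEquiv (fun z => δ' (pullback.fst f i z)) k (γ' + ζc) γ' := by
    unfold Cyc.RatEquiv
    rw [add_sub_cancel_left]
    exact hζc0
  have h1855 := Groth.Agent.Lib.R2H1.ProperPushRat.main (pullback f i) D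
    (fun z => δ' (pullback.fst f i z)) (fun d => δ (i d)) hDS' hDS (pullback.snd f i) hδg k
    (γ' + ζc) γ' hrat
  -- finiteness of supports of sums over ξ' at a point x'
  have hfin : ∀ (x : X') (F : X' → ℤ), (∀ ξ, F ξ ≠ 0 → ξ ⤳ x) →
      (Function.support (fun ξ => α' ξ * F ξ)).Finite := by
    intro x F hF
    refine (finite_support_specializes α' x).subset ?_
    intro ξ hξ
    rw [Function.mem_support] at hξ
    exact ⟨fun h0 => hξ (by rw [h0, zero_mul]), hF ξ (fun h0 => hξ (by rw [h0, mul_zero]))⟩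
  -- the sum of the divisors of psi, on X'
  have hζX : ∀ z, ζc z = ∑ᶠ ξ' : X', α' ξ' * Cyc.divFun δ' ξ'
      (Groth.Agent.Lib.R2H1.PullInv.psi f L WL eL hz hgen ξ' (Cyc.gysinChoice L s w (f ξ'))
        (Cyc.gysinChoice ((Scheme.Modules.pullback f).obj L) s' w' ξ')) (pullback.fst f i z) := by
    intro z
    rw [hζc, ← hsum z]
    rw [finsum_comp_of_injective (pullback.fst f i)
      (pullback.fst f i).isClosedEmbedding.injective
      (fun ξ' => α' ξ' * Cyc.divFun δ' ξ'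
        (Groth.Agent.Lib.R2H1.PullInv.psi f L WL eL hz hgen ξ' (Cyc.gysinChoice L s w (f ξ'))
        (Cyc.gysinChoice ((Scheme.Modules.pullback f).obj L) s' w' ξ')) (pullback.fst f i z))]
    · refine finsum_congr (fun z' => ?_)
      rw [divFun_preimmersion (pullback.fst f i) δ' z' z]
    · intro ξ' hne
      by_contra hnot
      apply hne
      rw [divFun_psi_eq_zero f i L WL eL hz hgen s hD s' hD' w w' δ' z ξ' hnot, mul_zero]
  have hγ₂ : ∀ z, (γ' + ζc) z = ∑ᶠ ξ', α' ξ' * Cyc.divFun δ' ξ'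
      (hfun f L WL eL hgen (f (pullback.fst f i z)) ξ' (Cyc.gysinChoice L s w (f ξ')))
      (pullback.fst f i z) := by
    intro z
    rw [Function.locallyFinsuppWithin.coe_add, Pi.add_apply, hγ' z, hζX z]
    unfold Cyc.c1CapFun
    have e : ∀ ξ', α' ξ' * Cyc.secDivFun δ' ((Scheme.Modules.pullback f).obj L) ξ'
        (Cyc.gysinChoice ((Scheme.Modules.pullback f).obj L) s' w' ξ') (pullback.fst f i z) =
        α' ξ' * Cyc.divFun δ' ξ' (hfun f L WL eL hgen (f (pullback.fst f i z)) ξ'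
          (Cyc.gysinChoice L s w (f ξ'))) (pullback.fst f i z) -
        α' ξ' * Cyc.divFun δ' ξ'
          (Groth.Agent.Lib.R2H1.PullInv.psi f L WL eL hz hgen ξ' (Cyc.gysinChoice L s w (f ξ'))
            (Cyc.gysinChoice ((Scheme.Modules.pullback f).obj L) s' w' ξ'))
          (pullback.fst f i z) := by
      intro ξ'
      rw [compare_pull f hX' L WL eL hz hgen (pullback.fst f i z) ξ' _ _ (hgc' ξ') (hgc (f ξ')),
        psiP_eq_inv_psi, divFun_inv]
      ring
    rw [finsum_congr e, finsum_sub_distrib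
      (hfin _ _ (fun ξ h => (divFun_ne_zero_specializes h).1))
      (hfin _ _ (fun ξ h => (divFun_ne_zero_specializes h).1))]
    ring
  have heq : AlgebraicCycle.map (pullback.snd f i) (fun z => δ' (pullback.fst f i z))
      (fun d => δ (i d)) (γ' + ζc) = γ := by
    ext d
    rw [map_apply', hγ d, ← push_hfun_sum f hX' hX hδ L WL eL hz hgen α'
      (Cyc.gysinChoice L s w) hgc (i d)]
    have hbij : Set.BijOn (pullback.fst f i) ((pullback.snd f i) ⁻¹' {d}) (f ⁻¹' {i d}) := by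
      refine ⟨?_, (pullback.fst f i).isClosedEmbedding.injective.injOn, ?_⟩
      · intro z hz'
        change f (pullback.fst f i z) = i d
        rw [pullback_cond_apply f i z, show pullback.snd f i z = d from hz']
      · intro x' hx'
        have hr : x' ∈ Set.range (pullback.fst f i) := by
          rw [Scheme.Pullback.range_fst]
          exact ⟨d, (show f x' = i d from hx').symm⟩
        obtain ⟨z, rfl⟩ := hr
        refine ⟨z, ?_, rfl⟩
        apply i.isClosedEmbedding.injective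
        rw [← pullback_cond_apply f i z]
        exact hx'
    refine finsum_mem_eq_of_bijOn (pullback.fst f i) hbij (fun z hz' => ?_)
    have hfz : f (pullback.fst f i z) = i d := by
      rw [pullback_cond_apply f i z, show pullback.snd f i z = d from hz']
    rw [hγ₂ z, hfz, mapCoeff_eq_of_comm (pullback.fst f i) i f (pullback.snd f i) hcomm δ' δ z]
  rw [heq] at h1855
  exact h1855

end Part3

end Groth.Agent.Lib.R2H1.GysinPush
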