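/-
Base change of zero schemes of sections of invertible modules, and transport of Gysin data along module isomorphisms
(helper1, round 2; for S17569).
Reusable: pullTop f L s (pullback of a global section), germ_top_eq, germ_pullTop_eq, mk_smul_g_eq_zero_iff, thetaC_germ,
isZeroSchemeOf_pullback f i L hL s hs : IsZeroSchemeOf (pullback.fst f i) (f^*L) (pullTop f L s) (ANY morphism f),
stalkEquiv_symm_apply, fibMap_symm_fibMap, fibMap_eq_zero_iff, mk_germ_app, isZeroSchemeOf_of_moduleIso,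
gysinChoice_fibMap, c1CapFun_gysinChoice_moduleIso, main1932_sq (Gysin commutes with proper push, ANY cartesian square).
-/
import Mathlib
import Groth.Prelude
import Groth.Agent.Lib.R2H1PullInv3
import Groth.Agent.Lib.R2H1PullbackKer
import Groth.Agent.Lib.R2H1GysinPush
import Groth.Agent.Lib.R2H1C1Chow
import Groth.Agent.Lib.R2H1IsoTransport

set_option autoImplicit false
set_option linter.style.haveILetI false
set_option linter.unusedSectionVars false
universe u v

namespace Groth.Agent.Lib.R2H1.ZeroBC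

section Part1

open AlgebraicGeometry CategoryTheory TopologicalSpace IsLocalRing Opposite CategoryTheory.Limits
  Groth.Agent.Lib.R2H1.C1Comm Groth.Agent.Lib.R2H1.C1Rel Groth.Agent.Lib.R2H1.C1Tensor
  Groth.Agent.Lib.Helper23.SecTw Groth.Agent.Lib.Helper6
  Groth.Agent.Lib.R2H1.PullInv Groth.Agent.Lib.R2H1.PullInv3 Groth.Agent.Helper13PullbackUnit
  Groth.Agent.Lib.R2H1.PullbackKer

variable {X X' D : Scheme.{u}}

/-- the pullback of a global section. -/
noncomputable def pullTop (f : X' ⟶ X) (L : X.Modules) (σ : L.presheaf.obj (op ⊤)) :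
    ((Scheme.Modules.pullback f).obj L).presheaf.obj (op ⊤) :=
  unitSec f L (le_refl (f ⁻¹ᵁ ⊤)) σ

/-- the germ of a global section in terms of a local generator. -/
theorem germ_top_eq (L : X.Modules) (σ : L.presheaf.obj (op ⊤)) (W : X.Opens) (e : Γ(L, W))
    (he : IsGen L W e) (a : Γ(X, W)) (ha : a • e = res L (le_top : W ≤ ⊤) σ) (y : X)
    (hy : y ∈ W) :
    L.presheaf.germ ⊤ y trivial σ =
      X.presheaf.germ W y hy a • (genOfIsGen L W e he).g y hy := by
  have h1 : L.presheaf.germ ⊤ y trivial σ = L.presheaf.germ W y hy (res L (le_top : W ≤ ⊤) σ) :=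
    (TopCat.Presheaf.germ_res_apply L.presheaf (homOfLE (le_top : W ≤ ⊤)) y hy σ).symm
  rw [h1, ← ha, Groth.Agent.Lib.Helper2.QCoh.germ_smul]
  rfl

/-- the germ of the pulled back global section in terms of the pulled back generator. -/
theorem germ_pullTop_eq (f : X' ⟶ X) (L : X.Modules) [L.IsQuasicoherent]
    (σ : L.presheaf.obj (op ⊤)) (W : X.Opens) (e : Γ(L, W))
    (he : IsGen L W e) (a : Γ(X, W)) (ha : a • e = res L (le_top : W ≤ ⊤) σ) (x' : X')
    (hx' : f x' ∈ W) :
    ((Scheme.Modules.pullback f).obj L).presheaf.germ ⊤ x' trivial (pullTop f L σ) =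
      X'.presheaf.germ (f ⁻¹ᵁ W) x' hx' (f.app W a) • (pullGen f L W e he).g x' hx' := by
  have hle : f ⁻¹ᵁ W ≤ f ⁻¹ᵁ ⊤ := f.preimage_mono le_top
  have h1 : ((Scheme.Modules.pullback f).obj L).presheaf.germ ⊤ x' trivial (pullTop f L σ) =
      ((Scheme.Modules.pullback f).obj L).presheaf.germ (f ⁻¹ᵁ W) x' hx'
        (res ((Scheme.Modules.pullback f).obj L) hle (pullTop f L σ)) :=
    (TopCat.Presheaf.germ_res_apply ((Scheme.Modules.pullback f).obj L).presheaf
      (homOfLE hle) x' hx' (pullTop f L σ)).symm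
  have h2 : res ((Scheme.Modules.pullback f).obj L) hle (pullTop f L σ) =
      (f.app W a) • pullSec f L W e := by
    unfold pullTop pullSec
    rw [Groth.Agent.Lib.Helper23.PB.res_unitSec f L (le_refl (f ⁻¹ᵁ ⊤))
      (le_refl (f ⁻¹ᵁ W)) le_top hle σ, ← ha, unitSec_smul, Scheme.Hom.appLE_eq_app]
  rw [h1, h2, Groth.Agent.Lib.Helper2.QCoh.germ_smul]
  rfl

end Part1

section Part2

open AlgebraicGeometry CategoryTheory TopologicalSpace IsLocalRing Opposite CategoryTheory.Limits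
  Groth.Agent.Lib.R2H1.C1Comm Groth.Agent.Lib.R2H1.C1Rel Groth.Agent.Lib.R2H1.C1Tensor
  Groth.Agent.Lib.Helper23.SecTw Groth.Agent.Lib.Helper6
  Groth.Agent.Lib.R2H1.PullInv Groth.Agent.Lib.R2H1.PullInv3 Groth.Agent.Helper13PullbackUnit
  Groth.Agent.Lib.R2H1.PullbackKer

variable {X X' D : Scheme.{u}}

/-- vanishing in the fibre of a multiple of a free generator. -/
theorem mk_smul_g_eq_zero_iff {M : X.Modules} (G : Gen M) (y : X) (hy : y ∈ G.W)
    (c : X.presheaf.stalk y) :
    (Submodule.Quotient.mk (c • G.g y hy) : Cyc.secFibre M y) = 0 ↔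
      c ∈ maximalIdeal (X.presheaf.stalk y) := by
  constructor
  · intro h
    rw [Submodule.Quotient.mk_smul] at h
    have := Groth.Agent.Lib.R2H1.LocQuot.residue_eq_zero_of_smul_mk_eq_zero M y (G.g y hy)
      (G.g_bij y hy) c h
    exact (IsLocalRing.residue_eq_zero_iff _).mp this
  · intro h
    rw [Submodule.Quotient.mk_eq_zero]
    exact Submodule.smul_mem_smul h trivial

theorem thetaC_germ (f : X' ⟶ X) (i : D ⟶ X) (z : ↥(pullback f i)) (U : X.Opens)
    (hU : i (pullback.snd f i z) ∈ U) (hU' : f (pullback.fst f i z) ∈ U) (r : Γ(X, U)) :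
    (thetaC f i z).hom (X.presheaf.germ U _ hU r) =
      X'.presheaf.germ (f ⁻¹ᵁ U) (pullback.fst f i z) hU' (f.app U r) := by
  have e1 : (thetaC f i z).hom (X.presheaf.germ U _ hU r) =
      (f.stalkMap (pullback.fst f i z)).hom (X.presheaf.germ U _ hU' r) := by
    unfold thetaC
    rw [CommRingCat.comp_apply]
    congr 1
    exact ConcreteCategory.congr_hom (TopCat.Presheaf.germ_stalkSpecializes X.presheaf hU
      (specializes_of_eq (pullback_cond_apply f i z))) r
  rw [e1]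
  exact Scheme.Hom.germ_stalkMap_apply f U (pullback.fst f i z) hU' r

/-- **Base change of zero schemes**: the base change of the zero scheme of a section of an
invertible module is the zero scheme of the pulled back section. -/
theorem isZeroSchemeOf_pullback (f : X' ⟶ X) (i : D ⟶ X) [IsClosedImmersion i] (L : X.Modules)
    (hL : PicF.IsInvertible L) (σ : L.presheaf.obj (op ⊤)) (hσ : Cyc.IsZeroSchemeOf i L σ) :
    Cyc.IsZeroSchemeOf (pullback.fst f i) ((Scheme.Modules.pullback f).obj L) (pullTop f L σ) := by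
  haveI : L.IsQuasicoherent := isQuasicoherent_of_isInvertible L hL
  -- local data near a point of `X`
  have hloc : ∀ y : X, ∃ (W : X.Opens) (e : Γ(L, W)) (_ : IsGen L W e) (a : Γ(X, W)),
      y ∈ W ∧ a • e = res L (le_top : W ≤ ⊤) σ := by
    intro y
    obtain ⟨W, e, hyW, he⟩ := Groth.Agent.Lib.Helper23.SecTw.exists_gen L hL y
    obtain ⟨a, ha⟩ := (he W le_rfl).2 (res L (le_top : W ≤ ⊤) σ)
    refine ⟨W, e, he, a, hyW, ?_⟩
    simp only [] at ha
    rw [← ha, res_self]
  refine ⟨?_, ?_⟩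
  · rw [Scheme.Pullback.range_fst]
    ext x'
    obtain ⟨W, e, he, a, hyW, ha⟩ := hloc (f x')
    rw [Set.mem_preimage, hσ.1, Set.mem_setOf_eq, Set.mem_setOf_eq,
      germ_top_eq L σ W e he a ha (f x') hyW, germ_pullTop_eq f L σ W e he a ha x' hyW,
      mk_smul_g_eq_zero_iff, mk_smul_g_eq_zero_iff,
      ← Scheme.Hom.germ_stalkMap_apply f W x' hyW a]
    rw [IsLocalRing.mem_maximalIdeal, IsLocalRing.mem_maximalIdeal, mem_nonunits_iff,
      mem_nonunits_iff, not_iff_not]
    exact (isUnit_map_iff (f.stalkMap x').hom _).symm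
  · intro z
    obtain ⟨t, φ, ht, hs, hker⟩ := hσ.2 (pullback.snd f i z)
    obtain ⟨W, e, he, a, hyW, ha⟩ := hloc (i (pullback.snd f i z))
    have hyW' : f (pullback.fst f i z) ∈ W := by rw [pullback_cond_apply]; exact hyW
    set G := genOfIsGen L W e he with hG
    set G' := pullGen f L W e he with hG'
    refine ⟨G'.g (pullback.fst f i z) hyW',
      X'.presheaf.germ (f ⁻¹ᵁ W) (pullback.fst f i z) hyW' (f.app W a), ?_, ?_, ?_⟩
    · rw [eq_top_iff]
      intro m _
      obtain ⟨c, hc⟩ := (G'.g_bij (pullback.fst f i z) hyW').2 m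
      exact Submodule.mem_span_singleton.2 ⟨c, hc⟩
    · exact germ_pullTop_eq f L σ W e he a ha (pullback.fst f i z) hyW'
    · obtain ⟨u, hu, htu⟩ := exists_unit_smul_of_span_eq_top G (i (pullback.snd f i z)) hyW t ht
      have h1 := germ_top_eq L σ W e he a ha (i (pullback.snd f i z)) hyW
      have h2 : X.presheaf.germ W (i (pullback.snd f i z)) hyW a = φ * u := by
        apply (G.g_bij (i (pullback.snd f i z)) hyW).1
        change X.presheaf.germ W (i (pullback.snd f i z)) hyW a • G.g _ hyW =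
          (φ * u) • G.g _ hyW
        rw [← h1, hs, htu, mul_smul]
      have hspan : Ideal.span {X.presheaf.germ W (i (pullback.snd f i z)) hyW a} =
          Ideal.span {φ} := by
        rw [h2, Ideal.span_singleton_mul_right_unit hu φ]
      rw [ker_fst_stalkMap, hker, ← hspan, Ideal.map_span, Set.image_singleton,
        thetaC_germ f i z W hyW hyW' a]

end Part2

section Part3

open AlgebraicGeometry CategoryTheory TopologicalSpace IsLocalRing Opposite CategoryTheory.Limits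
  Groth.Agent.Lib.R2H1.C1Comm Groth.Agent.Lib.R2H1.C1Chow Groth.Agent.Lib.R2H1.IsoTransport

variable {X : Scheme.{u}} {M N : X.Modules}

theorem stalkEquiv_symm_apply (Φ : M ≅ N) (x : X) (m : M.presheaf.stalk x) :
    stalkEquiv Φ.symm x (stalkEquiv Φ x m) = m :=
  (stalkEquiv Φ x).symm_apply_apply m

theorem fibMap_symm_fibMap (Φ : M ≅ N) (x : X) (σ : Cyc.secFibre M x) :
    fibMap Φ.symm x (fibMap Φ x σ) = σ := by
  obtain ⟨m, rfl⟩ := Submodule.Quotient.mk_surjective _ σ
  rw [fibMap_mk, fibMap_mk, stalkEquiv_symm_apply]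

theorem fibMap_eq_zero_iff (Φ : M ≅ N) (x : X) (σ : Cyc.secFibre M x) :
    fibMap Φ x σ = 0 ↔ σ = 0 := by
  constructor
  · intro h
    rw [← fibMap_symm_fibMap Φ x σ, h, map_zero]
  · rintro rfl
    exact map_zero _

theorem mk_germ_app (Φ : M ≅ N) (τ : M.presheaf.obj (op ⊤)) (x : X) :
    (Submodule.Quotient.mk (N.presheaf.germ ⊤ x trivial (Scheme.Modules.Hom.app Φ.hom ⊤ τ)) :
      Cyc.secFibre N x) = fibMap Φ x (Submodule.Quotient.mk (M.presheaf.germ ⊤ x trivial τ)) := by
  rw [fibMap_mk, stalkEquiv_germ]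

/-- the zero scheme property is transported along isomorphisms of modules. -/
theorem isZeroSchemeOf_of_moduleIso {D : Scheme.{u}} (i : D ⟶ X) (Φ : M ≅ N)
    (τ : M.presheaf.obj (op ⊤)) (h : Cyc.IsZeroSchemeOf i M τ) :
    Cyc.IsZeroSchemeOf i N (Scheme.Modules.Hom.app Φ.hom ⊤ τ) := by
  refine ⟨?_, ?_⟩
  · rw [h.1]
    ext x
    rw [Set.mem_setOf_eq, Set.mem_setOf_eq, mk_germ_app, fibMap_eq_zero_iff]
  · intro d
    obtain ⟨t, f, ht, hs, hker⟩ := h.2 d
    refine ⟨stalkEquiv Φ (i d) t, f, ?_, ?_, hker⟩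
    · rw [eq_top_iff]
      intro n _
      have hm : (stalkEquiv Φ (i d)).symm n ∈ Submodule.span (X.presheaf.stalk (i d)) {t} := by
        rw [ht]; trivial
      obtain ⟨c, hc⟩ := Submodule.mem_span_singleton.1 hm
      refine Submodule.mem_span_singleton.2 ⟨c, ?_⟩
      rw [← map_smul, hc, LinearEquiv.apply_symm_apply]
    · rw [← stalkEquiv_germ, hs, map_smul]

/-- the Gysin choice of rational sections is transported along isomorphisms of modules. -/
theorem gysinChoice_fibMap (Φ : M ≅ N) (τ : M.presheaf.obj (op ⊤))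
    (w : (ξ : X) → Cyc.secFibre M ξ) (ξ : X) :
    Cyc.gysinChoice N (Scheme.Modules.Hom.app Φ.hom ⊤ τ) (fun ξ => fibMap Φ ξ (w ξ)) ξ =
      fibMap Φ ξ (Cyc.gysinChoice M τ w ξ) := by
  unfold Cyc.gysinChoice
  rw [mk_germ_app]
  by_cases h0 : (Submodule.Quotient.mk (M.presheaf.germ ⊤ ξ trivial τ) : Cyc.secFibre M ξ) = 0
  · have h1 : fibMap Φ ξ (Submodule.Quotient.mk (M.presheaf.germ ⊤ ξ trivial τ)) = 0 :=
      (fibMap_eq_zero_iff Φ ξ _).2 h0
    rw [if_neg (not_not.2 h1), if_neg (not_not.2 h0)]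
  · have h1 : fibMap Φ ξ (Submodule.Quotient.mk (M.presheaf.germ ⊤ ξ trivial τ)) ≠ 0 :=
      fun h => h0 ((fibMap_eq_zero_iff Φ ξ _).1 h)
    rw [if_pos h1, if_pos h0]

theorem c1CapFun_gysinChoice_moduleIso [IsLocallyNoetherian X] {δ : X → ℤ}
    (hδ : Cyc.IsDimFun X δ) (Φ : M ≅ N) (hM : PicF.IsInvertible M) (τ : M.presheaf.obj (op ⊤))
    (w : (ξ : X) → Cyc.secFibre M ξ) (α : X → ℤ) :
    Cyc.c1CapFun δ N α
      (Cyc.gysinChoice N (Scheme.Modules.Hom.app Φ.hom ⊤ τ) (fun ξ => fibMap Φ ξ (w ξ))) =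
      Cyc.c1CapFun δ M α (Cyc.gysinChoice M τ w) := by
  rw [← c1CapFun_fibMap hδ Φ hM α (Cyc.gysinChoice M τ w)]
  congr 1
  funext ξ
  exact gysinChoice_fibMap Φ τ w ξ

end Part3

section Part4

open AlgebraicGeometry CategoryTheory TopologicalSpace IsLocalRing Opposite CategoryTheory.Limits
  Groth.Agent.Lib.R2H1.IsoTransport

/-- Gysin maps commute with proper pushforward, for any cartesian square. -/
theorem main1932_sq (X X' D D' : Scheme.{u}) (δ : X → ℤ) (δ' : X' → ℤ) (hX : Cyc.IsSetup X δ)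
    (hX' : Cyc.IsSetup X' δ') (f : X' ⟶ X) [IsProper f] (hδ : Cyc.DeltaCompat f δ' δ)
    (L : X.Modules) (hL : PicF.IsInvertible L) (s : L.presheaf.obj (Opposite.op ⊤)) (i : D ⟶ X)
    [IsClosedImmersion i] (hD : Cyc.IsZeroSchemeOf i L s) (j : D' ⟶ X') [IsClosedImmersion j]
    (f'' : D' ⟶ D) [QuasiCompact f''] (hsq : IsPullback j f'' f i)
    (s' : ((Scheme.Modules.pullback f).obj L).presheaf.obj (Opposite.op ⊤))
    (hD' : Cyc.IsZeroSchemeOf j ((Scheme.Modules.pullback f).obj L) s') (k : ℤ)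
    (α' : AlgebraicCycle X' ℤ) (hα' : α' ∈ Cyc.Zk X' δ' (k + 1))
    (w : (ξ : X) → Cyc.secFibre L ξ) (hw : ∀ ξ, w ξ ≠ 0)
    (w' : (ξ : X') → Cyc.secFibre ((Scheme.Modules.pullback f).obj L) ξ) (hw' : ∀ ξ, w' ξ ≠ 0)
    (γ : AlgebraicCycle D ℤ)
    (hγ : ∀ d, γ d = Cyc.c1CapFun δ L ⇑(AlgebraicCycle.map f δ' δ α') (Cyc.gysinChoice L s w) (i d))
    (γ' : AlgebraicCycle D' ℤ)
    (hγ' : ∀ z, γ' z = Cyc.c1CapFun δ' ((Scheme.Modules.pullback f).obj L) ⇑α'
      (Cyc.gysinChoice ((Scheme.Modules.pullback f).obj L) s' w') (j z)) :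
    Cyc.RatEquiv (fun d => δ (i d)) k γ
      (AlgebraicCycle.map f'' (fun z => δ' (j z)) (fun d => δ (i d)) γ') := by
  obtain ⟨e, he1, he2⟩ : ∃ e : D' ≅ pullback f i, e.hom ≫ pullback.fst f i = j ∧
      e.hom ≫ pullback.snd f i = f'' :=
    ⟨hsq.isoPullback, hsq.isoPullback_hom_fst, hsq.isoPullback_hom_snd⟩
  clear hsq
  subst he1 he2
  have hDQ := isZeroSchemeOf_of_comp_iso e (pullback.fst f i) _ s' hD'
  obtain ⟨γ'', hγ''⟩ := exists_isoCycle e γ'
  have hQ := Groth.Agent.Lib.R2H1.GysinPush.main X X' D δ δ' hX hX' f hδ L hL s i hD s' hDQ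
    k α' hα' w hw w' hw' γ hγ γ''
    (fun z => by
      rw [hγ'', hγ']
      rw [show (e.hom ≫ pullback.fst f i) (e.inv z) = pullback.fst f i z from by
        change pullback.fst f i (e.hom (e.inv z)) = _; rw [iso_inv_hom_apply]])
  rw [map_comp_iso e (pullback.snd f i) (fun z => δ' ((e.hom ≫ pullback.fst f i) z))
    (fun d => δ (i d)) γ' γ'' hγ'']
  have : (fun b => (fun z => δ' ((e.hom ≫ pullback.fst f i) z)) (e.inv b)) =
      fun z => δ' (pullback.fst f i z) := by
    funext b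
    change δ' (pullback.fst f i (e.hom (e.inv b))) = _
    rw [iso_inv_hom_apply]
  rw [this]
  exact hQ

end Part4

end Groth.Agent.Lib.R2H1.ZeroBC
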