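/-
The Gysin bivariant class of the zero scheme of a section of an invertible module (S17568; helper1, round 2).
Reusable: hasRelDim_id, pullFun_id, gysin_indep (the Gysin pullback of a cycle is independent of the section cutting out the
zero scheme and of the fallback sections, up to rational equivalence ON the zero scheme), exists_gys, gysCyc, gysZk,
gysCH dS hS i dD hdD N hN t ht k : CH_k S ->+ CH_{k-1} D (Gysin map on Chow groups), gysCH_cl, main1931_sq (Gysin maps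
commute, ANY fibre product), ci_f', deq, hts (base change of the zero scheme along a Sq), opG, opG_cl, exists_opG_rep,
sqY_compat, opG_push, opG_pull, opG_gysin, gysCl, gysCl_isGysinClass.
-/
import Mathlib
import Groth.Prelude
import Groth.Agent.Lib.R2H1ZeroBC
import Groth.Agent.Lib.R2H1BivarFlat
import Groth.Agent.Lib.R2H1Gysin
import Groth.Agent.Lib.R2H1GysinComm
import Groth.Agent.Lib.R2H1IsoTransport
import Groth.Agent.Lib.R2H1BivarPush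

set_option autoImplicit false
set_option linter.style.haveILetI false
set_option linter.unusedSectionVars false
universe u v

namespace Groth.Agent.Lib.R2H1.BivarGysin

section Part1

open CategoryTheory AlgebraicGeometry CategoryTheory.Limits TopologicalSpace Opposite
open Bivar Groth.Agent.Lib.R2H1.ChowDesc Groth.Agent.Lib.R2H1.MVClosed
  Groth.Agent.Lib.R2H1.IsoTransport Groth.Agent.Lib.R2H1.RelDimBC Groth.Agent.Lib.R2H1.C1Chow
  Groth.Agent.Lib.R2H1.ZeroBC Groth.Agent.Lib.R2H1.FlatPullRat Groth.Agent.Lib.Helper4.DimFormula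

variable {X : Scheme.{u}}

/-- the identity has relative dimension zero. -/
theorem hasRelDim_id : Cyc.HasRelDim (𝟙 X) 0 := by
  intro y T hT
  obtain ⟨x', -, hmax, hdim⟩ := exists_point_of_mem_irreducibleComponents (𝟙 X) y T hT
  rw [hdim]
  have h1 := resTrdeg_eq_ptTrdeg (𝟙 X) x'
  rw [resTrdeg_eq_zero_of_surjective (𝟙 X) x'
    (ConcreteCategory.bijective_of_isIso ((𝟙 X : X ⟶ X).residueFieldMap x')).2] at h1
  have h2 : ptTrdeg (𝟙 X) x' = 0 := by exact_mod_cast h1.symm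
  rw [h2]

theorem pullFun_id (δ : X → ℤ) (a : X → ℤ) : Cyc.pullFun (𝟙 X) δ δ 0 a = a := by
  funext x
  rw [pullFun_eq]
  have h1 : (𝟙 X : X ⟶ X) x = x := rfl
  have h2 : mult (𝟙 X) x = 1 := mult_iso (Iso.refl X) x
  rw [h1, if_pos (by ring), h2]
  simp

end Part1

section Part2

open CategoryTheory AlgebraicGeometry CategoryTheory.Limits TopologicalSpace Opposite
open Bivar Groth.Agent.Lib.R2H1.ChowDesc Groth.Agent.Lib.R2H1.MVClosed
  Groth.Agent.Lib.R2H1.IsoTransport Groth.Agent.Lib.R2H1.RelDimBC Groth.Agent.Lib.R2H1.C1Chow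
  Groth.Agent.Lib.R2H1.ZeroBC Groth.Agent.Lib.R2H1.FlatPullRat

variable {X D : Scheme.{u}}

/-- the Gysin pullback of a cycle does not depend on the section cutting out the zero scheme nor
on the fallback rational sections, up to rational equivalence on the zero scheme. -/
theorem gysin_indep (δ : X → ℤ) (hX : Cyc.IsSetup X δ) (L : X.Modules)
    (hL : PicF.IsInvertible L) (i : D ⟶ X) [IsClosedImmersion i]
    (τ τ' : L.presheaf.obj (op ⊤)) (hτ : Cyc.IsZeroSchemeOf i L τ)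
    (hτ' : Cyc.IsZeroSchemeOf i L τ') (k : ℤ) (α : AlgebraicCycle X ℤ)
    (hα : α ∈ Cyc.Zk X δ (k + 1)) (w w' : (ξ : X) → Cyc.secFibre L ξ) (hw : ∀ ξ, w ξ ≠ 0)
    (hw' : ∀ ξ, w' ξ ≠ 0) (γ γ' : AlgebraicCycle D ℤ)
    (hγ : ∀ d, γ d = Cyc.c1CapFun δ L ⇑α (Cyc.gysinChoice L τ w) (i d))
    (hγ' : ∀ d, γ' d = Cyc.c1CapFun δ L ⇑α (Cyc.gysinChoice L τ' w') (i d)) :
    Cyc.RatEquiv (fun d => δ (i d)) k γ' γ := by
  haveI : IsLocallyNoetherian X := hX.1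
  let Ψ : L ≅ (Scheme.Modules.pullback (𝟙 X)).obj L := ((Scheme.Modules.pullbackId X).app L).symm
  have hD' := isZeroSchemeOf_of_moduleIso i Ψ τ' hτ'
  have hsq : IsPullback i (𝟙 D) (𝟙 X) i := IsPullback.of_vert_isIso ⟨by simp⟩
  have key := main1933_sq X X D D δ δ hX hX (𝟙 X) 0 hasRelDim_id (deltaCompat_id δ) L hL τ i hτ i
    (𝟙 D) hsq _ hD' k α hα w hw (fun ξ => fibMap Ψ ξ (w' ξ))
    (fun ξ => fibMap_ne_zero Ψ hL ξ _ (hw' ξ)) γ' γ
    (fun z => by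
      rw [hγ' z, Nat.cast_zero, pullFun_id, c1CapFun_gysinChoice_moduleIso hX.2.2 Ψ hL])
    (by
      rw [Nat.cast_zero, pullFun_id]
      exact funext hγ)
  rw [Nat.cast_zero, add_zero] at key
  exact key

end Part2

section Part3

open CategoryTheory AlgebraicGeometry CategoryTheory.Limits TopologicalSpace Opposite
open Bivar Groth.Agent.Lib.R2H1.ChowDesc Groth.Agent.Lib.R2H1.MVClosed
  Groth.Agent.Lib.R2H1.IsoTransport Groth.Agent.Lib.R2H1.RelDimBC Groth.Agent.Lib.R2H1.C1Chow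
  Groth.Agent.Lib.R2H1.ZeroBC Groth.Agent.Lib.R2H1.FlatPullRat Groth.Agent.Lib.R2H1.GysinComm

variable {S D : Scheme.{u}}

/-- the Gysin pullback of a cycle, as a cycle on the zero scheme. -/
theorem exists_gys (δS : S → ℤ) (hS : Cyc.IsSetup S δS) (i : D ⟶ S) [IsClosedImmersion i]
    (δD : D → ℤ) (hδD : δD = fun d => δS (i d)) (N : S.Modules) (hN : PicF.IsInvertible N)
    (τ : N.presheaf.obj (op ⊤)) (hτ : Cyc.IsZeroSchemeOf i N τ) (k : ℤ)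
    (α : AlgebraicCycle S ℤ) (hα : α ∈ Cyc.Zk S δS k) (w : (ξ : S) → Cyc.secFibre N ξ)
    (hw : ∀ ξ, w ξ ≠ 0) :
    ∃ γ : AlgebraicCycle D ℤ,
      (∀ d, γ d = Cyc.c1CapFun δS N ⇑α (Cyc.gysinChoice N τ w) (i d)) ∧
        γ ∈ Cyc.Zk D δD (k - 1) := by
  obtain ⟨-, hlf, hdim⟩ := c1CapFun_gysin_props i δS hS N hN τ hτ k α hα w hw
  obtain ⟨ζ, hζ⟩ := exists_restrict_cycle i i.isClosedEmbedding.injective _ hlf
  refine ⟨ζ, hζ, ?_⟩
  intro d hd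
  rw [hζ]
  by_contra hne
  apply hd
  have := hdim (i d) hne
  rw [hδD]
  change δS (i d) = k - 1
  omega

/-- the chosen Gysin pullback. -/
noncomputable def gysCyc (δS : S → ℤ) (hS : Cyc.IsSetup S δS) (i : D ⟶ S) [IsClosedImmersion i]
    (δD : D → ℤ) (hδD : δD = fun d => δS (i d)) (N : S.Modules) (hN : PicF.IsInvertible N)
    (τ : N.presheaf.obj (op ⊤)) (hτ : Cyc.IsZeroSchemeOf i N τ) (k : ℤ)
    (a : ↥(ChowOps.zk S δS k)) : ↥(ChowOps.zk D δD (k - 1)) :=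
  ⟨Classical.choose (exists_gys δS hS i δD hδD N hN τ hτ k a.1 a.2 (v₀ N hN) (v₀_ne N hN)),
    (Classical.choose_spec
      (exists_gys δS hS i δD hδD N hN τ hτ k a.1 a.2 (v₀ N hN) (v₀_ne N hN))).2⟩

theorem gysCyc_coe (δS : S → ℤ) (hS : Cyc.IsSetup S δS) (i : D ⟶ S) [IsClosedImmersion i]
    (δD : D → ℤ) (hδD : δD = fun d => δS (i d)) (N : S.Modules) (hN : PicF.IsInvertible N)
    (τ : N.presheaf.obj (op ⊤)) (hτ : Cyc.IsZeroSchemeOf i N τ) (k : ℤ)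
    (a : ↥(ChowOps.zk S δS k)) (d : D) :
    (gysCyc δS hS i δD hδD N hN τ hτ k a).1 d =
      Cyc.c1CapFun δS N ⇑a.1 (Cyc.gysinChoice N τ (v₀ N hN)) (i d) :=
  (Classical.choose_spec
    (exists_gys δS hS i δD hδD N hN τ hτ k a.1 a.2 (v₀ N hN) (v₀_ne N hN))).1 d

noncomputable def gysZk (δS : S → ℤ) (hS : Cyc.IsSetup S δS) (i : D ⟶ S) [IsClosedImmersion i]
    (δD : D → ℤ) (hδD : δD = fun d => δS (i d)) (N : S.Modules) (hN : PicF.IsInvertible N)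
    (τ : N.presheaf.obj (op ⊤)) (hτ : Cyc.IsZeroSchemeOf i N τ) (k : ℤ) :
    ↥(ChowOps.zk S δS k) →+ ↥(ChowOps.zk D δD (k - 1)) where
  toFun := gysCyc δS hS i δD hδD N hN τ hτ k
  map_zero' := by
    apply Subtype.ext
    ext d
    rw [gysCyc_coe]
    change Cyc.c1CapFun δS N ⇑(0 : AlgebraicCycle S ℤ) _ (i d) = (0 : AlgebraicCycle D ℤ) d
    rw [Function.locallyFinsuppWithin.coe_zero, Bivar.c1CapFun_zero]
    rfl
  map_add' a b := by
    apply Subtype.ext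
    ext d
    rw [gysCyc_coe]
    change Cyc.c1CapFun δS N ⇑(a.1 + b.1) _ (i d) =
      ((gysCyc δS hS i δD hδD N hN τ hτ k a).1 + (gysCyc δS hS i δD hδD N hN τ hτ k b).1) d
    rw [Function.locallyFinsuppWithin.coe_add, Bivar.c1CapFun_add,
      Function.locallyFinsuppWithin.coe_add, Pi.add_apply, Pi.add_apply, gysCyc_coe, gysCyc_coe]

theorem gysZk_mem_ratTriv (δS : S → ℤ) (hS : Cyc.IsSetup S δS) (i : D ⟶ S)
    [IsClosedImmersion i]
    (δD : D → ℤ) (hδD : δD = fun d => δS (i d)) (N : S.Modules) (hN : PicF.IsInvertible N)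
    (τ : N.presheaf.obj (op ⊤)) (hτ : Cyc.IsZeroSchemeOf i N τ) (k : ℤ) :
    ChowOps.ratTriv S δS k ≤
      ((ChowOps.clHom D δD (k - 1)).comp (gysZk δS hS i δD hδD N hN τ hτ k)).ker := by
  unfold ChowOps.ratTriv
  rw [AddSubgroup.closure_le]
  intro a ha
  change Cyc.RatEquivZero δS k (a : AlgebraicCycle S ℤ) at ha
  rw [SetLike.mem_coe, AddMonoidHom.mem_ker]
  change ChowOps.clHom D δD (k - 1) (gysZk δS hS i δD hδD N hN τ hτ k a) = 0
  unfold ChowOps.clHom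
  rw [QuotientAddGroup.mk'_apply, QuotientAddGroup.eq_zero_iff]
  apply AddSubgroup.subset_closure
  change Cyc.RatEquivZero δD (k - 1) (gysCyc δS hS i δD hδD N hN τ hτ k a).1
  have ha' : Cyc.RatEquivZero δS (k - 1 + 1) (a : AlgebraicCycle S ℤ) := by
    rw [sub_add_cancel]; exact ha
  have := Groth.Agent.Lib.R2H1.Gysin.main1929 S D δS hS N hN τ i hτ (k - 1) a.1 ha' (v₀ N hN)
    (v₀_ne N hN) _ (gysCyc_coe δS hS i δD hδD N hN τ hτ k a)
  subst hδD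
  exact this

/-- the Gysin map on Chow groups. -/
noncomputable def gysCH (δS : S → ℤ) (hS : Cyc.IsSetup S δS) (i : D ⟶ S) [IsClosedImmersion i]
    (δD : D → ℤ) (hδD : δD = fun d => δS (i d)) (N : S.Modules) (hN : PicF.IsInvertible N)
    (τ : N.presheaf.obj (op ⊤)) (hτ : Cyc.IsZeroSchemeOf i N τ) (k : ℤ) :
    ChowOps.CH S δS k →+ ChowOps.CH D δD (k - 1) :=
  QuotientAddGroup.lift (ChowOps.ratTriv S δS k)
    ((ChowOps.clHom D δD (k - 1)).comp (gysZk δS hS i δD hδD N hN τ hτ k))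
    (gysZk_mem_ratTriv δS hS i δD hδD N hN τ hτ k)

/-- the Gysin map on the class of a cycle, computed with any section cutting out the zero scheme
and any fallback. -/
theorem gysCH_cl (δS : S → ℤ) (hS : Cyc.IsSetup S δS) (i : D ⟶ S) [IsClosedImmersion i]
    (δD : D → ℤ) (hδD : δD = fun d => δS (i d)) (N : S.Modules) (hN : PicF.IsInvertible N)
    (τ : N.presheaf.obj (op ⊤)) (hτ : Cyc.IsZeroSchemeOf i N τ) (k : ℤ)
    (α : AlgebraicCycle S ℤ) (hα : α ∈ Cyc.Zk S δS k)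
    (τ' : N.presheaf.obj (op ⊤)) (hτ' : Cyc.IsZeroSchemeOf i N τ')
    (w : (ξ : S) → Cyc.secFibre N ξ) (hw : ∀ ξ, w ξ ≠ 0) (γ : AlgebraicCycle D ℤ)
    (hγc : ∀ d, γ d = Cyc.c1CapFun δS N ⇑α (Cyc.gysinChoice N τ' w) (i d))
    (hγ : γ ∈ Cyc.Zk D δD (k - 1)) :
    gysCH δS hS i δD hδD N hN τ hτ k (ChowOps.cl α hα) = ChowOps.cl γ hγ := by
  change ChowOps.cl (gysCyc δS hS i δD hδD N hN τ hτ k ⟨α, hα⟩).1
    (gysCyc δS hS i δD hδD N hN τ hτ k ⟨α, hα⟩).2 = _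
  apply cl_eq_of_ratEquiv
  have hα' : α ∈ Cyc.Zk S δS (k - 1 + 1) := by rw [sub_add_cancel]; exact hα
  have := gysin_indep δS hS N hN i τ' τ hτ' hτ (k - 1) α hα' w (v₀ N hN) hw (v₀_ne N hN) γ _ hγc
    (gysCyc_coe δS hS i δD hδD N hN τ hτ k ⟨α, hα⟩)
  subst hδD
  exact this

end Part3

section Part4

open CategoryTheory AlgebraicGeometry CategoryTheory.Limits TopologicalSpace Opposite
open Groth.Agent.Lib.R2H1.IsoTransport Groth.Agent.Lib.R2H1.PullInv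

/-- Gysin maps commute, for any fibre product of the two zero schemes. -/
theorem main1931_sq (X D D' P : Scheme.{u}) (δ : X → ℤ) (hX : Cyc.IsSetup X δ) (L L' : X.Modules)
    (hL : PicF.IsInvertible L) (hL' : PicF.IsInvertible L')
    (s : L.presheaf.obj (Opposite.op ⊤)) (s' : L'.presheaf.obj (Opposite.op ⊤)) (i : D ⟶ X)
    (i' : D' ⟶ X) [IsClosedImmersion i] [IsClosedImmersion i'] (hD : Cyc.IsZeroSchemeOf i L s)
    (hD' : Cyc.IsZeroSchemeOf i' L' s') (p₁ : P ⟶ D) (p₂ : P ⟶ D') (hsq : IsPullback p₁ p₂ i i')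
    (σ' : ((Scheme.Modules.pullback i).obj L').presheaf.obj (Opposite.op ⊤))
    (hσ' : Cyc.IsZeroSchemeOf p₁ ((Scheme.Modules.pullback i).obj L') σ')
    (σ : ((Scheme.Modules.pullback i').obj L).presheaf.obj (Opposite.op ⊤))
    (hσ : Cyc.IsZeroSchemeOf p₂ ((Scheme.Modules.pullback i').obj L) σ) (k : ℤ)
    (α : AlgebraicCycle X ℤ) (hα : α ∈ Cyc.Zk X δ k) (w : (ξ : X) → Cyc.secFibre L ξ)
    (hw : ∀ ξ, w ξ ≠ 0) (w' : (ξ : X) → Cyc.secFibre L' ξ) (hw' : ∀ ξ, w' ξ ≠ 0)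
    (w₁ : (d : D) → Cyc.secFibre ((Scheme.Modules.pullback i).obj L') d) (hw₁ : ∀ d, w₁ d ≠ 0)
    (w₂ : (d : D') → Cyc.secFibre ((Scheme.Modules.pullback i').obj L) d) (hw₂ : ∀ d, w₂ d ≠ 0)
    (γ : D → ℤ) (hγ : γ = fun d => Cyc.c1CapFun δ L ⇑α (Cyc.gysinChoice L s w) (i d))
    (γ' : D' → ℤ) (hγ' : γ' = fun d => Cyc.c1CapFun δ L' ⇑α (Cyc.gysinChoice L' s' w') (i' d))
    (ζ₁ ζ₂ : AlgebraicCycle P ℤ)
    (h₁ : ∀ z, ζ₁ z = Cyc.c1CapFun (fun d => δ (i d)) ((Scheme.Modules.pullback i).obj L') γ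
      (Cyc.gysinChoice ((Scheme.Modules.pullback i).obj L') σ' w₁) (p₁ z))
    (h₂ : ∀ z, ζ₂ z = Cyc.c1CapFun (fun d => δ (i' d)) ((Scheme.Modules.pullback i').obj L) γ'
      (Cyc.gysinChoice ((Scheme.Modules.pullback i').obj L) σ w₂) (p₂ z)) :
    Cyc.RatEquiv (fun z => δ (i (p₁ z))) (k - 2) ζ₁ ζ₂ := by
  obtain ⟨e, he1, he2⟩ : ∃ e : P ≅ pullback i i', e.hom ≫ pullback.fst i i' = p₁ ∧
      e.hom ≫ pullback.snd i i' = p₂ :=
    ⟨hsq.isoPullback, hsq.isoPullback_hom_fst, hsq.isoPullback_hom_snd⟩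
  clear hsq
  subst he1 he2
  have hσ'Q := isZeroSchemeOf_of_comp_iso e (pullback.fst i i') _ σ' hσ'
  have hσQ := isZeroSchemeOf_of_comp_iso e (pullback.snd i i') _ σ hσ
  obtain ⟨ζ₁', hζ₁'⟩ := exists_isoCycle e ζ₁
  obtain ⟨ζ₂', hζ₂'⟩ := exists_isoCycle e ζ₂
  have hQ := Groth.Agent.Lib.R2H1.GysinComm.main1931 X D D' δ hX L L' hL hL' s s' i i' hD hD'
    σ' hσ'Q σ hσQ k α hα w hw w' hw' w₁ hw₁ w₂ hw₂ γ hγ γ' hγ' ζ₁' ζ₂'
    (fun z => by
      rw [hζ₁', h₁]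
      rw [show (e.hom ≫ pullback.fst i i') (e.inv z) = pullback.fst i i' z from by
        change pullback.fst i i' (e.hom (e.inv z)) = _; rw [iso_inv_hom_apply]])
    (fun z => by
      rw [hζ₂', h₂]
      rw [show (e.hom ≫ pullback.snd i i') (e.inv z) = pullback.snd i i' z from by
        change pullback.snd i i' (e.hom (e.inv z)) = _; rw [iso_inv_hom_apply]])
  have hDs := isSetup_of_closedImmersion i hX
  exact ratEquiv_of_iso e (fun z => δ (i (pullback.fst i i' z)))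
    (isSetup_of_closedImmersion (pullback.fst i i') hDs)
    (isSetup_of_closedImmersion (e.hom ≫ pullback.fst i i') hDs)
    (k - 2) ζ₁ ζ₂ ζ₁' ζ₂'
    (fun a => by rw [hζ₁', iso_hom_inv_apply]) (fun a => by rw [hζ₂', iso_hom_inv_apply]) hQ

end Part4

section Part5

open CategoryTheory AlgebraicGeometry CategoryTheory.Limits TopologicalSpace Opposite
open Bivar Groth.Agent.Lib.R2H1.ChowDesc Groth.Agent.Lib.R2H1.MVClosed
  Groth.Agent.Lib.R2H1.IsoTransport Groth.Agent.Lib.R2H1.RelDimBC Groth.Agent.Lib.R2H1.C1Chow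
  Groth.Agent.Lib.R2H1.ZeroBC Groth.Agent.Lib.R2H1.BivarEnv Groth.Agent.Lib.R2H1.BivarFlat
  Groth.Agent.Lib.R2H1.BivarC1

variable {X D : Scheme.{u}} {δX : X → ℤ} {δD : D → ℤ} (i : D ⟶ X) [IsClosedImmersion i]

theorem ci_f' (s : Sq i δD δX) : IsClosedImmersion s.f' :=
  MorphismProperty.of_isPullback (P := @IsClosedImmersion) s.isPullback.flip inferInstance

theorem δeq (hδ : Cyc.DeltaCompat i δD δX) (s : Sq i δD δX) :
    s.δX' = fun d => s.δY' (s.f' d) := by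
  haveI := ci_f' i s
  exact deltaCompat_unique s.f' (compat_f' hδ s) (deltaCompat_closedImmersion s.f' s.δY')

/-- the base change of the zero scheme is the zero scheme of the pulled back section. -/
theorem hτs (L : X.Modules) (hL : PicF.IsInvertible L) (σ : L.presheaf.obj (op ⊤))
    (hσ : Cyc.IsZeroSchemeOf i L σ) (s : Sq i δD δX) :
    Cyc.IsZeroSchemeOf s.f' ((Scheme.Modules.pullback s.g).obj L) (pullTop s.g L σ) := by
  have hz0 := isZeroSchemeOf_pullback s.g i L hL σ hσ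
  obtain ⟨e, he1, -⟩ : ∃ e : s.X' ≅ pullback s.g i, e.hom ≫ pullback.fst s.g i = s.f' ∧
      e.hom ≫ pullback.snd s.g i = s.g' :=
    ⟨s.isPullback.isoPullback, s.isPullback.isoPullback_hom_fst,
      s.isPullback.isoPullback_hom_snd⟩
  apply isZeroSchemeOf_of_comp_iso e.symm
  have : e.symm.hom ≫ s.f' = pullback.fst s.g i := by
    rw [← he1]
    simp
  rw [this]
  exact hz0

/-- the operation of the Gysin class. -/
noncomputable def opG (hX : Cyc.IsSetup X δX) (hδ : Cyc.DeltaCompat i δD δX) (L : X.Modules)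
    (hL : PicF.IsInvertible L) (σ : L.presheaf.obj (op ⊤)) (hσ : Cyc.IsZeroSchemeOf i L σ)
    (s : Sq i δD δX) (k : ℤ) : ChowOps.CH s.Y' s.δY' k →+ ChowOps.CH s.X' s.δX' (k - 1) :=
  haveI := ci_f' i s
  gysCH s.δY' (isSetup_Y' hX s) s.f' s.δX' (δeq i hδ s) _ (inv_pull s.g L hL) (pullTop s.g L σ)
    (hτs i L hL σ hσ s) k

theorem opG_cl (hX : Cyc.IsSetup X δX) (hδ : Cyc.DeltaCompat i δD δX) (L : X.Modules)
    (hL : PicF.IsInvertible L) (σ : L.presheaf.obj (op ⊤)) (hσ : Cyc.IsZeroSchemeOf i L σ)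
    (s : Sq i δD δX) (k : ℤ) (α : AlgebraicCycle s.Y' ℤ) (hα : α ∈ Cyc.Zk s.Y' s.δY' k)
    (τ : ((Scheme.Modules.pullback s.g).obj L).presheaf.obj (op ⊤))
    (hτ : Cyc.IsZeroSchemeOf s.f' ((Scheme.Modules.pullback s.g).obj L) τ)
    (w : (ξ : s.Y') → Cyc.secFibre ((Scheme.Modules.pullback s.g).obj L) ξ) (hw : ∀ ξ, w ξ ≠ 0)
    (γ : AlgebraicCycle s.X' ℤ)
    (hγc : ∀ d, γ d = Cyc.c1CapFun s.δY' ((Scheme.Modules.pullback s.g).obj L) ⇑α
      (Cyc.gysinChoice ((Scheme.Modules.pullback s.g).obj L) τ w) (s.f' d))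
    (hγ : γ ∈ Cyc.Zk s.X' s.δX' (k - 1)) :
    opG i hX hδ L hL σ hσ s k (ChowOps.cl α hα) = ChowOps.cl γ hγ := by
  haveI := ci_f' i s
  exact gysCH_cl s.δY' (isSetup_Y' hX s) s.f' s.δX' (δeq i hδ s) _ (inv_pull s.g L hL)
    (pullTop s.g L σ) (hτs i L hL σ hσ s) k α hα τ hτ w hw γ hγc hγ

/-- a representative of the Gysin class of a cycle. -/
theorem exists_opG_rep (hX : Cyc.IsSetup X δX) (hδ : Cyc.DeltaCompat i δD δX) (L : X.Modules)
    (hL : PicF.IsInvertible L) (σ : L.presheaf.obj (op ⊤)) (hσ : Cyc.IsZeroSchemeOf i L σ)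
    (s : Sq i δD δX) (k : ℤ) (α : AlgebraicCycle s.Y' ℤ) (hα : α ∈ Cyc.Zk s.Y' s.δY' k) :
    ∃ γ : AlgebraicCycle s.X' ℤ,
      (∀ d, γ d = Cyc.c1CapFun s.δY' ((Scheme.Modules.pullback s.g).obj L) ⇑α
        (Cyc.gysinChoice ((Scheme.Modules.pullback s.g).obj L) (pullTop s.g L σ)
          (v₀ _ (inv_pull s.g L hL))) (s.f' d)) ∧ γ ∈ Cyc.Zk s.X' s.δX' (k - 1) := by
  haveI := ci_f' i s
  exact exists_gys s.δY' (isSetup_Y' hX s) s.f' s.δX' (δeq i hδ s) _ (inv_pull s.g L hL)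
    (pullTop s.g L σ) (hτs i L hL σ hσ s) k α hα _ (v₀_ne _ _)

end Part5

section Part6

open CategoryTheory AlgebraicGeometry CategoryTheory.Limits TopologicalSpace Opposite
open Bivar Groth.Agent.Lib.R2H1.ChowDesc Groth.Agent.Lib.R2H1.MVClosed
  Groth.Agent.Lib.R2H1.IsoTransport Groth.Agent.Lib.R2H1.RelDimBC Groth.Agent.Lib.R2H1.C1Chow
  Groth.Agent.Lib.R2H1.ZeroBC Groth.Agent.Lib.R2H1.BivarEnv Groth.Agent.Lib.R2H1.BivarFlat
  Groth.Agent.Lib.R2H1.BivarC1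

variable {X D : Scheme.{u}} {δX : X → ℤ} {δD : D → ℤ} (i : D ⟶ X) [IsClosedImmersion i]

theorem sqY_compat (s t : Sq i δD δX) (h : t.Y' ⟶ s.Y') [LocallyOfFiniteType h]
    (w₁ : h ≫ s.g = t.g) : Cyc.DeltaCompat h t.δY' s.δY' := by
  apply deltaCompat_cancel h s.g _ s.compatY
  rw [w₁]
  exact t.compatY

theorem opG_push (hX : Cyc.IsSetup X δX) (hδ : Cyc.DeltaCompat i δD δX) (L : X.Modules)
    (hL : PicF.IsInvertible L) (σ : L.presheaf.obj (op ⊤)) (hσ : Cyc.IsZeroSchemeOf i L σ)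
    (s t : Sq i δD δX) (h : t.Y' ⟶ s.Y') [IsProper h] (h' : t.X' ⟶ s.X') [IsProper h']
    (w₁ : h ≫ s.g = t.g) (w₂ : h' ≫ s.f' = t.f' ≫ h) (w₃ : h' ≫ s.g' = t.g') (k : ℤ) :
    PushOK t.δY' t.δX' s.δY' s.δX' h h' (opG i hX hδ L hL σ hσ t k)
      (opG i hX hδ L hL σ hσ s k) := by
  intro α hα
  haveI := ci_f' i s
  haveI := ci_f' i t
  obtain ⟨β, hβc, hβ⟩ := exists_opG_rep i hX hδ L hL σ hσ t k α hα
  refine ⟨β, hβ, opG_cl i hX hδ L hL σ hσ t k α hα _ (hτs i L hL σ hσ t) _ (v₀_ne _ _) β hβc hβ,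
    ?_⟩
  obtain ⟨γ, hγc, hγ⟩ := exists_opG_rep i hX hδ L hL σ hσ s k _
    (cycMap_mem_Zk h t.δY' s.δY' k hα)
  rw [opG_cl i hX hδ L hL σ hσ s k _ _ _ (hτs i L hL σ hσ s) _ (v₀_ne _ _) γ hγc hγ]
  apply cl_eq_of_ratEquiv
  have hXt := isSetup_Y' hX t
  haveI : IsLocallyNoetherian t.Y' := hXt.1
  let Ψ := (pullIso h s.g t.g w₁ L).symm
  have hLt := inv_pull t.g L hL
  have hα' : α ∈ Cyc.Zk t.Y' t.δY' (k - 1 + 1) := by rw [sub_add_cancel]; exact hα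
  have key := main1932_sq s.Y' t.Y' s.X' t.X' s.δY' t.δY' (isSetup_Y' hX s) hXt h
    (sqY_compat i s t h w₁) _ (inv_pull s.g L hL) (pullTop s.g L σ) s.f' (hτs i L hL σ hσ s) t.f'
    h' (isPullback_of_sq s t h h' w₁ w₂ w₃) _
    (isZeroSchemeOf_of_moduleIso t.f' Ψ _ (hτs i L hL σ hσ t)) (k - 1) α hα'
    (v₀ _ (inv_pull s.g L hL)) (v₀_ne _ _) (fun ξ => fibMap Ψ ξ (v₀ _ hLt ξ))
    (fun ξ => fibMap_ne_zero Ψ hLt ξ _ (v₀_ne _ hLt ξ)) γ hγc β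
    (fun z => by
      rw [hβc z, c1CapFun_gysinChoice_moduleIso hXt.2.2 Ψ hLt])
  rw [← δeq i hδ s, ← δeq i hδ t] at key
  exact key

theorem opG_pull (hX : Cyc.IsSetup X δX) (hD : Cyc.IsSetup D δD)
    (hδ : Cyc.DeltaCompat i δD δX) (L : X.Modules)
    (hL : PicF.IsInvertible L) (σ : L.presheaf.obj (op ⊤)) (hσ : Cyc.IsZeroSchemeOf i L σ)
    (s t : Sq i δD δX) (h : t.Y' ⟶ s.Y') [Flat h] (h' : t.X' ⟶ s.X') [Flat h'] (r : ℕ)
    (hr : Cyc.HasRelDim h r) (hr' : Cyc.HasRelDim h' r)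
    (w₁ : h ≫ s.g = t.g) (w₂ : h' ≫ s.f' = t.f' ≫ h) (w₃ : h' ≫ s.g' = t.g') (k : ℤ) :
    PullOK s.δY' s.δX' t.δY' t.δX' h h' (r : ℤ) (opG i hX hδ L hL σ hσ s k)
      (opG i hX hδ L hL σ hσ t (k + r)) := by
  intro α hα
  haveI := ci_f' i s
  haveI := ci_f' i t
  haveI := s.lft
  haveI := t.lft
  haveI : LocallyOfFiniteType s.g' := lft_g' s
  haveI : LocallyOfFiniteType t.g' := lft_g' t
  haveI : LocallyOfFiniteType h := by
    haveI : LocallyOfFiniteType (h ≫ s.g) := by rw [w₁]; infer_instance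
    exact locallyOfFiniteType_of_comp h s.g
  haveI : LocallyOfFiniteType h' := by
    haveI : LocallyOfFiniteType (h' ≫ s.g') := by rw [w₃]; infer_instance
    exact locallyOfFiniteType_of_comp h' s.g'
  have hδh' : Cyc.DeltaCompat h' t.δX' s.δX' := by
    apply deltaCompat_cancel h' s.g' _ s.compatX
    rw [w₃]
    exact t.compatX
  obtain ⟨β, hβc, hβ⟩ := exists_opG_rep i hX hδ L hL σ hσ s k α hα
  refine ⟨β, hβ, opG_cl i hX hδ L hL σ hσ s k α hα _ (hτs i L hL σ hσ s) _ (v₀_ne _ _) β hβc hβ,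
    ?_⟩
  intro α₁ hα₁c hα₁
  obtain ⟨β₁, hβ₁c, hβ₁⟩ := exists_pull t.δX' s.δX' (isSetup_X' hD t) h' r hr' hδh' (k - 1) β hβ
  have hβ₁' : β₁ ∈ Cyc.Zk t.X' t.δX' (k + r - 1) := by
    rw [show k + (r : ℤ) - 1 = k - 1 + r by ring]; exact hβ₁
  refine ⟨β₁, hβ₁', hβ₁c, ?_⟩
  obtain ⟨γ₁, hγ₁c, hγ₁⟩ := exists_opG_rep i hX hδ L hL σ hσ t (k + r) α₁ hα₁
  rw [opG_cl i hX hδ L hL σ hσ t (k + r) α₁ hα₁ _ (hτs i L hL σ hσ t) _ (v₀_ne _ _) γ₁ hγ₁c hγ₁]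
  apply cl_eq_of_ratEquiv
  have hXt := isSetup_Y' hX t
  haveI : IsLocallyNoetherian t.Y' := hXt.1
  let Ψ := (pullIso h s.g t.g w₁ L).symm
  have hLt := inv_pull t.g L hL
  have hα' : α ∈ Cyc.Zk s.Y' s.δY' (k - 1 + 1) := by rw [sub_add_cancel]; exact hα
  have key := main1933_sq s.Y' t.Y' s.X' t.X' s.δY' t.δY' (isSetup_Y' hX s) hXt h r hr
    (sqY_compat i s t h w₁) _ (inv_pull s.g L hL) (pullTop s.g L σ) s.f' (hτs i L hL σ hσ s) t.f'
    h' (isPullback_of_sq s t h h' w₁ w₂ w₃) _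
    (isZeroSchemeOf_of_moduleIso t.f' Ψ _ (hτs i L hL σ hσ t)) (k - 1) α hα'
    (v₀ _ (inv_pull s.g L hL)) (v₀_ne _ _) (fun ξ => fibMap Ψ ξ (v₀ _ hLt ξ))
    (fun ξ => fibMap_ne_zero Ψ hLt ξ _ (v₀_ne _ hLt ξ)) γ₁ β₁
    (fun z => by
      rw [hγ₁c z, c1CapFun_gysinChoice_moduleIso hXt.2.2 Ψ hLt, hα₁c])
    (by
      rw [hβ₁c, ← δeq i hδ s, ← δeq i hδ t]
      congr 1
      exact funext hβc)
  rw [← δeq i hδ t, show k - 1 + (r : ℤ) = k + r - 1 by ring] at key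
  exact key

end Part6

section Part7

open CategoryTheory AlgebraicGeometry CategoryTheory.Limits TopologicalSpace Opposite
open Bivar Groth.Agent.Lib.R2H1.ChowDesc Groth.Agent.Lib.R2H1.MVClosed
  Groth.Agent.Lib.R2H1.IsoTransport Groth.Agent.Lib.R2H1.RelDimBC Groth.Agent.Lib.R2H1.C1Chow
  Groth.Agent.Lib.R2H1.ZeroBC Groth.Agent.Lib.R2H1.BivarEnv Groth.Agent.Lib.R2H1.BivarFlat
  Groth.Agent.Lib.R2H1.BivarC1

variable {X D : Scheme.{u}} {δX : X → ℤ} {δD : D → ℤ} (i : D ⟶ X) [IsClosedImmersion i]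

theorem opG_gysin (hX : Cyc.IsSetup X δX) (hD : Cyc.IsSetup D δD)
    (hδ : Cyc.DeltaCompat i δD δX) (L : X.Modules)
    (hL : PicF.IsInvertible L) (σ : L.presheaf.obj (op ⊤)) (hσ : Cyc.IsZeroSchemeOf i L σ)
    (s t : Sq i δD δX) (i₂ : t.Y' ⟶ s.Y') [IsClosedImmersion i₂] (j : t.X' ⟶ s.X')
    [IsClosedImmersion j]
    (w₁ : i₂ ≫ s.g = t.g) (w₂ : j ≫ s.f' = t.f' ≫ i₂) (w₃ : j ≫ s.g' = t.g')
    (M : s.Y'.Modules) (hM : PicF.IsInvertible M) (σ₂ : M.presheaf.obj (Opposite.op ⊤))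
    (hσ₂ : Cyc.IsZeroSchemeOf i₂ M σ₂)
    (τ₂ : ((Scheme.Modules.pullback s.f').obj M).presheaf.obj (Opposite.op ⊤))
    (hτ₂ : Cyc.IsZeroSchemeOf j ((Scheme.Modules.pullback s.f').obj M) τ₂) (k : ℤ) :
    GysinOK s.δY' t.δY' s.δX' t.δX' i₂ M σ₂ j ((Scheme.Modules.pullback s.f').obj M) τ₂
      (opG i hX hδ L hL σ hσ s k) (opG i hX hδ L hL σ hσ t (k - 1)) := by
  intro α hα
  haveI := ci_f' i s
  haveI := ci_f' i t
  haveI : LocallyOfFiniteType s.g' := lft_g' s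
  haveI : LocallyOfFiniteType t.g' := lft_g' t
  obtain ⟨β, hβc, hβ⟩ := exists_opG_rep i hX hδ L hL σ hσ s k α hα
  refine ⟨β, hβ, opG_cl i hX hδ L hL σ hσ s k α hα _ (hτs i L hL σ hσ s) _ (v₀_ne _ _) β hβc hβ,
    ?_⟩
  intro w hw γ hγc hγ w' hw'
  have hδj : t.δX' = fun e => s.δX' (j e) := by
    refine deltaCompat_unique j ?_ (deltaCompat_closedImmersion j s.δX')
    apply deltaCompat_cancel j s.g' _ s.compatX
    rw [w₃]
    exact t.compatX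
  have hδi₂ : t.δY' = fun d => s.δY' (i₂ d) :=
    deltaCompat_unique i₂ (sqY_compat i s t i₂ w₁) (deltaCompat_closedImmersion i₂ s.δY')
  obtain ⟨ζ, hζc, hζ⟩ := exists_gys s.δX' (isSetup_X' hD s) j t.δX' hδj _ (inv_pull s.f' M hM)
    τ₂ hτ₂ (k - 1) β hβ w' hw'
  refine ⟨ζ, hζ, hζc, ?_⟩
  obtain ⟨ζ', hζ'c, hζ'⟩ := exists_opG_rep i hX hδ L hL σ hσ t (k - 1) γ hγ
  rw [opG_cl i hX hδ L hL σ hσ t (k - 1) γ hγ _ (hτs i L hL σ hσ t) _ (v₀_ne _ _) ζ' hζ'c hζ']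
  symm
  apply cl_eq_of_ratEquiv
  have hXt := isSetup_Y' hX t
  haveI : IsLocallyNoetherian t.Y' := hXt.1
  let Ψ := (pullIso i₂ s.g t.g w₁ L).symm
  have hLt := inv_pull t.g L hL
  have key := main1931_sq s.Y' s.X' t.Y' t.X' s.δY' (isSetup_Y' hX s) _ M (inv_pull s.g L hL) hM
    (pullTop s.g L σ) σ₂ s.f' i₂ (hτs i L hL σ hσ s) hσ₂ j t.f'
    (isPullback_of_sq s t i₂ j w₁ w₂ w₃).flip τ₂ hτ₂ _
    (isZeroSchemeOf_of_moduleIso t.f' Ψ _ (hτs i L hL σ hσ t)) k α hα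
    (v₀ _ (inv_pull s.g L hL)) (v₀_ne _ _) w hw w' hw' (fun ξ => fibMap Ψ ξ (v₀ _ hLt ξ))
    (fun ξ => fibMap_ne_zero Ψ hLt ξ _ (v₀_ne _ hLt ξ)) ⇑β (funext hβc) ⇑γ (funext hγc) ζ ζ'
    (fun z => by
      rw [hζc z, δeq i hδ s])
    (fun z => by
      rw [hζ'c z, ← hδi₂, c1CapFun_gysinChoice_moduleIso hXt.2.2 Ψ hLt])
  have e1 : t.δX' = fun z => s.δY' (s.f' (j z)) := by
    rw [hδj, δeq i hδ s]
  rw [← e1, show k - 2 = k - 1 - 1 by ring] at key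
  exact key

end Part7

section Part8

open CategoryTheory AlgebraicGeometry CategoryTheory.Limits TopologicalSpace Opposite
open Bivar

variable {X D : Scheme.{u}} {δX : X → ℤ} {δD : D → ℤ} (i : D ⟶ X) [IsClosedImmersion i]

/-- the Gysin class of the zero scheme of a section of an invertible module. -/
noncomputable def gysCl (hX : Cyc.IsSetup X δX) (hD : Cyc.IsSetup D δD)
    (hδ : Cyc.DeltaCompat i δD δX) (L : X.Modules)
    (hL : PicF.IsInvertible L) (σ : L.presheaf.obj (op ⊤)) (hσ : Cyc.IsZeroSchemeOf i L σ) :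
    Cl 1 i δD δX where
  op s k := opG i hX hδ L hL σ hσ s k
  push s t h _ h' _ w₁ w₂ w₃ k := opG_push i hX hδ L hL σ hσ s t h h' w₁ w₂ w₃ k
  pull s t h _ h' _ r hr hr' w₁ w₂ w₃ k :=
    opG_pull i hX hD hδ L hL σ hσ s t h h' r hr hr' w₁ w₂ w₃ k
  gysin s t i₂ _ j _ w₁ w₂ w₃ M hM σ₂ hσ₂ τ₂ hτ₂ k :=
    opG_gysin i hX hD hδ L hL σ hσ s t i₂ j w₁ w₂ w₃ M hM σ₂ hσ₂ τ₂ hτ₂ k

theorem gysCl_isGysinClass (hX : Cyc.IsSetup X δX) (hD : Cyc.IsSetup D δD)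
    (hδ : Cyc.DeltaCompat i δD δX) (L : X.Modules)
    (hL : PicF.IsInvertible L) (σ : L.presheaf.obj (op ⊤)) (hσ : Cyc.IsZeroSchemeOf i L σ) :
    IsGysinClass i L σ (gysCl i hX hD hδ L hL σ hσ) :=
  ⟨hL, hσ, hδ, fun s τ hτ k α hα w hw γ hγc hγ =>
    opG_cl i hX hδ L hL σ hσ s k α hα τ hτ w hw γ hγc hγ⟩

end Part8

end Groth.Agent.Lib.R2H1.BivarGysin
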