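/-
Exterior products of cycles on a fibre product over a field: the exterior product with a prime cycle is the pushforward of a flat pullback, and exterior products preserve rational equivalence to zero (S1917).
-/
import Mathlib
import Groth.Prelude
import Groth.Agent.Lib.R2H1PowLen
import Groth.Agent.Lib.R2H1PullbackKer
import Groth.Agent.Lib.R2H1ProperPushRat
import Groth.Agent.Lib.R2H1BivarC1
import Groth.Agent.Lib.R2H1RelDimBC
import Groth.Agent.Lib.R2H1BivarFlat
import Groth.Agent.Lib.R2H1PullInv2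
import Groth.Agent.Lib.R2H1C1Rel
import Groth.Agent.Lib.R2H1MVClosed

set_option autoImplicit false
set_option linter.style.haveILetI false
set_option linter.unusedSectionVars false
universe u v

namespace Groth.Agent.Lib.R2H1.ExtProd

section Part1

section A

open AlgebraicGeometry CategoryTheory TopologicalSpace IsLocalRing Opposite CategoryTheory.Limits
  Groth.Agent.Lib.R2H1.PullbackKer

/-- lengths of quotients along a surjective ring homomorphism. -/
theorem length_quot_map_of_surjective {A B : Type*} [CommRing A] [CommRing B] (φ : A →+* B)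
    (hφ : Function.Surjective φ) (J : Ideal A) :
    Module.length B (B ⧸ J.map φ) = Module.length A (A ⧸ (J ⊔ RingHom.ker φ)) := by
  rw [Module.length_eq_of_surjective (S := B) (R := B ⧸ J.map φ) (M := B ⧸ J.map φ)
    Ideal.Quotient.mk_surjective,
    Module.length_eq_of_surjective (S := A) (R := A ⧸ (J ⊔ RingHom.ker φ))
      (M := A ⧸ (J ⊔ RingHom.ker φ)) Ideal.Quotient.mk_surjective]
  let ψ : A →+* B ⧸ J.map φ := (Ideal.Quotient.mk (J.map φ)).comp φ
  have hψ : Function.Surjective ψ := Ideal.Quotient.mk_surjective.comp hφ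
  have hker : RingHom.ker ψ = J ⊔ RingHom.ker φ := by
    change RingHom.ker ((Ideal.Quotient.mk (J.map φ)).comp φ) = _
    rw [← RingHom.comap_ker, Ideal.mk_ker, Ideal.comap_map_of_surjective φ hφ,
      RingHom.ker_eq_comap_bot]
  symm
  exact Groth.Agent.Lib.R2H1.PowLen.length_self_ringEquiv
    ((Ideal.quotEquivOfEq hker.symm).trans (RingHom.quotientKerEquivOfSurjective hψ))

end A

section B

open AlgebraicGeometry CategoryTheory TopologicalSpace IsLocalRing Opposite CategoryTheory.Limits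
  Groth.Agent.Lib.R2H1.PullbackKer

variable {P X Y V : Scheme.{u}}

theorem map_stalkSpecializes_maximalIdeal {a b : Y} (e : a = b) :
    Ideal.map (Y.presheaf.stalkSpecializes (specializes_of_eq e)).hom
      (maximalIdeal (Y.presheaf.stalk b)) = maximalIdeal (Y.presheaf.stalk a) := by
  subst e
  have : Y.presheaf.stalkSpecializes (specializes_of_eq (rfl : a = a)) = 𝟙 _ :=
    TopCat.Presheaf.stalkSpecializes_refl _ _
  rw [this]
  exact Ideal.map_id _

theorem map_thetaC_maximalIdeal (q₂ : P ⟶ Y) (ι : V ⟶ Y) (z' : ↥(pullback q₂ ι)) :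
    Ideal.map (thetaC q₂ ι z').hom (maximalIdeal (Y.presheaf.stalk (ι (pullback.snd q₂ ι z')))) =
      Ideal.map (q₂.stalkMap (pullback.fst q₂ ι z')).hom
        (maximalIdeal (Y.presheaf.stalk (q₂ (pullback.fst q₂ ι z')))) := by
  unfold thetaC
  rw [CommRingCat.hom_comp, ← Ideal.map_map,
    map_stalkSpecializes_maximalIdeal (pullback_cond_apply q₂ ι z')]

/-- the multiplicity of the projection from `P ×_Y V` to `X` at a point over a point of `V` whose
local ring is a field, in terms of the local ring of `P`. -/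
theorem length_pullback_eq (q₁ : P ⟶ X) (q₂ : P ⟶ Y) (ι : V ⟶ Y) [IsClosedImmersion ι]
    (z' : ↥(pullback q₂ ι))
    (hker : RingHom.ker (ι.stalkMap (pullback.snd q₂ ι z')).hom =
      maximalIdeal (Y.presheaf.stalk (ι (pullback.snd q₂ ι z')))) :
    Module.length ((pullback q₂ ι).presheaf.stalk z')
      ((pullback q₂ ι).presheaf.stalk z' ⧸
        Ideal.map ((pullback.fst q₂ ι ≫ q₁).stalkMap z').hom
          (maximalIdeal (X.presheaf.stalk ((pullback.fst q₂ ι ≫ q₁) z')))) =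
    Module.length (P.presheaf.stalk (pullback.fst q₂ ι z'))
      (P.presheaf.stalk (pullback.fst q₂ ι z') ⧸
        (Ideal.map (q₁.stalkMap (pullback.fst q₂ ι z')).hom
            (maximalIdeal (X.presheaf.stalk (q₁ (pullback.fst q₂ ι z')))) ⊔
          Ideal.map (q₂.stalkMap (pullback.fst q₂ ι z')).hom
            (maximalIdeal (Y.presheaf.stalk (q₂ (pullback.fst q₂ ι z')))))) := by
  have hsurj : Function.Surjective ((pullback.fst q₂ ι).stalkMap z').hom :=
    (pullback.fst q₂ ι).stalkMap_surjective z'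
  have hkerφ : RingHom.ker ((pullback.fst q₂ ι).stalkMap z').hom =
      Ideal.map (q₂.stalkMap (pullback.fst q₂ ι z')).hom
        (maximalIdeal (Y.presheaf.stalk (q₂ (pullback.fst q₂ ι z')))) := by
    rw [ker_fst_stalkMap, hker, map_thetaC_maximalIdeal]
  have hcomp : ((pullback.fst q₂ ι ≫ q₁).stalkMap z').hom =
      ((pullback.fst q₂ ι).stalkMap z').hom.comp (q₁.stalkMap (pullback.fst q₂ ι z')).hom := by
    rw [Scheme.Hom.stalkMap_comp]; rfl
  have hI : Ideal.map ((pullback.fst q₂ ι ≫ q₁).stalkMap z').hom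
      (maximalIdeal (X.presheaf.stalk ((pullback.fst q₂ ι ≫ q₁) z'))) =
      Ideal.map ((pullback.fst q₂ ι).stalkMap z').hom
        (Ideal.map (q₁.stalkMap (pullback.fst q₂ ι z')).hom
          (maximalIdeal (X.presheaf.stalk (q₁ (pullback.fst q₂ ι z'))))) := by
    rw [Ideal.map_map, ← hcomp]
    rfl
  rw [hI, length_quot_map_of_surjective _ hsurj, hkerφ]

end B

end Part1

section Part2

open AlgebraicGeometry CategoryTheory TopologicalSpace IsLocalRing Opposite CategoryTheory.Limits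
  Groth.Agent.Lib.R2H1.ProperPushRat Groth.Agent.Lib.R2H1.BivarC1 Groth.Agent.Lib.R2H1.RelDimBC
  Groth.Agent.Lib.R2H1.PerfCyc Groth.Agent.Lib.Helper4.DimFormula

variable {Y : Scheme.{u}}

/-- a point of the closure of `η` (as a scheme) maps to `η` iff it is the generic point. -/
theorem ptι_eq_iff (η : Y) (v : ptScheme Y η) : ptι Y η v = η ↔ v = genericPoint (ptScheme Y η) := by
  constructor
  · intro h
    apply (ptι Y η).isEmbedding.injective
    rw [h, ptι_genericPoint]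
  · rintro rfl
    exact ptι_genericPoint Y η

/-- the ideal of the closure of `η` at `η` is the maximal ideal. -/
theorem ker_stalkMap_ptι (η : Y) :
    RingHom.ker ((ptι Y η).stalkMap (genericPoint (ptScheme Y η))).hom =
      maximalIdeal (Y.presheaf.stalk (ptι Y η (genericPoint (ptScheme Y η)))) := by
  have hsurj : Function.Surjective ((ptι Y η).stalkMap (genericPoint (ptScheme Y η))).hom :=
    (ptι Y η).stalkMap_surjective _
  haveI : IsField ((ptScheme Y η).presheaf.stalk (genericPoint (ptScheme Y η))) :=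
    Field.toIsField (ptScheme Y η).functionField
  letI : Field ((ptScheme Y η).presheaf.stalk (genericPoint (ptScheme Y η))) :=
    inferInstanceAs (Field (ptScheme Y η).functionField)
  haveI := RingHom.ker_isMaximal_of_surjective _ hsurj
  exact IsLocalRing.eq_maximalIdeal inferInstance

end Part2

section Part3

open AlgebraicGeometry CategoryTheory TopologicalSpace IsLocalRing Opposite CategoryTheory.Limits
  Groth.Agent.Lib.R2H1.ProperPushRat Groth.Agent.Lib.R2H1.BivarC1 Groth.Agent.Lib.R2H1.RelDimBC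
  Groth.Agent.Lib.R2H1.PerfCyc Groth.Agent.Lib.Helper4.DimFormula

variable {Y : Scheme.{u}} {K : Type u} [Field K]

/-- the closure of a point of a scheme locally of finite type over a field has pure dimension the
transcendence degree of the residue field. -/
theorem hasRelDim_ptScheme (g : Y ⟶ Spec (CommRingCat.of K)) [LocallyOfFiniteType g]
    (δY : Y → ℤ) (hY : Cyc.DeltaCompat g δY (fun _ => 0)) (η : Y) (s : ℕ) (hs : (s : ℤ) = δY η) :
    Cyc.HasRelDim (ptι Y η ≫ g) s := by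
  intro y T hT
  obtain ⟨x, -, hmax, hdim⟩ := exists_point_of_mem_irreducibleComponents (ptι Y η ≫ g) y T hT
  rw [hdim]
  have hx : x = genericPoint (ptScheme Y η) := by
    have hsp : genericPoint (ptScheme Y η) ⤳ x :=
      (genericPoint_spec (ptScheme Y η)).specializes (Set.mem_univ x)
    exact (hmax (genericPoint (ptScheme Y η)) (Subsingleton.elim _ _) hsp).symm
  have hδ : Cyc.DeltaCompat (ptι Y η ≫ g) (fun v => δY (ptι Y η v)) (fun _ => 0) :=
    Bivar.deltaCompat_comp (ptι Y η) g _ δY _ (deltaCompat_closedImmersion (ptι Y η) δY) hY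
  obtain ⟨n, hn, hδn⟩ := hδ x
  have h1 : (ptTrdeg (ptι Y η ≫ g) x : Cardinal.{u}) = n :=
    (resTrdeg_eq_ptTrdeg (ptι Y η ≫ g) x).symm.trans hn
  have h2 : ptTrdeg (ptι Y η ≫ g) x = n := by exact_mod_cast h1
  have h3 : δY (ptι Y η x) = δY η := by rw [hx, ptι_genericPoint]
  have h4 : (n : ℤ) = s := by
    simp only [] at hδn
    rw [h3] at hδn
    omega
  have h5 : n = s := by exact_mod_cast h4
  rw [h2, h5]

end Part3

section Part4

open AlgebraicGeometry CategoryTheory TopologicalSpace IsLocalRing Opposite CategoryTheory.Limits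
  Groth.Agent.Lib.R2H1.ProperPushRat Groth.Agent.Lib.R2H1.BivarC1 Groth.Agent.Lib.R2H1.RelDimBC
  Groth.Agent.Lib.R2H1.PerfCyc Groth.Agent.Lib.Helper4.DimFormula Groth.Agent.Lib.R2H1.FlatPullRat
  Groth.Agent.Lib.R2H1.BivarFlat Groth.Agent.Lib.R2H1.PullInv Groth.Agent.Lib.R2H1.RatEquivClosed

variable {K : Type u} [Field K] {X Y P : Scheme.{u}}

/-- the exterior product of coefficient functions on an arbitrary fibre product. -/
noncomputable def extP (q₁ : P ⟶ X) (q₂ : P ⟶ Y) (δX : X → ℤ) (δY : Y → ℤ) (δP : P → ℤ)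
    (α : X → ℤ) (β : Y → ℤ) : P → ℤ :=
  fun z => if δP z = δX (q₁ z) + δY (q₂ z) then
    α (q₁ z) * β (q₂ z) *
      ((Module.length (P.presheaf.stalk z)
        (↑(P.presheaf.stalk z) ⧸
          ((IsLocalRing.maximalIdeal (X.presheaf.stalk (q₁ z))).map (q₁.stalkMap z).hom ⊔
            (IsLocalRing.maximalIdeal (Y.presheaf.stalk (q₂ z))).map (q₂.stalkMap z).hom))).toNat : ℤ)
  else 0

theorem extProd_eq_extP (f : X ⟶ Spec (CommRingCat.of K)) (g : Y ⟶ Spec (CommRingCat.of K))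
    (δX : X → ℤ) (δY : Y → ℤ) (δ : ↥(pullback f g) → ℤ) (α : X → ℤ) (β : Y → ℤ) :
    IntMult.extProd f g δX δY δ α β =
      extP (pullback.fst f g) (pullback.snd f g) δX δY δ α β := rfl

/-- the exterior product is symmetric. -/
theorem extP_symm (q₁ : P ⟶ X) (q₂ : P ⟶ Y) (δX : X → ℤ) (δY : Y → ℤ) (δP : P → ℤ)
    (α : X → ℤ) (β : Y → ℤ) : extP q₁ q₂ δX δY δP α β = extP q₂ q₁ δY δX δP β α := by
  funext z
  unfold extP
  rw [add_comm (δX (q₁ z)), mul_comm (α (q₁ z)), sup_comm]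

section

variable (f : X ⟶ Spec (CommRingCat.of K)) (g : Y ⟶ Spec (CommRingCat.of K))
  [LocallyOfFiniteType f] [LocallyOfFiniteType g]
  (q₁ : P ⟶ X) (q₂ : P ⟶ Y) (hP : IsPullback q₁ q₂ f g)

include hP in
theorem isPullback_V (η : Y) :
    IsPullback (pullback.fst q₂ (ptι Y η) ≫ q₁) (pullback.snd q₂ (ptι Y η)) f (ptι Y η ≫ g) :=
  ((IsPullback.of_hasPullback q₂ (ptι Y η)).flip.paste_vert hP.flip).flip

include hP in
theorem flat_pV (η : Y) : Flat (pullback.fst q₂ (ptι Y η) ≫ q₁) :=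
  MorphismProperty.of_isPullback (P := @Flat) (isPullback_V f g q₁ q₂ hP η).flip inferInstance

include hP in
theorem lft_pV (η : Y) : LocallyOfFiniteType (pullback.fst q₂ (ptι Y η) ≫ q₁) :=
  MorphismProperty.of_isPullback (P := @LocallyOfFiniteType) (isPullback_V f g q₁ q₂ hP η).flip
    inferInstance

include hP in
theorem relDim_pV (δY : Y → ℤ) (hY : Cyc.DeltaCompat g δY (fun _ => 0)) (η : Y) (s : ℕ)
    (hs : (s : ℤ) = δY η) : Cyc.HasRelDim (pullback.fst q₂ (ptι Y η) ≫ q₁) s :=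
  hasRelDim_of_isPullback (isPullback_V f g q₁ q₂ hP η) s (hasRelDim_ptScheme g δY hY η s hs)

theorem compat_pV (δX : X → ℤ) (δP : P → ℤ) (hP1 : Cyc.DeltaCompat q₁ δP δX) (η : Y) :
    Cyc.DeltaCompat (pullback.fst q₂ (ptι Y η) ≫ q₁)
      (fun z' => δP (pullback.fst q₂ (ptι Y η) z')) δX :=
  Bivar.deltaCompat_comp _ q₁ _ δP δX (deltaCompat_closedImmersion _ δP) hP1

include hP in
/-- subadditivity of the dimension function on a product. -/
theorem delta_le_add (δX : X → ℤ) (δY : Y → ℤ) (δP : P → ℤ) (hPs : Cyc.IsSetup P δP)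
    (hY : Cyc.DeltaCompat g δY (fun _ => 0)) (hP1 : Cyc.DeltaCompat q₁ δP δX) (z : P) :
    δP z ≤ δX (q₁ z) + δY (q₂ z) := by
  obtain ⟨η, hη⟩ : ∃ η : Y, q₂ z = η := ⟨_, rfl⟩
  obtain ⟨n, -, hn⟩ := hY η
  have hs : ((n : ℕ) : ℤ) = δY η := by simp only [] at hn; omega
  have hz : z ∈ Set.range (pullback.fst q₂ (ptι Y η)) := by
    rw [Scheme.Pullback.range_fst, Set.mem_preimage, range_ptι, hη]
    exact subset_closure rfl
  obtain ⟨z', hz'⟩ := hz
  haveI := flat_pV f g q₁ q₂ hP η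
  haveI := lft_pV f g q₁ q₂ hP η
  have hsetup := isSetup_of_closedImmersion (pullback.fst q₂ (ptι Y η)) hPs
  have h1 := (Groth.Agent.Lib.R2H3.CycFlat.delta_le (pullback.fst q₂ (ptι Y η) ≫ q₁) δX
    (fun z' => δP (pullback.fst q₂ (ptι Y η) z')) hsetup.2.2 (n : ℤ)
    (shift_of _ δX (pullback.fst q₂ (ptι Y η) ≫ q₁) n (relDim_pV f g q₁ q₂ hP δY hY η n hs)
      (compat_pV q₁ q₂ δX δP hP1 η)) z').1
  rw [hη, ← hs, ← hz']
  exact h1

end

end Part4

section Part5

open AlgebraicGeometry CategoryTheory TopologicalSpace IsLocalRing Opposite CategoryTheory.Limits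
  Groth.Agent.Lib.R2H1.ProperPushRat Groth.Agent.Lib.R2H1.BivarC1 Groth.Agent.Lib.R2H1.RelDimBC
  Groth.Agent.Lib.R2H1.PerfCyc Groth.Agent.Lib.Helper4.DimFormula Groth.Agent.Lib.R2H1.FlatPullRat
  Groth.Agent.Lib.R2H1.BivarFlat Groth.Agent.Lib.R2H1.PullInv Groth.Agent.Lib.R2H1.RatEquivClosed Groth.Agent.Lib.R2H1.PullbackKer

variable {K : Type u} [Field K] {X Y P : Scheme.{u}}

theorem ker_stalkMap_ptι' (η : Y) (v : ptScheme Y η) (hv : ptι Y η v = η) :
    RingHom.ker ((ptι Y η).stalkMap v).hom = maximalIdeal (Y.presheaf.stalk (ptι Y η v)) := by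
  obtain rfl := (ptι_eq_iff η v).1 hv
  exact ker_stalkMap_ptι η

variable (f : X ⟶ Spec (CommRingCat.of K)) (g : Y ⟶ Spec (CommRingCat.of K))
  [LocallyOfFiniteType f] [LocallyOfFiniteType g]
  (q₁ : P ⟶ X) (q₂ : P ⟶ Y) (hP : IsPullback q₁ q₂ f g)

open Classical in
include hP in
/-- the exterior product with a prime cycle is the pushforward of the flat pullback to the
product with the prime. -/
theorem extP_single (δX : X → ℤ) (δY : Y → ℤ) (δP : P → ℤ) (hPs : Cyc.IsSetup P δP)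
    (hYd : Cyc.IsDimFun Y δY)
    (hY : Cyc.DeltaCompat g δY (fun _ => 0)) (hP1 : Cyc.DeltaCompat q₁ δP δX) (η : Y) (s : ℕ)
    (hs : (s : ℤ) = δY η) (α : X → ℤ)
    (θ : AlgebraicCycle (pullback q₂ (ptι Y η)) ℤ)
    (hθ : ⇑θ = Cyc.pullFun (pullback.fst q₂ (ptι Y η) ≫ q₁)
      (fun z' => δP (pullback.fst q₂ (ptι Y η) z')) δX s α) (z : P) :
    AlgebraicCycle.map (pullback.fst q₂ (ptι Y η))
      (fun z' => δP (pullback.fst q₂ (ptι Y η) z')) δP θ z =
      extP q₁ q₂ δX δY δP α (fun y => if y = η then 1 else 0) z := by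
  refine map_eq_of_comp (pullback.fst q₂ (ptι Y η)) _ δP (fun _ => rfl) θ _ ?_ ?_ z
  · intro z'
    rw [hθ, pullFun_eq]
    have hcond := pullback_cond_apply q₂ (ptι Y η) z'
    unfold extP
    by_cases hη' : q₂ (pullback.fst q₂ (ptι Y η) z') = η
    · have hv : ptι Y η (pullback.snd q₂ (ptι Y η) z') = η := by rw [← hcond, hη']
      have hlen := length_pullback_eq q₁ q₂ (ptι Y η) z'
        (ker_stalkMap_ptι' η _ hv)
      have e1 : (pullback.fst q₂ (ptι Y η) ≫ q₁) z' = q₁ (pullback.fst q₂ (ptι Y η) z') := rfl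
      have hδeq : δY (q₂ (pullback.fst q₂ (ptι Y η) z')) = (s : ℤ) := by rw [hη', hs]
      simp only []
      rw [e1, if_pos hη', mul_one, hδeq]
      by_cases hc : δP (pullback.fst q₂ (ptι Y η) z') =
          δX (q₁ (pullback.fst q₂ (ptι Y η) z')) + (s : ℤ)
      · rw [if_pos hc, if_pos hc]
        congr 1
        unfold mult
        rw [hlen]
      · rw [if_neg hc, if_neg hc]
    · have hsp : η ⤳ q₂ (pullback.fst q₂ (ptι Y η) z') := by
        rw [hcond, specializes_iff_mem_closure, ← range_ptι]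
        exact ⟨_, rfl⟩
      have hlt := (hYd η _ hsp (fun h => hη' h.symm)).1
      have hle := delta_le_add f g q₁ q₂ hP δX δY δP hPs hY hP1 (pullback.fst q₂ (ptι Y η) z')
      have e1 : (pullback.fst q₂ (ptι Y η) ≫ q₁) z' = q₁ (pullback.fst q₂ (ptι Y η) z') := rfl
      simp only []
      rw [e1, if_neg hη', mul_zero, zero_mul, ite_self, if_neg]
      omega
  · intro z hz
    have hne : q₂ z ≠ η := by
      intro h
      apply hz
      rw [Scheme.Pullback.range_fst, Set.mem_preimage, range_ptι, h]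
      exact subset_closure rfl
    unfold extP
    simp only []
    rw [if_neg hne, mul_zero, zero_mul, ite_self]

end Part5

section Part6

open AlgebraicGeometry CategoryTheory TopologicalSpace IsLocalRing Opposite
  Groth.Agent.Lib.R2H1.PullInv2 Groth.Agent.Lib.R2H1.C1Rel

variable {X : Scheme.{u}}

theorem ratEquivZero_zero (δ : X → ℤ) (k : ℤ) : Cyc.RatEquivZero δ k (0 : AlgebraicCycle X ℤ) := by
  refine ⟨PEmpty, fun j => j.elim, fun j => j.elim, fun j => j.elim, fun j => j.elim, ?_, ?_⟩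
  · intro x
    refine ⟨Set.univ, isOpen_univ, trivial, ?_⟩
    exact Set.toFinite _
  · intro x
    rw [finsum_of_isEmpty]
    rfl

theorem ratEquivZero_add (δ : X → ℤ) (k : ℤ) (a b : AlgebraicCycle X ℤ)
    (ha : Cyc.RatEquivZero δ k a) (hb : Cyc.RatEquivZero δ k b) : Cyc.RatEquivZero δ k (a + b) := by
  obtain ⟨ι₁, ξ₁, f₁, hξ₁, hf₁, hlf₁, hs₁⟩ := ha
  obtain ⟨ι₂, ξ₂, f₂, hξ₂, hf₂, hlf₂, hs₂⟩ := hb
  refine ⟨ι₁ ⊕ ι₂, Sum.elim ξ₁ ξ₂, fun j => Sum.rec (motive := fun j => X.residueField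
    (Sum.elim ξ₁ ξ₂ j)) f₁ f₂ j, ?_, ?_, ?_, ?_⟩
  · rintro (j | j)
    · exact hξ₁ j
    · exact hξ₂ j
  · rintro (j | j)
    · exact hf₁ j
    · exact hf₂ j
  · intro x
    obtain ⟨U₁, hU₁, hx₁, hfin₁⟩ := hlf₁ x
    obtain ⟨U₂, hU₂, hx₂, hfin₂⟩ := hlf₂ x
    refine ⟨U₁ ∩ U₂, hU₁.inter hU₂, ⟨hx₁, hx₂⟩, ?_⟩
    refine ((hfin₁.image Sum.inl).union (hfin₂.image Sum.inr)).subset ?_
    rintro (j | j) ⟨y, hy1, hy2⟩
    · exact Or.inl ⟨j, ⟨y, hy1, hy2.1⟩, rfl⟩
    · exact Or.inr ⟨j, ⟨y, hy1, hy2.2⟩, rfl⟩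
  · intro x
    rw [finsum_sum_type _ (family_divFun_support_finite δ ξ₁ f₁ hlf₁ x)
      (family_divFun_support_finite δ ξ₂ f₂ hlf₂ x)]
    change a x + b x = _
    rw [hs₁ x, hs₂ x]
    rfl

theorem ratEquivZero_zsmul (δ : X → ℤ) (hX : Cyc.IsSetup X δ) (k : ℤ) (n : ℤ)
    (a : AlgebraicCycle X ℤ) (ha : Cyc.RatEquivZero δ k a) : Cyc.RatEquivZero δ k (n • a) := by
  obtain ⟨ι, ξ, f, hξ, hf, hlf, hs⟩ := ha
  refine ⟨ι, ξ, fun j => f j ^ n, hξ, fun j => zpow_ne_zero _ (hf j), hlf, ?_⟩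
  intro x
  have e : ∀ j, Cyc.divFun δ (ξ j) (f j ^ n) x = n * Cyc.divFun δ (ξ j) (f j) x :=
    fun j => divFun_zpow δ hX (ξ j) x (hf j) n
  rw [finsum_congr e]
  have h2 := mul_finsum (fun j => Cyc.divFun δ (ξ j) (f j) x) n
  rw [← h2, ← hs x]
  rfl

theorem ratEquivZero_finset_sum (δ : X → ℤ) (hX : Cyc.IsSetup X δ) (k : ℤ) {ι : Type*}
    (F : Finset ι) (n : ι → ℤ) (a : ι → AlgebraicCycle X ℤ)
    (ha : ∀ j ∈ F, Cyc.RatEquivZero δ k (a j)) :
    Cyc.RatEquivZero δ k (∑ j ∈ F, n j • a j) := by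
  classical
  induction F using Finset.induction_on with
  | empty => rw [Finset.sum_empty]; exact ratEquivZero_zero δ k
  | insert j F hj ih =>
    rw [Finset.sum_insert hj]
    exact ratEquivZero_add δ k _ _
      (ratEquivZero_zsmul δ hX k (n j) (a j) (ha j (Finset.mem_insert_self j F)))
      (ih (fun j' hj' => ha j' (Finset.mem_insert_of_mem hj')))

end Part6

section Part7

open AlgebraicGeometry CategoryTheory TopologicalSpace IsLocalRing Opposite CategoryTheory.Limits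
  Groth.Agent.Lib.R2H1.ProperPushRat Groth.Agent.Lib.R2H1.BivarC1 Groth.Agent.Lib.R2H1.RelDimBC
  Groth.Agent.Lib.R2H1.PerfCyc Groth.Agent.Lib.Helper4.DimFormula Groth.Agent.Lib.R2H1.FlatPullRat
  Groth.Agent.Lib.R2H1.BivarFlat Groth.Agent.Lib.R2H1.PullInv Groth.Agent.Lib.R2H1.RatEquivClosed Groth.Agent.Lib.R2H1.PullbackKer

variable {K : Type u} [Field K] {X Y P : Scheme.{u}}

variable (f : X ⟶ Spec (CommRingCat.of K)) (g : Y ⟶ Spec (CommRingCat.of K))
  [LocallyOfFiniteType f] [LocallyOfFiniteType g]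
  (q₁ : P ⟶ X) (q₂ : P ⟶ Y) (hP : IsPullback q₁ q₂ f g)

open Classical in
include hP in
/-- the exterior product of a cycle rationally equivalent to zero with a prime cycle is
rationally equivalent to zero. -/
theorem ratEquivZero_extP_single (δX : X → ℤ) (δY : Y → ℤ) (δP : P → ℤ) (hXs : Cyc.IsSetup X δX)
    (hPs : Cyc.IsSetup P δP) (hYd : Cyc.IsDimFun Y δY)
    (hY : Cyc.DeltaCompat g δY (fun _ => 0)) (hP1 : Cyc.DeltaCompat q₁ δP δX) (η : Y) (s : ℕ)
    (hs : (s : ℤ) = δY η) (r : ℤ) (α : AlgebraicCycle X ℤ) (hα : α ∈ Cyc.Zk X δX r)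
    (h0 : Cyc.RatEquivZero δX r α) (γ : AlgebraicCycle P ℤ)
    (hγ : ⇑γ = extP q₁ q₂ δX δY δP α (fun y => if y = η then 1 else 0)) :
    Cyc.RatEquivZero δP (r + s) γ := by
  haveI := flat_pV f g q₁ q₂ hP η
  haveI := lft_pV f g q₁ q₂ hP η
  have hsetup := isSetup_of_closedImmersion (pullback.fst q₂ (ptι Y η)) hPs
  obtain ⟨θ, hθ, hθk⟩ := exists_pull (fun z' => δP (pullback.fst q₂ (ptι Y η) z')) δX hsetup
    (pullback.fst q₂ (ptι Y η) ≫ q₁) s (relDim_pV f g q₁ q₂ hP δY hY η s hs)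
    (compat_pV q₁ q₂ δX δP hP1 η) r α hα
  have h1 : Cyc.RatEquivZero (fun z' => δP (pullback.fst q₂ (ptι Y η) z')) (r + s) θ :=
    main1940 X _ δX _ hXs hsetup (pullback.fst q₂ (ptι Y η) ≫ q₁) (s : ℤ)
      (shift_of _ δX (pullback.fst q₂ (ptι Y η) ≫ q₁) s (relDim_pV f g q₁ q₂ hP δY hY η s hs)
        (compat_pV q₁ q₂ δX δP hP1 η)) r α h0 θ hθ
  have h2 := Groth.Agent.Lib.R2H1.ProperPushRat.main _ P
    (fun z' => δP (pullback.fst q₂ (ptι Y η) z')) δP hsetup hPs (pullback.fst q₂ (ptι Y η))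
    (deltaCompat_closedImmersion _ δP) (r + s) θ 0 (by unfold Cyc.RatEquiv; rwa [sub_zero])
  unfold Cyc.RatEquiv at h2
  rw [Bivar.cycMap_zero, sub_zero] at h2
  have e : γ = AlgebraicCycle.map (pullback.fst q₂ (ptι Y η))
      (fun z' => δP (pullback.fst q₂ (ptι Y η) z')) δP θ := by
    ext z
    rw [extP_single f g q₁ q₂ hP δX δY δP hPs hYd hY hP1 η s hs α θ hθ z]
    exact congrFun hγ z
  rw [e]
  exact h2

end Part7

section Part8

open AlgebraicGeometry CategoryTheory TopologicalSpace IsLocalRing Opposite CategoryTheory.Limits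
  Groth.Agent.Lib.R2H1.ProperPushRat Groth.Agent.Lib.R2H1.BivarC1 Groth.Agent.Lib.R2H1.RelDimBC
  Groth.Agent.Lib.R2H1.PerfCyc Groth.Agent.Lib.Helper4.DimFormula Groth.Agent.Lib.R2H1.FlatPullRat
  Groth.Agent.Lib.R2H1.BivarFlat Groth.Agent.Lib.R2H1.PullInv Groth.Agent.Lib.R2H1.RatEquivClosed Groth.Agent.Lib.R2H1.PullbackKer

variable {K : Type u} [Field K] {X Y P : Scheme.{u}}

theorem finite_support [CompactSpace Y] (β : AlgebraicCycle Y ℤ) :
    (Function.support ⇑β).Finite := by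
  have h := (Function.locallyFinsupp.locallyFiniteSupport β).finite_inter_support_of_isCompact
    isCompact_univ
  rwa [Set.univ_inter] at h

variable (f : X ⟶ Spec (CommRingCat.of K)) (g : Y ⟶ Spec (CommRingCat.of K))
  [LocallyOfFiniteType f] [LocallyOfFiniteType g]
  (q₁ : P ⟶ X) (q₂ : P ⟶ Y) (hP : IsPullback q₁ q₂ f g)

open Classical in
include hP in
/-- the exterior product with a cycle rationally equivalent to zero on the left is rationally
equivalent to zero. -/
theorem ratEquivZero_extP_left [CompactSpace Y] (δX : X → ℤ) (δY : Y → ℤ) (δP : P → ℤ)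
    (hXs : Cyc.IsSetup X δX) (hPs : Cyc.IsSetup P δP) (hYd : Cyc.IsDimFun Y δY)
    (hY : Cyc.DeltaCompat g δY (fun _ => 0)) (hP1 : Cyc.DeltaCompat q₁ δP δX) (r s : ℤ)
    (α : AlgebraicCycle X ℤ) (hα : α ∈ Cyc.Zk X δX r) (h0 : Cyc.RatEquivZero δX r α)
    (β : AlgebraicCycle Y ℤ) (hβ : β ∈ Cyc.Zk Y δY s) (γ : AlgebraicCycle P ℤ)
    (hγ : ⇑γ = extP q₁ q₂ δX δY δP α β) : Cyc.RatEquivZero δP (r + s) γ := by
  have hc : ∀ η : Y, ∃ c : AlgebraicCycle P ℤ,
      ⇑c = extP q₁ q₂ δX δY δP α (fun y => if y = η then 1 else 0) ∧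
      Cyc.RatEquivZero δP (r + δY η) c := by
    intro η
    obtain ⟨n, -, hn⟩ := hY η
    have hs : ((n : ℕ) : ℤ) = δY η := by simp only [] at hn; omega
    haveI := flat_pV f g q₁ q₂ hP η
    haveI := lft_pV f g q₁ q₂ hP η
    have hsetup := isSetup_of_closedImmersion (pullback.fst q₂ (ptι Y η)) hPs
    obtain ⟨θ, hθ, -⟩ := exists_pull (fun z' => δP (pullback.fst q₂ (ptι Y η) z')) δX hsetup
      (pullback.fst q₂ (ptι Y η) ≫ q₁) n (relDim_pV f g q₁ q₂ hP δY hY η n hs)
      (compat_pV q₁ q₂ δX δP hP1 η) r α hα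
    have hcoef : ⇑(AlgebraicCycle.map (pullback.fst q₂ (ptι Y η))
        (fun z' => δP (pullback.fst q₂ (ptι Y η) z')) δP θ) =
        extP q₁ q₂ δX δY δP α (fun y => if y = η then 1 else 0) :=
      funext (fun z => extP_single f g q₁ q₂ hP δX δY δP hPs hYd hY hP1 η n hs α θ hθ z)
    refine ⟨_, hcoef, ?_⟩
    rw [← hs]
    exact ratEquivZero_extP_single f g q₁ q₂ hP δX δY δP hXs hPs hYd hY hP1 η n hs r α hα h0 _
      hcoef
  choose c hc1 hc2 using hc
  have hfin := finite_support β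
  have e : γ = ∑ η ∈ hfin.toFinset, β η • c η := by
    ext z
    rw [Function.locallyFinsuppWithin.coe_sum, Finset.sum_apply, hγ]
    have e1 : ∀ η ∈ hfin.toFinset, (β η • c η) z =
        if q₂ z = η then extP q₁ q₂ δX δY δP α β z else 0 := by
      intro η _
      rw [Function.locallyFinsuppWithin.coe_zsmul, Pi.smul_apply, hc1 η]
      unfold extP
      simp only [smul_eq_mul]
      by_cases h : q₂ z = η
      · subst h
        rw [if_pos rfl, if_pos rfl]
        split_ifs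
        · ring
        · ring
      · rw [if_neg h, if_neg h]
        simp
    rw [Finset.sum_congr rfl e1, Finset.sum_ite_eq]
    split_ifs with hmem
    · rfl
    · have : β (q₂ z) = 0 := by
        by_contra hne
        exact hmem (hfin.mem_toFinset.2 hne)
      unfold extP
      simp only [this, mul_zero, zero_mul, ite_self]
  rw [e]
  refine ratEquivZero_finset_sum δP hPs (r + s) _ (fun η => β η) c ?_
  intro η hη
  have hne : β η ≠ 0 := hfin.mem_toFinset.1 hη
  have hδ : δY η = s := by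
    by_contra hne'
    exact hne (hβ η hne')
  rw [← hδ]
  exact hc2 η

open Classical in
include hP in
/-- the exterior product with a cycle rationally equivalent to zero on the right is rationally
equivalent to zero. -/
theorem ratEquivZero_extP_right [CompactSpace X] (δX : X → ℤ) (δY : Y → ℤ) (δP : P → ℤ)
    (hYs : Cyc.IsSetup Y δY) (hPs : Cyc.IsSetup P δP) (hXd : Cyc.IsDimFun X δX)
    (hX : Cyc.DeltaCompat f δX (fun _ => 0)) (hP2 : Cyc.DeltaCompat q₂ δP δY) (r s : ℤ)
    (α : AlgebraicCycle X ℤ) (hα : α ∈ Cyc.Zk X δX r)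
    (β : AlgebraicCycle Y ℤ) (hβ : β ∈ Cyc.Zk Y δY s) (h0 : Cyc.RatEquivZero δY s β)
    (γ : AlgebraicCycle P ℤ)
    (hγ : ⇑γ = extP q₁ q₂ δX δY δP α β) : Cyc.RatEquivZero δP (r + s) γ := by
  rw [add_comm]
  exact ratEquivZero_extP_left g f q₂ q₁ hP.flip δY δX δP hYs hPs hXd hX hP2 s r β hβ h0 α hα γ
    (by rw [hγ, extP_symm])

end Part8

end Groth.Agent.Lib.R2H1.ExtProd
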