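/-
Clopen decompositions and Chow groups / bivariant classes (S17578): restriction of cycles and classes along open immersions (resCyc, resCH), CH of a scheme with a clopen cover is the product of the CH of the pieces (ratEquivZero_of_clopen_cover, exists_glueCyc, glueEquiv, eq_of_resCH_eq), compatibility of restriction with proper push, flat pull and Gysin maps (resCyc_map, resCyc_pull, gysCH_res), pieces of squares (pc, pu, hY, hX, mY, mX), res_injective, glueCl, main17578.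
-/
import Mathlib
import Groth.Prelude
import Groth.Agent.Lib.R2H1BivarGysin
import Groth.Agent.Lib.R2H1ExtProd
import Groth.Agent.Lib.R2H1BivarEnv
import Groth.Agent.Lib.R2H1IsoTransport

set_option autoImplicit false
set_option linter.style.haveILetI false
set_option linter.unusedSectionVars false
universe u v

namespace Groth.Agent.Lib.R2H1.Clopen

section Part1

open AlgebraicGeometry CategoryTheory TopologicalSpace IsLocalRing Opposite CategoryTheory.Limits
  Groth.Agent.Lib.R2H1.RelDimBC Groth.Agent.Lib.R2H1.PerfCyc Groth.Agent.Lib.Helper4.DimFormula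
  Groth.Agent.Lib.R2H1.FlatPullRat Groth.Agent.Lib.R2H1.BivarFlat
  Groth.Agent.Lib.R2H1.MVClosed Groth.Agent.Lib.R2H1.ChowDesc Groth.Agent.Lib.R2H1.ExtProd
  Groth.Agent.Lib.R2H1.C1Chow

variable {U S : Scheme.{u}}

section OpenImm

variable (h : U ⟶ S) [IsOpenImmersion h]

theorem residueFieldMap_surjective (a : U) :
    Function.Surjective (h.residueFieldMap a).hom :=
  (ConcreteCategory.bijective_of_isIso (h.residueFieldMap a)).2

/-- the induced dimension function along an open immersion is the restriction. -/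
theorem delta_openImmersion (δU : U → ℤ) (δS : S → ℤ) (hδ : Cyc.DeltaCompat h δU δS) (a : U) :
    δU a = δS (h a) := by
  rw [deltaCompat_iff] at hδ
  obtain ⟨n, hn, hδn⟩ := hδ a
  rw [resTrdeg_eq_zero_of_surjective h a (residueFieldMap_surjective h a)] at hn
  have : n = 0 := by exact_mod_cast hn.symm
  rw [hδn, this]
  simp

theorem deltaCompat_openImmersion (δS : S → ℤ) : Cyc.DeltaCompat h (fun a => δS (h a)) δS := by
  rw [deltaCompat_iff]
  intro a
  exact ⟨0, by rw [resTrdeg_eq_zero_of_surjective h a (residueFieldMap_surjective h a)]; simp,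
    by simp⟩

/-- an open immersion has relative dimension zero. -/
theorem hasRelDim_openImmersion : Cyc.HasRelDim h 0 := by
  intro y T hT
  obtain ⟨x', -, hmax, hdim⟩ := exists_point_of_mem_irreducibleComponents h y T hT
  rw [hdim]
  have h1 := resTrdeg_eq_ptTrdeg h x'
  rw [resTrdeg_eq_zero_of_surjective h x' (residueFieldMap_surjective h x')] at h1
  have h2 : ptTrdeg h x' = 0 := by exact_mod_cast h1.symm
  rw [h2]

/-- the fibre multiplicity of an open immersion is one. -/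
theorem mult_openImmersion (a : U) : mult h a = 1 := by
  apply Groth.Agent.Lib.R2H1.CycLimB.mult_eq_one
  intro m hm
  have hbij : Function.Bijective (h.stalkMap a).hom :=
    ConcreteCategory.bijective_of_isIso (h.stalkMap a)
  obtain ⟨n, rfl⟩ := hbij.2 m
  apply Ideal.mem_map_of_mem
  rw [mem_maximalIdeal, mem_nonunits_iff] at hm ⊢
  intro hn
  exact hm (hn.map _)

/-- flat pullback along an open immersion is restriction. -/
theorem pullFun_openImmersion (δU : U → ℤ) (δS : S → ℤ) (hδ : Cyc.DeltaCompat h δU δS)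
    (α : S → ℤ) : Cyc.pullFun h δU δS 0 α = fun a => α (h a) := by
  funext a
  rw [pullFun_eq, if_pos (by rw [delta_openImmersion h δU δS hδ a]; ring), mult_openImmersion]
  simp

/-- the restriction of a cycle along an open immersion. -/
noncomputable def resCyc (α : AlgebraicCycle S ℤ) : AlgebraicCycle U ℤ where
  toFun a := α (h a)
  supportWithinDomain' := fun _ _ => Set.mem_univ _
  supportLocallyFiniteWithinDomain' := by
    intro a _
    obtain ⟨t, ht, hfin⟩ := α.supportLocallyFiniteWithinDomain' (h a) (Set.mem_univ _)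
    refine ⟨h ⁻¹' t, h.continuous.continuousAt.preimage_mem_nhds ht, ?_⟩
    have hinj : Function.Injective h := h.isOpenEmbedding.injective
    refine (hfin.preimage (hinj.injOn)).subset ?_
    rintro b ⟨hb1, hb2⟩
    exact ⟨hb1, hb2⟩

@[simp] theorem resCyc_apply (α : AlgebraicCycle S ℤ) (a : U) : resCyc h α a = α (h a) := rfl

theorem resCyc_add (α β : AlgebraicCycle S ℤ) : resCyc h (α + β) = resCyc h α + resCyc h β := by
  ext a; rfl

theorem resCyc_zero : resCyc h (0 : AlgebraicCycle S ℤ) = 0 := by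
  ext a; rfl

theorem resCyc_sub (α β : AlgebraicCycle S ℤ) : resCyc h (α - β) = resCyc h α - resCyc h β := by
  ext a; rfl

theorem resCyc_mem_Zk (δU : U → ℤ) (δS : S → ℤ) (hδ : Cyc.DeltaCompat h δU δS) (k : ℤ)
    (α : AlgebraicCycle S ℤ) (hα : α ∈ Cyc.Zk S δS k) : resCyc h α ∈ Cyc.Zk U δU k := by
  intro a ha
  rw [delta_openImmersion h δU δS hδ a] at ha
  exact hα (h a) ha

theorem coe_resCyc (δU : U → ℤ) (δS : S → ℤ) (hδ : Cyc.DeltaCompat h δU δS)
    (α : AlgebraicCycle S ℤ) : ⇑(resCyc h α) = Cyc.pullFun h δU δS 0 ⇑α := by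
  rw [pullFun_openImmersion h δU δS hδ]
  rfl

/-- restriction along an open immersion preserves rational equivalence to zero. -/
theorem ratEquivZero_resCyc (δU : U → ℤ) (δS : S → ℤ) (hS : Cyc.IsSetup S δS)
    (hU : Cyc.IsSetup U δU) (hδ : Cyc.DeltaCompat h δU δS) (k : ℤ) (α : AlgebraicCycle S ℤ)
    (h0 : Cyc.RatEquivZero δS k α) : Cyc.RatEquivZero δU k (resCyc h α) := by
  have h1 := main1940 S U δS δU hS hU h 0
    (fun a _ => by rw [delta_openImmersion h δU δS hδ a]; ring) k α h0 (resCyc h α)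
    (coe_resCyc h δU δS hδ α)
  rwa [add_zero] at h1

end OpenImm

/-- cycles whose class vanishes are rationally equivalent to zero. -/
theorem ratEquivZero_of_cl_eq_zero {δ : S → ℤ} {k : ℤ} {α : AlgebraicCycle S ℤ}
    (hα : α ∈ Cyc.Zk S δ k) (h : ChowOps.cl α hα = 0) : Cyc.RatEquivZero δ k α := by
  unfold ChowOps.cl ChowOps.clHom at h
  rw [QuotientAddGroup.mk'_apply, QuotientAddGroup.eq_zero_iff] at h
  unfold ChowOps.ratTriv at h
  have key : ∀ a : ↥(ChowOps.zk S δ k), a ∈ AddSubgroup.closure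
      {a : ↥(ChowOps.zk S δ k) | Cyc.RatEquivZero δ k (a : AlgebraicCycle S ℤ)} →
      Cyc.RatEquivZero δ k (a : AlgebraicCycle S ℤ) := by
    intro a ha
    induction ha using AddSubgroup.closure_induction with
    | mem x hx => exact hx
    | zero => exact ratEquivZero_zero δ k
    | add x y _ _ hx hy => exact ratEquivZero_add δ k _ _ hx hy
    | neg x _ hx => exact ratEquivZero_neg hx
  exact key ⟨α, hα⟩ h

theorem ratEquiv_of_cl_eq {δ : S → ℤ} {k : ℤ} {α β : AlgebraicCycle S ℤ}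
    (hα : α ∈ Cyc.Zk S δ k) (hβ : β ∈ Cyc.Zk S δ k) (h : ChowOps.cl α hα = ChowOps.cl β hβ) :
    Cyc.RatEquiv δ k α β := by
  unfold Cyc.RatEquiv
  have hsub : α - β ∈ Cyc.Zk S δ k := (ChowOps.zk S δ k).sub_mem hα hβ
  apply ratEquivZero_of_cl_eq_zero hsub
  have : ChowOps.cl (α - β) hsub = ChowOps.cl α hα - ChowOps.cl β hβ := by
    unfold ChowOps.cl
    rw [← map_sub]
    rfl
  rw [this, h, sub_self]

end Part1

section Part2

open AlgebraicGeometry CategoryTheory TopologicalSpace IsLocalRing Opposite CategoryTheory.Limits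
  Groth.Agent.Lib.R2H1.RelDimBC Groth.Agent.Lib.R2H1.PerfCyc Groth.Agent.Lib.Helper4.DimFormula
  Groth.Agent.Lib.R2H1.FlatPullRat Groth.Agent.Lib.R2H1.BivarFlat
  Groth.Agent.Lib.R2H1.MVClosed Groth.Agent.Lib.R2H1.ChowDesc Groth.Agent.Lib.R2H1.ExtProd
  Groth.Agent.Lib.R2H1.C1Chow Groth.Agent.Lib.R2H1.RatEquivClosed

section ResCH

variable {U S : Scheme.{u}} (h : U ⟶ S) [IsOpenImmersion h]

/-- restriction on the groups of `k`-cycles. -/
noncomputable def resZk (δU : U → ℤ) (δS : S → ℤ) (hδ : Cyc.DeltaCompat h δU δS) (k : ℤ) :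
    ↥(ChowOps.zk S δS k) →+ ↥(ChowOps.zk U δU k) where
  toFun a := ⟨resCyc h a.1, resCyc_mem_Zk h δU δS hδ k a.1 a.2⟩
  map_zero' := Subtype.ext (resCyc_zero h)
  map_add' a b := Subtype.ext (resCyc_add h a.1 b.1)

theorem resZk_mem_ratTriv {δU : U → ℤ} {δS : S → ℤ} (hS : Cyc.IsSetup S δS)
    (hU : Cyc.IsSetup U δU) (hδ : Cyc.DeltaCompat h δU δS) (k : ℤ) :
    ChowOps.ratTriv S δS k ≤ ((ChowOps.clHom U δU k).comp (resZk h δU δS hδ k)).ker := by
  unfold ChowOps.ratTriv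
  rw [AddSubgroup.closure_le]
  intro a ha
  change Cyc.RatEquivZero δS k (a : AlgebraicCycle S ℤ) at ha
  rw [SetLike.mem_coe, AddMonoidHom.mem_ker]
  change ChowOps.clHom U δU k (resZk h δU δS hδ k a) = 0
  unfold ChowOps.clHom
  rw [QuotientAddGroup.mk'_apply, QuotientAddGroup.eq_zero_iff]
  apply AddSubgroup.subset_closure
  exact ratEquivZero_resCyc h δU δS hS hU hδ k a.1 ha

/-- restriction on Chow groups along an open immersion. -/
noncomputable def resCH {δU : U → ℤ} {δS : S → ℤ} (hS : Cyc.IsSetup S δS)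
    (hU : Cyc.IsSetup U δU) (hδ : Cyc.DeltaCompat h δU δS) (k : ℤ) :
    ChowOps.CH S δS k →+ ChowOps.CH U δU k :=
  QuotientAddGroup.lift (ChowOps.ratTriv S δS k)
    ((ChowOps.clHom U δU k).comp (resZk h δU δS hδ k)) (resZk_mem_ratTriv h hS hU hδ k)

theorem resCH_cl {δU : U → ℤ} {δS : S → ℤ} (hS : Cyc.IsSetup S δS)
    (hU : Cyc.IsSetup U δU) (hδ : Cyc.DeltaCompat h δU δS) (k : ℤ)
    (α : AlgebraicCycle S ℤ) (hα : α ∈ Cyc.Zk S δS k) :
    resCH h hS hU hδ k (ChowOps.cl α hα) =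
      ChowOps.cl (resCyc h α) (resCyc_mem_Zk h δU δS hδ k α hα) := rfl

end ResCH

section Cover

variable {X : Scheme.{u}} {J : Type u} {U : J → Scheme.{u}} (ι : ∀ j, U j ⟶ X)
  [∀ j, IsOpenImmersion (ι j)]
  (hdisj : ∀ j j' : J, j ≠ j' → Disjoint (Set.range (ι j)) (Set.range (ι j')))
  (hcov : ∀ x : X, ∃ j, x ∈ Set.range (ι j))

include hdisj in
theorem index_eq {j j' : J} {a : U j} {a' : U j'} (h : ι j a = ι j' a') : j = j' := by
  by_contra hne
  exact Set.disjoint_left.1 (hdisj j j' hne) ⟨a, rfl⟩ ⟨a', h.symm⟩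

include hdisj hcov in
theorem isClosed_range (j : J) : IsClosed (Set.range (ι j)) := by
  have : Set.range (ι j) = (⋃ j' ∈ {j' | j' ≠ j}, Set.range (ι j'))ᶜ := by
    ext x
    simp only [Set.mem_compl_iff, Set.mem_iUnion, not_exists]
    constructor
    · rintro ⟨a, rfl⟩ j' hj' ⟨a', ha'⟩
      exact hj' (index_eq ι hdisj ha')
    · intro hx
      obtain ⟨j', a', rfl⟩ := hcov x
      by_cases hj : j' = j
      · subst hj; exact ⟨a', rfl⟩
      · exact absurd ⟨a', rfl⟩ (hx j' hj)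
  rw [this, isClosed_compl_iff]
  exact isOpen_biUnion (fun j' _ => (ι j').isOpenEmbedding.isOpen_range)

include hdisj hcov in
theorem index_eq_of_specializes {j j' : J} {a : U j} {a' : U j'} (h : ι j a ⤳ ι j' a') :
    j = j' := by
  have hmem : ι j' a' ∈ Set.range (ι j) :=
    (isClosed_range ι hdisj hcov j).closure_subset_iff.mpr
      (Set.singleton_subset_iff.mpr ⟨a, rfl⟩) (specializes_iff_mem_closure.mp h)
  obtain ⟨b, hb⟩ := hmem
  exact index_eq ι hdisj hb

include hdisj hcov in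
/-- a cycle that is rationally equivalent to zero on every piece of a clopen cover is rationally
equivalent to zero. -/
theorem ratEquivZero_of_clopen_cover (δ : X → ℤ) (k : ℤ) (θ : AlgebraicCycle X ℤ)
    (h : ∀ j, Cyc.RatEquivZero (fun a => δ (ι j a)) k (resCyc (ι j) θ)) :
    Cyc.RatEquivZero δ k θ := by
  classical
  choose I ξ f hξ hf hlf hs using h
  let eK : ∀ j (i : I j), X.residueField (ι j (ξ j i)) ≃+* (U j).residueField (ξ j i) :=
    fun j i => RingEquiv.ofBijective ((ι j).residueFieldMap (ξ j i)).hom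
      (ConcreteCategory.bijective_of_isIso ((ι j).residueFieldMap (ξ j i)))
  have heK : ∀ j i a, ((ι j).residueFieldMap (ξ j i)).hom ((eK j i).symm a) = a :=
    fun j i a => (eK j i).apply_symm_apply a
  refine ⟨Σ j, I j, fun a => ι a.1 (ξ a.1 a.2), fun a => (eK a.1 a.2).symm (f a.1 a.2),
    fun a => hξ a.1 a.2, ?_, ?_, ?_⟩
  · intro a h0
    apply hf a.1 a.2
    have h' : (eK a.1 a.2).symm (f a.1 a.2) = 0 := h0
    rw [← heK a.1 a.2 (f a.1 a.2), h', map_zero]
  · intro x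
    obtain ⟨j, y, rfl⟩ := hcov x
    obtain ⟨W, hW, hyW, hfin⟩ := hlf j y
    refine ⟨ι j '' W, (ι j).isOpenEmbedding.isOpenMap W hW, ⟨y, hyW, rfl⟩, ?_⟩
    refine (hfin.image (Sigma.mk j)).subset ?_
    rintro ⟨j', i⟩ ⟨x', hx'1, ⟨w, hwW, rfl⟩⟩
    have hsp : ι j' (ξ j' i) ⤳ ι j w := specializes_iff_mem_closure.mpr hx'1
    obtain rfl : j' = j := index_eq_of_specializes ι hdisj hcov hsp
    have hsp' : ξ j' i ⤳ w := (ι j').isOpenEmbedding.isInducing.specializes_iff.mp hsp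
    exact ⟨i, ⟨w, specializes_iff_mem_closure.mp hsp', hwW⟩, rfl⟩
  · intro x
    obtain ⟨j, y, rfl⟩ := hcov x
    have e1 : θ (ι j y) = ∑ᶠ i, Cyc.divFun (fun a => δ (ι j a)) (ξ j i) (f j i) y := hs j y
    rw [e1]
    let g : (Σ j, I j) → ℤ := fun a =>
      Cyc.divFun δ (ι a.1 (ξ a.1 a.2)) ((eK a.1 a.2).symm (f a.1 a.2)) (ι j y)
    have hsupp : ∀ a, g a ≠ 0 → a ∈ Set.range (Sigma.mk j : I j → Σ j, I j) := by
      rintro ⟨j', i⟩ hne
      have hsp := (divFun_ne_zero_specializes hne).1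
      obtain rfl : j' = j := index_eq_of_specializes ι hdisj hcov hsp
      exact ⟨i, rfl⟩
    have e2 : ∑ᶠ a, g a = ∑ᶠ a ∈ Set.range (Sigma.mk j : I j → Σ j, I j), g a := by
      rw [← finsum_mem_univ g]
      apply finsum_mem_inter_support_eq'
      intro a ha
      simp only [Set.mem_univ, true_iff]
      exact hsupp a ha
    have e3 : ∑ᶠ a ∈ Set.range (Sigma.mk j : I j → Σ j, I j), g a = ∑ᶠ i, g ⟨j, i⟩ :=
      finsum_mem_range sigma_mk_injective
    change _ = ∑ᶠ a, g a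
    rw [e2, e3]
    refine finsum_congr (fun i => ?_)
    change _ = Cyc.divFun δ (ι j (ξ j i)) ((eK j i).symm (f j i)) (ι j y)
    rw [← divFun_preimmersion (ι j) δ (ξ j i) y ((eK j i).symm (f j i)), heK]

include hdisj hcov in
/-- cycles on the pieces of a clopen cover glue. -/
theorem exists_glueCyc (a : ∀ j, AlgebraicCycle (U j) ℤ) :
    ∃ θ : AlgebraicCycle X ℤ, ∀ j (y : U j), θ (ι j y) = a j y := by
  classical
  choose jx yx hyx using hcov
  have key : ∀ j (y : U j), a (jx (ι j y)) (yx (ι j y)) = a j y := by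
    intro j y
    have h1 : ι (jx (ι j y)) (yx (ι j y)) = ι j y := hyx (ι j y)
    have h2 : jx (ι j y) = j := index_eq ι hdisj h1
    obtain ⟨j₀, hj₀⟩ : ∃ j₀, jx (ι j y) = j₀ := ⟨_, rfl⟩
    obtain ⟨y₀, hy₀⟩ : ∃ y₀ : U (jx (ι j y)), yx (ι j y) = y₀ := ⟨_, rfl⟩
    rw [hy₀] at h1 ⊢
    clear hy₀
    revert y₀
    rw [h2]
    intro y₀ h1
    rw [(ι j).isOpenEmbedding.injective h1]
  refine ⟨⟨fun x => a (jx x) (yx x), fun _ _ => Set.mem_univ _, ?_⟩, key⟩
  intro x _
  obtain ⟨j, y, rfl⟩ : ∃ j y, ι j y = x := ⟨jx x, yx x, hyx x⟩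
  obtain ⟨t, ht, hfin⟩ := (a j).supportLocallyFiniteWithinDomain' y (Set.mem_univ _)
  refine ⟨ι j '' t, (ι j).isOpenEmbedding.isOpenMap.image_mem_nhds ht, ?_⟩
  refine (hfin.image (ι j)).subset ?_
  rintro x' ⟨⟨w, hwt, rfl⟩, hx'⟩
  refine ⟨w, ⟨hwt, ?_⟩, rfl⟩
  rw [Function.mem_support] at hx' ⊢
  rwa [key j w] at hx'

end Cover

end Part2

section Part3

open AlgebraicGeometry CategoryTheory TopologicalSpace IsLocalRing Opposite CategoryTheory.Limits
  Groth.Agent.Lib.R2H1.RelDimBC Groth.Agent.Lib.R2H1.PerfCyc Groth.Agent.Lib.Helper4.DimFormula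
  Groth.Agent.Lib.R2H1.FlatPullRat Groth.Agent.Lib.R2H1.BivarFlat
  Groth.Agent.Lib.R2H1.MVClosed Groth.Agent.Lib.R2H1.ChowDesc Groth.Agent.Lib.R2H1.ExtProd
  Groth.Agent.Lib.R2H1.C1Chow Groth.Agent.Lib.R2H1.RatEquivClosed Bivar

variable {X : Scheme.{u}} {J : Type u} {U : J → Scheme.{u}} (ι : ∀ j, U j ⟶ X)
  [∀ j, IsOpenImmersion (ι j)]
  (hdisj : ∀ j j' : J, j ≠ j' → Disjoint (Set.range (ι j)) (Set.range (ι j')))
  (hcov : ∀ x : X, ∃ j, x ∈ Set.range (ι j))
  {δ : X → ℤ} (hX : Cyc.IsSetup X δ) {δU : ∀ j, U j → ℤ} (hU : ∀ j, Cyc.IsSetup (U j) (δU j))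
  (hδ : ∀ j, Cyc.DeltaCompat (ι j) (δU j) δ)

/-- the family of all restrictions to the pieces of a cover. -/
noncomputable def resAll (k : ℤ) : ChowOps.CH X δ k →+ ∀ j, ChowOps.CH (U j) (δU j) k :=
  AddMonoidHom.pi (fun j => resCH (ι j) hX (hU j) (hδ j) k)

theorem resAll_apply (k : ℤ) (x : ChowOps.CH X δ k) (j : J) :
    resAll ι hX hU hδ k x j = resCH (ι j) hX (hU j) (hδ j) k x := rfl

include hdisj hcov in
theorem resAll_injective (k : ℤ) : Function.Injective (resAll ι hX hU hδ k) := by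
  rw [injective_iff_map_eq_zero]
  intro x hx
  obtain ⟨θ, hθ, rfl⟩ := exists_rep x
  apply cl_eq_zero_of_ratEquivZero
  apply ratEquivZero_of_clopen_cover ι hdisj hcov δ k θ
  intro j
  have h1 : resCH (ι j) hX (hU j) (hδ j) k (ChowOps.cl θ hθ) = 0 := congrFun hx j
  rw [resCH_cl] at h1
  have h2 := ratEquivZero_of_cl_eq_zero _ h1
  have e : δU j = fun a => δ (ι j a) := funext (delta_openImmersion (ι j) (δU j) δ (hδ j))
  rwa [e] at h2

include hdisj hcov in
theorem resAll_surjective (k : ℤ) : Function.Surjective (resAll ι hX hU hδ k) := by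
  intro y
  have hrep : ∀ j, ∃ (a : AlgebraicCycle (U j) ℤ) (ha : a ∈ Cyc.Zk (U j) (δU j) k),
      ChowOps.cl a ha = y j := fun j => exists_rep (y j)
  choose a ha hay using hrep
  obtain ⟨θ, hθ⟩ := exists_glueCyc ι hdisj hcov a
  have hθk : θ ∈ Cyc.Zk X δ k := by
    intro x hx
    obtain ⟨j, w, rfl⟩ := hcov x
    rw [hθ]
    apply ha j w
    rwa [delta_openImmersion (ι j) (δU j) δ (hδ j) w]
  refine ⟨ChowOps.cl θ hθk, ?_⟩
  funext j
  rw [resAll_apply, resCH_cl, ← hay j]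
  apply cl_congr
  ext w
  exact hθ j w

/-- the Chow group of a scheme with a clopen cover is the product of the Chow groups of the
pieces. -/
noncomputable def glueEquiv (k : ℤ) : ChowOps.CH X δ k ≃+ ∀ j, ChowOps.CH (U j) (δU j) k :=
  AddEquiv.ofBijective (resAll ι hX hU hδ k)
    ⟨resAll_injective ι hdisj hcov hX hU hδ k, resAll_surjective ι hdisj hcov hX hU hδ k⟩

theorem glueEquiv_apply (k : ℤ) (x : ChowOps.CH X δ k) (j : J) :
    glueEquiv ι hdisj hcov hX hU hδ k x j = resCH (ι j) hX (hU j) (hδ j) k x := rfl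

theorem resCH_glueEquiv_symm (k : ℤ) (y : ∀ j, ChowOps.CH (U j) (δU j) k) (j : J) :
    resCH (ι j) hX (hU j) (hδ j) k ((glueEquiv ι hdisj hcov hX hU hδ k).symm y) = y j := by
  rw [← glueEquiv_apply ι hdisj hcov hX hU hδ k, AddEquiv.apply_symm_apply]

include hdisj hcov in
/-- classes agreeing on all pieces of a clopen cover agree. -/
theorem eq_of_resCH_eq (k : ℤ) (x y : ChowOps.CH X δ k)
    (h : ∀ j, resCH (ι j) hX (hU j) (hδ j) k x = resCH (ι j) hX (hU j) (hδ j) k y) : x = y :=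
  resAll_injective ι hdisj hcov hX hU hδ k (funext h)

end Part3

section Part4

open AlgebraicGeometry CategoryTheory TopologicalSpace IsLocalRing Opposite CategoryTheory.Limits
  Groth.Agent.Lib.R2H1.RelDimBC Groth.Agent.Lib.R2H1.PerfCyc Groth.Agent.Lib.Helper4.DimFormula
  Groth.Agent.Lib.R2H1.FlatPullRat Groth.Agent.Lib.R2H1.BivarFlat
  Groth.Agent.Lib.R2H1.MVClosed Groth.Agent.Lib.R2H1.ChowDesc Groth.Agent.Lib.R2H1.ExtProd
  Groth.Agent.Lib.R2H1.C1Chow Groth.Agent.Lib.R2H1.RatEquivClosed Bivar Groth.Agent.Lib.R2H1.BivarEnv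

variable {X Y : Scheme.{u}} {f : X ⟶ Y} {δX : X → ℤ} {δY : Y → ℤ} {J : Type u}
  (s : J → Sq f δX δY)

/-- the inclusion of the piece of the test scheme. -/
noncomputable def hY (j : J) (t : Sq f δX δY) : pullback t.g (s j).g ⟶ t.Y' :=
  pullback.fst t.g (s j).g

/-- the inclusion of the piece of the fibre product. -/
noncomputable def hX (j : J) (t : Sq f δX δY) :
    pullback (pullback.fst t.g (s j).g) t.f' ⟶ t.X' :=
  pullback.snd (pullback.fst t.g (s j).g) t.f'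

theorem pg'_comm (j : J) (t : Sq f δX δY) :
    (pullback.fst (pullback.fst t.g (s j).g) t.f' ≫ pullback.snd t.g (s j).g) ≫ (s j).g =
      (pullback.snd (pullback.fst t.g (s j).g) t.f' ≫ t.g') ≫ f := by
  rw [Category.assoc, ← pullback.condition, ← Category.assoc, pullback.condition,
    Category.assoc, t.isPullback.w, Category.assoc]

/-- the projection of the piece of the fibre product to `(s j).X'`. -/
noncomputable def pg' (j : J) (t : Sq f δX δY) :
    pullback (pullback.fst t.g (s j).g) t.f' ⟶ (s j).X' :=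
  (s j).isPullback.lift _ _ (pg'_comm s j t)

theorem pg'_fst (j : J) (t : Sq f δX δY) :
    pg' s j t ≫ (s j).f' =
      pullback.fst (pullback.fst t.g (s j).g) t.f' ≫ pullback.snd t.g (s j).g :=
  (s j).isPullback.lift_fst _ _ _

theorem pg'_snd (j : J) (t : Sq f δX δY) : pg' s j t ≫ (s j).g' = hX s j t ≫ t.g' :=
  (s j).isPullback.lift_snd _ _ _

theorem isPullback_pc (j : J) (t : Sq f δX δY) :
    IsPullback (pullback.fst (pullback.fst t.g (s j).g) t.f') (pg' s j t)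
      (pullback.snd t.g (s j).g) (s j).f' := by
  have hA : IsPullback (pullback.fst (pullback.fst t.g (s j).g) t.f')
      (pullback.snd (pullback.fst t.g (s j).g) t.f') (pullback.fst t.g (s j).g) t.f' :=
    IsPullback.of_hasPullback _ _
  have hbig := hA.paste_vert t.isPullback
  have e1 : pullback.snd (pullback.fst t.g (s j).g) t.f' ≫ t.g' = pg' s j t ≫ (s j).g' :=
    (pg'_snd s j t).symm
  have e2 : pullback.fst t.g (s j).g ≫ t.g = pullback.snd t.g (s j).g ≫ (s j).g :=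
    pullback.condition
  rw [e1, e2] at hbig
  exact IsPullback.of_bot hbig (pg'_fst s j t).symm (s j).isPullback

theorem lft_pg (j : J) (t : Sq f δX δY) : LocallyOfFiniteType (pullback.snd t.g (s j).g) :=
  haveI := t.lft
  inferInstance

section Open

variable [hopen : ∀ j, IsOpenImmersion (s j).g]

instance (j : J) (t : Sq f δX δY) : IsOpenImmersion (hY s j t) :=
  (inferInstance : IsOpenImmersion (pullback.fst t.g (s j).g))

instance (j : J) (t : Sq f δX δY) : IsOpenImmersion (hX s j t) :=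
  haveI : IsOpenImmersion (pullback.fst t.g (s j).g) := inferInstance
  (inferInstance : IsOpenImmersion (pullback.snd (pullback.fst t.g (s j).g) t.f'))

theorem compatY_pc (j : J) (t : Sq f δX δY) :
    Cyc.DeltaCompat (pullback.snd t.g (s j).g) (fun y => t.δY' (hY s j t y)) (s j).δY' := by
  haveI := lft_pg s j t
  have h1 : Cyc.DeltaCompat (hY s j t ≫ t.g) (fun y => t.δY' (hY s j t y)) δY :=
    deltaCompat_comp _ _ _ _ _ (deltaCompat_openImmersion (hY s j t) t.δY') t.compatY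
  have e : hY s j t ≫ t.g = pullback.snd t.g (s j).g ≫ (s j).g := pullback.condition
  rw [e] at h1
  exact deltaCompat_cancel _ (s j).g h1 (s j).compatY

theorem compatX_pc (j : J) (t : Sq f δX δY) :
    Cyc.DeltaCompat (pg' s j t) (fun x => t.δX' (hX s j t x)) (s j).δX' := by
  haveI := lft_pg s j t
  haveI : LocallyOfFiniteType (pg' s j t) :=
    MorphismProperty.of_isPullback (P := @LocallyOfFiniteType) (isPullback_pc s j t)
      (lft_pg s j t)
  haveI := lft_g' (s j)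
  have h1 : Cyc.DeltaCompat (hX s j t ≫ t.g') (fun x => t.δX' (hX s j t x)) δX :=
    deltaCompat_comp _ _ _ _ _ (deltaCompat_openImmersion (hX s j t) t.δX') t.compatX
  rw [← pg'_snd] at h1
  exact deltaCompat_cancel _ (s j).g' h1 (s j).compatX

/-- the piece of the square `t` over the `j`-th member of the cover, as a square over `(s j).f'`. -/
@[reducible] noncomputable def pc (j : J) (t : Sq f δX δY) :
    Sq (s j).f' (s j).δX' (s j).δY' where
  Y' := pullback t.g (s j).g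
  X' := pullback (pullback.fst t.g (s j).g) t.f'
  g := pullback.snd t.g (s j).g
  f' := pullback.fst (pullback.fst t.g (s j).g) t.f'
  g' := pg' s j t
  isPullback := isPullback_pc s j t
  lft := lft_pg s j t
  δY' := fun y => t.δY' (hY s j t y)
  δX' := fun x => t.δX' (hX s j t x)
  compatY := compatY_pc s j t
  compatX := compatX_pc s j t

/-- the piece of the square `t` over the `j`-th member of the cover, as a square over `f`. -/
@[reducible] noncomputable def pu (j : J) (t : Sq f δX δY) : Sq f δX δY := (s j).paste (pc s j t)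

theorem w₁ (j : J) (t : Sq f δX δY) : hY s j t ≫ t.g = (pu s j t).g := pullback.condition

theorem w₂ (j : J) (t : Sq f δX δY) : hX s j t ≫ t.f' = (pu s j t).f' ≫ hY s j t :=
  pullback.condition.symm

theorem w₃ (j : J) (t : Sq f δX δY) : hX s j t ≫ t.g' = (pu s j t).g' := (pg'_snd s j t).symm

theorem isPullback_hX (j : J) (t : Sq f δX δY) :
    IsPullback (pu s j t).f' (hX s j t) (hY s j t) t.f' :=
  IsPullback.of_hasPullback (pullback.fst t.g (s j).g) t.f'

theorem compatY (j : J) (t : Sq f δX δY) : Cyc.DeltaCompat (hY s j t) (pu s j t).δY' t.δY' :=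
  deltaCompat_openImmersion (hY s j t) t.δY'

theorem compatX (j : J) (t : Sq f δX δY) : Cyc.DeltaCompat (hX s j t) (pu s j t).δX' t.δX' :=
  deltaCompat_openImmersion (hX s j t) t.δX'

variable (hdisj : ∀ j j' : J, j ≠ j' → Disjoint (Set.range (s j).g) (Set.range (s j').g))
  (hcov : ∀ y : Y, ∃ j, y ∈ Set.range (s j).g)

theorem range_hY (j : J) (t : Sq f δX δY) :
    Set.range (hY s j t) = t.g ⁻¹' Set.range (s j).g :=
  Scheme.Pullback.range_fst t.g (s j).g

theorem range_hX (j : J) (t : Sq f δX δY) :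
    Set.range (hX s j t) = t.f' ⁻¹' Set.range (hY s j t) :=
  Scheme.Pullback.range_snd (pullback.fst t.g (s j).g) t.f'

include hdisj in
theorem hY_disj (t : Sq f δX δY) (j j' : J) (hne : j ≠ j') :
    Disjoint (Set.range (hY s j t)) (Set.range (hY s j' t)) := by
  rw [range_hY, range_hY]
  exact (hdisj j j' hne).preimage _

include hcov in
theorem hY_cov (t : Sq f δX δY) (y : t.Y') : ∃ j, y ∈ Set.range (hY s j t) := by
  obtain ⟨j, hj⟩ := hcov (t.g y)
  exact ⟨j, by rw [range_hY]; exact hj⟩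

include hdisj in
theorem hX_disj (t : Sq f δX δY) (j j' : J) (hne : j ≠ j') :
    Disjoint (Set.range (hX s j t)) (Set.range (hX s j' t)) := by
  rw [range_hX, range_hX]
  exact (hY_disj s hdisj t j j' hne).preimage _

include hcov in
theorem hX_cov (t : Sq f δX δY) (x : t.X') : ∃ j, x ∈ Set.range (hX s j t) := by
  obtain ⟨j, hj⟩ := hY_cov s hcov t (t.f' x)
  exact ⟨j, by rw [range_hX]; exact hj⟩

end Open

section Mor

variable (s' t : Sq f δX δY) (h : t.Y' ⟶ s'.Y') (h' : t.X' ⟶ s'.X')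
  (e₁ : h ≫ s'.g = t.g) (e₂ : h' ≫ s'.f' = t.f' ≫ h) (e₃ : h' ≫ s'.g' = t.g')

/-- the induced map on the pieces of the test schemes. -/
noncomputable def mY (j : J) : pullback t.g (s j).g ⟶ pullback s'.g (s j).g :=
  pullback.lift (pullback.fst t.g (s j).g ≫ h) (pullback.snd t.g (s j).g)
    (by rw [Category.assoc, e₁, pullback.condition])

theorem mY_fst (j : J) : mY s s' t h e₁ j ≫ hY s j s' = hY s j t ≫ h := pullback.lift_fst _ _ _

theorem mY_snd (j : J) :
    mY s s' t h e₁ j ≫ pullback.snd s'.g (s j).g = pullback.snd t.g (s j).g :=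
  pullback.lift_snd _ _ _

theorem isPullback_mY (j : J) : IsPullback (mY s s' t h e₁ j) (hY s j t) (hY s j s') h := by
  have hbig : IsPullback (mY s s' t h e₁ j ≫ pullback.snd s'.g (s j).g) (hY s j t) (s j).g
      (h ≫ s'.g) := by
    rw [mY_snd, e₁]
    exact (IsPullback.of_hasPullback t.g (s j).g).flip
  exact IsPullback.of_right hbig (mY_fst s s' t h e₁ j)
    (IsPullback.of_hasPullback s'.g (s j).g).flip

/-- the induced map on the pieces of the fibre products. -/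
noncomputable def mX (j : J) : pullback (pullback.fst t.g (s j).g) t.f' ⟶
    pullback (pullback.fst s'.g (s j).g) s'.f' :=
  pullback.lift (pullback.fst (pullback.fst t.g (s j).g) t.f' ≫ mY s s' t h e₁ j)
    (pullback.snd (pullback.fst t.g (s j).g) t.f' ≫ h')
    (by
      have h1 : mY s s' t h e₁ j ≫ pullback.fst s'.g (s j).g = pullback.fst t.g (s j).g ≫ h :=
        pullback.lift_fst _ _ _
      rw [Category.assoc, h1, ← Category.assoc, pullback.condition, Category.assoc,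
        Category.assoc, e₂])

theorem mX_fst (j : J) :
    mX s s' t h h' e₁ e₂ j ≫ pullback.fst (pullback.fst s'.g (s j).g) s'.f' =
      pullback.fst (pullback.fst t.g (s j).g) t.f' ≫ mY s s' t h e₁ j :=
  pullback.lift_fst _ _ _

theorem mX_snd (j : J) : mX s s' t h h' e₁ e₂ j ≫ hX s j s' = hX s j t ≫ h' :=
  pullback.lift_snd _ _ _

theorem isPullback_mX (j : J) :
    IsPullback (mX s s' t h h' e₁ e₂ j) (hX s j t) (hX s j s') h' := by
  have hA : ∀ t' : Sq f δX δY, IsPullback (pullback.fst (pullback.fst t'.g (s j).g) t'.f')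
      (hX s j t') (hY s j t') t'.f' := fun t' => IsPullback.of_hasPullback _ _
  have hbig : IsPullback (mX s s' t h h' e₁ e₂ j ≫
      pullback.fst (pullback.fst s'.g (s j).g) s'.f') (hX s j t) (hY s j s') (h' ≫ s'.f') := by
    rw [mX_fst, e₂]
    exact (hA t).paste_horiz (isPullback_mY s s' t h e₁ j)
  exact IsPullback.of_right hbig (mX_snd s s' t h h' e₁ e₂ j) (hA s')

include e₃ in
theorem mX_g' (j : J) : mX s s' t h h' e₁ e₂ j ≫ pg' s j s' = pg' s j t := by
  apply (s j).isPullback.hom_ext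
  · rw [Category.assoc, pg'_fst, ← Category.assoc, mX_fst, Category.assoc, mY_snd, pg'_fst]
  · rw [Category.assoc, pg'_snd, ← Category.assoc, mX_snd, Category.assoc, e₃, pg'_snd]

end Mor

end Part4

section Part5

open AlgebraicGeometry CategoryTheory TopologicalSpace IsLocalRing Opposite CategoryTheory.Limits
  Groth.Agent.Lib.R2H1.RelDimBC Groth.Agent.Lib.R2H1.PerfCyc Groth.Agent.Lib.Helper4.DimFormula
  Groth.Agent.Lib.R2H1.FlatPullRat Groth.Agent.Lib.R2H1.BivarFlat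
  Groth.Agent.Lib.R2H1.MVClosed Groth.Agent.Lib.R2H1.ChowDesc Groth.Agent.Lib.R2H1.ExtProd
  Groth.Agent.Lib.R2H1.C1Chow Groth.Agent.Lib.R2H1.RatEquivClosed Bivar Groth.Agent.Lib.R2H1.BivarEnv

section General

variable {S S' T T' : Scheme.{u}} {δS : S → ℤ} {δS' : S' → ℤ} {δT : T → ℤ} {δT' : T' → ℤ}

theorem op_index_congr {p : ℤ} (op : ∀ k : ℤ, ChowOps.CH T δT k →+ ChowOps.CH T' δT' (k - p))
    {k k₁ : ℤ} (e : k₁ = k) (a : AlgebraicCycle T ℤ) (ha₁ : a ∈ Cyc.Zk T δT k₁)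
    (ha : a ∈ Cyc.Zk T δT k) (b : AlgebraicCycle T' ℤ) (hb₁ : b ∈ Cyc.Zk T' δT' (k₁ - p))
    (hb : b ∈ Cyc.Zk T' δT' (k - p)) (h : op k₁ (ChowOps.cl a ha₁) = ChowOps.cl b hb₁) :
    op k (ChowOps.cl a ha) = ChowOps.cl b hb := by
  subst e
  exact h

/-- compatibility with flat pullback along open immersions, in terms of restriction maps. -/
theorem resCH_of_pullOK {p : ℤ} (h : T ⟶ S) (h' : T' ⟶ S') [IsOpenImmersion h]
    [IsOpenImmersion h'] (hS : Cyc.IsSetup S δS) (hS' : Cyc.IsSetup S' δS')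
    (hT : Cyc.IsSetup T δT) (hT' : Cyc.IsSetup T' δT') (hδ : Cyc.DeltaCompat h δT δS)
    (hδ' : Cyc.DeltaCompat h' δT' δS')
    (op : ∀ k : ℤ, ChowOps.CH T δT k →+ ChowOps.CH T' δT' (k - p)) (k : ℤ)
    (φ : ChowOps.CH S δS k →+ ChowOps.CH S' δS' (k - p))
    (hOK : PullOK δS δS' δT δT' h h' ((0 : ℕ) : ℤ) φ (op (k + ((0 : ℕ) : ℤ))))
    (x : ChowOps.CH S δS k) :
    resCH h' hS' hT' hδ' (k - p) (φ x) = op k (resCH h hS hT hδ k x) := by
  obtain ⟨α, hα, rfl⟩ := exists_rep x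
  obtain ⟨β, hβ, e1, e2⟩ := hOK α hα
  have hk : k + ((0 : ℕ) : ℤ) = k := by simp
  have hα₁ : resCyc h α ∈ Cyc.Zk T δT (k + ((0 : ℕ) : ℤ)) := by
    rw [hk]; exact resCyc_mem_Zk h δT δS hδ k α hα
  obtain ⟨β₁, hβ₁, e3, e4⟩ := e2 (resCyc h α) (by rw [coe_resCyc h δT δS hδ]; simp) hα₁
  have hβ₁eq : β₁ = resCyc h' β := by
    ext a
    rw [e3, Nat.cast_zero, ← coe_resCyc h' δT' δS' hδ']
  subst hβ₁eq
  rw [e1, resCH_cl, resCH_cl]
  exact (op_index_congr op hk (resCyc h α) hα₁ _ (resCyc h' β) hβ₁ _ e4).symm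

end General

section Inj

variable {X Y : Scheme.{u}} {f : X ⟶ Y} {δX : X → ℤ} {δY : Y → ℤ} {J : Type u}
  (s : J → Sq f δX δY) [hopen : ∀ j, IsOpenImmersion (s j).g]
  (hdisj : ∀ j j' : J, j ≠ j' → Disjoint (Set.range (s j).g) (Set.range (s j').g))
  (hcov : ∀ y : Y, ∃ j, y ∈ Set.range (s j).g)
  (hXs : Cyc.IsSetup X δX) (hYs : Cyc.IsSetup Y δY)

/-- the restriction of `c.op t k x` to the `j`-th piece. -/
theorem resCH_op {p : ℤ} (c : Cl p f δX δY) (j : J) (t : Sq f δX δY) (k : ℤ)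
    (x : ChowOps.CH t.Y' t.δY' k) :
    resCH (hX s j t) (isSetup_X' hXs t) (isSetup_X' hXs (pu s j t)) (compatX s j t) (k - p)
        (c.op t k x) =
      c.op (pu s j t) k
        (resCH (hY s j t) (isSetup_Y' hYs t) (isSetup_Y' hYs (pu s j t)) (compatY s j t) k x) := by
  haveI i1 : @Flat (pu s j t).Y' t.Y' (hY s j t) := (inferInstance : Flat (hY s j t))
  haveI i2 : @Flat (pu s j t).X' t.X' (hX s j t) := (inferInstance : Flat (hX s j t))
  exact resCH_of_pullOK (hY s j t) (hX s j t) (isSetup_Y' hYs t) (isSetup_X' hXs t)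
    (isSetup_Y' hYs (pu s j t)) (isSetup_X' hXs (pu s j t)) (compatY s j t) (compatX s j t)
    (fun k => c.op (pu s j t) k) k (c.op t k)
    (c.pull t (pu s j t) (hY s j t) (hX s j t) 0 (hasRelDim_openImmersion (hY s j t))
      (hasRelDim_openImmersion (hX s j t)) (w₁ s j t) (w₂ s j t) (w₃ s j t) k) x

include hdisj hcov hXs hYs in
/-- a bivariant class is determined by its restrictions to the pieces of a clopen cover of the
target. -/
theorem res_injective {p : ℤ} (c d : Cl p f δX δY) (h : ∀ j, c.res (s j) = d.res (s j)) :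
    c = d := by
  apply Cl.ext
  funext t k
  apply AddMonoidHom.ext
  intro x
  apply eq_of_resCH_eq (fun j => hX s j t) (hX_disj s hdisj t) (hX_cov s hcov t)
    (isSetup_X' hXs t) (fun j => isSetup_X' hXs (pu s j t)) (fun j => compatX s j t) (k - p)
  intro j
  rw [resCH_op s hXs hYs c j t k x, resCH_op s hXs hYs d j t k x]
  exact congrFun (congrArg (fun e : Cl p (s j).f' (s j).δX' (s j).δY' => ⇑(e.op (pc s j t) k))
    (h j)) _

end Inj

end Part5

section Part6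

open AlgebraicGeometry CategoryTheory TopologicalSpace IsLocalRing Opposite CategoryTheory.Limits
  Groth.Agent.Lib.R2H1.RelDimBC Groth.Agent.Lib.R2H1.PerfCyc Groth.Agent.Lib.Helper4.DimFormula
  Groth.Agent.Lib.R2H1.FlatPullRat Groth.Agent.Lib.R2H1.BivarFlat
  Groth.Agent.Lib.R2H1.MVClosed Groth.Agent.Lib.R2H1.ChowDesc Groth.Agent.Lib.R2H1.ExtProd
  Groth.Agent.Lib.R2H1.C1Chow Groth.Agent.Lib.R2H1.RatEquivClosed Bivar Groth.Agent.Lib.R2H1.BivarEnv Groth.Agent.Lib.R2H1.IsoTransport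

section General

variable {T S T' S' : Scheme.{u}}

/-- restriction to an open commutes with proper pushforward. -/
theorem resCyc_map (u : T' ⟶ T) (v : S' ⟶ S) [IsOpenImmersion u] [IsOpenImmersion v]
    (h : T ⟶ S) [IsProper h] (h₁ : T' ⟶ S') [QuasiCompact h₁] (hP : IsPullback u h₁ h v)
    (δT : T → ℤ) (δS : S → ℤ) (δT' : T' → ℤ) (δS' : S' → ℤ)
    (hh : Cyc.DeltaCompat h δT δS) (hh₁ : Cyc.DeltaCompat h₁ δT' δS')
    (hu : Cyc.DeltaCompat u δT' δT) (hv : Cyc.DeltaCompat v δS' δS)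
    (α : AlgebraicCycle T ℤ) :
    resCyc v (AlgebraicCycle.map h δT δS α) = AlgebraicCycle.map h₁ δT' δS' (resCyc u α) := by
  have h1 := ML_sq hP δT δS δS' δT' 0 hh hh₁
    (fun y' => by rw [delta_openImmersion v δS' δS hv y']; simp) α (resCyc u α)
    (coe_resCyc u δT' δT hu α)
  ext a
  rw [h1, ← coe_resCyc v δS' δS hv]

end General

section Glue

variable {X Y : Scheme.{u}} {f : X ⟶ Y} {δX : X → ℤ} {δY : Y → ℤ} {J : Type u}
  (s : J → Sq f δX δY) [hopen : ∀ j, IsOpenImmersion (s j).g]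
  (hdisj : ∀ j j' : J, j ≠ j' → Disjoint (Set.range (s j).g) (Set.range (s j').g))
  (hcov : ∀ y : Y, ∃ j, y ∈ Set.range (s j).g)
  (hXs : Cyc.IsSetup X δX) (hYs : Cyc.IsSetup Y δY)
  {p : ℤ} (c : ∀ j, Cl p (s j).f' (s j).δX' (s j).δY')

/-- the glued operation. -/
noncomputable def glueOp (t : Sq f δX δY) (k : ℤ) :
    ChowOps.CH t.Y' t.δY' k →+ ChowOps.CH t.X' t.δX' (k - p) :=
  ((glueEquiv (fun j => hX s j t) (hX_disj s hdisj t) (hX_cov s hcov t) (isSetup_X' hXs t)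
    (fun j => isSetup_X' hXs (pu s j t)) (fun j => compatX s j t)
    (k - p)).symm.toAddMonoidHom).comp
  (AddMonoidHom.pi (fun j => ((c j).op (pc s j t) k).comp
    (resCH (hY s j t) (isSetup_Y' hYs t) (isSetup_Y' hYs (pu s j t)) (compatY s j t) k)))

theorem resCH_glueOp (t : Sq f δX δY) (k : ℤ) (x : ChowOps.CH t.Y' t.δY' k) (j : J) :
    resCH (hX s j t) (isSetup_X' hXs t) (isSetup_X' hXs (pu s j t)) (compatX s j t) (k - p)
        (glueOp s hdisj hcov hXs hYs c t k x) =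
      (c j).op (pc s j t) k
        (resCH (hY s j t) (isSetup_Y' hYs t) (isSetup_Y' hYs (pu s j t)) (compatY s j t) k x) :=
  resCH_glueEquiv_symm (fun j => hX s j t) (hX_disj s hdisj t) (hX_cov s hcov t)
    (isSetup_X' hXs t) (fun j => isSetup_X' hXs (pu s j t)) (fun j => compatX s j t) (k - p) _ j

end Glue

end Part6

section Part7

open AlgebraicGeometry CategoryTheory TopologicalSpace IsLocalRing Opposite CategoryTheory.Limits
  Groth.Agent.Lib.R2H1.RelDimBC Groth.Agent.Lib.R2H1.PerfCyc Groth.Agent.Lib.Helper4.DimFormula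
  Groth.Agent.Lib.R2H1.FlatPullRat Groth.Agent.Lib.R2H1.BivarFlat
  Groth.Agent.Lib.R2H1.MVClosed Groth.Agent.Lib.R2H1.ChowDesc Groth.Agent.Lib.R2H1.ExtProd
  Groth.Agent.Lib.R2H1.C1Chow Groth.Agent.Lib.R2H1.RatEquivClosed Bivar Groth.Agent.Lib.R2H1.BivarEnv Groth.Agent.Lib.R2H1.IsoTransport

variable {X Y : Scheme.{u}} {f : X ⟶ Y} {δX : X → ℤ} {δY : Y → ℤ} {J : Type u}
  (s : J → Sq f δX δY) [hopen : ∀ j, IsOpenImmersion (s j).g]

section Mor

variable (s' t : Sq f δX δY) (h : t.Y' ⟶ s'.Y') (h' : t.X' ⟶ s'.X')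
  (e₁ : h ≫ s'.g = t.g) (e₂ : h' ≫ s'.f' = t.f' ≫ h) (e₃ : h' ≫ s'.g' = t.g')

include e₁ in
theorem lft_h : LocallyOfFiniteType h := by
  haveI := t.lft
  haveI : LocallyOfFiniteType (h ≫ s'.g) := by rw [e₁]; infer_instance
  exact locallyOfFiniteType_of_comp h s'.g

include e₃ in
theorem lft_h' : LocallyOfFiniteType h' := by
  haveI := lft_g' t
  haveI : LocallyOfFiniteType (h' ≫ s'.g') := by rw [e₃]; infer_instance
  exact locallyOfFiniteType_of_comp h' s'.g'

include e₁ in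
theorem compat_h : Cyc.DeltaCompat h t.δY' s'.δY' := by
  haveI := lft_h s' t h e₁
  apply deltaCompat_cancel h s'.g _ s'.compatY
  rw [e₁]
  exact t.compatY

include e₃ in
theorem compat_h' : Cyc.DeltaCompat h' t.δX' s'.δX' := by
  haveI := lft_h' s' t h' e₃
  haveI := lft_g' s'
  apply deltaCompat_cancel h' s'.g' _ s'.compatX
  rw [e₃]
  exact t.compatX

theorem lft_mY (j : J) : LocallyOfFiniteType (mY s s' t h e₁ j) :=
  haveI := lft_h s' t h e₁
  MorphismProperty.of_isPullback (P := @LocallyOfFiniteType) (isPullback_mY s s' t h e₁ j).flip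
    inferInstance

include e₃ in
theorem lft_mX (j : J) : LocallyOfFiniteType (mX s s' t h h' e₁ e₂ j) :=
  haveI := lft_h' s' t h' e₃
  MorphismProperty.of_isPullback (P := @LocallyOfFiniteType)
    (isPullback_mX s s' t h h' e₁ e₂ j).flip inferInstance

theorem compat_mY (j : J) :
    Cyc.DeltaCompat (mY s s' t h e₁ j) (pu s j t).δY' (pu s j s').δY' := by
  haveI := lft_mY s s' t h e₁ j
  have h1 : Cyc.DeltaCompat (pullback.snd s'.g (s j).g) (pu s j s').δY' (s j).δY' :=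
    (pc s j s').compatY
  have h2 : Cyc.DeltaCompat (pullback.snd t.g (s j).g) (pu s j t).δY' (s j).δY' :=
    (pc s j t).compatY
  rw [← mY_snd s s' t h e₁ j] at h2
  exact deltaCompat_cancel (mY s s' t h e₁ j) (pullback.snd s'.g (s j).g) h2 h1

include e₃ in
theorem compat_mX (j : J) :
    Cyc.DeltaCompat (mX s s' t h h' e₁ e₂ j) (pu s j t).δX' (pu s j s').δX' := by
  haveI := lft_mX s s' t h h' e₁ e₂ e₃ j
  haveI : LocallyOfFiniteType (pg' s j s') := lft_g' (pc s j s')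
  have h1 : Cyc.DeltaCompat (pg' s j s') (pu s j s').δX' (s j).δX' := (pc s j s').compatX
  have h2 : Cyc.DeltaCompat (pg' s j t) (pu s j t).δX' (s j).δX' := (pc s j t).compatX
  rw [← mX_g' s s' t h h' e₁ e₂ e₃ j] at h2
  exact deltaCompat_cancel (mX s s' t h h' e₁ e₂ j) (pg' s j s') h2 h1

theorem isProper_mY [IsProper h] (j : J) : IsProper (mY s s' t h e₁ j) :=
  MorphismProperty.of_isPullback (P := @IsProper) (isPullback_mY s s' t h e₁ j).flip
    inferInstance

theorem isProper_mX [IsProper h'] (j : J) : IsProper (mX s s' t h h' e₁ e₂ j) :=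
  MorphismProperty.of_isPullback (P := @IsProper) (isPullback_mX s s' t h h' e₁ e₂ j).flip
    inferInstance

end Mor

section Push

variable (hdisj : ∀ j j' : J, j ≠ j' → Disjoint (Set.range (s j).g) (Set.range (s j').g))
  (hcov : ∀ y : Y, ∃ j, y ∈ Set.range (s j).g)
  (hXs : Cyc.IsSetup X δX) (hYs : Cyc.IsSetup Y δY)
  {p : ℤ} (c : ∀ j, Cl p (s j).f' (s j).δX' (s j).δY')

theorem glueOp_push (s' t : Sq f δX δY) (h : t.Y' ⟶ s'.Y') [IsProper h] (h' : t.X' ⟶ s'.X')
    [IsProper h'] (e₁ : h ≫ s'.g = t.g) (e₂ : h' ≫ s'.f' = t.f' ≫ h) (e₃ : h' ≫ s'.g' = t.g')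
    (k : ℤ) :
    PushOK t.δY' t.δX' s'.δY' s'.δX' h h' (glueOp s hdisj hcov hXs hYs c t k)
      (glueOp s hdisj hcov hXs hYs c s' k) := by
  intro α hα
  obtain ⟨β, hβ, e⟩ := exists_rep (glueOp s hdisj hcov hXs hYs c t k (ChowOps.cl α hα))
  refine ⟨β, hβ, e.symm, ?_⟩
  apply eq_of_resCH_eq (fun j => hX s j s') (hX_disj s hdisj s') (hX_cov s hcov s')
    (isSetup_X' hXs s') (fun j => isSetup_X' hXs (pu s j s')) (fun j => compatX s j s') (k - p)
  intro j
  haveI i1 : IsProper (mY s s' t h e₁ j) := isProper_mY s s' t h e₁ j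
  haveI i2 : IsProper (mX s s' t h h' e₁ e₂ j) := isProper_mX s s' t h h' e₁ e₂ j
  rw [resCH_glueOp, resCH_cl, resCH_cl]
  have hmapY := resCyc_map (hY s j t) (hY s j s') h (mY s s' t h e₁ j)
    (isPullback_mY s s' t h e₁ j).flip t.δY' s'.δY' (pu s j t).δY' (pu s j s').δY'
    (compat_h s' t h e₁) (compat_mY s s' t h e₁ j) (compatY s j t) (compatY s j s') α
  have hmapX := resCyc_map (hX s j t) (hX s j s') h' (mX s s' t h h' e₁ e₂ j)
    (isPullback_mX s s' t h h' e₁ e₂ j).flip t.δX' s'.δX' (pu s j t).δX' (pu s j s').δX'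
    (compat_h' s' t h' e₃) (compat_mX s s' t h h' e₁ e₂ e₃ j) (compatX s j t) (compatX s j s') β
  obtain ⟨βj, hβj, e4, e5⟩ := (c j).push (pc s j s') (pc s j t) (mY s s' t h e₁ j)
    (mX s s' t h h' e₁ e₂ j) (mY_snd s s' t h e₁ j) (mX_fst s s' t h h' e₁ e₂ j)
    (mX_g' s s' t h h' e₁ e₂ e₃ j) k (resCyc (hY s j t) α)
    (resCyc_mem_Zk (hY s j t) _ _ (compatY s j t) k α hα)
  have e6 : ChowOps.cl (resCyc (hX s j t) β)
      (resCyc_mem_Zk (hX s j t) _ _ (compatX s j t) (k - p) β hβ) = ChowOps.cl βj hβj := by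
    rw [← e4, ← resCH_cl (hX s j t) (isSetup_X' hXs t) (isSetup_X' hXs (pu s j t))
      (compatX s j t) (k - p) β hβ, e, resCH_glueOp, resCH_cl]
  have e7 := push_cl_eq (isSetup_X' hXs (pu s j t)) (isSetup_X' hXs (pu s j s'))
    (mX s s' t h h' e₁ e₂ j) (compat_mX s s' t h h' e₁ e₂ e₃ j) (k - p) _ _ _ _ e6
  rw [cl_congr hmapY _ (cycMap_mem_Zk _ _ _ k (resCyc_mem_Zk (hY s j t) _ _ (compatY s j t) k α hα)),
    cl_congr hmapX _ (cycMap_mem_Zk _ _ _ (k - p)
      (resCyc_mem_Zk (hX s j t) _ _ (compatX s j t) (k - p) β hβ)), e7]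
  exact e5

end Push

end Part7

section Part8

open AlgebraicGeometry CategoryTheory TopologicalSpace IsLocalRing Opposite CategoryTheory.Limits
  Groth.Agent.Lib.R2H1.RelDimBC Groth.Agent.Lib.R2H1.PerfCyc Groth.Agent.Lib.Helper4.DimFormula
  Groth.Agent.Lib.R2H1.FlatPullRat Groth.Agent.Lib.R2H1.BivarFlat
  Groth.Agent.Lib.R2H1.MVClosed Groth.Agent.Lib.R2H1.ChowDesc Groth.Agent.Lib.R2H1.ExtProd
  Groth.Agent.Lib.R2H1.C1Chow Groth.Agent.Lib.R2H1.RatEquivClosed Bivar Groth.Agent.Lib.R2H1.BivarEnv Groth.Agent.Lib.R2H1.IsoTransport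

section General

variable {T S T' S' : Scheme.{u}}

theorem cl_index_congr {δT : T → ℤ} {k k₁ : ℤ} (e : k₁ = k) (a b : AlgebraicCycle T ℤ)
    (ha₁ : a ∈ Cyc.Zk T δT k₁) (hb₁ : b ∈ Cyc.Zk T δT k₁) (ha : a ∈ Cyc.Zk T δT k)
    (hb : b ∈ Cyc.Zk T δT k) (h : ChowOps.cl a ha₁ = ChowOps.cl b hb₁) :
    ChowOps.cl a ha = ChowOps.cl b hb := by
  subst e
  exact h

theorem mult_comp' {A B C : Scheme.{u}} (p : B ⟶ A) (p' : C ⟶ B) [Flat p'] (c : C) :
    mult (p' ≫ p) c = mult p (p' c) * mult p' c := by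
  unfold mult
  exact_mod_cast Groth.Agent.Lib.R2H3.CycFlat.mult_comp p p' c

/-- restriction to an open commutes with flat pullback. -/
theorem resCyc_pull (u : T' ⟶ T) (v : S' ⟶ S) [IsOpenImmersion u] [IsOpenImmersion v]
    (h : T ⟶ S) (h₁ : T' ⟶ S') [Flat h₁] (w : u ≫ h = h₁ ≫ v)
    (δT : T → ℤ) (δS : S → ℤ) (δT' : T' → ℤ) (δS' : S' → ℤ)
    (hu : Cyc.DeltaCompat u δT' δT) (hv : Cyc.DeltaCompat v δS' δS) (r : ℤ) (α : S → ℤ)
    (a : T') :
    Cyc.pullFun h δT δS r α (u a) = Cyc.pullFun h₁ δT' δS' r (fun b => α (v b)) a := by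
  rw [pullFun_eq, pullFun_eq]
  have pt : h (u a) = v (h₁ a) := by
    change (u ≫ h) a = (h₁ ≫ v) a
    rw [w]
  have m1 : mult (u ≫ h) a = mult h (u a) * mult u a := mult_comp' h u a
  have m2 : mult (h₁ ≫ v) a = mult v (h₁ a) * mult h₁ a := mult_comp' v h₁ a
  rw [mult_openImmersion u a, mul_one] at m1
  rw [mult_openImmersion v (h₁ a), one_mul] at m2
  have hm : mult h (u a) = mult h₁ a := by rw [← m1, ← m2, w]
  rw [delta_openImmersion u δT' δT hu a, delta_openImmersion v δS' δS hv (h₁ a), ← pt, hm]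

end General

variable {X Y : Scheme.{u}} {f : X ⟶ Y} {δX : X → ℤ} {δY : Y → ℤ} {J : Type u}
  (s : J → Sq f δX δY) [hopen : ∀ j, IsOpenImmersion (s j).g]

section Mor

variable (s' t : Sq f δX δY) (h : t.Y' ⟶ s'.Y') (h' : t.X' ⟶ s'.X')
  (e₁ : h ≫ s'.g = t.g) (e₂ : h' ≫ s'.f' = t.f' ≫ h) (e₃ : h' ≫ s'.g' = t.g')

theorem flat_mY [Flat h] (j : J) : Flat (mY s s' t h e₁ j) :=
  MorphismProperty.of_isPullback (P := @Flat) (isPullback_mY s s' t h e₁ j).flip inferInstance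

theorem flat_mX [Flat h'] (j : J) : Flat (mX s s' t h h' e₁ e₂ j) :=
  MorphismProperty.of_isPullback (P := @Flat) (isPullback_mX s s' t h h' e₁ e₂ j).flip
    inferInstance

theorem relDim_mY (r : ℕ) (hr : Cyc.HasRelDim h r) (j : J) :
    Cyc.HasRelDim (mY s s' t h e₁ j) r :=
  haveI := lft_h s' t h e₁
  hasRelDim_of_isPullback (isPullback_mY s s' t h e₁ j) r hr

include e₃ in
theorem relDim_mX (r : ℕ) (hr : Cyc.HasRelDim h' r) (j : J) :
    Cyc.HasRelDim (mX s s' t h h' e₁ e₂ j) r :=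
  haveI := lft_h' s' t h' e₃
  hasRelDim_of_isPullback (isPullback_mX s s' t h h' e₁ e₂ j) r hr

end Mor

section Pull

variable (hdisj : ∀ j j' : J, j ≠ j' → Disjoint (Set.range (s j).g) (Set.range (s j').g))
  (hcov : ∀ y : Y, ∃ j, y ∈ Set.range (s j).g)
  (hXs : Cyc.IsSetup X δX) (hYs : Cyc.IsSetup Y δY)
  {p : ℤ} (c : ∀ j, Cl p (s j).f' (s j).δX' (s j).δY')

theorem glueOp_pull (s' t : Sq f δX δY) (h : t.Y' ⟶ s'.Y') [Flat h] (h' : t.X' ⟶ s'.X')
    [Flat h'] (r : ℕ) (hr : Cyc.HasRelDim h r) (hr' : Cyc.HasRelDim h' r)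
    (e₁ : h ≫ s'.g = t.g) (e₂ : h' ≫ s'.f' = t.f' ≫ h) (e₃ : h' ≫ s'.g' = t.g') (k : ℤ) :
    PullOK s'.δY' s'.δX' t.δY' t.δX' h h' (r : ℤ) (glueOp s hdisj hcov hXs hYs c s' k)
      (glueOp s hdisj hcov hXs hYs c t (k + r)) := by
  intro α hα
  obtain ⟨β, hβ, e⟩ := exists_rep (glueOp s hdisj hcov hXs hYs c s' k (ChowOps.cl α hα))
  refine ⟨β, hβ, e.symm, ?_⟩
  intro α₁ hα₁c hα₁
  haveI := lft_h' s' t h' e₃
  obtain ⟨β₁, hβ₁c, hβ₁k⟩ := exists_pull t.δX' s'.δX' (isSetup_X' hXs t) h' r hr'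
    (compat_h' s' t h' e₃) (k - p) β hβ
  have hβ₁k' : β₁ ∈ Cyc.Zk t.X' t.δX' (k + r - p) := by
    rwa [show k + (r : ℤ) - p = k - p + r by ring]
  refine ⟨β₁, hβ₁k', hβ₁c, ?_⟩
  apply eq_of_resCH_eq (fun j => hX s j t) (hX_disj s hdisj t) (hX_cov s hcov t)
    (isSetup_X' hXs t) (fun j => isSetup_X' hXs (pu s j t)) (fun j => compatX s j t) (k + r - p)
  intro j
  haveI i1 : Flat (mY s s' t h e₁ j) := flat_mY s s' t h e₁ j
  haveI i2 : Flat (mX s s' t h h' e₁ e₂ j) := flat_mX s s' t h h' e₁ e₂ j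
  haveI i3 : LocallyOfFiniteType (mX s s' t h h' e₁ e₂ j) := lft_mX s s' t h h' e₁ e₂ e₃ j
  rw [resCH_glueOp, resCH_cl, resCH_cl]
  obtain ⟨βj, hβj, e4, e5⟩ := (c j).pull (pc s j s') (pc s j t) (mY s s' t h e₁ j)
    (mX s s' t h h' e₁ e₂ j) r (relDim_mY s s' t h e₁ r hr j)
    (relDim_mX s s' t h h' e₁ e₂ e₃ r hr' j) (mY_snd s s' t h e₁ j)
    (mX_fst s s' t h h' e₁ e₂ j) (mX_g' s s' t h h' e₁ e₂ e₃ j) k (resCyc (hY s j s') α)
    (resCyc_mem_Zk (hY s j s') _ _ (compatY s j s') k α hα)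
  have hcoefY : ⇑(resCyc (hY s j t) α₁) =
      Cyc.pullFun (mY s s' t h e₁ j) (pc s j t).δY' (pc s j s').δY' (r : ℤ)
        ⇑(resCyc (hY s j s') α) := by
    funext a
    rw [resCyc_apply, hα₁c]
    exact resCyc_pull (hY s j t) (hY s j s') h (mY s s' t h e₁ j) (mY_fst s s' t h e₁ j).symm
      t.δY' s'.δY' (pu s j t).δY' (pu s j s').δY' (compatY s j t) (compatY s j s') r α a
  obtain ⟨β₁', hβ₁', e6, e7⟩ := e5 (resCyc (hY s j t) α₁) hcoefY
    (resCyc_mem_Zk (hY s j t) _ _ (compatY s j t) (k + r) α₁ hα₁)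
  rw [e7]
  have e8 : ChowOps.cl βj hβj = ChowOps.cl (resCyc (hX s j s') β)
      (resCyc_mem_Zk (hX s j s') _ _ (compatX s j s') (k - p) β hβ) := by
    rw [← e4, ← resCH_cl (hX s j s') (isSetup_X' hXs s') (isSetup_X' hXs (pu s j s'))
      (compatX s j s') (k - p) β hβ, e, resCH_glueOp, resCH_cl]
  have hcoefX : ⇑(resCyc (hX s j t) β₁) =
      Cyc.pullFun (mX s s' t h h' e₁ e₂ j) (pc s j t).δX' (pc s j s').δX' (r : ℤ)
        ⇑(resCyc (hX s j s') β) := by
    funext a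
    rw [resCyc_apply, hβ₁c]
    exact resCyc_pull (hX s j t) (hX s j s') h' (mX s s' t h h' e₁ e₂ j)
      (mX_snd s s' t h h' e₁ e₂ j).symm t.δX' s'.δX' (pu s j t).δX' (pu s j s').δX'
      (compatX s j t) (compatX s j s') r β a
  have hrat := main1856 (pc s j t).X' (pc s j s').X' (pc s j t).δX' (pc s j s').δX'
    (isSetup_X' hXs (pu s j t)) (isSetup_X' hXs (pu s j s')) (mX s s' t h h' e₁ e₂ j) r
    (relDim_mX s s' t h h' e₁ e₂ e₃ r hr' j) (compat_mX s s' t h h' e₁ e₂ e₃ j) (k - p)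
    βj (resCyc (hX s j s') β) (ratEquiv_of_cl_eq _ _ e8) β₁' (resCyc (hX s j t) β₁) e6 hcoefX
  have hZ : resCyc (hX s j t) β₁ ∈ Cyc.Zk (pc s j t).X' (pc s j t).δX' (k - p + r) :=
    resCyc_mem_Zk (hX s j t) _ _ (compatX s j t) (k - p + r) β₁ hβ₁k
  have hZ' : β₁' ∈ Cyc.Zk (pc s j t).X' (pc s j t).δX' (k - p + r) := by
    rwa [show k - p + (r : ℤ) = k + r - p by ring]
  have := cl_eq_of_ratEquiv hZ' hZ hrat
  exact cl_index_congr (show k - p + (r : ℤ) = k + r - p by ring) β₁' (resCyc (hX s j t) β₁)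
    hZ' hZ hβ₁' _ this

end Pull

end Part8

section Part9

open AlgebraicGeometry CategoryTheory TopologicalSpace IsLocalRing Opposite CategoryTheory.Limits
  Groth.Agent.Lib.R2H1.RelDimBC Groth.Agent.Lib.R2H1.PerfCyc Groth.Agent.Lib.Helper4.DimFormula
  Groth.Agent.Lib.R2H1.FlatPullRat Groth.Agent.Lib.R2H1.BivarFlat
  Groth.Agent.Lib.R2H1.MVClosed Groth.Agent.Lib.R2H1.ChowDesc Groth.Agent.Lib.R2H1.ExtProd
  Groth.Agent.Lib.R2H1.C1Chow Groth.Agent.Lib.R2H1.RatEquivClosed Bivar Groth.Agent.Lib.R2H1.BivarEnv Groth.Agent.Lib.R2H1.IsoTransport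
  Groth.Agent.Lib.R2H1.ZeroBC Groth.Agent.Lib.R2H1.BivarGysin Groth.Agent.Lib.R2H1.BivarC1

variable {S S' D D' : Scheme.{u}}

theorem delta_closedImmersion (i : D ⟶ S) [IsClosedImmersion i] (δD : D → ℤ) (δS : S → ℤ)
    (h : Cyc.DeltaCompat i δD δS) : δD = fun d => δS (i d) :=
  deltaCompat_unique i h (deltaCompat_closedImmersion i δS)

/-- base change of zero schemes, for any cartesian square. -/
theorem isZeroSchemeOf_base (v : S' ⟶ S) (i : D ⟶ S) [IsClosedImmersion i] (i' : D' ⟶ S')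
    (u : D' ⟶ D) (hsq : IsPullback i' u v i) (L : S.Modules) (hL : PicF.IsInvertible L)
    (σ : L.presheaf.obj (op ⊤)) (hσ : Cyc.IsZeroSchemeOf i L σ) :
    Cyc.IsZeroSchemeOf i' ((Scheme.Modules.pullback v).obj L) (pullTop v L σ) := by
  have h0 := isZeroSchemeOf_pullback v i L hL σ hσ
  have e1 : hsq.isoPullback.symm.hom ≫ i' = pullback.fst v i := by
    rw [Iso.symm_hom, Iso.inv_comp_eq, hsq.isoPullback_hom_fst]
  apply isZeroSchemeOf_of_comp_iso hsq.isoPullback.symm i'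
  rw [e1]
  exact h0

/-- the Gysin map commutes with restriction to an open. -/
theorem gysCH_res (v : S' ⟶ S) [IsOpenImmersion v] (i : D ⟶ S) [IsClosedImmersion i]
    (i' : D' ⟶ S') [IsClosedImmersion i'] (u : D' ⟶ D) [IsOpenImmersion u]
    (hsq : IsPullback i' u v i) (δS : S → ℤ) (δS' : S' → ℤ) (hS : Cyc.IsSetup S δS)
    (hS' : Cyc.IsSetup S' δS') (hv : Cyc.DeltaCompat v δS' δS)
    (δD : D → ℤ) (hδD : δD = fun d => δS (i d)) (δD' : D' → ℤ)
    (hδD' : δD' = fun d => δS' (i' d)) (hu : Cyc.DeltaCompat u δD' δD)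
    (L : S.Modules) (hL : PicF.IsInvertible L) (σ : L.presheaf.obj (op ⊤))
    (hσ : Cyc.IsZeroSchemeOf i L σ)
    (τ' : ((Scheme.Modules.pullback v).obj L).presheaf.obj (op ⊤))
    (hτ' : Cyc.IsZeroSchemeOf i' ((Scheme.Modules.pullback v).obj L) τ')
    (k : ℤ) (α : AlgebraicCycle S ℤ) (hα : α ∈ Cyc.Zk S δS k)
    (w : (ξ : S) → Cyc.secFibre L ξ) (hw : ∀ ξ, w ξ ≠ 0) (γ : AlgebraicCycle D ℤ)
    (hγc : ∀ d, γ d = Cyc.c1CapFun δS L ⇑α (Cyc.gysinChoice L σ w) (i d))
    (hγ : γ ∈ Cyc.Zk D δD (k - 1)) :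
    gysCH δS' hS' i' δD' hδD' ((Scheme.Modules.pullback v).obj L) (inv_pull v L hL) τ' hτ' k
        (ChowOps.cl (resCyc v α) (resCyc_mem_Zk v δS' δS hv k α hα)) =
      ChowOps.cl (resCyc u γ) (resCyc_mem_Zk u δD' δD hu (k - 1) γ hγ) := by
  have hN := inv_pull v L hL
  obtain ⟨ζ₁, hζ₁c, hζ₁⟩ := exists_gys δS' hS' i' δD' hδD' _ hN τ' hτ' k (resCyc v α)
    (resCyc_mem_Zk v δS' δS hv k α hα) (v₀ _ hN) (v₀_ne _ hN)
  rw [gysCH_cl δS' hS' i' δD' hδD' _ hN τ' hτ' k (resCyc v α) _ τ' hτ' (v₀ _ hN) (v₀_ne _ hN)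
    ζ₁ hζ₁c hζ₁]
  apply cl_eq_of_ratEquiv
  have hα' : α ∈ Cyc.Zk S δS (k - 1 + 1) := by rw [sub_add_cancel]; exact hα
  subst hδD hδD'
  have key := main1933_sq S S' D D' δS δS' hS hS' v 0 (hasRelDim_openImmersion v) hv L hL σ i hσ
    i' u hsq τ' hτ' (k - 1) α hα' w hw (v₀ _ hN) (v₀_ne _ hN) ζ₁ (resCyc u γ)
    (fun z => by rw [hζ₁c z, Nat.cast_zero, ← coe_resCyc v δS' δS hv])
    (by
      rw [Nat.cast_zero, pullFun_openImmersion u _ _ hu]
      funext z
      exact hγc (u z))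
  rw [Nat.cast_zero, add_zero] at key
  exact key

end Part9

section Part10

open AlgebraicGeometry CategoryTheory TopologicalSpace IsLocalRing Opposite CategoryTheory.Limits
  Groth.Agent.Lib.R2H1.RelDimBC Groth.Agent.Lib.R2H1.PerfCyc Groth.Agent.Lib.Helper4.DimFormula
  Groth.Agent.Lib.R2H1.FlatPullRat Groth.Agent.Lib.R2H1.BivarFlat
  Groth.Agent.Lib.R2H1.MVClosed Groth.Agent.Lib.R2H1.ChowDesc Groth.Agent.Lib.R2H1.ExtProd
  Groth.Agent.Lib.R2H1.C1Chow Groth.Agent.Lib.R2H1.RatEquivClosed Bivar Groth.Agent.Lib.R2H1.BivarEnv Groth.Agent.Lib.R2H1.IsoTransport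
  Groth.Agent.Lib.R2H1.ZeroBC Groth.Agent.Lib.R2H1.BivarGysin Groth.Agent.Lib.R2H1.BivarC1

variable {X Y : Scheme.{u}} {f : X ⟶ Y} {δX : X → ℤ} {δY : Y → ℤ} {J : Type u}
  (s : J → Sq f δX δY) [hopen : ∀ j, IsOpenImmersion (s j).g]
  (hdisj : ∀ j j' : J, j ≠ j' → Disjoint (Set.range (s j).g) (Set.range (s j').g))
  (hcov : ∀ y : Y, ∃ j, y ∈ Set.range (s j).g)
  (hXs : Cyc.IsSetup X δX) (hYs : Cyc.IsSetup Y δY)
  {p : ℤ} (c : ∀ j, Cl p (s j).f' (s j).δX' (s j).δY')

/-- the comparison of the two pullbacks of `L` to the piece of the fibre product. -/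
noncomputable def Φ (a : J) (s' : Sq f δX δY) (L : s'.Y'.Modules) :
    (Scheme.Modules.pullback (hX s a s')).obj ((Scheme.Modules.pullback s'.f').obj L) ≅
      (Scheme.Modules.pullback (pc s a s').f').obj
        ((Scheme.Modules.pullback (hY s a s')).obj L) :=
  pullIso (hX s a s') s'.f' ((pc s a s').f' ≫ hY s a s') (w₂ s a s') L ≪≫
    (pullIso (pc s a s').f' (hY s a s') ((pc s a s').f' ≫ hY s a s') rfl L).symm

theorem glueOp_gysin (s' t : Sq f δX δY) (i : t.Y' ⟶ s'.Y') [IsClosedImmersion i]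
    (j' : t.X' ⟶ s'.X') [IsClosedImmersion j'] (e₁ : i ≫ s'.g = t.g)
    (e₂ : j' ≫ s'.f' = t.f' ≫ i) (e₃ : j' ≫ s'.g' = t.g')
    (L : s'.Y'.Modules) (hL : PicF.IsInvertible L) (σ : L.presheaf.obj (op ⊤))
    (hσ : Cyc.IsZeroSchemeOf i L σ)
    (τ : ((Scheme.Modules.pullback s'.f').obj L).presheaf.obj (op ⊤))
    (hτ : Cyc.IsZeroSchemeOf j' ((Scheme.Modules.pullback s'.f').obj L) τ) (k : ℤ) :
    GysinOK s'.δY' t.δY' s'.δX' t.δX' i L σ j' ((Scheme.Modules.pullback s'.f').obj L) τ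
      (glueOp s hdisj hcov hXs hYs c s' k) (glueOp s hdisj hcov hXs hYs c t (k - 1)) := by
  intro α hα
  obtain ⟨β, hβ, e⟩ := exists_rep (glueOp s hdisj hcov hXs hYs c s' k (ChowOps.cl α hα))
  refine ⟨β, hβ, e.symm, ?_⟩
  intro w hw γ hγc hγ w' hw'
  have hN := inv_pull s'.f' L hL
  have eY : t.δY' = fun d => s'.δY' (i d) :=
    delta_closedImmersion i _ _ (compat_h s' t i e₁)
  have eX : t.δX' = fun d => s'.δX' (j' d) :=
    delta_closedImmersion j' _ _ (compat_h' s' t j' e₃)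
  obtain ⟨ζ, hζc, hζ⟩ := exists_gys s'.δX' (isSetup_X' hXs s') j' t.δX' eX _ hN τ hτ (k - p) β hβ
    w' hw'
  have hζ' : ζ ∈ Cyc.Zk t.X' t.δX' (k - 1 - p) := by
    rwa [show k - 1 - p = k - p - 1 by ring]
  refine ⟨ζ, hζ', hζc, ?_⟩
  apply eq_of_resCH_eq (fun a => hX s a t) (hX_disj s hdisj t) (hX_cov s hcov t)
    (isSetup_X' hXs t) (fun a => isSetup_X' hXs (pu s a t)) (fun a => compatX s a t) (k - 1 - p)
  intro a
  rw [resCH_glueOp, resCH_cl, resCH_cl]
  -- closed immersions on the pieces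
  haveI i1 : IsClosedImmersion (mY s s' t i e₁ a) :=
    MorphismProperty.of_isPullback (P := @IsClosedImmersion) (isPullback_mY s s' t i e₁ a).flip
      inferInstance
  haveI i2 : IsClosedImmersion (mX s s' t i j' e₁ e₂ a) :=
    MorphismProperty.of_isPullback (P := @IsClosedImmersion)
      (isPullback_mX s s' t i j' e₁ e₂ a).flip inferInstance
  -- the data on the pieces
  have hLa := inv_pull (hY s a s') L hL
  have hσa := isZeroSchemeOf_base (hY s a s') i (mY s s' t i e₁ a) (hY s a t)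
    (isPullback_mY s s' t i e₁ a) L hL σ hσ
  have hMa := inv_pull (hX s a s') _ hN
  have hτ0 := isZeroSchemeOf_base (hX s a s') j' (mX s s' t i j' e₁ e₂ a) (hX s a t)
    (isPullback_mX s s' t i j' e₁ e₂ a) _ hN τ hτ
  have hτa := isZeroSchemeOf_of_moduleIso (mX s s' t i j' e₁ e₂ a) (Φ s a s' L) _ hτ0
  have ptY : ∀ d, hY s a s' (mY s s' t i e₁ a d) = i (hY s a t d) := by
    intro d
    change (mY s s' t i e₁ a ≫ hY s a s') d = (hY s a t ≫ i) d
    rw [mY_fst]
  have ptX : ∀ d, hX s a s' (mX s s' t i j' e₁ e₂ a d) = j' (hX s a t d) := by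
    intro d
    change (mX s s' t i j' e₁ e₂ a ≫ hX s a s') d = (hX s a t ≫ j') d
    rw [mX_snd]
  have eYa : (pc s a t).δY' = fun d => (pc s a s').δY' (mY s s' t i e₁ a d) := by
    funext d
    change t.δY' (hY s a t d) = s'.δY' (hY s a s' (mY s s' t i e₁ a d))
    rw [ptY, eY]
  have eXa : (pc s a t).δX' = fun d => (pc s a s').δX' (mX s s' t i j' e₁ e₂ a d) := by
    funext d
    change t.δX' (hX s a t d) = s'.δX' (hX s a s' (mX s s' t i j' e₁ e₂ a d))
    rw [ptX, eX]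
  have hαa := resCyc_mem_Zk (hY s a s') _ _ (compatY s a s') k α hα
  obtain ⟨βa, hβa, e4, e5⟩ := (c a).gysin (pc s a s') (pc s a t) (mY s s' t i e₁ a)
    (mX s s' t i j' e₁ e₂ a) (mY_snd s s' t i e₁ a) (mX_fst s s' t i j' e₁ e₂ a)
    (mX_g' s s' t i j' e₁ e₂ e₃ a) _ hLa _ hσa _ hτa k (resCyc (hY s a s') α) hαa
  obtain ⟨γa, hγac, hγa⟩ := exists_gys (pc s a s').δY' (isSetup_Y' hYs (pu s a s'))
    (mY s s' t i e₁ a) (pc s a t).δY' eYa _ hLa _ hσa k (resCyc (hY s a s') α) hαa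
    (v₀ _ hLa) (v₀_ne _ hLa)
  obtain ⟨ζa, hζa, hζac, e6⟩ := e5 (v₀ _ hLa) (v₀_ne _ hLa) γa hγac hγa
    (fun ξ => fibMap (Φ s a s' L) ξ (v₀ _ hMa ξ))
    (fun ξ => fibMap_ne_zero (Φ s a s' L) hMa ξ _ (v₀_ne _ hMa ξ))
  -- the test scheme level
  have hYl : ChowOps.cl γa hγa = ChowOps.cl (resCyc (hY s a t) γ)
      (resCyc_mem_Zk (hY s a t) _ _ (compatY s a t) (k - 1) γ hγ) := by
    rw [← gysCH_cl (pc s a s').δY' (isSetup_Y' hYs (pu s a s')) (mY s s' t i e₁ a)
      (pc s a t).δY' eYa _ hLa _ hσa k (resCyc (hY s a s') α) hαa _ hσa (v₀ _ hLa) (v₀_ne _ hLa)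
      γa hγac hγa]
    exact gysCH_res (hY s a s') i (mY s s' t i e₁ a) (hY s a t) (isPullback_mY s s' t i e₁ a)
      s'.δY' (pc s a s').δY' (isSetup_Y' hYs s') (isSetup_Y' hYs (pu s a s')) (compatY s a s')
      t.δY' eY (pc s a t).δY' eYa (compatY s a t) L hL σ hσ _ hσa k α hα w hw γ hγc hγ
  rw [← hYl, e6]
  -- the fibre product level
  haveI : IsLocallyNoetherian (pc s a s').X' := (isSetup_X' hXs (pu s a s')).1
  have hζac' : ∀ z, ζa z = Cyc.c1CapFun (pc s a s').δX'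
      ((Scheme.Modules.pullback (hX s a s')).obj ((Scheme.Modules.pullback s'.f').obj L)) ⇑βa
      (Cyc.gysinChoice _ (pullTop (hX s a s') _ τ) (v₀ _ hMa)) (mX s s' t i j' e₁ e₂ a z) := by
    intro z
    rw [hζac z, c1CapFun_gysinChoice_moduleIso (isSetup_X' hXs (pu s a s')).2.2 (Φ s a s' L) hMa]
  have hζa' : ζa ∈ Cyc.Zk (pc s a t).X' (pc s a t).δX' (k - p - 1) := by
    rwa [show k - p - 1 = k - 1 - p by ring]
  have hβr := resCyc_mem_Zk (hX s a s') _ _ (compatX s a s') (k - p) β hβ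
  have e8 : ChowOps.cl βa hβa = ChowOps.cl (resCyc (hX s a s') β) hβr := by
    rw [← e4, ← resCH_cl (hX s a s') (isSetup_X' hXs s') (isSetup_X' hXs (pu s a s'))
      (compatX s a s') (k - p) β hβ, e, resCH_glueOp, resCH_cl]
  have hXl : ChowOps.cl ζa hζa' = ChowOps.cl (resCyc (hX s a t) ζ)
      (resCyc_mem_Zk (hX s a t) _ _ (compatX s a t) (k - p - 1) ζ hζ) := by
    rw [← gysCH_cl (pc s a s').δX' (isSetup_X' hXs (pu s a s')) (mX s s' t i j' e₁ e₂ a)
      (pc s a t).δX' eXa _ hMa _ hτ0 (k - p) βa hβa _ hτ0 (v₀ _ hMa) (v₀_ne _ hMa)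
      ζa hζac' hζa', e8]
    exact gysCH_res (hX s a s') j' (mX s s' t i j' e₁ e₂ a) (hX s a t)
      (isPullback_mX s s' t i j' e₁ e₂ a) s'.δX' (pc s a s').δX' (isSetup_X' hXs s')
      (isSetup_X' hXs (pu s a s')) (compatX s a s') t.δX' eX (pc s a t).δX' eXa (compatX s a t)
      _ hN τ hτ _ hτ0 (k - p) β hβ w' hw' ζ hζc hζ
  exact cl_index_congr (show k - p - 1 = k - 1 - p by ring) ζa (resCyc (hX s a t) ζ) hζa' _ hζa _
    hXl

end Part10

section Part11

open AlgebraicGeometry CategoryTheory TopologicalSpace IsLocalRing Opposite CategoryTheory.Limits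
  Groth.Agent.Lib.R2H1.RelDimBC Groth.Agent.Lib.R2H1.PerfCyc Groth.Agent.Lib.Helper4.DimFormula
  Groth.Agent.Lib.R2H1.FlatPullRat Groth.Agent.Lib.R2H1.BivarFlat
  Groth.Agent.Lib.R2H1.MVClosed Groth.Agent.Lib.R2H1.ChowDesc Groth.Agent.Lib.R2H1.ExtProd
  Groth.Agent.Lib.R2H1.C1Chow Groth.Agent.Lib.R2H1.RatEquivClosed Bivar Groth.Agent.Lib.R2H1.BivarEnv Groth.Agent.Lib.R2H1.IsoTransport
  Groth.Agent.Lib.R2H1.ZeroBC Groth.Agent.Lib.R2H1.BivarGysin Groth.Agent.Lib.R2H1.BivarC1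

section Empty

variable {U : Scheme.{u}}

theorem subsingleton_CH_of_isEmpty [IsEmpty U] (δ : U → ℤ) (k : ℤ) :
    Subsingleton (ChowOps.CH U δ k) := by
  refine ⟨fun x y => ?_⟩
  obtain ⟨a, ha, rfl⟩ := exists_rep x
  obtain ⟨b, hb, rfl⟩ := exists_rep y
  apply cl_congr
  ext z
  exact (IsEmpty.false z).elim

end Empty

variable {X Y : Scheme.{u}} {f : X ⟶ Y} {δX : X → ℤ} {δY : Y → ℤ} {J : Type u}
  (s : J → Sq f δX δY) [hopen : ∀ j, IsOpenImmersion (s j).g]
  (hdisj : ∀ j j' : J, j ≠ j' → Disjoint (Set.range (s j).g) (Set.range (s j').g))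
  (hcov : ∀ y : Y, ∃ j, y ∈ Set.range (s j).g)
  (hXs : Cyc.IsSetup X δX) (hYs : Cyc.IsSetup Y δY)
  {p : ℤ} (c : ∀ j, Cl p (s j).f' (s j).δX' (s j).δY')

/-- the bivariant class glued from classes on the pieces of a clopen cover of the target. -/
noncomputable def glueCl : Cl p f δX δY where
  op := glueOp s hdisj hcov hXs hYs c
  push := fun s' t h _ h' _ e₁ e₂ e₃ k => glueOp_push s hdisj hcov hXs hYs c s' t h h' e₁ e₂ e₃ k
  pull := fun s' t h _ h' _ r hr hr' e₁ e₂ e₃ k =>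
    glueOp_pull s hdisj hcov hXs hYs c s' t h h' r hr hr' e₁ e₂ e₃ k
  gysin := fun s' t i _ j _ e₁ e₂ e₃ L hL σ hσ τ hτ k =>
    glueOp_gysin s hdisj hcov hXs hYs c s' t i j e₁ e₂ e₃ L hL σ hσ τ hτ k

section Res

variable (j : J) (t' : Sq (s j).f' (s j).δX' (s j).δY')

theorem v₁ : hY s j ((s j).paste t') ≫ t'.g = pullback.snd ((s j).paste t').g (s j).g := by
  rw [← cancel_mono (s j).g, Category.assoc]
  exact pullback.condition

theorem v₂ : hX s j ((s j).paste t') ≫ t'.f' =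
    pullback.fst (pullback.fst ((s j).paste t').g (s j).g) ((s j).paste t').f' ≫
      hY s j ((s j).paste t') :=
  pullback.condition.symm

theorem v₃ : hX s j ((s j).paste t') ≫ t'.g' = pg' s j ((s j).paste t') := by
  apply (s j).isPullback.hom_ext
  · rw [Category.assoc, ← t'.isPullback.w, ← Category.assoc, v₂, Category.assoc, v₁, pg'_fst]
  · rw [Category.assoc, pg'_snd]

include hdisj in
theorem isEmpty_piece (a : J) (ha : a ≠ j) : IsEmpty ↥(pu s a ((s j).paste t')).X' := by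
  refine ⟨fun z => ?_⟩
  have h1 : hX s a ((s j).paste t') z ∈ Set.range (hX s a ((s j).paste t')) := ⟨z, rfl⟩
  rw [range_hX, Set.mem_preimage, range_hY, Set.mem_preimage] at h1
  have h2 : ((s j).paste t').g (((s j).paste t').f' (hX s a ((s j).paste t') z)) ∈
      Set.range (s j).g := ⟨t'.g (((s j).paste t').f' (hX s a ((s j).paste t') z)), rfl⟩
  exact Set.disjoint_left.1 (hdisj a j ha) h1 h2

theorem glueCl_res : (glueCl s hdisj hcov hXs hYs c).res (s j) = c j := by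
  apply Cl.ext
  funext t' k
  apply AddMonoidHom.ext
  intro x
  change glueOp s hdisj hcov hXs hYs c ((s j).paste t') k x = (c j).op t' k x
  apply eq_of_resCH_eq (fun a => hX s a ((s j).paste t')) (hX_disj s hdisj _) (hX_cov s hcov _)
    (isSetup_X' hXs ((s j).paste t')) (fun a => isSetup_X' hXs (pu s a ((s j).paste t')))
    (fun a => compatX s a ((s j).paste t')) (k - p)
  intro a
  by_cases ha : a = j
  · subst ha
    rw [resCH_glueOp]
    haveI i1 : Flat (hY s a ((s a).paste t')) := inferInstance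
    haveI i2 : Flat (hX s a ((s a).paste t')) := inferInstance
    exact (resCH_of_pullOK (hY s a ((s a).paste t')) (hX s a ((s a).paste t'))
      (isSetup_Y' hYs ((s a).paste t')) (isSetup_X' hXs ((s a).paste t'))
      (isSetup_Y' hYs (pu s a ((s a).paste t'))) (isSetup_X' hXs (pu s a ((s a).paste t')))
      (compatY s a ((s a).paste t')) (compatX s a ((s a).paste t'))
      (fun k => (c a).op (pc s a ((s a).paste t')) k) k ((c a).op t' k)
      ((c a).pull t' (pc s a ((s a).paste t')) (hY s a ((s a).paste t'))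
        (hX s a ((s a).paste t')) 0 (hasRelDim_openImmersion _) (hasRelDim_openImmersion _)
        (v₁ s a t') (v₂ s a t') (v₃ s a t') k) x).symm
  · haveI := isEmpty_piece s hdisj j t' a ha
    haveI := subsingleton_CH_of_isEmpty (pu s a ((s j).paste t')).δX' (k - p)
    exact Subsingleton.elim _ _

end Res

include hdisj hcov hXs hYs in
/-- bivariant classes over a clopen decomposition of the target: `A^p(X → Y) = ∏ A^p(X_j → Y_j)`. -/
theorem main17578 (p : ℤ) :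
    Function.Bijective (fun c : Cl p f δX δY => fun j : J => c.res (s j)) :=
  ⟨fun c d h => res_injective s hdisj hcov hXs hYs c d (fun j => congrFun h j),
    fun c => ⟨glueCl s hdisj hcov hXs hYs c, funext (fun j => glueCl_res s hdisj hcov hXs hYs c j)⟩⟩

end Part11

end Groth.Agent.Lib.R2H1.Clopen
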