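/-
R2H1SigmaProper: coproducts of schemes mapping to a locally Noetherian scheme: Sigma.desc of proper maps with locally finite images is proper (valuative criterion).
-/
import Mathlib
import Groth.Prelude
import Groth.Agent.Lib.R2H1Clopen

set_option autoImplicit false
set_option linter.style.haveILetI false
set_option linter.unusedSectionVars false
universe u v

namespace Groth.Agent.Lib.R2H1.SigmaProper

section Part1

open AlgebraicGeometry CategoryTheory TopologicalSpace Opposite CategoryTheory.Limits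
  Groth.Agent.Lib.R2H1.Clopen

variable {A : Type u} (W : A → Scheme.{u}) {Y : Scheme.{u}} (g : ∀ a, W a ⟶ Y)

theorem sigma_cov (x : ↥(∐ W)) : ∃ a, x ∈ Set.range (Sigma.ι W a) := by
  obtain ⟨⟨a, y⟩, rfl⟩ := (sigmaMk W).surjective x
  exact ⟨a, y, (sigmaMk_mk W a y).symm⟩

theorem sigma_disj (a b : A) (h : a ≠ b) :
    Disjoint (Set.range (Sigma.ι W a)) (Set.range (Sigma.ι W b)) := by
  rw [Set.disjoint_left]
  rintro x ⟨y, rfl⟩ ⟨z, hz⟩
  have := (sigmaι_eq_iff W b a z y).mp hz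
  exact h (congrArg Sigma.fst this).symm

theorem sigma_isClosed_range (a : A) : IsClosed (Set.range (Sigma.ι W a)) :=
  isClosed_range (fun a => Sigma.ι W a) (sigma_disj W) (sigma_cov W) a

theorem lft_sigmaDesc [hg : ∀ a, LocallyOfFiniteType (g a)] : LocallyOfFiniteType (Sigma.desc g) := by
  rw [IsZariskiLocalAtSource.iff_of_openCover (P := @LocallyOfFiniteType) (sigmaOpenCover W)]
  intro a
  have : (sigmaOpenCover W).f a ≫ Sigma.desc g = g a := by
    change Sigma.ι W a ≫ Sigma.desc g = g a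
    simp
  rw [this]
  exact hg a

theorem desc_apply (a : A) (y : W a) : (Sigma.desc g) (Sigma.ι W a y) = g a y := by
  change (Sigma.ι W a ≫ Sigma.desc g) y = g a y
  rw [Sigma.ι_desc]

theorem quasiCompact_sigmaDesc [∀ a, QuasiCompact (g a)]
    (hlf : ∀ y : Y, ∃ U : Set Y, IsOpen U ∧ y ∈ U ∧
      {a | (Set.range (g a) ∩ U).Nonempty}.Finite) : QuasiCompact (Sigma.desc g) := by
  constructor
  intro U hU hUc
  have hfin : {a | (Set.range (g a) ∩ U).Nonempty}.Finite := by
    choose V hVo hyV hVf using hlf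
    obtain ⟨t, ht⟩ := hUc.elim_finite_subcover (fun y : Y => V y) hVo
      (fun y _ => Set.mem_iUnion.2 ⟨y, hyV y⟩)
    refine (Set.Finite.biUnion t.finite_toSet (fun y _ => hVf y)).subset ?_
    rintro a ⟨x, hx1, hx2⟩
    obtain ⟨y, hy, hxy⟩ := Set.mem_iUnion₂.1 (ht hx2)
    exact Set.mem_iUnion₂.2 ⟨y, hy, ⟨x, hx1, hxy⟩⟩
  have e : (Sigma.desc g) ⁻¹' U =
      ⋃ a ∈ {a | (Set.range (g a) ∩ U).Nonempty}, Sigma.ι W a '' ((g a) ⁻¹' U) := by
    ext x
    constructor
    · intro hx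
      obtain ⟨a, y, rfl⟩ := sigma_cov W x
      have h1 : g a y ∈ U := by rw [← desc_apply]; exact hx
      exact Set.mem_iUnion₂.2 ⟨a, ⟨g a y, ⟨y, rfl⟩, h1⟩, ⟨y, h1, rfl⟩⟩
    · intro hx
      obtain ⟨a, -, y, hy, rfl⟩ := Set.mem_iUnion₂.1 hx
      change (Sigma.desc g) (Sigma.ι W a y) ∈ U
      rw [desc_apply]
      exact hy
  rw [e]
  exact hfin.isCompact_biUnion (fun a _ =>
    (QuasiCompact.isCompact_preimage (f := g a) U hU hUc).image (Sigma.ι W a).continuous)

theorem existence_sigmaDesc [hg : ∀ a, IsProper (g a)] :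
    ValuativeCriterion.Existence (Sigma.desc g) := by
  intro S
  let x₀ : Spec (CommRingCat.of S.K) := IsLocalRing.closedPoint S.K
  obtain ⟨a, ha⟩ := sigma_cov W (S.i₁ x₀)
  have hr : Set.range S.i₁ ⊆ Set.range (Sigma.ι W a) := by
    rintro _ ⟨x, rfl⟩
    rw [Subsingleton.elim x x₀]
    exact ha
  let j₁ : Spec (CommRingCat.of S.K) ⟶ W a := IsOpenImmersion.lift (Sigma.ι W a) S.i₁ hr
  have hj₁ : j₁ ≫ Sigma.ι W a = S.i₁ := IsOpenImmersion.lift_fac _ _ _
  have hex : ValuativeCriterion.Existence (g a) := by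
    have h : UniversallyClosed (g a) := inferInstance
    rw [UniversallyClosed.eq_valuativeCriterion] at h
    exact h.1
  have hsq : CommSq j₁ (Spec.map (CommRingCat.ofHom (algebraMap S.R S.K))) (g a) S.i₂ := by
    constructor
    rw [← S.commSq.w, ← hj₁, Category.assoc, Sigma.ι_desc]
  let S' : ValuativeCommSq (g a) := ⟨S.R, S.K, j₁, S.i₂, hsq⟩
  obtain ⟨⟨l⟩⟩ := hex S'
  refine ⟨⟨⟨l.l ≫ Sigma.ι W a, ?_, ?_⟩⟩⟩
  · rw [← Category.assoc, l.fac_left]
    exact hj₁
  · rw [Category.assoc, Sigma.ι_desc]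
    exact l.fac_right

theorem uniqueness_sigmaDesc [hg : ∀ a, IsProper (g a)] :
    ValuativeCriterion.Uniqueness (Sigma.desc g) := by
  intro S
  refine ⟨fun l₁ l₂ => ?_⟩
  let x₀ : Spec (CommRingCat.of S.K) := IsLocalRing.closedPoint S.K
  obtain ⟨a, ha⟩ := sigma_cov W (S.i₁ x₀)
  have hrange : ∀ l : S.commSq.LiftStruct, Set.range l.l ⊆ Set.range (Sigma.ι W a) := by
    intro l
    have hclopen : IsClopen (l.l ⁻¹' Set.range (Sigma.ι W a)) :=
      ⟨(sigma_isClosed_range W a).preimage l.l.continuous,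
        (Sigma.ι W a).isOpenEmbedding.isOpen_range.preimage l.l.continuous⟩
    have hne : (l.l ⁻¹' Set.range (Sigma.ι W a)).Nonempty := by
      refine ⟨Spec.map (CommRingCat.ofHom (algebraMap S.R S.K)) x₀, ?_⟩
      change (Spec.map (CommRingCat.ofHom (algebraMap S.R S.K)) ≫ l.l) x₀ ∈
        Set.range (Sigma.ι W a)
      rw [l.fac_left]
      exact ha
    have huniv := hclopen.eq_univ hne
    rintro _ ⟨x, rfl⟩
    have : x ∈ l.l ⁻¹' Set.range (Sigma.ι W a) := by rw [huniv]; trivial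
    exact this
  have hr : Set.range S.i₁ ⊆ Set.range (Sigma.ι W a) := by
    rintro _ ⟨x, rfl⟩
    rw [Subsingleton.elim x x₀]
    exact ha
  let j₁ : Spec (CommRingCat.of S.K) ⟶ W a := IsOpenImmersion.lift (Sigma.ι W a) S.i₁ hr
  have hj₁ : j₁ ≫ Sigma.ι W a = S.i₁ := IsOpenImmersion.lift_fac _ _ _
  have hsq : CommSq j₁ (Spec.map (CommRingCat.ofHom (algebraMap S.R S.K))) (g a) S.i₂ := by
    constructor
    rw [← S.commSq.w, ← hj₁, Category.assoc, Sigma.ι_desc]
  let S' : ValuativeCommSq (g a) := ⟨S.R, S.K, j₁, S.i₂, hsq⟩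
  have hun := IsSeparated.valuativeCriterion (g a) S'
  have mk : ∀ l : S.commSq.LiftStruct, ∃ l' : S'.commSq.LiftStruct,
      l'.l ≫ Sigma.ι W a = l.l := by
    intro l
    let m : Spec (CommRingCat.of S.R) ⟶ W a := IsOpenImmersion.lift (Sigma.ι W a) l.l (hrange l)
    have hm : m ≫ Sigma.ι W a = l.l := IsOpenImmersion.lift_fac _ _ _
    refine ⟨⟨m, ?_, ?_⟩, hm⟩
    · rw [← cancel_mono (Sigma.ι W a), Category.assoc, hm, l.fac_left]
      exact hj₁.symm
    · have := l.fac_right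
      rw [← hm, Category.assoc, Sigma.ι_desc] at this
      exact this
  obtain ⟨l₁', h₁⟩ := mk l₁
  obtain ⟨l₂', h₂⟩ := mk l₂
  have : l₁' = l₂' := Subsingleton.elim _ _
  have hl : l₁.l = l₂.l := by rw [← h₁, ← h₂, this]
  cases l₁; cases l₂
  simp only at hl
  subst hl
  rfl

/-- a locally finite family of proper morphisms induces a proper morphism from the coproduct. -/
theorem isProper_sigmaDesc [IsLocallyNoetherian Y] [hg : ∀ a, IsProper (g a)]
    (hlf : ∀ y : Y, ∃ U : Set Y, IsOpen U ∧ y ∈ U ∧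
      {a | (Set.range (g a) ∩ U).Nonempty}.Finite) : IsProper (Sigma.desc g) := by
  haveI : LocallyOfFiniteType (Sigma.desc g) := lft_sigmaDesc W g
  haveI : QuasiCompact (Sigma.desc g) := quasiCompact_sigmaDesc W g hlf
  haveI : IsLocallyNoetherian (∐ W) := LocallyOfFiniteType.isLocallyNoetherian (Sigma.desc g)
  haveI : QuasiSeparated (Sigma.desc g) := inferInstance
  apply IsProper.of_valuativeCriterion
  rw [ValuativeCriterion.iff]
  exact ⟨existence_sigmaDesc W g, uniqueness_sigmaDesc W g⟩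

end Part1

end Groth.Agent.Lib.R2H1.SigmaProper
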