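import Mathlib
import Groth.Prelude
import Groth.Agent.Lib.R2H1CurveDeg
import Groth.Agent.Lib.Helper4VarDim2
import Groth.Agent.Lib.R2H1IsoP1D
import Groth.Agent.Lib.Helper8Dedekind
import Groth.Agent.S2345
import Groth.Agent.Lib.R2H1SigmaProper
import Groth.Agent.Lib.Helper4EtNormalSch
set_option backward.isDefEq.respectTransparency.types false

/-!
R2H1NormCompl: normal completion of a normal curve over a field. An integral normal curve over k is an open subscheme of the proper normal curve with the same function field (valuative criterion + valuation rings); a general (possibly disconnected) normal curve is the disjoint union of its irreducible components, each completed separately (normal_completion).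
-/

set_option autoImplicit false
set_option linter.style.haveILetI false
set_option linter.unusedSectionVars false
universe u v

open CategoryTheory CategoryTheory.Limits AlgebraicGeometry TopologicalSpace Opposite

namespace Groth.Agent.Lib.R2H1.NormCompl

section Part1

open Groth.Agent.Lib.Helper4.VarDim

variable (k : Type u) [Field k] (X : Scheme.{u}) [X.Over (Spec (CommRingCat.of k))]
    [IsIntegral X] [LocallyOfFiniteType (X ↘ Spec (CommRingCat.of k))]

include k in
theorem jacobsonSpace_of_lft : JacobsonSpace X :=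
  LocallyOfFiniteType.jacobsonSpace (X ↘ Spec (CommRingCat.of k))

include k in
/-- an integral scheme locally of finite type over a field whose closed points have local rings of
dimension one has dimension one -/
theorem dim_eq_one_of_hcurve
    (hcurve : ∀ x : X, IsClosed ({x} : Set X) → ringKrullDim (X.presheaf.stalk x) = 1) :
    topologicalKrullDim X = 1 := by
  haveI := jacobsonSpace_of_lft k X
  obtain ⟨n, hn, h⟩ := exists_dim_irreducible k X
  rw [topologicalKrullDim_eq_of_irreducible k X n hn]
  -- a closed point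
  obtain ⟨x₀, hx₀⟩ : ∃ x₀ : X, IsClosed ({x₀} : Set X) := by
    have hd : closure (closedPoints X) = Set.univ := by
      have := JacobsonSpace.closure_inter_closedPoints_eq_closure (X := X) (S := Set.univ)
        isClosed_univ.isLocallyClosed
      simpa using this
    obtain ⟨y⟩ := (inferInstance : Nonempty X)
    have hy : y ∈ closure (closedPoints X) := hd ▸ Set.mem_univ y
    obtain ⟨z, hz⟩ := (mem_closure_iff_nhds.mp hy Set.univ Filter.univ_mem)
    exact ⟨z, hz.2⟩
  obtain ⟨V, hV, hxV, -⟩ := exists_isAffineOpen_mem_and_subset (U := ⊤) (x := x₀) trivial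
  have hdimV := h V hV ⟨x₀, hxV⟩
  have key : ringKrullDim Γ(X, V) = 1 := by
    apply le_antisymm
    · rw [ringKrullDim_le_iff_isMaximal_height_le]
      intro m hm
      let q : PrimeSpectrum Γ(X, V) := ⟨m, hm.isPrime⟩
      have hq : IsClosed ({q} : Set (PrimeSpectrum Γ(X, V))) :=
        (PrimeSpectrum.isClosed_singleton_iff_isMaximal q).2 hm
      have hz : IsClosed ({hV.fromSpec q} : Set X) := by
        have h1 := hV.fromSpec.isOpenEmbedding.preimage_closedPoints
        have h2 : q ∈ closedPoints (Spec Γ(X, V)) := hq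
        rw [← h1] at h2
        exact h2
      have hzV := fromSpec_mem hV q
      have h3 := @IsLocalization.AtPrime.ringKrullDim_eq_height _ _
        q.asIdeal _ (X.presheaf.stalk (hV.fromSpec q)) _
        (TopCat.Presheaf.algebra_section_stalk X.presheaf (⟨hV.fromSpec q, hzV⟩ : V))
        (hV.isLocalization_stalk' q hzV)
      rw [hcurve _ hz] at h3
      have h4 : q.asIdeal = m := rfl
      rw [h4] at h3
      exact_mod_cast h3.symm.le
    · letI := TopCat.Presheaf.algebra_section_stalk X.presheaf (⟨x₀, hxV⟩ : V)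
      haveI := hV.isLocalization_stalk ⟨x₀, hxV⟩
      have h3 := IsLocalization.AtPrime.ringKrullDim_eq_height
        (hV.primeIdealOf ⟨x₀, hxV⟩).asIdeal (X.presheaf.stalk x₀)
      rw [hcurve _ hx₀] at h3
      rw [h3]
      exact Ideal.height_le_ringKrullDim_of_isPrime
  rw [key] at hdimV
  exact hdimV.symm

end Part1

section Part2


section Val

variable (k : Type u) [Field k] (X : Scheme.{u}) [X.Over (Spec (CommRingCat.of k))]
    [IsIntegral X] [LocallyOfFiniteType (X ↘ Spec (CommRingCat.of k))]

include k in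
/-- all local rings of a normal curve are valuation rings -/
theorem valuationRing_stalk
    (hcurve : ∀ x : X, IsClosed ({x} : Set X) → ringKrullDim (X.presheaf.stalk x) = 1)
    (hnorm : Pi1.IsNormalScheme X) (x : X) : ValuationRing (X.presheaf.stalk x) := by
  have hdim := dim_eq_one_of_hcurve k X hcurve
  haveI : IsLocallyNoetherian X :=
    LocallyOfFiniteType.isLocallyNoetherian (X ↘ Spec (CommRingCat.of k))
  by_cases hx : x = genericPoint X
  · subst hx
    exact Groth.Agent.Lib.Helper8Dedekind.valuationRing_of_isField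
      (Field.toIsField X.functionField)
  · have hcl := Groth.Agent.Lib.R2H1.CurveDeg.isClosed_of_ne_generic k X hdim x hx
    haveI := Groth.Agent.Lib.R2H1.IsoP1D.isDVR_of_normal_closed hdim x hcl (hnorm x).2
    infer_instance

end Val

section Sec

set_option backward.isDefEq.respectTransparency false in
/-- Over an integral scheme all of whose stalks are valuation rings, a proper morphism with a
section over the generic point has a section extending it. -/
theorem exists_section_extending {S X : Scheme.{u}} [IsIntegral S]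
    (hS : ∀ x : S, ValuationRing (S.presheaf.stalk x))
    (f : X ⟶ S) [IsProper f]
    (s : Spec S.functionField ⟶ X)
    (hs : s ≫ f = S.fromSpecStalk (genericPoint S)) :
    ∃ t : S ⟶ X, t ≫ f = 𝟙 S ∧ S.fromSpecStalk (genericPoint S) ≫ t = s := by
  classical
  have hex : ValuativeCriterion.Existence f := by
    have h1 : UniversallyClosed f := inferInstance
    rw [UniversallyClosed.eq_valuativeCriterion] at h1
    exact h1.1
  have key : ∀ x : S, ∃ (U : S.Opens) (_ : x ∈ U) (g : U.toScheme ⟶ X),
      g ≫ f = U.ι ∧ ∀ (hη : genericPoint S ∈ U),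
        U.fromSpecStalkOfMem (genericPoint S) hη ≫ g = s := by
    intro x
    haveI := hS x
    have hspec : genericPoint S ⤳ x := (genericPoint_spec S).specializes trivial
    have hal : CommRingCat.ofHom (algebraMap (S.presheaf.stalk x) S.functionField) =
        S.presheaf.stalkSpecializes hspec := rfl
    let Sq : ValuativeCommSq f :=
      { R := S.presheaf.stalk x
        K := S.functionField
        i₁ := s
        i₂ := S.fromSpecStalk x
        commSq := ⟨by
          rw [hs, hal, Scheme.SpecMap_stalkSpecializes_fromSpecStalk]⟩ }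
    obtain ⟨⟨l, hl1, hl2⟩⟩ := hex Sq
    have hl1' : Spec.map (S.presheaf.stalkSpecializes hspec) ≫ l = s := hl1
    have hl2' : l ≫ f = S.fromSpecStalk x := hl2
    obtain ⟨U, hxU, g, hg1, hg2⟩ := spread_out_of_isGermInjective' (𝟙 S) f (x := x) l
      (by rw [hl2', Category.comp_id])
    refine ⟨U, hxU, g, by rw [hg2, Category.comp_id], fun hη => ?_⟩
    rw [← hl1', hg1, ← Category.assoc]
    congr 1
    rw [← cancel_mono U.ι, Category.assoc, Scheme.Opens.fromSpecStalkOfMem_ι,
      Scheme.Opens.fromSpecStalkOfMem_ι, Scheme.SpecMap_stalkSpecializes_fromSpecStalk]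
  choose U hxU g hg1 hg2 using key
  have hη : ∀ x, genericPoint S ∈ U x := fun x =>
    ((genericPoint_spec S).mem_open_set_iff (U x).2).mpr ⟨x, trivial, hxU x⟩
  let 𝒰 : S.OpenCover := S.openCoverOfIsOpenCover U (IsOpenCover.mk (by
    rw [eq_top_iff]; intro x _; exact Opens.mem_iSup.mpr ⟨x, hxU x⟩))
  have compat : ∀ x y : S, pullback.fst (𝒰.f x) (𝒰.f y) ≫ g x =
      pullback.snd (𝒰.f x) (𝒰.f y) ≫ g y := by
    intro x y
    change pullback.fst (U x).ι (U y).ι ≫ g x = pullback.snd (U x).ι (U y).ι ≫ g y
    let ι : Spec S.functionField ⟶ pullback (U x).ι (U y).ι :=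
      pullback.lift ((U x).fromSpecStalkOfMem _ (hη x)) ((U y).fromSpecStalkOfMem _ (hη y))
        (by rw [Scheme.Opens.fromSpecStalkOfMem_ι, Scheme.Opens.fromSpecStalkOfMem_ι])
    haveI : IsDominant ι :=
      Groth.Agent.Lib.Helper8Dedekind.isDominant_of_comp_eq_fromSpecStalk
        (pullback.fst (U x).ι (U y).ι ≫ (U x).ι) ι (by
        rw [pullback.lift_fst_assoc, Scheme.Opens.fromSpecStalkOfMem_ι])
    haveI : IsReduced (pullback (U x).ι (U y).ι) :=
      isReduced_of_isOpenImmersion (pullback.fst (U x).ι (U y).ι ≫ (U x).ι)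
    refine ext_of_isDominant_of_isSeparated f ?_ ι ?_
    · rw [Category.assoc, Category.assoc, hg1, hg1]
      exact pullback.condition
    · rw [pullback.lift_fst_assoc, pullback.lift_snd_assoc, hg2, hg2]
  refine ⟨𝒰.glueMorphisms g compat, ?_, ?_⟩
  · refine 𝒰.hom_ext _ _ fun x => ?_
    rw [← Category.assoc, 𝒰.ι_glueMorphisms, Category.comp_id]
    exact hg1 x
  · obtain ⟨x₀⟩ := (inferInstance : Nonempty S)
    have h1 : S.fromSpecStalk (genericPoint S) =
        (U x₀).fromSpecStalkOfMem (genericPoint S) (hη x₀) ≫ 𝒰.f x₀ :=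
      (Scheme.Opens.fromSpecStalkOfMem_ι _ _ _).symm
    have h2 : 𝒰.f x₀ ≫ 𝒰.glueMorphisms g compat = g x₀ := 𝒰.ι_glueMorphisms g compat x₀
    rw [h1, Category.assoc, h2]
    exact hg2 x₀ (hη x₀)

end Sec

end Part2

section Part3


section Ring

/-- a local homomorphism from a valuation ring `A` of `K` to a subring of `K` is bijective -/
theorem bijective_of_valuationRing {A B K : Type*} [CommRing A] [IsDomain A] [ValuationRing A]
    [CommRing B] [Field K] [Algebra A K] [IsFractionRing A K] (ιB : B →+* K)
    (hιB : Function.Injective ιB) (φ : A →+* B) (hloc : ∀ a, IsUnit (φ a) → IsUnit a)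
    (hcomp : ιB.comp φ = algebraMap A K) : Function.Bijective φ := by
  have hc : ∀ a, ιB (φ a) = algebraMap A K a := fun a => RingHom.congr_fun hcomp a
  constructor
  · intro a a' h
    apply IsFractionRing.injective A K
    rw [← hc, ← hc, h]
  · intro b
    rcases ValuationRing.isInteger_or_isInteger A (ιB b) with ⟨a, ha⟩ | ⟨a, ha⟩
    · exact ⟨a, hιB (by rw [hc, ha])⟩
    · by_cases hb : b = 0
      · exact ⟨0, by rw [map_zero, hb]⟩
      have hz : ιB b ≠ 0 := fun h => hb (hιB (by rw [h, map_zero]))
      have h1 : φ a * b = 1 := by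
        apply hιB
        rw [map_mul, hc, ha, map_one, inv_mul_cancel₀ hz]
      have hu : IsUnit a := hloc a (IsUnit.of_mul_eq_one _ h1)
      obtain ⟨u, rfl⟩ := hu
      refine ⟨((u⁻¹ : Aˣ) : A), ?_⟩
      calc φ ((u⁻¹ : Aˣ) : A) = φ ((u⁻¹ : Aˣ) : A) * (φ (u : A) * b) := by rw [h1, mul_one]
        _ = φ (((u⁻¹ : Aˣ) : A) * (u : A)) * b := by rw [map_mul, mul_assoc]
        _ = b := by rw [Units.inv_mul, map_one, one_mul]

end Ring

section Geo

attribute [local instance] Curv2.stalkAlgebra

variable (k : Type u) [Field k] (X C : Scheme.{u}) [X.Over (Spec (CommRingCat.of k))]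
    [C.Over (Spec (CommRingCat.of k))] [IsIntegral X] [IsIntegral C]
    [LocallyOfFiniteType (X ↘ Spec (CommRingCat.of k))]

/-- the morphism from a normal curve to a proper scheme extending a map of function fields -/
theorem exists_hom_of_functionField_hom [IsProper (C ↘ Spec (CommRingCat.of k))]
    (hcurve : ∀ x : X, IsClosed ({x} : Set X) → ringKrullDim (X.presheaf.stalk x) = 1)
    (hnorm : Pi1.IsNormalScheme X)
    (e : C.functionField →+* X.functionField)
    (he : ∀ c : k, e (algebraMap k (C.presheaf.stalk (genericPoint C)) c) =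
      algebraMap k (X.presheaf.stalk (genericPoint X)) c) :
    ∃ j : X ⟶ C, j ≫ (C ↘ Spec (CommRingCat.of k)) = X ↘ Spec (CommRingCat.of k) ∧
      X.fromSpecStalk (genericPoint X) ≫ j =
        Spec.map (CommRingCat.ofHom e) ≫ C.fromSpecStalk (genericPoint C) := by
  have hcond : X.fromSpecStalk (genericPoint X) ≫ (X ↘ Spec (CommRingCat.of k)) =
      (Spec.map (CommRingCat.ofHom e) ≫ C.fromSpecStalk (genericPoint C)) ≫
        (C ↘ Spec (CommRingCat.of k)) := by
    rw [Category.assoc, ← Groth.Agent.Lib.R2H1.CurveDeg.SpecMap_stalkMap k X (genericPoint X),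
      ← Groth.Agent.Lib.R2H1.CurveDeg.SpecMap_stalkMap k C (genericPoint C), ← Spec.map_comp]
    congr 1
    ext c
    exact (he c).symm
  obtain ⟨t, ht1, ht2⟩ := exists_section_extending (valuationRing_stalk k X hcurve hnorm)
    (pullback.fst (X ↘ Spec (CommRingCat.of k)) (C ↘ Spec (CommRingCat.of k)))
    (pullback.lift _ _ hcond) (pullback.lift_fst _ _ _)
  refine ⟨t ≫ pullback.snd _ _, ?_, ?_⟩
  · rw [Category.assoc, ← pullback.condition, ← Category.assoc, ht1, Category.id_comp]
  · rw [← Category.assoc, ht2, pullback.lift_snd]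

variable {X C}

/-- compatibility of the stalk maps with the function fields -/
theorem stalkMap_comp_specializes (j : X ⟶ C) (e : C.functionField →+* X.functionField)
    (hj : X.fromSpecStalk (genericPoint X) ≫ j =
      Spec.map (CommRingCat.ofHom e) ≫ C.fromSpecStalk (genericPoint C)) (x : X) :
    j.stalkMap x ≫ X.presheaf.stalkSpecializes ((genericPoint_spec X).specializes trivial) =
      C.presheaf.stalkSpecializes ((genericPoint_spec C).specializes trivial) ≫
        CommRingCat.ofHom e := by
  apply Spec.map_injective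
  rw [Spec.map_comp, Spec.map_comp]
  apply (cancel_mono (C.fromSpecStalk (j x))).1
  rw [Category.assoc, Category.assoc, Scheme.SpecMap_stalkMap_fromSpecStalk,
    Scheme.SpecMap_stalkSpecializes_fromSpecStalk, ← Category.assoc,
    Scheme.SpecMap_stalkSpecializes_fromSpecStalk]
  exact hj

/-- the stalk maps are bijective -/
theorem bijective_stalkMap (j : X ⟶ C) (e : C.functionField ≃+* X.functionField)
    (hj : X.fromSpecStalk (genericPoint X) ≫ j =
      Spec.map (CommRingCat.ofHom e.toRingHom) ≫ C.fromSpecStalk (genericPoint C)) (x : X)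
    (hval : ValuationRing (C.presheaf.stalk (j x))) :
    Function.Bijective (j.stalkMap x).hom := by
  letI : Algebra (C.presheaf.stalk (j x)) X.functionField :=
    (e.toRingHom.comp (algebraMap (C.presheaf.stalk (j x)) C.functionField)).toAlgebra
  haveI : IsFractionRing (C.presheaf.stalk (j x)) X.functionField :=
    (IsLocalization.isLocalization_iff_of_ringEquiv
      (nonZeroDivisors (C.presheaf.stalk (j x))) e).1 inferInstance
  refine bijective_of_valuationRing (K := X.functionField)
    (algebraMap (X.presheaf.stalk x) X.functionField)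
    (IsFractionRing.injective _ _) (j.stalkMap x).hom
    (fun a ha => IsLocalHom.map_nonunit a ha) ?_
  have h := stalkMap_comp_specializes j e.toRingHom hj x
  exact congrArg CommRingCat.Hom.hom h

theorem isDominant_SpecMap_of_injective {R S : CommRingCat.{u}} (f : R ⟶ S)
    (hf : Function.Injective f.hom) : IsDominant (Spec.map f) := by
  constructor
  have h : DenseRange (PrimeSpectrum.comap f.hom) := by
    rw [PrimeSpectrum.denseRange_comap_iff_ker_le_nilRadical,
      (RingHom.injective_iff_ker_eq_bot _).1 hf]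
    exact bot_le
  exact h

/-- the auxiliary morphism `Spec O_{C,j(x)} ⟶ X` through the point `x` -/
theorem aux_u (j : X ⟶ C) (e : C.functionField ≃+* X.functionField)
    (hj : X.fromSpecStalk (genericPoint X) ≫ j =
      Spec.map (CommRingCat.ofHom e.toRingHom) ≫ C.fromSpecStalk (genericPoint C)) (x : X)
    [IsIso (j.stalkMap x)] :
    (Spec.map (inv (j.stalkMap x)) ≫ X.fromSpecStalk x) ≫ j = C.fromSpecStalk (j x) ∧
    Spec.map (C.presheaf.stalkSpecializes ((genericPoint_spec C).specializes trivial)) ≫
      (Spec.map (inv (j.stalkMap x)) ≫ X.fromSpecStalk x) =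
      Spec.map (CommRingCat.ofHom e.symm.toRingHom) ≫ X.fromSpecStalk (genericPoint X) := by
  constructor
  · rw [Category.assoc, ← Scheme.SpecMap_stalkMap_fromSpecStalk, ← Category.assoc,
      ← Spec.map_comp, IsIso.hom_inv_id, Spec.map_id, Category.id_comp]
  · have h := stalkMap_comp_specializes j e.toRingHom hj x
    obtain ⟨spC, hspC⟩ : ∃ spC : C.presheaf.stalk (j x) ⟶ C.functionField,
        spC = C.presheaf.stalkSpecializes ((genericPoint_spec C).specializes trivial) := ⟨_, rfl⟩
    obtain ⟨spX, hspX⟩ : ∃ spX : X.presheaf.stalk x ⟶ X.functionField,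
        spX = X.presheaf.stalkSpecializes ((genericPoint_spec X).specializes trivial) := ⟨_, rfl⟩
    rw [← hspC, ← hspX] at h
    rw [← hspC]
    have h3 : CommRingCat.ofHom e.toRingHom ≫ CommRingCat.ofHom e.symm.toRingHom = 𝟙 _ := by
      ext a
      exact e.symm_apply_apply a
    have h2 : inv (j.stalkMap x) ≫ spC = spX ≫ CommRingCat.ofHom e.symm.toRingHom := by
      rw [IsIso.inv_comp_eq]
      calc spC = spC ≫ 𝟙 _ := (Category.comp_id _).symm
        _ = spC ≫ (CommRingCat.ofHom e.toRingHom ≫ CommRingCat.ofHom e.symm.toRingHom) :=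
            congrArg (fun z => spC ≫ z) h3.symm
        _ = (spC ≫ CommRingCat.ofHom e.toRingHom) ≫ CommRingCat.ofHom e.symm.toRingHom :=
            (Category.assoc _ _ _).symm
        _ = (j.stalkMap x ≫ spX) ≫ CommRingCat.ofHom e.symm.toRingHom :=
            congrArg (fun z => z ≫ CommRingCat.ofHom e.symm.toRingHom) h.symm
        _ = j.stalkMap x ≫ spX ≫ CommRingCat.ofHom e.symm.toRingHom := Category.assoc _ _ _
    calc Spec.map spC ≫ (Spec.map (inv (j.stalkMap x)) ≫ X.fromSpecStalk x)
        = (Spec.map spC ≫ Spec.map (inv (j.stalkMap x))) ≫ X.fromSpecStalk x :=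
          (Category.assoc _ _ _).symm
      _ = Spec.map (inv (j.stalkMap x) ≫ spC) ≫ X.fromSpecStalk x :=
          congrArg (fun z => z ≫ X.fromSpecStalk x) (Spec.map_comp _ _).symm
      _ = Spec.map (spX ≫ CommRingCat.ofHom e.symm.toRingHom) ≫ X.fromSpecStalk x := by rw [h2]
      _ = (Spec.map (CommRingCat.ofHom e.symm.toRingHom) ≫ Spec.map spX) ≫ X.fromSpecStalk x :=
          congrArg (fun z => z ≫ X.fromSpecStalk x) (Spec.map_comp _ _)
      _ = Spec.map (CommRingCat.ofHom e.symm.toRingHom) ≫ (Spec.map spX ≫ X.fromSpecStalk x) :=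
          Category.assoc _ _ _
      _ = Spec.map (CommRingCat.ofHom e.symm.toRingHom) ≫ X.fromSpecStalk (genericPoint X) := by
          rw [hspX, Scheme.SpecMap_stalkSpecializes_fromSpecStalk]

/-- a birational morphism of normal curves with bijective stalk maps is injective -/
theorem injective_of_isIso_stalkMap [IsSeparated (X ↘ Spec (CommRingCat.of k))]
    (j : X ⟶ C) (hjk : j ≫ (C ↘ Spec (CommRingCat.of k)) = X ↘ Spec (CommRingCat.of k))
    (e : C.functionField ≃+* X.functionField)
    (hj : X.fromSpecStalk (genericPoint X) ≫ j =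
      Spec.map (CommRingCat.ofHom e.toRingHom) ≫ C.fromSpecStalk (genericPoint C))
    (hiso : ∀ x, IsIso (j.stalkMap x)) : Function.Injective j := by
  intro x x' hxx
  haveI := hiso x
  haveI := hiso x'
  obtain ⟨a1, a2⟩ := aux_u j e hj x
  obtain ⟨b1, b2⟩ := aux_u j e hj x'
  have hsp : j x ⤳ j x' := specializes_of_eq hxx
  haveI : IsIso (C.presheaf.stalkSpecializes hsp) :=
    (C.presheaf.stalkCongr (Inseparable.of_eq hxx.symm)).isIso_hom
  -- the two morphisms from `Spec O_{C, j x}`
  obtain ⟨u₁, hu₁⟩ : ∃ u₁ : Spec (C.presheaf.stalk (j x)) ⟶ X,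
      u₁ = Spec.map (inv (j.stalkMap x)) ≫ X.fromSpecStalk x := ⟨_, rfl⟩
  obtain ⟨u₂, hu₂⟩ : ∃ u₂ : Spec (C.presheaf.stalk (j x)) ⟶ X,
      u₂ = Spec.map (C.presheaf.stalkSpecializes hsp) ≫
        (Spec.map (inv (j.stalkMap x')) ≫ X.fromSpecStalk x') := ⟨_, rfl⟩
  rw [← hu₁] at a1 a2
  have c1 : u₂ ≫ j = C.fromSpecStalk (j x) := by
    rw [hu₂, Category.assoc, b1, Scheme.SpecMap_stalkSpecializes_fromSpecStalk]
  have c2 : Spec.map (C.presheaf.stalkSpecializes ((genericPoint_spec C).specializes trivial)) ≫
      u₂ = Spec.map (CommRingCat.ofHom e.symm.toRingHom) ≫ X.fromSpecStalk (genericPoint X) := by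
    rw [hu₂, ← Category.assoc, ← Spec.map_comp, TopCat.Presheaf.stalkSpecializes_comp]
    exact b2
  have heq : u₁ = u₂ := by
    haveI : IsDominant (Spec.map (C.presheaf.stalkSpecializes
        ((genericPoint_spec C).specializes trivial : genericPoint C ⤳ j x))) :=
      isDominant_SpecMap_of_injective _
        (IsFractionRing.injective (C.presheaf.stalk (j x)) C.functionField)
    refine ext_of_isDominant_of_isSeparated (X ↘ Spec (CommRingCat.of k)) ?_
      (Spec.map (C.presheaf.stalkSpecializes
        ((genericPoint_spec C).specializes trivial : genericPoint C ⤳ j x))) ?_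
    · rw [← hjk, ← Category.assoc, ← Category.assoc, a1, c1]
    · rw [a2, c2]
  have hp1 : u₁ (IsLocalRing.closedPoint (C.presheaf.stalk (j x))) = x := by
    rw [hu₁, Scheme.Hom.comp_apply, Spec.map_apply, IsLocalRing.comap_closedPoint]
    exact Scheme.fromSpecStalk_closedPoint
  have hp2 : u₂ (IsLocalRing.closedPoint (C.presheaf.stalk (j x))) = x' := by
    rw [hu₂, Scheme.Hom.comp_apply, Scheme.Hom.comp_apply, Spec.map_apply, Spec.map_apply,
      IsLocalRing.comap_closedPoint, IsLocalRing.comap_closedPoint]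
    exact Scheme.fromSpecStalk_closedPoint
  rw [← hp1, ← hp2, heq]

end Geo

end Part3

section Part4


attribute [local instance] Curv2.stalkAlgebra

/-- an integral normal curve over a field is an open subscheme of an integral normal proper
curve -/
theorem exists_openImmersion_integral (k : Type u) [Field k] (X : Scheme.{u})
    [X.Over (Spec (CommRingCat.of k))] [IsIntegral X]
    [LocallyOfFiniteType (X ↘ Spec (CommRingCat.of k))]
    [IsSeparated (X ↘ Spec (CommRingCat.of k))]
    (hcurve : ∀ x : X, IsClosed ({x} : Set X) → ringKrullDim (X.presheaf.stalk x) = 1)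
    (hnorm : Pi1.IsNormalScheme X) :
    ∃ (C : Scheme.{u}) (_ : C.Over (Spec (CommRingCat.of k))) (_ : IsIntegral C) (j : X ⟶ C),
      IsProper (C ↘ Spec (CommRingCat.of k)) ∧ Pi1.IsNormalScheme C ∧
      (∀ c : C, IsClosed ({c} : Set C) → ringKrullDim (C.presheaf.stalk c) = 1) ∧
      IsOpenImmersion j ∧ j ≫ (C ↘ Spec (CommRingCat.of k)) = X ↘ Spec (CommRingCat.of k) := by
  have hdim := dim_eq_one_of_hcurve k X hcurve
  have hfg : (⊤ : IntermediateField k X.functionField).FG := by
    haveI := Groth.Agent.Lib.R2H1.CurveDeg.essFiniteType_functionField k X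
    exact IntermediateField.fg_top k X.functionField
  have htr := Groth.Agent.Lib.R2H1.CurveDeg.trdeg_functionField k X hdim
  obtain ⟨C, hCo, hCi, hCp, hCn, hCc, e, he⟩ :=
    Groth.Agent.S2345.result k X.functionField hfg htr
  haveI := hCp
  obtain ⟨j, hjk, hjη⟩ := exists_hom_of_functionField_hom k X C hcurve hnorm e.toRingHom he
  have hbij : ∀ x, Function.Bijective (j.stalkMap x).hom := fun x =>
    bijective_stalkMap j e hjη x (valuationRing_stalk k C hCc hCn (j x))
  have hiso : ∀ x, IsIso (j.stalkMap x) := fun x =>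
    (ConcreteCategory.isIso_iff_bijective (j.stalkMap x)).2 (hbij x)
  have hinj := injective_of_isIso_stalkMap k j hjk e hjη hiso
  haveI : Flat j := (Flat.iff_flat_stalkMap j).2 fun x => RingHom.Flat.of_bijective (hbij x)
  haveI : LocallyOfFiniteType j := by
    haveI : LocallyOfFiniteType (j ≫ (C ↘ Spec (CommRingCat.of k))) := by
      rw [hjk]; infer_instance
    exact locallyOfFiniteType_of_comp j (C ↘ Spec (CommRingCat.of k))
  haveI : IsLocallyNoetherian C :=
    LocallyOfFiniteType.isLocallyNoetherian (C ↘ Spec (CommRingCat.of k))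
  haveI : LocallyOfFinitePresentation j := LocallyOfFinitePresentation.iff_locallyOfFiniteType.2
    inferInstance
  have hemb : Topology.IsOpenEmbedding j :=
    Topology.IsOpenEmbedding.of_continuous_injective_isOpenMap j.continuous hinj j.isOpenMap
  haveI := hiso
  exact ⟨C, hCo, hCi, j, hCp, hCn, hCc, IsOpenImmersion.of_isIso_stalkMap j hemb, hjk⟩

end Part4

section Part5


/-- with domain stalks and finitely many irreducible components, components are clopen -/
theorem isClopen_of_mem_irreducibleComponents {T : Scheme.{u}}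
    (hdom : ∀ t : T, IsDomain (T.presheaf.stalk t))
    (hfin : (irreducibleComponents T).Finite) {Z₀ : Set T} (hZ₀mem : Z₀ ∈ irreducibleComponents T) :
    IsClopen Z₀ := by
  have hcompl : Z₀ᶜ = ⋃ Z ∈ (irreducibleComponents T \ {Z₀}), Z := by
    ext t
    simp only [Set.mem_compl_iff, Set.mem_iUnion, Set.mem_sdiff, Set.mem_singleton_iff,
      exists_prop]
    constructor
    · intro ht
      refine ⟨irreducibleComponent t, ⟨irreducibleComponent_mem_irreducibleComponents t, ?_⟩,
        mem_irreducibleComponent⟩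
      intro h
      apply ht
      rw [← h]
      exact mem_irreducibleComponent
    · rintro ⟨Z, ⟨hZ, hne⟩, htZ⟩ ht
      haveI := hdom t
      exact hne (Groth.Agent.Lib.Helper4.EtNormalSch.irreducibleComponents_eq_of_mem t hZ hZ₀mem
        htZ ht)
  have hclosed : IsClosed (Z₀ᶜ) := by
    rw [hcompl]
    exact (hfin.subset Set.sdiff_subset).isClosed_biUnion
      (fun Z hZ => isClosed_of_mem_irreducibleComponents Z hZ.1)
  exact ⟨isClosed_of_mem_irreducibleComponents Z₀ hZ₀mem, isClosed_compl_iff.mp hclosed⟩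

/-- normality of a stalk transfers along open immersions -/
theorem normal_stalk_of_isOpenImmersion {U X : Scheme.{u}} (f : U ⟶ X) [IsOpenImmersion f] (x : U) :
    (IsDomain (U.presheaf.stalk x) ∧ IsIntegrallyClosed (U.presheaf.stalk x)) ↔
      (IsDomain (X.presheaf.stalk (f x)) ∧ IsIntegrallyClosed (X.presheaf.stalk (f x))) := by
  let e : X.presheaf.stalk (f x) ≃+* U.presheaf.stalk x := (asIso (f.stalkMap x)).commRingCatIsoToRingEquiv
  constructor
  · rintro ⟨h1, h2⟩
    haveI := h1
    haveI := h2
    exact ⟨e.toMulEquiv.isDomain _, IsIntegrallyClosed.of_equiv e.symm⟩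
  · rintro ⟨h1, h2⟩
    haveI := h1
    haveI := h2
    exact ⟨e.symm.toMulEquiv.isDomain _, IsIntegrallyClosed.of_equiv e⟩

theorem ringKrullDim_stalk_of_isOpenImmersion {U X : Scheme.{u}} (f : U ⟶ X) [IsOpenImmersion f]
    (x : U) : ringKrullDim (U.presheaf.stalk x) = ringKrullDim (X.presheaf.stalk (f x)) := by
  let e : X.presheaf.stalk (f x) ≃+* U.presheaf.stalk x := (asIso (f.stalkMap x)).commRingCatIsoToRingEquiv
  exact (ringKrullDim_eq_of_ringEquiv e).symm

theorem isNormalScheme_of_isOpenImmersion {U X : Scheme.{u}} (f : U ⟶ X) [IsOpenImmersion f]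
    (h : Pi1.IsNormalScheme X) : Pi1.IsNormalScheme U := fun x =>
  (normal_stalk_of_isOpenImmersion f x).2 (h (f x))

end Part5

section Part6


/-- version of `exists_openImmersion_integral` with explicit structure morphisms -/
theorem exists_openImmersion_integral' (k : Type u) [Field k] (X : Scheme.{u})
    (s : X ⟶ Spec (CommRingCat.of k)) [IsIntegral X]
    [LocallyOfFiniteType s] [IsSeparated s]
    (hcurve : ∀ x : X, IsClosed ({x} : Set X) → ringKrullDim (X.presheaf.stalk x) = 1)
    (hnorm : Pi1.IsNormalScheme X) :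
    ∃ (C : Scheme.{u}) (sC : C ⟶ Spec (CommRingCat.of k)) (j : X ⟶ C),
      IsIntegral C ∧ IsProper sC ∧ Pi1.IsNormalScheme C ∧
      (∀ c : C, IsClosed ({c} : Set C) → ringKrullDim (C.presheaf.stalk c) = 1) ∧
      IsOpenImmersion j ∧ j ≫ sC = s := by
  letI : X.Over (Spec (CommRingCat.of k)) := ⟨s⟩
  haveI : LocallyOfFiniteType (X ↘ Spec (CommRingCat.of k)) := ‹LocallyOfFiniteType s›
  haveI : IsSeparated (X ↘ Spec (CommRingCat.of k)) := ‹IsSeparated s›
  obtain ⟨C, hCo, hCi, j, h1, h2, h3, h4, h5⟩ := exists_openImmersion_integral k X hcurve hnorm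
  exact ⟨C, C ↘ Spec (CommRingCat.of k), j, hCi, h1, h2, h3, h4, h5⟩

end Part6

section Part7


theorem normal_completion (k : Type u) [Field k] (X : Scheme.{u})
    (s : X ⟶ Spec (CommRingCat.of k)) [LocallyOfFiniteType s]
    [QuasiCompact s] [IsSeparated s]
    (hcurve : ∀ x : X, IsClosed ({x} : Set X) → ringKrullDim (X.presheaf.stalk x) = 1)
    (hnorm : Pi1.IsNormalScheme X) :
    ∃ (Xc : Scheme.{u}) (sc : Xc ⟶ Spec (CommRingCat.of k)) (j : X ⟶ Xc), IsOpenImmersion j ∧
      Dense (Set.range j.base) ∧
      j ≫ sc = s ∧ IsProper sc ∧ Pi1.IsNormalScheme Xc ∧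
      ∀ x : Xc, IsClosed ({x} : Set Xc) → ringKrullDim (Xc.presheaf.stalk x) = 1 := by
  haveI : IsLocallyNoetherian X := LocallyOfFiniteType.isLocallyNoetherian s
  haveI : CompactSpace X := QuasiCompact.compactSpace_of_compactSpace s
  haveI : IsNoetherian X := {}
  have hdom : ∀ t : X, IsDomain (X.presheaf.stalk t) := fun t => (hnorm t).1
  have hfin : (irreducibleComponents X).Finite := finite_irreducibleComponents_of_isNoetherian
  haveI : Finite (irreducibleComponents X) := hfin
  have hclopen : ∀ i : irreducibleComponents X, IsClopen (i.1 : Set X) := fun i =>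
    isClopen_of_mem_irreducibleComponents hdom hfin i.2
  let U : irreducibleComponents X → X.Opens := fun i => ⟨i.1, (hclopen i).2⟩
  have hUcoe : ∀ i, ((U i : X.Opens) : Set X) = i.1 := fun i => rfl
  haveI : ∀ t : X, _root_.IsReduced (X.presheaf.stalk t) := fun t => by
    haveI := hdom t
    infer_instance
  haveI : IsReduced X := isReduced_of_isReduced_stalk X
  haveI hUint : ∀ i, IsIntegral (U i).toScheme := fun i => by
    haveI : IrreducibleSpace (U i).toScheme := Subtype.irreducibleSpace (s := (i.1 : Set X)) i.2.1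
    exact isIntegral_of_irreducibleSpace_of_isReduced _
  -- per-component curve hypotheses
  have hUcurve : ∀ i, ∀ x : (U i).toScheme, IsClosed ({x} : Set (U i).toScheme) →
      ringKrullDim ((U i).toScheme.presheaf.stalk x) = 1 := by
    intro i x hx
    rw [ringKrullDim_stalk_of_isOpenImmersion (U i).ι x]
    apply hcurve
    have hce : Topology.IsClosedEmbedding ((U i).ι : (U i).toScheme → X) := by
      refine ⟨(U i).ι.isOpenEmbedding.isEmbedding, ?_⟩
      rw [Scheme.Opens.range_ι]
      exact (hclopen i).1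
    have := hce.isClosedMap _ hx
    rwa [Set.image_singleton] at this
  have hUnorm : ∀ i, Pi1.IsNormalScheme (U i).toScheme := fun i =>
    isNormalScheme_of_isOpenImmersion (U i).ι hnorm
  have H : ∀ i, ∃ (C : Scheme.{u}) (sC : C ⟶ Spec (CommRingCat.of k)) (j : (U i).toScheme ⟶ C),
      IsIntegral C ∧ IsProper sC ∧ Pi1.IsNormalScheme C ∧
      (∀ c : C, IsClosed ({c} : Set C) → ringKrullDim (C.presheaf.stalk c) = 1) ∧
      IsOpenImmersion j ∧ j ≫ sC = (U i).ι ≫ s := fun i =>
    exists_openImmersion_integral' k (U i).toScheme ((U i).ι ≫ s) (hUcurve i) (hUnorm i)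
  choose C sC j hCi hCp hCn hCc hjo hjk using H
  haveI := hCp
  haveI := hjo
  haveI := hCi
  -- X is the coproduct of the U i
  have hcov : ⨆ i, ((U i).ι).opensRange = ⊤ := by
    rw [eq_top_iff]
    intro x _
    rw [Opens.mem_iSup]
    refine ⟨⟨irreducibleComponent x, irreducibleComponent_mem_irreducibleComponents x⟩, ?_⟩
    rw [Scheme.Opens.opensRange_ι]
    exact mem_irreducibleComponent
  have hdisj : Pairwise (Function.onFun Disjoint (fun i => ((U i).ι).opensRange)) := by
    intro a b hab
    simp only [Function.onFun, Scheme.Opens.opensRange_ι]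
    rw [disjoint_iff, Opens.ext_iff]
    ext x
    simp only [Opens.coe_inf, Set.mem_inter_iff, SetLike.mem_coe, Opens.coe_bot,
      Set.mem_empty_iff_false, iff_false, not_and]
    intro hxa hxb
    haveI := hdom x
    exact hab (Subtype.ext (Groth.Agent.Lib.Helper4.EtNormalSch.irreducibleComponents_eq_of_mem x
      a.2 b.2 hxa hxb))
  have hcolim := nonempty_isColimit_cofanMk_of (fun i => (U i).ι) hcov hdisj
  haveI hφ : IsIso (Sigma.desc (fun i => (U i).ι)) := by
    have := (Cofan.nonempty_isColimit_iff_isIso_sigmaDesc (Cofan.mk X (fun i => (U i).ι))).1 hcolim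
    simpa using this
  set φ := Sigma.desc (fun i => (U i).ι) with hφdef
  set ψ : (∐ fun i => (U i).toScheme) ⟶ ∐ C := Sigma.desc (fun i => j i ≫ Sigma.ι C i) with hψdef
  haveI hψo : IsOpenImmersion ψ := by
    apply isOpenImmersion_sigmaDesc
    intro a b hab
    simp only [Function.onFun]
    have h1 := disjoint_opensRange_sigmaι C a b hab
    rw [disjoint_iff, Opens.ext_iff] at h1
    rw [Set.disjoint_iff]
    rintro x ⟨⟨y, rfl⟩, ⟨z, hz⟩⟩
    have : (Sigma.ι C a) (j a y) ∈ (((Sigma.ι C a).opensRange ⊓ (Sigma.ι C b).opensRange : (∐ C).Opens) : Set _) := by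
      refine ⟨⟨j a y, rfl⟩, ⟨j b z, ?_⟩⟩
      simpa [Scheme.Hom.comp_apply] using hz
    rw [h1] at this
    exact this
  refine ⟨∐ C, Sigma.desc sC, inv φ ≫ ψ, inferInstance, ?_, ?_, ?_, ?_, ?_⟩
  · -- density
    have hJ : ∀ i, (U i).ι ≫ (inv φ ≫ ψ) = j i ≫ Sigma.ι C i := by
      intro i
      have h1 : (U i).ι = Sigma.ι (fun i => (U i).toScheme) i ≫ φ := by simp [hφdef]
      rw [h1, Category.assoc, IsIso.hom_inv_id_assoc]
      simp [hψdef]
    rw [dense_iff_closure_eq, Set.eq_univ_iff_forall]
    intro x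
    obtain ⟨i, y, rfl⟩ := Groth.Agent.Lib.R2H1.SigmaProper.sigma_cov C x
    haveI : Nonempty (U i).toScheme := by
      obtain ⟨z, hz⟩ := i.2.1.nonempty
      exact ⟨⟨z, hz⟩⟩
    have hd : Dense (Set.range (j i)) :=
      (j i).isOpenEmbedding.isOpen_range.dense (Set.range_nonempty _)
    have h2 : (Sigma.ι C i) y ∈ closure ((Sigma.ι C i) '' Set.range (j i)) :=
      image_closure_subset_closure_image (Sigma.ι C i).continuous ⟨y, hd y, rfl⟩
    refine closure_mono ?_ h2
    rintro _ ⟨_, ⟨u, rfl⟩, rfl⟩
    refine ⟨(U i).ι u, ?_⟩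
    have := congrArg (fun f => f u) (hJ i)
    simpa [Scheme.Hom.comp_apply] using this
  · rw [Category.assoc, IsIso.inv_comp_eq]
    apply Sigma.hom_ext
    intro i
    simp [hφdef, hψdef, hjk]
  · haveI : IsLocallyNoetherian (Spec (CommRingCat.of k)) := inferInstance
    apply Groth.Agent.Lib.R2H1.SigmaProper.isProper_sigmaDesc C sC
    intro y
    exact ⟨Set.univ, isOpen_univ, trivial, Set.toFinite _⟩
  · intro x
    obtain ⟨i, y, rfl⟩ := Groth.Agent.Lib.R2H1.SigmaProper.sigma_cov C x
    exact (normal_stalk_of_isOpenImmersion (Sigma.ι C i) y).1 (hCn i y)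
  · intro x hx
    obtain ⟨i, y, rfl⟩ := Groth.Agent.Lib.R2H1.SigmaProper.sigma_cov C x
    rw [← ringKrullDim_stalk_of_isOpenImmersion (Sigma.ι C i) y]
    apply hCc
    have : ({y} : Set (C i)) = (Sigma.ι C i) ⁻¹' {(Sigma.ι C i) y} := by
      ext z
      simp only [Set.mem_singleton_iff, Set.mem_preimage]
      exact ⟨fun h => by rw [h], fun h => (Sigma.ι C i).isOpenEmbedding.injective h⟩
    rw [this]
    exact hx.preimage (Sigma.ι C i).continuous

end Part7

end Groth.Agent.Lib.R2H1.NormCompl
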