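import Mathlib
import Groth.Prelude
import Groth.Agent.Lib.R2H1NormCompl
import Groth.Agent.Lib.R2H1GenusZeroSm
import Groth.Agent.Lib.R2H1GenusZeroPic
import Groth.Agent.Lib.R2H3QProj
import Groth.Agent.Lib.R2H2ProjOver
import Groth.Agent.Lib.Helper28Catenary
import Groth.Agent.Lib.Helper5RLR
import Groth.Agent.Lib.Helper6SmRegSch
set_option backward.isDefEq.respectTransparency.types false

/-!
R2H1SmoothCompl: smooth projective completion of a smooth curve over an algebraically closed field (S19463). API: isNormalScheme_of_smooth (smooth over a field => normal), smooth_of_normal (integral proper normal curve over alg closed field is smooth), exists_closedImmersion_projSpace (integral proper normal curve over any field admits a closed immersion into CohB1.ProjSpace n k over k), s19463.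
-/

set_option autoImplicit false
set_option linter.style.haveILetI false
set_option linter.unusedSectionVars false
universe u v

open CategoryTheory CategoryTheory.Limits AlgebraicGeometry TopologicalSpace Opposite

namespace Groth.Agent.Lib.R2H1.SmoothCompl

section Part1

open Groth.Agent.Lib.R2H1.NormCompl

/-- a smooth scheme over a field is normal -/
theorem isNormalScheme_of_smooth (k : Type u) [Field k] (X : Scheme.{u})
    (f : X ⟶ Spec (CommRingCat.of k)) [Smooth f] : Pi1.IsNormalScheme X := fun x => by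
  haveI := Groth.Agent.Lib.Helper6.SmRegSch.isRegularLocalRing_stalk_of_smooth_over_field k X f x
  exact ⟨Groth.Agent.Lib.Helper5.isDomain_of_isRegularLocalRing _,
    Groth.Agent.Lib.Helper28.isIntegrallyClosed_of_isRegularLocalRing _⟩

/-- an integral proper normal curve over an algebraically closed field is smooth -/
theorem smooth_of_normal (k : Type u) [Field k] [IsAlgClosed k] (X : Scheme.{u})
    [X.Over (Spec (CommRingCat.of k))] [IsIntegral X] [IsProper (X ↘ (Spec (CommRingCat.of k)))]
    (hdim : topologicalKrullDim X = 1) (hnorm : Pi1.IsNormalScheme X) :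
    Smooth (X ↘ (Spec (CommRingCat.of k))) := by
  haveI := Groth.Agent.Lib.R2H1.CurveEuler.isNoetherian_of_proper k X
  haveI : LocallyOfFinitePresentation (X ↘ Spec (CommRingCat.of k)) :=
    LocallyOfFinitePresentation.iff_locallyOfFiniteType.mpr inferInstance
  rw [← Scheme.Hom.smoothLocus_eq_top_iff, eq_top_iff]
  intro x _
  by_cases hx : IsClosed ({x} : Set X)
  · rw [Groth.Agent.Lib.Helper6.SmRegSch3.mem_smoothLocus_iff_isRegularLocalRing k X _ x]
    exact Groth.Agent.Lib.R2H1.GenusZeroPic.isRegularLocalRing_of_normal_closed k X hdim x hx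
      (hnorm x).2
  · exact Groth.Agent.Lib.R2H1.PointTwist.mem_open_of_not_isClosed k X hdim _
      ⟨genericPoint X, Scheme.Hom.genericPoint_mem_smoothLocus_of_perfectField _⟩ x hx

/-- an integral proper normal curve over a field is projective -/
theorem exists_closedImmersion_projSpace (k : Type u) [Field k] (X : Scheme.{u})
    [X.Over (Spec (CommRingCat.of k))] [IsIntegral X] [IsProper (X ↘ (Spec (CommRingCat.of k)))]
    (hdim : topologicalKrullDim X = 1) (hnorm : Pi1.IsNormalScheme X) :
    ∃ (n : ℕ) (i : X ⟶ CohB1.ProjSpace n k), IsClosedImmersion i ∧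
      i ≫ CohB1.ProjSpace.toSpec n k = X ↘ (Spec (CommRingCat.of k)) := by
  haveI := Groth.Agent.Lib.R2H1.CurveEuler.isNoetherian_of_proper k X
  haveI : IsLocallyNoetherian X := inferInstance
  -- a closed point
  obtain ⟨P, hP⟩ : ∃ P : X, IsClosed ({P} : Set X) := by
    obtain ⟨P, hP⟩ := IsClosed.exists_closed_singleton (X := X) isClosed_univ Set.univ_nonempty
    exact ⟨P, hP.2⟩
  haveI : IsDiscreteValuationRing (X.presheaf.stalk P) :=
    Groth.Agent.Lib.R2H1.IsoP1D.isDVR_of_normal_closed hdim P hP (hnorm P).2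
  obtain ⟨L, hL, -, hdegL⟩ := Groth.Agent.Lib.R2H1.IsoP1D.exists_inverse_point k X hdim P hP
  have hpos := Groth.Agent.Lib.R2H1.IsoP1B.h0_quotMod_point_pos k X P hP
  have hdeg : 0 < Curv2.deg k X L 1 := by rw [hdegL]; exact_mod_cast hpos
  have hample : CohB1.IsAmple L := (Groth.Agent.Lib.R2H1.CurveAmple.s1530 k X hdim L hL).2 hdeg
  obtain ⟨n, i, hi, hif⟩ := Groth.Agent.Lib.R2H3.QProj.exists_immersion_of_isAmple
    (X ↘ (Spec (CommRingCat.of k))) L hample
  haveI := hi
  have hci := Groth.Agent.Lib.R2H3.QProj.isClosedImmersion_of_isProper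
    (X ↘ (Spec (CommRingCat.of k))) n i hif
  have hpb := Groth.Agent.Lib.R2H2.ProjOver.isPullback_a n k (𝟙 (Spec (CommRingCat.of k)))
  haveI : IsIso (Groth.Agent.Lib.R2H2.ProjOver.a n k (𝟙 (Spec (CommRingCat.of k)))) :=
    hpb.isIso_fst_of_isIso
  refine ⟨n, i ≫ inv (Groth.Agent.Lib.R2H2.ProjOver.a n k (𝟙 (Spec (CommRingCat.of k)))),
    inferInstance, ?_⟩
  rw [Category.assoc]
  have h2 := Groth.Agent.Lib.R2H2.ProjOver.a_toBase n k (𝟙 (Spec (CommRingCat.of k)))
  rw [Category.comp_id] at h2
  rw [← h2, IsIso.inv_hom_id_assoc]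
  exact hif

/-- S19463 -/
theorem s19463 (k : Type u) [Field k] [IsAlgClosed k]
    (X : Scheme.{u}) [X.Over (Spec (CommRingCat.of k))] [IsIntegral X]
    [IsSeparated (X ↘ (Spec (CommRingCat.of k)))]
    [LocallyOfFiniteType (X ↘ (Spec (CommRingCat.of k)))]
    [QuasiCompact (X ↘ (Spec (CommRingCat.of k)))] [Smooth (X ↘ (Spec (CommRingCat.of k)))]
    (hdimX : topologicalKrullDim X = 1) :
    ∃ (Y : Scheme.{u}) (_ : Y.Over (Spec (CommRingCat.of k))) (j : X ⟶ Y), IsOpenImmersion j ∧
      j ≫ (Y ↘ (Spec (CommRingCat.of k))) = X ↘ (Spec (CommRingCat.of k)) ∧ IsIntegral Y ∧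
      Smooth (Y ↘ (Spec (CommRingCat.of k))) ∧ topologicalKrullDim Y = 1 ∧
      ∃ (n : ℕ) (i : Y ⟶ CohB1.ProjSpace n k), IsClosedImmersion i ∧
        i ≫ CohB1.ProjSpace.toSpec n k = Y ↘ (Spec (CommRingCat.of k)) := by
  have hcurve : ∀ x : X, IsClosed ({x} : Set X) → ringKrullDim (X.presheaf.stalk x) = 1 :=
    fun x hx => Groth.Agent.Lib.Helper8CurveEt.ringKrullDim_stalk_eq_one hdimX x hx
  have hnorm := isNormalScheme_of_smooth k X (X ↘ (Spec (CommRingCat.of k)))
  obtain ⟨C, hCo, hCi, j, hCp, hCn, hCc, hjo, hjk⟩ :=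
    exists_openImmersion_integral k X hcurve hnorm
  haveI := hCp
  have hdimC : topologicalKrullDim C = 1 := dim_eq_one_of_hcurve k C hCc
  exact ⟨C, hCo, j, hjo, hjk, hCi, smooth_of_normal k C hdimC hCn, hdimC,
    exists_closedImmersion_projSpace k C hdimC hCn⟩

end Part1

end Groth.Agent.Lib.R2H1.SmoothCompl
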