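import Mathlib
import Groth.Prelude.Def_CohB1
import Groth.Prelude.Def_LCI2
import Groth.Agent.Lib.Helper23SecTw9
import Groth.Agent.Lib.Helper23Restr
import Groth.Agent.Lib.Helper23Restr2

/-!
# `X_s` is affine when `X` is universally closed over an affine base and `L` is ample (helper3, round 2)

* `coef_rel` : on `Y_t ⊓ W` (with `W` a frame of `M`), the coefficient of `u` in `e^{⊗ n}` is
  `(u / t^n) * (t / e)^n`.
* `mem_genLocus_of_lift` : a lift `Spec R ⟶ Y` of a valuative square over `Y_t ⟶ Spec Γ(Y_t)`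
  sends the closed point into `Y_t` (`M` ample).
* `isAffine_genLocus_of_universallyClosed` : `Y ⟶ T` universally closed, `T` affine, `M` ample
  ⇒ `Y_t` affine.
* `isAffineHom_genLocus` : `f : X ⟶ S` universally closed, `L` `f`-ample ⇒ `X_s ⟶ S` affine.
-/

set_option autoImplicit false

set_option linter.unusedSectionVars false
universe u
open CategoryTheory CategoryTheory.Limits AlgebraicGeometry TopologicalSpace Opposite

namespace Groth.Agent.Lib.R2H3.GenLocAffine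

open Groth.Agent.Lib.Helper23.SecTw Groth.Agent.Lib.Helper23.GenLocus Groth.Agent.Lib.Helper6

variable {Y : Scheme.{u}}

/-- the relation `c = b * a^n` on `Y_t ⊓ W` -/
theorem coef_rel (M : Y.Modules) (t : Coh.structureModule Y ⟶ M) (n : ℕ)
    (u : Coh.structureModule Y ⟶ CohB1.tensorPow M n) {W : Y.Opens} {e : Γ(M, W)} (he : IsGen M W e) :
    resf (inf_le_right : CohB1.genLocus M t ⊓ W ≤ W) (coef (isGen_pw M W e he n) le_rfl (sv u W)) =
      resf (inf_le_left : CohB1.genLocus M t ⊓ W ≤ CohB1.genLocus M t)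
        (coef (isGen_pw M _ _ (isGen_sv_genLocus M t) n) le_rfl (sv u (CohB1.genLocus M t))) *
      (resf (inf_le_right : CohB1.genLocus M t ⊓ W ≤ W) (coef he le_rfl (sv t W))) ^ n := by
  set U := CohB1.genLocus M t with hU
  set V := U ⊓ W with hV
  have hVW : V ≤ W := inf_le_right
  have hVU : V ≤ U := inf_le_left
  have hg : IsGen (CohB1.tensorPow M n) V (pw M V (res M hVW e) n) := isGen_pw M V _ (he.mono hVW) n
  have h1 : resf hVW (coef (isGen_pw M W e he n) le_rfl (sv u W)) • res _ (le_refl V) (pw M V (res M hVW e) n)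
      = sv u V := by
    rw [res_self, ← res_sv u hVW, sv_eq_coef_smul u (isGen_pw M W e he n), res_smul, res_pw]
    congr 2
    rw [← sv_eq_coef_smul u (isGen_pw M W e he n)]
  have h2 : (resf hVU (coef (isGen_pw M _ _ (isGen_sv_genLocus M t) n) le_rfl (sv u U)) *
      (resf hVW (coef he le_rfl (sv t W))) ^ n) • res _ (le_refl V) (pw M V (res M hVW e) n) = sv u V := by
    rw [res_self, mul_smul, ← pw_smul, ← res_smul, ← sv_eq_coef_smul t he, res_sv,
      ← res_sv t hVU, ← res_pw, ← res_smul, ← sv_eq_coef_smul u, res_sv]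
  rw [coef_unique hg le_rfl _ _ h1, coef_unique hg le_rfl _ _ h2]

/-- `appLE` only depends on the morphism up to equality -/
theorem appLE_of_eq {X Z : Scheme.{u}} {f g : X ⟶ Z} (h : f = g) (U : Z.Opens) (V : X.Opens)
    (e : V ≤ f ⁻¹ᵁ U) : f.appLE U V e = g.appLE U V (h ▸ e) := by
  subst h; rfl

theorem appLE_top_top {X Z : Scheme.{u}} (f : X ⟶ Z) (e : (⊤ : X.Opens) ≤ f ⁻¹ᵁ ⊤) :
    f.appLE ⊤ ⊤ e = f.appTop := by
  change f.app ⊤ ≫ X.presheaf.map (𝟙 _) = f.app ⊤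
  rw [X.presheaf.map_id, Category.comp_id]

section localSpec
variable {R : Type u} [CommRing R] [IsLocalRing R]

theorem preimage_eq_top_of_mem (ℓ : Spec (.of R) ⟶ Y) (W : Y.Opens)
    (h : ℓ (IsLocalRing.closedPoint R) ∈ W) : ℓ ⁻¹ᵁ W = ⊤ :=
  IsLocalRing.closed_point_mem_iff.mp h

theorem isUnit_of_basicOpen_eq_top {X : Scheme.{u}} (r : Γ(X, ⊤)) (h : X.basicOpen r = ⊤) : IsUnit r := by
  refine X.toRingedSpace.isUnit_of_isUnit_germ ⊤ r (fun x hx => ?_)
  have : x ∈ X.basicOpen r := by rw [h]; trivial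
  exact (X.mem_basicOpen r x hx).mp this

theorem isUnit_appLE_iff (ℓ : Spec (.of R) ⟶ Y) (W : Y.Opens) (hW : ⊤ ≤ ℓ ⁻¹ᵁ W) (r : Γ(Y, W)) :
    IsUnit (ℓ.appLE W ⊤ hW r) ↔ ℓ (IsLocalRing.closedPoint R) ∈ Y.basicOpen r := by
  have hb := Scheme.basicOpen_appLE ℓ ⊤ W hW r
  rw [top_inf_eq] at hb
  constructor
  · intro h
    have h1 := Scheme.basicOpen_of_isUnit _ h
    rw [hb] at h1
    have : IsLocalRing.closedPoint R ∈ ℓ ⁻¹ᵁ Y.basicOpen r := by rw [h1]; trivial
    exact this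
  · intro h
    have h1 : ℓ ⁻¹ᵁ Y.basicOpen r = ⊤ := preimage_eq_top_of_mem ℓ _ h
    rw [← hb] at h1
    exact isUnit_of_basicOpen_eq_top _ h1

end localSpec

section valuative
variable {R K : Type u} [CommRing R] [IsDomain R] [ValuationRing R] [Field K] [Algebra R K]
  [IsFractionRing R K]

theorem injective_appTop_specMap :
    Function.Injective ((Spec.map (CommRingCat.ofHom (algebraMap R K))).appTop) := by
  have hnat := Scheme.ΓSpecIso_naturality (CommRingCat.ofHom (algebraMap R K))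
  apply Function.Injective.of_comp (f := (Scheme.ΓSpecIso (.of K)).hom)
  have h : ⇑(ConcreteCategory.hom (Scheme.ΓSpecIso (.of K)).hom) ∘
      ⇑(ConcreteCategory.hom (Spec.map (CommRingCat.ofHom (algebraMap R K))).appTop) =
      ⇑(ConcreteCategory.hom ((Scheme.ΓSpecIso (.of R)).hom ≫ CommRingCat.ofHom (algebraMap R K))) := by
    funext x
    rw [← hnat]
    rfl
  rw [h]
  intro x y hxy
  have h2 : (algebraMap R K) ((Scheme.ΓSpecIso (.of R)).hom x) =
      (algebraMap R K) ((Scheme.ΓSpecIso (.of R)).hom y) := hxy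
  have h3 := IsFractionRing.injective R K h2
  exact (ConcreteCategory.bijective_of_isIso (Scheme.ΓSpecIso (.of R)).hom).1 h3

theorem mem_genLocus_of_lift (M : Y.Modules) (hM : CohB1.IsAmple M) (t : Coh.structureModule Y ⟶ M)
    (i₁ : Spec (.of K) ⟶ (CohB1.genLocus M t : Scheme.{u}))
    (i₂ : Spec (.of R) ⟶ Spec Γ((CohB1.genLocus M t : Scheme.{u}), ⊤))
    (w : i₁ ≫ (CohB1.genLocus M t : Scheme.{u}).toSpecΓ =
      Spec.map (CommRingCat.ofHom (algebraMap R K)) ≫ i₂)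
    (ℓ : Spec (.of R) ⟶ Y)
    (hℓ : Spec.map (CommRingCat.ofHom (algebraMap R K)) ≫ ℓ = i₁ ≫ (CohB1.genLocus M t).ι) :
    ℓ (IsLocalRing.closedPoint R) ∈ CohB1.genLocus M t := by
  by_contra hx
  obtain ⟨n, u, hxu, -⟩ := hM.2.2 (ℓ (IsLocalRing.closedPoint R))
  obtain ⟨W, e, hxW, he⟩ := exists_gen M hM.1 (ℓ (IsLocalRing.closedPoint R))
  have hWtop : ℓ ⁻¹ᵁ W = ⊤ := preimage_eq_top_of_mem ℓ W hxW
  have hW : (⊤ : (Spec (.of R)).Opens) ≤ ℓ ⁻¹ᵁ W := hWtop.ge
  have hrel := coef_rel M t (n + 1) u he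
  have hba := genLocus_inf_eq_coef t he
  have hbc := genLocus_inf_eq_coef u (isGen_pw M W e he (n + 1))
  have hca : ¬ IsUnit (ℓ.appLE W ⊤ hW (coef he le_rfl (sv t W))) := by
    rw [isUnit_appLE_iff, ← hba]
    exact fun h => hx h.1
  have hcc : IsUnit (ℓ.appLE W ⊤ hW (coef (isGen_pw M W e he (n + 1)) le_rfl (sv u W))) := by
    rw [isUnit_appLE_iff, ← hbc]
    exact ⟨hxu, hxW⟩
  have hpt : ∀ p : Spec (.of K), (i₁ ≫ (CohB1.genLocus M t).ι) p ∈ W := by
    intro p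
    have h1 : (i₁ ≫ (CohB1.genLocus M t).ι) p =
        ℓ (Spec.map (CommRingCat.ofHom (algebraMap R K)) p) := by rw [← hℓ]; rfl
    rw [h1]
    have : Spec.map (CommRingCat.ofHom (algebraMap R K)) p ∈ ℓ ⁻¹ᵁ W := by rw [hWtop]; trivial
    exact this
  have hVtop : (⊤ : (Spec (.of K)).Opens) ≤
      (i₁ ≫ (CohB1.genLocus M t).ι) ⁻¹ᵁ (CohB1.genLocus M t ⊓ W) := fun p _ => ⟨(i₁ p).2, hpt p⟩
  have hC1 : ∀ r : Γ(Y, W), (i₁ ≫ (CohB1.genLocus M t).ι).appLE (CohB1.genLocus M t ⊓ W) ⊤ hVtop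
      (resf inf_le_right r) =
      (Spec.map (CommRingCat.ofHom (algebraMap R K))).appTop (ℓ.appLE W ⊤ hW r) := by
    intro r
    have h1 := Scheme.Hom.map_appLE (i₁ ≫ (CohB1.genLocus M t).ι) hVtop
      (homOfLE (inf_le_right : CohB1.genLocus M t ⊓ W ≤ W)).op
    have h3 := Scheme.Hom.appLE_comp_appLE (Spec.map (CommRingCat.ofHom (algebraMap R K))) ℓ W ⊤ ⊤ hW le_top
    have h2 := appLE_of_eq hℓ W ⊤ (le_top.trans ((Opens.map
      (Spec.map (CommRingCat.ofHom (algebraMap R K))).base).map (homOfLE hW)).le)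
    rw [h2] at h3
    change (Y.presheaf.map (homOfLE (inf_le_right : CohB1.genLocus M t ⊓ W ≤ W)).op ≫
      (i₁ ≫ (CohB1.genLocus M t).ι).appLE (CohB1.genLocus M t ⊓ W) ⊤ hVtop) r = _
    rw [h1, ← h3, CommRingCat.comp_apply]
    exact congrArg (fun m : Γ(Spec (.of R), ⊤) ⟶ Γ(Spec (.of K), ⊤) =>
      (ConcreteCategory.hom m) (ℓ.appLE W ⊤ hW r)) (appLE_top_top _ _)
  have hιtop : (⊤ : (CohB1.genLocus M t : Scheme.{u}).Opens) ≤
      (CohB1.genLocus M t).ι ⁻¹ᵁ (CohB1.genLocus M t) := fun p _ => p.2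
  have hC2 : ∀ b : Γ(Y, CohB1.genLocus M t),
      (i₁ ≫ (CohB1.genLocus M t).ι).appLE (CohB1.genLocus M t ⊓ W) ⊤ hVtop (resf inf_le_left b) =
      (Spec.map (CommRingCat.ofHom (algebraMap R K))).appTop (i₂.appTop
        ((Scheme.ΓSpecIso Γ((CohB1.genLocus M t : Scheme.{u}), ⊤)).inv
          ((CohB1.genLocus M t).ι.appLE (CohB1.genLocus M t) ⊤ hιtop b))) := by
    intro b
    have h1 := Scheme.Hom.map_appLE (i₁ ≫ (CohB1.genLocus M t).ι) hVtop
      (homOfLE (inf_le_left : CohB1.genLocus M t ⊓ W ≤ CohB1.genLocus M t)).op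
    have h3 := Scheme.Hom.appLE_comp_appLE i₁ (CohB1.genLocus M t).ι (CohB1.genLocus M t) ⊤ ⊤ hιtop le_top
    change (Y.presheaf.map (homOfLE (inf_le_left : CohB1.genLocus M t ⊓ W ≤ CohB1.genLocus M t)).op ≫
      (i₁ ≫ (CohB1.genLocus M t).ι).appLE (CohB1.genLocus M t ⊓ W) ⊤ hVtop) b = _
    rw [h1, ← h3, CommRingCat.comp_apply]
    have h4 : (CohB1.genLocus M t : Scheme.{u}).toSpecΓ.appTop ≫ i₁.appTop =
        i₂.appTop ≫ (Spec.map (CommRingCat.ofHom (algebraMap R K))).appTop := by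
      rw [← Scheme.Hom.comp_appTop, ← Scheme.Hom.comp_appTop, w]
    rw [Scheme.toSpecΓ_appTop] at h4
    have h5 : i₁.appLE ⊤ ⊤ le_top = i₁.appTop := appLE_top_top _ _
    set b' := (CohB1.genLocus M t).ι.appLE (CohB1.genLocus M t) ⊤ hιtop b with hb'
    have h6 : b' = (Scheme.ΓSpecIso Γ((CohB1.genLocus M t : Scheme.{u}), ⊤)).hom
        ((Scheme.ΓSpecIso Γ((CohB1.genLocus M t : Scheme.{u}), ⊤)).inv b') := by
      rw [← CommRingCat.comp_apply, Iso.inv_hom_id]; rfl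
    have h7 := congrArg (fun m => (ConcreteCategory.hom m)
      ((Scheme.ΓSpecIso Γ((CohB1.genLocus M t : Scheme.{u}), ⊤)).inv b')) h4
    simp only [CommRingCat.comp_apply] at h7
    rw [← h7, ← h6]
    exact congrArg (fun m : Γ((CohB1.genLocus M t : Scheme.{u}), ⊤) ⟶ Γ(Spec (.of K), ⊤) =>
      (ConcreteCategory.hom m) b') h5
  apply hca
  have hkey : ℓ.appLE W ⊤ hW (coef (isGen_pw M W e he (n + 1)) le_rfl (sv u W)) =
      i₂.appTop ((Scheme.ΓSpecIso Γ((CohB1.genLocus M t : Scheme.{u}), ⊤)).inv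
        ((CohB1.genLocus M t).ι.appLE (CohB1.genLocus M t) ⊤ hιtop
          (coef (isGen_pw M _ _ (isGen_sv_genLocus M t) (n + 1)) le_rfl (sv u (CohB1.genLocus M t))))) *
      (ℓ.appLE W ⊤ hW (coef he le_rfl (sv t W))) ^ (n + 1) := by
    apply injective_appTop_specMap (R := R) (K := K)
    rw [map_mul, map_pow, ← hC1, ← hC1, ← hC2, hrel, map_mul, map_pow]
  rw [hkey] at hcc
  exact isUnit_pow_succ_iff.mp (isUnit_of_mul_isUnit_right hcc)

end valuative

/-- the canonical open immersion `Y_t ⟶ Spec Γ(Y_t)` satisfies the existence part of the valuative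
criterion when `Y` is universally closed over an affine scheme and `M` is ample -/
theorem existence_toSpecΓ {T : Scheme.{u}} (g : Y ⟶ T) [UniversallyClosed g]
    (M : Y.Modules) (hM : CohB1.IsAmple M) (t : Coh.structureModule Y ⟶ M)
    (h : Spec Γ((CohB1.genLocus M t : Scheme.{u}), ⊤) ⟶ T)
    (hh : (CohB1.genLocus M t : Scheme.{u}).toSpecΓ ≫ h = (CohB1.genLocus M t).ι ≫ g) :
    ValuativeCriterion.Existence (CohB1.genLocus M t : Scheme.{u}).toSpecΓ := by
  have Hg : ValuativeCriterion.Existence g := by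
    have : UniversallyClosed g := inferInstance
    rw [UniversallyClosed.eq_valuativeCriterion] at this
    exact this.1
  intro S
  have hc : CommSq (S.i₁ ≫ (CohB1.genLocus M t).ι)
      (Spec.map (CommRingCat.ofHom (algebraMap S.R S.K))) g (S.i₂ ≫ h) :=
    ⟨by rw [Category.assoc, ← hh, ← Category.assoc, S.commSq.w, Category.assoc]⟩
  let S' : ValuativeCommSq g := ⟨S.R, S.K, S.i₁ ≫ (CohB1.genLocus M t).ι, S.i₂ ≫ h, hc⟩
  obtain ⟨ℓ, hℓ₁, hℓ₂⟩ := (Hg S').exists_lift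
  change Spec.map (CommRingCat.ofHom (algebraMap S.R S.K)) ≫ ℓ = S.i₁ ≫ (CohB1.genLocus M t).ι at hℓ₁
  have hmem := mem_genLocus_of_lift M hM t S.i₁ S.i₂ S.commSq.w ℓ hℓ₁
  have hrange : Set.range ℓ ⊆ Set.range (CohB1.genLocus M t).ι := by
    rintro _ ⟨p, rfl⟩
    have hsp : ℓ p ⤳ ℓ (IsLocalRing.closedPoint S.R) :=
      (IsLocalRing.specializes_closedPoint p).map ℓ.continuous
    have : ℓ p ∈ CohB1.genLocus M t := hsp.mem_open (CohB1.genLocus M t).isOpen hmem
    exact ⟨⟨ℓ p, this⟩, rfl⟩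
  refine ⟨⟨⟨IsOpenImmersion.lift (CohB1.genLocus M t).ι ℓ hrange, ?_, ?_⟩⟩⟩
  · rw [← cancel_mono (CohB1.genLocus M t).ι, Category.assoc, IsOpenImmersion.lift_fac, hℓ₁]
  · have e1 : Spec.map (CommRingCat.ofHom (algebraMap S.R S.K)) ≫
        (IsOpenImmersion.lift (CohB1.genLocus M t).ι ℓ hrange ≫
          (CohB1.genLocus M t : Scheme.{u}).toSpecΓ) =
        Spec.map (CommRingCat.ofHom (algebraMap S.R S.K)) ≫ S.i₂ := by
      rw [← S.commSq.w, ← Category.assoc]
      congr 1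
      rw [← cancel_mono (CohB1.genLocus M t).ι, Category.assoc, IsOpenImmersion.lift_fac, hℓ₁]
    rw [← Spec.map_preimage (IsOpenImmersion.lift (CohB1.genLocus M t).ι ℓ hrange ≫
          (CohB1.genLocus M t : Scheme.{u}).toSpecΓ), ← Spec.map_preimage S.i₂, ← Spec.map_comp,
      ← Spec.map_comp] at e1
    have e2 := Spec.map_injective e1
    rw [← Spec.map_preimage (IsOpenImmersion.lift (CohB1.genLocus M t).ι ℓ hrange ≫
          (CohB1.genLocus M t : Scheme.{u}).toSpecΓ), ← Spec.map_preimage S.i₂]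
    congr 1
    ext x
    apply IsFractionRing.injective S.R S.K
    exact congrArg (fun m => (ConcreteCategory.hom m) x) e2

/-- `Y ⟶ T` universally closed, `T` affine, `M` ample on `Y` ⇒ `Y_t` is affine -/
theorem isAffine_genLocus_of_universallyClosed {T : Scheme.{u}} [IsAffine T] (g : Y ⟶ T)
    [UniversallyClosed g] (M : Y.Modules) (hM : CohB1.IsAmple M) (t : Coh.structureModule Y ⟶ M) :
    IsAffine (CohB1.genLocus M t : Scheme.{u}) := by
  have : CompactSpace Y := hM.2.1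
  have hqa : (CohB1.genLocus M t : Scheme.{u}).IsQuasiAffine := by
    have h := isQuasiAffine_genLocus M hM 0 (SecTwist.powHom t 1)
    rw [genLocus_powHom hM.1 t 1 one_pos] at h
    exact h
  let q := (CohB1.genLocus M t).ι ≫ g
  let h : Spec Γ((CohB1.genLocus M t : Scheme.{u}), ⊤) ⟶ T := Spec.map q.appTop ≫ T.isoSpec.inv
  have hh : (CohB1.genLocus M t : Scheme.{u}).toSpecΓ ≫ h = (CohB1.genLocus M t).ι ≫ g := by
    change _ ≫ Spec.map q.appTop ≫ T.isoSpec.inv = q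
    rw [← Category.assoc, ← Scheme.toSpecΓ_naturality, Category.assoc]
    have : T.toSpecΓ = T.isoSpec.hom := rfl
    rw [this, Iso.hom_inv_id, Category.comp_id]
  have hE := existence_toSpecΓ g M hM t h hh
  have : UniversallyClosed (CohB1.genLocus M t : Scheme.{u}).toSpecΓ :=
    UniversallyClosed.of_valuativeCriterion _ hE
  have hsurj : Function.Surjective (CohB1.genLocus M t : Scheme.{u}).toSpecΓ :=
    (surjective_of_isDominant_of_isClosed_range _
      ((CohB1.genLocus M t : Scheme.{u}).toSpecΓ.isClosedMap.isClosed_range)).surj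
  have : IsIso (CohB1.genLocus M t : Scheme.{u}).toSpecΓ := by
    rw [isIso_iff_isOpenImmersion_and_epi_base]
    exact ⟨inferInstance, (TopCat.epi_iff_surjective _).mpr hsurj⟩
  exact IsAffine.of_isIso (CohB1.genLocus M t : Scheme.{u}).toSpecΓ

/-- `f : X ⟶ S` universally closed, `L` `f`-ample, `s` a section of `L` ⇒ `X_s ⟶ S` is affine -/
theorem isAffineHom_genLocus {X S : Scheme.{u}} (f : X ⟶ S) [UniversallyClosed f]
    (L : X.Modules) (hL : RelAmple.IsRelAmple f L) (s : Coh.structureModule X ⟶ L) :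
    IsAffineHom ((CohB1.genLocus L s).ι ≫ f) := by
  refine ⟨fun V hV => ?_⟩
  have : IsAffine (V : Scheme.{u}) := hV
  have hM := hL.2 ⟨V, hV⟩
  have h1 := isAffine_genLocus_of_universallyClosed (f ∣_ V) (L.restrict (f ⁻¹ᵁ V).ι) hM
    (restrSec s (f ⁻¹ᵁ V))
  rw [genLocus_restrSec] at h1
  have h2 : IsAffineOpen ((f ⁻¹ᵁ V).ι ⁻¹ᵁ CohB1.genLocus L s) := h1
  have h3 := h2.image_of_isOpenImmersion (f ⁻¹ᵁ V).ι
  rw [Scheme.Hom.image_preimage_eq_opensRange_inf, Scheme.Opens.opensRange_ι] at h3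
  rw [← Scheme.Hom.isAffineOpen_iff_of_isOpenImmersion (CohB1.genLocus L s).ι]
  have h4 : (CohB1.genLocus L s).ι ''ᵁ (((CohB1.genLocus L s).ι ≫ f) ⁻¹ᵁ V) =
      f ⁻¹ᵁ V ⊓ CohB1.genLocus L s := by
    change (CohB1.genLocus L s).ι ''ᵁ ((CohB1.genLocus L s).ι ⁻¹ᵁ (f ⁻¹ᵁ V)) = _
    rw [Scheme.Hom.image_preimage_eq_opensRange_inf, Scheme.Opens.opensRange_ι, inf_comm]
  rw [h4]
  exact h3

end Groth.Agent.Lib.R2H3.GenLocAffine
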