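import Mathlib
import Groth.Prelude
import Groth.Agent.Lib.R2H1IdealProd
import Groth.Agent.Lib.Helper27TmLeft
import Groth.Agent.Lib.Helper23IdealSec
import Groth.Agent.Lib.R2H1GenusZeroPic
import Groth.Agent.Lib.R2H3GenLocAffine
import Groth.Agent.Lib.R2H1NormCompl
import Groth.Agent.Lib.R2H1CurveAmple
import Groth.Agent.Lib.R2H1SmoothCompl
import Groth.Agent.Lib.R2H1CurveLift
import Groth.Agent.S0021
set_option backward.isDefEq.respectTransparency.types false

/-!
R2H1CurveAffProj: an integral curve over a field is affine or projective (S1627). API: canonSec D L e (canonical section of O(D)), mem_genLocus_canonSec, notMem_support_of_mem_genLocus_canonSec (genLocus of canonical section = complement of support D), exists_point_section, exists_finset_section (finite set of closed DVR points of integral proper curve = complement of genLocus of a section of a positive degree invertible module), isAffineOpen_compl_finset, isAffine_of_not_isProper (integral normal non-proper curve is affine), exists_closedImmersion_projSpace'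 (integral proper curve over a field is projective), s1627.
-/

set_option autoImplicit false
set_option linter.style.haveILetI false
set_option linter.unusedSectionVars false
universe u v

open CategoryTheory CategoryTheory.Limits AlgebraicGeometry TopologicalSpace Opposite

namespace Groth.Agent.Lib.R2H1.CurveAffProj

section Part1

open Groth.Agent.Lib.Helper23.SecTw Groth.Agent.Lib.Helper23.GenLocus
open Groth.Agent.Lib.R2H1.DegCartier Groth.Agent.Lib.R2H1.CurveEuler Groth.Agent.Lib.R2H1.CurveDegSec
  Groth.Agent.Lib.R2H1.EulerAdd Groth.Agent.Lib.R2H2.HHLin Groth.Agent.Lib.R2H2.PnLinRes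
  Groth.Agent.Lib.R2H1.PointTwist Groth.Agent.Lib.R2H1.GenusLe Groth.Agent.Lib.R2H2.DevA

variable {X : Scheme.{u}}

/-- the canonical section of `O(D)` -/
noncomputable def canonSec (D : X.IdealSheafData) (L : X.Modules)
    (e : CohB1.tensorMod L (ClSub.idealMod D) ≅ Coh.structureModule X) :
    Coh.structureModule X ⟶ L :=
  (e.inv ≫ ((idealSeq D).map (DCoh.tensorBi.obj L)).f) ≫ (SecTwist.unitorR L).hom

/-- the canonical section of `O(D)` generates away from `D` -/
theorem mem_genLocus_canonSec (D : X.IdealSheafData) (L : X.Modules)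
    (hL : PicF.IsInvertible L) (e : CohB1.tensorMod L (ClSub.idealMod D) ≅ Coh.structureModule X)
    (y : X) (hy : y ∉ D.support) : y ∈ CohB1.genLocus L (canonSec D L e) := by
  have hL1 : FlatMod.IsFinLocFreeOfRank 1 L :=
    Groth.Agent.Lib.Helper23.SecTw.isFinLocFreeOfRank_one_of_isInvertible L hL
  have hLf : FlatMod.IsFinLocFree L := fun y => by
    obtain ⟨V, hy, e⟩ := hL1 y
    exact ⟨V, 1, hy, e⟩
  have hfl := Groth.Agent.Lib.R2H2.PullLF.isFlat_of_isFinLocFree L hLf
  have hS : ((idealSeq D).map (DCoh.tensorBi.obj L)).ShortExact :=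
    Groth.Agent.Lib.R2Lead.TensorExact.shortExact_map_tensorBi L (fun y => hfl y)
      (idealSeq D) (idealSeq_shortExact D)
  have hX₂ : PicF.IsInvertible ((idealSeq D).map (DCoh.tensorBi.obj L)).X₂ :=
    Groth.Agent.Lib.Helper23.AmpleIso.isInvertible_of_iso
      (Groth.Agent.Lib.Helper21.Dual.rU X.sheaf L).symm hL
  have h3 : Subsingleton (((idealSeq D).map (DCoh.tensorBi.obj L)).X₃.presheaf.stalk y) :=
    Groth.Agent.Lib.R2H1.LiftZero.stalk_X₃_subsingleton D L y hy
  haveI := hS.mono_f
  haveI := hS.epi_g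
  obtain ⟨e', he'⟩ : ∃ e' : Coh.structureModule X ≅
      ((idealSeq D).map (DCoh.tensorBi.obj L)).X₁, e' = e.symm := ⟨_, rfl⟩
  obtain ⟨τ, hτ⟩ : ∃ τ : Coh.structureModule X ⟶ ((idealSeq D).map (DCoh.tensorBi.obj L)).X₂,
      τ = e'.hom ≫ ((idealSeq D).map (DCoh.tensorBi.obj L)).f := ⟨_, rfl⟩
  haveI : Mono τ := by rw [hτ]; infer_instance
  have i1 : cokernel τ ≅ cokernel ((idealSeq D).map (DCoh.tensorBi.obj L)).f := by
    rw [hτ]; exact cokernelEpiComp e'.hom _
  have i2 : cokernel ((idealSeq D).map (DCoh.tensorBi.obj L)).f ≅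
      ((idealSeq D).map (DCoh.tensorBi.obj L)).X₃ :=
    (colimit.isColimit _).coconePointUniqueUpToIso hS.exact.gIsCokernel
  have hsub : Subsingleton ((cokernel τ).presheaf.stalk y) := by
    by_contra hns
    have hy1 : y ∈ CohB1.support (cokernel τ) := hns
    exact support_subset_of_mono (i1 ≪≫ i2).hom hy1 h3
  have hmem := Groth.Agent.Lib.R2H1.IsoP1B.mem_genLocus_of_subsingleton_stalk _ hX₂ τ y hsub
  have h5 := Groth.Agent.Lib.Helper23.AmpleIso.genLocus_comp_iso (SecTwist.unitorR L) τ
  have h6 : canonSec D L e = τ ≫ (SecTwist.unitorR L).hom := by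
    rw [hτ, he']; rfl
  rw [h6]
  exact (congrArg (fun U : X.Opens => y ∈ U) h5).mpr hmem

open Groth.Agent.Lib.Helper23.Extend Groth.Agent.Lib.Helper23.IdealSec Groth.Agent.Lib.Helper6 in
/-- the canonical section of `O(D)` does not generate at points of `D` -/
theorem notMem_support_of_mem_genLocus_canonSec (D : X.IdealSheafData) (L : X.Modules)
    (hL : PicF.IsInvertible L) (e : CohB1.tensorMod L (ClSub.idealMod D) ≅ Coh.structureModule X)
    (y : X) (hy : y ∈ CohB1.genLocus L (canonSec D L e)) : y ∉ D.support := by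
  intro hyD
  obtain ⟨W₀, e₀, hyW₀, hgen₀⟩ := exists_gen L hL y
  obtain ⟨W, hW, hyW, hWW₀⟩ : ∃ W : X.Opens, IsAffineOpen W ∧ y ∈ W ∧ W ≤ W₀ := by
    obtain ⟨W, hW, hyW, hle⟩ := Opens.isBasis_iff_nbhd.1 X.isBasis_affineOpens hyW₀
    exact ⟨W, hW, hyW, hle⟩
  have hgen : IsGen L W (res L hWW₀ e₀) := hgen₀.mono hWW₀
  obtain ⟨j', hj'⟩ := (Groth.Agent.Lib.Helper27TmLeft.bijective_tm_of_isGen_left L
    (ClSub.idealMod D) W _ hgen W le_rfl).2 (sv e.inv W)
  rw [res_self] at hj'
  have h2 : sv (canonSec D L e) W =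
      ofS W ((ClSub.idealModι D).app W j') • res L hWW₀ e₀ := by
    have h1 : sv (canonSec D L e) W = (SecTwist.unitorR L).hom.app W
        (((DCoh.tensorBi.obj L).map (ClSub.idealModι D)).app W (sv e.inv W)) := rfl
    rw [h1, ← hj', Groth.Agent.Lib.R2H1.CurveAmple.tensorBi_map_tm]
    have h := SecTwist.unitorR_tmul L W (res L hWW₀ e₀) (ofS W ((ClSub.idealModι D).app W j'))
    exact h
  have h3 := genLocus_inf_eq_of_isGen L _ W _ _ hgen h2
  have h4 : y ∈ X.basicOpen (ofS W ((ClSub.idealModι D).app W j')) := by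
    rw [← h3]
    exact ⟨hy, hyW⟩
  exact not_mem_basicOpen_of_mem_support D ⟨W, hW⟩ _ (ι_mem_ideal D ⟨W, hW⟩ j') y hyW hyD h4

end Part1

section Part2


variable (k : Type u) [Field k] (X : Scheme.{u}) [X.Over (Spec (CommRingCat.of k))]
    [IsIntegral X] [IsProper (X ↘ (Spec (CommRingCat.of k)))]

/-- the sheaf `O(P)` of a closed DVR point with its canonical section -/
theorem exists_point_section (hdim : topologicalKrullDim X = 1) (p : X)
    (hp : IsClosed ({p} : Set X)) (hdvr : IsDiscreteValuationRing (X.presheaf.stalk p)) :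
    ∃ (L : X.Modules) (s : Coh.structureModule X ⟶ L), PicF.IsInvertible L ∧
      (CohB1.genLocus L s : Set X) = {p}ᶜ ∧ 1 ≤ Curv2.deg k X L 1 := by
  haveI := hdvr
  obtain ⟨L, hL, ⟨e⟩, hdegL⟩ := Groth.Agent.Lib.R2H1.IsoP1D.exists_inverse_point k X hdim p hp
  have hpos := Groth.Agent.Lib.R2H1.IsoP1B.h0_quotMod_point_pos k X p hp
  have hsupp : ((Scheme.IdealSheafData.vanishingIdeal ⟨{p}, hp⟩).support : Set X) = {p} :=
    Scheme.IdealSheafData.coe_support_vanishingIdeal _
  refine ⟨L, canonSec _ L e, hL, ?_, ?_⟩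
  · ext y
    simp only [SetLike.mem_coe, Set.mem_compl_iff]
    have hiff : y ∈ ({p} : Set X) ↔
        y ∈ (Scheme.IdealSheafData.vanishingIdeal ⟨{p}, hp⟩).support := by
      rw [← SetLike.mem_coe, hsupp]
    rw [hiff]
    constructor
    · intro hy
      exact notMem_support_of_mem_genLocus_canonSec _ L hL e y hy
    · intro hy
      exact mem_genLocus_canonSec _ L hL e y hy
  · rw [hdegL]
    exact_mod_cast hpos

/-- on an integral proper curve, a nonempty finite set of closed DVR points is the complement of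
the generating locus of a section of an invertible module of positive degree -/
theorem exists_finset_section (hdim : topologicalKrullDim X = 1) (F : Finset X)
    (hF : ∀ p ∈ F, IsClosed ({p} : Set X) ∧ IsDiscreteValuationRing (X.presheaf.stalk p))
    (hne : F.Nonempty) :
    ∃ (L : X.Modules) (s : Coh.structureModule X ⟶ L), PicF.IsInvertible L ∧
      (CohB1.genLocus L s : Set X) = (F : Set X)ᶜ ∧ 1 ≤ Curv2.deg k X L 1 := by
  classical
  induction hne using Finset.Nonempty.cons_induction with
  | singleton p =>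
    obtain ⟨hp, hdvr⟩ := hF p (Finset.mem_singleton_self p)
    obtain ⟨L, s, hL, hs, hd⟩ := exists_point_section k X hdim p hp hdvr
    exact ⟨L, s, hL, by rw [hs]; simp, hd⟩
  | cons p F' hpF' hne' ih =>
    obtain ⟨hp, hdvr⟩ := hF p (Finset.mem_cons_self p F')
    obtain ⟨L₁, s₁, hL₁, hs₁, hd₁⟩ := exists_point_section k X hdim p hp hdvr
    obtain ⟨L₂, s₂, hL₂, hs₂, hd₂⟩ := ih (fun q hq => hF q (Finset.mem_cons_of_mem hq))
    refine ⟨CohB1.tensorMod L₁ L₂, SecTwist.tmulHom s₁ s₂,
      Groth.Agent.Lib.Helper23.SecTw.isInvertible_tensorMod hL₁ hL₂, ?_, ?_⟩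
    · rw [Groth.Agent.Lib.Helper23.SecTw.genLocus_tmulHom hL₁ hL₂, Opens.coe_inf, hs₁, hs₂]
      ext y
      simp
    · rw [Groth.Agent.Lib.R2H1.GenusZeroPic.deg_tensor k X hdim L₁ L₂ hL₁ hL₂]
      linarith

end Part2

section Part3

open Groth.Agent.Lib.R2H1.NormCompl

/-- the complement of a nonempty finite set of closed DVR points in an integral proper curve is
affine -/
theorem isAffineOpen_compl_finset (k : Type u) [Field k] (X : Scheme.{u})
    [X.Over (Spec (CommRingCat.of k))]
    [IsIntegral X] [IsProper (X ↘ (Spec (CommRingCat.of k)))]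
    (hdim : topologicalKrullDim X = 1) (F : Finset X)
    (hF : ∀ p ∈ F, IsClosed ({p} : Set X) ∧ IsDiscreteValuationRing (X.presheaf.stalk p))
    (hne : F.Nonempty) (U : X.Opens) (hU : (U : Set X) = (F : Set X)ᶜ) : IsAffineOpen U := by
  obtain ⟨L, s, hL, hs, hd⟩ := exists_finset_section k X hdim F hF hne
  have hample : CohB1.IsAmple L :=
    (Groth.Agent.Lib.R2H1.CurveAmple.s1530 k X hdim L hL).2 (by linarith)
  have h1 := Groth.Agent.Lib.R2H3.GenLocAffine.isAffine_genLocus_of_universallyClosed
    (X ↘ (Spec (CommRingCat.of k))) L hample s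
  have h2 : U = CohB1.genLocus L s := by
    apply Opens.ext
    rw [hU, hs]
  rw [h2]
  exact h1

/-- an integral normal curve over a field which is not proper is affine -/
theorem isAffine_of_not_isProper (k : Type u) [Field k] (X : Scheme.{u})
    [X.Over (Spec (CommRingCat.of k))] [IsIntegral X]
    [LocallyOfFiniteType (X ↘ Spec (CommRingCat.of k))]
    [IsSeparated (X ↘ Spec (CommRingCat.of k))]
    (hcurve : ∀ x : X, IsClosed ({x} : Set X) → ringKrullDim (X.presheaf.stalk x) = 1)
    (hnorm : Pi1.IsNormalScheme X) (hnp : ¬ IsProper (X ↘ Spec (CommRingCat.of k))) :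
    IsAffine X := by
  classical
  obtain ⟨C, hCo, hCi, j, hCp, hCn, hCc, hjo, hjk⟩ :=
    exists_openImmersion_integral k X hcurve hnorm
  haveI := hCp
  haveI := hjo
  have hdimC : topologicalKrullDim C = 1 := dim_eq_one_of_hcurve k C hCc
  haveI : IsNoetherian C := Groth.Agent.Lib.R2H1.CurveEuler.isNoetherian_of_proper k C
  have hdense : Dense (j.opensRange : Set C) :=
    j.opensRange.isOpen.dense ⟨j (Classical.arbitrary X), ⟨_, rfl⟩⟩
  have hZdim := Groth.Agent.Lib.R2H1.GenusLe.dim_compl_le_zero_of_dense C hdimC.le j.opensRange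
    hdense
  have hZcl : IsClosed ((j.opensRange : Set C)ᶜ) := j.opensRange.isOpen.isClosed_compl
  haveI : Finite ↥((j.opensRange : Set C)ᶜ) :=
    Groth.Agent.Lib.R2H1.ZeroDimCoh.finite_of_dim_le_zero hZdim
  have hZfin : ((j.opensRange : Set C)ᶜ).Finite := Set.toFinite _
  have hne : hZfin.toFinset.Nonempty := by
    rw [Set.Finite.toFinset_nonempty]
    by_contra hempty
    rw [Set.not_nonempty_iff_eq_empty, Set.compl_empty_iff] at hempty
    apply hnp
    haveI : IsIso j := by
      apply isIso_of_isOpenImmersion_of_opensRange_eq_top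
      exact Opens.ext hempty
    rw [← hjk]
    infer_instance
  have hF : ∀ p ∈ hZfin.toFinset, IsClosed ({p} : Set C) ∧
      IsDiscreteValuationRing (C.presheaf.stalk p) := by
    intro p hp
    rw [Set.Finite.mem_toFinset] at hp
    have hpc : IsClosed ({p} : Set C) :=
      Groth.Agent.Lib.R2H1.ZeroDimCoh.isClosed_of_subset_of_dim_le_zero _ hZcl hZdim {p}
        (Set.singleton_subset_iff.mpr hp)
    exact ⟨hpc, Groth.Agent.Lib.R2H1.IsoP1D.isDVR_of_normal_closed hdimC p hpc (hCn p).2⟩
  have haff := isAffineOpen_compl_finset k C hdimC hZfin.toFinset hF hne j.opensRange (by simp)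
  haveI : IsAffine (j.opensRange : Scheme.{u}) := haff
  exact IsAffine.of_isIso (Scheme.Hom.isoOpensRange j).hom

end Part3

section Part4


open Groth.Agent.Lib.R2H1.NormCompl
open Groth.Agent.Lib.Helper4.VarDim Groth.Agent.Lib.Helper4.NormCurve
  Groth.Agent.Lib.R2H1.BirGenus Groth.Agent.Lib.R2H1.CurveLift

/-- an integral proper curve over a field is projective -/
theorem exists_closedImmersion_projSpace' (k : Type u) [Field k] (X : Scheme.{u})
    [X.Over (Spec (CommRingCat.of k))] [IsIntegral X] [IsProper (X ↘ (Spec (CommRingCat.of k)))]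
    (hdim : topologicalKrullDim X = 1) :
    ∃ (n : ℕ) (i : X ⟶ CohB1.ProjSpace n k), IsClosedImmersion i ∧
      i ≫ CohB1.ProjSpace.toSpec n k = X ↘ (Spec (CommRingCat.of k)) := by
  haveI := Groth.Agent.Lib.R2H1.CurveEuler.isNoetherian_of_proper k X
  haveI : IsLocallyNoetherian X := inferInstance
  obtain ⟨P, hP, hPr⟩ := Groth.Agent.Lib.R2H1.GenusZeroPic.exists_regular_closed k X hdim
  haveI : IsDiscreteValuationRing (X.presheaf.stalk P) :=
    Groth.Agent.Lib.R2LeadSmoothPSB.isDVR_of_regular_dim_one _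
      (Groth.Agent.Lib.Helper8CurveEt.ringKrullDim_stalk_eq_one hdim P hP)
  obtain ⟨L, hL, -, hdegL⟩ := Groth.Agent.Lib.R2H1.IsoP1D.exists_inverse_point k X hdim P hP
  have hpos := Groth.Agent.Lib.R2H1.IsoP1B.h0_quotMod_point_pos k X P hP
  have hdeg : 0 < Curv2.deg k X L 1 := by rw [hdegL]; exact_mod_cast hpos
  have hample : CohB1.IsAmple L := (Groth.Agent.Lib.R2H1.CurveAmple.s1530 k X hdim L hL).2 hdeg
  obtain ⟨n, i, hi, hif⟩ := Groth.Agent.Lib.R2H3.QProj.exists_immersion_of_isAmple
    (X ↘ (Spec (CommRingCat.of k))) L hample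
  haveI := hi
  have hci := Groth.Agent.Lib.R2H3.QProj.isClosedImmersion_of_isProper
    (X ↘ (Spec (CommRingCat.of k))) n i hif
  have hpb := Groth.Agent.Lib.R2H2.ProjOver.isPullback_a n k (𝟙 (Spec (CommRingCat.of k)))
  haveI : IsIso (Groth.Agent.Lib.R2H2.ProjOver.a n k (𝟙 (Spec (CommRingCat.of k)))) :=
    hpb.isIso_fst_of_isIso
  refine ⟨n, i ≫ inv (Groth.Agent.Lib.R2H2.ProjOver.a n k (𝟙 (Spec (CommRingCat.of k)))),
    inferInstance, ?_⟩
  rw [Category.assoc]
  have h2 := Groth.Agent.Lib.R2H2.ProjOver.a_toBase n k (𝟙 (Spec (CommRingCat.of k)))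
  rw [Category.comp_id] at h2
  rw [← h2, IsIso.inv_hom_id_assoc]
  exact hif

/-- S1627 -/
theorem s1627 (k : Type u) [Field k] (X : Scheme.{u}) [X.Over (Spec (CommRingCat.of k))]
    [IsIntegral X] [IsSeparated (X ↘ (Spec (CommRingCat.of k)))]
    [LocallyOfFiniteType (X ↘ (Spec (CommRingCat.of k)))]
    [QuasiCompact (X ↘ (Spec (CommRingCat.of k)))] (hdim : topologicalKrullDim X = 1) :
    IsAffine X ∨ ∃ (d : ℕ) (c : X ⟶ CohB1.ProjSpace d k), IsClosedImmersion c ∧
      c ≫ CohB1.ProjSpace.toSpec d k = X ↘ (Spec (CommRingCat.of k)) := by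
  by_cases hp : IsProper (X ↘ (Spec (CommRingCat.of k)))
  · exact Or.inr (exists_closedImmersion_projSpace' k X hdim)
  · left
    haveI : IsLocallyNoetherian X :=
      LocallyOfFiniteType.isLocallyNoetherian (X ↘ (Spec (CommRingCat.of k)))
    haveI : CompactSpace X :=
      QuasiCompact.compactSpace_of_compactSpace (X ↘ Spec (CommRingCat.of k))
    haveI : IsNoetherian X := {}
    obtain ⟨g, hg⟩ : ∃ g : Spec (CommRingCat.of X.functionField) ⟶ X,
        g = gen X X.functionField (RingHom.id _) := ⟨_, rfl⟩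
    haveI : QuasiCompact g := inferInstance
    haveI : QuasiSeparated g := inferInstance
    have hN2 : ∀ (U : X.Opens), IsAffineOpen U → ∀ (hne : Nonempty ↥U),
        @CAlg.IsN2 Γ(X, U) _ (@IsIntegral.component_integral X _ U hne) := fun U hU hne =>
      isN2_sections_of_locallyOfFiniteType_field k X U hU (hne := hne)
    haveI : IsFinite g.fromNormalization :=
      isFinite_fromNormalization_of_eq X.functionField (RingHom.id _) g hg
        (RingHom.Finite.id _) hN2
    haveI hsurj := surjective_fromNormalization_of_eq X.functionField (RingHom.id _) g hg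
    have hnorm := isNormalScheme_normalization_of_eq X.functionField (RingHom.id _) g hg
    letI : g.normalization.Over (Spec (CommRingCat.of k)) :=
      ⟨g.fromNormalization ≫ (X ↘ Spec (CommRingCat.of k))⟩
    haveI : LocallyOfFiniteType (g.normalization ↘ Spec (CommRingCat.of k)) :=
      inferInstanceAs (LocallyOfFiniteType (g.fromNormalization ≫ (X ↘ Spec (CommRingCat.of k))))
    haveI : IsSeparated (g.normalization ↘ Spec (CommRingCat.of k)) :=
      inferInstanceAs (IsSeparated (g.fromNormalization ≫ (X ↘ Spec (CommRingCat.of k))))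
    have hdim' : topologicalKrullDim g.normalization = 1 := by
      rw [topologicalKrullDim_eq_of_isFinite_of_surjective k g.fromNormalization rfl, hdim]
    have hcurve : ∀ x : g.normalization, IsClosed ({x} : Set g.normalization) →
        ringKrullDim (g.normalization.presheaf.stalk x) = 1 := fun x hx =>
      Groth.Agent.Lib.Helper8CurveEt.ringKrullDim_stalk_eq_one hdim' x hx
    have hnp : ¬ IsProper (g.normalization ↘ Spec (CommRingCat.of k)) := by
      intro hpr
      apply hp
      haveI : UniversallyClosed (g.fromNormalization ≫ (X ↘ Spec (CommRingCat.of k))) :=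
        inferInstanceAs (UniversallyClosed (g.normalization ↘ Spec (CommRingCat.of k)))
      haveI : UniversallyClosed (X ↘ Spec (CommRingCat.of k)) :=
        UniversallyClosed.of_comp_surjective g.fromNormalization _
      exact {}
    haveI := isAffine_of_not_isProper k g.normalization hcurve hnorm hnp
    exact Groth.Agent.S0021.result g.fromNormalization

end Part4

end Groth.Agent.Lib.R2H1.CurveAffProj
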