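import Mathlib
import Groth.Prelude
import Groth.Agent.Lib.R2H3NegTwist
import Groth.Agent.Lib.R2H2PnMulSurj
import Groth.Agent.Lib.Helper27TwistAmple2
import Groth.Agent.Lib.Helper27PnSections
import Groth.Agent.Lib.R2LeadKRR
import Groth.Agent.S9705
import Groth.Agent.Lib.R2H1CurveEuler

/-!
# `h⁰(F(-1)) < h⁰(F)` on `P^N` for coherent `F` without closed associated points (helper4, round 2)

Namespace `Groth.Agent.Lib.R2H4PnDrop`.

* `exists_pencil` : over an infinite field, a pencil avoiding finitely many subspaces of codimension ≥ 2;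
* `finrank_lt_of_pencil` : a pencil of injective maps `A → C` over an algebraically closed field forces
  `dim A < dim C` (eigenvector argument);
* `isClosed_singleton_of_sup_eq_top` : a point of `P^N_k` whose linear forms have codimension ≤ 1 is closed
  (Taylor expansion);
* `mulH`, `mulH_lin`, `mulH_injective`, `finrank_lt_of_pencil_sections` : multiplication by sections on `H⁰`;
* `step`, `s5638`, `s5639`.
-/

set_option autoImplicit false
set_option linter.style.haveILetI false
set_option linter.unusedSectionVars false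
universe u

open CategoryTheory CategoryTheory.Limits AlgebraicGeometry TopologicalSpace Opposite

namespace Groth.Agent.Lib.R2H4PnDrop

open Module

section LinAlg

variable {k : Type*} [Field k]

/-- finitely many proper subspaces of a vector space over an infinite field do not cover it -/
theorem exists_notMem_of_ne_top [Infinite k] {V : Type*} [AddCommGroup V] [Module k V]
    {ι : Type*} [Finite ι] (W : ι → Submodule k V) (hW : ∀ i, W i ≠ ⊤) :
    ∃ v : V, ∀ i, v ∉ W i := by
  by_contra hcon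
  rw [not_exists] at hcon
  have hcov : ⋃ i, (W i : Set V) = Set.univ := by
    rw [Set.eq_univ_iff_forall]
    intro v
    have h1 := hcon v
    rw [not_forall] at h1
    obtain ⟨i, hi⟩ := h1
    exact Set.mem_iUnion.2 ⟨i, not_not.1 hi⟩
  obtain ⟨i, hi⟩ := Subspace.exists_eq_top_of_iUnion_eq_univ hcov
  exact hW i hi

/-- a pencil avoiding finitely many subspaces of codimension at least two -/
theorem exists_pencil [Infinite k] {V : Type*} [AddCommGroup V] [Module k V]
    {ι : Type*} [Finite ι] (W : ι → Submodule k V)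
    (hW : ∀ i (v : V), W i ⊔ Submodule.span k {v} ≠ ⊤) :
    ∃ ℓ₁ ℓ₂ : V, ∀ a b : k, (a ≠ 0 ∨ b ≠ 0) → ∀ i, a • ℓ₁ + b • ℓ₂ ∉ W i := by
  have hW0 : ∀ i, W i ≠ ⊤ := by
    intro i h
    apply hW i 0
    rw [h, top_sup_eq]
  obtain ⟨ℓ₁, h₁⟩ := exists_notMem_of_ne_top W hW0
  obtain ⟨ℓ₂, h₂⟩ := exists_notMem_of_ne_top (fun i => W i ⊔ Submodule.span k {ℓ₁}) (fun i => hW i ℓ₁)
  refine ⟨ℓ₁, ℓ₂, fun a b hab i hmem => ?_⟩
  by_cases hb : b = 0
  · have ha : a ≠ 0 := by
      rcases hab with h | h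
      · exact h
      · exact absurd hb h
    rw [hb, zero_smul, add_zero] at hmem
    apply h₁ i
    have := (W i).smul_mem a⁻¹ hmem
    rwa [smul_smul, inv_mul_cancel₀ ha, one_smul] at this
  · apply h₂ i
    have h3 : ℓ₂ = b⁻¹ • (a • ℓ₁ + b • ℓ₂) + (-(b⁻¹ * a)) • ℓ₁ := by
      rw [smul_add, smul_smul, smul_smul, inv_mul_cancel₀ hb, one_smul, neg_smul]
      abel
    rw [h3]
    exact Submodule.add_mem _ (Submodule.mem_sup_left ((W i).smul_mem _ hmem))
      (Submodule.mem_sup_right (Submodule.smul_mem _ _ (Submodule.mem_span_singleton_self ℓ₁)))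

/-- a pencil of injective maps between finite-dimensional spaces over an algebraically closed field
strictly raises the dimension -/
theorem finrank_lt_of_pencil [IsAlgClosed k] {A C : Type*} [AddCommGroup A] [Module k A]
    [AddCommGroup C] [Module k C] [FiniteDimensional k A] [FiniteDimensional k C] [Nontrivial A]
    (φ₁ φ₂ : A →ₗ[k] C)
    (h : ∀ a b : k, (a ≠ 0 ∨ b ≠ 0) → Function.Injective (a • φ₁ + b • φ₂)) :
    finrank k A < finrank k C := by
  have h1 : Function.Injective φ₁ := by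
    have := h 1 0 (Or.inl one_ne_zero)
    rwa [one_smul, zero_smul, add_zero] at this
  have hle : finrank k A ≤ finrank k C := LinearMap.finrank_le_finrank_of_injective h1
  refine lt_of_le_of_ne hle (fun heq => ?_)
  have hsurj : Function.Surjective φ₁ :=
    (LinearMap.injective_iff_surjective_of_finrank_eq_finrank heq).1 h1
  let e : A ≃ₗ[k] C := LinearEquiv.ofBijective φ₁ ⟨h1, hsurj⟩
  let T : Module.End k A := e.symm.toLinearMap ∘ₗ φ₂
  obtain ⟨μ, hμ⟩ := Module.End.exists_eigenvalue T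
  obtain ⟨v, hv⟩ := hμ.exists_hasEigenvector
  have hTv : T v = μ • v := hv.apply_eq_smul
  have h2 : φ₂ v = μ • φ₁ v := by
    have h3 : e (T v) = φ₂ v := e.apply_symm_apply (φ₂ v)
    rw [hTv, map_smul] at h3
    exact h3.symm
  have h4 := h (-μ) 1 (Or.inr one_ne_zero)
  have h5 : ((-μ) • φ₁ + (1 : k) • φ₂) v = ((-μ) • φ₁ + (1 : k) • φ₂) 0 := by
    rw [map_zero, LinearMap.add_apply, LinearMap.smul_apply, LinearMap.smul_apply, one_smul, h2, neg_smul,
      neg_add_cancel]
  exact hv.2 (h4 h5)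

end LinAlg

section Taylor

open MvPolynomial

theorem aeval_smul_of_isHomogeneous {σ : Type*} {k : Type*} [CommRing k] {S : Type*} [CommRing S] [Algebra k S]
    (f : MvPolynomial σ k) (d : ℕ) (hf : f.IsHomogeneous d) (a : σ → k) (t : S) :
    aeval (fun i => a i • t) f = eval a f • t ^ d := by
  rw [aeval_def, eval₂_eq, eval_eq, Finset.sum_smul]
  refine Finset.sum_congr rfl fun v hv => ?_
  have hd := hf.degree_eq_sum_deg_support hv
  rw [Algebra.smul_def, map_mul, map_prod, mul_assoc]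
  congr 1
  rw [hd, ← Finset.prod_pow_eq_pow_sum, ← Finset.prod_mul_distrib]
  refine Finset.prod_congr rfl fun i _ => ?_
  rw [Algebra.smul_def, mul_pow, map_pow]

variable (N : ℕ) (k : Type u) [Field k]

local notation "Pg" => CohB1.polyGrading N k

/-- the linear forms in a homogeneous prime -/
noncomputable def linForms (y : ProjectiveSpectrum Pg) : Submodule k (Pg 1) :=
  Submodule.comap (Pg 1).subtype (y.asHomogeneousIdeal.toIdeal.restrictScalars k)

theorem mem_linForms (y : ProjectiveSpectrum Pg) (ℓ : Pg 1) :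
    ℓ ∈ linForms N k y ↔ (ℓ : MvPolynomial (Fin (N + 1)) k) ∈ y.asHomogeneousIdeal := Iff.rfl

theorem le_of_le_of_sup_eq_top (y y' : ProjectiveSpectrum Pg) (hle : y ≤ y') (ℓ₀ : Pg 1)
    (h : linForms N k y ⊔ Submodule.span k {ℓ₀} = ⊤) : y' ≤ y := by
  have hX : ∀ i : Fin (N + 1), (X i : MvPolynomial (Fin (N + 1)) k) ∈ Pg 1 := fun i => isHomogeneous_X k i
  have hdec : ∀ i : Fin (N + 1), ∃ (w : Pg 1) (a : k), w ∈ linForms N k y ∧
      (X i : MvPolynomial (Fin (N + 1)) k) = (w : MvPolynomial (Fin (N + 1)) k) + a • (ℓ₀ : MvPolynomial (Fin (N + 1)) k) := by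
    intro i
    have h1 : (⟨X i, hX i⟩ : Pg 1) ∈ linForms N k y ⊔ Submodule.span k {ℓ₀} := by
      rw [h]; exact Submodule.mem_top
    obtain ⟨w, hw, z, hz, hwz⟩ := Submodule.mem_sup.1 h1
    obtain ⟨a, rfl⟩ := Submodule.mem_span_singleton.1 hz
    refine ⟨w, a, hw, ?_⟩
    have := congrArg (Subtype.val) hwz
    exact this.symm
  choose w a hw hXi using hdec
  have hwy' : ∀ i, (w i : MvPolynomial (Fin (N + 1)) k) ∈ y'.asHomogeneousIdeal := fun i => hle (hw i)
  by_cases hℓ : (ℓ₀ : MvPolynomial (Fin (N + 1)) k) ∈ y'.asHomogeneousIdeal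
  · exfalso
    obtain ⟨i, hi⟩ := Groth.Agent.Lib.Helper27PnSections.exists_X_not_mem N k y'
    apply hi
    rw [hXi i]
    exact add_mem (hwy' i) (Submodule.smul_of_tower_mem y'.asHomogeneousIdeal.toIdeal (a i) hℓ)
  · -- Taylor expansion
    have key : ∀ (d : ℕ) (f : MvPolynomial (Fin (N + 1)) k), f.IsHomogeneous d →
        f ∈ y'.asHomogeneousIdeal → f ∈ y.asHomogeneousIdeal := by
      intro d f hf hfy'
      let π : MvPolynomial (Fin (N + 1)) k →ₐ[k] (MvPolynomial (Fin (N + 1)) k ⧸ y.asHomogeneousIdeal.toIdeal) :=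
        Ideal.Quotient.mkₐ k y.asHomogeneousIdeal.toIdeal
      have hπX : ∀ i, π (X i) = a i • π ℓ₀ := by
        intro i
        rw [hXi i, map_add, map_smul]
        have : π (w i) = 0 := Ideal.Quotient.eq_zero_iff_mem.2 (hw i)
        rw [this, zero_add]
      have hπf : π f = eval a f • (π ℓ₀) ^ d := by
        have h1 : π = aeval (fun i => a i • π ℓ₀) :=
          (aeval_unique π).trans (congrArg aeval (funext hπX))
        exact (DFunLike.congr_fun h1 f).trans (aeval_smul_of_isHomogeneous f d hf a (π ℓ₀))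
      have hmem : f - eval a f • (ℓ₀ : MvPolynomial (Fin (N + 1)) k) ^ d ∈ y.asHomogeneousIdeal.toIdeal := by
        rw [← Ideal.Quotient.eq_zero_iff_mem]
        change π (f - eval a f • (ℓ₀ : MvPolynomial (Fin (N + 1)) k) ^ d) = 0
        rw [map_sub, map_smul, map_pow, hπf, sub_self]
      have hev : eval a f = 0 := by
        by_contra hne
        have h2 : eval a f • (ℓ₀ : MvPolynomial (Fin (N + 1)) k) ^ d ∈ y'.asHomogeneousIdeal.toIdeal := by
          have := (y'.asHomogeneousIdeal.toIdeal).sub_mem hfy' (hle hmem)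
          rwa [sub_sub_cancel] at this
        have h3 : (ℓ₀ : MvPolynomial (Fin (N + 1)) k) ^ d ∈ y'.asHomogeneousIdeal.toIdeal := by
          have := Submodule.smul_of_tower_mem y'.asHomogeneousIdeal.toIdeal (eval a f)⁻¹ h2
          rwa [smul_smul, inv_mul_cancel₀ hne, one_smul] at this
        exact hℓ (y'.isPrime.mem_of_pow_mem d h3)
      rw [hev, zero_smul, sub_zero] at hmem
      exact hmem
    intro f hf
    have hhom : Ideal.IsHomogeneous (homogeneousSubmodule (Fin (N + 1)) k) y.asHomogeneousIdeal.toIdeal :=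
      y.asHomogeneousIdeal.isHomogeneous
    have hhom' : Ideal.IsHomogeneous (homogeneousSubmodule (Fin (N + 1)) k) y'.asHomogeneousIdeal.toIdeal :=
      y'.asHomogeneousIdeal.isHomogeneous
    change f ∈ y.asHomogeneousIdeal.toIdeal
    rw [MvPolynomial.mem_iff_homogeneousComponent_mem hhom]
    intro n
    exact key n _ (homogeneousComponent_isHomogeneous n f)
      (MvPolynomial.homogeneousComponent_mem_of_mem hhom' hf n)

theorem isClosed_singleton_of_sup_eq_top (y : ProjectiveSpectrum Pg) (ℓ₀ : Pg 1)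
    (h : linForms N k y ⊔ Submodule.span k {ℓ₀} = ⊤) :
    IsClosed ({y} : Set (ProjectiveSpectrum Pg)) := by
  rw [← closure_subset_iff_isClosed]
  intro y' hy'
  have hle : y ≤ y' := (ProjectiveSpectrum.le_iff_mem_closure Pg y y').2 hy'
  have hge := le_of_le_of_sup_eq_top N k y y' hle ℓ₀ h
  exact Set.mem_singleton_iff.2 (le_antisymm hge hle)

end Taylor

section Generic

open Groth.Agent.Lib.Helper23.SecTw Groth.Agent.Lib.R2H3.NegTwist Groth.Agent.Lib.R2H2.HHLin
  Groth.Agent.Lib.Helper6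

variable (k : Type u) [Field k] {X : Scheme.{u}} [X.Over (Spec (CommRingCat.of k))]

/-- the constant global function attached to a scalar -/
noncomputable def cst (X : Scheme.{u}) [X.Over (Spec (CommRingCat.of k))] (a : k) : Γ(X, ⊤) :=
  Coh.toGlobal (X ↘ Spec (CommRingCat.of k)) a

/-- multiplication by a global section of `P`, followed by `θ`, on `H⁰` -/
noncomputable def mulH {G F P : X.Modules} (θ : CohB1.tensorMod G P ≅ F) (s : Γ(P, ⊤)) :
    Coh.HH X G 0 →ₗ[k] Coh.HH X F 0 :=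
  HmapA k (mulSec G (secHom P s) ≫ θ.hom) 0

theorem h0Equiv_mulH {G F P : X.Modules} (θ : CohB1.tensorMod G P ≅ F) (s : Γ(P, ⊤))
    (x : Coh.HH X G 0) :
    h0Equiv F (mulH k θ s x) = θ.hom.app ⊤ (tm G P ⊤ (h0Equiv G x) s) := by
  have h1 : h0Equiv F (mulH k θ s x) = (mulSec G (secHom P s) ≫ θ.hom).app ⊤ (h0Equiv G x) :=
    hh0_nat _ x
  have h2 : (mulSec G (secHom P s) ≫ θ.hom).app ⊤ (h0Equiv G x) =
      θ.hom.app ⊤ ((mulSec G (secHom P s)).app ⊤ (h0Equiv G x)) := rfl
  rw [h1, h2, mulSec_app, sv_secHom, res_self]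

theorem h0Equiv_smul' (F : X.Modules) (a : k) (ξ : Coh.HH X F 0) :
    h0Equiv F (a • ξ) = cst k X a • h0Equiv F ξ := by
  have h1 : h0Equiv F (a • ξ) = h0Equiv F ((Coh.toGlobal (X ↘ Spec (CommRingCat.of k)) a) • ξ) := rfl
  rw [h1, h0Equiv_smul]
  rfl

theorem mulH_lin {G F P : X.Modules} (θ : CohB1.tensorMod G P ≅ F) (s₁ s₂ : Γ(P, ⊤)) (a b : k) :
    mulH k θ (cst k X a • s₁ + cst k X b • s₂) = a • mulH k θ s₁ + b • mulH k θ s₂ := by
  apply LinearMap.ext
  intro x
  apply (h0Equiv F).injective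
  rw [LinearMap.add_apply, LinearMap.smul_apply, LinearMap.smul_apply, map_add, h0Equiv_smul',
    h0Equiv_smul', h0Equiv_mulH, h0Equiv_mulH, h0Equiv_mulH, tm_add_right, tm_smul_right, tm_smul_right,
    map_add, Scheme.Modules.Hom.app_smul, Scheme.Modules.Hom.app_smul]

theorem mulH_injective {G F P : X.Modules} [G.IsQuasicoherent] (θ : CohB1.tensorMod G P ≅ F) (s : Γ(P, ⊤))
    (h : ∀ x, Curv2.IsAssPoint G x → x ∈ CohB1.genLocus P (secHom P s)) :
    Function.Injective (mulH k θ s) := by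
  apply HmapA_injective
  intro t t' htt'
  have h2 : ∀ t : Γ(G, ⊤), (mulSec G (secHom P s) ≫ θ.hom).app ⊤ t =
      θ.hom.app ⊤ ((mulSec G (secHom P s)).app ⊤ t) := fun _ => rfl
  rw [h2, h2] at htt'
  have hbij : Function.Bijective (θ.hom.app ⊤) := by
    haveI : IsIso (θ.hom.app ⊤) := Scheme.Modules.Hom.isIso_iff_isIso_app.1 inferInstance _
    exact ConcreteCategory.bijective_of_isIso _
  exact mulSec_app_injective G (secHom P s) h ⊤ (hbij.1 htt')

/-- **pencil argument**: if every nonzero member of a pencil of sections of `P` avoids the associated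
points of `G`, then `h⁰(G) < h⁰(G ⊗ P)` unless `H⁰(G) = 0` -/
theorem finrank_lt_of_pencil_sections [IsAlgClosed k] [IsProper (X ↘ Spec (CommRingCat.of k))]
    {G F P : X.Modules} (hG : Coh.IsCoh G) (hF : Coh.IsCoh F) (θ : CohB1.tensorMod G P ≅ F)
    (s₁ s₂ : Γ(P, ⊤))
    (h : ∀ a b : k, (a ≠ 0 ∨ b ≠ 0) → ∀ x, Curv2.IsAssPoint G x →
      x ∈ CohB1.genLocus P (secHom P (cst k X a • s₁ + cst k X b • s₂)))
    (hne : Nontrivial (Coh.HH X G 0)) :
    finrank k (Coh.HH X G 0) < finrank k (Coh.HH X F 0) := by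
  haveI : G.IsQuasicoherent := hG.1
  haveI : Module.Finite k (Coh.HH X G 0) := Groth.Agent.S0002.result k X G hG 0
  haveI : Module.Finite k (Coh.HH X F 0) := Groth.Agent.S0002.result k X F hF 0
  refine finrank_lt_of_pencil (mulH k θ s₁) (mulH k θ s₂) (fun a b hab => ?_)
  rw [← mulH_lin]
  exact mulH_injective k θ _ (h a b hab)

end Generic

section Pn

open Groth.Agent.Lib.Helper23.SecTw Groth.Agent.Lib.Helper27GrTildeSect Groth.Agent.Lib.Helper27PnSections
  Groth.Agent.Lib.R2H3.NegTwist Groth.Agent.Lib.R2H2.HHLin Groth.Agent.Lib.Helper6 MvPolynomial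

variable (N : ℕ) (k : Type u) [Field k]

local notation "Pg" => CohB1.polyGrading N k
local notation "PX" => CohB1.ProjSpace N k

/-- the global section of `O(1)` defined by a linear form -/
noncomputable def linSec (ℓ : Pg 1) : Γ(Twist.twistProjSpace N k 1, ⊤) :=
  gsec Pg 1 ⊤ ℓ.2

theorem mem_genLocus_linSec (ℓ : Pg 1) (x : ↥PX) :
    x ∈ CohB1.genLocus (Twist.twistProjSpace N k 1)
      (secHom (Twist.twistProjSpace N k 1) (linSec N k ℓ)) ↔
      (ℓ : MvPolynomial (Fin (N + 1)) k) ∉ (show ProjectiveSpectrum Pg from x).asHomogeneousIdeal := by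
  let fam : Option (Fin (N + 1)) → MvPolynomial (Fin (N + 1)) k := fun o =>
    match o with
    | none => (ℓ : MvPolynomial (Fin (N + 1)) k)
    | some i => X i
  have hfam : ∀ o, fam o ∈ Pg 1 := by
    intro o
    cases o with
    | none => exact ℓ.2
    | some i => exact isHomogeneous_X k i
  have hcov : ∀ y : Proj Pg, ∃ o, fam o ∉ (show ProjectiveSpectrum Pg from y).asHomogeneousIdeal := by
    intro y
    obtain ⟨i, hi⟩ := exists_X_not_mem N k y
    exact ⟨some i, hi⟩
  have h1 := genLocus_secHom_gsec Pg 1 fam hfam hcov none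
  have h2 : x ∈ CohB1.genLocus (GrTilde.tilde Pg Pg ((1 : ℕ) : ℤ))
      (secHom (GrTilde.tilde Pg Pg ((1 : ℕ) : ℤ)) (gsec Pg 1 ⊤ (hfam none))) ↔
      x ∈ Proj.basicOpen Pg (fam none) := by rw [h1]
  exact h2.trans (ProjectiveSpectrum.mem_basicOpen Pg (fam none) x)

theorem linSec_lin (ℓ₁ ℓ₂ : Pg 1) (a b : k) :
    linSec N k (a • ℓ₁ + b • ℓ₂) = cst k PX a • linSec N k ℓ₁ + cst k PX b • linSec N k ℓ₂ := by
  have h1 := gsec_add N k 1 (Submodule.smul_mem _ a ℓ₁.2) (Submodule.smul_mem _ b ℓ₂.2)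
  have h2 := gsec_smul N k 1 a ℓ₁.2
  have h3 := gsec_smul N k 1 b ℓ₂.2
  rw [h2, h3] at h1
  exact h1

end Pn

open Module

section Main

open Groth.Agent.Lib.Helper23.SecTw Groth.Agent.Lib.Helper27GrTildeSect Groth.Agent.Lib.Helper27PnSections
  Groth.Agent.Lib.R2H3.NegTwist Groth.Agent.Lib.R2H2.HHLin Groth.Agent.Lib.Helper6 MvPolynomial
  Groth.Agent.Lib.Helper23.AmpleIso

variable (N : ℕ) (k : Type u) [Field k]

local notation "Pg" => CohB1.polyGrading N k
local notation "PX" => CohB1.ProjSpace N k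

/-- `(F ⊗ O(-1)) ⊗ O(1) ≅ F` -/
theorem nonempty_untwist (F : (PX).Modules) (d : ℤ) :
    Nonempty (CohB1.tensorMod (CohB1.tensorMod F (Twist.twistProjSpace N k (d - 1)))
      (Twist.twistProjSpace N k 1) ≅ CohB1.tensorMod F (Twist.twistProjSpace N k d)) :=
  Groth.Agent.Lib.R2H2.PnMulSurj.nonempty_twist_assoc N k F (d - 1) 1 d (by ring)

theorem nonempty_twist_zero (F : (PX).Modules) :
    Nonempty (CohB1.tensorMod F (Twist.twistProjSpace N k 0) ≅ F) := by
  obtain ⟨z⟩ := Groth.Agent.Lib.R2Lead.KRR.nonempty_twistProjSpace_zero_iso N k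
  exact ⟨tensorModIso (Iso.refl F) z ≪≫ SecTwist.unitorR F⟩

/-- isomorphic modules have cohomology of the same rank -/
theorem finrank_HH_of_iso {Z : Scheme.{u}} [Z.Over (Spec (CommRingCat.of k))] {M M' : Z.Modules}
    (e : M ≅ M') (q : ℕ) :
    Module.finrank k (Coh.HH Z M q) = Module.finrank k (Coh.HH Z M' q) := by
  apply LinearEquiv.finrank_eq
  refine LinearEquiv.ofBijective (HmapA k e.hom q) ?_
  refine Function.bijective_iff_has_inverse.2 ⟨HmapA k e.inv q, fun x => ?_, fun x => ?_⟩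
  · rw [HmapA_apply, HmapA_apply, ← HmapL_comp, e.hom_inv_id, HmapL_id]
  · rw [HmapA_apply, HmapA_apply, ← HmapL_comp, e.inv_hom_id, HmapL_id]

/-- general step: `h⁰(G) + 1 ≤ h⁰(G ⊗ O(1))` or `h⁰(G) = 0`, if `G` is coherent without closed associated
points -/
theorem step [IsAlgClosed k] (G F : (PX).Modules) (hG : Coh.IsCoh G) (hF : Coh.IsCoh F)
    (θ : CohB1.tensorMod G (Twist.twistProjSpace N k 1) ≅ F)
    (hass : ∀ x : ↥PX, Curv2.IsAssPoint G x → ¬ IsClosed ({x} : Set ↥PX)) :
    finrank k (Coh.HH PX G 0) + 1 ≤ finrank k (Coh.HH PX F 0) ∨ finrank k (Coh.HH PX G 0) = 0 := by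
  haveI : IsProper ((PX) ↘ Spec (CommRingCat.of k)) :=
    Groth.Agent.S9705.isProper_projSpace_toSpec N k
  haveI hNoeth := Groth.Agent.Lib.R2H1.CurveEuler.isNoetherian_of_proper k PX
  by_cases hsub : Subsingleton (Coh.HH PX G 0)
  · right
    exact finrank_zero_of_subsingleton
  left
  rw [not_subsingleton_iff_nontrivial] at hsub
  have hfin : {x : ↥PX | Curv2.IsAssPoint G x}.Finite := finite_assPoints G hG
  haveI : Finite ↥{x : ↥PX | Curv2.IsAssPoint G x} := hfin.to_subtype
  let W : ↥{x : ↥PX | Curv2.IsAssPoint G x} → Submodule k (Pg 1) := fun x => linForms N k x.1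
  have hW : ∀ (i : ↥{x : ↥PX | Curv2.IsAssPoint G x}) (v : Pg 1),
      W i ⊔ Submodule.span k {v} ≠ ⊤ := by
    intro i v h
    exact hass i.1 i.2 (isClosed_singleton_of_sup_eq_top N k i.1 v h)
  obtain ⟨ℓ₁, ℓ₂, hℓ⟩ := exists_pencil W hW
  have key := finrank_lt_of_pencil_sections k hG hF θ (linSec N k ℓ₁) (linSec N k ℓ₂)
    (fun a b hab x hx => by
      rw [← linSec_lin, mem_genLocus_linSec]
      exact hℓ a b hab ⟨x, hx⟩) hsub
  omega

/-- the twists of a coherent module without closed associated points -/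
theorem twist_facts (F : (PX).Modules) (hF : Coh.IsCoh F)
    (hass : ∀ x : ↥PX, Curv2.IsAssPoint F x → ¬ IsClosed ({x} : Set ↥PX)) (d : ℤ) :
    Coh.IsCoh (CohB1.tensorMod F (Twist.twistProjSpace N k d)) ∧
      ∀ x : ↥PX, Curv2.IsAssPoint (CohB1.tensorMod F (Twist.twistProjSpace N k d)) x →
        ¬ IsClosed ({x} : Set ↥PX) := by
  haveI : IsProper ((PX) ↘ Spec (CommRingCat.of k)) :=
    Groth.Agent.S9705.isProper_projSpace_toSpec N k
  haveI hNoeth := Groth.Agent.Lib.R2H1.CurveEuler.isNoetherian_of_proper k PX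
  have hinv := Groth.Agent.Lib.R2Lead.KRR.isInvertible_twistProjSpace N k d
  have hG := Groth.Agent.Lib.R2H3.AmpleSV.isCoh_tensorMod_invertible F _ hF hinv
  refine ⟨hG, fun x hx => hass x ?_⟩
  haveI : F.IsQuasicoherent := hF.1
  haveI : (CohB1.tensorMod F (Twist.twistProjSpace N k d)).IsQuasicoherent := hG.1
  exact (isAssPoint_tensor_iff F _ hinv x).1 hx

theorem step_twist [IsAlgClosed k] (F : (PX).Modules) (hF : Coh.IsCoh F)
    (hass : ∀ x : ↥PX, Curv2.IsAssPoint F x → ¬ IsClosed ({x} : Set ↥PX)) (d : ℤ) :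
    finrank k (Coh.HH PX (CohB1.tensorMod F (Twist.twistProjSpace N k (d - 1))) 0) + 1 ≤
        finrank k (Coh.HH PX (CohB1.tensorMod F (Twist.twistProjSpace N k d)) 0) ∨
      finrank k (Coh.HH PX (CohB1.tensorMod F (Twist.twistProjSpace N k (d - 1))) 0) = 0 := by
  obtain ⟨θ⟩ := nonempty_untwist N k F d
  exact step N k _ _ (twist_facts N k F hF hass (d - 1)).1 (twist_facts N k F hF hass d).1 θ
    (twist_facts N k F hF hass (d - 1)).2

theorem s5638 [IsAlgClosed k] (F : (PX).Modules) (hF : Coh.IsCoh F)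
    (hass : ∀ x : ↥PX, Curv2.IsAssPoint F x → ¬ IsClosed ({x} : Set ↥PX))
    (h0 : 1 ≤ finrank k (Coh.HH PX F 0)) :
    finrank k (Coh.HH PX (CohB1.tensorMod F (Twist.twistProjSpace N k (-1))) 0) + 1 ≤
      finrank k (Coh.HH PX F 0) := by
  obtain ⟨z⟩ := nonempty_twist_zero N k F
  have h1 := finrank_HH_of_iso k z 0
  have h2 := step_twist N k F hF hass 0
  rw [h1, show (0 : ℤ) - 1 = -1 from rfl] at h2
  rcases h2 with h | h
  · exact h
  · rw [h]; exact h0

theorem s5639 [IsAlgClosed k] (F : (PX).Modules) (hF : Coh.IsCoh F)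
    (hass : ∀ x : ↥PX, Curv2.IsAssPoint F x → ¬ IsClosed ({x} : Set ↥PX))
    (n : ℕ) (hn : finrank k (Coh.HH PX F 0) ≤ n) :
    Subsingleton (Coh.HH PX (CohB1.tensorMod F (Twist.twistProjSpace N k (-(n : ℤ)))) 0) := by
  haveI : IsProper ((PX) ↘ Spec (CommRingCat.of k)) :=
    Groth.Agent.S9705.isProper_projSpace_toSpec N k
  obtain ⟨z⟩ := nonempty_twist_zero N k F
  have h1 := finrank_HH_of_iso k z 0
  have key : ∀ j : ℕ, finrank k (Coh.HH PX (CohB1.tensorMod F (Twist.twistProjSpace N k (-(j : ℤ)))) 0) + j ≤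
      finrank k (Coh.HH PX F 0) ∨
      finrank k (Coh.HH PX (CohB1.tensorMod F (Twist.twistProjSpace N k (-(j : ℤ)))) 0) = 0 := by
    intro j
    induction j with
    | zero =>
      left
      rw [Nat.cast_zero, neg_zero, h1, add_zero]
    | succ j ih =>
      have h2 := step_twist N k F hF hass (-(j : ℤ))
      rw [show -(j : ℤ) - 1 = -((j + 1 : ℕ) : ℤ) by push_cast; ring] at h2
      rcases h2 with h | h
      · rcases ih with ih | ih
        · left; omega
        · omega
      · right; exact h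
  have hfin : Module.Finite k (Coh.HH PX (CohB1.tensorMod F (Twist.twistProjSpace N k (-(n : ℤ)))) 0) :=
    Groth.Agent.S0002.result k PX _ (twist_facts N k F hF hass (-(n : ℤ))).1 0
  have hzero : finrank k (Coh.HH PX (CohB1.tensorMod F (Twist.twistProjSpace N k (-(n : ℤ)))) 0) = 0 := by
    rcases key n with h | h
    · omega
    · exact h
  exact Module.finrank_zero_iff.1 hzero

end Main

end Groth.Agent.Lib.R2H4PnDrop
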