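import Mathlib
import Groth.Prelude
import Groth.Agent.Lib.R2H2PnEuler
import Groth.Agent.Lib.R2H1EulerAdd

set_option autoImplicit false
set_option linter.style.haveILetI false
set_option linter.unusedSectionVars false
universe u
open CategoryTheory CategoryTheory.Limits AlgebraicGeometry TopologicalSpace Opposite

noncomputable section

namespace Groth.Agent.Lib.R2H4PnHyper

open Groth.Agent.Lib.R2H2.HHLin Groth.Agent.Lib.R2H1.EulerAdd

section LinAlg

variable {K : Type*} [Field K] {V1 V2 V3 V4 V5 : Type*}
  [AddCommGroup V1] [AddCommGroup V2] [AddCommGroup V3] [AddCommGroup V4] [AddCommGroup V5]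
  [Module K V1] [Module K V2] [Module K V3] [Module K V4] [Module K V5]
  [Module.Finite K V1] [Module.Finite K V2] [Module.Finite K V3] [Module.Finite K V4]
  [Module.Finite K V5]

/-- dimension count in a five term exact sequence `0 → V1 → V2 → V3 → V4 → V5 → 0` -/
theorem finrank_five (f : V1 →ₗ[K] V2) (g : V2 →ₗ[K] V3) (h : V3 →ₗ[K] V4) (i : V4 →ₗ[K] V5)
    (hf : Function.Injective f) (hfg : Function.Exact f g) (hgh : Function.Exact g h)
    (hhi : Function.Exact h i) (hi : Function.Surjective i) :
    Module.finrank K V1 ≤ Module.finrank K V2 ∧ Module.finrank K V5 ≤ Module.finrank K V4 ∧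
      Module.finrank K V3 + Module.finrank K V1 + Module.finrank K V5 =
        Module.finrank K V2 + Module.finrank K V4 := by
  have e1 := LinearMap.finrank_range_add_finrank_ker f
  have e2 := LinearMap.finrank_range_add_finrank_ker g
  have e3 := LinearMap.finrank_range_add_finrank_ker h
  have e4 := LinearMap.finrank_range_add_finrank_ker i
  have k1 : LinearMap.ker f = ⊥ := LinearMap.ker_eq_bot.2 hf
  have k2 : LinearMap.ker g = LinearMap.range f := (LinearMap.exact_iff.1 hfg)
  have k3 : LinearMap.ker h = LinearMap.range g := (LinearMap.exact_iff.1 hgh)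
  have k4 : LinearMap.ker i = LinearMap.range h := (LinearMap.exact_iff.1 hhi)
  have k5 : LinearMap.range i = ⊤ := LinearMap.range_eq_top.2 hi
  rw [k1, finrank_bot] at e1
  rw [k2] at e2
  rw [k3] at e3
  rw [k4, k5, finrank_top] at e4
  refine ⟨?_, ?_, ?_⟩ <;> omega

end LinAlg

end Groth.Agent.Lib.R2H4PnHyper
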