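import Mathlib
import Groth.Prelude
import Groth.Agent.Lib.R2H4PnHyperA
import Groth.Agent.Lib.R2H2PnDualQCoh
import Groth.Agent.Lib.R2H1DegCartier
import Groth.Agent.Lib.R2LeadTensorExact
import Groth.Agent.Lib.R2LeadKRR
import Groth.Agent.Lib.R2H1InvHom
import Groth.Agent.Lib.R2H1PLineA
import Groth.Agent.Lib.R2H4TensorPows
import Groth.Agent.Lib.R2H4Quo
import Groth.Agent.S0002
import Groth.Agent.S9705

set_option autoImplicit false
set_option linter.style.haveILetI false
set_option linter.unusedSectionVars false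
universe u
open CategoryTheory CategoryTheory.Limits AlgebraicGeometry TopologicalSpace Opposite

noncomputable section

namespace Groth.Agent.Lib.R2H4PnHyper

open Groth.Agent.Lib.R2H2.HHLin Groth.Agent.Lib.R2H1.EulerAdd Groth.Agent.Lib.R2H2.PnEuler
  Groth.Agent.Lib.R2H4TensorPows Groth.Agent.Lib.R2H1.DegCartier

section Twists

variable (K : Type u) [Field K] (r : ℕ)

local notation "PX" => CohB1.ProjSpace r K

theorem h_zero (hr : 0 < r) (m : ℤ) :
    Module.finrank K (Coh.HH PX (Twist.twistProjSpace r K m) 0) =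
      Nat.choose (m + (r : ℤ)).toNat r := by
  rcases le_or_gt 0 m with h0 | h0
  · obtain ⟨d, rfl⟩ := Int.eq_ofNat_of_zero_le h0
    rw [finrank_HH_nonneg K r d]
    congr 1
  · rw [finrank_HH_zero K r m 0 (fun h => absurd h.2 (not_le.2 h0)) (fun h => by omega)]
    symm
    apply Nat.choose_eq_zero_of_lt
    omega

theorem h_top (hr : 0 < r) (m : ℤ) :
    Module.finrank K (Coh.HH PX (Twist.twistProjSpace r K m) r) =
      Nat.choose (-m - 1).toNat r := by
  rcases le_or_gt m (-((r : ℤ) + 1)) with h0 | h0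
  · obtain ⟨j, hj⟩ := Int.eq_ofNat_of_zero_le (show 0 ≤ -m - (r : ℤ) - 1 by omega)
    have hm : m = -((r : ℤ) + 1 + j) := by omega
    subst hm
    rw [finrank_HH_top K r j]
    congr 1
    omega
  · rw [finrank_HH_zero K r m r (fun h => by omega) (fun h => absurd h.2 (not_le.2 h0))]
    symm
    apply Nat.choose_eq_zero_of_lt
    omega

theorem h_mid (m : ℤ) (j : ℕ) (hj0 : j ≠ 0) (hjr : j ≠ r) :
    Subsingleton (Coh.HH PX (Twist.twistProjSpace r K m) j) :=
  Groth.Agent.Lib.R2H2.PnCoh.subsingleton_HH_tilde K r m j (fun h => hj0 h.1) (fun h => hjr h.1)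

end Twists

end Groth.Agent.Lib.R2H4PnHyper
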