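import Mathlib
import Groth.Prelude
import Groth.Agent.Lib.R2H4PnHyperB

set_option autoImplicit false
set_option linter.style.haveILetI false
set_option linter.unusedSectionVars false
universe u
open CategoryTheory CategoryTheory.Limits AlgebraicGeometry TopologicalSpace Opposite

noncomputable section

namespace Groth.Agent.Lib.R2H4PnHyper

open Groth.Agent.Lib.R2H2.HHLin Groth.Agent.Lib.R2H1.EulerAdd Groth.Agent.Lib.R2H2.PnEuler
  Groth.Agent.Lib.R2H4TensorPows Groth.Agent.Lib.R2H1.DegCartier Module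

section LES

variable (K : Type u) [Field K] {X : Scheme.{u}} [X.Over (Spec (CommRingCat.of K))]
  [IsProper (X ↘ Spec (CommRingCat.of K))]
  (S : ShortComplex X.Modules) (hS : S.ShortExact)

include hS in
theorem les_count (c₁ : Coh.IsCoh S.X₁) (c₂ : Coh.IsCoh S.X₂) (c₃ : Coh.IsCoh S.X₃) (j : ℕ)
    (hinj : Function.Injective (HmapA K S.f j))
    (hsurj : Function.Surjective (HmapA K S.f (j + 1))) :
    finrank K (Coh.HH X S.X₁ j) ≤ finrank K (Coh.HH X S.X₂ j) ∧
      finrank K (Coh.HH X S.X₂ (j + 1)) ≤ finrank K (Coh.HH X S.X₁ (j + 1)) ∧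
      finrank K (Coh.HH X S.X₃ j) + finrank K (Coh.HH X S.X₁ j) +
          finrank K (Coh.HH X S.X₂ (j + 1)) =
        finrank K (Coh.HH X S.X₂ j) + finrank K (Coh.HH X S.X₁ (j + 1)) := by
  haveI := Groth.Agent.S0002.result K X S.X₁ c₁ j
  haveI := Groth.Agent.S0002.result K X S.X₂ c₂ j
  haveI := Groth.Agent.S0002.result K X S.X₃ c₃ j
  haveI := Groth.Agent.S0002.result K X S.X₁ c₁ (j + 1)
  haveI := Groth.Agent.S0002.result K X S.X₂ c₂ (j + 1)
  exact finrank_five (HmapA K S.f j) (HmapA K S.g j) (deltaA K S hS j) (HmapA K S.f (j + 1))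
    hinj (exact_fg K S hS j) (exact_gd K S hS j) (exact_df K S hS j) hsurj

include K hS in
theorem sub_mid (p : ℕ) (h2 : Subsingleton (Coh.HH X S.X₂ p))
    (h1 : Subsingleton (Coh.HH X S.X₁ (p + 1))) : Subsingleton (Coh.HH X S.X₃ p) := by
  have h0 : ∀ y : Coh.HH X S.X₃ p, y = 0 := fun y => by
    have hy : deltaA K S hS p y = 0 := Subsingleton.elim _ _
    obtain ⟨x, hx⟩ := (exact_gd K S hS p y).1 hy
    rw [← hx, Subsingleton.elim x 0, map_zero]
  exact ⟨fun a b => by rw [h0 a, h0 b]⟩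

include hS in
theorem surj_of_sub (q : ℕ) (h3 : Subsingleton (Coh.HH X S.X₃ q)) :
    Function.Surjective (HmapA K S.f q) := by
  intro y
  exact (exact_fg K S hS q y).1 (Subsingleton.elim _ _)

theorem inj_of_sub {M N : X.Modules} (φ : M ⟶ N) (q : ℕ) (h : Subsingleton (Coh.HH X M q)) :
    Function.Injective (HmapA K φ q) := fun a b _ => Subsingleton.elim a b

theorem surj_of_sub' {M N : X.Modules} (φ : M ⟶ N) (q : ℕ) (h : Subsingleton (Coh.HH X N q)) :
    Function.Surjective (HmapA K φ q) := fun _ => ⟨0, Subsingleton.elim _ _⟩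

end LES

end Groth.Agent.Lib.R2H4PnHyper
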