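import Mathlib
import Groth.Prelude
import Groth.Agent.Lib.R2H4PnHyperC
import Groth.Agent.Lib.R2H1TFDeg

set_option autoImplicit false
set_option linter.style.haveILetI false
set_option linter.unusedSectionVars false
universe u
open CategoryTheory CategoryTheory.Limits AlgebraicGeometry TopologicalSpace Opposite

noncomputable section

namespace Groth.Agent.Lib.R2H4PnHyper

open Groth.Agent.Lib.R2H2.HHLin Groth.Agent.Lib.R2H1.EulerAdd Groth.Agent.Lib.R2H2.PnEuler
  Groth.Agent.Lib.R2H4TensorPows Groth.Agent.Lib.R2H1.DegCartier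
  Groth.Agent.Lib.R2H2.DualRep

section Hyper

variable (K : Type u) [Field K] (r : ℕ)

local notation "PX" => CohB1.ProjSpace r K

/-- the ideal sequence twisted by `O(n)` -/
def SS (J : (PX).IdealSheafData) (n : ℤ) : ShortComplex (PX).Modules :=
  (idealSeq J).map (DCoh.tensorBi.obj (Twist.twistProjSpace r K n))

theorem SS_shortExact (J : (PX).IdealSheafData) (n : ℤ) : (SS K r J n).ShortExact :=
  Groth.Agent.Lib.R2Lead.TensorExact.shortExact_map_tensorBi_of_isInvertible _
    (Groth.Agent.Lib.R2Lead.KRR.isInvertible_twistProjSpace r K n) _ (idealSeq_shortExact J)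

/-- middle term -/
def e₂ (J : (PX).IdealSheafData) (n : ℤ) : (SS K r J n).X₂ ≅ Twist.twistProjSpace r K n :=
  rUnit (Twist.twistProjSpace r K n)

/-- right term -/
def e₃ (J : (PX).IdealSheafData) (n : ℤ) :
    (SS K r J n).X₃ ≅ CohB1.tensorMod (ClSub.quotMod J) (Twist.twistProjSpace r K n) :=
  tComm _ _

theorem nonempty_e₁ (J : (PX).IdealSheafData) (n : ℤ) {k : ℕ}
    (e : ClSub.idealMod J ≅ Twist.twistProjSpace r K (-(k : ℤ))) :
    Nonempty ((SS K r J n).X₁ ≅ Twist.twistProjSpace r K (n + -(k : ℤ))) := by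
  obtain ⟨e'⟩ := Groth.Agent.Lib.R2Lead.KRR.nonempty_twistProjSpace_tensor_iso r K n (-(k : ℤ))
  exact ⟨tIso (Iso.refl _) e ≪≫ e'⟩

end Hyper

end Groth.Agent.Lib.R2H4PnHyper
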