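import Mathlib
import Groth.Prelude
import Groth.Agent.Lib.R2H4PnHyperD
import Groth.Agent.Lib.Helper23AmpleIso

set_option autoImplicit false
set_option linter.style.haveILetI false
set_option linter.unusedSectionVars false
universe u
open CategoryTheory CategoryTheory.Limits AlgebraicGeometry TopologicalSpace Opposite

noncomputable section

namespace Groth.Agent.Lib.R2H4PnHyper

open Groth.Agent.Lib.R2H2.HHLin Groth.Agent.Lib.R2H1.EulerAdd Groth.Agent.Lib.R2H2.PnEuler
  Groth.Agent.Lib.R2H4TensorPows Groth.Agent.Lib.R2H1.DegCartier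
  Groth.Agent.Lib.R2H2.DualRep

section Hyper

variable (K : Type u) [Field K] (r : ℕ)

local notation "PX" => CohB1.ProjSpace r K

theorem not_isZero_twist (hr : 0 < r) (m : ℤ) : ¬ IsZero (Twist.twistProjSpace r K m) := by
  intro h
  have h1 : IsZero ((DCoh.tensorBi.obj (Twist.twistProjSpace r K (-m))).obj
      (Twist.twistProjSpace r K m)) := Functor.map_isZero _ h
  obtain ⟨e'⟩ := Groth.Agent.Lib.R2Lead.KRR.nonempty_twistProjSpace_tensor_iso r K (-m) m
  have h2 : IsZero (Twist.twistProjSpace r K (-m + m)) := h1.of_iso e'.symm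
  haveI : IsProper ((PX) ↘ Spec (CommRingCat.of K)) :=
    Groth.Agent.S9705.isProper_projSpace_toSpec r K
  haveI h3 := Groth.Agent.Lib.R2H1.TFDeg.subsingleton_HH_of_isZero (PX) _ h2 0
  have h4 := h_zero K r hr (-m + m)
  rw [Module.finrank_zero_of_subsingleton] at h4
  have h5 : (-m + m + (r : ℤ)).toNat = r := by omega
  rw [h5, Nat.choose_self] at h4
  exact absurd h4 (by norm_num)

theorem top_vanish (hr : 0 < r) (J : (PX).IdealSheafData) (n : ℤ) {k : ℕ}
    (e : ClSub.idealMod J ≅ Twist.twistProjSpace r K (-(k : ℤ))) :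
    Subsingleton (Coh.HH PX (SS K r J n).X₃ r) := by
  haveI : IsIntegral (PX) := Groth.Agent.Lib.R2H1.PLineA.isIntegral_projSpace r K
  haveI : IsProper ((PX) ↘ Spec (CommRingCat.of K)) :=
    Groth.Agent.S9705.isProper_projSpace_toSpec r K
  haveI := Groth.Agent.Lib.R2H1.CurveEuler.isNoetherian_of_proper K (PX)
  have hS := SS_shortExact K r J n
  obtain ⟨e1⟩ := nonempty_e₁ K r J n e
  obtain ⟨t, ht⟩ := Groth.Agent.Lib.R2H2.PnDualQCoh.main K r
  have hinv : ∀ m, PicF.IsInvertible (Twist.twistProjSpace r K m) :=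
    Groth.Agent.Lib.R2Lead.KRR.isInvertible_twistProjSpace r K
  have c3 : Coh.IsCoh (SS K r J n).X₃ :=
    Groth.Agent.Lib.R2H2.PdSheaf.isCoh_of_iso (e₃ K r J n).symm
      (Groth.Agent.Lib.R2H4SSDescent.isCoh_tensorMod _ _
        (Groth.Agent.Lib.R2H4Quo.isCoh_quotMod J)
        (Groth.Agent.Lib.R2H4SSDescent.isCoh_of_isInvertible _ (hinv n)))
  have hrep := ht (SS K r J n).X₃ c3.1
  have hφ : ∀ φ : (SS K r J n).X₃ ⟶ Twist.twistProjSpace r K (-((r : ℤ) + 1)), φ = 0 := by
    intro φ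
    have hg : (SS K r J n).g ≫ φ = 0 := by
      by_contra hne
      haveI : Mono ((SS K r J n).g ≫ φ) :=
        Groth.Agent.Lib.R2H1.InvHom.mono_of_ne_zero
          (Groth.Agent.Lib.Helper23.AmpleIso.isInvertible_of_iso (e₂ K r J n).symm (hinv n))
          (hinv _) _ hne
      have hf0 : (SS K r J n).f = 0 := by
        rw [← cancel_mono ((SS K r J n).g ≫ φ), zero_comp, ← Category.assoc, (SS K r J n).zero,
          zero_comp]
      haveI := hS.mono_f
      have hz : IsZero (SS K r J n).X₁ := IsZero.of_mono_eq_zero (SS K r J n).f hf0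
      exact not_isZero_twist K r hr _ (hz.of_iso e1.symm)
    haveI := hS.epi_g
    exact (cancel_epi (SS K r J n).g).1 (hg.trans comp_zero.symm)
  have hψ : ∀ (ψ : Coh.HH PX (SS K r J n).X₃ r →ₗ[K] K) (x : Coh.HH PX (SS K r J n).X₃ r),
      ψ x = 0 := by
    intro ψ x
    obtain ⟨φ, hφ1, -⟩ := hrep ψ
    rw [hφ1 x, hφ φ]
    have h0 : Sheaf.H.map ((SheafOfModules.toSheaf (PX).ringCatSheaf).map
        (0 : (SS K r J n).X₃ ⟶ Twist.twistProjSpace r K (-((r : ℤ) + 1)))) r x = 0 :=
      HmapL_zero r x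
    rw [h0, map_zero]
  refine ⟨fun a b => ?_⟩
  have h := (Module.forall_dual_apply_eq_zero_iff K (a - b)).1 (fun ψ => hψ ψ (a - b))
  exact sub_eq_zero.1 h

end Hyper

end Groth.Agent.Lib.R2H4PnHyper
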