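import Mathlib
import Groth.Prelude
import Groth.Agent.Lib.R2H4PnHyperE

set_option autoImplicit false
set_option linter.style.haveILetI false
set_option linter.unusedSectionVars false
universe u
open CategoryTheory CategoryTheory.Limits AlgebraicGeometry TopologicalSpace Opposite

noncomputable section

namespace Groth.Agent.Lib.R2H4PnHyper

open Groth.Agent.Lib.R2H2.HHLin Groth.Agent.Lib.R2H1.EulerAdd Groth.Agent.Lib.R2H2.PnEuler
  Groth.Agent.Lib.R2H4TensorPows Groth.Agent.Lib.R2H1.DegCartier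
  Groth.Agent.Lib.R2H2.DualRep

section Iso

variable (A : Type u) [CommRing A] {Z : Scheme.{u}} [Z.Over (Spec (CommRingCat.of A))]

theorem finrank_iso {M N : Z.Modules} (e : M ≅ N) (q : ℕ) :
    Module.finrank A (Coh.HH Z M q) = Module.finrank A (Coh.HH Z N q) := by
  apply LinearEquiv.finrank_eq
  refine LinearEquiv.ofBijective (HmapA A e.hom q) ?_
  refine Function.bijective_iff_has_inverse.2 ⟨HmapA A e.inv q, fun x => ?_, fun x => ?_⟩
  · rw [HmapA_apply, HmapA_apply, ← HmapL_comp, e.hom_inv_id, HmapL_id]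
  · rw [HmapA_apply, HmapA_apply, ← HmapL_comp, e.inv_hom_id, HmapL_id]

theorem sub_iso {M N : Z.Modules} (e : M ≅ N) (q : ℕ) (h : Subsingleton (Coh.HH Z M q)) :
    Subsingleton (Coh.HH Z N q) := by
  refine ⟨fun a b => ?_⟩
  have h1 : ∀ x : Coh.HH Z N q, HmapL e.hom q (HmapL e.inv q x) = x := fun x => by
    rw [← HmapL_comp, e.inv_hom_id, HmapL_id]
  rw [← h1 a, ← h1 b, Subsingleton.elim (HmapL e.inv q a) (HmapL e.inv q b)]

end Iso

section Hyper

variable (K : Type u) [Field K] (r : ℕ)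

local notation "PX" => CohB1.ProjSpace r K

/-- vanishing in the middle range and above the top -/
theorem vanish_mid (hr : 0 < r) (J : (PX).IdealSheafData) (n : ℤ) {k : ℕ}
    (e : ClSub.idealMod J ≅ Twist.twistProjSpace r K (-(k : ℤ))) (p : ℕ) (hp0 : p ≠ 0)
    (hp1 : p + 1 ≠ r) :
    Subsingleton (Coh.HH PX (CohB1.tensorMod (ClSub.quotMod J) (Twist.twistProjSpace r K n)) p) := by
  haveI : IsProper ((PX) ↘ Spec (CommRingCat.of K)) :=
    Groth.Agent.S9705.isProper_projSpace_toSpec r K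
  refine sub_iso (e₃ K r J n) p ?_
  by_cases hpr : p = r
  · subst hpr
    exact top_vanish K p hr J n e
  · obtain ⟨e1⟩ := nonempty_e₁ K r J n e
    refine sub_mid K _ (SS_shortExact K r J n) p ?_ ?_
    · exact sub_iso (e₂ K r J n).symm p (h_mid K r n p hp0 hpr)
    · exact sub_iso e1.symm (p + 1) (h_mid K r _ (p + 1) (Nat.succ_ne_zero p) hp1)

theorem isCoh_parts (J : (PX).IdealSheafData) (n : ℤ) {k : ℕ}
    (e : ClSub.idealMod J ≅ Twist.twistProjSpace r K (-(k : ℤ))) :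
    Coh.IsCoh (SS K r J n).X₁ ∧ Coh.IsCoh (SS K r J n).X₂ ∧ Coh.IsCoh (SS K r J n).X₃ ∧
      Coh.IsCoh (CohB1.tensorMod (ClSub.quotMod J) (Twist.twistProjSpace r K n)) := by
  haveI : IsProper ((PX) ↘ Spec (CommRingCat.of K)) :=
    Groth.Agent.S9705.isProper_projSpace_toSpec r K
  haveI := Groth.Agent.Lib.R2H1.CurveEuler.isNoetherian_of_proper K (PX)
  have hinv : ∀ m, PicF.IsInvertible (Twist.twistProjSpace r K m) :=
    Groth.Agent.Lib.R2Lead.KRR.isInvertible_twistProjSpace r K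
  have cO : ∀ m, Coh.IsCoh (Twist.twistProjSpace r K m) := fun m =>
    Groth.Agent.Lib.R2H4SSDescent.isCoh_of_isInvertible _ (hinv m)
  obtain ⟨e1⟩ := nonempty_e₁ K r J n e
  have cM : Coh.IsCoh (CohB1.tensorMod (ClSub.quotMod J) (Twist.twistProjSpace r K n)) :=
    Groth.Agent.Lib.R2H4SSDescent.isCoh_tensorMod _ _
      (Groth.Agent.Lib.R2H4Quo.isCoh_quotMod J) (cO n)
  exact ⟨Groth.Agent.Lib.R2H2.PdSheaf.isCoh_of_iso e1.symm (cO _),
    Groth.Agent.Lib.R2H2.PdSheaf.isCoh_of_iso (e₂ K r J n).symm (cO n),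
    Groth.Agent.Lib.R2H2.PdSheaf.isCoh_of_iso (e₃ K r J n).symm cM, cM⟩

/-- `H⁰` for `r ≥ 2` -/
theorem h0_hyper (hr : 2 ≤ r) (J : (PX).IdealSheafData) (n : ℤ) {k : ℕ}
    (e : ClSub.idealMod J ≅ Twist.twistProjSpace r K (-(k : ℤ))) :
    Module.finrank K (Coh.HH PX
        (CohB1.tensorMod (ClSub.quotMod J) (Twist.twistProjSpace r K n)) 0) =
      Nat.choose (n + (r : ℤ)).toNat r - Nat.choose (n + -(k : ℤ) + (r : ℤ)).toNat r := by
  haveI : IsProper ((PX) ↘ Spec (CommRingCat.of K)) :=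
    Groth.Agent.S9705.isProper_projSpace_toSpec r K
  obtain ⟨c1, c2, c3, -⟩ := isCoh_parts K r J n e
  obtain ⟨e1⟩ := nonempty_e₁ K r J n e
  have hS := SS_shortExact K r J n
  have h12 : Subsingleton (Coh.HH PX (SS K r J n).X₂ 1) :=
    sub_iso (e₂ K r J n).symm 1 (h_mid K r n 1 one_ne_zero (by omega))
  have h11 : Subsingleton (Coh.HH PX (SS K r J n).X₁ 1) :=
    sub_iso e1.symm 1 (h_mid K r _ 1 one_ne_zero (by omega))
  obtain ⟨hle, -, hcount⟩ := les_count K (SS K r J n) hS c1 c2 c3 0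
    (injective_f_zero K _ hS) (surj_of_sub' K _ 1 h12)
  rw [Module.finrank_zero_of_subsingleton (M := Coh.HH PX (SS K r J n).X₂ (0 + 1)),
    Module.finrank_zero_of_subsingleton (M := Coh.HH PX (SS K r J n).X₁ (0 + 1)),
    finrank_iso K (e₃ K r J n) 0, finrank_iso K e1 0, finrank_iso K (e₂ K r J n) 0,
    h_zero K r (by omega), h_zero K r (by omega)] at hcount
  rw [finrank_iso K e1 0, finrank_iso K (e₂ K r J n) 0,
    h_zero K r (by omega), h_zero K r (by omega)] at hle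
  omega

/-- `H^{r-1}` for `r ≥ 2` -/
theorem hd_hyper (d : ℕ) (hd : 1 ≤ d) (hr : r = d + 1) (J : (PX).IdealSheafData) (n : ℤ) {k : ℕ}
    (e : ClSub.idealMod J ≅ Twist.twistProjSpace r K (-(k : ℤ))) :
    Module.finrank K (Coh.HH PX
        (CohB1.tensorMod (ClSub.quotMod J) (Twist.twistProjSpace r K n)) d) =
      Nat.choose (-(n + -(k : ℤ)) - 1).toNat r - Nat.choose (-n - 1).toNat r := by
  haveI : IsProper ((PX) ↘ Spec (CommRingCat.of K)) :=
    Groth.Agent.S9705.isProper_projSpace_toSpec r K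
  obtain ⟨c1, c2, c3, -⟩ := isCoh_parts K r J n e
  obtain ⟨e1⟩ := nonempty_e₁ K r J n e
  have hS := SS_shortExact K r J n
  have hd0 : d ≠ 0 := by omega
  have hdr : d ≠ r := by omega
  have h1d : Subsingleton (Coh.HH PX (SS K r J n).X₁ d) :=
    sub_iso e1.symm d (h_mid K r _ d hd0 hdr)
  have h2d : Subsingleton (Coh.HH PX (SS K r J n).X₂ d) :=
    sub_iso (e₂ K r J n).symm d (h_mid K r n d hd0 hdr)
  have h3r : Subsingleton (Coh.HH PX (SS K r J n).X₃ (d + 1)) := by
    rw [← hr]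
    exact top_vanish K r (by omega) J n e
  obtain ⟨-, hle, hcount⟩ := les_count K (SS K r J n) hS c1 c2 c3 d
    (inj_of_sub K _ d h1d) (surj_of_sub K _ hS (d + 1) h3r)
  rw [Module.finrank_zero_of_subsingleton (M := Coh.HH PX (SS K r J n).X₁ d),
    Module.finrank_zero_of_subsingleton (M := Coh.HH PX (SS K r J n).X₂ d),
    finrank_iso K (e₃ K r J n) d, finrank_iso K e1 (d + 1), finrank_iso K (e₂ K r J n) (d + 1),
    ← hr, h_top K r (by omega), h_top K r (by omega)] at hcount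
  rw [finrank_iso K e1 (d + 1), finrank_iso K (e₂ K r J n) (d + 1),
    ← hr, h_top K r (by omega), h_top K r (by omega)] at hle
  omega

end Hyper

end Groth.Agent.Lib.R2H4PnHyper
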