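import Mathlib
import Groth.Prelude
import Groth.Agent.Lib.R2H4PnHyperF

set_option autoImplicit false
set_option linter.style.haveILetI false
set_option linter.unusedSectionVars false
universe u
open CategoryTheory CategoryTheory.Limits AlgebraicGeometry TopologicalSpace Opposite

noncomputable section

namespace Groth.Agent.Lib.R2H4PnHyper

open Groth.Agent.Lib.R2H2.HHLin Groth.Agent.Lib.R2H1.EulerAdd Groth.Agent.Lib.R2H2.PnEuler
  Groth.Agent.Lib.R2H4TensorPows Groth.Agent.Lib.R2H1.DegCartier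
  Groth.Agent.Lib.R2H2.DualRep

section Line

variable (K : Type u) [Field K]

local notation "PX" => CohB1.ProjSpace 1 K

/-- `H⁰` on the projective line -/
theorem h0_line (J : (PX).IdealSheafData) (n : ℤ) {k : ℕ}
    (e : ClSub.idealMod J ≅ Twist.twistProjSpace 1 K (-(k : ℤ))) :
    Module.finrank K (Coh.HH PX
        (CohB1.tensorMod (ClSub.quotMod J) (Twist.twistProjSpace 1 K n)) 0) =
      (Nat.choose (n + ((1 : ℕ) : ℤ)).toNat 1 -
          Nat.choose (n + -(k : ℤ) + ((1 : ℕ) : ℤ)).toNat 1) +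
        (Nat.choose (-(n + -(k : ℤ)) - 1).toNat 1 - Nat.choose (-n - 1).toNat 1) := by
  haveI : IsProper ((PX) ↘ Spec (CommRingCat.of K)) :=
    Groth.Agent.S9705.isProper_projSpace_toSpec 1 K
  obtain ⟨c1, c2, c3, -⟩ := isCoh_parts K 1 J n e
  obtain ⟨e1⟩ := nonempty_e₁ K 1 J n e
  have hS := SS_shortExact K 1 J n
  have h3r : Subsingleton (Coh.HH PX (SS K 1 J n).X₃ (0 + 1)) :=
    top_vanish K 1 one_pos J n e
  obtain ⟨hle1, hle2, hcount⟩ := les_count K (SS K 1 J n) hS c1 c2 c3 0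
    (injective_f_zero K _ hS) (surj_of_sub K _ hS (0 + 1) h3r)
  rw [finrank_iso K (e₃ K 1 J n) 0, finrank_iso K e1 0, finrank_iso K (e₂ K 1 J n) 0,
    finrank_iso K e1 (0 + 1), finrank_iso K (e₂ K 1 J n) (0 + 1),
    h_zero K 1 one_pos, h_zero K 1 one_pos, h_top K 1 one_pos, h_top K 1 one_pos] at hcount
  rw [finrank_iso K e1 0, finrank_iso K (e₂ K 1 J n) 0,
    h_zero K 1 one_pos, h_zero K 1 one_pos] at hle1
  rw [finrank_iso K e1 (0 + 1), finrank_iso K (e₂ K 1 J n) (0 + 1),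
    h_top K 1 one_pos, h_top K 1 one_pos] at hle2
  omega

end Line

end Groth.Agent.Lib.R2H4PnHyper
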