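import Mathlib
import Groth.Agent.Lib.R2H1CurveAffProj
import Groth.Agent.Lib.R2H1ZeroSchemeMul
import Groth.Agent.Lib.Helper27ClosedProj
import Groth.Agent.Lib.R2LeadKRR
import Groth.Agent.Lib.R2H1PLineA
import Groth.Agent.Lib.R2H4TensorPows
import Groth.Agent.S19434
import Groth.Agent.Lib.R2H2ClosedPnLin
import Groth.Agent.Lib.R2H4PnDrop
import Groth.Agent.Lib.H9SteinH0
import Groth.Agent.Lib.Helper21GammaZNat0
import Groth.Agent.Lib.R2H2PnEuler
set_option backward.isDefEq.respectTransparency.types false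

/-!
# The ideal sheaf of a hypersurface V_+(G) in P^r_k is O(-d) (helper1, round 2)

* nonempty_iso_tensor_idealMod : on an integral scheme, if a nonzero section s of an invertible L is locally a • t with t a generator of L and a a generator of I, then O ≅ L ⊗ I.
* sG G : the section G/1 of O(d) as a morphism O ⟶ O(d); sv_sG_chart : on the chart D_+(T_i) it is (G/T_i^d) • (T_i^d/1).
* hypI_eq_JG : LefPen.hypIdeal G is the zero scheme of the section G/1 of O(d); hypI_ideal_chart : its ideal on D_+(T_i) is generated by G/T_i^d.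
* nonempty_idealMod_hypIdeal_iso : for G ≠ 0 of degree d, idealMod (hypIdeal G) ≅ O(-d).
* hhEquivOfIso, bijective_algebraMap_of_h0, bijective_appTop_of_h0, connectedSpace_of_h0 : consequences of h^0(O_X) = 1.
* hyp_cohomology : cohomology of the structure sheaf of a hypersurface of degree d ≥ 1 in P^{n+1}, n ≥ 1 (via S19434).
* hypIdeal_zero : hypIdeal 0 = ⊥; isIso_unitToPush; proj_cohomology : cohomology of O on P^N seen as the closed subscheme of the zero ideal.
-/

set_option autoImplicit false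
set_option linter.style.haveILetI false
set_option linter.unusedSectionVars false
universe u v

open CategoryTheory CategoryTheory.Limits AlgebraicGeometry TopologicalSpace Opposite

namespace Groth.Agent.Lib.R2H1.HypIdeal

section Part1

open Groth.Agent.Lib.Helper23.SecTw Groth.Agent.Lib.Helper23.GenLocus
open Groth.Agent.Lib.R2H1.DegCartier
open Groth.Agent.Lib.Helper23.Extend Groth.Agent.Lib.Helper23.IdealSec Groth.Agent.Lib.Helper6

variable {X : Scheme.{u}}

/-- if a nonzero section `s` of an invertible module `L` on an integral scheme is locally `a • t`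
with `t` a generator of `L` and `a` a generator of the ideal `I`, then `L ⊗ I ≅ O_X` -/
theorem nonempty_iso_tensor_idealMod [IsIntegral X] (L : X.Modules) (hL : PicF.IsInvertible L)
    (s : Coh.structureModule X ⟶ L) (hs : s ≠ 0) (I : X.IdealSheafData)
    (hloc : ∀ x : X, ∃ (U : X.affineOpens) (t : Γ(L, U.1)) (a : Γ(X, U.1)), x ∈ U.1 ∧
      IsGen L U.1 t ∧ sv s U.1 = a • t ∧ I.ideal U = Ideal.span {a}) :
    Nonempty (Coh.structureModule X ≅ CohB1.tensorMod L (ClSub.idealMod I)) := by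
  have hL1 : FlatMod.IsFinLocFreeOfRank 1 L :=
    Groth.Agent.Lib.Helper23.SecTw.isFinLocFreeOfRank_one_of_isInvertible L hL
  have hLf : FlatMod.IsFinLocFree L := fun y => by
    obtain ⟨V, hy, e⟩ := hL1 y
    exact ⟨V, 1, hy, e⟩
  have hfl := Groth.Agent.Lib.R2H2.PullLF.isFlat_of_isFinLocFree L hLf
  have hS : ((idealSeq I).map (DCoh.tensorBi.obj L)).ShortExact :=
    Groth.Agent.Lib.R2Lead.TensorExact.shortExact_map_tensorBi L (fun y => hfl y)
      (idealSeq I) (idealSeq_shortExact I)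
  haveI := hS.mono_f
  obtain ⟨σ', hσ'⟩ := Groth.Agent.Lib.R2H1.LiftZero.exists_lift I L hS s (fun x _ => by
    obtain ⟨U, t, a, hxU, -, hsa, hI⟩ := hloc x
    exact ⟨U, t, a, hxU, hsa, by rw [hI]; exact Ideal.subset_span rfl⟩)
  have hO := Groth.Agent.Lib.Helper23.TensorUnit.isInvertible_structureModule X
  haveI : Mono s := Groth.Agent.Lib.R2H1.InvHom.mono_of_ne_zero hO hL s hs
  haveI : Mono (σ' ≫ ((idealSeq I).map (DCoh.tensorBi.obj L)).f) := by
    rw [hσ']; exact mono_comp s _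
  haveI : Mono σ' := mono_of_mono σ' ((idealSeq I).map (DCoh.tensorBi.obj L)).f
  haveI : Epi σ' := by
    apply Groth.Agent.Lib.Helper23.Serre.epi_of_locally_surjective
    intro V z x hxV
    obtain ⟨U, t, a, hxU, hgen, hsa, hI⟩ := hloc x
    obtain ⟨W, hW, hxW, hWle⟩ : ∃ W : X.Opens, IsAffineOpen W ∧ x ∈ W ∧ W ≤ U.1 ⊓ V := by
      obtain ⟨W, hW, hxW, hle⟩ := Opens.isBasis_iff_nbhd.1 X.isBasis_affineOpens
        (show x ∈ U.1 ⊓ V from ⟨hxU, hxV⟩)
      exact ⟨W, hW, hxW, hle⟩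
    have hWU : W ≤ U.1 := hWle.trans inf_le_left
    have hWV : W ≤ V := hWle.trans inf_le_right
    refine ⟨W, hWV, hxW, ?_⟩
    have hgenW : IsGen L W (res L hWU t) := hgen.mono hWU
    have hIW : I.ideal ⟨W, hW⟩ = Ideal.span {X.presheaf.map (homOfLE hWU).op a} :=
      Groth.Agent.Lib.R2H1.ZeroSchemeMul.ideal_res_span I (U := ⟨W, hW⟩) (V := U) hWU a hI
    have hb1 := Groth.Agent.Lib.Helper27TmLeft.bijective_tm_of_isGen_left L (ClSub.idealMod I) W _
      hgenW W le_rfl
    have hb2 := Groth.Agent.Lib.Helper27TmLeft.bijective_tm_of_isGen_left L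
      (Coh.structureModule X) W _ hgenW W le_rfl
    simp only [res_self] at hb1 hb2
    obtain ⟨j, hj⟩ := hb1.2 (res _ hWV z)
    obtain ⟨j₀, hj₀⟩ := hb1.2 (sv σ' W)
    simp only [] at hj hj₀
    have h1 : ((DCoh.tensorBi.obj L).map (ClSub.idealModι I)).app W (sv σ' W) =
        (SecTwist.unitorR L).inv.app W (sv s W) := by
      have := congrArg (fun φ => sv φ W) hσ'
      exact this
    rw [← hj₀, Groth.Agent.Lib.R2H1.CurveAmple.tensorBi_map_tm,
      Groth.Agent.Lib.R2H1.CurveAmple.unitorR_inv_app, ← res_sv s hWU, hsa, res_smul,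
      tm_smul_left, ← tm_smul_right] at h1
    have h2 := hb2.1 h1
    simp only [] at h2
    have hmem := Groth.Agent.Lib.R2H1.IdealProd.ι_mem_ideal (I := I) ⟨W, hW⟩ j
    rw [hIW, Ideal.mem_span_singleton'] at hmem
    obtain ⟨c, hc⟩ := hmem
    have h3 : (ClSub.idealModι I).app W (c • j₀) = (ClSub.idealModι I).app W j := by
      rw [Scheme.Modules.Hom.app_smul, h2, ← mul_smul, smul_toS, mul_one]
      have : toS W (c * resf hWU a) = toS W (ofS W ((ClSub.idealModι I).app W j)) := by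
        rw [← hc]
      rw [this]
      rfl
    have h4 : c • j₀ = j := Groth.Agent.Lib.Helper20.IdealModSec.ι_injective (I := I) W h3
    refine ⟨toS W c, ?_⟩
    rw [app_toS]
    have h5 : c • sv σ' W = res (CohB1.tensorMod L (ClSub.idealMod I)) hWV z := by
      rw [← hj, ← h4, tm_smul_right, hj₀]
      rfl
    exact h5
  haveI : IsIso σ' := isIso_of_mono_of_epi σ'
  have e := asIso σ'
  exact ⟨e⟩

end Part1

section Part2

open Groth.Agent.Lib.Helper23.SecTw Groth.Agent.Lib.Helper6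
open Groth.Agent.Lib.Helper27GrTildeSect Groth.Agent.Helper13Dehom
open Groth.Agent.Lib.Helper27ClosedProj

variable {r : ℕ} {k : Type u} [Field k]

local notation "𝒫" => CohB1.polyGrading r k
local notation "PJ" => Proj (CohB1.polyGrading r k)

theorem X_mem (i : Fin (r + 1)) :
    (MvPolynomial.X i : MvPolynomial (Fin (r + 1)) k) ∈ CohB1.polyGrading r k 1 :=
  LefPen.X_mem r k i

/-- the chart `D₊(T_i)` -/
noncomputable def chartO (i : Fin (r + 1)) : (PJ).Opens :=
  Proj.basicOpen 𝒫 (MvPolynomial.X i : MvPolynomial (Fin (r + 1)) k)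

/-- the chart as an affine open -/
noncomputable def chartAff (i : Fin (r + 1)) : (PJ).affineOpens :=
  ⟨chartO (r := r) (k := k) i, Proj.isAffineOpen_basicOpen 𝒫 _ (X_mem i) Nat.one_pos⟩

/-- the frozen dehomogenization -/
noncomputable def deh {d : ℕ} (G : LefPen.Form r k d) (i : Fin (r + 1)) :
    Γ(PJ, chartO (r := r) (k := k) i) := LefPen.dehom G i

/-- the frozen dehomogenization is helper13's -/
theorem deh_eq {d : ℕ} (G : LefPen.Form r k d) (i : Fin (r + 1)) :
    deh G i = dehom (X_mem i) G.1 := by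
  rw [dehom_eq_awayToSection (X_mem i) (j := d) (a := G.1)
    (by rw [smul_eq_mul, mul_one]; exact G.2)]
  rfl

/-- the section `G / 1` of `O(d)` as a morphism from the structure sheaf -/
noncomputable def sG {d : ℕ} (G : LefPen.Form r k d) :
    Coh.structureModule PJ ⟶ GrTilde.tilde 𝒫 𝒫 (d : ℤ) :=
  secHom (GrTilde.tilde 𝒫 𝒫 (d : ℤ)) (gsec 𝒫 d ⊤ G.2)

theorem sv_sG {d : ℕ} (G : LefPen.Form r k d) (W : (PJ).Opens) :
    sv (sG G) W = gsec 𝒫 d W G.2 := by
  unfold sG
  rw [sv_secHom]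
  rfl

/-- the generator `T_i^d / 1` of `O(d)` over the chart -/
noncomputable def gen (d : ℕ) (i : Fin (r + 1)) :
    Γ(GrTilde.tilde 𝒫 𝒫 (d : ℤ), chartO (r := r) (k := k) i) :=
  gsec 𝒫 d (chartO i) (pow_mem_deg (X_mem i) d)

theorem isGen_gen (d : ℕ) (i : Fin (r + 1)) :
    IsGen (GrTilde.tilde 𝒫 𝒫 (d : ℤ)) (chartO (r := r) (k := k) i) (gen d i) :=
  (isGen_gsec 𝒫 d (pow_mem_deg (X_mem (r := r) (k := k) i) d)).mono
    (basicOpen_le_basicOpen_pow 𝒫 (MvPolynomial.X i : MvPolynomial (Fin (r + 1)) k) d)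

theorem sv_sG_chart {d : ℕ} (G : LefPen.Form r k d) (i : Fin (r + 1)) :
    sv (sG G) (chartO i) = deh G i • gen d i := by
  rw [sv_sG, deh_eq]
  exact gsec_eq_dehom_smul 𝒫 (X_mem i) d G.2

theorem sG_ne_zero {d : ℕ} (G : LefPen.Form r k d) (hG : G ≠ 0) : sG G ≠ 0 := by
  intro h
  apply hG
  have h1 : gsec 𝒫 d ⊤ G.2 = 0 := by
    rw [← sv_sG G ⊤, h]
    exact Groth.Agent.Lib.Helper23.SecTw.sv_zero ⊤
  exact Subtype.ext (Groth.Agent.Lib.Helper27PnSections.gsec_eq_zero r k d G.2 h1)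

end Part2

section Part3

open Groth.Agent.Lib.Helper23.SecTw Groth.Agent.Lib.Helper6
open Groth.Agent.Lib.Helper27GrTildeSect Groth.Agent.Helper13Dehom
open Groth.Agent.Lib.Helper27ClosedProj
open Groth.Agent.Lib.R2H1.ZeroSchemeDiv Groth.Agent.Lib.R2H1.ZeroSchemeMul

variable {r : ℕ} {k : Type u} [Field k]

local notation "𝒫" => CohB1.polyGrading r k
local notation "PJ" => Proj (CohB1.polyGrading r k)

theorem bijective_res_of_le {X : Scheme.{u}} {U V : X.Opens} (h : V ≤ U) (h' : U ≤ V) :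
    Function.Bijective (X.presheaf.map (homOfLE h).op).hom := by
  haveI : IsIso (homOfLE h) := ⟨⟨homOfLE h', Subsingleton.elim _ _, Subsingleton.elim _ _⟩⟩
  haveI : IsIso (X.presheaf.map (homOfLE h).op) := inferInstance
  exact ConcreteCategory.bijective_of_isIso (X.presheaf.map (homOfLE h).op)

theorem isInv (d : ℤ) : PicF.IsInvertible (GrTilde.tilde 𝒫 𝒫 d) :=
  Groth.Agent.Lib.R2Lead.KRR.isInvertible_twistProjSpace r k d

/-- the zero scheme of the section `G / 1` -/
noncomputable def JG {d : ℕ} (G : LefPen.Form r k d) : (PJ).IdealSheafData :=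
  PicF2.zeroScheme (GrTilde.tilde 𝒫 𝒫 (d : ℤ)) (sG G)

theorem JG_ideal_chart {d : ℕ} (G : LefPen.Form r k d) (i : Fin (r + 1)) :
    (JG G).ideal (chartAff i) = Ideal.span {deh G i} := by
  have hb : Function.Bijective (fun c : Γ(PJ, chartO (r := r) (k := k) i) =>
      c • gen (r := r) (k := k) d i) := by
    have := isGen_gen (r := r) (k := k) d i (chartO i) le_rfl
    rwa [show (fun c : Γ(PJ, chartO (r := r) (k := k) i) =>
        c • res (GrTilde.tilde 𝒫 𝒫 (d : ℤ)) le_rfl (gen (r := r) (k := k) d i)) =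
        fun c => c • gen (r := r) (k := k) d i from by
      funext c; rw [Groth.Agent.Lib.Helper23.SecTw.res_self]] at this
  unfold JG
  rw [zeroScheme_ideal _ (isInv (d : ℤ)) (sG G) (chartAff i)]
  exact zeroIdealOn_eq_span _ (sG G) (chartO i) (gen d i) (deh G i) hb (sv_sG_chart G i)

/-- the frozen family of ideals -/
noncomputable def hypFam {d : ℕ} (G : LefPen.Form r k d) (U : (PJ).affineOpens) :
    Ideal Γ(PJ, U.1) := LefPen.hypFamily G U

theorem hypFam_eq {d : ℕ} (G : LefPen.Form r k d) (U : (PJ).affineOpens) :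
    hypFam G U = ⨅ i : Fin (r + 1), Ideal.comap
      ((PJ).presheaf.map (homOfLE (inf_le_left : U.1 ⊓ chartO i ≤ U.1)).op).hom
      (Ideal.span {((PJ).presheaf.map
        (homOfLE (inf_le_right : U.1 ⊓ chartO i ≤ chartO i)).op).hom (deh G i)}) := rfl

/-- the frozen hypersurface ideal -/
noncomputable def hypI {d : ℕ} (G : LefPen.Form r k d) : (PJ).IdealSheafData :=
  LefPen.hypIdeal G

theorem hypI_eq {d : ℕ} (G : LefPen.Form r k d) :
    hypI G = Scheme.IdealSheafData.ofIdeals (hypFam G) := rfl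

theorem JG_le {d : ℕ} (G : LefPen.Form r k d) : JG G ≤ hypI G := by
  rw [hypI_eq, Scheme.IdealSheafData.le_ofIdeals_iff]
  intro U
  rw [hypFam_eq]
  refine le_iInf fun i => ?_
  have haff : IsAffineOpen (U.1 ⊓ chartO (r := r) (k := k) i) := U.2.inf (chartAff i).2
  rw [← Ideal.map_le_iff_le_comap]
  have hle1 : (⟨U.1 ⊓ chartO i, haff⟩ : (PJ).affineOpens) ≤ U :=
    (inf_le_left : U.1 ⊓ chartO (r := r) (k := k) i ≤ U.1)
  have hle2 : (⟨U.1 ⊓ chartO i, haff⟩ : (PJ).affineOpens) ≤ chartAff i :=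
    (inf_le_right : U.1 ⊓ chartO (r := r) (k := k) i ≤ chartO i)
  have h1 := (JG G).map_ideal (U := ⟨U.1 ⊓ chartO i, haff⟩) (V := U) hle1
  have h2 := ideal_res_span (JG G) (U := ⟨U.1 ⊓ chartO i, haff⟩) (V := chartAff i) hle2
    (deh G i) (JG_ideal_chart G i)
  exact (h1.trans h2).le

theorem hypI_chart_le {d : ℕ} (G : LefPen.Form r k d) (i : Fin (r + 1)) :
    (hypI G).ideal (chartAff i) ≤ Ideal.span {deh G i} := by
  rw [hypI_eq]
  refine (Scheme.IdealSheafData.ideal_ofIdeals_le (hypFam G) (chartAff i)).trans ?_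
  rw [hypFam_eq]
  refine (iInf_le _ i).trans ?_
  intro x hx
  rw [Ideal.mem_comap, Ideal.mem_span_singleton'] at hx
  obtain ⟨c, hc⟩ := hx
  have hbij := bijective_res_of_le (X := PJ)
    (inf_le_left : (chartAff (r := r) (k := k) i).1 ⊓ chartO i ≤ (chartAff i).1)
    (le_inf le_rfl le_rfl)
  obtain ⟨c', rfl⟩ := hbij.2 c
  refine Ideal.mem_span_singleton'.mpr ⟨c', hbij.1 ?_⟩
  rw [map_mul]
  exact hc

theorem iSup_chartAff : ⨆ i : Fin (r + 1), (chartAff (r := r) (k := k) i).1 = ⊤ :=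
  Groth.Agent.Lib.Helper27PnChart.iSup_basicOpen_X r k

theorem hypI_eq_JG {d : ℕ} (G : LefPen.Form r k d) : hypI G = JG G := by
  refine Scheme.IdealSheafData.ext_of_iSup_eq_top (chartAff (r := r) (k := k)) iSup_chartAff
    (fun i => le_antisymm ?_ (JG_le G (chartAff i)))
  rw [JG_ideal_chart]
  exact hypI_chart_le G i

theorem hypI_ideal_chart {d : ℕ} (G : LefPen.Form r k d) (i : Fin (r + 1)) :
    (hypI G).ideal (chartAff i) = Ideal.span {deh G i} := by
  rw [hypI_eq_JG, JG_ideal_chart]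

end Part3

section Part4

open Groth.Agent.Lib.Helper23.SecTw Groth.Agent.Lib.Helper6
open Groth.Agent.Lib.Helper27GrTildeSect Groth.Agent.Helper13Dehom
open Groth.Agent.Lib.Helper27ClosedProj
open Groth.Agent.Lib.R2H1.ZeroSchemeDiv Groth.Agent.Lib.R2H1.ZeroSchemeMul
open Groth.Agent.Lib.R2H4TensorPows



variable {r : ℕ} {k : Type u} [Field k]

local notation "𝒫" => CohB1.polyGrading r k
local notation "PJ" => Proj (CohB1.polyGrading r k)

theorem nonempty_unit_iso {d : ℕ} (G : LefPen.Form r k d) (hG : G ≠ 0) :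
    Nonempty (Coh.structureModule PJ ≅
      CohB1.tensorMod (GrTilde.tilde 𝒫 𝒫 (d : ℤ)) (ClSub.idealMod (hypI G))) := by
  haveI : IsIntegral PJ := Groth.Agent.Lib.R2H1.PLineA.isIntegral_projSpace r k
  refine nonempty_iso_tensor_idealMod (GrTilde.tilde 𝒫 𝒫 (d : ℤ)) (isInv (d : ℤ)) (sG G)
    (sG_ne_zero G hG) (hypI G) (fun x => ?_)
  have hx : x ∈ (⨆ i : Fin (r + 1), (chartAff (r := r) (k := k) i).1) := by
    rw [iSup_chartAff]; trivial
  obtain ⟨i, hi⟩ := Opens.mem_iSup.mp hx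
  exact ⟨chartAff i, gen d i, deh G i, hi, isGen_gen d i, sv_sG_chart G i, hypI_ideal_chart G i⟩

theorem nonempty_idealMod_iso_tilde {d : ℕ} (G : LefPen.Form r k d) (hG : G ≠ 0) :
    Nonempty (ClSub.idealMod (hypI G) ≅ GrTilde.tilde 𝒫 𝒫 (-(d : ℤ))) := by
  obtain ⟨e⟩ := nonempty_unit_iso G hG
  obtain ⟨e1⟩ := Groth.Agent.Lib.R2Lead.KRR.nonempty_twistProjSpace_tensor_iso r k (-(d : ℤ)) d
  obtain ⟨z⟩ := Groth.Agent.Lib.R2Lead.KRR.nonempty_twistProjSpace_zero_iso r k
  have e2 : CohB1.tensorMod (GrTilde.tilde 𝒫 𝒫 (-(d : ℤ))) (GrTilde.tilde 𝒫 𝒫 (d : ℤ)) ≅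
      Coh.structureModule PJ := e1 ≪≫ eqToIso (by rw [neg_add_cancel]) ≪≫ z
  have e3 := Groth.Agent.Lib.R2H1.DegCartier.tensorInvIso (GrTilde.tilde 𝒫 𝒫 (-(d : ℤ)))
    (GrTilde.tilde 𝒫 𝒫 (d : ℤ)) (ClSub.idealMod (hypI G)) e.symm
  exact ⟨(lUnit (ClSub.idealMod (hypI G))).symm ≪≫ tIso e2.symm (Iso.refl _) ≪≫ e3⟩

/-- **the ideal sheaf of a hypersurface of degree `d` is `O(-d)`** -/
theorem nonempty_idealMod_hypIdeal_iso {d : ℕ} (G : LefPen.Form r k d) (hG : G ≠ 0) :
    Nonempty (ClSub.idealMod (LefPen.hypIdeal G) ≅ Twist.twistProjSpace r k (-(d : ℤ))) :=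
  nonempty_idealMod_iso_tilde G hG

end Part4

section Part5

open Groth.Agent.Lib.H9SteinAlg Groth.Agent.Lib.H9SteinConn Groth.Agent.Lib.H9SteinH0
open Groth.Agent.Lib.R2H2.HHLin

section General

variable (k : Type u) [Field k] (X : Scheme.{u}) [X.Over (Spec (CommRingCat.of k))]

/-- cohomology of isomorphic modules -/
noncomputable def hhEquivOfIso {M N : X.Modules} (e : M ≅ N) (q : ℕ) :
    Coh.HH X M q ≃ₗ[k] Coh.HH X N q :=
  LinearEquiv.ofBijective (HmapA k e.hom q)
    (Function.bijective_iff_has_inverse.2 ⟨HmapA k e.inv q, fun x => by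
      rw [HmapA_apply, HmapA_apply, ← HmapL_comp, e.hom_inv_id, HmapL_id], fun x => by
      rw [HmapA_apply, HmapA_apply, ← HmapL_comp, e.inv_hom_id, HmapL_id]⟩)

theorem bijective_algebraMap_of_h0
    (h : Module.finrank k (Coh.HH X (Coh.structureModule X) 0) = 1) :
    letI := algΓ k (X ↘ Spec (CommRingCat.of k))
    Function.Bijective (algebraMap k Γ(X, ⊤)) := by
  letI := algΓ k (X ↘ Spec (CommRingCat.of k))
  have h1 : Module.finrank k Γ(X, ⊤) = 1 := by
    rw [← (hh0LinearEquiv k X).finrank_eq]; exact h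
  haveI : Nontrivial Γ(X, ⊤) := by
    by_contra hn
    rw [not_nontrivial_iff_subsingleton] at hn
    have : Module.finrank k Γ(X, ⊤) = 0 := Module.finrank_zero_of_subsingleton
    omega
  have hbt : (⊥ : Subalgebra k Γ(X, ⊤)) = ⊤ := Subalgebra.bot_eq_top_of_finrank_eq_one h1
  refine ⟨(algebraMap k Γ(X, ⊤)).injective, fun a => ?_⟩
  have : a ∈ (⊥ : Subalgebra k Γ(X, ⊤)) := hbt ▸ Algebra.mem_top
  exact Algebra.mem_bot.mp this

theorem bijective_appTop_of_h0
    (h : Module.finrank k (Coh.HH X (Coh.structureModule X) 0) = 1) :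
    Function.Bijective (X ↘ Spec (CommRingCat.of k)).appTop.hom := by
  have hb := bijective_algebraMap_of_h0 k X h
  have hb' : Function.Bijective ((X ↘ Spec (CommRingCat.of k)).appTop.hom ∘
      (Scheme.ΓSpecIso (CommRingCat.of k)).inv.hom) := hb
  have hi : Function.Bijective (Scheme.ΓSpecIso (CommRingCat.of k)).hom.hom :=
    ConcreteCategory.bijective_of_isIso (Scheme.ΓSpecIso (CommRingCat.of k)).hom
  have : (X ↘ Spec (CommRingCat.of k)).appTop.hom =
      ((X ↘ Spec (CommRingCat.of k)).appTop.hom ∘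
        (Scheme.ΓSpecIso (CommRingCat.of k)).inv.hom) ∘
        (Scheme.ΓSpecIso (CommRingCat.of k)).hom.hom := by
    funext x
    change _ = (X ↘ Spec (CommRingCat.of k)).appTop.hom
      (((Scheme.ΓSpecIso (CommRingCat.of k)).hom ≫ (Scheme.ΓSpecIso (CommRingCat.of k)).inv).hom x)
    rw [Iso.hom_inv_id]
    rfl
  rw [this]
  exact hb'.comp hi

theorem connectedSpace_of_h0
    (h : Module.finrank k (Coh.HH X (Coh.structureModule X) 0) = 1) :
    ConnectedSpace X := by
  letI := algΓ k (X ↘ Spec (CommRingCat.of k))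
  have hb := bijective_algebraMap_of_h0 k X h
  haveI : Nontrivial Γ(X, ⊤) := hb.1.nontrivial
  rw [connectedSpace_iff_trivIdem]
  refine ⟨nonempty_of_nontrivial X, fun e he => ?_⟩
  obtain ⟨c, rfl⟩ := hb.2 e
  have hc : IsIdempotentElem c := by
    apply hb.1
    rw [map_mul]
    exact he
  rcases (IsIdempotentElem.iff_eq_zero_or_one.mp hc) with h0 | h1
  · left; rw [h0, map_zero]
  · right; rw [h1, map_one]

end General

end Part5

section Part6



variable (k : Type u) [Field k] (n d : ℕ) (hn : 1 ≤ n) (hd : 1 ≤ d)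
  (G : LefPen.Form (n + 1) k d) (hG : G ≠ 0)
  [inst : ((LefPen.hypIdeal G).subscheme).Over (Spec (CommRingCat.of k))]
  (hinst : (LefPen.hypIdeal G).subscheme ↘ (Spec (CommRingCat.of k)) =
    (LefPen.hypIdeal G).subschemeι ≫ CohB1.ProjSpace.toSpec (n + 1) k)

include hn hd hG hinst in
/-- cohomology of the structure sheaf of a hypersurface of degree `d` in `P^{n+1}` -/
theorem hyp_cohomology :
    (∀ p : ℕ, p ≠ 0 → p ≠ n → Subsingleton (Coh.HH (LefPen.hypIdeal G).subscheme
      (Coh.structureModule (LefPen.hypIdeal G).subscheme) p)) ∧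
    Module.finrank k (Coh.HH (LefPen.hypIdeal G).subscheme
      (Coh.structureModule (LefPen.hypIdeal G).subscheme) 0) = 1 ∧
    Module.Finite k (Coh.HH (LefPen.hypIdeal G).subscheme
      (Coh.structureModule (LefPen.hypIdeal G).subscheme) n) ∧
    Module.finrank k (Coh.HH (LefPen.hypIdeal G).subscheme
      (Coh.structureModule (LefPen.hypIdeal G).subscheme) n) = Nat.choose (d - 1) (n + 1) := by
  obtain ⟨hvan, ⟨-, h0⟩, ⟨hfin, hn'⟩⟩ := Groth.Agent.S19434.result k n d hn hd (LefPen.hypIdeal G)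
    (nonempty_idealMod_hypIdeal_iso G hG) 0
  have hM : Coh.IsQCoh (Coh.structureModule (LefPen.hypIdeal G).subscheme) :=
    Groth.Agent.Lib.Helper23.Serre.isQuasicoherent_structureModule' _
  obtain ⟨z⟩ := Groth.Agent.Lib.R2H4PnDrop.nonempty_twist_zero (n + 1) k
    (ClSub.quotMod (LefPen.hypIdeal G))
  have T : ∀ q : ℕ, Nonempty (Coh.HH (LefPen.hypIdeal G).subscheme
      (Coh.structureModule (LefPen.hypIdeal G).subscheme) q ≃ₗ[k]
      Coh.HH (CohB1.ProjSpace (n + 1) k) (CohB1.tensorMod (ClSub.quotMod (LefPen.hypIdeal G))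
        (Twist.twistProjSpace (n + 1) k 0)) q) := by
    intro q
    obtain ⟨E⟩ := Groth.Agent.Lib.R2H2.ClosedPnLin.nonempty_HH_push_linearEquiv (n + 1) k
      (LefPen.hypIdeal G).subschemeι hinst.symm
      (Coh.structureModule (LefPen.hypIdeal G).subscheme) hM q
    exact ⟨E.trans (hhEquivOfIso k (CohB1.ProjSpace (n + 1) k) z.symm q)⟩
  refine ⟨fun p hp0 hpn => ?_, ?_, ?_, ?_⟩
  · obtain ⟨t⟩ := T p
    haveI := hvan p hp0 hpn
    exact t.toEquiv.subsingleton
  · obtain ⟨t⟩ := T 0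
    rw [t.finrank_eq, h0]
    have e1 : ((0 : ℤ) + ((n : ℤ) + 1)).toNat = n + 1 := by omega
    have e2 : ((0 : ℤ) - (d : ℤ) + ((n : ℤ) + 1)).toNat < n + 1 := by omega
    rw [e1, Nat.choose_self, Nat.choose_eq_zero_of_lt e2]
  · obtain ⟨t⟩ := T n
    haveI := hfin
    exact Module.Finite.equiv t.symm
  · obtain ⟨t⟩ := T n
    rw [t.finrank_eq, hn']
    have e1 : (((d : ℤ) - 2 - (n : ℤ) - 0) + ((n : ℤ) + 1)).toNat = d - 1 := by omega
    have e2 : (((d : ℤ) - 2 - (n : ℤ) - 0) - (d : ℤ) + ((n : ℤ) + 1)).toNat = 0 := by omega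
    rw [e1, e2, Nat.choose_zero_succ, Nat.sub_zero]

end Part6

section Part7

open Groth.Agent.Helper13Dehom




section Zero

variable {r : ℕ} {k : Type u} [Field k]

local notation "PJ" => Proj (CohB1.polyGrading r k)

theorem hypI_zero (d : ℕ) : hypI (0 : LefPen.Form r k d) = ⊥ := by
  refine Scheme.IdealSheafData.ext_of_iSup_eq_top (chartAff (r := r) (k := k)) iSup_chartAff
    (fun i => ?_)
  rw [hypI_ideal_chart, deh_eq]
  have : dehom (X_mem (r := r) (k := k) i) ((0 : LefPen.Form r k d) : MvPolynomial (Fin (r + 1)) k)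
      = 0 := map_zero _
  rw [this, Scheme.IdealSheafData.ideal_bot]
  exact Ideal.span_singleton_eq_bot.mpr rfl

theorem hypIdeal_zero (d : ℕ) : LefPen.hypIdeal (0 : LefPen.Form r k d) = ⊥ := hypI_zero d

end Zero

section Iso

theorem isIso_unitToPush {X Y : Scheme.{u}} (f : X ⟶ Y) [IsIso f] :
    IsIso (ClSub.unitToPush f) := by
  apply Groth.Agent.Lib.Helper21.GammaZ.isIso_of_bijective_app
  · intro V
    exact (ConcreteCategory.bijective_of_isIso (f.app V.unop)).1
  · intro V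
    exact (ConcreteCategory.bijective_of_isIso (f.app V.unop)).2

variable (k : Type u) [Field k] (N : ℕ) (I : (CohB1.ProjSpace N k).IdealSheafData)
  [IsIso I.subschemeι]
  [inst : (I.subscheme).Over (Spec (CommRingCat.of k))]
  (hinst : I.subscheme ↘ (Spec (CommRingCat.of k)) = I.subschemeι ≫ CohB1.ProjSpace.toSpec N k)

include hinst in
/-- cohomology of the structure sheaf of projective space, seen as a closed subscheme of itself -/
theorem proj_cohomology :
    (∀ p : ℕ, p ≠ 0 → Subsingleton (Coh.HH I.subscheme (Coh.structureModule I.subscheme) p)) ∧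
    Module.finrank k (Coh.HH I.subscheme (Coh.structureModule I.subscheme) 0) = 1 := by
  have hM : Coh.IsQCoh (Coh.structureModule I.subscheme) :=
    Groth.Agent.Lib.Helper23.Serre.isQuasicoherent_structureModule' _
  haveI := isIso_unitToPush I.subschemeι
  have e1 : Coh.structureModule (CohB1.ProjSpace N k) ≅ ClSub.quotMod I :=
    asIso (ClSub.unitToPush I.subschemeι)
  obtain ⟨z⟩ := Groth.Agent.Lib.R2Lead.KRR.nonempty_twistProjSpace_zero_iso N k
  have T : ∀ q : ℕ, Nonempty (Coh.HH I.subscheme (Coh.structureModule I.subscheme) q ≃ₗ[k]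
      Coh.HH (CohB1.ProjSpace N k) (Twist.twistProjSpace N k ((0 : ℕ) : ℤ)) q) := by
    intro q
    obtain ⟨E⟩ := Groth.Agent.Lib.R2H2.ClosedPnLin.nonempty_HH_push_linearEquiv N k
      I.subschemeι hinst.symm (Coh.structureModule I.subscheme) hM q
    exact ⟨E.trans (hhEquivOfIso k (CohB1.ProjSpace N k) (e1.symm ≪≫ z.symm) q)⟩
  refine ⟨fun p hp0 => ?_, ?_⟩
  · obtain ⟨t⟩ := T p
    haveI : Subsingleton (Coh.HH (CohB1.ProjSpace N k)
        (Twist.twistProjSpace N k ((0 : ℕ) : ℤ)) p) :=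
      Groth.Agent.Lib.R2H2.PnCoh.subsingleton_HH_tilde k N _ p (fun h => hp0 h.1)
        (fun h => by have := h.2; push_cast at this; omega)
    exact t.toEquiv.subsingleton
  · obtain ⟨t⟩ := T 0
    rw [t.finrank_eq, Groth.Agent.Lib.R2H2.PnEuler.finrank_HH_nonneg k N 0, Nat.zero_add,
      Nat.choose_self]

end Iso

end Part7

end Groth.Agent.Lib.R2H1.HypIdeal
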