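import Mathlib
import Groth.Agent.Lib.Helper27PnChart
import Groth.Agent.Lib.Helper13Dehom
import Groth.Agent.Lib.Helper22Hartogs2
import Groth.Agent.Lib.R2H1PLineA
import Groth.Agent.Lib.Helper20UFDPic
import Groth.Agent.Lib.Helper27TwistGen2
import Groth.Agent.Lib.R2LeadKRR
import Groth.Agent.Lib.R2H1DegCartier
import Groth.Agent.Lib.R2H4TensorPows
import Groth.Agent.Lib.R2H2PnEuler
import Groth.Agent.Lib.R2H2ClosedPnLin
set_option backward.isDefEq.respectTransparency.types false

/-!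
# Picard group of projective space over a factorial domain (helper1)

* exists_unit_pow : units of the localisation of a domain at a prime element
* U n R i, dh n R i, Θ n R i : the standard charts of P^n_R with coordinate ring R[T_j, j ≠ i]
* triv_of_affine_ufd : invertible modules are trivial on affine opens with factorial ring
* exists_unit_pow_chart, bijective_res_chart (Hartogs on a chart)
* exists_glue2, exists_gen_extend, res_injective_of_isGen : generic gluing lemmas
* exists_twist_triv, exists_iso_twist (S1697), twist_injective, existsUnique_twist (S10960)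
-/

set_option autoImplicit false
set_option linter.style.haveILetI false
set_option linter.unusedSectionVars false
universe u v

open CategoryTheory CategoryTheory.Limits AlgebraicGeometry TopologicalSpace Opposite

namespace Groth.Agent.Lib.R2H1.PicPn

open HomogeneousLocalization

section Part1

/-- units of the localization of a domain at a prime element. -/
theorem exists_unit_pow {A B : Type*} [CommRing A] [IsDomain A] [CommRing B] [Algebra A B]
    (π : A) (hπ : Prime π) [IsLocalization.Away π B] (u : B) (hu : IsUnit u) :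
    ∃ (a : A) (p q : ℕ), IsUnit a ∧
      u * algebraMap A B π ^ q = algebraMap A B a * algebraMap A B π ^ p := by
  obtain ⟨v, hv⟩ := hu.exists_right_inv
  obtain ⟨⟨a₁, ⟨_, k, rfl⟩⟩, h1⟩ := IsLocalization.surj (Submonoid.powers π) u
  obtain ⟨⟨b₁, ⟨_, l, rfl⟩⟩, h2⟩ := IsLocalization.surj (Submonoid.powers π) v
  simp only at h1 h2
  have hinj : Function.Injective (algebraMap A B) :=
    IsLocalization.injective B (powers_le_nonZeroDivisors_of_noZeroDivisors hπ.ne_zero)
  have h3 : a₁ * b₁ = 1 * π ^ (k + l) := by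
    apply hinj
    rw [map_mul, ← h1, ← h2, one_mul, map_pow, map_pow, map_pow, pow_add]
    calc u * algebraMap A B π ^ k * (v * algebraMap A B π ^ l)
        = (u * v) * (algebraMap A B π ^ k * algebraMap A B π ^ l) := by ring
      _ = _ := by rw [hv, one_mul]
  obtain ⟨i, j, b, c, hij, hbc, ha₁, hb₁⟩ := mul_eq_mul_prime_pow hπ h3
  refine ⟨b, i, k, IsUnit.of_mul_eq_one c hbc.symm, ?_⟩
  rw [← map_pow, ← map_pow, h1, ha₁, map_mul]

end Part1

section Part2

open Groth.Agent.Lib.Helper27PnChart Groth.Agent.Helper13Dehom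

variable (n : ℕ) (R : Type u) [CommRing R]

local notation "𝒫" => CohB1.polyGrading n R
local notation "PJ" => Proj (CohB1.polyGrading n R)

/-- the standard chart `D₊(T_i)`. -/
noncomputable abbrev U (i : Fin (n + 1)) : (PJ).Opens :=
  Proj.basicOpen (CohB1.polyGrading n R) (MvPolynomial.X i)

theorem isAffineOpen_U (i : Fin (n + 1)) : IsAffineOpen (U n R i) :=
  Proj.isAffineOpen_basicOpen _ _ (X_mem_one n R i) one_pos

theorem iSup_U : (⨆ i : Fin (n + 1), U n R i) = ⊤ := iSup_basicOpen_X n R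

/-- dehomogenisation with respect to `T_i`. -/
noncomputable def dh (i : Fin (n + 1)) : MvPolynomial (Fin (n + 1)) R →+* Γ(PJ, U n R i) :=
  dehom (𝒜 := CohB1.polyGrading n R) (X_mem_one n R i)

theorem dh_self (i : Fin (n + 1)) : dh n R i (MvPolynomial.X i) = 1 :=
  dehom_self _

/-- the coordinate ring of the chart. -/
noncomputable def θ (i : Fin (n + 1)) :
    MvPolynomial {j : Fin (n + 1) // j ≠ i} R →+* Γ(PJ, U n R i) :=
  (dh n R i).comp (MvPolynomial.rename Subtype.val).toRingHom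

theorem θ_X (i : Fin (n + 1)) (j : {j : Fin (n + 1) // j ≠ i}) :
    θ n R i (MvPolynomial.X j) = dh n R i (MvPolynomial.X j.1) := by
  simp [θ]

theorem θ_C (i : Fin (n + 1)) (r : R) :
    θ n R i (MvPolynomial.C r) = dh n R i (MvPolynomial.C r) := by
  simp [θ]

theorem θ_eq (i : Fin (n + 1)) :
    θ n R i = ((Proj.awayToSection (CohB1.polyGrading n R) (MvPolynomial.X i)).hom).comp
      (chart n R i) := by
  apply MvPolynomial.ringHom_ext
  · intro r
    rw [θ_C, RingHom.comp_apply]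
    have h0 : (MvPolynomial.C r : MvPolynomial (Fin (n + 1)) R) ∈
        CohB1.polyGrading n R (0 • 1) := by
      simpa using MvPolynomial.isHomogeneous_C (Fin (n + 1)) r
    change dehom (𝒜 := CohB1.polyGrading n R) (X_mem_one n R i) _ = _
    rw [dehom_eq_awayToSection (X_mem_one n R i) (j := 0) h0]
    congr 1
    apply HomogeneousLocalization.val_injective
    simp [chart, HomogeneousLocalization.Away.mk, HomogeneousLocalization.val_mk,
      HomogeneousLocalization.fromZeroRingHom]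
  · intro j
    rw [θ_X, RingHom.comp_apply]
    have h1 : (MvPolynomial.X j.1 : MvPolynomial (Fin (n + 1)) R) ∈
        CohB1.polyGrading n R (1 • 1) := by
      simpa using X_mem_one n R j.1
    change dehom (𝒜 := CohB1.polyGrading n R) (X_mem_one n R i) _ = _
    rw [dehom_eq_awayToSection (X_mem_one n R i) (j := 1) h1]
    congr 1
    apply HomogeneousLocalization.val_injective
    simp [chart, HomogeneousLocalization.Away.mk, HomogeneousLocalization.val_mk]

theorem θ_bijective (i : Fin (n + 1)) : Function.Bijective (θ n R i) := by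
  rw [θ_eq]
  have h1 : Function.Bijective
      (Proj.awayToSection (CohB1.polyGrading n R) (MvPolynomial.X i)).hom := by
    have := (Proj.basicOpenIsoAway (CohB1.polyGrading n R) (MvPolynomial.X i)
      (X_mem_one n R i) one_pos).commRingCatIsoToRingEquiv.bijective
    exact this
  exact h1.comp (chart_bijective n R i)

/-- the coordinate ring of the chart, as a ring isomorphism. -/
noncomputable def Θ (i : Fin (n + 1)) :
    MvPolynomial {j : Fin (n + 1) // j ≠ i} R ≃+* Γ(PJ, U n R i) :=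
  RingEquiv.ofBijective (θ n R i) (θ_bijective n R i)

theorem Θ_apply (i : Fin (n + 1)) (p : MvPolynomial {j : Fin (n + 1) // j ≠ i} R) :
    Θ n R i p = θ n R i p := rfl

section Domain

variable [IsDomain R]

theorem isDomain_U (i : Fin (n + 1)) : IsDomain Γ(PJ, U n R i) :=
  (Θ n R i).symm.toMulEquiv.isDomain _

theorem prime_dh (i j : Fin (n + 1)) (h : j ≠ i) : Prime (dh n R i (MvPolynomial.X j)) := by
  have h1 : Prime (MvPolynomial.X (⟨j, h⟩ : {j : Fin (n + 1) // j ≠ i}) :
      MvPolynomial {j : Fin (n + 1) // j ≠ i} R) := MvPolynomial.X_prime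
  have h2 := (MulEquiv.prime_iff (Θ n R i)).mpr h1
  have h3 : (Θ n R i) (MvPolynomial.X (⟨j, h⟩ : {j : Fin (n + 1) // j ≠ i})) =
      dh n R i (MvPolynomial.X j) := θ_X n R i ⟨j, h⟩
  rwa [h3] at h2

theorem not_dh_dvd_dh (i j l : Fin (n + 1)) (hj : j ≠ i) (hl : l ≠ i) (hjl : j ≠ l) :
    ¬ dh n R i (MvPolynomial.X j) ∣ dh n R i (MvPolynomial.X l) := by
  intro hd
  rw [← θ_X n R i ⟨j, hj⟩, ← θ_X n R i ⟨l, hl⟩, ← Θ_apply, ← Θ_apply] at hd
  have h1 := (map_dvd_iff (Θ n R i)).mp hd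
  rw [MvPolynomial.X_dvd_X] at h1
  exact hjl (congrArg Subtype.val h1)

theorem isUnit_U (i : Fin (n + 1)) (a : Γ(PJ, U n R i)) (ha : IsUnit a) :
    ∃ c : R, IsUnit c ∧ a = dh n R i (MvPolynomial.C c) := by
  have h1 : IsUnit ((Θ n R i).symm a) := ha.map (Θ n R i).symm
  obtain ⟨c, hc, hc'⟩ := MvPolynomial.isUnit_iff_eq_C_of_isReduced.mp h1
  refine ⟨c, hc, ?_⟩
  have h2 : a = Θ n R i (MvPolynomial.C c) := by
    rw [← hc', RingEquiv.apply_symm_apply]
  rw [h2, Θ_apply, θ_C]

theorem ufd_U [UniqueFactorizationMonoid R] (i : Fin (n + 1)) :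
    UniqueFactorizationMonoid Γ(PJ, U n R i) :=
  (Θ n R i).toMulEquiv.uniqueFactorizationMonoid inferInstance

end Domain

end Part2

section Part3

open Groth.Agent.Lib.Helper27PnChart Groth.Agent.Helper13Dehom


open Groth.Agent.Lib.Helper6 Groth.Agent.Lib.Helper23.SecTw Groth.Agent.Lib.Helper23.GenLocus
open Groth.Agent.Lib.Helper20.ParaFLib Groth.Agent.Lib.Helper20.UFDPic
open Groth.Agent.Lib.Helper22.Hartogs

section Generic

variable {X : Scheme.{u}}

/-- invertible modules are trivial on affine opens whose ring of functions is factorial. -/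
theorem triv_of_affine_ufd [IsIntegral X] (W : X.Opens) (hW : IsAffineOpen W) [Nonempty W]
    (hufd : UniqueFactorizationMonoid Γ(X, W)) (L : X.Modules) (hL : PicF.IsInvertible L) :
    Triv L W := by
  haveI : IsAffine (W : Scheme.{u}) := hW
  haveI : IsIntegral (W : Scheme.{u}) := isIntegral_of_isOpenImmersion W.ι
  haveI : UniqueFactorizationMonoid Γ((W : Scheme.{u}), ⊤) :=
    W.topIso.commRingCatIsoToRingEquiv.symm.toMulEquiv.uniqueFactorizationMonoid hufd
  have hM : PicF.IsInvertible (L.restrict W.ι) :=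
    Groth.Agent.Lib.Helper23.RestrJ.isInvertible_restrict W.ι L hL
  have h1 : Triv (L.restrict W.ι) ⊤ := by
    refine triv_of_charts fun x _ => ?_
    obtain ⟨W₀, hxW₀, hW₀⟩ := exists_triv (L.restrict W.ι) hM x
    obtain ⟨_, ⟨f, rfl⟩, hxf, hfW'⟩ :=
      Opens.isBasis_iff_nbhd.1 (isBasis_basicOpen (W : Scheme.{u})) hxW₀
    have hf : f ≠ 0 := by
      rintro rfl
      rw [Scheme.basicOpen_zero] at hxf
      exact hxf
    obtain ⟨e, he⟩ := hW₀.mono hfW'
    exact ⟨⟨f, hf, le_top, e, he⟩, hxf⟩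
  have h2 := Triv.of_restrict W.ι h1
  exact h2.of_eq (by rw [Scheme.Hom.image_top_eq_opensRange, Scheme.Opens.opensRange_ι])

end Generic

section Pn

variable (n : ℕ) (R : Type u) [CommRing R] [IsDomain R]

local notation "PJ" => Proj (CohB1.polyGrading n R)

theorem nonempty_U (i : Fin (n + 1)) : Nonempty (U n R i) := by
  by_contra h
  rw [not_nonempty_iff] at h
  have h1 : U n R i = ⊥ := by
    ext x
    simp only [Opens.coe_bot, Set.mem_empty_iff_false, iff_false]
    exact fun hx => h.false ⟨x, hx⟩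
  haveI := isDomain_U n R i
  have h2 : Subsingleton Γ(PJ, U n R i) := by
    rw [h1]
    infer_instance
  exact not_subsingleton Γ(PJ, U n R i) h2

instance isIntegral_PJ : IsIntegral PJ := Groth.Agent.Lib.R2H1.PLineA.isIntegral_projSpace n R

/-- finite intersections of charts are nonempty. -/
theorem nonempty_inf_U (i j : Fin (n + 1)) : Nonempty (U n R i ⊓ U n R j : (PJ).Opens) := by
  obtain ⟨x, hx⟩ := nonempty_U n R i
  obtain ⟨y, hy⟩ := nonempty_U n R j
  obtain ⟨z, hz1, hz2⟩ := nonempty_preirreducible_inter (U n R i).isOpen (U n R j).isOpen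
    ⟨x, hx⟩ ⟨y, hy⟩
  exact ⟨⟨z, hz1, hz2⟩⟩

theorem nonempty_inf3_U (i j l : Fin (n + 1)) :
    Nonempty (U n R i ⊓ U n R j ⊓ U n R l : (PJ).Opens) := by
  obtain ⟨x, hx⟩ := nonempty_inf_U n R i j
  obtain ⟨y, hy⟩ := nonempty_U n R l
  obtain ⟨z, hz1, hz2⟩ := nonempty_preirreducible_inter (U n R i ⊓ U n R j).isOpen
    (U n R l).isOpen ⟨x, hx⟩ ⟨y, hy⟩
  exact ⟨⟨z, hz1, hz2⟩⟩

theorem triv_U [UniqueFactorizationMonoid R] (L : (PJ).Modules) (hL : PicF.IsInvertible L)
    (i : Fin (n + 1)) : Triv L (U n R i) := by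
  haveI := nonempty_U n R i
  exact triv_of_affine_ufd (U n R i) (isAffineOpen_U n R i) (ufd_U n R i) L hL

theorem basicOpen_dh (i j : Fin (n + 1)) :
    (PJ).basicOpen (dh n R i (MvPolynomial.X j)) = U n R j ⊓ U n R i :=
  basicOpen_dehom (X_mem_one n R j) (X_mem_one n R i)

/-- units on `D₊(T_i T_j)`. -/
theorem exists_unit_pow_chart (i j : Fin (n + 1)) (h : j ≠ i)
    (u : Γ(PJ, (PJ).basicOpen (dh n R i (MvPolynomial.X j)))) (hu : IsUnit u) :
    ∃ (c : R) (p q : ℕ), IsUnit c ∧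
      u * resW (dh n R i (MvPolynomial.X j)) (dh n R i (MvPolynomial.X j)) ^ q =
        resW (dh n R i (MvPolynomial.X j)) (dh n R i (MvPolynomial.C c)) *
          resW (dh n R i (MvPolynomial.X j)) (dh n R i (MvPolynomial.X j)) ^ p := by
  haveI := isDomain_U n R i
  haveI := (isAffineOpen_U n R i).isLocalization_basicOpen (dh n R i (MvPolynomial.X j))
  obtain ⟨a, p, q, ha, h1⟩ := exists_unit_pow (dh n R i (MvPolynomial.X j)) (prime_dh n R i j h) u hu
  obtain ⟨c, hc, rfl⟩ := isUnit_U n R i a ha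
  exact ⟨c, p, q, hc, h1⟩

/-- Hartogs on a chart: functions extend over the complement of `D(T_j/T_i) ∪ D(T_l/T_i)`. -/
theorem bijective_res_chart (i j l : Fin (n + 1)) (hj : j ≠ i) (hl : l ≠ i) (hjl : j ≠ l)
    (W' : (PJ).Opens) (hW' : W' ≤ U n R i) (h1 : U n R j ⊓ U n R i ≤ W')
    (h2 : U n R l ⊓ U n R i ≤ W') :
    Function.Bijective ((PJ).presheaf.map (homOfLE hW').op) := by
  haveI := isDomain_U n R i
  refine bijective_res_of_isAffineOpen (isAffineOpen_U n R i) (dh n R i (MvPolynomial.X j))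
    (dh n R i (MvPolynomial.X l)) ?_ ?_ W' hW' ?_ ?_
  · exact (isRegular_of_ne_zero (prime_dh n R i j hj).ne_zero).left.isSMulRegular
  · rintro u ⟨v, hv⟩
    have hd : dh n R i (MvPolynomial.X j) ∣ dh n R i (MvPolynomial.X l) * u := ⟨v, hv⟩
    rcases (prime_dh n R i j hj).dvd_or_dvd hd with h | h
    · exact absurd h (not_dh_dvd_dh n R i j l hj hl hjl)
    · exact h
  · rw [basicOpen_dh]; exact h1
  · rw [basicOpen_dh]; exact h2

end Pn

end Part3

section Part4

open Groth.Agent.Lib.Helper6 Groth.Agent.Lib.Helper23.SecTw Groth.Agent.Lib.Helper23.GenLocus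
open Groth.Agent.Lib.Helper20.ParaFLib Groth.Agent.Lib.Helper20.UFDPic

variable {X : Scheme.{u}}

/-- glue two sections agreeing on the overlap. -/
theorem exists_glue2 (M : X.Modules) (A B : X.Opens) (a : Γ(M, A)) (b : Γ(M, B))
    (h : res M (inf_le_left : A ⊓ B ≤ A) a = res M (inf_le_right : A ⊓ B ≤ B) b) :
    ∃ s : Γ(M, A ⊔ B), res M le_sup_left s = a ∧ res M le_sup_right s = b := by
  let Wf : Bool → X.Opens := fun t => if t then A else B
  have hle : ∀ t, Wf t ≤ A ⊔ B := by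
    intro t
    cases t
    · exact le_sup_right
    · exact le_sup_left
  let sf : ∀ t, Γ(M, Wf t) := fun t => match t with
    | true => a
    | false => b
  have hcompat : TopCat.Presheaf.IsCompatible M.presheaf Wf sf := by
    intro t t'
    cases t <;> cases t'
    · rfl
    · have h' := congrArg (res M (show B ⊓ A ≤ A ⊓ B from le_of_eq (inf_comm _ _))) h
      simp only [res_res] at h'
      exact h'.symm
    · exact h
    · rfl
  have hcov : A ⊔ B ≤ ⨆ t, Wf t := by
    intro x hx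
    rcases hx with hx | hx
    · exact Opens.mem_iSup.2 ⟨true, hx⟩
    · exact Opens.mem_iSup.2 ⟨false, hx⟩
  obtain ⟨s0, hs0, -⟩ := (modSheaf M).existsUnique_gluing' Wf (A ⊔ B)
    (fun t => homOfLE (hle t)) hcov sf hcompat
  exact ⟨s0, hs0 true, hs0 false⟩

/-- extend a generator from `A'` to `A`, when functions extend uniquely. -/
theorem exists_gen_extend (N : X.Modules) {A A' : X.Opens} (hA' : A' ≤ A) {g : Γ(N, A)}
    (hg : IsGen N A g) (hbij : Function.Bijective (X.presheaf.map (homOfLE hA').op))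
    (σ : Γ(N, A')) (hσ : IsGen N A' σ) :
    ∃ s : Γ(N, A), IsGen N A s ∧ res N hA' s = σ := by
  have hg' := hg.mono hA'
  have hu : IsUnit (coef hg' le_rfl σ) := Groth.Agent.Lib.Helper23.PB.isUnit_coef_of_isGen hg' hσ
  have hspec := coef_spec hg' le_rfl σ
  rw [res_self] at hspec
  obtain ⟨h', hh'⟩ := hbij.2 (coef hg' le_rfl σ)
  have hu' : IsUnit h' := by
    let e : Γ(X, A) ≃+* Γ(X, A') := RingEquiv.ofBijective (X.presheaf.map (homOfLE hA').op).hom hbij
    have : IsUnit (e h') := by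
      change IsUnit ((X.presheaf.map (homOfLE hA').op) h')
      rw [hh']; exact hu
    exact (isUnit_map_iff e h').mp this
  refine ⟨h' • g, isGen_unit_smul hg h' hu', ?_⟩
  rw [res_smul]
  change (X.presheaf.map (homOfLE hA').op) h' • _ = _
  rw [hh']
  exact hspec

/-- on an integral scheme, sections of a module with a generator are determined on nonempty
opens. -/
theorem res_injective_of_isGen [IsIntegral X] (N : X.Modules) {A A' : X.Opens} (hA' : A' ≤ A)
    [Nonempty A'] {g : Γ(N, A)} (hg : IsGen N A g) :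
    Function.Injective (res N hA') := by
  intro s t hst
  obtain ⟨r, hr⟩ := (hg A le_rfl).2 s
  obtain ⟨r', hr'⟩ := (hg A le_rfl).2 t
  simp only [res_self] at hr hr'
  rw [← hr, ← hr'] at hst ⊢
  rw [res_smul, res_smul] at hst
  have h1 : resf hA' r = resf hA' r' := (hg A' hA').1 hst
  have h2 : r = r' := map_injective_of_isIntegral X (homOfLE hA') h1
  rw [h2]

end Part4

section Part5

open Groth.Agent.Lib.Helper27PnChart Groth.Agent.Helper13Dehom




open Groth.Agent.Lib.Helper6 Groth.Agent.Lib.Helper23.SecTw Groth.Agent.Lib.Helper23.GenLocus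
open Groth.Agent.Lib.Helper20.ParaFLib Groth.Agent.Lib.Helper20.UFDPic
open Groth.Agent.Lib.Helper22.Hartogs
open Groth.Agent.Lib.Helper27GrTildeSect

variable (n : ℕ) (R : Type u) [CommRing R]

local notation "PJ" => Proj (CohB1.polyGrading n R)

/-- the standard generator `T_i^p / T_i^q` of `O(m)` on the chart `U_i`. -/
noncomputable def zs (i : Fin (n + 1)) (m : ℤ) (p q : ℕ) (hm : (p : ℤ) = q + m) :
    Γ(GrTilde.tilde (CohB1.polyGrading n R) (CohB1.polyGrading n R) m, U n R i) :=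
  zsec (X_mem_one n R i) m p q hm

theorem isGen_zs (i : Fin (n + 1)) (m : ℤ) (p q : ℕ) (hm : (p : ℤ) = q + m) :
    IsGen (GrTilde.tilde (CohB1.polyGrading n R) (CohB1.polyGrading n R) m) (U n R i)
      (zs n R i m p q hm) :=
  isGen_zsec (X_mem_one n R i) m p q hm

theorem zs_overlap (i₀ i₁ : Fin (n + 1)) (m : ℤ) (p q : ℕ) (hm : (p : ℤ) = q + m)
    (W : (PJ).Opens) (hW0 : W ≤ U n R i₀) (hW1 : W ≤ U n R i₁) :
    (resf hW0 (dh n R i₀ (MvPolynomial.X i₁))) ^ p •
        res (GrTilde.tilde (CohB1.polyGrading n R) (CohB1.polyGrading n R) m) hW0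
          (zs n R i₀ m p q hm) =
      (resf hW0 (dh n R i₀ (MvPolynomial.X i₁))) ^ q •
        res (GrTilde.tilde (CohB1.polyGrading n R) (CohB1.polyGrading n R) m) hW1
          (zs n R i₁ m p q hm) := by
  apply sec_ext
  intro y hy
  have hy0 := hW0 hy
  have hy1 := hW1 hy
  have h0 : (MvPolynomial.X i₀ : MvPolynomial (Fin (n + 1)) R) ∉ y.asHomogeneousIdeal :=
    (ProjectiveSpectrum.mem_basicOpen _ _ y).mp hy0
  have h1 : (MvPolynomial.X i₁ : MvPolynomial (Fin (n + 1)) R) ∉ y.asHomogeneousIdeal :=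
    (ProjectiveSpectrum.mem_basicOpen _ _ y).mp hy1
  have hx : (funVal (CohB1.polyGrading n R) W (resf hW0 (dh n R i₀ (MvPolynomial.X i₁))) y hy).val =
      (Localization.mk (MvPolynomial.X i₁) (⟨MvPolynomial.X i₀ ^ 1, pow_not_mem 1 ⟨y, hy0⟩⟩ :
        y.asHomogeneousIdeal.toIdeal.primeCompl) : Twist.Loc (CohB1.polyGrading n R) y) :=
    funVal_dehom (X_mem_one n R i₀) (X_mem_one n R i₁) y hy0
  change ((funVal (CohB1.polyGrading n R) W (resf hW0 (dh n R i₀ (MvPolynomial.X i₁))) y hy) ^ p).val *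
      (Localization.mk (MvPolynomial.X i₀ ^ p) (⟨MvPolynomial.X i₀ ^ q, pow_not_mem q ⟨y, hy0⟩⟩ :
        y.asHomogeneousIdeal.toIdeal.primeCompl) : Twist.Loc (CohB1.polyGrading n R) y) =
    ((funVal (CohB1.polyGrading n R) W (resf hW0 (dh n R i₀ (MvPolynomial.X i₁))) y hy) ^ q).val *
      (Localization.mk (MvPolynomial.X i₁ ^ p) (⟨MvPolynomial.X i₁ ^ q, pow_not_mem q ⟨y, hy1⟩⟩ :
        y.asHomogeneousIdeal.toIdeal.primeCompl) : Twist.Loc (CohB1.polyGrading n R) y)
  rw [HomogeneousLocalization.val_pow, HomogeneousLocalization.val_pow, hx, Localization.mk_pow,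
    Localization.mk_pow, Localization.mk_mul, Localization.mk_mul, Localization.mk_eq_mk_iff,
    Localization.r_iff_exists]
  refine ⟨1, ?_⟩
  simp only [OneMemClass.coe_one, one_mul, Submonoid.coe_mul, SubmonoidClass.coe_pow, pow_one]
  ring

section Main

theorem resf_mul' {Y : Scheme.{u}} {A B : Y.Opens} (h : B ≤ A) (a b : Γ(Y, A)) :
    resf h (a * b) = resf h a * resf h b := map_mul _ _ _

theorem resf_one' {Y : Scheme.{u}} {A B : Y.Opens} (h : B ≤ A) :
    resf h (1 : Γ(Y, A)) = 1 := map_one _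

variable [IsDomain R] [UniqueFactorizationMonoid R]

theorem exists_twist_gen_V (i₀ i₁ : Fin (n + 1)) (h01 : i₁ ≠ i₀) (L : (PJ).Modules)
    (hL : PicF.IsInvertible L) :
    ∃ (m : ℤ) (σ : Γ(CohB1.tensorMod L
        (GrTilde.tilde (CohB1.polyGrading n R) (CohB1.polyGrading n R) m), U n R i₀ ⊔ U n R i₁)),
      IsGen (CohB1.tensorMod L
        (GrTilde.tilde (CohB1.polyGrading n R) (CohB1.polyGrading n R) m))
        (U n R i₀ ⊔ U n R i₁) σ := by
  obtain ⟨e0, he0⟩ := triv_U n R L hL i₀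
  obtain ⟨e1, he1⟩ := triv_U n R L hL i₁
  have hW0 : (PJ).basicOpen (dh n R i₀ (MvPolynomial.X i₁)) ≤ U n R i₀ := (PJ).basicOpen_le _
  have hW1 : (PJ).basicOpen (dh n R i₀ (MvPolynomial.X i₁)) ≤ U n R i₁ :=
    (basicOpen_dh n R i₀ i₁).le.trans inf_le_left
  have he0W := he0.mono hW0
  have he1W := he1.mono hW1
  have hu : IsUnit (coef he1W le_rfl (res L hW0 e0)) :=
    Groth.Agent.Lib.Helper23.PB.isUnit_coef_of_isGen he1W he0W
  have huspec := coef_spec he1W le_rfl (res L hW0 e0)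
  rw [res_self] at huspec
  obtain ⟨c, p, q, hc, hupq⟩ := exists_unit_pow_chart n R i₀ i₁ h01 _ hu
  have ha : IsUnit (dh n R i₀ (MvPolynomial.C c)) :=
    (hc.map (MvPolynomial.C (σ := Fin (n + 1)))).map (dh n R i₀)
  obtain ⟨a', ha'⟩ := ha.exists_left_inv
  have ha'u : IsUnit a' := IsUnit.of_mul_eq_one _ ha'
  have he0' : IsGen L (U n R i₀) (a' • e0) := isGen_unit_smul he0 a' ha'u
  have key : (resf hW0 (dh n R i₀ (MvPolynomial.X i₁))) ^ q • res L hW0 (a' • e0) =
      (resf hW0 (dh n R i₀ (MvPolynomial.X i₁))) ^ p • res L hW1 e1 := by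
    have hupq' : coef he1W le_rfl (res L hW0 e0) * resf hW0 (dh n R i₀ (MvPolynomial.X i₁)) ^ q =
        resf hW0 (dh n R i₀ (MvPolynomial.C c)) * resf hW0 (dh n R i₀ (MvPolynomial.X i₁)) ^ p :=
      hupq
    have h1 : resf hW0 a' * resf hW0 (dh n R i₀ (MvPolynomial.C c)) = 1 := by
      rw [← resf_mul', ha', resf_one']
    have hcoef : resf hW0 (dh n R i₀ (MvPolynomial.X i₁)) ^ q * resf hW0 a' *
          coef he1W le_rfl (res L hW0 e0) = resf hW0 (dh n R i₀ (MvPolynomial.X i₁)) ^ p := by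
      calc resf hW0 (dh n R i₀ (MvPolynomial.X i₁)) ^ q * resf hW0 a' *
            coef he1W le_rfl (res L hW0 e0)
          = resf hW0 a' * (coef he1W le_rfl (res L hW0 e0) *
              resf hW0 (dh n R i₀ (MvPolynomial.X i₁)) ^ q) := by ring
        _ = (resf hW0 a' * resf hW0 (dh n R i₀ (MvPolynomial.C c))) *
              resf hW0 (dh n R i₀ (MvPolynomial.X i₁)) ^ p := by
            rw [hupq']; ring
        _ = _ := by rw [h1, one_mul]
    rw [res_smul, ← huspec, smul_smul, smul_smul, hcoef]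
  have hm : (p : ℤ) = q + ((p : ℤ) - q) := by ring
  refine ⟨(p : ℤ) - q, ?_⟩
  have hz := zs_overlap n R i₀ i₁ ((p : ℤ) - q) p q hm _ hW0 hW1
  have hx : IsUnit (resf hW0 (dh n R i₀ (MvPolynomial.X i₁))) :=
    isUnit_resW (dh n R i₀ (MvPolynomial.X i₁))
  have hg0 := isGen_tm L _ _ _ _ he0' (isGen_zs n R i₀ ((p : ℤ) - q) p q hm)
  have hg1 := isGen_tm L _ _ _ _ he1 (isGen_zs n R i₁ ((p : ℤ) - q) p q hm)
  have hres : res _ hW0 (tm L _ _ (a' • e0) (zs n R i₀ ((p : ℤ) - q) p q hm)) =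
      res _ hW1 (tm L _ _ e1 (zs n R i₁ ((p : ℤ) - q) p q hm)) := by
    rw [res_tm, res_tm]
    apply (hx.pow (q + p)).smul_left_cancel.mp
    rw [pow_add, mul_smul, ← tm_smul_right, ← tm_smul_left, key, hz, tm_smul_left, tm_smul_right]
    simp only [smul_smul]
    rw [mul_comm]
  have hle : U n R i₀ ⊓ U n R i₁ ≤ (PJ).basicOpen (dh n R i₀ (MvPolynomial.X i₁)) := by
    rw [basicOpen_dh, inf_comm]
  have hres' := congrArg (res _ hle) hres
  simp only [res_res] at hres'
  obtain ⟨σ, hσ0, hσ1⟩ := exists_glue2 _ (U n R i₀) (U n R i₁) _ _ hres'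
  refine ⟨σ, isGen_of_local _ _ σ fun x hx => ?_⟩
  rcases hx with hx | hx
  · exact ⟨U n R i₀, le_sup_left, hx, by rw [hσ0]; exact hg0⟩
  · exact ⟨U n R i₁, le_sup_right, hx, by rw [hσ1]; exact hg1⟩

end Main

end Part5

section Part6

open Groth.Agent.Lib.Helper27PnChart Groth.Agent.Helper13Dehom





open Groth.Agent.Lib.Helper6 Groth.Agent.Lib.Helper23.SecTw Groth.Agent.Lib.Helper23.GenLocus
open Groth.Agent.Lib.Helper20.ParaFLib Groth.Agent.Lib.Helper20.UFDPic
open Groth.Agent.Lib.Helper22.Hartogs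
open Groth.Agent.Lib.Helper27GrTildeSect

variable (n : ℕ) (R : Type u) [CommRing R] [IsDomain R] [UniqueFactorizationMonoid R]

local notation "PJ" => Proj (CohB1.polyGrading n R)

theorem exists_twist_triv (i₀ i₁ : Fin (n + 1)) (h01 : i₁ ≠ i₀) (L : (PJ).Modules)
    (hL : PicF.IsInvertible L) :
    ∃ m : ℤ, Triv (CohB1.tensorMod L
        (GrTilde.tilde (CohB1.polyGrading n R) (CohB1.polyGrading n R) m)) ⊤ := by
  obtain ⟨m, σ, hσ⟩ := exists_twist_gen_V n R i₀ i₁ h01 L hL
  refine ⟨m, ?_⟩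
  have hmm : ((m.toNat : ℕ) : ℤ) = ((-m).toNat : ℕ) + m := by omega
  -- extension to each chart
  have hext : ∀ i : Fin (n + 1), ∃ s : Γ(CohB1.tensorMod L
        (GrTilde.tilde (CohB1.polyGrading n R) (CohB1.polyGrading n R) m), U n R i),
      IsGen _ (U n R i) s ∧
        res _ (inf_le_left : U n R i ⊓ (U n R i₀ ⊔ U n R i₁) ≤ U n R i) s =
          res _ (inf_le_right : U n R i ⊓ (U n R i₀ ⊔ U n R i₁) ≤ U n R i₀ ⊔ U n R i₁) σ := by
    intro i
    by_cases hi0 : i = i₀
    · subst hi0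
      exact ⟨res _ le_sup_left σ, hσ.mono le_sup_left, by rw [res_res]⟩
    by_cases hi1 : i = i₁
    · subst hi1
      exact ⟨res _ le_sup_right σ, hσ.mono le_sup_right, by rw [res_res]⟩
    obtain ⟨ei, hei⟩ := triv_U n R L hL i
    have hg := isGen_tm L _ _ _ _ hei (isGen_zs n R i m m.toNat (-m).toNat hmm)
    have hbij := bijective_res_chart n R i i₀ i₁ (Ne.symm hi0) (Ne.symm hi1) (Ne.symm h01)
      (U n R i ⊓ (U n R i₀ ⊔ U n R i₁)) inf_le_left
      (le_inf inf_le_right (inf_le_left.trans le_sup_left))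
      (le_inf inf_le_right (inf_le_left.trans le_sup_right))
    exact exists_gen_extend _ inf_le_left hg hbij _ (hσ.mono inf_le_right)
  choose s hs hsV using hext
  have hcompat : TopCat.Presheaf.IsCompatible (CohB1.tensorMod L
      (GrTilde.tilde (CohB1.polyGrading n R) (CohB1.polyGrading n R) m)).presheaf
      (fun i => U n R i) s := by
    intro i j
    change res _ inf_le_left (s i) = res _ inf_le_right (s j)
    haveI : Nonempty (U n R i ⊓ U n R j ⊓ (U n R i₀ ⊔ U n R i₁) : (PJ).Opens) := by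
      obtain ⟨x, hx⟩ := nonempty_inf3_U n R i j i₀
      exact ⟨⟨x, hx.1, Or.inl hx.2⟩⟩
    apply res_injective_of_isGen _
      (inf_le_left : U n R i ⊓ U n R j ⊓ (U n R i₀ ⊔ U n R i₁) ≤ U n R i ⊓ U n R j)
      ((hs i).mono inf_le_left)
    rw [res_res, res_res]
    have h1 := congrArg (res _ (le_inf (inf_le_left.trans inf_le_left) inf_le_right :
      U n R i ⊓ U n R j ⊓ (U n R i₀ ⊔ U n R i₁) ≤ U n R i ⊓ (U n R i₀ ⊔ U n R i₁))) (hsV i)
    have h2 := congrArg (res _ (le_inf (inf_le_left.trans inf_le_right) inf_le_right :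
      U n R i ⊓ U n R j ⊓ (U n R i₀ ⊔ U n R i₁) ≤ U n R j ⊓ (U n R i₀ ⊔ U n R i₁))) (hsV j)
    rw [res_res, res_res] at h1 h2
    exact h1.trans h2.symm
  have hcov : (⊤ : (PJ).Opens) ≤ ⨆ i, U n R i := by rw [iSup_U]
  obtain ⟨s0, hs0, -⟩ := (modSheaf (CohB1.tensorMod L
      (GrTilde.tilde (CohB1.polyGrading n R) (CohB1.polyGrading n R) m))).existsUnique_gluing'
    (fun i => U n R i) ⊤ (fun i => homOfLE le_top) hcov s hcompat
  refine ⟨s0, isGen_of_local _ _ s0 fun x _ => ?_⟩
  have hx : x ∈ ⨆ i, U n R i := by rw [iSup_U]; trivial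
  obtain ⟨i, hi⟩ := Opens.mem_iSup.1 hx
  refine ⟨U n R i, le_top, hi, ?_⟩
  have : res _ le_top s0 = s i := hs0 i
  rw [this]
  exact hs i

end Part6

section Part7

open Groth.Agent.Lib.Helper27PnChart Groth.Agent.Helper13Dehom






open Groth.Agent.Lib.Helper6 Groth.Agent.Lib.Helper23.SecTw Groth.Agent.Lib.Helper23.GenLocus
open Groth.Agent.Lib.Helper20.ParaFLib Groth.Agent.Lib.Helper20.UFDPic
open Groth.Agent.Lib.Helper27GrTildeSect
open Groth.Agent.Lib.R2H4TensorPows

section UFD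

variable (n : ℕ) (R : Type u) [CommRing R] [IsDomain R] [UniqueFactorizationMonoid R]

local notation "PJ" => Proj (CohB1.polyGrading n R)

/-- cancel a twist. -/
theorem nonempty_iso_twist_of_triv (L : (PJ).Modules) (m : ℤ)
    (h : Triv (CohB1.tensorMod L
        (GrTilde.tilde (CohB1.polyGrading n R) (CohB1.polyGrading n R) m)) ⊤) :
    Nonempty (L ≅ Twist.twistProjSpace n R (-m)) := by
  obtain ⟨φ⟩ := nonempty_iso_of_triv_top _ h
  obtain ⟨e1⟩ := Groth.Agent.Lib.R2Lead.KRR.nonempty_twistProjSpace_tensor_iso n R m (-m)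
  obtain ⟨z⟩ := Groth.Agent.Lib.R2Lead.KRR.nonempty_twistProjSpace_zero_iso n R
  have e2 : CohB1.tensorMod (Twist.twistProjSpace n R m) (Twist.twistProjSpace n R (-m)) ≅
      Coh.structureModule (CohB1.ProjSpace n R) := e1 ≪≫ eqToIso (by rw [add_neg_cancel]) ≪≫ z
  have e3 := Groth.Agent.Lib.R2H1.DegCartier.tensorInvIso L (Twist.twistProjSpace n R m)
    (Twist.twistProjSpace n R (-m)) e2
  have e4 : Twist.twistProjSpace n R (-m) ≅ L :=
    (lUnit (Twist.twistProjSpace n R (-m))).symm ≪≫ tIso φ.symm (Iso.refl _) ≪≫ e3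
  exact ⟨e4.symm⟩

theorem exists_iso_twist_zero (L : (Proj (CohB1.polyGrading 0 R)).Modules)
    (hL : PicF.IsInvertible L) : Nonempty (L ≅ Twist.twistProjSpace 0 R 0) := by
  have h0 : (⊤ : (Proj (CohB1.polyGrading 0 R)).Opens) ≤ U 0 R 0 := by
    intro x _
    have hx : x ∈ ⨆ i, U 0 R i := by rw [iSup_U]; trivial
    obtain ⟨i, hi⟩ := Opens.mem_iSup.1 hx
    have hi0 : i = 0 := by
      apply Fin.ext
      have := i.isLt
      simp only [Fin.val_zero]
      omega
    rwa [hi0] at hi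
  have h1 : Triv L ⊤ := (triv_U 0 R L hL 0).mono h0
  obtain ⟨φ⟩ := nonempty_iso_of_triv_top _ h1
  obtain ⟨z⟩ := Groth.Agent.Lib.R2Lead.KRR.nonempty_twistProjSpace_zero_iso 0 R
  exact ⟨φ ≪≫ z.symm⟩

/-- **every invertible module on projective space over a factorial domain is a twist** -/
theorem exists_iso_twist (L : (CohB1.ProjSpace n R).Modules) (hL : PicF.IsInvertible L) :
    ∃ d : ℤ, Nonempty (L ≅ Twist.twistProjSpace n R d) := by
  rcases n with _ | k
  · exact ⟨0, exists_iso_twist_zero R L hL⟩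
  · obtain ⟨m, hm⟩ := exists_twist_triv (k + 1) R 0 1 (by simp) L hL
    exact ⟨-m, nonempty_iso_twist_of_triv (k + 1) R L m hm⟩

end UFD

section Field

variable (K : Type u) [Field K] (n : ℕ)

theorem twist_injective (hn : 1 ≤ n) (d d' : ℤ)
    (h : Nonempty (Twist.twistProjSpace n K d ≅ Twist.twistProjSpace n K d')) : d = d' := by
  obtain ⟨ψ⟩ := h
  -- `O(d - d') ≅ O`
  have key : ∀ a b : ℤ, Nonempty (Twist.twistProjSpace n K a ≅ Twist.twistProjSpace n K b) →
      0 ≤ a - b := by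
    intro a b ⟨ψ⟩
    by_contra hneg
    push_neg at hneg
    obtain ⟨e1⟩ := Groth.Agent.Lib.R2Lead.KRR.nonempty_twistProjSpace_tensor_iso n K a (-b)
    obtain ⟨e2⟩ := Groth.Agent.Lib.R2Lead.KRR.nonempty_twistProjSpace_tensor_iso n K b (-b)
    have e3 : Twist.twistProjSpace n K (a + -b) ≅ Twist.twistProjSpace n K (b + -b) :=
      e1.symm ≪≫ tIso ψ (Iso.refl _) ≪≫ e2
    have h1 := Groth.Agent.Lib.R2H2.ClosedPnLin.finrank_HH_of_iso (A := K) e3 0
    have h2 : Module.finrank K (Coh.HH (CohB1.ProjSpace n K)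
        (Twist.twistProjSpace n K (a + -b)) 0) = 0 :=
      Groth.Agent.Lib.R2H2.PnEuler.finrank_HH_zero K n (a + -b) 0 (by omega) (by omega)
    have h3 : Module.finrank K (Coh.HH (CohB1.ProjSpace n K)
        (Twist.twistProjSpace n K (b + -b)) 0) = 1 := by
      have := Groth.Agent.Lib.R2H2.PnEuler.finrank_HH_nonneg K n 0
      rw [add_neg_cancel]
      simpa using this
    omega
  have h1 := key d d' ⟨ψ⟩
  have h2 := key d' d ⟨ψ.symm⟩
  omega

/-- **S10960** -/
theorem existsUnique_twist (hn : 1 ≤ n) (M : (CohB1.ProjSpace n K).Modules)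
    (hM : PicF.IsInvertible M) :
    ∃! d : ℤ, Nonempty (M ≅ Twist.twistProjSpace n K d) := by
  obtain ⟨d, ⟨φ⟩⟩ := exists_iso_twist n K M hM
  refine ⟨d, ⟨φ⟩, ?_⟩
  rintro d' ⟨φ'⟩
  exact twist_injective K n hn d' d ⟨φ'.symm ≪≫ φ⟩

end Field

end Part7

end Groth.Agent.Lib.R2H1.PicPn
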