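import Mathlib
import Groth.Agent.Lib.Helper6OmProjA

set_option autoImplicit false
set_option linter.style.haveILetI false
universe u

namespace Groth.Agent.Lib.R2Lead.JacHyp

open IsLocalRing TensorProduct KaehlerDifferential Groth.Agent.Lib.Helper6.OmProj

variable (A B R : Type u) [CommRing A] [CommRing B] [CommRing R] [Algebra A B] [Algebra B R]
  [Algebra A R] [IsScalarTower A B R]

/-- **Jacobian criterion for a hypersurface** in a smooth algebra: `R = B/(g)` with `g` regular is
smooth over `A` at `p` iff `dg` does not vanish in the fibre of `Ω[B/A]` at `p`. -/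
theorem mem_smoothLocus_iff [Algebra.Smooth A B] (g : B) (hg : IsSMulRegular B g)
    (hsurj : Function.Surjective (algebraMap B R))
    (hker : RingHom.ker (algebraMap B R) = Ideal.span {g}) (p : PrimeSpectrum R) :
    p ∈ Algebra.smoothLocus A R ↔
      (1 : p.asIdeal.ResidueField) ⊗ₜ[B] D A B g ≠ 0 := by
  classical
  let q : Ideal B := p.asIdeal.comap (algebraMap B R)
  have hq : q = p.asIdeal.comap (algebraMap B R) := rfl
  let φ : Localization.AtPrime q →+* Localization.AtPrime p.asIdeal :=
    Localization.localRingHom q p.asIdeal (algebraMap B R) hq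
  letI : Algebra (Localization.AtPrime q) (Localization.AtPrime p.asIdeal) := φ.toAlgebra
  have hφ : ∀ y, algebraMap (Localization.AtPrime q) (Localization.AtPrime p.asIdeal) y = φ y :=
    fun y => rfl
  haveI : IsScalarTower A (Localization.AtPrime q) (Localization.AtPrime p.asIdeal) := by
    refine IsScalarTower.of_algebraMap_eq (fun c => ?_)
    rw [hφ, IsScalarTower.algebraMap_apply A B (Localization.AtPrime q),
      Localization.localRingHom_to_map,
      IsScalarTower.algebraMap_apply A R (Localization.AtPrime p.asIdeal),
      IsScalarTower.algebraMap_apply A B R]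
  have hsurjφ : Function.Surjective
      (algebraMap (Localization.AtPrime q) (Localization.AtPrime p.asIdeal)) :=
    localRingHom_surjective (algebraMap B R) hsurj p.asIdeal q hq
  -- the generator of the kernel
  let g' : Localization.AtPrime q := algebraMap B (Localization.AtPrime q) g
  have hg'mem : g' ∈ RingHom.ker (algebraMap (Localization.AtPrime q) (Localization.AtPrime p.asIdeal)) := by
    rw [RingHom.mem_ker, hφ, Localization.localRingHom_to_map]
    have : algebraMap B R g = 0 := by
      rw [← RingHom.mem_ker, hker]; exact Ideal.mem_span_singleton_self g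
    rw [this, map_zero]
  have hkerφ : RingHom.ker (algebraMap (Localization.AtPrime q) (Localization.AtPrime p.asIdeal)) =
      Ideal.span {g'} := by
    apply le_antisymm
    · intro y hy
      obtain ⟨x, hx, s', rfl⟩ := exists_of_localRingHom_eq_zero (algebraMap B R)
        hsurj p.asIdeal q hq y (RingHom.mem_ker.mp hy)
      rw [hker, Ideal.mem_span_singleton] at hx
      obtain ⟨c, rfl⟩ := hx
      have hmk : IsLocalization.mk' (Localization.AtPrime q) (g * c) s' =
          IsLocalization.mk' (Localization.AtPrime q) c s' * g' := by
        rw [mul_comm (IsLocalization.mk' (Localization.AtPrime q) c s') g',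
          IsLocalization.mul_mk'_eq_mk'_of_mul]
      rw [hmk]
      exact Ideal.mul_mem_left _ _ (Ideal.subset_span rfl)
    · rw [Ideal.span_le, Set.singleton_subset_iff]
      exact hg'mem
  -- the residue field as an algebra over everything
  haveI : IsScalarTower (Localization.AtPrime q) (Localization.AtPrime p.asIdeal) p.asIdeal.ResidueField :=
    inferInstance
  haveI : IsScalarTower B (Localization.AtPrime q) p.asIdeal.ResidueField := by
    refine IsScalarTower.of_algebraMap_eq (fun b => ?_)
    show algebraMap B p.asIdeal.ResidueField b = algebraMap (Localization.AtPrime p.asIdeal) p.asIdeal.ResidueField (φ (algebraMap B _ b))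
    rw [Localization.localRingHom_to_map, ← IsScalarTower.algebraMap_apply R,
      ← IsScalarTower.algebraMap_apply B R p.asIdeal.ResidueField]
  have h₃ : maximalIdeal (Localization.AtPrime p.asIdeal) ≤
      RingHom.ker (algebraMap (Localization.AtPrime p.asIdeal) p.asIdeal.ResidueField) := by
    intro x hx
    rw [RingHom.mem_ker]
    exact (residue_eq_zero_iff x).mpr hx
  -- finiteness
  haveI : Algebra.FormallySmooth B (Localization.AtPrime q) :=
    Algebra.FormallySmooth.of_isLocalization q.primeCompl
  haveI : Algebra.FormallySmooth A (Localization.AtPrime q) :=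
    Algebra.FormallySmooth.comp A B (Localization.AtPrime q)
  haveI : Algebra.EssFiniteType B (Localization.AtPrime q) :=
    Algebra.EssFiniteType.of_isLocalization _ q.primeCompl
  haveI : Algebra.EssFiniteType A (Localization.AtPrime q) :=
    Algebra.EssFiniteType.comp A B (Localization.AtPrime q)
  haveI : Module.Finite (Localization.AtPrime q) Ω[Localization.AtPrime q⁄A] := inferInstance
  haveI : Module.Free (Localization.AtPrime q) Ω[Localization.AtPrime q⁄A] :=
    Module.free_of_flat_of_isLocalRing
  have hfg : (RingHom.ker (algebraMap (Localization.AtPrime q) (Localization.AtPrime p.asIdeal))).FG := by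
    rw [hkerφ]; exact ⟨{g'}, by simp⟩
  -- the comparison `Θ`
  let Θ : p.asIdeal.ResidueField ⊗[B] Ω[B⁄A] ≃ₗ[p.asIdeal.ResidueField] p.asIdeal.ResidueField ⊗[Localization.AtPrime q] Ω[Localization.AtPrime q⁄A] :=
    (AlgebraTensorModule.cancelBaseChange B (Localization.AtPrime q) p.asIdeal.ResidueField p.asIdeal.ResidueField Ω[B⁄A]).symm ≪≫ₗ
    AlgebraTensorModule.congr (LinearEquiv.refl p.asIdeal.ResidueField p.asIdeal.ResidueField)
      (KaehlerDifferential.tensorKaehlerEquivOfFormallyEtale A B (Localization.AtPrime q))
  have hΘ : ∀ a : B, Θ ((1 : p.asIdeal.ResidueField) ⊗ₜ[B] D A B a) =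
      (1 : p.asIdeal.ResidueField) ⊗ₜ[Localization.AtPrime q]
        D A (Localization.AtPrime q) (algebraMap B (Localization.AtPrime q) a) := by
    intro a
    simp [Θ]
  have hΘg : (1 : p.asIdeal.ResidueField) ⊗ₜ[B] D A B g ≠ 0 ↔
      (1 : p.asIdeal.ResidueField) ⊗ₜ[Localization.AtPrime q] D A (Localization.AtPrime q) g' ≠ 0 := by
    rw [← hΘ g, Ne, Ne, LinearEquiv.map_eq_zero_iff]
  show Algebra.FormallySmooth A (Localization.AtPrime p.asIdeal) ↔ _
  rw [hΘg]
  -- regularity of `g'`
  have hgnzd : g ∈ nonZeroDivisors B := by
    rw [mem_nonZeroDivisors_iff_right]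
    intro x hx
    apply hg
    show g * x = g * 0
    rw [mul_zero, mul_comm, hx]
  have hg'nzd : g' ∈ nonZeroDivisors (Localization.AtPrime q) :=
    IsLocalization.map_nonZeroDivisors_le q.primeCompl (Localization.AtPrime q)
      (Submonoid.mem_map_of_mem _ hgnzd)
  constructor
  · intro hS hzero
    rw [Algebra.FormallySmooth.iff_injective_cotangentComplexBaseChange
      (Localization.AtPrime q) p.asIdeal.ResidueField hsurjφ hfg h₃] at hS
    let x : RingHom.ker (algebraMap (Localization.AtPrime q) (Localization.AtPrime p.asIdeal)) :=
      ⟨g', hg'mem⟩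
    have h1 : cotangentComplexBaseChange A (Localization.AtPrime p.asIdeal)
        (Localization.AtPrime q) p.asIdeal.ResidueField ((1 : p.asIdeal.ResidueField) ⊗ₜ x) = 0 := by
      rw [cotangentComplexBaseChange_tmul, one_smul, kerToTensor_apply]
      exact hzero
    have h2 : (1 : p.asIdeal.ResidueField) ⊗ₜ[Localization.AtPrime q] x = 0 :=
      hS (by rw [h1, map_zero])
    -- `ker` is free of rank one on `x`
    have hinj : Function.Injective (LinearMap.toSpanSingleton (Localization.AtPrime q)
        (RingHom.ker (algebraMap (Localization.AtPrime q) (Localization.AtPrime p.asIdeal))) x) := by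
      rw [injective_iff_map_eq_zero]
      intro b hb
      have hb' : b * g' = 0 := congrArg Subtype.val hb
      exact (mem_nonZeroDivisors_iff_right.mp hg'nzd) b hb'
    have hsurj' : Function.Surjective (LinearMap.toSpanSingleton (Localization.AtPrime q)
        (RingHom.ker (algebraMap (Localization.AtPrime q) (Localization.AtPrime p.asIdeal))) x) := by
      rintro ⟨y, hy⟩
      have hy' := hy
      rw [hkerφ, Ideal.mem_span_singleton] at hy'
      obtain ⟨c, rfl⟩ := hy'
      refine ⟨c, Subtype.ext ?_⟩
      show c * g' = g' * c
      rw [mul_comm]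
    let e : Localization.AtPrime q ≃ₗ[Localization.AtPrime q]
        RingHom.ker (algebraMap (Localization.AtPrime q) (Localization.AtPrime p.asIdeal)) :=
      LinearEquiv.ofBijective _ ⟨hinj, hsurj'⟩
    have h3 : (LinearEquiv.lTensor p.asIdeal.ResidueField e)
        ((1 : p.asIdeal.ResidueField) ⊗ₜ[Localization.AtPrime q] (1 : Localization.AtPrime q)) = 0 := by
      rw [LinearEquiv.lTensor_tmul]
      have : e 1 = x := by
        show (1 : Localization.AtPrime q) • x = x
        rw [one_smul]
      rw [this, h2]
    have h4 : (1 : p.asIdeal.ResidueField) ⊗ₜ[Localization.AtPrime q]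
        (1 : Localization.AtPrime q) = 0 := by
      rwa [LinearEquiv.map_eq_zero_iff] at h3
    have h5 := congrArg (TensorProduct.rid (Localization.AtPrime q) p.asIdeal.ResidueField) h4
    rw [TensorProduct.rid_tmul, one_smul, map_zero] at h5
    exact one_ne_zero h5
  · intro hne
    have hkerf : RingHom.ker (algebraMap (Localization.AtPrime q)
        (Localization.AtPrime p.asIdeal)) = Ideal.span (Set.range fun _ : Unit => g') := by
      rw [hkerφ, Set.range_const]
    refine formallySmooth_of_linearIndependent (k := A) (P := Localization.AtPrime q)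
      (S := Localization.AtPrime p.asIdeal) (K := p.asIdeal.ResidueField) hsurjφ
      (fun _ : Unit => g') hkerf h₃ ?_
    rw [linearIndependent_unique_iff]
    exact hne

end Groth.Agent.Lib.R2Lead.JacHyp
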