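import Mathlib
import Groth.Agent.Lib.R2H1PicPn
import Groth.Agent.Lib.R2H1HypIdeal
import Groth.Agent.Lib.Helper13ProjUPa
import Groth.Agent.S19185
set_option backward.isDefEq.respectTransparency.types false

/-!
# Charts of plane curves and the Jacobian criterion (helper1)

* dq n R i : dehomogenization T_i := 1 with values in MvPolynomial (Fin n) R; dh_eq : dh n R i P = θ' n R i (dq n R i P); Θ', quotEquiv
* smooth_iff_charts : Smooth (V_+(G) -> Spec k) iff all chart rings k[x_1..x_r]/(dq i G) are smooth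
* (r = 2) dq2_X0 ... dq0_X2, pt x y : k[X0,X1] -> K, jac_of_smooth, smooth_of_jac (Jacobian criterion via S19185.smooth_iff)
* SW a b (short Weierstrass cubic), disc_identity, exists_common_root, smooth_SW_iff (S7847)
-/

set_option autoImplicit false
set_option linter.style.haveILetI false
set_option linter.unusedSectionVars false
universe u v

open CategoryTheory CategoryTheory.Limits AlgebraicGeometry TopologicalSpace Opposite

namespace Groth.Agent.Lib.R2H1.PlaneChart

section Part1

open Groth.Agent.Lib.R2H1.PicPn Groth.Agent.Lib.Helper27PnChart Groth.Agent.Helper13Dehom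

variable (n : ℕ) (R : Type u) [CommRing R]

local notation "PJ" => Proj (CohB1.polyGrading n R)

/-- dehomogenization `T_i ↦ 1`, with values in the polynomial ring in `n` variables -/
noncomputable def dq (i : Fin (n + 1)) :
    MvPolynomial (Fin (n + 1)) R →ₐ[R] MvPolynomial (Fin n) R :=
  MvPolynomial.aeval (Fin.insertNth i (1 : MvPolynomial (Fin n) R) (fun j => MvPolynomial.X j))

theorem dq_X_self (i : Fin (n + 1)) : dq n R i (MvPolynomial.X i) = 1 := by
  simp [dq]

theorem dq_X_succAbove (i : Fin (n + 1)) (j : Fin n) :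
    dq n R i (MvPolynomial.X (i.succAbove j)) = MvPolynomial.X j := by
  simp [dq]

theorem dq_C (i : Fin (n + 1)) (c : R) : dq n R i (MvPolynomial.C c) = MvPolynomial.C c := by
  simp [dq]

/-- the coordinate ring of the chart, over `Fin n` -/
noncomputable def θ' (i : Fin (n + 1)) : MvPolynomial (Fin n) R →+* Γ(PJ, U n R i) :=
  (dh n R i).comp (MvPolynomial.rename (i.succAbove)).toRingHom

theorem θ'_X (i : Fin (n + 1)) (j : Fin n) :
    θ' n R i (MvPolynomial.X j) = dh n R i (MvPolynomial.X (i.succAbove j)) := by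
  simp [θ']

theorem θ'_C (i : Fin (n + 1)) (c : R) :
    θ' n R i (MvPolynomial.C c) = dh n R i (MvPolynomial.C c) := by
  simp [θ']

theorem θ'_eq (i : Fin (n + 1)) (q : MvPolynomial (Fin n) R) :
    θ' n R i q = θ n R i (MvPolynomial.rename (finSuccAboveEquiv i) q) := by
  simp only [θ', θ, RingHom.comp_apply, AlgHom.toRingHom_eq_coe, RingHom.coe_coe,
    MvPolynomial.rename_rename]
  rfl

theorem θ'_bijective (i : Fin (n + 1)) : Function.Bijective (θ' n R i) := by
  have h : (θ' n R i : MvPolynomial (Fin n) R → _) =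
      (θ n R i) ∘ (MvPolynomial.renameEquiv R (finSuccAboveEquiv i)) := by
    funext q
    rw [θ'_eq]
    rfl
  rw [h]
  exact (θ_bijective n R i).comp (MvPolynomial.renameEquiv R (finSuccAboveEquiv i)).bijective

/-- dehomogenization factors through the polynomial dehomogenization -/
theorem dh_eq (i : Fin (n + 1)) (P : MvPolynomial (Fin (n + 1)) R) :
    dh n R i P = θ' n R i (dq n R i P) := by
  have : dh n R i = (θ' n R i).comp (dq n R i).toRingHom := by
    apply MvPolynomial.ringHom_ext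
    · intro c
      simp only [RingHom.comp_apply, AlgHom.toRingHom_eq_coe, RingHom.coe_coe]
      rw [dq_C, θ'_C]
    · intro j
      simp only [RingHom.comp_apply, AlgHom.toRingHom_eq_coe, RingHom.coe_coe]
      rcases Fin.eq_self_or_eq_succAbove i j with rfl | ⟨l, rfl⟩
      · rw [dq_X_self, map_one, dh_self]
      · rw [dq_X_succAbove, θ'_X]
  rw [this]
  rfl

/-- the chart ring as a ring equivalence -/
noncomputable def Θ' (i : Fin (n + 1)) : MvPolynomial (Fin n) R ≃+* Γ(PJ, U n R i) :=
  RingEquiv.ofBijective (θ' n R i) (θ'_bijective n R i)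

theorem Θ'_apply (i : Fin (n + 1)) (q : MvPolynomial (Fin n) R) : Θ' n R i q = θ' n R i q := rfl

/-- the quotient of the chart ring by a dehomogenized form -/
noncomputable def quotEquiv (i : Fin (n + 1)) (P : MvPolynomial (Fin (n + 1)) R) :
    (MvPolynomial (Fin n) R ⧸ Ideal.span {dq n R i P}) ≃+*
      (Γ(PJ, U n R i) ⧸ Ideal.span {dh n R i P}) :=
  Ideal.quotientEquiv _ _ (Θ' n R i) (by
    rw [Ideal.map_span, Set.image_singleton]
    congr 2
    change _ = θ' n R i (dq n R i P)
    rw [dh_eq])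

theorem quotEquiv_mk (i : Fin (n + 1)) (P : MvPolynomial (Fin (n + 1)) R)
    (q : MvPolynomial (Fin n) R) :
    quotEquiv n R i P (Ideal.Quotient.mk _ q) = Ideal.Quotient.mk _ (θ' n R i q) := rfl

theorem quotEquiv_C (i : Fin (n + 1)) (P : MvPolynomial (Fin (n + 1)) R) (c : R) :
    quotEquiv n R i P (Ideal.Quotient.mk _ (MvPolynomial.C c)) =
      Ideal.Quotient.mk _ (dh n R i (MvPolynomial.C c)) := by
  rw [quotEquiv_mk, θ'_C]

end Part1

section Part2

open Groth.Agent.Lib.R2H1.PicPn Groth.Agent.Lib.Helper27PnChart Groth.Agent.Helper13Dehom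
open Groth.Agent.Lib.R2H1.HypIdeal Groth.Agent.Helper13ProjUP

theorem ringHom_smooth_iff {k A B : Type u} [CommRing k] [CommRing A] [CommRing B] [Algebra k A]
    (φ : k →+* B) (e : A ≃+* B) (he : ∀ c, e (algebraMap k A c) = φ c) :
    φ.Smooth ↔ Algebra.Smooth k A := by
  letI := φ.toAlgebra
  let e' : A ≃ₐ[k] B := AlgEquiv.ofRingEquiv (f := e) he
  constructor
  · intro h
    haveI : Algebra.Smooth k B := h
    exact Algebra.Smooth.of_equiv e'.symm
  · intro h
    exact Algebra.Smooth.of_equiv e'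

/-- local on the source for a family of open immersions -/
theorem smooth_iff_of_family {X Y : Scheme.{u}} (f : X ⟶ Y) {ι : Type*} (Z : ι → Scheme.{u})
    (g : ∀ i, Z i ⟶ X) [∀ i, IsOpenImmersion (g i)]
    (hcov : ⨆ i, (g i).opensRange = ⊤) :
    Smooth f ↔ ∀ i, Smooth (g i ≫ f) := by
  rw [IsZariskiLocalAtSource.iff_of_iSup_eq_top (P := @Smooth) (fun i => (g i).opensRange) hcov]
  refine forall_congr' (fun i => ?_)
  rw [← IsOpenImmersion.isoOfRangeEq_inv_fac (g i) (Scheme.Opens.ι _)
    (congr_arg Opens.carrier (g i).opensRange.opensRange_ι.symm), Category.assoc,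
    MorphismProperty.cancel_left_of_respectsIso (P := @Smooth)]

section General

variable {X : Scheme.{u}} (I : X.IdealSheafData)

/-- the chart `Spec (Γ(X,U)/I(U)) ⟶ I.subscheme` with an explicit type -/
noncomputable def cf (U : X.affineOpens) :
    Spec (CommRingCat.of (Γ(X, U.1) ⧸ I.ideal U)) ⟶ I.subscheme :=
  I.subschemeCover.f U

instance (U : X.affineOpens) : IsOpenImmersion (cf I U) := by
  unfold cf
  exact I.subschemeCover.map_prop U

theorem cf_opensRange (U : X.affineOpens) : (cf I U).opensRange = I.subschemeι ⁻¹ᵁ U.1 :=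
  Scheme.IdealSheafData.opensRange_subschemeCover_map I U

theorem cf_ι (U : X.affineOpens) :
    cf I U ≫ I.subschemeι =
      Spec.map (CommRingCat.ofHom (Ideal.Quotient.mk (I.ideal U))) ≫ U.2.fromSpec := by
  have h := Scheme.IdealSheafData.subschemeCover_map_subschemeι I U
  unfold Scheme.IdealSheafData.glueDataObjι at h
  rw [Category.assoc, IsAffineOpen.isoSpec_inv_ι] at h
  exact h

end General

variable {r : ℕ} {k : Type u} [Field k]

local notation "𝒫" => CohB1.polyGrading r k
local notation "PJ" => Proj (CohB1.polyGrading r k)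

theorem smooth_mk_congr {B : Type u} [CommRing B] (ψ : k →+* B) (I J : Ideal B) (h : I = J) :
    ((Ideal.Quotient.mk I).comp ψ).Smooth ↔ ((Ideal.Quotient.mk J).comp ψ).Smooth := by
  subst h
  rfl

theorem smooth_dh_iff (i : Fin (r + 1)) (P : MvPolynomial (Fin (r + 1)) k) :
    ((Ideal.Quotient.mk (Ideal.span {dh r k i P})).comp
      ((dh r k i).comp (MvPolynomial.C))).Smooth ↔
      Algebra.Smooth k (MvPolynomial (Fin r) k ⧸ Ideal.span {dq r k i P}) := by
  refine ringHom_smooth_iff _ (quotEquiv r k i P) (fun c => ?_)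
  have h3 : (algebraMap k (MvPolynomial (Fin r) k ⧸ Ideal.span {dq r k i P})) c =
      Ideal.Quotient.mk _ (MvPolynomial.C c) := rfl
  rw [h3, quotEquiv_C]
  rfl

theorem smooth_strMap_iff {d : ℕ} (G : LefPen.Form r k d) (i : Fin (r + 1)) :
    (strMap (𝒜 := CohB1.polyGrading r k) (X_mem i) ≫
        CommRingCat.ofHom (Ideal.Quotient.mk ((hypI G).ideal (chartAff i)))).hom.Smooth ↔
      Algebra.Smooth k (MvPolynomial (Fin r) k ⧸ Ideal.span {dq r k i G.1}) := by
  have hI : (hypI G).ideal (chartAff i) = Ideal.span {dh r k i G.1} := by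
    rw [hypI_ideal_chart, deh_eq]
    rfl
  rw [← smooth_dh_iff]
  exact smooth_mk_congr ((dh r k i).comp (MvPolynomial.C)) _ _ hI

theorem smooth_iff_charts {d : ℕ} (G : LefPen.Form r k d) :
    Smooth ((hypI G).subschemeι ≫ toBase (CohB1.polyGrading r k)) ↔
      ∀ i : Fin (r + 1),
        Algebra.Smooth k (MvPolynomial (Fin r) k ⧸ Ideal.span {dq r k i G.1}) := by
  have hcov : ⨆ i : Fin (r + 1),
      (cf (hypI G) (chartAff (r := r) (k := k) i)).opensRange = ⊤ := by
    simp_rw [cf_opensRange]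
    rw [← Scheme.Hom.preimage_iSup, iSup_chartAff]
    rfl
  rw [smooth_iff_of_family _ _ (fun i => cf (hypI G) (chartAff (r := r) (k := k) i)) hcov]
  refine forall_congr' (fun i => ?_)
  have h2 : cf (hypI G) (chartAff (r := r) (k := k) i) ≫
      (hypI G).subschemeι ≫ toBase (CohB1.polyGrading r k) =
      Spec.map (strMap (𝒜 := CohB1.polyGrading r k) (X_mem i) ≫
        CommRingCat.ofHom (Ideal.Quotient.mk ((hypI G).ideal (chartAff i)))) := by
    rw [← Category.assoc, cf_ι, Category.assoc, Spec.map_comp]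
    congr 1
    exact fromSpec_toBase (𝒜 := CohB1.polyGrading r k) (X_mem i)
  rw [h2, HasRingHomProperty.Spec_iff (P := @Smooth)]
  exact smooth_strMap_iff G i

end Part2

section Part3

open Groth.Agent.Lib.R2H1.PicPn Groth.Agent.Lib.Helper27PnChart Groth.Agent.Helper13Dehom
open Groth.Agent.Lib.R2H1.HypIdeal Groth.Agent.Helper13ProjUP

variable (k : Type u) [Field k]

-- chart Z = 1
theorem dq2_X0 : dq 2 k 2 (MvPolynomial.X 0) = MvPolynomial.X 0 := by
  have h := dq_X_succAbove 2 k 2 0
  rwa [show (2 : Fin (2 + 1)).succAbove (0 : Fin 2) = 0 from rfl] at h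

theorem dq2_X1 : dq 2 k 2 (MvPolynomial.X 1) = MvPolynomial.X 1 := by
  have h := dq_X_succAbove 2 k 2 1
  rwa [show (2 : Fin (2 + 1)).succAbove (1 : Fin 2) = 1 from rfl] at h

theorem dq2_X2 : dq 2 k 2 (MvPolynomial.X 2) = 1 := dq_X_self 2 k 2

-- chart Y = 1
theorem dq1_X0 : dq 2 k 1 (MvPolynomial.X 0) = MvPolynomial.X 0 := by
  have h := dq_X_succAbove 2 k 1 0
  rwa [show (1 : Fin (2 + 1)).succAbove (0 : Fin 2) = 0 from rfl] at h

theorem dq1_X1 : dq 2 k 1 (MvPolynomial.X 1) = 1 := dq_X_self 2 k 1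

theorem dq1_X2 : dq 2 k 1 (MvPolynomial.X 2) = MvPolynomial.X 1 := by
  have h := dq_X_succAbove 2 k 1 1
  rwa [show (1 : Fin (2 + 1)).succAbove (1 : Fin 2) = 2 from rfl] at h

-- chart X = 1
theorem dq0_X0 : dq 2 k 0 (MvPolynomial.X 0) = 1 := dq_X_self 2 k 0

theorem dq0_X1 : dq 2 k 0 (MvPolynomial.X 1) = MvPolynomial.X 0 := by
  have h := dq_X_succAbove 2 k 0 0
  rwa [show (0 : Fin (2 + 1)).succAbove (0 : Fin 2) = 1 from rfl] at h

theorem dq0_X2 : dq 2 k 0 (MvPolynomial.X 2) = MvPolynomial.X 1 := by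
  have h := dq_X_succAbove 2 k 0 1
  rwa [show (0 : Fin (2 + 1)).succAbove (1 : Fin 2) = 2 from rfl] at h

variable {k}

/-- a point of the affine plane -/
noncomputable def pt {K : Type u} [Field K] [Algebra k K] (x y : K) :
    MvPolynomial (Fin 2) k →ₐ[k] K :=
  MvPolynomial.aeval ![x, y]

theorem pt_X0 {K : Type u} [Field K] [Algebra k K] (x y : K) :
    pt (k := k) x y (MvPolynomial.X 0) = x := by
  simp [pt]

theorem pt_X1 {K : Type u} [Field K] [Algebra k K] (x y : K) :
    pt (k := k) x y (MvPolynomial.X 1) = y := by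
  simp [pt]

theorem pt_C {K : Type u} [Field K] [Algebra k K] (x y : K) (c : k) :
    pt (k := k) x y (MvPolynomial.C c) = algebraMap k K c := by
  simp [pt]

theorem eq_pt {K : Type u} [Field K] [Algebra k K] (φ : MvPolynomial (Fin 2) k →ₐ[k] K) :
    φ = pt (φ (MvPolynomial.X 0)) (φ (MvPolynomial.X 1)) := by
  apply MvPolynomial.algHom_ext
  intro i
  fin_cases i
  · exact (pt_X0 _ _).symm
  · exact (pt_X1 _ _).symm

/-- smoothness of a plane curve implies smoothness of the chart rings -/
theorem smooth_chart {d : ℕ} (G : LefPen.Form 2 k d)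
    (h : Smooth ((hypI G).subschemeι ≫ toBase (CohB1.polyGrading 2 k))) (i : Fin (2 + 1)) :
    Algebra.Smooth k (MvPolynomial (Fin 2) k ⧸ Ideal.span {dq 2 k i G.1}) :=
  (smooth_iff_charts G).1 h i

/-- Jacobian criterion on a chart -/
theorem jac_of_smooth {d : ℕ} (G : LefPen.Form 2 k d)
    (h : Smooth ((hypI G).subschemeι ≫ toBase (CohB1.polyGrading 2 k))) (i : Fin (2 + 1))
    (hne : dq 2 k i G.1 ≠ 0)
    (K : Type u) [Field K] [Algebra k K] (x y : K)
    (h0 : pt (k := k) x y (dq 2 k i G.1) = 0) :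
    ∃ j, pt (k := k) x y (MvPolynomial.pderiv j (dq 2 k i G.1)) ≠ 0 :=
  (Groth.Agent.S19185.smooth_iff _ hne).1 (smooth_chart G h i) K (pt x y) h0

/-- Jacobian criterion: all three charts -/
theorem smooth_of_jac {d : ℕ} (G : LefPen.Form 2 k d)
    (hne : ∀ i, dq 2 k i G.1 ≠ 0)
    (h : ∀ (i : Fin (2 + 1)) (K : Type u) [Field K] [Algebra k K] (x y : K),
      pt (k := k) x y (dq 2 k i G.1) = 0 →
      ∃ j, pt (k := k) x y (MvPolynomial.pderiv j (dq 2 k i G.1)) ≠ 0) :
    Smooth ((hypI G).subschemeι ≫ toBase (CohB1.polyGrading 2 k)) := by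
  rw [smooth_iff_charts]
  intro i
  rw [Groth.Agent.S19185.smooth_iff _ (hne i)]
  intro K _ _ φ hφ
  rw [eq_pt φ] at hφ ⊢
  exact h i K _ _ hφ

end Part3

section Part4


open MvPolynomial

variable {k : Type u} [Field k]

/-- the short Weierstrass cubic -/
noncomputable def SW (a b : k) : MvPolynomial (Fin (2 + 1)) k :=
  X 1 ^ 2 * X 2 - X 0 ^ 3 - C a * X 0 * X 2 ^ 2 + C b * X 2 ^ 3

theorem dq2_SW (a b : k) :
    dq 2 k 2 (SW a b) = X 1 ^ 2 - X 0 ^ 3 - C a * X 0 + C b := by
  simp only [SW, map_sub, map_add, map_mul, map_pow, dq2_X0, dq2_X1, dq2_X2, dq_C, one_pow,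
    mul_one]

theorem dq1_SW (a b : k) :
    dq 2 k 1 (SW a b) = X 1 - X 0 ^ 3 - C a * X 0 * X 1 ^ 2 + C b * X 1 ^ 3 := by
  simp only [SW, map_sub, map_add, map_mul, map_pow, dq1_X0, dq1_X1, dq1_X2, dq_C, one_pow,
    mul_one, one_mul]

theorem dq0_SW (a b : k) :
    dq 2 k 0 (SW a b) = X 0 ^ 2 * X 1 - 1 - C a * X 1 ^ 2 + C b * X 1 ^ 3 := by
  simp only [SW, map_sub, map_add, map_mul, map_pow, dq0_X0, dq0_X1, dq0_X2, dq_C, one_pow,
    mul_one, one_mul]

section Pt
variable {K : Type u} [Field K] [Algebra k K] (x y : K) (a b : k)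

theorem pt_g2 : pt (k := k) x y (X 1 ^ 2 - X 0 ^ 3 - C a * X 0 + C b) =
    y ^ 2 - x ^ 3 - algebraMap k K a * x + algebraMap k K b := by
  simp only [map_sub, map_add, map_mul, map_pow, pt_X0, pt_X1, pt_C]

theorem pt_d0_g2 : pt (k := k) x y (pderiv 0 (X 1 ^ 2 - X 0 ^ 3 - C a * X 0 + C b)) =
    - (3 * x ^ 2) - algebraMap k K a := by
  simp [Derivation.leibniz, Derivation.leibniz_pow, pt_X0, pt_X1, pt_C, map_ofNat]

theorem pt_d1_g2 : pt (k := k) x y (pderiv 1 (X 1 ^ 2 - X 0 ^ 3 - C a * X 0 + C b)) =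
    2 * y := by
  simp [Derivation.leibniz, Derivation.leibniz_pow, pt_X0, pt_X1, pt_C, map_ofNat]

theorem pt_g1 : pt (k := k) x y (X 1 - X 0 ^ 3 - C a * X 0 * X 1 ^ 2 + C b * X 1 ^ 3) =
    y - x ^ 3 - algebraMap k K a * x * y ^ 2 + algebraMap k K b * y ^ 3 := by
  simp only [map_sub, map_add, map_mul, map_pow, pt_X0, pt_X1, pt_C]

theorem pt_d0_g1 :
    pt (k := k) x y (pderiv 0 (X 1 - X 0 ^ 3 - C a * X 0 * X 1 ^ 2 + C b * X 1 ^ 3)) =
    - (3 * x ^ 2) - algebraMap k K a * y ^ 2 := by
  simp [Derivation.leibniz, Derivation.leibniz_pow, pt_X0, pt_X1, pt_C, map_ofNat]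
  ring

theorem pt_d1_g1 :
    pt (k := k) x y (pderiv 1 (X 1 - X 0 ^ 3 - C a * X 0 * X 1 ^ 2 + C b * X 1 ^ 3)) =
    1 - 2 * algebraMap k K a * x * y + 3 * algebraMap k K b * y ^ 2 := by
  simp [Derivation.leibniz, Derivation.leibniz_pow, pt_X0, pt_X1, pt_C, map_ofNat]
  ring

theorem pt_g0 : pt (k := k) x y (X 0 ^ 2 * X 1 - 1 - C a * X 1 ^ 2 + C b * X 1 ^ 3) =
    x ^ 2 * y - 1 - algebraMap k K a * y ^ 2 + algebraMap k K b * y ^ 3 := by
  simp only [map_sub, map_add, map_mul, map_pow, pt_X0, pt_X1, pt_C, map_one]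

theorem pt_d0_g0 :
    pt (k := k) x y (pderiv 0 (X 0 ^ 2 * X 1 - 1 - C a * X 1 ^ 2 + C b * X 1 ^ 3)) =
    2 * x * y := by
  simp [Derivation.leibniz, Derivation.leibniz_pow, pt_X0, pt_X1, pt_C, map_ofNat]
  ring

theorem pt_d1_g0 :
    pt (k := k) x y (pderiv 1 (X 0 ^ 2 * X 1 - 1 - C a * X 1 ^ 2 + C b * X 1 ^ 3)) =
    x ^ 2 - 2 * algebraMap k K a * y + 3 * algebraMap k K b * y ^ 2 := by
  simp [Derivation.leibniz, Derivation.leibniz_pow, pt_X0, pt_X1, pt_C, map_ofNat]
  ring

end Pt

end Part4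

section Part5



open Groth.Agent.Lib.R2H1.HypIdeal Groth.Agent.Helper13ProjUP
open MvPolynomial

variable {k : Type u} [Field k]

/-- the discriminant identity -/
theorem disc_identity {K : Type*} [CommRing K] (A B x : K) :
    4 * A ^ 3 + 27 * B ^ 2 =
      4 * A ^ 2 * (3 * x ^ 2 + A) -
        (3 * (x ^ 3 + A * x - B) - x * (3 * x ^ 2 + A)) * (6 * A * x + 9 * B) := by
  ring

theorem disc_eq_zero_of_common_root {K : Type*} [CommRing K] (A B x : K)
    (hf : x ^ 3 + A * x - B = 0) (hf' : 3 * x ^ 2 + A = 0) : 4 * A ^ 3 + 27 * B ^ 2 = 0 := by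
  rw [disc_identity A B x, hf, hf']
  ring

theorem g2_ne_zero (a b : k) : (X 1 ^ 2 - X 0 ^ 3 - C a * X 0 + C b : MvPolynomial (Fin 2) k) ≠ 0 := by
  intro h
  have h1 := congrArg (pt (k := k) (0 : k) (0 : k)) h
  have h2 := congrArg (pt (k := k) (0 : k) (1 : k)) h
  rw [pt_g2, map_zero] at h1 h2
  simp only [Algebra.algebraMap_self, RingHom.id_apply] at h1 h2
  have : (1 : k) = 0 := by linear_combination h2 - h1
  exact one_ne_zero this

theorem g1_ne_zero (a b : k) :
    (X 1 - X 0 ^ 3 - C a * X 0 * X 1 ^ 2 + C b * X 1 ^ 3 : MvPolynomial (Fin 2) k) ≠ 0 := by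
  intro h
  have h1 := congrArg (pt (k := k) (1 : k) (0 : k)) h
  rw [pt_g1, map_zero] at h1
  simp only [Algebra.algebraMap_self, RingHom.id_apply] at h1
  have : (1 : k) = 0 := by linear_combination -h1
  exact one_ne_zero this

theorem g0_ne_zero (a b : k) :
    (X 0 ^ 2 * X 1 - 1 - C a * X 1 ^ 2 + C b * X 1 ^ 3 : MvPolynomial (Fin 2) k) ≠ 0 := by
  intro h
  have h1 := congrArg (pt (k := k) (0 : k) (0 : k)) h
  rw [pt_g0, map_zero] at h1
  simp only [Algebra.algebraMap_self, RingHom.id_apply] at h1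
  have : (1 : k) = 0 := by linear_combination -h1
  exact one_ne_zero this

/-- existence of a common root when the discriminant vanishes -/
theorem exists_common_root (h2 : (2 : k) ≠ 0) (a b : k) (hD : 4 * a ^ 3 + 27 * b ^ 2 = 0) :
    ∃ x : AlgebraicClosure k,
      x ^ 3 + algebraMap k (AlgebraicClosure k) a * x - algebraMap k (AlgebraicClosure k) b = 0 ∧
      3 * x ^ 2 + algebraMap k (AlgebraicClosure k) a = 0 := by
  by_cases ha : a = 0
  · subst ha
    by_cases h3 : (3 : k) = 0
    · obtain ⟨x, hx⟩ := IsAlgClosed.exists_pow_nat_eq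
        (algebraMap k (AlgebraicClosure k) b) (n := 3) (by norm_num)
      refine ⟨x, ?_, ?_⟩
      · rw [hx, map_zero]; ring
      · have h3' : (3 : AlgebraicClosure k) = 0 := by
          have := congrArg (algebraMap k (AlgebraicClosure k)) h3
          rwa [map_ofNat, map_zero] at this
        rw [h3', map_zero]; ring
    · have hb : b = 0 := by
        have h27 : (27 : k) * b ^ 2 = 0 := by linear_combination hD
        have h27' : (27 : k) ≠ 0 := by
          have : (27 : k) = 3 ^ 3 := by norm_num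
          rw [this]
          exact pow_ne_zero 3 h3
        rcases mul_eq_zero.1 h27 with h | h
        · exact absurd h h27'
        · exact pow_eq_zero_iff (two_ne_zero) |>.1 h
      subst hb
      exact ⟨0, by simp, by simp⟩
  · have h3 : (3 : k) ≠ 0 := by
      intro h3
      apply ha
      have h4 : (4 : k) * a ^ 3 = 0 := by
        have : (27 : k) = 3 ^ 3 := by norm_num
        have h27 : (27 : k) = 0 := by rw [this, h3]; ring
        linear_combination hD - b ^ 2 * h27
      have h4' : (4 : k) ≠ 0 := by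
        have : (4 : k) = 2 ^ 2 := by norm_num
        rw [this]
        exact pow_ne_zero 2 h2
      rcases mul_eq_zero.1 h4 with h | h
      · exact absurd h h4'
      · exact pow_eq_zero_iff (three_ne_zero) |>.1 h
    refine ⟨algebraMap k (AlgebraicClosure k) (3 * b / (2 * a)), ?_, ?_⟩
    · rw [← map_pow, ← map_mul, ← map_add, ← map_sub, ← map_zero (algebraMap k (AlgebraicClosure k))]
      congr 1
      have h3f : (3 : k) * ((3 * b / (2 * a)) ^ 3 + a * (3 * b / (2 * a)) - b) = 0 := by
        field_simp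
        linear_combination (3 * b) * hD
      rcases mul_eq_zero.1 h3f with h | h
      · exact absurd h h3
      · exact h
    · have : (3 : AlgebraicClosure k) = algebraMap k (AlgebraicClosure k) 3 := by
        rw [map_ofNat]
      rw [this, ← map_pow, ← map_mul, ← map_add, ← map_zero (algebraMap k (AlgebraicClosure k))]
      congr 1
      field_simp
      linear_combination hD

end Part5

section Part6



open Groth.Agent.Lib.R2H1.HypIdeal Groth.Agent.Helper13ProjUP
open MvPolynomial

variable {k : Type u} [Field k]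

theorem two_ne_zero_of {K : Type u} [Field K] [Algebra k K] (h2 : (2 : k) ≠ 0) : (2 : K) ≠ 0 := by
  intro h
  apply h2
  apply (algebraMap k K).injective
  rw [map_ofNat, map_zero]
  exact h

theorem smooth_SW_iff (h2 : (2 : k) ≠ 0) (a b : k) (W : LefPen.Form 2 k 3)
    (hW : W.1 = SW a b) :
    Smooth ((hypI W).subschemeι ≫ toBase (CohB1.polyGrading 2 k)) ↔
      4 * a ^ 3 + 27 * b ^ 2 ≠ 0 := by
  constructor
  · intro hsm hD
    obtain ⟨x, hf, hf'⟩ := exists_common_root h2 a b hD
    have hne : dq 2 k 2 W.1 ≠ 0 := by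
      rw [hW, dq2_SW]
      exact g2_ne_zero a b
    obtain ⟨j, hj⟩ := jac_of_smooth W hsm 2 hne (AlgebraicClosure k) x 0 (by
      rw [hW, dq2_SW, pt_g2]
      linear_combination -hf)
    rw [hW, dq2_SW] at hj
    fin_cases j
    · apply hj
      change pt (k := k) x 0 (pderiv 0 _) = 0
      rw [pt_d0_g2]
      linear_combination -hf'
    · apply hj
      change pt (k := k) x 0 (pderiv 1 _) = 0
      rw [pt_d1_g2]
      ring
  · intro hD
    have hne : ∀ i, dq 2 k i W.1 ≠ 0 := by
      intro i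
      rw [hW]
      fin_cases i
      · change dq 2 k 0 _ ≠ 0
        rw [dq0_SW]
        exact g0_ne_zero a b
      · change dq 2 k 1 _ ≠ 0
        rw [dq1_SW]
        exact g1_ne_zero a b
      · change dq 2 k 2 _ ≠ 0
        rw [dq2_SW]
        exact g2_ne_zero a b
    refine smooth_of_jac W hne ?_
    intro i K _ _ x y h0
    have h2K : (2 : K) ≠ 0 := two_ne_zero_of h2
    have hDK : 4 * (algebraMap k K a) ^ 3 + 27 * (algebraMap k K b) ^ 2 ≠ 0 := by
      intro h
      apply hD
      apply (algebraMap k K).injective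
      rw [map_add, map_mul, map_mul, map_pow, map_pow, map_ofNat, map_ofNat, map_zero]
      exact h
    by_contra hcon
    push_neg at hcon
    have hc0 := hcon 0
    have hc1 := hcon 1
    rw [hW] at h0 hc0 hc1
    fin_cases i
    · -- chart X = 1: coordinates (y, z) = (x, y)
      change pt (k := k) x y (dq 2 k 0 _) = 0 at h0
      change pt (k := k) x y (pderiv 0 (dq 2 k 0 _)) = 0 at hc0
      change pt (k := k) x y (pderiv 1 (dq 2 k 0 _)) = 0 at hc1
      rw [dq0_SW] at h0 hc0 hc1
      rw [pt_g0] at h0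
      rw [pt_d0_g0] at hc0
      rw [pt_d1_g0] at hc1
      have hz : y ≠ 0 := by
        rintro rfl
        have : (1 : K) = 0 := by linear_combination -h0
        exact one_ne_zero this
      have hy : x = 0 := by
        rcases mul_eq_zero.1 hc0 with h | h
        · rcases mul_eq_zero.1 h with h' | h'
          · exact absurd h' h2K
          · exact h'
        · exact absurd h hz
      subst hy
      have e1 : y * y⁻¹ - 1 = 0 := by rw [mul_inv_cancel₀ hz]; ring
      have hf : (y⁻¹) ^ 3 + algebraMap k K a * y⁻¹ - algebraMap k K b = 0 := by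
        linear_combination (-(y⁻¹) ^ 3) * h0 +
          (-(algebraMap k K a) * y⁻¹ * (y * y⁻¹ + 1) +
            algebraMap k K b * ((y * y⁻¹) ^ 2 + y * y⁻¹ + 1)) * e1
      have hxf' : y⁻¹ * (3 * (y⁻¹) ^ 2 + algebraMap k K a) = 0 := by
        linear_combination 3 * hf + (y⁻¹) ^ 2 * hc1 -
          (-2 * algebraMap k K a * y⁻¹ + 3 * algebraMap k K b * (y * y⁻¹ + 1)) * e1
      have hf' : 3 * (y⁻¹) ^ 2 + algebraMap k K a = 0 := by
        rcases mul_eq_zero.1 hxf' with h | h
        · exact absurd h (inv_ne_zero hz)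
        · exact h
      exact hDK (disc_eq_zero_of_common_root _ _ _ hf hf')
    · -- chart Y = 1: coordinates (x, z) = (x, y)
      change pt (k := k) x y (dq 2 k 1 _) = 0 at h0
      change pt (k := k) x y (pderiv 0 (dq 2 k 1 _)) = 0 at hc0
      change pt (k := k) x y (pderiv 1 (dq 2 k 1 _)) = 0 at hc1
      rw [dq1_SW] at h0 hc0 hc1
      rw [pt_g1] at h0
      rw [pt_d0_g1] at hc0
      rw [pt_d1_g1] at hc1
      have hz2 : 2 * y = 0 := by linear_combination 3 * h0 - x * hc0 - y * hc1
      have hz : y = 0 := by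
        rcases mul_eq_zero.1 hz2 with h | h
        · exact absurd h h2K
        · exact h
      subst hz
      have : (1 : K) = 0 := by linear_combination hc1
      exact one_ne_zero this
    · -- chart Z = 1
      change pt (k := k) x y (dq 2 k 2 _) = 0 at h0
      change pt (k := k) x y (pderiv 0 (dq 2 k 2 _)) = 0 at hc0
      change pt (k := k) x y (pderiv 1 (dq 2 k 2 _)) = 0 at hc1
      rw [dq2_SW] at h0 hc0 hc1
      rw [pt_g2] at h0
      rw [pt_d0_g2] at hc0
      rw [pt_d1_g2] at hc1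
      have hy : y = 0 := by
        rcases mul_eq_zero.1 hc1 with h | h
        · exact absurd h h2K
        · exact h
      subst hy
      have hf : x ^ 3 + algebraMap k K a * x - algebraMap k K b = 0 := by
        linear_combination -h0
      have hf' : 3 * x ^ 2 + algebraMap k K a = 0 := by
        linear_combination -hc0
      exact hDK (disc_eq_zero_of_common_root _ _ _ hf hf')

end Part6

end Groth.Agent.Lib.R2H1.PlaneChart
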