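import Mathlib
import Groth.Prelude
import Groth.Agent.Lib.R2H1HypIdeal
import Groth.Agent.Lib.Helper13ProjQuotIdeal
import Groth.Agent.Lib.R2H2ProjEmbed
set_option backward.isDefEq.respectTransparency.types false

/-!
# A hyperplane of P^{n+1}_k is isomorphic to P^n_k (helper1, round 2)

* lin n c, phiA n c j (eliminating T_j with the linear form ∑ c_i T_i, c_j ≠ 0), ker_phiA, phiG (graded hom), phiG_surjective, exists_lin (forms of degree one are linear combinations of the variables).
* secHom_sv, secHom_zero : morphisms O ⟶ M are determined by their global section.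
* emb n c j : P^n → P^{n+1} (closed immersion), ker_ideal_chart, ker_eq : its ideal sheaf is hypI (linForm n c).
* exists_form_of_section : every O ⟶ O(d) on P^{n+1}_k is sG G for a form G of degree d; sG_zero.
* hyperplane_iso : S7676.
-/

set_option autoImplicit false
set_option linter.style.haveILetI false
set_option linter.unusedSectionVars false
universe u v

open CategoryTheory CategoryTheory.Limits AlgebraicGeometry TopologicalSpace Opposite

namespace Groth.Agent.Lib.R2H1.Hyperplane

section Part1

open MvPolynomial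

variable {k : Type u} [Field k] (n : ℕ) (c : Fin (n + 1 + 1) → k) (j : Fin (n + 1 + 1))

/-- the linear form `∑ c_i T_i` -/
noncomputable def lin : MvPolynomial (Fin (n + 1 + 1)) k := ∑ i, C (c i) * X i

/-- the image of `T_j` -/
noncomputable def Lj : MvPolynomial (Fin (n + 1)) k :=
  C (-(c j)⁻¹) * ∑ m, C (c (j.succAbove m)) * X m

/-- images of the variables -/
noncomputable def gmap (i : Fin (n + 1 + 1)) : MvPolynomial (Fin (n + 1)) k :=
  (finSuccEquiv' j i).elim (Lj n c j) X

/-- elimination of the variable `T_j` using the linear form -/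
noncomputable def phiA : MvPolynomial (Fin (n + 1 + 1)) k →ₐ[k] MvPolynomial (Fin (n + 1)) k :=
  aeval (gmap n c j)

theorem phiA_X_self : phiA n c j (X j) = Lj n c j := by
  unfold phiA
  rw [aeval_X]
  unfold gmap
  rw [finSuccEquiv'_at]
  rfl

theorem phiA_X_succAbove (m : Fin (n + 1)) : phiA n c j (X (j.succAbove m)) = X m := by
  unfold phiA
  rw [aeval_X]
  unfold gmap
  rw [finSuccEquiv'_succAbove]
  rfl

theorem phiA_C (a : k) : phiA n c j (C a) = C a := by
  unfold phiA
  rw [aeval_C]
  rfl

theorem phiA_lin (hj : c j ≠ 0) : phiA n c j (lin n c) = 0 := by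
  unfold lin
  rw [map_sum, Fin.sum_univ_succAbove _ j]
  simp only [map_mul, phiA_X_self, phiA_X_succAbove, phiA_C]
  unfold Lj
  rw [← mul_assoc, ← C_mul, mul_neg, mul_inv_cancel₀ hj, C_neg, C_1, neg_one_mul, neg_add_cancel]

theorem phiA_rename (f : MvPolynomial (Fin (n + 1)) k) :
    phiA n c j (rename j.succAbove f) = f := by
  have h : (phiA n c j).comp (rename j.succAbove) = AlgHom.id k _ := by
    apply MvPolynomial.algHom_ext
    intro m
    rw [AlgHom.comp_apply, rename_X, phiA_X_succAbove]
    rfl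
  exact congrArg (fun φ => φ f) h

theorem mk_eq (hj : c j ≠ 0) (f : MvPolynomial (Fin (n + 1 + 1)) k) :
    Ideal.Quotient.mk (Ideal.span {lin n c}) f =
      Ideal.Quotient.mk (Ideal.span {lin n c}) (rename j.succAbove (phiA n c j f)) := by
  have h : Ideal.Quotient.mkₐ k (Ideal.span {lin n c}) =
      (Ideal.Quotient.mkₐ k (Ideal.span {lin n c})).comp
        ((rename j.succAbove).comp (phiA n c j)) := by
    apply MvPolynomial.algHom_ext
    intro i
    rw [AlgHom.comp_apply, AlgHom.comp_apply]
    by_cases hi : i = j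
    · subst hi
      rw [phiA_X_self]
      change Ideal.Quotient.mk _ _ = Ideal.Quotient.mk _ _
      rw [Ideal.Quotient.eq, Ideal.mem_span_singleton']
      refine ⟨C (c i)⁻¹, ?_⟩
      unfold Lj lin
      rw [Fin.sum_univ_succAbove _ i]
      simp only [map_mul, map_sum, rename_C, rename_X]
      rw [mul_add, ← mul_assoc, ← C_mul, inv_mul_cancel₀ hj, C_1, one_mul, C_neg, neg_mul,
        sub_neg_eq_add]
    · obtain ⟨m, rfl⟩ := Fin.exists_succAbove_eq hi
      rw [phiA_X_succAbove, rename_X]
  exact congrArg (fun φ => φ f) h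

theorem ker_phiA (hj : c j ≠ 0) :
    RingHom.ker (phiA n c j).toRingHom = Ideal.span {lin n c} := by
  apply le_antisymm
  · intro f hf
    rw [RingHom.mem_ker] at hf
    have hf' : phiA n c j f = 0 := hf
    have h := mk_eq n c j hj f
    rw [hf', map_zero, map_zero] at h
    exact Ideal.Quotient.eq_zero_iff_mem.mp h
  · rw [Ideal.span_le, Set.singleton_subset_iff]
    exact phiA_lin n c j hj

theorem Lj_isHomogeneous : (Lj n c j).IsHomogeneous 1 := by
  unfold Lj
  apply IsHomogeneous.C_mul
  apply IsHomogeneous.sum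
  intro m _
  exact isHomogeneous_C_mul_X _ _

theorem gmap_isHomogeneous (i : Fin (n + 1 + 1)) : (gmap n c j i).IsHomogeneous 1 := by
  unfold gmap
  cases h : finSuccEquiv' j i with
  | none => exact Lj_isHomogeneous n c j
  | some m => exact isHomogeneous_X _ _

theorem phiA_isHomogeneous {d : ℕ} {f : MvPolynomial (Fin (n + 1 + 1)) k}
    (hf : f.IsHomogeneous d) : (phiA n c j f).IsHomogeneous d := by
  have h := hf.aeval (gmap n c j) (gmap_isHomogeneous n c j)
  rwa [one_mul] at h

/-- the graded ring homomorphism `k[T_0..T_{n+1}] → k[S_0..S_n]` -/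
noncomputable def phiG : CohB1.polyGrading (n + 1) k →+*ᵍ CohB1.polyGrading n k where
  toRingHom := (phiA n c j).toRingHom
  map_mem := fun {i x} hx => (mem_homogeneousSubmodule _ _).mpr
    (phiA_isHomogeneous n c j ((mem_homogeneousSubmodule _ _).mp hx))

theorem phiG_apply (f : MvPolynomial (Fin (n + 1 + 1)) k) : phiG n c j f = phiA n c j f := rfl

theorem phiG_surjective : Function.Surjective (phiG n c j) := fun f =>
  ⟨rename j.succAbove f, phiA_rename n c j f⟩

theorem exists_lin (ℓ : MvPolynomial (Fin (n + 1 + 1)) k) (hℓ : ℓ.IsHomogeneous 1) :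
    ∃ c : Fin (n + 1 + 1) → k, ℓ = lin n c := by
  refine ⟨fun i => coeff 0 (pderiv i ℓ), ?_⟩
  have h := hℓ.sum_X_mul_pderiv
  rw [one_smul] at h
  unfold lin
  refine h.symm.trans (Finset.sum_congr rfl (fun i _ => ?_))
  have h0 : (pderiv i ℓ).IsHomogeneous (1 - 1) := hℓ.pderiv
  rw [Nat.sub_self, ← totalDegree_zero_iff_isHomogeneous, totalDegree_eq_zero_iff_eq_C] at h0
  rw [mul_comm, ← h0]

theorem exists_ne_zero_of_lin_ne_zero (h : lin n c ≠ 0) : ∃ j, c j ≠ 0 := by
  by_contra hcon
  push_neg at hcon
  apply h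
  unfold lin
  apply Finset.sum_eq_zero
  intro i _
  rw [hcon i, C_0, zero_mul]

end Part1

section Part2

open MvPolynomial
open Groth.Agent.Lib.Helper23.SecTw Groth.Agent.Lib.Helper6
open Groth.Agent.Lib.Helper27GrTildeSect Groth.Agent.Helper13Dehom
open Groth.Agent.Lib.R2H1.HypIdeal

section General

variable {X : Scheme.{u}}

/-- a morphism out of the structure sheaf is determined by its global section -/
theorem secHom_sv (M : X.Modules) (s : Coh.structureModule X ⟶ M) : secHom M (sv s ⊤) = s := by
  have h : PresheafOfModules.sectionsMk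
      (fun U => M.val.map (homOfLE (le_top : U.unop ≤ ⊤)).op (sv s ⊤))
      (fun U V f => map_map_top M (sv s ⊤) f) = M.unitHomEquiv s := by
    apply Subtype.ext
    funext U
    exact res_sv s (le_top : U.unop ≤ ⊤)
  exact (congrArg M.unitHomEquiv.symm h).trans (Equiv.symm_apply_apply _ _)

end General

section Hyp

variable {k : Type u} [Field k] (n : ℕ)

local notation "PJ" => Proj (CohB1.polyGrading (n + 1) k)
local notation "PJ'" => Proj (CohB1.polyGrading n k)

/-- functions on a chart are dehomogenizations of forms -/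
theorem exists_dehom_eq' (i : Fin (n + 1 + 1))
    (x : Γ(PJ, Proj.basicOpen (CohB1.polyGrading (n + 1) k)
      (X i : MvPolynomial (Fin (n + 1 + 1)) k))) :
    ∃ (m : ℕ) (a : MvPolynomial (Fin (n + 1 + 1)) k) (_ : a ∈ CohB1.polyGrading (n + 1) k m),
      dehom (X_mem (r := n + 1) (k := k) i) a = x := by
  obtain ⟨m, a, ha, h⟩ := exists_awayToSection_eq (X_mem (r := n + 1) (k := k) i) one_pos x
  exact ⟨m, a, by simpa using ha, (dehom_eq_awayToSection (X_mem i) ha).trans h⟩

variable (c : Fin (n + 1 + 1) → k) (j : Fin (n + 1 + 1))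

/-- the linear form as a form of degree one -/
noncomputable def linForm : LefPen.Form (n + 1) k 1 :=
  ⟨lin n c, (mem_homogeneousSubmodule _ _).mpr (by
    unfold lin
    apply IsHomogeneous.sum
    intro i _
    exact isHomogeneous_C_mul_X _ _)⟩

theorem hφ : HomogeneousIdeal.irrelevant (CohB1.polyGrading n k) ≤
    (HomogeneousIdeal.irrelevant (CohB1.polyGrading (n + 1) k)).map (phiG n c j) :=
  Groth.Agent.Helper13ProjQuotIdeal.irrelevant_le_map (phiG n c j) (phiG_surjective n c j)

/-- the linear embedding `P^n → P^{n+1}` onto the hyperplane -/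
noncomputable def emb : PJ' ⟶ PJ := Proj.map (phiG n c j) (hφ n c j)

instance : IsClosedImmersion (emb n c j) :=
  Groth.Agent.Lib.Helper27ProjClosed.isClosedImmersion_map (phiG n c j) (phiG_surjective n c j)
    (hφ n c j)

theorem ker_ideal_chart (hj : c j ≠ 0) (i : Fin (n + 1 + 1)) :
    (emb n c j).ker.ideal (chartAff i) = Ideal.span {deh (linForm n c) i} := by
  rw [Scheme.Hom.ker_apply]
  change RingHom.ker ((emb n c j).app (chartO i)).hom = Ideal.span {deh (linForm n c) i}
  apply le_antisymm
  · intro x hx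
    obtain ⟨m, a, ha, rfl⟩ := exists_dehom_eq' n i x
    rw [RingHom.mem_ker] at hx
    have hx' := (Groth.Agent.Helper13ProjQuotIdeal.map_app_dehom_eq_zero_iff (phiG n c j)
      (hφ n c j) (X_mem (r := n + 1) (k := k) i) ha).mp hx
    obtain ⟨e, he⟩ := hx'
    have hmem : X i ^ e * a ∈ Ideal.span {lin n c} := by
      rw [← ker_phiA n c j hj]
      exact he
    obtain ⟨b, hb⟩ := Ideal.mem_span_singleton'.mp hmem
    refine Ideal.mem_span_singleton'.mpr ⟨dehom (X_mem (r := n + 1) (k := k) i) b, ?_⟩
    rw [deh_eq]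
    change dehom (X_mem i) b * dehom (X_mem i) (lin n c) = _
    rw [← map_mul, hb, map_mul, map_pow, dehom_self, one_pow, one_mul]
  · rw [Ideal.span_le, Set.singleton_subset_iff, deh_eq]
    have key : ((emb n c j).app (chartO i)).hom
        (dehom (X_mem (r := n + 1) (k := k) i) (lin n c)) = 0 := by
      refine (Groth.Agent.Helper13ProjQuotIdeal.map_app_dehom_eq_zero_iff (phiG n c j)
        (hφ n c j) (X_mem (r := n + 1) (k := k) i) (linForm n c).2).mpr ⟨0, ?_⟩
      rw [pow_zero, one_mul]
      exact phiA_lin n c j hj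
    exact key

theorem ker_eq (hj : c j ≠ 0) : (emb n c j).ker = hypI (linForm n c) := by
  refine Scheme.IdealSheafData.ext_of_iSup_eq_top (chartAff (r := n + 1) (k := k)) iSup_chartAff
    (fun i => ?_)
  rw [ker_ideal_chart n c j hj i, hypI_ideal_chart]

end Hyp

end Part2

section Part3

open MvPolynomial
open Groth.Agent.Lib.Helper23.SecTw Groth.Agent.Lib.Helper6
open Groth.Agent.Lib.Helper27GrTildeSect Groth.Agent.Helper13Dehom
open Groth.Agent.Lib.R2H1.HypIdeal


section General

variable {X : Scheme.{u}}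

theorem secHom_zero (M : X.Modules) : secHom M 0 = 0 := by
  have h := secHom_sv M (0 : Coh.structureModule X ⟶ M)
  rwa [Groth.Agent.Lib.Helper23.SecTw.sv_zero] at h

end General

variable {k : Type u} [Field k] (n : ℕ)

local notation "PJ" => Proj (CohB1.polyGrading (n + 1) k)
local notation "PJ'" => Proj (CohB1.polyGrading n k)

/-- every morphism `O ⟶ O(d)` on projective space is multiplication by a form of degree `d` -/
theorem exists_form_of_section {d : ℕ}
    (s : Coh.structureModule PJ ⟶
      GrTilde.tilde (CohB1.polyGrading (n + 1) k) (CohB1.polyGrading (n + 1) k) ((d : ℕ) : ℤ)) :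
    ∃ G : LefPen.Form (n + 1) k d, s = sG G := by
  obtain ⟨b, hb, h⟩ := Groth.Agent.Lib.Helper27PnSections.exists_global_poly (n + 1) k d (sv s ⊤)
  refine ⟨⟨b, hb⟩, ?_⟩
  rw [← secHom_sv _ s, h]
  rfl

theorem sG_zero (d : ℕ) : sG (0 : LefPen.Form (n + 1) k d) = 0 := by
  unfold sG
  have h : gsec (CohB1.polyGrading (n + 1) k) d ⊤ (0 : LefPen.Form (n + 1) k d).2 = 0 := by
    apply sec_ext
    intro y hy
    change Localization.mk (0 : MvPolynomial (Fin (n + 1 + 1)) k)
      (1 : y.asHomogeneousIdeal.toIdeal.primeCompl) = 0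
    exact Localization.mk_zero _
  rw [h]
  exact secHom_zero _

theorem hyperplane_iso
    (s : Coh.structureModule PJ ⟶
      GrTilde.tilde (CohB1.polyGrading (n + 1) k) (CohB1.polyGrading (n + 1) k) ((1 : ℕ) : ℤ))
    (hs : s ≠ 0) :
    ∃ φ : PJ' ≅ (PicF2.zeroScheme _ s).subscheme,
      Nonempty ((Scheme.Modules.pullback (φ.hom ≫ (PicF2.zeroScheme _ s).subschemeι)).obj
        (Twist.twist (CohB1.polyGrading (n + 1) k) 1) ≅ Twist.twist (CohB1.polyGrading n k) 1) := by
  obtain ⟨G, rfl⟩ := exists_form_of_section n s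
  obtain ⟨c, hc⟩ := exists_lin n G.1 ((mem_homogeneousSubmodule _ _).mp G.2)
  have hG : G = linForm n c := Subtype.ext hc
  subst hG
  have hne : lin n c ≠ 0 := by
    intro h0
    apply hs
    have : linForm n c = 0 := Subtype.ext h0
    rw [this]
    exact sG_zero n 1
  obtain ⟨j, hj⟩ := exists_ne_zero_of_lin_ne_zero n c hne
  have hker := ker_eq n c j hj
  have hJ : PicF2.zeroScheme _ (sG (linForm n c)) = hypI (linForm n c) :=
    (hypI_eq_JG (linForm n c)).symm
  have hk : (PicF2.zeroScheme _ (sG (linForm n c))).subschemeι.ker = (emb n c j).ker := by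
    rw [Scheme.IdealSheafData.ker_subschemeι, hker, hJ]
  haveI := IsClosedImmersion.isIso_lift (PicF2.zeroScheme _ (sG (linForm n c))).subschemeι
    (emb n c j) hk
  refine ⟨asIso (IsClosedImmersion.lift (PicF2.zeroScheme _ (sG (linForm n c))).subschemeι
    (emb n c j) hk.le), ?_⟩
  rw [asIso_hom, IsClosedImmersion.lift_fac]
  refine Groth.Agent.Lib.R2H2.ProjEmbed.nonempty_pullback_twist_iso (phiG n c j) (hφ n c j)
    (fun i : Fin (n + 1 + 1) => (X i : MvPolynomial (Fin (n + 1 + 1)) k))
    (fun i => X_mem (r := n + 1) (k := k) i) (fun x => ?_) 1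
  have hx : x ∈ (⨆ m : Fin (n + 1), (chartAff (r := n) (k := k) m).1) := by
    rw [iSup_chartAff]; trivial
  obtain ⟨m, hm⟩ := Opens.mem_iSup.mp hx
  refine ⟨j.succAbove m, ?_⟩
  rw [phiG_apply, phiA_X_succAbove]
  exact hm

end Part3

end Groth.Agent.Lib.R2H1.Hyperplane
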