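import Mathlib
import Groth.Agent.Lib.R2H2PnEuler
set_option backward.isDefEq.respectTransparency.types false

/-!
# Weierstrass algebra (helper1)

Pure algebra behind the Weierstrass form of a pointed genus one curve.

* IsPoleFiltration F : a filtration of a k-algebra A by pole order at a rational point of a genus one curve (dim F 0 = 1, dim F m = m for m >= 1, pole orders add)
* Exact F f m, exists_exact, Exact.mul/pow/monomial
* exists_weierstrass : x, y of exact pole orders 2, 3 satisfying a Weierstrass equation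
* ev x y (T0 -> x, T1 -> y, T2 -> 1), Wpoly, Wpoly_mem, ev_Wpoly, map_ev_eq (image of forms of degree n is F (3n))
* dvd_of_ev_eq_zero : a form vanishing at (x, y, 1) is divisible by the Weierstrass cubic
-/

set_option autoImplicit false
set_option linter.style.haveILetI false
set_option linter.unusedSectionVars false
universe u v

open CategoryTheory CategoryTheory.Limits AlgebraicGeometry TopologicalSpace Opposite

namespace Groth.Agent.Lib.R2H1.WeierAlg

section Part1

variable {k A : Type u} [Field k] [CommRing A] [Algebra k A]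

/-- an exhaustive-type filtration by pole order at a rational point of a genus one curve. -/
structure IsPoleFiltration (F : ℕ → Submodule k A) : Prop where
  mono : ∀ m, F m ≤ F (m + 1)
  one_mem : (1 : A) ∈ F 0
  mul_mem : ∀ {a b : ℕ} {f g : A}, f ∈ F a → g ∈ F b → f * g ∈ F (a + b)
  finrank_zero : Module.finrank k (F 0) = 1
  finrank_pos : ∀ m, 1 ≤ m → Module.finrank k (F m) = m
  exact_mul : ∀ {a b : ℕ} {f g : A}, f ∈ F (a + 1) → f ∉ F a → g ∈ F (b + 1) → g ∉ F b →
    f * g ∉ F (a + b + 1)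

/-- `f` has pole order exactly `m + 1`. -/
def Exact (F : ℕ → Submodule k A) (f : A) (m : ℕ) : Prop := f ∈ F (m + 1) ∧ f ∉ F m

variable {F : ℕ → Submodule k A}

namespace IsPoleFiltration

variable (hF : IsPoleFiltration F)
include hF

theorem mono_le {m m' : ℕ} (h : m ≤ m') : F m ≤ F m' := by
  induction h with
  | refl => exact le_rfl
  | step _ ih => exact ih.trans (hF.mono _)

theorem finite (m : ℕ) : Module.Finite k (F m) := by
  apply Module.finite_of_finrank_pos
  rcases Nat.eq_zero_or_pos m with h | h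
  · subst h; rw [hF.finrank_zero]; exact one_pos
  · rw [hF.finrank_pos m h]; exact h

theorem F_one_eq : F 1 = F 0 := by
  haveI := hF.finite 1
  symm
  apply Submodule.eq_of_le_of_finrank_eq (hF.mono 0)
  rw [hF.finrank_zero, hF.finrank_pos 1 le_rfl]

theorem one_ne_zero' : (1 : A) ≠ 0 := by
  intro h
  have : Subsingleton A := subsingleton_of_zero_eq_one h.symm
  have h1 : Module.finrank k (F 0) = 0 := by
    haveI : Subsingleton (F 0) := inferInstance
    exact Module.finrank_zero_of_subsingleton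
  rw [hF.finrank_zero] at h1
  exact one_ne_zero h1

theorem F_zero_eq : F 0 = Submodule.span k {(1 : A)} := by
  haveI := hF.finite 0
  symm
  apply Submodule.eq_of_le_of_finrank_eq
  · rw [Submodule.span_singleton_le_iff_mem]; exact hF.one_mem
  · rw [hF.finrank_zero, finrank_span_singleton hF.one_ne_zero']

theorem exists_exact (m : ℕ) (hm : 1 ≤ m) : ∃ f, Exact F f m := by
  by_contra hcon
  push_neg at hcon
  have hle : F (m + 1) ≤ F m := by
    intro f hf
    by_contra hfm
    exact hcon f ⟨hf, hfm⟩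
  haveI := hF.finite m
  have h1 := Submodule.finrank_mono hle
  rw [hF.finrank_pos m hm, hF.finrank_pos (m + 1) (by omega)] at h1
  omega

theorem sup_span {m : ℕ} (hm : 1 ≤ m) {f : A} (hf : Exact F f m) :
    F (m + 1) = F m ⊔ Submodule.span k {f} := by
  haveI := hF.finite (m + 1)
  symm
  have hle : F m ⊔ Submodule.span k {f} ≤ F (m + 1) :=
    sup_le (hF.mono m) (by rw [Submodule.span_singleton_le_iff_mem]; exact hf.1)
  apply Submodule.eq_of_le_of_finrank_le hle
  rw [hF.finrank_pos (m + 1) (by omega)]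
  have hlt : F m < F m ⊔ Submodule.span k {f} := by
    refine lt_of_le_of_ne le_sup_left fun h => hf.2 ?_
    rw [h]
    exact Submodule.mem_sup_right (Submodule.mem_span_singleton_self f)
  haveI : Module.Finite k ↥(F m ⊔ Submodule.span k {f}) :=
    Module.Finite.of_injective (Submodule.inclusion hle) (Submodule.inclusion_injective hle)
  have h2 := Submodule.finrank_lt_finrank_of_lt hlt
  rw [hF.finrank_pos m hm] at h2
  omega

theorem Exact.mul {f g : A} {a b : ℕ} (hf : Exact F f a) (hg : Exact F g b) :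
    Exact F (f * g) (a + b + 1) := by
  refine ⟨?_, hF.exact_mul hf.1 hf.2 hg.1 hg.2⟩
  have := hF.mul_mem hf.1 hg.1
  have e : a + 1 + (b + 1) = a + b + 1 + 1 := by ring
  rwa [e] at this

theorem Exact.smul {f : A} {a : ℕ} (hf : Exact F f a) {c : k} (hc : c ≠ 0) :
    Exact F (c • f) a := by
  refine ⟨Submodule.smul_mem _ c hf.1, fun h => hf.2 ?_⟩
  have := Submodule.smul_mem (F a) c⁻¹ h
  rwa [smul_smul, inv_mul_cancel₀ hc, one_smul] at this

theorem Exact.pow {f : A} {a : ℕ} (hf : Exact F f a) (n : ℕ) :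
    Exact F (f ^ (n + 1)) ((n + 1) * (a + 1) - 1) := by
  induction n with
  | zero => simpa using hf
  | succ n ih =>
    have h := Exact.mul hF ih hf
    rw [pow_succ]
    have e : (n + 1) * (a + 1) - 1 + a + 1 = (n + 1 + 1) * (a + 1) - 1 := by
      have : 1 ≤ (n + 1) * (a + 1) := Nat.mul_pos (by omega) (by omega)
      have e2 : (n + 1 + 1) * (a + 1) = (n + 1) * (a + 1) + (a + 1) := by ring
      omega
    rwa [e] at h

/-- monomials have the expected exact pole order. -/
theorem Exact.monomial {x y : A} (hx : Exact F x 1) (hy : Exact F y 2) (a b : ℕ) (h : 1 ≤ a + b) :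
    Exact F (x ^ a * y ^ b) (2 * a + 3 * b - 1) := by
  rcases Nat.eq_zero_or_pos a with ha | ha
  · subst ha
    obtain ⟨b', rfl⟩ : ∃ b', b = b' + 1 := ⟨b - 1, by omega⟩
    have := Exact.pow hF hy b'
    simp only [pow_zero, one_mul]
    have e : (b' + 1) * (2 + 1) - 1 = 2 * 0 + 3 * (b' + 1) - 1 := by omega
    rwa [e] at this
  rcases Nat.eq_zero_or_pos b with hb | hb
  · subst hb
    obtain ⟨a', rfl⟩ : ∃ a', a = a' + 1 := ⟨a - 1, by omega⟩
    have := Exact.pow hF hx a'
    simp only [pow_zero, mul_one]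
    have e : (a' + 1) * (1 + 1) - 1 = 2 * (a' + 1) + 3 * 0 - 1 := by omega
    rwa [e] at this
  obtain ⟨a', rfl⟩ : ∃ a', a = a' + 1 := ⟨a - 1, by omega⟩
  obtain ⟨b', rfl⟩ : ∃ b', b = b' + 1 := ⟨b - 1, by omega⟩
  have h1 := Exact.pow hF hx a'
  have h2 := Exact.pow hF hy b'
  have h3 := Exact.mul hF h1 h2
  have e : (a' + 1) * (1 + 1) - 1 + ((b' + 1) * (2 + 1) - 1) + 1 =
      2 * (a' + 1) + 3 * (b' + 1) - 1 := by omega
  rwa [e] at h3

end IsPoleFiltration

end Part1

section Part2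


variable {k A : Type u} [Field k] [CommRing A] [Algebra k A] {F : ℕ → Submodule k A}

/-- **Weierstrass relation** in a pole filtration. -/
theorem exists_weierstrass (hF : IsPoleFiltration F) :
    ∃ (x y : A) (a₁ a₂ a₃ a₄ a₆ : k), Exact F x 1 ∧ Exact F y 2 ∧
      y ^ 2 + a₁ • (x * y) + a₃ • y = x ^ 3 + a₂ • x ^ 2 + a₄ • x + a₆ • (1 : A) := by
  obtain ⟨x₀, hx₀⟩ := hF.exists_exact 1 le_rfl
  obtain ⟨y₀, hy₀⟩ := hF.exists_exact 2 (by norm_num)
  -- `y₀² = u + c x₀³`
  have hx3 : Exact F (x₀ ^ 3) 5 := by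
    have := IsPoleFiltration.Exact.pow hF hx₀ 2
    simpa using this
  have hy2 : Exact F (y₀ ^ 2) 5 := by
    have := IsPoleFiltration.Exact.pow hF hy₀ 1
    simpa using this
  have h6 := hF.sup_span (by norm_num : 1 ≤ 5) hx3
  have hy2' : y₀ ^ 2 ∈ F 5 ⊔ Submodule.span k {x₀ ^ 3} := by rw [← h6]; exact hy2.1
  obtain ⟨u, hu, w, hw, huw⟩ := Submodule.mem_sup.mp hy2'
  obtain ⟨c, rfl⟩ := Submodule.mem_span_singleton.mp hw
  have hc : c ≠ 0 := by
    rintro rfl
    rw [zero_smul, add_zero] at huw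
    exact hy2.2 (huw ▸ hu)
  -- rescale
  have hx : Exact F (c • x₀) 1 := IsPoleFiltration.Exact.smul hF hx₀ hc
  have hy : Exact F (c • y₀) 2 := IsPoleFiltration.Exact.smul hF hy₀ hc
  have hrel : (c • y₀) ^ 2 - (c • x₀) ^ 3 = (c ^ 2) • u := by
    rw [smul_pow, smul_pow, ← huw, smul_add, smul_smul]
    have : c ^ 2 * c = c ^ 3 := by ring
    rw [this]; abel
  have hu' : (c ^ 2) • u ∈ F 5 := Submodule.smul_mem _ _ hu
  -- a basis of `F 5`
  have hxx : Exact F ((c • x₀) ^ 2) 3 := by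
    have := IsPoleFiltration.Exact.pow hF hx 1
    simpa using this
  have hxy : Exact F ((c • x₀) * (c • y₀)) 4 := IsPoleFiltration.Exact.mul hF hx hy
  have h5 := hF.sup_span (by norm_num : 1 ≤ 4) hxy
  have h4 := hF.sup_span (by norm_num : 1 ≤ 3) hxx
  have h3 := hF.sup_span (by norm_num : 1 ≤ 2) hy
  have h2 := hF.sup_span (by norm_num : 1 ≤ 1) hx
  have h1 := hF.F_one_eq
  have h0 := hF.F_zero_eq
  rw [h5] at hu'
  obtain ⟨u4, hu4, w4, hw4, e4⟩ := Submodule.mem_sup.mp hu'
  obtain ⟨α4, rfl⟩ := Submodule.mem_span_singleton.mp hw4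
  rw [h4] at hu4
  obtain ⟨u3, hu3, w3, hw3, e3⟩ := Submodule.mem_sup.mp hu4
  obtain ⟨α3, rfl⟩ := Submodule.mem_span_singleton.mp hw3
  rw [h3] at hu3
  obtain ⟨u2, hu2, w2, hw2, e2⟩ := Submodule.mem_sup.mp hu3
  obtain ⟨α2, rfl⟩ := Submodule.mem_span_singleton.mp hw2
  rw [h2] at hu2
  obtain ⟨u1, hu1, w1, hw1, e1⟩ := Submodule.mem_sup.mp hu2
  obtain ⟨α1, rfl⟩ := Submodule.mem_span_singleton.mp hw1
  rw [h1, h0] at hu1
  obtain ⟨α0, rfl⟩ := Submodule.mem_span_singleton.mp hu1
  refine ⟨c • x₀, c • y₀, -α4, α3, -α2, α1, α0, hx, hy, ?_⟩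
  have key : (c • y₀) ^ 2 - (c • x₀) ^ 3 =
      α0 • (1 : A) + α1 • (c • x₀) + α2 • (c • y₀) + α3 • (c • x₀) ^ 2 +
        α4 • ((c • x₀) * (c • y₀)) := by
    rw [hrel, ← e4, ← e3, ← e2, ← e1]
  have key' := sub_eq_iff_eq_add.mp key
  rw [key']
  simp only [neg_smul]
  abel

end Part2

section Part3


open MvPolynomial

variable {k A : Type u} [Field k] [CommRing A] [Algebra k A] {F : ℕ → Submodule k A}

/-- evaluation `T₀ ↦ x, T₁ ↦ y, T₂ ↦ 1`. -/
noncomputable def ev (x y : A) : MvPolynomial (Fin (2 + 1)) k →ₐ[k] A :=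
  MvPolynomial.aeval ![x, y, 1]

theorem ev_X0 (x y : A) : ev (k := k) x y (X 0) = x := by simp [ev]
theorem ev_X1 (x y : A) : ev (k := k) x y (X 1) = y := by simp [ev]
theorem ev_X2 (x y : A) : ev (k := k) x y (X 2) = 1 := by simp [ev]

/-- the homogeneous Weierstrass cubic. -/
noncomputable def Wpoly (a₁ a₂ a₃ a₄ a₆ : k) : MvPolynomial (Fin (2 + 1)) k :=
  X 1 ^ 2 * X 2 + C a₁ * X 0 * X 1 * X 2 + C a₃ * X 1 * X 2 ^ 2 - X 0 ^ 3 -
    C a₂ * X 0 ^ 2 * X 2 - C a₄ * X 0 * X 2 ^ 2 - C a₆ * X 2 ^ 3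

theorem ev_Wpoly (x y : A) (a₁ a₂ a₃ a₄ a₆ : k) :
    ev x y (Wpoly a₁ a₂ a₃ a₄ a₆) =
      y ^ 2 + a₁ • (x * y) + a₃ • y - (x ^ 3 + a₂ • x ^ 2 + a₄ • x + a₆ • (1 : A)) := by
  simp only [Wpoly, map_sub, map_add, map_mul, map_pow, ev_X0, ev_X1, ev_X2, one_pow, mul_one,
    Algebra.smul_def]
  have hC : ∀ c : k, ev x y (C c) = algebraMap k A c := fun c => by simp [ev]
  simp only [hC]
  ring

theorem monomial_mem (a b c : ℕ) :
    (X 0 ^ a * X 1 ^ b * X 2 ^ c : MvPolynomial (Fin (2 + 1)) k) ∈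
      homogeneousSubmodule (Fin (2 + 1)) k (a + b + c) := by
  rw [mem_homogeneousSubmodule]
  exact ((isHomogeneous_X_pow 0 a).mul (isHomogeneous_X_pow 1 b)).mul (isHomogeneous_X_pow 2 c)

theorem Wpoly_mem (a₁ a₂ a₃ a₄ a₆ : k) :
    Wpoly a₁ a₂ a₃ a₄ a₆ ∈ homogeneousSubmodule (Fin (2 + 1)) k 3 := by
  have hX : ∀ i : Fin (2 + 1), (X i : MvPolynomial (Fin (2 + 1)) k).IsHomogeneous 1 :=
    fun i => isHomogeneous_X k i
  have hC : ∀ c : k, (C c : MvPolynomial (Fin (2 + 1)) k).IsHomogeneous 0 :=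
    fun c => isHomogeneous_C _ c
  rw [mem_homogeneousSubmodule]
  unfold Wpoly
  refine (((((IsHomogeneous.add ?_ ?_).add ?_).sub ?_).sub ?_).sub ?_).sub ?_
  · exact ((hX 1).pow 2).mul (hX 2)
  · exact (((hC a₁).mul (hX 0)).mul (hX 1)).mul (hX 2)
  · exact ((hC a₃).mul (hX 1)).mul ((hX 2).pow 2)
  · exact (hX 0).pow 3
  · exact ((hC a₂).mul ((hX 0).pow 2)).mul (hX 2)
  · exact ((hC a₄).mul (hX 0)).mul ((hX 2).pow 2)
  · exact (hC a₆).mul ((hX 2).pow 3)

theorem Wpoly_ne_zero (a₁ a₂ a₃ a₄ a₆ : k) : Wpoly a₁ a₂ a₃ a₄ a₆ ≠ 0 := by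
  intro h
  have h1 := congrArg (MvPolynomial.eval (![1, 0, 0] : Fin (2 + 1) → k)) h
  simp [Wpoly] at h1

section Graded

variable (hF : IsPoleFiltration F) {x y : A} (hx : Exact F x 1) (hy : Exact F y 2)
include hF hx hy

theorem pow_mul_pow_mem (a b : ℕ) : x ^ a * y ^ b ∈ F (2 * a + 3 * b) := by
  rcases Nat.eq_zero_or_pos (a + b) with h | h
  · have ha : a = 0 := by omega
    have hb : b = 0 := by omega
    subst ha hb
    simpa using hF.one_mem
  · have := (IsPoleFiltration.Exact.monomial hF hx hy a b h).1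
    have e : 2 * a + 3 * b - 1 + 1 = 2 * a + 3 * b := by omega
    rwa [e] at this

theorem ev_monomial (d : Fin (2 + 1) →₀ ℕ) (c : k) :
    ev x y (monomial d c) = c • (x ^ d 0 * y ^ d 1) := by
  rw [ev, aeval_monomial, Finsupp.prod_fintype _ _ (fun i => by simp), Fin.prod_univ_three,
    Algebra.smul_def]
  simp

theorem ev_mem_of_isHomogeneous {n : ℕ} {P : MvPolynomial (Fin (2 + 1)) k}
    (hP : P.IsHomogeneous n) : ev x y P ∈ F (3 * n) := by
  rw [← P.support_sum_monomial_coeff, map_sum]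
  refine Submodule.sum_mem _ fun d hd => ?_
  rw [ev_monomial hF hx hy]
  refine Submodule.smul_mem _ _ ?_
  have hdeg : d.degree = n := by
    have := hP (mem_support_iff.mp hd)
    rw [Finsupp.degree_eq_weight_one]
    exact this
  have h3 : d 0 + d 1 + d 2 = n := by
    rw [← hdeg, Finsupp.degree_eq_sum, Fin.sum_univ_three]
  exact hF.mono_le (by omega) (pow_mul_pow_mem hF hx hy (d 0) (d 1))

theorem le_map_ev (n : ℕ) (hn : 1 ≤ n) (m : ℕ) (hm : m ≤ 3 * n) :
    F m ≤ Submodule.map (ev x y).toLinearMap (homogeneousSubmodule (Fin (2 + 1)) k n) := by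
  induction m with
  | zero =>
    rw [hF.F_zero_eq, Submodule.span_singleton_le_iff_mem]
    refine ⟨X 2 ^ n, ?_, ?_⟩
    · have := monomial_mem (k := k) 0 0 n
      simpa using this
    · change ev x y (X 2 ^ n) = 1
      rw [map_pow, ev_X2, one_pow]
  | succ m ih =>
    have ih' := ih (by omega)
    rcases Nat.eq_zero_or_pos m with h0 | h0
    · subst h0
      rw [hF.F_one_eq]; exact ih'
    obtain ⟨a, b, hab, hle⟩ : ∃ a b : ℕ, 2 * a + 3 * b = m + 1 ∧ a + b ≤ n := by
      by_cases h1 : m + 1 ≤ 2 * n + 1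
      · rcases Nat.even_or_odd' (m + 1) with ⟨c, hc | hc⟩
        · exact ⟨c, 0, by omega, by omega⟩
        · exact ⟨c - 1, 1, by omega, by omega⟩
      · exact ⟨3 * n - (m + 1), n - (3 * n - (m + 1)), by omega, by omega⟩
    have hex := IsPoleFiltration.Exact.monomial hF hx hy a b (by omega)
    have e : 2 * a + 3 * b - 1 = m := by omega
    rw [e] at hex
    rw [hF.sup_span h0 hex]
    refine sup_le ih' ?_
    rw [Submodule.span_singleton_le_iff_mem]
    refine ⟨X 0 ^ a * X 1 ^ b * X 2 ^ (n - (a + b)), ?_, ?_⟩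
    · have := monomial_mem (k := k) a b (n - (a + b))
      have e2 : a + b + (n - (a + b)) = n := by omega
      rwa [e2] at this
    · change ev x y (X 0 ^ a * X 1 ^ b * X 2 ^ (n - (a + b))) = _
      simp only [map_mul, map_pow, ev_X0, ev_X1, ev_X2, one_pow, mul_one]

/-- **the graded pieces**: forms of degree `n` evaluate onto `F (3n)`. -/
theorem map_ev_eq (n : ℕ) (hn : 1 ≤ n) :
    Submodule.map (ev x y).toLinearMap (homogeneousSubmodule (Fin (2 + 1)) k n) = F (3 * n) := by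
  apply le_antisymm
  · rintro _ ⟨P, hP, rfl⟩
    exact ev_mem_of_isHomogeneous hF hx hy ((mem_homogeneousSubmodule _ _).mp hP)
  · exact le_map_ev hF hx hy n hn (3 * n) le_rfl

end Graded

end Part3

section Part4



open MvPolynomial

variable {k A : Type u} [Field k] [CommRing A] [Algebra k A] {F : ℕ → Submodule k A}

theorem choose_aux (n : ℕ) : Nat.choose (n + 3 + 2) 2 = Nat.choose (n + 2) 2 + 3 * (n + 3) := by
  induction n with
  | zero => decide
  | succ n ih =>
    have h1 : Nat.choose (n + 1 + 3 + 2) 2 = Nat.choose (n + 3 + 2) 1 + Nat.choose (n + 3 + 2) 2 :=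
      Nat.choose_succ_succ _ _
    have h2 : Nat.choose (n + 1 + 2) 2 = Nat.choose (n + 2) 1 + Nat.choose (n + 2) 2 :=
      Nat.choose_succ_succ _ _
    rw [Nat.choose_one_right] at h1 h2
    omega

/-- the evaluation map on forms of degree `n`. -/
noncomputable def Ψ (x y : A) (n : ℕ) : homogeneousSubmodule (Fin (2 + 1)) k n →ₗ[k] A :=
  (ev x y).toLinearMap.comp (Submodule.subtype _)

theorem finite_homogeneousSubmodule (n : ℕ) :
    Module.Finite k (homogeneousSubmodule (Fin (2 + 1)) k n) := by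
  apply Module.finite_of_finrank_pos
  rw [Groth.Agent.Lib.R2H2.PnEuler.finrank_homogeneousSubmodule k 2 n]
  exact Nat.choose_pos (by omega)

variable (hF : IsPoleFiltration F) {x y : A} (hx : Exact F x 1) (hy : Exact F y 2)
include hF hx hy

theorem range_Ψ (n : ℕ) (hn : 1 ≤ n) : LinearMap.range (Ψ (k := k) x y n) = F (3 * n) := by
  rw [← map_ev_eq hF hx hy n hn, Ψ, LinearMap.range_comp, Submodule.range_subtype]

theorem finrank_ker_Ψ (n : ℕ) (hn : 1 ≤ n) :
    Module.finrank k (LinearMap.ker (Ψ (k := k) x y n)) + 3 * n = Nat.choose (n + 2) 2 := by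
  haveI := finite_homogeneousSubmodule (k := k) n
  have h1 := LinearMap.finrank_range_add_finrank_ker (Ψ (k := k) x y n)
  rw [range_Ψ hF hx hy n hn, hF.finrank_pos (3 * n) (by omega),
    Groth.Agent.Lib.R2H2.PnEuler.finrank_homogeneousSubmodule k 2 n] at h1
  omega

/-- **the kernel of evaluation on forms is generated by the Weierstrass cubic**. -/
theorem dvd_of_ev_eq_zero {a₁ a₂ a₃ a₄ a₆ : k}
    (hrel : y ^ 2 + a₁ • (x * y) + a₃ • y = x ^ 3 + a₂ • x ^ 2 + a₄ • x + a₆ • (1 : A))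
    (n : ℕ) (P : MvPolynomial (Fin (2 + 1)) k) (hP : P ∈ homogeneousSubmodule (Fin (2 + 1)) k n)
    (h0 : ev x y P = 0) : Wpoly a₁ a₂ a₃ a₄ a₆ ∣ P := by
  have hW0 : ev x y (Wpoly a₁ a₂ a₃ a₄ a₆) = 0 := by
    rw [ev_Wpoly, hrel, sub_self]
  rcases Nat.eq_zero_or_pos n with hn | hn
  · subst hn
    rw [mem_homogeneousSubmodule] at hP
    obtain ⟨c, rfl⟩ : ∃ c : k, P = C c := ⟨coeff 0 P, (totalDegree_eq_zero_iff_eq_C.mp
      (Nat.le_zero.mp hP.totalDegree_le))⟩
    have h1 : ev x y (C c) = c • (1 : A) := by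
      simp [ev, Algebra.smul_def]
    rw [h1] at h0
    have hc : c = 0 := by
      by_contra hc
      have : (1 : A) = 0 := by
        have := congrArg (fun z => c⁻¹ • z) h0
        simpa [smul_smul, inv_mul_cancel₀ hc] using this
      exact hF.one_ne_zero' this
    rw [hc, map_zero]
    exact dvd_zero _
  have hker := finrank_ker_Ψ hF hx hy n hn
  haveI := finite_homogeneousSubmodule (k := k) n
  have hPk : (⟨P, hP⟩ : homogeneousSubmodule (Fin (2 + 1)) k n) ∈ LinearMap.ker (Ψ (k := k) x y n) :=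
    h0
  by_cases hn3 : n < 3
  · -- the kernel is zero
    have hz : Module.finrank k (LinearMap.ker (Ψ (k := k) x y n)) = 0 := by
      have hc : Nat.choose (n + 2) 2 = 3 * n := by
        interval_cases n <;> decide
      omega
    have hbot : LinearMap.ker (Ψ (k := k) x y n) = ⊥ := Submodule.finrank_eq_zero.mp hz
    rw [hbot, Submodule.mem_bot] at hPk
    have : P = 0 := congrArg Subtype.val hPk
    rw [this]; exact dvd_zero _
  · obtain ⟨n', rfl⟩ : ∃ n', n = n' + 3 := ⟨n - 3, by omega⟩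
    -- multiplication by `W`
    let μ : homogeneousSubmodule (Fin (2 + 1)) k n' →ₗ[k]
        homogeneousSubmodule (Fin (2 + 1)) k (n' + 3) :=
      { toFun := fun Q => ⟨Q.1 * Wpoly a₁ a₂ a₃ a₄ a₆, by
          have h1 := (mem_homogeneousSubmodule _ _).mp (Wpoly_mem a₁ a₂ a₃ a₄ a₆)
          have h2 := (mem_homogeneousSubmodule _ _).mp Q.2
          rw [mem_homogeneousSubmodule]
          exact h2.mul h1⟩
        map_add' := fun Q Q' => by
          apply Subtype.ext
          simp [add_mul]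
        map_smul' := fun c Q => by
          apply Subtype.ext
          simp [smul_mul_assoc] }
    have hμinj : Function.Injective μ := by
      intro Q Q' h
      have h1 : Q.1 * Wpoly a₁ a₂ a₃ a₄ a₆ = Q'.1 * Wpoly a₁ a₂ a₃ a₄ a₆ :=
        congrArg Subtype.val h
      exact Subtype.ext (mul_right_cancel₀ (Wpoly_ne_zero a₁ a₂ a₃ a₄ a₆) h1)
    have hle : LinearMap.range μ ≤ LinearMap.ker (Ψ (k := k) x y (n' + 3)) := by
      rintro _ ⟨Q, rfl⟩
      change ev x y (Q.1 * Wpoly a₁ a₂ a₃ a₄ a₆) = 0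
      rw [map_mul, hW0, mul_zero]
    have hfr : Module.finrank k (LinearMap.range μ) = Nat.choose (n' + 2) 2 := by
      rw [LinearMap.finrank_range_of_inj hμinj,
        Groth.Agent.Lib.R2H2.PnEuler.finrank_homogeneousSubmodule k 2 n']
    have heq : LinearMap.range μ = LinearMap.ker (Ψ (k := k) x y (n' + 3)) := by
      apply Submodule.eq_of_le_of_finrank_le hle
      rw [hfr]
      have := choose_aux n'
      omega
    rw [← heq] at hPk
    obtain ⟨Q, hQ⟩ := hPk
    exact Dvd.intro_left Q.1 (congrArg Subtype.val hQ)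

end Part4

end Groth.Agent.Lib.R2H1.WeierAlg
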